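import Mathlib
import Cfsg.Prelude.Def_Solvable
import Cfsg.Agent.Lib.Helper1.FrobeniusCount

/-!
# Constructing Frobenius groups from free actions

* `isFrobeniusComplement_inr_range`: if `H` acts freely by automorphisms on `N`, then `H` is a
  Frobenius complement in `N ⋊ H`.
* `IsFrobeniusComplement.map_equiv`: transport along a `MulEquiv`.
* `exists_small_model`: every finite group is isomorphic to a group living in `Type`.
* `exists_frobenius_of_free_action`: the packaged existence statement.
-/

set_option autoImplicit false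
open Cfsg

universe u v

namespace Cfsg.Agent.Lib.Helper3

open SemidirectProduct
open scoped Pointwise

section constr
variable {N : Type u} {H : Type v} [Group N] [Group H] (φ : H →* MulAut N)

theorem mem_range_inr_iff (x : N ⋊[φ] H) :
    x ∈ (inr : H →* N ⋊[φ] H).range ↔ x.left = 1 := by
  constructor
  · rintro ⟨h, rfl⟩
    rfl
  · intro hx
    refine ⟨x.right, ?_⟩
    ext
    · simp [hx]
    · simp

theorem isFrobeniusComplement_inr_range [Nontrivial N] [Nontrivial H]
    (hfree : ∀ h : H, h ≠ 1 → ∀ v : N, φ h v = v → v = 1) :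
    Cfsg.IsFrobeniusComplement (inr : H →* N ⋊[φ] H).range := by
  refine ⟨?_, ?_, ?_⟩
  · intro hbot
    obtain ⟨h, hh⟩ := exists_ne (1 : H)
    have h1 : (inr h : N ⋊[φ] H) ∈ (inr : H →* N ⋊[φ] H).range := ⟨h, rfl⟩
    rw [hbot, Subgroup.mem_bot] at h1
    apply hh
    have := congrArg SemidirectProduct.right h1
    simpa using this
  · intro htop
    obtain ⟨n, hn⟩ := exists_ne (1 : N)
    have h1 : (inl n : N ⋊[φ] H) ∈ (inr : H →* N ⋊[φ] H).range := by rw [htop]; trivial
    rw [mem_range_inr_iff] at h1
    exact hn (by simpa using h1)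
  · intro g hg
    rw [mem_range_inr_iff] at hg
    rw [Subgroup.eq_bot_iff_forall]
    intro x hx
    obtain ⟨hx1, hx2⟩ := Subgroup.mem_inf.1 hx
    rw [Cfsg.Agent.Lib.Helper1.mem_conj_smul_iff', mem_range_inr_iff] at hx2
    rw [mem_range_inr_iff] at hx1
    -- left component of `g⁻¹ * x * g`
    have h2 : (g⁻¹ * x * g).left = φ g.right⁻¹ (g.left⁻¹ * φ x.right g.left) := by
      simp only [mul_left, mul_right, inv_left, inv_right, hx1, map_mul, map_one, mul_one]
      simp
    rw [h2] at hx2
    have h3 : g.left⁻¹ * φ x.right g.left = 1 := by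
      have := congrArg (φ g.right) hx2
      simpa using this
    have h4 : φ x.right g.left = g.left := by
      have := congrArg (fun t => g.left * t) h3
      simpa using this
    by_contra hx0
    have hxr : x.right ≠ 1 := by
      intro h1
      apply hx0
      ext
      · simpa using hx1
      · simpa using h1
    exact hg (hfree _ hxr _ h4)

theorem card_frobeniusKernel_inr_range [Finite N] [Finite H] [Nontrivial N] [Nontrivial H]
    (hfree : ∀ h : H, h ≠ 1 → ∀ v : N, φ h v = v → v = 1) :
    Nat.card (Cfsg.frobeniusKernel (inr : H →* N ⋊[φ] H).range) = Nat.card N := by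
  haveI : Finite (N ⋊[φ] H) := Finite.of_equiv _ (equivProd (φ := φ)).symm
  rw [Cfsg.Agent.Lib.Helper1.card_frobeniusKernel (isFrobeniusComplement_inr_range φ hfree)]
  have h1 := (inr : H →* N ⋊[φ] H).range.card_mul_index
  have h2 : Nat.card (inr : H →* N ⋊[φ] H).range = Nat.card H :=
    (Nat.card_congr (MonoidHom.ofInjective (inr_injective (φ := φ))).toEquiv).symm
  rw [h2, SemidirectProduct.card] at h1
  have hH : 0 < Nat.card H := Nat.card_pos
  exact Nat.eq_of_mul_eq_mul_left hH (by rw [h1, mul_comm])

end constr

section transport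
variable {L : Type u} {L' : Type v} [Group L] [Group L']

theorem isFrobeniusComplement_map_equiv {H : Subgroup L} (hH : Cfsg.IsFrobeniusComplement H)
    (f : L ≃* L') : Cfsg.IsFrobeniusComplement (H.map f.toMonoidHom) := by
  obtain ⟨h1, h2, h3⟩ := hH
  refine ⟨?_, ?_, ?_⟩
  · intro hbot
    apply h1
    rw [Subgroup.eq_bot_iff_forall]
    intro x hx
    have : f x ∈ H.map f.toMonoidHom := ⟨x, hx, rfl⟩
    rw [hbot, Subgroup.mem_bot] at this
    exact f.injective (by rw [this, map_one])
  · intro htop
    apply h2
    rw [eq_top_iff]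
    intro x _
    have : f x ∈ H.map f.toMonoidHom := by rw [htop]; trivial
    obtain ⟨y, hy, hxy⟩ := this
    have : y = x := f.injective hxy
    rwa [← this]
  · intro g' hg'
    obtain ⟨g, rfl⟩ := f.surjective g'
    have hg : g ∉ H := fun hg => hg' ⟨g, hg, rfl⟩
    rw [Subgroup.eq_bot_iff_forall]
    intro x hx
    obtain ⟨hx1, hx2⟩ := Subgroup.mem_inf.1 hx
    rw [Cfsg.Agent.Lib.Helper1.mem_conj_smul_iff'] at hx2
    obtain ⟨y, hy, rfl⟩ := hx1
    obtain ⟨z, hz, hzy⟩ := hx2
    have hzy' : z = g⁻¹ * y * g := by
      apply f.injective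
      change f z = f (g⁻¹ * y * g)
      rw [map_mul, map_mul, map_inv]
      exact hzy
    have : y ∈ H ⊓ MulAut.conj g • H := by
      refine Subgroup.mem_inf.2 ⟨hy, ?_⟩
      rw [Cfsg.Agent.Lib.Helper1.mem_conj_smul_iff', ← hzy']
      exact hz
    rw [h3 g hg, Subgroup.mem_bot] at this
    change f y = 1
    rw [this, map_one]

theorem card_frobeniusKernel_map_equiv (H : Subgroup L) (f : L ≃* L') :
    Nat.card (Cfsg.frobeniusKernel (H.map f.toMonoidHom)) = Nat.card (Cfsg.frobeniusKernel H) := by
  symm
  refine Nat.card_congr (Equiv.subtypeEquiv f.toEquiv ?_)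
  intro x
  have key : ∀ g : L, (f x ∈ MulAut.conj (f g) • H.map f.toMonoidHom) ↔ x ∈ MulAut.conj g • H := by
    intro g
    rw [Cfsg.Agent.Lib.Helper1.mem_conj_smul_iff', Cfsg.Agent.Lib.Helper1.mem_conj_smul_iff']
    constructor
    · rintro ⟨z, hz, hzy⟩
      have : z = g⁻¹ * x * g := by
        apply f.injective
        change f z = f (g⁻¹ * x * g)
        rw [map_mul, map_mul, map_inv]
        exact hzy
      rwa [← this]
    · intro h
      refine ⟨g⁻¹ * x * g, h, ?_⟩
      change f (g⁻¹ * x * g) = _
      rw [map_mul, map_mul, map_inv]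
  constructor
  · rintro (h | h)
    · left
      change f x = 1
      rw [h, map_one]
    · right
      intro g'
      obtain ⟨g, rfl⟩ := f.surjective g'
      change f x ∉ _
      rw [key]
      exact h g
  · rintro (h | h)
    · left
      apply f.injective
      change f x = f 1
      rw [map_one]
      exact h
    · right
      intro g
      rw [← key]
      exact h (f g)

end transport

/-- A copy of `Fin n` without any algebraic structure. -/
def SmallCarrier (n : ℕ) : Type := Fin n

instance (n : ℕ) : Finite (SmallCarrier n) := inferInstanceAs (Finite (Fin n))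

/-- Every finite group has an isomorphic copy living in `Type`. -/
theorem exists_small_model (L : Type u) [Group L] [Finite L] :
    ∃ (L' : Type) (_ : Group L') (_ : Finite L'), Nonempty (L ≃* L') := by
  classical
  obtain ⟨n, ⟨e⟩⟩ := Finite.exists_equiv_fin L
  let e' : SmallCarrier n ≃ L := e.symm
  letI : Group (SmallCarrier n) := e'.group
  exact ⟨SmallCarrier n, inferInstance, inferInstance, ⟨(e'.mulEquiv).symm⟩⟩

/-- Packaged version: a free action by automorphisms of a finite nontrivial group `H` on a finite
nontrivial group `N` gives a Frobenius group in `Type` with complement isomorphic to `H` and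
kernel of size `|N|`. -/
theorem exists_frobenius_of_free_action {N : Type u} {H : Type v} [Group N] [Group H]
    [Finite N] [Finite H] [Nontrivial N] [Nontrivial H] (φ : H →* MulAut N)
    (hfree : ∀ h : H, h ≠ 1 → ∀ v : N, φ h v = v → v = 1) :
    ∃ (L : Type) (_ : Group L) (_ : Finite L) (C : Subgroup L), Cfsg.IsFrobeniusComplement C ∧
      Nonempty (H ≃* C) ∧ Nat.card (Cfsg.frobeniusKernel C) = Nat.card N := by
  haveI : Finite (N ⋊[φ] H) := Finite.of_equiv _ (equivProd (φ := φ)).symm
  obtain ⟨L', hG, hF, ⟨f⟩⟩ := exists_small_model (N ⋊[φ] H)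
  refine ⟨L', hG, hF, (inr : H →* N ⋊[φ] H).range.map f.toMonoidHom,
    isFrobeniusComplement_map_equiv (isFrobeniusComplement_inr_range φ hfree) f, ?_, ?_⟩
  · exact ⟨(MonoidHom.ofInjective (inr_injective (φ := φ))).trans
      (f.subgroupMap (inr : H →* N ⋊[φ] H).range)⟩
  · rw [card_frobeniusKernel_map_equiv, card_frobeniusKernel_inr_range φ hfree]

/-- The automorphisms of `Multiplicative V` induced by a distributive action on `V`. -/
def distribMulAut (H : Type v) (V : Type u) [Group H] [AddGroup V] [DistribMulAction H V] :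
    H →* MulAut (Multiplicative V) :=
  (MulAutMultiplicative V).symm.toMonoidHom.comp (DistribMulAction.toAddAut H V)

theorem distribMulAut_apply {H : Type v} {V : Type u} [Group H] [AddGroup V] [DistribMulAction H V]
    (h : H) (x : Multiplicative V) :
    distribMulAut H V h x = Multiplicative.ofAdd (h • Multiplicative.toAdd x) := rfl

/-- A free distributive action of a finite nontrivial group `H` on a finite nontrivial additive
group `V` gives a Frobenius group in `Type` with complement `≃* H` and kernel of size `|V|`. -/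
theorem exists_frobenius_of_distribMulAction {H : Type v} {V : Type u} [Group H] [AddGroup V]
    [DistribMulAction H V] [Finite H] [Finite V] [Nontrivial H] [Nontrivial V]
    (hfree : ∀ h : H, h ≠ 1 → ∀ x : V, h • x = x → x = 0) :
    ∃ (L : Type) (_ : Group L) (_ : Finite L) (C : Subgroup L), Cfsg.IsFrobeniusComplement C ∧
      Nonempty (H ≃* C) ∧ Nat.card (Cfsg.frobeniusKernel C) = Nat.card V := by
  have := exists_frobenius_of_free_action (N := Multiplicative V) (distribMulAut H V) (by
    intro h hh x hx
    rw [distribMulAut_apply] at hx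
    have h1 : h • Multiplicative.toAdd x = Multiplicative.toAdd x := by
      have := congrArg Multiplicative.toAdd hx
      simpa using this
    have h2 := hfree h hh _ h1
    apply Multiplicative.toAdd.injective
    simpa using h2)
  obtain ⟨L, hG, hF, C, h1, h2, h3⟩ := this
  refine ⟨L, hG, hF, C, h1, h2, ?_⟩
  rw [h3]
  exact Nat.card_congr Multiplicative.toAdd

end Cfsg.Agent.Lib.Helper3
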