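import Mathlib

/-!
# Homomorphisms out of the generalized quaternion groups

`quatLift n A X hA hX hXA : QuaternionGroup n →* M` for elements `A X` of a group `M` with
`A ^ (2 n) = 1`, `X * X = A ^ n`, `X * A * X⁻¹ = A⁻¹`.
-/

set_option autoImplicit false

namespace Cfsg.Agent.Lib.Helper3

section
variable {M : Type*} [Group M] (n : ℕ) [NeZero n]

/-- Powers of `A` indexed by `ZMod (2 n)`. -/
def zmodPw (A : M) (i : ZMod (2 * n)) : M := A ^ i.val

variable {n}

theorem zmodPw_add {A : M} (hA : A ^ (2 * n) = 1) (i j : ZMod (2 * n)) :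
    zmodPw n A (i + j) = zmodPw n A i * zmodPw n A j := by
  unfold zmodPw
  rw [ZMod.val_add, ← pow_add, ← pow_eq_pow_mod _ hA]

theorem zmodPw_zero (A : M) : zmodPw n A 0 = 1 := by
  unfold zmodPw
  rw [ZMod.val_zero, pow_zero]

theorem zmodPw_natCast {A : M} (hA : A ^ (2 * n) = 1) (k : ℕ) :
    zmodPw n A (k : ZMod (2 * n)) = A ^ k := by
  unfold zmodPw
  rw [ZMod.val_natCast, ← pow_eq_pow_mod _ hA]

theorem zmodPw_neg {A : M} (hA : A ^ (2 * n) = 1) (i : ZMod (2 * n)) :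
    zmodPw n A (-i) = (zmodPw n A i)⁻¹ := by
  have h : zmodPw n A (-i) * zmodPw n A i = 1 := by
    rw [← zmodPw_add hA, neg_add_cancel, zmodPw_zero]
  exact eq_inv_of_mul_eq_one_left h

theorem zmodPw_conj {A X : M} (hA : A ^ (2 * n) = 1) (hXA : X * A * X⁻¹ = A⁻¹)
    (i : ZMod (2 * n)) : X * zmodPw n A i * X⁻¹ = zmodPw n A (-i) := by
  rw [zmodPw_neg hA]
  unfold zmodPw
  rw [← conj_pow, hXA, inv_pow]

theorem zmodPw_mul_X {A X : M} (hA : A ^ (2 * n) = 1) (hXA : X * A * X⁻¹ = A⁻¹)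
    (i : ZMod (2 * n)) : zmodPw n A i * X = X * zmodPw n A (-i) := by
  have h := zmodPw_conj hA hXA (-i)
  rw [neg_neg] at h
  rw [← h]
  group

variable (n)

/-- The function underlying `quatLift`. -/
def quatLiftFun (A X : M) : QuaternionGroup n → M
  | QuaternionGroup.a i => zmodPw n A i
  | QuaternionGroup.xa i => X * zmodPw n A i

/-- The homomorphism `QuaternionGroup n →* M` with `a 1 ↦ A`, `xa 0 ↦ X`. -/
def quatLift (A X : M) (hA : A ^ (2 * n) = 1) (hX : X * X = A ^ n) (hXA : X * A * X⁻¹ = A⁻¹) :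
    QuaternionGroup n →* M where
  toFun := quatLiftFun n A X
  map_one' := by
    show quatLiftFun n A X (QuaternionGroup.a 0) = 1
    exact zmodPw_zero A
  map_mul' := by
    rintro (i | i) (j | j)
    · show zmodPw n A (i + j) = zmodPw n A i * zmodPw n A j
      exact zmodPw_add hA i j
    · show X * zmodPw n A (j - i) = zmodPw n A i * (X * zmodPw n A j)
      rw [← mul_assoc, zmodPw_mul_X hA hXA, mul_assoc, ← zmodPw_add hA, neg_add_eq_sub]
    · show X * zmodPw n A (i + j) = X * zmodPw n A i * zmodPw n A j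
      rw [zmodPw_add hA, mul_assoc]
    · show zmodPw n A ((n : ZMod (2 * n)) + j - i) = X * zmodPw n A i * (X * zmodPw n A j)
      rw [mul_assoc, ← mul_assoc (zmodPw n A i), zmodPw_mul_X hA hXA, mul_assoc, ← mul_assoc X X,
        hX, ← zmodPw_add hA, neg_add_eq_sub, add_sub_assoc, zmodPw_add hA, zmodPw_natCast hA]

theorem quatLift_a (A X : M) (hA : A ^ (2 * n) = 1) (hX : X * X = A ^ n)
    (hXA : X * A * X⁻¹ = A⁻¹) (i : ZMod (2 * n)) :
    quatLift n A X hA hX hXA (QuaternionGroup.a i) = zmodPw n A i := rfl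

theorem quatLift_xa (A X : M) (hA : A ^ (2 * n) = 1) (hX : X * X = A ^ n)
    (hXA : X * A * X⁻¹ = A⁻¹) (i : ZMod (2 * n)) :
    quatLift n A X hA hX hXA (QuaternionGroup.xa i) = X * zmodPw n A i := rfl

theorem quatLift_a_natCast (A X : M) (hA : A ^ (2 * n) = 1) (hX : X * X = A ^ n)
    (hXA : X * A * X⁻¹ = A⁻¹) (k : ℕ) :
    quatLift n A X hA hX hXA (QuaternionGroup.a (k : ZMod (2 * n))) = A ^ k := by
  rw [quatLift_a, zmodPw_natCast hA]

end

end Cfsg.Agent.Lib.Helper3
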