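import Mathlib
import Cfsg.Prelude.Def_Local
import Cfsg.Prelude.Def_CaseTheorems
import Cfsg.Agent.Lib.Helper1.PLengthOne

set_option autoImplicit false

namespace Cfsg.Agent.Lib.Helper3

/-- `O_{p'}` is preserved by isomorphisms. -/
theorem pPrimeCore_map_equiv {A B : Type*} [Group A] [Group B] (p : ℕ) (e : A ≃* B) :
    (Cfsg.pPrimeCore p A).map e.toMonoidHom = Cfsg.pPrimeCore p B := by
  have h := OrderIso.map_sSup e.mapSubgroup {N : Subgroup A | N.Normal ∧ (Nat.card N).Coprime p}
  change (Cfsg.pPrimeCore p A).map e.toMonoidHom = _ at h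
  rw [h, Cfsg.pPrimeCore]
  apply le_antisymm
  · apply iSup₂_le
    rintro N ⟨hN, hc⟩
    apply le_sSup
    refine ⟨hN.map _ e.surjective, ?_⟩
    change (Nat.card (N.map e.toMonoidHom)).Coprime p
    rw [Subgroup.card_map_of_injective e.injective]
    exact hc
  · apply sSup_le
    rintro M ⟨hM, hc⟩
    have hMe : e.mapSubgroup (M.comap e.toMonoidHom) = M :=
      Subgroup.map_comap_eq_self_of_surjective e.surjective M
    rw [← hMe]
    refine le_iSup₂ (f := fun N (_ : N ∈ {N : Subgroup A | N.Normal ∧ (Nat.card N).Coprime p}) => e.mapSubgroup N) (M.comap e.toMonoidHom) ⟨hM.comap _, ?_⟩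
    have : Nat.card (M.comap e.toMonoidHom) = Nat.card M := by
      rw [← Subgroup.card_map_of_injective (f := e.toMonoidHom) e.injective]
      rw [Subgroup.map_comap_eq_self_of_surjective e.surjective M]
    rw [this]
    exact hc

/-- `O_p` is preserved by isomorphisms. -/
theorem pCore_map_equiv {A B : Type*} [Group A] [Group B] (p : ℕ) (e : A ≃* B) :
    (Cfsg.pCore p A).map e.toMonoidHom = Cfsg.pCore p B := by
  have h := OrderIso.map_sSup e.mapSubgroup {N : Subgroup A | N.Normal ∧ IsPGroup p N}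
  change (Cfsg.pCore p A).map e.toMonoidHom = _ at h
  rw [h, Cfsg.pCore]
  apply le_antisymm
  · apply iSup₂_le
    rintro N ⟨hN, hc⟩
    apply le_sSup
    refine ⟨hN.map _ e.surjective, ?_⟩
    exact hc.map e.toMonoidHom
  · apply sSup_le
    rintro M ⟨hM, hc⟩
    have hMe : e.mapSubgroup (M.comap e.toMonoidHom) = M :=
      Subgroup.map_comap_eq_self_of_surjective e.surjective M
    rw [← hMe]
    refine le_iSup₂ (f := fun N (_ : N ∈ {N : Subgroup A | N.Normal ∧ IsPGroup p N}) => e.mapSubgroup N) (M.comap e.toMonoidHom) ⟨hM.comap _, ?_⟩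
    exact hc.comap_of_injective e.toMonoidHom e.injective

theorem upperPSeries_succ_even (p : ℕ) (G : Type*) [Group G] (n : ℕ) (hn : Even n) :
    (Cfsg.upperPSeries p G (n + 1)).1 =
      (Cfsg.pPrimeCore p (G ⧸ (Cfsg.upperPSeries p G n).1)).comap (QuotientGroup.mk' _) := by
  rw [Cfsg.upperPSeries]
  simp only [hn, if_true]

theorem upperPSeries_succ_odd (p : ℕ) (G : Type*) [Group G] (n : ℕ) (hn : ¬ Even n) :
    (Cfsg.upperPSeries p G (n + 1)).1 =
      (Cfsg.pCore p (G ⧸ (Cfsg.upperPSeries p G n).1)).comap (QuotientGroup.mk' _) := by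
  rw [Cfsg.upperPSeries]
  simp only [hn, if_false]

theorem upperPSeries_zero (p : ℕ) (G : Type*) [Group G] : (Cfsg.upperPSeries p G 0).1 = ⊥ := by
  rw [Cfsg.upperPSeries]

/-- Transport of the comap of `O_{p'}` of a quotient along equality of the normal subgroup. -/
theorem comap_pPrimeCore_congr (p : ℕ) {G : Type*} [Group G] (U N : Subgroup G) [U.Normal] [N.Normal]
    (h : U = N) :
    (Cfsg.pPrimeCore p (G ⧸ U)).comap (QuotientGroup.mk' U) =
      (Cfsg.pPrimeCore p (G ⧸ N)).comap (QuotientGroup.mk' N) := by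
  subst h
  rfl

theorem comap_pCore_congr (p : ℕ) {G : Type*} [Group G] (U N : Subgroup G) [U.Normal] [N.Normal]
    (h : U = N) :
    (Cfsg.pCore p (G ⧸ U)).comap (QuotientGroup.mk' U) =
      (Cfsg.pCore p (G ⧸ N)).comap (QuotientGroup.mk' N) := by
  subst h
  rfl

theorem upperPSeries_one (p : ℕ) (G : Type*) [Group G] :
    (Cfsg.upperPSeries p G 1).1 = Cfsg.pPrimeCore p G := by
  rw [upperPSeries_succ_even p G 0 (by decide)]
  rw [comap_pPrimeCore_congr p _ ⊥ (upperPSeries_zero p G)]
  have h := pPrimeCore_map_equiv p (QuotientGroup.quotientBot (G := G))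
  rw [← h]
  ext x
  rw [Subgroup.mem_comap, Subgroup.mem_map_equiv]
  rfl

theorem upperPSeries_two (p : ℕ) (G : Type*) [Group G] :
    (Cfsg.upperPSeries p G 2).1 = Cfsg.pPrimePCore p G := by
  rw [upperPSeries_succ_odd p G 1 (by decide)]
  rw [comap_pCore_congr p _ (Cfsg.pPrimeCore p G) (upperPSeries_one p G)]
  rfl

/-- `G` has `p`-length at most one as soon as `O_{p',p}(G)` has index prime to `p`. -/
theorem pLengthLE_one_of_index_coprime (p : ℕ) (G : Type*) [Group G] [Finite G]
    (h : (Cfsg.pPrimePCore p G).index.Coprime p) : Cfsg.PLengthLE p 1 G := by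
  change (Cfsg.upperPSeries p G 3).1 = ⊤
  rw [upperPSeries_succ_even p G 2 (by decide)]
  haveI hn : (Cfsg.pPrimePCore p G).Normal := by
    rw [← upperPSeries_two]; infer_instance
  rw [comap_pPrimeCore_congr p _ (Cfsg.pPrimePCore p G) (upperPSeries_two p G)]
  have : Cfsg.pPrimeCore p (G ⧸ Cfsg.pPrimePCore p G) = ⊤ := by
    rw [eq_top_iff]
    apply Cfsg.Agent.Lib.Helper1.le_pPrimeCore Subgroup.normal_top
    rw [Subgroup.card_top]
    rw [← Subgroup.index_eq_card]
    exact h
  rw [this, Subgroup.comap_top]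

end Cfsg.Agent.Lib.Helper3
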