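import Mathlib
import Cfsg.Prelude.Def_Local
import Cfsg.Agent.Lib.Helper1.MinimalNormal
import Cfsg.Agent.Lib.Helper2.MinNormal

set_option autoImplicit false

namespace Cfsg.Agent.Lib.Helper3

universe u

/-- Lifting a `p`-solvable chain of a quotient `G ⧸ M` where `M` is a `p`-group or a `p'`-group. -/
theorem isPSolvable_of_quotient {G : Type*} [Group G] [Finite G] (p : ℕ)
    (M : Subgroup G) [M.Normal]
    (hM : (∃ m : ℕ, Nat.card M = p ^ m) ∨ (Nat.card M).Coprime p)
    (hq : Cfsg.IsPSolvable p (G ⧸ M)) : Cfsg.IsPSolvable p G := by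
  obtain ⟨n, H, h0, hlast, hmono, hnorm, hfac⟩ := hq
  have hsurj := QuotientGroup.mk'_surjective M
  refine ⟨n + 1, Fin.cons ⊥ (fun i => (H i).comap (QuotientGroup.mk' M)), ?_, ?_, ?_, ?_, ?_⟩
  · rfl
  · have : Fin.last (n + 1) = (Fin.last n).succ := rfl
    rw [this, Fin.cons_succ, hlast, Subgroup.comap_top]
  · intro i j hij
    induction i using Fin.cases with
    | zero => rw [Fin.cons_zero]; exact bot_le
    | succ i =>
      induction j using Fin.cases with
      | zero => exact absurd hij (by simp)
      | succ j =>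
        rw [Fin.cons_succ, Fin.cons_succ]
        exact Subgroup.comap_mono (hmono (Fin.succ_le_succ_iff.1 hij))
  · intro i
    induction i using Fin.cases with
    | zero => rw [Fin.cons_zero]; infer_instance
    | succ i => rw [Fin.cons_succ]; exact (hnorm i).comap _
  · intro i
    induction i using Fin.cases with
    | zero =>
      have e1 : (Fin.cons ⊥ (fun i => (H i).comap (QuotientGroup.mk' M)) : Fin (n + 2) → Subgroup G)
          (Fin.castSucc 0) = ⊥ := rfl
      have e2 : (Fin.cons ⊥ (fun i => (H i).comap (QuotientGroup.mk' M)) : Fin (n + 2) → Subgroup G)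
          (Fin.succ 0) = M := by
        rw [Fin.cons_succ, h0]
        rw [MonoidHom.comap_bot, QuotientGroup.ker_mk']
      rw [e1, e2, Subgroup.relIndex_bot_left]
      exact hM
    | succ i =>
      have e1 : (Fin.cons ⊥ (fun i => (H i).comap (QuotientGroup.mk' M)) : Fin (n + 2) → Subgroup G)
          (Fin.castSucc i.succ) = (H i.castSucc).comap (QuotientGroup.mk' M) := by
        have : Fin.castSucc i.succ = (Fin.castSucc i).succ := rfl
        rw [this, Fin.cons_succ]
      have e2 : (Fin.cons ⊥ (fun i => (H i).comap (QuotientGroup.mk' M)) : Fin (n + 2) → Subgroup G)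
          (Fin.succ i.succ) = (H i.succ).comap (QuotientGroup.mk' M) := by
        rw [Fin.cons_succ]
      rw [e1, e2, Subgroup.relIndex_comap, Subgroup.map_comap_eq_self_of_surjective hsurj]
      exact hfac i

theorem isPSolvable_of_isSolvable_aux (p : ℕ) [Fact p.Prime] : ∀ (k : ℕ) (G : Type u) [Group G] [Finite G],
    Group.IsSolvable G → Nat.card G ≤ k → Cfsg.IsPSolvable p G := by
  intro k
  induction k with
  | zero =>
    intro G _ _ _ hk
    exact absurd hk (by have := Nat.card_pos (α := G); omega)
  | succ k ih =>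
    intro G _ _ hsol hk
    by_cases htriv : (⊤ : Subgroup G) = ⊥
    · refine ⟨0, fun _ => ⊥, rfl, htriv.symm, fun _ _ _ => le_rfl, fun _ => inferInstance, ?_⟩
      intro i
      exact i.elim0
    · obtain ⟨B, -, hBne, hBn, hBmin⟩ := Cfsg.Agent.Lib.Helper2.exists_isMinNormal_le (⊤ : Subgroup G) htriv
      haveI := hBn
      obtain ⟨-, q, hq, hexp⟩ := Cfsg.Agent.Lib.Helper1.minimal_normal_of_solvable B hBne
        (fun M hM hMB => hBmin M hM hMB)
      haveI : Fact q.Prime := ⟨hq⟩
      have hBq : IsPGroup q B := by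
        intro x
        refine ⟨1, ?_⟩
        apply Subtype.ext
        rw [pow_one, Subgroup.coe_pow]
        exact hexp x x.2
      obtain ⟨m, hm⟩ := IsPGroup.iff_card.1 hBq
      have hM : (∃ m : ℕ, Nat.card B = p ^ m) ∨ (Nat.card B).Coprime p := by
        by_cases hqp : q = p
        · left; exact ⟨m, by rw [hm, hqp]⟩
        · right
          rw [hm]
          exact Nat.Coprime.pow_left m ((Nat.coprime_primes hq (Fact.out : p.Prime)).2 hqp)
      apply isPSolvable_of_quotient p B hM
      apply ih (G ⧸ B) inferInstance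
      have h1 : Nat.card G = Nat.card (G ⧸ B) * Nat.card B := Subgroup.card_eq_card_quotient_mul_card_subgroup B
      have h2 : 1 < Nat.card B := by
        rw [Subgroup.one_lt_card_iff_ne_bot]
        exact hBne
      have h3 : 0 < Nat.card (G ⧸ B) := Nat.card_pos
      nlinarith

/-- A finite solvable group is `p`-solvable for every prime `p`. -/
theorem isPSolvable_of_isSolvable {G : Type*} [Group G] [Finite G] (p : ℕ) [Fact p.Prime]
    (hG : Group.IsSolvable G) : Cfsg.IsPSolvable p G :=
  isPSolvable_of_isSolvable_aux p (Nat.card G) G hG le_rfl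

end Cfsg.Agent.Lib.Helper3
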