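import Mathlib

set_option autoImplicit false
set_option maxHeartbeats 4000000
set_option maxRecDepth 100000
set_option linter.unusedVariables false
set_option linter.unusedSectionVars false
set_option linter.style.longLine false

universe u

namespace Cfsg.Agent.Lib.Helper3.AO

section
variable {V : Type u} [CommGroup V]

/-- the norm `∏_{i<n} z^i v`. -/
def nrmZ (n : ℕ) (z : MulAut V) (v : V) : V := ∏ i ∈ Finset.range n, (z ^ i) v

theorem nrmZ_mul (n : ℕ) (z : MulAut V) (v w : V) : nrmZ n z (v * w) = nrmZ n z v * nrmZ n z w := by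
  unfold nrmZ
  rw [← Finset.prod_mul_distrib]
  apply Finset.prod_congr rfl
  intro i _
  exact map_mul _ _ _

theorem nrmZ_one (n : ℕ) (z : MulAut V) : nrmZ n z (1 : V) = 1 := by
  unfold nrmZ
  apply Finset.prod_eq_one
  intro i _
  exact map_one _

theorem nrmZ_div (n : ℕ) (z : MulAut V) (v w : V) : nrmZ n z (v / w) = nrmZ n z v / nrmZ n z w := by
  have h := nrmZ_mul n z (v / w) w
  rw [div_mul_cancel] at h
  rw [h, mul_div_cancel_right]

theorem nrmZ_pow (n : ℕ) (z : MulAut V) (v : V) (m : ℕ) : nrmZ n z (v ^ m) = nrmZ n z v ^ m := by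
  induction m with
  | zero => simp [nrmZ_one]
  | succ m ih => rw [pow_succ, nrmZ_mul, ih, pow_succ]

theorem pow_apply_of_fixed {z : MulAut V} {v : V} (h : z v = v) (i : ℕ) : (z ^ i) v = v := by
  induction i with
  | zero => simp
  | succ i ih => rw [pow_succ, MulAut.mul_apply, h, ih]

theorem nrmZ_of_fixed (n : ℕ) {z : MulAut V} {v : V} (h : z v = v) : nrmZ n z v = v ^ n := by
  unfold nrmZ
  rw [Finset.prod_congr rfl (fun i _ => pow_apply_of_fixed h i)]
  simp

theorem apply_nrmZ_comm (n : ℕ) {z φ : MulAut V} (h : φ * z = z * φ) (v : V) :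
    φ (nrmZ n z v) = nrmZ n z (φ v) := by
  unfold nrmZ
  rw [map_prod]
  apply Finset.prod_congr rfl
  intro i _
  have hc : Commute φ z := h
  have hci : φ * z ^ i = z ^ i * φ := (hc.pow_right i)
  have := congrArg (fun f : MulAut V => f v) hci
  simpa [MulAut.mul_apply] using this

theorem apply_nrmZ_self {n : ℕ} {z : MulAut V} (hz : z ^ n = 1) (v : V) :
    z (nrmZ n z v) = nrmZ n z v := by
  unfold nrmZ
  rw [map_prod]
  have h1 : ∀ i, z ((z ^ i) v) = (z ^ (i + 1)) v := by
    intro i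
    rw [pow_succ', MulAut.mul_apply]
  simp_rw [h1]
  have e1 := Finset.prod_range_succ (fun i => (z ^ i) v) n
  have e2 := Finset.prod_range_succ' (fun i => (z ^ i) v) n
  simp only [hz, pow_zero, MulAut.one_apply] at e1 e2
  rw [e1] at e2
  exact (mul_right_cancel e2).symm

end

theorem stab_central {V : Type u} [CommGroup V] [Finite V] {l : ℕ} [Fact l.Prime]
    (L : Subgroup (MulAut V)) (hVl : (Nat.card V).Coprime l) (k : ℕ)
    (hk : ∀ v : V, v ≠ 1 → Nat.card {φ : MulAut V // φ ∈ L ∧ φ v = v} = k)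
    (z : MulAut V) (hzL : z ∈ L) (hzc : ∀ φ ∈ L, φ * z = z * φ) (hzo : orderOf z = l) :
    ∀ v : V, v ≠ 1 → z v ≠ v := by
  intro v1 hv1 hzv1
  have hl : l.Prime := Fact.out
  have hinj : Function.Injective (fun x : V => x ^ l) := (powCoprime hVl).injective
  have hzl : z ^ l = 1 := by rw [← hzo]; exact pow_orderOf_eq_one z
  have hz1 : z ≠ 1 := by
    intro h
    rw [h, orderOf_one] at hzo
    exact hl.one_lt.ne hzo
  -- some v moved by z
  obtain ⟨v, hv⟩ : ∃ v : V, z v ≠ v := by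
    by_contra hcon
    push Not at hcon
    apply hz1
    ext x
    simpa using hcon x
  set N : V → V := nrmZ l z with hN
  set v2 : V := v ^ l / N v with hv2
  have hNN : N (N v) = (N v) ^ l := nrmZ_of_fixed l (apply_nrmZ_self hzl v)
  have hNv2 : N v2 = 1 := by
    rw [hv2, hN, nrmZ_div, nrmZ_pow]
    rw [← hN, hNN, div_self']
  have hv2ne : v2 ≠ 1 := by
    intro h
    rw [hv2, div_eq_one] at h
    -- v^l = N v is z-fixed
    have hz : z (v ^ l) = v ^ l := by rw [h]; exact apply_nrmZ_self hzl v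
    rw [map_pow] at hz
    exact hv (hinj hz)
  have hNv1 : N v1 = v1 ^ l := nrmZ_of_fixed l hzv1
  have hN12 : N (v1 * v2) = v1 ^ l := by
    rw [hN, nrmZ_mul, ← hN, hNv1, hNv2, mul_one]
  have hv1l : v1 ^ l ≠ 1 := by
    intro h
    apply hv1
    apply hinj
    simpa using h
  have h12ne : v1 * v2 ≠ 1 := by
    intro h
    rw [h, hN, nrmZ_one] at hN12
    exact hv1l hN12.symm
  -- stabilizer inclusion
  have hsub : ∀ φ : MulAut V, φ ∈ L → φ (v1 * v2) = v1 * v2 → φ v1 = v1 ∧ φ v2 = v2 := by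
    intro φ hφ hfix
    have h1 : φ (N (v1 * v2)) = N (φ (v1 * v2)) := apply_nrmZ_comm l (hzc φ hφ) _
    rw [hfix, hN12, map_pow] at h1
    have hφv1 : φ v1 = v1 := hinj h1
    refine ⟨hφv1, ?_⟩
    rw [map_mul, hφv1] at hfix
    exact mul_left_cancel hfix
  -- sets
  set S12 : Set (MulAut V) := {φ | φ ∈ L ∧ φ (v1 * v2) = v1 * v2} with hS12
  set S1 : Set (MulAut V) := {φ | φ ∈ L ∧ φ v1 = v1} with hS1
  set S2 : Set (MulAut V) := {φ | φ ∈ L ∧ φ v2 = v2} with hS2
  have c12 : S12.ncard = k := by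
    rw [← Nat.card_coe_set_eq]; exact hk _ h12ne
  have c1 : S1.ncard = k := by
    rw [← Nat.card_coe_set_eq]; exact hk _ hv1
  have c2 : S2.ncard = k := by
    rw [← Nat.card_coe_set_eq]; exact hk _ hv2ne
  have e1 : S12 = S1 := by
    apply Set.eq_of_subset_of_ncard_le
    · intro φ hφ; exact ⟨hφ.1, (hsub φ hφ.1 hφ.2).1⟩
    · rw [c12, c1]
    · exact Set.toFinite _
  have e2 : S12 = S2 := by
    apply Set.eq_of_subset_of_ncard_le
    · intro φ hφ; exact ⟨hφ.1, (hsub φ hφ.1 hφ.2).2⟩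
    · rw [c12, c2]
    · exact Set.toFinite _
  have hz2 : z ∈ S2 := by
    rw [← e2, e1]; exact ⟨hzL, hzv1⟩
  have : N v2 = v2 ^ l := nrmZ_of_fixed l hz2.2
  rw [hNv2] at this
  apply hv2ne
  apply hinj
  simpa using this.symm

end Cfsg.Agent.Lib.Helper3.AO
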