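import Mathlib
import Cfsg.Prelude.Def_PLocal
import Cfsg.Agent.Lib.Helper1.FrattiniP

/-!
# Regular `p`-groups

For a finite regular `p`-group (`Cfsg.IsRegularPGroup`):
* `regular_pow_eq_iff`: `a ^ p ^ k = b ^ p ^ k ↔ (a * b⁻¹) ^ p ^ k = 1`;
* `regular_pow_mul_eq_one`: the elements with `x ^ p ^ k = 1` are closed under multiplication;
* `regular_subgroup`: subgroups of regular groups are regular.
-/

set_option autoImplicit false
open scoped commutatorElement

universe u

namespace Cfsg.Agent.Lib.Helper3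

section generic
variable {G : Type*} [Group G]

/-- If `E` is normalized by `closure S` and contains the commutators of the generators, then it
contains the commutator subgroup of `closure S`. -/
theorem commutator_closure_le (S : Set G) (E : Subgroup G)
    (hE : ∀ g ∈ Subgroup.closure S, ∀ z ∈ E, g * z * g⁻¹ ∈ E)
    (hS : ∀ s ∈ S, ∀ t ∈ S, ⁅s, t⁆ ∈ E) :
    ⁅Subgroup.closure S, Subgroup.closure S⁆ ≤ E := by
  have hE' : ∀ g ∈ Subgroup.closure S, ∀ z ∈ E, g⁻¹ * z * g ∈ E := by
    intro g hg z hz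
    have := hE g⁻¹ (Subgroup.inv_mem _ hg) z hz
    rwa [inv_inv] at this
  have step1 : ∀ s ∈ S, ∀ y ∈ Subgroup.closure S, ⁅s, y⁆ ∈ E := by
    intro s hs y hy
    induction hy using Subgroup.closure_induction with
    | mem t ht => exact hS s hs t ht
    | one => simp
    | mul y₁ y₂ hy₁ hy₂ ih₁ ih₂ =>
      have : ⁅s, y₁ * y₂⁆ = ⁅s, y₁⁆ * (y₁ * ⁅s, y₂⁆ * y₁⁻¹) := by
        simp only [commutatorElement_def]; group
      rw [this]
      exact E.mul_mem ih₁ (hE y₁ hy₁ _ ih₂)
    | inv y hy ih =>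
      have : ⁅s, y⁻¹⁆ = y⁻¹ * ⁅s, y⁆⁻¹ * y := by
        simp only [commutatorElement_def]; group
      rw [this]
      exact hE' y hy _ (E.inv_mem ih)
  rw [Subgroup.commutator_le]
  intro x hx y hy
  induction hx using Subgroup.closure_induction with
  | mem s hs => exact step1 s hs y hy
  | one => simp
  | mul x₁ x₂ hx₁ hx₂ ih₁ ih₂ =>
    have : ⁅x₁ * x₂, y⁆ = (x₁ * ⁅x₂, y⁆ * x₁⁻¹) * ⁅x₁, y⁆ := by
      simp only [commutatorElement_def]; group
    rw [this]
    exact E.mul_mem (hE x₁ hx₁ _ ih₂) ih₁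
  | inv x hx ih =>
    have : ⁅x⁻¹, y⁆ = x⁻¹ * ⁅x, y⁆⁻¹ * x := by
      simp only [commutatorElement_def]; group
    rw [this]
    exact hE' x hx _ (E.inv_mem ih)

theorem powerClosure_map {H : Type*} [Group H] (f : H →* G) (p n : ℕ) (X : Subgroup H) :
    (Cfsg.powerClosure p n X).map f = Cfsg.powerClosure p n (X.map f) := by
  unfold Cfsg.powerClosure
  rw [MonoidHom.map_closure]
  congr 1
  ext y
  constructor
  · rintro ⟨z, ⟨x, hx, rfl⟩, rfl⟩
    exact ⟨f x, ⟨x, hx, rfl⟩, by rw [map_pow]⟩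
  · rintro ⟨_, ⟨x, hx, rfl⟩, rfl⟩
    exact ⟨x ^ p ^ n, ⟨x, hx, rfl⟩, by rw [map_pow]⟩

theorem closure_pair_map {H : Type*} [Group H] (f : H →* G) (a b : H) :
    (Subgroup.closure ({a, b} : Set H)).map f = Subgroup.closure ({f a, f b} : Set G) := by
  rw [MonoidHom.map_closure]
  congr 1
  ext y
  simp only [Set.mem_image, Set.mem_insert_iff, Set.mem_singleton_iff]
  constructor
  · rintro ⟨x, (rfl | rfl), rfl⟩
    · left; rfl
    · right; rfl
  · rintro (rfl | rfl)
    · exact ⟨a, Or.inl rfl, rfl⟩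
    · exact ⟨b, Or.inr rfl, rfl⟩

/-- Subgroups of regular `p`-groups are regular. -/
theorem regular_subgroup {p : ℕ} (hG : Cfsg.IsRegularPGroup p G) (L : Subgroup G) :
    Cfsg.IsRegularPGroup p L := by
  refine ⟨hG.1.to_subgroup L, ?_⟩
  intro a b n
  obtain ⟨c, hc, hceq⟩ := hG.2 (a : G) (b : G) n
  have hmap : (Cfsg.powerClosure p n ⁅Subgroup.closure ({a, b} : Set L),
      Subgroup.closure ({a, b} : Set L)⁆).map L.subtype =
      Cfsg.powerClosure p n ⁅Subgroup.closure ({(a : G), (b : G)} : Set G),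
        Subgroup.closure ({(a : G), (b : G)} : Set G)⁆ := by
    rw [powerClosure_map, Subgroup.map_commutator, closure_pair_map]
    rfl
  rw [← hmap] at hc
  obtain ⟨c', hc', rfl⟩ := hc
  refine ⟨c', hc', ?_⟩
  apply Subtype.ext
  simpa using hceq

/-- In a regular group, if the derived subgroup of `⟨a, b⟩` has exponent dividing `p ^ k`, then
`(a b)^(p^k) = a^(p^k) b^(p^k)`. -/
theorem regular_mul_pow_of_derived {p : ℕ} (hG : Cfsg.IsRegularPGroup p G) (a b : G) (k : ℕ)
    (h : ∀ z ∈ ⁅Subgroup.closure ({a, b} : Set G), Subgroup.closure ({a, b} : Set G)⁆,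
      z ^ p ^ k = 1) :
    (a * b) ^ p ^ k = a ^ p ^ k * b ^ p ^ k := by
  obtain ⟨c, hc, hceq⟩ := hG.2 a b k
  have hbot : Cfsg.powerClosure p k ⁅Subgroup.closure ({a, b} : Set G),
      Subgroup.closure ({a, b} : Set G)⁆ = ⊥ := by
    unfold Cfsg.powerClosure
    rw [Subgroup.closure_eq_bot_iff]
    rintro y ⟨x, hx, rfl⟩
    exact h x hx
  rw [hbot, Subgroup.mem_bot] at hc
  rw [hceq, hc, mul_one]

end generic

section pgroup
variable {G : Type*} [Group G] [Finite G] {p : ℕ} [Fact p.Prime]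

/-- In a noncommutative finite `p`-group, an element and a conjugate of it generate a proper
subgroup. -/
theorem closure_conj_ne_top (hG : IsPGroup p G) (hnc : ¬ ∀ x y : G, x * y = y * x) (a g : G) :
    Subgroup.closure ({a, g * a * g⁻¹} : Set G) ≠ ⊤ := by
  intro htop
  apply hnc
  have h1 : Subgroup.closure ({a, g * a * g⁻¹} : Set G) ≤ Subgroup.zpowers a ⊔ frattini G := by
    rw [Subgroup.closure_le]
    rintro x (rfl | rfl)
    · exact (le_sup_left : Subgroup.zpowers x ≤ _) (Subgroup.mem_zpowers x)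
    · have hc : ⁅g, a⁆ ∈ frattini G := by
        apply Cfsg.Agent.Lib.Helper1.commutator_le_frattini_of_isPGroup p hG
        exact Subgroup.commutator_mem_commutator (Subgroup.mem_top g) (Subgroup.mem_top a)
      have : g * a * g⁻¹ = ⁅g, a⁆ * a := by
        simp only [commutatorElement_def]; group
      rw [this]
      exact Subgroup.mul_mem _ ((le_sup_right : frattini G ≤ _) hc)
        ((le_sup_left : Subgroup.zpowers a ≤ _) (Subgroup.mem_zpowers a))
  rw [htop, top_le_iff] at h1
  have h2 : Subgroup.zpowers a = ⊤ := frattini_nongenerating h1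
  intro x y
  have hx : x ∈ Subgroup.zpowers a := by rw [h2]; trivial
  have hy : y ∈ Subgroup.zpowers a := by rw [h2]; trivial
  obtain ⟨m, rfl⟩ := Subgroup.mem_zpowers_iff.1 hx
  obtain ⟨n, rfl⟩ := Subgroup.mem_zpowers_iff.1 hy
  exact zpow_mul_comm a m n

theorem commutator_closure_ne_top (hG : IsPGroup p G) (hnc : ¬ ∀ x y : G, x * y = y * x)
    (K : Subgroup G) : ⁅K, K⁆ ≠ ⊤ := by
  haveI : Nontrivial G := by
    by_contra h
    rw [not_nontrivial_iff_subsingleton] at h
    exact hnc (fun x y => Subsingleton.elim _ _)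
  haveI : Group.IsNilpotent G := hG.isNilpotent
  have h1 : commutator G < ⊤ := Group.IsSolvable.commutator_lt_top_of_nontrivial G
  intro htop
  have h2 : ⁅K, K⁆ ≤ commutator G := Subgroup.commutator_mono le_top le_top
  rw [htop] at h2
  exact h1.ne (top_le_iff.1 h2)

end pgroup

section core

/-- The two basic properties of regular `p`-groups, packaged for the induction. -/
def RegProps (p : ℕ) (G : Type*) [Group G] : Prop :=
  (∀ (k : ℕ) (a b : G), a ^ p ^ k = b ^ p ^ k ↔ (a * b⁻¹) ^ p ^ k = 1) ∧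
    (∀ (k : ℕ) (x y : G), x ^ p ^ k = 1 → y ^ p ^ k = 1 → (x * y) ^ p ^ k = 1)

theorem regProps_of_comm {p : ℕ} {G : Type*} [Group G] (hc : ∀ x y : G, x * y = y * x) :
    RegProps p G := by
  refine ⟨?_, ?_⟩
  · intro k a b
    have hcm : Commute a b⁻¹ := hc a b⁻¹
    rw [hcm.mul_pow, inv_pow, mul_inv_eq_one]
  · intro k x y hx hy
    have hcm : Commute x y := hc x y
    rw [hcm.mul_pow, hx, hy, one_mul]

theorem regProps_aux (p : ℕ) [Fact p.Prime] : ∀ (n : ℕ) (G : Type u) [Group G] [Finite G],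
    Nat.card G = n → Cfsg.IsRegularPGroup p G → RegProps p G := by
  intro n
  induction n using Nat.strong_induction_on with
  | _ n ih =>
    intro G _ _ hcard hG
    by_cases hc : ∀ x y : G, x * y = y * x
    · exact regProps_of_comm hc
    -- induction hypothesis for proper subgroups
    have ihL : ∀ L : Subgroup G, L ≠ ⊤ →
        (∀ (k : ℕ), ∀ a ∈ L, ∀ b ∈ L, a ^ p ^ k = b ^ p ^ k ↔ (a * b⁻¹) ^ p ^ k = 1) ∧
        (∀ (k : ℕ), ∀ x ∈ L, ∀ y ∈ L, x ^ p ^ k = 1 → y ^ p ^ k = 1 → (x * y) ^ p ^ k = 1) := by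
      intro L hL
      have hlt : Nat.card L < n := by
        rw [← hcard]
        by_contra hge
        push Not at hge
        exact hL (Subgroup.eq_top_of_le_card L hge)
      obtain ⟨hA, hB⟩ := ih (Nat.card L) hlt L rfl (regular_subgroup hG L)
      refine ⟨?_, ?_⟩
      · intro k a ha b hb
        have := hA k ⟨a, ha⟩ ⟨b, hb⟩
        simp only [Subtype.ext_iff, Subgroup.coe_pow, Subgroup.coe_mul, Subgroup.coe_inv,
          Subgroup.coe_one] at this
        exact this
      · intro k x hx y hy hx1 hy1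
        have := hB k ⟨x, hx⟩ ⟨y, hy⟩ (Subtype.ext (by simpa using hx1))
          (Subtype.ext (by simpa using hy1))
        have h2 := congrArg Subtype.val this
        simpa using h2
    -- (Lem3)
    have lem3 : ∀ (k : ℕ) (u v : G), ⁅u, v⁆ ^ p ^ k = 1 →
        (u * v) ^ p ^ k = u ^ p ^ k * v ^ p ^ k := by
      intro k u v hw
      apply regular_mul_pow_of_derived hG
      set K := Subgroup.closure ({u, v} : Set G) with hK
      have hK' : ⁅K, K⁆ ≠ ⊤ := commutator_closure_ne_top hG.1 hc K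
      obtain ⟨-, hB⟩ := ihL _ hK'
      let E : Subgroup G :=
        { carrier := {z | z ∈ ⁅K, K⁆ ∧ z ^ p ^ k = 1}
          mul_mem' := fun {x y} hx hy => ⟨Subgroup.mul_mem _ hx.1 hy.1, hB k x hx.1 y hy.1 hx.2 hy.2⟩
          one_mem' := ⟨Subgroup.one_mem _, one_pow _⟩
          inv_mem' := fun {x} hx => ⟨Subgroup.inv_mem _ hx.1, by rw [inv_pow, hx.2, inv_one]⟩ }
      have hKK : ⁅K, K⁆ ≤ K := by
        rw [Subgroup.commutator_le]
        intro g₁ h₁ g₂ h₂
        exact K.mul_mem (K.mul_mem (K.mul_mem h₁ h₂) (K.inv_mem h₁)) (K.inv_mem h₂)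
      have hKn : ∀ g ∈ K, ∀ z ∈ ⁅K, K⁆, g * z * g⁻¹ ∈ ⁅K, K⁆ := by
        intro g hg z hz
        haveI : (⁅K, K⁆.subgroupOf K).Normal := by
          have : ⁅K, K⁆.subgroupOf K = commutator K := by
            rw [commutator_def, ← Subgroup.map_injective K.subtype_injective |>.eq_iff]
            rw [Subgroup.map_commutator, Subgroup.map_subgroupOf_eq_of_le hKK]
            rw [← MonoidHom.range_eq_map, Subgroup.range_subtype]
          rw [this]
          infer_instance
        have h1 : (⟨z, hKK hz⟩ : K) ∈ ⁅K, K⁆.subgroupOf K := hz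
        have h2 := Subgroup.Normal.conj_mem (inferInstance : (⁅K, K⁆.subgroupOf K).Normal) _ h1 ⟨g, hg⟩
        exact h2
      have hEK : ⁅K, K⁆ ≤ E := by
        apply commutator_closure_le ({u, v} : Set G) E
        · intro g hg z hz
          refine ⟨hKn g hg z hz.1, ?_⟩
          rw [conj_pow, hz.2, mul_one, mul_inv_cancel]
        · have huK : u ∈ K := Subgroup.subset_closure (by simp)
          have hvK : v ∈ K := Subgroup.subset_closure (by simp)
          have hw1 : ⁅u, v⁆ ∈ E := ⟨Subgroup.commutator_mem_commutator huK hvK, hw⟩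
          have hw2 : ⁅v, u⁆ ∈ E := by
            rw [← commutatorElement_inv]
            exact E.inv_mem hw1
          rintro s (rfl | rfl) t (rfl | rfl)
          · rw [commutatorElement_self]; exact E.one_mem
          · exact hw1
          · exact hw2
          · rw [commutatorElement_self]; exact E.one_mem
      intro z hz
      exact (hEK hz).2
    -- (Lem4)
    have lem4 : ∀ (k : ℕ) (x g : G), x ^ p ^ k = 1 → ⁅x, g⁆ ^ p ^ k = 1 := by
      intro k x g hx
      have hL := closure_conj_ne_top hG.1 hc x g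
      obtain ⟨-, hB⟩ := ihL _ hL
      have h1 : x ∈ Subgroup.closure ({x, g * x * g⁻¹} : Set G) := Subgroup.subset_closure (by simp)
      have h2 : (g * x * g⁻¹)⁻¹ ∈ Subgroup.closure ({x, g * x * g⁻¹} : Set G) :=
        Subgroup.inv_mem _ (Subgroup.subset_closure (by simp))
      have h3 : ((g * x * g⁻¹)⁻¹) ^ p ^ k = 1 := by
        rw [inv_pow, conj_pow, hx, mul_one, mul_inv_cancel, inv_one]
      have := hB k x h1 _ h2 hx h3
      have e : ⁅x, g⁆ = x * (g * x * g⁻¹)⁻¹ := by
        simp only [commutatorElement_def]; group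
      rw [e]; exact this
    -- (Lem5)
    have lem5 : ∀ (k : ℕ) (a b : G), a ^ p ^ k = b ^ p ^ k → ⁅a, b⁆ ^ p ^ k = 1 := by
      intro k a b hab
      have hL := closure_conj_ne_top hG.1 hc a b
      obtain ⟨hA, -⟩ := ihL _ hL
      have h1 : a ∈ Subgroup.closure ({a, b * a * b⁻¹} : Set G) := Subgroup.subset_closure (by simp)
      have h2 : (b * a * b⁻¹) ∈ Subgroup.closure ({a, b * a * b⁻¹} : Set G) :=
        Subgroup.subset_closure (by simp)
      have h3 : a ^ p ^ k = (b * a * b⁻¹) ^ p ^ k := by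
        rw [conj_pow, hab]
        group
      have := (hA k a h1 _ h2).1 h3
      have e : ⁅a, b⁆ = a * (b * a * b⁻¹)⁻¹ := by
        simp only [commutatorElement_def]; group
      rw [e]; exact this
    refine ⟨?_, ?_⟩
    · intro k a b
      constructor
      · intro hab
        have h1 := lem5 k a b hab
        have h2 : ⁅a, b⁻¹⁆ ^ p ^ k = 1 := by
          have e : ⁅a, b⁻¹⁆ = b⁻¹ * ⁅a, b⁆⁻¹ * b⁻¹⁻¹ := by
            simp only [commutatorElement_def]; group
          rw [e, conj_pow, inv_pow, h1, inv_one, mul_one, mul_inv_cancel]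
        rw [lem3 k a b⁻¹ h2, inv_pow, hab, mul_inv_cancel]
      · intro hab
        have h1 := lem4 k (a * b⁻¹) b hab
        have h2 := lem3 k (a * b⁻¹) b h1
        rw [hab, one_mul, inv_mul_cancel_right] at h2
        exact h2
    · intro k x y hx hy
      rw [lem3 k x y (lem4 k x y hx), hx, hy, one_mul]

theorem regular_pow_eq_iff {G : Type u} [Group G] [Finite G] {p : ℕ} [Fact p.Prime]
    (hG : Cfsg.IsRegularPGroup p G) (a b : G) (k : ℕ) :
    a ^ p ^ k = b ^ p ^ k ↔ (a * b⁻¹) ^ p ^ k = 1 :=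
  (regProps_aux p _ G rfl hG).1 k a b

theorem regular_pow_mul_eq_one {G : Type u} [Group G] [Finite G] {p : ℕ} [Fact p.Prime]
    (hG : Cfsg.IsRegularPGroup p G) (x y : G) (k : ℕ) (hx : x ^ p ^ k = 1) (hy : y ^ p ^ k = 1) :
    (x * y) ^ p ^ k = 1 :=
  (regProps_aux p _ G rfl hG).2 k x y hx hy

end core

end Cfsg.Agent.Lib.Helper3
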