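import Mathlib
import Cfsg.Agent.Lib.Helper1.SZConj

set_option autoImplicit false
open Pointwise

namespace Cfsg.Agent.Lib.Helper3

universe u

/-- `|HN| · |H ∩ N| = |H| · |N|` when `N` is normal. -/
theorem card_sup_mul_card_inf_of_normal {G : Type*} [Group G] (H N : Subgroup G) [N.Normal] :
    Nat.card (H ⊔ N : Subgroup G) * Nat.card (H ⊓ N : Subgroup G) = Nat.card H * Nat.card N := by
  have h1 : Nat.card N * N.relIndex (H ⊔ N) = Nat.card (H ⊔ N : Subgroup G) := by
    rw [← Subgroup.relIndex_bot_left, Subgroup.relIndex_mul_relIndex _ _ _ bot_le le_sup_right,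
      Subgroup.relIndex_bot_left]
  have h2 : Nat.card (H ⊓ N : Subgroup G) * N.relIndex H = Nat.card H := by
    rw [← Subgroup.inf_relIndex_left, inf_comm, ← Subgroup.relIndex_bot_left,
      Subgroup.relIndex_mul_relIndex _ _ _ bot_le inf_le_right, Subgroup.relIndex_bot_left]
  rw [← h1, Subgroup.relIndex_sup_right, ← h2]
  ring

/-- `|HN| = |H| · |N|` when `N` is normal and `H ∩ N = 1`. -/
theorem card_sup_of_inf_eq_bot {G : Type*} [Group G] (H N : Subgroup G) [N.Normal]
    (h : H ⊓ N = ⊥) :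
    Nat.card (H ⊔ N : Subgroup G) = Nat.card H * Nat.card N := by
  have := card_sup_mul_card_inf_of_normal H N
  rwa [h, Subgroup.card_bot, mul_one] at this

/-- Membership in a conjugate subgroup, elementwise. -/
theorem mem_conj_smul_iff {G : Type*} [Group G] (g u : G) (H : Subgroup G) :
    u ∈ MulAut.conj g • H ↔ g⁻¹ * u * g ∈ H := by
  rw [Subgroup.mem_pointwise_smul_iff_inv_smul_mem]
  simp [MulAut.smul_def]

/-- Relative Schur–Zassenhaus conjugacy: if `N` is normal, `H ∩ N = 1`, the orders of `N` and `H`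
are coprime, one of them is solvable, and `K ≤ HN` has the order of `H`, then `K` is conjugate to
`H` by an element of `N`. -/
theorem sz_conj_rel {G : Type u} [Group G] [Finite G] (N H K : Subgroup G) [N.Normal]
    (hcop : (Nat.card N).Coprime (Nat.card H))
    (hK : K ≤ H ⊔ N) (hcard : Nat.card K = Nat.card H)
    (hsolv : Group.IsSolvable N ∨ Group.IsSolvable H) :
    ∃ n ∈ N, MulAut.conj n • H = K := by
  have hHN : H ⊓ N = ⊥ := (Subgroup.disjoint_of_coprime_natCard hcop.symm).eq_bot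
  have hKN : K ⊓ N = ⊥ := (Subgroup.disjoint_of_coprime_natCard (hcard ▸ hcop.symm)).eq_bot
  have hsup : K ⊔ N = H ⊔ N := by
    apply Subgroup.eq_of_le_of_card_ge (sup_le hK le_sup_right)
    rw [card_sup_of_inf_eq_bot H N hHN, card_sup_of_inf_eq_bot K N hKN, hcard]
  set L : Subgroup G := H ⊔ N with hL
  have hHL : H ≤ L := le_sup_left
  have hNL : N ≤ L := le_sup_right
  have hKL : K ≤ L := hK
  -- work in L
  haveI : (N.subgroupOf L).Normal := Subgroup.normal_subgroupOf
  have hmulH : ∀ a : G, a ∈ L → ∃ n ∈ N, ∃ h ∈ H, a = n * h := by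
    intro a ha
    have : a ∈ ((N ⊔ H : Subgroup G) : Set G) := by rw [sup_comm]; exact ha
    rw [Subgroup.normal_mul] at this
    obtain ⟨n, hn, h, hh, rfl⟩ := this
    exact ⟨n, hn, h, hh, rfl⟩
  have hmulK : ∀ a : G, a ∈ L → ∃ n ∈ N, ∃ k ∈ K, a = n * k := by
    intro a ha
    have : a ∈ ((N ⊔ K : Subgroup G) : Set G) := by rw [sup_comm, hsup]; exact ha
    rw [Subgroup.normal_mul] at this
    obtain ⟨n, hn, h, hh, rfl⟩ := this
    exact ⟨n, hn, h, hh, rfl⟩
  have hcH : Subgroup.IsComplement' (N.subgroupOf L) (H.subgroupOf L) := by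
    apply Subgroup.isComplement'_of_disjoint_and_mul_eq_univ
    · rw [Subgroup.disjoint_def]
      intro a haN haH
      have : (a : G) ∈ H ⊓ N := ⟨haH, haN⟩
      rw [hHN, Subgroup.mem_bot] at this
      exact Subtype.ext this
    · rw [Set.eq_univ_iff_forall]
      intro a
      obtain ⟨n, hn, h, hh, hnh⟩ := hmulH a a.2
      exact ⟨⟨n, hNL hn⟩, hn, ⟨h, hHL hh⟩, hh, Subtype.ext hnh.symm⟩
  have hcK : Subgroup.IsComplement' (N.subgroupOf L) (K.subgroupOf L) := by
    apply Subgroup.isComplement'_of_disjoint_and_mul_eq_univ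
    · rw [Subgroup.disjoint_def]
      intro a haN haK
      have : (a : G) ∈ K ⊓ N := ⟨haK, haN⟩
      rw [hKN, Subgroup.mem_bot] at this
      exact Subtype.ext this
    · rw [Set.eq_univ_iff_forall]
      intro a
      obtain ⟨n, hn, k, hk, hnk⟩ := hmulK a a.2
      exact ⟨⟨n, hNL hn⟩, hn, ⟨k, hKL hk⟩, hk, Subtype.ext hnk.symm⟩
  have hcN' : Nat.card (N.subgroupOf L) = Nat.card N :=
    Nat.card_congr (Subgroup.subgroupOfEquivOfLe hNL).toEquiv
  have hcH' : Nat.card (H.subgroupOf L) = Nat.card H :=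
    Nat.card_congr (Subgroup.subgroupOfEquivOfLe hHL).toEquiv
  have hsolv' : Group.IsSolvable (N.subgroupOf L) ∨ Group.IsSolvable (H.subgroupOf L) := by
    rcases hsolv with h | h
    · left
      exact Group.isSolvable_of_isSolvable_injective
        (f := (Subgroup.subgroupOfEquivOfLe hNL).toMonoidHom)
        (Subgroup.subgroupOfEquivOfLe hNL).injective
    · right
      exact Group.isSolvable_of_isSolvable_injective
        (f := (Subgroup.subgroupOfEquivOfLe hHL).toMonoidHom)
        (Subgroup.subgroupOfEquivOfLe hHL).injective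
  obtain ⟨g, hgN, hg⟩ := Cfsg.Agent.Lib.Helper1.sz_conj_mem (N.subgroupOf L) (H.subgroupOf L)
    (K.subgroupOf L) hcH hcK (by rw [hcN', hcH']; exact hcop) hsolv'
  refine ⟨(g : G), hgN, ?_⟩
  ext u
  rw [mem_conj_smul_iff]
  constructor
  · intro hu
    have huL : u ∈ L := by
      have : u = (g : G) * ((g : G)⁻¹ * u * g) * (g : G)⁻¹ := by group
      rw [this]
      exact L.mul_mem (L.mul_mem g.2 (hHL hu)) (L.inv_mem g.2)
    have h1 : (⟨u, huL⟩ : L) ∈ MulAut.conj g • (H.subgroupOf L) := by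
      rw [mem_conj_smul_iff]
      exact hu
    rw [hg] at h1
    exact h1
  · intro hu
    have h1 : (⟨u, hKL hu⟩ : L) ∈ K.subgroupOf L := hu
    rw [← hg, mem_conj_smul_iff] at h1
    exact h1

end Cfsg.Agent.Lib.Helper3
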