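import Mathlib
import Cfsg.Prelude.Def_Solvable
import Cfsg.Agent.Lib.Helper1.PCore

set_option autoImplicit false

namespace Cfsg.Agent.Lib.Helper3

variable {G : Type*} [Group G]

/-- If `n` is prime to the order of `y` and `y ^ n ∈ H` then `y ∈ H`. -/
theorem mem_of_pow_mem_of_coprime (H : Subgroup G) (y : G) (n : ℕ)
    (hcop : n.Coprime (orderOf y)) (h : y ^ n ∈ H) : y ∈ H := by
  obtain ⟨m, hm⟩ := exists_pow_eq_self_of_coprime hcop
  rw [← hm]
  exact H.pow_mem h m

/-- The `p`-part of an element `x`, as a power of `x`. -/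
noncomputable def pPart (x : G) (p : ℕ) : G := x ^ (orderOf x / p ^ (orderOf x).factorization p)

theorem pPart_mem_zpowers (x : G) (p : ℕ) : pPart x p ∈ Subgroup.zpowers x :=
  Subgroup.npow_mem_zpowers x _

theorem pPart_mem {K : Subgroup G} {x : G} (hx : x ∈ K) (p : ℕ) : pPart x p ∈ K :=
  K.pow_mem hx _

theorem orderOf_pPart [Finite G] (x : G) (p : ℕ) :
    orderOf (pPart x p) = p ^ (orderOf x).factorization p := by
  unfold pPart
  have ho : 0 < orderOf x := orderOf_pos x
  have hdvd : p ^ (orderOf x).factorization p ∣ orderOf x := Nat.ordProj_dvd _ _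
  have hdvd2 : orderOf x / p ^ (orderOf x).factorization p ∣ orderOf x :=
    Nat.div_dvd_of_dvd hdvd
  rw [orderOf_pow_of_dvd (by
    intro h0
    rw [Nat.div_eq_zero_iff] at h0
    rcases h0 with h0 | h0
    · rw [h0] at hdvd
      exact ho.ne' (Nat.eq_zero_of_zero_dvd hdvd)
    · exact absurd (Nat.le_of_dvd ho hdvd) (not_le.2 h0)) hdvd2]
  exact Nat.div_div_self hdvd ho.ne'

/-- An element all of whose `p`-parts lie in `K` lies in `K`. -/
theorem mem_of_pParts_mem [Finite G] (K : Subgroup G) (x : G)
    (h : ∀ p : ℕ, p.Prime → pPart x p ∈ K) : x ∈ K := by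
  set D : Subgroup G := Subgroup.zpowers x ⊓ K with hD
  have ho : orderOf x ≠ 0 := (orderOf_pos x).ne'
  have hd0 : Nat.card D ≠ 0 := Nat.card_pos.ne'
  have hdo : Nat.card D ∣ orderOf x := by
    rw [← Nat.card_zpowers]
    exact Subgroup.card_dvd_of_le inf_le_left
  have hod : orderOf x ∣ Nat.card D := by
    rw [← Nat.factorization_le_iff_dvd ho hd0]
    intro p
    by_cases hp : p.Prime
    · rw [← hp.pow_dvd_iff_le_factorization hd0, ← orderOf_pPart x p, ← Nat.card_zpowers]
      apply Subgroup.card_dvd_of_le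
      rw [Subgroup.zpowers_le]
      exact ⟨pPart_mem_zpowers x p, h p hp⟩
    · rw [Nat.factorization_eq_zero_of_not_prime _ hp]
      exact Nat.zero_le _
  have hcard : Nat.card (Subgroup.zpowers x) ≤ Nat.card D := by
    rw [Nat.card_zpowers]
    exact Nat.le_of_dvd (Nat.pos_of_ne_zero hd0) hod
  have hDeq : D = Subgroup.zpowers x := Subgroup.eq_of_le_of_card_ge inf_le_left hcard
  have : x ∈ D := by rw [hDeq]; exact Subgroup.mem_zpowers x
  exact this.2

theorem pCore_le_fittingSubgroup [Finite G] (p : ℕ) [Fact p.Prime] :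
    Cfsg.pCore p G ≤ Cfsg.fittingSubgroup G :=
  le_sSup ⟨Cfsg.Agent.Lib.Helper1.pCore_normal p,
    (Cfsg.Agent.Lib.Helper1.pCore_isPGroup p).isNilpotent⟩

/-- The join of the `p`-cores over the prime divisors of the order. -/
noncomputable def coreJoin (G : Type*) [Group G] : Subgroup G :=
  ⨆ p : (Nat.card G).primeFactors, Cfsg.pCore (p : ℕ) G

theorem coreJoin_normal (G : Type*) [Group G] : (coreJoin G).Normal := by
  unfold coreJoin
  haveI : ∀ p : (Nat.card G).primeFactors, (Cfsg.pCore (p : ℕ) G).Normal :=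
    fun p => Cfsg.Agent.Lib.Helper1.pCore_normal _
  exact Subgroup.iSup_normal _

theorem coreJoin_isNilpotent (G : Type*) [Group G] [Finite G] :
    Group.IsNilpotent (coreJoin G) := by
  classical
  have hprime : ∀ p : (Nat.card G).primeFactors, Fact (p : ℕ).Prime :=
    fun p => ⟨Nat.prime_of_mem_primeFactors p.2⟩
  have hcomm : Pairwise fun i j : (Nat.card G).primeFactors =>
      ∀ x y : G, x ∈ Cfsg.pCore (i : ℕ) G → y ∈ Cfsg.pCore (j : ℕ) G → Commute x y := by
    intro i j hij x y hx hy
    haveI := hprime i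
    haveI := hprime j
    apply Subgroup.commute_of_normal_of_disjoint _ _
      (Cfsg.Agent.Lib.Helper1.pCore_normal _) (Cfsg.Agent.Lib.Helper1.pCore_normal _) _ x y hx hy
    exact IsPGroup.disjoint_of_ne (i : ℕ) (j : ℕ) (fun h => hij (Subtype.ext h)) _ _
      (Cfsg.Agent.Lib.Helper1.pCore_isPGroup _) (Cfsg.Agent.Lib.Helper1.pCore_isPGroup _)
  haveI : ∀ i : (Nat.card G).primeFactors, Group.IsNilpotent (Cfsg.pCore (i : ℕ) G) := by
    intro i
    haveI := hprime i
    exact (Cfsg.Agent.Lib.Helper1.pCore_isPGroup (i : ℕ)).isNilpotent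
  have hrange : (Subgroup.noncommPiCoprod hcomm).range = coreJoin G :=
    Subgroup.noncommPiCoprod_range
  rw [← hrange]
  exact Group.nilpotent_of_surjective (Subgroup.noncommPiCoprod hcomm).rangeRestrict
    (Subgroup.noncommPiCoprod hcomm).rangeRestrict_surjective

/-- A normal nilpotent subgroup lies in the join of the `p`-cores. -/
theorem le_coreJoin_of_normal_of_isNilpotent [Finite G] (N : Subgroup G) [hN : N.Normal]
    (hnil : Group.IsNilpotent N) : N ≤ coreJoin G := by
  intro x hx
  apply mem_of_pParts_mem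
  intro p hp
  haveI : Fact p.Prime := ⟨hp⟩
  by_cases hpG : p ∣ Nat.card G
  · have hpmem : p ∈ (Nat.card G).primeFactors :=
      Nat.mem_primeFactors.2 ⟨hp, hpG, Nat.card_pos.ne'⟩
    -- the p-part of x, as an element of N
    let y : N := ⟨pPart x p, pPart_mem hx p⟩
    have hy : IsPGroup p (Subgroup.zpowers y) := by
      rw [IsPGroup.iff_card]
      refine ⟨(orderOf x).factorization p, ?_⟩
      rw [Nat.card_zpowers, Subgroup.orderOf_mk, orderOf_pPart]
    obtain ⟨P, hP⟩ := hy.exists_le_sylow
    have hyP : y ∈ P := hP (Subgroup.mem_zpowers y)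
    haveI : (P : Subgroup N).Normal := inferInstance
    haveI : (P : Subgroup N).Characteristic := P.characteristic_of_normal inferInstance
    have hnorm : ((P : Subgroup N).map N.subtype).Normal :=
      ConjAct.normal_of_characteristic_of_normal
    have hpg : IsPGroup p ((P : Subgroup N).map N.subtype) := P.isPGroup'.map _
    have hle : (P : Subgroup N).map N.subtype ≤ Cfsg.pCore p G :=
      Cfsg.Agent.Lib.Helper1.le_pCore hnorm hpg
    have h1 : pPart x p ∈ Cfsg.pCore p G := hle ⟨y, hyP, rfl⟩
    exact (le_iSup (fun q : (Nat.card G).primeFactors => Cfsg.pCore (q : ℕ) G) ⟨p, hpmem⟩) h1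
  · -- the p-part is trivial
    have h1 : orderOf (pPart x p) = 1 := by
      rw [orderOf_pPart]
      have : (orderOf x).factorization p = 0 := by
        apply Nat.factorization_eq_zero_of_not_dvd
        exact fun h => hpG (h.trans (orderOf_dvd_natCard x))
      rw [this, pow_zero]
    rw [orderOf_eq_one_iff] at h1
    rw [h1]
    exact Subgroup.one_mem _

theorem fittingSubgroup_eq_coreJoin (G : Type*) [Group G] [Finite G] :
    Cfsg.fittingSubgroup G = coreJoin G := by
  apply le_antisymm
  · apply sSup_le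
    rintro N ⟨hN, hnil⟩
    exact le_coreJoin_of_normal_of_isNilpotent N hnil
  · exact le_sSup ⟨coreJoin_normal G, coreJoin_isNilpotent G⟩

theorem fittingSubgroup_normal (G : Type*) [Group G] : (Cfsg.fittingSubgroup G).Normal :=
  Subgroup.sSup_normal _ (fun _ h => h.1)

/-- Fitting's theorem for finite groups: the Fitting subgroup is nilpotent. -/
theorem fittingSubgroup_isNilpotent (G : Type*) [Group G] [Finite G] :
    Group.IsNilpotent (Cfsg.fittingSubgroup G) := by
  rw [fittingSubgroup_eq_coreJoin]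
  exact coreJoin_isNilpotent G

theorem le_fittingSubgroup {N : Subgroup G} (hN : N.Normal) (hnil : Group.IsNilpotent N) :
    N ≤ Cfsg.fittingSubgroup G := le_sSup ⟨hN, hnil⟩

end Cfsg.Agent.Lib.Helper3
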