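import Mathlib
import Cfsg.Agent.Lib.Helper1.KegelLemma
import Cfsg.Agent.Lib.Helper1.HallFactorsPermute
import Cfsg.Agent.Lib.Helper1.SolvStructMisc
import Cfsg.Agent.Lib.Helper1.SylowNormalizerHall
import Cfsg.Agent.Lib.Helper1.NilpotentHall
import Cfsg.Agent.Lib.Helper1.NilpotentHallAux
import Cfsg.Agent.Lib.Helper1.ThreeSolvable
import Cfsg.Agent.Lib.Helper1.FactorizationSylow
import Cfsg.Agent.Lib.Helper1.SZHelpers
import Cfsg.Agent.Lib.Helper7.PCoreSub
import Cfsg.Agent.Lib.Helper7.FrakM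
import Cfsg.Agent.Lib.Helper7.PGroupAux

set_option autoImplicit false

open scoped Pointwise

namespace Cfsg.Agent.Lib.Helper3.KW

universe u

variable {G : Type u} [Group G]

/-! ### generalities -/

theorem nil_of_le {H K : Subgroup G} (hK : Group.IsNilpotent K) (h : H ≤ K) :
    Group.IsNilpotent H :=
  @Subgroup.isNilpotent_of_ker_le_center _ _ _ _ (Subgroup.inclusion h)
    (by rw [(MonoidHom.ker_eq_bot_iff _).mpr (Subgroup.inclusion_injective h)]; exact bot_le) hK

theorem nil_subgroupOf {A L : Subgroup G} (hA : Group.IsNilpotent A) :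
    Group.IsNilpotent (A.subgroupOf L) := by
  let f : (A.subgroupOf L) →* A :=
    { toFun := fun x => ⟨x.1.1, x.2⟩, map_one' := rfl, map_mul' := fun _ _ => rfl }
  refine @Subgroup.isNilpotent_of_ker_le_center _ _ _ _ f ?_ hA
  have hinj : Function.Injective f := by
    intro x y hxy
    have := congrArg (fun z : A => (z : G)) hxy
    exact Subtype.ext (Subtype.ext this)
  rw [(MonoidHom.ker_eq_bot_iff f).mpr hinj]; exact bot_le

theorem nil_conj {A : Subgroup G} (hA : Group.IsNilpotent A) (g : G) :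
    Group.IsNilpotent (MulAut.conj g • A : Subgroup G) :=
  @Group.nilpotent_of_mulEquiv _ _ _ _ hA (Subgroup.equivSMul (MulAut.conj g) A)

theorem card_conj (A : Subgroup G) (g : G) :
    Nat.card (MulAut.conj g • A : Subgroup G) = Nat.card A :=
  Nat.card_congr (Subgroup.equivSMul (MulAut.conj g) A).toEquiv.symm

theorem mem_conj {H : Subgroup G} {g x : G} : x ∈ MulAut.conj g • H ↔ g⁻¹ * x * g ∈ H :=
  Cfsg.Agent.Lib.Helper1.mem_conj_smul_iff''

theorem le_normalizer_of_forall_conj_mem {C K : Subgroup G}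
    (h : ∀ c ∈ C, ∀ x ∈ K, c * x * c⁻¹ ∈ K) : C ≤ Subgroup.normalizer (K : Set G) := by
  intro c hc
  rw [Subgroup.mem_normalizer_iff]
  intro x
  constructor
  · exact h c hc x
  · intro hx
    have := h c⁻¹ (C.inv_mem hc) _ hx
    simpa [mul_assoc] using this

theorem conj_mem_of_mem_normalizer {K : Subgroup G} {c x : G}
    (hc : c ∈ Subgroup.normalizer (K : Set G)) (hx : x ∈ K) : c * x * c⁻¹ ∈ K :=
  (Subgroup.mem_normalizer_iff.mp hc x).mp hx

theorem exists_prime_order_mem [Finite G] (D : Subgroup G) (hD : D ≠ ⊥) :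
    ∃ y ∈ D, (orderOf y).Prime := by
  have h1 : Nat.card D ≠ 1 := fun h => hD (Subgroup.card_eq_one.mp h)
  obtain ⟨q, hq, hqd⟩ := Nat.exists_prime_and_dvd h1
  haveI := Fact.mk hq
  obtain ⟨x, hx⟩ := exists_prime_orderOf_dvd_card' (G := D) q hqd
  refine ⟨x.1, x.2, ?_⟩
  rw [Subgroup.orderOf_coe, hx]
  exact hq

/-! ### the Sylow subgroups of a nilpotent subgroup -/

/-- the Sylow `p`-subgroup of a (nilpotent) subgroup `A`, as a subgroup of `G` -/
noncomputable def sy (A : Subgroup G) (p : ℕ) [Fact p.Prime] : Subgroup G :=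
  ((default : Sylow p A) : Subgroup A).map A.subtype

theorem sy_le (A : Subgroup G) (p : ℕ) [Fact p.Prime] : sy A p ≤ A := by
  intro x hx
  obtain ⟨y, -, rfl⟩ := Subgroup.mem_map.mp hx
  exact y.2

theorem sy_isPGroup (A : Subgroup G) (p : ℕ) [Fact p.Prime] : IsPGroup p (sy A p) := by
  have h : IsPGroup p ((default : Sylow p A) : Subgroup A) := (default : Sylow p A).isPGroup'
  exact h.map A.subtype

theorem mem_sy_iff [Finite G] {A : Subgroup G} (hA : Group.IsNilpotent A) {p : ℕ} [Fact p.Prime]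
    {x : G} : x ∈ sy A p ↔ x ∈ A ∧ ∃ k : ℕ, x ^ p ^ k = 1 := by
  constructor
  · intro hx
    refine ⟨sy_le A p hx, ?_⟩
    obtain ⟨k, hk⟩ := (sy_isPGroup A p) ⟨x, hx⟩
    refine ⟨k, ?_⟩
    have := congrArg Subtype.val hk
    simpa using this
  · rintro ⟨hxA, k, hk⟩
    have := hA
    obtain ⟨y, hy⟩ : ∃ y : A, y = ⟨x, hxA⟩ := ⟨_, rfl⟩
    have hyk : y ^ p ^ k = 1 := by
      rw [hy]; exact Subtype.ext (by simpa using hk)
    have hz : IsPGroup p (Subgroup.zpowers y) := by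
      rintro ⟨g, hg⟩
      obtain ⟨n, rfl⟩ := Subgroup.mem_zpowers_iff.mp hg
      refine ⟨k, Subtype.ext ?_⟩
      show (y ^ n) ^ p ^ k = 1
      rw [← zpow_natCast, ← zpow_mul, mul_comm, zpow_mul, zpow_natCast, hyk, one_zpow]
    obtain ⟨Q, hQ⟩ := hz.exists_le_sylow
    have hn : ((default : Sylow p A) : Subgroup A).Normal := inferInstance
    haveI : Unique (Sylow p A) := Sylow.unique_of_normal (default : Sylow p A) hn
    have hQd : Q = default := Subsingleton.elim _ _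
    have hmem : y ∈ ((default : Sylow p A) : Subgroup A) := by
      rw [← hQd]; exact hQ (Subgroup.mem_zpowers y)
    exact Subgroup.mem_map.mpr ⟨y, hmem, by rw [hy]; rfl⟩

theorem mem_sy_of_pow [Finite G] {A : Subgroup G} (hA : Group.IsNilpotent A) {p : ℕ} [Fact p.Prime]
    {x : G} (hx : x ∈ A) (h : x ^ p = 1) : x ∈ sy A p :=
  (mem_sy_iff hA).mpr ⟨hx, 1, by simpa using h⟩

theorem le_sy_of_isPGroup [Finite G] {A F : Subgroup G} (hA : Group.IsNilpotent A) {p : ℕ}
    [Fact p.Prime] (hFA : F ≤ A) (hF : IsPGroup p F) : F ≤ sy A p := by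
  intro x hx
  refine (mem_sy_iff hA).mpr ⟨hFA hx, ?_⟩
  obtain ⟨k, hk⟩ := hF ⟨x, hx⟩
  refine ⟨k, ?_⟩
  have := congrArg Subtype.val hk
  simpa using this

theorem card_sy [Finite G] (A : Subgroup G) (p : ℕ) [Fact p.Prime] :
    Nat.card (sy A p) = p ^ (Nat.card A).factorization p := by
  unfold sy
  rw [Subgroup.card_map_of_injective A.subtype_injective]
  exact (default : Sylow p A).card_eq_multiplicity

theorem sy_ne_bot [Finite G] {A : Subgroup G} {p : ℕ} [hp : Fact p.Prime] (h : p ∣ Nat.card A) :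
    sy A p ≠ ⊥ := by
  intro hb
  have h1 : Nat.card (sy A p) = 1 := by rw [hb]; exact Subgroup.card_bot
  rw [card_sy] at h1
  have h2 : (Nat.card A).factorization p = 0 := by
    rcases Nat.pow_eq_one.mp h1 with h3 | h3
    · exact absurd h3 hp.out.ne_one
    · exact h3
  rcases (Nat.factorization_eq_zero_iff _ _).mp h2 with h3 | h3 | h3
  · exact h3 hp.out
  · exact h3 h
  · exact Nat.card_pos.ne' h3

theorem normalizer_le_normalizer_sy [Finite G] {A : Subgroup G} (hA : Group.IsNilpotent A) (p : ℕ)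
    [Fact p.Prime] :
    Subgroup.normalizer (A : Set G) ≤ Subgroup.normalizer (sy A p : Set G) := by
  apply le_normalizer_of_forall_conj_mem
  intro g hg x hx
  rw [mem_sy_iff hA] at hx ⊢
  obtain ⟨h1, k, hk⟩ := hx
  refine ⟨conj_mem_of_mem_normalizer hg h1, k, ?_⟩
  rw [conj_pow, hk]; group

theorem le_normalizer_sy [Finite G] {A : Subgroup G} (hA : Group.IsNilpotent A) (p : ℕ)
    [Fact p.Prime] : A ≤ Subgroup.normalizer (sy A p : Set G) :=
  Subgroup.le_normalizer.trans (normalizer_le_normalizer_sy hA p)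

theorem sy_commute [Finite G] {A : Subgroup G} (hA : Group.IsNilpotent A) {p q : ℕ}
    [Fact p.Prime] [Fact q.Prime] (hpq : p ≠ q) {x y : G} (hx : x ∈ sy A p) (hy : y ∈ sy A q) :
    x * y = y * x := by
  have hxA := sy_le A p hx
  have hyA := sy_le A q hy
  have h1 : x * y * x⁻¹ * y⁻¹ ∈ sy A q :=
    (sy A q).mul_mem (conj_mem_of_mem_normalizer (le_normalizer_sy hA q hxA) hy)
      ((sy A q).inv_mem hy)
  have h2 : x * y * x⁻¹ * y⁻¹ ∈ sy A p := by
    have : x * y * x⁻¹ * y⁻¹ = x * (y * x⁻¹ * y⁻¹) := by group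
    rw [this]
    exact (sy A p).mul_mem hx
      (conj_mem_of_mem_normalizer (le_normalizer_sy hA p hyA) ((sy A p).inv_mem hx))
  have hd := IsPGroup.disjoint_of_ne p q hpq (sy A p) (sy A q) (sy_isPGroup A p) (sy_isPGroup A q)
  have h3 : x * y * x⁻¹ * y⁻¹ = 1 := by
    have := hd.le_bot (show x * y * x⁻¹ * y⁻¹ ∈ sy A p ⊓ sy A q from ⟨h2, h1⟩)
    simpa using this
  have : x * y = (x * y * x⁻¹ * y⁻¹) * (y * x) := by group
  rw [this, h3, one_mul]

theorem sy_of_le [Finite G] {A A' : Subgroup G} (hA : Group.IsNilpotent A) (h : A' ≤ A) (p : ℕ)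
    [Fact p.Prime] : sy A' p = A' ⊓ sy A p := by
  ext x
  rw [Subgroup.mem_inf, mem_sy_iff (nil_of_le hA h), mem_sy_iff hA]
  constructor
  · rintro ⟨h1, h2⟩; exact ⟨h1, h h1, h2⟩
  · rintro ⟨h1, _, h2⟩; exact ⟨h1, h2⟩

theorem eq_of_forall_sy_le [Finite G] {A D : Subgroup G} (hDA : D ≤ A)
    (h : ∀ (p : ℕ) [Fact p.Prime], sy A p ≤ D) : D = A := by
  apply Subgroup.eq_of_le_of_card_ge hDA
  apply Nat.le_of_dvd Nat.card_pos
  rw [← Nat.factorization_le_iff_dvd (Nat.card_pos.ne') (Nat.card_pos.ne')]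
  intro p
  by_cases hp : p.Prime
  · haveI := Fact.mk hp
    have h1 : Nat.card (sy A p) ∣ Nat.card D := Subgroup.card_dvd_of_le (h p)
    rw [card_sy] at h1
    exact (hp.pow_dvd_iff_le_factorization Nat.card_pos.ne').mp h1
  · simp [Nat.factorization_eq_zero_of_not_prime _ hp]

theorem exists_sylow_eq_sy [Finite G] (A : Subgroup G) {p : ℕ} [hp : Fact p.Prime]
    (hidx : ¬ p ∣ A.index) : ∃ S : Sylow p G, (S : Subgroup G) = sy A p := by
  have hfac : (Nat.card G).factorization p = (Nat.card A).factorization p := by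
    rw [← A.card_mul_index, Nat.factorization_mul Nat.card_pos.ne' Subgroup.index_ne_zero_of_finite]
    simp [Nat.factorization_eq_zero_of_not_dvd hidx]
  exact ⟨Sylow.ofCard (sy A p) (by rw [card_sy, hfac]), Sylow.coe_ofCard _ _⟩

theorem coprime_card_sy_relIndex [Finite G] (A L : Subgroup G) {p : ℕ} [hp : Fact p.Prime]
    (hidx : ¬ p ∣ A.index) (hL : sy A p ≤ L) :
    (Nat.card (sy A p)).Coprime ((sy A p).relIndex L) := by
  obtain ⟨S, hS⟩ := exists_sylow_eq_sy A hidx
  have h1 : ¬ p ∣ (sy A p).index := by rw [← hS]; exact S.not_dvd_index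
  have h2 : (sy A p).relIndex L ∣ (sy A p).index := by
    rw [← Subgroup.relIndex_mul_index hL]; exact dvd_mul_right _ _
  have h3 : ¬ p ∣ (sy A p).relIndex L := fun h => h1 (h.trans h2)
  rw [card_sy]
  exact Nat.Coprime.pow_left _ ((Nat.Prime.coprime_iff_not_dvd hp.out).mpr h3)

/-! ### coprime orders and normal subgroups -/

theorem pow_mul_pow_mem {C : Subgroup G} {a b : G} (hab : a * b ∈ C)
    (ha : ∀ c ∈ C, a * c * a⁻¹ ∈ C) (j : ℕ) : a ^ j * b ^ j ∈ C := by
  induction j with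
  | zero => simp
  | succ j ih =>
    have : a ^ (j + 1) * b ^ (j + 1) = (a * (a ^ j * b ^ j) * a⁻¹) * (a * b) := by
      rw [pow_succ', pow_succ]; group
    rw [this]
    exact C.mul_mem (ha _ ih) hab

theorem mem_of_mul_mem_of_normalizes [Finite G] {C : Subgroup G} {a b : G} (hab : a * b ∈ C)
    (ha : ∀ c ∈ C, a * c * a⁻¹ ∈ C) (hcop : (orderOf a).Coprime (orderOf b)) : a ∈ C := by
  by_cases h1 : orderOf a = 1
  · rw [orderOf_eq_one_iff] at h1; rw [h1]; exact C.one_mem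
  have hpos : 0 < orderOf a := orderOf_pos a
  obtain ⟨m, -, hm⟩ := Nat.exists_mul_mod_eq_one_of_coprime hcop.symm (by omega)
  have h2 := pow_mul_pow_mem hab ha (orderOf b * m)
  rw [pow_mul b, pow_orderOf_eq_one, one_pow, mul_one, ← pow_mod_orderOf, hm, pow_one] at h2
  exact h2

/-- `L` is factorized: `a * b ∈ L` forces `a ∈ L` (and then `b ∈ L`) -/
def Fac (A B L : Subgroup G) : Prop := ∀ a ∈ A, ∀ b ∈ B, a * b ∈ L → a ∈ L

theorem Fac.left {A B L : Subgroup G} (h : Fac A B L) {a b : G} (ha : a ∈ A) (hb : b ∈ B)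
    (hab : a * b ∈ L) : a ∈ L := h a ha b hb hab

theorem Fac.right {A B L : Subgroup G} (h : Fac A B L) {a b : G} (ha : a ∈ A) (hb : b ∈ B)
    (hab : a * b ∈ L) : b ∈ L := by
  have h1 := h a ha b hb hab
  have h2 : b = a⁻¹ * (a * b) := by group
  rw [h2]; exact L.mul_mem (L.inv_mem h1) hab

theorem fac_of_le_left {A B L : Subgroup G} (h : A ≤ L) : Fac A B L := fun _ ha _ _ _ => h ha

theorem fac_of_le_right {A B L : Subgroup G} (h : B ≤ L) : Fac A B L := fun a _ b hb hab => by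
  have : a = (a * b) * b⁻¹ := by group
  rw [this]; exact L.mul_mem hab (L.inv_mem (h hb))

theorem Fac.inf {A B L₁ L₂ : Subgroup G} (h1 : Fac A B L₁) (h2 : Fac A B L₂) :
    Fac A B (L₁ ⊓ L₂) := fun a ha b hb hab => ⟨h1 a ha b hb hab.1, h2 a ha b hb hab.2⟩

theorem fac_top {A B : Subgroup G} : Fac A B ⊤ := fun _ _ _ _ _ => Subgroup.mem_top _

theorem Fac.of_normal [Finite G] {A B L M : Subgroup G} (hcop : (Nat.card A).Coprime (Nat.card B))
    (hL : Fac A B L) (hML : M ≤ L) (hn : L ≤ Subgroup.normalizer (M : Set G)) : Fac A B M := by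
  intro a ha b hb hab
  have haL := hL a ha b hb (hML hab)
  have han := hn haL
  apply mem_of_mul_mem_of_normalizes hab
  · intro c hc; exact conj_mem_of_mem_normalizer han hc
  · exact Nat.Coprime.coprime_dvd_left (Subgroup.orderOf_dvd_natCard A ha)
      (Nat.Coprime.coprime_dvd_right (Subgroup.orderOf_dvd_natCard B hb) hcop)

theorem eq_one_of_isPGroup_of_not_dvd [Finite G] {F B : Subgroup G} {ℓ : ℕ} [hℓ : Fact ℓ.Prime]
    (hF : IsPGroup ℓ F) (h : ¬ ℓ ∣ Nat.card B) {b : G} (hbF : b ∈ F) (hbB : b ∈ B) : b = 1 := by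
  obtain ⟨k, hk⟩ := hF ⟨b, hbF⟩
  have hk' : b ^ ℓ ^ k = 1 := by
    have := congrArg Subtype.val hk
    simpa using this
  have h1 : orderOf b ∣ ℓ ^ k := orderOf_dvd_of_pow_eq_one hk'
  have h2 : orderOf b ∣ Nat.card B := Subgroup.orderOf_dvd_natCard B hbB
  have h3 : (ℓ ^ k).Coprime (Nat.card B) :=
    Nat.Coprime.pow_left _ ((Nat.Prime.coprime_iff_not_dvd hℓ.out).mpr h)
  have h4 : orderOf b = 1 := Nat.eq_one_of_dvd_coprimes h3 h1 h2
  exact orderOf_eq_one_iff.mp h4

end Cfsg.Agent.Lib.Helper3.KW
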