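import Mathlib
import Cfsg.Agent.Lib.Helper2.PLengthSeries
import Cfsg.Agent.Lib.Lead.PLength
import Cfsg.Agent.Lib.Helper1.SZHelpers
import Cfsg.Agent.Lib.Helper1.BT3
import Cfsg.Agent.Lib.Helper3.KW1
import Cfsg.Agent.Lib.Helper3.UpperPSeries
import Cfsg.Agent.S1450
import Cfsg.Agent.S1405

set_option autoImplicit false
open scoped commutatorElement

namespace Cfsg.Agent.Lib.Helper3.BG10

open Cfsg Cfsg.Agent.Lib.Helper2.PLQ Cfsg.Agent.Lib.Helper2 Cfsg.Agent.Lib

/-- `p`-length passes to arbitrary subgroups. -/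
theorem pLengthLE_subgroup {G : Type*} [Group G] [Finite G] (p k : ℕ) [Fact p.Prime]
    (N : Subgroup G) (h : PLengthLE p k G) : PLengthLE p k ↥N := by
  unfold PLengthLE at h ⊢
  have hrel : ∀ n, ((upperPSeries p G n).1.subgroupOf N).relIndex
      ((upperPSeries p G (n + 1)).1.subgroupOf N) ∣
      (upperPSeries p G n).1.relIndex (upperPSeries p G (n + 1)).1 := by
    intro n
    have e : ((upperPSeries p G n).1.subgroupOf N).relIndex
        ((upperPSeries p G (n + 1)).1.subgroupOf N) =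
        (upperPSeries p G n).1.relIndex ((upperPSeries p G (n + 1)).1 ⊓ N) := by
      rw [← Subgroup.subgroupOf_map_subtype]
      exact Subgroup.relIndex_comap ..
    rw [e]
    exact relIndex_dvd_relIndex_of_le_of_normal _ inf_le_left
  have key := le_upperPSeries_of_series (G := ↥N) p
    (fun n => (upperPSeries p G n).1.subgroupOf N) (fun n => inferInstance)
    (by
      change (upperPSeries p G 0).1.subgroupOf N = ⊥
      rw [Helper3.upperPSeries_zero, Subgroup.bot_subgroupOf])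
    (fun n hn => Nat.Coprime.coprime_dvd_left (hrel n) (relIndex_upperPSeries_even p n hn))
    (fun n hn => by
      obtain ⟨j, hj⟩ := relIndex_upperPSeries_odd (G := G) p n hn
      have h1 := hrel n
      rw [hj] at h1
      obtain ⟨i, -, hi⟩ := (Nat.dvd_prime_pow Fact.out).mp h1
      exact ⟨i, hi⟩) (2 * k + 1)
  change (upperPSeries p G (2 * k + 1)).1.subgroupOf N ≤ _ at key
  rw [h, Subgroup.top_subgroupOf] at key
  exact top_le_iff.mp key


section comm

variable {X : Type*} [Group X]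

theorem perfect_eq_bot [Group.IsSolvable X] (B : Subgroup X) (hB : B ≤ ⁅B, B⁆) : B = ⊥ := by
  obtain ⟨n, hn⟩ := Group.IsSolvable.solvable (G := X)
  have h : ∀ n, B ≤ derivedSeries X n := by
    intro n
    induction n with
    | zero => exact le_top
    | succ n ih => exact hB.trans (Subgroup.commutator_mono ih ih)
  exact le_bot_iff.mp (hn ▸ h n)

theorem conj_mem_commutator_left (A K : Subgroup X) {a : X} (ha : a ∈ A) {d : X}
    (hd : d ∈ ⁅A, K⁆) : a * d * a⁻¹ ∈ ⁅A, K⁆ := by
  have h : ⁅A, K⁆ ≤ (⁅A, K⁆).comap (MulAut.conj a).toMonoidHom := by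
    rw [Subgroup.commutator_le]
    intro x hx b hb
    rw [Subgroup.mem_comap]
    change a * ⁅x, b⁆ * a⁻¹ ∈ _
    have e : a * ⁅x, b⁆ * a⁻¹ = ⁅a * x, b⁆ * ⁅a, b⁆⁻¹ := by
      simp only [commutatorElement_def]; group
    rw [e]
    exact mul_mem (Subgroup.commutator_mem_commutator (mul_mem ha hx) hb)
      (inv_mem (Subgroup.commutator_mem_commutator ha hb))
  exact h hd

theorem conj_mem_commutator_right (A K : Subgroup X) {k : X} (hk : k ∈ K) {d : X}
    (hd : d ∈ ⁅A, K⁆) : k * d * k⁻¹ ∈ ⁅A, K⁆ := by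
  rw [Subgroup.commutator_comm] at hd ⊢
  exact conj_mem_commutator_left K A hk hd

theorem commutator_normal_of_complement {A K : Subgroup X} (hc : Subgroup.IsComplement' A K) :
    (⁅A, K⁆).Normal := by
  refine ⟨fun d hd g => ?_⟩
  obtain ⟨a, ha, k, hk, rfl⟩ := Cfsg.Agent.Lib.Helper1.isComplement'_mul_eq hc g
  have e : a * k * d * (a * k)⁻¹ = a * (k * d * k⁻¹) * a⁻¹ := by group
  rw [e]
  exact conj_mem_commutator_left A K ha (conj_mem_commutator_right A K hk hd)

theorem mk_mul_comm_of_commutator_mem (N : Subgroup X) [N.Normal] {x y : X} (h : ⁅x, y⁆ ∈ N) :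
    QuotientGroup.mk' N x * QuotientGroup.mk' N y = QuotientGroup.mk' N y * QuotientGroup.mk' N x := by
  rw [← commutatorElement_eq_one_iff_mul_comm, ← map_commutatorElement, QuotientGroup.mk'_apply,
    QuotientGroup.eq_one_iff]
  exact h

/-- If `A ⊴ X` has a complement `K`, `A` is contained in the derived subgroup of `X` and `X` is
solvable, then `A = [A, K]`. -/
theorem comm_eq_of_complement [Group.IsSolvable X] {A K : Subgroup X} [hAn : A.Normal]
    (hc : Subgroup.IsComplement' A K) (hA : A ≤ commutator X) : ⁅A, K⁆ = A := by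
  apply le_antisymm (Subgroup.commutator_le_left A K)
  haveI hDn : (⁅A, K⁆).Normal := commutator_normal_of_complement hc
  obtain ⟨N₁, hN₁⟩ : ∃ N₁ : Subgroup X, N₁ = ⁅A, A⁆ ⊔ ⁅A, K⁆ := ⟨_, rfl⟩
  haveI hN₁n : N₁.Normal := by rw [hN₁]; infer_instance
  have hN₁A : N₁ ≤ A := by
    rw [hN₁]; exact sup_le (Subgroup.commutator_le_self A) (Subgroup.commutator_le_left A K)
  -- step 1 : `A ≤ N₁`
  have hAN₁ : A ≤ N₁ := by
    obtain ⟨π, hπ⟩ : ∃ π : X →* X ⧸ N₁, π = QuotientGroup.mk' N₁ := ⟨_, rfl⟩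
    have hπs : Function.Surjective π := by rw [hπ]; exact QuotientGroup.mk'_surjective N₁
    have hcen : A.map π ≤ Subgroup.center (X ⧸ N₁) := by
      rintro z ⟨a, ha, rfl⟩
      rw [Subgroup.mem_center_iff]
      intro y
      obtain ⟨g, rfl⟩ := hπs y
      obtain ⟨a', ha', k', hk', rfl⟩ := Cfsg.Agent.Lib.Helper1.isComplement'_mul_eq hc g
      have h1 : π a' * π a = π a * π a' := by
        rw [hπ]
        apply mk_mul_comm_of_commutator_mem
        rw [hN₁]
        exact (le_sup_left : ⁅A, A⁆ ≤ _) (Subgroup.commutator_mem_commutator ha' ha)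
      have h2 : π a * π k' = π k' * π a := by
        rw [hπ]
        apply mk_mul_comm_of_commutator_mem
        rw [hN₁]
        exact (le_sup_right : ⁅A, K⁆ ≤ _) (Subgroup.commutator_mem_commutator ha hk')
      rw [map_mul, mul_assoc, ← h2, ← mul_assoc, h1, mul_assoc]
    haveI hKn : (K.map π).Normal := by
      rw [← Subgroup.normalizer_eq_top_iff, eq_top_iff]
      calc (⊤ : Subgroup (X ⧸ N₁)) = (A ⊔ K).map π := by
            rw [hc.sup_eq_top, ← MonoidHom.range_eq_map, MonoidHom.range_eq_top.mpr hπs]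
        _ = A.map π ⊔ K.map π := Subgroup.map_sup _ _ _
        _ ≤ _ := sup_le (hcen.trans (Subgroup.center_le_normalizer _)) Subgroup.le_normalizer
    have hsup : K.map π ⊔ A.map π = ⊤ := by
      rw [sup_comm, ← Subgroup.map_sup, hc.sup_eq_top, ← MonoidHom.range_eq_map,
        MonoidHom.range_eq_top.mpr hπs]
    have hcomm : IsMulCommutative ↥(A.map π) :=
      ⟨⟨fun x y => Subtype.ext ((Subgroup.mem_center_iff.mp (hcen x.2) y.1).symm)⟩⟩
    have hY : commutator (X ⧸ N₁) ≤ K.map π :=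
      Subgroup.Normal.commutator_le_of_self_sup_commutative_eq_top hsup hcomm
    have hmap : (commutator X).map π ≤ commutator (X ⧸ N₁) := by
      rw [commutator_def, commutator_def, Subgroup.map_commutator]
      exact Subgroup.commutator_mono le_top le_top
    intro x hx
    obtain ⟨k, hk, hkx⟩ := hY (hmap (Subgroup.mem_map_of_mem π (hA hx)))
    rw [hπ] at hkx
    have h3 : k⁻¹ * x ∈ N₁ := QuotientGroup.eq.mp hkx
    have h4 : k ∈ A := by
      have h5 := A.mul_mem hx (A.inv_mem (hN₁A h3))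
      have e : x * (k⁻¹ * x)⁻¹ = k := by group
      rwa [e] at h5
    have h6 : k = 1 := Subgroup.disjoint_def.mp hc.disjoint h4 hk
    rw [h6, inv_one, one_mul] at h3
    exact h3
  -- step 2 : pass to `X ⧸ [A, K]`
  obtain ⟨ρ, hρ⟩ : ∃ ρ : X →* X ⧸ ⁅A, K⁆, ρ = QuotientGroup.mk' ⁅A, K⁆ := ⟨_, rfl⟩
  have hB : A.map ρ ≤ ⁅A.map ρ, A.map ρ⁆ := by
    calc A.map ρ ≤ (⁅A, A⁆ ⊔ ⁅A, K⁆).map ρ := Subgroup.map_mono (hN₁ ▸ hAN₁)
      _ = (⁅A, A⁆).map ρ ⊔ (⁅A, K⁆).map ρ := Subgroup.map_sup _ _ _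
      _ = ⁅A.map ρ, A.map ρ⁆ := by
          rw [Subgroup.map_commutator, hρ, QuotientGroup.map_mk'_self, sup_bot_eq]
  have hbot := perfect_eq_bot (A.map ρ) hB
  rw [Subgroup.map_eq_bot_iff, hρ, QuotientGroup.ker_mk'] at hbot
  exact hbot

end comm

section main

universe u
variable {G : Type u} [Group G] [Finite G]

open Cfsg.Agent.Lib.Helper1

theorem pLengthLE_one_coatom
    (h1444 : ∀ (X : Type u) [Group X] [Finite X] [Group.IsSolvable X], Odd (Nat.card X) →
      ∀ (H R R₀ : Subgroup X) [H.Normal], (Nat.card H).Coprime H.index →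
      Subgroup.IsComplement' H R → R₀ ≤ R → (Nat.card R₀).Prime →
      IsZGroup ↥(H ⊓ Subgroup.centralizer (R₀ : Set X)) →
      ∀ (p : ℕ) [Fact p.Prime], Cfsg.PLengthLE p 1 ↥⁅H, R⁆)
    (hG : IsMinSimpleOddOrder G) (p : ℕ) [hp : Fact p.Prime] (M : Subgroup G) (hM : IsCoatom M) :
    PLengthLE p 1 ↥M := by
  have hsolv := hG.2.2.2
  haveI hMs : Group.IsSolvable ↥M := hsolv M hM.1
  have hoddM : Odd (Nat.card ↥M) := Odd.of_dvd_nat hG.1 (Subgroup.card_subgroup_dvd_card M)
  by_cases hpM : p ∣ Nat.card ↥M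
  swap
  · exact pLengthLE_mono p (Nat.zero_le 1) (pLengthLE_zero_of_coprime p
      ((Nat.Prime.coprime_iff_not_dvd hp.out).mpr hpM).symm)
  by_cases hr : PRankLE p 2 ↥M
  · exact Helper3.pLengthLE_one_of_index_coprime p ↥M
      (Cfsg.Agent.S1450.result hoddM p hpM hr).2.2.2.2.2
  have hpα : p ∈ alpha M := ⟨hp.out, hr⟩
  obtain ⟨hHall, -, -, -, -⟩ := Cfsg.Agent.S1405.result hG M hM
  obtain ⟨hαM, hαpi, hαidx⟩ := hHall
  obtain ⟨A, hA⟩ : ∃ A : Subgroup ↥M, A = piCore (alpha M) ↥M := ⟨_, rfl⟩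
  haveI hAn : A.Normal := by rw [hA]; infer_instance
  have hAmap : A.map M.subtype = alphaCore M := by rw [hA]; rfl
  have hcardA : Nat.card A = Nat.card (alphaCore M) := by
    rw [← hAmap]; exact (Subgroup.card_map_of_injective M.subtype_injective).symm
  have hidxA : A.index = (alphaCore M).relIndex M := by
    rw [← hAmap]
    change A.index = ((A.map M.subtype).comap M.subtype).index
    rw [Subgroup.comap_map_eq_self_of_injective M.subtype_injective]
  have hcop : (Nat.card A).Coprime A.index := by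
    apply Nat.coprime_of_dvd
    intro q hq hqA hqi
    rw [hcardA] at hqA
    rw [hidxA] at hqi
    exact hαidx q hq (hαpi q hq hqA) hqi
  obtain ⟨K, hK⟩ := Subgroup.exists_right_complement'_of_coprime hcop
  have hαcomm : alphaCore M ≤ ⁅M, M⁆ := by
    have h1 : alphaCore M ⊓ ⁅M, M⁆ = alphaCore M := by
      apply Helper3.KW.eq_of_forall_sy_le inf_le_left
      intro q hq
      refine le_inf (Helper3.KW.sy_le _ q) ?_
      by_cases hqd : q ∣ Nat.card (alphaCore M)
      · have hqσ : q ∈ sigma M := BT.alpha_subset_sigma hG hM (hαpi q hq.out hqd)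
        obtain ⟨R, hR, hle⟩ := BT.exists_isMaxP_ge (Helper3.KW.sy_isPGroup (alphaCore M) q)
          ((Helper3.KW.sy_le _ q).trans hαM)
        exact hle.trans (BT.sigma_sylow_le_commutator hG hM hqσ hR).1
      · have : Helper3.KW.sy (alphaCore M) q = ⊥ := by
          apply Subgroup.eq_bot_of_card_eq
          rw [Helper3.KW.card_sy, Nat.factorization_eq_zero_of_not_dvd hqd, pow_zero]
        rw [this]; exact bot_le
    rw [← h1]; exact inf_le_right
  have hAcomm : A ≤ commutator ↥M := by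
    rw [← Subgroup.map_le_map_iff_of_injective M.subtype_injective, hAmap,
      Subgroup.map_subtype_commutator]
    exact hαcomm
  haveI : Nontrivial ↥M := by
    rw [← Finite.one_lt_card_iff_nontrivial]
    exact lt_of_lt_of_le hp.out.one_lt (Nat.le_of_dvd Nat.card_pos hpM)
  have hlt := Group.IsSolvable.commutator_lt_top_of_nontrivial ↥M
  have hidx1 : (commutator ↥M).index ≠ 1 := fun h => hlt.ne (Subgroup.index_eq_one.mp h)
  obtain ⟨s, hs, hsd⟩ := Nat.exists_prime_and_dvd hidx1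
  haveI hsf : Fact s.Prime := ⟨hs⟩
  have hsM : s ∣ Nat.card ↥M := hsd.trans (Subgroup.index_dvd_card _)
  have hsσ : s ∉ sigma M := by
    intro hsσ
    obtain ⟨P₀⟩ : Nonempty (Sylow s ↥M) := inferInstance
    have h1 := (BT.sigma_sylow_le_commutator hG hM hsσ (BG8.isMaxP_of_sylow P₀)).1
    rw [← Subgroup.map_subtype_commutator,
      Subgroup.map_le_map_iff_of_injective M.subtype_injective] at h1
    exact P₀.not_dvd_index (hsd.trans (Subgroup.index_dvd_of_le h1))
  have hsA : ¬ s ∣ Nat.card A := by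
    intro h
    rw [hcardA] at h
    exact hsσ (BT.alpha_subset_sigma hG hM (hαpi s hs h))
  obtain ⟨Q⟩ : Nonempty (Sylow s ↥K) := inferInstance
  have hQp : IsPGroup s ((Q : Subgroup ↥K).map K.subtype) := Q.isPGroup'.map _
  have hQi : ¬ s ∣ ((Q : Subgroup ↥K).map K.subtype).index := by
    rw [Subgroup.index_map_subtype, hK.index_eq_card]
    intro h
    rcases (Nat.Prime.dvd_mul hs).mp h with h | h
    · exact Q.not_dvd_index h
    · exact hsA h
  obtain ⟨P, hP⟩ : ∃ P : Sylow s ↥M, (P : Subgroup ↥M) = (Q : Subgroup ↥K).map K.subtype :=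
    ⟨hQp.toSylow hQi, hQp.toSylow_coe hQi⟩
  obtain ⟨x, hx, hxo, hxZ, -⟩ := BT.s1407 hG hM hsM hsσ P
  obtain ⟨y, hy', hxy⟩ := Subgroup.mem_map.mp hx
  obtain ⟨z, -, hzy⟩ := Subgroup.mem_map.mp hy'
  have hyP : y ∈ (P : Subgroup ↥M) := by rw [← hzy]; exact z.2
  have hyK : y ∈ K := by
    rw [hP] at hyP
    exact Subgroup.map_subtype_le _ hyP
  have hyo : orderOf y = s := by
    rw [← Subgroup.orderOf_coe, ← hxo, ← hxy]; rfl
  have hR₀K : Subgroup.zpowers y ≤ K := (Subgroup.zpowers_le).mpr hyK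
  have hR₀p : (Nat.card (Subgroup.zpowers y)).Prime := by
    rw [Nat.card_zpowers, hyo]; exact hs
  have hZ : IsZGroup ↥(A ⊓ Subgroup.centralizer ((Subgroup.zpowers y : Subgroup ↥M) : Set ↥M)) := by
    haveI := hxZ
    have hmem : ∀ g : ↥(A ⊓ Subgroup.centralizer ((Subgroup.zpowers y : Subgroup ↥M) : Set ↥M)),
        (M.subtype.comp (Subgroup.subtype _)) g ∈
          alphaCore M ⊓ Subgroup.centralizer ({x} : Set G) := by
      intro g
      rw [Subgroup.mem_inf]
      refine ⟨?_, ?_⟩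
      · rw [← hAmap]
        exact Subgroup.mem_map_of_mem M.subtype g.2.1
      · rw [Subgroup.mem_centralizer_iff]
        intro h hh
        rw [Set.mem_singleton_iff] at hh
        rw [hh, ← hxy]
        have h2 := (Subgroup.mem_centralizer_iff.mp g.2.2) y (Subgroup.mem_zpowers y)
        exact congrArg Subtype.val h2
    exact IsZGroup.of_injective
      (f := (M.subtype.comp (Subgroup.subtype _)).codRestrict _ hmem) (by
        rw [MonoidHom.injective_codRestrict]
        exact M.subtype_injective.comp (Subgroup.subtype_injective _))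
  have h5 := h1444 ↥M hoddM A K (Subgroup.zpowers y) hcop hK hR₀K hR₀p hZ p
  rw [comm_eq_of_complement hK hAcomm] at h5
  have hQ : PLengthLE p 0 (↥M ⧸ A) := by
    apply pLengthLE_zero_of_coprime
    rw [← Subgroup.index_eq_card, hidxA]
    exact ((Nat.Prime.coprime_iff_not_dvd hp.out).mpr (hαidx p hp.out hpα)).symm
  exact pLengthLE_add p 1 0 A h5 hQ

/-- B&G Theorem 10.6 from Theorem 6.5(a) (= S1444). -/
theorem s1410_of
    (h1444 : ∀ (X : Type u) [Group X] [Finite X] [Group.IsSolvable X], Odd (Nat.card X) →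
      ∀ (H R R₀ : Subgroup X) [H.Normal], (Nat.card H).Coprime H.index →
      Subgroup.IsComplement' H R → R₀ ≤ R → (Nat.card R₀).Prime →
      IsZGroup ↥(H ⊓ Subgroup.centralizer (R₀ : Set X)) →
      ∀ (p : ℕ) [Fact p.Prime], Cfsg.PLengthLE p 1 ↥⁅H, R⁆)
    (hG : IsMinSimpleOddOrder G) (p : ℕ) [Fact p.Prime] (H : Subgroup G) (hH : H ≠ ⊤) :
    PLengthLE p 1 H := by
  obtain ⟨M, hM, hHM⟩ := (eq_top_or_exists_le_coatom H).resolve_left hH
  have h1 := pLengthLE_one_coatom h1444 hG p M hM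
  have h2 := pLengthLE_subgroup p 1 (H.subgroupOf M) h1
  exact pLengthLE_of_mulEquiv p 1 (Subgroup.subgroupOfEquivOfLe hHM) h2

end main

end Cfsg.Agent.Lib.Helper3.BG10
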