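import Mathlib
import Cfsg.Agent.S1461
import Cfsg.Agent.Lib.Helper1.BG7a
import Cfsg.Agent.Lib.Helper1.MaxInter
import Cfsg.Agent.Lib.Helper1.SZHelpers
import Cfsg.Agent.Lib.Helper3.KW1

/-!
# Control of fusion by the Sylow normalizer when every proper subgroup has p-length one
(Bender–Glauberman, Corollary 10.7 (c), (d), (e)).
-/

set_option autoImplicit false
universe u
open scoped commutatorElement Pointwise

namespace Cfsg.Agent.Lib.Helper3.BG10

open Cfsg Subgroup Cfsg.Agent.Lib.Helper1 Cfsg.Agent.Lib.Helper1.BG7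

variable {G : Type u} [Group G]

theorem cj_self_of_mem_normalizer {P : Subgroup G} {y : G}
    (hy : y ∈ normalizer (P : Set G)) : cj y P = P := by
  ext x
  rw [mem_cj]
  have h := (Subgroup.mem_normalizer_iff.mp hy) (y⁻¹ * x * y)
  rw [h]
  have : y * (y⁻¹ * x * y) * y⁻¹ = x := by group
  rw [this]

theorem mem_normalizer_of_cj_self {P : Subgroup G} {y : G} (h : cj y P = P) :
    y ∈ normalizer (P : Set G) := by
  rw [Subgroup.mem_normalizer_iff]
  intro x
  constructor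
  · intro hx
    have : y * x * y⁻¹ ∈ cj y P := conj_mem_cj hx
    rwa [h] at this
  · intro hx
    have h2 : y * x * y⁻¹ ∈ cj y P := by rw [h]; exact hx
    rw [mem_cj] at h2
    have : y⁻¹ * (y * x * y⁻¹) * y = x := by group
    rwa [this] at h2

theorem cj_eq_of_cj_le [Finite G] {P : Subgroup G} {y : G} (h : cj y P ≤ P) : cj y P = P := by
  apply Subgroup.eq_of_le_of_card_ge h
  rw [card_cj]

theorem cj_normalizer' (g : G) (X : Subgroup G) :
    cj g (normalizer (X : Set G)) = normalizer (cj g X : Set G) := by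
  ext x
  rw [mem_cj, Subgroup.mem_normalizer_iff, Subgroup.mem_normalizer_iff]
  constructor
  · intro h z
    rw [mem_cj, mem_cj]
    have h1 := h (g⁻¹ * z * g)
    rw [h1]
    have : g⁻¹ * x * g * (g⁻¹ * z * g) * (g⁻¹ * x * g)⁻¹ = g⁻¹ * (x * z * x⁻¹) * g := by group
    rw [this]
  · intro h z
    have h1 := h (g * z * g⁻¹)
    rw [mem_cj, mem_cj] at h1
    have e1 : g⁻¹ * (g * z * g⁻¹) * g = z := by group
    have e2 : g⁻¹ * (x * (g * z * g⁻¹) * x⁻¹) * g = g⁻¹ * x * g * z * (g⁻¹ * x * g)⁻¹ := by group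
    rw [e1, e2] at h1
    exact h1

theorem conj_mem_centralizer_cj {Q : Subgroup G} {y c : G}
    (hc : c ∈ centralizer (Q : Set G)) : y * c * y⁻¹ ∈ centralizer (cj y Q : Set G) := by
  rw [Subgroup.mem_centralizer_iff]
  intro x hx
  have hx' : y⁻¹ * x * y ∈ Q := mem_cj.mp hx
  have h := Subgroup.mem_centralizer_iff.mp hc _ hx'
  have e1 : x * (y * c * y⁻¹) = y * ((y⁻¹ * x * y) * c) * y⁻¹ := by group
  have e2 : y * c * y⁻¹ * x = y * (c * (y⁻¹ * x * y)) * y⁻¹ := by group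
  rw [e1, e2, h]

theorem cj_of_mem_centralizer {Q : Subgroup G} {c : G}
    (hc : c ∈ centralizer (Q : Set G)) : cj c Q = Q := by
  apply cj_self_of_mem_normalizer
  exact Subgroup.centralizer_le_normalizer _ hc

theorem relIndex_cj (g : G) (S N : Subgroup G) : (cj g S).relIndex (cj g N) = S.relIndex N := by
  unfold cj
  exact Subgroup.relIndex_map_map_of_injective S N (MulAut.conj g).injective

/-- strong control of fusion for `Q ≤ P` -/
def Ctl (P Q : Subgroup G) : Prop :=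
  ∀ x : G, cj x Q ≤ P → ∃ y ∈ normalizer (P : Set G), ∃ c ∈ centralizer (Q : Set G), x = y * c

/-- `N_P(Q)` is a Sylow `p`-subgroup of `N_G(Q)` -/
def FN (p : ℕ) (P Q : Subgroup G) : Prop :=
  ¬ p ∣ (P ⊓ normalizer (Q : Set G)).relIndex (normalizer (Q : Set G))

theorem exists_cj_le_of_not_dvd [Finite G] {p : ℕ} [hp : Fact p.Prime] {N S T : Subgroup G}
    (hS : IsPGroup p S) (hidx : ¬ p ∣ S.relIndex N) (hTN : T ≤ N)
    (hT : IsPGroup p T) : ∃ n ∈ N, cj n T ≤ S := by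
  have hS' : IsPGroup p (S.subgroupOf N) := hS.comap_subtype
  have hidx' : ¬ p ∣ (S.subgroupOf N).index := hidx
  have hT' : IsPGroup p (T.subgroupOf N) := hT.comap_subtype
  obtain ⟨Q', hQ'⟩ := hT'.exists_le_sylow
  obtain ⟨n, hn⟩ := MulAction.exists_smul_eq (↥N) Q' (hS'.toSylow hidx')
  refine ⟨(n : G), n.2, ?_⟩
  intro x hx
  rw [mem_cj] at hx
  have hxN : x ∈ N := by
    have : x = (n : G) * ((n : G)⁻¹ * x * n) * (n : G)⁻¹ := by group
    rw [this]; exact N.mul_mem (N.mul_mem n.2 (hTN hx)) (N.inv_mem n.2)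
  have ht' : (⟨(n : G)⁻¹ * x * n, hTN hx⟩ : ↥N) ∈ (Q' : Subgroup ↥N) :=
    hQ' (mem_subgroupOf.mpr hx)
  have hx' : (⟨x, hxN⟩ : ↥N) ∈ MulAut.conj n • (Q' : Subgroup ↥N) := by
    rw [Cfsg.Agent.Lib.Helper3.KW.mem_conj]
    have : n⁻¹ * (⟨x, hxN⟩ : ↥N) * n = ⟨(n : G)⁻¹ * x * n, hTN hx⟩ := Subtype.ext (by simp)
    rw [this]; exact ht'
  rw [← Sylow.coe_subgroup_smul, hn] at hx'
  have hx'' : (⟨x, hxN⟩ : ↥N) ∈ S.subgroupOf N := hx'
  exact mem_subgroupOf.mp hx''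

theorem exists_le_cj_sylow [Finite G] {p : ℕ} [hp : Fact p.Prime] (P : Sylow p G) {R : Subgroup G}
    (hR : IsPGroup p R) : ∃ h : G, R ≤ cj h (P : Subgroup G) := by
  obtain ⟨S, hS⟩ := hR.exists_le_sylow
  obtain ⟨h, hh⟩ := MulAction.exists_smul_eq G P S
  refine ⟨h, ?_⟩
  have : ((h • P : Sylow p G) : Subgroup G) = cj h (P : Subgroup G) := by
    rw [Sylow.coe_subgroup_smul, conj_smul_eq_map]; rfl
  rw [← this, hh]; exact hS

theorem exists_fn_conj [Finite G] {p : ℕ} [hp : Fact p.Prime] (P : Sylow p G) (Q : Subgroup G)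
    (hQP : Q ≤ (P : Subgroup G)) :
    ∃ g : G, cj g Q ≤ (P : Subgroup G) ∧ FN p (P : Subgroup G) (cj g Q) := by
  have hQp : IsPGroup p Q := P.isPGroup'.to_le hQP
  obtain ⟨N, hN⟩ : ∃ N : Subgroup G, N = normalizer (Q : Set G) := ⟨_, rfl⟩
  have hQ' : IsPGroup p (Q.subgroupOf N) := hQp.comap_subtype
  obtain ⟨S', hS'⟩ := hQ'.exists_le_sylow
  set S : Subgroup G := (S' : Subgroup ↥N).map N.subtype with hS
  have hSN : S ≤ N := Subgroup.map_subtype_le _
  have hSp : IsPGroup p S := S'.isPGroup'.map _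
  have hQS : Q ≤ S := by
    intro x hx
    have hxN : x ∈ N := by rw [hN]; exact Subgroup.le_normalizer hx
    have hx2 : (⟨x, hxN⟩ : ↥N) ∈ Q.subgroupOf N := mem_subgroupOf.mpr hx
    exact ⟨⟨x, hxN⟩, hS' hx2, rfl⟩
  obtain ⟨h, hh⟩ := exists_le_cj_sylow P hSp
  -- S ≤ cj h P, so cj h⁻¹ S ≤ P
  have h1 : cj h⁻¹ S ≤ (P : Subgroup G) := by
    have := cj_mono (k := h⁻¹) hh
    rwa [cj_inv_cj] at this
  refine ⟨h⁻¹, (cj_mono hQS).trans h1, ?_⟩
  unfold FN
  have h2 : cj h⁻¹ S ≤ (P : Subgroup G) ⊓ normalizer (cj h⁻¹ Q : Set G) := by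
    refine le_inf h1 ?_
    rw [← cj_normalizer', ← hN]
    exact cj_mono hSN
  have h3 : ((P : Subgroup G) ⊓ normalizer (cj h⁻¹ Q : Set G)).relIndex
      (normalizer (cj h⁻¹ Q : Set G)) ∣ (cj h⁻¹ S).relIndex (normalizer (cj h⁻¹ Q : Set G)) :=
    Subgroup.relIndex_dvd_of_le_left _ h2
  intro hdvd
  have h4 := dvd_trans hdvd h3
  rw [← cj_normalizer', relIndex_cj, ← hN] at h4
  have h5 : S.relIndex N = (S' : Subgroup ↥N).index := by
    unfold Subgroup.relIndex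
    congr 1
    rw [hS, Subgroup.subgroupOf, Subgroup.comap_map_eq_self_of_injective N.subtype_injective]
  rw [h5] at h4
  exact S'.not_dvd_index h4

theorem card_lt_of_lt [Finite G] {H K : Subgroup G} (h : H < K) : Nat.card H < Nat.card K := by
  by_contra hc
  push Not at hc
  exact (ne_of_lt h) (Subgroup.eq_of_le_of_card_ge h.le hc)

theorem lt_inf_normalizer [Finite G] {p : ℕ} [hp : Fact p.Prime] {P Q : Subgroup G}
    (hP : IsPGroup p P) (hlt : Q < P) :
    Nat.card Q < Nat.card ((P ⊓ normalizer (Q : Set G) : Subgroup G)) := by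
  obtain ⟨x, hxP, hxN, hxQ⟩ := exists_mem_normalizer_not_mem_of_lt hP.isNilpotent hlt
  have hle : Q ≤ P ⊓ normalizer (Q : Set G) := le_inf hlt.le Subgroup.le_normalizer
  have hlt' : Q < P ⊓ normalizer (Q : Set G) :=
    SetLike.lt_iff_le_and_exists.mpr ⟨hle, x, Subgroup.mem_inf.mpr ⟨hxP, hxN⟩, hxQ⟩
  exact card_lt_of_lt hlt'

end Cfsg.Agent.Lib.Helper3.BG10
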