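import Mathlib
import Cfsg.Agent.Lib.Helper3.BG10a

/-!
# Control of fusion: the induction (B&G Corollary 10.7 (c), (d), (e))
-/

set_option autoImplicit false
universe u
open scoped commutatorElement Pointwise

namespace Cfsg.Agent.Lib.Helper3.BG10

open Cfsg Subgroup Cfsg.Agent.Lib.Helper1 Cfsg.Agent.Lib.Helper1.BG7

variable {G : Type u} [Group G]

/-- key step: moving `Q₁` to a fully normalized conjugate `Q₂` by an element of `N_G(P)`. -/
theorem keyX [Finite G] {p : ℕ} [hp : Fact p.Prime] (P : Sylow p G) {Q₁ Q₂ : Subgroup G}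
    (hQ₁ : Q₁ < (P : Subgroup G)) (g : G) (hg : cj g Q₁ = Q₂)
    (hFN : FN p (P : Subgroup G) Q₂)
    (IH : ∀ T : Subgroup G, T ≤ (P : Subgroup G) → Nat.card Q₁ < Nat.card T →
      Ctl (P : Subgroup G) T) :
    ∃ n ∈ normalizer (Q₂ : Set G), ∃ y ∈ normalizer ((P : Subgroup G) : Set G),
      ∃ c ∈ centralizer (Q₁ : Set G), n * g = y * c ∧ cj y Q₁ = Q₂ := by
  have hPp : IsPGroup p (P : Subgroup G) := P.isPGroup'
  set P₁ : Subgroup G := (P : Subgroup G) ⊓ normalizer (Q₁ : Set G) with hP₁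
  have hcard : Nat.card Q₁ < Nat.card P₁ := lt_inf_normalizer hPp hQ₁
  have hP₁p : IsPGroup p P₁ := hPp.to_le inf_le_left
  have h1 : cj g P₁ ≤ normalizer (Q₂ : Set G) := by
    rw [← hg, ← cj_normalizer']
    exact cj_mono inf_le_right
  have hcjp : IsPGroup p (cj g P₁) := by
    unfold cj; exact hP₁p.map _
  obtain ⟨n, hnN, hn⟩ := exists_cj_le_of_not_dvd (N := normalizer (Q₂ : Set G))
    (S := (P : Subgroup G) ⊓ normalizer (Q₂ : Set G)) (hPp.to_le inf_le_left) hFN h1 hcjp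
  have h2 : cj (n * g) P₁ ≤ (P : Subgroup G) := by
    rw [cj_mul]; exact hn.trans inf_le_left
  obtain ⟨y, hy, c, hc, hyc⟩ := IH P₁ inf_le_left hcard (n * g) h2
  have hQP₁ : Q₁ ≤ P₁ := le_inf hQ₁.le Subgroup.le_normalizer
  have hcQ : c ∈ centralizer (Q₁ : Set G) := Subgroup.centralizer_le hQP₁ hc
  refine ⟨n, hnN, y, hy, c, hcQ, hyc, ?_⟩
  have e1 : cj (n * g) Q₁ = Q₂ := by
    rw [cj_mul, hg]; exact cj_self_of_mem_normalizer hnN
  have e2 : cj (y * c) Q₁ = cj y Q₁ := by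
    rw [cj_mul, cj_of_mem_centralizer hcQ]
  rw [← e2, ← hyc, e1]

theorem fn_of_cj [Finite G] {p : ℕ} {P Q₁ Q₂ : Subgroup G} {y : G}
    (hy : y ∈ normalizer (P : Set G)) (h : cj y Q₁ = Q₂) (hFN : FN p P Q₂) : FN p P Q₁ := by
  unfold FN at *
  have e : P ⊓ normalizer (Q₂ : Set G) = cj y (P ⊓ normalizer (Q₁ : Set G)) := by
    rw [cj_inf, cj_self_of_mem_normalizer hy, cj_normalizer', h]
  rw [e, ← h, ← cj_normalizer', relIndex_cj] at hFN
  exact hFN

theorem normalizer_ne_top [Finite G] (hsimple : IsSimpleGroup G) {Q : Subgroup G} (h1 : Q ≠ ⊥)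
    (h2 : Q ≠ ⊤) : normalizer (Q : Set G) ≠ ⊤ := by
  intro h
  have hn : Q.Normal := Subgroup.normalizer_eq_top_iff.mp h
  rcases hn.eq_bot_or_eq_top with h3 | h3
  · exact h1 h3
  · exact h2 h3

/-- the induction -/
theorem ctl_fn [Finite G] (p : ℕ) [hp : Fact p.Prime] (hsimple : IsSimpleGroup G)
    (hsolv : ∀ H : Subgroup G, H ≠ ⊤ → Group.IsSolvable H)
    (hPL : ∀ H : Subgroup G, H ≠ ⊤ → PLengthLE p 1 ↥H) (P : Sylow p G) :
    ∀ (k : ℕ) (Q : Subgroup G), Q ≤ (P : Subgroup G) →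
      Nat.card (P : Subgroup G) - Nat.card Q = k →
      Ctl (P : Subgroup G) Q ∧ FN p (P : Subgroup G) Q := by
  intro k
  induction k using Nat.strong_induction_on with
  | _ k ih =>
  intro Q hQP hk
  have hPp : IsPGroup p (P : Subgroup G) := P.isPGroup'
  by_cases hQtop : Q = (P : Subgroup G)
  · constructor
    · intro x hx
      rw [hQtop] at hx
      refine ⟨x, mem_normalizer_of_cj_self (cj_eq_of_cj_le hx), 1, Subgroup.one_mem _, ?_⟩
      rw [mul_one]
    · unfold FN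
      rw [hQtop]
      have e : (P : Subgroup G) ⊓ normalizer ((P : Subgroup G) : Set G) = (P : Subgroup G) :=
        inf_eq_left.mpr Subgroup.le_normalizer
      rw [e]
      intro hdvd
      have h1 : (P : Subgroup G).relIndex (normalizer ((P : Subgroup G) : Set G)) ∣
          (P : Subgroup G).index := by
        rw [← Subgroup.relIndex_mul_index (Subgroup.le_normalizer (H := (P : Subgroup G)))]
        exact dvd_mul_right _ _
      exact P.not_dvd_index (dvd_trans hdvd h1)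
  by_cases hQbot : Q = ⊥
  · constructor
    · intro x _
      refine ⟨1, Subgroup.one_mem _, x, ?_, by rw [one_mul]⟩
      rw [hQbot, Subgroup.mem_centralizer_iff]
      intro h hh
      have : h = 1 := by simpa using hh
      rw [this, one_mul, mul_one]
    · unfold FN
      rw [hQbot]
      have e : normalizer ((⊥ : Subgroup G) : Set G) = ⊤ :=
        Subgroup.normalizer_eq_top_iff.mpr inferInstance
      rw [e, inf_top_eq, Subgroup.relIndex_top_right]
      exact P.not_dvd_index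
  have hlt : Q < (P : Subgroup G) := lt_of_le_of_ne hQP hQtop
  have IH : ∀ T : Subgroup G, T ≤ (P : Subgroup G) → Nat.card Q < Nat.card T →
      Ctl (P : Subgroup G) T ∧ FN p (P : Subgroup G) T := by
    intro T hT hcard
    have h1 : Nat.card T ≤ Nat.card (P : Subgroup G) := Subgroup.card_le_of_le hT
    have h2 : Nat.card Q ≤ Nat.card (P : Subgroup G) := Subgroup.card_le_of_le hQP
    exact ih (Nat.card (P : Subgroup G) - Nat.card T) (by omega) T hT rfl
  -- all subgroups of `P` of the same order as `Q` are fully normalized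
  have fnAll : ∀ Q₁ : Subgroup G, Q₁ ≤ (P : Subgroup G) → Nat.card Q₁ = Nat.card Q →
      FN p (P : Subgroup G) Q₁ := by
    intro Q₁ hQ₁ hc
    have hQ₁lt : Q₁ < (P : Subgroup G) := by
      refine lt_of_le_of_ne hQ₁ ?_
      intro h
      have := card_lt_of_lt hlt
      rw [← h, hc] at this
      exact lt_irrefl _ this
    obtain ⟨g, hgP, hgFN⟩ := exists_fn_conj P Q₁ hQ₁
    obtain ⟨n, -, y, hy, c, -, -, hyQ⟩ := keyX P hQ₁lt g rfl hgFN
      (fun T hT hcard => (IH T hT (by rw [← hc]; exact hcard)).1)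
    exact fn_of_cj hy hyQ hgFN
  refine ⟨?_, fnAll Q hQP rfl⟩
  intro x hx
  set Q' := cj x Q with hQ'
  have hcardQ' : Nat.card Q' = Nat.card Q := card_cj x Q
  have hFN' : FN p (P : Subgroup G) Q' := fnAll Q' hx hcardQ'
  obtain ⟨n, hnN, y, hy, c, hc, hnx, hyQ⟩ := keyX P hlt x rfl hFN'
    (fun T hT hcard => (IH T hT hcard).1)
  -- the local subgroup `N = N_G(Q')`
  have hQ'lt : Q' < (P : Subgroup G) := by
    refine lt_of_le_of_ne hx ?_
    intro h
    have := card_lt_of_lt hlt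
    rw [← h, hcardQ'] at this
    exact lt_irrefl _ this
  have hQ'bot : Q' ≠ ⊥ := by
    intro h; exact hQbot (cj_eq_bot_iff.mp h)
  have hQ'top : Q' ≠ ⊤ := by
    intro h
    have h1 : (P : Subgroup G) ≤ Q' := by rw [h]; exact le_top
    exact (not_le_of_gt hQ'lt) h1
  set N := normalizer (Q' : Set G) with hN
  have hNtop : N ≠ ⊤ := normalizer_ne_top hsimple hQ'bot hQ'top
  haveI : Group.IsSolvable ↥N := hsolv N hNtop
  have hplN : PLengthLE p 1 ↥N := hPL N hNtop
  set S₀ : Subgroup G := (P : Subgroup G) ⊓ N with hS₀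
  have hS₀p : IsPGroup p (S₀.subgroupOf N) := (hPp.to_le inf_le_left).comap_subtype
  have hidx : ¬ p ∣ (S₀.subgroupOf N).index := hFN'
  -- apply the local control of fusion in `N`
  have hloc := (Cfsg.Agent.S1461.result (G := ↥N) p hplN (hS₀p.toSylow hidx)).2.1
  have hninv : n⁻¹ ∈ N := N.inv_mem hnN
  have hY1 : ((Q'.subgroupOf N : Subgroup ↥N) : Set ↥N) ⊆
      (((hS₀p.toSylow hidx : Sylow p ↥N) : Subgroup ↥N) : Set ↥N) := by
    intro z hz
    have hz' : (z : G) ∈ Q' := mem_subgroupOf.mp hz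
    show z ∈ S₀.subgroupOf N
    rw [mem_subgroupOf]
    exact Subgroup.mem_inf.mpr ⟨hx hz', z.2⟩
  have hY2 : (fun z : ↥N => (⟨n⁻¹, hninv⟩ : ↥N) * z * (⟨n⁻¹, hninv⟩ : ↥N)⁻¹) ''
      ((Q'.subgroupOf N : Subgroup ↥N) : Set ↥N) ⊆
      (((hS₀p.toSylow hidx : Sylow p ↥N) : Subgroup ↥N) : Set ↥N) := by
    rintro _ ⟨z, hz, rfl⟩
    apply hY1
    have hz' : (z : G) ∈ Q' := mem_subgroupOf.mp hz
    show _ ∈ Q'.subgroupOf N
    rw [mem_subgroupOf]
    have h1 := (Subgroup.mem_normalizer_iff.mp hninv (z : G)).mp hz'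
    simpa using h1
  obtain ⟨g₁, hg₁, c₁, hc₁, hgc⟩ := hloc _ _ hY1 hY2
  -- translate to `G`
  have hgcG : (g₁ : G) * (c₁ : G) = n⁻¹ := by
    have := congrArg (Subtype.val) hgc
    simpa using this
  have hc₁G : (c₁ : G) ∈ centralizer (Q' : Set G) := by
    rw [Subgroup.mem_centralizer_iff]
    intro h hh
    have hhN : h ∈ N := Subgroup.le_normalizer hh
    have h1 := Subgroup.mem_centralizer_iff.mp hc₁ ⟨h, hhN⟩ (mem_subgroupOf.mpr hh)
    have := congrArg (Subtype.val) h1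
    simpa using this
  have hg₁S : cj (g₁ : G) S₀ = S₀ := by
    apply cj_eq_of_cj_le
    intro z hz
    rw [mem_cj] at hz
    have hzN : z ∈ N := by
      have : z = (g₁ : G) * ((g₁ : G)⁻¹ * z * g₁) * (g₁ : G)⁻¹ := by group
      rw [this]
      exact N.mul_mem (N.mul_mem g₁.2 ((inf_le_right : S₀ ≤ N) hz)) (N.inv_mem g₁.2)
    have hginv : g₁⁻¹ ∈ normalizer
        ((((hS₀p.toSylow hidx : Sylow p ↥N) : Subgroup ↥N)) : Set ↥N) := Subgroup.inv_mem _ hg₁
    have h1 := (Subgroup.mem_normalizer_iff.mp hginv ⟨z, hzN⟩)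
    have h2 : (⟨z, hzN⟩ : ↥N) ∈ S₀.subgroupOf N := by
      apply h1.mpr
      show _ ∈ S₀.subgroupOf N
      rw [mem_subgroupOf]
      simpa using hz
    exact mem_subgroupOf.mp h2
  have hS₀card : Nat.card Q < Nat.card S₀ := by
    rw [← hcardQ']
    exact lt_inf_normalizer hPp hQ'lt
  obtain ⟨y₁, hy₁, c₂, hc₂, hg₁eq⟩ := (IH S₀ inf_le_left hS₀card).1 (g₁ : G)
    (by rw [hg₁S]; exact inf_le_left)
  have hQ'S₀ : Q' ≤ S₀ := le_inf hx Subgroup.le_normalizer
  have hc₂Q : c₂ ∈ centralizer (Q' : Set G) := Subgroup.centralizer_le hQ'S₀ hc₂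
  have hcc : c₂ * (c₁ : G) ∈ centralizer (Q' : Set G) := Subgroup.mul_mem _ hc₂Q hc₁G
  -- conjugate back by `y`
  have hcc' : y⁻¹ * (c₂ * (c₁ : G)) * y ∈ centralizer (Q : Set G) := by
    have h1 : c₂ * (c₁ : G) ∈ centralizer (cj y Q : Set G) := by rw [hyQ]; exact hcc
    have h2 := conj_mem_centralizer_cj (y := y⁻¹) h1
    rw [cj_inv_cj, inv_inv] at h2
    exact h2
  refine ⟨y₁ * y, Subgroup.mul_mem _ hy₁ hy, y⁻¹ * (c₂ * (c₁ : G)) * y * c,
    Subgroup.mul_mem _ hcc' hc, ?_⟩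
  have e1 : x = n⁻¹ * (n * x) := by group
  rw [e1, hnx, ← hgcG, hg₁eq]
  group

end Cfsg.Agent.Lib.Helper3.BG10
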