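import Mathlib
import Cfsg.Agent.Lib.Helper3.BG10b
import Cfsg.Agent.Lib.Helper1.FrattiniP

/-!
# B&G Corollary 10.7 (b)–(e) from "all proper subgroups have p-length one"
-/

set_option autoImplicit false
universe u
open scoped commutatorElement Pointwise

namespace Cfsg.Agent.Lib.Helper3.BG10

open Cfsg Subgroup Cfsg.Agent.Lib.Helper1 Cfsg.Agent.Lib.Helper1.BG7

variable {G : Type u} [Group G]

theorem ctl_of [Finite G] (p : ℕ) [hp : Fact p.Prime] (hsimple : IsSimpleGroup G)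
    (hsolv : ∀ H : Subgroup G, H ≠ ⊤ → Group.IsSolvable H)
    (hPL : ∀ H : Subgroup G, H ≠ ⊤ → PLengthLE p 1 ↥H) (P : Sylow p G)
    (Q : Subgroup G) (hQ : Q ≤ (P : Subgroup G)) :
    Ctl (P : Subgroup G) Q ∧ FN p (P : Subgroup G) Q :=
  ctl_fn p hsimple hsolv hPL P _ Q hQ rfl

theorem s1413_of [Finite G] (p : ℕ) [hp : Fact p.Prime] (hsimple : IsSimpleGroup G)
    (hsolv : ∀ H : Subgroup G, H ≠ ⊤ → Group.IsSolvable H)
    (hPL : ∀ H : Subgroup G, H ≠ ⊤ → PLengthLE p 1 ↥H) (P : Sylow p G) :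
    (∀ (Q : Subgroup G) (x : G), Q ≤ (P : Subgroup G) →
        Q.map (MulAut.conj x).toMonoidHom ≤ (P : Subgroup G) →
        ∃ y ∈ Subgroup.normalizer ((P : Subgroup G) : Set G),
          Q.map (MulAut.conj x).toMonoidHom = Q.map (MulAut.conj y).toMonoidHom) ∧
      (∀ Q : Subgroup G, Q ≤ (P : Subgroup G) →
        ¬ p ∣ ((P : Subgroup G) ⊓ Subgroup.normalizer (Q : Set G)).relIndex
          (Subgroup.normalizer (Q : Set G))) ∧
      (∀ (R Q : Subgroup G), IsPGroup p R → Q ≤ (P : Subgroup G) ⊓ R →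
        Subgroup.normalizer ((P : Subgroup G) : Set G) ≤ Subgroup.normalizer (Q : Set G) →
        Subgroup.normalizer (R : Set G) ≤ Subgroup.normalizer (Q : Set G)) := by
  have hctl : ∀ Q : Subgroup G, Q ≤ (P : Subgroup G) → ∀ x : G, cj x Q ≤ (P : Subgroup G) →
      ∃ y ∈ normalizer ((P : Subgroup G) : Set G), cj x Q = cj y Q := by
    intro Q hQ x hx
    obtain ⟨y, hy, c, hc, hxy⟩ := (ctl_of p hsimple hsolv hPL P Q hQ).1 x hx
    refine ⟨y, hy, ?_⟩
    rw [hxy, cj_mul, cj_of_mem_centralizer hc]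
  refine ⟨?_, ?_, ?_⟩
  · intro Q x hQ hx
    exact hctl Q hQ x hx
  · intro Q hQ
    exact (ctl_of p hsimple hsolv hPL P Q hQ).2
  · intro R Q hR hQ hNP
    have hQP : Q ≤ (P : Subgroup G) := hQ.trans inf_le_left
    have hQR : Q ≤ R := hQ.trans inf_le_right
    -- weak closure
    have hwc : ∀ x : G, cj x Q ≤ (P : Subgroup G) → cj x Q = Q := by
      intro x hx
      obtain ⟨y, hy, hxy⟩ := hctl Q hQP x hx
      rw [hxy]
      exact cj_self_of_mem_normalizer (hNP hy)
    obtain ⟨h, hh⟩ := exists_le_cj_sylow P hR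
    have hdown : ∀ T : Subgroup G, T ≤ R → cj h⁻¹ T ≤ (P : Subgroup G) := by
      intro T hT
      have := cj_mono (k := h⁻¹) (hT.trans hh)
      rwa [cj_inv_cj] at this
    intro g hg
    apply mem_normalizer_of_cj_self
    have h1 : cj h⁻¹ Q = Q := hwc _ (hdown Q hQR)
    have h2 : cj g Q ≤ R := by
      have := cj_mono (k := g) hQR
      rwa [cj_self_of_mem_normalizer hg] at this
    have h3 : cj (h⁻¹ * g) Q = Q := by
      apply hwc
      rw [cj_mul]
      exact hdown _ h2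
    rw [cj_mul] at h3
    have h4 : cj h (cj h⁻¹ (cj g Q)) = cj h Q := by rw [h3]
    have h5 : cj h (cj h⁻¹ Q) = cj h Q := by rw [h1]
    rw [← cj_mul, mul_inv_cancel, cj_one] at h4 h5
    rw [h4, ← h5]

theorem commutator_eq_top_of_simple (hsimple : IsSimpleGroup G) (hnab : ¬ IsMulCommutative G) :
    commutator G = ⊤ := by
  have hn : (commutator G).Normal := inferInstance
  rcases hn.eq_bot_or_eq_top with h | h
  · exfalso
    apply hnab
    refine ⟨⟨fun a b => ?_⟩⟩
    have : ⁅a, b⁆ ∈ commutator G := Subgroup.commutator_mem_commutator (Subgroup.mem_top a)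
      (Subgroup.mem_top b)
    rw [h, Subgroup.mem_bot] at this
    exact commutatorElement_eq_one_iff_mul_comm.mp this
  · exact h

theorem s1411_of [Finite G] (p : ℕ) [hp : Fact p.Prime] (hsimple : IsSimpleGroup G)
    (hnab : ¬ IsMulCommutative G)
    (hsolv : ∀ H : Subgroup G, H ≠ ⊤ → Group.IsSolvable H)
    (hPL : ∀ H : Subgroup G, H ≠ ⊤ → PLengthLE p 1 ↥H) (P : Sylow p G)
    (V : Subgroup G)
    (hV : Cfsg.IsComplIn (P : Subgroup G) V (Subgroup.normalizer ((P : Subgroup G) : Set G))) :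
    (P : Subgroup G) = ⁅(P : Subgroup G), V⁆ ∧
      (P : Subgroup G) ≤ ⁅Subgroup.normalizer ((P : Subgroup G) : Set G),
        Subgroup.normalizer ((P : Subgroup G) : Set G)⁆ := by
  obtain ⟨-, hVN, -, hprod⟩ := hV
  -- step 1: `P ≤ [P, N(P)]`
  have h1 : (P : Subgroup G) ≤ ⁅(P : Subgroup G), normalizer ((P : Subgroup G) : Set G)⁆ := by
    have hfoc := Subgroup.commutator_inf_eq_focalSubgroup P
    rw [commutator_eq_top_of_simple hsimple hnab, top_inf_eq] at hfoc
    refine hfoc.le.trans ?_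
    rw [Subgroup.focalSubgroup_def, Subgroup.closure_le]
    rintro g ⟨hgP, x, hxP, u, rfl⟩
    -- `u x u⁻¹ ∈ P`
    have h2 : u * x * u⁻¹ ∈ (P : Subgroup G) := by
      have h3 : x⁻¹ * ⁅x, u⁆ ∈ (P : Subgroup G) :=
        Subgroup.mul_mem _ (Subgroup.inv_mem _ hxP) hgP
      have h4 : (x⁻¹ * ⁅x, u⁆)⁻¹ = u * x * u⁻¹ := by
        rw [commutatorElement_def]; group
      rw [← h4]
      exact Subgroup.inv_mem _ h3
    have hQ : Subgroup.zpowers x ≤ (P : Subgroup G) := by
      rw [Subgroup.zpowers_le]; exact hxP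
    have hcj : cj u (Subgroup.zpowers x) ≤ (P : Subgroup G) := by
      unfold cj
      rw [MonoidHom.map_zpowers, Subgroup.zpowers_le]
      exact h2
    obtain ⟨y, hy, c, hc, huy⟩ := (ctl_of p hsimple hsolv hPL P _ hQ).1 u hcj
    have hcx : x * c = c * x :=
      Subgroup.mem_centralizer_iff.mp hc x (Subgroup.mem_zpowers x)
    have hcx' : c * x⁻¹ = x⁻¹ * c := by
      have : x⁻¹ * (x * c) * x⁻¹ = x⁻¹ * (c * x) * x⁻¹ := by rw [hcx]
      have e1 : x⁻¹ * (x * c) * x⁻¹ = c * x⁻¹ := by group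
      have e2 : x⁻¹ * (c * x) * x⁻¹ = x⁻¹ * c := by group
      rw [e1, e2] at this
      exact this
    have e : ⁅x, u⁆ = ⁅x, y⁆ := by
      rw [huy, commutatorElement_def, commutatorElement_def]
      have : x * (y * c) * x⁻¹ * (y * c)⁻¹ = x * y * (c * x⁻¹) * c⁻¹ * y⁻¹ := by group
      rw [this, hcx']
      group
    rw [e]
    exact Subgroup.commutator_mem_commutator hxP hy
  refine ⟨?_, h1.trans (Subgroup.commutator_mono Subgroup.le_normalizer le_rfl)⟩
  -- step 2: `[P, N(P)] ≤ [P,P] ⊔ [P,V]`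
  have hDP : ⁅(P : Subgroup G), V⁆ ≤ (P : Subgroup G) := by
    rw [Subgroup.commutator_le]
    intro x hx b hb
    have hbN := hVN hb
    have h3 : b * x⁻¹ * b⁻¹ ∈ (P : Subgroup G) :=
      (Subgroup.mem_normalizer_iff.mp hbN x⁻¹).mp (Subgroup.inv_mem _ hx)
    have : ⁅x, b⁆ = x * (b * x⁻¹ * b⁻¹) := by rw [commutatorElement_def]; group
    rw [this]
    exact Subgroup.mul_mem _ hx h3
  have h2 : ⁅(P : Subgroup G), normalizer ((P : Subgroup G) : Set G)⁆ ≤
      ⁅(P : Subgroup G), (P : Subgroup G)⁆ ⊔ ⁅(P : Subgroup G), V⁆ := by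
    rw [Subgroup.commutator_le]
    intro x hx m hm
    obtain ⟨a, ha, b, hb, rfl⟩ := hprod m hm
    have e : ⁅x, a * b⁆ = ⁅x, a⁆ * (⁅a * x, b⁆ * ⁅a, b⁆⁻¹) := by
      simp only [commutatorElement_def]; group
    rw [e]
    apply Subgroup.mul_mem
    · exact (le_sup_left : _ ≤ ⁅(P : Subgroup G), (P : Subgroup G)⁆ ⊔ ⁅(P : Subgroup G), V⁆)
        (Subgroup.commutator_mem_commutator hx ha)
    · apply (le_sup_right : _ ≤ ⁅(P : Subgroup G), (P : Subgroup G)⁆ ⊔ ⁅(P : Subgroup G), V⁆)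
      exact Subgroup.mul_mem _ (Subgroup.commutator_mem_commutator (Subgroup.mul_mem _ ha hx) hb)
        (Subgroup.inv_mem _ (Subgroup.commutator_mem_commutator ha hb))
  have h3 : (P : Subgroup G) ≤ ⁅(P : Subgroup G), (P : Subgroup G)⁆ ⊔ ⁅(P : Subgroup G), V⁆ :=
    h1.trans h2
  -- step 3: Frattini argument inside `P`
  have hPP : ⁅(P : Subgroup G), (P : Subgroup G)⁆ ≤ (P : Subgroup G) := by
    rw [Subgroup.commutator_le]
    intro a ha b hb
    rw [commutatorElement_def]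
    exact Subgroup.mul_mem _ (Subgroup.mul_mem _ (Subgroup.mul_mem _ ha hb)
      (Subgroup.inv_mem _ ha)) (Subgroup.inv_mem _ hb)
  have h4 : (⁅(P : Subgroup G), V⁆).subgroupOf (P : Subgroup G) ⊔
      frattini ↥(P : Subgroup G) = ⊤ := by
    rw [eq_top_iff]
    have h5 : (⊤ : Subgroup ↥(P : Subgroup G)) ≤
        (⁅(P : Subgroup G), V⁆).subgroupOf (P : Subgroup G) ⊔
          (⁅(P : Subgroup G), (P : Subgroup G)⁆).subgroupOf (P : Subgroup G) := by
      rw [← Subgroup.subgroupOf_sup hDP hPP]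
      intro z _
      rw [Subgroup.mem_subgroupOf, sup_comm]
      exact h3 z.2
    refine h5.trans (sup_le_sup_left ?_ _)
    have h6 : (⁅(P : Subgroup G), (P : Subgroup G)⁆).subgroupOf (P : Subgroup G) =
        commutator ↥(P : Subgroup G) := by
      rw [← Subgroup.map_subtype_commutator, Subgroup.subgroupOf,
        Subgroup.comap_map_eq_self_of_injective (Subgroup.subtype_injective _)]
    rw [h6]
    exact commutator_le_frattini_of_isPGroup p P.isPGroup'
  have h7 := frattini_nongenerating h4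
  apply le_antisymm _ hDP
  intro z hz
  have : (⟨z, hz⟩ : ↥(P : Subgroup G)) ∈ (⁅(P : Subgroup G), V⁆).subgroupOf (P : Subgroup G) := by
    rw [h7]; exact Subgroup.mem_top _
  exact Subgroup.mem_subgroupOf.mp this

end Cfsg.Agent.Lib.Helper3.BG10
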