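import Mathlib
import Cfsg.Prelude.Def_Transfer
import Cfsg.Agent.Lib.Helper1.BG7a
import Cfsg.Agent.Lib.Helper1.Coprime
import Cfsg.Agent.Lib.Helper1.CoprimeAbelian
import Cfsg.Agent.Lib.Helper2.MetaAct3

/-!
# Basic tools for the endgame of Bender–Glauberman Theorem 3.7 (statement S1444)

Conjugation calculus (`cj`), fixed-point subgroups `W V T = C_V(T)`, hyperplanes `IsHyp K T`
(maximal subgroups of `K`), and a few elementary lemmas on fixed-point-free elements.
-/

set_option autoImplicit false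
universe u
open scoped commutatorElement

namespace Cfsg.Agent.Lib.Helper3.T37

open Cfsg Subgroup Cfsg.Agent.Lib.Helper1 Cfsg.Agent.Lib.Helper1.BG7

variable {G : Type u} [Group G]

/-! ### conjugation calculus -/

theorem cj_of_mem_normalizer {P : Subgroup G} {y : G}
    (hy : y ∈ normalizer (P : Set G)) : cj y P = P := by
  ext z
  rw [mem_cj]
  have h := (mem_normalizer_iff.mp hy) (y⁻¹ * z * y)
  rw [h]
  have : y * (y⁻¹ * z * y) * y⁻¹ = z := by group
  rw [this]

theorem mem_normalizer_of_cj_eq {P : Subgroup G} {y : G} (h : cj y P = P) :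
    y ∈ normalizer (P : Set G) := by
  rw [mem_normalizer_iff]
  intro z
  constructor
  · intro hz
    have : y * z * y⁻¹ ∈ cj y P := conj_mem_cj hz
    rwa [h] at this
  · intro hz
    rw [← h, mem_cj] at hz
    have e : y⁻¹ * (y * z * y⁻¹) * y = z := by group
    rwa [e] at hz

theorem mem_normalizer_of_cj_le [Finite G] {P : Subgroup G} {y : G} (h : cj y P ≤ P) :
    y ∈ normalizer (P : Set G) :=
  mem_normalizer_of_cj_eq (Subgroup.eq_of_le_of_card_ge h (card_cj y P).ge)

theorem cj_centralizer (g : G) (X : Subgroup G) :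
    cj g (centralizer (X : Set G)) = centralizer (cj g X : Set G) := by
  ext z
  rw [mem_cj, mem_centralizer_iff, mem_centralizer_iff]
  constructor
  · intro h y hy
    have hy' : g⁻¹ * y * g ∈ X := mem_cj.mp hy
    have h1 := h _ hy'
    have e1 : y * z = g * (g⁻¹ * y * g * (g⁻¹ * z * g)) * g⁻¹ := by group
    rw [e1, h1]; group
  · intro h y hy
    have hy' : g * y * g⁻¹ ∈ cj g X := conj_mem_cj hy
    have h1 := h _ hy'
    have e1 : y * (g⁻¹ * z * g) = g⁻¹ * (g * y * g⁻¹ * z) * g := by group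
    rw [e1, h1]; group

theorem cj_normalizer (g : G) (X : Subgroup G) :
    cj g (normalizer (X : Set G)) = normalizer (cj g X : Set G) := by
  ext z
  rw [mem_cj, mem_normalizer_iff, mem_normalizer_iff]
  constructor
  · intro h y
    have h1 := h (g⁻¹ * y * g)
    rw [mem_cj, mem_cj, h1]
    have e : g⁻¹ * z * g * (g⁻¹ * y * g) * (g⁻¹ * z * g)⁻¹ = g⁻¹ * (z * y * z⁻¹) * g := by group
    rw [e]
  · intro h y
    have h1 := h (g * y * g⁻¹)
    rw [mem_cj, mem_cj] at h1
    have e1 : g⁻¹ * (g * y * g⁻¹) * g = y := by group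
    have e2 : g⁻¹ * (z * (g * y * g⁻¹) * z⁻¹) * g = g⁻¹ * z * g * y * (g⁻¹ * z * g)⁻¹ := by
      group
    rw [e1, e2] at h1
    exact h1

theorem cj_iSup {ι : Sort*} (g : G) (f : ι → Subgroup G) :
    cj g (⨆ i, f i) = ⨆ i, cj g (f i) := by
  unfold cj; exact Subgroup.map_iSup _ _

theorem cj_sup (g : G) (A B : Subgroup G) : cj g (A ⊔ B) = cj g A ⊔ cj g B := by
  unfold cj; exact Subgroup.map_sup _ _ _

theorem cj_commutator (g : G) (A B : Subgroup G) : cj g ⁅A, B⁆ = ⁅cj g A, cj g B⁆ := by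
  unfold cj; exact Subgroup.map_commutator _ _ _

theorem cj_cj_inv (k : G) (Q : Subgroup G) : cj k (cj k⁻¹ Q) = Q := by
  have := cj_inv_cj k⁻¹ Q
  rwa [inv_inv] at this

theorem cj_injective (g : G) {A B : Subgroup G} (h : cj g A = cj g B) : A = B := by
  have := congrArg (cj g⁻¹) h
  rwa [cj_inv_cj, cj_inv_cj] at this

theorem cj_lt {g : G} {A B : Subgroup G} (h : A < B) : cj g A < cj g B := by
  refine lt_of_le_of_ne (cj_mono h.le) ?_
  intro e
  exact h.ne (cj_injective g e)

theorem mem_normalizer_iSup {ι : Sort*} {a : G} {f : ι → Subgroup G}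
    (h : ∀ i, a ∈ normalizer (f i : Set G)) :
    a ∈ normalizer ((⨆ i, f i : Subgroup G) : Set G) :=
  mem_normalizer_of_cj_eq (by rw [cj_iSup]; exact iSup_congr fun i => cj_of_mem_normalizer (h i))

theorem mem_normalizer_sup {a : G} {X Y : Subgroup G} (hX : a ∈ normalizer (X : Set G))
    (hY : a ∈ normalizer (Y : Set G)) : a ∈ normalizer ((X ⊔ Y : Subgroup G) : Set G) :=
  mem_normalizer_of_cj_eq (by rw [cj_sup, cj_of_mem_normalizer hX, cj_of_mem_normalizer hY])

theorem mem_normalizer_inf {a : G} {X Y : Subgroup G} (hX : a ∈ normalizer (X : Set G))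
    (hY : a ∈ normalizer (Y : Set G)) : a ∈ normalizer ((X ⊓ Y : Subgroup G) : Set G) :=
  mem_normalizer_of_cj_eq (by rw [cj_inf, cj_of_mem_normalizer hX, cj_of_mem_normalizer hY])

theorem mem_normalizer_centralizer {a : G} {X : Subgroup G} (hX : a ∈ normalizer (X : Set G)) :
    a ∈ normalizer ((centralizer (X : Set G) : Subgroup G) : Set G) :=
  mem_normalizer_of_cj_eq (by rw [cj_centralizer, cj_of_mem_normalizer hX])

theorem mem_normalizer_normalizer {a : G} {X : Subgroup G} (hX : a ∈ normalizer (X : Set G)) :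
    a ∈ normalizer ((normalizer (X : Set G) : Subgroup G) : Set G) :=
  mem_normalizer_of_cj_eq (by rw [cj_normalizer, cj_of_mem_normalizer hX])

theorem mem_normalizer_commutator {a : G} {X Y : Subgroup G} (hX : a ∈ normalizer (X : Set G))
    (hY : a ∈ normalizer (Y : Set G)) : a ∈ normalizer ((⁅X, Y⁆ : Subgroup G) : Set G) :=
  mem_normalizer_of_cj_eq
    (by rw [cj_commutator, cj_of_mem_normalizer hX, cj_of_mem_normalizer hY])

theorem mem_normalizer_bot (a : G) : a ∈ normalizer (((⊥ : Subgroup G) : Subgroup G) : Set G) := by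
  rw [Subgroup.normalizer_eq_top]; exact Subgroup.mem_top a

theorem comm_of_mem {K : Subgroup G} (hKc : IsMulCommutative K) {a b : G} (ha : a ∈ K)
    (hb : b ∈ K) : a * b = b * a := by
  haveI := hKc
  exact setLike_mul_comm ha hb

theorem le_centralizer_of_le_of_comm {K T : Subgroup G} (hKc : IsMulCommutative K) (hT : T ≤ K) :
    K ≤ centralizer (T : Set G) := by
  intro k hk
  rw [mem_centralizer_iff]
  intro t ht
  exact comm_of_mem hKc (hT ht) hk

theorem centralizer_le_normalizer' (X : Subgroup G) :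
    centralizer (X : Set G) ≤ normalizer (X : Set G) := by
  intro z hz
  rw [mem_normalizer_iff]
  intro y
  rw [mem_centralizer_iff] at hz
  constructor
  · intro hy
    have e : z * y * z⁻¹ = y := by rw [← hz y hy]; group
    rw [e]; exact hy
  · intro hy
    have h1 := hz _ hy
    have e : y = z⁻¹ * (z * y * z⁻¹) * z := by group
    have e2 : z⁻¹ * (z * y * z⁻¹) * z = z * y * z⁻¹ := by rw [mul_assoc, h1]; group
    rw [e, e2]; exact hy

theorem centralizer_inf_centralizer_le (A B : Subgroup G) :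
    centralizer (A : Set G) ⊓ centralizer (B : Set G) ≤
      centralizer ((A ⊔ B : Subgroup G) : Set G) := by
  intro z hz
  have hA : A ≤ centralizer ({z} : Set G) := by
    intro a ha
    rw [mem_centralizer_iff]
    intro y hy
    rw [Set.mem_singleton_iff] at hy
    rw [hy]
    exact ((mem_centralizer_iff.mp hz.1) a ha).symm
  have hB : B ≤ centralizer ({z} : Set G) := by
    intro a ha
    rw [mem_centralizer_iff]
    intro y hy
    rw [Set.mem_singleton_iff] at hy
    rw [hy]
    exact ((mem_centralizer_iff.mp hz.2) a ha).symm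
  rw [mem_centralizer_iff]
  intro y hy
  have h1 := (sup_le hA hB) hy
  exact ((mem_centralizer_iff.mp h1) z rfl).symm

theorem centralizer_zpowers_eq' (x : G) :
    centralizer ((zpowers x : Subgroup G) : Set G) = centralizer ({x} : Set G) := by
  apply le_antisymm
  · exact centralizer_le (by
      intro y hy
      rw [Set.mem_singleton_iff] at hy
      rw [hy]; exact mem_zpowers x)
  · intro z hz
    rw [mem_centralizer_iff] at hz ⊢
    intro y hy
    obtain ⟨k, rfl⟩ := mem_zpowers_iff.mp hy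
    have h1 : Commute x z := hz x rfl
    exact (h1.zpow_left k)

/-! ### fixed points `C_V(T)` -/

/-- `C_V(T)` -/
def W (V T : Subgroup G) : Subgroup G := V ⊓ centralizer (T : Set G)

theorem W_le (V T : Subgroup G) : W V T ≤ V := inf_le_left

theorem W_le_centralizer (V T : Subgroup G) : W V T ≤ centralizer (T : Set G) := inf_le_right

theorem cj_W {g : G} {V : Subgroup G} (hg : g ∈ normalizer (V : Set G)) (T : Subgroup G) :
    cj g (W V T) = W V (cj g T) := by
  unfold W; rw [cj_inf, cj_of_mem_normalizer hg, cj_centralizer]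

theorem W_anti (V : Subgroup G) {T T' : Subgroup G} (h : T ≤ T') : W V T' ≤ W V T :=
  inf_le_inf_left _ (centralizer_le h)

theorem mem_normalizer_W {a : G} {V T : Subgroup G} (hV : a ∈ normalizer (V : Set G))
    (hT : a ∈ normalizer (T : Set G)) : a ∈ normalizer ((W V T : Subgroup G) : Set G) :=
  mem_normalizer_inf hV (mem_normalizer_centralizer hT)

theorem W_inf_centralizer_le (V T T' : Subgroup G) :
    W V T ⊓ centralizer (T' : Set G) ≤ W V (T ⊔ T') := by
  intro z hz
  exact ⟨hz.1.1, centralizer_inf_centralizer_le T T' ⟨hz.1.2, hz.2⟩⟩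

/-! ### hyperplanes -/

/-- `T` is a maximal subgroup of `K`. -/
def IsHyp (K T : Subgroup G) : Prop := T < K ∧ ∀ T' : Subgroup G, T < T' → T' ≤ K → T' = K

theorem IsHyp.le {K T : Subgroup G} (h : IsHyp K T) : T ≤ K := h.1.le

theorem IsHyp.conj {K T : Subgroup G} (h : IsHyp K T) {g : G} (hg : g ∈ normalizer (K : Set G)) :
    IsHyp K (cj g T) := by
  have hK : cj g K = K := cj_of_mem_normalizer hg
  have hK' : cj g⁻¹ K = K := cj_of_mem_normalizer (Subgroup.inv_mem _ hg)
  refine ⟨by have := cj_lt (g := g) h.1; rwa [hK] at this, ?_⟩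
  intro T' hlt hle
  have h1 : T < cj g⁻¹ T' := by
    have := cj_lt (g := g⁻¹) hlt
    rwa [cj_inv_cj] at this
  have h2 : cj g⁻¹ T' ≤ K := by
    have := cj_mono (k := g⁻¹) hle
    rwa [hK'] at this
  have h3 := h.2 _ h1 h2
  have h4 := congrArg (cj g) h3
  rwa [cj_cj_inv, hK] at h4

theorem IsHyp.sup_eq {K T T' : Subgroup G} (h : IsHyp K T) (h' : IsHyp K T') (hne : T ≠ T') :
    T ⊔ T' = K := by
  apply h.2 _ _ (sup_le h.le h'.le)
  refine lt_of_le_of_ne le_sup_left ?_
  intro e
  have h1 : T' ≤ T := by rw [e]; exact le_sup_right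
  have h2 : T' < T := lt_of_le_of_ne h1 (Ne.symm hne)
  exact h.1.ne (h'.2 T h2 h.le)

theorem isHyp_of_isCoatom {K T : Subgroup G} (hT : T ≤ K) (h : IsCoatom (T.subgroupOf K)) :
    IsHyp K T := by
  have hne : T ≠ K := by
    intro e
    apply h.1
    rw [e]; exact Subgroup.subgroupOf_self K
  refine ⟨lt_of_le_of_ne hT hne, ?_⟩
  intro T' hlt hle
  have h1 : T.subgroupOf K < T'.subgroupOf K := by
    refine lt_of_le_of_ne (Subgroup.comap_mono hlt.le) ?_
    intro e
    rw [Subgroup.subgroupOf_inj, inf_eq_left.mpr hT, inf_eq_left.mpr hle] at e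
    exact hlt.ne e
  exact le_antisymm hle (Subgroup.subgroupOf_eq_top.mp (h.2 _ h1))

theorem IsHyp.isCoatom {K T : Subgroup G} (h : IsHyp K T) : IsCoatom (T.subgroupOf K) := by
  constructor
  · intro e
    exact h.1.ne (le_antisymm h.le (Subgroup.subgroupOf_eq_top.mp e))
  · intro B hB
    have h1 : T < B.map K.subtype := by
      have h2 : (T.subgroupOf K).map K.subtype < B.map K.subtype :=
        (Subgroup.map_lt_map_iff_of_injective K.subtype_injective).mpr hB
      rwa [Subgroup.subgroupOf_map_subtype, inf_eq_left.mpr h.le] at h2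
    have h3 := h.2 _ h1 (Subgroup.map_subtype_le B)
    rw [eq_top_iff]
    intro k _
    have : (k : G) ∈ B.map K.subtype := by rw [h3]; exact k.2
    obtain ⟨b, hb, hbk⟩ := Subgroup.mem_map.mp this
    have : b = k := Subtype.ext hbk
    rwa [← this]

/-! ### elements of prime order -/

theorem mem_zpowers_of_ne_one [Finite G] {x y : G} {r : ℕ} (hr : r.Prime) (hx : orderOf x = r)
    (hy : y ∈ zpowers x) (hy1 : y ≠ 1) : x ∈ zpowers y := by
  have hle : zpowers y ≤ zpowers x := (zpowers_le).mpr hy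
  have hyr : y ^ r = 1 := by
    obtain ⟨k, rfl⟩ := mem_zpowers_iff.mp hy
    rw [← zpow_natCast, ← zpow_mul, mul_comm, zpow_mul, zpow_natCast, ← hx, pow_orderOf_eq_one,
      one_zpow]
  have hoy : orderOf y = r := by
    rcases (Nat.dvd_prime hr).mp (orderOf_dvd_of_pow_eq_one hyr) with h | h
    · exact absurd (orderOf_eq_one_iff.mp h) hy1
    · exact h
  have heq : zpowers y = zpowers x := by
    apply Subgroup.eq_of_le_of_card_ge hle
    rw [Nat.card_zpowers, Nat.card_zpowers, hx, hoy]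
  rw [heq]; exact mem_zpowers x

/-- If `y` normalizes `S` and has no nontrivial fixed points on `S`, then every element of the
coset `S y` is `S`-conjugate to `y`. -/
theorem exists_conj_eq_mul [Finite G] {S : Subgroup G} {y : G}
    (hy : y ∈ normalizer (S : Set G)) (hfpf : ∀ s ∈ S, y * s = s * y → s = 1)
    (g : G) (hg : g ∈ S) : ∃ h ∈ S, g * y = h * y * h⁻¹ := by
  have hmem : ∀ h : ↥S, (h : G) * y * (h : G)⁻¹ * y⁻¹ ∈ S := by
    intro h
    have h1 : y * (h : G)⁻¹ * y⁻¹ ∈ S := (mem_normalizer_iff.mp hy _).mp (S.inv_mem h.2)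
    have e : (h : G) * y * (h : G)⁻¹ * y⁻¹ = (h : G) * (y * (h : G)⁻¹ * y⁻¹) := by group
    rw [e]; exact S.mul_mem h.2 h1
  have hinj : Function.Injective (fun h : ↥S => (⟨(h : G) * y * (h : G)⁻¹ * y⁻¹, hmem h⟩ : ↥S)) := by
    intro h h' e
    have e1 : (h : G) * y * (h : G)⁻¹ * y⁻¹ = (h' : G) * y * (h' : G)⁻¹ * y⁻¹ :=
      congrArg Subtype.val e
    have e2 : (h : G) * y * (h : G)⁻¹ = (h' : G) * y * (h' : G)⁻¹ := mul_right_cancel e1
    have e3 : y * ((h : G)⁻¹ * (h' : G)) = ((h : G)⁻¹ * (h' : G)) * y := by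
      have : y * ((h : G)⁻¹ * (h' : G)) = (h : G)⁻¹ * ((h : G) * y * (h : G)⁻¹) * (h' : G) := by group
      rw [this, e2]; group
    have e4 := hfpf _ (S.mul_mem (S.inv_mem h.2) h'.2) e3
    apply Subtype.ext
    have : (h' : G) = (h : G) * ((h : G)⁻¹ * (h' : G)) := by group
    rw [this, e4, mul_one]
  obtain ⟨h, hh⟩ := Finite.surjective_of_injective hinj ⟨g, hg⟩
  refine ⟨h, h.2, ?_⟩
  have e1 : (h : G) * y * (h : G)⁻¹ * y⁻¹ = g := congrArg Subtype.val hh
  rw [← e1]; group

/-- An element of odd order is a power of its square. -/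
theorem mem_normalizer_of_sq_mem [Finite G] (hodd : Odd (Nat.card G)) {s : G} {T : Subgroup G}
    (h : s ^ 2 ∈ normalizer (T : Set G)) : s ∈ normalizer (T : Set G) := by
  have ho : Odd (orderOf s) := Odd.of_dvd_nat hodd (orderOf_dvd_natCard s)
  obtain ⟨m, hm⟩ := ho
  have e : s = (s ^ 2) ^ (m + 1) := by
    rw [← pow_mul]
    have : 2 * (m + 1) = orderOf s + 1 := by omega
    rw [this, pow_succ, pow_orderOf_eq_one, one_mul]
  rw [e]
  exact Subgroup.pow_mem _ h _

/-! ### products inside a commutative subgroup -/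

theorem exists_mul_of_mem_sup_comm {A B : Subgroup G}
    (hcomm : ∀ a ∈ A, ∀ b ∈ B, a * b = b * a) {g : G} (hg : g ∈ A ⊔ B) :
    ∃ a ∈ A, ∃ b ∈ B, g = a * b := by
  obtain ⟨M, hM⟩ : ∃ M : Subgroup G, ∀ g, g ∈ M ↔ ∃ a ∈ A, ∃ b ∈ B, g = a * b := by
    refine ⟨{ carrier := {g | ∃ a ∈ A, ∃ b ∈ B, g = a * b}
              one_mem' := ⟨1, A.one_mem, 1, B.one_mem, by simp⟩
              mul_mem' := ?_
              inv_mem' := ?_ }, fun g => Iff.rfl⟩
    · rintro _ _ ⟨a, ha, b, hb, rfl⟩ ⟨a', ha', b', hb', rfl⟩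
      refine ⟨a * a', A.mul_mem ha ha', b * b', B.mul_mem hb hb', ?_⟩
      have h := hcomm a' ha' b hb
      calc a * b * (a' * b') = a * (b * a') * b' := by group
        _ = a * (a' * b) * b' := by rw [h]
        _ = a * a' * (b * b') := by group
    · rintro _ ⟨a, ha, b, hb, rfl⟩
      refine ⟨a⁻¹, A.inv_mem ha, b⁻¹, B.inv_mem hb, ?_⟩
      have h := hcomm a ha b hb
      rw [h]; group
  have hle : A ⊔ B ≤ M := by
    apply sup_le
    · intro a ha
      exact (hM a).mpr ⟨a, ha, 1, B.one_mem, by simp⟩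
    · intro b hb
      exact (hM b).mpr ⟨1, A.one_mem, b, hb, by simp⟩
  exact (hM g).mp (hle hg)

theorem iSup_induction' {ι : Type*} [Finite ι] (P : Subgroup G → Prop) (h0 : P ⊥)
    (hsup : ∀ A B, P A → P B → P (A ⊔ B)) (f : ι → Subgroup G) (hf : ∀ i, P (f i)) :
    P (⨆ i, f i) := by
  classical
  haveI := Fintype.ofFinite ι
  rw [← Finset.sup_univ_eq_iSup]
  exact Finset.sup_induction h0 (fun a ha b hb => hsup a b ha hb) (fun i _ => hf i)

/-- Coprime action: trivial fixed points pass to joins (inside a commutative group). -/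
theorem fpf_sup [Finite G] {Vv Q A B : Subgroup G} (hVc : IsMulCommutative Vv)
    (hQV : Q ≤ normalizer (Vv : Set G)) (hcop : (Nat.card Q).Coprime (Nat.card Vv))
    (hA : A ≤ Vv) (hB : B ≤ Vv) (hQA : Q ≤ normalizer (A : Set G))
    (hQB : Q ≤ normalizer (B : Set G)) (hfA : A ⊓ centralizer (Q : Set G) = ⊥)
    (hfB : B ⊓ centralizer (Q : Set G) = ⊥) :
    (A ⊔ B) ⊓ centralizer (Q : Set G) = ⊥ := by
  rw [eq_bot_iff]
  rintro k ⟨hk, hkC⟩
  obtain ⟨a, ha, b, hb, hkab⟩ := exists_mul_of_mem_sup_comm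
    (fun a ha b hb => comm_of_mem hVc (hA ha) (hB hb)) hk
  obtain ⟨a', ha', b', hb', hk'⟩ := coprime_fixed_points_mul Q Vv hQV hcop
    (Or.inr (isSolvable_of_isMulCommutative Vv)) A B hA hB hQA hQB k hkC a b ha hb hkab
  rw [hfA, mem_bot] at ha'
  rw [hfB, mem_bot] at hb'
  rw [hk', ha', hb', one_mul]
  exact Subgroup.one_mem _

theorem fpf_iSup [Finite G] {ι : Type*} [Finite ι] {Vv Q : Subgroup G} (hVc : IsMulCommutative Vv)
    (hQV : Q ≤ normalizer (Vv : Set G)) (hcop : (Nat.card Q).Coprime (Nat.card Vv))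
    (f : ι → Subgroup G)
    (hf : ∀ i, f i ≤ Vv ∧ Q ≤ normalizer (f i : Set G) ∧ f i ⊓ centralizer (Q : Set G) = ⊥) :
    (⨆ i, f i) ⊓ centralizer (Q : Set G) = ⊥ := by
  have key := iSup_induction'
    (fun A : Subgroup G => A ≤ Vv ∧ Q ≤ normalizer (A : Set G) ∧ A ⊓ centralizer (Q : Set G) = ⊥)
    ⟨bot_le, fun a _ => mem_normalizer_bot a, bot_inf_eq _⟩
    (fun A B hA hB => ⟨sup_le hA.1 hB.1, fun a ha => mem_normalizer_sup (hA.2.1 ha) (hB.2.1 ha),
      fpf_sup hVc hQV hcop hA.1 hB.1 hA.2.1 hB.2.1 hA.2.2 hB.2.2⟩) f hf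
  exact key.2.2

end Cfsg.Agent.Lib.Helper3.T37
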