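import Mathlib
import Cfsg.Agent.S1410
import Cfsg.Agent.Lib.Helper3.BG10c
import Cfsg.Agent.Lib.Helper1.BT3
import Cfsg.Agent.Lib.Helper1.RT9
import Cfsg.Agent.Lib.Helper7.BGA1
import Cfsg.Agent.Lib.Helper7.BGC1
import Cfsg.Agent.Lib.Helper7.BGB1
import Cfsg.Agent.Lib.Helper1.BG7f
import Cfsg.Agent.Lib.Helper1.BG7g
import Cfsg.Agent.Lib.Helper3.T37a

/-!
# B&G Section 12: the core of Proposition 12.4(b)

`g3core`: if `p ∉ σ(M)` and `A ∈ E²_p(M)` then `A` does not centralize `M_σ`.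
-/

set_option autoImplicit false
universe u
open scoped commutatorElement Pointwise

namespace Cfsg.Agent.Lib.Helper3.BG12

open Cfsg Subgroup Cfsg.Agent.Lib.Helper1 Cfsg.Agent.Lib.Helper1.BG7

variable {G : Type u} [Group G]

/-- a Sylow `p`-subgroup of a minimal simple group of odd order lies in the derived subgroup of its normalizer -/
theorem sylow_le_comm_normalizer [Finite G] (hG : IsMinSimpleOddOrder G) (p : ℕ) [hp : Fact p.Prime]
    (P : Sylow p G) :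
    (P : Subgroup G) ≤ ⁅normalizer ((P : Subgroup G) : Set G), normalizer ((P : Subgroup G) : Set G)⁆ := by
  have hsimple := hG.2.1
  have hnab := hG.2.2.1
  have hsolv := hG.2.2.2
  have hPL : ∀ H : Subgroup G, H ≠ ⊤ → PLengthLE p 1 ↥H := fun H hH => Cfsg.Agent.S1410.result hG p H hH
  have h1 : (P : Subgroup G) ≤ ⁅(P : Subgroup G), normalizer ((P : Subgroup G) : Set G)⁆ := by
    have hfoc := Subgroup.commutator_inf_eq_focalSubgroup P
    rw [BG10.commutator_eq_top_of_simple hsimple hnab, top_inf_eq] at hfoc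
    refine hfoc.le.trans ?_
    rw [Subgroup.focalSubgroup_def, Subgroup.closure_le]
    rintro g ⟨hgP, x, hxP, u, rfl⟩
    have h2 : u * x * u⁻¹ ∈ (P : Subgroup G) := by
      have h3 : x⁻¹ * ⁅x, u⁆ ∈ (P : Subgroup G) :=
        Subgroup.mul_mem _ (Subgroup.inv_mem _ hxP) hgP
      have h4 : (x⁻¹ * ⁅x, u⁆)⁻¹ = u * x * u⁻¹ := by
        rw [commutatorElement_def]; group
      rw [← h4]
      exact Subgroup.inv_mem _ h3
    have hQ : Subgroup.zpowers x ≤ (P : Subgroup G) := by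
      rw [Subgroup.zpowers_le]; exact hxP
    have hcj : cj u (Subgroup.zpowers x) ≤ (P : Subgroup G) := by
      unfold cj
      rw [MonoidHom.map_zpowers, Subgroup.zpowers_le]
      exact h2
    obtain ⟨y, hy, c, hc, huy⟩ := (BG10.ctl_of p hsimple hsolv hPL P _ hQ).1 u hcj
    have hcx : x * c = c * x :=
      Subgroup.mem_centralizer_iff.mp hc x (Subgroup.mem_zpowers x)
    have hcx' : c * x⁻¹ = x⁻¹ * c := by
      have : x⁻¹ * (x * c) * x⁻¹ = x⁻¹ * (c * x) * x⁻¹ := by rw [hcx]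
      have e1 : x⁻¹ * (x * c) * x⁻¹ = c * x⁻¹ := by group
      have e2 : x⁻¹ * (c * x) * x⁻¹ = x⁻¹ * c := by group
      rw [e1, e2] at this
      exact this
    have e : ⁅x, u⁆ = ⁅x, y⁆ := by
      rw [huy, commutatorElement_def, commutatorElement_def]
      have : x * (y * c) * x⁻¹ * (y * c)⁻¹ = x * y * (c * x⁻¹) * c⁻¹ * y⁻¹ := by group
      rw [this, hcx']
      group
    rw [e]
    exact Subgroup.commutator_mem_commutator hxP hy
  exact h1.trans (Subgroup.commutator_mono Subgroup.le_normalizer le_rfl)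

theorem coatom_ne_bot [Finite G] (hG : IsMinSimpleOddOrder G) {M : Subgroup G} (hM : IsCoatom M) : M ≠ ⊥ := by
  intro hbot
  subst hbot
  haveI := hG.2.1
  obtain ⟨x, hx⟩ := exists_ne (1 : G)
  have h1 : Subgroup.zpowers x ≠ ⊤ := by
    intro htop
    apply hG.2.2.1
    have hc : IsCyclic G := ⟨⟨x, fun y => by
      have : y ∈ Subgroup.zpowers x := by rw [htop]; exact Subgroup.mem_top y
      exact this⟩⟩
    exact hc.commutative
  have h2 : (⊥ : Subgroup G) < Subgroup.zpowers x := by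
    rw [bot_lt_iff_ne_bot]
    intro h
    exact hx (Subgroup.zpowers_eq_bot.mp h)
  exact h1 (hM.2 _ h2)

theorem mem_sigma_of_isMaxP [Finite G] {p : ℕ} [hp : Fact p.Prime] {M S : Subgroup G}
    (hS : BG8.IsMaxP p S M) (hS1 : S ≠ ⊥) (hN : normalizer (S : Set G) ≤ M) : p ∈ sigma M := by
  refine ⟨hp.out, ?_, ?_⟩
  · exact (BG8.dvd_card_of_isPGroup_ne_bot hS.2.1 hS1).trans (Subgroup.card_dvd_of_le hS.1)
  · obtain ⟨R, hR⟩ := hS.exists_sylow
    exact ⟨R, by rw [hR]; exact hN⟩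

theorem sigma_nonempty [Finite G] (hG : IsMinSimpleOddOrder G) {M : Subgroup G} (hM : IsCoatom M) :
    ∃ q, q ∈ sigma M := by
  by_cases hα : ∃ q, q ∈ alpha M
  · obtain ⟨q, hq⟩ := hα
    exact ⟨q, BT.alpha_subset_sigma hG hM hq⟩
  · have hrk : RankLE 2 ↥M := fun r hr => by
      by_contra h
      exact hα ⟨r, hr, h⟩
    have hMtop : M ≠ ⊤ := hM.1
    haveI : Group.IsSolvable ↥M := hG.2.2.2 M hMtop
    have hodd : Odd (Nat.card ↥M) := BG8.odd_card_subgroup hG M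
    obtain ⟨-, -, hH⟩ := RT.s1451 (G := ↥M) hodd (Or.inl hrk)
    have hM1 : Nat.card ↥M ≠ 1 := by
      intro h
      exact coatom_ne_bot hG hM (Subgroup.card_eq_one.mp h)
    have hM0 : Nat.card ↥M ≠ 0 := Nat.card_pos.ne'
    have hne : (Nat.card ↥M).primeFactors.Nonempty := by
      rw [Nat.nonempty_primeFactors]
      omega
    obtain ⟨q₀, hq₀⟩ : ∃ q₀, q₀ = (Nat.card ↥M).primeFactors.max' hne := ⟨_, rfl⟩
    have hq₀mem : q₀ ∈ (Nat.card ↥M).primeFactors := hq₀ ▸ Finset.max'_mem _ hne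
    have hq₀p : q₀.Prime := Nat.prime_of_mem_primeFactors hq₀mem
    have hq₀d : q₀ ∣ Nat.card ↥M := Nat.dvd_of_mem_primeFactors hq₀mem
    have hq₀max : ∀ r : ℕ, r.Prime → r ∣ Nat.card ↥M → r ≤ q₀ := fun r hr hrd => by
      rw [hq₀]
      exact Finset.le_max' _ r (Nat.mem_primeFactors.mpr ⟨hr, hrd, hM0⟩)
    haveI : Fact q₀.Prime := ⟨hq₀p⟩
    obtain ⟨N, hNchar, hNpi, hNidx⟩ := hH (q₀ - 1)
    have hNq : ∀ r : ℕ, r.Prime → r ∣ Nat.card N → r = q₀ := fun r hr hrd => by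
      have h1 := (hNpi r hr hrd).2
      have h2 := hq₀max r hr (hrd.trans (Subgroup.card_subgroup_dvd_card N))
      omega
    have hNp : IsPGroup q₀ N := by
      have hN0 : Nat.card N ≠ 0 := Nat.card_pos.ne'
      have := Nat.eq_prime_pow_of_unique_prime_dvd hN0 (fun {d} hd hdd => hNq d hd hdd)
      exact IsPGroup.of_card this
    have hNi : ¬ q₀ ∣ N.index := hNidx q₀ hq₀p ⟨hq₀p, by have := hq₀p.one_lt; omega⟩
    haveI : N.Characteristic := hNchar
    haveI : N.Normal := Subgroup.normal_of_characteristic N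
    have hNbot : N ≠ ⊥ := by
      intro h
      rw [h, Subgroup.index_bot] at hNi
      exact hNi hq₀d
    -- the image in G
    have hmapM : N.map M.subtype ≤ M := Subgroup.map_subtype_le N
    have hmapbot : N.map M.subtype ≠ ⊥ := by
      intro h
      exact hNbot ((Subgroup.map_eq_bot_iff_of_injective N M.subtype_injective).mp h)
    have hnorm : M ≤ normalizer ((N.map M.subtype : Subgroup G) : Set G) := by
      intro m hm
      have h1 : (⟨m, hm⟩ : ↥M) ∈ normalizer ((N : Subgroup ↥M) : Set ↥M) := by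
        rw [Subgroup.normalizer_eq_top]; exact Subgroup.mem_top _
      exact BG9.coe_mem_normalizer_map h1
    have hNG := BG8.normalizer_eq_of_coatom hG hM hmapM hmapbot hnorm
    refine ⟨q₀, hq₀p, hq₀d, hNp.toSylow hNi, ?_⟩
    have : ((hNp.toSylow hNi : Sylow q₀ ↥M) : Subgroup ↥M) = N := rfl
    rw [this, hNG]

theorem sigmaCore_ne_bot [Finite G] (hG : IsMinSimpleOddOrder G) {M : Subgroup G} (hM : IsCoatom M) :
    sigmaCore M ≠ ⊥ := by
  obtain ⟨q, hq⟩ := sigma_nonempty hG hM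
  obtain ⟨hHallM, -, -⟩ := Cfsg.Agent.Lib.Helper7.BGA.s1350 hG M hM
  intro hbot
  have h1 := hHallM.2.2 q hq.1 hq
  rw [hbot, Subgroup.relIndex_bot_left] at h1
  exact h1 hq.2.1

/-- `A ∈ E*_p(G)` satisfies the transitivity hypothesis -/
theorem th_of_max [Finite G] (hG : IsMinSimpleOddOrder G) {p : ℕ} [hp : Fact p.Prime] {A : Subgroup G}
    (hAe : IsElementaryAbelian p A) (hAbot : A ≠ ⊥)
    (hAmax : ∀ B : Subgroup G, IsElementaryAbelian p B → A ≤ B → B = A) :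
    TransitivityHypothesis A := by
  refine BG7.t76_of_omega hG (BG9.isPGroup_of_isElementaryAbelian hAe) hAbot (fun x hxC hxp => ?_)
  by_contra hxA
  have h1 := (BT.elementary_sup_zpowers hAe hxC hxp hxA).1
  have h2 := hAmax _ h1 le_sup_left
  apply hxA
  rw [← h2]
  exact (le_sup_right : Subgroup.zpowers x ≤ _) (Subgroup.mem_zpowers x)

theorem ne_bot_of_card_sq {p : ℕ} (hp : p.Prime) {A : Subgroup G} (hA2 : Nat.card A = p ^ 2) : A ≠ ⊥ := by
  intro h
  rw [h, Subgroup.card_bot] at hA2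
  have := hp.one_lt
  have h2 : 1 < p ^ 2 := Nat.one_lt_pow (by norm_num) this
  omega

/-- the transitivity pattern: S1394 + S1395 + S1411 -/
theorem trans_sylow [Finite G] (hG : IsMinSimpleOddOrder G) {p : ℕ} [hp : Fact p.Prime] {A : Subgroup G}
    (hAe : IsElementaryAbelian p A) (hA2 : Nat.card A = p ^ 2)
    (hAmax : ∀ B : Subgroup G, IsElementaryAbelian p B → A ≤ B → B = A)
    {q : ℕ} (hq : q.Prime) (hqp : q ≠ p) (hqC : q ∣ Nat.card (centralizer (A : Set G)))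
    {Q : Subgroup G} (hQ : Q ∈ maxInvSubgroups ⊤ A {q}) :
    ∃ Ph : Subgroup G, BG8.IsMaxP p Ph ⊤ ∧ A ≤ Ph ∧ Ph ≤ normalizer (Q : Set G) ∧
      Ph ≤ ⁅normalizer (Q : Set G), normalizer (Q : Set G)⁆ ∧
      normalizer (Ph : Set G) ≤ centralizer (A : Set G) ⊔ normalizer (Q : Set G) ∧
      (∀ Q' ∈ maxInvSubgroups ⊤ A {q}, ∃ k ∈ KK A, Q' = cj k Q) := by
  have hp' := hp.out
  haveI : Fact q.Prime := ⟨hq⟩
  have hAbot : A ≠ ⊥ := ne_bot_of_card_sq hp' hA2
  have hAp : IsPGroup p A := BG9.isPGroup_of_isElementaryAbelian hAe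
  have hTH := th_of_max hG hAe hAbot hAmax
  have hqA : ¬ q ∣ Nat.card A := by
    rw [hA2]
    intro h
    exact hqp ((Nat.prime_dvd_prime_iff_eq hq hp').mp (hq.dvd_of_dvd_pow h))
  have hAcent : A ≤ centralizer (A : Set G) := BG9.le_centralizer_of_isElementaryAbelian hAe le_rfl
  have hZ : ¬ RankLE 1 ↥(A ⊓ centralizer (A : Set G)) :=
    BG9.not_rankLE_of_elementary' hp' (le_inf le_rfl hAcent) hAe (by rw [hA2])
  have htr : ∀ Q₁ ∈ maxInvSubgroups ⊤ A {q}, ∀ Q₂ ∈ maxInvSubgroups ⊤ A {q},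
      ∃ k ∈ KK A, Q₂ = cj k Q₁ := fun Q₁ h₁ Q₂ h₂ => BG7.t74 hG hTH hZ hq hqA hqC h₁ h₂
  obtain ⟨Ph₀, hPh₀, hAPh₀⟩ := BT.exists_isMaxP_ge (H := ⊤) hAp le_top
  have hPh₀top : Ph₀ ≠ ⊤ := BG7.pgroup_ne_top hG hPh₀.2.1
  have hPhπ : ∀ r : ℕ, r.Prime → r ∣ Nat.card Ph₀ → r ∣ Nat.card A := by
    intro r hr hrd
    obtain ⟨n, hn⟩ := IsPGroup.iff_card.mp hPh₀.2.1
    rw [hn] at hrd
    have := (Nat.prime_dvd_prime_iff_eq hr hp').mp (hr.dvd_of_dvd_pow hrd)
    rw [this, hA2]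
    exact dvd_pow_self p (by norm_num)
  have hsn : (A.subgroupOf Ph₀).IsSubnormal :=
    (isNilpotent_iff_forall_isSubnormal.mp hPh₀.2.1.isNilpotent) _
  obtain ⟨h1, h2⟩ := BG7.t75_core hG hPh₀top _ A hTH hqA hPhπ hAPh₀ hsn htr rfl
  obtain ⟨Q₁, hQ₁, -⟩ := BG7.exists_max_above (BG8.bot_mem_invSubgroups Ph₀ {q})
  have hQ₁A := h1 Q₁ hQ₁
  obtain ⟨k, hk, hkQ⟩ := htr Q hQ Q₁ hQ₁A
  have hkC : k ∈ centralizer (A : Set G) := BG7.KK_le_centralizer A hk
  have hfr := BG7.frattini_part _ h2 hQ₁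
  have hder := BG7.derived_part hG hAbot hAPh₀ hPh₀top hPhπ hQ₁.1.2.2 hfr
  obtain ⟨P, hP⟩ := hPh₀.exists_sylow_top
  have hPN := sylow_le_comm_normalizer hG p P
  rw [hP] at hPN
  have hPD : Ph₀ ≤ ⁅normalizer (Q₁ : Set G), normalizer (Q₁ : Set G)⁆ :=
    (le_inf le_rfl hPN).trans hder
  have hNQ₁ : normalizer (Q₁ : Set G) = cj k (normalizer (Q : Set G)) := by
    rw [hkQ, T37.cj_normalizer]
  refine ⟨cj k⁻¹ Ph₀, BT.isMaxP_cj_of_mem hPh₀ (Subgroup.mem_top _), ?_, ?_, ?_, ?_, ?_⟩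
  · have : cj k⁻¹ A = A := BG10.cj_of_mem_centralizer (Subgroup.inv_mem _ hkC)
    rw [← this]
    exact cj_mono hAPh₀
  · have h3 : Ph₀ ≤ cj k (normalizer (Q : Set G)) := hNQ₁ ▸ hQ₁.1.2.2
    have := cj_mono (k := k⁻¹) h3
    rwa [cj_inv_cj] at this
  · have h3 : Ph₀ ≤ cj k ⁅normalizer (Q : Set G), normalizer (Q : Set G)⁆ := by
      rw [T37.cj_commutator, ← hNQ₁]; exact hPD
    have := cj_mono (k := k⁻¹) h3
    rwa [cj_inv_cj] at this
  · rw [← T37.cj_normalizer, hfr]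
    have h3 : piCoreOf (primesNotDvd (Nat.card A)) (centralizer (Ph₀ : Set G)) ⊔
        (normalizer (Ph₀ : Set G) ⊓ normalizer (Q₁ : Set G)) ≤
        centralizer (A : Set G) ⊔ cj k (normalizer (Q : Set G)) := by
      refine sup_le_sup ((BG7.piCoreOf_le _ _).trans (Subgroup.centralizer_le hAPh₀)) ?_
      rw [← hNQ₁]; exact inf_le_right
    have := cj_mono (k := k⁻¹) h3
    have h4 : cj k⁻¹ A = A := BG10.cj_of_mem_centralizer (Subgroup.inv_mem _ hkC)
    have h5 : cj k⁻¹ (centralizer (A : Set G) ⊔ cj k (normalizer (Q : Set G))) =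
        centralizer (A : Set G) ⊔ normalizer (Q : Set G) := by
      rw [T37.cj_sup, cj_inv_cj, T37.cj_centralizer, h4]
    rwa [h5] at this
  · intro Q' hQ'
    exact htr Q hQ Q' hQ'

theorem alphaCore_le_sigmaCore [Finite G] (hG : IsMinSimpleOddOrder G) {M : Subgroup G} (hM : IsCoatom M) :
    alphaCore M ≤ sigmaCore M := by
  unfold alphaCore sigmaCore
  apply Subgroup.map_mono
  apply Cfsg.Agent.Lib.Helper2.le_piCore
  intro q hq hqd
  exact BT.alpha_subset_sigma hG hM (Cfsg.Agent.Lib.Helper2.piCore_pi (G := ↥M) (alpha M) q hq hqd)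

/-- if `M` has rank at most 2 then `M'` is nilpotent (as a subgroup of `G`) -/
theorem commutator_nilpotent_of_alpha_empty [Finite G] (hG : IsMinSimpleOddOrder G) {M : Subgroup G}
    (hM : IsCoatom M) (hα : ¬ ∃ q, q ∈ alpha M) : Group.IsNilpotent ↥⁅M, M⁆ := by
  have hrk : RankLE 2 ↥M := fun r hr => by
    by_contra h
    exact hα ⟨r, hr, h⟩
  haveI : Group.IsSolvable ↥M := hG.2.2.2 M hM.1
  have hodd : Odd (Nat.card ↥M) := BG8.odd_card_subgroup hG M
  obtain ⟨hnil, -, -⟩ := RT.s1451 (G := ↥M) hodd (Or.inl hrk)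
  rw [← Subgroup.map_subtype_commutator]
  haveI := hnil
  exact nilpotent_of_mulEquiv ((commutator ↥M).equivMapOfInjective M.subtype M.subtype_injective)

/-- **Core of B&G Proposition 12.4(b).** If `p ∉ σ(M)` then no `A ∈ E²_p(M)` centralizes `M_σ`. -/
theorem g3core [Finite G] (hG : IsMinSimpleOddOrder G) {M : Subgroup G} (hM : IsCoatom M) {p : ℕ}
    [hp : Fact p.Prime] (hpσ : p ∉ sigma M) {A : Subgroup G} (hAM : A ≤ M)
    (hAe : IsElementaryAbelian p A) (hA2 : Nat.card A = p ^ 2)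
    (hAS : A ≤ centralizer (sigmaCore M : Set G)) : False := by
  have hp' := hp.out
  have hr1 : ¬ PRankLE p 1 ↥M := BG9.not_pRankLE_of_elementary hp' hAM hAe (by rw [hA2])
  have hr2 : PRankLE p 2 ↥M := by
    by_contra h
    exact hpσ (BT.alpha_subset_sigma hG hM ⟨hp', h⟩)
  obtain ⟨-, hmaxA⟩ := BT.s1408 hG hM hr2 hr1
  have hAmax := hmaxA A hAM hAe hA2
  have hAbot : A ≠ ⊥ := ne_bot_of_card_sq hp' hA2
  have hS1 := sigmaCore_ne_bot hG hM
  obtain ⟨hHallM, -, -⟩ := Cfsg.Agent.Lib.Helper7.BGA.s1350 hG M hM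
  have hScard : Nat.card (sigmaCore M) ≠ 1 := fun h => hS1 (Subgroup.card_eq_one.mp h)
  obtain ⟨q, hq, hqS⟩ := Nat.exists_prime_and_dvd hScard
  haveI : Fact q.Prime := ⟨hq⟩
  have hqσ : q ∈ sigma M := hHallM.2.1 q hq hqS
  have hqp : q ≠ p := fun h => hpσ (h ▸ hqσ)
  obtain ⟨Q, hQ, -⟩ := BT.exists_isMaxP_ge (p := q) (Y := ⊥) (H := M) IsPGroup.of_bot bot_le
  obtain ⟨hQM', hQtop, hNQ⟩ := BT.sigma_sylow_le_commutator hG hM hqσ hQ
  have hQS : Q ≤ sigmaCore M := by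
    obtain ⟨R, hR⟩ := hQ.exists_sylow
    rw [← hR]
    exact Subgroup.map_mono (Cfsg.Agent.Lib.Helper7.BGA.sigma_sylow_le_piCore hG hM hqσ R)
  have hQ1 : Q ≠ ⊥ := by
    intro h
    have h1 := hQtop.not_dvd_index
    rw [h, Subgroup.index_bot] at h1
    exact h1 (hqS.trans (Subgroup.card_subgroup_dvd_card _))
  have hAQ : A ≤ centralizer (Q : Set G) := hAS.trans (Subgroup.centralizer_le hQS)
  have hQinv : Q ∈ invSubgroups ⊤ A {q} :=
    BG7.mem_invSubgroups_top_of_isPGroup hq hQtop.2.1 (hAQ.trans (Subgroup.centralizer_le_normalizer _))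
  have hQmax : Q ∈ maxInvSubgroups ⊤ A {q} :=
    ⟨hQinv, fun R hR hQR => hQtop.2.2 R (BG7.isPGroup_of_mem_invSubgroups hq hR) hQR le_top⟩
  have hQC : Q ≤ centralizer (A : Set G) := BG9.le_centralizer_symm hAQ
  have hqC : q ∣ Nat.card (centralizer (A : Set G)) :=
    (BG8.dvd_card_of_isPGroup_ne_bot hQtop.2.1 hQ1).trans (Subgroup.card_dvd_of_le hQC)
  obtain ⟨Ph, hPh, hAPh, hPhN, hPhD, hNPh, -⟩ := trans_sylow hG hAe hA2 hAmax hq hqp hqC hQmax
  have hPhM : Ph ≤ M := hPhN.trans hNQ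
  have hPhMax : BG8.IsMaxP p Ph M := hPh.mono hPhM le_top
  have hPh1 : Ph ≠ ⊥ := fun h => hAbot (le_bot_iff.mp (h ▸ hAPh))
  by_cases hα : ∃ q₁, q₁ ∈ alpha M
  · obtain ⟨q₁, hq₁⟩ := hα
    haveI : Fact q₁.Prime := ⟨hq₁.1⟩
    have hXα : ∀ r : ℕ, r.Prime → r ∣ Nat.card A → r ∉ alpha M := by
      intro r hr hrd hrα
      rw [hA2] at hrd
      have h1 := (Nat.prime_dvd_prime_iff_eq hr hp').mp (hr.dvd_of_dvd_pow hrd)
      subst h1
      exact hrα.2 hr2
    obtain ⟨E, hEM, hEe, hE3⟩ := BG9.exists_elementary_of_not_pRankLE hq₁.1 hq₁.2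
    have hEα : E ≤ alphaCore M := by
      have hEp : IsPGroup q₁ (E.subgroupOf M) :=
        (BG9.isPGroup_of_isElementaryAbelian hEe).comap_subtype
      obtain ⟨S₀, hS₀⟩ := hEp.exists_le_sylow
      have h1 := BT.alpha_sylow_le_piCore hG hM hq₁ S₀
      intro x hx
      exact ⟨⟨x, hEM hx⟩, h1 (hS₀ (Subgroup.mem_subgroupOf.mpr hx)), rfl⟩
    have hSCA : sigmaCore M ≤ centralizer (A : Set G) := BG9.le_centralizer_symm hAS
    have hr : ¬ RankLE 1 ↥(alphaCore M ⊓ centralizer (A : Set G)) :=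
      BG9.not_rankLE_of_elementary' hq₁.1
        (le_inf hEα (hEα.trans ((alphaCore_le_sigmaCore hG hM).trans hSCA))) hEe
        (le_trans (Nat.pow_le_pow_right hq₁.1.pos (by norm_num)) hE3)
    obtain ⟨L, ⟨hL, hLle⟩, huniq⟩ := BT.s1406 hG hM hAM hXα hr
    have hLM : M = L := huniq M ⟨hM, inf_le_left⟩
    have hCAtop : centralizer (A : Set G) ≠ ⊤ := by
      obtain ⟨b, hbA, hb1⟩ : ∃ b : G, b ∈ A ∧ b ≠ 1 := by
        obtain ⟨b, hb⟩ := (Subgroup.ne_bot_iff_exists_ne_one (H := A)).mp hAbot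
        exact ⟨b.1, b.2, fun h => hb (Subtype.ext h)⟩
      intro htop
      apply BG7.centralizer_singleton_ne_top hG hb1
      rw [eq_top_iff, ← htop]
      exact Subgroup.centralizer_le (Set.singleton_subset_iff.mpr hbA)
    have hCA : centralizer (A : Set G) ≤ M :=
      BG9.le_of_inUniqueMaximal (M := M) (fun L' hL' => (huniq L' hL').trans hLM.symm)
        inf_le_right hCAtop
    exact hpσ (mem_sigma_of_isMaxP hPhMax hPh1 (hNPh.trans (sup_le hCA hNQ)))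
  · have hnil := commutator_nilpotent_of_alpha_empty hG hM hα
    have hPhM' : Ph ≤ ⁅M, M⁆ := hPhD.trans (Subgroup.commutator_mono hNQ hNQ)
    have hcop : (Nat.card Ph).Coprime (Ph.relIndex ⁅M, M⁆) := by
      obtain ⟨n, hn⟩ := IsPGroup.iff_card.mp hPh.2.1
      rw [hn]
      apply Nat.Coprime.pow_left
      rw [Nat.Prime.coprime_iff_not_dvd hp']
      intro h
      apply hPh.not_dvd_index
      rw [← Subgroup.relIndex_mul_index hPhM']
      exact h.mul_right _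
    have hnorm : M ≤ normalizer (Ph : Set G) := by
      intro m hm
      apply T37.mem_normalizer_of_cj_le
      refine Cfsg.Agent.Lib.Helper7.BGB.hall_nilpotent_le hnil hPhM' ?_ hcop (by rw [card_cj])
      have h1 : cj m ⁅M, M⁆ = ⁅M, M⁆ :=
        T37.cj_of_mem_normalizer (Cfsg.Agent.Lib.Helper7.BGC.le_normalizer_commutator M hm)
      rw [← h1]
      exact cj_mono hPhM'
    have := BG8.normalizer_eq_of_coatom hG hM hPhM hPh1 hnorm
    exact hpσ (mem_sigma_of_isMaxP hPhMax hPh1 this.le)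

end Cfsg.Agent.Lib.Helper3.BG12
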