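import Mathlib

set_option autoImplicit false
open Pointwise

namespace Cfsg.Agent.Lib.Helper3

/-- In a finite group, `g` normalizes `H` as soon as `g H g⁻¹ ⊆ H`. -/
theorem mem_normalizer_of_forall_conj_mem {G : Type*} [Group G] [Finite G] (H : Subgroup G)
    (g : G) (h : ∀ x ∈ H, g * x * g⁻¹ ∈ H) : g ∈ Subgroup.normalizer ((H : Subgroup G) : Set G) := by
  rw [Subgroup.mem_normalizer_iff_map_conj_eq]
  apply Subgroup.eq_of_le_of_card_ge
  · rintro _ ⟨x, hx, rfl⟩
    exact h x hx
  · rw [Subgroup.card_map_of_injective (MulAut.conj g).injective]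

/-- A `p`-group normalizing a non-trivial `p`-group centralizes a non-trivial element of it. -/
theorem inf_centralizer_ne_bot_of_isPGroup {G : Type*} [Group G] [Finite G] (p : ℕ)
    [Fact p.Prime] {U S : Subgroup G} (hU : IsPGroup p U) (hS : IsPGroup p S)
    (hSU : S ≤ Subgroup.normalizer ((U : Subgroup G) : Set G)) (hne : U ≠ ⊥) :
    U ⊓ Subgroup.centralizer ((S : Subgroup G) : Set G) ≠ ⊥ := by
  classical
  letI : MulAction ↥S ↥U :=
    { smul := fun s x => ⟨(s : G) * x * (s : G)⁻¹,
        (Subgroup.mem_normalizer_iff.1 (hSU s.2) x).1 x.2⟩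
      one_smul := fun x => Subtype.ext (by
        change ((1 : S) : G) * x * ((1 : S) : G)⁻¹ = x
        simp)
      mul_smul := fun s t x => Subtype.ext (by
        change ((s * t : S) : G) * x * ((s * t : S) : G)⁻¹ =
          (s : G) * ((t : G) * x * (t : G)⁻¹) * (s : G)⁻¹
        simp [mul_assoc]) }
  have hsmul : ∀ (s : S) (x : U), ((s • x : U) : G) = (s : G) * x * (s : G)⁻¹ := fun _ _ => rfl
  have hdvd : p ∣ Nat.card U := by
    obtain ⟨n, hn⟩ := IsPGroup.iff_card.1 hU
    rw [hn]
    cases n with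
    | zero =>
      exfalso; apply hne
      rw [pow_zero] at hn
      exact Subgroup.eq_bot_of_card_eq U hn
    | succ n => exact dvd_pow_self p (Nat.succ_ne_zero n)
  have hfix1 : (1 : ↥U) ∈ MulAction.fixedPoints ↥S ↥U := by
    intro s
    apply Subtype.ext
    rw [hsmul]
    simp
  obtain ⟨b, hb, hb1⟩ := hS.exists_fixed_point_of_prime_dvd_card_of_fixed_point ↥U hdvd hfix1
  intro hbot
  apply hb1
  have hbmem : (b : G) ∈ U ⊓ Subgroup.centralizer ((S : Subgroup G) : Set G) := by
    refine Subgroup.mem_inf.2 ⟨b.2, ?_⟩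
    rw [Subgroup.mem_centralizer_iff]
    intro s hs
    have h1 := hb ⟨s, hs⟩
    have h2 : s * (b : G) * s⁻¹ = b := by
      have := congrArg Subtype.val h1
      rwa [hsmul] at this
    calc s * (b : G) = (s * (b : G) * s⁻¹) * s := by group
      _ = (b : G) * s := by rw [h2]
  rw [hbot, Subgroup.mem_bot] at hbmem
  exact Subtype.ext hbmem.symm

/-- A subgroup of order prime to `p` lies in every normal subgroup of `p`-power index. -/
theorem le_of_coprime_of_index_prime_pow {G : Type*} [Group G] [Finite G] (p : ℕ)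
    (X M : Subgroup G) [M.Normal] (a : ℕ) (hM : M.index = p ^ a)
    (hX : (Nat.card X).Coprime p) : X ≤ M := by
  rw [← Subgroup.relIndex_eq_one]
  have h1 : M.relIndex X ∣ M.index := Subgroup.relIndex_dvd_index_of_normal M X
  have h2 : M.relIndex X ∣ Nat.card X := Subgroup.relIndex_dvd_card M X
  rw [hM] at h1
  exact Nat.eq_one_of_dvd_coprimes (Nat.Coprime.pow_right a hX) h2 h1

end Cfsg.Agent.Lib.Helper3
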