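import Mathlib
import Cfsg.Agent.Lib.Helper3.BG12a
import Cfsg.Agent.Lib.Helper3.PGroupFix
import Cfsg.Agent.Lib.Helper1.Coprime

/-!
# B&G Lemma 12.3, the case `p ∈ σ(M*)`
-/

set_option autoImplicit false
universe u
open scoped commutatorElement Pointwise

namespace Cfsg.Agent.Lib.Helper3.BG12

open Cfsg Subgroup Cfsg.Agent.Lib.Helper1 Cfsg.Agent.Lib.Helper1.BG7

variable {G : Type u} [Group G]

theorem sigmaCore_le (M : Subgroup G) : sigmaCore M ≤ M := Subgroup.map_subtype_le _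

theorem alphaCore_le (M : Subgroup G) : alphaCore M ≤ M := Subgroup.map_subtype_le _

theorem le_normalizer_map_of_normal {M : Subgroup G} (N : Subgroup ↥M) [N.Normal] :
    M ≤ normalizer ((N.map M.subtype : Subgroup G) : Set G) := by
  intro m hm
  have h1 : (⟨m, hm⟩ : ↥M) ∈ normalizer ((N : Subgroup ↥M) : Set ↥M) := by
    rw [Subgroup.normalizer_eq_top]; exact Subgroup.mem_top _
  exact BG9.coe_mem_normalizer_map h1

theorem le_normalizer_sigmaCore (M : Subgroup G) : M ≤ normalizer (sigmaCore M : Set G) :=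
  le_normalizer_map_of_normal _

theorem le_normalizer_alphaCore (M : Subgroup G) : M ≤ normalizer (alphaCore M : Set G) :=
  le_normalizer_map_of_normal _

theorem le_sigmaCore_of_isPGroup [Finite G] (hG : IsMinSimpleOddOrder G) {M : Subgroup G}
    (hM : IsCoatom M) {p : ℕ} [hp : Fact p.Prime] (hpσ : p ∈ sigma M) {Y : Subgroup G}
    (hYM : Y ≤ M) (hY : IsPGroup p Y) : Y ≤ sigmaCore M := by
  have hYp : IsPGroup p (Y.subgroupOf M) := hY.comap_subtype
  obtain ⟨S₀, hS₀⟩ := hYp.exists_le_sylow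
  have h1 := Cfsg.Agent.Lib.Helper7.BGA.sigma_sylow_le_piCore hG hM hpσ S₀
  intro x hx
  exact ⟨⟨x, hYM hx⟩, h1 (hS₀ (Subgroup.mem_subgroupOf.mpr hx)), rfl⟩

theorem le_alphaCore_of_isPGroup [Finite G] (hG : IsMinSimpleOddOrder G) {M : Subgroup G}
    (hM : IsCoatom M) {p : ℕ} [hp : Fact p.Prime] (hpα : p ∈ alpha M) {Y : Subgroup G}
    (hYM : Y ≤ M) (hY : IsPGroup p Y) : Y ≤ alphaCore M := by
  have hYp : IsPGroup p (Y.subgroupOf M) := hY.comap_subtype
  obtain ⟨S₀, hS₀⟩ := hYp.exists_le_sylow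
  have h1 := BT.alpha_sylow_le_piCore hG hM hpα S₀
  intro x hx
  exact ⟨⟨x, hYM hx⟩, h1 (hS₀ (Subgroup.mem_subgroupOf.mpr hx)), rfl⟩

/-- an element of order `q` of a `q`-group of rank at least 2 lies in an `E_{q²}` -/
theorem exists_sq_mem [Finite G] {q : ℕ} [hq : Fact q.Prime] {Q : Subgroup G} (hQ : IsPGroup q Q)
    (hr : ¬ PRankLE q 1 ↥Q) {y : G} (hyQ : y ∈ Q) (hy : orderOf y = q) :
    ∃ E : Subgroup G, E ≤ Q ∧ IsElementaryAbelian q E ∧ Nat.card E = q ^ 2 ∧ y ∈ E := by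
  have hq' := hq.out
  have hyq : y ^ q = 1 := by rw [← hy]; exact pow_orderOf_eq_one y
  have hD : IsElementaryAbelian q (Subgroup.zpowers y) := by
    refine ⟨⟨⟨?_⟩⟩, ?_⟩
    · rintro ⟨a, ha⟩ ⟨b, hb⟩
      apply Subtype.ext
      obtain ⟨i, rfl⟩ := Subgroup.mem_zpowers_iff.mp ha
      obtain ⟨j, rfl⟩ := Subgroup.mem_zpowers_iff.mp hb
      show y ^ i * y ^ j = y ^ j * y ^ i
      rw [← zpow_add, ← zpow_add, add_comm]
    · intro a ha
      obtain ⟨i, rfl⟩ := Subgroup.mem_zpowers_iff.mp ha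
      rw [← zpow_natCast, ← zpow_mul, mul_comm, zpow_mul, zpow_natCast, hyq, one_zpow]
  have hDcard : Nat.card (Subgroup.zpowers y) = q := by rw [Nat.card_zpowers, hy]
  have hDQ : Subgroup.zpowers y ≤ Q := by rw [Subgroup.zpowers_le]; exact hyQ
  -- it suffices to find `u ∈ Q` of order dividing `q` centralizing `y`, outside `⟨y⟩`
  suffices h : ∃ u : G, u ∈ Q ∧ u ∈ centralizer ((Subgroup.zpowers y : Subgroup G) : Set G) ∧
      u ^ q = 1 ∧ u ∉ Subgroup.zpowers y by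
    obtain ⟨u, huQ, huC, huq, huD⟩ := h
    obtain ⟨h1, h2⟩ := BT.elementary_sup_zpowers hD huC huq huD
    refine ⟨Subgroup.zpowers y ⊔ Subgroup.zpowers u, sup_le hDQ (by rw [Subgroup.zpowers_le]; exact huQ),
      h1, ?_, (le_sup_left : Subgroup.zpowers y ≤ _) (Subgroup.mem_zpowers y)⟩
    rw [h2, hDcard]; ring
  have hQ1 : Q ≠ ⊥ := by
    intro h
    rw [h, Subgroup.mem_bot] at hyQ
    rw [hyQ, orderOf_one] at hy
    exact hq'.one_lt.ne hy
  obtain ⟨z, hzmem, hz1⟩ : ∃ z : G, z ∈ BT.omegaZ q Q ∧ z ≠ 1 := by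
    have := BT.omegaZ_ne_bot hQ hQ1
    obtain ⟨z, hz⟩ := (Subgroup.ne_bot_iff_exists_ne_one (H := BT.omegaZ q Q)).mp this
    exact ⟨z.1, z.2, fun h => hz (Subtype.ext h)⟩
  obtain ⟨hzQ, hzC, hzq⟩ := BT.mem_omegaZ.mp hzmem
  by_cases hzD : z ∈ Subgroup.zpowers y
  · -- `y` is central in `Q`
    have hyC : y ∈ centralizer (Q : Set G) := by
      have h1 : Subgroup.zpowers z = Subgroup.zpowers y := by
        apply Subgroup.eq_of_le_of_card_ge (by rw [Subgroup.zpowers_le]; exact hzD)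
        rw [hDcard, Nat.card_zpowers]
        have h2 : orderOf z ∣ q := orderOf_dvd_of_pow_eq_one hzq
        rcases (Nat.dvd_prime hq').mp h2 with h3 | h3
        · exact absurd (orderOf_eq_one_iff.mp h3) hz1
        · rw [h3]
      have h4 : y ∈ Subgroup.zpowers z := h1 ▸ Subgroup.mem_zpowers y
      obtain ⟨i, rfl⟩ := Subgroup.mem_zpowers_iff.mp h4
      exact Subgroup.zpow_mem _ hzC i
    obtain ⟨E₀, hE₀Q, hE₀e, hE₀c⟩ := BG9.exists_elementary_of_not_pRankLE hq' hr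
    have hex : ∃ w : G, w ∈ E₀ ∧ w ∉ Subgroup.zpowers y := by
      by_contra hcon
      push Not at hcon
      have hle : E₀ ≤ Subgroup.zpowers y := hcon
      have h5 := Subgroup.card_le_of_le hle
      rw [hDcard] at h5
      have h6 : q < q ^ (1 + 1) := by
        have := hq'.one_lt
        calc q = q ^ 1 := (pow_one q).symm
          _ < q ^ (1 + 1) := Nat.pow_lt_pow_right this (by norm_num)
      omega
    obtain ⟨w, hwE, hwD⟩ := hex
    refine ⟨w, hE₀Q hwE, ?_, hE₀e.2 w hwE, hwD⟩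
    rw [BT.centralizer_zpowers_eq, Subgroup.mem_centralizer_singleton_iff]
    exact (Subgroup.mem_centralizer_iff.mp hyC w (hE₀Q hwE))
  · refine ⟨z, hzQ, ?_, hzq, hzD⟩
    rw [BT.centralizer_zpowers_eq, Subgroup.mem_centralizer_singleton_iff]
    exact (Subgroup.mem_centralizer_iff.mp hzC y hyQ).symm

/-- two maximal subgroups sharing an element of ideal prime order `q ∈ σ(M) ∩ σ(L)` coincide -/
theorem eq_of_common_ideal [Finite G] (hG : IsMinSimpleOddOrder G) {M L : Subgroup G}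
    (hM : IsCoatom M) (hL : IsCoatom L) {q : ℕ} [hq : Fact q.Prime] (hqi : IsIdealPrime q G)
    {QM QL : Subgroup G} (hQM : BG8.IsMaxP q QM ⊤) (hQMM : QM ≤ M) (hQL : BG8.IsMaxP q QL ⊤)
    (hQLL : QL ≤ L) {y : G} (hyM : y ∈ QM) (hyL : y ∈ QL) (hy : orderOf y = q) : L = M := by
  have hq' := hq.out
  have key : ∀ {Q : Subgroup G}, BG8.IsMaxP q Q ⊤ → y ∈ Q →
      ∃ B : Subgroup G, B ≤ Q ∧ InUniqueMaximal B ∧ B ≤ centralizer ({y} : Set G) := by
    intro Q hQ hyQ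
    obtain ⟨R, hR⟩ := hQ.exists_sylow_top
    have hr2 : ¬ PRankLE q 2 ↥Q := by
      rw [← hR]
      intro h
      exact hqi.2.1 (BG9.pRankLE_of_sylow R h)
    have hr1 : ¬ PRankLE q 1 ↥Q := BG8.not_pRankLE_mono hq'.pos (by norm_num) hr2
    obtain ⟨E, hEQ, hEe, hE2, hyE⟩ := exists_sq_mem hQ.2.1 hr1 hyQ hy
    obtain ⟨B, hBR, hBe, hEB⟩ := hqi.2.2 R E (hR ▸ hEQ) hEe hE2
    have hBp : IsPGroup q B := BG9.isPGroup_of_isElementaryAbelian hBe
    obtain ⟨k, hk⟩ := IsPGroup.iff_card.mp hBp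
    have hlt : Nat.card E < Nat.card B := BG10.card_lt_of_lt hEB
    rw [hE2, hk] at hlt
    have hk3 : 3 ≤ k := by
      by_contra hcon
      push Not at hcon
      have : q ^ k ≤ q ^ 2 := Nat.pow_le_pow_right hq'.pos (by omega)
      omega
    have hB3 : q ^ (2 + 1) ≤ Nat.card B := by
      rw [hk]; exact Nat.pow_le_pow_right hq'.pos hk3
    refine ⟨B, hR ▸ hBR, BT.inUniqueMaximal_of_elementary_cube hG hq' hBe hB3, ?_⟩
    intro b hb
    rw [Subgroup.mem_centralizer_singleton_iff]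
    have := BG9.le_centralizer_of_isElementaryAbelian hBe le_rfl hb
    exact (Subgroup.mem_centralizer_iff.mp this y (hEB.le hyE)).symm
  obtain ⟨B, hBQ, hBU, hBC⟩ := key hQM hyM
  obtain ⟨B', hB'Q, hB'U, hB'C⟩ := key hQL hyL
  have hy1 : y ≠ 1 := by
    intro h
    rw [h, orderOf_one] at hy
    exact hq'.one_lt.ne hy
  have hCtop := BG7.centralizer_singleton_ne_top hG hy1
  obtain ⟨H, hH, hCH⟩ := (eq_top_or_exists_le_coatom _).resolve_left hCtop
  obtain ⟨M₁, -, hu⟩ := hBU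
  obtain ⟨L₁, -, hu'⟩ := hB'U
  have h1 : H = M₁ := hu H ⟨hH, hBC.trans hCH⟩
  have h2 : M = M₁ := hu M ⟨hM, hBQ.trans hQMM⟩
  have h3 : H = L₁ := hu' H ⟨hH, hB'C.trans hCH⟩
  have h4 : L = L₁ := hu' L ⟨hL, hB'Q.trans hQLL⟩
  rw [h4, ← h3, h1, ← h2]

/-- in a group with a normal `q`-complement, `X = [X, A]` with `A` a `q'`-group forces `X` to be a `q'`-group -/
theorem coprime_of_npc_comm [Finite G] {q : ℕ} [hq : Fact q.Prime] {H X A : Subgroup G}
    (hnpc : HasNormalPComplement q ↥H) (hXH : X ≤ H) (hAH : A ≤ H)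
    (hA : (Nat.card A).Coprime q) (hXA : X ≤ ⁅X, A⁆) : (Nat.card X).Coprime q := by
  obtain ⟨P, T, hTn, hcompl⟩ := hnpc
  haveI := hTn
  have hidx : T.index = Nat.card (P : Subgroup ↥H) := hcompl.symm.index_eq_card
  obtain ⟨k, hk⟩ := IsPGroup.iff_card.mp P.isPGroup'
  have hTq : (Nat.card T).Coprime q := by
    have h1 : (P : Subgroup ↥H).index = Nat.card T := hcompl.index_eq_card
    have h2 := P.card_coprime_index
    rw [h1, hk] at h2
    by_cases hk0 : k = 0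
    · -- then `q ∤ |H|`
      have h3 : ¬ q ∣ Nat.card T := by
        intro hd
        have h4 : q ∣ Nat.card ↥H := hd.trans (Subgroup.card_subgroup_dvd_card T)
        have h5 := P.dvd_card_of_dvd_card h4
        rw [hk, hk0, pow_zero] at h5
        exact hq.out.one_lt.ne' (Nat.dvd_one.mp h5)
      exact ((Nat.Prime.coprime_iff_not_dvd hq.out).mpr h3).symm
    · exact ((Nat.coprime_pow_left_iff (Nat.pos_of_ne_zero hk0) _ _).mp h2).symm
  have hA' : (Nat.card (A.subgroupOf H)).Coprime q := by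
    rw [Nat.card_congr (Subgroup.subgroupOfEquivOfLe hAH).toEquiv]; exact hA
  have hAT : A.subgroupOf H ≤ T :=
    Cfsg.Agent.Lib.Helper3.le_of_coprime_of_index_prime_pow q _ T k (hidx.trans hk) hA'
  have hcomm : ⁅X.subgroupOf H, A.subgroupOf H⁆ ≤ T :=
    (Subgroup.commutator_mono le_rfl hAT).trans (Subgroup.commutator_le_right _ _)
  have hXT : X.subgroupOf H ≤ T := by
    intro x hx
    apply hcomm
    have h1 : (x : G) ∈ ⁅X, A⁆ := hXA (Subgroup.mem_subgroupOf.mp hx)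
    have h2 : (⁅X.subgroupOf H, A.subgroupOf H⁆).map H.subtype = ⁅X, A⁆ := by
      rw [Subgroup.map_commutator, Subgroup.map_subgroupOf_eq_of_le hXH,
        Subgroup.map_subgroupOf_eq_of_le hAH]
    rw [← h2] at h1
    obtain ⟨t, ht, hte⟩ := h1
    have : t = x := Subtype.ext hte
    rwa [this] at ht
  have h3 : Nat.card X ∣ Nat.card T := by
    rw [← Nat.card_congr (Subgroup.subgroupOfEquivOfLe hXH).toEquiv]
    exact Subgroup.card_dvd_of_le hXT
  exact Nat.Coprime.coprime_dvd_left h3 hTq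

/-- **B&G Lemma 12.3, case `p ∈ σ(L)`**, for a normal Hall subgroup `N` of `M` with `π(N) ⊆ σ(M) - {p}`. -/
theorem l123_sigma [Finite G] (hG : IsMinSimpleOddOrder G) {M L : Subgroup G}
    (hM : IsCoatom M) (hL : IsCoatom L) (hLM : L ≠ M) {p : ℕ} [hp : Fact p.Prime]
    {A : Subgroup G} (hAM : A ≤ M) (hAL : A ≤ L) (hAp : IsPGroup p A) (hpL : p ∈ sigma L)
    {N : Subgroup G} (hNM : N ≤ M) (hMN : M ≤ normalizer (N : Set G))
    (hNσ : ∀ q : ℕ, q.Prime → q ∣ Nat.card N → q ∈ sigma M ∧ q ≠ p) :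
    ⁅N ⊓ L, A⁆ = ⊥ := by
  have hp' := hp.out
  obtain ⟨D, hD⟩ : ∃ D, D = N ⊓ L := ⟨_, rfl⟩
  rw [← hD]
  have hAD : A ≤ normalizer (D : Set G) := by
    rw [hD]
    exact Helper1.le_normalizer_inf (hAM.trans hMN) (hAL.trans Subgroup.le_normalizer)
  have hDN : D ≤ N := hD ▸ inf_le_left
  have hDL : D ≤ L := hD ▸ inf_le_right
  have hDq : ∀ q : ℕ, q.Prime → q ∣ Nat.card D → q ∈ sigma M ∧ q ≠ p := fun q hq hqd =>
    hNσ q hq (hqd.trans (Subgroup.card_dvd_of_le hDN))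
  have hcop : (Nat.card A).Coprime (Nat.card D) := by
    obtain ⟨n, hn⟩ := IsPGroup.iff_card.mp hAp
    rw [hn]
    apply Nat.Coprime.pow_left
    rw [Nat.Prime.coprime_iff_not_dvd hp']
    intro h
    exact (hDq p hp' h).2 rfl
  haveI hLs : Group.IsSolvable ↥L := hG.2.2.2 L hL.1
  haveI hDs : Group.IsSolvable ↥D := Helper1.isSolvable_of_le hDL
  obtain ⟨X, hX⟩ : ∃ X, X = ⁅D, A⁆ := ⟨_, rfl⟩
  rw [← hX]
  have hXX : ⁅X, A⁆ = X := by
    rw [hX]; exact Helper1.coprime_commutator_commutator A D hAD hcop (Or.inr hDs)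
  have hXD : X ≤ D := hX ▸ BG8.commutator_le_of_le_normalizer hAD
  have hALσ : A ≤ sigmaCore L := le_sigmaCore_of_isPGroup hG hL hpL hAL hAp
  have hXLσ : X ≤ sigmaCore L := by
    rw [hX]
    exact (Subgroup.commutator_mono hDL hALσ).trans
      (BG8.commutator_le_of_le_normalizer (le_normalizer_sigmaCore L) |> fun h => by
        rw [Subgroup.commutator_comm]; exact h)
  by_contra hXbot
  have hXcard : Nat.card X ≠ 1 := fun h => hXbot (Subgroup.card_eq_one.mp h)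
  obtain ⟨q, hq, hqX⟩ := Nat.exists_prime_and_dvd hXcard
  haveI : Fact q.Prime := ⟨hq⟩
  obtain ⟨hqσM, hqp⟩ := hDq q hq (hqX.trans (Subgroup.card_dvd_of_le hXD))
  obtain ⟨hHallL, -, -⟩ := Cfsg.Agent.Lib.Helper7.BGA.s1350 hG L hL
  have hqσL : q ∈ sigma L := hHallL.2.1 q hq (hqX.trans (Subgroup.card_dvd_of_le hXLσ))
  by_cases hqβ : q ∈ beta L
  · -- ideal prime: uniqueness
    obtain ⟨y, hy⟩ := exists_prime_orderOf_dvd_card' (G := ↥X) q hqX
    have hyo : orderOf (y : G) = q := by rw [Subgroup.orderOf_coe]; exact hy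
    have hyp : IsPGroup q (Subgroup.zpowers (y : G)) := by
      apply IsPGroup.of_card (n := 1)
      rw [Nat.card_zpowers, hyo, pow_one]
    have hyM : Subgroup.zpowers (y : G) ≤ M := by
      rw [Subgroup.zpowers_le]; exact hNM (hDN (hXD y.2))
    have hyL : Subgroup.zpowers (y : G) ≤ L := by
      rw [Subgroup.zpowers_le]; exact hDL (hXD y.2)
    obtain ⟨QM, hQM, hyQM⟩ := BT.exists_isMaxP_ge hyp hyM
    obtain ⟨QL, hQL, hyQL⟩ := BT.exists_isMaxP_ge hyp hyL
    obtain ⟨-, hQMtop, -⟩ := BT.sigma_sylow_le_commutator hG hM hqσM hQM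
    obtain ⟨-, hQLtop, -⟩ := BT.sigma_sylow_le_commutator hG hL hqσL hQL
    exact hLM (eq_of_common_ideal hG hM hL hqβ.2 hQMtop hQM.1 hQLtop hQL.1
      (hyQM (Subgroup.mem_zpowers _)) (hyQL (Subgroup.mem_zpowers _)) hyo)
  · -- normal `q`-complement in `L_σ`
    have hqL : q ∣ Nat.card L := hqσL.2.1
    have h1414 := Cfsg.Agent.Lib.Helper7.BGC.s1414_of hG L hL
      (fun p _ H hH => Cfsg.Agent.S1410.result hG p H hH)
    have hnpc := (h1414.2.2.2.2 q hq hqL hqβ).2.1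
    have hAq : (Nat.card A).Coprime q := by
      obtain ⟨n, hn⟩ := IsPGroup.iff_card.mp hAp
      rw [hn]
      apply Nat.Coprime.pow_left
      rw [Nat.coprime_primes hp' hq]
      exact fun h => hqp h.symm
    have := coprime_of_npc_comm hnpc hXLσ hALσ hAq hXX.ge
    exact (Nat.Prime.coprime_iff_not_dvd hq).mp this.symm hqX

end Cfsg.Agent.Lib.Helper3.BG12
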