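import Mathlib
import Cfsg.Prelude.Def_Local

/-! Interface for the bridge between `Helper1.PL.CoreStatement` (B&G Theorem 3.6, core case) and
the endgame `T37.endgame`: the "tight" configuration, in which a complement `K` to `V` in
`O_{p,p'}(H)` acts on `V` without fixed points. -/
set_option autoImplicit false
open scoped commutatorElement

namespace Cfsg.Agent.Lib.Helper3.T37

universe u

/-- The tight case: the hypotheses of the core case (without the quotient hypothesis), plus an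
`R`-invariant `p'`-subgroup `K` of `H` with `VK` normal in `G`, containing its own "centralizer
modulo `V`" (`hHH`), with `C_V(K) = 1`, and `H / V` not a `p'`-group. These are contradictory. -/
def TightStatement : Prop :=
  ∀ (G : Type u) [Group G] [Finite G] [Group.IsSolvable G], Odd (Nat.card G) →
  ∀ (H R R₀ V K : Subgroup G) [H.Normal] [V.Normal] (p : ℕ) [Fact p.Prime],
    (Nat.card H).Coprime H.index → Subgroup.IsComplement' H R → R₀ ≤ R → (Nat.card R₀).Prime →
    IsZGroup ↥(H ⊓ Subgroup.centralizer (R₀ : Set G)) →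
    ⁅H, R⁆ = H → V ≤ H → (∀ a ∈ V, ∀ b ∈ V, a * b = b * a) → (∀ a ∈ V, a ^ p = 1) →
    H ⊓ Subgroup.centralizer (V : Set G) ≤ V →
    (∀ P : Subgroup G, P ≤ H → IsPGroup p P → H ≤ Subgroup.normalizer (P : Set G) → P ≤ V) →
    (∀ H₁ R₁ : Subgroup G, H₁ ≤ H → R₁ ≤ R → R₀ ≤ R₁ → R₁ ≤ Subgroup.normalizer (H₁ : Set G) →
        H₁ ⊔ R₁ ≠ ⊤ → Cfsg.PLengthLE p 1 ↥⁅H₁, R₁⁆) →
    K ≤ H → (Nat.card K).Coprime p → R ≤ Subgroup.normalizer (K : Set G) →
    (V ⊔ K).Normal →
    (∀ h ∈ H, (∀ k ∈ K, ⁅h, k⁆ ∈ V) → h ∈ V ⊔ K) →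
    V ⊓ Subgroup.centralizer (K : Set G) = ⊥ →
    ¬ (V.relIndex H).Coprime p →
    False

end Cfsg.Agent.Lib.Helper3.T37
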