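import Mathlib

set_option autoImplicit false

namespace Cfsg.Agent.Lib.Helper3

/-- In a finite cyclic group, two subgroups of the same order are equal. -/
theorem subgroup_eq_of_card_eq_of_isCyclic {G : Type*} [Group G] [Finite G] [IsCyclic G]
    (H K : Subgroup G) (h : Nat.card H = Nat.card K) : H = K := by
  classical
  haveI := Fintype.ofFinite G
  have hn0 : 0 < Nat.card H := Nat.card_pos
  -- both are subsets of the finset of solutions of x^n = 1
  set n := Nat.card H with hn
  let T : Finset G := Finset.univ.filter (fun a : G => a ^ n = 1)
  have hT : T.card ≤ n := IsCyclic.card_pow_eq_one_le hn0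
  have key : ∀ L : Subgroup G, Nat.card L = n → (L : Set G) = (T : Set G) := by
    intro L hL
    have hsub : (L : Set G).toFinset ⊆ T := by
      intro x hx
      rw [Set.mem_toFinset] at hx
      simp only [T, Finset.mem_filter, Finset.mem_univ, true_and]
      have : (⟨x, hx⟩ : L) ^ n = 1 := by
        rw [← hL]; exact pow_card_eq_one'
      exact congrArg Subtype.val this
    have hcard : (L : Set G).toFinset.card = n := by
      rw [Set.toFinset_card, ← Nat.card_eq_fintype_card]; exact hL
    have : (L : Set G).toFinset = T :=
      Finset.eq_of_subset_of_card_le hsub (by rw [hcard]; exact hT)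
    rw [← this, Set.coe_toFinset]
  exact SetLike.coe_injective ((key H rfl).trans (key K h.symm).symm)

/-- A subgroup of a cyclic subgroup `C` with the same order as another such is equal to it. -/
theorem subgroup_eq_of_card_eq_of_le_isCyclic {G : Type*} [Group G] [Finite G]
    (C H K : Subgroup G) [IsCyclic C] (hH : H ≤ C) (hK : K ≤ C)
    (h : Nat.card H = Nat.card K) : H = K := by
  have h1 : H.subgroupOf C = K.subgroupOf C := by
    apply subgroup_eq_of_card_eq_of_isCyclic
    rw [Nat.card_congr (Subgroup.subgroupOfEquivOfLe hH).toEquiv,
      Nat.card_congr (Subgroup.subgroupOfEquivOfLe hK).toEquiv, h]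
  have := congrArg (Subgroup.map C.subtype) h1
  rwa [Subgroup.map_subgroupOf_eq_of_le hH, Subgroup.map_subgroupOf_eq_of_le hK] at this

end Cfsg.Agent.Lib.Helper3
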