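import Mathlib
import Cfsg.Agent.Lib.Helper3.T37r0
import Cfsg.Agent.Lib.Helper3.T37a
import Cfsg.Agent.Lib.Helper1.FrattiniHall
import Cfsg.Agent.Lib.Helper1.Coprime
import Cfsg.Agent.Lib.Helper1.CoprimeSylow
import Cfsg.Agent.Lib.Helper1.PL3
import Cfsg.Agent.Lib.Helper1.XS21
import Cfsg.Agent.Lib.Helper1.BG9a
import Cfsg.Agent.Lib.Helper2.CoprimeHall
import Cfsg.Agent.Lib.Helper7.UniqueOrderP
import Cfsg.Agent.Lib.Lead.PLMain

/-!
# The tight configuration of B&G Theorem 3.6: structure (part 1)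
-/

set_option autoImplicit false
universe u
open scoped commutatorElement

namespace Cfsg.Agent.Lib.Helper3.T37

open Cfsg Subgroup

variable {G : Type u} [Group G]

/-! ### general lemmas -/

theorem inf_eq_bot_of_isPGroup_of_coprime [Finite G] {p : ℕ} [Fact p.Prime] {A B : Subgroup G}
    (hA : IsPGroup p A) (hB : (Nat.card B).Coprime p) : A ⊓ B = ⊥ := by
  rw [← Subgroup.card_eq_one]
  obtain ⟨n, hn⟩ := (hA.to_le (inf_le_left : A ⊓ B ≤ A)).exists_card_eq
  have h1 : Nat.card ↥(A ⊓ B) ∣ Nat.card B := Subgroup.card_dvd_of_le inf_le_right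
  rw [hn] at h1 ⊢
  exact Nat.Coprime.eq_one_of_dvd (Nat.Coprime.pow_left n hB.symm) h1

theorem le_centralizer_of_normalizes_of_inf_eq_bot {A B : Subgroup G}
    (hAB : A ≤ normalizer (B : Set G)) (hBA : B ≤ normalizer (A : Set G)) (hd : A ⊓ B = ⊥) :
    A ≤ centralizer (B : Set G) := by
  intro a ha
  rw [mem_centralizer_iff]
  intro b hb
  have h1 : a * b * a⁻¹ * b⁻¹ ∈ A ⊓ B := by
    refine Subgroup.mem_inf.mpr ⟨?_, ?_⟩
    · have : b * a⁻¹ * b⁻¹ ∈ A := (mem_normalizer_iff.mp (hBA hb) a⁻¹).mp (A.inv_mem ha)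
      have h2 : a * b * a⁻¹ * b⁻¹ = a * (b * a⁻¹ * b⁻¹) := by group
      rw [h2]; exact A.mul_mem ha this
    · have : a * b * a⁻¹ ∈ B := (mem_normalizer_iff.mp (hAB ha) b).mp hb
      exact B.mul_mem this (B.inv_mem hb)
  rw [hd, mem_bot] at h1
  have h2 : a * b = (a * b * a⁻¹ * b⁻¹) * (b * a) := by group
  rw [h2, h1, one_mul]

/-- a `p`-subgroup of a subgroup that is a Z-group is cyclic -/
theorem isCyclic_of_isPGroup_of_le_isZGroup [Finite G] {p : ℕ} [Fact p.Prime] {Z P : Subgroup G}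
    (hZ : IsZGroup ↥Z) (hPZ : P ≤ Z) (hP : IsPGroup p P) : IsCyclic ↥P := by
  have h1 : IsPGroup p ↥(P.subgroupOf Z) := hP.comap_subtype
  haveI : IsCyclic ↥(P.subgroupOf Z) := IsPGroup.isCyclic_of_isZGroup h1
  exact isCyclic_of_surjective (Subgroup.subgroupOfEquivOfLe hPZ).toMonoidHom
    (Subgroup.subgroupOfEquivOfLe hPZ).surjective

/-- two nontrivial subgroups of a cyclic `p`-group meet nontrivially -/
theorem inf_ne_bot_of_isCyclic_isPGroup [Finite G] {p : ℕ} [Fact p.Prime] {C A T : Subgroup G}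
    (hC : IsCyclic ↥C) (hCp : IsPGroup p C) (hA : A ≤ C) (hT : T ≤ C) (hA1 : A ≠ ⊥) (hT1 : T ≠ ⊥) :
    A ⊓ T ≠ ⊥ := by
  have hp : p.Prime := Fact.out
  -- elements of order `p` in `A` and in `T`
  have key : ∀ X : Subgroup G, X ≤ C → X ≠ ⊥ → ∃ x ∈ X, x ≠ 1 ∧ x ^ p = 1 := by
    intro X hX hX1
    have h1 : p ∣ Nat.card ↥X := by
      obtain ⟨n, hn⟩ := (hCp.to_le hX).exists_card_eq
      rcases n with _ | n
      · exact absurd (Subgroup.card_eq_one.mp (by simpa using hn)) hX1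
      · rw [hn, pow_succ]; exact Dvd.intro_left _ rfl
    obtain ⟨x, hx⟩ := exists_prime_orderOf_dvd_card' (G := ↥X) p h1
    refine ⟨x, x.2, ?_, ?_⟩
    · intro h
      have : x = 1 := Subtype.ext h
      rw [this, orderOf_one] at hx
      exact hp.one_lt.ne hx
    · have : x ^ p = 1 := by rw [← hx]; exact pow_orderOf_eq_one x
      simpa using congrArg Subtype.val this
  obtain ⟨a, haA, ha1, hap⟩ := key A hA hA1
  obtain ⟨t, htT, ht1, htp⟩ := key T hT hT1
  have hu := Cfsg.Agent.Lib.Helper7.uniqueOrderP_of_isCyclic (P := ↥C) p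
  have h2 := hu ⟨t, hT htT⟩ ⟨a, hA haA⟩ (Subtype.ext (by simpa using htp))
    (Subtype.ext (by simpa using hap)) (fun h => ht1 (by simpa using congrArg Subtype.val h))
  obtain ⟨k, hk⟩ := Subgroup.mem_zpowers_iff.mp h2
  have hk' : t ^ k = a := by simpa using congrArg Subtype.val hk
  intro hbot
  have : a ∈ A ⊓ T := Subgroup.mem_inf.mpr ⟨haA, hk' ▸ T.zpow_mem htT k⟩
  rw [hbot, mem_bot] at this
  exact ha1 this


theorem card_mul_relIndex' {A B : Subgroup G} (h : A ≤ B) :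
    Nat.card A * A.relIndex B = Nat.card B := by
  have := Subgroup.relIndex_mul_relIndex ⊥ A B bot_le h
  rwa [Subgroup.relIndex_bot_left, Subgroup.relIndex_bot_left] at this

theorem le_normalizer_map_subtype_of_normal {H : Subgroup G} (X : Subgroup ↥H) [hX : X.Normal] :
    H ≤ normalizer ((X.map H.subtype : Subgroup G) : Set G) := by
  have h1 := Subgroup.le_normalizer_map (H := X) H.subtype
  rw [Subgroup.normalizer_eq_top_iff.mpr hX, ← MonoidHom.range_eq_map,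
    Subgroup.range_subtype] at h1
  exact h1

theorem zpowers_eq_of_prime_card [Finite G] {R₀ : Subgroup G} (h : (Nat.card R₀).Prime) {x : G}
    (hx : x ∈ R₀) (hx1 : x ≠ 1) : zpowers x = R₀ := by
  apply Subgroup.eq_of_le_of_card_ge (zpowers_le.mpr hx)
  rcases (Nat.dvd_prime h).mp (Subgroup.card_dvd_of_le (zpowers_le.mpr hx)) with h1 | h1
  · exfalso
    have := Subgroup.card_eq_one.mp h1
    exact hx1 (zpowers_eq_bot.mp this)
  · exact h1.ge

theorem mem_sup_of_normalizes {N A : Subgroup G} (h : A ≤ normalizer (N : Set G)) {x : G}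
    (hx : x ∈ N ⊔ A) : ∃ n ∈ N, ∃ a ∈ A, x = n * a := by
  rw [← SetLike.mem_coe, Subgroup.coe_mul_of_right_le_normalizer_left N A h] at hx
  obtain ⟨n, hn, a, ha, rfl⟩ := Set.mem_mul.mp hx
  exact ⟨n, hn, a, ha, rfl⟩

theorem le_centralizer_of_le_of_normalizes {A B P : Subgroup G} (hAP : A ≤ P)
    (hBP : B ≤ normalizer (P : Set G)) (hAB : A ≤ normalizer (B : Set G)) (hd : P ⊓ B = ⊥) :
    A ≤ centralizer (B : Set G) := by
  intro a ha
  rw [mem_centralizer_iff]
  intro b hb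
  have h1 : a * b * a⁻¹ * b⁻¹ ∈ P ⊓ B := by
    refine Subgroup.mem_inf.mpr ⟨?_, ?_⟩
    · have : b * a⁻¹ * b⁻¹ ∈ P := (mem_normalizer_iff.mp (hBP hb) a⁻¹).mp (P.inv_mem (hAP ha))
      have h2 : a * b * a⁻¹ * b⁻¹ = a * (b * a⁻¹ * b⁻¹) := by group
      rw [h2]; exact P.mul_mem (hAP ha) this
    · have : a * b * a⁻¹ ∈ B := (mem_normalizer_iff.mp (hAB ha) b).mp hb
      exact B.mul_mem this (B.inv_mem hb)
  rw [hd, mem_bot] at h1
  have h2 : b * a = (a * b * a⁻¹ * b⁻¹)⁻¹ * (a * b) := by group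
  rw [h2, h1, inv_one, one_mul]

theorem commutator_le_of_le_normalizer {A B : Subgroup G} (h : B ≤ normalizer (A : Set G)) :
    ⁅A, B⁆ ≤ A := by
  rw [commutator_le]
  intro a ha b hb
  have h1 : b * a⁻¹ * b⁻¹ ∈ A := (mem_normalizer_iff.mp (h hb) a⁻¹).mp (inv_mem ha)
  have h2 : ⁅a, b⁆ = a * (b * a⁻¹ * b⁻¹) := by rw [commutatorElement_def]; group
  rw [h2]; exact mul_mem ha h1

/-! ### the tight configuration -/

/-- the hypotheses of `TightStatement`, bundled -/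
structure Tg (p : ℕ) (H R R₀ V K : Subgroup G) : Prop where
  hodd : Odd (Nat.card G)
  hHn : H.Normal
  hVn : V.Normal
  hHall : (Nat.card H).Coprime H.index
  hR : IsComplement' H R
  hR₀ : R₀ ≤ R
  hR₀p : (Nat.card R₀).Prime
  hZ : IsZGroup ↥(H ⊓ centralizer (R₀ : Set G))
  hHR : ⁅H, R⁆ = H
  hVH : V ≤ H
  hVab : ∀ a ∈ V, ∀ b ∈ V, a * b = b * a
  hVp : ∀ a ∈ V, a ^ p = 1
  hCV : H ⊓ centralizer (V : Set G) ≤ V
  hOp : ∀ P : Subgroup G, P ≤ H → IsPGroup p P → H ≤ normalizer (P : Set G) → P ≤ V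
  hIH : ∀ H₁ R₁ : Subgroup G, H₁ ≤ H → R₁ ≤ R → R₀ ≤ R₁ → R₁ ≤ normalizer (H₁ : Set G) →
    H₁ ⊔ R₁ ≠ ⊤ → Cfsg.PLengthLE p 1 ↥⁅H₁, R₁⁆
  hKH : K ≤ H
  hKp : (Nat.card K).Coprime p
  hRK : R ≤ normalizer (K : Set G)
  hUn : (V ⊔ K).Normal
  hHH : ∀ h ∈ H, (∀ k ∈ K, ⁅h, k⁆ ∈ V) → h ∈ V ⊔ K
  hCVK : V ⊓ centralizer (K : Set G) = ⊥
  hne : ¬ (V.relIndex H).Coprime p

/-- `L = N_H(K)` -/
def NL (H K : Subgroup G) : Subgroup G := H ⊓ normalizer (K : Set G)

theorem NL_le (H K : Subgroup G) : NL H K ≤ H := inf_le_left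

theorem NL_le_normalizer (H K : Subgroup G) : NL H K ≤ normalizer (K : Set G) := inf_le_right

namespace Tg

variable [Finite G] {p : ℕ} [hp : Fact p.Prime] {H R R₀ V K : Subgroup G}

theorem normV (t : Tg p H R R₀ V K) (X : Subgroup G) : X ≤ normalizer (V : Set G) := by
  rw [normalizer_eq_top_iff.mpr t.hVn]; exact le_top

theorem normH (t : Tg p H R R₀ V K) (X : Subgroup G) : X ≤ normalizer (H : Set G) := by
  rw [normalizer_eq_top_iff.mpr t.hHn]; exact le_top

theorem isPGroupV (t : Tg p H R R₀ V K) : IsPGroup p V := by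
  intro g
  refine ⟨1, ?_⟩
  rw [pow_one]
  exact Subtype.ext (by simpa using t.hVp g g.2)

theorem index_eq (t : Tg p H R R₀ V K) : H.index = Nat.card R := t.hR.symm.index_eq_card

theorem copHR (t : Tg p H R R₀ V K) : (Nat.card H).Coprime (Nat.card R) := t.index_eq ▸ t.hHall

theorem infVK (t : Tg p H R R₀ V K) : V ⊓ K = ⊥ :=
  inf_eq_bot_of_isPGroup_of_coprime t.isPGroupV t.hKp

theorem infHR (t : Tg p H R R₀ V K) : H ⊓ R = ⊥ := t.hR.disjoint.eq_bot

theorem K_le_NL (t : Tg p H R R₀ V K) : K ≤ NL H K := le_inf t.hKH le_normalizer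

theorem R_le_normalizer_NL (t : Tg p H R R₀ V K) : R ≤ normalizer ((NL H K : Subgroup G) : Set G) :=
  fun _ hr => mem_normalizer_inf (t.normH R hr) (mem_normalizer_normalizer (t.hRK hr))

/-- a `p'`-subgroup of `H` normalized by `V` is trivial -/
theorem eq_bot_of_coprime (t : Tg p H R R₀ V K) {A : Subgroup G} (hAH : A ≤ H)
    (hA : (Nat.card A).Coprime p) (hVA : V ≤ normalizer (A : Set G)) : A = ⊥ := by
  have h1 : V ⊓ A = ⊥ := inf_eq_bot_of_isPGroup_of_coprime t.isPGroupV hA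
  have h2 : A ≤ centralizer (V : Set G) :=
    le_centralizer_of_normalizes_of_inf_eq_bot (t.normV A) hVA (by rwa [inf_comm])
  have h3 : A ≤ V := (le_inf hAH h2).trans t.hCV
  rw [← le_bot_iff, ← h1]
  exact le_inf h3 le_rfl

theorem card_sup_VK (t : Tg p H R R₀ V K) : Nat.card ↥(V ⊔ K) = Nat.card V * Nat.card K :=
  Cfsg.Agent.Lib.Lead.PLMain.card_sup_of_normalizes (t.normV K) (disjoint_iff.mpr t.infVK)

/-- Frattini argument: `H = V N_H(K)` -/
theorem sup_V_NL [Group.IsSolvable G] (t : Tg p H R R₀ V K) : V ⊔ NL H K = H := by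
  apply le_antisymm (sup_le t.hVH (NL_le H K))
  intro h hh
  haveI := t.hUn
  haveI := t.hVn
  have hsolv : Group.IsSolvable ↥(V ⊔ K) := inferInstance
  have hHallK : (Nat.card K).Coprime (K.relIndex (V ⊔ K)) := by
    have h1 : Nat.card K * K.relIndex (V ⊔ K) = Nat.card ↥(V ⊔ K) :=
      card_mul_relIndex' le_sup_right
    rw [t.card_sup_VK, mul_comm (Nat.card V)] at h1
    have h2 : K.relIndex (V ⊔ K) = Nat.card V :=
      Nat.eq_of_mul_eq_mul_left Nat.card_pos h1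
    rw [h2]
    obtain ⟨n, hn⟩ := t.isPGroupV.exists_card_eq
    rw [hn]
    exact Nat.Coprime.pow_right n t.hKp
  have hfr := Cfsg.Agent.Lib.Helper1.frattini_hall (V ⊔ K) hsolv K le_sup_right hHallK
  have hmem : h ∈ (V ⊔ K) ⊔ normalizer (K : Set G) := by rw [hfr]; exact mem_top h
  rw [← SetLike.mem_coe, Subgroup.normal_mul] at hmem
  obtain ⟨u, hu, n, hn, rfl⟩ := Set.mem_mul.mp hmem
  have hu' : u ∈ V ⊔ K := hu
  rw [← SetLike.mem_coe, Subgroup.normal_mul] at hu'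
  obtain ⟨v, hv, k, hk, rfl⟩ := Set.mem_mul.mp hu'
  have hnH : n ∈ H := by
    have h1 : n = (v * k)⁻¹ * (v * k * n) := by group
    rw [h1]
    exact H.mul_mem (H.inv_mem (H.mul_mem (t.hVH hv) (t.hKH hk))) hh
  have h2 : v * k * n = v * (k * n) := by group
  rw [h2]
  exact mul_mem_sup hv (Subgroup.mul_mem _ (t.K_le_NL hk) (Subgroup.mem_inf.mpr ⟨hnH, hn⟩))

theorem inf_V_NL (t : Tg p H R R₀ V K) : V ⊓ NL H K = ⊥ := by
  rw [← le_bot_iff, ← t.hCVK]
  intro v hv
  obtain ⟨hvV, hvL⟩ := Subgroup.mem_inf.mp hv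
  refine Subgroup.mem_inf.mpr ⟨hvV, ?_⟩
  have hvN : v ∈ normalizer (K : Set G) := (NL_le_normalizer H K) hvL
  rw [mem_centralizer_iff]
  intro k hk
  have h1 : v * k * v⁻¹ * k⁻¹ ∈ V ⊓ K := by
    refine Subgroup.mem_inf.mpr ⟨?_, ?_⟩
    · have : k * v⁻¹ * k⁻¹ ∈ V := t.hVn.conj_mem _ (V.inv_mem hvV) k
      have h2 : v * k * v⁻¹ * k⁻¹ = v * (k * v⁻¹ * k⁻¹) := by group
      rw [h2]; exact V.mul_mem hvV this
    · have : v * k * v⁻¹ ∈ K := (mem_normalizer_iff.mp hvN k).mp hk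
      exact K.mul_mem this (K.inv_mem hk)
  rw [t.infVK, mem_bot] at h1
  have h2 : k * v = (v * k * v⁻¹ * k⁻¹)⁻¹ * (v * k) := by group
  rw [h2, h1, inv_one, one_mul]

theorem card_H [Group.IsSolvable G] (t : Tg p H R R₀ V K) :
    Nat.card H = Nat.card V * Nat.card (NL H K) := by
  have := Cfsg.Agent.Lib.Lead.PLMain.card_sup_of_normalizes (t.normV (NL H K))
    (disjoint_iff.mpr t.inf_V_NL)
  rwa [t.sup_V_NL] at this

theorem relIndex_V [Group.IsSolvable G] (t : Tg p H R R₀ V K) :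
    V.relIndex H = Nat.card (NL H K) := by
  have h1 := card_mul_relIndex' t.hVH
  rw [t.card_H] at h1
  exact Nat.eq_of_mul_eq_mul_left Nat.card_pos h1

theorem p_dvd_card_NL [Group.IsSolvable G] (t : Tg p H R R₀ V K) : p ∣ Nat.card (NL H K) := by
  rw [← t.relIndex_V]
  exact (Nat.Prime.dvd_iff_not_coprime hp.out).mpr (fun h => t.hne h.symm)

theorem pPrimeCore_eq_bot (t : Tg p H R R₀ V K) : pPrimeCore p ↥H = ⊥ := by
  have h1 : (pPrimeCore p ↥H).map H.subtype = ⊥ := by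
    apply t.eq_bot_of_coprime (Subgroup.map_subtype_le _)
    · rw [Subgroup.card_map_of_injective H.subtype_injective]
      exact Cfsg.Agent.Lib.Helper1.pPrimeCore_card_coprime p
    · exact t.hVH.trans (le_normalizer_map_subtype_of_normal _)
  exact (Subgroup.map_eq_bot_iff_of_injective _ H.subtype_injective).mp h1

theorem fittingOf_le (t : Tg p H R R₀ V K) : fittingOf H ≤ V := by
  unfold fittingOf
  rw [Cfsg.Agent.Lib.Helper1.fittingSubgroup_eq_pCore_of_pPrimeCore_eq_bot p t.pPrimeCore_eq_bot]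
  exact t.hOp _ (Subgroup.map_subtype_le _) ((Cfsg.Agent.Lib.Helper1.pCore_isPGroup p).map _)
    (le_normalizer_map_subtype_of_normal _)

theorem commutator_NL_R [Group.IsSolvable G] (t : Tg p H R R₀ V K) : ⁅NL H K, R⁆ = NL H K := by
  haveI := t.hVn
  have hle : ⁅NL H K, R⁆ ≤ NL H K := by
    rw [commutator_le]
    intro l hl r hr
    have h1 : r * l⁻¹ * r⁻¹ ∈ NL H K :=
      (mem_normalizer_iff.mp (t.R_le_normalizer_NL hr) l⁻¹).mp (inv_mem hl)
    have h2 : ⁅l, r⁆ = l * (r * l⁻¹ * r⁻¹) := by rw [commutatorElement_def]; group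
    rw [h2]; exact mul_mem hl h1
  apply le_antisymm hle
  have hsub : ⁅H, R⁆ ≤ V ⊔ ⁅NL H K, R⁆ := by
    rw [commutator_le]
    intro h hh r hr
    have hmem : h ∈ V ⊔ NL H K := by rw [t.sup_V_NL]; exact hh
    rw [← SetLike.mem_coe, Subgroup.normal_mul] at hmem
    obtain ⟨v, hv, l, hl, rfl⟩ := Set.mem_mul.mp hmem
    have h1 : ⁅v * l, r⁆ = v * ⁅l, r⁆ * (r * v⁻¹ * r⁻¹) := by
      rw [commutatorElement_def, commutatorElement_def]; group
    rw [h1]
    refine mul_mem (mul_mem (mem_sup_left hv) (mem_sup_right (commutator_mem_commutator hl hr)))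
      (mem_sup_left (t.hVn.conj_mem _ (inv_mem hv) r))
  intro l hl
  have hmem : l ∈ V ⊔ ⁅NL H K, R⁆ := hsub (by rw [t.hHR]; exact NL_le H K hl)
  rw [← SetLike.mem_coe, Subgroup.normal_mul] at hmem
  obtain ⟨v, hv, c, hc, hvc⟩ := Set.mem_mul.mp hmem
  have hvL : v ∈ NL H K := by
    have : v = l * c⁻¹ := by rw [← hvc]; group
    rw [this]; exact mul_mem hl (inv_mem (hle hc))
  have hv1 : v ∈ V ⊓ NL H K := Subgroup.mem_inf.mpr ⟨hv, hvL⟩
  rw [t.inf_V_NL, mem_bot] at hv1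
  rw [← hvc, hv1, one_mul]; exact hc

/-- `R₀` has a nontrivial fixed point on `V` -/
theorem fixV_ne_bot [Group.IsSolvable G] (t : Tg p H R R₀ V K) :
    V ⊓ centralizer (R₀ : Set G) ≠ ⊥ := by
  intro h0
  haveI := t.hHn
  haveI := t.hVn
  have hcop : (Nat.card H).Coprime (Nat.card R₀) :=
    Nat.Coprime.coprime_dvd_right (card_dvd_of_le t.hR₀) t.copHR
  have hprime : ∀ x ∈ R₀, x ≠ 1 → H ⊓ centralizer ({x} : Set G) = H ⊓ centralizer (R₀ : Set G) := by
    intro x hx hx1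
    rw [← centralizer_zpowers_eq', zpowers_eq_of_prime_card t.hR₀p hx hx1]
  have hF : fittingOf H ⊓ centralizer (R₀ : Set G) = ⊥ := by
    rw [← le_bot_iff, ← h0]; exact inf_le_inf_right _ t.fittingOf_le
  have h2 : ⁅H, R₀⁆ ≤ V :=
    (Cfsg.Agent.Lib.Helper1.XS.s1445 t.hodd H R₀ hcop hprime hF).trans t.fittingOf_le
  have hRL : R₀ ≤ normalizer ((NL H K : Subgroup G) : Set G) := t.hR₀.trans t.R_le_normalizer_NL
  have h3 : ⁅NL H K, R₀⁆ ≤ V ⊓ NL H K := by
    refine le_inf ((commutator_mono (NL_le H K) le_rfl).trans h2) ?_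
    rw [commutator_le]
    intro l hl r hr
    have h1 : r * l⁻¹ * r⁻¹ ∈ NL H K := (mem_normalizer_iff.mp (hRL hr) l⁻¹).mp (inv_mem hl)
    have h2 : ⁅l, r⁆ = l * (r * l⁻¹ * r⁻¹) := by rw [commutatorElement_def]; group
    rw [h2]; exact mul_mem hl h1
  rw [t.inf_V_NL, le_bot_iff, commutator_eq_bot_iff_le_centralizer] at h3
  -- `L` is a Z-group
  haveI hLZ : IsZGroup ↥(NL H K) :=
    Cfsg.Agent.Lib.Lead.PLMain.isZGroup_of_map_le (MonoidHom.id _) (fun _ _ h => h) _ _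
      (by rw [Subgroup.map_id]; exact le_inf (NL_le H K) h3) t.hZ
  haveI hcyc : IsCyclic ↥⁅NL H K, NL H K⁆ := by
    haveI : IsCyclic ↥(commutator ↥(NL H K)) := IsZGroup.isCyclic_commutator _
    rw [← Subgroup.map_subtype_commutator]
    exact isCyclic_of_surjective ((NL H K).subtype.subgroupMap (commutator ↥(NL H K)))
      (MonoidHom.subgroupMap_surjective _ _)
  have hLC : NL H K ≤ centralizer ((⁅NL H K, NL H K⁆ : Subgroup G) : Set G) := by
    have : ⁅NL H K, R⁆ ≤ centralizer ((⁅NL H K, NL H K⁆ : Subgroup G) : Set G) := by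
      rw [commutator_le]
      intro l hl r hr
      exact Cfsg.Agent.Lib.Helper1.PL.aut_cyclic_comm
        (mem_normalizer_commutator (le_normalizer hl) (le_normalizer hl))
        (mem_normalizer_commutator (t.R_le_normalizer_NL hr) (t.R_le_normalizer_NL hr))
    rwa [t.commutator_NL_R] at this
  have hker : (Abelianization.of : ↥(NL H K) →* Abelianization ↥(NL H K)).ker ≤
      center ↥(NL H K) := by
    rw [Abelianization.ker_of]
    intro c hc
    rw [mem_center_iff]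
    intro g
    have hc' : (c : G) ∈ ⁅NL H K, NL H K⁆ := by
      rw [← Subgroup.map_subtype_commutator]; exact ⟨c, hc, rfl⟩
    have := mem_centralizer_iff.mp (hLC g.2) c hc'
    exact Subtype.ext this.symm
  haveI : Group.IsNilpotent ↥(NL H K) := Subgroup.isNilpotent_of_ker_le_center _ hker
  haveI : IsCyclic ↥(NL H K) := inferInstance
  obtain ⟨P⟩ : Nonempty (Sylow p ↥(NL H K)) := inferInstance
  have hLS : NL H K ≤ centralizer (((P : Subgroup ↥(NL H K)).map (NL H K).subtype : Subgroup G) : Set G) := by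
    intro l hl
    rw [mem_centralizer_iff]
    rintro _ ⟨s, -, rfl⟩
    haveI : IsMulCommutative ↥(NL H K) := IsCyclic.isMulCommutative
    have := mul_comm' s (⟨l, hl⟩ : ↥(NL H K))
    exact congrArg Subtype.val this
  have hSp : IsPGroup p ↥((P : Subgroup ↥(NL H K)).map (NL H K).subtype) := P.2.map _
  have hnorm : H ≤ normalizer ((V ⊔ (P : Subgroup ↥(NL H K)).map (NL H K).subtype : Subgroup G) : Set G) := by
    refine t.sup_V_NL.ge.trans (sup_le (le_sup_left.trans le_normalizer) ?_)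
    intro l hl
    exact mem_normalizer_sup (t.normV _ hl) (centralizer_le_normalizer' _ (hLS hl))
  have hle := t.hOp _ (sup_le t.hVH ((Subgroup.map_subtype_le _).trans (NL_le H K)))
    (t.isPGroupV.to_sup_of_normal_left hSp) hnorm
  have hS0 : (P : Subgroup ↥(NL H K)).map (NL H K).subtype = ⊥ := by
    rw [← le_bot_iff, ← t.inf_V_NL]
    exact le_inf (le_sup_right.trans hle) (Subgroup.map_subtype_le _)
  exact P.ne_bot_of_dvd_card t.p_dvd_card_NL
    ((Subgroup.map_eq_bot_iff_of_injective _ (NL H K).subtype_injective).mp hS0)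

/-- `p`-subgroups of `C_L(R₀)` are trivial -/
theorem eq_bot_of_isPGroup_of_le_fix [Group.IsSolvable G] (t : Tg p H R R₀ V K) {T : Subgroup G}
    (hTL : T ≤ NL H K) (hTC : T ≤ centralizer (R₀ : Set G)) (hT : IsPGroup p T) : T = ⊥ := by
  by_contra hT1
  obtain ⟨A, hA⟩ : ∃ A, A = V ⊓ centralizer (R₀ : Set G) := ⟨_, rfl⟩
  have hA1 : A ≠ ⊥ := hA ▸ t.fixV_ne_bot
  have hAp : IsPGroup p A := t.isPGroupV.to_le (hA ▸ inf_le_left)
  have hTA : T ≤ normalizer (A : Set G) := by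
    intro x hx
    rw [hA]
    exact mem_normalizer_inf (t.normV T hx) (le_normalizer (hTC hx))
  have hCp : IsPGroup p ↥(T ⊔ A) := IsPGroup.to_sup_of_normal_right' hT hAp hTA
  have hle : T ⊔ A ≤ H ⊓ centralizer (R₀ : Set G) :=
    sup_le (le_inf (hTL.trans (NL_le H K)) hTC)
      (hA ▸ inf_le_inf_right _ t.hVH)
  have hcyc : IsCyclic ↥(T ⊔ A) := isCyclic_of_isPGroup_of_le_isZGroup t.hZ hle hCp
  have h1 := inf_ne_bot_of_isCyclic_isPGroup hcyc hCp le_sup_right le_sup_left hA1 hT1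
  apply h1
  rw [← le_bot_iff, ← t.inf_V_NL]
  exact inf_le_inf (hA ▸ inf_le_left) hTL

/-- an `R`-invariant Sylow `p`-subgroup of `L` -/
theorem exists_S [Group.IsSolvable G] (t : Tg p H R R₀ V K) :
    ∃ S : Subgroup G, S ≤ NL H K ∧ IsPGroup p S ∧ R ≤ normalizer (S : Set G) ∧ S ≠ ⊥ ∧
      (∃ m, Nat.card (NL H K) = Nat.card S * m ∧ m.Coprime p) ∧
      S ⊓ centralizer (R₀ : Set G) = ⊥ := by
  have hcop : (Nat.card R).Coprime (Nat.card (NL H K)) :=
    (Nat.Coprime.coprime_dvd_left (card_dvd_of_le (NL_le H K)) t.copHR).symm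
  obtain ⟨P, hP⟩ := Cfsg.Agent.Lib.Helper1.coprime_exists_invariant_sylow R (NL H K)
    t.R_le_normalizer_NL hcop (Or.inr inferInstance) p
  have hSL : (P : Subgroup ↥(NL H K)).map (NL H K).subtype ≤ NL H K := Subgroup.map_subtype_le _
  have hSp : IsPGroup p ↥((P : Subgroup ↥(NL H K)).map (NL H K).subtype) := P.2.map _
  refine ⟨(P : Subgroup ↥(NL H K)).map (NL H K).subtype, hSL, hSp, hP, ?_, ⟨(P : Subgroup ↥(NL H K)).index, ?_, ?_⟩, ?_⟩
  · intro h0
    exact P.ne_bot_of_dvd_card t.p_dvd_card_NL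
      ((Subgroup.map_eq_bot_iff_of_injective _ (NL H K).subtype_injective).mp h0)
  · rw [Subgroup.card_map_of_injective (NL H K).subtype_injective]
    exact (Subgroup.card_mul_index _).symm
  · exact ((Nat.Prime.coprime_iff_not_dvd hp.out).mpr P.not_dvd_index).symm
  · exact t.eq_bot_of_isPGroup_of_le_fix (inf_le_left.trans hSL) inf_le_right (hSp.to_le inf_le_left)

/-- a subgroup `D` of `H` of `p`-length one normalized by `V` has a normal Sylow `p`-subgroup -/
theorem pclosed_of_plen (t : Tg p H R R₀ V K) {D : Subgroup G} (hDH : D ≤ H)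
    (hVD : V ≤ normalizer (D : Set G)) (hPL : PLengthLE p 1 ↥D) :
    ∃ P' : Subgroup G, P' ≤ D ∧ IsPGroup p P' ∧ normalizer (D : Set G) ≤ normalizer (P' : Set G) ∧
      ∀ T : Subgroup G, T ≤ D → IsPGroup p T → T ≤ P' := by
  haveI := Cfsg.Agent.Lib.Helper2.pPrimeCore_characteristic (G := ↥D) p
  have h0 : pPrimeCore p ↥D = ⊥ := by
    have h1 : (pPrimeCore p ↥D).map D.subtype = ⊥ := by
      apply t.eq_bot_of_coprime ((Subgroup.map_subtype_le _).trans hDH)
      · rw [Subgroup.card_map_of_injective D.subtype_injective]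
        exact Cfsg.Agent.Lib.Helper1.pPrimeCore_card_coprime p
      · exact hVD.trans
          (Cfsg.Agent.Lib.Helper1.normalizer_le_normalizer_map_characteristic D (pPrimeCore p ↥D))
    exact (Subgroup.map_eq_bot_iff_of_injective _ D.subtype_injective).mp h1
  obtain ⟨P⟩ : Nonempty (Sylow p ↥D) := inferInstance
  obtain ⟨hn, hi, -, -⟩ := Cfsg.Agent.Lib.Lead.PLength.pLengthLE_one_core p hPL P
  rw [h0, bot_sup_eq] at hn hi
  haveI := hn
  haveI : (P : Subgroup ↥D).Characteristic := Sylow.characteristic_of_normal P hn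
  refine ⟨(P : Subgroup ↥D).map D.subtype, Subgroup.map_subtype_le _, P.2.map _,
    Cfsg.Agent.Lib.Helper1.normalizer_le_normalizer_map_characteristic D (P : Subgroup ↥D), ?_⟩
  intro T hTD hT
  have h1 : T.subgroupOf D ≤ (P : Subgroup ↥D) :=
    Cfsg.Agent.Lib.Lead.PLength.le_of_isPGroup_of_index_coprime hi hT.comap_subtype
  intro x hx
  exact ⟨⟨x, hTD hx⟩, h1 (Subgroup.mem_subgroupOf.mpr hx), rfl⟩

end Tg

end Cfsg.Agent.Lib.Helper3.T37
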