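import Mathlib
import Cfsg.Agent.Lib.Helper3.BG12b
import Cfsg.Agent.Lib.Helper3.T37r1
import Cfsg.Agent.Lib.Helper1.BG7c

/-!
# B&G Lemma 12.3, the exceptional case, and the full lemma
-/

set_option autoImplicit false
universe u
open scoped commutatorElement Pointwise

namespace Cfsg.Agent.Lib.Helper3.BG12

open Cfsg Subgroup Cfsg.Agent.Lib.Helper1 Cfsg.Agent.Lib.Helper1.BG7

variable {G : Type u} [Group G]

/-- Hypothesis 11.1 of B&G: `M` is an exceptional maximal subgroup with respect to `p, A₀, A` -/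
def Exc (M : Subgroup G) (p : ℕ) (A₀ A : Subgroup G) : Prop :=
  IsCoatom M ∧ p ∉ sigma M ∧ A ≤ M ∧ IsElementaryAbelian p A ∧ Nat.card A = p ^ 2 ∧ A₀ ≤ A ∧
    Nat.card A₀ = p ∧ normalizer (A₀ : Set G) ≤ M

/-- what Section 12 needs from Section 11 (B&G Theorems 11.3 and 11.7) -/
def Sec11 (G : Type u) [Group G] : Prop :=
  ∀ (M : Subgroup G) (p : ℕ) [Fact p.Prime] (A₀ A : Subgroup G), Exc M p A₀ A →
    Group.IsNilpotent (sigmaCore M) ∧ M ≤ normalizer ((sigmaCore M ⊔ A : Subgroup G) : Set G)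

/-- a Hall subgroup of a nilpotent group is normalized by everything normalizing the group -/
theorem le_normalizer_of_hall_nilpotent [Finite G] {T H K : Subgroup G} (hT : Group.IsNilpotent ↥T)
    (hHT : H ≤ T) (hKT : K ≤ normalizer (T : Set G))
    (hcop : (Nat.card H).Coprime (H.relIndex T)) : K ≤ normalizer (H : Set G) := by
  intro k hk
  apply T37.mem_normalizer_of_cj_le
  refine Cfsg.Agent.Lib.Helper7.BGB.hall_nilpotent_le hT hHT ?_ hcop (by rw [card_cj])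
  have h1 : cj k T = T := T37.cj_of_mem_normalizer (hKT hk)
  rw [← h1]
  exact cj_mono hHT

theorem isMaxP_top_of_not_dvd_index [Finite G] {q : ℕ} [hq : Fact q.Prime] {Q : Subgroup G}
    (hQ : IsPGroup q Q) (hidx : ¬ q ∣ Q.index) : BG8.IsMaxP q Q ⊤ :=
  ⟨le_top, hQ, fun T hT hQT _ => (hQ.toSylow hidx).is_maximal' hT hQT⟩

theorem coprime_of_isMaxP_top [Finite G] {q : ℕ} [hq : Fact q.Prime] {Q T : Subgroup G}
    (hQ : BG8.IsMaxP q Q ⊤) (hQT : Q ≤ T) : (Nat.card Q).Coprime (Q.relIndex T) := by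
  obtain ⟨n, hn⟩ := IsPGroup.iff_card.mp hQ.2.1
  rw [hn]
  apply Nat.Coprime.pow_left
  rw [Nat.Prime.coprime_iff_not_dvd hq.out]
  intro h
  apply hQ.not_dvd_index
  rw [← Subgroup.relIndex_mul_index hQT]
  exact h.mul_right _

/-- **B&G Lemma 12.3, case `p ∉ σ(L)`** (then `L` is exceptional), for a normal Hall subgroup `N` of
`M` and of `G` with `π(N) ⊆ σ(M) - {p}`. -/
theorem l123_exc [Finite G] (hG : IsMinSimpleOddOrder G) {M L : Subgroup G}
    (hM : IsCoatom M) (hLM : L ≠ M) {p : ℕ} [hp : Fact p.Prime]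
    {A₀ A : Subgroup G} (hAM : A ≤ M) (hExc : Exc L p A₀ A)
    (hnilL : Group.IsNilpotent (sigmaCore L))
    (hnormL : L ≤ normalizer ((sigmaCore L ⊔ A : Subgroup G) : Set G))
    {N : Subgroup G} (hNM : N ≤ M) (hMN : M ≤ normalizer (N : Set G))
    (hNσ : ∀ q : ℕ, q.Prime → q ∣ Nat.card N → q ∈ sigma M ∧ q ≠ p)
    (hNidx : ∀ q : ℕ, q.Prime → q ∣ Nat.card N → ¬ q ∣ N.index) :
    ⁅N ⊓ L, A⁆ = ⊥ := by
  have hp' := hp.out
  obtain ⟨hL, hpL, hAL, hAe, hA2, hA₀A, hA₀, hNA₀⟩ := hExc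
  have hAp : IsPGroup p A := BG9.isPGroup_of_isElementaryAbelian hAe
  obtain ⟨D, hD⟩ : ∃ D, D = N ⊓ L := ⟨_, rfl⟩
  rw [← hD]
  have hAD : A ≤ normalizer (D : Set G) := by
    rw [hD]
    exact Helper1.le_normalizer_inf (hAM.trans hMN) (hAL.trans Subgroup.le_normalizer)
  have hDN : D ≤ N := hD ▸ inf_le_left
  have hDL : D ≤ L := hD ▸ inf_le_right
  have hpN : ¬ p ∣ Nat.card N := fun h => (hNσ p hp' h).2 rfl
  have hcopN : (Nat.card A).Coprime (Nat.card N) := by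
    rw [hA2]
    apply Nat.Coprime.pow_left
    exact (Nat.Prime.coprime_iff_not_dvd hp').mpr hpN
  have hcop : (Nat.card A).Coprime (Nat.card D) :=
    Nat.Coprime.coprime_dvd_right (Subgroup.card_dvd_of_le hDN) hcopN
  haveI hLs : Group.IsSolvable ↥L := hG.2.2.2 L hL.1
  haveI hMs : Group.IsSolvable ↥M := hG.2.2.2 M hM.1
  haveI hDs : Group.IsSolvable ↥D := Helper1.isSolvable_of_le hDL
  haveI hNs : Group.IsSolvable ↥N := Helper1.isSolvable_of_le hNM
  obtain ⟨X, hX⟩ : ∃ X, X = ⁅D, A⁆ := ⟨_, rfl⟩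
  rw [← hX]
  have hXX : ⁅X, A⁆ = X := by
    rw [hX]; exact Helper1.coprime_commutator_commutator A D hAD hcop (Or.inr hDs)
  have hXD : X ≤ D := hX ▸ BG8.commutator_le_of_le_normalizer hAD
  have hAnL : A ≤ normalizer (sigmaCore L : Set G) := hAL.trans (le_normalizer_sigmaCore L)
  have hXLσ : X ≤ sigmaCore L := by
    have h1 : X ≤ sigmaCore L ⊔ A := by
      rw [hX]
      refine (Subgroup.commutator_mono hDL (le_sup_right : A ≤ sigmaCore L ⊔ A)).trans ?_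
      rw [Subgroup.commutator_comm]
      exact BG8.commutator_le_of_le_normalizer hnormL
    have h2 : ⁅sigmaCore L ⊔ A, A⁆ ≤ sigmaCore L := by
      rw [Subgroup.commutator_le]
      intro g hg b hb
      obtain ⟨s, hs, a, ha, rfl⟩ := T37.mem_sup_of_normalizes hAnL hg
      have hab : a * b = b * a := by
        have := BG9.le_centralizer_of_isElementaryAbelian hAe le_rfl ha
        exact (Subgroup.mem_centralizer_iff.mp this b hb).symm
      have e : ⁅s * a, b⁆ = s * (b * s⁻¹ * b⁻¹) := by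
        rw [commutatorElement_def]
        have : s * a * b * (s * a)⁻¹ * b⁻¹ = s * (a * b) * a⁻¹ * s⁻¹ * b⁻¹ := by group
        rw [this, hab]; group
      rw [e]
      exact Subgroup.mul_mem _ hs
        ((Subgroup.mem_normalizer_iff.mp (hAnL hb) s⁻¹).mp (Subgroup.inv_mem _ hs))
    calc X = ⁅X, A⁆ := hXX.symm
      _ ≤ ⁅sigmaCore L ⊔ A, A⁆ := Subgroup.commutator_mono h1 le_rfl
      _ ≤ sigmaCore L := h2
  by_contra hXbot
  have hXcard : Nat.card X ≠ 1 := fun h => hXbot (Subgroup.card_eq_one.mp h)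
  obtain ⟨q, hq, hqX⟩ := Nat.exists_prime_and_dvd hXcard
  haveI : Fact q.Prime := ⟨hq⟩
  have hqN : q ∣ Nat.card N := hqX.trans (Subgroup.card_dvd_of_le (hXD.trans hDN))
  obtain ⟨hqσM, hqp⟩ := hNσ q hq hqN
  obtain ⟨hHallL, -, -⟩ := Cfsg.Agent.Lib.Helper7.BGA.s1350 hG L hL
  have hqσL : q ∈ sigma L := hHallL.2.1 q hq (hqX.trans (Subgroup.card_dvd_of_le hXLσ))
  obtain ⟨y, hy⟩ := exists_prime_orderOf_dvd_card' (G := ↥X) q hqX
  have hyo : orderOf (y : G) = q := by rw [Subgroup.orderOf_coe]; exact hy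
  have hy1 : (y : G) ≠ 1 := by
    intro h
    rw [h, orderOf_one] at hyo
    exact hq.one_lt.ne hyo
  have hyp : IsPGroup q (Subgroup.zpowers (y : G)) := by
    apply IsPGroup.of_card (n := 1)
    rw [Nat.card_zpowers, hyo, pow_one]
  have hyL : Subgroup.zpowers (y : G) ≤ L := by
    rw [Subgroup.zpowers_le]; exact hDL (hXD y.2)
  -- the Sylow `q`-subgroup of `L_σ`
  obtain ⟨QL, hQL, hyQL⟩ := BT.exists_isMaxP_ge hyp hyL
  obtain ⟨-, hQLtop, hNQL⟩ := BT.sigma_sylow_le_commutator hG hL hqσL hQL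
  have hQLσ : QL ≤ sigmaCore L := le_sigmaCore_of_isPGroup hG hL hqσL hQL.1 hQL.2.1
  have hLQL : L ≤ normalizer (QL : Set G) :=
    le_normalizer_of_hall_nilpotent hnilL hQLσ (le_normalizer_sigmaCore L)
      (coprime_of_isMaxP_top hQLtop hQLσ)
  -- an `A`-invariant Sylow `q`-subgroup of `N`
  obtain ⟨P, hPA⟩ := Helper1.coprime_exists_invariant_sylow A N (hAM.trans hMN) hcopN
    (Or.inr hNs) q
  obtain ⟨QM, hQMdef⟩ : ∃ QM, QM = (P : Subgroup ↥N).map N.subtype := ⟨_, rfl⟩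
  rw [← hQMdef] at hPA
  have hQMN : QM ≤ N := hQMdef ▸ Subgroup.map_subtype_le _
  have hQMp : IsPGroup q QM := hQMdef ▸ P.isPGroup'.map _
  have hQMidx : ¬ q ∣ QM.index := by
    rw [hQMdef, Subgroup.index_map_subtype]
    intro h
    rcases (Nat.Prime.dvd_mul hq).mp h with h1 | h1
    · exact P.not_dvd_index h1
    · exact hNidx q hq hqN h1
  have hQMtop : BG8.IsMaxP q QM ⊤ := isMaxP_top_of_not_dvd_index hQMp hQMidx
  have hQM1 : QM ≠ ⊥ := by
    intro h
    rw [h, Subgroup.index_bot] at hQMidx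
    exact hQMidx (hqN.trans (Subgroup.card_subgroup_dvd_card N))
  -- transitivity hypothesis for `A`
  have hr1 : ¬ PRankLE p 1 ↥L := BG9.not_pRankLE_of_elementary hp' hAL hAe (by rw [hA2])
  have hr2 : PRankLE p 2 ↥L := by
    by_contra h
    exact hpL (BT.alpha_subset_sigma hG hL ⟨hp', h⟩)
  obtain ⟨-, hmaxA⟩ := BT.s1408 hG hL hr2 hr1
  have hAmax := hmaxA A hAL hAe hA2
  have hAbot : A ≠ ⊥ := ne_bot_of_card_sq hp' hA2
  have hTH := th_of_max hG hAe hAbot hAmax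
  have hqA : ¬ q ∣ Nat.card A := by
    rw [hA2]
    intro h
    exact hqp ((Nat.prime_dvd_prime_iff_eq hq hp').mp (hq.dvd_of_dvd_pow h))
  have hQLmax : QL ∈ maxInvSubgroups ⊤ A {q} :=
    ⟨BG7.mem_invSubgroups_top_of_isPGroup hq hQLtop.2.1 (hAL.trans hLQL),
      fun R hR hQR => hQLtop.2.2 R (BG7.isPGroup_of_mem_invSubgroups hq hR) hQR le_top⟩
  have hQMmax : QM ∈ maxInvSubgroups ⊤ A {q} :=
    ⟨BG7.mem_invSubgroups_top_of_isPGroup hq hQMp hPA,
      fun R hR hQR => hQMtop.2.2 R (BG7.isPGroup_of_mem_invSubgroups hq hR) hQR le_top⟩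
  have hMQL : M ⊓ QL ≠ ⊥ := by
    intro h
    have : (y : G) ∈ M ⊓ QL :=
      Subgroup.mem_inf.mpr ⟨hNM (hDN (hXD y.2)), hyQL (Subgroup.mem_zpowers _)⟩
    rw [h, Subgroup.mem_bot] at this
    exact hy1 this
  have hMQM : M ⊓ QM ≠ ⊥ := by
    rw [inf_eq_right.mpr (hQMN.trans hNM)]; exact hQM1
  obtain ⟨k, hk, hkQ⟩ := BG7.t72 hG hTH hq hqA hQLmax hQMmax hM.1 hAM hMQL hMQM
  have hkL : k ∈ L := by
    apply hNA₀
    apply Subgroup.centralizer_le_normalizer
    exact Subgroup.centralizer_le hA₀A (BG7.KK_le_centralizer A hk)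
  have hQeq : QM = QL := by
    rw [hkQ]; exact T37.cj_of_mem_normalizer (hLQL hkL)
  have hNQM : normalizer (QM : Set G) ≤ M :=
    (BT.sigma_sylow_le_commutator hG hM hqσM (hQMtop.mono (hQMN.trans hNM) le_top)).2.2
  have hLleM : L ≤ M := by
    rw [← hQeq] at hLQL
    exact hLQL.trans hNQM
  exact hLM (BG8.eq_of_coatom_le hL hLleM hM.1).symm

end Cfsg.Agent.Lib.Helper3.BG12
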