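import Mathlib
import Cfsg.Agent.Lib.Helper3.BG12c
import Cfsg.Agent.S1405
import Cfsg.Agent.Lib.Helper1.CoprimeGenCentralizers

/-!
# B&G Lemma 12.3 and Proposition 12.4 (statement S1416), modulo Section 11
-/

set_option autoImplicit false
universe u
open scoped commutatorElement Pointwise

namespace Cfsg.Agent.Lib.Helper3.BG12

open Cfsg Subgroup Cfsg.Agent.Lib.Helper1 Cfsg.Agent.Lib.Helper1.BG7

variable {G : Type u} [Group G]

/-- **B&G Lemma 12.3**, modulo Section 11. -/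
theorem l123 [Finite G] (hG : IsMinSimpleOddOrder G) (h11 : Sec11 G) {M L : Subgroup G}
    (hM : IsCoatom M) (hL : IsCoatom L) (hLM : L ≠ M) {p : ℕ} [hp : Fact p.Prime]
    {A₀ A : Subgroup G} (hAM : A ≤ M) (hAe : IsElementaryAbelian p A) (hA2 : Nat.card A = p ^ 2)
    (hA₀A : A₀ ≤ A) (hA₀ : Nat.card A₀ = p) (hNA₀ : normalizer (A₀ : Set G) ≤ L) :
    (p ∉ sigma M → ⁅sigmaCore M ⊓ L, A⁆ = ⊥) ∧ (p ∉ alpha M → ⁅alphaCore M ⊓ L, A⁆ = ⊥) := by
  have hp' := hp.out
  have hAp : IsPGroup p A := BG9.isPGroup_of_isElementaryAbelian hAe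
  have hAL : A ≤ L := by
    refine le_trans ?_ hNA₀
    refine le_trans ?_ (Subgroup.centralizer_le_normalizer _)
    exact BG9.le_centralizer_of_isElementaryAbelian hAe hA₀A |> BG9.le_centralizer_symm
  -- the general statement for a normal Hall subgroup `N`
  have key : ∀ N : Subgroup G, N ≤ M → M ≤ normalizer (N : Set G) →
      (∀ q : ℕ, q.Prime → q ∣ Nat.card N → q ∈ sigma M ∧ q ≠ p) →
      (∀ q : ℕ, q.Prime → q ∣ Nat.card N → ¬ q ∣ N.index) → ⁅N ⊓ L, A⁆ = ⊥ := by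
    intro N hNM hMN hNσ hNidx
    by_cases hpL : p ∈ sigma L
    · exact l123_sigma hG hM hL hLM hAM hAL hAp hpL hNM hMN hNσ
    · have hExc : Exc L p A₀ A := ⟨hL, hpL, hAL, hAe, hA2, hA₀A, hA₀, hNA₀⟩
      obtain ⟨hnil, hnorm⟩ := h11 L p A₀ A hExc
      exact l123_exc hG hM hLM hAM hExc hnil hnorm hNM hMN hNσ hNidx
  constructor
  · intro hpσ
    obtain ⟨hHallM, hHallG, -⟩ := Cfsg.Agent.Lib.Helper7.BGA.s1350 hG M hM
    apply key _ (sigmaCore_le M) (le_normalizer_sigmaCore M)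
    · intro q hq hqd
      have h1 := hHallM.2.1 q hq hqd
      exact ⟨h1, fun h => hpσ (h ▸ h1)⟩
    · intro q hq hqd
      exact hHallG.2 q hq (hHallM.2.1 q hq hqd)
  · intro hpα
    obtain ⟨hHallM, hHallG, -, -, -⟩ := Cfsg.Agent.S1405.result hG M hM
    apply key _ (alphaCore_le M) (le_normalizer_alphaCore M)
    · intro q hq hqd
      have h1 := hHallM.2.1 q hq hqd
      exact ⟨BT.alpha_subset_sigma hG hM h1, fun h => hpα (h ▸ h1)⟩
    · intro q hq hqd
      exact hHallG.2 q hq (hHallM.2.1 q hq hqd)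

/-- if `A` centralizes `C_K(a)` for all `1 ≠ a ∈ A` (coprime action of a noncyclic abelian group), then
`A` centralizes `K` -/
theorem le_centralizer_of_forall_centralizer [Finite G] {A K : Subgroup G} (hAc : IsMulCommutative A)
    (hA : ¬ IsCyclic A) (hAK : A ≤ normalizer (K : Set G))
    (hcop : (Nat.card A).Coprime (Nat.card K))
    (h : ∀ a ∈ A, a ≠ 1 → ⁅K ⊓ centralizer ({a} : Set G), A⁆ = ⊥) :
    A ≤ centralizer (K : Set G) := by
  haveI := hAc
  have hgen := Helper1.coprime_generated_by_centralizers A K hA hAK hcop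
  apply BG9.le_centralizer_symm
  rw [← hgen]
  apply iSup_le
  intro a
  apply iSup_le
  intro ha
  exact Subgroup.commutator_eq_bot_iff_le_centralizer.mp (h a ha.1 ha.2)

theorem isMaxP_ne_bot [Finite G] {p : ℕ} [hp : Fact p.Prime] {M S : Subgroup G}
    (hS : BG8.IsMaxP p S M) (hpM : p ∣ Nat.card M) : S ≠ ⊥ := by
  obtain ⟨R, hR⟩ := hS.exists_sylow
  intro h
  rw [← hR] at h
  exact R.ne_bot_of_dvd_card hpM ((Subgroup.map_eq_bot_iff_of_injective _ M.subtype_injective).mp h)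

theorem card_zpowers_of_pow_eq_one {p : ℕ} (hp : p.Prime) {a : G} (hap : a ^ p = 1) (ha : a ≠ 1) :
    Nat.card (Subgroup.zpowers a) = p := by
  rw [Nat.card_zpowers]
  rcases (Nat.dvd_prime hp).mp (orderOf_dvd_of_pow_eq_one hap) with h | h
  · exact absurd (orderOf_eq_one_iff.mp h) ha
  · exact h

/-- the hypothesis of 12.4(b) is violated by `A₀` as soon as `C_G(A₀)` contains a subgroup `U ≤ M` lying in a
unique maximal subgroup -/
theorem viol [Finite G] (hG : IsMinSimpleOddOrder G) {M : Subgroup G} (hM : IsCoatom M) {p : ℕ}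
    [hp : Fact p.Prime] {A₀ U : Subgroup G} (hA₀ : Nat.card A₀ = p) (hU : InUniqueMaximal U)
    (hUM : U ≤ M) (hUC : U ≤ centralizer (A₀ : Set G)) :
    normalizer (A₀ : Set G) ≤ M ∧
      ∀ L : Subgroup G, IsCoatom L → normalizer (A₀ : Set G) ≤ L → L = M := by
  obtain ⟨M₁, -, hu⟩ := hU
  have hMM₁ : M = M₁ := hu M ⟨hM, hUM⟩
  have huniq : ∀ L : Subgroup G, IsCoatom L → normalizer (A₀ : Set G) ≤ L → L = M := by
    intro L hL hNL
    rw [hMM₁]
    exact hu L ⟨hL, hUC.trans ((Subgroup.centralizer_le_normalizer _).trans hNL)⟩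
  refine ⟨?_, huniq⟩
  have hA₀p : IsPGroup p A₀ := IsPGroup.of_card (n := 1) (by rw [hA₀, pow_one])
  have hA₀bot : A₀ ≠ ⊥ := by
    intro h
    rw [h, Subgroup.card_bot] at hA₀
    exact hp.out.one_lt.ne hA₀
  have hNtop := BG7.normalizer_ne_top hG hA₀bot (BG7.pgroup_ne_top hG hA₀p)
  obtain ⟨L, hL, hNL⟩ := (eq_top_or_exists_le_coatom _).resolve_left hNtop
  rw [← huniq L hL hNL]
  exact hNL

theorem inUniqueMaximal_of_centralizes_alphaCore [Finite G] (hG : IsMinSimpleOddOrder G)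
    {M : Subgroup G} (hM : IsCoatom M) {A : Subgroup G} (hAM : A ≤ M)
    (hXα : ∀ r : ℕ, r.Prime → r ∣ Nat.card A → r ∉ alpha M)
    (hAα : A ≤ centralizer (alphaCore M : Set G)) {q₁ : ℕ} (hq₁ : q₁ ∈ alpha M) :
    InUniqueMaximal (M ⊓ centralizer (A : Set G)) := by
  haveI : Fact q₁.Prime := ⟨hq₁.1⟩
  obtain ⟨E, hEM, hEe, hE3⟩ := BG9.exists_elementary_of_not_pRankLE hq₁.1 hq₁.2
  have hEα : E ≤ alphaCore M :=
    le_alphaCore_of_isPGroup hG hM hq₁ hEM (BG9.isPGroup_of_isElementaryAbelian hEe)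
  have hr : ¬ RankLE 1 ↥(alphaCore M ⊓ centralizer (A : Set G)) :=
    BG9.not_rankLE_of_elementary' hq₁.1
      (le_inf hEα (hEα.trans (BG9.le_centralizer_symm hAα))) hEe
      (le_trans (Nat.pow_le_pow_right hq₁.1.pos (by norm_num)) hE3)
  exact BT.s1406 hG hM hAM hXα hr

/-- under the hypothesis of 12.4(b), `p ∉ α(M)` -/
theorem not_mem_alpha_of_nonuniq [Finite G] (hG : IsMinSimpleOddOrder G) {M : Subgroup G}
    (hM : IsCoatom M) {p : ℕ} [hp : Fact p.Prime] {A : Subgroup G} (hAM : A ≤ M)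
    (hAe : IsElementaryAbelian p A) (hA2 : Nat.card A = p ^ 2)
    (hall : ∀ A₀ : Subgroup G, A₀ ≤ A → Nat.card A₀ = p →
      ¬ (normalizer (A₀ : Set G) ≤ M ∧
        ∀ L : Subgroup G, IsCoatom L → normalizer (A₀ : Set G) ≤ L → L = M)) :
    p ∉ alpha M := by
  have hp' := hp.out
  intro hpα
  have hAp : IsPGroup p A := BG9.isPGroup_of_isElementaryAbelian hAe
  obtain ⟨P, hP, hAP⟩ := BT.exists_isMaxP_ge hAp hAM
  obtain ⟨E, hEM, hEe, hE3⟩ := BG9.exists_elementary_of_not_pRankLE hp' hpα.2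
  obtain ⟨m, hm, hEm⟩ := BT.exists_cj_ge hP (BG9.isPGroup_of_isElementaryAbelian hEe) hEM
  obtain ⟨E', hE'⟩ : ∃ E', E' = cj m⁻¹ E := ⟨_, rfl⟩
  have hE'P : E' ≤ P := by
    have := cj_mono (k := m⁻¹) hEm
    rw [cj_inv_cj] at this
    rw [hE']; exact this
  have hE'e : IsElementaryAbelian p E' := hE' ▸ BG9.isElementaryAbelian_cj m⁻¹ hEe
  have hE'3 : p ^ (2 + 1) ≤ Nat.card E' := by rw [hE', card_cj]; exact hE3
  have hE'U := BT.inUniqueMaximal_of_elementary_cube hG hp' hE'e hE'3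
  have hAbot : A ≠ ⊥ := ne_bot_of_card_sq hp' hA2
  have hPbot : P ≠ ⊥ := fun h => hAbot (le_bot_iff.mp (h ▸ hAP))
  obtain ⟨z, hzmem, hz1⟩ : ∃ z : G, z ∈ BT.omegaZ p P ∧ z ≠ 1 := by
    have := BT.omegaZ_ne_bot hP.2.1 hPbot
    obtain ⟨z, hz⟩ := (Subgroup.ne_bot_iff_exists_ne_one (H := BT.omegaZ p P)).mp this
    exact ⟨z.1, z.2, fun h => hz (Subtype.ext h)⟩
  obtain ⟨hzP, hzC, hzp⟩ := BT.mem_omegaZ.mp hzmem
  by_cases hzA : z ∈ A
  · refine hall (Subgroup.zpowers z) (by rw [Subgroup.zpowers_le]; exact hzA)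
      (card_zpowers_of_pow_eq_one hp' hzp hz1) ?_
    apply viol hG hM (card_zpowers_of_pow_eq_one hp' hzp hz1) hE'U (hE'P.trans hP.1)
    rw [BT.centralizer_zpowers_eq]
    intro e he
    rw [Subgroup.mem_centralizer_singleton_iff]
    exact (Subgroup.mem_centralizer_iff.mp hzC e (hE'P he))
  · have hzCA : z ∈ centralizer (A : Set G) := Subgroup.centralizer_le hAP hzC
    obtain ⟨hBe, hBc⟩ := BT.elementary_sup_zpowers hAe hzCA hzp hzA
    have hB3 : p ^ (2 + 1) ≤ Nat.card (A ⊔ Subgroup.zpowers z : Subgroup G) := by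
      rw [hBc, hA2]; exact le_of_eq (by ring)
    have hBU := BT.inUniqueMaximal_of_elementary_cube hG hp' hBe hB3
    have hBM : A ⊔ Subgroup.zpowers z ≤ M :=
      sup_le hAM ((Subgroup.zpowers_le.mpr hzP).trans hP.1)
    have hpA : p ∣ Nat.card A := by rw [hA2]; exact dvd_pow_self p (by norm_num)
    obtain ⟨a, ha⟩ := exists_prime_orderOf_dvd_card' (G := ↥A) p hpA
    have hao : orderOf (a : G) = p := by rw [Subgroup.orderOf_coe]; exact ha
    have ha1 : (a : G) ≠ 1 := by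
      intro h
      rw [h, orderOf_one] at hao
      exact hp'.one_lt.ne hao
    have hap : (a : G) ^ p = 1 := by rw [← hao]; exact pow_orderOf_eq_one _
    have hA₀A : Subgroup.zpowers (a : G) ≤ A := by rw [Subgroup.zpowers_le]; exact a.2
    refine hall (Subgroup.zpowers (a : G)) hA₀A (card_zpowers_of_pow_eq_one hp' hap ha1) ?_
    apply viol hG hM (card_zpowers_of_pow_eq_one hp' hap ha1) hBU hBM
    exact BG9.le_centralizer_symm
      (BG9.le_centralizer_of_isElementaryAbelian hBe (hA₀A.trans le_sup_left))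

/-- **B&G Proposition 12.4** (statement S1416), modulo Section 11. -/
theorem p124 [Finite G] (hG : IsMinSimpleOddOrder G) (h11 : Sec11 G) {M : Subgroup G}
    (hM : IsCoatom M) {p : ℕ} [hp : Fact p.Prime] {A : Subgroup G} (hAM : A ≤ M)
    (hAe : IsElementaryAbelian p A) (hA2 : Nat.card A = p ^ 2) :
    centralizer (A : Set G) ≤ M ∧
      ((∀ A₀ : Subgroup G, A₀ ≤ A → Nat.card A₀ = p →
          ¬ (normalizer (A₀ : Set G) ≤ M ∧
            ∀ L : Subgroup G, IsCoatom L → normalizer (A₀ : Set G) ≤ L → L = M)) →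
        p ∈ sigma M ∧ alphaCore M = ⊥ ∧ Group.IsNilpotent (sigmaCore M)) := by
  have hp' := hp.out
  by_cases hex : ∃ A₀ : Subgroup G, A₀ ≤ A ∧ Nat.card A₀ = p ∧ (normalizer (A₀ : Set G) ≤ M ∧
      ∀ L : Subgroup G, IsCoatom L → normalizer (A₀ : Set G) ≤ L → L = M)
  · obtain ⟨A₀, hA₀A, hA₀, hN, hu⟩ := hex
    refine ⟨?_, fun h => absurd ⟨hN, hu⟩ (h A₀ hA₀A hA₀)⟩
    exact (Subgroup.centralizer_le hA₀A).trans ((Subgroup.centralizer_le_normalizer _).trans hN)
  have hall : ∀ A₀ : Subgroup G, A₀ ≤ A → Nat.card A₀ = p →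
      ¬ (normalizer (A₀ : Set G) ≤ M ∧
        ∀ L : Subgroup G, IsCoatom L → normalizer (A₀ : Set G) ≤ L → L = M) :=
    fun A₀ h1 h2 h3 => hex ⟨A₀, h1, h2, h3⟩
  suffices hmain : p ∈ sigma M ∧ alphaCore M = ⊥ ∧ Group.IsNilpotent (sigmaCore M) ∧
      centralizer (A : Set G) ≤ M from
    ⟨hmain.2.2.2, fun _ => ⟨hmain.1, hmain.2.1, hmain.2.2.1⟩⟩
  have hAp : IsPGroup p A := BG9.isPGroup_of_isElementaryAbelian hAe
  have hAbot : A ≠ ⊥ := ne_bot_of_card_sq hp' hA2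
  have hAnc : ¬ IsCyclic ↥A := BG9.not_isCyclic_of_elementary hp' le_rfl hAe (by rw [hA2])
  -- for every `A₀` a maximal subgroup `L ≠ M` over `N(A₀)`
  have hLex : ∀ A₀ : Subgroup G, A₀ ≤ A → Nat.card A₀ = p →
      ∃ L : Subgroup G, IsCoatom L ∧ L ≠ M ∧ normalizer (A₀ : Set G) ≤ L := by
    intro A₀ hA₀A hA₀
    have hA₀p : IsPGroup p A₀ := IsPGroup.of_card (n := 1) (by rw [hA₀, pow_one])
    have hA₀bot : A₀ ≠ ⊥ := by
      intro h
      rw [h, Subgroup.card_bot] at hA₀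
      exact hp'.one_lt.ne hA₀
    have hNtop := BG7.normalizer_ne_top hG hA₀bot (BG7.pgroup_ne_top hG hA₀p)
    obtain ⟨L₀, hL₀, hNL₀⟩ := (eq_top_or_exists_le_coatom _).resolve_left hNtop
    by_cases hNM : normalizer (A₀ : Set G) ≤ M
    · have := hall A₀ hA₀A hA₀
      rw [not_and] at this
      have h2 := this hNM
      push Not at h2
      obtain ⟨L, hL, hNL, hLM⟩ := h2
      exact ⟨L, hL, hLM, hNL⟩
    · exact ⟨L₀, hL₀, fun h => hNM (h ▸ hNL₀), hNL₀⟩
  -- the commutator statement for a single element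
  have hsingle : ∀ a ∈ A, a ≠ 1 →
      (p ∉ sigma M → ⁅sigmaCore M ⊓ centralizer ({a} : Set G), A⁆ = ⊥) ∧
      (p ∉ alpha M → ⁅alphaCore M ⊓ centralizer ({a} : Set G), A⁆ = ⊥) := by
    intro a ha ha1
    have hap : a ^ p = 1 := hAe.2 a ha
    have hA₀A : Subgroup.zpowers a ≤ A := by rw [Subgroup.zpowers_le]; exact ha
    have hA₀ := card_zpowers_of_pow_eq_one hp' hap ha1
    obtain ⟨L, hL, hLM, hNL⟩ := hLex _ hA₀A hA₀
    obtain ⟨h1, h2⟩ := l123 hG h11 hM hL hLM hAM hAe hA2 hA₀A hA₀ hNL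
    have hCL : centralizer ({a} : Set G) ≤ L := by
      rw [← BT.centralizer_zpowers_eq]
      exact (Subgroup.centralizer_le_normalizer _).trans hNL
    constructor
    · intro hpσ
      have := h1 hpσ
      rw [eq_bot_iff] at this ⊢
      exact (Subgroup.commutator_mono (inf_le_inf_left _ hCL) le_rfl).trans this
    · intro hpα
      have := h2 hpα
      rw [eq_bot_iff] at this ⊢
      exact (Subgroup.commutator_mono (inf_le_inf_left _ hCL) le_rfl).trans this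
  have hpα : p ∉ alpha M := not_mem_alpha_of_nonuniq hG hM hAM hAe hA2 hall
  have hr2 : PRankLE p 2 ↥M := by
    by_contra h
    exact hpα ⟨hp', h⟩
  -- an element of order `p` in `A`
  have hpA : p ∣ Nat.card A := by rw [hA2]; exact dvd_pow_self p (by norm_num)
  obtain ⟨a₁, ha₁⟩ := exists_prime_orderOf_dvd_card' (G := ↥A) p hpA
  have ha₁o : orderOf (a₁ : G) = p := by rw [Subgroup.orderOf_coe]; exact ha₁
  have ha₁1 : (a₁ : G) ≠ 1 := by
    intro h
    rw [h, orderOf_one] at ha₁o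
    exact hp'.one_lt.ne ha₁o
  have ha₁p : (a₁ : G) ^ p = 1 := by rw [← ha₁o]; exact pow_orderOf_eq_one _
  have hA₁A : Subgroup.zpowers (a₁ : G) ≤ A := by rw [Subgroup.zpowers_le]; exact a₁.2
  by_cases hpσ : p ∈ sigma M
  · obtain ⟨hHallM, -, -, -, -⟩ := Cfsg.Agent.S1405.result hG M hM
    have hcopα : (Nat.card A).Coprime (Nat.card (alphaCore M)) := by
      rw [hA2]
      apply Nat.Coprime.pow_left
      rw [Nat.Prime.coprime_iff_not_dvd hp']
      intro h
      exact hpα (hHallM.2.1 p hp' h)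
    have hAα : A ≤ centralizer (alphaCore M : Set G) :=
      le_centralizer_of_forall_centralizer hAe.1 hAnc (hAM.trans (le_normalizer_alphaCore M)) hcopα
        (fun a ha ha1 => (hsingle a ha ha1).2 hpα)
    have hXα : ∀ r : ℕ, r.Prime → r ∣ Nat.card A → r ∉ alpha M := by
      intro r hr hrd hrα
      rw [hA2] at hrd
      have h1 := (Nat.prime_dvd_prime_iff_eq hr hp').mp (hr.dvd_of_dvd_pow hrd)
      subst h1
      exact hpα hrα
    have hαempty : ¬ ∃ q, q ∈ alpha M := by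
      rintro ⟨q₁, hq₁⟩
      have hU := inUniqueMaximal_of_centralizes_alphaCore hG hM hAM hXα hAα hq₁
      refine hall _ hA₁A (card_zpowers_of_pow_eq_one hp' ha₁p ha₁1) ?_
      apply viol hG hM (card_zpowers_of_pow_eq_one hp' ha₁p ha₁1) hU inf_le_left
      exact inf_le_right.trans (Subgroup.centralizer_le hA₁A)
    have hαbot : alphaCore M = ⊥ := by
      by_contra h
      have hc : Nat.card (alphaCore M) ≠ 1 := fun h1 => h (Subgroup.card_eq_one.mp h1)
      obtain ⟨q, hq, hqd⟩ := Nat.exists_prime_and_dvd hc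
      exact hαempty ⟨q, hHallM.2.1 q hq hqd⟩
    have hnilM' := commutator_nilpotent_of_alpha_empty hG hM hαempty
    have hnil : Group.IsNilpotent ↥(sigmaCore M) :=
      Helper1.isNilpotent_of_le (Cfsg.Agent.Lib.Helper7.BGC.sigmaCore_le_commutator hG hM) hnilM'
    refine ⟨hpσ, hαbot, hnil, ?_⟩
    -- `C_G(A) ≤ M`
    obtain ⟨P, hP, hAP⟩ := BT.exists_isMaxP_ge hAp hAM
    obtain ⟨-, hPtop, -⟩ := BT.sigma_sylow_le_commutator hG hM hpσ hP
    have hPσ : P ≤ sigmaCore M := le_sigmaCore_of_isPGroup hG hM hpσ hP.1 hP.2.1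
    have hMP : M ≤ normalizer (P : Set G) :=
      le_normalizer_of_hall_nilpotent hnil hPσ (le_normalizer_sigmaCore M)
        (coprime_of_isMaxP_top hPtop hPσ)
    have hPbot : P ≠ ⊥ := fun h => hAbot (le_bot_iff.mp (h ▸ hAP))
    have hZbot := BT.omegaZ_ne_bot hP.2.1 hPbot
    have hZM : BT.omegaZ p P ≤ M := (BT.omegaZ_le p P).trans hP.1
    have hCZ := BG8.centralizer_le_of_coatom hG hM hZM hZbot
      (hMP.trans (BT.normalizer_le_normalizer_omegaZ p P))
    have hZA : BT.omegaZ p P ≤ A := by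
      intro z hz
      obtain ⟨hzP, hzC, hzp⟩ := BT.mem_omegaZ.mp hz
      by_contra hzA
      have hzCA : z ∈ centralizer (A : Set G) := Subgroup.centralizer_le hAP hzC
      obtain ⟨hBe, hBc⟩ := BT.elementary_sup_zpowers hAe hzCA hzp hzA
      have hB3 : p ^ (2 + 1) ≤ Nat.card (A ⊔ Subgroup.zpowers z : Subgroup G) := by
        rw [hBc, hA2]; exact le_of_eq (by ring)
      have hBM : A ⊔ Subgroup.zpowers z ≤ M :=
        sup_le hAM ((Subgroup.zpowers_le.mpr hzP).trans hP.1)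
      exact BG9.not_pRankLE_of_elementary hp' hBM hBe hB3 hr2
    exact (Subgroup.centralizer_le hZA).trans hCZ
  · exfalso
    obtain ⟨hHallM, -, -⟩ := Cfsg.Agent.Lib.Helper7.BGA.s1350 hG M hM
    have hcopσ : (Nat.card A).Coprime (Nat.card (sigmaCore M)) := by
      rw [hA2]
      apply Nat.Coprime.pow_left
      rw [Nat.Prime.coprime_iff_not_dvd hp']
      intro h
      exact hpσ (hHallM.2.1 p hp' h)
    have hAσ : A ≤ centralizer (sigmaCore M : Set G) :=
      le_centralizer_of_forall_centralizer hAe.1 hAnc (hAM.trans (le_normalizer_sigmaCore M)) hcopσ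
        (fun a ha ha1 => (hsingle a ha ha1).1 hpσ)
    exact g3core hG hM hpσ hAM hAe hA2 hAσ

/-- **towards B&G Theorem 12.5(e)**: if `p ∉ σ(M)`, `A ∈ E²_p(M)` and `L ≠ M` is a maximal subgroup
containing `A`, then `A` centralizes `M_σ ∩ L`. -/
theorem comm_inf_eq_bot [Finite G] (hG : IsMinSimpleOddOrder G) (h11 : Sec11 G) {M L : Subgroup G}
    (hM : IsCoatom M) (hL : IsCoatom L) (hLM : L ≠ M) {p : ℕ} [hp : Fact p.Prime]
    {A : Subgroup G} (hAM : A ≤ M) (hAL : A ≤ L) (hAe : IsElementaryAbelian p A)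
    (hA2 : Nat.card A = p ^ 2) (hpσ : p ∉ sigma M) : ⁅sigmaCore M ⊓ L, A⁆ = ⊥ := by
  by_cases hpL : p ∈ sigma L
  · obtain ⟨hHallM, -, -⟩ := Cfsg.Agent.Lib.Helper7.BGA.s1350 hG M hM
    refine l123_sigma hG hM hL hLM hAM hAL (BG9.isPGroup_of_isElementaryAbelian hAe) hpL
      (sigmaCore_le M) (le_normalizer_sigmaCore M) ?_
    intro q hq hqd
    have h1 := hHallM.2.1 q hq hqd
    exact ⟨h1, fun h => hpσ (h ▸ h1)⟩
  · have hex : ∃ A₀ : Subgroup G, A₀ ≤ A ∧ Nat.card A₀ = p ∧ normalizer (A₀ : Set G) ≤ L := by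
      by_contra hcon
      push Not at hcon
      apply hpL
      refine ((p124 hG h11 hL hAL hAe hA2).2 ?_).1
      intro A₀ hA₀A hA₀ h3
      exact hcon A₀ hA₀A hA₀ h3.1
    obtain ⟨A₀, hA₀A, hA₀, hN⟩ := hex
    exact (l123 hG h11 hM hL hLM hAM hAe hA2 hA₀A hA₀ hN).1 hpσ

end Cfsg.Agent.Lib.Helper3.BG12
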