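import Mathlib
import Cfsg.Prelude.Def_Solvable
import Cfsg.Prelude.Def_Local
import Cfsg.Prelude.Def_OddOrderLocal
import Cfsg.Agent.Lib.Helper1.BG8b
import Cfsg.Agent.Lib.Helper1.FrattiniAction
import Cfsg.Agent.Lib.Helper1.FrattiniHall
import Cfsg.Agent.Lib.Helper1.FittingCentralizer
import Cfsg.Agent.Lib.Helper2.Cores
import Cfsg.Agent.Lib.Helper2.PLengthQuot
import Cfsg.Agent.Lib.Lead.PLength
import Cfsg.Agent.Lib.Lead.NilpotentCoprime

set_option autoImplicit false
set_option linter.unusedVariables false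
set_option linter.style.longLine false
set_option linter.unusedSectionVars false

/-!
# Nilpotent Hall subgroups of groups of `p`-length one (towards S1384)

`X` finite solvable, `N` a nilpotent Hall subgroup, `X` of `p`-length one for every prime divisor `p`
of `|N|`.  Then `O_{π'}(X) N` is normal in `X` and `N_X(N)` controls strong fusion in `N`.
-/

universe u

namespace Cfsg.Agent.Lib.Helper3.BG16

open Cfsg Subgroup

variable {Y : Type u} [Group Y] [Finite Y]

/-- the primes not dividing `|N|` -/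
def piN (N : Subgroup Y) : Set ℕ := {q | q.Prime ∧ ¬ q ∣ Nat.card N}

theorem exists_sylow_le_of_hall (N : Subgroup Y) (hHall : (Nat.card N).Coprime N.index)
    (p : ℕ) [hp : Fact p.Prime] (hpN : p ∣ Nat.card N) :
    ∃ P : Sylow p Y, (P : Subgroup Y) ≤ N := by
  obtain ⟨P₀⟩ : Nonempty (Sylow p ↥N) := inferInstance
  have hcard : Nat.card ((P₀ : Subgroup N).map N.subtype) = p ^ (Nat.card Y).factorization p := by
    rw [Subgroup.card_map_of_injective N.subtype_injective, P₀.card_eq_multiplicity]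
    congr 1
    have hY : Nat.card Y = Nat.card N * N.index := (Subgroup.card_mul_index N).symm
    have hidx : ¬ p ∣ N.index := by
      intro h
      have := Nat.Coprime.eq_one_of_dvd (hHall.coprime_dvd_left hpN) h
      exact hp.out.one_lt.ne' this
    have hN0 : Nat.card N ≠ 0 := Nat.card_pos.ne'
    have hi0 : N.index ≠ 0 := Subgroup.index_ne_zero_of_finite
    rw [hY, Nat.factorization_mul hN0 hi0]
    simp [Nat.factorization_eq_zero_of_not_dvd hidx]
  refine ⟨Sylow.ofCard _ hcard, ?_⟩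
  show (P₀ : Subgroup N).map N.subtype ≤ N
  exact Subgroup.map_subtype_le _

theorem pCore_eq_bot_of_core_bot (N : Subgroup Y) (hO : piCore (piN N) Y = ⊥) (q : ℕ)
    [hq : Fact q.Prime] (hqN : ¬ q ∣ Nat.card N) : pCore q Y = ⊥ := by
  have h1 := Cfsg.Agent.Lib.Helper2.pCore_mem (G := Y) q
  haveI := h1.1
  have h2 : pCore q Y ≤ piCore (piN N) Y := by
    apply Cfsg.Agent.Lib.Helper2.le_piCore
    intro r hr hrd
    obtain ⟨k, hk⟩ := IsPGroup.iff_card.mp h1.2
    rw [hk] at hrd
    have : r = q := (Nat.prime_dvd_prime_iff_eq hr hq.out).mp (hr.dvd_of_dvd_pow hrd)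
    subst this
    exact ⟨hr, hqN⟩
  rw [hO] at h2
  exact le_bot_iff.mp h2

theorem pCore_le_of_hall (N : Subgroup Y) (hHall : (Nat.card N).Coprime N.index)
    (hO : piCore (piN N) Y = ⊥) (q : ℕ) [hq : Fact q.Prime] : pCore q Y ≤ N := by
  by_cases hqN : q ∣ Nat.card N
  · obtain ⟨P, hP⟩ := exists_sylow_le_of_hall N hHall q hqN
    have h1 := Cfsg.Agent.Lib.Helper2.pCore_mem (G := Y) q
    haveI := h1.1
    have h2 : IsPGroup q ↥((P : Subgroup Y) ⊔ pCore q Y) :=
      IsPGroup.to_sup_of_normal_right P.2 h1.2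
    have h3 := P.is_maximal' h2 le_sup_left
    calc pCore q Y ≤ (P : Subgroup Y) ⊔ pCore q Y := le_sup_right
      _ = P := h3
      _ ≤ N := hP
  · rw [pCore_eq_bot_of_core_bot N hO q hqN]; exact bot_le

theorem fitting_le_of_hall (N : Subgroup Y) (hHall : (Nat.card N).Coprime N.index)
    (hO : piCore (piN N) Y = ⊥) : fittingSubgroup Y ≤ N := by
  rw [Cfsg.Agent.Lib.Helper1.fittingSubgroup_eq_iSup_pCore]
  apply iSup_le
  intro q
  haveI : Fact (q : ℕ).Prime := ⟨q.2⟩
  exact pCore_le_of_hall N hHall hO q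

theorem sylow_normal_of_core_bot [hs : Group.IsSolvable Y] (N : Subgroup Y)
    (hN : Group.IsNilpotent N) (hHall : (Nat.card N).Coprime N.index)
    (hO : piCore (piN N) Y = ⊥) (p : ℕ) [hp : Fact p.Prime] (hPL : PLengthLE p 1 Y)
    (P : Sylow p Y) (hPN : (P : Subgroup Y) ≤ N) : (P : Subgroup Y).Normal := by
  obtain ⟨hKPn, hidx, hsup, hinf⟩ := Cfsg.Agent.Lib.Lead.PLength.pLengthLE_one_core p hPL P
  obtain ⟨K, hK⟩ : ∃ K : Subgroup Y, K = pPrimeCore p Y := ⟨_, rfl⟩
  rw [← hK] at hsup hinf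
  have hKn : K.Normal := by rw [hK]; exact (Cfsg.Agent.Lib.Helper2.pPrimeCore_mem (G := Y) p).1
  have hKcop : (Nat.card K).Coprime p := by
    rw [hK]; exact Cfsg.Agent.Lib.Helper2.pPrimeCore_card_coprime p
  obtain ⟨E, hE⟩ : ∃ E : Subgroup Y, E = fittingOf K := ⟨_, rfl⟩
  have hEK : E ≤ K := by rw [hE]; exact Cfsg.Agent.Lib.Helper1.BG8.fittingOf_le K
  have hKE : K ≤ normalizer (E : Set Y) := by
    rw [hE]; exact Cfsg.Agent.Lib.Helper1.BG8.le_normalizer_fittingOf K
  have hEn : E.Normal := by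
    rw [← normalizer_eq_top_iff, eq_top_iff]
    have h1 : normalizer (K : Set Y) = ⊤ := normalizer_eq_top_iff.mpr hKn
    haveI : (fittingSubgroup ↥K).Characteristic :=
      Cfsg.Agent.Lib.Helper2.fittingSubgroup_characteristic
    have h2 := Cfsg.Agent.Lib.Helper1.normalizer_le_normalizer_map_characteristic K
      (fittingSubgroup ↥K)
    rw [h1] at h2
    rw [hE]; exact h2
  have hEnil : Group.IsNilpotent E := by
    rw [hE]; exact Cfsg.Agent.Lib.Helper1.BG8.isNilpotent_fittingOf K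
  have hEN : E ≤ N :=
    (Cfsg.Agent.Lib.Helper1.le_fittingSubgroup hEn hEnil).trans (fitting_le_of_hall N hHall hO)
  haveI : Group.IsSolvable K := inferInstance
  have hC : K ⊓ centralizer (E : Set Y) ≤ E := by
    rw [hE]; exact Cfsg.Agent.Lib.Helper1.BG8.centralizer_fittingOf_le K
  have hPK : (P : Subgroup Y) ≤ normalizer (K : Set Y) := by
    rw [normalizer_eq_top_iff.mpr hKn]; exact le_top
  have hcop : (Nat.card (P : Subgroup Y)).Coprime (Nat.card K) := by
    obtain ⟨k, hk⟩ := IsPGroup.iff_card.mp P.2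
    rw [hk]
    exact (Nat.Coprime.pow_right k hKcop).symm
  have hPE : (P : Subgroup Y) ≤ centralizer (E : Set Y) := by
    intro s hs
    rw [mem_centralizer_iff]
    intro e he
    have hsN : s ∈ N := hPN hs
    have heN : e ∈ N := hEN he
    have hos : ∃ k, orderOf s = p ^ k := by
      obtain ⟨k, hk⟩ := P.2 ⟨s, hs⟩
      have h1 : s ^ p ^ k = 1 := by
        have := congrArg Subtype.val hk
        simpa using this
      obtain ⟨j, _, hj⟩ := (Nat.dvd_prime_pow hp.out).mp (orderOf_dvd_of_pow_eq_one h1)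
      exact ⟨j, hj⟩
    obtain ⟨k, hk⟩ := hos
    have hoe : (orderOf e).Coprime p := by
      have h1 : orderOf e ∣ Nat.card K := by
        have : orderOf (⟨e, hEK he⟩ : K) ∣ Nat.card K := orderOf_dvd_natCard _
        rwa [Subgroup.orderOf_mk] at this
      exact Nat.Coprime.coprime_dvd_left h1 hKcop
    have hcp : (orderOf e).Coprime (orderOf s) := by
      rw [hk]; exact Nat.Coprime.pow_right k hoe
    exact Cfsg.Agent.Lib.Lead.NilpotentCoprime.commute_of_coprime_of_mem N hN heN hsN hcp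
  have hKP : K ≤ centralizer ((P : Subgroup Y) : Set Y) :=
    Cfsg.Agent.Lib.Helper1.BG8.centralizes_of_centralizes_self_centralizing K P E hKE hPK hcop
      (Or.inr inferInstance) hC hPE
  rw [← normalizer_eq_top_iff, eq_top_iff, ← hsup]
  exact sup_le (hKP.trans (Subgroup.centralizer_le_normalizer _)) le_rfl

/-- Lemma A1: if `O_{π'}(Y) = 1` then the nilpotent Hall subgroup `N` is normal. -/
theorem normal_of_core_bot [hs : Group.IsSolvable Y] (N : Subgroup Y)
    (hN : Group.IsNilpotent N) (hHall : (Nat.card N).Coprime N.index)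
    (hO : piCore (piN N) Y = ⊥)
    (hPL : ∀ (p : ℕ) [Fact p.Prime], p ∣ Nat.card N → PLengthLE p 1 Y) : N.Normal := by
  have hFN : fittingSubgroup Y ≤ N := fitting_le_of_hall N hHall hO
  have hNF : N ≤ fittingSubgroup Y := by
    have h1 : (fittingSubgroup Y).subgroupOf N = ⊤ := by
      apply Cfsg.Agent.Lib.Helper1.eq_top_of_forall_sylow_le
      intro p hp
      by_cases hpN : p ∣ Nat.card N
      · obtain ⟨P, hP⟩ := exists_sylow_le_of_hall N hHall p hpN
        have hPn : (P : Subgroup Y).Normal :=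
          sylow_normal_of_core_bot N hN hHall hO p (hPL p hpN) P hP
        have hPF : (P : Subgroup Y) ≤ fittingSubgroup Y :=
          (Cfsg.Agent.Lib.Helper2.le_pCore P.2).trans
            (Cfsg.Agent.Lib.Helper2.pCore_le_fittingSubgroup p)
        refine ⟨P.subtype hP, ?_⟩
        rw [Sylow.coe_subtype]
        intro x hx
        exact hPF hx
      · obtain ⟨P'⟩ : Nonempty (Sylow p ↥N) := inferInstance
        refine ⟨P', ?_⟩
        have h2 : Nat.card (P' : Subgroup N) = 1 := by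
          rw [P'.card_eq_multiplicity, Nat.factorization_eq_zero_of_not_dvd hpN, pow_zero]
        rw [(Subgroup.card_eq_one).mp h2]
        exact bot_le
    intro x hx
    have : (⟨x, hx⟩ : N) ∈ (fittingSubgroup Y).subgroupOf N := by rw [h1]; trivial
    exact this
  have : N = fittingSubgroup Y := le_antisymm hNF hFN
  rw [this]
  exact Cfsg.Agent.Lib.Helper2.fittingSubgroup_normal

/-! ### Lemma A2 and A3: reduction modulo `O_{π'}` -/

section quot

variable {X : Type u} [Group X] [Finite X]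

theorem inf_piCore_eq_bot (N : Subgroup X) : N ⊓ piCore (piN N) X = ⊥ := by
  apply Subgroup.inf_eq_bot_of_coprime
  by_contra hc
  obtain ⟨p, hp, hpd⟩ := Nat.exists_prime_and_dvd hc
  have h1 : p ∣ Nat.card N := hpd.trans (Nat.gcd_dvd_left _ _)
  have h2 : p ∣ Nat.card (piCore (piN N) X) := hpd.trans (Nat.gcd_dvd_right _ _)
  exact (Cfsg.Agent.Lib.Helper2.piCore_pi (G := X) (piN N) p hp h2).2 h1

theorem card_map_mk_eq (N : Subgroup X) (O : Subgroup X) [O.Normal] (hNO : N ⊓ O = ⊥) :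
    Nat.card (N.map (QuotientGroup.mk' O)) = Nat.card N := by
  have hinj : Function.Injective ((QuotientGroup.mk' O).comp N.subtype) := by
    rw [injective_iff_map_eq_one]
    intro a ha
    have h1 : (a : X) ∈ O := by
      have : (QuotientGroup.mk' O) (a : X) = 1 := ha
      rwa [← MonoidHom.mem_ker, QuotientGroup.ker_mk'] at this
    have h2 : (a : X) ∈ N ⊓ O := ⟨a.2, h1⟩
    rw [hNO, Subgroup.mem_bot] at h2
    exact Subtype.ext h2
  have hrange : ((QuotientGroup.mk' O).comp N.subtype).range = N.map (QuotientGroup.mk' O) := by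
    rw [MonoidHom.range_comp, Subgroup.range_subtype]
  rw [← hrange]
  exact (Nat.card_congr (MonoidHom.ofInjective hinj).toEquiv).symm

/-- Lemma A2: `O_{π'}(X) N` is normal in `X`. -/
theorem sup_normal_of_hall [hs : Group.IsSolvable X] (N : Subgroup X)
    (hN : Group.IsNilpotent N) (hHall : (Nat.card N).Coprime N.index)
    (hPL : ∀ (p : ℕ) [Fact p.Prime], p ∣ Nat.card N → PLengthLE p 1 X) :
    (piCore (piN N) X ⊔ N).Normal := by
  obtain ⟨O, hO⟩ : ∃ O : Subgroup X, O = piCore (piN N) X := ⟨_, rfl⟩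
  rw [← hO]
  haveI hOn : O.Normal := by rw [hO]; exact (Cfsg.Agent.Lib.Helper2.piCore_mem (G := X) (piN N)).1
  have hNO : N ⊓ O = ⊥ := by rw [hO]; exact inf_piCore_eq_bot N
  have hOmax : ∀ K : Subgroup X, K.Normal →
      (∀ p : ℕ, p.Prime → p ∣ Nat.card K → p ∈ piN N) → K ≤ O := by
    intro K hK h
    rw [hO]
    exact Cfsg.Agent.Lib.Helper2.le_piCore h
  have hOpi : ∀ p : ℕ, p.Prime → p ∣ Nat.card O → p ∈ piN N := by
    rw [hO]; exact Cfsg.Agent.Lib.Helper2.piCore_pi (G := X) (piN N)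
  obtain ⟨f, hf⟩ : ∃ f : X →* X ⧸ O, f = QuotientGroup.mk' O := ⟨_, rfl⟩
  have hfs : Function.Surjective f := by rw [hf]; exact QuotientGroup.mk'_surjective O
  have hker : f.ker = O := by rw [hf]; exact QuotientGroup.ker_mk' O
  have hcard : Nat.card (N.map f) = Nat.card N := by rw [hf]; exact card_map_mk_eq N O hNO
  have hN' : Group.IsNilpotent (N.map f) :=
    Group.nilpotent_of_surjective (f.subgroupMap N) (f.subgroupMap_surjective N)
  have hHall' : (Nat.card (N.map f)).Coprime (N.map f).index := by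
    rw [hcard]
    exact Nat.Coprime.coprime_dvd_right (Subgroup.index_map_dvd N hfs) hHall
  haveI : Group.IsSolvable (X ⧸ O) := solvable_of_surjective hfs
  have hPL' : ∀ (p : ℕ) [Fact p.Prime], p ∣ Nat.card (N.map f) → PLengthLE p 1 (X ⧸ O) := by
    intro p _ hp
    rw [hcard] at hp
    exact Cfsg.Agent.Lib.Helper2.PLQ.pLengthLE_of_surjective p 1 f hfs (hPL p hp)
  have hcore : piCore (piN (N.map f)) (X ⧸ O) = ⊥ := by
    obtain ⟨M, hM⟩ : ∃ M : Subgroup (X ⧸ O), M = piCore (piN (N.map f)) (X ⧸ O) := ⟨_, rfl⟩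
    rw [← hM]
    haveI hMn : M.Normal := by
      rw [hM]; exact (Cfsg.Agent.Lib.Helper2.piCore_mem (G := X ⧸ O) (piN (N.map f))).1
    haveI hcn : (M.comap f).Normal := Subgroup.Normal.comap hMn f
    have hle : M.comap f ≤ O := by
      apply hOmax _ hcn
      intro p hp hpd
      refine ⟨hp, ?_⟩
      intro hpN
      haveI : Fact p.Prime := ⟨hp⟩
      obtain ⟨x, hx⟩ := exists_prime_orderOf_dvd_card' (G := ↥(M.comap f)) p hpd
      by_cases hx1 : f (x : X) = 1
      · have hxO : (x : X) ∈ O := by rwa [← MonoidHom.mem_ker, hker] at hx1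
        have h1 : orderOf (⟨(x : X), hxO⟩ : O) ∣ Nat.card O := orderOf_dvd_natCard _
        rw [Subgroup.orderOf_mk, Subgroup.orderOf_coe, hx] at h1
        exact (hOpi p hp h1).2 hpN
      · have hfxM : f (x : X) ∈ M := x.2
        have h1 : orderOf (f (x : X)) ∣ p := by
          apply orderOf_dvd_of_pow_eq_one
          rw [← map_pow, ← hx, ← Subgroup.orderOf_coe, pow_orderOf_eq_one, map_one]
        have h2 : orderOf (f (x : X)) = p := by
          rcases (Nat.dvd_prime hp).mp h1 with h | h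
          · exact absurd (orderOf_eq_one_iff.mp h) hx1
          · exact h
        have h3 : orderOf (⟨f (x : X), hfxM⟩ : M) ∣ Nat.card M := orderOf_dvd_natCard _
        rw [Subgroup.orderOf_mk, h2, hM] at h3
        have h4 := (Cfsg.Agent.Lib.Helper2.piCore_pi (G := X ⧸ O) (piN (N.map f)) p hp h3).2
        rw [hcard] at h4
        exact h4 hpN
    have h5 : M = (M.comap f).map f := (Subgroup.map_comap_eq_self_of_surjective hfs M).symm
    rw [h5, eq_bot_iff]
    calc (M.comap f).map f ≤ O.map f := Subgroup.map_mono hle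
      _ = ⊥ := (Subgroup.map_eq_bot_iff _).mpr hker.ge
  have hnorm : (N.map f).Normal := normal_of_core_bot (N.map f) hN' hHall' hcore hPL'
  have h6 : ((N.map f).comap f).Normal := Subgroup.Normal.comap hnorm f
  rw [Subgroup.comap_map_eq, hker, sup_comm] at h6
  exact h6

/-- Lemma A3: the normalizer of a nilpotent Hall subgroup controls fusion in it. -/
theorem control_of_hall [hs : Group.IsSolvable X] (N : Subgroup X)
    (hN : Group.IsNilpotent N) (hHall : (Nat.card N).Coprime N.index)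
    (hPL : ∀ (p : ℕ) [Fact p.Prime], p ∣ Nat.card N → PLengthLE p 1 X)
    (x : X) (hx : x ∈ N) (c : X) (hc : c * x * c⁻¹ ∈ N) :
    ∃ m ∈ normalizer (N : Set X), m * x * m⁻¹ = c * x * c⁻¹ := by
  obtain ⟨O, hO⟩ : ∃ O : Subgroup X, O = piCore (piN N) X := ⟨_, rfl⟩
  haveI hOn : O.Normal := by rw [hO]; exact (Cfsg.Agent.Lib.Helper2.piCore_mem (G := X) (piN N)).1
  have hNO : N ⊓ O = ⊥ := by rw [hO]; exact inf_piCore_eq_bot N
  haveI hLn : (O ⊔ N).Normal := by rw [hO]; exact sup_normal_of_hall N hN hHall hPL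
  have hLs : Group.IsSolvable ↥(O ⊔ N) := inferInstance
  have hHall' : (Nat.card N).Coprime (N.relIndex (O ⊔ N)) :=
    Nat.Coprime.coprime_dvd_right (Subgroup.relIndex_dvd_index_of_le le_sup_right) hHall
  have hfr := Cfsg.Agent.Lib.Helper1.frattini_hall (O ⊔ N) hLs N le_sup_right hHall'
  have hcm : c ∈ (O ⊔ N) ⊔ normalizer (N : Set X) := by rw [hfr]; trivial
  obtain ⟨l, hl, m, hm, rfl⟩ := Subgroup.mem_sup_of_normal_left.mp hcm
  obtain ⟨o, ho, n₀, hn₀, rfl⟩ := Subgroup.mem_sup_of_normal_left.mp hl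
  have hm' : n₀ * m ∈ normalizer (N : Set X) :=
    mul_mem (Subgroup.le_normalizer hn₀) hm
  refine ⟨n₀ * m, hm', ?_⟩
  obtain ⟨v, hv⟩ : ∃ v : X, v = (n₀ * m) * x * (n₀ * m)⁻¹ := ⟨_, rfl⟩
  have hvN : v ∈ N := by
    rw [hv]; exact (Subgroup.mem_normalizer_iff.mp hm' x).mp hx
  have hcv : o * n₀ * m * x * (o * n₀ * m)⁻¹ = o * v * o⁻¹ := by
    rw [hv]; group
  rw [hcv] at hc ⊢
  rw [← hv]
  have h1 : o * v * o⁻¹ * v⁻¹ ∈ N := mul_mem hc (inv_mem hvN)
  have h2 : o * v * o⁻¹ * v⁻¹ ∈ O := by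
    have : v * o⁻¹ * v⁻¹ ∈ O := hOn.conj_mem _ (inv_mem ho) v
    have h3 := mul_mem ho this
    have h4 : o * (v * o⁻¹ * v⁻¹) = o * v * o⁻¹ * v⁻¹ := by group
    rwa [h4] at h3
  have h5 : o * v * o⁻¹ * v⁻¹ ∈ N ⊓ O := ⟨h1, h2⟩
  rw [hNO, Subgroup.mem_bot] at h5
  have : o * v * o⁻¹ = v := by
    have := congrArg (· * v) h5
    simpa using this
  exact this.symm

end quot

end Cfsg.Agent.Lib.Helper3.BG16
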