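import Mathlib
import Cfsg.Agent.S1410
import Cfsg.Agent.Lib.Helper1.BT3
import Cfsg.Agent.Lib.Helper1.BG7b
import Cfsg.Agent.Lib.Helper1.ComplementSystem
import Cfsg.Agent.Lib.Helper3.BG10c
import Cfsg.Agent.Lib.Helper3.BG16a

set_option autoImplicit false
set_option linter.unusedVariables false
set_option linter.style.longLine false
set_option linter.unusedSectionVars false

/-!
# Fusion in nilpotent Hall subgroups of a minimal simple group of odd order (S1384)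
-/

universe u

namespace Cfsg.Agent.Lib.Helper3.BG16

open Cfsg Subgroup Cfsg.Agent.Lib.Helper1 Cfsg.Agent.Lib.Helper1.BG7
  Cfsg.Agent.Lib.Helper3.BG10

variable {G : Type u} [Group G]

/-- decomposition of an element into commuting `p`- and `p'`-parts, both powers of it -/
theorem exists_p_decomp [Finite G] (p : ℕ) [hp : Fact p.Prime] (x : G) :
    ∃ a b : G, a ∈ Subgroup.zpowers x ∧ b ∈ Subgroup.zpowers x ∧ x = a * b ∧
      (∃ k, orderOf a = p ^ k) ∧ (orderOf b).Coprime p := by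
  obtain ⟨n, hn⟩ : ∃ n, n = orderOf x := ⟨_, rfl⟩
  have hn0 : n ≠ 0 := by rw [hn]; exact (orderOf_pos x).ne'
  obtain ⟨k, hk⟩ : ∃ k, k = n.factorization p := ⟨_, rfl⟩
  obtain ⟨m, hm⟩ : ∃ m, m = n / p ^ k := ⟨_, rfl⟩
  have hnm : p ^ k * m = n := by rw [hm, hk]; exact Nat.ordProj_mul_ordCompl_eq_self n p
  have hcop : Nat.Coprime p m := by rw [hm, hk]; exact Nat.coprime_ordCompl hp.out hn0
  have hcop' : Nat.Coprime m (p ^ k) := (Nat.Coprime.pow_left k hcop).symm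
  have hbez := Nat.gcd_eq_gcd_ab m (p ^ k)
  rw [hcop'] at hbez
  refine ⟨x ^ ((m : ℤ) * Nat.gcdA m (p ^ k)), x ^ (((p ^ k : ℕ) : ℤ) * Nat.gcdB m (p ^ k)),
    Subgroup.zpow_mem_zpowers x _, Subgroup.zpow_mem_zpowers x _, ?_, ?_, ?_⟩
  · rw [← zpow_add, ← hbez]; simp
  · have h1 : (x ^ ((m : ℤ) * Nat.gcdA m (p ^ k))) ^ (p ^ k) = 1 := by
      rw [← zpow_natCast, ← zpow_mul]
      have : (m : ℤ) * Nat.gcdA m (p ^ k) * ((p ^ k : ℕ) : ℤ) = ((n : ℕ) : ℤ) * Nat.gcdA m (p ^ k) := by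
        rw [← hnm]; push_cast; ring
      rw [this, zpow_mul, zpow_natCast, hn, pow_orderOf_eq_one, one_zpow]
    obtain ⟨j, _, hj⟩ := (Nat.dvd_prime_pow hp.out).mp (orderOf_dvd_of_pow_eq_one h1)
    exact ⟨j, hj⟩
  · have h1 : (x ^ (((p ^ k : ℕ) : ℤ) * Nat.gcdB m (p ^ k))) ^ m = 1 := by
      rw [← zpow_natCast, ← zpow_mul]
      have : ((p ^ k : ℕ) : ℤ) * Nat.gcdB m (p ^ k) * (m : ℤ) = ((n : ℕ) : ℤ) * Nat.gcdB m (p ^ k) := by
        rw [← hnm]; push_cast; ring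
      rw [this, zpow_mul, zpow_natCast, hn, pow_orderOf_eq_one, one_zpow]
    exact Nat.Coprime.coprime_dvd_left (orderOf_dvd_of_pow_eq_one h1) hcop.symm

theorem orderOf_eq_pow_of_mem {p : ℕ} [hp : Fact p.Prime] {P : Subgroup G} (hP : IsPGroup p P)
    {s : G} (hs : s ∈ P) : ∃ k, orderOf s = p ^ k := by
  obtain ⟨k, hk⟩ := hP ⟨s, hs⟩
  have h1 : s ^ p ^ k = 1 := by
    have := congrArg Subtype.val hk
    simpa using this
  obtain ⟨j, _, hj⟩ := (Nat.dvd_prime_pow hp.out).mp (orderOf_dvd_of_pow_eq_one h1)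
  exact ⟨j, hj⟩

theorem relIndex_dvd_of_inf_le {S K L : Subgroup G} (hKL : K ≤ L) (h : S ⊓ L ≤ K) :
    S.relIndex K ∣ S.relIndex L := by
  have h1 : S ⊓ K = S ⊓ L := le_antisymm (inf_le_inf_left S hKL) (le_inf inf_le_left h)
  rw [← Subgroup.inf_relIndex_right S K, ← Subgroup.inf_relIndex_right S L, h1]
  exact Dvd.intro _ (Subgroup.relIndex_mul_relIndex (S ⊓ L) K L h hKL)

theorem not_dvd_relIndex_of_normal_in [Finite G] {p : ℕ} {S N C : Subgroup G} (hCN : C ≤ N)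
    (hn : (C.subgroupOf N).Normal) (h : ¬ p ∣ S.relIndex N) : ¬ p ∣ S.relIndex C := by
  intro hd
  apply h
  have h1 : (S.subgroupOf N).relIndex (C.subgroupOf N) = S.relIndex C :=
    Subgroup.relIndex_subgroupOf hCN
  rw [← h1] at hd
  haveI := hn
  exact hd.trans (Cfsg.Agent.Lib.Helper1.relIndex_dvd_index_of_normal_right _ _)

section nilp

variable [Finite G] {p : ℕ} [hp : Fact p.Prime]

theorem le_normalizer_sylow_of_nilpotent (H : Subgroup G) (hHn : Group.IsNilpotent H)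
    (P : Sylow p G) (hPH : (P : Subgroup G) ≤ H) :
    H ≤ normalizer ((P : Subgroup G) : Set G) := by
  have hall : ∀ q (_ : Fact q.Prime) (S : Sylow q ↥H), (↑S : Subgroup ↥H).Normal :=
    ((Group.isNilpotent_of_finite_tfae (G := ↥H)).out 0 3).mp hHn
  have hn : ((P.subtype hPH : Sylow p H) : Subgroup H).Normal := hall p hp (P.subtype hPH)
  rw [Sylow.coe_subtype] at hn
  intro h hh
  apply mem_normalizer_of_cj_self
  apply cj_eq_of_cj_le
  intro x hx
  rw [mem_cj] at hx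
  have hxH : h⁻¹ * x * h ∈ H := hPH hx
  have h1 := hn.conj_mem ⟨h⁻¹ * x * h, hxH⟩ (Subgroup.mem_subgroupOf.mpr hx) ⟨h, hh⟩
  rw [Subgroup.mem_subgroupOf] at h1
  have h2 : h * (h⁻¹ * x * h) * h⁻¹ = x := by group
  simpa [h2] using h1

theorem mem_sylow_of_le_normalizer (P : Sylow p G) {a : G}
    (ha : a ∈ normalizer ((P : Subgroup G) : Set G)) (hoa : ∃ k, orderOf a = p ^ k) :
    a ∈ (P : Subgroup G) := by
  obtain ⟨k, hk⟩ := hoa
  have h1 : IsPGroup p (Subgroup.zpowers a) := by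
    apply IsPGroup.of_card (n := k)
    rw [Nat.card_zpowers, hk]
  have h2 : Subgroup.zpowers a ≤ normalizer ((P : Subgroup G) : Set G) :=
    (Subgroup.zpowers_le).mpr ha
  have h3 : IsPGroup p ↥(Subgroup.zpowers a ⊔ (P : Subgroup G)) :=
    IsPGroup.to_sup_of_normal_right' h1 P.2 h2
  have h4 := P.is_maximal' h3 le_sup_right
  have : a ∈ Subgroup.zpowers a ⊔ (P : Subgroup G) :=
    (le_sup_left : Subgroup.zpowers a ≤ _) (Subgroup.mem_zpowers a)
  rwa [h4] at this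

/-- every element of `H` is `a * b` with `a ∈ P` a power of it and `b` centralizing `P` -/
theorem exists_decomp_in_hall (H : Subgroup G) (hHn : Group.IsNilpotent H)
    (P : Sylow p G) (hPH : (P : Subgroup G) ≤ H) {z : G} (hz : z ∈ H) :
    ∃ a b : G, a ∈ (P : Subgroup G) ∧ a ∈ Subgroup.zpowers z ∧ z = a * b ∧
      ∀ s ∈ (P : Subgroup G), s * b = b * s := by
  obtain ⟨a, b, haz, hbz, hab, hoa, hob⟩ := exists_p_decomp p z
  have hzH : Subgroup.zpowers z ≤ H := (Subgroup.zpowers_le).mpr hz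
  have haP : a ∈ (P : Subgroup G) :=
    mem_sylow_of_le_normalizer P (le_normalizer_sylow_of_nilpotent H hHn P hPH (hzH haz)) hoa
  refine ⟨a, b, haP, haz, hab, ?_⟩
  intro s hs
  obtain ⟨k, hk⟩ := orderOf_eq_pow_of_mem P.2 hs
  apply Cfsg.Agent.Lib.Lead.NilpotentCoprime.commute_of_coprime_of_mem H hHn (hPH hs) (hzH hbz)
  rw [hk]
  exact (Nat.Coprime.pow_right k hob).symm

theorem inf_centralizer_le_centralizer_singleton (H : Subgroup G) (hHn : Group.IsNilpotent H)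
    (P : Sylow p G) (hPH : (P : Subgroup G) ≤ H) {z : G} (hz : z ∈ H) :
    (P : Subgroup G) ⊓ centralizer ((P : Subgroup G) : Set G) ≤ centralizer ({z} : Set G) := by
  obtain ⟨a, b, haP, haz, hab, hb⟩ := exists_decomp_in_hall H hHn P hPH hz
  rintro s ⟨hsP, hsC⟩
  rw [Subgroup.mem_centralizer_singleton_iff]
  have h1 : a * s = s * a := Subgroup.mem_centralizer_iff.mp hsC a haP
  have h2 := hb s hsP
  rw [hab]
  calc s * (a * b) = (s * a) * b := by group
    _ = (a * s) * b := by rw [h1]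
    _ = a * (s * b) := by group
    _ = a * (b * s) := by rw [h2]
    _ = a * b * s := by group

end nilp

section main

variable [Finite G]

theorem sylow_centralizer_of_hall (hG : IsMinSimpleOddOrder G) (H : Subgroup G)
    (hHn : Group.IsNilpotent H) {p : ℕ} [hp : Fact p.Prime]
    (P : Sylow p G) (hPH : (P : Subgroup G) ≤ H) {z : G} (hz : z ∈ H) :
    ¬ p ∣ (P : Subgroup G).relIndex (centralizer ({z} : Set G)) := by
  obtain ⟨a, b, haP, haz, hab, hb⟩ := exists_decomp_in_hall H hHn P hPH hz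
  obtain ⟨A, hA⟩ : ∃ A : Subgroup G, A = Subgroup.zpowers a := ⟨_, rfl⟩
  have hAP : A ≤ (P : Subgroup G) := by rw [hA]; exact (Subgroup.zpowers_le).mpr haP
  have hfn := (ctl_of p hG.2.1 hG.2.2.2 (fun K hK => Cfsg.Agent.S1410.result hG p K hK) P A hAP).2
  unfold FN at hfn
  rw [Subgroup.inf_relIndex_right] at hfn
  have h1 : ¬ p ∣ (P : Subgroup G).relIndex (centralizer (A : Set G)) :=
    not_dvd_relIndex_of_normal_in (Subgroup.centralizer_le_normalizer _)
      (Subgroup.normal_subgroupOf_centralizer_normalizer _) hfn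
  intro hd
  apply h1
  refine hd.trans (relIndex_dvd_of_inf_le ?_ ?_)
  · intro t ht
    rw [Subgroup.mem_centralizer_singleton_iff] at ht
    rw [Subgroup.mem_centralizer_iff]
    intro m hm
    rw [hA] at hm
    have hmz : m ∈ Subgroup.zpowers z :=
      ((Subgroup.zpowers_le).mpr haz) hm
    obtain ⟨i, rfl⟩ := Subgroup.mem_zpowers_iff.mp hmz
    have hc : Commute z t := ht.symm
    exact (hc.zpow_left i).eq
  · rintro s ⟨hsP, hsC⟩
    rw [Subgroup.mem_centralizer_singleton_iff]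
    have h1 : a * s = s * a := Subgroup.mem_centralizer_iff.mp hsC a (by rw [hA]; exact Subgroup.mem_zpowers a)
    have h2 := hb s hsP
    rw [hab]
    calc s * (a * b) = (s * a) * b := by group
      _ = (a * s) * b := by rw [h1]
      _ = a * (s * b) := by group
      _ = a * (b * s) := by rw [h2]
      _ = a * b * s := by group

/-- S1384 -/
theorem nilpotent_hall_fusion (hG : IsMinSimpleOddOrder G) (H : Subgroup G)
    (hHn : Group.IsNilpotent H) (hHall : (Nat.card H).Coprime H.index) :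
    ∀ x ∈ H, ∀ g : G, g * x * g⁻¹ ∈ H →
      ∃ n ∈ normalizer (H : Set G), n * x * n⁻¹ = g * x * g⁻¹ := by
  intro x hx g hy
  by_cases hx1 : x = 1
  · exact ⟨1, Subgroup.one_mem _, by rw [hx1]; group⟩
  have hH1 : Nat.card H ≠ 1 := by
    intro h
    rw [Subgroup.card_eq_one] at h
    rw [h, Subgroup.mem_bot] at hx
    exact hx1 hx
  obtain ⟨p, hpp, hpd⟩ := Nat.exists_prime_and_dvd hH1
  haveI hp : Fact p.Prime := ⟨hpp⟩
  obtain ⟨P₀, hPH⟩ := exists_sylow_le_of_hall H hHall p hpd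
  obtain ⟨P, hP⟩ : ∃ P : Subgroup G, P = (P₀ : Subgroup G) := ⟨_, rfl⟩
  obtain ⟨y, hydef⟩ : ∃ y : G, y = g * x * g⁻¹ := ⟨_, rfl⟩
  rw [← hydef] at hy ⊢
  have hPp : IsPGroup p P := by rw [hP]; exact P₀.2
  have hP1 : P ≠ ⊥ := by
    rw [hP]
    exact P₀.ne_bot_of_dvd_card (hpd.trans (Subgroup.card_subgroup_dvd_card H))
  have hPtop : P ≠ ⊤ := pgroup_ne_top hG hPp
  have hHNP : H ≤ normalizer (P : Set G) := by
    rw [hP]; exact le_normalizer_sylow_of_nilpotent H hHn P₀ hPH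
  -- the subgroup Q
  obtain ⟨Q, hQ⟩ : ∃ Q : Subgroup G, Q = P ⊓ centralizer ({x} : Set G) := ⟨_, rfl⟩
  have hQP : Q ≤ P := by rw [hQ]; exact inf_le_left
  have hQp : IsPGroup p Q := hPp.to_le hQP
  have hgQ : cj g Q ≤ centralizer ({y} : Set G) := by
    intro t ht
    rw [mem_cj, hQ] at ht
    have h1 := Subgroup.mem_centralizer_singleton_iff.mp ht.2
    rw [Subgroup.mem_centralizer_singleton_iff, hydef]
    calc t * (g * x * g⁻¹) = g * ((g⁻¹ * t * g) * x) * g⁻¹ := by group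
      _ = g * (x * (g⁻¹ * t * g)) * g⁻¹ := by rw [h1]
      _ = g * x * g⁻¹ * t := by group
  have hgQp : IsPGroup p (cj g Q) := by
    unfold cj; exact hQp.map _
  have hsyl : ¬ p ∣ P.relIndex (centralizer ({y} : Set G)) := by
    rw [hP]; exact sylow_centralizer_of_hall hG H hHn P₀ hPH hy
  obtain ⟨c, hc, hcQ⟩ := exists_cj_le_of_not_dvd hPp hsyl hgQ hgQp
  rw [← cj_mul] at hcQ
  have hctl := (ctl_of p hG.2.1 hG.2.2.2 (fun K hK => Cfsg.Agent.S1410.result hG p K hK) P₀ Q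
    (by rw [← hP]; exact hQP)).1
  rw [← hP] at hctl
  obtain ⟨y₁, hy₁, k₁, hk₁, hw⟩ := hctl (c * g) hcQ
  -- the subgroup Z
  obtain ⟨Z, hZ⟩ : ∃ Z : Subgroup G, Z = BT.omegaZ p P := ⟨_, rfl⟩
  have hZP : Z ≤ P := by rw [hZ]; exact BT.omegaZ_le p P
  have hZQ : Z ≤ Q := by
    rw [hQ]
    refine le_inf hZP ?_
    have h1 : Z ≤ P ⊓ centralizer (P : Set G) := by
      rw [hZ]; exact le_inf (BT.omegaZ_le p P) (BT.omegaZ_le_centralizer p P)
    refine h1.trans ?_
    rw [hP]; exact inf_centralizer_le_centralizer_singleton H hHn P₀ hPH hx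
  have hZ1 : Z ≠ ⊥ := by rw [hZ]; exact BT.omegaZ_ne_bot hPp hP1
  have hZtop : Z ≠ ⊤ := fun h => hPtop (top_le_iff.mp (h ▸ hZP))
  obtain ⟨X, hX⟩ : ∃ X : Subgroup G, X = normalizer (Z : Set G) := ⟨_, rfl⟩
  have hXtop : X ≠ ⊤ := by rw [hX]; exact normalizer_ne_top hG hZ1 hZtop
  have hNPX : normalizer (P : Set G) ≤ X := by
    rw [hX, hZ]; exact BT.normalizer_le_normalizer_omegaZ p P
  have hHX : H ≤ X := hHNP.trans hNPX
  have hk₁X : k₁ ∈ X := by
    rw [hX]
    exact Subgroup.centralizer_le_normalizer _ (Subgroup.centralizer_le hZQ hk₁)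
  have hwX : c * g ∈ X := by rw [hw]; exact mul_mem (hNPX hy₁) hk₁X
  have hwx : (c * g) * x * (c * g)⁻¹ = y := by
    have h1 := Subgroup.mem_centralizer_singleton_iff.mp hc
    calc (c * g) * x * (c * g)⁻¹ = c * (g * x * g⁻¹) * c⁻¹ := by group
      _ = c * y * c⁻¹ := by rw [hydef]
      _ = y * c * c⁻¹ := by rw [h1]
      _ = y := by group
  -- work inside X
  haveI : Group.IsSolvable ↥X := hG.2.2.2 X hXtop
  obtain ⟨N, hN⟩ : ∃ N : Subgroup ↥X, N = H.subgroupOf X := ⟨_, rfl⟩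
  have hNnil : Group.IsNilpotent ↥N := by
    rw [hN]
    haveI := hHn
    exact Group.nilpotent_of_mulEquiv (Subgroup.subgroupOfEquivOfLe hHX).symm
  have hNcard : Nat.card N = Nat.card H := by
    rw [hN]; exact Nat.card_congr (Subgroup.subgroupOfEquivOfLe hHX).toEquiv
  have hNHall : (Nat.card N).Coprime N.index := by
    rw [hNcard, hN]
    exact Nat.Coprime.coprime_dvd_right (Subgroup.relIndex_dvd_index_of_le hHX) hHall
  have hPL : ∀ (q : ℕ) [Fact q.Prime], q ∣ Nat.card N → PLengthLE q 1 ↥X :=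
    fun q _ _ => Cfsg.Agent.S1410.result hG q X hXtop
  have hxN : (⟨x, hHX hx⟩ : ↥X) ∈ N := by rw [hN]; exact Subgroup.mem_subgroupOf.mpr hx
  have hcN : (⟨c * g, hwX⟩ : ↥X) * ⟨x, hHX hx⟩ * (⟨c * g, hwX⟩ : ↥X)⁻¹ ∈ N := by
    rw [hN, Subgroup.mem_subgroupOf]
    show (c * g) * x * (c * g)⁻¹ ∈ H
    rw [hwx]; exact hy
  obtain ⟨m, hm, hmx⟩ := control_of_hall N hNnil hNHall hPL ⟨x, hHX hx⟩ hxN ⟨c * g, hwX⟩ hcN
  refine ⟨(m : G), ?_, ?_⟩
  · apply mem_normalizer_of_cj_self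
    apply cj_eq_of_cj_le
    intro t ht
    rw [mem_cj] at ht
    have htX : (m : G)⁻¹ * t * m ∈ X := hHX ht
    have h1 : (⟨(m : G)⁻¹ * t * m, htX⟩ : ↥X) ∈ N := by
      rw [hN]; exact Subgroup.mem_subgroupOf.mpr ht
    have h2 := (Subgroup.mem_normalizer_iff.mp hm _).mp h1
    rw [hN, Subgroup.mem_subgroupOf] at h2
    have h3 : (m : G) * ((m : G)⁻¹ * t * m) * (m : G)⁻¹ = t := by group
    simpa [h3] using h2
  · have h1 := congrArg Subtype.val hmx
    have h2 : (m : G) * x * (m : G)⁻¹ = (c * g) * x * (c * g)⁻¹ := by simpa using h1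
    rw [h2, hwx]

end main

end Cfsg.Agent.Lib.Helper3.BG16
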