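import Mathlib
import Cfsg.Agent.Lib.Helper1.BGG2
import Cfsg.Agent.Lib.Helper2.BGHRows
import Cfsg.Agent.Lib.Lead.BGM2
import Cfsg.Agent.Lib.Helper3.BG16b
import Cfsg.Agent.Lib.Helper3.BG10a
import Cfsg.Agent.Lib.Helper7.BGE1
import Cfsg.Agent.Lib.Helper1.SplitPResidual3
import Cfsg.Agent.S1409
import Cfsg.Agent.S1414
import Cfsg.Agent.S1415
import Cfsg.Agent.S1417
import Cfsg.Agent.S1418
import Cfsg.Agent.S1420
import Cfsg.Agent.S1424
import Cfsg.Agent.S1425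

set_option autoImplicit false
set_option maxHeartbeats 4000000
set_option linter.unusedVariables false
set_option linter.unusedSectionVars false
set_option linter.style.longLine false
set_option linter.unusedSimpArgs false
set_option linter.deprecated false
set_option linter.style.haveILetI false

/-!
# B&G section 12/13: the 12.17 package (pairs of maximal subgroups sharing a `σ`-prime)

Generic product lemmas, `(0b)` (disjointness of `σ` when one core is nilpotent), and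
`(d)(1)`: `L = L_β N_L(S)`.
-/

open scoped commutatorElement Pointwise
universe u
namespace Cfsg.Agent.Lib.Helper3.BG13

open Cfsg Cfsg.Agent.Lib.Helper1 Cfsg.Agent.Lib.Helper7.BGRows

variable {G : Type u} [Group G] [Finite G]

omit [Finite G] in
theorem nonconj_symm {M L : Subgroup G} (h : ∀ g : G, L ≠ BG7.cj g M) :
    ∀ g : G, M ≠ BG7.cj g L := by
  intro g hg
  apply h g⁻¹
  rw [hg, BG7.cj_inv_cj]

omit [Finite G] in
theorem ne_of_nonconj {M L : Subgroup G} (h : ∀ g : G, L ≠ BG7.cj g M) : L ≠ M := by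
  intro hLM
  apply h 1
  rw [BG7.cj_one, hLM]

/-- `(0b)`: if `L_σ` is nilpotent and `L` is not conjugate to `M` then `σ(M) ∩ σ(L) = ∅`. -/
theorem sigma_disjoint_of_nilpotent (hG : IsMinSimpleOddOrder G) {M L : Subgroup G}
    (hM : IsCoatom M) (hL : IsCoatom L) (hnc : ∀ g : G, L ≠ BG7.cj g M)
    (hnil : Group.IsNilpotent ↥(sigmaCore L)) {q : ℕ} [hq : Fact q.Prime]
    (hqM : q ∈ sigma M) (hqL : q ∈ sigma L) : False := by
  obtain ⟨g, hg⟩ := Lead.BGM.exists_cj_le_of_common_sigma hG hM hL hqM hqL hnil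
  have h1 : IsCoatom (BG7.cj g L) := BG9.isCoatom_cj hL g
  have h2 : M = BG7.cj g L := BG8.eq_of_coatom_le h1 hg hM.1
  apply hnc g⁻¹
  rw [h2, BG7.cj_inv_cj]

/-- a maximal `p`-subgroup of `X` has index prime to `p` in `X` -/
theorem not_dvd_relIndex_of_isMaxP {p : ℕ} [hp : Fact p.Prime] {S X : Subgroup G}
    (h : BG8.IsMaxP p S X) : ¬ p ∣ S.relIndex X := by
  obtain ⟨R, hR⟩ := h.exists_sylow
  have h1 : S.subgroupOf X = (R : Subgroup X) := by
    rw [← hR]; exact BGG.subgroupOf_map_subtype' _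
  unfold Subgroup.relIndex
  rw [h1]
  exact R.not_dvd_index

/-- if `L = N I` with `N` normal in `L` then `|L : I|` divides `|N|` -/
theorem relIndex_dvd_card_of_prod {L N I : Subgroup G} (hNL : N ≤ L) (hIL : I ≤ L)
    (hn : L ≤ Subgroup.normalizer (N : Set G))
    (hprod : ∀ x ∈ L, ∃ b ∈ N, ∃ i ∈ I, x = b * i) : I.relIndex L ∣ Nat.card N := by
  haveI hNn : (N.subgroupOf L).Normal :=
    (Subgroup.normal_subgroupOf_iff_le_normalizer hNL).mpr hn
  have htop : I.subgroupOf L ⊔ N.subgroupOf L = ⊤ := by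
    rw [eq_top_iff]
    intro x _
    obtain ⟨b, hb, i, hi, hx⟩ := hprod x x.2
    have hx' : x = (⟨b, hNL hb⟩ : ↥L) * ⟨i, hIL hi⟩ := Subtype.ext hx
    rw [hx']
    exact Subgroup.mul_mem _ (Subgroup.mem_sup_right (Subgroup.mem_subgroupOf.mpr hb))
      (Subgroup.mem_sup_left (Subgroup.mem_subgroupOf.mpr hi))
  have h1 := card_sup_mul_card_inf_normal' (I.subgroupOf L) (N.subgroupOf L)
  rw [htop, Subgroup.card_top] at h1
  have h2 : Nat.card (I.subgroupOf L) * (I.subgroupOf L).index = Nat.card ↥L :=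
    Subgroup.card_mul_index _
  have h3 : (I.subgroupOf L).index *
      Nat.card ↥(I.subgroupOf L ⊓ N.subgroupOf L : Subgroup ↥L) = Nat.card (N.subgroupOf L) := by
    have hpos : 0 < Nat.card (I.subgroupOf L) := Nat.card_pos
    apply Nat.eq_of_mul_eq_mul_left hpos
    rw [← mul_assoc, h2, h1]
  rw [card_subgroupOf_of_le hNL] at h3
  exact ⟨_, h3.symm⟩

/-- if `L = N I`, `N` normal in `L` and `p ∤ |N|`, then every `p`-subgroup of `L` is conjugate
into `I` -/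
theorem exists_cj_le_of_prod {p : ℕ} [hp : Fact p.Prime] {L N I A : Subgroup G} (hNL : N ≤ L)
    (hIL : I ≤ L) (hn : L ≤ Subgroup.normalizer (N : Set G))
    (hprod : ∀ x ∈ L, ∃ b ∈ N, ∃ i ∈ I, x = b * i) (hpN : ¬ p ∣ Nat.card N)
    (hAL : A ≤ L) (hA : IsPGroup p A) : ∃ n ∈ L, BG7.cj n A ≤ I := by
  obtain ⟨S₁, hS₁, -⟩ := BT.exists_isMaxP_ge (p := p) (Y := ⊥) (H := I) IsPGroup.of_bot bot_le
  have h1 : ¬ p ∣ S₁.relIndex I := not_dvd_relIndex_of_isMaxP hS₁
  have h2 : ¬ p ∣ I.relIndex L := fun h =>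
    hpN (h.trans (relIndex_dvd_card_of_prod hNL hIL hn hprod))
  have h3 : ¬ p ∣ S₁.relIndex L := by
    rw [← Subgroup.relIndex_mul_relIndex S₁ I L hS₁.1 hIL]
    intro h
    rcases (Nat.Prime.dvd_mul hp.out).mp h with h | h
    · exact h1 h
    · exact h2 h
  obtain ⟨n, hn', hle⟩ := Helper3.BG10.exists_cj_le_of_not_dvd hS₁.2.1 h3 hAL hA
  exact ⟨n, hn', hle.trans hS₁.1⟩

omit [Finite G] in
/-- if `L = N I` with `N` normal in `L` then `L' ≤ N I'` -/
theorem commutator_le_of_prod {L N I : Subgroup G} (hNL : N ≤ L) (hIL : I ≤ L)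
    (hn : L ≤ Subgroup.normalizer (N : Set G))
    (hprod : ∀ x ∈ L, ∃ b ∈ N, ∃ i ∈ I, x = b * i) : ⁅L, L⁆ ≤ N ⊔ ⁅I, I⁆ := by
  rw [Subgroup.commutator_le]
  intro x hx y hy
  obtain ⟨b, hb, i, hi, rfl⟩ := hprod x hx
  obtain ⟨c, hc, j, hj, rfl⟩ := hprod y hy
  have hconj : ∀ n ∈ N, ∀ l ∈ L, l * n * l⁻¹ ∈ N := fun n hn' l hl =>
    (Subgroup.mem_normalizer_iff.mp (hn hl) n).mp hn'
  have hiL := hIL hi
  have hjL := hIL hj
  have e : ⁅b * i, c * j⁆ = b * (i * c * i⁻¹) * ((i * j * i⁻¹) * b⁻¹ * (i * j * i⁻¹)⁻¹) *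
      (⁅i, j⁆ * c⁻¹ * ⁅i, j⁆⁻¹) * ⁅i, j⁆ := by
    simp only [commutatorElement_def]; group
  rw [e]
  refine Subgroup.mul_mem _ (Subgroup.mem_sup_left ?_)
    (Subgroup.mem_sup_right (Subgroup.commutator_mem_commutator hi hj))
  refine N.mul_mem (N.mul_mem (N.mul_mem hb (hconj c hc i hiL))
    (hconj _ (N.inv_mem hb) _ ?_)) (hconj _ (N.inv_mem hc) _ ?_)
  · exact L.mul_mem (L.mul_mem hiL hjL) (L.inv_mem hiL)
  · rw [commutatorElement_def]
    exact L.mul_mem (L.mul_mem (L.mul_mem hiL hjL) (L.inv_mem hiL)) (L.inv_mem hjL)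

/-- a prime divisor of the order of a subgroup of `N C` (with `C` normalizing `N`) divides
`|N|` or `|C|` -/
theorem prime_dvd_of_le_sup {r : ℕ} (hr : r.Prime) {N C K : Subgroup G}
    (hCN : C ≤ Subgroup.normalizer (N : Set G)) (hK : K ≤ N ⊔ C) (hrK : r ∣ Nat.card K) :
    r ∣ Nat.card N ∨ r ∣ Nat.card C := by
  haveI : Fact r.Prime := ⟨hr⟩
  obtain ⟨x, hx⟩ := exists_prime_orderOf_dvd_card' r hrK
  have hxK : (x : G) ∈ N ⊔ C := hK x.2
  have hx' : orderOf (x : G) = r := by rw [Subgroup.orderOf_coe]; exact hx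
  have h1 : (x : G) ∈ ((N ⊔ C : Subgroup G) : Set G) := hxK
  rw [Subgroup.coe_mul_of_right_le_normalizer_left N C hCN] at h1
  obtain ⟨n, hn, c, hc, hnc⟩ := h1
  have hpow : ∀ k : ℕ, c ^ k ∈ Subgroup.normalizer (N : Set G) := fun k =>
    hCN (C.pow_mem hc k)
  obtain ⟨n', hn', he⟩ := Lead.BGM.pow_mul_mem (X := N) hn hpow (Nat.card C)
  have hc1 : c ^ Nat.card C = 1 := by
    have h2 : (⟨c, hc⟩ : ↥C) ^ Nat.card ↥C = 1 := pow_card_eq_one'
    have h3 := congrArg Subtype.val h2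
    rwa [Subgroup.coe_pow, Subgroup.coe_one] at h3
  have hn1 : n' ^ Nat.card N = 1 := by
    have h2 : (⟨n', hn'⟩ : ↥N) ^ Nat.card ↥N = 1 := pow_card_eq_one'
    have h3 := congrArg Subtype.val h2
    rwa [Subgroup.coe_pow, Subgroup.coe_one] at h3
  have h4 : (x : G) ^ (Nat.card C * Nat.card N) = 1 := by
    have hnc' : (x : G) = n * c := hnc.symm
    rw [pow_mul, hnc', he, hc1, mul_one, hn1]
  have h5 : r ∣ Nat.card C * Nat.card N := hx' ▸ orderOf_dvd_of_pow_eq_one h4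
  rcases (Nat.Prime.dvd_mul hr).mp h5 with h | h
  · exact Or.inr h
  · exact Or.inl h

/-- if `L = N I` with `N` normal in `L`, a prime divisor of `|L'|` divides `|N|` or `|I'|` -/
theorem prime_dvd_of_prod {r : ℕ} (hr : r.Prime) {L N I : Subgroup G} (hNL : N ≤ L)
    (hIL : I ≤ L) (hn : L ≤ Subgroup.normalizer (N : Set G))
    (hprod : ∀ x ∈ L, ∃ b ∈ N, ∃ i ∈ I, x = b * i) (hrL : r ∣ Nat.card ↥⁅L, L⁆) :
    r ∣ Nat.card N ∨ r ∣ Nat.card ↥⁅I, I⁆ := by
  refine prime_dvd_of_le_sup hr ?_ (commutator_le_of_prod hNL hIL hn hprod) hrL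
  exact (Helper7.BGB.comm_le_self I).trans (hIL.trans hn)

end Cfsg.Agent.Lib.Helper3.BG13
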