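import Mathlib
import Cfsg.Agent.Lib.Helper3.BG13b

set_option autoImplicit false
set_option maxHeartbeats 4000000
set_option linter.unusedVariables false
set_option linter.unusedSectionVars false
set_option linter.style.longLine false
set_option linter.unusedSimpArgs false
set_option linter.deprecated false
set_option linter.style.haveILetI false

/-!
# B&G 12.17(d)(1): `L = L_β N_L(S)` for a common `σ`-prime of two non-conjugate maximal subgroups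
-/

open scoped commutatorElement Pointwise
universe u
namespace Cfsg.Agent.Lib.Helper3.BG13

open Cfsg Cfsg.Agent.Lib.Helper1 Cfsg.Agent.Lib.Helper7.BGRows

variable {G : Type u} [Group G] [Finite G]

theorem isMaxP_top_cj {p : ℕ} {S : Subgroup G} (h : BG8.IsMaxP p S ⊤) (g : G) :
    BG8.IsMaxP p (BG7.cj g S) ⊤ := by
  have := BT.isMaxP_cj h g
  rwa [Helper7.BGE.cj_top] at this

/-- `β(L) ⊆ σ(L)` on the level of cores -/
theorem betaCore_le_sigmaCore (hG : IsMinSimpleOddOrder G) {L : Subgroup G} (hL : IsCoatom L) :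
    piCoreOf (beta L) L ≤ sigmaCore L := by
  have h : beta L ⊆ sigma L := fun p hp => BT.alpha_subset_sigma hG hL hp.1
  exact BG8.piCoreOf_mono h L

/-- `L_σ = L_β H` for a Hall `β(L)'`-subgroup `H` of `L_σ`. -/
theorem sigmaCore_eq_prod (hG : IsMinSimpleOddOrder G) {L : Subgroup G} (hL : IsCoatom L)
    {Hn : Subgroup G}
    (hHn : IsPiHallOf {q | q.Prime ∧ q ∉ beta L} Hn (sigmaCore L)) :
    ∀ m ∈ sigmaCore L, ∃ b ∈ piCoreOf (beta L) L, ∃ h ∈ Hn, m = b * h := by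
  obtain ⟨hβHall, -, -, -, -⟩ := Cfsg.Agent.S1414.result hG L hL
  have hβσ := betaCore_le_sigmaCore hG hL
  have hσL : sigmaCore L ≤ L := Helper3.BG12.sigmaCore_le L
  have hKσ : piCoreOf (beta L) L ⊔ Hn ≤ sigmaCore L := sup_le hβσ hHn.1
  have hrel : (piCoreOf (beta L) L ⊔ Hn).relIndex (sigmaCore L) = 1 := by
    rw [Nat.eq_one_iff_not_exists_prime_dvd]
    intro r hr hrd
    by_cases hrβ : r ∈ beta L
    · have h1 : (piCoreOf (beta L) L ⊔ Hn).relIndex (sigmaCore L) ∣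
          (piCoreOf (beta L) L).relIndex (sigmaCore L) :=
        Subgroup.relIndex_dvd_of_le_left _ le_sup_left
      have h2 : (piCoreOf (beta L) L).relIndex (sigmaCore L) ∣
          (piCoreOf (beta L) L).relIndex L := by
        rw [← Subgroup.relIndex_mul_relIndex _ _ _ hβσ hσL]
        exact Dvd.intro _ rfl
      exact hβHall.2.2 r hr hrβ (hrd.trans (h1.trans h2))
    · have h1 : (piCoreOf (beta L) L ⊔ Hn).relIndex (sigmaCore L) ∣
          Hn.relIndex (sigmaCore L) :=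
        Subgroup.relIndex_dvd_of_le_left _ le_sup_right
      exact hHn.2.2 r hr ⟨hr, hrβ⟩ (hrd.trans h1)
  have hle : sigmaCore L ≤ piCoreOf (beta L) L ⊔ Hn := Subgroup.relIndex_eq_one.mp hrel
  have hHnN : Hn ≤ Subgroup.normalizer ((piCoreOf (beta L) L : Subgroup G) : Set G) :=
    (hHn.1.trans hσL).trans (BG7.le_normalizer_piCoreOf (beta L) L)
  intro m hm
  have h1 : m ∈ ((piCoreOf (beta L) L ⊔ Hn : Subgroup G) : Set G) := hle hm
  rw [Subgroup.coe_mul_of_right_le_normalizer_left _ Hn hHnN] at h1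
  obtain ⟨b, hb, h, hh, hbh⟩ := h1
  exact ⟨b, hb, h, hh, hbh.symm⟩

/-- **B&G 12.17(d)(1)**: if `q ∈ σ(M) ∩ σ(L)`, `L` not conjugate to `M` and `S` is a Sylow
`q`-subgroup of `L`, then `L = L_β N_L(S)`. -/
theorem d1 (hG : IsMinSimpleOddOrder G) {M L : Subgroup G} (hM : IsCoatom M) (hL : IsCoatom L)
    (hnc : ∀ g : G, L ≠ BG7.cj g M) {q : ℕ} [hq : Fact q.Prime] (hqM : q ∈ sigma M)
    (hqL : q ∈ sigma L) {S : Subgroup G} (hS : BG8.IsMaxP q S L) :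
    ∀ x ∈ L, ∃ b ∈ piCoreOf (beta L) L, ∃ n ∈ L ⊓ Subgroup.normalizer (S : Set G),
      x = b * n := by
  classical
  have hq' := hq.out
  have hqβ : q ∉ beta L := fun hβ =>
    Helper2.BGH.sigma_alpha_disjoint hG hM hL hnc hqM hβ.1
  obtain ⟨-, -, -, ⟨Hn, hHnHall, hHnnil⟩, -⟩ := Cfsg.Agent.S1414.result hG L hL
  have hσL : sigmaCore L ≤ L := Helper3.BG12.sigmaCore_le L
  have hLnσ := Helper3.BG12.le_normalizer_sigmaCore L
  have hβL : piCoreOf (beta L) L ≤ L := BG7.piCoreOf_le (beta L) L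
  have hSσ : S ≤ sigmaCore L := Helper3.BG12.le_sigmaCore_of_isPGroup hG hL hqL hS.1 hS.2.1
  have hStop : BG8.IsMaxP q S ⊤ := (BT.sigma_sylow_le_commutator hG hL hqL hS).2.1
  have hprod := sigmaCore_eq_prod hG hL hHnHall
  have hLtop : L ≠ ⊤ := hL.1
  haveI hLs : Group.IsSolvable ↥L := BG7.isSolvable_of_ne_top hG hLtop
  haveI hσs : Group.IsSolvable ↥(sigmaCore L) := isSolvable_of_le hσL
  have hcopH : (Nat.card Hn).Coprime (Hn.relIndex (sigmaCore L)) := by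
    by_contra hc
    obtain ⟨r, hr, hr1, hr2⟩ := Nat.Prime.not_coprime_iff_dvd.mp hc
    exact hHnHall.2.2 r hr (hHnHall.2.1 r hr hr1) hr2
  have hcopS : ∀ g : G, (Nat.card (BG7.cj g S)).Coprime (Hn.relIndex (sigmaCore L)) := by
    intro g
    rw [BG7.card_cj]
    obtain ⟨a, ha⟩ := IsPGroup.iff_card.mp hS.2.1
    rw [ha]
    apply Nat.Coprime.pow_left
    rw [Nat.Prime.coprime_iff_not_dvd hq']
    exact hHnHall.2.2 q hq' ⟨hq', hqβ⟩
  -- every conjugate of `S` inside `L_σ` is `L_β`-conjugate into `Hn`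
  have hkey : ∀ g : G, BG7.cj g S ≤ sigmaCore L →
      ∃ b ∈ piCoreOf (beta L) L, BG7.cj (b⁻¹ * g) S ≤ Hn := by
    intro g hg
    obtain ⟨m, hm, hle⟩ := Helper2.BGH.exists_cj_le_of_hall hHnHall.1 hg hcopH (hcopS g)
    obtain ⟨b, hb, h, hh, rfl⟩ := hprod m hm
    refine ⟨b, hb, ?_⟩
    rw [BG7.cj_mul, Helper2.BGH.cj_self_of_mem hh] at hle
    have := BG7.cj_mono (k := b⁻¹) hle
    rwa [BG7.cj_inv_cj, ← BG7.cj_mul] at this
  obtain ⟨b₀, hb₀, h0⟩ := hkey 1 (by rw [BG7.cj_one]; exact hSσ)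
  rw [mul_one] at h0
  obtain ⟨P₀, hP₀⟩ := (isMaxP_top_cj hStop b₀⁻¹).exists_sylow_top
  have hHnN : Hn ≤ Subgroup.normalizer ((BG7.cj b₀⁻¹ S : Subgroup G) : Set G) := by
    have := Helper3.BG16.le_normalizer_sylow_of_nilpotent Hn hHnnil P₀ (hP₀ ▸ h0)
    rwa [hP₀] at this
  intro x hx
  have hxS : BG7.cj x S ≤ sigmaCore L := by
    have := BG7.cj_mono (k := x) hSσ
    rwa [BG7.cj_eq_of_mem_normalizer (hLnσ hx)] at this
  obtain ⟨b₁, hb₁, h1⟩ := hkey x hxS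
  -- the two Sylow subgroups of `Hn` coincide
  have hmax0 := isMaxP_top_cj hStop b₀⁻¹
  have hp1 : IsPGroup q (BG7.cj (b₁⁻¹ * x) S) := (isMaxP_top_cj hStop (b₁⁻¹ * x)).2.1
  have hsup : IsPGroup q (BG7.cj b₀⁻¹ S ⊔ BG7.cj (b₁⁻¹ * x) S : Subgroup G) :=
    IsPGroup.to_sup_of_normal_left' hmax0.2.1 hp1 (h1.trans hHnN)
  have heq1 : BG7.cj b₀⁻¹ S ⊔ BG7.cj (b₁⁻¹ * x) S = BG7.cj b₀⁻¹ S :=
    hmax0.2.2 _ hsup le_sup_left le_top
  have hle1 : BG7.cj (b₁⁻¹ * x) S ≤ BG7.cj b₀⁻¹ S := by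
    rw [← heq1]; exact le_sup_right
  have heq2 : BG7.cj (b₁⁻¹ * x) S = BG7.cj b₀⁻¹ S := by
    apply Subgroup.eq_of_le_of_card_ge hle1
    rw [BG7.card_cj, BG7.card_cj]
  have heq3 : BG7.cj (b₀ * (b₁⁻¹ * x)) S = S := by
    rw [BG7.cj_mul, heq2]
    have := BG9.cj_cj_inv b₀ S
    exact this
  have hnN : b₀ * (b₁⁻¹ * x) ∈ Subgroup.normalizer (S : Set G) :=
    BG7.mem_normalizer_of_cj_eq heq3
  have hnL : b₀ * (b₁⁻¹ * x) ∈ L :=
    L.mul_mem (hβL hb₀) (L.mul_mem (L.inv_mem (hβL hb₁)) hx)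
  refine ⟨b₁ * b₀⁻¹, Subgroup.mul_mem _ hb₁ (Subgroup.inv_mem _ hb₀), b₀ * (b₁⁻¹ * x),
    ⟨hnL, hnN⟩, ?_⟩
  group

end Cfsg.Agent.Lib.Helper3.BG13
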