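import Mathlib
import Cfsg.Agent.Lib.Helper3.BG13c

set_option autoImplicit false
set_option maxHeartbeats 4000000
set_option linter.unusedVariables false
set_option linter.unusedSectionVars false
set_option linter.style.longLine false
set_option linter.unusedSimpArgs false
set_option linter.deprecated false
set_option linter.style.haveILetI false

/-!
# B&G 12.17(e)(1),(e)(3) and 12.17(h) = (e)(2)
-/

open scoped commutatorElement Pointwise
universe u
namespace Cfsg.Agent.Lib.Helper3.BG13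

open Cfsg Cfsg.Agent.Lib.Helper1 Cfsg.Agent.Lib.Helper7.BGRows

variable {G : Type u} [Group G] [Finite G]

/-- an `E_{p²}` in `M` with `p ∉ σ(M)` forces `p ∈ τ₂(M)` -/
theorem tau2_of_sq (hG : IsMinSimpleOddOrder G) {M : Subgroup G} (hM : IsCoatom M) {p : ℕ}
    [hp : Fact p.Prime] (hpσ : p ∉ sigma M) {A : Subgroup G} (hAM : A ≤ M)
    (hAe : IsElementaryAbelian p A) (hA2 : Nat.card A = p ^ 2) : p ∈ tau2 M := by
  refine ⟨hp.out, hpσ, ?_, BG9.not_pRankLE_of_elementary hp.out hAM hAe (by rw [hA2])⟩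
  by_contra h
  exact hpσ (BT.alpha_subset_sigma hG hM ⟨hp.out, h⟩)

omit [Finite G] in
/-- a complement inside `I` gives the product decomposition `L = N I` -/
theorem prod_of_compl {E N L I : Subgroup G} (hE : IsComplIn E N L) (hEI : E ≤ I) :
    ∀ x ∈ L, ∃ b ∈ N, ∃ i ∈ I, x = b * i := by
  intro x hx
  obtain ⟨a, ha, b, hb, h⟩ := hE.2.2.2 x⁻¹ (L.inv_mem hx)
  refine ⟨b⁻¹, N.inv_mem hb, a⁻¹, I.inv_mem (hEI ha), ?_⟩
  rw [← mul_inv_rev, ← h, inv_inv]

/-- **B&G 12.17(e)(1),(e)(3)**: in the situation of S1424 with `q ∉ σ(L)`: `q ∈ τ₂(L)` and some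
complement of `L_σ` in `L` lies in `M`. -/
theorem e13 (hG : IsMinSimpleOddOrder G) {M L : Subgroup G} (hM : IsCoatom M) (hL : IsCoatom L)
    {q : ℕ} [hq : Fact q.Prime] (hqM : q ∈ sigma M) (hqL : q ∉ sigma L) {X S : Subgroup G}
    (hX1 : X ≠ ⊥) (hNX : Subgroup.normalizer (X : Set G) ≤ L) (hXS : X ≤ S)
    (hS : BG8.IsMaxP q S L) (hSM : S ≤ M) :
    q ∈ tau2 L ∧ ∃ B E : Subgroup G, B ≤ S ∧ IsElementaryAbelian q B ∧ Nat.card B = q ^ 2 ∧
      IsComplIn E (sigmaCore L) L ∧ B ≤ E ∧ E ≤ M := by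
  have hq' := hq.out
  have hqG : q ∣ Nat.card G := hqM.2.1.trans (Subgroup.card_subgroup_dvd_card M)
  have hq2 : q ≠ 2 := BG9.odd_prime_of_dvd hG hqG
  have hS1 : S ≠ ⊥ := fun h => hX1 (le_bot_iff.mp (h ▸ hXS))
  have hSnc : ¬ IsCyclic ↥S := by
    intro hc
    have hle := BGG.normalizer_le_of_isCyclic hc hXS
    exact hqL (Helper3.BG12.mem_sigma_of_isMaxP hS hS1 (hle.trans hNX))
  have hr1 : ¬ PRankLE q 1 ↥L := fun h =>
    hSnc (Helper7.BGB.isCyclic_of_pRankLE_one hq2 hS.1 hS.2.1 h)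
  have hr2 : PRankLE q 2 ↥L := by
    by_contra h
    exact hqL (BT.alpha_subset_sigma hG hL ⟨hq', h⟩)
  have hτ : q ∈ tau2 L := ⟨hq', hqL, hr2, hr1⟩
  obtain ⟨B₀, hB₀L, hB₀e, hB₀2⟩ := Helper7.BGD.exists_sq_of_rank hr2 hr1
  obtain ⟨m, hm, hBm⟩ := BT.exists_cj_ge hS (BG9.isPGroup_of_isElementaryAbelian hB₀e) hB₀L
  obtain ⟨B, hB⟩ : ∃ B, B = BG7.cj m⁻¹ B₀ := ⟨_, rfl⟩
  have hBS : B ≤ S := by
    rw [hB]
    have := BG7.cj_mono (k := m⁻¹) hBm
    rwa [BG7.cj_inv_cj] at this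
  have hBe : IsElementaryAbelian q B := hB ▸ BG9.isElementaryAbelian_cj m⁻¹ hB₀e
  have hB2 : Nat.card B = q ^ 2 := by rw [hB, BG7.card_cj, hB₀2]
  have hBM := hBS.trans hSM
  have hBL := hBS.trans hS.1
  have hBp := BG9.isPGroup_of_isElementaryAbelian hBe
  obtain ⟨E, hE, hBE⟩ := BGG.exists_compl_ge hG hL hBL (by
    intro r hr hrB hrσ
    have : r = q := BGG.prime_eq_of_dvd_card_pgroup hBp hr hrB
    exact hqL (this ▸ hrσ))
  have h18 := Cfsg.Agent.S1418.result hG L hL E hE q hτ B ⟨hBE, hBe, hB2⟩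
  have hEN : E ≤ Subgroup.normalizer (B : Set G) := h18.1.1
  obtain ⟨E', hE'⟩ := BGG.exists_compl hG hM
  have h20 := Cfsg.Agent.S1420.result hG M hM E' hE'
  have hBnc : ¬ IsCyclic ↥B := BG9.not_isCyclic_of_elementary hq' le_rfl hBe (by rw [hB2])
  have hNB : Subgroup.normalizer (B : Set G) ≤ M := h20.2.2.1 q B hqM hBp hBM hBnc
  exact ⟨hτ, B, E, hBS, hBe, hB2, hE, hBE, hEN.trans hNB⟩

/-- a `q`-subgroup of `X` lies in `O_{p'}(X)` when `q ∤ |X : O_{p'}(X)|` -/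
theorem le_ne_core_of_not_dvd_index {X : Subgroup G} {q p : ℕ} [hq : Fact q.Prime]
    [hp : Fact p.Prime] (h : ¬ q ∣ (pPrimeCore p ↥X).index) {B : Subgroup G} (hBX : B ≤ X)
    (hB : IsPGroup q B) : B ≤ piCoreOf (BG8.ne p) X := by
  rw [BG9.piCoreOf_ne_eq_map p X]
  intro b hb
  obtain ⟨k, hk⟩ := hB ⟨b, hb⟩
  refine ⟨⟨b, hBX hb⟩, ?_, rfl⟩
  apply Lead.BGM.mem_of_coprime_index (pPrimeCore p ↥X) (n := q ^ k)
  · apply Subtype.ext
    have := congrArg Subtype.val hk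
    simpa using this
  · exact Nat.Coprime.pow_left k ((Nat.Prime.coprime_iff_not_dvd hq.out).mpr h)

/-- **B&G 12.17(h)** (= (e)(2)): `M, L` not conjugate, `q ∈ σ(M) ∩ τ₂(L)`, `B ≅ E_{q²}` in
`M ∩ L`.  Then `π(M) ∩ σ(L) ⊆ β(L)`. -/
theorem h_beta (hG : IsMinSimpleOddOrder G) {M L : Subgroup G} (hM : IsCoatom M)
    (hL : IsCoatom L) (hnc : ∀ g : G, L ≠ BG7.cj g M) {q : ℕ} [hq : Fact q.Prime]
    (hqM : q ∈ sigma M) (hqL : q ∈ tau2 L) {B : Subgroup G} (hBM : B ≤ M) (hBL : B ≤ L)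
    (hBe : IsElementaryAbelian q B) (hB2 : Nat.card B = q ^ 2) {p : ℕ} [hp : Fact p.Prime]
    (hpM : p ∣ Nat.card M) (hpL : p ∈ sigma L) : p ∈ beta L := by
  classical
  by_contra hpβ
  have hq' := hq.out
  have hp' := hp.out
  have hBp : IsPGroup q B := BG9.isPGroup_of_isElementaryAbelian hBe
  have h17 := Cfsg.Agent.S1417.result hG L hL q hqL B ⟨hBL, hBe, hB2⟩
  have hnilL : Group.IsNilpotent ↥(sigmaCore L) := h17.1
  have hCB : sigmaCore L ⊓ Subgroup.centralizer (B : Set G) = ⊥ := h17.2.2.2.1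
  have hqp : q ≠ p := fun h => hqL.2.1 (h ▸ hpL)
  -- Part 1: `q ≤ p`
  have h14L := ((Cfsg.Agent.S1414.result hG L hL).2.2.2.2 p hp' hpL.2.1 hpβ).2.2
  have hqle : q ≤ p := by
    apply h14L q hq'
    by_contra hnd
    have hBO : B ≤ piCoreOf (BG8.ne p) L := le_ne_core_of_not_dvd_index hnd hBL hBp
    obtain ⟨P, hP, -⟩ := BT.exists_isMaxP_ge (p := p) (Y := ⊥) (H := L) IsPGroup.of_bot bot_le
    have hP1 : P ≠ ⊥ := Helper3.BG12.isMaxP_ne_bot hP hpL.2.1
    have hPσ : P ≤ sigmaCore L := Helper3.BG12.le_sigmaCore_of_isPGroup hG hL hpL hP.1 hP.2.1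
    have hPσmax : BG8.IsMaxP p P (sigmaCore L) := hP.mono hPσ (Helper3.BG12.sigmaCore_le L)
    have hLNP : L ≤ Subgroup.normalizer (P : Set G) :=
      (Helper3.BG12.le_normalizer_sigmaCore L).trans
        (Helper2.BGH.normalizer_le_of_nilpotent_sylow hPσmax hnilL)
    have hPT : P ≤ piCoreOf {p} L := BG8.le_piCoreOf_singleton hP.1 hLNP hP.2.1
    have hcomm : piCoreOf (BG8.ne p) L ≤
        Subgroup.centralizer ((piCoreOf {p} L : Subgroup G) : Set G) :=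
      BG8.piCoreOf_commute L (by
        intro r hr1 hr2
        exact hr1 hr2)
    have hPB : P ≤ Subgroup.centralizer (B : Set G) := by
      apply BG9.le_centralizer_symm
      exact (hBO.trans hcomm).trans (Subgroup.centralizer_le hPT)
    have h1 : P ≤ sigmaCore L ⊓ Subgroup.centralizer (B : Set G) := le_inf hPσ hPB
    rw [hCB] at h1
    exact hP1 (le_bot_iff.mp h1)
  -- Part 2: `p ≤ q`
  have hpσM : p ∉ sigma M := fun h => sigma_disjoint_of_nilpotent hG hM hL hnc hnilL h hpL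
  have hqni : ¬ IsIdealPrime q G := (BT.s1408 hG hL hqL.2.2.1 hqL.2.2.2).1
  have hqβM : q ∉ beta M := fun h => hqni h.2
  have h14M := ((Cfsg.Agent.S1414.result hG M hM).2.2.2.2 q hq' hqM.2.1 hqβM).2.2
  have hple : p ≤ q := by
    apply h14M p hp'
    by_contra hnd
    obtain ⟨Z, hZM, hZ⟩ := Helper2.BGH.exists_prime_card_le (K := M) hpM
    have hZp : IsPGroup p Z := IsPGroup.of_card (n := 1) (by rw [hZ, pow_one])
    have hZO : Z ≤ piCoreOf (BG8.ne q) M := le_ne_core_of_not_dvd_index hnd hZM hZp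
    have hσM := Helper3.BG12.sigmaCore_le M
    have hZN : Z ≤ Subgroup.normalizer (sigmaCore M : Set G) :=
      hZM.trans (Helper3.BG12.le_normalizer_sigmaCore M)
    have hcopZ : (Nat.card Z).Coprime (Nat.card (sigmaCore M)) := by
      apply Helper7.BGD.coprime_sigmaCore hG hM
      intro r hr hrZ hrσ
      rw [hZ] at hrZ
      have : r = p := (Nat.prime_dvd_prime_iff_eq hr hp').mp hrZ
      exact hpσM (this ▸ hrσ)
    have hMtop : M ≠ ⊤ := hM.1
    haveI hMs : Group.IsSolvable ↥M := BG7.isSolvable_of_ne_top hG hMtop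
    haveI hσs : Group.IsSolvable ↥(sigmaCore M) := isSolvable_of_le hσM
    obtain ⟨T₀, hT₀⟩ := coprime_exists_invariant_sylow Z (sigmaCore M) hZN hcopZ (Or.inr hσs) q
    obtain ⟨T, hT⟩ : ∃ T, T = (T₀ : Subgroup ↥(sigmaCore M)).map (sigmaCore M).subtype :=
      ⟨_, rfl⟩
    rw [← hT] at hT₀
    have hTmax : BG8.IsMaxP q T (sigmaCore M) := hT ▸ BG8.isMaxP_of_sylow T₀
    have hBσ : B ≤ sigmaCore M := Helper3.BG12.le_sigmaCore_of_isPGroup hG hM hqM hBM hBp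
    obtain ⟨m, hm, hBm⟩ := BT.exists_cj_ge hTmax hBp hBσ
    have hc1 : ⁅T, Z⁆ ≤ T := BG8.commutator_le_of_le_normalizer hT₀
    have hc2 : ⁅T, Z⁆ ≤ piCoreOf (BG8.ne q) M := by
      have h1 : ⁅T, Z⁆ ≤ ⁅M, piCoreOf (BG8.ne q) M⁆ :=
        Subgroup.commutator_mono (hTmax.1.trans hσM) hZO
      refine h1.trans ?_
      rw [Subgroup.commutator_comm]
      exact BG8.commutator_le_of_le_normalizer (BG7.le_normalizer_piCoreOf _ M)
    have hc3 : ⁅T, Z⁆ = ⊥ := by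
      apply BG8.eq_bot_of_le_of_coprime hc2
      have hcq : IsPGroup q ↥⁅T, Z⁆ := hTmax.2.1.to_le hc1
      obtain ⟨a, ha⟩ := IsPGroup.iff_card.mp hcq
      rw [ha]
      exact Nat.Coprime.pow_left _ (BG8.piCoreOf_ne_coprime q M).symm
    have hTZ : T ≤ Subgroup.centralizer (Z : Set G) :=
      Subgroup.commutator_eq_bot_iff_le_centralizer.mp hc3
    have hZB : BG7.cj m Z ≤ Subgroup.centralizer (B : Set G) := by
      apply BG9.le_centralizer_symm
      intro b hb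
      have h1 : m⁻¹ * b * m ∈ T := BG7.mem_cj.mp (hBm hb)
      have h2 := Helper3.BG10.conj_mem_centralizer_cj (y := m) (hTZ h1)
      have e : m * (m⁻¹ * b * m) * m⁻¹ = b := by group
      rwa [e] at h2
    obtain ⟨Es, hEs, hBEs⟩ := BGG.exists_compl_ge hG hL hBL (by
      intro r hr hrB hrσ
      have : r = q := BGG.prime_eq_of_dvd_card_pgroup hBp hr hrB
      exact hqL.2.1 (this ▸ hrσ))
    have h18 := Cfsg.Agent.S1418.result hG L hL Es hEs q hqL B ⟨hBEs, hBe, hB2⟩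
    have hCBE : Subgroup.centralizer (B : Set G) ≤ Es := by
      have h1 := h18.2.1.1
      have h2 := h18.2.1.2.1
      rw [h2] at h1
      exact h1
    have hZE : BG7.cj m Z ≤ Es := hZB.trans hCBE
    have hdvd : p ∣ Nat.card Es := by
      have := Subgroup.card_dvd_of_le hZE
      rwa [BG7.card_cj, hZ] at this
    exact Helper7.BGD.compl_not_sigma hG hL hEs p hp' hdvd hpL
  exact hqp (le_antisymm hqle hple)

end Cfsg.Agent.Lib.Helper3.BG13
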