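import Mathlib
import Cfsg.Agent.Lib.Helper3.BG13d

set_option autoImplicit false
set_option maxHeartbeats 4000000
set_option linter.unusedVariables false
set_option linter.unusedSectionVars false
set_option linter.style.longLine false
set_option linter.unusedSimpArgs false
set_option linter.deprecated false
set_option linter.style.haveILetI false

/-!
# B&G 13.1(b'): `p ∈ τ₂(H) ∩ π(M) - σ(M)`, `H` not conjugate to `M` ⇒ `M_σ ∩ H' = 1`
-/

open scoped commutatorElement Pointwise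
universe u
namespace Cfsg.Agent.Lib.Helper3.BG13

open Cfsg Cfsg.Agent.Lib.Helper1 Cfsg.Agent.Lib.Helper7.BGRows

variable {G : Type u} [Group G] [Finite G]

/-- **(b')**: if `p ∈ τ₂(H)`, `p ∣ |M|`, `p ∉ σ(M)` and `H` is not conjugate to `M`, then
`M_σ ∩ H' = 1`. -/
theorem bprime (hG : IsMinSimpleOddOrder G) {M H : Subgroup G} (hM : IsCoatom M)
    (hH : IsCoatom H) (hne : ∀ g : G, H ≠ BG7.cj g M) {p : ℕ} [hp : Fact p.Prime]
    (hp2 : p ∈ tau2 H) (hpM : p ∣ Nat.card M) (hpσ : p ∉ sigma M) :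
    sigmaCore M ⊓ ⁅H, H⁆ = ⊥ := by
  classical
  by_contra hR₀
  have hp' := hp.out
  obtain ⟨R₀, hR₀def⟩ : ∃ R₀, R₀ = sigmaCore M ⊓ ⁅H, H⁆ := ⟨_, rfl⟩
  rw [← hR₀def] at hR₀
  have hR₀σ : R₀ ≤ sigmaCore M := hR₀def ▸ inf_le_left
  have hR₀H' : R₀ ≤ ⁅H, H⁆ := hR₀def ▸ inf_le_right
  have hR₀H : R₀ ≤ H := hR₀H'.trans (Helper7.BGB.comm_le_self H)
  have hHM : H ≠ M := ne_of_nonconj hne
  obtain ⟨A₁, hA₁H, hA₁e, hA₁2⟩ := Helper7.BGD.exists_sq_of_rank hp2.2.2.1 hp2.2.2.2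
  have h17H := Cfsg.Agent.S1417.result hG H hH p hp2 A₁ ⟨hA₁H, hA₁e, hA₁2⟩
  have hnilH : Group.IsNilpotent ↥(sigmaCore H) := h17H.1
  have hpni : ¬ IsIdealPrime p G := (BT.s1408 hG hH hp2.2.2.1 hp2.2.2.2).1
  obtain ⟨hHallM, -, -⟩ := Helper7.BGA.s1350 hG M hM
  have hR₀π : ∀ r : ℕ, r.Prime → r ∣ Nat.card R₀ → r ∈ sigma M := fun r hr hrd =>
    hHallM.2.1 r hr (hrd.trans (Subgroup.card_dvd_of_le hR₀σ))
  have hR₀σH : ∀ r : ℕ, r.Prime → r ∣ Nat.card R₀ → r ∉ sigma H := by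
    intro r hr hrd hrH
    haveI : Fact r.Prime := ⟨hr⟩
    exact sigma_disjoint_of_nilpotent hG hM hH hne hnilH (hR₀π r hr hrd) hrH
  obtain ⟨E, hE, hR₀E⟩ := BGG.exists_compl_ge hG hH hR₀H hR₀σH
  have hEH : E ≤ H := hE.1
  have hσH : sigmaCore H ≤ H := Helper3.BG12.sigmaCore_le H
  have hHnσ := Helper3.BG12.le_normalizer_sigmaCore H
  have hR₀E' : R₀ ≤ ⁅E, E⁆ := by
    intro x hx
    have h1 : x ∈ sigmaCore H ⊔ ⁅E, E⁆ :=
      commutator_le_of_prod hσH hEH hHnσ (prod_of_compl hE le_rfl) (hR₀H' hx)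
    exact Helper7.BGD.mem_of_mem_sup (Helper7.BGB.comm_le_self E) hE.2.2.1
      ((Helper7.BGB.comm_le_self E).trans (hEH.trans hHnσ)) (hR₀E hx) h1
  have hcopA₁ : (Nat.card A₁).Coprime (Nat.card (sigmaCore H)) := by
    apply Helper7.BGD.coprime_sigmaCore hG hH
    intro r hr hrA hrσ
    have : r = p :=
      BGG.prime_eq_of_dvd_card_pgroup (BG9.isPGroup_of_isElementaryAbelian hA₁e) hr hrA
    exact hp2.2.1 (this ▸ hrσ)
  obtain ⟨m, hm, hA₁m⟩ := Helper7.BGD.exists_cj_le hG hH hE hA₁H hcopA₁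
  obtain ⟨A, hA⟩ : ∃ A, A = BG7.cj m⁻¹ A₁ := ⟨_, rfl⟩
  have hAE : A ≤ E := by
    rw [hA]
    have := BG7.cj_mono (k := m⁻¹) hA₁m
    rwa [BG7.cj_inv_cj] at this
  have hAe : IsElementaryAbelian p A := hA ▸ BG9.isElementaryAbelian_cj m⁻¹ hA₁e
  have hA2 : Nat.card A = p ^ 2 := by rw [hA, BG7.card_cj, hA₁2]
  have hAH : A ≤ H := hAE.trans hEH
  have hAp := BG9.isPGroup_of_isElementaryAbelian hAe
  have h18 := Cfsg.Agent.S1418.result hG H hH E hE p hp2 A ⟨hAE, hAe, hA2⟩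
  have hEN : E ≤ Subgroup.normalizer (A : Set G) := h18.1.1
  have h20 := Cfsg.Agent.S1420.result hG H hH E hE
  have hE'c : IsMulCommutative ↥⁅E, E⁆ := h20.2.1
  have hR₀N : R₀ ≤ Subgroup.normalizer (A : Set G) := hR₀E.trans hEN
  have hcopR : (Nat.card R₀).Coprime (Nat.card A) := by
    rw [hA2]
    apply Nat.Coprime.pow_right
    rw [Nat.coprime_comm, Nat.Prime.coprime_iff_not_dvd hp']
    intro hd
    exact hpσ (hR₀π p hp' hd)
  have hHtop : H ≠ ⊤ := hH.1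
  haveI hHs : Group.IsSolvable ↥H := BG7.isSolvable_of_ne_top hG hHtop
  haveI hAs : Group.IsSolvable ↥A := isSolvable_of_le hAH
  have hXX : ⁅⁅A, R₀⁆, R₀⁆ = ⁅A, R₀⁆ :=
    coprime_commutator_commutator R₀ A hR₀N hcopR (Or.inr hAs)
  have hAR : ⁅A, R₀⁆ ≤ ⁅E, E⁆ := Subgroup.commutator_mono hAE hR₀E
  have hcomm0 : ⁅⁅A, R₀⁆, R₀⁆ = ⊥ := by
    rw [Subgroup.commutator_eq_bot_iff_le_centralizer]
    intro x hx
    rw [Subgroup.mem_centralizer_iff]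
    intro r hr
    haveI := hE'c
    exact Subgroup.mul_comm_of_mem_isMulCommutative ⁅E, E⁆ (hR₀E' hr) (hAR hx)
  have hAC : A ≤ Subgroup.centralizer (R₀ : Set G) := by
    rw [← Subgroup.commutator_eq_bot_iff_le_centralizer, ← hXX]
    exact hcomm0
  have hAnotM : ¬ A ≤ M := by
    intro hAM
    have hτ := tau2_of_sq hG hM hpσ hAM hAe hA2
    have h17 := Cfsg.Agent.S1417.result hG M hM p hτ A ⟨hAM, hAe, hA2⟩
    have hti : sigmaCore M ⊓ H = ⊥ := h17.2.2.2.2.1 H hH hHM hAH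
    apply hR₀
    rw [eq_bot_iff, ← hti]
    exact le_inf hR₀σ hR₀H
  have hcard : Nat.card R₀ ≠ 1 := by
    intro h
    exact hR₀ (Subgroup.card_eq_one.mp h)
  obtain ⟨q, hq', hqd⟩ := Nat.exists_prime_and_dvd hcard
  haveI hq : Fact q.Prime := ⟨hq'⟩
  obtain ⟨X, hXR, hX⟩ := Helper2.BGH.exists_prime_card_le (K := R₀) hqd
  have hqσ : q ∈ sigma M := hR₀π q hq' hqd
  have hXq : IsPGroup q X := IsPGroup.of_card (n := 1) (by rw [hX, pow_one])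
  have hX1 : X ≠ ⊥ := by
    intro h
    rw [h, Subgroup.card_bot] at hX
    exact hq'.one_lt.ne hX
  have hXtop : X ≠ ⊤ := BG7.pgroup_ne_top hG hXq
  have hNtop := BG7.normalizer_ne_top hG hX1 hXtop
  obtain ⟨Ms, hMs, hNMs⟩ : ∃ Ms, IsCoatom Ms ∧ Subgroup.normalizer (X : Set G) ≤ Ms := by
    rcases eq_top_or_exists_le_coatom (Subgroup.normalizer (X : Set G)) with h | h
    · exact absurd h hNtop
    · exact h
  have hXM : X ≤ M := (hXR.trans hR₀σ).trans (Helper3.BG12.sigmaCore_le M)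
  have hXMs : X ≤ Ms := Subgroup.le_normalizer.trans hNMs
  have hAMs : A ≤ Ms := by
    refine le_trans ?_ hNMs
    refine le_trans ?_ (Subgroup.centralizer_le_normalizer _)
    exact hAC.trans (Subgroup.centralizer_le hXR)
  have hneM : Ms ≠ M := fun h => hAnotM (h ▸ hAMs)
  obtain ⟨S₀, hXS₀⟩ := Helper7.BGD.exists_sylow_ge (M := M ⊓ Ms) hXq (le_inf hXM hXMs)
  obtain ⟨hnc0, hNS, hidx⟩ :=
    Cfsg.Agent.S1424.result hG M hM q hqσ X hXq hX1 hXM Ms hMs hneM hNMs S₀ hXS₀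
  obtain ⟨S, hS⟩ : ∃ S : Subgroup G,
      S = (S₀ : Subgroup ↥(M ⊓ Ms)).map (M ⊓ Ms).subtype := ⟨_, rfl⟩
  rw [← hS] at hNS hidx hXS₀
  have hSI : BG8.IsMaxP q S (M ⊓ Ms) := hS ▸ BG8.isMaxP_of_sylow S₀
  have hSM : S ≤ M := hSI.1.trans inf_le_left
  have hSMs : S ≤ Ms := hSI.1.trans inf_le_right
  have hSmax : BG8.IsMaxP q S Ms := BGG.isMaxP_of_not_dvd_relIndex hSMs hSI.2.1 hidx
  have hncMs : ∀ g : G, Ms ≠ BG7.cj g M := hnc0
  by_cases hqσs : q ∈ sigma Ms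
  · -- case (d)
    have hprod := d1 hG hM hMs hncMs hqσ hqσs hSmax
    have hprod' : ∀ x ∈ Ms, ∃ b ∈ piCoreOf (beta Ms) Ms, ∃ i ∈ M ⊓ Ms, x = b * i := by
      intro x hx
      obtain ⟨b, hb, n, hn, h⟩ := hprod x hx
      exact ⟨b, hb, n, ⟨hNS hn.2, hn.1⟩, h⟩
    have hpβ : ¬ p ∣ Nat.card (piCoreOf (beta Ms) Ms) := by
      intro hd
      exact hpni (BG7.piCoreOf_pi (beta Ms) Ms p hp' hd).2
    obtain ⟨n, hn, hle⟩ := exists_cj_le_of_prod (BG7.piCoreOf_le _ Ms) inf_le_right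
      (BG7.le_normalizer_piCoreOf _ Ms) hprod' hpβ hAMs hAp
    have hA'M : BG7.cj n A ≤ M := hle.trans inf_le_left
    have hA'e := BG9.isElementaryAbelian_cj n hAe
    have hA'2 : Nat.card (BG7.cj n A) = p ^ 2 := by rw [BG7.card_cj, hA2]
    have hτ := tau2_of_sq hG hM hpσ hA'M hA'e hA'2
    have h17 := Cfsg.Agent.S1417.result hG M hM p hτ (BG7.cj n A) ⟨hA'M, hA'e, hA'2⟩
    exact sigma_disjoint_of_nilpotent hG hMs hM (nonconj_symm hncMs) h17.1 hqσs hqσ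
  · -- case (e)
    obtain ⟨hτq, B, Es, hBS, hBe, hB2, hEs, hBEs, hEsM⟩ :=
      e13 hG hM hMs hqσ hqσs hX1 hNMs hXS₀ hSmax hSM
    by_cases hpσs : p ∈ sigma Ms
    · have := h_beta hG hM hMs hncMs hqσ hτq (hBS.trans hSM) (hBS.trans hSMs) hBe hB2 hpM hpσs
      exact hpni this.2
    · have hcopA : (Nat.card A).Coprime (Nat.card (sigmaCore Ms)) := by
        apply Helper7.BGD.coprime_sigmaCore hG hMs
        intro r hr hrA hrσ
        have : r = p := BGG.prime_eq_of_dvd_card_pgroup hAp hr hrA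
        exact hpσs (this ▸ hrσ)
      obtain ⟨m', hm', hAm'⟩ := Helper7.BGD.exists_cj_le hG hMs hEs hAMs hcopA
      have hA'Es : BG7.cj m'⁻¹ A ≤ Es := by
        have := BG7.cj_mono (k := m'⁻¹) hAm'
        rwa [BG7.cj_inv_cj] at this
      have hA'M : BG7.cj m'⁻¹ A ≤ M := hA'Es.trans hEsM
      have hA'Ms : BG7.cj m'⁻¹ A ≤ Ms := hA'Es.trans hEs.1
      have hA'e := BG9.isElementaryAbelian_cj m'⁻¹ hAe
      have hA'2 : Nat.card (BG7.cj m'⁻¹ A) = p ^ 2 := by rw [BG7.card_cj, hA2]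
      have hτ := tau2_of_sq hG hM hpσ hA'M hA'e hA'2
      have h17 := Cfsg.Agent.S1417.result hG M hM p hτ _ ⟨hA'M, hA'e, hA'2⟩
      have hti : sigmaCore M ⊓ Ms = ⊥ := h17.2.2.2.2.1 Ms hMs hneM hA'Ms
      have h1 : X ≤ sigmaCore M ⊓ Ms := le_inf (hXR.trans hR₀σ) hXMs
      rw [hti] at h1
      exact hX1 (le_bot_iff.mp h1)

end Cfsg.Agent.Lib.Helper3.BG13
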