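import Mathlib
import Cfsg.Agent.Lib.Helper3.BG13e
import Cfsg.Agent.Lib.Helper7.BGK1
import Cfsg.Agent.Lib.Helper1.HallComplement

set_option autoImplicit false
set_option maxHeartbeats 4000000
set_option linter.unusedVariables false
set_option linter.unusedSectionVars false
set_option linter.style.longLine false
set_option linter.unusedSimpArgs false
set_option linter.deprecated false
set_option linter.style.haveILetI false

/-!
# B&G Lemma 13.1(a), general form: `t`-subgroups of `M ∩ H` centralize `M_σ ∩ H`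
-/

open scoped commutatorElement Pointwise
universe u
namespace Cfsg.Agent.Lib.Helper3.BG13

open Cfsg Cfsg.Agent.Lib.Helper1 Cfsg.Agent.Lib.Helper7.BGRows

variable {G : Type u} [Group G] [Finite G]

theorem isNilpotent_cj {Hn : Subgroup G} (h : Group.IsNilpotent ↥Hn) (g : G) :
    Group.IsNilpotent ↥(BG7.cj g Hn) := by
  haveI := h
  exact Group.nilpotent_of_mulEquiv (Hn.equivMapOfInjective (MulAut.conj g).toMonoidHom
    (MulAut.conj g).injective)

/-- a `t`-subgroup of `H` lies in `H'` when `t ∈ τ₃(H)` -/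
theorem tau3_le_commutator (hG : IsMinSimpleOddOrder G) {H : Subgroup G} (hH : IsCoatom H)
    {t : ℕ} [ht : Fact t.Prime] (ht3 : t ∈ tau3 H) {T₁ : Subgroup G} (hT₁H : T₁ ≤ H)
    (hT₁ : IsPGroup t T₁) : T₁ ≤ ⁅H, H⁆ := by
  have ht' := ht.out
  obtain ⟨E, hE, hT₁E⟩ := BGG.exists_compl_ge hG hH hT₁H (by
    intro r hr hrT hrσ
    have : r = t := BGG.prime_eq_of_dvd_card_pgroup hT₁ hr hrT
    exact ht3.2.1 (this ▸ hrσ))
  have hEH : E ≤ H := hE.1
  have hHtop : H ≠ ⊤ := hH.1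
  haveI hHs : Group.IsSolvable ↥H := BG7.isSolvable_of_ne_top hG hHtop
  haveI hEs : Group.IsSolvable ↥E := isSolvable_of_le hEH
  obtain ⟨E₃, hE₃⟩ := Helper7.BGK.exists_isPiHallOf E hEs (tau3 H)
  have h15 := (Cfsg.Agent.S1415.result hG H hH E hE).2.2 E₃ hE₃
  have hE₃E' : E₃ ≤ ⁅E, E⁆ := h15.2.1
  have hcopE₃ : (Nat.card E₃).Coprime (E₃.relIndex E) := by
    by_contra hc
    obtain ⟨r, hr, hr1, hr2⟩ := Nat.Prime.not_coprime_iff_dvd.mp hc
    exact hE₃.2.2 r hr (hE₃.2.1 r hr hr1) hr2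
  have hcopT : (Nat.card T₁).Coprime (E₃.relIndex E) := by
    obtain ⟨a, ha⟩ := IsPGroup.iff_card.mp hT₁
    rw [ha]
    apply Nat.Coprime.pow_left
    rw [Nat.Prime.coprime_iff_not_dvd ht']
    exact hE₃.2.2 t ht' ht3
  obtain ⟨e, he, hle⟩ := Helper2.BGH.exists_cj_le_of_hall hE₃.1 hT₁E hcopE₃ hcopT
  have h1 : BG7.cj e E₃ ≤ BG7.cj e ⁅H, H⁆ :=
    BG7.cj_mono (hE₃E'.trans (Subgroup.commutator_mono hEH hEH))
  rw [BG7.cj_eq_of_mem_normalizer (Helper7.BGC.le_normalizer_commutator H (hEH he))] at h1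
  exact hle.trans h1

/-- **B&G Lemma 13.1(a)**, general form (no rank hypothesis on `M`). -/
theorem comm_eq_bot_gen (hG : IsMinSimpleOddOrder G) {M H : Subgroup G} (hM : IsCoatom M)
    (hH : IsCoatom H) (hne : ∀ g : G, H ≠ BG7.cj g M) {t : ℕ} [ht : Fact t.Prime]
    (htσ : t ∉ sigma M) {T₁ : Subgroup G} (hT1M : T₁ ≤ M) (hT1H : T₁ ≤ H)
    (hT₁ : IsPGroup t T₁) (htH : t ∈ sigma H ∨ t ∈ tau2 H ∨ t ∈ tau3 H) :
    ⁅sigmaCore M ⊓ H, T₁⁆ = ⊥ := by
  classical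
  have ht' := ht.out
  obtain ⟨hHallM, -, -⟩ := Helper7.BGA.s1350 hG M hM
  have hσM := Helper3.BG12.sigmaCore_le M
  have hMnσ := Helper3.BG12.le_normalizer_sigmaCore M
  have hHM : H ≠ M := ne_of_nonconj hne
  -- the commutator lies in `M_σ ∩ H'`
  have hWσ : ⁅sigmaCore M ⊓ H, T₁⁆ ≤ sigmaCore M := by
    have h1 : ⁅sigmaCore M ⊓ H, T₁⁆ ≤ ⁅sigmaCore M, M⁆ :=
      Subgroup.commutator_mono inf_le_left hT1M
    exact h1.trans (BG8.commutator_le_of_le_normalizer hMnσ)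
  have hWH' : ⁅sigmaCore M ⊓ H, T₁⁆ ≤ ⁅H, H⁆ := Subgroup.commutator_mono inf_le_right hT1H
  rcases htH with htH | htH | htH
  · -- `t ∈ σ(H)`
    refine Helper3.BG12.l123_sigma hG hM hH hHM hT1M hT1H hT₁ htH hσM hMnσ ?_
    intro q hq hqd
    have h1 := hHallM.2.1 q hq hqd
    exact ⟨h1, fun h => htσ (h ▸ h1)⟩
  · -- `t ∈ τ₂(H)`
    by_cases hT1 : T₁ = ⊥
    · rw [hT1]; exact Subgroup.commutator_bot_right _
    have htM : t ∣ Nat.card M :=
      (BG8.dvd_card_of_isPGroup_ne_bot hT₁ hT1).trans (Subgroup.card_dvd_of_le hT1M)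
    have hb := bprime hG hM hH hne htH htM htσ
    rw [eq_bot_iff, ← hb]
    exact le_inf hWσ hWH'
  · -- `t ∈ τ₃(H)`
    obtain ⟨D, hD⟩ : ∃ D, D = sigmaCore M ⊓ H := ⟨_, rfl⟩
    rw [← hD] at hWσ hWH' ⊢
    have hDσ : D ≤ sigmaCore M := hD ▸ inf_le_left
    have hT₁ND : T₁ ≤ Subgroup.normalizer (D : Set G) := by
      intro x hx
      rw [hD, Subgroup.mem_normalizer_iff]
      intro y
      have h1 := Subgroup.mem_normalizer_iff.mp (hMnσ (hT1M hx)) y
      have h2 : y ∈ H ↔ x * y * x⁻¹ ∈ H := by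
        constructor
        · intro hy
          exact H.mul_mem (H.mul_mem (hT1H hx) hy) (H.inv_mem (hT1H hx))
        · intro hy
          have : y = x⁻¹ * (x * y * x⁻¹) * x := by group
          rw [this]
          exact H.mul_mem (H.mul_mem (H.inv_mem (hT1H hx)) hy) (hT1H hx)
      rw [Subgroup.mem_inf, Subgroup.mem_inf, h1, h2]
    have hcopTσ : (Nat.card T₁).Coprime (Nat.card (sigmaCore M)) := by
      apply Helper7.BGD.coprime_sigmaCore hG hM
      intro r hr hrT hrσ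
      have : r = t := BGG.prime_eq_of_dvd_card_pgroup hT₁ hr hrT
      exact htσ (this ▸ hrσ)
    have hcopTD : (Nat.card T₁).Coprime (Nat.card D) :=
      Nat.Coprime.coprime_dvd_right (Subgroup.card_dvd_of_le hDσ) hcopTσ
    have hMtop : M ≠ ⊤ := hM.1
    haveI hMs : Group.IsSolvable ↥M := BG7.isSolvable_of_ne_top hG hMtop
    haveI hDs : Group.IsSolvable ↥D := isSolvable_of_le (hDσ.trans hσM)
    have hXX : ⁅⁅D, T₁⁆, T₁⁆ = ⁅D, T₁⁆ :=
      coprime_commutator_commutator T₁ D hT₁ND hcopTD (Or.inr hDs)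
    rw [← hXX]
    obtain ⟨W, hW⟩ : ∃ W, W = ⁅D, T₁⁆ := ⟨_, rfl⟩
    rw [← hW] at hWσ hWH' ⊢
    have hT₁NW : T₁ ≤ Subgroup.normalizer (W : Set G) :=
      hW ▸ Lead.BGM.le_normalizer_commutator' hT₁ND
    have hcopTW : (Nat.card T₁).Coprime (Nat.card W) :=
      Nat.Coprime.coprime_dvd_right (Subgroup.card_dvd_of_le hWσ) hcopTσ
    have hT₁H' : T₁ ≤ ⁅H, H⁆ := tau3_le_commutator hG hH htH hT1H hT₁
    obtain ⟨-, -, ⟨Hn, hHnHall, hHnnil⟩, -, -⟩ := Cfsg.Agent.S1414.result hG H hH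
    have hHtop : H ≠ ⊤ := hH.1
    haveI hHs : Group.IsSolvable ↥H := BG7.isSolvable_of_ne_top hG hHtop
    haveI hKs : Group.IsSolvable ↥⁅H, H⁆ := isSolvable_of_le (Helper7.BGB.comm_le_self H)
    have hYK : W ⊔ T₁ ≤ ⁅H, H⁆ := sup_le hWH' hT₁H'
    have hcopH : (Nat.card Hn).Coprime (Hn.relIndex ⁅H, H⁆) := by
      by_contra hc
      obtain ⟨r, hr, hr1, hr2⟩ := Nat.Prime.not_coprime_iff_dvd.mp hc
      exact hHnHall.2.2 r hr (hHnHall.2.1 r hr hr1) hr2
    have htβ : t ∉ beta H := fun h => htH.2.1 (BT.alpha_subset_sigma hG hH h.1)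
    have hcopY : (Nat.card ↥(W ⊔ T₁ : Subgroup G)).Coprime (Hn.relIndex ⁅H, H⁆) := by
      by_contra hc
      obtain ⟨r, hr, hr1, hr2⟩ := Nat.Prime.not_coprime_iff_dvd.mp hc
      have hrβ : r ∉ beta H := by
        rcases prime_dvd_of_le_sup hr hT₁NW le_rfl hr1 with h | h
        · intro hβ
          have hrσ : r ∈ sigma M :=
            hHallM.2.1 r hr (h.trans (Subgroup.card_dvd_of_le hWσ))
          exact Helper2.BGH.sigma_alpha_disjoint hG hM hH hne hrσ hβ.1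
        · have : r = t := BGG.prime_eq_of_dvd_card_pgroup hT₁ hr h
          rw [this]; exact htβ
      exact hHnHall.2.2 r hr ⟨hr, hrβ⟩ hr2
    obtain ⟨k, hk, hYk⟩ := Helper2.BGH.exists_cj_le_of_hall hHnHall.1 hYK hcopH hcopY
    exact commutator_eq_bot_of_nilpotent_of_coprime (BG7.cj k Hn) W T₁ (isNilpotent_cj hHnnil k)
      (le_sup_left.trans hYk) (le_sup_right.trans hYk) hT₁NW hcopTW

end Cfsg.Agent.Lib.Helper3.BG13
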