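import Mathlib
import Cfsg.Agent.Lib.Helper3.BG13f

set_option autoImplicit false
set_option maxHeartbeats 4000000
set_option linter.unusedVariables false
set_option linter.unusedSectionVars false
set_option linter.style.longLine false
set_option linter.unusedSimpArgs false
set_option linter.deprecated false
set_option linter.style.haveILetI false

/-!
# B&G Lemma 13.1(c) / 13.2(c): `p ∈ τ₁(M) ∩ σ(H)` and `M_σ ∩ H' ≠ 1` force `p` to be ideal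
-/

open scoped commutatorElement Pointwise
universe u
namespace Cfsg.Agent.Lib.Helper3.BG13

open Cfsg Cfsg.Agent.Lib.Helper1 Cfsg.Agent.Lib.Helper7.BGRows

variable {G : Type u} [Group G] [Finite G]

/-- `K = L_β Hn` for a Hall `β(L)'`-subgroup `Hn` of a subgroup `K` with `L_β ≤ K ≤ L`. -/
theorem eq_prod_of_hall (hG : IsMinSimpleOddOrder G) {L : Subgroup G} (hL : IsCoatom L)
    {K Hn : Subgroup G} (hβK : piCoreOf (beta L) L ≤ K) (hKL : K ≤ L)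
    (hHn : IsPiHallOf {q | q.Prime ∧ q ∉ beta L} Hn K) :
    ∀ m ∈ K, ∃ b ∈ piCoreOf (beta L) L, ∃ h ∈ Hn, m = b * h := by
  obtain ⟨hβHall, -, -, -, -⟩ := Cfsg.Agent.S1414.result hG L hL
  have hKσ : piCoreOf (beta L) L ⊔ Hn ≤ K := sup_le hβK hHn.1
  have hrel : (piCoreOf (beta L) L ⊔ Hn).relIndex K = 1 := by
    rw [Nat.eq_one_iff_not_exists_prime_dvd]
    intro r hr hrd
    by_cases hrβ : r ∈ beta L
    · have h1 : (piCoreOf (beta L) L ⊔ Hn).relIndex K ∣ (piCoreOf (beta L) L).relIndex K :=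
        Subgroup.relIndex_dvd_of_le_left _ le_sup_left
      have h2 : (piCoreOf (beta L) L).relIndex K ∣ (piCoreOf (beta L) L).relIndex L := by
        rw [← Subgroup.relIndex_mul_relIndex _ _ _ hβK hKL]
        exact Dvd.intro _ rfl
      exact hβHall.2.2 r hr hrβ (hrd.trans (h1.trans h2))
    · have h1 : (piCoreOf (beta L) L ⊔ Hn).relIndex K ∣ Hn.relIndex K :=
        Subgroup.relIndex_dvd_of_le_left _ le_sup_right
      exact hHn.2.2 r hr ⟨hr, hrβ⟩ (hrd.trans h1)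
  have hle : K ≤ piCoreOf (beta L) L ⊔ Hn := Subgroup.relIndex_eq_one.mp hrel
  have hHnN : Hn ≤ Subgroup.normalizer ((piCoreOf (beta L) L : Subgroup G) : Set G) :=
    (hHn.1.trans hKL).trans (BG7.le_normalizer_piCoreOf (beta L) L)
  intro m hm
  have h1 : m ∈ ((piCoreOf (beta L) L ⊔ Hn : Subgroup G) : Set G) := hle hm
  rw [Subgroup.coe_mul_of_right_le_normalizer_left _ Hn hHnN] at h1
  obtain ⟨b, hb, h, hh, hbh⟩ := h1
  exact ⟨b, hb, h, hh, hbh.symm⟩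

/-- Frattini argument modulo `L_β`: if `K` is normal in `L`, contains `L_β`, has a nilpotent
Hall `β(L)'`-subgroup and `Y` is a Sylow `q`-subgroup of `K` with `q ∉ β(L)`, then
`L = L_β N_L(Y)`. -/
theorem frattini_beta (hG : IsMinSimpleOddOrder G) {L : Subgroup G} (hL : IsCoatom L)
    {K Hn : Subgroup G} (hβK : piCoreOf (beta L) L ≤ K) (hKL : K ≤ L)
    (hLK : L ≤ Subgroup.normalizer (K : Set G))
    (hHnHall : IsPiHallOf {q | q.Prime ∧ q ∉ beta L} Hn K) (hHnnil : Group.IsNilpotent ↥Hn)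
    {q : ℕ} [hq : Fact q.Prime] (hqβ : q ∉ beta L) {Y : Subgroup G} (hY : BG8.IsMaxP q Y K) :
    ∀ x ∈ L, ∃ b ∈ piCoreOf (beta L) L, ∃ n ∈ L ⊓ Subgroup.normalizer (Y : Set G),
      x = b * n := by
  classical
  have hq' := hq.out
  have hβL : piCoreOf (beta L) L ≤ L := BG7.piCoreOf_le (beta L) L
  have hprod := eq_prod_of_hall hG hL hβK hKL hHnHall
  have hLtop : L ≠ ⊤ := hL.1
  haveI hLs : Group.IsSolvable ↥L := BG7.isSolvable_of_ne_top hG hLtop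
  haveI hKs : Group.IsSolvable ↥K := isSolvable_of_le hKL
  have hcopH : (Nat.card Hn).Coprime (Hn.relIndex K) := by
    by_contra hc
    obtain ⟨r, hr, hr1, hr2⟩ := Nat.Prime.not_coprime_iff_dvd.mp hc
    exact hHnHall.2.2 r hr (hHnHall.2.1 r hr hr1) hr2
  have hcopS : ∀ g : G, (Nat.card (BG7.cj g Y)).Coprime (Hn.relIndex K) := by
    intro g
    rw [BG7.card_cj]
    obtain ⟨a, ha⟩ := IsPGroup.iff_card.mp hY.2.1
    rw [ha]
    apply Nat.Coprime.pow_left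
    rw [Nat.Prime.coprime_iff_not_dvd hq']
    exact hHnHall.2.2 q hq' ⟨hq', hqβ⟩
  -- conjugates of `Y` by elements of `L` are again Sylow in `K`
  have hmaxcj : ∀ g ∈ L, BG8.IsMaxP q (BG7.cj g Y) K := by
    intro g hg
    have := BT.isMaxP_cj hY g
    rwa [BG7.cj_eq_of_mem_normalizer (hLK hg)] at this
  have hkey : ∀ g ∈ L, ∃ b ∈ piCoreOf (beta L) L, BG7.cj (b⁻¹ * g) Y ≤ Hn := by
    intro g hg
    obtain ⟨m, hm, hle⟩ :=
      Helper2.BGH.exists_cj_le_of_hall hHnHall.1 (hmaxcj g hg).1 hcopH (hcopS g)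
    obtain ⟨b, hb, h, hh, rfl⟩ := hprod m hm
    refine ⟨b, hb, ?_⟩
    rw [BG7.cj_mul, Helper2.BGH.cj_self_of_mem hh] at hle
    have := BG7.cj_mono (k := b⁻¹) hle
    rwa [BG7.cj_inv_cj, ← BG7.cj_mul] at this
  obtain ⟨b₀, hb₀, h0⟩ := hkey 1 L.one_mem
  rw [mul_one] at h0
  have hb₀L : b₀⁻¹ ∈ L := L.inv_mem (hβL hb₀)
  have hmax0 : BG8.IsMaxP q (BG7.cj b₀⁻¹ Y) Hn := (hmaxcj _ hb₀L).mono h0 hHnHall.1
  have hHnN : Hn ≤ Subgroup.normalizer ((BG7.cj b₀⁻¹ Y : Subgroup G) : Set G) :=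
    Subgroup.le_normalizer.trans (Helper2.BGH.normalizer_le_of_nilpotent_sylow hmax0 hHnnil)
  intro x hx
  obtain ⟨b₁, hb₁, h1⟩ := hkey x hx
  have hb₁x : b₁⁻¹ * x ∈ L := L.mul_mem (L.inv_mem (hβL hb₁)) hx
  have hp1 : IsPGroup q (BG7.cj (b₁⁻¹ * x) Y) := (hmaxcj _ hb₁x).2.1
  have hsup : IsPGroup q (BG7.cj b₀⁻¹ Y ⊔ BG7.cj (b₁⁻¹ * x) Y : Subgroup G) :=
    IsPGroup.to_sup_of_normal_left' hmax0.2.1 hp1 (h1.trans hHnN)
  have heq1 : BG7.cj b₀⁻¹ Y ⊔ BG7.cj (b₁⁻¹ * x) Y = BG7.cj b₀⁻¹ Y :=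
    hmax0.2.2 _ hsup le_sup_left (sup_le h0 h1)
  have hle1 : BG7.cj (b₁⁻¹ * x) Y ≤ BG7.cj b₀⁻¹ Y := by
    rw [← heq1]; exact le_sup_right
  have heq2 : BG7.cj (b₁⁻¹ * x) Y = BG7.cj b₀⁻¹ Y := by
    apply Subgroup.eq_of_le_of_card_ge hle1
    rw [BG7.card_cj, BG7.card_cj]
  have heq3 : BG7.cj (b₀ * (b₁⁻¹ * x)) Y = Y := by
    rw [BG7.cj_mul, heq2]
    exact BG9.cj_cj_inv b₀ Y
  have hnN : b₀ * (b₁⁻¹ * x) ∈ Subgroup.normalizer (Y : Set G) :=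
    BG7.mem_normalizer_of_cj_eq heq3
  have hnL : b₀ * (b₁⁻¹ * x) ∈ L := L.mul_mem (hβL hb₀) hb₁x
  refine ⟨b₁ * b₀⁻¹, Subgroup.mul_mem _ hb₁ (Subgroup.inv_mem _ hb₀), b₀ * (b₁⁻¹ * x),
    ⟨hnL, hnN⟩, ?_⟩
  group

omit [Finite G] in
theorem cj_commutator (g : G) (A : Subgroup G) : BG7.cj g ⁅A, A⁆ = ⁅BG7.cj g A, BG7.cj g A⁆ := by
  unfold BG7.cj
  exact Subgroup.map_commutator A A _

/-- **B&G 13.1(c)/13.2(c)**: `p ∈ τ₁(M) ∩ σ(H)`, `H` not conjugate to `M`, `M_σ ∩ H' ≠ 1`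
⇒ `p` is an ideal prime. -/
theorem ideal_of_tau1 (hG : IsMinSimpleOddOrder G) {M H : Subgroup G} (hM : IsCoatom M)
    (hH : IsCoatom H) (hne : ∀ g : G, H ≠ BG7.cj g M) {p : ℕ} [hp : Fact p.Prime]
    (hp1 : p ∈ tau1 M) (hpH : p ∈ sigma H) (h : sigmaCore M ⊓ ⁅H, H⁆ ≠ ⊥) :
    IsIdealPrime p G := by
  classical
  by_contra hpni
  have hp' := hp.out
  have hpM' : ¬ p ∣ Nat.card ↥⁅M, M⁆ := hp1.2.2.2.1
  have hpM : p ∣ Nat.card M := hp1.2.2.1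
  obtain ⟨hHallM, -, -⟩ := Helper7.BGA.s1350 hG M hM
  have hcard : Nat.card ↥(sigmaCore M ⊓ ⁅H, H⁆ : Subgroup G) ≠ 1 := fun hc =>
    h (Subgroup.card_eq_one.mp hc)
  obtain ⟨q, hq', hqd⟩ := Nat.exists_prime_and_dvd hcard
  haveI hq : Fact q.Prime := ⟨hq'⟩
  have hqσ : q ∈ sigma M :=
    hHallM.2.1 q hq' (hqd.trans (Subgroup.card_dvd_of_le inf_le_left))
  have hqK : q ∣ Nat.card ↥⁅H, H⁆ := hqd.trans (Subgroup.card_dvd_of_le inf_le_right)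
  have hqβ : q ∉ beta H := fun hβ =>
    Helper2.BGH.sigma_alpha_disjoint hG hM hH hne hqσ hβ.1
  obtain ⟨Y, hY, -⟩ := BT.exists_isMaxP_ge (p := q) (Y := ⊥) (H := ⁅H, H⁆) IsPGroup.of_bot bot_le
  have hY1 : Y ≠ ⊥ := Helper3.BG12.isMaxP_ne_bot hY hqK
  obtain ⟨-, -, ⟨Hn, hHnHall, hHnnil⟩, -, -⟩ := Cfsg.Agent.S1414.result hG H hH
  have hβK : piCoreOf (beta H) H ≤ ⁅H, H⁆ :=
    (betaCore_le_sigmaCore hG hH).trans (Helper7.BGC.sigmaCore_le_commutator hG hH)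
  have hKH : ⁅H, H⁆ ≤ H := Helper7.BGB.comm_le_self H
  have hprodH := frattini_beta hG hH hβK hKH (Helper7.BGC.le_normalizer_commutator H)
    hHnHall hHnnil hqβ hY
  -- `p` divides `|N_H(Y)'|`
  have hpβ : ∀ L : Subgroup G, ¬ p ∣ Nat.card (piCoreOf (beta L) L) := fun L hd =>
    hpni (BG7.piCoreOf_pi (beta L) L p hp' hd).2
  have hpH' : p ∣ Nat.card ↥⁅H, H⁆ := by
    obtain ⟨P, hP, -⟩ := BT.exists_isMaxP_ge (p := p) (Y := ⊥) (H := H) IsPGroup.of_bot bot_le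
    have hP1 : P ≠ ⊥ := Helper3.BG12.isMaxP_ne_bot hP hpH.2.1
    have hPK : P ≤ ⁅H, H⁆ := (BT.sigma_sylow_le_commutator hG hH hpH hP).1
    exact (BG8.dvd_card_of_isPGroup_ne_bot hP.2.1 hP1).trans (Subgroup.card_dvd_of_le hPK)
  have hpN : p ∣ Nat.card ↥⁅H ⊓ Subgroup.normalizer (Y : Set G),
      H ⊓ Subgroup.normalizer (Y : Set G)⁆ := by
    rcases prime_dvd_of_prod hp' (BG7.piCoreOf_le _ H) inf_le_left
      (BG7.le_normalizer_piCoreOf _ H) hprodH hpH' with h1 | h1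
    · exact absurd h1 (hpβ H)
    · exact h1
  -- conjugate `Y` into `M_σ`
  obtain ⟨g, hg⟩ := Cfsg.Agent.S1425.result hG M hM Y hY1 (by
    intro r hr hrd
    have : r = q := BGG.prime_eq_of_dvd_card_pgroup hY.2.1 hr hrd
    exact this ▸ hqσ)
  obtain ⟨Y₁, hY₁⟩ : ∃ Y₁, Y₁ = BG7.cj g Y := ⟨_, rfl⟩
  have hY₁σ : Y₁ ≤ sigmaCore M := hY₁ ▸ hg
  have hY₁M : Y₁ ≤ M := hY₁σ.trans (Helper3.BG12.sigmaCore_le M)
  have hY₁q : IsPGroup q Y₁ := by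
    rw [hY₁]
    exact (BT.isMaxP_cj hY g).2.1
  have hY₁1 : Y₁ ≠ ⊥ := by
    rw [hY₁]
    intro hb
    exact hY1 (BG7.cj_eq_bot_iff.mp hb)
  have hpNY₁ : p ∣ Nat.card ↥⁅Subgroup.normalizer (Y₁ : Set G),
      Subgroup.normalizer (Y₁ : Set G)⁆ := by
    have h1 : ⁅H ⊓ Subgroup.normalizer (Y : Set G), H ⊓ Subgroup.normalizer (Y : Set G)⁆ ≤
        ⁅Subgroup.normalizer (Y : Set G), Subgroup.normalizer (Y : Set G)⁆ :=
      Subgroup.commutator_mono inf_le_right inf_le_right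
    have h2 := hpN.trans (Subgroup.card_dvd_of_le h1)
    rw [hY₁, ← BT.cj_normalizer, ← cj_commutator, BG7.card_cj]
    exact h2
  have hY₁top : Y₁ ≠ ⊤ := BG7.pgroup_ne_top hG hY₁q
  have hNtop := BG7.normalizer_ne_top hG hY₁1 hY₁top
  obtain ⟨L, hL, hNL⟩ : ∃ L, IsCoatom L ∧ Subgroup.normalizer (Y₁ : Set G) ≤ L := by
    rcases eq_top_or_exists_le_coatom (Subgroup.normalizer (Y₁ : Set G)) with h | h
    · exact absurd h hNtop
    · exact h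
  have hpL' : p ∣ Nat.card ↥⁅L, L⁆ :=
    hpNY₁.trans (Subgroup.card_dvd_of_le (Subgroup.commutator_mono hNL hNL))
  by_cases hLM : L = M
  · exact hpM' (hLM ▸ hpL')
  have hY₁L : Y₁ ≤ L := Subgroup.le_normalizer.trans hNL
  obtain ⟨S₀, hYS₀⟩ := Helper7.BGD.exists_sylow_ge (M := M ⊓ L) hY₁q (le_inf hY₁M hY₁L)
  obtain ⟨hnc0, hNS, hidx⟩ :=
    Cfsg.Agent.S1424.result hG M hM q hqσ Y₁ hY₁q hY₁1 hY₁M L hL hLM hNL S₀ hYS₀
  obtain ⟨S, hS⟩ : ∃ S : Subgroup G,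
      S = (S₀ : Subgroup ↥(M ⊓ L)).map (M ⊓ L).subtype := ⟨_, rfl⟩
  rw [← hS] at hNS hidx hYS₀
  have hSI : BG8.IsMaxP q S (M ⊓ L) := hS ▸ BG8.isMaxP_of_sylow S₀
  have hSM : S ≤ M := hSI.1.trans inf_le_left
  have hSL : S ≤ L := hSI.1.trans inf_le_right
  have hSmax : BG8.IsMaxP q S L := BGG.isMaxP_of_not_dvd_relIndex hSL hSI.2.1 hidx
  have hncL : ∀ g : G, L ≠ BG7.cj g M := hnc0
  have hI' : ¬ p ∣ Nat.card ↥⁅M ⊓ L, M ⊓ L⁆ := fun hd =>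
    hpM' (hd.trans (Subgroup.card_dvd_of_le (Subgroup.commutator_mono inf_le_left inf_le_left)))
  by_cases hqσL : q ∈ sigma L
  · -- case (d)
    have hprod := d1 hG hM hL hncL hqσ hqσL hSmax
    have hprod' : ∀ x ∈ L, ∃ b ∈ piCoreOf (beta L) L, ∃ i ∈ M ⊓ L, x = b * i := by
      intro x hx
      obtain ⟨b, hb, n, hn, h⟩ := hprod x hx
      exact ⟨b, hb, n, ⟨hNS hn.2, hn.1⟩, h⟩
    rcases prime_dvd_of_prod hp' (BG7.piCoreOf_le _ L) inf_le_right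
      (BG7.le_normalizer_piCoreOf _ L) hprod' hpL' with h1 | h1
    · exact hpβ L h1
    · exact hI' h1
  · -- case (e)
    obtain ⟨hτq, B, Es, hBS, hBe, hB2, hEs, hBEs, hEsM⟩ :=
      e13 hG hM hL hqσ hqσL hY₁1 hNL hYS₀ hSmax hSM
    have hprod' := prod_of_compl hEs (le_inf hEsM hEs.1)
    rcases prime_dvd_of_prod hp' (Helper3.BG12.sigmaCore_le L) inf_le_right
      (Helper3.BG12.le_normalizer_sigmaCore L) hprod' hpL' with h1 | h1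
    · obtain ⟨hHallL, -, -⟩ := Helper7.BGA.s1350 hG L hL
      have hpσL : p ∈ sigma L := hHallL.2.1 p hp' h1
      have := h_beta hG hM hL hncL hqσ hτq (hBS.trans hSM) (hBS.trans hSL) hBe hB2 hpM hpσL
      exact hpni this.2
    · exact hI' h1

end Cfsg.Agent.Lib.Helper3.BG13
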