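import Mathlib
import Cfsg.Agent.Lib.Helper1.NW3
import Cfsg.Agent.Lib.Helper1.RT2
import Cfsg.Agent.Lib.Helper1.TF6
import Cfsg.Agent.Lib.Helper1.Coprime
import Cfsg.Agent.Lib.Helper1.NormalPComplement
import Cfsg.Agent.Lib.Helper2.CoprimeQuot
import Cfsg.Agent.Lib.Helper1.CoprimeSylow
import Cfsg.Agent.Lib.Helper1.BG8e

set_option autoImplicit false
set_option maxHeartbeats 4000000
set_option linter.unusedVariables false
set_option linter.unusedSectionVars false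
set_option linter.style.longLine false
set_option linter.unusedSimpArgs false
set_option linter.deprecated false
set_option linter.style.haveILetI false

/-!
# General lemmas for B&G Theorem 13.10 (S1431): coprime operator groups on narrow `p`-groups
-/

open scoped commutatorElement Pointwise
universe u
namespace Cfsg.Agent.Lib.Helper3.BG14

open Cfsg Cfsg.Agent.Lib.Helper1

variable {G : Type u} [Group G] [Finite G]

/-- An odd-order solvable `p'`-group `E` normalizing a narrow `p`-group `S` (`p` odd) induces an abelian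
group of automorphisms: `E' ≤ C_G(S)`. -/
theorem comm_le_centralizer_of_narrow {p : ℕ} [hp : Fact p.Prime] (hp2 : p ≠ 2) {S E : Subgroup G}
    (hS : IsPGroup p S) (hn : IsNarrow p ↥S) (hES : E ≤ Subgroup.normalizer (S : Set G))
    (hodd : Odd (Nat.card E)) (hsolv : Group.IsSolvable ↥E) (hcop : (Nat.card E).Coprime p) :
    ⁅E, E⁆ ≤ Subgroup.centralizer (S : Set G) := by
  classical
  obtain ⟨ζ, hζ⟩ : ∃ ζ : ↥E →* MulAut ↥S, ζ = TF.zeta S E hES := ⟨_, rfl⟩
  have hBcard : Nat.card ζ.range ∣ Nat.card E := Subgroup.card_range_dvd ζ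
  have hBodd : Odd (Nat.card ζ.range) := hodd.of_dvd_nat hBcard
  have hBcop : (Nat.card ζ.range).Coprime p := Nat.Coprime.coprime_dvd_left hBcard hcop
  haveI : Group.IsSolvable ↥ζ.range := solvable_of_surjective ζ.rangeRestrict_surjective
  have hone : ∀ g : ↥ζ.range, (∃ k : ℕ, g ^ (p ^ k) = 1) → g = 1 := by
    intro g ⟨k, hk⟩
    have h1 : orderOf g ∣ p ^ k := orderOf_dvd_of_pow_eq_one hk
    have h2 : orderOf g ∣ Nat.card ζ.range := orderOf_dvd_natCard g
    have h3 : (orderOf g).Coprime (orderOf g) :=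
      Nat.Coprime.coprime_dvd_left h2 (Nat.Coprime.coprime_dvd_right h1 (hBcop.pow_right k))
    have h4 : orderOf g = 1 := (Nat.coprime_self _).mp h3
    exact orderOf_eq_one_iff.mp h4
  have hab : ∀ x y : ↥ζ.range, x * y = y * x := by
    have hc : ∀ g ∈ commutator ↥ζ.range, g = 1 := by
      by_cases hr : PRankLE p 2 ↥S
      · intro g hg
        exact hone g (RT.commutator_pElements_of_faithful hp2 hS hr ζ.range.subtype
          (Subgroup.subtype_injective _) hBodd inferInstance g hg)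
      · have hker : IsPGroup p (ζ.range.subtype).ker := by
          rw [(MonoidHom.ker_eq_bot_iff _).mpr (Subgroup.subtype_injective _)]
          exact IsPGroup.of_bot
        obtain ⟨B₀, hB₀n, hB₀p, hB₀c, -⟩ := NW.narrow_faithful hp2 hS hr hn ζ.range.subtype hker
        intro g hg
        have hgB : g ∈ B₀ := hB₀c hg
        obtain ⟨k, hk⟩ := hB₀p ⟨g, hgB⟩
        apply hone g
        refine ⟨k, ?_⟩
        have := congrArg Subtype.val hk
        simpa using this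
    intro x y
    have h1 : ⁅x, y⁆ ∈ commutator ↥ζ.range := by
      rw [commutator_def]
      exact Subgroup.commutator_mem_commutator (Subgroup.mem_top x) (Subgroup.mem_top y)
    exact commutatorElement_eq_one_iff_mul_comm.mp (hc _ h1)
  rw [Subgroup.commutator_le]
  intro a ha b hb
  rw [Subgroup.mem_centralizer_iff]
  intro s hs
  -- use commutativity for `a⁻¹`, `b⁻¹`
  have h1 := hab ⟨ζ ⟨a⁻¹, E.inv_mem ha⟩, ⟨_, rfl⟩⟩ ⟨ζ ⟨b⁻¹, E.inv_mem hb⟩, ⟨_, rfl⟩⟩
  have h2 : ζ ⟨a⁻¹, E.inv_mem ha⟩ * ζ ⟨b⁻¹, E.inv_mem hb⟩ = ζ ⟨b⁻¹, E.inv_mem hb⟩ * ζ ⟨a⁻¹, E.inv_mem ha⟩ := by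
    have := congrArg Subtype.val h1
    simpa using this
  have h3 := congrArg (fun φ : MulAut ↥S => ((φ ⟨s, hs⟩ : ↥S) : G)) h2
  simp only [MulAut.mul_apply] at h3
  rw [hζ] at h3
  simp only [TF.zeta_apply] at h3
  -- h3 : a⁻¹ * (b⁻¹ * s * b⁻¹⁻¹) * a⁻¹⁻¹ = b⁻¹ * (a⁻¹ * s * a⁻¹⁻¹) * b⁻¹⁻¹
  simp only [inv_inv] at h3
  rw [commutatorElement_def]
  -- goal: s * (a * b * a⁻¹ * b⁻¹) = a * b * a⁻¹ * b⁻¹ * s
  have h5 : a * b * a⁻¹ * b⁻¹ * s * (a * b * a⁻¹ * b⁻¹)⁻¹ = a * b * (a⁻¹ * (b⁻¹ * s * b) * a) * b⁻¹ * a⁻¹ := by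
    group
  have h4 : a * b * (b⁻¹ * (a⁻¹ * s * a) * b) * b⁻¹ * a⁻¹ = s := by group
  have h6 : a * b * a⁻¹ * b⁻¹ * s * (a * b * a⁻¹ * b⁻¹)⁻¹ = s := by
    rw [h5, h3]; exact h4
  calc s * (a * b * a⁻¹ * b⁻¹) = (a * b * a⁻¹ * b⁻¹ * s * (a * b * a⁻¹ * b⁻¹)⁻¹) * (a * b * a⁻¹ * b⁻¹) := by rw [h6]
    _ = a * b * a⁻¹ * b⁻¹ * s := by group

/-- `N_G(S) ≤ N_G(S')`. -/
theorem normalizer_le_normalizer_commutator (S : Subgroup G) :
    Subgroup.normalizer (S : Set G) ≤ Subgroup.normalizer ((⁅S, S⁆ : Subgroup G) : Set G) := by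
  apply le_normalizer_of_conj_mem
  intro g hg x hx
  have h0 : S.map (MulAut.conj g).toMonoidHom = S := by
    ext y
    constructor
    · rintro ⟨z, hz, rfl⟩
      exact (Subgroup.mem_normalizer_iff.mp hg z).mp hz
    · intro hy
      refine ⟨g⁻¹ * y * g, ?_, ?_⟩
      · have := (Subgroup.mem_normalizer_iff.mp (Subgroup.inv_mem _ hg) y).mp hy
        simpa using this
      · simp [mul_assoc]
  have h1 : (⁅S, S⁆).map (MulAut.conj g).toMonoidHom = ⁅S, S⁆ := by
    rw [Subgroup.map_commutator, h0]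
  rw [← h1]
  exact ⟨x, hx, rfl⟩

/-- If `K` acts coprimely on `U` and some `k ∈ K` has no fixed points on `U`, then `U = [U, K]`. -/
theorem eq_commutator_of_fpf {U K : Subgroup G} (hKU : K ≤ Subgroup.normalizer (U : Set G))
    (hcop : (Nat.card K).Coprime (Nat.card U)) (hsolv : Group.IsSolvable ↥K ∨ Group.IsSolvable ↥U)
    {k : G} (hk : k ∈ K) (hfpf : U ⊓ Subgroup.centralizer ({k} : Set G) = ⊥) : ⁅U, K⁆ = U := by
  have h := coprime_commutator_sup_centralizer K U hKU hcop hsolv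
  have h1 : U ⊓ Subgroup.centralizer (K : Set G) = ⊥ := by
    rw [eq_bot_iff, ← hfpf]
    exact inf_le_inf_left _ (Subgroup.centralizer_le (by
      intro x hx
      rw [Set.mem_singleton_iff.mp hx]; exact hk))
  rw [h1, sup_bot_eq] at h
  exact h

/-- `[S, U K] ≤ [S, K]` when `U` centralizes `S` and `K` normalizes `S` and `U`. -/
theorem commutator_sup_le_of_centralizes {S U K : Subgroup G}
    (hUS : U ≤ Subgroup.centralizer (S : Set G)) (hKS : K ≤ Subgroup.normalizer (S : Set G))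
    (hKU : K ≤ Subgroup.normalizer (U : Set G)) : ⁅S, U ⊔ K⁆ ≤ ⁅S, K⁆ := by
  rw [Subgroup.commutator_le]
  intro s hs x hx
  have hx' : x ∈ ((U ⊔ K : Subgroup G) : Set G) := hx
  rw [Subgroup.coe_mul_of_right_le_normalizer_left U K hKU] at hx'
  obtain ⟨u, hu, k, hk, rfl⟩ := Set.mem_mul.mp hx'
  have hus : u * s = s * u := ((Subgroup.mem_centralizer_iff.mp (hUS hu)) s hs).symm
  have hc : ⁅s, k⁆ ∈ S := by
    rw [commutatorElement_def]
    have h1 : k * s⁻¹ * k⁻¹ ∈ S := (Subgroup.mem_normalizer_iff.mp (hKS hk) s⁻¹).mp (S.inv_mem hs)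
    have : s * k * s⁻¹ * k⁻¹ = s * (k * s⁻¹ * k⁻¹) := by group
    rw [this]; exact S.mul_mem hs h1
  have huc : u * ⁅s, k⁆ = ⁅s, k⁆ * u := ((Subgroup.mem_centralizer_iff.mp (hUS hu)) _ hc).symm
  have h2 : ⁅s, u * k⁆ = ⁅s, k⁆ := by
    have h3 : ⁅s, u * k⁆ = u * ⁅s, k⁆ * u⁻¹ := by
      rw [commutatorElement_def, commutatorElement_def]
      have : s * (u * k) * s⁻¹ * (u * k)⁻¹ = (s * u) * k * s⁻¹ * k⁻¹ * u⁻¹ := by group
      rw [this, ← hus]; group
    rw [h3, huc]; group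
  rw [h2]
  exact Subgroup.commutator_mem_commutator hs hk

/-- In a group `N` with a normal `p`-complement and `N = [N, E]`, an `E`-invariant Sylow `p`-subgroup `S` of `N`
satisfies `S = [S, E]`. -/
theorem eq_commutator_of_npc {p : ℕ} [hp : Fact p.Prime] {N E S : Subgroup G}
    (hnpc : HasNormalPComplement p ↥N) (hEN : E ≤ Subgroup.normalizer (N : Set G))
    (hS : BG8.IsMaxP p S N) (hES : E ≤ Subgroup.normalizer (S : Set G)) (hNE : ⁅N, E⁆ = N) :
    ⁅S, E⁆ = S := by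
  classical
  obtain ⟨P, T', hT'n, hcompl⟩ := hnpc
  haveI := hT'n
  obtain ⟨T, hT⟩ : ∃ T, T = T'.map N.subtype := ⟨_, rfl⟩
  have hTN : T ≤ N := hT ▸ Subgroup.map_subtype_le _
  have hmemT : ∀ x (hx : x ∈ N), x ∈ T ↔ (orderOf x).Coprime p := by
    intro x hx
    have h1 := mem_normal_complement_iff P T' hcompl ⟨x, hx⟩
    rw [Subgroup.orderOf_mk] at h1
    rw [← h1, hT]
    constructor
    · rintro ⟨y, hy, hyx⟩
      have : y = ⟨x, hx⟩ := Subtype.ext hyx
      rwa [this] at hy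
    · intro h; exact ⟨⟨x, hx⟩, h, rfl⟩
  have hET : E ≤ Subgroup.normalizer (T : Set G) := by
    apply le_normalizer_of_conj_mem
    intro e he t ht
    have htN : t ∈ N := hTN ht
    have h1 : e * t * e⁻¹ ∈ N := (Subgroup.mem_normalizer_iff.mp (hEN he) t).mp htN
    rw [hmemT _ h1]
    have h2 : orderOf (e * t * e⁻¹) = orderOf t := by
      have := orderOf_injective (MulAut.conj e).toMonoidHom (MulAut.conj e).injective t
      simpa using this
    rw [h2]
    exact (hmemT t htN).mp ht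
  have hNT : N ≤ Subgroup.normalizer (T : Set G) := by
    apply le_normalizer_of_conj_mem
    intro n hn t ht
    rw [hT] at ht ⊢
    obtain ⟨t', ht', rfl⟩ := ht
    refine ⟨⟨n, hn⟩ * t' * ⟨n, hn⟩⁻¹, hT'n.conj_mem t' ht' ⟨n, hn⟩, ?_⟩
    simp
  -- `N = T S`
  obtain ⟨P', hP'⟩ := hS.exists_sylow
  have hcompl' : T'.IsComplement' (P' : Subgroup ↥N) :=
    isComplement'_sylow_of_isComplement'_sylow P' P T' hcompl
  have hprod : ∀ n ∈ N, ∃ t ∈ T, ∃ s ∈ S, n = t * s := by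
    intro n hn
    obtain ⟨⟨⟨t, ht⟩, ⟨s, hs⟩⟩, hts, -⟩ := hcompl'.existsUnique ⟨n, hn⟩
    refine ⟨t, hT ▸ ⟨t, ht, rfl⟩, s, ?_, ?_⟩
    · rw [← hP']; exact ⟨s, hs, rfl⟩
    · have := congrArg Subtype.val hts
      simpa using this.symm
  have hTS : T ⊓ S = ⊥ := by
    rw [eq_bot_iff]
    intro x ⟨hxT, hxS⟩
    rw [Subgroup.mem_bot]
    have h1 := (hmemT x (hTN hxT)).mp hxT
    obtain ⟨k, hk⟩ := hS.2.1 ⟨x, hxS⟩
    have hk' : x ^ (p ^ k) = 1 := by
      have := congrArg Subtype.val hk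
      simpa using this
    have h2 : orderOf x ∣ p ^ k := orderOf_dvd_of_pow_eq_one hk'
    have h3 : (orderOf x).Coprime (orderOf x) :=
      Nat.Coprime.coprime_dvd_right h2 (h1.pow_right k)
    exact orderOf_eq_one_iff.mp ((Nat.coprime_self _).mp h3)
  have hSE : ⁅S, E⁆ ≤ S := BG8.commutator_le_of_le_normalizer hES
  have hle : ⁅N, E⁆ ≤ T ⊔ ⁅S, E⁆ := by
    rw [Subgroup.commutator_le]
    intro n hn e he
    obtain ⟨t, ht, s, hs, rfl⟩ := hprod n hn
    have h1 : ⁅t * s, e⁆ = t * ⁅s, e⁆ * (e * t⁻¹ * e⁻¹) := by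
      rw [commutatorElement_def, commutatorElement_def]; group
    rw [h1]
    refine Subgroup.mul_mem _ (Subgroup.mul_mem _ (Subgroup.mem_sup_left ht)
      (Subgroup.mem_sup_right (Subgroup.commutator_mem_commutator hs he))) (Subgroup.mem_sup_left ?_)
    exact (Subgroup.mem_normalizer_iff.mp (hET he) t⁻¹).mp (T.inv_mem ht)
  refine le_antisymm hSE ?_
  intro s hs
  have hsN : s ∈ N := hS.1 hs
  have h1 : s ∈ ((T ⊔ ⁅S, E⁆ : Subgroup G) : Set G) := hle (hNE.symm ▸ hsN)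
  rw [Subgroup.coe_mul_of_right_le_normalizer_left T ⁅S, E⁆ ((hSE.trans hS.1).trans hNT)] at h1
  obtain ⟨t, ht, c, hc, htc⟩ := Set.mem_mul.mp h1
  have h2 : t ∈ T ⊓ S := by
    refine ⟨ht, ?_⟩
    have : t = s * c⁻¹ := by rw [← htc]; group
    rw [this]
    exact S.mul_mem hs (S.inv_mem (hSE hc))
  rw [hTS, Subgroup.mem_bot] at h2
  rw [← htc, h2, one_mul]
  exact hc

/-- coprime action with `S = [S, K]`: fixed points lie in `S'`. -/
theorem inf_centralizer_le_commutator {S K : Subgroup G} (hKS : K ≤ Subgroup.normalizer (S : Set G))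
    (hcop : (Nat.card K).Coprime (Nat.card S)) (hSK : ⁅S, K⁆ = S) :
    S ⊓ Subgroup.centralizer (K : Set G) ≤ ⁅S, S⁆ := by
  intro v hv
  obtain ⟨hvS, hvC⟩ := hv
  refine Cfsg.Agent.Lib.Helper2.coprime_abelian_quotient_inf K S ⁅S, S⁆
    (Subgroup.le_normalizer.trans (normalizer_le_normalizer_commutator S))
    (hKS.trans (normalizer_le_normalizer_commutator S)) hKS le_rfl hcop v hvS ?_ ?_
  · rw [hSK]; exact Subgroup.mem_sup_left hvS
  · intro a ha
    have h1 : a * v = v * a := (Subgroup.mem_centralizer_iff.mp hvC) a ha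
    have h2 : ⁅v, a⁆ = 1 := by
      rw [commutatorElement_eq_one_iff_mul_comm]; exact h1.symm
    rw [h2]; exact Subgroup.one_mem _

end Cfsg.Agent.Lib.Helper3.BG14
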