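import Mathlib
import Cfsg.Agent.Lib.Helper3.BG14a
import Cfsg.Agent.Lib.Helper3.BG13g
import Cfsg.Agent.Lib.Helper7.BGK1
import Cfsg.Agent.Lib.Helper7.BGC1
import Cfsg.Agent.S1414
import Cfsg.Agent.S1426

set_option autoImplicit false
set_option maxHeartbeats 4000000
set_option linter.unusedVariables false
set_option linter.unusedSectionVars false
set_option linter.style.longLine false
set_option linter.unusedSimpArgs false
set_option linter.deprecated false
set_option linter.style.haveILetI false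

/-!
# B&G Theorem 13.10 (S1431), key lemma: for `p ∈ σ(M) - β(M)` the `p`-elements of `K* = C_{M_σ}(K)` lie in `(M_σ)'`
-/

open scoped commutatorElement Pointwise
universe u
namespace Cfsg.Agent.Lib.Helper3.BG14

open Cfsg Cfsg.Agent.Lib.Helper1 Cfsg.Agent.Lib.Helper7 Cfsg.Agent.Lib.Helper7.BGRows

variable {G : Type u} [Group G] [Finite G]

/-- The data of `Row1430 (b)`: a nontrivial Hall `κ(M)`-subgroup `K` and an abelian Hall subgroup `U` for the
primes outside `κ(M) ∪ σ(M)`, normalized by `K`, on which every nonidentity element of `K` acts without fixed points. -/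
structure KU (M K U : Subgroup G) : Prop where
  hallK : IsPiHallOf (kappa M) K M
  ne : K ≠ ⊥
  comm : IsMulCommutative U
  hallU : IsPiHallOf {q | q.Prime ∧ q ∉ kappa M ∧ q ∉ sigma M} U M
  norm : K ≤ Subgroup.normalizer (U : Set G)
  fpf : ∀ k ∈ K, k ≠ 1 → U ⊓ Subgroup.centralizer ({k} : Set G) = ⊥

namespace KU

variable {M K U : Subgroup G}

theorem not_sigma_of_dvd (h : KU M K U) {r : ℕ} (hr : r.Prime) (hd : r ∣ Nat.card (U ⊔ K : Subgroup G)) :
    r ∉ sigma M := by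
  rcases BG13.prime_dvd_of_le_sup hr h.norm le_rfl hd with h1 | h1
  · exact (h.hallU.2.1 r hr h1).2.2
  · exact (h.hallK.2.1 r hr h1).2.2.1

theorem sup_le (h : KU M K U) : U ⊔ K ≤ M := _root_.sup_le h.hallU.1 h.hallK.1

theorem coprime_sigmaCore (hG : IsMinSimpleOddOrder G) (hM : IsCoatom M) (h : KU M K U) :
    (Nat.card (U ⊔ K : Subgroup G)).Coprime (Nat.card (sigmaCore M)) := by
  obtain ⟨hσHall, -, -⟩ := BGA.s1350 hG M hM
  apply Nat.coprime_of_dvd
  intro r hr hd1 hd2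
  exact h.not_sigma_of_dvd hr hd1 (hσHall.2.1 r hr hd2)

theorem coprime_KU (h : KU M K U) : (Nat.card K).Coprime (Nat.card U) := by
  apply Nat.coprime_of_dvd
  intro r hr hd1 hd2
  exact (h.hallU.2.1 r hr hd2).2.1 (h.hallK.2.1 r hr hd1)

/-- `U K` is a complement of `M_σ` in `M`. -/
theorem compl (hG : IsMinSimpleOddOrder G) (hM : IsCoatom M) (h : KU M K U) :
    IsComplIn (U ⊔ K) (sigmaCore M) M := by
  obtain ⟨hσHall, -, -⟩ := BGA.s1350 hG M hM
  refine BGK.complIn_of_coprime h.sup_le (BGE.sigmaCore_le M) ?_ ?_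
  · exact Subgroup.inf_eq_bot_of_coprime (h.coprime_sigmaCore hG hM)
  · apply Nat.coprime_of_dvd
    intro r hr hd1 hd2
    have h1 : r ∣ U.relIndex M := hd1.trans (Subgroup.relIndex_dvd_of_le_left M le_sup_left)
    have h2 : r ∣ K.relIndex M := hd1.trans (Subgroup.relIndex_dvd_of_le_left M le_sup_right)
    have hrκ : r ∉ kappa M := fun hκ => h.hallK.2.2 r hr hκ h2
    have hrσ : r ∈ sigma M := by
      by_contra hσ
      exact h.hallU.2.2 r hr ⟨hr, hrκ, hσ⟩ h1
    exact hσHall.2.2 r hr hrσ hd2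

/-- **Key lemma.** For `p ∈ σ(M) - β(M)` and a `U K`-invariant Sylow `p`-subgroup `S` of `M_σ`:
`S = [S, K]` and `C_S(K) ≤ (M_σ)'`. -/
theorem key (hG : IsMinSimpleOddOrder G) (hM : IsCoatom M) (h : KU M K U) {p : ℕ} [hp : Fact p.Prime]
    (hpσ : p ∈ sigma M) (hpβ : p ∉ beta M) {S : Subgroup G} (hS : BG8.IsMaxP p S (sigmaCore M))
    (hUS : U ≤ Subgroup.normalizer (S : Set G)) (hKS : K ≤ Subgroup.normalizer (S : Set G)) :
    ⁅S, K⁆ = S ∧ S ⊓ Subgroup.centralizer (K : Set G) ≤ ⁅sigmaCore M, sigmaCore M⁆ := by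
  classical
  have hp' := hp.out
  have hE := h.compl hG hM
  have hEM : U ⊔ K ≤ M := h.sup_le
  have hES : U ⊔ K ≤ Subgroup.normalizer (S : Set G) := _root_.sup_le hUS hKS
  have hSM : BG8.IsMaxP p S M := BGE.isMaxP_of_sigmaCore hG hM hpσ hS
  obtain ⟨-, hStop, hNS⟩ := BT.sigma_sylow_le_commutator hG hM hpσ hSM
  have hpM : p ∣ Nat.card M := hpσ.2.1
  have hp2 : p ≠ 2 := by
    intro h2
    have h3 : 2 ∣ Nat.card G := by
      rw [← h2]; exact hpM.trans (Subgroup.card_subgroup_dvd_card M)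
    have := hG.1
    rw [Nat.odd_iff] at this
    omega
  -- `S` is narrow
  have hn : IsNarrow p ↥S := by
    by_cases hr : PRankLE p 2 ↥S
    · exact Or.inl hr
    · have hrM : ¬ PRankLE p 2 ↥M := BG9.not_pRankLE_of_le hp' hSM.1 hr
      have hrG : ¬ PRankLE p 2 G := by
        intro hG2
        exact hrM (BG9.pRankLE_of_injective M.subtype M.subtype_injective hG2)
      have hni : ¬ IsIdealPrime p G := fun hi => hpβ ⟨⟨hp', hrM⟩, hi⟩
      exact BGC.sylow_narrow_of_not_ideal hp2 hrG hni S hStop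
  have hodd : Odd (Nat.card (U ⊔ K : Subgroup G)) :=
    hG.1.of_dvd_nat (Subgroup.card_subgroup_dvd_card _)
  haveI hMs : Group.IsSolvable ↥M := hG.2.2.2 M hM.1
  haveI hEs : Group.IsSolvable ↥(U ⊔ K : Subgroup G) := isSolvable_of_le hEM
  haveI hKs : Group.IsSolvable ↥K := isSolvable_of_le h.hallK.1
  have hcopE : (Nat.card (U ⊔ K : Subgroup G)).Coprime p := by
    rw [Nat.coprime_comm, Nat.Prime.coprime_iff_not_dvd hp']
    intro hd
    exact h.not_sigma_of_dvd hp' hd hpσ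
  have hcomm := comm_le_centralizer_of_narrow hp2 hS.2.1 hn hES hodd hEs hcopE
  obtain ⟨k, hk, hk1⟩ := (Subgroup.ne_bot_iff_exists_ne_one (H := K)).mp h.ne |> fun ⟨x, hx⟩ =>
    (⟨(x : G), x.2, fun hx1 => hx (Subtype.ext hx1)⟩ : ∃ k ∈ K, k ≠ 1)
  have hUeq : ⁅U, K⁆ = U :=
    eq_commutator_of_fpf h.norm h.coprime_KU (Or.inl hKs) hk (h.fpf k hk hk1)
  have hUS' : U ≤ Subgroup.centralizer (S : Set G) := by
    rw [← hUeq]
    exact (Subgroup.commutator_mono le_sup_left le_sup_right).trans hcomm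
  have hnpc : HasNormalPComplement p ↥(sigmaCore M) :=
    ((Cfsg.Agent.S1414.result hG M hM).2.2.2.2 p hp' hpM hpβ).2.1
  have hNE : ⁅sigmaCore M, U ⊔ K⁆ = sigmaCore M :=
    (Cfsg.Agent.S1426.result hG M hM (U ⊔ K) hE).2.1
  have hSE : ⁅S, U ⊔ K⁆ = S :=
    eq_commutator_of_npc hnpc (hEM.trans (BGE.le_normalizer_sigmaCore M)) hS hES hNE
  have hSK : ⁅S, K⁆ = S := by
    refine le_antisymm (BG8.commutator_le_of_le_normalizer hKS) ?_
    calc S = ⁅S, U ⊔ K⁆ := hSE.symm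
      _ ≤ ⁅S, K⁆ := commutator_sup_le_of_centralizes hUS' hKS h.norm
  refine ⟨hSK, ?_⟩
  have hcopKS : (Nat.card K).Coprime (Nat.card S) := by
    obtain ⟨n, hn⟩ := IsPGroup.iff_card.mp hS.2.1
    rw [hn]
    apply Nat.Coprime.pow_right
    rw [Nat.coprime_comm, Nat.Prime.coprime_iff_not_dvd hp']
    intro hd
    exact (h.hallK.2.1 p hp' hd).2.2.1 hpσ
  exact (inf_centralizer_le_commutator hKS hcopKS hSK).trans (Subgroup.commutator_mono hS.1 hS.1)

end KU

end Cfsg.Agent.Lib.Helper3.BG14
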