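import Mathlib
import Cfsg.Agent.Lib.Helper3.BG14b
import Cfsg.Agent.Lib.Helper3.CyclicSub
import Cfsg.Agent.S1404
import Cfsg.Agent.S1406
import Cfsg.Agent.S1423
import Cfsg.Agent.S1425

set_option autoImplicit false
set_option maxHeartbeats 4000000
set_option linter.unusedVariables false
set_option linter.unusedSectionVars false
set_option linter.style.longLine false
set_option linter.unusedSimpArgs false
set_option linter.deprecated false
set_option linter.style.haveILetI false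

/-!
# B&G Theorem 13.10 (S1431) from `Row1430`
-/

open scoped commutatorElement Pointwise
universe u
namespace Cfsg.Agent.Lib.Helper3.BG14

open Cfsg Cfsg.Agent.Lib.Helper1 Cfsg.Agent.Lib.Helper7 Cfsg.Agent.Lib.Helper7.BGRows

variable {G : Type u} [Group G] [Finite G]

/-- a nontrivial subgroup contains an element of prime order -/
theorem exists_prime_order_mem {H : Subgroup G} (h : H ≠ ⊥) :
    ∃ y ∈ H, (orderOf y).Prime := by
  have h1 : Nat.card H ≠ 1 := fun hc => h (Subgroup.card_eq_one.mp hc)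
  obtain ⟨p, hp, hd⟩ := Nat.exists_prime_and_dvd h1
  haveI : Fact p.Prime := ⟨hp⟩
  obtain ⟨x, hx⟩ := exists_prime_orderOf_dvd_card' (G := ↥H) p hd
  refine ⟨(x : G), x.2, ?_⟩
  rw [Subgroup.orderOf_coe, hx]
  exact hp

namespace KU

variable {M K U : Subgroup G}

/-- every `p`-element of `K* = C_{M_σ}(K)`, `p ∈ σ(M) - β(M)`, lies in `(M_σ)'`. -/
theorem mem_comm_of_pelement (hG : IsMinSimpleOddOrder G) (hM : IsCoatom M) (h : KU M K U) {p : ℕ}
    [hp : Fact p.Prime] (hpσ : p ∈ sigma M) (hpβ : p ∉ beta M) {y : G} (hyσ : y ∈ sigmaCore M)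
    (hyK : y ∈ Subgroup.centralizer (K : Set G)) (hyp : IsPGroup p (Subgroup.zpowers y)) :
    y ∈ ⁅sigmaCore M, sigmaCore M⁆ := by
  classical
  have hEM : U ⊔ K ≤ M := h.sup_le
  haveI hMs : Group.IsSolvable ↥M := hG.2.2.2 M hM.1
  haveI hEs : Group.IsSolvable ↥(U ⊔ K : Subgroup G) := isSolvable_of_le hEM
  haveI hKs : Group.IsSolvable ↥K := isSolvable_of_le h.hallK.1
  have hEn : U ⊔ K ≤ Subgroup.normalizer (sigmaCore M : Set G) :=
    hEM.trans (BGE.le_normalizer_sigmaCore M)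
  obtain ⟨P₀, hP₀⟩ := coprime_exists_invariant_sylow (U ⊔ K) (sigmaCore M) hEn
    (h.coprime_sigmaCore hG hM) (Or.inl hEs) p
  have hS₀ : BG8.IsMaxP p ((P₀ : Subgroup ↥(sigmaCore M)).map (sigmaCore M).subtype) (sigmaCore M) :=
    BG8.isMaxP_of_sylow P₀
  obtain ⟨S₀, hS₀eq⟩ : ∃ S₀, S₀ = (P₀ : Subgroup ↥(sigmaCore M)).map (sigmaCore M).subtype := ⟨_, rfl⟩
  rw [← hS₀eq] at hS₀ hP₀
  have hUS₀ : U ≤ Subgroup.normalizer (S₀ : Set G) := le_sup_left.trans hP₀
  have hKS₀ : K ≤ Subgroup.normalizer (S₀ : Set G) := le_sup_right.trans hP₀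
  obtain ⟨-, hkey⟩ := h.key hG hM hpσ hpβ hS₀ hUS₀ hKS₀
  have hSM : BG8.IsMaxP p S₀ M := BGE.isMaxP_of_sigmaCore hG hM hpσ hS₀
  obtain ⟨-, hStop, -⟩ := BT.sigma_sylow_le_commutator hG hM hpσ hSM
  have hcopK : (Nat.card K).Coprime (Nat.card (sigmaCore M)) :=
    Nat.Coprime.coprime_dvd_left (Subgroup.card_dvd_of_le le_sup_right) (h.coprime_sigmaCore hG hM)
  have hKY : K ≤ Subgroup.normalizer ((Subgroup.zpowers y : Subgroup G) : Set G) := by
    refine le_trans ?_ (Subgroup.centralizer_le_normalizer _)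
    rw [Subgroup.le_centralizer_iff]
    exact Subgroup.zpowers_le.mpr hyK
  obtain ⟨S, c, hcL, hcA, hSp, hAS, hS₀S, hYS⟩ := BG7.coprime_sylow_pair K (sigmaCore M)
    (le_sup_right.trans hEn) hcopK (Or.inl hKs) p S₀ (Subgroup.zpowers y) hS₀.1
    (Subgroup.zpowers_le.mpr hyσ) hS₀.2.1 hyp hKS₀ hKY
  have hSeq : S = S₀ := hStop.2.2 S hSp hS₀S le_top
  rw [hSeq] at hYS
  have h1 : c⁻¹ * y * c ∈ S₀ := BG7.mem_cj.mp (hYS (Subgroup.mem_zpowers y))
  have h2 : c⁻¹ * y * c ∈ Subgroup.centralizer (K : Set G) :=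
    Subgroup.mul_mem _ (Subgroup.mul_mem _ (Subgroup.inv_mem _ hcA) hyK) hcA
  have h3 : c⁻¹ * y * c ∈ ⁅sigmaCore M, sigmaCore M⁆ := hkey ⟨h1, h2⟩
  have hcn : c ∈ Subgroup.normalizer ((⁅sigmaCore M, sigmaCore M⁆ : Subgroup G) : Set G) :=
    normalizer_le_normalizer_commutator _ (Subgroup.le_normalizer hcL)
  have h4 := (Subgroup.mem_normalizer_iff.mp hcn (c⁻¹ * y * c)).mp h3
  have h5 : c * (c⁻¹ * y * c) * c⁻¹ = y := by group
  rwa [h5] at h4

/-- consequences of `S1423` for subgroups of prime order of `K*`. -/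
theorem of_prime (hG : IsMinSimpleOddOrder G) (hM : IsCoatom M) (h : KU M K U) {p : ℕ}
    [hp : Fact p.Prime] {Y : Subgroup G} (hYσ : Y ≤ sigmaCore M)
    (hYK : Y ≤ Subgroup.centralizer (K : Set G)) (hYc : Nat.card Y = p) :
    p ∈ sigma M ∧ ∀ P : Sylow p ↥(sigmaCore M),
      (Subgroup.centralizer (Y : Set G) ≤ M ∧ ∀ L : Subgroup G, IsCoatom L → Subgroup.centralizer (Y : Set G) ≤ L → L = M) ∧
      InUniqueMaximal ((P : Subgroup ↥(sigmaCore M)).map (sigmaCore M).subtype) ∧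
      (P : Subgroup ↥(sigmaCore M)).map (sigmaCore M).subtype ≤ M := by
  obtain ⟨hσHall, -, -⟩ := BGA.s1350 hG M hM
  have hp' := hp.out
  have hpσ : p ∈ sigma M := hσHall.2.1 p hp' (hYc ▸ Subgroup.card_dvd_of_le hYσ)
  refine ⟨hpσ, fun P => ?_⟩
  have hYp : IsPGroup p Y := IsPGroup.of_card (n := 1) (by rw [hYc, pow_one])
  apply Cfsg.Agent.S1423.result hG M hM p hpσ Y (hYσ.trans (BGE.sigmaCore_le M)) hYc P
  by_cases hpβ : p ∈ beta M
  · exact Or.inl hpβ
  · right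
    intro y hy
    exact h.mem_comm_of_pelement hG hM hpσ hpβ (hYσ hy) (hYK hy)
      (hYp.to_le (Subgroup.zpowers_le.mpr hy))

end KU

end Cfsg.Agent.Lib.Helper3.BG14
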