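import Mathlib
import Cfsg.Agent.Lib.Helper3.BG14b
import Cfsg.Agent.Lib.Helper7.BGD1
import Cfsg.Agent.Lib.Helper7.BGK2
import Cfsg.Agent.S1415
import Cfsg.Agent.S1417
import Cfsg.Agent.S1418
import Cfsg.Agent.S1423
import Cfsg.Agent.S1427
import Cfsg.Agent.S1428

set_option autoImplicit false
set_option maxHeartbeats 4000000
set_option linter.unusedVariables false
set_option linter.unusedSectionVars false
set_option linter.style.longLine false
set_option linter.unusedSimpArgs false
set_option linter.deprecated false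
set_option linter.style.haveILetI false

/-!
# B&G Theorem 13.4 (uniqueness): for a `τ₁(M)`-element `y` of prime order of a complement `E` and a subgroup
`X ≤ C_{M_σ}(y)` of prime order, `M` is the only maximal subgroup containing `C_G(X)`.
Only closed rows are used (S1414, S1415, S1417, S1418, S1423, S1426, S1427, S1428).
-/

open scoped commutatorElement Pointwise
universe u
namespace Cfsg.Agent.Lib.Helper3.BG14

open Cfsg Cfsg.Agent.Lib.Helper1 Cfsg.Agent.Lib.Helper7 Cfsg.Agent.Lib.Helper7.BGRows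

variable {G : Type u} [Group G] [Finite G]

/-- The narrow package for a complement `E` of `M_σ` and an `E`-invariant Sylow `p`-subgroup `S` of `M_σ`,
`p ∈ σ(M) - β(M)`: `E' ≤ C_G(S)`, `S = [S, E]` and `C_S(E) ≤ (M_σ)'`. -/
theorem narrow_pkg (hG : IsMinSimpleOddOrder G) {M : Subgroup G} (hM : IsCoatom M) {E : Subgroup G}
    (hE : IsComplIn E (sigmaCore M) M) {p : ℕ} [hp : Fact p.Prime]
    (hpσ : p ∈ sigma M) (hpβ : p ∉ beta M) {S : Subgroup G} (hS : BG8.IsMaxP p S (sigmaCore M))
    (hES : E ≤ Subgroup.normalizer (S : Set G)) :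
    ⁅E, E⁆ ≤ Subgroup.centralizer (S : Set G) ∧ ⁅S, E⁆ = S ∧
      S ⊓ Subgroup.centralizer (E : Set G) ≤ ⁅sigmaCore M, sigmaCore M⁆ := by
  classical
  have hp' := hp.out
  have hEM : E ≤ M := hE.1
  have hSM : BG8.IsMaxP p S M := BGE.isMaxP_of_sigmaCore hG hM hpσ hS
  obtain ⟨-, hStop, hNS⟩ := BT.sigma_sylow_le_commutator hG hM hpσ hSM
  have hpM : p ∣ Nat.card M := hpσ.2.1
  have hp2 : p ≠ 2 := by
    intro h2
    have h3 : 2 ∣ Nat.card G := by
      rw [← h2]; exact hpM.trans (Subgroup.card_subgroup_dvd_card M)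
    have := hG.1
    rw [Nat.odd_iff] at this
    omega
  have hn : IsNarrow p ↥S := by
    by_cases hr : PRankLE p 2 ↥S
    · exact Or.inl hr
    · have hrM : ¬ PRankLE p 2 ↥M := BG9.not_pRankLE_of_le hp' hSM.1 hr
      have hrG : ¬ PRankLE p 2 G := by
        intro hG2
        exact hrM (BG9.pRankLE_of_injective M.subtype M.subtype_injective hG2)
      have hni : ¬ IsIdealPrime p G := fun hi => hpβ ⟨⟨hp', hrM⟩, hi⟩
      exact BGC.sylow_narrow_of_not_ideal hp2 hrG hni S hStop
  have hodd : Odd (Nat.card E) := hG.1.of_dvd_nat (Subgroup.card_subgroup_dvd_card _)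
  haveI hMs : Group.IsSolvable ↥M := hG.2.2.2 M hM.1
  haveI hEs : Group.IsSolvable ↥E := isSolvable_of_le hEM
  have hnotσ := BGD.compl_not_sigma hG hM hE
  have hcopE : (Nat.card E).Coprime p := by
    rw [Nat.coprime_comm, Nat.Prime.coprime_iff_not_dvd hp']
    intro hd
    exact hnotσ p hp' hd hpσ
  have hcomm := comm_le_centralizer_of_narrow hp2 hS.2.1 hn hES hodd hEs hcopE
  have hnpc : HasNormalPComplement p ↥(sigmaCore M) :=
    ((Cfsg.Agent.S1414.result hG M hM).2.2.2.2 p hp' hpM hpβ).2.1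
  have hNE : ⁅sigmaCore M, E⁆ = sigmaCore M := (Cfsg.Agent.S1426.result hG M hM E hE).2.1
  have hSE : ⁅S, E⁆ = S :=
    eq_commutator_of_npc hnpc (hEM.trans (BGE.le_normalizer_sigmaCore M)) hS hES hNE
  refine ⟨hcomm, hSE, ?_⟩
  have hcopES : (Nat.card E).Coprime (Nat.card S) := by
    obtain ⟨n, hn⟩ := IsPGroup.iff_card.mp hS.2.1
    rw [hn]
    exact Nat.Coprime.pow_right _ hcopE
  exact (inf_centralizer_le_commutator hES hcopES hSE).trans (Subgroup.commutator_mono hS.1 hS.1)

/-- A subgroup `H` lies in `Z` as soon as no prime divides the index of `H ⊓ Z` in `H`. -/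
theorem le_of_forall_prime_not_dvd_relIndex {H Z : Subgroup G}
    (h : ∀ s : ℕ, s.Prime → ¬ s ∣ (H ⊓ Z).relIndex H) : H ≤ Z := by
  have h1 : (H ⊓ Z).relIndex H = 1 := Nat.eq_one_iff_not_exists_prime_dvd.mpr (fun s hs => h s hs)
  rw [Subgroup.relIndex_eq_one] at h1
  exact h1.trans inf_le_right

/-- Centralizing `y` is the same as centralizing the cyclic group generated by `y`. -/
theorem centralizer_zpowers_eq (y : G) :
    Subgroup.centralizer ((Subgroup.zpowers y : Subgroup G) : Set G) = Subgroup.centralizer ({y} : Set G) := by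
  apply le_antisymm
  · apply Subgroup.centralizer_le
    intro x hx
    rw [Set.mem_singleton_iff] at hx
    rw [hx]
    exact Subgroup.mem_zpowers y
  · intro d hd
    rw [Subgroup.mem_centralizer_iff] at hd ⊢
    intro z hz
    obtain ⟨k, rfl⟩ := Subgroup.mem_zpowers_iff.mp hz
    have h1 : Commute y d := hd y (Set.mem_singleton y)
    exact (h1.zpow_left k).eq

/-- Conjugating by an element centralizing `A` preserves `A ≤ C_G(X)`. -/
theorem le_centralizer_cj {A X : Subgroup G} {c : G} (hc : c ∈ Subgroup.centralizer (A : Set G))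
    (h : A ≤ Subgroup.centralizer (X : Set G)) : A ≤ Subgroup.centralizer ((BG7.cj c X : Subgroup G) : Set G) := by
  intro a ha
  rw [Subgroup.mem_centralizer_iff]
  intro z hz
  rw [SetLike.mem_coe, BG7.mem_cj] at hz
  have h1 : Commute (c⁻¹ * z * c) a :=
    (Subgroup.mem_centralizer_iff.mp (h ha)) _ hz
  have h2 : Commute c a := ((Subgroup.mem_centralizer_iff.mp hc) a ha).symm
  have h3 : Commute (c * (c⁻¹ * z * c) * c⁻¹) a := (h2.mul_left h1).mul_left h2.inv_left
  have h4 : c * (c⁻¹ * z * c) * c⁻¹ = z := by group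
  rw [h4] at h3
  exact h3.eq

end Cfsg.Agent.Lib.Helper3.BG14
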