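import Mathlib
import Cfsg.Agent.Lib.Helper3.BG14e
import Cfsg.Agent.Lib.Helper3.BG14c
import Cfsg.Agent.Lib.Helper1.CoprimeAbelian
import Cfsg.Agent.Lib.Helper1.Douglas

set_option autoImplicit false
set_option maxHeartbeats 4000000
set_option linter.unusedVariables false
set_option linter.unusedSectionVars false
set_option linter.style.longLine false
set_option linter.unusedSimpArgs false
set_option linter.deprecated false
set_option linter.style.haveILetI false

/-!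
# B&G Theorem 13.4 (uniqueness), main argument
-/

open scoped commutatorElement Pointwise
universe u
namespace Cfsg.Agent.Lib.Helper3.BG14

open Cfsg Cfsg.Agent.Lib.Helper1 Cfsg.Agent.Lib.Helper7 Cfsg.Agent.Lib.Helper7.BGRows

variable {G : Type u} [Group G] [Finite G]

/-- `E₁` acts in a prime manner: for `y` of prime order `q ∈ τ₁(L)` in a Hall `τ₁(L)`-subgroup `E₁` of the
complement `E`, `C_{L_σ}(y) ≤ C_G(E₁)`. -/
theorem tau1_hall_centralizes (hG : IsMinSimpleOddOrder G) {L : Subgroup G} (hL : IsCoatom L)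
    {E : Subgroup G} (hE : IsComplIn E (sigmaCore L) L) {q : ℕ} (hq : q ∈ tau1 L) {y : G}
    (hyo : orderOf y = q) {E₁ : Subgroup G} (hE₁ : IsPiHallOf (tau1 L) E₁ E) (hyE₁ : y ∈ E₁)
    {X : Subgroup G} (hXσ : X ≤ sigmaCore L) (hXy : X ≤ Subgroup.centralizer ({y} : Set G)) :
    E₁ ≤ Subgroup.centralizer (X : Set G) := by
  classical
  have hE₁c : IsCyclic ↥E₁ := (Cfsg.Agent.S1415.result hG L hL E hE).2.1 E₁ hE₁
  have hyE : y ∈ E := hE₁.1 hyE₁
  have hYE : Subgroup.zpowers y ≤ E := (Subgroup.zpowers_le).mpr hyE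
  have hYc : Nat.card (Subgroup.zpowers y) = q := by rw [Nat.card_zpowers, hyo]
  apply le_of_forall_prime_not_dvd_relIndex
  intro s hs hsd
  haveI : Fact s.Prime := ⟨hs⟩
  have hsE₁ : s ∣ Nat.card E₁ := hsd.trans (Subgroup.relIndex_dvd_card _ _)
  have hsτ : s ∈ tau1 L := hE₁.2.1 s hs hsE₁
  obtain ⟨S', hS', -⟩ := BT.exists_isMaxP_ge (p := s) (Y := ⊥) (H := E₁) IsPGroup.of_bot bot_le
  have hS'1 : S' ≠ ⊥ := BG12.isMaxP_ne_bot hS' hsE₁
  have hS'E : BG8.IsMaxP s S' E := BGK.isMaxP_of_hall hS' hE₁.1 (hE₁.2.2 s hs hsτ)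
  obtain ⟨R, hR⟩ := hS'E.exists_sylow
  -- an element of order `s` of `S'`
  have hsS' : s ∣ Nat.card S' := by
    obtain ⟨R₁, hR₁⟩ := hS'.exists_sylow
    have h1 : s ∣ Nat.card (R₁ : Subgroup ↥E₁) := R₁.dvd_card_of_dvd_card hsE₁
    rw [← hR₁, Subgroup.card_map_of_injective E₁.subtype_injective]
    exact h1
  obtain ⟨x', hx'⟩ := exists_prime_orderOf_dvd_card' (G := ↥S') s hsS'
  obtain ⟨x, hxdef⟩ : ∃ x : G, x = (x' : G) := ⟨_, rfl⟩
  have hxS' : x ∈ S' := hxdef ▸ x'.2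
  have hxo : orderOf x = s := by rw [hxdef, Subgroup.orderOf_coe]; exact hx'
  have hx1 : x ≠ 1 := by
    intro h
    rw [h, orderOf_one] at hxo
    exact hs.one_lt.ne hxo
  have hxE₁ : x ∈ E₁ := hS'.1 hxS'
  have hxE : x ∈ E := hE₁.1 hxE₁
  -- `x` and `y` commute
  have hxy : x * y = y * x := by
    letI := IsCyclic.commGroup (α := ↥E₁)
    have := mul_comm (⟨x, hxE₁⟩ : ↥E₁) ⟨y, hyE₁⟩
    exact congrArg Subtype.val this
  have hXc : Nat.card (Subgroup.zpowers x) = s := by rw [Nat.card_zpowers, hxo]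
  have hRE : Subgroup.zpowers x ≤ E ⊓ Subgroup.centralizer ((Subgroup.zpowers y : Subgroup G) : Set G) := by
    rw [Subgroup.zpowers_le]
    refine Subgroup.mem_inf.mpr ⟨hxE, ?_⟩
    rw [centralizer_zpowers_eq, Subgroup.mem_centralizer_iff]
    intro z hz
    rw [Set.mem_singleton_iff] at hz
    rw [hz]; exact hxy.symm
  have h1428 := Cfsg.Agent.S1428.result hG L hL E hE q hq (Subgroup.zpowers y) hYE hYc
    (Subgroup.zpowers x) hRE (by rw [hXc]; exact hs)
  -- `S'` is cyclic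
  have hs2 : s ≠ 2 := by
    intro h2
    have h3 : 2 ∣ Nat.card G := by
      rw [← h2]; exact hsE₁.trans (Subgroup.card_subgroup_dvd_card E₁)
    have := hG.1
    rw [Nat.odd_iff] at this
    omega
  have hR1 : (R : Subgroup ↥E) ≠ ⊥ := by
    intro h
    apply hS'1
    rw [← hR, h, Subgroup.map_bot]
  have hRc : IsCyclic ↥(R : Subgroup ↥E) := by
    haveI : IsCyclic ↥S' := Douglas.isCyclic_of_le hS'.1
    have e : ↥(R : Subgroup ↥E) ≃* ↥((R : Subgroup ↥E).map E.subtype) :=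
      Subgroup.equivMapOfInjective _ _ E.subtype_injective
    rw [hR] at e
    exact isCyclic_of_surjective e.symm.toMonoidHom e.symm.surjective
  have h1427 := Cfsg.Agent.S1427.result hG L hL E hE s R hR1 hRc x (by rw [hR]; exact hxS') hx1
  rw [hR] at h1427
  -- conclusion
  have h2 : X ≤ Subgroup.centralizer (S' : Set G) := by
    have h3 : X ≤ sigmaCore L ⊓ Subgroup.centralizer ((Subgroup.zpowers y : Subgroup G) : Set G) := by
      rw [centralizer_zpowers_eq]; exact le_inf hXσ hXy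
    have h4 := h3.trans h1428
    rw [centralizer_zpowers_eq, h1427] at h4
    exact h4.trans inf_le_right
  have h3 : S' ≤ E₁ ⊓ Subgroup.centralizer (X : Set G) :=
    le_inf hS'.1 (Subgroup.le_centralizer_iff.mp h2)
  have h4 : (E₁ ⊓ Subgroup.centralizer (X : Set G)).relIndex E₁ ∣ S'.relIndex E₁ :=
    Subgroup.relIndex_dvd_of_le_left E₁ h3
  exact BG13.not_dvd_relIndex_of_isMaxP hS' (hsd.trans h4)

/-- Main step of B&G 13.4: for `p ∉ β(L)`, a subgroup `X` of order `p` of `C_{L_σ}(y)`, `y ∈ E` of prime order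
`q ∈ τ₁(L)`, lies in `(L_σ)'`. -/
theorem tau1_cent_le_comm (hG : IsMinSimpleOddOrder G) {L : Subgroup G} (hL : IsCoatom L)
    {E : Subgroup G} (hE : IsComplIn E (sigmaCore L) L) {q : ℕ} (hq : q ∈ tau1 L) {y : G}
    (hyE : y ∈ E) (hyo : orderOf y = q) {X : Subgroup G} (hXσ : X ≤ sigmaCore L)
    (hXy : X ≤ Subgroup.centralizer ({y} : Set G)) {p : ℕ} [hp : Fact p.Prime]
    (hXc : Nat.card X = p) (hpβ : p ∉ beta L) :
    X ≤ ⁅sigmaCore L, sigmaCore L⁆ := by
  classical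
  have hp' := hp.out
  have hq' : q.Prime := hq.1
  haveI : Fact q.Prime := ⟨hq'⟩
  have hEL : E ≤ L := hE.1
  haveI hLs : Group.IsSolvable ↥L := hG.2.2.2 L hL.1
  haveI hEs : Group.IsSolvable ↥E := isSolvable_of_le hEL
  obtain ⟨hσHall, -, -⟩ := BGA.s1350 hG L hL
  have hpσ : p ∈ sigma L := by
    apply hσHall.2.1 p hp'
    rw [← hXc]
    exact Subgroup.card_dvd_of_le hXσ
  have hnotσ := BGD.compl_not_sigma hG hL hE
  have hXp : IsPGroup p X := IsPGroup.of_card (n := 1) (by rw [hXc, pow_one])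
  -- the Hall `τ₁(L)`-subgroup `E₁ ∋ y`
  have hYE : Subgroup.zpowers y ≤ E := (Subgroup.zpowers_le).mpr hyE
  have hYc : Nat.card (Subgroup.zpowers y) = q := by rw [Nat.card_zpowers, hyo]
  obtain ⟨E₁₀, hE₁₀⟩ := BGK.exists_isPiHallOf E hEs (tau1 L)
  obtain ⟨m, hmE, hYm⟩ := BGK.exists_cj_le_of_hall hEs hE₁₀ hYE (by
    intro r hr hrd
    rw [hYc] at hrd
    rw [(Nat.prime_dvd_prime_iff_eq hr hq').mp hrd]
    exact hq)
  obtain ⟨E₁, hE₁def⟩ : ∃ E₁, E₁ = BG7.cj m E₁₀ := ⟨_, rfl⟩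
  have hE₁ : IsPiHallOf (tau1 L) E₁ E := hE₁def ▸ BGK.isPiHallOf_cj hE₁₀ hmE
  have hyE₁ : y ∈ E₁ := hE₁def ▸ hYm (Subgroup.mem_zpowers y)
  have hE₁X : E₁ ≤ Subgroup.centralizer (X : Set G) :=
    tau1_hall_centralizes hG hL hE hq hyo hE₁ hyE₁ hXσ hXy
  have hE₁E : E₁ ≤ E := hE₁.1
  -- an `E`-invariant Sylow `p`-subgroup `T` of `L_σ`
  have hENσ : E ≤ Subgroup.normalizer (sigmaCore L : Set G) := hEL.trans (BGE.le_normalizer_sigmaCore L)
  have hcopE : (Nat.card E).Coprime (Nat.card (sigmaCore L)) :=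
    BGD.coprime_sigmaCore hG hL (fun r hr hrd => hnotσ r hr hrd)
  obtain ⟨T₀, hT₀⟩ := coprime_exists_invariant_sylow E (sigmaCore L) hENσ hcopE (Or.inl hEs) p
  obtain ⟨T, hTdef⟩ : ∃ T : Subgroup G, T = (T₀ : Subgroup ↥(sigmaCore L)).map (sigmaCore L).subtype :=
    ⟨_, rfl⟩
  rw [← hTdef] at hT₀
  have hT : BG8.IsMaxP p T (sigmaCore L) := hTdef ▸ BG8.isMaxP_of_sylow T₀
  obtain ⟨-, hTtop, -⟩ := BT.sigma_sylow_le_commutator hG hL hpσ (BGE.isMaxP_of_sigmaCore hG hL hpσ hT)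
  -- conjugate `X` into `T` by an element centralizing `E₁`
  have hcopE₁ : (Nat.card E₁).Coprime (Nat.card (sigmaCore L)) :=
    Nat.Coprime.coprime_dvd_left (Subgroup.card_dvd_of_le hE₁E) hcopE
  haveI hE₁s : Group.IsSolvable ↥E₁ := isSolvable_of_le (hE₁E.trans hEL)
  obtain ⟨S, c, hcσ, hcE₁, hSp, -, hTS, hXS⟩ := BG7.coprime_sylow_pair E₁ (sigmaCore L)
    (hE₁E.trans hENσ) hcopE₁ (Or.inl hE₁s) p T X hT.1 hXσ hT.2.1 hXp (hE₁E.trans hT₀)
    (hE₁X.trans (Subgroup.centralizer_le_normalizer _))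
  have hST : S = T := hTtop.2.2 S hSp hTS le_top
  rw [hST] at hXS
  obtain ⟨X', hX'def⟩ : ∃ X', X' = BG7.cj c⁻¹ X := ⟨_, rfl⟩
  have hX'T : X' ≤ T := by
    rw [hX'def]
    have := BG7.cj_mono (k := c⁻¹) hXS
    rwa [BG7.cj_inv_cj] at this
  have hX'c : Nat.card X' = p := by rw [hX'def, BG7.card_cj, hXc]
  have hcinv : c⁻¹ ∈ Subgroup.centralizer (E₁ : Set G) := Subgroup.inv_mem _ hcE₁
  have hE₁X' : E₁ ≤ Subgroup.centralizer (X' : Set G) := hX'def ▸ le_centralizer_cj hcinv hE₁X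
  have hX'σ : X' ≤ sigmaCore L := hX'T.trans hT.1
  have hX'y : X' ≤ Subgroup.centralizer ({y} : Set G) := by
    have h1 : Subgroup.zpowers y ≤ Subgroup.centralizer (X' : Set G) :=
      ((Subgroup.zpowers_le).mpr hyE₁).trans hE₁X'
    have h2 := Subgroup.le_centralizer_iff.mp h1
    rwa [centralizer_zpowers_eq] at h2
  -- it suffices to treat `X'`
  suffices hsuff : X' ≤ ⁅sigmaCore L, sigmaCore L⁆ by
    have h1 : X = BG7.cj c X' := by
      rw [hX'def]
      have := BG7.cj_inv_cj c⁻¹ X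
      rw [inv_inv] at this
      exact this.symm
    rw [h1]
    intro z hz
    rw [BG7.mem_cj] at hz
    have h2 := hsuff hz
    have hn : (⁅sigmaCore L, sigmaCore L⁆ : Subgroup G) ≤ sigmaCore L := BGB.comm_le_self _
    have h3 : c * (c⁻¹ * z * c) * c⁻¹ ∈ ⁅sigmaCore L, sigmaCore L⁆ := BGB.conj_mem_commutator hcσ h2
    have h4 : c * (c⁻¹ * z * c) * c⁻¹ = z := by group
    rwa [h4] at h3
  -- the narrow package
  obtain ⟨hE'T, -, hCT⟩ := narrow_pkg hG hL hE hpσ hpβ hT hT₀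
  have hTX' : Subgroup.centralizer (T : Set G) ≤ Subgroup.centralizer (X' : Set G) :=
    Subgroup.centralizer_le (by exact_mod_cast hX'T)
  have hE'X' : ⁅E, E⁆ ≤ Subgroup.centralizer (X' : Set G) := hE'T.trans hTX'
  -- `E` centralizes `X'`
  have hEX' : E ≤ Subgroup.centralizer (X' : Set G) := by
    apply le_of_forall_prime_not_dvd_relIndex
    intro s hs hsd
    haveI : Fact s.Prime := ⟨hs⟩
    have hsE : s ∣ Nat.card E := hsd.trans (Subgroup.relIndex_dvd_card _ _)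
    have hsσ : s ∉ sigma L := hnotσ s hs hsE
    have hsL : s ∣ Nat.card L := hsE.trans (Subgroup.card_dvd_of_le hEL)
    have hZ1 : ⁅E, E⁆ ≤ E ⊓ Subgroup.centralizer (X' : Set G) := le_inf (BGB.comm_le_self E) hE'X'
    have hZ2 : E₁ ≤ E ⊓ Subgroup.centralizer (X' : Set G) := le_inf hE₁E hE₁X'
    by_cases hr1 : PRankLE s 1 ↥L
    · by_cases hd : s ∣ Nat.card ↥⁅L, L⁆
      · -- `s ∈ τ₃(L)`
        have hs3 : s ∈ tau3 L := ⟨hs, hsσ, hd, hr1⟩
        obtain ⟨E₃, hE₃⟩ := BGK.exists_isPiHallOf E hEs (tau3 L)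
        have hE₃' : E₃ ≤ ⁅E, E⁆ := ((Cfsg.Agent.S1415.result hG L hL E hE).2.2 E₃ hE₃).2.1
        have h1 : (E ⊓ Subgroup.centralizer (X' : Set G)).relIndex E ∣ E₃.relIndex E :=
          Subgroup.relIndex_dvd_of_le_left E (hE₃'.trans hZ1)
        exact hE₃.2.2 s hs hs3 (hsd.trans h1)
      · -- `s ∈ τ₁(L)`
        have hs1 : s ∈ tau1 L := ⟨hs, hsσ, hsL, hd, hr1⟩
        have h1 : (E ⊓ Subgroup.centralizer (X' : Set G)).relIndex E ∣ E₁.relIndex E :=
          Subgroup.relIndex_dvd_of_le_left E hZ2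
        exact hE₁.2.2 s hs hs1 (hsd.trans h1)
    · -- `s ∈ τ₂(L)`: impossible
      exfalso
      have hs2 : s ∈ tau2 L := BGK.mem_tau2_of_not_rank_one hG hL hs hsσ hr1
      obtain ⟨A₀, hA₀L, hA₀e, hA₀c⟩ := BGD.exists_sq_of_rank hs2.2.2.1 hs2.2.2.2
      have hcopA₀ : (Nat.card A₀).Coprime (Nat.card (sigmaCore L)) := by
        apply BGD.coprime_sigmaCore hG hL
        intro r hr hrd
        rw [hA₀c] at hrd
        rw [(Nat.prime_dvd_prime_iff_eq hr hs).mp (hr.dvd_of_dvd_pow hrd)]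
        exact hsσ
      obtain ⟨m₂, hm₂L, hA₀m⟩ := BGD.exists_cj_le hG hL hE hA₀L hcopA₀
      obtain ⟨A, hAdef⟩ : ∃ A, A = BG7.cj m₂⁻¹ A₀ := ⟨_, rfl⟩
      have hAE : A ≤ E := by
        rw [hAdef]
        have := BG7.cj_mono (k := m₂⁻¹) hA₀m
        rwa [BG7.cj_inv_cj] at this
      have hAe : IsElementaryAbelian s A := hAdef ▸ BG9.isElementaryAbelian_cj m₂⁻¹ hA₀e
      have hAc : Nat.card A = s ^ 2 := by rw [hAdef, BG7.card_cj, hA₀c]
      have h1418 := Cfsg.Agent.S1418.result hG L hL E hE s hs2 A ⟨hAE, hAe, hAc⟩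
      have h1417 := Cfsg.Agent.S1417.result hG L hL s hs2 A ⟨hAE.trans hEL, hAe, hAc⟩
      have hEA : E ≤ Subgroup.normalizer (A : Set G) := h1418.1.1
      have hfix : sigmaCore L ⊓ Subgroup.centralizer (A : Set G) = ⊥ := h1417.2.2.2.1
      -- `A` centralizes `X'`
      have hAX' : A ≤ Subgroup.centralizer (X' : Set G) := by
        haveI : IsMulCommutative ↥A := hAe.1
        have hYA : Subgroup.zpowers y ≤ Subgroup.normalizer (A : Set G) := hYE.trans hEA
        have hcopYA : (Nat.card (Subgroup.zpowers y)).Coprime (Nat.card A) := by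
          rw [hYc, hAc]
          apply Nat.Coprime.pow_right
          rw [Nat.coprime_primes hq' hs]
          rintro rfl
          exact hr1 hq.2.2.2.2
        obtain ⟨-, hdec⟩ := coprime_abelian_decomposition (Subgroup.zpowers y) A hYA hcopYA
        rw [← hdec]
        apply sup_le
        · intro a ha
          obtain ⟨haA, haY⟩ := Subgroup.mem_inf.mp ha
          by_cases ha1 : a = 1
          · rw [ha1]; exact Subgroup.one_mem _
          have hao : orderOf a = s := orderOf_eq_prime (hAe.2 a haA) ha1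
          have hac : Nat.card (Subgroup.zpowers a) = s := by rw [Nat.card_zpowers, hao]
          have hRE : Subgroup.zpowers a ≤
              E ⊓ Subgroup.centralizer ((Subgroup.zpowers y : Subgroup G) : Set G) := by
            rw [Subgroup.zpowers_le]
            exact Subgroup.mem_inf.mpr ⟨hAE haA, haY⟩
          have h1428 := Cfsg.Agent.S1428.result hG L hL E hE q hq (Subgroup.zpowers y) hYE hYc
            (Subgroup.zpowers a) hRE (by rw [hac]; exact hs)
          have h3 : X' ≤ sigmaCore L ⊓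
              Subgroup.centralizer ((Subgroup.zpowers y : Subgroup G) : Set G) := by
            rw [centralizer_zpowers_eq]; exact le_inf hX'σ hX'y
          have h4 := (h3.trans h1428).trans inf_le_right
          exact (Subgroup.le_centralizer_iff.mp h4) (Subgroup.mem_zpowers a)
        · exact (Subgroup.commutator_mono hAE hYE).trans hE'X'
      have h5 : X' ≤ sigmaCore L ⊓ Subgroup.centralizer (A : Set G) :=
        le_inf hX'σ (Subgroup.le_centralizer_iff.mp hAX')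
      rw [hfix, le_bot_iff] at h5
      rw [h5, Subgroup.card_bot] at hX'c
      exact hp'.one_lt.ne hX'c
  exact (le_inf hX'T (Subgroup.le_centralizer_iff.mp hEX')).trans hCT

/-- **B&G Theorem 13.4 (uniqueness).** Let `y ∈ E` have prime order `q ∈ τ₁(L)` and let `X ≤ C_{L_σ}(y)` have prime
order `p`. Then `L` is the only maximal subgroup containing `C_G(X)`, and the only one containing a Sylow
`p`-subgroup of `L_σ`. -/
theorem uniq_of_tau1 (hG : IsMinSimpleOddOrder G) {L : Subgroup G} (hL : IsCoatom L)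
    {E : Subgroup G} (hE : IsComplIn E (sigmaCore L) L) {q : ℕ} (hq : q ∈ tau1 L) {y : G}
    (hyE : y ∈ E) (hyo : orderOf y = q) {X : Subgroup G} (hXσ : X ≤ sigmaCore L)
    (hXy : X ≤ Subgroup.centralizer ({y} : Set G)) {p : ℕ} [hp : Fact p.Prime]
    (hXc : Nat.card X = p) (P : Sylow p ↥(sigmaCore L)) :
    (Subgroup.centralizer (X : Set G) ≤ L ∧
        ∀ L' : Subgroup G, IsCoatom L' → Subgroup.centralizer (X : Set G) ≤ L' → L' = L) ∧
      InUniqueMaximal ((P : Subgroup ↥(sigmaCore L)).map (sigmaCore L).subtype) ∧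
      (P : Subgroup ↥(sigmaCore L)).map (sigmaCore L).subtype ≤ L := by
  obtain ⟨hσHall, -, -⟩ := BGA.s1350 hG L hL
  have hpσ : p ∈ sigma L := by
    apply hσHall.2.1 p hp.out
    rw [← hXc]
    exact Subgroup.card_dvd_of_le hXσ
  refine Cfsg.Agent.S1423.result hG L hL p hpσ X (hXσ.trans (BGE.sigmaCore_le L)) hXc P ?_
  by_cases hpβ : p ∈ beta L
  · exact Or.inl hpβ
  · exact Or.inr (tau1_cent_le_comm hG hL hE hq hyE hyo hXσ hXy hXc hpβ)

end Cfsg.Agent.Lib.Helper3.BG14
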