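import Mathlib
import Cfsg.Agent.Lib.Helper3.BG14f
import Cfsg.Agent.Lib.Helper3.BG13g
import Cfsg.Agent.Lib.Helper1.GL4
import Cfsg.Agent.Lib.Helper1.BG7b
import Cfsg.Agent.S1408
import Cfsg.Agent.S1419
import Cfsg.Agent.Lib.Helper1.BGG1
import Cfsg.Agent.Lib.Helper7.BGD2

set_option autoImplicit false
set_option maxHeartbeats 4000000
set_option linter.unusedVariables false
set_option linter.unusedSectionVars false
set_option linter.style.longLine false
set_option linter.unusedSimpArgs false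
set_option linter.deprecated false
set_option linter.style.haveILetI false

/-!
# The `τ₂`-configuration OMEGA is impossible (`no_omega`)

`M` maximal, `E` a complement, `p ∈ τ₂(M)`, `A ≤ E` elementary of order `p²`, `y ∈ E` of prime order
`q ∈ τ₁(M)` with `C_{M_σ}(y) ≠ 1`: then `C_A(y) = 1`.
-/

open scoped commutatorElement Pointwise
universe u
namespace Cfsg.Agent.Lib.Helper3.BG14

open Cfsg Cfsg.Agent.Lib.Helper1 Cfsg.Agent.Lib.Helper7 Cfsg.Agent.Lib.Helper7.BGRows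

variable {G : Type u} [Group G] [Finite G]

/-- If `N_G(A)` (for `A` elementary abelian of order `p²`) does not normalize `C_A(y)`, `y ∈ N_G(A)`, then
`N_G(A)` contains a nonabelian `p`-subgroup containing `A`. -/
theorem exists_nonabelian_of_normalizer (hG : IsMinSimpleOddOrder G) {p : ℕ} [hp : Fact p.Prime]
    {A : Subgroup G} (hAe : IsElementaryAbelian p A) (hAc : Nat.card A = p ^ 2) {y : G}
    (hyA : y ∈ Subgroup.normalizer (A : Set G))
    (hN : ¬ Subgroup.normalizer (A : Set G) ≤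
      Subgroup.normalizer ((A ⊓ Subgroup.centralizer ({y} : Set G) : Subgroup G) : Set G)) :
    ∃ Pn : Subgroup G, Pn ≤ Subgroup.normalizer (A : Set G) ∧ IsPGroup p Pn ∧ A ≤ Pn ∧
      ¬ IsMulCommutative ↥Pn := by
  classical
  have hp' := hp.out
  have hAp : IsPGroup p A := BG9.isPGroup_of_isElementaryAbelian hAe
  have hA1 : A ≠ ⊥ := by
    intro h
    rw [h, Subgroup.card_bot] at hAc
    have := hp'.one_lt
    nlinarith
  have hNtop : Subgroup.normalizer (A : Set G) ≠ ⊤ :=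
    BG7.normalizer_ne_top hG hA1 (BG7.pgroup_ne_top hG hAp)
  haveI hNs : Group.IsSolvable ↥(Subgroup.normalizer (A : Set G)) := BG7.isSolvable_of_ne_top hG hNtop
  have hAN : A ≤ Subgroup.normalizer (A : Set G) := Subgroup.le_normalizer
  obtain ⟨Pn, hPn, hAPn⟩ := BT.exists_isMaxP_ge hAp hAN
  refine ⟨Pn, hPn.1, hPn.2.1, hAPn, ?_⟩
  intro hcomm
  apply hN
  have hPnC : Pn ≤ Subgroup.centralizer (A : Set G) := by
    intro x hx
    rw [Subgroup.mem_centralizer_iff]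
    intro a ha
    have := hcomm.is_comm.comm (⟨a, hAPn ha⟩ : ↥Pn) ⟨x, hx⟩
    exact congrArg Subtype.val this
  have hidx : ¬ p ∣ (Subgroup.centralizer (A : Set G)).relIndex (Subgroup.normalizer (A : Set G)) :=
    fun h => BG13.not_dvd_relIndex_of_isMaxP hPn
      (h.trans (Subgroup.relIndex_dvd_of_le_left _ hPnC))
  have hp2 : p ≠ 2 := by
    intro h2
    have h3 : 2 ∣ Nat.card G := by
      rw [← h2]
      exact (Dvd.intro_left (p ^ 1) (by rw [← pow_succ]; exact hAc.symm) : p ∣ Nat.card A).trans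
        (Subgroup.card_subgroup_dvd_card A)
    have := hG.1
    rw [Nat.odd_iff] at this
    omega
  have hodd : Odd (Nat.card ↥(Subgroup.normalizer (A : Set G))) :=
    hG.1.of_dvd_nat (Subgroup.card_subgroup_dvd_card _)
  obtain ⟨ρ, hρ⟩ : ∃ ρ : ↥(Subgroup.normalizer (A : Set G)) →* MulAut ↥A, ρ = A.normalizerMonoidHom :=
    ⟨_, rfl⟩
  have hker : ρ.ker = (Subgroup.centralizer (A : Set G)).subgroupOf (Subgroup.normalizer (A : Set G)) := by
    rw [hρ]; exact Subgroup.normalizerMonoidHom_ker A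
  have hgl := GLTwo.commutator_pow_of_action (V := ↥A) (B := ↥(Subgroup.normalizer (A : Set G))) p hp2
    (fun a b => hAe.1.is_comm.comm a b)
    (fun a => Subtype.ext (by rw [Subgroup.coe_pow]; exact hAe.2 a a.2)) hAc ρ hodd hNs
  -- commutators with `y` centralize `A`
  have key : ∀ n ∈ Subgroup.normalizer (A : Set G), ⁅n, y⁆ ∈ Subgroup.centralizer (A : Set G) := by
    intro n hn
    obtain ⟨c', hc'def⟩ : ∃ c' : ↥(Subgroup.normalizer (A : Set G)),
        c' = ⁅(⟨n, hn⟩ : ↥(Subgroup.normalizer (A : Set G))), ⟨y, hyA⟩⁆ := ⟨_, rfl⟩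
    have hc'comm : c' ∈ commutator ↥(Subgroup.normalizer (A : Set G)) := by
      rw [hc'def, commutator_def]
      exact Subgroup.commutator_mem_commutator (Subgroup.mem_top _) (Subgroup.mem_top _)
    have h1 := hgl c' hc'comm
    have h2 : c' ^ p ∈ ρ.ker := by rw [MonoidHom.mem_ker, map_pow]; exact h1
    haveI : ρ.ker.Normal := MonoidHom.normal_ker ρ
    have hcop : Nat.Coprime p ρ.ker.index := by
      rw [hker, Nat.Prime.coprime_iff_not_dvd hp']
      exact hidx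
    have h4 : c' ∈ ρ.ker := by
      have h5 : ((c' : ↥(Subgroup.normalizer (A : Set G)) ⧸ ρ.ker)) ^ p = 1 := by
        rw [← QuotientGroup.mk_pow]
        exact (QuotientGroup.eq_one_iff _).mpr h2
      have h6 : orderOf (c' : ↥(Subgroup.normalizer (A : Set G)) ⧸ ρ.ker) ∣ p :=
        orderOf_dvd_of_pow_eq_one h5
      have h7 : orderOf (c' : ↥(Subgroup.normalizer (A : Set G)) ⧸ ρ.ker) ∣ ρ.ker.index := by
        rw [Subgroup.index_eq_card]
        exact orderOf_dvd_natCard _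
      have h8 : orderOf (c' : ↥(Subgroup.normalizer (A : Set G)) ⧸ ρ.ker) = 1 :=
        Nat.eq_one_of_dvd_one (hcop ▸ Nat.dvd_gcd h6 h7)
      exact (QuotientGroup.eq_one_iff _).mp (orderOf_eq_one_iff.mp h8)
    rw [hker, Subgroup.mem_subgroupOf, hc'def] at h4
    simpa [commutatorElement_def] using h4
  -- hence `N_G(A)` normalizes `C_A(y)`
  have claim : ∀ n ∈ Subgroup.normalizer (A : Set G), ∀ a ∈ A ⊓ Subgroup.centralizer ({y} : Set G),
      n * a * n⁻¹ ∈ A ⊓ Subgroup.centralizer ({y} : Set G) := by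
    intro n hn a ha
    obtain ⟨haA, hay⟩ := Subgroup.mem_inf.mp ha
    have ha'A : n * a * n⁻¹ ∈ A := (Subgroup.mem_normalizer_iff.mp hn a).mp haA
    refine Subgroup.mem_inf.mpr ⟨ha'A, ?_⟩
    rw [Subgroup.mem_centralizer_iff]
    intro z hz
    rw [Set.mem_singleton_iff] at hz
    rw [hz]
    have hya : Commute y a := (Subgroup.mem_centralizer_iff.mp hay) y (Set.mem_singleton y)
    have hc : Commute ⁅n, y⁆ (n * a * n⁻¹) :=
      ((Subgroup.mem_centralizer_iff.mp (key n hn)) _ ha'A).symm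
    have h1 : Commute (n * y * n⁻¹) (n * a * n⁻¹) := by
      show n * y * n⁻¹ * (n * a * n⁻¹) = n * a * n⁻¹ * (n * y * n⁻¹)
      have : n * y * n⁻¹ * (n * a * n⁻¹) = n * (y * a) * n⁻¹ := by group
      rw [this, hya.eq]
      group
    have h2 : n * y * n⁻¹ = ⁅n, y⁆ * y := by rw [commutatorElement_def]; group
    rw [h2] at h1
    have h3 : Commute (⁅n, y⁆⁻¹ * (⁅n, y⁆ * y)) (n * a * n⁻¹) := hc.inv_left.mul_left h1
    rw [inv_mul_cancel_left] at h3
    exact h3.eq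
  intro n hn
  rw [Subgroup.mem_normalizer_iff]
  intro h
  constructor
  · exact claim n hn h
  · intro hh
    have h1 := claim n⁻¹ (Subgroup.inv_mem _ hn) _ hh
    have h2 : n⁻¹ * (n * h * n⁻¹) * n⁻¹⁻¹ = h := by group
    rwa [h2] at h1

/-- Structure forced by `N_G(C_A(y)) ≤ M` in the `τ₂`-situation: a nonabelian `p`-subgroup of `N_G(A)` containing `A`,
nonabelian Sylow `p`-subgroups of `G`, and `C_A(y) = A ∩ C_G(M_σ)`. -/
theorem omega_struct (hG : IsMinSimpleOddOrder G) {M : Subgroup G} (hM : IsCoatom M) {E : Subgroup G}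
    (hE : IsComplIn E (sigmaCore M) M) {p : ℕ} [hp : Fact p.Prime] (hp2 : p ∈ tau2 M) {A : Subgroup G}
    (hA : A ≤ E ∧ IsElementaryAbelian p A ∧ Nat.card A = p ^ 2) {y : G} (hyE : y ∈ E)
    (hXc : Nat.card ↥(A ⊓ Subgroup.centralizer ({y} : Set G)) = p)
    (hNX : Subgroup.normalizer ((A ⊓ Subgroup.centralizer ({y} : Set G) : Subgroup G) : Set G) ≤ M) :
    (∃ Pn : Subgroup G, Pn ≤ Subgroup.normalizer (A : Set G) ∧ IsPGroup p Pn ∧ A ≤ Pn ∧
        ¬ IsMulCommutative ↥Pn) ∧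
      (∀ S : Sylow p G, ¬ IsMulCommutative (S : Subgroup G)) ∧
      A ⊓ Subgroup.centralizer ({y} : Set G) = A ⊓ Subgroup.centralizer (sigmaCore M : Set G) := by
  classical
  have h1418 := Cfsg.Agent.S1418.result hG M hM E hE p hp2 A hA
  have hEA : E ≤ Subgroup.normalizer (A : Set G) := h1418.1.1
  have hNA : ¬ Subgroup.normalizer (A : Set G) ≤ M := h1418.2.1.2.2
  obtain ⟨Pn, hPnN, hPnp, hAPn, hPnc⟩ := exists_nonabelian_of_normalizer hG hA.2.1 hA.2.2 (hEA hyE)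
    (fun h => hNA (h.trans hNX))
  have hSyl : ∀ S : Sylow p G, ¬ IsMulCommutative (S : Subgroup G) := by
    intro S hS
    obtain ⟨S₀, hS₀⟩ := hPnp.exists_le_sylow
    apply hPnc
    have e : ↥(S : Subgroup G) ≃* ↥(S₀ : Subgroup G) := Sylow.equiv S S₀
    have hS₀c : ∀ a b : ↥(S₀ : Subgroup G), a * b = b * a := by
      intro a b
      have h1 : e.symm a * e.symm b = e.symm b * e.symm a := hS.is_comm.comm _ _
      have h2 := congrArg e h1
      rwa [map_mul, map_mul, e.apply_symm_apply, e.apply_symm_apply] at h2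
    refine ⟨⟨fun a b => ?_⟩⟩
    have := hS₀c ⟨(a : G), hS₀ a.2⟩ ⟨(b : G), hS₀ b.2⟩
    have h3 : (a : G) * (b : G) = (b : G) * (a : G) := congrArg Subtype.val this
    exact Subtype.ext h3
  refine ⟨⟨Pn, hPnN, hPnp, hAPn, hPnc⟩, hSyl, ?_⟩
  have h1419 := Cfsg.Agent.S1419.result hG M hM E hE p hp2 hSyl A hA
  by_contra hne
  have hXE : A ⊓ Subgroup.centralizer ({y} : Set G) ≤ E := inf_le_left.trans hA.1
  exact (h1419.2.2 _ hXE hXc hne).2 ((Subgroup.centralizer_le_normalizer _).trans hNX)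

/-- In a subgroup `K` with a normal `p`-complement, a `p'`-element `y ∈ K` normalizing a `p`-subgroup `A ≤ K`
centralizes it. -/
theorem centralizes_of_npc {p : ℕ} [hp : Fact p.Prime] {K A : Subgroup G}
    (hnpc : HasNormalPComplement p ↥K) (hAK : A ≤ K) (hA : IsPGroup p A) {y : G} (hyK : y ∈ K)
    (hyA : y ∈ Subgroup.normalizer (A : Set G)) (hcop : (orderOf y).Coprime p) :
    A ≤ Subgroup.centralizer ({y} : Set G) := by
  classical
  obtain ⟨P, N, hNn, hNc⟩ := hnpc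
  have hyN : (⟨y, hyK⟩ : ↥K) ∈ N := by
    rw [mem_normal_complement_iff P N hNc, Subgroup.orderOf_mk]
    exact hcop
  intro a ha
  rw [Subgroup.mem_centralizer_iff]
  intro z hz
  rw [Set.mem_singleton_iff] at hz
  rw [hz]
  obtain ⟨c, hcdef⟩ : ∃ c : ↥K, c = ⁅(⟨a, hAK ha⟩ : ↥K), ⟨y, hyK⟩⁆ := ⟨_, rfl⟩
  have hcN : c ∈ N := by
    rw [hcdef, commutatorElement_def]
    exact N.mul_mem (hNn.conj_mem _ hyN _) (N.inv_mem hyN)
  have hcG : (c : G) = a * (y * a⁻¹ * y⁻¹) := by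
    rw [hcdef]
    simp [commutatorElement_def, mul_assoc]
  have hcA : (c : G) ∈ A := by
    rw [hcG]
    exact A.mul_mem ha ((Subgroup.mem_normalizer_iff.mp hyA a⁻¹).mp (A.inv_mem ha))
  have hc1 : Nat.Coprime (orderOf c) p := (mem_normal_complement_iff P N hNc c).mp hcN
  obtain ⟨k, hk⟩ := (IsPGroup.iff_orderOf.mp hA) ⟨(c : G), hcA⟩
  rw [Subgroup.orderOf_mk, Subgroup.orderOf_coe] at hk
  have hc2 : orderOf c = 1 := by
    rw [hk] at hc1 ⊢
    rcases Nat.eq_zero_or_pos k with h0 | h0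
    · rw [h0, pow_zero]
    · exfalso
      have h1 : p ∣ p ^ k := dvd_pow_self p h0.ne'
      have h2 : p ∣ Nat.gcd (p ^ k) p := Nat.dvd_gcd h1 dvd_rfl
      rw [hc1] at h2
      exact hp.out.one_lt.ne' (Nat.dvd_one.mp h2)
  have hc3 : (c : G) = 1 := by rw [orderOf_eq_one_iff.mp hc2]; rfl
  rw [hcG] at hc3
  have h4 : y * a⁻¹ * y⁻¹ = a⁻¹ := by
    have := congrArg (fun t => a⁻¹ * t) hc3
    simpa [mul_assoc] using this
  have h5 : y * a⁻¹ = a⁻¹ * y := by
    have := congrArg (fun t => t * y) h4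
    simpa [mul_assoc] using this
  have h6 : Commute y a⁻¹ := h5
  have h7 := h6.inv_right
  rw [inv_inv] at h7
  exact h7.eq

/-- **OMEGA is impossible.** `M` maximal, `E` a complement of `M_σ`, `p ∈ τ₂(M)`, `A ≤ E` elementary abelian of order
`p²`, `y ∈ E` of prime order `q ∈ τ₁(M)` with `C_{M_σ}(y) ≠ 1`. Then `C_A(y) = 1`. -/
theorem no_omega (hG : IsMinSimpleOddOrder G) {M : Subgroup G} (hM : IsCoatom M) {E : Subgroup G}
    (hE : IsComplIn E (sigmaCore M) M) {p : ℕ} [hp : Fact p.Prime] (hp2 : p ∈ tau2 M) {A : Subgroup G}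
    (hA : A ≤ E ∧ IsElementaryAbelian p A ∧ Nat.card A = p ^ 2) {q : ℕ} (hq : q ∈ tau1 M) {y : G}
    (hyE : y ∈ E) (hyo : orderOf y = q)
    (hD : sigmaCore M ⊓ Subgroup.centralizer ({y} : Set G) ≠ ⊥) :
    A ⊓ Subgroup.centralizer ({y} : Set G) = ⊥ := by
  classical
  by_contra hX1
  have hp' := hp.out
  have hq' : q.Prime := hq.1
  haveI : Fact q.Prime := ⟨hq'⟩
  have hEM : E ≤ M := hE.1
  obtain ⟨X, hXdef⟩ : ∃ X, X = A ⊓ Subgroup.centralizer ({y} : Set G) := ⟨_, rfl⟩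
  rw [← hXdef] at hX1
  have hXA : X ≤ A := hXdef ▸ inf_le_left
  have hXy : X ≤ Subgroup.centralizer ({y} : Set G) := hXdef ▸ inf_le_right
  have hYE : Subgroup.zpowers y ≤ E := (Subgroup.zpowers_le).mpr hyE
  have hYc : Nat.card (Subgroup.zpowers y) = q := by rw [Nat.card_zpowers, hyo]
  have hYp : IsPGroup q (Subgroup.zpowers y) := IsPGroup.of_card (n := 1) (by rw [hYc, pow_one])
  have h1417 := Cfsg.Agent.S1417.result hG M hM p hp2 A ⟨hA.1.trans hEM, hA.2.1, hA.2.2⟩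
  have h1418 := Cfsg.Agent.S1418.result hG M hM E hE p hp2 A hA
  have hfix : sigmaCore M ⊓ Subgroup.centralizer (A : Set G) = ⊥ := h1417.2.2.2.1
  have hAp : IsPGroup p A := BG9.isPGroup_of_isElementaryAbelian hA.2.1
  -- `D = C_{M_σ}(y)` centralizes every element of `C_A(y)`
  have hDa : ∀ a ∈ A, a * y = y * a →
      sigmaCore M ⊓ Subgroup.centralizer ({y} : Set G) ≤ Subgroup.centralizer ({a} : Set G) := by
    intro a haA hay
    by_cases ha1 : a = 1
    · rw [ha1]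
      intro d _
      rw [Subgroup.mem_centralizer_iff]
      intro z hz
      rw [Set.mem_singleton_iff] at hz
      rw [hz, one_mul, mul_one]
    have hao : orderOf a = p := orderOf_eq_prime (hA.2.1.2 a haA) ha1
    have hac : Nat.card (Subgroup.zpowers a) = p := by rw [Nat.card_zpowers, hao]
    have hRE : Subgroup.zpowers a ≤
        E ⊓ Subgroup.centralizer ((Subgroup.zpowers y : Subgroup G) : Set G) := by
      rw [Subgroup.zpowers_le]
      refine Subgroup.mem_inf.mpr ⟨hA.1 haA, ?_⟩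
      rw [centralizer_zpowers_eq, Subgroup.mem_centralizer_iff]
      intro z hz
      rw [Set.mem_singleton_iff] at hz
      rw [hz]; exact hay.symm
    have h1428 := Cfsg.Agent.S1428.result hG M hM E hE q hq (Subgroup.zpowers y) hYE hYc
      (Subgroup.zpowers a) hRE (by rw [hac]; exact hp')
    rw [centralizer_zpowers_eq, centralizer_zpowers_eq] at h1428
    exact h1428.trans inf_le_right
  have hcomm_of_mem : ∀ a ∈ X, a * y = y * a := fun a ha =>
    ((Subgroup.mem_centralizer_iff.mp (hXy ha)) y (Set.mem_singleton y)).symm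
  -- (1) `|X| = p`
  have hXc : Nat.card X = p := by
    have hdvd : Nat.card X ∣ p ^ 2 := hA.2.2 ▸ Subgroup.card_dvd_of_le hXA
    obtain ⟨k, hk2, hk⟩ := (Nat.dvd_prime_pow hp').mp hdvd
    interval_cases k
    · exfalso
      apply hX1
      rw [pow_zero] at hk
      exact Subgroup.card_eq_one.mp hk
    · rw [pow_one] at hk; exact hk
    · exfalso
      have hXeqA : X = A := Subgroup.eq_of_le_of_card_ge hXA (by rw [hk, hA.2.2])
      apply hD
      rw [eq_bot_iff, ← hfix]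
      refine le_inf inf_le_left ?_
      intro d hd
      rw [Subgroup.mem_centralizer_iff]
      intro a ha
      have haX : a ∈ X := hXeqA ▸ ha
      exact (Subgroup.mem_centralizer_iff.mp (hDa a ha (hcomm_of_mem a haX) hd)) a
        (Set.mem_singleton a)
  -- (2) `C_{M_σ}(X) ≠ 1`
  have hDX : sigmaCore M ⊓ Subgroup.centralizer ({y} : Set G) ≤
      sigmaCore M ⊓ Subgroup.centralizer (X : Set G) := by
    refine le_inf inf_le_left ?_
    intro d hd
    rw [Subgroup.mem_centralizer_iff]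
    intro a ha
    exact (Subgroup.mem_centralizer_iff.mp (hDa a (hXA ha) (hcomm_of_mem a ha) hd)) a
      (Set.mem_singleton a)
  have hCX1 : sigmaCore M ⊓ Subgroup.centralizer (X : Set G) ≠ ⊥ := by
    intro h
    apply hD
    rw [eq_bot_iff, ← h]
    exact hDX
  obtain ⟨hCXM, hCXu⟩ := h1418.2.2 X hXA hXc hCX1
  -- (3) `N_G(X) ≤ M`
  have hXp : IsPGroup p X := hAp.to_le hXA
  have hNXtop := BG7.normalizer_ne_top hG hX1 (BG7.pgroup_ne_top hG hXp)
  obtain ⟨L₀, hL₀, hNL₀⟩ := (eq_top_or_exists_le_coatom _).resolve_left hNXtop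
  have hL₀M : L₀ = M := hCXu L₀ hL₀ ((Subgroup.centralizer_le_normalizer _).trans hNL₀)
  have hNXM : Subgroup.normalizer (X : Set G) ≤ M := hL₀M ▸ hNL₀
  -- (4) the structure
  obtain ⟨⟨Pn, hPnN, hPnp, hAPn, hPnc⟩, hSyl, hXeq⟩ :=
    omega_struct hG hM hE hp2 hA hyE (hXdef ▸ hXc) (hXdef ▸ hNXM)
  have hMσX : sigmaCore M ≤ Subgroup.centralizer (X : Set G) := by
    rw [hXdef, hXeq, Subgroup.le_centralizer_iff]
    exact inf_le_right
  -- (5) a maximal subgroup `L ≥ N_G(A)`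
  have hA1 : A ≠ ⊥ := fun h => hX1 (le_bot_iff.mp (h ▸ hXA))
  have hNAtop := BG7.normalizer_ne_top hG hA1 (BG7.pgroup_ne_top hG hAp)
  obtain ⟨L, hL, hNAL⟩ := (eq_top_or_exists_le_coatom _).resolve_left hNAtop
  have hLM : L ≠ M := fun h => h1418.2.1.2.2 (h ▸ hNAL)
  have hEL : E ≤ L := h1418.1.1.trans hNAL
  have hAL : A ≤ L := hA.1.trans hEL
  have hPnL : Pn ≤ L := hPnN.trans hNAL
  -- (6) `p ∈ σ(L)`
  have hpσL : p ∈ sigma L := by
    by_contra hnot
    have hp2L : p ∈ tau2 L := BG13.tau2_of_sq hG hL hnot hAL hA.2.1 hA.2.2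
    have h1417L := Cfsg.Agent.S1417.result hG L hL p hp2L A ⟨hAL, hA.2.1, hA.2.2⟩
    obtain ⟨P, hP⟩ := BGD.exists_sylow_ge hPnp hPnL
    have hPc := (h1417L.2.1 P).1
    apply hPnc
    refine ⟨⟨fun a b => ?_⟩⟩
    obtain ⟨a', ha', hae⟩ := hP a.2
    obtain ⟨b', hb', hbe⟩ := hP b.2
    have h1 := hPc.is_comm.comm (⟨a', ha'⟩ : ↥(P : Subgroup ↥L)) ⟨b', hb'⟩
    have h2 : (a' : ↥L) * b' = b' * a' := congrArg Subtype.val h1
    have h3 : ((a' : ↥L) : G) * (b' : G) = (b' : G) * (a' : G) := congrArg Subtype.val h2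
    apply Subtype.ext
    show (a : G) * (b : G) = (b : G) * (a : G)
    rw [← hae, ← hbe]
    exact h3
  -- (7) `p ∉ β(L)`
  have hni : ¬ IsIdealPrime p G :=
    (Cfsg.Agent.S1408.result hG M hM p hp2.2.1 hp2.2.2.1 hp2.2.2.2).1
  have hpβL : p ∉ beta L := fun h => hni h.2
  -- (8), (9)
  have hALσ : A ≤ sigmaCore L := BGE.qsub_le_sigmaCore hG hL hpσL hAp hAL
  have hMσL : sigmaCore M ⊓ L = ⊥ := h1417.2.2.2.2.1 L hL hLM hAL
  have hyL : y ∈ L := hEL hyE
  have hYL : Subgroup.zpowers y ≤ L := (Subgroup.zpowers_le).mpr hyL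
  have hyNA : y ∈ Subgroup.normalizer (A : Set G) := h1418.1.1 hyE
  have hqp : q ≠ p := by
    rintro rfl
    exact hp2.2.2.2 hq.2.2.2.2
  have hcopyp : (orderOf y).Coprime p := by
    rw [hyo]; exact (Nat.coprime_primes hq' hp').mpr hqp
  have hpL : p ∣ Nat.card L := hpσL.2.1
  have h1414L := (Cfsg.Agent.S1414.result hG L hL).2.2.2.2 p hp' hpL hpβL
  have hAny : ¬ A ≤ Subgroup.centralizer ({y} : Set G) := by
    intro h
    have h1 : X = A := by rw [hXdef]; exact inf_eq_left.mpr h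
    rw [h1, hA.2.2] at hXc
    have := hp'.one_lt
    nlinarith
  -- (10) `q ∉ σ(L)`
  have hqσL : q ∉ sigma L := by
    intro hqσ
    have hyLσ : y ∈ sigmaCore L :=
      BGE.qsub_le_sigmaCore hG hL hqσ hYp hYL (Subgroup.mem_zpowers y)
    exact hAny (centralizes_of_npc h1414L.2.1 hALσ hAp hyLσ hyNA hcopyp)
  have hqL : q ∣ Nat.card L := by
    rw [← hYc]; exact Subgroup.card_dvd_of_le hYL
  -- (11) `q ∉ τ₃(L)`
  have hq3L : q ∉ tau3 L := by
    intro h3
    have hyL' : y ∈ ⁅L, L⁆ := BG13.tau3_le_commutator hG hL h3 hYL hYp (Subgroup.mem_zpowers y)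
    obtain ⟨S, hS, hAS⟩ := BT.exists_isMaxP_ge hAp hAL
    have hALc : A ≤ ⁅L, L⁆ := hAS.trans (BT.sigma_sylow_le_commutator hG hL hpσL hS).1
    exact hAny (centralizes_of_npc h1414L.1 hALc hAp hyL' hyNA hcopyp)
  -- a complement `EL` of `L_σ` containing `y`
  obtain ⟨EL, hEL', hYEL⟩ := BGG.exists_compl_ge hG hL hYL (fun r hr hrd => by
    rw [hYc] at hrd
    rw [(Nat.prime_dvd_prime_iff_eq hr hq').mp hrd]
    exact hqσL)
  have hyEL : y ∈ EL := hYEL (Subgroup.mem_zpowers y)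
  have hXLσ : X ≤ sigmaCore L := hXA.trans hALσ
  -- (12) `q ∉ τ₂(L)`
  have hq2L : q ∉ tau2 L := by
    intro h2
    obtain ⟨B₀, hB₀L, hB₀e, hB₀c⟩ := BGD.exists_sq_of_rank h2.2.2.1 h2.2.2.2
    have hcopB₀ : (Nat.card B₀).Coprime (Nat.card (sigmaCore L)) := by
      apply BGD.coprime_sigmaCore hG hL
      intro r hr hrd
      rw [hB₀c] at hrd
      rw [(Nat.prime_dvd_prime_iff_eq hr hq').mp (hr.dvd_of_dvd_pow hrd)]
      exact hqσL
    obtain ⟨m₂, hm₂L, hB₀m⟩ := BGD.exists_cj_le hG hL hEL' hB₀L hcopB₀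
    obtain ⟨B, hBdef⟩ : ∃ B, B = BG7.cj m₂⁻¹ B₀ := ⟨_, rfl⟩
    have hBE : B ≤ EL := by
      rw [hBdef]
      have := BG7.cj_mono (k := m₂⁻¹) hB₀m
      rwa [BG7.cj_inv_cj] at this
    have hBe : IsElementaryAbelian q B := hBdef ▸ BG9.isElementaryAbelian_cj m₂⁻¹ hB₀e
    have hBc : Nat.card B = q ^ 2 := by rw [hBdef, BG7.card_cj, hB₀c]
    have h1418L := Cfsg.Agent.S1418.result hG L hL EL hEL' q h2 B ⟨hBE, hBe, hBc⟩
    have hYB : Subgroup.zpowers y ≤ B := h1418L.1.2 (Subgroup.zpowers y) hYEL hYc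
    have hne : sigmaCore L ⊓ Subgroup.centralizer ((Subgroup.zpowers y : Subgroup G) : Set G) ≠ ⊥ := by
      intro h
      have h1 : X ≤ sigmaCore L ⊓ Subgroup.centralizer ((Subgroup.zpowers y : Subgroup G) : Set G) :=
        le_inf hXLσ (by rw [centralizer_zpowers_eq]; exact hXy)
      rw [h, le_bot_iff] at h1
      exact hX1 h1
    obtain ⟨hCyL, -⟩ := h1418L.2.2 (Subgroup.zpowers y) hYB hYc hne
    apply hD
    rw [eq_bot_iff, ← hMσL]
    refine le_inf inf_le_left ?_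
    rw [← centralizer_zpowers_eq]
    exact inf_le_right.trans hCyL
  -- (13) `q ∈ τ₁(L)`
  have hq1L : q ∈ tau1 L := by
    have hr1 : PRankLE q 1 ↥L := by
      by_contra h
      exact hq2L (BGK.mem_tau2_of_not_rank_one hG hL hq' hqσL h)
    have hd : ¬ q ∣ Nat.card ↥⁅L, L⁆ := fun h => hq3L ⟨hq', hqσL, h, hr1⟩
    exact ⟨hq', hqσL, hqL, hd, hr1⟩
  -- (14) uniqueness in `L`
  obtain ⟨T₀⟩ : Nonempty (Sylow p ↥(sigmaCore L)) := inferInstance
  obtain ⟨⟨hCXL, -⟩, -, -⟩ := uniq_of_tau1 hG hL hEL' hq1L hyEL hyo hXLσ hXy hXc T₀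
  have h1 : sigmaCore M ≤ sigmaCore M ⊓ L := le_inf le_rfl (hMσX.trans hCXL)
  rw [hMσL, le_bot_iff] at h1
  apply hD
  rw [h1]
  exact bot_inf_eq _

end Cfsg.Agent.Lib.Helper3.BG14
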