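import Mathlib
import Cfsg.Prelude.Def_Blocks
import Cfsg.Agent.Lib.Helper6.QuotChar
import Cfsg.Agent.Lib.Helper6.CharBasic
import Cfsg.Agent.Lib.Helper6.Norm
import Cfsg.Agent.Lib.Helper6.Multiplicity
import Cfsg.Agent.Lib.Helper6.DefectZero

set_option autoImplicit false

/-! # Characters and quotient groups: kernels, deflation to `G ⧸ N`, defect zero -/

namespace Cfsg.Agent.Lib.Helper3.CharQuot

open Cfsg Cfsg.Agent.Lib.Helper6 Module

variable {G : Type*} [Group G]

/-- the kernel of a character is a normal subgroup -/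
theorem exists_kernel [Finite G] {χ : G → ℂ} (hχ : IsCharacter G χ) :
    ∃ K : Subgroup G, K.Normal ∧ ∀ g, g ∈ K ↔ χ g = χ 1 := by
  obtain ⟨n, ρ, rfl⟩ := hχ
  refine ⟨MonoidHom.ker (ρ : G →* _), inferInstance, ?_⟩
  intro g
  rw [MonoidHom.mem_ker, Representation.char_one, character_eq_finrank_iff]
  rfl

/-- An irreducible character with `N` in its kernel is inflated from `G ⧸ N`. -/
theorem exists_irr_quot [Finite G] (N : Subgroup G) [hN : N.Normal] {χ : G → ℂ}
    (hχ : IsIrrCharacter G χ) (hker : ∀ x ∈ N, χ x = χ 1) :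
    ∃ β : G ⧸ N → ℂ, IsIrrCharacter (G ⧸ N) β ∧ χ = fun g => β (QuotientGroup.mk g) := by
  have : Fintype G := Fintype.ofFinite G
  have : Fintype (G ⧸ N) := Fintype.ofFinite _
  obtain ⟨n, ρ, hirr, rfl⟩ := hχ
  have hle : N ≤ MonoidHom.ker (ρ : G →* _) := by
    intro x hx
    rw [MonoidHom.mem_ker]
    have := hker x hx
    rw [Representation.char_one, character_eq_finrank_iff] at this
    exact this
  let ρ' : Representation ℂ (G ⧸ N) (Fin n → ℂ) := QuotientGroup.lift N (ρ : G →* _) hle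
  have hρ' : ∀ g : G, ρ' (QuotientGroup.mk g) = ρ g := fun g => rfl
  have hchar : ρ.character = fun g => ρ'.character (QuotientGroup.mk g) := by
    funext g
    simp only [Representation.character, hρ']
  refine ⟨ρ'.character, ?_, hchar⟩
  apply isIrrCharacter_of_classInner_self_eq_one ⟨n, ρ', rfl⟩
  rw [← classInner_comp_mk N, ← hchar]
  exact classInner_irr_self ρ

/-- character values of the inflation vanish where the deflated character has defect zero -/
theorem apply_eq_zero_of_defect_zero [Finite G] {χ : G → ℂ} (hχ : IsIrrCharacter G χ)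
    {p : ℕ} (hp : p.Prime) (hdef : ∀ k : ℕ, p ^ k ∣ Nat.card G → p ^ k ∣ charDegree χ)
    {x : G} (hx : p ∣ orderOf x) : χ x = 0 := by
  have : Fintype G := Fintype.ofFinite G
  have hc := IsIrrCharacter.isCharacter hχ
  have hdeg := IsCharacter.apply_one_eq_charDegree hc
  obtain ⟨n, ρ, hirr, rfl⟩ := hχ
  have hfin : charDegree ρ.character = finrank ℂ (Fin n → ℂ) := charDegree_character ρ
  set a := (Nat.card G).factorization p with ha
  have h1 : p ^ a ∣ Nat.card G := Nat.ordProj_dvd _ _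
  have h2 : ¬ p ^ (a + 1) ∣ Nat.card G :=
    Nat.pow_succ_factorization_not_dvd Nat.card_pos.ne' hp
  have h3 : p ^ a ∣ finrank ℂ (Fin n → ℂ) := by rw [← hfin]; exact hdef a h1
  exact defect_zero_vanish ρ p a hp h1 h2 h3 x hx

/-- data of the kernel and the deflated character -/
theorem exists_kernel_deflation [Finite G] {χ : G → ℂ} (hχ : IsIrrCharacter G χ) :
    ∃ (K : Subgroup G) (_ : K.Normal) (β : G ⧸ K → ℂ), (∀ g, g ∈ K ↔ χ g = χ 1) ∧
      IsIrrCharacter (G ⧸ K) β ∧ (χ = fun g => β (QuotientGroup.mk g)) ∧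
      Nat.card {g : G // χ g = χ 1} = Nat.card K ∧ charDegree χ = charDegree β := by
  obtain ⟨K, hKn, hK⟩ := exists_kernel (IsIrrCharacter.isCharacter hχ)
  obtain ⟨β, hβ, hχβ⟩ := exists_irr_quot K hχ (fun x hx => (hK x).1 hx)
  refine ⟨K, hKn, β, hK, hβ, hχβ, ?_, ?_⟩
  · exact Nat.card_congr (Equiv.subtypeEquivRight (fun g => (hK g).symm))
  · unfold charDegree
    rw [hχβ]
    simp

/-- `|ker χ| χ(1)` divides `|G|` -/
theorem card_kernel_mul_degree_dvd [Finite G] {χ : G → ℂ} (hχ : IsIrrCharacter G χ) :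
    Nat.card {g : G // χ g = χ 1} * charDegree χ ∣ Nat.card G := by
  obtain ⟨K, hKn, β, hK, hβ, hχβ, hcard, hdeg⟩ := exists_kernel_deflation hχ
  have : Fintype (G ⧸ K) := Fintype.ofFinite _
  rw [hcard, hdeg, ← Subgroup.card_mul_index K, Subgroup.index_eq_card]
  exact Nat.mul_dvd_mul_left _ (IsIrrCharacter.charDegree_dvd_card hβ)

/-- If `p` does not divide the codegree of `χ`, then `χ` vanishes at elements of order `p`
outside its kernel. -/
theorem apply_eq_zero_of_codegree [Finite G] {χ : G → ℂ} (hχ : IsIrrCharacter G χ) {p : ℕ}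
    (hp : p.Prime)
    (hcod : ¬ p ∣ Nat.card G / (Nat.card {g : G // χ g = χ 1} * charDegree χ))
    {x : G} (hx : orderOf x = p) (hxK : χ x ≠ χ 1) : χ x = 0 := by
  obtain ⟨K, hKn, β, hK, hβ, hχβ, hcard, hdeg⟩ := exists_kernel_deflation hχ
  have : Fintype (G ⧸ K) := Fintype.ofFinite _
  have hd := IsIrrCharacter.charDegree_dvd_card hβ
  obtain ⟨c, hc⟩ := hd
  have hdpos : 0 < charDegree β := IsIrrCharacter.charDegree_pos hβ
  have hKpos : 0 < Nat.card K := Nat.card_pos
  have hcod' : Nat.card G / (Nat.card {g : G // χ g = χ 1} * charDegree χ) = c := by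
    rw [hcard, hdeg, ← Subgroup.card_mul_index K, Subgroup.index_eq_card, hc,
      Nat.mul_div_mul_left _ _ hKpos, Nat.mul_div_cancel_left _ hdpos]
  rw [hcod'] at hcod
  have hxbar : orderOf (QuotientGroup.mk x : G ⧸ K) = p := by
    have : Fact p.Prime := ⟨hp⟩
    apply orderOf_eq_prime
    · rw [← QuotientGroup.mk_pow, ← hx, pow_orderOf_eq_one, QuotientGroup.mk_one]
    · intro h1
      apply hxK
      exact (hK x).1 ((QuotientGroup.eq_one_iff x).1 h1)
  have := apply_eq_zero_of_defect_zero hβ hp (x := (QuotientGroup.mk x : G ⧸ K)) ?_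
    (by rw [hxbar])
  · rw [hχβ]; exact this
  · intro k hk
    rw [hc] at hk
    exact (Nat.Coprime.pow_left k ((Nat.Prime.coprime_iff_not_dvd hp).2 hcod)).dvd_of_dvd_mul_right hk

end Cfsg.Agent.Lib.Helper3.CharQuot
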