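import Mathlib
import Cfsg.Agent.Lib.Helper6.Complete
import Cfsg.Agent.Lib.Helper6.Schur

set_option autoImplicit false

namespace Cfsg.Agent.Lib.Helper3.CentralAction

open Cfsg Cfsg.Agent.Lib.Helper6 Module
open scoped ComplexConjugate

/-- A class function acts on an irreducible representation by a scalar: character form. -/
theorem sum_mul_apply_mul {G : Type*} [Group G] [Fintype G] {χ : G → ℂ}
    (hχ : Cfsg.IsIrrCharacter G χ) (c : G → ℂ) (hc : Cfsg.IsClassFunction G c) (g : G) :
    ∑ h : G, c h * χ (g * h) = (∑ h : G, c h * χ h) / χ 1 * χ g := by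
  obtain ⟨n, ρ, hirr, rfl⟩ := hχ
  have := hirr
  have h1 := eq_trace_div_smul_id_of_comm ρ (opSum ρ c) (fun g => opSum_comm ρ c hc g)
  rw [trace_opSum] at h1
  have h2 : ∑ h : G, c h * ρ.character (g * h) = LinearMap.trace ℂ _ (ρ g * opSum ρ c) := by
    unfold opSum
    rw [Finset.mul_sum, map_sum]
    apply Finset.sum_congr rfl
    intro h _
    rw [mul_smul_comm, map_smul, smul_eq_mul, ← map_mul]
    rfl
  rw [h2, h1, mul_smul_comm, map_smul, smul_eq_mul]
  have h3 : ρ.character 1 = (finrank ℂ (Fin n → ℂ) : ℂ) := Representation.char_one ρ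
  rw [h3]
  congr 1

end Cfsg.Agent.Lib.Helper3.CentralAction
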