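import Mathlib
import Cfsg.Prelude.Def_Characters
import Cfsg.Agent.Lib.Helper6.Ramified
import Cfsg.Agent.Lib.Lead.PF2

set_option autoImplicit false

namespace Cfsg.Agent.Lib.Helper3.GoingDown

open Cfsg.Agent.Lib.Helper6
open scoped ComplexConjugate

section

variable {G : Type*} [Group G] [Fintype G] (N : Subgroup G) [Fintype N] (hN : N.Normal)

/-- sums over a subgroup as indicator sums over the group -/
theorem sum_subgroup_eq (f : G → ℂ) [DecidablePred (· ∈ N)] :
    ∑ n : N, f n = ∑ g : G, if g ∈ N then f g else 0 := by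
  rw [← Finset.sum_filter]
  exact (Finset.sum_subtype (Finset.univ.filter (· ∈ N)) (by simp) f).symm

/-- norm of the restriction in terms of an indicator sum -/
theorem classInner_restrict_self (ϑ : G → ℂ) [DecidablePred (· ∈ N)] :
    Cfsg.classInner (fun n : N => ϑ n) (fun n : N => ϑ n)
      = (Nat.card N : ℂ)⁻¹ * ∑ g : G, if g ∈ N then ϑ g * conj (ϑ g) else 0 := by
  unfold Cfsg.classInner
  rw [sum_subgroup_eq N (fun g => ϑ g * conj (ϑ g))]

include hN in
/-- homogeneous restriction: `ϑ_N = e φ` with `e` a natural number and `[ϑ_N, ϑ_N] = e²` -/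
theorem exists_nat_smul_of_invariant {ϑ : G → ℂ} (hϑ : Cfsg.IsIrrCharacter G ϑ) {φ : N → ℂ}
    (hφ : Cfsg.IsIrrCharacter N φ) (hinv : ∀ g : G, conjFun N hN φ g = φ)
    (hc : Cfsg.classInner (fun n : N => ϑ n) φ ≠ 0) :
    ∃ e : ℕ, (fun n : N => ϑ n) = (e : ℂ) • φ ∧
      Cfsg.classInner (fun n : N => ϑ n) (fun n : N => ϑ n) = ((e ^ 2 : ℕ) : ℂ) := by
  have hres := restrict_eq_smul_of_invariant N hN hϑ hφ hinv hc
  obtain ⟨e, he⟩ := IsCharacter.classInner_irr_nat
    (IsCharacter.restrict N (IsIrrCharacter.isCharacter hϑ)) hφ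
  rw [he] at hres
  refine ⟨e, hres, ?_⟩
  rw [hres, classInner_smul_left, classInner_smul_right, classInner_isIrrCharacter hφ hφ,
    if_pos rfl, Complex.conj_natCast]
  push_cast
  ring

include hN in
/-- **fully ramified case**: `ϑ` vanishes off `N`. -/
theorem sq_eq_index_of_vanish {ϑ : G → ℂ} (hϑ : Cfsg.IsIrrCharacter G ϑ) {φ : N → ℂ}
    (hφ : Cfsg.IsIrrCharacter N φ) (hinv : ∀ g : G, conjFun N hN φ g = φ)
    (hc : Cfsg.classInner (fun n : N => ϑ n) φ ≠ 0) (hv : ∀ g : G, g ∉ N → ϑ g = 0) :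
    ∃ e : ℕ, (fun n : N => ϑ n) = (e : ℂ) • φ ∧ e ^ 2 = N.index := by
  classical
  obtain ⟨e, hres, hnorm⟩ := exists_nat_smul_of_invariant N hN hϑ hφ hinv hc
  refine ⟨e, hres, ?_⟩
  rw [classInner_restrict_self] at hnorm
  have h1 : ∑ g : G, (if g ∈ N then ϑ g * conj (ϑ g) else 0) = ∑ g : G, ϑ g * conj (ϑ g) := by
    apply Finset.sum_congr rfl
    intro g _
    split_ifs with hg
    · rfl
    · rw [hv g hg, zero_mul]
  rw [h1] at hnorm
  have h2 := classInner_isIrrCharacter hϑ hϑ
  rw [if_pos rfl] at h2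
  unfold Cfsg.classInner at h2
  have hG0 : (Nat.card G : ℂ) ≠ 0 := by
    have : Nat.card G ≠ 0 := Nat.card_pos.ne'
    exact_mod_cast this
  have hN0 : (Nat.card N : ℂ) ≠ 0 := by
    have : Nat.card N ≠ 0 := Nat.card_pos.ne'
    exact_mod_cast this
  have h3 : ∑ g : G, ϑ g * conj (ϑ g) = (Nat.card G : ℂ) := by
    field_simp at h2
    exact h2
  rw [h3] at hnorm
  have h4 : (Nat.card G : ℂ) = (Nat.card N : ℂ) * ((e ^ 2 : ℕ) : ℂ) := by
    rw [← hnorm]
    field_simp
  have h5 : Nat.card G = Nat.card N * e ^ 2 := by exact_mod_cast h4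
  have h6 := Subgroup.card_mul_index N
  rw [h5] at h6
  exact (Nat.eq_of_mul_eq_mul_left Nat.card_pos h6).symm

include hN in
/-- **irreducible restriction case**: the support of `ϑ` together with `N` generates `G`, and
`G/N` is abelian. -/
theorem irreducible_restrict_of_support {ϑ : G → ℂ} (hϑ : Cfsg.IsIrrCharacter G ϑ) {φ : N → ℂ}
    (hφ : Cfsg.IsIrrCharacter N φ) (hinv : ∀ g : G, conjFun N hN φ g = φ)
    (hc : Cfsg.classInner (fun n : N => ϑ n) φ ≠ 0)
    (hab : ∀ x y : G, x * y * x⁻¹ * y⁻¹ ∈ N)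
    (hsupp : ∀ H : Subgroup G, N ≤ H → (∀ g : G, ϑ g ≠ 0 → g ∈ H) → H = ⊤) :
    (fun n : N => ϑ n) = φ := by
  classical
  have := hN
  obtain ⟨e, hres, hnorm⟩ := exists_nat_smul_of_invariant N hN hϑ hφ hinv hc
  have : Fintype (G ⧸ N) := Fintype.ofFinite _
  have : Fintype (Cfsg.IrrCharacter (G ⧸ N)) := Fintype.ofFinite _
  have hcomm : ∀ a b : G ⧸ N, a * b = b * a := by
    intro a b
    induction a using QuotientGroup.induction_on with
    | H x =>
    induction b using QuotientGroup.induction_on with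
    | H y =>
    rw [← QuotientGroup.mk_mul, ← QuotientGroup.mk_mul, QuotientGroup.eq]
    have := hab y⁻¹ x⁻¹
    simpa [mul_assoc] using this
  have hlin := (Cfsg.Agent.S0187.result (G := G ⧸ N)).1 hcomm
  -- inflation of β
  have hinfl : ∀ β : Cfsg.IrrCharacter (G ⧸ N),
      Cfsg.IsCharacter G (fun g => (β : G ⧸ N → ℂ) (QuotientGroup.mk g)) ∧
      (fun g : G => (β : G ⧸ N → ℂ) (QuotientGroup.mk g)) 1 = 1 := by
    intro β
    refine ⟨IsCharacter.comp (QuotientGroup.mk' N) (IsIrrCharacter.isCharacter β.2), ?_⟩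
    exact hlin β
  have hirr : ∀ β : Cfsg.IrrCharacter (G ⧸ N),
      Cfsg.IsIrrCharacter G (fun g => (β : G ⧸ N → ℂ) (QuotientGroup.mk g) * ϑ g) :=
    fun β => Cfsg.Agent.Lib.Lead.PF.isIrr_linear_mul (hinfl β).1 (hinfl β).2 hϑ
  -- the double sum
  have hsum : ∑ β : Cfsg.IrrCharacter (G ⧸ N),
      Cfsg.classInner (fun g => (β : G ⧸ N → ℂ) (QuotientGroup.mk g) * ϑ g) ϑ
      = ((e ^ 2 : ℕ) : ℂ) := by
    unfold Cfsg.classInner
    rw [← Finset.mul_sum, Finset.sum_comm]
    have h1 : ∀ g : G, ∑ β : Cfsg.IrrCharacter (G ⧸ N),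
        (β : G ⧸ N → ℂ) (QuotientGroup.mk g) * ϑ g * conj (ϑ g)
        = if g ∈ N then (N.index : ℂ) * (ϑ g * conj (ϑ g)) else 0 := by
      intro g
      have h2 := Cfsg.Agent.Lib.Lead.PF.sum_irr_abelian_quot N hab g
      simp only [mul_assoc]
      rw [← Finset.sum_mul, h2]
      split_ifs <;> simp
    rw [Finset.sum_congr rfl (fun g _ => h1 g)]
    rw [classInner_restrict_self] at hnorm
    have h3 : ∑ g : G, (if g ∈ N then (N.index : ℂ) * (ϑ g * conj (ϑ g)) else 0)
        = (N.index : ℂ) * ∑ g : G, if g ∈ N then ϑ g * conj (ϑ g) else 0 := by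
      rw [Finset.mul_sum]
      apply Finset.sum_congr rfl
      intro g _
      split_ifs <;> simp
    rw [h3, ← hnorm]
    have hG0 : (Nat.card G : ℂ) ≠ 0 := by
      have : Nat.card G ≠ 0 := Nat.card_pos.ne'
      exact_mod_cast this
    have hN0 : (Nat.card N : ℂ) ≠ 0 := by
      have : Nat.card N ≠ 0 := Nat.card_pos.ne'
      exact_mod_cast this
    have h6 : (Nat.card G : ℂ) = (Nat.card N : ℂ) * (N.index : ℂ) := by
      rw [← Subgroup.card_mul_index N]; push_cast; rfl
    have hI0 : (N.index : ℂ) ≠ 0 := by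
      have : N.index ≠ 0 := Subgroup.index_ne_zero_of_finite
      exact_mod_cast this
    rw [h6]
    field_simp
  -- each term is an indicator
  let β₀ : Cfsg.IrrCharacter (G ⧸ N) := ⟨fun _ => 1, isIrrCharacter_one⟩
  have hterm : ∀ β : Cfsg.IrrCharacter (G ⧸ N),
      Cfsg.classInner (fun g => (β : G ⧸ N → ℂ) (QuotientGroup.mk g) * ϑ g) ϑ
      = if β = β₀ then 1 else 0 := by
    intro β
    rw [classInner_isIrrCharacter (hirr β) hϑ]
    by_cases hβ : β = β₀
    · rw [if_pos hβ, if_pos]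
      funext g
      rw [hβ]
      show (1 : ℂ) * ϑ g = ϑ g
      rw [one_mul]
    · rw [if_neg hβ, if_neg]
      intro heq
      apply hβ
      -- the kernel of β̃ contains N and the support of ϑ
      let fβ := linearCharHom (hinfl β).1 (hinfl β).2
      have hfβ : ∀ g : G, ((fβ g : ℂˣ) : ℂ) = (β : G ⧸ N → ℂ) (QuotientGroup.mk g) := fun g => rfl
      have hker : fβ.ker = ⊤ := by
        apply hsupp
        · intro n hn
          rw [MonoidHom.mem_ker]
          apply Units.ext
          rw [hfβ, (QuotientGroup.eq_one_iff n).mpr hn]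
          exact hlin β
        · intro g hg
          rw [MonoidHom.mem_ker]
          apply Units.ext
          rw [hfβ]
          have h1 := congrFun heq g
          have h2 : (β : G ⧸ N → ℂ) (QuotientGroup.mk g) * ϑ g = 1 * ϑ g := by rw [one_mul]; exact h1
          exact mul_right_cancel₀ hg h2
      apply Subtype.ext
      funext c
      induction c using QuotientGroup.induction_on with
      | H g =>
        have h1 : g ∈ fβ.ker := by rw [hker]; exact Subgroup.mem_top g
        rw [MonoidHom.mem_ker] at h1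
        have h2 := congrArg (fun u : ℂˣ => (u : ℂ)) h1
        simp only [Units.val_one] at h2
        rw [hfβ] at h2
        exact h2
  rw [Finset.sum_congr rfl (fun β _ => hterm β), Finset.sum_ite_eq' Finset.univ β₀,
    if_pos (Finset.mem_univ _)] at hsum
  have he : e ^ 2 = 1 := by exact_mod_cast hsum.symm
  have he1 : e = 1 := by
    rcases Nat.eq_zero_or_pos e with h0 | h0
    · subst h0; simp at he
    · nlinarith
  rw [hres, he1, Nat.cast_one, one_smul]

end

end Cfsg.Agent.Lib.Helper3.GoingDown
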