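import Mathlib
import Cfsg.Agent.Lib.Helper3.CentralAction
import Cfsg.Agent.Lib.Helper3.GoingDown2
import Cfsg.Agent.Lib.Helper6.SecondOrth

set_option autoImplicit false

namespace Cfsg.Agent.Lib.Helper3.FullyRam

open Cfsg Cfsg.Agent.Lib.Helper6 Cfsg.Agent.Lib.Helper3.CentralAction Cfsg.Agent.Lib.Helper3.GoingDown
open scoped ComplexConjugate

section general

variable {G : Type*} [Group G] [Fintype G]

theorem sum_conjCount_mul (b : G) (F : G → ℂ) :
    ∑ h : G, conjCount b h * F h = ∑ u : G, F (u * b * u⁻¹) := by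
  classical
  unfold conjCount
  have h1 : ∀ g : G, ((Finset.univ.filter (fun y : G => y * b * y⁻¹ = g)).card : ℂ) * F g
      = ∑ y : G, if y * b * y⁻¹ = g then F g else 0 := by
    intro g
    rw [← Finset.sum_filter, Finset.sum_const, nsmul_eq_mul]
  simp_rw [h1]
  rw [Finset.sum_comm]
  apply Finset.sum_congr rfl
  intro y _
  rw [Finset.sum_ite_eq, if_pos (Finset.mem_univ _)]

/-- twisted class sums -/
theorem sum_apply_mul_conj_twist {θ : G → ℂ} (hθ : Cfsg.IsIrrCharacter G θ) (a b : G) :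
    ∑ u : G, θ (a * (u * b * u⁻¹)) = (Nat.card G : ℂ) * θ a * θ b / θ 1 := by
  have h1 := sum_mul_apply_mul hθ (conjCount b) (conjCount_isClassFunction b) a
  rw [sum_conjCount_mul b (fun h => θ (a * h)), sum_conjCount_mul b θ] at h1
  rw [h1]
  have h2 : ∀ u : G, θ (u * b * u⁻¹) = θ b := fun u => IsIrrCharacter.isClassFunction hθ b u
  simp_rw [h2]
  rw [Finset.sum_const, Finset.card_univ, nsmul_eq_mul, ← Nat.card_eq_fintype_card]
  ring

end general

section ram

variable {H : Type*} [Group H] [Fintype H] (Z : Subgroup H) [hZ : Z.Normal] [Fintype Z]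

/-- the idempotent of an invariant character acts by a scalar -/
theorem sum_conj_mul_apply {θ : Z → ℂ}
    (hinv : ∀ (h : H) (z : Z), θ ⟨h * z * h⁻¹, hZ.conj_mem z z.2 h⟩ = θ z)
    {ψ : H → ℂ} (hψ : Cfsg.IsIrrCharacter H ψ) (g : H) :
    ∑ z : Z, conj (θ z) * ψ (g * z)
      = ((Nat.card Z : ℂ) * Cfsg.classInner (fun z : Z => ψ z) θ) / ψ 1 * ψ g := by
  classical
  let c : H → ℂ := fun h => if hh : h ∈ Z then conj (θ ⟨h, hh⟩) else 0
  have hc : Cfsg.IsClassFunction H c := by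
    intro g h
    by_cases hg : g ∈ Z
    · have hm : h * g * h⁻¹ ∈ Z := hZ.conj_mem g hg h
      simp only [c, dif_pos hm, dif_pos hg]
      exact congrArg conj (hinv h ⟨g, hg⟩)
    · have hm : h * g * h⁻¹ ∉ Z := fun h' => hg (by
        have := hZ.conj_mem _ h' h⁻¹
        simpa [mul_assoc] using this)
      simp only [c, dif_neg hm, dif_neg hg]
  have h1 := sum_mul_apply_mul hψ c hc g
  have h2 : ∀ F : H → ℂ, ∑ h : H, c h * F h = ∑ z : Z, conj (θ z) * F z := by
    intro F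
    have h3 := sum_subgroup_eq Z (fun h => c h * F h)
    have h4 : ∀ g : H, (if g ∈ Z then c g * F g else 0) = c g * F g := by
      intro g
      by_cases hg : g ∈ Z
      · rw [if_pos hg]
      · rw [if_neg hg]
        simp only [c, dif_neg hg, zero_mul]
    simp_rw [h4] at h3
    rw [← h3]
    apply Finset.sum_congr rfl
    intro z _
    simp only [c, dif_pos z.2]
  rw [h2 (fun h => ψ (g * h)), h2 ψ] at h1
  rw [h1]
  congr 2
  unfold Cfsg.classInner
  have hZ0 : (Nat.card Z : ℂ) ≠ 0 := by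
    have : 0 < Nat.card Z := Nat.card_pos
    exact_mod_cast this.ne'
  rw [← mul_assoc, mul_inv_cancel₀ hZ0, one_mul]
  apply Finset.sum_congr rfl
  intro z _
  ring

omit hZ in
/-- a fully ramified character vanishes off the subgroup -/
theorem vanish_off {χ : H → ℂ} (hχ : Cfsg.IsIrrCharacter H χ) {θ : Z → ℂ}
    (hθ : Cfsg.IsIrrCharacter Z θ) (e : ℕ) (he : e ^ 2 = Z.index)
    (hres : ∀ z : Z, χ z = (e : ℂ) * θ z) (g : H) (hg : g ∉ Z) : χ g = 0 := by
  classical
  have h1 := classInner_isIrrCharacter hχ hχ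
  rw [if_pos rfl] at h1
  have h2 := classInner_isIrrCharacter hθ hθ
  rw [if_pos rfl] at h2
  unfold Cfsg.classInner at h1 h2
  have hH0 : (Nat.card H : ℂ) ≠ 0 := by
    have : 0 < Nat.card H := Nat.card_pos
    exact_mod_cast this.ne'
  have hZ0 : (Nat.card Z : ℂ) ≠ 0 := by
    have : 0 < Nat.card Z := Nat.card_pos
    exact_mod_cast this.ne'
  have h1' : ∑ h : H, χ h * conj (χ h) = (Nat.card H : ℂ) := by
    field_simp at h1
    exact h1
  have h2' : ∑ z : Z, θ z * conj (θ z) = (Nat.card Z : ℂ) := by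
    field_simp at h2
    exact h2
  have h3 : ∑ z : Z, χ z * conj (χ z) = (Nat.card H : ℂ) := by
    have : ∀ z : Z, χ z * conj (χ z) = ((e : ℂ) ^ 2) * (θ z * conj (θ z)) := by
      intro z
      rw [hres z, map_mul, Complex.conj_natCast]
      ring
    simp_rw [this]
    rw [← Finset.mul_sum, h2']
    have h4 : Z.index * Nat.card Z = Nat.card H := Z.index_mul_card
    rw [← h4, ← he]
    push_cast
    ring
  rw [sum_subgroup_eq Z (fun h => χ h * conj (χ h))] at h3
  have h5 : ∑ h : H, (if h ∈ Z then 0 else χ h * conj (χ h)) = 0 := by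
    have : ∀ h : H, (if h ∈ Z then 0 else χ h * conj (χ h))
        = χ h * conj (χ h) - (if h ∈ Z then χ h * conj (χ h) else 0) := by
      intro h
      split_ifs <;> ring
    simp_rw [this]
    rw [Finset.sum_sub_distrib, h1', h3, sub_self]
  have h6 : ∑ h : H, (if h ∈ Z then (0 : ℝ) else Complex.normSq (χ h)) = 0 := by
    have : ((∑ h : H, (if h ∈ Z then (0 : ℝ) else Complex.normSq (χ h)) : ℝ) : ℂ) = 0 := by
      rw [← h5]
      push_cast
      apply Finset.sum_congr rfl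
      intro h _
      split_ifs
      · rfl
      · rw [Complex.mul_conj]
    exact_mod_cast this
  have h7 := (Finset.sum_eq_zero_iff_of_nonneg (fun h _ => by
    split_ifs
    · exact le_refl _
    · exact Complex.normSq_nonneg _)).mp h6 g (Finset.mem_univ _)
  rw [if_neg hg] at h7
  exact Complex.normSq_eq_zero.mp h7

omit hZ in
/-- degree formula: `∑ ψ(1) [ψ_Z, θ] = |H:Z| θ(1)` -/
theorem sum_degree_mul_classInner [Fintype (Cfsg.IrrCharacter H)] {θ : Z → ℂ}
    (hθ : Cfsg.IsIrrCharacter Z θ) :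
    ∑ ψ : Cfsg.IrrCharacter H, (ψ : H → ℂ) 1 * Cfsg.classInner (fun z : Z => (ψ : H → ℂ) z) θ
      = (Z.index : ℂ) * θ 1 := by
  classical
  have hZ0 : (Nat.card Z : ℂ) ≠ 0 := by
    have : 0 < Nat.card Z := Nat.card_pos
    exact_mod_cast this.ne'
  have hreal : ∀ ψ : Cfsg.IrrCharacter H, conj ((ψ : H → ℂ) 1) = (ψ : H → ℂ) 1 := by
    intro ψ
    rw [IsCharacter.apply_one_eq_charDegree (IsIrrCharacter.isCharacter ψ.2), Complex.conj_natCast]
  have hθreal : conj (θ 1) = θ 1 := by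
    rw [IsCharacter.apply_one_eq_charDegree (IsIrrCharacter.isCharacter hθ), Complex.conj_natCast]
  -- evaluate T = Σ_z conj(θ z) Σ_ψ ψ(z) conj(ψ 1) in two ways
  have hT1 : ∑ z : Z, conj (θ z) * ∑ ψ : Cfsg.IrrCharacter H, (ψ : H → ℂ) z * conj ((ψ : H → ℂ) 1)
      = θ 1 * (Nat.card H : ℂ) := by
    have : ∀ z : Z, conj (θ z) * ∑ ψ : Cfsg.IrrCharacter H, (ψ : H → ℂ) z * conj ((ψ : H → ℂ) 1)
        = if z = 1 then θ 1 * (Nat.card H : ℂ) else 0 := by
      intro z
      by_cases hz : z = 1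
      · rw [if_pos hz, hz]
        have h1 := (sum_irr_mul_conj ((1 : Z) : H) (1 : H)).1 (by
          rw [Subgroup.coe_one])
        rw [h1, hθreal]
        congr 1
        have : Subgroup.centralizer ({((1 : Z) : H)} : Set H) = ⊤ := by
          rw [Subgroup.coe_one]
          ext x
          simp [Subgroup.mem_centralizer_iff]
        rw [this, Nat.card_congr (Subgroup.topEquiv (G := H)).toEquiv]
      · rw [if_neg hz]
        have h1 := (sum_irr_mul_conj ((z : Z) : H) (1 : H)).2 (by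
          intro hc
          rw [isConj_one_left] at hc
          exact hz (Subtype.ext hc))
        rw [h1, mul_zero]
    simp_rw [this]
    rw [Finset.sum_ite_eq', if_pos (Finset.mem_univ _)]
  have hT2 : ∑ z : Z, conj (θ z) * ∑ ψ : Cfsg.IrrCharacter H, (ψ : H → ℂ) z * conj ((ψ : H → ℂ) 1)
      = (Nat.card Z : ℂ) * ∑ ψ : Cfsg.IrrCharacter H,
          (ψ : H → ℂ) 1 * Cfsg.classInner (fun z : Z => (ψ : H → ℂ) z) θ := by
    simp_rw [Finset.mul_sum]
    rw [Finset.sum_comm]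
    apply Finset.sum_congr rfl
    intro ψ _
    unfold Cfsg.classInner
    rw [hreal ψ]
    have : ∀ z : Z, conj (θ z) * ((ψ : H → ℂ) z * (ψ : H → ℂ) 1)
        = (ψ : H → ℂ) 1 * ((ψ : H → ℂ) z * conj (θ z)) := by
      intro z
      ring
    simp_rw [this]
    rw [← Finset.mul_sum]
    field_simp
  rw [hT1] at hT2
  have h4 : Z.index * Nat.card Z = Nat.card H := Z.index_mul_card
  have h5 : (Nat.card H : ℂ) = (Z.index : ℂ) * (Nat.card Z : ℂ) := by
    rw [← h4]
    push_cast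
    ring
  rw [h5] at hT2
  have h6 : (Nat.card Z : ℂ) * (∑ ψ : Cfsg.IrrCharacter H,
          (ψ : H → ℂ) 1 * Cfsg.classInner (fun z : Z => (ψ : H → ℂ) z) θ)
      = (Nat.card Z : ℂ) * ((Z.index : ℂ) * θ 1) := by
    rw [← hT2]
    ring
  exact mul_left_cancel₀ hZ0 h6

omit hZ in
/-- a fully ramified character is the only one over `θ` -/
theorem classInner_eq_zero_of_ne {χ : H → ℂ} (hχ : Cfsg.IsIrrCharacter H χ) {θ : Z → ℂ}
    (hθ : Cfsg.IsIrrCharacter Z θ) (e : ℕ) (he : e ^ 2 = Z.index)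
    (hres : ∀ z : Z, χ z = (e : ℂ) * θ z) {ψ : H → ℂ} (hψ : Cfsg.IsIrrCharacter H ψ)
    (hne : ψ ≠ χ) : Cfsg.classInner (fun z : Z => ψ z) θ = 0 := by
  classical
  have : Fintype (Cfsg.IrrCharacter H) := Fintype.ofFinite _
  have h := sum_degree_mul_classInner Z hθ (H := H)
  choose m hm using fun ψ : Cfsg.IrrCharacter H => IsCharacter.classInner_irr_nat
    (IsCharacter.restrict Z (IsIrrCharacter.isCharacter ψ.2)) hθ
  have hd : ∀ ψ : Cfsg.IrrCharacter H, (ψ : H → ℂ) 1 = (Cfsg.charDegree (ψ : H → ℂ) : ℂ) :=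
    fun ψ => IsCharacter.apply_one_eq_charDegree (IsIrrCharacter.isCharacter ψ.2)
  have hf : ∀ ψ : Cfsg.IrrCharacter H,
      (ψ : H → ℂ) 1 * Cfsg.classInner (fun z : Z => (ψ : H → ℂ) z) θ
        = ((Cfsg.charDegree (ψ : H → ℂ) * m ψ : ℕ) : ℂ) := by
    intro ψ
    rw [hd ψ, hm ψ]
    push_cast
    ring
  simp_rw [hf] at h
  -- the χ term
  have hχ1 : χ 1 = (e : ℂ) * θ 1 := by
    have := hres 1
    rwa [Subgroup.coe_one] at this
  have hχθ : Cfsg.classInner (fun z : Z => χ z) θ = (e : ℂ) := by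
    have : (fun z : Z => χ z) = (e : ℂ) • θ := by
      funext z
      rw [hres z]
      rfl
    rw [this, classInner_smul_left, classInner_isIrrCharacter hθ hθ, if_pos rfl, mul_one]
  have hterm : ((Cfsg.charDegree χ * m ⟨χ, hχ⟩ : ℕ) : ℂ) = (Z.index : ℂ) * θ 1 := by
    rw [← hf ⟨χ, hχ⟩]
    change χ 1 * Cfsg.classInner (fun z : Z => χ z) θ = _
    rw [hχ1, hχθ, ← he]
    push_cast
    ring
  rw [← Finset.add_sum_erase Finset.univ _ (Finset.mem_univ (⟨χ, hχ⟩ : Cfsg.IrrCharacter H))] at h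
  change ((Cfsg.charDegree χ * m ⟨χ, hχ⟩ : ℕ) : ℂ) + _ = _ at h
  rw [hterm] at h
  have h0 : ∑ x ∈ Finset.univ.erase (⟨χ, hχ⟩ : Cfsg.IrrCharacter H),
      ((Cfsg.charDegree (x : H → ℂ) * m x : ℕ) : ℂ) = 0 := by
    have := h
    linear_combination this
  rw [← Nat.cast_sum] at h0
  have h0' : ∑ x ∈ Finset.univ.erase (⟨χ, hχ⟩ : Cfsg.IrrCharacter H),
      (Cfsg.charDegree (x : H → ℂ) * m x) = 0 := by exact_mod_cast h0
  have h1 := (Finset.sum_eq_zero_iff.mp h0') ⟨ψ, hψ⟩ (by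
    rw [Finset.mem_erase]
    refine ⟨?_, Finset.mem_univ _⟩
    intro hc
    exact hne (congrArg Subtype.val hc))
  have h2 : m ⟨ψ, hψ⟩ = 0 := by
    rcases Nat.mul_eq_zero.mp h1 with h3 | h3
    · exact absurd h3 (IsIrrCharacter.charDegree_pos hψ).ne'
    · exact h3
  have h3 := hm ⟨ψ, hψ⟩
  rw [h2] at h3
  simpa using h3

/-- invariance of the character under a fully ramified one -/
theorem invariant_of_ramified {χ : H → ℂ} (hχ : Cfsg.IsIrrCharacter H χ) {θ : Z → ℂ}
    (e : ℕ) (he : e ^ 2 = Z.index)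
    (hres : ∀ z : Z, χ z = (e : ℂ) * θ z) (h : H) (z : Z) :
    θ ⟨h * z * h⁻¹, hZ.conj_mem z z.2 h⟩ = θ z := by
  have he0 : (e : ℂ) ≠ 0 := by
    have h1 : Z.index ≠ 0 := Subgroup.index_ne_zero_of_finite
    have : e ≠ 0 := by
      rintro rfl
      rw [zero_pow (by norm_num)] at he
      exact h1 he.symm
    exact_mod_cast this
  have h1 := hres ⟨h * z * h⁻¹, hZ.conj_mem z z.2 h⟩
  have h2 := hres z
  have h3 : χ (h * z * h⁻¹) = χ z := IsIrrCharacter.isClassFunction hχ z h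
  change χ (h * z * h⁻¹) = _ at h1
  rw [h3, h2] at h1
  exact (mul_left_cancel₀ he0 h1).symm

/-- the key vanishing sum for a fully ramified character -/
theorem sum_isConj_eq_zero {χ : H → ℂ} (hχ : Cfsg.IsIrrCharacter H χ) {θ : Z → ℂ}
    (hθ : Cfsg.IsIrrCharacter Z θ) (e : ℕ) (he : e ^ 2 = Z.index)
    (hres : ∀ z : Z, χ z = (e : ℂ) * θ z) (g : H) (hg : g ∉ Z)
    [∀ z : Z, Decidable (IsConj g (g * z))] :
    ∑ z : Z, (if IsConj g (g * z) then θ z else 0) = 0 := by
  classical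
  have : Fintype (Cfsg.IrrCharacter H) := Fintype.ofFinite _
  have hinv := invariant_of_ramified Z hχ e he hres
  have hC0 : (Nat.card (Subgroup.centralizer ({g} : Set H)) : ℂ) ≠ 0 := by
    have : 0 < Nat.card (Subgroup.centralizer ({g} : Set H)) := Nat.card_pos
    exact_mod_cast this.ne'
  have hT1 : ∑ z : Z, θ z * ∑ ψ : Cfsg.IrrCharacter H, (ψ : H → ℂ) g * conj ((ψ : H → ℂ) (g * z))
      = (Nat.card (Subgroup.centralizer ({g} : Set H)) : ℂ)
          * ∑ z : Z, (if IsConj g (g * z) then θ z else 0) := by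
    rw [Finset.mul_sum]
    apply Finset.sum_congr rfl
    intro z _
    by_cases hc : IsConj g (g * z)
    · rw [if_pos hc, (sum_irr_mul_conj g (g * z)).1 hc]
      ring
    · rw [if_neg hc, (sum_irr_mul_conj g (g * z)).2 hc]
      ring
  have hT2 : ∑ z : Z, θ z * ∑ ψ : Cfsg.IrrCharacter H, (ψ : H → ℂ) g * conj ((ψ : H → ℂ) (g * z))
      = 0 := by
    simp_rw [Finset.mul_sum]
    rw [Finset.sum_comm]
    apply Finset.sum_eq_zero
    intro ψ _
    have h1 := sum_conj_mul_apply Z hinv ψ.2 g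
    have h2 : ∑ z : Z, θ z * ((ψ : H → ℂ) g * conj ((ψ : H → ℂ) (g * z)))
        = (ψ : H → ℂ) g * conj (∑ z : Z, conj (θ z) * (ψ : H → ℂ) (g * z)) := by
      rw [map_sum, Finset.mul_sum]
      apply Finset.sum_congr rfl
      intro z _
      rw [map_mul, Complex.conj_conj]
      ring
    rw [h2, h1]
    by_cases hψ : (ψ : H → ℂ) = χ
    · rw [hψ, vanish_off Z hχ hθ e he hres g hg, zero_mul]
    · rw [classInner_eq_zero_of_ne Z hχ hθ e he hres ψ.2 hψ]
      simp
  rw [hT1] at hT2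
  rcases mul_eq_zero.mp hT2 with h | h
  · exact absurd h hC0
  · exact h

end ram

end Cfsg.Agent.Lib.Helper3.FullyRam
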