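import Mathlib
import Cfsg.Prelude.Def_Characters
import Cfsg.Agent.Lib.Helper6.FiniteOrder
import Cfsg.Agent.Lib.Helper6.Orthogonality

namespace Cfsg.Agent.Lib.Helper3.GaloisRat

open Polynomial Cfsg.Agent.Lib.Helper6

set_option backward.isDefEq.respectTransparency false in
/-- A sum of `n`-th roots of unity is rational iff it is invariant under raising all the roots
to the `k`-th power for every `k ∈ (ℤ/n)ˣ`. -/
theorem sum_rational_iff {ι : Type*} [Fintype ι] (n : ℕ) [NeZero n] (μ : ι → ℂ)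
    (hμ : ∀ i, μ i ^ n = 1) :
    (∃ q : ℚ, ∑ i, μ i = (q : ℂ)) ↔
      ∀ k : (ZMod n)ˣ, ∑ i, μ i ^ (k : ZMod n).val = ∑ i, μ i := by
  have hn : 0 < n := Nat.pos_of_ne_zero (NeZero.ne n)
  have hζ : IsPrimitiveRoot (IsCyclotomicExtension.zeta n ℚ (CyclotomicField n ℚ)) n :=
    IsCyclotomicExtension.zeta_spec n ℚ (CyclotomicField n ℚ)
  set ζ := IsCyclotomicExtension.zeta n ℚ (CyclotomicField n ℚ) with hζdef
  have : FiniteDimensional ℚ (CyclotomicField n ℚ) :=
    IsCyclotomicExtension.finiteDimensional {n} ℚ (CyclotomicField n ℚ)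
  have : IsGalois ℚ (CyclotomicField n ℚ) :=
    IsCyclotomicExtension.isGalois {n} ℚ (CyclotomicField n ℚ)
  let φ : (CyclotomicField n ℚ) →ₐ[ℚ] ℂ := IsAlgClosed.lift
  have hφinj : Function.Injective φ := φ.toRingHom.injective
  have hξ : IsPrimitiveRoot (φ ζ) n := hζ.map_of_injective hφinj
  have ha : ∀ i, ∃ a < n, (φ ζ) ^ a = μ i := fun i => hξ.eq_pow_of_pow_eq_one (hμ i)
  choose a han ha using ha
  set α : (CyclotomicField n ℚ) := ∑ i, ζ ^ a i with hα
  have hirr : Irreducible (cyclotomic n ℚ) := cyclotomic.irreducible_rat hn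
  have hσ : ∀ σ : Gal((CyclotomicField n ℚ)/ℚ), φ (σ α) =
      ∑ i, μ i ^ ((IsCyclotomicExtension.autEquivPow (CyclotomicField n ℚ) hirr σ :
        (ZMod n)ˣ) : ZMod n).val := by
    intro σ
    have h1 : σ ζ = ζ ^ ((IsCyclotomicExtension.autEquivPow (CyclotomicField n ℚ) hirr σ :
        (ZMod n)ˣ) : ZMod n).val := by
      have := hζ.autToPow_spec ℚ σ
      rw [← this]
      rfl
    simp only [hα, map_sum, map_pow, h1]
    refine Finset.sum_congr rfl fun i _ => ?_
    rw [← ha i, ← pow_mul, ← pow_mul, mul_comm]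
  have hφα : φ α = ∑ i, μ i := by
    simp only [hα, map_sum, map_pow, ha]
  constructor
  · rintro ⟨q, hq⟩ k
    have h1 : α = algebraMap ℚ (CyclotomicField n ℚ) q := by
      apply hφinj
      rw [hφα, hq, AlgHom.commutes]
      rfl
    have h2 := hσ ((IsCyclotomicExtension.autEquivPow (CyclotomicField n ℚ) hirr).symm k)
    rw [MulEquiv.apply_symm_apply] at h2
    rw [← h2, ← hφα, h1, AlgEquiv.commutes]
  · intro h
    have hfix : ∀ σ : Gal((CyclotomicField n ℚ)/ℚ), σ α = α := by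
      intro σ
      apply hφinj
      rw [hσ σ, h, hφα]
    obtain ⟨q, hq⟩ := (IsGalois.mem_range_algebraMap_iff_fixed α).mpr hfix
    refine ⟨q, ?_⟩
    rw [← hφα, ← hq, AlgHom.commutes]
    rfl

variable {G : Type*} [Group G]

/-- A character value at `g` (with `g ^ n = 1`) is rational iff it is invariant under
`g ↦ g ^ k`, `k ∈ (ℤ/n)ˣ`. -/
theorem character_rational_iff {χ : G → ℂ} (hχ : Cfsg.IsCharacter G χ) (g : G) (n : ℕ)
    [NeZero n] (hg : g ^ n = 1) :
    (∃ q : ℚ, χ g = (q : ℂ)) ↔ ∀ k : (ZMod n)ˣ, χ (g ^ (k : ZMod n).val) = χ g := by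
  obtain ⟨m, ρ, rfl⟩ := hχ
  have hn : 0 < n := Nat.pos_of_ne_zero (NeZero.ne n)
  have hf : (ρ g) ^ n = 1 := by rw [← map_pow, hg, map_one]
  obtain ⟨ι, _, b, μ, hb, hμ⟩ := exists_eigenbasis_of_pow_eq_one hn hf
  have hpow : ∀ (k : ℕ) i, (ρ (g ^ k)) (b i) = (μ i ^ k) • b i := by
    intro k i
    induction k with
    | zero => simp
    | succ k ih =>
      rw [pow_succ, map_mul, Module.End.mul_apply, hb i, map_smul, ih, smul_smul, pow_succ,
        mul_comm]
  have htr : ∀ k : ℕ, ρ.character (g ^ k) = ∑ i, μ i ^ k := fun k =>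
    trace_eq_sum_of_eigenbasis b (fun i => μ i ^ k) (ρ (g ^ k)) (hpow k)
  have h1 : ρ.character g = ∑ i, μ i := by
    have := htr 1
    simpa using this
  have := sum_rational_iff n μ hμ
  simpa only [htr, h1] using this

/-- Group form: for a finite group, a character value `χ g` is rational iff
`χ (g ^ m) = χ g` for all `m` coprime to `|G|`. -/
theorem character_rational_iff_coprime [Finite G] {χ : G → ℂ} (hχ : Cfsg.IsCharacter G χ)
    (g : G) :
    (∃ q : ℚ, χ g = (q : ℂ)) ↔ ∀ m : ℕ, m.Coprime (Nat.card G) → χ (g ^ m) = χ g := by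
  have : NeZero (Nat.card G) := ⟨Nat.card_pos.ne'⟩
  rw [character_rational_iff hχ g (Nat.card G) (pow_card_eq_one')]
  constructor
  · intro h m hm
    have := h (ZMod.unitOfCoprime m hm)
    rw [ZMod.coe_unitOfCoprime, ZMod.val_natCast] at this
    rwa [pow_mod_natCard] at this
  · intro h k
    exact h _ (ZMod.val_coe_unit_coprime k)

end Cfsg.Agent.Lib.Helper3.GaloisRat
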