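import Mathlib
import Cfsg.Agent.Lib.Helper3.BG14g
import Cfsg.Agent.Lib.Helper7.BGK9
import Cfsg.Agent.Lib.Helper2.BGJ5
import Cfsg.Agent.Lib.Helper1.BGG4
import Cfsg.Agent.S1422
import Cfsg.Agent.S1423

set_option autoImplicit false
set_option maxHeartbeats 4000000
set_option linter.unusedVariables false
set_option linter.unusedSectionVars false
set_option linter.style.longLine false
set_option linter.unusedSimpArgs false
set_option linter.deprecated false
set_option linter.style.haveILetI false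

/-!
# The σ-partition (B&G 13.9) without S1430: set-up (steps (1)-(3) of helper1's proof)
-/

open scoped commutatorElement Pointwise
universe u
namespace Cfsg.Agent.Lib.Helper3.BG15

open Cfsg Cfsg.Agent.Lib.Helper1 Cfsg.Agent.Lib.Helper7 Cfsg.Agent.Lib.Helper7.BGRows

variable {G : Type u} [Group G] [Finite G]

/-- a prime divisor of `|M|` lies in `σ`, `τ₁`, `τ₂` or `τ₃` -/
theorem tau_cases4 (hG : IsMinSimpleOddOrder G) {M : Subgroup G} (hM : IsCoatom M) {p : ℕ}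
    (hp : p.Prime) (hpM : p ∣ Nat.card M) :
    p ∈ sigma M ∨ p ∈ tau1 M ∨ p ∈ tau2 M ∨ p ∈ tau3 M := by
  by_cases hσ : p ∈ sigma M
  · exact Or.inl hσ
  have hr2 : PRankLE p 2 M := by
    by_contra h
    exact hσ (BT.alpha_subset_sigma hG hM ⟨hp, h⟩)
  by_cases hr1 : PRankLE p 1 M
  · by_cases hc : p ∣ Nat.card ↥⁅M, M⁆
    · exact Or.inr (Or.inr (Or.inr ⟨hp, hσ, hc, hr1⟩))
    · exact Or.inr (Or.inl ⟨hp, hσ, hpM, hc, hr1⟩)
  · exact Or.inr (Or.inr (Or.inl ⟨hp, hσ, hr2, hr1⟩))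

/-- Frattini: a complement of `M_σ` in `M` normalizing a given Sylow `q`-subgroup, `q ∈ σ(M)` -/
theorem exists_compl_normalizing (hG : IsMinSimpleOddOrder G) {M : Subgroup G}
    (hM : IsCoatom M) {q : ℕ} [hq : Fact q.Prime] (hqσ : q ∈ sigma M) {S : Subgroup G}
    (hS : BG8.IsMaxP q S M) :
    ∃ E : Subgroup G, IsComplIn E (sigmaCore M) M ∧ E ≤ Subgroup.normalizer (S : Set G) := by
  have hSσ : BG8.IsMaxP q S (sigmaCore M) := BGE.isMaxP_sigmaCore_of hG hM hqσ hS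
  have hprod : ∀ x ∈ M, ∃ b ∈ sigmaCore M, ∃ n ∈ M ⊓ Subgroup.normalizer (S : Set G),
      x = b * n := by
    intro x hx
    have h1 : BG8.IsMaxP q (BG7.cj x S) (sigmaCore M) := by
      have := BT.isMaxP_cj hSσ x
      rwa [BG7.cj_eq_of_mem_normalizer (BGE.le_normalizer_sigmaCore M hx)] at this
    obtain ⟨n, hn, hnS⟩ := BT.isMaxP_conj hSσ h1
    have h2 : BG7.cj (n⁻¹ * x) S = S := by
      rw [BG7.cj_mul, hnS, BG7.cj_inv_cj]
    refine ⟨n, hn, n⁻¹ * x, Subgroup.mem_inf.mpr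
      ⟨M.mul_mem (M.inv_mem (BGE.sigmaCore_le M hn)) hx, BG7.mem_normalizer_of_cj_eq h2⟩,
      by group⟩
  obtain ⟨I, hI⟩ : ∃ I : Subgroup G, I = M ⊓ Subgroup.normalizer (S : Set G) := ⟨_, rfl⟩
  rw [← hI] at hprod
  have hIM : I ≤ M := hI ▸ inf_le_left
  have hdvd : I.relIndex M ∣ Nat.card (sigmaCore M) :=
    Cfsg.Agent.Lib.Helper3.BG13.relIndex_dvd_card_of_prod (BGE.sigmaCore_le M) hIM
      (BGE.le_normalizer_sigmaCore M) hprod
  have hIs : Group.IsSolvable ↥I :=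
    BG7.isSolvable_of_ne_top hG (ne_top_of_le_ne_top hM.1 hIM)
  obtain ⟨E, hE⟩ := BGK.exists_isPiHallOf I hIs {r | r.Prime ∧ r ∉ sigma M}
  have hEM : E ≤ M := hE.1.trans hIM
  have h1350 := BGA.s1350 hG M hM
  have hcopE : (Nat.card E).Coprime (Nat.card (sigmaCore M)) :=
    BGD.coprime_sigmaCore hG hM (fun r hr hrd => (hE.2.1 r hr hrd).2)
  have hinf : E ⊓ sigmaCore M = ⊥ := Subgroup.inf_eq_bot_of_coprime hcopE
  have hcop : (E.relIndex M).Coprime ((sigmaCore M).relIndex M) := by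
    by_contra hc
    obtain ⟨r, hr, hr1, hr2⟩ := Nat.Prime.not_coprime_iff_dvd.mp hc
    have hrσ : r ∉ sigma M := fun h => h1350.1.2.2 r hr h hr2
    rw [← Subgroup.relIndex_mul_relIndex E I M hE.1 hIM] at hr1
    rcases (Nat.Prime.dvd_mul hr).mp hr1 with h | h
    · exact hE.2.2 r hr ⟨hr, hrσ⟩ h
    · exact hrσ (h1350.1.2.1 r hr (h.trans hdvd))
  exact ⟨E, BGK.complIn_of_coprime hEM (BGE.sigmaCore_le M) hinf hcop,
    hE.1.trans (hI ▸ inf_le_right)⟩

/-- the complement is nontrivial when `M` is of type `P` -/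
theorem compl_ne_bot (hG : IsMinSimpleOddOrder G) {M : Subgroup G} (hM : IsCoatom M)
    {E : Subgroup G} (hE : IsComplIn E (sigmaCore M) M) : E ≠ ⊥ := by
  intro hbot
  have hle : M ≤ sigmaCore M := by
    intro m hm
    obtain ⟨a, ha, b, hb, rfl⟩ := hE.2.2.2 m hm
    rw [hbot, Subgroup.mem_bot] at ha
    rw [ha, one_mul]; exact hb
  have hle2 : M ≤ ⁅M, M⁆ := hle.trans (BGC.sigmaCore_le_commutator hG hM)
  haveI : Group.IsSolvable ↥M := BG7.isSolvable_of_ne_top hG hM.1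
  have hM1 : M ≠ ⊥ := BGE.coatom_ne_bot hG hM
  exact absurd hle2 (not_le_of_gt (Cfsg.Agent.Lib.Lead.Sib.commutator_lt_self M hM1))

/-- Steps (1)-(3): the set-up for an ordered pair `(M, M*)` sharing a Sylow `q`-subgroup `S` of `G`. -/
theorem sp_setup (hG : IsMinSimpleOddOrder G) {M Ms : Subgroup G} (hM : IsCoatom M)
    (hMs : IsCoatom Ms) (hnc : ∀ g : G, Ms ≠ BG7.cj g M) {q : ℕ} [hq : Fact q.Prime]
    (hqM : q ∈ sigma M) (hqMs : q ∈ sigma Ms) {S : Subgroup G} (hS : BG8.IsMaxP q S ⊤)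
    (hSM : S ≤ M) (hSMs : S ≤ Ms) :
    (∀ r : ℕ, r.Prime → r ∣ Nat.card M → r ∉ sigma M → r ∈ kappa M) ∧
    (∀ r : ℕ, r ∉ tau2 M) ∧ q ∉ beta M ∧ S ≠ ⊥ ∧ Subgroup.normalizer (S : Set G) ≤ M ∧
    ∃ E : Subgroup G, IsComplIn E (sigmaCore M) M ∧ E ≤ Subgroup.normalizer (S : Set G) ∧
      (∃ y ∈ E, orderOf y ∈ tau1 M) ∧
      ∀ y ∈ E, orderOf y ∈ tau1 M →
        S ⊓ Subgroup.centralizer ({y} : Set G) = ⊥ ∧ orderOf y ∈ tau1 Ms := by
  have hne : Ms ≠ M := BG13.ne_of_nonconj hnc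
  have hnc' := BG13.nonconj_symm hnc
  have hnnM : ¬ Group.IsNilpotent ↥(sigmaCore M) := fun h =>
    BG13.sigma_disjoint_of_nilpotent hG hMs hM hnc' h hqMs hqM
  have hp1M := BGK.p1_of_not_nilpotent hG hM hnnM
  have hτ2 : ∀ r : ℕ, r ∉ tau2 M := by
    intro r hr
    haveI : Fact r.Prime := ⟨hr.1⟩
    obtain ⟨A, hAM, hAe, hA2⟩ := BGD.exists_sq_of_rank hr.2.2.1 hr.2.2.2
    exact hnnM (BGE.s1417 hG M hM r hr A ⟨hAM, hAe, hA2⟩).1
  have hqβ : q ∉ beta M := fun hβ =>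
    Helper2.BGH.sigma_alpha_disjoint hG hMs hM hnc' hqMs hβ.1
  have hSM' : BG8.IsMaxP q S M := hS.mono hSM le_top
  have hSMs' : BG8.IsMaxP q S Ms := hS.mono hSMs le_top
  have hS1 : S ≠ ⊥ := by
    obtain ⟨R, hR⟩ := hSM'.exists_sylow
    have h1 := R.ne_bot_of_dvd_card hqM.2.1
    intro h
    apply h1
    rw [h] at hR
    exact (Subgroup.map_eq_bot_iff_of_injective _ M.subtype_injective).mp hR
  have hNS_M := (BT.sigma_sylow_le_commutator hG hM hqM hSM').2.2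
  have hNS_Ms := (BT.sigma_sylow_le_commutator hG hMs hqMs hSMs').2.2
  obtain ⟨E, hE, hES⟩ := exists_compl_normalizing hG hM hqM hSM'
  refine ⟨hp1M, hτ2, hqβ, hS1, hNS_M, E, hE, hES, ?_, ?_⟩
  · -- `E₁ ≠ 1`
    have hE1 := compl_ne_bot hG hM hE
    haveI hEs : Group.IsSolvable ↥E :=
      BG7.isSolvable_of_ne_top hG (ne_top_of_le_ne_top hM.1 hE.1)
    by_contra hcon
    push Not at hcon
    have hall3 : ∀ r : ℕ, r.Prime → r ∣ Nat.card E → r ∈ tau3 M := by
      intro r hr hrE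
      rcases Helper2.BGJ.tau_cases hG hM hE hr hrE with (h | h) | h
      · exfalso
        haveI : Fact r.Prime := ⟨hr⟩
        obtain ⟨y, hy⟩ := exists_prime_orderOf_dvd_card' r hrE
        have hyo : orderOf (y : G) = r := by rw [Subgroup.orderOf_coe]; exact hy
        exact hcon (y : G) y.2 (hyo ▸ h)
      · exact h
      · exact absurd h (hτ2 r)
    have hHall : IsPiHallOf (tau3 M) E E := by
      refine ⟨le_rfl, hall3, fun r hr _ hd => ?_⟩
      rw [Subgroup.relIndex_self] at hd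
      exact hr.one_lt.ne' (Nat.dvd_one.mp hd)
    have hle := ((BGB.s1415 hG M hM E hE).2.2 E hHall).2.1
    exact absurd hle (not_le_of_gt (Cfsg.Agent.Lib.Lead.Sib.commutator_lt_self E hE1))
  · intro y hyE hyτ
    obtain ⟨p, hpdef⟩ : ∃ p : ℕ, p = orderOf y := ⟨_, rfl⟩
    rw [← hpdef] at hyτ ⊢
    have hp : p.Prime := hyτ.1
    haveI : Fact p.Prime := ⟨hp⟩
    have hyo : orderOf y = p := hpdef.symm
    obtain ⟨hPc, hPp, hy1⟩ := BGK.zpowers_facts hp hyo
    have hSσ : BG8.IsMaxP q S (sigmaCore M) := BGE.isMaxP_sigmaCore_of hG hM hqM hSM'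
    obtain ⟨hEE, hSE, -⟩ := BG14.narrow_pkg hG hM hE hqM hqβ hSσ hES
    haveI hSab : IsMulCommutative S := by
      by_contra hna
      have huniq := Cfsg.Agent.S1422.result hG q S hS.2.1 hna
      exact hne (huniq.unique ⟨hMs, hSMs⟩ ⟨hM, hSM⟩)
    have hcopES : (Nat.card E).Coprime (Nat.card S) := by
      have h1 : (Nat.card E).Coprime (Nat.card (sigmaCore M)) :=
        BGD.coprime_sigmaCore hG hM (BGD.compl_not_sigma hG hM hE)
      exact Nat.Coprime.coprime_dvd_right (Subgroup.card_dvd_of_le hSσ.1) h1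
    have hCSE : S ⊓ Subgroup.centralizer (E : Set G) = ⊥ := by
      have h1 := coprime_abelian_centralizer_inf_commutator E S hES hcopES
      rw [hSE] at h1
      rwa [inf_eq_left.mpr inf_le_left] at h1
    haveI hEs : Group.IsSolvable ↥E :=
      BG7.isSolvable_of_ne_top hG (ne_top_of_le_ne_top hM.1 hE.1)
    have hPE : Subgroup.zpowers y ≤ E := Subgroup.zpowers_le.mpr hyE
    -- Hall subgroups of `E`
    obtain ⟨E₁', hE₁'⟩ := BGK.exists_isPiHallOf E hEs (tau1 M)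
    obtain ⟨m, hm, hle⟩ := BGK.exists_cj_le_of_hall hEs hE₁' hPE (by
      intro r hr hrd
      rw [hPc] at hrd
      rw [(Nat.prime_dvd_prime_iff_eq hr hp).mp hrd]; exact hyτ)
    have hE₁ : IsPiHallOf (tau1 M) (BG7.cj m E₁') E := BGK.isPiHallOf_cj hE₁' hm
    obtain ⟨E₃, hE₃⟩ := BGK.exists_isPiHallOf E hEs (tau3 M)
    have hyE₁ : y ∈ BG7.cj m E₁' := hle (Subgroup.mem_zpowers y)
    obtain ⟨X, hX⟩ : ∃ X : Subgroup G, X = S ⊓ Subgroup.centralizer ({y} : Set G) := ⟨_, rfl⟩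
    have hXS : X ≤ S := hX ▸ inf_le_left
    have hXσ : X ≤ sigmaCore M := hXS.trans hSσ.1
    have hXy : X ≤ Subgroup.centralizer ({y} : Set G) := hX ▸ inf_le_right
    have hE₁X := BG14.tau1_hall_centralizes hG hM hE hyτ hyo hE₁ hyE₁ hXσ hXy
    have hE₃X : E₃ ≤ Subgroup.centralizer (X : Set G) :=
      (((BGB.s1415 hG M hM E hE).2.2 E₃ hE₃).2.1.trans hEE).trans
        (Subgroup.centralizer_le hXS)
    have hEX : E ≤ Subgroup.centralizer (X : Set G) := by
      apply BG14.le_of_forall_prime_not_dvd_relIndex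
      intro s hs hsd
      have hsE : s ∣ Nat.card E := hsd.trans (Subgroup.relIndex_dvd_card _ _)
      have key : ∀ {π : Set ℕ} {H : Subgroup G}, IsPiHallOf π H E →
          H ≤ Subgroup.centralizer (X : Set G) → s ∈ π → False := by
        intro π H hH hHX hsπ
        have h1 : H ≤ E ⊓ Subgroup.centralizer (X : Set G) := le_inf hH.1 hHX
        have h2 := Subgroup.relIndex_mul_relIndex H (E ⊓ Subgroup.centralizer (X : Set G)) E h1
          inf_le_left
        exact hH.2.2 s hs hsπ (h2 ▸ Dvd.dvd.mul_left hsd _)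
      rcases Helper2.BGJ.tau_cases hG hM hE hs hsE with (h | h) | h
      · exact key hE₁ hE₁X h
      · exact key hE₃ hE₃X h
      · exact hτ2 s h
    have hXbot : X = ⊥ := by
      apply le_bot_iff.mp
      rw [← hCSE]
      refine le_inf hXS ?_
      rw [Subgroup.le_centralizer_iff]
      exact hEX
    refine ⟨hX ▸ hXbot, ?_⟩
    -- `p ∈ τ₁(M*)`
    have hPMs : Subgroup.zpowers y ≤ Ms := hPE.trans (hES.trans hNS_Ms)
    have hpMs : p ∣ Nat.card Ms := by
      rw [← hPc]; exact Subgroup.card_dvd_of_le hPMs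
    by_contra hnτ
    have hcases : p ∈ sigma Ms ∨ p ∈ tau2 Ms ∨ p ∈ tau3 Ms := by
      rcases tau_cases4 hG hMs hp hpMs with h | h | h | h
      · exact Or.inl h
      · exact absurd h hnτ
      · exact Or.inr (Or.inl h)
      · exact Or.inr (Or.inr h)
    have hcomm := BG13.comm_eq_bot_gen hG hM hMs hnc hyτ.2.1 (hPE.trans hE.1) hPMs hPp hcases
    have hSle : S ≤ X := by
      rw [hX]
      intro s hs
      refine Subgroup.mem_inf.mpr ⟨hs, BGE.mem_centralizer_singleton.mpr ?_⟩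
      exact (BGK.commute_of_commutator_eq_bot hcomm (Subgroup.mem_inf.mpr ⟨hSσ.1 hs, hSMs hs⟩)
        (Subgroup.mem_zpowers y)).symm
    exact hS1 (le_bot_iff.mp (hXbot ▸ hSle))

end Cfsg.Agent.Lib.Helper3.BG15
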