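import Mathlib
import Cfsg.Agent.Lib.Helper3.BG15a
import Cfsg.Agent.Lib.Helper1.CoprimeSylow
import Cfsg.Agent.Lib.Helper1.BGG7

set_option autoImplicit false
set_option maxHeartbeats 4000000
set_option linter.unusedVariables false
set_option linter.unusedSectionVars false
set_option linter.style.longLine false
set_option linter.unusedSimpArgs false
set_option linter.deprecated false
set_option linter.style.haveILetI false

/-!
# The σ-partition (B&G 13.9) without S1430: step (4), fixed points in `M_β`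
-/

open scoped commutatorElement Pointwise
universe u
namespace Cfsg.Agent.Lib.Helper3.BG15

open Cfsg Cfsg.Agent.Lib.Helper1 Cfsg.Agent.Lib.Helper7 Cfsg.Agent.Lib.Helper7.BGRows

variable {G : Type u} [Group G] [Finite G]

/-- a maximal subgroup contained in another one is equal to it -/
theorem coatom_eq_of_le {M Ms : Subgroup G} (hM : IsCoatom M) (hMs : IsCoatom Ms) (h : M ≤ Ms) :
    Ms = M :=
  (eq_or_lt_of_le h).elim (fun h => h.symm) (fun h => absurd (hM.2 Ms h) hMs.1)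

/-- Step (4): an element `y` of prime order `p ∉ σ(M)` acting fixed-point-freely on the common Sylow
subgroup `S` has a fixed point of prime order in `M_β`. -/
theorem exists_beta_fixed (hG : IsMinSimpleOddOrder G) {M Ms : Subgroup G} (hM : IsCoatom M)
    (hMs : IsCoatom Ms) (hnc : ∀ g : G, Ms ≠ BG7.cj g M) {q : ℕ} [hq : Fact q.Prime]
    (hqM : q ∈ sigma M) (hqMs : q ∈ sigma Ms) {S : Subgroup G} (hS : BG8.IsMaxP q S ⊤)
    (hSM : S ≤ M) (hSMs : S ≤ Ms) {p : ℕ} (hp : p.Prime) {y : G} (hyo : orderOf y = p)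
    (hyM : y ∈ M) (hyN : y ∈ Subgroup.normalizer (S : Set G)) (hpσ : p ∉ sigma M)
    (hfpf : S ⊓ Subgroup.centralizer ({y} : Set G) = ⊥) :
    ∃ x ∈ piCoreOf (beta M) M, x ∈ Subgroup.centralizer ({y} : Set G) ∧ (orderOf x).Prime := by
  by_contra hcon
  push Not at hcon
  haveI : Fact p.Prime := ⟨hp⟩
  have hne : Ms ≠ M := BG13.ne_of_nonconj hnc
  have hnc' := BG13.nonconj_symm hnc
  have hqβ : q ∉ beta M := fun hβ =>
    Helper2.BGH.sigma_alpha_disjoint hG hMs hM hnc' hqMs hβ.1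
  have hSM' : BG8.IsMaxP q S M := hS.mono hSM le_top
  have hSMs' : BG8.IsMaxP q S Ms := hS.mono hSMs le_top
  have hNS_Ms := (BT.sigma_sylow_le_commutator hG hMs hqMs hSMs').2.2
  obtain ⟨B, hB⟩ : ∃ B : Subgroup G, B = piCoreOf (beta M) M := ⟨_, rfl⟩
  rw [← hB] at hcon
  have hBM : B ≤ M := hB ▸ BG7.piCoreOf_le (beta M) M
  have hMB : M ≤ Subgroup.normalizer (B : Set G) := hB ▸ BG7.le_normalizer_piCoreOf (beta M) M
  have hBβ : ∀ r : ℕ, r.Prime → r ∣ Nat.card B → r ∈ beta M := by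
    intro r hr hrd
    exact (Cfsg.Agent.S1414.result hG M hM).1.2.1 r hr (hB ▸ hrd)
  have hBC : B ⊓ Subgroup.centralizer ({y} : Set G) = ⊥ := by
    by_contra hne'
    obtain ⟨x, hx, hxo⟩ := BG14.exists_prime_order_mem hne'
    exact hcon x (Subgroup.mem_inf.mp hx).1 (Subgroup.mem_inf.mp hx).2 hxo
  obtain ⟨hPc, hPp, hy1⟩ := BGK.zpowers_facts hp hyo
  have hPM : Subgroup.zpowers y ≤ M := Subgroup.zpowers_le.mpr hyM
  have hPS : Subgroup.zpowers y ≤ Subgroup.normalizer (S : Set G) := Subgroup.zpowers_le.mpr hyN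
  have hP1 : Subgroup.zpowers y ≠ ⊥ := by
    intro h
    have : y ∈ (⊥ : Subgroup G) := h ▸ Subgroup.mem_zpowers y
    exact hy1 (Subgroup.mem_bot.mp this)
  have hfpf' : ∀ r ∈ Subgroup.zpowers y, r ≠ 1 → ∀ k ∈ S, r * k = k * r → k = 1 := by
    intro r hr hr1 k hk hrk
    have hyr : y ∈ Subgroup.zpowers r :=
      BGE.Exc.mem_zpowers_of_card_prime hPc hr hr1 (Subgroup.mem_zpowers y)
    have hky : k ∈ Subgroup.centralizer ({y} : Set G) := by
      have h1 : k ∈ Subgroup.centralizer ({r} : Set G) := BGE.mem_centralizer_singleton.mpr hrk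
      exact BGK.centralizer_singleton_le_of_mem_zpowers hyr h1
    have : k ∈ S ⊓ Subgroup.centralizer ({y} : Set G) := Subgroup.mem_inf.mpr ⟨hk, hky⟩
    rw [hfpf] at this
    exact Subgroup.mem_bot.mp this
  have hAM : S ⊔ Subgroup.zpowers y ≤ M := sup_le hSM hPM
  have hAB : S ⊔ Subgroup.zpowers y ≤ Subgroup.normalizer (B : Set G) := hAM.trans hMB
  haveI hsolvA : Group.IsSolvable ↥(S ⊔ Subgroup.zpowers y : Subgroup G) :=
    BG7.isSolvable_of_ne_top hG (ne_top_of_le_ne_top hM.1 hAM)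
  have hcop : (Nat.card ↥(S ⊔ Subgroup.zpowers y : Subgroup G)).Coprime (Nat.card B) := by
    by_contra hc
    obtain ⟨r, hr, hr1, hr2⟩ := Nat.Prime.not_coprime_iff_dvd.mp hc
    have hrβ := hBβ r hr hr2
    rcases BGG.prime_dvd_card_sup' hPS hr hr1 with h | h
    · rw [hPc] at h
      rw [(Nat.prime_dvd_prime_iff_eq hr hp).mp h] at hrβ
      exact hpσ (BT.alpha_subset_sigma hG hM hrβ.1)
    · have := BGG.prime_eq_of_dvd_card_pgroup hS.2.1 hr h
      rw [this] at hrβ
      exact hqβ hrβ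
  have hBS : B ≤ Subgroup.centralizer (S : Set G) := by
    apply BG14.le_of_forall_prime_not_dvd_relIndex
    intro t ht htd
    have htB : t ∣ Nat.card B := htd.trans (Subgroup.relIndex_dvd_card _ _)
    haveI : Fact t.Prime := ⟨ht⟩
    have ht2 : t ≠ 2 := BGG.ne_two_of_dvd_card hG htB
    obtain ⟨T₀, hT₀⟩ := coprime_exists_invariant_sylow (S ⊔ Subgroup.zpowers y) B hAB hcop
      (Or.inl hsolvA) t
    have hTmax := BG8.isMaxP_of_sylow T₀
    have hcopT : (Nat.card ↥((T₀ : Subgroup B).map B.subtype)).Coprime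
        (Nat.card ↥(S ⊔ Subgroup.zpowers y : Subgroup G)) :=
      (Nat.Coprime.coprime_dvd_right (Subgroup.card_dvd_of_le hTmax.1) hcop).symm
    have hTle : (T₀ : Subgroup B).map B.subtype ≤ Subgroup.centralizer (S : Set G) :=
      BGG.lemmaF S (Subgroup.zpowers y) hP1 hPS hfpf' (p := t) ht2 _ _ rfl hTmax.2.1 hT₀ hcopT
        (fun x hxT hxP _ => by
          have hxy : x ∈ Subgroup.centralizer ({y} : Set G) := by
            rw [← BG14.centralizer_zpowers_eq]; exact hxP
          have : x ∈ B ⊓ Subgroup.centralizer ({y} : Set G) :=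
            Subgroup.mem_inf.mpr ⟨hTmax.1 hxT, hxy⟩
          rw [hBC, Subgroup.mem_bot] at this
          rw [this]; exact Subgroup.one_mem _)
    have h1 : (T₀ : Subgroup B).map B.subtype ≤ B ⊓ Subgroup.centralizer (S : Set G) :=
      le_inf hTmax.1 hTle
    have h2 := Subgroup.relIndex_mul_relIndex _ (B ⊓ Subgroup.centralizer (S : Set G)) B h1
      inf_le_left
    exact BG13.not_dvd_relIndex_of_isMaxP hTmax (h2 ▸ Dvd.dvd.mul_left htd _)
  have hle : M ≤ Ms := by
    intro m hm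
    obtain ⟨b, hb, n, hn, rfl⟩ := BG13.d1 hG hMs hM hnc' hqMs hqM hSM' m hm
    rw [← hB] at hb
    refine Ms.mul_mem (hNS_Ms (Subgroup.centralizer_le_normalizer _ (hBS hb))) ?_
    exact hNS_Ms (Subgroup.mem_inf.mp hn).2
  exact hne (coatom_eq_of_le hM hMs hle)

end Cfsg.Agent.Lib.Helper3.BG15
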