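import Mathlib
import Cfsg.Agent.Lib.Helper3.BG15b
import Cfsg.Agent.S1418
import Cfsg.Agent.Lib.Helper7.BGK7

set_option autoImplicit false
set_option maxHeartbeats 4000000
set_option linter.unusedVariables false
set_option linter.unusedSectionVars false
set_option linter.style.longLine false
set_option linter.unusedSimpArgs false
set_option linter.deprecated false
set_option linter.style.haveILetI false

/-!
# The σ-partition (B&G 13.9) without S1430: steps (5), (6) (the CROSS argument)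
-/

open scoped commutatorElement Pointwise
universe u
namespace Cfsg.Agent.Lib.Helper3.BG15

open Cfsg Cfsg.Agent.Lib.Helper1 Cfsg.Agent.Lib.Helper7 Cfsg.Agent.Lib.Helper7.BGRows

variable {G : Type u} [Group G] [Finite G]

/-- `N_G(X) ≤ M` when `M` is the unique maximal subgroup over `C_G(X)` -/
theorem normalizer_le_of_uniq (hG : IsMinSimpleOddOrder G) {M X : Subgroup G} (hM : IsCoatom M)
    (hX1 : X ≠ ⊥) (hXM : X ≤ M)
    (hu : ∀ L : Subgroup G, IsCoatom L → Subgroup.centralizer (X : Set G) ≤ L → L = M) :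
    Subgroup.normalizer (X : Set G) ≤ M := by
  have hXtop : X ≠ ⊤ := ne_top_of_le_ne_top hM.1 hXM
  have hNtop := BG7.normalizer_ne_top hG hX1 hXtop
  obtain ⟨L, hL, hNL⟩ := (eq_top_or_exists_le_coatom
    (Subgroup.normalizer (X : Set G))).resolve_left hNtop
  have := hu L hL ((Subgroup.centralizer_le_normalizer _).trans hNL)
  exact this ▸ hNL

/-- a `π`-subgroup of a solvable group `E` lies in a normal Hall `π`-subgroup -/
theorem le_of_normal_hall {E H Y : Subgroup G} (hEs : Group.IsSolvable ↥E) {π : Set ℕ}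
    (hH : IsPiHallOf π H E) (hn : E ≤ Subgroup.normalizer (H : Set G)) (hYE : Y ≤ E)
    (hY : ∀ q : ℕ, q.Prime → q ∣ Nat.card Y → q ∈ π) : Y ≤ H := by
  obtain ⟨m, hm, hle⟩ := BGK.exists_cj_le_of_hall hEs hH hYE hY
  rwa [BG7.cj_eq_of_mem_normalizer (hn hm)] at hle

/-- a complement `E` of `L_σ` normalizes each of its subgroups of prime order `t ∈ τ₃(L)` -/
theorem compl_le_normalizer_of_tau3 (hG : IsMinSimpleOddOrder G) {L : Subgroup G}
    (hL : IsCoatom L) {E : Subgroup G} (hE : IsComplIn E (sigmaCore L) L) {t : ℕ}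
    (ht3 : t ∈ tau3 L) {X : Subgroup G} (hXE : X ≤ E) (hXc : Nat.card X = t) :
    E ≤ Subgroup.normalizer (X : Set G) := by
  haveI hEs : Group.IsSolvable ↥E :=
    BG7.isSolvable_of_ne_top hG (ne_top_of_le_ne_top hL.1 hE.1)
  obtain ⟨E₃, hE₃⟩ := BGK.exists_isPiHallOf E hEs (tau3 L)
  obtain ⟨hcyc, -, hn⟩ := (BGB.s1415 hG L hL E hE).2.2 E₃ hE₃
  have hXE₃ : X ≤ E₃ := le_of_normal_hall hEs hE₃ hn hXE (by
    intro q hq hqd
    rw [hXc] at hqd
    rw [(Nat.prime_dvd_prime_iff_eq hq ht3.1).mp hqd]; exact ht3)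
  exact hn.trans (BGG.normalizer_le_of_isCyclic hcyc hXE₃)

/-- Step (5): the facts on one side of the CROSS argument. -/
theorem cross_side (hG : IsMinSimpleOddOrder G) {M L : Subgroup G} (hM : IsCoatom M)
    (hL : IsCoatom L) {p : ℕ} (hp : p.Prime) {y : G} (hyo : orderOf y = p)
    (hNP : Subgroup.normalizer ((Subgroup.zpowers y : Subgroup G) : Set G) ≤ L)
    (hpL : p ∈ sigma L) (hpM : p ∉ sigma M) {x : G} (hxM : x ∈ M) (hxo : orderOf x ∈ beta M)
    (hxy : x ∈ Subgroup.centralizer ({y} : Set G)) :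
    (Subgroup.centralizer ((Subgroup.zpowers x : Subgroup G) : Set G) ≤ M ∧
      ∀ L' : Subgroup G, IsCoatom L' →
        Subgroup.centralizer ((Subgroup.zpowers x : Subgroup G) : Set G) ≤ L' → L' = M) ∧
    x ∈ L ∧ orderOf x ∉ sigma L ∧ (orderOf x ∈ tau1 L ∨ orderOf x ∈ tau3 L) := by
  haveI : Fact p.Prime := ⟨hp⟩
  obtain ⟨t, htdef⟩ : ∃ t : ℕ, t = orderOf x := ⟨_, rfl⟩
  rw [← htdef] at hxo ⊢
  have ht : t.Prime := hxo.1.1
  haveI : Fact t.Prime := ⟨ht⟩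
  obtain ⟨hXc, hXp, hx1⟩ := BGK.zpowers_facts ht htdef.symm
  obtain ⟨hPc, hPp, hy1⟩ := BGK.zpowers_facts hp hyo
  have hXM : Subgroup.zpowers x ≤ M := Subgroup.zpowers_le.mpr hxM
  have htσM : t ∈ sigma M := BT.alpha_subset_sigma hG hM hxo.1
  have hXu := (Cfsg.Agent.S1423.result hG M hM t htσM (Subgroup.zpowers x) hXM hXc default
    (Or.inl hxo)).1
  have hncL : ∀ g : G, L ≠ BG7.cj g M := by
    intro g h
    apply hpM
    have := BGK.sigma_cj M g
    rw [← h] at this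
    exact this ▸ hpL
  have hLM : L ≠ M := BG13.ne_of_nonconj hncL
  have htσL : t ∉ sigma L := fun h =>
    Helper2.BGH.sigma_alpha_disjoint hG hL hM (BG13.nonconj_symm hncL) h hxo.1
  have hxL : x ∈ L :=
    hNP (BGK.centralizer_singleton_le_normalizer (le_refl (Subgroup.zpowers y)) hxy)
  have hXL : Subgroup.zpowers x ≤ L := Subgroup.zpowers_le.mpr hxL
  have htL : t ∣ Nat.card L := by rw [← hXc]; exact Subgroup.card_dvd_of_le hXL
  have hyL : y ∈ L := hNP (Subgroup.le_normalizer (Subgroup.mem_zpowers y))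
  have hyσ : y ∈ sigmaCore L :=
    BGE.qsub_le_sigmaCore hG hL hpL hPp (Subgroup.zpowers_le.mpr hyL) (Subgroup.mem_zpowers y)
  refine ⟨hXu, hxL, htσL, ?_⟩
  rcases tau_cases4 hG hL ht htL with h | h | h | h
  · exact absurd h htσL
  · exact Or.inl h
  · exfalso
    obtain ⟨E, hE, hXE⟩ := BGG.exists_compl_ge hG hL hXL (by
      intro r hr hrd
      rw [hXc] at hrd
      rw [(Nat.prime_dvd_prime_iff_eq hr ht).mp hrd]; exact htσL)
    obtain ⟨A, hAE, hAe, hA2⟩ := BGK.exists_sq_in_compl hG hL hE h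
    obtain ⟨⟨-, h1⟩, -, h3⟩ := Cfsg.Agent.S1418.result hG L hL E hE t h A ⟨hAE, hAe, hA2⟩
    have hXA : Subgroup.zpowers x ≤ A := h1 _ hXE hXc
    have hne : sigmaCore L ⊓ Subgroup.centralizer ((Subgroup.zpowers x : Subgroup G) : Set G) ≠ ⊥ := by
      intro hbot
      have hmem : y ∈ sigmaCore L ⊓
          Subgroup.centralizer ((Subgroup.zpowers x : Subgroup G) : Set G) := by
        refine Subgroup.mem_inf.mpr ⟨hyσ, ?_⟩
        rw [BG14.centralizer_zpowers_eq]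
        exact BGE.mem_centralizer_singleton.mpr
          (BGE.mem_centralizer_singleton.mp hxy).symm
      rw [hbot, Subgroup.mem_bot] at hmem
      exact hy1 hmem
    have h4 := (h3 _ hXA hXc hne).1
    exact hLM (hXu.2 L hL h4)
  · exact Or.inr h

/-- Step (6), the CROSS argument: `x`, `x*` of prime orders in `β(M)`, `β(M*)` centralizing `y` of prime
order `p ∈ σ(L)`, `N_G(⟨y⟩) ≤ L`: a `C_G(y)`-conjugate of `x*` lies in `M`, or one of `x` lies in `M*`. -/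
theorem cross (hG : IsMinSimpleOddOrder G) {M Ms L : Subgroup G} (hM : IsCoatom M)
    (hMs : IsCoatom Ms) (hL : IsCoatom L) {p : ℕ} (hp : p.Prime) {y : G} (hyo : orderOf y = p)
    (hNP : Subgroup.normalizer ((Subgroup.zpowers y : Subgroup G) : Set G) ≤ L)
    (hpL : p ∈ sigma L) (hpM : p ∉ sigma M) (hpMs : p ∉ sigma Ms) {x xs : G} (hxM : x ∈ M)
    (hxo : orderOf x ∈ beta M) (hxy : x ∈ Subgroup.centralizer ({y} : Set G))
    (hxsMs : xs ∈ Ms) (hxso : orderOf xs ∈ beta Ms)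
    (hxsy : xs ∈ Subgroup.centralizer ({y} : Set G)) :
    (∃ c ∈ Subgroup.centralizer ({y} : Set G), BG7.cj c (Subgroup.zpowers xs) ≤ M) ∨
      (∃ c ∈ Subgroup.centralizer ({y} : Set G), BG7.cj c (Subgroup.zpowers x) ≤ Ms) := by
  obtain ⟨hXu, hxL, htσL, htτ⟩ := cross_side hG hM hL hp hyo hNP hpL hpM hxM hxo hxy
  obtain ⟨hXsu, hxsL, htsσL, htsτ⟩ := cross_side hG hMs hL hp hyo hNP hpL hpMs hxsMs hxso hxsy
  obtain ⟨t, htdef⟩ : ∃ t : ℕ, t = orderOf x := ⟨_, rfl⟩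
  obtain ⟨ts, htsdef⟩ : ∃ ts : ℕ, ts = orderOf xs := ⟨_, rfl⟩
  rw [← htdef] at hxo htσL htτ
  rw [← htsdef] at hxso htsσL htsτ
  have ht : t.Prime := hxo.1.1
  have hts : ts.Prime := hxso.1.1
  obtain ⟨hXc, hXp, hx1⟩ := BGK.zpowers_facts ht htdef.symm
  obtain ⟨hXsc, hXsp, hxs1⟩ := BGK.zpowers_facts hts htsdef.symm
  have hX1 : Subgroup.zpowers x ≠ ⊥ := by
    intro h
    have : x ∈ (⊥ : Subgroup G) := h ▸ Subgroup.mem_zpowers x
    exact hx1 (Subgroup.mem_bot.mp this)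
  have hXs1 : Subgroup.zpowers xs ≠ ⊥ := by
    intro h
    have : xs ∈ (⊥ : Subgroup G) := h ▸ Subgroup.mem_zpowers xs
    exact hxs1 (Subgroup.mem_bot.mp this)
  have hNX : Subgroup.normalizer ((Subgroup.zpowers x : Subgroup G) : Set G) ≤ M :=
    normalizer_le_of_uniq hG hM hX1 (Subgroup.zpowers_le.mpr hxM) hXu.2
  have hNXs : Subgroup.normalizer ((Subgroup.zpowers xs : Subgroup G) : Set G) ≤ Ms :=
    normalizer_le_of_uniq hG hMs hXs1 (Subgroup.zpowers_le.mpr hxsMs) hXsu.2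
  -- Hall `{t, t*}`-subgroups of `C_L(y)`
  obtain ⟨C, hC⟩ : ∃ C : Subgroup G, C = L ⊓ Subgroup.centralizer ({y} : Set G) := ⟨_, rfl⟩
  have hCL : C ≤ L := hC ▸ inf_le_left
  have hCy : C ≤ Subgroup.centralizer ({y} : Set G) := hC ▸ inf_le_right
  haveI hCs : Group.IsSolvable ↥C :=
    BG7.isSolvable_of_ne_top hG (ne_top_of_le_ne_top hL.1 hCL)
  have hXC : Subgroup.zpowers x ≤ C :=
    Subgroup.zpowers_le.mpr (hC ▸ Subgroup.mem_inf.mpr ⟨hxL, hxy⟩)
  have hXsC : Subgroup.zpowers xs ≤ C :=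
    Subgroup.zpowers_le.mpr (hC ▸ Subgroup.mem_inf.mpr ⟨hxsL, hxsy⟩)
  obtain ⟨J₀, hJ₀⟩ := BGK.exists_isPiHallOf C hCs {r | r = t ∨ r = ts}
  obtain ⟨c₁, hc₁, hXJ⟩ := BGK.exists_cj_le_of_hall hCs hJ₀ hXC (by
    intro r hr hrd
    rw [hXc] at hrd
    exact Or.inl ((Nat.prime_dvd_prime_iff_eq hr ht).mp hrd))
  have hJ : IsPiHallOf {r | r = t ∨ r = ts} (BG7.cj c₁ J₀) C := BGK.isPiHallOf_cj hJ₀ hc₁
  obtain ⟨J, hJdef⟩ : ∃ J : Subgroup G, J = BG7.cj c₁ J₀ := ⟨_, rfl⟩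
  rw [← hJdef] at hJ hXJ
  obtain ⟨c₂, hc₂, hXsJ'⟩ := BGK.exists_cj_le_of_hall hCs hJ hXsC (by
    intro r hr hrd
    rw [hXsc] at hrd
    exact Or.inr ((Nat.prime_dvd_prime_iff_eq hr hts).mp hrd))
  have hXsJ : BG7.cj c₂⁻¹ (Subgroup.zpowers xs) ≤ J := by
    have := BG7.cj_mono (k := c₂⁻¹) hXsJ'
    rwa [BG7.cj_inv_cj] at this
  have hc₂y : c₂ ∈ Subgroup.centralizer ({y} : Set G) := hCy hc₂
  have hJL : J ≤ L := hJ.1.trans hCL
  obtain ⟨E, hE, hJE⟩ := BGG.exists_compl_ge hG hL hJL (by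
    intro r hr hrd
    rcases hJ.2.1 r hr hrd with h | h
    · rw [h]; exact htσL
    · rw [h]; exact htsσL)
  haveI hEs : Group.IsSolvable ↥E :=
    BG7.isSolvable_of_ne_top hG (ne_top_of_le_ne_top hL.1 hE.1)
  by_cases ht3 : t ∈ tau3 L
  · -- `E ≤ N_G(⟨x⟩) ≤ M`
    left
    have hEN := compl_le_normalizer_of_tau3 hG hL hE ht3 (hXJ.trans hJE) hXc
    exact ⟨c₂⁻¹, Subgroup.inv_mem _ hc₂y, hXsJ.trans (hJE.trans (hEN.trans hNX))⟩
  by_cases hts3 : ts ∈ tau3 L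
  · right
    have hc : Nat.card ↥(BG7.cj c₂⁻¹ (Subgroup.zpowers xs)) = ts := by rw [BG7.card_cj, hXsc]
    have hEN := compl_le_normalizer_of_tau3 hG hL hE hts3 (hXsJ.trans hJE) hc
    rw [← BT.cj_normalizer] at hEN
    have h1 : Subgroup.zpowers x ≤ BG7.cj c₂⁻¹ Ms :=
      hXJ.trans (hJE.trans (hEN.trans (BG7.cj_mono hNXs)))
    refine ⟨c₂, hc₂y, ?_⟩
    have := BG7.cj_mono (k := c₂) h1
    rwa [BG9.cj_cj_inv] at this
  · -- both in `τ₁(L)`: `J` is abelian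
    left
    have ht1 : t ∈ tau1 L := htτ.resolve_right ht3
    have hts1 : ts ∈ tau1 L := htsτ.resolve_right hts3
    obtain ⟨E₁', hE₁'⟩ := BGK.exists_isPiHallOf E hEs (tau1 L)
    obtain ⟨m, hm, hJE₁⟩ := BGK.exists_cj_le_of_hall hEs hE₁' hJE (by
      intro r hr hrd
      rcases hJ.2.1 r hr hrd with h | h
      · rw [h]; exact ht1
      · rw [h]; exact hts1)
    have hE₁ : IsPiHallOf (tau1 L) (BG7.cj m E₁') E := BGK.isPiHallOf_cj hE₁' hm
    haveI hcyc : IsCyclic ↥(BG7.cj m E₁') := (BGB.s1415 hG L hL E hE).2.1 _ hE₁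
    refine ⟨c₂⁻¹, Subgroup.inv_mem _ hc₂y, ?_⟩
    intro z hz
    have hzJ : z ∈ BG7.cj m E₁' := hJE₁ (hXsJ hz)
    have hxJ : x ∈ BG7.cj m E₁' := hJE₁ (hXJ (Subgroup.mem_zpowers x))
    have hcomm : x * z = z * x := by
      have := BGE.comm_of_isCyclic (⟨x, hxJ⟩ : ↥(BG7.cj m E₁')) ⟨z, hzJ⟩
      exact congrArg Subtype.val this
    apply hXu.1
    rw [BG14.centralizer_zpowers_eq]
    exact BGE.mem_centralizer_singleton.mpr hcomm

end Cfsg.Agent.Lib.Helper3.BG15
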