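import Mathlib
import Cfsg.Agent.Lib.Helper3.BG15c

set_option autoImplicit false
set_option maxHeartbeats 4000000
set_option linter.unusedVariables false
set_option linter.unusedSectionVars false
set_option linter.style.longLine false
set_option linter.unusedSimpArgs false
set_option linter.deprecated false
set_option linter.style.haveILetI false

/-!
# The σ-partition (B&G 13.9) without S1430: step (7) and the assembly

The four tools of helper1 ((C3), Lemma X, `compl_struct`, `r5_dichotomy`) are taken as hypotheses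
(`C3Hyp`, `LemmaXHyp`, `ComplStructHyp`, `DichHyp`).
-/

open scoped commutatorElement Pointwise
universe u
namespace Cfsg.Agent.Lib.Helper3.BG15

open Cfsg Cfsg.Agent.Lib.Helper1 Cfsg.Agent.Lib.Helper7 Cfsg.Agent.Lib.Helper7.BGRows

variable {G : Type u} [Group G] [Finite G]

/-- (C3): `X ≤ M` of prime order `p ∈ κ(M)`, `N_G(X) ≤ H` maximal: `p ∈ σ(H)`. -/
def C3Hyp (G : Type u) [Group G] [Finite G] : Prop :=
  ∀ (hG : IsMinSimpleOddOrder G) (M H X : Subgroup G) (p : ℕ), IsCoatom M → IsCoatom H →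
    p.Prime → p ∈ kappa M → X ≤ M → Nat.card X = p → Subgroup.normalizer (X : Set G) ≤ H →
    p ∈ sigma H

/-- Lemma X -/
def LemmaXHyp (G : Type u) [Group G] [Finite G] : Prop :=
  ∀ (hG : IsMinSimpleOddOrder G) (H T R₀ : Subgroup G) (p : ℕ) (x : G), IsCoatom H → p.Prime →
    p ∉ sigma H → PRankLE p 1 ↥H → T ≤ H → IsPGroup p T → R₀ ≤ sigmaCore H → x ∈ T → x ≠ 1 →
    x ∈ Subgroup.centralizer (R₀ : Set G) → T ≤ Subgroup.centralizer (R₀ : Set G)

/-- the structure of a complement when `τ₂(M) = ∅` -/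
def ComplStructHyp (G : Type u) [Group G] [Finite G] : Prop :=
  ∀ (hG : IsMinSimpleOddOrder G) (M E E₁ E₃ : Subgroup G), IsCoatom M →
    IsComplIn E (sigmaCore M) M → (∀ q : ℕ, q ∉ tau2 M) → IsPiHallOf (tau1 M) E₁ E →
    IsPiHallOf (tau3 M) E₃ E →
    IsCyclic ↥E₁ ∧ IsCyclic ↥E₃ ∧ E ≤ Subgroup.normalizer (E₃ : Set G) ∧ E₃ ≤ ⁅E, E⁆ ∧
      E₃ ⊔ E₁ = E ∧ E₃ ⊓ E₁ = ⊥ ∧ E₃ ⊓ Subgroup.centralizer (E₁ : Set G) = ⊥

/-- the R5 dichotomy -/
def DichHyp (G : Type u) [Group G] [Finite G] : Prop :=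
  ∀ (hG : IsMinSimpleOddOrder G) (M E E₁ E₃ : Subgroup G) (r : ℕ), IsCoatom M →
    IsComplIn E (sigmaCore M) M → r.Prime → r ∈ kappa M → r ∈ tau3 M →
    IsPiHallOf (tau1 M) E₁ E → IsPiHallOf (tau3 M) E₃ E →
    ((∀ P : Subgroup G, P ≤ E₁ → (Nat.card P).Prime → P ≤ Subgroup.centralizer (E₃ : Set G)) ∧
        sigmaCore M ⊓ Subgroup.centralizer (E₃ : Set G) =
          sigmaCore M ⊓ Subgroup.centralizer (E₁ : Set G)) ∨
      ((Nat.card E₁).Prime ∧
        ¬ sigmaCore M ⊓ Subgroup.centralizer (E₁ : Set G) ≤ Subgroup.centralizer (E₃ : Set G))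

/-- Step (7): a subgroup `Y` of prime order `t* ∈ β(M*)` of `C_M(y)`, `y` of prime order `p ∈ τ₁(M)`,
is impossible. -/
theorem sp_step7 (hX : LemmaXHyp G) (hCS : ComplStructHyp G) (hD : DichHyp G)
    (hG : IsMinSimpleOddOrder G) {M Ms : Subgroup G} (hM : IsCoatom M) (hMs : IsCoatom Ms)
    (hnc : ∀ g : G, Ms ≠ BG7.cj g M) {q : ℕ} [hq : Fact q.Prime] (hqM : q ∈ sigma M)
    (hqMs : q ∈ sigma Ms) {S : Subgroup G} (hS : BG8.IsMaxP q S ⊤) (hSM : S ≤ M)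
    (hSMs : S ≤ Ms) {p : ℕ} {y : G} (hyo : orderOf y = p) (hyM : y ∈ M) (hpτ : p ∈ tau1 M)
    {Y : Subgroup G} (hYM : Y ≤ M) (hYy : Y ≤ Subgroup.centralizer ({y} : Set G)) {ts : ℕ}
    (hYc : Nat.card Y = ts) (htsβ : ts ∈ beta Ms) : False := by
  obtain ⟨hp1M, hτ2, hqβ, hS1, hNS_M, E, hE, hES, -, hfact⟩ :=
    sp_setup hG hM hMs hnc hqM hqMs hS hSM hSMs
  have hSMs' : BG8.IsMaxP q S Ms := hS.mono hSMs le_top
  have hSM' : BG8.IsMaxP q S M := hS.mono hSM le_top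
  have hNS_Ms := (BT.sigma_sylow_le_commutator hG hMs hqMs hSMs').2.2
  have hSσ : BG8.IsMaxP q S (sigmaCore M) := BGE.isMaxP_sigmaCore_of hG hM hqM hSM'
  have hp : p.Prime := hpτ.1
  haveI : Fact p.Prime := ⟨hp⟩
  have hts : ts.Prime := htsβ.1.1
  haveI : Fact ts.Prime := ⟨hts⟩
  have htsσM : ts ∉ sigma M := fun h =>
    Helper2.BGH.sigma_alpha_disjoint hG hM hMs hnc h htsβ.1
  have htsσMs : ts ∈ sigma Ms := BT.alpha_subset_sigma hG hMs htsβ.1
  have htsM : ts ∣ Nat.card M := by rw [← hYc]; exact Subgroup.card_dvd_of_le hYM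
  haveI hEs : Group.IsSolvable ↥E :=
    BG7.isSolvable_of_ne_top hG (ne_top_of_le_ne_top hM.1 hE.1)
  obtain ⟨hPc, hPp, hy1⟩ := BGK.zpowers_facts hp hyo
  -- `Y ⊔ ⟨y⟩` is conjugate into `E`
  have hPY : Subgroup.zpowers y ≤ Subgroup.normalizer (Y : Set G) := by
    rw [Subgroup.zpowers_le]
    apply BGK.le_normalizer_of_comm (A := Y) (B := Subgroup.zpowers y) _ (Subgroup.mem_zpowers y)
    intro a ha b hb
    have h1 : a ∈ Subgroup.centralizer ((Subgroup.zpowers y : Subgroup G) : Set G) := by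
      rw [BG14.centralizer_zpowers_eq]; exact hYy ha
    exact (Subgroup.mem_centralizer_iff.mp h1 b hb).symm
  have hYPM : Y ⊔ Subgroup.zpowers y ≤ M := sup_le hYM (Subgroup.zpowers_le.mpr hyM)
  have hcopYP : (Nat.card ↥(Y ⊔ Subgroup.zpowers y : Subgroup G)).Coprime
      (Nat.card (sigmaCore M)) := by
    apply BGD.coprime_sigmaCore hG hM
    intro r hr hrd
    rcases BGG.prime_dvd_card_sup' hPY hr hrd with h | h
    · rw [hPc] at h
      rw [(Nat.prime_dvd_prime_iff_eq hr hp).mp h]; exact hpτ.2.1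
    · rw [hYc] at h
      rw [(Nat.prime_dvd_prime_iff_eq hr hts).mp h]; exact htsσM
  obtain ⟨m, hm, hYPE⟩ := BGD.exists_cj_le hG hM hE hYPM hcopYP
  have htsE : ts ∣ Nat.card E := by
    have h1 : Nat.card Y ∣ Nat.card (BG7.cj m E) :=
      Subgroup.card_dvd_of_le (le_sup_left.trans hYPE)
    rwa [BG7.card_cj, hYc] at h1
  -- an element `y0 ∈ E` of order `t*`
  obtain ⟨y0, hy0⟩ := exists_prime_orderOf_dvd_card' ts htsE
  have hy0o : orderOf (y0 : G) = ts := by rw [Subgroup.orderOf_coe]; exact hy0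
  obtain ⟨hX0c, hX0p, hy01⟩ := BGK.zpowers_facts hts hy0o
  have hX0E : Subgroup.zpowers (y0 : G) ≤ E := Subgroup.zpowers_le.mpr y0.2
  have hX0M : Subgroup.zpowers (y0 : G) ≤ M := hX0E.trans hE.1
  have hX0Ms : Subgroup.zpowers (y0 : G) ≤ Ms := hX0E.trans (hES.trans hNS_Ms)
  have hcomm := BG13.comm_eq_bot_gen hG hM hMs hnc htsσM hX0M hX0Ms hX0p (Or.inl htsσMs)
  have hSle : S ≤ S ⊓ Subgroup.centralizer ({(y0 : G)} : Set G) := by
    intro s hs
    refine Subgroup.mem_inf.mpr ⟨hs, BGE.mem_centralizer_singleton.mpr ?_⟩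
    exact (BGK.commute_of_commutator_eq_bot hcomm (Subgroup.mem_inf.mpr ⟨hSσ.1 hs, hSMs hs⟩)
      (Subgroup.mem_zpowers (y0 : G))).symm
  have hts3 : ts ∈ tau3 M := by
    rcases tau_cases4 hG hM hts htsM with h | h | h | h
    · exact absurd h htsσM
    · exfalso
      have h1 := (hfact (y0 : G) y0.2 (hy0o.symm ▸ h)).1
      exact hS1 (le_bot_iff.mp (h1 ▸ hSle))
    · exact absurd h (hτ2 ts)
    · exact h
  have htsκ : ts ∈ kappa M := hp1M ts hts htsM htsσM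
  obtain ⟨E₁, hE₁⟩ := BGK.exists_isPiHallOf E hEs (tau1 M)
  obtain ⟨E₃, hE₃⟩ := BGK.exists_isPiHallOf E hEs (tau3 M)
  obtain ⟨hcyc1, hcyc3, hnE₃, -, -, -, hcent⟩ := hCS hG M E E₁ E₃ hM hE hτ2 hE₁ hE₃
  have hτ3sub : ∀ {W : Subgroup G}, W ≤ E → Nat.card W = ts → W ≤ E₃ := by
    intro W hWE hWc
    apply le_of_normal_hall hEs hE₃ hnE₃ hWE
    intro r hr hrd
    rw [hWc] at hrd
    rw [(Nat.prime_dvd_prime_iff_eq hr hts).mp hrd]; exact hts3
  have hX0E₃ : Subgroup.zpowers (y0 : G) ≤ E₃ := hτ3sub hX0E hX0c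
  have hX0σ : Subgroup.zpowers (y0 : G) ≤ sigmaCore Ms :=
    BGE.qsub_le_sigmaCore hG hMs htsσMs hX0p hX0Ms
  rcases hD hG M E E₁ E₃ ts hM hE hts htsκ hts3 hE₁ hE₃ with ⟨hbr1, -⟩ | ⟨hprime, -⟩
  · -- first branch: `E₁` centralizes `X0`
    have hE₁X0 : E₁ ≤ Subgroup.centralizer ((Subgroup.zpowers (y0 : G) : Subgroup G) : Set G) := by
      apply BG14.le_of_forall_prime_not_dvd_relIndex
      intro s hs hsd
      haveI : Fact s.Prime := ⟨hs⟩
      have hsE₁ : s ∣ Nat.card E₁ := hsd.trans (Subgroup.relIndex_dvd_card _ _)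
      have hsτ : s ∈ tau1 M := hE₁.2.1 s hs hsE₁
      obtain ⟨z, hz⟩ := exists_prime_orderOf_dvd_card' s hsE₁
      have hzo : orderOf (z : G) = s := by rw [Subgroup.orderOf_coe]; exact hz
      obtain ⟨hZc, hZp, hz1⟩ := BGK.zpowers_facts hs hzo
      have hZE₁ : Subgroup.zpowers (z : G) ≤ E₁ := Subgroup.zpowers_le.mpr z.2
      obtain ⟨T, hT, hZT⟩ := BT.exists_isMaxP_ge hZp hZE₁
      have hsτs : s ∈ tau1 Ms := by
        have := (hfact (z : G) (hE₁.1 z.2) (hzo.symm ▸ hsτ)).2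
        rwa [hzo] at this
      have hzX0 : (z : G) ∈ Subgroup.centralizer
          ((Subgroup.zpowers (y0 : G) : Subgroup G) : Set G) := by
        have h1 := hbr1 _ hZE₁ (by rw [hZc]; exact hs)
        exact Subgroup.centralizer_le hX0E₃ (h1 (Subgroup.mem_zpowers (z : G)))
      have hTMs : T ≤ Ms := hT.1.trans (hE₁.1.trans (hES.trans hNS_Ms))
      have hTX0 := hX hG Ms T (Subgroup.zpowers (y0 : G)) s (z : G) hMs hs hsτs.2.1
        hsτs.2.2.2.2 hTMs hT.2.1 hX0σ (hZT (Subgroup.mem_zpowers (z : G))) hz1 hzX0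
      have h1 : T ≤ E₁ ⊓ Subgroup.centralizer
          ((Subgroup.zpowers (y0 : G) : Subgroup G) : Set G) := le_inf hT.1 hTX0
      have h2 := Subgroup.relIndex_mul_relIndex _ _ E₁ h1 inf_le_left
      exact BG13.not_dvd_relIndex_of_isMaxP hT (h2 ▸ Dvd.dvd.mul_left hsd _)
    have hmem : (y0 : G) ∈ E₃ ⊓ Subgroup.centralizer (E₁ : Set G) := by
      refine Subgroup.mem_inf.mpr ⟨hX0E₃ (Subgroup.mem_zpowers _), ?_⟩
      rw [Subgroup.mem_centralizer_iff]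
      intro e he
      have h1 := hE₁X0 he
      rw [BG14.centralizer_zpowers_eq] at h1
      exact (BGE.mem_centralizer_singleton.mp h1).symm
    rw [hcent, Subgroup.mem_bot] at hmem
    exact hy01 hmem
  · -- second branch: `|E₁|` is prime
    have hyE' : m⁻¹ * y * m ∈ E :=
      BG7.mem_cj.mp (hYPE (Subgroup.mem_sup_right (Subgroup.mem_zpowers y)))
    obtain ⟨y', hy'def⟩ : ∃ y' : G, y' = m⁻¹ * y * m := ⟨_, rfl⟩
    rw [← hy'def] at hyE'
    have hy'o : orderOf y' = p := by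
      rw [hy'def, ← hyo]
      have : m⁻¹ * y * m = (MulAut.conj m⁻¹) y := by simp [MulAut.conj_apply]
      rw [this, MulEquiv.orderOf_eq]
    obtain ⟨hP'c, hP'p, hy'1⟩ := BGK.zpowers_facts hp hy'o
    obtain ⟨e, he, hP'E₁⟩ := BGK.exists_cj_le_of_hall hEs hE₁
      (Subgroup.zpowers_le.mpr hyE') (by
        intro r hr hrd
        rw [hP'c] at hrd
        rw [(Nat.prime_dvd_prime_iff_eq hr hp).mp hrd]; exact hpτ)
    have hE₁' : IsPiHallOf (tau1 M) (BG7.cj e E₁) E := BGK.isPiHallOf_cj hE₁ he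
    have hcardE₁' : Nat.card ↥(BG7.cj e E₁) = Nat.card E₁ := BG7.card_cj e E₁
    obtain ⟨-, -, -, -, -, -, hcent'⟩ := hCS hG M E (BG7.cj e E₁) E₃ hM hE hτ2 hE₁' hE₃
    haveI : Fact (Nat.card E₁).Prime := ⟨hprime⟩
    -- a nontrivial element of `Y`
    have hY1 : Y ≠ ⊥ := by
      intro h
      rw [h, Subgroup.card_bot] at hYc
      exact hts.one_lt.ne hYc
    obtain ⟨w, hwY, hwo⟩ := BG14.exists_prime_order_mem hY1
    have hw1 : w ≠ 1 := by
      rintro rfl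
      rw [orderOf_one] at hwo
      exact Nat.not_prime_one hwo
    have hwots : orderOf w = ts := by
      have h1 : orderOf w ∣ ts := by
        have h2 := orderOf_dvd_natCard (⟨w, hwY⟩ : Y)
        rw [Subgroup.orderOf_mk, hYc] at h2
        exact h2
      exact (Nat.prime_dvd_prime_iff_eq hwo hts).mp h1
    have hwE' : m⁻¹ * w * m ∈ E := BG7.mem_cj.mp (hYPE (Subgroup.mem_sup_left hwY))
    obtain ⟨w', hw'def⟩ : ∃ w' : G, w' = m⁻¹ * w * m := ⟨_, rfl⟩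
    rw [← hw'def] at hwE'
    have hw'o : orderOf w' = ts := by
      rw [hw'def, ← hwots]
      have : m⁻¹ * w * m = (MulAut.conj m⁻¹) w := by simp [MulAut.conj_apply]
      rw [this, MulEquiv.orderOf_eq]
    obtain ⟨hW'c, hW'p, hw'1⟩ := BGK.zpowers_facts hts hw'o
    have hw'E₃ : w' ∈ E₃ :=
      hτ3sub (Subgroup.zpowers_le.mpr hwE') hW'c (Subgroup.mem_zpowers w')
    have hwy : w * y = y * w :=
      (BGE.mem_centralizer_singleton.mp (hYy hwY)).symm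
    have hw'y' : w' * y' = y' * w' := by
      rw [hw'def, hy'def]
      calc m⁻¹ * w * m * (m⁻¹ * y * m) = m⁻¹ * (w * y) * m := by group
        _ = m⁻¹ * (y * w) * m := by rw [hwy]
        _ = m⁻¹ * y * m * (m⁻¹ * w * m) := by group
    have hy'E₁' : y' ∈ BG7.cj e E₁ := hP'E₁ (Subgroup.mem_zpowers y')
    have hmem : w' ∈ E₃ ⊓ Subgroup.centralizer ((BG7.cj e E₁ : Subgroup G) : Set G) := by
      refine Subgroup.mem_inf.mpr ⟨hw'E₃, ?_⟩
      rw [Subgroup.mem_centralizer_iff]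
      intro b hb
      have hb' : b ∈ Subgroup.zpowers y' :=
        BGE.Exc.mem_zpowers_of_card_prime hcardE₁' hy'E₁' hy'1 hb
      obtain ⟨k, rfl⟩ := Subgroup.mem_zpowers_iff.mp hb'
      exact ((Commute.zpow_right (show Commute w' y' from hw'y') k).eq).symm
    rw [hcent', Subgroup.mem_bot] at hmem
    exact hw'1 hmem

/-- a conjugate, by an element of `C_G(y)`, of a cyclic subgroup centralizing `y` centralizes `y` -/
theorem cj_zpowers_le_centralizer {y c w : G} (hc : c ∈ Subgroup.centralizer ({y} : Set G))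
    (hw : w ∈ Subgroup.centralizer ({y} : Set G)) :
    BG7.cj c (Subgroup.zpowers w) ≤ Subgroup.centralizer ({y} : Set G) := by
  intro z hz
  have h1 : c⁻¹ * z * c ∈ Subgroup.zpowers w := BG7.mem_cj.mp hz
  have h2 : c⁻¹ * z * c ∈ Subgroup.centralizer ({y} : Set G) :=
    (Subgroup.zpowers_le.mpr hw) h1
  have h3 : z = c * (c⁻¹ * z * c) * c⁻¹ := by group
  rw [h3]
  exact Subgroup.mul_mem _ (Subgroup.mul_mem _ hc h2) (Subgroup.inv_mem _ hc)

/-- the `σ`-partition for two maximal subgroups sharing a Sylow `q`-subgroup of `G` (modulo the four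
tools) -/
theorem sigma_partition_aux (hC3 : C3Hyp G) (hX : LemmaXHyp G) (hCS : ComplStructHyp G)
    (hD : DichHyp G) (hG : IsMinSimpleOddOrder G) {M Ms : Subgroup G} (hM : IsCoatom M)
    (hMs : IsCoatom Ms) (hnc : ∀ g : G, Ms ≠ BG7.cj g M) {q : ℕ} [hq : Fact q.Prime]
    (hqM : q ∈ sigma M) (hqMs : q ∈ sigma Ms) {S : Subgroup G} (hS : BG8.IsMaxP q S ⊤)
    (hSM : S ≤ M) (hSMs : S ≤ Ms) : False := by
  have hnc' := BG13.nonconj_symm hnc
  obtain ⟨hp1M, hτ2, hqβ, hS1, hNS_M, E, hE, hES, ⟨y, hyE, hyτ⟩, hfact⟩ :=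
    sp_setup hG hM hMs hnc hqM hqMs hS hSM hSMs
  obtain ⟨hfpf, hyτs⟩ := hfact y hyE hyτ
  obtain ⟨p, hpdef⟩ : ∃ p : ℕ, p = orderOf y := ⟨_, rfl⟩
  rw [← hpdef] at hyτ hyτs
  have hp : p.Prime := hyτ.1
  haveI : Fact p.Prime := ⟨hp⟩
  have hyo : orderOf y = p := hpdef.symm
  have hSMs' : BG8.IsMaxP q S Ms := hS.mono hSMs le_top
  have hNS_Ms := (BT.sigma_sylow_le_commutator hG hMs hqMs hSMs').2.2
  have hyM : y ∈ M := hE.1 hyE
  have hyN : y ∈ Subgroup.normalizer (S : Set G) := hES hyE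
  have hyMs : y ∈ Ms := hNS_Ms hyN
  obtain ⟨x, hxB, hxy, hxo⟩ := exists_beta_fixed hG hM hMs hnc hqM hqMs hS hSM hSMs hp hyo hyM
    hyN hyτ.2.1 hfpf
  obtain ⟨xs, hxsB, hxsy, hxso⟩ := exists_beta_fixed hG hMs hM hnc' hqMs hqM hS hSMs hSM hp hyo
    hyMs hyN hyτs.2.1 hfpf
  have hxβ : orderOf x ∈ beta M := by
    apply (Cfsg.Agent.S1414.result hG M hM).1.2.1 _ hxo
    have := orderOf_dvd_natCard (⟨x, hxB⟩ : ↥(piCoreOf (beta M) M))
    rwa [Subgroup.orderOf_mk] at this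
  have hxsβ : orderOf xs ∈ beta Ms := by
    apply (Cfsg.Agent.S1414.result hG Ms hMs).1.2.1 _ hxso
    have := orderOf_dvd_natCard (⟨xs, hxsB⟩ : ↥(piCoreOf (beta Ms) Ms))
    rwa [Subgroup.orderOf_mk] at this
  have hxM : x ∈ M := BG7.piCoreOf_le (beta M) M hxB
  have hxsMs : xs ∈ Ms := BG7.piCoreOf_le (beta Ms) Ms hxsB
  -- a maximal subgroup over `N_G(⟨y⟩)`
  obtain ⟨hPc, hPp, hy1⟩ := BGK.zpowers_facts hp hyo
  have hPM : Subgroup.zpowers y ≤ M := Subgroup.zpowers_le.mpr hyM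
  have hP1 : Subgroup.zpowers y ≠ ⊥ := by
    intro h
    have : y ∈ (⊥ : Subgroup G) := h ▸ Subgroup.mem_zpowers y
    exact hy1 (Subgroup.mem_bot.mp this)
  have hPtop : Subgroup.zpowers y ≠ ⊤ := ne_top_of_le_ne_top hM.1 hPM
  have hNtop := BG7.normalizer_ne_top hG hP1 hPtop
  obtain ⟨L, hL, hNP⟩ := (eq_top_or_exists_le_coatom
    (Subgroup.normalizer ((Subgroup.zpowers y : Subgroup G) : Set G))).resolve_left hNtop
  have hpM : p ∣ Nat.card M := by rw [← hPc]; exact Subgroup.card_dvd_of_le hPM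
  have hpκ : p ∈ kappa M := hp1M p hp hpM hyτ.2.1
  have hpL : p ∈ sigma L := hC3 hG M L (Subgroup.zpowers y) p hM hL hp hpκ hPM hPc hNP
  rcases cross hG hM hMs hL hp hyo hNP hpL hyτ.2.1 hyτs.2.1 hxM hxβ hxy hxsMs hxsβ hxsy with
    ⟨c, hc, hle⟩ | ⟨c, hc, hle⟩
  · exact sp_step7 hX hCS hD hG hM hMs hnc hqM hqMs hS hSM hSMs hyo hyM hyτ hle
      (cj_zpowers_le_centralizer hc hxsy) (by rw [BG7.card_cj, Nat.card_zpowers]) hxsβ
  · exact sp_step7 hX hCS hD hG hMs hM hnc' hqMs hqM hS hSMs hSM hyo hyMs hyτs hle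
      (cj_zpowers_le_centralizer hc hxy) (by rw [BG7.card_cj, Nat.card_zpowers]) hxβ

/-- **σ-partition** (B&G 13.9): non-conjugate maximal subgroups have disjoint `σ`-sets (modulo the four
tools; no Row1430) -/
theorem sigma_partition_of_tools (hC3 : C3Hyp G) (hX : LemmaXHyp G) (hCS : ComplStructHyp G)
    (hD : DichHyp G) (hG : IsMinSimpleOddOrder G) {M Ms : Subgroup G} (hM : IsCoatom M)
    (hMs : IsCoatom Ms) (hnc : ∀ g : G, Ms ≠ BG7.cj g M) {q : ℕ} (hqM : q ∈ sigma M)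
    (hqMs : q ∈ sigma Ms) : False := by
  haveI : Fact q.Prime := ⟨hqM.1⟩
  obtain ⟨S, hS, -⟩ := BT.exists_isMaxP_ge (p := q) (Y := ⊥) (H := M) IsPGroup.of_bot bot_le
  obtain ⟨S', hS', -⟩ := BT.exists_isMaxP_ge (p := q) (Y := ⊥) (H := Ms) IsPGroup.of_bot bot_le
  have hStop := (BT.sigma_sylow_le_commutator hG hM hqM hS).2.1
  have hS'top := (BT.sigma_sylow_le_commutator hG hMs hqMs hS').2.1
  obtain ⟨n, -, hn⟩ := BT.isMaxP_conj hS'top hStop
  have hSle : S ≤ BG7.cj n Ms := hn ▸ BG7.cj_mono hS'.1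
  have hnc2 : ∀ g : G, BG7.cj n Ms ≠ BG7.cj g M := by
    intro g h
    apply hnc (n⁻¹ * g)
    rw [BG7.cj_mul, ← h, BG7.cj_inv_cj]
  exact sigma_partition_aux hC3 hX hCS hD hG hM (BG9.isCoatom_cj hMs n) hnc2 hqM
    (by rw [BGK.sigma_cj]; exact hqMs) hStop hS.1 hSle

end Cfsg.Agent.Lib.Helper3.BG15
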