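import Mathlib
import Cfsg.Agent.Lib.Helper3.BG15d
import Cfsg.Agent.Lib.Helper1.BGG9

set_option autoImplicit false
set_option maxHeartbeats 4000000
set_option linter.unusedVariables false
set_option linter.unusedSectionVars false
set_option linter.style.longLine false
set_option linter.unusedSimpArgs false
set_option linter.deprecated false
set_option linter.style.haveILetI false

/-!
# The CROSS argument with uniqueness hypotheses instead of `β`
-/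

open scoped commutatorElement Pointwise
universe u
namespace Cfsg.Agent.Lib.Helper3.BG15

open Cfsg Cfsg.Agent.Lib.Helper1 Cfsg.Agent.Lib.Helper7 Cfsg.Agent.Lib.Helper7.BGRows

variable {G : Type u} [Group G] [Finite G]

/-- one side of the CROSS argument, with the uniqueness of `M` over `C_G(x)` and `t ∉ σ(L)` as
hypotheses -/
theorem cross_side_gen (hG : IsMinSimpleOddOrder G) {M L : Subgroup G} (hM : IsCoatom M)
    (hL : IsCoatom L) {p : ℕ} (hp : p.Prime) {y : G} (hyo : orderOf y = p)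
    (hNP : Subgroup.normalizer ((Subgroup.zpowers y : Subgroup G) : Set G) ≤ L)
    (hpL : p ∈ sigma L) (hLM : L ≠ M) {x : G} (hxo : (orderOf x).Prime)
    (hxσ : orderOf x ∉ sigma L)
    (hXu : ∀ L' : Subgroup G, IsCoatom L' →
        Subgroup.centralizer ((Subgroup.zpowers x : Subgroup G) : Set G) ≤ L' → L' = M)
    (hxy : x ∈ Subgroup.centralizer ({y} : Set G)) :
    x ∈ L ∧ (orderOf x ∈ tau1 L ∨ orderOf x ∈ tau3 L) := by
  haveI : Fact p.Prime := ⟨hp⟩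
  obtain ⟨t, htdef⟩ : ∃ t : ℕ, t = orderOf x := ⟨_, rfl⟩
  rw [← htdef] at hxo hxσ ⊢
  have ht : t.Prime := hxo
  haveI : Fact t.Prime := ⟨ht⟩
  obtain ⟨hXc, hXp, hx1⟩ := BGK.zpowers_facts ht htdef.symm
  obtain ⟨hPc, hPp, hy1⟩ := BGK.zpowers_facts hp hyo
  have hxL : x ∈ L :=
    hNP (BGK.centralizer_singleton_le_normalizer (le_refl (Subgroup.zpowers y)) hxy)
  have hXL : Subgroup.zpowers x ≤ L := Subgroup.zpowers_le.mpr hxL
  have htL : t ∣ Nat.card L := by rw [← hXc]; exact Subgroup.card_dvd_of_le hXL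
  have hyL : y ∈ L := hNP (Subgroup.le_normalizer (Subgroup.mem_zpowers y))
  have hyσ : y ∈ sigmaCore L :=
    BGE.qsub_le_sigmaCore hG hL hpL hPp (Subgroup.zpowers_le.mpr hyL) (Subgroup.mem_zpowers y)
  refine ⟨hxL, ?_⟩
  rcases tau_cases4 hG hL ht htL with h | h | h | h
  · exact absurd h hxσ
  · exact Or.inl h
  · exfalso
    obtain ⟨E, hE, hXE⟩ := BGG.exists_compl_ge hG hL hXL (by
      intro r hr hrd
      rw [hXc] at hrd
      rw [(Nat.prime_dvd_prime_iff_eq hr ht).mp hrd]; exact hxσ)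
    obtain ⟨A, hAE, hAe, hA2⟩ := BGK.exists_sq_in_compl hG hL hE h
    obtain ⟨⟨-, h1⟩, -, h3⟩ := Cfsg.Agent.S1418.result hG L hL E hE t h A ⟨hAE, hAe, hA2⟩
    have hXA : Subgroup.zpowers x ≤ A := h1 _ hXE hXc
    have hne : sigmaCore L ⊓ Subgroup.centralizer ((Subgroup.zpowers x : Subgroup G) : Set G) ≠ ⊥ := by
      intro hbot
      have hmem : y ∈ sigmaCore L ⊓
          Subgroup.centralizer ((Subgroup.zpowers x : Subgroup G) : Set G) := by
        refine Subgroup.mem_inf.mpr ⟨hyσ, ?_⟩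
        rw [BG14.centralizer_zpowers_eq]
        exact BGE.mem_centralizer_singleton.mpr
          (BGE.mem_centralizer_singleton.mp hxy).symm
      rw [hbot, Subgroup.mem_bot] at hmem
      exact hy1 hmem
    have h4 := (h3 _ hXA hXc hne).1
    exact hLM (hXu L hL h4)
  · exact Or.inr h

/-- the CROSS argument (general form): `x`, `x*` of prime orders centralizing `y` of prime
order `p ∈ σ(L)`, `N_G(⟨y⟩) ≤ L`: a `C_G(y)`-conjugate of `x*` lies in `M`, or one of `x` lies in `M*`. -/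
theorem cross_gen (hG : IsMinSimpleOddOrder G) {M Ms L : Subgroup G} (hM : IsCoatom M)
    (hMs : IsCoatom Ms) (hL : IsCoatom L) {p : ℕ} (hp : p.Prime) {y : G} (hyo : orderOf y = p)
    (hNP : Subgroup.normalizer ((Subgroup.zpowers y : Subgroup G) : Set G) ≤ L)
    (hpL : p ∈ sigma L) (hLM : L ≠ M) (hLMs : L ≠ Ms) {x xs : G} (hxM : x ∈ M)
    (hxo : (orderOf x).Prime) (htσL : orderOf x ∉ sigma L)
    (hXu : Subgroup.centralizer ((Subgroup.zpowers x : Subgroup G) : Set G) ≤ M ∧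
      ∀ L' : Subgroup G, IsCoatom L' →
        Subgroup.centralizer ((Subgroup.zpowers x : Subgroup G) : Set G) ≤ L' → L' = M)
    (hxy : x ∈ Subgroup.centralizer ({y} : Set G))
    (hxsMs : xs ∈ Ms) (hxso : (orderOf xs).Prime) (htsσL : orderOf xs ∉ sigma L)
    (hXsu : Subgroup.centralizer ((Subgroup.zpowers xs : Subgroup G) : Set G) ≤ Ms ∧
      ∀ L' : Subgroup G, IsCoatom L' →
        Subgroup.centralizer ((Subgroup.zpowers xs : Subgroup G) : Set G) ≤ L' → L' = Ms)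
    (hxsy : xs ∈ Subgroup.centralizer ({y} : Set G)) :
    (∃ c ∈ Subgroup.centralizer ({y} : Set G), BG7.cj c (Subgroup.zpowers xs) ≤ M) ∨
      (∃ c ∈ Subgroup.centralizer ({y} : Set G), BG7.cj c (Subgroup.zpowers x) ≤ Ms) := by
  obtain ⟨hxL, htτ⟩ := cross_side_gen hG hM hL hp hyo hNP hpL hLM hxo htσL hXu.2 hxy
  obtain ⟨hxsL, htsτ⟩ := cross_side_gen hG hMs hL hp hyo hNP hpL hLMs hxso htsσL hXsu.2 hxsy
  obtain ⟨t, htdef⟩ : ∃ t : ℕ, t = orderOf x := ⟨_, rfl⟩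
  obtain ⟨ts, htsdef⟩ : ∃ ts : ℕ, ts = orderOf xs := ⟨_, rfl⟩
  rw [← htdef] at hxo htσL htτ
  rw [← htsdef] at hxso htsσL htsτ
  have ht : t.Prime := hxo
  have hts : ts.Prime := hxso
  obtain ⟨hXc, hXp, hx1⟩ := BGK.zpowers_facts ht htdef.symm
  obtain ⟨hXsc, hXsp, hxs1⟩ := BGK.zpowers_facts hts htsdef.symm
  have hX1 : Subgroup.zpowers x ≠ ⊥ := by
    intro h
    have : x ∈ (⊥ : Subgroup G) := h ▸ Subgroup.mem_zpowers x
    exact hx1 (Subgroup.mem_bot.mp this)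
  have hXs1 : Subgroup.zpowers xs ≠ ⊥ := by
    intro h
    have : xs ∈ (⊥ : Subgroup G) := h ▸ Subgroup.mem_zpowers xs
    exact hxs1 (Subgroup.mem_bot.mp this)
  have hNX : Subgroup.normalizer ((Subgroup.zpowers x : Subgroup G) : Set G) ≤ M :=
    normalizer_le_of_uniq hG hM hX1 (Subgroup.zpowers_le.mpr hxM) hXu.2
  have hNXs : Subgroup.normalizer ((Subgroup.zpowers xs : Subgroup G) : Set G) ≤ Ms :=
    normalizer_le_of_uniq hG hMs hXs1 (Subgroup.zpowers_le.mpr hxsMs) hXsu.2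
  -- Hall `{t, t*}`-subgroups of `C_L(y)`
  obtain ⟨C, hC⟩ : ∃ C : Subgroup G, C = L ⊓ Subgroup.centralizer ({y} : Set G) := ⟨_, rfl⟩
  have hCL : C ≤ L := hC ▸ inf_le_left
  have hCy : C ≤ Subgroup.centralizer ({y} : Set G) := hC ▸ inf_le_right
  haveI hCs : Group.IsSolvable ↥C :=
    BG7.isSolvable_of_ne_top hG (ne_top_of_le_ne_top hL.1 hCL)
  have hXC : Subgroup.zpowers x ≤ C :=
    Subgroup.zpowers_le.mpr (hC ▸ Subgroup.mem_inf.mpr ⟨hxL, hxy⟩)
  have hXsC : Subgroup.zpowers xs ≤ C :=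
    Subgroup.zpowers_le.mpr (hC ▸ Subgroup.mem_inf.mpr ⟨hxsL, hxsy⟩)
  obtain ⟨J₀, hJ₀⟩ := BGK.exists_isPiHallOf C hCs {r | r = t ∨ r = ts}
  obtain ⟨c₁, hc₁, hXJ⟩ := BGK.exists_cj_le_of_hall hCs hJ₀ hXC (by
    intro r hr hrd
    rw [hXc] at hrd
    exact Or.inl ((Nat.prime_dvd_prime_iff_eq hr ht).mp hrd))
  have hJ : IsPiHallOf {r | r = t ∨ r = ts} (BG7.cj c₁ J₀) C := BGK.isPiHallOf_cj hJ₀ hc₁
  obtain ⟨J, hJdef⟩ : ∃ J : Subgroup G, J = BG7.cj c₁ J₀ := ⟨_, rfl⟩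
  rw [← hJdef] at hJ hXJ
  obtain ⟨c₂, hc₂, hXsJ'⟩ := BGK.exists_cj_le_of_hall hCs hJ hXsC (by
    intro r hr hrd
    rw [hXsc] at hrd
    exact Or.inr ((Nat.prime_dvd_prime_iff_eq hr hts).mp hrd))
  have hXsJ : BG7.cj c₂⁻¹ (Subgroup.zpowers xs) ≤ J := by
    have := BG7.cj_mono (k := c₂⁻¹) hXsJ'
    rwa [BG7.cj_inv_cj] at this
  have hc₂y : c₂ ∈ Subgroup.centralizer ({y} : Set G) := hCy hc₂
  have hJL : J ≤ L := hJ.1.trans hCL
  obtain ⟨E, hE, hJE⟩ := BGG.exists_compl_ge hG hL hJL (by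
    intro r hr hrd
    rcases hJ.2.1 r hr hrd with h | h
    · rw [h]; exact htσL
    · rw [h]; exact htsσL)
  haveI hEs : Group.IsSolvable ↥E :=
    BG7.isSolvable_of_ne_top hG (ne_top_of_le_ne_top hL.1 hE.1)
  by_cases ht3 : t ∈ tau3 L
  · -- `E ≤ N_G(⟨x⟩) ≤ M`
    left
    have hEN := compl_le_normalizer_of_tau3 hG hL hE ht3 (hXJ.trans hJE) hXc
    exact ⟨c₂⁻¹, Subgroup.inv_mem _ hc₂y, hXsJ.trans (hJE.trans (hEN.trans hNX))⟩
  by_cases hts3 : ts ∈ tau3 L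
  · right
    have hc : Nat.card ↥(BG7.cj c₂⁻¹ (Subgroup.zpowers xs)) = ts := by rw [BG7.card_cj, hXsc]
    have hEN := compl_le_normalizer_of_tau3 hG hL hE hts3 (hXsJ.trans hJE) hc
    rw [← BT.cj_normalizer] at hEN
    have h1 : Subgroup.zpowers x ≤ BG7.cj c₂⁻¹ Ms :=
      hXJ.trans (hJE.trans (hEN.trans (BG7.cj_mono hNXs)))
    refine ⟨c₂, hc₂y, ?_⟩
    have := BG7.cj_mono (k := c₂) h1
    rwa [BG9.cj_cj_inv] at this
  · -- both in `τ₁(L)`: `J` is abelian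
    left
    have ht1 : t ∈ tau1 L := htτ.resolve_right ht3
    have hts1 : ts ∈ tau1 L := htsτ.resolve_right hts3
    obtain ⟨E₁', hE₁'⟩ := BGK.exists_isPiHallOf E hEs (tau1 L)
    obtain ⟨m, hm, hJE₁⟩ := BGK.exists_cj_le_of_hall hEs hE₁' hJE (by
      intro r hr hrd
      rcases hJ.2.1 r hr hrd with h | h
      · rw [h]; exact ht1
      · rw [h]; exact hts1)
    have hE₁ : IsPiHallOf (tau1 L) (BG7.cj m E₁') E := BGK.isPiHallOf_cj hE₁' hm
    haveI hcyc : IsCyclic ↥(BG7.cj m E₁') := (BGB.s1415 hG L hL E hE).2.1 _ hE₁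
    refine ⟨c₂⁻¹, Subgroup.inv_mem _ hc₂y, ?_⟩
    intro z hz
    have hzJ : z ∈ BG7.cj m E₁' := hJE₁ (hXsJ hz)
    have hxJ : x ∈ BG7.cj m E₁' := hJE₁ (hXJ (Subgroup.mem_zpowers x))
    have hcomm : x * z = z * x := by
      have := BGE.comm_of_isCyclic (⟨x, hxJ⟩ : ↥(BG7.cj m E₁')) ⟨z, hzJ⟩
      exact congrArg Subtype.val this
    apply hXu.1
    rw [BG14.centralizer_zpowers_eq]
    exact BGE.mem_centralizer_singleton.mpr hcomm

/-- (C3) is a theorem (helper1's `BGG.c3`) -/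
theorem c3Hyp : C3Hyp G := by
  intro hG M H X p hM hH hp hκ hXM hX hNX
  haveI : Fact p.Prime := ⟨hp⟩
  exact BGG.c3 hG hM hH hκ hXM hX hNX

/-- Lemma X is a theorem (helper1's `BGG.lemmaX`) -/
theorem lemmaXHyp : LemmaXHyp G := by
  intro hG H T R₀ p x hH hp hpσ hp1 hTH hT hR₀ hxT hx1 hxR
  haveI : Fact p.Prime := ⟨hp⟩
  exact BGG.lemmaX hG hH hpσ hp1 hTH hT hR₀ hxT hx1 hxR

/-- the σ-partition modulo `compl_struct` and `r5_dichotomy` only -/
theorem sigma_partition_of_two (hCS : ComplStructHyp G) (hD : DichHyp G)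
    (hG : IsMinSimpleOddOrder G) {M Ms : Subgroup G} (hM : IsCoatom M) (hMs : IsCoatom Ms)
    (hnc : ∀ g : G, Ms ≠ BG7.cj g M) {q : ℕ} (hqM : q ∈ sigma M) (hqMs : q ∈ sigma Ms) : False :=
  sigma_partition_of_tools c3Hyp lemmaXHyp hCS hD hG hM hMs hnc hqM hqMs

end Cfsg.Agent.Lib.Helper3.BG15
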