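import Mathlib
import Cfsg.Agent.Lib.Helper3.BG15e
import Cfsg.Agent.Lib.Lead.ComplIn

set_option autoImplicit false
set_option maxHeartbeats 4000000
set_option linter.unusedVariables false
set_option linter.unusedSectionVars false
set_option linter.style.longLine false
set_option linter.unusedSimpArgs false
set_option linter.deprecated false
set_option linter.style.haveILetI false

/-!
# S1430, case R5 (`κ(M) ∩ τ₃(M) ≠ ∅`): the assembly

From the structure of a complement `E = E₃ ⋊ E₁` and the prime action `C_{M_σ}(E₃) = C_{M_σ}(E₁)` we derive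
the conclusion of `S1430` for a Hall `κ(M)`-subgroup `K ≤ E` (then `K = E` and `U = 1`).
-/

open scoped commutatorElement Pointwise
universe u
namespace Cfsg.Agent.Lib.Helper3.BG15

open Cfsg Cfsg.Agent.Lib.Helper1 Cfsg.Agent.Lib.Helper7 Cfsg.Agent.Lib.Helper7.BGRows

variable {G : Type u} [Group G] [Finite G]

/-- the order of a conjugate -/
theorem orderOf_conj' (m y : G) : orderOf (m⁻¹ * y * m) = orderOf y := by
  have : m⁻¹ * y * m = (MulAut.conj m⁻¹) y := by simp [MulAut.conj_apply]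
  rw [this, MulEquiv.orderOf_eq]

/-- everything normalizes the trivial subgroup -/
theorem le_normalizer_bot (K : Subgroup G) :
    K ≤ Subgroup.normalizer (((⊥ : Subgroup G) : Subgroup G) : Set G) := by
  intro z _
  rw [Subgroup.mem_normalizer_iff]
  intro h
  simp only [Subgroup.mem_bot]
  constructor
  · rintro rfl; group
  · intro h1
    have : h = z⁻¹ * (z * h * z⁻¹) * z := by group
    rw [this, h1]; group

/-- **R5 assembly**. -/
theorem s1430_r5_assembly (hG : IsMinSimpleOddOrder G) {M : Subgroup G} (hM : IsCoatom M)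
    {E E₁ E₃ : Subgroup G} (hE : IsComplIn E (sigmaCore M) M) (hτ2 : ∀ q : ℕ, q ∉ tau2 M)
    (hE₁ : IsPiHallOf (tau1 M) E₁ E) (hE₃ : IsPiHallOf (tau3 M) E₃ E)
    (hcyc1 : IsCyclic ↥E₁) (hnE₃ : E ≤ Subgroup.normalizer (E₃ : Set G)) (hsup : E₃ ⊔ E₁ = E)
    (h3 : ∀ y ∈ E₃, y ≠ 1 → sigmaCore M ⊓ Subgroup.centralizer ({y} : Set G) =
      sigmaCore M ⊓ Subgroup.centralizer (E₃ : Set G))
    (hD3 : sigmaCore M ⊓ Subgroup.centralizer (E₃ : Set G) ≠ ⊥)
    (hbr1 : ∀ P : Subgroup G, P ≤ E₁ → (Nat.card P).Prime →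
      P ≤ Subgroup.centralizer (E₃ : Set G))
    (heq : sigmaCore M ⊓ Subgroup.centralizer (E₃ : Set G) =
      sigmaCore M ⊓ Subgroup.centralizer (E₁ : Set G))
    {K : Subgroup G} (hK : IsPiHallOf (kappa M) K M) (hKE : K ≤ E) :
    (∀ k ∈ K, k ≠ 1 → sigmaCore M ⊓ Subgroup.centralizer ({k} : Set G) =
        (sigmaCore M ⊓ Subgroup.centralizer (K : Set G))) ∧
      (∃ U : Subgroup G, IsMulCommutative U ∧
        IsPiHallOf {q | q.Prime ∧ q ∉ kappa M ∧ q ∉ sigma M} U M ∧
        K ≤ Subgroup.normalizer (U : Set G) ∧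
        ∀ k ∈ K, k ≠ 1 → U ⊓ Subgroup.centralizer ({k} : Set G) = ⊥) ∧
      ∀ X : Subgroup G, X ≤ K → (Nat.card X).Prime →
        M ⊓ Subgroup.normalizer (X : Set G) =
            K ⊔ (sigmaCore M ⊓ Subgroup.centralizer (K : Set G)) ∧
          M ⊓ Subgroup.normalizer (K : Set G) =
            K ⊔ (sigmaCore M ⊓ Subgroup.centralizer (K : Set G)) ∧
          ∀ Mstar : Subgroup G, IsCoatom Mstar → Subgroup.normalizer (X : Set G) ≤ Mstar →
            X ≤ sigmaCore Mstar := by
  classical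
  obtain ⟨D, hDdef⟩ : ∃ D : Subgroup G, D = sigmaCore M ⊓ Subgroup.centralizer (E : Set G) :=
    ⟨_, rfl⟩
  haveI hEs : Group.IsSolvable ↥E :=
    BG7.isSolvable_of_ne_top hG (ne_top_of_le_ne_top hM.1 hE.1)
  have hMσn := BGE.le_normalizer_sigmaCore M
  -- Step A: `C_{M_σ}(E₃) = C_{M_σ}(E)`
  have hDE : sigmaCore M ⊓ Subgroup.centralizer (E₃ : Set G) = D := by
    rw [hDdef]
    apply le_antisymm
    · refine le_inf inf_le_left ?_
      rw [Subgroup.le_centralizer_iff, ← hsup]
      refine sup_le ?_ ?_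
      · rw [← Subgroup.le_centralizer_iff]; exact inf_le_right
      · rw [← Subgroup.le_centralizer_iff, heq]; exact inf_le_right
    · have h13 : E₃ ≤ E := hsup ▸ le_sup_left
      exact inf_le_inf_left _ (Subgroup.centralizer_le h13)
  have hDcent : D ≤ Subgroup.centralizer (E : Set G) := hDdef ▸ inf_le_right
  have hDσ : D ≤ sigmaCore M := hDdef ▸ inf_le_left
  have hD1 : D ≠ ⊥ := hDE ▸ hD3
  have hDsing : ∀ y ∈ E, D ≤ sigmaCore M ⊓ Subgroup.centralizer ({y} : Set G) := by
    intro y hyE x hx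
    refine Subgroup.mem_inf.mpr ⟨hDσ hx, BGE.mem_centralizer_singleton.mpr ?_⟩
    exact Subgroup.mem_centralizer_iff.mp (hDcent hx) y hyE
  -- Step B: prime action
  have hprime : ∀ y ∈ E, (orderOf y).Prime →
      sigmaCore M ⊓ Subgroup.centralizer ({y} : Set G) = D := by
    intro y hyE hyo
    obtain ⟨s, hsdef⟩ : ∃ s : ℕ, s = orderOf y := ⟨_, rfl⟩
    rw [← hsdef] at hyo
    haveI : Fact s.Prime := ⟨hyo⟩
    obtain ⟨hYc, hYp, hy1⟩ := BGK.zpowers_facts hyo hsdef.symm
    have hYE : Subgroup.zpowers y ≤ E := Subgroup.zpowers_le.mpr hyE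
    have hsE : s ∣ Nat.card E := hYc ▸ Subgroup.card_dvd_of_le hYE
    have hprimes : ∀ {π : Set ℕ}, s ∈ π →
        ∀ r : ℕ, r.Prime → r ∣ Nat.card (Subgroup.zpowers y) → r ∈ π := by
      intro π hsπ r hr hrd
      rw [hYc] at hrd
      rw [(Nat.prime_dvd_prime_iff_eq hr hyo).mp hrd]; exact hsπ
    rcases Helper2.BGJ.tau_cases hG hM hE hyo hsE with (h | h) | h
    · obtain ⟨e, he, hle⟩ := BGK.exists_cj_le_of_hall hEs hE₁ hYE (hprimes h)
      obtain ⟨y₀, hy₀def⟩ : ∃ y₀ : G, y₀ = e⁻¹ * y * e := ⟨_, rfl⟩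
      have hy₀E₁ : y₀ ∈ E₁ := hy₀def ▸ BG7.mem_cj.mp (hle (Subgroup.mem_zpowers y))
      have hy₀o : orderOf y₀ = s := by rw [hy₀def, orderOf_conj', ← hsdef]
      have h1 := BG14.tau1_hall_centralizes hG hM hE h hy₀o hE₁ hy₀E₁
        (X := sigmaCore M ⊓ Subgroup.centralizer ({y₀} : Set G)) inf_le_left inf_le_right
      have h2 : sigmaCore M ⊓ Subgroup.centralizer ({y₀} : Set G) ≤ D := by
        rw [← hDE, heq]
        exact le_inf inf_le_left (Subgroup.le_centralizer_iff.mp h1)
      apply le_antisymm _ (hDsing y hyE)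
      intro x hx
      obtain ⟨hxσ, hxy⟩ := Subgroup.mem_inf.mp hx
      have hx' : e⁻¹ * x * e ∈ sigmaCore M ⊓ Subgroup.centralizer ({y₀} : Set G) := by
        refine Subgroup.mem_inf.mpr ⟨?_, BGE.mem_centralizer_singleton.mpr ?_⟩
        · have := (Subgroup.mem_normalizer_iff.mp (hMσn (M.inv_mem (hE.1 he))) x).mp hxσ
          simpa using this
        · have hyx : y * x = x * y := BGE.mem_centralizer_singleton.mp hxy
          rw [hy₀def]
          calc e⁻¹ * y * e * (e⁻¹ * x * e) = e⁻¹ * (y * x) * e := by group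
            _ = e⁻¹ * (x * y) * e := by rw [hyx]
            _ = e⁻¹ * x * e * (e⁻¹ * y * e) := by group
      have hx'D := h2 hx'
      have hcomm : e * (e⁻¹ * x * e) = (e⁻¹ * x * e) * e :=
        Subgroup.mem_centralizer_iff.mp (hDcent hx'D) e he
      have hxe : x = e⁻¹ * x * e := by
        have h5 : x * e = (e⁻¹ * x * e) * e := by
          rw [← hcomm]; group
        exact mul_right_cancel h5
      rw [hxe]; exact hx'D
    · have hyE₃ : y ∈ E₃ :=
        le_of_normal_hall hEs hE₃ hnE₃ hYE (hprimes h) (Subgroup.mem_zpowers y)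
      rw [h3 y hyE₃ hy1, hDE]
    · exact absurd h (hτ2 s)
  -- Step C: all primes of `E` are in `κ(M)`
  have hκ : ∀ s : ℕ, s.Prime → s ∣ Nat.card E → s ∈ kappa M := by
    intro s hs hsE
    haveI : Fact s.Prime := ⟨hs⟩
    obtain ⟨y, hy⟩ := exists_prime_orderOf_dvd_card' s hsE
    have hyo : orderOf (y : G) = s := by rw [Subgroup.orderOf_coe]; exact hy
    obtain ⟨hYc, hYp, hy1⟩ := BGK.zpowers_facts hs hyo
    have hsσ := BGD.compl_not_sigma hG hM hE s hs hsE
    have hr1 : PRankLE s 1 ↥M := by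
      rcases Helper2.BGJ.tau_cases hG hM hE hs hsE with (h | h) | h
      · exact h.2.2.2.2
      · exact h.2.2.2
      · exact absurd h (hτ2 s)
    apply BGG.mem_kappa_of_centralizer_ne_bot hG hM hsσ hr1
      (Subgroup.zpowers_le.mpr (hE.1 y.2)) hYc
    rw [BG14.centralizer_zpowers_eq, hprime (y : G) y.2 (hyo.symm ▸ hs)]
    exact hD1
  -- Step D: `E = K`
  have hEK : E = K := by
    symm
    apply Subgroup.eq_of_le_of_card_ge hKE
    have h1 : K.relIndex E = 1 := by
      apply Nat.eq_one_iff_not_exists_prime_dvd.mpr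
      intro s hs hsd
      have hsE : s ∣ Nat.card E := hsd.trans (Subgroup.relIndex_dvd_card _ _)
      have h2 : s ∣ K.relIndex M := by
        rw [← Subgroup.relIndex_mul_relIndex K E M hKE hE.1]
        exact Dvd.dvd.mul_right hsd _
      exact hK.2.2 s hs (hκ s hs hsE) h2
    have h2 := BGG.card_mul_relIndex' hKE
    rw [h1, mul_one] at h2
    exact h2.symm.le
  subst hEK
  rw [← hDdef]
  -- clause (1)
  have hc1 : ∀ k ∈ E, k ≠ 1 → sigmaCore M ⊓ Subgroup.centralizer ({k} : Set G) = D := by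
    intro k hk hk1
    apply le_antisymm _ (hDsing k hk)
    have hne : orderOf k ≠ 1 := fun h => hk1 (orderOf_eq_one_iff.mp h)
    obtain ⟨s, hs, hsd⟩ := Nat.exists_prime_and_dvd hne
    obtain ⟨j, hj⟩ := hsd
    have hpos : 0 < orderOf k := orderOf_pos k
    have hj0 : j ≠ 0 := by
      rintro rfl
      rw [mul_zero] at hj
      exact hpos.ne' hj
    have hko : orderOf (k ^ j) = s := by
      rw [orderOf_pow_of_dvd hj0 ⟨s, by rw [hj, mul_comm]⟩, hj]
      exact Nat.mul_div_cancel _ (Nat.pos_of_ne_zero hj0)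
    have h1 := hprime (k ^ j) (E.pow_mem hk j) (hko ▸ hs)
    rw [← h1]
    exact inf_le_inf_left _ (BGK.centralizer_singleton_le_of_mem_zpowers
      (Subgroup.npow_mem_zpowers k j))
  refine ⟨hc1, ⟨⊥, inferInstance, ⟨bot_le, ?_, ?_⟩, le_normalizer_bot _, fun k _ _ => bot_inf_eq _⟩, ?_⟩
  · intro r hr hrd
    rw [Subgroup.card_bot] at hrd
    exact absurd (Nat.dvd_one.mp hrd) hr.one_lt.ne'
  · rintro r hr ⟨-, hrκ, hrσ⟩ hrd
    rw [Subgroup.relIndex_bot_left] at hrd
    rw [Cfsg.Agent.Lib.Lead.ComplIn.card_eq hE] at hrd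
    rcases (Nat.Prime.dvd_mul hr).mp hrd with h | h
    · exact hrκ (hκ r hr h)
    · exact hrσ ((BGA.s1350 hG M hM).1.2.1 r hr h)
  · -- clause (3)
    intro X hXE hXc
    obtain ⟨s, hsdef⟩ : ∃ s : ℕ, s = Nat.card X := ⟨_, rfl⟩
    rw [← hsdef] at hXc
    haveI : Fact s.Prime := ⟨hXc⟩
    have hsE : s ∣ Nat.card E := hsdef ▸ Subgroup.card_dvd_of_le hXE
    obtain ⟨x, hxX, hxo, hXx⟩ := BGG.exists_generator_of_card_prime hsdef.symm
    have hxE : x ∈ E := hXE hxX
    have hx1 : x ≠ 1 := (BGK.zpowers_facts hXc hxo).2.2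
    have hprimes : ∀ {π : Set ℕ}, s ∈ π → ∀ r : ℕ, r.Prime → r ∣ Nat.card X → r ∈ π := by
      intro π hsπ r hr hrd
      rw [← hsdef] at hrd
      rw [(Nat.prime_dvd_prime_iff_eq hr hXc).mp hrd]; exact hsπ
    -- `E` normalizes `X`
    have hEX : E ≤ Subgroup.normalizer (X : Set G) := by
      rcases Helper2.BGJ.tau_cases hG hM hE hXc hsE with (h | h) | h
      · obtain ⟨e, he, hle⟩ := BGK.exists_cj_le_of_hall hEs hE₁ hXE (hprimes h)
        obtain ⟨x₀, hx₀def⟩ : ∃ x₀ : G, x₀ = e⁻¹ * x * e := ⟨_, rfl⟩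
        have hx₀E₁ : x₀ ∈ E₁ := hx₀def ▸ BG7.mem_cj.mp (hle hxX)
        have hx₀o : orderOf x₀ = s := by rw [hx₀def, orderOf_conj', hxo]
        have hX₀E₁ : Subgroup.zpowers x₀ ≤ E₁ := Subgroup.zpowers_le.mpr hx₀E₁
        have hX₀3 := hbr1 _ hX₀E₁ (by rw [Nat.card_zpowers, hx₀o]; exact hXc)
        have hx₀cent : x₀ ∈ Subgroup.centralizer (E : Set G) := by
          have h1 : E ≤ Subgroup.centralizer ({x₀} : Set G) := by
            rw [← hsup]
            refine sup_le ?_ ?_
            · intro z hz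
              refine BGE.mem_centralizer_singleton.mpr ?_
              exact (Subgroup.mem_centralizer_iff.mp (hX₀3 (Subgroup.mem_zpowers x₀)) z hz).symm
            · intro z hz
              refine BGE.mem_centralizer_singleton.mpr ?_
              have := BGE.comm_of_isCyclic (⟨x₀, hx₀E₁⟩ : ↥E₁) ⟨z, hz⟩
              exact congrArg Subtype.val this
          rw [Subgroup.mem_centralizer_iff]
          intro z hz
          exact (BGE.mem_centralizer_singleton.mp (h1 hz)).symm
        have hcomm : e * x₀ = x₀ * e := Subgroup.mem_centralizer_iff.mp hx₀cent e he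
        have hxx₀ : x = x₀ := by
          have h5 : x * e = x₀ * e := by
            rw [← hcomm, hx₀def]; group
          exact mul_right_cancel h5
        rw [hXx, hxx₀]
        intro z hz
        apply Subgroup.centralizer_le_normalizer
        rw [BG14.centralizer_zpowers_eq]
        refine BGE.mem_centralizer_singleton.mpr ?_
        exact (Subgroup.mem_centralizer_iff.mp hx₀cent z hz).symm
      · exact BGG.tau3_normal_compl hG hM hE h hXE hsdef.symm
      · exact absurd h (hτ2 s)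
    have hDX : D ≤ Subgroup.normalizer (X : Set G) := by
      intro d hd
      apply Subgroup.centralizer_le_normalizer
      exact Subgroup.centralizer_le hXE (hDcent hd)
    have hDN : D ≤ Subgroup.normalizer (E : Set G) := by
      intro d hd
      exact Subgroup.centralizer_le_normalizer _ (hDcent hd)
    have hDM : D ≤ M := hDσ.trans (BGE.sigmaCore_le M)
    have hcX : sigmaCore M ⊓ Subgroup.centralizer ({x} : Set G) = D :=
      hprime x hxE (hxo ▸ hXc)
    refine ⟨?_, ?_, ?_⟩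
    · apply le_antisymm
      · intro g hg
        obtain ⟨hgM, hgN⟩ := Subgroup.mem_inf.mp hg
        obtain ⟨a, ha, b, hb, rfl⟩ := hE.2.2.2 g hgM
        have hbN : b ∈ Subgroup.normalizer (X : Set G) := by
          have : b = a⁻¹ * (a * b) := by group
          rw [this]
          exact Subgroup.mul_mem _ (Subgroup.inv_mem _ (hEX ha)) hgN
        have hbx : b ∈ Subgroup.centralizer ({x} : Set G) := by
          refine BGE.mem_centralizer_singleton.mpr ?_
          have h1 : b * x * b⁻¹ ∈ X := (Subgroup.mem_normalizer_iff.mp hbN x).mp hxX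
          have h2 : b * x * b⁻¹ * x⁻¹ ∈ X := X.mul_mem h1 (X.inv_mem hxX)
          have h3' : x * b⁻¹ * x⁻¹ ∈ sigmaCore M :=
            (Subgroup.mem_normalizer_iff.mp (hMσn (hE.1 hxE)) b⁻¹).mp
              (Subgroup.inv_mem _ hb)
          have h4 : b * x * b⁻¹ * x⁻¹ ∈ sigmaCore M := by
            have : b * x * b⁻¹ * x⁻¹ = b * (x * b⁻¹ * x⁻¹) := by group
            rw [this]; exact Subgroup.mul_mem _ hb h3'
          have h5 : b * x * b⁻¹ * x⁻¹ ∈ E ⊓ sigmaCore M := Subgroup.mem_inf.mpr ⟨hXE h2, h4⟩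
          rw [hE.2.2.1, Subgroup.mem_bot] at h5
          have h6 : b * x = x * b := by
            have : b * x = (b * x * b⁻¹ * x⁻¹) * (x * b) := by group
            rw [this, h5, one_mul]
          exact h6.symm
        have hbD : b ∈ D := hcX ▸ Subgroup.mem_inf.mpr ⟨hb, hbx⟩
        exact Subgroup.mul_mem _ (Subgroup.mem_sup_left ha) (Subgroup.mem_sup_right hbD)
      · exact sup_le (le_inf hE.1 hEX) (le_inf hDM hDX)
    · apply le_antisymm
      · intro g hg
        obtain ⟨hgM, hgN⟩ := Subgroup.mem_inf.mp hg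
        obtain ⟨a, ha, b, hb, rfl⟩ := hE.2.2.2 g hgM
        have hbN : b ∈ Subgroup.normalizer (E : Set G) := by
          have : b = a⁻¹ * (a * b) := by group
          rw [this]
          exact Subgroup.mul_mem _ (Subgroup.inv_mem _ (Subgroup.le_normalizer ha)) hgN
        have hbD : b ∈ D := by
          rw [hDdef]
          refine Subgroup.mem_inf.mpr ⟨hb, ?_⟩
          rw [Subgroup.mem_centralizer_iff]
          intro z hz
          have h1 : b * z * b⁻¹ ∈ E := (Subgroup.mem_normalizer_iff.mp hbN z).mp hz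
          have h2 : b * z * b⁻¹ * z⁻¹ ∈ E := E.mul_mem h1 (E.inv_mem hz)
          have h3' : z * b⁻¹ * z⁻¹ ∈ sigmaCore M :=
            (Subgroup.mem_normalizer_iff.mp (hMσn (hE.1 hz)) b⁻¹).mp
              (Subgroup.inv_mem _ hb)
          have h4 : b * z * b⁻¹ * z⁻¹ ∈ sigmaCore M := by
            have : b * z * b⁻¹ * z⁻¹ = b * (z * b⁻¹ * z⁻¹) := by group
            rw [this]; exact Subgroup.mul_mem _ hb h3'
          have h5 : b * z * b⁻¹ * z⁻¹ ∈ E ⊓ sigmaCore M := Subgroup.mem_inf.mpr ⟨h2, h4⟩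
          rw [hE.2.2.1, Subgroup.mem_bot] at h5
          have h6 : b * z = z * b := by
            have : b * z = (b * z * b⁻¹ * z⁻¹) * (z * b) := by group
            rw [this, h5, one_mul]
          exact h6.symm
        exact Subgroup.mul_mem _ (Subgroup.mem_sup_left ha) (Subgroup.mem_sup_right hbD)
      · exact sup_le (le_inf hE.1 Subgroup.le_normalizer) (le_inf hDM hDN)
    · intro Mstar hMstar hNX
      have hsκ : s ∈ kappa M := hκ s hXc hsE
      have hsσ : s ∈ sigma Mstar := BGG.c3 hG hM hMstar hsκ (hXE.trans hE.1) hsdef.symm hNX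
      exact BGE.qsub_le_sigmaCore hG hMstar hsσ (BGG.isPGroup_of_card_prime hsdef.symm)
        (Subgroup.le_normalizer.trans hNX)

end Cfsg.Agent.Lib.Helper3.BG15
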