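import Mathlib
import Cfsg.Agent.Lib.Helper3.BG15f
import Cfsg.Agent.Lib.Helper1.BGG11

set_option autoImplicit false
set_option maxHeartbeats 4000000
set_option linter.unusedVariables false
set_option linter.unusedSectionVars false
set_option linter.style.longLine false
set_option linter.unusedSimpArgs false
set_option linter.deprecated false
set_option linter.style.haveILetI false

/-!
# The σ-partition (B&G 13.9), unconditional (no Row1430)
-/

open scoped commutatorElement Pointwise
universe u
namespace Cfsg.Agent.Lib.Helper3.BG15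

open Cfsg Cfsg.Agent.Lib.Helper1 Cfsg.Agent.Lib.Helper7 Cfsg.Agent.Lib.Helper7.BGRows

variable {G : Type u} [Group G] [Finite G]

theorem complStructHyp : ComplStructHyp G := by
  intro hG M E E₁ E₃ hM hE hτ h1 h3
  exact BGG.compl_struct hG hM hE hτ h1 h3

theorem dichHyp : DichHyp G := by
  intro hG M E E₁ E₃ r hM hE hr hκ h3 h1 h3'
  haveI : Fact r.Prime := ⟨hr⟩
  exact BGG.r5_dichotomy hG hM hE hκ h3 h1 h3'

/-- **σ-partition** (B&G Theorem 13.9): non-conjugate maximal subgroups have disjoint `σ`-sets.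
Unconditional (closed rows only). -/
theorem sigma_partition (hG : IsMinSimpleOddOrder G) {M Ms : Subgroup G} (hM : IsCoatom M)
    (hMs : IsCoatom Ms) (hnc : ∀ g : G, Ms ≠ BG7.cj g M) {q : ℕ} (hqM : q ∈ sigma M)
    (hqMs : q ∈ sigma Ms) : False :=
  sigma_partition_of_two complStructHyp dichHyp hG hM hMs hnc hqM hqMs

/-- the form used by helper1's `(b*)`-kill -/
theorem sigma_partition' (hG : IsMinSimpleOddOrder G) :
    ∀ M Ms : Subgroup G, IsCoatom M → IsCoatom Ms → (∀ g : G, Ms ≠ BG7.cj g M) →
      ∀ q : ℕ, q ∈ sigma M → q ∈ sigma Ms → False :=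
  fun M Ms hM hMs hnc q hqM hqMs => sigma_partition hG hM hMs hnc hqM hqMs

end Cfsg.Agent.Lib.Helper3.BG15
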