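import Mathlib
import Cfsg.Agent.Lib.Helper3.BG14c

set_option autoImplicit false
set_option maxHeartbeats 4000000
set_option linter.unusedVariables false
set_option linter.unusedSectionVars false
set_option linter.style.longLine false
set_option linter.unusedSimpArgs false
set_option linter.deprecated false
set_option linter.style.haveILetI false

/-!
# B&G Theorem 13.10 (S1431) from `Row1430`: the four parts and the assembly
-/

open scoped commutatorElement Pointwise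
universe u
namespace Cfsg.Agent.Lib.Helper3.BG14

open Cfsg Cfsg.Agent.Lib.Helper1 Cfsg.Agent.Lib.Helper7 Cfsg.Agent.Lib.Helper7.BGRows

variable {G : Type u} [Group G] [Finite G]

namespace KU

variable {M K U : Subgroup G}

/-- **(a)** `K* ∩ M^g = 1` for `g ∉ M`. -/
theorem partA (hG : IsMinSimpleOddOrder G) (hM : IsCoatom M) (h : KU M K U) (g : G) (hg : g ∉ M) :
    (sigmaCore M ⊓ Subgroup.centralizer (K : Set G)) ⊓ M.map (MulAut.conj g).toMonoidHom = ⊥ := by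
  classical
  by_contra hne
  obtain ⟨y, hy, hyp⟩ := exists_prime_order_mem hne
  obtain ⟨p, hpe⟩ : ∃ p, p = orderOf y := ⟨_, rfl⟩
  rw [← hpe] at hyp
  haveI : Fact p.Prime := ⟨hyp⟩
  have hYc : Nat.card (Subgroup.zpowers y) = p := by rw [Nat.card_zpowers, hpe]
  have hyσ : y ∈ sigmaCore M := hy.1.1
  have hyK : y ∈ Subgroup.centralizer (K : Set G) := hy.1.2
  obtain ⟨hpσ, hP⟩ := h.of_prime hG hM (Subgroup.zpowers_le.mpr hyσ) (Subgroup.zpowers_le.mpr hyK) hYc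
  obtain ⟨P⟩ : Nonempty (Sylow p ↥(sigmaCore M)) := inferInstance
  obtain ⟨⟨hCM, -⟩, -, -⟩ := hP P
  have hYp : IsPGroup p (Subgroup.zpowers y) := IsPGroup.of_card (n := 1) (by rw [hYc, pow_one])
  have hY1 : Subgroup.zpowers y ≠ ⊥ := by
    intro hb
    rw [hb, Subgroup.card_bot] at hYc
    exact hyp.one_lt.ne hYc
  have hYM : Subgroup.zpowers y ≤ M := Subgroup.zpowers_le.mpr (BGE.sigmaCore_le M hyσ)
  have hconj : (Subgroup.zpowers y).map (MulAut.conj g⁻¹).toMonoidHom ≤ M := by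
    rintro _ ⟨z, hz, rfl⟩
    have hz' : z ∈ M.map (MulAut.conj g).toMonoidHom := (Subgroup.zpowers_le.mpr hy.2) hz
    obtain ⟨m, hm, hmz⟩ := hz'
    rw [← hmz]
    simp only [MulEquiv.coe_toMonoidHom, MulAut.conj_apply, inv_inv]
    have : g⁻¹ * (g * m * g⁻¹) * g = m := by group
    rw [this]; exact hm
  obtain ⟨m, hm, c, hc, hgmc⟩ := (Cfsg.Agent.S1404.result hG M hM p hpσ _ hYp hY1 hYM).1 g⁻¹ hconj
  apply hg
  have h1 : g⁻¹ ∈ M := by rw [hgmc]; exact M.mul_mem hm (hCM hc)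
  have := M.inv_mem h1
  rwa [inv_inv] at this

/-- **(b)** `K ∩ K^g = 1` for `g ∈ M - K K*`. -/
theorem partB (hG : IsMinSimpleOddOrder G) (hM : IsCoatom M) (h : KU M K U)
    (hc : ∀ X : Subgroup G, X ≤ K → (Nat.card X).Prime →
      M ⊓ Subgroup.normalizer (X : Set G) = K ⊔ (sigmaCore M ⊓ Subgroup.centralizer (K : Set G)))
    (g : G) (hgM : g ∈ M) (hg : g ∉ K ⊔ (sigmaCore M ⊓ Subgroup.centralizer (K : Set G))) :
    K ⊓ K.map (MulAut.conj g).toMonoidHom = ⊥ := by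
  classical
  by_contra hne
  obtain ⟨x, hx, hxp⟩ := exists_prime_order_mem hne
  obtain ⟨r, hre⟩ : ∃ r, r = orderOf x := ⟨_, rfl⟩
  rw [← hre] at hxp
  haveI : Fact r.Prime := ⟨hxp⟩
  obtain ⟨X, hX⟩ : ∃ X, X = Subgroup.zpowers x := ⟨_, rfl⟩
  have hXc : Nat.card X = r := by rw [hX, Nat.card_zpowers, hre]
  have hXK : X ≤ K := hX ▸ Subgroup.zpowers_le.mpr hx.1
  have hXKg : X ≤ K.map (MulAut.conj g).toMonoidHom := hX ▸ Subgroup.zpowers_le.mpr hx.2
  obtain ⟨X₂, hX₂⟩ : ∃ X₂, X₂ = BG7.cj g⁻¹ X := ⟨_, rfl⟩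
  have hX₂c : Nat.card X₂ = r := by rw [hX₂, BG7.card_cj, hXc]
  have hX₂K : X₂ ≤ K := by
    intro z hz
    rw [hX₂, BG7.mem_cj, inv_inv] at hz
    obtain ⟨k, hk, hkz⟩ := hXKg hz
    simp only [MulEquiv.coe_toMonoidHom, MulAut.conj_apply] at hkz
    have : z = k := by
      have h1 : g⁻¹ * (g * k * g⁻¹) * g = g⁻¹ * (g * z * g⁻¹) * g := by rw [hkz]
      have h2 : g⁻¹ * (g * k * g⁻¹) * g = k := by group
      have h3 : g⁻¹ * (g * z * g⁻¹) * g = z := by group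
      rw [h2, h3] at h1; exact h1.symm
    rw [this]; exact hk
  have h1 := hc X hXK (hXc ▸ hxp)
  have h2 := hc X₂ hX₂K (hX₂c ▸ hxp)
  have hKX : K ≤ Subgroup.normalizer (X : Set G) :=
    (le_sup_left.trans h1.ge).trans inf_le_right
  have hKX₂ : K ≤ Subgroup.normalizer (X₂ : Set G) :=
    (le_sup_left.trans h2.ge).trans inf_le_right
  have hXp : IsPGroup r X := IsPGroup.of_card (n := 1) (by rw [hXc, pow_one])
  have hX₂p : IsPGroup r X₂ := IsPGroup.of_card (n := 1) (by rw [hX₂c, pow_one])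
  have hDp : IsPGroup r (X ⊔ X₂ : Subgroup G) :=
    IsPGroup.to_sup_of_normal_left' hXp hX₂p (hX₂K.trans hKX)
  have hDM : X ⊔ X₂ ≤ M := (_root_.sup_le hXK hX₂K).trans h.hallK.1
  have hrκ : r ∈ kappa M := h.hallK.2.1 r hxp (hXc ▸ Subgroup.card_dvd_of_le hXK)
  obtain ⟨R, hR, hDR⟩ := BT.exists_isMaxP_ge (p := r) hDp hDM
  obtain ⟨P, hP⟩ := hR.exists_sylow
  haveI hPc : IsCyclic ↥(P : Subgroup ↥M) := (hrκ.2.2.2 P).1
  haveI hRc : IsCyclic ↥R := by
    rw [← hP]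
    exact isCyclic_of_surjective
      (Subgroup.equivMapOfInjective (P : Subgroup ↥M) M.subtype M.subtype_injective)
      (Subgroup.equivMapOfInjective (P : Subgroup ↥M) M.subtype M.subtype_injective).surjective
  have hXX₂ : X = X₂ := Cfsg.Agent.Lib.Helper3.subgroup_eq_of_card_eq_of_le_isCyclic R X X₂
    (le_sup_left.trans hDR) (le_sup_right.trans hDR) (by rw [hXc, hX₂c])
  have hgn : g⁻¹ ∈ Subgroup.normalizer (X : Set G) := by
    apply BG7.mem_normalizer_of_cj_eq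
    rw [← hX₂, ← hXX₂]
  have h3 : g⁻¹ ∈ K ⊔ (sigmaCore M ⊓ Subgroup.centralizer (K : Set G)) := by
    rw [← h1]; exact ⟨M.inv_mem hgM, hgn⟩
  apply hg
  have := Subgroup.inv_mem _ h3
  rwa [inv_inv] at this

/-- **(c)** for `p ∣ |K*|` the Sylow `p`-subgroups of `M_σ` lie in no other maximal subgroup and not in `K*`. -/
theorem partC (hG : IsMinSimpleOddOrder G) (hM : IsCoatom M) (h : KU M K U)
    (hc : ∀ X : Subgroup G, X ≤ K → (Nat.card X).Prime →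
      ∀ Mstar : Subgroup G, IsCoatom Mstar → Subgroup.normalizer (X : Set G) ≤ Mstar → X ≤ sigmaCore Mstar)
    (p : ℕ) (hp : p.Prime) (hd : p ∣ Nat.card ↥(sigmaCore M ⊓ Subgroup.centralizer (K : Set G)))
    (S : Sylow p ↥(sigmaCore M)) :
    InUniqueMaximal ((S : Subgroup ↥(sigmaCore M)).map (sigmaCore M).subtype) ∧
      (S : Subgroup ↥(sigmaCore M)).map (sigmaCore M).subtype ≤ M ∧
      ¬ (S : Subgroup ↥(sigmaCore M)).map (sigmaCore M).subtype ≤ (sigmaCore M ⊓ Subgroup.centralizer (K : Set G)) := by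
  classical
  haveI : Fact p.Prime := ⟨hp⟩
  obtain ⟨hσHall, -, -⟩ := BGA.s1350 hG M hM
  obtain ⟨y, hy⟩ := exists_prime_orderOf_dvd_card' (G := ↥(sigmaCore M ⊓ Subgroup.centralizer (K : Set G))) p hd
  have hyo : orderOf (y : G) = p := by rw [Subgroup.orderOf_coe, hy]
  have hYc : Nat.card (Subgroup.zpowers (y : G)) = p := by rw [Nat.card_zpowers, hyo]
  obtain ⟨hpσ, hP⟩ := h.of_prime hG hM (Subgroup.zpowers_le.mpr y.2.1) (Subgroup.zpowers_le.mpr y.2.2) hYc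
  obtain ⟨-, hUM, hSM⟩ := hP S
  refine ⟨hUM, hSM, ?_⟩
  intro hSK
  obtain ⟨SG, hSGe⟩ : ∃ SG, SG = (S : Subgroup ↥(sigmaCore M)).map (sigmaCore M).subtype := ⟨_, rfl⟩
  rw [← hSGe] at hSK hSM
  have hSG : BG8.IsMaxP p SG (sigmaCore M) := hSGe ▸ BG8.isMaxP_of_sylow S
  have hSGM : BG8.IsMaxP p SG M := BGE.isMaxP_of_sigmaCore hG hM hpσ hSG
  have hSGK : SG ≤ Subgroup.centralizer (K : Set G) := hSK.trans inf_le_right
  have hpMσ : p ∣ Nat.card (sigmaCore M) := hd.trans (Subgroup.card_dvd_of_le inf_le_left)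
  by_cases hpα : p ∈ alpha M
  · -- rank at least three: `S1406`
    obtain ⟨x, hx, hxp⟩ := exists_prime_order_mem h.ne
    obtain ⟨r, hre⟩ : ∃ r, r = orderOf x := ⟨_, rfl⟩
    rw [← hre] at hxp
    haveI : Fact r.Prime := ⟨hxp⟩
    obtain ⟨X, hX⟩ : ∃ X, X = Subgroup.zpowers x := ⟨_, rfl⟩
    have hXc : Nat.card X = r := by rw [hX, Nat.card_zpowers, hre]
    have hXK : X ≤ K := hX ▸ Subgroup.zpowers_le.mpr hx
    have hXM : X ≤ M := hXK.trans h.hallK.1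
    have hrκ : r ∈ kappa M := h.hallK.2.1 r hxp (hXc ▸ Subgroup.card_dvd_of_le hXK)
    have hrσ : r ∉ sigma M := hrκ.2.2.1
    have hXα : ∀ q : ℕ, q.Prime → q ∣ Nat.card X → q ∉ alpha M := by
      intro q hq hqd hqα
      rw [hXc] at hqd
      have : q = r := (Nat.prime_dvd_prime_iff_eq hq hxp).mp hqd
      rw [this] at hqα
      exact hrσ (BT.alpha_subset_sigma hG hM hqα)
    have hSGα : SG ≤ alphaCore M ⊓ Subgroup.centralizer (X : Set G) := by
      refine le_inf (BG12.le_alphaCore_of_isPGroup hG hM hpα hSGM.1 hSG.2.1) ?_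
      exact hSGK.trans (Subgroup.centralizer_le hXK)
    have hr : ¬ RankLE 1 ↥(alphaCore M ⊓ Subgroup.centralizer (X : Set G)) := by
      obtain ⟨E₃, hE₃M, hE₃e, hE₃c⟩ := BG9.exists_elementary_of_not_pRankLE hp hpα.2
      have hE₃p : IsPGroup p E₃ := BG9.isPGroup_of_isElementaryAbelian hE₃e
      obtain ⟨m, hm, hE₃m⟩ := BT.exists_cj_ge hSGM hE₃p hE₃M
      have h1 : BG7.cj m⁻¹ E₃ ≤ SG := by
        have := BG7.cj_mono (k := m⁻¹) hE₃m
        rwa [BG7.cj_inv_cj] at this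
      apply BG9.not_rankLE_of_elementary' hp (h1.trans hSGα) (BG9.isElementaryAbelian_cj m⁻¹ hE₃e)
      rw [BG7.card_cj]
      calc p ^ (1 + 1) ≤ p ^ (2 + 1) := Nat.pow_le_pow_right hp.pos (by omega)
        _ ≤ Nat.card E₃ := hE₃c
    have hU := Cfsg.Agent.S1406.result hG M hM X hXM hXα hr
    obtain ⟨hNX, -⟩ := BG12.viol hG hM hXc hU inf_le_left inf_le_right
    have hXσ : X ≤ sigmaCore M := hc X hXK (hXc ▸ hxp) M hM hNX
    exact hrσ (hσHall.2.1 r hxp (hXc ▸ Subgroup.card_dvd_of_le hXσ))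
  · -- `p ∉ β(M)`: the key lemma
    have hpβ : p ∉ beta M := fun hb => hpα hb.1
    have hEM : U ⊔ K ≤ M := h.sup_le
    haveI hMs : Group.IsSolvable ↥M := hG.2.2.2 M hM.1
    haveI hEs : Group.IsSolvable ↥(U ⊔ K : Subgroup G) := isSolvable_of_le hEM
    haveI hKs : Group.IsSolvable ↥K := isSolvable_of_le h.hallK.1
    have hEn : U ⊔ K ≤ Subgroup.normalizer (sigmaCore M : Set G) :=
      hEM.trans (BGE.le_normalizer_sigmaCore M)
    obtain ⟨P₀, hP₀⟩ := coprime_exists_invariant_sylow (U ⊔ K) (sigmaCore M) hEn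
      (h.coprime_sigmaCore hG hM) (Or.inl hEs) p
    have hS₀ : BG8.IsMaxP p ((P₀ : Subgroup ↥(sigmaCore M)).map (sigmaCore M).subtype) (sigmaCore M) :=
      BG8.isMaxP_of_sylow P₀
    obtain ⟨S₀, hS₀eq⟩ : ∃ S₀, S₀ = (P₀ : Subgroup ↥(sigmaCore M)).map (sigmaCore M).subtype := ⟨_, rfl⟩
    rw [← hS₀eq] at hS₀ hP₀
    have hUS₀ : U ≤ Subgroup.normalizer (S₀ : Set G) := le_sup_left.trans hP₀
    have hKS₀ : K ≤ Subgroup.normalizer (S₀ : Set G) := le_sup_right.trans hP₀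
    obtain ⟨hkey, -⟩ := h.key hG hM hpσ hpβ hS₀ hUS₀ hKS₀
    have hS₀M : BG8.IsMaxP p S₀ M := BGE.isMaxP_of_sigmaCore hG hM hpσ hS₀
    obtain ⟨-, hStop, -⟩ := BT.sigma_sylow_le_commutator hG hM hpσ hS₀M
    have hcopK : (Nat.card K).Coprime (Nat.card (sigmaCore M)) :=
      Nat.Coprime.coprime_dvd_left (Subgroup.card_dvd_of_le le_sup_right) (h.coprime_sigmaCore hG hM)
    have hKSG : K ≤ Subgroup.normalizer (SG : Set G) := by
      refine le_trans ?_ (Subgroup.centralizer_le_normalizer _)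
      rw [Subgroup.le_centralizer_iff]
      exact hSGK
    obtain ⟨S', c, hcL, hcA, hS'p, -, hS₀S', hSGS'⟩ := BG7.coprime_sylow_pair K (sigmaCore M)
      (le_sup_right.trans hEn) hcopK (Or.inl hKs) p S₀ SG hS₀.1 hSG.1 hS₀.2.1 hSG.2.1 hKS₀ hKSG
    have hSeq : S' = S₀ := hStop.2.2 S' hS'p hS₀S' le_top
    rw [hSeq] at hSGS'
    have hcσ : BG7.cj c S₀ ≤ sigmaCore M := by
      have h1 : BG7.cj c (sigmaCore M) = sigmaCore M :=
        Cfsg.Agent.Lib.Helper3.T37.cj_of_mem_normalizer (Subgroup.le_normalizer hcL)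
      rw [← h1]; exact BG7.cj_mono hS₀.1
    have hcjeq : BG7.cj c S₀ = SG := hSG.2.2 _ (BGE.isPGroup_cj hS₀.2.1 c) hSGS' hcσ
    have hS₀K : S₀ ≤ Subgroup.centralizer (K : Set G) := by
      intro s hs
      have h1 : c * s * c⁻¹ ∈ Subgroup.centralizer (K : Set G) :=
        hSGK (hcjeq ▸ BG7.conj_mem_cj hs)
      have h2 : c⁻¹ * (c * s * c⁻¹) * c ∈ Subgroup.centralizer (K : Set G) :=
        Subgroup.mul_mem _ (Subgroup.mul_mem _ (Subgroup.inv_mem _ hcA) h1) hcA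
      have h3 : c⁻¹ * (c * s * c⁻¹) * c = s := by group
      rwa [h3] at h2
    have hbot : ⁅S₀, K⁆ = ⊥ := Subgroup.commutator_eq_bot_iff_le_centralizer.mpr hS₀K
    rw [hkey] at hbot
    exact BG12.isMaxP_ne_bot hS₀ hpMσ hbot

/-- **(d)** a `σ(M)`-subgroup meeting `K*` nontrivially lies in `M_σ`. -/
theorem partD (hG : IsMinSimpleOddOrder G) (hM : IsCoatom M) (h : KU M K U) (Y : Subgroup G)
    (hY : ∀ p : ℕ, p.Prime → p ∣ Nat.card Y → p ∈ sigma M)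
    (hne : Y ⊓ (sigmaCore M ⊓ Subgroup.centralizer (K : Set G)) ≠ ⊥) : Y ≤ sigmaCore M := by
  have hY1 : Y ≠ ⊥ := by
    intro hb
    apply hne
    rw [hb, bot_inf_eq]
  obtain ⟨g, hg⟩ := Cfsg.Agent.S1425.result hG M hM Y hY1 hY
  by_cases hgM : g ∈ M
  · intro y hy
    have h1 : g * y * g⁻¹ ∈ sigmaCore M := hg ⟨y, hy, rfl⟩
    have hgn : g⁻¹ ∈ Subgroup.normalizer (sigmaCore M : Set G) :=
      BGE.le_normalizer_sigmaCore M (M.inv_mem hgM)
    have h2 := (Subgroup.mem_normalizer_iff.mp hgn (g * y * g⁻¹)).mp h1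
    have h3 : g⁻¹ * (g * y * g⁻¹) * g⁻¹⁻¹ = y := by group
    rwa [h3] at h2
  · exfalso
    have hg' : g⁻¹ ∉ M := fun hh => hgM (by have := M.inv_mem hh; rwa [inv_inv] at this)
    have hA := h.partA hG hM g⁻¹ hg'
    obtain ⟨z, hz, hz1⟩ := (Subgroup.ne_bot_iff_exists_ne_one).mp hne |> fun ⟨x, hx⟩ =>
      (⟨(x : G), x.2, fun hx1 => hx (Subtype.ext hx1)⟩ :
        ∃ z ∈ Y ⊓ (sigmaCore M ⊓ Subgroup.centralizer (K : Set G)), z ≠ 1)
    have h1 : z ∈ (sigmaCore M ⊓ Subgroup.centralizer (K : Set G)) ⊓ M.map (MulAut.conj g⁻¹).toMonoidHom := by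
      refine ⟨hz.2, g * z * g⁻¹, BGE.sigmaCore_le M (hg ⟨z, hz.1, rfl⟩), ?_⟩
      simp only [MulEquiv.coe_toMonoidHom, MulAut.conj_apply, inv_inv]
      group
    rw [hA, Subgroup.mem_bot] at h1
    exact hz1 h1

end KU

/-- **S1431 (B&G Theorem 13.10) from `Row1430`.** -/
theorem s1431_of (h1430 : Row1430 G) (hG : IsMinSimpleOddOrder G)
    (M : Subgroup G) (hM : IsCoatom M) (K : Subgroup G) (hK : IsPiHallOf (kappa M) K M) (hK1 : K ≠ ⊥) :
    (∀ g : G, g ∉ M → (sigmaCore M ⊓ Subgroup.centralizer (K : Set G)) ⊓ M.map (MulAut.conj g).toMonoidHom = ⊥) ∧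
      (∀ g ∈ M, g ∉ K ⊔ (sigmaCore M ⊓ Subgroup.centralizer (K : Set G)) → K ⊓ K.map (MulAut.conj g).toMonoidHom = ⊥) ∧
      (∀ (p : ℕ), p.Prime → p ∣ Nat.card ↥(sigmaCore M ⊓ Subgroup.centralizer (K : Set G)) → ∀ S : Sylow p ↥(sigmaCore M),
        InUniqueMaximal ((S : Subgroup ↥(sigmaCore M)).map (sigmaCore M).subtype) ∧
        (S : Subgroup ↥(sigmaCore M)).map (sigmaCore M).subtype ≤ M ∧
        ¬ (S : Subgroup ↥(sigmaCore M)).map (sigmaCore M).subtype ≤ (sigmaCore M ⊓ Subgroup.centralizer (K : Set G))) ∧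
      ∀ Y : Subgroup G, (∀ p : ℕ, p.Prime → p ∣ Nat.card Y → p ∈ sigma M) → Y ⊓ (sigmaCore M ⊓ Subgroup.centralizer (K : Set G)) ≠ ⊥ → Y ≤ sigmaCore M := by
  obtain ⟨-, ⟨U, hUc, hU, hKU, hfpf⟩, hc⟩ := h1430 hG M hM K hK hK1
  have h : KU M K U := ⟨hK, hK1, hUc, hU, hKU, hfpf⟩
  refine ⟨h.partA hG hM, ?_, ?_, h.partD hG hM⟩
  · exact h.partB hG hM (fun X hXK hXp => (hc X hXK hXp).1)
  · exact h.partC hG hM (fun X hXK hXp => (hc X hXK hXp).2.2)

end Cfsg.Agent.Lib.Helper3.BG14
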