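import Mathlib
import Cfsg.Agent.Lib.Helper3.BG15g
import Cfsg.Agent.Lib.Helper7.BGK17
import Cfsg.Agent.Lib.Lead.FittingHall

set_option autoImplicit false
set_option maxHeartbeats 4000000
set_option linter.unusedVariables false
set_option linter.unusedSectionVars false
set_option linter.style.longLine false
set_option linter.unusedSimpArgs false
set_option linter.deprecated false
set_option linter.style.haveILetI false

/-!
# B&G Section 16 (types of maximal subgroups): general lemmas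
-/

open scoped commutatorElement Pointwise
universe u
namespace Cfsg.Agent.Lib.Helper3.BG17

open Cfsg Cfsg.Agent.Lib.Helper1 Cfsg.Agent.Lib.Helper7 Cfsg.Agent.Lib.Helper7.BGRows

variable {G : Type u} [Group G] [Finite G]

/-- `p ∈ σ(M)`, `S` a Sylow `p`-subgroup of `M`: `N_G(S) ≤ M` -/
theorem normalizer_le_of_sigma {M S : Subgroup G} {p : ℕ} [hp : Fact p.Prime]
    (hpσ : p ∈ sigma M) (hS : BG8.IsMaxP p S M) : Subgroup.normalizer (S : Set G) ≤ M := by
  obtain ⟨-, -, P, hP⟩ := hpσ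
  obtain ⟨n, hn, e⟩ := BT.isMaxP_conj (BG8.isMaxP_of_sylow P) hS
  rw [e, ← BT.cj_normalizer]
  calc BG7.cj n (Subgroup.normalizer _) ≤ BG7.cj n M := BG7.cj_mono hP
    _ = M := Cfsg.Agent.Lib.Helper2.BGH.cj_self_of_mem hn

/-- a nontrivial Hall subgroup of `M_σ` has its normalizer in `M` -/
theorem normalizer_le_of_hall_sigmaCore (hG : IsMinSimpleOddOrder G) {M : Subgroup G}
    (hM : IsCoatom M) {V : Subgroup G} (hV : V ≤ sigmaCore M) (hV1 : V ≠ ⊥)
    (hcop : (Nat.card V).Coprime (V.relIndex (sigmaCore M))) :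
    Subgroup.normalizer (V : Set G) ≤ M := by
  classical
  have hVM : V ≤ M := hV.trans (BGE.sigmaCore_le M)
  have hc1 : Nat.card V ≠ 1 := fun h => hV1 (Subgroup.card_eq_one.mp h)
  obtain ⟨p, hp, hpV⟩ := Nat.exists_prime_and_dvd hc1
  haveI : Fact p.Prime := ⟨hp⟩
  obtain ⟨P, hP, -⟩ := BT.exists_isMaxP_ge (p := p) (Y := (⊥ : Subgroup G)) (H := V)
    IsPGroup.of_bot bot_le
  have hP1 : P ≠ ⊥ := BG12.isMaxP_ne_bot hP hpV
  have hpσ : p ∈ sigma M :=
    BGF.sigmaCore_pi M p hp (dvd_trans hpV (Subgroup.card_dvd_of_le hV))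
  have hidx : ¬ p ∣ P.relIndex (sigmaCore M) := by
    rw [← Subgroup.relIndex_mul_relIndex P V (sigmaCore M) hP.1 hV]
    intro h
    rcases (Nat.Prime.dvd_mul hp).mp h with h | h
    · exact BG13.not_dvd_relIndex_of_isMaxP hP h
    · exact (Nat.Prime.coprime_iff_not_dvd hp).mp
        (Nat.Coprime.coprime_dvd_left hpV hcop) h
  have hPS : BG8.IsMaxP p P (sigmaCore M) :=
    BGG.isMaxP_of_not_dvd_relIndex (hP.1.trans hV) hP.2.1 hidx
  have hPM : BG8.IsMaxP p P M := BGE.isMaxP_of_sigmaCore hG hM hpσ hPS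
  have hNP : Subgroup.normalizer (P : Set G) ≤ M := normalizer_le_of_sigma hpσ hPM
  intro g hg
  have hgV : BG7.cj g V = V := BG7.cj_eq_of_mem_normalizer hg
  have h1 : BG8.IsMaxP p (BG7.cj g P) V := by
    have := BT.isMaxP_cj hP g
    rwa [hgV] at this
  obtain ⟨v, hv, e⟩ := BT.isMaxP_conj hP h1
  have h2 : BG7.cj (v⁻¹ * g) P = P := by
    rw [BG7.cj_mul, e, BG7.cj_inv_cj]
  have h3 : v⁻¹ * g ∈ M := hNP (BG7.mem_normalizer_of_cj_eq h2)
  have : g = v * (v⁻¹ * g) := by group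
  rw [this]
  exact M.mul_mem (hVM hv) h3

/-- product decomposition in `A ⊔ N` when `A` normalizes `N` -/
theorem mem_sup_left_norm {A N : Subgroup G} (h : A ≤ Subgroup.normalizer (N : Set G)) {x : G}
    (hx : x ∈ A ⊔ N) : ∃ a ∈ A, ∃ n ∈ N, x = a * n := by
  rw [← SetLike.mem_coe, Subgroup.coe_mul_of_left_le_normalizer_right A N h] at hx
  obtain ⟨a, ha, n, hn, rfl⟩ := Set.mem_mul.mp hx
  exact ⟨a, ha, n, hn, rfl⟩

/-- product decomposition in `N ⊔ A` when `A` normalizes `N` -/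
theorem mem_sup_right_norm {A N : Subgroup G} (h : A ≤ Subgroup.normalizer (N : Set G)) {x : G}
    (hx : x ∈ N ⊔ A) : ∃ n ∈ N, ∃ a ∈ A, x = n * a := by
  rw [← SetLike.mem_coe, Subgroup.coe_mul_of_right_le_normalizer_left N A h] at hx
  obtain ⟨n, hn, a, ha, rfl⟩ := Set.mem_mul.mp hx
  exact ⟨n, hn, a, ha, rfl⟩

/-- coprimality from the absence of common prime divisors -/
theorem coprime_of_forall_prime {a b : ℕ} (h : ∀ p : ℕ, p.Prime → p ∣ a → p ∣ b → False) :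
    a.Coprime b := by
  by_contra hc
  obtain ⟨p, hp, h1, h2⟩ := Nat.Prime.not_coprime_iff_dvd.mp hc
  exact h p hp h1 h2

/-- `K ∩ M_σ = 1` for a Hall `κ(M)`-subgroup `K` -/
theorem hall_kappa_inf_sigmaCore {M K : Subgroup G} (hK : IsPiHallOf (kappa M) K M) :
    K ⊓ sigmaCore M = ⊥ := by
  apply Subgroup.inf_eq_bot_of_coprime
  apply coprime_of_forall_prime
  intro p hp h1 h2
  exact (hK.2.1 p hp h1).2.2.1 (BGF.sigmaCore_pi M p hp h2)

/-- `|K|` is coprime to its index in `M` -/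
theorem hall_kappa_coprime {M K : Subgroup G} (hK : IsPiHallOf (kappa M) K M) :
    (Nat.card K).Coprime (K.relIndex M) := by
  apply coprime_of_forall_prime
  intro p hp h1 h2
  exact hK.2.2 p hp (hK.2.1 p hp h1) h2

/-- `M = (U M_σ) ⋊ K` for a `σ`-decomposition -/
theorem decomp_compl_derived {M K U : Subgroup G} (hKU : IsSigmaDecomposition M K U) :
    IsComplIn (U ⊔ sigmaCore M) K M := by
  have hKM : K ≤ M := hKU.hall.1
  have hUM : U ≤ M := hKU.compl.1
  have hSM : sigmaCore M ≤ M := BGE.sigmaCore_le M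
  have hMS := BGE.le_normalizer_sigmaCore M
  have hKS : K ⊓ sigmaCore M = ⊥ := hall_kappa_inf_sigmaCore hKU.hall
  refine ⟨sup_le hUM hSM, hKM, ?_, ?_⟩
  · rw [eq_bot_iff]
    intro x hx
    obtain ⟨hx1, hx2⟩ := Subgroup.mem_inf.mp hx
    obtain ⟨u, hu, s, hs, rfl⟩ := mem_sup_left_norm (hUM.trans hMS) hx1
    have hu' : u ∈ U ⊓ (K ⊔ sigmaCore M) := by
      refine Subgroup.mem_inf.mpr ⟨hu, ?_⟩
      have : u = (u * s) * s⁻¹ := by group
      rw [this]
      exact Subgroup.mul_mem _ (Subgroup.mem_sup_left hx2)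
        (Subgroup.mem_sup_right (Subgroup.inv_mem _ hs))
    rw [hKU.compl.2.2.1, Subgroup.mem_bot] at hu'
    subst hu'
    rw [one_mul] at hx2 ⊢
    have : s ∈ K ⊓ sigmaCore M := Subgroup.mem_inf.mpr ⟨hx2, hs⟩
    rwa [hKS] at this
  · intro m hm
    obtain ⟨u, hu, c, hc, rfl⟩ := hKU.compl.2.2.2 m hm
    rw [sup_comm] at hc
    obtain ⟨s, hs, k, hk, rfl⟩ := mem_sup_right_norm (hKM.trans hMS) hc
    exact ⟨u * s, Subgroup.mul_mem _ (Subgroup.mem_sup_left hu) (Subgroup.mem_sup_right hs),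
      k, hk, by group⟩

/-- `U ∩ M_σ = 1` for a `σ`-decomposition -/
theorem decomp_U_inf_sigmaCore {M K U : Subgroup G} (hKU : IsSigmaDecomposition M K U) :
    U ⊓ sigmaCore M = ⊥ := by
  rw [eq_bot_iff, ← hKU.compl.2.2.1]
  exact inf_le_inf_left _ le_sup_right

/-- `U M_σ = U ⋉ M_σ` for a `σ`-decomposition -/
theorem decomp_compl_U {M K U : Subgroup G} (hKU : IsSigmaDecomposition M K U) :
    IsComplIn (sigmaCore M) U (U ⊔ sigmaCore M) := by
  have hUM : U ≤ M := hKU.compl.1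
  have hMS := BGE.le_normalizer_sigmaCore M
  refine ⟨le_sup_right, le_sup_left, ?_, ?_⟩
  · rw [inf_comm]; exact decomp_U_inf_sigmaCore hKU
  · intro m hm
    rw [sup_comm] at hm
    obtain ⟨s, hs, u, hu, rfl⟩ := mem_sup_right_norm (hUM.trans hMS) hm
    exact ⟨s, hs, u, hu, rfl⟩

/-- a cyclic Hall subgroup `W` of `M` forces `M` to have `r`-rank one for the primes of `W` -/
theorem pRankLE_one_of_cyclic_hall {M W : Subgroup G} (hWM : W ≤ M) (hWc : IsCyclic W)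
    (hcop : (Nat.card W).Coprime (W.relIndex M)) {r : ℕ} (hr : r.Prime)
    (hrW : r ∣ Nat.card W) : PRankLE r 1 ↥M := by
  classical
  haveI : Fact r.Prime := ⟨hr⟩
  obtain ⟨R₁, hR₁, -⟩ := BT.exists_isMaxP_ge (p := r) (Y := (⊥ : Subgroup G)) (H := W)
    IsPGroup.of_bot bot_le
  have hidx : ¬ r ∣ R₁.relIndex M := by
    rw [← Subgroup.relIndex_mul_relIndex R₁ W M hR₁.1 hWM]
    intro h
    rcases (Nat.Prime.dvd_mul hr).mp h with h | h
    · exact BG13.not_dvd_relIndex_of_isMaxP hR₁ h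
    · exact (Nat.Prime.coprime_iff_not_dvd hr).mp
        (Nat.Coprime.coprime_dvd_left hrW hcop) h
  have hR₁M : BG8.IsMaxP r R₁ M :=
    BGG.isMaxP_of_not_dvd_relIndex (hR₁.1.trans hWM) hR₁.2.1 hidx
  obtain ⟨R, hR⟩ := hR₁M.exists_sylow
  apply BG9.pRankLE_of_sylow R
  haveI : IsCyclic ↥W := hWc
  haveI h1 : IsCyclic ↥R₁ := Subgroup.isCyclic_of_le hR₁.1
  haveI h2 : IsCyclic ↥((R : Subgroup ↥M).map M.subtype) := hR ▸ h1
  haveI h3 : IsCyclic ↥(R : Subgroup ↥M) :=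
    isCyclic_of_surjective
      ((R : Subgroup M).equivMapOfInjective M.subtype M.subtype_injective).symm
      ((R : Subgroup M).equivMapOfInjective M.subtype M.subtype_injective).symm.surjective
  exact BG9.pRankLE_of_isCyclic hr le_rfl

/-- a subgroup of type P has `κ(M) ≠ ∅` -/
theorem kappa_of_typeP (hG : IsMinSimpleOddOrder G) {M : Subgroup G} (hM : IsCoatom M)
    (hFσ : fittingHallOf M ≤ sigmaCore M) (hσd : sigmaCore M ≤ ⁅M, M⁆)
    {W₁ U W₂ : Subgroup G} (hP : IsTypePWith M W₁ U W₂) : ∃ r, r ∈ kappa M := by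
  classical
  have hc1 : Nat.card W₁ ≠ 1 := fun h => hP.W₁_ne (Subgroup.card_eq_one.mp h)
  obtain ⟨r, hr, hrW⟩ := Nat.exists_prime_and_dvd hc1
  haveI : Fact r.Prime := ⟨hr⟩
  obtain ⟨x, hx⟩ := exists_prime_orderOf_dvd_card' r hrW
  have hxo : orderOf (x : G) = r := by rw [Subgroup.orderOf_coe]; exact hx
  have hW₁M : W₁ ≤ M := hP.W₁_compl.2.1
  obtain ⟨y, hy1⟩ := (Subgroup.ne_bot_iff_exists_ne_one).mp hP.selfNormalizing.2.1
  have hyW : (y : G) ∈ W₂ := y.2
  have hy1' : (y : G) ≠ 1 := fun h => hy1 (Subtype.ext h)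
  have hyσ : (y : G) ∈ sigmaCore M := hFσ (hP.W₂_le hyW).1
  have hxy : (x : G) * (y : G) = (y : G) * (x : G) :=
    hP.selfNormalizing.2.2.2.1 (x : G) x.2 (y : G) hyW
  have hrσ : r ∉ sigma M := by
    intro hrσ
    have hz : Subgroup.zpowers (x : G) ≤ sigmaCore M := by
      apply BGE.qsub_le_sigmaCore hG hM hrσ
      · apply IsPGroup.of_card (n := 1)
        rw [Nat.card_zpowers, hxo, pow_one]
      · rw [Subgroup.zpowers_le]; exact hW₁M x.2
    have hx' : (x : G) ∈ ⁅M, M⁆ ⊓ W₁ :=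
      Subgroup.mem_inf.mpr ⟨hσd (hz (Subgroup.mem_zpowers _)), x.2⟩
    rw [hP.W₁_compl.2.2.1, Subgroup.mem_bot] at hx'
    rw [hx', orderOf_one] at hxo
    exact hr.one_lt.ne hxo
  have hr1 : PRankLE r 1 ↥M :=
    pRankLE_one_of_cyclic_hall hW₁M hP.W₁_cyclic hP.W₁_hall hr hrW
  exact ⟨r, BGK.mem_kappa_of_rank_one hG hM hrσ hr1 (hW₁M x.2) hxo hyσ hy1' hxy⟩

/-- a subgroup of type P has nontrivial Hall `κ`-subgroups -/
theorem K_ne_bot_of_typeP (hG : IsMinSimpleOddOrder G) {M : Subgroup G} (hM : IsCoatom M)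
    (hFσ : fittingHallOf M ≤ sigmaCore M) (hσd : sigmaCore M ≤ ⁅M, M⁆)
    {W₁ U W₂ : Subgroup G} (hP : IsTypePWith M W₁ U W₂) {K : Subgroup G}
    (hK : IsPiHallOf (kappa M) K M) : K ≠ ⊥ := by
  intro hK1
  obtain ⟨r, hr⟩ := kappa_of_typeP hG hM hFσ hσd hP
  exact BGK.kappa_empty_of_bot hK hK1 r hr

/-- complements of a Hall subgroup in a solvable group are conjugate -/
theorem compl_conj {X H U U' : Subgroup G} (hXs : Group.IsSolvable ↥X)
    (hcop : (Nat.card H).Coprime (H.relIndex X))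
    (hU : IsComplIn H U X) (hU' : IsComplIn H U' X) : ∃ x ∈ X, U' = BG7.cj x U := by
  have hcU : H.relIndex X = Nat.card U := Cfsg.Agent.Lib.Lead.ComplIn.relIndex_left hU
  have hcU' : H.relIndex X = Nat.card U' := Cfsg.Agent.Lib.Lead.ComplIn.relIndex_left hU'
  have hiU : U.relIndex X = Nat.card H := Cfsg.Agent.Lib.Lead.ComplIn.relIndex_right hU
  have hHall : IsPiHallOf {q | q.Prime ∧ ¬ q ∣ Nat.card H} U X := by
    refine ⟨hU.2.1, ?_, ?_⟩
    · intro p hp hpU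
      refine ⟨hp, fun h => ?_⟩
      rw [← hcU] at hpU
      exact (Nat.Prime.coprime_iff_not_dvd hp).mp (Nat.Coprime.coprime_dvd_left h hcop) hpU
    · intro p hp hpπ h
      rw [hiU] at h
      exact hpπ.2 h
  obtain ⟨x, hx, hle⟩ := BGK.exists_cj_le_of_hall hXs hHall hU'.2.1 (by
    intro q hq hqU'
    refine ⟨hq, fun h => ?_⟩
    rw [← hcU'] at hqU'
    exact (Nat.Prime.coprime_iff_not_dvd hq).mp (Nat.Coprime.coprime_dvd_left h hcop) hqU')
  refine ⟨x, hx, ?_⟩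
  apply Subgroup.eq_of_le_of_card_ge hle
  rw [BG7.card_cj, ← hcU, hcU']

end Cfsg.Agent.Lib.Helper3.BG17
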