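import Mathlib
import Cfsg.Agent.Lib.Helper3.BG17a

set_option autoImplicit false
set_option maxHeartbeats 4000000
set_option linter.unusedVariables false
set_option linter.unusedSectionVars false
set_option linter.style.longLine false
set_option linter.unusedSimpArgs false
set_option linter.deprecated false
set_option linter.style.haveILetI false

/-!
# B&G Section 16: type P data from a σ-decomposition with `K ≠ 1`
-/

open scoped commutatorElement Pointwise
universe u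
namespace Cfsg.Agent.Lib.Helper3.BG17

open Cfsg Cfsg.Agent.Lib.Helper1 Cfsg.Agent.Lib.Helper7 Cfsg.Agent.Lib.Helper7.BGRows

variable {G : Type u} [Group G] [Finite G]

/-- the facts about a `σ`-decomposition with `K ≠ 1` that produce type P data -/
structure PFacts (M K U : Subgroup G) : Prop where
  decomp : IsSigmaDecomposition M K U
  hK1 : K ≠ ⊥
  hFσ : fittingHallOf M ≤ sigmaCore M
  hσd : sigmaCore M ≤ ⁅M, M⁆
  cent : ∀ k ∈ K, k ≠ 1 → M ⊓ Subgroup.centralizer ({k} : Set G) =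
    K ⊔ (sigmaCore M ⊓ Subgroup.centralizer (K : Set G))
  d2 : ⁅⁅M, M⁆, ⁅M, M⁆⁆ ≤ fittingOf M
  fit : fittingOf M = (M ⊓ Subgroup.centralizer (fittingHallOf M : Set G)) ⊔ fittingHallOf M
  fitle : fittingOf M ≤ ⁅M, M⁆
  Ks_ne : sigmaCore M ⊓ Subgroup.centralizer (K : Set G) ≠ ⊥
  Ks_le : sigmaCore M ⊓ Subgroup.centralizer (K : Set G) ≤ fittingHallOf M
  notcyc : ¬ IsCyclic (fittingHallOf M)
  der : ⁅M, M⁆ = U ⊔ sigmaCore M
  Ks_d2 : sigmaCore M ⊓ Subgroup.centralizer (K : Set G) ≤ ⁅⁅M, M⁆, ⁅M, M⁆⁆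
  Z_cyc : IsCyclic ↥(K ⊔ (sigmaCore M ⊓ Subgroup.centralizer (K : Set G)))
  Z_ti : IsTISubset ((↑(K ⊔ (sigmaCore M ⊓ Subgroup.centralizer (K : Set G))) : Set G) \
    ((K : Set G) ∪ ↑(sigmaCore M ⊓ Subgroup.centralizer (K : Set G))))
  Z_norm : Subgroup.normalizer ((↑(K ⊔ (sigmaCore M ⊓ Subgroup.centralizer (K : Set G))) : Set G) \
    ((K : Set G) ∪ ↑(sigmaCore M ⊓ Subgroup.centralizer (K : Set G)))) =
      K ⊔ (sigmaCore M ⊓ Subgroup.centralizer (K : Set G))

/-- `κ(M) ≠ ∅` when a Hall `κ(M)`-subgroup is nontrivial -/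
theorem kappa_nonempty_of_ne_bot {M K : Subgroup G} (hK : IsPiHallOf (kappa M) K M)
    (hK1 : K ≠ ⊥) : (kappa M).Nonempty := by
  have hc1 : Nat.card K ≠ 1 := fun h => hK1 (Subgroup.card_eq_one.mp h)
  obtain ⟨p, hp, hpK⟩ := Nat.exists_prime_and_dvd hc1
  exact ⟨p, hK.2.1 p hp hpK⟩

/-- the facts from the rows -/
theorem pfacts_of_rows (h1354 : Row1354 G) (h1355 : Row1355 G) (h1356 : Row1356 G)
    (h1364 : Row1364 G) (h1365 : Row1365 G) (h1366 : Row1366 G) (h1368 : Row1368 G)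
    (h1370 : Row1370 G) (hG : IsMinSimpleOddOrder G) {M : Subgroup G} (hM : IsCoatom M)
    {K U : Subgroup G} (hKU : IsSigmaDecomposition M K U) (hK1 : K ≠ ⊥) : PFacts M K U := by
  obtain ⟨-, hFσ, hσd, -, -⟩ := h1355 hG M hM
  obtain ⟨-, hcent⟩ := h1354 hG M hM K hKU.cyclic hKU.hall
  obtain ⟨hd2, hfit, hfitle⟩ := h1356 hG M hM
  obtain ⟨-, hKsne, hKsle, hnc⟩ := h1364 hG M hM K U hKU hK1
  obtain ⟨hder, hKsd2⟩ := h1365 hG M hM K U hKU hK1
  obtain ⟨Ms, ⟨hMs, hKst, hKstH⟩, -⟩ := h1366 hG M hM K U hKU hK1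
  obtain ⟨-, hZc⟩ := h1368 hG M hM K U hKU hK1 Ms hMs hKst hKstH
  obtain ⟨hti, hnorm⟩ := h1370 hG M hM K U hKU hK1
  exact ⟨hKU, hK1, hFσ, hσd, hcent hK1, hd2, hfit,
    hfitle (kappa_nonempty_of_ne_bot hKU.hall hK1), hKsne, hKsle, hnc, hder, hKsd2, hZc, hti,
    hnorm⟩

/-- the pair `K, K*` is a self-normalizing cyclic pair -/
theorem PFacts.selfNormalizing {M K U : Subgroup G} (h : PFacts M K U) :
    IsSelfNormalizingCyclic K (sigmaCore M ⊓ Subgroup.centralizer (K : Set G)) := by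
  obtain ⟨Ks, hKs⟩ : ∃ Ks, Ks = sigmaCore M ⊓ Subgroup.centralizer (K : Set G) := ⟨_, rfl⟩
  have hZc := h.Z_cyc
  have hti := h.Z_ti
  have hnorm := h.Z_norm
  rw [← hKs] at hZc hti hnorm ⊢
  have hcomm : ∀ a ∈ K ⊔ Ks, ∀ b ∈ K ⊔ Ks, a * b = b * a := by
    intro a ha b hb
    haveI := hZc
    have := (IsCyclic.commGroup (α := ↥(K ⊔ Ks))).mul_comm ⟨a, ha⟩ ⟨b, hb⟩
    exact congrArg Subtype.val this
  refine ⟨h.hK1, hKs ▸ h.Ks_ne, ?_, ?_, hZc, ?_⟩
  · rw [eq_bot_iff, ← hall_kappa_inf_sigmaCore h.decomp.hall, hKs]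
    exact inf_le_inf_left _ inf_le_left
  · intro a ha b hb
    rw [hKs] at hb
    exact Subgroup.mem_centralizer_iff.mp (Subgroup.mem_inf.mp hb).2 a ha
  · intro X hX hXne
    apply le_antisymm
    · intro g hg
      rw [← hnorm]
      by_contra hgn
      obtain ⟨x, hx⟩ := hXne
      have hgx : g * x * g⁻¹ ∈ X := (Subgroup.mem_set_normalizer_iff.mp hg x).mp hx
      have hx1 := hti g hgn x (hX hx) (hX hgx)
      have hxn := (hX hx).2
      apply hxn
      left
      rw [hx1]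
      exact K.one_mem
    · intro z hz
      rw [Subgroup.mem_set_normalizer_iff]
      intro y
      constructor
      · intro hy
        have : z * y * z⁻¹ = y := by
          rw [hcomm z hz y (hX hy).1]; group
        rwa [this]
      · intro hy
        obtain ⟨w, hw⟩ : ∃ w, w = z * y * z⁻¹ := ⟨_, rfl⟩
        rw [← hw] at hy
        have h1 := hcomm z hz w (hX hy).1
        have : y = w := by
          have h2 : y = z⁻¹ * w * z := by rw [hw]; group
          rw [h2, mul_assoc, ← h1]; group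
        rw [this]; exact hy

/-- the type P data `(K, U', K*)` from a `σ`-decomposition with `K ≠ 1` and a `K`-invariant
nilpotent complement `U'` of `M_F` in `M'` -/
theorem PFacts.isTypePWith {M K U : Subgroup G} (h : PFacts M K U) {U' : Subgroup G}
    (hU'n : Group.IsNilpotent U') (hU'K : K ≤ Subgroup.normalizer (U' : Set G))
    (hU'c : IsComplIn (fittingHallOf M) U' ⁅M, M⁆) :
    IsTypePWith M K U' (sigmaCore M ⊓ Subgroup.centralizer (K : Set G)) := by
  have hcd : IsComplIn ⁅M, M⁆ K M := by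
    rw [h.der]; exact decomp_compl_derived h.decomp
  have hKσ : sigmaCore M ⊓ Subgroup.centralizer (K : Set G) ≤ ⁅M, M⁆ :=
    inf_le_left.trans h.hσd
  refine ⟨h.hK1, h.decomp.cyclic, hall_kappa_coprime h.decomp.hall, hcd, hU'n, hU'K, hU'c,
    h.notcyc, ?_, ?_, h.fitle, le_inf h.Ks_le h.Ks_d2, ?_, h.selfNormalizing⟩
  · rw [sup_comm, ← h.fit]; exact h.d2
  · rw [sup_comm, ← h.fit]
  · intro x hx hx1
    apply le_antisymm
    · intro z hz
      obtain ⟨hz1, hz2⟩ := Subgroup.mem_inf.mp hz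
      have hzM : z ∈ M ⊓ Subgroup.centralizer ({x} : Set G) :=
        Subgroup.mem_inf.mpr ⟨hcd.1 hz1, hz2⟩
      rw [h.cent x hx hx1] at hzM
      obtain ⟨k, hk, s, hs, rfl⟩ := Cfsg.Agent.Lib.Lead.ComplIn.mem_sup_of_commute
        (A := K) (B := sigmaCore M ⊓ Subgroup.centralizer (K : Set G))
        (fun a ha b hb => Subgroup.mem_centralizer_iff.mp (Subgroup.mem_inf.mp hb).2 a ha) hzM
      have hk' : k ∈ ⁅M, M⁆ ⊓ K := by
        refine Subgroup.mem_inf.mpr ⟨?_, hk⟩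
        have : k = (k * s) * s⁻¹ := by group
        rw [this]
        exact Subgroup.mul_mem _ hz1 (Subgroup.inv_mem _ (hKσ hs))
      rw [hcd.2.2.1, Subgroup.mem_bot] at hk'
      rw [hk', one_mul]; exact hs
    · intro z hz
      refine Subgroup.mem_inf.mpr ⟨hKσ hz, ?_⟩
      rw [BGE.mem_centralizer_singleton]
      exact Subgroup.mem_centralizer_iff.mp (Subgroup.mem_inf.mp hz).2 x hx

end Cfsg.Agent.Lib.Helper3.BG17
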