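import Mathlib
import Cfsg.Agent.Lib.Helper3.BG17b

set_option autoImplicit false
set_option maxHeartbeats 4000000
set_option linter.unusedVariables false
set_option linter.unusedSectionVars false
set_option linter.style.longLine false
set_option linter.unusedSimpArgs false
set_option linter.deprecated false
set_option linter.style.haveILetI false

/-!
# B&G Section 16: `M_F` of normal subgroups, and Frobenius type from subgroup data
-/

open scoped commutatorElement Pointwise
universe u
namespace Cfsg.Agent.Lib.Helper3.BG17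

open Cfsg Cfsg.Agent.Lib.Helper1 Cfsg.Agent.Lib.Helper7 Cfsg.Agent.Lib.Helper7.BGRows
open Cfsg.Agent.Lib.Lead

variable {G : Type u} [Group G] [Finite G]

theorem isNilpotent_cj {N : Subgroup G} (h : Group.IsNilpotent ↥N) (g : G) :
    Group.IsNilpotent ↥(BG7.cj g N) := by
  haveI := h
  exact nilpotent_of_mulEquiv
    (N.equivMapOfInjective (MulAut.conj g).toMonoidHom (MulAut.conj g).injective)

theorem cj_fittingHallOf_le (g : G) (X : Subgroup G) :
    BG7.cj g (fittingHallOf X) ≤ fittingHallOf (BG7.cj g X) := by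
  apply FittingHall.le_fittingHallOf
  · exact BG7.cj_mono (FittingHall.fittingHallOf_le X)
  · rw [← BT.cj_normalizer]
    exact BG7.cj_mono (FittingHall.le_normalizer_fittingHallOf X)
  · exact isNilpotent_cj (FittingHall.fittingHallOf_isNilpotent X) g
  · rw [BG7.card_cj, BG10.relIndex_cj]
    exact FittingHall.fittingHallOf_coprime X

theorem cj_fittingHallOf (g : G) (X : Subgroup G) :
    BG7.cj g (fittingHallOf X) = fittingHallOf (BG7.cj g X) := by
  apply le_antisymm (cj_fittingHallOf_le g X)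
  have h := cj_fittingHallOf_le g⁻¹ (BG7.cj g X)
  rw [BG7.cj_inv_cj] at h
  have h2 := BG7.cj_mono (k := g) h
  have e : BG7.cj g (BG7.cj g⁻¹ (fittingHallOf (BG7.cj g X))) = fittingHallOf (BG7.cj g X) := by
    have := BG7.cj_inv_cj g⁻¹ (fittingHallOf (BG7.cj g X))
    rwa [inv_inv] at this
  rwa [e] at h2

/-- a subgroup normalizing `X` normalizes `X_F` -/
theorem le_normalizer_fittingHallOf_of_le {M X : Subgroup G}
    (h : M ≤ Subgroup.normalizer (X : Set G)) :
    M ≤ Subgroup.normalizer (fittingHallOf X : Set G) := by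
  intro m hm
  apply BG7.mem_normalizer_of_cj_eq
  rw [cj_fittingHallOf, BG7.cj_eq_of_mem_normalizer (h hm)]

/-- `X_F ≤ M_F` for a normal Hall subgroup `X` of `M` -/
theorem fittingHallOf_le_of_normal_hall {M X : Subgroup G} (hXM : X ≤ M)
    (h : M ≤ Subgroup.normalizer (X : Set G))
    (hcop : (Nat.card X).Coprime (X.relIndex M)) : fittingHallOf X ≤ fittingHallOf M := by
  apply FittingHall.le_fittingHallOf ((FittingHall.fittingHallOf_le X).trans hXM)
    (le_normalizer_fittingHallOf_of_le h) (FittingHall.fittingHallOf_isNilpotent X)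
  rw [← Subgroup.relIndex_mul_relIndex (fittingHallOf X) X M (FittingHall.fittingHallOf_le X) hXM]
  apply Nat.Coprime.mul_right (FittingHall.fittingHallOf_coprime X)
  exact Nat.Coprime.coprime_dvd_left (Subgroup.card_dvd_of_le (FittingHall.fittingHallOf_le X)) hcop

/-- a normal nilpotent Hall subgroup `N` of `M` inside `X ≤ M` lies in `X_F` -/
theorem le_fittingHallOf_of_le {M X N : Subgroup G} (hXM : X ≤ M) (hNX : N ≤ X)
    (hMN : M ≤ Subgroup.normalizer (N : Set G)) (hnil : Group.IsNilpotent ↥N)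
    (hcop : (Nat.card N).Coprime (N.relIndex M)) : N ≤ fittingHallOf X := by
  apply FittingHall.le_fittingHallOf hNX (hXM.trans hMN) hnil
  apply Nat.Coprime.coprime_dvd_right _ hcop
  rw [← Subgroup.relIndex_mul_relIndex N X M hNX hXM]
  exact dvd_mul_right _ _

theorem fittingHall_eq_subgroupOf (X : Subgroup G) :
    fittingHall ↥X = (fittingHallOf X).subgroupOf X :=
  (BGG.subgroupOf_map_subtype' (fittingHall ↥X)).symm

theorem card_subgroupOf_le {T H : Subgroup G} (h : T ≤ H) :
    Nat.card (T.subgroupOf H) = Nat.card T :=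
  Nat.card_congr (Subgroup.subgroupOfEquivOfLe h).toEquiv

theorem exponent_subgroupOf_le {T H : Subgroup G} (h : T ≤ H) :
    Monoid.exponent ↥(T.subgroupOf H) = Monoid.exponent ↥T :=
  Monoid.exponent_eq_of_mulEquiv (Subgroup.subgroupOfEquivOfLe h)

/-- Frobenius type of a subgroup `X` of `G` from data given by subgroups of `G` -/
theorem isOfTypeF_of {X H U U₁ U₀ : Subgroup G} (hXs : Group.IsSolvable ↥X)
    (hodd : Odd (Nat.card X)) (hH : fittingHallOf X = H) (hH1 : H ≠ ⊥) (hU1 : U ≠ ⊥)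
    (hc : IsComplIn H U X) (hU₁U : U₁ ≤ U) (hUU₁ : U ≤ Subgroup.normalizer (U₁ : Set G))
    (hU₁c : IsMulCommutative U₁)
    (hcent : ∀ x ∈ H, x ≠ 1 → U ⊓ Subgroup.centralizer ({x} : Set G) ≤ U₁)
    (hU₀U : U₀ ≤ U) (hexp : Monoid.exponent U₀ = Monoid.exponent U)
    (hfpf : ∀ u ∈ U₀, u ≠ 1 → ∀ x ∈ H, u * x = x * u → x = 1) : IsOfTypeF ↥X := by
  have hHX : H ≤ X := hc.1
  have hUX : U ≤ X := hc.2.1
  have hF : fittingHall ↥X = H.subgroupOf X := by rw [fittingHall_eq_subgroupOf, hH]
  have hmemF : ∀ x : ↥X, x ∈ fittingHall ↥X ↔ (x : G) ∈ H := by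
    intro x; rw [hF, Subgroup.mem_subgroupOf]
  refine ⟨hXs, hodd, ?_, ?_, U.subgroupOf X, ?_, ?_, ?_, ?_⟩
  · intro h
    apply hH1
    rw [← hH, fittingHallOf, h, Subgroup.map_bot]
  · intro h
    apply hU1
    rw [eq_bot_iff]
    intro u hu
    have h1 : (⟨u, hUX hu⟩ : ↥X) ∈ fittingHall ↥X := by rw [h]; exact Subgroup.mem_top _
    rw [hmemF] at h1
    have : u ∈ H ⊓ U := Subgroup.mem_inf.mpr ⟨h1, hu⟩
    rwa [hc.2.2.1] at this
  · intro h
    apply hU1
    rw [eq_bot_iff]
    intro u hu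
    have h1 : (⟨u, hUX hu⟩ : ↥X) ∈ U.subgroupOf X := Subgroup.mem_subgroupOf.mpr hu
    rw [h, Subgroup.mem_bot] at h1
    rw [Subgroup.mem_bot]
    exact congrArg Subtype.val h1
  · apply Subgroup.isComplement'_of_card_mul_and_disjoint
    · rw [hF, card_subgroupOf_le hHX, card_subgroupOf_le hUX]
      exact (ComplIn.card_eq hc).symm
    · rw [Subgroup.disjoint_def]
      intro x hx1 hx2
      rw [hmemF] at hx1
      have : (x : G) ∈ H ⊓ U := Subgroup.mem_inf.mpr ⟨hx1, Subgroup.mem_subgroupOf.mp hx2⟩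
      rw [hc.2.2.1, Subgroup.mem_bot] at this
      exact Subtype.ext this
  · refine ⟨U₁.subgroupOf X, ?_, ?_, ?_, ?_⟩
    · intro x hx
      exact Subgroup.mem_subgroupOf.mpr (hU₁U (Subgroup.mem_subgroupOf.mp hx))
    · rw [Subgroup.le_normalizer_iff]
      intro u hu k hk
      rw [Subgroup.mem_subgroupOf] at hu hk ⊢
      have := (Subgroup.mem_normalizer_iff.mp (hUU₁ hu) (k : G)).mp hk
      simpa using this
    · refine ⟨⟨fun a b => ?_⟩⟩
      apply Subtype.ext
      apply Subtype.ext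
      have := hU₁c.is_comm.comm ⟨(a : ↥X), Subgroup.mem_subgroupOf.mp a.2⟩
        ⟨(b : ↥X), Subgroup.mem_subgroupOf.mp b.2⟩
      show ((a : ↥X) : G) * ((b : ↥X) : G) = ((b : ↥X) : G) * ((a : ↥X) : G)
      exact congrArg Subtype.val this
    · intro x hx hx1 u hu
      obtain ⟨hu1, hu2⟩ := Subgroup.mem_inf.mp hu
      rw [Subgroup.mem_subgroupOf] at hu1 ⊢
      rw [hmemF] at hx
      apply hcent (x : G) hx (fun h => hx1 (Subtype.ext h))
      refine Subgroup.mem_inf.mpr ⟨hu1, ?_⟩
      rw [BGE.mem_centralizer_singleton]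
      have := (Subgroup.mem_centralizer_iff.mp hu2) x (Set.mem_singleton x)
      exact congrArg Subtype.val this
  · refine ⟨U₀.subgroupOf X, ?_, ?_, ?_⟩
    · intro x hx
      exact Subgroup.mem_subgroupOf.mpr (hU₀U (Subgroup.mem_subgroupOf.mp hx))
    · rw [exponent_subgroupOf_le (hU₀U.trans hUX), exponent_subgroupOf_le hUX, hexp]
    · intro u hu hu1 x hx hux
      rw [Subgroup.mem_subgroupOf] at hu
      rw [hmemF] at hx
      have := hfpf (u : G) hu (fun h => hu1 (Subtype.ext h)) (x : G) hx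
        (congrArg Subtype.val hux)
      exact Subtype.ext this

end Cfsg.Agent.Lib.Helper3.BG17
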