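import Mathlib
import Cfsg.Agent.Lib.Helper3.BG17c

set_option autoImplicit false
set_option maxHeartbeats 4000000
set_option linter.unusedVariables false
set_option linter.unusedSectionVars false
set_option linter.style.longLine false
set_option linter.unusedSimpArgs false
set_option linter.deprecated false
set_option linter.style.haveILetI false

/-!
# B&G Section 16: Type II iff `K ≠ 1` and `U ≠ 1` (S1381)
-/

open scoped commutatorElement Pointwise
universe u
namespace Cfsg.Agent.Lib.Helper3.BG17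

open Cfsg Cfsg.Agent.Lib.Helper1 Cfsg.Agent.Lib.Helper7 Cfsg.Agent.Lib.Helper7.BGRows
open Cfsg.Agent.Lib.Lead

variable {G : Type u} [Group G] [Finite G]

theorem le_normalizer_derived (M : Subgroup G) :
    M ≤ Subgroup.normalizer ((⁅M, M⁆ : Subgroup G) : Set G) := by
  rw [Subgroup.le_normalizer_iff]
  intro m hm x hx
  exact BGB.conj_mem_commutator hm hx

/-- `|M'|` is coprime to its index when `K ≠ 1` -/
theorem PFacts.derived_coprime {M K U : Subgroup G} (h : PFacts M K U) :
    (Nat.card ↥⁅M, M⁆).Coprime ((⁅M, M⁆ : Subgroup G).relIndex M) := by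
  have hcd : IsComplIn ⁅M, M⁆ K M := by
    rw [h.der]; exact decomp_compl_derived h.decomp
  rw [ComplIn.relIndex_left hcd, ← ComplIn.relIndex_right hcd]
  exact (hall_kappa_coprime h.decomp.hall).symm

/-- `(M')_F = M_F` when `K ≠ 1` and `M_F = M_σ` -/
theorem PFacts.fittingHallOf_derived {M K U : Subgroup G} (h : PFacts M K U)
    (hMF : fittingHallOf M = sigmaCore M) : fittingHallOf ⁅M, M⁆ = fittingHallOf M := by
  have hdM : (⁅M, M⁆ : Subgroup G) ≤ M := BGB.comm_le_self M
  apply le_antisymm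
  · exact fittingHallOf_le_of_normal_hall hdM (le_normalizer_derived M) h.derived_coprime
  · apply le_fittingHallOf_of_le hdM (hMF ▸ h.hσd) (FittingHall.le_normalizer_fittingHallOf M)
      (FittingHall.fittingHallOf_isNilpotent M) (FittingHall.fittingHallOf_coprime M)

/-- a complement of `M_F` in `M_σ` is a Hall subgroup of `M_σ` -/
theorem compl_hall {M V : Subgroup G} (hc : IsComplIn (fittingHallOf M) V (sigmaCore M)) :
    (Nat.card V).Coprime (V.relIndex (sigmaCore M)) := by
  have hFX : fittingHallOf M ≤ sigmaCore M := hc.1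
  have hXM : sigmaCore M ≤ M := BGE.sigmaCore_le M
  have h1 : Nat.card V = (fittingHallOf M).relIndex (sigmaCore M) :=
    (ComplIn.relIndex_left hc).symm
  have h2 : (fittingHallOf M).relIndex (sigmaCore M) ∣ (fittingHallOf M).relIndex M := by
    rw [← Subgroup.relIndex_mul_relIndex (fittingHallOf M) (sigmaCore M) M hFX hXM]
    exact dvd_mul_right _ _
  rw [ComplIn.relIndex_right hc, h1]
  exact (Nat.Coprime.coprime_dvd_right h2 (FittingHall.fittingHallOf_coprime M)).symm

/-- the derived subgroup is `M_σ` when `U = 1` -/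
theorem PFacts.derived_eq_of_bot {M K U : Subgroup G} (h : PFacts M K U) (hU : U = ⊥) :
    ⁅M, M⁆ = sigmaCore M := by
  rw [h.der, hU, bot_sup_eq]

/-- Type II iff `K ≠ 1` and `U ≠ 1` -/
theorem s1381_of (h1354 : Row1354 G) (h1355 : Row1355 G) (h1356 : Row1356 G)
    (h1357 : Row1357 G) (h1360 : Row1360 G) (h1363 : Row1363 G)
    (h1364 : Row1364 G) (h1365 : Row1365 G) (h1366 : Row1366 G) (h1368 : Row1368 G)
    (h1370 : Row1370 G) (h1372 : Row1372 G) (hG : IsMinSimpleOddOrder G)
    (M : Subgroup G) (hM : IsCoatom M) (K U : Subgroup G) (hKU : IsSigmaDecomposition M K U) :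
    IsOfTypeII M ↔ (K ≠ ⊥ ∧ U ≠ ⊥) := by
  obtain ⟨-, hFσ, hσd, -, -⟩ := h1355 hG M hM
  constructor
  · rintro ⟨W₁, U', W₂, hT, hU'1, -, -, -, hNU', -, -⟩
    have hK1 : K ≠ ⊥ := K_ne_bot_of_typeP hG hM hFσ hσd hT hKU.hall
    refine ⟨hK1, fun hU => hNU' ?_⟩
    have hP := pfacts_of_rows h1354 h1355 h1356 h1364 h1365 h1366 h1368 h1370 hG hM hKU hK1
    have hd := hP.derived_eq_of_bot hU
    have hc : IsComplIn (fittingHallOf M) U' (sigmaCore M) := hd ▸ hT.U_compl
    exact normalizer_le_of_hall_sigmaCore hG hM hc.2.1 hU'1 (compl_hall hc)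
  · rintro ⟨hK1, hU1⟩
    have hP := pfacts_of_rows h1354 h1355 h1356 h1364 h1365 h1366 h1368 h1370 hG hM hKU hK1
    have hMF : fittingHallOf M = sigmaCore M := by
      by_contra hne
      exact hU1 (h1357 hG M hM K U hKU hne).1
    obtain ⟨hUc, hNU⟩ := h1363 hG M hM K U hKU hK1
    obtain ⟨hKp, hTI, -⟩ := h1372 hG M hM K U hKU hK1 hU1
    have hUn : Group.IsNilpotent ↥U := by
      haveI := hUc
      letI : CommGroup ↥U :=
        { (inferInstance : Group ↥U) with mul_comm := fun a b => mul_comm' a b }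
      infer_instance
    have hUc' : IsComplIn (fittingHallOf M) U ⁅M, M⁆ := by
      rw [hMF, hP.der]; exact decomp_compl_U hKU
    have hT := hP.isTypePWith hUn hKU.normal hUc'
    have hFd := hP.fittingHallOf_derived hMF
    refine ⟨K, U, _, hT, hU1, hKp, hTI, hUc, hNU, ?_, hFd⟩
    obtain ⟨U₀, hU₀U, hexp, hU₀⟩ := h1360 hG M hM K U hKU
    have hdM : (⁅M, M⁆ : Subgroup G) ≤ M := BGB.comm_le_self M
    have hdtop : (⁅M, M⁆ : Subgroup G) ≠ ⊤ := by
      intro h
      apply hM.1
      rw [eq_top_iff, ← h]; exact hdM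
    apply isOfTypeF_of (X := ⁅M, M⁆) (H := sigmaCore M) (U := U) (U₁ := U) (U₀ := U₀)
      (BG7.isSolvable_of_ne_top hG hdtop) (BG8.odd_card_subgroup hG _) (hFd.trans hMF)
      (BG12.sigmaCore_ne_bot hG hM) hU1 (hMF ▸ hUc') le_rfl Subgroup.le_normalizer hUc
      (fun x _ _ => inf_le_left) hU₀U hexp
    intro u hu hu1 x hx hux
    by_contra hx1
    exact hu1 (hU₀ u hu ⟨hKU.compl.1 (hU₀U hu), x, hx, hx1, hux⟩)

end Cfsg.Agent.Lib.Helper3.BG17
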