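import Mathlib
import Cfsg.Agent.Lib.Helper3.BG17d

set_option autoImplicit false
set_option maxHeartbeats 4000000
set_option linter.unusedVariables false
set_option linter.unusedSectionVars false
set_option linter.style.longLine false
set_option linter.unusedSimpArgs false
set_option linter.deprecated false
set_option linter.style.haveILetI false

/-!
# B&G Section 16: Type III or IV iff `K ≠ 1`, `U = 1`, `M_F ≠ M_σ` (S1382)
-/

open scoped commutatorElement Pointwise
universe u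
namespace Cfsg.Agent.Lib.Helper3.BG17

open Cfsg Cfsg.Agent.Lib.Helper1 Cfsg.Agent.Lib.Helper7 Cfsg.Agent.Lib.Helper7.BGRows
open Cfsg.Agent.Lib.Lead

variable {G : Type u} [Group G] [Finite G]

/-- a `K`-invariant complement of `M_F` in `M_σ` -/
theorem exists_inv_compl (hG : IsMinSimpleOddOrder G) {M : Subgroup G} (hM : IsCoatom M)
    {K : Subgroup G} (hK : IsPiHallOf (kappa M) K M) (hFσ : fittingHallOf M ≤ sigmaCore M) :
    ∃ U' : Subgroup G, K ≤ Subgroup.normalizer (U' : Set G) ∧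
      IsComplIn (fittingHallOf M) U' (sigmaCore M) := by
  classical
  haveI hMs : Group.IsSolvable ↥M := BG7.isSolvable_of_ne_top hG hM.1
  obtain ⟨π, hπ⟩ : ∃ π : Set ℕ, π = {q | q.Prime ∧ ¬ q ∣ Nat.card (fittingHallOf M)} := ⟨_, rfl⟩
  obtain ⟨C, hC⟩ := BGK.exists_isPiHallOf M hMs π
  have hFM : fittingHallOf M ≤ M := FittingHall.fittingHallOf_le M
  have hMF := FittingHall.le_normalizer_fittingHallOf M
  have hcopF := FittingHall.fittingHallOf_coprime M
  -- conjugate `C` so that it contains `K`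
  have hKπ : ∀ q : ℕ, q.Prime → q ∣ Nat.card K → q ∈ π := by
    intro q hq hqK
    rw [hπ]
    refine ⟨hq, fun h => ?_⟩
    exact (hK.2.1 q hq hqK).2.2.1
      (BGF.sigmaCore_pi M q hq (dvd_trans h (Subgroup.card_dvd_of_le hFσ)))
  obtain ⟨m, hm, hKC⟩ := BGK.exists_cj_le_of_hall hMs hC hK.1 hKπ
  obtain ⟨C', hC'⟩ : ∃ C', C' = BG7.cj m C := ⟨_, rfl⟩
  rw [← hC'] at hKC
  have hC'H : IsPiHallOf π C' M := hC' ▸ BGK.isPiHallOf_cj hC hm
  have hC'M : C' ≤ M := hC'H.1
  have hinf : fittingHallOf M ⊓ C' = ⊥ := by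
    apply Subgroup.inf_eq_bot_of_coprime
    apply coprime_of_forall_prime
    intro p hp h1 h2
    have := hC'H.2.1 p hp h2
    rw [hπ] at this
    exact this.2 h1
  have hcompl : IsComplIn (fittingHallOf M) C' M := by
    apply BGK.complIn_of_coprime hFM hC'M hinf
    apply coprime_of_forall_prime
    intro p hp h1 h2
    have hpπ : p ∉ π := fun h => hC'H.2.2 p hp h h2
    rw [hπ] at hpπ
    have hpF : p ∣ Nat.card (fittingHallOf M) := by
      by_contra h
      exact hpπ ⟨hp, h⟩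
    exact (Nat.Prime.coprime_iff_not_dvd hp).mp (Nat.Coprime.coprime_dvd_left hpF hcopF) h1
  refine ⟨C' ⊓ sigmaCore M, ?_, hFσ, inf_le_right, ?_, ?_⟩
  · intro k hk
    apply BG7.mem_normalizer_of_cj_eq
    rw [BG7.cj_inf, BG7.cj_eq_of_mem_normalizer (Subgroup.le_normalizer (hKC hk)),
      BG7.cj_eq_of_mem_normalizer (BGE.le_normalizer_sigmaCore M (hK.1 hk))]
  · rw [eq_bot_iff, ← hinf]
    exact inf_le_inf_left _ inf_le_left
  · intro s hs
    obtain ⟨f, hf, c, hc, rfl⟩ := hcompl.2.2.2 s (BGE.sigmaCore_le M hs)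
    refine ⟨f, hf, c, Subgroup.mem_inf.mpr ⟨hc, ?_⟩, rfl⟩
    have : c = f⁻¹ * (f * c) := by group
    rw [this]
    exact Subgroup.mul_mem _ (Subgroup.inv_mem _ (hFσ hf)) hs

/-- a subgroup of `M'` meeting `M_F` trivially is nilpotent when `M'/M_F` is -/
theorem isNilpotent_of_derived_quotient {M U' : Subgroup G}
    (hnil : Group.IsNilpotent
      ↥((commutator ↥M).map (QuotientGroup.mk' (fittingHall ↥M))))
    (hU'd : U' ≤ ⁅M, M⁆) (hinf : fittingHallOf M ⊓ U' = ⊥) : Group.IsNilpotent ↥U' := by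
  have hdM : (⁅M, M⁆ : Subgroup G) ≤ M := BGB.comm_le_self M
  have hU'M : U' ≤ M := hU'd.trans hdM
  have hmem : ∀ u : ↥U', (QuotientGroup.mk' (fittingHall ↥M)) (Subgroup.inclusion hU'M u) ∈
      (commutator ↥M).map (QuotientGroup.mk' (fittingHall ↥M)) := by
    intro u
    apply Subgroup.mem_map_of_mem
    have h1 : (u : G) ∈ (commutator ↥M).map M.subtype := by
      rw [Subgroup.map_subtype_commutator]; exact hU'd u.2
    obtain ⟨x, hx, hxu⟩ := h1
    have : x = Subgroup.inclusion hU'M u := Subtype.ext hxu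
    rw [← this]; exact hx
  let f : ↥U' →* ↥((commutator ↥M).map (QuotientGroup.mk' (fittingHall ↥M))) :=
    ((QuotientGroup.mk' (fittingHall ↥M)).comp (Subgroup.inclusion hU'M)).codRestrict _ hmem
  haveI := hnil
  apply Subgroup.isNilpotent_of_ker_le_center f
  have hker : f.ker = ⊥ := by
    rw [eq_bot_iff]
    intro u hu
    rw [MonoidHom.mem_ker] at hu
    have h1 : (QuotientGroup.mk' (fittingHall ↥M)) (Subgroup.inclusion hU'M u) = 1 :=
      congrArg Subtype.val hu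
    rw [QuotientGroup.mk'_apply, QuotientGroup.eq_one_iff] at h1
    have h2 : (u : G) ∈ fittingHallOf M := ⟨_, h1, rfl⟩
    have h3 : (u : G) ∈ fittingHallOf M ⊓ U' := Subgroup.mem_inf.mpr ⟨h2, u.2⟩
    rw [hinf, Subgroup.mem_bot] at h3
    rw [Subgroup.mem_bot]
    exact Subtype.ext h3
  rw [hker]; exact bot_le

/-- Type III or IV iff `K ≠ 1`, `U = 1` and `M_F ≠ M_σ` -/
theorem s1382_of (h1354 : Row1354 G) (h1355 : Row1355 G) (h1356 : Row1356 G)
    (h1357 : Row1357 G) (h1363 : Row1363 G)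
    (h1364 : Row1364 G) (h1365 : Row1365 G) (h1366 : Row1366 G) (h1368 : Row1368 G)
    (h1370 : Row1370 G) (hG : IsMinSimpleOddOrder G)
    (M : Subgroup G) (hM : IsCoatom M) (K U : Subgroup G) (hKU : IsSigmaDecomposition M K U) :
    (IsOfTypeIII M ∨ IsOfTypeIV M) ↔
      (K ≠ ⊥ ∧ U = ⊥ ∧ fittingHallOf M ≠ sigmaCore M) := by
  obtain ⟨-, hFσ, hσd, -, hnilq⟩ := h1355 hG M hM
  constructor
  · intro h
    obtain ⟨W₁, U', W₂, hT, hU'1, hNU'⟩ : ∃ W₁ U' W₂ : Subgroup G, IsTypePWith M W₁ U' W₂ ∧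
        U' ≠ ⊥ ∧ Subgroup.normalizer (U' : Set G) ≤ M := by
      rcases h with ⟨W₁, U', W₂, hT, hU'1, -, -, -, hNU'⟩ | ⟨W₁, U', W₂, hT, hU'1, -, -, -, hNU'⟩
      · exact ⟨W₁, U', W₂, hT, hU'1, hNU'⟩
      · exact ⟨W₁, U', W₂, hT, hU'1, hNU'⟩
    have hK1 : K ≠ ⊥ := K_ne_bot_of_typeP hG hM hFσ hσd hT hKU.hall
    have hP := pfacts_of_rows h1354 h1355 h1356 h1364 h1365 h1366 h1368 h1370 hG hM hKU hK1
    have hU : U = ⊥ := by
      by_contra hU1
      have hMF : fittingHallOf M = sigmaCore M := by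
        by_contra hne
        exact hU1 (h1357 hG M hM K U hKU hne).1
      obtain ⟨-, hNU⟩ := h1363 hG M hM K U hKU hK1
      have hUc' : IsComplIn (fittingHallOf M) U ⁅M, M⁆ := by
        rw [hMF, hP.der]; exact decomp_compl_U hKU
      have hdM : (⁅M, M⁆ : Subgroup G) ≤ M := BGB.comm_le_self M
      have hdtop : (⁅M, M⁆ : Subgroup G) ≠ ⊤ := by
        intro h
        apply hM.1
        rw [eq_top_iff, ← h]; exact hdM
      have hcop : (Nat.card (fittingHallOf M)).Coprime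
          ((fittingHallOf M).relIndex ⁅M, M⁆) := by
        apply Nat.Coprime.coprime_dvd_right _ (FittingHall.fittingHallOf_coprime M)
        rw [← Subgroup.relIndex_mul_relIndex (fittingHallOf M) ⁅M, M⁆ M hUc'.1 hdM]
        exact dvd_mul_right _ _
      obtain ⟨x, hx, e⟩ := compl_conj (BG7.isSolvable_of_ne_top hG hdtop) hcop hUc' hT.U_compl
      apply hNU
      have h1 : BG7.cj x (Subgroup.normalizer (U : Set G)) ≤ M := by
        rw [BT.cj_normalizer, ← e]; exact hNU'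
      have h2 := BG7.cj_mono (k := x⁻¹) h1
      rw [BG7.cj_inv_cj, Cfsg.Agent.Lib.Helper2.BGH.cj_self_of_mem
        (M.inv_mem (hdM hx))] at h2
      exact h2
    refine ⟨hK1, hU, fun hMF => hU'1 ?_⟩
    have hd := hP.derived_eq_of_bot hU
    have hc := hT.U_compl
    rw [eq_bot_iff, ← hc.2.2.1]
    refine le_inf ?_ le_rfl
    rw [hMF, ← hd]; exact hc.2.1
  · rintro ⟨hK1, hU, hne⟩
    have hP := pfacts_of_rows h1354 h1355 h1356 h1364 h1365 h1366 h1368 h1370 hG hM hKU hK1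
    have hd := hP.derived_eq_of_bot hU
    obtain ⟨-, hTI, hKp⟩ := h1357 hG M hM K U hKU hne
    obtain ⟨U', hU'K, hU'c⟩ := exists_inv_compl hG hM hKU.hall hFσ
    have hU'n : Group.IsNilpotent ↥U' :=
      isNilpotent_of_derived_quotient hnilq (hd ▸ hU'c.2.1) hU'c.2.2.1
    have hT := hP.isTypePWith hU'n hU'K (hd ▸ hU'c)
    have hU'1 : U' ≠ ⊥ := by
      intro h
      apply hne
      apply le_antisymm hFσ
      intro s hs
      obtain ⟨f, hf, c, hc, rfl⟩ := hU'c.2.2.2 s hs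
      rw [h, Subgroup.mem_bot] at hc
      rw [hc, mul_one]; exact hf
    have hNU' : Subgroup.normalizer (U' : Set G) ≤ M :=
      normalizer_le_of_hall_sigmaCore hG hM hU'c.2.1 hU'1 (compl_hall hU'c)
    by_cases hc : IsMulCommutative ↥U'
    · exact Or.inl ⟨K, U', _, hT, hU'1, hKp, hTI, hc, hNU'⟩
    · exact Or.inr ⟨K, U', _, hT, hU'1, hKp, hTI, hc, hNU'⟩

end Cfsg.Agent.Lib.Helper3.BG17
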