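import Mathlib

set_option autoImplicit false

namespace Cfsg.Agent.Lib.Helper3

/-- A finite group is not the union of the conjugates of a proper subgroup. -/
theorem eq_top_of_conj_cover {G : Type*} [Group G] [Finite G] (T : Subgroup G)
    (h : ∀ y : G, ∃ c : G, c⁻¹ * y * c ∈ T) : T = ⊤ := by
  classical
  let f : (G ⧸ T) × T → G := fun x => x.1.out * (x.2 : G) * x.1.out⁻¹
  have hsurj : Function.Surjective f := by
    intro y
    obtain ⟨c, hc⟩ := h y
    obtain ⟨t₀, ht₀⟩ := QuotientGroup.mk_out_eq_mul T c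
    refine ⟨((c : G ⧸ T), ⟨(t₀ : G)⁻¹ * (c⁻¹ * y * c) * t₀,
      T.mul_mem (T.mul_mem (T.inv_mem t₀.2) hc) t₀.2⟩), ?_⟩
    simp only [f]
    rw [ht₀]
    group
  have hinj : Function.Injective f :=
    (Finite.injective_iff_surjective_of_equiv
      (Subgroup.groupEquivQuotientProdSubgroup (s := T)).symm).2 hsurj
  rw [eq_top_iff]
  intro g _
  have h1 : f ((g : G ⧸ T), 1) = f (((1 : G) : G ⧸ T), 1) := by
    simp [f]
  have h2 := hinj h1
  have h3 : ((g : G) : G ⧸ T) = ((1 : G) : G ⧸ T) := (Prod.ext_iff.1 h2).1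
  have h4 := (QuotientGroup.eq (s := T)).1 h3
  simpa using h4

end Cfsg.Agent.Lib.Helper3
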