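import Mathlib
import Cfsg.Prelude.Def_IsolatedElements
import Cfsg.Agent.Lib.Helper4.Huppert
import Cfsg.Agent.Lib.Helper1.SubnormalSylow
import Cfsg.Agent.Lib.Helper1.SubnormalFitting
import Cfsg.Agent.Lib.Helper1.FittingCentralizer
import Cfsg.Agent.Lib.Helper1.NormalPComplement
import Cfsg.Agent.Lib.Helper2.Components2
import Cfsg.Agent.Lib.Helper8.FStar
import Cfsg.Agent.Lib.Helper8.CompCent2

set_option autoImplicit false
set_option maxHeartbeats 4000000
set_option linter.unusedVariables false
set_option linter.unusedSectionVars false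
set_option linter.style.longLine false
set_option linter.unusedSimpArgs false
set_option linter.deprecated false
set_option linter.style.haveILetI false

/-!
# Isolated elements of order `p` in groups of `p`-rank at most 2 (S3049)
General lemmas: a weak-closure criterion for a normal `p`-complement, isolated elements in `p`-groups.
-/

open scoped commutatorElement Pointwise
universe u
namespace Cfsg.Agent.Lib.Helper3.Iso

open Cfsg

/-- weak closure of the elements of order `p` of a Sylow `p`-subgroup gives a normal `p`-complement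
(`p` odd) -/
theorem npc_of_wc {X : Type u} [Group X] [Finite X] {p : ℕ} [Fact p.Prime] (hp2 : p ≠ 2)
    (P : Sylow p X)
    (hwc : ∀ a ∈ (P : Subgroup X), a ^ p = 1 → ∀ u : X, u * a * u⁻¹ ∈ (P : Subgroup X) →
      u * a * u⁻¹ = a) : Cfsg.HasNormalPComplement p X := by
  apply Cfsg.Agent.Lib.Helper4.Huppert.hasNormalPComplement_of_omega
  intro Q hQ g hg hgo a ha hap
  rcases hap with hap | ⟨h2, _⟩
  swap
  · exact absurd h2 hp2
  obtain ⟨P', hP'⟩ := hQ.exists_le_sylow
  obtain ⟨c, hc⟩ := MulAction.exists_smul_eq X P P'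
  have hmem : ∀ y ∈ Q, c⁻¹ * y * c ∈ (P : Subgroup X) := by
    intro y hy
    have h1 : y ∈ (P' : Subgroup X) := hP' hy
    rw [← hc, Sylow.coe_subgroup_smul, Subgroup.mem_pointwise_smul_iff_inv_smul_mem] at h1
    simpa [MulAut.smul_def, MulAut.conj_apply] using h1
  have h1 := hmem a ha
  have h2 : c⁻¹ * (g * a * g⁻¹) * c ∈ (P : Subgroup X) :=
    hmem _ ((Subgroup.mem_normalizer_iff.mp hg a).mp ha)
  have h3 : (c⁻¹ * a * c) ^ p = 1 := by
    have : c⁻¹ * a * c = c⁻¹ * a * c⁻¹⁻¹ := by rw [inv_inv]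
    rw [this, conj_pow, hap]; simp
  have h4 := hwc _ h1 h3 (c⁻¹ * g * c)
    (by
      have e : c⁻¹ * g * c * (c⁻¹ * a * c) * (c⁻¹ * g * c)⁻¹ = c⁻¹ * (g * a * g⁻¹) * c := by group
      rw [e]; exact h2)
  have e : c⁻¹ * g * c * (c⁻¹ * a * c) * (c⁻¹ * g * c)⁻¹ = c⁻¹ * (g * a * g⁻¹) * c := by group
  rw [e] at h4
  have h5 : g * a * g⁻¹ = a := by
    have := congrArg (fun t => c * t * c⁻¹) h4
    simpa [mul_assoc] using this
  calc g * a = (g * a * g⁻¹) * g := by group
    _ = a * g := by rw [h5]

variable {G : Type u} [Group G]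

/-- an isolated element of a `p`-subgroup is central in it -/
theorem isolated_central_of_pgroup [Finite G] {p : ℕ} [Fact p.Prime] {x : G} (hiso : IsIsolated x)
    {P : Subgroup G} (hP : IsPGroup p P) (hxP : x ∈ P) : ∀ y ∈ P, Commute x y := by
  by_contra hcon
  push Not at hcon
  obtain ⟨y₀, hy₀P, hy₀⟩ := hcon
  haveI : Group.IsNilpotent P := hP.isNilpotent
  have hnc := normalizerCondition_of_isNilpotent (G := P)
  let C : Subgroup P := (Subgroup.centralizer ({x} : Set G)).subgroupOf P
  have hClt : C < ⊤ := by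
    rw [lt_top_iff_ne_top]
    intro h
    have : (⟨y₀, hy₀P⟩ : P) ∈ C := h ▸ Subgroup.mem_top _
    have h2 : y₀ ∈ Subgroup.centralizer ({x} : Set G) := Subgroup.mem_subgroupOf.mp this
    exact hy₀ (Subgroup.mem_centralizer_singleton_iff.mp h2).symm
  have h1 := hnc C hClt
  obtain ⟨y, hyN, hyC⟩ := SetLike.exists_of_lt h1
  have hxC : (⟨x, hxP⟩ : P) ∈ C := by
    show x ∈ Subgroup.centralizer ({x} : Set G)
    exact Subgroup.mem_centralizer_singleton_iff.mpr rfl
  have h2 : y * ⟨x, hxP⟩ * y⁻¹ ∈ C := (Subgroup.mem_normalizer_iff.mp hyN _).mp hxC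
  have h3 : (y : G) * x * (y : G)⁻¹ ∈ Subgroup.centralizer ({x} : Set G) := by
    have := Subgroup.mem_subgroupOf.mp h2
    simpa using this
  have h4 : Commute x ((y : G) * x * (y : G)⁻¹) :=
    (Subgroup.mem_centralizer_singleton_iff.mp h3).symm
  have h5 := hiso _ h4
  apply hyC
  show (y : G) ∈ Subgroup.centralizer ({x} : Set G)
  rw [Subgroup.mem_centralizer_singleton_iff]
  calc (y : G) * x = ((y : G) * x * (y : G)⁻¹) * y := by group
    _ = x * y := by rw [h5]

/-- an isolated element centralizing a normal subgroup containing it is central -/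
theorem isolated_mem_center {x : G} (hiso : IsIsolated x) {N : Subgroup G} (hN : N.Normal)
    (hxN : x ∈ N) (hc : ∀ y ∈ N, Commute x y) : x ∈ Subgroup.center G := by
  rw [Subgroup.mem_center_iff]
  intro g
  have h1 := hiso g (hc _ (hN.conj_mem x hxN g))
  calc g * x = (g * x * g⁻¹) * g := by group
    _ = x * g := by rw [h1]

/-- `n`-th powers are trivial on the closure of a commuting set of elements of exponent `n` -/
theorem pow_eq_one_of_mem_closure {k : Set G} (hcomm : ∀ x ∈ k, ∀ y ∈ k, x * y = y * x) {n : ℕ}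
    (hk : ∀ x ∈ k, x ^ n = 1) : ∀ g ∈ Subgroup.closure k, g ^ n = 1 := by
  have hA := Subgroup.isMulCommutative_closure hcomm
  intro g hg
  induction hg using Subgroup.closure_induction with
  | mem x hx => exact hk x hx
  | one => simp
  | mul x y hx hy ihx ihy =>
    have hc : Commute x y := by
      have := hA.is_comm.comm ⟨x, hx⟩ ⟨y, hy⟩
      exact congrArg Subtype.val this
    rw [hc.mul_pow, ihx, ihy, one_mul]
  | inv x hx ih => rw [inv_pow, ih, inv_one]

end Cfsg.Agent.Lib.Helper3.Iso
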