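import Mathlib
import Cfsg.Agent.Lib.Helper3.Iso1
import Cfsg.Agent.Lib.Helper1.PCore

set_option autoImplicit false
set_option maxHeartbeats 4000000
set_option linter.unusedVariables false
set_option linter.unusedSectionVars false
set_option linter.style.longLine false
set_option linter.unusedSimpArgs false
set_option linter.deprecated false
set_option linter.style.haveILetI false

/-!
# Isolated elements of order `p` in groups of `p`-rank at most 2 (S3049)
Rank lemmas, the weak-closure lemma, `O_p(G) = 1`.
-/

open scoped commutatorElement Pointwise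
universe u
namespace Cfsg.Agent.Lib.Helper3.Iso

open Cfsg Cfsg.Agent.Lib.Helper1

variable {G : Type u} [Group G] [Finite G]

/-- `p² ≤ |⟨a, b⟩|` for independent commuting `a`, `b` of order `p` -/
theorem sq_le_card_closure_pair {p : ℕ} [hp : Fact p.Prime] {a b : G} (hab : Commute a b)
    (ha : a ^ p = 1) (hb : b ^ p = 1) (ha1 : a ≠ 1) (hb' : b ∉ Subgroup.zpowers a) :
    p ^ 2 ≤ Nat.card (Subgroup.closure ({a, b} : Set G)) := by
  have hcomm : ∀ x ∈ ({a, b} : Set G), ∀ y ∈ ({a, b} : Set G), x * y = y * x := by
    intro x hx y hy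
    rcases hx with rfl | rfl <;> rcases hy with rfl | rfl
    · rfl
    · exact hab.eq
    · exact hab.eq.symm
    · rfl
  have hexp : ∀ g ∈ Subgroup.closure ({a, b} : Set G), g ^ p = 1 :=
    pow_eq_one_of_mem_closure hcomm (by
      intro x hx
      rcases hx with rfl | rfl
      · exact ha
      · exact hb)
  have hpg : IsPGroup p (Subgroup.closure ({a, b} : Set G)) := by
    intro g
    refine ⟨1, ?_⟩
    apply Subtype.ext
    simpa using hexp g g.2
  obtain ⟨k, hk⟩ := hpg.exists_card_eq
  rw [hk]
  by_contra hlt
  push Not at hlt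
  have hk1 : k ≤ 1 := by
    by_contra h
    push Not at h
    exact absurd (Nat.pow_le_pow_right hp.out.pos h) (not_le.mpr hlt)
  have hle : Subgroup.zpowers a ≤ Subgroup.closure ({a, b} : Set G) := by
    rw [Subgroup.zpowers_le]
    exact Subgroup.subset_closure (by simp)
  have hca : Nat.card (Subgroup.zpowers a) = p := by
    rw [Nat.card_zpowers]
    exact orderOf_eq_prime ha ha1
  have hcard : Nat.card (Subgroup.closure ({a, b} : Set G)) ≤ Nat.card (Subgroup.zpowers a) := by
    rw [hk, hca]
    calc p ^ k ≤ p ^ 1 := Nat.pow_le_pow_right hp.out.pos hk1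
      _ = p := pow_one p
  have heq := Subgroup.eq_of_le_of_card_ge hle hcard
  apply hb'
  rw [heq]
  exact Subgroup.subset_closure (by simp)

/-- in a group of `p`-rank at most 2 an element of order `p` commuting with two independent commuting
elements of order `p` lies in the subgroup they generate -/
theorem mem_closure_pair_of_rank {p : ℕ} [hp : Fact p.Prime] (hrank : PRankLE p 2 G) {a b c : G}
    (hab : Commute a b) (hac : Commute a c) (hbc : Commute b c)
    (ha : a ^ p = 1) (hb : b ^ p = 1) (hc : c ^ p = 1) (ha1 : a ≠ 1)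
    (hb' : b ∉ Subgroup.zpowers a) : c ∈ Subgroup.closure ({a, b} : Set G) := by
  have hcomm : ∀ x ∈ ({a, b, c} : Set G), ∀ y ∈ ({a, b, c} : Set G), x * y = y * x := by
    intro x hx y hy
    rcases hx with rfl | rfl | rfl <;> rcases hy with rfl | rfl | rfl
    · rfl
    · exact hab.eq
    · exact hac.eq
    · exact hab.eq.symm
    · rfl
    · exact hbc.eq
    · exact hac.eq.symm
    · exact hbc.eq.symm
    · rfl
  have hexp : ∀ g ∈ Subgroup.closure ({a, b, c} : Set G), g ^ p = 1 :=
    pow_eq_one_of_mem_closure hcomm (by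
      intro x hx
      rcases hx with rfl | rfl | rfl
      · exact ha
      · exact hb
      · exact hc)
  have hA := Subgroup.isMulCommutative_closure hcomm
  have h1 : Nat.card (Subgroup.closure ({a, b, c} : Set G)) ≤ p ^ 2 := hrank _ hA hexp
  have h2 := sq_le_card_closure_pair hab ha hb ha1 hb'
  have hle : Subgroup.closure ({a, b} : Set G) ≤ Subgroup.closure ({a, b, c} : Set G) := by
    apply Subgroup.closure_mono
    intro y hy
    rcases hy with rfl | rfl
    · simp
    · simp
  have heq := Subgroup.eq_of_le_of_card_ge hle (h1.trans h2)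
  rw [heq]
  exact Subgroup.subset_closure (by simp)

/-- the weak-closure lemma: `x` isolated and central in the Sylow `p`-subgroup `S`; `H` a subgroup
centralizing the element `t ∈ S` of order `p`, with `x ∉ ⟨t⟩`. Then every element of order `p` of
`S ∩ H` is weakly closed in `S` with respect to `H`. -/
theorem wc_lemma {p : ℕ} [hp : Fact p.Prime] (hrank : PRankLE p 2 G) {x : G} (hx : x ^ p = 1)
    (hiso : IsIsolated x) {S : Subgroup G} (hxS : ∀ y ∈ S, Commute x y) {H : Subgroup G} {t : G}
    (htS : t ∈ S) (htp : t ^ p = 1) (ht1 : t ≠ 1) (hHt : ∀ h ∈ H, Commute h t)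
    (hxt : x ∉ Subgroup.zpowers t) :
    ∀ a ∈ S, a ∈ H → a ^ p = 1 → ∀ u ∈ H, u * a * u⁻¹ ∈ S → u * a * u⁻¹ = a := by
  intro a haS haH hap u hu ha'S
  have hut : Commute u t := hHt u hu
  by_cases hat : a ∈ Subgroup.zpowers t
  · have : Subgroup.zpowers t ≤ Subgroup.centralizer ({u} : Set G) := by
      rw [Subgroup.zpowers_le, Subgroup.mem_centralizer_singleton_iff]
      exact hut.symm.eq
    have h1 := Subgroup.mem_centralizer_singleton_iff.mp (this hat)
    calc u * a * u⁻¹ = (a * u) * u⁻¹ := by rw [h1]
      _ = a := by group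
  · have hta : Commute t a := (hHt a haH).symm
    have htx : Commute t x := (hxS t htS).symm
    have hax : Commute a x := (hxS a haS).symm
    have hx1 : x ∈ Subgroup.closure ({t, a} : Set G) :=
      mem_closure_pair_of_rank hrank hta htx hax htp hap hx ht1 hat
    -- conjugate by `u`
    have h2 : Subgroup.closure ({t, a} : Set G) ≤
        (Subgroup.closure ({t, u * a * u⁻¹} : Set G)).comap (MulAut.conj u).toMonoidHom := by
      rw [Subgroup.closure_le]
      intro y hy
      rw [SetLike.mem_coe, Subgroup.mem_comap, MulEquiv.coe_toMonoidHom, MulAut.conj_apply]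
      rcases hy with hy | hy
      · rw [hy]
        have : u * t * u⁻¹ = t := by
          calc u * t * u⁻¹ = (t * u) * u⁻¹ := by rw [hut.eq]
            _ = t := by group
        rw [this]
        exact Subgroup.subset_closure (by simp)
      · rw [hy]
        exact Subgroup.subset_closure (by simp)
    have h3 : u * x * u⁻¹ ∈ Subgroup.closure ({t, u * a * u⁻¹} : Set G) := by
      have := h2 hx1
      simpa [MulAut.conj_apply] using this
    have h4 : Subgroup.closure ({t, u * a * u⁻¹} : Set G) ≤ S := by
      rw [Subgroup.closure_le]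
      intro y hy
      rcases hy with rfl | rfl
      · exact htS
      · exact ha'S
    have h5 : u * x * u⁻¹ = x := hiso u (hxS _ (h4 h3))
    have hux : Commute u x := by
      show u * x = x * u
      calc u * x = (u * x * u⁻¹) * u := by group
        _ = x * u := by rw [h5]
    have h6 : a ∈ Subgroup.closure ({t, x} : Set G) :=
      mem_closure_pair_of_rank hrank htx hta hax.symm htp hx hap ht1 hxt
    have h7 : Subgroup.closure ({t, x} : Set G) ≤ Subgroup.centralizer ({u} : Set G) := by
      rw [Subgroup.closure_le]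
      intro y hy
      rcases hy with rfl | rfl
      · exact Subgroup.mem_centralizer_singleton_iff.mpr hut.symm.eq
      · exact Subgroup.mem_centralizer_singleton_iff.mpr hux.symm.eq
    have h8 := Subgroup.mem_centralizer_singleton_iff.mp (h7 h6)
    calc u * a * u⁻¹ = (a * u) * u⁻¹ := by rw [h8]
      _ = a := by group

/-- a normal subgroup with a normal `p`-complement is a `p`-group when `O_{p'}(G) = 1` -/
theorem normal_npc_isPGroup {p : ℕ} [hp : Fact p.Prime] (hcore : pPrimeCore p G = ⊥)
    {C : Subgroup G} (hC : C.Normal) (h : Cfsg.HasNormalPComplement p C) : IsPGroup p C := by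
  obtain ⟨P, N, hNn, hN⟩ := h
  haveI := hNn
  have hmem := mem_normal_complement_iff P N hN
  have hMn : (N.map C.subtype).Normal := by
    constructor
    intro m hm g
    obtain ⟨n, hn, rfl⟩ := hm
    have h1 : g * (n : G) * g⁻¹ ∈ C := hC.conj_mem _ n.2 g
    refine ⟨⟨g * (n : G) * g⁻¹, h1⟩, ?_, rfl⟩
    have h2 := (hmem n).mp hn
    have h3 : orderOf (⟨g * (n : G) * g⁻¹, h1⟩ : C) = orderOf n := by
      rw [← Subgroup.orderOf_coe, ← Subgroup.orderOf_coe]
      show orderOf (g * (n : G) * g⁻¹) = orderOf (n : G)
      have := MulEquiv.orderOf_eq (MulAut.conj g) (n : G)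
      rwa [MulAut.conj_apply] at this
    apply (hmem _).mpr
    rw [h3]; exact h2
  have hcardN : (Nat.card N).Coprime p := by
    have hcardN : Nat.card N = (P : Subgroup C).index := hN.index_eq_card.symm
    rw [Nat.coprime_comm, hp.out.coprime_iff_not_dvd, hcardN]
    exact P.not_dvd_index
  have hcardM : (Nat.card (N.map C.subtype)).Coprime p := by
    rw [Nat.card_congr (Subgroup.equivMapOfInjective N C.subtype C.subtype_injective).symm.toEquiv]
    exact hcardN
  have hM : N.map C.subtype ≤ pPrimeCore p G := le_pPrimeCore hMn hcardM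
  rw [hcore, le_bot_iff] at hM
  have hNb : N = ⊥ := by
    rw [← Subgroup.map_eq_bot_iff_of_injective N C.subtype_injective]; exact hM
  rw [hNb] at hN
  have hPt : (P : Subgroup C) = ⊤ := Subgroup.isComplement'_bot_left.mp hN
  intro g
  have hg : g ∈ (P : Subgroup C) := hPt ▸ Subgroup.mem_top g
  obtain ⟨k, hk⟩ := P.2 ⟨g, hg⟩
  exact ⟨k, congrArg Subtype.val hk⟩

/-- a perfect group with a normal `p`-complement has order prime to `p` -/
theorem perfect_npc_coprime {X : Type u} [Group X] [Finite X] {p : ℕ} [hp : Fact p.Prime]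
    (hperf : Group.IsPerfect X) (h : Cfsg.HasNormalPComplement p X) : (Nat.card X).Coprime p := by
  obtain ⟨P, N, hNn, hN⟩ := h
  haveI := hNn
  haveI := hperf
  have hidx : N.index = Nat.card P := hN.symm.index_eq_card
  have hq : IsPGroup p (X ⧸ N) := by
    obtain ⟨k, hk⟩ := P.2.exists_card_eq
    apply IsPGroup.of_card (n := k)
    have h1 : Nat.card (X ⧸ N) = N.index := (Subgroup.index_eq_card N).symm
    rw [h1, hidx, hk]
  haveI : Group.IsNilpotent (X ⧸ N) := hq.isNilpotent
  have hsub : Subsingleton (X ⧸ N) := by
    by_contra hns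
    rw [not_subsingleton_iff_nontrivial] at hns
    haveI := hns
    exact Group.IsPerfect.not_isNilpotent (X ⧸ N) inferInstance
  have hNt : N = ⊤ := QuotientGroup.subgroup_eq_top_of_subsingleton N hsub
  have hcardN : (Nat.card N).Coprime p := by
    have hcardN : Nat.card N = (P : Subgroup X).index := hN.index_eq_card.symm
    rw [Nat.coprime_comm, hp.out.coprime_iff_not_dvd, hcardN]
    exact P.not_dvd_index
  rw [hNt] at hcardN
  rwa [Subgroup.card_top] at hcardN

end Cfsg.Agent.Lib.Helper3.Iso
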