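import Mathlib
import Cfsg.Agent.Lib.Helper3.Iso2

set_option autoImplicit false
set_option maxHeartbeats 4000000
set_option linter.unusedVariables false
set_option linter.unusedSectionVars false
set_option linter.style.longLine false
set_option linter.unusedSimpArgs false
set_option linter.deprecated false
set_option linter.style.haveILetI false

/-!
# Isolated elements of order `p` in groups of `p`-rank at most 2 (S3049)
`O_p(G) = 1`; uniqueness of the component; the theorem.
-/

open scoped commutatorElement Pointwise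
universe u
namespace Cfsg.Agent.Lib.Helper3.Iso

open Cfsg Cfsg.Agent.Lib.Helper1

variable {G : Type u} [Group G] [Finite G]

/-- the weak-closure lemma gives a normal `p`-complement in a subnormal subgroup -/
theorem npc_of_wc_subnormal {p : ℕ} [hp : Fact p.Prime] (hp2 : p ≠ 2) (S : Sylow p G)
    {H : Subgroup G} (hH : H.IsSubnormal)
    (hwc : ∀ a ∈ (S : Subgroup G), a ∈ H → a ^ p = 1 → ∀ u ∈ H, u * a * u⁻¹ ∈ (S : Subgroup G) →
      u * a * u⁻¹ = a) : Cfsg.HasNormalPComplement p H := by
  obtain ⟨T, hT⟩ := subnormal_inf_sylow p H hH S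
  apply npc_of_wc hp2 T
  intro a ha hap u hu
  have haS : (a : G) ∈ (S : Subgroup G) := by
    rw [hT] at ha; exact Subgroup.mem_subgroupOf.mp ha
  have huS : (u : G) * (a : G) * (u : G)⁻¹ ∈ (S : Subgroup G) := by
    rw [hT] at hu
    have := Subgroup.mem_subgroupOf.mp hu
    simpa using this
  have hap' : (a : G) ^ p = 1 := by
    have := congrArg Subtype.val hap
    simpa using this
  apply Subtype.ext
  have := hwc (a : G) haS a.2 hap' (u : G) u.2 huS
  simpa using this

/-- an element of order `p` in `S ∩ K` for `K` subnormal of order divisible by `p` -/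
theorem exists_order_p_inf_sylow {p : ℕ} [hp : Fact p.Prime] (S : Sylow p G) {K : Subgroup G}
    (hK : K.IsSubnormal) (hdvd : p ∣ Nat.card K) :
    ∃ t ∈ (S : Subgroup G), t ∈ K ∧ orderOf t = p := by
  obtain ⟨T, hT⟩ := subnormal_inf_sylow p K hK S
  have h1 : p ∣ Nat.card (T : Subgroup K) := by
    rw [Sylow.card_eq_multiplicity]
    have h2 : (Nat.card K).factorization p ≠ 0 := by
      have hpos : Nat.card K ≠ 0 := Nat.card_pos.ne'
      have := (hp.out.dvd_iff_one_le_factorization hpos).mp hdvd
      omega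
    exact dvd_pow_self p h2
  obtain ⟨t, ht⟩ := exists_prime_orderOf_dvd_card' p h1
  refine ⟨((t : K) : G), ?_, (t : K).2, ?_⟩
  · have h3 : (t : K) ∈ (S : Subgroup G).subgroupOf K := by
      rw [← hT]; exact t.2
    exact Subgroup.mem_subgroupOf.mp h3
  · rw [Subgroup.orderOf_coe, Subgroup.orderOf_coe]; exact ht

/-- Step 1: `O_p(G) = 1` -/
theorem pCore_eq_bot_of_isolated {p : ℕ} [hp : Fact p.Prime] (hp2 : p ≠ 2)
    (hcore : pPrimeCore p G = ⊥) (hrank : PRankLE p 2 G) {x : G} (hx : orderOf x = p)
    (hiso : IsIsolated x) (hnc : x ∉ Subgroup.center G) : pCore p G = ⊥ := by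
  by_contra hQ
  have hQn : (pCore p G).Normal := Cfsg.Agent.Lib.Helper1.pCore_normal p
  have hQp : IsPGroup p (pCore p G) := Cfsg.Agent.Lib.Helper1.pCore_isPGroup p
  have hxp : IsPGroup p (Subgroup.zpowers x) :=
    IsPGroup.of_card (n := 1) (by rw [Nat.card_zpowers, hx, pow_one])
  obtain ⟨S, hS⟩ := hxp.exists_le_sylow
  have hxS : x ∈ (S : Subgroup G) := hS (Subgroup.mem_zpowers x)
  have hxc : ∀ y ∈ (S : Subgroup G), Commute x y := isolated_central_of_pgroup hiso S.2 hxS
  have hQS : pCore p G ≤ S := pCore_le_sylow p S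
  have hxpow : x ^ p = 1 := by rw [← hx]; exact pow_orderOf_eq_one x
  have hCn : (Subgroup.centralizer (pCore p G : Set G)).Normal := by
    haveI := hQn
    exact Subgroup.normal_centralizer
  have hxC : x ∈ Subgroup.centralizer (pCore p G : Set G) := by
    rw [Subgroup.mem_centralizer_iff]
    intro q hq
    exact (hxc q (hQS hq)).eq.symm
  -- an element of order `p` in `Z(Q)`
  haveI : Nontrivial (pCore p G) := (Subgroup.nontrivial_iff_ne_bot _).mpr hQ
  haveI : Nontrivial (Subgroup.center (pCore p G)) := hQp.center_nontrivial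
  have hZp : IsPGroup p (Subgroup.center (pCore p G)) := hQp.to_subgroup _
  have hdvd : p ∣ Nat.card (Subgroup.center (pCore p G)) := by
    obtain ⟨k, hk⟩ := hZp.exists_card_eq
    rw [hk]
    have hk0 : k ≠ 0 := by
      rintro rfl
      rw [pow_zero] at hk
      have := Finite.one_lt_card (α := Subgroup.center (pCore p G))
      omega
    exact dvd_pow_self p hk0
  obtain ⟨z', hz'⟩ := exists_prime_orderOf_dvd_card' p hdvd
  have hzQ : (((z' : pCore p G)) : G) ∈ pCore p G := (z' : pCore p G).2
  have hzo : orderOf (((z' : pCore p G)) : G) = p := by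
    rw [Subgroup.orderOf_coe, Subgroup.orderOf_coe]; exact hz'
  have hzc : ∀ q ∈ pCore p G, q * (((z' : pCore p G)) : G) = (((z' : pCore p G)) : G) * q := by
    intro q hq
    have := Subgroup.mem_center_iff.mp z'.2 ⟨q, hq⟩
    exact congrArg Subtype.val this
  generalize (((z' : pCore p G)) : G) = z at hzQ hzo hzc
  have hzpow : z ^ p = 1 := by rw [← hzo]; exact pow_orderOf_eq_one z
  have hz1 : z ≠ 1 := by
    rintro rfl
    rw [orderOf_one] at hzo
    exact hp.out.one_lt.ne hzo
  have hCz : ∀ c ∈ Subgroup.centralizer (pCore p G : Set G), Commute c z := by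
    intro c hc
    exact ((Subgroup.mem_centralizer_iff.mp hc) z hzQ).symm
  have hxz : x ∉ Subgroup.zpowers z := by
    intro h
    have hxQ : x ∈ pCore p G := (Subgroup.zpowers_le.mpr hzQ) h
    apply hnc
    apply isolated_mem_center hiso hCn hxC
    intro c hc
    exact ((Subgroup.mem_centralizer_iff.mp hc) x hxQ)
  have wc := wc_lemma hrank hxpow hiso hxc (H := Subgroup.centralizer (pCore p G : Set G))
    (hQS hzQ) hzpow hz1 hCz hxz
  have hnpc := npc_of_wc_subnormal hp2 S hCn.isSubnormal wc
  have hCp := normal_npc_isPGroup hcore hCn hnpc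
  have hCQ : Subgroup.centralizer (pCore p G : Set G) ≤ pCore p G := le_pCore hCn hCp
  apply hnc
  apply isolated_mem_center hiso hCn hxC
  intro c hc
  exact ((Subgroup.mem_centralizer_iff.mp hxC) c (hCQ hc)).symm

end Cfsg.Agent.Lib.Helper3.Iso
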