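import Mathlib
import Cfsg.Agent.Lib.Helper3.Iso3

set_option autoImplicit false
set_option maxHeartbeats 4000000
set_option linter.unusedVariables false
set_option linter.unusedSectionVars false
set_option linter.style.longLine false
set_option linter.unusedSimpArgs false
set_option linter.deprecated false
set_option linter.style.haveILetI false

/-!
# Isolated elements of order `p` in groups of `p`-rank at most 2 (S3049)
Uniqueness of the component; the theorem.
-/

open scoped commutatorElement Pointwise
universe u
namespace Cfsg.Agent.Lib.Helper3.Iso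

open Cfsg Cfsg.Agent.Lib.Helper1 Cfsg.Agent.Lib.Helper2

variable {G : Type u} [Group G] [Finite G]

/-- components have trivial centre when `F(G) = 1` -/
theorem component_center_eq_bot (hF : fittingSubgroup G = ⊥) {K : Subgroup G}
    (hK : IsComponent K) : Subgroup.center K = ⊥ := by
  have h1 : ((Subgroup.center K).map K.subtype).IsSubnormal :=
    Subgroup.IsSubnormal.trans' (Subgroup.Normal.isSubnormal inferInstance) hK.1
  have h2 : Group.IsNilpotent ((Subgroup.center K).map K.subtype) := by
    apply isNilpotent_of_commutator_commutator_eq_bot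
    have h0 : ⁅(Subgroup.center K).map K.subtype, (Subgroup.center K).map K.subtype⁆ = ⊥ := by
      rw [Subgroup.commutator_eq_bot_iff_le_centralizer]
      rintro _ ⟨a, ha, rfl⟩
      rw [Subgroup.mem_centralizer_iff]
      rintro _ ⟨b, hb, rfl⟩
      have := Subgroup.mem_center_iff.mp ha b
      exact congrArg Subtype.val this
    rw [h0]
    exact Subgroup.commutator_bot_left _
  have h3 := le_fittingSubgroup_of_isSubnormal_of_isNilpotent h1 h2
  rw [hF, le_bot_iff] at h3
  exact (Subgroup.map_eq_bot_iff_of_injective _ K.subtype_injective).mp h3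

/-- distinct components with trivial centres intersect trivially -/
theorem component_inf_eq_bot (hF : fittingSubgroup G = ⊥) {K₁ K₂ : Subgroup G}
    (h₁ : IsComponent K₁) (h₂ : IsComponent K₂) (hne : K₁ ≠ K₂) : K₁ ⊓ K₂ = ⊥ := by
  have hcomm : ⁅K₁, K₂⁆ = ⊥ := (isComponent_eq_or_commutator_eq_bot h₁ h₂).resolve_left hne
  rw [Subgroup.commutator_eq_bot_iff_le_centralizer] at hcomm
  rw [eq_bot_iff]
  intro y hy
  obtain ⟨hy1, hy2⟩ := Subgroup.mem_inf.mp hy
  have hc := component_center_eq_bot hF h₁
  have : (⟨y, hy1⟩ : K₁) ∈ Subgroup.center K₁ := by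
    rw [Subgroup.mem_center_iff]
    intro k
    apply Subtype.ext
    show (k : G) * y = y * k
    have := Subgroup.mem_centralizer_iff.mp (hcomm k.2) y hy2
    exact this.symm
  rw [hc, Subgroup.mem_bot] at this
  rw [Subgroup.mem_bot]
  exact congrArg Subtype.val this

/-- with two distinct components, the isolated element lies in each of them -/
theorem mem_component_of_two {p : ℕ} [hp : Fact p.Prime] (hp2 : p ≠ 2)
    (hcore : pPrimeCore p G = ⊥) (hrank : PRankLE p 2 G) {x : G} (hxpow : x ^ p = 1)
    (hiso : IsIsolated x) (S : Sylow p G) (hxc : ∀ y ∈ (S : Subgroup G), Commute x y)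
    {K₁ K₂ : Subgroup G} (h₁ : IsComponent K₁) (h₂ : IsComponent K₂) (hne : K₁ ≠ K₂) :
    x ∈ K₂ := by
  by_contra hx2
  have hcomm : ⁅K₁, K₂⁆ = ⊥ := (isComponent_eq_or_commutator_eq_bot h₁ h₂).resolve_left hne
  rw [Subgroup.commutator_eq_bot_iff_le_centralizer] at hcomm
  have hdvd2 : p ∣ Nat.card K₂ := by
    have := Cfsg.Agent.Lib.Helper8.CompCent.not_coprime_of_isComponent hcore h₂
    rw [Nat.coprime_comm, hp.out.coprime_iff_not_dvd, not_not] at this
    exact this
  obtain ⟨t, htS, htK, hto⟩ := exists_order_p_inf_sylow S h₂.1 hdvd2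
  have htpow : t ^ p = 1 := by rw [← hto]; exact pow_orderOf_eq_one t
  have ht1 : t ≠ 1 := by
    rintro rfl
    rw [orderOf_one] at hto
    exact hp.out.one_lt.ne hto
  have hHt : ∀ h ∈ K₁, Commute h t := by
    intro h hh
    exact (Subgroup.mem_centralizer_iff.mp (hcomm hh) t htK).symm
  have hxt : x ∉ Subgroup.zpowers t := fun h => hx2 ((Subgroup.zpowers_le.mpr htK) h)
  have wc := wc_lemma hrank hxpow hiso hxc (H := K₁) htS htpow ht1 hHt hxt
  have hnpc := npc_of_wc_subnormal hp2 S h₁.1 wc
  have hcop := perfect_npc_coprime h₁.2.1 hnpc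
  exact Cfsg.Agent.Lib.Helper8.CompCent.not_coprime_of_isComponent hcore h₁ hcop

/-- **S3049**: `p` odd, `O_{p'}(G) = 1`, `p`-rank at most 2, a non-central isolated element of order
`p`: then `F*(G)` is a non-abelian simple group. -/
theorem fstar_simple_of_isolated {p : ℕ} [hp : Fact p.Prime] (hp2 : p ≠ 2)
    (hcore : pPrimeCore p G = ⊥) (hrank : PRankLE p 2 G) {x : G} (hx : orderOf x = p)
    (hiso : IsIsolated x) (hnc : x ∉ Subgroup.center G) :
    IsSimpleGroup (generalizedFittingSubgroup G) ∧
      ¬ IsMulCommutative (generalizedFittingSubgroup G) := by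
  have hQ := pCore_eq_bot_of_isolated hp2 hcore hrank hx hiso hnc
  have hF : fittingSubgroup G = ⊥ := by
    rw [fittingSubgroup_eq_pCore_of_pPrimeCore_eq_bot p hcore, hQ]
  have hFs : generalizedFittingSubgroup G = layer G := by
    unfold generalizedFittingSubgroup
    rw [hF, sup_bot_eq]
  have hxpow : x ^ p = 1 := by rw [← hx]; exact pow_orderOf_eq_one x
  have hx1 : x ≠ 1 := by
    rintro rfl
    rw [orderOf_one] at hx
    exact hp.out.one_lt.ne hx
  have hxp : IsPGroup p (Subgroup.zpowers x) :=
    IsPGroup.of_card (n := 1) (by rw [Nat.card_zpowers, hx, pow_one])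
  obtain ⟨S, hS⟩ := hxp.exists_le_sylow
  have hxS : x ∈ (S : Subgroup G) := hS (Subgroup.mem_zpowers x)
  have hxc : ∀ y ∈ (S : Subgroup G), Commute x y := isolated_central_of_pgroup hiso S.2 hxS
  -- a component exists
  have hlne : layer G ≠ ⊥ := by
    intro h
    have h1 := Cfsg.Agent.Lib.Helper8.centralizer_generalizedFittingSubgroup_le (G := G)
    rw [hFs, h] at h1
    have : x ∈ Subgroup.centralizer ((⊥ : Subgroup G) : Set G) := by
      rw [Subgroup.mem_centralizer_iff]
      intro y hy
      have : y = 1 := hy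
      rw [this]; simp
    have := h1 this
    exact hx1 this
  have hex : ∃ K : Subgroup G, IsComponent K := by
    by_contra hno
    push Not at hno
    apply hlne
    unfold layer
    have : {K : Subgroup G | IsComponent K} = ∅ := by
      ext K; simp [hno K]
    rw [this, sSup_empty]
  obtain ⟨K, hK⟩ := hex
  have huniq : ∀ K' : Subgroup G, IsComponent K' → K' = K := by
    intro K' hK'
    by_contra hne
    have h1 := mem_component_of_two hp2 hcore hrank hxpow hiso S hxc hK' hK hne
    have h2 := mem_component_of_two hp2 hcore hrank hxpow hiso S hxc hK hK' (Ne.symm hne)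
    have h3 : x ∈ K' ⊓ K := Subgroup.mem_inf.mpr ⟨h2, h1⟩
    rw [component_inf_eq_bot hF hK' hK hne, Subgroup.mem_bot] at h3
    exact hx1 h3
  have hlK : layer G = K := by
    unfold layer
    have : {K' : Subgroup G | IsComponent K'} = {K} := by
      ext K'
      simp only [Set.mem_setOf_eq, Set.mem_singleton_iff]
      constructor
      · exact huniq K'
      · rintro rfl; exact hK
    rw [this, sSup_singleton]
  have hFK : generalizedFittingSubgroup G = K := hFs.trans hlK
  rw [hFK]
  have hc := component_center_eq_bot hF hK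
  refine ⟨isSimpleGroup_of_isQuasisimple hK.2 hc, ?_⟩
  haveI : Group.IsPerfect K := hK.2.1
  haveI : Nontrivial K := (Subgroup.nontrivial_iff_ne_bot _).mpr (isComponent_ne_bot hK)
  exact Group.IsPerfect.not_isMulCommutative K

end Cfsg.Agent.Lib.Helper3.Iso
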