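import Mathlib

set_option autoImplicit false

namespace Cfsg.Agent.Lib.Helper3.Zass
open Cfsg

section
variable {G Ω : Type*} [Group G] [Finite G] [MulAction G Ω] [Fintype Ω]

/-- counting lemma: in the stabilizer `S` of `a`, a subgroup `H` with `|H| + 1 = |Ω|` whose
non-identity elements fix only `a` contains every element of `S` fixing only `a`, provided
no nonidentity element fixes three points. -/
theorem mem_of_fixes_only (h3 : ∀ g : G, ∀ a b c : Ω, a ≠ b → b ≠ c → a ≠ c → g • a = a → g • b = b →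
      g • c = c → g = 1) (a : Ω) (H : Subgroup G)
    (hHa : H ≤ MulAction.stabilizer G a) (hHcard : Nat.card H + 1 = Fintype.card Ω)
    (hHfix : ∀ u ∈ H, u ≠ 1 → ∀ c : Ω, u • c = c → c = a) (b₀ : Ω) (hb₀ : b₀ ≠ a)
    (x : G) (hxa : x • a = a) (hx : ∀ c : Ω, x • c = c → c = a) : x ∈ H := by
  classical
  have : Fintype G := Fintype.ofFinite G
  -- H is regular on Ω \ {a}
  have hHa' : ∀ h ∈ H, h • a = a := fun h hh => MulAction.mem_stabilizer_iff.1 (hHa hh)
  have hne : ∀ h ∈ H, ∀ c : Ω, c ≠ a → h • c ≠ a := by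
    intro h hh c hc hca
    apply hc
    have : h • c = h • a := by rw [hca, hHa' h hh]
    exact smul_left_cancel h this
  have hinjH : ∀ h ∈ H, ∀ h' ∈ H, h • b₀ = h' • b₀ → h = h' := by
    intro h hh h' hh' heq
    by_contra hne'
    have h1 : (h'⁻¹ * h) • b₀ = b₀ := by
      rw [mul_smul, heq, inv_smul_smul]
    have h2 : h'⁻¹ * h ≠ 1 := by
      intro h
      apply hne'
      have := inv_mul_eq_one.1 h
      exact this.symm
    exact hb₀ (hHfix _ (H.mul_mem (H.inv_mem hh') hh) h2 b₀ h1)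
  have htrans : ∀ c : Ω, c ≠ a → ∃ h ∈ H, h • b₀ = c := by
    let φ : H → {c : Ω // c ≠ a} := fun h => ⟨(h : G) • b₀, hne h h.2 b₀ hb₀⟩
    have hφinj : Function.Injective φ := by
      intro h h' heq
      exact Subtype.ext (hinjH h h.2 h' h'.2 (congrArg Subtype.val heq))
    have hcard : Fintype.card H = Fintype.card {c : Ω // c ≠ a} := by
      rw [Fintype.card_subtype_compl, Fintype.card_subtype_eq, ← hHcard, Nat.card_eq_fintype_card]
      simp
    have hφbij : Function.Bijective φ :=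
      (Fintype.bijective_iff_injective_and_card φ).2 ⟨hφinj, hcard⟩
    intro c hc
    obtain ⟨h, hh⟩ := hφbij.2 ⟨c, hc⟩
    exact ⟨h, h.2, congrArg Subtype.val hh⟩
  -- the finsets
  set Hf : Finset G := Finset.univ.filter (fun h => h ∈ H) with hHf
  set Kf : Finset G := Finset.univ.filter (fun k => k • a = a ∧ k • b₀ = b₀) with hKf
  set Sf : Finset G := Finset.univ.filter (fun s => s • a = a) with hSf
  set Bf : Finset G := Sf.filter (fun s => s ≠ 1 ∧ ∃ c : Ω, c ≠ a ∧ s • c = c) with hBf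
  have hmH : ∀ h, h ∈ Hf ↔ h ∈ H := fun h => by simp [hHf]
  have hmK : ∀ k, k ∈ Kf ↔ (k • a = a ∧ k • b₀ = b₀) := fun k => by simp [hKf]
  have hmS : ∀ s, s ∈ Sf ↔ s • a = a := fun s => by simp [hSf]
  have hmB : ∀ s, s ∈ Bf ↔ (s • a = a ∧ s ≠ 1 ∧ ∃ c : Ω, c ≠ a ∧ s • c = c) := fun s => by
    simp [hBf, hSf]
  -- (A)
  have hA : Sf.card = Hf.card * Kf.card := by
    rw [← Finset.card_product]
    symm
    apply Finset.card_bij (fun p _ => p.1 * p.2)
    · intro p hp
      rw [Finset.mem_product, hmH, hmK] at hp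
      rw [hmS, mul_smul, hp.2.1, hHa' _ hp.1]
    · intro p hp q hq heq
      rw [Finset.mem_product, hmH, hmK] at hp hq
      have h1 : p.1 • b₀ = q.1 • b₀ := by
        have := congrArg (fun t => t • b₀) heq
        simp only [mul_smul, hp.2.2, hq.2.2] at this
        exact this
      have h2 := hinjH _ hp.1 _ hq.1 h1
      have h3' : p.2 = q.2 := by
        rw [h2] at heq
        exact mul_left_cancel heq
      exact Prod.ext h2 h3'
    · intro s hs
      rw [hmS] at hs
      have hsb : s • b₀ ≠ a := by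
        intro h
        apply hb₀
        have : s • b₀ = s • a := by rw [h, hs]
        exact smul_left_cancel s this
      obtain ⟨h, hh, hhb⟩ := htrans _ hsb
      refine ⟨(h, h⁻¹ * s), ?_, by group⟩
      rw [Finset.mem_product, hmH, hmK]
      refine ⟨hh, ?_, ?_⟩
      · rw [mul_smul, hs, inv_smul_eq_iff, hHa' h hh]
      · rw [mul_smul, ← hhb, inv_smul_smul]
  -- (B)
  have hB : Bf.card = Hf.card * (Kf.card - 1) := by
    have h1K : (1 : G) ∈ Kf := by rw [hmK]; simp
    rw [← Finset.card_erase_of_mem h1K, ← Finset.card_product]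
    symm
    apply Finset.card_bij (fun p _ => p.1 * p.2 * p.1⁻¹)
    · intro p hp
      rw [Finset.mem_product, hmH, Finset.mem_erase, hmK] at hp
      rw [hmB]
      refine ⟨?_, ?_, p.1 • b₀, hne _ hp.1 b₀ hb₀, ?_⟩
      · rw [mul_smul, mul_smul, inv_smul_eq_iff.2 (hHa' _ hp.1).symm, hp.2.2.1, hHa' _ hp.1]
      · intro h
        apply hp.2.1
        have : p.2 = p.1⁻¹ * (p.1 * p.2 * p.1⁻¹) * p.1 := by group
        rw [this, h]; group
      · rw [mul_smul, mul_smul, inv_smul_smul, hp.2.2.2]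
    · intro p hp q hq heq
      rw [Finset.mem_product, hmH, Finset.mem_erase, hmK] at hp hq
      have hfp : (p.1 * p.2 * p.1⁻¹) • (p.1 • b₀) = p.1 • b₀ := by
        rw [mul_smul, mul_smul, inv_smul_smul, hp.2.2.2]
      have hfq : (p.1 * p.2 * p.1⁻¹) • (q.1 • b₀) = q.1 • b₀ := by
        rw [heq, mul_smul, mul_smul, inv_smul_smul, hq.2.2.2]
      have hfa : (p.1 * p.2 * p.1⁻¹) • a = a := by
        rw [mul_smul, mul_smul, inv_smul_eq_iff.2 (hHa' _ hp.1).symm, hp.2.2.1, hHa' _ hp.1]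
      have hs1 : p.1 * p.2 * p.1⁻¹ ≠ 1 := by
        intro h
        apply hp.2.1
        have : p.2 = p.1⁻¹ * (p.1 * p.2 * p.1⁻¹) * p.1 := by group
        rw [this, h]; group
      have h1 : p.1 • b₀ = q.1 • b₀ := by
        by_contra hne'
        exact hs1 (h3 _ a (p.1 • b₀) (q.1 • b₀) (hne _ hp.1 b₀ hb₀).symm hne'
          (hne _ hq.1 b₀ hb₀).symm hfa hfp hfq)
      have h2 := hinjH _ hp.1 _ hq.1 h1
      have h3' : p.2 = q.2 := by
        rw [h2] at heq
        have := mul_right_cancel heq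
        exact mul_left_cancel this
      exact Prod.ext h2 h3'
    · intro s hs
      rw [hmB] at hs
      obtain ⟨hsa, hs1, c, hc, hsc⟩ := hs
      obtain ⟨h, hh, hhb⟩ := htrans c hc
      refine ⟨(h, h⁻¹ * s * h), ?_, by group⟩
      rw [Finset.mem_product, hmH, Finset.mem_erase, hmK]
      refine ⟨hh, ?_, ?_, ?_⟩
      · intro h'
        apply hs1
        have h'' : h⁻¹ * s * h = 1 := h'
        have : s = h * (h⁻¹ * s * h) * h⁻¹ := by group
        rw [this, h'']; group
      · rw [mul_smul, mul_smul, hHa' h hh, hsa, inv_smul_eq_iff, hHa' h hh]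
      · rw [mul_smul, mul_smul, hhb, hsc, ← hhb, inv_smul_smul]
  -- (C)
  have hBS : Bf ⊆ Sf := Finset.filter_subset _ _
  have hHF : Hf ⊆ Sf \ Bf := by
    intro h hh
    rw [hmH] at hh
    rw [Finset.mem_sdiff, hmS, hmB]
    refine ⟨hHa' h hh, ?_⟩
    rintro ⟨_, h1, c, hc, hhc⟩
    exact hc (hHfix h hh h1 c hhc)
  have hK1 : 1 ≤ Kf.card := by
    apply Finset.card_pos.2
    exact ⟨1, by rw [hmK]; simp⟩
  have hcardF : (Sf \ Bf).card = Hf.card := by
    rw [Finset.card_sdiff_of_subset hBS, hA, hB]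
    obtain ⟨k, hk⟩ : ∃ k, Kf.card = k + 1 := ⟨Kf.card - 1, by omega⟩
    rw [hk]
    simp only [Nat.add_sub_cancel]
    rw [Nat.mul_succ]
    omega
  have hEq : Hf = Sf \ Bf := Finset.eq_of_subset_of_card_le hHF hcardF.le
  have hxF : x ∈ Sf \ Bf := by
    rw [Finset.mem_sdiff, hmS, hmB]
    refine ⟨hxa, ?_⟩
    rintro ⟨_, _, c, hc, hxc⟩
    exact hc (hx c hxc)
  rw [← hEq, hmH] at hxF
  exact hxF

end

end Cfsg.Agent.Lib.Helper3.Zass
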