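import Mathlib
import Cfsg.Agent.Lib.Helper6.IndFun
import Cfsg.Agent.Lib.Helper6.IndFunTI
import Cfsg.Agent.Lib.Helper6.IrrBasis
import Cfsg.Agent.Lib.Helper6.ClassFun
import Cfsg.Agent.Lib.Helper6.Auto
import Cfsg.Agent.S0146

set_option autoImplicit false
set_option linter.unusedSectionVars false
set_option linter.style.haveILetI false

/-! Brauer–Leonard: TI-induction from a subgroup `C` whose "singular part" `C \ V` is a TI set
with normalizer `N_G(C)`. -/

namespace Cfsg.Agent.Lib.Helper3.BL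
open Cfsg Cfsg.Agent.Lib.Helper6
open scoped ComplexConjugate

variable {G : Type*} [Group G]

/-- Conjugation by an element of the normalizer of `C`, as an automorphism of `C`. -/
def cj (C : Subgroup G) (x : Subgroup.normalizer (C : Set G)) : C ≃* C where
  toFun c := ⟨(x : G) * c * (x : G)⁻¹, (Subgroup.mem_normalizer_iff.1 x.2 c).1 c.2⟩
  invFun c := ⟨(x : G)⁻¹ * c * (x : G), by
    have := (Subgroup.mem_normalizer_iff.1 x.2 ((x : G)⁻¹ * c * (x : G))).2
    apply this
    simpa [mul_assoc] using c.2⟩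
  left_inv c := by ext; simp [mul_assoc]
  right_inv c := by ext; simp [mul_assoc]
  map_mul' a b := by ext; simp [mul_assoc]

@[simp] theorem cj_coe (C : Subgroup G) (x : Subgroup.normalizer (C : Set G)) (c : C) :
    ((cj C x c : C) : G) = (x : G) * c * (x : G)⁻¹ := rfl

@[simp] theorem cj_symm_coe (C : Subgroup G) (x : Subgroup.normalizer (C : Set G)) (c : C) :
    (((cj C x).symm c : C) : G) = (x : G)⁻¹ * c * (x : G) := rfl

theorem cj_mul (C : Subgroup G) (x y : Subgroup.normalizer (C : Set G)) (c : C) :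
    cj C (x * y) c = cj C x (cj C y c) := by
  ext; simp [mul_assoc]

theorem cj_one (C : Subgroup G) (c : C) : cj C 1 c = c := by
  ext; simp

theorem cj_inv (C : Subgroup G) (x : Subgroup.normalizer (C : Set G)) (c : C) :
    cj C x⁻¹ c = (cj C x).symm c := by
  ext; simp

/-- elements of `C` as elements of the normalizer -/
def toN (C : Subgroup G) (c : C) : Subgroup.normalizer (C : Set G) :=
  ⟨c, Subgroup.le_normalizer c.2⟩

theorem cj_toN (C : Subgroup G) (a c : C) : cj C (toN C a) c = a * c * a⁻¹ := by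
  ext; simp [toN]

/-- the conjugate of a function on `C` -/
def cf (C : Subgroup G) (x : Subgroup.normalizer (C : Set G)) (φ : C → ℂ) : C → ℂ :=
  fun c => φ (cj C x c)

theorem cf_apply (C : Subgroup G) (x : Subgroup.normalizer (C : Set G)) (φ : C → ℂ) (c : C) :
    cf C x φ c = φ (cj C x c) := rfl

theorem cf_mul (C : Subgroup G) (x y : Subgroup.normalizer (C : Set G)) (φ : C → ℂ) :
    cf C (x * y) φ = cf C y (cf C x φ) := by
  funext c; simp [cf, cj_mul]

theorem cf_one (C : Subgroup G) (φ : C → ℂ) : cf C 1 φ = φ := by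
  funext c; simp [cf, cj_one]

theorem cf_inv_cf (C : Subgroup G) (x : Subgroup.normalizer (C : Set G)) (φ : C → ℂ) :
    cf C x⁻¹ (cf C x φ) = φ := by
  rw [← cf_mul, mul_inv_cancel, cf_one]

theorem cf_cf_inv (C : Subgroup G) (x : Subgroup.normalizer (C : Set G)) (φ : C → ℂ) :
    cf C x (cf C x⁻¹ φ) = φ := by
  rw [← cf_mul, inv_mul_cancel, cf_one]

theorem cf_toN_of_classFunction (C : Subgroup G) {φ : C → ℂ} (hφ : IsClassFunction C φ) (a : C) :
    cf C (toN C a) φ = φ := by
  funext c
  rw [cf_apply, cj_toN]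
  exact hφ c a

theorem cf_restrict (C : Subgroup G) {ψ : G → ℂ} (hψ : IsClassFunction G ψ)
    (x : Subgroup.normalizer (C : Set G)) :
    cf C x (fun c : C => ψ c) = fun c : C => ψ c := by
  funext c
  rw [cf_apply]
  simp only [cj_coe]
  exact hψ _ _

theorem cf_add (C : Subgroup G) (x : Subgroup.normalizer (C : Set G)) (φ ψ : C → ℂ) :
    cf C x (φ + ψ) = cf C x φ + cf C x ψ := rfl

theorem cf_sub (C : Subgroup G) (x : Subgroup.normalizer (C : Set G)) (φ ψ : C → ℂ) :
    cf C x (φ - ψ) = cf C x φ - cf C x ψ := rfl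

theorem cf_mul_fun (C : Subgroup G) (x : Subgroup.normalizer (C : Set G)) (φ ψ : C → ℂ) :
    cf C x (φ * ψ) = cf C x φ * cf C x ψ := rfl

theorem cf_conj (C : Subgroup G) (x : Subgroup.normalizer (C : Set G)) (φ : C → ℂ) :
    cf C x (fun c => conj (φ c)) = fun c => conj (cf C x φ c) := rfl

section fin
variable [Fintype G]

theorem classInner_cf_cf (C : Subgroup G) [Fintype C] (x : Subgroup.normalizer (C : Set G))
    (φ ψ : C → ℂ) : classInner (cf C x φ) (cf C x ψ) = classInner φ ψ :=
  classInner_comp_mulEquiv (cj C x) φ ψ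

theorem classInner_cf_right (C : Subgroup G) [Fintype C] (x : Subgroup.normalizer (C : Set G))
    (φ ψ : C → ℂ) : classInner φ (cf C x ψ) = classInner (cf C x⁻¹ φ) ψ := by
  rw [← classInner_cf_cf C x⁻¹ φ (cf C x ψ), cf_inv_cf]

theorem cf_isIrr (C : Subgroup G) (x : Subgroup.normalizer (C : Set G)) {φ : C → ℂ}
    (hφ : IsIrrCharacter C φ) : IsIrrCharacter C (cf C x φ) :=
  IsIrrCharacter.comp_mulEquiv (cj C x) hφ

theorem cf_isClassFunction (C : Subgroup G) (x : Subgroup.normalizer (C : Set G)) {φ : C → ℂ}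
    (hφ : IsClassFunction C φ) : IsClassFunction C (cf C x φ) := by
  intro g h
  simp only [cf_apply, map_mul, map_inv]
  exact hφ _ _

end fin

end Cfsg.Agent.Lib.Helper3.BL
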