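import Mathlib
import Cfsg.Agent.Lib.Helper3.BL1
import Cfsg.Agent.Lib.Helper6.GenCharOps
import Cfsg.Agent.Lib.Helper6.Constituent

set_option autoImplicit false
set_option linter.unusedSectionVars false
set_option linter.style.haveILetI false

namespace Cfsg.Agent.Lib.Helper3.BL
open Cfsg Cfsg.Agent.Lib.Helper6
open scoped ComplexConjugate

variable {G : Type*} [Group G]

/-- The Brauer–Leonard setup: `C` a subgroup, `Z` a central subgroup of `C` with normal
complement `V`, such that `C \ V` is a TI set with normalizer `N_G(C)` and `N_G(C)/C` acts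
freely on `Z \ 1`. -/
structure Setup (C : Subgroup G) (Z V : Subgroup C) : Prop where
  hZ : Z ≤ Subgroup.center C
  hVn : V.Normal
  hcompl : Z.IsComplement' V
  hTI : ∀ (g : G) (c : C), c ∉ V → ∀ hc : g⁻¹ * (c : G) * g ∈ C, (⟨_, hc⟩ : C) ∉ V →
      g ∈ Subgroup.normalizer (C : Set G)
  hVcl : ∀ (g : G) (c : C), c ∈ V → ∀ hc : g⁻¹ * (c : G) * g ∈ C, (⟨_, hc⟩ : C) ∈ V
  hfree : ∀ x : Subgroup.normalizer (C : Set G), (x : G) ∉ C → ∀ z ∈ Z, cj C x z = z → z = 1
  hZinv : ∀ x : Subgroup.normalizer (C : Set G), ∀ z ∈ Z, cj C x z ∈ Z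

variable {C : Subgroup G} {Z V : Subgroup C}

theorem Setup.cj_mem_V (S : Setup C Z V) (x : Subgroup.normalizer (C : Set G)) {c : C}
    (hc : c ∈ V) : cj C x c ∈ V := by
  have h := S.hVcl (x : G)⁻¹ c hc (by simpa using (cj C x c).2)
  convert h using 1
  ext; simp

theorem Setup.cj_mem_V_iff (S : Setup C Z V) (x : Subgroup.normalizer (C : Set G)) {c : C} :
    cj C x c ∈ V ↔ c ∈ V := by
  constructor
  · intro h
    have := S.cj_mem_V x⁻¹ h
    rwa [cj_inv, MulEquiv.symm_apply_apply] at this
  · exact S.cj_mem_V x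

section fin
variable [Fintype G] [Fintype C] [Fintype (Subgroup.normalizer (C : Set G))]

/-- The TI formula: for `β` vanishing on `V`, the restriction to `C` of the induced function is
the sum of the `N`-conjugates of `β` divided by `|C|`. -/
theorem Setup.indFun_apply (S : Setup C Z V) (β : C → ℂ) (hβ : ∀ v ∈ V, β v = 0) (c : C) :
    indFun C β (c : G)
      = (Nat.card C : ℂ)⁻¹ * ∑ x : Subgroup.normalizer (C : Set G), cf C x β c := by
  classical
  unfold indFun
  congr 1
  -- terms outside N vanish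
  have hvan : ∀ g : G, g ∉ Subgroup.normalizer (C : Set G) →
      extendByZero C β (g⁻¹ * (c : G) * g) = 0 := by
    intro g hg
    by_cases hmem : g⁻¹ * (c : G) * g ∈ C
    · rw [extendByZero_of_mem _ _ hmem]
      by_cases hcV : c ∈ V
      · exact hβ _ (S.hVcl g c hcV hmem)
      · by_cases h2 : (⟨_, hmem⟩ : C) ∈ V
        · exact hβ _ h2
        · exact absurd (S.hTI g c hcV hmem h2) hg
    · exact extendByZero_of_not_mem _ _ hmem
  have h1 : ∑ g : G, extendByZero C β (g⁻¹ * (c : G) * g)
      = ∑ g ∈ Finset.univ.filter (fun g : G => g ∈ Subgroup.normalizer (C : Set G)),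
          extendByZero C β (g⁻¹ * (c : G) * g) := by
    rw [Finset.sum_filter]
    apply Finset.sum_congr rfl
    intro g _
    split_ifs with h
    · rfl
    · exact hvan g h
  rw [h1]
  rw [Finset.sum_subtype (p := fun g : G => g ∈ Subgroup.normalizer (C : Set G))
    (Finset.univ.filter (fun g : G => g ∈ Subgroup.normalizer (C : Set G)))
    (by intro g; simp)]
  refine Fintype.sum_equiv (Equiv.inv _) _ _ ?_
  intro x
  have hmem : (x : G)⁻¹ * (c : G) * (x : G) ∈ C := ((cj C x).symm c).2
  rw [extendByZero_of_mem _ _ hmem, cf_apply]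
  congr 1
  ext
  simp

/-- inner product formula for TI-induced functions -/
theorem Setup.classInner_indFun (S : Setup C Z V) (β β' : C → ℂ)
    (hβ' : ∀ v ∈ V, β' v = 0) :
    classInner (indFun C β) (indFun C β')
      = (Nat.card C : ℂ)⁻¹ * ∑ x : Subgroup.normalizer (C : Set G),
          classInner β (cf C x β') := by
  rw [Cfsg.Agent.S0146.result C β (indFun C β') (indFun_isClassFunction C β')]
  have h : (fun h : C => indFun C β' (h : G))
      = (Nat.card C : ℂ)⁻¹ • ∑ x : Subgroup.normalizer (C : Set G), cf C x β' := by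
    funext c
    rw [S.indFun_apply β' hβ' c]
    simp [Finset.sum_apply]
  rw [h, classInner_smul_right, classInner_sum_right]
  congr 1
  simp

theorem indFun_apply_one_of_vanish (β : C → ℂ) (h1 : β 1 = 0) : indFun C β 1 = 0 := by
  rw [indFun_one, h1, mul_zero]

end fin

end Cfsg.Agent.Lib.Helper3.BL
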