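import Mathlib
import Cfsg.Agent.Lib.Helper6.QuotChar
import Cfsg.Agent.Lib.Helper6.Orthogonality
import Cfsg.Agent.Lib.Helper6.IrrBasis
import Cfsg.Agent.Lib.Helper6.ClassFun
import Cfsg.Agent.Lib.Helper6.CharOps
import Cfsg.Agent.Lib.Helper6.Mult

set_option autoImplicit false
set_option linter.unusedSectionVars false
set_option linter.style.haveILetI false

namespace Cfsg.Agent.Lib.Helper3.FT
open Cfsg Cfsg.Agent.Lib.Helper6
open scoped ComplexConjugate

section inner
variable {M : Type*} [Group M] [Fintype M]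

theorem classInner_self_eq (f : M → ℂ) :
    classInner f f = (((Nat.card M : ℝ)⁻¹ * ∑ g : M, Complex.normSq (f g) : ℝ) : ℂ) := by
  unfold classInner
  push_cast
  congr 1
  apply Finset.sum_congr rfl
  intro g _
  rw [Complex.mul_conj]

/-- Bessel for one unit vector -/
theorem normSq_classInner_le (f ψ : M → ℂ) (hψ : classInner ψ ψ = 1) :
    Complex.normSq (classInner f ψ) ≤ (Nat.card M : ℝ)⁻¹ * ∑ g : M, Complex.normSq (f g) := by
  set c := classInner f ψ with hc
  have h1 : classInner (f - c • ψ) (f - c • ψ) = classInner f f - (Complex.normSq c : ℂ) := by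
    rw [classInner_sub_left, classInner_sub_right, classInner_sub_right, classInner_smul_left,
      classInner_smul_right, classInner_smul_left, classInner_smul_right, hψ, ← hc,
      ← classInner_conj_symm f ψ, ← hc, ← Complex.mul_conj]
    ring
  rw [classInner_self_eq, classInner_self_eq] at h1
  have h2 : (Nat.card M : ℝ)⁻¹ * ∑ g : M, Complex.normSq ((f - c • ψ) g) =
      (Nat.card M : ℝ)⁻¹ * ∑ g : M, Complex.normSq (f g) - Complex.normSq c := by
    exact_mod_cast h1
  have h3 : 0 ≤ (Nat.card M : ℝ)⁻¹ * ∑ g : M, Complex.normSq ((f - c • ψ) g) := by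
    apply mul_nonneg (by positivity)
    exact Finset.sum_nonneg (fun g _ => Complex.normSq_nonneg _)
  linarith

end inner

section A
variable {M : Type*} [Group M] [Fintype M] (A : Subgroup M) [hA : A.Normal] [Fintype A]

/-- if `g` has trivial centralizer in the normal subgroup `A`, a class function is constant on `A g` -/
theorem cosetAvg_eq_self_of_centralizer_trivial {ξ : M → ℂ} (hξ : IsClassFunction M ξ) (g : M)
    (hg : ∀ a ∈ A, g * a = a * g → a = 1) : cosetAvg A ξ g = ξ g := by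
  classical
  let φ : A → A := fun a => ⟨(a : M)⁻¹ * (g * a * g⁻¹), A.mul_mem (A.inv_mem a.2) (hA.conj_mem a a.2 g)⟩
  have hinj : Function.Injective φ := by
    intro a b hab
    have h1 : (a : M)⁻¹ * (g * a * g⁻¹) = (b : M)⁻¹ * (g * b * g⁻¹) := congrArg Subtype.val hab
    have h2 : g * ((a : M) * (b : M)⁻¹) = ((a : M) * (b : M)⁻¹) * g := by
      have h3 : g * (a : M) * g⁻¹ = (a : M) * (b : M)⁻¹ * (g * b * g⁻¹) := by
        rw [mul_assoc (a : M), ← h1]; group
      calc g * ((a : M) * (b : M)⁻¹) = (g * a * g⁻¹) * (g * (b : M)⁻¹) := by group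
        _ = (a : M) * (b : M)⁻¹ * (g * b * g⁻¹) * (g * (b : M)⁻¹) := by rw [h3]
        _ = ((a : M) * (b : M)⁻¹) * g := by group
    have h4 := hg _ (A.mul_mem a.2 (A.inv_mem b.2)) h2
    apply Subtype.ext
    exact mul_inv_eq_one.1 h4
  have hbij : Function.Bijective φ := hinj.bijective_of_finite
  unfold cosetAvg
  rw [← (Equiv.ofBijective φ hbij).sum_comp]
  have h5 : ∀ a : A, ξ (((Equiv.ofBijective φ hbij) a : A) * g) = ξ g := by
    intro a
    have h6 : (((Equiv.ofBijective φ hbij) a : A) : M) * g = (a : M)⁻¹ * g * ((a : M)⁻¹)⁻¹ := by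
      change (a : M)⁻¹ * (g * a * g⁻¹) * g = _
      group
    rw [h6, hξ]
  rw [Finset.sum_congr rfl (fun a _ => h5 a), Finset.sum_const, Finset.card_univ, nsmul_eq_mul,
    ← Nat.card_eq_fintype_card, ← mul_assoc]
  have hA0 : (Nat.card A : ℂ) ≠ 0 := by exact_mod_cast (Nat.card_pos (α := A)).ne'
  rw [inv_mul_cancel₀ hA0, one_mul]

theorem classInner_cosetAvg_self (ξ : M → ℂ) :
    classInner ξ (cosetAvg A ξ) = classInner (cosetAvg A ξ) (cosetAvg A ξ) := by
  rw [classInner_cosetAvg_left A ξ (cosetAvg A ξ) (fun n g => cosetAvg_mul_left A ξ n g)]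

/-- Pythagoras: `‖ξ‖² = ‖avg ξ‖² + ‖ξ - avg ξ‖²` -/
theorem sum_normSq_cosetAvg (ξ : M → ℂ) :
    ∑ g : M, Complex.normSq (ξ g) = ∑ g : M, Complex.normSq (cosetAvg A ξ g) +
      ∑ g : M, Complex.normSq (ξ g - cosetAvg A ξ g) := by
  set α := cosetAvg A ξ with hα
  have h1 : classInner ξ α = classInner α α := classInner_cosetAvg_self A ξ
  have h2 : classInner α ξ = classInner α α := by
    rw [← classInner_conj_symm ξ α, h1, classInner_conj_symm]
  have h3 : classInner (ξ - α) (ξ - α) = classInner ξ ξ - classInner α α := by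
    rw [classInner_sub_left, classInner_sub_right, classInner_sub_right, h1, h2]
    ring
  rw [classInner_self_eq, classInner_self_eq, classInner_self_eq] at h3
  have h4 : (Nat.card M : ℝ)⁻¹ * ∑ g : M, Complex.normSq ((ξ - α) g) =
      (Nat.card M : ℝ)⁻¹ * ∑ g : M, Complex.normSq (ξ g) -
      (Nat.card M : ℝ)⁻¹ * ∑ g : M, Complex.normSq (α g) := by exact_mod_cast h3
  have hM0 : (Nat.card M : ℝ) ≠ 0 := by exact_mod_cast (Nat.card_pos (α := M)).ne'
  have h5 : ∑ g : M, Complex.normSq ((ξ - α) g) =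
      ∑ g : M, Complex.normSq (ξ g) - ∑ g : M, Complex.normSq (α g) := by
    have := congrArg (fun t => (Nat.card M : ℝ) * t) h4
    simp only [mul_sub, ← mul_assoc, mul_inv_cancel₀ hM0, one_mul] at this
    exact this
  simp only [Pi.sub_apply] at h5
  linarith

/-- the part of a character `ξ` not constant on cosets of the normal subgroup `A` has norm `≥ 1`
as soon as `A ⊄ ker ξ` -/
theorem card_le_sum_normSq_sub_cosetAvg {ξ : M → ℂ} (hξ : IsCharacter M ξ)
    (hker : ∃ a ∈ A, ξ a ≠ ξ 1) :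
    (Nat.card M : ℝ) ≤ ∑ g : M, Complex.normSq (ξ g - cosetAvg A ξ g) := by
  classical
  have : Fintype (IrrCharacter M) := Fintype.ofFinite _
  have : Fintype (M ⧸ A) := Fintype.ofFinite _
  have : Fintype (IrrCharacter (M ⧸ A)) := Fintype.ofFinite _
  obtain ⟨a, haA, ha⟩ := hker
  have hcl := IsCharacter.isClassFunction hξ
  have hsum := classFunction_eq_sum ξ hcl
  -- a constituent not trivial on `a`
  have hex : ∃ ψ : IrrCharacter M, classInner ξ (ψ : M → ℂ) ≠ 0 ∧ (ψ : M → ℂ) a ≠ (ψ : M → ℂ) 1 := by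
    by_contra hcon
    push Not at hcon
    apply ha
    have h1 := congrFun hsum a
    have h2 := congrFun hsum 1
    rw [h1, h2]
    simp only [Finset.sum_apply, Pi.smul_apply, smul_eq_mul]
    apply Finset.sum_congr rfl
    intro ψ _
    by_cases h0 : classInner ξ (ψ : M → ℂ) = 0
    · rw [h0, zero_mul, zero_mul]
    · rw [hcon ψ h0]
  obtain ⟨ψ, hψ0, hψa⟩ := hex
  obtain ⟨n, hn⟩ := IsCharacter.classInner_irr_nat hξ ψ.2
  have hn0 : n ≠ 0 := by
    rintro rfl
    apply hψ0
    rw [hn]; simp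
  -- the averaged part is orthogonal to ψ
  have havg : classInner (cosetAvg A ξ) (ψ : M → ℂ) = 0 := by
    rw [cosetAvg_eq_sum A hcl, classInner_sum_left]
    apply Finset.sum_eq_zero
    intro β _
    rw [classInner_smul_left]
    have hβ := IsIrrCharacter.comp_mk A β.2
    rw [classInner_isIrrCharacter hβ ψ.2, if_neg, mul_zero]
    intro heq
    apply hψa
    rw [← heq]
    change (β : M ⧸ A → ℂ) (QuotientGroup.mk a) = (β : M ⧸ A → ℂ) (QuotientGroup.mk 1)
    rw [(QuotientGroup.eq_one_iff a).2 haA, QuotientGroup.mk_one]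
  have hinner : classInner (ξ - cosetAvg A ξ) (ψ : M → ℂ) = (n : ℂ) := by
    rw [classInner_sub_left, havg, sub_zero, hn]
  have hψψ : classInner (ψ : M → ℂ) (ψ : M → ℂ) = 1 := by
    rw [classInner_isIrrCharacter ψ.2 ψ.2, if_pos rfl]
  have hB := normSq_classInner_le (ξ - cosetAvg A ξ) (ψ : M → ℂ) hψψ
  rw [hinner] at hB
  simp only [Pi.sub_apply] at hB
  have hM0 : (0 : ℝ) < (Nat.card M : ℝ) := by exact_mod_cast (Nat.card_pos (α := M))
  have h1 : (1 : ℝ) ≤ Complex.normSq (n : ℂ) := by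
    rw [Complex.normSq_natCast]
    have : (1 : ℝ) ≤ (n : ℝ) := by exact_mod_cast Nat.one_le_iff_ne_zero.2 hn0
    nlinarith
  have h2 : (1 : ℝ) ≤ (Nat.card M : ℝ)⁻¹ * ∑ g : M, Complex.normSq (ξ g - cosetAvg A ξ g) :=
    h1.trans hB
  have h3 := mul_le_mul_of_nonneg_left h2 hM0.le
  rw [mul_one, ← mul_assoc, mul_inv_cancel₀ hM0.ne', one_mul] at h3
  exact h3

/-- Lemma A: if `S` contains every element centralizing a nonidentity element of `A`, then
`|M| + ∑_{S} |avg ξ|² ≤ ∑_{S} |ξ|²`. -/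
theorem card_add_sum_le {ξ : M → ℂ} (hξ : IsCharacter M ξ) (hker : ∃ a ∈ A, ξ a ≠ ξ 1)
    (S : Finset M) (hS : ∀ g : M, g ∉ S → ∀ a ∈ A, g * a = a * g → a = 1) :
    (Nat.card M : ℝ) + ∑ g ∈ S, Complex.normSq (cosetAvg A ξ g) ≤
      ∑ g ∈ S, Complex.normSq (ξ g) := by
  classical
  have hcl := IsCharacter.isClassFunction hξ
  have h1 := card_le_sum_normSq_sub_cosetAvg A hξ hker
  have h2 := sum_normSq_cosetAvg A ξ
  have h3 : ∀ f : M → ℝ, ∑ g : M, f g = ∑ g ∈ S, f g + ∑ g ∈ Sᶜ, f g := by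
    intro f
    rw [Finset.sum_add_sum_compl]
  have h4 : ∑ g ∈ Sᶜ, Complex.normSq (ξ g) = ∑ g ∈ Sᶜ, Complex.normSq (cosetAvg A ξ g) := by
    apply Finset.sum_congr rfl
    intro g hg
    rw [cosetAvg_eq_self_of_centralizer_trivial A hcl g (hS g (Finset.mem_compl.1 hg))]
  rw [h3 (fun g => Complex.normSq (ξ g)), h3 (fun g => Complex.normSq (cosetAvg A ξ g)), h4] at h2
  linarith

end A

end Cfsg.Agent.Lib.Helper3.FT
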