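import Mathlib
import Cfsg.Agent.Lib.Helper3.FT1
import Cfsg.Agent.Lib.Helper6.CenterIndex
import Cfsg.Agent.Lib.Helper6.Regular

set_option autoImplicit false
set_option linter.unusedSectionVars false
set_option linter.style.haveILetI false

namespace Cfsg.Agent.Lib.Helper3.FT
open Cfsg Cfsg.Agent.Lib.Helper6
open scoped ComplexConjugate

section G
variable {G : Type*} [Group G] [Fintype G]

/-- a central element acts by a scalar of absolute value one on an irreducible character -/
theorem apply_center_mul_scalar {χ : G → ℂ} (hχ : IsIrrCharacter G χ) {z : G}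
    (hz : z ∈ Subgroup.center G) : ∃ c : ℂ, conj c * c = 1 ∧ ∀ y : G, χ (z * y) = c * χ y := by
  obtain ⟨n, ρ, hρ, rfl⟩ := hχ
  obtain ⟨c, hc, hcc⟩ := exists_scalar_of_mem_center ρ hz
  refine ⟨c, hcc, fun y => ?_⟩
  unfold Representation.character
  rw [map_mul, hc, Module.End.mul_eq_comp, LinearMap.smul_comp, LinearMap.id_comp, map_smul,
    smul_eq_mul]

theorem normSq_apply_center_mul {χ : G → ℂ} (hχ : IsIrrCharacter G χ) {z : G}
    (hz : z ∈ Subgroup.center G) (y : G) : Complex.normSq (χ (z * y)) = Complex.normSq (χ y) := by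
  obtain ⟨c, hcc, hc⟩ := apply_center_mul_scalar hχ hz
  rw [hc, Complex.normSq_mul]
  have h1 : Complex.normSq c = 1 := by
    have h2 : ((Complex.normSq c : ℝ) : ℂ) = 1 := by
      rw [Complex.normSq_eq_conj_mul_self]; exact hcc
    exact_mod_cast h2
  rw [h1, one_mul]

theorem sum_normSq_eq_card {χ : G → ℂ} (hχ : IsIrrCharacter G χ) :
    ∑ g : G, Complex.normSq (χ g) = (Nat.card G : ℝ) := by
  have h1 : classInner χ χ = 1 := by rw [classInner_isIrrCharacter hχ hχ, if_pos rfl]
  rw [classInner_self_eq] at h1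
  have h2 : (Nat.card G : ℝ)⁻¹ * ∑ g : G, Complex.normSq (χ g) = 1 := by exact_mod_cast h1
  have hG0 : (Nat.card G : ℝ) ≠ 0 := by exact_mod_cast (Nat.card_pos (α := G)).ne'
  field_simp at h2
  linarith

variable (H : Subgroup G)

/-- the "bad set": noncentral elements centralizing a nonidentity element of `H` -/
noncomputable def badSet : Finset G :=
  letI := Classical.decPred (fun g : G => g ∉ Subgroup.center G ∧ ∃ h ∈ H, h ≠ 1 ∧ g * h = h * g)
  Finset.univ.filter (fun g : G => g ∉ Subgroup.center G ∧ ∃ h ∈ H, h ≠ 1 ∧ g * h = h * g)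

theorem mem_badSet {g : G} :
    g ∈ badSet H ↔ g ∉ Subgroup.center G ∧ ∃ h ∈ H, h ≠ 1 ∧ g * h = h * g := by
  unfold badSet
  simp

/-- the centre as a finset -/
noncomputable def centerSet (G : Type*) [Group G] [Fintype G] : Finset G :=
  letI := Classical.decPred (fun g : G => g ∈ Subgroup.center G)
  Finset.univ.filter (fun g : G => g ∈ Subgroup.center G)

theorem mem_centerSet {g : G} : g ∈ centerSet G ↔ g ∈ Subgroup.center G := by
  unfold centerSet
  simp

/-- hypothesis "the centralizer of a noncentral element meets at most one conjugate of `H`" -/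
def AtMostOne : Prop :=
  ∀ g : G, g ∉ Subgroup.center G → ∀ a b : G,
    Subgroup.centralizer ({g} : Set G) ⊓ H.map (MulAut.conj a).toMonoidHom ≠ ⊥ →
    Subgroup.centralizer ({g} : Set G) ⊓ H.map (MulAut.conj b).toMonoidHom ≠ ⊥ →
    H.map (MulAut.conj a).toMonoidHom = H.map (MulAut.conj b).toMonoidHom

variable {H}

theorem inf_ne_bot_of_commute {y g h : G} (hh : h ∈ H) (h1 : h ≠ 1)
    (hc : (g⁻¹ * y * g) * h = h * (g⁻¹ * y * g)) :
    Subgroup.centralizer ({y} : Set G) ⊓ H.map (MulAut.conj g).toMonoidHom ≠ ⊥ := by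
  intro hbot
  have hmem : g * h * g⁻¹ ∈ Subgroup.centralizer ({y} : Set G) ⊓ H.map (MulAut.conj g).toMonoidHom := by
    refine Subgroup.mem_inf.2 ⟨?_, ⟨h, hh, by simp [MulAut.conj_apply]⟩⟩
    rw [Subgroup.mem_centralizer_iff]
    intro t ht
    rw [Set.mem_singleton_iff] at ht
    subst ht
    -- t * (g h g⁻¹) = (g h g⁻¹) * t
    have : g * ((g⁻¹ * t * g) * h) * g⁻¹ = g * (h * (g⁻¹ * t * g)) * g⁻¹ := by rw [hc]
    calc t * (g * h * g⁻¹) = g * ((g⁻¹ * t * g) * h) * g⁻¹ := by group
      _ = g * (h * (g⁻¹ * t * g)) * g⁻¹ := this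
      _ = g * h * g⁻¹ * t := by group
  rw [hbot, Subgroup.mem_bot] at hmem
  apply h1
  have : h = g⁻¹ * (g * h * g⁻¹) * g := by group
  rw [this, hmem]; group

theorem mem_normalizer_of_map_eq {a b : G}
    (h : H.map (MulAut.conj a).toMonoidHom = H.map (MulAut.conj b).toMonoidHom) :
    a⁻¹ * b ∈ Subgroup.normalizer (H : Set G) := by
  rw [Subgroup.mem_normalizer_iff_map_conj_eq]
  have h1 : H.map ((MulAut.conj (a⁻¹ * b)).toMonoidHom) =
      (H.map (MulAut.conj b).toMonoidHom).map (MulAut.conj a⁻¹).toMonoidHom := by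
    rw [Subgroup.map_map]
    congr 1
    ext x
    simp [MulAut.conj_apply, mul_assoc]
  have h2 : (H.map (MulAut.conj a).toMonoidHom).map (MulAut.conj a⁻¹).toMonoidHom = H := by
    rw [Subgroup.map_map]
    have : (MulAut.conj a⁻¹).toMonoidHom.comp (MulAut.conj a).toMonoidHom = MonoidHom.id G := by
      ext x
      simp [MulAut.conj_apply, mul_assoc]
    rw [this, Subgroup.map_id]
  change H.map ((MulAut.conj (a⁻¹ * b)).toMonoidHom) = H
  rw [h1, ← h, h2]

/-- the bad set lies in the normalizer -/
theorem badSet_subset_normalizer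
    (hZ : H ⊓ Subgroup.center G = ⊥) (hone : AtMostOne H) {g : G} (hg : g ∈ badSet H) :
    g ∈ Subgroup.normalizer (H : Set G) := by
  rw [mem_badSet] at hg
  obtain ⟨_, h, hh, h1, hc⟩ := hg
  have hnc : h ∉ Subgroup.center G := by
    intro hcen
    have : h ∈ H ⊓ Subgroup.center G := ⟨hh, hcen⟩
    rw [hZ, Subgroup.mem_bot] at this
    exact h1 this
  -- C(h) meets H^g and H^1
  have hA : Subgroup.centralizer ({h} : Set G) ⊓ H.map (MulAut.conj g).toMonoidHom ≠ ⊥ := by
    intro hbot
    have hmem : h ∈ Subgroup.centralizer ({h} : Set G) ⊓ H.map (MulAut.conj g).toMonoidHom := by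
      refine Subgroup.mem_inf.2 ⟨?_, ⟨h, hh, ?_⟩⟩
      · rw [Subgroup.mem_centralizer_iff]
        intro t ht
        rw [Set.mem_singleton_iff] at ht
        rw [ht]
      · simp only [MulEquiv.toMonoidHom_eq_coe, MonoidHom.coe_coe, MulAut.conj_apply]
        rw [hc]; group
    rw [hbot, Subgroup.mem_bot] at hmem
    exact h1 hmem
  have hB : Subgroup.centralizer ({h} : Set G) ⊓ H.map (MulAut.conj (1 : G)).toMonoidHom ≠ ⊥ := by
    intro hbot
    have hmem : h ∈ Subgroup.centralizer ({h} : Set G) ⊓ H.map (MulAut.conj (1 : G)).toMonoidHom := by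
      refine Subgroup.mem_inf.2 ⟨?_, ⟨h, hh, by simp⟩⟩
      rw [Subgroup.mem_centralizer_iff]
      intro t ht
      rw [Set.mem_singleton_iff] at ht
      rw [ht]
    rw [hbot, Subgroup.mem_bot] at hmem
    exact h1 hmem
  have := mem_normalizer_of_map_eq (hone h hnc 1 g hB hA)
  simpa using this

/-- Lemma B: the conjugates of the bad set are pairwise disjoint, so the bad set carries at most
`|N|/|G|` of the mass of `|χ|²` outside the centre. -/
theorem card_mul_sum_badSet_le (hone : AtMostOne H) {χ : G → ℂ} (hχ : IsClassFunction G χ) :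
    (Nat.card G : ℝ) * ∑ g ∈ badSet H, Complex.normSq (χ g) ≤
      (Nat.card (Subgroup.normalizer (H : Set G)) : ℝ) *
        (∑ g : G, Complex.normSq (χ g) -
          ∑ z ∈ centerSet G, Complex.normSq (χ z)) := by
  classical
  set N := Subgroup.normalizer (H : Set G) with hN
  -- double count
  have h1 : ∑ g : G, ∑ y ∈ badSet H, Complex.normSq (χ (g * y * g⁻¹)) =
      (Nat.card G : ℝ) * ∑ g ∈ badSet H, Complex.normSq (χ g) := by
    simp_rw [hχ _ _]
    rw [Finset.sum_const, Finset.card_univ, nsmul_eq_mul, Nat.card_eq_fintype_card]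
  have h2 : ∀ g : G, ∑ y ∈ badSet H, Complex.normSq (χ (g * y * g⁻¹)) =
      ∑ y' : G, if g⁻¹ * y' * g ∈ badSet H then Complex.normSq (χ y') else 0 := by
    intro g
    rw [← Finset.sum_filter]
    apply Finset.sum_bij (fun y _ => g * y * g⁻¹)
    · intro y hy
      simp only [Finset.mem_filter, Finset.mem_univ, true_and]
      have : g⁻¹ * (g * y * g⁻¹) * g = y := by group
      rw [this]; exact hy
    · intro y _ y' _ h
      have := congrArg (fun t => g⁻¹ * t * g) h
      simpa [mul_assoc] using this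
    · intro y' hy'
      simp only [Finset.mem_filter, Finset.mem_univ, true_and] at hy'
      exact ⟨g⁻¹ * y' * g, hy', by group⟩
    · intro y _; rfl
  rw [← h1, Finset.sum_congr rfl (fun g _ => h2 g), Finset.sum_comm]
  -- bound the count for each y'
  have h3 : ∀ y' : G, (∑ g : G, if g⁻¹ * y' * g ∈ badSet H then Complex.normSq (χ y') else 0) ≤
      (Nat.card N : ℝ) * (if y' ∈ Subgroup.center G then 0 else Complex.normSq (χ y')) := by
    intro y'
    by_cases hy' : y' ∈ Subgroup.center G
    · rw [if_pos hy', mul_zero]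
      apply le_of_eq
      apply Finset.sum_eq_zero
      intro g _
      rw [if_neg]
      intro hmem
      rw [mem_badSet] at hmem
      apply hmem.1
      have : g⁻¹ * y' * g = y' := by
        rw [mul_assoc, ← (Subgroup.mem_center_iff.1 hy' g)]; group
      rw [this]; exact hy'
    · rw [if_neg hy', ← Finset.sum_filter, Finset.sum_const, nsmul_eq_mul]
      apply mul_le_mul_of_nonneg_right _ (Complex.normSq_nonneg _)
      -- the set of g is contained in a coset of N
      set T := Finset.univ.filter (fun g : G => g⁻¹ * y' * g ∈ badSet H) with hT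
      by_cases hTe : T = ∅
      · rw [hTe]; simp
      · obtain ⟨g₁, hg₁⟩ := Finset.nonempty_iff_ne_empty.2 hTe
        have hsub : T ⊆ (Finset.univ : Finset N).image (fun n : N => g₁ * (n : G)) := by
          intro g₂ hg₂
          rw [hT, Finset.mem_filter] at hg₁ hg₂
          obtain ⟨_, h₁, hh₁, h₁1, hc₁⟩ := (mem_badSet H).1 hg₁.2
          obtain ⟨_, h₂, hh₂, h₂1, hc₂⟩ := (mem_badSet H).1 hg₂.2
          have hA := inf_ne_bot_of_commute hh₁ h₁1 hc₁
          have hB := inf_ne_bot_of_commute hh₂ h₂1 hc₂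
          have hmem := mem_normalizer_of_map_eq (hone y' hy' g₁ g₂ hA hB)
          rw [Finset.mem_image]
          exact ⟨⟨g₁⁻¹ * g₂, hmem⟩, Finset.mem_univ _, by simp⟩
        have hcard := Finset.card_le_card hsub
        have hcard2 : ((Finset.univ : Finset N).image (fun n : N => g₁ * (n : G))).card ≤
            Fintype.card N := by
          exact Finset.card_image_le.trans (by simp)
        rw [Nat.card_eq_fintype_card]
        exact_mod_cast hcard.trans hcard2
  calc ∑ y' : G, ∑ g : G, (if g⁻¹ * y' * g ∈ badSet H then Complex.normSq (χ y') else 0)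
      ≤ ∑ y' : G, (Nat.card N : ℝ) * (if y' ∈ Subgroup.center G then 0 else Complex.normSq (χ y')) :=
        Finset.sum_le_sum (fun y' _ => h3 y')
    _ = (Nat.card N : ℝ) * (∑ g : G, Complex.normSq (χ g) -
          ∑ z ∈ centerSet G, Complex.normSq (χ z)) := by
        rw [← Finset.mul_sum]
        congr 1
        have h4 : ∑ z ∈ centerSet G, Complex.normSq (χ z) =
            ∑ g : G, if g ∈ Subgroup.center G then Complex.normSq (χ g) else 0 := by
          rw [← Finset.sum_filter]
          apply Finset.sum_congr _ (fun _ _ => rfl)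
          ext g
          simp [mem_centerSet]
        rw [h4, ← Finset.sum_sub_distrib]
        apply Finset.sum_congr rfl
        intro g _
        by_cases hg : g ∈ Subgroup.center G
        · rw [if_pos hg, if_pos hg, sub_self]
        · rw [if_neg hg, if_neg hg, sub_zero]

end G

end Cfsg.Agent.Lib.Helper3.FT
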