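import Mathlib
import Cfsg.Agent.Lib.Helper3.BL2
import Cfsg.Agent.Lib.Helper3.FT2
import Cfsg.Agent.Lib.Helper6.Mult
import Cfsg.Agent.Lib.Helper6.Norm
import Cfsg.Agent.Lib.Helper6.CharOps
import Cfsg.Agent.Lib.Helper6.Orthogonality

set_option autoImplicit false
set_option linter.unusedSectionVars false
set_option linter.style.haveILetI false

namespace Cfsg.Agent.Lib.Helper3.BL
open Cfsg Cfsg.Agent.Lib.Helper6
open scoped ComplexConjugate

variable {G : Type*} [Group G]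
variable {C : Subgroup G} {Z V : Subgroup C}

/-- `φ` is trivial on `Z` -/
def ZTriv (Z : Subgroup C) (φ : C → ℂ) : Prop := ∀ z ∈ Z, φ z = φ 1

/-- linear characters of `C` trivial on `V` -/
def IsLinV (V : Subgroup C) (ρ : C → ℂ) : Prop :=
  ∃ k : C →* ℂˣ, (∀ v ∈ V, k v = 1) ∧ ρ = fun c => (k c : ℂ)

theorem Setup.exists_mul (S : Setup C Z V) (c : C) : ∃ z ∈ Z, ∃ v ∈ V, c = z * v := by
  obtain ⟨⟨z, v⟩, h⟩ := S.hcompl.2 c
  exact ⟨z, z.2, v, v.2, h.symm⟩

theorem Setup.inf_eq_bot (S : Setup C Z V) {c : C} (hz : c ∈ Z) (hv : c ∈ V) : c = 1 := by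
  have := S.hcompl.disjoint
  rw [Subgroup.disjoint_def] at this
  exact this hz hv

section proj

/-- projection of `C` onto `Z` along `V` -/
noncomputable def Setup.proj (S : Setup C Z V) : C →* Z :=
  haveI := S.hVn
  (S.hcompl.QuotientMulEquiv).toMonoidHom.comp (QuotientGroup.mk' V)

theorem Setup.proj_of_mem (S : Setup C Z V) (z : Z) : S.proj (z : C) = z := by
  haveI := S.hVn
  unfold Setup.proj
  simp only [MonoidHom.coe_comp, MulEquiv.coe_toMonoidHom, Function.comp_apply,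
    QuotientGroup.mk'_apply]
  rw [← MulEquiv.eq_symm_apply]
  rw [Subgroup.IsComplement'.QuotientMulEquiv_symm_apply]
  rfl

theorem Setup.proj_of_mem_V (S : Setup C Z V) {v : C} (hv : v ∈ V) : S.proj v = 1 := by
  haveI := S.hVn
  unfold Setup.proj
  simp only [MonoidHom.coe_comp, MulEquiv.coe_toMonoidHom, Function.comp_apply,
    QuotientGroup.mk'_apply]
  rw [(QuotientGroup.eq_one_iff v).2 hv, map_one]

/-- the extension of a linear character of `Z` to `C`, trivial on `V` -/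
noncomputable def Setup.kap (S : Setup C Z V) (l : Z →* ℂˣ) : C →* ℂˣ := l.comp S.proj

theorem Setup.kap_of_mem (S : Setup C Z V) (l : Z →* ℂˣ) (z : Z) : S.kap l (z : C) = l z := by
  unfold Setup.kap
  rw [MonoidHom.comp_apply, S.proj_of_mem]

theorem Setup.kap_of_mem_V (S : Setup C Z V) (l : Z →* ℂˣ) {v : C} (hv : v ∈ V) :
    S.kap l v = 1 := by
  unfold Setup.kap
  rw [MonoidHom.comp_apply, S.proj_of_mem_V hv, map_one]

/-- `κ_l` as a complex function -/
noncomputable def Setup.kapF (S : Setup C Z V) (l : Z →* ℂˣ) : C → ℂ := fun c => (S.kap l c : ℂ)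

theorem Setup.kapF_isLinV (S : Setup C Z V) (l : Z →* ℂˣ) : IsLinV V (S.kapF l) :=
  ⟨S.kap l, fun _ hv => S.kap_of_mem_V l hv, rfl⟩

theorem Setup.kapF_of_mem (S : Setup C Z V) (l : Z →* ℂˣ) (z : Z) :
    S.kapF l (z : C) = (l z : ℂ) := by
  unfold Setup.kapF; rw [S.kap_of_mem]

theorem Setup.kapF_injective (S : Setup C Z V) : Function.Injective S.kapF := by
  intro l l' h
  ext z
  have := congrFun h (z : C)
  rw [S.kapF_of_mem, S.kapF_of_mem] at this
  exact this

theorem Setup.kapF_one (S : Setup C Z V) : S.kapF 1 = fun _ => 1 := by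
  funext c
  unfold Setup.kapF Setup.kap
  simp

end proj

namespace IsLinV

theorem apply_one {ρ : C → ℂ} (h : IsLinV V ρ) : ρ 1 = 1 := by
  obtain ⟨k, _, rfl⟩ := h; simp

theorem apply_mem_V {ρ : C → ℂ} (h : IsLinV V ρ) {v : C} (hv : v ∈ V) : ρ v = 1 := by
  obtain ⟨k, hk, rfl⟩ := h; simp [hk v hv]

theorem apply_mul {ρ : C → ℂ} (h : IsLinV V ρ) (a b : C) : ρ (a * b) = ρ a * ρ b := by
  obtain ⟨k, _, rfl⟩ := h; simp

theorem apply_ne_zero {ρ : C → ℂ} (h : IsLinV V ρ) (a : C) : ρ a ≠ 0 := by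
  obtain ⟨k, _, rfl⟩ := h; exact Units.ne_zero _

theorem isIrr {ρ : C → ℂ} (h : IsLinV V ρ) : IsIrrCharacter C ρ := by
  obtain ⟨k, _, rfl⟩ := h; exact isIrrCharacter_of_hom k

theorem one : IsLinV V (fun _ : C => (1 : ℂ)) := ⟨1, fun _ _ => rfl, by funext c; simp⟩

theorem mul {ρ ρ' : C → ℂ} (h : IsLinV V ρ) (h' : IsLinV V ρ') : IsLinV V (ρ * ρ') := by
  obtain ⟨k, hk, rfl⟩ := h
  obtain ⟨k', hk', rfl⟩ := h'
  refine ⟨k * k', fun v hv => by simp [hk v hv, hk' v hv], ?_⟩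
  funext c; simp

theorem conj_apply [Finite G] {ρ : C → ℂ} (h : IsLinV V ρ) (c : C) : conj (ρ c) = (ρ c)⁻¹ := by
  have hchar := (IsIrrCharacter.isCharacter h.isIrr)
  have h1 := IsCharacter.apply_inv hchar c
  rw [← h1]
  have h2 : ρ c * ρ c⁻¹ = 1 := by rw [← h.apply_mul, mul_inv_cancel, h.apply_one]
  exact eq_inv_of_mul_eq_one_right h2

theorem conjF [Finite G] {ρ : C → ℂ} (h : IsLinV V ρ) : IsLinV V (fun c => conj (ρ c)) := by
  have hc := h.conj_apply
  obtain ⟨k, hk, rfl⟩ := h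
  refine ⟨k⁻¹, fun v hv => by simp [hk v hv], ?_⟩
  funext c
  rw [hc c]; simp

theorem cf (S : Setup C Z V) (x : Subgroup.normalizer (C : Set G)) {ρ : C → ℂ}
    (h : IsLinV V ρ) : IsLinV V (BL.cf C x ρ) := by
  obtain ⟨k, hk, rfl⟩ := h
  refine ⟨k.comp (cj C x).toMonoidHom, fun v hv => ?_, ?_⟩
  · simp only [MonoidHom.comp_apply, MulEquiv.coe_toMonoidHom]
    exact hk _ (S.cj_mem_V x hv)
  · funext c; simp [BL.cf]

theorem normSq_apply [Finite G] {ρ : C → ℂ} (h : IsLinV V ρ) (c : C) :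
    Complex.normSq (ρ c) = 1 := by
  have h1 : ((Complex.normSq (ρ c) : ℝ) : ℂ) = 1 := by
    rw [Complex.normSq_eq_conj_mul_self, h.conj_apply, inv_mul_cancel₀ (h.apply_ne_zero c)]
  exact_mod_cast h1

/-- a linear character trivial on `V` and on `Z` is trivial -/
theorem eq_one_of_zTriv (S : Setup C Z V) {ρ : C → ℂ} (h : IsLinV V ρ) (hz : ZTriv Z ρ) :
    ρ = fun _ => 1 := by
  funext c
  obtain ⟨z, hzZ, v, hvV, rfl⟩ := S.exists_mul c
  rw [h.apply_mul, hz z hzZ, h.apply_one, h.apply_mem_V hvV, mul_one]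

/-- a linear character trivial on `V` is `κ_l` for its restriction `l` -/
theorem eq_kapF (S : Setup C Z V) {ρ : C → ℂ} (h : IsLinV V ρ) : ∃ l : Z →* ℂˣ, ρ = S.kapF l := by
  obtain ⟨k, hk, rfl⟩ := h
  refine ⟨k.comp Z.subtype, ?_⟩
  funext c
  obtain ⟨z, hzZ, v, hvV, rfl⟩ := S.exists_mul c
  unfold Setup.kapF
  rw [map_mul, map_mul, hk v hvV, S.kap_of_mem_V _ hvV]
  have := S.kap_of_mem (k.comp Z.subtype) ⟨z, hzZ⟩
  simp only at this
  rw [this]
  simp

end IsLinV

section central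
variable [Fintype G] [Fintype C]

theorem Setup.mem_center (S : Setup C Z V) {z : C} (hz : z ∈ Z) : z ∈ Subgroup.center C := S.hZ hz

/-- central character multiplicativity -/
theorem Setup.apply_mul_of_mem (S : Setup C Z V) {φ : C → ℂ} (hφ : IsIrrCharacter C φ)
    {z : C} (hz : z ∈ Z) (a : C) : φ (z * a) * φ 1 = φ z * φ a := by
  obtain ⟨c, _, hc⟩ := FT.apply_center_mul_scalar hφ (S.mem_center hz)
  have h1 := hc 1
  rw [mul_one] at h1
  rw [hc a, h1]; ring

theorem Setup.normSq_apply_of_mem (S : Setup C Z V) {φ : C → ℂ} (hφ : IsIrrCharacter C φ)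
    {z : C} (hz : z ∈ Z) : Complex.normSq (φ z) = Complex.normSq (φ 1) := by
  have := FT.normSq_apply_center_mul hφ (S.mem_center hz) 1
  rwa [mul_one] at this

theorem Setup.apply_ne_zero_of_mem (S : Setup C Z V) {φ : C → ℂ} (hφ : IsIrrCharacter C φ)
    {z : C} (hz : z ∈ Z) : φ z ≠ 0 := by
  intro h
  have h1 := S.normSq_apply_of_mem hφ hz
  rw [h, Complex.normSq_zero] at h1
  exact IsIrrCharacter.apply_one_ne_zero hφ (Complex.normSq_eq_zero.1 h1.symm)

/-- **Free action**: a character of `C` not trivial on `Z` has inertia group `C` in `N_G(C)`. -/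
theorem Setup.mem_of_cf_eq (S : Setup C Z V) {φ : C → ℂ} (hφ : IsIrrCharacter C φ)
    (hnt : ¬ ZTriv Z φ) (x : Subgroup.normalizer (C : Set G)) (hx : cf C x φ = φ) :
    (x : G) ∈ C := by
  classical
  by_contra hxC
  apply hnt
  have h1 := IsIrrCharacter.apply_one_ne_zero hφ
  -- the map z ↦ z⁻¹ * cj x z on Z
  let f : Z → Z := fun z => ⟨(z : C)⁻¹ * cj C x z, Z.mul_mem (Z.inv_mem z.2) (S.hZinv x z z.2)⟩
  have hcomm : ∀ a b : C, a ∈ Z → a * b = b * a := fun a b ha =>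
    ((Subgroup.mem_center_iff.1 (S.mem_center ha)) b).symm
  have hinj : Function.Injective f := by
    intro z z' h
    have h2 : (z : C)⁻¹ * cj C x z = (z' : C)⁻¹ * cj C x z' := congrArg Subtype.val h
    have h3 : cj C x ((z : C) * (z' : C)⁻¹) = (z : C) * (z' : C)⁻¹ := by
      rw [map_mul, map_inv]
      have h4 : cj C x z = (z : C) * ((z' : C)⁻¹ * cj C x z') := by
        rw [← h2, mul_inv_cancel_left]
      rw [h4, mul_assoc, mul_assoc, mul_inv_cancel, mul_one]
    have h6 := S.hfree x hxC _ (Z.mul_mem z.2 (Z.inv_mem z'.2)) h3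
    apply Subtype.ext
    exact mul_inv_eq_one.1 h6
  have hsurj : Function.Surjective f := Finite.injective_iff_surjective.1 hinj
  intro w hw
  obtain ⟨z, hz⟩ := hsurj ⟨w, hw⟩
  have hw' : w = (z : C)⁻¹ * cj C x z := by
    have := congrArg Subtype.val hz
    exact this.symm
  have h7 : φ (cj C x z) = φ z := by
    have := congrFun hx z
    rwa [cf_apply] at this
  have h8 := S.apply_mul_of_mem hφ (Z.inv_mem z.2) (cj C x z)
  rw [← hw', h7] at h8
  have h9 := S.apply_mul_of_mem hφ (Z.inv_mem z.2) (z : C)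
  rw [inv_mul_cancel] at h9
  have h10 : φ w * φ 1 = φ 1 * φ 1 := by rw [h8, ← h9]
  exact mul_right_cancel₀ h1 h10

/-- product of an irreducible character with a linear character is irreducible -/
theorem IsLinV.mul_isIrr {ρ φ : C → ℂ} (h : IsLinV V ρ) (hφ : IsIrrCharacter C φ) :
    IsIrrCharacter C (φ * ρ) := by
  apply isIrrCharacter_of_classInner_self_eq_one
    (IsCharacter.mul (IsIrrCharacter.isCharacter hφ) (IsIrrCharacter.isCharacter h.isIrr))
  have h1 : classInner φ φ = 1 := by rw [classInner_isIrrCharacter hφ hφ, if_pos rfl]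
  rw [← h1]
  unfold classInner
  congr 1
  apply Finset.sum_congr rfl
  intro c _
  simp only [Pi.mul_apply, map_mul]
  have h2 : ρ c * (starRingEnd ℂ) (ρ c) = 1 := by
    rw [h.conj_apply, mul_inv_cancel₀ (h.apply_ne_zero c)]
  calc φ c * ρ c * ((starRingEnd ℂ) (φ c) * (starRingEnd ℂ) (ρ c))
      = φ c * (starRingEnd ℂ) (φ c) * (ρ c * (starRingEnd ℂ) (ρ c)) := by ring
    _ = _ := by rw [h2, mul_one]

/-- a nontrivial linear character trivial on `V` is not trivial on `Z` -/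
theorem IsLinV.not_zTriv (S : Setup C Z V) {ρ : C → ℂ} (h : IsLinV V ρ) (hne : ρ ≠ fun _ => 1) :
    ¬ ZTriv Z ρ := fun hz => hne (h.eq_one_of_zTriv S hz)

/-- `L` acts freely on `Irr(C)` -/
theorem IsLinV.eq_one_of_mul_eq (S : Setup C Z V) {ρ φ : C → ℂ} (h : IsLinV V ρ)
    (hφ : IsIrrCharacter C φ) (he : φ * ρ = φ) : ρ = fun _ => 1 := by
  apply h.eq_one_of_zTriv S
  intro z hz
  have h1 := congrFun he z
  simp only [Pi.mul_apply] at h1
  have h2 := S.apply_ne_zero_of_mem hφ hz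
  have h3 : ρ z = 1 := by
    have : φ z * ρ z = φ z * 1 := by rw [h1, mul_one]
    exact mul_left_cancel₀ h2 this
  rw [h3, h.apply_one]

/-- the `Z`-restriction of `φ * ρ` -/
theorem zTriv_mul_iff {ρ φ : C → ℂ} (h : IsLinV V ρ) :
    ZTriv Z (φ * ρ) ↔ ∀ z ∈ Z, φ z * ρ z = φ 1 := by
  unfold ZTriv
  simp only [Pi.mul_apply, h.apply_one, mul_one]

end central

end Cfsg.Agent.Lib.Helper3.BL
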