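import Mathlib
import Cfsg.Agent.Lib.Helper3.BL3
import Cfsg.Agent.Lib.Helper6.GenChar
import Cfsg.Agent.Lib.Helper6.RepBasic

set_option autoImplicit false
set_option linter.unusedSectionVars false
set_option linter.style.haveILetI false

namespace Cfsg.Agent.Lib.Helper3.BL
open Cfsg Cfsg.Agent.Lib.Helper6
open scoped ComplexConjugate
open scoped Classical

variable {G : Type*} [Group G]
variable {C : Subgroup G} {Z V : Subgroup C}

/-- `φ'` lies in the `N_G(C)`-orbit of `φ` -/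
def InOrb (C : Subgroup G) (φ φ' : C → ℂ) : Prop :=
  ∃ x : Subgroup.normalizer (C : Set G), φ' = cf C x φ

theorem InOrb.refl (φ : C → ℂ) : InOrb C φ φ := ⟨1, (cf_one C φ).symm⟩

theorem InOrb.symm {φ φ' : C → ℂ} (h : InOrb C φ φ') : InOrb C φ' φ := by
  obtain ⟨x, rfl⟩ := h
  exact ⟨x⁻¹, (cf_inv_cf C x φ).symm⟩

theorem InOrb.trans {φ φ' φ'' : C → ℂ} (h : InOrb C φ φ') (h' : InOrb C φ' φ'') :
    InOrb C φ φ'' := by
  obtain ⟨x, rfl⟩ := h
  obtain ⟨y, rfl⟩ := h'
  exact ⟨x * y, (cf_mul C x y φ).symm⟩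

theorem InOrb.cf_right {φ : C → ℂ} (x : Subgroup.normalizer (C : Set G)) :
    InOrb C φ (cf C x φ) := ⟨x, rfl⟩

theorem inOrb_comm {φ φ' : C → ℂ} : InOrb C φ φ' ↔ InOrb C φ' φ := ⟨InOrb.symm, InOrb.symm⟩

theorem inOrb_congr_left {φ φ' φ'' : C → ℂ} (h : InOrb C φ φ') :
    InOrb C φ φ'' ↔ InOrb C φ' φ'' :=
  ⟨fun h' => h.symm.trans h', fun h' => h.trans h'⟩

/-- multiplicity (as a complex number) of `φ` in the restriction of `ψ` to `C` -/
noncomputable def am (C : Subgroup G) [Fintype C] (ψ : G → ℂ) (φ : C → ℂ) : ℂ :=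
  classInner (fun c : C => ψ c) φ

section fin
variable [Fintype G] [Fintype C] [Fintype (Subgroup.normalizer (C : Set G))]

theorem am_cf {ψ : G → ℂ} (hψ : IsClassFunction G ψ) (x : Subgroup.normalizer (C : Set G))
    (φ : C → ℂ) : am C ψ (cf C x φ) = am C ψ φ := by
  unfold am
  rw [classInner_cf_right, cf_restrict C hψ]

theorem am_of_inOrb {ψ : G → ℂ} (hψ : IsClassFunction G ψ) {φ φ' : C → ℂ} (h : InOrb C φ φ') :
    am C ψ φ' = am C ψ φ := by
  obtain ⟨x, rfl⟩ := h
  exact am_cf hψ x φ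

theorem am_nat {ψ : G → ℂ} (hψ : IsCharacter G ψ) {φ : C → ℂ} (hφ : IsIrrCharacter C φ) :
    ∃ n : ℕ, am C ψ φ = n :=
  IsCharacter.classInner_irr_nat (IsCharacter.restrict C hψ) hφ

theorem am_conj_symm {ψ : G → ℂ} (hψ : IsCharacter G ψ) {φ : C → ℂ} (hφ : IsIrrCharacter C φ) :
    classInner φ (fun c : C => ψ c) = am C ψ φ := by
  obtain ⟨n, hn⟩ := am_nat hψ hφ
  rw [← classInner_conj_symm, ← am, hn, Complex.conj_natCast]

theorem am_add (ψ ψ' : G → ℂ) (φ : C → ℂ) : am C (ψ + ψ') φ = am C ψ φ + am C ψ' φ := by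
  unfold am
  rw [← classInner_add_left]; rfl

theorem am_sub (ψ ψ' : G → ℂ) (φ : C → ℂ) : am C (ψ - ψ') φ = am C ψ φ - am C ψ' φ := by
  unfold am
  rw [← classInner_sub_left]; rfl

/-- number of elements of `N_G(C)` lying in `C` -/
theorem sum_mem_C : (∑ x : Subgroup.normalizer (C : Set G), if (x : G) ∈ C then (1 : ℂ) else 0)
    = Nat.card C := by
  classical
  rw [Finset.sum_boole]
  congr 1
  rw [Nat.card_eq_fintype_card, ← Finset.card_univ (α := C)]
  symm
  apply Finset.card_bij (fun c _ => toN C c)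
  · intro c _; simp [toN]
  · intro a _ b _ h
    have := congrArg (fun y : Subgroup.normalizer (C : Set G) => (y : G)) h
    exact Subtype.ext this
  · intro y hy
    simp only [Finset.mem_filter, Finset.mem_univ, true_and] at hy
    exact ⟨⟨y, hy⟩, Finset.mem_univ _, Subtype.ext rfl⟩

/-- the fibre of the orbit map over a point of the orbit has `|C|` elements -/
theorem Setup.sum_classInner_cf (S : Setup C Z V) {φ φ'' : C → ℂ} (hφ : IsIrrCharacter C φ)
    (hnt : ¬ ZTriv Z φ) (hφ'' : IsIrrCharacter C φ'') :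
    ∑ x : Subgroup.normalizer (C : Set G), classInner (cf C x φ) φ''
      = if InOrb C φ φ'' then (Nat.card C : ℂ) else 0 := by
  classical
  split_ifs with h
  · obtain ⟨x₀, rfl⟩ := h
    rw [← sum_mem_C (C := C)]
    refine Fintype.sum_equiv (Equiv.mulRight x₀⁻¹) _ _ ?_
    intro x
    show classInner (cf C x φ) (cf C x₀ φ)
      = if ((x * x₀⁻¹ : Subgroup.normalizer (C : Set G)) : G) ∈ C then 1 else 0
    rw [classInner_isIrrCharacter (cf_isIrr C x hφ) (cf_isIrr C x₀ hφ)]
    have hiff : cf C x φ = cf C x₀ φ ↔ ((x * x₀⁻¹ : Subgroup.normalizer (C : Set G)) : G) ∈ C := by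
      constructor
      · intro e
        apply S.mem_of_cf_eq hφ hnt
        rw [cf_mul, e, cf_inv_cf]
      · intro e
        have h1 : cf C (x * x₀⁻¹) φ = φ := by
          have h2 := cf_toN_of_classFunction C (IsIrrCharacter.isClassFunction hφ) ⟨_, e⟩
          convert h2 using 2
          exact Subtype.ext rfl
        rw [cf_mul] at h1
        have h3 := congrArg (cf C x₀) h1
        rwa [cf_cf_inv] at h3
    by_cases hc : cf C x φ = cf C x₀ φ
    · rw [if_pos hc, if_pos (hiff.1 hc)]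
    · rw [if_neg hc, if_neg (fun e => hc (hiff.2 e))]
  · apply Finset.sum_eq_zero
    intro x _
    rw [classInner_isIrrCharacter (cf_isIrr C x hφ) hφ'', if_neg]
    intro e
    exact h ⟨x, e.symm⟩

theorem Setup.sum_classInner_cf' (S : Setup C Z V) {φ φ'' : C → ℂ} (hφ : IsIrrCharacter C φ)
    (hnt : ¬ ZTriv Z φ) (hφ'' : IsIrrCharacter C φ'') :
    ∑ x : Subgroup.normalizer (C : Set G), classInner φ'' (cf C x φ)
      = if InOrb C φ φ'' then (Nat.card C : ℂ) else 0 := by
  rw [← S.sum_classInner_cf hφ hnt hφ'']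
  apply Finset.sum_congr rfl
  intro x _
  rw [classInner_isIrrCharacter hφ'' (cf_isIrr C x hφ),
    classInner_isIrrCharacter (cf_isIrr C x hφ) hφ'']
  by_cases h : φ'' = cf C x φ
  · rw [if_pos h, if_pos h.symm]
  · rw [if_neg h, if_neg (fun e => h e.symm)]

/-- Hypotheses of the basic lemma on a pair of characters of `C`. -/
structure Pair (C : Subgroup G) (Z V : Subgroup C) (φ φ' : C → ℂ) : Prop where
  irr : IsIrrCharacter C φ
  irr' : IsIrrCharacter C φ'
  nt : ¬ ZTriv Z φ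
  nt' : ¬ ZTriv Z φ'
  agree : ∀ v ∈ V, φ v = φ' v
  notOrb : ¬ InOrb C φ φ'

theorem Pair.sub_vanish {φ φ' : C → ℂ} (P : Pair C Z V φ φ') : ∀ v ∈ V, (φ - φ') v = 0 := by
  intro v hv
  rw [Pi.sub_apply, P.agree v hv, sub_self]

theorem Pair.symm {φ φ' : C → ℂ} (P : Pair C Z V φ φ') : Pair C Z V φ' φ :=
  ⟨P.irr', P.irr, P.nt', P.nt, fun v hv => (P.agree v hv).symm, fun h => P.notOrb h.symm⟩

/-- inner product of two TI-induced differences -/
theorem Setup.classInner_indFun_sub (S : Setup C Z V) {φ₁ φ₁' φ₂ φ₂' : C → ℂ}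
    (P₁ : Pair C Z V φ₁ φ₁') (P₂ : Pair C Z V φ₂ φ₂') :
    classInner (indFun C (φ₁ - φ₁')) (indFun C (φ₂ - φ₂'))
      = (if InOrb C φ₂ φ₁ then 1 else 0) - (if InOrb C φ₂' φ₁ then 1 else 0)
        - (if InOrb C φ₂ φ₁' then 1 else 0) + (if InOrb C φ₂' φ₁' then 1 else 0) := by
  have hC : (Nat.card C : ℂ) ≠ 0 := card_ne_zero_complex C
  rw [S.classInner_indFun _ _ P₂.sub_vanish]
  have h : ∀ x : Subgroup.normalizer (C : Set G), classInner (φ₁ - φ₁') (cf C x (φ₂ - φ₂'))
      = classInner φ₁ (cf C x φ₂) - classInner φ₁ (cf C x φ₂')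
        - classInner φ₁' (cf C x φ₂) + classInner φ₁' (cf C x φ₂') := by
    intro x
    rw [cf_sub, classInner_sub_left, classInner_sub_right, classInner_sub_right]
    ring
  simp_rw [h]
  rw [Finset.sum_add_distrib, Finset.sum_sub_distrib, Finset.sum_sub_distrib,
    S.sum_classInner_cf' P₂.irr P₂.nt P₁.irr, S.sum_classInner_cf' P₂.irr' P₂.nt' P₁.irr,
    S.sum_classInner_cf' P₂.irr P₂.nt P₁.irr', S.sum_classInner_cf' P₂.irr' P₂.nt' P₁.irr']
  by_cases h1 : InOrb C φ₂ φ₁ <;> by_cases h2 : InOrb C φ₂' φ₁ <;>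
    by_cases h3 : InOrb C φ₂ φ₁' <;> by_cases h4 : InOrb C φ₂' φ₁' <;>
    simp only [h1, h2, h3, h4, if_true, if_false] <;> field_simp <;> ring

/-- **Basic lemma**: the TI-induced difference of two non-conjugate characters of `C` agreeing on
`V` is a difference of two distinct irreducible characters of `G`. -/
theorem Setup.exists_sub (S : Setup C Z V) {φ φ' : C → ℂ} (P : Pair C Z V φ φ') :
    ∃ A B : IrrCharacter G, A ≠ B ∧ indFun C (φ - φ') = (A : G → ℂ) - (B : G → ℂ) := by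
  apply IsGeneralizedCharacter.eq_sub_of_norm_two
  · apply IsGeneralizedCharacter.indFun
    exact IsGeneralizedCharacter.sub
      (IsCharacter.isGeneralizedCharacter (IsIrrCharacter.isCharacter P.irr))
      (IsCharacter.isGeneralizedCharacter (IsIrrCharacter.isCharacter P.irr'))
  · rw [S.classInner_indFun_sub P P, if_pos (InOrb.refl φ), if_pos (InOrb.refl φ'),
      if_neg (fun h => P.notOrb h.symm), if_neg P.notOrb]
    norm_num
  · apply indFun_apply_one_of_vanish
    exact P.sub_vanish 1 V.one_mem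

/-- multiplicities in the restriction of a TI-induced difference -/
theorem Setup.am_indFun_sub (S : Setup C Z V) {φ φ' φ'' : C → ℂ} (P : Pair C Z V φ φ')
    (hφ'' : IsIrrCharacter C φ'') :
    am C (indFun C (φ - φ')) φ''
      = (if InOrb C φ φ'' then 1 else 0) - (if InOrb C φ' φ'' then 1 else 0) := by
  have hC : (Nat.card C : ℂ) ≠ 0 := card_ne_zero_complex C
  unfold am
  have h : (fun c : C => indFun C (φ - φ') (c : G))
      = (Nat.card C : ℂ)⁻¹ • ∑ x : Subgroup.normalizer (C : Set G), cf C x (φ - φ') := by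
    funext c
    rw [S.indFun_apply _ P.sub_vanish c]
    simp [Finset.sum_apply]
  rw [h, classInner_smul_left, classInner_sum_left]
  simp_rw [cf_sub, classInner_sub_left]
  rw [Finset.sum_sub_distrib, S.sum_classInner_cf P.irr P.nt hφ'',
    S.sum_classInner_cf P.irr' P.nt' hφ'']
  by_cases h1 : InOrb C φ φ'' <;> by_cases h2 : InOrb C φ' φ'' <;>
    simp only [h1, h2, if_true, if_false] <;> field_simp <;> ring

/-- reciprocity for the basic lemma -/
theorem classInner_indFun_sub_irr {φ φ' : C → ℂ} (P : Pair C Z V φ φ')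
    {ψ : G → ℂ} (hψ : IsCharacter G ψ) :
    classInner (indFun C (φ - φ')) ψ = am C ψ φ - am C ψ φ' := by
  rw [Cfsg.Agent.S0146.result C _ ψ (IsCharacter.isClassFunction hψ), classInner_sub_left,
    am_conj_symm hψ P.irr, am_conj_symm hψ P.irr']

end fin

end Cfsg.Agent.Lib.Helper3.BL
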