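import Mathlib
import Cfsg.Agent.Lib.Helper3.BL4
import Cfsg.Agent.Lib.Helper6.Multiplicity

set_option autoImplicit false
set_option linter.unusedSectionVars false
set_option linter.style.haveILetI false

namespace Cfsg.Agent.Lib.Helper3.BL
open Cfsg Cfsg.Agent.Lib.Helper6
open scoped ComplexConjugate
open scoped Classical

variable {G : Type*} [Group G]
variable {C : Subgroup G} {Z V : Subgroup C}

/-- natural-number multiplicity of `φ` in the restriction of `ψ` to `C` -/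
noncomputable def mu (C : Subgroup G) [Fintype C] (ψ : G → ℂ) (φ : C → ℂ) : ℕ :=
  ⌊(am C ψ φ).re⌋₊

section fin
variable [Fintype G] [Fintype C] [Fintype (Subgroup.normalizer (C : Set G))]

theorem am_eq_mu {ψ : G → ℂ} (hψ : IsCharacter G ψ) {φ : C → ℂ} (hφ : IsIrrCharacter C φ) :
    am C ψ φ = (mu C ψ φ : ℂ) := by
  obtain ⟨n, hn⟩ := am_nat hψ hφ
  unfold mu
  rw [hn]
  simp

theorem mu_of_inOrb {ψ : G → ℂ} (hψ : IsClassFunction G ψ) {φ φ' : C → ℂ} (h : InOrb C φ φ') :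
    mu C ψ φ' = mu C ψ φ := by
  unfold mu
  rw [am_of_inOrb hψ h]

theorem mu_add {ψ ψ' : G → ℂ} (hψ : IsCharacter G ψ) (hψ' : IsCharacter G ψ') {φ : C → ℂ}
    (hφ : IsIrrCharacter C φ) : mu C (ψ + ψ') φ = mu C ψ φ + mu C ψ' φ := by
  have h := am_add (C := C) ψ ψ' φ
  rw [am_eq_mu (IsCharacter.add hψ hψ') hφ, am_eq_mu hψ hφ, am_eq_mu hψ' hφ] at h
  exact_mod_cast h

theorem mu_le_of_add {ψ ψ' : G → ℂ} (hψ : IsCharacter G ψ) (hψ' : IsCharacter G ψ') {φ : C → ℂ}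
    (hφ : IsIrrCharacter C φ) : mu C ψ φ ≤ mu C (ψ + ψ') φ := by
  rw [mu_add hψ hψ' hφ]; omega

/-- the basic lemma in terms of multiplicities -/
theorem Setup.mu_sub_eq (S : Setup C Z V) {φ φ' : C → ℂ} (P : Pair C Z V φ φ')
    {A B : IrrCharacter G} (hAB : indFun C (φ - φ') = (A : G → ℂ) - (B : G → ℂ))
    (ψ : IrrCharacter G) :
    (mu C (ψ : G → ℂ) φ : ℤ) - mu C (ψ : G → ℂ) φ'
      = (if A = ψ then 1 else 0) - (if B = ψ then 1 else 0) := by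
  have hψ := IsIrrCharacter.isCharacter ψ.2
  have h1 := classInner_indFun_sub_irr P hψ
  rw [hAB, classInner_sub_left, classInner_irrCharacter, classInner_irrCharacter,
    am_eq_mu hψ P.irr, am_eq_mu hψ P.irr'] at h1
  have h2 : (((if A = ψ then 1 else 0 : ℤ) - (if B = ψ then 1 else 0 : ℤ) : ℤ) : ℂ)
      = ((mu C (ψ : G → ℂ) φ : ℤ) - (mu C (ψ : G → ℂ) φ' : ℤ) : ℤ) := by
    push_cast
    rw [← h1]
  exact_mod_cast h2.symm

/-- uniqueness: at most one irreducible character has larger multiplicity at `φ` than at `φ'` -/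
theorem Setup.eq_of_mu_lt (S : Setup C Z V) {φ φ' : C → ℂ} (P : Pair C Z V φ φ')
    {ψ₁ ψ₂ : IrrCharacter G} (h₁ : mu C (ψ₁ : G → ℂ) φ' < mu C (ψ₁ : G → ℂ) φ)
    (h₂ : mu C (ψ₂ : G → ℂ) φ' < mu C (ψ₂ : G → ℂ) φ) : ψ₁ = ψ₂ := by
  obtain ⟨A, B, hne, hAB⟩ := S.exists_sub P
  have e₁ := S.mu_sub_eq P hAB ψ₁
  have e₂ := S.mu_sub_eq P hAB ψ₂
  have hA₁ : A = ψ₁ := by
    by_contra h
    rw [if_neg h] at e₁
    split_ifs at e₁ <;> omega
  have hA₂ : A = ψ₂ := by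
    by_contra h
    rw [if_neg h] at e₂
    split_ifs at e₂ <;> omega
  rw [← hA₁, ← hA₂]

theorem Setup.mu_eq_succ_of_lt (S : Setup C Z V) {φ φ' : C → ℂ} (P : Pair C Z V φ φ')
    {ψ : IrrCharacter G} (h : mu C (ψ : G → ℂ) φ' < mu C (ψ : G → ℂ) φ) :
    mu C (ψ : G → ℂ) φ = mu C (ψ : G → ℂ) φ' + 1 := by
  obtain ⟨A, B, hne, hAB⟩ := S.exists_sub P
  have e := S.mu_sub_eq P hAB ψ
  split_ifs at e <;> omega

/-- the partner of an irreducible character with respect to a pair -/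
theorem Setup.exists_partner (S : Setup C Z V) {φ φ' : C → ℂ} (P : Pair C Z V φ φ')
    {ψ : IrrCharacter G} (h : mu C (ψ : G → ℂ) φ' < mu C (ψ : G → ℂ) φ) :
    ∃ ψ' : IrrCharacter G, ψ' ≠ ψ ∧ (ψ' : G → ℂ) 1 = (ψ : G → ℂ) 1 ∧
      ∀ φ'' : C → ℂ, IsIrrCharacter C φ'' →
        (mu C (ψ' : G → ℂ) φ'' : ℤ) = mu C (ψ : G → ℂ) φ''
          - (if InOrb C φ φ'' then 1 else 0) + (if InOrb C φ' φ'' then 1 else 0) := by
  obtain ⟨A, B, hne, hAB⟩ := S.exists_sub P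
  have e := S.mu_sub_eq P hAB ψ
  have hA : A = ψ := by
    by_contra h'
    rw [if_neg h'] at e
    split_ifs at e <;> omega
  subst hA
  refine ⟨B, fun h' => hne h'.symm, ?_, ?_⟩
  · have h1 : indFun C (φ - φ') 1 = 0 :=
      indFun_apply_one_of_vanish _ (P.sub_vanish 1 V.one_mem)
    rw [hAB, Pi.sub_apply, sub_eq_zero] at h1
    exact h1.symm
  · intro φ'' hφ''
    have h2 := S.am_indFun_sub P hφ''
    rw [hAB, am_sub, am_eq_mu (IsIrrCharacter.isCharacter A.2) hφ'',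
      am_eq_mu (IsIrrCharacter.isCharacter B.2) hφ''] at h2
    have h3 : (((mu C (A : G → ℂ) φ'' : ℤ) - (mu C (B : G → ℂ) φ'' : ℤ) : ℤ) : ℂ)
        = (((if InOrb C φ φ'' then 1 else 0 : ℤ) - (if InOrb C φ' φ'' then 1 else 0 : ℤ) : ℤ) : ℂ) := by
      push_cast
      rw [h2]
    have h4 : (mu C (A : G → ℂ) φ'' : ℤ) - (mu C (B : G → ℂ) φ'' : ℤ)
        = (if InOrb C φ φ'' then 1 else 0 : ℤ) - (if InOrb C φ' φ'' then 1 else 0 : ℤ) := by
      exact_mod_cast h3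
    linarith

/-- two pairs in four different orbits cannot both be "increasing" for the same character -/
theorem Setup.false_of_two_pairs (S : Setup C Z V) {φ₁ φ₁' φ₂ φ₂' : C → ℂ}
    (P₁ : Pair C Z V φ₁ φ₁') (P₂ : Pair C Z V φ₂ φ₂')
    (h1 : ¬ InOrb C φ₂ φ₁) (h2 : ¬ InOrb C φ₂' φ₁) (h3 : ¬ InOrb C φ₂ φ₁') (h4 : ¬ InOrb C φ₂' φ₁')
    {ψ : IrrCharacter G} (hψ₁ : mu C (ψ : G → ℂ) φ₁' < mu C (ψ : G → ℂ) φ₁)
    (hψ₂ : mu C (ψ : G → ℂ) φ₂' < mu C (ψ : G → ℂ) φ₂) : False := by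
  obtain ⟨A₁, B₁, hne₁, hAB₁⟩ := S.exists_sub P₁
  obtain ⟨A₂, B₂, hne₂, hAB₂⟩ := S.exists_sub P₂
  have e₁ := S.mu_sub_eq P₁ hAB₁ ψ
  have e₂ := S.mu_sub_eq P₂ hAB₂ ψ
  have hA₁ : A₁ = ψ := by
    by_contra h
    rw [if_neg h] at e₁
    split_ifs at e₁ <;> omega
  have hA₂ : A₂ = ψ := by
    by_contra h
    rw [if_neg h] at e₂
    split_ifs at e₂ <;> omega
  rw [hA₁] at hAB₁ hne₁
  rw [hA₂] at hAB₂ hne₂
  have h0 := S.classInner_indFun_sub P₁ P₂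
  rw [if_neg h1, if_neg h2, if_neg h3, if_neg h4, hAB₁, hAB₂, classInner_sub_left,
    classInner_sub_right, classInner_sub_right, classInner_irrCharacter, classInner_irrCharacter,
    classInner_irrCharacter, classInner_irrCharacter, if_pos rfl, if_neg hne₂,
    if_neg (fun h => hne₁ h.symm)] at h0
  split_ifs at h0 <;> norm_num at h0

end fin

end Cfsg.Agent.Lib.Helper3.BL
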