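import Mathlib
import Cfsg.Agent.Lib.Helper3.BL5
import Cfsg.Agent.Lib.Helper3.FT1
import Cfsg.Agent.Lib.Helper6.CharBasic

set_option autoImplicit false
set_option linter.unusedSectionVars false
set_option linter.style.haveILetI false

namespace Cfsg.Agent.Lib.Helper3.BL
open Cfsg Cfsg.Agent.Lib.Helper6
open scoped ComplexConjugate
open scoped Classical

variable {G : Type*} [Group G]
variable {C : Subgroup G} {Z V : Subgroup C}

theorem norm_apply_le [Finite G] {χ : G → ℂ} (hχ : IsCharacter G χ) (g : G) :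
    ‖χ g‖ ≤ (charDegree χ : ℝ) := by
  obtain ⟨n, ρ, rfl⟩ := hχ
  rw [charDegree_character]
  exact norm_character_le ρ g

theorem normSq_apply_le [Finite G] {χ : G → ℂ} (hχ : IsCharacter G χ) (g : G) :
    Complex.normSq (χ g) ≤ (charDegree χ : ℝ) ^ 2 := by
  rw [Complex.normSq_eq_norm_sq]
  exact pow_le_pow_left₀ (norm_nonneg _) (norm_apply_le hχ g) 2

section fin
variable [Fintype G] [Fintype C] [Fintype (Subgroup.normalizer (C : Set G))]
variable [Fintype (IrrCharacter C)]

theorem restrict_eq_sum {ψ : G → ℂ} (hψ : IsCharacter G ψ) :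
    (fun c : C => ψ c) = ∑ θ : IrrCharacter C, mu C ψ (θ : C → ℂ) • (θ : C → ℂ) := by
  obtain ⟨m, hm, hmi⟩ := IsCharacter.exists_mult (IsCharacter.restrict C hψ)
  have h : ∀ θ : IrrCharacter C, mu C ψ (θ : C → ℂ) = m θ := by
    intro θ
    have h1 := am_eq_mu (C := C) hψ θ.2
    unfold am at h1
    rw [hmi θ] at h1
    exact_mod_cast h1.symm
  rw [hm]
  apply Finset.sum_congr rfl
  intro θ _
  rw [h θ]

theorem charDegree_eq_sum {ψ : G → ℂ} (hψ : IsCharacter G ψ) :
    charDegree ψ = ∑ θ : IrrCharacter C, mu C ψ (θ : C → ℂ) * charDegree (θ : C → ℂ) := by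
  have h1 := apply_eq_sum_mult (restrict_eq_sum (C := C) hψ) 1
  have h2 : ψ ((1 : C) : G) = (charDegree ψ : ℂ) := by
    rw [Subgroup.coe_one]; exact IsCharacter.apply_one_eq_charDegree hψ
  rw [h2] at h1
  have h3 : ∀ θ : IrrCharacter C, (θ : C → ℂ) 1 = (charDegree (θ : C → ℂ) : ℂ) := fun θ =>
    IsCharacter.apply_one_eq_charDegree (IsIrrCharacter.isCharacter θ.2)
  simp_rw [h3] at h1
  exact_mod_cast h1

theorem classInner_restrict_self {ψ : G → ℂ} (hψ : IsCharacter G ψ) :
    classInner (fun c : C => ψ c) (fun c : C => ψ c)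
      = ((∑ θ : IrrCharacter C, mu C ψ (θ : C → ℂ) * mu C ψ (θ : C → ℂ) : ℕ) : ℂ) := by
  conv_lhs => rw [restrict_eq_sum (C := C) hψ]
  exact classInner_sum_irr _ _

/-- **Leonard's inequality**: if `ψ(1)² < |Z|` then `‖ψ_C‖² ≤ |N_G(C) : C|`. -/
theorem Setup.sum_mu_sq_le (S : Setup C Z V) {e : ℕ}
    (he : Nat.card (Subgroup.normalizer (C : Set G)) = e * Nat.card C)
    {ψ : G → ℂ} (hψ : IsIrrCharacter G ψ) (hdeg : charDegree ψ ^ 2 < Nat.card Z) :
    ∑ θ : IrrCharacter C, mu C ψ (θ : C → ℂ) * mu C ψ (θ : C → ℂ) ≤ e := by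
  have hχ := IsIrrCharacter.isCharacter hψ
  have hcf := IsCharacter.isClassFunction hχ
  set d : ℕ := charDegree ψ with hd
  have hψ1 : ψ 1 = (d : ℂ) := IsCharacter.apply_one_eq_charDegree hχ
  have hCpos : 0 < (Nat.card C : ℝ) := by exact_mod_cast Nat.card_pos (α := C)
  have hGpos : 0 < (Nat.card G : ℝ) := by exact_mod_cast Nat.card_pos (α := G)
  have hNpos : 0 < Nat.card (Subgroup.normalizer (C : Set G)) := Nat.card_pos
  have hepos : 0 < e := by
    rcases Nat.eq_zero_or_pos e with h | h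
    · rw [h, zero_mul] at he; omega
    · exact h
  have heR : 0 < (e : ℝ) := by exact_mod_cast hepos
  have hdpos : 0 < d := IsIrrCharacter.charDegree_pos hψ
  -- the truncation β of ψ to C \ V
  let β : C → ℂ := fun c => if c ∈ V then 0 else ψ c
  have hβV : ∀ v ∈ V, β v = 0 := fun v hv => if_pos hv
  set sD : ℝ := ∑ c : C, (if c ∈ V then 0 else Complex.normSq (ψ c)) with hsD
  set sV : ℝ := ∑ c : C, (if c ∈ V then Complex.normSq (ψ c) else 0) with hsV
  have hsD0 : 0 ≤ sD := Finset.sum_nonneg (fun c _ => by split_ifs <;> simp [Complex.normSq_nonneg])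
  set s : ℝ := (Nat.card C : ℝ)⁻¹ * sD with hs
  -- ⟨β, ψ_C⟩ = s
  have h1 : classInner β (fun c : C => ψ c) = (s : ℂ) := by
    unfold classInner
    rw [hs, hsD]
    push_cast
    congr 1
    apply Finset.sum_congr rfl
    intro c _
    simp only [β]
    split_ifs
    · simp
    · rw [Complex.mul_conj]
  have h1' : classInner β β = (s : ℂ) := by
    rw [FT.classInner_self_eq, hs, hsD]
    congr 2
    apply Finset.sum_congr rfl
    intro c _
    simp only [β]
    split_ifs <;> simp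
  set B : G → ℂ := indFun C β with hB
  have hBψ : classInner B ψ = (s : ℂ) := by
    rw [hB, Cfsg.Agent.S0146.result C β ψ hcf, h1]
  have hψB : classInner ψ B = (s : ℂ) := by
    rw [← classInner_conj_symm, hBψ, Complex.conj_ofReal]
  have hcfβ : ∀ x : Subgroup.normalizer (C : Set G), cf C x β = β := by
    intro x
    funext c
    simp only [cf_apply, β]
    have hiff := S.cj_mem_V_iff x (c := c)
    by_cases hc : c ∈ V
    · rw [if_pos hc, if_pos (hiff.2 hc)]
    · rw [if_neg hc, if_neg (fun h => hc (hiff.1 h))]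
      simp only [cj_coe]
      exact hcf _ _
  have hBB : classInner B B = ((e : ℝ) * s : ℝ) := by
    rw [hB, S.classInner_indFun β β hβV]
    simp_rw [hcfβ, h1']
    rw [Finset.sum_const, Finset.card_univ, ← Nat.card_eq_fintype_card, he, nsmul_eq_mul]
    push_cast
    have : (Nat.card C : ℂ) ≠ 0 := card_ne_zero_complex C
    field_simp
  have hB1 : B 1 = 0 := indFun_apply_one_of_vanish β (hβV 1 V.one_mem)
  -- Y = ψ - e⁻¹ B
  set Y : G → ℂ := ψ - ((e : ℂ)⁻¹) • B with hY
  have hψψ : classInner ψ ψ = 1 := by rw [classInner_isIrrCharacter hψ hψ, if_pos rfl]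
  have hYY : classInner Y Y = ((1 - s / e : ℝ) : ℂ) := by
    rw [hY, classInner_sub_left, classInner_sub_right, classInner_sub_right,
      classInner_smul_left, classInner_smul_right, classInner_smul_left, classInner_smul_right,
      hψψ, hψB, hBψ, hBB]
    have he0 : (e : ℂ) ≠ 0 := by exact_mod_cast hepos.ne'
    have hconj : (starRingEnd ℂ) ((e : ℂ)⁻¹) = (e : ℂ)⁻¹ := by
      rw [map_inv₀, Complex.conj_natCast]
    rw [hconj]
    push_cast
    field_simp
    ring
  have hY1 : Y 1 = (d : ℂ) := by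
    rw [hY, Pi.sub_apply, Pi.smul_apply, hB1, smul_zero, sub_zero, hψ1]
  have hYge : (Nat.card G : ℝ)⁻¹ * (d : ℝ) ^ 2 ≤ 1 - s / e := by
    rw [FT.classInner_self_eq] at hYY
    have h2 : (Nat.card G : ℝ)⁻¹ * ∑ g : G, Complex.normSq (Y g) = 1 - s / e := by
      exact_mod_cast hYY
    rw [← h2]
    apply mul_le_mul_of_nonneg_left _ (by positivity)
    have h3 : Complex.normSq (Y 1) ≤ ∑ g : G, Complex.normSq (Y g) :=
      Finset.single_le_sum (f := fun g => Complex.normSq (Y g))
        (fun g _ => Complex.normSq_nonneg _) (Finset.mem_univ 1)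
    rw [hY1, Complex.normSq_natCast] at h3
    rw [sq]; exact h3
  have hs_lt : s < e := by
    have h4 : 0 < (Nat.card G : ℝ)⁻¹ * (d : ℝ) ^ 2 := by
      have : 0 < (d : ℝ) := by exact_mod_cast hdpos
      positivity
    have h5 : s / e < 1 := by linarith
    rwa [div_lt_one heR] at h5
  -- the V-part
  have hsV_le : sV ≤ (Nat.card V : ℝ) * (d : ℝ) ^ 2 := by
    have h6 : sV ≤ ∑ c : C, (if c ∈ V then (d : ℝ) ^ 2 else 0) := by
      apply Finset.sum_le_sum
      intro c _
      split_ifs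
      · exact normSq_apply_le hχ _
      · exact le_refl _
    refine le_trans h6 ?_
    rw [← Finset.sum_filter, Finset.sum_const, nsmul_eq_mul]
    have h7 : ((Finset.univ.filter (fun c : C => c ∈ V)).card : ℝ) = (Nat.card V : ℝ) := by
      congr 1
      rw [Nat.card_eq_fintype_card, Fintype.card_subtype]
    rw [h7]
  have hsum : sD + sV = ∑ c : C, Complex.normSq (ψ c) := by
    rw [hsD, hsV, ← Finset.sum_add_distrib]
    apply Finset.sum_congr rfl
    intro c _
    split_ifs <;> simp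
  have hnorm := classInner_restrict_self (C := C) hχ
  rw [FT.classInner_self_eq] at hnorm
  have hnorm' : (Nat.card C : ℝ)⁻¹ * (sD + sV)
      = ((∑ θ : IrrCharacter C, mu C ψ (θ : C → ℂ) * mu C ψ (θ : C → ℂ) : ℕ) : ℝ) := by
    rw [hsum]
    exact_mod_cast hnorm
  have hcard : (Nat.card Z : ℝ) * (Nat.card V : ℝ) = (Nat.card C : ℝ) := by
    exact_mod_cast S.hcompl.card_mul_card
  have hZpos : 0 < (Nat.card Z : ℝ) := by exact_mod_cast Nat.card_pos (α := Z)
  have hVpos : 0 < (Nat.card V : ℝ) := by exact_mod_cast Nat.card_pos (α := V)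
  have hdegR : (d : ℝ) ^ 2 < (Nat.card Z : ℝ) := by exact_mod_cast hdeg
  have hlt : ((∑ θ : IrrCharacter C, mu C ψ (θ : C → ℂ) * mu C ψ (θ : C → ℂ) : ℕ) : ℝ)
      < (e : ℝ) + 1 := by
    rw [← hnorm', mul_add, ← hs]
    have h8 : (Nat.card C : ℝ)⁻¹ * sV < 1 := by
      rw [inv_mul_lt_iff₀ hCpos, mul_one, ← hcard]
      calc sV ≤ (Nat.card V : ℝ) * (d : ℝ) ^ 2 := hsV_le
        _ < (Nat.card V : ℝ) * (Nat.card Z : ℝ) := by
            apply mul_lt_mul_of_pos_left hdegR hVpos
        _ = _ := by ring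
    linarith
  have : (∑ θ : IrrCharacter C, mu C ψ (θ : C → ℂ) * mu C ψ (θ : C → ℂ)) < e + 1 := by
    exact_mod_cast hlt
  omega

end fin

end Cfsg.Agent.Lib.Helper3.BL
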