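import Mathlib
import Cfsg.Agent.Lib.Helper3.BL6

set_option autoImplicit false
set_option linter.unusedSectionVars false
set_option linter.style.haveILetI false

namespace Cfsg.Agent.Lib.Helper3.BL
open Cfsg Cfsg.Agent.Lib.Helper6
open scoped ComplexConjugate
open scoped Classical

variable {G : Type*} [Group G]
variable {C : Subgroup G} {Z V : Subgroup C}

section fin
variable [Fintype G] [Fintype C] [Fintype (Subgroup.normalizer (C : Set G))]
variable [Fintype (IrrCharacter C)]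

/-- the orbit of an irreducible character of `C` under `N_G(C)`, as a finset -/
noncomputable def orbF (φ : IrrCharacter C) : Finset (IrrCharacter C) :=
  Finset.univ.filter (fun θ : IrrCharacter C => InOrb C (φ : C → ℂ) (θ : C → ℂ))

theorem mem_orbF {φ θ : IrrCharacter C} : θ ∈ orbF φ ↔ InOrb C (φ : C → ℂ) (θ : C → ℂ) := by
  unfold orbF; simp

theorem self_mem_orbF (φ : IrrCharacter C) : φ ∈ orbF φ := mem_orbF.2 (InOrb.refl _)

/-- the orbit of a character not trivial on `Z` has exactly `e = |N : C|` elements -/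
theorem Setup.card_orbF (S : Setup C Z V) {e : ℕ}
    (he : Nat.card (Subgroup.normalizer (C : Set G)) = e * Nat.card C)
    (φ : IrrCharacter C) (hnt : ¬ ZTriv Z (φ : C → ℂ)) : (orbF φ).card = e := by
  have hC : 0 < Nat.card C := Nat.card_pos
  have h1 : ∑ θ : IrrCharacter C, ∑ x : Subgroup.normalizer (C : Set G),
      classInner (cf C x (φ : C → ℂ)) (θ : C → ℂ)
      = ∑ θ : IrrCharacter C, if InOrb C (φ : C → ℂ) (θ : C → ℂ) then (Nat.card C : ℂ) else 0 := by
    apply Finset.sum_congr rfl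
    intro θ _
    exact S.sum_classInner_cf φ.2 hnt θ.2
  have h2 : ∑ θ : IrrCharacter C, ∑ x : Subgroup.normalizer (C : Set G),
      classInner (cf C x (φ : C → ℂ)) (θ : C → ℂ)
      = (Nat.card (Subgroup.normalizer (C : Set G)) : ℂ) := by
    rw [Finset.sum_comm]
    have h3 : ∀ x : Subgroup.normalizer (C : Set G),
        ∑ θ : IrrCharacter C, classInner (cf C x (φ : C → ℂ)) (θ : C → ℂ) = 1 := by
      intro x
      rw [Finset.sum_eq_single (⟨cf C x (φ : C → ℂ), cf_isIrr C x φ.2⟩ : IrrCharacter C)]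
      · rw [classInner_isIrrCharacter (cf_isIrr C x φ.2) (cf_isIrr C x φ.2), if_pos rfl]
      · intro θ _ hne
        rw [classInner_isIrrCharacter (cf_isIrr C x φ.2) θ.2, if_neg]
        intro h
        apply hne
        exact Subtype.ext h.symm
      · intro h; exact absurd (Finset.mem_univ _) h
    simp_rw [h3]
    rw [Finset.sum_const, Finset.card_univ, ← Nat.card_eq_fintype_card, nsmul_eq_mul, mul_one]
  rw [h1] at h2
  rw [← Finset.sum_filter, Finset.sum_const, nsmul_eq_mul, he] at h2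
  have h4 : (orbF φ).card * Nat.card C = e * Nat.card C := by
    unfold orbF
    exact_mod_cast h2
  exact Nat.eq_of_mul_eq_mul_right hC h4

/-- lower bound for the degree by multiplicities over a finset of irreducible characters -/
theorem sum_mu_le_charDegree {ψ : G → ℂ} (hψ : IsCharacter G ψ) (T : Finset (IrrCharacter C)) :
    ∑ θ ∈ T, mu C ψ (θ : C → ℂ) ≤ charDegree ψ := by
  rw [charDegree_eq_sum (C := C) hψ]
  calc ∑ θ ∈ T, mu C ψ (θ : C → ℂ)
      ≤ ∑ θ ∈ T, mu C ψ (θ : C → ℂ) * charDegree (θ : C → ℂ) := by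
        apply Finset.sum_le_sum
        intro θ _
        have := IsIrrCharacter.charDegree_pos θ.2
        exact Nat.le_mul_of_pos_right _ this
    _ ≤ ∑ θ : IrrCharacter C, mu C ψ (θ : C → ℂ) * charDegree (θ : C → ℂ) :=
        Finset.sum_le_sum_of_subset (Finset.subset_univ T)

theorem card_le_charDegree {ψ : G → ℂ} (hψ : IsCharacter G ψ) (T : Finset (IrrCharacter C))
    (hT : ∀ θ ∈ T, 1 ≤ mu C ψ (θ : C → ℂ)) : T.card ≤ charDegree ψ := by
  refine le_trans ?_ (sum_mu_le_charDegree hψ T)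
  calc T.card = ∑ _θ ∈ T, 1 := by simp
    _ ≤ _ := Finset.sum_le_sum hT

/-- restriction to `C` is the orbit sum of `φ` -/
def OrbRes (C : Subgroup G) [Fintype C] (ψ : G → ℂ) (φ : C → ℂ) : Prop :=
  ∀ θ : C → ℂ, IsIrrCharacter C θ → mu C ψ θ = if InOrb C φ θ then 1 else 0

theorem OrbRes.of_inOrb {ψ : G → ℂ} {φ φ' : C → ℂ} (h : OrbRes C ψ φ) (ho : InOrb C φ φ') :
    OrbRes C ψ φ' := by
  intro θ hθ
  rw [h θ hθ]
  by_cases h1 : InOrb C φ θ
  · rw [if_pos h1, if_pos ((inOrb_congr_left ho).1 h1)]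
  · rw [if_neg h1, if_neg (fun h2 => h1 ((inOrb_congr_left ho).2 h2))]

/-- **Leonard's dichotomy** -/
theorem Setup.dichotomy (S : Setup C Z V) {e : ℕ}
    (he : Nat.card (Subgroup.normalizer (C : Set G)) = e * Nat.card C)
    {ψ : G → ℂ} (hψ : IsIrrCharacter G ψ) (hdeg : charDegree ψ ^ 2 < Nat.card Z) :
    (∀ θ : IrrCharacter C, 1 ≤ mu C ψ (θ : C → ℂ) → ZTriv Z (θ : C → ℂ)) ∨
    ∃ φ : IrrCharacter C, ¬ ZTriv Z (φ : C → ℂ) ∧ OrbRes C ψ (φ : C → ℂ) := by
  by_cases hall : ∀ θ : IrrCharacter C, 1 ≤ mu C ψ (θ : C → ℂ) → ZTriv Z (θ : C → ℂ)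
  · exact Or.inl hall
  right
  push Not at hall
  obtain ⟨φ, hφ1, hφnt⟩ := hall
  refine ⟨φ, hφnt, ?_⟩
  have hcf := IsCharacter.isClassFunction (IsIrrCharacter.isCharacter hψ)
  have hle := S.sum_mu_sq_le he hψ hdeg
  have hcard := S.card_orbF he φ hφnt
  set a := mu C ψ (φ : C → ℂ) with ha
  have horb : ∀ θ ∈ orbF φ, mu C ψ (θ : C → ℂ) = a := by
    intro θ hθ
    exact mu_of_inOrb hcf (mem_orbF.1 hθ)
  -- split the sum
  have hsplit : ∑ θ : IrrCharacter C, mu C ψ (θ : C → ℂ) * mu C ψ (θ : C → ℂ)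
      = e * (a * a) + ∑ θ ∈ Finset.univ.filter (fun θ => θ ∉ orbF φ),
          mu C ψ (θ : C → ℂ) * mu C ψ (θ : C → ℂ) := by
    rw [← Finset.sum_filter_add_sum_filter_not Finset.univ (fun θ => θ ∈ orbF φ)]
    congr 1
    have : Finset.univ.filter (fun θ => θ ∈ orbF φ) = orbF φ := by
      ext θ; simp
    rw [this, Finset.sum_congr rfl (fun θ hθ => by rw [horb θ hθ]), Finset.sum_const, hcard,
      smul_eq_mul]
  have hepos : 0 < e := by
    rw [← hcard]; exact Finset.card_pos.2 ⟨φ, self_mem_orbF φ⟩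
  have ha1 : a = 1 := by
    by_contra hne
    have h2 : 2 ≤ a := by omega
    have : e * (a * a) ≥ e * 4 := Nat.mul_le_mul_left e (by nlinarith)
    omega
  have hrest : ∑ θ ∈ Finset.univ.filter (fun θ => θ ∉ orbF φ),
      mu C ψ (θ : C → ℂ) * mu C ψ (θ : C → ℂ) = 0 := by
    rw [ha1] at hsplit; omega
  intro θ hθ
  by_cases hin : InOrb C (φ : C → ℂ) θ
  · rw [if_pos hin, mu_of_inOrb hcf hin, ← ha, ha1]
  · rw [if_neg hin]
    have hmem : (⟨θ, hθ⟩ : IrrCharacter C) ∈ Finset.univ.filter (fun θ => θ ∉ orbF φ) := by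
      simp only [Finset.mem_filter, Finset.mem_univ, true_and, mem_orbF]
      exact hin
    have h3 := (Finset.sum_eq_zero_iff.1 hrest) _ hmem
    exact mul_self_eq_zero.1 h3

/-- if all constituents of `ψ_C` are trivial on `Z` then `Z` lies in the kernel of `ψ` -/
theorem apply_eq_of_all_zTriv {ψ : G → ℂ} (hψ : IsCharacter G ψ)
    (hall : ∀ θ : IrrCharacter C, 1 ≤ mu C ψ (θ : C → ℂ) → ZTriv Z (θ : C → ℂ))
    {z : C} (hz : z ∈ Z) : ψ (z : G) = ψ 1 := by
  have h1 := apply_eq_sum_mult (restrict_eq_sum (C := C) hψ) z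
  have h2 := apply_eq_sum_mult (restrict_eq_sum (C := C) hψ) 1
  rw [Subgroup.coe_one] at h2
  rw [h1, h2]
  apply Finset.sum_congr rfl
  intro θ _
  rcases Nat.eq_zero_or_pos (mu C ψ (θ : C → ℂ)) with h0 | hpos
  · rw [h0]; simp
  · rw [hall θ hpos z hz]

end fin

end Cfsg.Agent.Lib.Helper3.BL
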