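import Mathlib
import Cfsg.Agent.Lib.Helper3.BL7

set_option autoImplicit false
set_option linter.unusedSectionVars false
set_option linter.style.haveILetI false

namespace Cfsg.Agent.Lib.Helper3.BL
open Cfsg Cfsg.Agent.Lib.Helper6
open scoped ComplexConjugate
open scoped Classical

variable {G : Type*} [Group G]
variable {C : Subgroup G} {Z V : Subgroup C}

/-- pointwise complex conjugate of a function -/
def cjf {α : Type*} (f : α → ℂ) : α → ℂ := fun a => conj (f a)

theorem cjf_apply {α : Type*} (f : α → ℂ) (a : α) : cjf f a = conj (f a) := rfl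

section fin
variable [Fintype G] [Fintype C] [Fintype (Subgroup.normalizer (C : Set G))]
variable [Fintype (IrrCharacter C)]

theorem cjf_isCharacter {ψ : G → ℂ} (hψ : IsCharacter G ψ) : IsCharacter G (cjf ψ) :=
  IsCharacter.conj hψ

/-- partner of a character restricting to an orbit sum -/
theorem Setup.exists_orbRes_partner (S : Setup C Z V) {φ φ' : C → ℂ}
    (hφ : IsIrrCharacter C φ) (hnt : ¬ ZTriv Z φ) (hφ' : IsIrrCharacter C φ')
    (hnt' : ¬ ZTriv Z φ') (hag : ∀ v ∈ V, φ v = φ' v)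
    (χ : IrrCharacter G) (hχ : OrbRes C (χ : G → ℂ) φ) :
    ∃ χ' : IrrCharacter G, OrbRes C (χ' : G → ℂ) φ' ∧ (χ' : G → ℂ) 1 = (χ : G → ℂ) 1 := by
  by_cases ho : InOrb C φ φ'
  · exact ⟨χ, hχ.of_inOrb ho, rfl⟩
  · have P : Pair C Z V φ φ' := ⟨hφ, hφ', hnt, hnt', hag, ho⟩
    have h1 : mu C (χ : G → ℂ) φ = 1 := by rw [hχ φ hφ, if_pos (InOrb.refl φ)]
    have h0 : mu C (χ : G → ℂ) φ' = 0 := by rw [hχ φ' hφ', if_neg ho]
    obtain ⟨ψ', _, hdeg, hmu⟩ := S.exists_partner P (ψ := χ) (by omega)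
    refine ⟨ψ', ?_, hdeg⟩
    intro θ hθ
    have h2 := hmu θ hθ
    rw [hχ θ hθ] at h2
    by_cases ha : InOrb C φ θ <;> by_cases hb : InOrb C φ' θ
    · exact absurd (ha.trans hb.symm) ho
    · simp only [ha, hb, if_true, if_false] at h2 ⊢; push_cast at h2; omega
    · simp only [ha, hb, if_true, if_false] at h2 ⊢; push_cast at h2; omega
    · simp only [ha, hb, if_true, if_false] at h2 ⊢; push_cast at h2; omega

/-- restriction of an orbit-sum character -/
theorem OrbRes.restrict_eq {ψ : G → ℂ} (hψ : IsCharacter G ψ) (φ : IrrCharacter C)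
    (h : OrbRes C ψ (φ : C → ℂ)) :
    (fun c : C => ψ c) = ∑ θ ∈ orbF φ, (θ : C → ℂ) := by
  rw [restrict_eq_sum (C := C) hψ]
  unfold orbF
  rw [Finset.sum_filter]
  apply Finset.sum_congr rfl
  intro θ _
  rw [h θ θ.2]
  split_ifs <;> simp

/-- a constituent splits off -/
theorem exists_add_of_constituent {H : Type*} [Group H] [Fintype H] {Ψ : H → ℂ}
    (hΨ : IsCharacter H Ψ) (ψ : IrrCharacter H) (hc : classInner Ψ (ψ : H → ℂ) ≠ 0) :
    ∃ Ψ' : H → ℂ, IsCharacter H Ψ' ∧ Ψ = (ψ : H → ℂ) + Ψ' := by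
  have : Fintype (IrrCharacter H) := Fintype.ofFinite _
  obtain ⟨m, hm, hmi⟩ := IsCharacter.exists_mult hΨ
  have hmψ : m ψ ≠ 0 := by
    intro h0
    apply hc
    rw [hmi ψ, h0]; simp
  refine ⟨∑ θ : IrrCharacter H, (if θ = ψ then m θ - 1 else m θ) • (θ : H → ℂ), ?_, ?_⟩
  · apply IsCharacter.sum
    intro θ _
    exact IsCharacter.nsmul (IsIrrCharacter.isCharacter θ.2) _
  · conv_lhs => rw [hm]
    rw [← Finset.add_sum_erase Finset.univ _ (Finset.mem_univ ψ),
      ← Finset.add_sum_erase Finset.univ (fun θ => (if θ = ψ then m θ - 1 else m θ) • (θ : H → ℂ))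
        (Finset.mem_univ ψ), if_pos rfl, ← add_assoc]
    congr 1
    · have : m ψ = 1 + (m ψ - 1) := by omega
      conv_lhs => rw [this, add_smul, one_smul]
    · apply Finset.sum_congr rfl
      intro θ hθ
      rw [if_neg (Finset.ne_of_mem_erase hθ)]

theorem mu_le_of_constituent {Ψ : G → ℂ} (hΨ : IsCharacter G Ψ) (ψ : IrrCharacter G)
    (hc : classInner Ψ (ψ : G → ℂ) ≠ 0) {θ : C → ℂ} (hθ : IsIrrCharacter C θ) :
    mu C (ψ : G → ℂ) θ ≤ mu C Ψ θ := by
  obtain ⟨Ψ', hΨ', rfl⟩ := exists_add_of_constituent hΨ ψ hc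
  exact mu_le_of_add (IsIrrCharacter.isCharacter ψ.2) hΨ' hθ

/-- a constituent of the restriction comes from a constituent of the character -/
theorem exists_constituent_of_mu_pos {Ψ : G → ℂ} (hΨ : IsCharacter G Ψ) {θ : C → ℂ}
    (hθ : IsIrrCharacter C θ) (hpos : 1 ≤ mu C Ψ θ) :
    ∃ ψ : IrrCharacter G, classInner Ψ (ψ : G → ℂ) ≠ 0 ∧ 1 ≤ mu C (ψ : G → ℂ) θ := by
  have : Fintype (IrrCharacter G) := Fintype.ofFinite _
  obtain ⟨m, hm, hmi⟩ := IsCharacter.exists_mult hΨ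
  by_contra hcon
  push Not at hcon
  have h0 : am C Ψ θ = 0 := by
    unfold am
    have : (fun c : C => Ψ c) = ∑ ψ : IrrCharacter G, m ψ • (fun c : C => (ψ : G → ℂ) c) := by
      funext c
      rw [apply_eq_sum_mult hm]
      simp [Finset.sum_apply]
    rw [this, classInner_sum_left]
    apply Finset.sum_eq_zero
    intro ψ _
    rcases Nat.eq_zero_or_pos (m ψ) with h0 | hp
    · rw [h0, zero_smul, classInner_zero_left]
    · have h1 : classInner Ψ (ψ : G → ℂ) ≠ 0 := by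
        rw [hmi ψ]; exact_mod_cast hp.ne'
      have h2 := hcon ψ h1
      have h3 : mu C (ψ : G → ℂ) θ = 0 := by omega
      have h4 := am_eq_mu (C := C) (IsIrrCharacter.isCharacter ψ.2) hθ
      rw [h3] at h4
      unfold am at h4
      have h5 : m ψ • (fun c : C => (ψ : G → ℂ) c) = (m ψ : ℂ) • (fun c : C => (ψ : G → ℂ) c) := by
        rw [Nat.cast_smul_eq_nsmul]
      rw [h5, classInner_smul_left, h4]; simp
  have h1 := am_eq_mu (C := C) hΨ hθ
  rw [h0] at h1
  have : mu C Ψ θ = 0 := by exact_mod_cast h1.symm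
  omega

end fin

end Cfsg.Agent.Lib.Helper3.BL
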