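import Mathlib
import Cfsg.Agent.Lib.Helper3.BL8

set_option autoImplicit false
set_option linter.unusedSectionVars false
set_option linter.style.haveILetI false

namespace Cfsg.Agent.Lib.Helper3.BL
open Cfsg Cfsg.Agent.Lib.Helper6
open scoped ComplexConjugate
open scoped Classical

variable {G : Type*} [Group G]
variable {C : Subgroup G} {Z V : Subgroup C}

section fin
variable [Fintype G] [Fintype C] [Fintype (Subgroup.normalizer (C : Set G))]
variable [Fintype (IrrCharacter C)]

/-- the central character of an irreducible character of `C` on `Z`, as a homomorphism -/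
noncomputable def Setup.centralHom (S : Setup C Z V) {φ : C → ℂ} (hφ : IsIrrCharacter C φ) :
    Z →* ℂˣ where
  toFun z := Units.mk0 (φ z / φ 1)
    (div_ne_zero (S.apply_ne_zero_of_mem hφ z.2) (IsIrrCharacter.apply_one_ne_zero hφ))
  map_one' := by
    ext
    simp only [Subgroup.coe_one, Units.val_mk0, Units.val_one]
    exact div_self (IsIrrCharacter.apply_one_ne_zero hφ)
  map_mul' a b := by
    ext
    simp only [Subgroup.coe_mul, Units.val_mk0, Units.val_mul]
    have h1 := IsIrrCharacter.apply_one_ne_zero hφ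
    have h2 := S.apply_mul_of_mem hφ a.2 (b : C)
    field_simp
    rw [h2]

theorem Setup.centralHom_apply (S : Setup C Z V) {φ : C → ℂ} (hφ : IsIrrCharacter C φ) (z : Z) :
    ((S.centralHom hφ z : ℂˣ) : ℂ) = φ z / φ 1 := rfl

theorem Setup.apply_eq_centralHom (S : Setup C Z V) {φ : C → ℂ} (hφ : IsIrrCharacter C φ)
    {z : C} (hz : z ∈ Z) : φ z = φ 1 * (S.centralHom hφ ⟨z, hz⟩ : ℂˣ) := by
  rw [S.centralHom_apply]
  have h1 := IsIrrCharacter.apply_one_ne_zero hφ
  field_simp

/-- `Z` is commutative -/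
@[instance_reducible]
def Setup.commGroupZ (S : Setup C Z V) : CommGroup Z :=
  { (inferInstance : Group Z) with
    mul_comm := fun a b => by
      apply Subtype.ext
      have := (Subgroup.mem_center_iff.1 (S.mem_center a.2)) (b : C)
      exact this.symm }

theorem Setup.card_hom (S : Setup C Z V) : Nat.card (Z →* ℂˣ) = Nat.card Z := by
  letI := S.commGroupZ
  exact CommGroup.card_monoidHom_of_hasEnoughRootsOfUnity Z ℂ

theorem Setup.finite_hom (S : Setup C Z V) : Finite (Z →* ℂˣ) := by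
  apply Nat.finite_of_card_ne_zero
  rw [S.card_hom]
  exact Nat.card_pos.ne'

/-- `κ_l` as an irreducible character -/
noncomputable def Setup.kapIrr (S : Setup C Z V) (l : Z →* ℂˣ) : IrrCharacter C :=
  ⟨S.kapF l, (S.kapF_isLinV l).isIrr⟩

theorem Setup.kapIrr_injective (S : Setup C Z V) : Function.Injective S.kapIrr := by
  intro l l' h
  exact S.kapF_injective (congrArg Subtype.val h)

/-- `φ κ_l` as an irreducible character -/
noncomputable def Setup.mulIrr (S : Setup C Z V) (φ : IrrCharacter C) (l : Z →* ℂˣ) :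
    IrrCharacter C :=
  ⟨(φ : C → ℂ) * S.kapF l, (S.kapF_isLinV l).mul_isIrr φ.2⟩

theorem Setup.kapF_mul (S : Setup C Z V) (l l' : Z →* ℂˣ) :
    S.kapF (l * l') = S.kapF l * S.kapF l' := by
  funext c
  unfold Setup.kapF Setup.kap
  simp

theorem Setup.kapF_inv (S : Setup C Z V) (l : Z →* ℂˣ) (c : C) :
    S.kapF l⁻¹ c = (S.kapF l c)⁻¹ := by
  unfold Setup.kapF Setup.kap
  simp

theorem Setup.mulIrr_injective (S : Setup C Z V) (φ : IrrCharacter C) :
    Function.Injective (S.mulIrr φ) := by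
  intro l l' h
  have h1 : (φ : C → ℂ) * S.kapF l = (φ : C → ℂ) * S.kapF l' := congrArg Subtype.val h
  -- φ * κ_{l l'⁻¹} = φ
  have h2 : (φ : C → ℂ) * S.kapF (l * l'⁻¹) = (φ : C → ℂ) := by
    rw [S.kapF_mul, ← mul_assoc, h1]
    funext c
    simp only [Pi.mul_apply, S.kapF_inv]
    rw [mul_assoc, mul_inv_cancel₀ ((S.kapF_isLinV l').apply_ne_zero c), mul_one]
  have h3 := (S.kapF_isLinV (l * l'⁻¹)).eq_one_of_mul_eq S φ.2 h2
  rw [← S.kapF_one] at h3
  have h4 := S.kapF_injective h3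
  exact mul_inv_eq_one.1 h4

/-- value of `φ κ_l` on `Z` -/
theorem Setup.mulIrr_apply_mem (S : Setup C Z V) (φ : IrrCharacter C) (l : Z →* ℂˣ) (z : Z) :
    (S.mulIrr φ l : C → ℂ) z = (φ : C → ℂ) z * (l z : ℂˣ) := by
  unfold Setup.mulIrr
  simp only [Pi.mul_apply]
  rw [S.kapF_of_mem]

theorem Setup.mulIrr_apply_one (S : Setup C Z V) (φ : IrrCharacter C) (l : Z →* ℂˣ) :
    (S.mulIrr φ l : C → ℂ) 1 = (φ : C → ℂ) 1 := by
  unfold Setup.mulIrr
  simp only [Pi.mul_apply]
  rw [(S.kapF_isLinV l).apply_one, mul_one]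

/-- `φ κ_l` is trivial on `Z` only for `l` the inverse of the central character -/
theorem Setup.zTriv_mulIrr_iff (S : Setup C Z V) (φ : IrrCharacter C) (l : Z →* ℂˣ) :
    ZTriv Z (S.mulIrr φ l : C → ℂ) ↔ l = (S.centralHom φ.2)⁻¹ := by
  have h1 := IsIrrCharacter.apply_one_ne_zero φ.2
  constructor
  · intro h
    ext z
    have h2 := h z z.2
    rw [S.mulIrr_apply_mem, S.mulIrr_apply_one, S.apply_eq_centralHom φ.2 z.2] at h2
    have h3 : ((S.centralHom φ.2 z : ℂˣ) : ℂ) * (l z : ℂˣ) = 1 := by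
      have : (φ : C → ℂ) 1 * (((S.centralHom φ.2 ⟨z, z.2⟩ : ℂˣ) : ℂ) * (l z : ℂˣ))
          = (φ : C → ℂ) 1 * 1 := by rw [← mul_assoc, h2, mul_one]
      exact mul_left_cancel₀ h1 this
    simp only [MonoidHom.inv_apply, Units.val_inv_eq_inv_val]
    exact eq_inv_of_mul_eq_one_right h3
  · rintro rfl z hz
    have := S.mulIrr_apply_mem φ (S.centralHom φ.2)⁻¹ ⟨z, hz⟩
    simp only at this
    rw [this, S.mulIrr_apply_one, S.apply_eq_centralHom φ.2 hz]
    simp only [MonoidHom.inv_apply, Units.val_inv_eq_inv_val]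
    rw [mul_assoc, mul_inv_cancel₀ (Units.ne_zero _), mul_one]

/-- members of the family agree on `V` -/
theorem Setup.mulIrr_apply_mem_V (S : Setup C Z V) (φ : IrrCharacter C) (l : Z →* ℂˣ) {v : C}
    (hv : v ∈ V) : (S.mulIrr φ l : C → ℂ) v = (φ : C → ℂ) v := by
  unfold Setup.mulIrr
  simp only [Pi.mul_apply]
  rw [(S.kapF_isLinV l).apply_mem_V hv, mul_one]

end fin

end Cfsg.Agent.Lib.Helper3.BL
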