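import Mathlib
import Cfsg.Agent.Lib.Helper3.BL9

set_option autoImplicit false
set_option linter.unusedSectionVars false
set_option linter.style.haveILetI false

namespace Cfsg.Agent.Lib.Helper3.BL
open Cfsg Cfsg.Agent.Lib.Helper6
open scoped ComplexConjugate
open scoped Classical

variable {G : Type*} [Group G]
variable {C : Subgroup G} {Z V : Subgroup C}

section fin
variable [Fintype G] [Fintype C] [Fintype (Subgroup.normalizer (C : Set G))]
variable [Fintype (IrrCharacter C)]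

/-- natural-number inner product of `θ₁ θ̄₂` with `τ` -/
noncomputable def kk (θ₁ θ₂ τ : C → ℂ) : ℕ := ⌊(classInner (θ₁ * cjf θ₂) τ).re⌋₊

theorem classInner_eq_kk {θ₁ θ₂ τ : C → ℂ} (h₁ : IsIrrCharacter C θ₁) (h₂ : IsIrrCharacter C θ₂)
    (hτ : IsIrrCharacter C τ) : classInner (θ₁ * cjf θ₂) τ = (kk θ₁ θ₂ τ : ℂ) := by
  have hchar : IsCharacter C (θ₁ * cjf θ₂) :=
    IsCharacter.mul (IsIrrCharacter.isCharacter h₁)
      (IsCharacter.conj (IsIrrCharacter.isCharacter h₂))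
  obtain ⟨n, hn⟩ := IsCharacter.classInner_irr_nat hchar hτ
  unfold kk
  rw [hn]; simp

/-- restriction of `χ χ̄'` for two orbit-sum characters -/
theorem OrbRes.restrict_mul {χ χ' : G → ℂ} (hχ : IsCharacter G χ) (hχ' : IsCharacter G χ')
    (φ φ' : IrrCharacter C) (h : OrbRes C χ (φ : C → ℂ)) (h' : OrbRes C χ' (φ' : C → ℂ)) :
    (fun c : C => (χ * cjf χ') c)
      = ∑ θ₁ ∈ orbF φ, ∑ θ₂ ∈ orbF φ', (θ₁ : C → ℂ) * cjf (θ₂ : C → ℂ) := by
  funext c
  have e1 := congrFun (h.restrict_eq hχ φ) c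
  have e2 := congrFun (h'.restrict_eq hχ' φ') c
  simp only [Pi.mul_apply, cjf_apply, Finset.sum_apply] at e1 e2 ⊢
  rw [e1, e2, map_sum, Finset.sum_mul_sum]

theorem OrbRes.mu_mul {χ χ' : G → ℂ} (hχ : IsCharacter G χ) (hχ' : IsCharacter G χ')
    (φ φ' : IrrCharacter C) (h : OrbRes C χ (φ : C → ℂ)) (h' : OrbRes C χ' (φ' : C → ℂ))
    {τ : C → ℂ} (hτ : IsIrrCharacter C τ) :
    mu C (χ * cjf χ') τ
      = ∑ θ₁ ∈ orbF φ, ∑ θ₂ ∈ orbF φ', kk (θ₁ : C → ℂ) (θ₂ : C → ℂ) τ := by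
  have hΨ : IsCharacter G (χ * cjf χ') := IsCharacter.mul hχ (cjf_isCharacter hχ')
  have h1 := am_eq_mu (C := C) hΨ hτ
  unfold am at h1
  rw [h.restrict_mul hχ hχ' φ φ' h', classInner_sum_left] at h1
  simp_rw [classInner_sum_left] at h1
  have h2 : ∑ θ₁ ∈ orbF φ, ∑ θ₂ ∈ orbF φ', classInner ((θ₁ : C → ℂ) * cjf (θ₂ : C → ℂ)) τ
      = ((∑ θ₁ ∈ orbF φ, ∑ θ₂ ∈ orbF φ', kk (θ₁ : C → ℂ) (θ₂ : C → ℂ) τ : ℕ) : ℂ) := by
    push_cast
    apply Finset.sum_congr rfl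
    intro θ₁ _
    apply Finset.sum_congr rfl
    intro θ₂ _
    exact classInner_eq_kk θ₁.2 θ₂.2 hτ
  rw [h2] at h1
  exact_mod_cast h1.symm

/-- central character of a constituent of `θ₁ θ̄₂`: if the constituent is trivial on `Z` then
`θ₁` and `θ₂` have the same central character on `Z`. -/
theorem Setup.same_central_of_zTriv (S : Setup C Z V) {θ₁ θ₂ τ : C → ℂ}
    (h₁ : IsIrrCharacter C θ₁) (h₂ : IsIrrCharacter C θ₂) (hτ : IsIrrCharacter C τ)
    (hne : classInner (θ₁ * cjf θ₂) τ ≠ 0) (htriv : ZTriv Z τ) {z : C} (hz : z ∈ Z) :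
    θ₁ z * θ₂ 1 = θ₂ z * θ₁ 1 := by
  obtain ⟨c₁, hc₁, hs₁⟩ := FT.apply_center_mul_scalar h₁ (S.mem_center hz)
  obtain ⟨c₂, hc₂, hs₂⟩ := FT.apply_center_mul_scalar h₂ (S.mem_center hz)
  obtain ⟨c, hc, hs⟩ := FT.apply_center_mul_scalar hτ (S.mem_center hz)
  have hτ1 := IsIrrCharacter.apply_one_ne_zero hτ
  have hc1 : c = 1 := by
    have h3 := hs 1
    rw [mul_one, htriv z hz] at h3
    have : c * τ 1 = 1 * τ 1 := by rw [one_mul, ← h3]
    exact mul_right_cancel₀ hτ1 this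
  -- invariance of the inner product under translation by z
  have hinv : classInner (θ₁ * cjf θ₂) τ = (c₁ * conj c₂) * classInner (θ₁ * cjf θ₂) τ := by
    have hsum : ∑ y, (θ₁ * cjf θ₂) y * conj (τ y)
        = (c₁ * conj c₂) * ∑ y, (θ₁ * cjf θ₂) y * conj (τ y) := by
      rw [Finset.mul_sum]
      refine (Fintype.sum_equiv (Equiv.mulLeft z)
        (fun y => c₁ * conj c₂ * ((θ₁ * cjf θ₂) y * conj (τ y)))
        (fun y => (θ₁ * cjf θ₂) y * conj (τ y)) ?_).symm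
      intro y
      simp only [Equiv.coe_mulLeft, Pi.mul_apply, cjf_apply]
      rw [hs₁ y, hs₂ y, hs y, hc1, one_mul, map_mul]
      ring
    unfold classInner
    rw [mul_left_comm, ← hsum]
  have h4 : c₁ * conj c₂ = 1 := by
    have : (c₁ * conj c₂) * classInner (θ₁ * cjf θ₂) τ = 1 * classInner (θ₁ * cjf θ₂) τ := by
      rw [one_mul, ← hinv]
    exact mul_right_cancel₀ hne this
  have h5 : c₁ = c₂ := by
    have : c₁ * (conj c₂ * c₂) = c₂ := by rw [← mul_assoc, h4, one_mul]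
    rwa [hc₂, mul_one] at this
  have e1 := hs₁ 1
  have e2 := hs₂ 1
  rw [mul_one] at e1 e2
  rw [e1, e2, h5]; ring

/-- linear characters trivial on `V` agreeing on `Z` are equal -/
theorem IsLinV.ext_of_Z (S : Setup C Z V) {ρ₁ ρ₂ : C → ℂ} (h₁ : IsLinV V ρ₁) (h₂ : IsLinV V ρ₂)
    (h : ∀ z ∈ Z, ρ₁ z = ρ₂ z) : ρ₁ = ρ₂ := by
  funext c
  obtain ⟨z, hz, v, hv, rfl⟩ := S.exists_mul c
  rw [h₁.apply_mul, h₂.apply_mul, h z hz, h₁.apply_mem_V hv, h₂.apply_mem_V hv]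

/-- **Choice of `σ`** -/
theorem Setup.exists_sigma (S : Setup C Z V) {e : ℕ}
    (he : Nat.card (Subgroup.normalizer (C : Set G)) = e * Nat.card C)
    (φ : IrrCharacter C) (hnt : ¬ ZTriv Z (φ : C → ℂ)) (hq : e + 1 < Nat.card Z) :
    ∃ σ : Z →* ℂˣ, S.centralHom φ.2 * σ ≠ 1 ∧
      ¬ InOrb C (S.kapF (S.centralHom φ.2)) (S.kapF (S.centralHom φ.2 * σ)) := by
  haveI := S.finite_hom
  have : Fintype (Z →* ℂˣ) := Fintype.ofFinite _
  set l₀ := S.centralHom φ.2 with hl₀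
  have hl₀ne : l₀ ≠ 1 := by
    intro h
    apply hnt
    intro z hz
    rw [S.apply_eq_centralHom φ.2 hz, ← hl₀, h]
    simp
  have hτ₀ : ¬ ZTriv Z (S.kapIrr l₀ : C → ℂ) := by
    apply (S.kapF_isLinV l₀).not_zTriv S
    intro h
    rw [← S.kapF_one] at h
    exact hl₀ne (S.kapF_injective h)
  have hcard := S.card_orbF he (S.kapIrr l₀) hτ₀
  by_contra hcon
  push Not at hcon
  -- every σ is bad
  let f : (Z →* ℂˣ) → IrrCharacter C := fun σ => S.kapIrr (l₀ * σ)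
  have hf : Function.Injective f := by
    intro a b hab
    have := S.kapIrr_injective hab
    exact mul_left_cancel this
  have hsub : (Finset.univ : Finset (Z →* ℂˣ))
      ⊆ insert l₀⁻¹ (Finset.univ.filter (fun σ => f σ ∈ orbF (S.kapIrr l₀))) := by
    intro σ _
    rw [Finset.mem_insert, Finset.mem_filter]
    by_cases h1 : l₀ * σ = 1
    · left
      ext z
      have h2 := DFunLike.congr_fun h1 z
      simp only [MonoidHom.mul_apply, MonoidHom.one_apply] at h2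
      simp only [MonoidHom.inv_apply]
      rw [eq_inv_of_mul_eq_one_right h2]
    · right
      refine ⟨Finset.mem_univ _, ?_⟩
      rw [mem_orbF]
      exact hcon σ h1
  have h1 := Finset.card_le_card hsub
  have h2 : (Finset.univ.filter (fun σ => f σ ∈ orbF (S.kapIrr l₀))).card
      ≤ (orbF (S.kapIrr l₀)).card := by
    apply Finset.card_le_card_of_injOn f
    · intro σ hσ
      simp only [Finset.coe_filter, Finset.mem_univ, true_and, Set.mem_ofPred_eq] at hσ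
      exact hσ
    · exact hf.injOn
  have h3 := Finset.card_insert_le l₀⁻¹ (Finset.univ.filter (fun σ => f σ ∈ orbF (S.kapIrr l₀)))
  rw [Finset.card_univ, ← Nat.card_eq_fintype_card, S.card_hom] at h1
  omega

end fin

end Cfsg.Agent.Lib.Helper3.BL
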