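import Mathlib
import Cfsg.Agent.Lib.Helper3.BL10

set_option autoImplicit false
set_option linter.unusedSectionVars false
set_option linter.style.haveILetI false

namespace Cfsg.Agent.Lib.Helper3.BL
open Cfsg Cfsg.Agent.Lib.Helper6
open scoped ComplexConjugate
open scoped Classical

variable {G : Type*} [Group G]
variable {C : Subgroup G} {Z V : Subgroup C}

section fin
variable [Fintype G] [Fintype C] [Fintype (Subgroup.normalizer (C : Set G))]
variable [Fintype (IrrCharacter C)]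

theorem IsLinV.of_inOrb (S : Setup C Z V) {ρ θ : C → ℂ} (h : IsLinV V ρ) (ho : InOrb C ρ θ) :
    IsLinV V θ := by
  obtain ⟨x, rfl⟩ := ho
  exact h.cf S x

/-- a pair of nontrivial linear characters trivial on `V` in different orbits -/
theorem IsLinV.pair (S : Setup C Z V) {ρ ρ' : C → ℂ} (h : IsLinV V ρ) (h' : IsLinV V ρ')
    (hne : ρ ≠ fun _ => 1) (hne' : ρ' ≠ fun _ => 1) (ho : ¬ InOrb C ρ ρ') : Pair C Z V ρ ρ' :=
  ⟨h.isIrr, h'.isIrr, h.not_zTriv S hne, h'.not_zTriv S hne',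
    fun v hv => by rw [h.apply_mem_V hv, h'.apply_mem_V hv], ho⟩

theorem not_inOrb_of_mu_ne {ψ : G → ℂ} (hψ : IsClassFunction G ψ) {θ θ' : C → ℂ}
    (h : mu C ψ θ ≠ mu C ψ θ') : ¬ InOrb C θ θ' := fun ho => h (mu_of_inOrb hψ ho).symm

/-- **Pattern lemma**: with two zero orbits in the principal family, the multiplicities on the
principal family are the indicator of a single orbit. -/
theorem Setup.pattern (S : Setup C Z V) (ψ : IrrCharacter G) {τ ρ₁ ρ₂ : C → ℂ}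
    (hτ : IsLinV V τ) (hτ1 : τ ≠ fun _ => 1) (hτpos : 1 ≤ mu C (ψ : G → ℂ) τ)
    (h₁ : IsLinV V ρ₁) (h₁1 : ρ₁ ≠ fun _ => 1) (h₁0 : mu C (ψ : G → ℂ) ρ₁ = 0)
    (h₂ : IsLinV V ρ₂) (h₂1 : ρ₂ ≠ fun _ => 1) (h₂0 : mu C (ψ : G → ℂ) ρ₂ = 0)
    (h12 : ¬ InOrb C ρ₁ ρ₂) {τ' : C → ℂ} (hτ' : IsLinV V τ') (hτ'1 : τ' ≠ fun _ => 1) :
    mu C (ψ : G → ℂ) τ' = if InOrb C τ τ' then 1 else 0 := by
  have hcf := IsCharacter.isClassFunction (IsIrrCharacter.isCharacter ψ.2)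
  have hτρ₁ : ¬ InOrb C τ ρ₁ := not_inOrb_of_mu_ne hcf (by omega)
  have hmuτ : mu C (ψ : G → ℂ) τ = 1 := by
    have := S.mu_eq_succ_of_lt (hτ.pair S h₁ hτ1 h₁1 hτρ₁) (ψ := ψ) (by omega)
    omega
  by_cases ho : InOrb C τ τ'
  · rw [if_pos ho, mu_of_inOrb hcf ho, hmuτ]
  · rw [if_neg ho]
    by_contra hne
    have hpos' : 1 ≤ mu C (ψ : G → ℂ) τ' := by omega
    have hτ'ρ₂ : ¬ InOrb C τ' ρ₂ := not_inOrb_of_mu_ne hcf (by omega)
    have hτ'ρ₁ : ¬ InOrb C τ' ρ₁ := not_inOrb_of_mu_ne hcf (by omega)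
    have hτρ₂ : ¬ InOrb C τ ρ₂ := not_inOrb_of_mu_ne hcf (by omega)
    exact S.false_of_two_pairs (hτ.pair S h₁ hτ1 h₁1 hτρ₁) (hτ'.pair S h₂ hτ'1 h₂1 hτ'ρ₂)
      (fun h => ho h.symm) (fun h => hτρ₂ h.symm) hτ'ρ₁ (fun h => h12 h.symm)
      (ψ := ψ) (by omega) (by omega)

/-- the principal family without the trivial character, as a finset -/
noncomputable def Lset (V : Subgroup C) : Finset (IrrCharacter C) :=
  Finset.univ.filter (fun θ : IrrCharacter C => IsLinV V (θ : C → ℂ) ∧ (θ : C → ℂ) ≠ fun _ => 1)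

theorem mem_Lset {θ : IrrCharacter C} :
    θ ∈ Lset V ↔ IsLinV V (θ : C → ℂ) ∧ (θ : C → ℂ) ≠ fun _ => 1 := by
  unfold Lset; simp

/-- the trivial character of `C` -/
noncomputable def oneIrr (C : Subgroup G) : IrrCharacter C := ⟨fun _ => 1, isIrrCharacter_one⟩

theorem Setup.card_Lset (S : Setup C Z V) : (Lset V).card = Nat.card Z - 1 := by
  have h1 : Lset V = (Finset.univ.filter (fun θ : IrrCharacter C => IsLinV V (θ : C → ℂ))).erase
      (oneIrr C) := by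
    ext θ
    rw [mem_Lset, Finset.mem_erase, Finset.mem_filter]
    constructor
    · rintro ⟨h, hne⟩
      exact ⟨fun e => hne (congrArg Subtype.val e), Finset.mem_univ _, h⟩
    · rintro ⟨hne, _, h⟩
      exact ⟨h, fun e => hne (Subtype.ext e)⟩
  have hmem : oneIrr C ∈ Finset.univ.filter (fun θ : IrrCharacter C => IsLinV V (θ : C → ℂ)) := by
    rw [Finset.mem_filter]
    exact ⟨Finset.mem_univ _, IsLinV.one⟩
  rw [h1, Finset.card_erase_of_mem hmem]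
  congr 1
  rw [← Fintype.card_subtype, ← Nat.card_eq_fintype_card, ← S.card_hom]
  symm
  apply Nat.card_congr
  refine Equiv.ofBijective (fun l => ⟨S.kapIrr l, S.kapF_isLinV l⟩) ⟨?_, ?_⟩
  · intro l l' h
    exact S.kapIrr_injective (congrArg Subtype.val h)
  · rintro ⟨θ, hθ⟩
    obtain ⟨l, hl⟩ := hθ.eq_kapF S
    exact ⟨l, Subtype.ext (Subtype.ext hl.symm)⟩

/-- a zero in the principal family -/
theorem Setup.exists_zero (S : Setup C Z V) {ψ : G → ℂ} (hψ : IsCharacter G ψ)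
    (hdeg : charDegree ψ + 1 < Nat.card Z) :
    ∃ ρ : IrrCharacter C, ρ ∈ Lset V ∧ mu C ψ (ρ : C → ℂ) = 0 := by
  by_contra hcon
  push Not at hcon
  have h1 := card_le_charDegree hψ (Lset V) (fun θ hθ => Nat.one_le_iff_ne_zero.2 (hcon θ hθ))
  rw [S.card_Lset] at h1
  omega

/-- two zeros in different orbits in the principal family -/
theorem Setup.exists_two_zeros (S : Setup C Z V) {e : ℕ}
    (he : Nat.card (Subgroup.normalizer (C : Set G)) = e * Nat.card C)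
    {ψ : G → ℂ} (hψ : IsCharacter G ψ)
    (hdeg : charDegree ψ + e + 1 < Nat.card Z) :
    ∃ ρ₁ ρ₂ : IrrCharacter C, ρ₁ ∈ Lset V ∧ ρ₂ ∈ Lset V ∧ mu C ψ (ρ₁ : C → ℂ) = 0 ∧
      mu C ψ (ρ₂ : C → ℂ) = 0 ∧ ¬ InOrb C (ρ₁ : C → ℂ) (ρ₂ : C → ℂ) := by
  obtain ⟨ρ₁, hρ₁, h₁0⟩ := S.exists_zero hψ (by omega)
  have hnt : ¬ ZTriv Z (ρ₁ : C → ℂ) := by
    obtain ⟨hl, hne⟩ := mem_Lset.1 hρ₁
    exact hl.not_zTriv S hne
  have hcard := S.card_orbF he ρ₁ hnt
  by_contra hcon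
  push Not at hcon
  -- all elements of Lset outside the orbit of ρ₁ are nonzero
  have h3 := card_le_charDegree hψ (Lset V \ orbF ρ₁) (by
    intro θ hθ
    rw [Finset.mem_sdiff, mem_orbF] at hθ
    by_contra h0
    have h0' : mu C ψ (θ : C → ℂ) = 0 := by omega
    exact hθ.2 (hcon ρ₁ θ hρ₁ hθ.1 h₁0 h0'))
  have h4 := Finset.le_card_sdiff (orbF ρ₁) (Lset V)
  rw [S.card_Lset, hcard] at h4
  omega


end fin

end Cfsg.Agent.Lib.Helper3.BL
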