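import Mathlib
import Cfsg.Agent.Lib.Helper3.BL11

set_option autoImplicit false
set_option linter.unusedSectionVars false
set_option linter.style.haveILetI false

namespace Cfsg.Agent.Lib.Helper3.BL
open Cfsg Cfsg.Agent.Lib.Helper6
open scoped ComplexConjugate
open scoped Classical

variable {G : Type*} [Group G]
variable {C : Subgroup G} {Z V : Subgroup C}

section fin
variable [Fintype G] [Fintype C] [Fintype (Subgroup.normalizer (C : Set G))]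
variable [Fintype (IrrCharacter C)]

theorem cf_apply_one (x : Subgroup.normalizer (C : Set G)) (φ : C → ℂ) : cf C x φ 1 = φ 1 := by
  rw [cf_apply, map_one]

/-- constituents of `χ χ̄'` are not trivial on `Z`, for a good choice of `σ` -/
theorem Setup.not_zTriv_of_mu_mul_pos (S : Setup C Z V) (φ : IrrCharacter C) (σ : Z →* ℂˣ)
    (hσ : ¬ InOrb C (S.kapF (S.centralHom φ.2)) (S.kapF (S.centralHom φ.2 * σ)))
    {χ χ' : G → ℂ} (hχ : IsCharacter G χ) (hχ' : IsCharacter G χ')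
    (h : OrbRes C χ (φ : C → ℂ)) (h' : OrbRes C χ' (S.mulIrr φ σ : C → ℂ))
    {τ : C → ℂ} (hτ : IsIrrCharacter C τ) (hpos : 1 ≤ mu C (χ * cjf χ') τ) : ¬ ZTriv Z τ := by
  intro htriv
  rw [h.mu_mul hχ hχ' φ (S.mulIrr φ σ) h' hτ] at hpos
  have hne : ∑ θ₁ ∈ orbF φ, ∑ θ₂ ∈ orbF (S.mulIrr φ σ), kk (θ₁ : C → ℂ) (θ₂ : C → ℂ) τ ≠ 0 := by
    omega
  obtain ⟨θ₁, hθ₁, hne₁⟩ := Finset.exists_ne_zero_of_sum_ne_zero hne
  obtain ⟨θ₂, hθ₂, hne₂⟩ := Finset.exists_ne_zero_of_sum_ne_zero hne₁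
  have hci : classInner ((θ₁ : C → ℂ) * cjf (θ₂ : C → ℂ)) τ ≠ 0 := by
    rw [classInner_eq_kk θ₁.2 θ₂.2 hτ]
    exact_mod_cast hne₂
  obtain ⟨x, hx⟩ := mem_orbF.1 hθ₁
  obtain ⟨x', hx'⟩ := mem_orbF.1 hθ₂
  have hφ1 := IsIrrCharacter.apply_one_ne_zero φ.2
  apply hσ
  have hρ : cf C x (S.kapF (S.centralHom φ.2)) = cf C x' (S.kapF ((S.centralHom φ.2) * σ)) := by
    apply IsLinV.ext_of_Z S ((S.kapF_isLinV (S.centralHom φ.2)).cf S x) ((S.kapF_isLinV ((S.centralHom φ.2) * σ)).cf S x')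
    intro z hz
    have hsame := S.same_central_of_zTriv θ₁.2 θ₂.2 hτ hci htriv hz
    rw [hx, hx', cf_apply_one, cf_apply_one, cf_apply, cf_apply, S.mulIrr_apply_one] at hsame
    have ha := S.hZinv x z hz
    have hb := S.hZinv x' z hz
    have e1 := S.apply_eq_centralHom φ.2 ha
    have e2 := S.mulIrr_apply_mem φ σ ⟨cj C x' z, hb⟩
    have e3 := S.apply_eq_centralHom φ.2 hb
    simp only at e2
    rw [e1, e2, e3] at hsame
    rw [cf_apply, cf_apply]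
    have k1 := S.kapF_of_mem (S.centralHom φ.2) ⟨cj C x z, ha⟩
    have k2 := S.kapF_of_mem ((S.centralHom φ.2) * σ) ⟨cj C x' z, hb⟩
    simp only at k1 k2
    rw [k1, k2, MonoidHom.mul_apply, Units.val_mul]
    have : (φ : C → ℂ) 1 * (φ : C → ℂ) 1 * (((S.centralHom φ.2) ⟨cj C x z, ha⟩ : ℂˣ) : ℂ)
        = (φ : C → ℂ) 1 * (φ : C → ℂ) 1 *
          ((((S.centralHom φ.2) ⟨cj C x' z, hb⟩ : ℂˣ) : ℂ) * ((σ ⟨cj C x' z, hb⟩ : ℂˣ) : ℂ)) := by
      linear_combination hsame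
    exact mul_left_cancel₀ (mul_ne_zero hφ1 hφ1) this
  refine ⟨x * x'⁻¹, ?_⟩
  rw [cf_mul, hρ, cf_inv_cf]

/-- the principal-family constituent of `χ χ̄'` -/
theorem Setup.mu_mul_kap_pos (S : Setup C Z V) (φ : IrrCharacter C) (σ : Z →* ℂˣ)
    {χ χ' : G → ℂ} (hχ : IsCharacter G χ) (hχ' : IsCharacter G χ')
    (h : OrbRes C χ (φ : C → ℂ)) (h' : OrbRes C χ' (S.mulIrr φ σ : C → ℂ)) :
    1 ≤ mu C (χ * cjf χ') (cjf (S.kapF σ)) := by
  have hτ : IsIrrCharacter C (cjf (S.kapF σ)) := (S.kapF_isLinV σ).conjF.isIrr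
  rw [h.mu_mul hχ hχ' φ (S.mulIrr φ σ) h' hτ]
  have h1 : kk (φ : C → ℂ) (S.mulIrr φ σ : C → ℂ) (cjf (S.kapF σ)) = 1 := by
    have h2 := classInner_eq_kk φ.2 (S.mulIrr φ σ).2 hτ
    have h3 : classInner ((φ : C → ℂ) * cjf (S.mulIrr φ σ : C → ℂ)) (cjf (S.kapF σ))
        = classInner (φ : C → ℂ) (φ : C → ℂ) := by
      unfold classInner
      congr 1
      apply Finset.sum_congr rfl
      intro c _
      unfold Setup.mulIrr
      simp only [Pi.mul_apply, cjf_apply, map_mul, Complex.conj_conj]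
      have h4 : conj (S.kapF σ c) * S.kapF σ c = 1 := by
        rw [(S.kapF_isLinV σ).conj_apply, inv_mul_cancel₀ ((S.kapF_isLinV σ).apply_ne_zero c)]
      calc (φ : C → ℂ) c * (conj ((φ : C → ℂ) c) * conj (S.kapF σ c)) * S.kapF σ c
          = (φ : C → ℂ) c * conj ((φ : C → ℂ) c) * (conj (S.kapF σ c) * S.kapF σ c) := by ring
        _ = _ := by rw [h4, mul_one]
    rw [h3, classInner_isIrrCharacter φ.2 φ.2, if_pos rfl] at h2
    exact_mod_cast h2.symm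
  calc 1 = kk (φ : C → ℂ) (S.mulIrr φ σ : C → ℂ) (cjf (S.kapF σ)) := h1.symm
    _ ≤ ∑ θ₂ ∈ orbF (S.mulIrr φ σ), kk (φ : C → ℂ) (θ₂ : C → ℂ) (cjf (S.kapF σ)) :=
        Finset.single_le_sum (f := fun θ₂ : IrrCharacter C =>
          kk (φ : C → ℂ) (θ₂ : C → ℂ) (cjf (S.kapF σ)))
          (fun _ _ => Nat.zero_le _) (self_mem_orbF _)
    _ ≤ _ := Finset.single_le_sum (f := fun θ₁ : IrrCharacter C =>
          ∑ θ₂ ∈ orbF (S.mulIrr φ σ), kk (θ₁ : C → ℂ) (θ₂ : C → ℂ) (cjf (S.kapF σ)))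
          (fun _ _ => Nat.zero_le _) (self_mem_orbF φ)

end fin

end Cfsg.Agent.Lib.Helper3.BL
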