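import Mathlib
import Cfsg.Agent.Lib.Helper3.BL12

set_option autoImplicit false
set_option linter.unusedSectionVars false
set_option linter.style.haveILetI false

namespace Cfsg.Agent.Lib.Helper3.BL
open Cfsg Cfsg.Agent.Lib.Helper6
open scoped ComplexConjugate
open scoped Classical

variable {G : Type*} [Group G]
variable {C : Subgroup G} {Z V : Subgroup C}

section fin
variable [Fintype G] [Fintype C] [Fintype (Subgroup.normalizer (C : Set G))]
variable [Fintype (IrrCharacter C)]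

theorem IsLinV.of_mul_kap (S : Setup C Z V) {θ : C → ℂ} (l : Z →* ℂˣ)
    (h : IsLinV V (θ * S.kapF l)) : IsLinV V θ := by
  have h2 := h.mul (S.kapF_isLinV l⁻¹)
  have h3 : θ * S.kapF l * S.kapF l⁻¹ = θ := by
    funext c
    simp only [Pi.mul_apply, S.kapF_inv]
    rw [mul_assoc, mul_inv_cancel₀ ((S.kapF_isLinV l).apply_ne_zero c), mul_one]
  rwa [h3] at h2

theorem not_zTriv_of_mem_Lset (S : Setup C Z V) {ρ : IrrCharacter C} (h : ρ ∈ Lset V) :
    ¬ ZTriv Z (ρ : C → ℂ) := by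
  obtain ⟨hl, hne⟩ := mem_Lset.1 h
  exact hl.not_zTriv S hne

theorem zTriv_one : ZTriv Z (fun _ : C => (1 : ℂ)) := fun _ _ => rfl

/-- **Case I**: if the multiplicities of `ψ` on the principal family are the indicator of the
orbit of `τ`, all constituents of `ψ_C` are nontrivial on `Z`, and the degree of `ψ` is small,
then `ψ_C` is the orbit sum of `τ`. -/
theorem Setup.orbRes_of_pattern (S : Setup C Z V) {e : ℕ}
    (he : Nat.card (Subgroup.normalizer (C : Set G)) = e * Nat.card C)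
    (ψ : IrrCharacter G) (τ : IrrCharacter C) (hτL : τ ∈ Lset V)
    (hpat : ∀ τ' : IrrCharacter C, τ' ∈ Lset V →
      mu C (ψ : G → ℂ) (τ' : C → ℂ) = if InOrb C (τ : C → ℂ) (τ' : C → ℂ) then 1 else 0)
    (hnt : ∀ θ : IrrCharacter C, 1 ≤ mu C (ψ : G → ℂ) (θ : C → ℂ) → ¬ ZTriv Z (θ : C → ℂ))
    (hdeg : charDegree (ψ : G → ℂ) + 1 < Nat.card Z)
    (hzero : ∃ ρ₁ : IrrCharacter C, ρ₁ ∈ Lset V ∧ ¬ InOrb C (τ : C → ℂ) (ρ₁ : C → ℂ)) :
    OrbRes C (ψ : G → ℂ) (τ : C → ℂ) := by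
  have hψc := IsIrrCharacter.isCharacter ψ.2
  have hcf := IsCharacter.isClassFunction hψc
  obtain ⟨hτlin, hτne⟩ := mem_Lset.1 hτL
  have hmuτ : mu C (ψ : G → ℂ) (τ : C → ℂ) = 1 := by
    rw [hpat τ hτL, if_pos (InOrb.refl _)]
  intro θ hθ
  by_cases ho : InOrb C (τ : C → ℂ) θ
  · rw [if_pos ho, mu_of_inOrb hcf ho, hmuτ]
  rw [if_neg ho]
  by_contra hne0
  have hpos : 1 ≤ mu C (ψ : G → ℂ) θ := by omega
  set θ' : IrrCharacter C := ⟨θ, hθ⟩ with hθ'
  have hθnt : ¬ ZTriv Z θ := hnt θ' hpos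
  have hθnl : ¬ IsLinV V θ := by
    intro hl
    have hmem : θ' ∈ Lset V := by
      rw [mem_Lset]
      refine ⟨hl, ?_⟩
      intro h1
      apply hθnt
      show ZTriv Z θ
      rw [show θ = fun _ => 1 from h1]
      exact zTriv_one
    have := hpat θ' hmem
    rw [if_neg ho] at this
    simp only [hθ'] at this
    omega
  obtain ⟨ρ₁, hρ₁L, hρ₁o⟩ := hzero
  obtain ⟨hρ₁lin, hρ₁ne⟩ := mem_Lset.1 hρ₁L
  have hmuρ₁ : mu C (ψ : G → ℂ) (ρ₁ : C → ℂ) = 0 := by rw [hpat ρ₁ hρ₁L, if_neg hρ₁o]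
  -- counting
  haveI := S.finite_hom
  have hFt : Fintype (Z →* ℂˣ) := Fintype.ofFinite _
  have hfinj := S.mulIrr_injective θ'
  have hcardθ := S.card_orbF he θ' hθnt
  have hcardτ := S.card_orbF he τ (not_zTriv_of_mem_Lset S hτL)
  have hgood : ∃ l : Z →* ℂˣ, l ≠ (S.centralHom hθ)⁻¹ ∧ S.mulIrr θ' l ∉ orbF θ' ∧
      mu C (ψ : G → ℂ) (S.mulIrr θ' l : C → ℂ) = 0 := by
    by_contra hcon
    push Not at hcon
    set B2 := Finset.univ.filter (fun l : Z →* ℂˣ => S.mulIrr θ' l ∈ orbF θ') with hB2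
    set B3 := Finset.univ.filter
      (fun l : Z →* ℂˣ => mu C (ψ : G → ℂ) (S.mulIrr θ' l : C → ℂ) ≠ 0) with hB3
    have hB2card : B2.card ≤ e := by
      rw [← hcardθ]
      apply Finset.card_le_card_of_injOn (S.mulIrr θ')
      · intro l hl
        simp only [hB2, Finset.coe_filter, Finset.mem_univ, true_and, Set.mem_ofPred_eq] at hl
        exact hl
      · exact hfinj.injOn
    have hdisj : Disjoint (B3.image (S.mulIrr θ')) (orbF τ) := by
      rw [Finset.disjoint_left]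
      intro t ht hto
      obtain ⟨l, _, rfl⟩ := Finset.mem_image.1 ht
      have h1 : IsLinV V (S.mulIrr θ' l : C → ℂ) := hτlin.of_inOrb S (mem_orbF.1 hto)
      exact hθnl (IsLinV.of_mul_kap S l h1)
    have hT : (B3.image (S.mulIrr θ') ∪ orbF τ).card ≤ charDegree (ψ : G → ℂ) := by
      apply card_le_charDegree hψc
      intro t ht
      rcases Finset.mem_union.1 ht with h1 | h1
      · obtain ⟨l, hl, rfl⟩ := Finset.mem_image.1 h1
        simp only [hB3, Finset.mem_filter, Finset.mem_univ, true_and] at hl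
        omega
      · rw [mu_of_inOrb hcf (mem_orbF.1 h1), hmuτ]
    rw [Finset.card_union_of_disjoint hdisj, Finset.card_image_of_injective _ hfinj, hcardτ] at hT
    have hsub : (Finset.univ : Finset (Z →* ℂˣ)) ⊆ insert (S.centralHom hθ)⁻¹ (B2 ∪ B3) := by
      intro l _
      rw [Finset.mem_insert, Finset.mem_union]
      by_cases h1 : l = (S.centralHom hθ)⁻¹
      · left; exact h1
      · right
        by_cases h2 : S.mulIrr θ' l ∈ orbF θ'
        · left; simp only [hB2, Finset.mem_filter, Finset.mem_univ, true_and]; exact h2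
        · right
          simp only [hB3, Finset.mem_filter, Finset.mem_univ, true_and]
          exact hcon l h1 h2
    have h5 := (Finset.card_le_card hsub).trans
      ((Finset.card_insert_le _ _).trans (Nat.add_le_add_right (Finset.card_union_le _ _) 1))
    rw [Finset.card_univ, ← Nat.card_eq_fintype_card, S.card_hom] at h5
    omega
  obtain ⟨l, hl1, hl2, hl3⟩ := hgood
  set θ'' := S.mulIrr θ' l with hθ''
  have hθ''nt : ¬ ZTriv Z (θ'' : C → ℂ) := by
    intro h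
    exact hl1 ((S.zTriv_mulIrr_iff θ' l).1 h)
  have hθ''nl : ¬ IsLinV V (θ'' : C → ℂ) := fun h => hθnl (IsLinV.of_mul_kap S l h)
  have P : Pair C Z V θ (θ'' : C → ℂ) :=
    ⟨hθ, θ''.2, hθnt, hθ''nt, fun v hv => (S.mulIrr_apply_mem_V θ' l hv).symm,
      fun h => hl2 (mem_orbF.2 h)⟩
  have Pτ : Pair C Z V (τ : C → ℂ) (ρ₁ : C → ℂ) := hτlin.pair S hρ₁lin hτne hρ₁ne hρ₁o
  obtain ⟨ψ₁, hψ₁ne, _, hψ₁mu⟩ := S.exists_partner Pτ (ψ := ψ) (by omega)
  have hm1 := hψ₁mu θ hθ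
  have hm2 := hψ₁mu (θ'' : C → ℂ) θ''.2
  rw [if_neg ho, if_neg (fun h => hθnl (hρ₁lin.of_inOrb S h))] at hm1
  rw [if_neg (fun h => hθ''nl (hτlin.of_inOrb S h)),
    if_neg (fun h => hθ''nl (hρ₁lin.of_inOrb S h))] at hm2
  have hlt1 : mu C (ψ₁ : G → ℂ) (θ'' : C → ℂ) < mu C (ψ₁ : G → ℂ) θ := by omega
  have hlt2 : mu C (ψ : G → ℂ) (θ'' : C → ℂ) < mu C (ψ : G → ℂ) θ := by omega
  exact hψ₁ne (S.eq_of_mu_lt P hlt1 hlt2)

end fin

end Cfsg.Agent.Lib.Helper3.BL
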