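import Mathlib
import Cfsg.Agent.Lib.Helper3.BL13
import Cfsg.Agent.Lib.Helper6.Linear

set_option autoImplicit false
set_option linter.unusedSectionVars false
set_option linter.style.haveILetI false

namespace Cfsg.Agent.Lib.Helper3.BL
open Cfsg Cfsg.Agent.Lib.Helper6
open scoped ComplexConjugate
open scoped Classical

variable {G : Type*} [Group G]
variable {C : Subgroup G} {Z V : Subgroup C}

section gen
variable {H : Type*} [Group H] [Fintype H]

theorem classInner_mul_cjf (A B D : H → ℂ) :
    classInner (A * cjf B) D = classInner A (D * B) := by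
  unfold classInner
  congr 1
  apply Finset.sum_congr rfl
  intro c _
  simp only [Pi.mul_apply, cjf_apply, map_mul]
  ring

theorem charDegree_eq_of_apply_one {ψ : H → ℂ} (hψ : IsCharacter H ψ) {n : ℕ} (h : ψ 1 = n) :
    charDegree ψ = n := by
  have := IsCharacter.apply_one_eq_charDegree hψ
  rw [h] at this
  exact_mod_cast this.symm

theorem charDegree_add {ψ ψ' : H → ℂ} (hψ : IsCharacter H ψ) (hψ' : IsCharacter H ψ') :
    charDegree (ψ + ψ') = charDegree ψ + charDegree ψ' := by
  apply charDegree_eq_of_apply_one (IsCharacter.add hψ hψ')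
  rw [Pi.add_apply, IsCharacter.apply_one_eq_charDegree hψ,
    IsCharacter.apply_one_eq_charDegree hψ']
  push_cast; rfl

theorem charDegree_mul_cjf {ψ ψ' : H → ℂ} (hψ : IsCharacter H ψ) (hψ' : IsCharacter H ψ') :
    charDegree (ψ * cjf ψ') = charDegree ψ * charDegree ψ' := by
  apply charDegree_eq_of_apply_one (IsCharacter.mul hψ (IsCharacter.conj hψ'))
  rw [Pi.mul_apply]
  show ψ 1 * conj (ψ' 1) = _
  rw [IsCharacter.apply_one_eq_charDegree hψ, IsCharacter.apply_one_eq_charDegree hψ']
  simp

theorem charDegree_one : charDegree (fun _ : H => (1 : ℂ)) = 1 := by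
  apply charDegree_eq_of_apply_one isCharacter_one
  simp

/-- a linear character has values of absolute value one -/
theorem mul_conj_eq_one_of_linear {θ : H → ℂ} (hθ : IsCharacter H θ) (h1 : θ 1 = 1) (c : H) :
    θ c * conj (θ c) = 1 := by
  rw [← IsCharacter.apply_inv hθ c, ← IsCharacter.mul_of_apply_one_eq_one hθ h1, mul_inv_cancel, h1]

/-- the trivial character as an irreducible character -/
noncomputable def oneIrrG (H : Type*) [Group H] : IrrCharacter H := ⟨fun _ => 1, isIrrCharacter_one⟩

end gen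

section fin
variable [Fintype G] [Fintype C] [Fintype (Subgroup.normalizer (C : Set G))]
variable [Fintype (IrrCharacter C)]

theorem charDegree_cf (x : Subgroup.normalizer (C : Set G)) {φ : C → ℂ}
    (hφ : IsIrrCharacter C φ) : charDegree (cf C x φ) = charDegree φ := by
  apply charDegree_eq_of_apply_one (IsIrrCharacter.isCharacter (cf_isIrr C x hφ))
  rw [cf_apply_one, IsCharacter.apply_one_eq_charDegree (IsIrrCharacter.isCharacter hφ)]

theorem charDegree_of_mem_orbF {φ θ : IrrCharacter C} (h : θ ∈ orbF φ) :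
    charDegree (θ : C → ℂ) = charDegree (φ : C → ℂ) := by
  obtain ⟨x, hx⟩ := mem_orbF.1 h
  rw [hx, charDegree_cf x φ.2]

/-- degree of an orbit-sum character -/
theorem Setup.charDegree_of_orbRes (S : Setup C Z V) {e : ℕ}
    (he : Nat.card (Subgroup.normalizer (C : Set G)) = e * Nat.card C)
    {ψ : G → ℂ} (hψ : IsCharacter G ψ) (φ : IrrCharacter C) (hnt : ¬ ZTriv Z (φ : C → ℂ))
    (h : OrbRes C ψ (φ : C → ℂ)) : charDegree ψ = e * charDegree (φ : C → ℂ) := by
  rw [charDegree_eq_sum (C := C) hψ]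
  have h1 : ∀ θ : IrrCharacter C, mu C ψ (θ : C → ℂ) * charDegree (θ : C → ℂ)
      = if θ ∈ orbF φ then charDegree (φ : C → ℂ) else 0 := by
    intro θ
    rw [h θ θ.2]
    by_cases hm : θ ∈ orbF φ
    · rw [if_pos hm, if_pos (mem_orbF.1 hm), one_mul, charDegree_of_mem_orbF hm]
    · rw [if_neg hm, if_neg (fun h' => hm (mem_orbF.2 h')), zero_mul]
  simp_rw [h1]
  rw [← Finset.sum_filter, Finset.sum_const, smul_eq_mul]
  have : Finset.univ.filter (fun θ => θ ∈ orbF φ) = orbF φ := by ext θ; simp
  rw [this, S.card_orbF he φ hnt]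

/-- multiplicities of the trivial character of `G` -/
theorem mu_one_eq {θ : C → ℂ} (hθ : IsIrrCharacter C θ) :
    mu C (fun _ : G => (1 : ℂ)) θ = if θ = (fun _ => 1) then 1 else 0 := by
  have h1 := am_eq_mu (C := C) (isCharacter_one (G := G)) hθ
  unfold am at h1
  rw [classInner_isIrrCharacter (isIrrCharacter_one (G := C)) hθ] at h1
  by_cases h : θ = fun _ => 1
  · rw [if_pos h]
    rw [if_pos h.symm] at h1
    exact_mod_cast h1.symm
  · rw [if_neg h]
    rw [if_neg (fun e => h e.symm)] at h1
    exact_mod_cast h1.symm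

theorem not_inOrb_one_of_not_zTriv {θ : C → ℂ} (hnt : ¬ ZTriv Z θ) :
    ¬ InOrb C θ (fun _ => 1) := by
  rintro ⟨x, hx⟩
  apply hnt
  have h1 : θ = cf C x⁻¹ (fun _ => 1) := by rw [hx, cf_inv_cf]
  rw [h1]
  intro z _
  rfl

end fin

end Cfsg.Agent.Lib.Helper3.BL
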