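import Mathlib
import Cfsg.Agent.Lib.Helper6.Clifford
import Cfsg.Agent.Lib.Helper6.CharOps
import Cfsg.Agent.Lib.Helper6.Multiplicity
import Cfsg.Agent.Lib.Helper6.Orthogonality
import Cfsg.Agent.Lib.Helper6.Norm
import Cfsg.Agent.Lib.Helper6.BlkKer
import Cfsg.Agent.Lib.Helper6.SecondOrth
import Cfsg.Agent.Lib.Helper6.Constituent
import Cfsg.Agent.Lib.Helper6.ClassFun
import Cfsg.Agent.Lib.Helper6.IrrBasis
import Cfsg.Agent.Lib.Helper3.BL14
import Cfsg.Agent.S0173
import Cfsg.Agent.S0193
import Cfsg.Agent.S0146

set_option autoImplicit false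
set_option linter.unusedSectionVars false
set_option linter.style.haveILetI false

/-! Characters of a group `M` with a normal subgroup `A` satisfying the Frobenius condition
`C_M(a) ≤ A` for `a ∈ A#`. -/

namespace Cfsg.Agent.Lib.Helper3.TIFN
open Cfsg Cfsg.Agent.Lib.Helper6 Cfsg.Agent.Lib.Helper3.BL
open scoped ComplexConjugate
open scoped Classical

section frob
variable {M : Type*} [Group M] [Fintype M] (A : Subgroup M) [hA : A.Normal] [Fintype A]

/-- Frobenius condition: centralizers of nonidentity elements of `A` lie in `A`. -/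
def FrobCond : Prop := ∀ a ∈ A, a ≠ 1 → ∀ g : M, g * a = a * g → g ∈ A

/-- a character is *relevant* if it is not constant on `A` -/
def Rel (χ : M → ℂ) : Prop := ∃ a : A, χ a ≠ χ 1

variable {A}

/-- the stabilizer of a nonprincipal irreducible character of `A` is `A` -/
theorem mem_of_conjFun_eq (hF : FrobCond A) {θ : A → ℂ} (hθ : IsIrrCharacter A θ)
    (hne : θ ≠ fun _ => 1) (g : M) (hg : conjFun A hA θ g = θ) : g ∈ A := by
  by_contra hgA
  have key := Cfsg.Agent.S0173.result (G := A) (MulAut.conjNormal g)
  -- at most one fixed class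
  have hsub : Subsingleton {C : ConjClasses A //
      ConjClasses.map (MulAut.conjNormal g : A ≃* A).toMonoidHom C = C} := by
    have hall : ∀ C : {C : ConjClasses A //
        ConjClasses.map (MulAut.conjNormal g : A ≃* A).toMonoidHom C = C},
        C.1 = ConjClasses.mk 1 := by
      rintro ⟨C, hC⟩
      induction C using Quotient.inductionOn with
      | h a =>
        have h1 : ConjClasses.mk ((MulAut.conjNormal g : A ≃* A) a) = ConjClasses.mk a := hC
        rw [ConjClasses.mk_eq_mk_iff_isConj, isConj_iff] at h1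
        obtain ⟨u, hu⟩ := h1
        have hu' : (u : M) * (g * (a : M) * g⁻¹) * (u : M)⁻¹ = (a : M) := by
          have := congrArg Subtype.val hu
          simpa [MulAut.conjNormal_apply] using this
        by_cases ha : a = 1
        · show ConjClasses.mk a = ConjClasses.mk 1
          rw [ha]
        · exfalso
          apply hgA
          have ha' : (a : M) ≠ 1 := fun h => ha (Subtype.ext h)
          have hcomm : ((u : M) * g) * (a : M) = (a : M) * ((u : M) * g) := by
            calc ((u : M) * g) * (a : M)
                = ((u : M) * (g * (a : M) * g⁻¹) * (u : M)⁻¹) * ((u : M) * g) := by group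
              _ = (a : M) * ((u : M) * g) := by rw [hu']
          have := hF a a.2 ha' _ hcomm
          have h2 : g = (u : M)⁻¹ * ((u : M) * g) := by group
          rw [h2]
          exact A.mul_mem (A.inv_mem u.2) this
    constructor
    intro C D
    apply Subtype.ext
    rw [hall C, hall D]
  have hle : Nat.card {C : ConjClasses A //
      ConjClasses.map (MulAut.conjNormal g : A ≃* A).toMonoidHom C = C} ≤ 1 :=
    Finite.card_le_one_iff_subsingleton.2 hsub
  rw [key] at hle
  have hsub2 := Finite.card_le_one_iff_subsingleton.1 hle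
  have hfix1 : ((oneIrrG A : IrrCharacter A) : A → ℂ) ∘ (MulAut.conjNormal g : A ≃* A)
      = ((oneIrrG A : IrrCharacter A) : A → ℂ) := by
    funext a; rfl
  have hfix2 : θ ∘ (MulAut.conjNormal g : A ≃* A) = θ := by
    rw [conjFun_eq_comp] at hg
    exact hg
  have := hsub2.elim ⟨oneIrrG A, hfix1⟩ ⟨⟨θ, hθ⟩, hfix2⟩
  apply hne
  have h3 := congrArg (fun x => (x.1 : A → ℂ)) this
  exact h3.symm

/-- nonprincipal irreducible characters of `A` induce irreducibly -/
theorem indFun_isIrr (hF : FrobCond A) {θ : A → ℂ} (hθ : IsIrrCharacter A θ)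
    (hne : θ ≠ fun _ => 1) : IsIrrCharacter M (indFun A θ) := by
  have h1 := Cfsg.Agent.S0193.result A θ hθ
  have hcard : Nat.card {g : M // ∀ h : A, θ ⟨g * h * g⁻¹, hA.conj_mem h h.2 g⟩ = θ h}
      = Nat.card A := by
    apply Nat.card_congr
    apply Equiv.subtypeEquivRight
    intro g
    constructor
    · intro h
      apply mem_of_conjFun_eq hF hθ hne g
      funext n
      rw [conjFun_apply]
      exact h n
    · intro hg h
      have := conjFun_of_mem A hA (IsIrrCharacter.isClassFunction hθ) hg
      have h2 := congrFun this h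
      rw [conjFun_apply] at h2
      exact h2
  rw [hcard] at h1
  have hA0 := card_ne_zero_complex A
  have h2 : classInner (indFun A θ) (indFun A θ) = 1 := by
    have : (Nat.card A : ℂ) * classInner (indFun A θ) (indFun A θ) = (Nat.card A : ℂ) * 1 := by
      rw [h1, mul_one]
    exact mul_left_cancel₀ hA0 this
  exact isIrrCharacter_of_classInner_self_eq_one
    (IsCharacter.indFun A (IsIrrCharacter.isCharacter hθ)) h2

/-- relevant irreducible characters are induced from `A` -/
theorem exists_eq_indFun (hF : FrobCond A) {χ : M → ℂ} (hχ : IsIrrCharacter M χ)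
    (hrel : Rel A χ) :
    ∃ θ : IrrCharacter A, (θ : A → ℂ) ≠ (fun _ => 1) ∧ χ = indFun A (θ : A → ℂ) := by
  haveI : Fintype (IrrCharacter A) := Fintype.ofFinite _
  have hχc := IsIrrCharacter.isCharacter hχ
  have hψ : IsCharacter A (fun a : A => χ a) := IsCharacter.restrict A hχc
  obtain ⟨m, hm, hmc⟩ := IsCharacter.exists_mult hψ
  by_contra hcon
  push Not at hcon
  have hzero : ∀ θ : IrrCharacter A, (θ : A → ℂ) ≠ (fun _ => 1) → m θ = 0 := by
    intro θ hθne
    by_contra hm0
    apply hcon θ hθne
    have hirr := indFun_isIrr hF θ.2 hθne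
    have h1 := Cfsg.Agent.S0146.result A (θ : A → ℂ) χ (IsCharacter.isClassFunction hχc)
    have h2 : classInner (θ : A → ℂ) (fun a : A => χ a) ≠ 0 := by
      rw [← classInner_conj_symm, hmc θ]
      simp only [map_natCast]
      exact_mod_cast hm0
    rw [← h1, classInner_isIrrCharacter hirr hχ] at h2
    by_contra hne'
    apply h2
    rw [if_neg (fun h => hne' h.symm)]
  obtain ⟨a, ha⟩ := hrel
  apply ha
  have e1 := apply_eq_sum_mult hm a
  have e2 := apply_eq_sum_mult hm 1
  beta_reduce at e1 e2
  simp only [OneMemClass.coe_one] at e2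
  rw [e1, e2]
  apply Finset.sum_congr rfl
  intro θ _
  by_cases hθ : (θ : A → ℂ) = fun _ => 1
  · rw [hθ]
  · rw [hzero θ hθ]; simp

/-- relevant irreducible characters vanish off `A` -/
theorem apply_eq_zero_of_rel (hF : FrobCond A) {χ : M → ℂ} (hχ : IsIrrCharacter M χ)
    (hrel : Rel A χ) {g : M} (hg : g ∉ A) : χ g = 0 := by
  obtain ⟨θ, -, rfl⟩ := exists_eq_indFun hF hχ hrel
  exact indFun_apply_of_not_mem A hA _ hg

/-- relevant irreducible characters sum to zero over `A` -/
theorem sum_eq_zero_of_rel {χ : M → ℂ} (hχ : IsIrrCharacter M χ)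
    (hrel : Rel A χ) : ∑ a : A, χ a = 0 := by
  by_contra hne
  obtain ⟨a, ha⟩ := hrel
  apply ha
  apply const_of_classInner_restrict_one_ne_zero A hχ _ a a.2
  unfold classInner
  simp only [map_one, mul_one]
  exact mul_ne_zero (inv_ne_zero (card_ne_zero_complex A)) hne

end frob
end Cfsg.Agent.Lib.Helper3.TIFN
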