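import Mathlib
import Cfsg.Agent.Lib.Helper3.TIFN1

set_option autoImplicit false
set_option linter.unusedSectionVars false
set_option linter.style.haveILetI false

namespace Cfsg.Agent.Lib.Helper3.TIFN
open Cfsg Cfsg.Agent.Lib.Helper6 Cfsg.Agent.Lib.Helper3.BL
open scoped ComplexConjugate
open scoped Classical

section frob
variable {M : Type*} [Group M] [Fintype M] {A : Subgroup M} [hA : A.Normal] [Fintype A]
variable [Fintype (IrrCharacter M)]

theorem conj_apply_one {χ : M → ℂ} (hχ : IsCharacter M χ) : conj (χ 1) = χ 1 := by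
  rw [IsCharacter.apply_one_eq_charDegree hχ]
  simp

/-- regular character identity split into relevant and non-relevant characters -/
theorem sum_rel_deg_mul (a : A) (ha : a ≠ 1) :
    ∑ χ ∈ Finset.univ.filter (fun χ : IrrCharacter M => Rel A (χ : M → ℂ)),
        (χ : M → ℂ) 1 * (χ : M → ℂ) a
      = - ∑ χ ∈ Finset.univ.filter (fun χ : IrrCharacter M => ¬ Rel A (χ : M → ℂ)),
        (χ : M → ℂ) 1 * (χ : M → ℂ) 1 := by
  have h1 := (sum_irr_mul_conj (G := M) (a : M) 1).2 (by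
    intro h
    rw [isConj_iff] at h
    obtain ⟨c, hc⟩ := h
    apply ha
    apply Subtype.ext
    have : (a : M) = c⁻¹ * (c * (a : M) * c⁻¹) * c := by group
    rw [this, hc]; simp)
  have h2 : ∑ χ : IrrCharacter M, (χ : M → ℂ) 1 * (χ : M → ℂ) a = 0 := by
    rw [← h1]
    apply Finset.sum_congr rfl
    intro χ _
    rw [conj_apply_one (IsIrrCharacter.isCharacter χ.2), mul_comm]
  rw [← Finset.sum_filter_add_sum_filter_not Finset.univ
    (fun χ : IrrCharacter M => Rel A (χ : M → ℂ))] at h2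
  have h3 : ∑ χ ∈ Finset.univ.filter (fun χ : IrrCharacter M => ¬ Rel A (χ : M → ℂ)),
      (χ : M → ℂ) 1 * (χ : M → ℂ) a
      = ∑ χ ∈ Finset.univ.filter (fun χ : IrrCharacter M => ¬ Rel A (χ : M → ℂ)),
        (χ : M → ℂ) 1 * (χ : M → ℂ) 1 := by
    apply Finset.sum_congr rfl
    intro χ hχ
    rw [Finset.mem_filter] at hχ
    have : (χ : M → ℂ) a = (χ : M → ℂ) 1 := by
      by_contra h
      exact hχ.2 ⟨a, h⟩
    rw [this]
  rw [h3] at h2
  exact eq_neg_of_add_eq_zero_left h2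

/-- a class function whose coefficients on the relevant characters are proportional to the
degrees is constant on `A#` -/
theorem const_of_coeff {f : M → ℂ} (hf : IsClassFunction M f) (c' : ℂ)
    (hc : ∀ χ : IrrCharacter M, Rel A (χ : M → ℂ) → classInner f (χ : M → ℂ) = c' * (χ : M → ℂ) 1)
    (a b : A) (ha : a ≠ 1) (hb : b ≠ 1) : f a = f b := by
  have key : ∀ x : A, x ≠ 1 → f x =
      ∑ χ ∈ Finset.univ.filter (fun χ : IrrCharacter M => ¬ Rel A (χ : M → ℂ)),
        classInner f (χ : M → ℂ) * (χ : M → ℂ) 1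
      - c' * ∑ χ ∈ Finset.univ.filter (fun χ : IrrCharacter M => ¬ Rel A (χ : M → ℂ)),
        (χ : M → ℂ) 1 * (χ : M → ℂ) 1 := by
    intro x hx
    have h1 := congrFun (classFunction_eq_sum f hf) (x : M)
    rw [Finset.sum_apply] at h1
    simp only [Pi.smul_apply, smul_eq_mul] at h1
    rw [← Finset.sum_filter_add_sum_filter_not Finset.univ
      (fun χ : IrrCharacter M => Rel A (χ : M → ℂ))] at h1
    have h2 : ∑ χ ∈ Finset.univ.filter (fun χ : IrrCharacter M => Rel A (χ : M → ℂ)),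
        classInner f (χ : M → ℂ) * (χ : M → ℂ) x
        = c' * ∑ χ ∈ Finset.univ.filter (fun χ : IrrCharacter M => Rel A (χ : M → ℂ)),
          (χ : M → ℂ) 1 * (χ : M → ℂ) x := by
      rw [Finset.mul_sum]
      apply Finset.sum_congr rfl
      intro χ hχ
      rw [Finset.mem_filter] at hχ
      rw [hc χ hχ.2, mul_assoc]
    have h3 : ∑ χ ∈ Finset.univ.filter (fun χ : IrrCharacter M => ¬ Rel A (χ : M → ℂ)),
        classInner f (χ : M → ℂ) * (χ : M → ℂ) x
        = ∑ χ ∈ Finset.univ.filter (fun χ : IrrCharacter M => ¬ Rel A (χ : M → ℂ)),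
          classInner f (χ : M → ℂ) * (χ : M → ℂ) 1 := by
      apply Finset.sum_congr rfl
      intro χ hχ
      rw [Finset.mem_filter] at hχ
      have : (χ : M → ℂ) x = (χ : M → ℂ) 1 := by
        by_contra h
        exact hχ.2 ⟨x, h⟩
      rw [this]
    rw [h2, h3, sum_rel_deg_mul x hx] at h1
    rw [h1]; ring
  rw [key a ha, key b hb]

/-- proportionality from pairwise relations -/
theorem exists_prop_of_pairwise (c : IrrCharacter M → ℂ)
    (h : ∀ χ ξ : IrrCharacter M, Rel A (χ : M → ℂ) → Rel A (ξ : M → ℂ) →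
      (ξ : M → ℂ) 1 * c χ = (χ : M → ℂ) 1 * c ξ) :
    ∃ c' : ℂ, ∀ χ : IrrCharacter M, Rel A (χ : M → ℂ) → c χ = c' * (χ : M → ℂ) 1 := by
  by_cases hne : ∃ χ₀ : IrrCharacter M, Rel A (χ₀ : M → ℂ)
  · obtain ⟨χ₀, h₀⟩ := hne
    refine ⟨c χ₀ / (χ₀ : M → ℂ) 1, ?_⟩
    intro χ hχ
    have h1 := h χ χ₀ hχ h₀
    have h2 : (χ₀ : M → ℂ) 1 ≠ 0 := IsIrrCharacter.apply_one_ne_zero χ₀.2
    field_simp
    rw [mul_comm, h1, mul_comm]
  · refine ⟨0, ?_⟩
    intro χ hχ
    exact (hne ⟨χ, hχ⟩).elim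

end frob
end Cfsg.Agent.Lib.Helper3.TIFN
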