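import Mathlib
import Cfsg.Agent.Lib.Helper3.TIFN2
import Cfsg.Agent.Lib.Helper6.IndFunTI
import Cfsg.Agent.Lib.Helper6.GenChar
import Cfsg.Agent.Lib.Helper6.GenCharOps

set_option autoImplicit false
set_option linter.unusedSectionVars false
set_option linter.style.haveILetI false

namespace Cfsg.Agent.Lib.Helper3.TIFN
open Cfsg Cfsg.Agent.Lib.Helper6 Cfsg.Agent.Lib.Helper3.BL
open scoped ComplexConjugate
open scoped Classical

/-- integer vectors of square norm one -/
theorem exists_single_of_sum_sq_eq_one {ι : Type*} [Fintype ι] [DecidableEq ι] (c : ι → ℤ)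
    (h : ∑ i, c i * c i = 1) :
    ∃ i, (c i = 1 ∨ c i = -1) ∧ ∀ k, k ≠ i → c k = 0 := by
  have hex : ∃ i, c i ≠ 0 := by
    by_contra hcon
    push Not at hcon
    simp [hcon] at h
  obtain ⟨i, hi⟩ := hex
  have hsplit := Finset.add_sum_erase Finset.univ (fun k => c k * c k) (Finset.mem_univ i)
  rw [h] at hsplit
  have hnn : ∀ k ∈ Finset.univ.erase i, 0 ≤ c k * c k := fun k _ => mul_self_nonneg _
  have hrest := Finset.sum_nonneg hnn
  have hci : 1 ≤ c i * c i := by
    have : 0 < c i * c i := mul_self_pos.2 hi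
    omega
  have hci1 : c i * c i = 1 := by omega
  have hrest0 : ∑ k ∈ Finset.univ.erase i, c k * c k = 0 := by omega
  refine ⟨i, ?_, ?_⟩
  · have h2 : (c i - 1) * (c i + 1) = 0 := by ring_nf; ring_nf at hci1; omega
    rcases mul_eq_zero.1 h2 with h3 | h3
    · left; omega
    · right; omega
  · intro k hk
    have := (Finset.sum_eq_zero_iff_of_nonneg hnn).1 hrest0 k
      (Finset.mem_erase.2 ⟨hk, Finset.mem_univ k⟩)
    exact mul_self_eq_zero.1 this

section gen
variable {H : Type*} [Group H] [Fintype H]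

/-- a generalized character of norm one is `±` an irreducible character -/
theorem IsGeneralizedCharacter.eq_or_neg_of_norm_one {θ : H → ℂ}
    (hθ : IsGeneralizedCharacter H θ) (hnorm : classInner θ θ = 1) :
    ∃ ψ : IrrCharacter H, θ = (ψ : H → ℂ) ∨ θ = -(ψ : H → ℂ) := by
  haveI : Fintype (IrrCharacter H) := Fintype.ofFinite _
  obtain ⟨c, hc, -⟩ := IsGeneralizedCharacter.exists_int_coeff hθ
  have h1 : classInner θ θ = ((∑ β, c β * c β : ℤ) : ℂ) := by
    conv_lhs => rw [hc]
    exact classInner_sum_int c c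
  rw [hnorm] at h1
  have h2 : ∑ β, c β * c β = 1 := by exact_mod_cast h1.symm
  obtain ⟨i, hi, hrest⟩ := exists_single_of_sum_sq_eq_one c h2
  refine ⟨i, ?_⟩
  have h3 : θ = (c i : ℂ) • (i : H → ℂ) := by
    rw [hc]
    apply Finset.sum_eq_single i
    · intro k _ hk
      rw [hrest k hk]; simp
    · intro h; exact (h (Finset.mem_univ i)).elim
  rcases hi with hi | hi
  · left; rw [h3, hi]; simp
  · right; rw [h3, hi]; simp

end gen

section ti
variable {G : Type*} [Group G] [Fintype G] (K : Subgroup G)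
variable [Fintype ↥(Subgroup.normalizer (K : Set G))]

/-- `K` as a subgroup of its normalizer -/
abbrev KN : Subgroup ↥(Subgroup.normalizer (K : Set G)) :=
  K.subgroupOf (Subgroup.normalizer (K : Set G))

theorem mem_KN (x : ↥(Subgroup.normalizer (K : Set G))) : x ∈ KN K ↔ (x : G) ∈ K :=
  Subgroup.mem_subgroupOf

variable {K}

theorem frobCond_KN (hC : ∀ k ∈ K, k ≠ 1 → Subgroup.centralizer ({k} : Set G) ≤ K) :
    FrobCond (KN K) := by
  intro a ha ha1 g hg
  rw [mem_KN] at ha ⊢
  have ha1' : (a : G) ≠ 1 := fun h => ha1 (Subtype.ext h)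
  apply hC _ ha ha1'
  rw [Subgroup.mem_centralizer_singleton_iff]
  exact congrArg Subtype.val hg

theorem rel_iff (χ : ↥(Subgroup.normalizer (K : Set G)) → ℂ) :
    Rel (KN K) χ ↔ ∃ k : ↥(Subgroup.normalizer (K : Set G)), (k : G) ∈ K ∧ χ k ≠ χ 1 := by
  constructor
  · rintro ⟨a, ha⟩
    exact ⟨a, (mem_KN K _).1 a.2, ha⟩
  · rintro ⟨k, hk, hne⟩
    exact ⟨⟨k, (mem_KN K _).2 hk⟩, hne⟩

/-- sums of functions vanishing off `K` -/
theorem sum_eq_sum_KN [Fintype (KN K)] (f : ↥(Subgroup.normalizer (K : Set G)) → ℂ)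
    (hf : ∀ x : ↥(Subgroup.normalizer (K : Set G)), (x : G) ∉ K → f x = 0) :
    ∑ x : ↥(Subgroup.normalizer (K : Set G)), f x = ∑ a : KN K, f a := by
  rw [← Finset.sum_subtype (Finset.univ.filter (fun x : ↥(Subgroup.normalizer (K : Set G)) =>
    x ∈ KN K)) (by intro x; simp) f]
  symm
  apply Finset.sum_subset (Finset.filter_subset _ _)
  intro x _ hx
  rw [Finset.mem_filter] at hx
  apply hf
  intro h
  exact hx ⟨Finset.mem_univ _, (mem_KN K x).2 h⟩

variable (hTI : ∀ g : G, g ∉ Subgroup.normalizer (K : Set G) → ∀ k ∈ K, g * k * g⁻¹ ∈ K → k = 1)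
include hTI

/-- TI induction: values on `K#` -/
theorem indFun_apply_of_mem {α : ↥(Subgroup.normalizer (K : Set G)) → ℂ}
    (hα : IsClassFunction ↥(Subgroup.normalizer (K : Set G)) α)
    (hαK : ∀ x : ↥(Subgroup.normalizer (K : Set G)), (x : G) ∉ K → α x = 0)
    (t : ↥(Subgroup.normalizer (K : Set G))) (ht : (t : G) ∈ K) (ht1 : t ≠ 1) :
    indFun (Subgroup.normalizer (K : Set G)) α t = α t :=
  indFun_eq_of_TI _ (K : Set G) hTI α hα hαK t ht ht1

/-- TI induction is an isometry -/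
theorem classInner_indFun_indFun {α β : ↥(Subgroup.normalizer (K : Set G)) → ℂ}
    (hα : IsClassFunction ↥(Subgroup.normalizer (K : Set G)) α)
    (hβ : IsClassFunction ↥(Subgroup.normalizer (K : Set G)) β)
    (hαK : ∀ x : ↥(Subgroup.normalizer (K : Set G)), (x : G) ∉ K → α x = 0)
    (hα1 : α 1 = 0)
    (hβK : ∀ x : ↥(Subgroup.normalizer (K : Set G)), (x : G) ∉ K → β x = 0) :
    classInner (indFun (Subgroup.normalizer (K : Set G)) α)
      (indFun (Subgroup.normalizer (K : Set G)) β) = classInner α β := by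
  rw [Cfsg.Agent.S0146.result _ α _ (indFun_isClassFunction _ β)]
  unfold classInner
  congr 1
  apply Finset.sum_congr rfl
  intro x _
  by_cases hx : (x : G) ∈ K
  · by_cases hx1 : x = 1
    · rw [hx1, hα1, zero_mul, zero_mul]
    · beta_reduce
      rw [indFun_apply_of_mem hTI hβ hβK x hx hx1]
  · rw [hαK x hx, zero_mul, zero_mul]

end ti
end Cfsg.Agent.Lib.Helper3.TIFN
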