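import Mathlib
import Cfsg.Agent.Lib.Helper3.TIFN3
import Cfsg.Prelude.Def_OddOrderChar

set_option autoImplicit false
set_option linter.unusedSectionVars false
set_option linter.style.haveILetI false

namespace Cfsg.Agent.Lib.Helper3.TIFN
open Cfsg Cfsg.Agent.Lib.Helper6 Cfsg.Agent.Lib.Helper3.BL
open scoped ComplexConjugate
open scoped Classical

theorem zsmul_fun {X : Type*} (z : ℤ) (f : X → ℂ) : z • f = (z : ℂ) • f := by
  funext x; simp

section frob
variable {M : Type*} [Group M] [Fintype M] {A : Subgroup M} [hA : A.Normal] [Fintype A]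
variable [Fintype (IrrCharacter M)]

/-- the basic difference `ξ(1) χ - χ(1) ξ` -/
def alpha (χ ξ : M → ℂ) : M → ℂ := (ξ 1) • χ - (χ 1) • ξ

theorem alpha_apply_one (χ ξ : M → ℂ) : alpha χ ξ 1 = 0 := by
  simp [alpha]; ring

theorem alpha_isClassFunction {χ ξ : M → ℂ} (hχ : IsClassFunction M χ)
    (hξ : IsClassFunction M ξ) : IsClassFunction M (alpha χ ξ) :=
  isClassFunction_sub (isClassFunction_smul _ hχ) (isClassFunction_smul _ hξ)

theorem alpha_eq_zsmul {χ ξ : M → ℂ} (hχ : IsCharacter M χ) (hξ : IsCharacter M ξ) :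
    alpha χ ξ = ((charDegree ξ : ℕ) : ℤ) • χ + (-((charDegree χ : ℕ) : ℤ)) • ξ := by
  unfold alpha
  rw [zsmul_fun, zsmul_fun, IsCharacter.apply_one_eq_charDegree hχ,
    IsCharacter.apply_one_eq_charDegree hξ]
  push_cast
  rw [neg_smul, sub_eq_add_neg]

theorem alpha_mem_zspanOn {S : Set (M → ℂ)} {χ ξ : M → ℂ} (hχS : χ ∈ S) (hξS : ξ ∈ S)
    (hχ : IsCharacter M χ) (hξ : IsCharacter M ξ) :
    alpha χ ξ ∈ zspanOn S ({1}ᶜ : Set M) := by
  refine ⟨?_, ?_⟩
  · rw [alpha_eq_zsmul hχ hξ]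
    show _ ∈ (Submodule.span ℤ S : Submodule ℤ (M → ℂ))
    exact Submodule.add_mem _ (Submodule.smul_mem _ _ (Submodule.subset_span hχS))
      (Submodule.smul_mem _ _ (Submodule.subset_span hξS))
  · intro x hx
    have : x = 1 := by
      by_contra h
      exact hx h
    rw [this, alpha_apply_one]

theorem mem_zspan_of_mem {S : Set (M → ℂ)} {χ : M → ℂ} (h : χ ∈ S) : χ ∈ zspan S :=
  Submodule.subset_span h

theorem alpha_vanish (hF : FrobCond A) {χ ξ : M → ℂ} (hχ : IsIrrCharacter M χ)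
    (hξ : IsIrrCharacter M ξ) (hχr : Rel A χ) (hξr : Rel A ξ) {g : M} (hg : g ∉ A) :
    alpha χ ξ g = 0 := by
  simp only [alpha, Pi.sub_apply, Pi.smul_apply, smul_eq_mul]
  rw [apply_eq_zero_of_rel hF hχ hχr hg, apply_eq_zero_of_rel hF hξ hξr hg]
  ring

theorem sum_alpha {χ ξ : M → ℂ} (hχ : IsIrrCharacter M χ)
    (hξ : IsIrrCharacter M ξ) (hχr : Rel A χ) (hξr : Rel A ξ) :
    ∑ a : A, alpha χ ξ a = 0 := by
  simp only [alpha, Pi.sub_apply, Pi.smul_apply, smul_eq_mul]
  rw [Finset.sum_sub_distrib, ← Finset.mul_sum, ← Finset.mul_sum,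
    sum_eq_zero_of_rel hχ hχr, sum_eq_zero_of_rel hξ hξr]
  ring

theorem classInner_alpha_right (f : M → ℂ) {χ ξ : M → ℂ} (hχ : IsCharacter M χ)
    (hξ : IsCharacter M ξ) :
    classInner f (alpha χ ξ) = ξ 1 * classInner f χ - χ 1 * classInner f ξ := by
  unfold alpha
  rw [classInner_sub_right, classInner_smul_right, classInner_smul_right,
    conj_apply_one hχ, conj_apply_one hξ]

theorem classInner_alpha_left (f : M → ℂ) (χ ξ : M → ℂ) :
    classInner (alpha χ ξ) f = ξ 1 * classInner χ f - χ 1 * classInner ξ f := by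
  unfold alpha
  rw [classInner_sub_left, classInner_smul_left, classInner_smul_left]

/-- **Lemma P**: constancy on `A#` from orthogonality to all `alpha`'s. -/
theorem const_of_alpha {f : M → ℂ} (hf : IsClassFunction M f)
    (h : ∀ χ ξ : IrrCharacter M, Rel A (χ : M → ℂ) → Rel A (ξ : M → ℂ) →
      classInner f (alpha (χ : M → ℂ) (ξ : M → ℂ)) = 0)
    (a b : A) (ha : a ≠ 1) (hb : b ≠ 1) : f a = f b := by
  obtain ⟨c', hc'⟩ := exists_prop_of_pairwise (A := A) (fun χ => classInner f (χ : M → ℂ)) (by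
    intro χ ξ hχ hξ
    have := h χ ξ hχ hξ
    rw [classInner_alpha_right f (IsIrrCharacter.isCharacter χ.2)
      (IsIrrCharacter.isCharacter ξ.2)] at this
    exact sub_eq_zero.1 this)
  exact const_of_coeff hf c' hc' a b ha hb

end frob
end Cfsg.Agent.Lib.Helper3.TIFN
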