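import Mathlib
import Cfsg.Agent.Lib.Helper3.TIFN4

set_option autoImplicit false
set_option linter.unusedSectionVars false
set_option linter.style.haveILetI false

namespace Cfsg.Agent.Lib.Helper3.TIFN
open Cfsg Cfsg.Agent.Lib.Helper6 Cfsg.Agent.Lib.Helper3.BL
open scoped ComplexConjugate
open scoped Classical

section main
variable {G : Type*} [Group G] [Fintype G] (K : Subgroup G)
variable [Fintype ↥(Subgroup.normalizer (K : Set G))]


/-- the hypotheses of the coherence statements -/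
structure Hyp (S : Set (↥(Subgroup.normalizer (K : Set G)) → ℂ)) (star : (↥(Subgroup.normalizer (K : Set G)) → ℂ) → (G → ℂ)) : Prop where
  hTI : ∀ g : G, g ∉ (Subgroup.normalizer (K : Set G)) → ∀ k ∈ K, g * k * g⁻¹ ∈ K → k = 1
  hC : ∀ k ∈ K, k ≠ 1 → Subgroup.centralizer ({k} : Set G) ≤ K
  hS : S = {χ : ↥(Subgroup.normalizer (K : Set G)) → ℂ | IsIrrCharacter ↥(Subgroup.normalizer (K : Set G)) χ ∧ ∃ k : ↥(Subgroup.normalizer (K : Set G)), (k : G) ∈ K ∧ χ k ≠ χ 1}
  hstar : IsLinearIsometryOn (zspan S) star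
  hext : ∀ α ∈ zspanOn S ({1}ᶜ : Set ↥(Subgroup.normalizer (K : Set G))), star α = indFun (Subgroup.normalizer (K : Set G)) α

variable {K}
variable [Fintype (IrrCharacter ↥(Subgroup.normalizer (K : Set G)))] [Fintype (KN K)]
variable {S : Set (↥(Subgroup.normalizer (K : Set G)) → ℂ)} {star : (↥(Subgroup.normalizer (K : Set G)) → ℂ) → (G → ℂ)}

theorem restrict_isClassFunction {ψ : G → ℂ} (hψ : IsClassFunction G ψ) (H : Subgroup G) :
    IsClassFunction H (fun x : H => ψ x) := by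
  intro g h
  show ψ ((h * g * h⁻¹ : H) : G) = ψ (g : G)
  rw [Subgroup.coe_mul, Subgroup.coe_mul, Subgroup.coe_inv]
  exact hψ _ _

namespace Hyp

theorem mem_S (h : Hyp K S star) (χ : ↥(Subgroup.normalizer (K : Set G)) → ℂ) :
    χ ∈ S ↔ IsIrrCharacter ↥(Subgroup.normalizer (K : Set G)) χ ∧ Rel (KN K) χ := by
  rw [h.hS, rel_iff]
  rfl

theorem irr (h : Hyp K S star) {χ : ↥(Subgroup.normalizer (K : Set G)) → ℂ} (hχ : χ ∈ S) : IsIrrCharacter ↥(Subgroup.normalizer (K : Set G)) χ :=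
  ((h.mem_S χ).1 hχ).1

theorem rel (h : Hyp K S star) {χ : ↥(Subgroup.normalizer (K : Set G)) → ℂ} (hχ : χ ∈ S) : Rel (KN K) χ :=
  ((h.mem_S χ).1 hχ).2

theorem star_alpha (h : Hyp K S star) {χ ξ : ↥(Subgroup.normalizer (K : Set G)) → ℂ} (hχ : χ ∈ S) (hξ : ξ ∈ S) :
    star (alpha χ ξ) = (ξ 1) • star χ - (χ 1) • star ξ := by
  have hχc := IsIrrCharacter.isCharacter (h.irr hχ)
  have hξc := IsIrrCharacter.isCharacter (h.irr hξ)
  obtain ⟨hadd, hsmul, -, -⟩ := h.hstar
  rw [alpha_eq_zsmul hχc hξc]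
  have m1 : χ ∈ zspan S := mem_zspan_of_mem hχ
  have m2 : ξ ∈ zspan S := mem_zspan_of_mem hξ
  have m3 : ((charDegree ξ : ℕ) : ℤ) • χ ∈ zspan S :=
    Submodule.smul_mem _ _ m1
  have m4 : (-((charDegree χ : ℕ) : ℤ)) • ξ ∈ zspan S :=
    Submodule.smul_mem _ _ m2
  rw [hadd _ m3 _ m4, hsmul _ m1, hsmul _ m2, zsmul_fun, zsmul_fun,
    IsCharacter.apply_one_eq_charDegree hχc, IsCharacter.apply_one_eq_charDegree hξc]
  push_cast
  rw [neg_smul, sub_eq_add_neg]

theorem star_alpha_eq_ind (h : Hyp K S star) {χ ξ : ↥(Subgroup.normalizer (K : Set G)) → ℂ} (hχ : χ ∈ S) (hξ : ξ ∈ S) :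
    star (alpha χ ξ) = indFun (Subgroup.normalizer (K : Set G)) (alpha χ ξ) :=
  h.hext _ (alpha_mem_zspanOn hχ hξ (IsIrrCharacter.isCharacter (h.irr hχ))
    (IsIrrCharacter.isCharacter (h.irr hξ)))

theorem inner_star (h : Hyp K S star) {χ ξ : ↥(Subgroup.normalizer (K : Set G)) → ℂ} (hχ : χ ∈ S) (hξ : ξ ∈ S) :
    classInner (star χ) (star ξ) = classInner χ ξ :=
  h.hstar.2.2.1 _ (mem_zspan_of_mem hχ) _ (mem_zspan_of_mem hξ)

theorem star_isGen (h : Hyp K S star) {χ : ↥(Subgroup.normalizer (K : Set G)) → ℂ} (hχ : χ ∈ S) :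
    IsGeneralizedCharacter G (star χ) :=
  h.hstar.2.2.2 _ (mem_zspan_of_mem hχ)

theorem inner_star_alpha (h : Hyp K S star) {χ ξ ζ : ↥(Subgroup.normalizer (K : Set G)) → ℂ} (hχ : χ ∈ S) (hξ : ξ ∈ S)
    (hζ : ζ ∈ S) :
    classInner (star (alpha χ ξ)) (star ζ) = classInner (alpha χ ξ) ζ := by
  rw [h.star_alpha hχ hξ, classInner_sub_left, classInner_smul_left, classInner_smul_left,
    h.inner_star hχ hζ, h.inner_star hξ hζ, classInner_alpha_left]

theorem frob (h : Hyp K S star) : FrobCond (KN K) := frobCond_KN h.hC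

/-- `star χ` is `±` an irreducible character -/
theorem star_eq (h : Hyp K S star) {χ : ↥(Subgroup.normalizer (K : Set G)) → ℂ} (hχ : χ ∈ S) :
    ∃ ψ : IrrCharacter G, star χ = (ψ : G → ℂ) ∨ star χ = -(ψ : G → ℂ) := by
  apply IsGeneralizedCharacter.eq_or_neg_of_norm_one (h.star_isGen hχ)
  rw [h.inner_star hχ hχ, classInner_isIrrCharacter (h.irr hχ) (h.irr hχ), if_pos rfl]

/-- **S0852**. -/
theorem iff_nonconstant (h : Hyp K S star) (htwo : ∃ χ ∈ S, ∃ ξ ∈ S, χ ≠ ξ)
    (ψ : G → ℂ) (hψ : IsIrrCharacter G ψ) :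
    (∃ χ ∈ S, ψ = star χ ∨ ψ = -star χ) ↔
      ∃ a ∈ K, ∃ b ∈ K, a ≠ 1 ∧ b ≠ 1 ∧ ψ a ≠ ψ b := by
  have hψcf := IsIrrCharacter.isClassFunction hψ
  constructor
  · rintro ⟨χ, hχS, hψχ⟩
    obtain ⟨ξ, hξS, hne⟩ : ∃ ξ ∈ S, ξ ≠ χ := by
      obtain ⟨a, ha, b, hb, hab⟩ := htwo
      by_cases hac : a = χ
      · exact ⟨b, hb, fun hbc => hab (hac.trans hbc.symm)⟩
      · exact ⟨a, ha, hac⟩
    by_contra hcon
    push Not at hcon
    have hχi := h.irr hχS
    have hξi := h.irr hξS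
    have e : classInner (star (alpha χ ξ)) (star χ) = ξ 1 := by
      rw [h.inner_star_alpha hχS hξS hχS, classInner_alpha_left,
        classInner_isIrrCharacter hχi hχi, if_pos rfl,
        classInner_isIrrCharacter hξi hχi, if_neg hne]
      ring
    have hξ1 : ξ 1 ≠ 0 := IsIrrCharacter.apply_one_ne_zero hξi
    have h1 : classInner (indFun (Subgroup.normalizer (K : Set G)) (alpha χ ξ)) ψ ≠ 0 := by
      rw [← h.star_alpha_eq_ind hχS hξS]
      rcases hψχ with rfl | rfl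
      · rw [e]; exact hξ1
      · rw [classInner_neg_right, e]; exact neg_ne_zero.2 hξ1
    rw [Cfsg.Agent.S0146.result _ (alpha χ ξ) ψ hψcf] at h1
    apply h1
    have hvan : ∀ x : ↥(Subgroup.normalizer (K : Set G)), (x : G) ∉ K → alpha χ ξ x = 0 := by
      intro x hx
      exact alpha_vanish h.frob hχi hξi (h.rel hχS) (h.rel hξS)
        (fun hmem => hx ((mem_KN K x).1 hmem))
    have hsum0 : ∑ x : ↥(Subgroup.normalizer (K : Set G)), alpha χ ξ x = 0 := by
      rw [sum_eq_sum_KN _ hvan]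
      exact sum_alpha hχi hξi (h.rel hχS) (h.rel hξS)
    unfold classInner
    have hs : ∑ x : ↥(Subgroup.normalizer (K : Set G)), alpha χ ξ x * conj (ψ x) = 0 := by
      by_cases hk : ∃ k₀ : ↥(Subgroup.normalizer (K : Set G)), (k₀ : G) ∈ K ∧ k₀ ≠ 1
      · obtain ⟨k₀, hk₀K, hk₀1⟩ := hk
        have hterm : ∀ x : ↥(Subgroup.normalizer (K : Set G)), alpha χ ξ x * conj (ψ x) = conj (ψ k₀) * alpha χ ξ x := by
          intro x
          by_cases hx : (x : G) ∈ K
          · by_cases hx1 : x = 1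
            · rw [hx1, alpha_apply_one]; ring
            · have hx1' : (x : G) ≠ 1 := fun hh => hx1 (Subtype.ext hh)
              have hk1' : (k₀ : G) ≠ 1 := fun hh => hk₀1 (Subtype.ext hh)
              rw [hcon (x : G) hx (k₀ : G) hk₀K hx1' hk1']
              ring
          · rw [hvan x hx]; ring
        rw [Finset.sum_congr rfl (fun x _ => hterm x), ← Finset.mul_sum, hsum0, mul_zero]
      · push Not at hk
        apply Finset.sum_eq_zero
        intro x _
        by_cases hx : (x : G) ∈ K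
        · rw [hk x hx, alpha_apply_one, zero_mul]
        · rw [hvan x hx, zero_mul]
    rw [hs, mul_zero]
  · rintro ⟨a, haK, b, hbK, ha1, hb1, hab⟩
    by_contra hcon
    push Not at hcon
    have hzero : ∀ χ ∈ S, classInner (star χ) ψ = 0 := by
      intro χ hχS
      obtain ⟨ψ', hψ'⟩ := h.star_eq hχS
      have hn := hcon χ hχS
      rcases hψ' with e | e
      · rw [e, classInner_isIrrCharacter ψ'.2 hψ, if_neg]
        intro h2
        exact hn.1 (by rw [e, h2])
      · rw [e, classInner_neg_left, classInner_isIrrCharacter ψ'.2 hψ, if_neg, neg_zero]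
        intro h2
        exact hn.2 (by rw [e, h2, neg_neg])
    apply hab
    have hcf : IsClassFunction ↥(Subgroup.normalizer (K : Set G)) (fun x : ↥(Subgroup.normalizer (K : Set G)) => ψ x) := restrict_isClassFunction hψcf _
    have key := const_of_alpha (A := KN K) hcf (by
      intro χ' ξ' hχ' hξ'
      have hχS : (χ' : ↥(Subgroup.normalizer (K : Set G)) → ℂ) ∈ S := (h.mem_S _).2 ⟨χ'.2, hχ'⟩
      have hξS : (ξ' : ↥(Subgroup.normalizer (K : Set G)) → ℂ) ∈ S := (h.mem_S _).2 ⟨ξ'.2, hξ'⟩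
      rw [← classInner_conj_symm, ← Cfsg.Agent.S0146.result _ _ ψ hψcf,
        ← h.star_alpha_eq_ind hχS hξS, h.star_alpha hχS hξS, classInner_sub_left,
        classInner_smul_left, classInner_smul_left, hzero _ hχS, hzero _ hξS]
      simp)
      ⟨⟨a, Subgroup.le_normalizer haK⟩, (mem_KN K _).2 haK⟩
      ⟨⟨b, Subgroup.le_normalizer hbK⟩, (mem_KN K _).2 hbK⟩
      (by intro hh; apply ha1; exact congrArg (fun x : KN K => ((x : ↥(Subgroup.normalizer (K : Set G))) : G)) hh)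
      (by intro hh; apply hb1; exact congrArg (fun x : KN K => ((x : ↥(Subgroup.normalizer (K : Set G))) : G)) hh)
    exact key

end Hyp
end main
end Cfsg.Agent.Lib.Helper3.TIFN
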