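import Mathlib

set_option autoImplicit false

namespace Cfsg.Agent.Lib.Helper3.PU2770

section meas
variable {G : Type*} [Group G] [Finite G]

/-- `|H| |K| ≤ |H ⊔ K| |H ⊓ K|` for arbitrary subgroups of a finite group. -/
theorem card_mul_card_le_sup_inf (H K : Subgroup G) :
    Nat.card H * Nat.card K ≤ Nat.card (H ⊔ K : Subgroup G) * Nat.card (H ⊓ K : Subgroup G) := by
  have h1 : Nat.card (H ⊓ K : Subgroup G) * K.relIndex H = Nat.card H := by
    rw [← Subgroup.inf_relIndex_left, ← Subgroup.relIndex_bot_left, ← Subgroup.relIndex_bot_left,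
      Subgroup.relIndex_mul_relIndex _ _ _ bot_le inf_le_left]
  have h2 : Nat.card K * K.relIndex (H ⊔ K) = Nat.card (H ⊔ K : Subgroup G) := by
    rw [← Subgroup.relIndex_bot_left, ← Subgroup.relIndex_bot_left,
      Subgroup.relIndex_mul_relIndex _ _ _ bot_le le_sup_right]
  have h3 : K.relIndex H ≤ K.relIndex (H ⊔ K) := by
    apply Subgroup.relIndex_le_of_le_right le_sup_left
    intro h0
    have : Nat.card (H ⊔ K : Subgroup G) = 0 := by rw [← h2, h0, mul_zero]
    exact (Nat.card_pos (α := (H ⊔ K : Subgroup G))).ne' this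
  calc Nat.card H * Nat.card K = Nat.card (H ⊓ K : Subgroup G) * K.relIndex H * Nat.card K := by rw [h1]
    _ ≤ Nat.card (H ⊓ K : Subgroup G) * K.relIndex (H ⊔ K) * Nat.card K := by gcongr
    _ = Nat.card (H ⊔ K : Subgroup G) * Nat.card (H ⊓ K : Subgroup G) := by rw [← h2]; ring

/-- centraliser of a join -/
theorem centralizer_sup_eq (H K : Subgroup G) :
    Subgroup.centralizer ((H ⊔ K : Subgroup G) : Set G) =
      Subgroup.centralizer (H : Set G) ⊓ Subgroup.centralizer (K : Set G) := by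
  apply le_antisymm
  · exact le_inf (Subgroup.centralizer_le (by exact_mod_cast (le_sup_left : H ≤ H ⊔ K)))
      (Subgroup.centralizer_le (by exact_mod_cast (le_sup_right : K ≤ H ⊔ K)))
  · intro x hx
    have hxH : Subgroup.zpowers x ≤ Subgroup.centralizer (H : Set G) := by
      rw [Subgroup.zpowers_le]; exact hx.1
    have hxK : Subgroup.zpowers x ≤ Subgroup.centralizer (K : Set G) := by
      rw [Subgroup.zpowers_le]; exact hx.2
    rw [Subgroup.le_centralizer_iff] at hxH hxK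
    have : H ⊔ K ≤ Subgroup.centralizer (Subgroup.zpowers x : Set G) := sup_le hxH hxK
    rw [← Subgroup.le_centralizer_iff] at this
    exact this (Subgroup.mem_zpowers x)

/-- the measure `m(B) = |B| |C_V(B)|` -/
noncomputable def mu (V B : Subgroup G) : ℕ :=
  Nat.card B * Nat.card (V ⊓ Subgroup.centralizer (B : Set G) : Subgroup G)

theorem mu_pos (V B : Subgroup G) : 0 < mu V B :=
  Nat.mul_pos Nat.card_pos Nat.card_pos

/-- submodularity of the measure -/
theorem mu_mul_le (V B₁ B₂ : Subgroup G) :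
    mu V B₁ * mu V B₂ ≤ mu V (B₁ ⊔ B₂) * mu V (B₁ ⊓ B₂) := by
  unfold mu
  set C₁ : Subgroup G := V ⊓ Subgroup.centralizer (B₁ : Set G) with hC₁
  set C₂ : Subgroup G := V ⊓ Subgroup.centralizer (B₂ : Set G) with hC₂
  have e1 : (V ⊓ Subgroup.centralizer ((B₁ ⊔ B₂ : Subgroup G) : Set G) : Subgroup G) = C₁ ⊓ C₂ := by
    rw [centralizer_sup_eq, hC₁, hC₂]
    ext x; simp only [Subgroup.mem_inf]; tauto
  have e2 : C₁ ⊔ C₂ ≤ (V ⊓ Subgroup.centralizer ((B₁ ⊓ B₂ : Subgroup G) : Set G) : Subgroup G) := by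
    apply sup_le
    · exact inf_le_inf_left _ (Subgroup.centralizer_le (by exact_mod_cast (inf_le_left : B₁ ⊓ B₂ ≤ B₁)))
    · exact inf_le_inf_left _ (Subgroup.centralizer_le (by exact_mod_cast (inf_le_right : B₁ ⊓ B₂ ≤ B₂)))
  have e3 := Subgroup.card_le_of_le e2
  have e4 := card_mul_card_le_sup_inf C₁ C₂
  have e5 := card_mul_card_le_sup_inf B₁ B₂
  rw [e1]
  calc Nat.card B₁ * Nat.card C₁ * (Nat.card B₂ * Nat.card C₂)
      = (Nat.card B₁ * Nat.card B₂) * (Nat.card C₁ * Nat.card C₂) := by ring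
    _ ≤ (Nat.card (B₁ ⊔ B₂ : Subgroup G) * Nat.card (B₁ ⊓ B₂ : Subgroup G)) *
          (Nat.card (C₁ ⊔ C₂ : Subgroup G) * Nat.card (C₁ ⊓ C₂ : Subgroup G)) :=
        Nat.mul_le_mul e5 e4
    _ ≤ (Nat.card (B₁ ⊔ B₂ : Subgroup G) * Nat.card (B₁ ⊓ B₂ : Subgroup G)) *
          (Nat.card (V ⊓ Subgroup.centralizer ((B₁ ⊓ B₂ : Subgroup G) : Set G) : Subgroup G) *
            Nat.card (C₁ ⊓ C₂ : Subgroup G)) := by gcongr
    _ = _ := by ring

/-- conjugating by an element normalising `V` does not decrease the measure -/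
theorem mu_conj_ge (V B : Subgroup G) [V.Normal] (h : G) :
    mu V B ≤ mu V (B.map (MulAut.conj h).toMonoidHom) := by
  unfold mu
  have hinj : Function.Injective (MulAut.conj h).toMonoidHom := (MulAut.conj h).injective
  have c1 : Nat.card (B.map (MulAut.conj h).toMonoidHom) = Nat.card B :=
    Subgroup.card_map_of_injective hinj
  have c2 : Nat.card ((V ⊓ Subgroup.centralizer (B : Set G) : Subgroup G).map
      (MulAut.conj h).toMonoidHom) = Nat.card (V ⊓ Subgroup.centralizer (B : Set G) : Subgroup G) :=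
    Subgroup.card_map_of_injective hinj
  have c3 : (V ⊓ Subgroup.centralizer (B : Set G) : Subgroup G).map (MulAut.conj h).toMonoidHom ≤
      V ⊓ Subgroup.centralizer ((B.map (MulAut.conj h).toMonoidHom : Subgroup G) : Set G) := by
    rintro _ ⟨x, hx, rfl⟩
    refine ⟨?_, ?_⟩
    · show h * x * h⁻¹ ∈ V
      exact Subgroup.Normal.conj_mem inferInstance x hx.1 h
    · show (MulAut.conj h).toMonoidHom x ∈
        Subgroup.centralizer ((B.map (MulAut.conj h).toMonoidHom : Subgroup G) : Set G)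
      rw [Subgroup.mem_centralizer_iff]
      rintro _ ⟨b, hb, rfl⟩
      have hxb : b * x = x * b := (Subgroup.mem_centralizer_iff.1 hx.2) b hb
      show h * b * h⁻¹ * (h * x * h⁻¹) = h * x * h⁻¹ * (h * b * h⁻¹)
      calc h * b * h⁻¹ * (h * x * h⁻¹) = h * (b * x) * h⁻¹ := by group
        _ = h * (x * b) * h⁻¹ := by rw [hxb]
        _ = _ := by group
  rw [c1, ← c2]
  exact Nat.mul_le_mul_left _ (Subgroup.card_le_of_le c3)

/-- U-MEAS : the measure argument. -/
theorem measure_max (S Q V : Subgroup G) [Q.Normal] [V.Normal]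
    (hQS : Q ≤ S) (hab : ∀ a ∈ S, ∀ b ∈ S, a * b * a⁻¹ * b⁻¹ ∈ Q)
    (hVc : ∀ a ∈ V, ∀ b ∈ V, a * b = b * a)
    (hQV : Q ≤ Subgroup.centralizer (V : Set G))
    (h : G) (hh : h ∈ Subgroup.normalizer (S : Set G))
    (hirr : ∀ B : Subgroup G, Q ≤ B → B ≤ S → (∀ b ∈ B, h * b * h⁻¹ ∈ B) → B = Q ∨ B = S)
    (A : Subgroup G) (hAS : A ≤ S)
    (hA : Nat.card (A ⊓ Q : Subgroup G) * Nat.card V <
      Nat.card A * Nat.card (V ⊓ Subgroup.centralizer (A : Set G) : Subgroup G)) :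
    Nat.card Q * Nat.card V <
      Nat.card S * Nat.card (V ⊓ Subgroup.centralizer (S : Set G) : Subgroup G) := by
  classical
  -- V ⊓ C(Q) = V
  have hVQ : (V ⊓ Subgroup.centralizer (Q : Set G) : Subgroup G) = V := by
    apply inf_eq_left.2
    rw [Subgroup.le_centralizer_iff]; exact hQV
  have hmuQ : mu V Q = Nat.card Q * Nat.card V := by unfold mu; rw [hVQ]
  -- m(A ⊔ Q) > m(Q)
  have hAQ : mu V Q < mu V (A ⊔ Q) := by
    have e1 : (V ⊓ Subgroup.centralizer ((A ⊔ Q : Subgroup G) : Set G) : Subgroup G) =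
        V ⊓ Subgroup.centralizer (A : Set G) := by
      rw [centralizer_sup_eq, ← inf_assoc]
      apply inf_eq_left.2
      apply inf_le_left.trans
      rw [Subgroup.le_centralizer_iff]; exact hQV
    have e2 := card_mul_card_le_sup_inf A Q
    have hpos : 0 < Nat.card (A ⊓ Q : Subgroup G) := Nat.card_pos
    rw [hmuQ]; unfold mu; rw [e1]
    apply lt_of_mul_lt_mul_right (a := Nat.card (A ⊓ Q : Subgroup G)) _ (Nat.zero_le _)
    calc Nat.card Q * Nat.card V * Nat.card (A ⊓ Q : Subgroup G)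
        = Nat.card Q * (Nat.card (A ⊓ Q : Subgroup G) * Nat.card V) := by ring
      _ < Nat.card Q * (Nat.card A * Nat.card (V ⊓ Subgroup.centralizer (A : Set G) : Subgroup G)) :=
          Nat.mul_lt_mul_of_pos_left hA Nat.card_pos
      _ = (Nat.card A * Nat.card Q) * Nat.card (V ⊓ Subgroup.centralizer (A : Set G) : Subgroup G) := by ring
      _ ≤ (Nat.card (A ⊔ Q : Subgroup G) * Nat.card (A ⊓ Q : Subgroup G)) *
            Nat.card (V ⊓ Subgroup.centralizer (A : Set G) : Subgroup G) := Nat.mul_le_mul_right _ e2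
      _ = _ := by ring
  -- maximal measure
  let 𝓑 : Set (Subgroup G) := {B | Q ≤ B ∧ B ≤ S}
  have h𝓑fin : 𝓑.Finite := Set.toFinite _
  obtain ⟨B0, hB0, hB0max⟩ := Set.exists_max_image 𝓑 (mu V) h𝓑fin ⟨Q, le_refl _, hQS⟩
  let 𝓑' : Set (Subgroup G) := {B | B ∈ 𝓑 ∧ mu V B = mu V B0}
  obtain ⟨B, hB, hBmin⟩ := Set.exists_min_image 𝓑' (fun B => Nat.card B) (Set.toFinite _)
    ⟨B0, hB0, rfl⟩
  obtain ⟨⟨hQB, hBS⟩, hBmu⟩ := hB
  -- the conjugate
  set Bh : Subgroup G := B.map (MulAut.conj h).toMonoidHom with hBh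
  have hQBh : Q ≤ Bh := by
    intro q hq
    refine ⟨h⁻¹ * q * h, hQB ?_, ?_⟩
    · have := Subgroup.Normal.conj_mem (inferInstance : Q.Normal) q hq h⁻¹
      simpa using this
    · show h * (h⁻¹ * q * h) * h⁻¹ = q
      group
  have hBhS : Bh ≤ S := by
    rintro _ ⟨b, hb, rfl⟩
    show h * b * h⁻¹ ∈ S
    exact (Subgroup.mem_normalizer_iff.1 hh b).1 (hBS hb)
  have hBhmu : mu V Bh = mu V B0 :=
    le_antisymm (hB0max Bh ⟨hQBh, hBhS⟩) (hBmu ▸ mu_conj_ge V B h)
  have hsub := mu_mul_le V B Bh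
  have hsup_le : mu V (B ⊔ Bh) ≤ mu V B0 := hB0max _ ⟨hQB.trans le_sup_left, sup_le hBS hBhS⟩
  have hinf_le : mu V (B ⊓ Bh) ≤ mu V B0 := hB0max _ ⟨le_inf hQB hQBh, inf_le_left.trans hBS⟩
  have hinf_eq : mu V (B ⊓ Bh) = mu V B0 := by
    apply le_antisymm hinf_le
    by_contra hlt
    rw [not_le] at hlt
    have hp := mu_pos V B0
    have : mu V (B ⊔ Bh) * mu V (B ⊓ Bh) < mu V B0 * mu V B0 :=
      calc mu V (B ⊔ Bh) * mu V (B ⊓ Bh) ≤ mu V B0 * mu V (B ⊓ Bh) := Nat.mul_le_mul_right _ hsup_le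
        _ < mu V B0 * mu V B0 := Nat.mul_lt_mul_of_pos_left hlt hp
    rw [hBmu, hBhmu] at hsub
    omega
  have hcard := hBmin (B ⊓ Bh) ⟨⟨le_inf hQB hQBh, inf_le_left.trans hBS⟩, hinf_eq⟩
  have hBle : B ≤ Bh := by
    have : B ⊓ Bh = B := Subgroup.eq_of_le_of_card_ge inf_le_left hcard
    exact this ▸ inf_le_right
  have hBeq : B = Bh := by
    apply Subgroup.eq_of_le_of_card_ge hBle
    rw [hBh, Subgroup.card_map_of_injective (MulAut.conj h).injective]
  have hinv : ∀ b ∈ B, h * b * h⁻¹ ∈ B := by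
    intro b hb
    rw [hBeq]
    exact ⟨b, hb, rfl⟩
  have hBgt : mu V Q < mu V B := by
    rw [hBmu]
    exact lt_of_lt_of_le hAQ (hB0max _ ⟨le_sup_right, sup_le hAS hQS⟩)
  rcases hirr B hQB hBS hinv with rfl | rfl
  · exact absurd hBgt (lt_irrefl _)
  · rw [hmuQ] at hBgt
    exact hBgt

end meas

end Cfsg.Agent.Lib.Helper3.PU2770
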