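import Mathlib

set_option autoImplicit false

namespace Cfsg.Agent.Lib.Helper3.PU2770

open Function

/-- A permutation `σ` of a finite type with `σ ^ (r ^ (e+1)) = 1` and `σ ^ (r ^ e)` fixed-point-free:
every orbit has exactly `r ^ (e+1)` points, so `r ^ (e+1)` divides the cardinality. -/
theorem card_dvd_of_perm {X : Type*} [Fintype X] {r e : ℕ} (hr : r.Prime) (σ : Equiv.Perm X)
    (hN : σ ^ (r ^ (e + 1)) = 1) (hfree : ∀ x : X, (σ ^ (r ^ e)) x ≠ x) :
    r ^ (e + 1) ∣ Fintype.card X := by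
  classical
  rcases isEmpty_or_nonempty X with hX | ⟨⟨x0⟩⟩
  · simp [Fintype.card_eq_zero]
  -- minimal period of every point is r^(e+1)
  have hper : ∀ x : X, ∀ k : ℕ, (σ ^ k) x = x → r ^ (e + 1) ∣ k := by
    intro x k hk
    have h1 : IsPeriodicPt σ k x := by
      unfold IsPeriodicPt IsFixedPt
      rw [← Equiv.Perm.coe_pow]; exact hk
    have h2 : IsPeriodicPt σ (r ^ (e + 1)) x := by
      unfold IsPeriodicPt IsFixedPt
      rw [← Equiv.Perm.coe_pow, hN]; rfl
    have hd := h2.minimalPeriod_dvd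
    obtain ⟨j, hj, hjd⟩ := (Nat.dvd_prime_pow hr).1 hd
    have hjeq : j = e + 1 := by
      by_contra hne
      have hje : j ≤ e := by omega
      have h3 : IsPeriodicPt σ (r ^ e) x := by
        have : minimalPeriod σ x ∣ r ^ e := by rw [hjd]; exact pow_dvd_pow r hje
        exact (isPeriodicPt_minimalPeriod σ x).trans_dvd this
      apply hfree x
      have := h3
      unfold IsPeriodicPt IsFixedPt at this
      rw [← Equiv.Perm.coe_pow] at this; exact this
    rw [← hjeq, ← hjd]
    exact h1.minimalPeriod_dvd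
  have hord : orderOf σ = r ^ (e + 1) := by
    haveI : Fact r.Prime := ⟨hr⟩
    apply orderOf_eq_prime_pow (p := r) (n := e) _ hN
    intro h
    apply hfree x0
    rw [h]; rfl
  let Z := Subgroup.zpowers σ
  haveI : Fintype Z := Fintype.ofFinite _
  have hZ : Fintype.card Z = r ^ (e + 1) := by
    rw [← hord, ← Nat.card_zpowers, Nat.card_eq_fintype_card]
  have hfix : ∀ g : Z, g ≠ 1 → MulAction.fixedBy X g = ∅ := by
    intro g hg
    ext x
    simp only [MulAction.mem_fixedBy, Set.mem_empty_iff_false, iff_false]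
    intro hx
    apply hg
    obtain ⟨k, hk⟩ := (isOfFinOrder_of_finite σ).mem_powers_iff_mem_zpowers.2 g.2
    have hk' : σ ^ k = (g : Equiv.Perm X) := hk
    have h1 : (σ ^ k) x = x := by rw [hk']; exact hx
    have h2 := hper x k h1
    have h3 : σ ^ k = 1 := by
      obtain ⟨m, rfl⟩ := h2
      rw [pow_mul, hN, one_pow]
    apply Subtype.ext
    rw [← hk', h3]; rfl
  have hB := MulAction.sum_card_fixedBy_eq_card_orbits_mul_card_group Z X
  have hsum : ∑ g : Z, Fintype.card (MulAction.fixedBy X g) = Fintype.card X := by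
    rw [Finset.sum_eq_single (1 : Z)]
    · apply Fintype.card_congr
      refine ⟨fun x => x.1, fun x => ⟨x, by simp [MulAction.mem_fixedBy]⟩, fun x => rfl, fun x => rfl⟩
    · intro g _ hg
      rw [Fintype.card_eq_zero_iff]
      constructor
      rintro ⟨x, hx⟩
      have := hfix g hg
      rw [this] at hx
      exact hx
    · intro h; exact absurd (Finset.mem_univ _) h
  rw [hsum, hZ] at hB
  exact ⟨_, by rw [hB, mul_comm]⟩

end Cfsg.Agent.Lib.Helper3.PU2770

namespace Cfsg.Agent.Lib.Helper3.PU2770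

section orb
variable {G : Type*} [Group G] [Finite G] {p : ℕ} [Fact p.Prime]

theorem conj_pow_comm_aux (y v : G) (m : ℕ) :
    y ^ m * (y * v * y⁻¹) * (y ^ m)⁻¹ = y * (y ^ m * v * (y ^ m)⁻¹) * y⁻¹ := by
  have h1 : y ^ m * y = y * y ^ m := (pow_mul_comm' y m)
  have h2 : y⁻¹ * (y ^ m)⁻¹ = (y ^ m)⁻¹ * y⁻¹ := by
    rw [← mul_inv_rev, ← mul_inv_rev, h1]
  calc y ^ m * (y * v * y⁻¹) * (y ^ m)⁻¹ = (y ^ m * y) * v * (y⁻¹ * (y ^ m)⁻¹) := by group
    _ = (y * y ^ m) * v * ((y ^ m)⁻¹ * y⁻¹) := by rw [h1, h2]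
    _ = _ := by group

/-- U-ORB : the orbit count. -/
theorem orbit_dvd (V : Subgroup G) [V.Normal] (hV : IsPGroup p V)
    (r e : ℕ) (hr : r.Prime) (hrp : r ≠ p) (he : 0 < e) (y : G)
    (hy : y ^ (r ^ e) ∈ Subgroup.centralizer (V : Set G))
    (hy' : y ^ (r ^ (e - 1)) ∉ Subgroup.centralizer (V : Set G)) :
    ∃ t : ℕ, 0 < t ∧
      Nat.card V = p ^ t *
        Nat.card (V ⊓ Subgroup.centralizer ({y ^ (r ^ (e - 1))} : Set G) : Subgroup G) ∧
      r ^ e ∣ p ^ t - 1 := by
  classical
  obtain ⟨e', rfl⟩ : ∃ e', e = e' + 1 := ⟨e - 1, by omega⟩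
  simp only [Nat.add_sub_cancel] at hy' ⊢
  set y' := y ^ (r ^ e') with hy'def
  set F : Subgroup G := V ⊓ Subgroup.centralizer ({y'} : Set G) with hF
  have hFV : F ≤ V := inf_le_left
  -- membership in F
  have hmemF : ∀ v : G, v ∈ F ↔ v ∈ V ∧ y' * v * y'⁻¹ = v := by
    intro v
    rw [hF, Subgroup.mem_inf, Subgroup.mem_centralizer_iff]
    constructor
    · rintro ⟨h1, h2⟩
      refine ⟨h1, ?_⟩
      have := h2 y' (Set.mem_singleton _)
      rw [this, mul_inv_cancel_right]
    · rintro ⟨h1, h2⟩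
      refine ⟨h1, ?_⟩
      intro g hg
      rw [Set.mem_singleton_iff] at hg
      subst hg
      calc y' * v = (y' * v * y'⁻¹) * y' := by group
        _ = v * y' := by rw [h2]
  -- the permutation
  let X := {v : G // v ∈ V ∧ y' * v * y'⁻¹ ≠ v}
  haveI : Fintype X := Fintype.ofFinite _
  have hyy' : ∀ v : G, y' * (y * v * y⁻¹) * y'⁻¹ = y * (y' * v * y'⁻¹) * y⁻¹ := fun v =>
    conj_pow_comm_aux y v _
  have hyy'i : ∀ v : G, y' * (y⁻¹ * v * y) * y'⁻¹ = y⁻¹ * (y' * v * y'⁻¹) * y := by
    intro v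
    have := hyy' (y⁻¹ * v * y)
    have e1 : y * (y⁻¹ * v * y) * y⁻¹ = v := by group
    rw [e1] at this
    rw [this]; group
  let σ : Equiv.Perm X :=
    { toFun := fun v => ⟨y * v.1 * y⁻¹, Subgroup.Normal.conj_mem inferInstance _ v.2.1 _, by
        rw [hyy']
        intro h
        apply v.2.2
        have := mul_left_cancel (mul_right_cancel h)
        exact this⟩
      invFun := fun v => ⟨y⁻¹ * v.1 * y, by
          have := Subgroup.Normal.conj_mem (inferInstance : V.Normal) _ v.2.1 y⁻¹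
          simpa using this, by
        rw [hyy'i]
        intro h
        apply v.2.2
        exact mul_left_cancel (mul_right_cancel h)⟩
      left_inv := fun v => Subtype.ext (by simp [mul_assoc])
      right_inv := fun v => Subtype.ext (by simp [mul_assoc]) }
  have hpow : ∀ (k : ℕ) (x : X), ((σ ^ k) x).1 = y ^ k * x.1 * (y ^ k)⁻¹ := by
    intro k
    induction k with
    | zero => intro x; simp
    | succ k ih =>
      intro x
      rw [pow_succ', Equiv.Perm.mul_apply]
      show y * ((σ ^ k) x).1 * y⁻¹ = _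
      rw [ih, pow_succ']
      group
  have hcent : ∀ g : G, g ∈ Subgroup.centralizer (V : Set G) → ∀ v ∈ V, g * v * g⁻¹ = v := by
    intro g hg v hv
    rw [Subgroup.mem_centralizer_iff] at hg
    rw [← hg v hv, mul_inv_cancel_right]
  have hN : σ ^ (r ^ (e' + 1)) = 1 := by
    ext x
    rw [hpow]
    exact hcent _ hy _ x.2.1
  have hfree : ∀ x : X, (σ ^ (r ^ e')) x ≠ x := by
    intro x h
    apply x.2.2
    have := congrArg Subtype.val h
    rw [hpow] at this
    exact this
  have hdvd := card_dvd_of_perm hr σ hN hfree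
  -- cardinalities
  have hXcard : Fintype.card X = Nat.card V - Nat.card F := by
    rw [← Nat.card_eq_fintype_card]
    have h1 : Nat.card X = Set.ncard ((V : Set G) \ (F : Set G)) := by
      rw [← Nat.card_coe_set_eq]
      apply Nat.card_congr
      refine ⟨fun x => ⟨x.1, x.2.1, fun hx => x.2.2 ((hmemF _).1 hx).2⟩,
        fun x => ⟨x.1, x.2.1, fun hx => x.2.2 ((hmemF _).2 ⟨x.2.1, hx⟩)⟩, fun x => rfl, fun x => rfl⟩
    rw [h1, Set.ncard_sdiff (by exact_mod_cast hFV) (Set.toFinite _)]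
    rfl
  -- index
  have hidx : Nat.card V = Nat.card F * (F.subgroupOf V).index := by
    rw [← (F.subgroupOf V).card_mul_index]
    congr 1
    exact Nat.card_congr (Subgroup.subgroupOfEquivOfLe hFV).toEquiv
  obtain ⟨t, ht⟩ := hV.index (F.subgroupOf V)
  obtain ⟨s, hs⟩ := (IsPGroup.iff_card).1 (hV.to_le hFV : IsPGroup p F)
  have ht0 : 0 < t := by
    rcases Nat.eq_zero_or_pos t with h0 | h0
    · exfalso
      rw [h0, pow_zero, Subgroup.index_eq_one, Subgroup.subgroupOf_eq_top] at ht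
      apply hy'
      rw [Subgroup.mem_centralizer_iff]
      intro v hv
      have hvF := ht hv
      have := ((hmemF v).1 hvF).2
      calc v * y' = (y' * v * y'⁻¹) * y' := by rw [this]
        _ = y' * v := by group
    · exact h0
  refine ⟨t, ht0, ?_, ?_⟩
  · rw [hidx, ht, mul_comm]
  · have h3 : Nat.card V - Nat.card F = Nat.card F * (p ^ t - 1) := by
      rw [hidx, ht, Nat.mul_sub, mul_one]
    rw [hXcard, h3, hs] at hdvd
    have hcop : Nat.Coprime (r ^ (e' + 1)) (p ^ s) := by
      apply Nat.Coprime.pow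
      exact (Nat.coprime_primes hr (Fact.out)).2 hrp
    exact hcop.dvd_of_dvd_mul_left hdvd

end orb

end Cfsg.Agent.Lib.Helper3.PU2770
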