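import Mathlib

set_option autoImplicit false

namespace Cfsg.Agent.Lib.Helper3.PU2770

section lift
variable {G : Type*} [Group G] [Finite G]

/-- U-POW : lifting an element of order `r^e` modulo a normal subgroup `C ≤ ker φ`. -/
theorem exists_pow_lift {P : Type*} [Group P] (φ : G →* P) (hφ : Function.Surjective φ)
    (C : Subgroup G) [C.Normal] (hC : C ≤ φ.ker) (r e : ℕ) (hr : r.Prime) (he : 0 < e) (g : P)
    (hg : orderOf g = r ^ e) :
    ∃ y : G, y ^ (r ^ e) ∈ C ∧ y ^ (r ^ (e - 1)) ∉ C := by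
  obtain ⟨y0, rfl⟩ := hφ g
  set ψ : G ⧸ C →* P := QuotientGroup.lift C φ (fun x hx => hC hx) with hψ
  set z : G ⧸ C := (y0 : G ⧸ C) with hz
  have hψz : ψ z = φ y0 := by simp [hψ, hz]
  set k := orderOf z with hk
  have hk0 : 0 < k := orderOf_pos z
  have hdvd : r ^ e ∣ k := by
    rw [← hg, ← hψz]
    exact orderOf_map_dvd ψ z
  obtain ⟨m, hm⟩ := hdvd
  have hm0 : m ≠ 0 := by
    rintro rfl
    rw [mul_zero] at hm
    omega
  have hmk : m ∣ orderOf z := ⟨r ^ e, by rw [← hk, hm, mul_comm]⟩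
  have hord : orderOf (z ^ m) = r ^ e := by
    rw [orderOf_pow_of_dvd hm0 hmk, ← hk, hm]
    exact Nat.mul_div_cancel _ (Nat.pos_of_ne_zero hm0)
  refine ⟨y0 ^ m, ?_, ?_⟩
  · rw [← QuotientGroup.eq_one_iff]
    have : ((y0 ^ m) ^ (r ^ e) : G) = y0 ^ (m * r ^ e) := by rw [pow_mul]
    rw [QuotientGroup.mk_pow, QuotientGroup.mk_pow, ← hz, ← hord, pow_orderOf_eq_one]
  · intro h
    rw [← QuotientGroup.eq_one_iff, QuotientGroup.mk_pow, QuotientGroup.mk_pow, ← hz] at h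
    have h2 := orderOf_dvd_of_pow_eq_one h
    rw [hord] at h2
    have h3 : r ^ e ≤ r ^ (e - 1) := Nat.le_of_dvd (pow_pos hr.pos _) h2
    have h4 : r ^ (e - 1) < r ^ e := Nat.pow_lt_pow_right hr.one_lt (by omega)
    omega

end lift

end Cfsg.Agent.Lib.Helper3.PU2770
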