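import Mathlib

set_option autoImplicit false
set_option maxHeartbeats 4000000
set_option maxRecDepth 100000
set_option linter.unusedVariables false
set_option linter.unusedSectionVars false
set_option linter.style.longLine false
set_option linter.style.haveILetI false
set_option linter.deprecated false
set_option linter.unusedSimpArgs false

/-!
# S3396: groups in which every element has order a power of 2 or an odd prime ≠ 5

Basic definitions shared by all pieces.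
-/

namespace Cfsg.Agent.Lib.Helper3.CP

/-- The class 𝒞: every non-identity element has order a power of `2` or a prime `≠ 5`. -/
def CC (G : Type*) [Group G] : Prop :=
  ∀ g : G, g ≠ 1 → (∃ k : ℕ, orderOf g = 2 ^ k) ∨ ((orderOf g).Prime ∧ orderOf g ≠ 5)

variable {G : Type*} [Group G]

/-- `Ω₁(Z(Q))` as a subgroup of `G`. -/
def omegaZ (Q : Subgroup G) : Subgroup G where
  carrier := {z | z ∈ Q ∧ (∀ q ∈ Q, q * z = z * q) ∧ z ^ 2 = 1}
  one_mem' := ⟨Q.one_mem, fun q _ => by simp, by simp⟩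
  mul_mem' := by
    rintro a b ⟨ha, hac, ha2⟩ ⟨hb, hbc, hb2⟩
    refine ⟨Q.mul_mem ha hb, fun q hq => ?_, ?_⟩
    · calc q * (a * b) = (q * a) * b := by group
        _ = (a * q) * b := by rw [hac q hq]
        _ = a * (q * b) := by group
        _ = a * (b * q) := by rw [hbc q hq]
        _ = a * b * q := by group
    · have hab : a * b = b * a := (hbc a ha)
      have : (a * b) ^ 2 = a ^ 2 * b ^ 2 := by
        rw [pow_two, pow_two, pow_two]
        calc a * b * (a * b) = a * (b * a) * b := by group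
          _ = a * (a * b) * b := by rw [hab]
          _ = a * a * (b * b) := by group
      rw [this, ha2, hb2, one_mul]
  inv_mem' := by
    rintro a ⟨ha, hac, ha2⟩
    refine ⟨Q.inv_mem ha, fun q hq => ?_, ?_⟩
    · have := hac q hq
      calc q * a⁻¹ = a⁻¹ * (a * q) * a⁻¹ := by group
        _ = a⁻¹ * (q * a) * a⁻¹ := by rw [this]
        _ = a⁻¹ * q := by group
    · rw [inv_pow, ha2, inv_one]

theorem mem_omegaZ {Q : Subgroup G} {z : G} :
    z ∈ omegaZ Q ↔ z ∈ Q ∧ (∀ q ∈ Q, q * z = z * q) ∧ z ^ 2 = 1 := Iff.rfl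

/-- Local data: `M` "of shape `Q.(r : 2^k)`" seen through a Sylow 2-subgroup `T` of `M`.
`Q = O₂(M)`, `x ∈ M` of odd prime order `r`, elements of order `r` of `M` act fixed-point-freely on `Q`,
`T/Q` is cyclic of exponent dividing `r - 1` and acts faithfully on `⟨x⟩Q/Q`, and centralizers of
nontrivial `M`-invariant subgroups of `Q` lie in `Q`. -/
structure Loc (M Q T : Subgroup G) (x : G) (r : ℕ) : Prop where
  QT : Q ≤ T
  TM : T ≤ M
  Qn : ∀ m ∈ M, ∀ q ∈ Q, m * q * m⁻¹ ∈ Q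
  T2 : IsPGroup 2 T
  Qne : Q ≠ ⊥
  xM : x ∈ M
  rp : r.Prime
  r2 : r ≠ 2
  xo : orderOf x = r
  fpf : ∀ y ∈ M, orderOf y = r → ∀ q ∈ Q, y * q * y⁻¹ = q → q = 1
  comm : ∀ a ∈ T, a ∉ Q → orderOf (a⁻¹ * (x * a * x⁻¹)) = r
  cyc : ∃ u ∈ T, ∀ a ∈ T, ∃ i : ℕ, a * (u ^ i)⁻¹ ∈ Q
  sq : ∀ a ∈ T, a ^ (r - 1) ∈ Q
  cent : ∀ C : Subgroup G, C ≤ Q → C ≠ ⊥ → (∀ m ∈ M, ∀ c ∈ C, m * c * m⁻¹ ∈ C) →
    Subgroup.centralizer (C : Set G) ≤ Q

/-- `Q = O₂(M)` for subgroups `Q ≤ M` of `G` (elementwise form). -/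
def IsO2 (Q M : Subgroup G) : Prop :=
  Q ≤ M ∧ IsPGroup 2 Q ∧ (∀ m ∈ M, ∀ q ∈ Q, m * q * m⁻¹ ∈ Q) ∧
  ∀ R : Subgroup G, R ≤ M → IsPGroup 2 R → (∀ m ∈ M, ∀ q ∈ R, m * q * m⁻¹ ∈ R) → R ≤ Q

/-- Members of `𝓜`: `M = N_G(Q)`, `Q = O₂(M) ≠ 1`, `M` not a 2-group. -/
def Mem (M Q : Subgroup G) : Prop :=
  Q ≠ ⊥ ∧ IsO2 Q M ∧ M = Subgroup.normalizer (Q : Set G) ∧ ¬ IsPGroup 2 M

/-- `T` is a Sylow 2-subgroup of the subgroup `M` of `G`: a maximal 2-subgroup of `M`. -/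
def IsSyl2 (T M : Subgroup G) : Prop :=
  T ≤ M ∧ IsPGroup 2 T ∧ ∀ R : Subgroup G, R ≤ M → IsPGroup 2 R → T ≤ R → R = T

/-- The standing hypotheses on the simple group `G` of S3396 (after the reduction):
`G ∈ 𝒞`, not solvable, every 2-local subgroup solvable. (`IsSimpleGroup G` is passed as an instance.) -/
structure Ctx (G : Type*) [Group G] : Prop where
  cc : CC G
  ns : ¬ IsSolvable G
  loc : ∀ R : Subgroup G, R ≠ ⊥ → IsPGroup 2 R → IsSolvable ↥(Subgroup.normalizer (R : Set G))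

end Cfsg.Agent.Lib.Helper3.CP
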