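import Cfsg.Agent.Lib.Helper3.CPPairE

set_option autoImplicit false
set_option maxHeartbeats 4000000
set_option maxRecDepth 100000
set_option linter.unusedVariables false
set_option linter.unusedSectionVars false
set_option linter.style.longLine false
set_option linter.style.haveILetI false
set_option linter.deprecated false
set_option linter.unusedSimpArgs false

/-! # S3396, the Pair Lemma -/

namespace Cfsg.Agent.Lib.Helper3.CP

/-- `q ↦ [q, w]` is multiplicative when `[P, w]` is central. -/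
theorem comm_mul_of_central {P : Type*} [Group P] (w : P)
    (hcen : ∀ q p : P, p * (q * w * q⁻¹ * w⁻¹) = (q * w * q⁻¹ * w⁻¹) * p) (p q : P) :
    (p * q) * w * (p * q)⁻¹ * w⁻¹ = (p * w * p⁻¹ * w⁻¹) * (q * w * q⁻¹ * w⁻¹) := by
  have h1 := hcen q p
  calc (p * q) * w * (p * q)⁻¹ * w⁻¹ = p * (q * w * q⁻¹ * w⁻¹) * p⁻¹ * (p * w * p⁻¹ * w⁻¹) := by group
    _ = (q * w * q⁻¹ * w⁻¹) * p * p⁻¹ * (p * w * p⁻¹ * w⁻¹) := by rw [h1]
    _ = (q * w * q⁻¹ * w⁻¹) * (p * w * p⁻¹ * w⁻¹) := by group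
    _ = (p * w * p⁻¹ * w⁻¹) * (q * w * q⁻¹ * w⁻¹) := (hcen q _).symm

variable {G : Type*} [Group G] [Finite G]

variable {M M' Q Q' T : Subgroup G} {x x' : G} {r r' : ℕ}

/-- Case (II) of the Pair Lemma, one orientation. -/
theorem caseII_aux (h : Loc M Q T x r) (h' : Loc M' Q' T x' r') (hQQ : Q ≠ Q') (hQT : Q ≠ T)
    (hV : omegaZ Q ≤ Q') (hV' : omegaZ Q' ≤ Q) (A : Subgroup G) (hAT : A ≤ T) (hAea : IsEA A)
    (hAmax : ∀ B : Subgroup G, B ≤ T → IsEA B → Nat.card B ≤ Nat.card A) (hAQ' : ¬ A ≤ Q') : False := by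
  obtain ⟨a, haA, haQ'⟩ := SetLike.not_le_iff_exists.mp hAQ'
  have haT : a ∈ T := hAT haA
  -- step (b1): |V'| = 4
  set U : Subgroup G := A ⊓ Q' with hU
  have hc : ∀ u ∈ U, ∀ w ∈ omegaZ Q', u * w = w * u := fun u hu w hw => hw.2.1 u hu.2
  have hUea : IsEA U := ⟨fun a ha b hb => hAea.1 a ha.1 b hb.1, fun a ha => hAea.2 a ha.1⟩
  have hV'ea : IsEA (omegaZ Q') := ⟨fun a ha b hb => (hb.2.1 a ha.1), fun a ha => ha.2.2⟩
  have hBea : IsEA (prodSub U (omegaZ Q') hc) := hUea.prodSub hV'ea hc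
  have hBT : prodSub U (omegaZ Q') hc ≤ T :=
    prodSub_le U (omegaZ Q') T hc (inf_le_left.trans hAT) h'.V_le_T
  have hBA := hAmax _ hBT hBea
  have hAU : Nat.card A ≤ 2 * Nat.card U := by
    apply card_le_two_mul_of_coset (inf_le_left)
    intro a1 h1 h1U a2 h2 h2U
    have h1Q : a1 ∉ Q' := fun hq => h1U ⟨h1, hq⟩
    have h2Q : a2 ∉ Q' := fun hq => h2U ⟨h2, hq⟩
    have e1 : a1 ^ 2 ∈ Q' := by rw [hAea.2 a1 h1]; exact Q'.one_mem
    have e2 : a2 ^ 2 ∈ Q' := by rw [hAea.2 a2 h2]; exact Q'.one_mem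
    exact ⟨A.mul_mem (A.inv_mem h1) h2, h'.uniq_inv (hAT h1) (hAT h2) h1Q h2Q e1 e2⟩
  have hV'U : Nat.card (omegaZ Q') ≤ 2 * Nat.card (U ⊓ omegaZ Q' : Subgroup G) :=
    card_le_two_mul_inf U (omegaZ Q') A _ (le_prodSub_left _ _ hc) (le_prodSub_right _ _ hc) hBA hAU
  set C : Subgroup G := omegaZ Q' ⊓ Subgroup.centralizer ({a} : Set G) with hC
  have hUC : U ⊓ omegaZ Q' ≤ C := by
    intro g hg
    refine ⟨hg.2, ?_⟩
    show g ∈ Subgroup.centralizer ({a} : Set G)
    rw [Subgroup.mem_centralizer_iff]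
    intro y hy
    rw [Set.mem_singleton_iff] at hy; subst hy
    exact hAea.1 y haA g hg.1.1
  have hb := h'.bound (omegaZ Q') h'.V_le_Q h'.V_normal haT haQ'
  have hV'4 : Nat.card (omegaZ Q') = 4 := by
    have hUC' : Nat.card (U ⊓ omegaZ Q' : Subgroup G) ≤ Nat.card C := Subgroup.card_le_of_le hUC
    have hCpos : 0 < Nat.card C := Nat.card_pos
    have h1 : Nat.card C ^ 2 ≤ 2 * Nat.card C := le_trans hb (le_trans hV'U (by omega))
    have hc2 : Nat.card C ≤ 2 := by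
      by_contra hgt
      push Not at hgt
      have : 3 * Nat.card C ≤ Nat.card C ^ 2 := by
        rw [pow_two]; exact Nat.mul_le_mul_right _ hgt
      omega
    exact h'.card_eq_four_of_le (omegaZ Q') h'.V_le_Q h'.V_normal h'.V_ne_bot (by omega)
  -- step (b2): r' = 3
  have hr3 : r' = 3 := by
    obtain ⟨v, hvV, hv1⟩ : ∃ v ∈ omegaZ Q', v ≠ 1 := by
      by_contra hno
      push Not at hno
      exact h'.V_ne_bot ((Subgroup.eq_bot_iff_forall _).mpr hno)
    have hpow : ∀ k : ℕ, x' ^ k ∈ M' := fun k => M'.pow_mem h'.xM k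
    have hfix : ∀ k : ℕ, 0 < k → k < r' → x' ^ k * v * (x' ^ k)⁻¹ = v → False := by
      intro k hk0 hkr hfixk
      have hcop : Nat.Coprime (orderOf x') k := by
        rw [h'.xo]
        exact (Nat.Prime.coprime_iff_not_dvd h'.rp).mpr (Nat.not_dvd_of_pos_of_lt hk0 hkr)
      have hord : orderOf (x' ^ k) = r' := by rw [Nat.Coprime.orderOf_pow hcop, h'.xo]
      exact hv1 (h'.fpf (x' ^ k) (hpow k) hord v (h'.V_le_Q hvV) hfixk)
    have hlt : ∀ i j : ℕ, i < j → j < r' → x' ^ i * v * (x' ^ i)⁻¹ = x' ^ j * v * (x' ^ j)⁻¹ → False := by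
      intro i j hij hjr heq
      apply hfix (j - i) (by omega) (by omega)
      have hj : x' ^ j = x' ^ i * x' ^ (j - i) := by
        rw [← pow_add]; congr 1; omega
      rw [hj] at heq
      have := congrArg (fun z => (x' ^ i)⁻¹ * z * x' ^ i) heq
      simp only [mul_inv_rev] at this
      have e1 : (x' ^ i)⁻¹ * (x' ^ i * v * (x' ^ i)⁻¹) * x' ^ i = v := by group
      have e2 : (x' ^ i)⁻¹ * (x' ^ i * x' ^ (j - i) * v * ((x' ^ (j - i))⁻¹ * (x' ^ i)⁻¹)) * x' ^ i
          = x' ^ (j - i) * v * (x' ^ (j - i))⁻¹ := by group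
      rw [e1, e2] at this
      exact this.symm
    let f : Option (Fin r') → omegaZ Q' := fun o =>
      match o with
      | none => 1
      | some i => ⟨x' ^ (i : ℕ) * v * (x' ^ (i : ℕ))⁻¹, h'.V_normal _ (hpow _) v hvV⟩
    have hf : Function.Injective f := by
      intro o1 o2 h12
      rcases o1 with _ | i <;> rcases o2 with _ | j
      · rfl
      · exfalso
        have h2 := congrArg (fun z : omegaZ Q' => (z : G)) h12
        simp only [f, Subgroup.coe_one] at h2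
        apply hv1
        have := congrArg (fun z => (x' ^ (j : ℕ))⁻¹ * z * x' ^ (j : ℕ)) h2
        simp only [mul_one, inv_mul_cancel] at this
        rw [this]; group
      · exfalso
        have h2 := congrArg (fun z : omegaZ Q' => (z : G)) h12
        simp only [f, Subgroup.coe_one] at h2
        apply hv1
        have := congrArg (fun z => (x' ^ (i : ℕ))⁻¹ * z * x' ^ (i : ℕ)) h2
        simp only [mul_one, inv_mul_cancel] at this
        rw [← this]; group
      · have h2 := congrArg (fun z : omegaZ Q' => (z : G)) h12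
        simp only [f] at h2
        rcases lt_trichotomy (i : ℕ) (j : ℕ) with hlt1 | heq1 | hgt1
        · exact (hlt _ _ hlt1 j.2 h2).elim
        · rw [Fin.ext heq1]
        · exact (hlt _ _ hgt1 i.2 h2.symm).elim
    have hcard := Nat.card_le_card_of_injective f hf
    have hopt : Nat.card (Option (Fin r')) = r' + 1 := by
      rw [Nat.card_eq_fintype_card, Fintype.card_option, Fintype.card_fin]
    rw [hopt, hV'4] at hcard
    have h2 := h'.rp.two_le
    have h3 := h'.r2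
    omega
  subst hr3
  have hsq : ∀ b ∈ T, b ^ 2 ∈ Q' := fun b hb => by
    have := h'.sq b hb
    simpa using this
  have hx3 : x' ^ 3 = 1 := by
    have := pow_orderOf_eq_one x'
    rwa [h'.xo] at this
  -- step (c)
  have hnc : ∃ w ∈ omegaZ Q, ∃ q ∈ Q', q * w ≠ w * q := by
    by_contra hno
    push Not at hno
    have hQ'Q : Q' ≤ Q := by
      intro q hq
      apply h.cent_V
      rw [Subgroup.mem_centralizer_iff]
      intro w hw
      exact (hno w hw q hq).symm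
    apply hQQ
    apply le_antisymm _ hQ'Q
    by_contra hle
    obtain ⟨q, hqQ, hqQ'⟩ := SetLike.not_le_iff_exists.mp hle
    have hex : ∃ b ∈ T, b ∉ Q := by
      by_contra hno2
      push Not at hno2
      exact hQT (le_antisymm h.QT hno2)
    obtain ⟨b, hbT, hbQ⟩ := hex
    have hbQ' : b ∉ Q' := fun hb => hbQ (hQ'Q hb)
    have h0 := h'.uniq_inv hbT (h.QT hqQ) hbQ' hqQ' (hsq b hbT) (hsq q (h.QT hqQ))
    have h1 := hQ'Q h0
    apply hbQ
    have h2 := Q.mul_mem hqQ (Q.inv_mem h1)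
    simpa using h2
  -- step (d)
  haveI : Fact (Nat.Prime 2) := ⟨Nat.prime_two⟩
  have hQ'2 : IsPGroup 2 Q' := h'.T2.to_le h'.QT
  haveI : Group.IsNilpotent Q' := hQ'2.isNilpotent
  let N : Subgroup Q' := (omegaZ Q).subgroupOf Q'
  haveI : N.Normal := by
    constructor
    intro n hn g
    rw [Subgroup.mem_subgroupOf] at hn ⊢
    have := h.V_normal (g : G) (h.TM (h'.QT g.2)) (n : G) hn
    simpa using this
  have hN : ¬ N ≤ Subgroup.center Q' := by
    intro hle
    obtain ⟨w, hw, q, hq, hne⟩ := hnc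
    have hwN : (⟨w, hV hw⟩ : Q') ∈ N := by rw [Subgroup.mem_subgroupOf]; exact hw
    have := Subgroup.mem_center_iff.mp (hle hwN) ⟨q, hq⟩
    apply hne
    exact congrArg Subtype.val this
  obtain ⟨w0, hw0N, hw0Z, hw0c⟩ := exists_second_center N hN
  have hw0V : (w0 : G) ∈ omegaZ Q := by
    rw [Subgroup.mem_subgroupOf] at hw0N; exact hw0N
  let σ : Q' →* Q' :=
    { toFun := fun q => ⟨x' * (q : G) * x'⁻¹, h'.Qn x' h'.xM q q.2⟩
      map_one' := by ext; simp
      map_mul' := by intro a b; ext; simp [mul_assoc] }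
  have hx3' : x' * x' * x' = 1 := by
    have : x' ^ 3 = x' * x' * x' := by rw [pow_succ, pow_two]
    rw [← this]; exact hx3
  have hxinv : x'⁻¹ * x'⁻¹ * x'⁻¹ = 1 := by
    have := congrArg (fun z => z⁻¹) hx3'
    simpa [mul_inv_rev, mul_assoc] using this
  have hσ3 : ∀ g : Q', σ (σ (σ g)) = g := by
    intro g
    ext
    show x' * (x' * (x' * (g : G) * x'⁻¹) * x'⁻¹) * x'⁻¹ = g
    calc x' * (x' * (x' * (g : G) * x'⁻¹) * x'⁻¹) * x'⁻¹
        = (x' * x' * x') * (g : G) * (x'⁻¹ * x'⁻¹ * x'⁻¹) := by group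
      _ = g := by rw [hx3', hxinv]; group
  have hfpf3 : ∀ g : Q', g * σ g * σ (σ g) = 1 := by
    intro g
    ext
    exact fpf3 Q' x' hx3 (h'.Qn x' h'.xM) (h'.fpf x' h'.xM h'.xo) g g.2
  have hcen : ∀ q p : Q', p * (q * w0 * q⁻¹ * w0⁻¹) = (q * w0 * q⁻¹ * w0⁻¹) * p := fun q p =>
    Subgroup.mem_center_iff.mp (hw0c q) p
  have hsqc : ∀ q : Q', (q * w0 * q⁻¹ * w0⁻¹) ^ 2 = 1 := by
    intro q
    ext
    have h1 := h.V_normal (q : G) (h.TM (h'.QT q.2)) (w0 : G) hw0V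
    have h2 := (omegaZ Q).mul_mem h1 ((omegaZ Q).inv_mem hw0V)
    have := h2.2.2
    simpa using this
  have hχ1 : ∀ q : Q', q * w0 * q⁻¹ * w0⁻¹ = 1 → q * w0 = w0 * q := by
    intro q hq
    have := congrArg (fun z => z * w0 * q) hq
    simpa [mul_assoc] using this
  set Q1 : Subgroup G := Q' ⊓ Subgroup.centralizer ({(w0 : G)} : Set G) with hQ1
  have hmemQ1 : ∀ q : Q', (q : G) ∈ Q1 ↔ q * w0 = w0 * q := by
    intro q
    constructor
    · intro hq
      have hq2 : (q : G) ∈ Subgroup.centralizer ({(w0 : G)} : Set G) := hq.2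
      rw [Subgroup.mem_centralizer_iff] at hq2
      have := hq2 (w0 : G) (Set.mem_singleton _)
      exact Subtype.ext this.symm
    · intro hq
      refine ⟨q.2, ?_⟩
      show (q : G) ∈ Subgroup.centralizer ({(w0 : G)} : Set G)
      rw [Subgroup.mem_centralizer_iff]
      intro y hy
      rw [Set.mem_singleton_iff] at hy; subst hy
      exact (congrArg Subtype.val hq).symm
  have hcoset : ∀ q1 q2 : Q', q1 * w0 ≠ w0 * q1 → q2 * w0 ≠ w0 * q2 →
      (q1⁻¹ * q2) * w0 = w0 * (q1⁻¹ * q2) := by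
    intro q1 q2 h1 h2
    have hYQ : Q' ⊓ Q ≤ Q1 := by
      intro g hg
      refine ⟨hg.1, ?_⟩
      show g ∈ Subgroup.centralizer ({(w0 : G)} : Set G)
      rw [Subgroup.mem_centralizer_iff]
      intro y hy
      rw [Set.mem_singleton_iff] at hy; subst hy
      exact (hw0V.2.1 g hg.2).symm
    have hsqY : ∀ y ∈ Q', y ^ 2 ∈ Q1 := by
      intro y hy
      have e := comm_mul_of_central w0 hcen ⟨y, hy⟩ ⟨y, hy⟩
      have e2 := hsqc ⟨y, hy⟩
      rw [pow_two] at e2
      rw [e2] at e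
      have e3 := hχ1 _ e
      have := (hmemQ1 (⟨y, hy⟩ * ⟨y, hy⟩)).mpr e3
      rw [pow_two]
      simpa using this
    have := h.coset_of_sq Q' Q1 inf_le_left h'.QT hYQ hsqY q1.2 (fun hq => h1 ((hmemQ1 q1).mp hq)) q2.2
      (fun hq => h2 ((hmemQ1 q2).mp hq))
    have h3 := (hmemQ1 (q1⁻¹ * q2)).mp (by simpa using this)
    exact h3
  have hq0 : ∃ q0 : Q', q0 * w0 ≠ w0 * q0 := by
    by_contra hno
    push Not at hno
    exact hw0Z (Subgroup.mem_center_iff.mpr hno)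
  obtain ⟨q0, hq0⟩ := hq0
  exact no_fpf3_index2 σ hσ3 hfpf3 w0 hcen hsqc hcoset q0 hq0

/-- **Pair Lemma.** -/
theorem pair_lemma (h : Loc M Q T x r) (h' : Loc M' Q' T x' r') (hQQ : Q ≠ Q') (hQT : Q ≠ T)
    (hQT' : Q' ≠ T)
    (hU2 : ∀ C : Subgroup G, C ≠ ⊥ → C ≤ T → (∀ m ∈ M, ∀ c ∈ C, m * c * m⁻¹ ∈ C) →
      (∀ m ∈ M', ∀ c ∈ C, m * c * m⁻¹ ∈ C) → False) : Nat.card Q = 4 ∨ Nat.card Q' = 4 := by
  by_cases hV' : omegaZ Q' ≤ Q
  swap
  · exact Or.inl (caseI h h' hV')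
  by_cases hV : omegaZ Q ≤ Q'
  swap
  · exact Or.inr (caseI h' h hV)
  exfalso
  by_cases hall : ∀ A : Subgroup G, A ≤ T → IsEA A →
      (∀ B : Subgroup G, B ≤ T → IsEA B → Nat.card B ≤ Nat.card A) → A ≤ Q ∧ A ≤ Q'
  · let 𝒜 : Set (Subgroup G) :=
      {A | A ≤ T ∧ IsEA A ∧ ∀ B : Subgroup G, B ≤ T → IsEA B → Nat.card B ≤ Nat.card A}
    have hJT : sSup 𝒜 ≤ T := sSup_le (fun A hA => hA.1)
    have hJ1 : sSup 𝒜 ≠ ⊥ := by
      obtain ⟨A, hAT, hAea, hAmax⟩ := exists_max_EA T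
      have hAJ : A ≤ sSup 𝒜 := le_sSup ⟨hAT, hAea, hAmax⟩
      intro hbot
      have hA1 : A = ⊥ := by rw [hbot] at hAJ; exact le_bot_iff.mp hAJ
      have := hAmax (omegaZ Q) h.V_le_T ⟨fun a ha b hb => hb.2.1 a ha.1, fun a ha => ha.2.2⟩
      rw [hA1, Subgroup.card_bot] at this
      exact h.V_ne_bot ((Subgroup.card_le_one_iff_eq_bot (omegaZ Q)).mp this)
    have hinv : ∀ (M0 Q0 : Subgroup G), Q0 ≤ T → (∀ m ∈ M0, ∀ q ∈ Q0, m * q * m⁻¹ ∈ Q0) →
        (∀ A ∈ 𝒜, A ≤ Q0) → ∀ m ∈ M0, ∀ c ∈ sSup 𝒜, m * c * m⁻¹ ∈ sSup 𝒜 := by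
      intro M0 Q0 hQ0T hQ0n hAQ0 m hm c hc
      have hle : sSup 𝒜 ≤ (sSup 𝒜).comap (MulAut.conj m).toMonoidHom := by
        apply sSup_le
        intro A hA
        rw [← Subgroup.map_le_iff_le_comap]
        apply le_sSup
        refine ⟨?_, ?_, ?_⟩
        · rintro _ ⟨a, ha, rfl⟩
          apply hQ0T
          exact hQ0n m hm a (hAQ0 A hA ha)
        · constructor
          · rintro _ ⟨a, ha, rfl⟩ _ ⟨b, hb, rfl⟩
            simp only [MulEquiv.coe_toMonoidHom, MulAut.conj_apply]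
            have := hA.2.1.1 a ha b hb
            calc m * a * m⁻¹ * (m * b * m⁻¹) = m * (a * b) * m⁻¹ := by group
              _ = m * (b * a) * m⁻¹ := by rw [this]
              _ = m * b * m⁻¹ * (m * a * m⁻¹) := by group
          · rintro _ ⟨a, ha, rfl⟩
            simp only [MulEquiv.coe_toMonoidHom, MulAut.conj_apply]
            have := hA.2.1.2 a ha
            rw [pow_two] at this ⊢
            calc m * a * m⁻¹ * (m * a * m⁻¹) = m * (a * a) * m⁻¹ := by group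
              _ = 1 := by rw [this]; group
        · intro B hBT hB
          have hcard : Nat.card (A.map (MulAut.conj m).toMonoidHom) = Nat.card A :=
            Nat.card_congr (A.equivMapOfInjective _ (MulAut.conj m).injective).toEquiv.symm
          rw [hcard]; exact hA.2.2 B hBT hB
      have := hle hc
      rw [Subgroup.mem_comap] at this
      simpa using this
    exact hU2 (sSup 𝒜) hJ1 hJT
      (hinv M Q h.QT h.Qn (fun A hA => (hall A hA.1 hA.2.1 hA.2.2).1))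
      (hinv M' Q' h'.QT h'.Qn (fun A hA => (hall A hA.1 hA.2.1 hA.2.2).2))
  · push Not at hall
    obtain ⟨A, hAT, hAea, hAmax, hne⟩ := hall
    by_cases hAQ' : A ≤ Q'
    · have hAQ : ¬ A ≤ Q := fun hq => hne hq hAQ'
      exact caseII_aux h' h hQQ.symm hQT' hV' hV A hAT hAea hAmax hAQ
    · exact caseII_aux h h' hQQ hQT hV hV' A hAT hAea hAmax hAQ'

end Cfsg.Agent.Lib.Helper3.CP
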