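import Mathlib
import Cfsg.Prelude.Def_Characters
import Cfsg.Prelude.Def_CharExt
import Cfsg.Agent.Lib.Helper6.EquivOfChar
import Cfsg.Agent.Lib.Helper6.Linear
import Cfsg.Agent.Lib.Helper6.Norm
import Cfsg.Agent.Lib.Helper6.Mult
import Cfsg.Agent.Lib.Helper6.FiniteOrder
import Cfsg.Agent.Lib.Helper6.Clifford

set_option autoImplicit false

namespace Cfsg.Agent.Lib.Helper3.DetChar

open Cfsg.Agent.Lib.Helper6 Module

universe u v

variable {G : Type u} [Group G]

/-- Equivalent representations have the same determinants. -/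
theorem det_eq_of_equiv {V : Type*} {W : Type*} [AddCommGroup V] [Module ℂ V]
    [AddCommGroup W] [Module ℂ W]
    (ρ : Representation ℂ G V) (σ : Representation ℂ G W) (φ : ρ.Equiv σ) (g : G) :
    LinearMap.det (ρ g) = LinearMap.det (σ g) := by
  have h : σ g = φ.toLinearEquiv.toLinearMap ∘ₗ ρ g ∘ₗ φ.toLinearEquiv.symm.toLinearMap := by
    have h1 := φ.isIntertwining' g
    ext w
    have h2 := LinearMap.congr_fun h1 (φ.toLinearEquiv.symm w)
    simp only [LinearMap.comp_apply] at h2 ⊢
    have h3 : (φ.toIntertwiningMap.toLinearMap) (φ.toLinearEquiv.symm w) = w :=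
      φ.toLinearEquiv.apply_symm_apply w
    rw [h3] at h2
    exact h2.symm
  rw [h]
  exact (LinearMap.det_conj (ρ g) φ.toLinearEquiv).symm

/-- The determinantal character of the character of `ρ` is `g ↦ det (ρ g)`. -/
theorem detChar_character [Finite G] {V : Type v} [AddCommGroup V] [Module ℂ V]
    [FiniteDimensional ℂ V] (ρ : Representation ℂ G V) :
    Cfsg.detChar ρ.character = fun g => LinearMap.det (ρ g) := by
  classical
  have : Fintype G := Fintype.ofFinite G
  have hχ : Cfsg.IsCharacter G ρ.character := isCharacter_character ρ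
  unfold Cfsg.detChar
  rw [dif_pos hχ]
  funext g
  have hspec := Classical.choose_spec (Classical.choose_spec hχ)
  obtain ⟨φ⟩ := equiv_of_character_eq _ ρ hspec
  exact det_eq_of_equiv _ ρ φ g

/-- The determinant homomorphism of a representation. -/
noncomputable def detHom {V : Type v} [AddCommGroup V] [Module ℂ V]
    (ρ : Representation ℂ G V) : G →* ℂˣ :=
  MonoidHom.toHomUnits ((LinearMap.det : Module.End ℂ V →* ℂ).comp ρ)

theorem detHom_apply {V : Type v} [AddCommGroup V] [Module ℂ V]
    (ρ : Representation ℂ G V) (g : G) : ((detHom ρ g : ℂˣ) : ℂ) = LinearMap.det (ρ g) := rfl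

/-- The determinantal character of a character, as a homomorphism. -/
theorem exists_hom_eq_detChar [Finite G] {χ : G → ℂ} (hχ : Cfsg.IsCharacter G χ) :
    ∃ f : G →* ℂˣ, Cfsg.detChar χ = fun g => ((f g : ℂˣ) : ℂ) := by
  obtain ⟨n, ρ, rfl⟩ := hχ
  exact ⟨detHom ρ, detChar_character ρ⟩

/-- The determinantal character of a character is an irreducible character (of degree `1`). -/
theorem isIrrCharacter_detChar [Finite G] {χ : G → ℂ} (hχ : Cfsg.IsCharacter G χ) :
    Cfsg.IsIrrCharacter G (Cfsg.detChar χ) := by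
  obtain ⟨f, hf⟩ := exists_hom_eq_detChar hχ
  rw [hf]
  exact isIrrCharacter_of_hom f

theorem detChar_apply_one [Finite G] {χ : G → ℂ} (hχ : Cfsg.IsCharacter G χ) :
    Cfsg.detChar χ 1 = 1 := by
  obtain ⟨f, hf⟩ := exists_hom_eq_detChar hχ
  rw [hf]
  simp

theorem detChar_mul_apply [Finite G] {χ : G → ℂ} (hχ : Cfsg.IsCharacter G χ) (g h : G) :
    Cfsg.detChar χ (g * h) = Cfsg.detChar χ g * Cfsg.detChar χ h := by
  obtain ⟨f, hf⟩ := exists_hom_eq_detChar hχ
  rw [hf]
  simp

/-- Determinantal characters commute with composition by homomorphisms (e.g. restriction). -/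
theorem detChar_comp [Finite G] {K : Type u} [Group K] [Finite K] (φ : K →* G) {χ : G → ℂ}
    (hχ : Cfsg.IsCharacter G χ) :
    Cfsg.detChar (fun k => χ (φ k)) = fun k => Cfsg.detChar χ (φ k) := by
  obtain ⟨n, ρ, rfl⟩ := hχ
  have h1 : (fun k => ρ.character (φ k)) = (Representation.character (ρ.comp φ : Representation ℂ K (Fin n → ℂ))) := rfl
  rw [h1, detChar_character, detChar_character]
  rfl

/-- The twist of a representation by a homomorphism into the units of the field. -/
noncomputable def twist {V : Type v} [AddCommGroup V] [Module ℂ V] (f : G →* ℂˣ)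
    (ρ : Representation ℂ G V) : Representation ℂ G V where
  toFun g := ((f g : ℂˣ) : ℂ) • ρ g
  map_one' := by simp
  map_mul' g h := by
    rw [map_mul, map_mul, Units.val_mul, smul_mul_smul_comm]

theorem twist_character {V : Type v} [AddCommGroup V] [Module ℂ V] (f : G →* ℂˣ)
    (ρ : Representation ℂ G V) (g : G) :
    (twist f ρ).character g = ((f g : ℂˣ) : ℂ) * ρ.character g := by
  change LinearMap.trace ℂ V (((f g : ℂˣ) : ℂ) • ρ g) = _
  rw [map_smul]
  rfl

/-- The determinantal character of a product with a linear character. -/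
theorem detChar_mul_hom [Finite G] (f : G →* ℂˣ) {χ : G → ℂ} (hχ : Cfsg.IsCharacter G χ) :
    Cfsg.detChar (fun g => ((f g : ℂˣ) : ℂ) * χ g) =
      fun g => ((f g : ℂˣ) : ℂ) ^ Cfsg.charDegree χ * Cfsg.detChar χ g := by
  have hdeg := IsCharacter.apply_one_eq_charDegree hχ
  obtain ⟨n, ρ, rfl⟩ := hχ
  have hn : Cfsg.charDegree ρ.character = n := by
    have h2 : ρ.character 1 = (n : ℂ) := by simp
    rw [h2] at hdeg
    exact_mod_cast hdeg.symm
  have h1 : (fun g => ((f g : ℂˣ) : ℂ) * ρ.character g) = (twist f ρ).character := by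
    funext g
    rw [twist_character]
  rw [h1, detChar_character, detChar_character, hn]
  funext g
  change LinearMap.det (((f g : ℂˣ) : ℂ) • ρ g) = _
  rw [LinearMap.det_smul]
  simp

/-- Values of a homomorphism from a finite group to `ℂˣ` have absolute value `1`. -/
theorem norm_hom_eq_one [Finite G] (f : G →* ℂˣ) (g : G) : ‖((f g : ℂˣ) : ℂ)‖ = 1 := by
  apply norm_eq_one_of_pow_eq_one (m := Nat.card G) Nat.card_pos
  rw [← Units.val_pow_eq_pow_val, ← map_pow, pow_card_eq_one', map_one, Units.val_one]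

/-- The product of an irreducible character with a linear character is irreducible. -/
theorem isIrrCharacter_hom_mul [Finite G] (f : G →* ℂˣ) {η : G → ℂ}
    (hη : Cfsg.IsIrrCharacter G η) : Cfsg.IsIrrCharacter G (fun g => ((f g : ℂˣ) : ℂ) * η g) := by
  classical
  have : Fintype G := Fintype.ofFinite G
  have hchar : Cfsg.IsCharacter G (fun g => ((f g : ℂˣ) : ℂ) * η g) :=
    IsCharacter.mul (IsIrrCharacter.isCharacter (isIrrCharacter_of_hom f))
      (IsIrrCharacter.isCharacter hη)
  apply isIrrCharacter_of_classInner_self_eq_one hchar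
  have h1 := classInner_isIrrCharacter hη hη
  rw [if_pos rfl] at h1
  rw [← h1]
  unfold Cfsg.classInner
  congr 1
  refine Finset.sum_congr rfl fun g _ => ?_
  rw [map_mul]
  have h2 : ((f g : ℂˣ) : ℂ) * (starRingEnd ℂ) ((f g : ℂˣ) : ℂ) = 1 := by
    rw [Complex.mul_conj, Complex.normSq_eq_norm_sq, norm_hom_eq_one]
    simp
  calc ((f g : ℂˣ) : ℂ) * η g * ((starRingEnd ℂ) ((f g : ℂˣ) : ℂ) * (starRingEnd ℂ) (η g))
      = (((f g : ℂˣ) : ℂ) * (starRingEnd ℂ) ((f g : ℂˣ) : ℂ)) * (η g * (starRingEnd ℂ) (η g)) := by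
        ring
    _ = η g * (starRingEnd ℂ) (η g) := by rw [h2, one_mul]

/-- The determinantal character of a linear character is the character itself. -/
theorem detChar_hom [Finite G] (f : G →* ℂˣ) :
    Cfsg.detChar (fun g => ((f g : ℂˣ) : ℂ)) = fun g => ((f g : ℂˣ) : ℂ) := by
  have h1 := detChar_mul_hom f (χ := fun _ => (1 : ℂ)) (IsIrrCharacter.isCharacter isIrrCharacter_one)
  have h2 : Cfsg.charDegree (fun _ : G => (1 : ℂ)) = 1 := by
    unfold Cfsg.charDegree
    simp
  have h3 : Cfsg.detChar (fun _ : G => (1 : ℂ)) = fun _ => 1 := by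
    have : (fun _ : G => (1 : ℂ)) = (Representation.trivial ℂ G ℂ).character := by
      funext g
      change (1 : ℂ) = LinearMap.trace ℂ ℂ (LinearMap.id)
      simp
    have h4 : Cfsg.detChar (Representation.trivial ℂ G ℂ).character = fun _ => 1 := by
      rw [detChar_character]
      funext g
      change LinearMap.det (LinearMap.id : ℂ →ₗ[ℂ] ℂ) = 1
      simp
    rw [← this] at h4
    exact h4
  simp only [mul_one, h2, pow_one, h3] at h1
  exact h1

/-- Determinantal characters commute with conjugation. -/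
theorem detChar_conjFun [Finite G] (N : Subgroup G) [hN : N.Normal] {θ : N → ℂ}
    (hθ : Cfsg.IsCharacter N θ) (g : G) :
    Cfsg.detChar (conjFun N hN θ g) = conjFun N hN (Cfsg.detChar θ) g := by
  rw [conjFun_eq_comp, conjFun_eq_comp]
  exact detChar_comp (MulAut.conjNormal g : N ≃* N).toMonoidHom hθ

end Cfsg.Agent.Lib.Helper3.DetChar
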