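import Mathlib
import Cfsg.Prelude.Def_Characters
import Cfsg.Agent.Lib.Helper6.Linear
import Cfsg.Agent.Lib.Helper6.Mult

set_option autoImplicit false

namespace Cfsg.Agent.Lib.Helper3.LinExt

open Subgroup Subgroup.leftTransversals MonoidHom Cfsg.Agent.Lib.Helper6

open scoped Pointwise

/-- Homomorphisms to `ℂˣ` as complex valued functions, as a monoid homomorphism. -/
def coeHom (K : Type*) [Group K] : (K →* ℂˣ) →* (K → ℂ) where
  toFun f := fun k => ((f k : ℂˣ) : ℂ)
  map_one' := by
    funext k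
    simp
  map_mul' f g := by
    funext k
    simp

theorem coeHom_apply {K : Type*} [Group K] (f : K →* ℂˣ) (k : K) :
    coeHom K f k = ((f k : ℂˣ) : ℂ) := rfl

theorem coeHom_injective (K : Type*) [Group K] : Function.Injective (coeHom K) := by
  intro f g h
  ext k
  exact congrFun h k

theorem orderOf_coeHom {K : Type*} [Group K] (f : K →* ℂˣ) : orderOf (coeHom K f) = orderOf f :=
  orderOf_injective (coeHom K) (coeHom_injective K) f

/-- A linear character is the function attached to its homomorphism. -/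
theorem eq_coeHom_linearCharHom {K : Type*} [Group K] {χ : K → ℂ} (hχ : Cfsg.IsCharacter K χ)
    (h1 : χ 1 = 1) : χ = coeHom K (linearCharHom hχ h1) := rfl

theorem isCharacter_coeHom {K : Type*} [Group K] (f : K →* ℂˣ) :
    Cfsg.IsCharacter K (coeHom K f) ∧ coeHom K f 1 = 1 := by
  refine ⟨IsIrrCharacter.isCharacter (isIrrCharacter_of_hom f), ?_⟩
  simp [coeHom_apply]

/-- The transfer of an invariant homomorphism of a normal subgroup restricts to its
`index`-th power. -/
theorem transfer_apply_of_normal {G : Type*} [Group G] {A : Type*} [CommGroup A]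
    (N : Subgroup G) [hN : N.Normal] [N.FiniteIndex] (f : N →* A)
    (hinv : ∀ (g : G) (n : N), f ⟨g⁻¹ * n * g, by
      have := hN.conj_mem (n : G) n.2 g⁻¹
      rwa [inv_inv] at this⟩ = f n) (n : N) :
    transfer f (n : G) = f n ^ N.index := by
  classical
  let T0 : N.LeftTransversal := default
  rw [transfer_def f T0]
  unfold diff
  simp only
  let _ := N.fintypeQuotientOfFiniteIndex
  have hfix : ∀ q : G ⧸ N, ((n : G)⁻¹ • q) = q := by
    intro q
    induction q using QuotientGroup.induction_on with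
    | H x =>
      change ((((n : G)⁻¹ * x : G)) : G ⧸ N) = (x : G ⧸ N)
      rw [QuotientGroup.eq]
      have h1 : ((n : G)⁻¹ * x)⁻¹ * x = x⁻¹ * n * x := by group
      rw [h1]
      have := hN.conj_mem (n : G) n.2 x⁻¹
      rwa [inv_inv] at this
  have hterm : ∀ q : G ⧸ N, f ⟨((T0.2.leftQuotientEquiv q : G))⁻¹ *
      (((n : G) • T0).2.leftQuotientEquiv q : G), QuotientGroup.leftRel_apply.mp <|
          Quotient.exact' ((T0.2.leftQuotientEquiv.symm_apply_apply q).trans
            ((((n : G) • T0).2.leftQuotientEquiv).symm_apply_apply q).symm)⟩ = f n := by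
    intro q
    rw [← hinv (T0.2.leftQuotientEquiv q : G) n]
    congr 1
    apply Subtype.ext
    simp only
    rw [smul_apply_eq_smul_apply_inv_smul, hfix q, smul_eq_mul, mul_assoc]
  rw [Finset.prod_congr rfl (fun q _ => hterm q), Finset.prod_const, Finset.card_univ,
    Subgroup.index_eq_card, Nat.card_eq_fintype_card]

/-- An element of a monoid killed by two coprime exponents is `1`. -/
theorem eq_one_of_pow_eq_one_of_coprime' {M : Type*} [Monoid M] {z : M} {d m : ℕ}
    (hdm : Nat.Coprime m d) (hd : z ^ d = 1) (hm : z ^ m = 1) : z = 1 := by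
  have h1 := orderOf_dvd_of_pow_eq_one hd
  have h2 := orderOf_dvd_of_pow_eq_one hm
  have h3 : orderOf z ∣ 1 := by
    have := Nat.dvd_gcd h2 h1
    rwa [hdm] at this
  exact orderOf_eq_one_iff.mp (Nat.dvd_one.mp h3)

/-- **Coprime extension of invariant linear characters** (homomorphism form). -/
theorem exists_hom_extension {G : Type*} [Group G] [Finite G] (N : Subgroup G) [hN : N.Normal]
    (f : N →* ℂˣ)
    (hinv : ∀ (g : G) (n : N), f ⟨g * n * g⁻¹, hN.conj_mem (n : G) n.2 g⟩ = f n)
    (hcop : Nat.Coprime N.index (orderOf f)) :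
    ∃ μ : G →* ℂˣ, (∀ n : N, μ n = f n) ∧ orderOf μ = orderOf f ∧
      ∀ μ' : G →* ℂˣ, (∀ n : N, μ' n = f n) → Nat.Coprime N.index (orderOf μ') → μ' = μ := by
  classical
  set m := N.index with hm
  set n0 := orderOf f with hn0
  have hfn0 : ∀ n : N, f n ^ n0 = 1 := by
    intro n
    have : f ^ n0 = 1 := pow_orderOf_eq_one f
    have h2 := DFunLike.congr_fun this n
    simpa using h2
  have hpowN : ∀ g : G, g ^ m ∈ N := fun g => N.pow_index_mem g
  have hinv' : ∀ (g : G) (n : N), f ⟨g⁻¹ * n * g, by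
      have := hN.conj_mem (n : G) n.2 g⁻¹
      rwa [inv_inv] at this⟩ = f n := by
    intro g n
    have := hinv g⁻¹ n
    simp only [inv_inv] at this
    exact this
  set T : G →* ℂˣ := transfer f with hT
  have hTN : ∀ n : N, T n = f n ^ m := fun n => transfer_apply_of_normal N f hinv' n
  -- Bezout
  obtain ⟨a, b, hab⟩ : ∃ a b : ℤ, a * (m : ℤ) ^ 2 + b * n0 = 1 := by
    have hc : Nat.Coprime (m ^ 2) n0 := Nat.Coprime.pow_left 2 hcop
    have := Int.gcd_eq_gcd_ab ((m ^ 2 : ℕ) : ℤ) (n0 : ℤ)
    have hg : Int.gcd ((m ^ 2 : ℕ) : ℤ) (n0 : ℤ) = 1 := by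
      rw [Int.gcd_natCast_natCast]
      exact hc
    rw [hg] at this
    refine ⟨Int.gcdA ((m ^ 2 : ℕ) : ℤ) n0, Int.gcdB ((m ^ 2 : ℕ) : ℤ) n0, ?_⟩
    push_cast at this ⊢
    linarith
  set μ : G →* ℂˣ := (zpowGroupHom (a * m)).comp T with hμ
  have hμapply : ∀ g, μ g = T g ^ (a * m) := fun g => rfl
  have hμN : ∀ n : N, μ n = f n := by
    intro n
    rw [hμapply, hTN, ← zpow_natCast, ← zpow_mul]
    have h1 : (m : ℤ) * (a * m) = 1 - (n0 : ℤ) * b := by nlinarith
    rw [h1, zpow_sub, zpow_one, zpow_mul, zpow_natCast, hfn0]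
    simp
  have hTpow : ∀ g : G, T g ^ (n0 * m) = 1 := by
    intro g
    rw [mul_comm, pow_mul, ← map_pow]
    have := hTN ⟨g ^ m, hpowN g⟩
    simp only at this
    rw [this, ← pow_mul, mul_comm, pow_mul, hfn0, one_pow]
  have hμn0 : μ ^ n0 = 1 := by
    ext g
    simp only [MonoidHom.pow_apply, MonoidHom.one_apply, Units.val_one]
    rw [hμapply, ← zpow_natCast, ← zpow_mul]
    have h1 : a * (m : ℤ) * (n0 : ℤ) = ((n0 * m : ℕ) : ℤ) * a := by push_cast; ring
    rw [h1, zpow_mul, zpow_natCast, hTpow]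
    simp
  have hord : orderOf μ = n0 := by
    apply Nat.dvd_antisymm (orderOf_dvd_of_pow_eq_one hμn0)
    rw [hn0]
    apply orderOf_dvd_of_pow_eq_one
    ext n
    have h2 : μ ^ orderOf μ = 1 := pow_orderOf_eq_one μ
    have h3 := DFunLike.congr_fun h2 (n : G)
    simp only [MonoidHom.pow_apply, MonoidHom.one_apply] at h3 ⊢
    rw [← hμN n, h3]
  refine ⟨μ, hμN, hord, ?_⟩
  intro μ' hμ'N hcop'
  ext g
  have hδN : ∀ n : N, (μ' n / μ n) = 1 := by
    intro n
    rw [hμ'N, hμN, div_self']
  have h1 : (μ' g / μ g) ^ m = 1 := by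
    rw [div_pow, ← map_pow, ← map_pow]
    exact hδN ⟨g ^ m, hpowN g⟩
  have h2 : (μ' g / μ g) ^ (orderOf μ' * n0) = 1 := by
    have e1 : μ' g ^ orderOf μ' = 1 := by
      have := DFunLike.congr_fun (pow_orderOf_eq_one μ') g
      rwa [MonoidHom.pow_apply, MonoidHom.one_apply] at this
    have e2 : μ g ^ n0 = 1 := by
      have := DFunLike.congr_fun hμn0 g
      rwa [MonoidHom.pow_apply, MonoidHom.one_apply] at this
    rw [div_pow, pow_mul (μ' g), e1, one_pow, mul_comm, pow_mul (μ g), e2, one_pow, div_one]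
  have hc : Nat.Coprime m (orderOf μ' * n0) := Nat.Coprime.mul_right hcop' hcop
  have := eq_one_of_pow_eq_one_of_coprime' hc h2 h1
  rw [div_eq_one] at this
  rw [this]

/-- The transfer from an intermediate subgroup `H ≥ N` of a homomorphism whose restriction to
the normal subgroup `N` is `G`-invariant restricts on `N` to the `H.index`-th power. -/
theorem transfer_apply_of_normal_le {G : Type*} [Group G] {A : Type*} [CommGroup A]
    (N H : Subgroup G) [hN : N.Normal] (hNH : N ≤ H) [H.FiniteIndex] (f : H →* A)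
    (hinv : ∀ (g : G) (n : G) (hn : n ∈ N), f ⟨g⁻¹ * n * g, hNH (by
      have := hN.conj_mem n hn g⁻¹
      rwa [inv_inv] at this)⟩ = f ⟨n, hNH hn⟩) (n : G) (hn : n ∈ N) :
    transfer f n = f ⟨n, hNH hn⟩ ^ H.index := by
  classical
  let T0 : H.LeftTransversal := default
  rw [transfer_def f T0]
  unfold diff
  simp only
  let _ := H.fintypeQuotientOfFiniteIndex
  have hfix : ∀ q : G ⧸ H, (n⁻¹ • q) = q := by
    intro q
    induction q using QuotientGroup.induction_on with
    | H x =>
      change (((n⁻¹ * x : G)) : G ⧸ H) = (x : G ⧸ H)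
      rw [QuotientGroup.eq]
      have h1 : (n⁻¹ * x)⁻¹ * x = x⁻¹ * n * x := by group
      rw [h1]
      apply hNH
      have := hN.conj_mem n hn x⁻¹
      rwa [inv_inv] at this
  have hterm : ∀ q : G ⧸ H, f ⟨((T0.2.leftQuotientEquiv q : G))⁻¹ *
      ((n • T0).2.leftQuotientEquiv q : G), QuotientGroup.leftRel_apply.mp <|
          Quotient.exact' ((T0.2.leftQuotientEquiv.symm_apply_apply q).trans
            (((n • T0).2.leftQuotientEquiv).symm_apply_apply q).symm)⟩ = f ⟨n, hNH hn⟩ := by
    intro q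
    rw [← hinv (T0.2.leftQuotientEquiv q : G) n hn]
    congr 1
    apply Subtype.ext
    simp only
    rw [smul_apply_eq_smul_apply_inv_smul, hfix q, smul_eq_mul, mul_assoc]
  rw [Finset.prod_congr rfl (fun q _ => hterm q), Finset.prod_const, Finset.card_univ,
    Subgroup.index_eq_card, Nat.card_eq_fintype_card]

end Cfsg.Agent.Lib.Helper3.LinExt
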