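import Mathlib
import Cfsg.Agent.Lib.Helper7.IndexPSections

set_option autoImplicit false

namespace Cfsg.Agent.Lib.Helper3.SolvIndex

open Cfsg.Agent.Lib.Helper7

universe u

/-- A nontrivial finite solvable group has a normal subgroup of prime index. -/
theorem exists_normal_index_prime_of_solvable {Q : Type u} [Group Q] [Finite Q]
    [Group.IsSolvable Q] [Nontrivial Q] :
    ∃ (p : ℕ) (M : Subgroup Q), p.Prime ∧ M.Normal ∧ M.index = p := by
  have hlt := Group.IsSolvable.commutator_lt_top_of_nontrivial Q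
  have hidx : (commutator Q).index ≠ 1 := by
    intro h
    exact hlt.ne (Subgroup.index_eq_one.mp h)
  obtain ⟨p, hp, hpdvd⟩ := Nat.exists_prime_and_dvd hidx
  have : Fact p.Prime := ⟨hp⟩
  obtain ⟨S⟩ : Nonempty (Sylow p Q) := inferInstance
  have hS : ¬ (S : Subgroup Q) ≤ commutator Q := by
    intro hle
    have h1 : (commutator Q).index ∣ (S : Subgroup Q).index := Subgroup.index_dvd_of_le hle
    have h2 : ¬ p ∣ (S : Subgroup Q).index := S.not_dvd_index
    exact h2 (hpdvd.trans h1)
  obtain ⟨M, hM, hMidx⟩ :=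
    exists_normal_index_prime_of_not_le_commutator (S : Subgroup Q) S.isPGroup' hS
  exact ⟨p, M, hp, hM, hMidx⟩

/-- If `N ⊴ G` is proper with solvable quotient there is a normal subgroup of prime index
containing `N`. -/
theorem exists_normal_index_prime_ge {G : Type u} [Group G] [Finite G] (N : Subgroup G)
    [N.Normal] (hsolv : Group.IsSolvable (G ⧸ N)) (hN : N ≠ ⊤) :
    ∃ (p : ℕ) (M : Subgroup G), p.Prime ∧ M.Normal ∧ M.index = p ∧ N ≤ M := by
  have : Nontrivial (G ⧸ N) := by
    rw [← Finite.one_lt_card_iff_nontrivial, ← Subgroup.index_eq_card]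
    have h1 : N.index ≠ 1 := fun h => hN (Subgroup.index_eq_one.mp h)
    have h0 : N.index ≠ 0 := Subgroup.index_ne_zero_of_finite
    omega
  obtain ⟨p, K, hp, hK, hKidx⟩ := exists_normal_index_prime_of_solvable (Q := G ⧸ N)
  refine ⟨p, K.comap (QuotientGroup.mk' N), hp, hK.comap _, ?_, ?_⟩
  · rw [Subgroup.index_comap_of_surjective _ (QuotientGroup.mk'_surjective N), hKidx]
  · intro n hn
    rw [Subgroup.mem_comap]
    have : (QuotientGroup.mk' N) n = 1 := (QuotientGroup.eq_one_iff n).mpr hn
    rw [this]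
    exact K.one_mem

end Cfsg.Agent.Lib.Helper3.SolvIndex
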