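import Mathlib
import Cfsg.Prelude.Def_Characters
import Cfsg.Prelude.Def_CharExt
import Cfsg.Agent.Lib.Helper3.DetChar
import Cfsg.Agent.S0862
import Cfsg.Agent.S0863
import Cfsg.Agent.S0865

set_option autoImplicit false

namespace Cfsg.Agent.Lib.Helper3.CanonExt

open Cfsg.Agent.Lib.Helper3.DetChar Cfsg.Agent.Lib.Helper6

universe u

/-- The determinantal character of an invariant character is invariant. -/
theorem detChar_invariant {G : Type u} [Group G] [Finite G] (N : Subgroup G) [hN : N.Normal]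
    {ϑ : N → ℂ} (hϑ : Cfsg.IsCharacter N ϑ)
    (hinv : ∀ (g : G) (n : N), ϑ ⟨g * n * g⁻¹, hN.conj_mem (n : G) n.2 g⟩ = ϑ n)
    (g : G) (n : N) :
    Cfsg.detChar ϑ ⟨g * n * g⁻¹, hN.conj_mem (n : G) n.2 g⟩ = Cfsg.detChar ϑ n := by
  have h1 := detChar_conjFun N hϑ g
  have h2 : conjFun N hN ϑ g = ϑ := funext fun n => hinv g n
  rw [h2] at h1
  exact (congrFun h1 n).symm

/-- **Canonical extension, solvable quotient** (Isaacs 6.28): an invariant irreducible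
character `ϑ` of `N ⊴ G` with `G/N` solvable and `(|G:N|, o(ϑ)ϑ(1)) = 1` has a unique extension
`χ` with `(|G:N|, o(χ)) = 1`; moreover `o(χ) = o(ϑ)`. -/
theorem exists_unique_extension_of_coprime_solvable {G : Type u} [Group G] [Finite G]
    (N : Subgroup G) [hN : N.Normal] (hsolv : Group.IsSolvable (G ⧸ N)) (ϑ : N → ℂ)
    (hϑ : Cfsg.IsIrrCharacter N ϑ)
    (hinv : ∀ (g : G) (n : N), ϑ ⟨g * n * g⁻¹, hN.conj_mem (n : G) n.2 g⟩ = ϑ n)
    (d : ℕ) (hd : ϑ 1 = d) (hcop : Nat.Coprime N.index (Cfsg.detOrder ϑ * d)) :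
    ∃ χ : G → ℂ, (Cfsg.IsIrrCharacter G χ ∧ (∀ n : N, χ n = ϑ n) ∧
      Cfsg.detOrder χ = Cfsg.detOrder ϑ) ∧
      ∀ χ' : G → ℂ, Cfsg.IsIrrCharacter G χ' → (∀ n : N, χ' n = ϑ n) →
        Nat.Coprime N.index (Cfsg.detOrder χ') → χ' = χ := by
  have hϑchar := IsIrrCharacter.isCharacter hϑ
  have hcop1 : Nat.Coprime N.index (Cfsg.detOrder ϑ) := Nat.Coprime.coprime_mul_right_right hcop
  have hcop2 : Nat.Coprime N.index d := Nat.Coprime.coprime_mul_left_right hcop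
  set lam := Cfsg.detChar ϑ with hlam
  have hlamchar : Cfsg.IsCharacter N lam ∧ lam 1 = 1 :=
    ⟨IsIrrCharacter.isCharacter (isIrrCharacter_detChar hϑchar), detChar_apply_one hϑchar⟩
  obtain ⟨μ, ⟨hμchar, hμ1, hμN, hμord⟩, hμuniq⟩ := Cfsg.Agent.S0865.result' N lam hlamchar
    (detChar_invariant N hϑchar hinv) hcop1
  obtain ⟨χ0, hχ0, hχ0N⟩ := Cfsg.Agent.S0863.exists_extension_aux _ G N rfl hsolv ϑ hϑ hinv d hd
    hcop2 μ hμchar hμ1 hμN
  obtain ⟨χ, ⟨hχ, hχN, hχdet⟩, hχuniq⟩ := Cfsg.Agent.S0862.result' N ϑ hϑ d hd hcop2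
    ⟨χ0, hχ0, hχ0N⟩ μ ⟨hμchar, hμ1⟩ hμN
  refine ⟨χ, ⟨hχ, hχN, ?_⟩, ?_⟩
  · unfold Cfsg.detOrder
    rw [hχdet, hμord]
  · intro χ' hχ' hχ'N hcop'
    apply hχuniq
    refine ⟨hχ', hχ'N, ?_⟩
    have hχ'char := IsIrrCharacter.isCharacter hχ'
    apply hμuniq (Cfsg.detChar χ')
      ⟨IsIrrCharacter.isCharacter (isIrrCharacter_detChar hχ'char), detChar_apply_one hχ'char⟩
    · intro n
      have h1 := detChar_comp N.subtype hχ'char
      have h2 : (fun k : N => χ' (N.subtype k)) = ϑ := funext hχ'N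
      rw [h2] at h1
      exact (congrFun h1 n).symm
    · exact hcop'

end Cfsg.Agent.Lib.Helper3.CanonExt
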