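import Mathlib
import Cfsg.Prelude.Def_Characters
import Cfsg.Prelude.Def_CharExt
import Cfsg.Agent.Lib.Helper3.DetChar
import Cfsg.Agent.Lib.Helper6.CliffordCorr
import Cfsg.Agent.Lib.Helper6.BrauerGlobal
import Cfsg.Agent.Lib.Helper6.Auto
import Cfsg.Agent.Lib.Helper6.GaloisConj
import Cfsg.Agent.S0862
import Cfsg.Agent.S0863
import Cfsg.Agent.S0868

set_option autoImplicit false

namespace Cfsg.Agent.Lib.Helper3.GlueExt

open Cfsg.Agent.Lib.Helper3.DetChar Cfsg.Agent.Lib.Helper6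

open scoped Pointwise

universe u

/-- A nonzero character has norm a positive natural number. -/
theorem exists_norm_eq_succ {K : Type*} [Group K] [Fintype K] {A : K → ℂ}
    (hA : Cfsg.IsCharacter K A) (h0 : A ≠ 0) : ∃ n : ℕ, Cfsg.classInner A A = (n + 1 : ℕ) := by
  obtain ⟨n, hn⟩ := IsCharacter.classInner_nat hA hA
  rcases n with _ | n
  · exfalso
    apply h0
    apply eq_zero_of_classInner_self_eq_zero
    rw [hn]; simp
  · exact ⟨n, hn⟩

/-- A character whose pull-back along a homomorphism is irreducible is irreducible. -/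
theorem isIrrCharacter_of_comp_irr {K L : Type*} [Group K] [Finite K] [Group L] [Finite L]
    (f : L →* K) {ψ : K → ℂ} (hψ : Cfsg.IsCharacter K ψ)
    (h : Cfsg.IsIrrCharacter L (fun x => ψ (f x))) : Cfsg.IsIrrCharacter K ψ := by
  classical
  have : Fintype K := Fintype.ofFinite K
  have : Fintype L := Fintype.ofFinite L
  have hψ1 : ψ 1 ≠ 0 := by
    have := IsIrrCharacter.apply_one_ne_zero h
    simpa using this
  obtain ⟨χ, hχ⟩ := IsCharacter.exists_constituent hψ hψ1
  obtain ⟨B, hB, hAB⟩ := IsCharacter.exists_eq_add_of_constituent hψ χ.2 hχ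
  by_cases hB0 : B = 0
  · rw [hAB, hB0, add_zero]
    exact χ.2
  exfalso
  have hχf : Cfsg.IsCharacter L (fun x => (χ : K → ℂ) (f x)) :=
    IsCharacter.comp f (IsIrrCharacter.isCharacter χ.2)
  have hBf : Cfsg.IsCharacter L (fun x => B (f x)) := IsCharacter.comp f hB
  have hχf0 : (fun x => (χ : K → ℂ) (f x)) ≠ 0 := by
    intro h0
    have := congrFun h0 1
    simp only [map_one, Pi.zero_apply] at this
    exact IsIrrCharacter.apply_one_ne_zero χ.2 this
  have hBf0 : (fun x => B (f x)) ≠ 0 := by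
    intro h0
    have h1 := congrFun h0 1
    simp only [map_one, Pi.zero_apply] at h1
    exact hB0 (IsCharacter.eq_zero_of_apply_one_eq_zero hB h1)
  obtain ⟨a, ha⟩ := exists_norm_eq_succ hχf hχf0
  obtain ⟨b, hb⟩ := exists_norm_eq_succ hBf hBf0
  obtain ⟨c, hc⟩ := IsCharacter.classInner_nat hχf hBf
  obtain ⟨c', hc'⟩ := IsCharacter.classInner_nat hBf hχf
  have hsum : (fun x => ψ (f x)) = (fun x => (χ : K → ℂ) (f x)) + fun x => B (f x) := by
    funext x
    rw [hAB]
    rfl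
  have h1 := classInner_isIrrCharacter h h
  rw [if_pos rfl, hsum, classInner_add_left, classInner_add_right, classInner_add_right, ha, hb,
    hc, hc'] at h1
  have h2 : (a + 1 + c + (c' + (b + 1)) : ℕ) = 1 := by exact_mod_cast h1
  omega

section glue

variable {G : Type u} [Group G]

/-- If `K` is a solvable subgroup, `(N ⊔ K)/N` is solvable. -/
theorem isSolvable_quotient_sup (N : Subgroup G) [hN : N.Normal] (K : Subgroup G)
    [hK : Group.IsSolvable K] :
    Group.IsSolvable (↥(N ⊔ K) ⧸ N.subgroupOf (N ⊔ K)) := by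
  have hNn : (N.subgroupOf (N ⊔ K)).Normal := hN.subgroupOf _
  let f : K →* ↥(N ⊔ K) ⧸ N.subgroupOf (N ⊔ K) :=
    (QuotientGroup.mk' (N.subgroupOf (N ⊔ K))).comp (Subgroup.inclusion le_sup_right)
  have hf : Function.Surjective f := by
    intro q
    obtain ⟨⟨x, hx⟩, rfl⟩ := QuotientGroup.mk_surjective q
    have hx' : x ∈ (N : Set G) * (K : Set G) := by
      rw [← Subgroup.normal_mul]
      exact hx
    obtain ⟨n, hn, k, hk, rfl⟩ := Set.mem_mul.mp hx'
    refine ⟨⟨k, hk⟩, ?_⟩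
    change (QuotientGroup.mk (⟨k, _⟩ : ↥(N ⊔ K)) : _ ⧸ N.subgroupOf (N ⊔ K)) =
      QuotientGroup.mk ⟨n * k, hx⟩
    rw [QuotientGroup.eq, Subgroup.mem_subgroupOf]
    simp only [Subgroup.coe_mul, Subgroup.coe_inv]
    have : k⁻¹ * (n * k) = k⁻¹ * n * k := by group
    rw [this]
    have := hN.conj_mem n hn k⁻¹
    rwa [inv_inv] at this
  exact Group.isSolvable_of_surjective hf

/-- The standing hypotheses of Gallagher's extension theorem. -/
structure Data (N : Subgroup G) (hN : N.Normal) (ϑ : N → ℂ) (d : ℕ) (μ : G → ℂ) : Prop where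
  irr : Cfsg.IsIrrCharacter N ϑ
  inv : ∀ (g : G) (n : N), ϑ ⟨g * n * g⁻¹, hN.conj_mem (n : G) n.2 g⟩ = ϑ n
  deg : ϑ 1 = d
  cop : Nat.Coprime N.index d
  μchar : Cfsg.IsCharacter G μ
  μone : μ 1 = 1
  μN : ∀ n : N, μ n = Cfsg.detChar ϑ n

/-- `ψ` is an irreducible extension of `ϑ` to `H` with determinant `μ`. -/
def IsDetExt (N : Subgroup G) (ϑ : N → ℂ) (μ : G → ℂ) (H : Subgroup G) (ψ : H → ℂ) : Prop :=
  Cfsg.IsIrrCharacter H ψ ∧ (∀ (n : N) (hn : (n : G) ∈ H), ψ ⟨n, hn⟩ = ϑ n) ∧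
    Cfsg.detChar ψ = fun h : H => μ h

variable [Finite G] {N : Subgroup G} {hN : N.Normal} {ϑ : N → ℂ} {d : ℕ} {μ : G → ℂ}

/-- Existence and uniqueness of the extension with prescribed determinant over a solvable
quotient. -/
theorem existsUnique_isDetExt (D : Data N hN ϑ d μ) (H : Subgroup G) (hNH : N ≤ H)
    (hsolv : Group.IsSolvable (↥H ⧸ N.subgroupOf H)) : ∃! ψ : H → ℂ, IsDetExt N ϑ μ H ψ := by
  have hϑchar := IsIrrCharacter.isCharacter D.irr
  set N' : Subgroup ↥H := N.subgroupOf H with hN'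
  have hN'n : N'.Normal := hN.subgroupOf H
  let e : N' ≃* N := Subgroup.subgroupOfEquivOfLe hNH
  set ϑ' : N' → ℂ := fun x => ϑ (e x) with hϑ'
  have hϑ'irr : Cfsg.IsIrrCharacter N' ϑ' := IsIrrCharacter.comp_mulEquiv e D.irr
  have hidx : N'.index ∣ N.index := by
    rw [hN']
    exact Subgroup.relIndex_dvd_index_of_le hNH
  have hcop' : Nat.Coprime N'.index d := Nat.Coprime.coprime_dvd_left hidx D.cop
  have hinv' : ∀ (m : ↥H) (x : N'),
      ϑ' ⟨m * x * m⁻¹, hN'n.conj_mem (x : ↥H) x.2 m⟩ = ϑ' x := by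
    intro m x
    exact D.inv (m : G) (e x)
  have hd' : ϑ' 1 = d := by
    change ϑ (e 1) = d
    rw [map_one]; exact D.deg
  set μ' : ↥H → ℂ := fun m => μ m with hμ'
  have hμ'char : Cfsg.IsCharacter ↥H μ' := IsCharacter.restrict H D.μchar
  have hμ'N : ∀ x : N', μ' x = Cfsg.detChar ϑ' x := by
    intro x
    have h1 := detChar_comp e.toMonoidHom hϑchar
    have h2 : (fun k : N' => ϑ (e.toMonoidHom k)) = ϑ' := rfl
    rw [h2] at h1
    rw [h1]
    exact D.μN (e x)
  obtain ⟨ψ0, hψ0, hψ0N⟩ := Cfsg.Agent.S0863.exists_extension_aux _ ↥H N' rfl hsolv ϑ' hϑ'irr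
    hinv' d hd' hcop' μ' hμ'char D.μone hμ'N
  obtain ⟨ψ, ⟨hψirr, hψN, hψdet⟩, huniq⟩ := Cfsg.Agent.S0862.result' N' ϑ' hϑ'irr d hd'
    hcop' ⟨ψ0, hψ0, hψ0N⟩ μ' ⟨hμ'char, D.μone⟩ hμ'N
  refine ⟨ψ, ⟨hψirr, ?_, hψdet⟩, ?_⟩
  · intro n hn
    have hmem : (⟨(n : G), hn⟩ : ↥H) ∈ N' := Subgroup.mem_subgroupOf.mpr n.2
    have h2 := hψN ⟨_, hmem⟩
    rw [h2]
    congr 1
  · rintro ψ' ⟨h1, h2, h3⟩
    apply huniq
    refine ⟨h1, ?_, h3⟩
    intro x
    exact h2 (e x) (x : ↥H).2

/-- Restriction of a determinant-extension to an intermediate subgroup. -/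
theorem IsDetExt.restrict (D : Data N hN ϑ d μ) {H K : Subgroup G} (hNK : N ≤ K) (hKH : K ≤ H)
    {ψ : H → ℂ} (hψ : IsDetExt N ϑ μ H ψ) :
    IsDetExt N ϑ μ K (fun k : K => ψ ⟨k, hKH k.2⟩) := by
  obtain ⟨h1, h2, h3⟩ := hψ
  have hchar : Cfsg.IsCharacter K (fun k : K => ψ ⟨k, hKH k.2⟩) :=
    IsCharacter.comp (Subgroup.inclusion hKH) (IsIrrCharacter.isCharacter h1)
  refine ⟨?_, fun n hn => h2 n (hKH hn), ?_⟩
  · apply isIrrCharacter_of_comp_irr (Subgroup.inclusion hNK) hchar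
    have : (fun x : N => (fun k : K => ψ ⟨k, hKH k.2⟩) (Subgroup.inclusion hNK x)) = ϑ := by
      funext x
      exact h2 x (hKH (hNK x.2))
    rw [this]
    exact D.irr
  · have h4 := detChar_comp (Subgroup.inclusion hKH) (IsIrrCharacter.isCharacter h1)
    have h5 : (fun k : K => ψ (Subgroup.inclusion hKH k)) = fun k : K => ψ ⟨k, hKH k.2⟩ := rfl
    rw [h5] at h4
    rw [h4, h3]
    rfl

omit [Finite G] in
theorem le_sup_zpowers (N : Subgroup G) (g : G) : N ≤ N ⊔ Subgroup.zpowers g := le_sup_left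

omit [Finite G] in
theorem mem_sup_zpowers (N : Subgroup G) (g : G) : g ∈ N ⊔ Subgroup.zpowers g :=
  (le_sup_right : Subgroup.zpowers g ≤ N ⊔ Subgroup.zpowers g) (Subgroup.mem_zpowers g)

theorem isSolvable_sup_zpowers (N : Subgroup G) [hN' : N.Normal] (g : G) :
    Group.IsSolvable (↥(N ⊔ Subgroup.zpowers g) ⧸ N.subgroupOf (N ⊔ Subgroup.zpowers g)) :=
  isSolvable_quotient_sup N (Subgroup.zpowers g)

/-- The glued class function. -/
noncomputable def glue (D : Data N hN ϑ d μ) (g : G) : ℂ :=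
  haveI := hN
  (existsUnique_isDetExt D (N ⊔ Subgroup.zpowers g) (le_sup_zpowers N g)
    (isSolvable_sup_zpowers N g)).exists.choose ⟨g, mem_sup_zpowers N g⟩

/-- The glued function agrees with every determinant-extension over a solvable quotient. -/
theorem apply_eq_glue (D : Data N hN ϑ d μ) {H : Subgroup G} (hNH : N ≤ H)
    {ψ : H → ℂ} (hψ : IsDetExt N ϑ μ H ψ) (g : G) (hg : g ∈ H) :
    ψ ⟨g, hg⟩ = glue D g := by
  have := hN
  have hle : N ⊔ Subgroup.zpowers g ≤ H := sup_le hNH (by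
    rw [Subgroup.zpowers_le]; exact hg)
  have h1 := hψ.restrict D (le_sup_zpowers N g) hle
  have hex := existsUnique_isDetExt D (N ⊔ Subgroup.zpowers g) (le_sup_zpowers N g)
    (isSolvable_sup_zpowers N g)
  have h2 := hex.exists.choose_spec
  have h3 := hex.unique h1 h2
  unfold glue
  rw [← h3]

theorem glue_spec (D : Data N hN ϑ d μ) (g : G) :
    haveI := hN
    ∃ ψ : ↥(N ⊔ Subgroup.zpowers g) → ℂ, IsDetExt N ϑ μ (N ⊔ Subgroup.zpowers g) ψ ∧
      ∀ (x : G) (hx : x ∈ N ⊔ Subgroup.zpowers g), ψ ⟨x, hx⟩ = glue D x := by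
  have := hN
  have hex := existsUnique_isDetExt D (N ⊔ Subgroup.zpowers g) (le_sup_zpowers N g)
    (isSolvable_sup_zpowers N g)
  exact ⟨hex.exists.choose, hex.exists.choose_spec, fun x hx =>
    apply_eq_glue D (le_sup_zpowers N g) hex.exists.choose_spec x hx⟩

/-- The glued function extends `ϑ`. -/
theorem glue_apply_coe (D : Data N hN ϑ d μ) (n : N) : glue D (n : G) = ϑ n := by
  obtain ⟨ψ, hψ, hψg⟩ := glue_spec D (n : G)
  rw [← hψg (n : G) (mem_sup_zpowers N n)]
  exact hψ.2.1 n _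

/-- Conjugating a determinant-extension. -/
theorem IsDetExt.conj (D : Data N hN ϑ d μ) {H : Subgroup G} {ψ : H → ℂ}
    (hψ : IsDetExt N ϑ μ H ψ) (x : G) :
    IsDetExt N ϑ μ (H.map ((MulAut.conj x : G ≃* G) : G →* G))
      (fun y => ψ (((MulAut.conj x).subgroupMap H).symm y)) := by
  obtain ⟨h1, h2, h3⟩ := hψ
  set c := (MulAut.conj x).subgroupMap H with hc
  have hcoe : ∀ z : H, ((c z : H.map ((MulAut.conj x : G ≃* G) : G →* G)) : G) = x * z * x⁻¹ := by
    intro z
    rfl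
  have hsymm : ∀ y : H.map ((MulAut.conj x : G ≃* G) : G →* G), ((c.symm y : H) : G) = x⁻¹ * y * x := by
    intro y
    have h4 := hcoe (c.symm y)
    rw [c.apply_symm_apply] at h4
    rw [h4]
    group
  refine ⟨IsIrrCharacter.comp_mulEquiv c.symm h1, ?_, ?_⟩
  · intro n hn
    have hmem : x⁻¹ * (n : G) * x ∈ N := by
      have := hN.conj_mem (n : G) n.2 x⁻¹
      rwa [inv_inv] at this
    have h5 : c.symm ⟨n, hn⟩ = ⟨x⁻¹ * n * x, by
        have := (c.symm ⟨n, hn⟩).2
        rwa [hsymm] at this⟩ := Subtype.ext (hsymm ⟨n, hn⟩)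
    simp only
    rw [h5]
    have h6 := h2 ⟨x⁻¹ * n * x, hmem⟩ (by
      have := (c.symm ⟨n, hn⟩).2
      rwa [hsymm] at this)
    rw [h6]
    have h7 := D.inv x⁻¹ n
    simp only [inv_inv] at h7
    exact h7
  · have h4 := detChar_comp c.symm.toMonoidHom (IsIrrCharacter.isCharacter h1)
    have h5 : (fun k => ψ (c.symm.toMonoidHom k)) = fun y => ψ (c.symm y) := rfl
    rw [h5] at h4
    rw [h4, h3]
    funext y
    change μ ((c.symm y : H) : G) = μ y
    rw [hsymm]
    have := IsCharacter.isClassFunction D.μchar (y : G) x⁻¹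
    rw [inv_inv] at this
    exact this

/-- The glued function is a class function. -/
theorem glue_isClassFunction (D : Data N hN ϑ d μ) : Cfsg.IsClassFunction G (glue D) := by
  intro g x
  have := hN
  obtain ⟨ψ, hψ, hψg⟩ := glue_spec D g
  have hconj := hψ.conj D x
  have hNle : N ≤ (N ⊔ Subgroup.zpowers g).map ((MulAut.conj x : G ≃* G) : G →* G) := by
    intro n hn
    refine ⟨x⁻¹ * n * x, (le_sup_zpowers N g) ?_, ?_⟩
    · have := hN.conj_mem n hn x⁻¹
      rwa [inv_inv] at this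
    · change x * (x⁻¹ * n * x) * x⁻¹ = n
      group
  have hmem : x * g * x⁻¹ ∈ (N ⊔ Subgroup.zpowers g).map ((MulAut.conj x : G ≃* G) : G →* G) :=
    ⟨g, mem_sup_zpowers N g, rfl⟩
  have h1 := apply_eq_glue D hNle hconj (x * g * x⁻¹) hmem
  rw [← h1, ← hψg g (mem_sup_zpowers N g)]
  congr 1
  rw [MulEquiv.symm_apply_eq]
  rfl

/-- The glued function is a generalized character (Brauer's characterization). -/
theorem glue_isGeneralizedCharacter (D : Data N hN ϑ d μ) :
    Cfsg.IsGeneralizedCharacter G (glue D) := by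
  classical
  have : Fintype G := Fintype.ofFinite G
  have := hN
  apply isGeneralizedCharacter_of_restrict (glue_isClassFunction D)
  rintro E ⟨p, hp, hEl⟩
  have hnil : Group.IsNilpotent E := IsElementary.isNilpotent hp hEl
  have hsolv := isSolvable_quotient_sup N E
  obtain ⟨ψ, hψ, -⟩ := existsUnique_isDetExt D (N ⊔ E) le_sup_left hsolv
  have h1 : (fun e : E => glue D e) = fun e : E => ψ (Subgroup.inclusion le_sup_right e) :=
    funext fun e => (apply_eq_glue D le_sup_left hψ e _).symm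
  rw [h1]
  exact IsGeneralizedCharacter.comp (Subgroup.inclusion le_sup_right)
    (IsCharacter.isGeneralizedCharacter (IsIrrCharacter.isCharacter hψ.1))

open scoped ComplexConjugate in
/-- Coset sums of the squared absolute value of the glued function. -/
theorem sum_coset_glue (D : Data N hN ϑ d μ) [Fintype N] (g : G) :
    ∑ n : N, glue D ((n : G) * g) * conj (glue D ((n : G) * g)) = (Nat.card N : ℂ) := by
  classical
  have := hN
  set H := N ⊔ Subgroup.zpowers g with hH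
  obtain ⟨ψ, hψ, hψg⟩ : ∃ ψ : ↥H → ℂ, IsDetExt N ϑ μ H ψ ∧
      ∀ (x : G) (hx : x ∈ H), ψ ⟨x, hx⟩ = glue D x := glue_spec D g
  have hNH : N ≤ H := le_sup_zpowers N g
  have : Fintype ↥H := Fintype.ofFinite _
  set N' : Subgroup ↥H := N.subgroupOf H with hN'
  have hN'n : N'.Normal := hN.subgroupOf H
  have : Fintype N' := Fintype.ofFinite _
  let e : N' ≃* N := Subgroup.subgroupOfEquivOfLe hNH
  have hres : (fun x : N' => ψ x) = fun x : N' => ϑ (e x) := by
    funext x
    exact hψ.2.1 (e x) (x : ↥H).2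
  have hresirr : Cfsg.IsIrrCharacter N' (fun x : N' => ψ x) := by
    rw [hres]
    exact IsIrrCharacter.comp_mulEquiv e D.irr
  have h868 := (Cfsg.Agent.S0868.result N' ψ hψ.1 hresirr ψ hψ.1 _ rfl).2.2 rfl
  have h1 := congrFun h868 ⟨g, mem_sup_zpowers N g⟩
  have hcard : Nat.card N' = Nat.card N := Nat.card_congr e.toEquiv
  rw [hcard] at h1
  have hNc : (Nat.card N : ℂ) ≠ 0 := by
    exact_mod_cast Nat.card_pos.ne'
  have h2 : ∑ x : N', ψ ((x : ↥H) * ⟨g, mem_sup_zpowers N g⟩) *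
      conj (ψ ((x : ↥H) * ⟨g, mem_sup_zpowers N g⟩)) = (Nat.card N : ℂ) := by
    field_simp at h1
    exact h1
  rw [← h2]
  rw [← Equiv.sum_comp e.toEquiv]
  refine Finset.sum_congr rfl fun x _ => ?_
  have h3 : glue D (((e x : N) : G) * g) = ψ ((x : ↥H) * ⟨g, mem_sup_zpowers N g⟩) := by
    have h4 := hψg _ ((x : ↥H) * ⟨g, mem_sup_zpowers N g⟩).2
    exact h4.symm
  simp only [MulEquiv.toEquiv_eq_coe, MulEquiv.coe_toEquiv]
  rw [h3]

open scoped ComplexConjugate in
/-- The glued function has norm one. -/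
theorem classInner_glue (D : Data N hN ϑ d μ) [Fintype G] :
    Cfsg.classInner (glue D) (glue D) = 1 := by
  classical
  have : Fintype N := Fintype.ofFinite N
  set F : G → ℂ := fun g => glue D g * conj (glue D g) with hF
  have h1 : ∀ g, ∑ n : N, F ((n : G) * g) = (Nat.card N : ℂ) := fun g => sum_coset_glue D g
  have h2 : ∑ g : G, ∑ n : N, F ((n : G) * g) = (Nat.card G : ℂ) * (Nat.card N : ℂ) := by
    rw [Finset.sum_congr rfl (fun g _ => h1 g), Finset.sum_const, Finset.card_univ,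
      nsmul_eq_mul, Fintype.card_eq_nat_card]
  rw [Finset.sum_comm] at h2
  have h3 : ∀ n : N, ∑ g : G, F ((n : G) * g) = ∑ g : G, F g := fun n =>
    Equiv.sum_comp (Equiv.mulLeft (n : G)) F
  rw [Finset.sum_congr rfl (fun n _ => h3 n), Finset.sum_const, Finset.card_univ,
    nsmul_eq_mul, Fintype.card_eq_nat_card, mul_comm] at h2
  have hNc : (Nat.card N : ℂ) ≠ 0 := by
    exact_mod_cast Nat.card_pos.ne'
  have hGc : (Nat.card G : ℂ) ≠ 0 := by
    exact_mod_cast Nat.card_pos.ne'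
  have h4 : ∑ g : G, F g = (Nat.card G : ℂ) := mul_right_cancel₀ hNc h2
  unfold Cfsg.classInner
  rw [h4, inv_mul_cancel₀ hGc]

/-- **Gallagher's extension theorem**: the glued function is an irreducible character
extending `ϑ`. -/
theorem glue_isIrrCharacter (D : Data N hN ϑ d μ) : Cfsg.IsIrrCharacter G (glue D) := by
  classical
  have : Fintype G := Fintype.ofFinite G
  apply IsGeneralizedCharacter.isIrrCharacter_of_norm_one (glue_isGeneralizedCharacter D)
    (classInner_glue D)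
  have h1 : glue D 1 = ϑ 1 := glue_apply_coe D 1
  rw [h1, D.deg]
  have hd0 : (d : ℂ) ≠ 0 := by
    rw [← D.deg]; exact IsIrrCharacter.apply_one_ne_zero D.irr
  have : 0 < d := Nat.pos_of_ne_zero (by rintro rfl; exact hd0 Nat.cast_zero)
  simpa using this

end glue

end Cfsg.Agent.Lib.Helper3.GlueExt
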