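import Mathlib

/-! The final arithmetic contradiction. -/
set_option autoImplicit false

namespace Cfsg.Agent.Lib.Helper3.FP

theorem row_aux (c ε N : ℤ) (hε : ε = 1 ∨ ε = -1) (hN : 2 ≤ N) : 0 ≤ c ^ 2 * N - 2 * c * ε := by
  have h1 : 0 ≤ (N - 2) * c ^ 2 := mul_nonneg (sub_nonneg.2 hN) (sq_nonneg c)
  rcases hε with rfl | rfl
  · rcases le_or_gt c 0 with h | h
    · nlinarith [sq_nonneg c]
    · have : 0 ≤ c * (c - 1) := mul_nonneg (by omega) (by omega)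
      nlinarith
  · rcases le_or_gt 0 c with h | h
    · nlinarith [sq_nonneg c]
    · have : 0 ≤ (-c) * (-c - 1) := mul_nonneg (by omega) (by omega)
      nlinarith

theorem frac_le (N E : ℝ) (hN : 2 ≤ N) (hE : 1 ≤ E) :
    (N + E) / (1 + N * E) ≤ (2 + E) / (1 + 2 * E) := by
  have h1 : 0 ≤ (N - 2) * (E ^ 2 - 1) := mul_nonneg (sub_nonneg.2 hN) (by nlinarith)
  rw [div_le_div_iff₀ (by positivity) (by positivity)]
  nlinarith

theorem frac_lt (N E : ℝ) (hN : 2 < N) (hE : 1 < E) :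
    (N + E) / (1 + N * E) < (2 + E) / (1 + 2 * E) := by
  have h1 : 0 < (N - 2) * (E ^ 2 - 1) := mul_pos (sub_pos.2 hN) (by nlinarith)
  rw [div_lt_div_iff₀ (by positivity) (by positivity)]
  nlinarith

/-- bound for the "incoming" part -/
theorem in_bound {ι : Type*} (s : Finset ι) (h n : ι → ℕ) (a b : ι → ℤ) (E : ℕ) (M : ℝ) (hM : 0 < M)
    (hMh : ∀ j ∈ s, M ≤ (h j : ℝ))
    (hab : ∀ j ∈ s, a j ≠ 0 ∨ b j ≠ 0)
    (hcol : ∑ j ∈ s, (n j : ℤ) * b j ^ 2 ≤ (E : ℤ) - 1) :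
    ∑ j ∈ s, (if a j = 0 then (n j : ℝ) / (h j : ℝ) else 0) ≤ ((E : ℝ) - 1) / M := by
  have h1 : ∀ j ∈ s, (if a j = 0 then (n j : ℝ) / (h j : ℝ) else 0) ≤
      ((n j : ℝ) * ((b j : ℤ) : ℝ) ^ 2) / M := by
    intro j hj
    have hb0 : (0 : ℝ) ≤ (n j : ℝ) * ((b j : ℤ) : ℝ) ^ 2 := by positivity
    by_cases ha : a j = 0
    · rw [if_pos ha]
      have hb : b j ≠ 0 := by
        rcases hab j hj with h | h
        · exact absurd ha h
        · exact h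
      have hb1 : (1 : ℝ) ≤ ((b j : ℤ) : ℝ) ^ 2 := by
        have : (1 : ℤ) ≤ b j ^ 2 := by
          have := sq_nonneg (b j)
          have h2 : b j ^ 2 ≠ 0 := pow_ne_zero 2 hb
          omega
        exact_mod_cast this
      have hn0 : (0 : ℝ) ≤ (n j : ℝ) := by positivity
      calc (n j : ℝ) / (h j : ℝ) ≤ (n j : ℝ) / M :=
            div_le_div_of_nonneg_left hn0 hM (hMh j hj)
        _ ≤ ((n j : ℝ) * ((b j : ℤ) : ℝ) ^ 2) / M := by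
            apply div_le_div_of_nonneg_right _ hM.le
            nlinarith
    · rw [if_neg ha]
      positivity
  calc ∑ j ∈ s, (if a j = 0 then (n j : ℝ) / (h j : ℝ) else 0)
      ≤ ∑ j ∈ s, ((n j : ℝ) * ((b j : ℤ) : ℝ) ^ 2) / M := Finset.sum_le_sum h1
    _ = (∑ j ∈ s, ((n j : ℝ) * ((b j : ℤ) : ℝ) ^ 2)) / M := by rw [Finset.sum_div]
    _ ≤ ((E : ℝ) - 1) / M := by
        apply div_le_div_of_nonneg_right _ hM.le
        have : ((∑ j ∈ s, (n j : ℤ) * b j ^ 2 : ℤ) : ℝ) ≤ (((E : ℤ) - 1 : ℤ) : ℝ) := by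
          exact_mod_cast hcol
        push_cast at this
        exact this

theorem col_parity {ι : Type*} (s : Finset ι) (n : ι → ℕ) (b : ι → ℤ) (E : ℕ)
    (hn : ∀ j ∈ s, Even (n j)) (hE : Odd E)
    (hcol : ∑ j ∈ s, (n j : ℤ) * b j ^ 2 ≤ (E : ℤ)) :
    ∑ j ∈ s, (n j : ℤ) * b j ^ 2 ≤ (E : ℤ) - 1 := by
  have h1 : Even (∑ j ∈ s, (n j : ℤ) * b j ^ 2) := by
    apply Finset.even_sum
    intro j hj
    apply Even.mul_right
    exact_mod_cast hn j hj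
  have h2 : Odd (E : ℤ) := by exact_mod_cast hE
  have h3 : ∑ j ∈ s, (n j : ℤ) * b j ^ 2 ≠ (E : ℤ) := by
    intro h
    rw [h] at h1
    exact (Int.not_even_iff_odd.2 h2) h1
  omega

theorem final_arith {ι : Type*} [Fintype ι] [DecidableEq ι] (i0 : ι) (e h n idx : ι → ℕ) (g D : ℕ)
    (a b : ι → ℤ) (c ε : ℤ)
    (hh : ∀ j, h j = 1 + n j * e j) (hn : ∀ j, 2 ≤ n j) (hneven : ∀ j, Even (n j))
    (he : ∀ j, e i0 ≤ e j) (he0 : Odd (e i0)) (he1 : 1 < e i0)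
    (hg : ∀ j, g = idx j * (e j * h j)) (hg0 : 0 < g) (hD : 1 ≤ D)
    (hε : ε = 1 ∨ ε = -1)
    (hne : ∀ j, j ≠ i0 → h j ≠ h i0)
    (hab : ∀ j, j ≠ i0 → a j ≠ 0 ∨ b j ≠ 0)
    (hclass : (g : ℤ) = 1 + ∑ j, (idx j : ℤ) * ((h j : ℤ) - 1))
    (hrow : (g : ℤ) = (D : ℤ) ^ 2 +
        ∑ j ∈ Finset.univ.erase i0, (idx j : ℤ) * ((h j : ℤ) - 1) * a j ^ 2 +
        (idx i0 : ℤ) * ((e i0 : ℤ) * h i0 - (e i0 : ℤ) ^ 2 - 2 * c * ε * e i0 +
          c ^ 2 * ((h i0 : ℤ) - 1)))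
    (hcol : ∑ j ∈ Finset.univ.erase i0, (n j : ℤ) * b j ^ 2 ≤ (e i0 : ℤ)) : False := by
  have hcol' := col_parity (Finset.univ.erase i0) n b (e i0) (fun j _ => hneven j) he0 hcol
  have hgR : (0 : ℝ) < (g : ℝ) := by exact_mod_cast hg0
  have hE1 : (1 : ℝ) < (e i0 : ℝ) := by exact_mod_cast he1
  have hepos : ∀ j, (0 : ℝ) < (e j : ℝ) := by
    intro j
    have : 0 < e j := lt_of_lt_of_le (by omega) (he j)
    exact_mod_cast this
  have hhR : ∀ j, (h j : ℝ) = 1 + (n j : ℝ) * (e j : ℝ) := by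
    intro j
    have := hh j
    exact_mod_cast this
  have hhpos : ∀ j, (0 : ℝ) < (h j : ℝ) := by
    intro j
    rw [hhR j]
    have := hepos j
    positivity
  have hW0 : ∀ j, (0 : ℝ) ≤ (n j : ℝ) / (h j : ℝ) := fun j => by
    have := hhpos j
    positivity
  have F1 : ∀ j, (idx j : ℝ) * ((h j : ℝ) - 1) = (g : ℝ) * ((n j : ℝ) / (h j : ℝ)) := by
    intro j
    have h1 : (g : ℝ) = (idx j : ℝ) * ((e j : ℝ) * (h j : ℝ)) := by exact_mod_cast hg j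
    have h2 : (h j : ℝ) - 1 = (n j : ℝ) * (e j : ℝ) := by rw [hhR j]; ring
    have h3 := hhpos j
    have h4 := hepos j
    rw [h2, h1]
    field_simp
  have F2 : (g : ℝ) * ∑ j, (n j : ℝ) / (h j : ℝ) = (g : ℝ) - 1 := by
    have : (g : ℝ) = 1 + ∑ j, (idx j : ℝ) * ((h j : ℝ) - 1) := by exact_mod_cast hclass
    rw [Finset.mul_sum]
    simp_rw [← F1]
    linarith
  have F3 : (D : ℝ) ^ 2 + (g : ℝ) * ∑ j ∈ Finset.univ.erase i0,
      (n j : ℝ) / (h j : ℝ) * ((a j : ℤ) : ℝ) ^ 2 ≤ (g : ℝ) * ((e i0 : ℝ) / (h i0 : ℝ)) := by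
    have hr : (g : ℝ) = (D : ℝ) ^ 2 +
        ∑ j ∈ Finset.univ.erase i0, (idx j : ℝ) * ((h j : ℝ) - 1) * ((a j : ℤ) : ℝ) ^ 2 +
        (idx i0 : ℝ) * ((e i0 : ℝ) * (h i0 : ℝ) - (e i0 : ℝ) ^ 2 - 2 * (c : ℝ) * (ε : ℝ) * (e i0 : ℝ) +
          (c : ℝ) ^ 2 * ((h i0 : ℝ) - 1)) := by exact_mod_cast hrow
    have hra := row_aux c ε (n i0) hε (by exact_mod_cast hn i0)
    have hraR : (0 : ℝ) ≤ (c : ℝ) ^ 2 * (n i0 : ℝ) - 2 * (c : ℝ) * (ε : ℝ) := by exact_mod_cast hra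
    have h1 : (g : ℝ) = (idx i0 : ℝ) * ((e i0 : ℝ) * (h i0 : ℝ)) := by exact_mod_cast hg i0
    have h2 : (h i0 : ℝ) - 1 = (n i0 : ℝ) * (e i0 : ℝ) := by rw [hhR i0]; ring
    have hh0 := hhpos i0
    have he0' := hepos i0
    have h3 : (idx i0 : ℝ) * ((e i0 : ℝ) * (h i0 : ℝ) - (e i0 : ℝ) ^ 2 -
        2 * (c : ℝ) * (ε : ℝ) * (e i0 : ℝ) + (c : ℝ) ^ 2 * ((h i0 : ℝ) - 1)) =
        (g : ℝ) * (1 - (e i0 : ℝ) / (h i0 : ℝ)) +
          (idx i0 : ℝ) * (e i0 : ℝ) * ((c : ℝ) ^ 2 * (n i0 : ℝ) - 2 * (c : ℝ) * (ε : ℝ)) := by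
      rw [h2, h1]
      field_simp
      ring
    have h4 : ∑ j ∈ Finset.univ.erase i0, (idx j : ℝ) * ((h j : ℝ) - 1) * ((a j : ℤ) : ℝ) ^ 2 =
        (g : ℝ) * ∑ j ∈ Finset.univ.erase i0, (n j : ℝ) / (h j : ℝ) * ((a j : ℤ) : ℝ) ^ 2 := by
      rw [Finset.mul_sum]
      apply Finset.sum_congr rfl
      intro j _
      rw [F1 j]; ring
    have h5 : (0 : ℝ) ≤ (idx i0 : ℝ) * (e i0 : ℝ) *
        ((c : ℝ) ^ 2 * (n i0 : ℝ) - 2 * (c : ℝ) * (ε : ℝ)) :=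
      mul_nonneg (mul_nonneg (Nat.cast_nonneg _) (Nat.cast_nonneg _)) hraR
    rw [h3, h4] at hr
    nlinarith
  have F5 : ∑ j ∈ Finset.univ.erase i0, (n j : ℝ) / (h j : ℝ) ≤
      ∑ j ∈ Finset.univ.erase i0, (n j : ℝ) / (h j : ℝ) * ((a j : ℤ) : ℝ) ^ 2 +
      ∑ j ∈ Finset.univ.erase i0, (if a j = 0 then (n j : ℝ) / (h j : ℝ) else 0) := by
    rw [← Finset.sum_add_distrib]
    apply Finset.sum_le_sum
    intro j _
    by_cases ha : a j = 0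
    · rw [if_pos ha, ha]; simp
    · rw [if_neg ha, add_zero]
      have ha1 : (1 : ℝ) ≤ ((a j : ℤ) : ℝ) ^ 2 := by
        have : (1 : ℤ) ≤ a j ^ 2 := by
          have := sq_nonneg (a j)
          have h2 : a j ^ 2 ≠ 0 := pow_ne_zero 2 ha
          omega
        exact_mod_cast this
      have := hW0 j
      nlinarith
  have hD2 : (1 : ℝ) ≤ (D : ℝ) ^ 2 := by
    have : (1 : ℝ) ≤ (D : ℝ) := by exact_mod_cast hD
    nlinarith
  have hsplit : ∑ j, (n j : ℝ) / (h j : ℝ) = (n i0 : ℝ) / (h i0 : ℝ) +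
      ∑ j ∈ Finset.univ.erase i0, (n j : ℝ) / (h j : ℝ) :=
    (Finset.add_sum_erase Finset.univ _ (Finset.mem_univ i0)).symm
  -- key inequality
  have key : (1 : ℝ) ≤ (n i0 : ℝ) / (h i0 : ℝ) + (e i0 : ℝ) / (h i0 : ℝ) +
      ∑ j ∈ Finset.univ.erase i0, (if a j = 0 then (n j : ℝ) / (h j : ℝ) else 0) := by
    rw [hsplit] at F2
    have h1 : (g : ℝ) * 1 ≤ (g : ℝ) * ((n i0 : ℝ) / (h i0 : ℝ) + (e i0 : ℝ) / (h i0 : ℝ) +
        ∑ j ∈ Finset.univ.erase i0, (if a j = 0 then (n j : ℝ) / (h j : ℝ) else 0)) := by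
      have := mul_le_mul_of_nonneg_left F5 hgR.le
      nlinarith
    exact le_of_mul_le_mul_left h1 hgR
  have hfrac : (n i0 : ℝ) / (h i0 : ℝ) + (e i0 : ℝ) / (h i0 : ℝ) =
      ((n i0 : ℝ) + (e i0 : ℝ)) / (1 + (n i0 : ℝ) * (e i0 : ℝ)) := by
    rw [← add_div, hhR i0]
  rw [hfrac] at key
  have hE2pos : (0 : ℝ) < 1 + 2 * (e i0 : ℝ) := by positivity
  have hsum1 : (2 + (e i0 : ℝ)) / (1 + 2 * (e i0 : ℝ)) + ((e i0 : ℝ) - 1) / (1 + 2 * (e i0 : ℝ)) = 1 := by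
    rw [← add_div]
    rw [div_eq_one_iff_eq (ne_of_gt hE2pos)]
    ring
  have hge : ∀ j, 1 + 2 * e i0 ≤ h j := by
    intro j
    rw [hh j]
    have := Nat.mul_le_mul (hn j) (he j)
    omega
  by_cases hN : n i0 = 2
  · -- case B
    have hH : h i0 = 1 + 2 * e i0 := by rw [hh i0, hN]
    have hge' : ∀ j ∈ Finset.univ.erase i0, (2 + 2 * (e i0 : ℝ)) ≤ (h j : ℝ) := by
      intro j hj
      have h1 := hne j (Finset.ne_of_mem_erase hj)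
      have h2 := hge j
      have : 2 + 2 * e i0 ≤ h j := by omega
      exact_mod_cast this
    have hT := in_bound (Finset.univ.erase i0) h n a b (e i0) (2 + 2 * (e i0 : ℝ)) (by positivity)
      hge' (fun j hj => hab j (Finset.ne_of_mem_erase hj)) hcol'
    have hfl := frac_le (n i0 : ℝ) (e i0 : ℝ) (by rw [hN]; norm_num) hE1.le
    have hlt : ((e i0 : ℝ) - 1) / (2 + 2 * (e i0 : ℝ)) < ((e i0 : ℝ) - 1) / (1 + 2 * (e i0 : ℝ)) := by
      apply div_lt_div_of_pos_left (by linarith) hE2pos (by linarith)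
    linarith
  · -- case A
    have hN' : (2 : ℝ) < (n i0 : ℝ) := by
      have := hn i0
      have : 2 < n i0 := by omega
      exact_mod_cast this
    have hge' : ∀ j ∈ Finset.univ.erase i0, (1 + 2 * (e i0 : ℝ)) ≤ (h j : ℝ) := by
      intro j _
      have := hge j
      exact_mod_cast this
    have hT := in_bound (Finset.univ.erase i0) h n a b (e i0) (1 + 2 * (e i0 : ℝ)) hE2pos
      hge' (fun j hj => hab j (Finset.ne_of_mem_erase hj)) hcol'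
    have hfl := frac_lt (n i0 : ℝ) (e i0 : ℝ) hN' hE1
    linarith

end Cfsg.Agent.Lib.Helper3.FP
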