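import Mathlib
import Cfsg.Prelude.Def_OddOrderChar
import Cfsg.Prelude.Def_OddOrderLocal
import Cfsg.Agent.Lib.Helper1.ThompsonFPF5
import Cfsg.Agent.Lib.Lead.Sib4
import Cfsg.Agent.Lib.Lead.Frob1
import Cfsg.Agent.Lib.Lead.Coh12

/-! Frobenius-type TI family members: group theory. -/
set_option autoImplicit false
open Cfsg

namespace Cfsg.Agent.Lib.Helper3.FP

variable {G : Type*} [Group G]

/-- `H` is a TI subgroup with normaliser `L`, and `L` is a Frobenius group with kernel `H`. -/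
structure Fam (H L : Subgroup G) : Prop where
  le : H ≤ L
  out : ∃ x ∈ L, x ∉ H
  ne_bot : H ≠ ⊥
  conj : ∀ x ∈ L, ∀ h ∈ H, x * h * x⁻¹ ∈ H
  frob : ∀ h ∈ H, h ≠ 1 → L ⊓ Subgroup.centralizer ({h} : Set G) ≤ H
  ti : Cfsg.IsTISubset (H : Set G)
  norm : Subgroup.normalizer (H : Set G) = L

namespace Fam

variable {H L : Subgroup G}

theorem ti' (F : Fam H L) : ∀ g : G, g ∉ L → ∀ t ∈ H, g * t * g⁻¹ ∈ H → t = 1 := by
  intro g hg t ht hgt
  exact F.ti g (by rw [F.norm]; exact hg) t ht hgt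

theorem mem_K (x : L) : x ∈ H.subgroupOf L ↔ (x : G) ∈ H := Subgroup.mem_subgroupOf

theorem normalK (F : Fam H L) : (H.subgroupOf L).Normal :=
  ⟨fun k hk x => by
    rw [mem_K] at hk ⊢
    exact F.conj x x.2 k hk⟩

theorem fk (F : Fam H L) : ∀ k ∈ H.subgroupOf L, k ≠ 1 → ∀ x : L, x * k = k * x → x ∈ H.subgroupOf L := by
  intro k hk hk1 x hxk
  rw [mem_K] at hk ⊢
  have h1 : (k : G) ≠ 1 := fun h => hk1 (Subtype.ext h)
  apply F.frob (k : G) hk h1
  refine ⟨x.2, ?_⟩
  show (x : G) ∈ Subgroup.centralizer ({(k : G)} : Set G)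
  rw [Subgroup.mem_centralizer_iff]
  intro y hy
  rw [Set.mem_singleton_iff] at hy
  subst hy
  exact (congrArg Subtype.val hxk).symm

theorem K_ne_bot (F : Fam H L) : H.subgroupOf L ≠ ⊥ := by
  intro h
  apply F.ne_bot
  rw [eq_bot_iff]
  intro x hx
  have h1 : (⟨x, F.le hx⟩ : L) ∈ H.subgroupOf L := (mem_K _).2 hx
  rw [h, Subgroup.mem_bot] at h1
  rw [Subgroup.mem_bot]
  exact congrArg Subtype.val h1

theorem K_out (F : Fam H L) : ∃ x : L, x ∉ H.subgroupOf L := by
  obtain ⟨x, hx, hxH⟩ := F.out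
  exact ⟨⟨x, hx⟩, fun h => hxH ((mem_K _).1 h)⟩

theorem card_K (F : Fam H L) : Nat.card (H.subgroupOf L) = Nat.card H :=
  Nat.card_congr (Subgroup.subgroupOfEquivOfLe F.le).toEquiv

theorem coprimeK [Finite G] (F : Fam H L) :
    Nat.Coprime (Nat.card (H.subgroupOf L)) (H.subgroupOf L).index := by
  haveI := F.normalK
  exact Cfsg.Agent.Lib.Lead.Frob.coprime_of_FK _ F.fk

theorem index_dvd [Finite G] (F : Fam H L) :
    (H.subgroupOf L).index ∣ Nat.card (H.subgroupOf L) - 1 := by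
  haveI := F.normalK
  exact Cfsg.Agent.Lib.Lead.Frob.index_dvd_of_FK _ F.fk

theorem one_lt_index [Finite G] (F : Fam H L) : 1 < (H.subgroupOf L).index := by
  obtain ⟨x, hx⟩ := F.K_out
  have h0 : (H.subgroupOf L).index ≠ 0 := Subgroup.index_ne_zero_of_finite
  have h1 : (H.subgroupOf L).index ≠ 1 := by
    intro h
    rw [Subgroup.index_eq_one] at h
    exact hx (h ▸ Subgroup.mem_top x)
  omega

theorem nilpotentK [Finite G] (F : Fam H L) : Group.IsNilpotent (H.subgroupOf L) := by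
  classical
  haveI hKn := F.normalK
  obtain ⟨r, hr, hrd⟩ := Nat.exists_prime_and_dvd (ne_of_gt F.one_lt_index)
  haveI : Fact r.Prime := ⟨hr⟩
  have hrL : r ∣ Nat.card L := by
    rw [← Subgroup.card_mul_index (H.subgroupOf L)]
    exact Dvd.dvd.mul_left hrd _
  obtain ⟨y, hy⟩ := exists_prime_orderOf_dvd_card' r hrL
  have hyK : y ∉ H.subgroupOf L := by
    intro hyK
    have h1 : r ∣ Nat.card (H.subgroupOf L) := by
      have := orderOf_dvd_natCard (⟨y, hyK⟩ : H.subgroupOf L)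
      rw [Subgroup.orderOf_mk, hy] at this
      exact this
    have h2 : r ∣ 1 := by
      have := Nat.dvd_gcd h1 hrd
      rwa [F.coprimeK] at this
    exact hr.one_lt.ne' (Nat.dvd_one.mp h2)
  have hyr : y ^ r = 1 := by rw [← hy]; exact pow_orderOf_eq_one y
  obtain ⟨φ, hφdef⟩ : ∃ φ : (H.subgroupOf L) ≃* (H.subgroupOf L),
      φ = MulAut.conjNormal (H := H.subgroupOf L) y := ⟨_, rfl⟩
  have hφapp : ∀ n : H.subgroupOf L, ((φ n : H.subgroupOf L) : L) = y * n * y⁻¹ := by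
    intro n
    rw [hφdef]
    exact MulAut.conjNormal_apply _ _
  have hpow : φ ^ r = 1 := by
    rw [hφdef, ← map_pow, hyr, map_one]
  have hfpf : MonoidHom.FixedPointFree (φ : (H.subgroupOf L) →* (H.subgroupOf L)) := by
    intro n hn
    by_contra hn1
    have hn' : y * n * y⁻¹ = n := by
      have := congrArg Subtype.val hn
      rw [← hφapp]
      exact this
    have hnL : (n : L) ≠ 1 := fun h1 => hn1 (Subtype.ext h1)
    apply hyK
    apply F.fk (n : L) n.2 hnL y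
    calc y * n = (y * n * y⁻¹) * y := by group
      _ = n * y := by rw [hn']
  exact Cfsg.Agent.Lib.Helper1.ThompsonFPF.isNilpotent_of_fpf hr _ _ rfl φ hfpf hpow

end Fam

end Cfsg.Agent.Lib.Helper3.FP
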