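import Mathlib
import Cfsg.Agent.Lib.Helper3.FP1
import Cfsg.Agent.Lib.Helper6.IndFunTI
import Cfsg.Agent.Lib.Helper6.IndFun
import Cfsg.Agent.Lib.Helper6.ClassFun
import Cfsg.Agent.S0146

/-! Integration of class functions over a partition of `G` into conjugates of TI subgroups. -/
set_option autoImplicit false
open Cfsg
open scoped ComplexConjugate

namespace Cfsg.Agent.Lib.Helper3.FP

open Cfsg.Agent.Lib.Helper6

variable {G : Type*} [Group G]

open Classical in
/-- indicator on `L` of the non-identity elements of `H` -/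
noncomputable def ind (H L : Subgroup G) : L → ℂ :=
  fun x => if (x : G) ∈ H ∧ x ≠ 1 then 1 else 0

theorem ind_of_mem {H L : Subgroup G} {x : L} (hx : (x : G) ∈ H) (h1 : x ≠ 1) : ind H L x = 1 := by
  unfold ind; rw [if_pos ⟨hx, h1⟩]

theorem ind_of_not {H L : Subgroup G} {x : L} (hx : ¬ ((x : G) ∈ H ∧ x ≠ 1)) : ind H L x = 0 := by
  unfold ind; rw [if_neg hx]

theorem ind_one {H L : Subgroup G} : ind H L 1 = 0 := ind_of_not (fun h => h.2 rfl)

theorem ind_isClassFunction {H L : Subgroup G} (F : Fam H L) : IsClassFunction L (ind H L) := by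
  intro g h
  by_cases hg : (g : G) ∈ H ∧ g ≠ 1
  · rw [ind_of_mem hg.1 hg.2, ind_of_mem]
    · have := F.conj h h.2 g hg.1
      simpa using this
    · intro h0
      apply hg.2
      have : g = h⁻¹ * (h * g * h⁻¹) * h := by group
      rw [this, h0]; group
  · rw [ind_of_not hg, ind_of_not]
    rintro ⟨h1, h2⟩
    apply hg
    constructor
    · have := F.conj ((h : G)⁻¹) (L.inv_mem h.2) ((h : G) * g * (h : G)⁻¹) (by simpa using h1)
      have e : (h : G)⁻¹ * ((h : G) * g * (h : G)⁻¹) * ((h : G)⁻¹)⁻¹ = g := by group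
      rwa [e] at this
    · intro h0; apply h2; rw [h0]; group

variable [Fintype G]

theorem indFun_ind_of_conj {H L : Subgroup G} [Fintype L] (F : Fam H L) {g : G} (hg1 : g ≠ 1)
    (hg : ∃ x : G, x * g * x⁻¹ ∈ H) : indFun L (ind H L) g = 1 := by
  obtain ⟨x, hx⟩ := hg
  have hcl := indFun_isClassFunction L (ind H L)
  rw [← hcl g x]
  have hne : x * g * x⁻¹ ≠ 1 := by
    intro h0; apply hg1
    have : g = x⁻¹ * (x * g * x⁻¹) * x := by group
    rw [this, h0]; group
  have ht1 : (⟨x * g * x⁻¹, F.le hx⟩ : L) ≠ 1 := fun h => hne (congrArg Subtype.val h)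
  have := indFun_eq_of_TI L (H : Set G) F.ti' (ind H L) (ind_isClassFunction F)
    (fun y hy => ind_of_not (fun h => hy h.1)) ⟨x * g * x⁻¹, F.le hx⟩ hx ht1
  rw [show ((⟨x * g * x⁻¹, F.le hx⟩ : L) : G) = x * g * x⁻¹ from rfl] at this
  rw [this, ind_of_mem hx ht1]

theorem indFun_ind_of_not {H L : Subgroup G} [Fintype L] {g : G}
    (hg : ¬ (g ≠ 1 ∧ ∃ x : G, x * g * x⁻¹ ∈ H)) : indFun L (ind H L) g = 0 := by
  unfold indFun
  have : ∀ y : G, extendByZero L (ind H L) (y⁻¹ * g * y) = 0 := by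
    intro y
    by_cases hy : y⁻¹ * g * y ∈ L
    · rw [extendByZero_of_mem L _ hy]
      apply ind_of_not
      rintro ⟨h1, h2⟩
      apply hg
      refine ⟨?_, y⁻¹, by simpa using h1⟩
      intro h0
      apply h2
      apply Subtype.ext
      show y⁻¹ * g * y = 1
      rw [h0]; group
    · exact extendByZero_of_not_mem L _ hy
  simp [this]

theorem sum_mul_indFun_ind {H L : Subgroup G} [Fintype L] (Fn : G → ℂ)
    (hF : IsClassFunction G Fn) :
    ∑ g : G, indFun L (ind H L) g * Fn g = (L.index : ℂ) * ∑ x : L, ind H L x * Fn x := by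
  have h := Cfsg.Agent.S0146.result L (ind H L) (fun g => conj (Fn g)) (isClassFunction_conj hF)
  unfold classInner at h
  simp only [Complex.conj_conj] at h
  have hG : (Nat.card G : ℂ) ≠ 0 := card_ne_zero_complex G
  have hL : (Nat.card L : ℂ) ≠ 0 := card_ne_zero_complex L
  have hidx : (L.index : ℂ) = (Nat.card G : ℂ) / (Nat.card L : ℂ) := by
    rw [eq_div_iff hL, ← Nat.cast_mul, mul_comm, Subgroup.card_mul_index]
  rw [hidx]
  field_simp
  field_simp at h
  linear_combination h

/-- the whole configuration -/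
structure Config {ι : Type*} (H L : ι → Subgroup G) : Prop where
  fam : ∀ i, Fam (H i) (L i)
  cop : ∀ i j, i ≠ j → Nat.Coprime (Nat.card (H i)) (Nat.card (H j))
  cover : ∀ g : G, g ≠ 1 → ∃ i, ∃ x : G, x * g * x⁻¹ ∈ H i

namespace Config

variable {ι : Type*} {H L : ι → Subgroup G}

omit [Fintype G] in
theorem unique [Finite G] (C : Config H L) {g : G} (hg1 : g ≠ 1) {i j : ι} {x y : G}
    (hx : x * g * x⁻¹ ∈ H i) (hy : y * g * y⁻¹ ∈ H j) : i = j := by
  by_contra hij
  have h1 : orderOf g ∣ Nat.card (H i) := by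
    have : orderOf (x * g * x⁻¹) = orderOf g := by
      rw [show x * g * x⁻¹ = MulAut.conj x g from rfl, MulEquiv.orderOf_eq]
    rw [← this]
    have := orderOf_dvd_natCard (⟨x * g * x⁻¹, hx⟩ : H i)
    rwa [Subgroup.orderOf_mk] at this
  have h2 : orderOf g ∣ Nat.card (H j) := by
    have : orderOf (y * g * y⁻¹) = orderOf g := by
      rw [show y * g * y⁻¹ = MulAut.conj y g from rfl, MulEquiv.orderOf_eq]
    rw [← this]
    have := orderOf_dvd_natCard (⟨y * g * y⁻¹, hy⟩ : H j)
    rwa [Subgroup.orderOf_mk] at this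
  have h3 : orderOf g ∣ 1 := by
    have := Nat.dvd_gcd h1 h2
    rwa [C.cop i j hij] at this
  exact hg1 (orderOf_eq_one_iff.mp (Nat.dvd_one.mp h3))

theorem sum_indFun [Fintype ι] [∀ i, Fintype (L i)] (C : Config H L) {g : G} (hg1 : g ≠ 1) :
    ∑ i, indFun (L i) (ind (H i) (L i)) g = 1 := by
  classical
  obtain ⟨i, x, hx⟩ := C.cover g hg1
  rw [Finset.sum_eq_single i]
  · exact indFun_ind_of_conj (C.fam i) hg1 ⟨x, hx⟩
  · intro j _ hji
    apply indFun_ind_of_not
    rintro ⟨_, y, hy⟩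
    exact hji (C.unique hg1 hy hx)
  · intro h; exact absurd (Finset.mem_univ i) h

theorem sum_eq [Fintype ι] [∀ i, Fintype (L i)] (C : Config H L) (Fn : G → ℂ)
    (hF : IsClassFunction G Fn) :
    ∑ g : G, Fn g = Fn 1 + ∑ i, ((L i).index : ℂ) * ∑ x : L i, ind (H i) (L i) x * Fn x := by
  classical
  have h1 : ∀ g : G, Fn g = (if g = 1 then Fn 1 else 0) +
      ∑ i, indFun (L i) (ind (H i) (L i)) g * Fn g := by
    intro g
    by_cases hg : g = 1
    · subst hg
      rw [if_pos rfl]
      have : ∀ i, indFun (L i) (ind (H i) (L i)) (1 : G) = 0 :=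
        fun i => indFun_ind_of_not (fun h => h.1 rfl)
      simp [this]
    · rw [if_neg hg, ← Finset.sum_mul, C.sum_indFun hg]; ring
  calc ∑ g : G, Fn g = ∑ g : G, ((if g = 1 then Fn 1 else 0) +
      ∑ i, indFun (L i) (ind (H i) (L i)) g * Fn g) := Finset.sum_congr rfl (fun g _ => h1 g)
    _ = Fn 1 + ∑ i, ∑ g : G, indFun (L i) (ind (H i) (L i)) g * Fn g := by
      rw [Finset.sum_add_distrib, Finset.sum_ite_eq' Finset.univ (1 : G) (fun _ => Fn 1),
        if_pos (Finset.mem_univ _), Finset.sum_comm]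
    _ = _ := by
      congr 1
      apply Finset.sum_congr rfl
      intro i _
      exact sum_mul_indFun_ind Fn hF

end Config

end Cfsg.Agent.Lib.Helper3.FP
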