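import Mathlib
import Cfsg.Agent.Lib.Helper3.FP2
import Cfsg.Agent.Lib.Helper3.BL14
import Cfsg.Agent.Lib.Lead.Sib2
import Cfsg.Agent.Lib.Helper6.IrrBasis
import Cfsg.Agent.Lib.Helper6.Constituent

/-! A class function whose nonprincipal coefficients are proportional to degrees is constant off 1;
Bessel's inequality for `classInner`. -/
set_option autoImplicit false
open Cfsg
open scoped ComplexConjugate

namespace Cfsg.Agent.Lib.Helper3.FP

open Cfsg.Agent.Lib.Helper6

section const

variable {K : Type*} [Group K] [Fintype K]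

theorem const_of_prop (u : K → ℂ) (hu : IsClassFunction K u)
    (h : ∀ θ θ' : K → ℂ, IsIrrCharacter K θ → IsIrrCharacter K θ' → θ ≠ (fun _ => 1) →
      θ' ≠ (fun _ => 1) → θ' 1 * classInner u θ = θ 1 * classInner u θ') :
    ∃ c : ℂ, ∀ x : K, x ≠ 1 → u x = c := by
  classical
  haveI : Fintype (IrrCharacter K) := Fintype.ofFinite _
  have hexp := classFunction_eq_sum u hu
  by_cases hall : ∀ θ : IrrCharacter K, (θ : K → ℂ) = fun _ => 1
  · refine ⟨classInner u (fun _ => 1), fun x _ => ?_⟩
    have e := congrFun hexp x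
    rw [Finset.sum_apply] at e
    rw [e]
    have : ∀ χ : IrrCharacter K, (classInner u (χ : K → ℂ) • (χ : K → ℂ)) x =
        classInner u (fun _ => 1) * (if χ = Cfsg.Agent.Lib.Helper3.BL.oneIrrG K then 1 else 0) := by
      intro χ
      have hχ : χ = Cfsg.Agent.Lib.Helper3.BL.oneIrrG K := Subtype.ext (hall χ)
      rw [if_pos hχ, hχ]
      simp [Cfsg.Agent.Lib.Helper3.BL.oneIrrG]
    simp_rw [this]
    rw [← Finset.mul_sum]
    simp
  · push Not at hall
    obtain ⟨θ₀, hθ₀⟩ := hall
    have hθ₀1 : (θ₀ : K → ℂ) 1 ≠ 0 := IsIrrCharacter.apply_one_ne_zero θ₀.2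
    set t : ℂ := classInner u (θ₀ : K → ℂ) / (θ₀ : K → ℂ) 1 with ht
    have hcoef : ∀ χ : IrrCharacter K, (χ : K → ℂ) ≠ (fun _ => 1) →
        classInner u (χ : K → ℂ) = t * (χ : K → ℂ) 1 := by
      intro χ hχ
      have := h (χ : K → ℂ) (θ₀ : K → ℂ) χ.2 θ₀.2 hχ hθ₀
      rw [ht]
      field_simp
      linear_combination this
    refine ⟨classInner u (fun _ => 1) - t, fun x hx => ?_⟩
    have e := congrFun hexp x
    rw [Finset.sum_apply] at e
    rw [e]
    have hterm : ∀ χ : IrrCharacter K, (classInner u (χ : K → ℂ) • (χ : K → ℂ)) x =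
        t * ((χ : K → ℂ) 1 * (χ : K → ℂ) x) +
          (classInner u (fun _ => 1) - t) *
            (if χ = Cfsg.Agent.Lib.Helper3.BL.oneIrrG K then 1 else 0) := by
      intro χ
      by_cases hχ : χ = Cfsg.Agent.Lib.Helper3.BL.oneIrrG K
      · rw [if_pos hχ, hχ]
        simp [Cfsg.Agent.Lib.Helper3.BL.oneIrrG]
      · rw [if_neg hχ]
        have hχ' : (χ : K → ℂ) ≠ fun _ => 1 := fun h0 => hχ (Subtype.ext h0)
        rw [Pi.smul_apply, smul_eq_mul, hcoef χ hχ']
        ring
    simp_rw [hterm]
    rw [Finset.sum_add_distrib, ← Finset.mul_sum, ← Finset.mul_sum,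
      Cfsg.Agent.Lib.Lead.Sib.sum_deg_mul x hx]
    simp

end const

section bessel

variable {G : Type*} [Group G] [Fintype G]

theorem classInner_self_re_nonneg (w : G → ℂ) : 0 ≤ (classInner w w).re := by
  unfold classInner
  have h : ∀ g : G, w g * conj (w g) = ((Complex.normSq (w g) : ℝ) : ℂ) := fun g =>
    Complex.mul_conj (w g)
  simp_rw [h]
  rw [← Complex.ofReal_sum, ← Complex.ofReal_natCast, ← Complex.ofReal_inv, ← Complex.ofReal_mul,
    Complex.ofReal_re]
  apply mul_nonneg
  · positivity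
  · exact Finset.sum_nonneg (fun g _ => Complex.normSq_nonneg _)

/-- one step of Bessel -/
theorem classInner_sub_smul (Γ v : G → ℂ) (N : ℝ) (hN : N ≠ 0) (hv : classInner v v = (N : ℂ)) :
    classInner (Γ - (classInner Γ v / N) • v) (Γ - (classInner Γ v / N) • v) =
      classInner Γ Γ - ((Complex.normSq (classInner Γ v) / N : ℝ) : ℂ) := by
  have hN' : (N : ℂ) ≠ 0 := by exact_mod_cast hN
  rw [classInner_sub_left, classInner_sub_right, classInner_sub_right, classInner_smul_left,
    classInner_smul_right, classInner_smul_left, classInner_smul_right, hv,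
    ← classInner_conj_symm Γ v]
  have hns : ((Complex.normSq (classInner Γ v) / N : ℝ) : ℂ) =
      classInner Γ v * conj (classInner Γ v) / (N : ℂ) := by
    rw [Complex.ofReal_div, ← Complex.mul_conj]
  rw [hns]
  have hc : conj ((N : ℂ)) = (N : ℂ) := Complex.conj_ofReal N
  rw [map_div₀, hc]
  field_simp
  ring

theorem bessel {ι : Type*} (s : Finset ι) (v : ι → G → ℂ) (N : ι → ℝ) (hN : ∀ i ∈ s, 0 < N i)
    (hnorm : ∀ i ∈ s, classInner (v i) (v i) = (N i : ℂ))
    (horth : ∀ i ∈ s, ∀ j ∈ s, i ≠ j → classInner (v i) (v j) = 0) :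
    ∀ Γ : G → ℂ, ∑ i ∈ s, Complex.normSq (classInner Γ (v i)) / N i ≤ (classInner Γ Γ).re := by
  classical
  induction s using Finset.induction_on with
  | empty =>
    intro Γ
    simpa using classInner_self_re_nonneg Γ
  | insert a t ha ih =>
    intro Γ
    rw [Finset.sum_insert ha]
    have hNa := hN a (Finset.mem_insert_self a t)
    have hva := hnorm a (Finset.mem_insert_self a t)
    set Γ' : G → ℂ := Γ - (classInner Γ (v a) / (N a : ℂ)) • v a with hΓ'
    have ih' := ih (fun i hi => hN i (Finset.mem_insert_of_mem hi))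
      (fun i hi => hnorm i (Finset.mem_insert_of_mem hi))
      (fun i hi j hj hij => horth i (Finset.mem_insert_of_mem hi) j (Finset.mem_insert_of_mem hj) hij)
      Γ'
    have h1 : ∀ i ∈ t, classInner Γ' (v i) = classInner Γ (v i) := by
      intro i hi
      have hai : a ≠ i := fun h => ha (h ▸ hi)
      rw [hΓ', classInner_sub_left, classInner_smul_left,
        horth a (Finset.mem_insert_self a t) i (Finset.mem_insert_of_mem hi) hai]
      ring
    have h2 : ∑ i ∈ t, Complex.normSq (classInner Γ' (v i)) / N i =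
        ∑ i ∈ t, Complex.normSq (classInner Γ (v i)) / N i :=
      Finset.sum_congr rfl (fun i hi => by rw [h1 i hi])
    rw [h2] at ih'
    have h3 := classInner_sub_smul Γ (v a) (N a) (ne_of_gt hNa) hva
    rw [← hΓ'] at h3
    have h4 : (classInner Γ' Γ').re = (classInner Γ Γ).re -
        Complex.normSq (classInner Γ (v a)) / N a := by
      rw [h3, Complex.sub_re, Complex.ofReal_re]
    rw [h4] at ih'
    linarith

end bessel

end Cfsg.Agent.Lib.Helper3.FP
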