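import Mathlib
import Cfsg.Agent.Lib.Helper3.FP3
import Cfsg.Agent.S1529
import Cfsg.Agent.Lib.Helper6.Linear
import Cfsg.Agent.Lib.Helper6.IndLinear
import Cfsg.Agent.Lib.Helper6.Mult

/-! Per-family character data: the coherent extension, its sign, a character of degree `e`. -/
set_option autoImplicit false
open Cfsg
open scoped ComplexConjugate

namespace Cfsg.Agent.Lib.Helper3.FP

open Cfsg.Agent.Lib.Helper6

variable {G : Type*} [Group G] [Fintype G]

/-- the characters of `L` induced from nonprincipal irreducible characters of the kernel -/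
abbrev SS (H L : Subgroup G) [Fintype L] : Set (L → ℂ) := inducedIrrAbove (H.subgroupOf L) ⊥

variable {H L : Subgroup G} [Fintype L]

theorem Fam.S_irr (F : Fam H L) : ∀ ξ ∈ SS H L, IsIrrCharacter L ξ := by
  rintro ξ ⟨θ, hθ, hθ1, _, rfl⟩
  haveI := F.normalK
  exact Cfsg.Agent.Lib.Lead.Frob.indFun_irr_of_FK _ F.fk hθ hθ1

theorem Fam.S_vanish (F : Fam H L) {ξ : L → ℂ} (hξ : ξ ∈ zspan (SS H L)) (x : L)
    (hx : (x : G) ∉ H) : ξ x = 0 := by
  haveI := F.normalK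
  exact (Cfsg.Agent.Lib.Lead.Sib.zspan_iia_props (H.subgroupOf L) hξ).2 x
    (fun h => hx ((Fam.mem_K x).1 h))

theorem Fam.S_gen (F : Fam H L) {ξ : L → ℂ} (hξ : ξ ∈ zspan (SS H L)) :
    IsGeneralizedCharacter L ξ := by
  haveI := F.normalK
  exact (Cfsg.Agent.Lib.Lead.Sib.zspan_iia_props (H.subgroupOf L) hξ).1

theorem subset_zspan {X : Type*} {S : Set (X → ℂ)} {ξ : X → ℂ} (h : ξ ∈ S) : ξ ∈ zspan S :=
  Submodule.subset_span h

theorem odd_card_sub [Finite G] (hodd : Odd (Nat.card G)) (L : Subgroup G) : Odd (Nat.card L) := by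
  have h := Subgroup.card_subgroup_dvd_card L
  obtain ⟨k, hk⟩ := h
  rw [hk] at hodd
  exact (Nat.odd_mul.1 hodd).1

theorem Fam.exists_linear (F : Fam H L) :
    ∃ ψ ∈ SS H L, ψ 1 = ((H.subgroupOf L).index : ℂ) := by
  classical
  haveI := F.normalK
  haveI hnil : Group.IsNilpotent (H.subgroupOf L) := F.nilpotentK
  haveI : Nontrivial (H.subgroupOf L) := (Subgroup.nontrivial_iff_ne_bot _).2 F.K_ne_bot
  have hlt : commutator (H.subgroupOf L) < ⊤ :=
    Group.IsSolvable.commutator_lt_top_of_nontrivial _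
  have hidx : 1 < (commutator (H.subgroupOf L)).index := by
    have h0 : (commutator (H.subgroupOf L)).index ≠ 0 := Subgroup.index_ne_zero_of_finite
    have h1 : (commutator (H.subgroupOf L)).index ≠ 1 := by
      intro h
      rw [Subgroup.index_eq_one] at h
      exact (ne_of_lt hlt) h
    omega
  rw [← card_linear_characters] at hidx
  haveI : Finite {χ : IrrCharacter (H.subgroupOf L) // (χ : (H.subgroupOf L) → ℂ) 1 = 1} :=
    Nat.finite_of_card_ne_zero (by omega)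
  haveI : Nontrivial {χ : IrrCharacter (H.subgroupOf L) // (χ : (H.subgroupOf L) → ℂ) 1 = 1} :=
    Finite.one_lt_card_iff_nontrivial.1 hidx
  obtain ⟨θ, hθ⟩ := exists_ne (⟨Cfsg.Agent.Lib.Helper3.BL.oneIrrG (H.subgroupOf L), rfl⟩ :
    {χ : IrrCharacter (H.subgroupOf L) // (χ : (H.subgroupOf L) → ℂ) 1 = 1})
  have hθ1 : ((θ : IrrCharacter (H.subgroupOf L)) : (H.subgroupOf L) → ℂ) ≠ fun _ => 1 := by
    intro h
    apply hθ
    apply Subtype.ext
    apply Subtype.ext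
    exact h
  refine ⟨indFun (H.subgroupOf L) (θ : IrrCharacter (H.subgroupOf L)),
    ⟨_, (θ : IrrCharacter (H.subgroupOf L)).2, hθ1, ?_, rfl⟩, ?_⟩
  · intro a ha
    rw [Subgroup.mem_bot] at ha
    have : a = 1 := Subtype.ext ha
    rw [this]
  · rw [indFun_one, θ.2, mul_one]

theorem Fam.exists_ne (F : Fam H L) (hodd : Odd (Nat.card G)) :
    ∀ ξ ∈ SS H L, ∃ ξ' ∈ SS H L, ξ' ≠ ξ := by
  haveI := F.normalK
  haveI hnil : Group.IsNilpotent (H.subgroupOf L) := F.nilpotentK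
  obtain ⟨_, R, hR⟩ := Cfsg.Agent.Lib.Lead.Sib.frob_cs H L (odd_card_sub hodd L) (H.subgroupOf L)
    (fun x => Fam.mem_K x) F.K_ne_bot inferInstance F.fk F.K_out F.ti'
  intro ξ hξ
  exact ⟨conjFun ξ, hR.conj_mem ξ hξ, hR.conj_ne ξ hξ⟩

/-- the coherent extension and its sign -/
structure Dat (H L : Subgroup G) [Fintype L] where
  τ : (L → ℂ) → (G → ℂ)
  ε : ℂ
  hε : ε = 1 ∨ ε = -1
  iso : IsLinearIsometryOn (zspan (SS H L)) τ
  agree : ∀ α ∈ zspan (SS H L), α 1 = 0 → τ α = indFun L α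
  irr : ∀ χ ∈ SS H L, IsIrrCharacter G (ε • τ χ)
  inj : ∀ χ ∈ SS H L, ∀ ψ ∈ SS H L, τ χ = τ ψ → χ = ψ

theorem Fam.exists_dat (F : Fam H L) (hodd : Odd (Nat.card G)) : Nonempty (Dat H L) := by
  haveI := F.normalK
  have hnil : Group.IsNilpotent (H.subgroupOf L) := F.nilpotentK
  obtain ⟨_, τ₁, hτ₁, hagree⟩ := Cfsg.Agent.Lib.Lead.Sib.sibley_K H L (odd_card_sub hodd L) F.le
    (H.subgroupOf L) (fun x => Fam.mem_K x) F.K_ne_bot hnil F.fk F.K_out F.ti'
  have hmem : ∀ α ∈ zspan (SS H L), α 1 = 0 → α ∈ zspanOn (SS H L) {1}ᶜ := by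
    intro α hα h1
    refine ⟨hα, fun x hx => ?_⟩
    have : x = 1 := by
      by_contra h
      exact hx h
    rw [this, h1]
  obtain ⟨ψ, hψ, -⟩ := F.exists_linear
  obtain ⟨ψ', hψ', hne⟩ := F.exists_ne hodd ψ hψ
  obtain ⟨ε, hε, hirr, hinj⟩ := Cfsg.Agent.S1529.result L (SS H L) F.S_irr
    ⟨ψ', hψ', ψ, hψ, hne⟩ τ₁ hτ₁ (by
      intro α hα h1
      rw [hagree α (hmem α hα h1)]
      show indFun L α 1 = 0
      rw [indFun_one, h1, mul_zero])
  exact ⟨⟨τ₁, ε, hε, hτ₁, fun α hα h1 => hagree α (hmem α hα h1), hirr, hinj⟩⟩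

end Cfsg.Agent.Lib.Helper3.FP
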