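import Mathlib
import Cfsg.Agent.Lib.Helper3.FP4

/-! Orthogonality between the coherent extensions of different families; constancy of values. -/
set_option autoImplicit false
open Cfsg
open scoped ComplexConjugate

namespace Cfsg.Agent.Lib.Helper3.FP

open Cfsg.Agent.Lib.Helper6

variable {G : Type*} [Group G] [Fintype G]

section span

variable {L : Subgroup G} [Fintype L] {S : Set (L → ℂ)} {τ : (L → ℂ) → (G → ℂ)}

theorem zero_mem_zspan : (0 : L → ℂ) ∈ zspan S := Submodule.zero_mem _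

theorem iso_zero (h : IsLinearIsometryOn (zspan S) τ) : τ 0 = 0 := by
  have := h.2.1 0 zero_mem_zspan 0
  rw [zero_smul, zero_smul] at this
  exact this

theorem iso_lin2 (h : IsLinearIsometryOn (zspan S) τ) {ξ ξ' : L → ℂ} (hξ : ξ ∈ zspan S)
    (hξ' : ξ' ∈ zspan S) (m n : ℤ) : τ (m • ξ - n • ξ') = m • τ ξ - n • τ ξ' := by
  have h1 : m • ξ ∈ zspan S := Submodule.smul_mem _ m hξ
  have h2 : (-n) • ξ' ∈ zspan S := Submodule.smul_mem _ (-n) hξ'
  have e : m • ξ - n • ξ' = m • ξ + (-n) • ξ' := by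
    rw [neg_smul, sub_eq_add_neg]
  rw [e, h.1 _ h1 _ h2, h.2.1 ξ hξ m, h.2.1 ξ' hξ' (-n), neg_smul, sub_eq_add_neg]

theorem span_inner_zero (h : IsLinearIsometryOn (zspan S) τ) (X : G → ℂ)
    (h0 : ∀ ξ ∈ S, classInner (τ ξ) X = 0) : ∀ β ∈ zspan S, classInner (τ β) X = 0 := by
  intro β hβ
  unfold zspan at hβ
  induction hβ using Submodule.span_induction with
  | mem x hx => exact h0 x hx
  | zero => rw [iso_zero h, classInner_zero_left]
  | add x y hx hy ihx ihy =>
    rw [h.1 x hx y hy, classInner_add_left, ihx, ihy, add_zero]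
  | smul a x hx ihx =>
    rw [h.2.1 x hx a, ← Int.cast_smul_eq_zsmul ℂ a (τ x), classInner_smul_left, ihx, mul_zero]

theorem span_inner_zero_right (h : IsLinearIsometryOn (zspan S) τ) (X : G → ℂ)
    (h0 : ∀ ξ ∈ S, classInner X (τ ξ) = 0) : ∀ β ∈ zspan S, classInner X (τ β) = 0 := by
  intro β hβ
  rw [← classInner_conj_symm]
  have := span_inner_zero h X (fun ξ hξ => by rw [← classInner_conj_symm, h0 ξ hξ, map_zero]) β hβ
  rw [this, map_zero]

end span

section supp

variable {H L : Subgroup G} [Fintype L]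

theorem indFun_eq_zero_of_supp (α : L → ℂ) (hα : ∀ x : L, ¬ ((x : G) ∈ H ∧ x ≠ 1) → α x = 0)
    {g : G} (hg : ¬ (g ≠ 1 ∧ ∃ x : G, x * g * x⁻¹ ∈ H)) : indFun L α g = 0 := by
  unfold indFun
  have : ∀ y : G, extendByZero L α (y⁻¹ * g * y) = 0 := by
    intro y
    by_cases hy : y⁻¹ * g * y ∈ L
    · rw [extendByZero_of_mem L _ hy]
      apply hα
      rintro ⟨h1, h2⟩
      apply hg
      refine ⟨?_, y⁻¹, by simpa using h1⟩
      intro h0
      apply h2
      apply Subtype.ext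
      show y⁻¹ * g * y = 1
      rw [h0]; group
    · exact extendByZero_of_not_mem L _ hy
  simp [this]

theorem Fam.supp (F : Fam H L) {α : L → ℂ} (hα : α ∈ zspan (SS H L)) (h1 : α 1 = 0) :
    ∀ x : L, ¬ ((x : G) ∈ H ∧ x ≠ 1) → α x = 0 := by
  intro x hx
  by_cases hxH : (x : G) ∈ H
  · have : x = 1 := by
      by_contra h
      exact hx ⟨hxH, h⟩
    rw [this, h1]
  · exact F.S_vanish hα x hxH

end supp

section degs

variable {L : Type*} [Group L]

theorem irr_deg {ξ : L → ℂ} (h : IsIrrCharacter L ξ) : ∃ a : ℕ, 0 < a ∧ ξ 1 = (a : ℂ) :=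
  ⟨charDegree ξ, IsIrrCharacter.charDegree_pos h,
    IsCharacter.apply_one_eq_charDegree (IsIrrCharacter.isCharacter h)⟩

end degs

end Cfsg.Agent.Lib.Helper3.FP
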