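import Mathlib
import Cfsg.Agent.Lib.Helper3.FP5

/-! V1/V2: orthogonality between coherent extensions of different families and to the
principal character. -/
set_option autoImplicit false
open Cfsg
open scoped ComplexConjugate

namespace Cfsg.Agent.Lib.Helper3.FP

open Cfsg.Agent.Lib.Helper6

variable {G : Type*} [Group G] [Fintype G]

section dat

variable {H L : Subgroup G} [Fintype L]

theorem Dat.eps_mul (d : Dat H L) : d.ε * d.ε = 1 := by
  rcases d.hε with h | h <;> rw [h] <;> norm_num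

theorem Dat.eps_conj (d : Dat H L) : conj d.ε = d.ε := by
  rcases d.hε with h | h <;> rw [h] <;> simp

theorem Dat.eps_ne (d : Dat H L) : d.ε ≠ 0 := by
  rcases d.hε with h | h <;> rw [h] <;> norm_num

theorem Dat.tau_eq (d : Dat H L) (ξ : L → ℂ) : d.τ ξ = d.ε • (d.ε • d.τ ξ) := by
  rw [smul_smul, d.eps_mul, one_smul]

theorem Dat.smul_inj (d : Dat H L) {ξ ξ' : L → ℂ} (hξ : ξ ∈ SS H L) (hξ' : ξ' ∈ SS H L)
    (h : d.ε • d.τ ξ = d.ε • d.τ ξ') : ξ = ξ' := by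
  apply d.inj ξ hξ ξ' hξ'
  rw [d.tau_eq ξ, h, ← d.tau_eq ξ']

theorem alt_mem {ξ ξ' : L → ℂ} (hξ : ξ ∈ SS H L) (hξ' : ξ' ∈ SS H L) (a a' : ℕ)
    (ha : ξ 1 = a) (ha' : ξ' 1 = a') :
    ((a' : ℤ) • ξ - (a : ℤ) • ξ') ∈ zspan (SS H L) ∧ ((a' : ℤ) • ξ - (a : ℤ) • ξ') 1 = 0 := by
  constructor
  · exact Submodule.sub_mem _ (Submodule.smul_mem _ _ (subset_zspan hξ))
      (Submodule.smul_mem _ _ (subset_zspan hξ'))
  · simp only [Pi.sub_apply, Pi.smul_apply, ha, ha']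
    simp
    ring

theorem inner_alt_left (X X' Y : G → ℂ) (a a' : ℕ) :
    classInner ((a' : ℤ) • X - (a : ℤ) • X') Y =
      (a' : ℂ) * classInner X Y - (a : ℂ) * classInner X' Y := by
  rw [classInner_sub_left, ← Int.cast_smul_eq_zsmul ℂ (a' : ℤ) X,
    ← Int.cast_smul_eq_zsmul ℂ (a : ℤ) X', classInner_smul_left, classInner_smul_left]
  simp

theorem inner_alt_right (X Y Y' : G → ℂ) (b b' : ℕ) :
    classInner X ((b' : ℤ) • Y - (b : ℤ) • Y') =
      (b' : ℂ) * classInner X Y - (b : ℂ) * classInner X Y' := by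
  rw [classInner_sub_right, ← Int.cast_smul_eq_zsmul ℂ (b' : ℤ) Y,
    ← Int.cast_smul_eq_zsmul ℂ (b : ℤ) Y', classInner_smul_right, classInner_smul_right]
  simp

end dat

section V1

variable {H L H' L' : Subgroup G} [Fintype L] [Fintype L']

open Classical in
theorem inner_tau_tau (d : Dat H L) (d' : Dat H' L') {ξ : L → ℂ} {η : L' → ℂ}
    (hξ : ξ ∈ SS H L) (hη : η ∈ SS H' L') :
    classInner (d.τ ξ) (d'.τ η) =
      d.ε * d'.ε * (if d.ε • d.τ ξ = d'.ε • d'.τ η then 1 else 0) := by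
  rw [← classInner_isIrrCharacter (d.irr ξ hξ) (d'.irr η hη)]
  conv_lhs => rw [d.tau_eq ξ, d'.tau_eq η]
  rw [classInner_smul_left, classInner_smul_right, d'.eps_conj]
  ring

theorem inner_ind_disj (hdisj : ∀ g : G, g ≠ 1 → (∃ x : G, x * g * x⁻¹ ∈ H) →
      (∃ y : G, y * g * y⁻¹ ∈ H') → False)
    (α : L → ℂ) (hα : ∀ x : L, ¬ ((x : G) ∈ H ∧ x ≠ 1) → α x = 0)
    (β : L' → ℂ) (hβ : ∀ x : L', ¬ ((x : G) ∈ H' ∧ x ≠ 1) → β x = 0) :
    classInner (indFun L α) (indFun L' β) = 0 := by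
  unfold classInner
  have : ∀ g : G, indFun L α g * conj (indFun L' β g) = 0 := by
    intro g
    by_cases hg : g ≠ 1 ∧ ∃ x : G, x * g * x⁻¹ ∈ H
    · have : indFun L' β g = 0 := by
        apply indFun_eq_zero_of_supp β hβ
        rintro ⟨h1, h2⟩
        exact hdisj g h1 hg.2 h2
      rw [this, map_zero, mul_zero]
    · rw [indFun_eq_zero_of_supp α hα hg, zero_mul]
  simp [this]

theorem V1 (F : Fam H L) (F' : Fam H' L') (hodd : Odd (Nat.card G)) (d : Dat H L) (d' : Dat H' L')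
    (hdisj : ∀ g : G, g ≠ 1 → (∃ x : G, x * g * x⁻¹ ∈ H) → (∃ y : G, y * g * y⁻¹ ∈ H') → False) :
    ∀ ξ ∈ SS H L, ∀ η ∈ SS H' L', classInner (d.τ ξ) (d'.τ η) = 0 := by
  classical
  intro ξ hξ η hη
  obtain ⟨ξ', hξ', hne⟩ := F.exists_ne hodd ξ hξ
  obtain ⟨η', hη', hne'⟩ := F'.exists_ne hodd η hη
  obtain ⟨a, ha0, ha⟩ := irr_deg (F.S_irr ξ hξ)
  obtain ⟨a', ha0', ha'⟩ := irr_deg (F.S_irr ξ' hξ')
  obtain ⟨b, hb0, hb⟩ := irr_deg (F'.S_irr η hη)
  obtain ⟨b', hb0', hb'⟩ := irr_deg (F'.S_irr η' hη')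
  obtain ⟨hα, hα1⟩ := alt_mem hξ hξ' a a' ha ha'
  obtain ⟨hβ, hβ1⟩ := alt_mem hη hη' b b' hb hb'
  have h1 := inner_ind_disj hdisj _ (F.supp hα hα1) _ (F'.supp hβ hβ1)
  rw [← d.agree _ hα hα1, ← d'.agree _ hβ hβ1,
    iso_lin2 d.iso (subset_zspan hξ) (subset_zspan hξ'),
    iso_lin2 d'.iso (subset_zspan hη) (subset_zspan hη'), inner_alt_left, inner_alt_right,
    inner_alt_right, inner_tau_tau d d' hξ hη, inner_tau_tau d d' hξ hη',
    inner_tau_tau d d' hξ' hη, inner_tau_tau d d' hξ' hη'] at h1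
  rw [inner_tau_tau d d' hξ hη]
  by_cases hXY : d.ε • d.τ ξ = d'.ε • d'.τ η
  · exfalso
    have hq : d.ε • d.τ ξ ≠ d'.ε • d'.τ η' := by
      intro h
      apply hne'
      exact (d'.smul_inj hη hη' (hXY.symm.trans h)).symm
    have hr : d.ε • d.τ ξ' ≠ d'.ε • d'.τ η := by
      intro h
      apply hne
      exact d.smul_inj hξ' hξ (h.trans hXY.symm)
    rw [if_pos hXY, if_neg hq, if_neg hr] at h1
    have hee : d.ε * d'.ε ≠ 0 := mul_ne_zero d.eps_ne d'.eps_ne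
    by_cases hs : d.ε • d.τ ξ' = d'.ε • d'.τ η'
    · rw [if_pos hs] at h1
      have h2 : d.ε * d'.ε * ((a' : ℂ) * b' + (a : ℂ) * b) = 0 := by linear_combination h1
      rcases mul_eq_zero.1 h2 with h3 | h3
      · exact hee h3
      · have : (a' * b' + a * b : ℕ) = 0 := by exact_mod_cast h3
        have : 0 < a' * b' := Nat.mul_pos ha0' hb0'
        omega
    · rw [if_neg hs] at h1
      have h2 : d.ε * d'.ε * ((a' : ℂ) * b') = 0 := by linear_combination h1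
      rcases mul_eq_zero.1 h2 with h3 | h3
      · exact hee h3
      · have : (a' * b' : ℕ) = 0 := by exact_mod_cast h3
        have : 0 < a' * b' := Nat.mul_pos ha0' hb0'
        omega
  · rw [if_neg hXY, mul_zero]

end V1

section V2

variable {H L : Subgroup G} [Fintype L]

theorem Fam.S_ne_one (F : Fam H L) {ξ : L → ℂ} (hξ : ξ ∈ SS H L) : ξ ≠ fun _ => 1 := by
  intro h
  obtain ⟨x, hx, hxH⟩ := F.out
  have := F.S_vanish (subset_zspan hξ) ⟨x, hx⟩ hxH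
  rw [h] at this
  exact one_ne_zero this

theorem Fam.inner_one (F : Fam H L) {ξ : L → ℂ} (hξ : ξ ∈ SS H L) :
    classInner ξ (fun _ => (1 : ℂ)) = 0 := by
  classical
  rw [classInner_isIrrCharacter (F.S_irr ξ hξ) isIrrCharacter_one, if_neg (F.S_ne_one hξ)]

open Classical in
theorem inner_tau_one (d : Dat H L) {ξ : L → ℂ} (hξ : ξ ∈ SS H L) :
    classInner (d.τ ξ) (fun _ => (1 : ℂ)) =
      d.ε * (if d.ε • d.τ ξ = (fun _ => (1 : ℂ)) then 1 else 0) := by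
  rw [← classInner_isIrrCharacter (d.irr ξ hξ) isIrrCharacter_one]
  conv_lhs => rw [d.tau_eq ξ]
  rw [classInner_smul_left]

theorem isClassFunction_one : IsClassFunction G (fun _ => (1 : ℂ)) := fun _ _ => rfl

theorem V2 (F : Fam H L) (hodd : Odd (Nat.card G)) (d : Dat H L) :
    ∀ ξ ∈ SS H L, classInner (d.τ ξ) (fun _ => (1 : ℂ)) = 0 := by
  classical
  intro ξ hξ
  obtain ⟨ξ', hξ', hne⟩ := F.exists_ne hodd ξ hξ
  obtain ⟨a, ha0, ha⟩ := irr_deg (F.S_irr ξ hξ)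
  obtain ⟨a', ha0', ha'⟩ := irr_deg (F.S_irr ξ' hξ')
  obtain ⟨hα, hα1⟩ := alt_mem hξ hξ' a a' ha ha'
  have h1 := Cfsg.Agent.S0146.result L ((a' : ℤ) • ξ - (a : ℤ) • ξ') (fun _ => (1 : ℂ))
    isClassFunction_one
  rw [← d.agree _ hα hα1, iso_lin2 d.iso (subset_zspan hξ) (subset_zspan hξ'), inner_alt_left,
    inner_alt_left, F.inner_one hξ, F.inner_one hξ', inner_tau_one d hξ, inner_tau_one d hξ'] at h1
  rw [inner_tau_one d hξ]
  by_cases hX : d.ε • d.τ ξ = (fun _ => (1 : ℂ))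
  · exfalso
    have hX' : d.ε • d.τ ξ' ≠ (fun _ => (1 : ℂ)) := by
      intro h
      apply hne
      exact d.smul_inj hξ' hξ (h.trans hX.symm)
    rw [if_pos hX, if_neg hX'] at h1
    have h2 : d.ε * (a' : ℂ) = 0 := by linear_combination h1
    rcases mul_eq_zero.1 h2 with h3 | h3
    · exact d.eps_ne h3
    · have : a' = 0 := by exact_mod_cast h3
      omega
  · rw [if_neg hX, mul_zero]

end V2

end Cfsg.Agent.Lib.Helper3.FP
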