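import Mathlib
import Cfsg.Agent.Lib.Helper3.FP6

/-! Constancy of the values of the exceptional characters on the kernels. -/
set_option autoImplicit false
open Cfsg
open scoped ComplexConjugate

namespace Cfsg.Agent.Lib.Helper3.FP

open Cfsg.Agent.Lib.Helper6

variable {G : Type*} [Group G] [Fintype G]

section constA

variable {H L : Subgroup G} [Fintype L]

theorem const_of_inner (F : Fam H L) (X : G → ℂ) (hX : IsClassFunction G X) (Y : L → ℂ)
    (hY : IsClassFunction L Y)
    (h : ∀ β ∈ zspan (SS H L), β 1 = 0 → classInner (indFun L β) X = classInner β Y) :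
    ∃ c : ℂ, ∀ x : L, (x : G) ∈ H → x ≠ 1 → X x - Y x = c := by
  classical
  haveI : Fintype (H.subgroupOf L) := Fintype.ofFinite _
  set W : L → ℂ := fun x => X x - Y x with hW
  have hWc : IsClassFunction L W := by
    intro g k
    show X ((k * g * k⁻¹ : L) : G) - Y (k * g * k⁻¹) = X g - Y g
    rw [hY g k]
    have := hX (g : G) (k : G)
    simp only [Subgroup.coe_mul, Subgroup.coe_inv]
    rw [this]
  set u : (H.subgroupOf L) → ℂ := fun k => W (k : L) with hu
  have huc : IsClassFunction (H.subgroupOf L) u := by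
    intro g k
    exact hWc (g : L) (k : L)
  have hβW : ∀ β ∈ zspan (SS H L), β 1 = 0 → classInner β W = 0 := by
    intro β hβ hβ1
    have e1 := Cfsg.Agent.S0146.result L β X hX
    rw [h β hβ hβ1] at e1
    have e2 : classInner β W = classInner β (fun x : L => X x) - classInner β Y := by
      rw [← classInner_sub_right]
      rfl
    rw [e2, ← e1, sub_self]
  obtain ⟨c, hc⟩ := const_of_prop u huc (by
    intro θ θ' hθ hθ' hθ1 hθ1'
    obtain ⟨a, ha0, ha⟩ := irr_deg hθ
    obtain ⟨a', ha0', ha'⟩ := irr_deg hθ'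
    have hm : indFun (H.subgroupOf L) θ ∈ SS H L :=
      ⟨θ, hθ, hθ1, fun k hk => by
        rw [Subgroup.mem_bot] at hk
        rw [show k = 1 from Subtype.ext hk], rfl⟩
    have hm' : indFun (H.subgroupOf L) θ' ∈ SS H L :=
      ⟨θ', hθ', hθ1', fun k hk => by
        rw [Subgroup.mem_bot] at hk
        rw [show k = 1 from Subtype.ext hk], rfl⟩
    have hd : indFun (H.subgroupOf L) θ 1 = ((H.subgroupOf L).index * a : ℕ) := by
      rw [indFun_one, ha]; push_cast; ring
    have hd' : indFun (H.subgroupOf L) θ' 1 = ((H.subgroupOf L).index * a' : ℕ) := by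
      rw [indFun_one, ha']; push_cast; ring
    obtain ⟨hβ, hβ1⟩ := alt_mem hm hm' _ _ hd hd'
    have e := hβW _ hβ hβ1
    rw [inner_alt_left, Cfsg.Agent.S0146.result (H.subgroupOf L) θ W hWc,
      Cfsg.Agent.S0146.result (H.subgroupOf L) θ' W hWc] at e
    have e' : (a' : ℂ) * classInner θ u = (a : ℂ) * classInner θ' u := by
      have hidx : ((H.subgroupOf L).index : ℂ) ≠ 0 := by
        have : (H.subgroupOf L).index ≠ 0 := Subgroup.index_ne_zero_of_finite
        exact_mod_cast this
      push_cast at e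
      have e2 : ((H.subgroupOf L).index : ℂ) *
          ((a' : ℂ) * classInner θ u - (a : ℂ) * classInner θ' u) = 0 := by
        linear_combination e
      rcases mul_eq_zero.1 e2 with h3 | h3
      · exact absurd h3 hidx
      · linear_combination h3
    rw [ha, ha', ← classInner_conj_symm θ u, ← classInner_conj_symm θ' u]
    have := congrArg conj e'
    simpa using this)
  refine ⟨c, fun x hx hx1 => ?_⟩
  have := hc ⟨x, (Fam.mem_K x).2 hx⟩ (fun h => hx1 (congrArg Subtype.val h))
  exact this

end constA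

section apps

variable {H L H' L' : Subgroup G} [Fintype L] [Fintype L']

theorem Dat.chi_class (d : Dat H L) {ξ : L → ℂ} (hξ : ξ ∈ SS H L) :
    IsClassFunction G (d.ε • d.τ ξ) :=
  IsIrrCharacter.isClassFunction (d.irr ξ hξ)

/-- values of an exceptional character of one family on the kernel of another -/
theorem const_cross (F : Fam H L) (F' : Fam H' L') (hodd : Odd (Nat.card G)) (d : Dat H L)
    (d' : Dat H' L')
    (hdisj : ∀ g : G, g ≠ 1 → (∃ x : G, x * g * x⁻¹ ∈ H) → (∃ y : G, y * g * y⁻¹ ∈ H') → False)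
    {ξ : L → ℂ} (hξ : ξ ∈ SS H L) :
    ∃ c : ℂ, ∀ x : L', (x : G) ∈ H' → x ≠ 1 → (d.ε • d.τ ξ) x = c := by
  obtain ⟨c, hc⟩ := const_of_inner F' (d.ε • d.τ ξ) (d.chi_class hξ) 0 isClassFunction_zero (by
    intro β hβ hβ1
    rw [classInner_zero_right, ← d'.agree β hβ hβ1, classInner_smul_right]
    have := span_inner_zero d'.iso (d.τ ξ) (fun η hη => by
      rw [← classInner_conj_symm, V1 F F' hodd d d' hdisj ξ hξ η hη, map_zero]) β hβ
    rw [this, mul_zero])
  refine ⟨c, fun x hx hx1 => ?_⟩
  have := hc x hx hx1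
  simpa using this

/-- values of an exceptional character on its own kernel -/
theorem const_self (F : Fam H L) (d : Dat H L) {ξ : L → ℂ} (hξ : ξ ∈ SS H L) :
    ∃ c : ℂ, ∀ x : L, (x : G) ∈ H → x ≠ 1 → (d.ε • d.τ ξ) x = d.ε * ξ x + c := by
  obtain ⟨c, hc⟩ := const_of_inner F (d.ε • d.τ ξ) (d.chi_class hξ) (d.ε • ξ)
    (isClassFunction_smul _ (IsIrrCharacter.isClassFunction (F.S_irr ξ hξ))) (by
    intro β hβ hβ1
    rw [← d.agree β hβ hβ1, classInner_smul_right, classInner_smul_right,
      d.iso.2.2.1 β hβ ξ (subset_zspan hξ)])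
  refine ⟨c, fun x hx hx1 => ?_⟩
  have := hc x hx hx1
  rw [Pi.smul_apply (d.ε) ξ x, smul_eq_mul] at this
  linear_combination this

end apps

end Cfsg.Agent.Lib.Helper3.FP
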