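import Mathlib
import Cfsg.Agent.Lib.Helper3.FP7

/-! Local sums over the kernels. -/
set_option autoImplicit false
open Cfsg
open scoped ComplexConjugate

namespace Cfsg.Agent.Lib.Helper3.FP

open Cfsg.Agent.Lib.Helper6

variable {G : Type*} [Group G] [Fintype G]

section localsum

variable {H L : Subgroup G} [Fintype L]

omit [Fintype G] in
theorem sum_ind_mul (f : L → ℂ) (hf : ∀ x : L, (x : G) ∉ H → f x = 0) :
    ∑ x : L, ind H L x * f x = ∑ x : L, f x - f 1 := by
  classical
  have h1 : ∀ x : L, ind H L x * f x = f x - (if x = 1 then f 1 else 0) := by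
    intro x
    by_cases hx1 : x = 1
    · subst hx1; rw [ind_one, if_pos rfl]; ring
    · rw [if_neg hx1]
      by_cases hxH : (x : G) ∈ H
      · rw [ind_of_mem hxH hx1]; ring
      · rw [hf x hxH]; ring
  simp_rw [h1]
  rw [Finset.sum_sub_distrib, Finset.sum_ite_eq' Finset.univ (1 : L) (fun _ => f 1),
    if_pos (Finset.mem_univ _)]

omit [Fintype G] in
theorem sum_ind_congr (f g : L → ℂ) (h : ∀ x : L, (x : G) ∈ H → x ≠ 1 → f x = g x) :
    ∑ x : L, ind H L x * f x = ∑ x : L, ind H L x * g x := by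
  apply Finset.sum_congr rfl
  intro x _
  by_cases hx : (x : G) ∈ H ∧ x ≠ 1
  · rw [h x hx.1 hx.2]
  · rw [ind_of_not hx, zero_mul, zero_mul]

omit [Fintype G] in
theorem Fam.sum_ind (F : Fam H L) : ∑ x : L, ind H L x = (Nat.card H : ℂ) - 1 := by
  classical
  haveI : Fintype (H.subgroupOf L) := Fintype.ofFinite _
  have h := sum_ind_mul (H := H) (L := L) (extendByZero (H.subgroupOf L) (fun _ => (1 : ℂ)))
    (fun x hx => extendByZero_of_not_mem _ _ (fun h => hx ((Fam.mem_K x).1 h)))
  rw [sum_extendByZero (H.subgroupOf L) (fun _ => (1 : ℂ)),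
    extendByZero_of_mem _ _ (Subgroup.one_mem _)] at h
  have h2 : ∑ x : L, ind H L x * extendByZero (H.subgroupOf L) (fun _ => (1 : ℂ)) x =
      ∑ x : L, ind H L x := by
    apply Finset.sum_congr rfl
    intro x _
    by_cases hx : (x : G) ∈ H ∧ x ≠ 1
    · rw [extendByZero_of_mem _ _ ((Fam.mem_K x).2 hx.1), mul_one]
    · rw [ind_of_not hx, zero_mul]
  rw [h2] at h
  rw [h]
  simp only [Finset.sum_const, Finset.card_univ, nsmul_eq_mul, mul_one]
  rw [← Nat.card_eq_fintype_card, F.card_K]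

theorem Fam.sum_psi (F : Fam H L) {ψ : L → ℂ} (hψ : ψ ∈ SS H L) : ∑ x : L, ψ x = 0 := by
  have h := F.inner_one hψ
  unfold classInner at h
  simp only [map_one, mul_one] at h
  rcases mul_eq_zero.1 h with h1 | h1
  · exact absurd (inv_eq_zero.1 h1) (card_ne_zero_complex L)
  · exact h1

theorem Fam.sum_psi_sq (F : Fam H L) {ψ : L → ℂ} (hψ : ψ ∈ SS H L) :
    ∑ x : L, ψ x * conj (ψ x) = (Nat.card L : ℂ) := by
  classical
  have h := classInner_isIrrCharacter (F.S_irr ψ hψ) (F.S_irr ψ hψ)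
  rw [if_pos rfl] at h
  unfold classInner at h
  have hL := card_ne_zero_complex L
  field_simp at h
  exact h

theorem Fam.card_L (F : Fam H L) :
    (Nat.card L : ℂ) = ((H.subgroupOf L).index : ℂ) * (Nat.card H : ℂ) := by
  rw [← F.card_K, ← Nat.cast_mul, mul_comm, Subgroup.card_mul_index]

theorem Fam.local_sum (F : Fam H L) {ψ : L → ℂ} (hψ : ψ ∈ SS H L) (X Y : L → ℂ) (p q r s : ℂ)
    (hX : ∀ x : L, (x : G) ∈ H → x ≠ 1 → X x = p * ψ x + q)
    (hY : ∀ x : L, (x : G) ∈ H → x ≠ 1 → Y x = r * ψ x + s) :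
    ∑ x : L, ind H L x * (X x * conj (Y x)) =
      p * conj r * ((Nat.card L : ℂ) - ψ 1 * conj (ψ 1)) - p * conj s * ψ 1
        - q * conj r * conj (ψ 1) + q * conj s * ((Nat.card H : ℂ) - 1) := by
  have hv : ∀ x : L, (x : G) ∉ H → ψ x = 0 := fun x hx => F.S_vanish (subset_zspan hψ) x hx
  rw [sum_ind_congr (H := H) (fun x => X x * conj (Y x))
    (fun x => p * conj r * (ψ x * conj (ψ x)) + p * conj s * ψ x + q * conj r * conj (ψ x)
      + q * conj s * 1) (by
      intro x hx hx1
      rw [hX x hx hx1, hY x hx hx1]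
      simp only [map_add, map_mul]
      ring)]
  simp_rw [mul_add, Finset.sum_add_distrib]
  have e1 : ∑ x : L, ind H L x * (p * conj r * (ψ x * conj (ψ x))) =
      p * conj r * ((Nat.card L : ℂ) - ψ 1 * conj (ψ 1)) := by
    have := sum_ind_mul (H := H) (fun x : L => ψ x * conj (ψ x))
      (fun x hx => by rw [hv x hx, zero_mul])
    rw [F.sum_psi_sq hψ] at this
    rw [← this, Finset.mul_sum]
    apply Finset.sum_congr rfl
    intro x _; ring
  have e2 : ∑ x : L, ind H L x * (p * conj s * ψ x) = - (p * conj s * ψ 1) := by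
    have := sum_ind_mul (H := H) (fun x : L => ψ x) hv
    rw [F.sum_psi hψ, zero_sub] at this
    rw [← mul_neg, ← this, Finset.mul_sum]
    apply Finset.sum_congr rfl
    intro x _; ring
  have e3 : ∑ x : L, ind H L x * (q * conj r * conj (ψ x)) = - (q * conj r * conj (ψ 1)) := by
    have := sum_ind_mul (H := H) (fun x : L => conj (ψ x))
      (fun x hx => by rw [hv x hx, map_zero])
    have h0 : ∑ x : L, conj (ψ x) = 0 := by
      rw [← map_sum, F.sum_psi hψ, map_zero]
    rw [h0, zero_sub] at this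
    rw [← mul_neg, ← this, Finset.mul_sum]
    apply Finset.sum_congr rfl
    intro x _; ring
  have e4 : ∑ x : L, ind H L x * (q * conj s * 1) = q * conj s * ((Nat.card H : ℂ) - 1) := by
    rw [← F.sum_ind, Finset.mul_sum]
    apply Finset.sum_congr rfl
    intro x _; ring
  rw [e1, e2, e3, e4]
  ring

end localsum

end Cfsg.Agent.Lib.Helper3.FP
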