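import Mathlib
import Cfsg.Agent.Lib.Helper3.FP8
import Cfsg.Agent.Lib.Helper6.GenCharOps
import Cfsg.Agent.Lib.Helper6.CharOps

/-! The generalized character `Γ = Ind (Ind_K^L 1 - ψ)`. -/
set_option autoImplicit false
open Cfsg
open scoped ComplexConjugate

namespace Cfsg.Agent.Lib.Helper3.FP

open Cfsg.Agent.Lib.Helper6

section inv

variable {L : Type*} [Group L] [Fintype L]

open Classical in
theorem indFun_of_inv (K : Subgroup L) [hK : K.Normal] (f : K → ℂ)
    (hf : ∀ (y : L) (k : K) (h : y⁻¹ * (k : L) * y ∈ K), f ⟨y⁻¹ * k * y, h⟩ = f k) (x : L) :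
    indFun K f x = if h : x ∈ K then (K.index : ℂ) * f ⟨x, h⟩ else 0 := by
  unfold indFun
  have hKc : (Nat.card K : ℂ) ≠ 0 := card_ne_zero_complex K
  by_cases hx : x ∈ K
  · rw [dif_pos hx]
    have : ∀ y : L, extendByZero K f (y⁻¹ * x * y) = f ⟨x, hx⟩ := by
      intro y
      have hy : y⁻¹ * x * y ∈ K := by simpa using hK.conj_mem x hx y⁻¹
      rw [extendByZero_of_mem K f hy]
      exact hf y ⟨x, hx⟩ hy
    simp_rw [this]
    rw [Finset.sum_const, Finset.card_univ, nsmul_eq_mul, ← Nat.card_eq_fintype_card,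
      ← Subgroup.card_mul_index K]
    push_cast
    field_simp
  · rw [dif_neg hx]
    have : ∀ y : L, extendByZero K f (y⁻¹ * x * y) = 0 := by
      intro y
      apply extendByZero_of_not_mem
      intro hy
      apply hx
      have := hK.conj_mem _ hy y
      have e : y * (y⁻¹ * x * y) * y⁻¹ = x := by group
      rwa [e] at this
    simp [this]

end inv

variable {G : Type*} [Group G] [Fintype G]

section gamma

variable {H L : Subgroup G} [Fintype L]

/-- `Ind_K^L 1 - ψ` -/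
noncomputable def alpha (H L : Subgroup G) [Fintype L] (ψ : L → ℂ) : L → ℂ :=
  indFun (H.subgroupOf L) (fun _ => (1 : ℂ)) - ψ

open Classical in
theorem Fam.indOne_val (F : Fam H L) (x : L) :
    indFun (H.subgroupOf L) (fun _ => (1 : ℂ)) x =
      if (x : G) ∈ H then ((H.subgroupOf L).index : ℂ) else 0 := by
  haveI := F.normalK
  rw [indFun_of_inv (H.subgroupOf L) (fun _ => (1 : ℂ)) (fun _ _ _ => rfl) x]
  by_cases hx : (x : G) ∈ H
  · rw [dif_pos ((Fam.mem_K x).2 hx), if_pos hx, mul_one]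
  · rw [dif_neg (fun h => hx ((Fam.mem_K x).1 h)), if_neg hx]

theorem Fam.alpha_val (F : Fam H L) (ψ : L → ℂ) (x : L) (hx : (x : G) ∈ H) :
    alpha H L ψ x = (-1) * ψ x + ((H.subgroupOf L).index : ℂ) := by
  unfold alpha
  rw [Pi.sub_apply, F.indOne_val, if_pos hx]
  ring

theorem Fam.alpha_vanish (F : Fam H L) {ψ : L → ℂ} (hψ : ψ ∈ SS H L) (x : L)
    (hx : (x : G) ∉ H) : alpha H L ψ x = 0 := by
  unfold alpha
  rw [Pi.sub_apply, F.indOne_val, if_neg hx, F.S_vanish (subset_zspan hψ) x hx, sub_zero]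

theorem Fam.alpha_one (F : Fam H L) {ψ : L → ℂ}
    (hψ1 : ψ 1 = ((H.subgroupOf L).index : ℂ)) : alpha H L ψ 1 = 0 := by
  rw [F.alpha_val ψ 1 (Subgroup.one_mem _), hψ1]
  ring

theorem Fam.alpha_class (F : Fam H L) {ψ : L → ℂ} (hψ : ψ ∈ SS H L) :
    IsClassFunction L (alpha H L ψ) :=
  isClassFunction_sub (indFun_isClassFunction _ _) (IsIrrCharacter.isClassFunction (F.S_irr ψ hψ))

theorem Fam.alpha_eq_ind_mul (F : Fam H L) {ψ : L → ℂ} (hψ : ψ ∈ SS H L)
    (hψ1 : ψ 1 = ((H.subgroupOf L).index : ℂ)) (x : L) :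
    alpha H L ψ x = ind H L x * alpha H L ψ x := by
  by_cases hx : (x : G) ∈ H ∧ x ≠ 1
  · rw [ind_of_mem hx.1 hx.2, one_mul]
  · rw [ind_of_not hx, zero_mul]
    by_cases hxH : (x : G) ∈ H
    · have : x = 1 := by
        by_contra h
        exact hx ⟨hxH, h⟩
      rw [this, F.alpha_one hψ1]
    · exact F.alpha_vanish hψ x hxH

theorem Fam.gamma_gen (F : Fam H L) {ψ : L → ℂ} (hψ : ψ ∈ SS H L) :
    IsGeneralizedCharacter G (indFun L (alpha H L ψ)) := by
  apply IsGeneralizedCharacter.indFun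
  unfold alpha
  exact IsGeneralizedCharacter.sub
    (IsCharacter.isGeneralizedCharacter (IsCharacter.indFun _ isCharacter_one))
    (IsCharacter.isGeneralizedCharacter (IsIrrCharacter.isCharacter (F.S_irr ψ hψ)))

theorem Fam.gamma_inner (F : Fam H L) {ψ : L → ℂ} (hψ : ψ ∈ SS H L)
    (hψ1 : ψ 1 = ((H.subgroupOf L).index : ℂ)) (X : G → ℂ) (hX : IsClassFunction G X) (p q : ℂ)
    (hXv : ∀ x : L, (x : G) ∈ H → x ≠ 1 → X x = p * ψ x + q) :
    classInner (indFun L (alpha H L ψ)) X = conj q - conj p := by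
  rw [Cfsg.Agent.S0146.result L _ X hX]
  unfold classInner
  have h1 : ∑ x : L, alpha H L ψ x * conj (X x) =
      ∑ x : L, ind H L x * (alpha H L ψ x * conj (X x)) := by
    apply Finset.sum_congr rfl
    intro x _
    rw [← mul_assoc, ← F.alpha_eq_ind_mul hψ hψ1]
  rw [h1, F.local_sum hψ (alpha H L ψ) (fun x : L => X x) (-1) ((H.subgroupOf L).index : ℂ) p q
    (fun x hx _ => F.alpha_val ψ x hx) hXv, hψ1, F.card_L]
  have hL : (Nat.card L : ℂ) ≠ 0 := card_ne_zero_complex L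
  rw [F.card_L] at hL
  obtain ⟨he, hh⟩ := mul_ne_zero_iff.1 hL
  simp only [Complex.conj_natCast]
  field_simp
  ring

theorem Fam.gamma_norm (F : Fam H L) {ψ : L → ℂ} (hψ : ψ ∈ SS H L)
    (hψ1 : ψ 1 = ((H.subgroupOf L).index : ℂ)) :
    classInner (indFun L (alpha H L ψ)) (indFun L (alpha H L ψ)) =
      ((H.subgroupOf L).index : ℂ) + 1 := by
  rw [Cfsg.Agent.Lib.Lead.Sib.classInner_ind_TI L (H : Set G) F.ti' _ _ (F.alpha_class hψ)
    (fun x hx => F.alpha_vanish hψ x hx) (fun x hx => F.alpha_vanish hψ x hx) (F.alpha_one hψ1)]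
  unfold classInner
  have h1 : ∑ x : L, alpha H L ψ x * conj (alpha H L ψ x) =
      ∑ x : L, ind H L x * (alpha H L ψ x * conj (alpha H L ψ x)) := by
    apply Finset.sum_congr rfl
    intro x _
    rw [← mul_assoc, ← F.alpha_eq_ind_mul hψ hψ1]
  rw [h1, F.local_sum hψ (alpha H L ψ) (alpha H L ψ) (-1) ((H.subgroupOf L).index : ℂ) (-1)
    ((H.subgroupOf L).index : ℂ)
    (fun x hx _ => F.alpha_val ψ x hx) (fun x hx _ => F.alpha_val ψ x hx), hψ1, F.card_L]
  have hL : (Nat.card L : ℂ) ≠ 0 := card_ne_zero_complex L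
  rw [F.card_L] at hL
  obtain ⟨he, hh⟩ := mul_ne_zero_iff.1 hL
  simp only [Complex.conj_natCast, map_neg, map_one]
  field_simp
  ring

theorem Fam.gamma_int (F : Fam H L) {ψ : L → ℂ} (hψ : ψ ∈ SS H L) {χ : G → ℂ}
    (hχ : IsIrrCharacter G χ) : ∃ z : ℤ, classInner (indFun L (alpha H L ψ)) χ = z := by
  obtain ⟨A, B, hA, hB, hAB⟩ := F.gamma_gen hψ
  obtain ⟨m, hm⟩ := IsCharacter.classInner_irr_nat hA hχ
  obtain ⟨n, hn⟩ := IsCharacter.classInner_irr_nat hB hχ
  refine ⟨(m : ℤ) - n, ?_⟩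
  rw [hAB, classInner_sub_left, hm, hn]
  push_cast
  ring

end gamma

end Cfsg.Agent.Lib.Helper3.FP
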