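import Mathlib
import Cfsg.Agent.Lib.Helper3.FP9
import Cfsg.Agent.Lib.Helper6.Regular

/-! The function `β = Ind_K^L (ρ_K - 1_K)` and `Λ = τ β`. -/
set_option autoImplicit false
open Cfsg
open scoped ComplexConjugate

namespace Cfsg.Agent.Lib.Helper3.FP

open Cfsg.Agent.Lib.Helper6

section reg

variable {K : Type*} [Group K] [Fintype K]

open Classical in
/-- regular character minus principal character -/
noncomputable def rho1 (K : Type*) [Group K] : K → ℂ :=
  fun k => (if k = 1 then (Nat.card K : ℂ) else 0) - 1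

open Classical in
theorem rho1_eq_sum [Fintype (IrrCharacter K)] :
    rho1 K = ∑ χ ∈ Finset.univ.erase (Cfsg.Agent.Lib.Helper3.BL.oneIrrG K),
      (χ : K → ℂ) 1 • (χ : K → ℂ) := by
  have h1 : (fun k : K => if k = 1 then (Nat.card K : ℂ) else 0) =
      ∑ χ : IrrCharacter K, (χ : K → ℂ) 1 • (χ : K → ℂ) := by
    rw [← leftRegular_character_eq_sum]
    funext k
    rw [leftRegular_character]
  rw [← Finset.add_sum_erase Finset.univ _ (Finset.mem_univ (Cfsg.Agent.Lib.Helper3.BL.oneIrrG K))]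
    at h1
  funext k
  have h2 := congrFun h1 k
  unfold rho1
  rw [h2]
  simp [Cfsg.Agent.Lib.Helper3.BL.oneIrrG]

end reg

variable {G : Type*} [Group G] [Fintype G]

section beta

variable {H L : Subgroup G} [Fintype L]

/-- `Ind_K^L (ρ_K - 1_K)` -/
noncomputable def beta (H L : Subgroup G) [Fintype L] : L → ℂ :=
  indFun (H.subgroupOf L) (rho1 (H.subgroupOf L))

theorem Fam.beta_mem (F : Fam H L) : beta H L ∈ zspan (SS H L) := by
  classical
  haveI : Fintype (H.subgroupOf L) := Fintype.ofFinite _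
  haveI : Fintype (IrrCharacter (H.subgroupOf L)) := Fintype.ofFinite _
  unfold beta
  rw [rho1_eq_sum, indFun_sum]
  apply Submodule.sum_mem
  intro χ hχ
  rw [indFun_smul]
  obtain ⟨a, _, ha⟩ := irr_deg χ.2
  rw [ha, ← Int.cast_natCast, Int.cast_smul_eq_zsmul]
  apply Submodule.smul_mem
  apply Submodule.subset_span
  refine ⟨χ, χ.2, ?_, ?_, rfl⟩
  · intro h
    apply Finset.ne_of_mem_erase hχ
    exact Subtype.ext h
  · intro k hk
    rw [Subgroup.mem_bot] at hk
    rw [show k = 1 from Subtype.ext hk]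

open Classical in
theorem Fam.beta_val (F : Fam H L) (x : L) :
    beta H L x = if (x : G) ∈ H then
      ((H.subgroupOf L).index : ℂ) * ((if x = 1 then (Nat.card H : ℂ) else 0) - 1) else 0 := by
  haveI := F.normalK
  unfold beta
  rw [indFun_of_inv (H.subgroupOf L) (rho1 (H.subgroupOf L)) (by
    intro y k h
    unfold rho1
    have : (⟨y⁻¹ * (k : L) * y, h⟩ : H.subgroupOf L) = 1 ↔ k = 1 := by
      constructor
      · intro h1
        have h2 : y⁻¹ * (k : L) * y = 1 := congrArg Subtype.val h1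
        apply Subtype.ext
        have : (k : L) = y * (y⁻¹ * (k : L) * y) * y⁻¹ := by group
        rw [this, h2]; simp
      · intro h1
        apply Subtype.ext
        show y⁻¹ * (k : L) * y = 1
        rw [h1]; simp
    by_cases hk : k = 1
    · rw [if_pos hk, if_pos (this.2 hk)]
    · rw [if_neg hk, if_neg (fun h => hk (this.1 h))]) x]
  by_cases hx : (x : G) ∈ H
  · rw [dif_pos ((Fam.mem_K x).2 hx), if_pos hx]
    unfold rho1
    rw [F.card_K]
    have : (⟨x, (Fam.mem_K x).2 hx⟩ : H.subgroupOf L) = 1 ↔ x = 1 :=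
      ⟨fun h => congrArg Subtype.val h, fun h => Subtype.ext h⟩
    by_cases hx1 : x = 1
    · rw [if_pos hx1, if_pos (this.2 hx1)]
    · rw [if_neg hx1, if_neg (fun h => hx1 (this.1 h))]
  · rw [dif_neg (fun h => hx ((Fam.mem_K x).1 h)), if_neg hx]

theorem Fam.beta_one (F : Fam H L) :
    beta H L 1 = ((H.subgroupOf L).index : ℂ) * ((Nat.card H : ℂ) - 1) := by
  have h1 : ((1 : L) : G) ∈ H := by rw [Subgroup.coe_one]; exact H.one_mem
  rw [F.beta_val, if_pos h1, if_pos rfl]

theorem Fam.beta_norm (F : Fam H L) :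
    classInner (beta H L) (beta H L) =
      ((H.subgroupOf L).index : ℂ) * ((Nat.card H : ℂ) - 1) := by
  classical
  unfold classInner
  have h1 : ∀ x : L, beta H L x * conj (beta H L x) =
      (if x = 1 then (((H.subgroupOf L).index : ℂ) * ((Nat.card H : ℂ) - 1)) ^ 2 else 0) +
        ind H L x * ((H.subgroupOf L).index : ℂ) ^ 2 := by
    intro x
    rw [F.beta_val]
    by_cases hx1 : x = 1
    · subst hx1
      have h1 : ((1 : L) : G) ∈ H := by rw [Subgroup.coe_one]; exact H.one_mem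
      rw [if_pos h1, if_pos rfl, if_pos rfl, ind_one]
      simp only [map_mul, map_sub, Complex.conj_natCast, map_one]
      ring
    · simp only [if_neg hx1]
      by_cases hxH : (x : G) ∈ H
      · rw [if_pos hxH, ind_of_mem hxH hx1]
        simp only [map_mul, map_sub, Complex.conj_natCast, map_one, map_zero]
        ring
      · rw [if_neg hxH, ind_of_not (fun h => hxH h.1)]
        simp
  simp_rw [h1]
  rw [Finset.sum_add_distrib, Finset.sum_ite_eq' Finset.univ (1 : L), if_pos (Finset.mem_univ _),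
    ← Finset.sum_mul, F.sum_ind, F.card_L]
  have hL : (Nat.card L : ℂ) ≠ 0 := card_ne_zero_complex L
  rw [F.card_L] at hL
  obtain ⟨he, hh⟩ := mul_ne_zero_iff.1 hL
  field_simp
  ring

end beta

section lam

variable {H L H' L' : Subgroup G} [Fintype L] [Fintype L']

theorem Dat.lam_norm (F : Fam H L) (d : Dat H L) :
    classInner (d.τ (beta H L)) (d.τ (beta H L)) =
      ((H.subgroupOf L).index : ℂ) * ((Nat.card H : ℂ) - 1) := by
  rw [d.iso.2.2.1 _ F.beta_mem _ F.beta_mem, F.beta_norm]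

theorem Dat.lam_class (F : Fam H L) (d : Dat H L) : IsClassFunction G (d.τ (beta H L)) :=
  IsGeneralizedCharacter.isClassFunction (d.iso.2.2.2 _ F.beta_mem)

/-- values of `Λ` on the kernel of another family -/
theorem Dat.lam_val (F : Fam H L) (d : Dat H L) {ψ : L → ℂ} (hψ : ψ ∈ SS H L)
    (hψ1 : ψ 1 = ((H.subgroupOf L).index : ℂ))
    (hdisj : ∀ g : G, g ≠ 1 → (∃ x : G, x * g * x⁻¹ ∈ H) → (∃ y : G, y * g * y⁻¹ ∈ H') → False)
    (x : L') (hx : (x : G) ∈ H') (hx1 : x ≠ 1) :
    d.τ (beta H L) x = ((Nat.card H : ℂ) - 1) * d.τ ψ x := by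
  set m : ℤ := (Nat.card H : ℤ) - 1 with hm
  have hδ : beta H L - m • ψ ∈ zspan (SS H L) :=
    Submodule.sub_mem _ F.beta_mem (Submodule.smul_mem _ _ (subset_zspan hψ))
  have hδ1 : (beta H L - m • ψ) 1 = 0 := by
    rw [Pi.sub_apply, Pi.smul_apply, F.beta_one, hψ1, hm, ← Int.cast_smul_eq_zsmul ℂ]
    push_cast
    rw [smul_eq_mul]
    ring
  have e1 : beta H L = m • ψ + (beta H L - m • ψ) := by abel
  have e2 : d.τ (beta H L) = m • d.τ ψ + indFun L (beta H L - m • ψ) := by
    conv_lhs => rw [e1]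
    rw [d.iso.1 _ (Submodule.smul_mem _ _ (subset_zspan hψ)) _ hδ,
      d.iso.2.1 _ (subset_zspan hψ), d.agree _ hδ hδ1]
  rw [e2, Pi.add_apply]
  have e3 : indFun L (beta H L - m • ψ) (x : G) = 0 := by
    apply indFun_eq_zero_of_supp _ (F.supp hδ hδ1)
    rintro ⟨hg1, hg⟩
    exact hdisj (x : G) hg1 hg ⟨1, by simpa using hx⟩
  rw [e3, add_zero, Pi.smul_apply, hm, ← Int.cast_smul_eq_zsmul ℂ]
  push_cast
  rw [smul_eq_mul]

end lam

end Cfsg.Agent.Lib.Helper3.FP
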