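import Mathlib
import Cfsg.Agent.Lib.Helper3.FP10

/-! Global sums over `G` for class functions with linear profiles on the kernels. -/
set_option autoImplicit false
open Cfsg
open scoped ComplexConjugate

namespace Cfsg.Agent.Lib.Helper3.FP

open Cfsg.Agent.Lib.Helper6

variable {G : Type*} [Group G] [Fintype G] {ι : Type*} [Fintype ι]
variable {H L : ι → Subgroup G} [∀ i, Fintype (L i)]

theorem Config.gsum (C : Config H L) (ψ : ∀ i, L i → ℂ) (hψ : ∀ i, ψ i ∈ SS (H i) (L i))
    (hψ1 : ∀ i, ψ i 1 = (((H i).subgroupOf (L i)).index : ℂ))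
    (X Y : G → ℂ) (hX : IsClassFunction G X) (hY : IsClassFunction G Y) (pX qX pY qY : ι → ℂ)
    (hXv : ∀ l, ∀ x : L l, (x : G) ∈ H l → x ≠ 1 → X x = pX l * ψ l x + qX l)
    (hYv : ∀ l, ∀ x : L l, (x : G) ∈ H l → x ≠ 1 → Y x = pY l * ψ l x + qY l) :
    (Nat.card G : ℂ) * classInner X Y = X 1 * conj (Y 1) +
      ∑ l, ((L l).index : ℂ) *
        (pX l * conj (pY l) * ((((H l).subgroupOf (L l)).index : ℂ) * (Nat.card (H l) : ℂ)
            - (((H l).subgroupOf (L l)).index : ℂ) * (((H l).subgroupOf (L l)).index : ℂ))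
          - pX l * conj (qY l) * (((H l).subgroupOf (L l)).index : ℂ)
          - qX l * conj (pY l) * (((H l).subgroupOf (L l)).index : ℂ)
          + qX l * conj (qY l) * ((Nat.card (H l) : ℂ) - 1)) := by
  unfold classInner
  rw [← mul_assoc, mul_inv_cancel₀ (card_ne_zero_complex G), one_mul]
  have hF : IsClassFunction G (fun g => X g * conj (Y g)) := by
    intro g h
    show X (h * g * h⁻¹) * conj (Y (h * g * h⁻¹)) = X g * conj (Y g)
    rw [hX g h, hY g h]
  rw [C.sum_eq (fun g => X g * conj (Y g)) hF]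
  congr 1
  apply Finset.sum_congr rfl
  intro l _
  congr 1
  have := (C.fam l).local_sum (hψ l) (fun x : L l => X x) (fun x : L l => Y x) (pX l) (qX l)
    (pY l) (qY l) (hXv l) (hYv l)
  rw [this, hψ1 l, (C.fam l).card_L, Complex.conj_natCast]

end Cfsg.Agent.Lib.Helper3.FP
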