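import Mathlib
import Cfsg.Agent.Lib.Helper3.FP12

/-! The chosen data and the value profile of the exceptional characters. -/
set_option autoImplicit false
open Cfsg
open scoped ComplexConjugate

namespace Cfsg.Agent.Lib.Helper3.FP

open Cfsg.Agent.Lib.Helper6

variable {G : Type*} [Group G] [Fintype G] {ι : Type*} [Fintype ι] [DecidableEq ι]
variable {H L : ι → Subgroup G} [∀ i, Fintype (L i)]

omit [Fintype G] [Fintype ι] [DecidableEq ι] [∀ i, Fintype (L i)] in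
theorem Config.disj [Finite G] (C : Config H L) {i j : ι} (hij : i ≠ j) :
    ∀ g : G, g ≠ 1 → (∃ x : G, x * g * x⁻¹ ∈ H i) → (∃ y : G, y * g * y⁻¹ ∈ H j) → False := by
  rintro g hg ⟨x, hx⟩ ⟨y, hy⟩
  exact hij (C.unique hg hx hy)

/-- the data chosen for each family -/
structure Setup (H L : ι → Subgroup G) [∀ i, Fintype (L i)] where
  C : Config H L
  hodd : Odd (Nat.card G)
  d : ∀ i, Dat (H i) (L i)
  ψ : ∀ i, L i → ℂ
  hψ : ∀ i, ψ i ∈ SS (H i) (L i)
  hψ1 : ∀ i, ψ i 1 = (((H i).subgroupOf (L i)).index : ℂ)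

omit [Fintype ι] [DecidableEq ι] in
theorem Config.exists_setup (C : Config H L) (hodd : Odd (Nat.card G)) : Nonempty (Setup H L) := by
  have h1 : ∀ i, ∃ ψ : L i → ℂ, ψ ∈ SS (H i) (L i) ∧
      ψ 1 = (((H i).subgroupOf (L i)).index : ℂ) := by
    intro i
    obtain ⟨ψ, h1, h2⟩ := (C.fam i).exists_linear
    exact ⟨ψ, h1, h2⟩
  choose ψ hψ hψ1 using h1
  exact ⟨⟨C, hodd, fun i => Classical.choice ((C.fam i).exists_dat hodd), ψ, hψ, hψ1⟩⟩

namespace Setup

variable (S : Setup H L)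

/-- the exceptional character attached to family `i` -/
noncomputable def χ (i : ι) : G → ℂ := (S.d i).ε • (S.d i).τ (S.ψ i)

omit [Fintype ι] [DecidableEq ι] in
theorem χ_irr (i : ι) : IsIrrCharacter G (S.χ i) := (S.d i).irr _ (S.hψ i)

omit [Fintype ι] [DecidableEq ι] in
theorem χ_class (i : ι) : IsClassFunction G (S.χ i) := IsIrrCharacter.isClassFunction (S.χ_irr i)

omit [Fintype ι] [DecidableEq ι] in
theorem tau_psi (i : ι) : (S.d i).τ (S.ψ i) = (S.d i).ε • S.χ i := (S.d i).tau_eq _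

omit [Fintype ι] in
theorem exists_c (i l : ι) : ∃ c : ℂ, ∀ x : L l, (x : G) ∈ H l → x ≠ 1 →
    S.χ i x = (if i = l then (S.d i).ε else 0) * S.ψ l x + c := by
  by_cases h : i = l
  · subst h
    obtain ⟨c, hc⟩ := const_self (S.C.fam i) (S.d i) (S.hψ i)
    refine ⟨c, fun x hx hx1 => ?_⟩
    rw [if_pos rfl]
    exact hc x hx hx1
  · obtain ⟨c, hc⟩ := const_cross (S.C.fam i) (S.C.fam l) S.hodd (S.d i) (S.d l) (S.C.disj h)
      (S.hψ i)
    refine ⟨c, fun x hx hx1 => ?_⟩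
    rw [if_neg h, zero_mul, zero_add]
    exact hc x hx hx1

omit [Fintype ι] [DecidableEq ι] in
theorem exists_eps (i : ι) : ∃ z : ℤ, (z = 1 ∨ z = -1) ∧ (S.d i).ε = (z : ℂ) := by
  rcases (S.d i).hε with h | h
  · exact ⟨1, Or.inl rfl, by rw [h]; simp⟩
  · exact ⟨-1, Or.inr rfl, by rw [h]; simp⟩

omit [Fintype ι] in
theorem exists_cZ (i l : ι) : ∃ c : ℤ, ∀ x : L l, (x : G) ∈ H l → x ≠ 1 →
    S.χ i x = (if i = l then (S.d i).ε else 0) * S.ψ l x + (c : ℂ) := by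
  obtain ⟨c, hc⟩ := S.exists_c i l
  have h1 := (S.C.fam l).gamma_inner (S.hψ l) (S.hψ1 l) (S.χ i) (S.χ_class i) _ c hc
  obtain ⟨z, hz⟩ := (S.C.fam l).gamma_int (S.hψ l) (S.χ_irr i)
  obtain ⟨ze, _, hze⟩ := S.exists_eps i
  have hp : ∃ zp : ℤ, (if i = l then (S.d i).ε else 0) = (zp : ℂ) := by
    by_cases h : i = l
    · exact ⟨ze, by rw [if_pos h, hze]⟩
    · exact ⟨0, by rw [if_neg h]; simp⟩
  obtain ⟨zp, hzp⟩ := hp
  rw [hz, hzp] at h1
  have h2 : conj c = ((z + zp : ℤ) : ℂ) := by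
    simp only [map_intCast] at h1
    push_cast
    linear_combination -h1
  have h3 : c = ((z + zp : ℤ) : ℂ) := by
    have := congrArg conj h2
    rw [Complex.conj_conj, map_intCast] at this
    exact this
  refine ⟨z + zp, fun x hx hx1 => ?_⟩
  rw [hc x hx hx1, h3]

omit [Fintype ι] [DecidableEq ι] in
theorem exists_D (i : ι) : ∃ D : ℕ, 1 ≤ D ∧ S.χ i 1 = (D : ℂ) := by
  obtain ⟨a, ha0, ha⟩ := irr_deg (S.χ_irr i)
  exact ⟨a, ha0, ha⟩

end Setup

end Cfsg.Agent.Lib.Helper3.FP
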