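import Mathlib
import Cfsg.Agent.Lib.Helper3.FP13

/-! Integer data and the orthogonality relations as integer equations. -/
set_option autoImplicit false
open Cfsg
open scoped ComplexConjugate

namespace Cfsg.Agent.Lib.Helper3.FP

open Cfsg.Agent.Lib.Helper6

variable {G : Type*} [Group G] [Fintype G] {ι : Type*} [Fintype ι] [DecidableEq ι]
variable {H L : ι → Subgroup G} [∀ i, Fintype (L i)]

/-- the data together with the integer constants -/
structure Setup2 (H L : ι → Subgroup G) [∀ i, Fintype (L i)] extends Setup H L where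
  εZ : ι → ℤ
  hεZ1 : ∀ i, εZ i = 1 ∨ εZ i = -1
  hεZ : ∀ i, (d i).ε = (εZ i : ℂ)
  cZ : ι → ι → ℤ
  hval : ∀ i l, ∀ x : L l, (x : G) ∈ H l → x ≠ 1 →
    toSetup.χ i x = ((if i = l then εZ i else 0 : ℤ) : ℂ) * ψ l x + (cZ i l : ℂ)
  D : ι → ℕ
  hD1 : ∀ i, 1 ≤ D i
  hD : ∀ i, toSetup.χ i 1 = (D i : ℂ)

omit [Fintype ι] in
theorem Setup.exists_setup2 (S : Setup H L) : Nonempty (Setup2 H L) := by
  choose εZ hεZ1 hεZ using S.exists_eps
  choose cZ hcZ using S.exists_cZ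
  choose D hD1 hD using S.exists_D
  refine ⟨⟨S, εZ, hεZ1, hεZ, cZ, ?_, D, hD1, hD⟩⟩
  intro i l x hx hx1
  rw [hcZ i l x hx hx1]
  congr 2
  by_cases h : i = l
  · rw [if_pos h, if_pos h, hεZ]
  · rw [if_neg h, if_neg h]; simp

namespace Setup2

variable (T : Setup2 H L)

/-- the sign pattern -/
def PZ (i l : ι) : ℤ := if i = l then T.εZ i else 0

/-- index of the kernel in its normalizer -/
noncomputable def eN (_T : Setup2 H L) (i : ι) : ℕ := ((H i).subgroupOf (L i)).index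
/-- order of the kernel -/
noncomputable def hN (_T : Setup2 H L) (i : ι) : ℕ := Nat.card (H i)
/-- index of the normalizer -/
noncomputable def idxN (_T : Setup2 H L) (i : ι) : ℕ := (L i).index

omit [Fintype ι] in
theorem hval' (i l : ι) (x : L l) (hx : (x : G) ∈ H l) (hx1 : x ≠ 1) :
    T.χ i x = ((T.PZ i l : ℤ) : ℂ) * T.ψ l x + (T.cZ i l : ℂ) := T.hval i l x hx hx1

omit [Fintype ι] in
theorem inner_ne {i j : ι} (hij : i ≠ j) : classInner (T.χ i) (T.χ j) = 0 := by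
  unfold Setup.χ
  rw [classInner_smul_left, classInner_smul_right,
    V1 (T.C.fam i) (T.C.fam j) T.hodd (T.d i) (T.d j) (T.C.disj hij) _ (T.hψ i) _ (T.hψ j)]
  ring

omit [Fintype ι] in
theorem inner_self (i : ι) : classInner (T.χ i) (T.χ i) = 1 := by
  classical
  rw [classInner_isIrrCharacter (T.χ_irr i) (T.χ_irr i), if_pos rfl]

omit [Fintype ι] in
theorem inner_one (i : ι) : classInner (T.χ i) (fun _ => (1 : ℂ)) = 0 := by
  unfold Setup.χ
  rw [classInner_smul_left, V2 (T.C.fam i) T.hodd (T.d i) _ (T.hψ i), mul_zero]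

theorem eq_pair {i j : ι} (hij : i ≠ j) :
    (0 : ℤ) = (T.D i : ℤ) * T.D j + ∑ l, (T.idxN l : ℤ) *
      (T.PZ i l * T.PZ j l * ((T.eN l : ℤ) * T.hN l - (T.eN l : ℤ) * T.eN l)
        - T.PZ i l * T.cZ j l * T.eN l - T.cZ i l * T.PZ j l * T.eN l
        + T.cZ i l * T.cZ j l * ((T.hN l : ℤ) - 1)) := by
  have h := T.C.gsum T.ψ T.hψ T.hψ1 (T.χ i) (T.χ j) (T.χ_class i) (T.χ_class j)
    (fun l => ((T.PZ i l : ℤ) : ℂ)) (fun l => (T.cZ i l : ℂ))
    (fun l => ((T.PZ j l : ℤ) : ℂ)) (fun l => (T.cZ j l : ℂ))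
    (fun l x hx hx1 => T.hval' i l x hx hx1) (fun l x hx hx1 => T.hval' j l x hx hx1)
  rw [T.inner_ne hij, mul_zero, T.hD i, T.hD j] at h
  simp only [map_intCast, Complex.conj_natCast] at h
  unfold eN hN idxN
  exact_mod_cast h

theorem eq_self (i : ι) :
    (Nat.card G : ℤ) = (T.D i : ℤ) ^ 2 + ∑ l, (T.idxN l : ℤ) *
      (T.PZ i l * T.PZ i l * ((T.eN l : ℤ) * T.hN l - (T.eN l : ℤ) * T.eN l)
        - 2 * T.PZ i l * T.cZ i l * T.eN l
        + T.cZ i l ^ 2 * ((T.hN l : ℤ) - 1)) := by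
  have h := T.C.gsum T.ψ T.hψ T.hψ1 (T.χ i) (T.χ i) (T.χ_class i) (T.χ_class i)
    (fun l => ((T.PZ i l : ℤ) : ℂ)) (fun l => (T.cZ i l : ℂ))
    (fun l => ((T.PZ i l : ℤ) : ℂ)) (fun l => (T.cZ i l : ℂ))
    (fun l x hx hx1 => T.hval' i l x hx hx1) (fun l x hx hx1 => T.hval' i l x hx hx1)
  rw [T.inner_self i, mul_one, T.hD i] at h
  simp only [map_intCast, Complex.conj_natCast] at h
  unfold eN hN idxN
  have h2 : (Nat.card G : ℤ) = (T.D i : ℤ) * T.D i + ∑ l, ((L l).index : ℤ) *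
      (T.PZ i l * T.PZ i l * ((((H l).subgroupOf (L l)).index : ℤ) * (Nat.card (H l) : ℤ)
          - (((H l).subgroupOf (L l)).index : ℤ) * (((H l).subgroupOf (L l)).index : ℤ))
        - T.PZ i l * T.cZ i l * (((H l).subgroupOf (L l)).index : ℤ)
        - T.cZ i l * T.PZ i l * (((H l).subgroupOf (L l)).index : ℤ)
        + T.cZ i l * T.cZ i l * ((Nat.card (H l) : ℤ) - 1)) := by
    exact_mod_cast h
  rw [h2, sq]
  congr 1
  apply Finset.sum_congr rfl
  intro l _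
  ring

theorem eq_one (i : ι) :
    (0 : ℤ) = (T.D i : ℤ) + ∑ l, (T.idxN l : ℤ) *
      (- T.PZ i l * T.eN l + T.cZ i l * ((T.hN l : ℤ) - 1)) := by
  have h := T.C.gsum T.ψ T.hψ T.hψ1 (T.χ i) (fun _ => (1 : ℂ)) (T.χ_class i) isClassFunction_one
    (fun l => ((T.PZ i l : ℤ) : ℂ)) (fun l => (T.cZ i l : ℂ))
    (fun _ => 0) (fun _ => 1)
    (fun l x hx hx1 => T.hval' i l x hx hx1) (fun l x _ _ => by ring)
  rw [T.inner_one i, mul_zero, T.hD i] at h
  simp only [map_intCast, Complex.conj_natCast, map_zero, map_one, mul_zero, zero_mul, sub_zero,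
    mul_one] at h
  unfold eN hN idxN
  have h2 : (0 : ℤ) = (T.D i : ℤ) + ∑ l, ((L l).index : ℤ) *
      (0 - T.PZ i l * (((H l).subgroupOf (L l)).index : ℤ)
        + T.cZ i l * ((Nat.card (H l) : ℤ) - 1)) := by
    exact_mod_cast h
  rw [h2]
  congr 1
  apply Finset.sum_congr rfl
  intro l _
  ring

theorem eq_class :
    (Nat.card G : ℤ) = 1 + ∑ l, (T.idxN l : ℤ) * ((T.hN l : ℤ) - 1) := by
  classical
  have h := T.C.gsum T.ψ T.hψ T.hψ1 (fun _ => (1 : ℂ)) (fun _ => (1 : ℂ)) isClassFunction_one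
    isClassFunction_one (fun _ => 0) (fun _ => 1) (fun _ => 0) (fun _ => 1)
    (fun l x _ _ => by ring) (fun l x _ _ => by ring)
  rw [classInner_isIrrCharacter isIrrCharacter_one isIrrCharacter_one, if_pos rfl, mul_one] at h
  simp only [map_zero, map_one, mul_zero, zero_mul, sub_zero, mul_one, zero_add, one_mul] at h
  unfold hN idxN
  exact_mod_cast h

end Setup2

end Cfsg.Agent.Lib.Helper3.FP
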