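import Mathlib
import Cfsg.Agent.Lib.Helper3.FP14

/-! Arithmetic facts and the parity tournament. -/
set_option autoImplicit false
open Cfsg
open scoped ComplexConjugate

namespace Cfsg.Agent.Lib.Helper3.FP

open Cfsg.Agent.Lib.Helper6

variable {G : Type*} [Group G] [Fintype G] {ι : Type*} [Fintype ι] [DecidableEq ι]
variable {H L : ι → Subgroup G} [∀ i, Fintype (L i)]

namespace Setup2

variable (T : Setup2 H L)

omit [Fintype ι] in
theorem card_eq (l : ι) : Nat.card G = T.idxN l * (T.eN l * T.hN l) := by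
  unfold idxN eN hN
  rw [← (T.C.fam l).card_K, mul_comm (((H l).subgroupOf (L l)).index),
    Subgroup.card_mul_index, mul_comm, Subgroup.card_mul_index]

omit [Fintype ι] in
theorem odd_prod (l : ι) : Odd (T.idxN l * (T.eN l * T.hN l)) := by
  rw [← T.card_eq l]; exact T.hodd

omit [Fintype ι] in
theorem odd_idxN (l : ι) : Odd (T.idxN l) := (Nat.odd_mul.1 (T.odd_prod l)).1

omit [Fintype ι] in
theorem odd_eN (l : ι) : Odd (T.eN l) := (Nat.odd_mul.1 (Nat.odd_mul.1 (T.odd_prod l)).2).1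

omit [Fintype ι] in
theorem odd_hN (l : ι) : Odd (T.hN l) := (Nat.odd_mul.1 (Nat.odd_mul.1 (T.odd_prod l)).2).2

omit [Fintype ι] in
theorem one_lt_hN (l : ι) : 1 < T.hN l := by
  unfold hN
  haveI : Nontrivial (H l) := (Subgroup.nontrivial_iff_ne_bot _).2 (T.C.fam l).ne_bot
  exact Finite.one_lt_card

omit [Fintype ι] in
theorem one_lt_eN (l : ι) : 1 < T.eN l := (T.C.fam l).one_lt_index

omit [Fintype ι] in
theorem eN_dvd (l : ι) : T.eN l ∣ T.hN l - 1 := by
  have := (T.C.fam l).index_dvd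
  rw [(T.C.fam l).card_K] at this
  exact this

/-- `(h - 1) / e` -/
noncomputable def nN (l : ι) : ℕ := (T.hN l - 1) / T.eN l

omit [Fintype ι] in
theorem hN_eq (l : ι) : T.hN l = 1 + T.nN l * T.eN l := by
  unfold nN
  rw [Nat.div_mul_cancel (T.eN_dvd l)]
  have := T.one_lt_hN l
  omega

omit [Fintype ι] in
theorem even_nN (l : ι) : Even (T.nN l) := by
  have h1 : Even (T.nN l * T.eN l) := by
    have := T.odd_hN l
    rw [T.hN_eq l] at this
    rcases Nat.even_or_odd (T.nN l * T.eN l) with h | h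
    · exact h
    · exfalso
      have : Even (1 + T.nN l * T.eN l) := Odd.add_odd odd_one h
      exact (Nat.not_even_iff_odd.2 ‹Odd (1 + T.nN l * T.eN l)›) this
  rcases Nat.even_mul.1 h1 with h | h
  · exact h
  · exact absurd h (Nat.not_even_iff_odd.2 (T.odd_eN l))

omit [Fintype ι] in
theorem two_le_nN (l : ι) : 2 ≤ T.nN l := by
  have h1 := T.even_nN l
  have h2 : T.nN l ≠ 0 := by
    intro h
    have := T.hN_eq l
    rw [h, zero_mul] at this
    have := T.one_lt_hN l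
    omega
  obtain ⟨k, hk⟩ := h1
  omega

omit [Fintype ι] in
theorem hN_ne {i j : ι} (hij : i ≠ j) : T.hN i ≠ T.hN j := by
  intro h
  have := T.C.cop i j hij
  unfold hN at h
  rw [h, Nat.coprime_self] at this
  have := T.one_lt_hN j
  unfold hN at this
  omega

omit [Fintype ι] in
theorem even_hsub (l : ι) : Even ((T.hN l : ℤ) - 1) := by
  have := T.odd_hN l
  have h2 : Odd (T.hN l : ℤ) := by exact_mod_cast this
  exact Odd.sub_odd h2 odd_one

omit [Fintype ι] in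
theorem odd_u (i : ι) : Odd ((T.idxN i : ℤ) * T.εZ i * T.eN i) := by
  have h1 : Odd (T.idxN i : ℤ) := by exact_mod_cast T.odd_idxN i
  have h2 : Odd (T.eN i : ℤ) := by exact_mod_cast T.odd_eN i
  have h3 : Odd (T.εZ i) := by
    rcases T.hεZ1 i with h | h <;> rw [h]
    · exact odd_one
    · exact Odd.neg odd_one
  exact (h1.mul h3).mul h2

theorem sum_PZ (i : ι) (f : ι → ℤ) : ∑ l, T.PZ i l * f l = T.εZ i * f i := by
  unfold PZ
  simp

omit [Fintype ι] in
theorem PZ_self (i : ι) : T.PZ i i = T.εZ i := by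
  unfold PZ; rw [if_pos rfl]

omit [Fintype ι] in
theorem PZ_ne {i l : ι} (h : i ≠ l) : T.PZ i l = 0 := by
  unfold PZ; rw [if_neg h]

omit [Fintype ι] in
theorem PZ_mul {i j : ι} (hij : i ≠ j) (l : ι) : T.PZ i l * T.PZ j l = 0 := by
  by_cases h : i = l
  · subst h
    rw [T.PZ_ne (Ne.symm hij), mul_zero]
  · rw [T.PZ_ne h, zero_mul]

omit [Fintype ι] in
theorem eps_sq (i : ι) : T.εZ i * T.εZ i = 1 := by
  rcases T.hεZ1 i with h | h <;> rw [h] <;> norm_num

theorem odd_D (i : ι) : Odd (T.D i : ℤ) := by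
  have h := T.eq_one i
  have h1 : ∑ l, (T.idxN l : ℤ) * (- T.PZ i l * T.eN l + T.cZ i l * ((T.hN l : ℤ) - 1)) =
      - ((T.idxN i : ℤ) * T.εZ i * T.eN i) +
        ∑ l, (T.idxN l : ℤ) * (T.cZ i l * ((T.hN l : ℤ) - 1)) := by
    have : ∀ l, (T.idxN l : ℤ) * (- T.PZ i l * T.eN l + T.cZ i l * ((T.hN l : ℤ) - 1)) =
        - (T.PZ i l * ((T.idxN l : ℤ) * T.eN l)) +
          (T.idxN l : ℤ) * (T.cZ i l * ((T.hN l : ℤ) - 1)) := fun l => by ring
    simp_rw [this]
    rw [Finset.sum_add_distrib, Finset.sum_neg_distrib, T.sum_PZ i (fun l => (T.idxN l : ℤ) * T.eN l)]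
    ring
  rw [h1] at h
  have heven : Even (∑ l, (T.idxN l : ℤ) * (T.cZ i l * ((T.hN l : ℤ) - 1))) := by
    apply Finset.even_sum
    intro l _
    exact ((T.even_hsub l).mul_left _).mul_left _
  have hD : (T.D i : ℤ) = (T.idxN i : ℤ) * T.εZ i * T.eN i -
      ∑ l, (T.idxN l : ℤ) * (T.cZ i l * ((T.hN l : ℤ) - 1)) := by linarith
  rw [hD]
  exact Odd.sub_even (T.odd_u i) heven

theorem odd_c {i j : ι} (hij : i ≠ j) : Odd (T.cZ i j + T.cZ j i) := by
  have h := T.eq_pair hij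
  have h1 : ∑ l, (T.idxN l : ℤ) *
      (T.PZ i l * T.PZ j l * ((T.eN l : ℤ) * T.hN l - (T.eN l : ℤ) * T.eN l)
        - T.PZ i l * T.cZ j l * T.eN l - T.cZ i l * T.PZ j l * T.eN l
        + T.cZ i l * T.cZ j l * ((T.hN l : ℤ) - 1)) =
      - ((T.idxN i : ℤ) * T.εZ i * T.eN i * T.cZ j i)
      - ((T.idxN j : ℤ) * T.εZ j * T.eN j * T.cZ i j)
      + ∑ l, (T.idxN l : ℤ) * (T.cZ i l * T.cZ j l * ((T.hN l : ℤ) - 1)) := by
    have : ∀ l, (T.idxN l : ℤ) *
        (T.PZ i l * T.PZ j l * ((T.eN l : ℤ) * T.hN l - (T.eN l : ℤ) * T.eN l)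
          - T.PZ i l * T.cZ j l * T.eN l - T.cZ i l * T.PZ j l * T.eN l
          + T.cZ i l * T.cZ j l * ((T.hN l : ℤ) - 1)) =
        - (T.PZ i l * ((T.idxN l : ℤ) * T.eN l * T.cZ j l))
        - (T.PZ j l * ((T.idxN l : ℤ) * T.eN l * T.cZ i l))
        + (T.idxN l : ℤ) * (T.cZ i l * T.cZ j l * ((T.hN l : ℤ) - 1)) := fun l => by
      rw [T.PZ_mul hij l]; ring
    simp_rw [this]
    rw [Finset.sum_add_distrib, Finset.sum_sub_distrib, Finset.sum_neg_distrib,
      T.sum_PZ i (fun l => (T.idxN l : ℤ) * T.eN l * T.cZ j l),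
      T.sum_PZ j (fun l => (T.idxN l : ℤ) * T.eN l * T.cZ i l)]
    ring
  rw [h1] at h
  have heven : Even (∑ l, (T.idxN l : ℤ) * (T.cZ i l * T.cZ j l * ((T.hN l : ℤ) - 1))) := by
    apply Finset.even_sum
    intro l _
    exact ((T.even_hsub l).mul_left _).mul_left _
  obtain ⟨S', hS'⟩ := heven
  obtain ⟨u', hu'⟩ := T.odd_u i
  obtain ⟨v', hv'⟩ := T.odd_u j
  obtain ⟨t, ht⟩ := (T.odd_D i).mul (T.odd_D j)
  rw [hS', ht] at h
  refine ⟨t - u' * T.cZ j i - v' * T.cZ i j + S', ?_⟩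
  have e1 : (T.idxN i : ℤ) * T.εZ i * T.eN i * T.cZ j i = (2 * u' + 1) * T.cZ j i := by rw [hu']
  have e2 : (T.idxN j : ℤ) * T.εZ j * T.eN j * T.cZ i j = (2 * v' + 1) * T.cZ i j := by rw [hv']
  rw [e1, e2] at h
  linear_combination h

end Setup2

end Cfsg.Agent.Lib.Helper3.FP
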