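import Mathlib
import Cfsg.Agent.Lib.Helper3.FP15

/-! The column bound (Bessel) and the row equation. -/
set_option autoImplicit false
open Cfsg
open scoped ComplexConjugate

namespace Cfsg.Agent.Lib.Helper3.FP

open Cfsg.Agent.Lib.Helper6

variable {G : Type*} [Group G] [Fintype G] {ι : Type*} [Fintype ι] [DecidableEq ι]
variable {H L : ι → Subgroup G} [∀ i, Fintype (L i)]

namespace Setup2

variable (T : Setup2 H L)

/-- `Λ_j` -/
noncomputable def lam (j : ι) : G → ℂ := (T.d j).τ (beta (H j) (L j))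

/-- `Γ_{i0}` -/
noncomputable def gam (i0 : ι) : G → ℂ := indFun (L i0) (alpha (H i0) (L i0) (T.ψ i0))

omit [Fintype ι] in
theorem lam_val {j i0 : ι} (hj : j ≠ i0) (x : L i0) (hx : (x : G) ∈ H i0) (hx1 : x ≠ 1) :
    T.lam j x = 0 * T.ψ i0 x + (((((T.hN j : ℤ) - 1) * T.εZ j * T.cZ j i0 : ℤ)) : ℂ) := by
  unfold lam
  rw [Dat.lam_val (T.C.fam j) (T.d j) (T.hψ j) (T.hψ1 j) (T.C.disj hj) x hx hx1, T.tau_psi j,
    Pi.smul_apply, smul_eq_mul, T.hval' j i0 x hx hx1, T.PZ_ne hj, T.hεZ j]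
  unfold hN
  push_cast
  ring

omit [Fintype ι] in
theorem gam_one (i0 : ι) : classInner (T.gam i0) (fun _ => (1 : ℂ)) = 1 := by
  have := (T.C.fam i0).gamma_inner (T.hψ i0) (T.hψ1 i0) (fun _ => (1 : ℂ)) isClassFunction_one 0 1
    (fun x _ _ => by ring)
  unfold gam
  rw [this]
  simp

omit [Fintype ι] in
theorem gam_lam {j i0 : ι} (hj : j ≠ i0) :
    classInner (T.gam i0) (T.lam j) = (((((T.hN j : ℤ) - 1) * T.εZ j * T.cZ j i0 : ℤ)) : ℂ) := by
  have := (T.C.fam i0).gamma_inner (T.hψ i0) (T.hψ1 i0) (T.lam j)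
    (Dat.lam_class (T.C.fam j) (T.d j)) 0 _ (fun x hx hx1 => T.lam_val hj x hx hx1)
  unfold gam
  rw [this, map_intCast, map_zero, sub_zero]

omit [Fintype ι] in
theorem one_lam (j : ι) : classInner (fun _ => (1 : ℂ)) (T.lam j) = 0 := by
  unfold lam
  apply span_inner_zero_right (T.d j).iso _ _ _ (T.C.fam j).beta_mem
  intro ξ hξ
  rw [← classInner_conj_symm, V2 (T.C.fam j) T.hodd (T.d j) ξ hξ, map_zero]

omit [Fintype ι] in
theorem lam_lam {j k : ι} (hjk : j ≠ k) : classInner (T.lam j) (T.lam k) = 0 := by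
  unfold lam
  apply span_inner_zero (T.d j).iso _ _ _ (T.C.fam j).beta_mem
  intro ξ hξ
  apply span_inner_zero_right (T.d k).iso _ _ _ (T.C.fam k).beta_mem
  intro η hη
  exact V1 (T.C.fam j) (T.C.fam k) T.hodd (T.d j) (T.d k) (T.C.disj hjk) ξ hξ η hη

omit [Fintype ι] in
theorem lam_norm (j : ι) : classInner (T.lam j) (T.lam j) =
    (((T.eN j : ℝ) * ((T.hN j : ℝ) - 1) : ℝ) : ℂ) := by
  unfold lam eN hN
  rw [Dat.lam_norm (T.C.fam j) (T.d j)]
  push_cast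
  ring

theorem col_bound (i0 : ι) :
    ∑ j ∈ Finset.univ.erase i0, (T.nN j : ℤ) * T.cZ j i0 ^ 2 ≤ (T.eN i0 : ℤ) := by
  classical
  set Γ' : G → ℂ := T.gam i0 - (fun _ => (1 : ℂ)) with hΓ'
  have h11 : classInner (fun _ : G => (1 : ℂ)) (fun _ => (1 : ℂ)) = 1 := by
    rw [classInner_isIrrCharacter isIrrCharacter_one isIrrCharacter_one, if_pos rfl]
  have h1g : classInner (fun _ : G => (1 : ℂ)) (T.gam i0) = 1 := by
    rw [← classInner_conj_symm, T.gam_one i0, map_one]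
  have hnorm' : classInner Γ' Γ' = ((T.eN i0 : ℝ) : ℂ) := by
    rw [hΓ', classInner_sub_left, classInner_sub_right, classInner_sub_right, T.gam_one i0, h1g, h11]
    unfold gam
    rw [(T.C.fam i0).gamma_norm (T.hψ i0) (T.hψ1 i0)]
    unfold eN
    push_cast
    ring
  have hΓ'lam : ∀ j ∈ Finset.univ.erase i0, classInner Γ' (T.lam j) =
      (((((T.hN j : ℤ) - 1) * T.εZ j * T.cZ j i0 : ℤ)) : ℂ) := by
    intro j hj
    rw [hΓ', classInner_sub_left, T.gam_lam (Finset.ne_of_mem_erase hj), T.one_lam j, sub_zero]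
  have hb := bessel (Finset.univ.erase i0) T.lam (fun j => (T.eN j : ℝ) * ((T.hN j : ℝ) - 1))
    (fun j _ => by
      have h1 : (0 : ℝ) < (T.eN j : ℝ) := by
        have := T.one_lt_eN j
        have : 0 < T.eN j := by omega
        exact_mod_cast this
      have h2 : (0 : ℝ) < (T.hN j : ℝ) - 1 := by
        have := T.one_lt_hN j
        have : (1 : ℝ) < (T.hN j : ℝ) := by exact_mod_cast this
        linarith
      positivity)
    (fun j _ => T.lam_norm j)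
    (fun j _ k _ hjk => T.lam_lam hjk) Γ'
  rw [hnorm', Complex.ofReal_re] at hb
  have hterm : ∀ j ∈ Finset.univ.erase i0,
      Complex.normSq (classInner Γ' (T.lam j)) / ((T.eN j : ℝ) * ((T.hN j : ℝ) - 1)) =
        (T.nN j : ℝ) * ((T.cZ j i0 : ℤ) : ℝ) ^ 2 := by
    intro j hj
    rw [hΓ'lam j hj, Complex.normSq_intCast]
    have h1 : (0 : ℝ) < (T.eN j : ℝ) := by
      have := T.one_lt_eN j
      have : 0 < T.eN j := by omega
      exact_mod_cast this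
    have h2 : (T.hN j : ℝ) - 1 = (T.nN j : ℝ) * (T.eN j : ℝ) := by
      have := T.hN_eq j
      have h3 : (T.hN j : ℝ) = 1 + (T.nN j : ℝ) * (T.eN j : ℝ) := by exact_mod_cast this
      rw [h3]; ring
    have h4 : (0 : ℝ) < (T.nN j : ℝ) := by
      have := T.two_le_nN j
      have : 0 < T.nN j := by omega
      exact_mod_cast this
    have h5 : ((T.εZ j : ℤ) : ℝ) * ((T.εZ j : ℤ) : ℝ) = 1 := by
      have := T.eps_sq j
      exact_mod_cast this
    have hnum : (((((T.hN j : ℤ) - 1) * T.εZ j * T.cZ j i0 : ℤ)) : ℝ) *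
        (((((T.hN j : ℤ) - 1) * T.εZ j * T.cZ j i0 : ℤ)) : ℝ) =
        ((T.nN j : ℝ) * (T.eN j : ℝ)) ^ 2 * ((T.cZ j i0 : ℤ) : ℝ) ^ 2 := by
      push_cast
      rw [h2]
      linear_combination (((T.nN j : ℝ) * (T.eN j : ℝ)) ^ 2 * ((T.cZ j i0 : ℤ) : ℝ) ^ 2) * h5
    rw [hnum, h2, div_eq_iff (by positivity)]
    ring
  rw [Finset.sum_congr rfl hterm] at hb
  have : ((∑ j ∈ Finset.univ.erase i0, (T.nN j : ℤ) * T.cZ j i0 ^ 2 : ℤ) : ℝ) ≤
      ((T.eN i0 : ℤ) : ℝ) := by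
    push_cast
    exact hb
  exact_mod_cast this

theorem row_eq (i0 : ι) :
    (Nat.card G : ℤ) = (T.D i0 : ℤ) ^ 2 +
      ∑ j ∈ Finset.univ.erase i0, (T.idxN j : ℤ) * ((T.hN j : ℤ) - 1) * T.cZ i0 j ^ 2 +
      (T.idxN i0 : ℤ) * ((T.eN i0 : ℤ) * T.hN i0 - (T.eN i0 : ℤ) ^ 2
        - 2 * T.cZ i0 i0 * T.εZ i0 * T.eN i0 + T.cZ i0 i0 ^ 2 * ((T.hN i0 : ℤ) - 1)) := by
  rw [T.eq_self i0, ← Finset.add_sum_erase Finset.univ _ (Finset.mem_univ i0), T.PZ_self i0]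
  have h1 : ∑ l ∈ Finset.univ.erase i0, (T.idxN l : ℤ) *
      (T.PZ i0 l * T.PZ i0 l * ((T.eN l : ℤ) * T.hN l - (T.eN l : ℤ) * T.eN l)
        - 2 * T.PZ i0 l * T.cZ i0 l * T.eN l + T.cZ i0 l ^ 2 * ((T.hN l : ℤ) - 1)) =
      ∑ j ∈ Finset.univ.erase i0, (T.idxN j : ℤ) * ((T.hN j : ℤ) - 1) * T.cZ i0 j ^ 2 := by
    apply Finset.sum_congr rfl
    intro l hl
    rw [T.PZ_ne (Finset.ne_of_mem_erase hl).symm]
    ring
  rw [h1]
  have := T.eps_sq i0
  linear_combination ((T.idxN i0 : ℤ) * ((T.eN i0 : ℤ) * T.hN i0 - (T.eN i0 : ℤ) * T.eN i0)) * this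

end Setup2

end Cfsg.Agent.Lib.Helper3.FP
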