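import Mathlib
import Cfsg.Agent.Lib.Helper3.FP17

/-! Variant of the main theorem needing only a nonempty index type. -/
set_option autoImplicit false
open Cfsg

namespace Cfsg.Agent.Lib.Helper3.FP

variable {G : Type*} [Group G] [Fintype G] {ι : Type*} [Fintype ι] [DecidableEq ι]
variable {H L : ι → Subgroup G} [∀ i, Fintype (L i)]

theorem Setup2.false' (T : Setup2 H L) [Nonempty ι] : False := by
  classical
  obtain ⟨i0, -, hi0⟩ := Finset.exists_min_image Finset.univ T.eN Finset.univ_nonempty
  exact final_arith i0 T.eN T.hN T.nN T.idxN (Nat.card G) (T.D i0) (fun j => T.cZ i0 j)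
    (fun j => T.cZ j i0) (T.cZ i0 i0) (T.εZ i0)
    T.hN_eq T.two_le_nN T.even_nN (fun j => hi0 j (Finset.mem_univ j)) (T.odd_eN i0)
    (T.one_lt_eN i0) T.card_eq Nat.card_pos (T.hD1 i0) (T.hεZ1 i0)
    (fun j hj => T.hN_ne hj)
    (fun j hj => by
      have h := T.odd_c (Ne.symm hj)
      by_contra hc
      push Not at hc
      rw [hc.1, hc.2] at h
      simp at h)
    T.eq_class (T.row_eq i0) (T.col_bound i0)

theorem Config.false' (C : Config H L) (hodd : Odd (Nat.card G)) [Nonempty ι] : False := by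
  obtain ⟨S⟩ := C.exists_setup hodd
  obtain ⟨T⟩ := S.exists_setup2
  exact T.false'

end Cfsg.Agent.Lib.Helper3.FP
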