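import Mathlib
import Cfsg.Agent.Lib.Helper3.FP18

/-! CA-groups of odd order are solvable. -/
set_option autoImplicit false
open Cfsg

namespace Cfsg.Agent.Lib.Helper3.CA

universe u

section basic

variable {G : Type u} [Group G]

/-- every non-identity element has an abelian centralizer -/
def IsCA (G : Type u) [Group G] : Prop :=
  ∀ x : G, x ≠ 1 → ∀ a ∈ Subgroup.centralizer ({x} : Set G),
    ∀ b ∈ Subgroup.centralizer ({x} : Set G), a * b = b * a

theorem mem_C {x y : G} : y ∈ Subgroup.centralizer ({x} : Set G) ↔ x * y = y * x := by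
  rw [Subgroup.mem_centralizer_iff]
  simp

theorem self_mem_C (x : G) : x ∈ Subgroup.centralizer ({x} : Set G) := mem_C.2 rfl

theorem C_eq (hCA : IsCA G) {x y : G} (hx : x ≠ 1) (hy : y ≠ 1)
    (hxy : y ∈ Subgroup.centralizer ({x} : Set G)) :
    Subgroup.centralizer ({y} : Set G) = Subgroup.centralizer ({x} : Set G) := by
  have hxy' : x ∈ Subgroup.centralizer ({y} : Set G) := mem_C.2 (mem_C.1 hxy).symm
  ext z
  constructor
  · intro hz
    rw [mem_C]
    exact (hCA y hy z hz x hxy').symm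
  · intro hz
    rw [mem_C]
    exact (hCA x hx z hz y hxy).symm

theorem mem_C_conj {g x z : G} : z ∈ Subgroup.centralizer ({g * x * g⁻¹} : Set G) ↔
    g⁻¹ * z * g ∈ Subgroup.centralizer ({x} : Set G) := by
  rw [mem_C, mem_C]
  constructor
  · intro h
    have : x * (g⁻¹ * z * g) = g⁻¹ * (g * x * g⁻¹ * z) * g := by group
    rw [this, h]; group
  · intro h
    have : g * x * g⁻¹ * z = g * (x * (g⁻¹ * z * g)) * g⁻¹ := by group
    rw [this, h]; group

theorem conj_ne_one {g t : G} (ht : t ≠ 1) : g * t * g⁻¹ ≠ 1 := by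
  intro h
  apply ht
  have : t = g⁻¹ * (g * t * g⁻¹) * g := by group
  rw [this, h]; group

theorem ti (hCA : IsCA G) {x : G} (hx : x ≠ 1) :
    IsTISubset ((Subgroup.centralizer ({x} : Set G) : Subgroup G) : Set G) := by
  intro g hg t ht hgt
  by_contra ht1
  apply hg
  have h1 : Subgroup.centralizer ({t} : Set G) = Subgroup.centralizer ({x} : Set G) :=
    C_eq hCA hx ht1 ht
  have h2 : Subgroup.centralizer ({g * t * g⁻¹} : Set G) = Subgroup.centralizer ({x} : Set G) :=
    C_eq hCA hx (conj_ne_one ht1) hgt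
  rw [Subgroup.mem_normalizer_iff]
  intro h
  have e : g⁻¹ * (g * h * g⁻¹) * g = h := by group
  constructor
  · intro hh
    rw [← h2, mem_C_conj, e, h1]
    exact hh
  · intro hh
    rw [← h2, mem_C_conj, e, h1] at hh
    exact hh

theorem IsCA.subgroup (hCA : IsCA G) (K : Subgroup G) : IsCA K := by
  intro x hx a ha b hb
  have hx' : (x : G) ≠ 1 := fun h => hx (Subtype.ext h)
  have ha' : (a : G) ∈ Subgroup.centralizer ({(x : G)} : Set G) := by
    rw [mem_C]
    exact congrArg Subtype.val (mem_C.1 ha)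
  have hb' : (b : G) ∈ Subgroup.centralizer ({(x : G)} : Set G) := by
    rw [mem_C]
    exact congrArg Subtype.val (mem_C.1 hb)
  exact Subtype.ext (hCA x hx' a ha' b hb')

variable [Finite G]

theorem sylow_le (hCA : IsCA G) {x : G} (hx : x ≠ 1) (p : ℕ) [hp : Fact p.Prime]
    (hpd : p ∣ Nat.card (Subgroup.centralizer ({x} : Set G))) :
    ∃ P : Sylow p G, (P : Subgroup G) ≤ Subgroup.centralizer ({x} : Set G) := by
  obtain ⟨y, hy⟩ := exists_prime_orderOf_dvd_card' p hpd
  have hyG : orderOf (y : G) = p := by rw [Subgroup.orderOf_coe]; exact hy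
  have hy1 : (y : G) ≠ 1 := by
    intro h
    rw [h, orderOf_one] at hyG
    exact hp.out.one_lt.ne' hyG.symm
  have hpg : IsPGroup p (Subgroup.zpowers (y : G)) :=
    IsPGroup.of_card (n := 1) (by rw [Nat.card_zpowers, hyG, pow_one])
  obtain ⟨P, hP⟩ := hpg.exists_le_sylow
  have hyP : (y : G) ∈ (P : Subgroup G) := hP (Subgroup.mem_zpowers _)
  haveI : Nontrivial (P : Subgroup G) :=
    ⟨⟨⟨y, hyP⟩, 1, fun h => hy1 (congrArg Subtype.val h)⟩⟩
  haveI := P.2.center_nontrivial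
  obtain ⟨⟨z0, hz0c⟩, hz01⟩ := exists_ne (1 : Subgroup.center (P : Subgroup G))
  have hz1 : (z0 : G) ≠ 1 := by
    intro h
    apply hz01
    apply Subtype.ext
    apply Subtype.ext
    exact h
  have hPz : ∀ f ∈ (P : Subgroup G), f ∈ Subgroup.centralizer ({(z0 : G)} : Set G) := by
    intro f hf
    rw [mem_C]
    have := Subgroup.mem_center_iff.mp hz0c ⟨f, hf⟩
    exact (congrArg Subtype.val this).symm
  have hCy : Subgroup.centralizer ({(y : G)} : Set G) = Subgroup.centralizer ({x} : Set G) :=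
    C_eq hCA hx hy1 y.2
  refine ⟨P, fun f hf => ?_⟩
  rw [← hCy, mem_C]
  exact (hCA z0 hz1 f (hPz f hf) y (hPz y hyP)).symm

end basic

section rel

variable {G : Type u} [Group G]

/-- `x` is conjugate into the centralizer of `y` -/
def rel (x y : {x : G // x ≠ 1}) : Prop :=
  ∃ c : G, c * (x : G) * c⁻¹ ∈ Subgroup.centralizer ({(y : G)} : Set G)

theorem rel_refl (x : {x : G // x ≠ 1}) : rel x x := ⟨1, by simpa using self_mem_C (x : G)⟩

theorem rel_symm {x y : {x : G // x ≠ 1}} (h : rel x y) : rel y x := by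
  obtain ⟨c, hc⟩ := h
  refine ⟨c⁻¹, ?_⟩
  have h1 : (y : G) ∈ Subgroup.centralizer ({c * (x : G) * c⁻¹} : Set G) :=
    mem_C.2 (mem_C.1 hc).symm
  rw [mem_C_conj] at h1
  simpa using h1

theorem rel_trans (hCA : IsCA G) {x y z : {x : G // x ≠ 1}} (h1 : rel x y) (h2 : rel y z) :
    rel x z := by
  obtain ⟨c, hc⟩ := h1
  obtain ⟨k, hk⟩ := h2
  refine ⟨k * c, ?_⟩
  have e1 : Subgroup.centralizer ({k * (y : G) * k⁻¹} : Set G) =
      Subgroup.centralizer ({(z : G)} : Set G) := C_eq hCA z.2 (conj_ne_one y.2) hk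
  rw [← e1, mem_C_conj]
  have e2 : k⁻¹ * (k * c * (x : G) * (k * c)⁻¹) * k = c * (x : G) * c⁻¹ := by group
  rw [e2]
  exact hc

/-- the setoid -/
def relSetoid (hCA : IsCA G) : Setoid {x : G // x ≠ 1} :=
  ⟨rel, ⟨rel_refl, rel_symm, rel_trans hCA⟩⟩

variable [Finite G]

theorem rel_of_not_coprime (hCA : IsCA G) (a b : {x : G // x ≠ 1})
    (h : ¬ Nat.Coprime (Nat.card (Subgroup.centralizer ({(a : G)} : Set G)))
      (Nat.card (Subgroup.centralizer ({(b : G)} : Set G)))) : rel a b := by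
  obtain ⟨p, hp, hpa, hpb⟩ := Nat.Prime.not_coprime_iff_dvd.1 h
  haveI : Fact p.Prime := ⟨hp⟩
  obtain ⟨P, hP⟩ := sylow_le hCA a.2 p hpa
  obtain ⟨Q, hQ⟩ := sylow_le hCA b.2 p hpb
  obtain ⟨c, hc⟩ := MulAction.exists_smul_eq G P Q
  have hpG : p ∣ Nat.card G := hpa.trans (Subgroup.card_subgroup_dvd_card _)
  have hP1 : (P : Subgroup G) ≠ ⊥ := P.ne_bot_of_dvd_card hpG
  obtain ⟨⟨t, htP⟩, ht1⟩ := (Subgroup.ne_bot_iff_exists_ne_one).1 hP1
  have ht1' : t ≠ 1 := fun h => ht1 (Subtype.ext h)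
  have hctQ : c * t * c⁻¹ ∈ (Q : Subgroup G) := by
    rw [← hc, Sylow.coe_subgroup_smul]
    have := Subgroup.smul_mem_pointwise_smul t (MulAut.conj c) (P : Subgroup G) htP
    rwa [MulAut.smul_def, MulAut.conj_apply] at this
  have e1 : Subgroup.centralizer ({t} : Set G) = Subgroup.centralizer ({(a : G)} : Set G) :=
    C_eq hCA a.2 ht1' (hP htP)
  have e2 : Subgroup.centralizer ({c * t * c⁻¹} : Set G) =
      Subgroup.centralizer ({(b : G)} : Set G) := C_eq hCA b.2 (conj_ne_one ht1') (hQ hctQ)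
  refine ⟨c, ?_⟩
  rw [← e2, mem_C_conj]
  have e3 : c⁻¹ * (c * (a : G) * c⁻¹) * c = (a : G) := by group
  rw [e3, e1]
  exact self_mem_C _

end rel

end Cfsg.Agent.Lib.Helper3.CA
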