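import Mathlib
import Cfsg.Agent.Lib.Helper3.CA1

/-! CA-groups of odd order are solvable: the induction. -/
set_option autoImplicit false
open Cfsg

namespace Cfsg.Agent.Lib.Helper3.CA

universe u

theorem solvable_aux : ∀ (n : ℕ) (G : Type u) [Group G] [Finite G], Nat.card G = n →
    Odd (Nat.card G) → IsCA G → Group.IsSolvable G := by
  intro n
  induction n using Nat.strong_induction_on with
  | _ n ih =>
  intro G _ _ hn hodd hCA
  classical
  by_cases hab : ∀ a b : G, a * b = b * a
  · exact isSolvable_of_comm hab
  by_cases hsn : ∃ x : G, x ≠ 1 ∧
      Subgroup.normalizer ((Subgroup.centralizer ({x} : Set G) : Subgroup G) : Set G) ≤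
        Subgroup.centralizer ({x} : Set G)
  · -- Burnside's transfer theorem
    obtain ⟨x, hx, hN⟩ := hsn
    have hA1 : Nat.card (Subgroup.centralizer ({x} : Set G)) ≠ 1 := by
      intro h
      rw [Subgroup.card_eq_one] at h
      have := self_mem_C x
      rw [h, Subgroup.mem_bot] at this
      exact hx this
    have hp : (Nat.card (Subgroup.centralizer ({x} : Set G))).minFac.Prime := Nat.minFac_prime hA1
    haveI : Fact (Nat.card (Subgroup.centralizer ({x} : Set G))).minFac.Prime := ⟨hp⟩
    obtain ⟨P, hPA⟩ := sylow_le hCA hx _ (Nat.minFac_dvd _)
    have hpG : (Nat.card (Subgroup.centralizer ({x} : Set G))).minFac ∣ Nat.card G :=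
      (Nat.minFac_dvd _).trans (Subgroup.card_subgroup_dvd_card _)
    have hP1 : (P : Subgroup G) ≠ ⊥ := P.ne_bot_of_dvd_card hpG
    obtain ⟨⟨t, htP⟩, ht1⟩ := (Subgroup.ne_bot_iff_exists_ne_one).1 hP1
    have ht1' : t ≠ 1 := fun h => ht1 (Subtype.ext h)
    have hP : Subgroup.normalizer ((P : Subgroup G) : Set G) ≤
        Subgroup.centralizer ((P : Subgroup G) : Set G) := by
      intro m hm
      have hmt : m * t * m⁻¹ ∈ (P : Subgroup G) := (Subgroup.mem_normalizer_iff.1 hm t).1 htP
      have hmA : m ∈ Subgroup.centralizer ({x} : Set G) := by
        apply hN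
        by_contra hmN
        exact ht1' (ti hCA hx m hmN t (hPA htP) (hPA hmt))
      rw [Subgroup.mem_centralizer_iff]
      intro f hf
      exact hCA x hx f (hPA hf) m hmA
    have hKcard : Nat.card (MonoidHom.transferSylow P hP).ker < n := by
      have h1 := MonoidHom.not_dvd_card_ker_transferSylow P hP
      have h2 : Nat.card (MonoidHom.transferSylow P hP).ker ∣ Nat.card G :=
        Subgroup.card_subgroup_dvd_card _
      have h3 : Nat.card (MonoidHom.transferSylow P hP).ker ≠ Nat.card G := by
        intro h
        rw [h] at h1
        exact h1 hpG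
      have h4 := Nat.le_of_dvd Nat.card_pos h2
      omega
    have hKodd : Odd (Nat.card (MonoidHom.transferSylow P hP).ker) := by
      obtain ⟨k, hk⟩ := Subgroup.card_subgroup_dvd_card (MonoidHom.transferSylow P hP).ker
      rw [hk] at hodd
      exact (Nat.odd_mul.1 hodd).1
    haveI : Group.IsSolvable (MonoidHom.transferSylow P hP).ker :=
      ih _ hKcard _ rfl hKodd (hCA.subgroup _)
    haveI : Group.IsNilpotent (P : Subgroup G) := P.2.isNilpotent
    exact solvable_of_ker_le_range (MonoidHom.transferSylow P hP).ker.subtype
      (MonoidHom.transferSylow P hP) (by rw [Subgroup.range_subtype])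
  · -- the partition
    push Not at hsn
    exfalso
    haveI : Fintype G := Fintype.ofFinite G
    letI s : Setoid {x : G // x ≠ 1} := relSetoid hCA
    haveI : Finite (Quotient s) := Quotient.finite s
    haveI : Fintype (Quotient s) := Fintype.ofFinite _
    push Not at hab
    obtain ⟨a, b, hab⟩ := hab
    have ha1 : a ≠ 1 := by
      intro h
      apply hab
      rw [h, one_mul, mul_one]
    haveI : Nonempty (Quotient s) := ⟨Quotient.mk s ⟨a, ha1⟩⟩
    let H : Quotient s → Subgroup G := fun i =>
      Subgroup.centralizer ({((Quotient.out i : {x : G // x ≠ 1}) : G)} : Set G)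
    let L : Quotient s → Subgroup G := fun i => Subgroup.normalizer ((H i : Subgroup G) : Set G)
    haveI : ∀ i, Fintype (L i) := fun i => Fintype.ofFinite _
    have C : Cfsg.Agent.Lib.Helper3.FP.Config H L :=
      { fam := fun i =>
          { le := Subgroup.le_normalizer
            out := by
              have h := hsn _ (Quotient.out i).2
              obtain ⟨y, hyN, hyC⟩ := SetLike.not_le_iff_exists.1 h
              exact ⟨y, hyN, hyC⟩
            ne_bot := by
              intro h
              have := self_mem_C ((Quotient.out i : {x : G // x ≠ 1}) : G)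
              have h' : Subgroup.centralizer
                ({((Quotient.out i : {x : G // x ≠ 1}) : G)} : Set G) = ⊥ := h
              rw [h', Subgroup.mem_bot] at this
              exact (Quotient.out i).2 this
            conj := fun y hy h hh => (Subgroup.mem_normalizer_iff.1 hy h).1 hh
            frob := by
              intro h hh h1
              have e := C_eq hCA (Quotient.out i).2 h1 hh
              intro y hy
              have : y ∈ Subgroup.centralizer ({h} : Set G) := hy.2
              rw [e] at this
              exact this
            ti := ti hCA (Quotient.out i).2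
            norm := rfl }
        cop := by
          intro i j hij
          by_contra hc
          have hr := rel_of_not_coprime hCA (Quotient.out i) (Quotient.out j) hc
          apply hij
          have h1 : Quotient.mk s (Quotient.out i) = Quotient.mk s (Quotient.out j) :=
            Quotient.sound hr
          rw [Quotient.out_eq, Quotient.out_eq] at h1
          exact h1
        cover := by
          intro g hg
          refine ⟨Quotient.mk s ⟨g, hg⟩, ?_⟩
          have h1 : rel (Quotient.out (Quotient.mk s ⟨g, hg⟩)) ⟨g, hg⟩ :=
            Quotient.mk_out (s := s) ⟨g, hg⟩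
          exact rel_symm h1 }
    exact C.false' hodd

theorem solvable_of_ca {G : Type u} [Group G] [Finite G] (hodd : Odd (Nat.card G)) (hCA : IsCA G) :
    Group.IsSolvable G :=
  solvable_aux _ G rfl hodd hCA

end Cfsg.Agent.Lib.Helper3.CA
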