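import Mathlib
import Cfsg.Prelude
import Cfsg.Agent.Lib.Helper5.HermBridge
import Cfsg.Agent.Lib.Helper6.GUCDefs

set_option autoImplicit false
set_option linter.unusedSectionVars false

/-!
Farm MNU (statements S2334, S2335): the Landazuri-Seitz lower bounds for the degrees of the
irreducible complex representations of `SU_n(q)`.  Common definitions.

`K` is the field with `q ^ 2` elements, `σ = HermBridge.sigma hK` is `x ↦ x ^ q`, and
`ct σ M` (helper6, `GUCDefs`) is the conjugate transpose of a matrix over arbitrary index types.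
-/

namespace Cfsg.Agent.Lib.Helper3.MNU

open Matrix Cfsg.Agent.Lib.Helper6.GUC

variable {K : Type*} [Field K] (σ : K →+* K)

/-- `X` is hermitian -/
def IsHerm {m : ℕ} (X : Matrix (Fin m) (Fin m) K) : Prop := ct σ X = X

/-- the additive group of hermitian `m × m` matrices -/
def Herm (m : ℕ) : AddSubgroup (Matrix (Fin m) (Fin m) K) where
  carrier := {X | ct σ X = X}
  zero_mem' := ct_zero σ
  add_mem' := by
    intro a b ha hb
    show ct σ (a + b) = a + b
    rw [ct_add, show ct σ a = a from ha, show ct σ b = b from hb]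
  neg_mem' := by
    intro a ha
    show ct σ (-a) = -a
    rw [ct_neg, show ct σ a = a from ha]

theorem mem_Herm {m : ℕ} (X : Matrix (Fin m) (Fin m) K) : X ∈ Herm σ m ↔ ct σ X = X := Iff.rfl

theorem Herm_isHerm {m : ℕ} (X : Herm σ m) : IsHerm σ (X : Matrix (Fin m) (Fin m) K) := X.2

/-- the hermitian value `x† B x = ∑ i j, σ (x i) * B i j * x j` -/
def hq {m : ℕ} (B : Matrix (Fin m) (Fin m) K) (x : Fin m → K) : K :=
  (fun i => σ (x i)) ⬝ᵥ (B *ᵥ x)

/-- the outer product `v† w` of two row vectors: `(v† w) i j = σ (v i) * w j` -/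
def outer {m : ℕ} (v w : Fin m → K) : Matrix (Fin m) (Fin m) K :=
  vecMulVec (fun i => σ (v i)) w

theorem outer_apply {m : ℕ} (v w : Fin m → K) (i j : Fin m) : outer σ v w i j = σ (v i) * w j := rfl

/-- `(v, X)` parametrises an element of the unipotent radical (odd dimension):
`X - X† = ε⁻¹ • v† v` -/
def Adm (ε : K) {m : ℕ} (v : Fin m → K) (X : Matrix (Fin m) (Fin m) K) : Prop :=
  X - ct σ X = ε⁻¹ • outer σ v v

section fin
variable [Fintype K] [DecidableEq K]

noncomputable instance hermFintype (m : ℕ) : Fintype (Herm σ m) := Fintype.ofFinite _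

/-- the congruence orbit `{g† B g : g ∈ SL_m(K)}` -/
noncomputable def orbSL {m : ℕ} (B : Matrix (Fin m) (Fin m) K) : Finset (Matrix (Fin m) (Fin m) K) :=
  Finset.univ.image (fun g : Matrix.SpecialLinearGroup (Fin m) K =>
    ct σ (g : Matrix (Fin m) (Fin m) K) * B * (g : Matrix (Fin m) (Fin m) K))

/-- the congruence orbit `{g† B g : g ∈ GL_m(K)}` -/
noncomputable def orbGL {m : ℕ} (B : Matrix (Fin m) (Fin m) K) : Finset (Matrix (Fin m) (Fin m) K) :=
  Finset.univ.image (fun g : GL (Fin m) K =>
    ct σ (g : Matrix (Fin m) (Fin m) K) * B * (g : Matrix (Fin m) (Fin m) K))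

variable {G : Type*} [Group G] {V : Type*} [AddCommGroup V] [Module ℂ V]

/-- the isotypic projector of the abelian group `u (Herm)` for the character
`X ↦ ψ (tr (B X))` -/
noncomputable def eB (ρ : Representation ℂ G V) (ψ : AddChar K ℂ) {m : ℕ}
    (u : Matrix (Fin m) (Fin m) K → G) (B : Matrix (Fin m) (Fin m) K) : Module.End ℂ V :=
  ((Fintype.card (Herm σ m) : ℂ))⁻¹ • ∑ X : Herm σ m,
    ψ (-(Matrix.trace (B * (X : Matrix (Fin m) (Fin m) K)))) • ρ (u (X : Matrix (Fin m) (Fin m) K))

end fin

/-- `y` is a determinant one isometry of the form with Gram matrix `Gm`: `y† Gm y = Gm` -/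
def IsIso {ι : Type*} [Fintype ι] [DecidableEq ι] (Gm y : Matrix ι ι K) : Prop :=
  ct σ y * Gm * y = Gm ∧ y.det = 1

end Cfsg.Agent.Lib.Helper3.MNU
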