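import Mathlib
import Cfsg.Prelude
import Cfsg.Agent.Lib.Helper3.MNUDefs
import Cfsg.Agent.Lib.Helper5.HermCount
import Cfsg.Agent.Lib.Helper5.HermTv

set_option autoImplicit false
set_option linter.unusedSectionVars false
set_option linter.unusedVariables false

/-!
Farm MNU, unit A: finite field facts and character sums.
-/

namespace Cfsg.Agent.Lib.Helper3.MNU

open Matrix Cfsg.Agent.Lib.Helper6.GUC Cfsg.Agent.Lib.Helper5

section unitA
variable {K : Type*} [Field K] [Fintype K] [DecidableEq K] {q : ℕ} (hK : Fintype.card K = q ^ 2)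

theorem exists_psi (K : Type*) [Field K] [Fintype K] : ∃ ψ : AddChar K ℂ, ψ 1 ≠ 1 :=
  (AddChar.exists_apply_ne_zero (α := K) (a := 1)).2 one_ne_zero

theorem exists_eps : ∃ ε : K, ε ≠ 0 ∧ HermBridge.sigma hK ε = -ε := by
  obtain ⟨c, hc0, hc⟩ := HermTv.exists_trace_zero hK
  exact ⟨c, hc0, by rw [HermBridge.sigma_apply]; exact hc⟩

theorem exists_not_fixed : ∃ ω : K, HermBridge.sigma hK ω ≠ ω := by
  by_contra hcon
  push Not at hcon
  exact HermBridge.sigma_ne_id hK (RingHom.ext hcon)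

theorem exists_trace_one : ∃ θ : K, θ + HermBridge.sigma hK θ = 1 := by
  obtain ⟨μ, -, hμ⟩ := HermWitt.exists_trace (HermBridge.sigma_ne_id hK) (HermBridge.sigma_sigma hK) 1
    (map_one _)
  exact ⟨μ, hμ⟩

theorem card_fixed : Nat.card {t : K // HermBridge.sigma hK t = t} = q := by
  classical
  have h1 := HermCount.card_fixed hK
  have hq2 : 2 ≤ q := Herm.two_le_q hK
  rw [Nat.card_eq_fintype_card, Fintype.card_subtype] at h1 ⊢
  have hsplit : (Finset.univ.filter fun t : K => HermBridge.sigma hK t = t) =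
      insert 0 (Finset.univ.filter fun c : K => c ≠ 0 ∧ c ^ q = c) := by
    ext t
    rw [Finset.mem_filter, Finset.mem_insert, Finset.mem_filter, HermBridge.sigma_apply]
    constructor
    · rintro ⟨-, h⟩
      by_cases ht : t = 0
      · left; exact ht
      · right; exact ⟨Finset.mem_univ _, ht, h⟩
    · rintro (rfl | ⟨-, -, h⟩)
      · exact ⟨Finset.mem_univ _, zero_pow (by omega)⟩
      · exact ⟨Finset.mem_univ _, h⟩
  rw [hsplit, Finset.card_insert_of_notMem (by simp), h1]
  omega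

end unitA

section abstract
variable {K : Type*} [Field K] (σ : K →+* K) (hσ : ∀ a, σ (σ a) = a) {m : ℕ}

theorem herm_entry {B : Matrix (Fin m) (Fin m) K} (hB : IsHerm σ B) (i j : Fin m) :
    σ (B i j) = B j i := by
  have := congrFun (congrFun hB j) i
  rwa [ct_apply] at this

/-- the sesquilinear form `x† B y` -/
def hs (B : Matrix (Fin m) (Fin m) K) (x y : Fin m → K) : K := (fun i => σ (x i)) ⬝ᵥ (B *ᵥ y)

theorem hq_eq_hs (B : Matrix (Fin m) (Fin m) K) (x : Fin m → K) : hq σ B x = hs σ B x x := rfl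

theorem hs_add_left (B : Matrix (Fin m) (Fin m) K) (x x' y : Fin m → K) :
    hs σ B (x + x') y = hs σ B x y + hs σ B x' y := by
  unfold hs
  rw [← add_dotProduct]
  congr 1
  ext i
  simp only [Pi.add_apply, map_add]

theorem hs_add_right (B : Matrix (Fin m) (Fin m) K) (x y y' : Fin m → K) :
    hs σ B x (y + y') = hs σ B x y + hs σ B x y' := by
  unfold hs
  rw [mulVec_add, dotProduct_add]

theorem hs_single [DecidableEq K] (B : Matrix (Fin m) (Fin m) K) (i j : Fin m) (a b : K) :
    hs σ B (Pi.single i a) (Pi.single j b) = σ a * B i j * b := by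
  unfold hs
  have h1 : (fun k => σ ((Pi.single i a : Fin m → K) k)) = Pi.single i (σ a) := by
    ext k
    by_cases hk : k = i
    · subst hk; simp
    · simp [hk]
  rw [h1, single_dotProduct, mulVec_single]
  simp only [Pi.smul_apply, col_apply, MulOpposite.smul_eq_mul_unop, MulOpposite.unop_op]
  ring

include hσ in
theorem hq_fixed' {B : Matrix (Fin m) (Fin m) K} (hB : IsHerm σ B) (x : Fin m → K) :
    σ (hq σ B x) = hq σ B x := by
  unfold hq
  simp only [dotProduct, mulVec, map_sum, map_mul, hσ, herm_entry σ hB]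
  simp only [Finset.mul_sum]
  rw [Finset.sum_comm]
  apply Finset.sum_congr rfl
  intro i _
  apply Finset.sum_congr rfl
  intro j _
  ring

theorem hq_cong' (B g : Matrix (Fin m) (Fin m) K) (x : Fin m → K) :
    hq σ (ct σ g * B * g) x = hq σ B (g *ᵥ x) := by
  unfold hq
  rw [← mulVec_mulVec, ← mulVec_mulVec, dotProduct_mulVec]
  congr 1
  ext j
  simp only [vecMul, dotProduct, ct_apply, mulVec, map_sum, map_mul]
  apply Finset.sum_congr rfl
  intro i _
  ring

include hσ in
theorem exists_hq_ne_zero' [DecidableEq K] (hμ : ∃ μ : K, μ + σ μ = 1)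
    {B : Matrix (Fin m) (Fin m) K} (hB : IsHerm σ B) (hB0 : B ≠ 0) :
    ∃ x : Fin m → K, hq σ B x ≠ 0 := by
  by_cases hd : ∃ i, B i i ≠ 0
  · obtain ⟨i, hi⟩ := hd
    refine ⟨Pi.single i 1, ?_⟩
    rw [hq_eq_hs, hs_single, map_one, one_mul, mul_one]
    exact hi
  · push Not at hd
    obtain ⟨i, j, hij⟩ : ∃ i j, B i j ≠ 0 := by
      by_contra h
      push Not at h
      exact hB0 (by ext i j; exact h i j)
    obtain ⟨μ, hμ⟩ := hμ
    refine ⟨Pi.single i 1 + Pi.single j (μ / B i j), ?_⟩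
    rw [hq_eq_hs, hs_add_left, hs_add_right, hs_add_right, hs_single, hs_single, hs_single,
      hs_single, hd i, hd j]
    have h1 : B j i = σ (B i j) := (herm_entry σ hB i j).symm
    have h2 : σ (B i j) ≠ 0 := by
      intro h
      apply hij
      have := congrArg σ h
      rwa [hσ, map_zero] at this
    have h3 : σ 1 * 0 * 1 + σ 1 * B i j * (μ / B i j) +
        (σ (μ / B i j) * B j i * 1 + σ (μ / B i j) * 0 * (μ / B i j)) = μ + σ μ := by
      rw [h1, map_div₀, map_one]
      field_simp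
      ring
    rw [h3, hμ]
    exact one_ne_zero

theorem ct_single [DecidableEq K] (i j : Fin m) (c : K) :
    ct σ (Matrix.single i j c) = Matrix.single j i (σ c) := by
  ext a b
  rw [ct_apply, Matrix.single_apply, Matrix.single_apply]
  by_cases h : i = b ∧ j = a
  · rw [if_pos h, if_pos ⟨h.2, h.1⟩]
  · rw [if_neg h, if_neg (fun h' => h ⟨h'.2, h'.1⟩), map_zero]

/-- the additive map `B ↦ tr (B X)` on hermitian matrices -/
def trHomH (X : Matrix (Fin m) (Fin m) K) : Herm σ m →+ K where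
  toFun B := Matrix.trace ((B : Matrix (Fin m) (Fin m) K) * X)
  map_zero' := by simp
  map_add' B B' := by simp [add_mul]

theorem trHomH_apply (X : Matrix (Fin m) (Fin m) K) (B : Herm σ m) :
    trHomH σ X B = Matrix.trace ((B : Matrix (Fin m) (Fin m) K) * X) := rfl

include hσ in
theorem exists_herm_trace_one [DecidableEq K] (hμ : ∃ μ : K, μ + σ μ = 1)
    {X : Matrix (Fin m) (Fin m) K} (hX : IsHerm σ X) (hX0 : X ≠ 0) :
    ∃ B : Herm σ m, Matrix.trace ((B : Matrix (Fin m) (Fin m) K) * X) = 1 := by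
  obtain ⟨i, j, hij⟩ : ∃ i j, X i j ≠ 0 := by
    by_contra h
    push Not at h
    exact hX0 (by ext i j; exact h i j)
  obtain ⟨μ, hμ⟩ := hμ
  have hmem : (μ / X i j) • Matrix.single j i (1 : K) + σ (μ / X i j) • Matrix.single i j (1 : K) ∈
      Herm σ m := by
    show ct σ _ = _
    rw [ct_add, ct_smul, ct_smul, ct_single, ct_single, hσ, map_one, add_comm]
  refine ⟨⟨_, hmem⟩, ?_⟩
  show Matrix.trace (((μ / X i j) • Matrix.single j i (1 : K) +
    σ (μ / X i j) • Matrix.single i j (1 : K)) * X) = 1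
  rw [add_mul, Matrix.trace_add, smul_mul_assoc, smul_mul_assoc, Matrix.trace_smul,
    Matrix.trace_smul, Matrix.trace_single_mul, Matrix.trace_single_mul, smul_eq_mul, smul_eq_mul,
    smul_eq_mul, smul_eq_mul, one_mul, one_mul]
  have h1 : X j i = σ (X i j) := (herm_entry σ hX i j).symm
  have h2 : σ (X i j) ≠ 0 := by
    intro h
    apply hij
    have := congrArg σ h
    rwa [hσ, map_zero] at this
  rw [h1, map_div₀, ← hμ]
  field_simp

end abstract

section unitA2
variable {K : Type*} [Field K] [Fintype K] [DecidableEq K] {q : ℕ} (hK : Fintype.card K = q ^ 2)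

theorem hq_fixed {m : ℕ} (B : Matrix (Fin m) (Fin m) K) (hB : IsHerm (HermBridge.sigma hK) B)
    (x : Fin m → K) :
    HermBridge.sigma hK (hq (HermBridge.sigma hK) B x) = hq (HermBridge.sigma hK) B x :=
  hq_fixed' _ (HermBridge.sigma_sigma hK) hB x

theorem hq_cong {m : ℕ} (B g : Matrix (Fin m) (Fin m) K) (x : Fin m → K) :
    hq (HermBridge.sigma hK) (ct (HermBridge.sigma hK) g * B * g) x =
      hq (HermBridge.sigma hK) B (g *ᵥ x) :=
  hq_cong' _ B g x

theorem exists_hq_ne_zero {m : ℕ} (B : Matrix (Fin m) (Fin m) K)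
    (hB : IsHerm (HermBridge.sigma hK) B) (hB0 : B ≠ 0) :
    ∃ x : Fin m → K, hq (HermBridge.sigma hK) B x ≠ 0 :=
  exists_hq_ne_zero' _ (HermBridge.sigma_sigma hK) (exists_trace_one hK) hB hB0

theorem sum_chi_zero (ψ : AddChar K ℂ) (hψ : ψ 1 ≠ 1) {m : ℕ} (X : Matrix (Fin m) (Fin m) K)
    (hX : IsHerm (HermBridge.sigma hK) X) (hX0 : X ≠ 0) :
    ∑ B : Herm (HermBridge.sigma hK) m, ψ (Matrix.trace ((B : Matrix (Fin m) (Fin m) K) * X)) = 0 := by
  have hne : ψ.compAddMonoidHom (trHomH (HermBridge.sigma hK) X) ≠ 1 := by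
    obtain ⟨B, hBt⟩ := exists_herm_trace_one _ (HermBridge.sigma_sigma hK) (exists_trace_one hK) hX hX0
    refine (AddChar.ne_one_iff).2 ⟨B, ?_⟩
    show ψ (trHomH (HermBridge.sigma hK) X B) ≠ 1
    rw [trHomH_apply, hBt]
    exact hψ
  have := AddChar.sum_eq_zero_of_ne_one hne
  simpa [trHomH_apply] using this

end unitA2

end Cfsg.Agent.Lib.Helper3.MNU
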