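import Mathlib
import Cfsg.Prelude
import Cfsg.Agent.Lib.Helper3.MNUDefs
import Cfsg.Agent.Lib.Helper3.MNUA
import Cfsg.Agent.Lib.Helper6.WlB
import Cfsg.Agent.Lib.Lead.LS1

set_option autoImplicit false
set_option linter.unusedSectionVars false
set_option linter.unusedVariables false

/-!
Farm MNU, unit O: the orbit bound (hermitian version of helper6's `WlB`).
-/

namespace Cfsg.Agent.Lib.Helper3.MNU

open Matrix Cfsg.Agent.Lib.Helper6.GUC Cfsg.Agent.Lib.Helper5 Polynomial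

section hsmore
variable {K : Type*} [Field K] (σ : K →+* K) {m : ℕ}

theorem hs_single_left [DecidableEq K] (B : Matrix (Fin m) (Fin m) K) (i : Fin m) (a : K)
    (y : Fin m → K) : hs σ B (Pi.single i a) y = σ a * (B *ᵥ y) i := by
  unfold hs
  have h1 : (fun k => σ ((Pi.single i a : Fin m → K) k)) = Pi.single i (σ a) := by
    ext k
    by_cases hk : k = i
    · subst hk; simp
    · simp [hk]
  rw [h1, single_dotProduct]

theorem hs_single_right [DecidableEq K] (B : Matrix (Fin m) (Fin m) K) (x : Fin m → K) (j : Fin m)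
    (b : K) : hs σ B x (Pi.single j b) = ((fun k => σ (x k)) ᵥ* B) j * b := by
  unfold hs
  rw [dotProduct_mulVec, dotProduct_single]

end hsmore

section count
variable {K : Type*} [Field K] [Fintype K] [DecidableEq K] {q : ℕ} (hK : Fintype.card K = q ^ 2)
variable {m : ℕ}

theorem cons_eq_add (t : K) (z : Fin m → K) :
    (Fin.cons t z : Fin (m + 1) → K) = Pi.single 0 t + Fin.cons 0 z := by
  ext j
  refine Fin.cases ?_ (fun k => ?_) j
  · simp
  · simp

/-- the value on `Fin.cons t z` as a polynomial in `t` -/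
theorem hq_cons (T : Matrix (Fin (m + 1)) (Fin (m + 1)) K) (t : K) (z : Fin m → K) :
    hq (HermBridge.sigma hK) T (Fin.cons t z) =
      T 0 0 * t ^ (q + 1) + (T *ᵥ (Fin.cons 0 z : Fin (m + 1) → K)) 0 * t ^ q +
        ((fun k => HermBridge.sigma hK ((Fin.cons 0 z : Fin (m + 1) → K) k)) ᵥ* T) 0 * t +
        hq (HermBridge.sigma hK) T (Fin.cons 0 z) := by
  rw [cons_eq_add, hq_eq_hs, hs_add_left, hs_add_right, hs_add_right, hs_single, hs_single_left,
    hs_single_right, ← hq_eq_hs, HermBridge.sigma_apply]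
  ring

theorem card_hq_le (T : Matrix (Fin (m + 1)) (Fin (m + 1)) K) (hc : T 0 0 ≠ 0) (c : K) :
    (Finset.univ.filter (fun y : Fin (m + 1) → K => hq (HermBridge.sigma hK) T y = c)).card
      ≤ (q + 1) * (q ^ 2) ^ m := by
  have hq1 : 1 ≤ q := by have := Herm.two_le_q hK; omega
  set s := Finset.univ.filter (fun y : Fin (m + 1) → K => hq (HermBridge.sigma hK) T y = c) with hs
  have h1 := Finset.card_le_mul_card_image (f := fun y : Fin (m + 1) → K => Fin.tail y) s (q + 1) ?_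
  · calc s.card ≤ (q + 1) * (s.image fun y => Fin.tail y).card := h1
      _ ≤ (q + 1) * Fintype.card (Fin m → K) := Nat.mul_le_mul_left _ (Finset.card_le_univ _)
      _ = (q + 1) * (q ^ 2) ^ m := by rw [Fintype.card_fun, Fintype.card_fin, hK]
  · intro z _
    -- the polynomial
    set β1 : K := (T *ᵥ (Fin.cons 0 z : Fin (m + 1) → K)) 0 with hβ1
    set β2 : K := ((fun k => HermBridge.sigma hK ((Fin.cons 0 z : Fin (m + 1) → K) k)) ᵥ* T) 0 with hβ2
    set γ : K := hq (HermBridge.sigma hK) T (Fin.cons 0 z) with hγ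
    set p : K[X] := C (T 0 0) * X ^ (q + 1) + C β1 * X ^ q + C β2 * X + C (γ - c) with hp
    have hcoeff : p.coeff (q + 1) = T 0 0 := by
      rw [hp]
      simp only [coeff_add, coeff_C_mul, coeff_X_pow, coeff_X, coeff_C]
      have e1 : ¬ (q + 1 = q) := by omega
      have e2 : ¬ (1 = q + 1) := by omega
      have e3 : ¬ (q + 1 = 0) := by omega
      simp [e1, e2, e3]
      intro h; omega
    have hp0 : p ≠ 0 := by
      intro h
      rw [h, coeff_zero] at hcoeff
      exact hc hcoeff.symm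
    have hdeg : p.natDegree ≤ q + 1 := by
      rw [hp]
      refine (natDegree_add_le _ _).trans (max_le ((natDegree_add_le _ _).trans (max_le
        ((natDegree_add_le _ _).trans (max_le ?_ ?_)) ?_)) ?_)
      · exact natDegree_C_mul_X_pow_le _ _
      · exact (natDegree_C_mul_X_pow_le _ _).trans (by omega)
      · exact (natDegree_C_mul_le _ _).trans (by rw [natDegree_X]; omega)
      · rw [natDegree_C]; omega
    have hroots : p.roots.toFinset.card ≤ q + 1 :=
      (Multiset.toFinset_card_le _).trans ((card_roots' p).trans hdeg)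
    refine le_trans (Finset.card_le_card_of_injOn (fun a : Fin (m + 1) → K => a 0) ?_ ?_) hroots
    · intro a ha
      simp only [Finset.coe_filter, Set.mem_ofPred_eq] at ha
      obtain ⟨has, haz⟩ := ha
      have hac : hq (HermBridge.sigma hK) T a = c := by
        have := (Finset.mem_filter.1 has).2
        exact this
      have hacons : a = Fin.cons (a 0) z := by
        rw [← haz]
        exact (Fin.cons_self_tail a).symm
      rw [hacons, hq_cons] at hac
      simp only [Finset.mem_coe, Multiset.mem_toFinset, mem_roots hp0, IsRoot.def]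
      rw [hp]
      simp only [eval_add, eval_mul, eval_C, eval_pow, eval_X]
      linear_combination hac
    · intro a ha a' ha' h0
      simp only [Finset.coe_filter, Set.mem_ofPred_eq] at ha ha'
      have h0' : a 0 = a' 0 := h0
      rw [← Fin.cons_self_tail a, ← Fin.cons_self_tail a', ha.2, ha'.2, h0']

theorem ct_shearMat (w : Fin m → K) :
    ct (HermBridge.sigma hK) (Cfsg.Agent.Lib.Helper6.Wl.shearMat w) =
      1 + vecMulVec (Fin.cons 0 (fun k => HermBridge.sigma hK (w k)) : Fin (m + 1) → K)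
        (Pi.single 0 1) := by
  ext i j
  rw [ct_apply]
  unfold Cfsg.Agent.Lib.Helper6.Wl.shearMat
  simp only [Matrix.add_apply, Matrix.one_apply, vecMulVec_apply, map_add, map_mul]
  have h1 : HermBridge.sigma hK (if j = i then (1 : K) else 0) = if i = j then 1 else 0 := by
    by_cases hij : i = j
    · subst hij; simp
    · have hji : ¬ j = i := fun h => hij h.symm
      rw [if_neg hji, if_neg hij, map_zero]
  have h2 : HermBridge.sigma hK ((Pi.single 0 1 : Fin (m + 1) → K) j) =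
      (Pi.single 0 1 : Fin (m + 1) → K) j := by
    by_cases hj : j = 0
    · subst hj; simp
    · rw [Pi.single_eq_of_ne hj, map_zero]
  have h3 : HermBridge.sigma hK ((Fin.cons 0 w : Fin (m + 1) → K) i) =
      (Fin.cons 0 (fun k => HermBridge.sigma hK (w k)) : Fin (m + 1) → K) i := by
    refine Fin.cases ?_ (fun k => ?_) i
    · simp only [Fin.cons_zero, map_zero]
    · simp only [Fin.cons_succ]
  rw [h1, h2, h3]
  ring

theorem ct_shearMat_mulVec (w : Fin m → K) (y : Fin (m + 1) → K) :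
    ct (HermBridge.sigma hK) (Cfsg.Agent.Lib.Helper6.Wl.shearMat w) *ᵥ y =
      y + y 0 • (Fin.cons 0 (fun k => HermBridge.sigma hK (w k)) : Fin (m + 1) → K) := by
  rw [ct_shearMat, add_mulVec, one_mulVec, vecMulVec_mulVec, single_one_dotProduct]
  simp

theorem card_hq_orbit_le (T : Matrix (Fin (m + 1)) (Fin (m + 1)) K) (hc : T 0 0 ≠ 0) (c : K)
    (g gi : Matrix (Fin (m + 1)) (Fin (m + 1)) K) (hg : gi * g = 1) :
    (Finset.univ.filter (fun y : Fin (m + 1) → K =>
      hq (HermBridge.sigma hK) (ct (HermBridge.sigma hK) g * T * g) y = c)).card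
      ≤ (q + 1) * (q ^ 2) ^ m := by
  refine le_trans (Finset.card_le_card_of_injOn (fun x => g *ᵥ x) ?_ ?_) (card_hq_le hK T hc c)
  · intro x hx
    simp only [Finset.coe_filter, Finset.mem_univ, true_and, Set.mem_ofPred_eq] at hx ⊢
    rw [← hq_cong]
    exact hx
  · intro x _ x' _ hxx
    have hxx' : g *ᵥ x = g *ᵥ x' := hxx
    calc x = gi *ᵥ (g *ᵥ x) := by rw [mulVec_mulVec, hg, one_mulVec]
      _ = gi *ᵥ (g *ᵥ x') := by rw [hxx']
      _ = x' := by rw [mulVec_mulVec, hg, one_mulVec]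

theorem card_orbit_ge_gen (T : Matrix (Fin (m + 1)) (Fin (m + 1)) K) (hc : T 0 0 ≠ 0)
    (O : Finset (Matrix (Fin (m + 1)) (Fin (m + 1)) K)) (x : Fin (m + 1) → K)
    (h hi : Matrix (Fin (m + 1)) (Fin (m + 1)) K) (hhi : hi * h = 1)
    (hx : hi *ᵥ x = Pi.single 0 1)
    (hO : ∀ w : Fin m → K, ct (HermBridge.sigma hK) (Cfsg.Agent.Lib.Helper6.Wl.shearMat w * hi) * T *
      (Cfsg.Agent.Lib.Helper6.Wl.shearMat w * hi) ∈ O) :
    (q ^ 2) ^ m ≤ (O.filter (fun X => hq (HermBridge.sigma hK) X x = T 0 0)).card := by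
  set e : Fin (m + 1) → K := Pi.single 0 1 with he
  have hqe : hq (HermBridge.sigma hK) T e = T 0 0 := by
    rw [he, hq_eq_hs, hs_single, map_one, one_mul, mul_one]
  have hTe0 : (T *ᵥ e) 0 = T 0 0 := by
    rw [he, mulVec_single_one]
    rfl
  let Φ : (Fin m → K) → Matrix (Fin (m + 1)) (Fin (m + 1)) K := fun w =>
    ct (HermBridge.sigma hK) (Cfsg.Agent.Lib.Helper6.Wl.shearMat w * hi) * T *
      (Cfsg.Agent.Lib.Helper6.Wl.shearMat w * hi)
  have hBx : ∀ w : Fin m → K, (Cfsg.Agent.Lib.Helper6.Wl.shearMat w * hi) *ᵥ x = e := by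
    intro w
    rw [← mulVec_mulVec, hx, Cfsg.Agent.Lib.Helper6.Wl.shearMat_mulVec_e]
  have hΦx : ∀ w : Fin m → K, Φ w *ᵥ x = ct (HermBridge.sigma hK) hi *ᵥ
      (T *ᵥ e + T 0 0 • (Fin.cons 0 (fun k => HermBridge.sigma hK (w k)) : Fin (m + 1) → K)) := by
    intro w
    show (ct (HermBridge.sigma hK) (Cfsg.Agent.Lib.Helper6.Wl.shearMat w * hi) * T *
      (Cfsg.Agent.Lib.Helper6.Wl.shearMat w * hi)) *ᵥ x = _
    rw [← mulVec_mulVec, hBx, ct_mul, ← mulVec_mulVec, ← mulVec_mulVec, ct_shearMat_mulVec, hTe0]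
  have hcancel : ∀ z : Fin (m + 1) → K,
      ct (HermBridge.sigma hK) h *ᵥ (ct (HermBridge.sigma hK) hi *ᵥ z) = z := by
    intro z
    rw [mulVec_mulVec, ← ct_mul, hhi, ct_one, one_mulVec]
  calc (q ^ 2) ^ m = (Finset.univ : Finset (Fin m → K)).card := by
        rw [Finset.card_univ, Fintype.card_fun, Fintype.card_fin, hK]
    _ ≤ _ := Finset.card_le_card_of_injOn Φ ?_ ?_
  · intro w _
    simp only [Finset.coe_filter, Set.mem_ofPred_eq]
    refine ⟨hO w, ?_⟩
    show hq (HermBridge.sigma hK) (ct (HermBridge.sigma hK)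
      (Cfsg.Agent.Lib.Helper6.Wl.shearMat w * hi) * T *
      (Cfsg.Agent.Lib.Helper6.Wl.shearMat w * hi)) x = T 0 0
    rw [hq_cong, hBx]
    exact hqe
  · intro w _ w' _ hww
    have h1 : Φ w *ᵥ x = Φ w' *ᵥ x := by rw [show Φ w = Φ w' from hww]
    rw [hΦx, hΦx] at h1
    have h2 := congrArg (fun v => ct (HermBridge.sigma hK) h *ᵥ v) h1
    simp only [hcancel] at h2
    have h3 : T 0 0 • (Fin.cons 0 (fun k => HermBridge.sigma hK (w k)) : Fin (m + 1) → K) =
        T 0 0 • Fin.cons 0 (fun k => HermBridge.sigma hK (w' k)) := add_left_cancel h2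
    have h4 : (Fin.cons 0 (fun k => HermBridge.sigma hK (w k)) : Fin (m + 1) → K) =
        Fin.cons 0 (fun k => HermBridge.sigma hK (w' k)) := by
      have := congrArg (fun v => (T 0 0)⁻¹ • v) h3
      simpa [smul_smul, inv_mul_cancel₀ hc] using this
    have h5 := congrArg Fin.tail h4
    simp only [Fin.tail_cons] at h5
    funext k
    exact (HermBridge.sigma hK).injective (congrFun h5 k)

theorem orbit_bound_gen (T : Matrix (Fin (m + 1)) (Fin (m + 1)) K) (hc : T 0 0 ≠ 0)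
    (O : Finset (Matrix (Fin (m + 1)) (Fin (m + 1)) K))
    (hO1 : ∀ X ∈ O, ∃ g gi : Matrix (Fin (m + 1)) (Fin (m + 1)) K,
      gi * g = 1 ∧ X = ct (HermBridge.sigma hK) g * T * g)
    (hO2 : ∀ x : Fin (m + 1) → K, x ≠ 0 → ∃ h hi : Matrix (Fin (m + 1)) (Fin (m + 1)) K,
      hi * h = 1 ∧ hi *ᵥ x = Pi.single 0 1 ∧
      ∀ w : Fin m → K, ct (HermBridge.sigma hK) (Cfsg.Agent.Lib.Helper6.Wl.shearMat w * hi) * T *
        (Cfsg.Agent.Lib.Helper6.Wl.shearMat w * hi) ∈ O) :
    q ^ (2 * (m + 1)) - 1 ≤ (q + 1) * O.card := by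
  have hq0 : 0 < (q ^ 2) ^ m := by
    have := Herm.two_le_q hK
    positivity
  have hswap := Finset.sum_card_bipartiteAbove_eq_sum_card_bipartiteBelow
    (fun (X : Matrix (Fin (m + 1)) (Fin (m + 1)) K) (x : Fin (m + 1) → K) =>
      hq (HermBridge.sigma hK) X x = T 0 0) (s := O) (t := Finset.univ)
  have hup : ∑ X ∈ O, (Finset.bipartiteAbove
      (fun (X : Matrix (Fin (m + 1)) (Fin (m + 1)) K) (x : Fin (m + 1) → K) =>
        hq (HermBridge.sigma hK) X x = T 0 0) Finset.univ X).card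
      ≤ O.card * ((q + 1) * (q ^ 2) ^ m) := by
    rw [← smul_eq_mul]
    apply Finset.sum_le_card_nsmul
    intro X hX
    obtain ⟨g, gi, hg, rfl⟩ := hO1 X hX
    exact card_hq_orbit_le hK T hc (T 0 0) g gi hg
  have hlow : ((q ^ 2) ^ (m + 1) - 1) * (q ^ 2) ^ m ≤
      ∑ x ∈ (Finset.univ : Finset (Fin (m + 1) → K)), (Finset.bipartiteBelow
      (fun (X : Matrix (Fin (m + 1)) (Fin (m + 1)) K) (x : Fin (m + 1) → K) =>
        hq (HermBridge.sigma hK) X x = T 0 0) O x).card := by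
    calc ((q ^ 2) ^ (m + 1) - 1) * (q ^ 2) ^ m
        = ((Finset.univ : Finset (Fin (m + 1) → K)).erase 0).card • (q ^ 2) ^ m := by
          rw [Finset.card_erase_of_mem (Finset.mem_univ _), Finset.card_univ, Fintype.card_fun,
            Fintype.card_fin, smul_eq_mul, hK]
      _ ≤ ∑ x ∈ ((Finset.univ : Finset (Fin (m + 1) → K)).erase 0), (Finset.bipartiteBelow
          (fun (X : Matrix (Fin (m + 1)) (Fin (m + 1)) K) (x : Fin (m + 1) → K) =>
            hq (HermBridge.sigma hK) X x = T 0 0) O x).card :=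
          Finset.card_nsmul_le_sum _ _ _ (fun x hx => by
            obtain ⟨h, hi, hhi, hx1, hO⟩ := hO2 x (Finset.ne_of_mem_erase hx)
            exact card_orbit_ge_gen hK T hc O x h hi hhi hx1 hO)
      _ ≤ _ := Finset.sum_le_sum_of_subset (Finset.erase_subset _ _)
  have hfin : ((q ^ 2) ^ (m + 1) - 1) * (q ^ 2) ^ m ≤ ((q + 1) * O.card) * (q ^ 2) ^ m := by
    calc _ ≤ _ := hlow
      _ = _ := hswap.symm
      _ ≤ _ := hup
      _ = _ := by ring
  have := Nat.le_of_mul_le_mul_right hfin hq0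
  rwa [← pow_mul] at this

end count

section final
variable {K : Type*} [Field K] [Fintype K] [DecidableEq K] {q : ℕ} (hK : Fintype.card K = q ^ 2)

theorem e0_ne_zero {m : ℕ} : (Pi.single 0 1 : Fin (m + 1) → K) ≠ 0 := by
  intro h
  have := congrFun h 0
  simp at this

theorem hq_e0 {m : ℕ} (T : Matrix (Fin (m + 1)) (Fin (m + 1)) K) :
    hq (HermBridge.sigma hK) T (Pi.single 0 1) = T 0 0 := by
  rw [hq_eq_hs, hs_single, map_one, one_mul, mul_one]

/-- (O) the orbit bound for `SL_m`, `m ≥ 2` (transitivity: `Lead.LS1.trans_vec`). -/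
theorem orbit_bound_SL {m : ℕ} (hm : 2 ≤ m) (B : Matrix (Fin m) (Fin m) K)
    (hB : IsHerm (HermBridge.sigma hK) B) (hB0 : B ≠ 0) :
    q ^ (2 * m) - 1 ≤ (q + 1) * (orbSL (HermBridge.sigma hK) B).card := by
  obtain ⟨w, hw⟩ := exists_hq_ne_zero hK B hB hB0
  have hw0 : w ≠ 0 := by
    rintro rfl
    apply hw
    simp [hq]
  rcases m with _ | m
  · omega
  obtain ⟨g, hg⟩ := Cfsg.Agent.Lib.Lead.LS1.trans_vec hm _ w e0_ne_zero hw0
  set T : Matrix (Fin (m + 1)) (Fin (m + 1)) K :=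
    ct (HermBridge.sigma hK) (g : Matrix (Fin (m + 1)) (Fin (m + 1)) K) * B *
      (g : Matrix (Fin (m + 1)) (Fin (m + 1)) K) with hT'
  have hc : T 0 0 ≠ 0 := by
    rw [← hq_e0 hK T, hT', hq_cong, hg]
    exact hw
  have hsub : orbSL (HermBridge.sigma hK) T ⊆ orbSL (HermBridge.sigma hK) B := by
    intro X hX
    obtain ⟨b, -, rfl⟩ := Finset.mem_image.1 hX
    refine Finset.mem_image.2 ⟨g * b, Finset.mem_univ _, ?_⟩
    rw [Matrix.SpecialLinearGroup.coe_mul, ct_mul, hT']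
    simp only [Matrix.mul_assoc]
  have hmain := orbit_bound_gen hK T hc (orbSL (HermBridge.sigma hK) T) ?_ ?_
  · calc _ ≤ (q + 1) * (orbSL (HermBridge.sigma hK) T).card := hmain
      _ ≤ _ := Nat.mul_le_mul_left _ (Finset.card_le_card hsub)
  · intro X hX
    obtain ⟨b, -, rfl⟩ := Finset.mem_image.1 hX
    refine ⟨(b : Matrix (Fin (m + 1)) (Fin (m + 1)) K),
      ((b⁻¹ : Matrix.SpecialLinearGroup (Fin (m + 1)) K) : Matrix (Fin (m + 1)) (Fin (m + 1)) K),
      ?_, rfl⟩
    rw [← Matrix.SpecialLinearGroup.coe_mul, inv_mul_cancel, Matrix.SpecialLinearGroup.coe_one]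
  · intro x hx
    obtain ⟨h, hh⟩ := Cfsg.Agent.Lib.Lead.LS1.trans_vec hm _ x e0_ne_zero hx
    refine ⟨(h : Matrix (Fin (m + 1)) (Fin (m + 1)) K),
      ((h⁻¹ : Matrix.SpecialLinearGroup (Fin (m + 1)) K) : Matrix (Fin (m + 1)) (Fin (m + 1)) K),
      ?_, ?_, ?_⟩
    · rw [← Matrix.SpecialLinearGroup.coe_mul, inv_mul_cancel, Matrix.SpecialLinearGroup.coe_one]
    · rw [← hh, mulVec_mulVec, ← Matrix.SpecialLinearGroup.coe_mul, inv_mul_cancel,
        Matrix.SpecialLinearGroup.coe_one, one_mulVec]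
    · intro w
      let S : Matrix.SpecialLinearGroup (Fin (m + 1)) K :=
        ⟨Cfsg.Agent.Lib.Helper6.Wl.shearMat w, Cfsg.Agent.Lib.Helper6.Wl.shearMat_det w⟩
      refine Finset.mem_image.2 ⟨S * h⁻¹, Finset.mem_univ _, ?_⟩
      rw [Matrix.SpecialLinearGroup.coe_mul]

/-- (O) the orbit bound for `GL_m`, `m ≥ 1` (transitivity: helper6 `Wl.exists_gl_mulVec`). -/
theorem orbit_bound_GL {m : ℕ} (hm : 1 ≤ m) (B : Matrix (Fin m) (Fin m) K)
    (hB : IsHerm (HermBridge.sigma hK) B) (hB0 : B ≠ 0) :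
    q ^ (2 * m) - 1 ≤ (q + 1) * (orbGL (HermBridge.sigma hK) B).card := by
  obtain ⟨w, hw⟩ := exists_hq_ne_zero hK B hB hB0
  have hw0 : w ≠ 0 := by
    rintro rfl
    apply hw
    simp [hq]
  rcases m with _ | m
  · omega
  obtain ⟨g, hg⟩ := Cfsg.Agent.Lib.Helper6.Wl.exists_gl_mulVec w hw0 0
  set T : Matrix (Fin (m + 1)) (Fin (m + 1)) K :=
    ct (HermBridge.sigma hK) (g : Matrix (Fin (m + 1)) (Fin (m + 1)) K) * B *
      (g : Matrix (Fin (m + 1)) (Fin (m + 1)) K) with hT'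
  have hc : T 0 0 ≠ 0 := by
    rw [← hq_e0 hK T, hT', hq_cong, hg]
    exact hw
  have hsub : orbGL (HermBridge.sigma hK) T ⊆ orbGL (HermBridge.sigma hK) B := by
    intro X hX
    obtain ⟨b, -, rfl⟩ := Finset.mem_image.1 hX
    refine Finset.mem_image.2 ⟨g * b, Finset.mem_univ _, ?_⟩
    rw [Units.val_mul, ct_mul, hT']
    simp only [Matrix.mul_assoc]
  have hmain := orbit_bound_gen hK T hc (orbGL (HermBridge.sigma hK) T) ?_ ?_
  · calc _ ≤ (q + 1) * (orbGL (HermBridge.sigma hK) T).card := hmain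
      _ ≤ _ := Nat.mul_le_mul_left _ (Finset.card_le_card hsub)
  · intro X hX
    obtain ⟨b, -, rfl⟩ := Finset.mem_image.1 hX
    refine ⟨(b : Matrix (Fin (m + 1)) (Fin (m + 1)) K),
      ((b⁻¹ : GL (Fin (m + 1)) K) : Matrix (Fin (m + 1)) (Fin (m + 1)) K), ?_, rfl⟩
    rw [← Units.val_mul, inv_mul_cancel, Units.val_one]
  · intro x hx
    obtain ⟨h, hh⟩ := Cfsg.Agent.Lib.Helper6.Wl.exists_gl_mulVec x hx 0
    refine ⟨(h : Matrix (Fin (m + 1)) (Fin (m + 1)) K),
      ((h⁻¹ : GL (Fin (m + 1)) K) : Matrix (Fin (m + 1)) (Fin (m + 1)) K), ?_, ?_, ?_⟩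
    · rw [← Units.val_mul, inv_mul_cancel, Units.val_one]
    · rw [← hh, mulVec_mulVec, ← Units.val_mul, inv_mul_cancel, Units.val_one, one_mulVec]
    · intro w
      exact Finset.mem_image.2 ⟨Matrix.GeneralLinearGroup.mkOfDetNeZero
        (Cfsg.Agent.Lib.Helper6.Wl.shearMat w)
        (by rw [Cfsg.Agent.Lib.Helper6.Wl.shearMat_det]; exact one_ne_zero) * h⁻¹,
        Finset.mem_univ _, rfl⟩

end final

end Cfsg.Agent.Lib.Helper3.MNU
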