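import Mathlib
import Cfsg.Prelude
import Cfsg.Agent.Lib.Helper3.MNUDefs
import Cfsg.Agent.Lib.Helper3.MNUA

set_option autoImplicit false
set_option linter.unusedSectionVars false
set_option linter.unusedVariables false

/-!
Farm MNU, unit P: the isotypic projectors `eB` of the abelian group `u (Herm)`
(port of helper6's `WlC` to a generic group).
-/

namespace Cfsg.Agent.Lib.Helper3.MNU

open Matrix Cfsg.Agent.Lib.Helper6.GUC Cfsg.Agent.Lib.Helper5

section unitP
variable {K : Type*} [Field K] [Fintype K] [DecidableEq K] {q : ℕ} (hK : Fintype.card K = q ^ 2)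
variable {G : Type*} [Group G] {V : Type*} [AddCommGroup V] [Module ℂ V] [FiniteDimensional ℂ V]
variable (ρ : Representation ℂ G V) (ψ : AddChar K ℂ) {m : ℕ} (u : Matrix (Fin m) (Fin m) K → G)
  (hu : ∀ X Y, IsHerm (HermBridge.sigma hK) X → IsHerm (HermBridge.sigma hK) Y → u (X + Y) = u X * u Y)

theorem card_herm_ne_zero : ((Fintype.card (Herm (HermBridge.sigma hK) m) : ℂ)) ≠ 0 :=
  Nat.cast_ne_zero.2 Fintype.card_ne_zero

include hu in
theorem rho_mul_eB (X0 B : Matrix (Fin m) (Fin m) K) (hX0 : IsHerm (HermBridge.sigma hK) X0) :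
    ρ (u X0) * eB (HermBridge.sigma hK) ρ ψ u B =
      ψ (Matrix.trace (B * X0)) • eB (HermBridge.sigma hK) ρ ψ u B := by
  have key : ρ (u X0) * ∑ X : Herm (HermBridge.sigma hK) m,
      ψ (-(Matrix.trace (B * (X : Matrix (Fin m) (Fin m) K)))) •
        ρ (u (X : Matrix (Fin m) (Fin m) K)) =
      ψ (Matrix.trace (B * X0)) • ∑ X : Herm (HermBridge.sigma hK) m,
      ψ (-(Matrix.trace (B * (X : Matrix (Fin m) (Fin m) K)))) •
        ρ (u (X : Matrix (Fin m) (Fin m) K)) := by
    rw [Finset.mul_sum, Finset.smul_sum]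
    refine Fintype.sum_equiv (Equiv.addLeft (⟨X0, hX0⟩ : Herm (HermBridge.sigma hK) m))
      (fun X : Herm (HermBridge.sigma hK) m => ρ (u X0) *
        (ψ (-(Matrix.trace (B * (X : Matrix (Fin m) (Fin m) K)))) •
          ρ (u (X : Matrix (Fin m) (Fin m) K))))
      (fun X : Herm (HermBridge.sigma hK) m => ψ (Matrix.trace (B * X0)) •
        (ψ (-(Matrix.trace (B * (X : Matrix (Fin m) (Fin m) K)))) •
          ρ (u (X : Matrix (Fin m) (Fin m) K)))) ?_
    intro X
    show ρ (u X0) * (ψ (-(Matrix.trace (B * (X : Matrix (Fin m) (Fin m) K)))) •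
        ρ (u (X : Matrix (Fin m) (Fin m) K))) =
      ψ (Matrix.trace (B * X0)) • (ψ (-(Matrix.trace (B * (X0 + (X : Matrix (Fin m) (Fin m) K))))) •
        ρ (u (X0 + (X : Matrix (Fin m) (Fin m) K))))
    rw [mul_smul_comm, ← MonoidHom.map_mul ρ, ← hu X0 _ hX0 X.2, smul_smul]
    congr 1
    rw [← AddChar.map_add_eq_mul]
    congr 1
    rw [Matrix.mul_add, Matrix.trace_add]
    ring
  unfold eB
  rw [mul_smul_comm, key, smul_comm]

include hu in
/-- an element commuting with all `u X` commutes with the projectors -/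
theorem eB_comm (a : G) (ha : ∀ X, IsHerm (HermBridge.sigma hK) X → a * u X = u X * a)
    (B : Matrix (Fin m) (Fin m) K) :
    ρ a * eB (HermBridge.sigma hK) ρ ψ u B = eB (HermBridge.sigma hK) ρ ψ u B * ρ a := by
  unfold eB
  rw [mul_smul_comm, smul_mul_assoc, Finset.mul_sum, Finset.sum_mul]
  congr 1
  apply Finset.sum_congr rfl
  intro X _
  rw [mul_smul_comm, smul_mul_assoc, ← MonoidHom.map_mul ρ, ← MonoidHom.map_mul ρ, ha _ X.2]

include hu in
theorem eB_mul_rho (X0 B : Matrix (Fin m) (Fin m) K) (hX0 : IsHerm (HermBridge.sigma hK) X0) :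
    eB (HermBridge.sigma hK) ρ ψ u B * ρ (u X0) =
      ψ (Matrix.trace (B * X0)) • eB (HermBridge.sigma hK) ρ ψ u B := by
  rw [← eB_comm hK ρ ψ u hu (u X0) ?_ B, rho_mul_eB hK ρ ψ u hu X0 B hX0]
  intro X hX
  rw [← hu X0 X hX0 hX, ← hu X X0 hX hX0, add_comm]

theorem eB_mul (B : Matrix (Fin m) (Fin m) K) (Y : Module.End ℂ V) :
    eB (HermBridge.sigma hK) ρ ψ u B * Y =
      ((Fintype.card (Herm (HermBridge.sigma hK) m) : ℂ))⁻¹ •
        ∑ X : Herm (HermBridge.sigma hK) m,
          ψ (-(Matrix.trace (B * (X : Matrix (Fin m) (Fin m) K)))) •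
            (ρ (u (X : Matrix (Fin m) (Fin m) K)) * Y) := by
  unfold eB
  rw [smul_mul_assoc, Finset.sum_mul]
  simp only [smul_mul_assoc]

include hu in
theorem eB_idem (B : Matrix (Fin m) (Fin m) K) :
    IsIdempotentElem (eB (HermBridge.sigma hK) ρ ψ u B) := by
  show eB (HermBridge.sigma hK) ρ ψ u B * eB (HermBridge.sigma hK) ρ ψ u B =
    eB (HermBridge.sigma hK) ρ ψ u B
  rw [eB_mul]
  have h : ∀ X : Herm (HermBridge.sigma hK) m,
      ψ (-(Matrix.trace (B * (X : Matrix (Fin m) (Fin m) K)))) •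
        (ρ (u (X : Matrix (Fin m) (Fin m) K)) * eB (HermBridge.sigma hK) ρ ψ u B) =
        eB (HermBridge.sigma hK) ρ ψ u B := by
    intro X
    rw [rho_mul_eB hK ρ ψ u hu _ B X.2, smul_smul, ← AddChar.map_add_eq_mul, neg_add_cancel,
      AddChar.map_zero_eq_one, one_smul]
  rw [Finset.sum_congr rfl (fun X _ => h X), Finset.sum_const, Finset.card_univ,
    ← Nat.cast_smul_eq_nsmul ℂ, smul_smul, inv_mul_cancel₀ (card_herm_ne_zero hK), one_smul]

include hu in
theorem u_zero' : u 0 = 1 := by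
  have h := hu 0 0 (ct_zero _) (ct_zero _)
  rw [add_zero] at h
  exact (mul_eq_left.1 h.symm)

include hu in
theorem sum_eB (hψ : ψ 1 ≠ 1) : ∑ B : Herm (HermBridge.sigma hK) m,
    eB (HermBridge.sigma hK) ρ ψ u (B : Matrix (Fin m) (Fin m) K) = 1 := by
  classical
  unfold eB
  rw [← Finset.smul_sum, Finset.sum_comm]
  have h : ∀ X : Herm (HermBridge.sigma hK) m, ∑ B : Herm (HermBridge.sigma hK) m,
      ψ (-(Matrix.trace ((B : Matrix (Fin m) (Fin m) K) * (X : Matrix (Fin m) (Fin m) K)))) •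
        ρ (u (X : Matrix (Fin m) (Fin m) K)) =
      if X = 0 then (Fintype.card (Herm (HermBridge.sigma hK) m) : ℂ) • (1 : Module.End ℂ V)
      else 0 := by
    intro X
    rw [← Finset.sum_smul]
    split_ifs with hX
    · subst hX
      simp [u_zero' hK u hu]
    · have h0 : (-(X : Matrix (Fin m) (Fin m) K)) ≠ 0 := by
        intro h
        apply hX
        apply Subtype.ext
        simpa using h
      have hh : IsHerm (HermBridge.sigma hK) (-(X : Matrix (Fin m) (Fin m) K)) := by
        show ct _ (-(X : Matrix (Fin m) (Fin m) K)) = _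
        rw [ct_neg, show ct (HermBridge.sigma hK) (X : Matrix (Fin m) (Fin m) K) = X from X.2]
      have := sum_chi_zero hK ψ hψ (-(X : Matrix (Fin m) (Fin m) K)) hh h0
      rw [show (∑ B : Herm (HermBridge.sigma hK) m, ψ (-(Matrix.trace
        ((B : Matrix (Fin m) (Fin m) K) * (X : Matrix (Fin m) (Fin m) K))))) = 0 from by
          simpa [Matrix.mul_neg, Matrix.trace_neg] using this, zero_smul]
  rw [Finset.sum_congr rfl (fun X _ => h X), Finset.sum_ite_eq' Finset.univ
    (0 : Herm (HermBridge.sigma hK) m)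
    (fun _ => (Fintype.card (Herm (HermBridge.sigma hK) m) : ℂ) • (1 : Module.End ℂ V)),
    if_pos (Finset.mem_univ _), smul_smul, inv_mul_cancel₀ (card_herm_ne_zero hK), one_smul]

theorem trace_eB (B : Matrix (Fin m) (Fin m) K) :
    LinearMap.trace ℂ V (eB (HermBridge.sigma hK) ρ ψ u B) =
      ((Fintype.card (Herm (HermBridge.sigma hK) m) : ℂ))⁻¹ *
      ∑ X : Herm (HermBridge.sigma hK) m,
        ψ (-(Matrix.trace (B * (X : Matrix (Fin m) (Fin m) K)))) *
          LinearMap.trace ℂ V (ρ (u (X : Matrix (Fin m) (Fin m) K))) := by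
  unfold eB
  simp [map_sum, smul_eq_mul]

theorem trace_rho_conj (g h : G) :
    LinearMap.trace ℂ V (ρ (g * h * g⁻¹)) = LinearMap.trace ℂ V (ρ h) := by
  rw [MonoidHom.map_mul ρ, MonoidHom.map_mul ρ, LinearMap.trace_mul_comm, ← mul_assoc,
    ← MonoidHom.map_mul ρ, inv_mul_cancel, MonoidHom.map_one ρ, one_mul]

/-- `X ↦ g X g†` on hermitian matrices -/
def conjH (g : Matrix (Fin m) (Fin m) K) (X : Herm (HermBridge.sigma hK) m) :
    Herm (HermBridge.sigma hK) m :=
  ⟨g * (X : Matrix (Fin m) (Fin m) K) * ct (HermBridge.sigma hK) g, by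
    show ct _ _ = _
    rw [ct_mul, ct_mul, ct_ct _ (HermBridge.sigma_sigma hK),
      show ct (HermBridge.sigma hK) (X : Matrix (Fin m) (Fin m) K) = X from X.2, Matrix.mul_assoc]⟩

/-- `conjH` as a permutation -/
def conjHEquiv (g gi : Matrix (Fin m) (Fin m) K) (h1 : g * gi = 1) (h2 : gi * g = 1) :
    Herm (HermBridge.sigma hK) m ≃ Herm (HermBridge.sigma hK) m where
  toFun := conjH hK g
  invFun := conjH hK gi
  left_inv X := by
    apply Subtype.ext
    show gi * (g * (X : Matrix (Fin m) (Fin m) K) * ct (HermBridge.sigma hK) g) *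
      ct (HermBridge.sigma hK) gi = X
    have h3 : ct (HermBridge.sigma hK) g * ct (HermBridge.sigma hK) gi = 1 := by
      rw [← ct_mul, h2, ct_one]
    calc gi * (g * (X : Matrix (Fin m) (Fin m) K) * ct (HermBridge.sigma hK) g) *
          ct (HermBridge.sigma hK) gi
        = (gi * g) * (X : Matrix (Fin m) (Fin m) K) *
          (ct (HermBridge.sigma hK) g * ct (HermBridge.sigma hK) gi) := by
          simp only [Matrix.mul_assoc]
      _ = X := by rw [h2, h3, Matrix.one_mul, Matrix.mul_one]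
  right_inv X := by
    apply Subtype.ext
    show g * (gi * (X : Matrix (Fin m) (Fin m) K) * ct (HermBridge.sigma hK) gi) *
      ct (HermBridge.sigma hK) g = X
    have h3 : ct (HermBridge.sigma hK) gi * ct (HermBridge.sigma hK) g = 1 := by
      rw [← ct_mul, h1, ct_one]
    calc g * (gi * (X : Matrix (Fin m) (Fin m) K) * ct (HermBridge.sigma hK) gi) *
          ct (HermBridge.sigma hK) g
        = (g * gi) * (X : Matrix (Fin m) (Fin m) K) *
          (ct (HermBridge.sigma hK) gi * ct (HermBridge.sigma hK) g) := by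
          simp only [Matrix.mul_assoc]
      _ = X := by rw [h1, h3, Matrix.one_mul, Matrix.mul_one]

include hu in
/-- the projectors of congruent matrices have the same trace (`g` invertible with inverse `gi`) -/
theorem trace_eB_cong (a : G) (g gi : Matrix (Fin m) (Fin m) K) (h1 : g * gi = 1) (h2 : gi * g = 1)
    (ha : ∀ X, IsHerm (HermBridge.sigma hK) X → a * u X * a⁻¹ = u (g * X * ct (HermBridge.sigma hK) g))
    (B : Matrix (Fin m) (Fin m) K) :
    LinearMap.trace ℂ V (eB (HermBridge.sigma hK) ρ ψ u (ct (HermBridge.sigma hK) g * B * g)) =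
      LinearMap.trace ℂ V (eB (HermBridge.sigma hK) ρ ψ u B) := by
  rw [trace_eB, trace_eB]
  congr 1
  refine Fintype.sum_equiv (conjHEquiv hK g gi h1 h2) _ _ ?_
  intro X
  show _ = ψ (-(Matrix.trace (B * (g * (X : Matrix (Fin m) (Fin m) K) * ct (HermBridge.sigma hK) g)))) *
      LinearMap.trace ℂ V (ρ (u (g * (X : Matrix (Fin m) (Fin m) K) * ct (HermBridge.sigma hK) g)))
  have hcoef : Matrix.trace (ct (HermBridge.sigma hK) g * B * g * (X : Matrix (Fin m) (Fin m) K)) =
      Matrix.trace (B * (g * (X : Matrix (Fin m) (Fin m) K) * ct (HermBridge.sigma hK) g)) := by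
    calc Matrix.trace (ct (HermBridge.sigma hK) g * B * g * (X : Matrix (Fin m) (Fin m) K))
        = Matrix.trace (ct (HermBridge.sigma hK) g * (B * g * (X : Matrix (Fin m) (Fin m) K))) := by
          simp only [Matrix.mul_assoc]
      _ = Matrix.trace ((B * g * (X : Matrix (Fin m) (Fin m) K)) * ct (HermBridge.sigma hK) g) :=
          Matrix.trace_mul_comm _ _
      _ = _ := by simp only [Matrix.mul_assoc]
  rw [← ha _ X.2, trace_rho_conj, hcoef]

include hu in
/-- if `ρ ∘ u` is not trivial, some `B ≠ 0` has a nonzero projector -/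
theorem exists_B_ne_zero (hψ : ψ 1 ≠ 1) (hnt : ∃ X, IsHerm (HermBridge.sigma hK) X ∧ ρ (u X) ≠ 1) :
    ∃ B : Matrix (Fin m) (Fin m) K, IsHerm (HermBridge.sigma hK) B ∧ B ≠ 0 ∧
      eB (HermBridge.sigma hK) ρ ψ u B ≠ 0 := by
  classical
  by_contra hcon
  push Not at hcon
  obtain ⟨X, hX, hρX⟩ := hnt
  have h0 : eB (HermBridge.sigma hK) ρ ψ u (0 : Matrix (Fin m) (Fin m) K) = 1 := by
    rw [← sum_eB hK ρ ψ u hu hψ]
    symm
    apply Finset.sum_eq_single (0 : Herm (HermBridge.sigma hK) m)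
    · intro B _ hB
      apply hcon _ B.2
      intro h
      exact hB (Subtype.ext h)
    · intro h
      exact absurd (Finset.mem_univ _) h
  apply hρX
  have := rho_mul_eB hK ρ ψ u hu X 0 hX
  rw [h0, mul_one, Matrix.zero_mul, Matrix.trace_zero, AddChar.map_zero_eq_one, one_smul] at this
  exact this

/-- the trace of an idempotent is a natural number, positive if the idempotent is not zero -/
theorem trace_idem_nat (e : Module.End ℂ V) (he : IsIdempotentElem e) :
    ∃ r : ℕ, LinearMap.trace ℂ V e = (r : ℂ) ∧ (e ≠ 0 → 1 ≤ r) := by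
  have hproj : LinearMap.IsProj (LinearMap.range e) e := by
    constructor
    · intro x
      exact LinearMap.mem_range_self e x
    · rintro _ ⟨y, rfl⟩
      have := congrArg (fun f : Module.End ℂ V => f y) he.eq
      exact this
  refine ⟨Module.finrank ℂ (LinearMap.range e), hproj.trace, ?_⟩
  intro he0
  rw [Nat.one_le_iff_ne_zero]
  intro h
  apply he0
  have hbot : LinearMap.range e = ⊥ := Submodule.finrank_eq_zero.1 h
  exact LinearMap.range_eq_bot.1 hbot

include hu in
/-- dimension count: a set `S` of hermitian matrices whose projectors all have trace `r` -/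
theorem finrank_ge (hψ : ψ 1 ≠ 1) (S : Finset (Matrix (Fin m) (Fin m) K)) (r : ℕ)
    (hS : ∀ B ∈ S, IsHerm (HermBridge.sigma hK) B ∧
      LinearMap.trace ℂ V (eB (HermBridge.sigma hK) ρ ψ u B) = (r : ℂ)) :
    S.card * r ≤ Module.finrank ℂ V := by
  classical
  have hn : ∀ B : Herm (HermBridge.sigma hK) m, ∃ n : ℕ,
      LinearMap.trace ℂ V (eB (HermBridge.sigma hK) ρ ψ u (B : Matrix (Fin m) (Fin m) K)) = (n : ℂ) := by
    intro B
    obtain ⟨n, hn, -⟩ := trace_idem_nat _ (eB_idem hK ρ ψ u hu (B : Matrix (Fin m) (Fin m) K))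
    exact ⟨n, hn⟩
  choose n hn using hn
  have htot : Module.finrank ℂ V = ∑ B : Herm (HermBridge.sigma hK) m, n B := by
    have h1 : ((Module.finrank ℂ V : ℕ) : ℂ) = ((∑ B : Herm (HermBridge.sigma hK) m, n B : ℕ) : ℂ) := by
      rw [← LinearMap.trace_one ℂ V, ← sum_eB hK ρ ψ u hu hψ, map_sum, Nat.cast_sum]
      exact Finset.sum_congr rfl (fun B _ => hn B)
    exact_mod_cast h1
  set S' : Finset (Herm (HermBridge.sigma hK) m) :=
    Finset.univ.filter (fun B => (B : Matrix (Fin m) (Fin m) K) ∈ S) with hS'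
  have hcard : S'.card = S.card := by
    apply Finset.card_bij (fun (B : Herm (HermBridge.sigma hK) m) _ => (B : Matrix (Fin m) (Fin m) K))
    · intro B hB
      exact (Finset.mem_filter.1 hB).2
    · intro B _ B' _ h
      exact Subtype.ext h
    · intro B hB
      exact ⟨⟨B, (hS B hB).1⟩, Finset.mem_filter.2 ⟨Finset.mem_univ _, hB⟩, rfl⟩
  have hr : ∀ B ∈ S', n B = r := by
    intro B hB
    have h1 := (hS _ (Finset.mem_filter.1 hB).2).2
    rw [hn B] at h1
    exact_mod_cast h1
  calc S.card * r = S'.card * r := by rw [hcard]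
    _ = ∑ B ∈ S', n B := by
        rw [Finset.sum_congr rfl hr, Finset.sum_const, smul_eq_mul]
    _ ≤ ∑ B : Herm (HermBridge.sigma hK) m, n B :=
        Finset.sum_le_sum_of_subset (Finset.subset_univ _)
    _ = Module.finrank ℂ V := htot.symm

end unitP

end Cfsg.Agent.Lib.Helper3.MNU
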