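import Mathlib
import Cfsg.Prelude
import Cfsg.Agent.Lib.Helper3.MNUDefs
import Cfsg.Agent.Lib.Helper3.MNUA
import Cfsg.Agent.Lib.Helper3.MNUP
import Cfsg.Agent.Lib.Helper3.MNUO

set_option autoImplicit false
set_option linter.unusedSectionVars false
set_option linter.unusedVariables false

/-!
Farm MNU, unit CE: the even core.
-/

namespace Cfsg.Agent.Lib.Helper3.MNU

open Matrix Cfsg.Agent.Lib.Helper6.GUC Cfsg.Agent.Lib.Helper5

section unitCE
variable {K : Type*} [Field K] [Fintype K] [DecidableEq K] {q : ℕ} (hK : Fintype.card K = q ^ 2)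
variable {G : Type*} [Group G] {V : Type*} [AddCommGroup V] [Module ℂ V] [FiniteDimensional ℂ V]

/-- (CE) the even core -/
theorem core_even (ρ : Representation ℂ G V) (m : ℕ) (hm : 2 ≤ m)
    (u : Matrix (Fin m) (Fin m) K → G)
    (hu : ∀ X Y, IsHerm (HermBridge.sigma hK) X → IsHerm (HermBridge.sigma hK) Y → u (X + Y) = u X * u Y)
    (hconj : ∀ g : Matrix.SpecialLinearGroup (Fin m) K, ∃ a : G, ∀ X, IsHerm (HermBridge.sigma hK) X →
      a * u X * a⁻¹ = u ((g : Matrix (Fin m) (Fin m) K) * X * ct (HermBridge.sigma hK) (g : Matrix (Fin m) (Fin m) K)))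
    (hnt : ∃ X, IsHerm (HermBridge.sigma hK) X ∧ ρ (u X) ≠ 1) :
    q ^ (2 * m) - 1 ≤ (q + 1) * Module.finrank ℂ V := by
  classical
  obtain ⟨ψ, hψ⟩ := exists_psi K
  obtain ⟨B, hB, hB0, heB⟩ := exists_B_ne_zero hK ρ ψ u hu hψ hnt
  obtain ⟨r, hr, hr1⟩ := trace_idem_nat _ (eB_idem hK ρ ψ u hu B)
  have hr1' : 1 ≤ r := hr1 heB
  have horb : (orbSL (HermBridge.sigma hK) B).card * r ≤ Module.finrank ℂ V := by
    apply finrank_ge hK ρ ψ u hu hψ (orbSL (HermBridge.sigma hK) B) r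
    intro B' hB'
    obtain ⟨g, -, rfl⟩ := Finset.mem_image.1 hB'
    obtain ⟨a, ha⟩ := hconj g
    refine ⟨?_, ?_⟩
    · show ct (HermBridge.sigma hK) (ct (HermBridge.sigma hK) (g : Matrix (Fin m) (Fin m) K) * B *
        (g : Matrix (Fin m) (Fin m) K)) = _
      rw [ct_mul, ct_mul, ct_ct (HermBridge.sigma hK) (HermBridge.sigma_sigma hK),
        show ct (HermBridge.sigma hK) B = B from hB, Matrix.mul_assoc]
    · rw [trace_eB_cong hK ρ ψ u hu a (g : Matrix (Fin m) (Fin m) K)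
        ((g⁻¹ : Matrix.SpecialLinearGroup (Fin m) K) : Matrix (Fin m) (Fin m) K)
        (by rw [← Matrix.SpecialLinearGroup.coe_mul, mul_inv_cancel, Matrix.SpecialLinearGroup.coe_one])
        (by rw [← Matrix.SpecialLinearGroup.coe_mul, inv_mul_cancel, Matrix.SpecialLinearGroup.coe_one])
        ha B, hr]
  have hbound := orbit_bound_SL hK hm B hB hB0
  calc q ^ (2 * m) - 1 ≤ (q + 1) * (orbSL (HermBridge.sigma hK) B).card := hbound
    _ = (q + 1) * ((orbSL (HermBridge.sigma hK) B).card * 1) := by rw [mul_one]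
    _ ≤ (q + 1) * ((orbSL (HermBridge.sigma hK) B).card * r) :=
        Nat.mul_le_mul_left _ (Nat.mul_le_mul_left _ hr1')
    _ ≤ (q + 1) * Module.finrank ℂ V := Nat.mul_le_mul_left _ horb

end unitCE

end Cfsg.Agent.Lib.Helper3.MNU
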