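import Mathlib
import Cfsg.Prelude
import Cfsg.Agent.Lib.Helper3.MNUDefs
import Cfsg.Agent.Lib.Helper3.MNUA
import Cfsg.Agent.Lib.Helper3.MNUP
import Cfsg.Agent.Lib.Helper3.MNUO
import Cfsg.Agent.Lib.Helper7.MNUH

set_option autoImplicit false
set_option linter.unusedSectionVars false
set_option linter.unusedVariables false

/-!
Farm MNU, unit CO: the odd core (`core_odd`).
-/

namespace Cfsg.Agent.Lib.Helper3.MNU

open Matrix Cfsg.Agent.Lib.Helper6.GUC Cfsg.Agent.Lib.Helper5 Cfsg.Agent.Lib.Helper7.MNU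

section outerlemmas
variable {K : Type*} [Field K] (σ : K →+* K) (hσ : ∀ a, σ (σ a) = a) {m : ℕ}

include hσ in
theorem ct_outer (v w : Fin m → K) : ct σ (outer σ v w) = outer σ w v := by
  ext i j
  rw [ct_apply, outer_apply, outer_apply, map_mul, hσ, mul_comm]

theorem outer_zero_left (w : Fin m → K) : outer σ (0 : Fin m → K) w = 0 := by
  ext i j
  rw [outer_apply, Pi.zero_apply, map_zero, zero_mul, Matrix.zero_apply]

theorem outer_zero_right (v : Fin m → K) : outer σ v (0 : Fin m → K) = 0 := by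
  ext i j
  rw [outer_apply, Pi.zero_apply, mul_zero, Matrix.zero_apply]

theorem outer_smul_smul (a b : K) (v w : Fin m → K) :
    outer σ (a • v) (b • w) = (σ a * b) • outer σ v w := by
  ext i j
  rw [outer_apply, Matrix.smul_apply, outer_apply, Pi.smul_apply, Pi.smul_apply, smul_eq_mul,
    smul_eq_mul, smul_eq_mul, map_mul]
  ring

theorem outer_add_add (v v' w w' : Fin m → K) :
    outer σ (v + v') (w + w') = outer σ v w + outer σ v w' + outer σ v' w + outer σ v' w' := by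
  ext i j
  simp only [outer_apply, Matrix.add_apply, Pi.add_apply, map_add]
  ring

/-- `tr (B * v† w) = ∑ i j, B i j * σ (v j) * w i` -/
theorem trace_mul_outer (B : Matrix (Fin m) (Fin m) K) (v w : Fin m → K) :
    Matrix.trace (B * outer σ v w) = ∑ i, ∑ j, B i j * (σ (v j) * w i) := by
  rw [Matrix.trace]
  apply Finset.sum_congr rfl
  intro i _
  rw [Matrix.diag_apply, Matrix.mul_apply]
  apply Finset.sum_congr rfl
  intro j _
  rw [outer_apply]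

theorem isHerm_smul_outer (hσ' : ∀ a, σ (σ a) = a) (c : K) (hc : σ c = c) (v : Fin m → K) :
    IsHerm σ (c • outer σ v v) := by
  show ct σ (c • outer σ v v) = c • outer σ v v
  rw [ct_smul, hc, ct_outer σ hσ']

end outerlemmas

section qgroup
variable {K : Type*} [Field K] (σ : K →+* K) (hσ : ∀ a, σ (σ a) = a) {m : ℕ}
variable {G : Type*} [Group G]
variable (ε : K) (hε0 : ε ≠ 0) (hε : σ ε = -ε)
  (u : Matrix (Fin m) (Fin m) K → G)
  (hu : ∀ X Y, IsHerm σ X → IsHerm σ Y → u (X + Y) = u X * u Y)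
  (xx : (Fin m → K) → Matrix (Fin m) (Fin m) K → G)
  (hxx0 : ∀ X, IsHerm σ X → xx 0 X = u X)
  (hxx : ∀ v w X Y, Adm σ ε v X → Adm σ ε w Y →
    xx v X * xx w Y = xx (v + w) (X + Y + ε⁻¹ • outer σ v w))

include hε in
theorem sigma_eps_inv : σ ε⁻¹ = -ε⁻¹ := by
  rw [map_inv₀, hε, inv_neg]

theorem isHerm_zero : IsHerm σ (0 : Matrix (Fin m) (Fin m) K) := ct_zero σ

theorem isHerm_add {X Y : Matrix (Fin m) (Fin m) K} (hX : IsHerm σ X) (hY : IsHerm σ Y) :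
    IsHerm σ (X + Y) := by
  show ct σ (X + Y) = X + Y
  rw [ct_add, show ct σ X = X from hX, show ct σ Y = Y from hY]

theorem isHerm_neg {X : Matrix (Fin m) (Fin m) K} (hX : IsHerm σ X) : IsHerm σ (-X) := by
  show ct σ (-X) = -X
  rw [ct_neg, show ct σ X = X from hX]

theorem adm_zero_iff (X : Matrix (Fin m) (Fin m) K) : Adm σ ε 0 X ↔ IsHerm σ X := by
  unfold Adm IsHerm
  rw [outer_zero_left, smul_zero, sub_eq_zero]
  exact eq_comm

theorem adm_add_herm {v : Fin m → K} {X H : Matrix (Fin m) (Fin m) K} (hX : Adm σ ε v X)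
    (hH : IsHerm σ H) : Adm σ ε v (X + H) := by
  unfold Adm at hX ⊢
  rw [ct_add, show ct σ H = H from hH, ← hX]
  abel

include hσ hε in
theorem adm_mul {v w : Fin m → K} {X Y : Matrix (Fin m) (Fin m) K} (hX : Adm σ ε v X)
    (hY : Adm σ ε w Y) : Adm σ ε (v + w) (X + Y + ε⁻¹ • outer σ v w) := by
  unfold Adm at hX hY ⊢
  rw [ct_add, ct_add, ct_smul, ct_outer σ hσ, sigma_eps_inv σ ε hε, outer_add_add]
  have h1 : X + Y + ε⁻¹ • outer σ v w - (ct σ X + ct σ Y + -ε⁻¹ • outer σ w v) =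
      (X - ct σ X) + (Y - ct σ Y) + ε⁻¹ • outer σ v w + ε⁻¹ • outer σ w v := by
    rw [neg_smul]
    abel
  rw [h1, hX, hY]
  simp only [smul_add]
  abel

include hu in
theorem u_zero : u 0 = 1 := by
  have h := hu 0 0 (isHerm_zero σ) (isHerm_zero σ)
  rw [add_zero] at h
  exact (mul_eq_left.1 h.symm)

include hxx0 hxx in
theorem xx_mul_u {v : Fin m → K} {X H : Matrix (Fin m) (Fin m) K} (hX : Adm σ ε v X)
    (hH : IsHerm σ H) : xx v X * u H = xx v (X + H) := by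
  rw [← hxx0 H hH, hxx v 0 X H hX ((adm_zero_iff σ ε H).2 hH), add_zero, outer_zero_right,
    smul_zero, add_zero]

include hxx0 hxx in
theorem u_mul_xx {v : Fin m → K} {X H : Matrix (Fin m) (Fin m) K} (hX : Adm σ ε v X)
    (hH : IsHerm σ H) : u H * xx v X = xx v (X + H) := by
  rw [← hxx0 H hH, hxx 0 v H X ((adm_zero_iff σ ε H).2 hH) hX, zero_add, outer_zero_left,
    smul_zero, add_zero, add_comm]

include hxx0 hxx in
theorem xx_comm_u {v : Fin m → K} {X H : Matrix (Fin m) (Fin m) K} (hX : Adm σ ε v X)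
    (hH : IsHerm σ H) : xx v X * u H = u H * xx v X := by
  rw [xx_mul_u σ ε u xx hxx0 hxx hX hH, u_mul_xx σ ε u xx hxx0 hxx hX hH]

include hσ hε in
theorem isHerm_comm_term (v w : Fin m → K) :
    IsHerm σ (ε⁻¹ • (outer σ w v - outer σ v w)) := by
  show ct σ (ε⁻¹ • (outer σ w v - outer σ v w)) = ε⁻¹ • (outer σ w v - outer σ v w)
  rw [ct_smul, ct_sub, ct_outer σ hσ, ct_outer σ hσ, sigma_eps_inv σ ε hε, neg_smul, ← smul_neg,
    neg_sub]

include hσ hε hxx0 hxx in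
/-- the commutator formula -/
theorem xx_comm {v w : Fin m → K} {X Y : Matrix (Fin m) (Fin m) K} (hX : Adm σ ε v X)
    (hY : Adm σ ε w Y) :
    xx w Y * xx v X = xx v X * xx w Y * u (ε⁻¹ • (outer σ w v - outer σ v w)) := by
  rw [hxx w v Y X hY hX, hxx v w X Y hX hY,
    xx_mul_u σ ε u xx hxx0 hxx (adm_mul σ hσ ε hε hX hY) (isHerm_comm_term σ hσ ε hε v w)]
  congr 1
  · exact add_comm w v
  · rw [smul_sub]
    abel

end qgroup

section heis
variable {K : Type*} [Field K] (σ : K →+* K) (hσ : ∀ a, σ (σ a) = a) {m : ℕ}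
variable {G : Type*} [Group G]
variable (ε : K) (hε0 : ε ≠ 0) (hε : σ ε = -ε)
  (u : Matrix (Fin m) (Fin m) K → G)
  (hu : ∀ X Y, IsHerm σ X → IsHerm σ Y → u (X + Y) = u X * u Y)
  (xx : (Fin m → K) → Matrix (Fin m) (Fin m) K → G)
  (hxx0 : ∀ X, IsHerm σ X → xx 0 X = u X)
  (hxx : ∀ v w X Y, Adm σ ε v X → Adm σ ε w Y →
    xx v X * xx w Y = xx (v + w) (X + Y + ε⁻¹ • outer σ v w))
  (x0 : Fin m → K) (θ : K) (hθ : θ + σ θ = 1)

/-- the row vector `σ ∘ x0` -/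
def v0 : Fin m → K := fun i => σ (x0 i)

/-- the fixed solution of `Adm v0 X1` -/
def X1 : Matrix (Fin m) (Fin m) K := (ε⁻¹ * θ) • outer σ (v0 σ x0) (v0 σ x0)

/-- the elements over the line `K v0` -/
def xa (a : K) (Y : Matrix (Fin m) (Fin m) K) : G :=
  xx (a • v0 σ x0) ((a * σ a) • X1 σ ε x0 θ + Y)

include hσ in
theorem isHerm_O (c : K) (hc : σ c = c) : IsHerm σ (c • outer σ (v0 σ x0) (v0 σ x0)) :=
  isHerm_smul_outer σ hσ c hc _

include hσ hε hθ in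
theorem adm_X1 : Adm σ ε (v0 σ x0) (X1 σ ε x0 θ) := by
  unfold Adm X1
  rw [ct_smul, ct_outer σ hσ, map_mul, sigma_eps_inv σ ε hε, ← sub_smul]
  congr 1
  have : σ θ = 1 - θ := by rw [← hθ]; ring
  rw [this]
  ring

include hσ hε hθ in
theorem adm_xa (a : K) {Y : Matrix (Fin m) (Fin m) K} (hY : IsHerm σ Y) :
    Adm σ ε (a • v0 σ x0) ((a * σ a) • X1 σ ε x0 θ + Y) := by
  apply adm_add_herm σ ε _ hY
  have h1 := adm_X1 σ hσ ε hε x0 θ hθ
  unfold Adm at h1 ⊢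
  have hN : σ (a * σ a) = a * σ a := by rw [map_mul, hσ, mul_comm]
  rw [ct_smul, hN, ← smul_sub, h1, outer_smul_smul, smul_smul, smul_smul]
  congr 1
  ring

include hσ hε hθ in
theorem sigma_cc : σ (ε⁻¹ * (1 - 2 * θ)) = ε⁻¹ * (1 - 2 * θ) := by
  have : σ θ = 1 - θ := by rw [← hθ]; ring
  rw [map_mul, sigma_eps_inv σ ε hε, map_sub, map_one, map_mul, map_ofNat, this]
  ring

include hσ hε hθ hxx in
theorem xa_mul (t t' : K) (ht : σ t = t) (ht' : σ t' = t') {Y Y' : Matrix (Fin m) (Fin m) K}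
    (hY : IsHerm σ Y) (hY' : IsHerm σ Y') :
    xa σ ε xx x0 θ t Y * xa σ ε xx x0 θ t' Y' =
      xa σ ε xx x0 θ (t + t')
        (Y + Y' + (t * t' * (ε⁻¹ * (1 - 2 * θ))) • outer σ (v0 σ x0) (v0 σ x0)) := by
  unfold xa
  rw [hxx _ _ _ _ (adm_xa σ hσ ε hε x0 θ hθ t hY) (adm_xa σ hσ ε hε x0 θ hθ t' hY')]
  congr 1
  · rw [add_smul]
  · rw [outer_smul_smul, map_add, ht, ht']
    unfold X1
    module

include hxx0 in
theorem xa_zero {Y : Matrix (Fin m) (Fin m) K} (hY : IsHerm σ Y) :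
    xa σ ε xx x0 θ 0 Y = u Y := by
  unfold xa
  rw [zero_smul, zero_mul, zero_smul, zero_add]
  exact hxx0 Y hY

/-- `Z = u (Herm)` -/
def Zsub : Subgroup G where
  carrier := {g | ∃ Y, IsHerm σ Y ∧ g = u Y}
  one_mem' := ⟨0, isHerm_zero σ, (u_zero σ u hu).symm⟩
  mul_mem' := by
    rintro _ _ ⟨Y, hY, rfl⟩ ⟨Y', hY', rfl⟩
    exact ⟨Y + Y', isHerm_add σ hY hY', (hu Y Y' hY hY').symm⟩
  inv_mem' := by
    rintro _ ⟨Y, hY, rfl⟩
    refine ⟨-Y, isHerm_neg σ hY, ?_⟩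
    apply inv_eq_of_mul_eq_one_right
    rw [← hu Y (-Y) hY (isHerm_neg σ hY), add_neg_cancel, u_zero σ u hu]

/-- `E = {xa t Y : σ t = t, Y hermitian}` -/
def Esub : Subgroup G where
  carrier := {g | ∃ t : K, σ t = t ∧ ∃ Y, IsHerm σ Y ∧ g = xa σ ε xx x0 θ t Y}
  one_mem' := ⟨0, map_zero σ, 0, isHerm_zero σ, by
    rw [xa_zero σ ε u xx hxx0 x0 θ (isHerm_zero σ), u_zero σ u hu]⟩
  mul_mem' := by
    rintro _ _ ⟨t, ht, Y, hY, rfl⟩ ⟨t', ht', Y', hY', rfl⟩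
    refine ⟨t + t', by rw [map_add, ht, ht'], _, ?_, xa_mul σ hσ ε hε xx hxx x0 θ hθ t t' ht ht' hY hY'⟩
    refine isHerm_add σ (isHerm_add σ hY hY') (isHerm_O σ hσ x0 _ ?_)
    rw [map_mul, map_mul, ht, ht', sigma_cc σ hσ ε hε θ hθ]
  inv_mem' := by
    rintro _ ⟨t, ht, Y, hY, rfl⟩
    have hc : IsHerm σ ((t * t * (ε⁻¹ * (1 - 2 * θ))) • outer σ (v0 σ x0) (v0 σ x0)) := by
      apply isHerm_O σ hσ x0
      rw [map_mul, map_mul, ht, sigma_cc σ hσ ε hε θ hθ]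
    have hY' : IsHerm σ (-Y + (t * t * (ε⁻¹ * (1 - 2 * θ))) • outer σ (v0 σ x0) (v0 σ x0)) :=
      isHerm_add σ (isHerm_neg σ hY) hc
    refine ⟨-t, by rw [map_neg, ht], _, hY', ?_⟩
    apply inv_eq_of_mul_eq_one_right
    rw [xa_mul σ hσ ε hε xx hxx x0 θ hθ t (-t) ht (by rw [map_neg, ht]) hY hY']
    have hsum : Y + (-Y + (t * t * (ε⁻¹ * (1 - 2 * θ))) • outer σ (v0 σ x0) (v0 σ x0)) +
        (t * -t * (ε⁻¹ * (1 - 2 * θ))) • outer σ (v0 σ x0) (v0 σ x0) = 0 := by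
      module
    rw [hsum, add_neg_cancel, xa_zero σ ε u xx hxx0 x0 θ (isHerm_zero σ), u_zero σ u hu]

theorem mem_Zsub (g : G) : g ∈ Zsub σ u hu ↔ ∃ Y, IsHerm σ Y ∧ g = u Y := Iff.rfl

theorem mem_Esub (g : G) : g ∈ Esub σ hσ ε hε u hu xx hxx0 hxx x0 θ hθ ↔
    ∃ t : K, σ t = t ∧ ∃ Y, IsHerm σ Y ∧ g = xa σ ε xx x0 θ t Y := Iff.rfl

theorem Zsub_le_Esub : Zsub σ u hu ≤ Esub σ hσ ε hε u hu xx hxx0 hxx x0 θ hθ := by
  rintro _ ⟨Y, hY, rfl⟩
  exact ⟨0, map_zero σ, Y, hY, (xa_zero σ ε u xx hxx0 x0 θ hY).symm⟩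

theorem Esub_comm : ∀ a ∈ Esub σ hσ ε hε u hu xx hxx0 hxx x0 θ hθ,
    ∀ b ∈ Esub σ hσ ε hε u hu xx hxx0 hxx x0 θ hθ, a * b = b * a := by
  rintro _ ⟨t, ht, Y, hY, rfl⟩ _ ⟨t', ht', Y', hY', rfl⟩
  rw [xa_mul σ hσ ε hε xx hxx x0 θ hθ t t' ht ht' hY hY',
    xa_mul σ hσ ε hε xx hxx x0 θ hθ t' t ht' ht hY' hY]
  congr 1
  · exact add_comm t t'
  · rw [add_comm Y Y', mul_comm t t']

include hσ hε hθ hxx0 hxx in
/-- every `xa a Y` commutes with every `u X` -/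
theorem xa_comm_u (a : K) {Y X : Matrix (Fin m) (Fin m) K} (hY : IsHerm σ Y) (hX : IsHerm σ X) :
    xa σ ε xx x0 θ a Y * u X = u X * xa σ ε xx x0 θ a Y :=
  xx_comm_u σ ε u xx hxx0 hxx (adm_xa σ hσ ε hε x0 θ hθ a hY) hX

/-- the hermitian matrix of the commutator of `xa b _` and `xa a _` -/
def Hc (a b : K) : Matrix (Fin m) (Fin m) K :=
  ε⁻¹ • (outer σ (b • v0 σ x0) (a • v0 σ x0) - outer σ (a • v0 σ x0) (b • v0 σ x0))

include hσ hε in
theorem isHerm_Hc (a b : K) : IsHerm σ (Hc σ ε x0 a b) :=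
  isHerm_comm_term σ hσ ε hε _ _

include hσ hε hθ hxx0 hxx in
theorem xa_comm (a b : K) {Y Y' : Matrix (Fin m) (Fin m) K} (hY : IsHerm σ Y) (hY' : IsHerm σ Y') :
    xa σ ε xx x0 θ b Y' * xa σ ε xx x0 θ a Y =
      xa σ ε xx x0 θ a Y * xa σ ε xx x0 θ b Y' * u (Hc σ ε x0 a b) :=
  xx_comm σ hσ ε hε u xx hxx0 hxx (adm_xa σ hσ ε hε x0 θ hθ a hY) (adm_xa σ hσ ε hε x0 θ hθ b hY')

include hσ in
theorem trace_B_O (B : Matrix (Fin m) (Fin m) K) :
    Matrix.trace (B * outer σ (v0 σ x0) (v0 σ x0)) = hq σ B x0 := by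
  rw [trace_mul_outer]
  unfold hq v0
  rw [dotProduct]
  apply Finset.sum_congr rfl
  intro i _
  rw [Matrix.mulVec, dotProduct, Finset.mul_sum]
  apply Finset.sum_congr rfl
  intro j _
  rw [hσ]
  ring

include hσ in
theorem trace_B_Hc (B : Matrix (Fin m) (Fin m) K) (a b : K) :
    Matrix.trace (B * Hc σ ε x0 a b) = ε⁻¹ * (σ b * a - σ a * b) * hq σ B x0 := by
  unfold Hc
  rw [outer_smul_smul, outer_smul_smul, ← sub_smul, smul_smul, Matrix.mul_smul, Matrix.trace_smul,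
    trace_B_O σ hσ x0 B, smul_eq_mul]

include hσ hε hθ hxx0 hxx hu in
theorem xa_inv (t : K) (ht : σ t = t) {Y : Matrix (Fin m) (Fin m) K} (hY : IsHerm σ Y) :
    IsHerm σ (-Y + (t * t * (ε⁻¹ * (1 - 2 * θ))) • outer σ (v0 σ x0) (v0 σ x0)) ∧
    (xa σ ε xx x0 θ t Y)⁻¹ = xa σ ε xx x0 θ (-t)
      (-Y + (t * t * (ε⁻¹ * (1 - 2 * θ))) • outer σ (v0 σ x0) (v0 σ x0)) := by
  have hc : IsHerm σ ((t * t * (ε⁻¹ * (1 - 2 * θ))) • outer σ (v0 σ x0) (v0 σ x0)) := by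
    apply isHerm_O σ hσ x0
    rw [map_mul, map_mul, ht, sigma_cc σ hσ ε hε θ hθ]
  have hY' : IsHerm σ (-Y + (t * t * (ε⁻¹ * (1 - 2 * θ))) • outer σ (v0 σ x0) (v0 σ x0)) :=
    isHerm_add σ (isHerm_neg σ hY) hc
  refine ⟨hY', ?_⟩
  apply inv_eq_of_mul_eq_one_right
  rw [xa_mul σ hσ ε hε xx hxx x0 θ hθ t (-t) ht (by rw [map_neg, ht]) hY hY']
  have hsum : Y + (-Y + (t * t * (ε⁻¹ * (1 - 2 * θ))) • outer σ (v0 σ x0) (v0 σ x0)) +
      (t * -t * (ε⁻¹ * (1 - 2 * θ))) • outer σ (v0 σ x0) (v0 σ x0) = 0 := by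
    module
  rw [hsum, add_neg_cancel, xa_zero σ ε u xx hxx0 x0 θ (isHerm_zero σ), u_zero σ u hu]

end heis

section final
variable {K : Type*} [Field K] [Fintype K] [DecidableEq K] {q : ℕ} (hK : Fintype.card K = q ^ 2)
variable {G : Type*} [Group G] [Finite G] {V : Type*} [AddCommGroup V] [Module ℂ V]
  [FiniteDimensional ℂ V]

/-- trace vanishing from a conjugation identity -/
theorem trace_zero_of_conj (ρ : Representation ℂ G V) (a r z : G) (e : Module.End ℂ V) (c : ℂ)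
    (hc : c ≠ 1) (h1 : r * a = a * r * z) (hz : ρ z * e = c • e) (hre : ρ r * e = e * ρ r) :
    LinearMap.trace ℂ V (ρ a * e) = 0 := by
  have key : ρ r * (ρ a * e) * ρ r⁻¹ = c • (ρ a * e) := by
    have h2 : ρ r * (ρ a * e) = c • (ρ a * e * ρ r) := by
      rw [← mul_assoc, ← map_mul, h1, map_mul, map_mul, mul_assoc, hz, mul_smul_comm, mul_assoc,
        hre, ← mul_assoc]
    rw [h2, smul_mul_assoc, mul_assoc, ← map_mul, mul_inv_cancel, map_one, mul_one]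
  have h3 : LinearMap.trace ℂ V (ρ r * (ρ a * e) * ρ r⁻¹) = LinearMap.trace ℂ V (ρ a * e) := by
    rw [LinearMap.trace_mul_comm, ← mul_assoc, ← map_mul, inv_mul_cancel, map_one, one_mul]
  rw [key, map_smul, smul_eq_mul] at h3
  have h4 : (c - 1) * LinearMap.trace ℂ V (ρ a * e) = 0 := by linear_combination h3
  rcases mul_eq_zero.1 h4 with h | h
  · exact absurd (sub_eq_zero.1 h) hc
  · exact h

/-- (CO) the odd core -/
theorem core_odd (ρ : Representation ℂ G V) (m : ℕ) (hm : 1 ≤ m) (ε : K) (hε0 : ε ≠ 0)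
    (hε : HermBridge.sigma hK ε = -ε)
    (u : Matrix (Fin m) (Fin m) K → G)
    (hu : ∀ X Y, IsHerm (HermBridge.sigma hK) X → IsHerm (HermBridge.sigma hK) Y → u (X + Y) = u X * u Y)
    (hconj : ∀ g : GL (Fin m) K, ∃ a : G, ∀ X, IsHerm (HermBridge.sigma hK) X →
      a * u X * a⁻¹ = u ((g : Matrix (Fin m) (Fin m) K) * X * ct (HermBridge.sigma hK) (g : Matrix (Fin m) (Fin m) K)))
    (xx : (Fin m → K) → Matrix (Fin m) (Fin m) K → G)
    (hxx0 : ∀ X, IsHerm (HermBridge.sigma hK) X → xx 0 X = u X)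
    (hxx : ∀ v w X Y, Adm (HermBridge.sigma hK) ε v X → Adm (HermBridge.sigma hK) ε w Y →
      xx v X * xx w Y = xx (v + w) (X + Y + ε⁻¹ • outer (HermBridge.sigma hK) v w))
    (hnt : ∃ X, IsHerm (HermBridge.sigma hK) X ∧ ρ (u X) ≠ 1) :
    q * (q ^ (2 * m) - 1) ≤ (q + 1) * Module.finrank ℂ V := by
  classical
  obtain ⟨σ, hσdef⟩ : ∃ σ : K →+* K, σ = HermBridge.sigma hK := ⟨_, rfl⟩
  rw [← hσdef] at hε hu hconj hxx0 hxx hnt
  have hσ : ∀ a, σ (σ a) = a := by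
    intro a
    rw [hσdef]
    exact HermBridge.sigma_sigma hK a
  obtain ⟨ψ, hψ⟩ := exists_psi K
  obtain ⟨B, hB, hB0, heB⟩ := exists_B_ne_zero hK ρ ψ u (hσdef ▸ hu) hψ (hσdef ▸ hnt)
  rw [← hσdef] at hB heB
  obtain ⟨e, he⟩ : ∃ e : Module.End ℂ V, e = eB σ ρ ψ u B := ⟨_, rfl⟩
  rw [← he] at heB
  have hidem : IsIdempotentElem e := by
    rw [he, hσdef]
    exact eB_idem hK ρ ψ u (hσdef ▸ hu) B
  obtain ⟨r, hr, hr1⟩ := trace_idem_nat e hidem
  have hrmul : ∀ X, IsHerm σ X → ρ (u X) * e = ψ (Matrix.trace (B * X)) • e := by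
    intro X hX
    rw [he]
    subst hσdef
    exact rho_mul_eB hK ρ ψ u hu X B hX
  have hecomm : ∀ a : G, (∀ X, IsHerm σ X → a * u X = u X * a) → ρ a * e = e * ρ a := by
    intro a ha
    rw [he]
    subst hσdef
    exact eB_comm hK ρ ψ u hu a ha B
  -- the orbit part
  have horb : (orbGL σ B).card * r ≤ Module.finrank ℂ V := by
    subst hσdef
    apply finrank_ge hK ρ ψ u hu hψ (orbGL (HermBridge.sigma hK) B) r
    intro B' hB'
    obtain ⟨g, -, rfl⟩ := Finset.mem_image.1 hB'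
    obtain ⟨a, ha⟩ := hconj g
    refine ⟨?_, ?_⟩
    · show ct (HermBridge.sigma hK) (ct (HermBridge.sigma hK) (g : Matrix (Fin m) (Fin m) K) * B *
        (g : Matrix (Fin m) (Fin m) K)) = _
      rw [ct_mul, ct_mul, ct_ct (HermBridge.sigma hK) hσ, show ct (HermBridge.sigma hK) B = B from hB,
        Matrix.mul_assoc]
    · rw [trace_eB_cong hK ρ ψ u hu a (g : Matrix (Fin m) (Fin m) K)
        ((g⁻¹ : GL (Fin m) K) : Matrix (Fin m) (Fin m) K) (by rw [← Units.val_mul, mul_inv_cancel, Units.val_one])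
        (by rw [← Units.val_mul, inv_mul_cancel, Units.val_one]) ha B, ← he, hr]
  have hbound : q ^ (2 * m) - 1 ≤ (q + 1) * (orbGL σ B).card := by
    subst hσdef
    exact orbit_bound_GL hK hm B hB hB0
  -- the Heisenberg part
  have hqr : q ≤ r := by
    obtain ⟨x0, hx0⟩ : ∃ x0 : Fin m → K, hq σ B x0 ≠ 0 := by
      subst hσdef
      exact exists_hq_ne_zero hK B hB hB0
    obtain ⟨θ, hθ⟩ : ∃ θ : K, θ + σ θ = 1 := by
      subst hσdef
      exact exists_trace_one hK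
    obtain ⟨ω, hω⟩ : ∃ ω : K, σ ω ≠ ω := by
      subst hσdef
      exact exists_not_fixed hK
    have hc0fix : σ (hq σ B x0) = hq σ B x0 := by
      subst hσdef
      exact hq_fixed hK B hB x0
    obtain ⟨κ, hκdef⟩ : ∃ κ : K, κ = ε⁻¹ * (σ ω - ω) * hq σ B x0 := ⟨_, rfl⟩
    have hκ0 : κ ≠ 0 := by
      rw [hκdef]
      exact mul_ne_zero (mul_ne_zero (inv_ne_zero hε0) (sub_ne_zero.2 hω)) hx0
    have hκfix : σ κ = κ := by
      rw [hκdef, map_mul, map_mul, sigma_eps_inv σ ε hε, map_sub, hσ, hc0fix]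
      ring
    -- the key conjugation
    have hkey : ∀ t : K, σ t = t → t ≠ 0 → ∀ Y, IsHerm σ Y →
        ∃ (rr : G) (H : Matrix (Fin m) (Fin m) K), IsHerm σ H ∧
          rr * xa σ ε xx x0 θ t Y = xa σ ε xx x0 θ t Y * rr * u H ∧
          ψ (Matrix.trace (B * H)) ≠ 1 ∧ (∀ X, IsHerm σ X → rr * u X = u X * rr) := by
      intro t ht ht0 Y hY
      have hsfix : σ (t * κ)⁻¹ = (t * κ)⁻¹ := by rw [map_inv₀, map_mul, ht, hκfix]
      refine ⟨xa σ ε xx x0 θ ((t * κ)⁻¹ * ω) 0, Hc σ ε x0 t ((t * κ)⁻¹ * ω),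
        isHerm_Hc σ hσ ε hε x0 _ _, xa_comm σ hσ ε hε u xx hxx0 hxx x0 θ hθ t _ hY (isHerm_zero σ),
        ?_, fun X hX => xa_comm_u σ hσ ε hε u xx hxx0 hxx x0 θ hθ _ (isHerm_zero σ) hX⟩
      rw [trace_B_Hc σ hσ ε x0 B, map_mul σ, hsfix, ht]
      have h1 : ε⁻¹ * ((t * κ)⁻¹ * σ ω * t - t * ((t * κ)⁻¹ * ω)) * hq σ B x0 = 1 := by
        have : ε⁻¹ * ((t * κ)⁻¹ * σ ω * t - t * ((t * κ)⁻¹ * ω)) * hq σ B x0 = (t * κ)⁻¹ * (t * κ) := by
          rw [hκdef]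
          ring
        rw [this, inv_mul_cancel₀ (mul_ne_zero ht0 hκ0)]
      rw [h1]
      exact hψ
    -- the parameter of an element of `Z` vanishes
    have hparam : ∀ t : K, σ t = t → ∀ Y, IsHerm σ Y →
        xa σ ε xx x0 θ t Y ∈ Zsub σ u hu → t = 0 := by
      intro t ht Y hY hmem
      by_contra ht0
      obtain ⟨rr, H, hH, h1, h2, h3⟩ := hkey t ht ht0 Y hY
      obtain ⟨Y', hY', hYY'⟩ := hmem
      rw [hYY'] at h1
      rw [h3 Y' hY', mul_assoc] at h1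
      have h4 : u H = 1 := by
        have := mul_left_cancel h1
        exact (mul_eq_left.1 this.symm)
      have h5 := hrmul H hH
      rw [h4, map_one, one_mul] at h5
      have h6 : (ψ (Matrix.trace (B * H)) - 1) • e = 0 := by
        rw [sub_smul, one_smul, ← h5, sub_self]
      rcases smul_eq_zero.1 h6 with h | h
      · exact h2 (sub_eq_zero.1 h)
      · exact heB h
    -- the hypotheses of `heis_mult`
    have hvan : ∀ a ∈ Esub σ hσ ε hε u hu xx hxx0 hxx x0 θ hθ, a ∉ Zsub σ u hu →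
        LinearMap.trace ℂ V (ρ a * e) = 0 := by
      rintro _ ⟨t, ht, Y, hY, rfl⟩ hnZ
      have ht0 : t ≠ 0 := by
        rintro rfl
        exact hnZ ⟨Y, hY, xa_zero σ ε u xx hxx0 x0 θ hY⟩
      obtain ⟨rr, H, hH, h1, h2, h3⟩ := hkey t ht ht0 Y hY
      exact trace_zero_of_conj ρ _ rr (u H) e _ h2 h1 (hrmul H hH) (hecomm rr h3)
    have hcommE : ∀ a ∈ Esub σ hσ ε hε u hu xx hxx0 hxx x0 θ hθ, ρ a * e = e * ρ a := by
      rintro _ ⟨t, ht, Y, hY, rfl⟩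
      exact hecomm _ (fun X hX => xa_comm_u σ hσ ε hε u xx hxx0 hxx x0 θ hθ t hY hX)
    obtain ⟨χ, hχdef⟩ : ∃ χ : G → ℂ, χ = fun z => if h : ∃ Y, IsHerm σ Y ∧ z = u Y then
        ψ (Matrix.trace (B * h.choose)) else 0 := ⟨_, rfl⟩
    have hχ : ∀ z ∈ Zsub σ u hu, ρ z * e = χ z • e := by
      intro z hz
      have h : ∃ Y, IsHerm σ Y ∧ z = u Y := hz
      rw [hχdef]
      simp only [dif_pos h]
      have hs := h.choose_spec
      conv_lhs => rw [hs.2]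
      exact hrmul _ hs.1
    obtain ⟨r', hr', hcard⟩ := heis_mult ρ (Esub σ hσ ε hε u hu xx hxx0 hxx x0 θ hθ) (Zsub σ u hu)
      (Zsub_le_Esub σ hσ ε hε u hu xx hxx0 hxx x0 θ hθ)
      (Esub_comm σ hσ ε hε u hu xx hxx0 hxx x0 θ hθ) e hidem heB hcommE χ hχ hvan
    have hrr : r' = r := by
      have : (r' : ℂ) = (r : ℂ) := by rw [← hr', hr]
      exact_mod_cast this
    rw [hrr] at hcard
    -- counting
    have hinj : Function.Injective (fun p : {t : K // σ t = t} × ↥(Zsub σ u hu) =>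
        (⟨xa σ ε xx x0 θ p.1.1 0 * p.2.1, Subgroup.mul_mem _ ⟨p.1.1, p.1.2, 0, isHerm_zero σ, rfl⟩
          (Zsub_le_Esub σ hσ ε hε u hu xx hxx0 hxx x0 θ hθ p.2.2)⟩ :
          ↥(Esub σ hσ ε hε u hu xx hxx0 hxx x0 θ hθ))) := by
      rintro ⟨⟨t, ht⟩, ⟨z, hz⟩⟩ ⟨⟨t', ht'⟩, ⟨z', hz'⟩⟩ hpp
      have h1 : xa σ ε xx x0 θ t 0 * z = xa σ ε xx x0 θ t' 0 * z' := congrArg Subtype.val hpp
      obtain ⟨hY1, hinv⟩ := xa_inv σ hσ ε hε u hu xx hxx0 hxx x0 θ hθ t' ht' (isHerm_zero σ)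
      have h2 : (xa σ ε xx x0 θ t' 0)⁻¹ * xa σ ε xx x0 θ t 0 = z' * z⁻¹ := by
        rw [inv_mul_eq_iff_eq_mul, ← mul_assoc, ← h1, mul_assoc, mul_inv_cancel, mul_one]
      rw [hinv, xa_mul σ hσ ε hε xx hxx x0 θ hθ (-t') t (by rw [map_neg, ht']) ht hY1 (isHerm_zero σ)]
        at h2
      have h3 : -t' + t = 0 := by
        apply hparam (-t' + t) (by rw [map_add, map_neg, ht, ht']) _ ?_
        · rw [h2]
          exact Subgroup.mul_mem _ hz' (Subgroup.inv_mem _ hz)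
        · refine isHerm_add σ (isHerm_add σ hY1 (isHerm_zero σ)) (isHerm_O σ hσ x0 _ ?_)
          rw [map_mul, map_mul, map_neg, ht, ht', sigma_cc σ hσ ε hε θ hθ]
      have htt : t = t' := by
        have : t = t' := by linear_combination h3
        exact this
      subst htt
      have hzz : z = z' := mul_left_cancel h1
      subst hzz
      rfl
    have hle := Nat.card_le_card_of_injective _ hinj
    rw [Nat.card_prod] at hle
    have hq : Nat.card {t : K // σ t = t} = q := by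
      subst hσdef
      exact card_fixed hK
    rw [hq] at hle
    have hZpos : 0 < Nat.card ↥(Zsub σ u hu) := Nat.card_pos
    have : Nat.card ↥(Zsub σ u hu) * q ≤ Nat.card ↥(Zsub σ u hu) * r := by
      calc Nat.card ↥(Zsub σ u hu) * q = q * Nat.card ↥(Zsub σ u hu) := Nat.mul_comm _ _
        _ ≤ _ := hle
        _ ≤ _ := hcard
    exact Nat.le_of_mul_le_mul_left this hZpos
  calc q * (q ^ (2 * m) - 1) ≤ q * ((q + 1) * (orbGL σ B).card) := Nat.mul_le_mul_left _ hbound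
    _ = (q + 1) * ((orbGL σ B).card * q) := by ring
    _ ≤ (q + 1) * ((orbGL σ B).card * r) :=
        Nat.mul_le_mul_left _ (Nat.mul_le_mul_left _ hqr)
    _ ≤ (q + 1) * Module.finrank ℂ V := Nat.mul_le_mul_left _ horb

end final

end Cfsg.Agent.Lib.Helper3.MNU
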