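import Mathlib
import Cfsg.Agent.Lib.Helper5.E6MDefs

set_option autoImplicit false

/-!
Farm E6M2 (statement S2341, minimal degree of `²E₆(q)`), layer C2: the combinatorics of the
`σ`-fixed lattice `Λ_τ ⊆ Λ³K⁶` (`|K| = q²`) in the `K`-coordinates `T3 → K` of the farm E6M.

Conventions (0-indexed, `rev i = 5 - i`), read off from the graph datum `gE6` and the tables of the
concrete unit CONC of E6M (`σ (xI I a) = xI (tauI I) (epsI I * a ^ q)`,
`σ (xij (i,j) t) = xij (5-j,5-i) (-(m_i m_j) t ^ q)`, `σ (z r) = z (r ^ q)`):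
* `tauI I = (rev I)ᶜ`; the eight fixed points (`IsLong`) are the `I` with one element from each of
  `{0,5}`, `{1,4}`, `{2,3}`; the other twelve form six pairs;
* `epsI I = -1` iff (`0 ∈ I ↔ 5 ∈ I`);
* `mS = (1,1,-1,1,-1,-1)`; the fixed group of the induced involution of `SL₆(K)` is the isometry
  group of the skew-hermitian form `∑ mS i * u i * (v (5-i)) ^ q`; its root elements are
  `xs q p t` (`t : K`) and `xl i t` (`t ^ q = t`).
-/

namespace Cfsg.Agent.Lib.Helper3.E6M2C

open Cfsg.Agent.Lib.Helper5.E6M Matrix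

/-- the graph involution on the 3-subsets: the complement of the reflected set -/
def tauI (I : T3) : T3 :=
  ⟨(I.1.image Fin.rev)ᶜ, by
    rw [Finset.card_compl, Finset.card_image_of_injective _ Fin.rev_injective, I.2]; rfl⟩

/-- the fixed points of `tauI`: one element from each of `{0,5}`, `{1,4}`, `{2,3}` -/
def IsLong (I : T3) : Prop := tauI I = I

instance (I : T3) : Decidable (IsLong I) := by unfold IsLong; infer_instance

/-- the sign of `σ` on `x_{γ_I}` -/
def epsI (I : T3) : ℤ := if ((0 : Fin 6) ∈ I.1 ↔ (5 : Fin 6) ∈ I.1) then -1 else 1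

/-- the signs of the skew-hermitian form -/
def mS : Fin 6 → ℤ := ![1, 1, -1, 1, -1, -1]

/-- the position `(5-j, 5-i)` -/
def revp (p : IJ) : IJ :=
  ⟨(Fin.rev p.1.2, Fin.rev p.1.1), fun h => p.2 (Fin.rev_injective h).symm⟩

/-- the position `(i, 5-i)` -/
def lpos (i : Fin 6) : IJ := ⟨(i, Fin.rev i), by revert i; decide⟩

/-- `{0,3,4}` -/
def I034 : T3 := T3.mk' 0 3 4
/-- the position `(0,5)` -/
def p05 : IJ := lpos 0

section field

variable {K : Type*} [Field K]

/-- the `σ`-fixed lattice in `Λ³K⁶`: `s (tauI I) = epsI I * (s I) ^ q` -/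
def InLam (q : ℕ) (s : T3 → K) : Prop := ∀ I : T3, s (tauI I) = ((epsI I : ℤ) : K) * s I ^ q

instance [DecidableEq K] (q : ℕ) (s : T3 → K) : Decidable (InLam q s) := by
  unfold InLam; infer_instance

/-- the short root elements `x_{ij}(t) x_{5-j,5-i}(-(m_i m_j) t^q)` (for `i + j = 5` this is the
long root element with parameter `t + t ^ q`) -/
def xs (q : ℕ) (p : IJ) (t : K) : SL6 K :=
  tv p t * tv (revp p) (((-(mS p.1.1 * mS p.1.2) : ℤ) : K) * t ^ q)

/-- the long root elements `x_{i,5-i}(t)`, to be used with `t ^ q = t` -/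
def xl (i : Fin 6) (t : K) : SL6 K := tv (lpos i) t

/-- the group generated by the root elements (`= SU₆` of the skew-hermitian form, unit GENSU) -/
def RJ (q : ℕ) : Subgroup (SL6 K) :=
  Subgroup.closure ({g | ∃ (p : IJ) (t : K), g = xs q p t} ∪
    {g | ∃ (i : Fin 6) (t : K), t ^ q = t ∧ g = xl i t})

/-- the characters of `Q¹/Z¹` (identified with `Λ_τ` by the DOT PRODUCT, as in E6M) moved by
`X_{05}`: some coordinate `I ∋ 0`, `I ∌ 5` is non-zero (`Mm (tv (5,0) u) *ᵥ l ≠ l`) -/
def moved2 (l : T3 → K) : Prop := ∃ I : T3, (0 : Fin 6) ∈ I.1 ∧ (5 : Fin 6) ∉ I.1 ∧ l I ≠ 0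

instance [DecidableEq K] (l : T3 → K) : Decidable (moved2 l) := by
  unfold moved2; infer_instance

/-- the stabiliser of the vector `e_012` in `RJ` -/
def IsStab (q : ℕ) (g : SL6 K) : Prop :=
  g ∈ RJ q ∧ Mm g.1 *ᵥ Pi.single I012 (1 : K) = Pi.single I012 1

end field

end Cfsg.Agent.Lib.Helper3.E6M2C
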