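import Mathlib

set_option autoImplicit false

namespace Cfsg.Agent.Lib.Helper3

/-- A finite nontrivial solvable group has a nontrivial normal abelian `p`-subgroup. -/
theorem exists_normal_abelian_pgroup (Q : Type*) [Group Q] [Finite Q] [Nontrivial Q]
    (hs : Group.IsSolvable Q) :
    ∃ (p : ℕ) (A : Subgroup Q), p.Prime ∧ A.Normal ∧ A ≠ ⊥ ∧ IsPGroup p A ∧
      (∀ a ∈ A, ∀ b ∈ A, a * b = b * a) := by
  classical
  have hex : ∃ n, derivedSeries Q n = ⊥ := hs.solvable
  have hn := Nat.find_spec hex
  have hn0 : Nat.find hex ≠ 0 := by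
    intro h0
    rw [h0, derivedSeries_zero] at hn
    exact top_ne_bot hn
  obtain ⟨k, hk⟩ := Nat.exists_eq_succ_of_ne_zero hn0
  have hDne : derivedSeries Q k ≠ ⊥ := by
    intro h
    have := Nat.find_min' hex h
    omega
  have hDD : ⁅derivedSeries Q k, derivedSeries Q k⁆ = ⊥ := by
    rw [← derivedSeries_succ, ← Nat.succ_eq_add_one, ← hk]; exact hn
  have hDcomm : ∀ a ∈ derivedSeries Q k, ∀ b ∈ derivedSeries Q k, a * b = b * a := by
    intro a ha b hb
    have hle := Subgroup.commutator_eq_bot_iff_le_centralizer.1 hDD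
    have := hle ha
    rw [Subgroup.mem_centralizer_iff] at this
    exact (this b hb).symm
  haveI hDn : (derivedSeries Q k).Normal := derivedSeries_normal Q k
  have hcard : Nat.card (derivedSeries Q k) ≠ 1 := by
    intro h1
    exact hDne (Subgroup.card_eq_one.1 h1)
  obtain ⟨p, hp, hpD⟩ := Nat.exists_prime_and_dvd hcard
  haveI : Fact p.Prime := ⟨hp⟩
  obtain P : Sylow p (derivedSeries Q k) := default
  have hPn : (P : Subgroup (derivedSeries Q k)).Normal := by
    constructor
    intro n hn' g
    have : g * n * g⁻¹ = n := by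
      apply Subtype.ext
      have := hDcomm g.1 g.2 n.1 n.2
      simp only [Subgroup.coe_mul, Subgroup.coe_inv]
      rw [this]; group
    rw [this]; exact hn'
  haveI : (P : Subgroup (derivedSeries Q k)).Characteristic := P.characteristic_of_normal hPn
  refine ⟨p, (P : Subgroup (derivedSeries Q k)).map (derivedSeries Q k).subtype, hp,
    ConjAct.normal_of_characteristic_of_normal, ?_, P.isPGroup'.map _, ?_⟩
  · intro hbot
    rw [Subgroup.map_eq_bot_iff_of_injective _ (Subgroup.subtype_injective _)] at hbot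
    exact P.ne_bot_of_dvd_card hpD hbot
  · rintro _ ⟨a, -, rfl⟩ _ ⟨b, -, rfl⟩
    exact hDcomm a.1 a.2 b.1 b.2

end Cfsg.Agent.Lib.Helper3
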