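import Mathlib
import Cfsg.Prelude.Def_LieExceptional
import Cfsg.Prelude.Def_OddOrderLocal
import Cfsg.Agent.Lib.Lead.CNSolv
import Cfsg.Agent.Lib.Helper1.PCore

set_option autoImplicit false

/-!
# FHT (odd CN-groups), part 1: a solvable CN-group with an isolated prime
-/

namespace Cfsg.Agent.Lib.Helper3.FHT

open Cfsg
open scoped commutatorElement

universe u

/-- The prime `p` is isolated: centralizers of nontrivial `p`-elements are `p`-groups. -/
def Iso (p : ℕ) (G : Type u) [Group G] : Prop :=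
  ∀ x : G, x ≠ 1 → (∃ k : ℕ, x ^ p ^ k = 1) → IsPGroup p (Subgroup.centralizer ({x} : Set G))

theorem Iso.subgroup {G : Type u} [Group G] {p : ℕ} (h : Iso p G) (M : Subgroup G) : Iso p M := by
  intro x hx1 ⟨k, hk⟩
  have hx1' : (x : G) ≠ 1 := fun h0 => hx1 (Subtype.ext h0)
  have hk' : (x : G) ^ p ^ k = 1 := by
    have := congrArg Subtype.val hk
    simpa using this
  have hp := h (x : G) hx1' ⟨k, hk'⟩
  rintro ⟨v, hv⟩
  have hvG : (v : G) ∈ Subgroup.centralizer ({(x : G)} : Set G) := by
    rw [Subgroup.mem_centralizer_iff] at hv ⊢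
    intro t ht
    rw [Set.mem_singleton_iff] at ht
    subst ht
    have := hv x rfl
    have h2 := congrArg Subtype.val this
    simpa using h2
  obtain ⟨j, hj⟩ := hp ⟨(v : G), hvG⟩
  refine ⟨j, ?_⟩
  apply Subtype.ext
  apply Subtype.ext
  have := congrArg Subtype.val hj
  simpa using this

/-- A `p`-element of a subgroup of order prime to `p` is trivial. -/
theorem eq_one_of_pow_of_coprime {G : Type u} [Group G] [Finite G] {p : ℕ} (R : Subgroup G)
    (hR : (Nat.card R).Coprime p) {r : G} (hr : r ∈ R) {k : ℕ} (hk : r ^ p ^ k = 1) : r = 1 := by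
  have h1 : orderOf r ∣ p ^ k := orderOf_dvd_of_pow_eq_one hk
  have h2 : orderOf r ∣ Nat.card R := by
    have := orderOf_dvd_natCard (⟨r, hr⟩ : R)
    rwa [Subgroup.orderOf_mk] at this
  have h3 : (orderOf r).Coprime (orderOf r) :=
    Nat.Coprime.coprime_dvd_left h2 (Nat.Coprime.coprime_dvd_right h1 (Nat.Coprime.pow_right k hR))
  rw [Nat.coprime_self] at h3
  exact orderOf_eq_one_iff.mp h3

/-- In a solvable CN-group with `p` isolated and `O_p ≠ 1`, a Sylow `p`-subgroup is normal or is not
contained in the derived subgroup. -/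
theorem sylow_normal_or (M : Type u) [Group M] [Finite M] [Group.IsSolvable M] (hCN : IsCNGroup M)
    (p : ℕ) [hp : Fact p.Prime] (hiso : Iso p M) (hcore : pCore p M ≠ ⊥) (P : Sylow p M) :
    (P : Subgroup M).Normal ∨ ¬ (P : Subgroup M) ≤ commutator M := by
  classical
  haveI hQn : (pCore p M).Normal := Cfsg.Agent.Lib.Helper1.pCore_normal p
  have hQp : IsPGroup p (pCore p M) := Cfsg.Agent.Lib.Helper1.pCore_isPGroup p
  -- a nontrivial element of the core
  obtain ⟨x, hxQ, hx1⟩ : ∃ x ∈ pCore p M, x ≠ 1 := by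
    by_contra hcon
    push Not at hcon
    apply hcore
    rw [eq_bot_iff]
    intro y hy
    rw [Subgroup.mem_bot]
    exact hcon y hy
  have hxp : ∃ k : ℕ, x ^ p ^ k = 1 := by
    obtain ⟨k, hk⟩ := hQp ⟨x, hxQ⟩
    exact ⟨k, by simpa using congrArg Subtype.val hk⟩
  have hCF : Subgroup.centralizer ((pCore p M : Subgroup M) : Set M) ≤ pCore p M := by
    apply Cfsg.Agent.Lib.Helper1.le_pCore inferInstance
    have h1 : Subgroup.centralizer ((pCore p M : Subgroup M) : Set M) ≤
        Subgroup.centralizer ({x} : Set M) :=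
      Subgroup.centralizer_le (by simpa using hxQ)
    exact (hiso x hx1 hxp).to_le h1
  by_cases hQtop : pCore p M = ⊤
  · left
    have h1 : IsPGroup p (⊤ : Subgroup M) := hQtop ▸ hQp
    have h2 : (⊤ : Subgroup M) = P := P.is_maximal' h1 le_top
    rw [← h2]
    infer_instance
  · obtain ⟨R, hR1, hRc, hRp, hQR, hfrat⟩ :=
      Cfsg.Agent.Lib.Lead.CNSolv.exists_cyclic_frattini hCN p hcore hCF hQtop
    by_contra hcon
    push Not at hcon
    obtain ⟨hPn, hPc⟩ := hcon
    apply hPn
    -- the centralizer of R has order prime to p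
    have hC : (Nat.card (Subgroup.centralizer (R : Set M))).Coprime p := by
      rw [Nat.coprime_comm, Nat.Prime.coprime_iff_not_dvd hp.out]
      intro hdvd
      obtain ⟨c, hc⟩ := exists_prime_orderOf_dvd_card' p hdvd
      have hc1 : (c : M) ≠ 1 := by
        intro h
        have : c = 1 := Subtype.ext h
        rw [this, orderOf_one] at hc
        exact hp.out.one_lt.ne hc
      have hcp : (c : M) ^ p ^ 1 = 1 := by
        rw [pow_one]
        have h1 : c ^ p = 1 := by rw [← hc]; exact pow_orderOf_eq_one c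
        simpa using congrArg Subtype.val h1
      have hpc := hiso (c : M) hc1 ⟨1, hcp⟩
      obtain ⟨r, hrR, hr1⟩ : ∃ r ∈ R, r ≠ 1 := by
        by_contra hcon2
        push Not at hcon2
        apply hR1
        rw [eq_bot_iff]
        intro y hy
        rw [Subgroup.mem_bot]
        exact hcon2 y hy
      have hrc : r ∈ Subgroup.centralizer ({(c : M)} : Set M) := by
        rw [Subgroup.mem_centralizer_iff]
        intro t ht
        rw [Set.mem_singleton_iff] at ht
        subst ht
        exact ((Subgroup.mem_centralizer_iff.mp c.2) r hrR).symm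
      obtain ⟨j, hj⟩ := hpc ⟨r, hrc⟩
      have hj' : r ^ p ^ j = 1 := by simpa using congrArg Subtype.val hj
      exact hr1 (eq_one_of_pow_of_coprime R hRp hrR hj')
    -- commutators lie in Q C
    have hcomm : commutator M ≤ pCore p M ⊔ Subgroup.centralizer (R : Set M) := by
      rw [commutator_def, Subgroup.commutator_le]
      intro g₁ _ g₂ _
      obtain ⟨f₁, hf₁, hn₁⟩ := hfrat g₁
      obtain ⟨f₂, hf₂, hn₂⟩ := hfrat g₂
      have hc := Cfsg.Agent.Lib.Lead.CNSolv.commutator_mem_centralizer_of_cyclic R hRc _ _ hn₁ hn₂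
      have hq : ⁅g₁, g₂⁆ * (⁅f₁⁻¹ * g₁, f₂⁻¹ * g₂⁆)⁻¹ ∈ pCore p M := by
        have hf₁' : QuotientGroup.mk' (pCore p M) f₁ = 1 :=
          (QuotientGroup.eq_one_iff f₁).mpr hf₁
        have hf₂' : QuotientGroup.mk' (pCore p M) f₂ = 1 :=
          (QuotientGroup.eq_one_iff f₂).mpr hf₂
        rw [← QuotientGroup.ker_mk' (pCore p M), MonoidHom.mem_ker, map_mul, map_inv,
          map_commutatorElement, map_commutatorElement, map_mul, map_mul, map_inv, map_inv,
          hf₁', hf₂']
        simp only [inv_one, one_mul]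
        exact mul_inv_cancel _
      have e : ⁅g₁, g₂⁆ = (⁅g₁, g₂⁆ * (⁅f₁⁻¹ * g₁, f₂⁻¹ * g₂⁆)⁻¹) * ⁅f₁⁻¹ * g₁, f₂⁻¹ * g₂⁆ := by
        group
      rw [e]
      apply Subgroup.mul_mem
      · exact Subgroup.mem_sup_left hq
      · apply Subgroup.mem_sup_right
        rw [commutatorElement_def]
        exact hc
    -- P ≤ Q
    have hPQ : (P : Subgroup M) ≤ pCore p M := by
      intro y hy
      have hy2 := hcomm (hPc hy)
      rw [← SetLike.mem_coe, Subgroup.normal_mul] at hy2
      obtain ⟨q, hq, c, hc, rfl⟩ := Set.mem_mul.mp hy2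
      have hcQ : c ∈ pCore p M := by
        -- c is a p-element modulo Q
        obtain ⟨k, hk⟩ := P.2 ⟨q * c, hy⟩
        have hk' : (q * c) ^ p ^ k = 1 := by simpa using congrArg Subtype.val hk
        rw [← QuotientGroup.eq_one_iff]
        have h1 : ((q * c : M) : M ⧸ pCore p M) = (c : M ⧸ pCore p M) := by
          rw [QuotientGroup.mk_mul, (QuotientGroup.eq_one_iff q).mpr hq, one_mul]
        have h2 : (c : M ⧸ pCore p M) ^ p ^ k = 1 := by
          rw [← h1, ← QuotientGroup.mk_pow, hk', QuotientGroup.mk_one]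
        have h3 : orderOf (c : M ⧸ pCore p M) ∣ p ^ k := orderOf_dvd_of_pow_eq_one h2
        have h4 : orderOf (c : M ⧸ pCore p M) ∣ orderOf c :=
          orderOf_map_dvd (QuotientGroup.mk' (pCore p M)) c
        have h5 : orderOf c ∣ Nat.card (Subgroup.centralizer (R : Set M)) := by
          have := orderOf_dvd_natCard (⟨c, hc⟩ : Subgroup.centralizer (R : Set M))
          rwa [Subgroup.orderOf_mk] at this
        have h6 : (orderOf (c : M ⧸ pCore p M)).Coprime (orderOf (c : M ⧸ pCore p M)) :=
          Nat.Coprime.coprime_dvd_left (h4.trans h5)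
            (Nat.Coprime.coprime_dvd_right h3 (Nat.Coprime.pow_right k hC))
        rw [Nat.coprime_self] at h6
        exact orderOf_eq_one_iff.mp h6
      exact Subgroup.mul_mem _ hq hcQ
    have h2 : pCore p M = P := P.is_maximal' hQp hPQ
    rw [← h2]
    exact hQn

end Cfsg.Agent.Lib.Helper3.FHT
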