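import Mathlib
import Cfsg.Agent.Lib.Helper3.FHT1
import Cfsg.Agent.S0118
import Cfsg.Agent.Lib.Helper1.Fusion
import Cfsg.Agent.Lib.Helper1.NPC6
import Cfsg.Agent.Lib.Helper1.ZJF4

set_option autoImplicit false

/-!
# FHT (odd CN-groups), part 2: the minimal counterexample; isolated primes have TI Sylow subgroups
-/

namespace Cfsg.Agent.Lib.Helper3.FHT

open Cfsg
open scoped commutatorElement Pointwise

universe u

theorem isNilpotent_of_inj {A B : Type*} [Group A] [Group B] (f : A →* B)
    (hf : Function.Injective f) (hB : Group.IsNilpotent B) : Group.IsNilpotent A := by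
  haveI := hB
  exact (Group.isNilpotent_congr (MonoidHom.ofInjective hf)).mpr (Subgroup.isNilpotent f.range)

theorem isCN_subgroup {G : Type u} [Group G] (hCN : IsCNGroup G) (K : Subgroup G) :
    IsCNGroup K := by
  intro g hg
  have hg' : (g : G) ≠ 1 := fun h => hg (Subtype.ext h)
  have hn := hCN (g : G) hg'
  have hmem : ∀ v : Subgroup.centralizer ({g} : Set K),
      ((v : K) : G) ∈ Subgroup.centralizer ({(g : G)} : Set G) := by
    intro v
    have hv := v.2
    rw [Subgroup.mem_centralizer_iff] at hv ⊢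
    intro t ht
    rw [Set.mem_singleton_iff] at ht
    subst ht
    have := hv g rfl
    have h2 := congrArg Subtype.val this
    simpa using h2
  let f : Subgroup.centralizer ({g} : Set K) →* Subgroup.centralizer ({(g : G)} : Set G) :=
    { toFun := fun v => ⟨((v : K) : G), hmem v⟩
      map_one' := rfl
      map_mul' := fun _ _ => rfl }
  refine isNilpotent_of_inj f ?_ hn
  intro a b hab
  have h1 : ((a : K) : G) = ((b : K) : G) :=
    congrArg (fun t : Subgroup.centralizer ({(g : G)} : Set G) => (t : G)) hab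
  exact Subtype.ext (Subtype.ext h1)

/-- A group of odd order has no section isomorphic to `SL(2,p)`, `p` odd. -/
theorem no_sl2_section {G : Type u} [Group G] [Finite G] (hodd : Odd (Nat.card G)) {p : ℕ}
    [hp : Fact p.Prime] (hp2 : p ≠ 2) :
    ¬ ∃ (H K : Subgroup G) (hK : (K.subgroupOf H).Normal),
      Nonempty ((H ⧸ K.subgroupOf H) ≃* Matrix.SpecialLinearGroup (Fin 2) (ZMod p)) := by
  rintro ⟨H, K, hK, ⟨e⟩⟩
  have : Fact (Even (Fintype.card (Fin 2))) := ⟨by decide⟩
  have : Fact (2 < p) := ⟨lt_of_le_of_ne hp.out.two_le (Ne.symm hp2)⟩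
  have ht2 : (-1 : Matrix.SpecialLinearGroup (Fin 2) (ZMod p)) ^ 2 = 1 := by
    rw [sq]; simp
  have ht1 : (-1 : Matrix.SpecialLinearGroup (Fin 2) (ZMod p)) ≠ 1 := by
    intro h
    have h1 := congrArg (fun A : Matrix.SpecialLinearGroup (Fin 2) (ZMod p) =>
      (A : Matrix (Fin 2) (Fin 2) (ZMod p)) 0 0) h
    simp only [Matrix.SpecialLinearGroup.coe_neg, Matrix.SpecialLinearGroup.coe_one,
      Matrix.neg_apply, Matrix.one_apply_eq] at h1
    exact ZMod.neg_one_ne_one h1
  have : Fact (Nat.Prime 2) := ⟨Nat.prime_two⟩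
  have ho : orderOf (-1 : Matrix.SpecialLinearGroup (Fin 2) (ZMod p)) = 2 :=
    orderOf_eq_prime ht2 ht1
  have ho' : orderOf (e.symm (-1)) = 2 := by
    rw [MulEquiv.orderOf_eq]; exact ho
  have h1 : 2 ∣ Nat.card (H ⧸ K.subgroupOf H) := by
    rw [← ho']; exact orderOf_dvd_natCard _
  have h2 : Nat.card (H ⧸ K.subgroupOf H) ∣ Nat.card H := Subgroup.card_quotient_dvd_card _
  have h3 : Nat.card H ∣ Nat.card G := Subgroup.card_subgroup_dvd_card H
  exact hodd.not_two_dvd_nat (h1.trans (h2.trans h3))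

/-- A minimal counterexample to the CN-theorem for odd order. -/
structure MC (G : Type u) [Group G] [Finite G] : Prop where
  odd : Odd (Nat.card G)
  cn : IsCNGroup G
  ns : ¬ Group.IsSolvable G
  sub : ∀ K : Subgroup G, K ≠ ⊤ → Group.IsSolvable K
  nsn : ∀ N : Subgroup G, N.Normal → Group.IsSolvable N → N = ⊥

variable {G : Type u} [Group G] [Finite G]

theorem MC.commutator_eq_top (mc : MC G) : commutator G = ⊤ := by
  by_contra h
  have h1 := mc.sub _ h
  have h2 : commutator G = ⊥ := mc.nsn _ inferInstance h1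
  apply mc.ns
  rw [isSolvable_def]
  exact ⟨1, by rw [derivedSeries_one]; exact h2⟩

theorem MC.normal_pgroup_eq_bot (mc : MC G) {p : ℕ} [Fact p.Prime] (N : Subgroup G) (hN : N.Normal)
    (hp : IsPGroup p N) : N = ⊥ := by
  apply mc.nsn N hN
  haveI := hp.isNilpotent
  infer_instance

theorem centerThompsonOf_le' (p : ℕ) (P : Subgroup G) : centerThompsonOf p P ≤ P := by
  unfold centerThompsonOf thompsonSubgroupOf
  exact inf_le_left.trans (Subgroup.map_subtype_le _)

theorem le_normalizer_centerThompsonOf (p : ℕ) (P : Subgroup G) :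
    P ≤ Subgroup.normalizer ((centerThompsonOf p P : Subgroup G) : Set G) := by
  intro x hx
  have hmap : P.map (MulAut.conj x).toMonoidHom = P := by
    ext y
    rw [Subgroup.mem_map]
    constructor
    · rintro ⟨z, hz, rfl⟩
      simp only [MulEquiv.coe_toMonoidHom, MulAut.conj_apply]
      exact P.mul_mem (P.mul_mem hx hz) (P.inv_mem hx)
    · intro hy
      refine ⟨x⁻¹ * y * x, P.mul_mem (P.mul_mem (P.inv_mem hx) hy) hx, ?_⟩
      simp only [MulEquiv.coe_toMonoidHom, MulAut.conj_apply]
      group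
  have h1 := Cfsg.Agent.Lib.Helper1.ZJ.centerThompsonOf_map_of_injOn p (MulAut.conj x).toMonoidHom P
    (fun a _ b _ hab => (MulAut.conj x).injective hab)
  rw [hmap] at h1
  rw [Subgroup.mem_normalizer_iff]
  intro h
  constructor
  · intro hh
    rw [h1]
    exact ⟨h, hh, by simp [MulAut.conj_apply]⟩
  · intro hh
    rw [h1] at hh
    obtain ⟨z, hz, hzh⟩ := hh
    simp only [MulEquiv.coe_toMonoidHom, MulAut.conj_apply] at hzh
    have : z = h := by
      have := mul_left_cancel (mul_right_cancel hzh)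
      exact this
    rw [← this]; exact hz

/-- In the minimal counterexample, for an isolated prime `p` the normalizer of a Sylow `p`-subgroup
controls strong fusion in it. -/
theorem MC.fusion (mc : MC G) (p : ℕ) [hp : Fact p.Prime] (hiso : Iso p G) (P : Sylow p G)
    (hP : (P : Subgroup G) ≠ ⊥) (A : Set G) (hA : A ⊆ ((P : Subgroup G) : Set G)) (g : G)
    (hAg : ∀ a ∈ A, g⁻¹ * a * g ∈ (P : Subgroup G)) :
    ∃ n ∈ Subgroup.normalizer ((P : Subgroup G) : Set G), ∀ a ∈ A, n⁻¹ * a * n = g⁻¹ * a * g := by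
  classical
  have hp2 : p ≠ 2 := by
    intro h2
    have h1 : p ∣ Nat.card (P : Subgroup G) := by
      rcases P.2.card_eq_or_dvd with h | h
      · exact absurd (Subgroup.card_eq_one.mp h) hP
      · exact h
    have h3 : p ∣ Nat.card G := h1.trans (Subgroup.card_subgroup_dvd_card _)
    rw [h2] at h3
    exact mc.odd.not_two_dvd_nat h3
  have hfree := no_sl2_section mc.odd (p := p) hp2
  obtain ⟨W, hWdef⟩ : ∃ W, W = centerThompsonOf p (P : Subgroup G) := ⟨_, rfl⟩
  have hW1 : W ≠ ⊥ := hWdef ▸ Cfsg.Agent.Lib.Helper1.NPC.centerThompsonOf_ne_bot P.2 hP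
  have hWP : W ≤ P := hWdef ▸ centerThompsonOf_le' p _
  have hWp : IsPGroup p W := P.2.to_le hWP
  obtain ⟨M, hMdef⟩ : ∃ M, M = Subgroup.normalizer (W : Set G) := ⟨_, rfl⟩
  have hS0118 : ∀ (A : Set G), A ⊆ ((P : Subgroup G) : Set G) → ∀ g : G,
      (∀ a ∈ A, g⁻¹ * a * g ∈ (P : Subgroup G)) →
      ∃ n ∈ M, ∀ a ∈ A, n⁻¹ * a * n = g⁻¹ * a * g := by
    intro A hA g hAg
    have := Cfsg.Agent.S0118.result hp2 hfree P A hA g
      (by rintro _ ⟨a, ha, rfl⟩; exact hAg a ha)
    rw [← hWdef, ← hMdef] at this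
    exact this
  have hMtop : M ≠ ⊤ := by
    intro h
    rw [hMdef, Subgroup.normalizer_eq_top_iff] at h
    exact hW1 (mc.normal_pgroup_eq_bot W h hWp)
  have hPM : (P : Subgroup G) ≤ M := by
    rw [hMdef, hWdef]; exact le_normalizer_centerThompsonOf p _
  haveI : Group.IsSolvable M := mc.sub M hMtop
  have hCNM : IsCNGroup M := isCN_subgroup mc.cn M
  have hisoM : Iso p M := hiso.subgroup M
  have hWM : W ≤ M := hMdef ▸ Subgroup.le_normalizer
  have hcore : pCore p M ≠ ⊥ := by
    intro hbot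
    have hn : (W.subgroupOf M).Normal := by
      rw [hMdef]; exact Subgroup.normal_in_normalizer
    have h1 : W.subgroupOf M ≤ pCore p M :=
      Cfsg.Agent.Lib.Helper1.le_pCore hn hWp.comap_subtype
    rw [hbot, le_bot_iff, Subgroup.subgroupOf_eq_bot] at h1
    apply hW1
    rw [eq_bot_iff]
    intro w hw
    exact Subgroup.disjoint_def.mp h1 hw (hWM hw) ▸ Subgroup.mem_bot.mpr rfl
  rcases sylow_normal_or M hCNM p hisoM hcore (P.subtype hPM) with hn | hnc
  · -- P normal in M
    have hMN : M ≤ Subgroup.normalizer ((P : Subgroup G) : Set G) := by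
      have key : ∀ m ∈ M, ∀ h ∈ (P : Subgroup G), m * h * m⁻¹ ∈ (P : Subgroup G) := by
        intro m hm h hh
        have h1 : (⟨h, hPM hh⟩ : M) ∈ ((P.subtype hPM : Sylow p M) : Subgroup M) := by
          rw [Sylow.coe_subtype, Subgroup.mem_subgroupOf]; exact hh
        have h2 := hn.conj_mem _ h1 ⟨m, hm⟩
        rw [Sylow.coe_subtype, Subgroup.mem_subgroupOf] at h2
        exact h2
      intro m hm
      rw [Subgroup.mem_normalizer_iff]
      intro h
      constructor
      · exact key m hm h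
      · intro hh
        have := key m⁻¹ (M.inv_mem hm) _ hh
        have e : m⁻¹ * (m * h * m⁻¹) * m⁻¹⁻¹ = h := by group
        rwa [e] at this
    obtain ⟨n, hn, hna⟩ := hS0118 A hA g hAg
    exact ⟨n, hMN hn, hna⟩
  · exfalso
    apply hnc
    have hctl : ∀ x ∈ P, ∀ g : G, g * x * g⁻¹ ∈ P → ∃ h ∈ M, h * x * h⁻¹ = g * x * g⁻¹ := by
      intro x hx g hg
      obtain ⟨n, hn, hna⟩ := hS0118 {x} (by simpa using hx) g⁻¹
        (by
          intro a ha
          rw [Set.mem_singleton_iff] at ha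
          subst ha
          rw [inv_inv]
          exact hg)
      refine ⟨n⁻¹, M.inv_mem hn, ?_⟩
      have := hna x rfl
      simpa using this
    have focal := Cfsg.Agent.Lib.Helper1.commutator_inf_sylow_eq_of_controls_fusion P M hctl hPM
    rw [mc.commutator_eq_top, top_inf_eq] at focal
    have hPc : (P : Subgroup G) ≤ ⁅M, M⁆ := by
      rw [focal]; exact inf_le_left
    intro y hy
    rw [Sylow.coe_subtype, Subgroup.mem_subgroupOf] at hy
    have h1 := hPc hy
    rw [← Subgroup.map_subtype_commutator, Subgroup.mem_map] at h1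
    obtain ⟨y', hy', hyy⟩ := h1
    have : y' = y := Subtype.ext hyy
    rw [← this]; exact hy'

end Cfsg.Agent.Lib.Helper3.FHT
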