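import Mathlib
import Cfsg.Agent.Lib.Helper3.FHT2

set_option autoImplicit false

/-!
# FHT (odd CN-groups), part 3: Sylow subgroups for isolated primes are TI
-/

namespace Cfsg.Agent.Lib.Helper3.FHT

open Cfsg
open scoped commutatorElement Pointwise

universe u

variable {G : Type u} [Group G] [Finite G]

omit [Finite G] in
theorem conj_mem_centralizer {D : Subgroup G} {n : G}
    (hn : n ∈ Subgroup.normalizer (D : Set G)) {c : G}
    (hc : c ∈ Subgroup.centralizer (D : Set G)) :
    n * c * n⁻¹ ∈ Subgroup.centralizer (D : Set G) := by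
  rw [Subgroup.mem_centralizer_iff] at hc ⊢
  intro d hd
  have hd' : n⁻¹ * d * n⁻¹⁻¹ ∈ D :=
    (Subgroup.mem_normalizer_iff.mp (Subgroup.inv_mem _ hn) d).mp hd
  rw [inv_inv] at hd'
  have h1 := hc _ hd'
  -- (n⁻¹ d n) c = c (n⁻¹ d n)
  have e1 : d * (n * c * n⁻¹) = n * ((n⁻¹ * d * n) * c) * n⁻¹ := by group
  have e2 : n * c * n⁻¹ * d = n * (c * (n⁻¹ * d * n)) * n⁻¹ := by group
  rw [e1, e2, h1]

omit [Finite G] in
theorem normalizer_le_normalizer_centralizer' (D : Subgroup G) :
    Subgroup.normalizer (D : Set G) ≤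
      Subgroup.normalizer ((Subgroup.centralizer (D : Set G) : Subgroup G) : Set G) := by
  intro n hn
  rw [Subgroup.mem_normalizer_iff]
  intro c
  constructor
  · exact fun hc => conj_mem_centralizer hn hc
  · intro hc
    have := conj_mem_centralizer (Subgroup.inv_mem _ hn) hc
    have e : n⁻¹ * (n * c * n⁻¹) * n⁻¹⁻¹ = c := by group
    rwa [e] at this

theorem card_lt_of_lt' {D E : Subgroup G} (h : D < E) : Nat.card D < Nat.card E := by
  rcases lt_or_eq_of_le (Subgroup.card_le_of_le h.le) with h1 | h1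
  · exact h1
  · exact absurd (Subgroup.eq_of_le_of_card_ge h.le h1.ge) h.ne

/-- In the minimal counterexample, distinct Sylow `p`-subgroups for an isolated prime `p` meet
trivially. -/
theorem MC.sylow_ti (mc : MC G) (p : ℕ) [hp : Fact p.Prime] (hiso : Iso p G) (P Q : Sylow p G)
    (hPQ : P ≠ Q) : (P : Subgroup G) ⊓ Q = ⊥ := by
  classical
  by_contra hne
  let α := {PQ : Sylow p G × Sylow p G // PQ.1 ≠ PQ.2 ∧ (PQ.1 : Subgroup G) ⊓ PQ.2 ≠ ⊥}
  haveI : Nonempty α := ⟨⟨(P, Q), hPQ, hne⟩⟩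
  obtain ⟨⟨⟨P, Q⟩, hPQ, hne⟩, hmax⟩ :=
    Finite.exists_max (fun x : α => Nat.card ↥((x.1.1 : Subgroup G) ⊓ x.1.2))
  simp only at hPQ hne hmax
  obtain ⟨D, hD⟩ : ∃ D, D = (P : Subgroup G) ⊓ Q := ⟨_, rfl⟩
  rw [← hD] at hne
  have hDP : D ≤ P := hD ▸ inf_le_left
  have hDQ : D ≤ Q := hD ▸ inf_le_right
  have hPbot : (P : Subgroup G) ≠ ⊥ := by
    intro h
    apply hne
    rw [eq_bot_iff, ← h]; exact hDP
  -- an element of P normalizing D outside D
  obtain ⟨x, hxP, hxD, hxN⟩ : ∃ x ∈ (P : Subgroup G), x ∉ D ∧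
      x ∈ Subgroup.normalizer (D : Set G) := by
    haveI : Group.IsNilpotent (P : Subgroup G) := P.2.isNilpotent
    have hnc := normalizerCondition_of_isNilpotent (G := (P : Subgroup G))
    have hlt : D.subgroupOf P < ⊤ := by
      rw [lt_top_iff_ne_top]
      intro h
      rw [Subgroup.subgroupOf_eq_top] at h
      have h1 : (P : Subgroup G) ≤ Q := h.trans hDQ
      have h2 : (Q : Subgroup G) = P := P.is_maximal' Q.2 h1
      exact hPQ (Sylow.ext h2.symm)
    obtain ⟨y, hyN, hyD⟩ := SetLike.exists_of_lt (hnc _ hlt)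
    refine ⟨(y : G), y.2, ?_, ?_⟩
    · intro h
      apply hyD
      rw [Subgroup.mem_subgroupOf]; exact h
    · rw [Subgroup.mem_normalizer_iff] at hyN ⊢
      intro d
      constructor
      · intro hd
        have h1 := (hyN ⟨d, hDP hd⟩).mp (by rw [Subgroup.mem_subgroupOf]; exact hd)
        rw [Subgroup.mem_subgroupOf] at h1
        simpa using h1
      · intro hd
        have hdP : d ∈ (P : Subgroup G) := by
          have h1 := hDP hd
          have h2 := (P : Subgroup G).mul_mem ((P : Subgroup G).mul_mem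
            ((P : Subgroup G).inv_mem y.2) h1) y.2
          have e : (y : G)⁻¹ * ((y : G) * d * (y : G)⁻¹) * (y : G) = d := by group
          rwa [e] at h2
        have h1 := (hyN ⟨d, hdP⟩).mpr (by
          rw [Subgroup.mem_subgroupOf]
          simpa using hd)
        rw [Subgroup.mem_subgroupOf] at h1
        exact h1
  obtain ⟨T, hT⟩ : ∃ T, T = (P : Subgroup G) ⊓ Subgroup.normalizer (D : Set G) := ⟨_, rfl⟩
  have hTP : T ≤ P := hT ▸ inf_le_left
  have hTN : T ≤ Subgroup.normalizer (D : Set G) := hT ▸ inf_le_right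
  have hDT : D < T := by
    refine lt_of_le_of_ne ?_ ?_
    · rw [hT]; exact le_inf hDP Subgroup.le_normalizer
    · intro h
      apply hxD
      rw [h, hT]
      exact ⟨hxP, hxN⟩
  have hTp : IsPGroup p T := P.2.to_le hTP
  -- the centralizer of D is a p-group
  obtain ⟨d, hdD, hd1⟩ : ∃ d ∈ D, d ≠ 1 := by
    by_contra hcon
    push Not at hcon
    apply hne
    rw [eq_bot_iff]
    intro y hy
    rw [Subgroup.mem_bot]
    exact hcon y hy
  have hdp : ∃ k : ℕ, d ^ p ^ k = 1 := by
    obtain ⟨k, hk⟩ := P.2 ⟨d, hDP hdD⟩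
    exact ⟨k, by simpa using congrArg Subtype.val hk⟩
  have hCp : IsPGroup p (Subgroup.centralizer (D : Set G)) := by
    have h1 : Subgroup.centralizer (D : Set G) ≤ Subgroup.centralizer ({d} : Set G) :=
      Subgroup.centralizer_le (by simpa using hdD)
    exact (hiso d hd1 hdp).to_le h1
  have hTC : IsPGroup p (T ⊔ Subgroup.centralizer (D : Set G) : Subgroup G) :=
    IsPGroup.to_sup_of_normal_right' hTp hCp (hTN.trans (normalizer_le_normalizer_centralizer' D))
  obtain ⟨P₃, hP₃⟩ := hTC.exists_le_sylow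
  have hP₃P : P₃ = P := by
    by_contra hne3
    have hbad : (P₃ : Subgroup G) ⊓ P ≠ ⊥ := by
      intro h
      apply hd1
      have : d ∈ (P₃ : Subgroup G) ⊓ P := ⟨hP₃ (Subgroup.mem_sup_left (hDT.le hdD)), hDP hdD⟩
      rw [h, Subgroup.mem_bot] at this
      exact this
    have h1 := hmax ⟨(P₃, P), hne3, hbad⟩
    simp only at h1
    have h2 : T ≤ (P₃ : Subgroup G) ⊓ P := le_inf (le_sup_left.trans hP₃) hTP
    have h3 := Subgroup.card_le_of_le h2
    have h4 := card_lt_of_lt' hDT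
    rw [← hD] at h1
    omega
  have hCP : Subgroup.centralizer (D : Set G) ≤ P := by
    rw [← hP₃P]; exact le_sup_right.trans hP₃
  -- conjugating element
  obtain ⟨g, hg⟩ := MulAction.exists_smul_eq G P Q
  have hAg : ∀ a ∈ (D : Set G), g⁻¹ * a * g ∈ (P : Subgroup G) := by
    intro a ha
    have h1 : a ∈ ((g • P : Sylow p G) : Subgroup G) := by rw [hg]; exact hDQ ha
    rw [Sylow.coe_subgroup_smul, Subgroup.mem_pointwise_smul_iff_inv_smul_mem] at h1
    simpa [MulAut.smul_def] using h1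
  obtain ⟨n, hn, hna⟩ := mc.fusion p hiso P hPbot (D : Set G) hDP g hAg
  have hc : g * n⁻¹ ∈ Subgroup.centralizer (D : Set G) := by
    rw [Subgroup.mem_centralizer_iff]
    intro a ha
    have h1 := hna a ha
    -- n⁻¹ a n = g⁻¹ a g
    have e1 : a * (g * n⁻¹) = g * (g⁻¹ * a * g) * n⁻¹ := by group
    have e2 : g * n⁻¹ * a = g * (n⁻¹ * a * n) * n⁻¹ := by group
    rw [e1, e2, h1]
  have hcP := hCP hc
  have h1 : (g * n⁻¹) • P = P :=
    Sylow.smul_eq_iff_mem_normalizer.mpr (Subgroup.le_normalizer hcP)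
  have h2 : n • P = P := Sylow.smul_eq_iff_mem_normalizer.mpr hn
  have h3 : g • P = P := by
    have e : g = (g * n⁻¹) * n := by group
    rw [e, mul_smul, h2, h1]
  exact hPQ (h3.symm.trans hg)

end Cfsg.Agent.Lib.Helper3.FHT
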