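import Mathlib
import Cfsg.Agent.Lib.Helper3.FHT3
import Cfsg.Agent.S1477

set_option autoImplicit false

/-!
# FHT (odd CN-groups), part 4: maximal nilpotent subgroups in the minimal counterexample
-/

namespace Cfsg.Agent.Lib.Helper3.FHT

open Cfsg
open scoped commutatorElement Pointwise

universe u

variable {G : Type u} [Group G]

/-- A maximal nilpotent subgroup. -/
def IsMaxNil (H : Subgroup G) : Prop :=
  Group.IsNilpotent H ∧ ∀ L : Subgroup G, Group.IsNilpotent L → H ≤ L → L = H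

theorem map_conj_map_conj_inv (g : G) (L : Subgroup G) :
    (L.map (MulAut.conj g⁻¹).toMonoidHom).map (MulAut.conj g).toMonoidHom = L := by
  rw [Subgroup.map_map]
  have : (MulAut.conj g).toMonoidHom.comp (MulAut.conj g⁻¹).toMonoidHom = MonoidHom.id G := by
    ext x
    simp only [MonoidHom.coe_comp, MulEquiv.coe_toMonoidHom, Function.comp_apply,
      MulAut.conj_apply, MonoidHom.id_apply]
    group
  rw [this, Subgroup.map_id]

theorem map_conj_inv_map_conj (g : G) (L : Subgroup G) :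
    (L.map (MulAut.conj g).toMonoidHom).map (MulAut.conj g⁻¹).toMonoidHom = L := by
  have := map_conj_map_conj_inv g⁻¹ L
  rwa [inv_inv] at this

theorem isNilpotent_map_conj (g : G) (L : Subgroup G) (hL : Group.IsNilpotent L) :
    Group.IsNilpotent (L.map (MulAut.conj g).toMonoidHom) :=
  (Group.isNilpotent_congr
    (L.equivMapOfInjective (MulAut.conj g).toMonoidHom (MulAut.conj g).injective)).mp hL

theorem IsMaxNil.conj {H : Subgroup G} (hH : IsMaxNil H) (g : G) :
    IsMaxNil (H.map (MulAut.conj g).toMonoidHom) := by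
  refine ⟨isNilpotent_map_conj g H hH.1, ?_⟩
  intro L hL hle
  have h1 : H ≤ L.map (MulAut.conj g⁻¹).toMonoidHom := by
    have := Subgroup.map_mono (f := (MulAut.conj g⁻¹).toMonoidHom) hle
    rwa [map_conj_inv_map_conj] at this
  have h2 := hH.2 _ (isNilpotent_map_conj g⁻¹ L hL) h1
  rw [← h2, map_conj_map_conj_inv]

theorem mem_map_conj_iff {g x : G} {H : Subgroup G} :
    x ∈ H.map (MulAut.conj g).toMonoidHom ↔ g⁻¹ * x * g ∈ H := by
  rw [Subgroup.mem_map]
  constructor
  · rintro ⟨y, hy, rfl⟩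
    simp only [MulEquiv.coe_toMonoidHom, MulAut.conj_apply]
    have e : g⁻¹ * (g * y * g⁻¹) * g = y := by group
    rwa [e]
  · intro h
    refine ⟨_, h, ?_⟩
    simp only [MulEquiv.coe_toMonoidHom, MulAut.conj_apply]
    group

theorem sylow_smul_eq_map {p : ℕ} (g : G) (P : Sylow p G) :
    ((g • P : Sylow p G) : Subgroup G) = (P : Subgroup G).map (MulAut.conj g).toMonoidHom := by
  ext x
  rw [Sylow.coe_subgroup_smul, Subgroup.mem_pointwise_smul_iff_inv_smul_mem, mem_map_conj_iff]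
  simp [MulAut.smul_def]

variable [Finite G]

theorem exists_isMaxNil_ge (A : Subgroup G) (hA : Group.IsNilpotent A) :
    ∃ H : Subgroup G, IsMaxNil H ∧ A ≤ H := by
  obtain ⟨H, ⟨hAH, hHn⟩, hmax⟩ := (wellFounded_gt (α := Subgroup G)).has_min
    {K : Subgroup G | A ≤ K ∧ Group.IsNilpotent K} ⟨A, le_rfl, hA⟩
  refine ⟨H, ⟨hHn, ?_⟩, hAH⟩
  intro L hL hHL
  by_contra hne
  exact hmax L ⟨hAH.trans hHL, hL⟩ (lt_of_le_of_ne hHL (Ne.symm hne))

/-- If all Sylow `p`-subgroups are maximal nilpotent subgroups of a CN-group then `p` is isolated. -/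
theorem iso_of_sylow_isMaxNil (hCN : IsCNGroup G) (p : ℕ) [hp : Fact p.Prime]
    (hall : ∀ P : Sylow p G, IsMaxNil (P : Subgroup G)) : Iso p G := by
  intro x hx1 ⟨k, hk⟩
  have hxp : IsPGroup p (Subgroup.zpowers x) := by
    rintro ⟨y, hy⟩
    obtain ⟨i, rfl⟩ := Subgroup.mem_zpowers_iff.mp hy
    refine ⟨k, ?_⟩
    apply Subtype.ext
    simp only [Subgroup.coe_pow, Subgroup.coe_one]
    rw [← zpow_natCast, ← zpow_mul, mul_comm, zpow_mul, zpow_natCast, hk, one_zpow]
  obtain ⟨P, hP⟩ := hxp.exists_le_sylow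
  have hxP : x ∈ (P : Subgroup G) := hP (Subgroup.mem_zpowers x)
  have hP1 : (P : Subgroup G) ≠ ⊥ := by
    intro h
    rw [h, Subgroup.mem_bot] at hxP
    exact hx1 hxP
  obtain ⟨z, hzP, hz1, hzc⟩ := Cfsg.Agent.Lib.Lead.CNSolv.exists_central p (P : Subgroup G) P.2 hP1
  -- C(z) = P
  have hCz : Subgroup.centralizer ({z} : Set G) = P := by
    apply (hall P).2 _ (hCN z hz1)
    intro f hf
    rw [Subgroup.mem_centralizer_iff]
    intro t ht
    rw [Set.mem_singleton_iff] at ht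
    subst ht
    exact (hzc f hf).symm
  have hzx : z ∈ Subgroup.centralizer ({x} : Set G) := by
    rw [Subgroup.mem_centralizer_iff]
    intro t ht
    rw [Set.mem_singleton_iff] at ht
    subst ht
    exact hzc t hxP
  obtain ⟨kz, hkz⟩ : ∃ kz : ℕ, z ^ p ^ kz = 1 := by
    obtain ⟨j, hj⟩ := P.2 ⟨z, hzP⟩
    exact ⟨j, by simpa using congrArg Subtype.val hj⟩
  rintro ⟨v, hv⟩
  obtain ⟨s, t, hs, ht, hvst, ⟨j, hsj⟩, htp⟩ :=
    Cfsg.Agent.Lib.Lead.NilpotentSub.exists_decomp p v (orderOf_pos v)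
  have hzp : Subgroup.zpowers v ≤ Subgroup.centralizer ({x} : Set G) :=
    Subgroup.zpowers_le.mpr hv
  have htx : t ∈ Subgroup.centralizer ({x} : Set G) := hzp ht
  have hcop : (orderOf t).Coprime (orderOf z) := by
    have h1 : orderOf z ∣ p ^ kz := orderOf_dvd_of_pow_eq_one hkz
    exact Nat.Coprime.coprime_dvd_right h1 (Nat.Coprime.pow_right kz htp)
  have htz : t * z = z * t :=
    Cfsg.Agent.Lib.Lead.NilpotentCoprime.commute_of_coprime_of_mem _ (hCN x hx1) htx hzx hcop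
  have htP : t ∈ (P : Subgroup G) := by
    rw [← hCz, Subgroup.mem_centralizer_iff]
    intro w hw
    rw [Set.mem_singleton_iff] at hw
    subst hw
    exact htz.symm
  have ht1 : t = 1 := by
    obtain ⟨i, hi⟩ := P.2 ⟨t, htP⟩
    have hi' : t ^ p ^ i = 1 := by simpa using congrArg Subtype.val hi
    have h1 : orderOf t ∣ p ^ i := orderOf_dvd_of_pow_eq_one hi'
    have h2 : (orderOf t).Coprime (orderOf t) :=
      Nat.Coprime.coprime_dvd_right h1 (Nat.Coprime.pow_right i htp)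
    rw [Nat.coprime_self] at h2
    exact orderOf_eq_one_iff.mp h2
  refine ⟨j, ?_⟩
  apply Subtype.ext
  simp only [Subgroup.coe_pow, Subgroup.coe_one]
  rw [hvst, ht1, mul_one]
  exact hsj

/-- In the minimal counterexample, maximal nilpotent subgroups are TI. -/
theorem MC.ti (mc : MC G) {H : Subgroup G} (hH : IsMaxNil H) (g : G)
    (hg : H.map (MulAut.conj g).toMonoidHom ≠ H) : H ⊓ H.map (MulAut.conj g).toMonoidHom = ⊥ := by
  have h1477 := Cfsg.Agent.S1477.result mc.cn H hH.1 hH.2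
  by_cases hc1 : Nat.card H = 1
  · rw [Subgroup.card_eq_one.mp hc1]; exact bot_inf_eq _
  by_cases hpp : IsPrimePow (Nat.card H)
  · rw [isPrimePow_nat_iff] at hpp
    obtain ⟨p, k, hp, hk, hpk⟩ := hpp
    have : Fact p.Prime := ⟨hp⟩
    have hHp : IsPGroup p H := IsPGroup.of_card hpk.symm
    obtain ⟨P, hP⟩ := hHp.exists_le_sylow
    have hPH : (P : Subgroup G) = H := hH.2 _ P.2.isNilpotent hP
    have hall : ∀ P' : Sylow p G, IsMaxNil (P' : Subgroup G) := by
      intro P'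
      obtain ⟨a, ha⟩ := MulAction.exists_smul_eq G P P'
      rw [← ha, sylow_smul_eq_map, hPH]
      exact hH.conj a
    have hiso := iso_of_sylow_isMaxNil mc.cn p hall
    have hne : g • P ≠ P := by
      intro h
      apply hg
      rw [← hPH, ← sylow_smul_eq_map, h]
    have := mc.sylow_ti p hiso P (g • P) (Ne.symm hne)
    rw [sylow_smul_eq_map, hPH] at this
    exact this
  · exact h1477.2.1 hpp hc1 g hg

theorem MC.cent_le (mc : MC G) {H : Subgroup G} (hH : IsMaxNil H) {x : G} (hx : x ∈ H)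
    (hx1 : x ≠ 1) : Subgroup.centralizer ({x} : Set G) ≤ H :=
  (Cfsg.Agent.S1477.result mc.cn H hH.1 hH.2).2.2 (fun g hg => mc.ti hH g hg) x hx hx1

/-- In the minimal counterexample, the maximal nilpotent subgroups partition the nonidentity
elements. -/
theorem MC.eq_of_mem (mc : MC G) {H₁ H₂ : Subgroup G} (h₁ : IsMaxNil H₁) (h₂ : IsMaxNil H₂) {x : G}
    (hx₁ : x ∈ H₁) (hx₂ : x ∈ H₂) (hx1 : x ≠ 1) : H₁ = H₂ := by
  have hc1 : Nat.card H₁ ≠ 1 := by
    intro h
    rw [Subgroup.card_eq_one.mp h, Subgroup.mem_bot] at hx₁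
    exact hx1 hx₁
  have : Fact (Nat.card H₁).minFac.Prime := ⟨Nat.minFac_prime hc1⟩
  obtain ⟨z, -, hz1, hzc⟩ := Cfsg.Agent.Lib.Lead.NilpotentSub.exists_central_of_dvd H₁ h₁.1
    (Nat.card H₁).minFac (Nat.minFac_dvd _)
  -- z ∈ H₁ : it lies in sylowOf ≤ H₁
  have hzx : z ∈ Subgroup.centralizer ({x} : Set G) := by
    rw [Subgroup.mem_centralizer_iff]
    intro t ht
    rw [Set.mem_singleton_iff] at ht
    subst ht
    exact hzc t hx₁
  have hz₂ : z ∈ H₂ := mc.cent_le h₂ hx₂ hx1 hzx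
  have hle : H₁ ≤ H₂ := by
    refine le_trans ?_ (mc.cent_le h₂ hz₂ hz1)
    intro m hm
    rw [Subgroup.mem_centralizer_iff]
    intro t ht
    rw [Set.mem_singleton_iff] at ht
    subst ht
    exact (hzc m hm).symm
  exact (h₁.2 H₂ h₂.1 hle).symm

end Cfsg.Agent.Lib.Helper3.FHT
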