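import Mathlib
import Cfsg.Agent.Lib.Helper3.FHT4
import Cfsg.Agent.Lib.Helper1.FrobeniusTheorem
import Cfsg.Agent.S1526
import Cfsg.Agent.S1473

set_option autoImplicit false

/-!
# FHT (odd CN-groups), part 5: the final contradiction
-/

namespace Cfsg.Agent.Lib.Helper3.FHT

open Cfsg
open scoped commutatorElement Pointwise

universe u

variable {G : Type u} [Group G] [Finite G]

/-- A maximal nilpotent subgroup of order divisible by `p` contains a Sylow `p`-subgroup. -/
theorem MC.sylow_le (mc : MC G) {H : Subgroup G} (hH : IsMaxNil H) (p : ℕ) [hp : Fact p.Prime]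
    (hpH : p ∣ Nat.card H) : ∃ P : Sylow p G, (P : Subgroup G) ≤ H ∧ (P : Subgroup G) ≠ ⊥ := by
  obtain ⟨x, hx⟩ := exists_prime_orderOf_dvd_card' p hpH
  have hx1 : (x : G) ≠ 1 := by
    intro h
    have : x = 1 := Subtype.ext h
    rw [this, orderOf_one] at hx
    exact hp.out.one_lt.ne hx
  have hxp : IsPGroup p (Subgroup.zpowers (x : G)) := by
    apply IsPGroup.of_card (n := 1)
    rw [Nat.card_zpowers, Subgroup.orderOf_coe, hx, pow_one]
  obtain ⟨P, hP⟩ := hxp.exists_le_sylow
  have hxP : (x : G) ∈ (P : Subgroup G) := hP (Subgroup.mem_zpowers _)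
  have hP1 : (P : Subgroup G) ≠ ⊥ := by
    intro h
    rw [h, Subgroup.mem_bot] at hxP
    exact hx1 hxP
  obtain ⟨z, hzP, hz1, hzc⟩ := Cfsg.Agent.Lib.Lead.CNSolv.exists_central p (P : Subgroup G) P.2 hP1
  have hzx : z ∈ Subgroup.centralizer ({(x : G)} : Set G) := by
    rw [Subgroup.mem_centralizer_iff]
    intro t ht
    rw [Set.mem_singleton_iff] at ht
    subst ht
    exact hzc _ hxP
  have hzH : z ∈ H := mc.cent_le hH x.2 hx1 hzx
  refine ⟨P, ?_, hP1⟩
  refine le_trans ?_ (mc.cent_le hH hzH hz1)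
  intro f hf
  rw [Subgroup.mem_centralizer_iff]
  intro t ht
  rw [Set.mem_singleton_iff] at ht
  subst ht
  exact (hzc f hf).symm

theorem MC.conj_of_common_prime (mc : MC G) {H₁ H₂ : Subgroup G} (h₁ : IsMaxNil H₁)
    (h₂ : IsMaxNil H₂) (p : ℕ) [hp : Fact p.Prime] (hp₁ : p ∣ Nat.card H₁) (hp₂ : p ∣ Nat.card H₂) :
    ∃ g : G, H₁.map (MulAut.conj g).toMonoidHom = H₂ := by
  obtain ⟨P₁, hP₁, -⟩ := mc.sylow_le h₁ p hp₁
  obtain ⟨P₂, hP₂, hP₂1⟩ := mc.sylow_le h₂ p hp₂
  obtain ⟨g, hg⟩ := MulAction.exists_smul_eq G P₁ P₂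
  refine ⟨g, ?_⟩
  obtain ⟨y, hy, hy1⟩ : ∃ y ∈ (P₂ : Subgroup G), y ≠ 1 := by
    by_contra hcon
    push Not at hcon
    apply hP₂1
    rw [eq_bot_iff]
    intro y hy
    rw [Subgroup.mem_bot]
    exact hcon y hy
  have hy₁ : y ∈ H₁.map (MulAut.conj g).toMonoidHom := by
    have h1 : y ∈ ((g • P₁ : Sylow p G) : Subgroup G) := by rw [hg]; exact hy
    rw [sylow_smul_eq_map] at h1
    exact Subgroup.map_mono hP₁ h1
  exact mc.eq_of_mem (h₁.conj g) h₂ hy₁ (hP₂ hy) hy1

theorem mem_normalizer_of_map_conj_eq' {H : Subgroup G} {g : G}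
    (h : H.map (MulAut.conj g).toMonoidHom = H) : g ∈ Subgroup.normalizer (H : Set G) := by
  rw [Subgroup.mem_normalizer_iff]
  intro x
  constructor
  · intro hx
    rw [← h]
    exact ⟨x, hx, by simp [MulAut.conj_apply]⟩
  · intro hx
    rw [← h, mem_map_conj_iff] at hx
    have e : g⁻¹ * (g * x * g⁻¹) * g = x := by group
    rwa [e] at hx

theorem MC.not_nilpotent_top (mc : MC G) {H : Subgroup G} (hH : IsMaxNil H) : H ≠ ⊤ := by
  intro h
  apply mc.ns
  have h1 : Group.IsNilpotent (⊤ : Subgroup G) := h ▸ hH.1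
  haveI := Group.isNilpotent_top.mp h1
  infer_instance

/-- A nontrivial maximal nilpotent subgroup is properly contained in its normalizer. -/
theorem MC.lt_normalizer (mc : MC G) {H : Subgroup G} (hH : IsMaxNil H) (hH1 : H ≠ ⊥) :
    H < Subgroup.normalizer (H : Set G) := by
  refine lt_of_le_of_ne Subgroup.le_normalizer ?_
  intro heq
  have hfrob : IsFrobeniusComplement H := by
    refine ⟨hH1, mc.not_nilpotent_top hH, ?_⟩
    intro g hg
    have e : MulAut.conj g • H = H.map (MulAut.conj g).toMonoidHom := by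
      ext x
      rw [Subgroup.mem_pointwise_smul_iff_inv_smul_mem, mem_map_conj_iff]
      simp [MulAut.smul_def]
    rw [e]
    apply mc.ti hH
    intro h
    apply hg
    rw [heq]
    exact mem_normalizer_of_map_conj_eq' h
  obtain ⟨N, -, hNn, hcompl⟩ := Cfsg.Agent.Lib.Helper1.frobenius_theorem H hfrob
  have hcard := hcompl.card_mul_card
  have hNtop : N ≠ ⊤ := by
    intro h
    rw [h, Subgroup.card_top] at hcard
    have h1 : Nat.card H = 1 := by
      have hpos : 0 < Nat.card G := Nat.card_pos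
      nlinarith [Nat.eq_of_mul_eq_mul_left hpos (by rw [hcard, mul_one] : Nat.card G * Nat.card H = Nat.card G * 1)]
    exact hH1 (Subgroup.card_eq_one.mp h1)
  have hNbot : N = ⊥ := mc.nsn N hNn (mc.sub N hNtop)
  rw [hNbot, Subgroup.card_bot, one_mul] at hcard
  exact mc.not_nilpotent_top hH (Subgroup.eq_top_of_card_eq H hcard)

/-- The minimal counterexample does not exist. -/
theorem MC.false (mc : MC G) : False := by
  classical
  obtain ⟨S, hSdef⟩ : ∃ S : Set ℕ,
      S = {n | ∃ H : Subgroup G, IsMaxNil H ∧ H ≠ ⊥ ∧ Nat.card H = n} := ⟨_, rfl⟩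
  have hSmem : ∀ n, n ∈ S ↔ ∃ H : Subgroup G, IsMaxNil H ∧ H ≠ ⊥ ∧ Nat.card H = n := by
    intro n; rw [hSdef]; rfl
  have hSfin : S.Finite := by
    apply (Set.finite_Iic (Nat.card G)).subset
    intro n hn
    obtain ⟨H, -, -, rfl⟩ := (hSmem n).mp hn
    exact Subgroup.card_le_card_group H
  haveI : Fintype S := hSfin.fintype
  have hex : ∀ i : S, ∃ H : Subgroup G, IsMaxNil H ∧ H ≠ ⊥ ∧ Nat.card H = (i : ℕ) :=
    fun i => (hSmem i).mp i.2
  choose Hs hHs using hex
  -- Sylow subgroups lie in maximal nilpotent subgroups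
  have hsyl : ∀ (q : ℕ) [Fact q.Prime], q ∣ Nat.card G →
      ∃ H : Subgroup G, IsMaxNil H ∧ H ≠ ⊥ ∧ q ∣ Nat.card H := by
    intro q hq hqG
    obtain ⟨H, hH, hQH⟩ := exists_isMaxNil_ge ((default : Sylow q G) : Subgroup G)
      (default : Sylow q G).2.isNilpotent
    have hQ1 : ((default : Sylow q G) : Subgroup G) ≠ ⊥ := Sylow.ne_bot_of_dvd_card _ hqG
    refine ⟨H, hH, ?_, ?_⟩
    · intro h
      apply hQ1
      rw [eq_bot_iff, ← h]; exact hQH
    · have h1 : q ∣ Nat.card ((default : Sylow q G) : Subgroup G) := by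
        rcases (default : Sylow q G).2.card_eq_or_dvd with h | h
        · exact absurd (Subgroup.card_eq_one.mp h) hQ1
        · exact h
      exact h1.trans (Subgroup.card_dvd_of_le hQH)
  refine Cfsg.Agent.S1526.result mc.odd (ι := S) ?_
    (fun i => Subgroup.normalizer ((Hs i : Subgroup G) : Set G)) Hs ?_ ?_ ?_ ?_ ?_ ?_ ?_
  · -- two classes
    have hG1 : Nat.card G ≠ 1 := by
      intro h
      apply mc.ns
      haveI : Subsingleton G := (Nat.card_eq_one_iff_unique.mp h).1
      infer_instance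
    haveI : Fact (Nat.card G).minFac.Prime := ⟨Nat.minFac_prime hG1⟩
    obtain ⟨H₁, hH₁, hH₁1, -⟩ := hsyl (Nat.card G).minFac (Nat.minFac_dvd _)
    have hHall := (Cfsg.Agent.S1477.result mc.cn H₁ hH₁.1 hH₁.2).1
    have hidx : H₁.index ≠ 1 := by
      rw [Ne, Subgroup.index_eq_one]
      exact mc.not_nilpotent_top hH₁
    haveI : Fact H₁.index.minFac.Prime := ⟨Nat.minFac_prime hidx⟩
    have hq1 : H₁.index.minFac ∣ H₁.index := Nat.minFac_dvd _
    obtain ⟨H₂, hH₂, hH₂1, hq2⟩ := hsyl H₁.index.minFac (hq1.trans (Subgroup.index_dvd_card H₁))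
    have hne : Nat.card H₁ ≠ Nat.card H₂ := by
      intro h
      rw [← h] at hq2
      have h3 : H₁.index.minFac ∣ Nat.gcd (Nat.card H₁) H₁.index := Nat.dvd_gcd hq2 hq1
      rw [hHall.gcd_eq_one] at h3
      exact (Nat.minFac_prime hidx).one_lt.ne' (Nat.dvd_one.mp h3)
    have hcard : 1 < Fintype.card S := by
      rw [Fintype.one_lt_card_iff]
      refine ⟨⟨Nat.card H₁, (hSmem _).mpr ⟨H₁, hH₁, hH₁1, rfl⟩⟩,
        ⟨Nat.card H₂, (hSmem _).mpr ⟨H₂, hH₂, hH₂1, rfl⟩⟩, ?_⟩
      intro h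
      exact hne (congrArg Subtype.val h)
    exact hcard
  · intro i
    exact mc.lt_normalizer (hHs i).1 (hHs i).2.1
  · intro i
    exact (hHs i).2.1
  · intro i x hx h hh
    exact (Subgroup.mem_normalizer_iff.mp hx h).mp hh
  · intro i h hh hh1
    exact inf_le_right.trans (mc.cent_le (hHs i).1 hh hh1)
  · intro i j hij
    by_contra hnc
    obtain ⟨p, hp, hpi, hpj⟩ := Nat.Prime.not_coprime_iff_dvd.mp hnc
    haveI : Fact p.Prime := ⟨hp⟩
    obtain ⟨g, hg⟩ := mc.conj_of_common_prime (hHs i).1 (hHs j).1 p hpi hpj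
    apply hij
    apply Subtype.ext
    rw [← (hHs i).2.2, ← (hHs j).2.2, ← hg]
    exact (Subgroup.card_map_of_injective (MulAut.conj g).injective).symm
  · intro i
    refine ⟨?_, rfl⟩
    intro g hg x hx hgx
    by_contra hx1
    apply hg
    apply mem_normalizer_of_map_conj_eq'
    have hy1 : g * x * g⁻¹ ≠ 1 := by
      intro h
      apply hx1
      have : x = g⁻¹ * (g * x * g⁻¹) * g := by group
      rw [this, h]; group
    have hy2 : g * x * g⁻¹ ∈ (Hs i).map (MulAut.conj g).toMonoidHom := by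
      rw [mem_map_conj_iff]
      have e : g⁻¹ * (g * x * g⁻¹) * g = x := by group
      rw [e]; exact hx
    exact mc.eq_of_mem ((hHs i).1.conj g) (hHs i).1 hy2 hgx hy1
  · intro g hg1
    have hnil : Group.IsNilpotent (Subgroup.zpowers g) := by
      apply Cfsg.Agent.Lib.Lead.FittingHall.isNilpotent_of_le _ (mc.cn g hg1)
      rw [Subgroup.zpowers_le, Subgroup.mem_centralizer_iff]
      intro t ht
      rw [Set.mem_singleton_iff] at ht
      rw [ht]
    obtain ⟨H', hH', hgH'⟩ := exists_isMaxNil_ge _ hnil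
    have hgH : g ∈ H' := hgH' (Subgroup.mem_zpowers g)
    have hH'1 : H' ≠ ⊥ := by
      intro h
      rw [h, Subgroup.mem_bot] at hgH
      exact hg1 hgH
    have hc1 : Nat.card H' ≠ 1 := fun h => hH'1 (Subgroup.card_eq_one.mp h)
    obtain ⟨i, hi⟩ : ∃ i : S, (i : ℕ) = Nat.card H' :=
      ⟨⟨Nat.card H', (hSmem _).mpr ⟨H', hH', hH'1, rfl⟩⟩, rfl⟩
    haveI : Fact (Nat.card H').minFac.Prime := ⟨Nat.minFac_prime hc1⟩
    have hp1 : (Nat.card H').minFac ∣ Nat.card H' := Nat.minFac_dvd _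
    have hp2 : (Nat.card H').minFac ∣ Nat.card (Hs i) := by
      rw [(hHs i).2.2, hi]; exact hp1
    obtain ⟨a, ha⟩ := mc.conj_of_common_prime hH' (hHs i).1 _ hp1 hp2
    refine ⟨i, a, ?_⟩
    rw [← ha]
    exact ⟨g, hgH, by simp [MulAut.conj_apply]⟩

/-- The CN-theorem for odd order. -/
theorem main (n : ℕ) : ∀ (G : Type u) [Group G] [Finite G], Nat.card G = n → Odd n →
    IsCNGroup G → Group.IsSolvable G := by
  induction n using Nat.strong_induction_on with
  | _ n ih =>
  intro G _ _ hcard hodd hCN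
  by_contra hns
  have mc : MC G :=
    { odd := hcard ▸ hodd
      cn := hCN
      ns := hns
      sub := by
        intro K hK
        have hlt : Nat.card K < n := by
          have := card_lt_of_lt' (lt_top_iff_ne_top.mpr hK)
          rwa [Subgroup.card_top, hcard] at this
        have hoddK : Odd (Nat.card K) :=
          Odd.of_dvd_nat (hcard ▸ hodd) (Subgroup.card_subgroup_dvd_card K)
        exact ih _ hlt K rfl hoddK (isCN_subgroup hCN K)
      nsn := by
        intro N hNn hNs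
        by_contra hN1
        haveI := hNn
        have h1 : Nat.card G = Nat.card (G ⧸ N) * Nat.card N :=
          Subgroup.card_eq_card_quotient_mul_card_subgroup N
        have h2 : 1 < Nat.card N := by
          rw [Subgroup.one_lt_card_iff_ne_bot]; exact hN1
        have h3 : 0 < Nat.card (G ⧸ N) := Nat.card_pos
        have hlt : Nat.card (G ⧸ N) < n := by
          rw [← hcard, h1]; nlinarith
        have hoddQ : Odd (Nat.card (G ⧸ N)) :=
          Odd.of_dvd_nat (hcard ▸ hodd) (Subgroup.card_quotient_dvd_card N)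
        haveI := ih _ hlt (G ⧸ N) rfl hoddQ (Cfsg.Agent.S1473.result hCN N hNs)
        haveI := hNs
        apply hns
        exact solvable_of_ker_le_range N.subtype (QuotientGroup.mk' N) (by simp) }
  exact mc.false

end Cfsg.Agent.Lib.Helper3.FHT
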