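import Mathlib
import Cfsg.Agent.Lib.Helper5.F4T.Ident
import Cfsg.Agent.Lib.Helper5.F4T.Tau

set_option autoImplicit false
set_option maxHeartbeats 4000000

/-!
# Farm F4CENT (S2179), units FA1 / FA2, the symbolic check : the Borel subgroup normalises the families
`∏_{s ∈ T} x_s(t_s)`, `T = [44, 47]` resp. `T = [39, 40, 44, 45, 46, 47]`, and does not kill the
core coordinates (`44, 47` resp. `39, 45`).
-/

namespace Cfsg.Agent.Lib.Helper3.F4Cent

open Cfsg Cfsg.Lie Cfsg.Agent.Lib.Helper5.ChevSym Cfsg.Agent.Lib.Helper5.ChevSymP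
  Cfsg.Agent.Lib.Helper5.ChevStruct Cfsg.Agent.Lib.Helper5.F4T

def T1 : List ℕ := [44, 47]

def T2 : List ℕ := [39, 40, 44, 45, 46, 47]

/-- the positive roots of `F₄` -/
def posL : List ℕ := List.range' 24 24

theorem h3_posL_spec : ∀ r < 48, chevF4.IsPosRoot r → r ∈ posL := by decide +kernel

theorem h3_posL_lt : ∀ r ∈ posL, r < 48 := by decide

-- variables: a = 0, t39 = 1, t40 = 2, t44 = 3, t45 = 4, t46 = 5, t47 = 6
def vA : PolyP := [([1], 1)]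
def v39 : PolyP := [([0, 1], 1)]
def v40 : PolyP := [([0, 0, 1], 1)]
def v44 : PolyP := [([0, 0, 0, 1], 1)]
def v45 : PolyP := [([0, 0, 0, 0, 1], 1)]
def v46 : PolyP := [([0, 0, 0, 0, 0, 1], 1)]
def v47 : PolyP := [([0, 0, 0, 0, 0, 0, 1], 1)]
def vA39 : PolyP := [([1, 1], 1)]
def vA40 : PolyP := [([1, 0, 1], 1)]
def vA45 : PolyP := [([1, 0, 0, 0, 1], 1)]
def vA46 : PolyP := [([1, 0, 0, 0, 0, 1], 1)]

def ifP (c : Bool) (p : PolyP) : PolyP := bif c then p else []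

/-- `x_r(a) ∏ x_s(t_s)` -/
def fa1 (r : ℕ) : List (ℕ × PolyP) :=
  [(r, vA), (39, v39), (40, v40), (44, v44), (45, v45), (46, v46), (47, v47)]

/-- `∏ x_s(t'_s) x_r(a)` -/
def fa2 (r : ℕ) : List (ℕ × PolyP) :=
  [(39, v39), (40, v40 ++ ifP (Nat.beq r 27) vA39),
   (44, v44 ++ ifP (Nat.beq r 34) vA39 ++ ifP (Nat.beq r 33) vA40), (45, v45),
   (46, v46 ++ ifP (Nat.beq r 25) vA45),
   (47, v47 ++ ifP (Nat.beq r 26) vA45 ++ ifP (Nat.beq r 24) vA46), (r, vA)]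

set_option maxRecDepth 1000000 in
theorem h3_chk_fa : ∀ r ∈ posL, ∀ col ∈ allCols,
    vecEqP 2 (wordColP chevF4 2 (fa1 r) col) (wordColP chevF4 2 (fa2 r) col) = true := by
  decide +kernel


end Cfsg.Agent.Lib.Helper3.F4Cent
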