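import Mathlib
import Cfsg.Agent.Lib.Helper3.F4CentFAChk
import Cfsg.Agent.Lib.Helper5.ChevXGL
import Cfsg.Agent.Lib.Helper5.ChevTorusAct

set_option autoImplicit false
set_option maxHeartbeats 4000000

/-!
# Farm F4CENT (S2179), units FA1 / FA2 : the Borel subgroup normalises the families
`∏_{s ∈ T} x_s(t_s)`, `T = [44, 47]` resp. `T = [39, 40, 44, 45, 46, 47]`, and does not kill the
core coordinates (`44, 47` resp. `39, 45`).
-/

namespace Cfsg.Agent.Lib.Helper3.F4Cent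

open Cfsg Cfsg.Lie Cfsg.Agent.Lib.Helper5.ChevSym Cfsg.Agent.Lib.Helper5.ChevSymP
  Cfsg.Agent.Lib.Helper5.ChevStruct Cfsg.Agent.Lib.Helper5.F4T

section

variable {F : Type*} [Field F]

theorem h3_eval_ifP (vals : List F) (n m : ℕ) (p : PolyP) :
    evalPolyP vals (ifP (Nat.beq n m) p) = if n = m then evalPolyP vals p else 0 := by
  unfold ifP
  by_cases h : n = m
  · subst h
    rw [Nat.beq_refl, cond_true, if_pos rfl]
  · rw [if_neg h]
    have : Nat.beq n m = false := by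
      cases hb : Nat.beq n m
      · rfl
      · exact absurd (Nat.eq_of_beq_eq_true hb) h
    rw [this, cond_false]
    rfl

/-- the parameters after conjugation by `x_r(a)` -/
def upd (r : ℕ) (a : F) (t : ℕ → F) : ℕ → F := fun s =>
  if s = 40 then t 40 + (if r = 27 then a * t 39 else 0)
  else if s = 44 then t 44 + (if r = 34 then a * t 39 else 0) + (if r = 33 then a * t 40 else 0)
  else if s = 46 then t 46 + (if r = 25 then a * t 45 else 0)
  else if s = 47 then t 47 + (if r = 26 then a * t 45 else 0) + (if r = 24 then a * t 46 else 0)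
  else t s

/-- the product over `T2` -/
def P2 (t : ℕ → F) : GL chevF4.Idx F := (T2.map fun s => xGL chevF4 hF4 s (t s)).prod

/-- the product over `T1` -/
def P1 (t : ℕ → F) : GL chevF4.Idx F := (T1.map fun s => xGL chevF4 hF4 s (t s)).prod

theorem h3_P2_eq (t : ℕ → F) : P2 t = wordGL chevF4 hF4
    [(39, t 39), (40, t 40), (44, t 44), (45, t 45), (46, t 46), (47, t 47)] := by
  simp [P2, T2, wordGL]

/-- the rule for a generator of `U` -/
theorem h3_gen_T2 (hp : ((2 : ℕ) : F) = 0) (r : ℕ) (hr : r ∈ posL) (a : F) (t : ℕ → F) :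
    xGL chevF4 hF4 r a * P2 t = P2 (upd r a t) * xGL chevF4 hF4 r a := by
  have hr48 := h3_posL_lt r hr
  have h := wordMat_eq_of_check hp [a, t 39, t 40, t 44, t 45, t 46, t 47] (fa1 r) (fa2 r) (by
    intro rp hrp
    simp only [fa1, fa2, List.cons_append, List.nil_append, List.mem_cons, List.not_mem_nil,
      or_false] at hrp
    rcases hrp with rfl | rfl | rfl | rfl | rfl | rfl | rfl | rfl | rfl | rfl | rfl | rfl | rfl |
      rfl <;> first | exact hr48 | norm_num) (h3_chk_fa r hr)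
  have e1 : evalWP [a, t 39, t 40, t 44, t 45, t 46, t 47] (fa1 r)
      = [(r, a), (39, t 39), (40, t 40), (44, t 44), (45, t 45), (46, t 46), (47, t 47)] := by
    simp [evalWP, fa1, vA, v39, v40, v44, v45, v46, v47, evalPolyP, evalMonoP, monoVal]
  have q40 : evalPolyP [a, t 39, t 40, t 44, t 45, t 46, t 47] (v40 ++ ifP (Nat.beq r 27) vA39)
      = upd r a t 40 := by
    rw [evalPolyP_append, h3_eval_ifP]
    simp [upd, v40, vA39, evalPolyP, evalMonoP, monoVal]
  have q44 : evalPolyP [a, t 39, t 40, t 44, t 45, t 46, t 47]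
      (v44 ++ ifP (Nat.beq r 34) vA39 ++ ifP (Nat.beq r 33) vA40) = upd r a t 44 := by
    rw [evalPolyP_append, evalPolyP_append, h3_eval_ifP, h3_eval_ifP]
    simp [upd, v44, vA39, vA40, evalPolyP, evalMonoP, monoVal]
  have q46 : evalPolyP [a, t 39, t 40, t 44, t 45, t 46, t 47] (v46 ++ ifP (Nat.beq r 25) vA45)
      = upd r a t 46 := by
    rw [evalPolyP_append, h3_eval_ifP]
    simp [upd, v46, vA45, evalPolyP, evalMonoP, monoVal]
  have q47 : evalPolyP [a, t 39, t 40, t 44, t 45, t 46, t 47]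
      (v47 ++ ifP (Nat.beq r 26) vA45 ++ ifP (Nat.beq r 24) vA46) = upd r a t 47 := by
    rw [evalPolyP_append, evalPolyP_append, h3_eval_ifP, h3_eval_ifP]
    simp [upd, v47, vA45, vA46, evalPolyP, evalMonoP, monoVal]
  have q39 : evalPolyP [a, t 39, t 40, t 44, t 45, t 46, t 47] v39 = upd r a t 39 := by
    simp [upd, v39, evalPolyP, evalMonoP, monoVal]
  have q45 : evalPolyP [a, t 39, t 40, t 44, t 45, t 46, t 47] v45 = upd r a t 45 := by
    simp [upd, v45, evalPolyP, evalMonoP, monoVal]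
  have qA : evalPolyP [a, t 39, t 40, t 44, t 45, t 46, t 47] vA = a := by
    simp [vA, evalPolyP, evalMonoP, monoVal]
  have e2 : evalWP [a, t 39, t 40, t 44, t 45, t 46, t 47] (fa2 r)
      = [(39, upd r a t 39), (40, upd r a t 40), (44, upd r a t 44), (45, upd r a t 45),
         (46, upd r a t 46), (47, upd r a t 47), (r, a)] := by
    simp only [evalWP, fa2, List.map_cons, List.map_nil, q39, q40, q44, q45, q46, q47, qA]
  rw [e1, e2] at h
  apply Units.ext
  have a1 : xGL chevF4 hF4 r a * P2 t = wordGL chevF4 hF4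
      [(r, a), (39, t 39), (40, t 40), (44, t 44), (45, t 45), (46, t 46), (47, t 47)] := by
    rw [h3_P2_eq]
    simp [wordGL]
  have a2 : P2 (upd r a t) * xGL chevF4 hF4 r a = wordGL chevF4 hF4
      [(39, upd r a t 39), (40, upd r a t 40), (44, upd r a t 44), (45, upd r a t 45),
         (46, upd r a t 46), (47, upd r a t 47), (r, a)] := by
    rw [h3_P2_eq]
    simp [wordGL, mul_assoc]
  rw [a1, a2, wordGL_val, wordGL_val]
  exact h

theorem h3_upd_39 (r : ℕ) (a : F) (t : ℕ → F) : upd r a t 39 = t 39 := by simp [upd]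

theorem h3_upd_45 (r : ℕ) (a : F) (t : ℕ → F) : upd r a t 45 = t 45 := by simp [upd]

theorem h3_xGL_inv (r : ℕ) (a : F) : (xGL chevF4 hF4 r a)⁻¹ = xGL chevF4 hF4 r (-a) :=
  Units.ext rfl

/-- conjugation by a generator of `U` -/
theorem h3_gen_conj_T2 (hp : ((2 : ℕ) : F) = 0) (r : ℕ) (hr : r ∈ posL) (a : F) (t : ℕ → F) :
    xGL chevF4 hF4 r a * P2 t * (xGL chevF4 hF4 r a)⁻¹ = P2 (upd r a t) := by
  rw [h3_gen_T2 hp r hr a t, mul_inv_cancel_right]

/-- the property of `g`: it maps the family `P2 t` into itself and fixes the coordinates `39`, `45`,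
and the coordinates `44`, `47` of the members with vanishing `39, 40, 45, 46` coordinates -/
def Stab2 (g : GL chevF4.Idx F) : Prop :=
  ∀ t : ℕ → F, ∃ t' : ℕ → F, t' 39 = t 39 ∧ t' 45 = t 45 ∧
    (t 39 = 0 → t 40 = 0 → t 45 = 0 → t 46 = 0 →
      t' 40 = 0 ∧ t' 46 = 0 ∧ t' 44 = t 44 ∧ t' 47 = t 47) ∧
    g * P2 t * g⁻¹ = P2 t'

theorem h3_stab2_gen (hp : ((2 : ℕ) : F) = 0) (r : ℕ) (hr : r ∈ posL) (a : F) :
    Stab2 (xGL chevF4 hF4 r a) := by
  intro t
  refine ⟨upd r a t, h3_upd_39 r a t, h3_upd_45 r a t, ?_, h3_gen_conj_T2 hp r hr a t⟩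
  intro h39 h40 h45 h46
  simp [upd, h39, h40, h45, h46]

theorem h3_stab2_one : Stab2 (1 : GL chevF4.Idx F) := by
  intro t
  exact ⟨t, rfl, rfl, fun h39 h40 h45 h46 => ⟨h40, h46, rfl, rfl⟩, by simp⟩

theorem h3_stab2_mul (x y : GL chevF4.Idx F) (hx : Stab2 x) (hy : Stab2 y) : Stab2 (x * y) := by
  intro t
  obtain ⟨t1, a1, b1, c1, e1⟩ := hy t
  obtain ⟨t2, a2, b2, c2, e2⟩ := hx t1
  refine ⟨t2, a2.trans a1, b2.trans b1, ?_, ?_⟩
  · intro h39 h40 h45 h46
    obtain ⟨k40, k46, k44, k47⟩ := c1 h39 h40 h45 h46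
    obtain ⟨l40, l46, l44, l47⟩ := c2 (a1.trans h39) k40 (b1.trans h45) k46
    exact ⟨l40, l46, l44.trans k44, l47.trans k47⟩
  · have : x * y * P2 t * (x * y)⁻¹ = x * (y * P2 t * y⁻¹) * x⁻¹ := by group
    rw [this, e1, e2]

/-- `U` normalises the family `P2` -/
theorem h3_stab2_pos (hp : ((2 : ℕ) : F) = 0) (u : GL chevF4.Idx F)
    (hu : u ∈ chevF4.posUnipotent F) : Stab2 u := by
  unfold ChevalleyDatum.posUnipotent at hu
  induction hu using Subgroup.closure_induction'' with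
  | mem x hx =>
    obtain ⟨r, a, hr, hx⟩ := hx
    have : x = xGL chevF4 hF4 r a := Units.ext hx
    rw [this]
    exact h3_stab2_gen hp r (h3_posL_spec r hr.1 hr) a
  | inv_mem x hx =>
    obtain ⟨r, a, hr, hx⟩ := hx
    have : x = xGL chevF4 hF4 r a := Units.ext hx
    rw [this, h3_xGL_inv]
    exact h3_stab2_gen hp r (h3_posL_spec r hr.1 hr) (-a)
  | one => exact h3_stab2_one
  | mul x y _ _ hx hy => exact h3_stab2_mul x y hx hy

/-- conjugation of a product of root elements by an element of `H` -/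
theorem h3_diag_conj_prod (h : GL chevF4.Idx F) (hh : h ∈ chevF4.diagonalSubgroup F) :
    ∃ c : ℕ → F, (∀ s, c s ≠ 0) ∧ ∀ (T : List ℕ) (t : ℕ → F),
      h * (T.map fun s => xGL chevF4 hF4 s (t s)).prod * h⁻¹
        = (T.map fun s => xGL chevF4 hF4 s (c s * t s)).prod := by
  obtain ⟨c, hc, hval⟩ := exists_torusMat_of_mem chevF4 hF4 h hh
  refine ⟨fun s => chi chevF4 c s, fun s => chi_ne_zero chevF4 c hc s, ?_⟩
  intro T t
  induction T with
  | nil => simp
  | cons s T ih =>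
    have e : h * ((s :: T).map fun s => xGL chevF4 hF4 s (t s)).prod * h⁻¹
        = (h * xGL chevF4 hF4 s (t s) * h⁻¹)
          * (h * (T.map fun s => xGL chevF4 hF4 s (t s)).prod * h⁻¹) := by
      rw [List.map_cons, List.prod_cons]
      group
    rw [e, ih, List.map_cons, List.prod_cons]
    congr 1
    apply Units.ext
    rw [torus_conj_x chevF4 hF4 h _ c hc hval s (t s) (xGL_val chevF4 hF4 s (t s)), xGL_val]

/-- Unit FA2 -/
theorem h3_FA2 [CharP F 2] (b : GL chevF4.Idx F) (hb : b ∈ chevF4.borelSubgroup F) (t : ℕ → F)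
    (h39 : t 39 ≠ 0) (h45 : t 45 ≠ 0) :
    ∃ t' : ℕ → F, t' 39 ≠ 0 ∧ t' 45 ≠ 0 ∧
      b * (T2.map fun s => xGL chevF4 hF4 s (t s)).prod * b⁻¹
        = (T2.map fun s => xGL chevF4 hF4 s (t' s)).prod := by
  have hp : ((2 : ℕ) : F) = 0 := CharP.cast_eq_zero F 2
  revert t
  unfold ChevalleyDatum.borelSubgroup at hb
  rw [Subgroup.sup_eq_closure] at hb
  have key : ∀ x : GL chevF4.Idx F,
      x ∈ (chevF4.posUnipotent F : Set (GL chevF4.Idx F)) ∪ chevF4.diagonalSubgroup F →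
      ∀ t : ℕ → F, t 39 ≠ 0 → t 45 ≠ 0 → ∃ t' : ℕ → F, t' 39 ≠ 0 ∧ t' 45 ≠ 0 ∧
        x * (T2.map fun s => xGL chevF4 hF4 s (t s)).prod * x⁻¹
          = (T2.map fun s => xGL chevF4 hF4 s (t' s)).prod := by
    rintro x (hx | hx) t h39 h45
    · obtain ⟨t', a1, b1, -, e1⟩ := h3_stab2_pos hp x hx t
      exact ⟨t', by rw [a1]; exact h39, by rw [b1]; exact h45, e1⟩
    · obtain ⟨c, hc, e⟩ := h3_diag_conj_prod x hx
      exact ⟨fun s => c s * t s, mul_ne_zero (hc 39) h39, mul_ne_zero (hc 45) h45, e T2 t⟩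
  induction hb using Subgroup.closure_induction'' with
  | mem x hx => exact key x hx
  | inv_mem x hx =>
    apply key
    rcases hx with hx | hx
    · exact Or.inl (inv_mem hx)
    · exact Or.inr (inv_mem hx)
  | one =>
    intro t h39 h45
    exact ⟨t, h39, h45, by simp⟩
  | mul x y _ _ hx hy =>
    intro t h39 h45
    obtain ⟨t1, a1, b1, e1⟩ := hy t h39 h45
    obtain ⟨t2, a2, b2, e2⟩ := hx t1 a1 b1
    refine ⟨t2, a2, b2, ?_⟩
    have : x * y * (T2.map fun s => xGL chevF4 hF4 s (t s)).prod * (x * y)⁻¹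
        = x * (y * (T2.map fun s => xGL chevF4 hF4 s (t s)).prod * y⁻¹) * x⁻¹ := by group
    rw [this, e1, e2]

/-- the members of the family `P2` with vanishing `39, 40, 45, 46` coordinates are the members of
the family `P1` -/
theorem h3_P2_eq_P1 (t : ℕ → F) (h39 : t 39 = 0) (h40 : t 40 = 0) (h45 : t 45 = 0)
    (h46 : t 46 = 0) : P2 t = P1 t := by
  have z : ∀ r, xGL chevF4 hF4 r (0 : F) = 1 := fun r => Units.ext (x_at_zero chevF4 r)
  simp [P2, P1, T2, T1, h39, h40, h45, h46, z]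

/-- `U` centralises the family `P1` -/
theorem h3_pos_cent_P1 (hp : ((2 : ℕ) : F) = 0) (u : GL chevF4.Idx F)
    (hu : u ∈ chevF4.posUnipotent F) (t : ℕ → F) : u * P1 t * u⁻¹ = P1 t := by
  set t0 : ℕ → F := fun s => if s = 44 ∨ s = 47 then t s else 0 with ht0
  have z39 : t0 39 = 0 := by simp [ht0]
  have z40 : t0 40 = 0 := by simp [ht0]
  have z45 : t0 45 = 0 := by simp [ht0]
  have z46 : t0 46 = 0 := by simp [ht0]
  have e0 : P1 t = P2 t0 := by
    rw [h3_P2_eq_P1 t0 z39 z40 z45 z46]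
    simp [P1, T1, ht0]
  obtain ⟨t', a1, b1, c1, e1⟩ := h3_stab2_pos hp u hu t0
  obtain ⟨k40, k46, k44, k47⟩ := c1 z39 z40 z45 z46
  rw [e0, e1, h3_P2_eq_P1 t' (a1.trans z39) k40 (b1.trans z45) k46,
    h3_P2_eq_P1 t0 z39 z40 z45 z46]
  simp [P1, T1, k44, k47]

/-- Unit FA1 -/
theorem h3_FA1 [CharP F 2] (b : GL chevF4.Idx F) (hb : b ∈ chevF4.borelSubgroup F) (t : ℕ → F)
    (h44 : t 44 ≠ 0) (h47 : t 47 ≠ 0) :
    ∃ t' : ℕ → F, t' 44 ≠ 0 ∧ t' 47 ≠ 0 ∧
      b * (T1.map fun s => xGL chevF4 hF4 s (t s)).prod * b⁻¹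
        = (T1.map fun s => xGL chevF4 hF4 s (t' s)).prod := by
  have hp : ((2 : ℕ) : F) = 0 := CharP.cast_eq_zero F 2
  revert t
  unfold ChevalleyDatum.borelSubgroup at hb
  rw [Subgroup.sup_eq_closure] at hb
  have key : ∀ x : GL chevF4.Idx F,
      x ∈ (chevF4.posUnipotent F : Set (GL chevF4.Idx F)) ∪ chevF4.diagonalSubgroup F →
      ∀ t : ℕ → F, t 44 ≠ 0 → t 47 ≠ 0 → ∃ t' : ℕ → F, t' 44 ≠ 0 ∧ t' 47 ≠ 0 ∧
        x * (T1.map fun s => xGL chevF4 hF4 s (t s)).prod * x⁻¹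
          = (T1.map fun s => xGL chevF4 hF4 s (t' s)).prod := by
    rintro x (hx | hx) t h44 h47
    · exact ⟨t, h44, h47, h3_pos_cent_P1 hp x hx t⟩
    · obtain ⟨c, hc, e⟩ := h3_diag_conj_prod x hx
      exact ⟨fun s => c s * t s, mul_ne_zero (hc 44) h44, mul_ne_zero (hc 47) h47, e T1 t⟩
  induction hb using Subgroup.closure_induction'' with
  | mem x hx => exact key x hx
  | inv_mem x hx =>
    apply key
    rcases hx with hx | hx
    · exact Or.inl (inv_mem hx)
    · exact Or.inr (inv_mem hx)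
  | one =>
    intro t h44 h47
    exact ⟨t, h44, h47, by simp⟩
  | mul x y _ _ hx hy =>
    intro t h44 h47
    obtain ⟨t1, a1, b1, e1⟩ := hy t h44 h47
    obtain ⟨t2, a2, b2, e2⟩ := hx t1 a1 b1
    refine ⟨t2, a2, b2, ?_⟩
    have : x * y * (T1.map fun s => xGL chevF4 hF4 s (t s)).prod * (x * y)⁻¹
        = x * (y * (T1.map fun s => xGL chevF4 hF4 s (t s)).prod * y⁻¹) * x⁻¹ := by group
    rw [this, e1, e2]

end

end Cfsg.Agent.Lib.Helper3.F4Cent
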