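import Mathlib

set_option autoImplicit false
set_option maxHeartbeats 4000000
set_option linter.unusedVariables false
set_option linter.unusedSectionVars false
set_option linter.style.longLine false

/-!
# F4INV farm (S2184), unit T1: the abstract lemma for the Tits group

`G` a group, `T = commutator G`.  If `G = T ⊔ ⟨x⟩` and every involution of `G` has a conjugate
commuting with `x`, then two involutions of `T` which are conjugate in `G` are conjugate in `T`; so
(if moreover all involutions of `G` lie in `T`) `T` has as many classes of involutions as `G`.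
-/

namespace Cfsg.Agent.Lib.Helper3.F4Inv

variable {G : Type*} [Group G]

/-- (ii): a group generated by `x1, y1, x2, y2` with `x1, y1` in the normal subgroup `T ⊇ G'` and
`y2` conjugate to `x2` is `T ⊔ ⟨x2⟩`. -/
theorem h3_top_eq_sup_zpowers (T : Subgroup G) [T.Normal] (hT : commutator G ≤ T)
    (x1 y1 x2 y2 c : G) (hgen : Subgroup.closure ({x1, y1, x2, y2} : Set G) = ⊤)
    (hx1 : x1 ∈ T) (hy1 : y1 ∈ T) (hy2 : y2 = c * x2 * c⁻¹) :
    T ⊔ Subgroup.zpowers x2 = ⊤ := by
  rw [eq_top_iff, ← hgen, Subgroup.closure_le]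
  intro g hg
  simp only [Set.mem_insert_iff, Set.mem_singleton_iff] at hg
  rcases hg with rfl | rfl | rfl | rfl
  · exact Subgroup.mem_sup_left hx1
  · exact Subgroup.mem_sup_left hy1
  · exact Subgroup.mem_sup_right (Subgroup.mem_zpowers _)
  · -- `c x2 c⁻¹ = ⁅c, x2⁆ * x2`
    rw [hy2]
    have h1 : c * x2 * c⁻¹ = (c * x2 * c⁻¹ * x2⁻¹) * x2 := by
      simp [mul_assoc]
    rw [h1]
    apply Subgroup.mul_mem
    · apply Subgroup.mem_sup_left
      apply hT
      rw [commutator_def]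
      have := Subgroup.commutator_mem_commutator (H₁ := (⊤ : Subgroup G)) (H₂ := ⊤)
        (Subgroup.mem_top c) (Subgroup.mem_top x2)
      rwa [commutatorElement_def] at this
    · exact Subgroup.mem_sup_right (Subgroup.mem_zpowers _)

/-- (iii): if `G = T ⊔ ⟨x⟩` (`T` normal) and a conjugate of `t` commutes with `x`, every
`G`-conjugate of `t` is a `T`-conjugate of `t`. -/
theorem h3_conj_in_normal (T : Subgroup G) [T.Normal] (x : G)
    (hsup : T ⊔ Subgroup.zpowers x = ⊤) (t c : G) (hc : Commute (c * t * c⁻¹) x) (g : G) :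
    ∃ h ∈ T, g * t * g⁻¹ = h * t * h⁻¹ := by
  -- every element is `h * x ^ k`
  have dec : ∀ g : G, ∃ h ∈ T, ∃ k : ℤ, g = h * x ^ k := by
    intro g
    have hg : g ∈ T ⊔ Subgroup.zpowers x := by rw [hsup]; exact Subgroup.mem_top _
    rw [Subgroup.mem_sup_of_normal_left] at hg
    obtain ⟨h, hh, z, hz, rfl⟩ := hg
    obtain ⟨k, rfl⟩ := Subgroup.mem_zpowers_iff.mp hz
    exact ⟨h, hh, k, rfl⟩
  set t' := c * t * c⁻¹ with ht'
  have hk : ∀ k : ℤ, x ^ k * t' * (x ^ k)⁻¹ = t' := by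
    intro k
    have := (hc.zpow_right k).eq
    rw [← this, mul_assoc, mul_inv_cancel, mul_one]
  -- `u t' u⁻¹` with `u = h x^k` is `h t' h⁻¹`
  have key : ∀ u : G, ∃ h ∈ T, u * t' * u⁻¹ = h * t' * h⁻¹ := by
    intro u
    obtain ⟨h, hh, k, rfl⟩ := dec u
    refine ⟨h, hh, ?_⟩
    calc h * x ^ k * t' * (h * x ^ k)⁻¹ = h * (x ^ k * t' * (x ^ k)⁻¹) * h⁻¹ := by
          simp [mul_assoc]
      _ = h * t' * h⁻¹ := by rw [hk]
  have ht : t = c⁻¹ * t' * c := by rw [ht']; simp [mul_assoc]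
  obtain ⟨h1, hh1, e1⟩ := key (g * c⁻¹)
  obtain ⟨h0, hh0, e0⟩ := key c⁻¹
  refine ⟨h1 * h0⁻¹, T.mul_mem hh1 (T.inv_mem hh0), ?_⟩
  have e0' : t = h0 * t' * h0⁻¹ := by
    rw [← e0, ht]; simp [mul_assoc]
  have e1' : g * t * g⁻¹ = h1 * t' * h1⁻¹ := by
    rw [← e1, ht]; simp [mul_assoc]
  rw [e1']
  have : t' = h0⁻¹ * t * h0 := by rw [e0']; simp [mul_assoc]
  rw [this]; simp [mul_assoc]

/-- (iv): counting.  If all involutions of `G` lie in the subgroup `T`, and `G`-conjugate
involutions are `T`-conjugate, then `T` (as a group) has as many classes of involutions as `G`. -/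
theorem h3_ncard_invol_classes (T : Subgroup G)
    (hin : ∀ g : G, orderOf g = 2 → g ∈ T)
    (hconj : ∀ t : G, orderOf t = 2 → ∀ g : G, ∃ h ∈ T, g * t * g⁻¹ = h * t * h⁻¹) :
    (ConjClasses.mk '' {g : ↥T | orderOf g = 2}).ncard
      = (ConjClasses.mk '' {g : G | orderOf g = 2}).ncard := by
  let f : ConjClasses ↥T → ConjClasses G := ConjClasses.map T.subtype
  have himg : f '' (ConjClasses.mk '' {g : ↥T | orderOf g = 2})
      = ConjClasses.mk '' {g : G | orderOf g = 2} := by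
    ext C
    constructor
    · rintro ⟨_, ⟨g, hg, rfl⟩, rfl⟩
      refine ⟨(g : G), ?_, rfl⟩
      simpa [Subgroup.orderOf_coe] using hg
    · rintro ⟨g, hg, rfl⟩
      refine ⟨ConjClasses.mk (⟨g, hin g hg⟩ : ↥T), ⟨⟨g, hin g hg⟩, ?_, rfl⟩, rfl⟩
      have : orderOf ((⟨g, hin g hg⟩ : ↥T) : G) = 2 := hg
      simpa [Subgroup.orderOf_coe] using this
  have hinj : Set.InjOn f (ConjClasses.mk '' {g : ↥T | orderOf g = 2}) := by
    rintro _ ⟨g1, hg1, rfl⟩ _ ⟨g2, hg2, rfl⟩ e
    have e' : ConjClasses.mk (g1 : G) = ConjClasses.mk (g2 : G) := e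
    rw [ConjClasses.mk_eq_mk_iff_isConj, isConj_iff] at e'
    obtain ⟨c, hc⟩ := e'
    have ho : orderOf (g1 : G) = 2 := by simpa [Subgroup.orderOf_coe] using hg1
    obtain ⟨h, hh, eh⟩ := hconj (g1 : G) ho c
    rw [ConjClasses.mk_eq_mk_iff_isConj, isConj_iff]
    refine ⟨⟨h, hh⟩, ?_⟩
    apply Subtype.ext
    simp only [Subgroup.coe_mul, Subgroup.coe_inv]
    rw [← eh, hc]
  rw [← himg, hinj.ncard_image]

/-- Unit T1 assembled: the derived subgroup `T` of `G = ⟨x1, y1, x2, y2⟩` has as many classes of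
involutions as `G`, when all involutions of `G` lie in `T`, `y2` is conjugate to `x2`, and every
involution of `G` has a conjugate commuting with `x2`. -/
theorem h3_tits_classes (x1 y1 x2 y2 c : G)
    (hgen : Subgroup.closure ({x1, y1, x2, y2} : Set G) = ⊤)
    (hx1 : orderOf x1 = 2) (hy1 : orderOf y1 = 2) (hy2 : y2 = c * x2 * c⁻¹)
    (hin : ∀ g : G, orderOf g = 2 → g ∈ commutator G)
    (hcomm : ∀ t : G, orderOf t = 2 → ∃ d : G, Commute (d * t * d⁻¹) x2) :
    (ConjClasses.mk '' {g : ↥(commutator G) | orderOf g = 2}).ncard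
      = (ConjClasses.mk '' {g : G | orderOf g = 2}).ncard := by
  have : (commutator G).Normal := by rw [commutator_def]; infer_instance
  have hsup := h3_top_eq_sup_zpowers (commutator G) le_rfl x1 y1 x2 y2 c hgen
    (hin x1 hx1) (hin y1 hy1) hy2
  apply h3_ncard_invol_classes (commutator G) hin
  intro t ht g
  obtain ⟨d, hd⟩ := hcomm t ht
  exact h3_conj_in_normal (commutator G) x2 hsup t d hd g

/-- It is enough to check the commuting condition on one representative of each class. -/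
theorem h3_comm_of_reps (x : G) (R : Set G)
    (hR : ∀ t : G, orderOf t = 2 → ∃ r ∈ R, IsConj t r)
    (hRc : ∀ r ∈ R, ∃ d : G, Commute (d * r * d⁻¹) x) :
    ∀ t : G, orderOf t = 2 → ∃ d : G, Commute (d * t * d⁻¹) x := by
  intro t ht
  obtain ⟨r, hr, hconj⟩ := hR t ht
  obtain ⟨d, hd⟩ := hRc r hr
  rw [isConj_iff] at hconj
  obtain ⟨e, he⟩ := hconj
  refine ⟨d * e, ?_⟩
  have : d * e * t * (d * e)⁻¹ = d * (e * t * e⁻¹) * d⁻¹ := by simp [mul_assoc]
  rw [this, he]; exact hd

end Cfsg.Agent.Lib.Helper3.F4Inv
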