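import Mathlib
import Cfsg.Agent.Lib.Helper4.BNPair
import Cfsg.Agent.Lib.Helper3.F4InvA0

set_option autoImplicit false
set_option linter.style.haveILetI false

/-!
# F4INV farm (S2184), abstract part 1 (port of helper2's D4InvA1, order 6 -> 8): the Weyl group of a `(B, N)`-pair with `S = {a, b}` and
`π a * π b` of order 8 is `DihedralGroup 8`, and `len = dlen`.
-/

namespace Cfsg.Agent.Lib.Helper3.F4Inv

open Cfsg Cfsg.Agent.Lib.Helper4.BNAbstract Cfsg.Agent.Lib.Helper4.BNPair DihedralGroup

variable {G : Type*} [Group G] (P : BNPair G) (a b : G)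

theorem dlen_one : dlen (1 : DihedralGroup 8) = 0 := by decide

theorem f4_SW_eq (hS : P.S = {a, b}) : SW P = {π P a, π P b} := by
  unfold SW
  rw [hS, Set.image_pair]

theorem f4_a_mem (hS : P.S = {a, b}) : a ∈ P.S := by rw [hS]; simp

theorem f4_b_mem (hS : P.S = {a, b}) : b ∈ P.S := by rw [hS]; simp

theorem f4_pow8 (hord : orderOf (π P a * π P b) = 8) : (π P a * π P b) ^ 8 = 1 :=
  hord ▸ pow_orderOf_eq_one (π P a * π P b)

/-- the homomorphism `DihedralGroup 8 → W` -/
noncomputable def f4_hom (hS : P.S = {a, b}) (hord : orderOf (π P a * π P b) = 8) :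
    DihedralGroup 8 →* W P :=
  dhom (π_S_sq (f4_a_mem P a b hS)) (π_S_sq (f4_b_mem P a b hS)) (f4_pow8 P a b hord)

theorem f4_hom_bijective (hS : P.S = {a, b}) (hord : orderOf (π P a * π P b) = 8) :
    Function.Bijective (f4_hom P a b hS hord) := by
  refine ⟨dhom_injective _ _ hord, ?_⟩
  rw [← MonoidHom.range_eq_top, eq_top_iff, ← (genInv (P := P)).gen, Subgroup.closure_le,
    f4_SW_eq P a b hS]
  intro w hw
  simp only [Set.mem_insert_iff, Set.mem_singleton_iff] at hw
  rcases hw with rfl | rfl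
  · exact ⟨sr 0, dhom_sr0 _ _ _⟩
  · exact ⟨sr 1, dhom_sr1 _ _ _⟩

/-- the isomorphism `W ≃ DihedralGroup 8` -/
noncomputable def f4_e (hS : P.S = {a, b}) (hord : orderOf (π P a * π P b) = 8) :
    W P ≃* DihedralGroup 8 :=
  (MulEquiv.ofBijective (f4_hom P a b hS hord) (f4_hom_bijective P a b hS hord)).symm

theorem f4_e_a (hS : P.S = {a, b}) (hord : orderOf (π P a * π P b) = 8) :
    f4_e P a b hS hord (π P a) = sr 0 := by
  unfold f4_e
  rw [MulEquiv.symm_apply_eq, MulEquiv.ofBijective_apply]
  unfold f4_hom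
  exact (dhom_sr0 _ _ _).symm

theorem f4_e_b (hS : P.S = {a, b}) (hord : orderOf (π P a * π P b) = 8) :
    f4_e P a b hS hord (π P b) = sr 1 := by
  unfold f4_e
  rw [MulEquiv.symm_apply_eq, MulEquiv.ofBijective_apply]
  unfold f4_hom
  exact (dhom_sr1 _ _ _).symm

theorem f4_e_S (hS : P.S = {a, b}) (hord : orderOf (π P a * π P b) = 8) (s : W P)
    (hs : s ∈ SW P) : f4_e P a b hS hord s = sr 0 ∨ f4_e P a b hS hord s = sr 1 := by
  rw [f4_SW_eq P a b hS] at hs
  simp only [Set.mem_insert_iff, Set.mem_singleton_iff] at hs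
  rcases hs with rfl | rfl
  · exact Or.inl (f4_e_a P a b hS hord)
  · exact Or.inr (f4_e_b P a b hS hord)

theorem f4_len_ge (hS : P.S = {a, b}) (hord : orderOf (π P a * π P b) = 8) :
    ∀ l : List (W P), IsWord (SW P) l → dlen (f4_e P a b hS hord l.prod) ≤ l.length := by
  intro l
  induction l with
  | nil =>
    intro _
    rw [List.prod_nil, map_one, dlen_one]
    exact Nat.zero_le _
  | cons s l ih =>
    intro hl
    rw [isWord_cons] at hl
    have h1 := ih hl.2
    rw [List.prod_cons, map_mul, List.length_cons]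
    rcases f4_e_S P a b hS hord s hl.1 with h | h
    · rw [h]
      exact le_trans (dlen_step _).1 (by omega)
    · rw [h]
      exact le_trans (dlen_step _).2 (by omega)

theorem f4_len_le (hS : P.S = {a, b}) (hord : orderOf (π P a * π P b) = 8) :
    ∀ k : ℕ, ∀ w : W P, dlen (f4_e P a b hS hord w) = k → len (SW P) w ≤ k := by
  intro k
  induction k with
  | zero =>
    intro w hw
    have h1 := dlen_eq_zero _ hw
    have h2 : w = 1 := by
      have := (f4_e P a b hS hord).injective (h1.trans (map_one _).symm)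
      exact this
    rw [h2, len_one]
  | succ k ih =>
    intro w hw
    have hne : f4_e P a b hS hord w ≠ 1 := by
      intro h
      rw [h, dlen_one] at hw
      omega
    have hgi := genInv (P := P)
    rcases dlen_pred _ hne with h | h
    · have hxS : π P a ∈ SW P := π_mem_SW (f4_a_mem P a b hS)
      have h1 : dlen (f4_e P a b hS hord (π P a * w)) = k := by
        rw [map_mul, f4_e_a]
        omega
      have h2 := ih _ h1
      have h3 := len_mul_le hgi hxS (π P a * w)
      rw [← mul_assoc, hgi.sq _ hxS, one_mul] at h3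
      omega
    · have hyS : π P b ∈ SW P := π_mem_SW (f4_b_mem P a b hS)
      have h1 : dlen (f4_e P a b hS hord (π P b * w)) = k := by
        rw [map_mul, f4_e_b]
        omega
      have h2 := ih _ h1
      have h3 := len_mul_le hgi hyS (π P b * w)
      rw [← mul_assoc, hgi.sq _ hyS, one_mul] at h3
      omega

theorem f4_len_eq (hS : P.S = {a, b}) (hord : orderOf (π P a * π P b) = 8) (w : W P) :
    len (SW P) w = dlen (f4_e P a b hS hord w) := by
  apply le_antisymm (f4_len_le P a b hS hord _ w rfl)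
  obtain ⟨l, hl, hp, hlen⟩ := exists_len (genInv (P := P)) w
  rw [← hlen, ← hp]
  exact f4_len_ge P a b hS hord l hl

/-- the criterion `C(s) C(w) = C(s w)` -/
theorem f4_mem_Ps (hS : P.S = {a, b}) (hord : orderOf (π P a * π P b) = 8) (s : W P)
    (hs : s ∈ SW P) (w : W P) :
    w ∈ Ps P s ↔ dlen (f4_e P a b hS hord w) < dlen (f4_e P a b hS hord s * f4_e P a b hS hord w) := by
  rw [mem_Ps_iff hs, f4_len_eq P a b hS hord, f4_len_eq P a b hS hord, map_mul]

theorem f4_π_pow {n : G} (hn : n ∈ P.N) (k : ℕ) : π P (n ^ k) = (π P n) ^ k := by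
  induction k with
  | zero => simp [π_one]
  | succ k ih => rw [pow_succ, pow_succ, π_mul (pow_mem hn k) hn, ih]

end Cfsg.Agent.Lib.Helper3.F4Inv
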