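import Mathlib

set_option autoImplicit false
set_option linter.unusedSectionVars false

namespace Cfsg.Agent.Lib.Helper3.Dade

open MulAction

/-- weighted fixed point congruence for `p`-group actions -/
theorem sum_modEq_sum_fixedPoints {S X : Type*} [Group S] [Fintype X] [MulAction S X]
    (p : ℕ) [Fact p.Prime] (hS : IsPGroup p S) (w : X → ℕ)
    (hw : ∀ (s : S) (x : X), w (s • x) = w x) [DecidablePred (· ∈ fixedPoints S X)] :
    ∑ x, w x ≡ ∑ x ∈ Finset.univ.filter (· ∈ fixedPoints S X), w x [MOD p] := by
  classical
  -- level sets
  let act : ∀ v : ℕ, MulAction S {x : X // w x = v} := fun v =>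
    { smul := fun s x => ⟨s • x.1, by rw [hw]; exact x.2⟩
      one_smul := fun x => Subtype.ext (one_smul S x.1)
      mul_smul := fun s t x => Subtype.ext (mul_smul s t x.1) }
  have hlevel : ∀ v : ℕ, (Finset.univ.filter (fun x : X => w x = v)).card
      ≡ ((Finset.univ.filter (· ∈ fixedPoints S X)).filter (fun x : X => w x = v)).card
        [MOD p] := by
    intro v
    letI := act v
    have h1 := hS.card_modEq_card_fixedPoints {x : X // w x = v}
    have e1 : Nat.card {x : X // w x = v} = (Finset.univ.filter (fun x : X => w x = v)).card := by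
      rw [Nat.card_eq_fintype_card, Fintype.card_subtype]
    have e2 : Nat.card (fixedPoints S {x : X // w x = v})
        = ((Finset.univ.filter (· ∈ fixedPoints S X)).filter (fun x : X => w x = v)).card := by
      rw [Nat.card_eq_fintype_card]
      rw [← Fintype.card_coe]
      apply Fintype.card_congr
      refine ⟨fun y => ⟨y.1.1, ?_⟩, fun z => ⟨⟨z.1, ?_⟩, ?_⟩, ?_, ?_⟩
      · rw [Finset.mem_filter, Finset.mem_filter]
        refine ⟨⟨Finset.mem_univ _, ?_⟩, y.1.2⟩
        intro s
        have := y.2 s
        exact congrArg Subtype.val this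
      · have := z.2
        rw [Finset.mem_filter] at this
        exact this.2
      · intro s
        apply Subtype.ext
        have := z.2
        rw [Finset.mem_filter, Finset.mem_filter] at this
        exact this.1.2 s
      · intro y; rfl
      · intro z; rfl
    rw [e1, e2] at h1
    exact h1
  have hsum1 : ∑ x, w x = ∑ v ∈ Finset.univ.image w,
      v * (Finset.univ.filter (fun x : X => w x = v)).card := by
    rw [← Finset.sum_fiberwise_of_maps_to (g := w) (t := Finset.univ.image w)
      (fun x _ => Finset.mem_image_of_mem w (Finset.mem_univ x))]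
    apply Finset.sum_congr rfl
    intro v _
    rw [Finset.sum_congr rfl (g := fun _ => v) (fun x hx => (Finset.mem_filter.1 hx).2)]
    rw [Finset.sum_const, smul_eq_mul, mul_comm]
  have hsum2 : ∑ x ∈ Finset.univ.filter (· ∈ fixedPoints S X), w x = ∑ v ∈ Finset.univ.image w,
      v * ((Finset.univ.filter (· ∈ fixedPoints S X)).filter (fun x : X => w x = v)).card := by
    rw [← Finset.sum_fiberwise_of_maps_to (g := w) (t := Finset.univ.image w)
      (fun x _ => Finset.mem_image_of_mem w (Finset.mem_univ x))]
    apply Finset.sum_congr rfl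
    intro v _
    rw [Finset.sum_congr rfl (g := fun _ => v) (fun x hx => (Finset.mem_filter.1 hx).2)]
    rw [Finset.sum_const, smul_eq_mul, mul_comm]
  rw [hsum1, hsum2]
  apply Nat.ModEq.sum
  intro v _
  exact (hlevel v).mul_left v

end Cfsg.Agent.Lib.Helper3.Dade
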