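import Mathlib
import Cfsg.Agent.Lib.Helper6.QuotChar
import Cfsg.Agent.Lib.Helper6.ElemStruct
import Cfsg.Agent.Lib.Helper6.BrauerGlobal
import Cfsg.Agent.Lib.Helper6.Gallagher
import Cfsg.Agent.Lib.Helper6.Norm
import Cfsg.Agent.Lib.Helper6.CharOps
import Cfsg.Agent.Lib.Helper6.BlkDefect
import Cfsg.Agent.Lib.Helper6.DegreeDvd
import Cfsg.Agent.Lib.Helper6.IrrBasis
import Cfsg.Agent.S0146

set_option autoImplicit false
set_option linter.unusedSectionVars false

namespace Cfsg.Agent.Lib.Helper3.PiSec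
open Cfsg Cfsg.Agent.Lib.Helper6
open scoped ComplexConjugate

section E
variable {E : Type*} [Group E] [Fintype E]

theorem card_range_dvd (m n e : ℕ) (hcard : Nat.card E ∣ m * n) (hcop : Nat.Coprime m n)
    (hem : m ∣ e) (φ : E →* E) (hφ : ∀ y, φ y = y ^ e) : Nat.card φ.range ∣ n := by
  have h1 : Nat.card φ.range ∣ n * m := by
    rw [mul_comm]
    exact (Subgroup.card_subgroup_dvd_card φ.range).trans hcard
  apply Nat.Coprime.dvd_of_dvd_mul_right _ h1
  apply Nat.Coprime.symm
  apply Nat.coprime_of_dvd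
  intro q hq hqm hqr
  have : Fact q.Prime := ⟨hq⟩
  obtain ⟨r, hr⟩ := exists_prime_orderOf_dvd_card' q hqr
  obtain ⟨r, y, rfl⟩ := r
  have h2 : (⟨φ y, ⟨y, rfl⟩⟩ : φ.range) ^ n = 1 := by
    apply Subtype.ext
    simp only [SubgroupClass.coe_pow, OneMemClass.coe_one]
    rw [hφ, ← pow_mul]
    obtain ⟨k, hk⟩ := hem
    have h3 : Nat.card E ∣ e * n := by
      have h31 : e * n = (m * n) * k := by rw [hk]; ring
      rw [h31]
      exact Dvd.dvd.mul_right hcard k
    obtain ⟨j, hj⟩ := h3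
    rw [hj, pow_mul, pow_card_eq_one', one_pow]
  have h4 : q ∣ n := by
    rw [← hr]
    exact orderOf_dvd_of_pow_eq_one h2
  have h5 : q ∣ Nat.gcd m n := Nat.dvd_gcd hqm h4
  rw [hcop] at h5
  exact hq.one_lt.ne' (Nat.dvd_one.1 h5)

theorem isIntegral_classInner_section (m n e : ℕ) (hcard : Nat.card E ∣ m * n)
    (hcop : Nat.Coprime m n) (hem : m ∣ e)
    (hpow : ∀ y y' : E, (y * y') ^ e = y ^ e * y' ^ e)
    (S : Set E) (τ : E → ℂ) [DecidablePred (· ∈ S)]
    (hτ : ∀ y, τ y = if y ^ e ∈ S then (n : ℂ) else 0)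
    (f : E → ℂ) (hf : IsCharacter E f) :
    IsIntegral ℤ (classInner τ f) := by
  classical
  let φ : E →* E := ⟨⟨fun y => y ^ e, one_pow e⟩, hpow⟩
  have hφ : ∀ y, φ y = y ^ e := fun y => rfl
  let A : Subgroup E := φ.ker
  have hAn : A.Normal := MonoidHom.normal_ker φ
  have hApow : ∀ a ∈ A, a ^ e = 1 := fun a ha => ha
  have hτinv : ∀ (a : A) (y : E), τ ((a : E) * y) = τ y := by
    intro a y
    rw [hτ, hτ, hpow, hApow a a.2, one_mul]
  have hτinv' : ∀ (y : E) (a : E), a ∈ A → τ (y * a) = τ y := by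
    intro y a ha
    rw [hτ, hτ, hpow, hApow a ha, mul_one]
  rw [← classInner_conj_symm]
  apply isIntegral_conj
  rw [← classInner_cosetAvg_left A f τ hτinv]
  set fb := cosetAvg A f with hfb
  have hfbint : ∀ y, IsIntegral ℤ (fb y) := by
    intro y
    have : Fintype (IrrCharacter (E ⧸ A)) := Fintype.ofFinite _
    rw [hfb, cosetAvg_eq_sum A (IsCharacter.isClassFunction hf)]
    rw [Finset.sum_apply]
    apply IsIntegral.sum
    intro β _
    simp only [Pi.smul_apply, smul_eq_mul]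
    apply IsIntegral.mul
    · obtain ⟨k, hk⟩ := IsCharacter.classInner_nat hf
        (IsIrrCharacter.isCharacter (IsIrrCharacter.comp_mk A β.2))
      rw [hk]
      exact isIntegral_natCast k
    · exact IsCharacter.isIntegral_apply (IsIrrCharacter.isCharacter β.2) _
  have hfbinv : ∀ (y : E) (a : E), a ∈ A → fb (y * a) = fb y := by
    intro y a ha
    have h1 : y * a = (⟨y * a * y⁻¹, hAn.conj_mem a ha y⟩ : A) * y := by
      simp
    rw [h1, hfb, cosetAvg_mul_left]
  -- descend to the quotient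
  let F : E ⧸ A → ℂ := fun q => fb q.out * conj (τ q.out)
  have hF : ∀ y : E, F (QuotientGroup.mk y) = fb y * conj (τ y) := by
    intro y
    obtain ⟨a, ha⟩ := QuotientGroup.mk_out_eq_mul A y
    simp only [F]
    rw [ha, hfbinv y a a.2, hτinv' y a a.2]
  unfold classInner
  have h1 : ∑ g : E, fb g * conj (τ g) = ∑ g : E, F (QuotientGroup.mk g) := by
    apply Finset.sum_congr rfl
    intro g _
    rw [hF]
  rw [h1, sum_comp_mk A F, ← mul_assoc, Finset.mul_sum]
  apply IsIntegral.sum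
  intro q _
  simp only [F]
  rw [mul_comm (fb q.out), ← mul_assoc]
  apply IsIntegral.mul _ (hfbint _)
  -- the scalar
  have hidx : A.index ∣ n := by
    rw [Subgroup.index_ker]
    exact card_range_dvd m n e hcard hcop hem φ hφ
  obtain ⟨k, hk⟩ := hidx
  have hcardE : (Nat.card E : ℂ) = (Nat.card A : ℂ) * (A.index : ℂ) := by
    rw [← Nat.cast_mul, Subgroup.card_mul_index]
  have hA0 : (Nat.card A : ℂ) ≠ 0 := by exact_mod_cast (Nat.card_pos (α := A)).ne'
  have hi0 : (A.index : ℂ) ≠ 0 := by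
    exact_mod_cast (Subgroup.index_ne_zero_of_finite (H := A))
  rw [hτ]
  split_ifs
  · have : (Nat.card E : ℂ)⁻¹ * (Nat.card A : ℂ) * conj (n : ℂ) = (k : ℂ) := by
      rw [Complex.conj_natCast, hcardE, hk]
      push_cast
      field_simp
    rw [this]
    exact isIntegral_natCast k
  · simp only [map_zero, mul_zero]
    exact isIntegral_zero

end E

end Cfsg.Agent.Lib.Helper3.PiSec
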