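import Mathlib
import Cfsg.Agent.Lib.Helper3.PiSec1

set_option autoImplicit false
set_option linter.unusedSectionVars false

namespace Cfsg.Agent.Lib.Helper3.PiSec
open Cfsg Cfsg.Agent.Lib.Helper6
open scoped ComplexConjugate

section H
variable {E : Type*} [Group E] [Finite E]

/-- on an elementary group, the projection to the `π'`-part is a homomorphism -/
theorem pow_mul_of_isElementary (p : ℕ) (hp : p.Prime) (hE : Cfsg.IsElementary p E)
    (m n e : ℕ) (hcard : Nat.card E ∣ m * n) (hcop : Nat.Coprime m n) (hem : m ∣ e)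
    (hen : e ≡ 1 [MOD n]) (y y' : E) : (y * y') ^ e = y ^ e * y' ^ e := by
  have : Fact p.Prime := ⟨hp⟩
  obtain ⟨x, hxc, hxp, k, hk⟩ := hE
  let C := Subgroup.zpowers x
  have hCcard : Nat.card C = orderOf x := Nat.card_zpowers x
  let P : Sylow p E := default
  obtain ⟨hcompl, hPcard⟩ := isComplement'_sylow C (by rw [hCcard]; exact hxp) hk P
  have hCcent : ∀ c ∈ C, ∀ z : E, c * z = z * c := by
    intro c hc z
    obtain ⟨i, rfl⟩ := Subgroup.mem_zpowers_iff.1 hc
    have h1 : Commute x z := (Subgroup.mem_center_iff.1 hxc z).symm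
    exact (h1.zpow_left i)
  -- P-part
  have hP : ∀ t ∈ (P : Subgroup E), ∀ t' ∈ (P : Subgroup E), (t * t') ^ e = t ^ e * t' ^ e := by
    have hpk : p ^ k ∣ m * n := by
      rw [← hPcard]
      exact (Subgroup.card_subgroup_dvd_card _).trans hcard
    have hord : ∀ t ∈ (P : Subgroup E), orderOf t ∣ p ^ k := by
      intro t ht
      rw [← hPcard]
      have := orderOf_dvd_natCard (⟨t, ht⟩ : (P : Subgroup E))
      rwa [Subgroup.orderOf_mk] at this
    by_cases hpm : p ∣ m
    · -- all powers trivial
      have hpn : Nat.Coprime (p ^ k) n := by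
        apply Nat.Coprime.pow_left
        exact Nat.Coprime.coprime_dvd_left hpm hcop
      have hpkm : p ^ k ∣ m := hpn.dvd_of_dvd_mul_right hpk
      have htriv : ∀ t ∈ (P : Subgroup E), t ^ e = 1 := by
        intro t ht
        exact orderOf_dvd_iff_pow_eq_one.1 ((hord t ht).trans (hpkm.trans hem))
      intro t ht t' ht'
      rw [htriv t ht, htriv t' ht', htriv _ (Subgroup.mul_mem _ ht ht'), one_mul]
    · have hpm' : Nat.Coprime (p ^ k) m := by
        apply Nat.Coprime.pow_left
        exact (Nat.Prime.coprime_iff_not_dvd hp).2 hpm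
      have hpkn : p ^ k ∣ n := hpm'.dvd_of_dvd_mul_left hpk
      have hid : ∀ t ∈ (P : Subgroup E), t ^ e = t := by
        intro t ht
        have h1 : e ≡ 1 [MOD orderOf t] := hen.of_dvd ((hord t ht).trans hpkn)
        rw [← pow_one t, ← pow_mul, one_mul]
        exact pow_eq_pow_iff_modEq.2 h1
      intro t ht t' ht'
      rw [hid t ht, hid t' ht', hid _ (Subgroup.mul_mem _ ht ht')]
  -- decompose
  rw [Subgroup.isComplement'_def] at hcompl
  obtain ⟨⟨c, z⟩, hcz, _⟩ := hcompl.existsUnique y
  obtain ⟨⟨c', z'⟩, hcz', _⟩ := hcompl.existsUnique y'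
  simp only at hcz hcz'
  rw [← hcz, ← hcz']
  have hc := hCcent c c.2
  have hc' := hCcent c' c'.2
  have e1 : (c : E) * z * (c' * z') = ((c : E) * c') * ((z : E) * z') := by
    rw [mul_assoc, ← mul_assoc (z : E), ← hc' z]
    simp only [mul_assoc]
  have hcomm1 : Commute ((c : E) * c') ((z : E) * z') := by
    have : ∀ w : E, Commute ((c : E) * c') w := by
      intro w
      exact (Commute.mul_left (hc w) (hc' w))
    exact this _
  rw [e1, hcomm1.mul_pow, (show Commute (c : E) c' from hc c').mul_pow, hP z z.2 z' z'.2,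
    (show Commute (c : E) z from hc z).mul_pow, (show Commute (c' : E) z' from hc' z').mul_pow]
  have h3 : Commute ((z : E) ^ e) ((c' : E) ^ e) :=
    ((show Commute (c' : E) z from hc' z).pow_pow e e).symm
  calc (c : E) ^ e * (c' : E) ^ e * ((z : E) ^ e * (z' : E) ^ e)
      = (c : E) ^ e * ((c' : E) ^ e * (z : E) ^ e) * (z' : E) ^ e := by simp only [mul_assoc]
    _ = (c : E) ^ e * ((z : E) ^ e * (c' : E) ^ e) * (z' : E) ^ e := by rw [h3.eq]
    _ = (c : E) ^ e * (z : E) ^ e * ((c' : E) ^ e * (z' : E) ^ e) := by simp only [mul_assoc]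

end H

section G
variable {G : Type*} [Group G] [Fintype G]

/-- `𝔸`-version of Brauer's characterisation, in inner product form -/
theorem isIntegral_classInner_of_elementary (ϑ : G → ℂ) (hϑ : IsClassFunction G ϑ)
    (hE : ∀ (E : Subgroup G) [Fintype E], IsElem E → ∀ f : E → ℂ, IsCharacter E f →
      IsIntegral ℤ (classInner (fun x : E => ϑ x) f))
    (χ : G → ℂ) (hχ : IsIrrCharacter G χ) : IsIntegral ℤ (classInner ϑ χ) := by
  classical
  obtain ⟨r, E, φ, c, hEφ, hsum⟩ := IndCharComb.exists_sum (one_mem_indCharComb (G := G))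
  have hχcf := IsIrrCharacter.isClassFunction hχ
  have h1 : ϑ = ∑ i, (c i : ℂ) • indFun (E i) (φ i * fun x : E i => ϑ x) := by
    have h2 : ϑ = (fun _ : G => (1 : ℂ)) * ϑ := by
      funext g; simp
    conv_lhs => rw [h2, hsum]
    rw [Finset.sum_mul]
    apply Finset.sum_congr rfl
    intro i _
    rw [indFun_mul_restrict (E i) (φ i) hϑ, smul_mul_assoc]
  rw [h1, classInner_sum_left]
  apply IsIntegral.sum
  intro i _
  rw [classInner_smul_left]
  apply IsIntegral.mul
  · exact_mod_cast isIntegral_algebraMap (R := ℤ) (A := ℂ) (x := c i)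
  · rw [Cfsg.Agent.S0146.result (E i) _ χ hχcf]
    have hf : IsCharacter (E i) (fun x : E i => conj (φ i x) * χ x) := by
      have h3 := IsCharacter.mul (IsCharacter.conj (hEφ i).2)
        (IsCharacter.restrict (E i) (IsIrrCharacter.isCharacter hχ))
      exact h3
    have h4 := hE (E i) (hEφ i).1 _ hf
    have h5 : classInner (φ i * fun x : E i => ϑ x) (fun h : E i => χ h)
        = classInner (fun x : E i => ϑ x) (fun x : E i => conj (φ i x) * χ x) := by
      unfold classInner
      congr 1
      apply Finset.sum_congr rfl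
      intro x _
      simp only [Pi.mul_apply, map_mul, Complex.conj_conj]
      ring
    rw [h5]
    exact h4

end G

end Cfsg.Agent.Lib.Helper3.PiSec
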