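import Mathlib
import Cfsg.Agent.Lib.Helper3.Dade1
import Cfsg.Agent.Lib.Helper3.PiSec2

set_option autoImplicit false
set_option linter.unusedSectionVars false

namespace Cfsg.Agent.Lib.Helper3.Dade
open Cfsg Cfsg.Agent.Lib.Helper6
open scoped ComplexConjugate
open MulAction

section C
variable {G : Type*} [Group G] [Fintype G]
variable (N : Subgroup G) [hN : N.Normal] (E : Subgroup G)

/-- conjugation by an element of `E` on `E ⊓ N` -/
def conjD (g : E) : ↥(E ⊓ N) ≃* ↥(E ⊓ N) where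
  toFun x := ⟨(g : G) * x * (g : G)⁻¹, ⟨E.mul_mem (E.mul_mem g.2 x.2.1) (E.inv_mem g.2),
    hN.conj_mem x x.2.2 g⟩⟩
  invFun x := ⟨(g : G)⁻¹ * x * (g : G), ⟨E.mul_mem (E.mul_mem (E.inv_mem g.2) x.2.1) g.2, by
    have := hN.conj_mem x x.2.2 (g : G)⁻¹
    simpa using this⟩⟩
  left_inv x := by
    apply Subtype.ext
    simp only
    group
  right_inv x := by
    apply Subtype.ext
    simp only
    group
  map_mul' x y := by
    apply Subtype.ext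
    simp only [Subgroup.coe_mul]
    group

theorem conjD_coe (g : E) (x : ↥(E ⊓ N)) : ((conjD N E g x : ↥(E ⊓ N)) : G) = (g : G) * x * (g : G)⁻¹ :=
  rfl

theorem conjD_one (x : ↥(E ⊓ N)) : conjD N E 1 x = x := by
  apply Subtype.ext
  rw [conjD_coe]
  simp

theorem conjD_mul (g h : E) (x : ↥(E ⊓ N)) : conjD N E (g * h) x = conjD N E g (conjD N E h x) := by
  apply Subtype.ext
  simp only [conjD_coe, Subgroup.coe_mul]
  group

/-- the action of `E` on the irreducible characters of `E ⊓ N` -/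
noncomputable instance irrAction : MulAction E (IrrCharacter ↥(E ⊓ N)) where
  smul g φ := ⟨fun x => (φ : ↥(E ⊓ N) → ℂ) (conjD N E g⁻¹ x),
    IsIrrCharacter.comp_mulEquiv (conjD N E g⁻¹) φ.2⟩
  one_smul φ := by
    apply Subtype.ext
    funext x
    change (φ : ↥(E ⊓ N) → ℂ) (conjD N E 1⁻¹ x) = _
    rw [inv_one, conjD_one]
  mul_smul g h φ := by
    apply Subtype.ext
    funext x
    change (φ : ↥(E ⊓ N) → ℂ) (conjD N E (g * h)⁻¹ x)
      = (φ : ↥(E ⊓ N) → ℂ) (conjD N E h⁻¹ (conjD N E g⁻¹ x))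
    rw [mul_inv_rev, conjD_mul]

theorem smul_apply (g : E) (φ : IrrCharacter ↥(E ⊓ N)) (x : ↥(E ⊓ N)) :
    ((g • φ : IrrCharacter ↥(E ⊓ N)) : ↥(E ⊓ N) → ℂ) x = (φ : ↥(E ⊓ N) → ℂ) (conjD N E g⁻¹ x) :=
  rfl


theorem exists_invariant_constituent [Fintype ↥(E ⊓ N)] (p : ℕ) [Fact p.Prime] (ϑ : N → ℂ)
    (hϑ : IsCharacter N ϑ)
    (hinv : ∀ (g : G) (n : N), ϑ ⟨g * n * g⁻¹, hN.conj_mem (n : G) n.2 g⟩ = ϑ n)
    (hE : Cfsg.IsElementary p E) (ψ : E → ℂ) (hψ : IsCharacter E ψ) (T : ℕ)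
    (hT : classInner (fun d : ↥(E ⊓ N) => ψ ⟨d, d.2.1⟩ * ϑ ⟨d, d.2.2⟩)
      (fun d : ↥(E ⊓ N) => ϑ ⟨d, d.2.2⟩) = T)
    (hpT : ¬ p ∣ T) :
    ∃ φ : ↥(E ⊓ N) → ℂ, IsIrrCharacter ↥(E ⊓ N) φ ∧
      (∀ (g : G) (hg : g ∈ E) (x : ↥(E ⊓ N)), φ ⟨g * x * g⁻¹,
        ⟨E.mul_mem (E.mul_mem hg x.2.1) (E.inv_mem hg), hN.conj_mem (x : G) x.2.2 g⟩⟩ = φ x) ∧
      ∃ m : ℕ, ¬ p ∣ m ∧ classInner (fun d : ↥(E ⊓ N) => ϑ ⟨d, d.2.2⟩) φ = m := by
  classical
  have hp : p.Prime := Fact.out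
  let ϑD : ↥(E ⊓ N) → ℂ := fun d => ϑ ⟨d, d.2.2⟩
  let ψD : ↥(E ⊓ N) → ℂ := fun d => ψ ⟨d, d.2.1⟩
  have hϑD : IsCharacter ↥(E ⊓ N) ϑD :=
    IsCharacter.comp (Subgroup.inclusion (inf_le_right : E ⊓ N ≤ N)) hϑ
  have hψD : IsCharacter ↥(E ⊓ N) ψD :=
    IsCharacter.comp (Subgroup.inclusion (inf_le_left : E ⊓ N ≤ E)) hψ
  have : Fintype (IrrCharacter ↥(E ⊓ N)) := Fintype.ofFinite _
  have hϑinv : ∀ (g : E) (x : ↥(E ⊓ N)), ϑD (conjD N E g x) = ϑD x := by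
    intro g x
    exact hinv (g : G) ⟨x, x.2.2⟩
  have hψinv : ∀ (g : E) (x : ↥(E ⊓ N)), ψD (conjD N E g x) = ψD x := by
    intro g x
    have h1 := IsCharacter.isClassFunction hψ ⟨x, x.2.1⟩ g
    have h2 : g * ⟨x, x.2.1⟩ * g⁻¹ = (⟨(conjD N E g x : ↥(E ⊓ N)), (conjD N E g x).2.1⟩ : E) :=
      Subtype.ext rfl
    rw [h2] at h1
    exact h1
  have ha : ∀ φ : IrrCharacter ↥(E ⊓ N), ∃ n : ℕ, classInner ϑD (φ : ↥(E ⊓ N) → ℂ) = n :=
    fun φ => IsCharacter.classInner_nat hϑD (IsIrrCharacter.isCharacter φ.2)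
  choose a ha using ha
  have hb : ∀ φ : IrrCharacter ↥(E ⊓ N), ∃ n : ℕ,
      classInner (ψD * (φ : ↥(E ⊓ N) → ℂ)) ϑD = n :=
    fun φ => IsCharacter.classInner_nat (IsCharacter.mul hψD (IsIrrCharacter.isCharacter φ.2)) hϑD
  choose b hb using hb
  have ha_inv : ∀ (g : E) (φ : IrrCharacter ↥(E ⊓ N)), a (g • φ) = a φ := by
    intro g φ
    have h1 : (a (g • φ) : ℂ) = a φ := by
      rw [← ha, ← ha]
      have h2 := classInner_comp_mulEquiv (conjD N E g⁻¹) ϑD (φ : ↥(E ⊓ N) → ℂ)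
      rw [← h2]
      congr 1
      funext x
      exact (hϑinv g⁻¹ x).symm
    exact_mod_cast h1
  have hb_inv : ∀ (g : E) (φ : IrrCharacter ↥(E ⊓ N)), b (g • φ) = b φ := by
    intro g φ
    have h1 : (b (g • φ) : ℂ) = b φ := by
      rw [← hb, ← hb]
      have h2 := classInner_comp_mulEquiv (conjD N E g⁻¹) (ψD * (φ : ↥(E ⊓ N) → ℂ)) ϑD
      rw [← h2]
      congr 1
      · funext x
        simp only [Pi.mul_apply]
        rw [hψinv g⁻¹ x]
        rfl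
      · funext x
        exact (hϑinv g⁻¹ x).symm
    exact_mod_cast h1
  have hTsum : T = ∑ φ : IrrCharacter ↥(E ⊓ N), a φ * b φ := by
    have h1 := classFunction_eq_sum ϑD (IsCharacter.isClassFunction hϑD)
    have h2 : (fun d : ↥(E ⊓ N) => ψ ⟨d, d.2.1⟩ * ϑ ⟨d, d.2.2⟩)
        = ∑ φ : IrrCharacter ↥(E ⊓ N), (a φ : ℂ) • (ψD * (φ : ↥(E ⊓ N) → ℂ)) := by
      funext d
      have h3 := congrFun h1 d
      change ψD d * ϑD d = _
      rw [h3]
      simp only [Finset.sum_apply, Pi.smul_apply, Pi.mul_apply, smul_eq_mul, Finset.mul_sum, ha]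
      apply Finset.sum_congr rfl
      intro φ _
      ring
    have h4 : (T : ℂ) = ((∑ φ : IrrCharacter ↥(E ⊓ N), a φ * b φ : ℕ) : ℂ) := by
      rw [← hT, h2, classInner_sum_left]
      push_cast
      apply Finset.sum_congr rfl
      intro φ _
      rw [classInner_smul_left, hb]
    exact_mod_cast h4
  -- Sylow subgroup
  let S : Sylow p E := default
  have hW := sum_modEq_sum_fixedPoints (S := (S : Subgroup E)) (X := IrrCharacter ↥(E ⊓ N)) p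
    S.isPGroup' (fun φ => a φ * b φ) (by
      intro s φ
      change a ((s : E) • φ) * b ((s : E) • φ) = _
      rw [ha_inv, hb_inv])
  have hex : ∃ φ : IrrCharacter ↥(E ⊓ N), φ ∈ fixedPoints (S : Subgroup E) (IrrCharacter ↥(E ⊓ N))
      ∧ ¬ p ∣ a φ := by
    by_contra hcon
    push Not at hcon
    apply hpT
    rw [hTsum]
    have h0 : ∑ x ∈ Finset.univ.filter
        (· ∈ fixedPoints (S : Subgroup E) (IrrCharacter ↥(E ⊓ N))), a x * b x ≡ 0 [MOD p] := by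
      rw [Nat.modEq_zero_iff_dvd]
      apply Finset.dvd_sum
      intro φ hφ
      exact Dvd.dvd.mul_right (hcon φ (Finset.mem_filter.1 hφ).2) _
    exact (Nat.modEq_zero_iff_dvd).1 (hW.trans h0)
  obtain ⟨φ, hφfix, hφa⟩ := hex
  refine ⟨φ.1, φ.2, ?_, a φ, hφa, ha φ⟩
  -- invariance under all of E
  obtain ⟨x₀, hx₀c, hx₀p, k, hk⟩ := hE
  have hCcard : Nat.card (Subgroup.zpowers x₀) = orderOf x₀ := Nat.card_zpowers x₀
  obtain ⟨hcompl, _⟩ := isComplement'_sylow (Subgroup.zpowers x₀)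
    (by rw [hCcard]; exact hx₀p) hk S
  rw [Subgroup.isComplement'_def] at hcompl
  intro g hg x
  obtain ⟨⟨c, s⟩, hcs, _⟩ := hcompl.existsUnique (⟨g, hg⟩ : E)
  simp only at hcs
  have hcc : ∀ z : E, (c : E) * z = z * c := by
    intro z
    obtain ⟨i, hi⟩ := Subgroup.mem_zpowers_iff.1 c.2
    have h1 : Commute x₀ z := (Subgroup.mem_center_iff.1 hx₀c z).symm
    rw [← hi]
    exact (h1.zpow_left i)
  have hfix := hφfix ⟨s⁻¹, (S : Subgroup E).inv_mem s.2⟩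
  have h5 : ((⟨s⁻¹, (S : Subgroup E).inv_mem s.2⟩ : (S : Subgroup E)) • φ
      : IrrCharacter ↥(E ⊓ N)) = ((s : E)⁻¹ • φ : IrrCharacter ↥(E ⊓ N)) := rfl
  rw [h5] at hfix
  have h6 := congrArg (fun ξ : IrrCharacter ↥(E ⊓ N) => (ξ : ↥(E ⊓ N) → ℂ) x) hfix
  simp only [smul_apply, inv_inv] at h6
  rw [← h6]
  apply congrArg
  apply Subtype.ext
  rw [conjD_coe]
  have h7 : g = ((c : E) : G) * ((s : E) : G) := by
    have := congrArg (fun z : E => (z : G)) hcs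
    simpa using this.symm
  have h8 : ((c : E) : G) * (((s : E) : G) * (x : G) * ((s : E) : G)⁻¹)
      = (((s : E) : G) * (x : G) * ((s : E) : G)⁻¹) * ((c : E) : G) := by
    have := congrArg (fun z : E => (z : G)) (hcc ((s : E) * ⟨x, x.2.1⟩ * (s : E)⁻¹))
    simpa using this
  change g * (x : G) * g⁻¹ = _
  rw [h7]
  calc ((c : E) : G) * ((s : E) : G) * (x : G) * (((c : E) : G) * ((s : E) : G))⁻¹
      = ((c : E) : G) * (((s : E) : G) * (x : G) * ((s : E) : G)⁻¹) * ((c : E) : G)⁻¹ := by group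
    _ = (((s : E) : G) * (x : G) * ((s : E) : G)⁻¹) * ((c : E) : G) * ((c : E) : G)⁻¹ := by
        rw [h8]
    _ = ((s : E) : G) * (x : G) * ((s : E) : G)⁻¹ := by group

end C

end Cfsg.Agent.Lib.Helper3.Dade
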