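import Mathlib
import Cfsg.Prelude.Def_Characters
import Cfsg.Agent.Lib.Helper6.CliffordStab
import Cfsg.Agent.Lib.Helper6.CliffordDeg
import Cfsg.Agent.S0174

set_option autoImplicit false

namespace Cfsg.Agent.Lib.Helper3.GoingDown

open Cfsg.Agent.Lib.Helper6

/-- **Clifford, regular orbit case.** If the stabilizer of the constituent `φ` of `ϑ_N` is `N`
itself, then `ϑ_N` is the sum of `|G : N|` distinct irreducible characters. -/
theorem restrict_eq_sum_of_stab_eq {G : Type*} [Group G] [Fintype G] (N : Subgroup G) [Fintype N]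
    (hN : N.Normal) {ϑ : G → ℂ} (hϑ : Cfsg.IsIrrCharacter G ϑ) {φ : N → ℂ}
    (hφ : Cfsg.IsIrrCharacter N φ) (hc : Cfsg.classInner (fun n : N => ϑ n) φ ≠ 0)
    (hstab : ∀ g : G, conjFun N hN φ g = φ → g ∈ N) :
    ∃ F : Finset (N → ℂ), (∀ ψ ∈ F, Cfsg.IsIrrCharacter N ψ) ∧ F.card = N.index ∧
      (fun n : N => ϑ n) = ∑ ψ ∈ F, ψ := by
  classical
  have hφcf := IsIrrCharacter.isClassFunction hφ
  -- the map from cosets to conjugates
  let Φ : G ⧸ N → (N → ℂ) := fun c => Quotient.liftOn' c (fun g => conjFun N hN φ g) (by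
    intro a b hab
    rw [QuotientGroup.leftRel_apply] at hab
    have h1 : b = a * (a⁻¹ * b) := by group
    show conjFun N hN φ a = conjFun N hN φ b
    rw [h1, ← conjFun_conjFun]
    exact (conjFun_of_mem N hN
      (IsIrrCharacter.isClassFunction (IsIrrCharacter.conjFun N hN hφ a)) hab).symm)
  have hΦmk : ∀ g : G, Φ (QuotientGroup.mk g) = conjFun N hN φ g := fun g => rfl
  have hΦinj : Function.Injective Φ := by
    intro c₁ c₂
    induction c₁ using QuotientGroup.induction_on with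
    | H a =>
    induction c₂ using QuotientGroup.induction_on with
    | H b =>
    intro h
    rw [hΦmk, hΦmk] at h
    have h1 : conjFun N hN φ (a * b⁻¹) = φ := by
      rw [← conjFun_conjFun, h, conjFun_conjFun, mul_inv_cancel, conjFun_one]
    have h2 : a * b⁻¹ ∈ N := hstab _ h1
    rw [QuotientGroup.eq]
    have h3 : a⁻¹ * b = a⁻¹ * (a * b⁻¹)⁻¹ * a⁻¹⁻¹ := by group
    rw [h3]
    exact hN.conj_mem _ (N.inv_mem h2) _
  have : Fintype (G ⧸ N) := Fintype.ofFinite _
  set F : Finset (N → ℂ) := Finset.univ.image Φ with hF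
  have hFcard : F.card = N.index := by
    rw [hF, Finset.card_image_of_injective _ hΦinj, Finset.card_univ, Subgroup.index_eq_card,
      Nat.card_eq_fintype_card]
  have hFmem : ∀ ψ, ψ ∈ F ↔ ∃ g : G, ψ = conjFun N hN φ g := by
    intro ψ
    rw [hF, Finset.mem_image]
    constructor
    · rintro ⟨c, _, rfl⟩
      induction c using QuotientGroup.induction_on with
      | H a => exact ⟨a, rfl⟩
    · rintro ⟨g, rfl⟩
      exact ⟨QuotientGroup.mk g, Finset.mem_univ _, rfl⟩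
  have hFirr : ∀ ψ ∈ F, Cfsg.IsIrrCharacter N ψ := by
    intro ψ hψ
    obtain ⟨g, rfl⟩ := (hFmem ψ).mp hψ
    exact IsIrrCharacter.conjFun N hN hφ g
  -- Clifford
  have hcl := Cfsg.Agent.S0174.result N hN ϑ hϑ φ hφ hc
  have hset : {ψ : N → ℂ | ∃ g : G, ψ = fun n : N => φ ⟨g * n * g⁻¹, hN.conj_mem n n.2 g⟩}
      = (↑F : Set (N → ℂ)) := by
    ext ψ
    rw [Finset.mem_coe, hFmem]
    rfl
  rw [hset, finsum_mem_coe_finset] at hcl
  -- ϑ is induced from φ
  obtain ⟨ψ, hψc, hψind⟩ := exists_indFun_eq_of_stab N hN N le_rfl ⟨φ, hφ⟩ hstab ⟨ϑ, hϑ⟩ hc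
  have hψeq : (ψ : N → ℂ) = φ := by
    by_contra hne
    apply hψc
    have h0 := classInner_isIrrCharacter ψ.2 hφ
    rw [if_neg hne] at h0
    exact h0
  have hdeg : ϑ 1 = (N.index : ℂ) * φ 1 := by
    have h1 : Cfsg.indFun N (ψ : N → ℂ) 1 = ϑ 1 := congrFun hψind 1
    rw [← h1, indFun_one, hψeq]
  -- evaluate Clifford at 1
  have hone : ∀ ψ ∈ F, ψ 1 = φ 1 := by
    intro ψ hψ
    obtain ⟨g, rfl⟩ := (hFmem ψ).mp hψ
    exact conjFun_apply_one N hN φ g
  have h1 := congrFun hcl 1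
  simp only [Pi.smul_apply, smul_eq_mul, Finset.sum_apply] at h1
  rw [Finset.sum_congr rfl hone, Finset.sum_const, hFcard, nsmul_eq_mul] at h1
  have h2 : ϑ ((1 : N) : G) = ϑ 1 := rfl
  rw [h2, hdeg] at h1
  have hne : (N.index : ℂ) * φ 1 ≠ 0 := by
    apply mul_ne_zero
    · have : N.index ≠ 0 := Subgroup.index_ne_zero_of_finite
      exact_mod_cast this
    · exact IsIrrCharacter.apply_one_ne_zero hφ
  have he : Cfsg.classInner (fun n : N => ϑ n) φ = 1 := by
    have h3 : (1 : ℂ) * ((N.index : ℂ) * φ 1)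
        = Cfsg.classInner (fun n : N => ϑ n) φ * ((N.index : ℂ) * φ 1) := by
      rw [one_mul]; exact h1
    exact (mul_right_cancel₀ hne h3).symm
  refine ⟨F, hFirr, hFcard, ?_⟩
  rw [hcl, he, one_smul]

end Cfsg.Agent.Lib.Helper3.GoingDown
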