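import Mathlib
import Cfsg.Agent.S0857
import Cfsg.Agent.Lib.Helper6.CliffordStab
import Cfsg.Agent.Lib.Helper6.Ramified
import Cfsg.Agent.Lib.Helper6.MGroup
import Cfsg.Agent.Lib.Helper6.IndCharComb
import Cfsg.Agent.Lib.Helper6.Ito
import Cfsg.Agent.Lib.Helper6.Orthogonality
import Cfsg.Agent.Lib.Helper6.IrrBasis

set_option autoImplicit false
set_option linter.unusedSectionVars false

namespace Cfsg.Agent.Lib.Helper3.RelM
open Cfsg Cfsg.Agent.Lib.Helper6

variable {G : Type*} [Group G]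

theorem commutator_sup_le (A L : Subgroup G) [L.Normal] :
    ⁅A ⊔ L, A ⊔ L⁆ ≤ ⁅A, A⁆ ⊔ L := by
  have h1 : (A ⊔ L).map (QuotientGroup.mk' L) = A.map (QuotientGroup.mk' L) := by
    rw [Subgroup.map_sup]
    have : L.map (QuotientGroup.mk' L) = ⊥ := by
      rw [Subgroup.map_eq_bot_iff, QuotientGroup.ker_mk']
    rw [this, sup_bot_eq]
  have h2 : (⁅A ⊔ L, A ⊔ L⁆).map (QuotientGroup.mk' L) ≤ (⁅A, A⁆).map (QuotientGroup.mk' L) := by
    rw [Subgroup.map_commutator, Subgroup.map_commutator, h1]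
  rw [Subgroup.map_le_map_iff, QuotientGroup.ker_mk'] at h2
  exact h2

/-- chief factor of solvable quotient is abelian -/
theorem commutator_le_of_chief (N : Subgroup G) [N.Normal] (hsolv : Group.IsSolvable (G ⧸ N))
    (K L : Subgroup G) [K.Normal] [L.Normal] (hNL : N ≤ L) (hLK : L < K)
    (hchief : ∀ M : Subgroup G, M.Normal → L ≤ M → M ≤ K → M = L ∨ M = K) :
    ⁅K, K⁆ ≤ L := by
  have hMn : (⁅K, K⁆ ⊔ L).Normal := inferInstance
  rcases hchief (⁅K, K⁆ ⊔ L) hMn le_sup_right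
    (sup_le (Subgroup.commutator_le_left K K) hLK.le) with h | h
  · rw [← h]; exact le_sup_left
  · exfalso
    obtain ⟨n, hn⟩ := hsolv.solvable
    have hD : derivedSeries G n ≤ N := by
      have h1 := map_derivedSeries_eq (f := QuotientGroup.mk' N) (QuotientGroup.mk'_surjective N) n
      rw [hn, Subgroup.map_eq_bot_iff, QuotientGroup.ker_mk'] at h1
      exact h1
    have key : ∀ m, K ≤ derivedSeries G m ⊔ L := by
      intro m
      induction m with
      | zero => simp [derivedSeries_zero]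
      | succ m ih =>
        rw [derivedSeries_succ]
        calc K = ⁅K, K⁆ ⊔ L := h.symm
          _ ≤ ⁅derivedSeries G m ⊔ L, derivedSeries G m ⊔ L⁆ ⊔ L :=
              sup_le_sup_right (Subgroup.commutator_mono ih ih) L
          _ ≤ (⁅derivedSeries G m, derivedSeries G m⁆ ⊔ L) ⊔ L :=
              sup_le_sup_right (commutator_sup_le _ L) L
          _ = ⁅derivedSeries G m, derivedSeries G m⁆ ⊔ L := by
              rw [sup_assoc, sup_idem]
    have : K ≤ L := (key n).trans (sup_le (hD.trans hNL) le_rfl)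
    exact absurd this (not_le_of_gt hLK)


section step
variable [Fintype G]

theorem isIrrCharacter_top_restrict {χ : G → ℂ} (hχ : IsIrrCharacter G χ) :
    IsIrrCharacter (⊤ : Subgroup G) (fun k : (⊤ : Subgroup G) => χ k) :=
  IsIrrCharacter.comp_mulEquiv (Subgroup.topEquiv : (⊤ : Subgroup G) ≃* G) hχ

/-- One step of Isaacs 6.22. -/
theorem exists_proper_induced (N : Subgroup G) [N.Normal] (hsolv : Group.IsSolvable (G ⧸ N))
    (hchief : ∀ (K L : Subgroup G), K.Normal → L.Normal → N ≤ L → L < K →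
      (∀ M : Subgroup G, M.Normal → L ≤ M → M ≤ K → M = L ∨ M = K) → ¬ IsSquare (L.relIndex K))
    (χ : G → ℂ) (hχ : IsIrrCharacter G χ)
    (hnot : ¬ IsIrrCharacter N (fun n : N => χ n)) :
    ∃ (T : Subgroup G), N ≤ T ∧ T ≠ ⊤ ∧ ∃ ψ : T → ℂ, IsIrrCharacter T ψ ∧ indFun T ψ = χ := by
  classical
  have hχcf : IsClassFunction G χ := IsIrrCharacter.isClassFunction hχ
  -- minimal K
  let S : Set (Subgroup G) := {K | K.Normal ∧ N ≤ K ∧ IsIrrCharacter K (fun k : K => χ k)}
  have hSne : S.Nonempty := ⟨⊤, inferInstance, le_top, isIrrCharacter_top_restrict hχ⟩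
  obtain ⟨K, hKmin⟩ := (Set.toFinite S).exists_minimal hSne
  obtain ⟨⟨hKn, hNK, hKirr⟩, hKle⟩ := hKmin
  have hNK' : N < K := by
    refine lt_of_le_of_ne hNK ?_
    intro h
    subst h
    exact hnot hKirr
  -- maximal L
  let S' : Set (Subgroup G) := {L | L.Normal ∧ N ≤ L ∧ L < K}
  have hS'ne : S'.Nonempty := ⟨N, inferInstance, le_rfl, hNK'⟩
  obtain ⟨L, hLmax⟩ := (Set.toFinite S').exists_maximal hS'ne
  obtain ⟨⟨hLn, hNL, hLK⟩, hLge⟩ := hLmax
  have hch : ∀ M : Subgroup G, M.Normal → L ≤ M → M ≤ K → M = L ∨ M = K := by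
    intro M hMn hLM hMK
    by_cases hMK' : M = K
    · exact Or.inr hMK'
    · left
      have : M ∈ S' := ⟨hMn, hNL.trans hLM, lt_of_le_of_ne hMK hMK'⟩
      exact le_antisymm (hLge this hLM) hLM
  have hLirr : ¬ IsIrrCharacter L (fun k : L => χ k) := by
    intro h
    have h1 : L ∈ S := ⟨hLn, hNL, h⟩
    have h2 := hKle h1 hLK.le
    exact absurd h2 (not_le_of_gt hLK)
  have hab : ⁅K, K⁆ ≤ L := by
    have := hKn
    have := hLn
    exact commutator_le_of_chief N hsolv K L hNL hLK hch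
  have hsq := hchief K L hKn hLn hNL hLK hch
  have hinv : ∀ (g : G) (n : K), (fun k : K => χ k) ⟨g * n * g⁻¹, hKn.conj_mem (n : G) n.2 g⟩
      = (fun k : K => χ k) n := by
    intro g n
    exact hχcf n g
  have := hKn
  have := hLn
  rcases Cfsg.Agent.S0857.result K L hLK hch hab (fun k : K => χ k) hKirr hinv with h | h | h
  · exact absurd h hLirr
  · obtain ⟨φ, e, _, _, he⟩ := h
    exfalso
    apply hsq
    exact ⟨e, by rw [← he]; ring⟩
  · obtain ⟨F, hF, hFc, hsum⟩ := h
    have hsum' : (fun x : L => χ x) = ∑ φ ∈ F, φ := hsum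
    have h2 : 1 < F.card := by
      rw [hFc]
      have h0 : L.relIndex K ≠ 0 := by
        have : (L.subgroupOf K).index ≠ 0 := Subgroup.index_ne_zero_of_finite
        exact this
      have h1 : L.relIndex K ≠ 1 := by
        intro h
        rw [Subgroup.relIndex_eq_one] at h
        exact absurd h (not_le_of_gt hLK)
      omega
    obtain ⟨φ₁, hφ₁, φ₂, hφ₂, hne⟩ := Finset.one_lt_card.1 h2
    have hin : ∀ φ ∈ F, classInner (fun x : L => χ x) φ = 1 := by
      intro φ hφ
      rw [hsum', classInner_sum_left]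
      rw [Finset.sum_eq_single φ]
      · rw [classInner_isIrrCharacter (hF φ hφ) (hF φ hφ), if_pos rfl]
      · intro b hb hbφ
        rw [classInner_isIrrCharacter (hF b hb) (hF φ hφ), if_neg hbφ]
      · intro h; exact absurd hφ h
    have hφ₁i := hF φ₁ hφ₁
    have hφ₂i := hF φ₂ hφ₂
    let T := inertia L hLn φ₁
    have hLT : L ≤ T := le_inertia L hLn (IsIrrCharacter.isClassFunction hφ₁i)
    have hc1 : classInner (fun n : L => χ n) φ₁ ≠ 0 := by
      rw [hin φ₁ hφ₁]; exact one_ne_zero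
    obtain ⟨ψ, _, hψ⟩ := exists_indFun_eq_of_stab L hLn T hLT ⟨φ₁, hφ₁i⟩
      (fun g hg => hg) ⟨χ, hχ⟩ hc1
    refine ⟨T, hNL.trans hLT, ?_, ψ.1, ψ.2, hψ⟩
    intro hT
    have hinv1 : ∀ g : G, conjFun L hLn φ₁ g = φ₁ := by
      intro g
      have : g ∈ T := by rw [hT]; trivial
      exact this
    have h3 := restrict_eq_smul_of_invariant L hLn hχ hφ₁i hinv1 hc1
    have h4 := hin φ₂ hφ₂
    rw [h3, classInner_smul_left, classInner_isIrrCharacter hφ₁i hφ₂i, if_neg hne, mul_zero] at h4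
    exact zero_ne_one h4

end step

end Cfsg.Agent.Lib.Helper3.RelM
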