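import Mathlib
import Cfsg.Agent.Lib.Helper3.RelM1

set_option autoImplicit false
set_option linter.unusedSectionVars false

namespace Cfsg.Agent.Lib.Helper3.RelM
open Cfsg Cfsg.Agent.Lib.Helper6

variable {G : Type*} [Group G]

theorem solvable_subgroupOf_quot (N H : Subgroup G) [N.Normal]
    (hsolv : Group.IsSolvable (G ⧸ N)) : Group.IsSolvable (H ⧸ N.subgroupOf H) := by
  let f : H ⧸ N.subgroupOf H →* G ⧸ N :=
    QuotientGroup.map (N.subgroupOf H) N H.subtype (fun x hx => hx)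
  have hf : Function.Injective f := by
    rw [injective_iff_map_eq_one]
    intro x
    induction x using QuotientGroup.induction_on with
    | H y =>
      intro hy
      have h1 : f (QuotientGroup.mk y) = QuotientGroup.mk (y : G) := rfl
      rw [h1, QuotientGroup.eq_one_iff] at hy
      rw [QuotientGroup.eq_one_iff]
      exact hy
  exact Group.isSolvable_of_isSolvable_injective hf

variable [Fintype G]

theorem relM_main (N : Subgroup G) [N.Normal] (hsolv : Group.IsSolvable (G ⧸ N))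
    (hchief : ∀ (H K L : Subgroup G), N ≤ L → L < K → K ≤ H →
      (∀ h ∈ H, ∀ k ∈ K, h * k * h⁻¹ ∈ K) → (∀ h ∈ H, ∀ l ∈ L, h * l * h⁻¹ ∈ L) →
      (∀ M : Subgroup G, L ≤ M → M ≤ K → (∀ h ∈ H, ∀ m ∈ M, h * m * h⁻¹ ∈ M) → M = L ∨ M = K) →
      ¬ IsSquare (L.relIndex K))
    (χ : G → ℂ) (hχ : Cfsg.IsIrrCharacter G χ) :
    ∃ (H : Subgroup G) (hNH : N ≤ H) (ψ : H → ℂ), Cfsg.IsIrrCharacter H ψ ∧
      Cfsg.indFun H ψ = χ ∧ Cfsg.IsIrrCharacter N (fun n : N => ψ ⟨(n : G), hNH n.2⟩) := by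
  classical
  let S : Set (Subgroup G) := {H | N ≤ H ∧ ∃ ψ : H → ℂ, IsIrrCharacter H ψ ∧ indFun H ψ = χ}
  have hSne : S.Nonempty :=
    ⟨⊤, le_top, fun k => χ k, isIrrCharacter_top_restrict hχ,
      indFun_top (IsIrrCharacter.isClassFunction hχ)⟩
  obtain ⟨H, hHmin⟩ := (Set.toFinite S).exists_minimal hSne
  obtain ⟨⟨hNH, ψ, hψ, hind⟩, hHle⟩ := hHmin
  refine ⟨H, hNH, ψ, hψ, hind, ?_⟩
  by_contra hnot
  -- apply the step lemma inside H
  have hsolvH := solvable_subgroupOf_quot N H hsolv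
  have hnot' : ¬ IsIrrCharacter (N.subgroupOf H) (fun n : N.subgroupOf H => ψ n) := by
    intro h
    apply hnot
    have := IsIrrCharacter.comp_mulEquiv (Subgroup.subgroupOfEquivOfLe hNH).symm h
    convert this using 1
    funext n
    congr 1
  have hchiefH : ∀ (K' L' : Subgroup H), K'.Normal → L'.Normal → N.subgroupOf H ≤ L' → L' < K' →
      (∀ M : Subgroup H, M.Normal → L' ≤ M → M ≤ K' → M = L' ∨ M = K') →
      ¬ IsSquare (L'.relIndex K') := by
    intro K' L' hK'n hL'n hNL' hLK' hch'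
    have hrel := Subgroup.relIndex_map_map_of_injective L' K' H.subtype_injective
    rw [← hrel]
    apply hchief H (K'.map H.subtype) (L'.map H.subtype)
    · intro n hn
      exact ⟨⟨n, hNH hn⟩, hNL' (Subgroup.mem_subgroupOf.2 hn), rfl⟩
    · exact Subgroup.map_subtype_lt_map_subtype.2 hLK'
    · exact Subgroup.map_subtype_le K'
    · rintro h hh _ ⟨k, hk, rfl⟩
      exact ⟨⟨h, hh⟩ * k * ⟨h, hh⟩⁻¹, hK'n.conj_mem k hk ⟨h, hh⟩, rfl⟩
    · rintro h hh _ ⟨k, hk, rfl⟩
      exact ⟨⟨h, hh⟩ * k * ⟨h, hh⟩⁻¹, hL'n.conj_mem k hk ⟨h, hh⟩, rfl⟩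
    · intro M hLM hMK hMinv
      have hMH : M ≤ H := hMK.trans (Subgroup.map_subtype_le K')
      have hMn : (M.subgroupOf H).Normal := by
        constructor
        intro m hm h
        rw [Subgroup.mem_subgroupOf] at hm ⊢
        exact hMinv h h.2 m hm
      have hMeq : (M.subgroupOf H).map H.subtype = M := Subgroup.map_subgroupOf_eq_of_le hMH
      have h1 : L' ≤ M.subgroupOf H := by
        rw [← Subgroup.map_subtype_le_map_subtype, hMeq]; exact hLM
      have h2 : M.subgroupOf H ≤ K' := by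
        rw [← Subgroup.map_subtype_le_map_subtype, hMeq]; exact hMK
      rcases hch' _ hMn h1 h2 with h | h
      · left; rw [← hMeq, h]
      · right; rw [← hMeq, h]
  obtain ⟨T', hNT', hT'top, ξ, hξ, hξind⟩ :=
    exists_proper_induced (N.subgroupOf H) hsolvH hchiefH ψ hψ hnot'
  have htrans := indFun_indFun_map H T' ξ
  rw [hξind, hind] at htrans
  have hTS : T'.map H.subtype ∈ S := by
    refine ⟨?_, _, ?_, htrans.symm⟩
    · intro n hn
      exact ⟨⟨n, hNH hn⟩, hNT' (Subgroup.mem_subgroupOf.2 hn), rfl⟩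
    · exact IsIrrCharacter.comp_mulEquiv
        (Subgroup.equivMapOfInjective T' H.subtype Subtype.coe_injective).symm hξ
  have h3 := hHle hTS (Subgroup.map_subtype_le T')
  apply hT'top
  rw [eq_top_iff]
  intro x _
  obtain ⟨y, hy, hyx⟩ := h3 x.2
  have : y = x := Subtype.ext hyx
  rw [← this]; exact hy

end Cfsg.Agent.Lib.Helper3.RelM
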