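import Mathlib
import Cfsg.Agent.Lib.Helper3.RelM2
import Cfsg.Agent.Lib.Helper6.Extraspecial
import Cfsg.Agent.Lib.Helper6.CharBasic
import Cfsg.Agent.Lib.Helper6.Norm
import Cfsg.Agent.Lib.Helper6.CharOps
import Cfsg.Agent.Lib.Helper6.Mult
import Cfsg.Agent.Lib.Helper6.BlkKer
import Cfsg.Agent.Lib.Helper6.Linear
import Cfsg.Agent.S0146

set_option autoImplicit false
set_option linter.unusedSectionVars false

namespace Cfsg.Agent.Lib.Helper3.RelM
open Cfsg Cfsg.Agent.Lib.Helper6
open scoped ComplexConjugate

section lin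
variable {M : Type*} [Group M] [Fintype M]

/-- an irreducible character trivial on the commutator subgroup is linear -/
theorem apply_one_eq_one_of_commutator {θ : M → ℂ} (hθ : IsIrrCharacter M θ)
    (h : ∀ z ∈ commutator M, θ z = θ 1) : θ 1 = 1 := by
  obtain ⟨n, ρ, hirr, rfl⟩ := hθ
  have := hirr
  have h1 : ∀ z ∈ commutator M, ρ z = 1 := by
    intro z hz
    have h2 := h z hz
    rw [Representation.char_one] at h2
    exact (character_eq_finrank_iff ρ z).mp h2
  have h3 := finrank_eq_one_of_commutator_le_ker ρ h1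
  rw [Representation.char_one, h3]
  simp

theorem classInner_self_ne_zero {f : M → ℂ} {g₀ : M} (h : f g₀ ≠ 0) : classInner f f ≠ 0 := by
  unfold classInner
  apply mul_ne_zero
  · apply inv_ne_zero
    exact_mod_cast (Nat.card_pos (α := M)).ne'
  · have h1 : ∑ g : M, f g * conj (f g) = ((∑ g : M, Complex.normSq (f g) : ℝ) : ℂ) := by
      push_cast
      apply Finset.sum_congr rfl
      intro g _
      rw [Complex.mul_conj]
    rw [h1]
    intro h0
    have h2 : (∑ g : M, Complex.normSq (f g)) = 0 := by exact_mod_cast h0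
    rw [Finset.sum_eq_zero_iff_of_nonneg (fun g _ => Complex.normSq_nonneg _)] at h2
    have h3 := h2 g₀ (Finset.mem_univ _)
    rw [Complex.normSq_eq_zero] at h3
    exact h h3

end lin

section R
variable {H : Type*} [Group H] [Fintype H]

theorem sum_ite_mem_subgroup (N : Subgroup H) [DecidablePred (· ∈ N)] [Fintype N] (f : H → ℂ) :
    ∑ h : H, (if h ∈ N then f h else 0) = ∑ n : N, f n := by
  rw [← Finset.sum_filter]
  symm
  exact (Finset.sum_subtype (Finset.univ.filter (fun h => h ∈ N)) (by simp) f).symm

/-- If `η^H` is irreducible and restricts irreducibly to the normal subgroup `N`, then `η` restricts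
irreducibly to `N ∩ T`. -/
theorem isIrrCharacter_restrict_of_indFun (N : Subgroup H) [N.Normal] (T : Subgroup H)
    (η : T → ℂ) (hη : IsIrrCharacter T η) (hψ : IsIrrCharacter H (indFun T η))
    (hres : IsIrrCharacter N (fun n : N => indFun T η n)) :
    IsIrrCharacter (N.subgroupOf T) (fun x : N.subgroupOf T => η x) := by
  classical
  set ψ := indFun T η with hψdef
  have hψcf : IsClassFunction H ψ := IsIrrCharacter.isClassFunction hψ
  let β : H → ℂ := fun h => if h ∈ N then ψ h else 0
  have hβcf : IsClassFunction H β := by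
    intro g h
    have hN : h * g * h⁻¹ ∈ N ↔ g ∈ N := by
      constructor
      · intro hh
        have := (inferInstance : N.Normal).conj_mem _ hh h⁻¹
        simpa [mul_assoc] using this
      · intro hg
        exact (inferInstance : N.Normal).conj_mem _ hg h
    simp only [β]
    rw [hψcf g h]
    by_cases hg : g ∈ N
    · rw [if_pos hg, if_pos (hN.2 hg)]
    · rw [if_neg hg, if_neg (fun hh => hg (hN.1 hh))]
  -- (1)
  have h1 : classInner ψ β = (Nat.card N : ℂ) / (Nat.card H : ℂ) := by
    have hnn : classInner (fun n : N => ψ n) (fun n : N => ψ n) = 1 := by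
      rw [classInner_isIrrCharacter hres hres, if_pos rfl]
    unfold classInner at hnn ⊢
    have h2 : ∑ g : H, ψ g * conj (β g) = ∑ n : N, ψ n * conj (ψ n) := by
      rw [← sum_ite_mem_subgroup N (fun h => ψ h * conj (ψ h))]
      apply Finset.sum_congr rfl
      intro g _
      simp only [β]
      by_cases hg : g ∈ N
      · rw [if_pos hg, if_pos hg]
      · rw [if_neg hg, if_neg hg, map_zero, mul_zero]
    rw [h2]
    have hN0 : (Nat.card N : ℂ) ≠ 0 := by exact_mod_cast (Nat.card_pos (α := N)).ne'
    have h3 : ∑ n : N, ψ n * conj (ψ n) = (Nat.card N : ℂ) := by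
      field_simp at hnn
      exact hnn
    rw [h3]
    ring
  -- (2)
  have h2 : classInner ψ β = (Nat.card (N.subgroupOf T) : ℂ) / (Nat.card T : ℂ)
      * classInner (fun x : N.subgroupOf T => η x) (fun x : N.subgroupOf T => ψ x) := by
    have hfr : classInner ψ β = _ := Cfsg.Agent.S0146.result T η β hβcf
    rw [hfr]
    unfold classInner
    have h3 : ∑ t : T, η t * conj (β t)
        = ∑ x : N.subgroupOf T, η x * conj (ψ ((x : T) : H)) := by
      rw [← sum_ite_mem_subgroup (N.subgroupOf T) (fun t : T => η t * conj (ψ (t : H)))]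
      apply Finset.sum_congr rfl
      intro t _
      simp only [β]
      by_cases ht : (t : H) ∈ N
      · rw [if_pos ht, if_pos (Subgroup.mem_subgroupOf.2 ht)]
      · rw [if_neg ht, if_neg (fun hh => ht (Subgroup.mem_subgroupOf.1 hh)), map_zero, mul_zero]
    rw [h3]
    have hN0 : (Nat.card (N.subgroupOf T) : ℂ) ≠ 0 := by
      exact_mod_cast (Nat.card_pos (α := N.subgroupOf T)).ne'
    field_simp
  -- (4)
  have hψch : IsCharacter H ψ := IsIrrCharacter.isCharacter hψ
  have hηch : IsCharacter T η := IsIrrCharacter.isCharacter hη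
  have h4 : classInner (fun t : T => ψ t) η ≠ 0 := by
    have hfr := Cfsg.Agent.S0146.result T η ψ hψcf
    rw [← hψdef, classInner_isIrrCharacter hψ hψ, if_pos rfl] at hfr
    rw [← classInner_conj_symm, ← hfr]
    simp
  obtain ⟨Δ, hΔ, hsum⟩ := IsCharacter.exists_eq_add_of_constituent
    (IsCharacter.restrict T hψch) hη h4
  -- (5)
  have hηr : IsCharacter (N.subgroupOf T) (fun x : N.subgroupOf T => η x) :=
    IsCharacter.restrict (N.subgroupOf T) hηch
  have hΔr : IsCharacter (N.subgroupOf T) (fun x : N.subgroupOf T => Δ x) :=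
    IsCharacter.restrict (N.subgroupOf T) hΔ
  obtain ⟨a, ha⟩ := IsCharacter.classInner_nat hηr hηr
  obtain ⟨b, hb⟩ := IsCharacter.classInner_nat hηr hΔr
  have h5 : classInner (fun x : N.subgroupOf T => η x) (fun x : N.subgroupOf T => ψ x)
      = (a : ℂ) + b := by
    have : (fun x : N.subgroupOf T => ψ x)
        = (fun x : N.subgroupOf T => η x) + (fun x : N.subgroupOf T => Δ x) := by
      funext x
      have := congrFun hsum (x : T)
      simpa using this
    rw [this, classInner_add_right, ha, hb]
  have ha1 : 1 ≤ a := by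
    rcases Nat.eq_zero_or_pos a with h0 | h0
    · exfalso
      rw [h0] at ha
      have hne : (fun x : N.subgroupOf T => η x) 1 ≠ 0 := by
        simpa using IsIrrCharacter.apply_one_ne_zero hη
      have ha' : classInner (fun x : N.subgroupOf T => η x) (fun x : N.subgroupOf T => η x) = 0 := by
        rw [ha]; simp
      exact classInner_self_ne_zero (f := fun x : N.subgroupOf T => η x) (g₀ := 1) hne ha'
    · exact h0
  -- (6)
  have hcard : Nat.card N * Nat.card T ≤ Nat.card H * Nat.card (N.subgroupOf T) := by
    have e1 : Nat.card T = Nat.card (N.subgroupOf T) * N.relIndex T :=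
      ((N.subgroupOf T).card_mul_index).symm
    have e2 : Nat.card H = Nat.card N * N.index := (N.card_mul_index).symm
    have e3 : N.relIndex T ≤ N.index :=
      Nat.le_of_dvd (Nat.pos_of_ne_zero Subgroup.index_ne_zero_of_finite)
        (Subgroup.relIndex_dvd_index_of_normal N T)
    rw [e1, e2]
    calc Nat.card N * (Nat.card (N.subgroupOf T) * N.relIndex T)
        = Nat.card N * Nat.card (N.subgroupOf T) * N.relIndex T := by ring
      _ ≤ Nat.card N * Nat.card (N.subgroupOf T) * N.index := Nat.mul_le_mul_left _ e3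
      _ = Nat.card N * N.index * Nat.card (N.subgroupOf T) := by ring
  have hab1 : (a + b) * (Nat.card H * Nat.card (N.subgroupOf T)) = Nat.card N * Nat.card T := by
    have hH0 : (Nat.card H : ℂ) ≠ 0 := by exact_mod_cast (Nat.card_pos (α := H)).ne'
    have hT0 : (Nat.card T : ℂ) ≠ 0 := by exact_mod_cast (Nat.card_pos (α := T)).ne'
    have h6 : (Nat.card N : ℂ) / (Nat.card H : ℂ)
        = (Nat.card (N.subgroupOf T) : ℂ) / (Nat.card T : ℂ) * ((a : ℂ) + b) := by
      rw [← h1, h2, h5]
    field_simp at h6
    have h7 : (((a + b) * (Nat.card H * Nat.card (N.subgroupOf T)) : ℕ) : ℂ)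
        = ((Nat.card N * Nat.card T : ℕ) : ℂ) := by
      push_cast
      linear_combination -h6
    exact_mod_cast h7
  have hX : 0 < Nat.card H * Nat.card (N.subgroupOf T) :=
    Nat.mul_pos Nat.card_pos Nat.card_pos
  have hab2 : a + b ≤ 1 := by
    by_contra hh
    push Not at hh
    have : 2 * (Nat.card H * Nat.card (N.subgroupOf T))
        ≤ (a + b) * (Nat.card H * Nat.card (N.subgroupOf T)) := Nat.mul_le_mul_right _ hh
    omega
  have ha2 : a = 1 := by omega
  apply isIrrCharacter_of_classInner_self_eq_one hηr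
  rw [ha, ha2]
  simp

end R

end Cfsg.Agent.Lib.Helper3.RelM
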