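import Mathlib
import Cfsg.Agent.Lib.Helper3.Dade2
import Cfsg.Agent.Lib.Helper3.RelM3
import Cfsg.Agent.Lib.Helper6.IndFun

set_option autoImplicit false
set_option linter.unusedSectionVars false

namespace Cfsg.Agent.Lib.Helper3.Dade
open Cfsg Cfsg.Agent.Lib.Helper6 Cfsg.Agent.Lib.Helper3.RelM
open scoped ComplexConjugate

section A
variable {G : Type*} [Group G] [Fintype G]
variable (N : Subgroup G) [hN : N.Normal] (E : Subgroup G)

theorem sum_indFun_mul_normSq [Fintype N] [Fintype ↥(E ⊓ N)]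
    (ϑ : N → ℂ)
    (hinv : ∀ (g : G) (n : N), ϑ ⟨g * n * g⁻¹, hN.conj_mem (n : G) n.2 g⟩ = ϑ n)
    (ψ : E → ℂ) :
    ∑ n : N, indFun E ψ n * (ϑ n * conj (ϑ n))
      = (Nat.card G : ℂ) * (Nat.card E : ℂ)⁻¹ *
        ∑ d : ↥(E ⊓ N), ψ ⟨d, d.2.1⟩ * (ϑ ⟨d, d.2.2⟩ * conj (ϑ ⟨d, d.2.2⟩)) := by
  classical
  let w : G → ℂ := fun g => extendByZero N ϑ g * conj (extendByZero N ϑ g)
  have hwN : ∀ n : N, w n = ϑ n * conj (ϑ n) := by
    intro n
    simp only [w]
    rw [extendByZero_of_mem N ϑ n.2]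
  have hw0 : ∀ g : G, g ∉ N → w g = 0 := by
    intro g hg
    simp only [w]
    rw [extendByZero_of_not_mem N ϑ hg, zero_mul]
  have hwinv : ∀ g x : G, w (g * x * g⁻¹) = w x := by
    intro g x
    by_cases hx : x ∈ N
    · have h1 : g * x * g⁻¹ ∈ N := hN.conj_mem x hx g
      simp only [w]
      rw [extendByZero_of_mem N ϑ h1, extendByZero_of_mem N ϑ hx]
      rw [hinv g ⟨x, hx⟩]
    · have h1 : g * x * g⁻¹ ∉ N := by
        intro h2
        apply hx
        have := hN.conj_mem _ h2 g⁻¹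
        simpa [mul_assoc] using this
      rw [hw0 _ hx, hw0 _ h1]
  -- step 1
  have h1 : ∑ n : N, indFun E ψ n * (ϑ n * conj (ϑ n)) = ∑ x : G, indFun E ψ x * w x := by
    have e := sum_ite_mem_subgroup N (fun x => indFun E ψ x * w x)
    calc ∑ n : N, indFun E ψ n * (ϑ n * conj (ϑ n))
        = ∑ n : N, indFun E ψ n * w n := by
          apply Finset.sum_congr rfl
          intro n _
          rw [hwN]
      _ = ∑ x : G, (if x ∈ N then indFun E ψ x * w x else 0) := e.symm
      _ = ∑ x : G, indFun E ψ x * w x := by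
          apply Finset.sum_congr rfl
          intro x _
          by_cases hx : x ∈ N
          · rw [if_pos hx]
          · rw [if_neg hx, hw0 x hx, mul_zero]
  -- step 2
  have h2 : ∑ x : G, indFun E ψ x * w x
      = (Nat.card E : ℂ)⁻¹ * ∑ g : G, ∑ y : G, extendByZero E ψ y * w y := by
    have hx : ∀ x : G, indFun E ψ x * w x
        = (Nat.card E : ℂ)⁻¹ * ∑ g : G, extendByZero E ψ (g⁻¹ * x * g) * w x := by
      intro x
      unfold indFun
      rw [mul_assoc, Finset.sum_mul]
    rw [Finset.sum_congr rfl (fun x _ => hx x), ← Finset.mul_sum, Finset.sum_comm]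
    congr 1
    apply Finset.sum_congr rfl
    intro g _
    rw [← Equiv.sum_comp (MulAut.conj g).toEquiv (fun x => extendByZero E ψ (g⁻¹ * x * g) * w x)]
    apply Finset.sum_congr rfl
    intro y _
    simp only [MulEquiv.toEquiv_eq_coe, EquivLike.coe_coe, MulAut.conj_apply]
    have e1 : g⁻¹ * (g * y * g⁻¹) * g = y := by group
    rw [e1, hwinv]
  -- step 3
  have h3 : ∑ y : G, extendByZero E ψ y * w y
      = ∑ d : ↥(E ⊓ N), ψ ⟨d, d.2.1⟩ * (ϑ ⟨d, d.2.2⟩ * conj (ϑ ⟨d, d.2.2⟩)) := by
    have e := sum_ite_mem_subgroup (E ⊓ N) (fun y => extendByZero E ψ y * w y)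
    calc ∑ y : G, extendByZero E ψ y * w y
        = ∑ y : G, (if y ∈ E ⊓ N then extendByZero E ψ y * w y else 0) := by
          apply Finset.sum_congr rfl
          intro y _
          by_cases hy : y ∈ E ⊓ N
          · rw [if_pos hy]
          · rw [if_neg hy]
            by_cases hyE : y ∈ E
            · have : y ∉ N := fun h => hy ⟨hyE, h⟩
              rw [hw0 y this, mul_zero]
            · rw [extendByZero_of_not_mem E ψ hyE, zero_mul]
      _ = ∑ d : ↥(E ⊓ N), extendByZero E ψ d * w d := e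
      _ = _ := by
          apply Finset.sum_congr rfl
          intro d _
          rw [extendByZero_of_mem E ψ d.2.1]
          simp only [w]
          rw [extendByZero_of_mem N ϑ d.2.2]
  rw [h1, h2, Finset.sum_const, Finset.card_univ, nsmul_eq_mul, h3, ← Nat.card_eq_fintype_card]
  ring

end A

end Cfsg.Agent.Lib.Helper3.Dade
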