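import Mathlib
import Cfsg.Agent.Lib.Helper3.Dade3
import Cfsg.Agent.S0874

set_option autoImplicit false
set_option linter.unusedSectionVars false

namespace Cfsg.Agent.Lib.Helper3.Dade
open Cfsg Cfsg.Agent.Lib.Helper6 Cfsg.Agent.Lib.Helper3.RelM
open scoped ComplexConjugate

theorem list_sum_apply {α ι : Type*} (l : List ι) (F : ι → α → ℂ) (a : α) :
    (l.map F).sum a = (l.map fun t => F t a).sum := by
  induction l with
  | nil => simp
  | cons t l ih => simp [ih]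

theorem sum_list_sum {β ι : Type*} [Fintype β] (l : List ι) (F : ι → β → ℂ) :
    ∑ b, (l.map fun t => F t b).sum = (l.map fun t => ∑ b, F t b).sum := by
  induction l with
  | nil => simp
  | cons t l ih => simp [Finset.sum_add_distrib, ih]

section B
variable {G : Type*} [Group G] [Fintype G]

theorem dade_main (p : ℕ) (hp : p.Prime) (N : Subgroup G) [hN : N.Normal]
    (hind : ∃ k : ℕ, N.index = p ^ k) (ϑ : N → ℂ) (hϑ : Cfsg.IsIrrCharacter N ϑ)
    (hinv : ∀ (g : G) (n : N), ϑ ⟨g * n * g⁻¹, hN.conj_mem (n : G) n.2 g⟩ = ϑ n) :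
    ∃ (E : Subgroup G) (φ : ↥(E ⊓ N) → ℂ), Cfsg.IsElementary p E ∧ E ⊔ N = ⊤ ∧
      Cfsg.IsIrrCharacter ↥(E ⊓ N) φ ∧
      (∀ (g : G) (hg : g ∈ E) (x : ↥(E ⊓ N)), φ ⟨g * x * g⁻¹,
        ⟨(E.mul_mem (E.mul_mem hg x.2.1) (E.inv_mem hg)), hN.conj_mem (x : G) x.2.2 g⟩⟩ = φ x) ∧
      ∃ m : ℕ, ¬ p ∣ m ∧ (Nat.card ↥(E ⊓ N) : ℂ)⁻¹ *
        ∑ᶠ x : ↥(E ⊓ N), ϑ ⟨(x : G), x.2.2⟩ * conj (φ x) = (m : ℂ) := by
  classical
  have : Fact p.Prime := ⟨hp⟩
  obtain ⟨k, hk⟩ := hind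
  obtain ⟨m₀, l, hm₀, hl, hsum⟩ := Cfsg.Agent.S0874.result (G := G) p hp
  have hϑch : IsCharacter N ϑ := IsIrrCharacter.isCharacter hϑ
  -- the quantities
  let Tc : (t : (E : Subgroup G) × ((E → ℂ) × ℤ)) → ℂ := fun t =>
    classInner (fun d : ↥(t.1 ⊓ N) => t.2.1 ⟨d, d.2.1⟩ * ϑ ⟨d, d.2.2⟩)
      (fun d : ↥(t.1 ⊓ N) => ϑ ⟨d, d.2.2⟩)
  let A : (t : (E : Subgroup G) × ((E → ℂ) × ℤ)) → ℂ := fun t =>
    ∑ n : N, indFun t.1 t.2.1 n * (ϑ n * conj (ϑ n))
  have hnorm : ∑ n : N, ϑ n * conj (ϑ n) = (Nat.card N : ℂ) := by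
    have h1 : classInner ϑ ϑ = 1 := by rw [classInner_isIrrCharacter hϑ hϑ, if_pos rfl]
    unfold classInner at h1
    have hN0 : (Nat.card N : ℂ) ≠ 0 := by exact_mod_cast (Nat.card_pos (α := N)).ne'
    field_simp at h1
    exact h1
  -- (1)
  have h1 : (m₀ : ℂ) * (Nat.card N : ℂ) = (l.map fun t => (t.2.2 : ℂ) * A t).sum := by
    have hpt : ∀ n : N, (m₀ : ℂ)
        = (l.map fun t => (t.2.2 : ℂ) * indFun t.1 t.2.1 (n : G)).sum := by
      intro n
      have h2 := congrFun hsum (n : G)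
      rw [list_sum_apply] at h2
      simpa using h2
    calc (m₀ : ℂ) * (Nat.card N : ℂ) = ∑ n : N, (m₀ : ℂ) * (ϑ n * conj (ϑ n)) := by
          rw [← Finset.mul_sum, hnorm]
      _ = ∑ n : N, (l.map fun t => (t.2.2 : ℂ) * indFun t.1 t.2.1 (n : G)
            * (ϑ n * conj (ϑ n))).sum := by
          apply Finset.sum_congr rfl
          intro n _
          conv_lhs => rw [hpt n]
          rw [← List.sum_map_mul_right]
      _ = (l.map fun t => ∑ n : N, (t.2.2 : ℂ) * indFun t.1 t.2.1 (n : G)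
            * (ϑ n * conj (ϑ n))).sum := sum_list_sum l _
      _ = _ := by
          congr 1
          apply List.map_congr_left
          intro t _
          simp only [A, Finset.mul_sum, mul_assoc]
  -- (2)
  have h2 : ∀ t : (E : Subgroup G) × ((E → ℂ) × ℤ), A t
      = (Nat.card G : ℂ) * (Nat.card t.1 : ℂ)⁻¹ * ((Nat.card ↥(t.1 ⊓ N) : ℂ) * Tc t) := by
    intro t
    simp only [A, Tc]
    rw [sum_indFun_mul_normSq N t.1 ϑ hinv t.2.1]
    unfold classInner
    have hD0 : (Nat.card ↥(t.1 ⊓ N) : ℂ) ≠ 0 := by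
      exact_mod_cast (Nat.card_pos (α := ↥(t.1 ⊓ N))).ne'
    rw [← mul_assoc (Nat.card ↥(t.1 ⊓ N) : ℂ), mul_inv_cancel₀ hD0, one_mul]
    congr 1
    apply Finset.sum_congr rfl
    intro d _
    ring
  -- naturality of Tc
  have hTnat : ∀ t ∈ l, ∃ T : ℕ, Tc t = T := by
    intro t ht
    have hψ := (hl t ht).2
    have hϑD : IsCharacter ↥(t.1 ⊓ N) (fun d : ↥(t.1 ⊓ N) => ϑ ⟨d, d.2.2⟩) :=
      IsCharacter.comp (Subgroup.inclusion (inf_le_right : t.1 ⊓ N ≤ N)) hϑch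
    have hψD : IsCharacter ↥(t.1 ⊓ N) (fun d : ↥(t.1 ⊓ N) => t.2.1 ⟨d, d.2.1⟩) :=
      IsCharacter.comp (Subgroup.inclusion (inf_le_left : t.1 ⊓ N ≤ t.1)) hψ
    exact IsCharacter.classInner_nat (IsCharacter.mul hψD hϑD) hϑD
  -- the index ratio
  let r : Subgroup G → ℕ := fun E => N.index / N.relIndex E
  have hrel : ∀ E : Subgroup G, N.relIndex E ∣ N.index := fun E =>
    Subgroup.relIndex_dvd_index_of_normal N E
  have hr : ∀ E : Subgroup G, (Nat.card G : ℂ) * (Nat.card E : ℂ)⁻¹ * (Nat.card ↥(E ⊓ N) : ℂ)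
      = (Nat.card N : ℂ) * (r E : ℂ) := by
    intro E
    have e1 : Nat.card G = Nat.card N * N.index := (N.card_mul_index).symm
    have e2 : Nat.card E = Nat.card ↥(E ⊓ N) * N.relIndex E := by
      have := Subgroup.relIndex_mul_relIndex ⊥ (E ⊓ N) E bot_le inf_le_left
      rw [Subgroup.relIndex_bot_left, Subgroup.relIndex_bot_left, Subgroup.inf_relIndex_left]
        at this
      exact this.symm
    have e3 : N.index = r E * N.relIndex E := (Nat.div_mul_cancel (hrel E)).symm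
    have hD0 : (Nat.card ↥(E ⊓ N) : ℂ) ≠ 0 := by
      exact_mod_cast (Nat.card_pos (α := ↥(E ⊓ N))).ne'
    have hR0 : (N.relIndex E : ℂ) ≠ 0 := by
      have : N.relIndex E ≠ 0 := by
        intro h0
        have := hrel E
        rw [h0, zero_dvd_iff] at this
        exact Subgroup.index_ne_zero_of_finite this
      exact_mod_cast this
    rw [e1, e2]
    push_cast
    rw [e3]
    push_cast
    field_simp
  -- integer identity
  choose! T hT using hTnat
  have hZ : m₀ = (l.map fun t => t.2.2 * ((r t.1 * T t : ℕ) : ℤ)).sum := by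
    have hN0 : (Nat.card N : ℂ) ≠ 0 := by exact_mod_cast (Nat.card_pos (α := N)).ne'
    have h3 : (m₀ : ℂ) * (Nat.card N : ℂ)
        = (Nat.card N : ℂ) * (((l.map fun t => t.2.2 * ((r t.1 * T t : ℕ) : ℤ)).sum : ℤ) : ℂ) := by
      rw [h1, Int.cast_list_sum, List.map_map, ← List.sum_map_mul_left]
      congr 1
      apply List.map_congr_left
      intro t ht
      simp only [Function.comp]
      rw [h2 t, hT t ht]
      have h9 := hr t.1
      push_cast
      linear_combination (t.2.2 : ℂ) * (T t : ℂ) * h9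
    have h4 : (m₀ : ℂ) = (((l.map fun t => t.2.2 * ((r t.1 * T t : ℕ) : ℤ)).sum : ℤ) : ℂ) := by
      apply mul_left_cancel₀ hN0
      rw [← h3]; ring
    exact_mod_cast h4
  have hex : ∃ t ∈ l, ¬ (p : ℤ) ∣ t.2.2 * ((r t.1 * T t : ℕ) : ℤ) := by
    by_contra hcon
    push Not at hcon
    apply hm₀
    rw [hZ]
    apply List.dvd_sum
    intro x hx
    obtain ⟨t, ht, rfl⟩ := List.mem_map.1 hx
    exact hcon t ht
  obtain ⟨t, ht, hpt⟩ := hex
  have hpt2 : ¬ p ∣ r t.1 * T t := by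
    intro h
    apply hpt
    exact Dvd.dvd.mul_left (by exact_mod_cast h) _
  have hpr : ¬ p ∣ r t.1 := fun h => hpt2 (Dvd.dvd.mul_right h _)
  have hpT : ¬ p ∣ T t := fun h => hpt2 (Dvd.dvd.mul_left h _)
  have hr1 : r t.1 = 1 := by
    have h5 : r t.1 ∣ p ^ k := by
      rw [← hk]
      exact Nat.div_dvd_of_dvd (hrel t.1)
    obtain ⟨j, _, hj⟩ := (Nat.dvd_prime_pow hp).1 h5
    rcases Nat.eq_zero_or_pos j with h0 | h0
    · rw [hj, h0, pow_zero]
    · exfalso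
      apply hpr
      rw [hj]
      exact dvd_pow_self p h0.ne'
  have hsup : t.1 ⊔ N = ⊤ := by
    have h6 : N.relIndex t.1 = N.index := by
      have := Nat.div_mul_cancel (hrel t.1)
      change r t.1 * _ = _ at this
      rw [hr1, one_mul] at this
      exact this
    have h7 : N.relIndex (t.1 ⊔ N) = N.relIndex t.1 := Subgroup.relIndex_sup_right t.1 N
    have h8 := Subgroup.relIndex_mul_index (le_sup_right : N ≤ t.1 ⊔ N)
    rw [h7, h6] at h8
    have h9 : (t.1 ⊔ N).index = 1 := by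
      have hi0 : 0 < N.index := Nat.pos_of_ne_zero Subgroup.index_ne_zero_of_finite
      exact Nat.eq_of_mul_eq_mul_left hi0 (by rw [h8, mul_one])
    exact Subgroup.index_eq_one.1 h9
  obtain ⟨φ, hφ, hφinv, m, hm, hmφ⟩ := exists_invariant_constituent N t.1 p ϑ hϑch hinv
    (hl t ht).1 t.2.1 (hl t ht).2 (T t) (hT t ht) hpT
  refine ⟨t.1, φ, (hl t ht).1, hsup, hφ, hφinv, m, hm, ?_⟩
  rw [finsum_eq_sum_of_fintype]
  exact hmφ

end B

end Cfsg.Agent.Lib.Helper3.Dade
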