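import Mathlib
import Cfsg.Agent.Lib.Helper3.Dade4
import Cfsg.Agent.Lib.Helper6.BlkCover3
import Cfsg.Agent.Lib.Helper6.Linear
import Cfsg.Agent.Lib.Helper6.Ito

set_option autoImplicit false
set_option linter.unusedSectionVars false
set_option linter.style.haveILetI false

namespace Cfsg.Agent.Lib.Helper3.Dade
open Cfsg Cfsg.Agent.Lib.Helper6 Cfsg.Agent.Lib.Helper3.RelM
open scoped ComplexConjugate

theorem exists_linear_extension_abelian {A : Type*} [inst : Group A] [Finite A]
    (hA : ∀ a b : A, a * b = b * a)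
    (B : Subgroup A) (β : B →* ℂˣ) : ∃ lam : A →* ℂˣ, ∀ b : B, lam b = β b := by
  letI : CommGroup A := { inst with mul_comm := hA }
  have hne : NeZero ((Monoid.exponent A : ℕ) : ℂ) := by
    constructor
    exact_mod_cast Monoid.exponent_ne_zero_of_finite
  have : HasEnoughRootsOfUnity ℂ (Monoid.exponent A) := inferInstance
  obtain ⟨lam, hlam⟩ := MonoidHom.domRestrict_surjective (M := ℂ) B β
  refine ⟨lam, ?_⟩
  intro b
  have := congrArg (fun f : B →* ℂˣ => f b) hlam
  simpa using this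

theorem apply_one_eq_one_of_comm {A : Type*} [Group A] [Finite A]
    (hA : ∀ a b : A, a * b = b * a) {φ : A → ℂ} (hφ : IsIrrCharacter A φ) : φ 1 = 1 := by
  obtain ⟨n, ρ, hirr, rfl⟩ := hφ
  have := hirr
  have h := finrank_eq_one_of_comm hA ρ
  rw [Representation.char_one, h]
  simp

section T
variable {G : Type*} [Group G] [Fintype G]

/-- the hypotheses of the extension theorem are invariant under conjugation -/
theorem hyp_conj (N : Subgroup G) [hN : N.Normal] (P : Subgroup G)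
    (hcent : ∀ x ∈ P ⊓ N, ∀ y ∈ P, x * y = y * x)
    (hlin : ∀ lam : ↥(P ⊓ N) → ℂ, Cfsg.IsCharacter ↥(P ⊓ N) lam → lam 1 = 1 →
      ∃ μ : ↥P → ℂ, Cfsg.IsCharacter ↥P μ ∧ μ 1 = 1 ∧
        ∀ x : ↥(P ⊓ N), μ ⟨(x : G), x.2.1⟩ = lam x)
    (g : G) (R : Subgroup G) (hR : ∀ y : G, y ∈ R ↔ g⁻¹ * y * g ∈ P) :
    (∀ x ∈ R ⊓ N, ∀ y ∈ R, x * y = y * x) ∧
    (∀ lam : ↥(R ⊓ N) → ℂ, Cfsg.IsCharacter ↥(R ⊓ N) lam → lam 1 = 1 →
      ∃ μ : ↥R → ℂ, Cfsg.IsCharacter ↥R μ ∧ μ 1 = 1 ∧
        ∀ x : ↥(R ⊓ N), μ ⟨(x : G), x.2.1⟩ = lam x) := by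
  have hRN : ∀ y : G, y ∈ R ⊓ N ↔ g⁻¹ * y * g ∈ P ⊓ N := by
    intro y
    constructor
    · rintro ⟨h1, h2⟩
      refine ⟨(hR y).1 h1, ?_⟩
      have := hN.conj_mem y h2 g⁻¹
      simpa using this
    · rintro ⟨h1, h2⟩
      refine ⟨(hR y).2 h1, ?_⟩
      have := hN.conj_mem _ h2 g
      simpa [mul_assoc] using this
  constructor
  · intro x hx y hy
    have h1 := hcent _ ((hRN x).1 hx) _ ((hR y).1 hy)
    have h2 : g⁻¹ * (x * y) * g = g⁻¹ * (y * x) * g := by
      calc g⁻¹ * (x * y) * g = (g⁻¹ * x * g) * (g⁻¹ * y * g) := by group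
        _ = (g⁻¹ * y * g) * (g⁻¹ * x * g) := h1
        _ = g⁻¹ * (y * x) * g := by group
    exact mul_left_cancel (mul_right_cancel h2)
  · -- equivalences
    have hR' : ∀ z : G, z ∈ P → g * z * g⁻¹ ∈ R := by
      intro z hz
      rw [hR]
      have : g⁻¹ * (g * z * g⁻¹) * g = z := by group
      rw [this]; exact hz
    have hRN' : ∀ z : G, z ∈ P ⊓ N → g * z * g⁻¹ ∈ R ⊓ N := by
      intro z hz
      rw [hRN]
      have : g⁻¹ * (g * z * g⁻¹) * g = z := by group
      rw [this]; exact hz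
    let α : ↥P ≃* ↥R :=
      { toFun := fun z => ⟨g * z * g⁻¹, hR' z z.2⟩
        invFun := fun y => ⟨g⁻¹ * y * g, (hR y).1 y.2⟩
        left_inv := fun z => by apply Subtype.ext; simp only; group
        right_inv := fun y => by apply Subtype.ext; simp only; group
        map_mul' := fun z z' => by
          apply Subtype.ext
          simp only [Subgroup.coe_mul]
          group }
    let α' : ↥(P ⊓ N) ≃* ↥(R ⊓ N) :=
      { toFun := fun z => ⟨g * z * g⁻¹, hRN' z z.2⟩
        invFun := fun y => ⟨g⁻¹ * y * g, (hRN y).1 y.2⟩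
        left_inv := fun z => by apply Subtype.ext; simp only; group
        right_inv := fun y => by apply Subtype.ext; simp only; group
        map_mul' := fun z z' => by
          apply Subtype.ext
          simp only [Subgroup.coe_mul]
          group }
    intro lam hlam hlam1
    have hirr := IsCharacter.isIrr_of_apply_one_eq_one hlam hlam1
    have h1 : IsCharacter ↥(P ⊓ N) (fun z => lam (α' z)) :=
      IsIrrCharacter.isCharacter (IsIrrCharacter.comp_mulEquiv α' hirr)
    have h2 : (fun z : ↥(P ⊓ N) => lam (α' z)) 1 = 1 := by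
      simp only [map_one]; exact hlam1
    obtain ⟨μ, hμ, hμ1, hμlam⟩ := hlin _ h1 h2
    have hμirr := IsCharacter.isIrr_of_apply_one_eq_one hμ hμ1
    refine ⟨fun y => μ (α.symm y),
      IsIrrCharacter.isCharacter (IsIrrCharacter.comp_mulEquiv α.symm hμirr), ?_, ?_⟩
    · simp only [map_one]; exact hμ1
    · intro x
      have h3 := hμlam (α'.symm x)
      simp only [MulEquiv.apply_symm_apply] at h3
      rw [← h3]
      rfl

end T

end Cfsg.Agent.Lib.Helper3.Dade
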