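import Mathlib
import Cfsg.Agent.Lib.Helper3.FT2

set_option autoImplicit false
set_option linter.unusedSectionVars false
set_option linter.style.haveILetI false

namespace Cfsg.Agent.Lib.Helper3.FT
open Cfsg Cfsg.Agent.Lib.Helper6
open scoped ComplexConjugate

section G
variable {G : Type*} [Group G] [Fintype G]

/-- value of the coset average of `χ|_N` on `H Z(G)` -/
theorem normSq_cosetAvg_mul_center (H N : Subgroup G) [Fintype H] (hle : H ≤ N)
    [(H.subgroupOf N).Normal] [Fintype (H.subgroupOf N)]
    {χ : G → ℂ} (hχ : IsIrrCharacter G χ) {h z : G} (hh : h ∈ H) (hz : z ∈ Subgroup.center G)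
    (hmem : h * z ∈ N) :
    Complex.normSq (cosetAvg (H.subgroupOf N) (fun g : N => χ g) ⟨h * z, hmem⟩) =
      Complex.normSq (classInner (fun h : H => χ h) (fun _ => 1)) := by
  classical
  obtain ⟨c, hcc, hc⟩ := apply_center_mul_scalar hχ hz
  have hc1 : Complex.normSq c = 1 := by
    have h2 : ((Complex.normSq c : ℝ) : ℂ) = 1 := by
      rw [Complex.normSq_eq_conj_mul_self]; exact hcc
    exact_mod_cast h2
  let e : H.subgroupOf N ≃ H := (Subgroup.subgroupOfEquivOfLe hle).toEquiv
  have hcard : Nat.card (H.subgroupOf N) = Nat.card H := Nat.card_congr e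
  have h1 : ∑ n : H.subgroupOf N, (fun g : N => χ g) ((n : N) * (⟨h * z, hmem⟩ : N)) =
      c * ∑ n : H, χ n := by
    rw [← e.sum_comp (fun n : H => χ n), Finset.mul_sum]
    -- reindex by right multiplication by h
    let hA : H.subgroupOf N := ⟨⟨h, hle hh⟩, Subgroup.mem_subgroupOf.2 hh⟩
    apply Fintype.sum_equiv (Equiv.mulRight hA)
    intro n
    have h4 : ((e ((Equiv.mulRight hA) n) : H) : G) = ((n : N) : G) * h := rfl
    rw [h4, ← hc]
    change χ (((n : N) : G) * (h * z)) = χ (z * (((n : N) : G) * h))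
    rw [← Subgroup.mem_center_iff.1 hz (((n : N) : G) * h), mul_assoc]
  unfold cosetAvg classInner
  rw [h1, hcard]
  simp only [map_one, mul_one]
  rw [show (Nat.card H : ℂ)⁻¹ * (c * ∑ n : H, χ n) = c * ((Nat.card H : ℂ)⁻¹ * ∑ n : H, χ n) by ring,
    Complex.normSq_mul, hc1, one_mul]

/-- the main inequality: `|G| |H| |c|² ≤ χ(1)² (|G| - |N_G(H)|)` -/
theorem ft_main (H : Subgroup G) [Fintype H] (hab : ∀ a ∈ H, ∀ b ∈ H, a * b = b * a)
    (hZ : H ⊓ Subgroup.center G = ⊥) (hone : AtMostOne H) {χ : G → ℂ}
    (hχ : IsIrrCharacter G χ) (hker : ∃ h ∈ H, χ h ≠ χ 1) :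
    (Nat.card G : ℝ) * ((Nat.card H : ℝ) *
        Complex.normSq (classInner (fun h : H => χ h) (fun _ => 1))) ≤
      Complex.normSq (χ 1) *
        ((Nat.card G : ℝ) - Nat.card (Subgroup.normalizer (H : Set G))) := by
  classical
  have hle : H ≤ Subgroup.normalizer (H : Set G) := Subgroup.le_normalizer
  haveI : (H.subgroupOf (Subgroup.normalizer (H : Set G))).Normal := Subgroup.normal_in_normalizer
  have : Fintype (H.subgroupOf (Subgroup.normalizer (H : Set G))) := Fintype.ofFinite _
  have : Fintype (Subgroup.center G) := Fintype.ofFinite _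
  have hξ : IsCharacter (Subgroup.normalizer (H : Set G))
      (fun g : Subgroup.normalizer (H : Set G) => χ g) :=
    IsCharacter.restrict _ (IsIrrCharacter.isCharacter hχ)
  obtain ⟨h₀, hh₀, hne₀⟩ := hker
  have hcenN : Subgroup.center G ≤ Subgroup.normalizer (H : Set G) := by
    intro z hz
    rw [Subgroup.mem_normalizer_iff]
    intro h
    have : z * h * z⁻¹ = h := by
      rw [← Subgroup.mem_center_iff.1 hz h]; group
    rw [this]
  have hh₀1 : h₀ ≠ 1 := by
    rintro rfl
    exact hne₀ rfl
  have hkerξ : ∃ a ∈ H.subgroupOf (Subgroup.normalizer (H : Set G)),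
      (fun g : Subgroup.normalizer (H : Set G) => χ g) a ≠
      (fun g : Subgroup.normalizer (H : Set G) => χ g) 1 :=
    ⟨⟨h₀, hle hh₀⟩, Subgroup.mem_subgroupOf.2 hh₀, hne₀⟩
  -- S = elements of N centralizing a nonidentity element of H
  let S : Finset (Subgroup.normalizer (H : Set G)) :=
    Finset.univ.filter (fun g => ∃ h ∈ H, h ≠ 1 ∧ (g : G) * h = h * g)
  have hS : ∀ g : Subgroup.normalizer (H : Set G), g ∉ S →
      ∀ a ∈ H.subgroupOf (Subgroup.normalizer (H : Set G)), g * a = a * g → a = 1 := by
    intro g hg a ha hcomm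
    by_contra ha1
    apply hg
    simp only [S, Finset.mem_filter, Finset.mem_univ, true_and]
    refine ⟨((a : Subgroup.normalizer (H : Set G)) : G), Subgroup.mem_subgroupOf.1 ha, ?_, ?_⟩
    · intro h
      apply ha1
      exact Subtype.ext h
    · exact congrArg Subtype.val hcomm
  have hA := card_add_sum_le (H.subgroupOf (Subgroup.normalizer (H : Set G))) hξ hkerξ S hS
  set c2 := Complex.normSq (classInner (fun h : H => χ h) (fun _ => 1)) with hc2
  set x2 := Complex.normSq (χ 1) with hx2
  -- (1) the averaged part on `H Z`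
  have h1 : (Nat.card H : ℝ) * (Nat.card (Subgroup.center G) : ℝ) * c2 ≤
      ∑ g ∈ S, Complex.normSq (cosetAvg (H.subgroupOf (Subgroup.normalizer (H : Set G)))
        (fun g : Subgroup.normalizer (H : Set G) => χ g) g) := by
    have hmemN : ∀ p : H × Subgroup.center G,
        (p.1 : G) * (p.2 : G) ∈ Subgroup.normalizer (H : Set G) := by
      intro p
      apply (Subgroup.normalizer (H : Set G)).mul_mem (hle p.1.2)
      exact hcenN p.2.2
    let ι : H × Subgroup.center G → Subgroup.normalizer (H : Set G) :=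
      fun p => ⟨(p.1 : G) * (p.2 : G), hmemN p⟩
    have hinj : Function.Injective ι := by
      intro p q hpq
      have h2 : (p.1 : G) * (p.2 : G) = (q.1 : G) * (q.2 : G) := congrArg Subtype.val hpq
      have h3 : (q.1 : G)⁻¹ * (p.1 : G) = (q.2 : G) * (p.2 : G)⁻¹ := by
        have : (p.1 : G) = (q.1 : G) * (q.2 : G) * (p.2 : G)⁻¹ := by rw [← h2]; group
        rw [this]; group
      have h4 : (q.1 : G)⁻¹ * (p.1 : G) ∈ H ⊓ Subgroup.center G := by
        refine Subgroup.mem_inf.2 ⟨H.mul_mem (H.inv_mem q.1.2) p.1.2, ?_⟩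
        rw [h3]
        exact (Subgroup.center G).mul_mem q.2.2 ((Subgroup.center G).inv_mem p.2.2)
      rw [hZ, Subgroup.mem_bot] at h4
      have h5 : (p.1 : G) = (q.1 : G) := by
        have := inv_mul_eq_one.1 h4
        exact this.symm
      have h6 : (p.2 : G) = (q.2 : G) := by
        rw [h5] at h2
        exact mul_left_cancel h2
      exact Prod.ext (Subtype.ext h5) (Subtype.ext h6)
    have hsub : (Finset.univ : Finset (H × Subgroup.center G)).image ι ⊆ S := by
      intro g hg
      obtain ⟨p, _, rfl⟩ := Finset.mem_image.1 hg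
      simp only [S, Finset.mem_filter, Finset.mem_univ, true_and]
      refine ⟨h₀, hh₀, hh₀1, ?_⟩
      change (p.1 : G) * (p.2 : G) * h₀ = h₀ * ((p.1 : G) * (p.2 : G))
      rw [mul_assoc, ← Subgroup.mem_center_iff.1 p.2.2 h₀, ← mul_assoc, hab _ p.1.2 _ hh₀,
        mul_assoc]
    calc (Nat.card H : ℝ) * (Nat.card (Subgroup.center G) : ℝ) * c2
        = ∑ p : H × Subgroup.center G, c2 := by
          rw [Finset.sum_const, Finset.card_univ, Fintype.card_prod, nsmul_eq_mul,
            Nat.card_eq_fintype_card, Nat.card_eq_fintype_card]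
          push_cast
          ring
      _ = ∑ g ∈ (Finset.univ : Finset (H × Subgroup.center G)).image ι,
            Complex.normSq (cosetAvg (H.subgroupOf (Subgroup.normalizer (H : Set G)))
              (fun g : Subgroup.normalizer (H : Set G) => χ g) g) := by
          rw [Finset.sum_image (fun p _ q _ h => hinj h)]
          apply Finset.sum_congr rfl
          intro p _
          rw [hc2]
          exact (normSq_cosetAvg_mul_center H _ hle hχ p.1.2 p.2.2 (hmemN p)).symm
      _ ≤ _ := Finset.sum_le_sum_of_subset_of_nonneg hsub (fun g _ _ => Complex.normSq_nonneg _)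
  -- (2) the sum over S splits as bad set + centre
  have h2 : ∑ g ∈ S, Complex.normSq ((fun g : Subgroup.normalizer (H : Set G) => χ g) g) =
      ∑ g ∈ badSet H, Complex.normSq (χ g) + ∑ z ∈ centerSet G, Complex.normSq (χ z) := by
    have hdisj : Disjoint (badSet H) (centerSet G) := by
      rw [Finset.disjoint_left]
      intro g hg hg'
      exact ((mem_badSet H).1 hg).1 (mem_centerSet.1 hg')
    rw [← Finset.sum_union hdisj]
    have hmap : S.map ⟨Subtype.val, Subtype.val_injective⟩ = badSet H ∪ centerSet G := by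
      ext g
      simp only [Finset.mem_map, Function.Embedding.coeFn_mk, Finset.mem_union, S,
        Finset.mem_filter, Finset.mem_univ, true_and]
      constructor
      · rintro ⟨g', hg', rfl⟩
        by_cases hgc : (g' : G) ∈ Subgroup.center G
        · exact Or.inr (mem_centerSet.2 hgc)
        · exact Or.inl ((mem_badSet H).2 ⟨hgc, hg'⟩)
      · rintro (hg | hg)
        · exact ⟨⟨g, badSet_subset_normalizer hZ hone hg⟩, ((mem_badSet H).1 hg).2, rfl⟩
        · have hgc := mem_centerSet.1 hg
          exact ⟨⟨g, hcenN hgc⟩,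
            ⟨h₀, hh₀, hh₀1, (Subgroup.mem_center_iff.1 hgc h₀).symm⟩, rfl⟩
    rw [← hmap, Finset.sum_map]
    rfl
  -- (3) the centre
  have h3 : ∑ z ∈ centerSet G, Complex.normSq (χ z) =
      (Nat.card (Subgroup.center G) : ℝ) * x2 := by
    have h4 : ∀ z ∈ centerSet G, Complex.normSq (χ z) = x2 := by
      intro z hz
      have := normSq_apply_center_mul hχ (mem_centerSet.1 hz) 1
      rw [mul_one] at this
      exact this
    rw [Finset.sum_congr rfl h4, Finset.sum_const, nsmul_eq_mul]
    congr 1
    have : (centerSet G).card = Fintype.card (Subgroup.center G) := by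
      rw [← Finset.card_univ]
      symm
      apply Finset.card_bij (fun (z : Subgroup.center G) _ => (z : G))
      · intro z _; exact mem_centerSet.2 z.2
      · intro z _ z' _ h; exact Subtype.ext h
      · intro g hg; exact ⟨⟨g, mem_centerSet.1 hg⟩, Finset.mem_univ _, rfl⟩
    rw [this, Nat.card_eq_fintype_card]
  -- (4) Lemma B
  have hB := card_mul_sum_badSet_le hone (IsIrrCharacter.isClassFunction hχ)
  rw [sum_normSq_eq_card hχ, h3] at hB
  rw [h2, h3] at hA
  -- combine
  set Sb := ∑ g ∈ badSet H, Complex.normSq (χ g) with hSb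
  set nG := (Nat.card G : ℝ) with hnG
  set nN := (Nat.card (Subgroup.normalizer (H : Set G)) : ℝ) with hnN
  set nH := (Nat.card H : ℝ) with hnH
  set nZ := (Nat.card (Subgroup.center G) : ℝ) with hnZ
  have hG0 : 0 ≤ nG := by positivity
  have hZ0 : 0 < nZ := by
    rw [hnZ]; exact_mod_cast (Nat.card_pos (α := Subgroup.center G))
  have h5 : nG * (nN + nH * nZ * c2) ≤ nG * (Sb + nZ * x2) :=
    mul_le_mul_of_nonneg_left (by linarith) hG0
  have h6 : nZ * (nG * (nH * c2)) ≤ nZ * (x2 * (nG - nN)) := by nlinarith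
  exact le_of_mul_le_mul_left h6 hZ0

end G

end Cfsg.Agent.Lib.Helper3.FT
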