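import Mathlib
import Cfsg.Agent.Lib.Helper3.FT3
import Cfsg.Agent.Lib.Helper6.Constituent

set_option autoImplicit false
set_option linter.unusedSectionVars false
set_option linter.style.haveILetI false

namespace Cfsg.Agent.Lib.Helper3.FT
open Cfsg Cfsg.Agent.Lib.Helper6
open scoped ComplexConjugate

section G
variable {G : Type*} [Group G] [Fintype G]

/-- first part of the Feit–Thompson lemma -/
theorem ft_first (H : Subgroup G) [Fintype H] (hab : ∀ a ∈ H, ∀ b ∈ H, a * b = b * a)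
    (hZ : H ⊓ Subgroup.center G = ⊥) (hone : AtMostOne H) {χ : G → ℂ}
    (hχ : IsIrrCharacter G χ) (hker : ∃ h ∈ H, χ h ≠ χ 1) :
    (χ 1).re ^ 2 > (Nat.card H : ℝ) *
      (classInner (fun h : H => χ h) (fun _ => 1)).re ^ 2 := by
  have hmain := ft_main H hab hZ hone hχ hker
  obtain ⟨n, hn⟩ := IsCharacter.apply_one_eq_natCast (IsIrrCharacter.isCharacter hχ)
  have hn0 : n ≠ 0 := by
    rintro rfl
    exact IsIrrCharacter.apply_one_ne_zero hχ (by rw [hn]; simp)
  have hx : Complex.normSq (χ 1) = (χ 1).re ^ 2 := by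
    rw [hn, Complex.normSq_natCast]
    simp [sq]
  have hxpos : 0 < (χ 1).re ^ 2 := by
    rw [hn]
    simp only [Complex.natCast_re]
    have : (0 : ℝ) < n := by exact_mod_cast Nat.pos_of_ne_zero hn0
    positivity
  set c := classInner (fun h : H => χ h) (fun _ => 1) with hc
  have hc2 : c.re ^ 2 ≤ Complex.normSq c := by
    rw [Complex.normSq_apply]
    nlinarith [sq_nonneg c.im]
  rw [hx] at hmain
  have hG0 : (0 : ℝ) < (Nat.card G : ℝ) := by exact_mod_cast (Nat.card_pos (α := G))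
  have hN0 : (0 : ℝ) < (Nat.card (Subgroup.normalizer (H : Set G)) : ℝ) := by
    exact_mod_cast (Nat.card_pos (α := Subgroup.normalizer (H : Set G)))
  have hH0 : (0 : ℝ) ≤ (Nat.card H : ℝ) := by positivity
  have h1 : (Nat.card G : ℝ) * ((Nat.card H : ℝ) * c.re ^ 2) <
      (Nat.card G : ℝ) * (χ 1).re ^ 2 := by
    have h2 : (Nat.card H : ℝ) * c.re ^ 2 ≤ (Nat.card H : ℝ) * Complex.normSq c :=
      mul_le_mul_of_nonneg_left hc2 hH0
    have h3 := mul_le_mul_of_nonneg_left h2 hG0.le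
    nlinarith
  exact lt_of_mul_lt_mul_left h1 hG0.le

end G

end Cfsg.Agent.Lib.Helper3.FT
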