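import Mathlib
import Cfsg.Agent.Lib.Helper3.FT4
import Cfsg.Agent.Lib.Helper3.Dade5
import Cfsg.Agent.Lib.Helper6.BlkKer
import Cfsg.Agent.Lib.Helper6.Norm

set_option autoImplicit false
set_option linter.unusedSectionVars false
set_option linter.style.haveILetI false

namespace Cfsg.Agent.Lib.Helper3.FT
open Cfsg Cfsg.Agent.Lib.Helper6
open scoped ComplexConjugate

section G
variable {G : Type*} [Group G] [Fintype G]

/-- for a character `θ` of an abelian group, `θ(1) ≤ ⟨θ,θ⟩` -/
theorem apply_one_le_classInner_self {A : Type*} [Group A] [Fintype A]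
    (hA : ∀ a b : A, a * b = b * a) {θ : A → ℂ} (hθ : IsCharacter A θ) :
    ∃ n q : ℕ, θ 1 = n ∧ classInner θ θ = q ∧ n ≤ q := by
  classical
  have : Fintype (IrrCharacter A) := Fintype.ofFinite _
  have hsum := classFunction_eq_sum θ (IsCharacter.isClassFunction hθ)
  choose a ha using fun lam : IrrCharacter A => IsCharacter.classInner_irr_nat hθ lam.2
  have hsum' : θ = ∑ lam : IrrCharacter A, a lam • (lam : A → ℂ) := by
    conv_lhs => rw [hsum]
    apply Finset.sum_congr rfl
    intro lam _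
    rw [ha lam, Nat.cast_smul_eq_nsmul]
  refine ⟨∑ lam, a lam, ∑ lam, a lam * a lam, ?_, ?_, ?_⟩
  · conv_lhs => rw [hsum']
    rw [Finset.sum_apply]
    push_cast
    apply Finset.sum_congr rfl
    intro lam _
    rw [Pi.smul_apply, Cfsg.Agent.Lib.Helper3.Dade.apply_one_eq_one_of_comm hA lam.2, nsmul_eq_mul,
      mul_one]
  · conv_lhs => rw [hsum']
    exact classInner_sum_irr a a
  · apply Finset.sum_le_sum
    intro lam _
    exact Nat.le_mul_self (a lam)

/-- a nonprincipal irreducible character is nontrivial on a subgroup lying in no proper normal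
subgroup -/
theorem exists_ne_of_not_le_proper (H : Subgroup G)
    (hnorm : ∀ M : Subgroup G, M.Normal → H ≤ M → M = ⊤) {ψ : G → ℂ} (hψ : IsIrrCharacter G ψ)
    (hne : ψ ≠ fun _ => 1) : ∃ h ∈ H, ψ h ≠ ψ 1 := by
  by_contra hcon
  push Not at hcon
  have hψc := IsIrrCharacter.isCharacter hψ
  have hle : H ≤ charKer hψc := fun h hh => (mem_charKer hψc h).2 (hcon h hh)
  have htop := hnorm _ (charKer_normal hψc) hle
  have hall : ∀ g : G, ψ g = ψ 1 := by
    intro g
    have : g ∈ charKer hψc := by rw [htop]; trivial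
    exact (mem_charKer hψc g).1 this
  have h1 : classInner ψ (fun _ => (1 : ℂ)) = 0 := by
    rw [classInner_isIrrCharacter hψ isIrrCharacter_one, if_neg hne]
  have h2 : classInner ψ (fun _ => (1 : ℂ)) = ψ 1 := by
    unfold classInner
    simp only [map_one, mul_one]
    rw [Finset.sum_congr rfl (fun g _ => hall g), Finset.sum_const, Finset.card_univ, nsmul_eq_mul,
      ← Nat.card_eq_fintype_card, ← mul_assoc]
    have hG0 : (Nat.card G : ℂ) ≠ 0 := by exact_mod_cast (Nat.card_pos (α := G)).ne'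
    rw [inv_mul_cancel₀ hG0, one_mul]
  exact IsIrrCharacter.apply_one_ne_zero hψ (h2 ▸ h1)

/-- second part of the Feit–Thompson lemma -/
theorem ft_second (H : Subgroup G) [Fintype H] (hab : ∀ a ∈ H, ∀ b ∈ H, a * b = b * a)
    (hZ : H ⊓ Subgroup.center G = ⊥) (hone : AtMostOne H) {χ : G → ℂ}
    (hχ : IsIrrCharacter G χ) (h1 : χ 1 ≠ 1)
    (hnorm : ∀ M : Subgroup G, M.Normal → H ≤ M → M = ⊤) :
    (1 + (χ 1).re) ^ 2 > (Nat.card H : ℝ) := by
  classical
  have : Fintype (IrrCharacter G) := Fintype.ofFinite _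
  have hχc := IsIrrCharacter.isCharacter hχ
  obtain ⟨n, hn⟩ := IsCharacter.apply_one_eq_natCast hχc
  have hn0 : n ≠ 0 := by
    rintro rfl
    exact IsIrrCharacter.apply_one_ne_zero hχ (by rw [hn]; simp)
  have hn1 : n ≠ 1 := by
    rintro rfl
    exact h1 (by rw [hn]; simp)
  have hn2 : 2 ≤ n := by omega
  set Θ : G → ℂ := χ * (fun g => conj (χ g)) with hΘdef
  have hΘ : IsCharacter G Θ := IsCharacter.mul hχc (IsCharacter.conj hχc)
  have hsum := classFunction_eq_sum Θ (IsCharacter.isClassFunction hΘ)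
  choose m hm using fun ψ : IrrCharacter G => IsCharacter.classInner_irr_nat hΘ ψ.2
  choose d hd using fun ψ : IrrCharacter G =>
    IsCharacter.apply_one_eq_natCast (IsIrrCharacter.isCharacter ψ.2)
  choose k hk using fun ψ : IrrCharacter G =>
    IsCharacter.classInner_nat (IsCharacter.restrict H (IsIrrCharacter.isCharacter ψ.2))
      (isCharacter_one (G := H))
  let ψ₀ : IrrCharacter G := ⟨fun _ => 1, isIrrCharacter_one⟩
  -- data of the principal character
  have hm0 : m ψ₀ = 1 := by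
    have h2 : classInner Θ (ψ₀ : G → ℂ) = classInner χ χ := by
      unfold classInner
      congr 1
      apply Finset.sum_congr rfl
      intro g _
      simp [Θ, ψ₀]
    rw [hm ψ₀, classInner_isIrrCharacter hχ hχ, if_pos rfl] at h2
    exact_mod_cast h2
  have hd0 : d ψ₀ = 1 := by
    have := hd ψ₀
    simp only [ψ₀] at this
    exact_mod_cast this.symm
  have hk0 : k ψ₀ = 1 := by
    have h2 := hk ψ₀
    have h3 : classInner (fun h : H => (ψ₀ : G → ℂ) h) (fun _ => (1 : ℂ)) = 1 := by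
      have := classInner_isIrrCharacter (isIrrCharacter_one (G := H)) (isIrrCharacter_one (G := H))
      rw [if_pos rfl] at this
      exact this
    rw [h3] at h2
    exact_mod_cast h2.symm
  -- n² = Σ m d
  have hnsq : n ^ 2 = ∑ ψ, m ψ * d ψ := by
    have h2 := congrFun hsum 1
    rw [Finset.sum_apply] at h2
    have h3 : Θ 1 = ((n ^ 2 : ℕ) : ℂ) := by
      simp only [Θ, Pi.mul_apply, hn, Complex.conj_natCast]
      push_cast; ring
    have h4 : ∑ ψ : IrrCharacter G, (classInner Θ (ψ : G → ℂ) • (ψ : G → ℂ)) 1 =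
        ((∑ ψ, m ψ * d ψ : ℕ) : ℂ) := by
      push_cast
      apply Finset.sum_congr rfl
      intro ψ _
      rw [Pi.smul_apply, smul_eq_mul, hm ψ, hd ψ]
    rw [h3, h4] at h2
    exact_mod_cast h2
  -- ⟨χ_H, χ_H⟩ = Σ m k
  have habH : ∀ a b : H, a * b = b * a := fun a b => Subtype.ext (hab a a.2 b b.2)
  obtain ⟨n', q, hn', hq, hnq⟩ := apply_one_le_classInner_self habH (IsCharacter.restrict H hχc)
  have hn'n : n' = n := by
    have : ((n' : ℕ) : ℂ) = n := by rw [← hn', ← hn]; rfl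
    exact_mod_cast this
  have hqsum : q = ∑ ψ, m ψ * k ψ := by
    have h2 : classInner (fun h : H => Θ h) (fun _ => (1 : ℂ)) =
        classInner (fun h : H => χ h) (fun h : H => χ h) := by
      unfold classInner
      congr 1
      apply Finset.sum_congr rfl
      intro g _
      simp [Θ]
    have h3 : (fun h : H => Θ h) =
        ∑ ψ : IrrCharacter G, (m ψ : ℂ) • (fun h : H => (ψ : G → ℂ) h) := by
      funext h
      have h4 := congrFun hsum h
      rw [Finset.sum_apply] at h4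
      rw [h4, Finset.sum_apply]
      apply Finset.sum_congr rfl
      intro ψ _
      rw [Pi.smul_apply, Pi.smul_apply, hm ψ]
    rw [h3, classInner_sum_left, hq] at h2
    have h5 : ∑ ψ : IrrCharacter G,
        classInner ((m ψ : ℂ) • (fun h : H => (ψ : G → ℂ) h)) (fun _ => (1 : ℂ)) =
        ((∑ ψ, m ψ * k ψ : ℕ) : ℂ) := by
      push_cast
      apply Finset.sum_congr rfl
      intro ψ _
      rw [classInner_smul_left, hk ψ]
    rw [h5] at h2
    exact_mod_cast h2.symm
  -- the inequality for nonprincipal constituents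
  by_contra hcon
  have hcon' : (1 + (n : ℝ)) ^ 2 ≤ (Nat.card H : ℝ) := by
    have := not_lt.1 hcon
    rw [hn] at this
    simpa using this
  have hterm : ∀ ψ : IrrCharacter G, ψ ≠ ψ₀ → (1 + n) * k ψ + 1 ≤ d ψ := by
    intro ψ hψ
    have hne : (ψ : G → ℂ) ≠ fun _ => 1 := by
      intro h
      apply hψ
      exact Subtype.ext h
    have hker := exists_ne_of_not_le_proper H hnorm ψ.2 hne
    have hf := ft_first H hab hZ hone ψ.2 hker
    rw [hd ψ, hk ψ] at hf
    simp only [Complex.natCast_re] at hf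
    have h2 : ((1 + (n : ℝ)) * (k ψ : ℝ)) ^ 2 < (d ψ : ℝ) ^ 2 := by
      rw [mul_pow]
      have : (1 + (n : ℝ)) ^ 2 * (k ψ : ℝ) ^ 2 ≤ (Nat.card H : ℝ) * (k ψ : ℝ) ^ 2 :=
        mul_le_mul_of_nonneg_right hcon' (by positivity)
      linarith
    have h3 : (1 + (n : ℝ)) * (k ψ : ℝ) < (d ψ : ℝ) :=
      lt_of_pow_lt_pow_left₀ 2 (by positivity) h2
    have h4 : (1 + n) * k ψ < d ψ := by exact_mod_cast h3
    omega
  -- split off the principal character
  have hsplit : ∀ f : IrrCharacter G → ℕ,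
      f ψ₀ + ∑ ψ ∈ Finset.univ.erase ψ₀, f ψ = ∑ ψ, f ψ :=
    fun f => Finset.add_sum_erase _ f (Finset.mem_univ ψ₀)
  have hS1 := hsplit (fun ψ => m ψ * d ψ)
  have hS2 := hsplit (fun ψ => m ψ * k ψ)
  simp only [hm0, hd0, hk0, mul_one] at hS1 hS2
  have hS3 : ∑ ψ ∈ Finset.univ.erase ψ₀, ((1 + n) * (m ψ * k ψ) + m ψ) ≤
      ∑ ψ ∈ Finset.univ.erase ψ₀, m ψ * d ψ := by
    apply Finset.sum_le_sum
    intro ψ hψ
    have := hterm ψ (Finset.ne_of_mem_erase hψ)
    calc (1 + n) * (m ψ * k ψ) + m ψ = m ψ * ((1 + n) * k ψ + 1) := by ring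
      _ ≤ m ψ * d ψ := Nat.mul_le_mul_left _ this
  rw [Finset.sum_add_distrib, ← Finset.mul_sum] at hS3
  set Sd := ∑ ψ ∈ Finset.univ.erase ψ₀, m ψ * d ψ with hSd
  set Sk := ∑ ψ ∈ Finset.univ.erase ψ₀, m ψ * k ψ with hSk
  set Sm := ∑ ψ ∈ Finset.univ.erase ψ₀, m ψ with hSm
  -- Sm = 0 forces Sd = 0
  have hSm0 : Sm = 0 := by
    have h5 : n ≤ 1 + Sk := by rw [hS2, ← hqsum, ← hn'n]; exact hnq
    have h6 : n ^ 2 = 1 + Sd := by rw [hnsq, hS1]
    have h7 : (1 + n) * n ≤ (1 + n) * (1 + Sk) := Nat.mul_le_mul_left _ h5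
    nlinarith
  have hSd0 : Sd = 0 := by
    rw [hSd]
    apply Finset.sum_eq_zero
    intro ψ hψ
    have : m ψ = 0 := by
      have := Finset.sum_eq_zero_iff.1 hSm0 ψ hψ
      exact this
    rw [this, zero_mul]
  have h8 : n ^ 2 = 1 := by rw [hnsq, ← hS1, hSd0]
  nlinarith

end G

end Cfsg.Agent.Lib.Helper3.FT
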