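import Mathlib
import Cfsg.Agent.Lib.Lead.SchurOrth
import Cfsg.Agent.Lib.Helper6.EquivOfChar
import Cfsg.Agent.Lib.Helper6.RepBasic
import Cfsg.Agent.Lib.Helper6.Auto

set_option autoImplicit false
set_option linter.unusedSectionVars false

namespace Cfsg.Agent.Lib.Helper3.GlauCyc

open Cfsg Cfsg.Agent.Lib.Helper6 Module
open scoped ComplexConjugate

section orth

variable {Γ : Type*} [Group Γ] [Fintype Γ] (G : Subgroup Γ) [Fintype G]

/-- a representation with irreducible character is irreducible -/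
theorem isIrreducible_of_isIrrCharacter {K : Type*} [Group K] [Fintype K] {d : ℕ}
    (ρ : Representation ℂ K (Fin d → ℂ)) (h : Cfsg.IsIrrCharacter K ρ.character) :
    ρ.IsIrreducible := by
  obtain ⟨n, ρ₀, hirr, hch⟩ := h
  have := hirr
  obtain ⟨e⟩ := equiv_of_character_eq ρ₀ ρ hch
  exact isIrreducible_of_equiv e

/-- coset norm for a character restricting irreducibly -/
theorem sum_coset_norm {ψ : Γ → ℂ} (hψ : Cfsg.IsIrrCharacter Γ ψ)
    (hχ : Cfsg.IsIrrCharacter G (fun g : G => ψ g)) (x : Γ) :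
    ∑ g : G, ψ (g * x) * conj (ψ (g * x)) = (Nat.card G : ℂ) := by
  have hconj : ∀ y : Γ, conj (ψ y) = ψ y⁻¹ := fun y =>
    (IsCharacter.apply_inv (IsIrrCharacter.isCharacter hψ) y).symm
  obtain ⟨d, ρh, hirr, rfl⟩ := hψ
  let ρ : Representation ℂ G (Fin d → ℂ) := ρh.comp G.subtype
  have hρ : ρ.character = fun g : G => ρh.character g := rfl
  have : ρ.IsIrreducible := isIrreducible_of_isIrrCharacter ρ (by rw [hρ]; exact hχ)
  have h1 : ∀ g : G, ρh.character (g * x) = LinearMap.trace ℂ _ (ρ g ∘ₗ ρh x) := by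
    intro g
    show LinearMap.trace ℂ _ (ρh (g * x)) = _
    rw [map_mul]
    rfl
  have h2 : ∀ g : G, conj (ρh.character (g * x))
      = LinearMap.trace ℂ _ (ρ g⁻¹ ∘ₗ ρh x⁻¹) := by
    intro g
    rw [hconj]
    show LinearMap.trace ℂ _ (ρh ((g : Γ) * x)⁻¹) = _
    rw [mul_inv_rev, map_mul]
    show LinearMap.trace ℂ _ (ρh x⁻¹ * ρh (g : Γ)⁻¹) = _
    rw [LinearMap.trace_mul_comm]
    rfl
  simp_rw [h2, h1]
  rw [Cfsg.Agent.Lib.Lead.SchurOrth.sum_trace_mul_trace ρ]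
  have h3 : ρh x ∘ₗ ρh x⁻¹ = LinearMap.id := by
    show ρh x * ρh x⁻¹ = 1
    rw [← map_mul, mul_inv_cancel, map_one]
  rw [h3, LinearMap.trace_id]
  have hd : (finrank ℂ (Fin d → ℂ) : ℂ) ≠ 0 := by
    have := finrank_pos_of_isIrreducible ρ
    exact_mod_cast this.ne'
  rw [Nat.card_eq_fintype_card]
  field_simp

/-- coset orthogonality for characters restricting to different irreducibles -/
theorem sum_coset_orth {ψ ψ' : Γ → ℂ} (hψ : Cfsg.IsIrrCharacter Γ ψ)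
    (hψ' : Cfsg.IsIrrCharacter Γ ψ') (hχ : Cfsg.IsIrrCharacter G (fun g : G => ψ g))
    (hχ' : Cfsg.IsIrrCharacter G (fun g : G => ψ' g)) (x : Γ)
    (hne : (fun g : G => ψ g) ≠ (fun g : G => ψ' g)) :
    ∑ g : G, ψ (g * x) * conj (ψ' (g * x)) = 0 := by
  have hconj : ∀ y : Γ, conj (ψ' y) = ψ' y⁻¹ := fun y =>
    (IsCharacter.apply_inv (IsIrrCharacter.isCharacter hψ') y).symm
  obtain ⟨d, ρh, hirr, rfl⟩ := hψ
  obtain ⟨d', ρh', hirr', rfl⟩ := hψ'
  let ρ : Representation ℂ G (Fin d → ℂ) := ρh.comp G.subtype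
  let ρ' : Representation ℂ G (Fin d' → ℂ) := ρh'.comp G.subtype
  have hρ : ρ.character = fun g : G => ρh.character g := rfl
  have hρ' : ρ'.character = fun g : G => ρh'.character g := rfl
  have : ρ.IsIrreducible := isIrreducible_of_isIrrCharacter ρ (by rw [hρ]; exact hχ)
  have : ρ'.IsIrreducible := isIrreducible_of_isIrrCharacter ρ' (by rw [hρ']; exact hχ')
  have h1 : ∀ g : G, ρh.character (g * x) = LinearMap.trace ℂ _ (ρ g ∘ₗ ρh x) := by
    intro g
    show LinearMap.trace ℂ _ (ρh (g * x)) = _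
    rw [map_mul]
    rfl
  have h2 : ∀ g : G, conj (ρh'.character (g * x))
      = LinearMap.trace ℂ _ (ρ' g⁻¹ ∘ₗ ρh' x⁻¹) := by
    intro g
    rw [hconj]
    show LinearMap.trace ℂ _ (ρh' ((g : Γ) * x)⁻¹) = _
    rw [mul_inv_rev, map_mul]
    show LinearMap.trace ℂ _ (ρh' x⁻¹ * ρh' (g : Γ)⁻¹) = _
    rw [LinearMap.trace_mul_comm]
    rfl
  simp_rw [h1, h2]
  exact Cfsg.Agent.Lib.Lead.SchurOrth.sum_trace_mul_trace_ne ρ ρ' (by rw [hρ, hρ']; exact hne) _ _

end orth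

end Cfsg.Agent.Lib.Helper3.GlauCyc
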