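import Mathlib
import Cfsg.Prelude.Def_Characters
import Cfsg.Agent.Lib.Helper6.CliffordCorr
import Cfsg.Agent.Lib.Helper6.IrrBasis
import Cfsg.Agent.S0856
import Cfsg.Agent.S0146

set_option autoImplicit false

namespace Cfsg.Agent.Lib.Helper3.GallagherFactor

open Cfsg.Agent.Lib.Helper6

/-- **Gallagher**: if `η ∈ Irr(G)` restricts irreducibly to `N ⊴ G`, every irreducible character
`ψ` of `G` lying over `η_N` is `β η` with `β` an irreducible character of `G` trivial on `N`. -/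
theorem exists_factor {G : Type*} [Group G] [Finite G] (N : Subgroup G) [hN : N.Normal]
    (η : G → ℂ) (hη : Cfsg.IsIrrCharacter G η)
    (hηN : Cfsg.IsIrrCharacter N (fun n : N => η n)) (ψ : G → ℂ) (hψ : Cfsg.IsIrrCharacter G ψ)
    [Fintype N]
    (hc : Cfsg.classInner (fun n : N => ψ n) (fun n : N => η n) ≠ 0) :
    ∃ β : G → ℂ, Cfsg.IsIrrCharacter G β ∧ (∀ n : N, β n = β 1) ∧ ψ = β * η := by
  classical
  have : Fintype G := Fintype.ofFinite G
  set ϑ : N → ℂ := fun n : N => η n with hϑdef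
  have hηcf := IsIrrCharacter.isClassFunction hη
  have hone : Cfsg.IsIrrCharacter N (fun _ : N => (1 : ℂ)) := isIrrCharacter_one
  have hprodeq : ((fun _ : N => (1 : ℂ)) * ϑ) = ϑ := by
    funext n
    simp
  have hϑinv : ∀ (g : G) (n : N), ϑ ⟨g * n * g⁻¹, hN.conj_mem (n : G) n.2 g⟩ = ϑ n := by
    intro g n
    exact hηcf n g
  have hB := Cfsg.Agent.S0856.result N (fun _ : N => (1 : ℂ)) ϑ hone hηN
    (fun g n => rfl) hϑinv (by rw [hprodeq]; exact hηN) η hη (fun n => rfl)
  have hψcf := IsIrrCharacter.isClassFunction hψ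
  have hmem : ψ ∈ {ψ : G → ℂ | Cfsg.IsIrrCharacter G ψ ∧
      Cfsg.classInner (Cfsg.indFun N ((fun _ : N => (1 : ℂ)) * ϑ)) ψ ≠ 0} := by
    refine ⟨hψ, ?_⟩
    rw [hprodeq, Cfsg.Agent.S0146.result N ϑ ψ hψcf]
    intro h0
    apply hc
    rw [← classInner_conj_symm, h0, map_zero]
  obtain ⟨β, ⟨hβirr, hβind⟩, hβeq⟩ := hB.surjOn hmem
  simp only at hβeq
  refine ⟨β, hβirr, ?_, hβeq.symm⟩
  have hβcf := IsIrrCharacter.isClassFunction hβirr
  rw [Cfsg.Agent.S0146.result N _ β hβcf] at hβind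
  have hcon : Cfsg.classInner (fun n : N => β n) (fun _ : N => (1 : ℂ)) ≠ 0 := by
    intro h0
    apply hβind
    rw [← classInner_conj_symm, h0, map_zero]
  have hres := restrict_eq_smul_of_invariant N hN hβirr hone (fun g => rfl) hcon
  intro n
  have h1 := congrFun hres n
  have h2 := congrFun hres 1
  simp only [Pi.smul_apply, smul_eq_mul, mul_one] at h1 h2
  rw [h1]
  exact h2.symm

end Cfsg.Agent.Lib.Helper3.GallagherFactor
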