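import Mathlib
import Cfsg.Agent.Lib.Helper1.SZConj

set_option autoImplicit false
set_option linter.unusedSectionVars false

namespace Cfsg.Agent.Lib.Helper3.GlauCyc

open Cfsg.Agent.Lib.Helper1
open Pointwise

universe u

section grp

variable {Γ : Type u} [Group Γ] (G S : Subgroup Γ)

/-- `G` is normal when `G ⊔ S = ⊤` and `S` normalises `G`. -/
theorem normal_of_sup (hnorm : ∀ s ∈ S, ∀ g ∈ G, s * g * s⁻¹ ∈ G) (htop : G ⊔ S = ⊤) :
    G.Normal := by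
  rw [← Subgroup.normalizer_eq_top_iff, eq_top_iff, ← htop, sup_le_iff]
  refine ⟨Subgroup.le_normalizer, ?_⟩
  intro s hs
  rw [Subgroup.mem_normalizer_iff]
  intro g
  constructor
  · intro hg
    exact hnorm s hs g hg
  · intro hg
    have := hnorm s⁻¹ (S.inv_mem hs) _ hg
    simpa [mul_assoc] using this

/-- the fixed-point subgroup -/
abbrev fixC : Subgroup Γ := G ⊓ Subgroup.centralizer (S : Set Γ)

theorem mem_fixC_of_commute {s₀ : Γ} (hs₀ : Subgroup.zpowers s₀ = S) {c : Γ} (hc : c ∈ G)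
    (hcomm : Commute c s₀) : c ∈ fixC G S := by
  refine Subgroup.mem_inf.mpr ⟨hc, ?_⟩
  rw [Subgroup.mem_centralizer_iff]
  intro t ht
  rw [SetLike.mem_coe, ← hs₀] at ht
  obtain ⟨k, rfl⟩ := Subgroup.mem_zpowers_iff.mp ht
  exact ((hcomm.zpow_right k).eq).symm

theorem commute_of_mem_fixC {s₀ : Γ} (hs₀ : Subgroup.zpowers s₀ = S) {c : Γ}
    (hc : c ∈ fixC G S) : Commute c s₀ := by
  have h1 := Subgroup.mem_centralizer_iff.mp (Subgroup.mem_inf.mp hc).2 s₀ (by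
    rw [SetLike.mem_coe, ← hs₀]
    exact Subgroup.mem_zpowers s₀)
  exact h1.symm

end grp

section fin

variable {Γ : Type u} [Group Γ] [Finite Γ] (G S : Subgroup Γ)

theorem isComplement'_of_sup [hG : G.Normal] (hcop : (Nat.card G).Coprime (Nat.card S))
    (htop : G ⊔ S = ⊤) : Subgroup.IsComplement' G S := by
  apply Subgroup.isComplement'_of_disjoint_and_mul_eq_univ
  · exact Subgroup.disjoint_of_coprime_natCard hcop
  · rw [← Subgroup.normal_mul, htop]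
    rfl

/-- CRT exponent: `a ≡ 0 mod |G|`, `a ≡ 1 mod |S|`. -/
theorem exists_crt (hcop : (Nat.card G).Coprime (Nat.card S)) :
    ∃ a : ℕ, Nat.card G ∣ a ∧ a ≡ 1 [MOD Nat.card S] := by
  obtain ⟨a, ha1, ha2⟩ := Nat.chineseRemainder hcop 0 1
  exact ⟨a, (Nat.modEq_zero_iff_dvd).mp ha1, ha2⟩

theorem pow_eq_self_of_modEq {s₀ : Γ} (hs₀ : Subgroup.zpowers s₀ = S) {a : ℕ}
    (ha : a ≡ 1 [MOD Nat.card S]) : s₀ ^ a = s₀ := by
  have h1 : orderOf s₀ = Nat.card S := by rw [← hs₀, Nat.card_zpowers]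
  have h2 : s₀ ^ a = s₀ ^ 1 := by
    rw [pow_eq_pow_iff_modEq, h1]
    exact ha
  rw [h2, pow_one]

theorem pow_eq_one_of_mem {a : ℕ} (ha : Nat.card G ∣ a) {c : Γ} (hc : c ∈ G) : c ^ a = 1 := by
  obtain ⟨b, rfl⟩ := ha
  have h1 : (⟨c, hc⟩ : G) ^ Nat.card G = 1 := pow_card_eq_one'
  have h2 : c ^ Nat.card G = 1 := by
    have := congrArg Subtype.val h1
    rwa [Subgroup.coe_pow, Subgroup.coe_one] at this
  rw [pow_mul, h2, one_pow]

/-- conjugates inside the coset `C s₀` come from `C` -/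
theorem mem_fixC_of_conj (hcop : (Nat.card G).Coprime (Nat.card S)) {s₀ : Γ}
    (hs₀ : Subgroup.zpowers s₀ = S) {y c₁ c₂ : Γ} (hy : y ∈ G) (hc₁ : c₁ ∈ fixC G S)
    (hc₂ : c₂ ∈ fixC G S) (h : y * (c₁ * s₀) * y⁻¹ = c₂ * s₀) : y ∈ fixC G S := by
  obtain ⟨a, ha1, ha2⟩ := exists_crt G S hcop
  have hpow : ∀ c : Γ, c ∈ fixC G S → (c * s₀) ^ a = s₀ := by
    intro c hc
    rw [(commute_of_mem_fixC G S hs₀ hc).mul_pow, pow_eq_one_of_mem G ha1 (Subgroup.mem_inf.mp hc).1,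
      one_mul, pow_eq_self_of_modEq S hs₀ ha2]
  have h1 : (y * (c₁ * s₀) * y⁻¹) ^ a = (c₂ * s₀) ^ a := by rw [h]
  rw [conj_pow, hpow c₁ hc₁, hpow c₂ hc₂] at h1
  apply mem_fixC_of_commute G S hs₀ hy
  have : y * s₀ = s₀ * y := by
    calc y * s₀ = y * s₀ * y⁻¹ * y := by group
      _ = s₀ * y := by rw [h1]
  exact this

/-- every element of the coset `G s₀` is `G`-conjugate to an element of `C s₀` -/
theorem exists_conj_fixC (hnorm : ∀ s ∈ S, ∀ g ∈ G, s * g * s⁻¹ ∈ G)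
    (hcop : (Nat.card G).Coprime (Nat.card S)) (htop : G ⊔ S = ⊤) (hcyc : IsCyclic S) {s₀ : Γ}
    (hs₀ : Subgroup.zpowers s₀ = S) {g : Γ} (hg : g ∈ G) :
    ∃ y ∈ G, ∃ c ∈ fixC G S, g * s₀ = y * (c * s₀) * y⁻¹ := by
  have hG : G.Normal := normal_of_sup G S hnorm htop
  have hcompl := isComplement'_of_sup G S hcop htop
  have hcard : Nat.card G * Nat.card S = Nat.card Γ := hcompl.card_mul_card
  have hs₀S : s₀ ∈ S := by rw [← hs₀]; exact Subgroup.mem_zpowers s₀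
  have hdisj : G ⊓ S = ⊥ := (Subgroup.disjoint_of_coprime_natCard hcop).eq_bot
  obtain ⟨a, ha1, ha2⟩ := exists_crt G S hcop
  set x := g * s₀ with hx
  set u := x ^ a with hu
  -- u ^ n = 1
  have hun : u ^ Nat.card S = 1 := by
    obtain ⟨b, rfl⟩ := ha1
    rw [hu, ← pow_mul, mul_assoc, mul_comm b, ← mul_assoc, hcard, pow_mul, pow_card_eq_one',
      one_pow]
  -- u ≡ s₀ mod G
  have hmkx : (QuotientGroup.mk x : Γ ⧸ G) = QuotientGroup.mk s₀ := by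
    rw [hx, QuotientGroup.mk_mul, (QuotientGroup.eq_one_iff g).mpr hg, one_mul]
  have hmku : (QuotientGroup.mk u : Γ ⧸ G) = QuotientGroup.mk s₀ := by
    rw [hu, QuotientGroup.mk_pow, hmkx, ← QuotientGroup.mk_pow, pow_eq_self_of_modEq S hs₀ ha2]
  -- order of u
  have hord_s : orderOf s₀ = Nat.card S := by rw [← hs₀, Nat.card_zpowers]
  have hdvd : Nat.card S ∣ orderOf u := by
    rw [← hord_s, orderOf_dvd_iff_pow_eq_one]
    have h1 : (QuotientGroup.mk (u ^ orderOf u) : Γ ⧸ G) = 1 := by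
      rw [pow_orderOf_eq_one, QuotientGroup.mk_one]
    rw [QuotientGroup.mk_pow, hmku, ← QuotientGroup.mk_pow, QuotientGroup.eq_one_iff] at h1
    have h2 : s₀ ^ orderOf u ∈ G ⊓ S := ⟨h1, S.pow_mem hs₀S _⟩
    rw [hdisj, Subgroup.mem_bot] at h2
    exact h2
  have hord_u : orderOf u = Nat.card S :=
    Nat.dvd_antisymm (orderOf_dvd_of_pow_eq_one hun) hdvd
  -- complement
  have hcomplT : Subgroup.IsComplement' G (Subgroup.zpowers u) := by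
    apply Subgroup.isComplement'_of_coprime
    · rw [Nat.card_zpowers, hord_u, hcard]
    · rw [Nat.card_zpowers, hord_u]
      exact hcop
  have hsolv : Group.IsSolvable S := by
    have := hcyc
    have : IsMulCommutative S := ⟨⟨fun a b => IsCyclic.commGroup.mul_comm a b⟩⟩
    infer_instance
  obtain ⟨y, hy, hyS⟩ := sz_conj_mem G S (Subgroup.zpowers u) hcompl hcomplT hcop (Or.inr hsolv)
  -- y s₀ y⁻¹ = u
  have huT : u ∈ MulAut.conj y • S := by rw [hyS]; exact Subgroup.mem_zpowers u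
  obtain ⟨t, ht, htu⟩ := (Subgroup.mem_smul_pointwise_iff_exists _ _ _).mp huT
  rw [MulAut.smul_def, MulAut.conj_apply] at htu
  have hmky : (QuotientGroup.mk y : Γ ⧸ G) = 1 := (QuotientGroup.eq_one_iff y).mpr hy
  have hts : t = s₀ := by
    have h1 : (QuotientGroup.mk t : Γ ⧸ G) = QuotientGroup.mk s₀ := by
      rw [← hmku, ← htu, QuotientGroup.mk_mul, QuotientGroup.mk_mul, QuotientGroup.mk_inv, hmky]
      simp
    have h2 : t⁻¹ * s₀ ∈ G ⊓ S := ⟨QuotientGroup.eq.mp h1, S.mul_mem (S.inv_mem ht) hs₀S⟩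
    rw [hdisj, Subgroup.mem_bot] at h2
    exact (inv_mul_eq_one.mp h2)
  rw [hts] at htu
  -- x commutes with u
  have hxu : Commute x u := by
    rw [hu]
    exact (Commute.refl x).pow_right a
  set x' := y⁻¹ * x * y with hx'
  have hx's : Commute x' s₀ := by
    have h1 : s₀ = y⁻¹ * u * y := by rw [← htu]; group
    rw [h1, hx']
    have := hxu.eq
    show y⁻¹ * x * y * (y⁻¹ * u * y) = y⁻¹ * u * y * (y⁻¹ * x * y)
    calc y⁻¹ * x * y * (y⁻¹ * u * y) = y⁻¹ * (x * u) * y := by group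
      _ = y⁻¹ * (u * x) * y := by rw [this]
      _ = _ := by group
  set c := x' * s₀⁻¹ with hc
  have hcG : c ∈ G := by
    rw [← QuotientGroup.eq_one_iff, hc, hx', QuotientGroup.mk_mul, QuotientGroup.mk_mul,
      QuotientGroup.mk_mul, QuotientGroup.mk_inv, QuotientGroup.mk_inv, hmky, hmkx]
    simp
  have hcs : Commute c s₀ := by
    rw [hc]
    exact hx's.mul_left ((Commute.refl s₀).inv_left)
  refine ⟨y, hy, c, mem_fixC_of_commute G S hs₀ hcG hcs, ?_⟩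
  rw [hc, hx']
  group

/-- the twisted conjugation map `(y, c) ↦ y c s₀ y⁻¹ s₀⁻¹` -/
def twMap (hnorm : ∀ s ∈ S, ∀ g ∈ G, s * g * s⁻¹ ∈ G) {s₀ : Γ} (hs₀S : s₀ ∈ S)
    (p : G × fixC G S) : G :=
  ⟨(p.1 : Γ) * (p.2 : Γ) * s₀ * (p.1 : Γ)⁻¹ * s₀⁻¹, by
    have h1 : s₀ * (p.1 : Γ)⁻¹ * s₀⁻¹ ∈ G := hnorm s₀ hs₀S _ (G.inv_mem p.1.2)
    have h2 : (p.1 : Γ) * (p.2 : Γ) * (s₀ * (p.1 : Γ)⁻¹ * s₀⁻¹) ∈ G :=
      G.mul_mem (G.mul_mem p.1.2 (Subgroup.mem_inf.mp p.2.2).1) h1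
    have h3 : (p.1 : Γ) * (p.2 : Γ) * s₀ * (p.1 : Γ)⁻¹ * s₀⁻¹
        = (p.1 : Γ) * (p.2 : Γ) * (s₀ * (p.1 : Γ)⁻¹ * s₀⁻¹) := by group
    rw [h3]
    exact h2⟩

theorem twMap_mul (hnorm : ∀ s ∈ S, ∀ g ∈ G, s * g * s⁻¹ ∈ G) {s₀ : Γ} (hs₀S : s₀ ∈ S)
    (p : G × fixC G S) :
    ((twMap G S hnorm hs₀S p : G) : Γ) * s₀ = (p.1 : Γ) * ((p.2 : Γ) * s₀) * (p.1 : Γ)⁻¹ := by
  simp only [twMap]
  group

theorem card_fiber_twMap [Fintype G] [Fintype (fixC G S)] [DecidableEq G]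
    (hnorm : ∀ s ∈ S, ∀ g ∈ G, s * g * s⁻¹ ∈ G)
    (hcop : (Nat.card G).Coprime (Nat.card S)) (htop : G ⊔ S = ⊤) (hcyc : IsCyclic S) {s₀ : Γ}
    (hs₀ : Subgroup.zpowers s₀ = S) (hs₀S : s₀ ∈ S) (g : G) :
    (Finset.univ.filter (fun p : G × fixC G S => twMap G S hnorm hs₀S p = g)).card
      = Fintype.card (fixC G S) := by
  obtain ⟨y₀, hy₀, c₀, hc₀, h0⟩ := exists_conj_fixC G S hnorm hcop htop hcyc hs₀ g.2
  rw [← Finset.card_univ]
  symm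
  have hCG : ∀ z : fixC G S, (z : Γ) ∈ G := fun z => (Subgroup.mem_inf.mp z.2).1
  have hcomm : ∀ z : fixC G S, Commute (z : Γ) s₀ := fun z => commute_of_mem_fixC G S hs₀ z.2
  apply Finset.card_bij (fun (z : fixC G S) _ =>
    ((⟨y₀ * (z : Γ)⁻¹, G.mul_mem hy₀ (G.inv_mem (hCG z))⟩ : G),
      (⟨(z : Γ) * c₀ * (z : Γ)⁻¹, (fixC G S).mul_mem ((fixC G S).mul_mem z.2 hc₀)
        ((fixC G S).inv_mem z.2)⟩ : fixC G S)))
  · intro z _
    simp only [Finset.mem_filter, Finset.mem_univ, true_and]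
    apply Subtype.ext
    apply mul_right_cancel (b := s₀)
    rw [twMap_mul, h0]
    show y₀ * (z : Γ)⁻¹ * ((z : Γ) * c₀ * (z : Γ)⁻¹ * s₀) * (y₀ * (z : Γ)⁻¹)⁻¹ = _
    have h1 := (hcomm z).eq
    calc y₀ * (z : Γ)⁻¹ * ((z : Γ) * c₀ * (z : Γ)⁻¹ * s₀) * (y₀ * (z : Γ)⁻¹)⁻¹
        = y₀ * c₀ * ((z : Γ)⁻¹ * (s₀ * (z : Γ))) * y₀⁻¹ := by group
      _ = y₀ * c₀ * ((z : Γ)⁻¹ * ((z : Γ) * s₀)) * y₀⁻¹ := by rw [h1]
      _ = y₀ * (c₀ * s₀) * y₀⁻¹ := by group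
  · intro z₁ _ z₂ _ h
    have h1 := congrArg (fun p : G × fixC G S => ((p.1 : G) : Γ)) h
    simp only at h1
    have h2 : (z₁ : Γ)⁻¹ = (z₂ : Γ)⁻¹ := mul_left_cancel h1
    exact Subtype.ext (inv_injective h2)
  · intro p hp
    simp only [Finset.mem_filter, Finset.mem_univ, true_and] at hp
    have h1 : (p.1 : Γ) * ((p.2 : Γ) * s₀) * (p.1 : Γ)⁻¹ = y₀ * (c₀ * s₀) * y₀⁻¹ := by
      rw [← twMap_mul G S hnorm hs₀S p, hp, h0]
    -- w = y₀⁻¹ y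
    have h2 : (y₀⁻¹ * (p.1 : Γ)) * ((p.2 : Γ) * s₀) * (y₀⁻¹ * (p.1 : Γ))⁻¹ = c₀ * s₀ := by
      calc (y₀⁻¹ * (p.1 : Γ)) * ((p.2 : Γ) * s₀) * (y₀⁻¹ * (p.1 : Γ))⁻¹
          = y₀⁻¹ * ((p.1 : Γ) * ((p.2 : Γ) * s₀) * (p.1 : Γ)⁻¹) * y₀ := by group
        _ = y₀⁻¹ * (y₀ * (c₀ * s₀) * y₀⁻¹) * y₀ := by rw [h1]
        _ = c₀ * s₀ := by group
    have hw : y₀⁻¹ * (p.1 : Γ) ∈ fixC G S :=
      mem_fixC_of_conj G S hcop hs₀ (G.mul_mem (G.inv_mem hy₀) p.1.2) p.2.2 hc₀ h2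
    refine ⟨⟨(y₀⁻¹ * (p.1 : Γ))⁻¹, (fixC G S).inv_mem hw⟩, Finset.mem_univ _, ?_⟩
    have hws : Commute (y₀⁻¹ * (p.1 : Γ)) s₀ := commute_of_mem_fixC G S hs₀ hw
    apply Prod.ext
    · apply Subtype.ext
      show y₀ * ((y₀⁻¹ * (p.1 : Γ))⁻¹)⁻¹ = (p.1 : Γ)
      group
    · apply Subtype.ext
      show (y₀⁻¹ * (p.1 : Γ))⁻¹ * c₀ * ((y₀⁻¹ * (p.1 : Γ))⁻¹)⁻¹ = (p.2 : Γ)
      have h3 : c₀ = (y₀⁻¹ * (p.1 : Γ)) * (p.2 : Γ) * (y₀⁻¹ * (p.1 : Γ))⁻¹ := by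
        have h4 : (y₀⁻¹ * (p.1 : Γ)) * ((p.2 : Γ) * s₀) * (y₀⁻¹ * (p.1 : Γ))⁻¹
            = (y₀⁻¹ * (p.1 : Γ)) * (p.2 : Γ) * (y₀⁻¹ * (p.1 : Γ))⁻¹ * s₀ := by
          have := hws.eq
          calc (y₀⁻¹ * (p.1 : Γ)) * ((p.2 : Γ) * s₀) * (y₀⁻¹ * (p.1 : Γ))⁻¹
              = (y₀⁻¹ * (p.1 : Γ)) * (p.2 : Γ) * (s₀ * (y₀⁻¹ * (p.1 : Γ))⁻¹) := by group
            _ = (y₀⁻¹ * (p.1 : Γ)) * (p.2 : Γ) * ((y₀⁻¹ * (p.1 : Γ))⁻¹ * s₀) := by
                rw [(hws.inv_left).eq]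
            _ = _ := by group
        rw [h4] at h2
        exact (mul_right_cancel h2).symm
      rw [h3]
      group

/-- the sum formula: coset sums of `G`-invariant functions reduce to `C s₀` -/
theorem sum_coset_eq [Fintype G] [Fintype (fixC G S)]
    (hnorm : ∀ s ∈ S, ∀ g ∈ G, s * g * s⁻¹ ∈ G)
    (hcop : (Nat.card G).Coprime (Nat.card S)) (htop : G ⊔ S = ⊤) (hcyc : IsCyclic S) {s₀ : Γ}
    (hs₀ : Subgroup.zpowers s₀ = S) (F : Γ → ℂ)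
    (hF : ∀ y ∈ G, ∀ x : Γ, F (y * x * y⁻¹) = F x) :
    (Nat.card (fixC G S) : ℂ) * ∑ g : G, F ((g : Γ) * s₀)
      = (Nat.card G : ℂ) * ∑ c : fixC G S, F ((c : Γ) * s₀) := by
  classical
  have hs₀S : s₀ ∈ S := by rw [← hs₀]; exact Subgroup.mem_zpowers s₀
  have h1 : ∑ p : G × fixC G S, F (((twMap G S hnorm hs₀S p : G) : Γ) * s₀)
      = (Nat.card G : ℂ) * ∑ c : fixC G S, F ((c : Γ) * s₀) := by
    rw [Fintype.sum_prod_type]
    have : ∀ (y : G) (c : fixC G S), F (((twMap G S hnorm hs₀S (y, c) : G) : Γ) * s₀)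
        = F ((c : Γ) * s₀) := by
      intro y c
      rw [twMap_mul]
      exact hF y y.2 _
    simp_rw [this]
    rw [Finset.sum_const, Finset.card_univ, nsmul_eq_mul, Nat.card_eq_fintype_card]
  have h2 : ∑ p : G × fixC G S, F (((twMap G S hnorm hs₀S p : G) : Γ) * s₀)
      = (Nat.card (fixC G S) : ℂ) * ∑ g : G, F ((g : Γ) * s₀) := by
    rw [← Finset.sum_fiberwise Finset.univ (fun p : G × fixC G S => twMap G S hnorm hs₀S p)
      (fun p => F (((twMap G S hnorm hs₀S p : G) : Γ) * s₀)), Finset.mul_sum]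
    apply Finset.sum_congr rfl
    intro g _
    have h3 : ∑ p ∈ Finset.univ.filter (fun p : G × fixC G S => twMap G S hnorm hs₀S p = g),
        F (((twMap G S hnorm hs₀S p : G) : Γ) * s₀)
        = ∑ p ∈ Finset.univ.filter (fun p : G × fixC G S => twMap G S hnorm hs₀S p = g),
          F ((g : Γ) * s₀) := by
      apply Finset.sum_congr rfl
      intro p hp
      simp only [Finset.mem_filter, Finset.mem_univ, true_and] at hp
      rw [hp]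
    rw [h3, Finset.sum_const, card_fiber_twMap G S hnorm hcop htop hcyc hs₀ hs₀S g, nsmul_eq_mul,
      Nat.card_eq_fintype_card]
  rw [← h2, h1]

end fin

end Cfsg.Agent.Lib.Helper3.GlauCyc
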