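import Mathlib
import Cfsg.Agent.Lib.Helper6.FiniteOrder
import Cfsg.Agent.Lib.Helper3.DetChar

set_option autoImplicit false
set_option linter.unusedSectionVars false

namespace Cfsg.Agent.Lib.Helper3.GlauCyc

open Cfsg Cfsg.Agent.Lib.Helper6 Module
open scoped ComplexConjugate

section powsum

variable {ι : Type*} [Fintype ι]

/-- multiplicities of roots of unity are determined by power sums -/
theorem card_filter_mul_eq [DecidableEq ι] (n : ℕ) (hn : 0 < n) (ν : ι → ℂ)
    (hν : ∀ i, ν i ^ n = 1) (ω : ℂ) (hω : ω ^ n = 1) [DecidablePred fun i => ν i = ω] :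
    ((Finset.univ.filter (fun i => ν i = ω)).card : ℂ) * n
      = ∑ j ∈ Finset.range n, (ω⁻¹) ^ j * ∑ i, ν i ^ j := by
  have hω0 : ω ≠ 0 := by
    rintro rfl
    rw [zero_pow hn.ne'] at hω
    exact zero_ne_one hω
  have h1 : ∑ j ∈ Finset.range n, (ω⁻¹) ^ j * ∑ i, ν i ^ j
      = ∑ i, ∑ j ∈ Finset.range n, (ν i * ω⁻¹) ^ j := by
    simp_rw [Finset.mul_sum]
    rw [Finset.sum_comm]
    apply Finset.sum_congr rfl
    intro i _
    apply Finset.sum_congr rfl
    intro j _
    rw [mul_pow]
    ring
  have h2 : ∀ i, ∑ j ∈ Finset.range n, (ν i * ω⁻¹) ^ j = if ν i = ω then (n : ℂ) else 0 := by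
    intro i
    split_ifs with h
    · rw [h, mul_inv_cancel₀ hω0]
      simp
    · have hz : ν i * ω⁻¹ ≠ 1 := by
        intro h'
        apply h
        have := congrArg (· * ω) h'
        simpa [mul_assoc, inv_mul_cancel₀ hω0] using this
      rw [geom_sum_eq hz, mul_pow, inv_pow, hν i, hω]
      simp
  rw [h1]
  simp_rw [h2]
  rw [← Finset.sum_filter, Finset.sum_const, nsmul_eq_mul]

/-- equal power sums of families of roots of unity force equal products -/
theorem prod_eq_of_pow_sum_eq (n : ℕ) (hn : 0 < n) (ν ν' : ι → ℂ) (hν : ∀ i, ν i ^ n = 1)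
    (hν' : ∀ i, ν' i ^ n = 1) (h : ∀ j : ℕ, ∑ i, ν i ^ j = ∑ i, ν' i ^ j) :
    ∏ i, ν i = ∏ i, ν' i := by
  classical
  have hms : Multiset.map ν Finset.univ.val = Multiset.map ν' Finset.univ.val := by
    rw [Multiset.ext]
    intro ω
    rw [Multiset.count_map, Multiset.count_map]
    by_cases hω : ω ^ n = 1
    · have h1 := card_filter_mul_eq n hn ν hν ω hω
      have h2 := card_filter_mul_eq n hn ν' hν' ω hω
      simp_rw [h] at h1
      rw [← h2] at h1
      have hn0 : (n : ℂ) ≠ 0 := by exact_mod_cast hn.ne'
      have h3 := mul_right_cancel₀ hn0 h1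
      have h4 : (Finset.univ.filter (fun i => ν i = ω)).card
          = (Finset.univ.filter (fun i => ν' i = ω)).card := by exact_mod_cast h3
      have e1 : Multiset.card (Multiset.filter (fun a => ω = ν a) Finset.univ.val)
          = (Finset.univ.filter (fun i => ν i = ω)).card := by
        rw [Finset.card_def, Finset.filter_val]
        congr 1
        apply Multiset.filter_congr
        intro x _
        exact eq_comm
      have e2 : Multiset.card (Multiset.filter (fun a => ω = ν' a) Finset.univ.val)
          = (Finset.univ.filter (fun i => ν' i = ω)).card := by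
        rw [Finset.card_def, Finset.filter_val]
        congr 1
        apply Multiset.filter_congr
        intro x _
        exact eq_comm
      rw [e1, e2, h4]
    · have e1 : Multiset.filter (fun a => ω = ν a) Finset.univ.val = 0 := by
        rw [Multiset.filter_eq_nil]
        intro a _ ha
        exact hω (ha ▸ hν a)
      have e2 : Multiset.filter (fun a => ω = ν' a) Finset.univ.val = 0 := by
        rw [Multiset.filter_eq_nil]
        intro a _ ha
        exact hω (ha ▸ hν' a)
      rw [e1, e2]
  have := congrArg Multiset.prod hms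
  exact this

end powsum

section eigen

variable {V : Type*} [AddCommGroup V] [Module ℂ V]

/-- determinant of an endomorphism with an eigenbasis -/
theorem det_eq_prod_of_eigenbasis {ι : Type*} [Fintype ι] (b : Basis ι ℂ V) (μ : ι → ℂ)
    (f : Module.End ℂ V) (h : ∀ i, f (b i) = μ i • b i) :
    LinearMap.det f = ∏ i, μ i := by
  classical
  rw [← LinearMap.det_toMatrix b f]
  have : LinearMap.toMatrix b b f = Matrix.diagonal μ := by
    ext i j
    rw [LinearMap.toMatrix_apply, h j, map_smul, Finsupp.smul_apply, Basis.repr_self,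
      Matrix.diagonal_apply, Finsupp.single_apply, smul_eq_mul]
    by_cases hij : i = j
    · rw [hij]
      simp
    · have hji : ¬ j = i := fun h' => hij h'.symm
      rw [if_neg hji, if_neg hij, mul_zero]
  rw [this, Matrix.det_diagonal]

variable [FiniteDimensional ℂ V] {K : Type*} [Group K]

/-- eigenvalue data of a finite order element: power sums give the character values, the
product gives the determinant -/
theorem exists_eigen_data (ρ : Representation ℂ K V) (g : K) (n : ℕ) (hn : 0 < n)
    (hg : g ^ n = 1) :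
    ∃ (ι : Type) (_ : Fintype ι) (μ : ι → ℂ), (∀ i, μ i ^ n = 1) ∧
      (∀ j : ℕ, ρ.character (g ^ j) = ∑ i, μ i ^ j) ∧ LinearMap.det (ρ g) = ∏ i, μ i := by
  have hf : (ρ g) ^ n = 1 := by rw [← map_pow, hg, map_one]
  obtain ⟨ι, _, b, μ, hb, hμ⟩ := exists_eigenbasis_of_pow_eq_one hn hf
  refine ⟨ι, inferInstance, μ, hμ, ?_, det_eq_prod_of_eigenbasis b μ (ρ g) hb⟩
  have hpow : ∀ (k : ℕ) i, (ρ (g ^ k)) (b i) = (μ i ^ k) • b i := by
    intro k i
    induction k with
    | zero => simp
    | succ k ih =>
      rw [pow_succ, map_mul, Module.End.mul_apply, hb i, map_smul, ih, smul_smul, pow_succ,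
        mul_comm]
  intro k
  exact trace_eq_sum_of_eigenbasis b (fun i => μ i ^ k) (ρ (g ^ k)) (hpow k)

end eigen

end Cfsg.Agent.Lib.Helper3.GlauCyc
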