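import Mathlib
import Cfsg.Agent.Lib.Helper3.GlauCyc1
import Cfsg.Agent.Lib.Helper3.GlauCyc3
import Cfsg.Agent.Lib.Helper3.GallagherFactor
import Cfsg.Agent.Lib.Helper6.GaloisConj
import Cfsg.Agent.Lib.Helper6.Multiplicity
import Cfsg.Agent.Lib.Helper6.Linear

set_option autoImplicit false
set_option linter.unusedSectionVars false

namespace Cfsg.Agent.Lib.Helper3.GlauCyc

open Cfsg Cfsg.Agent.Lib.Helper6 Module Cfsg.Agent.Lib.Helper3.GallagherFactor Cfsg.Agent.Lib.Helper3.DetChar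
open scoped ComplexConjugate

universe u

section gen

variable {Γ : Type u} [Group Γ] [Fintype Γ] (G S : Subgroup Γ) [Fintype G]

/-- the canonical extension takes the same value at `c s` for all generators `s` of `S` -/
theorem apply_mul_pow_eq [hG : G.Normal] (hcop : (Nat.card G).Coprime (Nat.card S))
    (htop : G ⊔ S = ⊤) {s₀ : Γ} (hs₀ : Subgroup.zpowers s₀ = S) {χh : Γ → ℂ}
    (hχh : Cfsg.IsIrrCharacter Γ χh) (hχ : Cfsg.IsIrrCharacter G (fun g : G => χh g))
    (hdet : (Cfsg.detOrder χh).Coprime (Nat.card S)) (k : ℕ) (hk : k.Coprime (Nat.card S))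
    {c : Γ} (hc : c ∈ fixC G S) : χh (c * s₀ ^ k) = χh (c * s₀) := by
  classical
  have hcard : Nat.card G * Nat.card S = Nat.card Γ :=
    (isComplement'_of_sup G S hcop htop).card_mul_card
  have hn : 0 < Nat.card S := Nat.card_pos
  have hord_s : orderOf s₀ = Nat.card S := by rw [← hs₀, Nat.card_zpowers]
  have hsn : s₀ ^ Nat.card S = 1 := by rw [← hord_s]; exact pow_orderOf_eq_one s₀
  obtain ⟨M, hM1, hMk⟩ := Nat.chineseRemainder hcop 1 k
  have hMG : M.Coprime (Nat.card G) := by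
    have h1 : Nat.gcd M (Nat.card G) = Nat.gcd 1 (Nat.card G) := hM1.gcd_eq
    rw [Nat.Coprime, h1]
    exact Nat.gcd_one_left _
  have hMS : M.Coprime (Nat.card S) := by
    have h1 : Nat.gcd M (Nat.card S) = Nat.gcd k (Nat.card S) := hMk.gcd_eq
    rw [Nat.Coprime, h1]
    exact hk
  have hMΓ : M.Coprime (Nat.card Γ) := by
    rw [← hcard]
    exact Nat.Coprime.mul_right hMG hMS
  -- powers
  have hpowG : ∀ g : Γ, g ∈ G → g ^ M = g := by
    intro g hg
    have h1 : g ^ M = g ^ 1 := by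
      rw [pow_eq_pow_iff_modEq]
      exact hM1.of_dvd (Subgroup.orderOf_dvd_natCard G hg)
    rw [h1, pow_one]
  have hpows : s₀ ^ M = s₀ ^ k := by
    rw [pow_eq_pow_iff_modEq, hord_s]
    exact hMk
  -- the Galois conjugate
  set ψ : Γ → ℂ := fun x => χh (x ^ M) with hψdef
  have hψ : Cfsg.IsIrrCharacter Γ ψ := IsIrrCharacter.comp_pow hχh hMΓ
  have hψG : (fun g : G => ψ g) = fun g : G => χh g := by
    funext g
    show χh ((g : Γ) ^ M) = χh g
    rw [hpowG g g.2]
  have hcon : Cfsg.classInner (fun g : G => ψ g) (fun g : G => χh g) ≠ 0 := by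
    rw [hψG, classInner_isIrrCharacter hχ hχ, if_pos rfl]
    exact one_ne_zero
  obtain ⟨β, hβ, hβG, hψβ⟩ := exists_factor G χh hχh hχ ψ hψ hcon
  have hχh1 : χh 1 ≠ 0 := IsIrrCharacter.apply_one_ne_zero hχh
  have hβ1 : β 1 = 1 := by
    have h1 := congrFun hψβ 1
    rw [Pi.mul_apply] at h1
    have h2 : ψ 1 = χh 1 := by show χh (1 ^ M) = χh 1; rw [one_pow]
    rw [h2] at h1
    have h3 : β 1 * χh 1 = 1 * χh 1 := by rw [← h1, one_mul]
    exact mul_right_cancel₀ hχh1 h3
  have hβmul : ∀ x y : Γ, β (x * y) = β x * β y :=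
    IsCharacter.mul_of_apply_one_eq_one (IsIrrCharacter.isCharacter hβ) hβ1
  have hβpow : ∀ (x : Γ) (j : ℕ), β (x ^ j) = β x ^ j := by
    intro x j
    induction j with
    | zero => simp [hβ1]
    | succ j ih => rw [pow_succ, hβmul, ih, pow_succ]
  set lam := β s₀ with hlam
  have hlamn : lam ^ Nat.card S = 1 := by rw [hlam, ← hβpow, hsn, hβ1]
  -- eigenvalue data
  obtain ⟨d, ρ, hirr, hρ⟩ := hχh
  obtain ⟨ι, _, μ, hμ, hμsum, hμdet⟩ := exists_eigen_data ρ s₀ (Nat.card S) hn hsn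
  have hχhval : ∀ j : ℕ, χh (s₀ ^ j) = ∑ i, μ i ^ j := by
    intro j
    rw [← hρ]
    exact hμsum j
  have hsum : ∀ j : ℕ, ∑ i, (lam * μ i) ^ j = ∑ i, (μ i ^ M) ^ j := by
    intro j
    have h1 : ψ (s₀ ^ j) = lam ^ j * χh (s₀ ^ j) := by
      rw [hψβ, Pi.mul_apply, hβpow]
    have h2 : ψ (s₀ ^ j) = χh (s₀ ^ (M * j)) := by
      show χh ((s₀ ^ j) ^ M) = _
      rw [← pow_mul, mul_comm]
    rw [h2, hχhval, hχhval] at h1
    simp_rw [mul_pow, ← Finset.mul_sum, ← pow_mul]
    exact h1.symm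
  have hprod := prod_eq_of_pow_sum_eq (Nat.card S) hn (fun i => lam * μ i) (fun i => μ i ^ M)
    (fun i => by rw [mul_pow, hlamn, hμ i, one_mul])
    (fun i => by rw [← pow_mul, mul_comm, pow_mul, hμ i, one_pow]) hsum
  rw [Finset.prod_mul_distrib, Finset.prod_const, Finset.prod_pow, Finset.card_univ] at hprod
  -- the determinant at s₀ is one
  have hD : ∏ i, μ i = 1 := by
    have h1 : (∏ i, μ i) ^ Nat.card S = 1 := by
      rw [← Finset.prod_pow]
      exact Finset.prod_eq_one (fun i _ => hμ i)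
    have h2 : (∏ i, μ i) ^ Cfsg.detOrder χh = 1 := by
      rw [← hμdet]
      have h3 : Cfsg.detChar χh ^ Cfsg.detOrder χh = 1 := pow_orderOf_eq_one _
      have h4 := congrFun h3 s₀
      rw [Pi.pow_apply, Pi.one_apply, ← hρ, detChar_character ρ] at h4
      rw [← hρ]
      exact h4
    have h5 := pow_gcd_eq_one.mpr ⟨h2, h1⟩
    rw [hdet.gcd_eq_one, pow_one] at h5
    exact h5
  rw [hD, one_pow, mul_one] at hprod
  -- degree
  have hcardι : (Fintype.card ι : ℂ) = χh 1 := by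
    have := hχhval 0
    simp only [pow_zero, Finset.sum_const, Finset.card_univ, nsmul_eq_mul, mul_one] at this
    exact this.symm
  have hdeg : Fintype.card ι = Cfsg.charDegree (fun g : G => χh g) := by
    have h1 := IsCharacter.apply_one_eq_charDegree (IsIrrCharacter.isCharacter hχ)
    simp only [Subgroup.coe_one] at h1
    rw [← hcardι] at h1
    exact_mod_cast h1
  have hdvd : Fintype.card ι ∣ Nat.card G := by
    rw [hdeg]
    exact IsIrrCharacter.charDegree_dvd_card hχ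
  have hcopd : (Fintype.card ι).Coprime (Nat.card S) := Nat.Coprime.coprime_dvd_left hdvd hcop
  have hlam1 : lam = 1 := by
    have h5 := pow_gcd_eq_one.mpr ⟨hprod, hlamn⟩
    rw [hcopd.gcd_eq_one, pow_one] at h5
    exact h5
  -- conclude
  have hcG : c ∈ G := (Subgroup.mem_inf.mp hc).1
  have hcs : Commute c s₀ := commute_of_mem_fixC G S hs₀ hc
  have h6 : (c * s₀) ^ M = c * s₀ ^ k := by
    rw [hcs.mul_pow, hpowG c hcG, hpows]
  have h7 : ψ (c * s₀) = χh (c * s₀ ^ k) := by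
    show χh ((c * s₀) ^ M) = _
    rw [h6]
  have h8 : β c = 1 := by
    have := hβG ⟨c, hcG⟩
    rw [hβ1] at this
    exact this
  rw [← h7, hψβ, Pi.mul_apply, hβmul, h8, ← hlam, hlam1, one_mul, one_mul]

end gen

end Cfsg.Agent.Lib.Helper3.GlauCyc
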