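import Mathlib
import Cfsg.Agent.Lib.Helper6.ProdChar
import Cfsg.Agent.Lib.Helper6.Decomp
import Cfsg.Agent.Lib.Helper6.Linear
import Cfsg.Agent.Lib.Helper6.IrrBasis
import Cfsg.Agent.S0187

set_option autoImplicit false
set_option linter.unusedSectionVars false

namespace Cfsg.Agent.Lib.Helper3.GlauCyc

open Cfsg Cfsg.Agent.Lib.Helper6 Module
open scoped ComplexConjugate

section prodsum

universe u v

variable {K : Type u} [Group K] [Fintype K] {A : Type v} [Group A] [Fintype A]

/-- Slicing a character of `K × A` (`A` abelian) at powers of `a ∈ A` and pairing with an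
irreducible character of `K` gives power sums of roots of unity. -/
theorem exists_roots_classInner (hA : ∀ x y : A, x * y = y * x) {ξ : K × A → ℂ}
    (hξ : Cfsg.IsCharacter (K × A) ξ) (a : A) (n : ℕ) (han : a ^ n = 1) {β : K → ℂ}
    (hβ : Cfsg.IsIrrCharacter K β) :
    ∃ (I : Type (max u v)) (_ : Fintype I) (μ : I → ℂ), (∀ i, μ i ^ n = 1) ∧
      ∀ j : ℕ, Cfsg.classInner (fun c : K => ξ (c, a ^ j)) β = ∑ i, μ i ^ j := by
  classical
  have : Fintype (Cfsg.IrrCharacter (K × A)) := Fintype.ofFinite _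
  obtain ⟨m, hm⟩ := IsCharacter.eq_sum_irr hξ
  choose φ lam hφ hlam hθ using fun θ : Cfsg.IrrCharacter (K × A) =>
    exists_prodFun_of_isIrrCharacter θ.2
  -- linearity of lam
  have hlam1 : ∀ θ, lam θ 1 = 1 := fun θ =>
    (Cfsg.Agent.S0187.result.mp hA) ⟨lam θ, hlam θ⟩
  have hlampow : ∀ θ (x : A) (j : ℕ), lam θ (x ^ j) = lam θ x ^ j := by
    intro θ x j
    induction j with
    | zero => simp [hlam1]
    | succ j ih =>
      rw [pow_succ, IsCharacter.mul_of_apply_one_eq_one (IsIrrCharacter.isCharacter (hlam θ))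
        (hlam1 θ), ih, pow_succ]
  have hlamn : ∀ θ, lam θ a ^ n = 1 := by
    intro θ
    rw [← hlampow, han, hlam1]
  -- the slices
  have hslice : ∀ j : ℕ, Cfsg.classInner (fun c : K => ξ (c, a ^ j)) β
      = ∑ θ : Cfsg.IrrCharacter (K × A), (m θ : ℂ) * (if φ θ = β then lam θ a ^ j else 0) := by
    intro j
    have h1 : (fun c : K => ξ (c, a ^ j))
        = ∑ θ : Cfsg.IrrCharacter (K × A), ((m θ : ℂ) * lam θ a ^ j) • φ θ := by
      funext c
      rw [hm, Finset.sum_apply, Finset.sum_apply]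
      apply Finset.sum_congr rfl
      intro θ _
      rw [Pi.smul_apply, Pi.smul_apply, nsmul_eq_mul, smul_eq_mul]
      conv_lhs => rw [hθ θ]
      unfold prodFun
      simp only
      rw [hlampow]
      ring
    rw [h1, classInner_sum_left]
    apply Finset.sum_congr rfl
    intro θ _
    rw [classInner_smul_left, classInner_isIrrCharacter (hφ θ) hβ]
    split_ifs <;> ring
  -- index type
  let I : Type (max u v) := Σ θ : {θ : Cfsg.IrrCharacter (K × A) // φ θ = β}, Fin (m θ.1)
  refine ⟨I, inferInstance, fun i => lam i.1.1 a, fun i => hlamn i.1.1, ?_⟩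
  intro j
  rw [hslice j, Fintype.sum_sigma]
  simp only [Finset.sum_const, Finset.card_univ, Fintype.card_fin, nsmul_eq_mul]
  rw [← Finset.sum_subtype (Finset.univ.filter (fun θ : Cfsg.IrrCharacter (K × A) => φ θ = β))
    (by simp) (fun θ => (m θ : ℂ) * lam θ a ^ j), Finset.sum_filter]
  apply Finset.sum_congr rfl
  intro θ _
  split_ifs <;> ring

end prodsum

end Cfsg.Agent.Lib.Helper3.GlauCyc
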