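import Mathlib
import Cfsg.Agent.Lib.Helper3.GlauCyc4
import Cfsg.Agent.Lib.Helper3.GlauCyc5
import Cfsg.Agent.Lib.Helper3.GaloisRat

set_option autoImplicit false
set_option linter.unusedSectionVars false

namespace Cfsg.Agent.Lib.Helper3.GlauCyc

open Cfsg Cfsg.Agent.Lib.Helper6 Module Cfsg.Agent.Lib.Helper3.GaloisRat
open scoped ComplexConjugate

universe u

section integ

variable {Γ : Type u} [Group Γ] [Fintype Γ] (G S : Subgroup Γ) [Fintype G] [Fintype (fixC G S)]

/-- the multiplication map `C × S → Γ` -/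
def mulHom : (fixC G S) × S →* Γ :=
  MonoidHom.noncommCoprod (fixC G S).subtype S.subtype (by
    intro c t
    have h := Subgroup.mem_centralizer_iff.mp (Subgroup.mem_inf.mp c.2).2 t t.2
    exact h.symm)

theorem mulHom_apply (p : (fixC G S) × S) : mulHom G S p = (p.1 : Γ) * (p.2 : Γ) := rfl

/-- the pairing of `c ↦ χh (c s₀)` with an irreducible character of `C` is an integer, and
if it is nonzero the character is a constituent of the restriction -/
theorem exists_int_classInner [hG : G.Normal] (hcop : (Nat.card G).Coprime (Nat.card S))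
    (htop : G ⊔ S = ⊤) (hcyc : IsCyclic S) {s₀ : Γ} (hs₀ : Subgroup.zpowers s₀ = S) {χh : Γ → ℂ}
    (hχh : Cfsg.IsIrrCharacter Γ χh) (hχ : Cfsg.IsIrrCharacter G (fun g : G => χh g))
    (hdet : (Cfsg.detOrder χh).Coprime (Nat.card S)) {β : fixC G S → ℂ}
    (hβ : Cfsg.IsIrrCharacter (fixC G S) β) :
    ∃ z : ℤ, Cfsg.classInner (fun c : fixC G S => χh ((c : Γ) * s₀)) β = (z : ℂ) ∧
      (z ≠ 0 → Cfsg.classInner (fun c : fixC G S => χh (c : Γ)) β ≠ 0) := by
  classical
  have hs₀S : s₀ ∈ S := by rw [← hs₀]; exact Subgroup.mem_zpowers s₀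
  have : Fintype S := Fintype.ofFinite S
  have hn : 0 < Nat.card S := Nat.card_pos
  have : NeZero (Nat.card S) := ⟨hn.ne'⟩
  have hA : ∀ x y : S, x * y = y * x := by
    have := hcyc
    exact fun x y => IsCyclic.commGroup.mul_comm x y
  have hξ : Cfsg.IsCharacter ((fixC G S) × S) (fun p => χh (mulHom G S p)) :=
    IsCharacter.comp (mulHom G S) (IsIrrCharacter.isCharacter hχh)
  have hs₁ : (⟨s₀, hs₀S⟩ : S) ^ Nat.card S = 1 := pow_card_eq_one'
  obtain ⟨I, _, μ, hμ, hsum⟩ := exists_roots_classInner hA hξ ⟨s₀, hs₀S⟩ (Nat.card S) hs₁ hβ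
  have hsum' : ∀ j : ℕ, Cfsg.classInner (fun c : fixC G S => χh ((c : Γ) * s₀ ^ j)) β
      = ∑ i, μ i ^ j := by
    intro j
    rw [← hsum j]
    rfl
  have hinv : ∀ k : (ZMod (Nat.card S))ˣ, ∑ i, μ i ^ (k : ZMod (Nat.card S)).val = ∑ i, μ i := by
    intro k
    have h1 := hsum' (k : ZMod (Nat.card S)).val
    have h2 := hsum' 1
    simp only [pow_one] at h2
    rw [← h1, ← h2]
    congr 1
    funext c
    exact apply_mul_pow_eq G S hcop htop hs₀ hχh hχ hdet _ (ZMod.val_coe_unit_coprime k) c.2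
  obtain ⟨q, hq⟩ := (sum_rational_iff (Nat.card S) μ hμ).mpr hinv
  have hint : IsIntegral ℤ (∑ i, μ i) := by
    apply IsIntegral.sum
    intro i _
    apply IsIntegral.of_pow hn
    rw [hμ i]
    exact isIntegral_one
  rw [hq] at hint
  have hint' : IsIntegral ℤ q :=
    (isIntegral_algebraMap_iff (A := ℚ) (B := ℂ) (R := ℤ) (algebraMap ℚ ℂ).injective).1 hint
  obtain ⟨z, hz⟩ := IsIntegrallyClosed.isIntegral_iff.1 hint'
  refine ⟨z, ?_, ?_⟩
  · have h2 := hsum' 1
    simp only [pow_one] at h2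
    rw [h2, hq, ← hz]
    simp
  · intro hz0
    have h0 := hsum' 0
    simp only [pow_zero, mul_one, Finset.sum_const, Finset.card_univ, nsmul_eq_mul] at h0
    rw [h0]
    have hne : Nonempty I := by
      by_contra hemp
      rw [not_nonempty_iff] at hemp
      have : ∑ i, μ i = 0 := Finset.sum_of_isEmpty _
      rw [hq, ← hz] at this
      apply hz0
      have h3 : ((z : ℚ) : ℂ) = 0 := by simpa using this
      exact_mod_cast h3
    have : 0 < Fintype.card I := Fintype.card_pos
    exact_mod_cast this.ne'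

end integ

end Cfsg.Agent.Lib.Helper3.GlauCyc
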