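import Mathlib
import Cfsg.Agent.Lib.Helper3.GlauCyc2
import Cfsg.Agent.Lib.Helper3.GlauCyc6
import Cfsg.Agent.Lib.Lead.GlaubRep3
import Cfsg.Agent.Lib.Helper6.ClassFun

set_option autoImplicit false
set_option linter.unusedSectionVars false

namespace Cfsg.Agent.Lib.Helper3.GlauCyc

open Cfsg Cfsg.Agent.Lib.Helper6 Module
open scoped ComplexConjugate

universe u

section corr

variable {Γ : Type u} [Group Γ] [Fintype Γ] (G S : Subgroup Γ) [Fintype G] [Fintype (fixC G S)]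

/-- the slice `c ↦ χh (c s₀)` is a class function on `C` -/
theorem slice_isClassFunction {s₀ : Γ} (hs₀ : Subgroup.zpowers s₀ = S) {χh : Γ → ℂ}
    (hχh : Cfsg.IsIrrCharacter Γ χh) :
    Cfsg.IsClassFunction (fixC G S) (fun c : fixC G S => χh ((c : Γ) * s₀)) := by
  intro c d
  show χh (((d * c * d⁻¹ : fixC G S) : Γ) * s₀) = χh ((c : Γ) * s₀)
  have hd := (commute_of_mem_fixC G S hs₀ d.2).eq
  have h1 : ((d * c * d⁻¹ : fixC G S) : Γ) * s₀ = (d : Γ) * ((c : Γ) * s₀) * (d : Γ)⁻¹ := by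
    simp only [Subgroup.coe_mul, Subgroup.coe_inv]
    calc (d : Γ) * c * (d : Γ)⁻¹ * s₀ = (d : Γ) * c * ((d : Γ)⁻¹ * (s₀ * d)) * (d : Γ)⁻¹ := by group
      _ = (d : Γ) * c * ((d : Γ)⁻¹ * ((d : Γ) * s₀)) * (d : Γ)⁻¹ := by rw [hd]
      _ = _ := by group
  rw [h1]
  exact IsIrrCharacter.isClassFunction hχh _ _

/-- the slice has norm one -/
theorem slice_norm (hnorm : ∀ s ∈ S, ∀ g ∈ G, s * g * s⁻¹ ∈ G)
    (hcop : (Nat.card G).Coprime (Nat.card S)) (htop : G ⊔ S = ⊤) (hcyc : IsCyclic S) {s₀ : Γ}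
    (hs₀ : Subgroup.zpowers s₀ = S) {χh : Γ → ℂ}
    (hχh : Cfsg.IsIrrCharacter Γ χh) (hχ : Cfsg.IsIrrCharacter G (fun g : G => χh g)) :
    Cfsg.classInner (fun c : fixC G S => χh ((c : Γ) * s₀))
      (fun c : fixC G S => χh ((c : Γ) * s₀)) = 1 := by
  have h1 := sum_coset_eq G S hnorm hcop htop hcyc hs₀ (fun x => χh x * conj (χh x)) (by
    intro y _ x
    rw [IsIrrCharacter.isClassFunction hχh x y])
  rw [sum_coset_norm G hχh hχ s₀] at h1
  unfold Cfsg.classInner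
  have hG0 : (Nat.card G : ℂ) ≠ 0 := by
    have : 0 < Nat.card G := Nat.card_pos
    exact_mod_cast this.ne'
  have hC0 : (Nat.card (fixC G S) : ℂ) ≠ 0 := by
    have : 0 < Nat.card (fixC G S) := Nat.card_pos
    exact_mod_cast this.ne'
  have h2 : ∑ c : fixC G S, χh ((c : Γ) * s₀) * conj (χh ((c : Γ) * s₀))
      = (Nat.card (fixC G S) : ℂ) := by
    have h3 : (Nat.card G : ℂ) * ∑ c : fixC G S, χh ((c : Γ) * s₀) * conj (χh ((c : Γ) * s₀))
        = (Nat.card G : ℂ) * (Nat.card (fixC G S) : ℂ) := by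
      rw [← h1]
      ring
    exact mul_left_cancel₀ hG0 h3
  rw [h2]
  field_simp

/-- sum of integer squares equal to one -/
theorem exists_unique_nonzero_of_sum_sq {B : Type*} [Fintype B] [DecidableEq B] (z : B → ℤ)
    (h : ∑ b, z b ^ 2 = 1) : ∃ b₀, (z b₀ = 1 ∨ z b₀ = -1) ∧ ∀ b, b ≠ b₀ → z b = 0 := by
  have hex : ∃ b₀, z b₀ ≠ 0 := by
    by_contra hcon
    push Not at hcon
    have : ∑ b, z b ^ 2 = 0 := Finset.sum_eq_zero (fun b _ => by rw [hcon b]; ring)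
    omega
  obtain ⟨b₀, hb₀⟩ := hex
  have hsplit := Finset.add_sum_erase Finset.univ (fun b => z b ^ 2) (Finset.mem_univ b₀)
  rw [h] at hsplit
  have hnonneg : 0 ≤ ∑ b ∈ Finset.univ.erase b₀, z b ^ 2 :=
    Finset.sum_nonneg (fun b _ => sq_nonneg _)
  have hge : 1 ≤ z b₀ ^ 2 := by
    have : 0 < z b₀ ^ 2 := by positivity
    omega
  have h1 : z b₀ ^ 2 = 1 := by
    omega
  have h0 : ∑ b ∈ Finset.univ.erase b₀, z b ^ 2 = 0 := by
    omega
  refine ⟨b₀, ?_, ?_⟩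
  · have : (z b₀ - 1) * (z b₀ + 1) = 0 := by ring_nf; omega
    rcases mul_eq_zero.mp this with h' | h'
    · left; omega
    · right; omega
  · intro b hb
    have := (Finset.sum_eq_zero_iff_of_nonneg (fun b _ => sq_nonneg (z b))).mp h0 b
      (Finset.mem_erase.mpr ⟨hb, Finset.mem_univ _⟩)
    exact pow_eq_zero_iff (by norm_num) |>.mp this

/-- existence of the correspondent at a fixed generator -/
theorem exists_correspondent [hG : G.Normal] (hnorm : ∀ s ∈ S, ∀ g ∈ G, s * g * s⁻¹ ∈ G)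
    (hcop : (Nat.card G).Coprime (Nat.card S)) (htop : G ⊔ S = ⊤) (hcyc : IsCyclic S) {s₀ : Γ}
    (hs₀ : Subgroup.zpowers s₀ = S) {χh : Γ → ℂ}
    (hχh : Cfsg.IsIrrCharacter Γ χh) (hχ : Cfsg.IsIrrCharacter G (fun g : G => χh g))
    (hdet : (Cfsg.detOrder χh).Coprime (Nat.card S)) :
    ∃ (β : Cfsg.IrrCharacter (fixC G S)) (ε : ℤ), (ε = 1 ∨ ε = -1) ∧
      (∀ c : fixC G S, χh ((c : Γ) * s₀) = (ε : ℂ) * (β : fixC G S → ℂ) c) ∧
      Cfsg.classInner (fun c : fixC G S => χh (c : Γ)) (β : fixC G S → ℂ) ≠ 0 := by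
  classical
  have : Fintype (Cfsg.IrrCharacter (fixC G S)) := Fintype.ofFinite _
  set f : fixC G S → ℂ := fun c => χh ((c : Γ) * s₀) with hf
  have hfcf := slice_isClassFunction G S hs₀ hχh
  have hnorm1 := slice_norm G S hnorm hcop htop hcyc hs₀ hχh hχ
  choose z hz hz' using fun β : Cfsg.IrrCharacter (fixC G S) =>
    exists_int_classInner G S hcop htop hcyc hs₀ hχh hχ hdet β.2
  have hsum : ∑ β : Cfsg.IrrCharacter (fixC G S), z β ^ 2 = 1 := by
    have h1 := Cfsg.Agent.Lib.Lead.GlaubRep.classInner_eq_sum_irr f f hfcf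
    rw [hnorm1] at h1
    have h2 : ∀ β : Cfsg.IrrCharacter (fixC G S),
        Cfsg.classInner f (β : fixC G S → ℂ) * conj (Cfsg.classInner f (β : fixC G S → ℂ))
          = ((z β ^ 2 : ℤ) : ℂ) := by
      intro β
      rw [hz β, map_intCast]
      push_cast
      ring
    simp_rw [h2] at h1
    rw [← Int.cast_sum] at h1
    exact_mod_cast h1.symm
  obtain ⟨β₀, hβ₀, hrest⟩ := exists_unique_nonzero_of_sum_sq z hsum
  refine ⟨β₀, z β₀, hβ₀, ?_, ?_⟩
  · intro c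
    have h1 := classFunction_eq_sum f hfcf
    have h2 := congrFun h1 c
    rw [Finset.sum_apply] at h2
    rw [Finset.sum_eq_single β₀] at h2
    · rw [Pi.smul_apply, smul_eq_mul, hz β₀] at h2
      exact h2
    · intro b _ hb
      rw [Pi.smul_apply, hz b, hrest b hb]
      simp
    · intro h
      exact absurd (Finset.mem_univ _) h
  · apply hz' β₀
    rcases hβ₀ with h | h <;> rw [h] <;> norm_num

end corr

end Cfsg.Agent.Lib.Helper3.GlauCyc
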