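import Mathlib
import Cfsg.Agent.Lib.Helper3.GlauCyc7
import Cfsg.Agent.Lib.Helper6.CyclicExt
import Cfsg.Agent.Lib.Helper6.CliffordStab
import Cfsg.Agent.Lib.Helper6.Ramified
import Cfsg.Agent.Lib.Helper6.Ito
import Cfsg.Agent.Lib.Lead.PF3
import Cfsg.Agent.S0867

set_option autoImplicit false
set_option linter.unusedSectionVars false

namespace Cfsg.Agent.Lib.Helper3.GlauCyc

open Cfsg Cfsg.Agent.Lib.Helper6 Module Cfsg.Agent.Lib.Helper3.GallagherFactor
open scoped ComplexConjugate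

universe u

section more

variable {Γ : Type u} [Group Γ] [Fintype Γ] (G S : Subgroup Γ) [Fintype G] [Fintype (fixC G S)]

/-- generators of `S` are coprime powers of a fixed generator -/
theorem exists_pow_of_zpowers_eq {s₀ s : Γ} (hs₀ : Subgroup.zpowers s₀ = S)
    (hs : Subgroup.zpowers s = S) : ∃ k : ℕ, k.Coprime (Nat.card S) ∧ s = s₀ ^ k := by
  have hmem : s ∈ Subgroup.zpowers s₀ := by rw [hs₀, ← hs]; exact Subgroup.mem_zpowers s
  rw [← (isOfFinOrder_of_finite s₀).mem_powers_iff_mem_zpowers] at hmem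
  obtain ⟨k, hk⟩ := (Submonoid.mem_powers_iff _ _).mp hmem
  refine ⟨k, ?_, hk.symm⟩
  have h1 : orderOf s₀ = Nat.card S := by rw [← hs₀, Nat.card_zpowers]
  have h2 : orderOf s = Nat.card S := by rw [← hs, Nat.card_zpowers]
  have h3 : orderOf (s₀ ^ k) = orderOf s₀ / Nat.gcd (orderOf s₀) k := orderOf_pow s₀
  rw [hk, h2, h1] at h3
  have hn : 0 < Nat.card S := Nat.card_pos
  have hg : Nat.gcd (Nat.card S) k ∣ Nat.card S := Nat.gcd_dvd_left _ _
  have h4 : Nat.gcd (Nat.card S) k = 1 := by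
    obtain ⟨t, ht⟩ := hg
    have hgpos : 0 < Nat.gcd (Nat.card S) k := Nat.gcd_pos_of_pos_left _ hn
    have h5 : Nat.card S / Nat.gcd (Nat.card S) k = t :=
      Nat.div_eq_of_eq_mul_right hgpos ht
    rw [h5] at h3
    have h6 : Nat.gcd (Nat.card S) k * t = 1 * t := by rw [← ht, one_mul, ← h3]
    have ht0 : 0 < t := by rw [← h3]; exact hn
    exact Nat.eq_of_mul_eq_mul_right ht0 h6
  exact (Nat.coprime_comm.mp h4)

/-- every element of `Γ` is a product -/
theorem exists_mul_eq [hG : G.Normal] (htop : G ⊔ S = ⊤) (x : Γ) :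
    ∃ g ∈ G, ∃ s ∈ S, x = g * s := by
  have hx : x ∈ G ⊔ S := by rw [htop]; exact Subgroup.mem_top x
  obtain ⟨g, hg, s, hs, h⟩ := Subgroup.mem_sup_of_normal_left.mp hx
  exact ⟨g, hg, s, hs, h.symm⟩

/-- two characters with the same correspondent have the same restriction -/
theorem restrict_eq_of_same_correspondent (hnorm : ∀ s ∈ S, ∀ g ∈ G, s * g * s⁻¹ ∈ G)
    (hcop : (Nat.card G).Coprime (Nat.card S)) (htop : G ⊔ S = ⊤) (hcyc : IsCyclic S) {s₀ : Γ}
    (hs₀ : Subgroup.zpowers s₀ = S) {χh χh' : Γ → ℂ}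
    (hχh : Cfsg.IsIrrCharacter Γ χh) (hχh' : Cfsg.IsIrrCharacter Γ χh')
    (hχ : Cfsg.IsIrrCharacter G (fun g : G => χh g))
    (hχ' : Cfsg.IsIrrCharacter G (fun g : G => χh' g))
    {β : fixC G S → ℂ} (hβ : Cfsg.IsIrrCharacter (fixC G S) β) {ε ε' : ℤ}
    (hε : ε = 1 ∨ ε = -1) (hε' : ε' = 1 ∨ ε' = -1)
    (h : ∀ c : fixC G S, χh ((c : Γ) * s₀) = (ε : ℂ) * β c)
    (h' : ∀ c : fixC G S, χh' ((c : Γ) * s₀) = (ε' : ℂ) * β c) :
    (fun g : G => χh g) = (fun g : G => χh' g) := by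
  by_contra hne
  have h1 := sum_coset_orth G hχh hχh' hχ hχ' s₀ hne
  have h2 := sum_coset_eq G S hnorm hcop htop hcyc hs₀ (fun x => χh x * conj (χh' x)) (by
    intro y _ x
    rw [IsIrrCharacter.isClassFunction hχh x y, IsIrrCharacter.isClassFunction hχh' x y])
  rw [h1, mul_zero] at h2
  have h3 : ∑ c : fixC G S, χh ((c : Γ) * s₀) * conj (χh' ((c : Γ) * s₀))
      = (ε : ℂ) * (ε' : ℂ) * (Nat.card (fixC G S) : ℂ) := by
    have h4 := classInner_isIrrCharacter hβ hβ
    rw [if_pos rfl] at h4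
    unfold Cfsg.classInner at h4
    have hC0 : (Nat.card (fixC G S) : ℂ) ≠ 0 := by
      have : 0 < Nat.card (fixC G S) := Nat.card_pos
      exact_mod_cast this.ne'
    have h5 : ∑ c : fixC G S, β c * conj (β c) = (Nat.card (fixC G S) : ℂ) := by
      field_simp at h4
      exact h4
    rw [← h5, Finset.mul_sum]
    apply Finset.sum_congr rfl
    intro c _
    rw [h c, h' c, map_mul, map_intCast]
    ring
  rw [h3] at h2
  have hG0 : (Nat.card G : ℂ) ≠ 0 := by
    have : 0 < Nat.card G := Nat.card_pos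
    exact_mod_cast this.ne'
  have hC0 : (Nat.card (fixC G S) : ℂ) ≠ 0 := by
    have : 0 < Nat.card (fixC G S) := Nat.card_pos
    exact_mod_cast this.ne'
  have hεε : (ε : ℂ) * (ε' : ℂ) ≠ 0 := by
    rcases hε with rfl | rfl <;> rcases hε' with rfl | rfl <;> norm_num
  exact (mul_ne_zero hG0 (mul_ne_zero hεε hC0)) h2.symm

theorem index_eq_card [hG : G.Normal] (hcop : (Nat.card G).Coprime (Nat.card S))
    (htop : G ⊔ S = ⊤) : G.index = Nat.card S := by
  have h1 := (isComplement'_of_sup G S hcop htop).card_mul_card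
  have h2 := G.card_mul_index
  have : Nat.card G * G.index = Nat.card G * Nat.card S := by rw [h1, h2]
  exact Nat.eq_of_mul_eq_mul_left Nat.card_pos this

/-- an `S`-invariant class function of `G` is `Γ`-invariant -/
theorem invariant_of_S_invariant [hG : G.Normal] (htop : G ⊔ S = ⊤) {χ : G → ℂ}
    (hχ : Cfsg.IsClassFunction G χ)
    (hinv : ∀ s ∈ S, ∀ g g' : G, (g' : Γ) = s * g * s⁻¹ → χ g' = χ g) (x : Γ) (n : G) :
    χ ⟨x * n * x⁻¹, hG.conj_mem (n : Γ) n.2 x⟩ = χ n := by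
  obtain ⟨g, hg, s, hs, rfl⟩ := exists_mul_eq G S htop x
  have h1 : χ ⟨s * n * s⁻¹, hG.conj_mem (n : Γ) n.2 s⟩ = χ n := hinv s hs n _ rfl
  rw [← h1]
  have h2 := hχ ⟨s * n * s⁻¹, hG.conj_mem (n : Γ) n.2 s⟩ ⟨g, hg⟩
  rw [← h2]
  congr 1
  apply Subtype.ext
  simp only [Subgroup.coe_mul, Subgroup.coe_inv]
  group

/-- the canonical extension exists -/
theorem exists_canonical [hG : G.Normal] (hcop : (Nat.card G).Coprime (Nat.card S))
    (htop : G ⊔ S = ⊤) {χ : G → ℂ} (hχ : Cfsg.IsIrrCharacter G χ)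
    (hinv : ∀ s ∈ S, ∀ g g' : G, (g' : Γ) = s * g * s⁻¹ → χ g' = χ g) :
    ∃ χh : Γ → ℂ, Cfsg.IsIrrCharacter Γ χh ∧ (∀ g : G, χh g = χ g) ∧
      (Cfsg.detOrder χh).Coprime (Nat.card S) := by
  have hinv' := invariant_of_S_invariant G S htop (IsIrrCharacter.isClassFunction hχ) hinv
  have hd := IsCharacter.apply_one_eq_charDegree (IsIrrCharacter.isCharacter hχ)
  have hidx := index_eq_card G S hcop htop
  have h1 : Cfsg.detOrder χ * Cfsg.charDegree χ ∣ Nat.card G * Nat.card G :=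
    Nat.mul_dvd_mul (Cfsg.Agent.Lib.Lead.PF.detOrder_dvd_card (IsIrrCharacter.isCharacter hχ))
      (IsIrrCharacter.charDegree_dvd_card hχ)
  have hcop' : Nat.Coprime G.index (Cfsg.detOrder χ * Cfsg.charDegree χ) := by
    rw [hidx]
    apply Nat.Coprime.coprime_dvd_right h1
    exact (Nat.Coprime.mul_left hcop hcop).symm
  obtain ⟨χh, ⟨hirr, hext, hdet⟩, _⟩ :=
    Cfsg.Agent.S0867.result G χ hχ hinv' (Cfsg.charDegree χ) hd hcop'
  refine ⟨χh, hirr, hext, ?_⟩
  rw [hdet]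
  exact Nat.Coprime.coprime_dvd_left
    (Cfsg.Agent.Lib.Lead.PF.detOrder_dvd_card (IsIrrCharacter.isCharacter hχ)) hcop

theorem isCyclic_quotient [hG : G.Normal] (htop : G ⊔ S = ⊤) {s₀ : Γ}
    (hs₀ : Subgroup.zpowers s₀ = S) : IsCyclic (Γ ⧸ G) := by
  refine ⟨⟨(QuotientGroup.mk s₀ : Γ ⧸ G), ?_⟩⟩
  intro q
  obtain ⟨x, rfl⟩ := QuotientGroup.mk_surjective q
  obtain ⟨g, hg, s, hs, rfl⟩ := exists_mul_eq G S htop x
  rw [← hs₀] at hs
  obtain ⟨k, rfl⟩ := Subgroup.mem_zpowers_iff.mp hs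
  refine ⟨k, ?_⟩
  show (QuotientGroup.mk s₀ : Γ ⧸ G) ^ k = QuotientGroup.mk (g * s₀ ^ k)
  rw [QuotientGroup.mk_mul, (QuotientGroup.eq_one_iff g).mpr hg, one_mul, QuotientGroup.mk_zpow]

/-- an irreducible character of `Γ` not vanishing on the coset `G s₀` restricts irreducibly -/
theorem restrict_irr_of_ne_zero [hG : G.Normal] (htop : G ⊔ S = ⊤) {s₀ : Γ}
    (hs₀ : Subgroup.zpowers s₀ = S) {ψ : Γ → ℂ} (hψ : Cfsg.IsIrrCharacter Γ ψ) {g : Γ}
    (hg : g ∈ G) (hne : ψ (g * s₀) ≠ 0) : Cfsg.IsIrrCharacter G (fun g : G => ψ g) := by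
  classical
  have hcycq := isCyclic_quotient G S htop hs₀
  obtain ⟨χ, hcon⟩ := exists_constituent_restrict G hψ
  set T := inertia G hG (χ : G → ℂ) with hT
  have : Fintype T := Fintype.ofFinite T
  have hNT : G ≤ T := le_inertia G hG (IsIrrCharacter.isClassFunction χ.2)
  have hstab : ∀ x : Γ, conjFun G hG (χ : G → ℂ) x = (χ : G → ℂ) → x ∈ T := fun x hx => hx
  by_cases hs : s₀ ∈ T
  · -- invariant case
    have hTtop : ∀ x : Γ, x ∈ T := by
      intro x
      obtain ⟨g', hg', s, hs', rfl⟩ := exists_mul_eq G S htop x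
      rw [← hs₀] at hs'
      obtain ⟨k, rfl⟩ := Subgroup.mem_zpowers_iff.mp hs'
      exact T.mul_mem (hNT hg') (T.zpow_mem hs k)
    have hinv : ∀ x : Γ, conjFun G hG (χ : G → ℂ) x = (χ : G → ℂ) := fun x => hTtop x
    have hres := restrict_eq_smul_of_invariant G hG hψ χ.2 hinv hcon
    obtain ⟨n, hn⟩ := IsCharacter.classInner_irr_nat
      (IsCharacter.restrict G (IsIrrCharacter.isCharacter hψ)) χ.2
    rw [hn] at hres
    have hn0 : n ≠ 0 := by
      rintro rfl
      apply hcon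
      rw [hn]
      simp
    -- degree comparison
    have hle : Cfsg.charDegree ψ ≤ Cfsg.charDegree (χ : G → ℂ) := by
      obtain ⟨d, ρ, hρirr, hρ⟩ := hψ
      obtain ⟨d', X, hXirr, hX⟩ := χ.2
      have h1 := finrank_le_of_cyclic_quotient G hcycq ρ X (by
        intro x n
        rw [hX]
        have := congrFun (hinv x) n
        rwa [conjFun_apply] at this) (by
        rw [hρ, hX]
        exact hcon)
      have h2 : Cfsg.charDegree ψ = finrank ℂ (Fin d → ℂ) := by
        rw [← hρ]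
        exact charDegree_character ρ
      have h3 : Cfsg.charDegree (χ : G → ℂ) = finrank ℂ (Fin d' → ℂ) := by
        rw [← hX]
        exact charDegree_character X
      rw [h2, h3]
      exact h1
    have hdeg : Cfsg.charDegree ψ = n * Cfsg.charDegree (χ : G → ℂ) := by
      have h1 := congrFun hres 1
      simp only [Subgroup.coe_one, Pi.smul_apply, smul_eq_mul] at h1
      rw [IsCharacter.apply_one_eq_charDegree (IsIrrCharacter.isCharacter hψ),
        IsCharacter.apply_one_eq_charDegree (IsIrrCharacter.isCharacter χ.2)] at h1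
      exact_mod_cast h1
    have hpos := IsIrrCharacter.charDegree_pos χ.2
    have hn1 : n = 1 := by
      have : n * Cfsg.charDegree (χ : G → ℂ) ≤ 1 * Cfsg.charDegree (χ : G → ℂ) := by
        rw [← hdeg, one_mul]
        exact hle
      have := Nat.le_of_mul_le_mul_right this hpos
      omega
    rw [hn1] at hres
    rw [hres]
    simp only [Nat.cast_one, one_smul]
    exact χ.2
  · -- induced case: contradiction
    exfalso
    have hab : ∀ a b : Γ ⧸ G, a * b = b * a := by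
      have := hcycq
      exact fun a b => IsCyclic.commGroup.mul_comm a b
    have hTn : T.Normal := by
      constructor
      intro t ht x
      have h1 : x * t * x⁻¹ * t⁻¹ ∈ G := by
        rw [← QuotientGroup.eq_one_iff]
        simp only [QuotientGroup.mk_mul, QuotientGroup.mk_inv]
        rw [hab (QuotientGroup.mk x) (QuotientGroup.mk t)]
        group
      have h2 : x * t * x⁻¹ = (x * t * x⁻¹ * t⁻¹) * t := by group
      rw [h2]
      exact T.mul_mem (hNT h1) ht
    obtain ⟨η, _, hη⟩ := exists_indFun_eq_of_stab G hG T hNT χ hstab ⟨ψ, hψ⟩ hcon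
    have hgs : g * s₀ ∉ T := by
      intro h
      apply hs
      have := T.mul_mem (T.inv_mem (hNT hg)) h
      simpa using this
    apply hne
    have h3 : ψ = Cfsg.indFun T (η : T → ℂ) := hη.symm
    rw [h3]
    exact indFun_apply_of_not_mem T hTn (η : T → ℂ) hgs

/-- two irreducible characters of `Γ` with the same irreducible restriction to `G` differ by a
scalar on each coset -/
theorem exists_scalar_of_restrict_eq [hG : G.Normal] {ψ χh : Γ → ℂ}
    (hψ : Cfsg.IsIrrCharacter Γ ψ) (hχh : Cfsg.IsIrrCharacter Γ χh)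
    (hχ : Cfsg.IsIrrCharacter G (fun g : G => χh g)) (heq : ∀ g : G, ψ g = χh g) (s₀ : Γ) :
    ∃ b : ℂ, ∀ c : Γ, c ∈ G → ψ (c * s₀) = b * χh (c * s₀) := by
  have hψG : (fun g : G => ψ g) = fun g : G => χh g := funext heq
  have hcon : Cfsg.classInner (fun g : G => ψ g) (fun g : G => χh g) ≠ 0 := by
    rw [hψG, classInner_isIrrCharacter hχ hχ, if_pos rfl]
    exact one_ne_zero
  obtain ⟨β, hβ, hβG, hψβ⟩ := exists_factor G χh hχh hχ ψ hψ hcon
  have hχh1 : χh 1 ≠ 0 := IsIrrCharacter.apply_one_ne_zero hχh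
  have hβ1 : β 1 = 1 := by
    have h1 := congrFun hψβ 1
    rw [Pi.mul_apply] at h1
    have h2 : ψ 1 = χh 1 := heq 1
    rw [h2] at h1
    have h3 : β 1 * χh 1 = 1 * χh 1 := by rw [← h1, one_mul]
    exact mul_right_cancel₀ hχh1 h3
  have hβmul : ∀ x y : Γ, β (x * y) = β x * β y :=
    IsCharacter.mul_of_apply_one_eq_one (IsIrrCharacter.isCharacter hβ) hβ1
  refine ⟨β s₀, ?_⟩
  intro c hc
  have h8 : β c = 1 := by
    have := hβG ⟨c, hc⟩
    rw [hβ1] at this
    exact this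
  rw [hψβ, Pi.mul_apply, hβmul, h8, one_mul]

end more

end Cfsg.Agent.Lib.Helper3.GlauCyc
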