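import Mathlib
import Cfsg.Agent.Lib.Helper3.GlauCyc8
import Cfsg.Agent.Lib.Helper3.GoingDown2

set_option autoImplicit false
set_option linter.unusedSectionVars false

namespace Cfsg.Agent.Lib.Helper3.GlauCyc

open Cfsg Cfsg.Agent.Lib.Helper6 Module Cfsg.Agent.Lib.Helper3.GoingDown
open scoped ComplexConjugate

universe u

section surj

variable {Γ : Type u} [Group Γ] [Fintype Γ] (G S : Subgroup Γ) [Fintype G] [Fintype (fixC G S)]

/-- extension by zero of a function on `C`, shifted by `s₀` -/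
noncomputable def shiftFun (s₀ : Γ) (β₀ : fixC G S → ℂ) : Γ → ℂ := by
  classical
  exact fun x => if h : x * s₀⁻¹ ∈ fixC G S then β₀ ⟨x * s₀⁻¹, h⟩ else 0

/-- the conjugation average of the shifted function -/
noncomputable def avgFun (s₀ : Γ) (β₀ : fixC G S → ℂ) : Γ → ℂ :=
  fun x => ∑ y : Γ, shiftFun G S s₀ β₀ (y * x * y⁻¹)

theorem avgFun_isClassFunction (s₀ : Γ) (β₀ : fixC G S → ℂ) :
    Cfsg.IsClassFunction Γ (avgFun G S s₀ β₀) := by
  intro x z
  unfold avgFun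
  apply Fintype.sum_equiv (Equiv.mulRight z)
  intro y
  simp only [Equiv.coe_mulRight]
  congr 1
  group

theorem sum_shiftFun_mul (s₀ : Γ) (β₀ : fixC G S → ℂ) (F : Γ → ℂ) :
    ∑ x : Γ, shiftFun G S s₀ β₀ x * F x = ∑ c : fixC G S, β₀ c * F ((c : Γ) * s₀) := by
  classical
  have h1 : ∑ x : Γ, shiftFun G S s₀ β₀ x * F x
      = ∑ x : Γ, shiftFun G S s₀ β₀ (x * s₀) * F (x * s₀) :=
    (Equiv.sum_comp (Equiv.mulRight s₀) (fun x => shiftFun G S s₀ β₀ x * F x)).symm
  rw [h1]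
  have h2 : ∀ x : Γ, shiftFun G S s₀ β₀ (x * s₀) * F (x * s₀)
      = if x ∈ fixC G S then shiftFun G S s₀ β₀ (x * s₀) * F (x * s₀) else 0 := by
    intro x
    by_cases hx : x ∈ fixC G S
    · rw [if_pos hx]
    · rw [if_neg hx]
      unfold shiftFun
      have : ¬ (x * s₀ * s₀⁻¹ ∈ fixC G S) := by
        rw [mul_inv_cancel_right]
        exact hx
      rw [dif_neg this, zero_mul]
  rw [Finset.sum_congr rfl (fun x _ => h2 x)]
  rw [← sum_subgroup_eq (fixC G S) (fun x => shiftFun G S s₀ β₀ (x * s₀) * F (x * s₀))]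
  apply Finset.sum_congr rfl
  intro c _
  unfold shiftFun
  have hc : (c : Γ) * s₀ * s₀⁻¹ ∈ fixC G S := by
    rw [mul_inv_cancel_right]
    exact c.2
  rw [dif_pos hc]
  congr 2
  apply Subtype.ext
  simp

/-- pairing of the averaged function with a class function -/
theorem classInner_avgFun (s₀ : Γ) (β₀ : fixC G S → ℂ) {ψ : Γ → ℂ}
    (hψ : Cfsg.IsClassFunction Γ ψ) :
    Cfsg.classInner (avgFun G S s₀ β₀) ψ
      = ∑ c : fixC G S, β₀ c * conj (ψ ((c : Γ) * s₀)) := by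
  unfold Cfsg.classInner avgFun
  have h1 : ∑ x : Γ, (∑ y : Γ, shiftFun G S s₀ β₀ (y * x * y⁻¹)) * conj (ψ x)
      = ∑ y : Γ, ∑ x : Γ, shiftFun G S s₀ β₀ (y * x * y⁻¹) * conj (ψ (y * x * y⁻¹)) := by
    simp_rw [Finset.sum_mul]
    rw [Finset.sum_comm]
    apply Finset.sum_congr rfl
    intro y _
    apply Finset.sum_congr rfl
    intro x _
    rw [hψ x y]
  have h2 : ∀ y : Γ, ∑ x : Γ, shiftFun G S s₀ β₀ (y * x * y⁻¹) * conj (ψ (y * x * y⁻¹))
      = ∑ x : Γ, shiftFun G S s₀ β₀ x * conj (ψ x) := by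
    intro y
    exact Equiv.sum_comp (MulAut.conj y).toEquiv (fun x => shiftFun G S s₀ β₀ x * conj (ψ x))
  rw [h1, Finset.sum_congr rfl (fun y _ => h2 y), Finset.sum_const, Finset.card_univ,
    nsmul_eq_mul, ← Nat.card_eq_fintype_card, sum_shiftFun_mul]
  have hΓ0 : (Nat.card Γ : ℂ) ≠ 0 := by
    have : 0 < Nat.card Γ := Nat.card_pos
    exact_mod_cast this.ne'
  field_simp

/-- the averaged function does not vanish at `s₀` -/
theorem avgFun_apply_ne_zero (hcop : (Nat.card G).Coprime (Nat.card S)) {s₀ : Γ}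
    (hs₀ : Subgroup.zpowers s₀ = S) {β₀ : fixC G S → ℂ}
    (hβ₀ : Cfsg.IsIrrCharacter (fixC G S) β₀) : avgFun G S s₀ β₀ s₀ ≠ 0 := by
  classical
  obtain ⟨a, ha1, ha2⟩ := exists_crt G S hcop
  have hterm : ∀ y : Γ, shiftFun G S s₀ β₀ (y * s₀ * y⁻¹)
      = if y * s₀ * y⁻¹ * s₀⁻¹ ∈ fixC G S then β₀ 1 else 0 := by
    intro y
    unfold shiftFun
    by_cases h : y * s₀ * y⁻¹ * s₀⁻¹ ∈ fixC G S
    · rw [dif_pos h, if_pos h]
      congr 1
      apply Subtype.ext
      show y * s₀ * y⁻¹ * s₀⁻¹ = 1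
      set c := y * s₀ * y⁻¹ * s₀⁻¹ with hc
      have h1 : y * s₀ * y⁻¹ = c * s₀ := by rw [hc]; group
      have h2 : (c * s₀) ^ a = s₀ := by
        rw [(commute_of_mem_fixC G S hs₀ h).mul_pow,
          pow_eq_one_of_mem G ha1 (Subgroup.mem_inf.mp h).1, one_mul,
          pow_eq_self_of_modEq S hs₀ ha2]
      have h3 : (y * s₀ * y⁻¹) ^ a = y * s₀ * y⁻¹ := by
        rw [conj_pow, pow_eq_self_of_modEq S hs₀ ha2]
      rw [h1, h2] at h3
      have h4 : c * s₀ = 1 * s₀ := by rw [one_mul]; exact h3.symm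
      exact mul_right_cancel h4
    · rw [dif_neg h, if_neg h]
  unfold avgFun
  rw [Finset.sum_congr rfl (fun y _ => hterm y), ← Finset.sum_filter, Finset.sum_const,
    nsmul_eq_mul]
  apply mul_ne_zero
  · have hpos : 0 < (Finset.univ.filter
        (fun y : Γ => y * s₀ * y⁻¹ * s₀⁻¹ ∈ fixC G S)).card := by
      apply Finset.card_pos.mpr
      refine ⟨1, ?_⟩
      simp only [Finset.mem_filter, Finset.mem_univ, true_and]
      have : (1 : Γ) * s₀ * 1⁻¹ * s₀⁻¹ = 1 := by group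
      rw [this]
      exact (fixC G S).one_mem
    exact_mod_cast hpos.ne'
  · exact IsIrrCharacter.apply_one_ne_zero hβ₀

/-- surjectivity of the correspondence -/
theorem exists_of_correspondent [hG : G.Normal] (hnorm : ∀ s ∈ S, ∀ g ∈ G, s * g * s⁻¹ ∈ G)
    (hcop : (Nat.card G).Coprime (Nat.card S)) (htop : G ⊔ S = ⊤) (hcyc : IsCyclic S) {s₀ : Γ}
    (hs₀ : Subgroup.zpowers s₀ = S) (β₀ : Cfsg.IrrCharacter (fixC G S)) :
    ∃ (χh : Γ → ℂ) (ε : ℤ), Cfsg.IsIrrCharacter Γ χh ∧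
      Cfsg.IsIrrCharacter G (fun g : G => χh g) ∧ (Cfsg.detOrder χh).Coprime (Nat.card S) ∧
      (ε = 1 ∨ ε = -1) ∧
      ∀ c : fixC G S, χh ((c : Γ) * s₀) = (ε : ℂ) * (β₀ : fixC G S → ℂ) c := by
  classical
  by_contra hcon
  push Not at hcon
  have hs₀S : s₀ ∈ S := by rw [← hs₀]; exact Subgroup.mem_zpowers s₀
  have hzero : ∀ ψ : Cfsg.IrrCharacter Γ,
      Cfsg.classInner (avgFun G S s₀ (β₀ : fixC G S → ℂ)) (ψ : Γ → ℂ) = 0 := by
    intro ψ
    rw [classInner_avgFun G S s₀ _ (IsIrrCharacter.isClassFunction ψ.2)]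
    by_cases hv : ∀ c : fixC G S, (ψ : Γ → ℂ) ((c : Γ) * s₀) = 0
    · apply Finset.sum_eq_zero
      intro c _
      rw [hv c, map_zero, mul_zero]
    · push Not at hv
      obtain ⟨c₁, hc₁⟩ := hv
      have hχ := restrict_irr_of_ne_zero G S htop hs₀ ψ.2 (Subgroup.mem_inf.mp c₁.2).1 hc₁
      have hinvS : ∀ s ∈ S, ∀ g g' : G, (g' : Γ) = s * g * s⁻¹ →
          (fun g : G => (ψ : Γ → ℂ) g) g' = (fun g : G => (ψ : Γ → ℂ) g) g := by
        intro s _ g g' hgg'
        show (ψ : Γ → ℂ) g' = (ψ : Γ → ℂ) g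
        rw [hgg']
        exact IsIrrCharacter.isClassFunction ψ.2 g s
      obtain ⟨χh, hχh, hext, hdet⟩ := exists_canonical G S hcop htop hχ hinvS
      have hχ' : Cfsg.IsIrrCharacter G (fun g : G => χh g) := by
        have : (fun g : G => χh g) = fun g : G => (ψ : Γ → ℂ) g := funext hext
        rw [this]
        exact hχ
      obtain ⟨β₁, ε, hε, hval, _⟩ :=
        exists_correspondent G S hnorm hcop htop hcyc hs₀ hχh hχ' hdet
      have hne : β₁ ≠ β₀ := by
        rintro rfl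
        obtain ⟨c, hc⟩ := hcon χh ε hχh hχ' hdet hε
        exact hc (hval c)
      obtain ⟨b, hb⟩ := exists_scalar_of_restrict_eq G ψ.2 hχh hχ'
        (fun g => (hext g).symm) s₀
      have horth := classInner_isIrrCharacter β₀.2 β₁.2
      rw [if_neg (fun h => hne (Subtype.ext h).symm)] at horth
      unfold Cfsg.classInner at horth
      have hC0 : (Nat.card (fixC G S) : ℂ) ≠ 0 := by
        have : 0 < Nat.card (fixC G S) := Nat.card_pos
        exact_mod_cast this.ne'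
      have horth' : ∑ c : fixC G S, (β₀ : fixC G S → ℂ) c * conj ((β₁ : fixC G S → ℂ) c) = 0 := by
        rcases mul_eq_zero.mp horth with h | h
        · exact absurd (inv_eq_zero.mp h) hC0
        · exact h
      have : ∀ c : fixC G S, (β₀ : fixC G S → ℂ) c * conj ((ψ : Γ → ℂ) ((c : Γ) * s₀))
          = conj b * (ε : ℂ) * ((β₀ : fixC G S → ℂ) c * conj ((β₁ : fixC G S → ℂ) c)) := by
        intro c
        rw [hb c (Subgroup.mem_inf.mp c.2).1, hval c, map_mul, map_mul, map_intCast]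
        ring
      rw [Finset.sum_congr rfl (fun c _ => this c), ← Finset.mul_sum, horth', mul_zero]
  have h0 := eq_zero_of_classInner_irr_eq_zero _
    (avgFun_isClassFunction G S s₀ (β₀ : fixC G S → ℂ)) hzero
  exact avgFun_apply_ne_zero G S hcop hs₀ β₀.2 (by rw [h0]; rfl)

end surj

end Cfsg.Agent.Lib.Helper3.GlauCyc
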