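import Mathlib
import Cfsg.Agent.Lib.Helper3.GlauCyc9
import Cfsg.Agent.Lib.Helper3.GlueExt

set_option autoImplicit false
set_option linter.unusedSectionVars false

namespace Cfsg.Agent.Lib.Helper3.GlauCyc

open Cfsg Cfsg.Agent.Lib.Helper6 Module Cfsg.Agent.Lib.Helper3.DetChar
open scoped ComplexConjugate

universe u

section elt

variable {Γ : Type u} [Group Γ] [Fintype Γ] (G : Subgroup Γ) [Fintype G]

/-- the correspondent at a single element `x` normalising `G` coprimely -/
theorem exists_correspondent_elt [hG : G.Normal] (x : Γ)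
    (hcop : (Nat.card G).Coprime (orderOf x)) (C : Subgroup Γ) [Fintype C]
    (hC : C = G ⊓ Subgroup.centralizer ({x} : Set Γ)) {χh : Γ → ℂ}
    (hχh : Cfsg.IsIrrCharacter Γ χh) (hχ : Cfsg.IsIrrCharacter G (fun g : G => χh g))
    (hdet : (Cfsg.detOrder χh).Coprime (orderOf x)) :
    ∃ (β : Cfsg.IrrCharacter C) (ε : ℤ), (ε = 1 ∨ ε = -1) ∧
      ∀ c : C, χh ((c : Γ) * x) = (ε : ℂ) * (β : C → ℂ) c := by
  classical
  subst hC
  set T : Subgroup Γ := Subgroup.zpowers x with hT
  set K : Subgroup Γ := G ⊔ T with hK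
  have hGK : G ≤ K := le_sup_left
  have hTK : T ≤ K := le_sup_right
  have hxK : x ∈ K := hTK (Subgroup.mem_zpowers x)
  let G' : Subgroup K := G.subgroupOf K
  let T' : Subgroup K := T.subgroupOf K
  have : Fintype K := Fintype.ofFinite K
  have : Fintype G' := Fintype.ofFinite G'
  have : Fintype (fixC G' T') := Fintype.ofFinite _
  have hnorm' : ∀ s ∈ T', ∀ g ∈ G', s * g * s⁻¹ ∈ G' := by
    intro s _ g hg
    rw [Subgroup.mem_subgroupOf] at hg ⊢
    simp only [Subgroup.coe_mul, Subgroup.coe_inv]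
    exact hG.conj_mem _ hg _
  have hcardG : Nat.card G' = Nat.card G :=
    Nat.card_congr (Subgroup.subgroupOfEquivOfLe hGK).toEquiv
  have hcardT : Nat.card T' = orderOf x := by
    rw [Nat.card_congr (Subgroup.subgroupOfEquivOfLe hTK).toEquiv, hT, Nat.card_zpowers]
  have hcop' : (Nat.card G').Coprime (Nat.card T') := by
    rw [hcardG, hcardT]
    exact hcop
  have htop' : G' ⊔ T' = ⊤ := by
    rw [← Subgroup.subgroupOf_sup hGK hTK]
    exact Subgroup.subgroupOf_self K
  have hcyc' : IsCyclic T' := by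
    have : IsCyclic T := by rw [hT]; infer_instance
    exact isCyclic_of_surjective (Subgroup.subgroupOfEquivOfLe hTK).symm
      (Subgroup.subgroupOfEquivOfLe hTK).symm.surjective
  let s₀' : K := ⟨x, hxK⟩
  have hs₀' : Subgroup.zpowers s₀' = T' := by
    ext y
    rw [Subgroup.mem_subgroupOf, hT, Subgroup.mem_zpowers_iff, Subgroup.mem_zpowers_iff]
    constructor
    · rintro ⟨k, rfl⟩
      exact ⟨k, by simp [s₀']⟩
    · rintro ⟨k, hk⟩
      refine ⟨k, Subtype.ext ?_⟩
      simp only [Subgroup.coe_zpow]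
      exact hk
  let χh' : K → ℂ := fun y => χh y
  have hχh'c : Cfsg.IsCharacter K χh' := IsCharacter.restrict K (IsIrrCharacter.isCharacter hχh)
  have hχh' : Cfsg.IsIrrCharacter K χh' :=
    Cfsg.Agent.Lib.Helper3.GlueExt.isIrrCharacter_of_comp_irr (Subgroup.inclusion hGK) hχh'c hχ
  have hχ' : Cfsg.IsIrrCharacter G' (fun g : G' => χh' g) :=
    IsIrrCharacter.comp_mulEquiv (Subgroup.subgroupOfEquivOfLe hGK) hχ
  have hdet' : (Cfsg.detOrder χh').Coprime (Nat.card T') := by
    rw [hcardT]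
    apply Nat.Coprime.coprime_dvd_left _ hdet
    unfold Cfsg.detOrder
    apply orderOf_dvd_of_pow_eq_one
    have h1 : Cfsg.detChar χh' = fun y : K => Cfsg.detChar χh (K.subtype y) :=
      detChar_comp K.subtype (IsIrrCharacter.isCharacter hχh)
    rw [h1]
    funext y
    have h2 : Cfsg.detChar χh ^ orderOf (Cfsg.detChar χh) = 1 := pow_orderOf_eq_one _
    have h3 := congrFun h2 (K.subtype y)
    simpa using h3
  obtain ⟨β', ε, hε, hval, _⟩ :=
    exists_correspondent G' T' hnorm' hcop' htop' hcyc' hs₀' hχh' hχ' hdet'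
  -- the isomorphism C ≃* fixC G' T'
  have hmemK : ∀ c : (G ⊓ Subgroup.centralizer ({x} : Set Γ) : Subgroup Γ), (c : Γ) ∈ K :=
    fun c => hGK (Subgroup.mem_inf.mp c.2).1
  have hfix : ∀ c : (G ⊓ Subgroup.centralizer ({x} : Set Γ) : Subgroup Γ),
      (⟨(c : Γ), hmemK c⟩ : K) ∈ fixC G' T' := by
    intro c
    apply mem_fixC_of_commute G' T' hs₀'
    · rw [Subgroup.mem_subgroupOf]
      exact (Subgroup.mem_inf.mp c.2).1
    · have h1 := Subgroup.mem_centralizer_iff.mp (Subgroup.mem_inf.mp c.2).2 x rfl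
      show (⟨(c : Γ), hmemK c⟩ : K) * s₀' = s₀' * ⟨(c : Γ), hmemK c⟩
      apply Subtype.ext
      simp only [Subgroup.coe_mul, s₀']
      exact h1.symm
  have hback : ∀ d : fixC G' T',
      ((d : K) : Γ) ∈ (G ⊓ Subgroup.centralizer ({x} : Set Γ) : Subgroup Γ) := by
    intro d
    refine Subgroup.mem_inf.mpr ⟨Subgroup.mem_subgroupOf.mp (Subgroup.mem_inf.mp d.2).1, ?_⟩
    rw [Subgroup.mem_centralizer_iff]
    intro y hy
    rw [Set.mem_singleton_iff] at hy
    rw [hy]
    have h1 := (commute_of_mem_fixC G' T' hs₀' d.2).eq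
    have h2 := congrArg Subtype.val h1
    simp only [Subgroup.coe_mul, s₀'] at h2
    exact h2.symm
  let α : (G ⊓ Subgroup.centralizer ({x} : Set Γ) : Subgroup Γ) ≃* fixC G' T' :=
    { toFun := fun c => ⟨⟨(c : Γ), hmemK c⟩, hfix c⟩
      invFun := fun d => ⟨((d : K) : Γ), hback d⟩
      left_inv := fun c => rfl
      right_inv := fun d => rfl
      map_mul' := fun c c' => rfl }
  refine ⟨⟨fun c => (β' : fixC G' T' → ℂ) (α c), IsIrrCharacter.comp_mulEquiv α β'.2⟩, ε, hε, ?_⟩
  intro c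
  exact hval (α c)

end elt

end Cfsg.Agent.Lib.Helper3.GlauCyc
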