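import Mathlib
import Cfsg.Prelude.Def_Characters
import Cfsg.Agent.Lib.Helper6.Schur
import Cfsg.Agent.Lib.Helper6.EquivOfChar
import Cfsg.Agent.Lib.Helper6.RepBasic

set_option autoImplicit false
set_option linter.unusedSectionVars false

/-!
# The central extension attached to an invariant irreducible character

For `N ⊴ G` and an irreducible representation `ρ` of `N` on `V` whose character is `G`-invariant,
the group `Gam N ρ k` of pairs `(g, M)` with `M ρ(n) M⁻¹ = ρ(g n g⁻¹)` and `det M ^ k = 1` is a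
finite central extension of `G` in which (the copy of) `N` is normal and `ρ` extends (to the
second projection).
-/

namespace Cfsg.Agent.Lib.Helper3.CharTriple

open Cfsg.Agent.Lib.Helper6 Module

universe u v

variable {G : Type u} [Group G] (N : Subgroup G) [hN : N.Normal]
variable {V : Type v} [AddCommGroup V] [Module ℂ V] [FiniteDimensional ℂ V]
variable (ρ : Representation ℂ N V) (k : ℕ)

/-- determinant on units -/
noncomputable def detU : (Module.End ℂ V)ˣ →* ℂˣ := Units.map (LinearMap.det : Module.End ℂ V →* ℂ)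

theorem detU_coe (M : (Module.End ℂ V)ˣ) : ((detU M : ℂˣ) : ℂ) = LinearMap.det (M : Module.End ℂ V) := rfl

/-- The group `Γ`. -/
def Gam : Subgroup (G × (Module.End ℂ V)ˣ) where
  carrier := {x | (∀ n : N, (x.2 : Module.End ℂ V) * ρ n
      = ρ (MulAut.conjNormal x.1 n) * (x.2 : Module.End ℂ V)) ∧ detU x.2 ^ k = 1}
  mul_mem' := by
    rintro x y ⟨hx1, hx2⟩ ⟨hy1, hy2⟩
    refine ⟨fun n => ?_, ?_⟩
    · simp only [Prod.fst_mul, Prod.snd_mul, Units.val_mul, map_mul, MulAut.mul_apply]
      rw [mul_assoc, hy1 n, ← mul_assoc, hx1, mul_assoc]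
    · simp only [Prod.snd_mul, map_mul, mul_pow, hx2, hy2, mul_one]
  one_mem' := ⟨fun n => by simp, by simp⟩
  inv_mem' := by
    rintro x ⟨hx1, hx2⟩
    refine ⟨fun n => ?_, ?_⟩
    · have h := hx1 (MulAut.conjNormal x.1⁻¹ n)
      have h2 : MulAut.conjNormal x.1 (MulAut.conjNormal x.1⁻¹ n) = n := by
        rw [map_inv, MulAut.apply_inv_self]
      rw [h2] at h
      simp only [Prod.fst_inv, Prod.snd_inv]
      calc ((x.2⁻¹ : (Module.End ℂ V)ˣ) : Module.End ℂ V) * ρ n
          = ((x.2⁻¹ : (Module.End ℂ V)ˣ) : Module.End ℂ V) * (ρ n * (x.2 : Module.End ℂ V))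
              * ((x.2⁻¹ : (Module.End ℂ V)ˣ) : Module.End ℂ V) := by
            rw [mul_assoc, mul_assoc, Units.mul_inv, mul_one]
        _ = ((x.2⁻¹ : (Module.End ℂ V)ˣ) : Module.End ℂ V)
              * ((x.2 : Module.End ℂ V) * ρ (MulAut.conjNormal x.1⁻¹ n))
              * ((x.2⁻¹ : (Module.End ℂ V)ˣ) : Module.End ℂ V) := by rw [h]
        _ = ρ (MulAut.conjNormal x.1⁻¹ n) * ((x.2⁻¹ : (Module.End ℂ V)ˣ) : Module.End ℂ V) := by
            rw [← mul_assoc, Units.inv_mul, one_mul]
    · simp only [Prod.snd_inv, map_inv, inv_pow, hx2, inv_one]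

theorem mem_Gam (x : G × (Module.End ℂ V)ˣ) : x ∈ Gam N ρ k ↔
    (∀ n : N, (x.2 : Module.End ℂ V) * ρ n
      = ρ (MulAut.conjNormal x.1 n) * (x.2 : Module.End ℂ V)) ∧ detU x.2 ^ k = 1 := Iff.rfl

/-- first projection -/
def pr1 : Gam N ρ k →* G := (MonoidHom.fst G (Module.End ℂ V)ˣ).comp (Gam N ρ k).subtype

/-- second projection, as a representation -/
def pr2 : Representation ℂ (Gam N ρ k) V :=
  ((Units.coeHom (Module.End ℂ V)).comp (MonoidHom.snd G (Module.End ℂ V)ˣ)).comp (Gam N ρ k).subtype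

theorem pr1_apply (γ : Gam N ρ k) : pr1 N ρ k γ = γ.1.1 := rfl

theorem pr2_apply (γ : Gam N ρ k) : pr2 N ρ k γ = ((γ.1.2 : (Module.End ℂ V)ˣ) : Module.End ℂ V) := rfl

theorem conjNormal_coe_apply (n m : N) : MulAut.conjNormal (n : G) m = n * m * n⁻¹ := by
  apply Subtype.ext
  rw [MulAut.conjNormal_apply]
  simp

section finiteN

variable [Finite N]

/-- the embedding of `N` -/
noncomputable def incl : N →* Gam N ρ (Nat.card N) where
  toFun n := ⟨((n : G), ρ.asGroupHom n), by
    rw [mem_Gam]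
    refine ⟨fun m => ?_, ?_⟩
    · simp only [Representation.asGroupHom_apply]
      rw [conjNormal_coe_apply, ← map_mul, ← map_mul]
      congr 1
      group
    · simp only
      rw [← map_pow, ← map_pow, pow_card_eq_one', map_one, map_one]⟩
  map_one' := by
    apply Subtype.ext
    simp
  map_mul' a b := by
    apply Subtype.ext
    simp

theorem incl_coe (n : N) : ((incl N ρ n : Gam N ρ (Nat.card N)) : G × (Module.End ℂ V)ˣ)
    = ((n : G), ρ.asGroupHom n) := rfl

theorem pr1_incl (n : N) : pr1 N ρ (Nat.card N) (incl N ρ n) = n := rfl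

theorem pr2_incl (n : N) : pr2 N ρ (Nat.card N) (incl N ρ n) = ρ n := by
  rw [pr2_apply, incl_coe]
  exact Representation.asGroupHom_apply ρ n

theorem incl_injective : Function.Injective (incl N ρ) := by
  intro a b h
  have := congrArg (pr1 N ρ (Nat.card N)) h
  rw [pr1_incl, pr1_incl] at this
  exact Subtype.ext this

/-- the image of `N` is normal -/
theorem incl_range_normal : (incl N ρ).range.Normal := by
  constructor
  rintro _ ⟨n, rfl⟩ γ
  refine ⟨MulAut.conjNormal γ.1.1 n, ?_⟩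
  apply Subtype.ext
  apply Prod.ext
  · simp [incl_coe, MulAut.conjNormal_apply]
  · apply Units.ext
    simp only [incl_coe, Subgroup.coe_mul, Subgroup.coe_inv, Prod.snd_mul, Prod.snd_inv,
      Units.val_mul, Representation.asGroupHom_apply]
    have h := ((mem_Gam N ρ (Nat.card N) γ.1).mp γ.2).1 n
    rw [h, mul_assoc, Units.mul_inv, mul_one]

end finiteN

section irr

variable [Finite G] [hirr : ρ.IsIrreducible]

/-- the first projection is onto when the character of `ρ` is `G`-invariant -/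
theorem pr1_surjective
    (hinv : ∀ (g : G) (n : N), ρ.character (MulAut.conjNormal g n) = ρ.character n) :
    Function.Surjective (pr1 N ρ k) := by
  intro g
  set ρg : Representation ℂ N V := ρ.comp (MulAut.conjNormal g : N ≃* N).toMonoidHom with hρg
  have hρgn : ∀ n : N, ρg n = ρ (MulAut.conjNormal g n) := fun n => rfl
  have hchar : ρ.character = ρg.character := by
    funext n
    exact (hinv g n).symm
  have : Fintype N := Fintype.ofFinite N
  obtain ⟨e⟩ := equiv_of_character_eq ρ ρg hchar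
  set M₀ : (Module.End ℂ V)ˣ := LinearMap.GeneralLinearGroup.ofLinearEquiv e.toLinearEquiv with hM₀
  have hM₀coe : (M₀ : Module.End ℂ V) = e.toLinearMap := rfl
  have hint : ∀ n : N, (M₀ : Module.End ℂ V) * ρ n = ρg n * (M₀ : Module.End ℂ V) := by
    intro n
    rw [hM₀coe]
    exact e.isIntertwining' n
  have hd : 0 < finrank ℂ V := finrank_pos_of_isIrreducible ρ
  obtain ⟨c, hc⟩ := IsAlgClosed.exists_pow_nat_eq (((detU M₀)⁻¹ : ℂˣ) : ℂ) hd
  have hc0 : c ≠ 0 := by
    rintro rfl
    rw [zero_pow hd.ne'] at hc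
    exact (Units.ne_zero _) hc.symm
  set S : (Module.End ℂ V)ˣ :=
    Units.map ((algebraMap ℂ (Module.End ℂ V) : ℂ →+* Module.End ℂ V) : ℂ →* Module.End ℂ V)
      (Units.mk0 c hc0) with hS
  have hScoe : (S : Module.End ℂ V) = algebraMap ℂ (Module.End ℂ V) c := rfl
  have hmem : ((g, S * M₀) : G × (Module.End ℂ V)ˣ) ∈ Gam N ρ k := by
    rw [mem_Gam]
    refine ⟨fun n => ?_, ?_⟩
    · simp only [Units.val_mul, hScoe]
      rw [← hρgn, mul_assoc, hint n, ← mul_assoc, ← mul_assoc]
      congr 1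
      exact (Algebra.commutes c (ρg n))
    · have h1 : detU (S * M₀) = 1 := by
        apply Units.ext
        rw [map_mul, Units.val_mul, detU_coe, detU_coe, hScoe, Algebra.algebraMap_eq_smul_one,
          LinearMap.det_smul, map_one, mul_one, hc, Units.val_one, ← detU_coe, Units.inv_mul]
      rw [h1, one_pow]
  exact ⟨⟨(g, S * M₀), hmem⟩, rfl⟩

/-- the kernel of the first projection consists of scalars -/
theorem exists_scalar_of_pr1_eq_one (γ : Gam N ρ k) (hγ : pr1 N ρ k γ = 1) :
    ((γ.1.2 : (Module.End ℂ V)ˣ) : Module.End ℂ V)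
      = (LinearMap.trace ℂ V ((γ.1.2 : (Module.End ℂ V)ˣ) : Module.End ℂ V) / (finrank ℂ V : ℂ))
        • LinearMap.id := by
  apply eq_trace_div_smul_id_of_comm ρ
  intro n
  have h := ((mem_Gam N ρ k γ.1).mp γ.2).1 n
  have h1 : γ.1.1 = 1 := hγ
  rw [h1, map_one, MulAut.one_apply] at h
  exact h

/-- `Γ` is finite -/
theorem finite_Gam (hk : 0 < k) : Finite (Gam N ρ k) := by
  rw [(pr1 N ρ k).finite_iff_finite_ker_range]
  refine ⟨?_, inferInstance⟩
  have hd : 0 < finrank ℂ V := finrank_pos_of_isIrreducible ρ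
  have hdc : (finrank ℂ V : ℂ) ≠ 0 := by exact_mod_cast hd.ne'
  set m := finrank ℂ V * k with hm
  have hmpos : 0 < m := Nat.mul_pos hd hk
  have hfin : Finite {c : ℂ // c ^ m = 1} := by
    apply Set.Finite.to_subtype
    apply Set.Finite.subset (Polynomial.nthRootsFinset m (1 : ℂ)).finite_toSet
    intro c hc
    rw [Finset.mem_coe, Polynomial.mem_nthRootsFinset hmpos]
    exact hc
  let f : (pr1 N ρ k).ker → {c : ℂ // c ^ m = 1} := fun γ =>
    ⟨LinearMap.trace ℂ V ((γ.1.1.2 : (Module.End ℂ V)ˣ) : Module.End ℂ V) / (finrank ℂ V : ℂ), by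
      have h1 := exists_scalar_of_pr1_eq_one N ρ k γ.1 γ.2
      have h2 := ((mem_Gam N ρ k γ.1.1).mp γ.1.2).2
      have h3 := congrArg (fun u : ℂˣ => (u : ℂ)) h2
      simp only [Units.val_pow_eq_pow_val, Units.val_one, detU_coe] at h3
      rw [h1, LinearMap.det_smul, LinearMap.det_id, mul_one, ← pow_mul] at h3
      exact h3⟩
  apply Finite.of_injective f
  intro γ γ' h
  have h0 : (f γ : ℂ) = (f γ' : ℂ) := congrArg Subtype.val h
  simp only [f] at h0
  apply Subtype.ext
  apply Subtype.ext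
  apply Prod.ext
  · have h1 : γ.1.1.1 = 1 := γ.2
    have h2 : γ'.1.1.1 = 1 := γ'.2
    rw [h1, h2]
  · apply Units.ext
    rw [exists_scalar_of_pr1_eq_one N ρ k γ.1 γ.2, exists_scalar_of_pr1_eq_one N ρ k γ'.1 γ'.2, h0]

end irr

end Cfsg.Agent.Lib.Helper3.CharTriple
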