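import Mathlib
import Cfsg.Prelude.Def_Characters
import Cfsg.Prelude.Def_Blocks
import Cfsg.Agent.Lib.Helper3.CharTriple
import Cfsg.Agent.Lib.Helper3.GallagherFactor
import Cfsg.Agent.Lib.Helper3.GlueExt
import Cfsg.Agent.Lib.Helper6.QuotChar
import Cfsg.Agent.Lib.Helper6.ScalarIndex
import Cfsg.Agent.Lib.Helper6.Multiplicity

set_option autoImplicit false
set_option linter.unusedSectionVars false

namespace Cfsg.Agent.Lib.Helper3.CharTriple

open Cfsg.Agent.Lib.Helper6 Module

universe u v

/-- Composition of an irreducible character with a surjective homomorphism is irreducible. -/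
theorem isIrrCharacter_comp_surjective {K L : Type*} [Group K] [Group L] [Finite K] [Finite L]
    (f : L →* K) (hf : Function.Surjective f) {χ : K → ℂ} (hχ : Cfsg.IsIrrCharacter K χ) :
    Cfsg.IsIrrCharacter L (fun l => χ (f l)) := by
  have : Fintype L := Fintype.ofFinite L
  let e : L ⧸ f.ker ≃* K := QuotientGroup.quotientKerEquivOfSurjective f hf
  have h1 : Cfsg.IsIrrCharacter (L ⧸ f.ker) (fun q => χ (e q)) := IsIrrCharacter.comp_mulEquiv e hχ
  have h2 := IsIrrCharacter.comp_mk f.ker h1
  exact h2

variable {G : Type u} [Group G] [Finite G] (N : Subgroup G) [hN : N.Normal]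
variable {V : Type v} [AddCommGroup V] [Module ℂ V] [FiniteDimensional ℂ V]
variable (ρ : Representation ℂ N V) [hirr : ρ.IsIrreducible] (k : ℕ)

instance instFiniteGam : Finite (Gam N ρ (Nat.card N)) := finite_Gam N ρ _ Nat.card_pos

/-- the kernel of the first projection is central -/
theorem mul_comm_of_pr1_eq_one (z γ : Gam N ρ k) (hz : pr1 N ρ k z = 1) : z * γ = γ * z := by
  apply Subtype.ext
  apply Prod.ext
  · have h1 : z.1.1 = 1 := hz
    simp [h1]
  · apply Units.ext
    simp only [Subgroup.coe_mul, Prod.snd_mul, Units.val_mul]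
    rw [exists_scalar_of_pr1_eq_one N ρ k z hz]
    simp only [smul_mul_assoc, mul_smul_comm]
    congr 1

/-- the lifted character: the trace of the second projection -/
noncomputable def hatChar : Gam N ρ k → ℂ := (pr2 N ρ k).character

theorem hatChar_incl (n : N) : hatChar N ρ (Nat.card N) (incl N ρ n) = ρ.character n := by
  unfold hatChar
  rw [Representation.character, pr2_incl]
  rfl

theorem hatChar_isCharacter : Cfsg.IsCharacter (Gam N ρ k) (hatChar N ρ k) :=
  isCharacter_character _

theorem hatChar_isIrrCharacter :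
    Cfsg.IsIrrCharacter (Gam N ρ (Nat.card N)) (hatChar N ρ (Nat.card N)) := by
  apply Cfsg.Agent.Lib.Helper3.GlueExt.isIrrCharacter_of_comp_irr (incl N ρ)
    (hatChar_isCharacter N ρ _)
  have : (fun x : N => hatChar N ρ (Nat.card N) (incl N ρ x)) = ρ.character :=
    funext (hatChar_incl N ρ)
  rw [this]
  exact isIrrCharacter_character ρ

/-- the scalar by which an element of the kernel of the first projection acts -/
noncomputable def scal (z : Gam N ρ k) : ℂ :=
  LinearMap.trace ℂ V ((z.1.2 : (Module.End ℂ V)ˣ) : Module.End ℂ V) / (finrank ℂ V : ℂ)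

theorem hatChar_mul_of_pr1_eq_one (z γ : Gam N ρ k) (hz : pr1 N ρ k z = 1) :
    hatChar N ρ k (z * γ) = scal N ρ k z * hatChar N ρ k γ := by
  unfold hatChar
  rw [Representation.character, Representation.character, map_mul, pr2_apply, pr2_apply,
    exists_scalar_of_pr1_eq_one N ρ k z hz]
  simp only [smul_mul_assoc, map_smul, smul_eq_mul]
  rfl

theorem hatChar_one : hatChar N ρ k 1 = (finrank ℂ V : ℂ) := by
  unfold hatChar
  simp

end Cfsg.Agent.Lib.Helper3.CharTriple
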