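import Mathlib
import Cfsg.Prelude.Def_Characters
import Cfsg.Prelude.Def_Blocks
import Cfsg.Agent.Lib.Helper3.CharTriple2

set_option autoImplicit false
set_option linter.unusedSectionVars false

namespace Cfsg.Agent.Lib.Helper3.CharTriple

open Cfsg.Agent.Lib.Helper6 Module

universe u v

/-- invariance of the character in terms of `MulAut.conjNormal` -/
theorem character_conjNormal {G : Type u} [Group G] (N : Subgroup G) [hN : N.Normal] {d : ℕ}
    (ρ : Representation ℂ N (Fin d → ℂ))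
    (hinv : ∀ (g : G) (n : N),
      ρ.character ⟨g * n * g⁻¹, hN.conj_mem (n : G) n.2 g⟩ = ρ.character n) (g : G) (n : N) :
    ρ.character (MulAut.conjNormal g n) = ρ.character n := by
  have : MulAut.conjNormal g n = ⟨g * n * g⁻¹, hN.conj_mem (n : G) n.2 g⟩ :=
    Subtype.ext (MulAut.conjNormal_apply g n)
  rw [this]
  exact hinv g n

/-- **Lifting to the central extension**: if `ρ` affords a `G`-invariant `ϑ ∈ Irr(N)` lying under
`χ ∈ Irr(G)`, then on `Γ = Gam N ρ |N|` we have `χ ∘ pr1 = β · ϑ̂` where `β` is afforded by an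
irreducible representation `τ` of `Γ` trivial on (the copy of) `N`. -/
theorem exists_factor_lift {G : Type u} [Group G] [Fintype G] (N : Subgroup G)
    [hN : N.Normal] [Fintype N] {d : ℕ} (ρ : Representation ℂ N (Fin d → ℂ)) [hρirr : ρ.IsIrreducible]
    (hinv : ∀ (g : G) (n : N),
      ρ.character ⟨g * n * g⁻¹, hN.conj_mem (n : G) n.2 g⟩ = ρ.character n)
    (χ : G → ℂ) (hχ : Cfsg.IsIrrCharacter G χ)
    (hcon : Cfsg.classInner (fun n : N => χ n) ρ.character ≠ 0) :
    ∃ (e : ℕ) (τ : Representation ℂ (Gam N ρ (Nat.card N)) (Fin e → ℂ)), τ.IsIrreducible ∧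
      (∀ n : N, τ (incl N ρ n) = LinearMap.id) ∧
      ∀ γ : Gam N ρ (Nat.card N),
        χ (pr1 N ρ (Nat.card N) γ) = τ.character γ * hatChar N ρ (Nat.card N) γ := by
  classical
  have hinvρ := character_conjNormal N ρ hinv
  have : Fintype (Gam N ρ (Nat.card N)) := Fintype.ofFinite _
  have hπ : Function.Surjective (pr1 N ρ (Nat.card N)) := pr1_surjective N ρ _ hinvρ
  have hθh : Cfsg.IsIrrCharacter (Gam N ρ (Nat.card N)) (hatChar N ρ (Nat.card N)) :=
    hatChar_isIrrCharacter N ρ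
  have hχh : Cfsg.IsIrrCharacter (Gam N ρ (Nat.card N))
      (fun γ => χ (pr1 N ρ (Nat.card N) γ)) :=
    isIrrCharacter_comp_surjective (pr1 N ρ (Nat.card N)) hπ hχ
  have hN₀ : (incl N ρ).range.Normal := incl_range_normal N ρ
  let e₀ : N ≃* (incl N ρ).range := MonoidHom.ofInjective (incl_injective N ρ)
  have he₀ : ∀ n : N, ((e₀ n : (incl N ρ).range) : Gam N ρ (Nat.card N)) = incl N ρ n :=
    fun n => rfl
  have : Fintype (incl N ρ).range := Fintype.ofFinite _
  have hθres : (fun x : (incl N ρ).range => hatChar N ρ (Nat.card N) x)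
      = fun x : (incl N ρ).range => ρ.character (e₀.symm x) := by
    funext x
    obtain ⟨n, rfl⟩ := e₀.surjective x
    rw [e₀.symm_apply_apply, he₀]
    exact hatChar_incl N ρ n
  have hθresirr : Cfsg.IsIrrCharacter (incl N ρ).range
      (fun x : (incl N ρ).range => hatChar N ρ (Nat.card N) x) := by
    rw [hθres]
    exact IsIrrCharacter.comp_mulEquiv e₀.symm (isIrrCharacter_character ρ)
  have hχres : (fun x : (incl N ρ).range => χ (pr1 N ρ (Nat.card N) x))
      = fun x : (incl N ρ).range => (fun n : N => χ n) (e₀.symm x) := by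
    funext x
    obtain ⟨n, rfl⟩ := e₀.surjective x
    rw [e₀.symm_apply_apply, he₀, pr1_incl]
  have hcon' : Cfsg.classInner (fun x : (incl N ρ).range => χ (pr1 N ρ (Nat.card N) x))
      (fun x : (incl N ρ).range => hatChar N ρ (Nat.card N) x) ≠ 0 := by
    rw [hχres, hθres]
    have := classInner_comp_mulEquiv e₀.symm (fun n : N => χ n) ρ.character
    rw [this]
    exact hcon
  obtain ⟨β, hβirr, hβN, hβeq⟩ := Cfsg.Agent.Lib.Helper3.GallagherFactor.exists_factor
    (incl N ρ).range (hatChar N ρ (Nat.card N)) hθh hθresirr _ hχh hcon'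
  obtain ⟨e, τ, hτirr, hτ⟩ := hβirr
  refine ⟨e, τ, hτirr, ?_, ?_⟩
  · intro n
    rw [← character_eq_finrank_iff, hτ, hβN ⟨incl N ρ n, ⟨n, rfl⟩⟩, ← hτ]
    simp
  · intro γ
    have := congrFun hβeq γ
    rw [Pi.mul_apply, ← hτ] at this
    exact this

/-- **Degree ratio, invariant case**: if `ϑ ∈ Irr(N)` is `G`-invariant and lies under
`χ ∈ Irr(G)`, then `χ(1) = e ϑ(1)` with `e` dividing `|G : N|`. -/
theorem degree_ratio_dvd_index_of_invariant {G : Type u} [Group G] [Fintype G] (N : Subgroup G)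
    [hN : N.Normal] [Fintype N] (χ : G → ℂ) (hχ : Cfsg.IsIrrCharacter G χ) (ϑ : N → ℂ)
    (hϑ : Cfsg.IsIrrCharacter N ϑ)
    (hinv : ∀ (g : G) (n : N), ϑ ⟨g * n * g⁻¹, hN.conj_mem (n : G) n.2 g⟩ = ϑ n)
    (hcon : Cfsg.classInner (fun n : N => χ n) ϑ ≠ 0) :
    ∃ e : ℕ, Cfsg.charDegree χ = e * Cfsg.charDegree ϑ ∧ e ∣ N.index := by
  classical
  obtain ⟨d, ρ, hρirr, rfl⟩ := hϑ
  have hinvρ := character_conjNormal N ρ hinv
  have : Fintype (Gam N ρ (Nat.card N)) := Fintype.ofFinite _
  have hπ : Function.Surjective (pr1 N ρ (Nat.card N)) := pr1_surjective N ρ _ hinvρ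
  obtain ⟨e, τ, hτirr, hτN, hτeq⟩ := exists_factor_lift N ρ hinv χ hχ hcon
  have hA : ∀ a ∈ N.comap (pr1 N ρ (Nat.card N)), ∃ c : ℂ, τ a = c • LinearMap.id := by
    intro a ha
    set n : N := ⟨pr1 N ρ (Nat.card N) a, ha⟩ with hn
    set z := a * (incl N ρ n)⁻¹ with hz
    have hz1 : pr1 N ρ (Nat.card N) z = 1 := by
      rw [hz, map_mul, map_inv, pr1_incl]
      exact mul_inv_cancel _
    have hzc : z ∈ Subgroup.center (Gam N ρ (Nat.card N)) := by
      rw [Subgroup.mem_center_iff]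
      intro γ
      exact (mul_comm_of_pr1_eq_one N ρ _ z γ hz1).symm
    obtain ⟨c, hc, -⟩ := exists_scalar_of_mem_center τ hzc
    refine ⟨c, ?_⟩
    have ha' : a = z * incl N ρ n := by rw [hz, inv_mul_cancel_right]
    rw [ha', map_mul, hc, hτN n]
    ext v
    simp
  have hdvd := finrank_dvd_index_of_scalar τ (N.comap (pr1 N ρ (Nat.card N))) hA
  have hidx : (N.comap (pr1 N ρ (Nat.card N))).index = N.index :=
    Subgroup.index_comap_of_surjective N hπ
  refine ⟨e, ?_, ?_⟩
  · have h1 := hτeq 1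
    rw [map_one, hatChar_one] at h1
    simp only [Representation.char_one, finrank_fintype_fun_eq_card, Fintype.card_fin] at h1
    rw [IsCharacter.apply_one_eq_charDegree (IsIrrCharacter.isCharacter hχ)] at h1
    rw [charDegree_character, finrank_fintype_fun_eq_card, Fintype.card_fin]
    exact_mod_cast h1
  · rw [← hidx]
    simpa using hdvd

end Cfsg.Agent.Lib.Helper3.CharTriple
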