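import Mathlib
import Cfsg.Prelude.Def_Local
import Cfsg.Agent.Lib.Helper1.PConstrainedQuotient
import Cfsg.Agent.Lib.Helper1.PCore
import Cfsg.Agent.Lib.Helper9.A8EmbF0
import Cfsg.Agent.Lib.Helper9.A8EmbF1
import Cfsg.Agent.Lib.Helper9.A8EmbF2
import Cfsg.Agent.Lib.Helper9.A8EmbE5
import Cfsg.Agent.Lib.Helper6.A8EmbE4a
import Cfsg.Agent.Lib.Helper6.A8EmbE4b

set_option autoImplicit false
set_option maxHeartbeats 4000000
set_option maxRecDepth 100000
set_option linter.unusedVariables false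
set_option linter.unusedSectionVars false
set_option linter.style.longLine false
set_option linter.style.haveILetI false
set_option linter.deprecated false
set_option linter.unusedSimpArgs false

/-! # S3103: a core-free 2-constrained group with `O_2` of sectional rank `≤ 4` has
`X / O_2(X)` embedded in `A_8` -/

namespace Cfsg.Agent.Lib.Helper3.A8Emb

open Cfsg
open Cfsg.Agent.Lib.Helper9.A8Emb
open Cfsg.Agent.Lib.Helper6.A8Emb

variable {X : Type*} [Group X]

/-- the subgroup generated by the squares of the elements of `Q` -/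
def sqSub (Q : Subgroup X) : Subgroup X := Subgroup.closure {y : X | ∃ b ∈ Q, y = b ^ 2}

theorem sqSub_le (Q : Subgroup X) : sqSub Q ≤ Q := by
  unfold sqSub
  rw [Subgroup.closure_le]
  rintro y ⟨b, hb, rfl⟩
  exact Q.pow_mem hb 2

instance sqSub_normal (Q : Subgroup X) [hQ : Q.Normal] : (sqSub Q).Normal := by
  constructor
  intro n hn g
  unfold sqSub at hn ⊢
  induction hn using Subgroup.closure_induction with
  | mem y hy =>
    obtain ⟨b, hb, rfl⟩ := hy
    apply Subgroup.subset_closure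
    refine ⟨g * b * g⁻¹, hQ.conj_mem b hb g, ?_⟩
    exact (conj_pow).symm
  | one => simp
  | mul x y _ _ hx hy =>
    have : g * (x * y) * g⁻¹ = (g * x * g⁻¹) * (g * y * g⁻¹) := by group
    rw [this]; exact Subgroup.mul_mem _ hx hy
  | inv x _ hx =>
    have : g * x⁻¹ * g⁻¹ = (g * x * g⁻¹)⁻¹ := by group
    rw [this]; exact Subgroup.inv_mem _ hx

theorem sq_eq_one_quot (Q : Subgroup X) [Q.Normal] (x : ↥Q ⧸ (sqSub Q).subgroupOf Q) : x ^ 2 = 1 := by
  induction x using QuotientGroup.induction_on with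
  | H a =>
    rw [← QuotientGroup.mk_pow, QuotientGroup.eq_one_iff, Subgroup.mem_subgroupOf]
    apply Subgroup.subset_closure
    exact ⟨a, a.2, by simp⟩

theorem comm_of_sq {E : Type*} [Group E] (h2 : ∀ x : E, x ^ 2 = 1) (a b : E) : a * b = b * a := by
  have ha : a⁻¹ = a := by
    have := h2 a; rw [pow_two] at this; exact inv_eq_of_mul_eq_one_left this
  have hb : b⁻¹ = b := by
    have := h2 b; rw [pow_two] at this; exact inv_eq_of_mul_eq_one_left this
  have hab : (a * b)⁻¹ = a * b := by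
    have := h2 (a * b); rw [pow_two] at this; exact inv_eq_of_mul_eq_one_left this
  rw [← hab, mul_inv_rev, ha, hb]

/-- E1 -/
theorem centralizer_pCore_le [Finite X] (hc : Cfsg.IsPConstrained 2 X) (hO : Cfsg.oddCore X = ⊥) :
    Subgroup.centralizer ((Cfsg.pCore 2 X : Subgroup X) : Set X) ≤ Cfsg.pCore 2 X := by
  haveI : Fact (Nat.Prime 2) := ⟨Nat.prime_two⟩
  have h1 : pPrimePCore 2 X = pCore 2 X :=
    Cfsg.Agent.Lib.Helper1.pPrimePCore_eq_pCore_of_pPrimeCore_eq_bot 2 hO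
  have hM : IsPGroup 2 (pPrimePCore 2 X) := by
    rw [h1]; exact Cfsg.Agent.Lib.Helper1.pCore_isPGroup 2
  obtain ⟨P⟩ : Nonempty (Sylow 2 ↥(pPrimePCore 2 X)) := inferInstance
  have h2 := Cfsg.Agent.Lib.Helper1.sylow_map_subtype_eq_of_isPGroup (pPrimePCore 2 X) hM P
  have h3 := hc P
  rw [h2, h1] at h3
  exact h3

/-- F3: the kernel of the action on `Q / Q^2` is `Q` -/
theorem ker_le [Finite X] (Q : Subgroup X) [hQn : Q.Normal] (hQ : IsPGroup 2 Q)
    (hcent : Subgroup.centralizer (Q : Set X) ≤ Q)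
    (hmax : ∀ N : Subgroup X, N.Normal → IsPGroup 2 N → N ≤ Q)
    (φ : X →* MulAut (↥Q ⧸ (sqSub Q).subgroupOf Q))
    (hφ : ∀ (g : X) (a : ↥Q), φ g ((a : ↥Q) : ↥Q ⧸ (sqSub Q).subgroupOf Q) =
        (((⟨g * (a : X) * g⁻¹, hQn.conj_mem a a.2 g⟩ : ↥Q)) : ↥Q ⧸ (sqSub Q).subgroupOf Q)) :
    φ.ker ≤ Q := by
  apply hmax _ inferInstance
  -- φ.ker is a 2-group
  have key : ∀ x ∈ φ.ker, ∀ r : ℕ, r.Prime → orderOf x = r → r = 2 := by
    intro x hx r hr hxr
    by_contra hr2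
    have hx1 : ∀ a ∈ Q, ∃ d ∈ Subgroup.closure {y : X | ∃ b ∈ Q, y = b ^ 2}, x * a * x⁻¹ = a * d := by
      intro a ha
      have h1 := hφ x ⟨a, ha⟩
      rw [MonoidHom.mem_ker] at hx
      rw [hx, MulAut.one_apply] at h1
      have h2 := QuotientGroup.eq.mp h1
      rw [Subgroup.mem_subgroupOf] at h2
      refine ⟨a⁻¹ * (x * a * x⁻¹), ?_, by group⟩
      change a⁻¹ * (x * a * x⁻¹) ∈ sqSub Q
      simpa using h2
    have hxQ : ∀ a ∈ Q, x * a * x⁻¹ ∈ Q := fun a ha => hQn.conj_mem a ha x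
    have h2 := exists_fixed_in_coset Q hQ hr hr2 hxr hxQ hx1
    have h3 : Q ⊓ Subgroup.centralizer ({x} : Set X) = Q := by
      apply eq_of_mul_sq_eq Q _ hQ inf_le_left
      intro a ha
      obtain ⟨c, hc, hcx, d, hd, had⟩ := h2 a ha
      refine ⟨c, ⟨hc, ?_⟩, d, hd, had⟩
      show c ∈ Subgroup.centralizer ({x} : Set X)
      rw [Subgroup.mem_centralizer_singleton_iff]
      calc c * x = (x * c * x⁻¹) * x := by rw [hcx]
        _ = x * c := by group
    have hxc : x ∈ Subgroup.centralizer (Q : Set X) := by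
      rw [Subgroup.mem_centralizer_iff]
      intro a ha
      have : a ∈ Q ⊓ Subgroup.centralizer ({x} : Set X) := by rw [h3]; exact ha
      have := Subgroup.mem_centralizer_singleton_iff.mp this.2
      exact this
    have hxQ' : x ∈ Q := hcent hxc
    obtain ⟨j, hj⟩ := hQ ⟨x, hxQ'⟩
    have hj' : x ^ 2 ^ j = 1 := by
      have := congrArg Subtype.val hj
      simpa using this
    have hdvd : r ∣ 2 ^ j := by rw [← hxr]; exact orderOf_dvd_of_pow_eq_one hj'
    have := (Nat.prime_dvd_prime_iff_eq hr Nat.prime_two).mp (hr.dvd_of_dvd_pow hdvd)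
    exact hr2 this
  -- conclude
  haveI : Fact (Nat.Prime 2) := ⟨Nat.prime_two⟩
  rw [IsPGroup.iff_card]
  have hpos : Nat.card φ.ker ≠ 0 := Nat.card_pos.ne'
  refine ⟨(Nat.card φ.ker).primeFactorsList.length, ?_⟩
  apply Nat.eq_prime_pow_of_unique_prime_dvd hpos
  intro r hr hrd
  haveI : Fact r.Prime := ⟨hr⟩
  obtain ⟨x, hx⟩ := exists_prime_orderOf_dvd_card' r hrd
  have hx' : orderOf (x : X) = r := by rw [Subgroup.orderOf_coe]; exact hx
  exact key x x.2 r hr hx'

theorem main [Finite X] (hc : Cfsg.IsPConstrained 2 X) (hO : Cfsg.oddCore X = ⊥)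
    (h4 : Cfsg.SectionalPRankLE 2 4 ↥(Cfsg.pCore 2 X)) :
    ∃ f : X ⧸ Cfsg.pCore 2 X →* ↥(alternatingGroup (Fin 8)), Function.Injective f := by
  haveI : Fact (Nat.Prime 2) := ⟨Nat.prime_two⟩
  set Q := Cfsg.pCore 2 X with hQdef
  have hQ : IsPGroup 2 Q := Cfsg.Agent.Lib.Helper1.pCore_isPGroup 2
  have hcent := centralizer_pCore_le hc hO
  have hmax : ∀ N : Subgroup X, N.Normal → IsPGroup 2 N → N ≤ Q :=
    fun N hN hN2 => Cfsg.Agent.Lib.Helper1.le_pCore hN hN2
  obtain ⟨φ, hφ⟩ := exists_conjQuot Q (sqSub Q) (sqSub_le Q)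
  have hker := ker_le Q hQ hcent hmax φ hφ
  have h2 := sq_eq_one_quot Q
  have hcard := card_quot_le h4 ((sqSub Q).subgroupOf Q) h2
  -- Q ≤ ker φ
  have hQker : Q ≤ φ.ker := by
    intro g hg
    rw [MonoidHom.mem_ker]
    ext x
    induction x using QuotientGroup.induction_on with
    | H a =>
      rw [hφ g a, MulAut.one_apply]
      have : ((⟨g * (a : X) * g⁻¹, Subgroup.Normal.conj_mem inferInstance (a : X) a.2 g⟩ : ↥Q) : ↥Q ⧸ (sqSub Q).subgroupOf Q)
          = ((⟨g, hg⟩ : ↥Q) : ↥Q ⧸ (sqSub Q).subgroupOf Q) * (a : ↥Q ⧸ (sqSub Q).subgroupOf Q) *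
            ((⟨g, hg⟩ : ↥Q) : ↥Q ⧸ (sqSub Q).subgroupOf Q)⁻¹ := by
        rw [← QuotientGroup.mk_inv, ← QuotientGroup.mk_mul, ← QuotientGroup.mk_mul]
        rfl
      rw [this, comm_of_sq h2 _ (a : ↥Q ⧸ (sqSub Q).subgroupOf Q), mul_inv_cancel_right]
  let ψ : X ⧸ Q →* MulAut (↥Q ⧸ (sqSub Q).subgroupOf Q) := QuotientGroup.lift Q φ hQker
  have hψ : Function.Injective ψ := by
    rw [injective_iff_map_eq_one]
    intro x hx
    induction x using QuotientGroup.induction_on with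
    | H g =>
      have : φ g = 1 := hx
      rw [QuotientGroup.eq_one_iff]
      exact hker (MonoidHom.mem_ker.mpr this)
  obtain ⟨f1, hf1⟩ := exists_injective_mulAut_to_linearEquiv h2 hcard
  obtain ⟨f2, hf2⟩ := exists_injective_linearEquiv_to_alt8
  exact ⟨f2.comp (f1.comp ψ), hf2.comp (hf1.comp hψ)⟩

end Cfsg.Agent.Lib.Helper3.A8Emb
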