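import Mathlib
import Cfsg.Agent.Lib.Helper2.GH7Glue

/-!
# Farm GH7 (S3105), unit OMEGA-SPLIT (helper3), part 1: subgroups of small index of `L` and a fixed point lemma.
-/

set_option autoImplicit false
set_option linter.unusedSectionVars false
set_option linter.unusedVariables false

namespace Cfsg.Agent.Lib.Helper3.GH7Om

open Cfsg.Agent.Lib.Helper2.GH7

universe u

/-- `L` has no proper subgroup of index at most 6 -/
theorem no_small_index (H : Subgroup L) (h : H.index ≤ 6) : H = ⊤ := by
  classical
  have hs : IsSimpleGroup L := Cfsg.Agent.Lib.Helper1.Dv.simple_SL32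
  have hne : H.index ≠ 0 := Subgroup.index_ne_zero_of_finite
  let ψ : L →* Equiv.Perm (L ⧸ H) := MulAction.toPermHom L (L ⧸ H)
  rcases hs.eq_bot_or_eq_top_of_normal ψ.ker inferInstance with hb | ht
  · exfalso
    have hinj : Function.Injective ψ := (MonoidHom.ker_eq_bot_iff ψ).1 hb
    have h1 : Nat.card L ∣ Nat.card (Equiv.Perm (L ⧸ H)) := by
      have := Subgroup.card_subgroup_dvd_card ψ.range
      rwa [← Nat.card_congr (MonoidHom.ofInjective hinj).toEquiv] at this
    rw [Cfsg.Agent.Lib.Helper1.Dv.card_SL32, Nat.card_perm] at h1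
    have h2 : (7 : ℕ) ∣ (Nat.card (L ⧸ H)).factorial := Dvd.dvd.trans (by norm_num) h1
    have h3 : 7 ≤ Nat.card (L ⧸ H) := (Nat.Prime.dvd_factorial (by norm_num)).1 h2
    have h4 : Nat.card (L ⧸ H) = H.index := rfl
    omega
  · rw [eq_top_iff]
    intro l _
    have h1 : l ∈ ψ.ker := by rw [ht]; trivial
    rw [MonoidHom.mem_ker] at h1
    have h2 : ψ l (QuotientGroup.mk 1 : L ⧸ H) = QuotientGroup.mk 1 := by rw [h1]; rfl
    have h3 : ψ l (QuotientGroup.mk 1 : L ⧸ H) = QuotientGroup.mk (l * 1) := rfl
    rw [h3, mul_one] at h2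
    have h4 := QuotientGroup.eq.1 h2
    rw [mul_one] at h4
    exact (Subgroup.inv_mem_iff H).1 h4

/-- a subgroup of `L` containing an involution does not have index 8 -/
theorem index_ne_eight (H : Subgroup L) (t : L) (ht : t ∈ H) (ht1 : t ≠ 1) (ht2 : t * t = 1) :
    H.index ≠ 8 := by
  intro h8
  have h1 := Subgroup.card_mul_index H
  rw [h8, Cfsg.Agent.Lib.Helper1.Dv.card_SL32] at h1
  have h21 : Nat.card H = 21 := by omega
  have h2 : orderOf (⟨t, ht⟩ : H) ∣ Nat.card H := orderOf_dvd_natCard _
  have h3 : orderOf (⟨t, ht⟩ : H) = 2 := by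
    apply orderOf_eq_prime
    · apply Subtype.ext
      rw [pow_two]; exact ht2
    · intro h; exact ht1 (congrArg Subtype.val h)
  rw [h3, h21] at h2
  omega

theorem index_centralizer_eq {E : Type u} [Group E] (p : E) :
    (Subgroup.centralizer {p}).index = (MulAction.orbit (ConjAct E) p).ncard := by
  rw [Subgroup.centralizer_eq_comap_stabilizer]
  have h1 : Function.Surjective ((ConjAct.toConjAct (G := E)).toMonoidHom) :=
    (ConjAct.toConjAct (G := E)).surjective
  have h2 := Subgroup.index_comap_of_surjective (MulAction.stabilizer (ConjAct E) p) h1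
  exact h2.trans (MulAction.index_stabilizer (ConjAct E) p)

/-- an element centralised by the kernel whose conjugates lie in a set of at most 6 elements is central -/
theorem central_of_small_class {E : Type u} [Group E] [Finite E] (θ : E →* L) (hsurj : Function.Surjective θ)
    (p : E) (hK : ∀ z ∈ θ.ker, z * p = p * z) (S : Set E) (hS : S.ncard ≤ 6)
    (horb : ∀ e : E, e * p * e⁻¹ ∈ S) : ∀ e : E, e * p = p * e := by
  classical
  have horb' : MulAction.orbit (ConjAct E) p ⊆ S := by
    intro h hh
    rw [ConjAct.mem_orbit_conjAct, isConj_comm, isConj_iff] at hh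
    obtain ⟨c, hc⟩ := hh
    rw [← hc]
    exact horb c
  have hle : (Subgroup.centralizer {p}).index ≤ 6 := by
    rw [index_centralizer_eq]
    exact (Set.ncard_le_ncard horb' (Set.toFinite S)).trans hS
  have hKC : θ.ker ≤ Subgroup.centralizer {p} := by
    intro z hz
    rw [Subgroup.mem_centralizer_iff]
    intro y hy
    rw [Set.mem_singleton_iff] at hy
    rw [hy]
    exact (hK z hz).symm
  have hmapidx : ((Subgroup.centralizer {p}).map θ).index = (Subgroup.centralizer {p}).index :=
    Subgroup.index_map_eq _ hsurj hKC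
  have htop := no_small_index _ (hmapidx ▸ hle)
  intro e
  have he : θ e ∈ (Subgroup.centralizer {p}).map θ := by rw [htop]; trivial
  obtain ⟨c, hc, hce⟩ := Subgroup.mem_map.1 he
  have hk : c⁻¹ * e ∈ θ.ker := by
    rw [MonoidHom.mem_ker, map_mul, map_inv, hce, inv_mul_cancel]
  have hc' : c * p = p * c := by
    have := (Subgroup.mem_centralizer_iff.1 hc) p rfl
    exact this.symm
  have hk' := hK _ hk
  calc e * p = c * ((c⁻¹ * e) * p) := by group
    _ = c * (p * (c⁻¹ * e)) := by rw [hk']
    _ = (c * p) * (c⁻¹ * e) := by group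
    _ = (p * c) * (c⁻¹ * e) := by rw [hc']
    _ = p * e := by group

/-- **fixed point lemma**: `E → L` surjective, `p ∈ E` centralised by the kernel, the class of `p` inside an invariant set of
8 elements, and some `κ` over an involution centralising `p`: then the set contains a central element. -/
theorem exists_central {E : Type u} [Group E] [Finite E] (θ : E →* L) (hsurj : Function.Surjective θ)
    (Ω : Set E) (hΩ : Ω.ncard = 8) (hinv : ∀ e : E, ∀ x ∈ Ω, e * x * e⁻¹ ∈ Ω)
    (p : E) (hp : p ∈ Ω) (hK : ∀ z ∈ θ.ker, z * p = p * z)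
    (κ : E) (hκ1 : θ κ ≠ 1) (hκ2 : θ κ * θ κ = 1) (hκp : κ * p = p * κ) :
    ∃ p' ∈ Ω, ∀ e : E, e * p' = p' * e := by
  classical
  have hfin : Ω.Finite := Set.toFinite Ω
  -- the class of `p`
  have horb : MulAction.orbit (ConjAct E) p ⊆ Ω := by
    intro h hh
    rw [ConjAct.mem_orbit_conjAct, isConj_comm, isConj_iff] at hh
    obtain ⟨c, hc⟩ := hh
    rw [← hc]
    exact hinv c p hp
  have hidx : (Subgroup.centralizer {p}).index = (MulAction.orbit (ConjAct E) p).ncard := by
    rw [Subgroup.centralizer_eq_comap_stabilizer]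
    have h1 : Function.Surjective ((ConjAct.toConjAct (G := E)).toMonoidHom) :=
      (ConjAct.toConjAct (G := E)).surjective
    have h2 := Subgroup.index_comap_of_surjective (MulAction.stabilizer (ConjAct E) p) h1
    exact h2.trans (MulAction.index_stabilizer (ConjAct E) p)
  have hle8 : (Subgroup.centralizer {p}).index ≤ 8 := by
    rw [hidx, ← hΩ]
    exact Set.ncard_le_ncard horb hfin
  have hKC : θ.ker ≤ Subgroup.centralizer {p} := by
    intro z hz
    rw [Subgroup.mem_centralizer_iff]
    intro y hy
    rw [Set.mem_singleton_iff] at hy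
    rw [hy]
    exact (hK z hz).symm
  have hmapidx : ((Subgroup.centralizer {p}).map θ).index = (Subgroup.centralizer {p}).index :=
    Subgroup.index_map_eq _ hsurj hKC
  have hκC : κ ∈ Subgroup.centralizer {p} := by
    rw [Subgroup.mem_centralizer_iff]
    intro y hy
    rw [Set.mem_singleton_iff] at hy
    rw [hy]
    exact hκp.symm
  have hne8 : ((Subgroup.centralizer {p}).map θ).index ≠ 8 :=
    index_ne_eight _ (θ κ) (Subgroup.mem_map_of_mem _ hκC) hκ1 hκ2
  by_cases h6 : ((Subgroup.centralizer {p}).map θ).index ≤ 6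
  · -- `p` is central
    have htop := no_small_index _ h6
    refine ⟨p, hp, ?_⟩
    intro e
    have he : θ e ∈ (Subgroup.centralizer {p}).map θ := by rw [htop]; trivial
    obtain ⟨c, hc, hce⟩ := Subgroup.mem_map.1 he
    have hk : c⁻¹ * e ∈ θ.ker := by
      rw [MonoidHom.mem_ker, map_mul, map_inv, hce, inv_mul_cancel]
    have hc' : c * p = p * c := by
      have := (Subgroup.mem_centralizer_iff.1 hc) p rfl
      exact this.symm
    have hk' := hK _ hk
    calc e * p = c * ((c⁻¹ * e) * p) := by group
      _ = c * (p * (c⁻¹ * e)) := by rw [hk']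
      _ = (c * p) * (c⁻¹ * e) := by group
      _ = (p * c) * (c⁻¹ * e) := by rw [hc']
      _ = p * e := by group
  · -- index 7: the leftover point
    have h7 : (MulAction.orbit (ConjAct E) p).ncard = 7 := by
      rw [← hidx, ← hmapidx]
      rw [hmapidx] at hne8 h6
      rw [hmapidx]
      omega
    have hdiff : (Ω \ MulAction.orbit (ConjAct E) p).ncard = 1 := by
      rw [Set.ncard_sdiff horb (Set.toFinite _), hΩ, h7]
    obtain ⟨p', hp'⟩ := Set.ncard_eq_one.1 hdiff
    have hp'mem : p' ∈ Ω \ MulAction.orbit (ConjAct E) p := by rw [hp']; rfl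
    refine ⟨p', hp'mem.1, ?_⟩
    intro e
    have h1 : e * p' * e⁻¹ ∈ Ω \ MulAction.orbit (ConjAct E) p := by
      refine ⟨hinv e p' hp'mem.1, ?_⟩
      intro hcon
      apply hp'mem.2
      rw [ConjAct.mem_orbit_conjAct] at hcon ⊢
      have : IsConj p' (e * p' * e⁻¹) := isConj_iff.2 ⟨e, rfl⟩
      exact this.trans hcon
    rw [hp', Set.mem_singleton_iff] at h1
    calc e * p' = e * p' * e⁻¹ * e := by group
      _ = p' * e := by rw [h1]

end Cfsg.Agent.Lib.Helper3.GH7Om
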