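import Mathlib
import Cfsg.Agent.Lib.Helper2.GH7Glue

/-!
# Farm GH7 (S3105), unit S★a-split (helper3), part 1: general lemmas.
-/

set_option autoImplicit false
set_option linter.unusedSectionVars false
set_option linter.unusedVariables false

namespace Cfsg.Agent.Lib.Helper3.GH7SaS

open Cfsg.Agent.Lib.Helper2.GH7

universe u

/-- a normal subgroup of order at most 4 centralised by the kernel of a surjection onto `L` is central -/
theorem central_of_card_le_four {E : Type u} [Group E] [Finite E] (θ : E →* L)
    (hsurj : Function.Surjective θ) (N : Subgroup E) [hN : N.Normal] (hcard : Nat.card N ≤ 4)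
    (hc : ∀ z ∈ θ.ker, ∀ n ∈ N, z * n = n * z) : N ≤ Subgroup.center E := by
  classical
  let φ : E →* MulAut N := MulAut.conjNormal
  have hφ : ∀ z ∈ θ.ker, φ z = 1 := by
    intro z hz
    ext w
    show ((MulAut.conjNormal z w : N) : E) = w
    rw [MulAut.conjNormal_apply]
    rw [hc z hz w w.2]; group
  let e := QuotientGroup.quotientKerEquivOfSurjective θ hsurj
  let ψ : L →* MulAut N := (QuotientGroup.lift θ.ker φ hφ).comp e.symm.toMonoidHom
  have hcardAut : Nat.card (MulAut N) < 168 := by
    have hinj : Function.Injective (MulAut.toPerm N) := by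
      intro a b hab
      ext x
      have := congrArg (fun f : Equiv.Perm N => f x) hab
      exact congrArg Subtype.val this
    have h1 := Nat.card_le_card_of_injective _ hinj
    have h2 : Nat.card (Equiv.Perm N) = (Nat.card N).factorial := Nat.card_perm
    have h3 : (Nat.card N).factorial ≤ (4 : ℕ).factorial := Nat.factorial_le hcard
    have h4 : (4 : ℕ).factorial = 24 := rfl
    omega
  have htriv := hom_trivial_of_card_lt ψ hcardAut
  intro z hz
  rw [Subgroup.mem_center_iff]
  intro g
  have h1 : ψ (θ g) = φ g := by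
    show (QuotientGroup.lift θ.ker φ hφ) (e.symm (θ g)) = φ g
    have : e.symm (θ g) = QuotientGroup.mk g := by
      rw [MulEquiv.symm_apply_eq]
      rfl
    rw [this]
    rfl
  have h2 : φ g = 1 := by rw [← h1]; exact htriv _
  have h3 : (φ g) ⟨z, hz⟩ = ⟨z, hz⟩ := by rw [h2]; rfl
  have h4 := congrArg Subtype.val h3
  rw [show ((φ g ⟨z, hz⟩ : N) : E) = g * z * g⁻¹ from MulAut.conjNormal_apply _ _] at h4
  calc g * z = g * z * g⁻¹ * g := by group
    _ = z * g := by rw [h4]

section quot

variable {G : Type u} [Group G] [Finite G]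

/-- the kernel of the induced map on `G ⧸ N` -/
theorem mem_ker_lift (θ : G →* L) (N : Subgroup G) [N.Normal] (hN : N ≤ θ.ker) (g : G) :
    (QuotientGroup.mk g : G ⧸ N) ∈ (QuotientGroup.lift N θ hN).ker ↔ g ∈ θ.ker := by
  rw [MonoidHom.mem_ker, MonoidHom.mem_ker]
  rfl

theorem lift_surjective (θ : G →* L) (hsurj : Function.Surjective θ) (N : Subgroup G) [N.Normal]
    (hN : N ≤ θ.ker) : Function.Surjective (QuotientGroup.lift N θ hN) := by
  intro l
  obtain ⟨g, hg⟩ := hsurj l
  exact ⟨QuotientGroup.mk g, hg⟩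

/-- order of the kernel of the induced map on `G ⧸ N` -/
theorem card_ker_lift (θ : G →* L) (hsurj : Function.Surjective θ) (N : Subgroup G) [N.Normal]
    (hN : N ≤ θ.ker) :
    Nat.card (QuotientGroup.lift N θ hN).ker * Nat.card N = Nat.card θ.ker := by
  have h1 := Subgroup.card_eq_card_quotient_mul_card_subgroup N
  have h2 := Subgroup.card_eq_card_quotient_mul_card_subgroup θ.ker
  have h3 := Subgroup.card_eq_card_quotient_mul_card_subgroup (QuotientGroup.lift N θ hN).ker
  have h4 : Nat.card (G ⧸ θ.ker) = Nat.card L :=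
    Nat.card_congr (QuotientGroup.quotientKerEquivOfSurjective θ hsurj).toEquiv
  have h5 : Nat.card ((G ⧸ N) ⧸ (QuotientGroup.lift N θ hN).ker) = Nat.card L :=
    Nat.card_congr (QuotientGroup.quotientKerEquivOfSurjective _
      (lift_surjective θ hsurj N hN)).toEquiv
  rw [h4] at h2
  rw [h5] at h3
  rw [h3, h2] at h1
  have hL : 0 < Nat.card L := Nat.card_pos
  have : Nat.card L * Nat.card θ.ker =
      Nat.card L * (Nat.card (QuotientGroup.lift N θ hN).ker * Nat.card N) := by
    rw [h1]; ring
  exact (Nat.eq_of_mul_eq_mul_left hL this).symm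

/-- order of the image of `H ≥ N` in `G ⧸ N` -/
theorem card_map_mk (N H : Subgroup G) [N.Normal] (hNH : N ≤ H) :
    Nat.card (H.map (QuotientGroup.mk' N)) * Nat.card N = Nat.card H := by
  have h1 := Subgroup.card_eq_card_quotient_mul_card_subgroup N
  have h2 := Subgroup.card_mul_index H
  have h3 := Subgroup.card_mul_index (H.map (QuotientGroup.mk' N))
  have h4 : (H.map (QuotientGroup.mk' N)).index = H.index := by
    rw [← Subgroup.index_comap_of_surjective _ (QuotientGroup.mk'_surjective N),
      Subgroup.comap_map_eq_self]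
    rw [QuotientGroup.ker_mk']
    exact hNH
  rw [h4] at h3
  have hpos : 0 < H.index := Nat.pos_of_ne_zero Subgroup.index_ne_zero_of_finite
  have : H.index * (Nat.card (H.map (QuotientGroup.mk' N)) * Nat.card N) =
      H.index * Nat.card H := by
    calc H.index * (Nat.card (H.map (QuotientGroup.mk' N)) * Nat.card N)
        = (Nat.card (H.map (QuotientGroup.mk' N)) * H.index) * Nat.card N := by ring
      _ = Nat.card (G ⧸ N) * Nat.card N := by rw [h3]
      _ = Nat.card G := h1.symm
      _ = H.index * Nat.card H := by rw [← h2]; ring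
  exact Nat.eq_of_mul_eq_mul_left hpos this

end quot

/-- `[g², q] = [g, [g,q]] [g,q]²` -/
theorem comm_sq_formula {X : Type*} [Group X] (g q : X) :
    (g * g) * q * (g * g)⁻¹ * q⁻¹ =
      (g * (g * q * g⁻¹ * q⁻¹) * g⁻¹ * (g * q * g⁻¹ * q⁻¹)⁻¹) * (g * q * g⁻¹ * q⁻¹) *
        (g * q * g⁻¹ * q⁻¹) := by
  group

theorem u4_order : orderOf u4 = 4 := by
  have h : orderOf u4 = 2 ^ (1 + 1) := by
    apply orderOf_eq_prime_pow
    · rw [pow_one, pow_two, u4_sq]; exact z13_ne
    · exact u4_pow4
  rw [h]; norm_num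

end Cfsg.Agent.Lib.Helper3.GH7SaS
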