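import Mathlib
import Cfsg.Agent.Lib.Helper3.GH7SaS1

/-!
# Farm GH7 (S3105), unit S★a-split (helper3), part 2: `c² ∉ U'`.
-/

set_option autoImplicit false
set_option linter.unusedSectionVars false
set_option linter.unusedVariables false

namespace Cfsg.Agent.Lib.Helper3.GH7SaS

open Cfsg.Agent.Lib.Helper2.GH7
open Cfsg.Agent.Lib.Helper3.A8Emb (sqSub)

universe u

/-- the elements of a subgroup of order 2 -/
theorem mem_of_card_two {X : Type*} [Group X] (W : Subgroup X) (hW : Nat.card W = 2) (w : X)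
    (hw : w ∈ W) (hw1 : w ≠ 1) (z : X) (hz : z ∈ W) : z = 1 ∨ z = w := by
  by_cases hz1 : z = 1
  · exact Or.inl hz1
  · right
    obtain ⟨y, _, hy⟩ := (Nat.card_eq_two_iff' (1 : W)).1 hW
    have h1 : (⟨z, hz⟩ : W) = y := hy _ (by
      intro h; exact hz1 (congrArg Subtype.val h))
    have h2 : (⟨w, hw⟩ : W) = y := hy _ (by
      intro h; exact hw1 (congrArg Subtype.val h))
    exact congrArg Subtype.val (h1.trans h2.symm)

theorem sq_mem_sqSub {X : Type*} [Group X] (Q : Subgroup X) (q : X) (hq : q ∈ Q) :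
    q * q ∈ sqSub Q := by
  unfold sqSub
  exact Subgroup.subset_closure ⟨q, hq, (pow_two q).symm⟩

variable {G : Type u} [Group G] [Finite G] {Q : Subgroup G} [Q.Normal]

/-- if `U'` is a normal subgroup of order 8 of `G` inside `Q`, then `G` centralises `Q/U'` -/
theorem comm_mem_of_card_eight (θ : G →* L) (hsurj : Function.Surjective θ) (hker : θ.ker = Q)
    (hcard : Nat.card Q = 32) (U' : Subgroup G) [U'.Normal] (hUQ : U' ≤ Q) (hU8 : Nat.card U' = 8)
    (g q : G) (hq : q ∈ Q) : g * q * g⁻¹ * q⁻¹ ∈ U' := by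
  have hU : U' ≤ θ.ker := by rw [hker]; exact hUQ
  have h4 : Nat.card (QuotientGroup.lift U' θ hU).ker = 4 := by
    have := card_ker_lift θ hsurj U' hU
    rw [hU8, hker, hcard] at this
    omega
  have hcen := ker_central_of_card_four (QuotientGroup.lift U' θ hU) (lift_surjective θ hsurj U' hU) h4
  have hq' : (QuotientGroup.mk q : G ⧸ U') ∈ (QuotientGroup.lift U' θ hU).ker := by
    rw [mem_ker_lift, hker]; exact hq
  have h1 := Subgroup.mem_center_iff.1 (hcen hq') (QuotientGroup.mk g)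
  rw [← QuotientGroup.eq_one_iff]
  have : ((g * q * g⁻¹ * q⁻¹ : G) : G ⧸ U') =
      (QuotientGroup.mk g * QuotientGroup.mk q) * (QuotientGroup.mk g)⁻¹ * (QuotientGroup.mk q)⁻¹ := rfl
  rw [this, h1]; group

/-- if `W ≤ U'` are normal of orders 2 and 8 and `Q` is abelian, then `G` centralises `U'/W` -/
theorem comm_mem_of_card_four (θ : G →* L) (hsurj : Function.Surjective θ) (hker : θ.ker = Q)
    (hcomm : ∀ a ∈ Q, ∀ b ∈ Q, a * b = b * a) (W U' : Subgroup G) [W.Normal] [U'.Normal] (hWU : W ≤ U')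
    (hUQ : U' ≤ Q) (hW2 : Nat.card W = 2) (hU8 : Nat.card U' = 8)
    (g u : G) (hu : u ∈ U') : g * u * g⁻¹ * u⁻¹ ∈ W := by
  have hW : W ≤ θ.ker := by rw [hker]; exact hWU.trans hUQ
  haveI : (U'.map (QuotientGroup.mk' W)).Normal :=
    Subgroup.Normal.map inferInstance _ (QuotientGroup.mk'_surjective W)
  have h4 : Nat.card (U'.map (QuotientGroup.mk' W)) ≤ 4 := by
    have := card_map_mk W U' hWU
    rw [hW2, hU8] at this
    omega
  have hc : ∀ z ∈ (QuotientGroup.lift W θ hW).ker, ∀ n ∈ U'.map (QuotientGroup.mk' W), z * n = n * z := by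
    intro z hz n hn
    obtain ⟨u', hu', rfl⟩ := Subgroup.mem_map.1 hn
    induction z using QuotientGroup.induction_on with
    | H z0 =>
      rw [mem_ker_lift, hker] at hz
      have := hcomm z0 hz u' (hUQ hu')
      show (QuotientGroup.mk (z0 * u') : G ⧸ W) = QuotientGroup.mk (u' * z0)
      rw [this]
  have hcen := central_of_card_le_four (QuotientGroup.lift W θ hW) (lift_surjective θ hsurj W hW)
    (U'.map (QuotientGroup.mk' W)) h4 hc
  have hu' : (QuotientGroup.mk u : G ⧸ W) ∈ U'.map (QuotientGroup.mk' W) :=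
    Subgroup.mem_map.2 ⟨u, hu, rfl⟩
  have h1 := Subgroup.mem_center_iff.1 (hcen hu') (QuotientGroup.mk g)
  rw [← QuotientGroup.eq_one_iff]
  have : ((g * u * g⁻¹ * u⁻¹ : G) : G ⧸ W) =
      (QuotientGroup.mk g * QuotientGroup.mk u) * (QuotientGroup.mk g)⁻¹ * (QuotientGroup.mk u)⁻¹ := rfl
  rw [this, h1]; group

/-- the square of a central element of order 4 does not lie in an invariant `E8` -/
theorem sq_not_mem (θ : G →* L) (hsurj : Function.Surjective θ) (hker : θ.ker = Q)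
    (hcomm : ∀ a ∈ Q, ∀ b ∈ Q, a * b = b * a) (hcard : Nat.card Q = 32) (hΦ : Nat.card (sqSub Q) = 2)
    (hfaith : ∀ g : G, (∀ a ∈ Q, g * a * g⁻¹ * a⁻¹ ∈ sqSub Q) → g ∈ Q)
    (c : G) (hcQ : c ∈ Q) (hc : c * c ≠ 1)
    (U' : Subgroup G) [U'.Normal] (hUQ : U' ≤ Q) (hU8 : Nat.card U' = 8) (hU2 : ∀ x ∈ U', x * x = 1) :
    c * c ∉ U' := by
  intro hw
  have hwW : c * c ∈ sqSub Q := sq_mem_sqSub Q c hcQ
  have hWU : sqSub Q ≤ U' := by
    intro z hz
    rcases mem_of_card_two (sqSub Q) hΦ (c * c) hwW hc z hz with h | h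
    · rw [h]; exact Subgroup.one_mem _
    · rw [h]; exact hw
  have key : ∀ g : G, g * g ∈ Q := by
    intro g
    apply hfaith
    intro a ha
    rw [comm_sq_formula]
    have hd : g * a * g⁻¹ * a⁻¹ ∈ U' := comm_mem_of_card_eight θ hsurj hker hcard U' hUQ hU8 g a ha
    have h1 := comm_mem_of_card_four θ hsurj hker hcomm (sqSub Q) U' hWU hUQ hΦ hU8 g _ hd
    rw [mul_assoc, hU2 _ hd, mul_one]
    exact h1
  obtain ⟨g, hg⟩ := hsurj y7
  have h1 : g * g ∈ θ.ker := by rw [hker]; exact key g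
  rw [MonoidHom.mem_ker, map_mul, hg] at h1
  exact y7_sq_ne h1

end Cfsg.Agent.Lib.Helper3.GH7SaS
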