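import Mathlib
import Cfsg.Agent.Lib.Helper3.GH7Om1
import Cfsg.Agent.Lib.Helper3.GH7SaS2
import Cfsg.Agent.Lib.Helper1.GH7Sb0

/-!
# Farm GH7 (S3105), unit OMEGA-SPLIT (helper3), part 2: group level set-up.
`W = sqSub Q = {1, w0}` central; points of `(Q ∖ Ω₁(Q)) / W`.
-/

set_option autoImplicit false
set_option linter.unusedSectionVars false
set_option linter.unusedVariables false

namespace Cfsg.Agent.Lib.Helper3.GH7Om

open Cfsg.Agent.Lib.Helper2.GH7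
open Cfsg.Agent.Lib.Helper3.A8Emb (sqSub)
open Cfsg.Agent.Lib.Helper1.GH7Sb (omega1)
open Cfsg.Agent.Lib.Helper3.GH7SaS

universe u

variable {G : Type u} [Group G] [Finite G] {Q : Subgroup G} [Q.Normal]

/-- an element of `Q` of order 4 -/
theorem exists_order_four (hΦ : Nat.card (sqSub Q) = 2) : ∃ c ∈ Q, c * c ≠ 1 := by
  by_contra hcon
  push Not at hcon
  have : sqSub Q = ⊥ := by
    rw [eq_bot_iff]
    unfold sqSub
    rw [Subgroup.closure_le]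
    rintro y ⟨b, hb, rfl⟩
    rw [pow_two, hcon b hb]
    exact Subgroup.one_mem _
  rw [this, Subgroup.card_bot] at hΦ
  omega

/-- `sqSub Q` of order 2 is central in `G` -/
theorem sqSub_central (hΦ : Nat.card (sqSub Q) = 2) (w : G) (hw : w ∈ sqSub Q) (g : G) :
    g * w = w * g := by
  by_cases hw1 : w = 1
  · rw [hw1, mul_one, one_mul]
  · have h1 : g * w * g⁻¹ ∈ sqSub Q := (inferInstance : (sqSub Q).Normal).conj_mem w hw g
    rcases mem_of_card_two (sqSub Q) hΦ w hw hw1 _ h1 with h | h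
    · exfalso
      apply hw1
      calc w = g⁻¹ * (g * w * g⁻¹) * g := by group
        _ = 1 := by rw [h]; group
    · calc g * w = g * w * g⁻¹ * g := by group
        _ = w * g := by rw [h]

/-- the set of points of `(Q ∖ Ω₁(Q))/W` inside `G ⧸ W` -/
def pts (Q : Subgroup G) [Q.Normal] : Set (G ⧸ sqSub Q) :=
  {p | ∃ x ∈ Q, x * x ≠ 1 ∧ p = QuotientGroup.mk x}

theorem pts_eq (hcomm : ∀ a ∈ Q, ∀ b ∈ Q, a * b = b * a) (hΦ : Nat.card (sqSub Q) = 2) :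
    pts Q = ((Q.map (QuotientGroup.mk' (sqSub Q)) : Subgroup (G ⧸ sqSub Q)) : Set (G ⧸ sqSub Q)) \
      (((omega1 Q hcomm).map (QuotientGroup.mk' (sqSub Q)) : Subgroup (G ⧸ sqSub Q)) : Set (G ⧸ sqSub Q)) := by
  ext p
  constructor
  · rintro ⟨x, hx, hx2, rfl⟩
    refine ⟨Subgroup.mem_map.2 ⟨x, hx, rfl⟩, ?_⟩
    intro h
    obtain ⟨o, ho, hox⟩ := Subgroup.mem_map.1 h
    have h1 : o⁻¹ * x ∈ sqSub Q := QuotientGroup.eq.1 hox
    have h2 : x = o * (o⁻¹ * x) := by group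
    have h3 : x ∈ omega1 Q hcomm := by
      rw [h2]
      exact Subgroup.mul_mem _ ho (Cfsg.Agent.Lib.Helper1.GH7Sb.sqSub_le_omega1 hcomm hΦ h1)
    exact hx2 h3.2
  · rintro ⟨h1, h2⟩
    obtain ⟨x, hx, rfl⟩ := Subgroup.mem_map.1 h1
    refine ⟨x, hx, ?_, rfl⟩
    intro hx2
    exact h2 (Subgroup.mem_map.2 ⟨x, ⟨hx, hx2⟩, rfl⟩)

theorem pts_ncard (hcomm : ∀ a ∈ Q, ∀ b ∈ Q, a * b = b * a) (hcard : Nat.card Q = 32)
    (hΦ : Nat.card (sqSub Q) = 2) : (pts Q).ncard = 8 := by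
  obtain ⟨c, hcQ, hc⟩ := exists_order_four hΦ
  have hO16 := Cfsg.Agent.Lib.Helper1.GH7Sb.card_omega1 hcomm hcard hΦ hcQ hc
  have hWO := Cfsg.Agent.Lib.Helper1.GH7Sb.sqSub_le_omega1 hcomm hΦ
  have hOQ := Cfsg.Agent.Lib.Helper1.GH7Sb.omega1_le (Q := Q) hcomm
  have h1 := Cfsg.Agent.Lib.Helper3.GH7SaS.card_map_mk (sqSub Q) Q (hWO.trans hOQ)
  have h2 := Cfsg.Agent.Lib.Helper3.GH7SaS.card_map_mk (sqSub Q) (omega1 Q hcomm) hWO
  rw [hΦ, hcard] at h1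
  rw [hΦ, hO16] at h2
  rw [pts_eq hcomm hΦ, Set.ncard_sdiff (Subgroup.map_mono hOQ) (Set.toFinite _)]
  have e1 : ((Q.map (QuotientGroup.mk' (sqSub Q)) : Subgroup (G ⧸ sqSub Q)) : Set (G ⧸ sqSub Q)).ncard =
      Nat.card (Q.map (QuotientGroup.mk' (sqSub Q))) := (Nat.card_coe_set_eq _).symm
  have e2 : (((omega1 Q hcomm).map (QuotientGroup.mk' (sqSub Q)) : Subgroup (G ⧸ sqSub Q)) :
      Set (G ⧸ sqSub Q)).ncard = Nat.card ((omega1 Q hcomm).map (QuotientGroup.mk' (sqSub Q))) :=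
    (Nat.card_coe_set_eq _).symm
  rw [e1, e2]
  omega

theorem pts_conj (e p : G ⧸ sqSub Q) (hp : p ∈ pts Q) : e * p * e⁻¹ ∈ pts Q := by
  obtain ⟨x, hx, hx2, rfl⟩ := hp
  induction e using QuotientGroup.induction_on with
  | H g =>
    refine ⟨g * x * g⁻¹, ‹Q.Normal›.conj_mem x hx g, ?_, rfl⟩
    intro h
    apply hx2
    have : x * x = g⁻¹ * ((g * x * g⁻¹) * (g * x * g⁻¹)) * g := by group
    rw [this, h]; group

end Cfsg.Agent.Lib.Helper3.GH7Om
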