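import Mathlib
import Cfsg.Agent.Lib.Helper3.GH7Om2

/-!
# Farm GH7 (S3105), unit OMEGA-SPLIT (helper3), part 3: `omega_split` from (N3).
-/

set_option autoImplicit false
set_option linter.unusedSectionVars false
set_option linter.unusedVariables false

namespace Cfsg.Agent.Lib.Helper3.GH7Om

open Cfsg.Agent.Lib.Helper2.GH7
open Cfsg.Agent.Lib.Helper3.A8Emb (sqSub)
open Cfsg.Agent.Lib.Helper1.GH7Sb (omega1)
open Cfsg.Agent.Lib.Helper3.GH7SaS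

universe u

variable {G : Type u} [Group G] [Finite G] {Q : Subgroup G} [Q.Normal]

/-- (B): a `G`-fixed point of `(Q ∖ Ω₁(Q))/W` is an element of order 4 central in `G` -/
theorem central_of_fixed (θ : G →* L) (hsurj : Function.Surjective θ) (hker : θ.ker = Q)
    (hcomm : ∀ a ∈ Q, ∀ b ∈ Q, a * b = b * a) (hΦ : Nat.card (sqSub Q) = 2)
    (x : G) (hx : x ∈ Q) (hfix : ∀ g : G, x⁻¹ * (g * x * g⁻¹) ∈ sqSub Q) : ∀ g : G, g * x = x * g := by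
  obtain ⟨c, hcQ, hc⟩ := exists_order_four hΦ
  have hwW : c * c ∈ sqSub Q := sq_mem_sqSub Q c hcQ
  apply central_of_small_class θ hsurj x (fun z hz => by rw [hker] at hz; exact hcomm z hz x hx)
    ({x, x * (c * c)} : Set G)
  · exact (Set.ncard_insert_le _ _).trans (by rw [Set.ncard_singleton]; norm_num)
  · intro g
    rcases mem_of_card_two (sqSub Q) hΦ (c * c) hwW hc _ (hfix g) with h | h
    · left
      calc g * x * g⁻¹ = x * (x⁻¹ * (g * x * g⁻¹)) := by group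
        _ = x := by rw [h, mul_one]
    · right
      rw [Set.mem_singleton_iff]
      calc g * x * g⁻¹ = x * (x⁻¹ * (g * x * g⁻¹)) := by group
        _ = x * (c * c) := by rw [h]

/-- (A): with (N3), every lift of an involution fixes a point of `(Q ∖ Ω₁(Q))/W` -/
theorem exists_fixed_of_N3 (θ : G →* L) (hker : θ.ker = Q)
    (hcomm : ∀ a ∈ Q, ∀ b ∈ Q, a * b = b * a) (hΦ : Nat.card (sqSub Q) = 2)
    (hN3 : ∀ k : G, θ k ≠ 1 → θ k * θ k = 1 → ∀ o ∈ omega1 Q hcomm, k * o * k⁻¹ = o →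
      ∃ o' ∈ omega1 Q hcomm, o * (o' * (k * o' * k⁻¹)) ∈ sqSub Q)
    (k : G) (hk1 : θ k ≠ 1) (hk2 : θ k * θ k = 1) :
    ∃ x ∈ Q, x * x ≠ 1 ∧ x⁻¹ * (k * x * k⁻¹) ∈ sqSub Q := by
  obtain ⟨c, hcQ, hc⟩ := exists_order_four hΦ
  have hwW : c * c ∈ sqSub Q := sq_mem_sqSub Q c hcQ
  have hcen := sqSub_central hΦ (c * c) hwW
  have hkkQ : k * k ∈ Q := by rw [← hker, MonoidHom.mem_ker, map_mul, hk2]
  have hdQ : k * c * k⁻¹ ∈ Q := ‹Q.Normal›.conj_mem c hcQ k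
  have hciQ : c⁻¹ ∈ Q := Q.inv_mem hcQ
  have hoQ : c⁻¹ * (k * c * k⁻¹) ∈ Q := Q.mul_mem hciQ hdQ
  -- `o² = 1`
  have hoo : (c⁻¹ * (k * c * k⁻¹)) * (c⁻¹ * (k * c * k⁻¹)) = 1 := by
    have h1 := hcomm (k * c * k⁻¹) hdQ c⁻¹ hciQ
    calc (c⁻¹ * (k * c * k⁻¹)) * (c⁻¹ * (k * c * k⁻¹))
        = c⁻¹ * ((k * c * k⁻¹) * c⁻¹) * (k * c * k⁻¹) := by group
      _ = c⁻¹ * (c⁻¹ * (k * c * k⁻¹)) * (k * c * k⁻¹) := by rw [h1]
      _ = (c * c)⁻¹ * (k * (c * c) * k⁻¹) := by group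
      _ = (c * c)⁻¹ * ((c * c) * k * k⁻¹) := by rw [hcen k]
      _ = 1 := by group
  -- `k` fixes `o`
  have hfix : k * (c⁻¹ * (k * c * k⁻¹)) * k⁻¹ = c⁻¹ * (k * c * k⁻¹) := by
    have h1 : (k * k) * c = c * (k * k) := hcomm _ hkkQ c hcQ
    have h2 : k * (c⁻¹ * (k * c * k⁻¹)) * k⁻¹ = (k * c * k⁻¹)⁻¹ * ((k * k) * c * (k * k)⁻¹) := by group
    have h3 : (k * k) * c * (k * k)⁻¹ = c := by rw [h1]; group
    rw [h2, h3]
    -- `d⁻¹ c = (c⁻¹ d)⁻¹ = c⁻¹ d`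
    have h4 : (k * c * k⁻¹)⁻¹ * c = (c⁻¹ * (k * c * k⁻¹))⁻¹ := by group
    rw [h4]
    exact inv_eq_of_mul_eq_one_right hoo
  obtain ⟨o', ho', hmem⟩ := hN3 k hk1 hk2 _ ⟨hoQ, hoo⟩ hfix
  have ho'Q : o' ∈ Q := ho'.1
  have heQ : k * o' * k⁻¹ ∈ Q := ‹Q.Normal›.conj_mem o' ho'Q k
  have ho'i : o'⁻¹ = o' := inv_eq_of_mul_eq_one_right ho'.2
  refine ⟨c * o', Q.mul_mem hcQ ho'Q, ?_, ?_⟩
  · have h1 := hcomm o' ho'Q c hcQ
    have : (c * o') * (c * o') = (c * c) * (o' * o') := by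
      calc (c * o') * (c * o') = c * (o' * c) * o' := by group
        _ = c * (c * o') * o' := by rw [h1]
        _ = (c * c) * (o' * o') := by group
    rw [this, ho'.2, mul_one]
    exact hc
  · have h1 : (c * o')⁻¹ * (k * (c * o') * k⁻¹) =
        o'⁻¹ * ((c⁻¹ * (k * c * k⁻¹)) * (k * o' * k⁻¹)) := by group
    have h2 := hcomm o' ho'Q ((c⁻¹ * (k * c * k⁻¹)) * (k * o' * k⁻¹)) (Q.mul_mem hoQ heQ)
    rw [h1, ho'i, h2]
    have h3 := hcomm (k * o' * k⁻¹) heQ o' ho'Q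
    have : (c⁻¹ * (k * c * k⁻¹)) * (k * o' * k⁻¹) * o' =
        (c⁻¹ * (k * c * k⁻¹)) * (o' * (k * o' * k⁻¹)) := by
      rw [mul_assoc, h3]
    rw [this]
    exact hmem

/-- **OMEGA-SPLIT from (N3)** -/
theorem omega_split_of (θ : G →* L) (hsurj : Function.Surjective θ) (hker : θ.ker = Q)
    (hcomm : ∀ a ∈ Q, ∀ b ∈ Q, a * b = b * a) (hcard : Nat.card Q = 32) (hΦ : Nat.card (sqSub Q) = 2)
    (hfaith : ∀ g : G, (∀ a ∈ Q, g * a * g⁻¹ * a⁻¹ ∈ sqSub Q) → g ∈ Q)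
    (hS : ∀ c ∈ Q, (∀ g : G, g * c = c * g) → c * c = 1)
    (hN3 : (¬ ∃ U' : Subgroup G, U'.Normal ∧ U' ≤ Q ∧ Nat.card U' = 8 ∧ ∀ x ∈ U', x * x = 1) →
      ∀ k : G, θ k ≠ 1 → θ k * θ k = 1 → ∀ o ∈ omega1 Q hcomm, k * o * k⁻¹ = o →
        ∃ o' ∈ omega1 Q hcomm, o * (o' * (k * o' * k⁻¹)) ∈ sqSub Q) :
    ∃ R : Subgroup G, R.Normal ∧ R ≤ Q ∧ Nat.card R = 8 ∧ (∀ r ∈ R, r * r = 1) ∧ R ⊓ sqSub Q = ⊥ := by
  by_contra hno
  obtain ⟨c, hcQ, hc⟩ := exists_order_four hΦ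
  have hwW : c * c ∈ sqSub Q := sq_mem_sqSub Q c hcQ
  have hns : ¬ ∃ U' : Subgroup G, U'.Normal ∧ U' ≤ Q ∧ Nat.card U' = 8 ∧ ∀ x ∈ U', x * x = 1 := by
    rintro ⟨U', hUn, hUQ, hU8, hU2⟩
    have := hUn
    apply hno
    refine ⟨U', hUn, hUQ, hU8, hU2, ?_⟩
    rw [eq_bot_iff]
    intro z hz
    obtain ⟨hz1, hz2⟩ := Subgroup.mem_inf.1 hz
    rw [Subgroup.mem_bot]
    rcases mem_of_card_two (sqSub Q) hΦ (c * c) hwW hc z hz2 with h | h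
    · exact h
    · exfalso
      rw [h] at hz1
      exact sq_not_mem θ hsurj hker hcomm hcard hΦ hfaith c hcQ hc U' hUQ hU8 hU2 hz1
  have hN3' := hN3 hns
  -- a lift of an involution and a point fixed by it
  obtain ⟨k, hk⟩ := hsurj a12
  have hk1 : θ k ≠ 1 := by rw [hk]; decide
  have hk2 : θ k * θ k = 1 := by rw [hk]; exact a12_sq
  obtain ⟨x1, hx1Q, hx1sq, hx1fix⟩ := exists_fixed_of_N3 θ hker hcomm hΦ hN3' k hk1 hk2
  -- the fixed point lemma in `G ⧸ W`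
  have hW : sqSub Q ≤ θ.ker := by rw [hker]; exact Cfsg.Agent.Lib.Helper3.A8Emb.sqSub_le Q
  have hsurj' := lift_surjective θ hsurj (sqSub Q) hW
  have hK : ∀ z ∈ (QuotientGroup.lift (sqSub Q) θ hW).ker,
      z * (QuotientGroup.mk x1 : G ⧸ sqSub Q) = QuotientGroup.mk x1 * z := by
    intro z hz
    induction z using QuotientGroup.induction_on with
    | H z0 =>
      rw [mem_ker_lift, hker] at hz
      show (QuotientGroup.mk (z0 * x1) : G ⧸ sqSub Q) = QuotientGroup.mk (x1 * z0)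
      rw [hcomm z0 hz x1 hx1Q]
  have hκp : (QuotientGroup.mk k : G ⧸ sqSub Q) * QuotientGroup.mk x1 =
      QuotientGroup.mk x1 * QuotientGroup.mk k := by
    have h1 : (QuotientGroup.mk (x1⁻¹ * (k * x1 * k⁻¹)) : G ⧸ sqSub Q) = 1 :=
      (QuotientGroup.eq_one_iff _).2 hx1fix
    have h2 : (QuotientGroup.mk k : G ⧸ sqSub Q) * QuotientGroup.mk x1 =
        QuotientGroup.mk x1 * QuotientGroup.mk (x1⁻¹ * (k * x1 * k⁻¹)) * QuotientGroup.mk k := by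
      rw [← QuotientGroup.mk_mul, ← QuotientGroup.mk_mul, ← QuotientGroup.mk_mul]
      congr 1
      group
    rw [h2, h1, mul_one]
  obtain ⟨p', hp', hp'c⟩ := exists_central (QuotientGroup.lift (sqSub Q) θ hW) hsurj' (pts Q)
    (pts_ncard hcomm hcard hΦ) (fun e x hx => pts_conj e x hx) (QuotientGroup.mk x1)
    ⟨x1, hx1Q, hx1sq, rfl⟩ hK (QuotientGroup.mk k) hk1 hk2 hκp
  obtain ⟨x', hx'Q, hx'sq, rfl⟩ := hp'
  have hfix' : ∀ g : G, x'⁻¹ * (g * x' * g⁻¹) ∈ sqSub Q := by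
    intro g
    have h1 := hp'c (QuotientGroup.mk g)
    rw [← QuotientGroup.eq_one_iff]
    have : (QuotientGroup.mk (x'⁻¹ * (g * x' * g⁻¹)) : G ⧸ sqSub Q) =
        (QuotientGroup.mk x')⁻¹ * ((QuotientGroup.mk g * QuotientGroup.mk x') * (QuotientGroup.mk g)⁻¹) := rfl
    rw [this, h1]; group
  have hcen := central_of_fixed θ hsurj hker hcomm hΦ x' hx'Q hfix'
  exact hx'sq (hS x' hx'Q hcen)

end Cfsg.Agent.Lib.Helper3.GH7Om
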