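import Mathlib
import Cfsg.Agent.Lib.Helper3.GH7Om3
import Cfsg.Agent.Lib.Helper1.GH7Sb4

/-!
# Farm GH7 (S3105), unit OMEGA-SPLIT (helper3), part 4: (N3) from (N1) and coordinates.

(N1) in helper9's form `complement_of_fixed`: an odd element of `Stab(v)` commuting with a lift of `v` gives an invariant complement.
(N3): in the nonsplit case, for `k` over an involution, `C_{O1}(k)` maps into `[Ū,k]`.
-/

set_option autoImplicit false
set_option linter.unusedSectionVars false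
set_option linter.unusedVariables false

namespace Cfsg.Agent.Lib.Helper3.GH7Om

open Cfsg.Agent.Lib.Helper2.GH7
open Cfsg.Agent.Lib.Helper3.A8Emb (sqSub)
open Cfsg.Agent.Lib.Helper1.GH7Sb (omega1)
open Cfsg.Agent.Lib.Helper3.GH7SaS

universe u

/-- an involution `M` of `L` and a fixed vector `v`: either `v ∈ (1+M)V` or `M` is odd in `Stab(v)` -/
def OddAt (M : L) (v : Fin 3 → ZMod 2) : Prop :=
  Matrix.mulVec (M : Matrix (Fin 3) (Fin 3) (ZMod 2)) v = v ∧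
  (∃ x, Matrix.mulVec (M : Matrix (Fin 3) (Fin 3) (ZMod 2)) x + x ≠ 0 ∧
    Matrix.mulVec (M : Matrix (Fin 3) (Fin 3) (ZMod 2)) x + x ≠ v) ∧
  (∀ x, Matrix.mulVec (M : Matrix (Fin 3) (Fin 3) (ZMod 2))
      (Matrix.mulVec (M : Matrix (Fin 3) (Fin 3) (ZMod 2)) x) + x = 0 ∨
    Matrix.mulVec (M : Matrix (Fin 3) (Fin 3) (ZMod 2))
      (Matrix.mulVec (M : Matrix (Fin 3) (Fin 3) (ZMod 2)) x) + x = v)

instance (M : L) (v : Fin 3 → ZMod 2) : Decidable (OddAt M v) := by unfold OddAt; infer_instance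

set_option maxRecDepth 100000 in
theorem invol_dich : ∀ M : L, M ≠ 1 → M * M = 1 → ∀ v : Fin 3 → ZMod 2,
    Matrix.mulVec (M : Matrix (Fin 3) (Fin 3) (ZMod 2)) v = v →
    (∃ x, Matrix.mulVec (M : Matrix (Fin 3) (Fin 3) (ZMod 2)) x + x = v) ∨ (v ≠ 0 ∧ OddAt M v) := by
  decide +kernel

theorem add_self_vec (v : Fin 3 → ZMod 2) : v + v = 0 := by
  funext i
  have : ∀ a : ZMod 2, a + a = 0 := by decide
  exact this _

variable {G : Type u} [Group G] [Finite G] {Q : Subgroup G} [Q.Normal]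

/-- **(N3) from (N1)** -/
theorem N3_of (θ : G →* L) (hsurj : Function.Surjective θ) (hker : θ.ker = Q)
    (hcomm : ∀ a ∈ Q, ∀ b ∈ Q, a * b = b * a) (hcard : Nat.card Q = 32) (hΦ : Nat.card (sqSub Q) = 2)
    (hfaith : ∀ g : G, (∀ a ∈ Q, g * a * g⁻¹ * a⁻¹ ∈ sqSub Q) → g ∈ Q)
    (hN1 : ∀ (α : L ≃* L) (φ : G → (Fin 3 → ZMod 2)),
      (∀ a ∈ omega1 Q hcomm, ∀ b ∈ omega1 Q hcomm, φ (a * b) = φ a + φ b) →
      (∀ v : Fin 3 → ZMod 2, ∃ o ∈ omega1 Q hcomm, φ o = v) →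
      (∀ o ∈ omega1 Q hcomm, φ o = 0 ↔ o ∈ sqSub Q) →
      (∀ g : G, ∀ o ∈ omega1 Q hcomm,
        φ (g * o * g⁻¹) = Matrix.mulVec (α (θ g) : Matrix (Fin 3) (Fin 3) (ZMod 2)) (φ o)) →
      ∀ (g₀ o₀ : G), o₀ ∈ omega1 Q hcomm → φ o₀ ≠ 0 → OddAt (α (θ g₀)) (φ o₀) → g₀ * o₀ = o₀ * g₀ →
        ∃ U' : Subgroup G, U'.Normal ∧ U' ≤ Q ∧ Nat.card U' = 8 ∧ ∀ x ∈ U', x * x = 1) :
    (¬ ∃ U' : Subgroup G, U'.Normal ∧ U' ≤ Q ∧ Nat.card U' = 8 ∧ ∀ x ∈ U', x * x = 1) →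
      ∀ k : G, θ k ≠ 1 → θ k * θ k = 1 → ∀ o ∈ omega1 Q hcomm, k * o * k⁻¹ = o →
        ∃ o' ∈ omega1 Q hcomm, o * (o' * (k * o' * k⁻¹)) ∈ sqSub Q := by
  intro hns k hk1 hk2 o ho hfix
  obtain ⟨α, φ, hadd, hsurjφ, hkerφ, hequiv⟩ :=
    Cfsg.Agent.Lib.Helper1.GH7Sb.exists_coords' θ hsurj hker hcomm hcard hΦ hfaith
  have hOn : (omega1 Q hcomm).Normal := Cfsg.Agent.Lib.Helper1.GH7Sb.omega1_normal hcomm
  have hM1 : α (θ k) ≠ 1 := by
    intro h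
    apply hk1
    have := congrArg α.symm h
    rwa [MulEquiv.symm_apply_apply, map_one] at this
  have hM2 : α (θ k) * α (θ k) = 1 := by rw [← map_mul, hk2, map_one]
  have hfixv : Matrix.mulVec (α (θ k) : Matrix (Fin 3) (Fin 3) (ZMod 2)) (φ o) = φ o := by
    rw [← hequiv k o ho, hfix]
  rcases invol_dich (α (θ k)) hM1 hM2 (φ o) hfixv with ⟨x, hx⟩ | ⟨hv, hodd⟩
  · obtain ⟨o', ho', hφo'⟩ := hsurjφ x
    have hco' : k * o' * k⁻¹ ∈ omega1 Q hcomm := hOn.conj_mem o' ho' k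
    refine ⟨o', ho', ?_⟩
    rw [← hkerφ _ (Subgroup.mul_mem _ ho (Subgroup.mul_mem _ ho' hco')),
      hadd o ho _ (Subgroup.mul_mem _ ho' hco'), hadd o' ho' _ hco', hequiv k o' ho', hφo',
      add_comm x, hx]
    exact add_self_vec _
  · exfalso
    apply hns
    apply hN1 α φ hadd hsurjφ hkerφ hequiv k o ho hv hodd
    calc k * o = k * o * k⁻¹ * k := by group
      _ = o * k := by rw [hfix]

end Cfsg.Agent.Lib.Helper3.GH7Om
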