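import Mathlib

/-!
# Hall–Higman critical case, part 3: the norm element in characteristic `p`.
-/

namespace Cfsg.Agent.Lib.Helper3.HHB3

open Polynomial

theorem geom_sum_eq_pow (K : Type*) [Field K] (p : ℕ) [Fact p.Prime] [CharP K p] (n : ℕ) :
    (∑ i ∈ Finset.range (p ^ n), (X : K[X]) ^ i) = (X - 1) ^ (p ^ n - 1) := by
  have hpos : 0 < p ^ n := pow_pos (Fact.out : p.Prime).pos n
  have h1 : (∑ i ∈ Finset.range (p ^ n), (X : K[X]) ^ i) * (X - 1) = X ^ (p ^ n) - 1 :=
    geom_sum_mul X (p ^ n)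
  have h2 : ((X : K[X]) - 1) ^ (p ^ n - 1) * (X - 1) = X ^ (p ^ n) - 1 := by
    rw [← pow_succ, Nat.sub_add_cancel hpos, sub_pow_char_pow, one_pow]
  have hne : (X : K[X]) - 1 ≠ 0 := by
    have := Polynomial.X_sub_C_ne_zero (1 : K)
    simpa using this
  exact mul_right_cancel₀ hne (h1.trans h2.symm)

theorem alg_geom_sum_eq_pow {K : Type*} [Field K] (p : ℕ) [Fact p.Prime] [CharP K p] (n : ℕ)
    {A : Type*} [Ring A] [Algebra K A] (a : A) :
    (∑ i ∈ Finset.range (p ^ n), a ^ i) = (a - 1) ^ (p ^ n - 1) := by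
  have h := congrArg (Polynomial.aeval a) (geom_sum_eq_pow K p n)
  simpa using h

theorem alg_sub_one_pow {K : Type*} [Field K] (p : ℕ) [Fact p.Prime] [CharP K p] (n : ℕ)
    {A : Type*} [Ring A] [Algebra K A] (a : A) :
    (a - 1) ^ (p ^ n) = a ^ (p ^ n) - 1 := by
  have h0 : ((X : K[X]) - 1) ^ (p ^ n) = X ^ (p ^ n) - 1 := by
    rw [sub_pow_char_pow, one_pow]
  have h := congrArg (Polynomial.aeval a) h0
  simpa using h

theorem left_div_aux {A : Type*} [Ring A] (α β : A) (hc : Commute α β) (s P : ℕ)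
    (hP0 : 0 < P) (hs : (β - 1) ^ s = 0) (hsP : s < P) :
    ∃ Z : A, (α * β - 1) ^ (P - 1) = (α - 1) ^ (P - s) * Z := by
  have hdecomp : α * β - 1 = (α - 1) + (β - 1) * α := by
    rw [sub_mul, one_mul, ← hc.eq]; abel
  have hcomm2 : Commute (β - 1) α := hc.symm.sub_left (Commute.one_left α)
  have hcomm : Commute (α - 1) ((β - 1) * α) := by
    have h1 : Commute (α - 1) (β - 1) :=
      (hc.sub_left (Commute.one_left β)).sub_right (Commute.one_right _)
    have h2 : Commute (α - 1) α := (Commute.refl α).sub_left (Commute.one_left α)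
    exact h1.mul_right h2
  rw [hdecomp, hcomm.add_pow, Nat.sub_add_cancel hP0]
  have hterm : ∀ m ∈ Finset.range P,
      (α - 1) ^ m * ((β - 1) * α) ^ (P - 1 - m) * ((P - 1).choose m : A)
      = (α - 1) ^ (P - s) * (if P - s ≤ m then
          (α - 1) ^ (m - (P - s)) * ((β - 1) * α) ^ (P - 1 - m) * ((P - 1).choose m : A)
          else 0) := by
    intro m hm
    have hm' := Finset.mem_range.mp hm
    split_ifs with h
    · rw [← mul_assoc, ← mul_assoc, ← pow_add, Nat.add_sub_cancel' h]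
    · have hk : s ≤ P - 1 - m := by omega
      rw [hcomm2.mul_pow, pow_eq_zero_of_le hk hs]
      simp
  rw [Finset.sum_congr rfl hterm, ← Finset.mul_sum]
  exact ⟨_, rfl⟩

/-- Left divisibility of the norm element. -/
theorem geom_sum_left_div {K : Type*} [Field K] (p : ℕ) [Fact p.Prime] [CharP K p] (n : ℕ)
    {A : Type*} [Ring A] [Algebra K A]
    (α β : A) (hc : Commute α β) (s : ℕ) (hs : (β - 1) ^ s = 0) (hsP : s < p ^ n) :
    ∃ Z : A, (∑ i ∈ Finset.range (p ^ n), (α * β) ^ i) = (α - 1) ^ (p ^ n - s) * Z := by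
  have hpos : 0 < p ^ n := pow_pos (Fact.out : p.Prime).pos n
  rw [alg_geom_sum_eq_pow (K := K) p n (α * β)]
  exact left_div_aux α β hc s (p ^ n) hpos hs hsP

end Cfsg.Agent.Lib.Helper3.HHB3
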