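import Cfsg.Agent.Lib.Helper3.HHC9

/-!
# Hall–Higman Theorem B for a linear group over an arbitrary field of characteristic `p`
-/

namespace Cfsg.Agent.Lib.Helper3.HHC10

open Module Cfsg Cfsg.Agent.Lib.Helper3.HHC9

theorem theoremB_concrete {F : Type*} [Field F] {p : ℕ} [Fact p.Prime] [CharP F p] {V : Type*}
    [AddCommGroup V] [Module F V] [FiniteDimensional F V] (H : Subgroup (V ≃ₗ[F] V)) [Finite H]
    (hsol : Cfsg.IsPSolvable p H) (hOp : Cfsg.pCore p H = ⊥) (x : V ≃ₗ[F] V) (hx : x ∈ H)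
    (n : ℕ) (hn : orderOf x = p ^ (n + 1)) :
    ((x : Module.End F V) - 1) ^ (p ^ (n + 1) - 1) ≠ 0 ∨ ∃ q n₀ m : ℕ, q.Prime ∧ 1 ≤ n₀ ∧
      n₀ ≤ n + 1 ∧ 1 ≤ m ∧ p ^ n₀ - 1 = q ^ m ∧ (∀ S : Sylow q H, ¬ IsMulCommutative S) ∧
      ((x : Module.End F V) - 1) ^ (p ^ (n + 1 - n₀) * (p ^ n₀ - 1) - 1) ≠ 0 := by
  haveI : CharP (AlgebraicClosure F) p := AlgebraicClosure.instCharP F
  obtain ⟨ρ, hρ⟩ : ∃ ρ : Representation (AlgebraicClosure F) H
      (Fin (finrank F V) → AlgebraicClosure F),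
      ρ = (bcHom F (AlgebraicClosure F) V).toMonoidHom.comp
        ((LinearEquiv.automorphismGroup.toLinearMapMonoidHom (R := F) (M := V)).comp
          H.subtype) := ⟨_, rfl⟩
  have hρa : ∀ g : H, ρ g = bcHom F (AlgebraicClosure F) V
      ((g : V ≃ₗ[F] V) : Module.End F V) := by
    intro g; rw [hρ]; rfl
  have hinj : Function.Injective ρ := by
    intro a b hab
    rw [hρa, hρa] at hab
    have := bcHom_injective F (AlgebraicClosure F) V hab
    exact Subtype.ext (LinearEquiv.toLinearMap_injective this)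
  have hord : orderOf (⟨x, hx⟩ : H) = p ^ (n + 1) := by
    rw [Subgroup.orderOf_mk]; exact hn
  have key := theoremB_abstract p hsol hOp ρ hinj ⟨x, hx⟩ n hord
  have htr : ∀ k : ℕ, (ρ ⟨x, hx⟩ - 1) ^ k ≠ 0 → ((x : Module.End F V) - 1) ^ k ≠ 0 := by
    intro k hk h0
    apply hk
    rw [hρa]
    show (bcHom F (AlgebraicClosure F) V ((x : Module.End F V)) - 1) ^ k = 0
    rw [← map_one (bcHom F (AlgebraicClosure F) V), ← map_sub, ← map_pow, h0, map_zero]
  rcases key with h | ⟨q, n₀, m, h1, h2, h3, h4, h5, h6, h7⟩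
  · exact Or.inl (htr _ h)
  · exact Or.inr ⟨q, n₀, m, h1, h2, h3, h4, h5, h6, htr _ h7⟩

end Cfsg.Agent.Lib.Helper3.HHC10
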