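import Mathlib
import Cfsg.Agent.Lib.Helper2.ZS10
import Cfsg.Agent.Lib.Helper6.BLGroup
import Cfsg.Agent.Lib.Helper8.PComp4
import Cfsg.Agent.Lib.Helper1.PLengthOne
import Cfsg.Agent.Lib.Helper1.FittingCentralizer

/-!
# Glauberman's Z*-theorem for `2`-elements

If a `2`-element `b` of a Sylow `2`-subgroup `S` of a finite group is isolated in `S`
(its only conjugate inside `S` is `b` itself), then `b` is central modulo `O(G)`.
Deduced from the involution case (`Helper2.ZS.zstar`) by induction on the order of `b`.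
-/

set_option autoImplicit false
open Cfsg

namespace Cfsg.Agent.Lib.Helper3.ZStarTwo

universe u

/-- A `2`-element of a finite group is conjugate into any given Sylow `2`-subgroup. -/
theorem exists_conj_mem_sylow {H : Type*} [Group H] [Finite H] (Q : Sylow 2 H) (x : H) (k : ℕ)
    (hx : x ^ (2 ^ k) = 1) : ∃ t : H, t * x * t⁻¹ ∈ (Q : Subgroup H) := by
  haveI : Fact (Nat.Prime 2) := ⟨Nat.prime_two⟩
  have hord : orderOf x ∣ 2 ^ k := orderOf_dvd_of_pow_eq_one hx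
  obtain ⟨m, -, hm⟩ := (Nat.dvd_prime_pow Nat.prime_two).mp hord
  have hpg : IsPGroup 2 (Subgroup.zpowers x) :=
    IsPGroup.of_card (n := m) (by rw [Nat.card_zpowers, hm])
  obtain ⟨Q', hQ'⟩ := hpg.exists_le_sylow
  obtain ⟨t, ht⟩ := MulAction.exists_smul_eq H Q' Q
  have hmem : ∀ y : H, y ∈ (Q : Subgroup H) ↔ t⁻¹ * y * t ∈ (Q' : Subgroup H) := by
    intro y
    rw [← ht, Sylow.smul_def, Sylow.pointwise_smul_def,
      Subgroup.mem_pointwise_smul_iff_inv_smul_mem]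
    simp [MulAut.smul_def]
  refine ⟨t, ?_⟩
  rw [hmem]
  have e : t⁻¹ * (t * x * t⁻¹) * t = x := by group
  rw [e]
  exact hQ' (Subgroup.mem_zpowers x)

/-- index of a normal subgroup in a preimage under the quotient map. -/
theorem relIndex_comap_mk' {Γ : Type*} [Group Γ] (N : Subgroup Γ) [N.Normal]
    (K : Subgroup (Γ ⧸ N)) :
    N.relIndex (K.comap (QuotientGroup.mk' N)) = Nat.card K := by
  have h1 := Subgroup.relIndex_comap (⊥ : Subgroup (Γ ⧸ N)) (QuotientGroup.mk' N)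
    (K.comap (QuotientGroup.mk' N))
  rw [MonoidHom.comap_bot, QuotientGroup.ker_mk',
    Subgroup.map_comap_eq_self_of_surjective (QuotientGroup.mk'_surjective N),
    Subgroup.relIndex_bot_left] at h1
  exact h1

variable {Γ : Type u} [Group Γ] [Finite Γ]

/-- Sylow conjugation inside a subgroup `T` containing the Sylow subgroup `S`. -/
theorem exists_conj_mem_of_le (S : Sylow 2 Γ) (T : Subgroup Γ) (hST : (S : Subgroup Γ) ≤ T)
    (x : Γ) (hxT : x ∈ T) (k : ℕ) (hx : x ^ (2 ^ k) = 1) :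
    ∃ t ∈ T, t * x * t⁻¹ ∈ (S : Subgroup Γ) := by
  have hx' : (⟨x, hxT⟩ : ↥T) ^ (2 ^ k) = 1 := by
    apply Subtype.ext
    simpa using hx
  obtain ⟨t, ht⟩ := exists_conj_mem_sylow (S.subtype hST) ⟨x, hxT⟩ k hx'
  refine ⟨(t : Γ), t.2, ?_⟩
  rw [Sylow.coe_subtype, Subgroup.mem_subgroupOf] at ht
  simpa using ht

/-- Powers of an isolated `2`-element are isolated. -/
theorem isolated_pow (S : Sylow 2 Γ) (b : Γ) (hbS : b ∈ (S : Subgroup Γ)) (n : ℕ)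
    (hb : b ^ (2 ^ n) = 1)
    (hiso : ∀ g : Γ, g * b * g⁻¹ ∈ (S : Subgroup Γ) → g * b * g⁻¹ = b) (k : ℕ) (h : Γ)
    (hh : h * b ^ k * h⁻¹ ∈ (S : Subgroup Γ)) : h * b ^ k * h⁻¹ = b ^ k := by
  haveI : Fact (Nat.Prime 2) := ⟨Nat.prime_two⟩
  obtain ⟨y, hy⟩ : ∃ y, y = h * b ^ k * h⁻¹ := ⟨_, rfl⟩
  rw [← hy] at hh ⊢
  have hbZ : ∀ s ∈ (S : Subgroup Γ), s * b = b * s := by
    intro s hs
    have h1 := hiso s (Subgroup.mul_mem _ (Subgroup.mul_mem _ hs hbS) (Subgroup.inv_mem _ hs))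
    calc s * b = (s * b * s⁻¹) * s := by group
      _ = b * s := by rw [h1]
  obtain ⟨C, hC⟩ : ∃ C, C = Subgroup.centralizer ({y} : Set Γ) := ⟨_, rfl⟩
  have hbC : b ∈ C := by
    rw [hC, Subgroup.mem_centralizer_iff]
    intro z hz
    rw [Set.mem_singleton_iff] at hz
    rw [hz]; exact hbZ y hh
  have hcC : h * b * h⁻¹ ∈ C := by
    rw [hC, Subgroup.mem_centralizer_iff]
    intro z hz
    rw [Set.mem_singleton_iff] at hz
    rw [hz, hy]
    have e := pow_mul_comm' b k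
    calc h * b ^ k * h⁻¹ * (h * b * h⁻¹) = h * (b ^ k * b) * h⁻¹ := by group
      _ = h * (b * b ^ k) * h⁻¹ := by rw [e]
      _ = h * b * h⁻¹ * (h * b ^ k * h⁻¹) := by group
  have hb' : (⟨b, hbC⟩ : ↥C) ^ (2 ^ n) = 1 := by
    apply Subtype.ext; simpa using hb
  have hpg : IsPGroup 2 (Subgroup.zpowers (⟨b, hbC⟩ : ↥C)) := by
    have hord : orderOf (⟨b, hbC⟩ : ↥C) ∣ 2 ^ n := orderOf_dvd_of_pow_eq_one hb'
    obtain ⟨m, -, hm⟩ := (Nat.dvd_prime_pow Nat.prime_two).mp hord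
    exact IsPGroup.of_card (n := m) (by rw [Nat.card_zpowers, hm])
  obtain ⟨T₁, hT₁⟩ := hpg.exists_le_sylow
  have hc' : (⟨h * b * h⁻¹, hcC⟩ : ↥C) ^ (2 ^ n) = 1 := by
    apply Subtype.ext
    have : (h * b * h⁻¹) ^ (2 ^ n) = 1 := by rw [conj_pow, hb]; group
    simpa using this
  obtain ⟨d, hd⟩ := exists_conj_mem_sylow T₁ ⟨h * b * h⁻¹, hcC⟩ n hc'
  have hT₁pg : IsPGroup 2 ((T₁ : Subgroup ↥C).map C.subtype) := T₁.2.map _
  obtain ⟨S₁, hS₁⟩ := hT₁pg.exists_le_sylow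
  obtain ⟨c, hc⟩ := MulAction.exists_smul_eq Γ S S₁
  have hmem : ∀ z : Γ, z ∈ (S₁ : Subgroup Γ) ↔ c⁻¹ * z * c ∈ (S : Subgroup Γ) := by
    intro z
    rw [← hc, Sylow.smul_def, Sylow.pointwise_smul_def,
      Subgroup.mem_pointwise_smul_iff_inv_smul_mem]
    simp [MulAut.smul_def]
  have h1 : b ∈ (S₁ : Subgroup Γ) :=
    hS₁ ⟨⟨b, hbC⟩, hT₁ (Subgroup.mem_zpowers _), rfl⟩
  have h2 : (d : Γ) * (h * b * h⁻¹) * (d : Γ)⁻¹ ∈ (S₁ : Subgroup Γ) :=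
    hS₁ ⟨d * ⟨h * b * h⁻¹, hcC⟩ * d⁻¹, hd, by simp⟩
  rw [hmem] at h1 h2
  have e1 : c⁻¹ * b * c = b := by
    have := hiso c⁻¹ (by simpa using h1)
    simpa using this
  have e2 : c⁻¹ * ((d : Γ) * (h * b * h⁻¹) * (d : Γ)⁻¹) * c = b := by
    have e : (c⁻¹ * d * h) * b * (c⁻¹ * d * h)⁻¹
        = c⁻¹ * ((d : Γ) * (h * b * h⁻¹) * (d : Γ)⁻¹) * c := by group
    have h3 : (c⁻¹ * d * h) * b * (c⁻¹ * d * h)⁻¹ ∈ (S : Subgroup Γ) := by
      rw [e]; exact h2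
    have := hiso _ h3
    rw [← e]; exact this
  have e3 : h * b * h⁻¹ = (d : Γ)⁻¹ * b * d := by
    have e5 : c * b * c⁻¹ = b := by
      calc c * b * c⁻¹ = c * (c⁻¹ * b * c) * c⁻¹ := by rw [e1]
        _ = b := by group
    have e4 : (d : Γ) * (h * b * h⁻¹) * (d : Γ)⁻¹ = b := by
      calc (d : Γ) * (h * b * h⁻¹) * (d : Γ)⁻¹
          = c * (c⁻¹ * ((d : Γ) * (h * b * h⁻¹) * (d : Γ)⁻¹) * c) * c⁻¹ := by group
        _ = c * b * c⁻¹ := by rw [e2]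
        _ = b := e5
    calc h * b * h⁻¹ = (d : Γ)⁻¹ * ((d : Γ) * (h * b * h⁻¹) * (d : Γ)⁻¹) * d := by group
      _ = (d : Γ)⁻¹ * b * d := by rw [e4]
  have hdy : y * (d : Γ) = d * y := by
    have h0 : (d : Γ) ∈ Subgroup.centralizer ({y} : Set Γ) := (le_of_eq hC) d.2
    rw [Subgroup.mem_centralizer_iff] at h0
    exact h0 y rfl
  have e6 : y = (d : Γ)⁻¹ * b ^ k * d := by
    calc y = (h * b * h⁻¹) ^ k := by rw [hy, conj_pow]
      _ = ((d : Γ)⁻¹ * b * d) ^ k := by rw [e3]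
      _ = (d : Γ)⁻¹ * b ^ k * d := by
          have := conj_pow (a := (d : Γ)⁻¹) (b := b) (i := k)
          simpa using this
  calc y = (y * (d : Γ)) * (d : Γ)⁻¹ := by group
    _ = (d : Γ) * y * (d : Γ)⁻¹ := by rw [hdy]
    _ = (d : Γ) * ((d : Γ)⁻¹ * b ^ k * d) * (d : Γ)⁻¹ := by rw [← e6]
    _ = b ^ k := by group

/-- An isolated `2`-element stays isolated in any quotient. -/
theorem isolated_quotient (S : Sylow 2 Γ) (b : Γ) (n : ℕ) (hb : b ^ (2 ^ n) = 1)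
    (hiso : ∀ g : Γ, g * b * g⁻¹ ∈ (S : Subgroup Γ) → g * b * g⁻¹ = b) (N : Subgroup Γ)
    [hN : N.Normal] (g : Γ)
    (hg : (QuotientGroup.mk' N) (g * b * g⁻¹) ∈ (S : Subgroup Γ).map (QuotientGroup.mk' N)) :
    (QuotientGroup.mk' N) (g * b * g⁻¹) = (QuotientGroup.mk' N) b := by
  obtain ⟨s, hs, hse⟩ := hg
  obtain ⟨x, hx⟩ : ∃ x, x = g * b * g⁻¹ := ⟨_, rfl⟩
  rw [← hx] at hse ⊢
  have h1 : s⁻¹ * x ∈ N := by
    have : ((s : Γ) : Γ ⧸ N) = ((x : Γ) : Γ ⧸ N) := hse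
    exact QuotientGroup.eq.mp this
  have hxT : x ∈ (S : Subgroup Γ) ⊔ N := by
    have : x = s * (s⁻¹ * x) := by group
    rw [this]
    exact Subgroup.mul_mem _ (Subgroup.mem_sup_left hs) (Subgroup.mem_sup_right h1)
  have hxpow : x ^ (2 ^ n) = 1 := by rw [hx, conj_pow, hb]; group
  obtain ⟨t, htT, ht⟩ := exists_conj_mem_of_le S _ le_sup_left x hxT n hxpow
  obtain ⟨s', hs', n', hn', rfl⟩ := Subgroup.mem_sup_of_normal_right.mp htT
  have h2 : n' * x * n'⁻¹ ∈ (S : Subgroup Γ) := by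
    have e : n' * x * n'⁻¹ = s'⁻¹ * (s' * n' * x * (s' * n')⁻¹) * s' := by group
    rw [e]
    exact Subgroup.mul_mem _ (Subgroup.mul_mem _ (Subgroup.inv_mem _ hs') ht) hs'
  have h3 : (n' * g) * b * (n' * g)⁻¹ = b := by
    apply hiso
    have e : (n' * g) * b * (n' * g)⁻¹ = n' * x * n'⁻¹ := by rw [hx]; group
    rw [e]; exact h2
  have h4 : x = n'⁻¹ * b * n' := by
    rw [hx]
    calc g * b * g⁻¹ = n'⁻¹ * ((n' * g) * b * (n' * g)⁻¹) * n' := by group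
      _ = n'⁻¹ * b * n' := by rw [h3]
  rw [h4]
  have h5 : (QuotientGroup.mk' N) n' = 1 := (QuotientGroup.eq_one_iff n').mpr hn'
  simp only [map_mul, map_inv, h5, inv_one, one_mul, mul_one]

/-- Induction step in the core-free case. -/
theorem central_of_core_free (n : ℕ)
    (IH : ∀ (Δ : Type u) [Group Δ] [Finite Δ] (S : Sylow 2 Δ) (b : Δ),
      b ∈ (S : Subgroup Δ) → b ^ (2 ^ n) = 1 →
      (∀ g : Δ, g * b * g⁻¹ ∈ (S : Subgroup Δ) → g * b * g⁻¹ = b) →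
      ∀ g : Δ, b * g * b⁻¹ * g⁻¹ ∈ Cfsg.pPrimeCore 2 Δ)
    (hO : Cfsg.pPrimeCore 2 Γ = ⊥) (S : Sylow 2 Γ) (b : Γ) (hbS : b ∈ (S : Subgroup Γ))
    (hb : b ^ (2 ^ (n + 1)) = 1)
    (hiso : ∀ g : Γ, g * b * g⁻¹ ∈ (S : Subgroup Γ) → g * b * g⁻¹ = b) (g : Γ) :
    g * b * g⁻¹ = b := by
  haveI : Fact (Nat.Prime 2) := ⟨Nat.prime_two⟩
  obtain ⟨u, hu⟩ : ∃ u, u = b ^ (2 ^ n) := ⟨_, rfl⟩
  have hu2 : u ^ 2 = 1 := by rw [hu, ← pow_mul, ← pow_succ]; exact hb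
  by_cases hu1 : u = 1
  · have h1 := IH Γ S b hbS (hu ▸ hu1) hiso g
    rw [hO, Subgroup.mem_bot] at h1
    have h2 : b * g = g * b := by
      calc b * g = (b * g * b⁻¹ * g⁻¹) * (g * b) := by group
        _ = g * b := by rw [h1, one_mul]
    calc g * b * g⁻¹ = (b * g) * g⁻¹ := by rw [h2]
      _ = b := by group
  · have hou : orderOf u = 2 := orderOf_eq_prime hu2 hu1
    have huS : u ∈ (S : Subgroup Γ) := by rw [hu]; exact Subgroup.pow_mem _ hbS _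
    have huiso : ∀ h : Γ, h * u * h⁻¹ ∈ (S : Subgroup Γ) → h * u * h⁻¹ = u := by
      intro h hh
      rw [hu] at hh ⊢
      exact isolated_pow S b hbS (n + 1) hb hiso (2 ^ n) h hh
    have hisoinv := Cfsg.Agent.Lib.Helper2.ZS.isolated_of_sylow S u hou huS huiso
    have hucen : ∀ h : Γ, u * h = h * u := by
      intro h
      have h2 : u * h * u⁻¹ * h⁻¹ ∈ Cfsg.pPrimeCore 2 Γ :=
        Cfsg.Agent.Lib.Helper2.ZS.zstar u hisoinv h
      rw [hO, Subgroup.mem_bot] at h2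
      calc u * h = (u * h * u⁻¹ * h⁻¹) * (h * u) := by group
        _ = h * u := by rw [h2, one_mul]
    obtain ⟨Z, hZ⟩ : ∃ Z, Z = Subgroup.zpowers u := ⟨_, rfl⟩
    have hZcen : ∀ z ∈ Z, ∀ h : Γ, z * h = h * z := by
      intro z hz h
      rw [hZ] at hz
      obtain ⟨j, rfl⟩ := Subgroup.mem_zpowers_iff.mp hz
      exact (Commute.zpow_left (hucen h) j).eq
    haveI hZn : Z.Normal := ⟨fun z hz h => by
      have e : h * z * h⁻¹ = z := by
        rw [mul_assoc, hZcen z hz h⁻¹]; group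
      rw [e]; exact hz⟩
    have huZ : u ∈ Z := by rw [hZ]; exact Subgroup.mem_zpowers u
    have hcardZ : Nat.card Z = 2 := by rw [hZ, Nat.card_zpowers, hou]
    have hZS : Z ≤ (S : Subgroup Γ) := by rw [hZ]; exact Subgroup.zpowers_le.mpr huS
    have hπs : Function.Surjective (QuotientGroup.mk' Z) := QuotientGroup.mk'_surjective Z
    obtain ⟨S', hS'⟩ : ∃ S' : Sylow 2 (Γ ⧸ Z), S' = S.mapSurjective hπs := ⟨_, rfl⟩
    have hS'coe : (S' : Subgroup (Γ ⧸ Z)) = (S : Subgroup Γ).map (QuotientGroup.mk' Z) := by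
      rw [hS']; exact Sylow.coe_mapSurjective hπs S
    have hb' : (QuotientGroup.mk' Z) b ∈ (S' : Subgroup (Γ ⧸ Z)) := by
      rw [hS'coe]; exact Subgroup.mem_map_of_mem _ hbS
    have hbpow' : ((QuotientGroup.mk' Z) b) ^ (2 ^ n) = 1 := by
      rw [← map_pow, ← hu]; exact (QuotientGroup.eq_one_iff _).mpr huZ
    have hiso' : ∀ q : Γ ⧸ Z, q * (QuotientGroup.mk' Z) b * q⁻¹ ∈ (S' : Subgroup (Γ ⧸ Z)) →
        q * (QuotientGroup.mk' Z) b * q⁻¹ = (QuotientGroup.mk' Z) b := by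
      intro q hq
      obtain ⟨h, rfl⟩ := hπs q
      have e : (QuotientGroup.mk' Z) h * (QuotientGroup.mk' Z) b * ((QuotientGroup.mk' Z) h)⁻¹
          = (QuotientGroup.mk' Z) (h * b * h⁻¹) := by simp
      rw [e] at hq ⊢
      rw [hS'coe] at hq
      exact isolated_quotient S b (n + 1) hb hiso Z h hq
    have hIH := IH (Γ ⧸ Z) S' ((QuotientGroup.mk' Z) b) hb' hbpow' hiso'
    obtain ⟨M₂, hM₂⟩ : ∃ M₂, M₂ = (Cfsg.pPrimeCore 2 (Γ ⧸ Z)).comap (QuotientGroup.mk' Z) :=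
      ⟨_, rfl⟩
    have hcM : b * g * b⁻¹ * g⁻¹ ∈ M₂ := by
      rw [hM₂, Subgroup.mem_comap]
      have := hIH ((QuotientGroup.mk' Z) g)
      simpa using this
    have hZM : Z ≤ M₂ := by
      intro z hz
      rw [hM₂, Subgroup.mem_comap]
      have : (QuotientGroup.mk' Z) z = 1 := (QuotientGroup.eq_one_iff z).mpr hz
      rw [this]; exact Subgroup.one_mem _
    have hM₂Z : M₂ = Z := by
      haveI hO'n : (Cfsg.pPrimeCore 2 (Γ ⧸ Z)).Normal :=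
        Cfsg.Agent.Lib.Helper1.pPrimeCore_normal 2
      haveI hM₂n : M₂.Normal := by rw [hM₂]; exact hO'n.comap _
      have hrel : Z.relIndex M₂ = Nat.card (Cfsg.pPrimeCore 2 (Γ ⧸ Z)) := by
        rw [hM₂]; exact relIndex_comap_mk' Z _
      have hodd : ¬ 2 ∣ Nat.card (Cfsg.pPrimeCore 2 (Γ ⧸ Z)) := by
        have hcop := Cfsg.Agent.Lib.Helper1.pPrimeCore_card_coprime (G := Γ ⧸ Z) 2
        intro hdvd
        have := Nat.Coprime.eq_one_of_dvd hcop.symm hdvd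
        omega
      obtain ⟨Q₀, hQ₀⟩ : ∃ Q₀ : Subgroup ↥M₂, Q₀ = Z.subgroupOf M₂ := ⟨_, rfl⟩
      have hcardQ₀ : Nat.card Q₀ = 2 := by
        rw [hQ₀, Nat.card_congr (Subgroup.subgroupOfEquivOfLe hZM).toEquiv, hcardZ]
      have hpgQ₀ : IsPGroup 2 Q₀ := IsPGroup.of_card (n := 1) (by rw [hcardQ₀]; norm_num)
      have hidx : ¬ 2 ∣ Q₀.index := by
        have : Q₀.index = Z.relIndex M₂ := by rw [hQ₀]; rfl
        rw [this, hrel]; exact hodd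
      obtain ⟨Q, hQ⟩ : ∃ Q : Sylow 2 ↥M₂, Q = hpgQ₀.toSylow hidx := ⟨_, rfl⟩
      have hQcoe : (Q : Subgroup ↥M₂) = Q₀ := by rw [hQ]; exact IsPGroup.toSylow_coe hpgQ₀ hidx
      have hNC : Subgroup.normalizer ((Q : Subgroup ↥M₂) : Set ↥M₂)
          ≤ Subgroup.centralizer ((Q : Subgroup ↥M₂) : Set ↥M₂) := by
        intro x _
        rw [Subgroup.mem_centralizer_iff]
        intro q hq
        have hq' : q ∈ (Q : Subgroup ↥M₂) := hq
        rw [hQcoe, hQ₀, Subgroup.mem_subgroupOf] at hq'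
        apply Subtype.ext
        rw [Subgroup.coe_mul, Subgroup.coe_mul]
        exact hZcen _ hq' _
      obtain ⟨hindex, -⟩ :=
        Cfsg.Agent.Lib.Helper6.pPrimeCore_of_normalizer_le_centralizer Q hNC
      have hcoreM : Cfsg.pPrimeCore 2 ↥M₂ = ⊥ := by
        rw [Cfsg.Agent.Lib.Helper8.PComp.pPrimeCore_subgroupOf 2 hM₂n.isSubnormal, hO,
          Subgroup.bot_subgroupOf]
      rw [hcoreM, Subgroup.index_bot, hQcoe, hcardQ₀] at hindex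
      symm
      apply Subgroup.eq_of_le_of_card_ge hZM
      rw [hindex, hcardZ]
    have hc : b * g * b⁻¹ * g⁻¹ ∈ (S : Subgroup Γ) := hZS (hM₂Z ▸ hcM)
    have h3 : g * b * g⁻¹ ∈ (S : Subgroup Γ) := by
      have e : g * b * g⁻¹ = (b⁻¹ * (b * g * b⁻¹ * g⁻¹))⁻¹ := by group
      rw [e]
      exact Subgroup.inv_mem _ (Subgroup.mul_mem _ (Subgroup.inv_mem _ hbS) hc)
    exact hiso g h3

theorem zstar_two_aux : ∀ (n : ℕ) (Γ : Type u) [Group Γ] [Finite Γ] (S : Sylow 2 Γ) (b : Γ),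
    b ∈ (S : Subgroup Γ) → b ^ (2 ^ n) = 1 →
    (∀ g : Γ, g * b * g⁻¹ ∈ (S : Subgroup Γ) → g * b * g⁻¹ = b) →
    ∀ g : Γ, b * g * b⁻¹ * g⁻¹ ∈ Cfsg.pPrimeCore 2 Γ := by
  intro n
  induction n with
  | zero =>
    intro Γ _ _ S b _ hb _ g
    have hb1 : b = 1 := by simpa using hb
    rw [hb1]
    have : (1 : Γ) * g * 1⁻¹ * g⁻¹ = 1 := by group
    rw [this]; exact Subgroup.one_mem _
  | succ n IH =>
    intro Γ _ _ S b hbS hb hiso g
    haveI : Fact (Nat.Prime 2) := ⟨Nat.prime_two⟩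
    haveI hOn : (Cfsg.pPrimeCore 2 Γ).Normal := Cfsg.Agent.Lib.Helper1.pPrimeCore_normal 2
    have hπs : Function.Surjective (QuotientGroup.mk' (Cfsg.pPrimeCore 2 Γ)) :=
      QuotientGroup.mk'_surjective _
    obtain ⟨S', hS'⟩ : ∃ S' : Sylow 2 (Γ ⧸ Cfsg.pPrimeCore 2 Γ), S' = S.mapSurjective hπs :=
      ⟨_, rfl⟩
    have hS'coe : (S' : Subgroup (Γ ⧸ Cfsg.pPrimeCore 2 Γ))
        = (S : Subgroup Γ).map (QuotientGroup.mk' (Cfsg.pPrimeCore 2 Γ)) := by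
      rw [hS']; exact Sylow.coe_mapSurjective hπs S
    have hb' : (QuotientGroup.mk' (Cfsg.pPrimeCore 2 Γ)) b
        ∈ (S' : Subgroup (Γ ⧸ Cfsg.pPrimeCore 2 Γ)) := by
      rw [hS'coe]; exact Subgroup.mem_map_of_mem _ hbS
    have hbpow' : ((QuotientGroup.mk' (Cfsg.pPrimeCore 2 Γ)) b) ^ (2 ^ (n + 1)) = 1 := by
      rw [← map_pow, hb, map_one]
    have hiso' : ∀ q : Γ ⧸ Cfsg.pPrimeCore 2 Γ,
        q * (QuotientGroup.mk' (Cfsg.pPrimeCore 2 Γ)) b * q⁻¹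
          ∈ (S' : Subgroup (Γ ⧸ Cfsg.pPrimeCore 2 Γ)) →
        q * (QuotientGroup.mk' (Cfsg.pPrimeCore 2 Γ)) b * q⁻¹
          = (QuotientGroup.mk' (Cfsg.pPrimeCore 2 Γ)) b := by
      intro q hq
      obtain ⟨h, rfl⟩ := hπs q
      have e : (QuotientGroup.mk' (Cfsg.pPrimeCore 2 Γ)) h
          * (QuotientGroup.mk' (Cfsg.pPrimeCore 2 Γ)) b
          * ((QuotientGroup.mk' (Cfsg.pPrimeCore 2 Γ)) h)⁻¹
          = (QuotientGroup.mk' (Cfsg.pPrimeCore 2 Γ)) (h * b * h⁻¹) := by simp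
      rw [e] at hq ⊢
      rw [hS'coe] at hq
      exact isolated_quotient S b (n + 1) hb hiso _ h hq
    have hO' : Cfsg.pPrimeCore 2 (Γ ⧸ Cfsg.pPrimeCore 2 Γ) = ⊥ :=
      Cfsg.Agent.Lib.Helper1.pPrimeCore_quotient_eq_bot 2
    have h1 := central_of_core_free n IH hO' S' _ hb' hbpow' hiso'
      ((QuotientGroup.mk' (Cfsg.pPrimeCore 2 Γ)) g)
    have h2 : (QuotientGroup.mk' (Cfsg.pPrimeCore 2 Γ)) (b * g * b⁻¹ * g⁻¹) = 1 := by
      simp only [map_mul, map_inv]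
      obtain ⟨B, hB⟩ : ∃ B, B = (QuotientGroup.mk' (Cfsg.pPrimeCore 2 Γ)) b := ⟨_, rfl⟩
      obtain ⟨A, hA⟩ : ∃ A, A = (QuotientGroup.mk' (Cfsg.pPrimeCore 2 Γ)) g := ⟨_, rfl⟩
      rw [← hB, ← hA] at h1 ⊢
      have h3 : A * B = B * A := by
        calc A * B = (A * B * A⁻¹) * A := by group
          _ = B * A := by rw [h1]
      calc B * A * B⁻¹ * A⁻¹ = (A * B) * B⁻¹ * A⁻¹ := by rw [h3]
        _ = 1 := by group
    exact (QuotientGroup.eq_one_iff _).mp h2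

/-- **Z\*-theorem for `2`-elements**: a `2`-element which is isolated in a Sylow `2`-subgroup
is central modulo the odd core. -/
theorem zstar_two (S : Sylow 2 Γ) (b : Γ) (hbS : b ∈ (S : Subgroup Γ))
    (hiso : ∀ g : Γ, g * b * g⁻¹ ∈ (S : Subgroup Γ) → g * b * g⁻¹ = b) (g : Γ) :
    b * g * b⁻¹ * g⁻¹ ∈ Cfsg.pPrimeCore 2 Γ := by
  obtain ⟨n, hn⟩ := S.2 ⟨b, hbS⟩
  have hb : b ^ (2 ^ n) = 1 := by
    have := congrArg Subtype.val hn
    simpa using this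
  exact zstar_two_aux n Γ S b hbS hb hiso g

end Cfsg.Agent.Lib.Helper3.ZStarTwo
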