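import Mathlib
import Cfsg.Agent.Lib.Helper3.ZStarTwo

/-!
# Automorphisms of `2`-power order centralizing an abelian Sylow `2`-subgroup

If `O(G) = 1`, `P` is an abelian Sylow `2`-subgroup of `G` and `α` is an automorphism of
`2`-power order fixing `P` pointwise, then `α` is inner.  Proof: in `Γ = G ⋊ ⟨α⟩` the subgroup
`P × ⟨α⟩` is an abelian Sylow `2`-subgroup; the product of the `N_Γ(S)`-conjugates of `α` is an
isolated `2`-element of `S` lying in `α^m G` with `m` odd, hence central (Z*-theorem).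
-/

set_option autoImplicit false
open Cfsg
open scoped IsMulCommutative

namespace Cfsg.Agent.Lib.Helper3.InnerAbelSylow

universe u

/-- the set of `K`-conjugates of `a`. -/
def orb {Γ : Type*} [Group Γ] (K : Subgroup Γ) (a : Γ) : Set Γ :=
  {x | ∃ n : ↥K, (n : Γ) * a * (n : Γ)⁻¹ = x}

/-- In a finite group with abelian Sylow `2`-subgroup `S`, for `a ∈ S` there is `b ∈ S`
centralized by `N(S)` which agrees with an odd power of `a` in every abelian quotient. -/
theorem exists_normalizer_central {Γ : Type*} [Group Γ] [Finite Γ] (S : Sylow 2 Γ)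
    (hSc : ∀ γ ∈ (S : Subgroup Γ), ∀ δ ∈ (S : Subgroup Γ), γ * δ = δ * γ) (a : Γ)
    (haS : a ∈ (S : Subgroup Γ)) {B : Type*} [CommGroup B] (ψ : Γ →* B) :
    ∃ b ∈ (S : Subgroup Γ), ∃ m : ℕ, ¬ 2 ∣ m ∧ ψ b = ψ a ^ m ∧
      ∀ n ∈ Subgroup.normalizer ((S : Subgroup Γ) : Set Γ), n * b * n⁻¹ = b := by
  classical
  haveI : Fact (Nat.Prime 2) := ⟨Nat.prime_two⟩
  haveI hSc' : IsMulCommutative (S : Subgroup Γ) :=
    ⟨⟨fun γ δ => Subtype.ext (hSc _ γ.2 _ δ.2)⟩⟩
  obtain ⟨K, hK⟩ : ∃ K : Subgroup Γ, K = Subgroup.normalizer ((S : Subgroup Γ) : Set Γ) :=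
    ⟨_, rfl⟩
  have hKmem : ∀ n ∈ K, ∀ s : Γ, s ∈ (S : Subgroup Γ) ↔ n * s * n⁻¹ ∈ (S : Subgroup Γ) := by
    intro n hn
    rw [hK] at hn
    exact Subgroup.mem_normalizer_iff.mp hn
  rw [← hK]
  haveI : Fintype ↥(orb K a) := Fintype.ofFinite _
  have hXS : ∀ x : ↥(orb K a), (x : Γ) ∈ (S : Subgroup Γ) := by
    intro x
    obtain ⟨n, hn⟩ := x.2
    rw [← hn]
    exact (hKmem n n.2 a).mp haS
  obtain ⟨f, hf⟩ : ∃ f : ↥(orb K a) → ↥(S : Subgroup Γ), ∀ x, ((f x : ↥(S : Subgroup Γ)) : Γ) = x :=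
    ⟨fun x => ⟨x.1, hXS x⟩, fun x => rfl⟩
  obtain ⟨bS, hbS⟩ : ∃ bS : ↥(S : Subgroup Γ), bS = ∏ x : ↥(orb K a), f x := ⟨_, rfl⟩
  refine ⟨(bS : Γ), bS.2, Fintype.card ↥(orb K a), ?_, ?_, ?_⟩
  · have h1 := Cfsg.Agent.Lib.Helper6.card_orbit_eq_relIndex K
      (Subgroup.centralizer ({a} : Set Γ))
      (fun n x => (n : Γ) * x * (n : Γ)⁻¹) (by intro x; simp)
      (by intro n₁ n₂ x; simp [mul_assoc]) a
      (by
        intro n
        rw [Subgroup.mem_centralizer_iff]
        constructor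
        · intro h z hz
          rw [Set.mem_singleton_iff] at hz
          rw [hz]
          calc a * (n : Γ) = ((n : Γ) * a * (n : Γ)⁻¹) * n := by rw [h]
            _ = n * a := by group
        · intro h
          have h' := h a rfl
          calc (n : Γ) * a * (n : Γ)⁻¹ = (a * n) * (n : Γ)⁻¹ := by rw [h']
            _ = a := by group)
    have h2 : Fintype.card ↥(orb K a) = (Subgroup.centralizer ({a} : Set Γ)).relIndex K := by
      rw [← Nat.card_eq_fintype_card]; exact h1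
    rw [h2]
    have hSC : (S : Subgroup Γ) ≤ Subgroup.centralizer ({a} : Set Γ) := by
      intro s hs
      rw [Subgroup.mem_centralizer_iff]
      intro z hz
      rw [Set.mem_singleton_iff] at hz
      rw [hz]; exact hSc a haS s hs
    have h3 := Subgroup.relIndex_dvd_of_le_left K hSC
    have h4 : (S : Subgroup Γ).relIndex K ∣ (S : Subgroup Γ).index := by
      rw [hK]; exact Subgroup.relIndex_dvd_index_of_le Subgroup.le_normalizer
    intro h5
    exact S.not_dvd_index (dvd_trans h5 (dvd_trans h3 h4))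
  · have h1 : ψ (bS : Γ) = ∏ x : ↥(orb K a), ψ ((f x : ↥(S : Subgroup Γ)) : Γ) := by
      have h0 := map_prod (ψ.comp (S : Subgroup Γ).subtype) f Finset.univ
      rw [hbS]
      exact h0
    rw [h1]
    have h2 : ∀ x : ↥(orb K a), ψ ((f x : ↥(S : Subgroup Γ)) : Γ) = ψ a := by
      intro x
      rw [hf]
      obtain ⟨n, hn⟩ := x.2
      rw [← hn, map_mul, map_mul, map_inv, mul_comm (ψ n) (ψ a), mul_assoc, mul_inv_cancel,
        mul_one]
    rw [Finset.prod_congr rfl (fun x _ => h2 x), Finset.prod_const, Finset.card_univ]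
  · intro n hn
    obtain ⟨c, hc⟩ : ∃ c : ↥(S : Subgroup Γ) →* ↥(S : Subgroup Γ),
        ∀ s : ↥(S : Subgroup Γ), ((c s : ↥(S : Subgroup Γ)) : Γ) = n * s * n⁻¹ :=
      ⟨((MulAut.conj n).toMonoidHom.comp (S : Subgroup Γ).subtype).codRestrict (S : Subgroup Γ)
        (fun s => by
          show (MulAut.conj n) (s : Γ) ∈ (S : Subgroup Γ)
          rw [MulAut.conj_apply]; exact (hKmem n hn s).mp s.2), fun s => rfl⟩
    obtain ⟨e, he⟩ : ∃ e : ↥(orb K a) → ↥(orb K a), ∀ x, ((e x : ↥(orb K a)) : Γ) = n * x * n⁻¹ :=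
      ⟨fun x => ⟨n * x.1 * n⁻¹, by
        obtain ⟨m, hm⟩ := x.2
        refine ⟨⟨n, hn⟩ * m, ?_⟩
        rw [← hm]
        simp [mul_assoc]⟩, fun x => rfl⟩
    have hebij : Function.Bijective e := by
      apply Finite.injective_iff_bijective.mp
      intro x y hxy
      have h0 := congrArg Subtype.val hxy
      rw [he, he] at h0
      apply Subtype.ext
      exact mul_left_cancel (mul_right_cancel h0)
    have h1 : c bS = ∏ x : ↥(orb K a), c (f x) := by rw [hbS]; exact map_prod c f Finset.univ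
    have h2 : ∀ x : ↥(orb K a), c (f x) = f (e x) := by
      intro x
      apply Subtype.ext
      rw [hc, hf, hf, he]
    have h3 : ∏ x : ↥(orb K a), f (e x) = ∏ x : ↥(orb K a), f x := hebij.prod_comp f
    have h4 : c bS = bS := by
      rw [h1, Finset.prod_congr rfl (fun x _ => h2 x), h3, hbS]
    have h5 := congrArg Subtype.val h4
    rw [hc] at h5
    exact h5

variable {G : Type u} [Group G] [Finite G]

section
variable (A : Subgroup (MulAut G))

/-- the semidirect product `G ⋊ A`. -/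
abbrev Gam := G ⋊[A.subtype] ↥A

theorem finite_gam : Finite (Gam A) := Finite.of_equiv _ SemidirectProduct.equivProd.symm

/-- the subgroup `P ⋊ A` when `A` fixes `P` pointwise. -/
def sylSub (P : Subgroup G) (hfixA : ∀ β ∈ A, ∀ x ∈ P, β x = x) : Subgroup (Gam A) where
  carrier := {γ | γ.left ∈ P}
  mul_mem' := by
    intro γ δ hγ hδ
    show (γ * δ).left ∈ P
    rw [SemidirectProduct.mul_left]
    have h1 : (A.subtype γ.right) δ.left = δ.left := hfixA _ γ.right.2 _ hδ
    rw [h1]; exact P.mul_mem hγ hδ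
  one_mem' := by
    show (1 : Gam A).left ∈ P
    rw [SemidirectProduct.one_left]; exact P.one_mem
  inv_mem' := by
    intro γ hγ
    show (γ⁻¹).left ∈ P
    rw [SemidirectProduct.inv_left]
    have h1 : (A.subtype γ.right⁻¹) γ.left⁻¹ = γ.left⁻¹ :=
      hfixA _ (γ.right⁻¹).2 _ (P.inv_mem hγ)
    rw [h1]; exact P.inv_mem hγ

theorem card_sylSub (P : Subgroup G) (hfixA : ∀ β ∈ A, ∀ x ∈ P, β x = x) :
    Nat.card (sylSub A P hfixA) = Nat.card P * Nat.card A := by
  rw [← Nat.card_prod]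
  apply Nat.card_congr
  exact
    { toFun := fun γ => (⟨γ.1.left, γ.2⟩, γ.1.right)
      invFun := fun p => ⟨⟨p.1.1, p.2⟩, p.1.2⟩
      left_inv := fun γ => Subtype.ext (SemidirectProduct.ext rfl rfl)
      right_inv := fun p => Prod.ext (Subtype.ext rfl) rfl }

theorem comm_sylSub (P : Subgroup G) (hfixA : ∀ β ∈ A, ∀ x ∈ P, β x = x)
    (hPc : ∀ x ∈ P, ∀ y ∈ P, x * y = y * x) (hAc : ∀ β γ : ↥A, β * γ = γ * β)
    (γ δ : Gam A) (hγ : γ ∈ sylSub A P hfixA) (hδ : δ ∈ sylSub A P hfixA) :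
    γ * δ = δ * γ := by
  apply SemidirectProduct.ext
  · rw [SemidirectProduct.mul_left, SemidirectProduct.mul_left]
    have h1 : (A.subtype γ.right) δ.left = δ.left := hfixA _ γ.right.2 _ hδ
    have h2 : (A.subtype δ.right) γ.left = γ.left := hfixA _ δ.right.2 _ hγ
    rw [h1, h2]; exact hPc _ hγ _ hδ
  · rw [SemidirectProduct.mul_right, SemidirectProduct.mul_right]; exact hAc _ _

end

/-- Some odd power of `a₀` is inner. -/
theorem exists_pow_inner (hcore : Cfsg.pPrimeCore 2 G = ⊥) (P : Sylow 2 G)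
    (hPc : ∀ x ∈ (P : Subgroup G), ∀ y ∈ (P : Subgroup G), x * y = y * x)
    (A : Subgroup (MulAut G)) (j : ℕ) (hAcard : Nat.card A = 2 ^ j)
    (hAc : ∀ β γ : ↥A, β * γ = γ * β)
    (hfixA : ∀ β ∈ A, ∀ x ∈ (P : Subgroup G), β x = x) (a₀ : ↥A) :
    ∃ (m : ℕ) (y : G), ¬ 2 ∣ m ∧ ∀ x : G, ((a₀ ^ m : ↥A) : MulAut G) x = y⁻¹ * x * y := by
  classical
  haveI : Fact (Nat.Prime 2) := ⟨Nat.prime_two⟩
  haveI hfin : Finite (Gam A) := finite_gam A
  letI : CommGroup ↥A := { (inferInstance : Group ↥A) with mul_comm := hAc }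
  obtain ⟨v, hv⟩ := IsPGroup.iff_card.mp P.2
  obtain ⟨S₀, hS₀⟩ : ∃ S₀ : Subgroup (Gam A), S₀ = sylSub A (P : Subgroup G) hfixA := ⟨_, rfl⟩
  have hS₀mem : ∀ γ : Gam A, γ ∈ S₀ ↔ γ.left ∈ (P : Subgroup G) := by
    intro γ; rw [hS₀]; rfl
  have hS₀card : Nat.card S₀ = 2 ^ (v + j) := by
    rw [hS₀, card_sylSub, hv, hAcard, pow_add]
  have hS₀pg : IsPGroup 2 S₀ := IsPGroup.of_card hS₀card
  have hS₀idx : ¬ 2 ∣ S₀.index := by
    have h1 := S₀.card_mul_index
    rw [hS₀card, SemidirectProduct.card, hAcard, ← (P : Subgroup G).card_mul_index, hv] at h1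
    have h2 : S₀.index = (P : Subgroup G).index := by
      have h3 : 2 ^ (v + j) * S₀.index = 2 ^ (v + j) * (P : Subgroup G).index := by
        rw [h1, pow_add]; ring
      exact Nat.eq_of_mul_eq_mul_left (by positivity) h3
    rw [h2]; exact P.not_dvd_index
  obtain ⟨S, hS⟩ : ∃ S : Sylow 2 (Gam A), S = hS₀pg.toSylow hS₀idx := ⟨_, rfl⟩
  have hScoe : (S : Subgroup (Gam A)) = S₀ := by rw [hS]; exact IsPGroup.toSylow_coe _ _
  have hSmem : ∀ γ : Gam A, γ ∈ (S : Subgroup (Gam A)) ↔ γ.left ∈ (P : Subgroup G) := by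
    intro γ; rw [hScoe]; exact hS₀mem γ
  have hScomm : ∀ γ ∈ (S : Subgroup (Gam A)), ∀ δ ∈ (S : Subgroup (Gam A)),
      γ * δ = δ * γ := by
    intro γ hγ δ hδ
    rw [hScoe, hS₀] at hγ hδ
    exact comm_sylSub A _ hfixA hPc hAc γ δ hγ hδ
  haveI hSc : IsMulCommutative (S : Subgroup (Gam A)) :=
    ⟨⟨fun γ δ => Subtype.ext (hScomm _ γ.2 _ δ.2)⟩⟩
  obtain ⟨a, ha⟩ : ∃ a : Gam A, a = SemidirectProduct.inr a₀ := ⟨_, rfl⟩
  have haS : a ∈ (S : Subgroup (Gam A)) := by
    rw [hSmem, ha, SemidirectProduct.left_inr]; exact Subgroup.one_mem _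
  have haright : a.right = a₀ := by rw [ha, SemidirectProduct.right_inr]
  obtain ⟨b, hbS, m, hm, hψ, hbK⟩ := exists_normalizer_central S hScomm a haS
    (SemidirectProduct.rightHom (φ := A.subtype))
  have hiso : ∀ γ : Gam A, γ * b * γ⁻¹ ∈ (S : Subgroup (Gam A)) → γ * b * γ⁻¹ = b := by
    intro γ hγ
    have hγ' : γ⁻¹⁻¹ * b * γ⁻¹ ∈ (S : Subgroup (Gam A)) := by rw [inv_inv]; exact hγ
    obtain ⟨n, hn, hne⟩ := Sylow.conj_eq_normalizer_conj_of_mem S b γ⁻¹ hbS hγ'
    have h1 := hbK n⁻¹ (Subgroup.inv_mem _ hn)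
    have h2 : γ * b * γ⁻¹ = n⁻¹ * b * n := by simpa using hne
    rw [h2]; simpa using h1
  have hz := Cfsg.Agent.Lib.Helper3.ZStarTwo.zstar_two S b hbS hiso
  have hOΓ : Cfsg.pPrimeCore 2 (Gam A) = ⊥ := by
    haveI hOn : (Cfsg.pPrimeCore 2 (Gam A)).Normal := Cfsg.Agent.Lib.Helper1.pPrimeCore_normal 2
    have hcop : (Nat.card (Cfsg.pPrimeCore 2 (Gam A))).Coprime 2 :=
      Cfsg.Agent.Lib.Helper1.pPrimeCore_card_coprime 2
    have hright : ∀ γ ∈ Cfsg.pPrimeCore 2 (Gam A), γ.right = 1 := by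
      intro γ hγ
      have h1 : orderOf (SemidirectProduct.rightHom (φ := A.subtype) γ) ∣ orderOf γ :=
        orderOf_map_dvd _ γ
      have h2 : orderOf γ ∣ Nat.card (Cfsg.pPrimeCore 2 (Gam A)) :=
        Subgroup.orderOf_dvd_natCard _ hγ
      have h3 : orderOf (SemidirectProduct.rightHom (φ := A.subtype) γ) ∣ 2 ^ j := by
        rw [← hAcard]; exact orderOf_dvd_natCard _
      have h4 : orderOf (SemidirectProduct.rightHom (φ := A.subtype) γ) = 1 :=
        Nat.eq_one_of_dvd_coprimes (hcop.pow_right j) (dvd_trans h1 h2) h3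
      exact orderOf_eq_one_iff.mp h4
    have hK₀ : (Cfsg.pPrimeCore 2 (Gam A)).comap (SemidirectProduct.inl (φ := A.subtype))
        ≤ Cfsg.pPrimeCore 2 G := by
      apply Cfsg.Agent.Lib.Helper1.le_pPrimeCore (hOn.comap _)
      have h1 : Nat.card ((Cfsg.pPrimeCore 2 (Gam A)).comap
          (SemidirectProduct.inl (φ := A.subtype))) ∣ Nat.card (Cfsg.pPrimeCore 2 (Gam A)) := by
        rw [← Subgroup.card_map_of_injective
          (SemidirectProduct.inl_injective (φ := A.subtype))]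
        exact Subgroup.card_dvd_of_le (Subgroup.map_comap_le _ _)
      exact Nat.Coprime.coprime_dvd_left h1 hcop
    rw [hcore] at hK₀
    rw [eq_bot_iff]
    intro γ hγ
    rw [Subgroup.mem_bot]
    have hr := hright γ hγ
    have hγeq : γ = SemidirectProduct.inl γ.left := by
      apply SemidirectProduct.ext
      · rw [SemidirectProduct.left_inl]
      · rw [SemidirectProduct.right_inl, hr]
    have hl : γ.left ∈ (Cfsg.pPrimeCore 2 (Gam A)).comap
        (SemidirectProduct.inl (φ := A.subtype)) := by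
      rw [Subgroup.mem_comap, ← hγeq]; exact hγ
    have h0 := hK₀ hl
    rw [Subgroup.mem_bot] at h0
    rw [hγeq, h0, map_one]
  have hbcen : ∀ γ : Gam A, b * γ = γ * b := by
    intro γ
    have h1 := hz γ
    rw [hOΓ, Subgroup.mem_bot] at h1
    calc b * γ = (b * γ * b⁻¹ * γ⁻¹) * (γ * b) := by group
      _ = γ * b := by rw [h1, one_mul]
  have hbr : b.right = a₀ ^ m := by
    have h0 : (SemidirectProduct.rightHom (φ := A.subtype) b)
        = (SemidirectProduct.rightHom (φ := A.subtype) a) ^ m := hψ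
    rw [SemidirectProduct.rightHom_eq_right, haright] at h0
    exact h0
  refine ⟨m, b.left, hm, ?_⟩
  intro x
  have h1 := hbcen (SemidirectProduct.inl x)
  have h2 := congrArg SemidirectProduct.left h1
  rw [SemidirectProduct.mul_left, SemidirectProduct.mul_left, SemidirectProduct.left_inl,
    SemidirectProduct.right_inl, map_one, MulAut.one_apply, hbr] at h2
  -- h2 : b.left * (A.subtype (a₀ ^ m)) x = x * b.left
  have h3 : ((a₀ ^ m : ↥A) : MulAut G) x = (A.subtype (a₀ ^ m)) x := rfl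
  rw [h3]
  calc (A.subtype (a₀ ^ m)) x = b.left⁻¹ * (b.left * (A.subtype (a₀ ^ m)) x) := by group
    _ = b.left⁻¹ * (x * b.left) := by rw [h2]
    _ = b.left⁻¹ * x * b.left := by group

/-- **Main theorem**: a `2`-power order automorphism centralizing an abelian Sylow
`2`-subgroup of a group with trivial odd core is inner. -/
theorem inner_of_fix_sylow (hcore : Cfsg.pPrimeCore 2 G = ⊥) (P : Sylow 2 G)
    (hab : IsMulCommutative (P : Subgroup G)) (α : MulAut G)
    (h2 : ∃ j : ℕ, orderOf α = 2 ^ j) (hfix : ∀ x ∈ (P : Subgroup G), α x = x) :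
    ∃ g : G, ∀ x : G, α x = g * x * g⁻¹ := by
  obtain ⟨j, hj⟩ := h2
  have hPc : ∀ x ∈ (P : Subgroup G), ∀ y ∈ (P : Subgroup G), x * y = y * x := by
    intro x hx y hy
    have := hab.is_comm.comm ⟨x, hx⟩ ⟨y, hy⟩
    exact congrArg Subtype.val this
  have hAcard : Nat.card (Subgroup.zpowers α) = 2 ^ j := by rw [Nat.card_zpowers, hj]
  have hAc : ∀ β γ : ↥(Subgroup.zpowers α), β * γ = γ * β := fun β γ => mul_comm β γ
  have hfixA : ∀ β ∈ Subgroup.zpowers α, ∀ x ∈ (P : Subgroup G), β x = x := by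
    let F : Subgroup (MulAut G) :=
      { carrier := {β | ∀ x ∈ (P : Subgroup G), β x = x}
        mul_mem' := by
          intro β γ hβ hγ x hx
          show (β * γ) x = x
          rw [MulAut.mul_apply, hγ x hx, hβ x hx]
        one_mem' := fun x _ => rfl
        inv_mem' := by
          intro β hβ x hx
          show β⁻¹ x = x
          have h0 := hβ x hx
          calc β⁻¹ x = β⁻¹ (β x) := by rw [h0]
            _ = x := by simp }
    have hle : Subgroup.zpowers α ≤ F := Subgroup.zpowers_le.mpr hfix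
    exact fun β hβ => hle hβ
  obtain ⟨m, y, hm, hy⟩ := exists_pow_inner hcore P hPc (Subgroup.zpowers α) j hAcard hAc hfixA
    ⟨α, Subgroup.mem_zpowers α⟩
  have hpow : α ^ m = MulAut.conj y⁻¹ := by
    ext x
    have h0 := hy x
    rw [MulAut.conj_apply, inv_inv]
    exact h0
  have hcop : m.Coprime (orderOf α) := by
    rw [hj]
    apply Nat.Coprime.pow_right
    exact ((Nat.Prime.coprime_iff_not_dvd Nat.prime_two).mpr hm).symm
  obtain ⟨k, hk⟩ := exists_pow_eq_self_of_coprime hcop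
  refine ⟨(y⁻¹) ^ k, ?_⟩
  intro x
  have h1 : α = MulAut.conj ((y⁻¹) ^ k) := by
    rw [map_pow, ← hpow, hk]
  conv_lhs => rw [h1]
  rw [MulAut.conj_apply]

end Cfsg.Agent.Lib.Helper3.InnerAbelSylow
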