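import Mathlib

/-!
# MS: a `q'`-group acting faithfully on a finite abelian `q`-group with all orbits of `p`-power size is solvable.
Definitions for the farm (owner helper3).  `V` is written additively, `H` acts by `DistribMulAction H V`.
-/

set_option autoImplicit false
set_option linter.unusedVariables false
set_option linter.unusedSectionVars false
set_option linter.style.longLine false

namespace Cfsg.Agent.Lib.Helper3.MS

universe u v

variable {H : Type u} [Group H] {V : Type v} [AddCommGroup V] [DistribMulAction H V]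

/-- The kernel of the action of `H` on `V`. -/
def kerSub (H : Type u) [Group H] (V : Type v) [AddCommGroup V] [DistribMulAction H V] : Subgroup H where
  carrier := {x | ∀ v : V, x • v = v}
  mul_mem' := by
    intro a b ha hb v
    rw [mul_smul, hb v, ha v]
  one_mem' := by
    intro v
    exact one_smul _ _
  inv_mem' := by
    intro a ha v
    rw [inv_smul_eq_iff, ha v]

theorem mem_kerSub {x : H} : x ∈ kerSub H V ↔ ∀ v : V, x • v = v := Iff.rfl

instance kerSub_normal : (kerSub H V).Normal :=
  ⟨by
    intro n hn g v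
    rw [mul_smul, mul_smul, hn, smul_inv_smul]⟩

/-- The fixed points of a single element, as an additive subgroup. -/
def fixedPts (g : H) : AddSubgroup V where
  carrier := {v | g • v = v}
  add_mem' := by
    intro a b ha hb
    show g • (a + b) = a + b
    rw [smul_add, ha, hb]
  zero_mem' := smul_zero g
  neg_mem' := by
    intro a ha
    show g • (-a) = -a
    rw [smul_neg, ha]

theorem mem_fixedPts {g : H} {v : V} : v ∈ fixedPts (V := V) g ↔ g • v = v := Iff.rfl

/-- Hypotheses of MS, not necessarily faithful version (`q` does not divide the order of `H / kernel`). -/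
structure HypNF (p q : ℕ) (H : Type u) [Group H] (V : Type v) [AddCommGroup V] [DistribMulAction H V] :
    Prop where
  hp : p.Prime
  hq : q.Prime
  finH : Finite H
  finV : Finite V
  cardV : ∃ n : ℕ, Nat.card V = q ^ n
  copNF : (kerSub H V).index.Coprime q
  orb : ∀ v : V, ∃ a : ℕ, (MulAction.stabilizer H v).index = p ^ a

/-- Hypotheses of MS (faithful version). -/
structure Hyp (p q : ℕ) (H : Type u) [Group H] (V : Type v) [AddCommGroup V] [DistribMulAction H V] :
    Prop where
  hp : p.Prime
  hq : q.Prime
  finH : Finite H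
  finV : Finite V
  cardV : ∃ n : ℕ, Nat.card V = q ^ n
  cop : (Nat.card H).Coprime q
  faithful : ∀ x : H, (∀ v : V, x • v = v) → x = 1
  orb : ∀ v : V, ∃ a : ℕ, (MulAction.stabilizer H v).index = p ^ a

/-- A minimal counterexample to MS. -/
structure MinCE (p q : ℕ) (H : Type u) [Group H] (V : Type v) [AddCommGroup V] [DistribMulAction H V] :
    Prop extends Hyp p q H V where
  notSolv : ¬ Group.IsSolvable H
  normalSolv : ∀ N : Subgroup H, N.Normal → N ≠ ⊤ → Group.IsSolvable N
  irred : ∀ W : AddSubgroup V, (∀ x : H, ∀ w ∈ W, x • w ∈ W) → W = ⊥ ∨ W = ⊤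

/-- Internal direct decomposition of `V` into the additive subgroups `W i`. -/
def IsDecomp {ι : Type*} [Fintype ι] (W : ι → AddSubgroup V) : Prop :=
  (∀ v : V, ∃ f : ι → V, (∀ i, f i ∈ W i) ∧ ∑ i, f i = v) ∧
  (∀ f : ι → V, (∀ i, f i ∈ W i) → ∑ i, f i = 0 → ∀ i, f i = 0)

/-- The action of `H` on an invariant additive subgroup. -/
@[reducible] def subAction (W : AddSubgroup V) (hW : ∀ x : H, ∀ w ∈ W, x • w ∈ W) :
    DistribMulAction H ↥W where
  smul x w := ⟨x • (w : V), hW x w w.2⟩
  one_smul w := Subtype.ext (one_smul H (w : V))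
  mul_smul x y w := Subtype.ext (mul_smul x y (w : V))
  smul_zero x := Subtype.ext (smul_zero x)
  smul_add x w w' := Subtype.ext (smul_add x (w : V) (w' : V))

theorem subAction_coe (W : AddSubgroup V) (hW : ∀ x : H, ∀ w ∈ W, x • w ∈ W) (x : H) (w : ↥W) :
    ((@HSMul.hSMul H ↥W ↥W (@instHSMul H ↥W (subAction W hW).toSMul) x w : ↥W) : V) = x • (w : V) := rfl

/-- The action of `H` on the quotient by an invariant additive subgroup. -/
@[reducible] def quotAction (W : AddSubgroup V) (hW : ∀ x : H, ∀ w ∈ W, x • w ∈ W) :
    DistribMulAction H (V ⧸ W) where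
  smul x := QuotientAddGroup.map W W (DistribSMul.toAddMonoidHom V x) (fun w hw => hW x w hw)
  one_smul := by
    intro b
    induction b using QuotientAddGroup.induction_on with
    | H z => exact congrArg _ (one_smul H z)
  mul_smul := by
    intro x y b
    induction b using QuotientAddGroup.induction_on with
    | H z => exact congrArg _ (mul_smul x y z)
  smul_zero := by
    intro x
    exact map_zero _
  smul_add := by
    intro x a b
    exact map_add _ a b

theorem quotAction_mk (W : AddSubgroup V) (hW : ∀ x : H, ∀ w ∈ W, x • w ∈ W) (x : H) (z : V) :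
    (@HSMul.hSMul H (V ⧸ W) (V ⧸ W) (@instHSMul H (V ⧸ W) (quotAction W hW).toSMul) x
      (QuotientAddGroup.mk z : V ⧸ W)) = (QuotientAddGroup.mk (x • z) : V ⧸ W) := rfl

/-- The action of `H ⧸ K` on `V` when `K` acts trivially. -/
@[reducible] def quotGroupAction (K : Subgroup H) [K.Normal] (hK : ∀ k ∈ K, ∀ v : V, k • v = v) :
    DistribMulAction (H ⧸ K) V where
  smul xb v := Quotient.liftOn' xb (fun x => x • v) (by
    intro a b hab
    have h1 : a⁻¹ * b ∈ K := QuotientGroup.leftRel_apply.mp hab
    have h2 := hK _ h1 v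
    show a • v = b • v
    rw [← h2, ← mul_smul, mul_inv_cancel_left, h2])
  one_smul v := one_smul H v
  mul_smul := by
    intro xb yb v
    induction xb using QuotientGroup.induction_on with
    | H x =>
      induction yb using QuotientGroup.induction_on with
      | H y => exact mul_smul x y v
  smul_zero := by
    intro xb
    induction xb using QuotientGroup.induction_on with
    | H x => exact smul_zero x
  smul_add := by
    intro xb a b
    induction xb using QuotientGroup.induction_on with
    | H x => exact smul_add x a b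

theorem quotGroupAction_mk (K : Subgroup H) [K.Normal] (hK : ∀ k ∈ K, ∀ v : V, k • v = v) (x : H) (v : V) :
    (@HSMul.hSMul (H ⧸ K) V V (@instHSMul (H ⧸ K) V (quotGroupAction K hK).toSMul)
      (QuotientGroup.mk x : H ⧸ K) v) = x • v := rfl

/-- The orbit of `v0` as a finset. -/
noncomputable def orb (H : Type u) [Group H] {V : Type v} [AddCommGroup V] [DistribMulAction H V] [Finite V]
    (v0 : V) : Finset V :=
  (Set.toFinite (MulAction.orbit H v0)).toFinset

theorem mem_orb [Finite V] {v0 u : V} : u ∈ orb H v0 ↔ ∃ x : H, x • v0 = u := by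
  unfold orb
  rw [Set.Finite.mem_toFinset]
  exact MulAction.mem_orbit_iff

/-- Data of a 2-group with a cyclic subgroup `⟨a⟩` of index 2 and `b a b⁻¹ = a ^ j`, `j = -1` or `j = 2^(k-1) - 1`
(generalized quaternion, dihedral, quasidihedral). -/
def MaxClassData {P : Type*} [Group P] (a b : P) (k j : ℕ) : Prop :=
  orderOf a = 2 ^ k ∧ Nat.card P = 2 ^ (k + 1) ∧ b ∉ Subgroup.zpowers a ∧ b * a * b⁻¹ = a ^ j ∧
    ((2 ≤ k ∧ j = 2 ^ k - 1) ∨ (3 ≤ k ∧ j = 2 ^ (k - 1) - 1))

end Cfsg.Agent.Lib.Helper3.MS
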