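import Mathlib
import Cfsg.Agent.Lib.Helper3.MSDefs
import Cfsg.Agent.Lib.Helper7.MSF2a

set_option autoImplicit false
set_option maxHeartbeats 4000000
set_option linter.unusedVariables false
set_option linter.unusedSectionVars false
set_option linter.style.longLine false
set_option linter.style.haveILetI false

namespace Cfsg.Agent.Lib.Helper3.MS

/-- domain version of `field_core`. -/
theorem h3_field_core_domain (q : ℕ) [Fact q.Prime] {L : Type*} [CommRing L] [IsDomain L] [Finite L]
    [Algebra (ZMod q) L]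
    (σ : L ≃ₐ[ZMod q] L) (a : L) (k j : ℕ)
    (hj : (2 ≤ k ∧ j = 2 ^ k - 1) ∨ (3 ≤ k ∧ j = 2 ^ (k - 1) - 1))
    (ha : orderOf a = 2 ^ k) (hσ : σ a = a ^ j) (hgen : Algebra.adjoin (ZMod q) {a} = ⊤) :
    Nat.card L ∣ q ^ 2 := by
  classical
  letI := Fintype.ofFinite L
  letI : Field L := Fintype.fieldOfDomain L
  exact field_core q σ a k j hj ha hσ hgen

theorem h3_lemmaF_mod {V : Type*} [AddCommGroup V] [Finite V] (q : ℕ) [Fact q.Prime] [Module (ZMod q) V]
    (α β : V ≃+ V) (k j : ℕ) (hj : (2 ≤ k ∧ j = 2 ^ k - 1) ∨ (3 ≤ k ∧ j = 2 ^ (k - 1) - 1))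
    (hord : ∀ n : ℕ, (∀ v, (α^[n]) v = v) ↔ 2 ^ k ∣ n)
    (hconj : ∀ v, β (α v) = (α^[j]) (β v))
    (hirr : ∀ W : AddSubgroup V, (∀ w ∈ W, α w ∈ W) → W = ⊥ ∨ W = ⊤) : Nat.card V ∣ q ^ 2 := by
  classical
  by_cases hV : ∀ v : V, v = 0
  · have : Subsingleton V := ⟨fun a b => by rw [hV a, hV b]⟩
    rw [Nat.card_unique]
    exact one_dvd _
  push Not at hV
  obtain ⟨v0, hv0⟩ := hV
  let a : Module.End (ZMod q) V := (α : V →+ V).toZModLinearMap q
  let bE : V ≃ₗ[ZMod q] V := LinearEquiv.ofBijective ((β : V →+ V).toZModLinearMap q) β.bijective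
  have ha_apply : ∀ v, a v = α v := fun v => rfl
  have hb_apply : ∀ v, bE v = β v := fun v => rfl
  have hapow : ∀ (n : ℕ) (v : V), (a ^ n) v = (α^[n]) v := by
    intro n v
    rw [Module.End.pow_apply]
    rfl
  let A : Subalgebra (ZMod q) (Module.End (ZMod q) V) := Algebra.adjoin (ZMod q) {a}
  have haA : a ∈ A := Algebra.subset_adjoin (Set.mem_singleton a)
  have hmc : IsMulCommutative A := Algebra.isMulCommutative_adjoin (ZMod q) (s := {a}) (by
    intro x hx y hy
    rw [Set.mem_singleton_iff] at hx hy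
    rw [hx, hy])
  have hcomm : ∀ x y : A, x * y = y * x := fun x y => hmc.is_comm.comm x y
  letI : CommRing A := { (inferInstance : Ring A) with mul_comm := hcomm }
  -- elements of A commute with a
  have hca : ∀ (T : A) (v : V), (T : Module.End (ZMod q) V) (a v) = a ((T : Module.End (ZMod q) V) v) := by
    intro T v
    have h1 := hcomm T ⟨a, haA⟩
    have h2 : (T : Module.End (ZMod q) V) * a = a * (T : Module.End (ZMod q) V) := congrArg Subtype.val h1
    have h3 := congrArg (fun f : Module.End (ZMod q) V => f v) h2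
    simpa [Module.End.mul_apply] using h3
  -- nonzero elements of A are injective
  have hinj : ∀ T : A, T ≠ 0 → ∀ v : V, (T : Module.End (ZMod q) V) v = 0 → v = 0 := by
    intro T hT
    let W : AddSubgroup V := (LinearMap.ker (T : Module.End (ZMod q) V)).toAddSubgroup
    have hW : ∀ w ∈ W, α w ∈ W := by
      intro w hw
      have hw' : (T : Module.End (ZMod q) V) w = 0 := hw
      show (T : Module.End (ZMod q) V) (α w) = 0
      rw [← ha_apply, hca T w, hw', map_zero]
    rcases hirr W hW with h | h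
    · intro v hv
      have : v ∈ W := hv
      rw [h] at this
      exact this
    · exfalso
      apply hT
      apply Subtype.ext
      apply LinearMap.ext
      intro v
      have : v ∈ W := h ▸ AddSubgroup.mem_top v
      exact this
  -- A is a finite domain
  haveI : Finite (Module.End (ZMod q) V) :=
    Finite.of_injective (fun f : Module.End (ZMod q) V => (f : V → V)) DFunLike.coe_injective
  haveI : Finite A := inferInstance
  haveI : Nontrivial A := by
    refine ⟨⟨1, 0, ?_⟩⟩
    intro h10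
    have h1 : ((1 : A) : Module.End (ZMod q) V) v0 = ((0 : A) : Module.End (ZMod q) V) v0 := by rw [h10]
    simp at h1
    exact hv0 h1
  haveI : NoZeroDivisors A := by
    refine ⟨?_⟩
    intro T S hTS
    by_contra hne
    push Not at hne
    apply hne.2
    apply Subtype.ext
    apply LinearMap.ext
    intro v
    have h1 : ((T * S : A) : Module.End (ZMod q) V) v = 0 := by rw [hTS]; simp
    have h2 : (T : Module.End (ZMod q) V) ((S : Module.End (ZMod q) V) v) = 0 := by
      simpa [Module.End.mul_apply] using h1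
    simpa using hinj T hne.1 _ h2
  haveI : IsDomain A := NoZeroDivisors.to_isDomain A
  -- evaluation at v0 is a bijection A → V
  have hev_inj : Function.Injective (fun T : A => (T : Module.End (ZMod q) V) v0) := by
    intro T S hTS
    by_contra hne
    have h1 : T - S ≠ 0 := sub_ne_zero.mpr hne
    have h2 : ((T - S : A) : Module.End (ZMod q) V) v0 = 0 := by
      have : (T : Module.End (ZMod q) V) v0 = (S : Module.End (ZMod q) V) v0 := hTS
      simp [this]
    exact hv0 (hinj _ h1 v0 h2)
  have hev_surj : Function.Surjective (fun T : A => (T : Module.End (ZMod q) V) v0) := by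
    let W : AddSubgroup V :=
      { carrier := Set.range (fun T : A => (T : Module.End (ZMod q) V) v0)
        add_mem' := by
          rintro _ _ ⟨T, rfl⟩ ⟨S, rfl⟩
          exact ⟨T + S, by simp⟩
        zero_mem' := ⟨0, by simp⟩
        neg_mem' := by
          rintro _ ⟨T, rfl⟩
          exact ⟨-T, by simp⟩ }
    have hW : ∀ w ∈ W, α w ∈ W := by
      rintro _ ⟨T, rfl⟩
      refine ⟨⟨a, haA⟩ * T, ?_⟩
      simp [Module.End.mul_apply, ha_apply]
    rcases hirr W hW with h | h
    · exfalso
      have : v0 ∈ W := ⟨1, by simp⟩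
      rw [h] at this
      exact hv0 this
    · intro v
      have : v ∈ W := h ▸ AddSubgroup.mem_top v
      exact this
  have hcard : Nat.card A = Nat.card V := Nat.card_eq_of_bijective _ ⟨hev_inj, hev_surj⟩
  rw [← hcard]
  -- conjugation by β
  let cj : Module.End (ZMod q) V ≃ₐ[ZMod q] Module.End (ZMod q) V := LinearEquiv.conjAlgEquiv (ZMod q) bE
  have hcj_apply : ∀ (f : Module.End (ZMod q) V) (v : V), cj f v = bE (f (bE.symm v)) := by
    intro f v
    simp [cj, LinearEquiv.conjAlgEquiv, LinearEquiv.conj_apply]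
  have hcj_a : cj a = a ^ j := by
    apply LinearMap.ext
    intro v
    rw [hcj_apply, hapow, hb_apply, ha_apply, hconj, ← hb_apply, LinearEquiv.apply_symm_apply]
  have hcjA : ∀ T : A, cj (T : Module.End (ZMod q) V) ∈ A := by
    intro T
    have h1 : (A.map (cj : Module.End (ZMod q) V →ₐ[ZMod q] Module.End (ZMod q) V)) ≤ A := by
      show Subalgebra.map _ (Algebra.adjoin (ZMod q) {a}) ≤ A
      rw [AlgHom.map_adjoin]
      apply Algebra.adjoin_le
      rintro _ ⟨x, hx, rfl⟩
      rw [Set.mem_singleton_iff] at hx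
      subst hx
      show cj a ∈ A
      rw [hcj_a]
      exact Subalgebra.pow_mem A haA j
    exact h1 (Subalgebra.mem_map.mpr ⟨T, T.2, rfl⟩)
  let σ0 : A →ₐ[ZMod q] A :=
    ((cj : Module.End (ZMod q) V →ₐ[ZMod q] Module.End (ZMod q) V).comp A.val).codRestrict A hcjA
  have hσ0_inj : Function.Injective σ0 := by
    intro T S hTS
    have h1 : cj (T : Module.End (ZMod q) V) = cj (S : Module.End (ZMod q) V) := congrArg Subtype.val hTS
    exact Subtype.ext (cj.injective h1)
  let σ : A ≃ₐ[ZMod q] A := AlgEquiv.ofBijective σ0 ⟨hσ0_inj, Finite.injective_iff_surjective.mp hσ0_inj⟩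
  let a' : A := ⟨a, haA⟩
  have hσa : σ a' = a' ^ j := by
    apply Subtype.ext
    show cj a = ((a' ^ j : A) : Module.End (ZMod q) V)
    rw [hcj_a]
    rfl
  have hpow : ∀ n : ℕ, a' ^ n = 1 ↔ 2 ^ k ∣ n := by
    intro n
    rw [← hord n]
    constructor
    · intro h v
      have h1 : ((a' ^ n : A) : Module.End (ZMod q) V) v = ((1 : A) : Module.End (ZMod q) V) v := by rw [h]
      have h2 : (a ^ n) v = v := by simpa [a'] using h1
      rw [← hapow, h2]
    · intro h
      apply Subtype.ext
      apply LinearMap.ext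
      intro v
      show (a ^ n) v = v
      rw [hapow, h v]
  have hordA : orderOf a' = 2 ^ k :=
    Nat.dvd_antisymm (orderOf_dvd_of_pow_eq_one ((hpow _).2 dvd_rfl)) ((hpow _).1 (pow_orderOf_eq_one a'))
  have hgen : Algebra.adjoin (ZMod q) {a'} = ⊤ := by
    have h1 := Algebra.adjoin_adjoin_coe_preimage (R := ZMod q) (s := ({a} : Set (Module.End (ZMod q) V)))
    have h2 : (Subtype.val ⁻¹' ({a} : Set (Module.End (ZMod q) V)) : Set A) = {a'} := by
      ext T
      simp [a', Subtype.ext_iff]
    rw [← h2]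
    exact h1
  exact h3_field_core_domain q σ a' k j hj hordA hσa hgen

theorem lemmaF {V : Type*} [AddCommGroup V] [Finite V] (q : ℕ) [Fact q.Prime] (hqV : ∀ v : V, q • v = 0)
    (α β : V ≃+ V) (k j : ℕ) (hj : (2 ≤ k ∧ j = 2 ^ k - 1) ∨ (3 ≤ k ∧ j = 2 ^ (k - 1) - 1))
    (hord : ∀ n : ℕ, (∀ v, (α^[n]) v = v) ↔ 2 ^ k ∣ n)
    (hconj : ∀ v, β (α v) = (α^[j]) (β v))
    (hirr : ∀ W : AddSubgroup V, (∀ w ∈ W, α w ∈ W) → W = ⊥ ∨ W = ⊤) : Nat.card V ∣ q ^ 2 := by
  letI : Module (ZMod q) V := AddCommGroup.zmodModule hqV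
  exact h3_lemmaF_mod q α β k j hj hord hconj hirr

end Cfsg.Agent.Lib.Helper3.MS
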