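import Mathlib

/-!
# Breadth and class of a finite `p`-group (Leedham-Green, Neumann, Wiegold)
-/

set_option autoImplicit false

namespace Cfsg.Agent.Lib.Helper3.Breadth

open scoped commutatorElement

variable {G : Type*} [Group G]

theorem lcs_normal (n : ℕ) : ((⊤ : Subgroup G).lowerCentralSeries n).Normal := inferInstance

/-- two-step centralizer -/
def twoStep (G : Type*) [Group G] (j : ℕ) : Subgroup G where
  carrier := {x | ∀ g ∈ (⊤ : Subgroup G).lowerCentralSeries j,
    ⁅g, x⁆ ∈ (⊤ : Subgroup G).lowerCentralSeries (j + 2)}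
  one_mem' := by
    intro g _
    rw [commutatorElement_one_right]
    exact Subgroup.one_mem _
  mul_mem' := by
    intro x y hx hy g hg
    have : ⁅g, x * y⁆ = ⁅g, x⁆ * (x * ⁅g, y⁆ * x⁻¹) := by
      simp only [commutatorElement_def]; group
    rw [this]
    exact Subgroup.mul_mem _ (hx g hg) ((lcs_normal (j + 2)).conj_mem _ (hy g hg) x)
  inv_mem' := by
    intro x hx g hg
    have : ⁅g, x⁻¹⁆ = x⁻¹ * ⁅g, x⁆⁻¹ * x⁻¹⁻¹ := by
      simp only [commutatorElement_def]; group
    rw [this]
    exact (lcs_normal (j + 2)).conj_mem _ (Subgroup.inv_mem _ (hx g hg)) x⁻¹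

theorem mem_twoStep {j : ℕ} {x : G} : x ∈ twoStep G j ↔
    ∀ g ∈ (⊤ : Subgroup G).lowerCentralSeries j,
      ⁅g, x⁆ ∈ (⊤ : Subgroup G).lowerCentralSeries (j + 2) := Iff.rfl

/-- centralizer of `x` modulo the `j`-th term of the lower central series -/
def cstep (j : ℕ) (x : G) : Subgroup G where
  carrier := {g | ⁅g, x⁆ ∈ (⊤ : Subgroup G).lowerCentralSeries j}
  one_mem' := by
    show ⁅(1 : G), x⁆ ∈ (⊤ : Subgroup G).lowerCentralSeries j
    rw [commutatorElement_one_left]
    exact Subgroup.one_mem _
  mul_mem' := by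
    intro g h hg hh
    have : ⁅g * h, x⁆ = (g * ⁅h, x⁆ * g⁻¹) * ⁅g, x⁆ := by
      simp only [commutatorElement_def]; group
    show ⁅g * h, x⁆ ∈ (⊤ : Subgroup G).lowerCentralSeries j
    rw [this]
    exact Subgroup.mul_mem _ ((lcs_normal j).conj_mem _ hh g) hg
  inv_mem' := by
    intro g hg
    have : ⁅g⁻¹, x⁆ = g⁻¹ * ⁅g, x⁆⁻¹ * g⁻¹⁻¹ := by
      simp only [commutatorElement_def]; group
    show ⁅g⁻¹, x⁆ ∈ (⊤ : Subgroup G).lowerCentralSeries j
    rw [this]
    exact (lcs_normal j).conj_mem _ (Subgroup.inv_mem _ hg) g⁻¹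

theorem mem_cstep {j : ℕ} {x g : G} : g ∈ cstep j x ↔
    ⁅g, x⁆ ∈ (⊤ : Subgroup G).lowerCentralSeries j := Iff.rfl

theorem cstep_anti (j : ℕ) (x : G) : cstep (j + 1) x ≤ cstep j x := fun _ hg =>
  Subgroup.lowerCentralSeries_antitone _ (Nat.le_succ j) hg

theorem cstep_lt {j : ℕ} {x : G} (hx : x ∉ twoStep G j) : cstep (j + 2) x < cstep (j + 1) x := by
  refine lt_of_le_of_ne (cstep_anti (j + 1) x) ?_
  intro he
  apply hx
  intro g hg
  have h1 : g ∈ cstep (j + 1) x := by
    rw [mem_cstep, Subgroup.lowerCentralSeries_succ]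
    exact Subgroup.commutator_mem_commutator hg (Subgroup.mem_top x)
  rw [← he] at h1
  exact h1

theorem cstep_eq_centralizer {c : ℕ} (hc : (⊤ : Subgroup G).lowerCentralSeries c = ⊥) (x : G) :
    cstep c x = Subgroup.centralizer ({x} : Set G) := by
  ext g
  rw [mem_cstep, hc, Subgroup.mem_bot, commutatorElement_eq_one_iff_mul_comm,
    Subgroup.mem_centralizer_singleton_iff]

theorem lcs_stable {m : ℕ}
    (h : (⊤ : Subgroup G).lowerCentralSeries (m + 1) = (⊤ : Subgroup G).lowerCentralSeries m) :
    ∀ k, (⊤ : Subgroup G).lowerCentralSeries (m + k) = (⊤ : Subgroup G).lowerCentralSeries m := by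
  intro k
  induction k with
  | zero => rfl
  | succ k ih =>
    rw [← add_assoc, Subgroup.lowerCentralSeries_succ, ih, ← Subgroup.lowerCentralSeries_succ, h]

theorem twoStep_ne_top {c j : ℕ} (hc : (⊤ : Subgroup G).lowerCentralSeries c = ⊥)
    (hmin : ∀ m < c, (⊤ : Subgroup G).lowerCentralSeries m ≠ ⊥) (hj : j + 1 < c) :
    twoStep G j ≠ ⊤ := by
  intro hT
  have h1 : (⊤ : Subgroup G).lowerCentralSeries (j + 1) ≤
      (⊤ : Subgroup G).lowerCentralSeries (j + 2) := by
    rw [Subgroup.lowerCentralSeries_succ, Subgroup.commutator_le]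
    intro g hg x _
    have : x ∈ twoStep G j := by rw [hT]; exact Subgroup.mem_top x
    exact this g hg
  have h2 : (⊤ : Subgroup G).lowerCentralSeries (j + 1 + 1) =
      (⊤ : Subgroup G).lowerCentralSeries (j + 1) :=
    le_antisymm (Subgroup.lowerCentralSeries_antitone _ (Nat.le_succ _)) h1
  have h3 := lcs_stable h2 (c - (j + 1))
  rw [Nat.add_sub_cancel' hj.le, hc] at h3
  exact hmin (j + 1) hj h3.symm

theorem mul_card_le_of_lt [Finite G] {p : ℕ} [Fact p.Prime] (hG : IsPGroup p G)
    {H K : Subgroup G} (hHK : H < K) : p * Nat.card H ≤ Nat.card K := by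
  obtain ⟨m, hm⟩ := Subgroup.card_dvd_of_le hHK.le
  obtain ⟨a, ha⟩ := IsPGroup.iff_card.1 (hG.to_subgroup K)
  have hmd : m ∣ p ^ a := by rw [← ha, hm]; exact dvd_mul_left m _
  obtain ⟨i, -, hi⟩ := (Nat.dvd_prime_pow (Fact.out : p.Prime)).1 hmd
  have hi0 : i ≠ 0 := by
    intro h0
    rw [h0, pow_zero] at hi
    rw [hi, mul_one] at hm
    exact hHK.ne (Subgroup.eq_of_le_of_card_ge hHK.le hm.le)
  have hpm : p ≤ m := by
    rw [hi]
    calc p = p ^ 1 := (pow_one p).symm
      _ ≤ p ^ i := Nat.pow_le_pow_right (Fact.out : p.Prime).pos (Nat.one_le_iff_ne_zero.2 hi0)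
  rw [hm, mul_comm (Nat.card H)]
  exact Nat.mul_le_mul_right _ hpm

open Classical in
theorem pow_count_mul_card_le [Finite G] {p : ℕ} [Fact p.Prime] (hG : IsPGroup p G) (x : G)
    (k : ℕ) :
    p ^ ((Finset.range k).filter (fun j => x ∉ twoStep G j)).card * Nat.card (cstep (k + 1) x)
      ≤ Nat.card G := by
  induction k with
  | zero =>
    simp only [Finset.range_zero, Finset.filter_empty, Finset.card_empty, pow_zero, one_mul]
    exact Subgroup.card_le_card_group _
  | succ k ih =>
    rw [Finset.range_add_one, Finset.filter_insert]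
    by_cases hx : x ∈ twoStep G k
    · rw [if_neg (not_not.2 hx)]
      refine le_trans (Nat.mul_le_mul_left _ ?_) ih
      exact Subgroup.card_le_of_le (cstep_anti (k + 1) x)
    · rw [if_pos hx, Finset.card_insert_of_notMem (by simp), pow_succ, mul_assoc]
      refine le_trans (Nat.mul_le_mul_left _ ?_) ih
      exact mul_card_le_of_lt hG (cstep_lt hx)

open Classical in
/-- The main inequality. -/
theorem class_bound [Finite G] {p : ℕ} [Fact p.Prime] (hG : IsPGroup p G) (b : ℕ) (hb1 : b ≠ 0)
    (hb : ∀ x : G, (Subgroup.centralizer ({x} : Set G)).index ≤ p ^ b) {c : ℕ}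
    (hc : (⊤ : Subgroup G).lowerCentralSeries c = ⊥)
    (hmin : ∀ m < c, (⊤ : Subgroup G).lowerCentralSeries m ≠ ⊥) :
    (c - 1) * (p - 1) < b * p := by
  haveI : Fintype G := Fintype.ofFinite G
  have hp : p.Prime := Fact.out
  set A := c - 1 with hA
  set N := Nat.card G with hN
  -- per-element count
  have hn : ∀ x : G, ((Finset.range A).filter (fun j => x ∉ twoStep G j)).card ≤ b := by
    intro x
    by_cases hc0 : c = 0
    · have : A = 0 := by rw [hA, hc0]
      rw [this]; simp
    have hAc : A + 1 = c := by omega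
    have h1 := pow_count_mul_card_le hG x A
    rw [hAc, cstep_eq_centralizer hc] at h1
    have h2 := Subgroup.card_mul_index (Subgroup.centralizer ({x} : Set G))
    have h3 : 0 < Nat.card (Subgroup.centralizer ({x} : Set G)) := Nat.card_pos
    have h4 : p ^ ((Finset.range A).filter (fun j => x ∉ twoStep G j)).card ≤ p ^ b := by
      have h5 : p ^ ((Finset.range A).filter (fun j => x ∉ twoStep G j)).card *
          Nat.card (Subgroup.centralizer ({x} : Set G)) ≤
          p ^ b * Nat.card (Subgroup.centralizer ({x} : Set G)) := by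
        calc _ ≤ Nat.card G := h1
          _ = (Subgroup.centralizer ({x} : Set G)).index *
              Nat.card (Subgroup.centralizer ({x} : Set G)) := by rw [← h2, mul_comm]
          _ ≤ _ := Nat.mul_le_mul_right _ (hb x)
      exact Nat.le_of_mul_le_mul_right h5 h3
    exact (Nat.pow_le_pow_iff_right hp.one_lt).1 h4
  have hn1 : ((Finset.range A).filter (fun j => (1 : G) ∉ twoStep G j)).card = 0 := by
    rw [Finset.card_eq_zero, Finset.filter_eq_empty_iff]
    intro j _
    exact not_not.2 (Subgroup.one_mem _)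
  -- sum over x
  set S := ∑ x : G, ((Finset.range A).filter (fun j => x ∉ twoStep G j)).card with hS
  have hS1 : S + b ≤ b * N := by
    have h1 : S ≤ ∑ x : G, (if x = 1 then 0 else b) := by
      apply Finset.sum_le_sum
      intro x _
      by_cases hx : x = 1
      · rw [if_pos hx, hx, hn1]
      · rw [if_neg hx]; exact hn x
    have h2 : (∑ x : G, (if x = 1 then 0 else b)) + b = b * N := by
      have : ∑ x : G, ((if x = 1 then 0 else b) + (if x = 1 then b else 0)) = ∑ _x : G, b := by
        apply Finset.sum_congr rfl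
        intro x _
        by_cases hx : x = 1 <;> simp [hx]
      rw [Finset.sum_add_distrib, Finset.sum_ite_eq' Finset.univ (1 : G) (fun _ => b)] at this
      simp only [Finset.mem_univ, if_true] at this
      rw [this, Finset.sum_const, Finset.card_univ, hN, Nat.card_eq_fintype_card, smul_eq_mul,
        mul_comm]
    omega
  -- sum over j
  have hS2 : S = ∑ j ∈ Finset.range A, (Finset.univ.filter (fun x : G => x ∉ twoStep G j)).card := by
    rw [hS]
    simp_rw [Finset.card_filter]
    exact Finset.sum_comm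
  have hj : ∀ j ∈ Finset.range A,
      p * N ≤ p * (Finset.univ.filter (fun x : G => x ∉ twoStep G j)).card + N := by
    intro j hj
    rw [Finset.mem_range] at hj
    have hjc : j + 1 < c := by omega
    have hne := twoStep_ne_top hc hmin hjc
    have h1 : p * Nat.card (twoStep G j) ≤ Nat.card (⊤ : Subgroup G) :=
      mul_card_le_of_lt hG (lt_top_iff_ne_top.2 hne)
    rw [Subgroup.card_top] at h1
    have h2 : (Finset.univ.filter (fun x : G => x ∈ twoStep G j)).card +
        (Finset.univ.filter (fun x : G => x ∉ twoStep G j)).card = N := by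
      rw [Finset.card_filter_add_card_filter_not, Finset.card_univ, hN,
        Nat.card_eq_fintype_card]
    have h3 : (Finset.univ.filter (fun x : G => x ∈ twoStep G j)).card =
        Nat.card (twoStep G j) := by
      rw [Nat.card_eq_fintype_card, Fintype.card_subtype]
    rw [h3] at h2
    calc p * N = p * Nat.card (twoStep G j) +
          p * (Finset.univ.filter (fun x : G => x ∉ twoStep G j)).card := by
          rw [← h2, mul_add]
      _ ≤ _ := by omega
  have hS3 : A * (p * N) ≤ p * S + A * N := by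
    have := Finset.sum_le_sum hj
    rw [Finset.sum_const, Finset.card_range, smul_eq_mul, Finset.sum_add_distrib,
      Finset.sum_const, Finset.card_range, smul_eq_mul, ← Finset.mul_sum, ← hS2] at this
    exact this
  have hNpos : 0 < N := Nat.card_pos
  by_contra hcon
  push Not at hcon
  obtain ⟨q, rfl⟩ : ∃ q, p = q + 1 := ⟨p - 1, by have := hp.pos; omega⟩
  simp only [Nat.add_sub_cancel] at hcon
  have hbpos : 0 < b := Nat.pos_of_ne_zero hb1
  nlinarith [Nat.mul_le_mul_right N hcon, Nat.mul_le_mul_left (q + 1) hS1]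

end Cfsg.Agent.Lib.Helper3.Breadth
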