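import Mathlib
set_option autoImplicit false
set_option maxHeartbeats 4000000
set_option linter.unusedVariables false
set_option linter.unusedSectionVars false
set_option linter.style.longLine false
open Matrix

/-! # Minimal index of proper subgroups of `SL_n(q)` (S2140): shared definitions -/

namespace Cfsg.Agent.Lib.Helper3.MinDeg

variable {F : Type*} [Field F]

section general
variable {ι : Type*} [DecidableEq ι] [Fintype ι]

/-- transvection matrix `1 + v φᵀ` -/
def tvM (v φ : ι → F) : Matrix ι ι F := 1 + vecMulVec v φ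

theorem det_tvM (v φ : ι → F) : (tvM v φ).det = 1 + φ ⬝ᵥ v := by
  have := Matrix.det_one_add_replicateCol_mul_replicateRow (ι := Unit) v φ
  rwa [← Matrix.vecMulVec_eq Unit] at this

open Classical in
/-- the transvection `1 + v φᵀ` as an element of `SL` (junk value `1` unless `φ ⬝ᵥ v = 0`). -/
noncomputable def tv (v φ : ι → F) : Matrix.SpecialLinearGroup ι F :=
  if h : φ ⬝ᵥ v = 0 then ⟨tvM v φ, by rw [det_tvM, h, add_zero]⟩ else 1

theorem tv_coe {v φ : ι → F} (h : φ ⬝ᵥ v = 0) :
    ((tv v φ : Matrix.SpecialLinearGroup ι F) : Matrix ι ι F) = 1 + vecMulVec v φ := by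
  simp [tv, h, tvM]

end general

theorem sl_ext {n : Type*} [DecidableEq n] [Fintype n] {R : Type*} [CommRing R]
    {A B : Matrix.SpecialLinearGroup n R} (h : (A : Matrix n n R) = B) : A = B := Subtype.ext h

/-- index type for the block decomposition `1 + k` -/
abbrev Idx (k : ℕ) := Unit ⊕ Fin k

variable {k : ℕ}

/-- the element `[[1, r],[0, 1]]` of the unipotent radical `Q` of the stabiliser of the first point -/
def qel (r : Fin k → F) : Matrix.SpecialLinearGroup (Idx k) F :=
  ⟨fromBlocks 1 (replicateRow Unit r) 0 1, by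
    rw [det_fromBlocks_zero₂₁]; simp⟩

open Classical in
/-- the Levi element `[[ (det A)⁻¹, 0],[0, A]]` for invertible `A` (junk value `1` if `det A = 0`) -/
noncomputable def lev (A : Matrix (Fin k) (Fin k) F) : Matrix.SpecialLinearGroup (Idx k) F :=
  if h : A.det = 0 then 1 else
  ⟨fromBlocks (A.det⁻¹ • (1 : Matrix Unit Unit F)) 0 0 A, by
    rw [det_fromBlocks_zero₂₁]; simp [h]⟩

/-- the Levi element `[[1, 0],[0, A]]` for `A ∈ SL_k` -/
def levS (A : Matrix.SpecialLinearGroup (Fin k) F) : Matrix.SpecialLinearGroup (Idx k) F :=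
  ⟨fromBlocks 1 0 0 (A : Matrix (Fin k) (Fin k) F), by
    rw [det_fromBlocks_zero₂₁]; simp⟩

/-- first basis vector -/
def e0 : Idx k → F := Pi.single (Sum.inl ()) 1

/-- extension of `r : Fin k → F` by `0` in the first coordinate -/
def ext0 (r : Fin k → F) : Idx k → F := Sum.elim 0 r

theorem qel_coe (r : Fin k → F) :
    ((qel r : Matrix.SpecialLinearGroup (Idx k) F) : Matrix (Idx k) (Idx k) F) =
      fromBlocks 1 (replicateRow Unit r) 0 1 := rfl

theorem levS_coe (A : Matrix.SpecialLinearGroup (Fin k) F) :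
    ((levS A : Matrix.SpecialLinearGroup (Idx k) F) : Matrix (Idx k) (Idx k) F) =
      fromBlocks 1 0 0 (A : Matrix (Fin k) (Fin k) F) := rfl

theorem lev_coe {A : Matrix (Fin k) (Fin k) F} (h : A.det ≠ 0) :
    ((lev A : Matrix.SpecialLinearGroup (Idx k) F) : Matrix (Idx k) (Idx k) F) =
      fromBlocks (A.det⁻¹ • (1 : Matrix Unit Unit F)) 0 0 A := by
  simp [lev, h]

theorem qel_add (r s : Fin k → F) : (qel (r + s) : Matrix.SpecialLinearGroup (Idx k) F) = qel r * qel s := by
  have h : ((qel (r + s) : Matrix.SpecialLinearGroup (Idx k) F) : Matrix (Idx k) (Idx k) F) =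
      ((qel r * qel s : Matrix.SpecialLinearGroup (Idx k) F) : Matrix (Idx k) (Idx k) F) := by
    rw [Matrix.SpecialLinearGroup.coe_mul, qel_coe, qel_coe, qel_coe, fromBlocks_multiply]
    congr 1 <;> simp [add_comm]
  exact sl_ext h

theorem qel_zero : (qel (0 : Fin k → F) : Matrix.SpecialLinearGroup (Idx k) F) = 1 := by
  have h : ((qel (0 : Fin k → F) : Matrix.SpecialLinearGroup (Idx k) F) : Matrix (Idx k) (Idx k) F) =
      ((1 : Matrix.SpecialLinearGroup (Idx k) F) : Matrix (Idx k) (Idx k) F) := by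
    rw [qel_coe, Matrix.SpecialLinearGroup.coe_one]
    simp [← fromBlocks_one]
  exact sl_ext h

theorem qel_neg (r : Fin k → F) : (qel (-r) : Matrix.SpecialLinearGroup (Idx k) F) = (qel r)⁻¹ := by
  rw [eq_inv_iff_mul_eq_one, ← qel_add, neg_add_cancel, qel_zero]

theorem qel_injective : Function.Injective (qel : (Fin k → F) → Matrix.SpecialLinearGroup (Idx k) F) := by
  intro r s h
  have h' := congrArg (fun g : Matrix.SpecialLinearGroup (Idx k) F => (g : Matrix (Idx k) (Idx k) F)) h
  simp only [qel_coe] at h'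
  have h2 := (fromBlocks_inj.1 h').2.1
  funext j
  have := congrFun (congrFun h2 ()) j
  simpa using this

/-- `qel` as a monoid hom from the additive group of row vectors -/
def qelHom : Multiplicative (Fin k → F) →* Matrix.SpecialLinearGroup (Idx k) F where
  toFun r := qel (Multiplicative.toAdd r)
  map_one' := qel_zero
  map_mul' r s := qel_add _ _

variable (F k) in
/-- the unipotent radical `Q = {[[1, r],[0, 1]]}` -/
def Q : Subgroup (Matrix.SpecialLinearGroup (Idx k) F) := (qelHom (F := F) (k := k)).range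

theorem qel_mem_Q (r : Fin k → F) : qel r ∈ Q F k := ⟨Multiplicative.ofAdd r, rfl⟩

theorem mem_Q_iff (g : Matrix.SpecialLinearGroup (Idx k) F) : g ∈ Q F k ↔ ∃ r, qel r = g := by
  constructor
  · rintro ⟨r, rfl⟩; exact ⟨Multiplicative.toAdd r, rfl⟩
  · rintro ⟨r, rfl⟩; exact qel_mem_Q r

/-- `K_g = {r | g⁻¹ (qel r) g ∈ H}`: the stabiliser in `Q ≅ F^k` of the point `gH` of `G/H`. -/
def Kof (H : Subgroup (Matrix.SpecialLinearGroup (Idx k) F)) (g : Matrix.SpecialLinearGroup (Idx k) F) :
    AddSubgroup (Fin k → F) where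
  carrier := {r | g⁻¹ * qel r * g ∈ H}
  zero_mem' := by simp [qel_zero]
  add_mem' {r s} hr hs := by
    simp only [Set.mem_ofPred_eq] at hr hs ⊢
    have : g⁻¹ * qel (r + s) * g = (g⁻¹ * qel r * g) * (g⁻¹ * qel s * g) := by
      rw [qel_add]; group
    rw [this]; exact H.mul_mem hr hs
  neg_mem' {r} hr := by
    simp only [Set.mem_ofPred_eq] at hr ⊢
    have : g⁻¹ * qel (-r) * g = (g⁻¹ * qel r * g)⁻¹ := by
      rw [qel_neg]; group
    rw [this]; exact H.inv_mem hr

theorem mem_Kof {H : Subgroup (Matrix.SpecialLinearGroup (Idx k) F)} {g : Matrix.SpecialLinearGroup (Idx k) F}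
    {r : Fin k → F} : r ∈ Kof H g ↔ g⁻¹ * qel r * g ∈ H := Iff.rfl

/-- annihilator of an additive subgroup of `F^k` with respect to the pairing `τ (r ⬝ᵥ x)` -/
def perp {A : Type*} [AddCommGroup A] (τ : F →+ A) (K : AddSubgroup (Fin k → F)) :
    AddSubgroup (Fin k → F) where
  carrier := {x | ∀ r ∈ K, τ (r ⬝ᵥ x) = 0}
  zero_mem' := by intro r _; simp
  add_mem' {x y} hx hy := by
    intro r hr; rw [dotProduct_add, map_add, hx r hr, hy r hr, add_zero]
  neg_mem' {x} hx := by
    intro r hr; rw [dotProduct_neg, map_neg, hx r hr, neg_zero]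

theorem mem_perp {A : Type*} [AddCommGroup A] {τ : F →+ A} {K : AddSubgroup (Fin k → F)}
    {x : Fin k → F} : x ∈ perp τ K ↔ ∀ r ∈ K, τ (r ⬝ᵥ x) = 0 := Iff.rfl

/-- the `F`-hyperplane `x^⊥ = {r | r ⬝ᵥ x = 0}` of `F^k` -/
def hyp (x : Fin k → F) : AddSubgroup (Fin k → F) where
  carrier := {r | r ⬝ᵥ x = 0}
  zero_mem' := by simp
  add_mem' {r s} hr hs := by
    simp only [Set.mem_ofPred_eq] at hr hs ⊢; rw [add_dotProduct, hr, hs, add_zero]
  neg_mem' {r} hr := by
    simp only [Set.mem_ofPred_eq] at hr ⊢; rw [neg_dotProduct, hr, neg_zero]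

theorem mem_hyp {x r : Fin k → F} : r ∈ hyp x ↔ r ⬝ᵥ x = 0 := Iff.rfl

end Cfsg.Agent.Lib.Helper3.MinDeg
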