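import Mathlib
import Cfsg.Agent.Lib.Helper3.TIFN3

set_option autoImplicit false
set_option linter.unusedSectionVars false
set_option linter.style.haveILetI false

namespace Cfsg.Agent.Lib.Helper3.TIFN
open Cfsg Cfsg.Agent.Lib.Helper6 Cfsg.Agent.Lib.Helper3.BL
open scoped ComplexConjugate
open scoped Classical

section coh
variable {H : Type*} [Group H] [Fintype H]

theorem classInner_sub_sub_irr (A B A' B' : IrrCharacter H) :
    classInner ((A : H → ℂ) - (B : H → ℂ)) ((A' : H → ℂ) - (B' : H → ℂ))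
      = (if A = A' then 1 else 0) - (if A = B' then 1 else 0)
        - (if B = A' then 1 else 0) + (if B = B' then 1 else 0) := by
  rw [classInner_sub_left, classInner_sub_right, classInner_sub_right,
    classInner_irrCharacter, classInner_irrCharacter, classInner_irrCharacter,
    classInner_irrCharacter]
  ring

/-- the two ways in which two differences of irreducibles can have inner product one -/
theorem share_of_inner_one {A B A' B' : IrrCharacter H} (hAB : A ≠ B) (hAB' : A' ≠ B')
    (h : classInner ((A : H → ℂ) - (B : H → ℂ)) ((A' : H → ℂ) - (B' : H → ℂ)) = 1) :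
    (A = A' ∧ B ≠ B') ∨ (B = B' ∧ A ≠ A') := by
  rw [classInner_sub_sub_irr] at h
  by_cases h1 : A = A'
  · left
    refine ⟨h1, ?_⟩
    intro h2
    apply hAB
    have h3 : A ≠ B' := fun hh => hAB' (h1.symm.trans hh)
    have h4 : B ≠ A' := fun hh => hAB (h1.trans hh.symm)
    rw [if_pos h1, if_neg h3, if_neg h4, if_pos h2] at h
    norm_num at h
  · right
    by_cases h2 : B = B'
    · exact ⟨h2, h1⟩
    · exfalso
      rw [if_neg h1, if_neg h2] at h
      by_cases h3 : A = B' <;> by_cases h4 : B = A'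
      · rw [if_pos h3, if_pos h4] at h; norm_num at h
      · rw [if_pos h3, if_neg h4] at h; norm_num at h
      · rw [if_neg h3, if_pos h4] at h; norm_num at h
      · rw [if_neg h3, if_neg h4] at h; norm_num at h

theorem exists_coherent_pos {ι : Type*} (D : ι → ι → H → ℂ)
    (hadd : ∀ i j k, D i j + D j k = D i k)
    (i₀ : ι) (A B : ι → IrrCharacter H)
    (hAB : ∀ j, j ≠ i₀ → D i₀ j = (A j : H → ℂ) - (B j : H → ℂ))
    (hne : ∀ j, j ≠ i₀ → A j ≠ B j)
    (hA : ∀ j k, j ≠ i₀ → k ≠ i₀ → A j = A k)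
    (hB : ∀ j k, j ≠ i₀ → k ≠ i₀ → j ≠ k → B j ≠ B k) (j₀ : ι) (hj₀ : j₀ ≠ i₀) :
    ∃ f : ι → IrrCharacter H, Function.Injective f ∧
      ∀ i j, D i j = (f i : H → ℂ) - (f j : H → ℂ) := by
  have hii : ∀ i, D i i = 0 := by
    intro i
    have := hadd i i i
    exact add_eq_right.mp this
  have hji : ∀ j, D j i₀ = -D i₀ j := by
    intro j
    have := hadd i₀ j i₀
    rw [hii] at this
    exact eq_neg_of_add_eq_zero_right this
  refine ⟨fun i => if i = i₀ then A j₀ else B i, ?_, ?_⟩
  · intro i j hij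
    simp only at hij
    by_cases hi : i = i₀
    · by_cases hj : j = i₀
      · rw [hi, hj]
      · exfalso
        rw [if_pos hi, if_neg hj] at hij
        exact hne j hj ((hA j j₀ hj hj₀).trans hij)
    · by_cases hj : j = i₀
      · exfalso
        rw [if_neg hi, if_pos hj] at hij
        exact hne i hi ((hA i j₀ hi hj₀).trans hij.symm)
      · rw [if_neg hi, if_neg hj] at hij
        by_contra hne'
        exact hB i j hi hj hne' hij
  · intro i j
    simp only
    by_cases hi : i = i₀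
    · by_cases hj : j = i₀
      · rw [if_pos hi, if_pos hj, hi, hj, hii, sub_self]
      · rw [if_pos hi, if_neg hj, hi, hAB j hj, hA j j₀ hj hj₀]
    · by_cases hj : j = i₀
      · rw [if_neg hi, if_pos hj, hj, hji, hAB i hi, hA i j₀ hi hj₀, neg_sub]
      · rw [if_neg hi, if_neg hj, ← hadd i i₀ j, hji, hAB i hi, hAB j hj,
          hA i j₀ hi hj₀, hA j j₀ hj hj₀]
        abel

/-- **coherence**: a compatible family of differences of irreducible characters -/
theorem exists_coherent {ι : Type*} (D : ι → ι → H → ℂ)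
    (hadd : ∀ i j k, D i j + D j k = D i k)
    (hsub : ∀ i j, i ≠ j → ∃ A B : IrrCharacter H, A ≠ B ∧ D i j = (A : H → ℂ) - (B : H → ℂ))
    (hinner : ∀ i j k, i ≠ j → i ≠ k → j ≠ k → classInner (D i j) (D i k) = 1) :
    ∃ (ε : ℂ) (f : ι → IrrCharacter H), (ε = 1 ∨ ε = -1) ∧ Function.Injective f ∧
      ∀ i j, D i j = ε • ((f i : H → ℂ) - (f j : H → ℂ)) := by
  have hii : ∀ i, D i i = 0 := by
    intro i
    have := hadd i i i
    exact add_eq_right.mp this
  by_cases hsing : ∀ i j : ι, i = j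
  · refine ⟨1, fun _ => oneIrrG H, Or.inl rfl, fun i j _ => hsing i j, ?_⟩
    intro i j
    rw [hsing j i, hii, sub_self, smul_zero]
  push Not at hsing
  obtain ⟨i₀, j₀, hij₀⟩ := hsing
  have hj₀ : j₀ ≠ i₀ := fun h => hij₀ h.symm
  have hch : ∀ j, ∃ AB : IrrCharacter H × IrrCharacter H, j ≠ i₀ →
      AB.1 ≠ AB.2 ∧ D i₀ j = (AB.1 : H → ℂ) - (AB.2 : H → ℂ) := by
    intro j
    by_cases hj : j = i₀
    · exact ⟨(oneIrrG H, oneIrrG H), fun h => (h hj).elim⟩
    · obtain ⟨A, B, hAB, hD⟩ := hsub i₀ j (fun h => hj h.symm)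
      exact ⟨(A, B), fun _ => ⟨hAB, hD⟩⟩
  choose AB hAB using hch
  set A : ι → IrrCharacter H := fun j => (AB j).1 with hAdef
  set B : ι → IrrCharacter H := fun j => (AB j).2 with hBdef
  have hne : ∀ j, j ≠ i₀ → A j ≠ B j := fun j hj => (hAB j hj).1
  have hD : ∀ j, j ≠ i₀ → D i₀ j = (A j : H → ℂ) - (B j : H → ℂ) := fun j hj => (hAB j hj).2
  have hX : ∀ j k, j ≠ i₀ → k ≠ i₀ → j ≠ k →
      (A j = A k ∧ B j ≠ B k) ∨ (B j = B k ∧ A j ≠ A k) := by
    intro j k hj hk hjk
    apply share_of_inner_one (hne j hj) (hne k hk)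
    rw [← hD j hj, ← hD k hk]
    exact hinner i₀ j k (fun h => hj h.symm) (fun h => hk h.symm) hjk
  by_cases hP : ∀ j k, j ≠ i₀ → k ≠ i₀ → A j = A k
  · -- positive case
    obtain ⟨f, hf, hfD⟩ := exists_coherent_pos D hadd i₀ A B hD hne hP (by
      intro j k hj hk hjk
      rcases hX j k hj hk hjk with h1 | h1
      · exact h1.2
      · exact (h1.2 (hP j k hj hk)).elim) j₀ hj₀
    refine ⟨1, f, Or.inl rfl, hf, ?_⟩
    intro i j
    rw [one_smul]; exact hfD i j
  · -- negative case
    push Not at hP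
    obtain ⟨j₁, k₁, hj₁, hk₁, hjk₁⟩ := hP
    have hjk₁' : j₁ ≠ k₁ := fun h => hjk₁ (by rw [h])
    have hB₁ : B j₁ = B k₁ := by
      rcases hX j₁ k₁ hj₁ hk₁ hjk₁' with h1 | h1
      · exact (hjk₁ h1.1).elim
      · exact h1.1
    have hPm : ∀ j k, j ≠ i₀ → k ≠ i₀ → B j = B k := by
      have key : ∀ l, l ≠ i₀ → B l = B j₁ := by
        intro l hl
        by_cases hl1 : l = j₁
        · rw [hl1]
        by_cases hl2 : l = k₁
        · rw [hl2, hB₁]
        rcases hX l j₁ hl hj₁ hl1 with h1 | h1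
        · rcases hX l k₁ hl hk₁ hl2 with h2 | h2
          · exact (hjk₁ (h1.1.symm.trans h2.1)).elim
          · rw [h2.1, hB₁]
        · exact h1.1
      intro j k hj hk
      rw [key j hj, key k hk]
    obtain ⟨f, hf, hfD⟩ := exists_coherent_pos (fun i j => D j i)
      (by intro i j k; show D j i + D k j = D k i; rw [add_comm]; exact hadd k j i)
      i₀ B A
      (by
        intro j hj
        show D j i₀ = (B j : H → ℂ) - (A j : H → ℂ)
        have := hadd i₀ j i₀
        rw [hii] at this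
        rw [eq_neg_of_add_eq_zero_right this, hD j hj, neg_sub])
      (fun j hj => (hne j hj).symm) hPm (by
      intro j k hj hk hjk
      rcases hX j k hj hk hjk with h1 | h1
      · exact (h1.2 (hPm j k hj hk)).elim
      · exact h1.2) j₀ hj₀
    refine ⟨-1, f, Or.inr rfl, hf, ?_⟩
    intro i j
    have := hfD j i
    rw [this, neg_one_smul, neg_sub]

end coh
end Cfsg.Agent.Lib.Helper3.TIFN
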