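import Mathlib
import Cfsg.Agent.Lib.Helper8.CSGDefs
import Cfsg.Agent.Lib.Helper1.PSGDefs

/-!
# S4146 (class sizes exactly `{1, n, m, nm}`, `n, m > 1` coprime, force nilpotency): definitions

`idx g` (class size of `g`) is from `Cfsg.Agent.Lib.Helper8.CSG`, `PElt p g` (`g` is a `p`-element) from
`Cfsg.Agent.Lib.Helper1.PSG`.
-/

set_option autoImplicit false
set_option linter.unusedVariables false
set_option linter.unusedSectionVars false
set_option linter.style.longLine false

namespace Cfsg.Agent.Lib.Helper3.NM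

open Cfsg.Agent.Lib.Helper8.CSG Cfsg.Agent.Lib.Helper1.PSG

/-- the class sizes of `G` are exactly `1, n, m, n * m` with `n, m > 1` coprime -/
structure Hyp (G : Type*) [Group G] (n m : ℕ) : Prop where
  hn : 1 < n
  hm : 1 < m
  cop : n.Coprime m
  mem : ∀ g : G, idx g = 1 ∨ idx g = n ∨ idx g = m ∨ idx g = n * m
  ex1 : ∃ g : G, idx g = n
  ex2 : ∃ g : G, idx g = m
  ex3 : ∃ g : G, idx g = n * m

/-- scenario CC: no straight elements, i.e. no `s`-element of class size `n` with `s ∣ n` and no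
`s`-element of class size `m` with `s ∣ m` -/
structure CC (G : Type*) [Group G] (n m : ℕ) : Prop where
  c1 : ∀ (s : ℕ) (x : G), s.Prime → PElt s x → idx x = n → ¬ s ∣ n
  c2 : ∀ (s : ℕ) (y : G), s.Prime → PElt s y → idx y = m → ¬ s ∣ m

variable {G : Type*} [Group G]

/-- `L` is the set of elements of class size `1` or `n` -/
def IsL (L : Subgroup G) (n : ℕ) : Prop := ∀ g : G, g ∈ L ↔ (idx g = 1 ∨ idx g = n)

theorem Hyp.symm {n m : ℕ} (h : Hyp G n m) : Hyp G m n where
  hn := h.hm
  hm := h.hn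
  cop := h.cop.symm
  mem := fun g => by
    rcases h.mem g with h1 | h1 | h1 | h1
    · exact Or.inl h1
    · exact Or.inr (Or.inr (Or.inl h1))
    · exact Or.inr (Or.inl h1)
    · exact Or.inr (Or.inr (Or.inr (by rw [h1, Nat.mul_comm])))
  ex1 := h.ex2
  ex2 := h.ex1
  ex3 := by
    obtain ⟨g, hg⟩ := h.ex3
    exact ⟨g, by rw [hg, Nat.mul_comm]⟩

theorem CC.symm {n m : ℕ} (h : CC G n m) : CC G m n where
  c1 := h.c2
  c2 := h.c1

end Cfsg.Agent.Lib.Helper3.NM
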