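import Mathlib
import Cfsg.Agent.Lib.Helper7.TC1
import Cfsg.Agent.Lib.Helper7.IT1
import Cfsg.Agent.Lib.Helper3.ConjCover

/-!
# S4135: a normal subgroup with two G-class sizes containing a noncentral Sylow subgroup is nilpotent

Definitions and basic lemmas (piece P1).  `cent x` is `Subgroup.centralizer {x}` (from Helper7.TC1).
-/

set_option autoImplicit false
set_option maxHeartbeats 4000000
set_option maxRecDepth 100000
set_option linter.unusedVariables false
set_option linter.unusedSectionVars false
set_option linter.style.longLine false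
set_option linter.unusedSimpArgs false
set_option linter.unnecessarySimpa false
set_option linter.style.haveILetI false

namespace Cfsg.Agent.Lib.Helper3.NCS

open Cfsg.Agent.Lib.Helper7.TC

variable {G : Type*} [Group G]

/-- `N` is normal in `G` and every element of `N` has `G`-class size `1` or `m`. -/
structure Hyp (N : Subgroup G) (m : ℕ) : Prop where
  normal : N.Normal
  size : ∀ x ∈ N, (cent x).index = 1 ∨ (cent x).index = m

/-- Standing data for the main case: `r ∣ m`, every Sylow `r`-subgroup of `G` lies in `N` and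
none of them is central. -/
structure Setup (N : Subgroup G) (m r : ℕ) : Prop where
  hyp : Hyp N m
  dvd : r ∣ m
  sylow_le : ∀ P : Sylow r G, (P : Subgroup G) ≤ N
  sylow_not_central : ∀ P : Sylow r G, ¬ (P : Subgroup G) ≤ Subgroup.center G

/-- `y` is a noncentral `r'`-element of `N`. -/
structure IsComp (N : Subgroup G) (r : ℕ) (y : G) : Prop where
  mem : y ∈ N
  not_center : y ∉ Subgroup.center G
  coprime : (orderOf y).Coprime r

/-- `B` is the set of `r`-elements of `C_G(y)`. -/
def IsRPart (r : ℕ) (y : G) (B : Subgroup G) : Prop :=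
  ∀ x : G, x ∈ B ↔ x ∈ cent y ∧ ∃ k : ℕ, x ^ r ^ k = 1

/-- `A` is the set of `r'`-elements of `N ∩ C_G(y)`. -/
def IsRPrimePart (N : Subgroup G) (r : ℕ) (y : G) (A : Subgroup G) : Prop :=
  ∀ x : G, x ∈ A ↔ x ∈ N ∧ x ∈ cent y ∧ (orderOf x).Coprime r

/-- The order of a Sylow `r`-subgroup of the centralizer of a noncentral element of `N`. -/
noncomputable def bcard (G : Type*) [Group G] (r m : ℕ) : ℕ :=
  r ^ ((Nat.card G).factorization r - m.factorization r)

/-- The order of the Sylow `r`-subgroup of the centre of `G`. -/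
noncomputable def zcard (G : Type*) [Group G] (r : ℕ) : ℕ :=
  r ^ (Nat.card (Subgroup.center G)).factorization r

theorem index_eq_one_iff {x : G} : (cent x).index = 1 ↔ x ∈ Subgroup.center G := by
  rw [Subgroup.index_eq_one, cent_eq_top_iff]

theorem index_eq {N : Subgroup G} {m : ℕ} (h : Hyp N m) {x : G} (hx : x ∈ N)
    (hxZ : x ∉ Subgroup.center G) : (cent x).index = m := by
  rcases h.size x hx with h1 | h1
  · exact absurd (index_eq_one_iff.mp h1) hxZ
  · exact h1

theorem cent_eq_of_le [Finite G] {N : Subgroup G} {m : ℕ} (h : Hyp N m) {x y : G} (hx : x ∈ N)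
    (hxZ : x ∉ Subgroup.center G) (hy : y ∈ N) (hyZ : y ∉ Subgroup.center G)
    (hle : cent x ≤ cent y) : cent x = cent y :=
  eq_of_le_of_index_eq hle ((index_eq h hx hxZ).trans (index_eq h hy hyZ).symm)

/-- Commuting elements `u, v` of `N` of coprime orders with `u` noncentral: `C_G(u) ≤ C_G(v)`. -/
theorem cent_le_of_coprime [Finite G] {N : Subgroup G} {m : ℕ} (h : Hyp N m) {u v : G}
    (hu : u ∈ N) (huZ : u ∉ Subgroup.center G) (hv : v ∈ N) (huv : Commute u v)
    (hco : (orderOf u).Coprime (orderOf v)) : cent u ≤ cent v := by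
  obtain ⟨a, ha⟩ := exists_pow_eq_self_of_coprime (x := u) hco.symm
  obtain ⟨b, hb⟩ := exists_pow_eq_self_of_coprime (x := v) hco
  have hu' : (u * v) ^ (orderOf v * a) = u := by
    rw [pow_mul, huv.mul_pow, pow_orderOf_eq_one, mul_one, ha]
  have hv' : (u * v) ^ (orderOf u * b) = v := by
    rw [pow_mul, huv.mul_pow, pow_orderOf_eq_one, one_mul, hb]
  have huvN : u * v ∈ N := N.mul_mem hu hv
  have huvZ : u * v ∉ Subgroup.center G := by
    intro hz
    apply huZ
    have := Subgroup.pow_mem _ hz (orderOf v * a)
    rwa [hu'] at this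
  have h1 : cent (u * v) ≤ cent u := by
    have := cent_le_cent_pow (u * v) (orderOf v * a)
    rwa [hu'] at this
  have h2 : cent (u * v) ≤ cent v := by
    have := cent_le_cent_pow (u * v) (orderOf u * b)
    rwa [hv'] at this
  rw [← cent_eq_of_le h huvN huvZ hu huZ h1]
  exact h2

end Cfsg.Agent.Lib.Helper3.NCS
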