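import Mathlib
import Cfsg.Agent.Lib.Helper3.NCSDefs

/-!
# S4135, piece P4a: the Sylow `r`-subgroup `B` of `C_G(y)`
-/

set_option autoImplicit false
set_option maxHeartbeats 4000000
set_option maxRecDepth 100000
set_option linter.unusedVariables false
set_option linter.unusedSectionVars false
set_option linter.style.longLine false
set_option linter.unusedSimpArgs false
set_option linter.unnecessarySimpa false
set_option linter.style.haveILetI false

namespace Cfsg.Agent.Lib.Helper3.NCS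

open Cfsg.Agent.Lib.Helper7.TC

variable {G : Type*} [Group G] [Finite G]

/-- Every `r`-element lies in `N`. -/
theorem rElt_mem {N : Subgroup G} {m r : ℕ} [Fact r.Prime] (hS : Setup N m r) {b : G}
    (hb : ∃ k : ℕ, b ^ r ^ k = 1) : b ∈ N := by
  obtain ⟨k, hk⟩ := hb
  have hP : IsPGroup r (Subgroup.zpowers b) := by
    rintro ⟨g, hg⟩
    obtain ⟨i, rfl⟩ := Subgroup.mem_zpowers_iff.mp hg
    refine ⟨k, ?_⟩
    apply Subtype.ext
    show (b ^ i) ^ r ^ k = 1
    rw [← zpow_natCast, ← zpow_mul, mul_comm, zpow_mul, zpow_natCast, hk, one_zpow]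
  obtain ⟨Q, hQ⟩ := hP.exists_le_sylow
  exact hS.sylow_le Q (hQ (Subgroup.mem_zpowers b))

theorem orderOf_coprime_of_rElt {r : ℕ} [Fact r.Prime] {y b : G} (hy : (orderOf y).Coprime r)
    (hb : ∃ k : ℕ, b ^ r ^ k = 1) : (orderOf y).Coprime (orderOf b) := by
  obtain ⟨k, hk⟩ := hb
  have h1 : orderOf b ∣ r ^ k := orderOf_dvd_of_pow_eq_one hk
  exact Nat.Coprime.coprime_dvd_right h1 (Nat.Coprime.pow_right k hy)

/-- An `r`-element of `C_G(y)` is central in `C_G(y)`. -/
theorem rElt_central {N : Subgroup G} {m r : ℕ} [Fact r.Prime] (hS : Setup N m r) {y : G}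
    (hy : IsComp N r y) {b : G} (hbc : b ∈ cent y) (hb : ∃ k : ℕ, b ^ r ^ k = 1) :
    ∀ g ∈ cent y, g * b = b * g := by
  intro g hg
  have hbN : b ∈ N := rElt_mem hS hb
  have hcomm : Commute y b := (mem_cent.mp hbc).symm
  have hle : cent y ≤ cent b :=
    cent_le_of_coprime hS.hyp hy.mem hy.not_center hbN hcomm (orderOf_coprime_of_rElt hy.coprime hb)
  exact mem_cent.mp (hle hg)

theorem exists_rPart {N : Subgroup G} {m r : ℕ} [Fact r.Prime] (hS : Setup N m r) {y : G}
    (hy : IsComp N r y) : ∃ B : Subgroup G, IsRPart r y B := by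
  refine ⟨{ carrier := {x | x ∈ cent y ∧ ∃ k : ℕ, x ^ r ^ k = 1}
            mul_mem' := ?_
            one_mem' := ?_
            inv_mem' := ?_ }, ?_⟩
  · rintro a b ⟨ha, ka, hka⟩ ⟨hb, kb, hkb⟩
    refine ⟨(cent y).mul_mem ha hb, ka + kb, ?_⟩
    have hc : Commute a b := (rElt_central hS hy hb ⟨kb, hkb⟩ a ha)
    rw [hc.mul_pow, pow_add, pow_mul, hka, one_pow, one_mul, mul_comm (r ^ ka), pow_mul, hkb,
      one_pow]
  · exact ⟨(cent y).one_mem, 0, by simp⟩
  · rintro a ⟨ha, ka, hka⟩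
    exact ⟨(cent y).inv_mem ha, ka, by rw [inv_pow, hka, inv_one]⟩
  · intro x
    exact Iff.rfl

theorem rPart_central {N : Subgroup G} {m r : ℕ} [Fact r.Prime] (hS : Setup N m r) {y : G}
    (hy : IsComp N r y) {B : Subgroup G} (hB : IsRPart r y B) :
    ∀ b ∈ B, ∀ g ∈ cent y, g * b = b * g := by
  intro b hb
  obtain ⟨h1, h2⟩ := (hB b).mp hb
  exact rElt_central hS hy h1 h2

theorem rPart_le {N : Subgroup G} {m r : ℕ} [Fact r.Prime] (hS : Setup N m r) {y : G}
    (hy : IsComp N r y) {B : Subgroup G} (hB : IsRPart r y B) : B ≤ N := by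
  intro b hb
  exact rElt_mem hS ((hB b).mp hb).2

/-- The `r`-elements of a subgroup `C`, if they form a subgroup `B`, form a Sylow `r`-subgroup. -/
theorem card_rElts {r : ℕ} [Fact r.Prime] {C B : Subgroup G}
    (hB : ∀ x : G, x ∈ B ↔ x ∈ C ∧ ∃ k : ℕ, x ^ r ^ k = 1) :
    Nat.card B = r ^ (Nat.card C).factorization r := by
  have hBC : B ≤ C := fun x hx => ((hB x).mp hx).1
  have hP : IsPGroup r (B.subgroupOf C) := by
    rintro ⟨g, hg⟩
    obtain ⟨k, hk⟩ := ((hB g).mp (Subgroup.mem_subgroupOf.mp hg)).2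
    refine ⟨k, ?_⟩
    apply Subtype.ext
    apply Subtype.ext
    simpa using hk
  obtain ⟨Q, hQ⟩ := hP.exists_le_sylow
  have hQle : (Q : Subgroup C) ≤ B.subgroupOf C := by
    intro q hq
    obtain ⟨k, hk⟩ := Q.2 ⟨q, hq⟩
    rw [Subgroup.mem_subgroupOf, hB]
    refine ⟨q.2, k, ?_⟩
    have := congrArg (fun t : (Q : Subgroup C) => ((t : C) : G)) hk
    simpa using this
  have heq : B.subgroupOf C = (Q : Subgroup C) := le_antisymm hQ hQle
  have h1 : Nat.card (B.subgroupOf C) = Nat.card B :=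
    Nat.card_congr (Subgroup.subgroupOfEquivOfLe hBC).toEquiv
  rw [← h1, heq]
  exact Sylow.card_eq_multiplicity Q

theorem rPart_card {N : Subgroup G} {m r : ℕ} [Fact r.Prime] (hS : Setup N m r) {y : G}
    (hy : IsComp N r y) {B : Subgroup G} (hB : IsRPart r y B) : Nat.card B = bcard G r m := by
  rw [card_rElts (C := cent y) hB, bcard]
  congr 1
  have hidx : (cent y).index = m := index_eq hS.hyp hy.mem hy.not_center
  have hmul : Nat.card (cent y) * m = Nat.card G := by
    rw [← hidx]; exact Subgroup.card_mul_index _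
  have hc0 : Nat.card (cent y) ≠ 0 := Nat.card_pos.ne'
  have hm0 : m ≠ 0 := by
    rw [← hidx]; exact Subgroup.index_ne_zero_of_finite
  rw [← hmul, Nat.factorization_mul hc0 hm0]
  simp

theorem rPart_center_card {N : Subgroup G} {m r : ℕ} [Fact r.Prime] (hS : Setup N m r) {y : G}
    (hy : IsComp N r y) {B : Subgroup G} (hB : IsRPart r y B) :
    Nat.card (B ⊓ Subgroup.center G : Subgroup G) = zcard G r := by
  rw [zcard]
  apply card_rElts
  intro x
  rw [Subgroup.mem_inf, hB]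
  constructor
  · rintro ⟨⟨_, hk⟩, hz⟩
    exact ⟨hz, hk⟩
  · rintro ⟨hz, hk⟩
    exact ⟨⟨center_le_cent y hz, hk⟩, hz⟩

end Cfsg.Agent.Lib.Helper3.NCS
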