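import Mathlib
import Cfsg.Prelude
import Cfsg.Agent.Lib.Helper5.Eichler

set_option autoImplicit false
set_option linter.unusedSectionVars false
open Cfsg

/-! OMM farm (S2346), unit EICHCOMM: the commutator of two Eichler transformations
`E_{u,z}`, `E_{v,z'}` along orthogonal singular vectors `u, v` (with `z, z' ⊥ u, v`) is the long
root element `E_{u, B(z,z') v}`; and the symmetry `E_{u,v} = E_{v,-u}`. -/

namespace Cfsg.Agent.Lib.Helper3.OMMEichComm

open Matrix QuadraticMap Cfsg.Agent.Lib.Helper5.CartanDieudonne Cfsg.Agent.Lib.Helper5.Refl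
  Cfsg.Agent.Lib.Helper5.OrthCard Cfsg.Agent.Lib.Helper5.Siegel Cfsg.Agent.Lib.Helper5.QuadIsom
  Cfsg.Agent.Lib.Helper5.ReflGen Cfsg.Agent.Lib.Helper5.Eichler

variable {ι : Type} [Fintype ι] [DecidableEq ι] {F : Type*} [Field F]
  (Q : QuadraticForm F (ι → F))

/-- congruence for `eich` (the proofs are irrelevant) -/
theorem eich_congr {u u' z z' : ι → F} (hu : Q u = 0) (huz : polar ⇑Q u z = 0)
    (hu' : Q u' = 0) (huz' : polar ⇑Q u' z' = 0) (h1 : u = u') (h2 : z = z') :
    eich Q u z hu huz = eich Q u' z' hu' huz' := by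
  subst h1
  subst h2
  rfl

/-- `E_{u,v} = E_{v,-u}` for `u, v` singular and orthogonal -/
theorem eich_symm (u v : ι → F) (hu : Q u = 0) (hv : Q v = 0) (huv : polar ⇑Q u v = 0) :
    eich Q u v hu huv =
      eich Q v (-u) hv (by rw [polar_neg_right, polar_comm, huv, neg_zero]) := by
  apply ext_act
  intro x
  rw [act_eich, act_eich, eichlerMap_apply, eichlerMap_apply, hv, QuadraticMap.map_neg, hu,
    polar_neg_left]
  simp only [zero_mul, add_zero, smul_neg, neg_smul, neg_neg]
  abel

/-- the commutator of two Eichler transformations along orthogonal singular vectors -/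
theorem eich_commutator (u v z z' : ι → F) (hu : Q u = 0) (hv : Q v = 0)
    (huv : polar ⇑Q u v = 0) (huz : polar ⇑Q u z = 0) (hvz : polar ⇑Q v z = 0)
    (huz' : polar ⇑Q u z' = 0) (hvz' : polar ⇑Q v z' = 0) :
    eich Q u z hu huz * eich Q v z' hv hvz' * (eich Q u z hu huz)⁻¹ * (eich Q v z' hv hvz')⁻¹ =
      eich Q u (polar ⇑Q z z' • v) hu (by rw [polar_smul_right, huv, smul_zero]) := by
  have hvu : polar ⇑Q v u = 0 := by rw [polar_comm, huv]
  have hzv : polar ⇑Q z v = 0 := by rw [polar_comm, hvz]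
  -- conjugate
  have e1 : act Q (eich Q u z hu huz) v = v := by
    rw [act_eich, eichlerMap_apply, huv, hzv]
    simp
  have e2 : act Q (eich Q u z hu huz) z' = z' + (-(polar ⇑Q z z')) • u := by
    rw [act_eich, eichlerMap_apply, huz']
    simp
  have hvz'' : polar ⇑Q v (z' + (-(polar ⇑Q z z')) • u) = 0 := by
    rw [polar_add_right, polar_smul_right, hvz', hvu, smul_zero, add_zero]
  have c1 : eich Q u z hu huz * eich Q v z' hv hvz' * (eich Q u z hu huz)⁻¹ =
      eich Q v (z' + (-(polar ⇑Q z z')) • u) hv hvz'' := by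
    rw [conj_eich]
    exact eich_congr Q _ _ _ _ e1 e2
  rw [c1, eich_inv, eich_mul]
  -- now `E_{v, -c u}`
  have hcu : Q (polar ⇑Q z z' • u) = 0 := by rw [QuadraticMap.map_smul, hu, smul_zero]
  have hcuv : polar ⇑Q (polar ⇑Q z z' • u) v = 0 := by rw [polar_smul_left, huv, smul_zero]
  have s1 := eich_symm Q (polar ⇑Q z z' • u) v hcu hv hcuv
  have s2 := eich_smul_left Q u v hu huv (polar ⇑Q z z')
  rw [← s2, s1]
  apply eich_congr Q _ _ _ _ rfl
  rw [neg_smul]
  abel

end Cfsg.Agent.Lib.Helper3.OMMEichComm
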