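/-
Farm RU (S3174): the abstract structures shared by all units (no sorry here).
See Lib/Helper3/RuSylStubs.lean (never imported by an S-file) for the blueprint and the unit list.

Conventions: conjugation is on the left, `t * x * t⁻¹`; commutators are written out as products.
-/
import Mathlib

set_option autoImplicit false

namespace Cfsg.Agent.Lib.Helper3.RuSyl

variable {T : Type*} [Group T]

/-- The bottom of the upper central series of `T`, abstractly: `Zi` normal of order `2^i`, `[Z(i+1), T] ≤ Zi`,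
and the `key` property: a normal subgroup not inside `Zi` meets `Z(i+1) - Zi`. -/
structure Chain (Z1 Z2 Z3 Z4 : Subgroup T) : Prop where
  n1 : Z1.Normal
  n2 : Z2.Normal
  n3 : Z3.Normal
  n4 : Z4.Normal
  le12 : Z1 ≤ Z2
  le23 : Z2 ≤ Z3
  le34 : Z3 ≤ Z4
  c1 : Nat.card Z1 = 2
  c2 : Nat.card Z2 = 4
  c3 : Nat.card Z3 = 8
  c4 : Nat.card Z4 = 16
  comm1 : ∀ x ∈ Z1, ∀ t : T, t * x * t⁻¹ = x
  comm2 : ∀ x ∈ Z2, ∀ t : T, t * x * t⁻¹ * x⁻¹ ∈ Z1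
  comm3 : ∀ x ∈ Z3, ∀ t : T, t * x * t⁻¹ * x⁻¹ ∈ Z2
  comm4 : ∀ x ∈ Z4, ∀ t : T, t * x * t⁻¹ * x⁻¹ ∈ Z3
  key0 : ∀ N : Subgroup T, N.Normal → N ≠ ⊥ → ∃ y ∈ N, y ∈ Z1 ∧ y ≠ 1
  key1 : ∀ N : Subgroup T, N.Normal → ¬ N ≤ Z1 → ∃ y ∈ N, y ∈ Z2 ∧ y ∉ Z1
  key2 : ∀ N : Subgroup T, N.Normal → ¬ N ≤ Z2 → ∃ y ∈ N, y ∈ Z3 ∧ y ∉ Z2
  key3 : ∀ N : Subgroup T, N.Normal → ¬ N ≤ Z3 → ∃ y ∈ N, y ∈ Z4 ∧ y ∉ Z3

/-- `Φ` behaves like the Frattini subgroup of the 2-group `W ≤ T` (all subgroups are subgroups of `T`), and satisfies the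
hypothesis of S3174: every subgroup of `W` of index at most 16 contains `Φ`. -/
structure FratLike (W Φ : Subgroup T) : Prop where
  le : Φ ≤ W
  normal : Φ.Normal
  sq : ∀ x ∈ W, x ^ 2 ∈ Φ
  comm : ∀ x ∈ W, ∀ y ∈ W, x * y * x⁻¹ * y⁻¹ ∈ Φ
  max : ∀ N : Subgroup T, N ≤ W → ¬ N ≤ Φ →
    ∃ M : Subgroup T, M ≤ W ∧ M.relIndex W = 2 ∧ Φ ≤ M ∧ ¬ N ≤ M
  small : ∀ U : Subgroup T, U ≤ W → U.relIndex W ≤ 16 → Φ ≤ U

/-- The setting of S3174. -/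
structure Setting (Z1 Z2 Z3 Z4 W Φ : Subgroup T) : Prop where
  pT : IsPGroup 2 T
  chain : Chain Z1 Z2 Z3 Z4
  hW : W = Subgroup.centralizer (Z3 : Set T)
  frat : FratLike W Φ
  cardΦ : Nat.card Φ ≤ 8
  big : 2 ^ 14 ≤ Nat.card T

/-- The class-2 calculus setting used in step (6): `Z2 ≤ Z ≤ W`, all normal in `T`, `Z` central in `W` of exponent 2,
`W/Z` elementary abelian, `[Z, T] ≤ Z2`. -/
structure Cal (W Z Z2 : Subgroup T) : Prop where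
  nW : W.Normal
  nZ : Z.Normal
  nZ2 : Z2.Normal
  le2 : Z2 ≤ Z
  le : Z ≤ W
  cen : ∀ z ∈ Z, ∀ w ∈ W, z * w = w * z
  zsq : ∀ z ∈ Z, z ^ 2 = 1
  comm : ∀ x ∈ W, ∀ y ∈ W, x * y * x⁻¹ * y⁻¹ ∈ Z
  sq : ∀ x ∈ W, x ^ 2 ∈ Z
  act : ∀ z ∈ Z, ∀ t : T, t * z * t⁻¹ * z⁻¹ ∈ Z2

/-- the `norm' `y * y^τ` (left conjugation) -/
def nrm (τ y : T) : T := y * (τ * y * τ⁻¹)

/-- the eight words in `s', t, s` used as a transversal of `W` in `T` -/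
def words (s' t s : T) : Fin 8 → T := ![1, s', t, t * s', s, s * s', s * t, s * t * s']

end Cfsg.Agent.Lib.Helper3.RuSyl
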