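import Mathlib
import Cfsg.Agent.Lib.Helper1.S1233Defs

/-!
# Farm S1233, unit U-B2api (helper3): consequences of `Side`, in the of-pattern
(the facts of U-A that are needed are explicit hypotheses).
-/

set_option autoImplicit false

namespace Cfsg.Agent.Lib.Helper3.S1233B2

open Cfsg.Agent.Lib.Helper1.S1233

variable {S : Type*} [Group S] {Q₁ Q₂ : Subgroup S} {z c i j : S} {n ε : ℕ}

theorem two_pow_pred {n : ℕ} (h : 1 ≤ n) : 2 ^ (n - 1) + 2 ^ (n - 1) = 2 ^ n := by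
  obtain ⟨m, rfl⟩ : ∃ m, n = m + 1 := ⟨n - 1, by omega⟩
  simp [pow_succ]; ring

theorem side_le (hB : Base Q₁ Q₂ z) : Q₁ ≤ cen Q₂ := by
  intro x hx
  rw [Subgroup.mem_centralizer_iff]
  intro b hb
  exact (hB.comm x hx b hb).symm

theorem z_mem_zpowers (hs : Side Q₁ (cen Q₂) z c i j n ε) : z ∈ Subgroup.zpowers c := by
  rw [← hs.c_pow]; exact Subgroup.npow_mem_zpowers _ _

theorem i_mem_zpowers (hs : Side Q₁ (cen Q₂) z c i j n ε) : i ∈ Subgroup.zpowers c := by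
  rw [hs.i_eq]; exact Subgroup.npow_mem_zpowers _ _

theorem side_i_sq (hs : Side Q₁ (cen Q₂) z c i j n ε) : i * i = z := by
  have h2 := hs.two_le
  rw [hs.i_eq, ← pow_add, ← hs.c_pow]
  congr 1
  have := two_pow_pred (n := n - 1) (by omega)
  rw [show n - 1 - 1 = n - 2 by omega] at this
  exact this

theorem Zs_le_zpowers (hs : Side Q₁ (cen Q₂) z c i j n ε) : Zs z ≤ Subgroup.zpowers c := by
  rw [Subgroup.zpowers_le]; exact z_mem_zpowers hs

theorem side_j_sq (hq8 : ∀ x ∈ Q₁, x ∈ Zs z ∨ x * x = z)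
    (hs : Side Q₁ (cen Q₂) z c i j n ε) : j * j = z := by
  rcases hq8 j hs.j_mem with h | h
  · exact absurd (Zs_le_zpowers hs h) hs.j_not
  · exact h

theorem card_zpowers_c (hs : Side Q₁ (cen Q₂) z c i j n ε) :
    Nat.card (Subgroup.zpowers c) = 2 ^ n := by
  rw [Nat.card_zpowers, hs.ord]

theorem zpowers_le (hs : Side Q₁ (cen Q₂) z c i j n ε) : Subgroup.zpowers c ≤ cen Q₂ := by
  rw [Subgroup.zpowers_le]; exact hs.c_mem

theorem relindex_two (hB : Base Q₁ Q₂ z) (hs : Side Q₁ (cen Q₂) z c i j n ε) :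
    ((Subgroup.zpowers c).subgroupOf (cen Q₂)).index = 2 := by
  have := hB.fin
  have h1 := Subgroup.card_mul_index ((Subgroup.zpowers c).subgroupOf (cen Q₂))
  rw [Nat.card_congr (Subgroup.subgroupOfEquivOfLe (zpowers_le hs)).toEquiv, card_zpowers_c hs,
    hs.card, pow_succ] at h1
  have hpos : 0 < 2 ^ n := by positivity
  exact Nat.eq_of_mul_eq_mul_left hpos h1

theorem side_mem (hB : Base Q₁ Q₂ z) (hs : Side Q₁ (cen Q₂) z c i j n ε) :
    ∀ x ∈ cen Q₂, x ∈ Subgroup.zpowers c ∨ ∃ y ∈ Subgroup.zpowers c, x = y * j := by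
  intro x hx
  by_cases hxc : x ∈ Subgroup.zpowers c
  · exact Or.inl hxc
  · right
    have hjX : j ∈ cen Q₂ := side_le hB hs.j_mem
    have hidx := relindex_two hB hs
    have h := Subgroup.mul_mem_iff_of_index_two hidx (a := (⟨x, hx⟩ : ↥(cen Q₂)))
      (b := (⟨j, hjX⟩ : ↥(cen Q₂))⁻¹)
    have h' : (⟨x, hx⟩ : ↥(cen Q₂)) * (⟨j, hjX⟩ : ↥(cen Q₂))⁻¹ ∈
        (Subgroup.zpowers c).subgroupOf (cen Q₂) := by
      rw [h]
      constructor
      · intro hh; exact absurd (Subgroup.mem_subgroupOf.mp hh) hxc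
      · intro hh
        rw [inv_mem_iff] at hh
        exact absurd (Subgroup.mem_subgroupOf.mp hh) hs.j_not
    refine ⟨x * j⁻¹, ?_, by group⟩
    have := Subgroup.mem_subgroupOf.mp h'
    simpa using this

end Cfsg.Agent.Lib.Helper3.S1233B2
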