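import Mathlib
import Cfsg.Agent.Lib.Helper1.S1233Defs
import Cfsg.Agent.Lib.Helper3.S1233B2a

/-!
# Farm S1233, unit U-B2api (helper3), part 2: `side_inf`, `side_q`, `side_eps`, `side_cent_i`,
`side_comm_z`, `side_e` in the of-pattern.
-/

set_option autoImplicit false

namespace Cfsg.Agent.Lib.Helper3.S1233B2

open Cfsg.Agent.Lib.Helper1.S1233

variable {S : Type*} [Group S] {Q₁ Q₂ : Subgroup S} {z c i j : S} {n ε : ℕ}

theorem conj_pow' (x c : S) (k : ℕ) : x⁻¹ * c ^ k * x = (x⁻¹ * c * x) ^ k := by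
  have := conj_pow (a := x⁻¹) (b := c) (i := k)
  simpa using this.symm

theorem pow_four' (a : S) : a ^ 4 = a * a * (a * a) := by
  simp [pow_succ, mul_assoc]

theorem side_inf_of (hB : Base Q₁ Q₂ z) (hinf : Q₁ ⊓ Q₂ = Zs z)
    (hcent : ∀ x ∈ Q₁ ⊔ Q₂, (∀ b ∈ Q₂, x * b = b * x) → x ∈ Q₁)
    (hcent' : ∀ x ∈ Q₁ ⊔ Q₂, (∀ a ∈ Q₁, x * a = a * x) → x ∈ Q₂) :
    cen Q₂ ⊓ cen Q₁ = Zs z := by
  apply le_antisymm
  · intro x hx
    obtain ⟨hx2, hx1⟩ := Subgroup.mem_inf.mp hx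
    rw [Subgroup.mem_centralizer_iff] at hx1 hx2
    have hsup : Q₁ ⊔ Q₂ ≤ Subgroup.centralizer {x} := by
      apply sup_le
      · intro a ha
        rw [Subgroup.mem_centralizer_iff]
        intro y hy
        rw [Set.mem_singleton_iff] at hy
        subst hy
        exact (hx1 a ha).symm
      · intro a ha
        rw [Subgroup.mem_centralizer_iff]
        intro y hy
        rw [Set.mem_singleton_iff] at hy
        subst hy
        exact (hx2 a ha).symm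
    have hxc : x ∈ cen (Q₁ ⊔ Q₂) := by
      rw [Subgroup.mem_centralizer_iff]
      intro h hh
      have := hsup hh
      rw [Subgroup.mem_centralizer_iff] at this
      exact (this x rfl).symm
    have hxQ := hB.cent hxc
    have h1 : x ∈ Q₁ := hcent x hxQ (fun b hb => (hx2 b hb).symm)
    have h2 : x ∈ Q₂ := hcent' x hxQ (fun a ha => (hx1 a ha).symm)
    rw [← hinf]
    exact Subgroup.mem_inf.mpr ⟨h1, h2⟩
  · rw [Subgroup.zpowers_le]
    refine Subgroup.mem_inf.mpr ⟨?_, ?_⟩ <;>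
    · rw [Subgroup.mem_centralizer_iff]
      intro h _
      exact hB.z_central h

theorem j_not_zpowers_i (hs : Side Q₁ (cen Q₂) z c i j n ε) : j ∉ Subgroup.zpowers i := by
  intro h
  apply hs.j_not
  have : Subgroup.zpowers i ≤ Subgroup.zpowers c := by
    rw [Subgroup.zpowers_le]; exact i_mem_zpowers hs
  exact this h

theorem side_q_of (hq8 : ∀ x ∈ Q₁, x ∈ Zs z ∨ x * x = z)
    (hgen : ∀ x ∈ Q₁, ∀ y ∈ Q₁, x * x = z → y * y = z →
      y ∉ Subgroup.zpowers x → y⁻¹ * x * y = x⁻¹ ∧ Q₁ = Subgroup.closure {x, y})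
    (hs : Side Q₁ (cen Q₂) z c i j n ε) : Q₁ = Subgroup.closure {i, j} :=
  (hgen i hs.i_mem j hs.j_mem (side_i_sq hs) (side_j_sq hq8 hs) (j_not_zpowers_i hs)).2

theorem side_eps (hs : Side Q₁ (cen Q₂) z c i j n ε) (h3 : 3 ≤ n) : ε % 4 = 3 := by
  obtain ⟨m, rfl⟩ : ∃ m, n = m + 3 := ⟨n - 3, by omega⟩
  have hk : 1 ≤ 2 ^ m := Nat.one_le_two_pow
  rcases hs.eps with h | ⟨-, h⟩
  · rw [h, show 2 ^ (m + 3) = 8 * 2 ^ m by ring]; omega
  · rw [h, show m + 3 - 1 = m + 2 by omega, show 2 ^ (m + 2) = 4 * 2 ^ m by ring]; omega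

theorem z_comm (hB : Base Q₁ Q₂ z) (g : S) : g * z = z * g := hB.z_central g

theorem c_pow_eps (hB : Base Q₁ Q₂ z) (hs : Side Q₁ (cen Q₂) z c i j n ε) :
    c ^ ε = c⁻¹ ∨ (3 ≤ n ∧ c ^ ε = z * c⁻¹) := by
  have h2 := hs.two_le
  have hord : c ^ (2 ^ n) = 1 := by rw [← hs.ord]; exact pow_orderOf_eq_one c
  rcases hs.eps with h | ⟨h3, h⟩
  · left
    have h1 : c ^ ε * c = 1 := by
      rw [← pow_succ, h, Nat.sub_add_cancel Nat.one_le_two_pow, hord]
    exact eq_inv_of_mul_eq_one_left h1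
  · right
    refine ⟨h3, ?_⟩
    have h1 : c ^ ε * c = z := by
      rw [← pow_succ, h, Nat.sub_add_cancel Nat.one_le_two_pow, hs.c_pow]
    rw [← h1]; group

theorem i_pow_four (hB : Base Q₁ Q₂ z) (hs : Side Q₁ (cen Q₂) z c i j n ε) : i ^ 4 = 1 := by
  have h := side_i_sq hs
  rw [pow_four', h, hB.z_sq]

theorem i_ne_inv (hB : Base Q₁ Q₂ z) (hs : Side Q₁ (cen Q₂) z c i j n ε) : i ≠ i⁻¹ := by
  intro h
  apply hB.z_ne
  rw [← side_i_sq hs]
  nth_rewrite 1 [h]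
  group

/-- conjugation by `x ∉ ⟨c⟩` inverts `i` (for `3 ≤ n`). -/
theorem conj_i (hB : Base Q₁ Q₂ z) (hs : Side Q₁ (cen Q₂) z c i j n ε) (h3 : 3 ≤ n)
    (x : S) (hx : x ∈ cen Q₂) (hxc : x ∉ Subgroup.zpowers c) : x⁻¹ * i * x = i⁻¹ := by
  have hact := hs.act x hx hxc
  have h1 : x⁻¹ * i * x = i ^ ε := by
    rw [hs.i_eq, conj_pow', hact, ← pow_mul, ← pow_mul, mul_comm]
  have h4 := i_pow_four hB hs
  have he := side_eps hs h3
  have h2 : i ^ ε = i ^ 3 := by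
    conv_lhs => rw [← Nat.div_add_mod ε 4, he, pow_add, pow_mul, h4, one_pow, one_mul]
  rw [h1, h2]
  apply eq_inv_of_mul_eq_one_left
  rw [← pow_succ]; exact h4

theorem side_cent_i (hB : Base Q₁ Q₂ z) (hs : Side Q₁ (cen Q₂) z c i j n ε) (h3 : 3 ≤ n) :
    ∀ x ∈ cen Q₂, x * i = i * x → x ∈ Subgroup.zpowers c := by
  intro x hx hxi
  by_contra hxc
  have h1 := conj_i hB hs h3 x hx hxc
  apply i_ne_inv hB hs
  rw [← h1, mul_assoc, ← hxi]; group

theorem four_lt (h3 : 3 ≤ n) : 4 < 2 ^ n := by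
  calc 4 < 2 ^ 3 := by norm_num
    _ ≤ 2 ^ n := Nat.pow_le_pow_right (by norm_num) h3

theorem c_pow_four_ne (hs : Side Q₁ (cen Q₂) z c i j n ε) (h3 : 3 ≤ n) : c ^ 4 ≠ 1 := by
  intro h
  have := orderOf_dvd_of_pow_eq_one h
  rw [hs.ord] at this
  have := Nat.le_of_dvd (by norm_num) this
  have := four_lt h3
  omega

theorem side_comm_z (hB : Base Q₁ Q₂ z) (hs : Side Q₁ (cen Q₂) z c i j n ε) (h3 : 3 ≤ n) :
    ∀ x ∈ cen Q₂, cm x (c) ∈ Zs z → x ∈ Subgroup.zpowers c := by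
  intro x hx hcm
  by_contra hxc
  have hact := hs.act x hx hxc
  have hcm' : cm x c = (c ^ ε)⁻¹ * c := by
    show x⁻¹ * c⁻¹ * x * c = _
    rw [← hact]; group
  -- elements of `Zs z` square to one
  have hsq : cm x c * cm x c = 1 := by
    obtain ⟨k, hk⟩ := Subgroup.mem_zpowers_iff.mp hcm
    rw [← hk, ← zpow_add, ← two_mul, zpow_mul, zpow_two, hB.z_sq, one_zpow]
  apply c_pow_four_ne hs h3
  have hzc : z * c = c * z := (hB.z_central c).symm
  rcases c_pow_eps hB hs with h | ⟨-, h⟩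
  · rw [hcm', h, inv_inv] at hsq
    rw [pow_four']; exact hsq
  · rw [hcm', h] at hsq
    have hz1 : z⁻¹ = z := by
      apply inv_eq_of_mul_eq_one_left; exact hB.z_sq
    have h5 : (z * c⁻¹)⁻¹ * c = c * c * z := by
      rw [mul_inv_rev, inv_inv, hz1, mul_assoc, hzc, ← mul_assoc]
    rw [h5] at hsq
    have h6 : c * c * z * (c * c * z) = c ^ 4 * (z * z) := by
      have hzcc : z * (c * c) = (c * c) * z := by
        rw [← mul_assoc, hzc, mul_assoc, hzc, ← mul_assoc]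
      calc c * c * z * (c * c * z) = c * c * (z * (c * c)) * z := by group
        _ = c * c * ((c * c) * z) * z := by rw [hzcc]
        _ = c ^ 4 * (z * z) := by rw [pow_four']; group
    rw [h6, hB.z_sq, mul_one] at hsq
    exact hsq

end Cfsg.Agent.Lib.Helper3.S1233B2
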