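import Mathlib
import Cfsg.Agent.Lib.Helper1.S1233Defs
import Cfsg.Agent.Lib.Helper3.S1233B2b

/-!
# Farm S1233, unit U-B2api (helper3), part 3: `side_e`.
-/

set_option autoImplicit false

namespace Cfsg.Agent.Lib.Helper3.S1233B2

open Cfsg.Agent.Lib.Helper1.S1233

variable {S : Type*} [Group S] {Q₁ Q₂ : Subgroup S} {z c i j : S} {n ε : ℕ}

theorem side_e (hB : Base Q₁ Q₂ z) (hs : Side Q₁ (cen Q₂) z c i j n ε) (h3 : 3 ≤ n) :
    (c ^ (2 ^ (n - 3))) * (c ^ (2 ^ (n - 3))) = i ∧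
    (cm j (c ^ (2 ^ (n - 3))) = i ∨ cm j (c ^ (2 ^ (n - 3))) = i⁻¹) := by
  have hee : (c ^ (2 ^ (n - 3))) * (c ^ (2 ^ (n - 3))) = i := by
    rw [hs.i_eq, ← pow_add]
    congr 1
    have := two_pow_pred (n := n - 2) (by omega)
    rw [show n - 2 - 1 = n - 3 by omega] at this
    exact this
  refine ⟨hee, ?_⟩
  set e := c ^ (2 ^ (n - 3)) with he
  have hjX : j ∈ cen Q₂ := side_le hB hs.j_mem
  have hact := hs.act j hjX hs.j_not
  have hconj : j⁻¹ * e * j = (c ^ ε) ^ (2 ^ (n - 3)) := by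
    rw [he, conj_pow', hact]
  have hcm : cm j e = (j⁻¹ * e * j)⁻¹ * e := by
    show j⁻¹ * e⁻¹ * j * e = _
    group
  rcases c_pow_eps hB hs with h | ⟨-, h⟩
  · left
    rw [hcm, hconj, h, inv_pow, inv_inv, ← he, hee]
  · have hcz : Commute z c⁻¹ := by
      have : z * c⁻¹ = c⁻¹ * z := by
        have h1 := hB.z_central c⁻¹
        exact h1.symm
      exact this
    have h1 : (c ^ ε) ^ (2 ^ (n - 3)) = z ^ (2 ^ (n - 3)) * e⁻¹ := by
      rw [h, hcz.mul_pow, inv_pow]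
    have hze : ∀ g : S, g * z ^ (2 ^ (n - 3)) = z ^ (2 ^ (n - 3)) * g := by
      intro g
      have : Commute g z := hB.z_central g
      exact (this.pow_right _)
    have h2 : cm j e = i * (z ^ (2 ^ (n - 3)))⁻¹ := by
      rw [hcm, hconj, h1, mul_inv_rev, inv_inv, ← hee]
      have h3' := hze e
      have : e * (z ^ 2 ^ (n - 3))⁻¹ = (z ^ 2 ^ (n - 3))⁻¹ * e := by
        rw [eq_inv_mul_iff_mul_eq, ← mul_assoc, ← h3', mul_assoc, mul_inv_cancel, mul_one]
      rw [mul_assoc, ← this]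
      group
    by_cases hn3 : n = 3
    · right
      subst hn3
      rw [h2]
      have hz1 : z⁻¹ = z := inv_eq_of_mul_eq_one_left hB.z_sq
      have h4 := i_pow_four hB hs
      simp only [Nat.sub_self, pow_zero, pow_one]
      rw [hz1, ← side_i_sq hs]
      apply eq_inv_of_mul_eq_one_left
      rw [← h4, pow_four']; group
    · left
      rw [h2]
      obtain ⟨m, hm⟩ : ∃ m, n - 3 = m + 1 := ⟨n - 4, by omega⟩
      have hz2 : z ^ 2 ^ (m + 1) = 1 := by
        rw [pow_succ, mul_comm, pow_mul, pow_two, hB.z_sq, one_pow]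
      rw [hm, hz2, inv_one, mul_one]

end Cfsg.Agent.Lib.Helper3.S1233B2
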