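import Mathlib

/-!
# Farm S1233, unit U-B2 (helper3), part d: cyclic 2-groups, a little number theory, `Q8` elements.
-/

set_option autoImplicit false

namespace Cfsg.Agent.Lib.Helper3.S1233B2

variable {S : Type*} [Group S]

theorem exists_pow_of_mem_zpowers [Finite S] (c x : S) (hx : x ∈ Subgroup.zpowers c) :
    ∃ k : ℕ, k < orderOf c ∧ c ^ k = x := by
  classical
  rw [mem_zpowers_iff_mem_range_orderOf] at hx
  obtain ⟨k, hk, rfl⟩ := Finset.mem_image.mp hx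
  exact ⟨k, Finset.mem_range.mp hk, rfl⟩

theorem exists_pow_of_pow_eq_one [Finite S] {c x : S} {n a : ℕ} (hord : orderOf c = 2 ^ n)
    (ha : a ≤ n) (hx : x ∈ Subgroup.zpowers c) (hxa : x ^ (2 ^ a) = 1) :
    ∃ t : ℕ, x = (c ^ (2 ^ (n - a))) ^ t := by
  obtain ⟨k, -, rfl⟩ := exists_pow_of_mem_zpowers c x hx
  rw [← pow_mul] at hxa
  have h1 := orderOf_dvd_of_pow_eq_one hxa
  rw [hord] at h1
  have h2 : 2 ^ n = 2 ^ (n - a) * 2 ^ a := by rw [← pow_add]; congr 1; omega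
  rw [h2] at h1
  have h3 : 2 ^ (n - a) ∣ k := Nat.dvd_of_mul_dvd_mul_right (by positivity) h1
  obtain ⟨t, rfl⟩ := h3
  exact ⟨t, by rw [pow_mul]⟩

theorem pow_two_pow_eq_one {c : S} {n : ℕ} (hord : orderOf c = 2 ^ n) : c ^ (2 ^ n) = 1 := by
  rw [← hord]; exact pow_orderOf_eq_one c

/-- the unique involution of a cyclic group of order `2 ^ n` -/
theorem involution_eq [Finite S] {c w : S} {n : ℕ} (hord : orderOf c = 2 ^ n) (hn : 1 ≤ n)
    (hw : w ∈ Subgroup.zpowers c) (hw1 : w ≠ 1) (hww : w * w = 1) : c ^ (2 ^ (n - 1)) = w := by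
  obtain ⟨t, ht⟩ := exists_pow_of_pow_eq_one hord hn hw (a := 1) (by rw [pow_one, pow_two]; exact hww)
  set y := c ^ (2 ^ (n - 1)) with hy
  have hyy : y ^ 2 = 1 := by
    rw [hy, ← pow_mul, ← pow_succ, Nat.sub_add_cancel hn]; exact pow_two_pow_eq_one hord
  rw [← Nat.div_add_mod t 2, pow_add, pow_mul, hyy, one_pow, one_mul] at ht
  rcases Nat.mod_two_eq_zero_or_one t with h | h
  · rw [h, pow_zero] at ht; exact absurd ht hw1
  · rw [h, pow_one] at ht; exact ht.symm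

/-- the elements of order 4 of a cyclic group of order `2 ^ n` -/
theorem order_four_eq [Finite S] {c q z : S} {n : ℕ} (hord : orderOf c = 2 ^ n) (hn : 2 ≤ n)
    (hz : c ^ (2 ^ (n - 1)) = z) (hz1 : z ≠ 1)
    (hq : q ∈ Subgroup.zpowers c) (hqq : q * q = z) :
    c ^ (2 ^ (n - 2)) = q ∨ c ^ (2 ^ (n - 2)) = q⁻¹ := by
  have hzz : z * z = 1 := by
    rw [← hz, ← pow_add]
    have : 2 ^ (n - 1) + 2 ^ (n - 1) = 2 ^ n := by
      obtain ⟨m, rfl⟩ : ∃ m, n = m + 1 := ⟨n - 1, by omega⟩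
      simp [pow_succ]; ring
    rw [this]; exact pow_two_pow_eq_one hord
  have hq4 : q ^ (2 ^ 2) = 1 := by
    have : q ^ (2 ^ 2) = (q * q) * (q * q) := by simp [pow_succ, mul_assoc]
    rw [this, hqq, hzz]
  obtain ⟨t, ht⟩ := exists_pow_of_pow_eq_one hord hn hq hq4
  set i := c ^ (2 ^ (n - 2)) with hi
  have hii : i * i = z := by
    rw [hi, ← pow_add, ← hz]
    congr 1
    obtain ⟨m, rfl⟩ : ∃ m, n = m + 2 := ⟨n - 2, by omega⟩
    simp [pow_succ]; ring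
  have hi4 : i ^ 4 = 1 := by
    have : i ^ 4 = (i * i) * (i * i) := by simp [pow_succ, mul_assoc]
    rw [this, hii, hzz]
  rw [← Nat.div_add_mod t 4, pow_add, pow_mul, hi4, one_pow, one_mul] at ht
  have h4 : t % 4 < 4 := Nat.mod_lt _ (by norm_num)
  interval_cases h : t % 4
  · rw [pow_zero] at ht
    rw [ht, one_mul] at hqq
    exact absurd hqq.symm hz1
  · rw [pow_one] at ht; exact Or.inl ht.symm
  · have : i ^ 2 = z := by rw [pow_two, hii]
    rw [this] at ht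
    rw [ht, hzz] at hqq
    exact absurd hqq.symm hz1
  · right
    rw [ht]
    apply eq_inv_of_mul_eq_one_left
    rw [← pow_succ']; exact hi4

/-- number theory: the square roots of `1` modulo `2 ^ n` that are `≡ 3 mod 4` -/
theorem nt_eps {n e : ℕ} (hn : 3 ≤ n) (he : e < 2 ^ n) (h4 : e % 4 = 3)
    (hd : 2 ^ n ∣ e * e - 1) : e = 2 ^ n - 1 ∨ e = 2 ^ (n - 1) - 1 := by
  obtain ⟨k, rfl⟩ : ∃ k, e = 4 * k + 3 := ⟨e / 4, by omega⟩
  have h1 : (4 * k + 3) * (4 * k + 3) - 1 = 2 * ((2 * k + 1) * (4 * k + 4)) := by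
    have : (4 * k + 3) * (4 * k + 3) = 2 * ((2 * k + 1) * (4 * k + 4)) + 1 := by ring
    omega
  rw [h1] at hd
  have h2 : 2 ^ n = 2 * 2 ^ (n - 1) := by
    rw [← pow_succ']; congr 1; omega
  rw [h2] at hd
  have h3 : 2 ^ (n - 1) ∣ (2 * k + 1) * (4 * k + 4) := Nat.dvd_of_mul_dvd_mul_left (by norm_num) hd
  have hcop : Nat.Coprime (2 ^ (n - 1)) (2 * k + 1) := by
    apply Nat.Coprime.pow_left
    rw [Nat.coprime_two_left]
    exact ⟨k, rfl⟩
  have h5 : 2 ^ (n - 1) ∣ 4 * k + 4 := hcop.dvd_of_dvd_mul_left h3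
  obtain ⟨t, ht⟩ := h5
  have hpos : 0 < 2 ^ (n - 1) := by positivity
  have ht0 : t ≠ 0 := by rintro rfl; omega
  have ht2 : t ≤ 2 := by
    by_contra hlt
    push Not at hlt
    have : 2 ^ (n - 1) * 3 ≤ 2 ^ (n - 1) * t := Nat.mul_le_mul_left _ hlt
    omega
  rw [h2]
  clear hd h3 hcop h1
  generalize 2 ^ (n - 1) = P at *
  have ht12 : t = 1 ∨ t = 2 := by omega
  rcases ht12 with rfl | rfl
  · right; omega
  · left; omega

end Cfsg.Agent.Lib.Helper3.S1233B2
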