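import Mathlib
import Cfsg.Agent.Lib.Helper1.S1233Defs
import Cfsg.Agent.Lib.Helper3.S1233B2c
import Cfsg.Agent.Lib.Helper3.S1233B2d

/-!
# Farm S1233, unit U-B2 (helper3), part e: elements of `Q8`, and `exists_side` when `C_S(Q₂) = Q₁`.
-/

set_option autoImplicit false

namespace Cfsg.Agent.Lib.Helper3.S1233B2

open Cfsg.Agent.Lib.Helper1.S1233

variable {S : Type*} [Group S] {Q₁ Q₂ : Subgroup S} {z : S}

theorem q8_elems {Q : Subgroup S} (e : Q ≃* QuaternionGroup 2) :
    ∃ a b : S, a ∈ Q ∧ b ∈ Q ∧ a * a ≠ 1 ∧ b * b ≠ 1 ∧ (a * b⁻¹) * (a * b⁻¹) ≠ 1 ∧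
      a * b ≠ b * a := by
  refine ⟨(e.symm (QuaternionGroup.a 1) : S), (e.symm (QuaternionGroup.xa 0) : S),
    (e.symm _).2, (e.symm _).2, ?_, ?_, ?_, ?_⟩
  · intro h
    have h1 : e.symm (QuaternionGroup.a 1 * QuaternionGroup.a 1) = 1 := by
      apply Subtype.ext
      rw [map_mul]; exact h
    have h2 := e.symm.injective (h1.trans (map_one e.symm).symm)
    revert h2; decide
  · intro h
    have h1 : e.symm (QuaternionGroup.xa 0 * QuaternionGroup.xa 0) = 1 := by
      apply Subtype.ext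
      rw [map_mul]; exact h
    have h2 := e.symm.injective (h1.trans (map_one e.symm).symm)
    revert h2; decide
  · intro h
    have h1 : e.symm ((QuaternionGroup.a 1 * (QuaternionGroup.xa 0)⁻¹) *
        (QuaternionGroup.a 1 * (QuaternionGroup.xa 0)⁻¹)) = 1 := by
      apply Subtype.ext
      simp only [map_mul, map_inv, Subgroup.coe_mul, Subgroup.coe_inv, Subgroup.coe_one]
      exact h
    have h2 := e.symm.injective (h1.trans (map_one e.symm).symm)
    revert h2; decide
  · intro h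
    have h1 : e.symm (QuaternionGroup.a 1 * QuaternionGroup.xa 0) =
        e.symm (QuaternionGroup.xa 0 * QuaternionGroup.a 1) := by
      apply Subtype.ext
      simp only [map_mul, Subgroup.coe_mul]
      exact h
    have h2 := e.symm.injective h1
    revert h2; decide

theorem card_q8 {Q : Subgroup S} (e : Q ≃* QuaternionGroup 2) : Nat.card Q = 8 := by
  rw [Nat.card_congr e.toEquiv, Nat.card_eq_fintype_card, QuaternionGroup.card]

theorem zs_sq (hB : Base Q₁ Q₂ z) : ∀ w ∈ Zs z, w * w = 1 := by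
  intro w hw
  obtain ⟨k, hk⟩ := Subgroup.mem_zpowers_iff.mp hw
  rw [← hk, ← zpow_add, ← two_mul, zpow_mul, zpow_two, hB.z_sq, one_zpow]

theorem zs_cases (hB : Base Q₁ Q₂ z) : ∀ w ∈ Zs z, w = 1 ∨ w = z := by
  intro w hw
  obtain ⟨k, hk⟩ := Subgroup.mem_zpowers_iff.mp hw
  rcases Int.even_or_odd k with ⟨m, hm⟩ | ⟨m, hm⟩
  · left
    rw [← hk, hm, ← two_mul, zpow_mul, zpow_two, hB.z_sq, one_zpow]
  · right
    rw [← hk, hm, zpow_add, zpow_mul, zpow_two, hB.z_sq, one_zpow, one_mul, zpow_one]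

theorem side_of_card_eight (hB : Base Q₁ Q₂ z)
    (hq8 : ∀ x ∈ Q₁, x ∈ Zs z ∨ x * x = z)
    (hgen : ∀ x ∈ Q₁, ∀ y ∈ Q₁, x * x = z → y * y = z →
      y ∉ Subgroup.zpowers x → y⁻¹ * x * y = x⁻¹ ∧ Q₁ = Subgroup.closure {x, y})
    (hcard : Nat.card ↥(cen Q₂) = 8) :
    ∃ (c i j : S) (n ε : ℕ), Side Q₁ (cen Q₂) z c i j n ε := by
  have := hB.fin
  obtain ⟨e⟩ := hB.q1
  have hQX : Q₁ = cen Q₂ :=
    Subgroup.eq_of_le_of_card_ge (side_le hB) (by rw [hcard, card_q8 e])
  obtain ⟨a, b, ha, hb, haa, hbb, -, hab⟩ := q8_elems e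
  have haz : a * a = z := by
    rcases hq8 a ha with h | h
    · exact absurd (zs_sq hB a h) haa
    · exact h
  have hbz : b * b = z := by
    rcases hq8 b hb with h | h
    · exact absurd (zs_sq hB b h) hbb
    · exact h
  have hb_not : b ∉ Subgroup.zpowers a := by
    intro h
    obtain ⟨k, hk⟩ := Subgroup.mem_zpowers_iff.mp h
    apply hab
    rw [← hk]
    exact ((Commute.refl a).zpow_right k).eq
  have ha4 : a ^ 4 = 1 := by rw [pow_four', haz, hB.z_sq]
  have hzle : Zs z ≤ Subgroup.zpowers a := by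
    rw [Subgroup.zpowers_le, ← haz, ← pow_two]; exact Subgroup.npow_mem_zpowers _ _
  refine ⟨a, a, b, 2, 3, ?_⟩
  refine
    { two_le := le_refl 2
      card := by rw [hcard]; norm_num
      c_mem := side_le hB ha
      ord := ?_
      c_pow := by simpa [pow_two] using haz
      i_eq := by simp
      i_mem := ha
      j_mem := hb
      j_not := hb_not
      act := ?_
      eps := Or.inl (by norm_num) }
  · have := orderOf_eq_prime_pow (x := a) (p := 2) (n := 1)
      (by rw [pow_one, pow_two, haz]; exact hB.z_ne) (by norm_num; exact ha4)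
    simpa using this
  · intro x hx hxa
    rw [← hQX] at hx
    have hxz : x * x = z := by
      rcases hq8 x hx with h | h
      · exact absurd (hzle h) hxa
      · exact h
    rw [(hgen a ha x hx haz hxz hxa).1]
    apply inv_eq_of_mul_eq_one_left
    rw [← pow_succ]; exact ha4

end Cfsg.Agent.Lib.Helper3.S1233B2
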