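import Mathlib
import Cfsg.Agent.Lib.Helper1.S1233Defs
import Cfsg.Agent.Lib.Helper1.MaxClassSelfCentralizing
import Cfsg.Agent.Lib.Helper1.MaxClassTwoC
import Cfsg.Agent.Lib.Helper3.S1233B2e

/-!
# Farm S1233, unit U-B2 (helper3), part f: the cyclic subgroup of index 2 of `X = C_S(Q₂)`
when `|X| ≥ 16` (quotient by `⟨z⟩`, Suzuki's lemma, lifting the cyclic maximal subgroup).
-/

set_option autoImplicit false

namespace Cfsg.Agent.Lib.Helper3.S1233B2

open Cfsg.Agent.Lib.Helper1.S1233 Cfsg.Agent.Lib.Helper1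

variable {S : Type*} [Group S] {Q₁ Q₂ : Subgroup S} {z : S}

/-- `{q | [g, q] ∈ ⟨z⟩}` is a subgroup (`z` central). -/
def cmSub (hB : Base Q₁ Q₂ z) (g : S) : Subgroup S where
  carrier := {q | cm g q ∈ Zs z}
  one_mem' := by
    show cm g 1 ∈ Zs z
    have : cm g 1 = 1 := by simp [cm]
    rw [this]; exact Subgroup.one_mem _
  mul_mem' := by
    intro a b ha hb
    show cm g (a * b) ∈ Zs z
    have ha' : cm g a ∈ Zs z := ha
    have hb' : cm g b ∈ Zs z := hb
    have hcen : ∀ h : S, h * cm g a = cm g a * h := by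
      intro h
      obtain ⟨k, hk⟩ := Subgroup.mem_zpowers_iff.mp ha'
      rw [← hk]
      exact ((show Commute h z from hB.z_central h).zpow_right k).eq
    have : cm g (a * b) = cm g a * cm g b := by
      have h1 : cm g (a * b) = g⁻¹ * b⁻¹ * g * (cm g a) * b := by
        simp only [cm]; group
      rw [h1, mul_assoc, ← hcen b, ← mul_assoc]
      exact hcen (cm g b)
    rw [this]
    exact Subgroup.mul_mem _ ha' hb'
  inv_mem' := by
    intro a ha
    show cm g a⁻¹ ∈ Zs z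
    have ha' : cm g a ∈ Zs z := ha
    have hcen : ∀ h : S, h * cm g a = cm g a * h := by
      intro h
      obtain ⟨k, hk⟩ := Subgroup.mem_zpowers_iff.mp ha'
      rw [← hk]
      exact ((show Commute h z from hB.z_central h).zpow_right k).eq
    have : cm g a⁻¹ = (cm g a)⁻¹ := by
      have h1 : cm g a⁻¹ = a * (cm g a)⁻¹ * a⁻¹ := by simp only [cm]; group
      have hcen' : ∀ h : S, h * (cm g a)⁻¹ = (cm g a)⁻¹ * h := by
        intro h
        exact ((show Commute h (cm g a) from hcen h).inv_right).eq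
      rw [h1, hcen' a, mul_assoc, mul_inv_cancel, mul_one]
    rw [this]
    exact Subgroup.inv_mem _ ha'

theorem mem_cmSub (hB : Base Q₁ Q₂ z) (g q : S) : q ∈ cmSub hB g ↔ cm g q ∈ Zs z := Iff.rfl

/-- B1: `Q₁ / ⟨z⟩` is self-centralizing in `C_S(Q₂) / ⟨z⟩`. -/
theorem B1_of (hB : Base Q₁ Q₂ z)
    (hcent : ∀ x ∈ Q₁ ⊔ Q₂, (∀ b ∈ Q₂, x * b = b * x) → x ∈ Q₁)
    (hA2 : ∀ x : S, (∀ q ∈ Q₁ ⊔ Q₂, cm x (q) ∈ Zs z) → x ∈ Q₁ ⊔ Q₂) :
    ∀ x ∈ cen Q₂, (∀ a ∈ Q₁, cm x (a) ∈ Zs z) → x ∈ Q₁ := by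
  intro x hx hxa
  rw [Subgroup.mem_centralizer_iff] at hx
  have hle : Q₁ ⊔ Q₂ ≤ cmSub hB x := by
    apply sup_le
    · intro a ha; exact (mem_cmSub hB x a).mpr (hxa a ha)
    · intro b hb
      rw [mem_cmSub]
      have h1 := hx b hb
      have : cm x b = 1 := by
        show x⁻¹ * b⁻¹ * x * b = 1
        have : x * b = b * x := h1.symm
        calc x⁻¹ * b⁻¹ * x * b = x⁻¹ * b⁻¹ * (x * b) := by group
          _ = x⁻¹ * b⁻¹ * (b * x) := by rw [this]
          _ = 1 := by group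
      rw [this]; exact Subgroup.one_mem _
  have hxQ : x ∈ Q₁ ⊔ Q₂ := hA2 x (fun q hq => (mem_cmSub hB x q).mp (hle hq))
  exact hcent x hxQ (fun b hb => (hx b hb).symm)

end Cfsg.Agent.Lib.Helper3.S1233B2
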