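import Mathlib
import Cfsg.Agent.Lib.Helper1.S1233Defs
import Cfsg.Agent.Lib.Helper1.MaxClassSelfCentralizing
import Cfsg.Agent.Lib.Helper1.MaxClassTwoC
import Cfsg.Agent.Lib.Helper3.S1233B2f

/-!
# Farm S1233, unit U-B2 (helper3), part g: existence of the cyclic subgroup of index 2 in
`X = C_S(Q₂)` when `|X| = 2 ^ (m + 1)`, `m ≥ 3`.
-/

set_option autoImplicit false

namespace Cfsg.Agent.Lib.Helper3.S1233B2

open Cfsg.Agent.Lib.Helper1.S1233 Cfsg.Agent.Lib.Helper1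

variable {S : Type*} [Group S] {Q₁ Q₂ : Subgroup S} {z : S}

theorem z_mem_cen (hB : Base Q₁ Q₂ z) (H : Subgroup S) : z ∈ cen H := by
  rw [Subgroup.mem_centralizer_iff]
  intro h _
  exact hB.z_central h

theorem orderOf_z (hB : Base Q₁ Q₂ z) : orderOf z = 2 := by
  have : Fact (Nat.Prime 2) := ⟨Nat.prime_two⟩
  apply orderOf_eq_prime
  · rw [pow_two]; exact hB.z_sq
  · exact hB.z_ne

theorem exists_cyclic (hB : Base Q₁ Q₂ z) (hinf : Q₁ ⊓ Q₂ = Zs z)
    (hcent : ∀ x ∈ Q₁ ⊔ Q₂, (∀ b ∈ Q₂, x * b = b * x) → x ∈ Q₁)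
    (hcent' : ∀ x ∈ Q₁ ⊔ Q₂, (∀ a ∈ Q₁, x * a = a * x) → x ∈ Q₂)
    (hA2 : ∀ x : S, (∀ q ∈ Q₁ ⊔ Q₂, cm x (q) ∈ Zs z) → x ∈ Q₁ ⊔ Q₂)
    (m : ℕ) (hm : 3 ≤ m) (hcard : Nat.card ↥(cen Q₂) = 2 ^ (m + 1)) :
    ∃ c ∈ cen Q₂, orderOf c = 2 ^ m ∧ z ∈ Subgroup.zpowers c := by
  have hfin := hB.fin
  have hp2 : Fact (Nat.Prime 2) := ⟨Nat.prime_two⟩
  obtain ⟨e⟩ := hB.q1
  have hQ1X : Q₁ ≤ cen Q₂ := side_le hB
  have hzX : z ∈ cen Q₂ := z_mem_cen hB Q₂
  have hZX : Zs z ≤ cen Q₂ := by rw [Subgroup.zpowers_le]; exact hzX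
  -- the normal subgroup `N = ⟨z⟩` of `X`
  set N : Subgroup ↥(cen Q₂) := (Zs z).subgroupOf (cen Q₂) with hN
  have hNZ : N ≤ Subgroup.center ↥(cen Q₂) := by
    intro x hx
    rw [Subgroup.mem_center_iff]
    intro g
    apply Subtype.ext
    have hx' : (x : S) ∈ Zs z := Subgroup.mem_subgroupOf.mp hx
    obtain ⟨k, hk⟩ := Subgroup.mem_zpowers_iff.mp hx'
    show (g : S) * (x : S) = (x : S) * (g : S)
    rw [← hk]
    exact ((show Commute (g : S) z from hB.z_central g).zpow_right k).eq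
  have hNn : N.Normal := by
    constructor
    intro n hn g
    have := Subgroup.mem_center_iff.mp (hNZ hn) g
    rw [this, mul_inv_cancel_right]
    exact hn
  have hN2 : Nat.card N = 2 := by
    rw [hN, Nat.card_congr (Subgroup.subgroupOfEquivOfLe hZX).toEquiv, Nat.card_zpowers, orderOf_z hB]
  -- the image `A` of `Q₁`
  set Q1x : Subgroup ↥(cen Q₂) := Q₁.subgroupOf (cen Q₂) with hQ1x
  have hQ1xcard : Nat.card Q1x = 8 := by
    rw [hQ1x, Nat.card_congr (Subgroup.subgroupOfEquivOfLe hQ1X).toEquiv, card_q8 e]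
  have hNle : N ≤ Q1x := by
    intro x hx
    have hx' : (x : S) ∈ Zs z := Subgroup.mem_subgroupOf.mp hx
    rw [hQ1x, Subgroup.mem_subgroupOf]
    have : Zs z ≤ Q₁ := by rw [Subgroup.zpowers_le]; exact hB.z_mem₁
    exact this hx'
  set A : Subgroup (↥(cen Q₂) ⧸ N) := Q1x.map (QuotientGroup.mk' N) with hA
  have hAcomap : A.comap (QuotientGroup.mk' N) = Q1x := by
    rw [hA, Subgroup.comap_map_eq, QuotientGroup.ker_mk']
    exact sup_eq_left.mpr hNle
  have hAcard : Nat.card A = 2 ^ 2 := by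
    have h1 := card_comap_mk' N A
    rw [hAcomap, hQ1xcard, hN2] at h1
    omega
  have hGcard : Nat.card (↥(cen Q₂) ⧸ N) = 2 ^ m := by
    have h1 := Subgroup.card_eq_card_quotient_mul_card_subgroup N
    rw [hcard, hN2, pow_succ] at h1
    omega
  have hC : Subgroup.centralizer (A : Set (↥(cen Q₂) ⧸ N)) = A := by
    apply le_antisymm
    · intro gb hgb
      obtain ⟨g, rfl⟩ := QuotientGroup.mk_surjective gb
      rw [Subgroup.mem_centralizer_iff] at hgb
      have hg1 : (g : S) ∈ Q₁ := by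
        apply B1_of hB hcent hA2 (g : S) g.2
        intro a ha
        have haX : a ∈ cen Q₂ := hQ1X ha
        have hmem : ((⟨a, haX⟩ : ↥(cen Q₂)) : ↥(cen Q₂) ⧸ N) ∈ A := by
          rw [hA]
          exact Subgroup.mem_map_of_mem _ (Subgroup.mem_subgroupOf.mpr ha)
        have h1 := hgb _ hmem
        -- `mk a * mk g = mk g * mk a`
        have h2 : ((g * ⟨a, haX⟩ : ↥(cen Q₂)) : ↥(cen Q₂) ⧸ N) = ((⟨a, haX⟩ * g : ↥(cen Q₂)) : ↥(cen Q₂) ⧸ N) := by
          rw [QuotientGroup.mk_mul, QuotientGroup.mk_mul]; exact h1.symm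
        rw [QuotientGroup.eq] at h2
        have h3 := Subgroup.mem_subgroupOf.mp h2
        have h4 : cm (g : S) a = (((g * ⟨a, haX⟩ : ↥(cen Q₂))⁻¹ * (⟨a, haX⟩ * g) : ↥(cen Q₂)) : S)⁻¹ := by
          simp only [cm, Subgroup.coe_mul, Subgroup.coe_inv]
          group
        rw [h4]
        exact Subgroup.inv_mem _ h3
      rw [hA]
      exact Subgroup.mem_map_of_mem _ (Subgroup.mem_subgroupOf.mpr hg1)
    · have : IsMulCommutative A := IsPGroup.isMulCommutative_of_card_eq_prime_sq hAcard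
      exact Subgroup.le_centralizer_iff_isMulCommutative.mpr this
  have hc := max_class_of_self_centralizing (p := 2) m hGcard A hAcard hC
  obtain ⟨C, hCcyc, hCidx⟩ := exists_cyclic_index_two_of_max_class m hm hGcard hc
  have hCn : C.Normal := Subgroup.normal_of_index_eq_two hCidx
  have hCcard : Nat.card C = 2 ^ (m - 1) := by
    have h1 := Subgroup.card_mul_index C
    rw [hCidx, hGcard] at h1
    have h2 : 2 ^ m = 2 ^ (m - 1) * 2 := by rw [← pow_succ]; congr 1; omega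
    rw [h2] at h1
    exact Nat.eq_of_mul_eq_mul_right (by norm_num) h1
  rcases cyclic_lift_or_central N hNZ hN2 (m - 1) (by omega) C hCcyc hCcard with hcyc | ⟨w, hwc, hwN, -⟩
  · obtain ⟨c', hc'⟩ := (Subgroup.isCyclic_iff_exists_zpowers_eq_top _).mp hcyc
    have hcard' : Nat.card (C.comap (QuotientGroup.mk' N)) = 2 ^ m := by
      rw [card_comap_mk', hN2, hCcard, ← pow_succ']; congr 1; omega
    refine ⟨(c' : S), c'.2, ?_, ?_⟩
    · rw [Subgroup.orderOf_coe, ← Nat.card_zpowers, hc', hcard']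
    · have hzmem : (⟨z, hzX⟩ : ↥(cen Q₂)) ∈ C.comap (QuotientGroup.mk' N) := by
        rw [Subgroup.mem_comap]
        have : (QuotientGroup.mk' N) ⟨z, hzX⟩ = 1 := by
          rw [QuotientGroup.mk'_apply, QuotientGroup.eq_one_iff, hN, Subgroup.mem_subgroupOf]
          exact Subgroup.mem_zpowers z
        rw [this]; exact Subgroup.one_mem _
      rw [← hc'] at hzmem
      obtain ⟨k, hk⟩ := Subgroup.mem_zpowers_iff.mp hzmem
      rw [Subgroup.mem_zpowers_iff]
      refine ⟨k, ?_⟩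
      have := congrArg (fun x : ↥(cen Q₂) => (x : S)) hk
      simpa using this
  · exfalso
    apply hwN
    rw [hN, Subgroup.mem_subgroupOf, ← side_inf_of hB hinf hcent hcent']
    refine Subgroup.mem_inf.mpr ⟨w.2, ?_⟩
    rw [Subgroup.mem_centralizer_iff]
    intro a ha
    have haX : a ∈ cen Q₂ := hQ1X ha
    have := Subgroup.mem_center_iff.mp hwc ⟨a, haX⟩
    exact congrArg (fun x : ↥(cen Q₂) => (x : S)) this

end Cfsg.Agent.Lib.Helper3.S1233B2
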