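import Mathlib
import Cfsg.Agent.Lib.Helper1.S1233Defs
import Cfsg.Agent.Lib.Helper3.S1233B2g

/-!
# Farm S1233, unit U-B2 (helper3), part h: `Side` from a cyclic subgroup of index 2
(`|X| = 2 ^ (m + 1)`, `m ≥ 3`), and `exists_side_of`.
-/

set_option autoImplicit false

namespace Cfsg.Agent.Lib.Helper3.S1233B2

open Cfsg.Agent.Lib.Helper1.S1233

variable {S : Type*} [Group S] {Q₁ Q₂ : Subgroup S} {z : S}

theorem side_of_cyclic (hB : Base Q₁ Q₂ z)
    (hq8 : ∀ x ∈ Q₁, x ∈ Zs z ∨ x * x = z)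
    (hgen : ∀ x ∈ Q₁, ∀ y ∈ Q₁, x * x = z → y * y = z →
      y ∉ Subgroup.zpowers x → y⁻¹ * x * y = x⁻¹ ∧ Q₁ = Subgroup.closure {x, y})
    (m : ℕ) (hm : 3 ≤ m) (hcard : Nat.card ↥(cen Q₂) = 2 ^ (m + 1))
    (c : S) (hcX : c ∈ cen Q₂) (hord : orderOf c = 2 ^ m) (hzc : z ∈ Subgroup.zpowers c) :
    ∃ (i j : S) (ε : ℕ), Side Q₁ (cen Q₂) z c i j m ε := by
  have hfin := hB.fin
  obtain ⟨e⟩ := hB.q1
  have hQ1X : Q₁ ≤ cen Q₂ := side_le hB
  have hcle : Subgroup.zpowers c ≤ cen Q₂ := by rw [Subgroup.zpowers_le]; exact hcX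
  have hzle : Zs z ≤ Subgroup.zpowers c := by rw [Subgroup.zpowers_le]; exact hzc
  -- index 2
  have hidx : ((Subgroup.zpowers c).subgroupOf (cen Q₂)).index = 2 := by
    have h1 := Subgroup.card_mul_index ((Subgroup.zpowers c).subgroupOf (cen Q₂))
    rw [Nat.card_congr (Subgroup.subgroupOfEquivOfLe hcle).toEquiv, Nat.card_zpowers, hord,
      hcard, pow_succ] at h1
    exact Nat.eq_of_mul_eq_mul_left (by positivity) h1
  have hnorm : ((Subgroup.zpowers c).subgroupOf (cen Q₂)).Normal :=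
    Subgroup.normal_of_index_eq_two hidx
  have hmul : ∀ x ∈ cen Q₂, ∀ y ∈ cen Q₂, x ∉ Subgroup.zpowers c → y ∉ Subgroup.zpowers c →
      x * y⁻¹ ∈ Subgroup.zpowers c := by
    intro x hx y hy hxc hyc
    have h := Subgroup.mul_mem_iff_of_index_two hidx (a := (⟨x, hx⟩ : ↥(cen Q₂)))
      (b := (⟨y, hy⟩ : ↥(cen Q₂))⁻¹)
    have h' : (⟨x, hx⟩ : ↥(cen Q₂)) * (⟨y, hy⟩ : ↥(cen Q₂))⁻¹ ∈
        (Subgroup.zpowers c).subgroupOf (cen Q₂) := by
      rw [h]
      constructor
      · intro hh; exact absurd (Subgroup.mem_subgroupOf.mp hh) hxc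
      · intro hh
        rw [inv_mem_iff] at hh
        exact absurd (Subgroup.mem_subgroupOf.mp hh) hyc
    have := Subgroup.mem_subgroupOf.mp h'
    simpa using this
  have hconj : ∀ x ∈ cen Q₂, x⁻¹ * c * x ∈ Subgroup.zpowers c := by
    intro x hx
    have h1 : (⟨c, hcX⟩ : ↥(cen Q₂)) ∈ (Subgroup.zpowers c).subgroupOf (cen Q₂) :=
      Subgroup.mem_subgroupOf.mpr (Subgroup.mem_zpowers c)
    have h2 := hnorm.conj_mem _ h1 (⟨x, hx⟩ : ↥(cen Q₂))⁻¹
    have h3 := Subgroup.mem_subgroupOf.mp h2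
    simpa using h3
  -- `z = c ^ (2 ^ (m - 1))`
  have hcpow : c ^ (2 ^ (m - 1)) = z :=
    involution_eq hord (by omega) hzc hB.z_ne hB.z_sq
  -- elements of `Q₁`
  obtain ⟨a, b, ha, hb, haa, hbb, habb, hab⟩ := q8_elems e
  have hsqz : ∀ x ∈ Q₁, x * x ≠ 1 → x * x = z := by
    intro x hx hxx
    rcases hq8 x hx with h | h
    · exact absurd (zs_sq hB x h) hxx
    · exact h
  have haz := hsqz a ha haa
  have hbz := hsqz b hb hbb
  have habz := hsqz (a * b⁻¹) (Q₁.mul_mem ha (Q₁.inv_mem hb)) habb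
  -- an element of order 4 of `Q₁` inside `⟨c⟩`
  obtain ⟨q, hq1, hqq, hqc⟩ : ∃ q ∈ Q₁, q * q = z ∧ q ∈ Subgroup.zpowers c := by
    by_cases h1 : a ∈ Subgroup.zpowers c
    · exact ⟨a, ha, haz, h1⟩
    · by_cases h2 : b ∈ Subgroup.zpowers c
      · exact ⟨b, hb, hbz, h2⟩
      · exact ⟨a * b⁻¹, Q₁.mul_mem ha (Q₁.inv_mem hb), habz,
          hmul a (hQ1X ha) b (hQ1X hb) h1 h2⟩
  -- an element of `Q₁` outside `⟨c⟩`
  obtain ⟨j, hj1, hjc⟩ : ∃ j ∈ Q₁, j ∉ Subgroup.zpowers c := by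
    by_contra hno
    push Not at hno
    apply hab
    obtain ⟨k, hk⟩ := Subgroup.mem_zpowers_iff.mp (hno a ha)
    obtain ⟨l, hl⟩ := Subgroup.mem_zpowers_iff.mp (hno b hb)
    rw [← hk, ← hl, ← zpow_add, ← zpow_add, add_comm]
  set i := c ^ (2 ^ (m - 2)) with hi
  have hiQ : i ∈ Q₁ := by
    rcases order_four_eq hord (by omega) hcpow hB.z_ne hqc hqq with h | h
    · rw [hi, h]; exact hq1
    · rw [hi, h]; exact Q₁.inv_mem hq1
  have hii : i * i = z := by
    rw [hi, ← pow_add, ← hcpow]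
    congr 1
    have := two_pow_pred (n := m - 1) (by omega)
    rw [show m - 1 - 1 = m - 2 by omega] at this
    exact this
  have hi4 : i ^ 4 = 1 := by rw [pow_four', hii, hB.z_sq]
  have hic : i ∈ Subgroup.zpowers c := by rw [hi]; exact Subgroup.npow_mem_zpowers _ _
  have hjz : j * j = z := by
    rcases hq8 j hj1 with h | h
    · exact absurd (hzle h) hjc
    · exact h
  have hji : j ∉ Subgroup.zpowers i := by
    intro h
    apply hjc
    have : Subgroup.zpowers i ≤ Subgroup.zpowers c := by rw [Subgroup.zpowers_le]; exact hic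
    exact this h
  have hjX : j ∈ cen Q₂ := hQ1X hj1
  -- the action of `j`
  obtain ⟨ε, hε, hjact⟩ := exists_pow_of_mem_zpowers c _ (hconj j hjX)
  rw [hord] at hε
  have hjinv : j⁻¹ * i * j = i⁻¹ := (hgen i hiQ j hj1 hii hjz hji).1
  have hjiε : i ^ ε = i⁻¹ := by
    rw [← hjinv, hi, conj_pow', ← hjact, ← pow_mul, ← pow_mul, mul_comm]
  have hi1 : i ≠ 1 := by
    intro h
    apply hB.z_ne
    rw [← hii, h, mul_one]
  have hiinv : i⁻¹ = i ^ 3 := by
    apply inv_eq_of_mul_eq_one_left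
    rw [← pow_succ]; exact hi4
  have hε4 : ε % 4 = 3 := by
    have h1 : i ^ (ε % 4) = i ^ 3 := by
      rw [← hiinv, ← hjiε]
      conv_rhs => rw [← Nat.div_add_mod ε 4, pow_add, pow_mul, hi4, one_pow, one_mul]
    have h4 : ε % 4 < 4 := Nat.mod_lt _ (by norm_num)
    have hi2 : i ^ 2 ≠ 1 := by rw [pow_two, hii]; exact hB.z_ne
    interval_cases h : ε % 4
    · exfalso
      rw [pow_zero] at h1
      apply hi1
      have : i ^ 4 = i := by
        calc i ^ 4 = i ^ 3 * i := pow_succ i 3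
          _ = i := by rw [← h1, one_mul]
      rw [← this, hi4]
    · exfalso
      rw [pow_one] at h1
      apply hi2
      have : i ^ 3 = i * i ^ 2 := pow_succ' i 2
      rw [this] at h1
      exact (mul_eq_left.mp h1.symm)
    · exfalso
      have : i ^ 3 = i ^ 2 * i := pow_succ i 2
      rw [this] at h1
      have h5 : i ^ 2 * 1 = i ^ 2 * i := by rw [mul_one]; exact h1
      exact hi1 (mul_left_cancel h5).symm
    · rfl
  have hεdvd : 2 ^ m ∣ ε * ε - 1 := by
    have h1 : (j * j)⁻¹ * c * (j * j) = c := by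
      rw [hjz]
      have := hB.z_central c
      rw [mul_assoc, this, ← mul_assoc, inv_mul_cancel, one_mul]
    have h2 : (j * j)⁻¹ * c * (j * j) = c ^ (ε * ε) := by
      calc (j * j)⁻¹ * c * (j * j) = j⁻¹ * (j⁻¹ * c * j) * j := by group
        _ = j⁻¹ * c ^ ε * j := by rw [hjact]
        _ = (j⁻¹ * c * j) ^ ε := conj_pow' j c ε
        _ = c ^ (ε * ε) := by rw [← hjact, ← pow_mul]
    have hε1 : 1 ≤ ε * ε := by
      have : 3 ≤ ε := by omega
      nlinarith
    have h3 : c ^ (ε * ε - 1) = 1 := by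
      have : c ^ (ε * ε - 1) * c = c := by
        rw [← pow_succ, Nat.sub_add_cancel hε1, ← h2, h1]
      exact mul_eq_right.mp this
    rw [← hord]
    exact orderOf_dvd_of_pow_eq_one h3
  have hεval := nt_eps hm hε hε4 hεdvd
  refine ⟨i, j, ε, ?_⟩
  exact
    { two_le := by omega
      card := hcard
      c_mem := hcX
      ord := hord
      c_pow := hcpow
      i_eq := hi
      i_mem := hiQ
      j_mem := hj1
      j_not := hjc
      act := by
        intro x hx hxc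
        have h1 := hmul x hx j hjX hxc hjc
        obtain ⟨k, hk⟩ := Subgroup.mem_zpowers_iff.mp h1
        have hx' : x = c ^ k * j := by rw [hk]; group
        rw [hx', hjact]
        have hcomm : (c ^ k)⁻¹ * c * c ^ k = c := by
          have : Commute c (c ^ k) := (Commute.refl c).zpow_right k
          rw [mul_assoc, this.eq, ← mul_assoc, inv_mul_cancel, one_mul]
        calc (c ^ k * j)⁻¹ * c * (c ^ k * j) = j⁻¹ * ((c ^ k)⁻¹ * c * c ^ k) * j := by group
          _ = j⁻¹ * c * j := by rw [hcomm]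
      eps := by
        rcases hεval with h | h
        · exact Or.inl h
        · exact Or.inr ⟨hm, h⟩ }

end Cfsg.Agent.Lib.Helper3.S1233B2
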