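import Mathlib
import Cfsg.Agent.Lib.Helper1.S1233Defs
import Cfsg.Agent.Lib.Helper1.S1233Glue
import Cfsg.Agent.Lib.Helper6.S1233A1
import Cfsg.Agent.Lib.Helper6.S1233A2
import Cfsg.Agent.Lib.Helper3.S1233B2h

/-!
# Farm S1233, units U-B2 and U-B2api (helper3): verbatim stubs.
-/

set_option autoImplicit false

namespace Cfsg.Agent.Lib.Helper3.S1233B2

open Cfsg.Agent.Lib.Helper1.S1233 Cfsg.Agent.Lib.Helper6.S1233A

variable {S : Type*} [Group S] {Q₁ Q₂ : Subgroup S} {z : S}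

theorem A3_cent' (hB : Base Q₁ Q₂ z) :
    ∀ x ∈ Q₁ ⊔ Q₂, (∀ a ∈ Q₁, x * a = a * x) → x ∈ Q₂ := by
  intro x hx h
  have := A3_cent (base_symm hB) x (by rw [sup_comm]; exact hx) h
  exact this

/-- U-B2 -/
theorem exists_side (hB : Base Q₁ Q₂ z) :
    ∃ (c i j : S) (n ε : ℕ), Side Q₁ (cen Q₂) z c i j n ε := by
  have hfin := hB.fin
  obtain ⟨e⟩ := hB.q1
  obtain ⟨k, hk⟩ := IsPGroup.iff_card.mp (hB.pS.to_subgroup (cen Q₂))
  have h8 : 8 ∣ 2 ^ k := by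
    rw [← hk, ← card_q8 e]
    exact Subgroup.card_dvd_of_le (side_le hB)
  have hk3 : 3 ≤ k := by
    by_contra hlt
    push Not at hlt
    have : 2 ^ k ≤ 2 ^ 2 := Nat.pow_le_pow_right (by norm_num) (by omega)
    have h2 := Nat.le_of_dvd (by positivity) h8
    omega
  by_cases hk3' : k = 3
  · subst hk3'
    exact side_of_card_eight hB (A1_q8 hB) (A1_q8_gen hB) (by rw [hk]; norm_num)
  · obtain ⟨m, rfl⟩ : ∃ m, k = m + 1 := ⟨k - 1, by omega⟩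
    have hm : 3 ≤ m := by omega
    obtain ⟨c, hcX, hord, hzc⟩ :=
      exists_cyclic hB (A1_inf hB) (A3_cent hB) (A3_cent' hB) (A2 hB) m hm hk
    obtain ⟨i, j, ε, hs⟩ :=
      side_of_cyclic hB (A1_q8 hB) (A1_q8_gen hB) m hm hk c hcX hord hzc
    exact ⟨c, i, j, m, ε, hs⟩

section api
variable {c i j : S} {n ε : ℕ}

theorem side_inf (hB : Base Q₁ Q₂ z) : cen Q₂ ⊓ cen Q₁ = Zs z :=
  side_inf_of hB (A1_inf hB) (A3_cent hB) (A3_cent' hB)

theorem side_i_sq' (_hB : Base Q₁ Q₂ z) (hs : Side Q₁ (cen Q₂) z c i j n ε) : i * i = z :=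
  side_i_sq hs

theorem side_j_sq' (hB : Base Q₁ Q₂ z) (hs : Side Q₁ (cen Q₂) z c i j n ε) : j * j = z :=
  side_j_sq (A1_q8 hB) hs

theorem side_q (hB : Base Q₁ Q₂ z) (hs : Side Q₁ (cen Q₂) z c i j n ε) :
    Q₁ = Subgroup.closure {i, j} :=
  side_q_of (A1_q8 hB) (A1_q8_gen hB) hs

end api

end Cfsg.Agent.Lib.Helper3.S1233B2
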