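import Mathlib
import Cfsg.Agent.Lib.Helper1.SPEDefs

set_option autoImplicit false
set_option linter.unusedSectionVars false
set_option linter.unusedVariables false

/-!
Farm SPE (statement S2333), unit B: binary quadratic forms over a finite field of characteristic two.
-/

namespace Cfsg.Agent.Lib.Helper3.SPE

open Matrix Cfsg.Agent.Lib.Helper6.Wl Cfsg.Agent.Lib.Helper1.SPE Polynomial

variable {F : Type*} [Field F] [Fintype F] [DecidableEq F]

theorem sq_surj (h2 : (2 : F) = 0) (a : F) : ∃ r : F, r * r = a := by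
  have hinj : Function.Injective (fun x : F => x * x) := by
    intro x y hxy
    have hxy' : x * x = y * y := hxy
    have h : (x - y) * (x - y) = 0 := by
      linear_combination hxy' + (y * y - x * y) * h2
    have := mul_self_eq_zero.1 h
    exact sub_eq_zero.1 this
  exact (Finite.injective_iff_surjective.1 hinj) a

theorem bq_smul (a b c r s t : F) : bq a b c (r * s) (r * t) = r * r * bq a b c s t := by
  unfold bq; ring

theorem card_fib_eq (h2 : (2 : F) = 0) (a b c : F) (a' a'' : F) (ha' : a' ≠ 0) (ha'' : a'' ≠ 0) :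
    (Finset.univ.filter (fun p : F × F => bq a b c p.1 p.2 = a')).card =
      (Finset.univ.filter (fun p : F × F => bq a b c p.1 p.2 = a'')).card := by
  obtain ⟨r, hr⟩ := sq_surj h2 (a'' / a')
  have hr0 : r ≠ 0 := by
    rintro rfl
    rw [mul_zero] at hr
    exact (div_ne_zero ha'' ha') hr.symm
  have hr' : a'' = r * r * a' := by
    rw [hr]; field_simp
  refine Finset.card_bij (fun p _ => (r * p.1, r * p.2)) ?_ ?_ ?_
  · intro p hp
    simp only [Finset.mem_filter, Finset.mem_univ, true_and] at hp ⊢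
    rw [bq_smul, hp, hr']
  · intro p _ p' _ h
    simp only [Prod.mk.injEq] at h
    exact Prod.ext (mul_left_cancel₀ hr0 h.1) (mul_left_cancel₀ hr0 h.2)
  · intro p' hp'
    simp only [Finset.mem_filter, Finset.mem_univ, true_and] at hp'
    refine ⟨(r⁻¹ * p'.1, r⁻¹ * p'.2), ?_, ?_⟩
    · simp only [Finset.mem_filter, Finset.mem_univ, true_and]
      rw [bq_smul, hp', hr']
      field_simp
    · apply Prod.ext
      · show r * (r⁻¹ * p'.1) = p'.1
        rw [← mul_assoc, mul_inv_cancel₀ hr0, one_mul]
      · show r * (r⁻¹ * p'.2) = p'.2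
        rw [← mul_assoc, mul_inv_cancel₀ hr0, one_mul]

/-- an anisotropic binary form takes every nonzero value exactly `q + 1` times -/
theorem card_bq_eq (h2 : (2 : F) = 0) (a b c : F)
    (hani : ∀ s t : F, bq a b c s t = 0 → s = 0 ∧ t = 0) (a' : F) (ha' : a' ≠ 0) :
    (Finset.univ.filter (fun p : F × F => bq a b c p.1 p.2 = a')).card =
      Fintype.card F + 1 := by
  set f := (Finset.univ.filter (fun p : F × F => bq a b c p.1 p.2 = a')).card with hf
  have hq : 2 ≤ Fintype.card F := Fintype.one_lt_card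
  have h0 : (Finset.univ.filter (fun p : F × F => bq a b c p.1 p.2 = 0)).card = 1 := by
    rw [Finset.card_eq_one]
    refine ⟨(0, 0), ?_⟩
    ext p
    simp only [Finset.mem_filter, Finset.mem_univ, true_and, Finset.mem_singleton]
    constructor
    · intro h
      obtain ⟨h1, h3⟩ := hani p.1 p.2 h
      exact Prod.ext h1 h3
    · rintro rfl
      simp [bq]
  have hsum := Finset.card_eq_sum_card_fiberwise (f := fun p : F × F => bq a b c p.1 p.2)
    (s := Finset.univ) (t := Finset.univ) (fun _ _ => Finset.mem_univ _)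
  rw [Finset.card_univ, Fintype.card_prod, ← Finset.add_sum_erase _ _ (Finset.mem_univ (0 : F)),
    h0] at hsum
  have hconst : ∑ x ∈ (Finset.univ : Finset F).erase 0,
      (Finset.univ.filter (fun p : F × F => bq a b c p.1 p.2 = x)).card =
      (Fintype.card F - 1) * f := by
    rw [Finset.sum_const_nat (m := f)]
    · rw [Finset.card_erase_of_mem (Finset.mem_univ _), Finset.card_univ]
    · intro x hx
      exact card_fib_eq h2 a b c x a' (Finset.ne_of_mem_erase hx) ha'
  rw [hconst] at hsum
  have hmain : (Fintype.card F - 1) * f = (Fintype.card F - 1) * (Fintype.card F + 1) := by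
    obtain ⟨k, hk⟩ : ∃ k, Fintype.card F = k + 2 := ⟨Fintype.card F - 2, by omega⟩
    rw [hk] at hsum ⊢
    have e : k + 2 - 1 = k + 1 := by omega
    rw [e] at hsum ⊢
    nlinarith
  exact Nat.eq_of_mul_eq_mul_left (by omega) hmain

theorem b_ne_zero_of_ani (h2 : (2 : F) = 0) (a b c : F)
    (hani : ∀ s t : F, bq a b c s t = 0 → s = 0 ∧ t = 0) : b ≠ 0 := by
  rintro rfl
  obtain ⟨ra, hra⟩ := sq_surj h2 a
  obtain ⟨rc, hrc⟩ := sq_surj h2 c
  have h := hani rc ra (by
    unfold bq
    rw [← hra, ← hrc]
    linear_combination (ra * ra * rc * rc) * h2)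
  obtain ⟨h1, h3⟩ := h
  have ha0 : a = 0 := by rw [← hra, h3]; ring
  have := hani 1 0 (by unfold bq; rw [ha0]; ring)
  exact one_ne_zero this.1

theorem card_quad_roots_le (α β γ : F) (hα : α ≠ 0) :
    (Finset.univ.filter (fun r : F => α * r * r + β * r + γ = 0)).card ≤ 2 := by
  set p : F[X] := C α * X ^ 2 + C β * X + C γ with hp
  have hcoeff : p.coeff 2 = α := by
    rw [hp]
    simp only [coeff_add, coeff_C_mul, coeff_X_pow, coeff_X, coeff_C]
    simp
  have hp0 : p ≠ 0 := by
    intro h
    rw [h, coeff_zero] at hcoeff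
    exact hα hcoeff.symm
  have hdeg : p.natDegree ≤ 2 := by
    rw [hp]
    refine (natDegree_add_le _ _).trans (max_le ((natDegree_add_le _ _).trans (max_le ?_ ?_)) ?_)
    · exact natDegree_C_mul_X_pow_le _ _
    · exact (natDegree_C_mul_le _ _).trans (by rw [natDegree_X]; omega)
    · rw [natDegree_C]; omega
  have hroots : p.roots.toFinset.card ≤ 2 :=
    (Multiset.toFinset_card_le _).trans ((card_roots' p).trans hdeg)
  refine le_trans (Finset.card_le_card ?_) hroots
  intro r hr
  simp only [Finset.mem_filter, Finset.mem_univ, true_and] at hr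
  rw [Multiset.mem_toFinset, mem_roots hp0, IsRoot.def, hp]
  simp only [eval_add, eval_mul, eval_C, eval_pow, eval_X]
  linear_combination hr

theorem card_line_le (h2 : (2 : F) = 0) (a b c : F) (hb : b ≠ 0) (s t a' b' c' : F)
    (ha' : bq a b c s t = a') (ha'0 : a' ≠ 0) :
    (Finset.univ.filter (fun p : F × F =>
      bq a b c p.1 p.2 = c' ∧ b * (s * p.2 + t * p.1) = b')).card ≤ 2 := by
  set T := Finset.univ.filter (fun p : F × F =>
      bq a b c p.1 p.2 = c' ∧ b * (s * p.2 + t * p.1) = b') with hT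
  by_cases hne : T = ∅
  · rw [hne]; simp
  obtain ⟨p₀, hp₀⟩ := Finset.nonempty_of_ne_empty hne
  have hp₀' := (Finset.mem_filter.1 hp₀).2
  have hst : s ≠ 0 ∨ t ≠ 0 := by
    by_contra hcon
    push Not at hcon
    apply ha'0
    rw [← ha', hcon.1, hcon.2]
    simp [bq]
  let φ : F → F × F := fun r => (p₀.1 + r * s, p₀.2 + r * t)
  have hsub : T ⊆ (Finset.univ.filter (fun r : F =>
      a' * r * r + b' * r + (bq a b c p₀.1 p₀.2 - c') = 0)).image φ := by
    intro p hp
    have hp' := (Finset.mem_filter.1 hp).2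
    have hlin : s * (p.2 - p₀.2) + t * (p.1 - p₀.1) = 0 := by
      have e1 := hp'.2
      have e0 := hp₀'.2
      have : b * (s * (p.2 - p₀.2) + t * (p.1 - p₀.1)) = 0 := by linear_combination e1 - e0
      exact (mul_eq_zero.1 this).resolve_left hb
    obtain ⟨r, hr1, hr2⟩ : ∃ r, p.1 = p₀.1 + r * s ∧ p.2 = p₀.2 + r * t := by
      rcases hst with hs | ht
      · refine ⟨(p.1 - p₀.1) / s, ?_, ?_⟩
        · field_simp
          ring
        · have e : s * (p.2 - p₀.2) = t * (p.1 - p₀.1) := by
            linear_combination hlin - (t * (p.1 - p₀.1)) * h2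
          have e' : p.2 - p₀.2 = (p.1 - p₀.1) / s * t := by
            field_simp
            linear_combination e
          linear_combination e'
      · refine ⟨(p.2 - p₀.2) / t, ?_, ?_⟩
        · have e : t * (p.1 - p₀.1) = s * (p.2 - p₀.2) := by
            linear_combination hlin - (s * (p.2 - p₀.2)) * h2
          have e' : p.1 - p₀.1 = (p.2 - p₀.2) / t * s := by
            field_simp
            linear_combination e
          linear_combination e'
        · field_simp
          ring
    refine Finset.mem_image.2 ⟨r, ?_, ?_⟩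
    · simp only [Finset.mem_filter, Finset.mem_univ, true_and]
      have h1 := hp'.1
      rw [hr1, hr2] at h1
      have hb' := hp₀'.2
      unfold bq at h1 ha' ⊢
      linear_combination h1 - (r * (a * p₀.1 * s + c * p₀.2 * t)) * h2 - r * hb' - (r * r) * ha'
    · exact Prod.ext hr1.symm hr2.symm
  calc T.card ≤ _ := Finset.card_le_card hsub
    _ ≤ _ := Finset.card_image_le
    _ ≤ 2 := card_quad_roots_le _ _ _ ha'0

/-- anisotropic plane: at most `2 (q + 1)` pairs with prescribed values -/
theorem card_bq_pairs_le (h2 : (2 : F) = 0) (a b c : F)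
    (hani : ∀ s t : F, bq a b c s t = 0 → s = 0 ∧ t = 0) (a' b' c' : F) :
    (Finset.univ.filter (fun p : (F × F) × (F × F) =>
      bq a b c p.1.1 p.1.2 = a' ∧ bq a b c p.2.1 p.2.2 = c' ∧
        b * (p.1.1 * p.2.2 + p.1.2 * p.2.1) = b')).card ≤ 2 * (Fintype.card F + 1) := by
  have hb := b_ne_zero_of_ani h2 a b c hani
  set S := Finset.univ.filter (fun p : (F × F) × (F × F) =>
      bq a b c p.1.1 p.1.2 = a' ∧ bq a b c p.2.1 p.2.2 = c' ∧
        b * (p.1.1 * p.2.2 + p.1.2 * p.2.1) = b') with hS
  by_cases ha'0 : a' = 0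
  · have hfib : (Finset.univ.filter (fun p : F × F => bq a b c p.1 p.2 = c')).card ≤
        Fintype.card F + 1 := by
      by_cases hc' : c' = 0
      · subst hc'
        refine le_trans (Finset.card_le_one.2 ?_) (by omega)
        intro x hx y hy
        have hx' := (Finset.mem_filter.1 hx).2
        have hy' := (Finset.mem_filter.1 hy).2
        obtain ⟨h1, h3⟩ := hani _ _ hx'
        obtain ⟨h4, h5⟩ := hani _ _ hy'
        exact Prod.ext (h1.trans h4.symm) (h3.trans h5.symm)
      · exact (card_bq_eq h2 a b c hani c' hc').le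
    refine le_trans (Finset.card_le_card_of_injOn (fun p => p.2) ?_ ?_) (hfib.trans (by omega))
    · intro p hp
      have hp' := (Finset.mem_filter.1 (Finset.mem_coe.1 hp)).2
      show p.2 ∈ (↑(Finset.univ.filter (fun p : F × F => bq a b c p.1 p.2 = c')) : Set (F × F))
      rw [Finset.mem_coe, Finset.mem_filter]
      exact ⟨Finset.mem_univ _, hp'.2.1⟩
    · intro p hp p' hp' h
      have hp1 := (Finset.mem_filter.1 (Finset.mem_coe.1 hp)).2.1
      have hp1' := (Finset.mem_filter.1 (Finset.mem_coe.1 hp')).2.1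
      rw [ha'0] at hp1 hp1'
      obtain ⟨e1, e2⟩ := hani _ _ hp1
      obtain ⟨e3, e4⟩ := hani _ _ hp1'
      exact Prod.ext (Prod.ext (e1.trans e3.symm) (e2.trans e4.symm)) h
  · have h1 := Finset.card_le_mul_card_image (f := fun p : (F × F) × (F × F) => p.1) S 2 ?_
    · calc S.card ≤ 2 * (S.image fun p => p.1).card := h1
        _ ≤ 2 * (Finset.univ.filter (fun p : F × F => bq a b c p.1 p.2 = a')).card := by
            apply Nat.mul_le_mul_left
            apply Finset.card_le_card
            intro x hx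
            obtain ⟨p, hp, rfl⟩ := Finset.mem_image.1 hx
            simp only [Finset.mem_filter, Finset.mem_univ, true_and]
            exact ((Finset.mem_filter.1 hp).2).1
        _ = 2 * (Fintype.card F + 1) := by rw [card_bq_eq h2 a b c hani a' ha'0]
    · intro x hx
      obtain ⟨p, hp, rfl⟩ := Finset.mem_image.1 hx
      have hp' := (Finset.mem_filter.1 hp).2
      refine le_trans (Finset.card_le_card_of_injOn (fun y => y.2) ?_ ?_)
        (card_line_le h2 a b c hb p.1.1 p.1.2 a' b' c' hp'.1 ha'0)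
      · intro y hy
        have hy' := Finset.mem_filter.1 (Finset.mem_coe.1 hy)
        have hyS := (Finset.mem_filter.1 hy'.1).2
        have hy1 : y.1 = p.1 := hy'.2
        show y.2 ∈ (↑(Finset.univ.filter (fun z : F × F =>
          bq a b c z.1 z.2 = c' ∧ b * (p.1.1 * z.2 + p.1.2 * z.1) = b')) : Set (F × F))
        rw [Finset.mem_coe, Finset.mem_filter]
        refine ⟨Finset.mem_univ _, hyS.2.1, ?_⟩
        rw [← hy1]
        exact hyS.2.2
      · intro y hy y' hy' h
        have e1 : y.1 = p.1 := (Finset.mem_filter.1 (Finset.mem_coe.1 hy)).2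
        have e2 : y'.1 = p.1 := (Finset.mem_filter.1 (Finset.mem_coe.1 hy')).2
        exact Prod.ext (e1.trans e2.symm) h

/-- hyperbolic plane `b s t`: at most `2 q` pairs of singular vectors with polar value `b` -/
theorem card_hyp_pairs_le (b : F) (hb : b ≠ 0) :
    (Finset.univ.filter (fun p : (F × F) × (F × F) =>
      bq 0 b 0 p.1.1 p.1.2 = 0 ∧ bq 0 b 0 p.2.1 p.2.2 = 0 ∧
        b * (p.1.1 * p.2.2 + p.1.2 * p.2.1) = b)).card ≤ 2 * (Fintype.card F + 1) := by
  let g : F × Bool → (F × F) × (F × F) := fun x =>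
    if x.2 then ((x.1, 0), (0, x.1⁻¹)) else ((0, x.1), (x.1⁻¹, 0))
  have hsub : (Finset.univ.filter (fun p : (F × F) × (F × F) =>
      bq 0 b 0 p.1.1 p.1.2 = 0 ∧ bq 0 b 0 p.2.1 p.2.2 = 0 ∧
        b * (p.1.1 * p.2.2 + p.1.2 * p.2.1) = b)) ⊆ (Finset.univ : Finset (F × Bool)).image g := by
    intro p hp
    obtain ⟨h1, h3, h4⟩ := (Finset.mem_filter.1 hp).2
    have e1 : p.1.1 * p.1.2 = 0 := by
      have : b * (p.1.1 * p.1.2) = 0 := by unfold bq at h1; linear_combination h1
      exact (mul_eq_zero.1 this).resolve_left hb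
    have e2 : p.2.1 * p.2.2 = 0 := by
      have : b * (p.2.1 * p.2.2) = 0 := by unfold bq at h3; linear_combination h3
      exact (mul_eq_zero.1 this).resolve_left hb
    have e3 : p.1.1 * p.2.2 + p.1.2 * p.2.1 = 1 := by
      have : b * (p.1.1 * p.2.2 + p.1.2 * p.2.1 - 1) = 0 := by linear_combination h4
      have := (mul_eq_zero.1 this).resolve_left hb
      linear_combination this
    rcases mul_eq_zero.1 e1 with hs | ht
    · -- s = 0
      rw [hs, zero_mul, zero_add] at e3
      have ht0 : p.1.2 ≠ 0 := by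
        intro h; rw [h, zero_mul] at e3; exact zero_ne_one e3
      have hu : p.2.1 = (p.1.2)⁻¹ := eq_inv_of_mul_eq_one_right e3
      have hu0 : p.2.1 ≠ 0 := by rw [hu]; exact inv_ne_zero ht0
      have hv : p.2.2 = 0 := (mul_eq_zero.1 e2).resolve_left hu0
      refine Finset.mem_image.2 ⟨(p.1.2, false), Finset.mem_univ _, ?_⟩
      show ((0, p.1.2), ((p.1.2)⁻¹, 0)) = p
      exact Prod.ext (Prod.ext hs.symm rfl) (Prod.ext hu.symm hv.symm)
    · rw [ht, zero_mul, add_zero] at e3
      have hs0 : p.1.1 ≠ 0 := by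
        intro h; rw [h, zero_mul] at e3; exact zero_ne_one e3
      have hv : p.2.2 = (p.1.1)⁻¹ := eq_inv_of_mul_eq_one_right e3
      have hv0 : p.2.2 ≠ 0 := by rw [hv]; exact inv_ne_zero hs0
      have hu : p.2.1 = 0 := (mul_eq_zero.1 e2).resolve_right hv0
      refine Finset.mem_image.2 ⟨(p.1.1, true), Finset.mem_univ _, ?_⟩
      show ((p.1.1, 0), (0, (p.1.1)⁻¹)) = p
      exact Prod.ext (Prod.ext rfl ht.symm) (Prod.ext hu.symm hv.symm)
  calc _ ≤ ((Finset.univ : Finset (F × Bool)).image g).card := Finset.card_le_card hsub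
    _ ≤ (Finset.univ : Finset (F × Bool)).card := Finset.card_image_le
    _ = Fintype.card F * 2 := by rw [Finset.card_univ, Fintype.card_prod, Fintype.card_bool]
    _ ≤ 2 * (Fintype.card F + 1) := by omega

end Cfsg.Agent.Lib.Helper3.SPE
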