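import Mathlib
import Cfsg.Agent.Lib.Helper1.SPWDefs2

set_option autoImplicit false
set_option linter.unusedSectionVars false
set_option linter.unusedVariables false

/-!
Farm SPW (statement S2524), Part III, unit A1: the projector calculus of `Z₁`.
-/

namespace Cfsg.Agent.Lib.Helper3.SPW

open Matrix Cfsg Cfsg.Agent.Lib.Helper6.Wl Cfsg.Agent.Lib.Helper4 Cfsg.Agent.Lib.Helper1.SPW
open Module

section heis
variable {F : Type*} [Field F] {m : ℕ}

theorem cen_mul (x y : F) : (Heis.cen x : Heis m F) * Heis.cen y = Heis.cen (x + y) := by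
  ext
  · simp [Heis.cen]
  · simp [Heis.cen, Heis.hcoef_zero_left]

theorem cen_zero : (Heis.cen 0 : Heis m F) = 1 := rfl

theorem cen_comm (x : Heis m F) (s : F) : x * Heis.cen s = Heis.cen s * x := by
  ext
  · simp [Heis.cen]
  · simp [Heis.cen, Heis.hcoef_zero_left, Heis.hcoef_zero_right, add_comm]

theorem mkSL_neg_one : (mkSL (-1 : Fˣ) 0 : Matrix.SpecialLinearGroup (Fin 2) F) = -1 := by
  apply Subtype.ext
  rw [mkSL_coe]
  ext i j
  fin_cases i <;> fin_cases j <;> simp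

theorem mkSL_one (u : F) : (mkSL (1 : Fˣ) u : Matrix.SpecialLinearGroup (Fin 2) F) = upperU u := by
  apply Subtype.ext
  rw [mkSL_coe, upperU_coe]
  simp

theorem mkSL_eq_mul (t : Fˣ) (u : F) :
    mkSL t u = mkSL t 0 * upperU (((t⁻¹ : Fˣ) : F) * u) := by
  rw [← mkSL_one, mkSL_mul]
  congr 1
  · rw [mul_one]
  · rw [← mul_assoc, ← Units.val_mul, mul_inv_cancel]
    simp

end heis

section abstract
variable {F : Type*} [Field F] [Fintype F] [DecidableEq F] {m : ℕ}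
variable {G : Type*} [Group G] [Fintype G]
variable [Fintype (symplecticGroup (Fin m) F)]
variable (D : Datum F m G)
variable {V : Type*} [AddCommGroup V] [Module ℂ V] [FiniteDimensional ℂ V]
variable {Ω : Type*} [AddCommGroup Ω] [Module ℂ Ω] [FiniteDimensional ℂ Ω]
variable (ρ : Representation ℂ G V) (ρΩ : Representation ℂ G Ω) (ψ : AddChar F ℂ)

theorem card_ne_zero' : (Fintype.card F : ℂ) ≠ 0 := Nat.cast_ne_zero.2 Fintype.card_ne_zero

theorem rho_cen_add (x y : F) :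
    ρ (D.iH (Heis.cen (x + y))) = ρ (D.iH (Heis.cen x)) * ρ (D.iH (Heis.cen y)) := by
  rw [← cen_mul, map_mul, map_mul]

theorem rho_cen_mul_eZ (x a : F) :
    ρ (D.iH (Heis.cen x)) * eZ D ρ ψ a = ψ (a * x) • eZ D ρ ψ a := by
  have key : ρ (D.iH (Heis.cen x)) * ∑ y : F, ψ (-(a * y)) • ρ (D.iH (Heis.cen y)) =
      ψ (a * x) • ∑ y : F, ψ (-(a * y)) • ρ (D.iH (Heis.cen y)) := by
    rw [Finset.mul_sum, Finset.smul_sum]
    refine Fintype.sum_equiv (Equiv.addLeft x)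
      (fun y : F => ρ (D.iH (Heis.cen x)) * (ψ (-(a * y)) • ρ (D.iH (Heis.cen y))))
      (fun y : F => ψ (a * x) • (ψ (-(a * y)) • ρ (D.iH (Heis.cen y)))) ?_
    intro y
    show ρ (D.iH (Heis.cen x)) * (ψ (-(a * y)) • ρ (D.iH (Heis.cen y))) =
      ψ (a * x) • (ψ (-(a * (x + y))) • ρ (D.iH (Heis.cen (x + y))))
    rw [mul_smul_comm, ← rho_cen_add, smul_smul]
    congr 1
    rw [← AddChar.map_add_eq_mul]
    congr 1
    ring
  unfold eZ
  rw [mul_smul_comm, key, smul_comm]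

theorem eZ_mul' (a : F) (X : Module.End ℂ V) :
    eZ D ρ ψ a * X = ((Fintype.card F : ℂ))⁻¹ • ∑ x : F,
      ψ (-(a * x)) • (ρ (D.iH (Heis.cen x)) * X) := by
  unfold eZ
  rw [smul_mul_assoc, Finset.sum_mul]
  simp only [smul_mul_assoc]

theorem eZ_mul_eZ (a a' : F) :
    eZ D ρ ψ a * eZ D ρ ψ a' =
      (((Fintype.card F : ℂ))⁻¹ * ∑ x : F, ψ (x * (a' - a))) • eZ D ρ ψ a' := by
  rw [eZ_mul']
  have h : ∀ x : F, ψ (-(a * x)) • (ρ (D.iH (Heis.cen x)) * eZ D ρ ψ a') =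
      ψ (x * (a' - a)) • eZ D ρ ψ a' := by
    intro x
    rw [rho_cen_mul_eZ, smul_smul, ← AddChar.map_add_eq_mul]
    congr 2
    ring
  rw [Finset.sum_congr rfl (fun x _ => h x), ← Finset.sum_smul, smul_smul]

theorem eZ_idem (a : F) : eZ D ρ ψ a * eZ D ρ ψ a = eZ D ρ ψ a := by
  rw [eZ_mul_eZ]
  simp only [sub_self, mul_zero, AddChar.map_zero_eq_one, Finset.sum_const, Finset.card_univ,
    nsmul_eq_mul, mul_one]
  rw [inv_mul_cancel₀ card_ne_zero', one_smul]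

theorem eZ_mul_of_ne (hψ : ψ ≠ 1) {a a' : F} (h : a ≠ a') : eZ D ρ ψ a * eZ D ρ ψ a' = 0 := by
  rw [eZ_mul_eZ, AddChar.sum_mulShift (a' - a) (AddChar.IsPrimitive.of_ne_one hψ),
    if_neg (sub_ne_zero.2 (Ne.symm h))]
  simp

theorem sum_eZ (hψ : ψ ≠ 1) : ∑ a : F, eZ D ρ ψ a = 1 := by
  unfold eZ
  rw [← Finset.smul_sum, Finset.sum_comm]
  have h : ∀ x : F, ∑ a : F, ψ (-(a * x)) • ρ (D.iH (Heis.cen x)) =
      if x = 0 then (Fintype.card F : ℂ) • (1 : Module.End ℂ V) else 0 := by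
    intro x
    rw [← Finset.sum_smul]
    have e : ∑ a : F, ψ (-(a * x)) = ∑ a : F, ψ (a * (-x)) := by
      apply Finset.sum_congr rfl
      intro a _
      congr 1
      ring
    rw [e, AddChar.sum_mulShift (-x) (AddChar.IsPrimitive.of_ne_one hψ)]
    by_cases hx : x = 0
    · subst hx
      rw [if_pos neg_zero, if_pos rfl, cen_zero, map_one, map_one]
    · rw [if_neg (neg_ne_zero.2 hx), if_neg hx]
      simp
  rw [Finset.sum_congr rfl (fun x _ => h x), Finset.sum_ite_eq' Finset.univ (0 : F)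
    (fun _ => (Fintype.card F : ℂ) • (1 : Module.End ℂ V)), if_pos (Finset.mem_univ _),
    smul_smul, inv_mul_cancel₀ card_ne_zero', one_smul]

/-- a general commutation criterion -/
theorem eZ_comm_of_comm (X : Module.End ℂ V) (a : F)
    (h : ∀ x : F, X * ρ (D.iH (Heis.cen x)) = ρ (D.iH (Heis.cen x)) * X) :
    X * eZ D ρ ψ a = eZ D ρ ψ a * X := by
  rw [eZ_mul']
  unfold eZ
  rw [mul_smul_comm, Finset.mul_sum]
  congr 1
  apply Finset.sum_congr rfl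
  intro x _
  rw [mul_smul_comm, h x]

theorem eZ_comm_iH (x : Heis m F) (a : F) :
    ρ (D.iH x) * eZ D ρ ψ a = eZ D ρ ψ a * ρ (D.iH x) := by
  apply eZ_comm_of_comm
  intro s
  rw [← map_mul, ← map_mul, ← map_mul, ← map_mul, cen_comm]

theorem iG_cen_comm (g : symplecticGroup (Fin m) F) (s : F) :
    D.iG g * D.iH (Heis.cen s) = D.iH (Heis.cen s) * D.iG g := by
  have h := D.conjG g (Heis.cen s)
  have e : (⟨(g : Matrix (Fin m ⊕ Fin m) (Fin m ⊕ Fin m) F) *ᵥ (Heis.cen s : Heis m F).w,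
      (Heis.cen s : Heis m F).s⟩ : Heis m F) = Heis.cen s := by
    show (⟨(g : Matrix (Fin m ⊕ Fin m) (Fin m ⊕ Fin m) F) *ᵥ 0, s⟩ : Heis m F) = ⟨0, s⟩
    rw [Matrix.mulVec_zero]
  rw [e] at h
  calc D.iG g * D.iH (Heis.cen s) = (D.iG g * D.iH (Heis.cen s) * (D.iG g)⁻¹) * D.iG g := by group
    _ = D.iH (Heis.cen s) * D.iG g := by rw [h]

theorem eZ_comm_iG (g : symplecticGroup (Fin m) F) (a : F) :
    ρ (D.iG g) * eZ D ρ ψ a = eZ D ρ ψ a * ρ (D.iG g) := by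
  apply eZ_comm_of_comm
  intro s
  rw [← map_mul, ← map_mul, iG_cen_comm]

theorem torus_cen (t : Fˣ) (s : F) :
    D.iS (mkSL t 0) * D.iH (Heis.cen s) =
      D.iH (Heis.cen ((t : F) * (t : F) * s)) * D.iS (mkSL t 0) := by
  have h := D.conjT t (Heis.cen s)
  have e : (⟨(t : F) • (Heis.cen s : Heis m F).w, (t : F) * (t : F) * (Heis.cen s : Heis m F).s⟩ :
      Heis m F) = Heis.cen ((t : F) * (t : F) * s) := by
    show (⟨(t : F) • (0 : Fin m ⊕ Fin m → F), (t : F) * (t : F) * s⟩ : Heis m F) = ⟨0, _⟩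
    rw [smul_zero]
  rw [e] at h
  calc D.iS (mkSL t 0) * D.iH (Heis.cen s)
      = (D.iS (mkSL t 0) * D.iH (Heis.cen s) * (D.iS (mkSL t 0))⁻¹) * D.iS (mkSL t 0) := by group
    _ = D.iH (Heis.cen ((t : F) * (t : F) * s)) * D.iS (mkSL t 0) := by rw [h]

/-- `h z(x) h⁻¹ = z(t² x)` for the torus element `h = iS (mkSL t 0)` -/
theorem eZ_conj_torus (t : Fˣ) (a : F) :
    ρ (D.iS (mkSL t 0)) * eZ D ρ ψ (a * t * t) = eZ D ρ ψ a * ρ (D.iS (mkSL t 0)) := by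
  rw [eZ_mul']
  unfold eZ
  rw [mul_smul_comm, Finset.mul_sum]
  congr 1
  have ht : (t : F) * (t : F) ≠ 0 := mul_ne_zero t.ne_zero t.ne_zero
  refine Fintype.sum_equiv (Equiv.mulLeft₀ ((t : F) * (t : F)) ht)
    (fun x : F => ρ (D.iS (mkSL t 0)) * (ψ (-(a * t * t * x)) • ρ (D.iH (Heis.cen x))))
    (fun y : F => ψ (-(a * y)) • (ρ (D.iH (Heis.cen y)) * ρ (D.iS (mkSL t 0)))) ?_
  intro x
  show ρ (D.iS (mkSL t 0)) * (ψ (-(a * t * t * x)) • ρ (D.iH (Heis.cen x))) =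
    ψ (-(a * ((t : F) * (t : F) * x))) •
      (ρ (D.iH (Heis.cen ((t : F) * (t : F) * x))) * ρ (D.iS (mkSL t 0)))
  rw [mul_smul_comm, ← map_mul, ← map_mul, torus_cen]
  congr 2
  ring

theorem eZ_torus_eq (t : Fˣ) (a : F) :
    eZ D ρ ψ (a * t * t) = ρ (D.iS (mkSL t 0))⁻¹ * eZ D ρ ψ a * ρ (D.iS (mkSL t 0)) := by
  have h := eZ_conj_torus D ρ ψ t a
  calc eZ D ρ ψ (a * t * t)
      = ρ (D.iS (mkSL t 0))⁻¹ * (ρ (D.iS (mkSL t 0)) * eZ D ρ ψ (a * t * t)) := by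
        rw [← mul_assoc, ← map_mul, inv_mul_cancel, map_one, one_mul]
    _ = ρ (D.iS (mkSL t 0))⁻¹ * eZ D ρ ψ a * ρ (D.iS (mkSL t 0)) := by rw [h, mul_assoc]

theorem trace_eZ_torus (t : Fˣ) (a : F) :
    LinearMap.trace ℂ V (eZ D ρ ψ (a * t * t)) = LinearMap.trace ℂ V (eZ D ρ ψ a) := by
  rw [eZ_torus_eq, LinearMap.trace_mul_comm, ← mul_assoc, ← map_mul, mul_inv_cancel, map_one,
    one_mul]

/-- `iS (-1) = iS (mkSL (-1) 0)` centralises `Z₁` -/
theorem eZ_comm_negS (a : F) :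
    ρ (D.iS (-1)) * eZ D ρ ψ a = eZ D ρ ψ a * ρ (D.iS (-1)) := by
  have h := eZ_conj_torus D ρ ψ (-1 : Fˣ) a
  rw [mkSL_neg_one] at h
  have e : a * ((-1 : Fˣ) : F) * ((-1 : Fˣ) : F) = a := by
    rw [Units.val_neg, Units.val_one]
    ring
  rw [e] at h
  exact h

theorem eZ_comp_of_mem_hHom {a : F} {φ : Ω →ₗ[ℂ] V} (hφ : φ ∈ hHom D ρ ρΩ ψ a) :
    eZ D ρ ψ a ∘ₗ φ = φ := by
  obtain ⟨h1, h2⟩ := hφ
  have h3 : eZ D ρ ψ a ∘ₗ φ = φ ∘ₗ eZ D ρΩ ψ a := by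
    apply LinearMap.ext
    intro v
    unfold eZ
    simp only [LinearMap.comp_apply, LinearMap.smul_apply, LinearMap.sum_apply, map_smul, map_sum]
    congr 1
    apply Finset.sum_congr rfl
    intro x _
    congr 1
    exact (LinearMap.congr_fun (h1 (Heis.cen x)) v).symm
  rw [h3, h2]

/-- conjugate with `iS (mkSL t 0)`, which commutes with `iG g` -/
theorem chiA_torus (t : Fˣ) (a : F) (g : symplecticGroup (Fin m) F) :
    chiA D ρ ψ (a * t * t) g = chiA D ρ ψ a g := by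
  unfold chiA
  rw [eZ_torus_eq]
  have hc : ρ (D.iG g) * ρ (D.iS (mkSL t 0))⁻¹ = ρ (D.iS (mkSL t 0))⁻¹ * ρ (D.iG g) := by
    rw [← map_mul, ← map_mul]
    congr 1
    have := D.comm (mkSL t 0) g
    rw [← map_inv]
    have h2 := D.comm (mkSL t 0)⁻¹ g
    exact h2.symm
  rw [← mul_assoc, ← mul_assoc, hc, mul_assoc, mul_assoc, LinearMap.trace_mul_comm,
    mul_assoc, mul_assoc, ← map_mul, mul_inv_cancel, map_one, mul_one]

/-- the projector on the `Z₁`-fixed vectors commutes with `B × G'` -/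
theorem eZ_zero_comm_iBG (k : borelSL2 F × symplecticGroup (Fin m) F) :
    ρ (D.iBG k) * eZ D ρ ψ 0 = eZ D ρ ψ 0 * ρ (D.iBG k) := by
  obtain ⟨b, g⟩ := k
  obtain ⟨t, u, rfl⟩ := exists_mkB b
  have e1 : D.iBG (mkB t u, g) =
      D.iS (mkSL t 0) * D.iH (Heis.cen (((t⁻¹ : Fˣ) : F) * u)) * D.iG g := by
    change D.iS (mkSL t u) * D.iG g = _
    rw [mkSL_eq_mul, map_mul, D.cenU]
  have h0 := eZ_conj_torus D ρ ψ t 0
  rw [zero_mul, zero_mul] at h0
  rw [e1, map_mul, map_mul, mul_assoc, mul_assoc, eZ_comm_iG, ← mul_assoc (ρ (D.iH _)),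
    eZ_comm_iH, mul_assoc, ← mul_assoc (ρ (D.iS _)), h0]
  simp only [mul_assoc]

end abstract

end Cfsg.Agent.Lib.Helper3.SPW
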