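import Mathlib
import Cfsg.Agent.Lib.Helper1.SPWDefs2
import Cfsg.Agent.Lib.Helper3.SPWA1

set_option autoImplicit false
set_option linter.unusedSectionVars false
set_option linter.unusedVariables false

/-!
Farm SPW (statement S2524), Part III, unit A2: the Heisenberg character vanishes off the centre.
-/

namespace Cfsg.Agent.Lib.Helper3.SPW

open Matrix Cfsg Cfsg.Agent.Lib.Helper6.Wl Cfsg.Agent.Lib.Helper4 Cfsg.Agent.Lib.Helper1.SPW
open Module

section heis
variable {F : Type*} [Field F] {m : ℕ}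

theorem hcoef_neg_right (u v : Fin m ⊕ Fin m → F) : hcoef u (-v) = -hcoef u v := by
  unfold hcoef
  simp only [va_neg, vb_neg, neg_dotProduct, dotProduct_neg]
  ring

theorem hcoef_swap (u v : Fin m ⊕ Fin m → F) : hcoef v u = -hcoef u v := by
  unfold hcoef
  ring

theorem heis_conj (u : Fin m ⊕ Fin m → F) (x : Heis m F) :
    Heis.vec u * x * (Heis.vec u)⁻¹ = x * Heis.cen (2 * hcoef u x.w) := by
  ext
  · simp [Heis.vec, Heis.cen]
  · simp only [Heis.mul_s, Heis.mul_w, Heis.inv_w, Heis.inv_s, Heis.vec, Heis.cen,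
      Heis.hcoef_add_left, hcoef_neg_right, Heis.hcoef_self, Heis.hcoef_zero_right,
      hcoef_swap u x.w]
    ring

theorem exists_hcoef_eq [DecidableEq F] (w : Fin m ⊕ Fin m → F) (hw : w ≠ 0) (r : F) :
    ∃ u : Fin m ⊕ Fin m → F, hcoef u w = r := by
  obtain ⟨i, hi⟩ : ∃ i, w i ≠ 0 := by
    by_contra hcon
    push Not at hcon
    exact hw (funext hcon)
  rcases i with j | j
  · refine ⟨Pi.single (Sum.inr j) (-r / w (Sum.inl j)), ?_⟩
    have e1 : va (Pi.single (Sum.inr j) (-r / w (Sum.inl j)) : Fin m ⊕ Fin m → F) = 0 := by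
      funext i
      simp [va]
    have e2 : vb (Pi.single (Sum.inr j) (-r / w (Sum.inl j)) : Fin m ⊕ Fin m → F) =
        Pi.single j (-r / w (Sum.inl j)) := by
      funext i
      simp [vb, Pi.single_apply]
    unfold hcoef
    rw [e1, e2, zero_dotProduct, dotProduct_single]
    show 0 - w (Sum.inl j) * (-r / w (Sum.inl j)) = r
    field_simp
    ring
  · refine ⟨Pi.single (Sum.inl j) (r / w (Sum.inr j)), ?_⟩
    have e1 : va (Pi.single (Sum.inl j) (r / w (Sum.inr j)) : Fin m ⊕ Fin m → F) =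
        Pi.single j (r / w (Sum.inr j)) := by
      funext i
      simp [va, Pi.single_apply]
    have e2 : vb (Pi.single (Sum.inl j) (r / w (Sum.inr j)) : Fin m ⊕ Fin m → F) = 0 := by
      funext i
      simp [vb]
    unfold hcoef
    rw [e1, e2, dotProduct_zero, single_dotProduct]
    show r / w (Sum.inr j) * w (Sum.inr j) - 0 = r
    field_simp
    ring

end heis

section abstract
variable {F : Type*} [Field F] [Fintype F] [DecidableEq F] {m : ℕ}
variable {G : Type*} [Group G] [Fintype G]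
variable [Fintype (symplecticGroup (Fin m) F)]
variable (D : Datum F m G)
variable {V : Type*} [AddCommGroup V] [Module ℂ V] [FiniteDimensional ℂ V]
variable {Ω : Type*} [AddCommGroup Ω] [Module ℂ Ω] [FiniteDimensional ℂ Ω]
variable (ρ : Representation ℂ G V) (ρΩ : Representation ℂ G Ω) (ψ : AddChar F ℂ)

/-- conjugate by `iH (vec u)`: `(u,0)(w,s)(u,0)⁻¹ = (w, s + 2 hcoef u w)`, and choose `u` with
`ψ (2 a hcoef u w) ≠ 1` -/
theorem trace_iH_mul_eZ (hodd : Odd (Fintype.card F)) (hψ : ψ ≠ 1) {a : F} (ha : a ≠ 0)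
    (x : Heis m F) (hx : x.w ≠ 0) :
    LinearMap.trace ℂ V (ρ (D.iH x) * eZ D ρ ψ a) = 0 := by
  have h2 : (2 : F) ≠ 0 := two_ne_zero_of_odd hodd
  obtain ⟨r0, hr0⟩ : ∃ r0 : F, ψ r0 ≠ 1 := by
    by_contra hcon
    push Not at hcon
    apply hψ
    ext r
    rw [hcon r]
    rfl
  obtain ⟨u, hu⟩ := exists_hcoef_eq x.w hx (r0 / (2 * a))
  have hc : a * (2 * hcoef u x.w) = r0 := by
    rw [hu]
    field_simp
  set X := ρ (D.iH x) * eZ D ρ ψ a with hX
  have h1 : LinearMap.trace ℂ V (ρ (D.iH (Heis.vec u)) * X * ρ (D.iH (Heis.vec u)⁻¹)) =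
      LinearMap.trace ℂ V X := by
    rw [LinearMap.trace_mul_comm, ← mul_assoc, ← map_mul, ← map_mul, inv_mul_cancel, map_one,
      map_one, one_mul]
  have h3 : ρ (D.iH (Heis.vec u)) * X * ρ (D.iH (Heis.vec u)⁻¹) = ψ r0 • X := by
    rw [hX, mul_assoc, mul_assoc, ← eZ_comm_iH, ← mul_assoc, ← mul_assoc, ← map_mul, ← map_mul,
      ← map_mul, ← map_mul, heis_conj, map_mul, map_mul, mul_assoc, rho_cen_mul_eZ, hc,
      mul_smul_comm]
  rw [h3, map_smul, smul_eq_mul] at h1
  have h4 : (ψ r0 - 1) * LinearMap.trace ℂ V X = 0 := by linear_combination h1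
  rcases mul_eq_zero.1 h4 with h | h
  · exact absurd (sub_eq_zero.1 h) hr0
  · exact h

end abstract

end Cfsg.Agent.Lib.Helper3.SPW
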