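import Mathlib
import Cfsg.Agent.Lib.Helper1.SPWDefs2

set_option autoImplicit false
set_option linter.unusedSectionVars false
set_option linter.unusedVariables false

/-!
Farm SPW (statement S2524), Part III, unit L0: the dimension of a space of intertwiners cut down
by commuting idempotents.
-/

namespace Cfsg.Agent.Lib.Helper3.SPW

open Matrix Cfsg Cfsg.Agent.Lib.Helper6.Wl Cfsg.Agent.Lib.Helper4 Cfsg.Agent.Lib.Helper1.SPW
open Module TensorProduct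

section sandwich
variable {V : Type*} [AddCommGroup V] [Module ℂ V] [FiniteDimensional ℂ V]
variable {Ω : Type*} [AddCommGroup Ω] [Module ℂ Ω] [FiniteDimensional ℂ Ω]

/-- `φ ↦ A ∘ φ ∘ B` -/
def sandwich (A : Module.End ℂ V) (B : Module.End ℂ Ω) : Module.End ℂ (Ω →ₗ[ℂ] V) where
  toFun φ := A ∘ₗ φ ∘ₗ B
  map_add' φ φ' := by rw [LinearMap.add_comp, LinearMap.comp_add]
  map_smul' c φ := by
    rw [LinearMap.smul_comp, LinearMap.comp_smul]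
    rfl

theorem sandwich_apply (A : Module.End ℂ V) (B : Module.End ℂ Ω) (φ : Ω →ₗ[ℂ] V) :
    sandwich A B φ = A ∘ₗ φ ∘ₗ B := rfl

theorem sandwich_dth (A : Module.End ℂ V) (B : Module.End ℂ Ω) :
    sandwich A B ∘ₗ dualTensorHom ℂ Ω V =
      dualTensorHom ℂ Ω V ∘ₗ TensorProduct.map (Module.Dual.transpose (R := ℂ) B) A := by
  apply TensorProduct.ext'
  intro f v
  apply LinearMap.ext
  intro ω
  simp [sandwich_apply, dualTensorHom_apply, Module.Dual.transpose_apply]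

theorem trace_sandwich (A : Module.End ℂ V) (B : Module.End ℂ Ω) :
    LinearMap.trace ℂ (Ω →ₗ[ℂ] V) (sandwich A B) =
      LinearMap.trace ℂ V A * LinearMap.trace ℂ Ω B := by
  let e : Dual ℂ Ω ⊗[ℂ] V ≃ₗ[ℂ] (Ω →ₗ[ℂ] V) :=
    LinearEquiv.ofBijective (dualTensorHom ℂ Ω V) dualTensorHom_bijective
  have he : (e : Dual ℂ Ω ⊗[ℂ] V →ₗ[ℂ] (Ω →ₗ[ℂ] V)) = dualTensorHom ℂ Ω V := by
    apply LinearMap.ext
    intro x
    rfl
  have h : sandwich A B =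
      e.conj (TensorProduct.map (Module.Dual.transpose (R := ℂ) B) A) := by
    rw [LinearEquiv.conj_apply, he, ← sandwich_dth, LinearMap.comp_assoc, ← he]
    apply LinearMap.ext
    intro φ
    simp
  rw [h, LinearMap.trace_conj', LinearMap.trace_tensorProduct', LinearMap.trace_transpose',
    mul_comm]

theorem lm_sum_comp {W : Type*} [AddCommGroup W] [Module ℂ W] {ι : Type*} (s : Finset ι)
    (T : ι → (Ω →ₗ[ℂ] V)) (B : W →ₗ[ℂ] Ω) : (∑ i ∈ s, T i) ∘ₗ B = ∑ i ∈ s, T i ∘ₗ B := by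
  apply LinearMap.ext
  intro w
  simp [LinearMap.sum_apply]

theorem lm_comp_sum {W : Type*} [AddCommGroup W] [Module ℂ W] {ι : Type*} (s : Finset ι)
    (T : ι → (Ω →ₗ[ℂ] V)) (A : V →ₗ[ℂ] W) : A ∘ₗ (∑ i ∈ s, T i) = ∑ i ∈ s, A ∘ₗ T i := by
  apply LinearMap.ext
  intro w
  simp [LinearMap.sum_apply]

end sandwich

section abstract
variable {F : Type*} [Field F] [Fintype F] [DecidableEq F] {m : ℕ}
variable {G : Type*} [Group G] [Fintype G]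
variable [Fintype (symplecticGroup (Fin m) F)]
variable (D : Datum F m G)
variable {V : Type*} [AddCommGroup V] [Module ℂ V] [FiniteDimensional ℂ V]
variable {Ω : Type*} [AddCommGroup Ω] [Module ℂ Ω] [FiniteDimensional ℂ Ω]
variable (ρ : Representation ℂ G V) (ρΩ : Representation ℂ G Ω) (ψ : AddChar F ℂ)

/-- `φ ↦ |K|⁻¹ ∑_k ρ(k) eV φ eΩ ρΩ(k)⁻¹` is a projector of `Hom(Ω, V)` onto `homE`; the trace of
`φ ↦ A φ B` is `tr A · tr B` -/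
theorem finrank_homE {K : Type*} [Group K] [Fintype K] (f : K →* G)
    (eV : Module.End ℂ V) (eΩ : Module.End ℂ Ω) (hV : eV * eV = eV) (hΩ : eΩ * eΩ = eΩ)
    (hcV : ∀ k : K, ρ (f k) * eV = eV * ρ (f k)) (hcΩ : ∀ k : K, ρΩ (f k) * eΩ = eΩ * ρΩ (f k)) :
    (finrank ℂ (homE ρ ρΩ f eV eΩ) : ℂ) =
      ((Fintype.card K : ℂ))⁻¹ * ∑ k : K,
        LinearMap.trace ℂ V (ρ (f k) * eV) * LinearMap.trace ℂ Ω (ρΩ (f k⁻¹) * eΩ) := by
  have hK : (Fintype.card K : ℂ) ≠ 0 := Nat.cast_ne_zero.2 Fintype.card_ne_zero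
  set P : Module.End ℂ (Ω →ₗ[ℂ] V) :=
    ((Fintype.card K : ℂ))⁻¹ • ∑ k : K, sandwich (ρ (f k) * eV) (ρΩ (f k⁻¹) * eΩ) with hP
  have hPapp : ∀ φ : Ω →ₗ[ℂ] V, P φ =
      ((Fintype.card K : ℂ))⁻¹ • ∑ k : K, (ρ (f k) * eV) ∘ₗ φ ∘ₗ (ρΩ (f k⁻¹) * eΩ) := by
    intro φ
    rw [hP, LinearMap.smul_apply, LinearMap.sum_apply]
    rfl
  have hproj : LinearMap.IsProj (homE ρ ρΩ f eV eΩ) P := by
    refine ⟨fun φ => ?_, fun φ hφ => ?_⟩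
    · rw [hPapp]
      refine ⟨fun k' => ?_, ?_, ?_⟩
      · rw [LinearMap.smul_comp, LinearMap.comp_smul]
        congr 1
        rw [lm_sum_comp, lm_comp_sum]
        refine (Fintype.sum_equiv (Equiv.mulLeft k')
          (fun k : K => ρ (f k') ∘ₗ ((ρ (f k) * eV) ∘ₗ φ ∘ₗ (ρΩ (f k⁻¹) * eΩ)))
          (fun k : K => ((ρ (f k) * eV) ∘ₗ φ ∘ₗ (ρΩ (f k⁻¹) * eΩ)) ∘ₗ ρΩ (f k')) ?_).symm
        intro j
        have e1 : (ρΩ (f (k' * j)⁻¹) * eΩ) * ρΩ (f k') = ρΩ (f j⁻¹) * eΩ := by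
          rw [mul_assoc, ← hcΩ k', ← mul_assoc, ← map_mul, ← map_mul]
          congr 3
          group
        have e2 : ρ (f (k' * j)) * eV = ρ (f k') * (ρ (f j) * eV) := by
          rw [map_mul, map_mul, mul_assoc]
        calc ρ (f k') ∘ₗ ((ρ (f j) * eV) ∘ₗ φ ∘ₗ (ρΩ (f j⁻¹) * eΩ))
            = (ρ (f k') * (ρ (f j) * eV)) ∘ₗ φ ∘ₗ (ρΩ (f j⁻¹) * eΩ) := rfl
          _ = (ρ (f (k' * j)) * eV) ∘ₗ φ ∘ₗ ((ρΩ (f (k' * j)⁻¹) * eΩ) * ρΩ (f k')) := by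
              rw [e1, e2]
          _ = ((ρ (f (k' * j)) * eV) ∘ₗ φ ∘ₗ (ρΩ (f (k' * j)⁻¹) * eΩ)) ∘ₗ ρΩ (f k') := rfl
      · rw [LinearMap.smul_comp]
        congr 1
        rw [lm_sum_comp]
        apply Finset.sum_congr rfl
        intro k _
        calc ((ρ (f k) * eV) ∘ₗ φ ∘ₗ (ρΩ (f k⁻¹) * eΩ)) ∘ₗ eΩ
            = (ρ (f k) * eV) ∘ₗ φ ∘ₗ ((ρΩ (f k⁻¹) * eΩ) * eΩ) := rfl
          _ = (ρ (f k) * eV) ∘ₗ φ ∘ₗ (ρΩ (f k⁻¹) * eΩ) := by rw [mul_assoc, hΩ]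
      · rw [LinearMap.comp_smul]
        congr 1
        rw [lm_comp_sum]
        apply Finset.sum_congr rfl
        intro k _
        calc eV ∘ₗ ((ρ (f k) * eV) ∘ₗ φ ∘ₗ (ρΩ (f k⁻¹) * eΩ))
            = (eV * (ρ (f k) * eV)) ∘ₗ φ ∘ₗ (ρΩ (f k⁻¹) * eΩ) := rfl
          _ = (ρ (f k) * eV) ∘ₗ φ ∘ₗ (ρΩ (f k⁻¹) * eΩ) := by
              rw [← mul_assoc, ← hcV k, mul_assoc, hV]
    · obtain ⟨h1, h2, h3⟩ := hφ
      rw [hPapp]
      have hterm : ∀ k : K, (ρ (f k) * eV) ∘ₗ φ ∘ₗ (ρΩ (f k⁻¹) * eΩ) = φ := by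
        intro k
        calc (ρ (f k) * eV) ∘ₗ φ ∘ₗ (ρΩ (f k⁻¹) * eΩ)
            = ρ (f k) ∘ₗ ((eV ∘ₗ φ) ∘ₗ ρΩ (f k⁻¹)) ∘ₗ eΩ := rfl
          _ = ρ (f k) ∘ₗ (φ ∘ₗ ρΩ (f k⁻¹)) ∘ₗ eΩ := by rw [h3]
          _ = ρ (f k) ∘ₗ (ρ (f k⁻¹) ∘ₗ φ) ∘ₗ eΩ := by rw [h1 k⁻¹]
          _ = (ρ (f k) * ρ (f k⁻¹)) ∘ₗ (φ ∘ₗ eΩ) := rfl
          _ = φ := by
              rw [h2, ← map_mul, ← map_mul, mul_inv_cancel, map_one, map_one]
              rfl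
      rw [Finset.sum_congr rfl (fun k _ => hterm k), Finset.sum_const, Finset.card_univ,
        ← Nat.cast_smul_eq_nsmul ℂ, smul_smul, inv_mul_cancel₀ hK, one_smul]
  have htr := hproj.trace
  rw [← htr, hP, map_smul, map_sum, smul_eq_mul]
  congr 1
  apply Finset.sum_congr rfl
  intro k _
  rw [trace_sandwich]

end abstract

end Cfsg.Agent.Lib.Helper3.SPW
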