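import Mathlib
import Cfsg.Agent.Lib.Helper1.SPWDefs2
import Cfsg.Agent.Lib.Helper3.SPWA1
import Cfsg.Agent.Lib.Helper3.SPWA2
import Cfsg.Agent.Lib.Helper3.SPWL0

set_option autoImplicit false
set_option linter.unusedSectionVars false
set_option linter.unusedVariables false

/-!
Farm SPW (statement S2524), Part III, unit A3: the Stone-von Neumann count.
-/

namespace Cfsg.Agent.Lib.Helper3.SPW

open Matrix Cfsg Cfsg.Agent.Lib.Helper6.Wl Cfsg.Agent.Lib.Helper4 Cfsg.Agent.Lib.Helper1.SPW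
open Module

section heis
variable {F : Type*} [Field F] {m : ℕ}

/-- the Heisenberg group as a product of sets -/
def heisEquiv : ((Fin m ⊕ Fin m → F) × F) ≃ Heis m F :=
  ⟨fun p => ⟨p.1, p.2⟩, fun x => (x.w, x.s), fun _ => rfl, fun _ => rfl⟩

theorem card_heis [Fintype F] [DecidableEq F] :
    Fintype.card (Heis m F) = Fintype.card F ^ (2 * m) * Fintype.card F := by
  rw [← Fintype.card_congr (heisEquiv (F := F) (m := m)), Fintype.card_prod, Fintype.card_fun,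
    Fintype.card_sum, Fintype.card_fin, two_mul]

end heis

section abstract
variable {F : Type*} [Field F] [Fintype F] [DecidableEq F] {m : ℕ}
variable {G : Type*} [Group G] [Fintype G]
variable [Fintype (symplecticGroup (Fin m) F)]
variable (D : Datum F m G)
variable {V : Type*} [AddCommGroup V] [Module ℂ V] [FiniteDimensional ℂ V]
variable {Ω : Type*} [AddCommGroup Ω] [Module ℂ Ω] [FiniteDimensional ℂ Ω]
variable (ρ : Representation ℂ G V) (ρΩ : Representation ℂ G Ω) (ψ : AddChar F ℂ)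

theorem hHom_eq_homE (a : F) :
    hHom D ρ ρΩ ψ a = homE ρ ρΩ D.iH (eZ D ρ ψ a) (eZ D ρΩ ψ a) := by
  ext φ
  constructor
  · intro h
    exact ⟨h.1, h.2, eZ_comp_of_mem_hHom D ρ ρΩ ψ h⟩
  · intro h
    exact ⟨h.1, h.2.1⟩

theorem trace_cen_mul_eZ (s a : F) :
    LinearMap.trace ℂ V (ρ (D.iH (Heis.cen s)) * eZ D ρ ψ a) =
      ψ (a * s) * LinearMap.trace ℂ V (eZ D ρ ψ a) := by
  rw [rho_cen_mul_eZ, map_smul, smul_eq_mul]

/-- `dim Hom_{Heis}(Ω_a, V_a) = dim V_a · dim Ω_a / q^{2m}`: trace of the averaging projector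
`φ ↦ |Heis|⁻¹ ∑_x ρ(x) e_a φ e_a ρΩ(x)⁻¹` on `Hom(Ω, V)`, by A2 -/
theorem finrank_hHom (hodd : Odd (Fintype.card F)) (hψ : ψ ≠ 1) {a : F} (ha : a ≠ 0) :
    (finrank ℂ (hHom D ρ ρΩ ψ a) : ℂ) * (Fintype.card F : ℂ) ^ (2 * m) =
      LinearMap.trace ℂ V (eZ D ρ ψ a) * LinearMap.trace ℂ Ω (eZ D ρΩ ψ a) := by
  have hq : (Fintype.card F : ℂ) ≠ 0 := Nat.cast_ne_zero.2 Fintype.card_ne_zero
  rw [hHom_eq_homE, finrank_homE ρ ρΩ D.iH _ _ (eZ_idem D ρ ψ a) (eZ_idem D ρΩ ψ a)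
    (fun k => eZ_comm_iH D ρ ψ k a) (fun k => eZ_comm_iH D ρΩ ψ k a)]
  have hsum : ∑ x : Heis m F, LinearMap.trace ℂ V (ρ (D.iH x) * eZ D ρ ψ a) *
      LinearMap.trace ℂ Ω (ρΩ (D.iH x⁻¹) * eZ D ρΩ ψ a) =
      (Fintype.card F : ℂ) *
        (LinearMap.trace ℂ V (eZ D ρ ψ a) * LinearMap.trace ℂ Ω (eZ D ρΩ ψ a)) := by
    rw [← Equiv.sum_comp (heisEquiv (F := F) (m := m)), Fintype.sum_prod_type,
      Finset.sum_eq_single (0 : Fin m ⊕ Fin m → F)]
    · have hterm : ∀ s : F,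
          LinearMap.trace ℂ V (ρ (D.iH (heisEquiv ((0 : Fin m ⊕ Fin m → F), s))) * eZ D ρ ψ a) *
          LinearMap.trace ℂ Ω (ρΩ (D.iH (heisEquiv ((0 : Fin m ⊕ Fin m → F), s))⁻¹) *
            eZ D ρΩ ψ a) =
          LinearMap.trace ℂ V (eZ D ρ ψ a) * LinearMap.trace ℂ Ω (eZ D ρΩ ψ a) := by
        intro s
        have e1 : (heisEquiv ((0 : Fin m ⊕ Fin m → F), s) : Heis m F) = Heis.cen s := rfl
        have e2 : (Heis.cen s : Heis m F)⁻¹ = Heis.cen (-s) := by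
          ext
          · simp [Heis.cen]
          · simp [Heis.cen]
        rw [e1, e2, trace_cen_mul_eZ, trace_cen_mul_eZ]
        have e3 : ψ (a * s) * ψ (a * -s) = 1 := by
          rw [← AddChar.map_add_eq_mul, mul_neg, add_neg_cancel, AddChar.map_zero_eq_one]
        linear_combination (LinearMap.trace ℂ V (eZ D ρ ψ a) *
          LinearMap.trace ℂ Ω (eZ D ρΩ ψ a)) * e3
      rw [Finset.sum_congr rfl (fun s _ => hterm s), Finset.sum_const, Finset.card_univ,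
        nsmul_eq_mul]
    · intro w _ hw
      apply Finset.sum_eq_zero
      intro s _
      have := trace_iH_mul_eZ D ρ ψ hodd hψ ha (heisEquiv (w, s)) hw
      rw [this, zero_mul]
    · intro h
      exact absurd (Finset.mem_univ _) h
  rw [hsum, card_heis]
  push_cast
  field_simp

end abstract

end Cfsg.Agent.Lib.Helper3.SPW
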