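import Mathlib
import Cfsg.Agent.Lib.Helper1.SPWDefs2
import Cfsg.Agent.Lib.Helper3.SPWA1
import Cfsg.Agent.Lib.Helper3.SPWA2
import Cfsg.Agent.Lib.Helper3.SPWA3
import Cfsg.Agent.Lib.Helper3.SPWL0

set_option autoImplicit false
set_option linter.unusedSectionVars false
set_option linter.unusedVariables false

/-!
Farm SPW (statement S2524), Part III, unit A5 (core): `V_a` is `b` copies of `Ω_a` as a module for
`G'`, in the form of a trace identity, with the conclusion of unit A4 as a hypothesis.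

Proof without any structure theory: with `P` the averaging projector onto the Heisenberg
intertwiners, `λ_i, ω_i` dual bases of `Ω`, and `Ξ(T) v := ∑_i P(v ⊗ λ_i)(T ω_i)`,
`Ξ(T) v = |H|⁻¹ ∑_x tr(ρΩ(x⁻¹) e_a T) ρ(x) e_a v`; `Ξ(1) = q^{-m} e_a` (A2), and
`ρ(g) Ξ(1) = Ξ(ρΩ(g))` (A4); take the trace and use A2 again.
-/

namespace Cfsg.Agent.Lib.Helper3.SPW

open Matrix Cfsg Cfsg.Agent.Lib.Helper6.Wl Cfsg.Agent.Lib.Helper4 Cfsg.Agent.Lib.Helper1.SPW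
open Module

section linalg
variable {V : Type*} [AddCommGroup V] [Module ℂ V] [FiniteDimensional ℂ V]
variable {Ω : Type*} [AddCommGroup Ω] [Module ℂ Ω] [FiniteDimensional ℂ Ω]

theorem sum_coord_apply {ι : Type*} [Fintype ι] [DecidableEq ι] (b : Basis ι ℂ Ω)
    (T : Module.End ℂ Ω) : ∑ i, b.coord i (T (b i)) = LinearMap.trace ℂ Ω T := by
  rw [LinearMap.trace_eq_matrix_trace ℂ b T, Matrix.trace]
  apply Finset.sum_congr rfl
  intro i _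
  rw [Matrix.diag_apply, LinearMap.toMatrix_apply, Basis.coord_apply]

theorem contract {ι : Type*} [Fintype ι] [DecidableEq ι] (b : Basis ι ℂ Ω)
    (A : Module.End ℂ V) (B T : Module.End ℂ Ω) (v₀ : V) :
    ∑ i, (sandwich A B (LinearMap.smulRight (b.coord i) v₀)) (T (b i)) =
      LinearMap.trace ℂ Ω (B * T) • A v₀ := by
  rw [← sum_coord_apply b (B * T), Finset.sum_smul]
  apply Finset.sum_congr rfl
  intro i _
  rw [sandwich_apply, LinearMap.comp_apply, LinearMap.comp_apply, LinearMap.smulRight_apply,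
    map_smul]
  rfl

end linalg

section avg
variable {G : Type*} [Group G]
variable {V : Type*} [AddCommGroup V] [Module ℂ V] [FiniteDimensional ℂ V]
variable {Ω : Type*} [AddCommGroup Ω] [Module ℂ Ω] [FiniteDimensional ℂ Ω]
variable (ρ : Representation ℂ G V) (ρΩ : Representation ℂ G Ω)

/-- the averaging projector onto `homE` -/
noncomputable def avgP {K : Type*} [Group K] [Fintype K] (f : K →* G)
    (eV : Module.End ℂ V) (eΩ : Module.End ℂ Ω) : Module.End ℂ (Ω →ₗ[ℂ] V) :=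
  ((Fintype.card K : ℂ))⁻¹ • ∑ k : K, sandwich (ρ (f k) * eV) (ρΩ (f k⁻¹) * eΩ)

theorem avgP_apply {K : Type*} [Group K] [Fintype K] (f : K →* G)
    (eV : Module.End ℂ V) (eΩ : Module.End ℂ Ω) (φ : Ω →ₗ[ℂ] V) :
    avgP ρ ρΩ f eV eΩ φ =
      ((Fintype.card K : ℂ))⁻¹ • ∑ k : K, (ρ (f k) * eV) ∘ₗ φ ∘ₗ (ρΩ (f k⁻¹) * eΩ) := by
  unfold avgP
  rw [LinearMap.smul_apply, LinearMap.sum_apply]
  rfl

theorem avgP_mem {K : Type*} [Group K] [Fintype K] (f : K →* G)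
    (eV : Module.End ℂ V) (eΩ : Module.End ℂ Ω) (hV : eV * eV = eV) (hΩ : eΩ * eΩ = eΩ)
    (hcV : ∀ k : K, ρ (f k) * eV = eV * ρ (f k)) (hcΩ : ∀ k : K, ρΩ (f k) * eΩ = eΩ * ρΩ (f k))
    (φ : Ω →ₗ[ℂ] V) : avgP ρ ρΩ f eV eΩ φ ∈ homE ρ ρΩ f eV eΩ := by
  rw [avgP_apply]
  refine ⟨fun k' => ?_, ?_, ?_⟩
  · rw [LinearMap.smul_comp, LinearMap.comp_smul]
    congr 1
    rw [lm_sum_comp, lm_comp_sum]
    refine (Fintype.sum_equiv (Equiv.mulLeft k')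
      (fun k : K => ρ (f k') ∘ₗ ((ρ (f k) * eV) ∘ₗ φ ∘ₗ (ρΩ (f k⁻¹) * eΩ)))
      (fun k : K => ((ρ (f k) * eV) ∘ₗ φ ∘ₗ (ρΩ (f k⁻¹) * eΩ)) ∘ₗ ρΩ (f k')) ?_).symm
    intro j
    have e1 : (ρΩ (f (k' * j)⁻¹) * eΩ) * ρΩ (f k') = ρΩ (f j⁻¹) * eΩ := by
      rw [mul_assoc, ← hcΩ k', ← mul_assoc, ← map_mul, ← map_mul]
      congr 3
      group
    have e2 : ρ (f (k' * j)) * eV = ρ (f k') * (ρ (f j) * eV) := by
      rw [map_mul, map_mul, mul_assoc]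
    calc ρ (f k') ∘ₗ ((ρ (f j) * eV) ∘ₗ φ ∘ₗ (ρΩ (f j⁻¹) * eΩ))
        = (ρ (f k') * (ρ (f j) * eV)) ∘ₗ φ ∘ₗ (ρΩ (f j⁻¹) * eΩ) := rfl
      _ = (ρ (f (k' * j)) * eV) ∘ₗ φ ∘ₗ ((ρΩ (f (k' * j)⁻¹) * eΩ) * ρΩ (f k')) := by
          rw [e1, e2]
      _ = ((ρ (f (k' * j)) * eV) ∘ₗ φ ∘ₗ (ρΩ (f (k' * j)⁻¹) * eΩ)) ∘ₗ ρΩ (f k') := rfl
  · rw [LinearMap.smul_comp]
    congr 1
    rw [lm_sum_comp]
    apply Finset.sum_congr rfl
    intro k _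
    calc ((ρ (f k) * eV) ∘ₗ φ ∘ₗ (ρΩ (f k⁻¹) * eΩ)) ∘ₗ eΩ
        = (ρ (f k) * eV) ∘ₗ φ ∘ₗ ((ρΩ (f k⁻¹) * eΩ) * eΩ) := rfl
      _ = (ρ (f k) * eV) ∘ₗ φ ∘ₗ (ρΩ (f k⁻¹) * eΩ) := by rw [mul_assoc, hΩ]
  · rw [LinearMap.comp_smul]
    congr 1
    rw [lm_comp_sum]
    apply Finset.sum_congr rfl
    intro k _
    calc eV ∘ₗ ((ρ (f k) * eV) ∘ₗ φ ∘ₗ (ρΩ (f k⁻¹) * eΩ))
        = (eV * (ρ (f k) * eV)) ∘ₗ φ ∘ₗ (ρΩ (f k⁻¹) * eΩ) := rfl
      _ = (ρ (f k) * eV) ∘ₗ φ ∘ₗ (ρΩ (f k⁻¹) * eΩ) := by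
          rw [← mul_assoc, ← hcV k, mul_assoc, hV]

/-- the contraction of the averaging projector against dual bases -/
theorem avgP_contract {K : Type*} [Group K] [Fintype K] (f : K →* G)
    (eV : Module.End ℂ V) (eΩ : Module.End ℂ Ω) {ι : Type*} [Fintype ι] [DecidableEq ι]
    (b : Basis ι ℂ Ω) (T : Module.End ℂ Ω) (v₀ : V) :
    ∑ i, (avgP ρ ρΩ f eV eΩ (LinearMap.smulRight (b.coord i) v₀)) (T (b i)) =
      ((Fintype.card K : ℂ))⁻¹ • ∑ k : K,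
        LinearMap.trace ℂ Ω ((ρΩ (f k⁻¹) * eΩ) * T) • (ρ (f k) * eV) v₀ := by
  unfold avgP
  simp only [LinearMap.smul_apply, LinearMap.sum_apply]
  rw [← Finset.smul_sum, Finset.sum_comm]
  congr 1
  apply Finset.sum_congr rfl
  intro k _
  exact contract b _ _ T v₀

end avg

section abstract
variable {F : Type*} [Field F] [Fintype F] [DecidableEq F] {m : ℕ}
variable {G : Type*} [Group G] [Fintype G]
variable [Fintype (symplecticGroup (Fin m) F)]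
variable (D : Datum F m G)
variable {V : Type*} [AddCommGroup V] [Module ℂ V] [FiniteDimensional ℂ V]
variable {Ω : Type*} [AddCommGroup Ω] [Module ℂ Ω] [FiniteDimensional ℂ Ω]
variable (ρ : Representation ℂ G V) (ρΩ : Representation ℂ G Ω) (ψ : AddChar F ℂ)

/-- a sum over the Heisenberg group of a function vanishing off the centre -/
theorem heis_sum_central {M : Type*} [AddCommMonoid M] (f : Heis m F → M)
    (h : ∀ x : Heis m F, x.w ≠ 0 → f x = 0) : ∑ x : Heis m F, f x = ∑ s : F, f (Heis.cen s) := by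
  rw [← Equiv.sum_comp (heisEquiv (F := F) (m := m)), Fintype.sum_prod_type,
    Finset.sum_eq_single (0 : Fin m ⊕ Fin m → F)]
  · rfl
  · intro w _ hw
    apply Finset.sum_eq_zero
    intro s _
    exact h _ hw
  · intro h'
    exact absurd (Finset.mem_univ _) h'

theorem cen_inv (s : F) : (Heis.cen s : Heis m F)⁻¹ = Heis.cen (-s) := by
  ext
  · simp [Heis.cen]
  · simp [Heis.cen]

/-- the averaging projector onto the Heisenberg intertwiners -/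
noncomputable def avgH (a : F) : Module.End ℂ (Ω →ₗ[ℂ] V) :=
  avgP ρ ρΩ D.iH (eZ D ρ ψ a) (eZ D ρΩ ψ a)

theorem avgH_mem (a : F) (φ : Ω →ₗ[ℂ] V) : avgH D ρ ρΩ ψ a φ ∈ hHom D ρ ρΩ ψ a := by
  rw [hHom_eq_homE]
  exact avgP_mem ρ ρΩ D.iH _ _ (eZ_idem D ρ ψ a) (eZ_idem D ρΩ ψ a)
    (fun k => eZ_comm_iH D ρ ψ k a) (fun k => eZ_comm_iH D ρΩ ψ k a) φ

/-- `Ξ(T) v = |H|⁻¹ ∑_s tr(ρΩ(z(-s)) e_a T) ρ(z(s)) e_a v`, after A2 -/
theorem xi_formula (hodd : Odd (Fintype.card F)) (hψ : ψ ≠ 1) {a : F} (ha : a ≠ 0)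
    {ι : Type*} [Fintype ι] [DecidableEq ι] (b : Basis ι ℂ Ω) (T : Module.End ℂ Ω)
    (hT : ∀ x : Heis m F, x.w ≠ 0 →
      LinearMap.trace ℂ Ω ((ρΩ (D.iH x⁻¹) * eZ D ρΩ ψ a) * T) = 0) (v₀ : V) :
    ∑ i, (avgH D ρ ρΩ ψ a (LinearMap.smulRight (b.coord i) v₀)) (T (b i)) =
      ((Fintype.card (Heis m F) : ℂ))⁻¹ • ((Fintype.card F : ℂ) •
        (LinearMap.trace ℂ Ω (eZ D ρΩ ψ a * T) • eZ D ρ ψ a v₀)) := by
  unfold avgH
  rw [avgP_contract]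
  congr 1
  rw [heis_sum_central (fun x : Heis m F =>
    LinearMap.trace ℂ Ω ((ρΩ (D.iH x⁻¹) * eZ D ρΩ ψ a) * T) • (ρ (D.iH x) * eZ D ρ ψ a) v₀)]
  · have hterm : ∀ s : F,
        LinearMap.trace ℂ Ω ((ρΩ (D.iH (Heis.cen s)⁻¹) * eZ D ρΩ ψ a) * T) •
          (ρ (D.iH (Heis.cen s)) * eZ D ρ ψ a) v₀ =
        LinearMap.trace ℂ Ω (eZ D ρΩ ψ a * T) • eZ D ρ ψ a v₀ := by
      intro s
      rw [cen_inv, rho_cen_mul_eZ, rho_cen_mul_eZ, smul_mul_assoc, map_smul,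
        LinearMap.smul_apply, smul_smul, smul_eq_mul]
      congr 1
      have e3 : ψ (a * -s) * ψ (a * s) = 1 := by
        rw [← AddChar.map_add_eq_mul, mul_neg, neg_add_cancel, AddChar.map_zero_eq_one]
      linear_combination (LinearMap.trace ℂ Ω (eZ D ρΩ ψ a * T)) * e3
    rw [Finset.sum_congr rfl (fun s _ => hterm s), Finset.sum_const, Finset.card_univ,
      ← Nat.cast_smul_eq_nsmul ℂ]
  · intro x hx
    rw [hT x hx, zero_smul]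

/-- core of unit A5, with the conclusion of unit A4 as a hypothesis -/
theorem chiA_eq_core (hodd : Odd (Fintype.card F)) (hψ : ψ ≠ 1) {a : F} (ha : a ≠ 0)
    (hA4 : ∀ φ : Ω →ₗ[ℂ] V, φ ∈ hHom D ρ ρΩ ψ a → ∀ g : symplecticGroup (Fin m) F,
      φ ∘ₗ ρΩ (D.iG g) = ρ (D.iG g) ∘ₗ φ)
    (hΩa : LinearMap.trace ℂ Ω (eZ D ρΩ ψ a) = (Fintype.card F : ℂ) ^ m)
    (g : symplecticGroup (Fin m) F) :
    chiA D ρ ψ a g * (Fintype.card F : ℂ) ^ m =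
      LinearMap.trace ℂ V (eZ D ρ ψ a) * chiA D ρΩ ψ a g := by
  classical
  have hq : (Fintype.card F : ℂ) ≠ 0 := Nat.cast_ne_zero.2 Fintype.card_ne_zero
  have hN : (Fintype.card (Heis m F) : ℂ) ≠ 0 := Nat.cast_ne_zero.2 Fintype.card_ne_zero
  obtain ⟨b, hb⟩ : ∃ b : Basis (Fin (finrank ℂ Ω)) ℂ Ω, b = Module.finBasis ℂ Ω := ⟨_, rfl⟩
  have hT1 : ∀ x : Heis m F, x.w ≠ 0 →
      LinearMap.trace ℂ Ω ((ρΩ (D.iH x⁻¹) * eZ D ρΩ ψ a) * 1) = 0 := by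
    intro x hx
    rw [mul_one]
    apply trace_iH_mul_eZ D ρΩ ψ hodd hψ ha x⁻¹
    rw [Heis.inv_w]
    exact neg_ne_zero.2 hx
  have h2 : ∀ v₀ : V, ∑ i, (avgH D ρ ρΩ ψ a (LinearMap.smulRight (b.coord i) v₀))
      ((1 : Module.End ℂ Ω) (b i)) =
      ((Fintype.card (Heis m F) : ℂ))⁻¹ • ((Fintype.card F : ℂ) •
        (((Fintype.card F : ℂ) ^ m) • eZ D ρ ψ a v₀)) := by
    intro v₀
    rw [xi_formula D ρ ρΩ ψ hodd hψ ha b 1 hT1 v₀, mul_one, hΩa]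
  have h3 : ∀ v₀ : V, ρ (D.iG g) (∑ i, (avgH D ρ ρΩ ψ a (LinearMap.smulRight (b.coord i) v₀))
      ((1 : Module.End ℂ Ω) (b i))) =
      ∑ i, (avgH D ρ ρΩ ψ a (LinearMap.smulRight (b.coord i) v₀)) (ρΩ (D.iG g) (b i)) := by
    intro v₀
    rw [map_sum]
    apply Finset.sum_congr rfl
    intro i _
    have h := hA4 _ (avgH_mem D ρ ρΩ ψ a (LinearMap.smulRight (b.coord i) v₀)) g
    exact (LinearMap.congr_fun h (b i)).symm
  have h4 : ∀ v₀ : V, ((Fintype.card F : ℂ) * (Fintype.card F : ℂ) ^ m) •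
      ρ (D.iG g) (eZ D ρ ψ a v₀) =
      ∑ x : Heis m F, LinearMap.trace ℂ Ω ((ρΩ (D.iH x⁻¹) * eZ D ρΩ ψ a) * ρΩ (D.iG g)) •
        (ρ (D.iH x) * eZ D ρ ψ a) v₀ := by
    intro v₀
    have h := h3 v₀
    rw [h2 v₀] at h
    unfold avgH at h
    rw [avgP_contract ρ ρΩ D.iH (eZ D ρ ψ a) (eZ D ρΩ ψ a) b (ρΩ (D.iG g)) v₀] at h
    simp only [map_smul] at h
    have h' := congrArg (fun y => (Fintype.card (Heis m F) : ℂ) • y) h
    simp only [smul_smul, mul_inv_cancel₀ hN, one_smul] at h'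
    rw [← h']
    congr 1
    field_simp
  have h5 : ((Fintype.card F : ℂ) * (Fintype.card F : ℂ) ^ m) • (ρ (D.iG g) * eZ D ρ ψ a) =
      ∑ x : Heis m F, LinearMap.trace ℂ Ω ((ρΩ (D.iH x⁻¹) * eZ D ρΩ ψ a) * ρΩ (D.iG g)) •
        (ρ (D.iH x) * eZ D ρ ψ a) := by
    apply LinearMap.ext
    intro v₀
    rw [LinearMap.smul_apply, LinearMap.sum_apply]
    exact h4 v₀
  have h6 := congrArg (LinearMap.trace ℂ V) h5
  rw [map_smul, map_sum] at h6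
  simp only [map_smul, smul_eq_mul] at h6
  rw [heis_sum_central (fun x : Heis m F =>
    LinearMap.trace ℂ Ω ((ρΩ (D.iH x⁻¹) * eZ D ρΩ ψ a) * ρΩ (D.iG g)) *
      LinearMap.trace ℂ V (ρ (D.iH x) * eZ D ρ ψ a))] at h6
  · have hterm : ∀ s : F,
        LinearMap.trace ℂ Ω ((ρΩ (D.iH (Heis.cen s)⁻¹) * eZ D ρΩ ψ a) * ρΩ (D.iG g)) *
          LinearMap.trace ℂ V (ρ (D.iH (Heis.cen s)) * eZ D ρ ψ a) =
        chiA D ρΩ ψ a g * LinearMap.trace ℂ V (eZ D ρ ψ a) := by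
      intro s
      rw [cen_inv, rho_cen_mul_eZ, trace_cen_mul_eZ, smul_mul_assoc, map_smul, smul_eq_mul,
        LinearMap.trace_mul_comm]
      unfold chiA
      have e3 : ψ (a * -s) * ψ (a * s) = 1 := by
        rw [← AddChar.map_add_eq_mul, mul_neg, neg_add_cancel, AddChar.map_zero_eq_one]
      linear_combination (LinearMap.trace ℂ Ω (ρΩ (D.iG g) * eZ D ρΩ ψ a) *
        LinearMap.trace ℂ V (eZ D ρ ψ a)) * e3
    rw [Finset.sum_congr rfl (fun s _ => hterm s), Finset.sum_const, Finset.card_univ,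
      nsmul_eq_mul] at h6
    have h7 : (Fintype.card F : ℂ) * (chiA D ρ ψ a g * (Fintype.card F : ℂ) ^ m) =
        (Fintype.card F : ℂ) * (LinearMap.trace ℂ V (eZ D ρ ψ a) * chiA D ρΩ ψ a g) := by
      unfold chiA at h6 ⊢
      linear_combination h6
    exact mul_left_cancel₀ hq h7
  · intro x hx
    rw [trace_iH_mul_eZ D ρ ψ hodd hψ ha x hx, mul_zero]

end abstract

end Cfsg.Agent.Lib.Helper3.SPW
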