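import Mathlib
import Cfsg.Agent.Lib.Helper1.SPWDefs2
import Cfsg.Agent.Lib.Helper1.SPWA4
import Cfsg.Agent.Lib.Helper3.SPWA5core

set_option autoImplicit false
set_option linter.unusedSectionVars false
set_option linter.unusedVariables false

/-!
Farm SPW (statement S2524), Part III, unit A5: `V_a` is `b` copies of `Ω_a` as a module for `G'`.
-/

namespace Cfsg.Agent.Lib.Helper3.SPW

open Matrix Cfsg Cfsg.Agent.Lib.Helper6.Wl Cfsg.Agent.Lib.Helper4 Cfsg.Agent.Lib.Helper1.SPW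
open Module

section abstract
variable {F : Type*} [Field F] [Fintype F] [DecidableEq F] {m : ℕ}
variable {G : Type*} [Group G] [Fintype G]
variable [Fintype (symplecticGroup (Fin m) F)]
variable (D : Datum F m G)
variable {V : Type*} [AddCommGroup V] [Module ℂ V] [FiniteDimensional ℂ V]
variable {Ω : Type*} [AddCommGroup Ω] [Module ℂ Ω] [FiniteDimensional ℂ Ω]
variable (ρ : Representation ℂ G V) (ρΩ : Representation ℂ G Ω) (ψ : AddChar F ℂ)

/-- a basis `φ₁ … φ_b` of `hHom` gives `Ω_a^b → V_a`, injective (a Heisenberg submodule of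
`Ω_a^b` contains a copy of `Ω_a` by A3, and `End_{Heis} Ω_a = ℂ`), bijective by dimensions; it
commutes with `G'` by A4 -/
theorem chiA_eq (hm : 0 < m) (hodd : Odd (Fintype.card F)) (hψ : ψ ≠ 1) {a : F} (ha : a ≠ 0)
    (rV : Rk1 D ρ ψ) (rΩ : Rk1 D ρΩ ψ)
    (hΩa : LinearMap.trace ℂ Ω (eZ D ρΩ ψ a) = (Fintype.card F : ℂ) ^ m)
    (g : symplecticGroup (Fin m) F) :
    chiA D ρ ψ a g * (Fintype.card F : ℂ) ^ m =
      LinearMap.trace ℂ V (eZ D ρ ψ a) * chiA D ρΩ ψ a g :=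
  chiA_eq_core D ρ ρΩ ψ hodd hψ ha
    (fun φ hφ g' => Cfsg.Agent.Lib.Helper1.SPW.hHom_comm_iG D ρ ρΩ ψ hm hodd hψ ha rV rΩ hφ g')
    hΩa g

end abstract

end Cfsg.Agent.Lib.Helper3.SPW
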