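import Mathlib
import Cfsg.Agent.Lib.Helper6.Schur
import Cfsg.Agent.Lib.Helper6.RepBasic
import Cfsg.Agent.Lib.Helper6.CharBasic

set_option autoImplicit false

/-! The sub-representation of `End V` (under conjugation) spanned by the image of a normal
subgroup: idempotents commuting with a representation give characters. -/

namespace Cfsg.Agent.Lib.Helper3.EndSub

open Cfsg Cfsg.Agent.Lib.Helper6 Module

section idem

variable {G : Type*} [Group G] {L : Type*} [AddCommGroup L] [Module ℂ L] [FiniteDimensional ℂ L]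

/-- an idempotent commuting with a representation cuts out a character -/
theorem isCharacter_trace_comp_of_idem (c : Representation ℂ G L) (Q : L →ₗ[ℂ] L)
    (hQ : ∀ x, Q (Q x) = Q x) (hc : ∀ g x, c g (Q x) = Q (c g x)) :
    IsCharacter G (fun g => LinearMap.trace ℂ L (c g ∘ₗ Q)) := by
  let W := LinearMap.range Q
  let ι : W →ₗ[ℂ] L := W.subtype
  let Q' : L →ₗ[ℂ] W := Q.rangeRestrict
  have h1 : ∀ x, ι (Q' x) = Q x := fun x => rfl
  have h2 : ∀ w : W, Q (w : L) = w := by
    rintro ⟨w, y, rfl⟩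
    exact hQ y
  let σ : Representation ℂ G W :=
    { toFun := fun g => Q' ∘ₗ c g ∘ₗ ι
      map_one' := by
        ext w
        simp only [map_one, LinearMap.coe_comp, Function.comp_apply, Module.End.one_apply]
        exact h2 w
      map_mul' := by
        intro g h
        ext w
        simp only [map_mul, LinearMap.coe_comp, Function.comp_apply, Module.End.mul_apply]
        change Q (c g (c h (w : L))) = Q (c g (Q (c h (w : L))))
        rw [hc, hQ] }
  have hσ : σ.character = fun g => LinearMap.trace ℂ L (c g ∘ₗ Q) := by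
    funext g
    change LinearMap.trace ℂ W (Q' ∘ₗ (c g ∘ₗ ι)) = _
    rw [LinearMap.trace_comp_comm']
    congr 1
  rw [← hσ]
  exact isCharacter_character σ

end idem

section main

variable {G : Type*} [Group G] {V : Type*} [AddCommGroup V] [Module ℂ V] [FiniteDimensional ℂ V]
  (ρ : Representation ℂ G V) (N : Subgroup G) [Fintype N]

/-- the functional `X ↦ tr (X ρ(a⁻¹))` -/
noncomputable def coef (a : G) : Module.End ℂ V →ₗ[ℂ] ℂ :=
  (LinearMap.trace ℂ V) ∘ₗ (LinearMap.mulRight ℂ (ρ a⁻¹))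

theorem coef_apply (a : G) (X : Module.End ℂ V) :
    coef ρ a X = LinearMap.trace ℂ V (X * ρ a⁻¹) := rfl

/-- the unnormalised projection onto the span of `ρ(N)` -/
noncomputable def preQ : Module.End ℂ V →ₗ[ℂ] Module.End ℂ V :=
  ∑ a : N, (coef ρ (a : G)).smulRight (ρ (a : G))

theorem preQ_apply (X : Module.End ℂ V) :
    preQ ρ N X = ∑ a : N, coef ρ (a : G) X • ρ (a : G) := by
  unfold preQ
  rw [LinearMap.sum_apply]
  rfl

/-- the central element `Σ χ(a⁻¹) ρ(a)` -/
noncomputable def Om : Module.End ℂ V :=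
  ∑ a : N, ρ.character ((a : G)⁻¹) • ρ (a : G)

theorem preQ_rho (b : N) : preQ ρ N (ρ (b : G)) = Om ρ N * ρ (b : G) := by
  rw [preQ_apply, Om, Finset.sum_mul]
  rw [← Equiv.sum_comp (Equiv.mulRight b)]
  apply Finset.sum_congr rfl
  intro a _
  simp only [Equiv.coe_mulRight, Subgroup.coe_mul, map_mul, smul_mul_assoc]
  congr 1
  rw [coef_apply, ← map_mul, mul_inv_rev, ← mul_assoc, mul_inv_cancel, one_mul]
  rfl

variable [hN : N.Normal]

theorem Om_comm (g : G) : Om ρ N ∘ₗ ρ g = ρ g ∘ₗ Om ρ N := by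
  change Om ρ N * ρ g = ρ g * Om ρ N
  rw [Om, Finset.sum_mul, Finset.mul_sum]
  rw [← Equiv.sum_comp (MulAut.conjNormal g : N ≃* N).toEquiv]
  apply Finset.sum_congr rfl
  intro a _
  simp only [MulEquiv.toEquiv_eq_coe, EquivLike.coe_coe, MulAut.conjNormal_apply,
    smul_mul_assoc, mul_smul_comm]
  congr 1
  · have : (g * (a : G) * g⁻¹)⁻¹ = g * (a : G)⁻¹ * g⁻¹ := by group
    rw [this, Representation.char_conj]
  · rw [← map_mul, ← map_mul]
    congr 1
    group

/-- the scalar by which `Om` acts -/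
noncomputable def om : ℂ :=
  (∑ a : N, ρ.character ((a : G)⁻¹) * ρ.character (a : G)) / (finrank ℂ V : ℂ)

theorem Om_eq [ρ.IsIrreducible] : Om ρ N = om ρ N • LinearMap.id := by
  have h := eq_trace_div_smul_id_of_comm ρ (Om ρ N) (Om_comm ρ N)
  have htr : LinearMap.trace ℂ V (Om ρ N) =
      ∑ a : N, ρ.character ((a : G)⁻¹) * ρ.character (a : G) := by
    rw [Om, map_sum]
    apply Finset.sum_congr rfl
    intro a _
    rw [map_smul, smul_eq_mul]
    rfl
  rw [htr] at h
  exact h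

theorem om_ne_zero [Finite G] [ρ.IsIrreducible] : om ρ N ≠ 0 := by
  have hpos : (finrank ℂ V : ℂ) ≠ 0 := by
    exact_mod_cast (finrank_pos_of_isIrreducible ρ).ne'
  unfold om
  apply div_ne_zero _ hpos
  have h1 : ∀ a : N, ρ.character ((a : G)⁻¹) * ρ.character (a : G) =
      ((Complex.normSq (ρ.character (a : G)) : ℝ) : ℂ) := by
    intro a
    rw [character_inv, mul_comm, Complex.mul_conj]
  rw [Finset.sum_congr rfl (fun a _ => h1 a), ← Complex.ofReal_sum]
  norm_cast
  apply ne_of_gt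
  calc (0 : ℝ) < Complex.normSq (ρ.character ((1 : N) : G)) := by
        rw [Complex.normSq_pos, Subgroup.coe_one, Representation.char_one]
        exact hpos
    _ ≤ ∑ a : N, Complex.normSq (ρ.character (a : G)) :=
        Finset.single_le_sum (f := fun a : N => Complex.normSq (ρ.character (a : G)))
          (fun a _ => Complex.normSq_nonneg _) (Finset.mem_univ _)

/-- the projection onto the span of `ρ(N)` -/
noncomputable def Q : Module.End ℂ V →ₗ[ℂ] Module.End ℂ V := (om ρ N)⁻¹ • preQ ρ N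

theorem Q_rho [Finite G] [ρ.IsIrreducible] (b : N) : Q ρ N (ρ (b : G)) = ρ (b : G) := by
  rw [Q, LinearMap.smul_apply, preQ_rho, Om_eq, smul_mul_assoc, smul_smul,
    inv_mul_cancel₀ (om_ne_zero ρ N), one_smul]
  rfl

theorem Q_apply (X : Module.End ℂ V) :
    Q ρ N X = (om ρ N)⁻¹ • ∑ a : N, coef ρ (a : G) X • ρ (a : G) := by
  rw [Q, LinearMap.smul_apply, preQ_apply]

theorem Q_idem [Finite G] [ρ.IsIrreducible] (X : Module.End ℂ V) :
    Q ρ N (Q ρ N X) = Q ρ N X := by
  have h : Q ρ N ((om ρ N)⁻¹ • ∑ a : N, coef ρ (a : G) X • ρ (a : G)) =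
      (om ρ N)⁻¹ • ∑ a : N, coef ρ (a : G) X • ρ (a : G) := by
    rw [map_smul, map_sum]
    congr 1
    apply Finset.sum_congr rfl
    intro a _
    rw [map_smul, Q_rho]
  rw [Q_apply ρ N X]
  exact h

theorem cg_apply (g : G) (X : Module.End ℂ V) :
    Representation.linHom ρ ρ g X = ρ g * X * ρ g⁻¹ := rfl

omit [Fintype N] hN in
theorem rho_inv_mul (g : G) : ρ g⁻¹ * ρ g = 1 := by rw [← map_mul, inv_mul_cancel, map_one]

omit [Fintype N] hN in
theorem rho_mul_inv (g : G) : ρ g * ρ g⁻¹ = 1 := by rw [← map_mul, mul_inv_cancel, map_one]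

omit [Fintype N] hN in
theorem coef_conj (g a : G) (X : Module.End ℂ V) :
    coef ρ (g * a * g⁻¹) (ρ g * X * ρ g⁻¹) = coef ρ a X := by
  rw [coef_apply, coef_apply]
  have h0 : (g * a * g⁻¹)⁻¹ = g * a⁻¹ * g⁻¹ := by group
  rw [h0, map_mul ρ, map_mul ρ]
  have h : ρ g * X * ρ g⁻¹ * (ρ g * ρ a⁻¹ * ρ g⁻¹) = ρ g * (X * ρ a⁻¹ * ρ g⁻¹) := by
    simp only [mul_assoc]
    rw [← mul_assoc (ρ g⁻¹) (ρ g), rho_inv_mul, one_mul]
  rw [h, LinearMap.trace_mul_comm, mul_assoc, rho_inv_mul, mul_one]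

theorem Q_comm (g : G) (X : Module.End ℂ V) :
    Representation.linHom ρ ρ g (Q ρ N X) = Q ρ N (Representation.linHom ρ ρ g X) := by
  rw [cg_apply, cg_apply, Q_apply, Q_apply, mul_smul_comm, smul_mul_assoc]
  congr 1
  rw [Finset.mul_sum, Finset.sum_mul]
  rw [← Equiv.sum_comp (MulAut.conjNormal g : N ≃* N).toEquiv
    (fun a : N => coef ρ (a : G) (ρ g * X * ρ g⁻¹) • ρ (a : G))]
  apply Finset.sum_congr rfl
  intro a _
  simp only [MulEquiv.toEquiv_eq_coe, EquivLike.coe_coe, MulAut.conjNormal_apply]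
  rw [coef_conj, mul_smul_comm, smul_mul_assoc, map_mul ρ, map_mul ρ]

theorem trace_cg_Q (g : G) :
    LinearMap.trace ℂ (Module.End ℂ V) (Representation.linHom ρ ρ g ∘ₗ Q ρ N) =
      (om ρ N)⁻¹ * ∑ a : N, ρ.character (g * (a : G) * g⁻¹ * (a : G)⁻¹) := by
  have h : Representation.linHom ρ ρ g ∘ₗ Q ρ N =
      (om ρ N)⁻¹ • ∑ a : N, (coef ρ (a : G)).smulRight (ρ g * ρ (a : G) * ρ g⁻¹) := by
    ext X : 1
    rw [LinearMap.comp_apply, Q_apply, map_smul, map_sum, LinearMap.smul_apply,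
      LinearMap.sum_apply]
    congr 1
    apply Finset.sum_congr rfl
    intro a _
    rw [map_smul, cg_apply]
    rfl
  rw [h, map_smul, map_sum, smul_eq_mul]
  congr 1
  apply Finset.sum_congr rfl
  intro a _
  rw [LinearMap.trace_smulRight, coef_apply]
  change LinearMap.trace ℂ V _ = LinearMap.trace ℂ V _
  rw [map_mul ρ, map_mul ρ, map_mul ρ]

theorem trace_Q [Finite G] [ρ.IsIrreducible] (X : Module.End ℂ V) :
    LinearMap.trace ℂ V (Q ρ N X) = LinearMap.trace ℂ V X := by
  have hOm : ∑ a : N, ρ.character (a : G) • ρ ((a : G)⁻¹) = Om ρ N := by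
    rw [Om, ← Equiv.sum_comp (Equiv.inv N)]
    apply Finset.sum_congr rfl
    intro a _
    simp
  rw [Q_apply, map_smul, map_sum]
  have h1 : ∀ a : N, LinearMap.trace ℂ V (coef ρ (a : G) X • ρ (a : G)) =
      LinearMap.trace ℂ V (X * (ρ.character (a : G) • ρ ((a : G)⁻¹))) := by
    intro a
    rw [map_smul, coef_apply, mul_smul_comm, map_smul, smul_eq_mul, smul_eq_mul, mul_comm]
    rfl
  rw [Finset.sum_congr rfl (fun a _ => h1 a), ← map_sum, ← Finset.mul_sum, hOm, Om_eq,
    mul_smul_comm, map_smul, smul_smul, inv_mul_cancel₀ (om_ne_zero ρ N), one_smul]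
  rfl

omit [Fintype N] hN in
theorem trace_cg (g : G) (X : Module.End ℂ V) :
    LinearMap.trace ℂ V (Representation.linHom ρ ρ g X) = LinearMap.trace ℂ V X := by
  rw [cg_apply, LinearMap.trace_mul_comm, ← mul_assoc, rho_inv_mul, one_mul]

/-- the projection onto the scalars -/
noncomputable def Q0 : Module.End ℂ V →ₗ[ℂ] Module.End ℂ V :=
  ((finrank ℂ V : ℂ))⁻¹ • (LinearMap.trace ℂ V).smulRight (1 : Module.End ℂ V)

omit [Fintype N] hN in
theorem Q0_apply (X : Module.End ℂ V) :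
    Q0 (V := V) X = (((finrank ℂ V : ℂ))⁻¹ * LinearMap.trace ℂ V X) • (1 : Module.End ℂ V) := by
  rw [Q0, LinearMap.smul_apply, LinearMap.smulRight_apply, smul_smul]

theorem Q_Q0 [Finite G] [ρ.IsIrreducible] (X : Module.End ℂ V) :
    Q ρ N (Q0 X) = Q0 X := by
  rw [Q0_apply, map_smul]
  congr 1
  have := Q_rho ρ N (1 : N)
  rwa [Subgroup.coe_one, map_one] at this

theorem Q0_Q [Finite G] [ρ.IsIrreducible] (X : Module.End ℂ V) :
    Q0 (Q ρ N X) = Q0 X := by
  rw [Q0_apply, Q0_apply, trace_Q]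

omit [Fintype N] hN in
theorem Q0_Q0 [ρ.IsIrreducible] (X : Module.End ℂ V) :
    Q0 (Q0 X) = Q0 X := by
  have hpos : (finrank ℂ V : ℂ) ≠ 0 := by
    exact_mod_cast (finrank_pos_of_isIrreducible ρ).ne'
  rw [Q0_apply (Q0 X), Q0_apply, map_smul, smul_eq_mul]
  congr 1
  rw [show LinearMap.trace ℂ V (1 : Module.End ℂ V) = (finrank ℂ V : ℂ) from LinearMap.trace_one ℂ V]
  field_simp

omit [Fintype N] hN in
theorem cg_Q0 (g : G) (X : Module.End ℂ V) :
    Representation.linHom ρ ρ g (Q0 X) = Q0 X := by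
  rw [Q0_apply, map_smul, cg_apply, mul_one, rho_mul_inv]

omit [Fintype N] hN in
theorem Q0_cg (g : G) (X : Module.End ℂ V) :
    Q0 (Representation.linHom ρ ρ g X) = Q0 X := by
  rw [Q0_apply, Q0_apply, trace_cg]

omit [Fintype N] hN in
theorem trace_cg_Q0 [ρ.IsIrreducible] (g : G) :
    LinearMap.trace ℂ (Module.End ℂ V) (Representation.linHom ρ ρ g ∘ₗ Q0) = 1 := by
  have hpos : (finrank ℂ V : ℂ) ≠ 0 := by
    exact_mod_cast (finrank_pos_of_isIrreducible ρ).ne'
  have h : Representation.linHom ρ ρ g ∘ₗ Q0 = (Q0 : Module.End ℂ V →ₗ[ℂ] Module.End ℂ V) := by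
    ext X : 1
    rw [LinearMap.comp_apply, cg_Q0]
  rw [h, Q0, map_smul, LinearMap.trace_smulRight, smul_eq_mul,
    show LinearMap.trace ℂ V (1 : Module.End ℂ V) = (finrank ℂ V : ℂ) from LinearMap.trace_one ℂ V,
    inv_mul_cancel₀ hpos]

/-- **Main theorem**: for a normal subgroup `N` and an irreducible representation `ρ` with
character `χ`, the class function `π(g) = ω⁻¹ Σ_{a ∈ N} χ([g,a])` satisfies: `π - 1` and
`χ \bar χ - π` are characters. -/
theorem isCharacter_sub [Finite G] [ρ.IsIrreducible] :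
    IsCharacter G (fun g => (om ρ N)⁻¹ *
        ∑ a : N, ρ.character (g * (a : G) * g⁻¹ * (a : G)⁻¹) - 1) ∧
    IsCharacter G (fun g => ρ.character g⁻¹ * ρ.character g - (om ρ N)⁻¹ *
        ∑ a : N, ρ.character (g * (a : G) * g⁻¹ * (a : G)⁻¹)) := by
  constructor
  · have h := isCharacter_trace_comp_of_idem (Representation.linHom ρ ρ) (Q ρ N - Q0)
      (by
        intro X
        simp only [LinearMap.sub_apply, map_sub, Q_idem, Q_Q0, Q0_Q, Q0_Q0 ρ]
        abel)
      (by
        intro g X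
        simp only [LinearMap.sub_apply, map_sub, Q_comm, cg_Q0, Q0_cg])
    have h2 : (fun g => LinearMap.trace ℂ (Module.End ℂ V)
        (Representation.linHom ρ ρ g ∘ₗ (Q ρ N - Q0))) = fun g => (om ρ N)⁻¹ *
        ∑ a : N, ρ.character (g * (a : G) * g⁻¹ * (a : G)⁻¹) - 1 := by
      funext g
      rw [LinearMap.comp_sub, map_sub, trace_cg_Q, trace_cg_Q0 ρ]
    rw [← h2]
    exact h
  · have h := isCharacter_trace_comp_of_idem (Representation.linHom ρ ρ) (LinearMap.id - Q ρ N)
      (by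
        intro X
        simp only [LinearMap.sub_apply, map_sub, Q_idem, LinearMap.id_apply]
        abel)
      (by
        intro g X
        simp only [LinearMap.sub_apply, map_sub, Q_comm, LinearMap.id_apply])
    have h2 : (fun g => LinearMap.trace ℂ (Module.End ℂ V)
        (Representation.linHom ρ ρ g ∘ₗ (LinearMap.id - Q ρ N))) =
        fun g => ρ.character g⁻¹ * ρ.character g - (om ρ N)⁻¹ *
        ∑ a : N, ρ.character (g * (a : G) * g⁻¹ * (a : G)⁻¹) := by
      funext g
      rw [LinearMap.comp_sub, map_sub, trace_cg_Q, LinearMap.comp_id]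
      congr 1
      exact Representation.char_linHom ρ ρ g
    rw [← h2]
    exact h

end main

end Cfsg.Agent.Lib.Helper3.EndSub
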