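import Mathlib
import Cfsg.Agent.Lib.Helper1.SPWDefs2
import Cfsg.Agent.Lib.Helper3.SPWA1
import Cfsg.Agent.Lib.Helper3.EndSub1

set_option autoImplicit false
set_option linter.unusedSectionVars false
set_option linter.unusedVariables false

/-!
Farm SPW (statement S2524), Part III, unit A5c: `chiA` is a character of `G'`.
-/

namespace Cfsg.Agent.Lib.Helper3.SPW

open Matrix Cfsg Cfsg.Agent.Lib.Helper6.Wl Cfsg.Agent.Lib.Helper4 Cfsg.Agent.Lib.Helper1.SPW
open Module

section abstract
variable {F : Type*} [Field F] [Fintype F] [DecidableEq F] {m : ℕ}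
variable {G : Type*} [Group G] [Fintype G]
variable [Fintype (symplecticGroup (Fin m) F)]
variable (D : Datum F m G)
variable {V : Type*} [AddCommGroup V] [Module ℂ V] [FiniteDimensional ℂ V]
variable {Ω : Type*} [AddCommGroup Ω] [Module ℂ Ω] [FiniteDimensional ℂ Ω]
variable (ρ : Representation ℂ G V) (ρΩ : Representation ℂ G Ω) (ψ : AddChar F ℂ)

theorem isCharacter_chiA (a : F) :
    IsCharacter (symplecticGroup (Fin m) F) (chiA D ρ ψ a) := by
  have h := Cfsg.Agent.Lib.Helper3.EndSub.isCharacter_trace_comp_of_idem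
    (MonoidHom.comp ρ D.iG : Representation ℂ (symplecticGroup (Fin m) F) V) (eZ D ρ ψ a)
    (fun x => by
      have := eZ_idem D ρ ψ a
      exact LinearMap.congr_fun this x)
    (fun g x => by
      have := eZ_comm_iG D ρ ψ g a
      exact LinearMap.congr_fun this x)
  exact h

end abstract

end Cfsg.Agent.Lib.Helper3.SPW
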