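import Mathlib
import Cfsg.Agent.Lib.Helper1.SPWDefs2
import Cfsg.Agent.Lib.Helper5.SympPrimitive
import Cfsg.Agent.Lib.Helper6.CharBasic
import Cfsg.Agent.Lib.Helper3.SPWA1
import Cfsg.Agent.Lib.Helper3.SPWA2
import Cfsg.Agent.Lib.Helper3.SPWA3
import Cfsg.Agent.Lib.Helper3.SPWA5core
import Cfsg.Agent.Lib.Helper3.SPWA5c

set_option autoImplicit false
set_option linter.unusedSectionVars false
set_option linter.unusedVariables false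

/-!
Farm SPW (statement S2524), Part III, unit A7n: the character of `G'` on `Ω_a` has norm two when
`dim Ω_a = q^m`.

`χ(g) χ(g⁻¹) = #{w : g w = w}` (Schur for the Heisenberg group on `Ω_a`, A2, A3), and `G'` has two
orbits on `F^{2m}`.
-/

namespace Cfsg.Agent.Lib.Helper3.SPW

open Matrix Cfsg Cfsg.Agent.Lib.Helper6.Wl Cfsg.Agent.Lib.Helper4 Cfsg.Agent.Lib.Helper1.SPW
open Module

section count
variable {F : Type*} [Field F] [Fintype F] [DecidableEq F] {m : ℕ}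

theorem sp_transitive (x y : Fin m ⊕ Fin m → F) (hx : x ≠ 0) (hy : y ≠ 0) :
    ∃ g : symplecticGroup (Fin m) F,
      (g : Matrix (Fin m ⊕ Fin m) (Fin m ⊕ Fin m) F) *ᵥ x = y := by
  obtain ⟨w, h1, h2⟩ := Cfsg.Agent.Lib.Helper5.SympPrimitive.exists_cross m x y hx hy
  obtain ⟨A, -, hA, -⟩ := Cfsg.Agent.Lib.Helper5.SympTv.single_step m x w h1
  have h3 : sympForm m F w y ≠ 0 := by
    rw [Cfsg.Agent.Lib.Helper5.SympTv.sympForm_swap]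
    exact neg_ne_zero.2 h2
  obtain ⟨B, -, hB, -⟩ := Cfsg.Agent.Lib.Helper5.SympTv.single_step m w y h3
  refine ⟨B * A, ?_⟩
  show ((B : Matrix (Fin m ⊕ Fin m) (Fin m ⊕ Fin m) F) *
    (A : Matrix (Fin m ⊕ Fin m) (Fin m ⊕ Fin m) F)) *ᵥ x = y
  rw [← Matrix.mulVec_mulVec, hA, hB]

theorem sp_mulVec_ne_zero (g : symplecticGroup (Fin m) F) (w : Fin m ⊕ Fin m → F) (hw : w ≠ 0) :
    (g : Matrix (Fin m ⊕ Fin m) (Fin m ⊕ Fin m) F) *ᵥ w ≠ 0 := by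
  intro h
  apply hw
  have h1 : ((g⁻¹ * g : symplecticGroup (Fin m) F) : Matrix (Fin m ⊕ Fin m) (Fin m ⊕ Fin m) F) *ᵥ w
      = 0 := by
    show (((g⁻¹ : symplecticGroup (Fin m) F) : Matrix (Fin m ⊕ Fin m) (Fin m ⊕ Fin m) F) *
      (g : Matrix (Fin m ⊕ Fin m) (Fin m ⊕ Fin m) F)) *ᵥ w = 0
    rw [← Matrix.mulVec_mulVec, h, Matrix.mulVec_zero]
  rw [inv_mul_cancel] at h1
  simpa using h1

/-- Burnside count: `Sp_{2m}` has two orbits on `F^{2m}`, `m > 0` -/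
theorem sum_fix_count [Fintype (symplecticGroup (Fin m) F)] (hm : 0 < m) :
    ∑ g : symplecticGroup (Fin m) F, ∑ w : Fin m ⊕ Fin m → F,
      (if (g : Matrix (Fin m ⊕ Fin m) (Fin m ⊕ Fin m) F) *ᵥ w = w then (1 : ℂ) else 0) =
      2 * (Fintype.card (symplecticGroup (Fin m) F) : ℂ) := by
  classical
  obtain ⟨w₀, hw₀⟩ : ∃ w : Fin m ⊕ Fin m → F, w ≠ 0 := by
    refine ⟨Pi.single (Sum.inl ⟨0, hm⟩) 1, ?_⟩
    intro h0
    have := congrFun h0 (Sum.inl ⟨0, hm⟩)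
    simp at this
  rw [Finset.sum_comm]
  have hstab : ∀ w : Fin m ⊕ Fin m → F, w ≠ 0 →
      ∑ g : symplecticGroup (Fin m) F,
        (if (g : Matrix (Fin m ⊕ Fin m) (Fin m ⊕ Fin m) F) *ᵥ w = w then (1 : ℂ) else 0) =
      ∑ g : symplecticGroup (Fin m) F,
        (if (g : Matrix (Fin m ⊕ Fin m) (Fin m ⊕ Fin m) F) *ᵥ w₀ = w then (1 : ℂ) else 0) := by
    intro w hw
    obtain ⟨h, hh⟩ := sp_transitive w₀ w hw₀ hw
    refine Fintype.sum_equiv (Equiv.mulRight h) _ _ ?_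
    intro g
    show _ = if ((g * h : symplecticGroup (Fin m) F) :
      Matrix (Fin m ⊕ Fin m) (Fin m ⊕ Fin m) F) *ᵥ w₀ = w then (1 : ℂ) else 0
    have e : ((g * h : symplecticGroup (Fin m) F) :
        Matrix (Fin m ⊕ Fin m) (Fin m ⊕ Fin m) F) *ᵥ w₀ =
        (g : Matrix (Fin m ⊕ Fin m) (Fin m ⊕ Fin m) F) *ᵥ w := by
      show ((g : Matrix (Fin m ⊕ Fin m) (Fin m ⊕ Fin m) F) *
        (h : Matrix (Fin m ⊕ Fin m) (Fin m ⊕ Fin m) F)) *ᵥ w₀ = _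
      rw [← Matrix.mulVec_mulVec, hh]
    rw [e]
  rw [← Finset.add_sum_erase _ _ (Finset.mem_univ (0 : Fin m ⊕ Fin m → F))]
  have h0 : ∑ g : symplecticGroup (Fin m) F,
      (if (g : Matrix (Fin m ⊕ Fin m) (Fin m ⊕ Fin m) F) *ᵥ (0 : Fin m ⊕ Fin m → F) = 0
        then (1 : ℂ) else 0) = (Fintype.card (symplecticGroup (Fin m) F) : ℂ) := by
    simp [Matrix.mulVec_zero]
  rw [h0, Finset.sum_congr rfl (fun w hw => hstab w (Finset.ne_of_mem_erase hw)), Finset.sum_comm]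
  have h1 : ∀ g : symplecticGroup (Fin m) F,
      ∑ w ∈ (Finset.univ : Finset (Fin m ⊕ Fin m → F)).erase 0,
        (if (g : Matrix (Fin m ⊕ Fin m) (Fin m ⊕ Fin m) F) *ᵥ w₀ = w then (1 : ℂ) else 0) = 1 := by
    intro g
    rw [Finset.sum_ite_eq, if_pos]
    exact Finset.mem_erase.2 ⟨sp_mulVec_ne_zero g w₀ hw₀, Finset.mem_univ _⟩
  rw [Finset.sum_congr rfl (fun g _ => h1 g)]
  simp
  ring

end count

section abstract
variable {F : Type*} [Field F] [Fintype F] [DecidableEq F] {m : ℕ}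
variable {G : Type*} [Group G] [Fintype G]
variable [Fintype (symplecticGroup (Fin m) F)]
variable (D : Datum F m G)
variable {V : Type*} [AddCommGroup V] [Module ℂ V] [FiniteDimensional ℂ V]
variable {Ω : Type*} [AddCommGroup Ω] [Module ℂ Ω] [FiniteDimensional ℂ Ω]
variable (ρ : Representation ℂ G V) (ρΩ : Representation ℂ G Ω) (ψ : AddChar F ℂ)

theorem comm_collapse {R : Type*} [Monoid R] (X e n Xi n' : R) (he : e * e = e)
    (hB : e * n = n * e) (hC : e * Xi = Xi * e) (hD : e * n' = n' * e) :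
    X * e * n * (Xi * e) * n' = X * n * Xi * n' * e := by
  calc X * e * n * (Xi * e) * n' = X * ((e * n) * Xi) * (e * n') := by simp only [mul_assoc]
    _ = X * ((n * e) * Xi) * (n' * e) := by rw [hB, hD]
    _ = X * n * (e * Xi) * n' * e := by simp only [mul_assoc]
    _ = X * n * (Xi * e) * n' * e := by rw [hC]
    _ = X * n * Xi * (e * n') * e := by simp only [mul_assoc]
    _ = X * n * Xi * (n' * e) * e := by rw [hD]
    _ = X * n * Xi * n' * (e * e) := by simp only [mul_assoc]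
    _ = X * n * Xi * n' * e := by rw [he]

theorem eZ_mem_hHom (a : F) : eZ D ρΩ ψ a ∈ hHom D ρΩ ρΩ ψ a :=
  ⟨fun x => (eZ_comm_iH D ρΩ ψ x a).symm, eZ_idem D ρΩ ψ a⟩

theorem finrank_hHom_self (hodd : Odd (Fintype.card F)) (hψ : ψ ≠ 1) {a : F} (ha : a ≠ 0)
    (hΩa : LinearMap.trace ℂ Ω (eZ D ρΩ ψ a) = (Fintype.card F : ℂ) ^ m) :
    finrank ℂ (hHom D ρΩ ρΩ ψ a) = 1 := by
  have hq : (Fintype.card F : ℂ) ≠ 0 := Nat.cast_ne_zero.2 Fintype.card_ne_zero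
  have h := finrank_hHom D ρΩ ρΩ ψ hodd hψ ha
  rw [hΩa, ← pow_add, ← two_mul] at h
  have h1 : (finrank ℂ (hHom D ρΩ ρΩ ψ a) : ℂ) = 1 := by
    have h2 : (finrank ℂ (hHom D ρΩ ρΩ ψ a) : ℂ) * (Fintype.card F : ℂ) ^ (2 * m) =
        1 * (Fintype.card F : ℂ) ^ (2 * m) := by rw [h, one_mul]
    exact mul_right_cancel₀ (pow_ne_zero _ hq) h2
  exact_mod_cast h1

theorem trace_avgH_self (a : F) (T : Module.End ℂ Ω) :
    LinearMap.trace ℂ Ω (avgH D ρΩ ρΩ ψ a T) = LinearMap.trace ℂ Ω (T * eZ D ρΩ ψ a) := by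
  have hN : (Fintype.card (Heis m F) : ℂ) ≠ 0 := Nat.cast_ne_zero.2 Fintype.card_ne_zero
  unfold avgH
  rw [avgP_apply, map_smul, map_sum]
  have hterm : ∀ x : Heis m F, LinearMap.trace ℂ Ω
      ((ρΩ (D.iH x) * eZ D ρΩ ψ a) ∘ₗ T ∘ₗ (ρΩ (D.iH x⁻¹) * eZ D ρΩ ψ a)) =
      LinearMap.trace ℂ Ω (T * eZ D ρΩ ψ a) := by
    intro x
    have e1 : (ρΩ (D.iH x) * eZ D ρΩ ψ a) ∘ₗ T ∘ₗ (ρΩ (D.iH x⁻¹) * eZ D ρΩ ψ a) =
        (ρΩ (D.iH x) * eZ D ρΩ ψ a) * (T * (ρΩ (D.iH x⁻¹) * eZ D ρΩ ψ a)) := rfl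
    rw [e1, LinearMap.trace_mul_comm, mul_assoc]
    congr 2
    rw [mul_assoc, ← mul_assoc (eZ D ρΩ ψ a), ← eZ_comm_iH, mul_assoc, eZ_idem, ← mul_assoc,
      ← map_mul, ← map_mul, inv_mul_cancel, map_one, map_one, one_mul]
  rw [Finset.sum_congr rfl (fun x _ => hterm x), Finset.sum_const, Finset.card_univ,
    nsmul_eq_mul, smul_eq_mul, ← mul_assoc, inv_mul_cancel₀ hN, one_mul]

/-- Schur's lemma for the Heisenberg group on `Ω_a` -/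
theorem schur_avgH (hodd : Odd (Fintype.card F)) (hψ : ψ ≠ 1) {a : F} (ha : a ≠ 0)
    (hΩa : LinearMap.trace ℂ Ω (eZ D ρΩ ψ a) = (Fintype.card F : ℂ) ^ m)
    (T : Module.End ℂ Ω) :
    avgH D ρΩ ρΩ ψ a T =
      (((Fintype.card F : ℂ) ^ m)⁻¹ * LinearMap.trace ℂ Ω (T * eZ D ρΩ ψ a)) • eZ D ρΩ ψ a := by
  have hq : (Fintype.card F : ℂ) ^ m ≠ 0 :=
    pow_ne_zero _ (Nat.cast_ne_zero.2 Fintype.card_ne_zero)
  have he0 : (⟨eZ D ρΩ ψ a, eZ_mem_hHom D ρΩ ψ a⟩ : hHom D ρΩ ρΩ ψ a) ≠ 0 := by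
    intro h0
    have h1 : eZ D ρΩ ψ a = 0 := congrArg Subtype.val h0
    rw [h1, map_zero] at hΩa
    exact hq hΩa.symm
  have h1 := (finrank_eq_one_iff_of_nonzero' _ he0).1 (finrank_hHom_self D ρΩ ψ hodd hψ ha hΩa)
  obtain ⟨c, hc⟩ := h1 ⟨avgH D ρΩ ρΩ ψ a T, avgH_mem D ρΩ ρΩ ψ a T⟩
  have hc' : c • eZ D ρΩ ψ a = avgH D ρΩ ρΩ ψ a T := congrArg Subtype.val hc
  have h2 := congrArg (LinearMap.trace ℂ Ω) hc'
  rw [map_smul, smul_eq_mul, hΩa, trace_avgH_self] at h2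
  rw [← hc']
  congr 1
  rw [← h2]
  field_simp

theorem comm_elt (g : symplecticGroup (Fin m) F) (x : Heis m F) :
    D.iH x * D.iG g * D.iH x⁻¹ * D.iG g⁻¹ =
      D.iH (x * ⟨(g : Matrix (Fin m ⊕ Fin m) (Fin m ⊕ Fin m) F) *ᵥ (x⁻¹).w, (x⁻¹).s⟩) := by
  rw [map_mul, ← D.conjG g x⁻¹, map_inv D.iG g]
  simp only [mul_assoc]

theorem trace_comm_elt (hodd : Odd (Fintype.card F)) (hψ : ψ ≠ 1) {a : F} (ha : a ≠ 0)
    (hΩa : LinearMap.trace ℂ Ω (eZ D ρΩ ψ a) = (Fintype.card F : ℂ) ^ m)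
    (g : symplecticGroup (Fin m) F) (x : Heis m F) :
    LinearMap.trace ℂ Ω (ρΩ (D.iH (x * ⟨(g : Matrix (Fin m ⊕ Fin m) (Fin m ⊕ Fin m) F) *ᵥ
      (x⁻¹).w, (x⁻¹).s⟩)) * eZ D ρΩ ψ a) =
      if (g : Matrix (Fin m ⊕ Fin m) (Fin m ⊕ Fin m) F) *ᵥ x.w = x.w
        then (Fintype.card F : ℂ) ^ m else 0 := by
  split_ifs with h
  · have e : (x * ⟨(g : Matrix (Fin m ⊕ Fin m) (Fin m ⊕ Fin m) F) *ᵥ (x⁻¹).w, (x⁻¹).s⟩ :
        Heis m F) = 1 := by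
      ext
      · simp only [Heis.mul_w, Heis.inv_w, Matrix.mulVec_neg, h, Heis.one_w]
        simp
      · simp only [Heis.mul_s, Heis.mul_w, Heis.inv_w, Heis.inv_s, Matrix.mulVec_neg, h,
          hcoef_neg_right, Heis.hcoef_self, Heis.one_s]
        ring
    rw [e, map_one, map_one, one_mul, hΩa]
  · apply trace_iH_mul_eZ D ρΩ ψ hodd hψ ha
    show x.w + (g : Matrix (Fin m ⊕ Fin m) (Fin m ⊕ Fin m) F) *ᵥ (x⁻¹).w ≠ 0
    rw [Heis.inv_w, Matrix.mulVec_neg]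
    intro h0
    apply h
    have := eq_neg_of_add_eq_zero_left h0
    rw [neg_neg] at this
    exact this.symm

/-- `χ(g) χ(g⁻¹)` is the number of fixed points of `g` on `F^{2m}` -/
theorem chiA_mul_inv (hodd : Odd (Fintype.card F)) (hψ : ψ ≠ 1) {a : F} (ha : a ≠ 0)
    (hΩa : LinearMap.trace ℂ Ω (eZ D ρΩ ψ a) = (Fintype.card F : ℂ) ^ m)
    (g : symplecticGroup (Fin m) F) :
    chiA D ρΩ ψ a g * chiA D ρΩ ψ a g⁻¹ =
      ∑ w : Fin m ⊕ Fin m → F,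
        (if (g : Matrix (Fin m ⊕ Fin m) (Fin m ⊕ Fin m) F) *ᵥ w = w then (1 : ℂ) else 0) := by
  have hq : (Fintype.card F : ℂ) ≠ 0 := Nat.cast_ne_zero.2 Fintype.card_ne_zero
  have hqm : (Fintype.card F : ℂ) ^ m ≠ 0 := pow_ne_zero _ hq
  have hN : (Fintype.card (Heis m F) : ℂ) ≠ 0 := Nat.cast_ne_zero.2 Fintype.card_ne_zero
  have h1 := schur_avgH D ρΩ ψ hodd hψ ha hΩa (ρΩ (D.iG g))
  have h2 := congrArg (fun X => LinearMap.trace ℂ Ω (X * ρΩ (D.iG g⁻¹))) h1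
  rw [smul_mul_assoc, map_smul, smul_eq_mul] at h2
  have h3 : LinearMap.trace ℂ Ω (eZ D ρΩ ψ a * ρΩ (D.iG g⁻¹)) = chiA D ρΩ ψ a g⁻¹ := by
    unfold chiA
    rw [LinearMap.trace_mul_comm]
  have h4 : LinearMap.trace ℂ Ω (ρΩ (D.iG g) * eZ D ρΩ ψ a) = chiA D ρΩ ψ a g := rfl
  rw [h3, h4] at h2
  -- the left hand side
  have h5 : LinearMap.trace ℂ Ω (avgH D ρΩ ρΩ ψ a (ρΩ (D.iG g)) * ρΩ (D.iG g⁻¹)) =
      ((Fintype.card (Heis m F) : ℂ))⁻¹ * ((Fintype.card F : ℂ) *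
        ∑ w : Fin m ⊕ Fin m → F,
          (if (g : Matrix (Fin m ⊕ Fin m) (Fin m ⊕ Fin m) F) *ᵥ w = w
            then (Fintype.card F : ℂ) ^ m else 0)) := by
    unfold avgH
    rw [avgP_apply, smul_mul_assoc, map_smul, smul_eq_mul, Finset.sum_mul, map_sum]
    congr 1
    have hterm : ∀ x : Heis m F, LinearMap.trace ℂ Ω
        (((ρΩ (D.iH x) * eZ D ρΩ ψ a) ∘ₗ ρΩ (D.iG g) ∘ₗ (ρΩ (D.iH x⁻¹) * eZ D ρΩ ψ a)) *
          ρΩ (D.iG g⁻¹)) =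
        if (g : Matrix (Fin m ⊕ Fin m) (Fin m ⊕ Fin m) F) *ᵥ x.w = x.w
          then (Fintype.card F : ℂ) ^ m else 0 := by
      intro x
      have e1 : ((ρΩ (D.iH x) * eZ D ρΩ ψ a) ∘ₗ ρΩ (D.iG g) ∘ₗ (ρΩ (D.iH x⁻¹) * eZ D ρΩ ψ a)) *
          ρΩ (D.iG g⁻¹) =
          ρΩ (D.iH x) * eZ D ρΩ ψ a * ρΩ (D.iG g) * (ρΩ (D.iH x⁻¹) * eZ D ρΩ ψ a) *
            ρΩ (D.iG g⁻¹) := by
        simp only [mul_assoc]
        rfl
      rw [e1, comm_collapse _ _ _ _ _ (eZ_idem D ρΩ ψ a) (eZ_comm_iG D ρΩ ψ g a).symm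
        (eZ_comm_iH D ρΩ ψ x⁻¹ a).symm (eZ_comm_iG D ρΩ ψ g⁻¹ a).symm,
        ← map_mul, ← map_mul, ← map_mul, comm_elt, trace_comm_elt D ρΩ ψ hodd hψ ha hΩa]
    rw [Finset.sum_congr rfl (fun x _ => hterm x),
      ← Equiv.sum_comp (heisEquiv (F := F) (m := m)), Fintype.sum_prod_type, Finset.mul_sum]
    apply Finset.sum_congr rfl
    intro w _
    show ∑ s : F, (if (g : Matrix (Fin m ⊕ Fin m) (Fin m ⊕ Fin m) F) *ᵥ w = w
      then (Fintype.card F : ℂ) ^ m else 0) = _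
    rw [Finset.sum_const, Finset.card_univ, nsmul_eq_mul]
  rw [h5, card_heis] at h2
  have h6 : ∑ w : Fin m ⊕ Fin m → F,
      (if (g : Matrix (Fin m ⊕ Fin m) (Fin m ⊕ Fin m) F) *ᵥ w = w
        then (Fintype.card F : ℂ) ^ m else 0) =
      (Fintype.card F : ℂ) ^ m * ∑ w : Fin m ⊕ Fin m → F,
        (if (g : Matrix (Fin m ⊕ Fin m) (Fin m ⊕ Fin m) F) *ᵥ w = w then (1 : ℂ) else 0) := by
    rw [Finset.mul_sum]
    apply Finset.sum_congr rfl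
    intro w _
    split_ifs <;> simp
  rw [h6] at h2
  push_cast at h2
  have hpow : (Fintype.card F : ℂ) ^ (2 * m) = (Fintype.card F : ℂ) ^ m * (Fintype.card F : ℂ) ^ m := by
    rw [two_mul, pow_add]
  rw [hpow] at h2
  field_simp at h2
  linear_combination -h2

/-- `End(Ω_a)` has the basis `ρΩ (iH (vec w)) e_a` (A2: orthogonal for the trace form), permuted
by `G'` with the two orbits `{0}` and `w ≠ 0` -/
theorem chiA_norm (hm : 0 < m) (hodd : Odd (Fintype.card F)) (hψ : ψ ≠ 1) {a : F} (ha : a ≠ 0)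
    (hΩa : LinearMap.trace ℂ Ω (eZ D ρΩ ψ a) = (Fintype.card F : ℂ) ^ m) :
    classInner (chiA D ρΩ ψ a) (chiA D ρΩ ψ a) = 2 := by
  have hG : (Fintype.card (symplecticGroup (Fin m) F) : ℂ) ≠ 0 :=
    Nat.cast_ne_zero.2 Fintype.card_ne_zero
  obtain ⟨n, ρ', hρ'⟩ := isCharacter_chiA D ρΩ ψ a
  have hconj : ∀ g : symplecticGroup (Fin m) F,
      (starRingEnd ℂ) (chiA D ρΩ ψ a g) = chiA D ρΩ ψ a g⁻¹ := by
    intro g
    rw [← hρ']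
    exact (Cfsg.Agent.Lib.Helper6.character_inv ρ' g).symm
  unfold classInner
  rw [Finset.sum_congr rfl (fun g _ => by rw [hconj g, chiA_mul_inv D ρΩ ψ hodd hψ ha hΩa g]),
    sum_fix_count hm, Nat.card_eq_fintype_card]
  field_simp

end abstract

end Cfsg.Agent.Lib.Helper3.SPW
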