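import Mathlib
import Cfsg.Agent.Lib.Helper1.SPWDefs2
import Cfsg.Agent.Lib.Helper3.SPWA1
import Cfsg.Agent.Lib.Helper3.SPWA2

set_option autoImplicit false
set_option linter.unusedSectionVars false
set_option linter.unusedVariables false

/-!
Farm SPW (statement S2524), Part III, unit A7s: `negSp` is not a scalar on `Ω_a`.
-/

namespace Cfsg.Agent.Lib.Helper3.SPW

open Matrix Cfsg Cfsg.Agent.Lib.Helper6.Wl Cfsg.Agent.Lib.Helper4 Cfsg.Agent.Lib.Helper1.SPW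
open Module

section abstract
variable {F : Type*} [Field F] [Fintype F] [DecidableEq F] {m : ℕ}
variable {G : Type*} [Group G] [Fintype G]
variable [Fintype (symplecticGroup (Fin m) F)]
variable (D : Datum F m G)
variable {V : Type*} [AddCommGroup V] [Module ℂ V] [FiniteDimensional ℂ V]
variable {Ω : Type*} [AddCommGroup Ω] [Module ℂ Ω] [FiniteDimensional ℂ Ω]
variable (ρ : Representation ℂ G V) (ρΩ : Representation ℂ G Ω) (ψ : AddChar F ℂ)

theorem negSp_conj (x : Heis m F) :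
    D.iG negSp * D.iH x = D.iH ⟨-x.w, x.s⟩ * D.iG negSp := by
  have h := D.conjG negSp x
  have e : ((negSp : symplecticGroup (Fin m) F) : Matrix (Fin m ⊕ Fin m) (Fin m ⊕ Fin m) F) *ᵥ x.w
      = -x.w := by
    show ((-1 : Matrix (Fin m ⊕ Fin m) (Fin m ⊕ Fin m) F)) *ᵥ x.w = -x.w
    rw [Matrix.neg_mulVec, Matrix.one_mulVec]
  rw [e] at h
  calc D.iG negSp * D.iH x = (D.iG negSp * D.iH x * (D.iG negSp)⁻¹) * D.iG negSp := by group
    _ = D.iH ⟨-x.w, x.s⟩ * D.iG negSp := by rw [h]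

/-- `negSp` maps `vec w` to `vec (-w)`; a scalar would give `ρΩ (vec (2w)) e_a` scalar, against A2 -/
theorem negSp_not_scalar (hm : 0 < m) (hodd : Odd (Fintype.card F)) (hψ : ψ ≠ 1) {a : F}
    (ha : a ≠ 0)
    (hΩa : LinearMap.trace ℂ Ω (eZ D ρΩ ψ a) = (Fintype.card F : ℂ) ^ m) (c : ℂ) :
    ρΩ (D.iG negSp) * eZ D ρΩ ψ a ≠ c • eZ D ρΩ ψ a := by
  intro h
  have h2 : (2 : F) ≠ 0 := two_ne_zero_of_odd hodd
  have hq : (Fintype.card F : ℂ) ^ m ≠ 0 :=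
    pow_ne_zero _ (Nat.cast_ne_zero.2 Fintype.card_ne_zero)
  have he0 : eZ D ρΩ ψ a ≠ 0 := by
    intro h0
    rw [h0, map_zero] at hΩa
    exact hq hΩa.symm
  have hc : c ≠ 0 := by
    rintro rfl
    rw [zero_smul] at h
    apply he0
    calc eZ D ρΩ ψ a = ρΩ (D.iG negSp)⁻¹ * (ρΩ (D.iG negSp) * eZ D ρΩ ψ a) := by
          rw [← mul_assoc, ← map_mul, inv_mul_cancel, map_one, one_mul]
      _ = 0 := by rw [h, mul_zero]
  obtain ⟨w, hw⟩ : ∃ w : Fin m ⊕ Fin m → F, w + w ≠ 0 := by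
    refine ⟨Pi.single (Sum.inl ⟨0, hm⟩) 1, ?_⟩
    intro h0
    have := congrFun h0 (Sum.inl ⟨0, hm⟩)
    simp only [Pi.add_apply, Pi.single_eq_same, Pi.zero_apply] at this
    apply h2
    rw [← this]
    norm_num
  have e1 : ρΩ (D.iG negSp) * ρΩ (D.iH (Heis.vec w)) * eZ D ρΩ ψ a =
      c • (ρΩ (D.iH ⟨-w, 0⟩) * eZ D ρΩ ψ a) := by
    rw [← map_mul, negSp_conj, map_mul, mul_assoc, h, mul_smul_comm]
    rfl
  have e2 : ρΩ (D.iG negSp) * ρΩ (D.iH (Heis.vec w)) * eZ D ρΩ ψ a =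
      c • (ρΩ (D.iH (Heis.vec w)) * eZ D ρΩ ψ a) := by
    rw [mul_assoc, eZ_comm_iH, ← mul_assoc, h, smul_mul_assoc, ← eZ_comm_iH]
  have e3 : ρΩ (D.iH (Heis.vec w)) * eZ D ρΩ ψ a = ρΩ (D.iH ⟨-w, 0⟩) * eZ D ρΩ ψ a := by
    have := e2.symm.trans e1
    exact smul_right_injective _ hc this
  have e4 : ρΩ (D.iH (Heis.vec w * Heis.vec w)) * eZ D ρΩ ψ a = eZ D ρΩ ψ a := by
    rw [map_mul, map_mul, mul_assoc, e3, ← mul_assoc, ← map_mul, ← map_mul]
    have e5 : (Heis.vec w : Heis m F) * ⟨-w, 0⟩ = 1 := by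
      ext
      · simp [Heis.vec]
      · simp [Heis.vec, hcoef_neg_right, Heis.hcoef_self]
    rw [e5, map_one, map_one, one_mul]
  have e6 := trace_iH_mul_eZ D ρΩ ψ hodd hψ ha (Heis.vec w * Heis.vec w) (by
    show w + w ≠ 0
    exact hw)
  rw [e4, hΩa] at e6
  exact hq e6

end abstract

end Cfsg.Agent.Lib.Helper3.SPW
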