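import Mathlib
import Cfsg.Agent.Lib.Helper6.SPWDefs
import Cfsg.Agent.Lib.Helper3.SPEB

set_option autoImplicit false
set_option linter.unusedSectionVars false
set_option linter.unusedVariables false

/-!
Farm SPW (statement S2524), unit OB: binary quadratic forms over a finite field of odd
characteristic (anisotropic forms take every nonzero value exactly `q + 1` times; pairs with
prescribed Gram data).
-/

namespace Cfsg.Agent.Lib.Helper3.SPW

open Matrix Cfsg.Agent.Lib.Helper6.Wl Cfsg.Agent.Lib.Helper1.SPE Cfsg.Agent.Lib.Helper6.SPW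
  Cfsg.Agent.Lib.Helper3.SPE

variable {F : Type*} [Field F] [Fintype F] [DecidableEq F]

/-- the chord parametrisation is injective -/
theorem chord_inj (h2 : (2 : F) ≠ 0) (a b c : F)
    (hani : ∀ s t : F, bq a b c s t = 0 → s = 0 ∧ t = 0) (a' : F) (ha' : a' ≠ 0)
    (s0 t0 : F) (h0 : bq a b c s0 t0 = a') (x y x' y' : F)
    (hx : bq a b c x y = bp a b c s0 t0 x y) (hx' : bq a b c x' y' = bp a b c s0 t0 x' y')
    (hne : ¬ (x = 0 ∧ y = 0)) (hne' : ¬ (x' = 0 ∧ y' = 0))
    (hmu : (s0 * y - t0 * x) / bp a b c s0 t0 x y =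
      (s0 * y' - t0 * x') / bp a b c s0 t0 x' y') :
    x = x' ∧ y = y' := by
  obtain ⟨L, hL⟩ : ∃ L, L = bp a b c s0 t0 x y := ⟨_, rfl⟩
  obtain ⟨L', hL'⟩ : ∃ L', L' = bp a b c s0 t0 x' y' := ⟨_, rfl⟩
  rw [← hL] at hx hmu
  rw [← hL'] at hx' hmu
  have hL0 : L ≠ 0 := by
    rintro rfl
    exact hne (hani x y hx)
  have hL'0 : L' ≠ 0 := by
    rintro rfl
    exact hne' (hani x' y' hx')
  have eq1 : (s0 * y - t0 * x) * L' = (s0 * y' - t0 * x') * L := by
    rw [div_eq_div_iff hL0 hL'0] at hmu
    exact hmu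
  have E1 : s0 * (L' * y - L * y') - t0 * (L' * x - L * x') = 0 := by
    linear_combination eq1
  have E2 : 2 * a * s0 * (L' * x - L * x') + b * (s0 * (L' * y - L * y') + t0 * (L' * x - L * x'))
      + 2 * c * t0 * (L' * y - L * y') = 0 := by
    unfold bp at hL hL'
    linear_combination (-L') * hL + L * hL'
  have hQ1 : L' * x - L * x' = 0 := by
    have h : 2 * a' * (L' * x - L * x') = 0 := by
      unfold bq at h0
      linear_combination s0 * E2 - (b * s0 + 2 * c * t0) * E1 - 2 * (L' * x - L * x') * h0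
    rcases mul_eq_zero.1 h with h | h
    · rcases mul_eq_zero.1 h with h | h
      · exact absurd h h2
      · exact absurd h ha'
    · exact h
  have hQ2 : L' * y - L * y' = 0 := by
    have h : 2 * a' * (L' * y - L * y') = 0 := by
      unfold bq at h0
      linear_combination t0 * E2 + (2 * a * s0 + b * t0) * E1 - 2 * (L' * y - L * y') * h0
    rcases mul_eq_zero.1 h with h | h
    · rcases mul_eq_zero.1 h with h | h
      · exact absurd h h2
      · exact absurd h ha'
    · exact h
  have hLL : L = L' := by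
    have e1 : bq a b c (L' * x) (L' * y) = L' * L' * L := by rw [bq_smul, hx]
    have e2 : bq a b c (L * x') (L * y') = L * L * L' := by rw [bq_smul, hx']
    have e3 : L' * x = L * x' := sub_eq_zero.1 hQ1
    have e4 : L' * y = L * y' := sub_eq_zero.1 hQ2
    rw [e3, e4, e2] at e1
    have : L * L' * (L - L') = 0 := by linear_combination e1
    rcases mul_eq_zero.1 this with h | h
    · rcases mul_eq_zero.1 h with h | h
      · exact absurd h hL0
      · exact absurd h hL'0
    · exact sub_eq_zero.1 h
  subst hLL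
  constructor
  · have : L * (x - x') = 0 := by linear_combination hQ1
    exact sub_eq_zero.1 ((mul_eq_zero.1 this).resolve_left hL0)
  · have : L * (y - y') = 0 := by linear_combination hQ2
    exact sub_eq_zero.1 ((mul_eq_zero.1 this).resolve_left hL0)

/-- an anisotropic binary form, `q` odd, takes every nonzero value at most `q + 1` times -/
theorem card_bq_le_odd (h2 : (2 : F) ≠ 0) (a b c : F)
    (hani : ∀ s t : F, bq a b c s t = 0 → s = 0 ∧ t = 0) (a' : F) (ha' : a' ≠ 0) :
    (Finset.univ.filter (fun p : F × F => bq a b c p.1 p.2 = a')).card ≤ Fintype.card F + 1 := by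
  set S := Finset.univ.filter (fun p : F × F => bq a b c p.1 p.2 = a') with hS
  by_cases hne : S = ∅
  · rw [hne]; simp
  obtain ⟨P0, hP0⟩ := Finset.nonempty_of_ne_empty hne
  have h0 : bq a b c P0.1 P0.2 = a' := (Finset.mem_filter.1 hP0).2
  obtain ⟨s0, t0⟩ := P0
  simp only at h0
  let Φ : F × F → Option F := fun p =>
    if p.1 + s0 = 0 ∧ p.2 + t0 = 0 then none
    else some ((s0 * (p.2 + t0) - t0 * (p.1 + s0)) / bp a b c s0 t0 (p.1 + s0) (p.2 + t0))
  have key : ∀ p : F × F, bq a b c p.1 p.2 = a' →
      bq a b c (p.1 + s0) (p.2 + t0) = bp a b c s0 t0 (p.1 + s0) (p.2 + t0) := by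
    intro p hp
    unfold bq at hp h0 ⊢
    unfold bp
    linear_combination hp - h0
  have hcard : S.card ≤ (Finset.univ : Finset (Option F)).card := by
    apply Finset.card_le_card_of_injOn Φ (fun _ _ => Finset.mem_coe.2 (Finset.mem_univ _))
    intro p hp p' hp' h
    have hp1 : bq a b c p.1 p.2 = a' := (Finset.mem_filter.1 (Finset.mem_coe.1 hp)).2
    have hp1' : bq a b c p'.1 p'.2 = a' := (Finset.mem_filter.1 (Finset.mem_coe.1 hp')).2
    by_cases hz : p.1 + s0 = 0 ∧ p.2 + t0 = 0
    · by_cases hz' : p'.1 + s0 = 0 ∧ p'.2 + t0 = 0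
      · apply Prod.ext
        · linear_combination hz.1 - hz'.1
        · linear_combination hz.2 - hz'.2
      · exfalso
        have e1 : Φ p = none := if_pos hz
        have e2 : Φ p' = some _ := if_neg hz'
        rw [e1, e2] at h
        exact absurd h (by simp)
    · by_cases hz' : p'.1 + s0 = 0 ∧ p'.2 + t0 = 0
      · exfalso
        have e1 : Φ p = some _ := if_neg hz
        have e2 : Φ p' = none := if_pos hz'
        rw [e1, e2] at h
        exact absurd h (by simp)
      · have e1 : Φ p = some _ := if_neg hz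
        have e2 : Φ p' = some _ := if_neg hz'
        rw [e1, e2] at h
        have h' := Option.some.inj h
        obtain ⟨r1, r2⟩ := chord_inj h2 a b c hani a' ha' s0 t0 h0 _ _ _ _ (key p hp1)
          (key p' hp1') hz hz' h'
        apply Prod.ext
        · linear_combination r1
        · linear_combination r2
  rw [Finset.card_univ, Fintype.card_option] at hcard
  exact hcard

/-- an anisotropic binary form over `F_q`, `q` odd, takes every nonzero value exactly `q + 1`
times -/
theorem card_bq_eq_odd (h2 : (2 : F) ≠ 0) (a b c : F)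
    (hani : ∀ s t : F, bq a b c s t = 0 → s = 0 ∧ t = 0) (a' : F) (ha' : a' ≠ 0) :
    (Finset.univ.filter (fun p : F × F => bq a b c p.1 p.2 = a')).card =
      Fintype.card F + 1 := by
  have hq : 2 ≤ Fintype.card F := Fintype.one_lt_card
  have h0 : (Finset.univ.filter (fun p : F × F => bq a b c p.1 p.2 = 0)).card = 1 := by
    rw [Finset.card_eq_one]
    refine ⟨(0, 0), ?_⟩
    ext p
    simp only [Finset.mem_filter, Finset.mem_univ, true_and, Finset.mem_singleton]
    constructor
    · intro h
      obtain ⟨h1, h3⟩ := hani p.1 p.2 h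
      exact Prod.ext h1 h3
    · rintro rfl
      simp [bq]
  have hsum := Finset.card_eq_sum_card_fiberwise (f := fun p : F × F => bq a b c p.1 p.2)
    (s := Finset.univ) (t := Finset.univ) (fun _ _ => Finset.mem_univ _)
  rw [Finset.card_univ, Fintype.card_prod, ← Finset.add_sum_erase _ _ (Finset.mem_univ (0 : F)),
    h0] at hsum
  refine le_antisymm (card_bq_le_odd h2 a b c hani a' ha') ?_
  by_contra hlt
  push Not at hlt
  have hlt' : ∑ x ∈ (Finset.univ : Finset F).erase 0,
      (Finset.univ.filter (fun p : F × F => bq a b c p.1 p.2 = x)).card <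
      ∑ x ∈ (Finset.univ : Finset F).erase 0, (Fintype.card F + 1) := by
    apply Finset.sum_lt_sum
    · intro x hx
      exact card_bq_le_odd h2 a b c hani x (Finset.ne_of_mem_erase hx)
    · exact ⟨a', Finset.mem_erase.2 ⟨ha', Finset.mem_univ _⟩, hlt⟩
  rw [Finset.sum_const, Finset.card_erase_of_mem (Finset.mem_univ _), Finset.card_univ,
    smul_eq_mul] at hlt'
  obtain ⟨k, hk⟩ : ∃ k, Fintype.card F = k + 2 := ⟨Fintype.card F - 2, by omega⟩
  rw [hk] at hsum hlt'
  have e : k + 2 - 1 = k + 1 := by omega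
  rw [e] at hlt'
  nlinarith

theorem card_line_le_odd (h2 : (2 : F) ≠ 0) (a b c : F)
    (hani : ∀ s t : F, bq a b c s t = 0 → s = 0 ∧ t = 0) (s t a' b' c' : F)
    (ha' : bq a b c s t = a') (ha'0 : a' ≠ 0) :
    (Finset.univ.filter (fun p : F × F =>
      bq a b c p.1 p.2 = c' ∧ bp a b c s t p.1 p.2 = b')).card ≤ 2 := by
  set T := Finset.univ.filter (fun p : F × F =>
      bq a b c p.1 p.2 = c' ∧ bp a b c s t p.1 p.2 = b') with hT
  by_cases hne : T = ∅
  · rw [hne]; simp
  obtain ⟨p₀, hp₀⟩ := Finset.nonempty_of_ne_empty hne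
  have hp₀' := (Finset.mem_filter.1 hp₀).2
  obtain ⟨A, hA⟩ : ∃ A, A = 2 * a * s + b * t := ⟨_, rfl⟩
  obtain ⟨B, hB⟩ : ∃ B, B = b * s + 2 * c * t := ⟨_, rfl⟩
  have hAB : A * s + B * t = 2 * a' := by
    rw [hA, hB, ← ha']; unfold bq; ring
  have hABne : A ≠ 0 ∨ B ≠ 0 := by
    by_contra hcon
    push Not at hcon
    rw [hcon.1, hcon.2] at hAB
    have : 2 * a' = 0 := by rw [← hAB]; ring
    rcases mul_eq_zero.1 this with h | h
    · exact h2 h
    · exact ha'0 h
  have hbp : ∀ u v : F, bp a b c s t u v = A * u + B * v := by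
    intro u v
    rw [hA, hB]; unfold bp; ring
  have hk0 : bq a b c B (-A) ≠ 0 := by
    intro h
    obtain ⟨e1, e2⟩ := hani _ _ h
    rcases hABne with h | h
    · exact h (neg_eq_zero.1 e2)
    · exact h e1
  let φ : F → F × F := fun r => (p₀.1 + r * B, p₀.2 + r * (-A))
  have hsub : T ⊆ (Finset.univ.filter (fun r : F =>
      bq a b c B (-A) * r * r + bp a b c p₀.1 p₀.2 B (-A) * r +
        (bq a b c p₀.1 p₀.2 - c') = 0)).image φ := by
    intro p hp
    have hp' := (Finset.mem_filter.1 hp).2
    have hlin : A * (p.1 - p₀.1) + B * (p.2 - p₀.2) = 0 := by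
      have e1 := hp'.2
      have e0 := hp₀'.2
      rw [hbp] at e1 e0
      linear_combination e1 - e0
    obtain ⟨r, hr1, hr2⟩ : ∃ r, p.1 = p₀.1 + r * B ∧ p.2 = p₀.2 + r * (-A) := by
      rcases hABne with hA0 | hB0
      · refine ⟨-(p.2 - p₀.2) / A, ?_, ?_⟩
        · have e' : p.1 - p₀.1 = -(p.2 - p₀.2) / A * B := by
            field_simp
            linear_combination hlin
          linear_combination e'
        · field_simp
          ring
      · refine ⟨(p.1 - p₀.1) / B, ?_, ?_⟩
        · field_simp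
          ring
        · have e' : p.2 - p₀.2 = (p.1 - p₀.1) / B * (-A) := by
            field_simp
            linear_combination hlin
          linear_combination e'
    refine Finset.mem_image.2 ⟨r, ?_, ?_⟩
    · simp only [Finset.mem_filter, Finset.mem_univ, true_and]
      have h1 := hp'.1
      rw [hr1, hr2] at h1
      unfold bq at h1 ⊢
      unfold bp
      linear_combination h1
    · exact Prod.ext hr1.symm hr2.symm
  calc T.card ≤ _ := Finset.card_le_card hsub
    _ ≤ _ := Finset.card_image_le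
    _ ≤ 2 := card_quad_roots_le _ _ _ hk0

/-- anisotropic plane: at most `2 (q + 1)` pairs with prescribed Gram data -/
theorem card_bq_pairs_le_odd (h2 : (2 : F) ≠ 0) (a b c : F)
    (hani : ∀ s t : F, bq a b c s t = 0 → s = 0 ∧ t = 0) (a' b' c' : F) :
    (Finset.univ.filter (fun p : (F × F) × (F × F) =>
      bq a b c p.1.1 p.1.2 = a' ∧ bq a b c p.2.1 p.2.2 = c' ∧
        bp a b c p.1.1 p.1.2 p.2.1 p.2.2 = b')).card ≤ 2 * (Fintype.card F + 1) := by
  set S := Finset.univ.filter (fun p : (F × F) × (F × F) =>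
      bq a b c p.1.1 p.1.2 = a' ∧ bq a b c p.2.1 p.2.2 = c' ∧
        bp a b c p.1.1 p.1.2 p.2.1 p.2.2 = b') with hS
  by_cases ha'0 : a' = 0
  · have hfib : (Finset.univ.filter (fun p : F × F => bq a b c p.1 p.2 = c')).card ≤
        Fintype.card F + 1 := by
      by_cases hc' : c' = 0
      · subst hc'
        refine le_trans (Finset.card_le_one.2 ?_) (by omega)
        intro x hx y hy
        have hx' := (Finset.mem_filter.1 hx).2
        have hy' := (Finset.mem_filter.1 hy).2
        obtain ⟨h1, h3⟩ := hani _ _ hx'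
        obtain ⟨h4, h5⟩ := hani _ _ hy'
        exact Prod.ext (h1.trans h4.symm) (h3.trans h5.symm)
      · exact card_bq_le_odd h2 a b c hani c' hc'
    refine le_trans (Finset.card_le_card_of_injOn (fun p => p.2) ?_ ?_) (hfib.trans (by omega))
    · intro p hp
      have hp' := (Finset.mem_filter.1 (Finset.mem_coe.1 hp)).2
      show p.2 ∈ (↑(Finset.univ.filter (fun p : F × F => bq a b c p.1 p.2 = c')) : Set (F × F))
      rw [Finset.mem_coe, Finset.mem_filter]
      exact ⟨Finset.mem_univ _, hp'.2.1⟩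
    · intro p hp p' hp' h
      have hp1 := (Finset.mem_filter.1 (Finset.mem_coe.1 hp)).2.1
      have hp1' := (Finset.mem_filter.1 (Finset.mem_coe.1 hp')).2.1
      rw [ha'0] at hp1 hp1'
      obtain ⟨e1, e2⟩ := hani _ _ hp1
      obtain ⟨e3, e4⟩ := hani _ _ hp1'
      exact Prod.ext (Prod.ext (e1.trans e3.symm) (e2.trans e4.symm)) h
  · have h1 := Finset.card_le_mul_card_image (f := fun p : (F × F) × (F × F) => p.1) S 2 ?_
    · calc S.card ≤ 2 * (S.image fun p => p.1).card := h1
        _ ≤ 2 * (Finset.univ.filter (fun p : F × F => bq a b c p.1 p.2 = a')).card := by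
            apply Nat.mul_le_mul_left
            apply Finset.card_le_card
            intro x hx
            obtain ⟨p, hp, rfl⟩ := Finset.mem_image.1 hx
            simp only [Finset.mem_filter, Finset.mem_univ, true_and]
            exact ((Finset.mem_filter.1 hp).2).1
        _ ≤ 2 * (Fintype.card F + 1) :=
            Nat.mul_le_mul_left _ (card_bq_le_odd h2 a b c hani a' ha'0)
    · intro x hx
      obtain ⟨p, hp, rfl⟩ := Finset.mem_image.1 hx
      have hp' := (Finset.mem_filter.1 hp).2
      refine le_trans (Finset.card_le_card_of_injOn (fun y => y.2) ?_ ?_)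
        (card_line_le_odd h2 a b c hani p.1.1 p.1.2 a' b' c' hp'.1 ha'0)
      · intro y hy
        have hy' := Finset.mem_filter.1 (Finset.mem_coe.1 hy)
        have hyS := (Finset.mem_filter.1 hy'.1).2
        have hy1 : y.1 = p.1 := hy'.2
        show y.2 ∈ (↑(Finset.univ.filter (fun z : F × F =>
          bq a b c z.1 z.2 = c' ∧ bp a b c p.1.1 p.1.2 z.1 z.2 = b')) : Set (F × F))
        rw [Finset.mem_coe, Finset.mem_filter]
        refine ⟨Finset.mem_univ _, hyS.2.1, ?_⟩
        rw [← hy1]
        exact hyS.2.2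
      · intro y hy y' hy' h
        have e1 : y.1 = p.1 := (Finset.mem_filter.1 (Finset.mem_coe.1 hy)).2
        have e2 : y'.1 = p.1 := (Finset.mem_filter.1 (Finset.mem_coe.1 hy')).2
        exact Prod.ext (e1.trans e2.symm) h

end Cfsg.Agent.Lib.Helper3.SPW
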