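import Mathlib
import Cfsg.Agent.Lib.Helper3.SPWOB

set_option autoImplicit false
set_option linter.unusedSectionVars false
set_option linter.unusedVariables false

/-!
Farm SPW (statement S2524), Part I, unit IB (helper5's shapes): binary quadratic forms over a finite
field of odd characteristic.
-/

namespace Cfsg.Agent.Lib.Helper3.SPWI

open Matrix Cfsg.Agent.Lib.Helper6.Wl Cfsg.Agent.Lib.Helper1.SPE

variable {F : Type*} [Field F] [Fintype F] [DecidableEq F]

theorem card_bq_le_odd (h2 : (2 : F) ≠ 0) (a b c : F)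
    (hani : ∀ s t : F, bq a b c s t = 0 → s = 0 ∧ t = 0) (a' : F) (ha' : a' ≠ 0) :
    (Finset.univ.filter (fun p : F × F => bq a b c p.1 p.2 = a')).card ≤ Fintype.card F + 1 :=
  Cfsg.Agent.Lib.Helper3.SPW.card_bq_le_odd h2 a b c hani a' ha'

theorem card_bq_pairs_le_odd (h2 : (2 : F) ≠ 0) (a b c : F)
    (hani : ∀ s t : F, bq a b c s t = 0 → s = 0 ∧ t = 0) (a' b' c' : F) :
    (Finset.univ.filter (fun p : (F × F) × (F × F) =>
      bq a b c p.1.1 p.1.2 = a' ∧ bq a b c p.2.1 p.2.2 = c' ∧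
      2 * a * p.1.1 * p.2.1 + b * (p.1.1 * p.2.2 + p.1.2 * p.2.1) + 2 * c * p.1.2 * p.2.2 = b')).card
      ≤ 2 * (Fintype.card F + 1) :=
  Cfsg.Agent.Lib.Helper3.SPW.card_bq_pairs_le_odd h2 a b c hani a' b' c'

end Cfsg.Agent.Lib.Helper3.SPWI
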