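import Mathlib
import Cfsg.Agent.Lib.Helper1.TCSDefs
import Cfsg.Agent.Lib.Helper1.TCSApi
import Cfsg.Agent.Lib.Helper1.TCSBasic
import Cfsg.Agent.Lib.Helper1.TCSBasicC
import Cfsg.Agent.Lib.Helper4.TCSX1a

/-!
# S4284 farm (helper1 owner), pieces A0 (`cent_le_of_coprime`), A1 (`block`), A2 (`block_sylow`) - by helper3
-/

set_option autoImplicit false
set_option maxHeartbeats 4000000
set_option linter.unusedVariables false
set_option linter.unusedSectionVars false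
set_option linter.style.longLine false
set_option linter.style.haveILetI false

namespace Cfsg.Agent.Lib.Helper1.TCS

open Cfsg.Agent.Lib.Helper8.CSG Cfsg.Agent.Lib.Helper1.PSG

variable {G : Type*} [Group G] [Finite G] {m n : ℕ}

/-- A0. -/
theorem cent_le_of_coprime (h : H3 G m n) {p : ℕ} (hp : p.Prime) (hpm : p ∣ m) {x w : G} (hx : PElt p x)
    (hxn : idx x ≠ 1) (hwx : w * x = x * w) (hwp : (orderOf w).Coprime p) (hwn : (orderOf w).Coprime n) :
    Cz x ≤ Cz w := by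
  obtain ⟨_, ⟨k, hk⟩, _, _, _, h6⟩ := hc_struct h hp hpm hx hxn
  have hwH : w ∈ Hc p x := mem_Hc hwx hwp
  have hHw : Hc p x ≤ Cz w := by
    intro a ha
    rw [mem_Cz]
    exact (h6 w hwH hwn a ha).symm
  have hdvd : (Cz w).relIndex (Cz x) ∣ p ^ k := by
    rw [← hk]
    exact Subgroup.relIndex_dvd_of_le_left (Cz x) hHw
  have hco : (orderOf x).Coprime (orderOf w) :=
    Cfsg.Agent.Lib.Helper3.NM.h1_coprime_order_of_pelt hp hx hwp
  obtain ⟨hcase, _⟩ := relIndex_cases h hwx.symm hco hxn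
  rcases hcase with h1 | hn
  · exact Subgroup.relIndex_eq_one.mp h1
  · exfalso
    rw [hn] at hdvd
    -- n ∣ p^k, n > 1 ⟹ p ∣ n, but p ∣ m and (m,n) = 1
    obtain ⟨j, hj, hnj⟩ := (Nat.dvd_prime_pow hp).mp hdvd
    have hj0 : j ≠ 0 := by
      rintro rfl
      rw [pow_zero] at hnj
      have := h.hn
      omega
    have hpn : p ∣ n := by
      rw [hnj]; exact dvd_pow_self p hj0
    have : p ∣ Nat.gcd m n := Nat.dvd_gcd hpm hpn
    rw [h.cop] at this
    exact hp.one_lt.ne' (Nat.dvd_one.mp this)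

/-- coprimality helper: a `q`-element has order prime to any number prime to `q` -/
theorem h3tcs_pelt_order_coprime {q : ℕ} (hq : q.Prime) {w : G} (hw : PElt q w) {d : ℕ} (hd : q.Coprime d) :
    (orderOf w).Coprime d := by
  obtain ⟨k, hk⟩ := hw
  have hord : orderOf w ∣ q ^ k := orderOf_dvd_of_pow_eq_one hk
  exact Nat.Coprime.coprime_dvd_left hord (Nat.Coprime.pow_left k hd)

/-- commuting noncentral `p`-element and `p'`-element (`p ≠ p'` dividing `m`) have the same centralizer -/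
theorem h3tcs_block_key (h : H3 G m n) {p p' : ℕ} (hp : p.Prime) (hp' : p'.Prime) (hpp : p ≠ p') (hpm : p ∣ m)
    (hp'm : p' ∣ m) {x w : G} (hx : PElt p x) (hw : PElt p' w) (hxn : idx x ≠ 1) (hwn : idx w ≠ 1)
    (hxw : x * w = w * x) : Cz x = Cz w := by
  have hpn : p.Coprime n := Nat.Coprime.coprime_dvd_left hpm h.cop
  have hp'n : p'.Coprime n := Nat.Coprime.coprime_dvd_left hp'm h.cop
  have hpp' : p.Coprime p' := (Nat.coprime_primes hp hp').mpr hpp
  apply le_antisymm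
  · exact cent_le_of_coprime h hp hpm hx hxn hxw.symm (h3tcs_pelt_order_coprime hp' hw hpp'.symm)
      (h3tcs_pelt_order_coprime hp' hw hp'n)
  · exact cent_le_of_coprime h hp' hp'm hw hwn hxw (h3tcs_pelt_order_coprime hp hx hpp')
      (h3tcs_pelt_order_coprime hp hx hpn)

/-- A1 (blocks). -/
theorem block (h : H3 G m n) {p p' : ℕ} (hp : p.Prime) (hp' : p'.Prime) (hpp : p ≠ p') (hpm : p ∣ m)
    (hp'm : p' ∣ m) {u : G} (hu : PElt p' u) (hun : idx u ≠ 1) :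
    (∃ x : G, PElt p x ∧ x * u = u * x ∧ idx x ≠ 1) ∧
    (∀ g ∈ Cz u, (PElt p g ∨ PElt p' g) → idx g ≠ 1 → Cz g = Cz u) ∧
    (∀ g ∈ Cz u, (PElt p g ∨ PElt p' g) → ∀ c ∈ Cz u, g * c = c * g) := by
  obtain ⟨x, hx, hxu, hxn⟩ := exists_noncentral_pelt h hp hpm hun
  have hxu' : Cz x = Cz u := h3tcs_block_key h hp hp' hpp hpm hp'm hx hu hxn hun hxu
  have h2 : ∀ g ∈ Cz u, (PElt p g ∨ PElt p' g) → idx g ≠ 1 → Cz g = Cz u := by
    intro g hg hgp hgn
    rcases hgp with hgp | hgp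
    · exact h3tcs_block_key h hp hp' hpp hpm hp'm hgp hu hgn hun (mem_Cz.mp hg)
    · have hgx : g ∈ Cz x := by rw [hxu']; exact hg
      have : Cz x = Cz g := h3tcs_block_key h hp hp' hpp hpm hp'm hx hgp hxn hgn (mem_Cz.mp hgx).symm
      rw [← this, hxu']
  refine ⟨⟨x, hx, hxu, hxn⟩, h2, ?_⟩
  intro g hg hgp c hc
  by_cases hgn : idx g = 1
  · have := h8_mem_center_of_idx_eq_one hgn
    exact ((Subgroup.mem_center_iff.mp this) c).symm
  · have hcg : c ∈ Cz g := by rw [h2 g hg hgp hgn]; exact hc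
    exact (mem_Cz.mp hcg).symm

/-- product of commuting `r`-elements is an `r`-element -/
theorem h3tcs_pelt_mul {r : ℕ} {a b : G} (ha : PElt r a) (hb : PElt r b) (hab : a * b = b * a) : PElt r (a * b) := by
  obtain ⟨i, hi⟩ := ha
  obtain ⟨j, hj⟩ := hb
  refine ⟨i + j, ?_⟩
  have hc : Commute a b := hab
  rw [hc.mul_pow, pow_add, pow_mul, hi, one_pow, one_mul, mul_comm (r ^ i) (r ^ j), pow_mul, hj, one_pow]

theorem h3tcs_pelt_inv {r : ℕ} {a : G} (ha : PElt r a) : PElt r a⁻¹ := by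
  obtain ⟨i, hi⟩ := ha
  exact ⟨i, by rw [inv_pow, hi, inv_one]⟩

theorem h3tcs_pelt_conj {r : ℕ} {a : G} (ha : PElt r a) (g : G) : PElt r (g * a * g⁻¹) := by
  obtain ⟨i, hi⟩ := ha
  exact ⟨i, by rw [conj_pow, hi, mul_one, mul_inv_cancel]⟩

/-- A2. -/
theorem block_sylow (h : H3 G m n) {p p' : ℕ} (hp : p.Prime) (hp' : p'.Prime) (hpp : p ≠ p') (hpm : p ∣ m)
    (hp'm : p' ∣ m) {u : G} (hu : PElt p' u) (hun : idx u ≠ 1) {r : ℕ} (hr : r = p ∨ r = p') :
    (∀ g : G, g ∈ Sc r u ↔ g ∈ Cz u ∧ PElt r g) ∧ (∀ g ∈ Sc r u, ∀ c ∈ Cz u, g * c = c * g) := by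
  obtain ⟨_, _, h3⟩ := block h hp hp' hpp hpm hp'm hu hun
  have hor : ∀ g : G, PElt r g → (PElt p g ∨ PElt p' g) := by
    intro g hg
    rcases hr with rfl | rfl
    · exact Or.inl hg
    · exact Or.inr hg
  have key : ∀ g ∈ Sc r u, g ∈ Cz u ∧ PElt r g ∧ ∀ c ∈ Cz u, g * c = c * g := by
    intro g hg
    unfold Sc at hg
    induction hg using Subgroup.closure_induction with
    | mem x hx =>
      have hxC : x ∈ Cz u := mem_Cz.mpr hx.1
      exact ⟨hxC, hx.2, h3 x hxC (hor x hx.2)⟩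
    | one => exact ⟨Subgroup.one_mem _, ⟨0, by simp⟩, fun c _ => by simp⟩
    | mul x y _ _ ihx ihy =>
      refine ⟨Subgroup.mul_mem _ ihx.1 ihy.1, h3tcs_pelt_mul ihx.2.1 ihy.2.1 (ihx.2.2 y ihy.1), ?_⟩
      intro c hc
      rw [mul_assoc, ihy.2.2 c hc, ← mul_assoc, ihx.2.2 c hc, mul_assoc]
    | inv x _ ihx =>
      refine ⟨Subgroup.inv_mem _ ihx.1, h3tcs_pelt_inv ihx.2.1, ?_⟩
      intro c hc
      have := ihx.2.2 c hc
      calc x⁻¹ * c = x⁻¹ * (c * x) * x⁻¹ := by group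
        _ = x⁻¹ * (x * c) * x⁻¹ := by rw [this]
        _ = c * x⁻¹ := by group
  refine ⟨fun g => ⟨fun hg => ⟨(key g hg).1, (key g hg).2.1⟩, fun hg => mem_Sc (mem_Cz.mp hg.1) hg.2⟩, ?_⟩
  intro g hg c hc
  exact (key g hg).2.2 c hc

end Cfsg.Agent.Lib.Helper1.TCS
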