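import Mathlib
import Cfsg.Agent.Lib.Helper3.TCSA0
import Cfsg.Agent.Lib.Helper2.TCSG2

/-!
# S4284 farm (helper1 owner), pieces A3 (`partA_exp`), A4 (`partA_div`) - by helper3
-/

set_option autoImplicit false
set_option maxHeartbeats 4000000
set_option linter.unusedVariables false
set_option linter.unusedSectionVars false
set_option linter.style.longLine false
set_option linter.style.haveILetI false

namespace Cfsg.Agent.Lib.Helper1.TCS

open Cfsg.Agent.Lib.Helper8.CSG Cfsg.Agent.Lib.Helper1.PSG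

variable {G : Type*} [Group G] [Finite G] {m n : ℕ}

/-- if all `[u, s]` (`s ∈ P`) are central then `s u s⁻¹ = z u` with `z` central -/
theorem h3tcs_conj_eq_central_mul {P : Subgroup G} {u : G}
    (hcomm : ∀ s ∈ P, u * s * u⁻¹ * s⁻¹ ∈ Subgroup.center G) {s : G} (hs : s ∈ P) :
    ∃ z ∈ Subgroup.center G, s * u * s⁻¹ = z * u := by
  refine ⟨u * s⁻¹ * u⁻¹ * s⁻¹⁻¹, hcomm s⁻¹ (P.inv_mem hs), ?_⟩
  have hz := hcomm s⁻¹ (P.inv_mem hs)
  have h1 := (Subgroup.mem_center_iff.mp hz) s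
  -- s * z = z * s
  have : s * u * s⁻¹ = s * (u * s⁻¹ * u⁻¹ * s⁻¹⁻¹) * s⁻¹ * u := by group
  rw [this, h1]
  group

/-- `P` normalizes `C(u)` when all `[u, s]` are central -/
theorem h3tcs_conj_mem_Cz {P : Subgroup G} {u : G}
    (hcomm : ∀ s ∈ P, u * s * u⁻¹ * s⁻¹ ∈ Subgroup.center G) {s : G} (hs : s ∈ P) {g : G} (hg : g ∈ Cz u) :
    s * g * s⁻¹ ∈ Cz u := by
  obtain ⟨z, hz, hzu⟩ := h3tcs_conj_eq_central_mul hcomm hs
  have := Cz_conj s u hg
  rw [hzu, Cz_mul_central u hz] at this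
  exact this

theorem h3tcs_conj_mem_Sc {P : Subgroup G} {u : G} (r : ℕ)
    (hcomm : ∀ s ∈ P, u * s * u⁻¹ * s⁻¹ ∈ Subgroup.center G) {s : G} (hs : s ∈ P) {g : G} (hg : g ∈ Sc r u) :
    s * g * s⁻¹ ∈ Sc r u := by
  obtain ⟨z, hz, hzu⟩ := h3tcs_conj_eq_central_mul hcomm hs
  have := Sc_conj r s u hg
  rw [hzu, Sc_mul_central r u hz] at this
  exact this

theorem h3tcs_mem_normalizer_Cz {P : Subgroup G} {u : G}
    (hcomm : ∀ s ∈ P, u * s * u⁻¹ * s⁻¹ ∈ Subgroup.center G) :
    P ≤ Subgroup.normalizer ((Cz u : Subgroup G) : Set G) := by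
  intro s hs
  apply Subgroup.mem_normalizer_fintype
  intro g hg
  exact h3tcs_conj_mem_Cz hcomm hs hg

/-- a subgroup all of whose elements are `p`-elements is a `p`-group -/
theorem h3tcs_isPGroup_of_pelt {p : ℕ} {H : Subgroup G} (hH : ∀ g ∈ H, PElt p g) : IsPGroup p H := by
  intro g
  obtain ⟨k, hk⟩ := hH g.1 g.2
  exact ⟨k, Subtype.ext (by simpa using hk)⟩

/-- A3. -/
theorem partA_exp (h : H3 G m n) {p p' : ℕ} (hp : p.Prime) [Fact p'.Prime] (hpp : p ≠ p') (hpm : p ∣ m)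
    (hp'm : p' ∣ m) (P' : Sylow p' G) {u : G} (hu : u ∈ (P' : Subgroup G)) (hun : idx u ≠ 1)
    (hcomm : ∀ s ∈ (P' : Subgroup G), u * s * u⁻¹ * s⁻¹ ∈ Subgroup.center G)
    (hur : ∀ s ∈ (P' : Subgroup G), u ^ p' * s = s * u ^ p') :
    (Cz u).relIndex (P' : Subgroup G) = p' := by
  have hp' : p'.Prime := Fact.out
  haveI : Fact p.Prime := ⟨hp⟩
  have hup : PElt p' u := h1tcs_pelt_of_isPGroup P'.isPGroup' hu
  obtain ⟨⟨x, hx, hxu, hxn⟩, hb2, hb3⟩ := block h hp hp' hpp hpm hp'm hup hun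
  obtain ⟨hs1, hs2⟩ := block_sylow h hp hp' hpp hpm hp'm hup hun (r := p) (Or.inl rfl)
  have hVp : IsPGroup p (Sc p u) := h3tcs_isPGroup_of_pelt (fun g hg => ((hs1 g).mp hg).2)
  have hdvd : (Cz u).relIndex (P' : Subgroup G) ∣ p' := by
    apply exp_lemma hp' (P' : Subgroup G) (Sc p u) (Sc p u ⊓ Subgroup.center G) P'.isPGroup' hu hcomm hur
      inf_le_left
    · intro a ha b hb
      exact hs2 a ha b (Sc_le p u hb)
    · obtain ⟨k, hk⟩ := hVp.exists_card_eq
      rw [hk]
      exact Nat.Coprime.pow_left k ((Nat.coprime_primes hp hp').mpr hpp)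
    · intro s hs v hv
      exact h3tcs_conj_mem_Sc p hcomm hs hv
    · intro s hs hsu v hv
      have hsC : s ∈ Cz u := mem_Cz.mpr hsu
      exact hb3 s hsC (Or.inr (h1tcs_pelt_of_isPGroup P'.isPGroup' hs)) v (Sc_le p u hv)
    · intro s hs hsu v hv hsv
      refine ⟨hv, ?_⟩
      by_contra hvc
      have hvn : idx v ≠ 1 := fun h1 => hvc (h8_mem_center_of_idx_eq_one h1)
      have hv' := (hs1 v).mp hv
      have hCv : Cz v = Cz u := hb2 v hv'.1 (Or.inl hv'.2) hvn
      have : s ∈ Cz u := by rw [← hCv]; exact mem_Cz.mpr hsv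
      exact hsu (mem_Cz.mp this)
    · intro hle
      have hxV : x ∈ Sc p u := mem_Sc hxu hx
      have := (hle hxV).2
      exact hxn (h8_idx_eq_one_of_mem_center this)
  rcases (Nat.dvd_prime hp').mp hdvd with h1 | h1
  · exfalso
    have hle : (P' : Subgroup G) ≤ Cz u := Subgroup.relIndex_eq_one.mp h1
    have h2 : idx u ∣ (P' : Subgroup G).index := Subgroup.index_dvd_of_le hle
    have h3 : p' ∣ idx u := dvd_trans hp'm (dvd_idx h hun)
    exact P'.not_dvd_index (dvd_trans h3 h2)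
  · exact h1

/-- for `K ≤ N_G(C)`: `|K : K ∩ C|` divides `|N_G(C) : C|` -/
theorem h3tcs_relIndex_dvd_normalizer (C K : Subgroup G) (hK : K ≤ Subgroup.normalizer (C : Set G)) :
    C.relIndex K ∣ C.relIndex (Subgroup.normalizer (C : Set G)) := by
  have h1 : (C.subgroupOf (Subgroup.normalizer (C : Set G))).relIndex
      (K.subgroupOf (Subgroup.normalizer (C : Set G))) ∣
      (C.subgroupOf (Subgroup.normalizer (C : Set G))).index :=
    Subgroup.relIndex_dvd_index_of_normal _ _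
  rw [Subgroup.relIndex_subgroupOf hK] at h1
  exact h1

/-- A4. -/
theorem partA_div (h : H3 G m n) {p p' : ℕ} (hp : p.Prime) [Fact p'.Prime] (hpp : p ≠ p') (hpm : p ∣ m)
    (hp'm : p' ∣ m) (P' : Sylow p' G) {u : G} (hu : u ∈ (P' : Subgroup G)) (hun : idx u ≠ 1)
    (hcomm : ∀ s ∈ (P' : Subgroup G), u * s * u⁻¹ * s⁻¹ ∈ Subgroup.center G)
    (hrel : (Cz u).relIndex (P' : Subgroup G) = p') :
    p ∣ (Cz u).relIndex (Subgroup.normalizer ((Cz u : Subgroup G) : Set G)) ∧
    p' ∣ (Cz u).relIndex (Subgroup.normalizer ((Cz u : Subgroup G) : Set G)) ∧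
    ¬ p' ^ 2 ∣ (Cz u).relIndex (Subgroup.normalizer ((Cz u : Subgroup G) : Set G)) := by
  have hp' : p'.Prime := Fact.out
  haveI : Fact p.Prime := ⟨hp⟩
  have hup : PElt p' u := h1tcs_pelt_of_isPGroup P'.isPGroup' hu
  obtain ⟨⟨x, hx, hxu, hxn⟩, hb2, hb3⟩ := block h hp hp' hpp hpm hp'm hup hun
  obtain ⟨hs1, hs2⟩ := block_sylow h hp hp' hpp hpm hp'm hup hun (r := p) (Or.inl rfl)
  have hP'N : (P' : Subgroup G) ≤ Subgroup.normalizer ((Cz u : Subgroup G) : Set G) :=
    h3tcs_mem_normalizer_Cz hcomm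
  have hCN : Cz u ≤ Subgroup.normalizer ((Cz u : Subgroup G) : Set G) := Subgroup.le_normalizer
  refine ⟨?_, ?_, ?_⟩
  · -- p divides |N : C|
    have hAp : IsPGroup p (Sc p u) := h3tcs_isPGroup_of_pelt (fun g hg => ((hs1 g).mp hg).2)
    obtain ⟨R, hAR⟩ := hAp.exists_le_sylow
    have hne : ¬ (R : Subgroup G) ≤ Sc p u := by
      intro hle
      have hle2 : (R : Subgroup G) ≤ Cz u := hle.trans (Sc_le p u)
      have h2 : idx u ∣ (R : Subgroup G).index := Subgroup.index_dvd_of_le hle2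
      have h3 : p ∣ idx u := dvd_trans hpm (dvd_idx h hun)
      exact R.not_dvd_index (dvd_trans h3 h2)
    haveI : Group.IsNilpotent (R : Subgroup G) := R.2.isNilpotent
    have hnc := Group.normalizerCondition_of_isNilpotent (G := (R : Subgroup G))
    have hlt : (Sc p u).subgroupOf R < ⊤ := by
      rw [lt_top_iff_ne_top]
      intro h
      rw [Subgroup.subgroupOf_eq_top] at h
      exact hne h
    obtain ⟨y, hyN, hyA⟩ := SetLike.exists_of_lt (hnc _ hlt)
    have hyA' : (y : G) ∉ Sc p u := fun h => hyA (Subgroup.mem_subgroupOf.mpr h)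
    have hyp : PElt p (y : G) := h1tcs_pelt_of_isPGroup R.isPGroup' y.2
    have hynorm : ∀ a ∈ Sc p u, (y : G) * a * (y : G)⁻¹ ∈ Sc p u := by
      intro a ha
      have haR : a ∈ (R : Subgroup G) := hAR ha
      have h1 : (⟨a, haR⟩ : (R : Subgroup G)) ∈ (Sc p u).subgroupOf R := Subgroup.mem_subgroupOf.mpr ha
      have h2 := (Subgroup.mem_normalizer_iff.mp hyN ⟨a, haR⟩).mp h1
      have h3 := Subgroup.mem_subgroupOf.mp h2
      simpa using h3
    have hxA : x ∈ Sc p u := mem_Sc hxu hx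
    have hCx : Cz x = Cz u := hb2 x (mem_Cz.mpr hxu) (Or.inl hx) hxn
    have hyxA := hynorm x hxA
    have hyx' := (hs1 _).mp hyxA
    have hyxn : idx ((y : G) * x * (y : G)⁻¹) ≠ 1 := by
      intro h1
      have hc := h8_mem_center_of_idx_eq_one h1
      apply hxn
      apply h8_idx_eq_one_of_mem_center
      have : x = (y : G)⁻¹ * ((y : G) * x * (y : G)⁻¹) * ((y : G)⁻¹)⁻¹ := by group
      rw [this]
      exact (inferInstance : (Subgroup.center G).Normal).conj_mem _ hc _
    have hCyx : Cz ((y : G) * x * (y : G)⁻¹) = Cz u := hb2 _ hyx'.1 (Or.inl hyx'.2) hyxn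
    have hyN' : (y : G) ∈ Subgroup.normalizer ((Cz u : Subgroup G) : Set G) := by
      apply Subgroup.mem_normalizer_fintype
      intro g hg
      have hg' : g ∈ Cz x := by rw [hCx]; exact hg
      have := Cz_conj (y : G) x hg'
      rw [hCyx] at this
      exact this
    have hyC : (y : G) ∉ Cz u := by
      intro hyC
      exact hyA' (mem_Sc (mem_Cz.mp hyC) hyp)
    have hzp : Subgroup.zpowers (y : G) ≤ Subgroup.normalizer ((Cz u : Subgroup G) : Set G) := by
      rw [Subgroup.zpowers_le]; exact hyN'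
    have h1 := h3tcs_relIndex_dvd_normalizer (Cz u) (Subgroup.zpowers (y : G)) hzp
    have h2 : (Cz u).relIndex (Subgroup.zpowers (y : G)) ∣ Nat.card (Subgroup.zpowers (y : G)) :=
      Subgroup.relIndex_dvd_card _ _
    rw [Nat.card_zpowers] at h2
    obtain ⟨k, hk⟩ := hyp
    have h3 : (Cz u).relIndex (Subgroup.zpowers (y : G)) ∣ p ^ k :=
      dvd_trans h2 (orderOf_dvd_of_pow_eq_one hk)
    obtain ⟨j, _, hj⟩ := (Nat.dvd_prime_pow hp).mp h3
    have hj0 : j ≠ 0 := by
      rintro rfl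
      rw [pow_zero] at hj
      have := Subgroup.relIndex_eq_one.mp hj
      exact hyC (this (Subgroup.mem_zpowers _))
    have : p ∣ (Cz u).relIndex (Subgroup.zpowers (y : G)) := by
      rw [hj]; exact dvd_pow_self p hj0
    exact dvd_trans this h1
  · -- p' divides |N : C|
    have := h3tcs_relIndex_dvd_normalizer (Cz u) (P' : Subgroup G) hP'N
    rw [hrel] at this
    exact this
  · -- p'^2 does not divide |N : C|
    intro hdiv
    set N := Subgroup.normalizer ((Cz u : Subgroup G) : Set G) with hN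
    -- |N| = |N : C| * |C|
    have h1 : (Cz u).relIndex N * Nat.card (Cz u) = Nat.card N := by
      have := Subgroup.card_mul_index ((Cz u).subgroupOf N)
      rw [Nat.card_congr (Subgroup.subgroupOfEquivOfLe hCN).toEquiv] at this
      rw [mul_comm]; exact this
    -- |P' ⊓ C| divides |C|
    have h2 : Nat.card ((P' : Subgroup G) ⊓ Cz u : Subgroup G) ∣ Nat.card (Cz u) :=
      Subgroup.card_dvd_of_le inf_le_right
    -- |P'| = p' * |P' ⊓ C|
    have h3 : (Cz u).relIndex (P' : Subgroup G) * Nat.card ((P' : Subgroup G) ⊓ Cz u : Subgroup G) =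
        Nat.card (P' : Subgroup G) := by
      have := Subgroup.card_mul_index ((Cz u).subgroupOf (P' : Subgroup G))
      rw [mul_comm]
      have e : Nat.card ((Cz u).subgroupOf (P' : Subgroup G)) =
          Nat.card ((P' : Subgroup G) ⊓ Cz u : Subgroup G) := by
        rw [← Subgroup.inf_subgroupOf_left]
        exact Nat.card_congr (Subgroup.subgroupOfEquivOfLe inf_le_left).toEquiv
      rw [e] at this
      exact this
    rw [hrel] at h3
    have h4 : p' ^ 2 * Nat.card ((P' : Subgroup G) ⊓ Cz u : Subgroup G) ∣ Nat.card G := by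
      have : p' ^ 2 * Nat.card ((P' : Subgroup G) ⊓ Cz u : Subgroup G) ∣ Nat.card N := by
        rw [← h1]; exact Nat.mul_dvd_mul hdiv h2
      exact dvd_trans this (Subgroup.card_subgroup_dvd_card N)
    have h5 : p' * Nat.card (P' : Subgroup G) ∣ Nat.card G := by
      rw [← h3]
      have : p' * (p' * Nat.card ((P' : Subgroup G) ⊓ Cz u : Subgroup G)) =
          p' ^ 2 * Nat.card ((P' : Subgroup G) ⊓ Cz u : Subgroup G) := by ring
      rw [this]; exact h4
    rw [P'.card_eq_multiplicity, ← pow_succ'] at h5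
    exact Nat.pow_succ_factorization_not_dvd (Nat.card_pos (α := G)).ne' hp' h5

end Cfsg.Agent.Lib.Helper1.TCS
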