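import Mathlib
import Cfsg.Agent.Lib.Helper3.TCSA3
import Cfsg.Agent.Lib.Helper2.TCSG3
import Cfsg.Agent.Lib.Helper2.TCSG4
import Cfsg.Agent.Lib.Helper6.TCSALc

/-!
# S4284 farm (helper1 owner), piece A5 (`partA`) - by helper3
-/

set_option autoImplicit false
set_option maxHeartbeats 4000000
set_option linter.unusedVariables false
set_option linter.unusedSectionVars false
set_option linter.style.longLine false
set_option linter.style.haveILetI false

namespace Cfsg.Agent.Lib.Helper1.TCS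

open Cfsg.Agent.Lib.Helper8.CSG Cfsg.Agent.Lib.Helper1.PSG

variable {G : Type*} [Group G] [Finite G] {m n : ℕ}

/-- A5 (Part A).  Two distinct primes cannot divide `m`. -/
theorem partA (h : H3 G m n) {p p' : ℕ} (hp : p.Prime) (hp' : p'.Prime) (hpp : p ≠ p') (hpm : p ∣ m)
    (hp'm : p' ∣ m) : False := by
  haveI : Fact p.Prime := ⟨hp⟩
  haveI : Fact p'.Prime := ⟨hp'⟩
  obtain ⟨P'⟩ : Nonempty (Sylow p' G) := inferInstance
  obtain ⟨a0, ha0, x0, hx0, hax0⟩ := sylow_not_comm h hp'm P'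
  obtain ⟨u, hu, ⟨x1, hx1, hux1⟩, hc2, hur⟩ :=
    exists_second_center hp' (P' : Subgroup G) (P' : Subgroup G) P'.isPGroup' le_rfl
      (fun x hx a ha => Subgroup.mul_mem _ (Subgroup.mul_mem _ hx ha) (Subgroup.inv_mem _ hx))
      ⟨a0, ha0, x0, hx0, hax0⟩
  have hcomm : ∀ s ∈ (P' : Subgroup G), u * s * u⁻¹ * s⁻¹ ∈ Subgroup.center G := by
    intro s hs
    apply center_sylow h hp'm P'
    · exact Subgroup.mul_mem _ (Subgroup.mul_mem _ (Subgroup.mul_mem _ hu hs) (Subgroup.inv_mem _ hu))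
        (Subgroup.inv_mem _ hs)
    · intro y hy
      exact hc2 s hs y hy
  have hun : idx u ≠ 1 := by
    intro h1
    have hc := h8_mem_center_of_idx_eq_one h1
    exact hux1 (((Subgroup.mem_center_iff.mp hc) x1).symm)
  have hup : PElt p' u := h1tcs_pelt_of_isPGroup P'.isPGroup' hu
  have hrel := partA_exp h hp hpp hpm hp'm P' hu hun hcomm hur
  obtain ⟨hd1, hd2, hd3⟩ := partA_div h hp hpp hpm hp'm P' hu hun hcomm hrel
  obtain ⟨⟨x, hx, hxu, hxn⟩, hb2, hb3⟩ := block h hp hp' hpp hpm hp'm hup hun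
  obtain ⟨hs1, hs2⟩ := block_sylow h hp hp' hpp hpm hp'm hup hun (r := p) (Or.inl rfl)
  obtain ⟨hs1', hs2'⟩ := block_sylow h hp hp' hpp hpm hp'm hup hun (r := p') (Or.inr rfl)
  have hAp : IsPGroup p (Sc p u) := h3tcs_isPGroup_of_pelt (fun g hg => ((hs1 g).mp hg).2)
  have hA'p : IsPGroup p' (Sc p' u) := h3tcs_isPGroup_of_pelt (fun g hg => ((hs1' g).mp hg).2)
  -- conjugation by an element of the normalizer preserves `C(u)`
  have hNC : ∀ y ∈ Subgroup.normalizer ((Cz u : Subgroup G) : Set G), ∀ g ∈ Cz u, y * g * y⁻¹ ∈ Cz u := by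
    intro y hy g hg
    exact (Subgroup.mem_normalizer_iff.mp hy g).mp hg
  have hAn : ∀ y ∈ Subgroup.normalizer ((Cz u : Subgroup G) : Set G), ∀ a ∈ Sc p u, y * a * y⁻¹ ∈ Sc p u := by
    intro y hy a ha
    have ha' := (hs1 a).mp ha
    exact (hs1 _).mpr ⟨hNC y hy a ha'.1, h3tcs_pelt_conj ha'.2 y⟩
  have hA'n : ∀ y ∈ Subgroup.normalizer ((Cz u : Subgroup G) : Set G), ∀ a ∈ Sc p' u, y * a * y⁻¹ ∈ Sc p' u := by
    intro y hy a ha
    have ha' := (hs1' a).mp ha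
    exact (hs1' _).mpr ⟨hNC y hy a ha'.1, h3tcs_pelt_conj ha'.2 y⟩
  have hfix : ∀ y ∈ Subgroup.normalizer ((Cz u : Subgroup G) : Set G), y ∉ Cz u → ∀ a ∈ Sc p u, y * a = a * y →
      a ∈ Subgroup.center G := by
    intro y hy hyC a ha hya
    by_contra hac
    have han : idx a ≠ 1 := fun h1 => hac (h8_mem_center_of_idx_eq_one h1)
    have ha' := (hs1 a).mp ha
    have hCa : Cz a = Cz u := hb2 a ha'.1 (Or.inl ha'.2) han
    apply hyC
    rw [← hCa]; exact mem_Cz.mpr hya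
  have hfix' : ∀ y ∈ Subgroup.normalizer ((Cz u : Subgroup G) : Set G), y ∉ Cz u → ∀ a ∈ Sc p' u, y * a = a * y →
      a ∈ Subgroup.center G := by
    intro y hy hyC a ha hya
    by_contra hac
    have han : idx a ≠ 1 := fun h1 => hac (h8_mem_center_of_idx_eq_one h1)
    have ha' := (hs1' a).mp ha
    have hCa : Cz a = Cz u := hb2 a ha'.1 (Or.inr ha'.2) han
    apply hyC
    rw [← hCa]; exact mem_Cz.mpr hya
  apply ALc p p' hp hp' hpp (Cz u) (Sc p u) (Sc p' u) (Sc_le p u) (Sc_le p' u) hAp hA'p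
    (fun a ha c hc => hs2 a ha c hc) (fun a ha c hc => hs2' a ha c hc) hAn hA'n hfix hfix'
    ⟨x, mem_Sc hxu hx, fun hc => hxn (h8_idx_eq_one_of_mem_center hc)⟩ ?_ hd1 hd2 hd3
  -- hkey'
  intro y hy hyC hyp
  have huA' : u ∈ Sc p' u := mem_Sc rfl hup
  have hnc : ∃ a ∈ Sc p' u, y * a ≠ a * y := ⟨u, huA', fun hyu => hyC (mem_Cz.mpr hyu)⟩
  obtain ⟨a, ha, hc1, hcfix⟩ := exists_comm_fixed hp' (Sc p' u) hA'p
    (fun a ha b hb => hs2' a ha b (Sc_le p' u hb)) hyp (hA'n y hy) hnc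
  have hcA' : y * a * y⁻¹ * a⁻¹ ∈ Sc p' u := Subgroup.mul_mem _ (hA'n y hy a ha) (Subgroup.inv_mem _ ha)
  exact ⟨a, ha, hfix' y hy hyC _ hcA' hcfix, hc1⟩

end Cfsg.Agent.Lib.Helper1.TCS
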