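import Mathlib

set_option autoImplicit false

/-!
Farm TDM (statement S2342, minimal degree of `³D₄(q)`): the abstract interface.

`K` is the field with `q³` elements, `Fr.φ` its Frobenius `x ↦ x^q` (of order 3), `Fx Fr.φ` the fixed
field (`q` elements).  `Data` collects the root elements of the parabolic `Q : SL₂(q³)` of `³D₄(q)`
(in `G₂`-labelling: `α` long, `β` short; `z = x_{2α+3β}`, `xa = x_α`, `xab = x_{α+β}`,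
`xa2b = x_{α+2β}`, `xa3b = x_{α+3β}`, `xb = x_β`), two Weyl elements and two families of torus
elements; `Rel` lists the relations used.
-/

namespace Cfsg.Agent.Lib.Helper3.TDM

variable {K : Type*} [Field K]

/-- the fixed field of `φ` -/
abbrev Fx (φ : K →+* K) : Subfield K := φ.eqLocusField (RingHom.id K)

theorem mem_Fx (φ : K →+* K) (x : K) : x ∈ Fx φ ↔ φ x = x := Iff.rfl

/-- a field endomorphism of order dividing 3 -/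
structure Frob3 (K : Type*) [Field K] where
  φ : K →+* K
  cube : ∀ x, φ (φ (φ x)) = x

namespace Frob3

variable (Fr : Frob3 K)

theorem fix_coe (r : ↥(Fx Fr.φ)) : Fr.φ (r : K) = r := r.2

/-- the trace `x + φ x + φ² x`, with values in the fixed field -/
def tr3 (x : K) : ↥(Fx Fr.φ) :=
  ⟨x + Fr.φ x + Fr.φ (Fr.φ x), by
    show Fr.φ (x + Fr.φ x + Fr.φ (Fr.φ x)) = x + Fr.φ x + Fr.φ (Fr.φ x)
    rw [map_add, map_add, Fr.cube]; ring⟩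

/-- the norm `x * φ x * φ² x`, with values in the fixed field -/
def nm3 (x : K) : ↥(Fx Fr.φ) :=
  ⟨x * Fr.φ x * Fr.φ (Fr.φ x), by
    show Fr.φ (x * Fr.φ x * Fr.φ (Fr.φ x)) = x * Fr.φ x * Fr.φ (Fr.φ x)
    rw [map_mul, map_mul, Fr.cube]; ring⟩

@[simp] theorem tr3_coe (x : K) : ((Fr.tr3 x : ↥(Fx Fr.φ)) : K) = x + Fr.φ x + Fr.φ (Fr.φ x) := rfl

@[simp] theorem nm3_coe (x : K) : ((Fr.nm3 x : ↥(Fx Fr.φ)) : K) = x * Fr.φ x * Fr.φ (Fr.φ x) := rfl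

/-- the numerical hypotheses: `|K| = q³` and `φ x = x^q`, `q = |Fx φ|` -/
structure Good [Fintype K] [Fintype ↥(Fx Fr.φ)] : Prop where
  card_K : Fintype.card K = Fintype.card ↥(Fx Fr.φ) ^ 3
  pow : ∀ x : K, Fr.φ x = x ^ Fintype.card ↥(Fx Fr.φ)

end Frob3

/-- the elements -/
structure Data (Fr : Frob3 K) (G : Type*) [Group G] where
  z : ↥(Fx Fr.φ) → G
  xa : ↥(Fx Fr.φ) → G
  xab : K → G
  xa2b : K → G
  xa3b : ↥(Fx Fr.φ) → G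
  xb : K → G
  nA : G
  nB : G
  hs : (↥(Fx Fr.φ))ˣ → G
  hu : (↥(Fx Fr.φ))ˣ → G

variable {Fr : Frob3 K} {G : Type*} [Group G]

/-- the general element of `Q = Z X_α X_{α+β} X_{α+2β} X_{α+3β}` -/
def Phi (D : Data Fr G) (r s : ↥(Fx Fr.φ)) (u v : K) (w : ↥(Fx Fr.φ)) : G :=
  D.z r * D.xa s * D.xab u * D.xa2b v * D.xa3b w

/-- the relations -/
structure Rel (D : Data Fr G) : Prop where
  z_zero : D.z 0 = 1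
  xa_zero : D.xa 0 = 1
  xab_zero : D.xab 0 = 1
  xa2b_zero : D.xa2b 0 = 1
  xa3b_zero : D.xa3b 0 = 1
  /-- the multiplication of `Q` -/
  qlaw : ∀ (r s : ↥(Fx Fr.φ)) (u v : K) (w : ↥(Fx Fr.φ)) (R S : ↥(Fx Fr.φ)) (U V : K)
    (W : ↥(Fx Fr.φ)),
    Phi D r s u v w * Phi D R S U V W =
      Phi D (r + R - S * w - Fr.tr3 (U * Fr.φ v)) (s + S) (u + U) (v + V) (w + W)
  /-- the conjugates of `X_α` under `X_β`: the "pure tensors" -/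
  pure : ∀ (t : K) (s : ↥(Fx Fr.φ)), D.xb t * D.xa s * (D.xb t)⁻¹ =
    Phi D (-(s * s * Fr.nm3 t)) s (-((s : K) * t)) (-((s : K) * (t * Fr.φ t))) (-(s * Fr.nm3 t))
  xb_z : ∀ (t : K) (r : ↥(Fx Fr.φ)), D.xb t * D.z r = D.z r * D.xb t
  nA_z : ∀ r : ↥(Fx Fr.φ), D.nA * D.z r * D.nA⁻¹ = D.xa3b (-r)
  nB_z : ∀ r : ↥(Fx Fr.φ), D.nB * D.z r * D.nB⁻¹ = D.z r
  nB_xa : ∀ s : ↥(Fx Fr.φ), D.nB * D.xa s * D.nB⁻¹ = D.xa3b (-s)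
  hs_z : ∀ (a : (↥(Fx Fr.φ))ˣ) (r : ↥(Fx Fr.φ)), D.hs a * D.z r * (D.hs a)⁻¹ = D.z (a * r)
  hs_xa3b : ∀ (a : (↥(Fx Fr.φ))ˣ) (w : ↥(Fx Fr.φ)),
    D.hs a * D.xa3b w * (D.hs a)⁻¹ = D.xa3b (↑(a⁻¹) * w)
  hs_xa2b : ∀ (a : (↥(Fx Fr.φ))ˣ) (v : K), D.hs a * D.xa2b v * (D.hs a)⁻¹ = D.xa2b v
  hu_Phi : ∀ (a : (↥(Fx Fr.φ))ˣ) (r s : ↥(Fx Fr.φ)) (u v : K) (w : ↥(Fx Fr.φ)),
    D.hu a * Phi D r s u v w * (D.hu a)⁻¹ =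
      Phi D (a * a * r) (a * s) (((a : ↥(Fx Fr.φ)) : K) * u) (((a : ↥(Fx Fr.φ)) : K) * v) (a * w)

section mult

variable [Fintype K] [Fintype ↥(Fx Fr.φ)]

/-- `dim C_V(Z)` -/
noncomputable def fZ (D : Data Fr G) (χ : G → ℂ) : ℂ :=
  (Fintype.card ↥(Fx Fr.φ) : ℂ)⁻¹ * ∑ r : ↥(Fx Fr.φ), χ (D.z r)

/-- `dim C_V(Z X_{α+3β})` -/
noncomputable def a00 (D : Data Fr G) (χ : G → ℂ) : ℂ :=
  ((Fintype.card ↥(Fx Fr.φ) : ℂ) * Fintype.card ↥(Fx Fr.φ))⁻¹ *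
    ∑ r : ↥(Fx Fr.φ), ∑ w : ↥(Fx Fr.φ), χ (Phi D r 0 0 0 w)

/-- `dim C_V(Z X_α)` -/
noncomputable def b00 (D : Data Fr G) (χ : G → ℂ) : ℂ :=
  ((Fintype.card ↥(Fx Fr.φ) : ℂ) * Fintype.card ↥(Fx Fr.φ))⁻¹ *
    ∑ r : ↥(Fx Fr.φ), ∑ s : ↥(Fx Fr.φ), χ (Phi D r s 0 0 0)

/-- the multiplicity of the character `(l, n, l')` of the abelian group
`Z X_{α+2β} X_{α+3β} = {Phi r 0 0 v w}` -/
noncomputable def aM (D : Data Fr G) (ψ : AddChar ↥(Fx Fr.φ) ℂ) (χ : G → ℂ)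
    (l : ↥(Fx Fr.φ)) (n : K) (l' : ↥(Fx Fr.φ)) : ℂ :=
  ((Fintype.card ↥(Fx Fr.φ) : ℂ) * Fintype.card K * Fintype.card ↥(Fx Fr.φ))⁻¹ *
    ∑ r : ↥(Fx Fr.φ), ∑ v : K, ∑ w : ↥(Fx Fr.φ),
      ψ (-(l * r)) * ψ (-(Fr.tr3 (n * v))) * ψ (-(l' * w)) * χ (Phi D r 0 0 v w)

/-- the multiplicity of the linear character `(a, b, c, d)` of `Q` (trivial on `Z`) -/
noncomputable def cM (D : Data Fr G) (ψ : AddChar ↥(Fx Fr.φ) ℂ) (χ : G → ℂ)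
    (a : ↥(Fx Fr.φ)) (b c : K) (d : ↥(Fx Fr.φ)) : ℂ :=
  ((Fintype.card ↥(Fx Fr.φ) : ℂ) * (Fintype.card ↥(Fx Fr.φ) * Fintype.card K * Fintype.card K *
      Fintype.card ↥(Fx Fr.φ)))⁻¹ *
    ∑ r : ↥(Fx Fr.φ), ∑ s : ↥(Fx Fr.φ), ∑ u : K, ∑ v : K, ∑ w : ↥(Fx Fr.φ),
      ψ (-(a * s)) * ψ (-(Fr.tr3 (b * u))) * ψ (-(Fr.tr3 (c * v))) * ψ (-(d * w)) *
        χ (Phi D r s u v w)

end mult

end Cfsg.Agent.Lib.Helper3.TDM
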