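import Mathlib
import Cfsg.Agent.Lib.Helper3.TDMDefs

set_option autoImplicit false

/-!
Farm TDM (S2342), unit QL: consequences of the multiplication law of `Q`.
-/

namespace Cfsg.Agent.Lib.Helper3.TDM

variable {K : Type*} [Field K] {Fr : Frob3 K} {G : Type*} [Group G] (D : Data Fr G) (hD : Rel D)

theorem Frob3.tr3_zero_mul (Fr : Frob3 K) (x : K) : Fr.tr3 (0 * x) = 0 := by
  apply Subtype.ext
  simp

theorem Frob3.tr3_zero' (Fr : Frob3 K) : Fr.tr3 0 = 0 := by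
  apply Subtype.ext
  simp

include hD in
theorem Phi_zero : Phi D 0 0 0 0 0 = 1 := by
  unfold Phi
  rw [hD.z_zero, hD.xa_zero, hD.xab_zero, hD.xa2b_zero, hD.xa3b_zero]
  simp

include hD in
theorem Phi_z (r : ↥(Fx Fr.φ)) : Phi D r 0 0 0 0 = D.z r := by
  unfold Phi
  rw [hD.xa_zero, hD.xab_zero, hD.xa2b_zero, hD.xa3b_zero]
  simp

include hD in
theorem Phi_xa (s : ↥(Fx Fr.φ)) : Phi D 0 s 0 0 0 = D.xa s := by
  unfold Phi
  rw [hD.z_zero, hD.xab_zero, hD.xa2b_zero, hD.xa3b_zero]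
  simp

include hD in
theorem Phi_xab (u : K) : Phi D 0 0 u 0 0 = D.xab u := by
  unfold Phi
  rw [hD.z_zero, hD.xa_zero, hD.xa2b_zero, hD.xa3b_zero]
  simp

include hD in
theorem Phi_xa3b (w : ↥(Fx Fr.φ)) : Phi D 0 0 0 0 w = D.xa3b w := by
  unfold Phi
  rw [hD.z_zero, hD.xa_zero, hD.xab_zero, hD.xa2b_zero]
  simp

include hD in
theorem z_mul_Phi (r R S : ↥(Fx Fr.φ)) (U V : K) (W : ↥(Fx Fr.φ)) :
    D.z r * Phi D R S U V W = Phi D (r + R) S U V W := by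
  rw [← Phi_z D hD r, hD.qlaw]
  congr 1
  · simp [Frob3.tr3_zero']
  all_goals simp

include hD in
theorem z_add (r R : ↥(Fx Fr.φ)) : D.z (r + R) = D.z r * D.z R := by
  rw [← Phi_z D hD R, z_mul_Phi D hD, Phi_z D hD]

include hD in
theorem Phi_abel (r : ↥(Fx Fr.φ)) (v : K) (w R : ↥(Fx Fr.φ)) (V : K) (W : ↥(Fx Fr.φ)) :
    Phi D r 0 0 v w * Phi D R 0 0 V W = Phi D (r + R) 0 0 (v + V) (w + W) := by
  rw [hD.qlaw]
  congr 1
  · simp [Frob3.tr3_zero']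
  all_goals simp

include hD in
theorem xa_conj (S r : ↥(Fx Fr.φ)) (v : K) (w : ↥(Fx Fr.φ)) :
    D.xa S * Phi D r 0 0 v w * (D.xa S)⁻¹ = Phi D (r + S * w) 0 0 v w := by
  rw [mul_inv_eq_iff_eq_mul, ← Phi_xa D hD S, hD.qlaw, hD.qlaw]
  congr 1
  · simp [Frob3.tr3_zero']
  all_goals simp

include hD in
theorem xab_conj (U : K) (r : ↥(Fx Fr.φ)) (v : K) (w : ↥(Fx Fr.φ)) :
    D.xab U * Phi D r 0 0 v w * (D.xab U)⁻¹ = Phi D (r + Fr.tr3 (U * Fr.φ v)) 0 0 v w := by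
  rw [mul_inv_eq_iff_eq_mul, ← Phi_xab D hD U, hD.qlaw, hD.qlaw]
  congr 1
  · simp [Frob3.tr3_zero']
  all_goals simp

include hD in
theorem Phi_abel_form (r : ↥(Fx Fr.φ)) (v : K) (w : ↥(Fx Fr.φ)) :
    Phi D r 0 0 v w = D.z r * D.xa2b v * D.xa3b w := by
  unfold Phi
  rw [hD.xa_zero, hD.xab_zero]
  simp

include hD in
theorem hs_conj (a : (↥(Fx Fr.φ))ˣ) (r : ↥(Fx Fr.φ)) (v : K) (w : ↥(Fx Fr.φ)) :
    D.hs a * Phi D r 0 0 v w * (D.hs a)⁻¹ = Phi D (a * r) 0 0 v (↑(a⁻¹) * w) := by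
  rw [Phi_abel_form D hD, Phi_abel_form D hD, ← hD.hs_z a r, ← hD.hs_xa3b a w]
  nth_rewrite 2 [← hD.hs_xa2b a v]
  group

include hD in
theorem xb_conj (t : K) (r s : ↥(Fx Fr.φ)) :
    D.xb t * Phi D r s 0 0 0 * (D.xb t)⁻¹ =
      Phi D (r - s * s * Fr.nm3 t) s (-((s : K) * t)) (-((s : K) * (t * Fr.φ t)))
        (-(s * Fr.nm3 t)) := by
  have h1 : Phi D r s 0 0 0 = D.z r * D.xa s := by
    unfold Phi
    rw [hD.xab_zero, hD.xa2b_zero, hD.xa3b_zero]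
    simp
  rw [h1, ← mul_assoc, hD.xb_z, mul_assoc, mul_assoc, ← mul_assoc (D.xb t), hD.pure,
    z_mul_Phi D hD, sub_eq_add_neg]

include hD in
theorem nB_conj (r s : ↥(Fx Fr.φ)) :
    D.nB * Phi D r s 0 0 0 * D.nB⁻¹ = Phi D r 0 0 0 (-s) := by
  have h1 : Phi D r s 0 0 0 = D.z r * D.xa s := by
    unfold Phi
    rw [hD.xab_zero, hD.xa2b_zero, hD.xa3b_zero]
    simp
  have h2 : Phi D r 0 0 0 (-s) = D.z r * D.xa3b (-s) := by
    unfold Phi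
    rw [hD.xa_zero, hD.xab_zero, hD.xa2b_zero]
    simp
  rw [h1, h2]
  have h3 : D.nB * (D.z r * D.xa s) * D.nB⁻¹ = (D.nB * D.z r * D.nB⁻¹) * (D.nB * D.xa s * D.nB⁻¹) := by
    group
  rw [h3, hD.nB_z r, hD.nB_xa s]

end Cfsg.Agent.Lib.Helper3.TDM
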