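import Mathlib

/-!
# Farm TGS (S3161): definitions

`Q` a nonabelian `2`-group with commuting automorphisms `α` (order 2), `ρ` (order `q-1`), `Fix α`
elementary abelian of order `q = 2^n` with `⟨ρ⟩` transitive on it: `Q` is a Sylow `2`-subgroup of
`PSL₃(q)` or `PSU₃(q)`.

Everything is over a finite field `F` of characteristic 2 with a generator `mu` of `Fˣ`.
-/

set_option autoImplicit false

namespace Cfsg.Agent.Lib.Helper3.TGSDefs

/-- the subgroup of fixed points of an automorphism -/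
def fixSub {G : Type*} [Group G] (α : MulAut G) : Subgroup G where
  carrier := {x | α x = x}
  one_mem' := map_one α
  mul_mem' := by
    intro a b ha hb
    change α a = a at ha
    change α b = b at hb
    change α (a * b) = a * b
    rw [map_mul, ha, hb]
  inv_mem' := by
    intro a ha
    change α a = a at ha
    change α a⁻¹ = a⁻¹
    rw [map_inv, ha]

theorem mem_fixSub {G : Type*} [Group G] (α : MulAut G) (x : G) : x ∈ fixSub α ↔ α x = x :=
  Iff.rfl

/-- Hypothesis (H): `ι : (F,+) → G` is an injective homomorphism onto `Fix α`, the commuting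
automorphisms satisfy `α² = 1`, `ρ^(|F|-1) = 1`, and `ρ` acts on `Fix α ≅ F` as `mu²`. -/
structure Hyp {F : Type} [Field F] [Fintype F] (mu : F) {G : Type*} [Group G]
    (α ρ : MulAut G) (ι : F → G) : Prop where
  alpha_sq : ∀ x, α (α x) = x
  comm : ∀ x, α (ρ x) = ρ (α x)
  rho_pow : ∀ x, (ρ ^ (Fintype.card F - 1)) x = x
  iota_add : ∀ a b, ι (a + b) = ι a * ι b
  iota_inj : Function.Injective ι
  iota_fix : ∀ x, α x = x ↔ ∃ a, ι a = x
  iota_rho : ∀ a, ρ (ι a) = ι (mu ^ 2 * a)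

/-- `p : G → B` is "the quotient of `G` by `Fix α`" with the induced automorphisms. -/
structure Quo {G : Type*} {B : Type*} [Group G] [Group B] (α ρ : MulAut G) (α' ρ' : MulAut B)
    (p : G →* B) : Prop where
  surj : Function.Surjective p
  ker : ∀ g, p g = 1 ↔ α g = g
  alpha : ∀ g, α' (p g) = p (α g)
  rho : ∀ g, ρ' (p g) = p (ρ g)

/-- a top factor: a surjective `ρ`-equivariant homomorphism onto the `F`-line (weight `mu²`). -/
def Top {F : Type} [Field F] (mu : F) {G : Type*} [Group G] (ρ : MulAut G) : Prop :=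
  ∃ π : G → F, (∀ g h, π (g * h) = π g + π h) ∧ Function.Surjective π ∧
    ∀ g, π (ρ g) = mu ^ 2 * π g

/-- `G` is a central extension of `(F,+)` (via `ι`) by `(F × F,+)` (via `(β₁, β₂)`) with squaring
map `σ`. -/
structure Ext3 {F : Type} [Field F] {G : Type*} [Group G] (σ : F → F → F) (ι : F → G)
    (β₁ β₂ : G → F) : Prop where
  iota_add : ∀ a b, ι (a + b) = ι a * ι b
  iota_inj : Function.Injective ι
  central : ∀ a g, ι a * g = g * ι a
  b1_mul : ∀ g h, β₁ (g * h) = β₁ g + β₁ h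
  b2_mul : ∀ g h, β₂ (g * h) = β₂ g + β₂ h
  surj : ∀ a b, ∃ g, β₁ g = a ∧ β₂ g = b
  ker : ∀ g, (β₁ g = 0 ∧ β₂ g = 0) ↔ ∃ a, ι a = g
  sq : ∀ g, g ^ 2 = ι (σ (β₁ g) (β₂ g))

/-- the squaring form `a² + ab + τb²` -/
def sig {F : Type} [Field F] (τ : F) (a b : F) : F := a ^ 2 + a * b + τ * b ^ 2

/-- the structure of the nonabelian groups satisfying (H) -/
def Struct3 {F : Type} [Field F] (mu : F) {G : Type*} [Group G] (α ρ : MulAut G) (ι : F → G) :
    Prop :=
  ∃ (β₁ β₂ : G → F) (τ : F), Ext3 (sig τ) ι β₁ β₂ ∧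
    (∀ g, β₁ (ρ g) = mu * β₁ g) ∧ (∀ g, β₂ (ρ g) = mu * β₂ g) ∧
    (∀ g, β₁ (α g) = β₁ g + β₂ g) ∧ (∀ g, β₂ (α g) = β₂ g)

/-- coordinates `(X, W) : B ≃ F × F` on an elementary abelian `B` with (H) and `B ≠ Fix α'` -/
structure Coord2Data {F : Type} [Field F] (mu : F) {B : Type*} [Group B] (α' ρ' : MulAut B)
    (ι' : F → B) (X W : B → F) : Prop where
  X_mul : ∀ b c, X (b * c) = X b + X c
  W_mul : ∀ b c, W (b * c) = W b + W c
  surj : ∀ x w, ∃ b, X b = x ∧ W b = w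
  inj : ∀ b, X b = 0 → W b = 0 → b = 1
  X_iota : ∀ x, X (ι' x) = x
  W_iota : ∀ x, W (ι' x) = 0
  X_rho : ∀ b, X (ρ' b) = mu ^ 2 * X b
  W_rho : ∀ b, W (ρ' b) = mu ^ 2 * W b
  X_alpha : ∀ b, X (α' b) = X b + W b
  W_alpha : ∀ b, W (α' b) = W b

/-- the squaring map of `G` in the coordinates `(X, W)` of `B = G / Fix α`: `g² = ι (S (X (p g)) (W (p g)))`,
commutators are `ι` of the polar form of `S`, the polar form is bi-additive, `S` is `ρ`-equivariant
and `α`-invariant. -/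
structure SqData {F : Type} [Field F] (mu : F) {G : Type*} {B : Type*} [Group G] [Group B]
    (ι : F → G) (p : G →* B) (X W : B → F) (S : F → F → F) : Prop where
  sq : ∀ g, g ^ 2 = ι (S (X (p g)) (W (p g)))
  comm : ∀ g h : G, g * h * g⁻¹ * h⁻¹ = ι (S (X (p g) + X (p h)) (W (p g) + W (p h)) +
    S (X (p g)) (W (p g)) + S (X (p h)) (W (p h)))
  polar : ∀ x w x₁ w₁ x₂ w₂ : F,
    S (x + x₁ + x₂) (w + w₁ + w₂) + S (x + x₁) (w + w₁) + S x₂ w₂ =
      (S (x + x₂) (w + w₂) + S x w + S x₂ w₂) + (S (x₁ + x₂) (w₁ + w₂) + S x₁ w₁ + S x₂ w₂)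
  equiv : ∀ x w, S (mu ^ 2 * x) (mu ^ 2 * w) = mu ^ 2 * S x w
  alpha : ∀ x w, S (x + w) w = S x w

section basic

variable {F : Type} [Field F] [Fintype F] [CharP F 2]

omit [Fintype F] in
theorem add_self' (x : F) : x + x = 0 := CharTwo.add_self_eq_zero x

theorem exists_sq (x : F) : ∃ y : F, y ^ 2 = x := by
  have h := (frobeniusEquiv F 2).surjective x
  obtain ⟨y, hy⟩ := h
  exact ⟨y, by simpa [frobeniusEquiv_apply, frobenius_def] using hy⟩

theorem sq_inj {x y : F} (h : x ^ 2 = y ^ 2) : x = y := by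
  have := (frobeniusEquiv F 2).injective (a₁ := x) (a₂ := y)
    (by simpa [frobeniusEquiv_apply, frobenius_def] using h)
  exact this

/-- the square root (inverse Frobenius) -/
noncomputable def sqrtF (x : F) : F := Classical.choose (exists_sq x)

theorem sqrtF_sq (x : F) : sqrtF x ^ 2 = x := Classical.choose_spec (exists_sq x)

theorem sqrtF_of_sq (x : F) : sqrtF (x ^ 2) = x := sq_inj (sqrtF_sq _)

theorem sqrtF_add (x y : F) : sqrtF (x + y) = sqrtF x + sqrtF y := by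
  apply sq_inj
  rw [sqrtF_sq, add_pow_char, sqrtF_sq, sqrtF_sq]

theorem sqrtF_mul (x y : F) : sqrtF (x * y) = sqrtF x * sqrtF y := by
  apply sq_inj
  rw [sqrtF_sq, mul_pow, sqrtF_sq, sqrtF_sq]

theorem sqrtF_zero : sqrtF (0 : F) = 0 := by
  apply sq_inj
  rw [sqrtF_sq]; ring

theorem sqrtF_eq_zero {x : F} (h : sqrtF x = 0) : x = 0 := by
  rw [← sqrtF_sq x, h]; ring

theorem odd_card_sub_one : Odd (Fintype.card F - 1) := by
  obtain ⟨n, hp, hn⟩ := FiniteField.card F 2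
  rw [hn]
  have h1 : 1 ≤ 2 ^ (n : ℕ) := Nat.one_le_two_pow
  have h2 : Even (2 ^ (n : ℕ)) := (Nat.even_pow.mpr ⟨even_two, n.ne_zero⟩)
  exact Nat.Even.sub_odd h1 h2 odd_one

/-- `mu²` is a generator too -/
theorem gen_sq {mu : F} (hmu : ∀ x : F, x ≠ 0 → ∃ k : ℕ, x = mu ^ k) :
    ∀ x : F, x ≠ 0 → ∃ k : ℕ, x = (mu ^ 2) ^ k := by
  intro x hx
  obtain ⟨y, hy⟩ := exists_sq x
  have hy0 : y ≠ 0 := by
    rintro rfl
    apply hx
    rw [← hy]; ring
  obtain ⟨k, hk⟩ := hmu y hy0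
  exact ⟨k, by rw [← hy, hk]; ring⟩

end basic

end Cfsg.Agent.Lib.Helper3.TGSDefs
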