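import Mathlib

set_option autoImplicit false
set_option maxHeartbeats 4000000
set_option maxRecDepth 100000
set_option linter.unusedVariables false
set_option linter.unusedSectionVars false
set_option linter.style.longLine false
set_option linter.unusedSimpArgs false
set_option linter.deprecated false
set_option linter.style.haveILetI false

/-! # Doubly transitive groups of degree `2 mod 4`: basic definitions (for S3401) -/

namespace Cfsg.Agent.Lib.Helper3.TwoMod4

open MulAction

/-- The subgroup `H` of `G` is doubly transitive on `Ω`. -/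
def TwoTrans {G : Type*} [Group G] (Ω : Type*) [MulAction G Ω] (H : Subgroup G) : Prop :=
  ∀ a b c d : Ω, a ≠ b → c ≠ d → ∃ h ∈ H, h • a = c ∧ h • b = d

/-- The data produced from a Sylow `2`-subgroup `S` of a transitive normal subgroup `N`
in degree `2 mod 4`: `Q` is a Sylow `2`-subgroup of the point stabilizer `N_a`, of index `2` in `S`,
`s ∈ S` swaps `a` and `a'`, `s ^ 2 ∈ Q`, `2 ^ (q + 1)` is the exact power of `2` dividing `|N|`,
`2 ^ q` the exact power of `2` dividing the order of every two point stabilizer in `N`. -/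
structure Dat {G : Type*} [Group G] (Ω : Type*) [MulAction G Ω] (N : Subgroup G) where
  q : ℕ
  Q : Subgroup G
  S : Subgroup G
  s : G
  a : Ω
  a' : Ω
  hne : a ≠ a'
  hQS : Q ≤ S
  hSN : S ≤ N
  hQcard : Nat.card Q = 2 ^ q
  hScard : Nat.card S = 2 ^ (q + 1)
  hSnorm : S ≤ Subgroup.normalizer (Q : Set G)
  hQa : ∀ x ∈ Q, x • a = a
  hQa' : ∀ x ∈ Q, x • a' = a'
  hsS : s ∈ S
  hsa : s • a = a'
  hsa' : s • a' = a
  hs2 : s * s ∈ Q
  hstab : ∀ c : Ω, ¬ 2 ^ (q + 1) ∣ Nat.card (N ⊓ stabilizer G c : Subgroup G)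
  hstab2 : ∀ c d : Ω, c ≠ d → 2 ^ q ∣ Nat.card (N ⊓ stabilizer G c ⊓ stabilizer G d : Subgroup G)
  hN : ¬ 2 ^ (q + 2) ∣ Nat.card N

end Cfsg.Agent.Lib.Helper3.TwoMod4
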