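import Mathlib
import Cfsg.Prelude.Def_PLocal

set_option autoImplicit false

namespace Cfsg.Agent.Lib.Helper3.PU2769

section J
variable {G : Type*} [Group G]

/-- the abelian subgroups of `S` of largest order, as subgroups of the ambient group -/
def maxAbG (S : Subgroup G) : Set (Subgroup G) :=
  {A | A ≤ S ∧ (∀ a ∈ A, ∀ b ∈ A, a * b = b * a) ∧
    ∀ B : Subgroup G, B ≤ S → (∀ a ∈ B, ∀ b ∈ B, a * b = b * a) → Nat.card B ≤ Nat.card A}

theorem isMulCommutative_iff_forall (S : Subgroup G) (A₀ : Subgroup S) :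
    IsMulCommutative A₀ ↔ ∀ a ∈ A₀.map S.subtype, ∀ b ∈ A₀.map S.subtype, a * b = b * a := by
  rw [isMulCommutative_iff]
  constructor
  · rintro h _ ⟨a, ha, rfl⟩ _ ⟨b, hb, rfl⟩
    have := h ⟨a, ha⟩ ⟨b, hb⟩
    have h2 := congrArg (fun z : A₀ => ((z : S) : G)) this
    simpa using h2
  · intro h a b
    apply Subtype.ext; apply Subtype.ext
    exact h _ ⟨a.1, a.2, rfl⟩ _ ⟨b.1, b.2, rfl⟩

theorem card_map_subtype (S : Subgroup G) (A₀ : Subgroup S) :
    Nat.card (A₀.map S.subtype) = Nat.card A₀ :=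
  Subgroup.card_map_of_injective S.subtype_injective

theorem map_mem_maxAbG (S : Subgroup G) (A₀ : Subgroup S) (h : A₀ ∈ Cfsg.maxAbelianSubgroups S) :
    A₀.map S.subtype ∈ maxAbG S := by
  refine ⟨Subgroup.map_subtype_le _, (isMulCommutative_iff_forall S A₀).1 h.1, ?_⟩
  intro B hBS hB
  have hB' : IsMulCommutative (B.subgroupOf S) := by
    rw [isMulCommutative_iff_forall, Subgroup.map_subgroupOf_eq_of_le hBS]
    exact hB
  have := h.2 (B.subgroupOf S) hB'
  rw [card_map_subtype]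
  calc Nat.card B = Nat.card (B.subgroupOf S) :=
        (Nat.card_congr (Subgroup.subgroupOfEquivOfLe hBS).toEquiv).symm
    _ ≤ _ := this

theorem subgroupOf_mem_maxAb (S A : Subgroup G) (h : A ∈ maxAbG S) :
    A.subgroupOf S ∈ Cfsg.maxAbelianSubgroups S := by
  obtain ⟨hAS, hA, hmax⟩ := h
  refine ⟨?_, ?_⟩
  · rw [isMulCommutative_iff_forall, Subgroup.map_subgroupOf_eq_of_le hAS]; exact hA
  · intro B₀ hB₀
    have := hmax (B₀.map S.subtype) (Subgroup.map_subtype_le _)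
      ((isMulCommutative_iff_forall S B₀).1 hB₀)
    rw [card_map_subtype] at this
    calc Nat.card B₀ ≤ Nat.card A := this
      _ = Nat.card (A.subgroupOf S) :=
        (Nat.card_congr (Subgroup.subgroupOfEquivOfLe hAS).toEquiv).symm

/-- `J(S)` (abelian version) is the join of the members of `maxAbG S` -/
theorem thompsonAOf_eq_sSup (S : Subgroup G) :
    Cfsg.thompsonSubgroupAOf S = sSup (maxAbG S) := by
  unfold Cfsg.thompsonSubgroupAOf Cfsg.thompsonSubgroupA
  apply le_antisymm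
  · rw [Subgroup.map_le_iff_le_comap]
    apply sSup_le
    intro A₀ hA₀
    rw [← Subgroup.map_le_iff_le_comap]
    exact le_sSup (map_mem_maxAbG S A₀ hA₀)
  · apply sSup_le
    intro A hA
    rw [← Subgroup.map_subgroupOf_eq_of_le hA.1]
    exact Subgroup.map_mono (le_sSup (subgroupOf_mem_maxAb S A hA))

theorem le_thompsonAOf (S A : Subgroup G) (h : A ∈ maxAbG S) : A ≤ Cfsg.thompsonSubgroupAOf S := by
  rw [thompsonAOf_eq_sSup]; exact le_sSup h

theorem thompsonAOf_le (S : Subgroup G) : Cfsg.thompsonSubgroupAOf S ≤ S := by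
  unfold Cfsg.thompsonSubgroupAOf
  exact Subgroup.map_subtype_le _

theorem maxAbG_nonempty [Finite G] (S : Subgroup G) : (maxAbG S).Nonempty := by
  classical
  let 𝒞 : Set (Subgroup G) := {A | A ≤ S ∧ ∀ a ∈ A, ∀ b ∈ A, a * b = b * a}
  have hne : 𝒞.Nonempty := ⟨⊥, bot_le, by
    intro a ha b hb
    rw [Subgroup.mem_bot] at ha hb
    rw [ha, hb]⟩
  obtain ⟨A, hA, hmax⟩ := Set.exists_max_image 𝒞 (fun A => Nat.card A) (Set.toFinite _) hne
  exact ⟨A, hA.1, hA.2, fun B hBS hB => hmax B ⟨hBS, hB⟩⟩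

/-- (CHAR) `J(T) = J(S)` whenever `J(S) ≤ T ≤ S`. -/
theorem maxAbG_eq_of_le [Finite G] (S T : Subgroup G) (hTS : T ≤ S)
    (hJT : Cfsg.thompsonSubgroupAOf S ≤ T) : maxAbG T = maxAbG S := by
  have h1 : ∀ A ∈ maxAbG S, A ∈ maxAbG T := by
    intro A hA
    refine ⟨(le_thompsonAOf S A hA).trans hJT, hA.2.1, ?_⟩
    intro B hBT hB
    exact hA.2.2 B (hBT.trans hTS) hB
  ext A
  constructor
  · intro hA
    obtain ⟨A1, hA1⟩ := maxAbG_nonempty S
    have hA1T := h1 A1 hA1
    refine ⟨hA.1.trans hTS, hA.2.1, ?_⟩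
    intro B hBS hB
    exact (hA1.2.2 B hBS hB).trans (hA.2.2 A1 hA1T.1 hA1T.2.1)
  · exact h1 A

theorem thompsonAOf_eq_of_le [Finite G] (S T : Subgroup G) (hTS : T ≤ S)
    (hJT : Cfsg.thompsonSubgroupAOf S ≤ T) :
    Cfsg.thompsonSubgroupAOf T = Cfsg.thompsonSubgroupAOf S := by
  rw [thompsonAOf_eq_sSup, thompsonAOf_eq_sSup, maxAbG_eq_of_le S T hTS hJT]

theorem centerThompsonAOf_eq_of_le [Finite G] (S T : Subgroup G) (hTS : T ≤ S)
    (hJT : Cfsg.thompsonSubgroupAOf S ≤ T) :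
    Cfsg.centerThompsonAOf T = Cfsg.centerThompsonAOf S := by
  unfold Cfsg.centerThompsonAOf
  rw [thompsonAOf_eq_of_le S T hTS hJT]

/-- `C_T(ZJ(T)) = T ∩ C_S(ZJ(S))` whenever `J(S) ≤ T ≤ S`. -/
theorem cent_centerThompsonAOf_eq_of_le [Finite G] (S T : Subgroup G) (hTS : T ≤ S)
    (hJT : Cfsg.thompsonSubgroupAOf S ≤ T) :
    T ⊓ Subgroup.centralizer (Cfsg.centerThompsonAOf T : Set G) =
      T ⊓ (S ⊓ Subgroup.centralizer (Cfsg.centerThompsonAOf S : Set G)) := by
  rw [centerThompsonAOf_eq_of_le S T hTS hJT, ← inf_assoc, inf_eq_left.2 hTS]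

end J

section conj
variable {G : Type*} [Group G]

theorem map_conj_mem_maxAbG (T A : Subgroup G) (x : G) (hx : x ∈ Subgroup.normalizer (T : Set G))
    (hA : A ∈ maxAbG T) : A.map (MulAut.conj x).toMonoidHom ∈ maxAbG T := by
  obtain ⟨hAT, hAc, hmax⟩ := hA
  refine ⟨?_, ?_, ?_⟩
  · rintro _ ⟨a, ha, rfl⟩
    show x * a * x⁻¹ ∈ T
    exact (Subgroup.mem_normalizer_iff.1 hx a).1 (hAT ha)
  · rintro _ ⟨a, ha, rfl⟩ _ ⟨b, hb, rfl⟩
    show x * a * x⁻¹ * (x * b * x⁻¹) = x * b * x⁻¹ * (x * a * x⁻¹)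
    have := hAc a ha b hb
    calc x * a * x⁻¹ * (x * b * x⁻¹) = x * (a * b) * x⁻¹ := by group
      _ = x * (b * a) * x⁻¹ := by rw [this]
      _ = _ := by group
  · intro B hBT hB
    rw [Subgroup.card_map_of_injective (MulAut.conj x).injective]
    exact hmax B hBT hB

/-- (CONJ) the normaliser of `T` normalises `J(T)`. -/
theorem normalizer_le_normalizer_thompsonAOf (T : Subgroup G) :
    Subgroup.normalizer (T : Set G) ≤ Subgroup.normalizer (Cfsg.thompsonSubgroupAOf T : Set G) := by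
  have key : ∀ x ∈ Subgroup.normalizer (T : Set G), ∀ g ∈ Cfsg.thompsonSubgroupAOf T,
      x * g * x⁻¹ ∈ Cfsg.thompsonSubgroupAOf T := by
    intro x hx g hg
    have hle : (Cfsg.thompsonSubgroupAOf T).map (MulAut.conj x).toMonoidHom ≤
        Cfsg.thompsonSubgroupAOf T := by
      rw [thompsonAOf_eq_sSup, Subgroup.map_le_iff_le_comap]
      apply sSup_le
      intro A hA
      rw [← Subgroup.map_le_iff_le_comap]
      exact le_sSup (map_conj_mem_maxAbG T A x hx hA)
    exact hle ⟨g, hg, rfl⟩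
  intro x hx
  rw [Subgroup.mem_normalizer_iff]
  intro g
  refine ⟨key x hx g, fun h => ?_⟩
  have := key x⁻¹ (Subgroup.inv_mem _ hx) _ h
  simpa [mul_assoc] using this

theorem normalizer_le_normalizer_centralizer (H : Subgroup G) :
    Subgroup.normalizer (H : Set G) ≤ Subgroup.normalizer (Subgroup.centralizer (H : Set G) : Set G) := by
  have key : ∀ x ∈ Subgroup.normalizer (H : Set G), ∀ g ∈ Subgroup.centralizer (H : Set G),
      x * g * x⁻¹ ∈ Subgroup.centralizer (H : Set G) := by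
    intro x hx g hg
    rw [Subgroup.mem_centralizer_iff] at hg ⊢
    intro h hh
    have h1 : x⁻¹ * h * x ∈ H := by
      have := (Subgroup.mem_normalizer_iff.1 (Subgroup.inv_mem _ hx) h).1 hh
      simpa using this
    have h2 := hg _ h1
    calc h * (x * g * x⁻¹) = x * ((x⁻¹ * h * x) * g) * x⁻¹ := by group
      _ = x * (g * (x⁻¹ * h * x)) * x⁻¹ := by rw [h2]
      _ = _ := by group
  intro x hx
  rw [Subgroup.mem_normalizer_iff]
  intro g
  refine ⟨key x hx g, fun h => ?_⟩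
  have := key x⁻¹ (Subgroup.inv_mem _ hx) _ h
  simpa [mul_assoc] using this

theorem mem_normalizer_inf (H K : Subgroup G) (x : G) (hH : x ∈ Subgroup.normalizer (H : Set G))
    (hK : x ∈ Subgroup.normalizer (K : Set G)) :
    x ∈ Subgroup.normalizer ((H ⊓ K : Subgroup G) : Set G) := by
  rw [Subgroup.mem_normalizer_iff] at hH hK ⊢
  intro g
  rw [Subgroup.mem_inf, Subgroup.mem_inf, hH g, hK g]

theorem normalizer_le_normalizer_centerThompsonAOf (T : Subgroup G) :
    Subgroup.normalizer (T : Set G) ≤ Subgroup.normalizer (Cfsg.centerThompsonAOf T : Set G) := by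
  intro x hx
  unfold Cfsg.centerThompsonAOf
  have h1 := normalizer_le_normalizer_thompsonAOf T hx
  exact mem_normalizer_inf _ _ x h1 (normalizer_le_normalizer_centralizer _ h1)

theorem normalizer_le_normalizer_cent_centerThompsonAOf (T : Subgroup G) :
    Subgroup.normalizer (T : Set G) ≤
      Subgroup.normalizer ((T ⊓ Subgroup.centralizer (Cfsg.centerThompsonAOf T : Set G) : Subgroup G) : Set G) := by
  intro x hx
  exact mem_normalizer_inf _ _ x hx
    (normalizer_le_normalizer_centralizer _ (normalizer_le_normalizer_centerThompsonAOf T hx))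

/-- (S3) the three subgroups step. -/
theorem comm_centralized (What W Q Q0 L : Subgroup G) (hWL : ⁅What, L⁆ ≤ W) (hWQ : ⁅W, Q⁆ = ⊥)
    (hLQ : ⁅L, Q⁆ ≤ Q0) (hQ0 : ⁅Q0, What⁆ = ⊥) : ⁅⁅Q, What⁆, L⁆ = ⊥ := by
  apply Subgroup.commutator_commutator_eq_bot_of_rotate
  · exact le_bot_iff.1 (hWQ ▸ Subgroup.commutator_mono hWL le_rfl)
  · exact le_bot_iff.1 (hQ0 ▸ Subgroup.commutator_mono hLQ le_rfl)

end conj

end Cfsg.Agent.Lib.Helper3.PU2769
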