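import Mathlib
import Cfsg.Prelude.Def_PLocal
import Cfsg.Agent.Lib.Helper2.BAUFrame
import Cfsg.Agent.Lib.Helper3.PU2769a

/-!
# S2769 / S2768 farm units (owner helper2): `conj_mem`, `Jt_eq_of_le`, `s3`, verbatim to the stubs
-/

set_option autoImplicit false

namespace Cfsg.Agent.Lib.Helper3.BAUa

open Cfsg.Agent.Lib.Helper2.BAU
open scoped commutatorElement

variable {G : Type*} [Group G] [Finite G]

/-- conjugation by an element of the normaliser maps the subgroup into itself -/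
theorem conj_mem_of_mem_normalizer (H : Subgroup G) (x : G)
    (hx : x ∈ Subgroup.normalizer (H : Set G)) : ∀ y ∈ H, x * y * x⁻¹ ∈ H :=
  fun y hy => (Subgroup.mem_normalizer_iff.1 hx y).1 hy

/-- (CONJ) `J`, `ZJ`, `Jt` of `T` are invariant under `N_G(T)` -/
theorem conj_mem (T : Subgroup G) (x : G) (hx : x ∈ Subgroup.normalizer (T : Set G)) :
    (∀ y ∈ JJ T, x * y * x⁻¹ ∈ JJ T) ∧ (∀ y ∈ ZJ T, x * y * x⁻¹ ∈ ZJ T) ∧
    (∀ y ∈ Jt T, x * y * x⁻¹ ∈ Jt T) := by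
  have h1 := Cfsg.Agent.Lib.Helper3.PU2769.normalizer_le_normalizer_thompsonAOf T hx
  have h2 := Cfsg.Agent.Lib.Helper3.PU2769.normalizer_le_normalizer_centerThompsonAOf T hx
  have h3 := Cfsg.Agent.Lib.Helper3.PU2769.normalizer_le_normalizer_cent_centerThompsonAOf T hx
  rw [thompsonAOf_eq] at h1
  rw [centerThompsonAOf_eq] at h2 h3
  exact ⟨conj_mem_of_mem_normalizer _ x h1, conj_mem_of_mem_normalizer _ x h2,
    conj_mem_of_mem_normalizer _ x h3⟩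

/-- (CHAR) `C_T(ZJ(T)) = C_S(ZJ(S))` when `C_S(ZJ(S)) ≤ T ≤ S` -/
theorem Jt_eq_of_le (S T : Subgroup G) (hTS : T ≤ S) (hJT : Jt S ≤ T) : Jt T = Jt S := by
  have hJ : Cfsg.thompsonSubgroupAOf S ≤ T := by
    rw [thompsonAOf_eq]; exact (JJ_le_Jt S).trans hJT
  have h := Cfsg.Agent.Lib.Helper3.PU2769.cent_centerThompsonAOf_eq_of_le S T hTS hJ
  rw [centerThompsonAOf_eq, centerThompsonAOf_eq] at h
  show T ⊓ Subgroup.centralizer (ZJ T : Set G) = Jt S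
  rw [h]
  exact inf_eq_right.2 hJT

/-- (S3) -/
theorem s3 (S Q : Subgroup G) (hQW : Q ≤ Subgroup.centralizer (WW S : Set G))
    (hWL : ∀ u ∈ What S, ∀ c ∈ LL S, u * c * u⁻¹ * c⁻¹ ∈ WW S)
    (hLQ : ∀ x ∈ LL S, ∀ g ∈ Q, x * g * x⁻¹ * g⁻¹ ∈ Q0 S) :
    ∀ u ∈ What S, ∀ g ∈ Q, ∀ c ∈ LL S,
      c * (u * g * u⁻¹ * g⁻¹) = (u * g * u⁻¹ * g⁻¹) * c := by
  have h1 : ⁅What S, LL S⁆ ≤ WW S := by
    rw [Subgroup.commutator_le]
    intro u hu c hc
    exact hWL u hu c hc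
  have h2 : ⁅WW S, Q⁆ = ⊥ := by
    rw [Subgroup.commutator_eq_bot_iff_le_centralizer, Subgroup.le_centralizer_iff]
    exact hQW
  have h3 : ⁅LL S, Q⁆ ≤ Q0 S := by
    rw [Subgroup.commutator_le]
    intro x hx g hg
    exact hLQ x hx g hg
  have h4 : ⁅Q0 S, What S⁆ = ⊥ := by
    rw [Subgroup.commutator_eq_bot_iff_le_centralizer]
    exact inf_le_right
  have key := Cfsg.Agent.Lib.Helper3.PU2769.comm_centralized (What S) (WW S) Q (Q0 S) (LL S)
    h1 h2 h3 h4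
  rw [Subgroup.commutator_eq_bot_iff_le_centralizer] at key
  intro u hu g hg c hc
  have hmem : u * g * u⁻¹ * g⁻¹ ∈ ⁅Q, What S⁆ := by
    rw [Subgroup.commutator_comm]
    exact Subgroup.commutator_mem_commutator hu hg
  have := key hmem
  rw [Subgroup.mem_centralizer_iff] at this
  exact this c hc

end Cfsg.Agent.Lib.Helper3.BAUa
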