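import Cfsg.Agent.Lib.Helper3.HHC8
import Cfsg.Agent.Lib.Helper3.HHB3
import Cfsg.Agent.Lib.Helper1.HH2
import Cfsg.Agent.Lib.Helper2.HHDual

/-!
# Hall–Higman Theorem B: reduction of the general case to `HHC8.main`

* `conjAutOfNormalizes` : conjugation by a normalizing element as an automorphism of a subgroup.
* `theoremB_abstract` : Theorem B for a faithful representation over an algebraically closed field.
* `bcHom` : base change of endomorphisms to an extension field (via matrices), an injective ring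
  homomorphism.
-/

namespace Cfsg.Agent.Lib.Helper3.HHC9

open Module Cfsg

universe u v w

/-- Conjugation by a normalizing element as an automorphism of a subgroup. -/
def conjAutOfNormalizes {G : Type*} [Group G] (Q : Subgroup G) (x : G)
    (hx : ∀ h, h ∈ Q ↔ x * h * x⁻¹ ∈ Q) : MulAut Q where
  toFun g := ⟨x * g * x⁻¹, (hx g).mp g.2⟩
  invFun g := ⟨x⁻¹ * g * x, by
    apply (hx (x⁻¹ * g * x)).mpr
    have : x * (x⁻¹ * (g : G) * x) * x⁻¹ = g := by group
    rw [this]
    exact g.2⟩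
  left_inv g := by
    apply Subtype.ext
    show x⁻¹ * (x * (g : G) * x⁻¹) * x = g
    group
  right_inv g := by
    apply Subtype.ext
    show x * (x⁻¹ * (g : G) * x) * x⁻¹ = g
    group
  map_mul' a b := by
    apply Subtype.ext
    show x * ((a : G) * b) * x⁻¹ = (x * a * x⁻¹) * (x * b * x⁻¹)
    group

theorem conjAutOfNormalizes_coe {G : Type*} [Group G] (Q : Subgroup G) (x : G)
    (hx : ∀ h, h ∈ Q ↔ x * h * x⁻¹ ∈ Q) (g : Q) :
    ((conjAutOfNormalizes Q x hx g : Q) : G) = x * g * x⁻¹ := rfl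

theorem conjAutOfNormalizes_pow_coe {G : Type*} [Group G] (Q : Subgroup G) (x : G)
    (hx : ∀ h, h ∈ Q ↔ x * h * x⁻¹ ∈ Q) (k : ℕ) :
    ∀ g : Q, ((((conjAutOfNormalizes Q x hx) ^ k) g : Q) : G) = x ^ k * g * (x ^ k)⁻¹ := by
  induction k with
  | zero => intro g; simp
  | succ k ih =>
    intro g
    rw [pow_succ, MulAut.mul_apply, ih, conjAutOfNormalizes_coe, pow_succ, mul_inv_rev]
    simp only [mul_assoc]

/-- Hall–Higman Theorem B for a faithful representation over an algebraically closed field. -/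
theorem theoremB_abstract (p : ℕ) [hp : Fact p.Prime] {K : Type w} [Field K] [IsAlgClosed K]
    [CharP K p] {G : Type u} [Group G] [Finite G] (hsol : Cfsg.IsPSolvable p G)
    (hOp : Cfsg.pCore p G = ⊥) {W : Type v} [AddCommGroup W] [Module K W]
    [FiniteDimensional K W] (ρ : Representation K G W) (hρ : Function.Injective ρ)
    (x : G) (n : ℕ) (hn : orderOf x = p ^ (n + 1)) :
    (ρ x - 1) ^ (p ^ (n + 1) - 1) ≠ 0 ∨ ∃ q n₀ m : ℕ, q.Prime ∧ 1 ≤ n₀ ∧ n₀ ≤ n + 1 ∧ 1 ≤ m ∧
      p ^ n₀ - 1 = q ^ m ∧ (∀ S : Sylow q G, ¬ IsMulCommutative S) ∧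
      (ρ x - 1) ^ (p ^ (n + 1 - n₀) * (p ^ n₀ - 1) - 1) ≠ 0 := by
  obtain ⟨N, hN⟩ : ∃ N, N = Cfsg.pPrimeCore p G := ⟨_, rfl⟩
  haveI hNn : N.Normal := by rw [hN]; exact (Cfsg.Agent.Lib.Helper2.pPrimeCore_mem p).1
  have hNc : (Nat.card N).Coprime p := by
    rw [hN]; exact (Cfsg.Agent.Lib.Helper2.pPrimeCore_mem p).2
  have hCN : Subgroup.centralizer (N : Set G) ≤ N := by
    rw [hN]; exact Cfsg.Agent.Lib.Helper2.centralizer_pPrimeCore_le p hsol hOp
  -- the element `y` of order `p`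
  obtain ⟨y, hy⟩ : ∃ y, y = x ^ (p ^ n) := ⟨_, rfl⟩
  have hyp : y ^ p = 1 := by
    rw [hy, ← pow_mul, ← pow_succ, ← hn, pow_orderOf_eq_one]
  have hy1 : y ≠ 1 := by
    intro h
    rw [hy] at h
    have hd := orderOf_dvd_of_pow_eq_one h
    rw [hn] at hd
    have := (Nat.pow_dvd_pow_iff_le_right hp.out.one_lt).mp hd
    omega
  have hyo : orderOf y = p := orderOf_eq_prime hyp hy1
  have hyN : y ∉ N := by
    intro h
    have hd := Subgroup.orderOf_dvd_natCard N h
    rw [hyo] at hd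
    have := hNc.symm.eq_one_of_dvd hd
    exact hp.out.one_lt.ne' this
  have hncent : ¬ N ≤ Subgroup.centralizer {y} := by
    intro h
    apply hyN
    apply hCN
    rw [Subgroup.mem_centralizer_iff]
    intro k hk
    have := Subgroup.mem_centralizer_iff.mp (h hk) y rfl
    exact this.symm
  have hXK : Subgroup.zpowers x ≤ Subgroup.normalizer (N : Set G) := by
    rw [Subgroup.normalizer_eq_top]; exact le_top
  have hcop : (Nat.card (Subgroup.zpowers x)).Coprime (Nat.card N) := by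
    rw [Nat.card_zpowers, hn]
    exact hNc.symm.pow_left (n + 1)
  have hsolv : Group.IsSolvable (Subgroup.zpowers x) := by
    apply Group.isSolvable_of_comm
    rintro ⟨a, ha⟩ ⟨b, hb⟩
    obtain ⟨i, rfl⟩ := Subgroup.mem_zpowers_iff.mp ha
    obtain ⟨j, rfl⟩ := Subgroup.mem_zpowers_iff.mp hb
    exact Subtype.ext (zpow_mul_comm x i j)
  obtain ⟨q, hq, P, hnorm, hnc⟩ :=
    Cfsg.Agent.Lib.Helper1.HH.exists_invariant_sylow_not_centralized (X := Subgroup.zpowers x)
      (K := N) hXK hcop (Or.inl hsolv) y hncent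
  obtain ⟨Q₀, hQ₀⟩ : ∃ Q₀, Q₀ = (P : Subgroup N).map N.subtype := ⟨_, rfl⟩
  rw [← hQ₀] at hnorm hnc
  have hQp : IsPGroup q Q₀ := by
    rw [hQ₀]; exact P.isPGroup'.map N.subtype
  have hQN : Q₀ ≤ N := by rw [hQ₀]; exact Subgroup.map_subtype_le _
  have hpq : p ≠ q := by
    intro hpq
    rcases hQp.card_eq_or_dvd with h1 | h1
    · apply hnc
      rw [Subgroup.eq_bot_of_card_eq Q₀ h1]
      exact bot_le
    · have hd : q ∣ Nat.card N := h1.trans (Subgroup.card_dvd_of_le hQN)
      rw [← hpq] at hd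
      have := hNc.symm.eq_one_of_dvd hd
      exact hp.out.one_lt.ne' this
  have hxn : ∀ h, h ∈ Q₀ ↔ x * h * x⁻¹ ∈ Q₀ :=
    Subgroup.mem_normalizer_iff.mp (hnorm (Subgroup.mem_zpowers x))
  obtain ⟨φ, hφ⟩ : ∃ φ, φ = conjAutOfNormalizes Q₀ x hxn := ⟨_, rfl⟩
  obtain ⟨σ, hσ⟩ : ∃ σ : Representation K Q₀ W, σ = ρ.comp Q₀.subtype := ⟨_, rfl⟩
  have hσa : ∀ g : Q₀, σ g = ρ (g : G) := by intro g; rw [hσ]; rfl
  have key := HHC8.main p q hpq n (Nat.card Q₀ + finrank K W) Q₀ W σ (ρ x) (ρ x⁻¹) φ rfl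
  have hconcl : HHC1.HHConcl p q (n + 1) (ρ x) (¬ ∀ a b : Q₀, a * b = b * a) := by
    apply key hQp
    · rw [← map_mul, mul_inv_cancel, map_one]
    · rw [← map_mul, inv_mul_cancel, map_one]
    · intro g
      rw [hσa, hσa, hφ, conjAutOfNormalizes_coe, ← map_mul, ← map_mul]
      congr 1
      group
    · rw [← map_pow, ← hn, pow_orderOf_eq_one, map_one]
    · obtain ⟨g, hgQ, hgc⟩ := SetLike.not_le_iff_exists.mp hnc
      refine ⟨⟨g, hgQ⟩, ?_⟩
      rw [hσa, hσa, hφ, conjAutOfNormalizes_pow_coe, ← hy]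
      intro h
      have h2 := hρ h
      apply hgc
      rw [Subgroup.mem_centralizer_iff]
      intro k hk
      rw [Set.mem_singleton_iff] at hk
      rw [hk]
      have h3 : y * g * y⁻¹ * y = g * y := by rw [show (y * g * y⁻¹ : G) = g from h2]
      rw [← h3]; group
  rcases hconcl with h | ⟨n₀, m, h1, h2, h3, h4, hnonab, h6⟩
  · exact Or.inl h
  · refine Or.inr ⟨q, n₀, m, hq.out, h1, h2, h3, h4, ?_, h6⟩
    intro S hS
    apply hnonab
    obtain ⟨S₀, hS₀⟩ := hQp.exists_le_sylow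
    obtain ⟨g, hg⟩ := MulAction.exists_smul_eq G S₀ S
    have hmem : ∀ a : G, a ∈ Q₀ → g * a * g⁻¹ ∈ (S : Subgroup G) := by
      intro a ha
      rw [← hg, Sylow.coe_subgroup_smul]
      have := Subgroup.smul_mem_pointwise_smul a (MulAut.conj g) (S₀ : Subgroup G) (hS₀ ha)
      rwa [MulAut.smul_def, MulAut.conj_apply] at this
    intro a b
    have h2 := hS.is_comm.comm (⟨_, hmem a a.2⟩ : S) ⟨_, hmem b b.2⟩
    have h3 : (g * a * g⁻¹) * (g * b * g⁻¹) = (g * b * g⁻¹) * (g * a * g⁻¹) :=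
      congrArg Subtype.val h2
    have h4 : g * ((a : G) * b) * g⁻¹ = g * ((b : G) * a) * g⁻¹ := by
      have e1 : (g * a * g⁻¹) * (g * b * g⁻¹) = g * ((a : G) * b) * g⁻¹ := by group
      have e2 : (g * b * g⁻¹) * (g * a * g⁻¹) = g * ((b : G) * a) * g⁻¹ := by group
      rw [← e1, ← e2]; exact h3
    exact Subtype.ext (mul_left_cancel (mul_right_cancel h4))

/-- Base change of endomorphisms to an extension field, via matrices. -/
noncomputable def bcHom (F K : Type*) [Field F] [Field K] [Algebra F K] (V : Type*)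
    [AddCommGroup V] [Module F V] [FiniteDimensional F V] :
    Module.End F V →+* Module.End K (Fin (finrank F V) → K) :=
  ((Matrix.toLinAlgEquiv' (R := K) (n := Fin (finrank F V))).toRingEquiv.toRingHom).comp
    (((algebraMap F K).mapMatrix).comp
      ((LinearMap.toMatrixAlgEquiv (Module.finBasis F V)).toRingEquiv.toRingHom))

theorem bcHom_injective (F K : Type*) [Field F] [Field K] [Algebra F K] (V : Type*)
    [AddCommGroup V] [Module F V] [FiniteDimensional F V] :
    Function.Injective (bcHom F K V) := by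
  unfold bcHom
  rw [RingHom.coe_comp, RingHom.coe_comp]
  refine Function.Injective.comp ?_ (Function.Injective.comp ?_ ?_)
  · exact (Matrix.toLinAlgEquiv' (R := K) (n := Fin (finrank F V))).toRingEquiv.injective
  · intro A B h
    exact Matrix.map_injective (algebraMap F K).injective h
  · exact (LinearMap.toMatrixAlgEquiv (Module.finBasis F V)).toRingEquiv.injective

end Cfsg.Agent.Lib.Helper3.HHC9
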