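import Mathlib
import Cfsg.Agent.Lib.Helper3.HHC9
import Cfsg.Agent.Lib.Helper1.FrattiniP

/-!
# A `2`-group acted on minimally by a group `B` with a central element `z` of order three

Pure group theory: the structure of a `B`-invariant `2`-subgroup `Q`, minimal subject to not being
centralized by `z`.
-/

namespace Cfsg.Agent.Lib.Helper3.DL2

open Cfsg.Agent.Lib.Helper3.HHC9
open scoped commutatorElement

variable {G : Type*} [Group G]

theorem normalizer_of_conj_le (B T : Subgroup G) (h : ∀ b ∈ B, ∀ t ∈ T, b * t * b⁻¹ ∈ T) :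
    B ≤ Subgroup.normalizer (T : Set G) := by
  intro b hb
  rw [Subgroup.mem_normalizer_iff]
  intro t
  constructor
  · exact h b hb t
  · intro ht
    have := h b⁻¹ (B.inv_mem hb) _ ht
    have e : b⁻¹ * (b * t * b⁻¹) * b⁻¹⁻¹ = t := by group
    rwa [e] at this

theorem cube_lemma (z g : G) (hz3 : z ^ 3 = 1)
    (hc : (g⁻¹ * z * g * z⁻¹) * z = z * (g⁻¹ * z * g * z⁻¹)) :
    (g⁻¹ * z * g * z⁻¹) ^ 3 = 1 := by
  obtain ⟨c, hcdef⟩ : ∃ c, c = g⁻¹ * z * g * z⁻¹ := ⟨_, rfl⟩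
  rw [← hcdef] at hc ⊢
  have h1 : z * g * z⁻¹ = g * c := by rw [hcdef]; group
  have hcz : z * c * z⁻¹ = c := by rw [← hc]; group
  have hpow : ∀ k : ℕ, z ^ k * g * (z ^ k)⁻¹ = g * c ^ k := by
    intro k
    induction k with
    | zero => simp
    | succ k ih =>
      have e1 : z ^ (k + 1) * g * (z ^ (k + 1))⁻¹ = z * (z ^ k * g * (z ^ k)⁻¹) * z⁻¹ := by
        rw [pow_succ']; group
      have e2 : z * (g * c ^ k) * z⁻¹ = (z * g * z⁻¹) * (z * c * z⁻¹) ^ k := by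
        rw [conj_pow]; group
      rw [e1, ih, e2, h1, hcz, mul_assoc, ← pow_succ']
  have h3 := hpow 3
  rw [hz3, inv_one, one_mul, mul_one] at h3
  exact (mul_eq_left.mp h3.symm)

theorem eq_one_of_cube (Q : Subgroup G) (hQ2 : IsPGroup 2 Q) (c : G) (hc : c ∈ Q)
    (h3 : c ^ 3 = 1) : c = 1 := by
  obtain ⟨k, hk⟩ := hQ2 ⟨c, hc⟩
  have hk' : c ^ 2 ^ k = 1 := by
    have := congrArg Subtype.val hk
    simpa using this
  have hcop : Nat.Coprime 3 (2 ^ k) := Nat.Coprime.pow_right k (by norm_num)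
  have h := pow_gcd_eq_one.mpr ⟨h3, hk'⟩
  rwa [hcop.gcd_eq_one, pow_one] at h

/-- The image in `G` of a characteristic subgroup of `Q` is normalized by whatever normalizes
`Q`. -/
theorem conj_mem_map_of_characteristic (Q : Subgroup G) (K : Subgroup Q) [hK : K.Characteristic]
    (b : G) (hb : ∀ h, h ∈ Q ↔ b * h * b⁻¹ ∈ Q) (t : G) (ht : t ∈ K.map Q.subtype) :
    b * t * b⁻¹ ∈ K.map Q.subtype := by
  obtain ⟨x, hx, rfl⟩ := ht
  have hfix := hK.fixed (conjAutOfNormalizes Q b hb)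
  have h2 : conjAutOfNormalizes Q b hb x ∈ K := by
    rw [← hfix] at hx
    exact hx
  exact ⟨_, h2, rfl⟩

theorem structure_of_minimal (Q B : Subgroup G) (z : G) [Finite Q] (hQ2 : IsPGroup 2 Q)
    (hBN : B ≤ Subgroup.normalizer (Q : Set G)) (hzB : z ∈ B) (hzc : ∀ b ∈ B, b * z = z * b)
    (hz3 : z ^ 3 = 1)
    (hmin : ∀ Q₁ : Subgroup G, Q₁ ≤ Q → Q₁ ≠ Q → B ≤ Subgroup.normalizer (Q₁ : Set G) →
      Q₁ ≤ Subgroup.centralizer {z})
    (hnc : ¬ Q ≤ Subgroup.centralizer {z}) :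
    (∀ a ∈ Q, a ^ 2 ∈ Subgroup.centralizer {z}) ∧
    (∀ a ∈ Q, ∀ b ∈ Q, ⁅a, b⁆ ∈ Subgroup.centralizer {z}) ∧
    (∀ d ∈ Q, d ∈ Subgroup.centralizer {z} → ∀ g ∈ Q, d * g = g * d) ∧
    (Subgroup.closure {c : G | ∃ g ∈ Q, c = g⁻¹ * z * g * z⁻¹} = Q) ∧
    (∀ g ∈ Q, g⁻¹ * z * g * z⁻¹ ∈ Subgroup.centralizer {z} → g ∈ Subgroup.centralizer {z}) := by
  have hbN : ∀ b ∈ B, ∀ h, h ∈ Q ↔ b * h * b⁻¹ ∈ Q := fun b hb =>
    Subgroup.mem_normalizer_iff.mp (hBN hb)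
  have hzN := hbN z hzB
  have hcz : ∀ x, x ∈ Subgroup.centralizer {z} ↔ x * z = z * x := fun x =>
    Subgroup.mem_centralizer_singleton_iff
  -- the Frattini subgroup
  obtain ⟨Φ, hΦ⟩ : ∃ Φ, Φ = (frattini ↥Q).map Q.subtype := ⟨_, rfl⟩
  have hΦle : Φ ≤ Q := by rw [hΦ]; exact Subgroup.map_subtype_le _
  have hΦne : Φ ≠ Q := by
    intro h
    have h1 : (frattini ↥Q).map Q.subtype = (⊤ : Subgroup Q).map Q.subtype := by
      rw [← hΦ, h, ← MonoidHom.range_eq_map, Subgroup.range_subtype]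
    have h2 : frattini ↥Q = ⊤ := Subgroup.map_injective Q.subtype_injective h1
    have h3 : (⊥ : Subgroup Q) = ⊤ := by
      apply frattini_nongenerating
      rw [h2, bot_sup_eq]
    apply hnc
    intro g hg
    have : (⟨g, hg⟩ : Q) ∈ (⊥ : Subgroup Q) := by rw [h3]; trivial
    rw [Subgroup.mem_bot] at this
    have hg1 : g = 1 := congrArg Subtype.val this
    rw [hg1]; exact Subgroup.one_mem _
  have hΦB : B ≤ Subgroup.normalizer (Φ : Set G) := by
    apply normalizer_of_conj_le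
    intro b hb t ht
    rw [hΦ] at ht ⊢
    exact conj_mem_map_of_characteristic Q (frattini ↥Q) b (hbN b hb) t ht
  have hΦz : Φ ≤ Subgroup.centralizer {z} := hmin Φ hΦle hΦne hΦB
  have hsq : ∀ a ∈ Q, a ^ 2 ∈ Subgroup.centralizer {z} := by
    intro a ha
    apply hΦz
    rw [hΦ]
    exact ⟨_, Cfsg.Agent.Lib.Helper1.pow_prime_mem_frattini_of_isPGroup 2 hQ2 ⟨a, ha⟩, by simp⟩
  have hcomm : ∀ a ∈ Q, ∀ b ∈ Q, ⁅a, b⁆ ∈ Subgroup.centralizer {z} := by
    intro a ha b hb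
    apply hΦz
    rw [hΦ]
    have h2 : ⁅(⟨a, ha⟩ : Q), ⟨b, hb⟩⁆ ∈ commutator ↥Q :=
      Subgroup.commutator_mem_commutator (Subgroup.mem_top _) (Subgroup.mem_top _)
    have h3 := Cfsg.Agent.Lib.Helper1.commutator_le_frattini_of_isPGroup 2 hQ2 h2
    exact ⟨_, h3, by simp [commutatorElement_def]⟩
  -- normality of the centralizer part
  have hDn : ∀ d ∈ Q, d ∈ Subgroup.centralizer {z} → ∀ g ∈ Q,
      g * d * g⁻¹ ∈ Subgroup.centralizer {z} := by
    intro d hd hdz g hg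
    have e : g * d * g⁻¹ = ⁅g, d⁆ * d := by rw [commutatorElement_def]; group
    rw [e]
    exact Subgroup.mul_mem _ (hcomm g hg d hd) hdz
  -- generators commute with the centralizer part
  have hgen : ∀ d ∈ Q, d ∈ Subgroup.centralizer {z} → ∀ g ∈ Q,
      (g⁻¹ * z * g * z⁻¹) * d = d * (g⁻¹ * z * g * z⁻¹) := by
    intro d hd hdz g hg
    have he : (g * d * g⁻¹) * z = z * (g * d * g⁻¹) := (hcz _).mp (hDn d hd hdz g hg)
    have hd' : d * z = z * d := (hcz _).mp hdz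
    have h1 : z⁻¹ * d = d * z⁻¹ := by
      have : Commute z d := hd'.symm
      exact this.inv_left.eq
    calc g⁻¹ * z * g * z⁻¹ * d = g⁻¹ * z * g * (z⁻¹ * d) := by group
      _ = g⁻¹ * z * g * (d * z⁻¹) := by rw [h1]
      _ = g⁻¹ * (z * (g * d * g⁻¹)) * g * z⁻¹ := by group
      _ = g⁻¹ * ((g * d * g⁻¹) * z) * g * z⁻¹ := by rw [he]
      _ = d * (g⁻¹ * z * g * z⁻¹) := by group
  -- the commutator closure
  obtain ⟨T, hT⟩ : ∃ T, T = Subgroup.closure {c : G | ∃ g ∈ Q, c = g⁻¹ * z * g * z⁻¹} :=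
    ⟨_, rfl⟩
  have hgenQ : ∀ g ∈ Q, g⁻¹ * z * g * z⁻¹ ∈ Q := by
    intro g hg
    have : g⁻¹ * z * g * z⁻¹ = g⁻¹ * (z * g * z⁻¹) := by group
    rw [this]
    exact Q.mul_mem (Q.inv_mem hg) ((hzN g).mp hg)
  have hTle : T ≤ Q := by
    rw [hT, Subgroup.closure_le]
    rintro _ ⟨g, hg, rfl⟩
    exact hgenQ g hg
  have hTB : B ≤ Subgroup.normalizer (T : Set G) := by
    apply normalizer_of_conj_le
    intro b hb t ht
    have hle : T.map (MulAut.conj b).toMonoidHom ≤ T := by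
      rw [hT, MonoidHom.map_closure, Subgroup.closure_le]
      rintro _ ⟨_, ⟨g, hg, rfl⟩, rfl⟩
      apply Subgroup.subset_closure
      refine ⟨b * g * b⁻¹, (hbN b hb g).mp hg, ?_⟩
      show b * (g⁻¹ * z * g * z⁻¹) * b⁻¹ = (b * g * b⁻¹)⁻¹ * z * (b * g * b⁻¹) * z⁻¹
      have hbz := hzc b hb
      have hbz' : b⁻¹ * z = z * b⁻¹ := by
        have : Commute b z := hbz
        exact this.inv_left.eq
      have hbz'' : b * z⁻¹ = z⁻¹ * b := by
        have : Commute b z := hbz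
        exact this.inv_right.eq
      calc b * (g⁻¹ * z * g * z⁻¹) * b⁻¹ = b * g⁻¹ * z * g * (z⁻¹ * b⁻¹) := by group
        _ = b * g⁻¹ * z * g * (b⁻¹ * z⁻¹) := by
            rw [show z⁻¹ * b⁻¹ = b⁻¹ * z⁻¹ from by
              rw [← mul_inv_rev, ← mul_inv_rev, hbz]]
        _ = b * g⁻¹ * (z * b⁻¹) * (b * g * b⁻¹) * z⁻¹ := by group
        _ = b * g⁻¹ * (b⁻¹ * z) * (b * g * b⁻¹) * z⁻¹ := by rw [hbz']
        _ = (b * g * b⁻¹)⁻¹ * z * (b * g * b⁻¹) * z⁻¹ := by group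
    have : b * t * b⁻¹ ∈ T.map (MulAut.conj b).toMonoidHom := ⟨t, ht, rfl⟩
    exact hle this
  have hTQ : T = Q := by
    by_contra hne
    have h1 := hmin T hTle hne hTB
    apply hnc
    intro g hg
    have hc : g⁻¹ * z * g * z⁻¹ ∈ T := by
      rw [hT]; exact Subgroup.subset_closure ⟨g, hg, rfl⟩
    have hcz' := (hcz _).mp (h1 hc)
    have h3 := cube_lemma z g hz3 hcz'
    have h4 := eq_one_of_cube Q hQ2 _ (hgenQ g hg) h3
    rw [hcz]
    have : z * g = g * (g⁻¹ * z * g * z⁻¹) * z := by group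
    rw [this, h4, mul_one]
  refine ⟨hsq, hcomm, ?_, ?_, ?_⟩
  · intro d hd hdz g hg
    have hle : T ≤ Subgroup.centralizer {d} := by
      rw [hT, Subgroup.closure_le]
      rintro _ ⟨g', hg', rfl⟩
      rw [SetLike.mem_coe, Subgroup.mem_centralizer_singleton_iff]
      exact hgen d hd hdz g' hg'
    have hg' : g ∈ Subgroup.centralizer {d} := hle (by rw [hTQ]; exact hg)
    exact (Subgroup.mem_centralizer_singleton_iff.mp hg').symm
  · rw [← hT]; exact hTQ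
  · intro g hg hc
    have hcz' := (hcz _).mp hc
    have h3 := cube_lemma z g hz3 hcz'
    have h4 := eq_one_of_cube Q hQ2 _ (hgenQ g hg) h3
    rw [hcz]
    have : z * g = g * (g⁻¹ * z * g * z⁻¹) * z := by group
    rw [this, h4, mul_one]

end Cfsg.Agent.Lib.Helper3.DL2
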