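import Mathlib
import Cfsg.Agent.Lib.Helper3.BG17h

set_option autoImplicit false
set_option maxHeartbeats 4000000
set_option linter.unusedVariables false
set_option linter.unusedSectionVars false
set_option linter.style.longLine false
set_option linter.unusedSimpArgs false
set_option linter.deprecated false
set_option linter.style.haveILetI false

/-!
# B&G Section 16: complements of `M_F` in Type I and II (S1390), main statement
-/

open scoped commutatorElement Pointwise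
universe u
namespace Cfsg.Agent.Lib.Helper3.BG17

open Cfsg Cfsg.Agent.Lib.Helper1 Cfsg.Agent.Lib.Helper7 Cfsg.Agent.Lib.Helper7.BGRows
open Cfsg.Agent.Lib.Lead

variable {G : Type u} [Group G] [Finite G]

/-- the complement `U` of the hypothesis of `S1390` is the `U` of a `σ`-decomposition -/
theorem exists_decomp_of_compl (h1351 : Row1351 G) (h1352 : Row1352 G) (h1355 : Row1355 G)
    (h1357 : Row1357 G) (h1364 : Row1364 G) (h1365 : Row1365 G) (h1381 : Row1381 G)
    (hG : IsMinSimpleOddOrder G) {M : Subgroup G} (hM : IsCoatom M) {U : Subgroup G}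
    (hU : (IsOfTypeI M ∧ IsComplIn (fittingHallOf M) U M) ∨
      (IsOfTypeII M ∧ IsComplIn (fittingHallOf M) U ⁅M, M⁆)) :
    fittingHallOf M = sigmaCore M ∧ ∃ K' : Subgroup G, IsSigmaDecomposition M K' U ∧
      ((IsOfTypeI M ∧ K' = ⊥) ∨ (K' ≠ ⊥ ∧ U ≠ ⊥)) := by
  obtain ⟨-, hFσ, hσd, -, -⟩ := h1355 hG M hM
  obtain ⟨K, U₁, hKU⟩ := exists_decomp h1351 h1352 hG hM
  haveI hMs : Group.IsSolvable ↥M := BG7.isSolvable_of_ne_top hG hM.1
  rcases hU with ⟨hI, hc⟩ | ⟨hII, hc⟩
  · have hK : K = ⊥ := K_bot_of_typeF h1364 hG hM hKU hFσ hI.1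
    have hMF : fittingHallOf M = sigmaCore M := by
      by_contra hne
      have := (h1357 hG M hM K U₁ hKU hne).2.2
      rw [hK, Subgroup.card_bot] at this
      exact Nat.not_prime_one this
    have hc₁ : IsComplIn (fittingHallOf M) U₁ M := by
      have := hKU.compl
      rw [hK, bot_sup_eq] at this
      rw [hMF]; exact complIn_symm this
    obtain ⟨x, hx, e⟩ := compl_conj hMs (FittingHall.fittingHallOf_coprime M) hc₁ hc
    have hd := decomp_cj hKU hx
    rw [← e] at hd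
    refine ⟨hMF, BG7.cj x K, hd, Or.inl ⟨hI, ?_⟩⟩
    rw [hK, BG7.cj_eq_bot_iff]
  · obtain ⟨hK1, hU₁1⟩ := (h1381 hG M hM K U₁ hKU).mp hII
    have hMF : fittingHallOf M = sigmaCore M := by
      by_contra hne
      exact hU₁1 (h1357 hG M hM K U₁ hKU hne).1
    have hder : ⁅M, M⁆ = U₁ ⊔ sigmaCore M := (h1365 hG M hM K U₁ hKU hK1).1
    have hc₁ : IsComplIn (fittingHallOf M) U₁ ⁅M, M⁆ := by
      rw [hMF, hder]; exact decomp_compl_U hKU
    have hdM : (⁅M, M⁆ : Subgroup G) ≤ M := BGB.comm_le_self M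
    have hdtop : (⁅M, M⁆ : Subgroup G) ≠ ⊤ := by
      intro h
      apply hM.1
      rw [eq_top_iff, ← h]; exact hdM
    have hcop : (Nat.card (fittingHallOf M)).Coprime
        ((fittingHallOf M).relIndex ⁅M, M⁆) := by
      apply Nat.Coprime.coprime_dvd_right _ (FittingHall.fittingHallOf_coprime M)
      rw [← Subgroup.relIndex_mul_relIndex (fittingHallOf M) ⁅M, M⁆ M hc.1 hdM]
      exact dvd_mul_right _ _
    obtain ⟨x, hx, e⟩ := compl_conj (BG7.isSolvable_of_ne_top hG hdtop) hcop hc₁ hc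
    have hd := decomp_cj hKU (hdM hx)
    rw [← e] at hd
    refine ⟨hMF, BG7.cj x K, hd, Or.inr ⟨?_, ?_⟩⟩
    · rw [Ne, BG7.cj_eq_bot_iff]; exact hK1
    · rw [e, Ne, BG7.cj_eq_bot_iff]; exact hU₁1

/-- `S1390` from the rows -/
theorem s1390_of (h1351 : Row1351 G) (h1352 : Row1352 G) (h1355 : Row1355 G)
    (h1357 : Row1357 G) (h1358 : Row1358 G) (h1361 : Row1361 G) (h1362 : Row1362 G)
    (h1364 : Row1364 G) (h1365 : Row1365 G) (h1381 : Row1381 G) (h1382 : Row1382 G)
    (hG : IsMinSimpleOddOrder G) (M : Subgroup G) (hM : IsCoatom M) (U : Subgroup G)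
    (hU : (IsOfTypeI M ∧ IsComplIn (fittingHallOf M) U M) ∨
      (IsOfTypeII M ∧ IsComplIn (fittingHallOf M) U ⁅M, M⁆)) :
    (∀ (p : ℕ), p.Prime → ∀ P : Sylow p U, IsMulCommutative (P : Subgroup U) ∧
        PRankLE p 2 (P : Subgroup U)) ∧
      (∀ X : Set G, X ⊆ (U : Set G) \ {1} → X.Nonempty →
        fittingHallOf M ⊓ Subgroup.centralizer X ≠ ⊥ →
        Subgroup.centralizer X ≤ M ∧
          ∀ L : Subgroup G, IsCoatom L → Subgroup.centralizer X ≤ L → L = M) ∧
      IsTISubset (typeA M \ typeA1 M) := by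
  obtain ⟨-, hFσ, hσd, -, -⟩ := h1355 hG M hM
  obtain ⟨hMF, K', hKU, hcase⟩ := exists_decomp_of_compl h1351 h1352 h1355 h1357 h1364 h1365
    h1381 hG hM hU
  refine ⟨h1358 hG M hM K' U hKU, ?_, ?_⟩
  · intro X hX hXne hXc
    obtain ⟨x, hx⟩ := hXne
    have hcl : Subgroup.closure X ≤ U := by
      rw [Subgroup.closure_le]; exact fun y hy => (hX hy).1
    have hcl1 : Subgroup.closure X ≠ ⊥ := by
      intro h
      have h1 : x ∈ Subgroup.closure X := Subgroup.subset_closure hx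
      rw [h, Subgroup.mem_bot] at h1
      exact (hX hx).2 h1
    have hcc : Subgroup.centralizer ((Subgroup.closure X : Subgroup G) : Set G) =
        Subgroup.centralizer X := Subgroup.centralizer_closure X
    have := h1361 hG M hM K' U hKU (Subgroup.closure X) hcl hcl1 (by rw [hcc, ← hMF]; exact hXc)
    rwa [hcc] at this
  · have hti := h1362 hG M hM K' U hKU
    have hn34 : ¬ (IsOfTypeIII M ∨ IsOfTypeIV M) := by
      intro h
      obtain ⟨hK1, hU0, -⟩ := (h1382 hG M hM K' U hKU).mp h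
      rcases hcase with ⟨-, h0⟩ | ⟨-, h0⟩
      · exact hK1 h0
      · exact h0 hU0
    have hA1 : typeA1 M = (↑(fittingHallOf M) : Set G) \ {1} := by
      unfold typeA1 typeCore; rw [if_neg hn34]
    have hcompl := hKU.compl
    rcases hcase with ⟨hI, hK0⟩ | ⟨hK1, hU1⟩
    · have hA : typeA M = {a | a ∈ M ∧ a ≠ 1 ∧ ∃ x ∈ fittingHallOf M, x ≠ 1 ∧ a * x = x * a} := by
        unfold typeA; rw [if_pos hI]
      have hsup : ∀ a ∈ M, a ∈ U ⊔ sigmaCore M := by
        intro a ha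
        obtain ⟨u, hu, s, hs, rfl⟩ := hcompl.2.2.2 a ha
        rw [hK0, bot_sup_eq] at hs
        exact Subgroup.mul_mem _ (Subgroup.mem_sup_left hu) (Subgroup.mem_sup_right hs)
      have e : typeA M \ typeA1 M = sigmaA M U \ (sigmaCore M : Set G) := by
        rw [hA, hA1, hMF]
        ext a
        constructor
        · rintro ⟨⟨haM, ha1, x, hx, hx1, hax⟩, hn⟩
          refine ⟨⟨⟨haM, x, hx, hx1, hax⟩, hsup a haM⟩, fun h => hn ⟨h, ha1⟩⟩
        · rintro ⟨⟨⟨haM, y, hy, hy1, hay⟩, -⟩, hanσ⟩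
          have ha1 : a ≠ 1 := fun h => hanσ (h ▸ Subgroup.one_mem _)
          exact ⟨⟨haM, ha1, y, hy, hy1, hay⟩, fun h => hanσ h.1⟩
      rw [e]; exact hti
    · have hnI : ¬ IsOfTypeI M := by
        intro hI
        exact hK1 (K_bot_of_typeF h1364 hG hM hKU hFσ hI.1)
      have hder : ⁅M, M⁆ = U ⊔ sigmaCore M := (h1365 hG M hM K' U hKU hK1).1
      have hA : typeA M = {a | a ∈ ⁅M, M⁆ ∧ a ≠ 1 ∧
          ∃ x ∈ fittingHallOf M, x ≠ 1 ∧ a * x = x * a} := by
        unfold typeA typeCore; rw [if_neg hnI, if_neg hn34]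
      have hdM : (⁅M, M⁆ : Subgroup G) ≤ M := BGB.comm_le_self M
      have e : typeA M \ typeA1 M = sigmaA M U \ (sigmaCore M : Set G) := by
        rw [hA, hA1, hMF, hder]
        ext a
        constructor
        · rintro ⟨⟨haM, ha1, x, hx, hx1, hax⟩, hn⟩
          refine ⟨⟨⟨hdM (hder ▸ haM), x, hx, hx1, hax⟩, haM⟩, fun h => hn ⟨h, ha1⟩⟩
        · rintro ⟨⟨⟨haM, y, hy, hy1, hay⟩, haU⟩, hanσ⟩
          have ha1 : a ≠ 1 := fun h => hanσ (h ▸ Subgroup.one_mem _)
          exact ⟨⟨haU, ha1, y, hy, hy1, hay⟩, fun h => hanσ h.1⟩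
      rw [e]; exact hti

end Cfsg.Agent.Lib.Helper3.BG17
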