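import Mathlib
import Cfsg.Agent.Lib.Helper3.BG17i
import Cfsg.Agent.Lib.Helper7.BGK18

set_option autoImplicit false
set_option maxHeartbeats 4000000
set_option linter.unusedVariables false
set_option linter.unusedSectionVars false
set_option linter.style.longLine false
set_option linter.unusedSimpArgs false
set_option linter.deprecated false
set_option linter.style.haveILetI false

/-!
# B&G Section 16, Theorem III (tame embedding, S1391): elements of `A₀(M)`
-/

open scoped commutatorElement Pointwise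
universe u
namespace Cfsg.Agent.Lib.Helper3.BG17

open Cfsg Cfsg.Agent.Lib.Helper1 Cfsg.Agent.Lib.Helper7 Cfsg.Agent.Lib.Helper7.BGRows
open Cfsg.Agent.Lib.Lead

variable {G : Type u} [Group G] [Finite G]

theorem card_mul_relIndex' {H K : Subgroup G} (h : H ≤ K) :
    Nat.card H * H.relIndex K = Nat.card K := by
  rw [← Subgroup.relIndex_bot_left, ← Subgroup.relIndex_bot_left]
  exact Subgroup.relIndex_mul_relIndex _ _ _ bot_le h

theorem pow_card_eq_one_of_mem {M : Subgroup G} {x : G} (hx : x ∈ M) : x ^ Nat.card M = 1 := by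
  have : (⟨x, hx⟩ : ↥M) ^ Nat.card ↥M = 1 := pow_card_eq_one'
  exact congrArg Subtype.val this

/-- an exponent `e` (depending only on `M`) such that `x ^ e` is the `σ(M)'`-part of `x ∈ M` -/
theorem exists_sigma'_exp (hG : IsMinSimpleOddOrder G) {M : Subgroup G} (hM : IsCoatom M) :
    ∃ e : ℤ, ∀ x ∈ M, (∀ p : ℕ, p.Prime → p ∣ orderOf (x ^ e) → p ∉ sigma M) ∧
      (x ∉ sigmaCore M → x ^ e ≠ 1) := by
  obtain ⟨hHall, -, -⟩ := BGA.s1350 hG M hM
  obtain ⟨m, hm⟩ : ∃ m, m = Nat.card (sigmaCore M) := ⟨_, rfl⟩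
  obtain ⟨n, hn⟩ : ∃ n, n = (sigmaCore M).relIndex M := ⟨_, rfl⟩
  have hmn : m * n = Nat.card M := by rw [hm, hn]; exact card_mul_relIndex' hHall.1
  have hcop : m.Coprime n := by
    apply coprime_of_forall_prime
    intro p hp h1 h2
    rw [hm] at h1; rw [hn] at h2
    exact hHall.2.2 p hp (BGF.sigmaCore_pi M p hp h1) h2
  have hb := Nat.gcd_eq_gcd_ab m n
  rw [hcop.gcd_eq_one] at hb
  have hb' : (m : ℤ) * Nat.gcdA m n + (n : ℤ) * Nat.gcdB m n = 1 := by
    have := hb; push_cast at this; linarith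
  refine ⟨(m : ℤ) * Nat.gcdA m n, fun x hx => ⟨?_, ?_⟩⟩
  · intro p hp hpo hpσ
    have h1 : (x ^ ((m : ℤ) * Nat.gcdA m n)) ^ n = 1 := by
      rw [← zpow_natCast, ← zpow_mul]
      have : (m : ℤ) * Nat.gcdA m n * (n : ℤ) = ((m * n : ℕ) : ℤ) * Nat.gcdA m n := by
        push_cast; ring
      rw [this, zpow_mul, zpow_natCast, hmn, pow_card_eq_one_of_mem hx, one_zpow]
    have h2 : p ∣ n := dvd_trans hpo (orderOf_dvd_of_pow_eq_one h1)
    rw [hn] at h2
    exact hHall.2.2 p hp hpσ h2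
  · intro hxσ h1
    apply hxσ
    have h2 : x = x ^ ((n : ℤ) * Nat.gcdB m n) := by
      calc x = x ^ (1 : ℤ) := (zpow_one x).symm
        _ = x ^ ((m : ℤ) * Nat.gcdA m n + (n : ℤ) * Nat.gcdB m n) := by rw [hb']
        _ = x ^ ((m : ℤ) * Nat.gcdA m n) * x ^ ((n : ℤ) * Nat.gcdB m n) := zpow_add x _ _
        _ = x ^ ((n : ℤ) * Nat.gcdB m n) := by rw [h1, one_mul]
    have h3 : x ^ m = 1 := by
      rw [h2, ← zpow_natCast, ← zpow_mul]
      have : (n : ℤ) * Nat.gcdB m n * (m : ℤ) = ((m * n : ℕ) : ℤ) * Nat.gcdB m n := by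
        push_cast; ring
      rw [this, zpow_mul, zpow_natCast, hmn, pow_card_eq_one_of_mem hx, one_zpow]
    have h4 : Subgroup.zpowers x ≤ sigmaCore M := by
      apply BGF.le_sigmaCore_of_pi hG hM (by rw [Subgroup.zpowers_le]; exact hx)
      intro q hq hqd
      rw [Nat.card_zpowers] at hqd
      apply BGF.sigmaCore_pi M q hq
      rw [← hm]
      exact dvd_trans hqd (orderOf_dvd_of_pow_eq_one h3)
    exact h4 (Subgroup.mem_zpowers x)

/-- elements of `U M_σ` have order coprime to `|K|` -/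
theorem not_dvd_orderOf_of_mem {M K U : Subgroup G} (hKU : IsSigmaDecomposition M K U)
    {v : G} (hv : v ∈ U ⊔ sigmaCore M) {p : ℕ} (hp : p.Prime) (hpκ : p ∈ kappa M) :
    ¬ p ∣ orderOf v := by
  intro h
  have h1 : orderOf v ∣ Nat.card ↥(U ⊔ sigmaCore M) := by
    have : orderOf (⟨v, hv⟩ : ↥(U ⊔ sigmaCore M)) ∣ Nat.card ↥(U ⊔ sigmaCore M) :=
      orderOf_dvd_natCard _
    rwa [← Subgroup.orderOf_coe] at this
  have h2 : K.relIndex M = Nat.card ↥(U ⊔ sigmaCore M) :=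
    ComplIn.relIndex_right (decomp_compl_derived hKU)
  exact hKU.hall.2.2 p hp hpκ (h2 ▸ dvd_trans h h1)

theorem zpow_mem_centralizer_singleton {v z : G} (h : v * z = z * v) (e : ℤ) :
    v ^ e ∈ Subgroup.centralizer ({z} : Set G) := by
  rw [BGE.mem_centralizer_singleton]
  have hc : Commute z v := h.symm
  exact (hc.zpow_right e).eq

/-- **the `σ'`-part of an element of `A(M) ∖ M_σ` has its centralizer in `M` only** -/
theorem cent_sigma'_part (h1432 : Row1432 G) (hG : IsMinSimpleOddOrder G) {M : Subgroup G}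
    (hM : IsCoatom M) {K U : Subgroup G} (hKU : IsSigmaDecomposition M K U) {e : ℤ}
    (he : ∀ x ∈ M, (∀ p : ℕ, p.Prime → p ∣ orderOf (x ^ e) → p ∉ sigma M) ∧
      (x ∉ sigmaCore M → x ^ e ≠ 1))
    {v z : G} (hv : v ∈ U ⊔ sigmaCore M) (hvσ : v ∉ sigmaCore M) (hz : z ∈ sigmaCore M)
    (hz1 : z ≠ 1) (hvz : v * z = z * v) :
    Subgroup.centralizer ({v ^ e} : Set G) ≤ M ∧
      ∀ L : Subgroup G, IsCoatom L → Subgroup.centralizer ({v ^ e} : Set G) ≤ L → L = M := by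
  have hM₁ : U ⊔ sigmaCore M ≤ M := sup_le hKU.compl.1 (BGE.sigmaCore_le M)
  have hvM : v ∈ M := hM₁ hv
  obtain ⟨hσ', hne⟩ := he v hvM
  have hx' : v ^ e ∈ M ⊓ Subgroup.centralizer ({z} : Set G) :=
    Subgroup.mem_inf.mpr ⟨Subgroup.zpow_mem _ hvM e, zpow_mem_centralizer_singleton hvz e⟩
  rcases h1432 hG M hM z hz hz1 (v ^ e) hx' (hne hvσ) hσ' with ⟨hκ, -⟩ | ⟨-, -, h⟩
  · exfalso
    have hord : orderOf (v ^ e) ≠ 1 := fun h => hne hvσ (orderOf_eq_one_iff.mp h)
    obtain ⟨p, hp, hpd⟩ := Nat.exists_prime_and_dvd hord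
    exact not_dvd_orderOf_of_mem hKU (Subgroup.zpow_mem _ hv e) hp (hκ p hp hpd) hpd
  · exact h

end Cfsg.Agent.Lib.Helper3.BG17
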