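import Mathlib
import Cfsg.Agent.Lib.Helper3.BG17j

set_option autoImplicit false
set_option maxHeartbeats 4000000
set_option linter.unusedVariables false
set_option linter.unusedSectionVars false
set_option linter.style.longLine false
set_option linter.unusedSimpArgs false
set_option linter.deprecated false
set_option linter.style.haveILetI false

/-!
# B&G Section 16, Theorem III (S1391): the set `Ẑ` and the description of `A₀(M)`
-/

open scoped commutatorElement Pointwise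
universe u
namespace Cfsg.Agent.Lib.Helper3.BG17

open Cfsg Cfsg.Agent.Lib.Helper1 Cfsg.Agent.Lib.Helper7 Cfsg.Agent.Lib.Helper7.BGRows
open Cfsg.Agent.Lib.Lead

variable {G : Type u} [Group G] [Finite G]

/-- `Ẑ = K K* ∖ (K ∪ K*)` -/
def Zhat (M K : Subgroup G) : Set G :=
  (↑(K ⊔ (sigmaCore M ⊓ Subgroup.centralizer (K : Set G))) : Set G) \
    ((K : Set G) ∪ ↑(sigmaCore M ⊓ Subgroup.centralizer (K : Set G)))

theorem PFacts.Z_le {M K U : Subgroup G} (h : PFacts M K U) :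
    K ⊔ (sigmaCore M ⊓ Subgroup.centralizer (K : Set G)) ≤ M :=
  sup_le h.decomp.hall.1 (inf_le_left.trans (BGE.sigmaCore_le M))

/-- centralizers of elements of `Ẑ` lie in `K K* ≤ M` -/
theorem PFacts.zhat_cent_le {M K U : Subgroup G} (h : PFacts M K U) {z : G}
    (hz : z ∈ Zhat M K) : Subgroup.centralizer ({z} : Set G) ≤ M := by
  have h1 := h.selfNormalizing.2.2.2.2.2 {z} (by
    intro y hy; rw [Set.mem_singleton_iff] at hy; rw [hy]; exact hz) ⟨z, rfl⟩
  calc Subgroup.centralizer ({z} : Set G) ≤ Subgroup.normalizer ({z} : Set G) :=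
        Subgroup.centralizer_le_normalizer _
    _ = _ := h1
    _ ≤ M := h.Z_le

/-- elements of `Ẑ` have order divisible by a prime of `|K|` -/
theorem PFacts.zhat_order {M K U : Subgroup G} (h : PFacts M K U) {z : G}
    (hz : z ∈ Zhat M K) : ∃ r : ℕ, r.Prime ∧ r ∣ orderOf z ∧ r ∣ Nat.card K := by
  obtain ⟨Ks, hKs⟩ : ∃ Ks, Ks = sigmaCore M ⊓ Subgroup.centralizer (K : Set G) := ⟨_, rfl⟩
  unfold Zhat at hz
  rw [← hKs] at hz
  obtain ⟨hzZ, hzn⟩ := hz
  have hcomm : ∀ a ∈ K, ∀ b ∈ Ks, a * b = b * a := by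
    intro a ha b hb
    rw [hKs] at hb
    exact Subgroup.mem_centralizer_iff.mp (Subgroup.mem_inf.mp hb).2 a ha
  obtain ⟨k, hk, s, hs, rfl⟩ := ComplIn.mem_sup_of_commute hcomm hzZ
  have hk1 : k ≠ 1 := by
    rintro rfl
    apply hzn; right; rw [one_mul]; exact hs
  obtain ⟨n, hn⟩ : ∃ n, n = Nat.card Ks := ⟨_, rfl⟩
  have hsn : s ^ n = 1 := by rw [hn]; exact pow_card_eq_one_of_mem hs
  have hpow : (k * s) ^ n = k ^ n := by
    rw [(show Commute k s from hcomm k hk s hs).mul_pow, hsn, mul_one]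
  have hcop : (Nat.card K).Coprime n := by
    rw [hn]
    apply coprime_of_forall_prime
    intro p hp h1 h2
    have h3 : p ∣ Nat.card (sigmaCore M) :=
      dvd_trans h2 (Subgroup.card_dvd_of_le (hKs ▸ inf_le_left))
    exact (h.decomp.hall.2.1 p hp h1).2.2.1 (BGF.sigmaCore_pi M p hp h3)
  have hkn : k ^ n ≠ 1 := by
    intro h1
    have h2 : orderOf k ∣ n := orderOf_dvd_of_pow_eq_one h1
    have h3 : orderOf k ∣ Nat.card K := by
      have : orderOf (⟨k, hk⟩ : ↥K) ∣ Nat.card ↥K := orderOf_dvd_natCard _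
      rwa [← Subgroup.orderOf_coe] at this
    have h4 : orderOf k = 1 := Nat.eq_one_of_dvd_coprimes hcop h3 h2
    exact hk1 (orderOf_eq_one_iff.mp h4)
  have hord : orderOf (k ^ n) ≠ 1 := fun h => hkn (orderOf_eq_one_iff.mp h)
  obtain ⟨r, hr, hrd⟩ := Nat.exists_prime_and_dvd hord
  refine ⟨r, hr, ?_, ?_⟩
  · rw [← hpow] at hrd
    exact dvd_trans hrd (orderOf_pow_dvd n)
  · have h3 : orderOf (k ^ n) ∣ Nat.card K := by
      have : orderOf (⟨k ^ n, K.pow_mem hk n⟩ : ↥K) ∣ Nat.card ↥K := orderOf_dvd_natCard _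
      rwa [← Subgroup.orderOf_coe] at this
    exact dvd_trans hrd h3

theorem cj_centralizer_singleton (n x : G) :
    BG7.cj n (Subgroup.centralizer ({x} : Set G)) =
      Subgroup.centralizer ({n * x * n⁻¹} : Set G) := by
  ext y
  rw [BG7.mem_cj, BGE.mem_centralizer_singleton, BGE.mem_centralizer_singleton]
  constructor
  · intro h
    have e1 : n * x * n⁻¹ * y = n * (x * (n⁻¹ * y * n)) * n⁻¹ := by group
    rw [e1, h]; group
  · intro h
    have e1 : x * (n⁻¹ * y * n) = n⁻¹ * (n * x * n⁻¹ * y) * n := by group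
    rw [e1, h]; group

/-- any type P data of `M` is `M`-conjugate to `(K, K*)` -/
theorem PFacts.typeP_conj {M K U : Subgroup G} (h : PFacts M K U) (hG : IsMinSimpleOddOrder G)
    (hM : IsCoatom M) {W₁ U' W₂ : Subgroup G} (hT : IsTypePWith M W₁ U' W₂) :
    ∃ n ∈ M, W₁ = BG7.cj n K ∧
      W₂ = BG7.cj n (sigmaCore M ⊓ Subgroup.centralizer (K : Set G)) := by
  haveI hMs : Group.IsSolvable ↥M := BG7.isSolvable_of_ne_top hG hM.1
  have hcd : IsComplIn ⁅M, M⁆ K M := by
    rw [h.der]; exact decomp_compl_derived h.decomp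
  obtain ⟨n, hn, e⟩ := compl_conj hMs h.derived_coprime hcd hT.W₁_compl
  refine ⟨n, hn, e, ?_⟩
  obtain ⟨k, hk1⟩ := (Subgroup.ne_bot_iff_exists_ne_one).mp h.hK1
  have hk1' : (k : G) ≠ 1 := fun h => hk1 (Subtype.ext h)
  have hxW : n * (k : G) * n⁻¹ ∈ W₁ := by rw [e]; exact BG7.conj_mem_cj k.2
  have hx1 : n * (k : G) * n⁻¹ ≠ 1 := by
    intro h1
    apply hk1'
    have : (k : G) = n⁻¹ * (n * (k : G) * n⁻¹) * n := by group
    rw [this, h1]; group
  rw [← hT.W₂_centralizer _ hxW hx1]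
  have hU'n : Group.IsNilpotent ↥(⊥ : Subgroup G) := inferInstance
  -- `M' ∩ C(k) = K*`
  have h2 : ⁅M, M⁆ ⊓ Subgroup.centralizer ({(k : G)} : Set G) =
      sigmaCore M ⊓ Subgroup.centralizer (K : Set G) := by
    have hKσ : sigmaCore M ⊓ Subgroup.centralizer (K : Set G) ≤ ⁅M, M⁆ :=
      inf_le_left.trans h.hσd
    apply le_antisymm
    · intro z hz
      obtain ⟨hz1, hz2⟩ := Subgroup.mem_inf.mp hz
      have hzM : z ∈ M ⊓ Subgroup.centralizer ({(k : G)} : Set G) :=
        Subgroup.mem_inf.mpr ⟨hcd.1 hz1, hz2⟩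
      rw [h.cent k k.2 hk1'] at hzM
      obtain ⟨a, ha, s, hs, rfl⟩ := ComplIn.mem_sup_of_commute
        (A := K) (B := sigmaCore M ⊓ Subgroup.centralizer (K : Set G))
        (fun a ha b hb => Subgroup.mem_centralizer_iff.mp (Subgroup.mem_inf.mp hb).2 a ha) hzM
      have ha' : a ∈ ⁅M, M⁆ ⊓ K := by
        refine Subgroup.mem_inf.mpr ⟨?_, ha⟩
        have : a = (a * s) * s⁻¹ := by group
        rw [this]
        exact Subgroup.mul_mem _ hz1 (Subgroup.inv_mem _ (hKσ hs))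
      rw [hcd.2.2.1, Subgroup.mem_bot] at ha'
      rw [ha', one_mul]; exact hs
    · intro z hz
      refine Subgroup.mem_inf.mpr ⟨hKσ hz, ?_⟩
      rw [BGE.mem_centralizer_singleton]
      exact Subgroup.mem_centralizer_iff.mp (Subgroup.mem_inf.mp hz).2 k k.2
  rw [← h2, BG7.cj_inf, cj_centralizer_singleton,
    BG7.cj_eq_of_mem_normalizer (le_normalizer_derived M hn)]

/-- `M_s = M_σ` for every maximal subgroup -/
theorem typeCore_eq (h1351 : Row1351 G) (h1352 : Row1352 G) (h1357 : Row1357 G)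
    (h1365 : Row1365 G) (h1382 : Row1382 G) (hG : IsMinSimpleOddOrder G)
    {M : Subgroup G} (hM : IsCoatom M) : typeCore M = sigmaCore M := by
  obtain ⟨K, U, hKU⟩ := exists_decomp h1351 h1352 hG hM
  unfold typeCore
  split_ifs with h
  · obtain ⟨hK1, hU, -⟩ := (h1382 hG M hM K U hKU).mp h
    rw [(h1365 hG M hM K U hKU hK1).1, hU, bot_sup_eq]
  · by_contra hne
    obtain ⟨hU, -, hKp⟩ := h1357 hG M hM K U hKU hne
    have hK1 : K ≠ ⊥ := by
      intro h0
      rw [h0, Subgroup.card_bot] at hKp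
      exact Nat.not_prime_one hKp
    exact h ((h1382 hG M hM K U hKU).mpr ⟨hK1, hU, hne⟩)

end Cfsg.Agent.Lib.Helper3.BG17
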