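import Mathlib
import Cfsg.Agent.Lib.Helper3.BG17k

set_option autoImplicit false
set_option maxHeartbeats 4000000
set_option linter.unusedVariables false
set_option linter.unusedSectionVars false
set_option linter.style.longLine false
set_option linter.unusedSimpArgs false
set_option linter.deprecated false
set_option linter.style.haveILetI false

/-!
# B&G Section 16, Theorem III (S1391): description of `A₀(M)`, fusion control, `D ⊆ A₁(M)`
-/

open scoped commutatorElement Pointwise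
universe u
namespace Cfsg.Agent.Lib.Helper3.BG17

open Cfsg Cfsg.Agent.Lib.Helper1 Cfsg.Agent.Lib.Helper7 Cfsg.Agent.Lib.Helper7.BGRows
open Cfsg.Agent.Lib.Lead

variable {G : Type u} [Group G] [Finite G]

/-- the standing data for Theorem III about a maximal subgroup `M` -/
structure Ctx (M K U : Subgroup G) : Prop where
  hG : IsMinSimpleOddOrder G
  hM : IsCoatom M
  decomp : IsSigmaDecomposition M K U
  hFσ : fittingHallOf M ≤ sigmaCore M
  hσd : sigmaCore M ≤ ⁅M, M⁆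
  htc : typeCore M = sigmaCore M
  hpf : K ≠ ⊥ → PFacts M K U
  hKF : IsOfTypeF ↥M → K = ⊥

theorem Ctx.le_sup {M K U : Subgroup G} (c : Ctx M K U) (hK : K = ⊥) :
    M ≤ U ⊔ sigmaCore M := by
  intro a ha
  obtain ⟨u, hu, s, hs, rfl⟩ := c.decomp.compl.2.2.2 a ha
  rw [hK, bot_sup_eq] at hs
  exact Subgroup.mul_mem _ (Subgroup.mem_sup_left hu) (Subgroup.mem_sup_right hs)

theorem Ctx.sup_le {M K U : Subgroup G} (c : Ctx M K U) : U ⊔ sigmaCore M ≤ M :=
  _root_.sup_le c.decomp.compl.1 (BGE.sigmaCore_le M)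

theorem Ctx.derived_le {M K U : Subgroup G} (c : Ctx M K U) : ⁅M, M⁆ ≤ U ⊔ sigmaCore M := by
  by_cases hK : K = ⊥
  · exact (BGB.comm_le_self M).trans (c.le_sup hK)
  · rw [(c.hpf hK).der]

/-- description of the elements of `A₀(M)` -/
theorem Ctx.typeA0_cases {M K U : Subgroup G} (c : Ctx M K U) {v : G} (hv : v ∈ typeA0 M) :
    (v ∈ U ⊔ sigmaCore M ∧ v ≠ 1 ∧ ∃ z ∈ sigmaCore M, z ≠ 1 ∧ v * z = z * v) ∨
    (K ≠ ⊥ ∧ ∃ m ∈ M, ∃ w ∈ Zhat M K, v = m * w * m⁻¹) := by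
  rcases hv with hv | ⟨hnI, W₁, U', W₂, hT, m, hm, w, hw, hw1, hw2, rfl⟩
  · left
    unfold typeA at hv
    split_ifs at hv with hI
    · obtain ⟨hvM, hv1, x, hx, hx1, hvx⟩ := hv
      exact ⟨c.le_sup (c.hKF hI.1) hvM, hv1, x, c.hFσ hx, hx1, hvx⟩
    · obtain ⟨hvM, hv1, x, hx, hx1, hvx⟩ := hv
      rw [c.htc] at hx
      exact ⟨c.derived_le hvM, hv1, x, hx, hx1, hvx⟩
  · right
    have hK1 : K ≠ ⊥ := K_ne_bot_of_typeP c.hG c.hM c.hFσ c.hσd hT c.decomp.hall
    obtain ⟨n, hn, e1, e2⟩ := (c.hpf hK1).typeP_conj c.hG c.hM hT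
    refine ⟨hK1, m * n, M.mul_mem hm hn, n⁻¹ * w * n, ?_, by group⟩
    have hsup : BG7.cj n (K ⊔ (sigmaCore M ⊓ Subgroup.centralizer (K : Set G))) =
        BG7.cj n K ⊔ BG7.cj n (sigmaCore M ⊓ Subgroup.centralizer (K : Set G)) := by
      unfold BG7.cj; exact Subgroup.map_sup _ _ _
    rw [e1, e2, ← hsup] at hw
    rw [e1] at hw1
    rw [e2] at hw2
    refine ⟨BG7.mem_cj.mp hw, ?_⟩
    rintro (h | h)
    · exact hw1 (BG7.mem_cj.mpr h)
    · exact hw2 (BG7.mem_cj.mpr h)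

theorem Ctx.zhat_conj_mem {M K U : Subgroup G} (c : Ctx M K U) (hK1 : K ≠ ⊥) {m w : G}
    (hm : m ∈ M) (hw : w ∈ Zhat M K) : m * w * m⁻¹ ∈ M :=
  M.mul_mem (M.mul_mem hm ((c.hpf hK1).Z_le hw.1)) (M.inv_mem hm)

theorem Ctx.typeA0_le {M K U : Subgroup G} (c : Ctx M K U) {v : G} (hv : v ∈ typeA0 M) :
    v ∈ M := by
  rcases c.typeA0_cases hv with ⟨h, -, -⟩ | ⟨hK1, m, hm, w, hw, rfl⟩
  · exact c.sup_le h
  · exact c.zhat_conj_mem hK1 hm hw

theorem Ctx.normalizer_eq {M K U : Subgroup G} (c : Ctx M K U) :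
    Subgroup.normalizer (M : Set G) = M :=
  BG8.normalizer_eq_of_coatom c.hG c.hM le_rfl (BG12.coatom_ne_bot c.hG c.hM)
    Subgroup.le_normalizer

theorem orderOf_conj'' (g x : G) : orderOf (g * x * g⁻¹) = orderOf x := by
  have := BG15.orderOf_conj' g⁻¹ x
  rwa [inv_inv] at this

theorem conj_zpow' (g x : G) (e : ℤ) : (g * x * g⁻¹) ^ e = g * x ^ e * g⁻¹ := by
  have := (MulAut.conj g).toMonoidHom.map_zpow x e
  simpa using this.symm

/-- an element of `M` conjugate to an element of `M_σ` lies in `M_σ` -/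
theorem Ctx.mem_sigmaCore_of_conj {M K U : Subgroup G} (c : Ctx M K U) {x g : G}
    (hx : x ∈ M) (hy : g * x * g⁻¹ ∈ sigmaCore M) : x ∈ sigmaCore M := by
  have h4 : Subgroup.zpowers x ≤ sigmaCore M := by
    apply BGF.le_sigmaCore_of_pi c.hG c.hM (by rw [Subgroup.zpowers_le]; exact hx)
    intro q hq hqd
    rw [Nat.card_zpowers, ← orderOf_conj'' g x] at hqd
    apply BGF.sigmaCore_pi M q hq
    have : orderOf (⟨g * x * g⁻¹, hy⟩ : ↥(sigmaCore M)) ∣ Nat.card ↥(sigmaCore M) :=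
      orderOf_dvd_natCard _
    rw [← Subgroup.orderOf_coe] at this
    exact dvd_trans hqd this
  exact h4 (Subgroup.mem_zpowers x)

/-- **Theorem III(a)**: `M` controls `G`-fusion in `A₀(M)` -/
theorem Ctx.fusion {M K U : Subgroup G} (c : Ctx M K U) (h1374 : Row1374 G)
    (h1432 : Row1432 G) {x g : G} (hx : x ∈ typeA0 M) (hy : g * x * g⁻¹ ∈ typeA0 M) :
    ∃ m ∈ M, m * x * m⁻¹ = g * x * g⁻¹ := by
  have hKU := c.decomp
  obtain ⟨e, he⟩ := exists_sigma'_exp c.hG c.hM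
  have hyM : g * x * g⁻¹ ∈ M := c.typeA0_le hy
  have hgM : g ∈ M → ∃ m ∈ M, m * x * m⁻¹ = g * x * g⁻¹ := fun h => ⟨g, h, rfl⟩
  rcases c.typeA0_cases hx with ⟨hx₁, hx1, z, hz, hz1, hxz⟩ | ⟨hK1, m, hm, w, hw, hxw⟩
  · by_cases hxσ : x ∈ sigmaCore M
    · obtain ⟨-, R, -, hRc, hR⟩ := h1374 c.hG M c.hM x hxσ hx1
      have hxmem : x ∈ M.map (MulAut.conj g⁻¹).toMonoidHom := by
        show x ∈ BG7.cj g⁻¹ M
        rw [BG7.mem_cj, inv_inv]; exact hyM
      obtain ⟨r, ⟨hrR, hrM⟩, -⟩ := hR g⁻¹ hxmem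
      have hrM' : BG7.cj r M = BG7.cj g⁻¹ M := hrM
      have h1 : BG7.cj (g * r) M = M := by
        rw [BG7.cj_mul, hrM']
        have := BG7.cj_inv_cj g⁻¹ M
        rwa [inv_inv] at this
      have h2 : g * r ∈ M := by
        have := BG7.mem_normalizer_of_cj_eq h1
        rwa [c.normalizer_eq] at this
      have hrc : r ∈ Subgroup.centralizer ({x} : Set G) := hRc.2.1 hrR
      rw [BGE.mem_centralizer_singleton] at hrc
      refine ⟨g * r, h2, ?_⟩
      have : g * r * x * (g * r)⁻¹ = g * (r * x * r⁻¹) * g⁻¹ := by group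
      rw [this]
      have : r * x * r⁻¹ = x := by rw [← hrc]; group
      rw [this]
    · apply hgM
      obtain ⟨hcx, hux⟩ := cent_sigma'_part h1432 c.hG c.hM hKU he hx₁ hxσ hz hz1 hxz
      rcases c.typeA0_cases hy with ⟨hy₁, hy1, z', hz', hz'1, hyz⟩ | ⟨hK1, m, hm, w, hw, hyw⟩
      · have hyσ : g * x * g⁻¹ ∉ sigmaCore M := fun h =>
          hxσ (c.mem_sigmaCore_of_conj (c.sup_le hx₁) h)
        obtain ⟨hcy, -⟩ := cent_sigma'_part h1432 c.hG c.hM hKU he hy₁ hyσ hz' hz'1 hyz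
        rw [conj_zpow', ← cj_centralizer_singleton] at hcy
        have h1 : BG7.cj g M = M := by
          have h2 : Subgroup.centralizer ({x ^ e} : Set G) ≤ BG7.cj g⁻¹ M := by
            have := BG7.cj_mono (k := g⁻¹) hcy
            rwa [BG7.cj_inv_cj] at this
          have h3 := hux _ (BG9.isCoatom_cj c.hM g⁻¹) h2
          have h4 := congrArg (BG7.cj g) h3
          have h5 : BG7.cj g (BG7.cj g⁻¹ M) = M := by
            have := BG7.cj_inv_cj g⁻¹ M
            rwa [inv_inv] at this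
          rw [h5] at h4
          exact h4.symm
        have := BG7.mem_normalizer_of_cj_eq h1
        rwa [c.normalizer_eq] at this
      · exfalso
        obtain ⟨r, hr, hrw, hrK⟩ := (c.hpf hK1).zhat_order hw
        have hrκ : r ∈ kappa M := hKU.hall.2.1 r hr hrK
        apply not_dvd_orderOf_of_mem hKU hx₁ hr hrκ
        rw [← orderOf_conj'' g x, hyw, orderOf_conj'']
        exact hrw
  · have hP := c.hpf hK1
    rcases c.typeA0_cases hy with ⟨hy₁, hy1, z', hz', hz'1, hyz⟩ | ⟨-, m', hm', w', hw', hyw⟩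
    · exfalso
      obtain ⟨r, hr, hrw, hrK⟩ := hP.zhat_order hw
      have hrκ : r ∈ kappa M := hKU.hall.2.1 r hr hrK
      apply not_dvd_orderOf_of_mem hKU hy₁ hr hrκ
      rw [orderOf_conj'', hxw, orderOf_conj'']
      exact hrw
    · apply hgM
      by_contra hgn
      obtain ⟨h, hh⟩ : ∃ h, h = m'⁻¹ * g * m := ⟨_, rfl⟩
      have hhM : h ∉ M := by
        intro h1
        apply hgn
        have : g = m' * h * m⁻¹ := by rw [hh]; group
        rw [this]
        exact M.mul_mem (M.mul_mem hm' h1) (M.inv_mem hm)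
      have hhw : h * w * h⁻¹ = w' := by
        have h1 : g * x * g⁻¹ = m' * w' * m'⁻¹ := hyw
        rw [hxw] at h1
        have : h * w * h⁻¹ = m'⁻¹ * (g * (m * w * m⁻¹) * g⁻¹) * m' := by rw [hh]; group
        rw [this, h1]; group
      have hhN : h ∉ Subgroup.normalizer (Zhat M K) := by
        intro h1
        apply hhM
        have h2 : Subgroup.normalizer (Zhat M K) =
            K ⊔ (sigmaCore M ⊓ Subgroup.centralizer (K : Set G)) := hP.Z_norm
        rw [h2] at h1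
        exact hP.Z_le h1
      have hw1 := hP.Z_ti h hhN w hw (hhw ▸ hw')
      apply hw.2
      left
      rw [hw1]; exact K.one_mem

/-- **Theorem III(b)**: elements of `A₀(M)` whose centralizer is not in `M` lie in `M_σ` -/
theorem Ctx.mem_sigmaCore_of_not_le {M K U : Subgroup G} (c : Ctx M K U) (h1432 : Row1432 G)
    {x : G} (hx : x ∈ typeA0 M) (hxM : ¬ Subgroup.centralizer ({x} : Set G) ≤ M) :
    x ∈ sigmaCore M ∧ x ≠ 1 := by
  have hKU := c.decomp
  obtain ⟨e, he⟩ := exists_sigma'_exp c.hG c.hM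
  rcases c.typeA0_cases hx with ⟨hx₁, hx1, z, hz, hz1, hxz⟩ | ⟨hK1, m, hm, w, hw, hxw⟩
  · refine ⟨?_, hx1⟩
    by_contra hxσ
    obtain ⟨hcx, -⟩ := cent_sigma'_part h1432 c.hG c.hM hKU he hx₁ hxσ hz hz1 hxz
    apply hxM
    refine le_trans ?_ hcx
    intro y hy
    rw [BGE.mem_centralizer_singleton] at hy ⊢
    have hc : Commute x y := hy
    exact (hc.zpow_left e).eq
  · exfalso
    apply hxM
    rw [hxw, ← cj_centralizer_singleton]
    exact BG9.cj_le_of_mem hm ((c.hpf hK1).zhat_cent_le hw)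

end Cfsg.Agent.Lib.Helper3.BG17
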