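import Mathlib
import Cfsg.Agent.Lib.Helper3.BG17l

set_option autoImplicit false
set_option maxHeartbeats 4000000
set_option linter.unusedVariables false
set_option linter.unusedSectionVars false
set_option linter.style.longLine false
set_option linter.unusedSimpArgs false
set_option linter.deprecated false
set_option linter.style.haveILetI false

/-!
# B&G Section 16, Theorem III (S1391) without the clauses on the Type of `L`
-/

open scoped commutatorElement Pointwise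
universe u
namespace Cfsg.Agent.Lib.Helper3.BG17

open Cfsg Cfsg.Agent.Lib.Helper1 Cfsg.Agent.Lib.Helper7 Cfsg.Agent.Lib.Helper7.BGRows
open Cfsg.Agent.Lib.Lead

variable {G : Type u} [Group G] [Finite G]

/-- the standing data from the rows -/
theorem ctx_of_rows (h1351 : Row1351 G) (h1352 : Row1352 G) (h1354 : Row1354 G)
    (h1355 : Row1355 G) (h1356 : Row1356 G) (h1357 : Row1357 G) (h1364 : Row1364 G)
    (h1365 : Row1365 G) (h1366 : Row1366 G) (h1368 : Row1368 G) (h1370 : Row1370 G)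
    (h1382 : Row1382 G) (hG : IsMinSimpleOddOrder G) {M : Subgroup G} (hM : IsCoatom M)
    {K U : Subgroup G} (hKU : IsSigmaDecomposition M K U) : Ctx M K U := by
  obtain ⟨-, hFσ, hσd, -, -⟩ := h1355 hG M hM
  exact ⟨hG, hM, hKU, hFσ, hσd, typeCore_eq h1351 h1352 h1357 h1365 h1382 hG hM,
    fun hK1 => pfacts_of_rows h1354 h1355 h1356 h1364 h1365 h1366 h1368 h1370 hG hM hKU hK1,
    fun hF => K_bot_of_typeF h1364 hG hM hKU hFσ hF⟩

/-- **Theorem III(c)**, coprimality: `|L_F|` is coprime to `|C_M(y)|` for `y ∈ A₀(M)` -/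
theorem Ctx.coprime_support {M K U : Subgroup G} (c : Ctx M K U) (h1378 : Row1378 G)
    (h1436 : Row1436 G) {x : G} (hxσ : x ∈ sigmaCore M) (hx1 : x ≠ 1)
    (hxM : ¬ Subgroup.centralizer ({x} : Set G) ≤ M) {L : Subgroup G} (hL : IsCoatom L)
    (hxL : Subgroup.centralizer ({x} : Set G) ≤ L) (hLF : sigmaCore L = fittingHallOf L)
    (hxLσ : x ∉ sigmaCore L) {y : G} (hy : y ∈ typeA0 M) :
    (Nat.card (fittingHallOf L)).Coprime
      (Nat.card ↥(M ⊓ Subgroup.centralizer ({y} : Set G))) := by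
  classical
  apply coprime_of_forall_prime
  intro p hp h1 h2
  haveI : Fact p.Prime := ⟨hp⟩
  have hpL : p ∈ sigma L := BGF.sigmaCore_pi L p hp (hLF ▸ h1)
  have hpM : p ∣ Nat.card M := dvd_trans h2 (Subgroup.card_dvd_of_le inf_le_left)
  obtain ⟨hκ, hτ2⟩ := (h1436 c.hG M c.hM x hxσ hx1 hxM L hL hxL).1 ⟨p, hpL, hpM⟩
  have hxLmem : x ∈ L := hxL (by rw [BGE.mem_centralizer_singleton])
  have hpσ : p ∉ sigma M := by
    intro hpσ
    obtain ⟨g, hg⟩ := (h1378 c.hG).2 M L c.hM hL ⟨p, hpσ, hpL⟩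
    have hg' : L = BG7.cj g M := hg
    apply hxLσ
    have h4 : Subgroup.zpowers x ≤ sigmaCore L := by
      apply BGF.le_sigmaCore_of_pi c.hG hL (by rw [Subgroup.zpowers_le]; exact hxLmem)
      intro q hq hqd
      rw [Nat.card_zpowers] at hqd
      rw [hg', BGK.sigma_cj]
      apply BGF.sigmaCore_pi M q hq
      have : orderOf (⟨x, hxσ⟩ : ↥(sigmaCore M)) ∣ Nat.card ↥(sigmaCore M) :=
        orderOf_dvd_natCard _
      rw [← Subgroup.orderOf_coe] at this
      exact dvd_trans hqd this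
    exact h4 (Subgroup.mem_zpowers x)
  have hK : K = ⊥ := by
    by_contra hK1
    obtain ⟨r, hr⟩ := kappa_nonempty_of_ne_bot c.decomp.hall hK1
    rw [hκ] at hr
    exact hr
  have hreg : ∀ e ∈ M, e ≠ 1 → (∀ q : ℕ, q.Prime → q ∣ orderOf e → q ∉ sigma M) →
      sigmaCore M ⊓ Subgroup.centralizer ({e} : Set G) = ⊥ := by
    intro e he he1 hq
    apply BGK.regular_of_kappa_empty c.hG c.hM (fun r hr => by rw [hκ] at hr; exact hr)
      (le_refl M) e he he1
    intro q hq' hqd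
    have hqM : q ∣ Nat.card M := by
      have : orderOf (⟨e, he⟩ : ↥M) ∣ Nat.card ↥M := orderOf_dvd_natCard _
      rw [← Subgroup.orderOf_coe] at this
      exact dvd_trans hqd this
    rcases BG15.tau_cases4 c.hG c.hM hq' hqM with h | h | h | h
    · exact absurd h (hq q hq' hqd)
    · exact Or.inl h
    · rw [hτ2] at h; exact absurd h (Set.notMem_empty q)
    · exact Or.inr h
  obtain ⟨a, ha⟩ := exists_prime_orderOf_dvd_card' p h2
  have hao : orderOf (a : G) = p := by rw [Subgroup.orderOf_coe]; exact ha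
  have haM : (a : G) ∈ M := (Subgroup.mem_inf.mp a.2).1
  have hay : (a : G) ∈ Subgroup.centralizer ({y} : Set G) := (Subgroup.mem_inf.mp a.2).2
  have ha1 : (a : G) ≠ 1 := by
    intro h
    rw [h, orderOf_one] at hao
    exact hp.one_lt.ne hao
  rcases c.typeA0_cases hy with ⟨hy₁, hy1, z, hz, hz1, hyz⟩ | ⟨hK1, -⟩
  · have hyσ : y ∈ sigmaCore M := by
      by_contra hyσ
      obtain ⟨e, he⟩ := exists_sigma'_exp c.hG c.hM
      obtain ⟨hσ', hne⟩ := he y (c.sup_le hy₁)
      have h3 := hreg (y ^ e) (Subgroup.zpow_mem _ (c.sup_le hy₁) e) (hne hyσ) hσ'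
      have h4 : z ∈ sigmaCore M ⊓ Subgroup.centralizer ({y ^ e} : Set G) := by
        refine Subgroup.mem_inf.mpr ⟨hz, ?_⟩
        rw [BGE.mem_centralizer_singleton]
        have hc : Commute y z := hyz
        exact (hc.zpow_left e).eq
      rw [h3, Subgroup.mem_bot] at h4
      exact hz1 h4
    have h3 := hreg (a : G) haM ha1 (by
      intro q hq hqd
      rw [hao] at hqd
      rw [(Nat.prime_dvd_prime_iff_eq hq hp).mp hqd]
      exact hpσ)
    have h4 : y ∈ sigmaCore M ⊓ Subgroup.centralizer ({(a : G)} : Set G) := by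
      refine Subgroup.mem_inf.mpr ⟨hyσ, ?_⟩
      rw [BGE.mem_centralizer_singleton] at hay ⊢
      exact hay.symm
    rw [h3, Subgroup.mem_bot] at h4
    exact hy1 h4
  · exact hK1 hK

/-- the conclusion of `S1391` for a set `X`, without the two clauses on the Type of `L`
(with `x ∈ A(L)` spelled out, and `x ∈ typeA L` when `L` is of Type I or `κ(L) ≠ ∅`) -/
def TameEmbedding (M : Subgroup G) (X : Set G) : Prop :=
  (∀ x ∈ X, ∀ g : G, g * x * g⁻¹ ∈ X → ∃ m ∈ M, m * x * m⁻¹ = g * x * g⁻¹) ∧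
  (∀ x ∈ X, ¬ Subgroup.centralizer ({x} : Set G) ≤ M →
    x ∈ typeA1 M ∧ ∃! L : Subgroup G, IsCoatom L ∧ Subgroup.centralizer ({x} : Set G) ≤ L) ∧
  ∀ x ∈ X, ¬ Subgroup.centralizer ({x} : Set G) ≤ M → ∀ L : Subgroup G, IsCoatom L →
    Subgroup.centralizer ({x} : Set G) ≤ L →
      IsComplIn (fittingHallOf L) (M ⊓ L) L ∧
      Subgroup.centralizer ({x} : Set G) ≤ Subgroup.normalizer
        ((fittingHallOf L ⊓ Subgroup.centralizer ({x} : Set G) : Subgroup G) : Set G) ∧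
      IsComplIn (fittingHallOf L ⊓ Subgroup.centralizer ({x} : Set G))
        (M ⊓ Subgroup.centralizer ({x} : Set G)) (Subgroup.centralizer ({x} : Set G)) ∧
      (∀ y ∈ X, (Nat.card (fittingHallOf L)).Coprime
        (Nat.card ↥(M ⊓ Subgroup.centralizer ({y} : Set G)))) ∧
      (x ∈ L ∧ x ≠ 1 ∧ (∃ y ∈ fittingHallOf L, y ≠ 1 ∧ x * y = y * x) ∧ x ∉ typeA1 L) ∧
      fittingHallOf L = sigmaCore L ∧
      ((IsOfTypeI L ∨ (kappa L).Nonempty) → x ∈ typeA L) ∧
      ((kappa L).Nonempty → IsOfTypeII L)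

/-- **B&G Theorem III (S1391) without the clauses `L` of Type I or II / Frobenius** -/
theorem s1391_partial_of (h1351 : Row1351 G) (h1352 : Row1352 G) (h1354 : Row1354 G)
    (h1355 : Row1355 G) (h1356 : Row1356 G) (h1357 : Row1357 G) (h1364 : Row1364 G)
    (h1365 : Row1365 G) (h1366 : Row1366 G) (h1368 : Row1368 G) (h1370 : Row1370 G)
    (h1374 : Row1374 G) (h1375 : Row1375 G) (h1378 : Row1378 G) (h1381 : Row1381 G)
    (h1382 : Row1382 G) (h1432 : Row1432 G) (h1436 : Row1436 G)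
    (hG : IsMinSimpleOddOrder G) (M : Subgroup G) (hM : IsCoatom M) (X : Set G)
    (hX : X = typeA M ∨ X = typeA0 M) : TameEmbedding M X := by
  obtain ⟨K, U, hKU⟩ := exists_decomp h1351 h1352 hG hM
  have c : Ctx M K U := ctx_of_rows h1351 h1352 h1354 h1355 h1356 h1357 h1364 h1365 h1366
    h1368 h1370 h1382 hG hM hKU
  have hXs : X ⊆ typeA0 M := by
    rcases hX with rfl | rfl
    · exact Set.subset_union_left
    · exact le_rfl
  refine ⟨?_, ?_, ?_⟩
  · intro x hx g hy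
    exact c.fusion h1374 h1432 (hXs hx) (hXs hy)
  · intro x hx hxM
    obtain ⟨hxσ, hx1⟩ := c.mem_sigmaCore_of_not_le h1432 (hXs hx) hxM
    obtain ⟨N, ⟨hN, hxN⟩, huniq, -⟩ := h1375 hG M hM x hxσ hx1 hxM
    refine ⟨?_, N, ⟨hN, hxN⟩, fun L' hL' => huniq L' hL'.1 hL'.2⟩
    unfold typeA1
    rw [c.htc]
    exact ⟨hxσ, hx1⟩
  · intro x hx hxM L hL hxL
    obtain ⟨hxσ, hx1⟩ := c.mem_sigmaCore_of_not_le h1432 (hXs hx) hxM
    obtain ⟨N, ⟨hN, hxN⟩, huniq, hNF, hnorm, hc1, hc2, hdec⟩ := h1375 hG M hM x hxσ hx1 hxM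
    obtain rfl : L = N := huniq L hL hxL
    obtain ⟨K', U', hKU'⟩ := exists_decomp h1351 h1352 hG hL
    obtain ⟨hU'1, hxA, hxnσ⟩ := hdec K' U' hKU'
    obtain ⟨⟨hxL', y, hy, hy1, hxy⟩, hxU'⟩ := hxA
    have htcL : typeCore L = sigmaCore L := typeCore_eq h1351 h1352 h1357 h1365 h1382 hG hL
    obtain ⟨-, hFσL, -, -, -⟩ := h1355 hG L hL
    refine ⟨hNF ▸ complIn_symm hc2, hNF ▸ hnorm, hNF ▸ complIn_symm hc1, ?_,
      ⟨hxL', hx1, ⟨y, hNF ▸ hy, hy1, hxy⟩, ?_⟩, hNF.symm, ?_, ?_⟩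
    · intro y' hy'
      exact c.coprime_support h1378 h1436 hxσ hx1 hxM hL hxL hNF hxnσ (hXs hy')
    · unfold typeA1
      rw [htcL]
      exact fun h => hxnσ h.1
    · intro h
      unfold typeA
      split_ifs with hI
      · exact ⟨hxL', hx1, y, hNF ▸ hy, hy1, hxy⟩
      · have hne : (kappa L).Nonempty := h.resolve_left hI
        have hK'1 : K' ≠ ⊥ := by
          intro h0
          obtain ⟨r, hr⟩ := hne
          exact BGK.kappa_empty_of_bot hKU'.hall h0 r hr
        rw [htcL, (h1365 hG L hL K' U' hKU' hK'1).1]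
        exact ⟨hxU', hx1, y, hy, hy1, hxy⟩
    · intro hne
      have hK'1 : K' ≠ ⊥ := by
        intro h0
        obtain ⟨r, hr⟩ := hne
        exact BGK.kappa_empty_of_bot hKU'.hall h0 r hr
      exact (h1381 hG L hL K' U' hKU').mpr ⟨hK'1, hU'1⟩

end Cfsg.Agent.Lib.Helper3.BG17
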