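import Mathlib
import Cfsg.Agent.Lib.Helper3.BG17m
import Cfsg.Agent.Lib.Helper1.BGG22
import Cfsg.Agent.Lib.Helper1.PConstrainedLocal1

set_option autoImplicit false
set_option maxHeartbeats 4000000
set_option linter.unusedVariables false
set_option linter.unusedSectionVars false
set_option linter.style.longLine false
set_option linter.unusedSimpArgs false
set_option linter.deprecated false
set_option linter.style.haveILetI false

/-!
# B&G Section 15, last results (S1436): `σ(N) ∩ π(M) ≠ ∅ ⇒ κ(M) = τ₂(M) = ∅`, fusion of the `N(x)`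
General lemmas.
-/

open scoped commutatorElement Pointwise
universe u
namespace Cfsg.Agent.Lib.Helper3.BG18

open Cfsg Cfsg.Agent.Lib.Helper1 Cfsg.Agent.Lib.Helper7 Cfsg.Agent.Lib.Helper7.BGRows
open Cfsg.Agent.Lib.Lead

variable {G : Type u} [Group G] [Finite G]

/-- the prime-ordering lemma from `S1414`: an element of prime order `r` of `M` acting nontrivially
on a normal `p`-subgroup of `M`, `p ∉ β(M)`, has `r ≤ p` -/
theorem prime_le_of_not_comm (h1414 : Row1414 G) (hG : IsMinSimpleOddOrder G) {M : Subgroup G}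
    (hM : IsCoatom M) {p : ℕ} (hp : p.Prime) (hpM : p ∣ Nat.card M) (hpβ : p ∉ beta M)
    {P : Subgroup G} (hPM : P ≤ M) (hPn : M ≤ Subgroup.normalizer (P : Set G))
    (hPp : IsPGroup p P) {w : G} (hwM : w ∈ M) {r : ℕ} (hr : r.Prime) (hwr : orderOf w = r)
    (hw : ¬ P ≤ Subgroup.centralizer ({w} : Set G)) : r ≤ p := by
  haveI : Fact p.Prime := ⟨hp⟩
  obtain ⟨-, -, -, -, h5⟩ := h1414 hG M hM
  obtain ⟨-, -, hle⟩ := h5 p hp hpM hpβ
  apply hle r hr
  -- `w ∉ O_{p'}(M)`
  have hPn' : (P.subgroupOf M).Normal := by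
    constructor
    intro z hz m
    rw [Subgroup.mem_subgroupOf] at hz ⊢
    have h1 := hPn m.2
    rw [Subgroup.mem_set_normalizer_iff] at h1
    have h2 := (h1 (z : G)).mp hz
    simpa using h2
  have hPp' : IsPGroup p ↥(P.subgroupOf M) := by
    intro ⟨z, hz⟩
    rw [Subgroup.mem_subgroupOf] at hz
    obtain ⟨k, hk⟩ := hPp ⟨(z : G), hz⟩
    refine ⟨k, ?_⟩
    apply Subtype.ext
    apply Subtype.ext
    have h1 : ((z : G)) ^ p ^ k = 1 := by simpa using congrArg Subtype.val hk
    simpa using h1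
  have hwO : (⟨w, hwM⟩ : ↥M) ∉ pPrimeCore p ↥M := by
    intro hmem
    apply hw
    intro z hz
    rw [BGE.mem_centralizer_singleton]
    have h1 := commute_of_mem_pPrimeCore_or_centralizer (P.subgroupOf M) hPp' ⟨w, hwM⟩
      (Or.inl hmem) ⟨z, hPM hz⟩ (by rw [Subgroup.mem_subgroupOf]; exact hz)
    have h2 := congrArg Subtype.val h1
    simpa using h2.symm
  haveI := pPrimeCore_normal (G := ↥M) p
  have ho : orderOf ((QuotientGroup.mk ⟨w, hwM⟩ : ↥M ⧸ pPrimeCore p ↥M)) = r := by
    have h1 : orderOf ((QuotientGroup.mk ⟨w, hwM⟩ : ↥M ⧸ pPrimeCore p ↥M)) ∣ r := by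
      have h2 := orderOf_map_dvd (QuotientGroup.mk' (pPrimeCore p ↥M)) (⟨w, hwM⟩ : ↥M)
      have h3 : orderOf (⟨w, hwM⟩ : ↥M) = r := by
        rw [← hwr]; exact Subgroup.orderOf_mk w hwM
      rw [h3] at h2; exact h2
    rcases (Nat.dvd_prime hr).mp h1 with h | h
    · exfalso
      rw [orderOf_eq_one_iff, QuotientGroup.eq_one_iff] at h
      exact hwO h
    · exact h
  rw [Subgroup.index_eq_card, ← ho]
  exact orderOf_dvd_natCard _

end Cfsg.Agent.Lib.Helper3.BG18
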