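import Mathlib
import Cfsg.Agent.Lib.Helper3.BG18a

set_option autoImplicit false
set_option maxHeartbeats 4000000
set_option linter.unusedVariables false
set_option linter.unusedSectionVars false
set_option linter.style.longLine false
set_option linter.unusedSimpArgs false
set_option linter.deprecated false
set_option linter.style.haveILetI false

/-!
# S1436 (b): maximal subgroups `N(x)`, `N(y)` (`x, y ∈ M_σ`) conjugate in `G` are conjugate in `M`
-/

open scoped commutatorElement Pointwise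
universe u
namespace Cfsg.Agent.Lib.Helper3.BG18

open Cfsg Cfsg.Agent.Lib.Helper1 Cfsg.Agent.Lib.Helper7 Cfsg.Agent.Lib.Helper7.BGRows
open Cfsg.Agent.Lib.Lead

variable {G : Type u} [Group G] [Finite G]

/-- the `Tdata` of a non-`TI` element, with `N` the given maximal subgroup over `C(x)` -/
theorem tdata_of_elt (h1430 : Row1430 G) (h1431 : Row1431 G) (hG : IsMinSimpleOddOrder G)
    {M : Subgroup G} (hM : IsCoatom M) {x : G} (hx : x ∈ sigmaCore M) (hx1 : x ≠ 1)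
    (hxM : ¬ Subgroup.centralizer ({x} : Set G) ≤ M) {N : Subgroup G} (hN : IsCoatom N)
    (hxN : Subgroup.centralizer ({x} : Set G) ≤ N) :
    ∃ (X : Subgroup G) (q : ℕ), BGK.Tdata M N X q ∧ (∀ H : Subgroup G, x ∈ H → X ≤ H) ∧
      (∀ p : ℕ, p.Prime → p ∣ orderOf x → p ∈ tau2 N) := by
  rcases BGK.supp_cases h1430 h1431 hG hM hx hx1 with h | h
  · exact absurd h.1 hxM
  · obtain ⟨-, L, X, q, hL, hT, hXx, hCL, huniq, hτ, -⟩ := h
    have hLN : N = L := huniq N hN hxN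
    subst hLN
    exact ⟨X, q, hT, hXx, hτ⟩

/-- `M_σ` is a Hall subgroup of `M`, numerically -/
theorem sigmaCore_coprime_relIndex (hG : IsMinSimpleOddOrder G) {N : Subgroup G}
    (hN : IsCoatom N) : (Nat.card (sigmaCore N)).Coprime ((sigmaCore N).relIndex N) := by
  obtain ⟨hH, -, -⟩ := BGA.s1350 hG N hN
  apply BG17.coprime_of_forall_prime
  intro p hp h1 h2
  exact hH.2.2 p hp (hH.2.1 p hp h1) h2

/-- **S1436 (b)** -/
theorem s1436b_of (h1430 : Row1430 G) (h1431 : Row1431 G) (hG : IsMinSimpleOddOrder G)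
    {M : Subgroup G} (hM : IsCoatom M) {x : G} (hx : x ∈ sigmaCore M) (hx1 : x ≠ 1)
    (hxM : ¬ Subgroup.centralizer ({x} : Set G) ≤ M) {N : Subgroup G} (hN : IsCoatom N)
    (hxN : Subgroup.centralizer ({x} : Set G) ≤ N)
    {y : G} {N' : Subgroup G} {g : G} (hy : y ∈ sigmaCore M) (hy1 : y ≠ 1)
    (hyM : ¬ Subgroup.centralizer ({y} : Set G) ≤ M) (hN' : IsCoatom N')
    (hyN' : Subgroup.centralizer ({y} : Set G) ≤ N')
    (hg : N'.map (MulAut.conj g).toMonoidHom = N) :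
    ∃ m ∈ M, N'.map (MulAut.conj m).toMonoidHom = N := by
  obtain ⟨X, q, hT, -, -⟩ := tdata_of_elt h1430 h1431 hG hM hx hx1 hxM hN hxN
  obtain ⟨X', q', hT', -, -⟩ := tdata_of_elt h1430 h1431 hG hM hy hy1 hyM hN' hyN'
  have hgN : BG7.cj g N' = N := hg
  have hc1 : IsComplIn (sigmaCore N) (M ⊓ N) N := BG17.complIn_symm hT.hcompl
  have hc2 : IsComplIn (sigmaCore N) (BG7.cj g (M ⊓ N')) N := by
    have h1 := BG17.complIn_cj (BG17.complIn_symm hT'.hcompl) g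
    rw [← BGK.sigmaCore_cj hG hN' g, hgN] at h1
    exact h1
  have hNtop : N ≠ ⊤ := hN.1
  obtain ⟨n, hn, e⟩ := BG17.compl_conj (BG7.isSolvable_of_ne_top hG hNtop)
    (sigmaCore_coprime_relIndex hG hN) hc1 hc2
  -- `h := n⁻¹ g`
  have e2 : M ⊓ N = BG7.cj (n⁻¹ * g) (M ⊓ N') := by
    rw [BG7.cj_mul, e, BG7.cj_inv_cj]
  have hhN : BG7.cj (n⁻¹ * g) N' = N := by
    rw [BG7.cj_mul, hgN]
    exact Cfsg.Agent.Lib.Helper2.BGH.cj_self_of_mem (N.inv_mem hn)
  obtain ⟨A, hXA, hAMN, hAe, hA2⟩ := hT.hA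
  haveI : Fact q.Prime := ⟨hT.hqp⟩
  have hAM : A ≤ M := hAMN.trans inf_le_left
  have hAp : IsPGroup q A := IsPGroup.of_card (n := 2) hA2
  have hA1 : A ≠ ⊥ := by
    intro h
    rw [h, Subgroup.card_bot] at hA2
    have := hT.hqp.one_lt
    nlinarith [pow_pos hT.hqp.pos 2]
  have hAh : BG7.cj (n⁻¹ * g)⁻¹ A ≤ M := by
    have h1 : A ≤ BG7.cj (n⁻¹ * g) M := by
      rw [e2] at hAMN
      exact hAMN.trans (BG7.cj_mono inf_le_left)
    have h2 := BG7.cj_mono (k := (n⁻¹ * g)⁻¹) h1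
    rwa [BG7.cj_inv_cj] at h2
  obtain ⟨h1404, -⟩ := Cfsg.Agent.S1404.result hG M hM q hT.hqM A hAp hA1 hAM
  obtain ⟨m, hm, c, hc, hmc⟩ := h1404 (n⁻¹ * g)⁻¹ hAh
  have hcM : c ∈ M := (BGD.row1416 hG M hM q A ⟨hAM, hAe, hA2⟩).1 hc
  have hhM : n⁻¹ * g ∈ M := by
    have h1 : (n⁻¹ * g)⁻¹ ∈ M := by rw [hmc]; exact M.mul_mem hm hcM
    simpa using M.inv_mem h1
  exact ⟨n⁻¹ * g, hhM, hhN⟩

end Cfsg.Agent.Lib.Helper3.BG18
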