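import Mathlib
import Cfsg.Agent.Lib.Helper4.ES2A

/-!
# Unit BM-ORD3 of the farm BMT (S5412, coordinator helper2)

An element of order `3` of `C(z) ∩ C(t)` that normalizes the extraspecial `2`-group `Q` and does not centralize it
moves some element `q` of `C_Q(t)` outside the coset `q ⟨z, t⟩`.
-/

set_option autoImplicit false

namespace Cfsg.Agent.Lib.Helper3.BMTOrd3

open Cfsg.Agent.Lib.Helper4.ES2

variable {G : Type*} [Group G]

/-- if `x q x⁻¹ = q c` and `x` commutes with `c`, then `x ^ k q x ^ (-k) = q c ^ k` -/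
theorem pow_conj {x q c : G} (h : x * q * x⁻¹ = q * c) (hxc : x * c = c * x) (k : ℕ) :
    x ^ k * q * (x ^ k)⁻¹ = q * c ^ k := by
  induction k with
  | zero => simp
  | succ k ih =>
    have hck : x * c ^ k * x⁻¹ = c ^ k := by
      have h1 : x * c ^ k = c ^ k * x := (Commute.pow_right (show Commute x c from hxc) k).eq
      rw [h1, mul_assoc, mul_inv_cancel, mul_one]
    calc x ^ (k + 1) * q * (x ^ (k + 1))⁻¹ = x * (x ^ k * q * (x ^ k)⁻¹) * x⁻¹ := by
          rw [pow_succ']; group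
      _ = x * (q * c ^ k) * x⁻¹ := by rw [ih]
      _ = (x * q * x⁻¹) * (x * c ^ k * x⁻¹) := by group
      _ = q * c * c ^ k := by rw [h, hck]
      _ = q * c ^ (k + 1) := by rw [pow_succ', mul_assoc]

/-- an element with `c ^ 3 = 1` and `c ^ 4 = 1` is trivial -/
theorem eq_one_of_pow {c : G} (h3 : c ^ 3 = 1) (h4 : c ^ 4 = 1) : c = 1 := by
  have : c ^ 4 = c ^ 3 * c := pow_succ c 3
  rw [h4, h3, one_mul] at this
  exact this.symm

/-- unit BM-ORD3 -/
theorem exists_moved {Q : Subgroup G} {z : G} (hD : Data Q z)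
    (t : G) (htQ : t ∈ Q) (ht2 : t * t = 1)
    (x : G) (hx3 : x ^ 3 = 1) (hx1 : x ≠ 1) (hxz : x * z = z * x) (hxt : x * t = t * x)
    (hxQ : ∀ q ∈ Q, x * q * x⁻¹ ∈ Q)
    (hCQ : (∀ q ∈ Q, x * q = q * x) → x ∈ Q) :
    ∃ q ∈ Q, q * t = t * q ∧ x * q * x⁻¹ ≠ q ∧ x * q * x⁻¹ ≠ q * z ∧ x * q * x⁻¹ ≠ q * t ∧
      x * q * x⁻¹ ≠ q * (z * t) := by
  by_contra hcon
  have hzt : z * t = t * z := (hD.z_comm t htQ).symm
  -- every element of `C_Q(t)` is moved inside its coset of `V`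
  have hV : ∀ q ∈ Q, q * t = t * q →
      ∃ c, (c = 1 ∨ c = z ∨ c = t ∨ c = z * t) ∧ x * q * x⁻¹ = q * c := by
    intro q hq hqt
    by_cases h1 : x * q * x⁻¹ = q
    · exact ⟨1, Or.inl rfl, by rw [h1, mul_one]⟩
    by_cases h2 : x * q * x⁻¹ = q * z
    · exact ⟨z, Or.inr (Or.inl rfl), h2⟩
    by_cases h3 : x * q * x⁻¹ = q * t
    · exact ⟨t, Or.inr (Or.inr (Or.inl rfl)), h3⟩
    by_cases h4 : x * q * x⁻¹ = q * (z * t)
    · exact ⟨z * t, Or.inr (Or.inr (Or.inr rfl)), h4⟩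
    exact absurd ⟨q, hq, hqt, h1, h2, h3, h4⟩ hcon
  -- step 1: `x` centralizes `C_Q(t)`
  have hstep1 : ∀ q ∈ Q, q * t = t * q → x * q * x⁻¹ = q := by
    intro q hq hqt
    obtain ⟨c, hc, hxq⟩ := hV q hq hqt
    have hxc : x * c = c * x := by
      rcases hc with rfl | rfl | rfl | rfl
      · simp
      · exact hxz
      · exact hxt
      · calc x * (z * t) = (x * z) * t := by group
          _ = z * (x * t) := by rw [hxz]; group
          _ = z * t * x := by rw [hxt]; group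
    have hc2 : c * c = 1 := by
      rcases hc with rfl | rfl | rfl | rfl
      · simp
      · exact hD.z_sq
      · exact ht2
      · calc z * t * (z * t) = z * (t * z) * t := by group
          _ = z * (z * t) * t := by rw [← hzt]
          _ = (z * z) * (t * t) := by group
          _ = 1 := by rw [hD.z_sq, ht2, mul_one]
    have h3 := pow_conj hxq hxc 3
    rw [hx3, one_mul, inv_one, mul_one] at h3
    have hc3 : c ^ 3 = 1 := by
      have := mul_left_cancel (a := q) (b := 1) (c := c ^ 3) (by rw [mul_one]; exact h3)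
      exact this.symm
    have hc4 : c ^ 4 = 1 := by
      have : c ^ 4 = (c * c) * (c * c) := by
        rw [show (4 : ℕ) = 2 + 2 from rfl, pow_add, pow_two]
      rw [this, hc2, mul_one]
    rw [hxq, eq_one_of_pow hc3 hc4, mul_one]
  -- step 2: `x` centralizes `Q`
  have hstep2 : ∀ a ∈ Q, x * a * x⁻¹ = a := by
    intro a ha
    have hb : x * a * x⁻¹ ∈ Q := hxQ a ha
    have hmQ : a⁻¹ * (x * a * x⁻¹) ∈ Q := mul_mem (inv_mem ha) hb
    -- `x a x⁻¹` and `a` conjugate `t` in the same way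
    have hc0 : cm a t = 1 ∨ cm a t = z := hD.comm_mem a ha t htQ
    have hxc0 : x * cm a t = cm a t * x := by
      rcases hc0 with h | h <;> rw [h]
      · simp
      · exact hxz
    have hat : a * t * a⁻¹ = cm a t * t := by unfold cm; group
    have hxt' : x⁻¹ * t * x = t := by
      calc x⁻¹ * t * x = x⁻¹ * (t * x) := by group
        _ = x⁻¹ * (x * t) := by rw [hxt]
        _ = t := by group
    have hbt : (x * a * x⁻¹) * t * (x * a * x⁻¹)⁻¹ = a * t * a⁻¹ := by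
      calc (x * a * x⁻¹) * t * (x * a * x⁻¹)⁻¹ = x * (a * (x⁻¹ * t * x) * a⁻¹) * x⁻¹ := by group
        _ = x * (a * t * a⁻¹) * x⁻¹ := by rw [hxt']
        _ = x * (cm a t * t) * x⁻¹ := by rw [hat]
        _ = (x * cm a t) * (t * x⁻¹) := by group
        _ = (cm a t * x) * (t * x⁻¹) := by rw [hxc0]
        _ = cm a t * (x * t) * x⁻¹ := by group
        _ = cm a t * (t * x) * x⁻¹ := by rw [hxt]
        _ = cm a t * t := by group
        _ = a * t * a⁻¹ := hat.symm
    have hmt : (a⁻¹ * (x * a * x⁻¹)) * t = t * (a⁻¹ * (x * a * x⁻¹)) := by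
      have h1 : (a⁻¹ * (x * a * x⁻¹)) * t * (a⁻¹ * (x * a * x⁻¹))⁻¹ = t := by
        calc (a⁻¹ * (x * a * x⁻¹)) * t * (a⁻¹ * (x * a * x⁻¹))⁻¹
            = a⁻¹ * ((x * a * x⁻¹) * t * (x * a * x⁻¹)⁻¹) * a := by group
          _ = a⁻¹ * (a * t * a⁻¹) * a := by rw [hbt]
          _ = t := by group
      calc (a⁻¹ * (x * a * x⁻¹)) * t
          = ((a⁻¹ * (x * a * x⁻¹)) * t * (a⁻¹ * (x * a * x⁻¹))⁻¹) * (a⁻¹ * (x * a * x⁻¹)) := by group
        _ = t * (a⁻¹ * (x * a * x⁻¹)) := by rw [h1]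
    have hxm := hstep1 _ hmQ hmt
    have hxm' : x * (a⁻¹ * (x * a * x⁻¹)) = (a⁻¹ * (x * a * x⁻¹)) * x := by
      calc x * (a⁻¹ * (x * a * x⁻¹)) = (x * (a⁻¹ * (x * a * x⁻¹)) * x⁻¹) * x := by group
        _ = (a⁻¹ * (x * a * x⁻¹)) * x := by rw [hxm]
    have hxa : x * a * x⁻¹ = a * (a⁻¹ * (x * a * x⁻¹)) := by group
    have h3 := pow_conj hxa hxm' 3
    rw [hx3, one_mul, inv_one, mul_one] at h3
    have hm3 : (a⁻¹ * (x * a * x⁻¹)) ^ 3 = 1 := by
      have := mul_left_cancel (a := a) (b := 1) (c := (a⁻¹ * (x * a * x⁻¹)) ^ 3)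
        (by rw [mul_one]; exact h3)
      exact this.symm
    have hm1 := eq_one_of_pow hm3 (hD.pow_four hmQ)
    rw [hxa, hm1, mul_one]
  -- step 3: `x ∈ Q`, a `2`-group
  have hxmem : x ∈ Q := hCQ (fun q hq => by
    have := hstep2 q hq
    calc x * q = (x * q * x⁻¹) * x := by group
      _ = q * x := by rw [this])
  exact hx1 (eq_one_of_pow hx3 (hD.pow_four hxmem))

end Cfsg.Agent.Lib.Helper3.BMTOrd3
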