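import Cfsg.Agent.Lib.Helper9.MTf
import Cfsg.Agent.Lib.Helper8.FStar
import Cfsg.Agent.Lib.Helper3.BMTOrd3

/-!
# Unit BM-ORD3b of the farm BMT (S5412, coordinator helper2)

In a group of Monster type, for `x ∈ Q` of type 2 there are `y ∈ C_C(x)` and `q ∈ C_Q(x)` with
`y q y⁻¹ ∉ q ⟨z, x⟩`: the witness for the criterion `UF` (`F*(C_C(x)/⟨x⟩) = C_Q(x)/⟨x⟩`).
-/

set_option autoImplicit false

namespace Cfsg.Agent.Lib.Helper3.BMTOrd3MT

open Cfsg Cfsg.Agent.Lib.Helper4.ES2 Cfsg.Agent.Lib.Helper9.MTc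

variable {G : Type*} [Group G] [Finite G] {z : G}
  {Q : Subgroup (Subgroup.centralizer ({z} : Set G))} [Q.Normal]
  {e : (Subgroup.centralizer ({z} : Set G)) ⧸ Q ≃* Spor.Co1}
  {ψ : leechLattice → Q ⧸ Subgroup.center Q}

/-- `C_C(Q) ≤ Q` -/
theorem mem_of_centralizes (h : MT z Q e ψ) (y : Subgroup.centralizer ({z} : Set G))
    (hy : ∀ q ∈ Q, y * q = q * y) : y ∈ Q := by
  have h1 : y ∈ Subgroup.centralizer
      ((Q : Subgroup (Subgroup.centralizer ({z} : Set G))) : Set _) := by
    rw [Subgroup.mem_centralizer_iff]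
    intro q hq
    exact (hy q hq).symm
  have h2 := Cfsg.Agent.Lib.Helper8.centralizer_generalizedFittingSubgroup_le
    (G := Subgroup.centralizer ({z} : Set G))
  rw [h.hF] at h2
  exact h2 h1

/-- unit BM-ORD3b -/
theorem exists_moved2 (h : MT z Q e ψ) (v : leechLattice) (x : Q)
    (hx : ψ v = QuotientGroup.mk x) (hv : sqNorm (v : GolayPt → ℤ) = 32) :
    ∃ y : Subgroup.centralizer ({z} : Set G),
      y * (x : Subgroup.centralizer ({z} : Set G)) = (x : Subgroup.centralizer ({z} : Set G)) * y ∧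
      ∃ q : Subgroup.centralizer ({z} : Set G), q ∈ Q ∧
        q * (x : Subgroup.centralizer ({z} : Set G)) = (x : Subgroup.centralizer ({z} : Set G)) * q ∧
        y * q * y⁻¹ ≠ q ∧ y * q * y⁻¹ ≠ q * zC z ∧
        y * q * y⁻¹ ≠ q * (x : Subgroup.centralizer ({z} : Set G)) ∧
        y * q * y⁻¹ ≠ q * (zC z * (x : Subgroup.centralizer ({z} : Set G))) := by
  have : Fact (Nat.Prime 3) := ⟨Nat.prime_three⟩
  -- an element of order 3 in `C_C(x)`
  have hcard := h.card_centralizer2 v x hx hv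
  have h3 : 3 ∣ Nat.card ↥(Subgroup.centralizer
      ({(x : Subgroup.centralizer ({z} : Set G))} : Set (Subgroup.centralizer ({z} : Set G)))) := by
    rw [hcard]
    norm_num
  obtain ⟨y, hy⟩ := exists_prime_orderOf_dvd_card' 3 h3
  have hy3 : (y : Subgroup.centralizer ({z} : Set G)) ^ 3 = 1 := by
    have := pow_orderOf_eq_one y
    rw [hy] at this
    exact congrArg Subtype.val this
  have hy1 : (y : Subgroup.centralizer ({z} : Set G)) ≠ 1 := by
    intro h1
    have : y = 1 := Subtype.ext h1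
    rw [this, orderOf_one] at hy
    omega
  have hyx : (y : Subgroup.centralizer ({z} : Set G)) * (x : Subgroup.centralizer ({z} : Set G)) =
      (x : Subgroup.centralizer ({z} : Set G)) * y :=
    (Subgroup.mem_centralizer_iff.mp y.2 _ (Set.mem_singleton _)).symm
  -- `x` is an involution
  have hxx : (x : Subgroup.centralizer ({z} : Set G)) * (x : Subgroup.centralizer ({z} : Set G)) = 1 := by
    have h1 : x * x = 1 := by
      rw [h.sq_iff v x hx, hv]
      decide
    exact congrArg Subtype.val h1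
  obtain ⟨q, hq, hqx, h1, h2, h4, h5⟩ :=
    Cfsg.Agent.Lib.Helper3.BMTOrd3.exists_moved h.data (x : Subgroup.centralizer ({z} : Set G)) x.2 hxx
      (y : Subgroup.centralizer ({z} : Set G)) hy3 hy1 (zC_comm _) hyx
      (fun q hq => (inferInstance : Q.Normal).conj_mem q hq _)
      (mem_of_centralizes h _)
  exact ⟨y, hyx, q, hq, hqx, h1, h2, h4, h5⟩

end Cfsg.Agent.Lib.Helper3.BMTOrd3MT
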