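import Mathlib
import Cfsg.Agent.Lib.Helper1.BrandtDefs

set_option autoImplicit false
set_option maxHeartbeats 4000000
set_option maxRecDepth 100000
set_option linter.unusedVariables false
set_option linter.unusedSectionVars false
set_option linter.style.longLine false
set_option linter.style.haveILetI false
set_option linter.unusedSimpArgs false
set_option linter.unnecessarySimpa false

namespace Cfsg.Agent.Lib.Helper1.Brandt

universe u v

section MU

variable {K : Type v} {A : Type u} [Field K] [Ring A] [Algebra K A] {n : ℕ}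

/-- centralizer of a system of matrix units -/
def rt3Cent (K : Type v) {A : Type u} [Field K] [Ring A] [Algebra K A] {n : ℕ}
    (e : Fin n → Fin n → A) : Subalgebra K A :=
  Subalgebra.centralizer K (Set.range (fun p : Fin n × Fin n => e p.1 p.2))

theorem mem_rt3Cent (e : Fin n → Fin n → A) (c : A) :
    c ∈ rt3Cent K e ↔ ∀ i j, e i j * c = c * e i j := by
  unfold rt3Cent
  rw [Subalgebra.mem_centralizer_iff]
  constructor
  · intro h i j; exact h _ ⟨(i, j), rfl⟩
  · rintro h _ ⟨p, rfl⟩; exact h p.1 p.2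

/-- the linear map `M ↦ ∑ M i j * e i j` -/
def rt3PsiLin (e : Fin n → Fin n → A) : Matrix (Fin n) (Fin n) (rt3Cent K e) →ₗ[K] A where
  toFun M := ∑ i, ∑ j, ((M i j : rt3Cent K e) : A) * e i j
  map_add' M N := by
    simp only [Matrix.add_apply, Subalgebra.coe_add, add_mul, Finset.sum_add_distrib]
  map_smul' c M := by
    simp only [Matrix.smul_apply, Subalgebra.coe_smul, smul_mul_assoc, Finset.smul_sum,
      RingHom.id_apply]

theorem rt3PsiLin_apply (e : Fin n → Fin n → A) (M : Matrix (Fin n) (Fin n) (rt3Cent K e)) :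
    rt3PsiLin e M = ∑ i, ∑ j, ((M i j : rt3Cent K e) : A) * e i j := rfl

theorem rt3PsiLin_one (e : Fin n → Fin n → A) (hsum : ∑ i, e i i = 1) :
    rt3PsiLin (K := K) e 1 = 1 := by
  rw [rt3PsiLin_apply, ← hsum]
  refine Finset.sum_congr rfl (fun i _ => ?_)
  rw [Finset.sum_eq_single i]
  · simp
  · intro j _ hj
    rw [Matrix.one_apply_ne (Ne.symm hj)]
    simp
  · intro h; exact absurd (Finset.mem_univ i) h

theorem rt3PsiLin_mul (e : Fin n → Fin n → A)
    (hmul : ∀ i j k l, e i j * e k l = if j = k then e i l else 0)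
    (M N : Matrix (Fin n) (Fin n) (rt3Cent K e)) :
    rt3PsiLin e (M * N) = rt3PsiLin e M * rt3PsiLin e N := by
  have key : ∀ i k l j, (((M i k : rt3Cent K e) : A) * e i k) * (((N l j : rt3Cent K e) : A) * e l j)
      = if k = l then ((M i k : rt3Cent K e) : A) * ((N l j : rt3Cent K e) : A) * e i j else 0 := by
    intro i k l j
    have hc : e i k * ((N l j : rt3Cent K e) : A) = ((N l j : rt3Cent K e) : A) * e i k :=
      (mem_rt3Cent e _).1 (N l j).2 i k
    calc (((M i k : rt3Cent K e) : A) * e i k) * (((N l j : rt3Cent K e) : A) * e l j)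
        = ((M i k : rt3Cent K e) : A) * (e i k * ((N l j : rt3Cent K e) : A)) * e l j := by
          simp only [mul_assoc]
      _ = ((M i k : rt3Cent K e) : A) * (((N l j : rt3Cent K e) : A) * e i k) * e l j := by rw [hc]
      _ = ((M i k : rt3Cent K e) : A) * ((N l j : rt3Cent K e) : A) * (e i k * e l j) := by
          simp only [mul_assoc]
      _ = _ := by
          rw [hmul]
          split_ifs <;> simp
  rw [rt3PsiLin_apply, rt3PsiLin_apply, rt3PsiLin_apply]
  simp_rw [Finset.sum_mul, Finset.mul_sum]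
  refine Finset.sum_congr rfl (fun i _ => ?_)
  simp_rw [key]
  have h2 : ∀ k, (∑ l, ∑ j, if k = l then ((M i k : rt3Cent K e) : A) * ((N l j : rt3Cent K e) : A) * e i j else 0)
      = ∑ j, ((M i k : rt3Cent K e) : A) * ((N k j : rt3Cent K e) : A) * e i j := by
    intro k
    rw [Finset.sum_comm]
    refine Finset.sum_congr rfl (fun j _ => ?_)
    rw [Finset.sum_ite_eq]
    simp
  simp_rw [h2]
  rw [Finset.sum_comm]
  refine Finset.sum_congr rfl (fun j _ => ?_)
  rw [Matrix.mul_apply]
  rw [← Finset.sum_mul]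
  congr 1
  simp

/-- the algebra hom `Matrix over centralizer → A` -/
def rt3Psi (e : Fin n → Fin n → A)
    (hmul : ∀ i j k l, e i j * e k l = if j = k then e i l else 0) (hsum : ∑ i, e i i = 1) :
    Matrix (Fin n) (Fin n) (rt3Cent K e) →ₐ[K] A :=
  AlgHom.ofLinearMap (rt3PsiLin e) (rt3PsiLin_one e hsum) (rt3PsiLin_mul e hmul)

theorem rt3Psi_apply (e : Fin n → Fin n → A)
    (hmul : ∀ i j k l, e i j * e k l = if j = k then e i l else 0) (hsum : ∑ i, e i i = 1)
    (M : Matrix (Fin n) (Fin n) (rt3Cent K e)) :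
    rt3Psi e hmul hsum M = ∑ i, ∑ j, ((M i j : rt3Cent K e) : A) * e i j := rfl

/-- recovering the entries -/
theorem rt3_entry (e : Fin n → Fin n → A)
    (hmul : ∀ i j k l, e i j * e k l = if j = k then e i l else 0) (hsum : ∑ i, e i i = 1)
    (M : Matrix (Fin n) (Fin n) (rt3Cent K e)) (i j : Fin n) :
    ((M i j : rt3Cent K e) : A) = ∑ k, e k i * rt3Psi e hmul hsum M * e j k := by
  rw [rt3Psi_apply]
  have h1 : ∀ k, e k i * (∑ p, ∑ q, ((M p q : rt3Cent K e) : A) * e p q) * e j k
      = ((M i j : rt3Cent K e) : A) * e k k := by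
    intro k
    simp_rw [Finset.mul_sum, Finset.sum_mul]
    have h3 : ∀ p q, e k i * (((M p q : rt3Cent K e) : A) * e p q) * e j k
        = if i = p then (if q = j then ((M p q : rt3Cent K e) : A) * e k k else 0) else 0 := by
      intro p q
      have hc : e k i * ((M p q : rt3Cent K e) : A) = ((M p q : rt3Cent K e) : A) * e k i :=
        (mem_rt3Cent e _).1 (M p q).2 k i
      calc e k i * (((M p q : rt3Cent K e) : A) * e p q) * e j k
          = (e k i * ((M p q : rt3Cent K e) : A)) * e p q * e j k := by simp only [mul_assoc]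
        _ = ((M p q : rt3Cent K e) : A) * (e k i * e p q) * e j k := by rw [hc]; simp only [mul_assoc]
        _ = _ := by
            rw [hmul]
            by_cases hip : i = p
            · rw [if_pos hip, if_pos hip, mul_assoc, hmul]
              by_cases hq : q = j
              · rw [if_pos hq, if_pos hq]
              · rw [if_neg hq, if_neg hq, mul_zero]
            · rw [if_neg hip, if_neg hip, mul_zero, zero_mul]
    simp_rw [h3]
    rw [Finset.sum_eq_single i]
    · simp only [if_true]
      rw [Finset.sum_ite_eq']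
      simp
    · intro b _ hb
      simp [Ne.symm hb]
    · intro h; exact absurd (Finset.mem_univ i) h
  simp_rw [h1]
  rw [← Finset.mul_sum, hsum, mul_one]

theorem rt3Psi_injective (e : Fin n → Fin n → A)
    (hmul : ∀ i j k l, e i j * e k l = if j = k then e i l else 0) (hsum : ∑ i, e i i = 1) :
    Function.Injective (rt3Psi (K := K) e hmul hsum) := by
  intro M N h
  ext i j
  rw [rt3_entry e hmul hsum M i j, rt3_entry e hmul hsum N i j, h]

theorem rt3Psi_surjective (e : Fin n → Fin n → A)
    (hmul : ∀ i j k l, e i j * e k l = if j = k then e i l else 0) (hsum : ∑ i, e i i = 1) :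
    Function.Surjective (rt3Psi (K := K) e hmul hsum) := by
  intro a
  have hmem : ∀ i j, (∑ k, e k i * a * e j k) ∈ rt3Cent K e := by
    intro i j
    rw [mem_rt3Cent]
    intro p q
    rw [Finset.mul_sum, Finset.sum_mul]
    have h1 : ∀ k, e p q * (e k i * a * e j k) = if q = k then e p i * a * e j k else 0 := by
      intro k
      rw [← mul_assoc, ← mul_assoc, hmul]
      split_ifs <;> simp
    have h2 : ∀ k, e k i * a * e j k * e p q = if k = p then e k i * a * e j q else 0 := by
      intro k
      rw [mul_assoc, hmul]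
      split_ifs <;> simp
    simp_rw [h1, h2]
    rw [Finset.sum_ite_eq, Finset.sum_ite_eq']
    simp
  refine ⟨Matrix.of (fun i j => (⟨∑ k, e k i * a * e j k, hmem i j⟩ : rt3Cent K e)), ?_⟩
  rw [rt3Psi_apply]
  simp only [Matrix.of_apply]
  have h3 : ∀ i j, (∑ k, e k i * a * e j k) * e i j = e i i * a * e j j := by
    intro i j
    rw [Finset.sum_mul]
    have : ∀ k, e k i * a * e j k * e i j = if k = i then e k i * a * e j j else 0 := by
      intro k
      rw [mul_assoc, hmul]
      split_ifs <;> simp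
    simp_rw [this]
    rw [Finset.sum_ite_eq']
    simp
  simp_rw [h3]
  calc ∑ i, ∑ j, e i i * a * e j j = (∑ i, e i i) * a * (∑ j, e j j) := by
        rw [Finset.sum_mul, Finset.sum_mul]
        refine Finset.sum_congr rfl (fun i _ => ?_)
        rw [Finset.mul_sum]
    _ = a := by rw [hsum, one_mul, mul_one]

/-- matrix units give a matrix algebra over their centralizer -/
noncomputable def rt3Equiv (e : Fin n → Fin n → A)
    (hmul : ∀ i j k l, e i j * e k l = if j = k then e i l else 0) (hsum : ∑ i, e i i = 1) :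
    A ≃ₐ[K] Matrix (Fin n) (Fin n) (rt3Cent K e) :=
  (AlgEquiv.ofBijective (rt3Psi e hmul hsum)
    ⟨rt3Psi_injective e hmul hsum, rt3Psi_surjective e hmul hsum⟩).symm

end MU


section Lift

/-- inverting in the corner: from `a ∈ d0 A dj`, `b ∈ dj A d0` that are mutually inverse modulo the
nil kernel, produce honest mutually inverse elements. -/
theorem rt3_pq {A : Type u} {B : Type v} [Ring A] [Ring B] (f : A →+* B)
    (hnil : ∀ x ∈ RingHom.ker f, IsNilpotent x)
    (d0 dj a b : A) (hd0 : d0 * d0 = d0) (hdj : dj * dj = dj)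
    (ha1 : d0 * a = a) (ha2 : a * dj = a) (hb1 : dj * b = b) (hb2 : b * d0 = b)
    (hab : f (a * b) = f d0) (hba : f (b * a) = f dj) :
    ∃ p q : A, p * q = d0 ∧ q * p = dj ∧ d0 * p = p ∧ p * dj = p ∧ dj * q = q ∧ q * d0 = q ∧
      f p = f a ∧ f q = f b := by
  set z : A := d0 - a * b with hz
  have hzker : z ∈ RingHom.ker f := by
    rw [RingHom.mem_ker, hz, map_sub, hab, sub_self]
  have hzd0 : z * d0 = z := by
    rw [hz, sub_mul, hd0, mul_assoc, hb2]
  obtain ⟨w', hw'⟩ := (hnil z hzker).isUnit_one_sub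
  set w : A := ((w'⁻¹ : Aˣ) : A) with hw
  have hw1 : w * (1 - z) = 1 := by
    rw [hw, ← hw']; exact Units.inv_mul w'
  have hw2 : (1 - z) * w = 1 := by
    rw [hw, ← hw']; exact Units.mul_inv w'
  have hfz : f z = 0 := hzker
  have hfw : f w = 1 := by
    have := congrArg f hw1
    rw [map_mul, map_sub, map_one, hfz, sub_zero, mul_one] at this
    exact this
  have hab' : a * b = (1 - z) * d0 := by
    rw [sub_mul, one_mul, hzd0, hz, sub_sub_cancel]
  refine ⟨d0 * w * a, b, ?_, ?_, ?_, ?_, hb1, hb2, ?_, rfl⟩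
  · -- p q = d0
    calc d0 * w * a * b = d0 * (w * (a * b)) := by simp only [mul_assoc]
      _ = d0 * (w * ((1 - z) * d0)) := by rw [hab']
      _ = d0 * ((w * (1 - z)) * d0) := by simp only [mul_assoc]
      _ = d0 := by rw [hw1, one_mul, hd0]
  · -- q p = dj
    set g : A := b * (d0 * w * a) with hg
    have hgg : g * g = g := by
      calc g * g = b * (d0 * (w * ((a * b) * (d0 * (w * a))))) := by
            rw [hg]; simp only [mul_assoc]
        _ = b * (d0 * (w * (((1 - z) * d0) * (d0 * (w * a))))) := by rw [hab']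
        _ = b * (d0 * ((w * (1 - z)) * ((d0 * d0) * (w * a)))) := by simp only [mul_assoc]
        _ = b * (d0 * (d0 * (w * a))) := by rw [hw1, one_mul, hd0]
        _ = b * ((d0 * d0) * (w * a)) := by simp only [mul_assoc]
        _ = g := by rw [hd0, hg]; simp only [mul_assoc]
    have hdg : dj * g = g := by
      rw [hg, ← mul_assoc, hb1]
    have hgd : g * dj = g := by
      rw [hg]
      calc b * (d0 * w * a) * dj = b * (d0 * w * (a * dj)) := by simp only [mul_assoc]
        _ = b * (d0 * w * a) := by rw [ha2]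
    have hidem : IsIdempotentElem (dj - g) := by
      unfold IsIdempotentElem
      rw [sub_mul, mul_sub, mul_sub, hdj, hdg, hgd, hgg]
      abel
    have hfg : f g = f dj := by
      rw [hg, map_mul, map_mul, map_mul, hfw, mul_one, ← map_mul, ← map_mul, ← mul_assoc, hb2, hba]
    have hker : dj - g ∈ RingHom.ker f := by
      rw [RingHom.mem_ker, map_sub, hfg, sub_self]
    have h0 : dj - g = 0 := hidem.eq_zero_of_isNilpotent (hnil _ hker)
    exact (sub_eq_zero.mp h0).symm
  · -- d0 * p = p
    rw [← mul_assoc, ← mul_assoc, hd0]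
  · -- p * dj = p
    rw [mul_assoc, ha2]
  · -- f p = f a
    rw [map_mul, map_mul, hfw, mul_one, ← map_mul, ha1]

variable {K : Type v} {A : Type u} [Field K] [Ring A] [Algebra K A] {n : ℕ}

theorem rt3_ker_nil (π : A →ₐ[K] Matrix (Fin n) (Fin n) K) (hnil : KerNilp π) :
    ∀ x ∈ RingHom.ker (π : A →+* Matrix (Fin n) (Fin n) K), IsNilpotent x := by
  obtain ⟨m, hm⟩ := hnil
  intro x hx
  refine ⟨m, ?_⟩
  have h1 := hm (fun _ => x) (fun _ => by simpa [RingHom.mem_ker] using hx)
  simpa [List.ofFn_const, List.prod_replicate] using h1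

/-- existence of matrix units lifting the standard ones -/
theorem rt3_units (hn : 0 < n)
    (π : A →ₐ[K] Matrix (Fin n) (Fin n) K) (hπ : Function.Surjective π) (hnil : KerNilp π) :
    ∃ e : Fin n → Fin n → A, (∀ i j k l, e i j * e k l = if j = k then e i l else 0) ∧
      (∑ i, e i i = 1) ∧ ∀ i j, π (e i j) = Matrix.single i j (1 : K) := by
  classical
  have hnilp := rt3_ker_nil π hnil
  set f : A →+* Matrix (Fin n) (Fin n) K := (π : A →+* Matrix (Fin n) (Fin n) K) with hf
  have hfπ : ∀ a, f a = π a := fun a => rfl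
  -- the diagonal idempotents of the matrix ring
  have hE : CompleteOrthogonalIdempotents (fun i : Fin n => Matrix.single i i (1 : K)) := by
    refine ⟨⟨?_, ?_⟩, ?_⟩
    · intro i
      unfold IsIdempotentElem
      rw [Matrix.single_mul_single_same, one_mul]
    · intro i j hij
      exact Matrix.single_mul_single_of_ne (1 : K) i i j hij (1 : K)
    · exact Matrix.sum_single_one
  obtain ⟨d, hd, hdE⟩ := hE.lift_of_isNilpotent_ker f hnilp
    (fun i => by
      obtain ⟨a, ha⟩ := hπ (Matrix.single i i (1 : K))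
      exact ⟨a, ha⟩)
  have hdπ : ∀ i, π (d i) = Matrix.single i i (1 : K) := fun i => congrFun hdE i
  have hdi : ∀ i, d i * d i = d i := fun i => hd.idem i
  have hdo : ∀ i j, i ≠ j → d i * d j = 0 := fun i j hij => hd.ortho hij
  set i0 : Fin n := ⟨0, hn⟩ with hi0
  -- for each j the pair p j, q j
  have hex : ∀ j : Fin n, ∃ p q : A, p * q = d i0 ∧ q * p = d j ∧ d i0 * p = p ∧ p * d j = p ∧
      d j * q = q ∧ q * d i0 = q ∧ π p = Matrix.single i0 j (1 : K) ∧
      π q = Matrix.single j i0 (1 : K) := by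
    intro j
    obtain ⟨a, ha⟩ := hπ (Matrix.single i0 j (1 : K))
    obtain ⟨b, hb⟩ := hπ (Matrix.single j i0 (1 : K))
    have h1 : π (d i0 * a * d j) = Matrix.single i0 j (1 : K) := by
      rw [map_mul, map_mul, hdπ, hdπ, ha, Matrix.single_mul_single_same,
        Matrix.single_mul_single_same, one_mul, one_mul]
    have h2 : π (d j * b * d i0) = Matrix.single j i0 (1 : K) := by
      rw [map_mul, map_mul, hdπ, hdπ, hb, Matrix.single_mul_single_same,
        Matrix.single_mul_single_same, one_mul, one_mul]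
    obtain ⟨p, q, h3, h4, h5, h6, h7, h8, h9, h10⟩ := rt3_pq f hnilp (d i0) (d j)
      (d i0 * a * d j) (d j * b * d i0) (hdi i0) (hdi j)
      (by rw [← mul_assoc, ← mul_assoc, hdi]) (by rw [mul_assoc, hdi])
      (by rw [← mul_assoc, ← mul_assoc, hdi]) (by rw [mul_assoc, hdi])
      (by rw [hfπ, hfπ, map_mul, h1, h2, Matrix.single_mul_single_same, one_mul, hdπ])
      (by rw [hfπ, hfπ, map_mul, h1, h2, Matrix.single_mul_single_same, one_mul, hdπ])
    refine ⟨p, q, h3, h4, h5, h6, h7, h8, ?_, ?_⟩
    · rw [← hfπ, h9, hfπ, h1]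
    · rw [← hfπ, h10, hfπ, h2]
  choose p q hpq hqp hdp hpd hdq hqd hπp hπq using hex
  refine ⟨fun i j => q i * p j, ?_, ?_, ?_⟩
  · intro i j k l
    by_cases hjk : j = k
    · subst hjk
      rw [if_pos rfl]
      calc q i * p j * (q j * p l) = q i * ((p j * q j) * p l) := by simp only [mul_assoc]
        _ = q i * (d i0 * p l) := by rw [hpq]
        _ = q i * p l := by rw [hdp]
    · rw [if_neg hjk]
      calc q i * p j * (q k * p l) = q i * ((p j * d j) * ((d k * q k) * p l)) := by
            rw [hpd, hdq]; simp only [mul_assoc]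
        _ = q i * (p j * ((d j * d k) * (q k * p l))) := by simp only [mul_assoc]
        _ = 0 := by rw [hdo j k hjk]; simp
  · simp_rw [hqp]
    exact hd.complete
  · intro i j
    rw [map_mul, hπp, hπq, Matrix.single_mul_single_same, one_mul]

end Lift

section Rho

variable {K : Type v} {A : Type u} [Field K] [Ring A] [Algebra K A] {n : ℕ}

/-- the image of a centralizing element is a scalar matrix -/
theorem rt3_scalar (π : A →ₐ[K] Matrix (Fin n) (Fin n) K) (e : Fin n → Fin n → A)
    (hπe : ∀ i j, π (e i j) = Matrix.single i j (1 : K)) (i0 : Fin n)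
    (c : A) (hc : c ∈ rt3Cent K e) (i j : Fin n) :
    π c i j = if i = j then π c i0 i0 else 0 := by
  have h1 : e i0 i * c = c * e i0 i := (mem_rt3Cent e c).1 hc i0 i
  have h2 : Matrix.single i0 i (1 : K) * π c = π c * Matrix.single i0 i (1 : K) := by
    rw [← hπe, ← map_mul, ← map_mul, h1]
  have h3 := congrFun (congrFun h2 i0) j
  rw [Matrix.single_mul_apply_same, one_mul] at h3
  rw [h3]
  by_cases hij : i = j
  · subst hij
    rw [if_pos rfl, Matrix.mul_single_apply_same, mul_one]
  · rw [if_neg hij, Matrix.mul_single_apply_of_ne _ _ _ _ _ (Ne.symm hij)]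

/-- the augmentation of the centralizer -/
def rt3Rho (π : A →ₐ[K] Matrix (Fin n) (Fin n) K) (e : Fin n → Fin n → A)
    (hπe : ∀ i j, π (e i j) = Matrix.single i j (1 : K)) (i0 : Fin n) :
    rt3Cent K e →ₐ[K] K where
  toFun c := π (c : A) i0 i0
  map_one' := by simp
  map_mul' c c' := by
    simp only [Subalgebra.coe_mul, map_mul, Matrix.mul_apply]
    rw [Finset.sum_eq_single i0]
    · intro k _ hk
      rw [rt3_scalar π e hπe i0 (c : A) c.2 i0 k, if_neg (Ne.symm hk), zero_mul]
    · intro h; exact absurd (Finset.mem_univ i0) h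
  map_zero' := by simp
  map_add' c c' := by simp
  commutes' r := by
    simp [Matrix.algebraMap_matrix_apply]

theorem rt3Rho_apply (π : A →ₐ[K] Matrix (Fin n) (Fin n) K) (e : Fin n → Fin n → A)
    (hπe : ∀ i j, π (e i j) = Matrix.single i j (1 : K)) (i0 : Fin n) (c : rt3Cent K e) :
    rt3Rho π e hπe i0 c = π (c : A) i0 i0 := rfl

theorem rt3Rho_kerNilp (π : A →ₐ[K] Matrix (Fin n) (Fin n) K) (hnil : KerNilp π)
    (e : Fin n → Fin n → A)
    (hπe : ∀ i j, π (e i j) = Matrix.single i j (1 : K)) (i0 : Fin n) :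
    KerNilp (rt3Rho π e hπe i0) := by
  obtain ⟨m, hm⟩ := hnil
  refine ⟨m, fun f hf => ?_⟩
  have h1 : ∀ i, π ((f i : rt3Cent K e) : A) = 0 := by
    intro i
    ext a b
    rw [rt3_scalar π e hπe i0 _ (f i).2 a b]
    have : π ((f i : rt3Cent K e) : A) i0 i0 = 0 := hf i
    rw [this]
    simp
  have h2 := hm (fun i => ((f i : rt3Cent K e) : A)) h1
  apply Subtype.ext
  rw [SubmonoidClass.coe_list_prod, List.map_ofFn]
  exact h2

end Rho

/-- RT3 -/
theorem rt3 {K : Type v} {A : Type u} [Field K] [Ring A] [Algebra K A] (n : ℕ) (hn : 0 < n)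
    (π : A →ₐ[K] Matrix (Fin n) (Fin n) K) (hπ : Function.Surjective π) (hnil : KerNilp π) :
    ∃ (A₀ : Type u) (_ : Ring A₀) (_ : Algebra K A₀) (_ : A ≃ₐ[K] Matrix (Fin n) (Fin n) A₀)
      (ρ : A₀ →ₐ[K] K), KerNilp ρ := by
  obtain ⟨e, hmul, hsum, hπe⟩ := rt3_units hn π hπ hnil
  exact ⟨rt3Cent K e, inferInstance, inferInstance, rt3Equiv e hmul hsum,
    rt3Rho π e hπe ⟨0, hn⟩, rt3Rho_kerNilp π hnil e hπe ⟨0, hn⟩⟩

end Cfsg.Agent.Lib.Helper1.Brandt
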