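import Mathlib
import Cfsg.Agent.Lib.Helper1.BrandtDefs

set_option autoImplicit false
set_option maxHeartbeats 4000000
set_option maxRecDepth 100000
set_option linter.unusedVariables false
set_option linter.unusedSectionVars false
set_option linter.style.longLine false
set_option linter.style.haveILetI false
set_option linter.unusedSimpArgs false
set_option linter.unnecessarySimpa false

namespace Cfsg.Agent.Lib.Helper1.Brandt

universe u v

/-- the linear equivalence `K × K ≃ A₀` given by the basis `1, x` -/
theorem rt5_equiv {K : Type v} {A₀ : Type u} [Field K] [Ring A₀] [Algebra K A₀]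
    (x : A₀) (hx0 : x ≠ 0) (hxx : x * x = 0)
    (hspan : ∀ a : A₀, ∃ α β : K, a = α • (1 : A₀) + β • x) :
    Nonempty ((K × K) ≃ₗ[K] A₀) := by
  let φ : (K × K) →ₗ[K] A₀ :=
    { toFun := fun p => p.1 • (1 : A₀) + p.2 • x
      map_add' := by
        intro p q
        simp only [Prod.fst_add, Prod.snd_add, add_smul]
        abel
      map_smul' := by
        intro c p
        simp only [Prod.smul_fst, Prod.smul_snd, smul_eq_mul, RingHom.id_apply, mul_smul, smul_add] }
  have hinj : Function.Injective φ := by
    rw [← LinearMap.ker_eq_bot, LinearMap.ker_eq_bot']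
    intro p hp
    have hp' : p.1 • (1 : A₀) + p.2 • x = 0 := hp
    have h1 : (p.1 • (1 : A₀) + p.2 • x) * x = 0 := by rw [hp', zero_mul]
    rw [add_mul, smul_mul_assoc, smul_mul_assoc, one_mul, hxx, smul_zero, add_zero] at h1
    have ha : p.1 = 0 := by
      rcases smul_eq_zero.mp h1 with h | h
      · exact h
      · exact absurd h hx0
    rw [ha, zero_smul, zero_add] at hp'
    have hb : p.2 = 0 := by
      rcases smul_eq_zero.mp hp' with h | h
      · exact h
      · exact absurd h hx0
    exact Prod.ext ha hb
  have hsurj : Function.Surjective φ := by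
    intro a
    obtain ⟨α, β, h⟩ := hspan a
    exact ⟨(α, β), h.symm⟩
  exact ⟨LinearEquiv.ofBijective φ ⟨hinj, hsurj⟩⟩

/-- RT5 -/
theorem rt5 {K : Type v} {A₀ : Type u} [Field K] [Ring A₀] [Algebra K A₀] (n : ℕ)
    (x : A₀) (hx0 : x ≠ 0) (hxx : x * x = 0)
    (hspan : ∀ a : A₀, ∃ α β : K, a = α • (1 : A₀) + β • x) :
    Module.finrank K (Matrix (Fin n) (Fin n) A₀) = 2 * n ^ 2 ∧
    ∀ I : Submodule K (Matrix (Fin n) (Fin n) A₀), IsTwoSided I → I ≠ ⊥ →
      n ^ 2 ≤ Module.finrank K I := by
  obtain ⟨e⟩ := rt5_equiv x hx0 hxx hspan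
  haveI : Module.Finite K A₀ := Module.Finite.equiv e
  have hfr : Module.finrank K A₀ = 2 := by
    rw [← LinearEquiv.finrank_eq e, Module.finrank_prod, Module.finrank_self]
  refine ⟨?_, ?_⟩
  · rw [Module.finrank_matrix, hfr, Fintype.card_fin]; ring
  · intro I hI hIne
    -- a nonzero element
    obtain ⟨M, hMI, hM0⟩ := (Submodule.ne_bot_iff I).mp hIne
    have : ∃ i j, M i j ≠ 0 := by
      by_contra hcon
      push Not at hcon
      exact hM0 (by ext i j; simpa using hcon i j)
    obtain ⟨i, j, hij⟩ := this
    obtain ⟨α, β, hab⟩ := hspan (M i j)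
    -- x E_{kl} ∈ I
    have hxE : ∀ k l : Fin n, Matrix.single k l x ∈ I := by
      intro k l
      by_cases hα : α = 0
      · -- M i j = β • x, β ≠ 0
        have hβ : β ≠ 0 := by
          rintro rfl
          apply hij
          rw [hab, hα, zero_smul, zero_smul, add_zero]
        have h1 : Matrix.single k i (1 : A₀) * M * Matrix.single j l (1 : A₀) ∈ I :=
          (hI _ _ ((hI _ _ hMI).1)).2
        rw [Matrix.single_mul_mul_single, one_mul, mul_one, hab, hα, zero_smul, zero_add] at h1
        have h2 := I.smul_mem β⁻¹ h1
        have : β⁻¹ • Matrix.single k l (β • x) = Matrix.single k l x := by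
          rw [Matrix.smul_single, smul_smul, inv_mul_cancel₀ hβ, one_smul]
        rwa [this] at h2
      · have h1 : Matrix.single k i (x : A₀) * M * Matrix.single j l (1 : A₀) ∈ I :=
          (hI _ _ ((hI _ _ hMI).1)).2
        rw [Matrix.single_mul_mul_single, mul_one, hab, mul_add, mul_smul_comm, mul_smul_comm,
          mul_one, hxx, smul_zero, add_zero] at h1
        have h2 := I.smul_mem α⁻¹ h1
        have : α⁻¹ • Matrix.single k l (α • x) = Matrix.single k l x := by
          rw [Matrix.smul_single, smul_smul, inv_mul_cancel₀ hα, one_smul]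
        rwa [this] at h2
    -- the embedding of matrices over K
    let ψ : Matrix (Fin n) (Fin n) K →ₗ[K] Matrix (Fin n) (Fin n) A₀ :=
      { toFun := fun N => Matrix.of (fun a b => N a b • x)
        map_add' := by
          intro N N'
          ext a b
          simp [add_smul]
        map_smul' := by
          intro c N
          ext a b
          simp [mul_smul] }
    have hψinj : Function.Injective ψ := by
      rw [← LinearMap.ker_eq_bot, LinearMap.ker_eq_bot']
      intro N hN
      ext a b
      have := congrFun (congrFun hN a) b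
      have h3 : N a b • x = 0 := this
      rcases smul_eq_zero.mp h3 with h | h
      · simpa using h
      · exact absurd h hx0
    have hψI : LinearMap.range ψ ≤ I := by
      rintro _ ⟨N, rfl⟩
      have : ψ N = ∑ a : Fin n, ∑ b : Fin n, N a b • Matrix.single a b x := by
        have h4 := Matrix.matrix_eq_sum_single (ψ N)
        rw [h4]
        refine Finset.sum_congr rfl (fun a _ => Finset.sum_congr rfl (fun b _ => ?_))
        rw [Matrix.smul_single]
        rfl
      rw [this]
      exact Submodule.sum_mem _ (fun a _ => Submodule.sum_mem _ (fun b _ => I.smul_mem _ (hxE a b)))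
    have h5 : Module.finrank K (LinearMap.range ψ) = n ^ 2 := by
      rw [LinearMap.finrank_range_of_inj hψinj, Module.finrank_matrix, Module.finrank_self,
        Fintype.card_fin]
      ring
    rw [← h5]
    exact Submodule.finrank_mono hψI

end Cfsg.Agent.Lib.Helper1.Brandt
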