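import Mathlib
import Cfsg.Prelude.Def_Transfer
import Cfsg.Agent.Lib.Helper1.ExtraspecialCentral
import Cfsg.Agent.Lib.Helper1.FrattiniP

set_option autoImplicit false

/-! P. Hall's theorem on p-groups of symplectic type, part A: general lemmas
(characteristic subgroups, cyclic groups, a criterion for being extraspecial). -/

namespace Cfsg.Agent.Lib.Helper3.Symp

open Cfsg
open scoped commutatorElement

variable {G : Type*} [Group G]

theorem char_mem_iff {K : Subgroup G} (hK : K.Characteristic) (φ : G ≃* G) {x : G} :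
    φ x ∈ K ↔ x ∈ K := by
  have h := Subgroup.characteristic_iff_comap_eq.mp hK φ
  constructor
  · intro hx
    rw [← h]
    exact hx
  · intro hx
    rw [← h] at hx
    exact hx

theorem char_conj_mem_iff {K : Subgroup G} (hK : K.Characteristic) (g : G) {x : G} :
    g * x * g⁻¹ ∈ K ↔ x ∈ K := by
  have h := char_mem_iff hK (MulAut.conj g) (x := x)
  rwa [MulAut.conj_apply] at h

theorem centralizer_char {K : Subgroup G} (hK : K.Characteristic) :
    (Subgroup.centralizer (K : Set G)).Characteristic := by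
  rw [Subgroup.characteristic_iff_le_comap]
  intro φ x hx
  rw [Subgroup.mem_comap, Subgroup.mem_centralizer_iff]
  intro k hk
  have hk' : φ.symm k ∈ K := (char_mem_iff hK φ.symm).mpr hk
  have h1 := Subgroup.mem_centralizer_iff.mp hx (φ.symm k) hk'
  have h2 := congrArg φ h1
  simpa [map_mul] using h2

theorem inf_char {K L : Subgroup G} (hK : K.Characteristic) (hL : L.Characteristic) :
    (K ⊓ L).Characteristic := by
  rw [Subgroup.characteristic_iff_le_comap]
  intro φ x hx
  rw [Subgroup.mem_comap]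
  exact ⟨(char_mem_iff hK φ).mpr hx.1, (char_mem_iff hL φ).mpr hx.2⟩

theorem sup_char {K L : Subgroup G} (hK : K.Characteristic) (hL : L.Characteristic) :
    (K ⊔ L).Characteristic := by
  rw [Subgroup.characteristic_iff_map_le]
  intro φ
  rw [Subgroup.map_sup]
  exact sup_le_sup (Subgroup.characteristic_iff_map_le.mp hK φ)
    (Subgroup.characteristic_iff_map_le.mp hL φ)

theorem zcenter_char {K : Subgroup G} (hK : K.Characteristic) :
    (K ⊓ Subgroup.centralizer (K : Set G)).Characteristic :=
  inf_char hK (centralizer_char hK)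

theorem zcenter_comm (K : Subgroup G) :
    IsMulCommutative ↥(K ⊓ Subgroup.centralizer (K : Set G)) := by
  refine ⟨⟨fun a b => ?_⟩⟩
  have h := Subgroup.mem_centralizer_iff.mp b.2.2 a.1 a.2.1
  exact Subtype.ext h

theorem comm_of_isMulCommutative {K : Subgroup G} (h : IsMulCommutative ↥K) :
    ∀ a ∈ K, ∀ b ∈ K, a * b = b * a := by
  intro a ha b hb
  have := h.is_comm.comm (⟨a, ha⟩ : ↥K) ⟨b, hb⟩
  exact congrArg Subtype.val this

theorem isMulCommutative_of_comm {K : Subgroup G} (h : ∀ a ∈ K, ∀ b ∈ K, a * b = b * a) :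
    IsMulCommutative ↥K :=
  ⟨⟨fun a b => Subtype.ext (h a.1 a.2 b.1 b.2)⟩⟩

theorem mem_centralizer_closure_iff {S : Set G} {x : G} :
    x ∈ Subgroup.centralizer ((Subgroup.closure S : Subgroup G) : Set G) ↔
      ∀ s ∈ S, s * x = x * s := by
  constructor
  · intro h s hs
    exact Subgroup.mem_centralizer_iff.mp h s (Subgroup.subset_closure hs)
  · intro h
    rw [Subgroup.mem_centralizer_iff]
    intro y hy
    have hle : Subgroup.closure S ≤ Subgroup.centralizer ({x} : Set G) := by
      rw [Subgroup.closure_le]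
      intro s hs
      rw [SetLike.mem_coe, Subgroup.mem_centralizer_iff]
      intro z hz
      rw [Set.mem_singleton_iff] at hz
      subst hz
      exact (h s hs).symm
    have h2 := Subgroup.mem_centralizer_iff.mp (hle hy) x rfl
    exact h2.symm

/-- in a finite cyclic group, an element of order `p` generates all solutions of `a ^ p = 1` -/
theorem mem_zpowers_of_cyclic {A : Type*} [Group A] [Finite A] [IsCyclic A] {p : ℕ}
    [hp : Fact p.Prime] {c a : A} (hc : orderOf c = p) (ha : a ^ p = 1) :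
    a ∈ Subgroup.zpowers c := by
  classical
  have : Fintype A := Fintype.ofFinite A
  have hle := IsCyclic.card_pow_eq_one_le (α := A) hp.out.pos
  set S : Finset A := Finset.univ.filter (fun a : A => a ^ p = 1) with hS
  set I : Finset A := Finset.image (fun i : ℕ => c ^ i) (Finset.range p) with hI
  have hIS : I ⊆ S := by
    intro x hx
    rw [hI, Finset.mem_image] at hx
    obtain ⟨i, -, rfl⟩ := hx
    rw [hS, Finset.mem_filter]
    refine ⟨Finset.mem_univ _, ?_⟩
    rw [← pow_mul, mul_comm, pow_mul, ← hc, pow_orderOf_eq_one, one_pow]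
  have hIcard : I.card = p := by
    rw [hI, Finset.card_image_of_injOn, Finset.card_range]
    intro i hi j hj hij
    simp only [Finset.coe_range, Set.mem_Iio] at hi hj
    exact pow_injOn_Iio_orderOf (by rw [hc]; exact hi) (by rw [hc]; exact hj) hij
  have hEq : I = S := Finset.eq_of_subset_of_card_le hIS (by rw [hIcard]; exact hle)
  have haS : a ∈ S := by
    rw [hS, Finset.mem_filter]
    exact ⟨Finset.mem_univ _, ha⟩
  rw [← hEq, hI, Finset.mem_image] at haS
  obtain ⟨i, -, rfl⟩ := haS
  exact Subgroup.npow_mem_zpowers c i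

theorem mem_zpowers_of_cyclic_sub [Finite G] {p : ℕ} [Fact p.Prime] (A : Subgroup G)
    (hA : IsCyclic A) {c a : G} (hcA : c ∈ A) (haA : a ∈ A) (hc : orderOf c = p)
    (ha : a ^ p = 1) : a ∈ Subgroup.zpowers c := by
  have h := mem_zpowers_of_cyclic (A := ↥A) (p := p) (c := ⟨c, hcA⟩) (a := ⟨a, haA⟩)
    (by rw [Subgroup.orderOf_mk]; exact hc) (Subtype.ext (by simpa using ha))
  obtain ⟨k, hk⟩ := Subgroup.mem_zpowers_iff.mp h
  refine Subgroup.mem_zpowers_iff.mpr ⟨k, ?_⟩
  have := congrArg Subtype.val hk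
  simpa using this

/-- elements of `zpowers c` are killed by the order of `c` -/
theorem pow_eq_one_of_mem_zpowers {c x : G} {p : ℕ} (hc : orderOf c = p)
    (hx : x ∈ Subgroup.zpowers c) : x ^ p = 1 := by
  obtain ⟨k, rfl⟩ := Subgroup.mem_zpowers_iff.mp hx
  rw [← zpow_natCast, ← zpow_mul, mul_comm, zpow_mul, zpow_natCast, ← hc, pow_orderOf_eq_one,
    one_zpow]

theorem mem_zpowers_two {c x : G} (hc : orderOf c = 2) (hx : x ∈ Subgroup.zpowers c) :
    x = 1 ∨ x = c := by
  obtain ⟨k, rfl⟩ := Subgroup.mem_zpowers_iff.mp hx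
  have hc2 : c ^ (2 : ℤ) = 1 := by
    have h := pow_orderOf_eq_one c
    rw [hc] at h
    rw [show (2 : ℤ) = ((2 : ℕ) : ℤ) from rfl, zpow_natCast]
    exact h
  rcases Int.even_or_odd' k with ⟨m, hm | hm⟩
  · left
    rw [hm, zpow_mul, hc2, one_zpow]
  · right
    rw [hm, zpow_add, zpow_mul, hc2, one_zpow, one_mul, zpow_one]

theorem mem_center_of_mem_zpowers {c x : G} (hcZ : c ∈ Subgroup.center G)
    (hx : x ∈ Subgroup.zpowers c) : x ∈ Subgroup.center G :=
  (Subgroup.zpowers_le.mpr hcZ) hx

/-- criterion for a finite `p`-group to be extraspecial -/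
theorem isExtraspecial_of {P : Type*} [Group P] [Finite P] {p : ℕ} [hp : Fact p.Prime]
    (hP : IsPGroup p P) (hZ : Nat.card (Subgroup.center P) = p)
    (hna : ∃ a b : P, a * b ≠ b * a) (hcomm : ∀ a b : P, ⁅a, b⁆ ∈ Subgroup.center P)
    (hpow : ∀ x : P, x ^ p ∈ Subgroup.center P) : Cfsg.IsExtraspecial p P := by
  have h1 : commutator P ≤ Subgroup.center P := by
    rw [commutator_def, Subgroup.commutator_le]
    intro a _ b _
    exact hcomm a b
  have h2 : commutator P ≠ ⊥ := by
    intro h
    obtain ⟨a, b, hab⟩ := hna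
    apply hab
    rw [← commutatorElement_eq_one_iff_mul_comm]
    have hm : ⁅a, b⁆ ∈ commutator P := by
      rw [commutator_def]
      exact Subgroup.commutator_mem_commutator (Subgroup.mem_top a) (Subgroup.mem_top b)
    rw [h] at hm
    exact Subgroup.mem_bot.mp hm
  have h3 : Nat.card (commutator P) = p := by
    have hd : Nat.card (commutator P) ∣ p := by
      rw [← hZ]
      exact Subgroup.card_dvd_of_le h1
    rcases (Nat.dvd_prime hp.out).mp hd with h | h
    · exact absurd (Subgroup.eq_bot_of_card_eq _ h) h2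
    · exact h
  have h4 : commutator P = Subgroup.center P :=
    Subgroup.eq_of_le_of_card_ge h1 (by rw [h3, hZ])
  have h5 : frattini P ≤ Subgroup.center P :=
    Cfsg.Agent.Lib.Helper1.frattini_le_of_elementary_quotient p (Subgroup.center P) h1 hpow
  have h6 : Subgroup.center P ≤ frattini P := by
    rw [← h4]
    exact Cfsg.Agent.Lib.Helper1.commutator_le_frattini_of_isPGroup p hP
  exact ⟨⟨hP, le_antisymm h5 h6, h4⟩, hZ⟩

/-- criterion for a subgroup of a finite `p`-group to be extraspecial, in terms of elements -/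
theorem isExtraspecial_sub [Finite G] {p : ℕ} [Fact p.Prime] (hG : IsPGroup p G)
    (E : Subgroup G) (hZ : Nat.card ↥(E ⊓ Subgroup.centralizer (E : Set G)) = p)
    (hna : ∃ a ∈ E, ∃ b ∈ E, a * b ≠ b * a)
    (hcomm : ∀ a ∈ E, ∀ b ∈ E, ∀ x ∈ E, x * ⁅a, b⁆ = ⁅a, b⁆ * x)
    (hpow : ∀ a ∈ E, ∀ x ∈ E, x * a ^ p = a ^ p * x) : Cfsg.IsExtraspecial p ↥E := by
  have hcen : Subgroup.center ↥E = (E ⊓ Subgroup.centralizer (E : Set G)).subgroupOf E :=
    (Cfsg.Agent.Lib.Helper1.inf_centralizer_subgroupOf E).symm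
  apply isExtraspecial_of (hG.to_subgroup E)
  · rw [hcen]
    exact (Nat.card_congr (Subgroup.subgroupOfEquivOfLe inf_le_left).toEquiv).trans hZ
  · obtain ⟨a, ha, b, hb, hab⟩ := hna
    refine ⟨⟨a, ha⟩, ⟨b, hb⟩, fun h => hab ?_⟩
    exact congrArg Subtype.val h
  · intro a b
    rw [Subgroup.mem_center_iff]
    intro x
    apply Subtype.ext
    have := hcomm a.1 a.2 b.1 b.2 x.1 x.2
    simpa [commutatorElement_def] using this
  · intro a
    rw [Subgroup.mem_center_iff]
    intro x
    apply Subtype.ext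
    have := hpow a.1 a.2 x.1 x.2
    simpa using this

end Cfsg.Agent.Lib.Helper3.Symp
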