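import Mathlib
import Cfsg.Agent.Lib.Helper3.E6M2DefsC
import Cfsg.Agent.Lib.Helper2.E6MCoord

set_option autoImplicit false
set_option linter.unusedTactic false
set_option linter.unreachableTactic false
set_option linter.unusedVariables false

/-!
Farm E6M2 (S2341), unit LONGPIV: a decomposable element of `Λ_τ` with a non-zero short coordinate
has a non-zero long coordinate next to it.  (Tables generated by a script.)
-/

namespace Cfsg.Agent.Lib.Helper3.E6M2LONGPIV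

open Matrix Cfsg.Agent.Lib.Helper5.E6M Cfsg.Agent.Lib.Helper5.E6M.T3 Cfsg.Agent.Lib.Helper2.E6MCell
  Cfsg.Agent.Lib.Helper3.E6M2C

theorem short_cases : ∀ I : T3, ¬ IsLong I → I ∈ ([(T3.mk' 0 1 4), (T3.mk' 0 1 5), (T3.mk' 0 2 3), (T3.mk' 0 2 5), (T3.mk' 0 3 5), (T3.mk' 0 4 5), (T3.mk' 1 2 3), (T3.mk' 1 2 4), (T3.mk' 1 3 4), (T3.mk' 1 4 5), (T3.mk' 2 3 4), (T3.mk' 2 3 5)] : List T3) := by decide

section tables

variable {K : Type*} [Field K] (A : Matrix (Fin 3) (Fin 3) K)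

theorem d014_023 : desc (T3.mk' 0 1 4) (T3.mk' 0 2 3) = ![(true, 0), (false, 0), (false, 1)] := by decide
theorem c014_023 : pl (cellMat (T3.mk' 0 1 4) A) (T3.mk' 0 2 3) = A 0 1 * A 1 2 - A 0 2 * A 1 1 := by
  rw [pl_cellMat, d014_023]; simp [det3', rowD]
theorem d014_012 : desc (T3.mk' 0 1 4) (T3.mk' 0 1 2) = ![(true, 0), (true, 1), (false, 0)] := by decide
theorem c014_012 : pl (cellMat (T3.mk' 0 1 4) A) (T3.mk' 0 1 2) = A 0 2 := by
  rw [pl_cellMat, d014_012]; simp [det3', rowD]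
theorem d014_024 : desc (T3.mk' 0 1 4) (T3.mk' 0 2 4) = ![(true, 0), (false, 0), (true, 2)] := by decide
theorem c014_024 : pl (cellMat (T3.mk' 0 1 4) A) (T3.mk' 0 2 4) = A 0 1 := by
  rw [pl_cellMat, d014_024]; simp [det3', rowD]
theorem d015_123 : desc (T3.mk' 0 1 5) (T3.mk' 1 2 3) = ![(true, 1), (false, 0), (false, 1)] := by decide
theorem c015_123 : pl (cellMat (T3.mk' 0 1 5) A) (T3.mk' 1 2 3) = -A 0 0 * A 1 2 + A 0 2 * A 1 0 := by
  rw [pl_cellMat, d015_123]; simp [det3', rowD]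
theorem d015_012 : desc (T3.mk' 0 1 5) (T3.mk' 0 1 2) = ![(true, 0), (true, 1), (false, 0)] := by decide
theorem c015_012 : pl (cellMat (T3.mk' 0 1 5) A) (T3.mk' 0 1 2) = A 0 2 := by
  rw [pl_cellMat, d015_012]; simp [det3', rowD]
theorem d015_125 : desc (T3.mk' 0 1 5) (T3.mk' 1 2 5) = ![(true, 1), (false, 0), (true, 2)] := by decide
theorem c015_125 : pl (cellMat (T3.mk' 0 1 5) A) (T3.mk' 1 2 5) = -A 0 0 := by
  rw [pl_cellMat, d015_125]; simp [det3', rowD]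
theorem d023_014 : desc (T3.mk' 0 2 3) (T3.mk' 0 1 4) = ![(true, 0), (false, 0), (false, 1)] := by decide
theorem c023_014 : pl (cellMat (T3.mk' 0 2 3) A) (T3.mk' 0 1 4) = A 0 1 * A 1 2 - A 0 2 * A 1 1 := by
  rw [pl_cellMat, d023_014]; simp [det3', rowD]
theorem d023_012 : desc (T3.mk' 0 2 3) (T3.mk' 0 1 2) = ![(true, 0), (false, 0), (true, 1)] := by decide
theorem c023_012 : pl (cellMat (T3.mk' 0 2 3) A) (T3.mk' 0 1 2) = -A 0 2 := by
  rw [pl_cellMat, d023_012]; simp [det3', rowD]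
theorem d023_013 : desc (T3.mk' 0 2 3) (T3.mk' 0 1 3) = ![(true, 0), (false, 0), (true, 2)] := by decide
theorem c023_013 : pl (cellMat (T3.mk' 0 2 3) A) (T3.mk' 0 1 3) = A 0 1 := by
  rw [pl_cellMat, d023_013]; simp [det3', rowD]
theorem d025_124 : desc (T3.mk' 0 2 5) (T3.mk' 1 2 4) = ![(false, 0), (true, 1), (false, 2)] := by decide
theorem c025_124 : pl (cellMat (T3.mk' 0 2 5) A) (T3.mk' 1 2 4) = A 0 0 * A 2 2 - A 0 2 * A 2 0 := by
  rw [pl_cellMat, d025_124]; simp [det3', rowD]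
theorem d025_012 : desc (T3.mk' 0 2 5) (T3.mk' 0 1 2) = ![(true, 0), (false, 0), (true, 1)] := by decide
theorem c025_012 : pl (cellMat (T3.mk' 0 2 5) A) (T3.mk' 0 1 2) = -A 0 2 := by
  rw [pl_cellMat, d025_012]; simp [det3', rowD]
theorem d025_125 : desc (T3.mk' 0 2 5) (T3.mk' 1 2 5) = ![(false, 0), (true, 1), (true, 2)] := by decide
theorem c025_125 : pl (cellMat (T3.mk' 0 2 5) A) (T3.mk' 1 2 5) = A 0 0 := by
  rw [pl_cellMat, d025_125]; simp [det3', rowD]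
theorem d035_134 : desc (T3.mk' 0 3 5) (T3.mk' 1 3 4) = ![(false, 0), (true, 1), (false, 2)] := by decide
theorem c035_134 : pl (cellMat (T3.mk' 0 3 5) A) (T3.mk' 1 3 4) = A 0 0 * A 2 2 - A 0 2 * A 2 0 := by
  rw [pl_cellMat, d035_134]; simp [det3', rowD]
theorem d035_013 : desc (T3.mk' 0 3 5) (T3.mk' 0 1 3) = ![(true, 0), (false, 0), (true, 1)] := by decide
theorem c035_013 : pl (cellMat (T3.mk' 0 3 5) A) (T3.mk' 0 1 3) = -A 0 2 := by
  rw [pl_cellMat, d035_013]; simp [det3', rowD]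
theorem d035_135 : desc (T3.mk' 0 3 5) (T3.mk' 1 3 5) = ![(false, 0), (true, 1), (true, 2)] := by decide
theorem c035_135 : pl (cellMat (T3.mk' 0 3 5) A) (T3.mk' 1 3 5) = A 0 0 := by
  rw [pl_cellMat, d035_135]; simp [det3', rowD]
theorem d045_234 : desc (T3.mk' 0 4 5) (T3.mk' 2 3 4) = ![(false, 1), (false, 2), (true, 1)] := by decide
theorem c045_234 : pl (cellMat (T3.mk' 0 4 5) A) (T3.mk' 2 3 4) = -A 1 0 * A 2 2 + A 1 2 * A 2 0 := by
  rw [pl_cellMat, d045_234]; simp [det3', rowD]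
theorem d045_024 : desc (T3.mk' 0 4 5) (T3.mk' 0 2 4) = ![(true, 0), (false, 1), (true, 1)] := by decide
theorem c045_024 : pl (cellMat (T3.mk' 0 4 5) A) (T3.mk' 0 2 4) = -A 1 2 := by
  rw [pl_cellMat, d045_024]; simp [det3', rowD]
theorem d045_245 : desc (T3.mk' 0 4 5) (T3.mk' 2 4 5) = ![(false, 1), (true, 1), (true, 2)] := by decide
theorem c045_245 : pl (cellMat (T3.mk' 0 4 5) A) (T3.mk' 2 4 5) = A 1 0 := by
  rw [pl_cellMat, d045_245]; simp [det3', rowD]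
theorem d123_015 : desc (T3.mk' 1 2 3) (T3.mk' 0 1 5) = ![(false, 0), (true, 0), (false, 2)] := by decide
theorem c123_015 : pl (cellMat (T3.mk' 1 2 3) A) (T3.mk' 0 1 5) = -A 0 1 * A 2 2 + A 0 2 * A 2 1 := by
  rw [pl_cellMat, d123_015]; simp [det3', rowD]
theorem d123_012 : desc (T3.mk' 1 2 3) (T3.mk' 0 1 2) = ![(false, 0), (true, 0), (true, 1)] := by decide
theorem c123_012 : pl (cellMat (T3.mk' 1 2 3) A) (T3.mk' 0 1 2) = A 0 2 := by
  rw [pl_cellMat, d123_012]; simp [det3', rowD]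
theorem d123_013 : desc (T3.mk' 1 2 3) (T3.mk' 0 1 3) = ![(false, 0), (true, 0), (true, 2)] := by decide
theorem c123_013 : pl (cellMat (T3.mk' 1 2 3) A) (T3.mk' 0 1 3) = -A 0 1 := by
  rw [pl_cellMat, d123_013]; simp [det3', rowD]
theorem d124_025 : desc (T3.mk' 1 2 4) (T3.mk' 0 2 5) = ![(false, 0), (true, 1), (false, 2)] := by decide
theorem c124_025 : pl (cellMat (T3.mk' 1 2 4) A) (T3.mk' 0 2 5) = A 0 0 * A 2 2 - A 0 2 * A 2 0 := by
  rw [pl_cellMat, d124_025]; simp [det3', rowD]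
theorem d124_012 : desc (T3.mk' 1 2 4) (T3.mk' 0 1 2) = ![(false, 0), (true, 0), (true, 1)] := by decide
theorem c124_012 : pl (cellMat (T3.mk' 1 2 4) A) (T3.mk' 0 1 2) = A 0 2 := by
  rw [pl_cellMat, d124_012]; simp [det3', rowD]
theorem d124_024 : desc (T3.mk' 1 2 4) (T3.mk' 0 2 4) = ![(false, 0), (true, 1), (true, 2)] := by decide
theorem c124_024 : pl (cellMat (T3.mk' 1 2 4) A) (T3.mk' 0 2 4) = A 0 0 := by
  rw [pl_cellMat, d124_024]; simp [det3', rowD]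
theorem d134_035 : desc (T3.mk' 1 3 4) (T3.mk' 0 3 5) = ![(false, 0), (true, 1), (false, 2)] := by decide
theorem c134_035 : pl (cellMat (T3.mk' 1 3 4) A) (T3.mk' 0 3 5) = A 0 0 * A 2 2 - A 0 2 * A 2 0 := by
  rw [pl_cellMat, d134_035]; simp [det3', rowD]
theorem d134_013 : desc (T3.mk' 1 3 4) (T3.mk' 0 1 3) = ![(false, 0), (true, 0), (true, 1)] := by decide
theorem c134_013 : pl (cellMat (T3.mk' 1 3 4) A) (T3.mk' 0 1 3) = A 0 2 := by
  rw [pl_cellMat, d134_013]; simp [det3', rowD]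
theorem d134_034 : desc (T3.mk' 1 3 4) (T3.mk' 0 3 4) = ![(false, 0), (true, 1), (true, 2)] := by decide
theorem c134_034 : pl (cellMat (T3.mk' 1 3 4) A) (T3.mk' 0 3 4) = A 0 0 := by
  rw [pl_cellMat, d134_034]; simp [det3', rowD]
theorem d145_235 : desc (T3.mk' 1 4 5) (T3.mk' 2 3 5) = ![(false, 1), (false, 2), (true, 2)] := by decide
theorem c145_235 : pl (cellMat (T3.mk' 1 4 5) A) (T3.mk' 2 3 5) = A 1 0 * A 2 1 - A 1 1 * A 2 0 := by
  rw [pl_cellMat, d145_235]; simp [det3', rowD]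
theorem d145_125 : desc (T3.mk' 1 4 5) (T3.mk' 1 2 5) = ![(true, 0), (false, 1), (true, 2)] := by decide
theorem c145_125 : pl (cellMat (T3.mk' 1 4 5) A) (T3.mk' 1 2 5) = A 1 1 := by
  rw [pl_cellMat, d145_125]; simp [det3', rowD]
theorem d145_245 : desc (T3.mk' 1 4 5) (T3.mk' 2 4 5) = ![(false, 1), (true, 1), (true, 2)] := by decide
theorem c145_245 : pl (cellMat (T3.mk' 1 4 5) A) (T3.mk' 2 4 5) = A 1 0 := by
  rw [pl_cellMat, d145_245]; simp [det3', rowD]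
theorem d234_045 : desc (T3.mk' 2 3 4) (T3.mk' 0 4 5) = ![(false, 0), (true, 2), (false, 2)] := by decide
theorem c234_045 : pl (cellMat (T3.mk' 2 3 4) A) (T3.mk' 0 4 5) = -A 0 0 * A 2 1 + A 0 1 * A 2 0 := by
  rw [pl_cellMat, d234_045]; simp [det3', rowD]
theorem d234_024 : desc (T3.mk' 2 3 4) (T3.mk' 0 2 4) = ![(false, 0), (true, 0), (true, 2)] := by decide
theorem c234_024 : pl (cellMat (T3.mk' 2 3 4) A) (T3.mk' 0 2 4) = -A 0 1 := by
  rw [pl_cellMat, d234_024]; simp [det3', rowD]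
theorem d234_034 : desc (T3.mk' 2 3 4) (T3.mk' 0 3 4) = ![(false, 0), (true, 1), (true, 2)] := by decide
theorem c234_034 : pl (cellMat (T3.mk' 2 3 4) A) (T3.mk' 0 3 4) = A 0 0 := by
  rw [pl_cellMat, d234_034]; simp [det3', rowD]
theorem d235_145 : desc (T3.mk' 2 3 5) (T3.mk' 1 4 5) = ![(false, 1), (false, 2), (true, 2)] := by decide
theorem c235_145 : pl (cellMat (T3.mk' 2 3 5) A) (T3.mk' 1 4 5) = A 1 0 * A 2 1 - A 1 1 * A 2 0 := by
  rw [pl_cellMat, d235_145]; simp [det3', rowD]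
theorem d235_125 : desc (T3.mk' 2 3 5) (T3.mk' 1 2 5) = ![(false, 1), (true, 0), (true, 2)] := by decide
theorem c235_125 : pl (cellMat (T3.mk' 2 3 5) A) (T3.mk' 1 2 5) = -A 1 1 := by
  rw [pl_cellMat, d235_125]; simp [det3', rowD]
theorem d235_135 : desc (T3.mk' 2 3 5) (T3.mk' 1 3 5) = ![(false, 1), (true, 1), (true, 2)] := by decide
theorem c235_135 : pl (cellMat (T3.mk' 2 3 5) A) (T3.mk' 1 3 5) = A 1 0 := by
  rw [pl_cellMat, d235_135]; simp [det3', rowD]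

theorem lp014 (c : K) (hc : c ≠ 0) (h : pl (cellMat (T3.mk' 0 1 4) A) (tauI (T3.mk' 0 1 4)) ≠ 0) :
    ∃ I' : T3, IsLong I' ∧ (c • pl (cellMat (T3.mk' 0 1 4) A)) I' ≠ 0 ∧
      ∀ a ∈ (T3.mk' 0 1 4).1, Fin.rev a ∉ (T3.mk' 0 1 4).1 → a ∈ I'.1 := by
  have ht : tauI (T3.mk' 0 1 4) = (T3.mk' 0 2 3) := by decide
  rw [ht, c014_023] at h
  by_cases h0 : A 0 2 = 0
  · by_cases h1 : A 0 1 = 0
    · exfalso; apply h; rw [h0, h1]; ring
    · refine ⟨(T3.mk' 0 2 4), by decide, ?_, by decide⟩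
      rw [Pi.smul_apply, c014_024, smul_eq_mul]
      first | exact mul_ne_zero hc h1 | exact mul_ne_zero hc (neg_ne_zero.mpr h1)
  · refine ⟨(T3.mk' 0 1 2), by decide, ?_, by decide⟩
    rw [Pi.smul_apply, c014_012, smul_eq_mul]
    first | exact mul_ne_zero hc h0 | exact mul_ne_zero hc (neg_ne_zero.mpr h0)

theorem lp015 (c : K) (hc : c ≠ 0) (h : pl (cellMat (T3.mk' 0 1 5) A) (tauI (T3.mk' 0 1 5)) ≠ 0) :
    ∃ I' : T3, IsLong I' ∧ (c • pl (cellMat (T3.mk' 0 1 5) A)) I' ≠ 0 ∧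
      ∀ a ∈ (T3.mk' 0 1 5).1, Fin.rev a ∉ (T3.mk' 0 1 5).1 → a ∈ I'.1 := by
  have ht : tauI (T3.mk' 0 1 5) = (T3.mk' 1 2 3) := by decide
  rw [ht, c015_123] at h
  by_cases h0 : A 0 2 = 0
  · by_cases h1 : A 0 0 = 0
    · exfalso; apply h; rw [h0, h1]; ring
    · refine ⟨(T3.mk' 1 2 5), by decide, ?_, by decide⟩
      rw [Pi.smul_apply, c015_125, smul_eq_mul]
      first | exact mul_ne_zero hc h1 | exact mul_ne_zero hc (neg_ne_zero.mpr h1)
  · refine ⟨(T3.mk' 0 1 2), by decide, ?_, by decide⟩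
    rw [Pi.smul_apply, c015_012, smul_eq_mul]
    first | exact mul_ne_zero hc h0 | exact mul_ne_zero hc (neg_ne_zero.mpr h0)

theorem lp023 (c : K) (hc : c ≠ 0) (h : pl (cellMat (T3.mk' 0 2 3) A) (tauI (T3.mk' 0 2 3)) ≠ 0) :
    ∃ I' : T3, IsLong I' ∧ (c • pl (cellMat (T3.mk' 0 2 3) A)) I' ≠ 0 ∧
      ∀ a ∈ (T3.mk' 0 2 3).1, Fin.rev a ∉ (T3.mk' 0 2 3).1 → a ∈ I'.1 := by
  have ht : tauI (T3.mk' 0 2 3) = (T3.mk' 0 1 4) := by decide
  rw [ht, c023_014] at h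
  by_cases h0 : A 0 2 = 0
  · by_cases h1 : A 0 1 = 0
    · exfalso; apply h; rw [h0, h1]; ring
    · refine ⟨(T3.mk' 0 1 3), by decide, ?_, by decide⟩
      rw [Pi.smul_apply, c023_013, smul_eq_mul]
      first | exact mul_ne_zero hc h1 | exact mul_ne_zero hc (neg_ne_zero.mpr h1)
  · refine ⟨(T3.mk' 0 1 2), by decide, ?_, by decide⟩
    rw [Pi.smul_apply, c023_012, smul_eq_mul]
    first | exact mul_ne_zero hc h0 | exact mul_ne_zero hc (neg_ne_zero.mpr h0)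

theorem lp025 (c : K) (hc : c ≠ 0) (h : pl (cellMat (T3.mk' 0 2 5) A) (tauI (T3.mk' 0 2 5)) ≠ 0) :
    ∃ I' : T3, IsLong I' ∧ (c • pl (cellMat (T3.mk' 0 2 5) A)) I' ≠ 0 ∧
      ∀ a ∈ (T3.mk' 0 2 5).1, Fin.rev a ∉ (T3.mk' 0 2 5).1 → a ∈ I'.1 := by
  have ht : tauI (T3.mk' 0 2 5) = (T3.mk' 1 2 4) := by decide
  rw [ht, c025_124] at h
  by_cases h0 : A 0 2 = 0
  · by_cases h1 : A 0 0 = 0
    · exfalso; apply h; rw [h0, h1]; ring
    · refine ⟨(T3.mk' 1 2 5), by decide, ?_, by decide⟩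
      rw [Pi.smul_apply, c025_125, smul_eq_mul]
      first | exact mul_ne_zero hc h1 | exact mul_ne_zero hc (neg_ne_zero.mpr h1)
  · refine ⟨(T3.mk' 0 1 2), by decide, ?_, by decide⟩
    rw [Pi.smul_apply, c025_012, smul_eq_mul]
    first | exact mul_ne_zero hc h0 | exact mul_ne_zero hc (neg_ne_zero.mpr h0)

theorem lp035 (c : K) (hc : c ≠ 0) (h : pl (cellMat (T3.mk' 0 3 5) A) (tauI (T3.mk' 0 3 5)) ≠ 0) :
    ∃ I' : T3, IsLong I' ∧ (c • pl (cellMat (T3.mk' 0 3 5) A)) I' ≠ 0 ∧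
      ∀ a ∈ (T3.mk' 0 3 5).1, Fin.rev a ∉ (T3.mk' 0 3 5).1 → a ∈ I'.1 := by
  have ht : tauI (T3.mk' 0 3 5) = (T3.mk' 1 3 4) := by decide
  rw [ht, c035_134] at h
  by_cases h0 : A 0 2 = 0
  · by_cases h1 : A 0 0 = 0
    · exfalso; apply h; rw [h0, h1]; ring
    · refine ⟨(T3.mk' 1 3 5), by decide, ?_, by decide⟩
      rw [Pi.smul_apply, c035_135, smul_eq_mul]
      first | exact mul_ne_zero hc h1 | exact mul_ne_zero hc (neg_ne_zero.mpr h1)
  · refine ⟨(T3.mk' 0 1 3), by decide, ?_, by decide⟩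
    rw [Pi.smul_apply, c035_013, smul_eq_mul]
    first | exact mul_ne_zero hc h0 | exact mul_ne_zero hc (neg_ne_zero.mpr h0)

theorem lp045 (c : K) (hc : c ≠ 0) (h : pl (cellMat (T3.mk' 0 4 5) A) (tauI (T3.mk' 0 4 5)) ≠ 0) :
    ∃ I' : T3, IsLong I' ∧ (c • pl (cellMat (T3.mk' 0 4 5) A)) I' ≠ 0 ∧
      ∀ a ∈ (T3.mk' 0 4 5).1, Fin.rev a ∉ (T3.mk' 0 4 5).1 → a ∈ I'.1 := by
  have ht : tauI (T3.mk' 0 4 5) = (T3.mk' 2 3 4) := by decide
  rw [ht, c045_234] at h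
  by_cases h0 : A 1 2 = 0
  · by_cases h1 : A 1 0 = 0
    · exfalso; apply h; rw [h0, h1]; ring
    · refine ⟨(T3.mk' 2 4 5), by decide, ?_, by decide⟩
      rw [Pi.smul_apply, c045_245, smul_eq_mul]
      first | exact mul_ne_zero hc h1 | exact mul_ne_zero hc (neg_ne_zero.mpr h1)
  · refine ⟨(T3.mk' 0 2 4), by decide, ?_, by decide⟩
    rw [Pi.smul_apply, c045_024, smul_eq_mul]
    first | exact mul_ne_zero hc h0 | exact mul_ne_zero hc (neg_ne_zero.mpr h0)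

theorem lp123 (c : K) (hc : c ≠ 0) (h : pl (cellMat (T3.mk' 1 2 3) A) (tauI (T3.mk' 1 2 3)) ≠ 0) :
    ∃ I' : T3, IsLong I' ∧ (c • pl (cellMat (T3.mk' 1 2 3) A)) I' ≠ 0 ∧
      ∀ a ∈ (T3.mk' 1 2 3).1, Fin.rev a ∉ (T3.mk' 1 2 3).1 → a ∈ I'.1 := by
  have ht : tauI (T3.mk' 1 2 3) = (T3.mk' 0 1 5) := by decide
  rw [ht, c123_015] at h
  by_cases h0 : A 0 2 = 0
  · by_cases h1 : A 0 1 = 0
    · exfalso; apply h; rw [h0, h1]; ring
    · refine ⟨(T3.mk' 0 1 3), by decide, ?_, by decide⟩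
      rw [Pi.smul_apply, c123_013, smul_eq_mul]
      first | exact mul_ne_zero hc h1 | exact mul_ne_zero hc (neg_ne_zero.mpr h1)
  · refine ⟨(T3.mk' 0 1 2), by decide, ?_, by decide⟩
    rw [Pi.smul_apply, c123_012, smul_eq_mul]
    first | exact mul_ne_zero hc h0 | exact mul_ne_zero hc (neg_ne_zero.mpr h0)

theorem lp124 (c : K) (hc : c ≠ 0) (h : pl (cellMat (T3.mk' 1 2 4) A) (tauI (T3.mk' 1 2 4)) ≠ 0) :
    ∃ I' : T3, IsLong I' ∧ (c • pl (cellMat (T3.mk' 1 2 4) A)) I' ≠ 0 ∧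
      ∀ a ∈ (T3.mk' 1 2 4).1, Fin.rev a ∉ (T3.mk' 1 2 4).1 → a ∈ I'.1 := by
  have ht : tauI (T3.mk' 1 2 4) = (T3.mk' 0 2 5) := by decide
  rw [ht, c124_025] at h
  by_cases h0 : A 0 2 = 0
  · by_cases h1 : A 0 0 = 0
    · exfalso; apply h; rw [h0, h1]; ring
    · refine ⟨(T3.mk' 0 2 4), by decide, ?_, by decide⟩
      rw [Pi.smul_apply, c124_024, smul_eq_mul]
      first | exact mul_ne_zero hc h1 | exact mul_ne_zero hc (neg_ne_zero.mpr h1)
  · refine ⟨(T3.mk' 0 1 2), by decide, ?_, by decide⟩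
    rw [Pi.smul_apply, c124_012, smul_eq_mul]
    first | exact mul_ne_zero hc h0 | exact mul_ne_zero hc (neg_ne_zero.mpr h0)

theorem lp134 (c : K) (hc : c ≠ 0) (h : pl (cellMat (T3.mk' 1 3 4) A) (tauI (T3.mk' 1 3 4)) ≠ 0) :
    ∃ I' : T3, IsLong I' ∧ (c • pl (cellMat (T3.mk' 1 3 4) A)) I' ≠ 0 ∧
      ∀ a ∈ (T3.mk' 1 3 4).1, Fin.rev a ∉ (T3.mk' 1 3 4).1 → a ∈ I'.1 := by
  have ht : tauI (T3.mk' 1 3 4) = (T3.mk' 0 3 5) := by decide
  rw [ht, c134_035] at h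
  by_cases h0 : A 0 2 = 0
  · by_cases h1 : A 0 0 = 0
    · exfalso; apply h; rw [h0, h1]; ring
    · refine ⟨(T3.mk' 0 3 4), by decide, ?_, by decide⟩
      rw [Pi.smul_apply, c134_034, smul_eq_mul]
      first | exact mul_ne_zero hc h1 | exact mul_ne_zero hc (neg_ne_zero.mpr h1)
  · refine ⟨(T3.mk' 0 1 3), by decide, ?_, by decide⟩
    rw [Pi.smul_apply, c134_013, smul_eq_mul]
    first | exact mul_ne_zero hc h0 | exact mul_ne_zero hc (neg_ne_zero.mpr h0)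

theorem lp145 (c : K) (hc : c ≠ 0) (h : pl (cellMat (T3.mk' 1 4 5) A) (tauI (T3.mk' 1 4 5)) ≠ 0) :
    ∃ I' : T3, IsLong I' ∧ (c • pl (cellMat (T3.mk' 1 4 5) A)) I' ≠ 0 ∧
      ∀ a ∈ (T3.mk' 1 4 5).1, Fin.rev a ∉ (T3.mk' 1 4 5).1 → a ∈ I'.1 := by
  have ht : tauI (T3.mk' 1 4 5) = (T3.mk' 2 3 5) := by decide
  rw [ht, c145_235] at h
  by_cases h0 : A 1 1 = 0
  · by_cases h1 : A 1 0 = 0
    · exfalso; apply h; rw [h0, h1]; ring
    · refine ⟨(T3.mk' 2 4 5), by decide, ?_, by decide⟩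
      rw [Pi.smul_apply, c145_245, smul_eq_mul]
      first | exact mul_ne_zero hc h1 | exact mul_ne_zero hc (neg_ne_zero.mpr h1)
  · refine ⟨(T3.mk' 1 2 5), by decide, ?_, by decide⟩
    rw [Pi.smul_apply, c145_125, smul_eq_mul]
    first | exact mul_ne_zero hc h0 | exact mul_ne_zero hc (neg_ne_zero.mpr h0)

theorem lp234 (c : K) (hc : c ≠ 0) (h : pl (cellMat (T3.mk' 2 3 4) A) (tauI (T3.mk' 2 3 4)) ≠ 0) :
    ∃ I' : T3, IsLong I' ∧ (c • pl (cellMat (T3.mk' 2 3 4) A)) I' ≠ 0 ∧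
      ∀ a ∈ (T3.mk' 2 3 4).1, Fin.rev a ∉ (T3.mk' 2 3 4).1 → a ∈ I'.1 := by
  have ht : tauI (T3.mk' 2 3 4) = (T3.mk' 0 4 5) := by decide
  rw [ht, c234_045] at h
  by_cases h0 : A 0 1 = 0
  · by_cases h1 : A 0 0 = 0
    · exfalso; apply h; rw [h0, h1]; ring
    · refine ⟨(T3.mk' 0 3 4), by decide, ?_, by decide⟩
      rw [Pi.smul_apply, c234_034, smul_eq_mul]
      first | exact mul_ne_zero hc h1 | exact mul_ne_zero hc (neg_ne_zero.mpr h1)
  · refine ⟨(T3.mk' 0 2 4), by decide, ?_, by decide⟩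
    rw [Pi.smul_apply, c234_024, smul_eq_mul]
    first | exact mul_ne_zero hc h0 | exact mul_ne_zero hc (neg_ne_zero.mpr h0)

theorem lp235 (c : K) (hc : c ≠ 0) (h : pl (cellMat (T3.mk' 2 3 5) A) (tauI (T3.mk' 2 3 5)) ≠ 0) :
    ∃ I' : T3, IsLong I' ∧ (c • pl (cellMat (T3.mk' 2 3 5) A)) I' ≠ 0 ∧
      ∀ a ∈ (T3.mk' 2 3 5).1, Fin.rev a ∉ (T3.mk' 2 3 5).1 → a ∈ I'.1 := by
  have ht : tauI (T3.mk' 2 3 5) = (T3.mk' 1 4 5) := by decide
  rw [ht, c235_145] at h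
  by_cases h0 : A 1 1 = 0
  · by_cases h1 : A 1 0 = 0
    · exfalso; apply h; rw [h0, h1]; ring
    · refine ⟨(T3.mk' 1 3 5), by decide, ?_, by decide⟩
      rw [Pi.smul_apply, c235_135, smul_eq_mul]
      first | exact mul_ne_zero hc h1 | exact mul_ne_zero hc (neg_ne_zero.mpr h1)
  · refine ⟨(T3.mk' 1 2 5), by decide, ?_, by decide⟩
    rw [Pi.smul_apply, c235_125, smul_eq_mul]
    first | exact mul_ne_zero hc h0 | exact mul_ne_zero hc (neg_ne_zero.mpr h0)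

end tables

variable {K : Type*} [Field K] [Fintype K] [DecidableEq K] (q : ℕ) (hq : IsPrimePow q)
  (hK : Fintype.card K = q ^ 2)

theorem epsI_ne_zero (I : T3) : (((epsI I : ℤ) : K)) ≠ 0 := by
  unfold epsI
  split_ifs <;> simp

include hq hK in
/-- unit LONGPIV (verbatim) -/
theorem longpiv (I : T3) (hI : ¬ IsLong I) (l : T3 → K) (hl : l ∈ Cell I) (hl' : InLam q l) :
    ∃ I' : T3, IsLong I' ∧ l I' ≠ 0 ∧ ∀ a ∈ I.1, Fin.rev a ∉ I.1 → a ∈ I'.1 := by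
  obtain ⟨c, A, hc, rfl⟩ := hl
  have hτ := hl' I
  have hI1 : pl (cellMat I A) I = 1 := Cfsg.Agent.Lib.Helper2.E6MCell.cell_coord I A
  have hne : pl (cellMat I A) (tauI I) ≠ 0 := by
    intro h0
    rw [Pi.smul_apply, Pi.smul_apply, hI1, h0, smul_zero, smul_eq_mul, mul_one] at hτ
    exact (mul_ne_zero (epsI_ne_zero I) (pow_ne_zero q hc)) hτ.symm
  have hcases := short_cases I hI
  simp only [List.mem_cons, List.not_mem_nil, or_false] at hcases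
  rcases hcases with rfl | rfl | rfl | rfl | rfl | rfl | rfl | rfl | rfl | rfl | rfl | rfl
  · exact lp014 A c hc hne
  · exact lp015 A c hc hne
  · exact lp023 A c hc hne
  · exact lp025 A c hc hne
  · exact lp035 A c hc hne
  · exact lp045 A c hc hne
  · exact lp123 A c hc hne
  · exact lp124 A c hc hne
  · exact lp134 A c hc hne
  · exact lp145 A c hc hne
  · exact lp234 A c hc hne
  · exact lp235 A c hc hne

end Cfsg.Agent.Lib.Helper3.E6M2LONGPIV
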