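import Mathlib
import Cfsg.Agent.Lib.Helper6.CliffordDeg
import Cfsg.Agent.Lib.Helper6.BlkCover3
import Cfsg.Agent.Lib.Helper6.CharMisc

set_option autoImplicit false
set_option maxHeartbeats 4000000
set_option linter.unusedSectionVars false
set_option linter.unusedVariables false
open Cfsg

/-!
# S4538 farm, unit Z1 (abstract part): Clifford transfer from `G` to a normal subgroup `N`

If in `G` any two irreducible characters of degree divisible by `d` have degree exactly `d` and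
differ by a function which is `1` on `N`, then `N` has at most one irreducible character of degree
divisible by `d`.
-/

namespace Cfsg.Agent.Lib.Helper3.SLZ1

open Cfsg.Agent.Lib.Helper6

section abstract

variable {G : Type*} [Group G] [Fintype G] [DecidableEq G]
variable (N : Subgroup G) [Fintype N] (hN : N.Normal)

include hN in
/-- an irreducible character `θ` of `N ⊴ G` with `d ∣ θ 1`, lying under `χ` with `χ 1 = d`
(or merely `χ 1 ∣ d`), is the restriction of `χ`. -/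
theorem restrict_eq_of_over (d : ℕ) (χ : Cfsg.IrrCharacter G) (θ : Cfsg.IrrCharacter N)
    (hc : Cfsg.classInner (fun n : N => (χ : G → ℂ) n) (θ : N → ℂ) ≠ 0)
    (hdθ : d ∣ Cfsg.charDegree (θ : N → ℂ)) (hχd : Cfsg.charDegree (χ : G → ℂ) = d) :
    (fun n : N => (χ : G → ℂ) n) = (θ : N → ℂ) := by
  have hdvd := charDegree_dvd_of_constituent N hN χ θ hc
  have heq : Cfsg.charDegree (θ : N → ℂ) = Cfsg.charDegree (χ : G → ℂ) := by
    apply Nat.dvd_antisymm hdvd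
    rw [hχd]; exact hdθ
  have hA : Cfsg.IsCharacter N (fun n : N => (χ : G → ℂ) n) :=
    IsCharacter.restrict N (IsIrrCharacter.isCharacter χ.2)
  apply IsCharacter.eq_of_constituent_of_apply_one_eq hA θ.2 hc
  show (χ : G → ℂ) ((1 : N) : G) = (θ : N → ℂ) 1
  rw [Subgroup.coe_one, IsCharacter.apply_one_eq_charDegree (IsIrrCharacter.isCharacter χ.2),
    IsCharacter.apply_one_eq_charDegree (IsIrrCharacter.isCharacter θ.2), heq]

include hN in
/-- **Z1, abstract form.** -/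
theorem z1_abstract (d : ℕ)
    (hGL : ∀ χ₁ χ₂ : G → ℂ, Cfsg.IsIrrCharacter G χ₁ → Cfsg.IsIrrCharacter G χ₂ →
      d ∣ Cfsg.charDegree χ₁ → d ∣ Cfsg.charDegree χ₂ →
      Cfsg.charDegree χ₁ = d ∧ Cfsg.charDegree χ₂ = d ∧
        ∃ lam : G → ℂ, (∀ g ∈ N, lam g = 1) ∧ ∀ g, χ₂ g = χ₁ g * lam g)
    (θ₁ θ₂ : N → ℂ) (h₁ : Cfsg.IsIrrCharacter N θ₁) (h₂ : Cfsg.IsIrrCharacter N θ₂)
    (hd₁ : d ∣ Cfsg.charDegree θ₁) (hd₂ : d ∣ Cfsg.charDegree θ₂) : θ₁ = θ₂ := by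
  obtain ⟨χ₁, hc₁⟩ := exists_irr_over N ⟨θ₁, h₁⟩
  obtain ⟨χ₂, hc₂⟩ := exists_irr_over N ⟨θ₂, h₂⟩
  have hdv₁ := charDegree_dvd_of_constituent N hN χ₁ ⟨θ₁, h₁⟩ hc₁
  have hdv₂ := charDegree_dvd_of_constituent N hN χ₂ ⟨θ₂, h₂⟩ hc₂
  obtain ⟨e₁, e₂, lam, hlam, hmul⟩ := hGL χ₁ χ₂ χ₁.2 χ₂.2 (hd₁.trans hdv₁) (hd₂.trans hdv₂)
  have r₁ := restrict_eq_of_over N hN d χ₁ ⟨θ₁, h₁⟩ hc₁ hd₁ e₁
  have r₂ := restrict_eq_of_over N hN d χ₂ ⟨θ₂, h₂⟩ hc₂ hd₂ e₂
  have r₁' : θ₁ = fun n : N => (χ₁ : G → ℂ) n := r₁.symm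
  have r₂' : θ₂ = fun n : N => (χ₂ : G → ℂ) n := r₂.symm
  rw [r₁', r₂']
  funext n
  show (χ₁ : G → ℂ) n = (χ₂ : G → ℂ) n
  rw [hmul n, hlam n n.2, mul_one]

end abstract

end Cfsg.Agent.Lib.Helper3.SLZ1
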