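import Cfsg.Agent.Lib.Helper3.HIGU0

/-!
# HIG farm, unit U0 (part 2): elements of order 3 of `SL₂(K)`, `K` finite of characteristic 2

Every element of order `3` has trace `1` and is conjugate in `SL₂(K)` to `x0 = [[0,1],[1,1]]`.
-/

namespace Cfsg.Agent.Lib.Helper3.HIG

open Matrix

variable {K : Type*} [Field K] [CharP K 2]

/-- In a finite field of characteristic `2` every element is a square. -/
theorem exists_sq [Finite K] (a : K) : ∃ m : K, m ^ 2 = a := by
  have hinj : Function.Injective (fun m : K => m ^ 2) := by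
    intro x z h
    have h' : x ^ 2 = z ^ 2 := h
    have : (x - z) ^ 2 = 0 := by
      have h2 : (2 : K) = 0 := CharTwo.two_eq_zero
      linear_combination h' - (x * z - z ^ 2) * h2
    exact sub_eq_zero.mp ((pow_eq_zero_iff (two_ne_zero)).mp this)
  exact (Finite.injective_iff_surjective.mp hinj) a

/-- Cayley–Hamilton for `SL₂` in characteristic `2`: `g² = (tr g) g + 1`. -/
theorem sq_eq (g : Matrix.SpecialLinearGroup (Fin 2) K) :
    (g : Matrix (Fin 2) (Fin 2) K) * (g : Matrix (Fin 2) (Fin 2) K) =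
      ((g : Matrix (Fin 2) (Fin 2) K) 0 0 + (g : Matrix (Fin 2) (Fin 2) K) 1 1) •
        (g : Matrix (Fin 2) (Fin 2) K) + 1 := by
  have h2 : (2 : K) = 0 := CharTwo.two_eq_zero
  have hdet := det_entries g
  ext i j
  fin_cases i <;> fin_cases j <;>
    simp [Matrix.mul_apply, Fin.sum_univ_two]
  · linear_combination (-1 : K) * hdet - h2
  · ring
  · ring
  · linear_combination (-1 : K) * hdet - h2

/-- An element of order `3` has trace `1`. -/
theorem trace_eq_one_of_orderOf (g : Matrix.SpecialLinearGroup (Fin 2) K) (hg : orderOf g = 3) :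
    (g : Matrix (Fin 2) (Fin 2) K) 0 0 + (g : Matrix (Fin 2) (Fin 2) K) 1 1 = 1 := by
  have h2 : (2 : K) = 0 := CharTwo.two_eq_zero
  have hdet := det_entries g
  set M : Matrix (Fin 2) (Fin 2) K := (g : Matrix (Fin 2) (Fin 2) K) with hM
  set t : K := M 0 0 + M 1 1 with ht
  have hsq : M * M = t • M + 1 := sq_eq g
  have hg3 : g ^ 3 = 1 := by rw [← hg]; exact pow_orderOf_eq_one g
  have hM3 : M * M * M = 1 := by
    have := congrArg (fun x : Matrix.SpecialLinearGroup (Fin 2) K =>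
      (x : Matrix (Fin 2) (Fin 2) K)) hg3
    simpa [pow_succ, Matrix.SpecialLinearGroup.coe_mul] using this
  have hcube' : M * M * M = (t ^ 2 + 1) • M + t • (1 : Matrix (Fin 2) (Fin 2) K) := by
    rw [hsq, add_mul, one_mul, smul_mul_assoc, hsq]
    ext i j
    fin_cases i <;> fin_cases j <;> simp <;> ring
  have hcube : (t ^ 2 + 1) • M + t • (1 : Matrix (Fin 2) (Fin 2) K) = 1 := by
    rw [← hcube', hM3]
  by_contra hne
  have ht1 : t + 1 ≠ 0 := by
    intro h
    apply hne
    linear_combination h - h2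
  have ht2 : t ^ 2 + 1 ≠ 0 := by
    have : t ^ 2 + 1 = (t + 1) ^ 2 := by linear_combination (-t) * h2
    rw [this]; exact pow_ne_zero 2 ht1
  have e01 := congrFun (congrFun hcube 0) 1
  have e10 := congrFun (congrFun hcube 1) 0
  have e00 := congrFun (congrFun hcube 0) 0
  have e11 := congrFun (congrFun hcube 1) 1
  simp at e01 e10 e00 e11
  have hb : M 0 1 = 0 := by
    rcases e01 with h | h
    · exact absurd h ht2
    · exact h
  have hc : M 1 0 = 0 := by
    rcases e10 with h | h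
    · exact absurd h ht2
    · exact h
  -- (t+1)^2 a = 1 + t  =>  (t+1) a = 1
  have ha : (t + 1) * M 0 0 = 1 := by
    have : (t + 1) * ((t + 1) * M 0 0) = (t + 1) * 1 := by
      linear_combination e00 + (t * M 0 0 - t) * h2
    exact mul_left_cancel₀ ht1 this
  have hd : (t + 1) * M 1 1 = 1 := by
    have : (t + 1) * ((t + 1) * M 1 1) = (t + 1) * 1 := by
      linear_combination e11 + (t * M 1 1 - t) * h2
    exact mul_left_cancel₀ ht1 this
  have had : M 0 0 = M 1 1 := mul_left_cancel₀ ht1 (ha.trans hd.symm)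
  have ht0 : t = 0 := by
    rw [ht, had]; linear_combination (M 1 1) * h2
  have ha1 : M 0 0 = 1 := by rw [ht0] at ha; simpa using ha
  have hd1 : M 1 1 = 1 := by rw [ht0] at hd; simpa using hd
  have hg1 : g = 1 := by
    apply Matrix.SpecialLinearGroup.ext
    intro i j
    fin_cases i <;> fin_cases j <;> simp [← hM, ha1, hd1, hb, hc]
  rw [hg1, orderOf_one] at hg
  norm_num at hg

/-- Key matrix computation. -/
theorem conj_aux (a b c e v1 v2 m : K) (htr : a + e = 1) (hdet : a * e - b * c = 1) :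
    !![a, b; c, e] * !![m * v1, m * (a * v1 + b * v2); m * v2, m * (c * v1 + e * v2)] =
      !![m * v1, m * (a * v1 + b * v2); m * v2, m * (c * v1 + e * v2)] * !![0, 1; 1, 1] := by
  have h2 : (2 : K) = 0 := CharTwo.two_eq_zero
  ext i j
  fin_cases i <;> fin_cases j <;>
    simp [Matrix.mul_apply, Fin.sum_univ_two]
  · ring
  · linear_combination (m * v1) * ((-1 : K) * hdet + a * htr - h2) + (m * v2 * b) * htr
  · ring
  · linear_combination (m * v1 * c) * htr + (m * v2) * ((-1 : K) * hdet + e * htr - h2)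

theorem det_aux (a b c e v1 v2 m : K) (htr : a + e = 1)
    (hq : m ^ 2 * (c * v1 ^ 2 + v1 * v2 + b * v2 ^ 2) = 1) :
    Matrix.det !![m * v1, m * (a * v1 + b * v2); m * v2, m * (c * v1 + e * v2)] = 1 := by
  have h2 : (2 : K) = 0 := CharTwo.two_eq_zero
  rw [Matrix.det_fin_two]
  simp only [Matrix.of_apply, Matrix.cons_val', Matrix.cons_val_zero, Matrix.cons_val_one,
    Matrix.empty_val', Matrix.cons_val_fin_one]
  linear_combination hq + (m ^ 2 * v1 * v2) * htr - (m ^ 2 * v1 * v2 * a) * h2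
    - (m ^ 2 * b * v2 ^ 2) * h2

/-- If `tr g = 1` and `m² q(v) = 1` for `q(v) = det [v | g v]`, the matrix `P = m [v | g v]` lies in
`SL₂(K)` and `P⁻¹ g P = x0`. -/
theorem exists_conj_of_vec (g : Matrix.SpecialLinearGroup (Fin 2) K)
    (htr : (g : Matrix (Fin 2) (Fin 2) K) 0 0 + (g : Matrix (Fin 2) (Fin 2) K) 1 1 = 1)
    (v1 v2 m : K)
    (hq : m ^ 2 * ((g : Matrix (Fin 2) (Fin 2) K) 1 0 * v1 ^ 2 + v1 * v2 +
      (g : Matrix (Fin 2) (Fin 2) K) 0 1 * v2 ^ 2) = 1) :
    ∃ P : Matrix.SpecialLinearGroup (Fin 2) K, P⁻¹ * g * P = x0 := by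
  have hdet := det_entries g
  have hgM : (g : Matrix (Fin 2) (Fin 2) K) = !![(g : Matrix (Fin 2) (Fin 2) K) 0 0,
      (g : Matrix (Fin 2) (Fin 2) K) 0 1; (g : Matrix (Fin 2) (Fin 2) K) 1 0,
      (g : Matrix (Fin 2) (Fin 2) K) 1 1] := Matrix.eta_fin_two _
  generalize (g : Matrix (Fin 2) (Fin 2) K) 0 0 = a at *
  generalize (g : Matrix (Fin 2) (Fin 2) K) 0 1 = b at *
  generalize (g : Matrix (Fin 2) (Fin 2) K) 1 0 = c at *
  generalize (g : Matrix (Fin 2) (Fin 2) K) 1 1 = e at *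
  obtain ⟨P, hP⟩ : ∃ P : Matrix.SpecialLinearGroup (Fin 2) K, (P : Matrix (Fin 2) (Fin 2) K) =
      !![m * v1, m * (a * v1 + b * v2); m * v2, m * (c * v1 + e * v2)] :=
    ⟨⟨_, det_aux a b c e v1 v2 m htr hq⟩, rfl⟩
  refine ⟨P, ?_⟩
  suffices hgP : g * P = P * x0 by
    rw [show P⁻¹ * g * P = P⁻¹ * (g * P) by group, hgP]
    group
  apply Subtype.ext
  rw [Matrix.SpecialLinearGroup.coe_mul, Matrix.SpecialLinearGroup.coe_mul, x0_coe, hgM, hP]
  exact conj_aux a b c e v1 v2 m htr hdet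

/-- **Step 0.** In `SL₂(K)`, `K` finite of characteristic `2`, every element of order `3` is conjugate
to `x0 = u 1 * l 1`. -/
theorem exists_conj_x0 [Finite K] (g : Matrix.SpecialLinearGroup (Fin 2) K) (hg : orderOf g = 3) :
    ∃ P : Matrix.SpecialLinearGroup (Fin 2) K, P⁻¹ * g * P = x0 := by
  have htr := trace_eq_one_of_orderOf g hg
  by_cases hc : (g : Matrix (Fin 2) (Fin 2) K) 1 0 = 0
  · by_cases hb : (g : Matrix (Fin 2) (Fin 2) K) 0 1 = 0
    · -- v = (1,1), m = 1
      apply exists_conj_of_vec g htr 1 1 1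
      rw [hc, hb]; ring
    · -- v = (0,1)
      obtain ⟨m, hm⟩ := exists_sq ((g : Matrix (Fin 2) (Fin 2) K) 0 1)⁻¹
      apply exists_conj_of_vec g htr 0 1 m
      rw [hm]; field_simp; ring
  · obtain ⟨m, hm⟩ := exists_sq ((g : Matrix (Fin 2) (Fin 2) K) 1 0)⁻¹
    apply exists_conj_of_vec g htr 1 0 m
    rw [hm]; field_simp; ring

/-- Same, in the form `g = P * x0 * P⁻¹`. -/
theorem exists_eq_conj_x0 [Finite K] (g : Matrix.SpecialLinearGroup (Fin 2) K) (hg : orderOf g = 3) :
    ∃ P : Matrix.SpecialLinearGroup (Fin 2) K, g = P * x0 * P⁻¹ := by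
  obtain ⟨P, hP⟩ := exists_conj_x0 g hg
  refine ⟨P, ?_⟩
  rw [← hP]; group

end Cfsg.Agent.Lib.Helper3.HIG
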