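import Cfsg.Agent.Lib.Helper2.HIGDefs
import Cfsg.Agent.Lib.Helper3.HIGU0b

/-!
# HIG farm: units U0a, U0b verbatim (owner's `uM`, `lM`, `x0 K`)
-/

namespace Cfsg.Agent.Lib.Helper3.HIG

open Cfsg.Agent.Lib.Helper2.HIG

theorem uM_eq_u {K : Type*} [Field K] (a : K) : (uM a : SL2 K) = u a := rfl

theorem lM_eq_l {K : Type*} [Field K] (a : K) : (lM a : SL2 K) = l a := rfl

theorem x0_eq {K : Type*} [Field K] : Cfsg.Agent.Lib.Helper2.HIG.x0 K = (x0 : SL2 K) := rfl

/-- U0a: `SL₂(K)` is generated by the `u(a)`, `l(a)`. -/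
theorem sl2_closure (K : Type*) [Field K] :
    Subgroup.closure (Set.range (uM : K → SL2 K) ∪ Set.range (lM : K → SL2 K)) = ⊤ :=
  closure_u_l

/-- U0b: elements of order three are conjugate to `x0` (perfect field of char 2; here finite). -/
theorem order3_conj {K : Type*} [Field K] [Finite K] [CharP K 2] (y : SL2 K) (hy : orderOf y = 3) :
    ∃ g : SL2 K, g * y * g⁻¹ = Cfsg.Agent.Lib.Helper2.HIG.x0 K := by
  obtain ⟨P, hP⟩ := exists_conj_x0 y hy
  exact ⟨P⁻¹, by rw [inv_inv, x0_eq]; exact hP⟩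

end Cfsg.Agent.Lib.Helper3.HIG
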