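import Mathlib
import Cfsg.Agent.Lib.Helper3.GH7SaS2
import Cfsg.Agent.Lib.Helper9.GH7Schur

/-!
# Farm GH7 (S3105), unit S★a-split (helper3): `exists_lift_pow8_split`.

Route: `G ⧸ U'` is a central extension of `L` by `Q/U' = ⟨c̄⟩ ≅ Z4`; by SCHUR it has a normal subgroup `X0'` of
index 2, which maps onto `L` and does not contain `c̄`; an element `x̄ ∈ X0'` over `u4` has `x̄^4 ∈ ⟨c̄⟩ ∩ X0' = ⟨c̄²⟩`.
-/

set_option autoImplicit false
set_option linter.unusedSectionVars false
set_option linter.unusedVariables false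

namespace Cfsg.Agent.Lib.Helper3.GH7SaS

open Cfsg.Agent.Lib.Helper2.GH7
open Cfsg.Agent.Lib.Helper3.A8Emb (sqSub)

universe u

/-- a normal subgroup of index 2 of an extension of `L` by a group of order 4 maps onto `L` -/
theorem map_top_of_index_two {E : Type u} [Group E] [Finite E] (θ : E →* L)
    (hsurj : Function.Surjective θ) (hcard : Nat.card θ.ker = 4) (X0 : Subgroup E) [X0.Normal]
    (hidx : X0.index = 2) : X0.map θ = ⊤ := by
  rcases map_eq_bot_or_top θ hsurj X0 with h | h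
  · exfalso
    have hle : X0 ≤ θ.ker := by
      intro x hx
      rw [MonoidHom.mem_ker]
      have : θ x ∈ X0.map θ := Subgroup.mem_map_of_mem _ hx
      rw [h, Subgroup.mem_bot] at this
      exact this
    have h1 := Subgroup.card_eq_card_quotient_mul_card_subgroup θ.ker
    have h2 : Nat.card (E ⧸ θ.ker) = Nat.card L :=
      Nat.card_congr (QuotientGroup.quotientKerEquivOfSurjective θ hsurj).toEquiv
    rw [h2, hcard, Cfsg.Agent.Lib.Helper1.Dv.card_SL32] at h1
    have h3 := Subgroup.card_mul_index X0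
    rw [hidx, h1] at h3
    have h4 := Subgroup.card_le_of_le hle
    rw [hcard] at h4
    omega
  · exact h

/-- ... and does not contain the kernel -/
theorem not_ker_le_of_index_two {E : Type u} [Group E] [Finite E] (θ : E →* L)
    (hsurj : Function.Surjective θ) (hcard : Nat.card θ.ker = 4) (X0 : Subgroup E) [X0.Normal]
    (hidx : X0.index = 2) : ¬ θ.ker ≤ X0 := by
  intro hle
  have htop := map_top_of_index_two θ hsurj hcard X0 hidx
  have : X0 = ⊤ := by
    rw [eq_top_iff]
    intro e _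
    have he : θ e ∈ X0.map θ := by rw [htop]; trivial
    obtain ⟨x0, hx0, hx0e⟩ := Subgroup.mem_map.1 he
    have hk : x0⁻¹ * e ∈ θ.ker := by
      rw [MonoidHom.mem_ker, map_mul, map_inv, hx0e, inv_mul_cancel]
    have : e = x0 * (x0⁻¹ * e) := by group
    rw [this]
    exact Subgroup.mul_mem _ hx0 (hle hk)
  rw [this, Subgroup.index_top] at hidx
  omega

/-- odd powers of an element of order dividing 4 generate it -/
theorem mem_of_odd_zpow_mem {E : Type*} [Group E] (X : Subgroup E) (a : E) (h4 : a ^ 4 = 1) (m : ℤ)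
    (h : a ^ (2 * m + 1) ∈ X) : a ∈ X := by
  have h1 : (a ^ (2 * m + 1)) ^ (2 * m + 1) ∈ X := Subgroup.zpow_mem _ h _
  have h2 : (a ^ (2 * m + 1)) ^ (2 * m + 1) = a := by
    rw [← zpow_mul]
    have : (2 * m + 1) * (2 * m + 1) = 4 * (m * m + m) + 1 := by ring
    rw [this, zpow_add, zpow_one, zpow_mul]
    have : a ^ (4 : ℤ) = 1 := by
      have := h4
      rw [← zpow_natCast] at this
      exact_mod_cast this
    rw [this, one_zpow, one_mul]
  rw [h2] at h1
  exact h1

variable {G : Type u} [Group G] [Finite G] {Q : Subgroup G} [Q.Normal]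

/-- **S★a split** (verbatim `Cfsg.Agent.Lib.Helper2.GH7.Stubs.exists_lift_pow8_split`) -/
theorem exists_lift_pow8_split (θ : G →* L) (hsurj : Function.Surjective θ) (hker : θ.ker = Q)
    (hcomm : ∀ a ∈ Q, ∀ b ∈ Q, a * b = b * a) (hcard : Nat.card Q = 32) (hΦ : Nat.card (sqSub Q) = 2)
    (hfaith : ∀ g : G, (∀ a ∈ Q, g * a * g⁻¹ * a⁻¹ ∈ sqSub Q) → g ∈ Q)
    (c : G) (hcQ : c ∈ Q) (hc : c * c ≠ 1) (hcen : ∀ g : G, g * c = c * g)
    (hsplit : ∃ U' : Subgroup G, U'.Normal ∧ U' ≤ Q ∧ Nat.card U' = 8 ∧ ∀ x ∈ U', x * x = 1) :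
    ∃ x : G, orderOf (θ x) = 4 ∧ x ^ 8 = 1 := by
  obtain ⟨U', hUn, hUQ, hU8, hU2⟩ := hsplit
  have := hUn
  have hw : c * c ∉ U' := sq_not_mem θ hsurj hker hcomm hcard hΦ hfaith c hcQ hc U' hUQ hU8 hU2
  have hwW : c * c ∈ sqSub Q := sq_mem_sqSub Q c hcQ
  have hsq : ∀ q ∈ Q, q * q = 1 ∨ q * q = c * c := fun q hq =>
    mem_of_card_two (sqSub Q) hΦ (c * c) hwW hc _ (sq_mem_sqSub Q q hq)
  have hww : (c * c) * (c * c) = 1 := by
    rcases hsq (c * c) (Subgroup.mul_mem _ hcQ hcQ) with h | h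
    · exact h
    · exfalso
      apply hc
      exact mul_left_cancel (a := c * c) (b := c * c) (c := 1) (by rw [h, mul_one])
  have hU : U' ≤ θ.ker := by rw [hker]; exact hUQ
  have hsurj' := lift_surjective θ hsurj U' hU
  have h4 : Nat.card (QuotientGroup.lift U' θ hU).ker = 4 := by
    have := card_ker_lift θ hsurj U' hU
    rw [hU8, hker, hcard] at this
    omega
  have hcenK := ker_central_of_card_four (QuotientGroup.lift U' θ hU) hsurj' h4
  obtain ⟨X0', hX0n, hX0i⟩ := Cfsg.Agent.Lib.Helper9.GH7Schur.exists_index_two_of_Z4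
    (QuotientGroup.lift U' θ hU) hsurj' hcenK h4
  have := hX0n
  have htop := map_top_of_index_two (QuotientGroup.lift U' θ hU) hsurj' h4 X0' hX0i
  have hnot := not_ker_le_of_index_two (QuotientGroup.lift U' θ hU) hsurj' h4 X0' hX0i
  -- the image of `c`
  have hc4 : (QuotientGroup.mk c : G ⧸ U') ^ 4 = 1 := by
    rw [← QuotientGroup.mk_pow, QuotientGroup.eq_one_iff]
    have : c ^ 4 = (c * c) * (c * c) := by rw [show (4 : ℕ) = 2 + 2 by norm_num, pow_add, pow_two]
    rw [this, hww]; exact Subgroup.one_mem _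
  have hc2 : ¬ (QuotientGroup.mk c : G ⧸ U') ^ 2 ^ 1 = 1 := by
    rw [pow_one, ← QuotientGroup.mk_pow, QuotientGroup.eq_one_iff, pow_two]
    exact hw
  have hord : orderOf (QuotientGroup.mk c : G ⧸ U') = 4 := by
    have := orderOf_eq_prime_pow (p := 2) (n := 1) hc2 (by rw [show 2 ^ (1 + 1) = 4 by norm_num]; exact hc4)
    rw [this]; norm_num
  have hcK : (QuotientGroup.mk c : G ⧸ U') ∈ (QuotientGroup.lift U' θ hU).ker := by
    rw [mem_ker_lift, hker]; exact hcQ
  have hzp : Subgroup.zpowers (QuotientGroup.mk c : G ⧸ U') = (QuotientGroup.lift U' θ hU).ker := by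
    apply Subgroup.eq_of_le_of_card_ge
    · rw [Subgroup.zpowers_le]; exact hcK
    · rw [h4, Nat.card_zpowers, hord]
  have hcX : (QuotientGroup.mk c : G ⧸ U') ∉ X0' := by
    intro h
    apply hnot
    rw [← hzp, Subgroup.zpowers_le]
    exact h
  -- the element `x`
  have hu : u4 ∈ X0'.map (QuotientGroup.lift U' θ hU) := by rw [htop]; trivial
  obtain ⟨xb, hxb, hxu⟩ := Subgroup.mem_map.1 hu
  induction xb using QuotientGroup.induction_on with
  | H x =>
    have hθx : θ x = u4 := hxu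
    refine ⟨x, by rw [hθx]; exact u4_order, ?_⟩
    have hzQ : x ^ 4 ∈ Q := by
      rw [← hker, MonoidHom.mem_ker, map_pow, hθx, u4_pow4]
    have hzK : (QuotientGroup.mk (x ^ 4) : G ⧸ U') ∈ (QuotientGroup.lift U' θ hU).ker := by
      rw [mem_ker_lift, hker]; exact hzQ
    have hzX : (QuotientGroup.mk (x ^ 4) : G ⧸ U') ∈ X0' := by
      rw [QuotientGroup.mk_pow]; exact Subgroup.pow_mem _ hxb 4
    rw [← hzp, Subgroup.mem_zpowers_iff] at hzK
    obtain ⟨n, hn⟩ := hzK
    have h8 : x ^ 8 = x ^ 4 * x ^ 4 := by rw [← pow_add]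
    rcases Int.even_or_odd' n with ⟨m, hm | hm⟩
    · -- even: the square is trivial
      have h1 : (QuotientGroup.mk (x ^ 4 * x ^ 4) : G ⧸ U') = 1 := by
        rw [QuotientGroup.mk_mul, ← hn, hm, ← zpow_add]
        have : 2 * m + 2 * m = 4 * m := by ring
        rw [this, zpow_mul]
        have : (QuotientGroup.mk c : G ⧸ U') ^ (4 : ℤ) = 1 := by
          have := hc4
          rw [← zpow_natCast] at this
          exact_mod_cast this
        rw [this, one_zpow]
      rw [QuotientGroup.eq_one_iff] at h1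
      rcases hsq (x ^ 4) hzQ with h | h
      · rw [h8, h]
      · exfalso
        rw [h] at h1
        exact hw h1
    · exfalso
      apply hcX
      apply mem_of_odd_zpow_mem X0' _ hc4 m
      rw [← hm, hn]
      exact hzX

end Cfsg.Agent.Lib.Helper3.GH7SaS
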