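import Mathlib
import Cfsg.Agent.Lib.Helper2.GH7Defs
import Cfsg.Agent.Lib.Helper1.Dv5

/-!
# Farm GH7 (S3105), unit CE (helper3), part 1: the explicit Sylow 2-subgroup `D8` of `L = SL(3,2)`
and conjugacy of involutions.
-/

set_option autoImplicit false

namespace Cfsg.Agent.Lib.Helper3.GH7CE

open Cfsg.Agent.Lib.Helper2.GH7

set_option maxRecDepth 100000 in
theorem invol_conj : ∀ t : L, t ≠ 1 → t * t = 1 → ∃ g : L, g * t * g⁻¹ = a12 := by decide

/-- the eight elements of `⟨a12, b23⟩` -/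
def D8list : Finset L :=
  {1, u4, u4 * u4, u4 * u4 * u4, a12, u4 * a12, u4 * u4 * a12, u4 * u4 * u4 * a12}

set_option maxRecDepth 100000 in
theorem D8list_mul : ∀ a ∈ D8list, ∀ b ∈ D8list, a * b ∈ D8list := by decide

set_option maxRecDepth 100000 in
theorem D8list_inv : ∀ a ∈ D8list, a⁻¹ ∈ D8list := by decide

theorem D8list_card : D8list.card = 8 := by decide

/-- the Sylow 2-subgroup `⟨a12, b23⟩` of `L` -/
def H8 : Subgroup L where
  carrier := {x | x ∈ D8list}
  one_mem' := by decide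
  mul_mem' := fun {a b} ha hb => D8list_mul a ha b hb
  inv_mem' := fun {a} ha => D8list_inv a ha

theorem mem_H8 (x : L) : x ∈ H8 ↔ x ∈ D8list := Iff.rfl

theorem card_H8 : Nat.card H8 = 8 := by
  have : Nat.card H8 = Nat.card {x // x ∈ D8list} := rfl
  rw [this, Nat.card_eq_fintype_card, Fintype.card_coe, D8list_card]

theorem index_H8 : H8.index = 21 := by
  have h1 := Subgroup.card_mul_index H8
  rw [card_H8] at h1
  have h2 : Nat.card L = 168 := Cfsg.Agent.Lib.Helper1.Dv.card_SL32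
  rw [h2] at h1
  omega

theorem a12_ne : a12 ≠ 1 := by decide
theorem b23_ne : b23 ≠ 1 := by decide
theorem a12_mul_b23 : a12 * b23 = u4 := by decide
theorem u4_pow_ne_a12 : ∀ i : Fin 4, u4 ^ (i : ℕ) ≠ a12 := by decide
theorem u4_pow_ne_one : ∀ i : Fin 4, (i : ℕ) ≠ 0 → u4 ^ (i : ℕ) ≠ 1 := by decide

end Cfsg.Agent.Lib.Helper3.GH7CE
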