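import Mathlib
import Cfsg.Agent.Lib.Helper3.GH7CE1
import Cfsg.Agent.Lib.Helper4.StemLib7

/-!
# Farm GH7 (S3105), unit CE (helper3), part 2: the abstract core.

A central extension `E` of `L = SL(3,2)` by `⟨ζ⟩ ≅ Z2` in which some involution of `L` lifts to an involution:
`ζ ∉ E'` and `E'` has index 2.
-/

set_option autoImplicit false

namespace Cfsg.Agent.Lib.Helper3.GH7CE

open Cfsg.Agent.Lib.Helper2.GH7
open scoped commutatorElement

universe u

theorem comm_ne : ⁅a12, b23⁆ ≠ (1 : L) := by decide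

theorem commutator_L : commutator L = ⊤ := by
  have hs : IsSimpleGroup L := Cfsg.Agent.Lib.Helper1.Dv.simple_SL32
  rcases hs.eq_bot_or_eq_top_of_normal (commutator L) inferInstance with h | h
  · exfalso
    have h1 : ⁅a12, b23⁆ ∈ commutator L := by
      rw [commutator_def]
      exact Subgroup.commutator_mem_commutator (Subgroup.mem_top _) (Subgroup.mem_top _)
    rw [h, Subgroup.mem_bot] at h1
    exact comm_ne h1
  · exact h

set_option maxRecDepth 100000 in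
theorem D8list_form : ∀ x ∈ D8list, ∃ i : Fin 4, x = u4 ^ (i : ℕ) ∨ x = u4 ^ (i : ℕ) * a12 := by decide

theorem comm_central {X : Type*} [Group X] (a b z w : X) (hz : ∀ g : X, g * z = z * g)
    (hw : ∀ g : X, g * w = w * g) : ⁅a * z, b * w⁆ = ⁅a, b⁆ := by
  rw [commutatorElement_def, commutatorElement_def, mul_inv_rev, mul_inv_rev]
  calc a * z * (b * w) * (z⁻¹ * a⁻¹) * (w⁻¹ * b⁻¹)
      = a * (z * b) * w * z⁻¹ * (a⁻¹ * w⁻¹) * b⁻¹ := by group
    _ = a * (b * z) * w * z⁻¹ * (w⁻¹ * a⁻¹) * b⁻¹ := by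
        rw [← hz b]
        have : a⁻¹ * w⁻¹ = w⁻¹ * a⁻¹ := by
          have := hw a
          rw [← mul_inv_rev, ← mul_inv_rev, this]
        rw [this]
    _ = a * b * (z * w) * z⁻¹ * w⁻¹ * a⁻¹ * b⁻¹ := by group
    _ = a * b * (w * z) * z⁻¹ * w⁻¹ * a⁻¹ * b⁻¹ := by rw [hz w]
    _ = a * b * a⁻¹ * b⁻¹ := by group

section core

variable {E : Type u} [Group E] [Finite E] (φ : E →* L) (hsurj : Function.Surjective φ)
  (ζ : E) (hζ2 : ζ * ζ = 1) (hζ1 : ζ ≠ 1) (hker : ∀ x : E, φ x = 1 ↔ x = 1 ∨ x = ζ)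

include hζ2 hζ1 hker

theorem zeta_central (g : E) : g * ζ = ζ * g := by
  have h1 : φ (g * ζ * g⁻¹) = 1 := by
    rw [map_mul, map_mul, (hker ζ).2 (Or.inr rfl), mul_one, map_inv, mul_inv_cancel]
  rcases (hker _).1 h1 with h | h
  · exfalso
    apply hζ1
    have : ζ = g⁻¹ * (g * ζ * g⁻¹) * g := by group
    rw [this, h]; group
  · calc g * ζ = g * ζ * g⁻¹ * g := by group
      _ = ζ * g := by rw [h]

theorem eq_or_of_map_eq (x y : E) (h : φ x = φ y) : x = y ∨ x = y * ζ := by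
  have h1 : φ (y⁻¹ * x) = 1 := by rw [map_mul, map_inv, h, inv_mul_cancel]
  rcases (hker _).1 h1 with h | h
  · left
    calc x = y * (y⁻¹ * x) := by group
      _ = y := by rw [h, mul_one]
  · right
    calc x = y * (y⁻¹ * x) := by group
      _ = y * ζ := by rw [h]

include hsurj

theorem lift_invol (κ : E) (hκ1 : φ κ ≠ 1) (hκ2 : κ * κ = 1) (x : E) (hx1 : φ x ≠ 1)
    (hx2 : φ x * φ x = 1) : x * x = 1 := by
  have hc := zeta_central φ ζ hζ2 hζ1 hker
  obtain ⟨g, hg⟩ := invol_conj (φ x) hx1 hx2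
  have hκ2' : φ κ * φ κ = 1 := by rw [← map_mul, hκ2, map_one]
  obtain ⟨g', hg'⟩ := invol_conj (φ κ) hκ1 hκ2'
  obtain ⟨η, hη⟩ := hsurj (g⁻¹ * g')
  have h1 : φ x = φ (η * κ * η⁻¹) := by
    rw [map_mul, map_mul, map_inv, hη]
    have : φ x = g⁻¹ * (g * φ x * g⁻¹) * g := by group
    rw [this, hg, ← hg']; group
  have h2 : (η * κ * η⁻¹) * (η * κ * η⁻¹) = 1 := by
    calc (η * κ * η⁻¹) * (η * κ * η⁻¹) = η * (κ * κ) * η⁻¹ := by group
      _ = 1 := by rw [hκ2]; group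
  rcases eq_or_of_map_eq φ ζ hζ2 hζ1 hker _ _ h1 with h | h
  · rw [h, h2]
  · rw [h]
    calc η * κ * η⁻¹ * ζ * (η * κ * η⁻¹ * ζ) = η * κ * η⁻¹ * (ζ * (η * κ * η⁻¹)) * ζ := by group
      _ = η * κ * η⁻¹ * ((η * κ * η⁻¹) * ζ) * ζ := by rw [← hc (η * κ * η⁻¹)]
      _ = (η * κ * η⁻¹) * (η * κ * η⁻¹) * (ζ * ζ) := by group
      _ = 1 := by rw [h2, hζ2, mul_one]

end core

end Cfsg.Agent.Lib.Helper3.GH7CE
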