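import Mathlib
import Cfsg.Agent.Lib.Helper3.GH7CE2

/-!
# Farm GH7 (S3105), unit CE (helper3), part 3: the dihedral lift and the transfer argument.
-/

set_option autoImplicit false
set_option linter.unusedSectionVars false
set_option linter.unusedVariables false

namespace Cfsg.Agent.Lib.Helper3.GH7CE

open Cfsg.Agent.Lib.Helper2.GH7
open scoped commutatorElement

universe u

section dihedral

variable {E : Type u} [Group E] (α β : E) (hα2 : α * α = 1) (hβ2 : β * β = 1)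
  (hr4 : (α * β) ^ 4 = 1)

include hα2 hβ2 hr4

theorem closure_form : ∀ x ∈ Subgroup.closure ({α, β} : Set E),
    ∃ i : ℕ, x = (α * β) ^ i ∨ x = (α * β) ^ i * α := by
  have hαi : α⁻¹ = α := inv_eq_of_mul_eq_one_right hα2
  have hβi : β⁻¹ = β := inv_eq_of_mul_eq_one_right hβ2
  have hr3 : (α * β) ^ 3 = β * α := by
    have h1 : (α * β) ^ 3 * (α * β) = 1 := by rw [← pow_succ]; exact hr4
    have h2 : (α * β) ^ 3 = (α * β)⁻¹ := eq_inv_of_mul_eq_one_left h1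
    rw [h2, mul_inv_rev, hαi, hβi]
  have step : ∀ x : E, (∃ i : ℕ, x = (α * β) ^ i ∨ x = (α * β) ^ i * α) → ∀ y ∈ ({α, β} : Set E),
      ∃ i : ℕ, x * y = (α * β) ^ i ∨ x * y = (α * β) ^ i * α := by
    intro x hx y hy
    obtain ⟨i, hi | hi⟩ := hx
    · rcases hy with hy | hy
      · exact ⟨i, Or.inr (by rw [hi, hy])⟩
      · rw [Set.mem_singleton_iff] at hy
        refine ⟨i + 3, Or.inr ?_⟩
        rw [hi, hy, pow_add, hr3, mul_assoc ((α * β) ^ i), mul_assoc β, hα2, mul_one]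
    · rcases hy with hy | hy
      · exact ⟨i, Or.inl (by rw [hi, hy, mul_assoc, hα2, mul_one])⟩
      · rw [Set.mem_singleton_iff] at hy
        exact ⟨i + 1, Or.inl (by rw [hi, hy, pow_succ, mul_assoc])⟩
  intro x hx
  induction hx using Subgroup.closure_induction_right with
  | one => exact ⟨0, Or.inl (by rw [pow_zero])⟩
  | mul_right x hx y hy ih => exact step x ih y hy
  | mul_inv_cancel x hx y hy ih =>
    have hy' : y⁻¹ = y := by
      rcases hy with hy | hy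
      · rw [hy]; exact hαi
      · rw [Set.mem_singleton_iff] at hy; rw [hy]; exact hβi
    rw [hy']
    exact step x ih y hy

end dihedral

section core

variable {E : Type u} [Group E] [Finite E] (φ : E →* L) (hsurj : Function.Surjective φ)
  (ζ : E) (hζ2 : ζ * ζ = 1) (hζ1 : ζ ≠ 1) (hker : ∀ x : E, φ x = 1 ↔ x = 1 ∨ x = ζ)
  (α β : E) (hα : φ α = a12) (hβ : φ β = b23) (hα2 : α * α = 1) (hβ2 : β * β = 1)
  (hr4 : (α * β) ^ 4 = 1)

include hζ2 hζ1 hker hα hβ hα2 hβ2 hr4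

theorem map_r_pow (i : ℕ) : φ ((α * β) ^ i) = u4 ^ (i % 4) := by
  rw [map_pow, map_mul, hα, hβ, a12_mul_b23]
  exact pow_eq_pow_mod i u4_pow4

theorem zeta_not_mem : ζ ∉ Subgroup.closure ({α, β} : Set E) := by
  intro hz
  obtain ⟨i, hi | hi⟩ := closure_form α β hα2 hβ2 hr4 ζ hz
  · have h1 : φ ζ = 1 := (hker ζ).2 (Or.inr rfl)
    rw [hi, map_r_pow φ ζ hζ2 hζ1 hker α β hα hβ hα2 hβ2 hr4 i] at h1
    have hlt : i % 4 < 4 := Nat.mod_lt _ (by norm_num)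
    have h0 : i % 4 = 0 := by
      by_contra hne
      exact u4_pow_ne_one ⟨i % 4, hlt⟩ hne h1
    apply hζ1
    rw [hi, pow_eq_pow_mod i hr4, h0, pow_zero]
  · have h1 : φ ζ = 1 := (hker ζ).2 (Or.inr rfl)
    rw [hi, map_mul, map_r_pow φ ζ hζ2 hζ1 hker α β hα hβ hα2 hβ2 hr4 i, hα] at h1
    have hlt : i % 4 < 4 := Nat.mod_lt _ (by norm_num)
    have h2 : u4 ^ (i % 4) = a12 := by
      calc u4 ^ (i % 4) = u4 ^ (i % 4) * (a12 * a12) := by rw [a12_sq, mul_one]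
        _ = u4 ^ (i % 4) * a12 * a12 := by rw [mul_assoc]
        _ = a12 := by rw [h1, one_mul]
    exact u4_pow_ne_a12 ⟨i % 4, hlt⟩ h2

theorem T_form (t : E) (ht : t ∈ H8.comap φ) :
    ∃ d ∈ Subgroup.closure ({α, β} : Set E), t = d ∨ t = d * ζ := by
  rw [Subgroup.mem_comap, mem_H8] at ht
  have hαD : α ∈ Subgroup.closure ({α, β} : Set E) := Subgroup.subset_closure (by simp)
  have hβD : β ∈ Subgroup.closure ({α, β} : Set E) := Subgroup.subset_closure (by simp)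
  have hrD : ∀ i : ℕ, (α * β) ^ i ∈ Subgroup.closure ({α, β} : Set E) :=
    fun i => Subgroup.pow_mem _ (Subgroup.mul_mem _ hαD hβD) i
  obtain ⟨i, hi | hi⟩ := D8list_form (φ t) ht
  · refine ⟨(α * β) ^ (i : ℕ), hrD _, ?_⟩
    apply eq_or_of_map_eq φ ζ hζ2 hζ1 hker
    rw [hi, map_r_pow φ ζ hζ2 hζ1 hker α β hα hβ hα2 hβ2 hr4, Nat.mod_eq_of_lt i.2]
  · refine ⟨(α * β) ^ (i : ℕ) * α, Subgroup.mul_mem _ (hrD _) hαD, ?_⟩
    apply eq_or_of_map_eq φ ζ hζ2 hζ1 hker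
    rw [hi, map_mul, map_r_pow φ ζ hζ2 hζ1 hker α β hα hβ hα2 hβ2 hr4, Nat.mod_eq_of_lt i.2, hα]

theorem T_form' (t : E) (ht : t ∈ H8.comap φ) :
    ∃ d ∈ Subgroup.closure ({α, β} : Set E), ∃ z : E, (∀ g : E, g * z = z * g) ∧ t = d * z := by
  obtain ⟨d, hd, h | h⟩ := T_form φ ζ hζ2 hζ1 hker α β hα hβ hα2 hβ2 hr4 t ht
  · exact ⟨d, hd, 1, fun g => by rw [mul_one, one_mul], by rw [h, mul_one]⟩
  · exact ⟨d, hd, ζ, zeta_central φ ζ hζ2 hζ1 hker, h⟩

theorem commutator_T_le :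
    commutator (H8.comap φ : Subgroup E) ≤
      (Subgroup.closure ({α, β} : Set E)).subgroupOf (H8.comap φ) := by
  rw [commutator_def, Subgroup.commutator_le]
  intro t1 _ t2 _
  rw [Subgroup.mem_subgroupOf]
  obtain ⟨d1, hd1, z1, hz1, e1⟩ := T_form' φ ζ hζ2 hζ1 hker α β hα hβ hα2 hβ2 hr4 t1 t1.2
  obtain ⟨d2, hd2, z2, hz2, e2⟩ := T_form' φ ζ hζ2 hζ1 hker α β hα hβ hα2 hβ2 hr4 t2 t2.2
  have h1 : ((⁅t1, t2⁆ : (H8.comap φ : Subgroup E)) : E) = ⁅(t1 : E), (t2 : E)⁆ := rfl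
  rw [h1, e1, e2, comm_central d1 d2 z1 z2 hz1 hz2]
  rw [commutatorElement_def]
  exact Subgroup.mul_mem _ (Subgroup.mul_mem _ (Subgroup.mul_mem _ hd1 hd2) (Subgroup.inv_mem _ hd1))
    (Subgroup.inv_mem _ hd2)

include hsurj

theorem zeta_not_mem_commutator : ζ ∉ commutator E := by
  intro hzd
  have hzc : ζ ∈ Subgroup.center E := by
    rw [Subgroup.mem_center_iff]
    exact zeta_central φ ζ hζ2 hζ1 hker
  have hζT : ζ ∈ (H8.comap φ : Subgroup E) := by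
    rw [Subgroup.mem_comap, (hker ζ).2 (Or.inr rfl)]
    exact Subgroup.one_mem _
  have hidx : (H8.comap φ : Subgroup E).index = 21 := by
    rw [Subgroup.index_comap_of_surjective _ hsurj, index_H8]
  have hpow : ζ ^ (H8.comap φ : Subgroup E).index = ζ := by
    rw [hidx]
    have h2 : ζ ^ 2 = 1 := by rw [pow_two, hζ2]
    calc ζ ^ 21 = (ζ ^ 2) ^ 10 * ζ := by rw [← pow_mul, ← pow_succ]
      _ = ζ := by rw [h2, one_pow, one_mul]
  have hzK : ζ ^ (H8.comap φ : Subgroup E).index ∈ (H8.comap φ : Subgroup E) := by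
    rw [hpow]; exact hζT
  have h1 := Cfsg.Agent.Lib.Helper4.Stem.pow_index_mem_commutator (H8.comap φ : Subgroup E) ζ
    hzc hzd hzK
  have h2 := commutator_T_le φ ζ hζ2 hζ1 hker α β hα hβ hα2 hβ2 hr4 h1
  rw [Subgroup.mem_subgroupOf] at h2
  have h3 : ζ ^ (H8.comap φ : Subgroup E).index ∈ Subgroup.closure ({α, β} : Set E) := h2
  rw [hpow] at h3
  exact zeta_not_mem φ ζ hζ2 hζ1 hker α β hα hβ hα2 hβ2 hr4 h3

end core

end Cfsg.Agent.Lib.Helper3.GH7CE
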