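import Mathlib
import Cfsg.Agent.Lib.Helper1.MaxClassNormal3
import Cfsg.Agent.Lib.Helper1.MaxClassTwoA
import Cfsg.Agent.Lib.Helper1.MaxClassTwoC

/-!
# Farm S1233, unit U-MC (part 1): generic facts on 2-groups of maximal class

* `central_of_comm`, `sq_mem_center`: abelian subgroup of index 2.
* `card_eq_eight_of_normal_four`: a noncyclic normal subgroup of order 4 forces order 8.
* `cyclic_index_two_unique`: uniqueness of the cyclic maximal subgroup (when the group is not `Q8`).
-/

set_option autoImplicit false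

namespace Cfsg.Agent.Lib.Helper3.QQMC

open Cfsg.Agent.Lib.Helper1

universe u

theorem mem_or_of_index_two {X : Type*} [Group X] (Z : Subgroup X) (hZi : Z.index = 2)
    (g : X) (hg : g ∉ Z) (x : X) : x ∈ Z ∨ g⁻¹ * x ∈ Z := by
  by_cases hx : x ∈ Z
  · exact Or.inl hx
  · right
    rw [Subgroup.mul_mem_iff_of_index_two hZi]
    constructor
    · intro h; exact absurd (Z.inv_mem_iff.mp h) hg
    · intro h; exact absurd h hx

theorem central_of_comm {X : Type*} [Group X] (Z : Subgroup X)
    (hZc : ∀ a ∈ Z, ∀ b ∈ Z, a * b = b * a) (hZi : Z.index = 2) (g : X) (hg : g ∉ Z)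
    (c : X) (hc : c ∈ Z) (hcg : c * g = g * c) : c ∈ Subgroup.center X := by
  rw [Subgroup.mem_center_iff]
  intro x
  rcases mem_or_of_index_two Z hZi g hg x with hx | hx
  · exact hZc x hx c hc
  · have h1 : x = g * (g⁻¹ * x) := by group
    have h2 := hZc (g⁻¹ * x) hx c hc
    rw [h1]
    calc g * (g⁻¹ * x) * c = g * ((g⁻¹ * x) * c) := by group
      _ = g * (c * (g⁻¹ * x)) := by rw [h2]
      _ = (g * c) * (g⁻¹ * x) := by group
      _ = (c * g) * (g⁻¹ * x) := by rw [hcg]
      _ = c * (g * (g⁻¹ * x)) := by group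

theorem sq_mem_center {X : Type*} [Group X] (Z : Subgroup X)
    (hZc : ∀ a ∈ Z, ∀ b ∈ Z, a * b = b * a) (hZi : Z.index = 2) (g : X) (hg : g ∉ Z) :
    g * g ∈ Subgroup.center X :=
  central_of_comm Z hZc hZi g hg (g * g) (Subgroup.mul_self_mem_of_index_two hZi g) (by group)

end Cfsg.Agent.Lib.Helper3.QQMC
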