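import Mathlib
import Cfsg.Agent.Lib.Helper3.GH7CE3
import Cfsg.Agent.Lib.Helper3.QQMC1

/-!
# Farm GH7 (S3105), unit CE (helper3): `exists_index_two_of_inv`.

A central extension of `L = SL(3,2)` by `Z2` in which an involution of `L` lifts to an involution has a
normal subgroup of index 2 (its commutator subgroup), which meets the kernel trivially.
-/

set_option autoImplicit false
set_option linter.unusedSectionVars false
set_option linter.unusedVariables false

namespace Cfsg.Agent.Lib.Helper3.GH7CE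

open Cfsg.Agent.Lib.Helper2.GH7
open scoped commutatorElement

universe u

/-- the abstract core: `ζ ∉ E'` and `E'` has index 2 -/
theorem ce_core {E : Type u} [Group E] [Finite E] (φ : E →* L) (hsurj : Function.Surjective φ)
    (ζ : E) (hζ2 : ζ * ζ = 1) (hζ1 : ζ ≠ 1) (hker : ∀ x : E, φ x = 1 ↔ x = 1 ∨ x = ζ)
    (κ : E) (hκ1 : φ κ ≠ 1) (hκ2 : κ * κ = 1) :
    ζ ∉ commutator E ∧ (commutator E).index = 2 := by
  obtain ⟨α, hα⟩ := hsurj a12
  obtain ⟨β, hβ⟩ := hsurj b23
  have hα2 : α * α = 1 :=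
    lift_invol φ hsurj ζ hζ2 hζ1 hker κ hκ1 hκ2 α (by rw [hα]; exact a12_ne) (by rw [hα]; exact a12_sq)
  have hβ2 : β * β = 1 :=
    lift_invol φ hsurj ζ hζ2 hζ1 hker κ hκ1 hκ2 β (by rw [hβ]; exact b23_ne) (by rw [hβ]; exact b23_sq)
  have hφr : φ (α * β) = u4 := by rw [map_mul, hα, hβ, a12_mul_b23]
  have hr2 : (α * β * (α * β)) * (α * β * (α * β)) = 1 := by
    apply lift_invol φ hsurj ζ hζ2 hζ1 hker κ hκ1 hκ2
    · rw [map_mul, hφr, u4_sq]; exact z13_ne
    · rw [map_mul, hφr, u4_sq]; exact z13_sq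
  have hr4 : (α * β) ^ 4 = 1 := by
    rw [← hr2]
    simp only [pow_succ, pow_zero, one_mul, mul_assoc]
  have hnot : ζ ∉ commutator E :=
    zeta_not_mem_commutator φ hsurj ζ hζ2 hζ1 hker α β hα hβ hα2 hβ2 hr4
  refine ⟨hnot, ?_⟩
  rw [Subgroup.index_eq_two_iff]
  refine ⟨ζ, fun b => ?_⟩
  have hmap : (commutator E).map φ = ⊤ := by
    rw [commutator_def, Subgroup.map_commutator, ← MonoidHom.range_eq_map,
      MonoidHom.range_eq_top.2 hsurj, ← commutator_def, commutator_L]
  have hb : φ b ∈ (commutator E).map φ := by rw [hmap]; trivial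
  obtain ⟨c, hc, hcb⟩ := Subgroup.mem_map.1 hb
  rcases eq_or_of_map_eq φ ζ hζ2 hζ1 hker b c hcb.symm with h | h
  · -- `b ∈ E'`
    refine Or.inr ⟨by rw [h]; exact hc, ?_⟩
    intro h2
    apply hnot
    have : ζ = b⁻¹ * (b * ζ) := by group
    rw [this]
    exact Subgroup.mul_mem _ (Subgroup.inv_mem _ (by rw [h]; exact hc)) h2
  · refine Or.inl ⟨?_, ?_⟩
    · rw [h, mul_assoc, hζ2, mul_one]; exact hc
    · intro h2
      apply hnot
      have : ζ = c⁻¹ * b := by rw [h]; group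
      rw [this]
      exact Subgroup.mul_mem _ (Subgroup.inv_mem _ hc) h2

variable {G : Type u} [Group G] [Finite G] {Q : Subgroup G} [Q.Normal]

/-- **CE** (verbatim `Cfsg.Agent.Lib.Helper2.GH7.Stubs.exists_index_two_of_inv`) -/
theorem exists_index_two_of_inv (θ : G →* L) (hsurj : Function.Surjective θ) (hker : θ.ker = Q)
    (A : Subgroup G) [A.Normal] (hAQ : A ≤ Q) (hidx : Nat.card Q = 2 * Nat.card A)
    (k : G) (hk1 : θ k ≠ 1) (hk2 : θ k * θ k = 1) (hkA : k * k ∈ A) :
    ∃ X0 : Subgroup G, X0.Normal ∧ X0.index = 2 ∧ X0 ⊓ Q = A := by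
  have hAker : A ≤ θ.ker := by rw [hker]; exact hAQ
  -- `A` has index 2 in `Q`
  have hrel : (A.subgroupOf Q).index = 2 := by
    have h1 := Subgroup.card_mul_index (A.subgroupOf Q)
    rw [Nat.card_congr (Subgroup.subgroupOfEquivOfLe hAQ).toEquiv, hidx] at h1
    have hpos : 0 < Nat.card A := Nat.card_pos
    have h2 : Nat.card A * (A.subgroupOf Q).index = Nat.card A * 2 := by rw [h1, mul_comm]
    exact Nat.eq_of_mul_eq_mul_left hpos h2
  -- an element of `Q ∖ A`
  obtain ⟨q0, hq0Q, hq0A⟩ : ∃ q0 ∈ Q, q0 ∉ A := by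
    by_contra hcon
    push Not at hcon
    have hQA : Q = A := le_antisymm hcon hAQ
    rw [hQA] at hidx
    have hpos : 0 < Nat.card A := Nat.card_pos
    omega
  have hq0' : (⟨q0, hq0Q⟩ : Q) ∉ A.subgroupOf Q := by
    rw [Subgroup.mem_subgroupOf]; exact hq0A
  have hq0sq : q0 * q0 ∈ A := by
    have := Subgroup.mul_self_mem_of_index_two hrel (⟨q0, hq0Q⟩ : Q)
    rw [Subgroup.mem_subgroupOf] at this
    exact this
  have hdich : ∀ x ∈ Q, x ∈ A ∨ q0⁻¹ * x ∈ A := by
    intro x hx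
    have := Cfsg.Agent.Lib.Helper3.QQMC.mem_or_of_index_two (A.subgroupOf Q) hrel
      (⟨q0, hq0Q⟩ : Q) hq0' (⟨x, hx⟩ : Q)
    rw [Subgroup.mem_subgroupOf, Subgroup.mem_subgroupOf] at this
    exact this
  -- the quotient `E = G ⧸ A`
  let φ : G ⧸ A →* L := QuotientGroup.lift A θ hAker
  have hφmk : ∀ g : G, φ (QuotientGroup.mk g) = θ g := fun g => rfl
  have hφsurj : Function.Surjective φ := by
    intro l
    obtain ⟨g, hg⟩ := hsurj l
    exact ⟨QuotientGroup.mk g, by rw [hφmk, hg]⟩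
  have hζ2 : (QuotientGroup.mk q0 : G ⧸ A) * QuotientGroup.mk q0 = 1 := by
    rw [← QuotientGroup.mk_mul, QuotientGroup.eq_one_iff]; exact hq0sq
  have hζ1 : (QuotientGroup.mk q0 : G ⧸ A) ≠ 1 := by
    rw [Ne, QuotientGroup.eq_one_iff]; exact hq0A
  have hkerφ : ∀ x : G ⧸ A, φ x = 1 ↔ x = 1 ∨ x = QuotientGroup.mk q0 := by
    intro x
    induction x using QuotientGroup.induction_on with
    | H g =>
      rw [hφmk, ← MonoidHom.mem_ker, hker, QuotientGroup.eq_one_iff, QuotientGroup.eq]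
      constructor
      · intro hg
        rcases hdich g hg with h | h
        · exact Or.inl h
        · right
          have : g⁻¹ * q0 = (q0⁻¹ * g)⁻¹ := by group
          rw [this]
          exact Subgroup.inv_mem _ h
      · rintro (h | h)
        · exact hAQ h
        · have : g = q0 * (g⁻¹ * q0)⁻¹ := by group
          rw [this]
          exact Subgroup.mul_mem _ hq0Q (Subgroup.inv_mem _ (hAQ h))
  have hκ1 : φ (QuotientGroup.mk k) ≠ 1 := by rw [hφmk]; exact hk1
  have hκ2 : (QuotientGroup.mk k : G ⧸ A) * QuotientGroup.mk k = 1 := by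
    rw [← QuotientGroup.mk_mul, QuotientGroup.eq_one_iff]; exact hkA
  obtain ⟨hnot, hind⟩ := ce_core φ hφsurj (QuotientGroup.mk q0) hζ2 hζ1 hkerφ
    (QuotientGroup.mk k) hκ1 hκ2
  refine ⟨(commutator (G ⧸ A)).comap (QuotientGroup.mk' A), inferInstance, ?_, ?_⟩
  · rw [Subgroup.index_comap_of_surjective _ (QuotientGroup.mk'_surjective A), hind]
  · apply le_antisymm
    · intro x hx
      obtain ⟨hx1, hx2⟩ := Subgroup.mem_inf.1 hx
      rw [Subgroup.mem_comap, QuotientGroup.mk'_apply] at hx1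
      have h1 : φ (QuotientGroup.mk x) = 1 := by
        rw [hφmk, ← MonoidHom.mem_ker, hker]; exact hx2
      rcases (hkerφ _).1 h1 with h | h
      · rwa [QuotientGroup.eq_one_iff] at h
      · exfalso
        apply hnot
        rw [← h]; exact hx1
    · intro x hx
      refine Subgroup.mem_inf.2 ⟨?_, hAQ hx⟩
      rw [Subgroup.mem_comap, QuotientGroup.mk'_apply, (QuotientGroup.eq_one_iff x).2 hx]
      exact Subgroup.one_mem _

end Cfsg.Agent.Lib.Helper3.GH7CE
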