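import Mathlib

/-!
# Farm GH7 (S3105), unit B8N-dih (helper3), part 1: an involution acting on an elementary abelian group of order 8.

`ν = 1 + t` has `ν² = 0`, so `|im ν| ≤ 2` and `|C_M(t)| = |ker ν| ≥ 4`.
-/

set_option autoImplicit false
set_option linter.unusedSectionVars false
set_option linter.unusedVariables false

namespace Cfsg.Agent.Lib.Helper3.GH7Dih

theorem comm_of_exp_two {X : Type*} [Group X] (M : Subgroup X) (hM2 : ∀ m ∈ M, m * m = 1) :
    ∀ a ∈ M, ∀ b ∈ M, a * b = b * a := by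
  intro a ha b hb
  have h1 : a⁻¹ = a := inv_eq_of_mul_eq_one_right (hM2 a ha)
  have h2 : b⁻¹ = b := inv_eq_of_mul_eq_one_right (hM2 b hb)
  have h3 : (a * b)⁻¹ = a * b := inv_eq_of_mul_eq_one_right (hM2 _ (M.mul_mem ha hb))
  rw [mul_inv_rev, h1, h2] at h3
  exact h3.symm

/-- the map `1 + t` as an endomorphism of `M` -/
noncomputable def nu {X : Type*} [Group X] (M : Subgroup X) (hM2 : ∀ m ∈ M, m * m = 1) (k : X)
    (hkM : ∀ m ∈ M, k * m * k⁻¹ ∈ M) : ↥M →* ↥M where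
  toFun m := ⟨(m : X) * (k * m * k⁻¹), M.mul_mem m.2 (hkM m m.2)⟩
  map_one' := by apply Subtype.ext; simp
  map_mul' a b := by
    apply Subtype.ext
    show ((a : X) * b) * (k * ((a : X) * b) * k⁻¹) = ((a : X) * (k * a * k⁻¹)) * ((b : X) * (k * b * k⁻¹))
    have h := comm_of_exp_two M hM2 b b.2 (k * a * k⁻¹) (hkM a a.2)
    calc ((a : X) * b) * (k * ((a : X) * b) * k⁻¹)
        = (a : X) * ((b : X) * (k * a * k⁻¹)) * (k * b * k⁻¹) := by group
      _ = (a : X) * ((k * a * k⁻¹) * (b : X)) * (k * b * k⁻¹) := by rw [h]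
      _ = _ := by group

theorem invol_module {X : Type*} [Group X] (M : Subgroup X) (hcard : Nat.card M = 8)
    (hM2 : ∀ m ∈ M, m * m = 1) (k : X) (hkM : ∀ m ∈ M, k * m * k⁻¹ ∈ M)
    (hk2 : ∀ m ∈ M, (k * k) * m * (k * k)⁻¹ = m) :
    (∀ m ∈ M, ∀ m' ∈ M, m * (k * m * k⁻¹) ≠ 1 → m' * (k * m' * k⁻¹) ≠ 1 →
      m * (k * m * k⁻¹) = m' * (k * m' * k⁻¹)) ∧
    (∃ m1 ∈ M, ∃ m2 ∈ M, m1 ≠ 1 ∧ m2 ≠ 1 ∧ m1 ≠ m2 ∧ k * m1 * k⁻¹ = m1 ∧ k * m2 * k⁻¹ = m2) := by
  classical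
  haveI : Finite ↥M := Nat.finite_of_card_ne_zero (by rw [hcard]; norm_num)
  have hcomm := comm_of_exp_two M hM2
  have hinv : ∀ m ∈ M, m⁻¹ = m := fun m hm => inv_eq_of_mul_eq_one_right (hM2 m hm)
  have hval : ∀ m : ↥M, ((nu M hM2 k hkM m : ↥M) : X) = (m : X) * (k * m * k⁻¹) := fun m => rfl
  -- `ν ∘ ν = 1`
  have hνν : ∀ m : ↥M, nu M hM2 k hkM (nu M hM2 k hkM m) = 1 := by
    intro m
    apply Subtype.ext
    rw [hval, hval]
    have h1 : k * ((m : X) * (k * m * k⁻¹)) * k⁻¹ = (k * m * k⁻¹) * ((k * k) * m * (k * k)⁻¹) := by group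
    rw [h1, hk2 m m.2]
    have h2 := hcomm (m : X) m.2 (k * m * k⁻¹) (hkM m m.2)
    calc (m : X) * (k * m * k⁻¹) * ((k * m * k⁻¹) * m)
        = (m : X) * ((k * m * k⁻¹) * (k * m * k⁻¹)) * m := by group
      _ = 1 := by rw [hM2 _ (hkM m m.2), mul_one, hM2 m m.2]
  have hle : (nu M hM2 k hkM).range ≤ (nu M hM2 k hkM).ker := by
    rintro _ ⟨m, rfl⟩
    exact hνν m
  have hc1 := Subgroup.card_eq_card_quotient_mul_card_subgroup (nu M hM2 k hkM).ker
  rw [hcard] at hc1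
  have hc2 : Nat.card (↥M ⧸ (nu M hM2 k hkM).ker) = Nat.card (nu M hM2 k hkM).range :=
    Nat.card_congr (QuotientGroup.quotientKerEquivRange (nu M hM2 k hkM)).toEquiv
  have hc3 := Subgroup.card_le_of_le hle
  have hidx : (nu M hM2 k hkM).ker.index = Nat.card (nu M hM2 k hkM).range := hc2
  rw [hc2] at hc1
  have hr2 : Nat.card (nu M hM2 k hkM).range ≤ 2 := by
    by_contra hcon
    push Not at hcon
    nlinarith
  have hk3 : 2 < Nat.card (nu M hM2 k hkM).ker := by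
    by_contra hcon
    push Not at hcon
    nlinarith
  have hmemker : ∀ m : ↥M, m ∈ (nu M hM2 k hkM).ker ↔ (m : X) * (k * m * k⁻¹) = 1 := by
    intro m
    rw [MonoidHom.mem_ker]
    constructor
    · intro h
      have := congrArg Subtype.val h
      rw [hval] at this
      exact this
    · intro h
      apply Subtype.ext
      rw [hval]; exact h
  constructor
  · intro m hm m' hm' h1 h2
    have hn1 : (⟨m, hm⟩ : ↥M) ∉ (nu M hM2 k hkM).ker := by rw [hmemker]; exact h1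
    have hn2 : (⟨m', hm'⟩ : ↥M) ∉ (nu M hM2 k hkM).ker := by rw [hmemker]; exact h2
    have hi2 : (nu M hM2 k hkM).ker.index = 2 := by
      have h3 : (nu M hM2 k hkM).ker.index ≠ 1 := by
        intro h
        rw [Subgroup.index_eq_one] at h
        apply hn1
        rw [h]; trivial
      have h4 : (nu M hM2 k hkM).ker.index ≠ 0 := Subgroup.index_ne_zero_of_finite
      omega
    have h5 : (⟨m, hm⟩ : ↥M) * ⟨m', hm'⟩ ∈ (nu M hM2 k hkM).ker := by
      rw [Subgroup.mul_mem_iff_of_index_two hi2]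
      exact ⟨fun h => absurd h hn1, fun h => absurd h hn2⟩
    rw [MonoidHom.mem_ker, map_mul] at h5
    have h6 := congrArg Subtype.val h5
    rw [Subgroup.coe_mul, hval, hval] at h6
    have h7 : m * (k * m * k⁻¹) = (m' * (k * m' * k⁻¹))⁻¹ := eq_inv_of_mul_eq_one_left h6
    rw [h7, hinv _ (M.mul_mem hm' (hkM m' hm'))]
  · haveI : Fintype ↥(nu M hM2 k hkM).ker := Fintype.ofFinite _
    rw [Nat.card_eq_fintype_card] at hk3
    obtain ⟨a, b, c, hab, hac, hbc⟩ := Fintype.two_lt_card_iff.1 hk3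
    have hfix : ∀ x : ↥(nu M hM2 k hkM).ker, k * ((x : ↥M) : X) * k⁻¹ = ((x : ↥M) : X) := by
      intro x
      have h1 := (hmemker x.1).1 x.2
      have h2 : k * ((x : ↥M) : X) * k⁻¹ = (((x : ↥M) : X))⁻¹ := eq_inv_of_mul_eq_one_right h1
      rw [h2, hinv _ x.1.2]
    have hne : ∀ x y : ↥(nu M hM2 k hkM).ker, x ≠ y → ((x : ↥M) : X) ≠ ((y : ↥M) : X) := by
      intro x y hxy h
      exact hxy (Subtype.ext (Subtype.ext h))
    have h1 : ∀ x : ↥(nu M hM2 k hkM).ker, x ≠ 1 → ((x : ↥M) : X) ≠ 1 := by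
      intro x hx h
      exact hx (Subtype.ext (Subtype.ext h))
    by_cases ha : a = 1
    · have hb : b ≠ 1 := fun h => hab (ha.trans h.symm)
      have hc : c ≠ 1 := fun h => hac (ha.trans h.symm)
      exact ⟨_, b.1.2, _, c.1.2, h1 b hb, h1 c hc, hne b c hbc, hfix b, hfix c⟩
    · by_cases hb : b = 1
      · have hc : c ≠ 1 := fun h => hbc (hb.trans h.symm)
        exact ⟨_, a.1.2, _, c.1.2, h1 a ha, h1 c hc, hne a c hac, hfix a, hfix c⟩
      · exact ⟨_, a.1.2, _, b.1.2, h1 a ha, h1 b hb, hne a b hab, hfix a, hfix b⟩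

end Cfsg.Agent.Lib.Helper3.GH7Dih
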