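import Mathlib
import Cfsg.Agent.Lib.Helper3.GH7Dih1
import Cfsg.Agent.Lib.Helper3.GH7SaS1
import Cfsg.Agent.Lib.Helper3.GH7CE1
import Cfsg.Agent.Lib.Helper3.QQMC1

/-!
# Farm GH7 (S3105), unit B8N-dih (helper3): `b8n_dih` (statement of `GH7Stubs3`).

Some `q ∈ Q ∖ A` inverts `A = Z4^3`: then some involution of `L` lifts to `k` with `k² ∈ A`.
Else `k²` (for `k` over `a12`) inverts `A`; `κ` := conjugation by `k`; for `ā ∈ C_{A/W}(k)` (order ≥ 4): `κ a = a w`,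
`a⁻¹ = κ² a = a w κ(w)`, so `a² ∈ (1+κ)W` of order ≤ 2: squaring `A/W → W` is not injective.
-/

set_option autoImplicit false
set_option linter.unusedSectionVars false
set_option linter.unusedVariables false

namespace Cfsg.Agent.Lib.Helper3.GH7Dih

open Cfsg.Agent.Lib.Helper2.GH7
open Cfsg.Agent.Lib.Helper3.A8Emb (sqSub)

universe u

variable {G : Type u} [Group G] [Finite G] {Q : Subgroup G} [Q.Normal] {θ : G →* L}

/-- **B8-N Dih** (verbatim `Cfsg.Agent.Lib.Helper2.GH7.Stubs3.b8n_dih`) -/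
theorem b8n_dih (hF : Frame Q θ) (A W : Subgroup G) [A.Normal] [W.Normal] (hWA : W ≤ A) (hAQ : A ≤ Q)
    (hcardA : Nat.card A = 64) (hcardW : Nat.card W = 8) (hcardQ : Nat.card Q = 128)
    (hcommA : ∀ a ∈ A, ∀ b ∈ A, a * b = b * a) (hsqA : ∀ a ∈ A, a * a ∈ W) (hΩ : ∀ a ∈ A, a * a = 1 → a ∈ W)
    (hsqQ : ∀ q ∈ Q, q * q ∈ W) (hle : W ≤ sqSub Q) (hcenW : ∀ w ∈ W, ∀ q ∈ Q, w * q = q * w)
    (hfW : ∀ g : G, (∀ w ∈ W, g * w = w * g) → g ∈ Q)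
    (hfA : ∀ g : G, (∀ a ∈ A, g * a * g⁻¹ * a⁻¹ ∈ W) → g ∈ Q)
    (hinv : ∃ q ∈ Q, q ∉ A ∧ ∀ a ∈ A, q * a * q⁻¹ = a⁻¹) :
    ∃ k : G, θ k ≠ 1 ∧ θ k * θ k = 1 ∧ k * k ∈ A := by
  by_contra hcon
  push Not at hcon
  obtain ⟨q, hqQ, hqA, hqinv⟩ := hinv
  obtain ⟨k, hk⟩ := hF.surj a12
  have hkk : k * k ∉ A := hcon k (by rw [hk]; exact Cfsg.Agent.Lib.Helper3.GH7CE.a12_ne)
    (by rw [hk]; exact a12_sq)
  have hkkQ : k * k ∈ Q := by
    rw [← hF.ker, MonoidHom.mem_ker, map_mul, hk, a12_sq]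
  -- `W` has exponent 2
  have hW2 : ∀ w ∈ W, w * w = 1 := by
    intro w hw
    have h1 := hqinv w (hWA hw)
    have h2 := hcenW w hw q hqQ
    have h3 : q * w * q⁻¹ = w := by rw [← h2]; group
    rw [h3] at h1
    calc w * w = w * w⁻¹ := by rw [← h1]
      _ = 1 := mul_inv_cancel w
  -- `A` has index 2 in `Q`
  have hrel : (A.subgroupOf Q).index = 2 := by
    have h1 := Subgroup.card_mul_index (A.subgroupOf Q)
    rw [Nat.card_congr (Subgroup.subgroupOfEquivOfLe hAQ).toEquiv, hcardA, hcardQ] at h1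
    omega
  -- `k²` inverts `A`
  have hkkinv : ∀ a ∈ A, (k * k) * a * (k * k)⁻¹ = a⁻¹ := by
    intro a ha
    have hq' : (⟨q, hqQ⟩ : Q) ∉ A.subgroupOf Q := by rw [Subgroup.mem_subgroupOf]; exact hqA
    have := Cfsg.Agent.Lib.Helper3.QQMC.mem_or_of_index_two (A.subgroupOf Q) hrel
      (⟨q, hqQ⟩ : Q) hq' (⟨k * k, hkkQ⟩ : Q)
    rw [Subgroup.mem_subgroupOf, Subgroup.mem_subgroupOf] at this
    rcases this with h | h
    · exact absurd h hkk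
    · have h : q⁻¹ * (k * k) ∈ A := h
      have h1 : (q⁻¹ * (k * k)) * a * (q⁻¹ * (k * k))⁻¹ = a := by
          have := hcommA _ h a ha
          rw [this]; group
      calc (k * k) * a * (k * k)⁻¹ = q * ((q⁻¹ * (k * k)) * a * (q⁻¹ * (k * k))⁻¹) * q⁻¹ := by group
        _ = a⁻¹ := by rw [h1, hqinv a ha]
  have hinvW : ∀ w ∈ W, w⁻¹ = w := fun w hw => inv_eq_of_mul_eq_one_right (hW2 w hw)
  -- the module `W`
  have hNW := invol_module W hcardW hW2 k (fun m hm => ‹W.Normal›.conj_mem m hm k)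
    (fun m hm => by rw [hkkinv m (hWA hm), hinvW m hm])
  -- the module `A / W`
  have hcardAb : Nat.card (A.map (QuotientGroup.mk' W)) = 8 := by
    have := Cfsg.Agent.Lib.Helper3.GH7SaS.card_map_mk W A hWA
    rw [hcardW, hcardA] at this
    omega
  have hAb2 : ∀ m ∈ A.map (QuotientGroup.mk' W), m * m = 1 := by
    intro m hm
    obtain ⟨a, ha, rfl⟩ := Subgroup.mem_map.1 hm
    rw [QuotientGroup.mk'_apply, ← QuotientGroup.mk_mul, QuotientGroup.eq_one_iff]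
    exact hsqA a ha
  have hkAb : ∀ m ∈ A.map (QuotientGroup.mk' W),
      (QuotientGroup.mk k : G ⧸ W) * m * (QuotientGroup.mk k)⁻¹ ∈ A.map (QuotientGroup.mk' W) := by
    intro m hm
    obtain ⟨a, ha, rfl⟩ := Subgroup.mem_map.1 hm
    exact Subgroup.mem_map.2 ⟨k * a * k⁻¹, ‹A.Normal›.conj_mem a ha k, rfl⟩
  have hk2Ab : ∀ m ∈ A.map (QuotientGroup.mk' W),
      ((QuotientGroup.mk k : G ⧸ W) * QuotientGroup.mk k) * m *
        ((QuotientGroup.mk k : G ⧸ W) * QuotientGroup.mk k)⁻¹ = m := by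
    intro m hm
    have hm2 : m⁻¹ = m := inv_eq_of_mul_eq_one_right (hAb2 m hm)
    obtain ⟨a, ha, rfl⟩ := Subgroup.mem_map.1 hm
    have : ((QuotientGroup.mk k : G ⧸ W) * QuotientGroup.mk k) * (QuotientGroup.mk' W a) *
        ((QuotientGroup.mk k : G ⧸ W) * QuotientGroup.mk k)⁻¹ =
        QuotientGroup.mk ((k * k) * a * (k * k)⁻¹) := rfl
    rw [this, hkkinv a ha]
    exact hm2
  obtain ⟨m1, hm1, m2, hm2, hne1, hne2, hne12, hfix1, hfix2⟩ :=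
    (invol_module (A.map (QuotientGroup.mk' W)) hcardAb hAb2 (QuotientGroup.mk k) hkAb hk2Ab).2
  obtain ⟨a1, ha1, rfl⟩ := Subgroup.mem_map.1 hm1
  obtain ⟨a2, ha2, rfl⟩ := Subgroup.mem_map.1 hm2
  rw [QuotientGroup.mk'_apply] at hne1 hne2 hne12 hfix1 hfix2
  have hn1 : a1 ∉ W := fun h => hne1 ((QuotientGroup.eq_one_iff a1).2 h)
  have hn2 : a2 ∉ W := fun h => hne2 ((QuotientGroup.eq_one_iff a2).2 h)
  have hn12 : a1⁻¹ * a2 ∉ W := fun h => hne12 (QuotientGroup.eq.2 h)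
  -- `a² = (1+κ) w`
  have key : ∀ a ∈ A, (QuotientGroup.mk k : G ⧸ W) * QuotientGroup.mk a * (QuotientGroup.mk k)⁻¹ =
      QuotientGroup.mk a → ∃ w ∈ W, a * a = w * (k * w * k⁻¹) := by
    intro a ha hfix
    have h1 : a⁻¹ * (k * a * k⁻¹) ∈ W := by
      rw [← QuotientGroup.eq]
      exact hfix.symm
    refine ⟨a⁻¹ * (k * a * k⁻¹), h1, ?_⟩
    have h2 := hkkinv a ha
    have h3 : k * (a⁻¹ * (k * a * k⁻¹)) * k⁻¹ = (k * a * k⁻¹)⁻¹ * ((k * k) * a * (k * k)⁻¹) := by group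
    rw [h3, h2]
    -- `a⁻¹ (κ a) (κ a)⁻¹ a⁻¹ = a⁻¹ a⁻¹`, and `(a a)⁻¹ = a a` as `a a ∈ W`
    have h4 : a⁻¹ * (k * a * k⁻¹) * ((k * a * k⁻¹)⁻¹ * a⁻¹) = (a * a)⁻¹ := by group
    rw [h4, hinvW _ (hsqA a ha)]
  obtain ⟨w1, hw1, e1⟩ := key a1 ha1 hfix1
  obtain ⟨w2, hw2, e2⟩ := key a2 ha2 hfix2
  have hs1 : a1 * a1 ≠ 1 := fun h => hn1 (hΩ a1 ha1 h)
  have hs2 : a2 * a2 ≠ 1 := fun h => hn2 (hΩ a2 ha2 h)
  have heq : a1 * a1 = a2 * a2 := by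
    rw [e1, e2]
    apply hNW.1 w1 hw1 w2 hw2
    · rw [← e1]; exact hs1
    · rw [← e2]; exact hs2
  apply hn12
  apply hΩ _ (A.mul_mem (A.inv_mem ha1) ha2)
  have hc := hcommA a2 ha2 a1⁻¹ (A.inv_mem ha1)
  calc a1⁻¹ * a2 * (a1⁻¹ * a2) = a1⁻¹ * (a2 * a1⁻¹) * a2 := by group
    _ = a1⁻¹ * (a1⁻¹ * a2) * a2 := by rw [hc]
    _ = (a1 * a1)⁻¹ * (a2 * a2) := by group
    _ = 1 := by rw [heq, inv_mul_cancel]

end Cfsg.Agent.Lib.Helper3.GH7Dih
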