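import Mathlib
import Cfsg.Agent.Lib.Lead.Sz2D1

set_option autoImplicit false
set_option maxHeartbeats 4000000
set_option maxRecDepth 100000
set_option linter.unusedVariables false
set_option linter.unusedSectionVars false
set_option linter.style.longLine false
set_option linter.style.haveILetI false
set_option linter.deprecated false

/-!
# 2-groups with a solvable group of automorphisms transitive on involutions: set-up

`SH P Y` is the hypothesis of the theorem (without non-commutativity), `SCoo P Y F` are semilinear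
coordinates on `Om P` (central elements of order at most two) over a finite field `F`.
-/

namespace Cfsg.Agent.Lib.Helper3.Sz

open Cfsg.Agent.Lib.Lead.Sz2D

universe u

/-- a finite 2-group with more than one involution and a solvable group of automorphisms which is
transitive on the involutions -/
structure SH (P : Type u) [Group P] (Y : Subgroup (MulAut P)) : Prop where
  fin : Finite P
  pg : IsPGroup 2 P
  sol : Group.IsSolvable Y
  two : ∃ x y : P, x ≠ y ∧ x ≠ 1 ∧ x * x = 1 ∧ y ≠ 1 ∧ y * y = 1
  trans : ∀ x y : P, x ≠ 1 → x * x = 1 → y ≠ 1 → y * y = 1 → ∃ k ∈ Y, k x = y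

/-- semilinear coordinates on `Om P`: `ι` identifies `Om P` with the additive group of `F` and every
`k ∈ Y` acts as `u ↦ κ k * τ k u` -/
structure SCoo (P : Type u) [Group P] (Y : Subgroup (MulAut P)) (F : Type) [Field F] where
  ι : P → F
  κ : MulAut P → F
  τ : MulAut P → (F ≃+* F)
  surj : ∀ a : F, ∃ z ∈ Om P, ι z = a
  inj : ∀ z ∈ Om P, ι z = 0 → z = 1
  add : ∀ z ∈ Om P, ∀ z' ∈ Om P, ι (z * z') = ι z + ι z'
  act : ∀ k ∈ Y, ∀ z ∈ Om P, ι (k z) = κ k * τ k (ι z)
  kne : ∀ k ∈ Y, κ k ≠ 0
  ksurj : ∀ l : F, l ≠ 0 → ∃ k ∈ Y, κ k = l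

end Cfsg.Agent.Lib.Helper3.Sz
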