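import Mathlib
import Cfsg.Agent.Lib.Helper3.Sz0
import Cfsg.Agent.Lib.Helper1.Hg5

set_option autoImplicit false
set_option maxHeartbeats 4000000
set_option maxRecDepth 100000
set_option linter.unusedVariables false
set_option linter.unusedSectionVars false
set_option linter.style.longLine false
set_option linter.style.haveILetI false
set_option linter.deprecated false

/-!
# Solvable transitive automorphism groups of 2-groups: basic lemmas, subgroups and the quotient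
-/

namespace Cfsg.Agent.Lib.Helper3.Sz

open Cfsg.Agent.Lib.Lead.Sz2D Cfsg.Agent.Lib.Helper1.Hg

universe u

variable {P : Type u} [Group P] {Y : Subgroup (MulAut P)}

namespace SH

theorem inv_central (h : SH P Y) {x : P} (hx : x * x = 1) : x ∈ Subgroup.center P := by
  by_cases hx1 : x = 1
  · rw [hx1]
    exact Subgroup.one_mem _
  haveI := h.fin
  haveI : Nontrivial P := ⟨⟨x, 1, hx1⟩⟩
  obtain ⟨z, hzc, hz1, hz2⟩ := exists_central_involution P h.pg
  obtain ⟨k, hk, hkz⟩ := h.trans z x hz1 hz2 hx1 hx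
  rw [← hkz]
  exact map_center k hzc

theorem mem_Om_iff (h : SH P Y) {x : P} : x ∈ Om P ↔ x * x = 1 :=
  ⟨fun hx => hx.2, fun hx => ⟨h.inv_central hx, hx⟩⟩

/-- an invariant set of involutions which is nonempty contains all involutions -/
theorem all_of_one (h : SH P Y) (S : Set P) (hinv : ∀ k ∈ Y, ∀ x ∈ S, k x ∈ S) {x₀ : P}
    (hx₀ : x₀ ∈ S) (h1 : x₀ ≠ 1) (h2 : x₀ * x₀ = 1) : ∀ z ∈ Om P, z ≠ 1 → z ∈ S := by
  intro z hz hz1
  obtain ⟨k, hk, hkx⟩ := h.trans x₀ z h1 h2 hz1 hz.2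
  rw [← hkx]
  exact hinv k hk x₀ hx₀

theorem Om_le (h : SH P Y) (H : Subgroup P) (hne : ∃ x ∈ H, x ≠ 1) (hle : H ≤ Om P)
    (hinv : ∀ k ∈ Y, ∀ x ∈ H, k x ∈ H) : Om P ≤ H := by
  intro y hy
  obtain ⟨x, hxH, hx1⟩ := hne
  by_cases hy1 : y = 1
  · rw [hy1]
    exact H.one_mem
  exact h.all_of_one (H : Set P) hinv hxH hx1 (hle hxH).2 y hy hy1

theorem Om_ne_bot (h : SH P Y) : ∃ x ∈ Om P, x ≠ 1 := by
  obtain ⟨x, y, _, hx1, hx2, _⟩ := h.two
  exact ⟨x, ⟨h.inv_central hx2, hx2⟩, hx1⟩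

theorem Om_inv_self (h : SH P Y) {z : P} (hz : z ∈ Om P) : z⁻¹ = z :=
  inv_eq_of_mul_eq_one_left hz.2

/-- every nontrivial element has a power which is an involution -/
theorem exists_pow_invol (h : SH P Y) {x : P} (hx1 : x ≠ 1) :
    ∃ j : ℕ, x ^ (2 ^ j) ≠ 1 ∧ x ^ (2 ^ j) * x ^ (2 ^ j) = 1 := by
  classical
  have hex : ∃ j, x ^ (2 ^ j) = 1 := h.pg x
  obtain ⟨j, hj, hmin⟩ : ∃ j, x ^ (2 ^ j) = 1 ∧ ∀ m < j, x ^ (2 ^ m) ≠ 1 :=
    ⟨Nat.find hex, Nat.find_spec hex, fun m hm => Nat.find_min hex hm⟩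
  cases j with
  | zero =>
    rw [pow_zero, pow_one] at hj
    exact absurd hj hx1
  | succ i =>
    refine ⟨i, hmin i (Nat.lt_succ_self i), ?_⟩
    rw [← pow_add]
    have h2 : 2 ^ i + 2 ^ i = 2 ^ (i + 1) := by ring
    rw [h2]
    exact hj

/-- a nontrivial invariant subgroup contains `Om P` -/
theorem Om_le_of_inv (h : SH P Y) {H : Subgroup P} (hH : Inv Y H) (hne : ∃ x ∈ H, x ≠ 1) :
    Om P ≤ H := by
  obtain ⟨x, hxH, hx1⟩ := hne
  obtain ⟨j, hj1, hj2⟩ := h.exists_pow_invol hx1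
  intro z hz
  by_cases hz1 : z = 1
  · rw [hz1]; exact H.one_mem
  exact h.all_of_one (H : Set P) hH (H.pow_mem hxH _) hj1 hj2 z hz hz1

end SH

/-- restriction of `Y` to an invariant subgroup, as a homomorphism -/
def resHom {H : Subgroup P} (hH : Inv Y H) : ↥Y →* MulAut ↥H where
  toFun k := resAut H k.1 (hH k.1 k.2) (fun x hx => hH.inv_mem k.2 hx)
  map_one' := by
    apply MulEquiv.ext
    intro x
    rfl
  map_mul' := by
    intro k k'
    apply MulEquiv.ext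
    intro x
    rfl

theorem resHom_coe {H : Subgroup P} (hH : Inv Y H) (k : ↥Y) (x : ↥H) :
    ((resHom hH k x : ↥H) : P) = k.1 x := rfl

namespace SH

theorem sub (h : SH P Y) {H : Subgroup P} (hH : Inv Y H) (hOm : Om P ≤ H) :
    SH ↥H (resHom hH).range := by
  haveI := h.fin
  haveI := h.sol
  refine ⟨inferInstance, h.pg.to_subgroup H, ?_, ?_, ?_⟩
  · exact Group.isSolvable_of_surjective (MonoidHom.rangeRestrict_surjective (resHom hH))
  · obtain ⟨x, y, hxy, hx1, hx2, hy1, hy2⟩ := h.two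
    have hxO : x ∈ Om P := h.mem_Om_iff.mpr hx2
    have hyO : y ∈ Om P := h.mem_Om_iff.mpr hy2
    refine ⟨⟨x, hOm hxO⟩, ⟨y, hOm hyO⟩, ?_, ?_, ?_, ?_, ?_⟩
    · intro he; exact hxy (congrArg Subtype.val he)
    · intro he; exact hx1 (congrArg Subtype.val he)
    · exact Subtype.ext hx2
    · intro he; exact hy1 (congrArg Subtype.val he)
    · exact Subtype.ext hy2
  · intro x y hx1 hx2 hy1 hy2
    have hx1' : (x : P) ≠ 1 := fun he => hx1 (Subtype.ext he)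
    have hy1' : (y : P) ≠ 1 := fun he => hy1 (Subtype.ext he)
    have hx2' : (x : P) * x = 1 := congrArg Subtype.val hx2
    have hy2' : (y : P) * y = 1 := congrArg Subtype.val hy2
    obtain ⟨k, hk, hkx⟩ := h.trans x y hx1' hx2' hy1' hy2'
    refine ⟨resHom hH ⟨k, hk⟩, ⟨⟨k, hk⟩, rfl⟩, ?_⟩
    exact Subtype.ext hkx

/-- the quotient by `Om P` inherits the hypothesis -/
theorem quot (h : SH P Y)
    (hF3 : ∀ x : P, x * x ∈ Om P → x ∈ Subgroup.center P)
    (hF2 : ∀ z ∈ Om P, ∃ a ∈ Subgroup.center P, a * a = z) :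
    SH (P ⧸ Om P) (Y.map (qAut P)) := by
  haveI := h.fin
  haveI := h.sol
  have hinvQ : ∀ q : P ⧸ Om P, q ≠ 1 → q * q = 1 →
      ∃ x : P, (x : P ⧸ Om P) = q ∧ x ∈ Subgroup.center P ∧ x * x ≠ 1 ∧
        (x * x) * (x * x) = 1 := by
    intro q hq1 hq2
    obtain ⟨x, rfl⟩ := QuotientGroup.mk_surjective q
    have hxO : x ∉ Om P := fun hx => hq1 ((QuotientGroup.eq_one_iff x).mpr hx)
    rw [← QuotientGroup.mk_mul] at hq2
    have hxx : x * x ∈ Om P := (QuotientGroup.eq_one_iff _).mp hq2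
    have hxc := hF3 x hxx
    exact ⟨x, rfl, hxc, fun h1 => hxO ⟨hxc, h1⟩, hxx.2⟩
  refine ⟨inferInstance, h.pg.to_quotient _, ?_, ?_, ?_⟩
  · exact Group.isSolvable_of_surjective (MonoidHom.subgroupMap_surjective (qAut P) Y)
  · obtain ⟨z, z', hzz', hz1, hz2, hz'1, hz'2⟩ := h.two
    have hzO : z ∈ Om P := ⟨h.inv_central hz2, hz2⟩
    have hz'O : z' ∈ Om P := ⟨h.inv_central hz'2, hz'2⟩
    obtain ⟨a, hac, haz⟩ := hF2 z hzO
    obtain ⟨a', ha'c, ha'z⟩ := hF2 z' hz'O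
    refine ⟨(a : P ⧸ Om P), (a' : P ⧸ Om P), ?_, ?_, ?_, ?_, ?_⟩
    · intro heq
      have h1 : a⁻¹ * a' ∈ Om P := QuotientGroup.eq.mp heq
      have h2 := h1.2
      apply hzz'
      rw [← haz, ← ha'z]
      have hc : a' * a⁻¹ = a⁻¹ * a' :=
        Subgroup.mem_center_iff.mp ((Subgroup.center P).inv_mem hac) a'
      have h3 : a⁻¹ * a⁻¹ * (a' * a') = 1 := by
        calc a⁻¹ * a⁻¹ * (a' * a') = a⁻¹ * (a⁻¹ * a') * a' := by group
          _ = a⁻¹ * (a' * a⁻¹) * a' := by rw [hc]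
          _ = a⁻¹ * a' * (a⁻¹ * a') := by group
          _ = 1 := h2
      have h4 := eq_inv_of_mul_eq_one_right h3
      rw [mul_inv_rev, inv_inv] at h4
      exact h4.symm
    · intro h1
      have h2 : a ∈ Om P := (QuotientGroup.eq_one_iff a).mp h1
      exact hz1 (by rw [← haz]; exact h2.2)
    · rw [← QuotientGroup.mk_mul, haz]
      exact (QuotientGroup.eq_one_iff z).mpr hzO
    · intro h1
      have h2 : a' ∈ Om P := (QuotientGroup.eq_one_iff a').mp h1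
      exact hz'1 (by rw [← ha'z]; exact h2.2)
    · rw [← QuotientGroup.mk_mul, ha'z]
      exact (QuotientGroup.eq_one_iff z').mpr hz'O
  · intro q q' hq1 hq2 hq'1 hq'2
    obtain ⟨x, rfl, hxc, hx1, hx2⟩ := hinvQ q hq1 hq2
    obtain ⟨y, rfl, hyc, hy1, hy2⟩ := hinvQ q' hq'1 hq'2
    obtain ⟨k, hk, hkz⟩ := h.trans (x * x) (y * y) hx1 hx2 hy1 hy2
    refine ⟨qAut P k, Subgroup.mem_map_of_mem _ hk, ?_⟩
    rw [qAut_mk]
    apply QuotientGroup.eq.mpr
    have hkxc : k x ∈ Subgroup.center P := map_center k hxc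
    refine ⟨(Subgroup.center P).mul_mem ((Subgroup.center P).inv_mem hkxc) hyc, ?_⟩
    have hc : y * (k x)⁻¹ = (k x)⁻¹ * y :=
      Subgroup.mem_center_iff.mp ((Subgroup.center P).inv_mem hkxc) y
    calc (k x)⁻¹ * y * ((k x)⁻¹ * y) = (k x)⁻¹ * (y * (k x)⁻¹) * y := by group
      _ = (k x)⁻¹ * ((k x)⁻¹ * y) * y := by rw [hc]
      _ = (k x * k x)⁻¹ * (y * y) := by group
      _ = 1 := by rw [← map_mul, hkz, inv_mul_cancel]

end SH

end Cfsg.Agent.Lib.Helper3.Sz
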