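import Mathlib
import Cfsg.Agent.Lib.Helper3.Sz1
import Cfsg.Agent.Lib.Helper1.Hg4

set_option autoImplicit false
set_option maxHeartbeats 4000000
set_option maxRecDepth 100000
set_option linter.unusedVariables false
set_option linter.unusedSectionVars false
set_option linter.style.longLine false
set_option linter.style.haveILetI false
set_option linter.deprecated false

/-!
# Semilinear coordinates: the multiplier group `M` and its index
-/

namespace Cfsg.Agent.Lib.Helper3.Sz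

open Cfsg.Agent.Lib.Lead.Sz2D Cfsg.Agent.Lib.Helper1.Hg

universe u

section fieldfacts

variable {F : Type*} [Field F] [Fintype F] [CharP F 2] [Fintype (F ≃+* F)]

theorem frobE_pow_apply (i : ℕ) (x : F) : ((frobE F) ^ i) x = x ^ (2 ^ i) := by
  induction i generalizing x with
  | zero => simp
  | succ i ih =>
    rw [pow_succ, RingAut.mul_apply, ih, frobE_apply, pow_succ, pow_mul, pow_two]
    rw [mul_pow]

theorem finrank_of_card {n : ℕ} (hcard : Fintype.card F = 2 ^ n) :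
    letI : Algebra (ZMod 2) F := ZMod.algebra F 2
    Module.finrank (ZMod 2) F = n := by
  letI : Algebra (ZMod 2) F := ZMod.algebra F 2
  have h1 : Fintype.card F = Fintype.card (ZMod 2) ^ Module.finrank (ZMod 2) F :=
    Module.card_eq_pow_finrank
  rw [ZMod.card, hcard] at h1
  exact (Nat.pow_right_injective (le_refl 2) h1).symm

/-- every automorphism is a `2`-power map -/
theorem aut_eq_pow {n : ℕ} (hcard : Fintype.card F = 2 ^ n) (σ : F ≃+* F) :
    ∃ i : ℕ, i < n ∧ ∀ x : F, σ x = x ^ (2 ^ i) := by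
  classical
  letI : Algebra (ZMod 2) F := ZMod.algebra F 2
  have hcomm : ∀ r : ZMod 2, σ (algebraMap (ZMod 2) F r) = algebraMap (ZMod 2) F r := by
    intro r
    have h1 : (σ : F →+* F).comp (algebraMap (ZMod 2) F) = algebraMap (ZMod 2) F :=
      Subsingleton.elim _ _
    exact congrArg (fun g : ZMod 2 →+* F => g r) h1
  let σ' : F ≃ₐ[ZMod 2] F := AlgEquiv.ofRingEquiv (f := σ) hcomm
  obtain ⟨⟨i, hi⟩, hσ⟩ := (FiniteField.bijective_frobeniusAlgEquivOfAlgebraic_pow (ZMod 2) F).2 σ'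
  have hfr := finrank_of_card hcard
  refine ⟨i, hfr ▸ hi, fun x => ?_⟩
  have h2 : σ x = σ' x := rfl
  have h3 : σ' x = ((FiniteField.frobeniusAlgEquivOfAlgebraic (ZMod 2) F) ^ i) x := by
    rw [← hσ]
  rw [h2, h3, AlgEquiv.coe_pow, FiniteField.coe_frobeniusAlgEquivOfAlgebraic_iterate, ZMod.card]

theorem pow_card_two {n : ℕ} (hcard : Fintype.card F = 2 ^ n) (x : F) : x ^ (2 ^ n) = x := by
  rw [← hcard]
  exact FiniteField.pow_card x

theorem aut_mem_zpowers {n : ℕ} (hcard : Fintype.card F = 2 ^ n) (σ : F ≃+* F) :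
    σ ∈ Subgroup.zpowers (frobE F) := by
  obtain ⟨i, _, hi⟩ := aut_eq_pow hcard σ
  refine ⟨(i : ℤ), ?_⟩
  apply RingEquiv.ext
  intro x
  show ((frobE F) ^ (i : ℤ)) x = σ x
  rw [zpow_natCast, frobE_pow_apply, hi]

theorem card_aut_dvd {n : ℕ} (hcard : Fintype.card F = 2 ^ n) : Nat.card (F ≃+* F) ∣ n := by
  rw [← orderOf_eq_card_of_forall_mem_zpowers (aut_mem_zpowers hcard)]
  apply orderOf_dvd_of_pow_eq_one
  apply RingEquiv.ext
  intro x
  rw [frobE_pow_apply, pow_card_two hcard]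
  rfl

end fieldfacts

variable {P : Type u} [Group P] {Y : Subgroup (MulAut P)}

section coo

variable {F : Type} [Field F] [Fintype F] [CharP F 2] (co : SCoo P Y F)

theorem SCoo.map_one : co.ι 1 = 0 := by
  have h1 := co.add 1 (Om P).one_mem 1 (Om P).one_mem
  rw [mul_one] at h1
  have h3 : co.ι 1 + co.ι 1 = co.ι 1 + 0 := by rw [add_zero]; exact h1.symm
  exact add_left_cancel h3

theorem SCoo.inj' {z z' : P} (hz : z ∈ Om P) (hz' : z' ∈ Om P)
    (he : co.ι z = co.ι z') : z = z' := by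
  have h1 : co.ι (z * z') = 0 := by
    rw [co.add z hz z' hz', he]
    exact CharTwo.add_self_eq_zero _
  have h2 := co.inj (z * z') ((Om P).mul_mem hz hz') h1
  have h3 : z' * z' = 1 := hz'.2
  calc z = z * z' * z'⁻¹ := by group
    _ = z'⁻¹ := by rw [h2, one_mul]
    _ = z' := inv_eq_of_mul_eq_one_left h3

theorem SCoo.act_eq {k k' : MulAut P} (hk : k ∈ Y) (hk' : k' ∈ Y)
    (he : ∀ z ∈ Om P, k z = k' z) : co.κ k = co.κ k' ∧ co.τ k = co.τ k' := by
  have h1 : ∀ u : F, co.κ k * co.τ k u = co.κ k' * co.τ k' u := by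
    intro u
    obtain ⟨z, hz, hzu⟩ := co.surj u
    rw [← hzu, ← co.act k hk z hz, ← co.act k' hk' z hz, he z hz]
  have h2 : co.κ k = co.κ k' := by
    have := h1 1
    rwa [(co.τ k).map_one, (co.τ k').map_one, mul_one, mul_one] at this
  refine ⟨h2, ?_⟩
  apply RingEquiv.ext
  intro u
  have h3 := h1 u
  rw [h2] at h3
  exact mul_left_cancel₀ (co.kne k' hk') h3

theorem SCoo.kappa_tau_mul {k k' : MulAut P} (hk : k ∈ Y) (hk' : k' ∈ Y) :
    co.κ (k * k') = co.κ k * co.τ k (co.κ k') ∧ co.τ (k * k') = co.τ k * co.τ k' := by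
  have hkk : k * k' ∈ Y := Y.mul_mem hk hk'
  have h1 : ∀ u : F, co.κ (k * k') * co.τ (k * k') u =
      co.κ k * co.τ k (co.κ k') * (co.τ k * co.τ k') u := by
    intro u
    obtain ⟨z, hz, hzu⟩ := co.surj u
    rw [← hzu, ← co.act (k * k') hkk z hz, MulAut.mul_apply, co.act k hk (k' z) (map_Om k' hz),
      co.act k' hk' z hz, map_mul, RingAut.mul_apply, mul_assoc]
  have h2 : co.κ (k * k') = co.κ k * co.τ k (co.κ k') := by
    have := h1 1
    rwa [(co.τ (k * k')).map_one, (co.τ k * co.τ k').map_one, mul_one, mul_one] at this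
  refine ⟨h2, ?_⟩
  apply RingEquiv.ext
  intro u
  have h3 := h1 u
  rw [h2] at h3
  have hne : co.κ k * co.τ k (co.κ k') ≠ 0 :=
    mul_ne_zero (co.kne k hk) ((map_ne_zero (co.τ k)).mpr (co.kne k' hk'))
  exact mul_left_cancel₀ hne h3

theorem SCoo.kappa_mul {k k' : MulAut P} (hk : k ∈ Y) (hk' : k' ∈ Y) :
    co.κ (k * k') = co.κ k * co.τ k (co.κ k') := (co.kappa_tau_mul hk hk').1

theorem SCoo.tau_mul {k k' : MulAut P} (hk : k ∈ Y) (hk' : k' ∈ Y) :
    co.τ (k * k') = co.τ k * co.τ k' := (co.kappa_tau_mul hk hk').2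

theorem SCoo.kappa_one : co.κ 1 = 1 := by
  have h := co.kappa_mul Y.one_mem Y.one_mem
  rw [mul_one] at h
  have h2 : co.τ (1 : MulAut P) = 1 := by
    have h3 := co.tau_mul Y.one_mem Y.one_mem
    rw [mul_one] at h3
    have h4 : co.τ (1 : MulAut P) * 1 = co.τ 1 * co.τ 1 := by rw [mul_one]; exact h3
    exact (mul_left_cancel h4).symm
  rw [h2, RingAut.one_apply] at h
  have h5 : co.κ (1 : MulAut P) * 1 = co.κ 1 * co.κ 1 := by rw [mul_one]; exact h
  exact (mul_left_cancel₀ (co.kne 1 Y.one_mem) h5).symm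

theorem SCoo.tau_one : co.τ (1 : MulAut P) = 1 := by
  have h3 := co.tau_mul Y.one_mem Y.one_mem
  rw [mul_one] at h3
  have h4 : co.τ (1 : MulAut P) * 1 = co.τ 1 * co.τ 1 := by rw [mul_one]; exact h3
  exact (mul_left_cancel h4).symm

theorem SCoo.tau_inv {k : MulAut P} (hk : k ∈ Y) : co.τ k⁻¹ = (co.τ k)⁻¹ := by
  have h := co.tau_mul (Y.inv_mem hk) hk
  rw [inv_mul_cancel, co.tau_one] at h
  exact eq_inv_of_mul_eq_one_left h.symm

theorem SCoo.kappa_inv {k : MulAut P} (hk : k ∈ Y) :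
    co.κ k⁻¹ = ((co.τ k)⁻¹ (co.κ k))⁻¹ := by
  have h := co.kappa_mul (Y.inv_mem hk) hk
  rw [inv_mul_cancel, co.kappa_one, co.tau_inv hk] at h
  exact eq_inv_of_mul_eq_one_left h.symm

/-- the field has more than two elements -/
theorem SCoo.exists_ne (co : SCoo P Y F) (h : SH P Y) : ∃ a : F, a * a ≠ a := by
  obtain ⟨x, y, hxy, hx1, hx2, hy1, hy2⟩ := h.two
  have hxO : x ∈ Om P := h.mem_Om_iff.mpr hx2
  have hyO : y ∈ Om P := h.mem_Om_iff.mpr hy2
  have hx0 : co.ι x ≠ 0 := fun h0 => hx1 (co.inj x hxO h0)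
  have hy0 : co.ι y ≠ 0 := fun h0 => hy1 (co.inj y hyO h0)
  have hne : co.ι x ≠ co.ι y := fun he => hxy (co.inj' hxO hyO he)
  by_cases h1 : co.ι x = 1
  · refine ⟨co.ι y, fun h2 => ?_⟩
    have h3 : co.ι y * (co.ι y - 1) = 0 := by linear_combination h2
    rcases mul_eq_zero.mp h3 with h4 | h4
    · exact hy0 h4
    · exact hne (h1.trans (sub_eq_zero.mp h4).symm)
  · refine ⟨co.ι x, fun h2 => ?_⟩
    have h3 : co.ι x * (co.ι x - 1) = 0 := by linear_combination h2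
    rcases mul_eq_zero.mp h3 with h4 | h4
    · exact hx0 h4
    · exact h1 (sub_eq_zero.mp h4)

/-- the group of multipliers of the linear elements of `Y` -/
def SCoo.M : Subgroup Fˣ where
  carrier := {u | ∃ k ∈ Y, co.τ k = 1 ∧ co.κ k = (u : F)}
  one_mem' := ⟨1, Y.one_mem, co.tau_one, by rw [co.kappa_one]; rfl⟩
  mul_mem' := by
    rintro u u' ⟨k, hk, hkt, hku⟩ ⟨k', hk', hkt', hku'⟩
    refine ⟨k * k', Y.mul_mem hk hk', ?_, ?_⟩
    · rw [co.tau_mul hk hk', hkt, hkt', one_mul]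
    · rw [co.kappa_mul hk hk', hkt, RingAut.one_apply, hku, hku', Units.val_mul]
  inv_mem' := by
    rintro u ⟨k, hk, hkt, hku⟩
    refine ⟨k⁻¹, Y.inv_mem hk, ?_, ?_⟩
    · rw [co.tau_inv hk, hkt, inv_one]
    · rw [co.kappa_inv hk, hkt, inv_one, RingAut.one_apply, hku, Units.val_inv_eq_inv_val]

theorem SCoo.mem_M {u : Fˣ} : u ∈ co.M ↔ ∃ k ∈ Y, co.τ k = 1 ∧ co.κ k = (u : F) := Iff.rfl

end coo

section index

variable {F : Type} [Field F] [Fintype F] [CharP F 2] [Fintype (F ≃+* F)] (co : SCoo P Y F)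

/-- apply an automorphism to a unit -/
def uAp (σ : F ≃+* F) (u : Fˣ) : Fˣ := Units.mk0 (σ u) ((map_ne_zero σ).mpr u.ne_zero)

theorem uAp_val (σ : F ≃+* F) (u : Fˣ) : ((uAp σ u : Fˣ) : F) = σ u := rfl

theorem uAp_mul (σ : F ≃+* F) (u v : Fˣ) : uAp σ (u * v) = uAp σ u * uAp σ v := by
  apply Units.ext
  rw [Units.val_mul, uAp_val, uAp_val, uAp_val, Units.val_mul, map_mul]

theorem uAp_inv (σ : F ≃+* F) (u : Fˣ) : uAp σ u⁻¹ = (uAp σ u)⁻¹ := by
  apply Units.ext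
  rw [Units.val_inv_eq_inv_val, uAp_val, uAp_val, Units.val_inv_eq_inv_val, map_inv₀]

theorem uAp_uAp (σ σ' : F ≃+* F) (u : Fˣ) : uAp σ (uAp σ' u) = uAp (σ * σ') u := by
  apply Units.ext
  rw [uAp_val, uAp_val, uAp_val, RingAut.mul_apply]

theorem uAp_one (u : Fˣ) : uAp (1 : F ≃+* F) u = u := by
  apply Units.ext
  rw [uAp_val, RingAut.one_apply]

/-- the multiplier as a unit -/
def SCoo.uK (k : ↥Y) : Fˣ := Units.mk0 (co.κ k) (co.kne k k.2)

theorem SCoo.uK_val (k : ↥Y) : ((co.uK k : Fˣ) : F) = co.κ k := rfl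

theorem SCoo.uK_mul (k k' : ↥Y) : co.uK (k * k') = co.uK k * uAp (co.τ k) (co.uK k') := by
  apply Units.ext
  rw [Units.val_mul, uAp_val, co.uK_val, co.uK_val, co.uK_val]
  exact co.kappa_mul k.2 k'.2

theorem SCoo.uK_one : co.uK 1 = 1 := by
  apply Units.ext
  rw [co.uK_val]
  exact co.kappa_one

theorem SCoo.uK_inv (k : ↥Y) : co.uK k⁻¹ = (uAp (co.τ k)⁻¹ (co.uK k))⁻¹ := by
  apply Units.ext
  rw [Units.val_inv_eq_inv_val, uAp_val, co.uK_val, co.uK_val]
  exact co.kappa_inv k.2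

theorem SCoo.M_stable {n : ℕ} (hcard : Fintype.card F = 2 ^ n) (σ : F ≃+* F) {u : Fˣ}
    (hu : u ∈ co.M) : uAp σ u ∈ co.M := by
  obtain ⟨i, _, hi⟩ := aut_eq_pow hcard σ
  have h1 : uAp σ u = u ^ (2 ^ i) := by
    apply Units.ext
    rw [uAp_val, hi, Units.val_pow_eq_pow_val]
  rw [h1]
  exact co.M.pow_mem hu _

theorem SCoo.M_stable_iff {n : ℕ} (hcard : Fintype.card F = 2 ^ n) (σ : F ≃+* F) {u : Fˣ} :
    uAp σ u ∈ co.M ↔ u ∈ co.M := by
  refine ⟨fun h => ?_, co.M_stable hcard σ⟩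
  have h1 := co.M_stable hcard σ⁻¹ h
  rwa [uAp_uAp, inv_mul_cancel, uAp_one] at h1

/-- the elements of `Y` whose multiplier lies in `M` -/
def SCoo.YM {n : ℕ} (hcard : Fintype.card F = 2 ^ n) : Subgroup ↥Y where
  carrier := {k | co.uK k ∈ co.M}
  one_mem' := by
    show co.uK 1 ∈ co.M
    rw [co.uK_one]
    exact co.M.one_mem
  mul_mem' := by
    intro k k' hk hk'
    show co.uK (k * k') ∈ co.M
    rw [co.uK_mul]
    exact co.M.mul_mem hk (co.M_stable hcard _ hk')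
  inv_mem' := by
    intro k hk
    show co.uK k⁻¹ ∈ co.M
    rw [co.uK_inv]
    exact co.M.inv_mem (co.M_stable hcard _ hk)

theorem SCoo.mem_YM {n : ℕ} (hcard : Fintype.card F = 2 ^ n) (k : ↥Y) :
    k ∈ co.YM hcard ↔ co.uK k ∈ co.M := Iff.rfl

theorem SCoo.rel_iff {n : ℕ} (hcard : Fintype.card F = 2 ^ n) (k₁ k₂ : ↥Y) :
    k₁⁻¹ * k₂ ∈ co.YM hcard ↔ (co.uK k₁)⁻¹ * co.uK k₂ ∈ co.M := by
  rw [co.mem_YM, co.uK_mul, co.uK_inv]
  have h1 : co.τ ((k₁⁻¹ : ↥Y) : MulAut P) = (co.τ k₁)⁻¹ := co.tau_inv k₁.2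
  rw [h1, ← uAp_inv, ← uAp_mul, co.M_stable_iff hcard]

/-- the homomorphism `τ` -/
def SCoo.T : ↥Y →* (F ≃+* F) :=
  MonoidHom.mk' (fun k => co.τ k) (fun k k' => co.tau_mul k.2 k'.2)

theorem SCoo.T_apply (k : ↥Y) : co.T k = co.τ k := rfl

theorem SCoo.ker_le {n : ℕ} (hcard : Fintype.card F = 2 ^ n) : co.T.ker ≤ co.YM hcard := by
  intro k hk
  rw [MonoidHom.mem_ker, co.T_apply] at hk
  exact ⟨k, k.2, hk, rfl⟩

theorem SCoo.index_eq {n : ℕ} (hcard : Fintype.card F = 2 ^ n) :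
    (co.YM hcard).index = co.M.index := by
  rw [Subgroup.index_eq_card, Subgroup.index_eq_card]
  let f : ↥Y ⧸ co.YM hcard → Fˣ ⧸ co.M :=
    Quotient.map' (fun k => co.uK k) (by
      intro k₁ k₂ h12
      rw [QuotientGroup.leftRel_apply] at h12 ⊢
      exact (co.rel_iff hcard k₁ k₂).mp h12)
  apply Nat.card_congr
  refine Equiv.ofBijective f ⟨?_, ?_⟩
  · intro a b
    induction a using Quotient.inductionOn' with
    | _ k₁ =>
      induction b using Quotient.inductionOn' with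
      | _ k₂ =>
        intro hab
        have h1 : (Quotient.mk'' (co.uK k₁) : Fˣ ⧸ co.M) = Quotient.mk'' (co.uK k₂) := hab
        rw [Quotient.eq''] at h1 ⊢
        rw [QuotientGroup.leftRel_apply] at h1 ⊢
        exact (co.rel_iff hcard k₁ k₂).mpr h1
  · intro b
    induction b using Quotient.inductionOn' with
    | _ u =>
      obtain ⟨k, hk, hku⟩ := co.ksurj (u : F) u.ne_zero
      refine ⟨Quotient.mk'' ⟨k, hk⟩, ?_⟩
      show (Quotient.mk'' (co.uK ⟨k, hk⟩) : Fˣ ⧸ co.M) = Quotient.mk'' u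
      congr 1
      apply Units.ext
      rw [co.uK_val]
      exact hku

/-- the index data of the multiplier group -/
theorem SCoo.index_data (h : SH P Y) : ∃ n e : ℕ, Fintype.card F = 2 ^ n ∧ 2 ≤ n ∧ e ∣ n ∧
    ∀ b : Fˣ, b ^ e ∈ co.M := by
  obtain ⟨n, -, hcard⟩ := FiniteField.card F 2
  have hn2 : 2 ≤ (n : ℕ) := by
    by_contra hlt
    have h1 : (n : ℕ) = 1 := by
      have := n.pos
      omega
    obtain ⟨a, ha⟩ := co.exists_ne h
    apply ha
    have h2 := pow_card_two hcard a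
    rw [h1, pow_one, pow_two] at h2
    exact h2
  refine ⟨n, co.M.index, hcard, hn2, ?_, fun b => Subgroup.pow_index_mem co.M b⟩
  rw [← co.index_eq hcard]
  have h1 : (co.YM hcard).index ∣ co.T.ker.index := Subgroup.index_dvd_of_le (co.ker_le hcard)
  have h2 : co.T.ker.index = Nat.card co.T.range := Subgroup.index_ker co.T
  have h3 : Nat.card co.T.range ∣ Nat.card (F ≃+* F) := Subgroup.card_subgroup_dvd_card _
  exact h1.trans (h2 ▸ h3.trans (card_aut_dvd hcard))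

end index

end Cfsg.Agent.Lib.Helper3.Sz
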