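import Mathlib
import Cfsg.Agent.Lib.Helper3.Sz0
import Cfsg.Agent.Lib.Helper5.SzFq
import Cfsg.Agent.Lib.Helper6.SzProj2
import Cfsg.Agent.Lib.Helper7.SzCoo
import Cfsg.Agent.Lib.Helper7.SzKb2

set_option autoImplicit false

/-!
# The farmed-out pieces for 2-groups with a solvable transitive group of automorphisms

Re-exports of lemmas proved by helper5 (arithmetic and field lemmas), helper6 (the projector) and
helper7 (semilinear coordinates, vanishing of equivariant alternating forms).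
-/

namespace Cfsg.Agent.Lib.Helper3.SzAx
open Cfsg.Agent.Lib.Lead.Sz2D Cfsg.Agent.Lib.Helper3.Sz

section fld
variable {F : Type*} [Field F] [Fintype F] [CharP F 2]

theorem kbeta (n e : ℕ) (hcard : Fintype.card F = 2 ^ n) (hn : 2 ≤ n) (he : e ∣ n)
    (M : Subgroup Fˣ) (hM : ∀ b : Fˣ, b ^ e ∈ M)
    (B : F →+ F →+ F) (halt : ∀ x, B x x = 0)
    (heq : ∀ a ∈ M, ∀ x y : F, B (((a : Fˣ) : F) * x) (((a : Fˣ) : F) * y) =
      ((a : Fˣ) : F) * B x y) : ∀ x y, B x y = 0 :=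
  Cfsg.Agent.Lib.Helper7.SzKb2.kbeta n e hcard hn he M hM B halt heq

theorem field_of_quot (ρ : F ≃+* F) (hρ : ρ ≠ 1) (L : AddSubgroup F)
    (hL : ∀ c : F, c ∈ L ↔ c = 0 ∨ ∃ u : F, u ≠ 0 ∧ c = u / ρ u) : ∀ c : F, c ∈ L :=
  Cfsg.Agent.Lib.Helper5.SzFq.field_of_quot ρ hρ L hL

theorem projector {X : Type*} [Group X] (n e : ℕ) (hcard : Fintype.card F = 2 ^ n) (hn : 2 ≤ n)
    (he : e ∣ n) (M : Subgroup Fˣ) (hM : ∀ b : Fˣ, b ^ e ∈ M)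
    (c : (F ≃+* F) → X → F) (hc : ∀ ρ x x', c ρ (x * x') = c ρ x + c ρ x')
    (act : Fˣ → X → X)
    (hact : ∀ a ∈ M, ∀ ρ x, c ρ (act a x) = (((a : Fˣ) : F) / ρ ((a : Fˣ) : F)) * c ρ x)
    (x₀ : X) (ρ₀ : F ≃+* F) (h0 : c ρ₀ x₀ ≠ 0) :
    ∃ x : X, c ρ₀ x ≠ 0 ∧ ∀ ρ, ρ ≠ ρ₀ → c ρ x = 0 :=
  Cfsg.Agent.Lib.Helper6.SzProj.projector n e hcard hn he M hM c hc act hact x₀ ρ₀ h0

end fld

universe u

theorem exists_scoo {P : Type u} [Group P] {Y : Subgroup (MulAut P)} (h : SH P Y) :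
    ∃ (F : Type) (_ : Field F) (_ : Fintype F) (_ : CharP F 2), Nonempty (SCoo P Y F) :=
  Cfsg.Agent.Lib.Helper7.SzCoo.exists_scoo h

end Cfsg.Agent.Lib.Helper3.SzAx
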