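import Mathlib
import Cfsg.Agent.Lib.Helper3.Sz2
import Cfsg.Agent.Lib.Helper3.SzAx

set_option autoImplicit false
set_option maxHeartbeats 4000000
set_option maxRecDepth 100000
set_option linter.unusedVariables false
set_option linter.unusedSectionVars false
set_option linter.style.longLine false
set_option linter.style.haveILetI false
set_option linter.deprecated false

/-!
# The centre of a nonabelian 2-group with a solvable transitive group of automorphisms

Adaptation of the argument of `Lib/Lead/Sz2D2.lean`: the last step uses semilinear coordinates.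
-/

namespace Cfsg.Agent.Lib.Helper3.Sz

open Cfsg.Agent.Lib.Lead.Sz2D Cfsg.Agent.Lib.Helper1.Hg

universe u

variable {P : Type u} [Group P] {Y : Subgroup (MulAut P)}

namespace SH


theorem sq_surj (h : SH P Y) (a₀ : P) (ha₀c : a₀ ∈ Subgroup.center P) (ha₀ : a₀ * a₀ ≠ 1) :
    ∀ z ∈ Om P, ∃ a ∈ Subgroup.center P, a * a = z := by
  classical
  have hex : ∃ j, a₀ ^ (2 ^ j) = 1 := h.pg a₀
  obtain ⟨j, hj, hmin⟩ : ∃ j, a₀ ^ (2 ^ j) = 1 ∧ ∀ m < j, a₀ ^ (2 ^ m) ≠ 1 :=
    ⟨Nat.find hex, Nat.find_spec hex, fun m hm => Nat.find_min hex hm⟩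
  cases j with
  | zero =>
    rw [pow_zero, pow_one] at hj
    rw [hj, mul_one] at ha₀
    exact absurd rfl ha₀
  | succ j =>
    cases j with
    | zero =>
      rw [zero_add, pow_one, pow_two] at hj
      exact absurd hj ha₀
    | succ i =>
      let b := a₀ ^ (2 ^ i)
      have hbc : b ∈ Subgroup.center P := Subgroup.pow_mem _ ha₀c _
      have hbb : b * b = a₀ ^ (2 ^ (i + 1)) := by
        show a₀ ^ (2 ^ i) * a₀ ^ (2 ^ i) = _
        rw [← pow_add]
        congr 1
        ring
      have hb2 : b * b ≠ 1 := by
        rw [hbb]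
        exact hmin (i + 1) (by omega)
      have hb4 : (b * b) * (b * b) = 1 := by
        rw [hbb, ← pow_add]
        have h2 : 2 ^ (i + 1) + 2 ^ (i + 1) = 2 ^ (i + 1 + 1) := by ring
        rw [h2]
        exact hj
      let S : Subgroup P :=
        { carrier := {z | z ∈ Om P ∧ ∃ a ∈ Subgroup.center P, a * a = z}
          mul_mem' := by
            rintro z z' ⟨hz, a, hac, rfl⟩ ⟨hz', a', ha'c, rfl⟩
            refine ⟨(Om P).mul_mem hz hz', a * a', (Subgroup.center P).mul_mem hac ha'c, ?_⟩
            have hc : a' * a = a * a' := Subgroup.mem_center_iff.mp hac a'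
            calc a * a' * (a * a') = a * (a' * a) * a' := by group
              _ = a * (a * a') * a' := by rw [hc]
              _ = a * a * (a' * a') := by group
          one_mem' := ⟨(Om P).one_mem, 1, (Subgroup.center P).one_mem, one_mul 1⟩
          inv_mem' := by
            rintro z ⟨hz, a, hac, rfl⟩
            exact ⟨(Om P).inv_mem hz, a⁻¹, (Subgroup.center P).inv_mem hac,
              (mul_inv_rev a a).symm⟩ }
      have hS : Om P ≤ S := by
        apply h.Om_le S
          ⟨b * b, ⟨⟨(Subgroup.center P).mul_mem hbc hbc, hb4⟩, b, hbc, rfl⟩, hb2⟩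
        · intro z hz
          exact hz.1
        · rintro k hk z ⟨hz, a, hac, rfl⟩
          exact ⟨map_Om k hz, k a, map_center k hac, (map_mul k a a).symm⟩
      intro z hz
      exact (hS hz).2

theorem center_of_sq (h : SH P Y)
    (hF2 : ∀ z ∈ Om P, ∃ a ∈ Subgroup.center P, a * a = z) :
    ∀ x : P, x * x ∈ Om P → x ∈ Subgroup.center P := by
  intro x hx
  obtain ⟨a, hac, haz⟩ := hF2 _ hx
  have hai : a⁻¹ ∈ Subgroup.center P := (Subgroup.center P).inv_mem hac
  have hc : x * a⁻¹ = a⁻¹ * x := Subgroup.mem_center_iff.mp hai x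
  have h1 : (x * a⁻¹) * (x * a⁻¹) = 1 := by
    calc x * a⁻¹ * (x * a⁻¹) = x * (a⁻¹ * x) * a⁻¹ := by group
      _ = x * (x * a⁻¹) * a⁻¹ := by rw [hc]
      _ = x * x * (a * a)⁻¹ := by group
      _ = 1 := by rw [haz, mul_inv_cancel]
  have h2 := h.inv_central h1
  have h3 : x = x * a⁻¹ * a := by group
  rw [h3]
  exact (Subgroup.center P).mul_mem h2 hac

theorem abelian_of_class_two (h : SH P Y) (a₀ : P) (ha₀c : a₀ ∈ Subgroup.center P)
    (ha₀ : a₀ * a₀ ≠ 1) (hcl : ∀ x y : P, cm x y ∈ Om P) : ∀ x y : P, x * y = y * x := by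
  classical
  haveI := h.fin
  have hclc : ∀ x y : P, cm x y ∈ Subgroup.center P := fun x y => (hcl x y).1
  have hexp : ∃ m, ∀ a ∈ Subgroup.center P, a ^ (2 ^ m) = 1 := by
    obtain ⟨m, hm⟩ := (IsPGroup.iff_card (p := 2)).mp h.pg
    exact ⟨m, fun a _ => by rw [← hm]; exact pow_card_eq_one'⟩
  obtain ⟨kk, hkk, hmin⟩ : ∃ kk, (∀ a ∈ Subgroup.center P, a ^ (2 ^ kk) = 1) ∧
      ∀ m < kk, ¬ ∀ a ∈ Subgroup.center P, a ^ (2 ^ m) = 1 :=
    ⟨Nat.find hexp, Nat.find_spec hexp, fun m hm => Nat.find_min hexp hm⟩
  cases kk with
  | zero =>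
    exfalso
    have h1 := hkk a₀ ha₀c
    rw [pow_zero, pow_one] at h1
    rw [h1, mul_one] at ha₀
    exact ha₀ rfl
  | succ j =>
    cases j with
    | zero =>
      exfalso
      have h1 := hkk a₀ ha₀c
      rw [zero_add, pow_one, pow_two] at h1
      exact ha₀ h1
    | succ j0 =>
      have hmin' : ¬ ∀ a ∈ Subgroup.center P, a ^ (2 ^ (j0 + 1)) = 1 :=
        hmin (j0 + 1) (Nat.lt_succ_self _)
      push Not at hmin'
      obtain ⟨a₁, ha₁c, ha₁⟩ := hmin'
      let T : Subgroup P :=
        { carrier := {z | ∃ d ∈ Subgroup.center P, d ^ (2 ^ (j0 + 1)) = z}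
          mul_mem' := by
            rintro z z' ⟨d, hd, rfl⟩ ⟨d', hd', rfl⟩
            refine ⟨d * d', (Subgroup.center P).mul_mem hd hd', ?_⟩
            have hcomm : Commute d d' := Subgroup.mem_center_iff.mp hd' d
            exact hcomm.mul_pow _
          one_mem' := ⟨1, (Subgroup.center P).one_mem, one_pow _⟩
          inv_mem' := by
            rintro z ⟨d, hd, rfl⟩
            exact ⟨d⁻¹, (Subgroup.center P).inv_mem hd, inv_pow d _⟩ }
      have hT : Om P ≤ T := by
        apply h.Om_le T ⟨a₁ ^ (2 ^ (j0 + 1)), ⟨a₁, ha₁c, rfl⟩, ha₁⟩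
        · rintro z ⟨d, hd, rfl⟩
          refine ⟨Subgroup.pow_mem _ hd _, ?_⟩
          rw [← pow_add]
          have h2 : 2 ^ (j0 + 1) + 2 ^ (j0 + 1) = 2 ^ (j0 + 1 + 1) := by ring
          rw [h2]
          exact hkk d hd
        · rintro k hk z ⟨d, hd, rfl⟩
          exact ⟨k d, map_center k hd, (map_pow k d _).symm⟩
      have hdiv : ∀ i, i ≤ j0 + 1 → ∀ a ∈ Subgroup.center P, a ^ (2 ^ i) = 1 →
          ∃ b ∈ Subgroup.center P, b * b = a := by
        intro i
        induction i with
        | zero =>
          intro _ a _ ha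
          rw [pow_zero, pow_one] at ha
          exact ⟨1, (Subgroup.center P).one_mem, by rw [ha, mul_one]⟩
        | succ i ih =>
          intro hi a hac ha
          have hz : a ^ (2 ^ i) ∈ Om P := by
            refine ⟨Subgroup.pow_mem _ hac _, ?_⟩
            rw [← pow_add]
            have h2 : 2 ^ i + 2 ^ i = 2 ^ (i + 1) := by ring
            rw [h2]
            exact ha
          obtain ⟨d, hdc, hdz⟩ := hT hz
          obtain ⟨t, ht⟩ := Nat.exists_eq_add_of_le hi
          let f := d ^ (2 ^ t)
          let e := d ^ (2 ^ (t + 1))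
          have hfc : f ∈ Subgroup.center P := Subgroup.pow_mem _ hdc _
          have hec : e ∈ Subgroup.center P := Subgroup.pow_mem _ hdc _
          have hef : f * f = e := by
            show d ^ (2 ^ t) * d ^ (2 ^ t) = d ^ (2 ^ (t + 1))
            rw [← pow_add]
            congr 1
            ring
          have he : e ^ (2 ^ i) = a ^ (2 ^ i) := by
            show (d ^ (2 ^ (t + 1))) ^ (2 ^ i) = a ^ (2 ^ i)
            rw [← pow_mul, ← hdz]
            congr 1
            rw [← pow_add, ht]
            congr 1
            omega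
          have heic : e⁻¹ ∈ Subgroup.center P := (Subgroup.center P).inv_mem hec
          have hcomm : Commute a e⁻¹ := Subgroup.mem_center_iff.mp heic a
          have h1 : (a * e⁻¹) ^ (2 ^ i) = 1 := by
            rw [hcomm.mul_pow, inv_pow, he, mul_inv_cancel]
          obtain ⟨b, hbc, hb⟩ :=
            ih (by omega) (a * e⁻¹) ((Subgroup.center P).mul_mem hac heic) h1
          refine ⟨b * f, (Subgroup.center P).mul_mem hbc hfc, ?_⟩
          have hc2 : f * b = b * f := Subgroup.mem_center_iff.mp hbc f
          calc b * f * (b * f) = b * (f * b) * f := by group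
            _ = b * (b * f) * f := by rw [hc2]
            _ = b * b * (f * f) := by group
            _ = a * e⁻¹ * e := by rw [hb, hef]
            _ = a := by group
      have hx2 : ∀ x : P, x * x ∈ Subgroup.center P := by
        intro x
        rw [Subgroup.mem_center_iff]
        intro g
        have hc := hcl x g
        have e1 : x * g = g * x * cm x g := mul_eq_cm x g
        have hcx : cm x g * x = x * cm x g := (Subgroup.mem_center_iff.mp hc.1 x).symm
        calc g * (x * x) = g * (x * x) * (cm x g * cm x g) := by rw [hc.2, mul_one]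
          _ = g * x * (x * cm x g) * cm x g := by group
          _ = g * x * (cm x g * x) * cm x g := by rw [hcx]
          _ = (g * x * cm x g) * x * cm x g := by group
          _ = (x * g) * x * cm x g := by rw [← e1]
          _ = x * (g * x * cm x g) := by group
          _ = x * (x * g) := by rw [← e1]
          _ = x * x * g := by group
      let pi : P → P := fun x => (x * x) ^ (2 ^ (j0 + 1))
      have hpidef : ∀ x, pi x = (x * x) ^ (2 ^ (j0 + 1)) := fun _ => rfl
      have hpiO : ∀ x, pi x ∈ Om P := by
        intro x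
        refine ⟨Subgroup.pow_mem _ (hx2 x) _, ?_⟩
        rw [hpidef, ← pow_add]
        have h2 : 2 ^ (j0 + 1) + 2 ^ (j0 + 1) = 2 ^ (j0 + 1 + 1) := by ring
        rw [h2]
        exact hkk _ (hx2 x)
      have hpimul : ∀ x y, pi (x * y) = pi x * pi y := by
        intro x y
        have hc := hcl y x
        have e1 : y * x = x * y * cm y x := mul_eq_cm y x
        have hcy : cm y x * y = y * cm y x := (Subgroup.mem_center_iff.mp hc.1 y).symm
        have e2 : x * y * (x * y) = (x * x) * (y * y) * cm y x := by
          calc x * y * (x * y) = x * (y * x) * y := by group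
            _ = x * (x * y * cm y x) * y := by rw [← e1]
            _ = x * x * y * (cm y x * y) := by group
            _ = x * x * y * (y * cm y x) := by rw [hcy]
            _ = (x * x) * (y * y) * cm y x := by group
        have hcomm1 : Commute ((x * x) * (y * y)) (cm y x) :=
          Subgroup.mem_center_iff.mp hc.1 _
        have hcomm2 : Commute (x * x) (y * y) := Subgroup.mem_center_iff.mp (hx2 y) _
        have hcpow : (cm y x) ^ (2 ^ (j0 + 1)) = 1 := by
          rw [pow_succ', pow_mul, pow_two, hc.2, one_pow]
        rw [hpidef, hpidef, hpidef, e2, hcomm1.mul_pow, hcomm2.mul_pow, hcpow, mul_one]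
      have hpik : ∀ (k : MulAut P) (x : P), k (pi x) = pi (k x) := by
        intro k x
        rw [hpidef, hpidef, map_pow, map_mul]
      have hpiker : ∀ x, pi x = 1 → x ∈ Subgroup.center P := by
        intro x hx
        obtain ⟨b, hbc, hb⟩ := hdiv (j0 + 1) le_rfl (x * x) (hx2 x) hx
        have hbi : b⁻¹ ∈ Subgroup.center P := (Subgroup.center P).inv_mem hbc
        have hc : x * b⁻¹ = b⁻¹ * x := Subgroup.mem_center_iff.mp hbi x
        have h1 : (x * b⁻¹) * (x * b⁻¹) = 1 := by
          calc x * b⁻¹ * (x * b⁻¹) = x * (b⁻¹ * x) * b⁻¹ := by group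
            _ = x * (x * b⁻¹) * b⁻¹ := by rw [hc]
            _ = x * x * (b * b)⁻¹ := by group
            _ = 1 := by rw [hb, mul_inv_cancel]
        have h2 := h.inv_central h1
        have h3 : x = x * b⁻¹ * b := by group
        rw [h3]
        exact (Subgroup.center P).mul_mem h2 hbc
      by_cases hpi : ∀ x, pi x = 1
      · intro x y
        exact Subgroup.mem_center_iff.mp (hpiker y (hpi y)) x
      · push Not at hpi
        obtain ⟨x₁, hx₁⟩ := hpi
        have hpi1 : pi 1 = 1 := by rw [hpidef, mul_one, one_pow]
        have hpiinv : ∀ x, pi x⁻¹ = (pi x)⁻¹ := by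
          intro x
          have h1 := hpimul x x⁻¹
          rw [mul_inv_cancel, hpi1] at h1
          exact eq_inv_of_mul_eq_one_right h1.symm
        let T' : Subgroup P :=
          { carrier := {z | ∃ x, pi x = z}
            mul_mem' := by
              rintro z z' ⟨x, rfl⟩ ⟨x', rfl⟩
              exact ⟨x * x', hpimul x x'⟩
            one_mem' := ⟨1, hpi1⟩
            inv_mem' := by
              rintro z ⟨x, rfl⟩
              exact ⟨x⁻¹, hpiinv x⟩ }
        have hT' : Om P ≤ T' := by
          apply h.Om_le T' ⟨pi x₁, ⟨x₁, rfl⟩, hx₁⟩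
          · rintro z ⟨x, rfl⟩
            exact hpiO x
          · rintro k hk z ⟨x, rfl⟩
            exact ⟨k x, (hpik k x).symm⟩
        have hdep1 : ∀ x x' y, pi x = pi x' → cm x y = cm x' y := by
          intro x x' y hxx
          have ha : x⁻¹ * x' ∈ Subgroup.center P := by
            apply hpiker
            rw [hpimul, hpiinv, hxx, inv_mul_cancel]
          have h3 : cm x' y = cm (x * (x⁻¹ * x')) y := by
            congr 1
            group
          rw [h3, cm_mul_left hclc, cm_central_left ha, mul_one]
        have hdep2 : ∀ x y y', pi y = pi y' → cm x y = cm x y' := by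
          intro x y y' hyy
          rw [cm_inv y x, cm_inv y' x, hdep1 y y' x hyy]
        obtain ⟨F, iF, iFt, iC, ⟨co⟩⟩ := SzAx.exists_scoo h
        haveI := Cfsg.Agent.Lib.Lead.Sz2B.finite_aut (F := F)
        letI : Fintype (F ≃+* F) := Fintype.ofFinite _
        obtain ⟨n, e, hcard, hn2, hen, hM⟩ := co.index_data h
        have hsurj : ∀ a : F, ∃ x, co.ι (pi x) = a := by
          intro a
          obtain ⟨z, hz, hza⟩ := co.surj a
          obtain ⟨x, hx⟩ := hT' hz
          refine ⟨x, ?_⟩
          rw [hx, hza]
        choose G hG using hsurj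
        have hdep1' : ∀ x x' y, co.ι (pi x) = co.ι (pi x') → cm x y = cm x' y :=
          fun x x' y hxx => hdep1 x x' y (co.inj' (hpiO x) (hpiO x') hxx)
        have hdep2' : ∀ x y y', co.ι (pi y) = co.ι (pi y') → cm x y = cm x y' :=
          fun x y y' hyy => hdep2 x y y' (co.inj' (hpiO y) (hpiO y') hyy)
        have hGadd : ∀ a a' : F, co.ι (pi (G (a + a'))) = co.ι (pi (G a * G a')) := by
          intro a a'
          rw [hG, hpimul, co.add _ (hpiO _) _ (hpiO _), hG, hG]
        let B : F →+ F →+ F := AddMonoidHom.mk' (fun a : F => AddMonoidHom.mk'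
            (fun a' : F => co.ι (cm (G a) (G a')))
            (by
              intro a' a''
              show co.ι (cm (G a) (G (a' + a''))) = _
              rw [hdep2' _ _ _ (hGadd a' a''), cm_mul_right hclc, co.add _ (hcl _ _) _ (hcl _ _)]))
          (by
            intro a a'
            apply AddMonoidHom.ext
            intro b
            show co.ι (cm (G (a + a')) (G b)) = co.ι (cm (G a) (G b)) + co.ι (cm (G a') (G b))
            rw [hdep1' _ _ _ (hGadd a a'), cm_mul_left hclc, co.add _ (hcl _ _) _ (hcl _ _)])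
        have hB : ∀ a a' : F, B a a' = co.ι (cm (G a) (G a')) := fun _ _ => rfl
        have hzero := SzAx.kbeta n e hcard hn2 hen co.M hM B
          (by
            intro x
            rw [hB, cm_self, co.map_one])
          (by
            rintro a ⟨k, hk, hkt, hka⟩ x y
            rw [hB, hB]
            have h1 : ∀ x : F, co.ι (pi (G (((a : Fˣ) : F) * x))) = co.ι (pi (k (G x))) := by
              intro x
              rw [hG, ← hpik, co.act k hk _ (hpiO _), hkt, RingAut.one_apply, hka, hG]
            rw [hdep1' _ _ _ (h1 x), hdep2' _ _ _ (h1 y), ← map_cm, co.act k hk _ (hcl _ _), hkt,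
              RingAut.one_apply, hka])
        intro x y
        have h1 : cm x y = cm (G (co.ι (pi x))) (G (co.ι (pi y))) := by
          rw [hdep1' x (G (co.ι (pi x))) y (hG _).symm,
            hdep2' _ y (G (co.ι (pi y))) (hG _).symm]
        have h2 : co.ι (cm (G (co.ι (pi x))) (G (co.ι (pi y)))) = 0 := hzero _ _
        have h3 : cm x y = 1 := by
          rw [h1]
          exact co.inj _ (hcl _ _) h2
        rw [mul_eq_cm x y, h3, mul_one]

end SH

/-- a central element of order four forces commutativity -/
theorem main_aux : ∀ (n : ℕ) (P : Type u) [Group P] (Y : Subgroup (MulAut P)),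
    Nat.card P = n → SH P Y → (∃ a ∈ Subgroup.center P, a * a ≠ 1) →
    ∀ x y : P, x * y = y * x := by
  intro n
  induction n using Nat.strong_induction_on with
  | _ n ih =>
    intro P _ Y hn h hex
    obtain ⟨a₀, ha₀c, ha₀⟩ := hex
    haveI := h.fin
    have hF2 := h.sq_surj a₀ ha₀c ha₀
    have hF3 := h.center_of_sq hF2
    have hQ : SH (P ⧸ Om P) (Y.map (qAut P)) := h.quot hF3 hF2
    have hcard : Nat.card (P ⧸ Om P) < n := by
      have h1 := Subgroup.card_eq_card_quotient_mul_card_subgroup (Om P)
      have h2 : 1 < Nat.card (Om P) := by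
        rw [Subgroup.one_lt_card_iff_ne_bot]
        obtain ⟨x, hxO, hx1⟩ := h.Om_ne_bot
        intro hbot
        rw [hbot, Subgroup.mem_bot] at hxO
        exact hx1 hxO
      have h3 : 0 < Nat.card (P ⧸ Om P) := Nat.card_pos
      rw [hn] at h1
      nlinarith
    by_cases hab : ∀ q q' : P ⧸ Om P, q * q' = q' * q
    · apply h.abelian_of_class_two a₀ ha₀c ha₀
      intro x y
      have h1 : ((y * x : P) : P ⧸ Om P) = ((x * y : P) : P ⧸ Om P) :=
        (hab (x : P ⧸ Om P) (y : P ⧸ Om P)).symm
      exact QuotientGroup.eq.mp h1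
    · exfalso
      have hZQ : ∀ u ∈ Subgroup.center (P ⧸ Om P), u * u = 1 := by
        intro u hu
        by_contra hne
        exact hab (ih _ hcard (P ⧸ Om P) (Y.map (qAut P)) rfl hQ ⟨u, hu, hne⟩)
      have hPab : ¬ ∀ x y : P, x * y = y * x := by
        intro hP
        apply hab
        intro q q'
        refine QuotientGroup.induction_on q ?_
        intro x
        refine QuotientGroup.induction_on q' ?_
        intro y
        rw [← QuotientGroup.mk_mul, ← QuotientGroup.mk_mul, hP]
      haveI : Nontrivial (P ⧸ Subgroup.center P) := by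
        by_contra hnt
        rw [not_nontrivial_iff_subsingleton] at hnt
        apply hPab
        intro x y
        have hy : y ∈ Subgroup.center P := by
          have h1 : ((y : P) : P ⧸ Subgroup.center P) = 1 := Subsingleton.elim _ _
          exact (QuotientGroup.eq_one_iff y).mp h1
        exact Subgroup.mem_center_iff.mp hy x
      obtain ⟨ū, hūc, hū1, hū2⟩ :=
        exists_central_involution (P ⧸ Subgroup.center P) (h.pg.to_quotient _)
      obtain ⟨y, rfl⟩ := QuotientGroup.mk_surjective ū
      have hy1 : y ∉ Subgroup.center P := fun hy => hū1 ((QuotientGroup.eq_one_iff y).mpr hy)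
      have hy2 : y * y ∈ Subgroup.center P := by
        rw [← QuotientGroup.mk_mul] at hū2
        exact (QuotientGroup.eq_one_iff _).mp hū2
      have hyc : ∀ g : P, cm y g ∈ Om P := by
        intro g
        have h1 : ((g * y : P) : P ⧸ Subgroup.center P) =
            ((y * g : P) : P ⧸ Subgroup.center P) :=
          Subgroup.mem_center_iff.mp hūc (g : P ⧸ Subgroup.center P)
        have hc : cm y g ∈ Subgroup.center P := QuotientGroup.eq.mp h1
        refine ⟨hc, ?_⟩
        have e1 : y * g = g * y * cm y g := mul_eq_cm y g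
        have hcy : cm y g * y = y * cm y g := (Subgroup.mem_center_iff.mp hc y).symm
        have e2 : y * y * g = g * (y * y) * (cm y g * cm y g) := by
          calc y * y * g = y * (y * g) := by group
            _ = y * (g * y * cm y g) := by rw [← e1]
            _ = (y * g) * y * cm y g := by group
            _ = (g * y * cm y g) * y * cm y g := by rw [← e1]
            _ = g * y * (cm y g * y) * cm y g := by group
            _ = g * y * (y * cm y g) * cm y g := by rw [hcy]
            _ = g * (y * y) * (cm y g * cm y g) := by group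
        have e3 : g * (y * y) = y * y * g := Subgroup.mem_center_iff.mp hy2 g
        rw [← e3] at e2
        have e4 : g * (y * y) * (cm y g * cm y g) = g * (y * y) * 1 := by
          rw [mul_one]
          exact e2.symm
        exact mul_left_cancel e4
      have hyQ : ((y : P) : P ⧸ Om P) ∈ Subgroup.center (P ⧸ Om P) := by
        rw [Subgroup.mem_center_iff]
        intro q
        refine QuotientGroup.induction_on q ?_
        intro g
        rw [← QuotientGroup.mk_mul, ← QuotientGroup.mk_mul]
        exact QuotientGroup.eq.mpr (hyc g)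
      have h5 := hZQ _ hyQ
      rw [← QuotientGroup.mk_mul] at h5
      have h6 : y * y ∈ Om P := (QuotientGroup.eq_one_iff _).mp h5
      exact hy1 (hF3 y h6)


theorem center_main (h : SH P Y)
    (hex : ∃ a ∈ Subgroup.center P, a * a ≠ 1) : ∀ x y : P, x * y = y * x :=
  main_aux _ P Y rfl h hex

/-- (II): in the nonabelian case the centre consists of elements of order at most two -/
theorem center_le_Om (h : SH P Y) (hna : ∃ x y : P, x * y ≠ y * x) :
    ∀ a ∈ Subgroup.center P, a ∈ Om P := by
  intro a ha
  refine ⟨ha, ?_⟩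
  by_contra hne
  obtain ⟨x, y, hxy⟩ := hna
  exact hxy (center_main h ⟨a, ha, hne⟩ x y)

end Cfsg.Agent.Lib.Helper3.Sz
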