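import Mathlib
import Cfsg.Agent.Lib.Helper3.Sz3
import Cfsg.Agent.Lib.Helper1.Hg6

set_option autoImplicit false
set_option maxHeartbeats 4000000
set_option maxRecDepth 100000
set_option linter.unusedVariables false
set_option linter.unusedSectionVars false
set_option linter.style.longLine false
set_option linter.style.haveILetI false
set_option linter.deprecated false

/-!
# Squares: the nonabelian case for `YY P`, and the commutator endomorphisms in semilinear coordinates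
-/

namespace Cfsg.Agent.Lib.Helper3.Sz

open Cfsg.Agent.Lib.Lead.Sz2D Cfsg.Agent.Lib.Helper1.Hg

universe u

variable {P : Type u} [Group P] {Y : Subgroup (MulAut P)}

/-- the centre of a nonabelian invariant subgroup containing `Om P` lies in `Om P` -/
theorem mem_Om_of_central' (h : SH P Y) {H : Subgroup P} (hH : Inv Y H) (hOm : Om P ≤ H)
    (hna : ∃ x ∈ H, ∃ y ∈ H, x * y ≠ y * x) {a : P} (haH : a ∈ H)
    (hac : ∀ x ∈ H, a * x = x * a) : a ∈ Om P := by
  have hs := h.sub hH hOm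
  obtain ⟨x, hx, y, hy, hxy⟩ := hna
  have hna' : ∃ x y : ↥H, x * y ≠ y * x :=
    ⟨⟨x, hx⟩, ⟨y, hy⟩, fun he => hxy (congrArg Subtype.val he)⟩
  have hcen : (⟨a, haH⟩ : ↥H) ∈ Subgroup.center ↥H := by
    rw [Subgroup.mem_center_iff]
    intro g
    apply Subtype.ext
    exact (hac g.1 g.2).symm
  have h1 := center_le_Om hs hna' _ hcen
  have h2 : (⟨a, haH⟩ : ↥H) * ⟨a, haH⟩ = 1 := h1.2
  exact h.mem_Om_iff.mpr (congrArg Subtype.val h2)

theorem exists_YY_not_Om' (h : SH P Y) (hna : ∃ x y : P, x * y ≠ y * x) :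
    ∃ y ∈ YY P, y ∉ Om P := by
  haveI := h.fin
  obtain ⟨w, _, hwN, hw2, hwc⟩ := exists_central_mod h.pg (Om P) ⊤ (exists_not_Om hna)
  exact ⟨w, mem_YY.mpr ⟨hw2, hwc⟩, hwN⟩

/-- Case A: `YY P` nonabelian -/
theorem caseA' (h : SH P Y) (hYna : ∃ a ∈ YY P, ∃ b ∈ YY P, a * b ≠ b * a) :
    ∀ x : P, x * x ∈ Om P := by
  haveI := h.fin
  have hC : CC P ≤ Om P := by
    by_contra hcon
    have hne : ∃ w ∈ CC P, w ∉ Om P := by
      by_contra h2
      push Not at h2
      exact hcon h2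
    haveI : (CC P).Normal := CC_normal
    obtain ⟨w, hwC, hwN, hw2, hwc⟩ := exists_central_mod h.pg (Om P) (CC P) hne
    have hwY : w ∈ YY P := mem_YY.mpr ⟨hw2, hwc⟩
    have hcen : ∀ y ∈ YY P, w * y = y * w := fun y hy => ((mem_CC.mp hwC) y hy).symm
    exact hwN (mem_Om_of_central' h (inv_YY Y) Om_le_YY hYna hwY hcen)
  intro x
  exact hC (sq_mem_CC x)

section caseB

variable (h : SH P Y) (hYab : ∀ a ∈ YY P, ∀ b ∈ YY P, a * b = b * a)
  (hYne : ∃ y ∈ YY P, y ∉ Om P)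

include h hYab hYne

theorem sq_surj_YY' : ∀ z ∈ Om P, ∃ y ∈ YY P, y * y = z := by
  let S : Subgroup P :=
    { carrier := {z | ∃ y ∈ YY P, y * y = z}
      one_mem' := ⟨1, (YY P).one_mem, by simp⟩
      mul_mem' := by
        rintro z z' ⟨y, hy, rfl⟩ ⟨y', hy', rfl⟩
        refine ⟨y * y', (YY P).mul_mem hy hy', ?_⟩
        have h1 := hYab y hy y' hy'
        calc y * y' * (y * y') = y * (y' * y) * y' := by group
          _ = y * (y * y') * y' := by rw [h1]
          _ = _ := by group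
      inv_mem' := by
        rintro z ⟨y, hy, rfl⟩
        exact ⟨y⁻¹, (YY P).inv_mem hy, by group⟩ }
  have hle : S ≤ Om P := by
    rintro z ⟨y, hy, rfl⟩
    exact (mem_YY.mp hy).1
  have hne : ∃ x ∈ S, x ≠ 1 := by
    obtain ⟨y, hy, hyO⟩ := hYne
    exact ⟨y * y, ⟨y, hy, rfl⟩, fun h1 => hyO (h.mem_Om_iff.mpr h1)⟩
  have hinv : ∀ k ∈ Y, ∀ x ∈ S, k x ∈ S := by
    rintro k hk z ⟨y, hy, rfl⟩
    exact ⟨k y, inv_YY Y k hk y hy, by rw [map_mul]⟩
  intro z hz
  exact h.Om_le S hne hle hinv hz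

theorem YY_le_CC' : YY P ≤ CC P := by
  intro y hy
  rw [mem_CC]
  intro y' hy'
  exact hYab y' hy' y hy

theorem Om_le_CC' : Om P ≤ CC P := Om_le_YY.trans (YY_le_CC' h hYab hYne)

theorem CC_abelian' : ∀ a ∈ CC P, ∀ b ∈ CC P, a * b = b * a := by
  by_contra hcon
  push Not at hcon
  obtain ⟨a, ha, b, hb, hab⟩ := hcon
  obtain ⟨y, hy, hyO⟩ := hYne
  apply hyO
  refine mem_Om_of_central' h (inv_CC Y) (Om_le_CC' h hYab ⟨y, hy, hyO⟩) ⟨a, ha, b, hb, hab⟩
    (YY_le_CC' h hYab ⟨y, hy, hyO⟩ hy) ?_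
  intro c hc
  exact (mem_CC.mp hc) y hy

theorem CC_ne_top' (hna : ∃ x y : P, x * y ≠ y * x) : ∃ x : P, x ∉ CC P := by
  by_contra hcon
  push Not at hcon
  obtain ⟨y, hy, hyO⟩ := hYne
  apply hyO
  obtain ⟨a, b, hab⟩ := hna
  refine mem_Om_of_central' h (inv_top Y) le_top
    ⟨a, Subgroup.mem_top a, b, Subgroup.mem_top b, hab⟩ (Subgroup.mem_top y) ?_
  intro c _
  exact (mem_CC.mp (hcon c)) y hy

theorem Om2_CC' : ∀ c ∈ CC P, c * c ∈ Om P → c ∈ YY P := by
  intro c hc hc2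
  obtain ⟨t, ht, htc⟩ := sq_surj_YY' h hYab hYne (c * c) hc2
  have hcomm : t * c = c * t := (mem_CC.mp hc) t ht
  have hti : t⁻¹ ∈ YY P := (YY P).inv_mem ht
  have hcomm' : t⁻¹ * c = c * t⁻¹ := (mem_CC.mp hc) t⁻¹ hti
  have h1 : (c * t⁻¹) * (c * t⁻¹) = 1 := by
    calc (c * t⁻¹) * (c * t⁻¹) = c * (t⁻¹ * c) * t⁻¹ := by group
      _ = c * (c * t⁻¹) * t⁻¹ := by rw [hcomm']
      _ = (c * c) * (t * t)⁻¹ := by group
      _ = 1 := by rw [htc, mul_inv_cancel]
  have h2 : c * t⁻¹ ∈ YY P := Om_le_YY (h.mem_Om_iff.mpr h1)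
  have h3 : c = (c * t⁻¹) * t := by group
  rw [h3]
  exact (YY P).mul_mem h2 ht

end caseB

section fieldcomm

variable {F : Type*} [Field F] [Fintype F] [CharP F 2] [Fintype (F ≃+* F)]

theorem aut_comm (σ τ : F ≃+* F) : σ * τ = τ * σ := by
  obtain ⟨n, -, hcard⟩ := FiniteField.card F 2
  obtain ⟨i, _, hi⟩ := aut_eq_pow hcard σ
  obtain ⟨j, _, hj⟩ := aut_eq_pow hcard τ
  apply RingEquiv.ext
  intro x
  rw [RingAut.mul_apply, RingAut.mul_apply, hi (τ x), hj x, hj (σ x), hi x, ← pow_mul, ← pow_mul,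
    mul_comm]

theorem aut_comm_apply (σ τ : F ≃+* F) (x : F) : σ (τ x) = τ (σ x) := by
  have h := congrArg (fun g : F ≃+* F => g x) (aut_comm σ τ)
  exact h

end fieldcomm

section coo

variable {F : Type} [Field F] [Fintype F] [CharP F 2]

section roots

variable (co : SCoo P Y F)

variable (h : SH P Y) (hYab : ∀ a ∈ YY P, ∀ b ∈ YY P, a * b = b * a)
  (hYne : ∃ y ∈ YY P, y ∉ Om P)

open Classical in
/-- a chosen square root in `YY P` -/
noncomputable def srt (a : F) : P :=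
  if hex : ∃ y ∈ YY P, co.ι (y * y) = a then Classical.choose hex else 1

/-- the commutator endomorphism in coordinates -/
noncomputable def SEf (x : P) (a : F) : F := co.ι (cm (srt co a) x)

include h hYab hYne

theorem srt_spec (a : F) : srt co a ∈ YY P ∧ co.ι (srt co a * srt co a) = a := by
  have hex : ∃ y ∈ YY P, co.ι (y * y) = a := by
    obtain ⟨z, hz, hza⟩ := co.surj a
    obtain ⟨y, hy, hyz⟩ := sq_surj_YY' h hYab hYne z hz
    exact ⟨y, hy, by rw [hyz, hza]⟩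
  unfold srt
  rw [dif_pos hex]
  exact Classical.choose_spec hex

/-- (E1) -/
theorem SEf_sq {y : P} (hy : y ∈ YY P) (x : P) : SEf co x (co.ι (y * y)) = co.ι (cm y x) := by
  obtain ⟨hr, hr2⟩ := srt_spec co h hYab hYne (co.ι (y * y))
  set r := srt co (co.ι (y * y)) with hrdef
  have h1 : r * r = y * y :=
    co.inj' (sq_YY_mem hr) (sq_YY_mem hy) hr2
  have hzz : (y⁻¹ * r) * (y⁻¹ * r) = 1 := by
    rw [sq_mul_YY hYab ((YY P).inv_mem hy) hr, h1]
    group
  have hz : y⁻¹ * r ∈ Om P := h.mem_Om_iff.mpr hzz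
  have hry : r = y * (y⁻¹ * r) := by group
  show co.ι (cm r x) = co.ι (cm y x)
  rw [hry, cm_mul_left' (Om_comm hz (cm y x)).symm, cm_central_left (mem_Om.mp hz).1 x, mul_one]

/-- (E2) -/
theorem SEf_add (x : P) (a b : F) : SEf co x (a + b) = SEf co x a + SEf co x b := by
  obtain ⟨hra, hra2⟩ := srt_spec co h hYab hYne a
  obtain ⟨hrb, hrb2⟩ := srt_spec co h hYab hYne b
  have h1 : co.ι ((srt co a * srt co b) * (srt co a * srt co b)) = a + b := by
    rw [sq_mul_YY hYab hra hrb,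
      co.add _ (sq_YY_mem hra) _ (sq_YY_mem hrb), hra2, hrb2]
  rw [← h1, SEf_sq co h hYab hYne ((YY P).mul_mem hra hrb) x]
  rw [cm_mul_left' (Om_comm (cm_YY_mem hra x) (srt co b)),
    co.add _ (cm_YY_mem hra x) _ (cm_YY_mem hrb x)]
  rfl

theorem SEf_zero (x : P) : SEf co x 0 = 0 := by
  have h1 := SEf_add co h hYab hYne x 0 0
  rw [add_zero] at h1
  have h3 : SEf co x 0 + SEf co x 0 = SEf co x 0 + 0 := by rw [add_zero]; exact h1.symm
  exact add_left_cancel h3

/-- (E3) -/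
theorem SEf_mul (x x' : P) (a : F) : SEf co (x * x') a = SEf co x a + SEf co x' a := by
  obtain ⟨hra, hra2⟩ := srt_spec co h hYab hYne a
  show co.ι (cm (srt co a) (x * x')) = co.ι (cm (srt co a) x) + co.ι (cm (srt co a) x')
  rw [cm_mul_right' (Om_comm (cm_YY_mem hra x) x'),
    co.add _ (cm_YY_mem hra x') _ (cm_YY_mem hra x), add_comm]

/-- (E4) -/
theorem SEf_eq_zero_iff (x : P) : (∀ a, SEf co x a = 0) ↔ x ∈ CC P := by
  constructor
  · intro h0
    rw [mem_CC]
    intro y hy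
    have h1 := h0 (co.ι (y * y))
    rw [SEf_sq co h hYab hYne hy x] at h1
    have h2 := co.inj _ (cm_YY_mem hy x) h1
    exact cm_eq_one_iff.mp h2
  · intro hx a
    obtain ⟨hra, _⟩ := srt_spec co h hYab hYne a
    have h1 : cm (srt co a) x = 1 := cm_eq_one_iff.mpr ((mem_CC.mp hx) _ hra)
    show co.ι (cm (srt co a) x) = 0
    rw [h1, co.map_one]

/-- (E5), semilinear -/
theorem SEf_map {k : MulAut P} (hk : k ∈ Y) (x : P) (a : F) :
    SEf co (k x) (co.κ k * co.τ k a) = co.κ k * co.τ k (SEf co x a) := by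
  obtain ⟨hra, hra2⟩ := srt_spec co h hYab hYne a
  have hky : k (srt co a) ∈ YY P := inv_YY Y k hk _ hra
  have h1 : co.ι (k (srt co a) * k (srt co a)) = co.κ k * co.τ k a := by
    rw [← map_mul, co.act k hk _ (sq_YY_mem hra), hra2]
  rw [← h1, SEf_sq co h hYab hYne hky (k x), ← map_cm,
    co.act k hk _ (cm_YY_mem hra x)]
  rfl

end roots

section coef

variable [Fintype (F ≃+* F)] (co : SCoo P Y F)

open Classical in
/-- the coefficients of `SEf co x` -/
noncomputable def scf (x : P) : (F ≃+* F) → F :=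
  if hex : ∃ c : (F ≃+* F) → F, ∀ a, SEf co x a = ∑ σ, c σ * σ a then Classical.choose hex
  else fun _ => 0

variable (h : SH P Y) (hYab : ∀ a ∈ YY P, ∀ b ∈ YY P, a * b = b * a)
  (hYne : ∃ y ∈ YY P, y ∉ Om P)

include h hYab hYne

theorem scf_spec (x : P) (a : F) : SEf co x a = ∑ σ, scf co x σ * σ a := by
  have hex : ∃ c : (F ≃+* F) → F, ∀ a, SEf co x a = ∑ σ, c σ * σ a := by
    let f : F →+ F := AddMonoidHom.mk' (SEf co x) (SEf_add co h hYab hYne x)
    obtain ⟨c, hc⟩ := expand f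
    exact ⟨c, fun a => hc a⟩
  unfold scf
  rw [dif_pos hex]
  exact Classical.choose_spec hex a

theorem scf_mul (x x' : P) (ρ : F ≃+* F) : scf co (x * x') ρ = scf co x ρ + scf co x' ρ := by
  apply coef_unique (scf co (x * x')) (fun σ => scf co x σ + scf co x' σ)
  intro a
  rw [← scf_spec co h hYab hYne, SEf_mul co h hYab hYne, scf_spec co h hYab hYne x,
    scf_spec co h hYab hYne x', ← Finset.sum_add_distrib]
  apply Finset.sum_congr rfl
  intro σ _
  ring

/-- the semilinear transformation rule for the coefficients -/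
theorem scf_map {k : MulAut P} (hk : k ∈ Y) (x : P) (ρ : F ≃+* F) :
    scf co (k x) ρ * ρ (co.κ k) = co.κ k * co.τ k (scf co x ρ) := by
  have key := coef_unique
    (fun σ : F ≃+* F => scf co (k x) (σ * (co.τ k)⁻¹) * (σ * (co.τ k)⁻¹) (co.κ k))
    (fun σ : F ≃+* F => co.κ k * co.τ k (scf co x ((co.τ k)⁻¹ * σ))) ?_ (ρ * co.τ k)
  · have e1 : ρ * co.τ k * (co.τ k)⁻¹ = ρ := mul_inv_cancel_right _ _
    have e2 : (co.τ k)⁻¹ * (ρ * co.τ k) = ρ := by
      rw [aut_comm ρ (co.τ k), inv_mul_cancel_left]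
    simp only [e1, e2] at key
    exact key
  · intro a
    have h1 := SEf_map co h hYab hYne hk x a
    rw [scf_spec co h hYab hYne, scf_spec co h hYab hYne, map_sum, Finset.mul_sum] at h1
    have hL : ∑ σ, scf co (k x) σ * σ (co.κ k * co.τ k a) =
        ∑ σ, scf co (k x) (σ * (co.τ k)⁻¹) * (σ * (co.τ k)⁻¹) (co.κ k) * σ a := by
      apply Fintype.sum_equiv (Equiv.mulRight (co.τ k))
      intro σ
      show scf co (k x) σ * σ (co.κ k * co.τ k a) =
        scf co (k x) (σ * co.τ k * (co.τ k)⁻¹) * (σ * co.τ k * (co.τ k)⁻¹) (co.κ k) *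
          (σ * co.τ k) a
      rw [mul_inv_cancel_right, map_mul, RingAut.mul_apply]
      ring
    have hR : ∑ σ, co.κ k * co.τ k (scf co x σ * σ a) =
        ∑ σ, co.κ k * co.τ k (scf co x ((co.τ k)⁻¹ * σ)) * σ a := by
      apply Fintype.sum_equiv (Equiv.mulLeft (co.τ k))
      intro σ
      show co.κ k * co.τ k (scf co x σ * σ a) =
        co.κ k * co.τ k (scf co x ((co.τ k)⁻¹ * (co.τ k * σ))) * (co.τ k * σ) a
      rw [inv_mul_cancel_left, map_mul, RingAut.mul_apply]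
      ring
    rw [← hL, ← hR]
    exact h1

theorem scf_CC (x : P) : x ∈ CC P ↔ ∀ ρ, scf co x ρ = 0 := by
  rw [← SEf_eq_zero_iff co h hYab hYne]
  constructor
  · intro h0
    apply li1u
    intro a
    rw [← scf_spec co h hYab hYne]
    exact h0 a
  · intro h0 a
    rw [scf_spec co h hYab hYne]
    apply Finset.sum_eq_zero
    intro σ _
    rw [h0, zero_mul]

theorem scf_one (ρ : F ≃+* F) : scf co (1 : P) ρ = 0 :=
  (scf_CC co h hYab hYne 1).mp (CC P).one_mem ρ

theorem scf_inv (x : P) (ρ : F ≃+* F) : scf co x⁻¹ ρ = scf co x ρ := by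
  have h1 := scf_mul co h hYab hYne x x⁻¹ ρ
  rw [mul_inv_cancel, scf_one co h hYab hYne] at h1
  exact (CharTwo.add_eq_zero.mp h1.symm).symm

end coef

end coo

end Cfsg.Agent.Lib.Helper3.Sz
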