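import Mathlib
import Cfsg.Agent.Lib.Helper3.Sz4

set_option autoImplicit false
set_option maxHeartbeats 4000000
set_option maxRecDepth 100000
set_option linter.unusedVariables false
set_option linter.unusedSectionVars false
set_option linter.style.longLine false
set_option linter.style.haveILetI false
set_option linter.deprecated false

/-!
# The abelian case: the coefficient of the identity vanishes, single twists, and the subgroup `H₁`
-/

namespace Cfsg.Agent.Lib.Helper3.Sz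

open Cfsg.Agent.Lib.Lead.Sz2D Cfsg.Agent.Lib.Helper1.Hg

universe u

variable {P : Type u} [Group P] {Y : Subgroup (MulAut P)}

section main

variable {F : Type} [Field F] [Fintype F] [CharP F 2] [Fintype (F ≃+* F)] (co : SCoo P Y F)

/-- the index data of the multiplier group -/
structure IdxDat (n e : ℕ) : Prop where
  card : Fintype.card F = 2 ^ n
  two : 2 ≤ n
  dvd : e ∣ n
  pow : ∀ b : Fˣ, b ^ e ∈ co.M

/-- a `Y`-invariant subgroup over `CC P` on which only the twist `ρ₀` occurs, with all values -/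
structure SMin (H₁ : Subgroup P) (ρ₀ : F ≃+* F) : Prop where
  inv : Inv Y H₁
  le : CC P ≤ H₁
  one : ρ₀ ≠ 1
  tw : ∀ x ∈ H₁, ∀ ρ : F ≃+* F, ρ ≠ ρ₀ → scf co x ρ = 0
  surj : ∀ u : F, ∃ x ∈ H₁, scf co x ρ₀ = u

variable (h : SH P Y) (hYab : ∀ a ∈ YY P, ∀ b ∈ YY P, a * b = b * a)
  (hYne : ∃ y ∈ YY P, y ∉ Om P)

include h hYab hYne

theorem SEf_one (a : F) : SEf co (1 : P) a = 0 :=
  (SEf_eq_zero_iff co h hYab hYne 1).mpr (CC P).one_mem a

theorem SEf_inv (x : P) (a : F) : SEf co x⁻¹ a = SEf co x a := by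
  have h1 := SEf_mul co h hYab hYne x x⁻¹ a
  rw [mul_inv_cancel, SEf_one co h hYab hYne] at h1
  exact (CharTwo.add_eq_zero.mp h1.symm).symm

/-- an element with injective commutator endomorphism has its square in `Om P` -/
theorem sq_of_inj (x : P) (hinj : ∀ a : F, SEf co x a = 0 → a = 0) : x * x ∈ Om P := by
  have hind : ∀ j : ℕ, ∀ c : P, c ∈ CC P → c * x = x * c → c ^ (2 ^ j) ∈ Om P → c ∈ Om P := by
    intro j
    induction j with
    | zero =>
      intro c _ _ hc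
      simpa using hc
    | succ j ih =>
      intro c hcC hcx hc
      have e : c ^ (2 ^ (j + 1)) = (c * c) ^ (2 ^ j) := by
        rw [pow_succ, pow_mul', ← pow_two]
      rw [e] at hc
      have hccx : c * c * x = x * (c * c) := by
        rw [mul_assoc, hcx, ← mul_assoc, hcx, mul_assoc]
      have hcc : c * c ∈ Om P := ih (c * c) ((CC P).mul_mem hcC hcC) hccx hc
      have hcY : c ∈ YY P := Om2_CC' h hYab hYne c hcC hcc
      have h1 : cm c x = 1 := cm_eq_one_iff.mpr hcx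
      have h2 := SEf_sq co h hYab hYne hcY x
      rw [h1, co.map_one] at h2
      have h3 := hinj _ h2
      exact h.mem_Om_iff.mpr (co.inj _ hcc h3)
  obtain ⟨m, hm2⟩ := h.pg (x * x)
  have hxx : (x * x) * x = x * (x * x) := by group
  apply hind m (x * x) (sq_mem_CC x) hxx
  rw [hm2]
  exact (Om P).one_mem

/-- `x²` is not a value of `u ↦ u + SEf x u` unless `x ∈ YY P` -/
theorem one_add_ne {x : P} (hx2 : x * x ∈ Om P) (hxY : x ∉ YY P) (u : F) :
    u + SEf co x u ≠ co.ι (x * x) := by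
  intro he
  obtain ⟨hr, hr2⟩ := srt_spec co h hYab hYne u
  set t := srt co u with htdef
  have hcm : cm t x ∈ Om P := cm_YY_mem hr x
  have h1 : co.ι ((t * t) * cm t x) = co.ι (x * x) := by
    rw [co.add _ (sq_YY_mem hr) _ hcm, hr2]
    exact he
  have h2 : (t * t) * cm t x = x * x :=
    co.inj' ((Om P).mul_mem (sq_YY_mem hr) hcm) hx2 h1
  have h3 : (x * t) * (x * t) = (x * x) * ((t * t) * cm t x) :=
    mul_sq_eq (fun g => Om_comm hcm g)
  rw [h2, hx2.2] at h3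
  have h4 : x * t ∈ YY P := Om_le_YY (h.mem_Om_iff.mpr h3)
  apply hxY
  have h5 : x = (x * t) * t⁻¹ := by group
  rw [h5]
  exact (YY P).mul_mem h4 ((YY P).inv_mem hr)

variable {n e : ℕ} (hd : IdxDat co n e)

include hd

/-- the projector: an element with a single twist -/
theorem exists_single (x₀ : P) (ρ₀ : F ≃+* F) (h0 : scf co x₀ ρ₀ ≠ 0) :
    ∃ x : P, scf co x ρ₀ ≠ 0 ∧ ∀ ρ : F ≃+* F, ρ ≠ ρ₀ → scf co x ρ = 0 := by
  classical
  refine SzAx.projector n e hd.card hd.two hd.dvd co.M hd.pow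
    (fun (ρ : F ≃+* F) (x : P) => scf co x ρ)
    (fun ρ x x' => scf_mul co h hYab hYne x x' ρ)
    (fun (a : Fˣ) (x : P) => if ha : a ∈ co.M then (Classical.choose ha) x else x)
    ?_ x₀ ρ₀ h0
  intro a ha ρ x
  show scf co (dite (a ∈ co.M) (fun ha => (Classical.choose ha) x) (fun _ => x)) ρ = _
  rw [dif_pos ha]
  obtain ⟨hk, hkt, hka⟩ := Classical.choose_spec ha
  have h1 := scf_map co h hYab hYne hk x ρ
  rw [hkt, RingAut.one_apply, hka] at h1
  have hρa : ρ ((a : Fˣ) : F) ≠ 0 := (map_ne_zero ρ).mpr a.ne_zero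
  rw [div_mul_eq_mul_div]
  exact eq_div_of_mul_eq hρa h1

/-- the coefficient of the identity vanishes -/
theorem scf_id (x : P) : scf co x (1 : F ≃+* F) = 0 := by
  by_contra hne
  obtain ⟨x₁, hx₁c, hx₁0⟩ := exists_single co h hYab hYne hd x 1 hne
  obtain ⟨c, hcdef⟩ : ∃ c : F, c = scf co x₁ 1 := ⟨_, rfl⟩
  rw [← hcdef] at hx₁c
  have hE : ∀ a : F, SEf co x₁ a = c * a := by
    intro a
    rw [scf_spec co h hYab hYne, hcdef]
    have h1 : ∑ σ : F ≃+* F, scf co x₁ σ * σ a = scf co x₁ 1 * (1 : F ≃+* F) a := by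
      apply Finset.sum_eq_single (1 : F ≃+* F)
      · intro ρ _ hρ
        rw [hx₁0 ρ hρ, zero_mul]
      · intro h0
        exact absurd (Finset.mem_univ _) h0
    rw [h1, RingAut.one_apply]
  have hinj : ∀ a : F, SEf co x₁ a = 0 → a = 0 := by
    intro a ha
    rw [hE] at ha
    rcases mul_eq_zero.mp ha with h1 | h1
    · exact absurd h1 hx₁c
    · exact h1
  have hx2 := sq_of_inj co h hYab hYne x₁ hinj
  have hxC : x₁ ∉ CC P := by
    intro hxC
    have h1 := (SEf_eq_zero_iff co h hYab hYne x₁).mpr hxC 1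
    exact one_ne_zero (hinj 1 h1)
  have hxY : x₁ ∉ YY P := fun hY => hxC (YY_le_CC' h hYab hYne hY)
  by_cases hc1 : c = 1
  · -- the coset of elements inverting `YY P`
    have hI1 : ∀ x : P, (∀ a : F, SEf co x a = a) → x * x ∈ Om P ∧ x * x ≠ 1 := by
      intro x hx
      have hxinj : ∀ a : F, SEf co x a = 0 → a = 0 := by
        intro a ha
        rw [hx] at ha
        exact ha
      refine ⟨sq_of_inj co h hYab hYne x hxinj, ?_⟩
      intro h1
      have h2 : x ∈ CC P := Om_le_CC' h hYab hYne (h.mem_Om_iff.mpr h1)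
      have h3 := (SEf_eq_zero_iff co h hYab hYne x).mpr h2 1
      rw [hx] at h3
      exact one_ne_zero h3
    have hI2 : ∀ x : P, (∀ a : F, SEf co x a = a) → ∀ k ∈ Y, ∀ a : F, SEf co (k x) a = a := by
      intro x hx k hk a
      have hκ : co.κ k ≠ 0 := co.kne k hk
      have h1 := SEf_map co h hYab hYne hk x ((co.τ k)⁻¹ (a / co.κ k))
      have h2 : co.κ k * co.τ k ((co.τ k)⁻¹ (a / co.κ k)) = a := by
        have h3 : co.τ k ((co.τ k)⁻¹ (a / co.κ k)) = a / co.κ k := by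
          rw [← RingAut.mul_apply, mul_inv_cancel, RingAut.one_apply]
        rw [h3, mul_div_cancel₀ _ hκ]
      rw [hx, h2] at h1
      exact h1
    have hI3 : ∀ x x' : P, (∀ a : F, SEf co x a = a) → (∀ a : F, SEf co x' a = a) →
        x⁻¹ * x' ∈ CC P := by
      intro x x' hx hx'
      rw [← SEf_eq_zero_iff co h hYab hYne]
      intro a
      rw [SEf_mul co h hYab hYne, SEf_inv co h hYab hYne, hx, hx']
      exact CharTwo.add_self_eq_zero a
    have hI4 : ∀ x c' : P, (∀ a : F, SEf co x a = a) → c' ∈ CC P →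
        ∀ a : F, SEf co (x * c') a = a := by
      intro x c' hx hc' a
      rw [SEf_mul co h hYab hYne, hx, (SEf_eq_zero_iff co h hYab hYne c').mpr hc' a, add_zero]
    have hIx₁ : ∀ a : F, SEf co x₁ a = a := by
      intro a
      rw [hE, hc1, one_mul]
    obtain ⟨hz₁O, hz₁1⟩ := hI1 x₁ hIx₁
    have hex : ∀ z : P, z ≠ 1 → z * z = 1 → ∃ a : P, (∀ b : F, SEf co a b = b) ∧ a * a = z := by
      intro z hz1 hz2
      obtain ⟨k, hk, hkz⟩ := h.trans (x₁ * x₁) z hz₁1 hz₁O.2 hz1 hz2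
      refine ⟨k x₁, hI2 x₁ hIx₁ k hk, ?_⟩
      rw [← map_mul]
      exact hkz
    obtain ⟨x, y, hxy, hx1, hx2', hy1, hy2⟩ := h.two
    have hxO : x ∈ Om P := h.mem_Om_iff.mpr hx2'
    have hyO : y ∈ Om P := h.mem_Om_iff.mpr hy2
    have hxy1 : x * y ≠ 1 := by
      intro h1
      apply hxy
      have h2 : x = y⁻¹ := eq_inv_of_mul_eq_one_left h1
      rw [h2, h.Om_inv_self hyO]
    have hxy2 : (x * y) * (x * y) = 1 := ((Om P).mul_mem hxO hyO).2
    obtain ⟨a₁, ha₁I, ha₁⟩ := hex x hx1 hx2'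
    obtain ⟨a₂, ha₂I, ha₂⟩ := hex y hy1 hy2
    obtain ⟨a₃, ha₃I, ha₃⟩ := hex (x * y) hxy1 hxy2
    have hc₂ : a₁⁻¹ * a₂ ∈ CC P := hI3 a₁ a₂ ha₁I ha₂I
    have hc₃ : a₁⁻¹ * a₃ ∈ CC P := hI3 a₁ a₃ ha₁I ha₃I
    obtain ⟨c₂, hc₂def⟩ : ∃ c₂ : P, c₂ = a₁⁻¹ * a₂ := ⟨_, rfl⟩
    obtain ⟨c₃, hc₃def⟩ : ∃ c₃ : P, c₃ = a₁⁻¹ * a₃ := ⟨_, rfl⟩
    rw [← hc₂def] at hc₂
    rw [← hc₃def] at hc₃
    have hψ : ∀ c' : P, (a₁ * c') * (a₁ * c') = (a₁ * a₁) * (a₁⁻¹ * c' * a₁ * c') := by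
      intro c'
      group
    have hψ₂ : a₁⁻¹ * c₂ * a₁ * c₂ = x⁻¹ * y := by
      have h1 := hψ c₂
      have h2 : a₁ * c₂ = a₂ := by rw [hc₂def]; group
      rw [h2, ha₂, ha₁] at h1
      rw [h1]
      group
    have hψ₃ : a₁⁻¹ * c₃ * a₁ * c₃ = y := by
      have h1 := hψ c₃
      have h2 : a₁ * c₃ = a₃ := by rw [hc₃def]; group
      rw [h2, ha₃, ha₁] at h1
      have h3 : a₁⁻¹ * c₃ * a₁ * c₃ = x⁻¹ * (x * (a₁⁻¹ * c₃ * a₁ * c₃)) := by group
      rw [h3, ← h1]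
      group
    have hconj : a₁⁻¹ * c₃ * a₁ ∈ CC P := by
      have h1 := CC_conj hc₃ a₁⁻¹
      rwa [inv_inv] at h1
    have hcomm : (a₁⁻¹ * c₃ * a₁) * c₂ = c₂ * (a₁⁻¹ * c₃ * a₁) :=
      CC_abelian' h hYab hYne _ hconj _ hc₂
    have hψ₂₃ : a₁⁻¹ * (c₂ * c₃) * a₁ * (c₂ * c₃) = (x⁻¹ * y) * y := by
      rw [← hψ₂, ← hψ₃]
      calc a₁⁻¹ * (c₂ * c₃) * a₁ * (c₂ * c₃)
          = a₁⁻¹ * c₂ * a₁ * ((a₁⁻¹ * c₃ * a₁) * c₂) * c₃ := by group
        _ = a₁⁻¹ * c₂ * a₁ * (c₂ * (a₁⁻¹ * c₃ * a₁)) * c₃ := by rw [hcomm]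
        _ = a₁⁻¹ * c₂ * a₁ * c₂ * (a₁⁻¹ * c₃ * a₁ * c₃) := by group
    have hI5 := hI4 a₁ (c₂ * c₃) ha₁I ((CC P).mul_mem hc₂ hc₃)
    obtain ⟨_, hne1⟩ := hI1 _ hI5
    apply hne1
    rw [hψ (c₂ * c₃), hψ₂₃, ha₁]
    have h1 : x * (x⁻¹ * y * y) = y * y := by group
    rw [h1, hy2]
  · have h1c : (1 : F) + c ≠ 0 := by
      intro h1
      apply hc1
      exact (CharTwo.add_eq_zero.mp h1).symm
    apply one_add_ne co h hYab hYne hx2 hxY (co.ι (x₁ * x₁) / (1 + c))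
    rw [hE]
    have h2 : co.ι (x₁ * x₁) / (1 + c) + c * (co.ι (x₁ * x₁) / (1 + c)) =
        (1 + c) * (co.ι (x₁ * x₁) / (1 + c)) := by ring
    rw [h2, mul_div_cancel₀ _ h1c]

/-- the subgroup `H₁` of elements with a single twist -/
theorem exists_smin (hna : ∃ x y : P, x * y ≠ y * x) :
    ∃ (H₁ : Subgroup P) (ρ₀ : F ≃+* F), SMin co H₁ ρ₀ := by
  classical
  obtain ⟨x₀, hx₀⟩ := CC_ne_top' h hYab hYne hna
  have hne : ¬ ∀ ρ : F ≃+* F, scf co x₀ ρ = 0 :=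
    fun h0 => hx₀ ((scf_CC co h hYab hYne x₀).mpr h0)
  push Not at hne
  obtain ⟨ρ₀, hρ₀⟩ := hne
  have hρ₀1 : ρ₀ ≠ 1 := by
    rintro rfl
    exact hρ₀ (scf_id co h hYab hYne hd x₀)
  obtain ⟨x₂, hx₂c, hx₂0⟩ := exists_single co h hYab hYne hd x₀ ρ₀ hρ₀
  let H₁ : Subgroup P :=
    { carrier := {x | ∀ ρ : F ≃+* F, ρ ≠ ρ₀ → scf co x ρ = 0}
      one_mem' := fun ρ _ => scf_one co h hYab hYne ρ
      mul_mem' := by
        intro a b ha hb ρ hρ
        show scf co (a * b) ρ = 0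
        rw [scf_mul co h hYab hYne, ha ρ hρ, hb ρ hρ, add_zero]
      inv_mem' := by
        intro a ha ρ hρ
        show scf co a⁻¹ ρ = 0
        rw [scf_inv co h hYab hYne]
        exact ha ρ hρ }
  have hH₁ : ∀ x : P, x ∈ H₁ ↔ ∀ ρ : F ≃+* F, ρ ≠ ρ₀ → scf co x ρ = 0 := fun _ => Iff.rfl
  have hinv : Inv Y H₁ := by
    intro k hk x hx
    rw [hH₁] at hx ⊢
    intro ρ hρ
    have h1 := scf_map co h hYab hYne hk x ρ
    rw [hx ρ hρ, map_zero, mul_zero] at h1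
    rcases mul_eq_zero.mp h1 with h2 | h2
    · exact h2
    · exact absurd ((map_eq_zero ρ).mp h2) (co.kne k hk)
  have hle : CC P ≤ H₁ := by
    intro c hc
    rw [hH₁]
    intro ρ _
    exact (scf_CC co h hYab hYne c).mp hc ρ
  have hEf : ∀ x ∈ H₁, ∀ a : F, SEf co x a = scf co x ρ₀ * ρ₀ a := by
    intro x hx a
    rw [scf_spec co h hYab hYne]
    apply Finset.sum_eq_single ρ₀
    · intro ρ _ hρ
      rw [(hH₁ x).mp hx ρ hρ, zero_mul]
    · intro h0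
      exact absurd (Finset.mem_univ _) h0
  have hker : ∀ x ∈ H₁, scf co x ρ₀ = 0 → x ∈ CC P := by
    intro x hx hx0
    rw [scf_CC co h hYab hYne]
    intro ρ
    by_cases hρ : ρ = ρ₀
    · rw [hρ]; exact hx0
    · exact (hH₁ x).mp hx ρ hρ
  -- the values of the coefficient on `H₁ \ CC P`
  have hB11 : ∀ x ∈ H₁, x ∉ CC P → ∃ u : F, u ≠ 0 ∧ scf co x ρ₀ = u / ρ₀ u := by
    intro x hx hxC
    have hc0 : scf co x ρ₀ ≠ 0 := fun h0 => hxC (hker x hx h0)
    have hinj : ∀ a : F, SEf co x a = 0 → a = 0 := by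
      intro a ha
      rw [hEf x hx] at ha
      rcases mul_eq_zero.mp ha with h1 | h1
      · exact absurd h1 hc0
      · exact (map_eq_zero ρ₀).mp h1
    have hx2 := sq_of_inj co h hYab hYne x hinj
    have hxY : x ∉ YY P := fun hY => hxC (YY_le_CC' h hYab hYne hY)
    have hns : ¬ Function.Surjective (fun u : F => u + scf co x ρ₀ * ρ₀ u) := by
      intro hs
      obtain ⟨u, hu⟩ := hs (co.ι (x * x))
      apply one_add_ne co h hYab hYne hx2 hxY u
      rw [hEf x hx]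
      exact hu
    have hni : ¬ Function.Injective (fun u : F => u + scf co x ρ₀ * ρ₀ u) :=
      fun hi => hns (Finite.injective_iff_surjective.mp hi)
    rw [Function.Injective] at hni
    push Not at hni
    obtain ⟨u, u', huu, hne⟩ := hni
    have huu' : u + scf co x ρ₀ * ρ₀ u = u' + scf co x ρ₀ * ρ₀ u' := huu
    refine ⟨u + u', ?_, ?_⟩
    · intro h0
      exact hne (CharTwo.add_eq_zero.mp h0)
    · have hw0 : u + u' ≠ 0 := fun h0 => hne (CharTwo.add_eq_zero.mp h0)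
      have hρw : ρ₀ (u + u') ≠ 0 := (map_ne_zero ρ₀).mpr hw0
      apply eq_div_of_mul_eq hρw
      rw [map_add, mul_add]
      have h3 : (u + scf co x ρ₀ * ρ₀ u) + (u' + scf co x ρ₀ * ρ₀ u') = 0 := by
        rw [huu']
        exact CharTwo.add_self_eq_zero _
      have h4 : scf co x ρ₀ * ρ₀ u + scf co x ρ₀ * ρ₀ u' + (u + u') = 0 := by
        rw [← h3]; ring
      exact CharTwo.add_eq_zero.mp h4
  have hx₂H : x₂ ∈ H₁ := (hH₁ x₂).mpr hx₂0
  have hx₂C : x₂ ∉ CC P := fun hc => hx₂c ((scf_CC co h hYab hYne x₂).mp hc ρ₀)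
  obtain ⟨u₂, hu₂0, hu₂⟩ := hB11 x₂ hx₂H hx₂C
  let L : AddSubgroup F :=
    { carrier := {c | ∃ x ∈ H₁, scf co x ρ₀ = c}
      zero_mem' := ⟨1, H₁.one_mem, scf_one co h hYab hYne ρ₀⟩
      add_mem' := by
        rintro c c' ⟨x, hx, rfl⟩ ⟨x', hx', rfl⟩
        exact ⟨x * x', H₁.mul_mem hx hx', scf_mul co h hYab hYne x x' ρ₀⟩
      neg_mem' := by
        rintro c ⟨x, hx, rfl⟩
        refine ⟨x, hx, ?_⟩
        exact (CharTwo.neg_eq _).symm }
  have hLmem : ∀ c : F, c ∈ L ↔ ∃ x ∈ H₁, scf co x ρ₀ = c := fun _ => Iff.rfl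
  have hL : ∀ c : F, c ∈ L ↔ c = 0 ∨ ∃ u : F, u ≠ 0 ∧ c = u / ρ₀ u := by
    intro c
    rw [hLmem]
    constructor
    · rintro ⟨x, hx, rfl⟩
      by_cases hxC : x ∈ CC P
      · left
        exact (scf_CC co h hYab hYne x).mp hxC ρ₀
      · right
        exact hB11 x hx hxC
    · rintro (rfl | ⟨u, hu0, rfl⟩)
      · exact ⟨1, H₁.one_mem, scf_one co h hYab hYne ρ₀⟩
      · obtain ⟨z₂, hz₂O, hz₂⟩ := co.surj u₂
        obtain ⟨z, hzO, hz⟩ := co.surj u
        have hz₂1 : z₂ ≠ 1 := by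
          rintro rfl
          rw [co.map_one] at hz₂
          exact hu₂0 hz₂.symm
        have hz1 : z ≠ 1 := by
          rintro rfl
          rw [co.map_one] at hz
          exact hu0 hz.symm
        obtain ⟨k, hk, hkz⟩ := h.trans z₂ z hz₂1 hz₂O.2 hz1 hzO.2
        have hu : u = co.κ k * co.τ k u₂ := by
          rw [← hz, ← hkz, co.act k hk z₂ hz₂O, hz₂]
        refine ⟨k x₂, hinv k hk x₂ hx₂H, ?_⟩
        have h1 := scf_map co h hYab hYne hk x₂ ρ₀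
        have hρκ : ρ₀ (co.κ k) ≠ 0 := (map_ne_zero ρ₀).mpr (co.kne k hk)
        have h2 : scf co (k x₂) ρ₀ = co.κ k * co.τ k (scf co x₂ ρ₀) / ρ₀ (co.κ k) :=
          eq_div_of_mul_eq hρκ h1
        rw [h2, hu₂, map_div₀, aut_comm_apply (co.τ k) ρ₀ u₂, hu, map_mul, mul_div_assoc, div_div,
          mul_comm (ρ₀ (co.τ k u₂)) (ρ₀ (co.κ k))]
        ring
  have hall := SzAx.field_of_quot ρ₀ hρ₀1 L hL
  refine ⟨H₁, ρ₀, hinv, hle, hρ₀1, fun x hx => (hH₁ x).mp hx, ?_⟩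
  intro u
  exact (hLmem u).mp (hall u)

end main

end Cfsg.Agent.Lib.Helper3.Sz
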