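import Mathlib
import Cfsg.Agent.Lib.Helper3.Sz5
import Cfsg.Agent.Lib.Helper1.Hg7

set_option autoImplicit false
set_option maxHeartbeats 4000000
set_option maxRecDepth 100000
set_option linter.unusedVariables false
set_option linter.unusedSectionVars false
set_option linter.style.longLine false
set_option linter.style.haveILetI false
set_option linter.deprecated false

/-!
# The abelian case is impossible (adaptation of `Lib/Helper1/Hg7.lean` to semilinear coordinates)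
-/

namespace Cfsg.Agent.Lib.Helper3.Sz

open Cfsg.Agent.Lib.Lead.Sz2D Cfsg.Agent.Lib.Helper1.Hg

universe u

variable {P : Type u} [Group P] {Y : Subgroup (MulAut P)}

section main

variable {F : Type} [Field F] [Fintype F] [CharP F 2] [Fintype (F ≃+* F)] (co : SCoo P Y F)

variable (h : SH P Y) (hYab : ∀ a ∈ YY P, ∀ b ∈ YY P, a * b = b * a)
  (hYne : ∃ y ∈ YY P, y ∉ Om P)

include h hYab hYne

theorem SMin.ker {H₁ : Subgroup P} {ρ₀ : F ≃+* F} (hm : SMin co H₁ ρ₀) :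
    ∀ x ∈ H₁, scf co x ρ₀ = 0 → x ∈ CC P := by
  intro x hx hx0
  rw [scf_CC co h hYab hYne]
  intro ρ
  by_cases hρ : ρ = ρ₀
  · rw [hρ]; exact hx0
  · exact hm.tw x hx ρ hρ

variable {n e : ℕ} (hd : IdxDat co n e)

variable {H₁ : Subgroup P} {ρ₀ : F ≃+* F} (hm : SMin co H₁ ρ₀)

include hm

theorem scf_dep {x x' : P} (hx : x ∈ H₁) (hx' : x' ∈ H₁) (he : scf co x ρ₀ = scf co x' ρ₀)
    (ρ : F ≃+* F) : scf co x ρ = scf co x' ρ := by
  have h1 : scf co (x⁻¹ * x') ρ₀ = 0 := by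
    rw [scf_mul co h hYab hYne, scf_inv co h hYab hYne, he]
    exact CharTwo.add_self_eq_zero _
  have h2 := hm.ker co h hYab hYne _ (H₁.mul_mem (H₁.inv_mem hx) hx') h1
  have h3 := (scf_CC co h hYab hYne _).mp h2 ρ
  rw [scf_mul co h hYab hYne, scf_inv co h hYab hYne] at h3
  exact CharTwo.add_eq_zero.mp h3

theorem snot_CC_of_coef {x : P} (hx0 : scf co x ρ₀ ≠ 0) : x ∉ CC P :=
  fun hxC => hx0 ((scf_CC co h hYab hYne x).mp hxC ρ₀)

theorem SEf_H1 : ∀ x ∈ H₁, ∀ a : F, SEf co x a = scf co x ρ₀ * ρ₀ a := by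
  intro x hx a
  rw [scf_spec co h hYab hYne]
  apply Finset.sum_eq_single ρ₀
  · intro ρ _ hρ
    rw [hm.tw x hx ρ hρ, zero_mul]
  · intro h0
    exact absurd (Finset.mem_univ _) h0

/-- (C') -/
theorem ssq_H1 : ∀ x ∈ H₁, x ∉ CC P → x * x ∈ Om P := by
  intro x hx hxC
  have hu : scf co x ρ₀ ≠ 0 := fun h0 => hxC (hm.ker co h hYab hYne x hx h0)
  have hinj : ∀ a : F, SEf co x a = 0 → a = 0 := by
    intro a ha
    rw [SEf_H1 co h hYab hYne hm x hx] at ha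
    rcases mul_eq_zero.mp ha with h1 | h1
    · exact absurd h1 hu
    · exact (map_eq_zero ρ₀).mp h1
  have hind : ∀ j : ℕ, ∀ c : P, c ∈ CC P → c * x = x * c → c ^ (2 ^ j) ∈ Om P → c ∈ Om P := by
    intro j
    induction j with
    | zero =>
      intro c _ _ hc
      simpa using hc
    | succ j ih =>
      intro c hcC hcx hc
      have e : c ^ (2 ^ (j + 1)) = (c * c) ^ (2 ^ j) := by
        rw [pow_succ, pow_mul', ← pow_two]
      rw [e] at hc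
      have hccx : c * c * x = x * (c * c) := by
        rw [mul_assoc, hcx, ← mul_assoc, hcx, mul_assoc]
      have hcc : c * c ∈ Om P := ih (c * c) ((CC P).mul_mem hcC hcC) hccx hc
      have hcY : c ∈ YY P := Om2_CC' h hYab hYne c hcC hcc
      have h1 : cm c x = 1 := cm_eq_one_iff.mpr hcx
      have h2 := SEf_sq co h hYab hYne hcY x
      rw [h1, co.map_one] at h2
      have h3 := hinj _ h2
      exact h.mem_Om_iff.mpr (co.inj _ hcc h3)
  obtain ⟨m, hm2⟩ := h.pg (x * x)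
  have hxx : (x * x) * x = x * (x * x) := by group
  apply hind m (x * x) (sq_mem_CC x) hxx
  rw [hm2]
  exact (Om P).one_mem

theorem sinvert_H1 {g c : P} (hg : g ∈ H₁) (hgC : g ∉ CC P) (hc : c ∈ CC P) :
    (g⁻¹ * c * g) * c ∈ Om P := by
  have hgc : g * c ∈ H₁ := H₁.mul_mem hg (hm.le hc)
  have hgcC : g * c ∉ CC P := by
    intro h1
    apply hgC
    have : g = (g * c) * c⁻¹ := by group
    rw [this]
    exact (CC P).mul_mem h1 ((CC P).inv_mem hc)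
  have h1 := ssq_H1 co h hYab hYne hm g hg hgC
  have h2 := ssq_H1 co h hYab hYne hm (g * c) hgc hgcC
  have e : (g⁻¹ * c * g) * c = (g * g)⁻¹ * ((g * c) * (g * c)) := by group
  rw [e]
  exact (Om P).mul_mem ((Om P).inv_mem h1) h2

/-- (C'') -/
theorem sCC_le_YY : CC P ≤ YY P := by
  obtain ⟨a₀, ha₀⟩ := co.exists_ne h
  have ha₀0 : a₀ ≠ 0 := by
    rintro rfl
    exact ha₀ (mul_zero 0)
  have ha₀1 : (1 : F) + a₀ ≠ 0 := by
    intro h1
    have : a₀ = 1 := (CharTwo.add_eq_zero.mp h1).symm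
    apply ha₀
    rw [this, mul_one]
  obtain ⟨x, hx, hx1⟩ := hm.surj 1
  obtain ⟨x', hx', hx'1⟩ := hm.surj a₀
  have hxC : x ∉ CC P := snot_CC_of_coef co h hYab hYne hm (by rw [hx1]; exact one_ne_zero)
  have hx'C : x' ∉ CC P := snot_CC_of_coef co h hYab hYne hm (by rw [hx'1]; exact ha₀0)
  have hxx'C : x * x' ∉ CC P :=
    snot_CC_of_coef co h hYab hYne hm (by rw [scf_mul co h hYab hYne, hx1, hx'1]; exact ha₀1)
  intro c hc
  apply Om2_CC' h hYab hYne c hc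
  obtain ⟨z₁, hz₁def⟩ : ∃ z₁, z₁ = (x⁻¹ * c * x) * c := ⟨_, rfl⟩
  obtain ⟨z₂, hz₂def⟩ : ∃ z₂, z₂ = (x'⁻¹ * c * x') * c := ⟨_, rfl⟩
  obtain ⟨z₃, hz₃def⟩ : ∃ z₃, z₃ = ((x * x')⁻¹ * c * (x * x')) * c := ⟨_, rfl⟩
  have hz₁ : z₁ ∈ Om P := by rw [hz₁def]; exact sinvert_H1 co h hYab hYne hm hx hxC hc
  have hz₂ : z₂ ∈ Om P := by rw [hz₂def]; exact sinvert_H1 co h hYab hYne hm hx' hx'C hc
  have hz₃ : z₃ ∈ Om P := by
    rw [hz₃def]; exact sinvert_H1 co h hYab hYne hm (H₁.mul_mem hx hx') hxx'C hc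
  have e1 : x⁻¹ * c * x = z₁ * c⁻¹ := by rw [hz₁def]; group
  have e2 : x'⁻¹ * c⁻¹ * x' = c * z₂⁻¹ := by rw [hz₂def]; group
  have e3 : z₃ = x'⁻¹ * (x⁻¹ * c * x) * x' * c := by rw [hz₃def]; group
  rw [e1] at e3
  have e4 : x'⁻¹ * (z₁ * c⁻¹) * x' * c = z₁ * (x'⁻¹ * c⁻¹ * x') * c := by
    have h1 : x'⁻¹ * z₁ = z₁ * x'⁻¹ := (Om_comm hz₁ _).symm
    calc x'⁻¹ * (z₁ * c⁻¹) * x' * c = (x'⁻¹ * z₁) * c⁻¹ * x' * c := by group
      _ = (z₁ * x'⁻¹) * c⁻¹ * x' * c := by rw [h1]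
      _ = _ := by group
  rw [e4, e2] at e3
  have e5 : z₁ * (c * z₂⁻¹) * c = z₁ * z₂⁻¹ * (c * c) := by
    have h1 : c * z₂⁻¹ = z₂⁻¹ * c := (Om_comm ((Om P).inv_mem hz₂) _).symm
    rw [h1]; group
  rw [e5] at e3
  have e6 : c * c = z₂ * z₁⁻¹ * z₃ := by rw [e3]; group
  rw [e6]
  exact (Om P).mul_mem ((Om P).mul_mem hz₂ ((Om P).inv_mem hz₁)) hz₃

omit hm in
/-- (R1) -/
theorem sR1 (hCY : CC P ≤ YY P) (x x' : P) :
    SEf co x' (co.ι ((x * x) * (x * x))) =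
      co.ι (cm x x' * cm x x') + SEf co x (co.ι (cm x x' * cm x x')) := by
  obtain ⟨w, hwdef⟩ : ∃ w, w = cm x x' := ⟨_, rfl⟩
  obtain ⟨ζ, hζdef⟩ : ∃ ζ, ζ = cm w x := ⟨_, rfl⟩
  have hwY : w ∈ YY P := by
    apply hCY
    have e : w = (x * x)⁻¹ * ((x * x'⁻¹) * (x * x'⁻¹)) * (x' * x') := by
      rw [hwdef]; unfold cm; group
    rw [e]
    exact (CC P).mul_mem ((CC P).mul_mem ((CC P).inv_mem (sq_mem_CC x)) (sq_mem_CC _))
      (sq_mem_CC x')
  have hx2 : x * x ∈ YY P := hCY (sq_mem_CC x)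
  have hζ : ζ ∈ Om P := by rw [hζdef]; exact cm_YY_mem hwY x
  have hww : w * w ∈ Om P := sq_YY_mem hwY
  rw [← hwdef, SEf_sq co h hYab hYne hx2 x', SEf_sq co h hYab hYne hwY x, ← hζdef,
    ← co.add _ hww _ hζ]
  congr 1
  have e1 : x'⁻¹ * x * x' = x * w := by rw [hwdef]; unfold cm; group
  have e2 : x⁻¹ * w * x = w * ζ := by rw [hζdef]; unfold cm; group
  have e3 : cm (x * x) x' = (x * x)⁻¹ * ((x'⁻¹ * x * x') * (x'⁻¹ * x * x')) := by
    unfold cm; group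
  rw [e3, e1]
  have e4 : (x * w) * (x * w) = x * x * ((x⁻¹ * w * x) * w) := by group
  rw [e4, e2]
  have e5 : w * ζ * w = w * w * ζ := by
    rw [mul_assoc, Om_comm hζ w, ← mul_assoc]
  rw [e5]
  group

include hd in
/-- the contradiction -/
theorem scaseB_false : False := by
  classical
  have hCY := sCC_le_YY co h hYab hYne hm
  have hYC := YY_le_CC' h hYab hYne
  obtain ⟨x₁, hx₁, hx₁1⟩ := hm.surj 1
  have hx₁C : x₁ ∉ CC P := snot_CC_of_coef co h hYab hYne hm (by rw [hx₁1]; exact one_ne_zero)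
  have hx₁Y : x₁ ∉ YY P := fun h1 => hx₁C (hYC h1)
  have hx₁sq : x₁ * x₁ ∈ Om P := ssq_H1 co h hYab hYne hm x₁ hx₁ hx₁C
  have hg : ∃ g, cm x₁ g ∉ Om P := by
    by_contra hcon
    push Not at hcon
    exact hx₁Y (mem_YY.mpr ⟨hx₁sq, hcon⟩)
  obtain ⟨g, hg⟩ := hg
  -- the function γ
  obtain ⟨γ, hγdef⟩ : ∃ γ : P → F, ∀ x, γ x = co.ι (cm x g * cm x g) := ⟨_, fun _ => rfl⟩
  have hcmY : ∀ x x' : P, cm x x' ∈ YY P := by
    intro x x'
    apply hCY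
    have e : cm x x' = (x * x)⁻¹ * ((x * x'⁻¹) * (x * x'⁻¹)) * (x' * x') := by
      unfold cm; group
    rw [e]
    exact (CC P).mul_mem ((CC P).mul_mem ((CC P).inv_mem (sq_mem_CC x)) (sq_mem_CC _))
      (sq_mem_CC x')
  have hγmul : ∀ x x'' : P, γ (x * x'') = γ x + γ x'' := by
    intro x x''
    obtain ⟨w₁, hw₁def⟩ : ∃ w₁, w₁ = cm x g := ⟨_, rfl⟩
    obtain ⟨w₂, hw₂def⟩ : ∃ w₂, w₂ = cm x'' g := ⟨_, rfl⟩
    obtain ⟨ζ, hζdef⟩ : ∃ ζ, ζ = cm w₁ x'' := ⟨_, rfl⟩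
    have hw₁ : w₁ ∈ YY P := by rw [hw₁def]; exact hcmY x g
    have hw₂ : w₂ ∈ YY P := by rw [hw₂def]; exact hcmY x'' g
    have hζ : ζ ∈ Om P := by rw [hζdef]; exact cm_YY_mem hw₁ x''
    have e1 : cm (x * x'') g = x''⁻¹ * w₁ * x'' * w₂ := by
      rw [hw₁def, hw₂def]; unfold cm; group
    have e2 : x''⁻¹ * w₁ * x'' = w₁ * ζ := by rw [hζdef]; unfold cm; group
    have e3 : w₁ * ζ * w₂ = (w₁ * w₂) * ζ := by
      rw [mul_assoc, Om_comm hζ w₂, ← mul_assoc]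
    have hζ2 : ζ * ζ = 1 := h.mem_Om_iff.mp hζ
    have e4 : ((w₁ * w₂) * ζ) * ((w₁ * w₂) * ζ) = (w₁ * w₂) * (w₁ * w₂) := by
      have h1 : ζ * (w₁ * w₂) = (w₁ * w₂) * ζ := Om_comm hζ _
      calc ((w₁ * w₂) * ζ) * ((w₁ * w₂) * ζ) = (w₁ * w₂) * (ζ * (w₁ * w₂)) * ζ := by group
        _ = (w₁ * w₂) * ((w₁ * w₂) * ζ) * ζ := by rw [h1]
        _ = (w₁ * w₂) * (w₁ * w₂) * (ζ * ζ) := by group
        _ = _ := by rw [hζ2, mul_one]
    rw [hγdef, hγdef, hγdef, e1, e2, e3, e4, sq_mul_YY hYab hw₁ hw₂, ← hw₁def, ← hw₂def,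
      co.add _ (sq_YY_mem hw₁) _ (sq_YY_mem hw₂)]
  have hγY : ∀ y ∈ YY P, γ y = 0 := by
    intro y hy
    have h1 : cm y g ∈ Om P := cm_YY_mem hy g
    rw [hγdef, h.mem_Om_iff.mp h1, co.map_one]
  have hγdep : ∀ x ∈ H₁, ∀ x' ∈ H₁, scf co x ρ₀ = scf co x' ρ₀ → γ x = γ x' := by
    intro x hx x' hx' he
    have h1 : scf co (x⁻¹ * x') ρ₀ = 0 := by
      rw [scf_mul co h hYab hYne, scf_inv co h hYab hYne, he]
      exact CharTwo.add_self_eq_zero _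
    have h2 := hCY (hm.ker co h hYab hYne _ (H₁.mul_mem (H₁.inv_mem hx) hx') h1)
    have e : x' = x * (x⁻¹ * x') := by group
    rw [e, hγmul, hγY _ h2, add_zero]
  obtain ⟨sec, hsec⟩ : ∃ sec : F → P, ∀ u, sec u ∈ H₁ ∧ scf co (sec u) ρ₀ = u :=
    ⟨fun u => Classical.choose (hm.surj u), fun u => Classical.choose_spec (hm.surj u)⟩
  let φ : F →+ F := AddMonoidHom.mk' (fun u => γ (sec u)) (by
    intro u u'
    have h1 : scf co (sec (u + u')) ρ₀ = scf co (sec u * sec u') ρ₀ := by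
      rw [scf_mul co h hYab hYne, (hsec u).2, (hsec u').2, (hsec (u + u')).2]
    rw [hγdep _ (hsec (u + u')).1 _ (H₁.mul_mem (hsec u).1 (hsec u').1) h1, hγmul])
  have hφdef : ∀ u, φ u = γ (sec u) := fun _ => rfl
  have hφeq : ∀ x ∈ H₁, φ (scf co x ρ₀) = γ x := by
    intro x hx
    rw [hφdef]
    exact hγdep _ (hsec _).1 _ hx (hsec _).2
  -- squares of elements of H₁ are in Om
  have hsqH₁ : ∀ x ∈ H₁, (x * x) * (x * x) = 1 := by
    intro x hx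
    apply h.mem_Om_iff.mp
    by_cases hxC : x ∈ CC P
    · exact sq_YY_mem (hCY hxC)
    · exact ssq_H1 co h hYab hYne hm x hx hxC
  -- (a)
  have ha : ∀ u : F, u * ρ₀ (φ u) = φ u := by
    intro u
    obtain ⟨hxH, hxu⟩ := hsec u
    have h1 := sR1 co h hYab hYne hCY (sec u) g
    rw [hsqH₁ _ hxH, co.map_one, SEf_zero co h hYab hYne, ← hγdef,
      SEf_H1 co h hYab hYne hm _ hxH, hxu, ← hφdef] at h1
    have h2 : u * ρ₀ (φ u) + φ u = 0 := by rw [add_comm]; exact h1.symm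
    exact CharTwo.add_eq_zero.mp h2
  have hφ1 : φ 1 ≠ 0 := by
    have h1 := hφeq x₁ hx₁
    rw [hx₁1] at h1
    rw [h1, hγdef]
    intro h0
    have hw : cm x₁ g ∈ YY P := hcmY x₁ g
    exact hg (h.mem_Om_iff.mpr (co.inj _ (sq_YY_mem hw) h0))
  obtain ⟨hρ₀, hφ⟩ := phi_frob ρ₀ φ ha hφ1
  -- (b')
  have hb : ∀ u : F, u * ρ₀ (co.ι ((g * g) * (g * g))) =
      φ 1 * (u * u) + ∑ ρ, scf co g ρ * ρ (φ 1 * (u * u)) := by
    intro u
    obtain ⟨hxH, hxu⟩ := hsec u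
    have h1 := sR1 co h hYab hYne hCY g (sec u)
    have hw : cm (sec u) g ∈ YY P := hcmY _ g
    have e1 : cm g (sec u) * cm g (sec u) = cm (sec u) g * cm (sec u) g := by
      rw [cm_inv (sec u) g]
      have e2 : (cm (sec u) g)⁻¹ * (cm (sec u) g)⁻¹ = (cm (sec u) g * cm (sec u) g)⁻¹ := by
        group
      rw [e2, h.Om_inv_self (sq_YY_mem hw)]
    rw [e1, ← hγdef, ← hφdef, SEf_H1 co h hYab hYne hm _ hxH, hxu, scf_spec co h hYab hYne g,
      hφ u] at h1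
    exact h1
  exact final_contra (co.exists_ne h) (φ 1) _ hφ1 (scf co g) (scf_id co h hYab hYne hd g) hb



end main

/-- all squares are central involutions -/
theorem sq_mem_Om (h : SH P Y) (hna : ∃ x y : P, x * y ≠ y * x) : ∀ x : P, x * x ∈ Om P := by
  classical
  by_cases hYab : ∀ a ∈ YY P, ∀ b ∈ YY P, a * b = b * a
  · exfalso
    have hYne := exists_YY_not_Om' h hna
    obtain ⟨F, iF, iFt, iC, ⟨co⟩⟩ := SzAx.exists_scoo h
    haveI := Cfsg.Agent.Lib.Lead.Sz2B.finite_aut (F := F)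
    letI : Fintype (F ≃+* F) := Fintype.ofFinite _
    obtain ⟨n, e, hcard, hn2, hen, hM⟩ := co.index_data h
    have hd : IdxDat co n e := ⟨hcard, hn2, hen, hM⟩
    obtain ⟨H₁, ρ₀, hm⟩ := exists_smin co h hYab hYne hd hna
    exact scaseB_false co h hYab hYne hd hm
  · push Not at hYab
    exact caseA' h hYab

end Cfsg.Agent.Lib.Helper3.Sz
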