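import Mathlib
import Cfsg.Agent.Lib.Helper3.Sz6
import Cfsg.Agent.Lib.Helper1.FrattiniP

set_option autoImplicit false
set_option maxHeartbeats 4000000
set_option maxRecDepth 100000
set_option linter.unusedVariables false
set_option linter.unusedSectionVars false
set_option linter.style.longLine false
set_option linter.style.haveILetI false
set_option linter.deprecated false

/-!
# 2-groups with a solvable group of automorphisms transitive on involutions: the main theorem
-/

namespace Cfsg.Agent.Lib.Helper3.Sz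

open Cfsg.Agent.Lib.Lead.Sz2D Cfsg.Agent.Lib.Helper1.Hg
open scoped commutatorElement

universe u

theorem main_thm {G : Type u} [Group G] [Finite G] (hG : IsPGroup 2 G)
    (hna : ¬ IsMulCommutative G)
    (htwo : ∃ x y : G, x ≠ y ∧ x ≠ 1 ∧ x ^ 2 = 1 ∧ y ≠ 1 ∧ y ^ 2 = 1)
    (hY : ∃ Y : Subgroup (MulAut G), Group.IsSolvable Y ∧
      ∀ x y : G, x ≠ 1 → x ^ 2 = 1 → y ≠ 1 → y ^ 2 = 1 → ∃ a ∈ Y, a x = y) :
    commutator G = frattini G ∧ frattini G = Subgroup.center G ∧
      ∀ x : G, x ∈ Subgroup.center G ↔ x ^ 2 = 1 := by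
  classical
  haveI : Fact (Nat.Prime 2) := ⟨Nat.prime_two⟩
  obtain ⟨Y, hsol, htr⟩ := hY
  have h : SH G Y := by
    refine ⟨inferInstance, hG, hsol, ?_, ?_⟩
    · obtain ⟨x, y, hxy, hx1, hx2, hy1, hy2⟩ := htwo
      rw [pow_two] at hx2 hy2
      exact ⟨x, y, hxy, hx1, hx2, hy1, hy2⟩
    · intro x y hx1 hx2 hy1 hy2
      rw [← pow_two] at hx2 hy2
      exact htr x y hx1 hx2 hy1 hy2
  have hna' : ∃ x y : G, x * y ≠ y * x := by
    by_contra hcon
    push Not at hcon
    exact hna ⟨⟨fun a b => hcon a b⟩⟩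
  have hsq := sq_mem_Om h hna'
  have hcm : ∀ x g : G, cm x g ∈ Om G := cm_mem_of_sq hsq
  have hZ := center_le_Om h hna'
  have hcN : commutator G ≤ Om G := by
    rw [commutator_def, Subgroup.commutator_le]
    intro a _ b _
    have e : ⁅a, b⁆ = cm a⁻¹ b⁻¹ := by
      rw [commutatorElement_def]
      unfold cm
      group
    rw [e]
    exact hcm _ _
  have hΦN : frattini G ≤ Om G :=
    Cfsg.Agent.Lib.Helper1.frattini_le_of_elementary_quotient 2 (Om G) hcN
      (fun x => by rw [pow_two]; exact hsq x)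
  have hcΦ : commutator G ≤ frattini G :=
    Cfsg.Agent.Lib.Helper1.commutator_le_frattini_of_isPGroup 2 hG
  have hNc : Om G ≤ commutator G := by
    apply h.Om_le_of_inv
    · intro k hk x hx
      have hfix := (inferInstance : (commutator G).Characteristic).fixed k
      rw [← hfix] at hx
      exact Subgroup.mem_comap.mp hx
    · obtain ⟨x, y, hxy⟩ := hna'
      refine ⟨cm x y, ?_, fun h1 => hxy (cm_eq_one_iff.mp h1)⟩
      have e : cm x y = ⁅x⁻¹, y⁻¹⁆ := by
        rw [commutatorElement_def]
        unfold cm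
        group
      rw [e, commutator_def]
      exact Subgroup.commutator_mem_commutator (Subgroup.mem_top _) (Subgroup.mem_top _)
  have h1 : commutator G = frattini G :=
    le_antisymm hcΦ (hΦN.trans hNc)
  have h2 : frattini G = Subgroup.center G := by
    apply le_antisymm
    · exact hΦN.trans (fun x hx => hx.1)
    · exact fun x hx => hcΦ (hNc (hZ x hx))
  refine ⟨h1, h2, fun x => ⟨fun hx => ?_, fun hx => ?_⟩⟩
  · rw [pow_two]
    exact (hZ x hx).2
  · rw [pow_two] at hx
    exact h.inv_central hx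

end Cfsg.Agent.Lib.Helper3.Sz
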