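import Mathlib
import Cfsg.Prelude.Def_CaseTheorems
import Cfsg.Prelude.Def_TwoFusion
import Cfsg.Agent.Lib.Helper2.HDDefs
set_option autoImplicit false

namespace Cfsg.Agent.Lib.Helper3.HD

open Cfsg.Agent.Lib.Helper2.HDDefs

theorem mem_cj {P : Type*} [Group P] (g : P) (T : Subgroup P) (x : P) :
    x ∈ cj g T ↔ ∃ t ∈ T, g * t * g⁻¹ = x := by
  unfold cj
  rw [Subgroup.mem_map]
  simp only [MulEquiv.toMonoidHom_eq_coe, MonoidHom.coe_coe, MulAut.conj_apply]

theorem card_cj {P : Type*} [Group P] (g : P) (T : Subgroup P) :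
    Nat.card ↥(cj g T) = Nat.card ↥T := by
  unfold cj
  exact Nat.card_congr
    (T.equivMapOfInjective _ (MulAut.conj g).injective).toEquiv.symm

/-- if all elements of `H` outside `K` lie in the coset `y K`, then `|H| ≤ 2 |K|` -/
theorem card_le_two_mul {P : Type*} [Group P] [Finite P] (H K : Subgroup P) (y : P)
    (h : ∀ x ∈ H, x ∉ K → y⁻¹ * x ∈ K) : Nat.card ↥H ≤ 2 * Nat.card ↥K := by
  have hsub : (H : Set P) ⊆ (K : Set P) ∪ (fun k => y * k) '' (K : Set P) := by
    intro x hx
    by_cases hxK : x ∈ K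
    · exact Or.inl hxK
    · right
      exact ⟨y⁻¹ * x, h x hx hxK, by simp⟩
  have h1 : Nat.card ↥H = (H : Set P).ncard := Nat.card_coe_set_eq (H : Set P)
  have h2 : Nat.card ↥K = (K : Set P).ncard := Nat.card_coe_set_eq (K : Set P)
  have h3 : ((fun k => y * k) '' (K : Set P)).ncard ≤ (K : Set P).ncard :=
    Set.ncard_image_le (Set.toFinite _)
  have h4 : (H : Set P).ncard ≤ ((K : Set P) ∪ (fun k => y * k) '' (K : Set P)).ncard :=
    Set.ncard_le_ncard hsub (Set.toFinite _)
  have h5 := Set.ncard_union_le (K : Set P) ((fun k => y * k) '' (K : Set P))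
  omega


theorem cj_exp {P : Type*} [Group P] (g : P) (T : Subgroup P) (hT : ∀ t ∈ T, t * t = 1) :
    ∀ x ∈ cj g T, x * x = 1 := by
  intro x hx
  obtain ⟨t, ht, rfl⟩ := (mem_cj g T x).mp hx
  have := hT t ht
  calc g * t * g⁻¹ * (g * t * g⁻¹) = g * (t * t) * g⁻¹ := by group
    _ = 1 := by rw [this]; group

theorem cj_le_of_mem_normalizer {P : Type*} [Group P] (g : P) (T N : Subgroup P) (hTN : T ≤ N)
    (hg : g ∈ Subgroup.normalizer (N : Set P)) : cj g T ≤ N := by
  intro x hx
  obtain ⟨t, ht, rfl⟩ := (mem_cj g T x).mp hx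
  exact (Subgroup.mem_normalizer_iff.mp hg t).mp (hTN ht)

theorem mem_normalizer_of_cj_eq {P : Type*} [Group P] [Finite P] (g : P) (T : Subgroup P)
    (h : cj g T ≤ T) : g ∈ Subgroup.normalizer (T : Set P) := by
  have heq : cj g T = T :=
    Subgroup.eq_of_le_of_card_ge h (le_of_eq (card_cj g T).symm)
  rw [Subgroup.mem_normalizer_iff]
  intro t
  constructor
  · intro ht
    rw [← heq]
    exact (mem_cj g T _).mpr ⟨t, ht, rfl⟩
  · intro ht
    rw [← heq] at ht
    obtain ⟨t', ht', h'⟩ := (mem_cj g T _).mp ht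
    have : t' = t := by
      have := mul_left_cancel (mul_right_cancel h')
      exact this
    exact this ▸ ht'

/-- U6b (case B): the normalizer of `N = T T'` swaps `T` and `T'`, has order at most 128 and its
subgroups of exponent 2 lie in `T`, in `T'`, or have order at most 8. -/
theorem U6b_swap {P : Type*} [Group P] [Finite P] (T T' : Subgroup P)
    (hT16 : Nat.card T = 16) (hTexp : ∀ t ∈ T, t * t = 1)
    (hT'16 : Nat.card T' = 16) (hT'exp : ∀ t ∈ T', t * t = 1) (hne : T' ≠ T)
    (hW : Nat.card ↥(T ⊓ T') = 4) (hNT : T ⊔ T' = Subgroup.normalizer (T : Set P))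
    (hN64 : Nat.card ↥(T ⊔ T' : Subgroup P) = 64)
    (hE : ∀ E : Subgroup P, E ≤ T ⊔ T' → (∀ e ∈ E, e * e = 1) → E ≤ T ∨ E ≤ T') :
    (∀ y ∈ Subgroup.normalizer ((T ⊔ T' : Subgroup P) : Set P), y ∉ T ⊔ T' →
        cj y T = T' ∧ cj y T' = T) ∧
      Nat.card ↥(Subgroup.normalizer ((T ⊔ T' : Subgroup P) : Set P)) ≤ 128 ∧
      ∀ E : Subgroup P, E ≤ Subgroup.normalizer ((T ⊔ T' : Subgroup P) : Set P) →
        (∀ e ∈ E, e * e = 1) → E ≤ T ∨ E ≤ T' ∨ Nat.card E ≤ 8 := by
  set N : Subgroup P := T ⊔ T' with hNdef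
  -- Part 1
  have part1 : ∀ y ∈ Subgroup.normalizer (N : Set P), y ∉ N → cj y T = T' ∧ cj y T' = T := by
    intro y hy hyN
    have hTy : cj y T ≤ N := cj_le_of_mem_normalizer y T N le_sup_left hy
    have hT'y : cj y T' ≤ N := cj_le_of_mem_normalizer y T' N le_sup_right hy
    have h1 : cj y T = T' := by
      rcases hE (cj y T) hTy (cj_exp y T hTexp) with h | h
      · exfalso
        apply hyN
        rw [hNT]
        exact mem_normalizer_of_cj_eq y T h
      · exact Subgroup.eq_of_le_of_card_ge h (by rw [card_cj, hT16, hT'16])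
    refine ⟨h1, ?_⟩
    rcases hE (cj y T') hT'y (cj_exp y T' hT'exp) with h | h
    · exact Subgroup.eq_of_le_of_card_ge h (by rw [card_cj, hT16, hT'16])
    · exfalso
      have h2 : cj y T' = T' := Subgroup.eq_of_le_of_card_ge h (by rw [card_cj])
      apply hne
      -- cj y T' = cj y T, so T' = T
      have h3 : cj y T' = cj y T := by rw [h1, h2]
      have hinj : Function.Injective (Subgroup.map (MulAut.conj y).toMonoidHom) :=
        Subgroup.map_injective (MulAut.conj y).injective
      exact hinj h3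
  -- key: two elements outside N in the normalizer differ by an element of N
  have key : ∀ y ∈ Subgroup.normalizer (N : Set P), y ∉ N →
      ∀ x ∈ Subgroup.normalizer (N : Set P), x ∉ N → y⁻¹ * x ∈ N := by
    intro y hy hyN x hx hxN
    have hy1 := (part1 y hy hyN).1
    have hx1 := (part1 x hx hxN).1
    rw [hNT]
    apply mem_normalizer_of_cj_eq
    intro z hz
    obtain ⟨t, ht, rfl⟩ := (mem_cj _ T z).mp hz
    -- x t x⁻¹ ∈ T' = cj y T
    have h1 : x * t * x⁻¹ ∈ cj y T := by
      rw [hy1, ← hx1]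
      exact (mem_cj x T _).mpr ⟨t, ht, rfl⟩
    obtain ⟨t2, ht2, h2⟩ := (mem_cj y T _).mp h1
    have : y⁻¹ * x * t * (y⁻¹ * x)⁻¹ = t2 := by
      calc y⁻¹ * x * t * (y⁻¹ * x)⁻¹ = y⁻¹ * (x * t * x⁻¹) * y := by group
        _ = y⁻¹ * (y * t2 * y⁻¹) * y := by rw [h2]
        _ = t2 := by group
    rw [this]
    exact ht2
  refine ⟨part1, ?_, ?_⟩
  · -- Part 2
    by_cases hex : ∃ y ∈ Subgroup.normalizer (N : Set P), y ∉ N
    · obtain ⟨y, hy, hyN⟩ := hex
      have := card_le_two_mul (Subgroup.normalizer (N : Set P)) N y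
        (fun x hx hxN => key y hy hyN x hx hxN)
      rw [hN64] at this
      omega
    · have hle : Subgroup.normalizer (N : Set P) ≤ N := by
        intro x hx
        by_contra hxN
        exact hex ⟨x, hx, hxN⟩
      have := Subgroup.card_le_of_le hle
      rw [hN64] at this
      omega
  · -- Part 3
    intro E hEN1 hEexp
    by_cases hEN : E ≤ N
    · rcases hE E hEN hEexp with h | h
      · exact Or.inl h
      · exact Or.inr (Or.inl h)
    · right; right
      obtain ⟨y, hyE, hyN⟩ := SetLike.not_le_iff_exists.mp hEN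
      have hyN1 := hEN1 hyE
      obtain ⟨hy1, hy2⟩ := part1 y hyN1 hyN
      -- E is commutative
      have hcomm : ∀ a ∈ E, ∀ b ∈ E, a * b = b * a := by
        intro a ha b hb
        have h1 := hEexp a ha
        have h2 := hEexp b hb
        have h3 := hEexp (a * b) (E.mul_mem ha hb)
        have ha' : a⁻¹ = a := inv_eq_of_mul_eq_one_right h1
        have hb' : b⁻¹ = b := inv_eq_of_mul_eq_one_right h2
        have : (a * b)⁻¹ = a * b := inv_eq_of_mul_eq_one_right h3
        rw [mul_inv_rev, ha', hb'] at this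
        exact this.symm
      have hEW : E ⊓ N ≤ T ⊓ T' := by
        have hsub : E ⊓ N ≤ N := inf_le_right
        have hexp : ∀ e ∈ E ⊓ N, e * e = 1 := fun e he => hEexp e he.1
        have hfix : ∀ e ∈ E ⊓ N, y * e * y⁻¹ = e := by
          intro e he
          rw [hcomm y hyE e he.1, mul_inv_cancel_right]
        rcases hE (E ⊓ N) hsub hexp with h | h
        · intro e he
          refine ⟨h he, ?_⟩
          rw [← hy1]
          exact (mem_cj y T e).mpr ⟨e, h he, hfix e he⟩
        · intro e he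
          refine ⟨?_, h he⟩
          rw [← hy2]
          exact (mem_cj y T' e).mpr ⟨e, h he, hfix e he⟩
      have h1 := card_le_two_mul E (E ⊓ N) y (by
        intro x hx hxN
        have hxN' : x ∉ N := fun h => hxN ⟨hx, h⟩
        exact ⟨E.mul_mem (E.inv_mem hyE) hx, key y hyN1 hyN x (hEN1 hx) hxN'⟩)
      have h2 := Subgroup.card_le_of_le hEW
      rw [hW] at h2
      omega

end Cfsg.Agent.Lib.Helper3.HD
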