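import Mathlib
import Cfsg.Prelude.Def_CaseTheorems
import Cfsg.Prelude.Def_TwoFusion
import Cfsg.Agent.Lib.Helper2.HDDefs
import Cfsg.Agent.Lib.Helper3.HDU6b
set_option autoImplicit false

namespace Cfsg.Agent.Lib.Helper3.HD

open Cfsg.Agent.Lib.Helper2.HDDefs

/-- U6c (case B): the normalizer of `N = T T'` is all of `P`. -/
theorem U6c_top {P : Type*} [Group P] [Finite P] (hP : IsPGroup 2 P) (T T' : Subgroup P)
    (hT16 : Nat.card T = 16) (hTexp : ∀ t ∈ T, t * t = 1)
    (hT'16 : Nat.card T' = 16) (hT'exp : ∀ t ∈ T', t * t = 1)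
    (hE1 : ∀ E : Subgroup P, E ≤ Subgroup.normalizer ((T ⊔ T' : Subgroup P) : Set P) →
        (∀ e ∈ E, e * e = 1) → E ≤ T ∨ E ≤ T' ∨ Nat.card E ≤ 8) :
    Subgroup.normalizer ((T ⊔ T' : Subgroup P) : Set P) = ⊤ := by
  have : Fact (Nat.Prime 2) := ⟨Nat.prime_two⟩
  have hnil : Group.IsNilpotent P := hP.isNilpotent
  have hnc : NormalizerCondition P := Group.normalizerCondition_of_isNilpotent
  rw [normalizerCondition_iff_only_full_group_self_normalizing] at hnc
  apply hnc
  set N : Subgroup P := T ⊔ T' with hNdef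
  set N1 : Subgroup P := Subgroup.normalizer (N : Set P) with hN1
  apply le_antisymm _ Subgroup.le_normalizer
  intro g hg
  have hNN1 : N ≤ N1 := Subgroup.le_normalizer
  have hTN1 : T ≤ N1 := le_sup_left.trans hNN1
  have hT'N1 : T' ≤ N1 := le_sup_right.trans hNN1
  have h1 : cj g T ≤ N := by
    have hle : cj g T ≤ N1 := cj_le_of_mem_normalizer g T N1 hTN1 hg
    rcases hE1 (cj g T) hle (cj_exp g T hTexp) with h | h | h
    · exact h.trans le_sup_left
    · exact h.trans le_sup_right
    · rw [card_cj, hT16] at h; omega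
  have h2 : cj g T' ≤ N := by
    have hle : cj g T' ≤ N1 := cj_le_of_mem_normalizer g T' N1 hT'N1 hg
    rcases hE1 (cj g T') hle (cj_exp g T' hT'exp) with h | h | h
    · exact h.trans le_sup_left
    · exact h.trans le_sup_right
    · rw [card_cj, hT'16] at h; omega
  apply mem_normalizer_of_cj_eq
  have : cj g N = cj g T ⊔ cj g T' := Subgroup.map_sup T T' _
  rw [this]
  exact sup_le h1 h2

end Cfsg.Agent.Lib.Helper3.HD
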