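import Mathlib

/-!
# Self-dual coprime modules: basic tools
-/

set_option autoImplicit false

namespace Cfsg.Agent.Lib.Helper3.SelfDual

open Module LinearMap

variable {F : Type*} [Field F] {G : Type*} [Group G] {V : Type*} [AddCommGroup V] [Module F V]

/-- invariant submodule -/
def Inv (ρ : Representation F G V) (N : Submodule F V) : Prop := ∀ g : G, ∀ v ∈ N, ρ g v ∈ N

theorem Inv.inf {ρ : Representation F G V} {N M : Submodule F V} (hN : Inv ρ N) (hM : Inv ρ M) :
    Inv ρ (N ⊓ M) := fun g v hv => ⟨hN g v hv.1, hM g v hv.2⟩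

theorem Inv.sup {ρ : Representation F G V} {N M : Submodule F V} (hN : Inv ρ N) (hM : Inv ρ M) :
    Inv ρ (N ⊔ M) := by
  intro g v hv
  obtain ⟨a, ha, b, hb, rfl⟩ := Submodule.mem_sup.1 hv
  rw [map_add]
  exact Submodule.add_mem_sup (hN g a ha) (hM g b hb)

theorem inv_bot (ρ : Representation F G V) : Inv ρ ⊥ := by
  intro g v hv
  rw [Submodule.mem_bot] at hv ⊢
  rw [hv, map_zero]

theorem inv_top (ρ : Representation F G V) : Inv ρ ⊤ := fun _ _ _ => Submodule.mem_top

/-- Maschke -/
theorem exists_inv_compl [Finite G] [NeZero (Nat.card G : F)] (ρ : Representation F G V)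
    {N : Submodule F V} (hN : Inv ρ N) : ∃ C : Submodule F V, Inv ρ C ∧ IsCompl N C := by
  obtain ⟨τ, hτ⟩ := exists_isCompl (⟨N, fun g v hv => hN g v hv⟩ : Subrepresentation ρ)
  refine ⟨τ.toSubmodule, fun g v hv => τ.apply_mem_toSubmodule g hv, ?_⟩
  constructor
  · rw [disjoint_iff]
    have := hτ.inf_eq_bot
    exact congrArg Subrepresentation.toSubmodule this
  · rw [codisjoint_iff]
    have := hτ.sup_eq_top
    exact congrArg Subrepresentation.toSubmodule this

/-- minimal invariant submodule -/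
def IsMinInv (ρ : Representation F G V) (X : Submodule F V) : Prop :=
  X ≠ ⊥ ∧ Inv ρ X ∧ ∀ Y : Submodule F V, Inv ρ Y → Y ≤ X → Y = ⊥ ∨ Y = X

theorem exists_minInv [FiniteDimensional F V] (ρ : Representation F G V) {N : Submodule F V}
    (hN : Inv ρ N) (hN0 : N ≠ ⊥) : ∃ X : Submodule F V, X ≤ N ∧ IsMinInv ρ X := by
  let S : Set (Submodule F V) := {Y | Y ≠ ⊥ ∧ Inv ρ Y ∧ Y ≤ N}
  have hS : S.Nonempty := ⟨N, hN0, hN, le_rfl⟩
  obtain ⟨X, hXS, hXmin⟩ := WellFounded.has_min (wellFounded_lt (α := Submodule F V)) S hS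
  refine ⟨X, hXS.2.2, hXS.1, hXS.2.1, ?_⟩
  intro Y hY hYX
  by_cases h0 : Y = ⊥
  · exact Or.inl h0
  · right
    have hYS : Y ∈ S := ⟨h0, hY, hYX.trans hXS.2.2⟩
    have := hXmin Y hYS
    by_contra hne
    exact this (lt_of_le_of_ne hYX hne)

/-- `X → Dual X`-type representability: if the right kernel of `γ` on `X × Y` in `Y` is trivial
and `finrank X ≤ finrank Y`, every functional on `X` is `γ(·, y)`. -/
theorem exists_repr_right (γ : LinearMap.BilinForm F V) (X Y : Submodule F V)
    [FiniteDimensional F X] [FiniteDimensional F Y]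
    (hker : ∀ y ∈ Y, (∀ x ∈ X, γ x y = 0) → y = 0) (hrank : finrank F X ≤ finrank F Y)
    (f : Module.Dual F X) : ∃ y ∈ Y, ∀ x : X, f x = γ x y := by
  let φ : Y →ₗ[F] Module.Dual F X :=
    { toFun := fun y => (γ.flip (y : V)).comp X.subtype
      map_add' := by intro a b; ext x; simp
      map_smul' := by intro c a; ext x; simp }
  have hinj : Function.Injective φ := by
    rw [injective_iff_map_eq_zero]
    intro y hy
    apply Subtype.ext
    apply hker y y.2
    intro x hx
    have := LinearMap.congr_fun hy ⟨x, hx⟩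
    simpa [φ] using this
  have hle : finrank F Y ≤ finrank F (Module.Dual F X) :=
    LinearMap.finrank_le_finrank_of_injective hinj
  rw [Subspace.dual_finrank_eq] at hle
  have heq : finrank F Y = finrank F (Module.Dual F X) := by
    rw [Subspace.dual_finrank_eq]; exact le_antisymm hle hrank
  have hsurj : Function.Surjective φ :=
    (LinearMap.injective_iff_surjective_of_finrank_eq_finrank heq).1 hinj
  obtain ⟨y, hy⟩ := hsurj f
  refine ⟨y, y.2, fun x => ?_⟩
  rw [← hy]
  simp [φ]

theorem finrank_le_of_ker_right (γ : LinearMap.BilinForm F V) (X Y : Submodule F V)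
    [FiniteDimensional F X] [FiniteDimensional F Y]
    (hker : ∀ y ∈ Y, (∀ x ∈ X, γ x y = 0) → y = 0) : finrank F Y ≤ finrank F X := by
  let φ : Y →ₗ[F] Module.Dual F X :=
    { toFun := fun y => (γ.flip (y : V)).comp X.subtype
      map_add' := by intro a b; ext x; simp
      map_smul' := by intro c a; ext x; simp }
  have hinj : Function.Injective φ := by
    rw [injective_iff_map_eq_zero]
    intro y hy
    apply Subtype.ext
    apply hker y y.2
    intro x hx
    have := LinearMap.congr_fun hy ⟨x, hx⟩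
    simpa [φ] using this
  have hle : finrank F Y ≤ finrank F (Module.Dual F X) :=
    LinearMap.finrank_le_finrank_of_injective hinj
  rwa [Subspace.dual_finrank_eq] at hle

/-- left versions, via flip -/
theorem exists_repr_left (γ : LinearMap.BilinForm F V) (X Y : Submodule F V)
    [FiniteDimensional F X] [FiniteDimensional F Y]
    (hker : ∀ y ∈ Y, (∀ x ∈ X, γ y x = 0) → y = 0) (hrank : finrank F X ≤ finrank F Y)
    (f : Module.Dual F X) : ∃ y ∈ Y, ∀ x : X, f x = γ y x := by
  obtain ⟨y, hy, h⟩ := exists_repr_right γ.flip X Y (by simpa using hker) hrank f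
  exact ⟨y, hy, by simpa using h⟩

theorem finrank_le_of_ker_left (γ : LinearMap.BilinForm F V) (X Y : Submodule F V)
    [FiniteDimensional F X] [FiniteDimensional F Y]
    (hker : ∀ y ∈ Y, (∀ x ∈ X, γ y x = 0) → y = 0) : finrank F Y ≤ finrank F X :=
  finrank_le_of_ker_right γ.flip X Y (by simpa using hker)

/-- right-nondegenerate on a finite-dimensional subspace implies left-nondegenerate -/
theorem lnondeg_of_rnondeg (γ : LinearMap.BilinForm F V) (N : Submodule F V)
    [FiniteDimensional F N] (h : ∀ w ∈ N, (∀ y ∈ N, γ y w = 0) → w = 0) :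
    ∀ w ∈ N, (∀ y ∈ N, γ w y = 0) → w = 0 := by
  intro w hw hw0
  by_contra hne
  have hne' : (⟨w, hw⟩ : N) ≠ 0 := fun h0 => hne (congrArg Subtype.val h0)
  obtain ⟨f, hf⟩ : ∃ f : Module.Dual F N, f ⟨w, hw⟩ ≠ 0 := by
    by_contra hcon
    push Not at hcon
    exact hne' ((Module.forall_dual_apply_eq_zero_iff F _).1 hcon)
  obtain ⟨y, hy, hfy⟩ := exists_repr_right γ N N h le_rfl f
  apply hf
  rw [hfy]
  exact hw0 y hy

theorem rnondeg_of_lnondeg (γ : LinearMap.BilinForm F V) (N : Submodule F V)
    [FiniteDimensional F N] (h : ∀ w ∈ N, (∀ y ∈ N, γ w y = 0) → w = 0) :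
    ∀ w ∈ N, (∀ y ∈ N, γ y w = 0) → w = 0 := by
  have := lnondeg_of_rnondeg γ.flip N (by simpa using h)
  simpa using this

/-- equivariance of the projection for invariant complementary subspaces -/
theorem projection_equivariant (ρ : Representation F G V) {P Q : Submodule F V}
    (hPQ : IsCompl P Q) (hP : Inv ρ P) (hQ : Inv ρ Q) (g : G) (v : V) :
    P.projection Q hPQ (ρ g v) = ρ g (P.projection Q hPQ v) := by
  have h1 := Submodule.projection_add_projection_eq_self hPQ v
  have h2 : ρ g v = ρ g (P.projection Q hPQ v) + ρ g (Q.projection P hPQ.symm v) := by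
    rw [← map_add, h1]
  rw [h2, map_add]
  have h3 : P.projection Q hPQ (ρ g (P.projection Q hPQ v)) = ρ g (P.projection Q hPQ v) :=
    (Submodule.projection_eq_self_iff hPQ _).2 (hP g _ (Submodule.projection_apply_mem hPQ v))
  have h4 : P.projection Q hPQ (ρ g (Q.projection P hPQ.symm v)) = 0 :=
    (Submodule.projection_apply_eq_zero_iff hPQ).2
      (hQ g _ (Submodule.projection_apply_mem hPQ.symm v))
  rw [h3, h4, add_zero]

end Cfsg.Agent.Lib.Helper3.SelfDual
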