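import Mathlib
import Cfsg.Agent.Lib.Helper6.CliffordStab
import Cfsg.Agent.Lib.Helper6.CharBasic
import Cfsg.Agent.Lib.Helper6.CenterIndex
import Cfsg.Agent.Lib.Helper6.Linear
import Cfsg.Agent.Lib.Helper6.Constituent
import Cfsg.Agent.Lib.Helper6.BLLin
import Cfsg.Agent.Lib.Helper6.Ito
import Cfsg.Agent.Lib.Helper6.CharMisc
import Cfsg.Agent.Lib.Helper6.Mult

set_option autoImplicit false
set_option linter.unusedSectionVars false
open Cfsg

/-! Primitive faithful characters of degree two: character-theoretic part. -/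

namespace Cfsg.Agent.Lib.Helper3.Prim2

open Cfsg.Agent.Lib.Helper6
open scoped ComplexConjugate

/-- a character of degree two is irreducible or a sum of two linear characters -/
theorem deg_two_cases {K : Type*} [Group K] [Fintype K] {ψ : K → ℂ} (hψ : IsCharacter K ψ)
    (h2 : ψ 1 = 2) :
    IsIrrCharacter K ψ ∨ ∃ l m : K →* ℂˣ, ∀ k, ψ k = ((l k : ℂˣ) : ℂ) + ((m k : ℂˣ) : ℂ) := by
  obtain ⟨θ, hθ⟩ := IsCharacter.exists_constituent hψ (by rw [h2]; norm_num)
  obtain ⟨B, hB, hAB⟩ := IsCharacter.exists_eq_add_of_constituent hψ θ.2 hθ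
  have hθ1 := IsCharacter.apply_one_eq_charDegree (IsIrrCharacter.isCharacter θ.2)
  have hB1 := IsCharacter.apply_one_eq_charDegree hB
  have hpos := IsIrrCharacter.charDegree_pos θ.2
  have hsum : (charDegree (θ : K → ℂ) : ℂ) + (charDegree B : ℂ) = 2 := by
    rw [← hθ1, ← hB1, ← h2, hAB]; rfl
  have hsum' : charDegree (θ : K → ℂ) + charDegree B = 2 := by exact_mod_cast hsum
  have hcases : (charDegree (θ : K → ℂ) = 1 ∧ charDegree B = 1) ∨
      (charDegree (θ : K → ℂ) = 2 ∧ charDegree B = 0) := by omega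
  rcases hcases with ⟨h1, h1'⟩ | ⟨h1, h1'⟩
  · right
    have hθ11 : (θ : K → ℂ) 1 = 1 := by rw [hθ1, h1]; norm_num
    have hB11 : B 1 = 1 := by rw [hB1, h1']; norm_num
    refine ⟨linearCharHom (IsIrrCharacter.isCharacter θ.2) hθ11, linearCharHom hB hB11, ?_⟩
    intro k
    rw [linearCharHom_apply, linearCharHom_apply, hAB]; rfl
  · left
    have hB0 : B 1 = 0 := by rw [hB1, h1']; norm_num
    have := IsCharacter.eq_zero_of_apply_one_eq_zero hB hB0
    rw [hAB, this, add_zero]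
    exact θ.2

variable {G : Type*} [Group G] [Fintype G]

/-- an element where a faithful irreducible character has maximal absolute value is central -/
theorem mem_center_of_norm_eq {χ : G → ℂ} (hχ : IsIrrCharacter G χ)
    (hfaith : ∀ g : G, χ g = χ 1 → g = 1) {x : G} (hx : ‖χ x‖ = ‖χ 1‖) :
    x ∈ Subgroup.center G := by
  obtain ⟨n, ρ, hirr, rfl⟩ := hχ
  have h1 : ρ.character 1 = (Module.finrank ℂ (Fin n → ℂ) : ℂ) := Representation.char_one ρ
  have hx' : ‖ρ.character x‖ = (Module.finrank ℂ (Fin n → ℂ) : ℝ) := by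
    rw [hx, h1]; simp
  obtain ⟨ω, hω⟩ := (norm_character_eq_iff ρ x).mp hx'
  rw [Subgroup.mem_center_iff]
  intro g
  have hk : ρ (x * g * x⁻¹ * g⁻¹) = LinearMap.id := by
    have hcomm : ρ x * ρ g = ρ g * ρ x := by
      rw [hω]
      ext v
      simp
    have : ρ (x * g * x⁻¹ * g⁻¹) = ρ (g * x * x⁻¹ * g⁻¹) := by
      rw [map_mul, map_mul, map_mul, hcomm, ← map_mul, ← map_mul, ← map_mul]
    rw [this]
    have : g * x * x⁻¹ * g⁻¹ = 1 := by group
    rw [this, map_one]; rfl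
  have := (character_eq_finrank_iff ρ (x * g * x⁻¹ * g⁻¹)).mpr hk
  have h := hfaith _ (this.trans h1.symm)
  have : x * g = g * x := by
    have h' : x * g * x⁻¹ * g⁻¹ * (g * x) = g * x := by rw [h, one_mul]
    rw [← h']; group
  exact this.symm

/-- restriction of a degree-two character to an abelian subgroup -/
theorem two_homs (A : Subgroup G) (hA : ∀ a ∈ A, ∀ b ∈ A, a * b = b * a) {χ : G → ℂ}
    (hχ : IsCharacter G χ) (h2 : χ 1 = 2) :
    ∃ l m : A →* ℂˣ, ∀ a : A, χ a = ((l a : ℂˣ) : ℂ) + ((m a : ℂˣ) : ℂ) := by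
  classical
  have hres : IsCharacter A (fun a : A => χ a) := IsCharacter.restrict A hχ
  rcases deg_two_cases hres (by simpa using h2) with hirr | h
  · exfalso
    obtain ⟨n, ρ, hirr', hρ⟩ := hirr
    haveI := hirr'
    have hcomm : ∀ a b : A, a * b = b * a := by
      intro a b
      exact Subtype.ext (hA a a.2 b b.2)
    have h1 := finrank_eq_one_of_comm hcomm ρ
    have h3 : ρ.character 1 = (Module.finrank ℂ (Fin n → ℂ) : ℂ) := Representation.char_one ρ
    rw [h1] at h3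
    have h4 : ρ.character 1 = 2 := by
      rw [hρ]; simpa using h2
    rw [h4] at h3
    norm_num at h3
  · exact h

theorem hom_comm_eq_one {K : Type*} [Group K] (l : K →* ℂˣ) (c d : K) :
    l (c * d * c⁻¹ * d⁻¹) = 1 := by
  rw [map_mul, map_mul, map_mul, map_inv, map_inv]
  rw [mul_comm (l c) (l d), mul_assoc (l d), mul_inv_cancel, mul_one, mul_inv_cancel]

/-- H1: centralizers of noncentral elements are abelian -/
theorem centralizer_comm {χ : G → ℂ} (hχ : IsIrrCharacter G χ)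
    (hfaith : ∀ g : G, χ g = χ 1 → g = 1) (h2 : χ 1 = 2) {x : G}
    (hx : x ∉ Subgroup.center G) :
    ∀ c ∈ Subgroup.centralizer ({x} : Set G), ∀ d ∈ Subgroup.centralizer ({x} : Set G),
      c * d = d * c := by
  classical
  set C := Subgroup.centralizer ({x} : Set G) with hC
  have hres : IsCharacter C (fun a : C => χ a) :=
    IsCharacter.restrict C (IsIrrCharacter.isCharacter hχ)
  have hxC : x ∈ C := by
    rw [hC, Subgroup.mem_centralizer_iff]
    intro h hh
    rw [Set.mem_singleton_iff] at hh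
    rw [hh]
  rcases deg_two_cases hres (by simpa using h2) with hirr | ⟨l, m, hlm⟩
  · exfalso
    apply hx
    apply mem_center_of_norm_eq hχ hfaith
    obtain ⟨n, ρ, hirr', hρ⟩ := hirr
    haveI := hirr'
    have hz : (⟨x, hxC⟩ : C) ∈ Subgroup.center C := by
      rw [Subgroup.mem_center_iff]
      intro g
      have h' := (Subgroup.mem_centralizer_iff.mp g.2) x (Set.mem_singleton x)
      exact Subtype.ext h'.symm
    obtain ⟨c, hc, _⟩ := exists_scalar_of_mem_center ρ hz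
    have h3 := (norm_character_eq_iff ρ ⟨x, hxC⟩).mpr ⟨c, hc⟩
    have h1 : ρ.character 1 = (Module.finrank ℂ (Fin n → ℂ) : ℂ) := Representation.char_one ρ
    have e1 : χ x = ρ.character ⟨x, hxC⟩ := by rw [hρ]
    have e2 : χ 1 = ρ.character 1 := by rw [hρ]; rfl
    rw [e1, e2, h3, h1]; simp
  · intro c hc d hd
    have hk : c * d * c⁻¹ * d⁻¹ ∈ C :=
      C.mul_mem (C.mul_mem (C.mul_mem hc hd) (C.inv_mem hc)) (C.inv_mem hd)
    have h3 := hlm ⟨c * d * c⁻¹ * d⁻¹, hk⟩
    have e : (⟨c * d * c⁻¹ * d⁻¹, hk⟩ : C) = ⟨c, hc⟩ * ⟨d, hd⟩ * ⟨c, hc⟩⁻¹ * ⟨d, hd⟩⁻¹ := rfl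
    rw [e, hom_comm_eq_one, hom_comm_eq_one] at h3
    have h4 : χ (c * d * c⁻¹ * d⁻¹) = χ 1 := by
      rw [h2]
      simp only [Units.val_one] at h3
      have e2 : χ (c * d * c⁻¹ * d⁻¹) = 1 + 1 := h3
      rw [e2]; norm_num
    have h := hfaith _ h4
    have h' : c * d * c⁻¹ * d⁻¹ * (d * c) = d * c := by rw [h, one_mul]
    rw [← h']; group

/-- key lemma: an element normalizing the abelian subgroup `A` and fixing one of the two linear
constituents centralizes `A` -/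
theorem commute_of_fix {χ : G → ℂ} (hχ : IsIrrCharacter G χ)
    (hfaith : ∀ g : G, χ g = χ 1 → g = 1) (h2 : χ 1 = 2) (A : Subgroup G)
    (l m : A →* ℂˣ) (hlm : ∀ a : A, χ a = ((l a : ℂˣ) : ℂ) + ((m a : ℂˣ) : ℂ))
    (g : G) (hg : ∀ a ∈ A, g * a * g⁻¹ ∈ A)
    (hl : ∀ a : A, l ⟨g * a * g⁻¹, hg a a.2⟩ = l a) :
    ∀ a ∈ A, g * a = a * g := by
  have hcl := IsIrrCharacter.isClassFunction hχ
  have hm : ∀ a : A, m ⟨g * a * g⁻¹, hg a a.2⟩ = m a := by
    intro a
    have h3 := hlm ⟨g * a * g⁻¹, hg a a.2⟩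
    have h4 := hlm a
    have h5 : χ (g * a * g⁻¹) = χ a := hcl a g
    simp only at h3
    rw [h5, h4, hl a] at h3
    have := add_left_cancel h3
    exact (Units.ext this).symm
  intro a ha
  have hk : g * a * g⁻¹ * a⁻¹ ∈ A := A.mul_mem (hg a ha) (A.inv_mem ha)
  have h3 := hlm ⟨g * a * g⁻¹ * a⁻¹, hk⟩
  have e : (⟨g * a * g⁻¹ * a⁻¹, hk⟩ : A) = ⟨g * a * g⁻¹, hg a ha⟩ * (⟨a, ha⟩ : A)⁻¹ := rfl
  rw [e, map_mul, map_mul, map_inv, map_inv, hl ⟨a, ha⟩, hm ⟨a, ha⟩, mul_inv_cancel,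
    mul_inv_cancel] at h3
  have h4 : χ (g * a * g⁻¹ * a⁻¹) = χ 1 := by
    rw [h2]
    simp only [Units.val_one] at h3
    have e2 : χ (g * a * g⁻¹ * a⁻¹) = 1 + 1 := h3
    rw [e2]; norm_num
  have h := hfaith _ h4
  have h' : g * a * g⁻¹ * a⁻¹ * (a * g) = a * g := by rw [h, one_mul]
  rw [← h']; group

end Cfsg.Agent.Lib.Helper3.Prim2
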