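import Mathlib
import Cfsg.Prelude
import Cfsg.Agent.Lib.Helper7.OMMNorm

set_option autoImplicit false
set_option linter.unusedSectionVars false
set_option linter.unusedVariables false
set_option linter.style.haveILetI false
open Cfsg

/-!
Farm OMM (statement S2346), unit LINE (Case C, step d): in the singular multiplicity-one
configuration the group `U'` acts trivially on the eigenline of the character `e₂` of `U`.
-/

namespace Cfsg.Agent.Lib.Helper3.OMMLine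

open Matrix QuadraticMap Cfsg.Agent.Lib.Helper5.CartanDieudonne Cfsg.Agent.Lib.Helper5.Refl
  Cfsg.Agent.Lib.Helper5.OrthCard Cfsg.Agent.Lib.Helper5.Siegel Cfsg.Agent.Lib.Helper5.QuadIsom
  Cfsg.Agent.Lib.Helper5.ReflGen Cfsg.Agent.Lib.Helper5.Eichler Cfsg.Agent.Lib.Helper5.SingGeom
  Cfsg.Agent.Lib.Helper5.OmegaGen Cfsg.Agent.Lib.Helper5.OmegaSimple Cfsg.Agent.Lib.Helper1.OMMG
  Cfsg.Agent.Lib.Helper1.OMMI Cfsg.Agent.Lib.Helper2.OMM Cfsg.Agent.Lib.Helper7.OMM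

/-! ### abstract part: a line stabilised by a group -/

section abstract
variable {G : Type*} [Group G] {V : Type*} [AddCommGroup V] [Module ℂ V]
  (ρ : Representation ℂ G V) (P : Module.End ℂ V) (x₀ : V)

theorem rho_inv_apply (g : G) (v : V) : ρ g⁻¹ (ρ g v) = v := by
  rw [← Module.End.mul_apply, ← map_mul, inv_mul_cancel, map_one]
  rfl

theorem rho_apply_inv (g : G) (v : V) : ρ g (ρ g⁻¹ v) = v := by
  rw [← Module.End.mul_apply, ← map_mul, mul_inv_cancel, map_one]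
  rfl

theorem rho_injective (g : G) : Function.Injective (ρ g) := by
  intro v w h
  have := congrArg (ρ g⁻¹) h
  rwa [rho_inv_apply, rho_inv_apply] at this

theorem comm_inv (g : G) (hg : ρ g * P = P * ρ g) : ρ g⁻¹ * P = P * ρ g⁻¹ := by
  have h1 : ρ g⁻¹ * (ρ g * P) * ρ g⁻¹ = ρ g⁻¹ * (P * ρ g) * ρ g⁻¹ := by rw [hg]
  rw [← mul_assoc, ← map_mul, inv_mul_cancel, map_one, one_mul, mul_assoc, mul_assoc, ← map_mul,
    mul_inv_cancel, map_one, mul_one] at h1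
  exact h1.symm

theorem scalar_of_comm (hfix : P x₀ = x₀) (hspan : ∀ v, ∃ a : ℂ, P v = a • x₀) (g : G)
    (hg : ρ g * P = P * ρ g) : ∃ μ : ℂ, ρ g x₀ = μ • x₀ := by
  obtain ⟨a, ha⟩ := hspan (ρ g x₀)
  refine ⟨a, ?_⟩
  have h2 : (ρ g * P) x₀ = (P * ρ g) x₀ := by rw [hg]
  rw [Module.End.mul_apply, Module.End.mul_apply, hfix] at h2
  rw [h2, ha]

/-- conjugation does not change the scalar on the line -/
theorem conj_fix (hx0 : x₀ ≠ 0) (hfix : P x₀ = x₀) (hspan : ∀ v, ∃ a : ℂ, P v = a • x₀) (g h : G)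
    (hg : ρ g * P = P * ρ g) (hh : ρ h * P = P * ρ h) :
    ρ (g * h * g⁻¹) x₀ = ρ h x₀ := by
  obtain ⟨γ, hγ⟩ := scalar_of_comm ρ P x₀ hfix hspan g hg
  obtain ⟨ν, hν⟩ := scalar_of_comm ρ P x₀ hfix hspan g⁻¹ (comm_inv ρ P g hg)
  obtain ⟨μ, hμ⟩ := scalar_of_comm ρ P x₀ hfix hspan h hh
  have e1 : ν * γ = 1 := by
    have h3 := rho_inv_apply ρ g x₀
    rw [hγ, map_smul, hν, smul_smul] at h3
    have h4 : (γ * ν - 1) • x₀ = 0 := by rw [sub_smul, h3, one_smul, sub_self]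
    rcases smul_eq_zero.mp h4 with h5 | h5
    · rw [mul_comm]; exact sub_eq_zero.mp h5
    · exact absurd h5 hx0
  rw [map_mul, map_mul, Module.End.mul_apply, Module.End.mul_apply, hν, map_smul, hμ, map_smul,
    map_smul, hγ, smul_smul, smul_smul]
  congr 1
  linear_combination μ * e1

end abstract

/-! ### the tower -/

section tower
variable {F : Type*} [Field F] [Fintype F] [DecidableEq F]
variable {κ : Type} [Fintype κ] [DecidableEq κ] {Qc : QuadraticForm F (κ → F)}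

theorem Q3_e3 : Q3 Qc (em2 (eH F κ)) = 0 :=
  ext0_sing (Q2 Qc) (ext0_sing (Q1 Qc) (hypExt_eH Qc))

theorem Q3_f3 : Q3 Qc (em2 (fH F κ)) = 0 :=
  ext0_sing (Q2 Qc) (ext0_sing (Q1 Qc) (hypExt_fH Qc))

theorem polar_e3_em3 (b : κ → F) : polar ⇑(Q3 Qc) (em2 (eH F κ)) (em2 (ext0 b)) = 0 :=
  ext0_perp (Q2 Qc) (ext0_perp (Q1 Qc) (polar_eH_ext0 Qc b))

theorem polar_f3_em3 (b : κ → F) : polar ⇑(Q3 Qc) (em2 (fH F κ)) (em2 (ext0 b)) = 0 :=
  ext0_perp (Q2 Qc) (ext0_perp (Q1 Qc) (Cfsg.Agent.Lib.Helper5.OMMLevi.polar_fH_ext0 Qc b))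

/-- `E_{e₃,b}` on `W'` -/
theorem eE_ext0 (b b' : κ → F) :
    eichlerMap (Q1 Qc) (eH F κ) (ext0 b) (ext0 b') =
      ext0 b' + (-(polar ⇑Qc b b')) • eH F κ := by
  rw [eichlerMap_apply, polar_eH_ext0, Cfsg.Agent.Lib.Helper5.OMMLevi.polar_ext0_ext0]
  simp

theorem fE_ext0 (b b' : κ → F) :
    eichlerMap (Q1 Qc) (fH F κ) (ext0 b) (ext0 b') =
      ext0 b' + (-(polar ⇑Qc b b')) • fH F κ := by
  rw [eichlerMap_apply, Cfsg.Agent.Lib.Helper5.OMMLevi.polar_fH_ext0,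
    Cfsg.Agent.Lib.Helper5.OMMLevi.polar_ext0_ext0]
  simp

theorem eE_fH (b : κ → F) :
    eichlerMap (Q1 Qc) (eH F κ) (ext0 b) (fH F κ) =
      fH F κ + (ext0 b + (-(Qc b)) • eH F κ) := by
  rw [eichlerMap_apply, Cfsg.Agent.Lib.Helper5.OMMLevi.polar_eH_fH, polar_comm,
    Cfsg.Agent.Lib.Helper5.OMMLevi.polar_fH_ext0, hypExt_ext0]
  simp only [one_smul, zero_add, mul_one]
  abel

variable (ψ : AddChar F ℂ) (hψ : ∃ c, ψ c ≠ 1) (hnd : (polarBilin Qc).Nondegenerate)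
  (H : Hyp (Q3 Qc))
variable {V : Type*} [AddCommGroup V] [Module ℂ V]

/-- `eO H e₃ (em3 b)` commutes with the idempotent of the character `e₂` of `U` -/
theorem eIe2_comm_e3 (ρ : Representation ℂ (GG Qc) V) (b : κ → F) :
    ρ (eO H (em2 (eH F κ)) (em2 (ext0 b)) Q3_e3 (polar_e3_em3 b)) *
        (DU ψ hψ hnd H).eI ρ (eH F (K1 κ)) =
      (DU ψ hψ hnd H).eI ρ (eH F (K1 κ)) *
        ρ (eO H (em2 (eH F κ)) (em2 (ext0 b)) Q3_e3 (polar_e3_em3 b)) := by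
  have h := eI_comm_eO_DU ψ hψ hnd H ρ (ext0 (eH F κ)) (ext0 (ext0 b))
    (ext0_sing (Q1 Qc) (hypExt_eH Qc)) (ext0_perp (Q1 Qc) (polar_eH_ext0 Qc b))
    Q3_e3 (polar_e3_em3 b) (eH F (K1 κ))
  rw [eichlerMap_ext0_eH (Q1 Qc)] at h
  exact h

theorem eIe2_comm_f3 (ρ : Representation ℂ (GG Qc) V) (b : κ → F) :
    ρ (eO H (em2 (fH F κ)) (em2 (ext0 b)) Q3_f3 (polar_f3_em3 b)) *
        (DU ψ hψ hnd H).eI ρ (eH F (K1 κ)) =
      (DU ψ hψ hnd H).eI ρ (eH F (K1 κ)) *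
        ρ (eO H (em2 (fH F κ)) (em2 (ext0 b)) Q3_f3 (polar_f3_em3 b)) := by
  have h := eI_comm_eO_DU ψ hψ hnd H ρ (ext0 (fH F κ)) (ext0 (ext0 b))
    (ext0_sing (Q1 Qc) (hypExt_fH Qc))
    (ext0_perp (Q1 Qc) (Cfsg.Agent.Lib.Helper5.OMMLevi.polar_fH_ext0 Qc b))
    Q3_f3 (polar_f3_em3 b) (eH F (K1 κ))
  rw [eichlerMap_ext0_eH (Q1 Qc)] at h
  exact h

theorem decomp_K1 (z : K1 κ → F) :
    z = z (Sum.inl 0) • eH F κ + (z (Sum.inl 1) • fH F κ + ext0 (fun k => z (Sum.inr k))) := by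
  funext i
  rcases i with i | k
  · fin_cases i
    · simp [eH, fH, ext0]
    · simp [eH, fH, ext0]
  · simp [eH, fH, ext0]

variable [FiniteDimensional ℂ V]

/-- **LINE**: in the singular multiplicity-one configuration, `U'` acts trivially on the
eigenline of the character `e₂` of `U` (general module `V`). -/
theorem uP_line_gen (hκ : Nonempty κ) (ρ : Representation ℂ (GG Qc) V)
    (hL : LevelOne ψ hψ hnd H ρ 0) (z : K1 κ → F) :
    ρ (uP H z) * (DU ψ hψ hnd H).eI ρ (eH F (K1 κ)) = (DU ψ hψ hnd H).eI ρ (eH F (K1 κ)) := by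
  have hne : (eH F (K1 κ) : K2 κ → F) ≠ 0 := by
    intro h
    have := congrFun h (Sum.inl 0)
    simp [eH] at this
  have h1 : (DU ψ hψ hnd H).mult ρ.character (eH F (K1 κ)) = 1 :=
    hL.1 _ hne (hypExt_eH (Q1 Qc))
  obtain ⟨x₀, hx0, hfix, hspan⟩ := (DU ψ hψ hnd H).eI_rank_one ρ _ h1
  have hU : ∀ z, ρ (uP H z) * (DU ψ hψ hnd H).eI ρ (eH F (K1 κ)) =
      (DU ψ hψ hnd H).eI ρ (eH F (K1 κ)) * ρ (uP H z) := eIe2_comm_uP ψ hψ hnd H ρ
  have hA : ∀ z z', ρ (uP H (z + z')) x₀ = ρ (uP H z) (ρ (uP H z') x₀) := by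
    intro z z'
    rw [uP_add, map_mul]
    rfl
  have hBe : ∀ b z, ρ (uP H (eichlerMap (Q1 Qc) (eH F κ) (ext0 b) z)) x₀ = ρ (uP H z) x₀ := by
    intro b z
    rw [← conj_uP_eO H (eH F κ) (ext0 b) Q3_e3 (polar_e3_em3 b) z]
    exact conj_fix ρ _ x₀ hx0 hfix hspan _ _ (eIe2_comm_e3 ψ hψ hnd H ρ b) (hU z)
  have hBf : ∀ b z, ρ (uP H (eichlerMap (Q1 Qc) (fH F κ) (ext0 b) z)) x₀ = ρ (uP H z) x₀ := by
    intro b z
    rw [← conj_uP_eO H (fH F κ) (ext0 b) Q3_f3 (polar_f3_em3 b) z]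
    exact conj_fix ρ _ x₀ hx0 hfix hspan _ _ (eIe2_comm_f3 ψ hψ hnd H ρ b) (hU z)
  have hTadd : ∀ z z', ρ (uP H z) x₀ = x₀ → ρ (uP H z') x₀ = x₀ → ρ (uP H (z + z')) x₀ = x₀ := by
    intro z z' h h'
    rw [hA, h', h]
  -- a non-zero vector of the core
  obtain ⟨k₀⟩ := hκ
  have hb0 : (Pi.single k₀ 1 : κ → F) ≠ 0 := by
    intro h
    have := congrFun h k₀
    simp at this
  have hTe : ∀ c : F, ρ (uP H (c • eH F κ)) x₀ = x₀ := by
    intro c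
    obtain ⟨b', hb'⟩ := exists_polar_eq Qc hnd _ hb0 (-c)
    have h2 := hBe (Pi.single k₀ 1) (ext0 b')
    rw [eE_ext0, hb', neg_neg, hA] at h2
    exact rho_injective ρ _ h2
  have hTf : ∀ c : F, ρ (uP H (c • fH F κ)) x₀ = x₀ := by
    intro c
    obtain ⟨b', hb'⟩ := exists_polar_eq Qc hnd _ hb0 (-c)
    have h2 := hBf (Pi.single k₀ 1) (ext0 b')
    rw [fE_ext0, hb', neg_neg, hA] at h2
    exact rho_injective ρ _ h2
  have hTb : ∀ b : κ → F, ρ (uP H (ext0 b)) x₀ = x₀ := by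
    intro b
    have h2 := hBe b (fH F κ)
    rw [eE_fH, hA] at h2
    have h3 := rho_injective ρ _ h2
    rw [hA, hTe] at h3
    exact h3
  have hz : ρ (uP H z) x₀ = x₀ := by
    rw [decomp_K1 z]
    exact hTadd _ _ (hTe _) (hTadd _ _ (hTf _) (hTb _))
  apply LinearMap.ext
  intro v
  obtain ⟨a, ha⟩ := hspan v
  rw [Module.End.mul_apply, ha, map_smul, hz]

/-- **LINE** (blueprint statement, with the extra hypothesis `Nonempty κ`) -/
theorem uP_line (hκ : Nonempty κ) {k : ℕ} (ρ : Representation ℂ (GG Qc) (Fin k → ℂ))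
    (hL : LevelOne ψ hψ hnd H ρ 0) (z : K1 κ → F) :
    ρ (uP H z) * (DU ψ hψ hnd H).eI ρ (eH F (K1 κ)) = (DU ψ hψ hnd H).eI ρ (eH F (K1 κ)) :=
  uP_line_gen ψ hψ hnd H hκ ρ hL z

end tower

end Cfsg.Agent.Lib.Helper3.OMMLine
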