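import Mathlib
import Cfsg.Prelude
import Cfsg.Agent.Lib.Helper5.Eichler

set_option autoImplicit false
set_option linter.unusedSectionVars false
open Cfsg

/-! OMM farm (S2346), unit ORBGEN: a function on `hypExt Q₁` invariant under the Eichler maps
`E_{e,z}`, `E_{f,z}` (`z` in the core) and under the torus of the hyperbolic plane is constant on
the non-zero vectors of each level set. -/

namespace Cfsg.Agent.Lib.Helper3.OMMOrbGen

open Matrix QuadraticMap Cfsg.Agent.Lib.Helper5.OrthCard Cfsg.Agent.Lib.Helper5.QuadIsom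

variable {F : Type*} [Field F] {κ₁ : Type} [Fintype κ₁] [DecidableEq κ₁]

/-- coordinates of `E_{e,z} w` -/
theorem eE_inl1 (Q₁ : QuadraticForm F (κ₁ → F)) (z : κ₁ → F) (w : Fin 2 ⊕ κ₁ → F) :
    eichlerMap (hypExt Q₁) (eH F κ₁) (ext0 z) w (Sum.inl 1) = w (Sum.inl 1) := by
  rw [eichlerMap_apply]
  simp [eH, ext0]

theorem eE_inr (Q₁ : QuadraticForm F (κ₁ → F)) (z : κ₁ → F) (w : Fin 2 ⊕ κ₁ → F) (k : κ₁) :
    eichlerMap (hypExt Q₁) (eH F κ₁) (ext0 z) w (Sum.inr k) =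
      w (Sum.inr k) + w (Sum.inl 1) * z k := by
  rw [eichlerMap_apply, polar_eH]
  simp [eH, ext0]

/-- coordinates of `E_{f,z} w` -/
theorem fE_inl0 (Q₁ : QuadraticForm F (κ₁ → F)) (z : κ₁ → F) (w : Fin 2 ⊕ κ₁ → F) :
    eichlerMap (hypExt Q₁) (fH F κ₁) (ext0 z) w (Sum.inl 0) = w (Sum.inl 0) := by
  rw [eichlerMap_apply]
  simp [fH, ext0]

theorem fE_inr (Q₁ : QuadraticForm F (κ₁ → F)) (z : κ₁ → F) (w : Fin 2 ⊕ κ₁ → F) (k : κ₁) :
    eichlerMap (hypExt Q₁) (fH F κ₁) (ext0 z) w (Sum.inr k) =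
      w (Sum.inr k) + w (Sum.inl 0) * z k := by
  rw [eichlerMap_apply, polar_fH]
  simp [fH, ext0]

theorem fE_inl1 (Q₁ : QuadraticForm F (κ₁ → F)) (z : κ₁ → F) (w : Fin 2 ⊕ κ₁ → F) :
    eichlerMap (hypExt Q₁) (fH F κ₁) (ext0 z) w (Sum.inl 1) =
      w (Sum.inl 1) - (polar ⇑Q₁ (fun k => w (Sum.inr k)) z + Q₁ z * w (Sum.inl 0)) := by
  rw [eichlerMap_apply, polar_fH, polar_comm, polar_ext0, hypExt_ext0]
  simp [fH, ext0]
  ring

theorem eE_quad (Q₁ : QuadraticForm F (κ₁ → F)) (z : κ₁ → F) (w : Fin 2 ⊕ κ₁ → F) :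
    hypExt Q₁ (eichlerMap (hypExt Q₁) (eH F κ₁) (ext0 z) w) = hypExt Q₁ w := by
  apply eichlerMap_isom _ _ _ (hypExt_eH Q₁)
  rw [polar_eH]
  rfl

theorem fE_quad (Q₁ : QuadraticForm F (κ₁ → F)) (z : κ₁ → F) (w : Fin 2 ⊕ κ₁ → F) :
    hypExt Q₁ (eichlerMap (hypExt Q₁) (fH F κ₁) (ext0 z) w) = hypExt Q₁ w := by
  apply eichlerMap_isom _ _ _ (hypExt_fH Q₁)
  rw [polar_fH]
  rfl

theorem orb_gen {α : Type*} (Q₁ : QuadraticForm F (κ₁ → F))
    (hnd₁ : (polarBilin Q₁).Nondegenerate) (hb : ∃ b, Q₁ b ≠ 0)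
    (M : (Fin 2 ⊕ κ₁ → F) → α)
    (h1 : ∀ z w, M (eichlerMap (hypExt Q₁) (eH F κ₁) (ext0 z) w) = M w)
    (h2 : ∀ z w, M (eichlerMap (hypExt Q₁) (fH F κ₁) (ext0 z) w) = M w)
    (h3 : ∀ δ : F, δ ≠ 0 → ∀ x y : F,
      M ((δ * x) • eH F κ₁ + (δ⁻¹ * y) • fH F κ₁) = M (x • eH F κ₁ + y • fH F κ₁)) :
    ∀ w, w ≠ 0 → M w = M (hypExt Q₁ w • eH F κ₁ + fH F κ₁) := by
  -- normal form in the plane
  have hA : ∀ v : Fin 2 ⊕ κ₁ → F, (∀ k, v (Sum.inr k) = 0) → v (Sum.inl 1) ≠ 0 →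
      M v = M (hypExt Q₁ v • eH F κ₁ + fH F κ₁) := by
    intro v hv hy
    have hQv : hypExt Q₁ v = v (Sum.inl 0) * v (Sum.inl 1) := by
      rw [hypExt_apply]
      have : (fun k => v (Sum.inr k)) = 0 := funext hv
      rw [this, map_zero, add_zero]
    have hv' : v = ((v (Sum.inl 1))⁻¹ * hypExt Q₁ v) • eH F κ₁ +
        (((v (Sum.inl 1))⁻¹)⁻¹ * 1) • fH F κ₁ := by
      funext i
      rcases i with i | k
      · fin_cases i
        · simp [eH, fH, hQv]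
          field_simp
        · simp [eH, fH]
      · simp [eH, fH, hv k]
    have := h3 (v (Sum.inl 1))⁻¹ (inv_ne_zero hy) (hypExt Q₁ v) 1
    rw [← hv', one_smul] at this
    exact this
  -- case 1: the `f`-coefficient is non-zero
  have hC1 : ∀ w : Fin 2 ⊕ κ₁ → F, w (Sum.inl 1) ≠ 0 →
      M w = M (hypExt Q₁ w • eH F κ₁ + fH F κ₁) := by
    intro w hy
    set z : κ₁ → F := fun k => -((w (Sum.inl 1))⁻¹ * w (Sum.inr k)) with hz
    have := hA (eichlerMap (hypExt Q₁) (eH F κ₁) (ext0 z) w) (by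
      intro k
      rw [eE_inr, hz]
      field_simp
      ring) (by rw [eE_inl1]; exact hy)
    rw [h1, eE_quad] at this
    exact this
  intro w hw
  by_cases hy : w (Sum.inl 1) = 0
  swap
  · exact hC1 w hy
  by_cases hx : w (Sum.inl 0) = 0
  · -- case 3
    have hw1 : (fun k => w (Sum.inr k)) ≠ 0 := by
      intro h
      apply hw
      funext i
      rcases i with i | k
      · fin_cases i
        · exact hx
        · exact hy
      · exact congrFun h k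
    obtain ⟨z, hz⟩ := exists_polar_eq Q₁ hnd₁ _ hw1 1
    have := hC1 (eichlerMap (hypExt Q₁) (fH F κ₁) (ext0 z) w) (by
      rw [fE_inl1, hy, hx, hz]
      simp)
    rw [h2, fE_quad] at this
    exact this
  · -- case 2
    set z : κ₁ → F := fun k => -((w (Sum.inl 0))⁻¹ * w (Sum.inr k)) with hz
    set w' := eichlerMap (hypExt Q₁) (fH F κ₁) (ext0 z) w with hw'
    have hMw' : M w' = M w := h2 z w
    have hQw' : hypExt Q₁ w' = hypExt Q₁ w := fE_quad Q₁ z w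
    have hw'r : ∀ k, w' (Sum.inr k) = 0 := by
      intro k
      rw [hw', fE_inr, hz]
      field_simp
      ring
    have hw'0 : w' (Sum.inl 0) = w (Sum.inl 0) := fE_inl0 Q₁ z w
    by_cases hy' : w' (Sum.inl 1) = 0
    swap
    · have := hA w' hw'r hy'
      rw [hMw', hQw'] at this
      exact this
    · obtain ⟨b, hb⟩ := hb
      have := hC1 (eichlerMap (hypExt Q₁) (fH F κ₁) (ext0 b) w') (by
        rw [fE_inl1, hy', hw'0]
        have : (fun k => w' (Sum.inr k)) = 0 := funext hw'r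
        rw [this, polar_zero_left, zero_add, zero_sub, neg_ne_zero]
        exact mul_ne_zero hb hx)
      rw [h2, fE_quad, hMw', hQw'] at this
      exact this

end Cfsg.Agent.Lib.Helper3.OMMOrbGen
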