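import Mathlib
import Cfsg.Agent.Lib.Helper8.OMPAlt

set_option autoImplicit false
set_option linter.unusedSectionVars false
set_option linter.unusedVariables false

/-!
Farm OMP (statement S2345), unit O: the orbit of an alternating form that is not of rank two under
`SL_n` and the torus `diag (δ², 1, …, 1)` has at least `(q^n - 1)(q^(n-1) + q)/(q^2 - 1)` elements.

Uniform proof: `|S| ≥ 2 (q - 1) q^(2n-4)`: for every `c' ≠ 0` there are two reduced forms
(rows `0, 1` equal to `c' e₁`, `-c' e₀`) in `S` with entry `c'`, and the unipotent radical of the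
stabiliser of `⟨e₀, e₁⟩` acts freely on the forms with entry `c'`.
-/

namespace Cfsg.Agent.Lib.Helper3.OMP

open Matrix Cfsg Cfsg.Agent.Lib.Helper1.MND Cfsg.Agent.Lib.Helper8.OMP

section general
variable {F : Type*} [Field F] {m : ℕ}

theorem fin_tri (a : Fin (m + 3)) : a = 0 ∨ a = 1 ∨ 2 ≤ a.val := by
  rcases a with ⟨v, hv⟩
  rcases v with _ | _ | v
  · left; rfl
  · right; left; rfl
  · right; right; simp

/-- action of a diagonal matrix -/
theorem actAlt_diagonal_apply {n : ℕ} (d : Fin n → F) (B : altAdd F n) (a b : Fin n) :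
    (actAlt (Matrix.diagonal d) B).1 a b = d a * B.1 a b * d b := by
  rw [actAlt_coe, Matrix.diagonal_transpose, Matrix.mul_diagonal, Matrix.diagonal_mul]

theorem isR2_actAlt (g : SS (m + 3) F) (B : altAdd F (m + 3)) (h : IsR2 B) :
    IsR2 (actAlt g.1 B) := by
  obtain ⟨k, rfl⟩ := h
  refine ⟨k * g, ?_⟩
  rw [Matrix.SpecialLinearGroup.coe_mul, actAlt_mul]

theorem actAlt_inv_cancel (g : SS (m + 3) F) (B : altAdd F (m + 3)) :
    actAlt (g⁻¹).1 (actAlt g.1 B) = B := by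
  rw [← actAlt_mul, ← Matrix.SpecialLinearGroup.coe_mul, mul_inv_cancel,
    Matrix.SpecialLinearGroup.coe_one, actAlt_one]

theorem actAlt_injective (g : SS (m + 3) F) (B B' : altAdd F (m + 3))
    (h : actAlt g.1 B = actAlt g.1 B') : B = B' := by
  rw [← actAlt_inv_cancel g B, h, actAlt_inv_cancel]

/-- the diagonal `(s, 1, …, s⁻¹ (at j), …, 1)` -/
def dgv (j : Fin (m + 3)) (s : F) : Fin (m + 3) → F :=
  fun a => if a = 0 then s else if a = j then s⁻¹ else 1

theorem det_dg (j : Fin (m + 3)) (hj : j ≠ 0) (s : F) (hs : s ≠ 0) :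
    (Matrix.diagonal (dgv j s)).det = 1 := by
  rw [Matrix.det_diagonal, Finset.prod_eq_mul (0 : Fin (m + 3)) j (Ne.symm hj)]
  · simp [dgv, hj, hs]
  · intro c _ hc
    simp [dgv, hc.1, hc.2]
  · simp
  · simp

/-- the SL element of `dgv` -/
def dgS (j : Fin (m + 3)) (hj : j ≠ 0) (s : F) (hs : s ≠ 0) : SS (m + 3) F :=
  ⟨Matrix.diagonal (dgv j s), det_dg j hj s hs⟩

/-- the nilpotent part -/
def EY (y0 y1 : Fin (m + 3) → F) : Matrix (Fin (m + 3)) (Fin (m + 3)) F :=
  Matrix.of fun a b => if 2 ≤ b.val then (if a = 0 then y0 b else if a = 1 then y1 b else 0) else 0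

theorem EY_apply (y0 y1 : Fin (m + 3) → F) (a b : Fin (m + 3)) :
    EY y0 y1 a b =
      if 2 ≤ b.val then (if a = 0 then y0 b else if a = 1 then y1 b else 0) else 0 := rfl

/-- the unipotent element `[[1, Y], [0, 1]]` -/
def UY (y0 y1 : Fin (m + 3) → F) : Matrix (Fin (m + 3)) (Fin (m + 3)) F := 1 + EY y0 y1

theorem UY_apply (y0 y1 : Fin (m + 3) → F) (a b : Fin (m + 3)) :
    UY y0 y1 a b = (if a = b then 1 else 0) +
      if 2 ≤ b.val then (if a = 0 then y0 b else if a = 1 then y1 b else 0) else 0 := by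
  unfold UY
  rw [Matrix.add_apply, Matrix.one_apply, EY_apply]

theorem det_UY (y0 y1 : Fin (m + 3) → F) : (UY y0 y1).det = 1 := by
  have h : (UY y0 y1).BlockTriangular id := by
    intro a b hab
    have hab' : b.val < a.val := hab
    have hne : a ≠ b := by
      intro h
      rw [h] at hab'
      exact lt_irrefl _ hab'
    rw [UY_apply, if_neg hne, zero_add]
    split_ifs with h1 h2 h3
    · exfalso
      rw [h2] at hab'
      exact Nat.not_lt_zero _ hab'
    · exfalso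
      rw [h3] at hab'
      have e1 : ((1 : Fin (m + 3)) : ℕ) = 1 := Fin.val_one (m + 1)
      omega
    · rfl
    · rfl
  rw [Matrix.det_of_isUpperTriangular h]
  apply Finset.prod_eq_one
  intro a _
  rw [UY_apply, if_pos rfl]
  split_ifs with h1 h2 h3
  · exfalso
    rw [h2] at h1
    exact absurd h1 (by simp)
  · exfalso
    rw [h3] at h1
    have e1 : ((1 : Fin (m + 3)) : ℕ) = 1 := Fin.val_one (m + 1)
    omega
  · ring
  · ring

/-- the SL element of `UY` -/
def UYS (y0 y1 : Fin (m + 3) → F) : SS (m + 3) F := ⟨UY y0 y1, det_UY y0 y1⟩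

theorem UY_col (y0 y1 : Fin (m + 3) → F) (r : Fin (m + 3)) (hr : r = 0 ∨ r = 1)
    (a : Fin (m + 3)) : UY y0 y1 a r = if a = r then 1 else 0 := by
  rw [UY_apply]
  have h : ¬ 2 ≤ r.val := by
    rcases hr with rfl | rfl
    · simp
    · simp
  rw [if_neg h, add_zero]

/-- rows `0` and `1` of `Uᵀ B U` -/
theorem act_UY_row (y0 y1 : Fin (m + 3) → F) (B : altAdd F (m + 3)) (r : Fin (m + 3))
    (hr : r = 0 ∨ r = 1) (b : Fin (m + 3)) :
    (actAlt (UY y0 y1) B).1 r b =
      B.1 r b + (if 2 ≤ b.val then B.1 r 0 * y0 b + B.1 r 1 * y1 b else 0) := by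
  have h1 : ∀ c, ((UY y0 y1)ᵀ * B.1) r c = B.1 r c := by
    intro c
    rw [Matrix.mul_apply]
    simp only [Matrix.transpose_apply, UY_col y0 y1 r hr]
    simp
  rw [actAlt_coe, Matrix.mul_apply]
  simp only [h1, UY_apply, mul_add, Finset.sum_add_distrib]
  congr 1
  · simp
  · by_cases hb : 2 ≤ b.val
    · simp only [if_pos hb]
      have h01 : (0 : Fin (m + 3)) ≠ 1 := by
        intro h
        have := congrArg Fin.val h
        simp at this
      have hsplit : ∀ c : Fin (m + 3), B.1 r c * (if c = 0 then y0 b else if c = 1 then y1 b else 0)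
          = (if c = 0 then B.1 r 0 * y0 b else 0) + (if c = 1 then B.1 r 1 * y1 b else 0) := by
        intro c
        by_cases hc0 : c = 0
        · subst hc0
          rw [if_pos rfl, if_pos rfl, if_neg h01, add_zero]
        · by_cases hc1 : c = 1
          · subst hc1
            rw [if_neg hc0, if_pos rfl, if_neg hc0, if_pos rfl, zero_add]
          · rw [if_neg hc0, if_neg hc1, if_neg hc0, if_neg hc1, mul_zero, add_zero]
      simp only [hsplit, Finset.sum_add_distrib, Finset.sum_ite_eq', Finset.mem_univ, if_true]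
    · simp only [if_neg hb, mul_zero, Finset.sum_const_zero]

theorem exists_even_perm (hm : 1 ≤ m) (i k : Fin (m + 3)) (hik : i ≠ k) :
    ∃ σ : Equiv.Perm (Fin (m + 3)), Equiv.Perm.sign σ = 1 ∧ σ 0 = i ∧ σ 1 = k := by
  have h01 : (1 : Fin (m + 3)) ≠ 0 := by
    intro h
    have := congrArg Fin.val h
    rw [Fin.val_one (m + 1)] at this
    simp at this
  have hk' : Equiv.swap 0 i k ≠ 0 := by
    intro h
    have : k = i := by
      calc k = Equiv.swap 0 i (Equiv.swap 0 i k) := (Equiv.swap_apply_self 0 i k).symm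
        _ = Equiv.swap 0 i 0 := by rw [h]
        _ = i := Equiv.swap_apply_left 0 i
    exact hik this.symm
  set σ₀ : Equiv.Perm (Fin (m + 3)) := Equiv.swap 0 i * Equiv.swap 1 (Equiv.swap 0 i k) with hσ₀
  have h0 : σ₀ 0 = i := by
    rw [hσ₀, Equiv.Perm.mul_apply, Equiv.swap_apply_of_ne_of_ne h01.symm hk'.symm,
      Equiv.swap_apply_left]
  have h1 : σ₀ 1 = k := by
    rw [hσ₀, Equiv.Perm.mul_apply, Equiv.swap_apply_left, Equiv.swap_apply_self]
  rcases Int.units_eq_one_or (Equiv.Perm.sign σ₀) with hs | hs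
  · exact ⟨σ₀, hs, h0, h1⟩
  · have h23 : (⟨2, by omega⟩ : Fin (m + 3)) ≠ ⟨3, by omega⟩ := by
      intro h
      have := congrArg Fin.val h
      simp at this
    have e0 : ∀ (v : ℕ) (hv : v < m + 3), 2 ≤ v → (0 : Fin (m + 3)) ≠ ⟨v, hv⟩ := by
      intro v hv h2 h
      have := congrArg Fin.val h
      simp at this
      omega
    have e1 : ∀ (v : ℕ) (hv : v < m + 3), 2 ≤ v → (1 : Fin (m + 3)) ≠ ⟨v, hv⟩ := by
      intro v hv h2 h
      have := congrArg Fin.val h
      rw [Fin.val_one (m + 1)] at this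
      simp at this
      omega
    refine ⟨σ₀ * Equiv.swap ⟨2, by omega⟩ ⟨3, by omega⟩, ?_, ?_, ?_⟩
    · rw [Equiv.Perm.sign_mul, hs, Equiv.Perm.sign_swap h23]
      rfl
    · rw [Equiv.Perm.mul_apply, Equiv.swap_apply_of_ne_of_ne (e0 2 _ le_rfl) (e0 3 _ (by omega)),
        h0]
    · rw [Equiv.Perm.mul_apply, Equiv.swap_apply_of_ne_of_ne (e1 2 _ le_rfl) (e1 3 _ (by omega)),
        h1]

/-- move a nonzero entry to position `(0, 1)` -/
theorem exists_move (hm : 1 ≤ m) (B : altAdd F (m + 3)) (hB : B ≠ 0) :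
    ∃ g : SS (m + 3) F, (actAlt g.1 B).1 0 1 ≠ 0 := by
  obtain ⟨i, k, hik⟩ : ∃ i k, B.1 i k ≠ 0 := by
    by_contra hcon
    push Not at hcon
    apply hB
    apply Subtype.ext
    ext i k
    exact hcon i k
  have hne : i ≠ k := by
    rintro rfl
    exact hik (altAdd_diag B i)
  obtain ⟨σ, hs, h0, h1⟩ := exists_even_perm hm i k hne
  obtain ⟨P, hP⟩ : ∃ P : Matrix (Fin (m + 3)) (Fin (m + 3)) F, P = σ.symm.toPEquiv.toMatrix :=
    ⟨_, rfl⟩
  have hdet : P.det = 1 := by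
    rw [hP, Matrix.det_permutation, Equiv.Perm.sign_symm, hs]
    simp
  refine ⟨⟨P, hdet⟩, ?_⟩
  have htr : Pᵀ = σ.toPEquiv.toMatrix := by
    rw [hP, Equiv.toPEquiv_symm, PEquiv.toMatrix_symm, Matrix.transpose_transpose]
  rw [actAlt_coe]
  show (Pᵀ * B.1 * P) 0 1 ≠ 0
  rw [htr, hP, PEquiv.toMatrix_toPEquiv_mul, PEquiv.mul_toMatrix_toPEquiv, Matrix.submatrix_apply,
    Matrix.submatrix_apply, Equiv.symm_symm, id, id, h0, h1]
  exact hik

/-- reduced forms: rows `0` and `1` vanish outside the leading `2 × 2` block -/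
def Red (B : altAdd F (m + 3)) : Prop := ∀ b : Fin (m + 3), 2 ≤ b.val → B.1 0 b = 0 ∧ B.1 1 b = 0

theorem exists_reduce (B : altAdd F (m + 3)) (hc : B.1 0 1 ≠ 0) :
    ∃ g : SS (m + 3) F, Red (actAlt g.1 B) ∧ (actAlt g.1 B).1 0 1 = B.1 0 1 := by
  refine ⟨UYS (fun b => B.1 1 b / B.1 0 1) (fun b => -B.1 0 b / B.1 0 1), ?_, ?_⟩
  · intro b hb
    constructor
    · show (actAlt (UY _ _) B).1 0 b = 0
      rw [act_UY_row _ _ B 0 (Or.inl rfl) b, if_pos hb, altAdd_diag]
      field_simp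
      ring
    · show (actAlt (UY _ _) B).1 1 b = 0
      rw [act_UY_row _ _ B 1 (Or.inr rfl) b, if_pos hb, altAdd_diag, altAdd_skew B 0 1]
      field_simp
      ring
  · show (actAlt (UY _ _) B).1 0 1 = _
    rw [act_UY_row _ _ B 0 (Or.inl rfl) 1, if_neg, add_zero]
    rw [Fin.val_one (m + 1)]
    omega

/-- a reduced form with vanishing lower block is of rank two -/
theorem isR2_of_red (hm : 1 ≤ m) (A : altAdd F (m + 3)) (hc : A.1 0 1 ≠ 0) (hred : Red A)
    (hz : ∀ j l : Fin (m + 3), 2 ≤ j.val → 2 ≤ l.val → A.1 j l = 0) : IsR2 A := by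
  have h2 : (⟨2, by omega⟩ : Fin (m + 3)) ≠ 0 := by
    intro h
    have := congrArg Fin.val h
    simp at this
  have h01 : (1 : Fin (m + 3)) ≠ 0 := by
    intro h
    have := congrArg Fin.val h
    rw [Fin.val_one (m + 1)] at this
    simp at this
  have h12 : (1 : Fin (m + 3)) ≠ ⟨2, by omega⟩ := by
    intro h
    have := congrArg Fin.val h
    rw [Fin.val_one (m + 1)] at this
    simp at this
  have hge0 : ∀ a : Fin (m + 3), 2 ≤ a.val → a ≠ 0 := by
    rintro a ha rfl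
    simp at ha
  have hge1 : ∀ a : Fin (m + 3), 2 ≤ a.val → a ≠ 1 := by
    rintro a ha rfl
    rw [Fin.val_one (m + 1)] at ha
    omega
  refine ⟨dgS ⟨2, by omega⟩ h2 (A.1 0 1) hc, ?_⟩
  apply Subtype.ext
  ext a b
  show A.1 a b = (actAlt (Matrix.diagonal (dgv _ _)) (E01 F m)).1 a b
  rw [actAlt_diagonal_apply, E01_coe, Matrix.sub_apply, Matrix.single_apply, Matrix.single_apply]
  rcases fin_tri a with rfl | rfl | ha
  · rcases fin_tri b with rfl | rfl | hb
    · rw [altAdd_diag]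
      simp [h01, h01.symm]
    · simp [dgv, h01, h01.symm, h12]
    · rw [(hred b hb).1]
      simp [(hge1 b hb).symm, (hge0 b hb).symm, h01, h01.symm]
  · rcases fin_tri b with rfl | rfl | hb
    · rw [altAdd_skew A 0 1]
      simp [dgv, h01, h01.symm, h12]
    · rw [altAdd_diag]
      simp [h01, h01.symm]
    · rw [(hred b hb).2]
      simp [(hge1 b hb).symm, (hge0 b hb).symm, h01, h01.symm]
  · rcases fin_tri b with rfl | rfl | hb
    · rw [altAdd_skew A 0 a, (hred a ha).1]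
      simp [(hge1 a ha).symm, (hge0 a ha).symm, h01, h01.symm]
    · rw [altAdd_skew A 1 a, (hred a ha).2]
      simp [(hge1 a ha).symm, (hge0 a ha).symm, h01, h01.symm]
    · rw [hz a b ha hb]
      simp [(hge1 a ha).symm, (hge0 a ha).symm, (hge1 b hb).symm, (hge0 b hb).symm]

theorem dg_props (j l : Fin (m + 3)) (hj : 2 ≤ j.val) (hl : 2 ≤ l.val) (hjl : l ≠ j) (s : F)
    (A : altAdd F (m + 3)) (hred : Red A) :
    Red (actAlt (Matrix.diagonal (dgv j s)) A) ∧
      (actAlt (Matrix.diagonal (dgv j s)) A).1 0 1 = s * A.1 0 1 ∧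
      (actAlt (Matrix.diagonal (dgv j s)) A).1 j l = s⁻¹ * A.1 j l := by
  have h01 : (1 : Fin (m + 3)) ≠ 0 := by
    intro h
    have := congrArg Fin.val h
    rw [Fin.val_one (m + 1)] at this
    simp at this
  have hge0 : ∀ a : Fin (m + 3), 2 ≤ a.val → a ≠ 0 := by
    rintro a ha rfl
    simp at ha
  have hge1 : ∀ a : Fin (m + 3), 2 ≤ a.val → a ≠ 1 := by
    rintro a ha rfl
    rw [Fin.val_one (m + 1)] at ha
    omega
  refine ⟨?_, ?_, ?_⟩
  · intro b hb
    rw [actAlt_diagonal_apply, actAlt_diagonal_apply, (hred b hb).1, (hred b hb).2]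
    simp
  · rw [actAlt_diagonal_apply]
    have e0 : dgv j s 0 = s := if_pos rfl
    have e1 : dgv j s 1 = 1 := by
      unfold dgv
      rw [if_neg h01, if_neg (hge1 j hj).symm]
    rw [e0, e1, mul_one]
  · rw [actAlt_diagonal_apply]
    have e0 : dgv j s j = s⁻¹ := by
      unfold dgv
      rw [if_neg (hge0 j hj), if_pos rfl]
    have e1 : dgv j s l = 1 := by
      unfold dgv
      rw [if_neg (hge0 l hl), if_neg hjl]
    rw [e0, e1, mul_one]

theorem tor_props (j l : Fin (m + 3)) (hj : 2 ≤ j.val) (hl : 2 ≤ l.val) (δ : F)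
    (A : altAdd F (m + 3)) (hred : Red A) :
    Red (actAlt (torM m δ) A) ∧
      (actAlt (torM m δ) A).1 0 1 = δ ^ 2 * A.1 0 1 ∧
      (actAlt (torM m δ) A).1 j l = A.1 j l := by
  have h01 : (1 : Fin (m + 3)) ≠ 0 := by
    intro h
    have := congrArg Fin.val h
    rw [Fin.val_one (m + 1)] at this
    simp at this
  have hge0 : ∀ a : Fin (m + 3), 2 ≤ a.val → a ≠ 0 := by
    rintro a ha rfl
    simp at ha
  unfold torM
  refine ⟨?_, ?_, ?_⟩
  · intro b hb
    rw [actAlt_diagonal_apply, actAlt_diagonal_apply, (hred b hb).1, (hred b hb).2]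
    simp
  · rw [actAlt_diagonal_apply, if_pos rfl, if_neg h01, mul_one]
  · rw [actAlt_diagonal_apply, if_neg (hge0 j hj), if_neg (hge0 l hl), mul_one, one_mul]

/-- extension of a vector by two zeros in front -/
def extY (y : Fin (m + 1) → F) : Fin (m + 3) → F :=
  fun b => if h : 2 ≤ b.val then y ⟨b.val - 2, by omega⟩ else 0

theorem extY_apply (y : Fin (m + 1) → F) (k : Fin (m + 1)) :
    extY y ⟨k.val + 2, by omega⟩ = y k := by
  unfold extY
  rw [dif_pos (by simp)]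
  congr 1

theorem arith_bound (q m N : ℕ) (hq : 4 ≤ q) (hm : 1 ≤ m)
    (hN : (q - 1) * (2 * (q ^ (m + 1) * q ^ (m + 1))) ≤ N) :
    (q ^ (m + 3) - 1) * (q ^ (m + 2) + q) ≤ (q ^ 2 - 1) * N := by
  obtain ⟨k, rfl⟩ : ∃ k, q = k + 4 := ⟨q - 4, by omega⟩
  obtain ⟨Q, hQ⟩ : ∃ Q, Q = (k + 4) ^ (m + 1) := ⟨_, rfl⟩
  have hQ2 : (k + 4) * (k + 4) ≤ Q := by
    calc (k + 4) * (k + 4) = (k + 4) ^ 2 := by ring
      _ ≤ (k + 4) ^ (m + 1) := Nat.pow_le_pow_right (by omega) (by omega)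
      _ = Q := hQ.symm
  have e3 : (k + 4) ^ (m + 3) = Q * (k + 4) ^ 2 := by rw [hQ]; ring
  have e2 : (k + 4) ^ (m + 2) = Q * (k + 4) := by rw [hQ]; ring
  have e1 : k + 4 - 1 = k + 3 := by omega
  have e4 : (k + 4) ^ 2 - 1 = k ^ 2 + 8 * k + 15 := by
    have : (k + 4) ^ 2 = k ^ 2 + 8 * k + 16 := by ring
    omega
  rw [e3, e2, e4]
  rw [e1, ← hQ] at hN
  have h1 : (k + 4) ^ 3 ≤ Q * (k ^ 3 + 10 * k ^ 2 + 30 * k + 26) := by
    calc (k + 4) ^ 3 = (k + 4) * (k + 4) * (k + 4) := by ring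
      _ ≤ Q * (k + 4) := Nat.mul_le_mul_right _ hQ2
      _ ≤ Q * (k ^ 3 + 10 * k ^ 2 + 30 * k + 26) := Nat.mul_le_mul_left _ (by nlinarith)
  calc (Q * (k + 4) ^ 2 - 1) * (Q * (k + 4) + (k + 4))
      ≤ (Q * (k + 4) ^ 2) * (Q * (k + 4) + (k + 4)) := Nat.mul_le_mul_right _ (Nat.sub_le _ _)
    _ ≤ (k ^ 2 + 8 * k + 15) * ((k + 3) * (2 * (Q * Q))) := by
        nlinarith [Nat.mul_le_mul_left Q h1]
    _ ≤ (k ^ 2 + 8 * k + 15) * N := Nat.mul_le_mul_left _ hN

end general

section main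
variable {F : Type*} [Field F] [Fintype F] [DecidableEq F] {m : ℕ}

theorem exists_delta (hq : 4 ≤ Fintype.card F) : ∃ δ : F, δ ≠ 0 ∧ δ ^ 2 ≠ 1 := by
  by_contra hcon
  push Not at hcon
  have hsub : (Finset.univ : Finset F) ⊆ {0, 1, -1} := by
    intro δ _
    by_cases h : δ = 0
    · simp [h]
    · have h1 := hcon δ h
      have h2 : (δ - 1) * (δ + 1) = 0 := by linear_combination h1
      rcases mul_eq_zero.1 h2 with h3 | h3
      · have : δ = 1 := sub_eq_zero.1 h3
        simp [this]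
      · have : δ = -1 := eq_neg_of_add_eq_zero_left h3
        simp [this]
  have h4 := Finset.card_le_card hsub
  rw [Finset.card_univ] at h4
  have h3 : ({0, 1, -1} : Finset F).card ≤ 3 := Finset.card_le_three
  omega

theorem orbit_bound (hm : 1 ≤ m) (hq : 4 ≤ Fintype.card F) (S : Finset (altAdd F (m + 3)))
    (hS : ∀ B ∈ S, ∀ g : SS (m + 3) F, actAlt g.1 B ∈ S)
    (hT : ∀ B ∈ S, ∀ δ : F, δ ≠ 0 → actAlt (torM m δ) B ∈ S)
    (B₀ : altAdd F (m + 3)) (hB₀ : B₀ ∈ S) (h0 : B₀ ≠ 0) (h2 : ¬ IsR2 B₀) :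
    (Fintype.card F ^ (m + 3) - 1) * (Fintype.card F ^ (m + 2) + Fintype.card F) ≤
      (Fintype.card F ^ 2 - 1) * S.card := by
  obtain ⟨g1, hg1⟩ := exists_move hm B₀ h0
  obtain ⟨g2, hred, hc01⟩ := exists_reduce (actAlt g1.1 B₀) hg1
  obtain ⟨A, hA⟩ : ∃ A, A = actAlt g2.1 (actAlt g1.1 B₀) := ⟨_, rfl⟩
  rw [← hA] at hred hc01
  have hAS : A ∈ S := by
    rw [hA]
    exact hS _ (hS _ hB₀ g1) g2
  have hAR : ¬ IsR2 A := by
    intro h
    apply h2
    have h' := isR2_actAlt g1⁻¹ _ (isR2_actAlt g2⁻¹ _ h)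
    rw [hA, actAlt_inv_cancel, actAlt_inv_cancel] at h'
    exact h'
  obtain ⟨c, hc⟩ : ∃ c, c = A.1 0 1 := ⟨_, rfl⟩
  have hc0 : c ≠ 0 := by
    rw [hc, hc01]
    exact hg1
  obtain ⟨j, l, hj, hl, hjl⟩ : ∃ j l : Fin (m + 3), 2 ≤ j.val ∧ 2 ≤ l.val ∧ A.1 j l ≠ 0 := by
    by_contra hcon
    push Not at hcon
    exact hAR (isR2_of_red hm A (by rw [← hc]; exact hc0) hred hcon)
  have hj0 : j ≠ 0 := by
    rintro rfl
    simp at hj
  have hlj : l ≠ j := by
    rintro rfl
    exact hjl (altAdd_diag A l)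
  obtain ⟨δ, hδ0, hδ1⟩ := exists_delta hq
  have hδ2 : δ ^ 2 ≠ 0 := pow_ne_zero 2 hδ0
  -- the two reduced forms with entry `c'`
  let W : Fˣ × Bool → altAdd F (m + 3) := fun x =>
    if x.2 then actAlt (Matrix.diagonal (dgv j ((x.1 : F) / (c * δ ^ 2)))) (actAlt (torM m δ) A)
    else actAlt (Matrix.diagonal (dgv j ((x.1 : F) / c))) A
  have hW : ∀ (c' : Fˣ) (ε : Bool), W (c', ε) ∈ S ∧ Red (W (c', ε)) ∧
      (W (c', ε)).1 0 1 = (c' : F) ∧
      (W (c', ε)).1 j l =
        (if ε then ((c' : F) / (c * δ ^ 2))⁻¹ else ((c' : F) / c)⁻¹) * A.1 j l := by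
    intro c' ε
    cases ε
    · have hs : (c' : F) / c ≠ 0 := div_ne_zero c'.ne_zero hc0
      obtain ⟨p1, p2, p3⟩ := dg_props j l hj hl hlj ((c' : F) / c) A hred
      refine ⟨hS A hAS (dgS j hj0 _ hs), p1, ?_, ?_⟩
      · show (actAlt (Matrix.diagonal (dgv j ((c' : F) / c))) A).1 0 1 = _
        rw [p2, ← hc]
        field_simp
      · show (actAlt (Matrix.diagonal (dgv j ((c' : F) / c))) A).1 j l = _
        rw [p3]
        simp
    · have hs : (c' : F) / (c * δ ^ 2) ≠ 0 := div_ne_zero c'.ne_zero (mul_ne_zero hc0 hδ2)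
      obtain ⟨t1, t2, t3⟩ := tor_props j l hj hl δ A hred
      obtain ⟨p1, p2, p3⟩ := dg_props j l hj hl hlj ((c' : F) / (c * δ ^ 2))
        (actAlt (torM m δ) A) t1
      refine ⟨hS _ (hT A hAS δ hδ0) (dgS j hj0 _ hs), p1, ?_, ?_⟩
      · show (actAlt (Matrix.diagonal (dgv j ((c' : F) / (c * δ ^ 2))))
          (actAlt (torM m δ) A)).1 0 1 = _
        rw [p2, t2, ← hc]
        field_simp
      · show (actAlt (Matrix.diagonal (dgv j ((c' : F) / (c * δ ^ 2))))
          (actAlt (torM m δ) A)).1 j l = _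
        rw [p3, t3]
        simp
  let Ψ : Fˣ × Bool × ((Fin (m + 1) → F) × (Fin (m + 1) → F)) → altAdd F (m + 3) := fun x =>
    actAlt (UY (extY x.2.2.1) (extY x.2.2.2)) (W (x.1, x.2.1))
  have hΨS : ∀ x, Ψ x ∈ S := by
    intro x
    exact hS _ (hW x.1 x.2.1).1 (UYS _ _)
  have hΨ01 : ∀ x, (Ψ x).1 0 1 = (x.1 : F) := by
    intro x
    show (actAlt (UY _ _) (W (x.1, x.2.1))).1 0 1 = _
    rw [act_UY_row _ _ _ 0 (Or.inl rfl) 1, if_neg, add_zero, (hW x.1 x.2.1).2.2.1]
    rw [Fin.val_one (m + 1)]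
    omega
  have hΨ0 : ∀ x (k : Fin (m + 1)), (Ψ x).1 0 ⟨k.val + 2, by omega⟩ = (x.1 : F) * x.2.2.2 k := by
    intro x k
    show (actAlt (UY _ _) (W (x.1, x.2.1))).1 0 _ = _
    rw [act_UY_row _ _ _ 0 (Or.inl rfl), if_pos (by simp), ((hW x.1 x.2.1).2.1 _ (by simp)).1,
      altAdd_diag, (hW x.1 x.2.1).2.2.1, extY_apply x.2.2.1, extY_apply x.2.2.2]
    ring
  have hΨ1 : ∀ x (k : Fin (m + 1)), (Ψ x).1 1 ⟨k.val + 2, by omega⟩ = -(x.1 : F) * x.2.2.1 k := by
    intro x k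
    show (actAlt (UY _ _) (W (x.1, x.2.1))).1 1 _ = _
    rw [act_UY_row _ _ _ 1 (Or.inr rfl), if_pos (by simp), ((hW x.1 x.2.1).2.1 _ (by simp)).2,
      altAdd_diag, altAdd_skew _ 0 1, (hW x.1 x.2.1).2.2.1, extY_apply x.2.2.1,
      extY_apply x.2.2.2]
    ring
  have hinj : Function.Injective Ψ := by
    intro x x' hxx
    have e1 : (x.1 : F) = (x'.1 : F) := by rw [← hΨ01 x, ← hΨ01 x', hxx]
    have e1' : x.1 = x'.1 := Units.ext e1
    have e2 : x.2.2.2 = x'.2.2.2 := by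
      funext k
      have h := hΨ0 x k
      rw [hxx, hΨ0 x' k, e1] at h
      exact (mul_left_cancel₀ x'.1.ne_zero h).symm
    have e3 : x.2.2.1 = x'.2.2.1 := by
      funext k
      have h := hΨ1 x k
      rw [hxx, hΨ1 x' k, e1] at h
      exact (mul_left_cancel₀ (neg_ne_zero.2 x'.1.ne_zero) h).symm
    have e4 : W (x.1, x.2.1) = W (x'.1, x'.2.1) := by
      apply actAlt_injective (UYS (extY x.2.2.1) (extY x.2.2.2))
      show Ψ x = actAlt (UY (extY x.2.2.1) (extY x.2.2.2)) (W (x'.1, x'.2.1))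
      rw [hxx, e2, e3]
    have e5 : x.2.1 = x'.2.1 := by
      have h := (hW x.1 x.2.1).2.2.2
      rw [e4, (hW x'.1 x'.2.1).2.2.2, e1'] at h
      have h' := mul_right_cancel₀ hjl h
      by_contra hne
      have hcx : (x'.1 : F) ≠ 0 := x'.1.ne_zero
      rcases hb : x.2.1 with _ | _ <;> rcases hb' : x'.2.1 with _ | _
      · exact hne (hb.trans hb'.symm)
      · rw [hb, hb'] at h'
        simp only [if_true, Bool.false_eq_true, if_false] at h'
        apply hδ1
        field_simp at h'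
        first
          | exact h'
          | exact h'.symm
      · rw [hb, hb'] at h'
        simp only [if_true, Bool.false_eq_true, if_false] at h'
        apply hδ1
        field_simp at h'
        first
          | exact h'
          | exact h'.symm
      · exact hne (hb.trans hb'.symm)
    rcases x with ⟨x1, x2, x3, x4⟩
    rcases x' with ⟨x1', x2', x3', x4'⟩
    simp only at e1' e2 e3 e5
    rw [e1', e2, e3, e5]
  have hcard : (Finset.univ : Finset (Fˣ × Bool × ((Fin (m + 1) → F) × (Fin (m + 1) → F)))).card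
      ≤ S.card :=
    Finset.card_le_card_of_injOn Ψ (fun x _ => Finset.mem_coe.2 (hΨS x)) (hinj.injOn)
  rw [Finset.card_univ, Fintype.card_prod, Fintype.card_prod, Fintype.card_prod, Fintype.card_bool,
    Fintype.card_units, Fintype.card_fun, Fintype.card_fin] at hcard
  exact arith_bound _ m _ hq hm hcard

end main

end Cfsg.Agent.Lib.Helper3.OMP
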