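import Mathlib
import Cfsg.Agent.Lib.Helper7.Small2

/-! Tools for excluding orders of simple groups: an element of prime order of an abelian Sylow
subgroup which is not conjugate to any other element of that Sylow subgroup survives in an abelian
quotient (transfer). -/

set_option autoImplicit false
set_option maxHeartbeats 4000000
set_option maxRecDepth 100000
set_option linter.unusedVariables false
set_option linter.unusedSectionVars false
set_option linter.style.haveILetI false
set_option linter.deprecated false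

namespace Cfsg.Agent.Lib.Helper3.OrdTools

open Cfsg.Agent.Lib.Lead Cfsg.Agent.Lib.Lead.SmallSimple Cfsg.Agent.Lib.Lead.SmallSimple2
  Cfsg.Agent.Lib.Lead.SylowCount Cfsg.Agent.Lib.Lead.PrimeDegree
  Cfsg.Agent.Lib.Helper7.CountTools Cfsg.Agent.Lib.Helper7.SylPar

variable {G : Type*} [Group G]

lemma conj_pow_inv (g y : G) (n : ℕ) : (g⁻¹ * y * g) ^ n = g⁻¹ * y ^ n * g := by
  have h := conj_pow (a := g⁻¹) (b := y) (i := n)
  rwa [inv_inv] at h

/-- powers of an isolated element of prime order are isolated -/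
lemma key_of_prime_order {q : ℕ} (hq : q.Prime) (T : Subgroup G) {x : G} (hx : orderOf x = q)
    (hiso : ∀ g₀ : G, g₀⁻¹ * x * g₀ ∈ T → g₀⁻¹ * x * g₀ = x) :
    ∀ (k : ℕ) (g₀ : G), g₀⁻¹ * x ^ k * g₀ ∈ T → g₀⁻¹ * x ^ k * g₀ = x ^ k := by
  intro k g₀ hmem
  by_cases hqk : q ∣ k
  · have h1 : x ^ k = 1 := by
      rw [← hx] at hqk
      exact orderOf_dvd_iff_pow_eq_one.mp hqk
    rw [h1]; group
  · have hcop : Nat.Coprime k q := ((Nat.Prime.coprime_iff_not_dvd hq).mpr hqk).symm
    obtain ⟨j, -, hj⟩ := Nat.exists_mul_mod_eq_one_of_coprime hcop hq.one_lt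
    have hxkj : x ^ (k * j) = x := by
      have h2 : x ^ (k * j) = x ^ (k * j % orderOf x) := (pow_mod_orderOf x (k * j)).symm
      rw [h2, hx, hj, pow_one]
    have h3 : (g₀⁻¹ * x ^ k * g₀) ^ j = g₀⁻¹ * x * g₀ := by
      rw [conj_pow_inv, ← pow_mul, hxkj]
    have h4 : g₀⁻¹ * x * g₀ ∈ T := by
      rw [← h3]; exact T.pow_mem hmem j
    have h5 := hiso g₀ h4
    rw [← conj_pow_inv, h5]

variable [Finite G]

open scoped IsMulCommutative in
/-- An element of prime order `q` in an abelian Sylow `q`-subgroup `T` of a nonabelian simple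
group has another conjugate in `T`. -/
theorem false_of_isolated [IsSimpleGroup G] (hG : ¬ IsMulCommutative G) {q : ℕ}
    [hq : Fact q.Prime] (T : Sylow q G)
    (hT : ∀ a ∈ (T : Subgroup G), ∀ b ∈ (T : Subgroup G), a * b = b * a)
    {x : G} (hxT : x ∈ (T : Subgroup G)) (hx : orderOf x = q)
    (hiso : ∀ g₀ : G, g₀⁻¹ * x * g₀ ∈ (T : Subgroup G) → g₀⁻¹ * x * g₀ = x) : False := by
  haveI : IsMulCommutative (T : Subgroup G) := ⟨⟨fun a b => Subtype.ext (hT a a.2 b b.2)⟩⟩
  have key := key_of_prime_order hq.out (T : Subgroup G) hx hiso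
  have htr := MonoidHom.transfer_eq_pow (MonoidHom.id (T : Subgroup G)) x key
  rcases (MonoidHom.normal_ker (MonoidHom.transfer (MonoidHom.id (T : Subgroup G)))).eq_bot_or_eq_top
    with hk | hk
  · apply hG
    have hinj : Function.Injective (MonoidHom.transfer (MonoidHom.id (T : Subgroup G))) :=
      (MonoidHom.ker_eq_bot_iff _).mp hk
    refine ⟨⟨fun a b => hinj ?_⟩⟩
    rw [map_mul, map_mul, mul_comm]
  · have hxk : x ∈ (MonoidHom.transfer (MonoidHom.id (T : Subgroup G))).ker := by
      rw [hk]; exact Subgroup.mem_top x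
    rw [MonoidHom.mem_ker, htr] at hxk
    have h1 : x ^ (T : Subgroup G).index = 1 := by
      have h2 := congrArg Subtype.val hxk
      simpa using h2
    have h3 : q ∣ (T : Subgroup G).index := by
      have h4 := orderOf_dvd_of_pow_eq_one h1
      rwa [hx] at h4
    exact T.not_dvd_index h3

/-- If `x` fixes a unique Sylow `p`-subgroup `P`, its centralizer lies in `N(P)`. -/
lemma mem_normalizer_of_commute_of_unique_fix {p : ℕ} [Fact p.Prime] (P : Sylow p G) {x c : G}
    (hxP : x • P = P) (huniq : ∀ Q : Sylow p G, x • Q = Q → Q = P) (hc : c * x = x * c) :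
    c ∈ Subgroup.normalizer ((P : Subgroup G) : Set G) := by
  apply Sylow.smul_eq_iff_mem_normalizer.mp
  apply huniq
  rw [← mul_smul, ← hc, mul_smul, hxP]

/-- a conjugate of `x` which fixes the unique fixed point `P` of `x` is conjugate to `x` under
`N(P)` -/
lemma mem_normalizer_of_conj_of_unique_fix {p : ℕ} [Fact p.Prime] (P : Sylow p G) {x g₀ : G}
    (huniq : ∀ Q : Sylow p G, x • Q = Q → Q = P)
    (h : g₀⁻¹ * x * g₀ ∈ Subgroup.normalizer ((P : Subgroup G) : Set G)) :
    g₀ ∈ Subgroup.normalizer ((P : Subgroup G) : Set G) := by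
  have h' : (g₀⁻¹ * x * g₀) • P = P := Sylow.smul_eq_iff_mem_normalizer.mpr h
  apply Sylow.smul_eq_iff_mem_normalizer.mp
  apply huniq
  have h1 : x • g₀ • P = g₀ • ((g₀⁻¹ * x * g₀) • P) := by
    rw [← mul_smul, ← mul_smul]; congr 1; group
  rw [h1, h']

/-- uniqueness of the fixed point from the count -/
lemma unique_fix_of_card {p : ℕ} [Fact p.Prime] (P : Sylow p G) {x : G} (hxP : x • P = P)
    (hcard : Nat.card (MulAction.fixedBy (Sylow p G) x) = 1) :
    ∀ Q : Sylow p G, x • Q = Q → Q = P := by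
  intro Q hQ
  haveI : Subsingleton (MulAction.fixedBy (Sylow p G) x) :=
    (Nat.card_eq_one_iff_unique.mp hcard).1
  have h1 : (⟨Q, hQ⟩ : MulAction.fixedBy (Sylow p G) x) = ⟨P, hxP⟩ := Subsingleton.elim _ _
  exact congrArg Subtype.val h1

/-- The main criterion: `x` of prime order `q` centralizes the Sylow `p`-subgroup `P`, fixes no
other Sylow `p`-subgroup, lies in an abelian Sylow `q`-subgroup `T`, and `|N(P)| = |P| |T|`. -/
theorem false_of_unique_fix [IsSimpleGroup G] (hG : ¬ IsMulCommutative G) {p q : ℕ}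
    [hp : Fact p.Prime] [hq : Fact q.Prime] (hpq : p ≠ q) (P : Sylow p G) (T : Sylow q G)
    (hT : ∀ a ∈ (T : Subgroup G), ∀ b ∈ (T : Subgroup G), a * b = b * a)
    {x : G} (hxT : x ∈ (T : Subgroup G)) (hx : orderOf x = q)
    (hxC : ∀ y ∈ (P : Subgroup G), y * x = x * y)
    (hcard : Nat.card (MulAction.fixedBy (Sylow p G) x) = 1)
    (hN : Nat.card (Subgroup.normalizer ((P : Subgroup G) : Set G)) =
      Nat.card (P : Subgroup G) * Nat.card (T : Subgroup G)) : False := by
  have hxN : x ∈ Subgroup.normalizer ((P : Subgroup G) : Set G) := by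
    apply Subgroup.centralizer_le_normalizer
    rw [Subgroup.mem_centralizer_iff]
    intro y hy
    exact hxC y hy
  have hxP : x • P = P := Sylow.smul_eq_iff_mem_normalizer.mpr hxN
  have huniq := unique_fix_of_card P hxP hcard
  -- the centralizer of x
  have hCle : Subgroup.centralizer ({x} : Set G) ≤
      Subgroup.normalizer ((P : Subgroup G) : Set G) := by
    intro c hc
    rw [Subgroup.mem_centralizer_singleton_iff] at hc
    exact mem_normalizer_of_commute_of_unique_fix P hxP huniq hc
  have hPle : (P : Subgroup G) ≤ Subgroup.centralizer ({x} : Set G) := by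
    intro y hy
    rw [Subgroup.mem_centralizer_singleton_iff]
    exact hxC y hy
  have hTle : (T : Subgroup G) ≤ Subgroup.centralizer ({x} : Set G) := by
    intro y hy
    rw [Subgroup.mem_centralizer_singleton_iff]
    exact hT y hy x hxT
  have hcop : Nat.Coprime (Nat.card (P : Subgroup G)) (Nat.card (T : Subgroup G)) := by
    obtain ⟨a, ha⟩ := (P.isPGroup').exists_card_eq
    obtain ⟨b, hb⟩ := (T.isPGroup').exists_card_eq
    rw [ha, hb]
    exact Nat.Coprime.pow _ _ ((Nat.coprime_primes hp.out hq.out).mpr hpq)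
  have hdvd : Nat.card (Subgroup.normalizer ((P : Subgroup G) : Set G)) ∣
      Nat.card (Subgroup.centralizer ({x} : Set G)) := by
    rw [hN]
    exact hcop.mul_dvd_of_dvd_of_dvd (Subgroup.card_dvd_of_le hPle) (Subgroup.card_dvd_of_le hTle)
  have hCeq : Subgroup.centralizer ({x} : Set G) =
      Subgroup.normalizer ((P : Subgroup G) : Set G) :=
    Subgroup.eq_of_le_of_card_ge hCle (Nat.le_of_dvd Nat.card_pos hdvd)
  apply false_of_isolated hG T hT hxT hx
  intro g₀ hmem
  have h1 : g₀⁻¹ * x * g₀ ∈ Subgroup.normalizer ((P : Subgroup G) : Set G) :=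
    hCle (hTle hmem)
  have h2 := mem_normalizer_of_conj_of_unique_fix P huniq h1
  rw [← hCeq, Subgroup.mem_centralizer_singleton_iff] at h2
  rw [mul_assoc, ← h2, ← mul_assoc, inv_mul_cancel, one_mul]

end Cfsg.Agent.Lib.Helper3.OrdTools
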