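import Mathlib
import Cfsg.Agent.Lib.Helper3.OrdTools

/-! No simple group of order 4620 = 2^2 * 3 * 5 * 7 * 11: element count. -/

set_option autoImplicit false
set_option maxHeartbeats 4000000
set_option maxRecDepth 100000
set_option linter.unusedVariables false
set_option linter.unusedSectionVars false
set_option linter.style.haveILetI false
set_option linter.deprecated false

namespace Cfsg.Agent.Lib.Helper3.Ord4620

open Cfsg.Agent.Lib.Lead Cfsg.Agent.Lib.Lead.SmallSimple Cfsg.Agent.Lib.Lead.SmallSimple2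
  Cfsg.Agent.Lib.Lead.SylowCount Cfsg.Agent.Lib.Lead.PrimeDegree
  Cfsg.Agent.Lib.Helper7.CountTools Cfsg.Agent.Lib.Helper7.SylPar Cfsg.Agent.Lib.Helper7.Small
  Cfsg.Agent.Lib.Helper3.OrdTools

theorem not_simple {G : Type*} [Group G] [Finite G] [IsSimpleGroup G]
    (h : Nat.card G = 4620) : False := by
  have hG : ¬ IsMulCommutative G := not_comm_of_not_prime (by rw [h]; norm_num)
  haveI f11 : Fact (Nat.Prime 11) := ⟨by norm_num⟩
  haveI f7 : Fact (Nat.Prime 7) := ⟨by norm_num⟩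
  haveI f5 : Fact (Nat.Prime 5) := ⟨by norm_num⟩
  -- the prime 11
  obtain ⟨d11, hd_mem, k11, hk_mem, hmod, hne1, hfac, hk, hk1, hd11, hc11, hC11, hN11, hpm11⟩ :=
    data_p1 hG (p := 11) (by norm_num) h (by norm_num) (by norm_num)
  have key11 : ∀ d ∈ Nat.divisors 4620, (d % 11 = 1 ∧ d ≠ 1) →
      ∀ k ∈ Nat.divisors (4620 / (d * 11)), (k ∣ 11 - 1 ∧ k ≠ 1) →
        (d = 12 ∧ 7 ∣ 4620 / (d * 11) / k) ∨ (d = 210 ∧ k = 2) := by
    decide +kernel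
  have hne11 : Nat.card (Sylow 11 G) ≠ 1 := by rw [hd11]; exact hne1
  have h11 : d11 = 210 ∧ k11 = 2 := by
    rcases key11 d11 hd_mem ⟨hmod, hne1⟩ k11 hk_mem ⟨hk, hk1⟩ with ⟨rfl, h7⟩ | h2
    · exfalso
      obtain P : Sylow 11 G := default
      obtain ⟨w, hw⟩ := exists_prime_orderOf_dvd_card' (G := Subgroup.centralizer
        ((P : Subgroup G) : Set G)) 7 (by rw [hC11 P]; exact Dvd.dvd.mul_left h7 11)
      have hw' : orderOf (w : G) = 7 := by rw [Subgroup.orderOf_coe]; exact hw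
      have hw1 : (w : G) ≠ 1 := by
        intro h1; rw [h1, orderOf_one] at hw'; norm_num at hw'
      have hwq : (w : G) ^ 7 = 1 := by rw [← hw']; exact pow_orderOf_eq_one _
      have hxC : ∀ y ∈ (P : Subgroup G), y * (w : G) = (w : G) * y :=
        Subgroup.mem_centralizer_iff.mp w.2
      have hf1 := fix_modEq_one P (v := (w : G)) hxC
      have hf3 := fix_lt 11 hne11 hw1
      have hf2 := fix_modEq_prime (α := Sylow 11 G) 7 (w : G) 1 (by rw [pow_one]; exact hwq)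
      rw [hd11] at hf2 hf3
      unfold Nat.ModEq at hf1 hf2
      omega
    · exact h2
  obtain ⟨rfl, rfl⟩ := h11
  have hC11' : ∀ P : Sylow 11 G,
      Nat.card (Subgroup.centralizer ((P : Subgroup G) : Set G)) = 11 * 1 := by
    intro P; rw [hC11 P]
  clear hd_mem hk_mem hmod hne1 hfac hk hk1
  -- the prime 7
  obtain ⟨d7, hd_mem, k7, hk_mem, hmod, hne1, hfac, hk, hk1, hd7, hc7, hC7, hN7, hpm7⟩ :=
    data_p1 hG (p := 7) (by norm_num) h (by norm_num) (by norm_num)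
  have key7 : ∀ d ∈ Nat.divisors 4620, (d % 7 = 1 ∧ d ≠ 1) →
      ∀ k ∈ Nat.divisors (4620 / (d * 7)), (k ∣ 7 - 1 ∧ k ≠ 1) →
        (d = 15 ∧ 11 ∣ 4620 / (d * 7) / k) ∨ (d = 22 ∧ 5 ∣ 4620 / (d * 7) / k) ∨
          (d = 330 ∧ k = 2) := by
    decide +kernel
  have hne7 : Nat.card (Sylow 7 G) ≠ 1 := by rw [hd7]; exact hne1
  have h7 : d7 = 330 ∧ k7 = 2 := by
    rcases key7 d7 hd_mem ⟨hmod, hne1⟩ k7 hk_mem ⟨hk, hk1⟩ with ⟨rfl, h11⟩ | ⟨rfl, h5⟩ | h2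
    · exfalso
      obtain P : Sylow 7 G := default
      obtain ⟨Q, hQ⟩ := dvd_card_centralizer_swap (q := 11) hc11 hc7 P
        (by rw [hC7 P]; exact Dvd.dvd.mul_left h11 7)
      rw [hC11' Q] at hQ
      norm_num at hQ
    · exfalso
      obtain P : Sylow 7 G := default
      obtain ⟨w, hw⟩ := exists_prime_orderOf_dvd_card' (G := Subgroup.centralizer
        ((P : Subgroup G) : Set G)) 5 (by rw [hC7 P]; exact Dvd.dvd.mul_left h5 7)
      have hw' : orderOf (w : G) = 5 := by rw [Subgroup.orderOf_coe]; exact hw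
      have hw1 : (w : G) ≠ 1 := by
        intro h1; rw [h1, orderOf_one] at hw'; norm_num at hw'
      have hwq : (w : G) ^ 5 = 1 := by rw [← hw']; exact pow_orderOf_eq_one _
      have hxC : ∀ y ∈ (P : Subgroup G), y * (w : G) = (w : G) * y :=
        Subgroup.mem_centralizer_iff.mp w.2
      have hf1 := fix_modEq_one P (v := (w : G)) hxC
      have hf3 := fix_lt 7 hne7 hw1
      have hf2 := fix_modEq_prime (α := Sylow 7 G) 5 (w : G) 1 (by rw [pow_one]; exact hwq)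
      rw [hd7] at hf2 hf3
      unfold Nat.ModEq at hf1 hf2
      omega
    · exact h2
  obtain ⟨rfl, rfl⟩ := h7
  have hC7' : ∀ P : Sylow 7 G,
      Nat.card (Subgroup.centralizer ((P : Subgroup G) : Set G)) = 7 * 1 := by
    intro P; rw [hC7 P]
  clear hd_mem hk_mem hmod hne1 hfac hk hk1
  -- the prime 5
  obtain ⟨d5, hd_mem, k5, hk_mem, hmod, hne1, hfac, hk, hk1, hd5, hc5, hC5, hN5, hpm5⟩ :=
    data_p1 hG (p := 5) (by norm_num) h (by norm_num) (by norm_num)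
  have key5 : ∀ d ∈ Nat.divisors 4620, (d % 5 = 1 ∧ d ≠ 1 ∧ 2 * 4620 ∣ d.factorial) →
      ∀ k ∈ Nat.divisors (4620 / (d * 5)), (k ∣ 5 - 1 ∧ k ≠ 1) →
        (7 ∣ 4620 / (d * 5) / k) ∨ (11 ∣ 4620 / (d * 5) / k) ∨
          (d = 231 ∧ (4620 / (d * 5) / k = 1 ∨ 4620 / (d * 5) / k = 2)) := by
    decide +kernel
  have h5 : d5 = 231 ∧ (4620 / (d5 * 5) / k5 = 1 ∨ 4620 / (d5 * 5) / k5 = 2) := by
    rcases key5 d5 hd_mem ⟨hmod, hne1, hfac⟩ k5 hk_mem ⟨hk, hk1⟩ with h7 | h11 | h2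
    · exfalso
      obtain P : Sylow 5 G := default
      obtain ⟨Q, hQ⟩ := dvd_card_centralizer_swap (q := 7) hc7 hc5 P
        (by rw [hC5 P]; exact Dvd.dvd.mul_left h7 5)
      rw [hC7' Q] at hQ
      norm_num at hQ
    · exfalso
      obtain P : Sylow 5 G := default
      obtain ⟨Q, hQ⟩ := dvd_card_centralizer_swap (q := 11) hc11 hc5 P
        (by rw [hC5 P]; exact Dvd.dvd.mul_left h11 5)
      rw [hC11' Q] at hQ
      norm_num at hQ
    · exact h2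
  obtain ⟨rfl, hm5⟩ := h5
  obtain ⟨m5, hm5def⟩ : ∃ m5, m5 = 4620 / (231 * 5) / k5 := ⟨_, rfl⟩
  rw [← hm5def] at hm5 hC5 hpm5
  -- counting
  have c11 := ncard_iUnion_Ysing hc11 hC11' (by norm_num : ¬ 11 ∣ 1)
  have c7 := ncard_iUnion_Ysing hc7 hC7' (by norm_num : ¬ 7 ∣ 1)
  have c5 := ncard_iUnion_Ysing hc5 hC5 hpm5
  rw [hd11] at c11
  rw [hd7] at c7
  rw [hd5] at c5
  have c5' : 924 ≤ (⋃ P : Sylow 5 G, Ysing P m5).ncard := by
    rw [c5]
    rcases hm5 with e | e <;> rw [e] <;> norm_num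
  have o11 : ∀ y ∈ (⋃ P : Sylow 11 G, Ysing P 1), 11 ∣ orderOf y ∧ orderOf y ∣ 11 * 1 := by
    intro y hy
    obtain ⟨P, hyP⟩ := Set.mem_iUnion.mp hy
    exact ⟨prime_dvd_orderOf_of_mem_Ysing P (hc11 P) (hC11' P) hyP,
      orderOf_dvd_of_mem_Ysing P (hC11' P) hyP⟩
  have o7 : ∀ y ∈ (⋃ P : Sylow 7 G, Ysing P 1), 7 ∣ orderOf y ∧ orderOf y ∣ 7 * 1 := by
    intro y hy
    obtain ⟨P, hyP⟩ := Set.mem_iUnion.mp hy
    exact ⟨prime_dvd_orderOf_of_mem_Ysing P (hc7 P) (hC7' P) hyP,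
      orderOf_dvd_of_mem_Ysing P (hC7' P) hyP⟩
  have o5 : ∀ y ∈ (⋃ P : Sylow 5 G, Ysing P m5), 5 ∣ orderOf y ∧ orderOf y ∣ 5 * m5 := by
    intro y hy
    obtain ⟨P, hyP⟩ := Set.mem_iUnion.mp hy
    exact ⟨prime_dvd_orderOf_of_mem_Ysing P (hc5 P) (hC5 P) hyP,
      orderOf_dvd_of_mem_Ysing P (hC5 P) hyP⟩
  have n7_11 : ¬ 7 ∣ 11 * 1 := by norm_num
  have n11_5 : ¬ 11 ∣ 5 * m5 := by rcases hm5 with e | e <;> rw [e] <;> norm_num
  have n7_5 : ¬ 7 ∣ 5 * m5 := by rcases hm5 with e | e <;> rw [e] <;> norm_num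
  have d1 : Disjoint (⋃ P : Sylow 11 G, Ysing P 1) (⋃ P : Sylow 7 G, Ysing P 1) :=
    Set.disjoint_left.mpr (fun y hy11 hy7 => n7_11 (dvd_trans (o7 y hy7).1 (o11 y hy11).2))
  have d2 : Disjoint ((⋃ P : Sylow 11 G, Ysing P 1) ∪ (⋃ P : Sylow 7 G, Ysing P 1))
      (⋃ P : Sylow 5 G, Ysing P m5) :=
    Set.disjoint_left.mpr (fun y hy hy5 => by
      rcases hy with hy | hy
      · exact n11_5 (dvd_trans (o11 y hy).1 (o5 y hy5).2)
      · exact n7_5 (dvd_trans (o7 y hy).1 (o5 y hy5).2))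
  have u : ((⋃ P : Sylow 11 G, Ysing P 1) ∪ (⋃ P : Sylow 7 G, Ysing P 1) ∪
      (⋃ P : Sylow 5 G, Ysing P m5)).ncard =
      210 * (11 * 1 - 1) + 330 * (7 * 1 - 1) + (⋃ P : Sylow 5 G, Ysing P m5).ncard := by
    rw [Set.ncard_union_eq d2, Set.ncard_union_eq d1, c11, c7]
  have hle : ((⋃ P : Sylow 11 G, Ysing P 1) ∪ (⋃ P : Sylow 7 G, Ysing P 1) ∪
      (⋃ P : Sylow 5 G, Ysing P m5)).ncard ≤ 4620 := by
    rw [← h, ← Set.ncard_univ]; exact Set.ncard_le_ncard (Set.subset_univ _)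
  rw [u] at hle
  omega

end Cfsg.Agent.Lib.Helper3.Ord4620
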