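import Mathlib
import Cfsg.Agent.Lib.Helper3.OrdTools

/-! No simple group of order 4680 = 2^3 * 3^2 * 5 * 13. -/

set_option autoImplicit false
set_option maxHeartbeats 4000000
set_option maxRecDepth 100000
set_option linter.unusedVariables false
set_option linter.unusedSectionVars false
set_option linter.style.haveILetI false
set_option linter.deprecated false

namespace Cfsg.Agent.Lib.Helper3.Ord4680

open Cfsg.Agent.Lib.Lead Cfsg.Agent.Lib.Lead.SmallSimple Cfsg.Agent.Lib.Lead.SmallSimple2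
  Cfsg.Agent.Lib.Lead.SylowCount Cfsg.Agent.Lib.Lead.PrimeDegree
  Cfsg.Agent.Lib.Helper7.CountTools Cfsg.Agent.Lib.Helper7.SylPar Cfsg.Agent.Lib.Helper7.Small
  Cfsg.Agent.Lib.Helper3.OrdTools

theorem not_simple {G : Type*} [Group G] [Finite G] [IsSimpleGroup G]
    (h : Nat.card G = 4680) : False := by
  have hG : ¬ IsMulCommutative G := not_comm_of_not_prime (by rw [h]; norm_num)
  haveI f13 : Fact (Nat.Prime 13) := ⟨by norm_num⟩
  haveI f3 : Fact (Nat.Prime 3) := ⟨by norm_num⟩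
  obtain ⟨d, hd_mem, k, hk_mem, hmod, hne1, hfac, hk, hk1, hd, hc, hC, hN, hpm⟩ :=
    data_p1 hG (p := 13) (by norm_num) h (by norm_num) (by norm_num)
  have key : ∀ d ∈ Nat.divisors 4680, (d % 13 = 1 ∧ d ≠ 1) →
      ∀ k ∈ Nat.divisors (4680 / (d * 13)), (k ∣ 13 - 1 ∧ k ≠ 1) → d = 40 ∧ k = 3 := by
    decide +kernel
  obtain ⟨rfl, rfl⟩ := key d hd_mem ⟨hmod, hne1⟩ k hk_mem ⟨hk, hk1⟩
  obtain P : Sylow 13 G := default
  have hCP : Nat.card (Subgroup.centralizer ((P : Subgroup G) : Set G)) = 39 := by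
    rw [hC P]
  have hNP : Nat.card (Subgroup.normalizer ((P : Subgroup G) : Set G)) = 117 := by
    rw [hN P]
  have hne1' : Nat.card (Sylow 13 G) ≠ 1 := by rw [hd]; exact hne1
  -- an element of order 3 centralizing P
  obtain ⟨w, hw⟩ := exists_prime_orderOf_dvd_card' (G := Subgroup.centralizer
    ((P : Subgroup G) : Set G)) 3 (by rw [hCP]; norm_num)
  have hw' : orderOf (w : G) = 3 := by rw [Subgroup.orderOf_coe]; exact hw
  have hw1 : (w : G) ≠ 1 := by
    intro h1; rw [h1, orderOf_one] at hw'; norm_num at hw'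
  have hwq : (w : G) ^ 3 = 1 := by rw [← hw']; exact pow_orderOf_eq_one _
  have hxC : ∀ y ∈ (P : Subgroup G), y * (w : G) = (w : G) * y :=
    Subgroup.mem_centralizer_iff.mp w.2
  have hf1 := fix_modEq_one P (v := (w : G)) hxC
  have hf3 := fix_lt 13 hne1' hw1
  have hf2 := fix_modEq_prime (α := Sylow 13 G) 3 (w : G) 1 (by rw [pow_one]; exact hwq)
  rw [hd] at hf2 hf3
  have hf : Nat.card (MulAction.fixedBy (Sylow 13 G) (w : G)) = 1 := by
    unfold Nat.ModEq at hf1 hf2
    omega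
  -- a Sylow 3-subgroup containing w
  have hpg : IsPGroup 3 (Subgroup.zpowers (w : G)) :=
    IsPGroup.of_card (n := 1) (by rw [Nat.card_zpowers, hw', pow_one])
  obtain ⟨T, hT⟩ := hpg.exists_le_sylow
  have hwT : (w : G) ∈ (T : Subgroup G) := hT (Subgroup.mem_zpowers _)
  have hTcard : Nat.card (T : Subgroup G) = 3 ^ 2 :=
    card_sylow_of_card_eq_pow 3 2 520 (by rw [h]; norm_num) (by norm_num) T
  have hTcomm : ∀ a ∈ (T : Subgroup G), ∀ b ∈ (T : Subgroup G), a * b = b * a := by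
    intro a ha b hb
    have h1 := IsPGroup.commutative_of_card_eq_prime_sq (p := 3) (G := (T : Subgroup G)) hTcard
      ⟨a, ha⟩ ⟨b, hb⟩
    exact congrArg Subtype.val h1
  exact false_of_unique_fix hG (p := 13) (q := 3) (by norm_num) P T hTcomm hwT hw' hxC hf
    (by rw [hNP, hTcard, show Nat.card (P : Subgroup G) = 13 from hc P]; norm_num)

end Cfsg.Agent.Lib.Helper3.Ord4680
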