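import Mathlib
import Cfsg.Agent.Lib.Helper3.OrdTools

/-! No simple group of order 5460 = 2^2 * 3 * 5 * 7 * 13. -/

set_option autoImplicit false
set_option maxHeartbeats 4000000
set_option maxRecDepth 100000
set_option linter.unusedVariables false
set_option linter.unusedSectionVars false
set_option linter.style.haveILetI false
set_option linter.deprecated false

namespace Cfsg.Agent.Lib.Helper3.Ord5460

open Cfsg.Agent.Lib.Lead Cfsg.Agent.Lib.Lead.SmallSimple Cfsg.Agent.Lib.Lead.SmallSimple2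
  Cfsg.Agent.Lib.Lead.SylowCount Cfsg.Agent.Lib.Lead.PrimeDegree
  Cfsg.Agent.Lib.Helper7.CountTools Cfsg.Agent.Lib.Helper7.SylPar Cfsg.Agent.Lib.Helper7.Small
  Cfsg.Agent.Lib.Helper3.OrdTools

theorem not_simple {G : Type*} [Group G] [Finite G] [IsSimpleGroup G]
    (h : Nat.card G = 5460) : False := by
  have hG : ¬ IsMulCommutative G := not_comm_of_not_prime (by rw [h]; norm_num)
  haveI f13 : Fact (Nat.Prime 13) := ⟨by norm_num⟩
  haveI f5 : Fact (Nat.Prime 5) := ⟨by norm_num⟩
  haveI f2 : Fact (Nat.Prime 2) := ⟨by norm_num⟩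
  obtain ⟨d, hd_mem, k, hk_mem, hmod, hne1, hfac, hk, hk1, hd, hc, hC, hN, hpm⟩ :=
    data_p1 hG (p := 13) (by norm_num) h (by norm_num) (by norm_num)
  have key : ∀ d ∈ Nat.divisors 5460, (d % 13 = 1 ∧ d ≠ 1) →
      ∀ k ∈ Nat.divisors (5460 / (d * 13)), (k ∣ 13 - 1 ∧ k ≠ 1) →
        (d = 14 ∧ 5 ∣ 5460 / (d * 13) / k) ∨ (d = 105 ∧ k = 2) ∨ (d = 105 ∧ k = 4) := by
    decide +kernel
  obtain P : Sylow 13 G := default
  have hne1' : Nat.card (Sylow 13 G) ≠ 1 := by rw [hd]; exact hne1
  have hTcard : ∀ T : Sylow 2 G, Nat.card (T : Subgroup G) = 2 ^ 2 := fun T =>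
    card_sylow_of_card_eq_pow 2 2 1365 (by rw [h]; norm_num) (by norm_num) T
  have hTcomm : ∀ T : Sylow 2 G, ∀ a ∈ (T : Subgroup G), ∀ b ∈ (T : Subgroup G),
      a * b = b * a := by
    intro T a ha b hb
    have h1 := IsPGroup.commutative_of_card_eq_prime_sq (p := 2) (G := (T : Subgroup G))
      (hTcard T) ⟨a, ha⟩ ⟨b, hb⟩
    exact congrArg Subtype.val h1
  rcases key d hd_mem ⟨hmod, hne1⟩ k hk_mem ⟨hk, hk1⟩ with ⟨rfl, h5⟩ | ⟨rfl, rfl⟩ | ⟨rfl, rfl⟩
  · -- fourteen Sylow 13-subgroups: an element of order 5 centralizes `P`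
    obtain ⟨w, hw⟩ := exists_prime_orderOf_dvd_card' (G := Subgroup.centralizer
      ((P : Subgroup G) : Set G)) 5 (by rw [hC P]; exact Dvd.dvd.mul_left h5 13)
    have hw' : orderOf (w : G) = 5 := by rw [Subgroup.orderOf_coe]; exact hw
    have hw1 : (w : G) ≠ 1 := by
      intro h1; rw [h1, orderOf_one] at hw'; norm_num at hw'
    have hwq : (w : G) ^ 5 = 1 := by rw [← hw']; exact pow_orderOf_eq_one _
    have hxC : ∀ y ∈ (P : Subgroup G), y * (w : G) = (w : G) * y :=
      Subgroup.mem_centralizer_iff.mp w.2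
    have hf1 := fix_modEq_one P (v := (w : G)) hxC
    have hf3 := fix_lt 13 hne1' hw1
    have hf2 := fix_modEq_prime (α := Sylow 13 G) 5 (w : G) 1 (by rw [pow_one]; exact hwq)
    rw [hd] at hf2 hf3
    unfold Nat.ModEq at hf1 hf2
    omega
  · -- 105 Sylow 13-subgroups, `|C(P)| = 26`
    have hCP : Nat.card (Subgroup.centralizer ((P : Subgroup G) : Set G)) = 13 * 2 := by
      rw [hC P]
    have hNP : Nat.card (Subgroup.normalizer ((P : Subgroup G) : Set G)) = 52 := by
      rw [hN P]
    obtain ⟨v, hvC, hv2, hv1⟩ :=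
      exists_involution (Subgroup.centralizer ((P : Subgroup G) : Set G))
        (by rw [hCP]; norm_num)
    have hxC : ∀ y ∈ (P : Subgroup G), y * v = v * y := Subgroup.mem_centralizer_iff.mp hvC
    have hf1 := fix_modEq_one P (v := v) hxC
    have hf2 := fix_modEq_four hG (α := Sylow 13 G) v hv2
    have hf3 := fix_lt 13 hne1' hv1
    rw [hd] at hf2 hf3
    have hvo : orderOf v = 2 := orderOf_eq_prime (by rw [pow_two]; exact hv2) hv1
    have hcases : Nat.card (MulAction.fixedBy (Sylow 13 G) v) = 1 ∨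
        Nat.card (MulAction.fixedBy (Sylow 13 G) v) = 53 := by
      unfold Nat.ModEq at hf1 hf2
      omega
    rcases hcases with hf | hf
    · -- unique fixed point: `v` is isolated in a Sylow 2-subgroup
      have hpg : IsPGroup 2 (Subgroup.zpowers v) :=
        IsPGroup.of_card (n := 1) (by rw [Nat.card_zpowers, hvo, pow_one])
      obtain ⟨T, hT⟩ := hpg.exists_le_sylow
      have hvT : v ∈ (T : Subgroup G) := hT (Subgroup.mem_zpowers _)
      exact false_of_unique_fix hG (p := 13) (q := 2) (by norm_num) P T (hTcomm T) hvT hvo hxC hf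
        (by rw [hNP, hTcard T, show Nat.card (P : Subgroup G) = 13 from hc P]; norm_num)
    · -- 53 fixed points: the centralizer of `v` is too large
      have hS : ∀ g, IsConj v g → g ∈ Subgroup.normalizer ((P : Subgroup G) : Set G) →
          g ∈ Subgroup.centralizer ((P : Subgroup G) : Set G) := by
        intro g hg hgN
        by_contra hgC
        have h3 := fix_bound P (hc P) hgN hgC
        rw [← fix_conj hg, hd, hf] at h3
        omega
      have hvm : v ^ 2 = 1 := by rw [pow_two]; exact hv2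
      have hle := card_conj_le' P (hc P) hCP (by norm_num) hvm hv1 hS
      have hs1 : 1 ≤ Nat.card {g : G // IsConj v g ∧
          g ∈ Subgroup.normalizer ((P : Subgroup G) : Set G)} := by
        have : Nonempty {g : G // IsConj v g ∧
            g ∈ Subgroup.normalizer ((P : Subgroup G) : Set G)} :=
          ⟨⟨v, IsConj.refl v, Subgroup.centralizer_le_normalizer _ hvC⟩⟩
        exact Nat.card_pos
      have hform : Nat.card (MulAction.fixedBy (Sylow 13 G) v) *
          Nat.card (Subgroup.normalizer ((P : Subgroup G) : Set G)) =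
          Nat.card {g : G // IsConj v g ∧
            g ∈ Subgroup.normalizer ((P : Subgroup G) : Set G)} *
            Nat.card (Subgroup.centralizer ({v} : Set G)) := by
        have h0 := fix_formula (α := Sylow 13 G) P v
        rw [Sylow.stabilizer_eq_normalizer] at h0
        exact h0
      have hs : Nat.card {g : G // IsConj v g ∧
          g ∈ Subgroup.normalizer ((P : Subgroup G) : Set G)} = 1 := by omega
      rw [hf, hNP, hs, one_mul] at hform
      have hdvd : Nat.card (Subgroup.centralizer ({v} : Set G)) ∣ 5460 := by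
        rw [← h]; exact Subgroup.card_subgroup_dvd_card _
      rw [← hform] at hdvd
      norm_num at hdvd
  · -- 105 Sylow 13-subgroups, `|C(P)| = 13`, `N(P)/C(P)` of order 4
    have hCP : Nat.card (Subgroup.centralizer ((P : Subgroup G) : Set G)) = 13 := by
      rw [hC P]
    have hNP : Nat.card (Subgroup.normalizer ((P : Subgroup G) : Set G)) = 52 := by
      rw [hN P]
    have hCodd : Odd (Nat.card (Subgroup.centralizer ((P : Subgroup G) : Set G))) := by
      rw [hCP]; decide
    -- a subgroup of order 4 of `N(P)`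
    obtain ⟨S₀, hS₀⟩ := Sylow.exists_subgroup_card_pow_prime
      (G := Subgroup.normalizer ((P : Subgroup G) : Set G)) 2 (n := 2) (by rw [hNP]; norm_num)
    have hScard : Nat.card (S₀.map (Subgroup.normalizer ((P : Subgroup G) : Set G)).subtype) =
        2 ^ 2 := by
      rw [Subgroup.card_map_of_injective (Subgroup.subtype_injective _)]; exact hS₀
    have hSle : S₀.map (Subgroup.normalizer ((P : Subgroup G) : Set G)).subtype ≤
        Subgroup.normalizer ((P : Subgroup G) : Set G) := Subgroup.map_subtype_le _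
    obtain ⟨T, hT⟩ := (IsPGroup.of_card hScard).exists_le_sylow
    have hTeq : S₀.map (Subgroup.normalizer ((P : Subgroup G) : Set G)).subtype =
        (T : Subgroup G) :=
      Subgroup.eq_of_le_of_card_ge hT (by rw [hScard, hTcard T])
    have hTle : (T : Subgroup G) ≤ Subgroup.normalizer ((P : Subgroup G) : Set G) := by
      rw [← hTeq]; exact hSle
    obtain ⟨t, htT, ht2, ht1⟩ := exists_involution (T : Subgroup G)
      (by rw [hTcard T]; norm_num)
    have hto : orderOf t = 2 := orderOf_eq_prime (by rw [pow_two]; exact ht2) ht1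
    have hnotC : ∀ y ∈ (T : Subgroup G), y * y = 1 → y ≠ 1 →
        y ∉ Subgroup.centralizer ((P : Subgroup G) : Set G) :=
      fun y _ hy2 hy1 hyC => hy1 (eq_one_of_sq_of_odd hCodd hy2 hyC)
    apply false_of_isolated hG T (hTcomm T) htT hto
    intro g₀ hmem
    have hy2 : (g₀⁻¹ * t * g₀) * (g₀⁻¹ * t * g₀) = 1 := by
      have : (g₀⁻¹ * t * g₀) * (g₀⁻¹ * t * g₀) = g₀⁻¹ * (t * t) * g₀ := by group
      rw [this, ht2]; group
    have hy1 : g₀⁻¹ * t * g₀ ≠ 1 := by
      intro h1
      apply ht1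
      have : t = g₀ * (g₀⁻¹ * t * g₀) * g₀⁻¹ := by group
      rw [this, h1]; group
    have hyC := hnotC _ hmem hy2 hy1
    have htC := hnotC t htT ht2 ht1
    -- the product centralizes `P`
    have hprodC : (g₀⁻¹ * t * g₀) * t ∈ Subgroup.centralizer ((P : Subgroup G) : Set G) := by
      rw [Subgroup.mem_centralizer_iff]
      intro z hz
      have h1 := inverts_of_involution P (hc P) ht2 (hTle htT) htC hz
      have hz' : z⁻¹ ∈ (P : Subgroup G) := Subgroup.inv_mem _ hz
      have h2 := inverts_of_involution P (hc P) hy2 (hTle hmem) hyC hz'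
      rw [inv_inv] at h2
      -- h1 : t * z * t⁻¹ = z⁻¹ ; h2 : y * z⁻¹ * y⁻¹ = z
      have h3 : (g₀⁻¹ * t * g₀) * t * z * ((g₀⁻¹ * t * g₀) * t)⁻¹ = z := by
        have : (g₀⁻¹ * t * g₀) * t * z * ((g₀⁻¹ * t * g₀) * t)⁻¹ =
            (g₀⁻¹ * t * g₀) * (t * z * t⁻¹) * (g₀⁻¹ * t * g₀)⁻¹ := by group
        rw [this, h1, h2]
      have h4 : (g₀⁻¹ * t * g₀) * t * z = z * ((g₀⁻¹ * t * g₀) * t) := by
        conv_rhs => rw [← h3]
        group
      exact h4.symm
    have hprod2 : ((g₀⁻¹ * t * g₀) * t) * ((g₀⁻¹ * t * g₀) * t) = 1 := by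
      have hcomm := hTcomm T _ hmem t htT
      calc ((g₀⁻¹ * t * g₀) * t) * ((g₀⁻¹ * t * g₀) * t)
          = (g₀⁻¹ * t * g₀) * (t * (g₀⁻¹ * t * g₀)) * t := by group
        _ = (g₀⁻¹ * t * g₀) * ((g₀⁻¹ * t * g₀) * t) * t := by rw [hcomm]
        _ = ((g₀⁻¹ * t * g₀) * (g₀⁻¹ * t * g₀)) * (t * t) := by group
        _ = 1 := by rw [hy2, ht2, one_mul]
    have hprod1 := eq_one_of_sq_of_odd hCodd hprod2 hprodC
    -- y * t = 1 and t * t = 1 give y = t
    calc g₀⁻¹ * t * g₀ = (g₀⁻¹ * t * g₀) * (t * t) := by rw [ht2, mul_one]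
      _ = ((g₀⁻¹ * t * g₀) * t) * t := by group
      _ = t := by rw [hprod1, one_mul]

end Cfsg.Agent.Lib.Helper3.Ord5460
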