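import Mathlib
import Cfsg.Agent.Lib.Helper6.BLSimple2
import Cfsg.Agent.Lib.Lead.SylowCount

/-! No simple group of order 5724 = 2^2 * 3^3 * 53. -/

set_option autoImplicit false
set_option maxHeartbeats 4000000
set_option maxRecDepth 100000
set_option linter.unusedVariables false
set_option linter.unusedSectionVars false
set_option linter.style.haveILetI false
set_option linter.deprecated false

namespace Cfsg.Agent.Lib.Helper3.Ord5724

open Cfsg.Agent.Lib.Helper6 Cfsg.Agent.Lib.Lead.SylowCount

theorem not_simple {G : Type*} [Group G] [Finite G] [IsSimpleGroup G]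
    (hG : Nat.card G = 5724) : False := by
  haveI : Fact (Nat.Prime 53) := ⟨by norm_num⟩
  obtain ⟨P⟩ : Nonempty (Sylow 53 G) := inferInstance
  have hPcard : Nat.card P = 53 := card_sylow_of_card_eq 53 108 (by rw [hG]) (by norm_num) P
  have hdvd : Nat.card (Sylow 53 G) ∣ 108 :=
    card_sylow_dvd_of_card P hPcard (by rw [hG]) (by norm_num)
  have hmod : Nat.card (Sylow 53 G) % 53 = 1 := card_sylow_modEq_one 53 G
  have hne1 : Nat.card (Sylow 53 G) ≠ 1 :=
    card_sylow_ne_one_of_card P hPcard (by norm_num) (by rw [hG]; norm_num)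
  have hle : Nat.card (Sylow 53 G) ≤ 108 := Nat.le_of_dvd (by norm_num) hdvd
  have hN := card_sylow_mul_card_normalizer 53 P
  rw [hG] at hN
  have h54 : Nat.card (Sylow 53 G) = 54 := by
    generalize Nat.card (Sylow 53 G) = n at *
    interval_cases n <;> omega
  rw [h54] at hN
  have hN' : Nat.card (Subgroup.normalizer ((P : Subgroup G) : Set G)) = 53 * 2 := by
    have : Nat.card (Subgroup.normalizer ((P : Subgroup G) : Set G)) =
      Nat.card (Subgroup.normalizer (P : Set G)) := rfl
    omega
  obtain ⟨d, e, a, δ, ha, hδ, hd, he, hd1, hmodd, hrel, hsq⟩ :=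
    simple_e2 53 P hPcard hN' (by norm_num) (by rw [hG]; norm_num)
  rw [hG] at hd he hsq
  rw [Int.modEq_iff_dvd] at hmodd
  have hd75 : d ≤ 75 := by nlinarith
  have he14 : e ≤ 14 := by nlinarith
  rcases ha with rfl | rfl <;> rcases hδ with rfl | rfl <;> interval_cases d <;> omega

end Cfsg.Agent.Lib.Helper3.Ord5724
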