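import Cfsg.Agent.Lib.Helper2.PUBasic3

set_option autoImplicit false
open Pointwise

/-!
# S4385 (farm D2N) : unit `caseI_card`
-/

namespace Cfsg.Agent.Lib.Helper3.D2N

open Cfsg.Agent.Lib.Helper2.PU

variable {G : Type*} [Group G] {H P T K : Subgroup G} {y ρ : G} {n : ℕ}

/-- the subgroup `D = {x ∈ T | y⁻¹ x y ∈ T}` -/
def Dsub (T : Subgroup G) (y : G) : Subgroup G where
  carrier := {x | x ∈ T ∧ y⁻¹ * x * y ∈ T}
  one_mem' := ⟨T.one_mem, by simpa using T.one_mem⟩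
  mul_mem' := by
    rintro a b ⟨ha, ha'⟩ ⟨hb, hb'⟩
    refine ⟨T.mul_mem ha hb, ?_⟩
    have e : y⁻¹ * (a * b) * y = (y⁻¹ * a * y) * (y⁻¹ * b * y) := by group
    rw [e]; exact T.mul_mem ha' hb'
  inv_mem' := by
    rintro a ⟨ha, ha'⟩
    refine ⟨T.inv_mem ha, ?_⟩
    have e : y⁻¹ * a⁻¹ * y = (y⁻¹ * a * y)⁻¹ := by group
    rw [e]; exact T.inv_mem ha'

theorem mem_Dsub {T : Subgroup G} {y x : G} : x ∈ Dsub T y ↔ x ∈ T ∧ y⁻¹ * x * y ∈ T := Iff.rfl

theorem rho_pow_comm_T (hρT : ∀ x ∈ T, ρ * x = x * ρ) (i : ℕ) {x : G} (hx : x ∈ T) :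
    ρ ^ i * x = x * ρ ^ i := by
  induction i with
  | zero => simp
  | succ i ih =>
    rw [pow_succ, mul_assoc, hρT x hx, ← mul_assoc, ih, mul_assoc]

theorem Dsub_eq_bot [Finite G] (s : Setup H P T K y ρ n) (hρT : ∀ x ∈ T, ρ * x = x * ρ) :
    Dsub T y = ⊥ := by
  apply s.hyQ (Dsub T y)
  · intro x hx; exact s.hTP hx.1
  · -- H-invariance
    have hPinv : ∀ q ∈ P, ∀ x ∈ Dsub T y, q * x * q⁻¹ ∈ Dsub T y := by
      intro q hq x hx
      refine ⟨s.hTn q (s.hPH hq) x hx.1, ?_⟩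
      have e : y⁻¹ * (q * x * q⁻¹) * y = (y⁻¹ * q * y) * (y⁻¹ * x * y) * (y⁻¹ * q * y)⁻¹ := by
        group
      rw [e]
      exact s.hTn _ (s.hPH (s.hyP' q hq)) _ hx.2
    intro a ha x hx
    obtain ⟨k, hk, p, hp, rfl⟩ := s.hHK a ha
    obtain ⟨i, x1, hx1, rfl⟩ := s.hKρ k hk
    have h1 : p * x * p⁻¹ ∈ Dsub T y := hPinv p hp x hx
    have h2 : ρ ^ i * (p * x * p⁻¹) = (p * x * p⁻¹) * ρ ^ i := rho_pow_comm_T hρT i h1.1
    have e : x1 * ρ ^ i * p * x * (x1 * ρ ^ i * p)⁻¹ =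
        x1 * (ρ ^ i * (p * x * p⁻¹)) * (ρ ^ i)⁻¹ * x1⁻¹ := by group
    rw [e, h2]
    have e2 : x1 * (p * x * p⁻¹ * ρ ^ i) * (ρ ^ i)⁻¹ * x1⁻¹ = x1 * (p * x * p⁻¹) * x1⁻¹ := by
      group
    rw [e2]
    exact hPinv x1 (s.hTP hx1) _ h1
  · -- y-invariance
    intro x hx
    obtain ⟨p0, hp0, h0⟩ := s.hy2
    refine ⟨?_, ?_⟩
    · have h1 := h0 (y⁻¹ * x * y) (s.hTP hx.2)
      have e : y * y * (y⁻¹ * x * y) * y⁻¹ * y⁻¹ = y * x * y⁻¹ := by group
      rw [e] at h1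
      rw [h1]
      exact s.hTn p0 (s.hPH hp0) _ hx.2
    · have e : y⁻¹ * (y * x * y⁻¹) * y = x := by group
      rw [e]; exact hx.1

theorem caseI_card [Finite G] (s : Setup H P T K y ρ n) (hρT : ∀ x ∈ T, ρ * x = x * ρ) :
    Nat.card T = 2 ∧ Nat.card P = 4 ∧ ∀ p ∈ P, p * p = 1 := by
  have hD := Dsub_eq_bot s hρT
  -- nontrivial elements of `T` are moved out of `T` by `y⁻¹`
  have hout : ∀ x ∈ T, x ≠ 1 → y⁻¹ * x * y ∉ T := by
    intro x hx hx1 h
    have : x ∈ Dsub T y := ⟨hx, h⟩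
    rw [hD, Subgroup.mem_bot] at this
    exact hx1 this
  have hprod : ∀ x ∈ T, ∀ x' ∈ T, x ≠ 1 → x' ≠ 1 → x * x' = 1 := by
    intro x hx x' hx' h1 h1'
    have h2 : (y⁻¹ * x * y) * (y⁻¹ * x' * y) ∈ T :=
      s.hidx _ (s.hyP' x (s.hTP hx)) _ (s.hyP' x' (s.hTP hx')) (hout x hx h1) (hout x' hx' h1')
    have e : (y⁻¹ * x * y) * (y⁻¹ * x' * y) = y⁻¹ * (x * x') * y := by group
    rw [e] at h2
    have : x * x' ∈ Dsub T y := ⟨T.mul_mem hx hx', h2⟩
    rw [hD, Subgroup.mem_bot] at this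
    exact this
  -- a nontrivial element of `T`
  obtain ⟨x0, hx0, hx01⟩ : ∃ x0 ∈ T, x0 ≠ 1 := by
    by_contra hcon
    push_neg at hcon
    apply s.hTne
    rw [Subgroup.eq_bot_iff_forall]
    exact hcon
  have hx0sq : x0 * x0 = 1 := hprod x0 hx0 x0 hx0 hx01 hx01
  have huniq : ∀ x ∈ T, x = 1 ∨ x = x0 := by
    intro x hx
    by_cases h1 : x = 1
    · exact Or.inl h1
    · right
      have h2 := hprod x hx x0 hx0 h1 hx01
      -- x * x0 = 1 and x0 * x0 = 1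
      have : x * x0 = x0 * x0 := by rw [h2, hx0sq]
      exact mul_right_cancel this
  have hT2 : Nat.card T = 2 := by
    rw [Nat.card_eq_two_iff' (1 : T)]
    refine ⟨⟨x0, hx0⟩, ?_, ?_⟩
    · intro h; apply hx01; simpa using congrArg Subtype.val h
    · rintro ⟨z, hz⟩ hz1
      rcases huniq z hz with h | h
      · exfalso; apply hz1; ext; simpa using h
      · ext; simpa using h
  have hP4 : Nat.card P = 4 := by rw [s.card_P, hT2]
  refine ⟨hT2, hP4, ?_⟩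
  -- exponent 2
  set t := y⁻¹ * x0 * y with ht
  have htP : t ∈ P := s.hyP' x0 (s.hTP hx0)
  have htT : t ∉ T := hout x0 hx0 hx01
  have htsq : t * t = 1 := by
    have e : t * t = y⁻¹ * (x0 * x0) * y := by rw [ht]; group
    rw [e, hx0sq]; group
  have htx0 : t * x0 * t⁻¹ = x0 := by
    have h1 : t * x0 * t⁻¹ ∈ T := s.hTn t (s.hPH htP) x0 hx0
    rcases huniq _ h1 with h | h
    · exfalso; apply hx01
      have : x0 = t⁻¹ * (t * x0 * t⁻¹) * t := by group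
      rw [this, h]; group
    · exact h
  intro p hp
  by_cases hpT : p ∈ T
  · rcases huniq p hpT with h | h
    · rw [h]; simp
    · rw [h]; exact hx0sq
  · have h1 : t⁻¹ * p ∈ T := s.inv_mul_mem_T htP htT hp hpT
    have htinv : t⁻¹ = t := inv_eq_of_mul_eq_one_right htsq
    rcases huniq _ h1 with h | h
    · have : p = t := by
        have : p = t * (t⁻¹ * p) := by group
        rw [this, h, mul_one]
      rw [this]; exact htsq
    · have hp' : p = t * x0 := by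
        have : p = t * (t⁻¹ * p) := by group
        rw [this, h]
      have hcomm : t * x0 = x0 * t := by
        have : t * x0 = (t * x0 * t⁻¹) * t := by group
        rw [this, htx0]
      rw [hp']
      calc t * x0 * (t * x0) = t * (x0 * t) * x0 := by group
        _ = t * (t * x0) * x0 := by rw [hcomm]
        _ = (t * t) * (x0 * x0) := by group
        _ = 1 := by rw [htsq, hx0sq, mul_one]

end Cfsg.Agent.Lib.Helper3.D2N
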