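import Mathlib

set_option autoImplicit false
set_option maxHeartbeats 4000000
set_option maxRecDepth 100000
set_option linter.unusedVariables false
set_option linter.unusedSectionVars false
set_option linter.style.longLine false

namespace Cfsg.Agent.Lib.Helper3.SOT4

/-- abstract averaging lemma: if all the "norms" `∏_{i<p} h^i • a` vanish for `h` in a set `S`
stable under the power maps and under left multiplication by a fixed point free `y`, then
`a ^ |S| = 1`. -/
theorem pow_card_eq_one_of_norms {G A : Type*} [Group G] [CommGroup A] [MulDistribMulAction G A]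
    [DecidableEq G]
    (S : Finset G) (p : ℕ) (hp0 : 0 < p) (y : G)
    (hpow : ∀ i, 0 < i → i < p →
      Set.MapsTo (fun h : G => h ^ i) (S : Set G) (S : Set G) ∧ Set.InjOn (fun h : G => h ^ i) (S : Set G))
    (hy : Set.MapsTo (fun h : G => y * h) (S : Set G) (S : Set G))
    (hnorm : ∀ h ∈ S, ∀ a : A, ∏ i ∈ Finset.range p, (h ^ i) • a = 1)
    (hfix : ∀ a : A, y • a = a → a = 1) (a : A) : a ^ S.card = 1 := by
  obtain ⟨p', rfl⟩ : ∃ p', p = p' + 1 := ⟨p - 1, by omega⟩
  have hT1 : ∏ h ∈ S, h • a = 1 := by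
    apply hfix
    rw [Finset.smul_prod']
    simp_rw [← mul_smul]
    refine Finset.prod_nbij (fun h => y * h) hy (fun _ _ _ _ h => mul_left_cancel h) ?_ (fun _ _ => rfl)
    exact Finset.surjOn_of_injOn_of_card_le _ hy (fun _ _ _ _ h => mul_left_cancel h) le_rfl
  have hTi : ∀ i, 0 < i → i < p' + 1 → ∏ h ∈ S, (h ^ i) • a = 1 := by
    intro i hi0 hip
    obtain ⟨hm, hinj⟩ := hpow i hi0 hip
    rw [← hT1]
    refine Finset.prod_nbij (fun h => h ^ i) hm hinj ?_ (fun _ _ => rfl)
    exact Finset.surjOn_of_injOn_of_card_le _ hm hinj le_rfl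
  have hall : ∏ h ∈ S, ∏ i ∈ Finset.range (p' + 1), (h ^ i) • a = 1 :=
    Finset.prod_eq_one (fun h hh => hnorm h hh a)
  rw [Finset.prod_comm, Finset.prod_range_succ'] at hall
  have h0 : ∏ h ∈ S, (h ^ 0) • a = a ^ S.card := by
    simp
  rw [h0] at hall
  have hrest : ∏ k ∈ Finset.range p', ∏ h ∈ S, (h ^ (k + 1)) • a = 1 := by
    apply Finset.prod_eq_one
    intro k hk
    exact hTi (k + 1) (Nat.succ_pos k) (by have := Finset.mem_range.1 hk; omega)
  rw [hrest, one_mul] at hall
  exact hall

/-- commutative group structure on an abelian subgroup. -/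
@[reducible] def commOf {G : Type*} [Group G] (V : Subgroup G)
    (hVab : ∀ u ∈ V, ∀ v ∈ V, u * v = v * u) : CommGroup ↥V :=
  { (inferInstance : Group ↥V) with mul_comm := fun a b => Subtype.ext (hVab a a.2 b b.2) }

/-- conjugation on a normal subgroup. -/
def cj {G : Type*} [Group G] (V : Subgroup G) [hn : V.Normal] (g : G) (v : ↥V) : ↥V :=
  ⟨g * v * g⁻¹, hn.conj_mem v v.2 g⟩

theorem pow_inv_mod {G : Type*} [Group G] {p : ℕ} (g : G) (hg : orderOf g = p) (i m : ℕ)
    (him : i * m % p = 1) : (g ^ i) ^ m = g := by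
  rw [← pow_mul, ← pow_mod_orderOf, hg, him, pow_one]

/-- (G5) in a group all of whose elements have order `1`, `p` or `q`, with a nontrivial normal abelian
`p`-subgroup and Sylow `q`-subgroups of order `q`, no element of order `p` normalizes a subgroup
of order `q`. -/
theorem false_of_normalizing_p_element {G : Type*} [Group G] [Finite G] (p q : ℕ) (hp : p.Prime)
    (hq : q.Prime) (hpq : p ≠ q)
    (hepo : ∀ g : G, g ≠ 1 → orderOf g = p ∨ orderOf g = q) (hq2 : ¬ q ^ 2 ∣ Nat.card G)
    (V : Subgroup G) [V.Normal] (hVab : ∀ u ∈ V, ∀ v ∈ V, u * v = v * u) (hVp : IsPGroup p V)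
    (hV1 : V ≠ ⊥) (x y : G) (hx : orderOf x = p) (hy : orderOf y = q)
    (hxy : x * y * x⁻¹ ∈ Subgroup.zpowers y) : False := by
  classical
  haveI : Fact p.Prime := ⟨hp⟩
  haveI : Fact q.Prime := ⟨hq⟩
  haveI : Fintype G := Fintype.ofFinite G
  have hcop : Nat.Coprime p q := (Nat.coprime_primes hp hq).2 hpq
  have hp2 : 2 ≤ p := hp.two_le
  have hq2' : 2 ≤ q := hq.two_le
  -- no commuting pair of orders p and q
  have hnopq : ∀ a b : G, Commute a b → orderOf a = p → orderOf b = q → False := by
    intro a b hab ha hb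
    have h := hab.orderOf_mul_eq_mul_orderOf_of_coprime (by rw [ha, hb]; exact hcop)
    rw [ha, hb] at h
    have hne : a * b ≠ 1 := by
      intro h1
      rw [h1, orderOf_one] at h
      nlinarith
    rcases hepo _ hne with h' | h'
    · rw [h'] at h
      nlinarith
    · rw [h'] at h
      nlinarith
  -- elements of V have order p
  have hVord : ∀ v : G, v ∈ V → v ≠ 1 → orderOf v = p := by
    intro v hv hv1
    rcases hepo v hv1 with h | h
    · exact h
    · exfalso
      obtain ⟨k, hk⟩ := hVp ⟨v, hv⟩
      have hk' : v ^ (p ^ k) = 1 := by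
        have := congrArg (fun z : ↥V => (z : G)) hk
        simpa using this
      have hdvd : q ∣ p ^ k := h ▸ orderOf_dvd_of_pow_eq_one hk'
      have := (Nat.prime_dvd_prime_iff_eq hq hp).1 (hq.dvd_of_dvd_pow hdvd)
      exact hpq this.symm
  set Y := Subgroup.zpowers y with hYdef
  have hyY : y ∈ Y := Subgroup.mem_zpowers y
  have hYcard : Nat.card Y = q := by rw [hYdef, Nat.card_zpowers, hy]
  have hYq : IsPGroup q Y := IsPGroup.of_card (n := 1) (by rw [hYcard, pow_one])
  -- Y is a Sylow q-subgroup
  obtain ⟨Q, hYQ⟩ := hYq.exists_le_sylow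
  have hQcard : Nat.card Q = q := by
    rw [Sylow.card_eq_multiplicity]
    have hqG : q ∣ Nat.card G := hy ▸ orderOf_dvd_natCard y
    have hne : Nat.card G ≠ 0 := Nat.card_pos.ne'
    have h1 : (Nat.card G).factorization q = 1 := by
      have hle : 1 ≤ (Nat.card G).factorization q :=
        (hq.dvd_iff_one_le_factorization hne).1 hqG
      have hlt : ¬ 2 ≤ (Nat.card G).factorization q :=
        fun h2 => hq2 ((hq.pow_dvd_iff_le_factorization hne).2 h2)
      omega
    rw [h1, pow_one]
  have hQY : (Q : Subgroup G) = Y :=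
    (Subgroup.eq_of_le_of_card_ge hYQ (by rw [hQcard, hYcard])).symm
  -- x normalizes Y
  have hxH : x ∈ Subgroup.normalizer (Y : Set G) := by
    rw [Subgroup.mem_normalizer_iff_map_conj_eq]
    apply Subgroup.eq_of_le_of_card_ge
    · rw [hYdef, MonoidHom.map_zpowers, Subgroup.zpowers_le]
      simpa [MulAut.conj_apply] using hxy
    · rw [Subgroup.card_map_of_injective (MulAut.conj x).injective]
  have hYH : Y ≤ Subgroup.normalizer (Y : Set G) := Subgroup.le_normalizer
  set H := Subgroup.normalizer (Y : Set G) with hHdef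
  set S : Finset G := Finset.univ.filter (fun h => h ∈ H ∧ h ∉ Y) with hSdef
  have hmemS : ∀ h : G, h ∈ S ↔ h ∈ H ∧ h ∉ Y := by
    intro h
    simp [hSdef]
  -- (S1)
  have hS1 : ∀ h ∈ S, orderOf h = p := by
    intro h hh
    obtain ⟨hH, hnY⟩ := (hmemS h).1 hh
    have h1 : h ≠ 1 := fun h1 => hnY (h1 ▸ Y.one_mem)
    rcases hepo h h1 with ho | ho
    · exact ho
    · exfalso
      have hzq : IsPGroup q (Subgroup.zpowers h) :=
        IsPGroup.of_card (n := 1) (by rw [Nat.card_zpowers, ho, pow_one])
      have hinf := hzq.inf_normalizer_sylow Q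
      have hmem : h ∈ Subgroup.zpowers h ⊓ (Q : Subgroup G) := by
        rw [← hinf]
        refine ⟨Subgroup.mem_zpowers h, ?_⟩
        have hN : Subgroup.normalizer ((Q : Subgroup G) : Set G) = H := by rw [hHdef, ← hQY]
        exact hN ▸ hH
      apply hnY
      rw [← hQY]
      exact hmem.2
  -- (S2)
  have hS2 : ∀ h ∈ S, h ∉ V := by
    intro h hh hV
    obtain ⟨hH, hnY⟩ := (hmemS h).1 hh
    have hcV : h * y * h⁻¹ * y⁻¹ ∈ V := by
      have h2 : y * h⁻¹ * y⁻¹ ∈ V := ‹V.Normal›.conj_mem _ (V.inv_mem hV) y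
      have := V.mul_mem hV h2
      simpa [mul_assoc] using this
    have hcY : h * y * h⁻¹ * y⁻¹ ∈ Y := by
      have h2 : h * y * h⁻¹ ∈ Y := (Subgroup.mem_normalizer_iff.1 hH y).1 hyY
      exact Y.mul_mem h2 (Y.inv_mem hyY)
    have hdisj : Disjoint V Y := IsPGroup.disjoint_of_ne p q hpq V Y hVp hYq
    have hc1 : h * y * h⁻¹ * y⁻¹ = 1 := by
      have := (Subgroup.disjoint_def.1 hdisj) hcV hcY
      exact this
    have hcomm : Commute h y := by
      show h * y = y * h
      have h3 : h * y * h⁻¹ = y := by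
        have := mul_inv_eq_one.1 hc1
        exact this
      calc h * y = h * y * h⁻¹ * h := by group
        _ = y * h := by rw [h3]
    exact hnopq h y hcomm (hS1 h hh) hy
  -- the commutative structure and the action
  letI cV : CommGroup ↥V := commOf V hVab
  letI act : MulDistribMulAction G ↥V :=
    { smul := fun g v => cj V g v
      one_smul := fun v => by
        show cj V 1 v = v
        exact Subtype.ext (by simp [cj])
      mul_smul := fun g h v => by
        show cj V (g * h) v = cj V g (cj V h v)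
        exact Subtype.ext (by simp [cj, mul_assoc])
      smul_mul := fun g u v => by
        show cj V g (u * v) = cj V g u * cj V g v
        exact Subtype.ext (by simp [cj, mul_assoc])
      smul_one := fun g => by
        show cj V g 1 = 1
        exact Subtype.ext (by simp [cj]) }
  have hsmul : ∀ (g : G) (v : ↥V), ((g • v : ↥V) : G) = g * v * g⁻¹ := fun g v => rfl
  -- expansion of powers
  have hid : ∀ (v : ↥V) (h : G) (k : ℕ),
      ((v : G) * h) ^ k = ((∏ i ∈ Finset.range k, (h ^ i) • v : ↥V) : G) * h ^ k := by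
    intro v h k
    induction k with
    | zero => simp
    | succ k ih =>
      rw [pow_succ, ih, Finset.prod_range_succ, Subgroup.coe_mul, hsmul]
      group
  -- (S3)
  have hS3 : ∀ h ∈ S, ∀ v : ↥V, ∏ i ∈ Finset.range p, (h ^ i) • v = 1 := by
    intro h hh v
    have hne : (v : G) * h ≠ 1 := by
      intro h1
      apply hS2 h hh
      have : h = (v : G)⁻¹ := by
        rw [eq_inv_iff_mul_eq_one, mul_eq_one_iff_eq_inv.1 h1]
        group
      rw [this]
      exact V.inv_mem v.2
    have hpow : ((v : G) * h) ^ p = 1 := by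
      rcases hepo _ hne with ho | ho
      · rw [← ho]; exact pow_orderOf_eq_one _
      · exfalso
        have h1 : ((v : G) * h) ^ q = 1 := by rw [← ho]; exact pow_orderOf_eq_one _
        rw [hid v h q] at h1
        have hhq : h ^ q ∈ V := by
          have : h ^ q = ((∏ i ∈ Finset.range q, (h ^ i) • v : ↥V) : G)⁻¹ :=
            eq_inv_of_mul_eq_one_right h1
          rw [this]
          exact V.inv_mem (Subtype.mem _)
        obtain ⟨m, -, hm⟩ := Nat.exists_mul_mod_eq_one_of_coprime hcop.symm (by omega : 1 < p)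
        have : h ∈ V := by
          rw [← pow_inv_mod h (hS1 h hh) q m hm]
          exact V.pow_mem hhq m
        exact hS2 h hh this
    have hhp : h ^ p = 1 := by rw [← hS1 h hh]; exact pow_orderOf_eq_one h
    rw [hid v h p, hhp, mul_one] at hpow
    exact Subtype.ext hpow
  -- apply the averaging lemma
  have hB : ∀ v : ↥V, v ^ S.card = 1 := by
    intro v
    refine pow_card_eq_one_of_norms S p hp.pos y ?_ ?_ hS3 ?_ v
    · intro i hi0 hip
      have hci : Nat.Coprime i p :=
        Nat.Coprime.symm ((Nat.Prime.coprime_iff_not_dvd hp).2 (Nat.not_dvd_of_pos_of_lt hi0 hip))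
      obtain ⟨m, -, hm⟩ := Nat.exists_mul_mod_eq_one_of_coprime hci (by omega : 1 < p)
      constructor
      · intro h hh
        have hh' : h ∈ S := hh
        obtain ⟨hH, hnY⟩ := (hmemS h).1 hh'
        show h ^ i ∈ (S : Set G)
        rw [Finset.mem_coe, hmemS]
        refine ⟨H.pow_mem hH i, fun hY => hnY ?_⟩
        rw [← pow_inv_mod h (hS1 h hh') i m hm]
        exact Y.pow_mem hY m
      · intro h1 hh1 h2 hh2 he
        have he' : h1 ^ i = h2 ^ i := he
        rw [← pow_inv_mod h1 (hS1 h1 hh1) i m hm, ← pow_inv_mod h2 (hS1 h2 hh2) i m hm, he']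
    · intro h hh
      have hh' : h ∈ S := hh
      obtain ⟨hH, hnY⟩ := (hmemS h).1 hh'
      show y * h ∈ (S : Set G)
      rw [Finset.mem_coe, hmemS]
      refine ⟨H.mul_mem (hYH hyY) hH, fun hY => hnY ?_⟩
      have : h = y⁻¹ * (y * h) := by group
      rw [this]
      exact Y.mul_mem (Y.inv_mem hyY) hY
    · intro v hv
      by_contra hv1
      have hvG : (v : G) ≠ 1 := fun h => hv1 (Subtype.ext h)
      have hord := hVord v v.2 hvG
      have hcomm : Commute (v : G) y := by
        have h1 : y * v * y⁻¹ = v := congrArg (fun z : ↥V => (z : G)) hv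
        show (v : G) * y = y * v
        calc (v : G) * y = (y * v * y⁻¹) * y := by rw [h1]
          _ = y * v := by group
      exact hnopq v y hcomm hord hy
  obtain ⟨v, hvV, hv1⟩ : ∃ v ∈ V, v ≠ 1 := by
    by_contra hcon
    push Not at hcon
    exact hV1 ((Subgroup.eq_bot_iff_forall V).2 hcon)
  have hord := hVord v hvV hv1
  have hpS : p ∣ S.card := by
    rw [← hord]
    apply orderOf_dvd_of_pow_eq_one
    have := congrArg (fun z : ↥V => (z : G)) (hB ⟨v, hvV⟩)
    simpa using this
  have hScard : S.card + q = Nat.card H := by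
    have e1 : Nat.card H = (Finset.univ.filter (fun h : G => h ∈ H)).card := by
      rw [Nat.card_eq_fintype_card, Fintype.card_subtype]
    have e2 : q = (Finset.univ.filter (fun h : G => h ∈ Y)).card := by
      rw [← hYcard, Nat.card_eq_fintype_card, Fintype.card_subtype]
    rw [e1, e2, ← Finset.card_union_of_disjoint]
    · congr 1
      ext h
      simp only [hSdef, Finset.mem_union, Finset.mem_filter, Finset.mem_univ, true_and]
      constructor
      · rintro (⟨hH, -⟩ | hY)
        · exact hH
        · exact hYH hY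
      · intro hH
        by_cases hY : h ∈ Y
        · right; exact hY
        · left; exact ⟨hH, hY⟩
    · rw [Finset.disjoint_left]
      intro h h1 h2
      simp only [hSdef, Finset.mem_filter, Finset.mem_univ, true_and] at h1 h2
      exact h1.2 h2
  have hpH : p ∣ Nat.card H := by
    have := Subgroup.card_dvd_of_le (Subgroup.zpowers_le.2 hxH : Subgroup.zpowers x ≤ H)
    rwa [Nat.card_zpowers, hx] at this
  have hpq' : p ∣ q := (Nat.dvd_add_right hpS).1 (hScard ▸ hpH)
  exact hpq ((Nat.prime_dvd_prime_iff_eq hp hq).1 hpq')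

end Cfsg.Agent.Lib.Helper3.SOT4
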