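import Mathlib
import Cfsg.Prelude.Def_ClassicalGeometry
import Cfsg.Agent.Lib.Helper5.SympTv
import Cfsg.Agent.Lib.Helper5.SympGen
import Cfsg.Agent.Lib.Helper5.SympPerfect
import Cfsg.Agent.Lib.Helper5.SympBlock
import Cfsg.Agent.Lib.Helper5.SympCard
set_option autoImplicit false
set_option maxHeartbeats 4000000
set_option linter.unusedVariables false
set_option linter.unusedSectionVars false
set_option linter.style.longLine false
open Matrix Cfsg

/-! # Minimal index of proper subgroups of `Sp_2m(2)` (S2142): shared definitions -/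

namespace Cfsg.Agent.Lib.Helper3.SpMin

open Cfsg.Agent.Lib.Helper5 Cfsg.Agent.Lib.Helper5.SympTv

variable {F : Type*} [Field F]

/-! ## the field with two elements -/

theorem eq_zero_or_one [Fintype F] (hF : Fintype.card F = 2) (a : F) : a = 0 ∨ a = 1 := by
  classical
  by_contra h
  push Not at h
  have h3 : ({0, 1, a} : Finset F).card = 3 := by
    rw [Finset.card_insert_of_notMem, Finset.card_insert_of_notMem, Finset.card_singleton]
    · simpa using h.2.symm
    · simp only [Finset.mem_insert, Finset.mem_singleton, not_or]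
      exact ⟨zero_ne_one, h.1.symm⟩
  have := Finset.card_le_univ ({0, 1, a} : Finset F)
  omega

theorem two_eq_zero [Fintype F] (hF : Fintype.card F = 2) : (2 : F) = 0 := by
  rcases eq_zero_or_one hF (1 + 1 : F) with h | h
  · rw [← one_add_one_eq_two]; exact h
  · exfalso
    have : (1 : F) = 0 := by
      have h' : (1 : F) + 1 = 1 + 0 := by rw [h, add_zero]
      exact add_left_cancel h'
    exact one_ne_zero this

theorem add_self_eq_zero' [Fintype F] (hF : Fintype.card F = 2) (a : F) : a + a = 0 := by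
  rw [← two_mul, two_eq_zero hF, zero_mul]

theorem neg_eq' [Fintype F] (hF : Fintype.card F = 2) (a : F) : -a = a := by
  rw [neg_eq_iff_add_eq_zero]; exact add_self_eq_zero' hF a

theorem mul_self_eq' [Fintype F] (hF : Fintype.card F = 2) (a : F) : a * a = a := by
  rcases eq_zero_or_one hF a with h | h <;> simp [h]

/-! ## transvections -/

/-- the symplectic transvection `x ↦ x + B(x,v) v` -/
def t (m : ℕ) (v : Fin m ⊕ Fin m → F) : symplecticGroup (Fin m) F := SympPerfect.tv m v 1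

theorem t_mulVec (m : ℕ) (v x : Fin m ⊕ Fin m → F) :
    (t m v).1 *ᵥ x = x + sympForm m F x v • v := by
  show sympTransvection m v 1 *ᵥ x = _
  rw [sympTransvection_mulVec, one_mul]

theorem t_conj (m : ℕ) (g : symplecticGroup (Fin m) F) (v : Fin m ⊕ Fin m → F) :
    g * t m v * g⁻¹ = t m (g.1 *ᵥ v) := SympPerfect.conj_tv m g v 1

theorem t_zero (m : ℕ) : t m (0 : Fin m ⊕ Fin m → F) = 1 := SympPerfect.tv_zero_vec m 1

theorem t_mul_self [Fintype F] (hF : Fintype.card F = 2) (m : ℕ) (v : Fin m ⊕ Fin m → F) :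
    t m v * t m v = 1 := by
  show SympPerfect.tv m v 1 * SympPerfect.tv m v 1 = 1
  rw [SympPerfect.tv_mul, one_add_one_eq_two, two_eq_zero hF, SympPerfect.tv_zero]

/-- `z e u = t_u t_e t_{u+e}`: for `B(u,e) = 0` this is `x ↦ x + B(x,u) e + B(x,e) u`. -/
def z (m : ℕ) (e u : Fin m ⊕ Fin m → F) : symplecticGroup (Fin m) F :=
  t m u * t m e * t m (u + e)

/-! ## quadratic forms polarizing to the symplectic form -/

/-- quadratic forms `φ` on `F^{2m}` with `φ(x+y) = φ(x) + φ(y) + B(x,y)` -/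
def QF (m : ℕ) (F : Type*) [Field F] : Type _ :=
  {φ : (Fin m ⊕ Fin m → F) → F // ∀ x y, φ (x + y) = φ x + φ y + sympForm m F x y}

theorem QF.ext {m : ℕ} {φ ψ : QF m F} (h : ∀ x, φ.1 x = ψ.1 x) : φ = ψ :=
  Subtype.ext (funext h)

theorem inv_mulVec_mulVec {m : ℕ} (g : symplecticGroup (Fin m) F) (x : Fin m ⊕ Fin m → F) :
    (g⁻¹).1 *ᵥ (g.1 *ᵥ x) = x := by
  rw [mulVec_mulVec]
  have : (g⁻¹ * g : symplecticGroup (Fin m) F) = 1 := inv_mul_cancel g
  have h2 : (g⁻¹).1 * g.1 = 1 := congrArg Subtype.val this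
  rw [h2, one_mulVec]

theorem mulVec_inv_mulVec {m : ℕ} (g : symplecticGroup (Fin m) F) (x : Fin m ⊕ Fin m → F) :
    g.1 *ᵥ ((g⁻¹).1 *ᵥ x) = x := by
  have := inv_mulVec_mulVec g⁻¹ x
  rwa [inv_inv] at this

instance qfAction (m : ℕ) : MulAction (symplecticGroup (Fin m) F) (QF m F) where
  smul g φ := ⟨fun x => φ.1 ((g⁻¹).1 *ᵥ x), fun x y => by
    show φ.1 ((g⁻¹).1 *ᵥ (x + y)) = φ.1 ((g⁻¹).1 *ᵥ x) + φ.1 ((g⁻¹).1 *ᵥ y) + sympForm m F x y
    rw [mulVec_add, φ.2, sympForm_mulVec m (g⁻¹).2]⟩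
  one_smul φ := by
    apply QF.ext
    intro x
    show φ.1 (((1 : symplecticGroup (Fin m) F)⁻¹).1 *ᵥ x) = φ.1 x
    rw [inv_one]
    show φ.1 ((1 : Matrix _ _ F) *ᵥ x) = φ.1 x
    rw [one_mulVec]
  mul_smul g h φ := by
    apply QF.ext
    intro x
    show φ.1 (((g * h)⁻¹).1 *ᵥ x) = φ.1 ((h⁻¹).1 *ᵥ ((g⁻¹).1 *ᵥ x))
    rw [_root_.mul_inv_rev, mulVec_mulVec]
    rfl

theorem smul_apply {m : ℕ} (g : symplecticGroup (Fin m) F) (φ : QF m F) (x : Fin m ⊕ Fin m → F) :
    (g • φ).1 x = φ.1 ((g⁻¹).1 *ᵥ x) := rfl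

/-- the translate `φ + B(a, ·)` -/
def shift {m : ℕ} (φ : QF m F) (a : Fin m ⊕ Fin m → F) : QF m F :=
  ⟨fun x => φ.1 x + sympForm m F a x, fun x y => by
    show φ.1 (x + y) + sympForm m F a (x + y) = φ.1 x + sympForm m F a x + (φ.1 y + sympForm m F a y) + sympForm m F x y
    rw [φ.2, sympForm_add_right]; ring⟩

theorem shift_apply {m : ℕ} (φ : QF m F) (a x : Fin m ⊕ Fin m → F) :
    (shift φ a).1 x = φ.1 x + sympForm m F a x := rfl

open Classical in
/-- the additive character of the field with two elements -/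
noncomputable def chi (a : F) : ℤ := if a = 0 then 1 else -1

/-- the sign sum `Σ_x (-1)^{φ(x)}` (equal to `± 2^m`) -/
noncomputable def sgn [Fintype F] {m : ℕ} (φ : QF m F) : ℤ := ∑ x : Fin m ⊕ Fin m → F, chi (φ.1 x)

theorem sgn_smul [Fintype F] {m : ℕ} (g : symplecticGroup (Fin m) F) (φ : QF m F) :
    sgn (g • φ) = sgn φ := by
  unfold sgn
  refine Fintype.sum_equiv ⟨fun x => (g⁻¹).1 *ᵥ x, fun x => g.1 *ᵥ x, mulVec_inv_mulVec g, inv_mulVec_mulVec g⟩ _ _ ?_
  intro x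
  rfl

/-- forms of a given sign, with the induced action -/
def QFs (m : ℕ) (F : Type*) [Field F] [Fintype F] (ε : ℤ) : Type _ := {φ : QF m F // sgn φ = ε}

instance qfsAction [Fintype F] (m : ℕ) (ε : ℤ) : MulAction (symplecticGroup (Fin m) F) (QFs m F ε) where
  smul g φ := ⟨g • φ.1, by rw [sgn_smul]; exact φ.2⟩
  one_smul φ := Subtype.ext (one_smul _ φ.1)
  mul_smul g h φ := Subtype.ext (mul_smul g h φ.1)

theorem qfs_smul_val [Fintype F] {m : ℕ} {ε : ℤ} (g : symplecticGroup (Fin m) F) (φ : QFs m F ε) :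
    (g • φ).1 = g • φ.1 := rfl

/-- the action on vectors -/
@[reducible] def vecAction (m : ℕ) : MulAction (symplecticGroup (Fin m) F) (Fin m ⊕ Fin m → F) where
  smul g v := g.1 *ᵥ v
  one_smul v := one_mulVec v
  mul_smul g h v := (mulVec_mulVec v g.1 h.1).symm

/-! ## the stabilizer of the first basis vector in `Sp_{2(1+l)}` -/

/-- embedding of `F^{2l}` onto `⟨e0,f0⟩^⊥` -/
def emb (l : ℕ) (u : Fin l ⊕ Fin l → F) : Fin (1 + l) ⊕ Fin (1 + l) → F :=
  fun i => Sum.elim (fun _ => (0 : F)) u ((SympBlock.eKL 1 l).symm i)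

/-- stabilizer of `e0` -/
def Ge (F : Type*) [Field F] (l : ℕ) : Subgroup (symplecticGroup (Fin (1 + l)) F) where
  carrier := {g | g.1 *ᵥ SympCard.e0 F l = SympCard.e0 F l}
  one_mem' := one_mulVec _
  mul_mem' := by
    intro a b ha hb
    show (a.1 * b.1) *ᵥ _ = _
    rw [← mulVec_mulVec]
    rw [Set.mem_ofPred_eq] at ha hb
    rw [hb, ha]
  inv_mem' := by
    intro a ha
    rw [Set.mem_ofPred_eq] at ha
    show (a⁻¹).1 *ᵥ _ = _
    conv_lhs => rw [← ha]
    exact inv_mulVec_mulVec a _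

theorem mem_Ge {l : ℕ} (g : symplecticGroup (Fin (1 + l)) F) :
    g ∈ Ge F l ↔ g.1 *ᵥ SympCard.e0 F l = SympCard.e0 F l := Iff.rfl

open Classical in
/-- the elements `z(e0, emb u) · t_{e0}^c` of the unipotent radical of `Ge` -/
noncomputable def qel (l : ℕ) (u : Fin l ⊕ Fin l → F) (c : F) : symplecticGroup (Fin (1 + l)) F :=
  z (1 + l) (SympCard.e0 F l) (emb l u) * (if c = 0 then 1 else t (1 + l) (SympCard.e0 F l))

/-- the bound `2^(m-1) (2^m - 1)` -/
def n0 (m : ℕ) : ℕ := 2 ^ (m - 1) * (2 ^ m - 1)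

end Cfsg.Agent.Lib.Helper3.SpMin
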