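import Mathlib
import Cfsg.Agent.Lib.Helper1.Dv8

set_option autoImplicit false
set_option maxHeartbeats 1000000
set_option linter.style.haveILetI false
set_option linter.unusedSectionVars false
set_option linter.unusedVariables false

/-! S3104 farm, unit OR: orbit reduction for a nonsolvable group of even permutations of
eight points. -/

namespace Cfsg.Agent.Lib.Helper3.A8Orb

open Equiv

/-- a nonsolvable finite group has a nontrivial perfect subgroup -/
theorem exists_perfect {Y : Type*} [Group Y] [Finite Y] (hns : ¬ Group.IsSolvable Y) :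
    ∃ P : Subgroup Y, P ≠ ⊥ ∧ ⁅P, P⁆ = P := by
  by_contra h
  push Not at h
  apply hns
  rw [Group.isSolvable_iff_commutator_lt]
  intro H hH
  exact lt_of_le_of_ne (Subgroup.commutator_le_self H) (h H hH)

/-- a perfect subgroup is killed by every homomorphism to a solvable group -/
theorem perfect_map_trivial {Y S : Type*} [Group Y] [Group S] [Group.IsSolvable S]
    {P : Subgroup Y} (hP : ⁅P, P⁆ = P) (g : Y →* S) {p : Y} (hp : p ∈ P) : g p = 1 := by
  have hc : commutator ↥P = ⊤ := by
    apply Subgroup.map_injective P.subtype_injective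
    rw [commutator_def, Subgroup.map_commutator, ← MonoidHom.range_eq_map, Subgroup.range_subtype,
      hP]
  exact Cfsg.Agent.Lib.Helper1.Dv.perfect_hom_trivial hc (g.comp P.subtype) ⟨p, hp⟩

section restrict

variable {Y : Type*} [Group Y] {α : Type*} (φ : Y →* Perm α) (D : Set α)
  (hD : ∀ y : Y, ∀ a : α, φ y a ∈ D ↔ a ∈ D)

/-- restriction of a permutation action to an invariant set -/
def res : Y →* Perm {a // a ∈ D} where
  toFun y := (φ y).subtypePerm (hD y)
  map_one' := by
    ext a
    simp
  map_mul' y z := by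
    ext a
    show φ (y * z) a = φ y (φ z a)
    rw [map_mul]
    rfl

@[simp] theorem res_apply (y : Y) (a : {a // a ∈ D}) : ((res φ D hD y) a : α) = φ y a := rfl

end restrict

/-- order of the alternating group on at most two points -/
theorem alt_card_le_two {β : Type*} [Fintype β] [DecidableEq β] (h : Fintype.card β ≤ 2) :
    Nat.card ↥(alternatingGroup β) = 1 := by
  rcases Nat.lt_or_ge (Fintype.card β) 2 with h1 | h1
  · haveI : Subsingleton β := Fintype.card_le_one_iff_subsingleton.mp (by omega)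
    haveI : Subsingleton (Perm β) := inferInstance
    exact Nat.card_unique
  · haveI : Nontrivial β := Fintype.one_lt_card_iff_nontrivial.mp (by omega)
    rw [nat_card_alternatingGroup, Nat.card_eq_fintype_card]
    have : Fintype.card β = 2 := by omega
    rw [this]
    decide

/-- order of the alternating group on three points -/
theorem alt_card_three {β : Type*} [Fintype β] [DecidableEq β] (h : Fintype.card β = 3) :
    Nat.card ↥(alternatingGroup β) = 3 := by
  haveI : Nontrivial β := Fintype.one_lt_card_iff_nontrivial.mp (by omega)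
  rw [nat_card_alternatingGroup, Nat.card_eq_fintype_card, h]
  decide

open scoped Classical in
/-- **Orbit reduction**, concrete form. -/
theorem orbit_reduction_aux {Y : Type*} [Group Y] [Finite Y] (φ : Y →* Perm (Fin 8))
    (hφ : Function.Injective φ) (heven : ∀ y : Y, Perm.sign (φ y) = 1)
    (hns : ¬ Group.IsSolvable Y) :
    (∀ i j : Fin 8, ∃ y : Y, φ y i = j) ∨
    ∃ (n : ℕ) (g : Y →* Perm (Fin n)), 5 ≤ n ∧ n ≤ 7 ∧ ¬ Group.IsSolvable ↥g.range ∧
      (∀ i j : Fin n, ∃ y : Y, g y i = j) ∧ (6 ≤ n → Function.Injective g) ∧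
      (n = 5 → Nat.card ↥g.ker ∣ 3) := by
  obtain ⟨P, hP1, hP⟩ := exists_perfect hns
  obtain ⟨p, hpP, hp1⟩ : ∃ p ∈ P, p ≠ 1 := by
    by_contra h
    push Not at h
    exact hP1 ((Subgroup.eq_bot_iff_forall P).mpr h)
  have hφp : φ p ≠ 1 := fun h => hp1 (hφ (h.trans (map_one φ).symm))
  obtain ⟨x, hx⟩ : ∃ x, φ p x ≠ x := by
    by_contra h
    push Not at h
    exact hφp (Perm.ext h)
  set D : Set (Fin 8) := {j | ∃ y : Y, φ y x = j} with hDdef
  have hxD : x ∈ D := ⟨1, by simp⟩
  have hD : ∀ y : Y, ∀ a : Fin 8, φ y a ∈ D ↔ a ∈ D := by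
    intro y a
    constructor
    · rintro ⟨z, hz⟩
      refine ⟨y⁻¹ * z, ?_⟩
      rw [map_mul, Perm.mul_apply, hz, map_inv]; simp
    · rintro ⟨z, rfl⟩
      exact ⟨y * z, by rw [map_mul, Perm.mul_apply]⟩
  have hDc : ∀ y : Y, ∀ a : Fin 8, φ y a ∈ Dᶜ ↔ a ∈ Dᶜ := by
    intro y a
    simp only [Set.mem_compl_iff, hD y a]
  set r := res φ D hD with hr
  set n := Fintype.card {a // a ∈ D} with hn
  set e : {a // a ∈ D} ≃ Fin n := Fintype.equivFin _ with he
  set g : Y →* Perm (Fin n) := e.permCongrHom.toMonoidHom.comp r with hg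
  have hg_apply : ∀ y : Y, ∀ i : Fin n, g y i = e (r y (e.symm i)) := fun y i => rfl
  have hg_one : ∀ y : Y, g y = 1 → ∀ a ∈ D, φ y a = a := by
    intro y hy a ha
    have h1 := congrArg (fun s : Perm (Fin n) => s (e ⟨a, ha⟩)) hy
    simp only [hg_apply, Equiv.symm_apply_apply, Perm.one_apply] at h1
    have h2 := e.injective h1
    exact congrArg Subtype.val h2
  -- nonsolvable range
  have hrange : ¬ Group.IsSolvable ↥g.range := by
    intro hsol
    have h1 := perfect_map_trivial hP g.rangeRestrict hpP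
    have h2 : g p = 1 := by
      have := congrArg Subtype.val h1
      simpa using this
    exact hx (hg_one p h2 x hxD)
  -- transitivity
  have htrans : ∀ i j : Fin n, ∃ y : Y, g y i = j := by
    intro i j
    obtain ⟨y₁, h₁⟩ := (e.symm i).2
    obtain ⟨y₂, h₂⟩ := (e.symm j).2
    refine ⟨y₂ * y₁⁻¹, ?_⟩
    rw [hg_apply]
    apply e.symm.injective
    rw [Equiv.symm_apply_apply]
    apply Subtype.ext
    rw [res_apply, ← h₁, ← h₂, map_mul, Perm.mul_apply, map_inv]; simp
  -- n ≥ 5
  have hn5 : 5 ≤ n := by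
    by_contra hlt
    push Not at hlt
    haveI : Group.IsSolvable (Perm (Fin n)) :=
      Cfsg.Agent.Lib.Helper1.Dv.perm_solvable_le_four (by rw [Fintype.card_fin]; omega)
    exact hrange inferInstance
  by_cases hDu : D = Set.univ
  · left
    intro i j
    have hi : i ∈ D := hDu ▸ Set.mem_univ i
    have hj : j ∈ D := hDu ▸ Set.mem_univ j
    obtain ⟨y₁, h₁⟩ := hi
    obtain ⟨y₂, h₂⟩ := hj
    refine ⟨y₂ * y₁⁻¹, ?_⟩
    rw [← h₁, ← h₂, map_mul, Perm.mul_apply, map_inv]; simp
  · right
    have hcardc : Fintype.card {a // a ∈ Dᶜ} = 8 - n := by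
      have := Fintype.card_subtype_compl (fun a : Fin 8 => a ∈ D)
      simp only [Fintype.card_fin] at this
      rw [hn, ← this]
      exact Fintype.card_congr (Equiv.subtypeEquivRight (fun a => Iff.rfl))
    have hn7 : n ≤ 7 := by
      have hlt : Fintype.card {a // a ∈ D} < Fintype.card (Fin 8) := by
        apply Fintype.card_subtype_lt (x := (Set.ne_univ_iff_exists_notMem D).mp hDu |>.choose)
        exact ((Set.ne_univ_iff_exists_notMem D).mp hDu).choose_spec
      rw [Fintype.card_fin] at hlt
      omega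
    -- the kernel acts faithfully and evenly on the complement
    set rc := res φ Dᶜ hDc with hrc
    have hker_fix : ∀ k : Y, k ∈ g.ker → ∀ a ∈ D, φ k a = a := fun k hk =>
      hg_one k (MonoidHom.mem_ker.mp hk)
    have hsign : ∀ k : Y, k ∈ g.ker → Perm.sign (rc k) = 1 := by
      intro k hk
      have h := Perm.sign_subtypePerm (φ k) (p := fun a => a ∈ Dᶜ) (hDc k)
        (fun a ha => by
          intro haD
          exact ha (hker_fix k hk a haD))
      rw [heven k] at h
      rw [← h]
      rfl
    let ψ : ↥g.ker →* ↥(alternatingGroup {a // a ∈ Dᶜ}) :=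
      { toFun := fun k => ⟨rc k.1, Perm.mem_alternatingGroup.mpr (hsign k.1 k.2)⟩
        map_one' := by
          apply Subtype.ext
          simp
        map_mul' := fun k l => by
          apply Subtype.ext
          simp }
    have hψ : Function.Injective ψ := by
      rw [injective_iff_map_eq_one]
      intro k hk
      have h1 : rc k.1 = 1 := congrArg Subtype.val hk
      apply Subtype.ext
      apply hφ
      rw [Subgroup.coe_one, map_one]
      ext a
      by_cases ha : a ∈ D
      · rw [hker_fix k.1 k.2 a ha]; rfl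
      · have h2 := congrArg (fun s : Perm {a // a ∈ Dᶜ} => (s ⟨a, ha⟩ : Fin 8)) h1
        simp only [hrc, res_apply, Perm.one_apply] at h2
        rw [h2]; rfl
    have hdvd : Nat.card ↥g.ker ∣ Nat.card ↥(alternatingGroup {a // a ∈ Dᶜ}) :=
      Subgroup.card_dvd_of_injective ψ hψ
    refine ⟨n, g, hn5, hn7, hrange, htrans, ?_, ?_⟩
    · intro h6
      have h1 : Nat.card ↥(alternatingGroup {a // a ∈ Dᶜ}) = 1 :=
        alt_card_le_two (by rw [hcardc]; omega)
      rw [h1, Nat.dvd_one] at hdvd
      rw [← MonoidHom.ker_eq_bot_iff]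
      exact Subgroup.card_eq_one.mp hdvd
    · intro h5
      have h1 : Nat.card ↥(alternatingGroup {a // a ∈ Dᶜ}) = 3 :=
        alt_card_three (by rw [hcardc]; omega)
      rw [h1] at hdvd
      exact hdvd

/-- **Orbit reduction** (unit OR of the S3104 farm). -/
theorem orbit_reduction {Y : Type*} [Group Y] [Finite Y] (f : Y →* ↥(alternatingGroup (Fin 8)))
    (hf : Function.Injective f) (hns : ¬ Group.IsSolvable Y) :
    (∀ i j : Fin 8, ∃ y : Y,
      ((f y : ↥(alternatingGroup (Fin 8))) : Equiv.Perm (Fin 8)) i = j) ∨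
    ∃ (n : ℕ) (g : Y →* Equiv.Perm (Fin n)), 5 ≤ n ∧ n ≤ 7 ∧ ¬ Group.IsSolvable ↥g.range ∧
      MulAction.IsPretransitive ↥g.range (Fin n) ∧ (6 ≤ n → Function.Injective g) ∧
      (n = 5 → Nat.card ↥g.ker ∣ 3) := by
  have h := orbit_reduction_aux ((alternatingGroup (Fin 8)).subtype.comp f)
    (fun a b hab => hf (Subtype.ext hab))
    (fun y => Perm.mem_alternatingGroup.mp (f y).2) hns
  rcases h with h | ⟨n, g, h5, h7, hr, ht, hi, hk⟩
  · exact Or.inl h
  · refine Or.inr ⟨n, g, h5, h7, hr, ⟨fun i j => ?_⟩, hi, hk⟩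
    obtain ⟨y, hy⟩ := ht i j
    exact ⟨⟨g y, y, rfl⟩, hy⟩

end Cfsg.Agent.Lib.Helper3.A8Orb
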