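import Mathlib
import Cfsg.Agent.Lib.Helper3.A8Orb

set_option autoImplicit false
set_option linter.unusedVariables false

/-! S3104 farm, unit U1 in the coordinator's shape (wrapper around `A8Orb.orbit_reduction`). -/

namespace Cfsg.Agent.Lib.Helper3.A8OrbW

/-- **U1 (orbit reduction)**, statement verbatim from the coordinator's unit list. -/
theorem orbit_reduction {Y : Type*} [Group Y] [Finite Y] (f : Y →* ↥(alternatingGroup (Fin 8)))
    (hf : Function.Injective f) (hns : ¬ Group.IsSolvable Y)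
    (hO2 : ∀ N : Subgroup Y, N.Normal → IsPGroup 2 ↥N → N = ⊥) :
    (∀ a b : Fin 8, ∃ y : Y,
      ((f y : alternatingGroup (Fin 8)) : Equiv.Perm (Fin 8)) a = b) ∨
    ∃ (n : ℕ) (g : Y →* Equiv.Perm (Fin n)), 5 ≤ n ∧ n ≤ 7 ∧
      (∀ a b : Fin n, ∃ y : Y, g y a = b) ∧ ¬ Group.IsSolvable ↥g.range ∧
      (Function.Injective g ∨ (n = 5 ∧ Nat.card ↥g.ker = 3)) := by
  rcases Cfsg.Agent.Lib.Helper3.A8Orb.orbit_reduction f hf hns with h | ⟨n, g, h5, h7, hr, ht, hi, hk⟩
  · exact Or.inl h
  · refine Or.inr ⟨n, g, h5, h7, ?_, hr, ?_⟩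
    · intro a b
      obtain ⟨⟨s, y, rfl⟩, hy⟩ := ht.exists_smul_eq a b
      exact ⟨y, hy⟩
    · rcases Nat.lt_or_ge n 6 with h6 | h6
      · have hn : n = 5 := by omega
        have hd := hk hn
        have hle : Nat.card ↥g.ker ≤ 3 := Nat.le_of_dvd (by norm_num) hd
        have hpos : 0 < Nat.card ↥g.ker := Nat.card_pos
        have h13 : Nat.card ↥g.ker = 1 ∨ Nat.card ↥g.ker = 3 := by
          interval_cases (Nat.card ↥g.ker)
          · exact Or.inl rfl
          · norm_num at hd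
          · exact Or.inr rfl
        rcases h13 with h1 | h3
        · left
          rw [← MonoidHom.ker_eq_bot_iff]
          exact Subgroup.card_eq_one.mp h1
        · exact Or.inr ⟨hn, h3⟩
      · exact Or.inl (hi h6)

end Cfsg.Agent.Lib.Helper3.A8OrbW
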