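import Mathlib
import Cfsg.Agent.Lib.Helper7.A8P2Defs

set_option autoImplicit false
set_option maxRecDepth 100000
set_option maxHeartbeats 4000000

/-! S3104 farm, part (2), unit C: the concrete configurations in `S₆`, `S₇`, `A₈` and the
`A₅` subgroups. -/

namespace Cfsg.Agent.Lib.Helper3.A8P2C

open Equiv Cfsg.Agent.Lib.Helper7.A8P2

/-! ### `Perm (Fin 6)` -/

/-- dichotomy datum -/
def d6 : Dic (Perm (Fin 6)) where
  w := swap 0 1 * swap 1 2
  u := swap 3 4 * swap 4 5
  c1 := swap 3 4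
  c2 := swap 0 3 * swap 1 4 * swap 2 5

/-- configuration A (`z = w u`) -/
def cA6 : Cfg (Perm (Fin 6)) where
  z := d6.w * d6.u
  f0 := swap 0 3 * swap 1 4 * swap 2 5
  f1 := swap 0 3 * swap 1 4
  f2 := swap 1 4 * swap 2 5
  y1 := swap 0 1 * swap 1 3
  y2 := swap 1 2 * swap 2 4
  y3 := swap 0 2 * swap 2 3

/-- configuration B (`z = w`) -/
def cB6 : Cfg (Perm (Fin 6)) where
  z := d6.w
  f0 := swap 4 5
  f1 := swap 0 1 * swap 2 3
  f2 := swap 0 3 * swap 1 2
  y1 := swap 0 2 * swap 2 4 * (swap 1 3 * swap 3 5)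
  y2 := swap 0 1 * swap 1 4 * (swap 3 2 * swap 2 5)
  y3 := swap 0 1 * swap 1 4 * (swap 2 3 * swap 3 5)

theorem d6_ok : d6.OK := by
  constructor <;> decide

theorem cA6_ok : cA6.OK := by
  constructor <;> decide

theorem cB6_ok : cB6.OK := by
  constructor <;> decide

theorem full6 : Nonempty (Full (Equiv.Perm (Fin 6))) :=
  ⟨{ d := d6, cA := cA6, cB := cB6, hd := d6_ok, hA := cA6_ok, hB := cB6_ok, zA := rfl, zB := rfl }⟩

/-! ### `Perm (Fin 7)` -/

/-- dichotomy datum -/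
def d7 : Dic (Perm (Fin 7)) where
  w := swap 0 1 * swap 1 2
  u := swap 3 4 * swap 4 5
  c1 := swap 3 4
  c2 := swap 0 3 * swap 1 4 * swap 2 5

/-- configuration A (`z = w u`) -/
def cA7 : Cfg (Perm (Fin 7)) where
  z := d7.w * d7.u
  f0 := swap 0 3 * swap 1 4 * swap 2 5
  f1 := swap 0 3 * swap 1 4
  f2 := swap 1 4 * swap 2 5
  y1 := swap 0 1 * swap 1 3
  y2 := swap 1 2 * swap 2 4
  y3 := swap 0 2 * swap 2 3

/-- configuration B (`z = w`) -/
def cB7 : Cfg (Perm (Fin 7)) where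
  z := d7.w
  f0 := swap 4 5
  f1 := swap 0 1 * swap 2 3
  f2 := swap 0 3 * swap 1 2
  y1 := swap 0 2 * swap 2 4 * (swap 1 3 * swap 3 5)
  y2 := swap 0 1 * swap 1 4 * (swap 3 2 * swap 2 5)
  y3 := swap 0 1 * swap 1 4 * (swap 2 3 * swap 3 5)

theorem d7_ok : d7.OK := by
  constructor <;> decide

theorem cA7_ok : cA7.OK := by
  constructor <;> decide

theorem cB7_ok : cB7.OK := by
  constructor <;> decide

theorem full7 : Nonempty (Full (Equiv.Perm (Fin 7))) :=
  ⟨{ d := d7, cA := cA7, cB := cB7, hd := d7_ok, hA := cA7_ok, hB := cB7_ok, zA := rfl, zB := rfl }⟩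

/-! ### `alternatingGroup (Fin 8)` -/

/-- an even permutation of `Fin 8` as an element of the alternating group -/
def mk8 (σ : Perm (Fin 8)) (h : Perm.sign σ = 1) : ↥(alternatingGroup (Fin 8)) :=
  ⟨σ, Perm.mem_alternatingGroup.mpr h⟩

/-- dichotomy datum -/
def d8 : Dic ↥(alternatingGroup (Fin 8)) where
  w := mk8 (swap 0 1 * swap 1 2) (by decide)
  u := mk8 (swap 3 4 * swap 4 5) (by decide)
  c1 := mk8 (swap 3 4 * swap 6 7) (by decide)
  c2 := mk8 (swap 0 3 * swap 1 4 * swap 2 5 * swap 6 7) (by decide)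

/-- configuration A (`z = w u`) -/
def cA8 : Cfg ↥(alternatingGroup (Fin 8)) where
  z := d8.w * d8.u
  f0 := mk8 (swap 0 3 * swap 1 4 * swap 2 5 * swap 6 7) (by decide)
  f1 := mk8 (swap 0 3 * swap 1 4) (by decide)
  f2 := mk8 (swap 1 4 * swap 2 5) (by decide)
  y1 := mk8 (swap 0 1 * swap 1 3) (by decide)
  y2 := mk8 (swap 1 2 * swap 2 4) (by decide)
  y3 := mk8 (swap 0 2 * swap 2 3) (by decide)

/-- configuration B (`z = w`) -/
def cB8 : Cfg ↥(alternatingGroup (Fin 8)) where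
  z := d8.w
  f0 := mk8 (swap 4 5 * swap 6 7) (by decide)
  f1 := mk8 (swap 0 1 * swap 2 3) (by decide)
  f2 := mk8 (swap 0 3 * swap 1 2) (by decide)
  y1 := mk8 (swap 0 2 * swap 2 4 * (swap 1 3 * swap 3 5)) (by decide)
  y2 := mk8 (swap 0 1 * swap 1 4 * (swap 3 2 * swap 2 5)) (by decide)
  y3 := mk8 (swap 0 1 * swap 1 4 * (swap 2 3 * swap 3 5)) (by decide)

theorem d8_ok : d8.OK := by
  constructor <;> decide

theorem cA8_ok : cA8.OK := by
  constructor <;> decide

theorem cB8_ok : cB8.OK := by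
  constructor <;> decide

theorem full8 : Nonempty (Full ↥(alternatingGroup (Fin 8))) :=
  ⟨{ d := d8, cA := cA8, cB := cB8, hd := d8_ok, hA := cA8_ok, hB := cB8_ok, zA := rfl, zB := rfl }⟩

/-! ### the `A₅` subgroups -/

/-- an injective homomorphism from `A₅` gives a subgroup isomorphic to `A₅` -/
theorem exists_sub_of_injective {S : Type*} [Group S] (j : ↥(alternatingGroup (Fin 5)) →* S)
    (hj : Function.Injective j) :
    ∃ A : Subgroup S, Nonempty (↥A ≃* ↥(alternatingGroup (Fin 5))) :=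
  ⟨j.range, ⟨(MonoidHom.ofInjective hj).symm⟩⟩

/-- the embedding `Perm (Fin 5) →* Perm (Fin n)` for `5 ≤ n` -/
def emb5 {n : ℕ} (h : 5 ≤ n) : Perm (Fin 5) →* Perm (Fin n) :=
  Perm.extendDomainHom (Fin.castLEEmb h).toEquivRange

theorem emb5_injective {n : ℕ} (h : 5 ≤ n) : Function.Injective (emb5 h) :=
  Perm.extendDomainHom_injective _

theorem sign_emb5 {n : ℕ} (h : 5 ≤ n) (e : Perm (Fin 5)) : Perm.sign (emb5 h e) = Perm.sign e :=
  Perm.sign_extendDomain e _

theorem a5_6 : ∃ A : Subgroup (Equiv.Perm (Fin 6)),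
    Nonempty (↥A ≃* ↥(alternatingGroup (Fin 5))) :=
  exists_sub_of_injective ((emb5 (by norm_num)).comp (alternatingGroup (Fin 5)).subtype)
    ((emb5_injective _).comp Subtype.val_injective)

theorem a5_7 : ∃ A : Subgroup (Equiv.Perm (Fin 7)),
    Nonempty (↥A ≃* ↥(alternatingGroup (Fin 5))) :=
  exists_sub_of_injective ((emb5 (by norm_num)).comp (alternatingGroup (Fin 5)).subtype)
    ((emb5_injective _).comp Subtype.val_injective)

theorem a5_8 : ∃ A : Subgroup ↥(alternatingGroup (Fin 8)),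
    Nonempty (↥A ≃* ↥(alternatingGroup (Fin 5))) := by
  have h58 : 5 ≤ 8 := by norm_num
  refine exists_sub_of_injective
    (((emb5 h58).comp (alternatingGroup (Fin 5)).subtype).codRestrict (alternatingGroup (Fin 8))
      (fun a => ?_)) ?_
  · rw [Perm.mem_alternatingGroup]
    show Perm.sign (emb5 h58 a.1) = 1
    rw [sign_emb5]
    exact Perm.mem_alternatingGroup.mp a.2
  · intro a b hab
    have h1 := congrArg Subtype.val hab
    exact Subtype.val_injective (emb5_injective h58 h1)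

end Cfsg.Agent.Lib.Helper3.A8P2C
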