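import Mathlib

set_option autoImplicit false
set_option maxHeartbeats 1000000

/-! S3104 farm, unit V4: a transitive group on eight points containing an element of order five
is primitive. -/

namespace Cfsg.Agent.Lib.Helper3.A8V4

open MulAction
open scoped Pointwise

/-- an element with `x ^ 5 = 1` lies in every subgroup containing a power `x ^ k`, `0 < k < 5` -/
theorem mem_of_pow_mem {G : Type*} [Group G] {x : G} (hx : x ^ 5 = 1) (H : Subgroup G) {k : ℕ}
    (hk0 : 0 < k) (hk5 : k < 5) (h : x ^ k ∈ H) : x ∈ H := by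
  have h6 : x ^ 6 = x := by rw [pow_succ, hx, one_mul]
  have h16 : x ^ 16 = x := by
    have : x ^ 16 = (x ^ 5) ^ 3 * x := by rw [← pow_mul, ← pow_succ]
    rw [this, hx, one_pow, one_mul]
  interval_cases k
  · simpa using h
  · have := H.pow_mem h 3
    rwa [← pow_mul, h6] at this
  · have := H.pow_mem h 2
    rwa [← pow_mul, h6] at this
  · have := H.pow_mem h 4
    rwa [← pow_mul, h16] at this

/-- the five translates of a point not fixed by an element with `x ^ 5 = 1` are distinct -/
theorem injective_pow_smul {G α : Type*} [Group G] [MulAction G α] {x : G} (hx : x ^ 5 = 1)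
    {s : α} (hs : x • s ≠ s) : Function.Injective (fun i : Fin 5 => x ^ (i : ℕ) • s) := by
  have key : ∀ i j : Fin 5, i < j → x ^ (i : ℕ) • s ≠ x ^ (j : ℕ) • s := by
    intro i j hij heq
    apply hs
    have hle : (i : ℕ) ≤ (j : ℕ) := le_of_lt hij
    have h1 : x ^ ((j : ℕ) - (i : ℕ)) • s = s := by
      have h2 : x ^ (j : ℕ) = x ^ (i : ℕ) * x ^ ((j : ℕ) - (i : ℕ)) := by
        rw [← pow_add, Nat.add_sub_cancel' hle]
      rw [h2, mul_smul] at heq
      exact (smul_left_cancel _ heq).symm
    have h3 : x ^ ((j : ℕ) - (i : ℕ)) ∈ stabilizer G s := mem_stabilizer_iff.mpr h1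
    have hlt : (i : ℕ) < (j : ℕ) := hij
    have := mem_of_pow_mem hx (stabilizer G s) (by omega) (by have := j.2; omega) h3
    exact mem_stabilizer_iff.mp this
  intro i j hij
  by_contra hne
  rcases lt_or_gt_of_ne hne with h | h
  · exact key i j h hij
  · exact key j i h hij.symm

/-- **V4**: primitivity from an element of order `5`. -/
theorem preprimitive_of_five (Y : Subgroup (Equiv.Perm (Fin 8)))
    [MulAction.IsPretransitive ↥Y (Fin 8)] (g : Equiv.Perm (Fin 8)) (hg : g ∈ Y)
    (h5 : orderOf g = 5) : MulAction.IsPreprimitive ↥Y (Fin 8) := by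
  have hg5 : g ^ 5 = 1 := by rw [← h5]; exact pow_orderOf_eq_one g
  have hg1 : g ≠ 1 := by
    intro h
    rw [h, orderOf_one] at h5
    omega
  obtain ⟨a, ha⟩ : ∃ a, g a ≠ a := by
    by_contra h
    push Not at h
    exact hg1 (Equiv.Perm.ext h)
  set γ : ↥Y := ⟨g, hg⟩ with hγ
  have hγ5 : γ ^ 5 = 1 := Subtype.ext hg5
  have hγa : γ • a ≠ a := ha
  refine IsPreprimitive.of_isTrivialBlock_base a ?_
  intro B haB hB
  have hBne : B.Nonempty := ⟨a, haB⟩
  have hmul := hB.ncard_block_mul_ncard_orbit_eq hBne
  rw [Nat.card_eq_fintype_card, Fintype.card_fin] at hmul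
  have hBfin : B.Finite := Set.toFinite B
  have hBpos : 0 < B.ncard := (Set.ncard_pos hBfin).mpr hBne
  by_cases hfix : γ • B = B
  · -- the five points `γ ^ i • a` lie in `B`
    have hinj := injective_pow_smul hγ5 hγa
    have hsub : Set.range (fun i : Fin 5 => γ ^ (i : ℕ) • a) ⊆ B := by
      rintro _ ⟨i, rfl⟩
      have h1 : γ ^ (i : ℕ) • B = B := by
        have : γ ∈ stabilizer ↥Y B := mem_stabilizer_iff.mpr hfix
        exact mem_stabilizer_iff.mp (Subgroup.pow_mem _ this _)
      rw [← h1]
      exact Set.smul_mem_smul_set haB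
    have h5le : 5 ≤ B.ncard := by
      have h1 := Set.ncard_le_ncard hsub hBfin
      have h2 : (Set.range (fun i : Fin 5 => γ ^ (i : ℕ) • a)).ncard = 5 := by
        rw [Set.ncard_eq_toFinset_card', Set.toFinset_range,
          Finset.card_image_of_injective _ hinj]
        simp
      omega
    -- so `B` has at least five of the eight points: `B = univ`
    right
    apply hB.eq_univ_of_card_lt
    rw [Nat.card_eq_fintype_card, Fintype.card_fin]
    omega
  · -- five distinct translates: the block has one point
    have hinj := injective_pow_smul (α := Set (Fin 8)) hγ5 hfix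
    have hsub : Set.range (fun i : Fin 5 => γ ^ (i : ℕ) • B) ⊆ orbit ↥Y B := by
      rintro _ ⟨i, rfl⟩
      exact mem_orbit _ _
    have hofin : (orbit ↥Y B).Finite := Set.toFinite _
    have h5le : 5 ≤ (orbit ↥Y B).ncard := by
      have h1 := Set.ncard_le_ncard hsub hofin
      have h2 : (Set.range (fun i : Fin 5 => γ ^ (i : ℕ) • B)).ncard = 5 := by
        classical
        rw [Set.ncard_eq_toFinset_card', Set.toFinset_range,
          Finset.card_image_of_injective _ hinj]
        simp
      omega
    left
    have h1 : B.ncard ≤ 1 := by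
      by_contra h
      push Not at h
      have : 2 * 5 ≤ B.ncard * (orbit ↥Y B).ncard := Nat.mul_le_mul h h5le
      omega
    exact (Set.ncard_le_one hBfin).mp h1 |> fun h => fun x hx y hy => h x hx y hy

end Cfsg.Agent.Lib.Helper3.A8V4
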