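import Mathlib

set_option autoImplicit false

/-! Farm ALT8 (S2928), unit U0: `n / 4` pairwise disjoint four-sets whose Klein four-groups lie in a
subgroup containing a Sylow 2-subgroup of the alternating group. -/

namespace Cfsg.Agent.Lib.Helper3.ALT8

open Equiv Equiv.Perm

section general

variable {α : Type*} [DecidableEq α]

/-- the double transposition `(a b)(c d)` -/
def dt (a b c d : α) : Perm α := swap a b * swap c d

theorem dt_sq {a b c d : α} (h : [a, b, c, d].Nodup) : dt a b c d * dt a b c d = 1 := by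
  have hd : (swap a b).Disjoint (swap c d) := disjoint_swap_swap h
  have hc : swap a b * swap c d = swap c d * swap a b := hd.commute.eq
  unfold dt
  calc swap a b * swap c d * (swap a b * swap c d)
      = swap a b * (swap c d * swap a b) * swap c d := by group
    _ = swap a b * (swap a b * swap c d) * swap c d := by rw [hc]
    _ = (swap a b * swap a b) * (swap c d * swap c d) := by group
    _ = 1 := by rw [swap_mul_self, swap_mul_self, one_mul]

theorem dt_comm {a b c d : α} (h : [a, b, c, d].Nodup) :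
    dt a b c d * dt a c b d = dt a c b d * dt a b c d := by
  simp only [List.nodup_cons, List.mem_cons, List.not_mem_nil, or_false, not_or,
    List.nodup_nil, and_true, not_false_eq_true] at h
  obtain ⟨⟨hab, hac, had⟩, ⟨hbc, hbd⟩, hcd⟩ := h
  set z := dt a c b d with hz
  have za : z a = c := by
    rw [hz, dt, Perm.mul_apply, swap_apply_of_ne_of_ne hab had, swap_apply_left]
  have zb : z b = d := by
    rw [hz, dt, Perm.mul_apply, swap_apply_left, swap_apply_of_ne_of_ne (Ne.symm had) (Ne.symm hcd)]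
  have zc : z c = a := by
    rw [hz, dt, Perm.mul_apply, swap_apply_of_ne_of_ne (Ne.symm hbc) hcd, swap_apply_right]
  have zd : z d = b := by
    rw [hz, dt, Perm.mul_apply, swap_apply_right, swap_apply_of_ne_of_ne (Ne.symm hab) hbc]
  have h1 : z * swap a b * z⁻¹ = swap c d := by rw [← swap_apply_apply, za, zb]
  have h2 : z * swap c d * z⁻¹ = swap a b := by rw [← swap_apply_apply, zc, zd]
  have hd : (swap a b).Disjoint (swap c d) := by
    apply disjoint_swap_swap
    simp [hab, hac, had, hbc, hbd, hcd]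
  have hconj : z * dt a b c d * z⁻¹ = dt a b c d := by
    unfold dt
    calc z * (swap a b * swap c d) * z⁻¹ = (z * swap a b * z⁻¹) * (z * swap c d * z⁻¹) := by group
      _ = swap c d * swap a b := by rw [h1, h2]
      _ = swap a b * swap c d := hd.commute.eq.symm
  calc dt a b c d * z = (z * dt a b c d * z⁻¹) * z := by rw [hconj]
    _ = z * dt a b c d := by group

theorem dt_support {a b c d : α} [Fintype α] : (dt a b c d).support ⊆ {a, b, c, d} := by
  intro y hy
  rw [Perm.mem_support] at hy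
  by_contra hcon
  simp only [Finset.mem_insert, Finset.mem_singleton, not_or] at hcon
  obtain ⟨h1, h2, h3, h4⟩ := hcon
  apply hy
  rw [dt, Perm.mul_apply, swap_apply_of_ne_of_ne h3 h4, swap_apply_of_ne_of_ne h1 h2]

theorem dt_sign {a b c d : α} [Fintype α] (hab : a ≠ b) (hcd : c ≠ d) :
    Perm.sign (dt a b c d) = 1 := by
  rw [dt, Perm.sign_mul, Perm.sign_swap hab, Perm.sign_swap hcd]; rfl

theorem conj_dt (g : Perm α) (a b c d : α) :
    g * dt a b c d * g⁻¹ = dt (g a) (g b) (g c) (g d) := by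
  unfold dt
  rw [swap_apply_apply, swap_apply_apply]; group

end general

section main

/-- the standard blocks `{4i, 4i+1, 4i+2, 4i+3}` -/
def blk (n : ℕ) (i : Fin (n / 4)) (j : Fin 4) : Fin n :=
  ⟨4 * i.1 + j.1, by have := i.2; have := j.2; omega⟩

theorem blk_inj (n : ℕ) {i i' : Fin (n / 4)} {j j' : Fin 4} (h : blk n i j = blk n i' j') :
    i = i' ∧ j = j' := by
  have h' := congrArg Fin.val h
  simp only [blk] at h'
  have := j.2; have := j'.2
  constructor
  · apply Fin.ext; omega
  · apply Fin.ext; omega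

theorem blk_nodup (n : ℕ) (i : Fin (n / 4)) :
    [blk n i 0, blk n i 1, blk n i 2, blk n i 3].Nodup := by
  have hne : ∀ j j' : Fin 4, j ≠ j' → blk n i j ≠ blk n i j' := fun j j' hj h =>
    hj (blk_inj n h).2
  simp only [List.nodup_cons, List.mem_cons, List.not_mem_nil, or_false, not_or,
    List.nodup_nil, and_true, not_false_eq_true]
  refine ⟨⟨hne _ _ (by decide), hne _ _ (by decide), hne _ _ (by decide)⟩,
    ⟨hne _ _ (by decide), hne _ _ (by decide)⟩, hne _ _ (by decide)⟩

theorem blk_nodup' (n : ℕ) (i : Fin (n / 4)) :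
    [blk n i 0, blk n i 2, blk n i 1, blk n i 3].Nodup := by
  have hne : ∀ j j' : Fin 4, j ≠ j' → blk n i j ≠ blk n i j' := fun j j' hj h =>
    hj (blk_inj n h).2
  simp only [List.nodup_cons, List.mem_cons, List.not_mem_nil, or_false, not_or,
    List.nodup_nil, and_true, not_false_eq_true]
  refine ⟨⟨hne _ _ (by decide), hne _ _ (by decide), hne _ _ (by decide)⟩,
    ⟨hne _ _ (by decide), hne _ _ (by decide)⟩, hne _ _ (by decide)⟩

/-- the two generators of the four-group on block `i` -/
def gx (n : ℕ) (i : Fin (n / 4)) : Perm (Fin n) := dt (blk n i 0) (blk n i 1) (blk n i 2) (blk n i 3)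

def gz (n : ℕ) (i : Fin (n / 4)) : Perm (Fin n) := dt (blk n i 0) (blk n i 2) (blk n i 1) (blk n i 3)

/-- the generating set -/
def gens (n : ℕ) : Set (Perm (Fin n)) := {g | ∃ i, g = gx n i ∨ g = gz n i}

theorem gen_support (n : ℕ) {g : Perm (Fin n)} {i : Fin (n / 4)} (h : g = gx n i ∨ g = gz n i) :
    ∀ y ∈ g.support, ∃ j, y = blk n i j := by
  intro y hy
  have hsub : g.support ⊆ {blk n i 0, blk n i 1, blk n i 2, blk n i 3} := by
    rcases h with rfl | rfl
    · exact dt_support
    · intro y hy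
      have := dt_support hy
      simp only [Finset.mem_insert, Finset.mem_singleton] at this ⊢
      tauto
  have := hsub hy
  simp only [Finset.mem_insert, Finset.mem_singleton] at this
  rcases this with h | h | h | h
  · exact ⟨0, h⟩
  · exact ⟨1, h⟩
  · exact ⟨2, h⟩
  · exact ⟨3, h⟩

theorem gens_comm (n : ℕ) : ∀ g ∈ gens n, ∀ h ∈ gens n, g * h = h * g := by
  rintro g ⟨i, hg⟩ h ⟨i', hh⟩
  by_cases hii : i = i'
  · subst hii
    rcases hg with rfl | rfl <;> rcases hh with rfl | rfl
    · rfl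
    · exact dt_comm (blk_nodup n i)
    · exact (dt_comm (blk_nodup n i)).symm
    · rfl
  · have hd : g.Disjoint h := by
      rw [Perm.disjoint_iff_disjoint_support, Finset.disjoint_left]
      intro y hy1 hy2
      obtain ⟨j, hj⟩ := gen_support n hg y hy1
      obtain ⟨j', hj'⟩ := gen_support n hh y hy2
      exact hii (blk_inj n (hj.symm.trans hj')).1
    exact hd.commute.eq

theorem gens_sq (n : ℕ) : ∀ g ∈ gens n, g * g = 1 := by
  rintro g ⟨i, rfl | rfl⟩
  · exact dt_sq (blk_nodup n i)
  · exact dt_sq (blk_nodup' n i)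

theorem gens_alt (n : ℕ) : ∀ g ∈ gens n, g ∈ alternatingGroup (Fin n) := by
  have hne : ∀ (i : Fin (n / 4)) (j j' : Fin 4), j ≠ j' → blk n i j ≠ blk n i j' :=
    fun i j j' hj h => hj (blk_inj n h).2
  rintro g ⟨i, rfl | rfl⟩
  · rw [Perm.mem_alternatingGroup]
    exact dt_sign (hne i _ _ (by decide)) (hne i _ _ (by decide))
  · rw [Perm.mem_alternatingGroup]
    exact dt_sign (hne i _ _ (by decide)) (hne i _ _ (by decide))

theorem closure_sq (n : ℕ) : ∀ g ∈ Subgroup.closure (gens n), g * g = 1 := by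
  have hcomm : ∀ a ∈ Subgroup.closure (gens n), ∀ b ∈ Subgroup.closure (gens n), a * b = b * a := by
    intro a ha b hb
    have hc := Subgroup.isMulCommutative_closure (gens_comm n)
    exact congrArg Subtype.val (hc.is_comm.comm (⟨a, ha⟩ : Subgroup.closure (gens n)) ⟨b, hb⟩)
  intro g hg
  induction hg using Subgroup.closure_induction with
  | mem x hx => exact gens_sq n x hx
  | one => simp
  | mul x y hx hy ihx ihy =>
    calc x * y * (x * y) = x * (y * x) * y := by group
      _ = x * (x * y) * y := by rw [hcomm y hy x hx]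
      _ = (x * x) * (y * y) := by group
      _ = 1 := by rw [ihx, ihy, one_mul]
  | inv x hx ihx =>
    have : x⁻¹ = x := by rw [inv_eq_iff_mul_eq_one]; exact ihx
    rw [this]; exact ihx

/-- U0 (Step 0). -/
theorem exists_fours (n : ℕ) (H : Subgroup (Perm (Fin n)))
    (hS : ∃ P : Sylow 2 ↥(alternatingGroup (Fin n)),
      ((P : Subgroup ↥(alternatingGroup (Fin n))).map (alternatingGroup (Fin n)).subtype) ≤ H) :
    ∃ φ : Fin (n / 4) → Fin 4 → Fin n,
      Function.Injective (fun p : Fin (n / 4) × Fin 4 => φ p.1 p.2) ∧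
      ∀ i, swap (φ i 0) (φ i 1) * swap (φ i 2) (φ i 3) ∈ H ∧
        swap (φ i 0) (φ i 2) * swap (φ i 1) (φ i 3) ∈ H := by
  classical
  obtain ⟨P, hP⟩ := hS
  set E : Subgroup (Perm (Fin n)) := Subgroup.closure (gens n) with hE
  have hEA : E ≤ alternatingGroup (Fin n) := (Subgroup.closure_le (alternatingGroup (Fin n))).mpr (gens_alt n)
  -- `E` as a 2-subgroup of `A`
  have hp : IsPGroup 2 ↥(E.subgroupOf (alternatingGroup (Fin n))) := by
    intro g
    refine ⟨1, ?_⟩
    apply Subtype.ext
    apply Subtype.ext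
    have hg : ((g : ↥(alternatingGroup (Fin n))) : Perm (Fin n)) ∈ E := g.2
    have := closure_sq n _ hg
    simpa [pow_two] using this
  obtain ⟨Q, hQ⟩ := hp.exists_le_sylow
  obtain ⟨a, ha⟩ := MulAction.exists_smul_eq ↥(alternatingGroup (Fin n)) P Q
  -- every element of `E` conjugated by `a⁻¹` lies in `P`
  have hconj : ∀ g ∈ E, ((a : Perm (Fin n)))⁻¹ * g * (a : Perm (Fin n)) ∈ H := by
    intro g hg
    have hgA : g ∈ alternatingGroup (Fin n) := hEA hg
    have h1 : (⟨g, hgA⟩ : ↥(alternatingGroup (Fin n))) ∈ (Q : Subgroup ↥(alternatingGroup (Fin n))) := hQ (by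
      rw [Subgroup.mem_subgroupOf]; exact hg)
    rw [← ha, Sylow.coe_subgroup_smul, Subgroup.mem_pointwise_smul_iff_inv_smul_mem] at h1
    apply hP
    refine ⟨(MulAut.conj a)⁻¹ • (⟨g, hgA⟩ : ↥(alternatingGroup (Fin n))), h1, ?_⟩
    simp [MulAut.smul_def]
  refine ⟨fun i j => ((a : Perm (Fin n)))⁻¹ (blk n i j), ?_, ?_⟩
  · rintro ⟨i, j⟩ ⟨i', j'⟩ h
    have h' : blk n i j = blk n i' j' := ((a : Perm (Fin n)))⁻¹.injective h
    obtain ⟨h1, h2⟩ := blk_inj n h'
    simp [h1, h2]
  · intro i
    have hx : gx n i ∈ E := Subgroup.subset_closure ⟨i, Or.inl rfl⟩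
    have hz : gz n i ∈ E := Subgroup.subset_closure ⟨i, Or.inr rfl⟩
    have h1 := hconj _ hx
    have h2 := hconj _ hz
    have e1 := conj_dt ((a : Perm (Fin n)))⁻¹ (blk n i 0) (blk n i 1) (blk n i 2) (blk n i 3)
    have e2 := conj_dt ((a : Perm (Fin n)))⁻¹ (blk n i 0) (blk n i 2) (blk n i 1) (blk n i 3)
    rw [inv_inv] at e1 e2
    refine ⟨?_, ?_⟩
    · have : swap (((a : Perm (Fin n)))⁻¹ (blk n i 0)) (((a : Perm (Fin n)))⁻¹ (blk n i 1)) *
          swap (((a : Perm (Fin n)))⁻¹ (blk n i 2)) (((a : Perm (Fin n)))⁻¹ (blk n i 3)) =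
          ((a : Perm (Fin n)))⁻¹ * gx n i * (a : Perm (Fin n)) := e1.symm
      rw [this]; exact h1
    · have : swap (((a : Perm (Fin n)))⁻¹ (blk n i 0)) (((a : Perm (Fin n)))⁻¹ (blk n i 2)) *
          swap (((a : Perm (Fin n)))⁻¹ (blk n i 1)) (((a : Perm (Fin n)))⁻¹ (blk n i 3)) =
          ((a : Perm (Fin n)))⁻¹ * gz n i * (a : Perm (Fin n)) := e2.symm
      rw [this]; exact h2

end main

end Cfsg.Agent.Lib.Helper3.ALT8
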