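import Cfsg.Agent.Lib.Helper7.ALT8Defs

set_option autoImplicit false

/-! Farm ALT8 (S2928), unit U3: 2-transitivity from primitivity and the four-group (Jordan,
`MulAction.IsPreprimitive.is_two_pretransitive`). -/

namespace Cfsg.Agent.Lib.Helper3.ALT8

open Equiv Equiv.Perm MulAction Cfsg.Agent.Lib.Helper7.ALT8

variable {D : Type*} [Fintype D] [DecidableEq D]

theorem twoTrans {X : Subgroup (Perm D)} (hprim : MulAction.IsPreprimitive ↥X D)
    {a0 a1 a2 a3 : D} (hV : V4in X a0 a1 a2 a3) (hcard : 8 ≤ Fintype.card D) : TwoTrans X := by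
  classical
  obtain ⟨h01, h02, h03, h12, h13, h23, hx, hz⟩ := hV
  set F : Finset D := {a0, a1, a2, a3} with hF
  have hFcard : F.card = 4 := by
    rw [hF, Finset.card_insert_of_notMem, Finset.card_insert_of_notMem,
      Finset.card_insert_of_notMem, Finset.card_singleton]
    · simpa using h23
    · simp [h12, h13]
    · simp [h01, h02, h03]
  set s : Set D := ((F : Set D))ᶜ with hs
  have hmem : ∀ y : D, y ∈ s ↔ (y ≠ a0 ∧ y ≠ a1 ∧ y ≠ a2 ∧ y ≠ a3) := by
    intro y
    simp [hs, hF]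
  have hncard : s.ncard = (Fintype.card D - 5) + 1 := by
    have h1 : s.ncard = Fintype.card D - F.card := by
      rw [hs, Set.ncard_compl, Set.ncard_coe_finset, Nat.card_eq_fintype_card]
    rw [h1, hFcard]; omega
  have hsn' : (Fintype.card D - 5) + 2 < Nat.card D := by
    rw [Nat.card_eq_fintype_card]; omega
  -- the two generators as elements of the fixing subgroup
  have hgx : (⟨swap a0 a1 * swap a2 a3, hx⟩ : ↥X) ∈ fixingSubgroup ↥X s := by
    rw [mem_fixingSubgroup_iff]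
    intro y hy
    obtain ⟨y0, y1, y2, y3⟩ := (hmem y).mp hy
    show (swap a0 a1 * swap a2 a3) y = y
    rw [Perm.mul_apply, swap_apply_of_ne_of_ne y2 y3, swap_apply_of_ne_of_ne y0 y1]
  have hgz : (⟨swap a0 a2 * swap a1 a3, hz⟩ : ↥X) ∈ fixingSubgroup ↥X s := by
    rw [mem_fixingSubgroup_iff]
    intro y hy
    obtain ⟨y0, y1, y2, y3⟩ := (hmem y).mp hy
    show (swap a0 a2 * swap a1 a3) y = y
    rw [Perm.mul_apply, swap_apply_of_ne_of_ne y1 y3, swap_apply_of_ne_of_ne y0 y2]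
  set gx : fixingSubgroup ↥X s := ⟨_, hgx⟩ with hgxdef
  set gz : fixingSubgroup ↥X s := ⟨_, hgz⟩ with hgzdef
  have ex1 : (swap a0 a1 * swap a2 a3) a0 = a1 := by
    rw [Perm.mul_apply, swap_apply_of_ne_of_ne h02 h03, swap_apply_left]
  have ez2 : (swap a0 a2 * swap a1 a3) a0 = a2 := by
    rw [Perm.mul_apply, swap_apply_of_ne_of_ne h01 h03, swap_apply_left]
  have ex23 : (swap a0 a1 * swap a2 a3) a2 = a3 := by
    rw [Perm.mul_apply, swap_apply_left, swap_apply_of_ne_of_ne h03.symm h13.symm]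
  have key : ∀ a : D, a ∉ s → ∃ g : fixingSubgroup ↥X s, ((g : ↥X) : Perm D) a0 = a := by
    intro a ha
    have : a = a0 ∨ a = a1 ∨ a = a2 ∨ a = a3 := by
      by_contra hcon
      push Not at hcon
      exact ha ((hmem a).mpr hcon)
    rcases this with h | h | h | h
    · exact ⟨1, h.symm⟩
    · exact ⟨gx, ex1.trans h.symm⟩
    · exact ⟨gz, ez2.trans h.symm⟩
    · refine ⟨gx * gz, ?_⟩
      show (swap a0 a1 * swap a2 a3 * (swap a0 a2 * swap a1 a3)) a0 = _
      rw [Perm.mul_apply, ez2, ex23, h]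
  have htr : IsPretransitive (fixingSubgroup ↥X s) (SubMulAction.ofFixingSubgroup ↥X s) := by
    constructor
    intro x y
    obtain ⟨g1, hg1⟩ := key x.1 x.2
    obtain ⟨g2, hg2⟩ := key y.1 y.2
    refine ⟨g2 * g1⁻¹, ?_⟩
    apply Subtype.ext
    show (((g2 * g1⁻¹ : fixingSubgroup ↥X s) : ↥X) : Perm D) x.1 = y.1
    have : (((g2 * g1⁻¹ : fixingSubgroup ↥X s) : ↥X) : Perm D)
        = ((g2 : ↥X) : Perm D) * (((g1 : ↥X) : Perm D))⁻¹ := by
      simp
    rw [this, Perm.mul_apply, ← hg1]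
    simp [hg2]
  have h2 := hprim.is_two_pretransitive hncard hsn' htr
  rw [is_two_pretransitive_iff] at h2
  intro a b c d hab hcd
  obtain ⟨g, h1, h2'⟩ := h2 hab hcd
  exact ⟨g.1, g.2, h1, h2'⟩

end Cfsg.Agent.Lib.Helper3.ALT8
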