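import Mathlib

set_option autoImplicit false

/-! Farm ALT8 (S2928), unit U4f1: two fixed-point-free involutions on at least 7 points with the
property (4.2) commute. -/

namespace Cfsg.Agent.Lib.Helper3.ALT8

open Equiv Equiv.Perm

variable {D : Type*} [Fintype D] [DecidableEq D]

/-- U4f1: two fixed-point-free involutions on at least 7 points with the property (4.2) commute. -/
theorem comm_of_P (hcard : 7 ≤ Fintype.card D) (s t : Perm D) (hs : s * s = 1) (ht : t * t = 1)
    (hsf : ∀ u, s u ≠ u) (htf : ∀ u, t u ≠ u) (hst : ∀ u, s u ≠ t u)
    (hP : ∀ u x y : D, x ≠ u → x ≠ s u → y ≠ u → y ≠ t u →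
      t u = x ∨ t u = s x ∨ s u = y ∨ s u = t y ∨ x = y ∨ x = t y ∨ s x = y ∨ s x = t y) :
    s * t = t * s := by
  have hss : ∀ z, s (s z) = z := fun z => by
    have := congrArg (fun f : Perm D => f z) hs
    simpa using this
  have htt : ∀ z, t (t z) = z := fun z => by
    have := congrArg (fun f : Perm D => f z) ht
    simpa using this
  ext u
  rw [Perm.mul_apply, Perm.mul_apply]
  by_contra hne
  -- notation: v = s u, w = t u, a = s w, a' = t v
  set v := s u with hv
  set w := t u with hw
  set a := s w with ha
  set a' := t v with ha'
  have hvu : v ≠ u := hsf u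
  have hwu : w ≠ u := htf u
  have hvw : v ≠ w := hst u
  have haw : a ≠ w := hsf w
  have hau : a ≠ u := by
    intro h
    apply hvw
    have : s a = s u := by rw [h]
    rw [ha, hss] at this
    exact this.symm
  have hav : a ≠ v := by
    intro h
    apply hwu
    have : s a = s v := by rw [h]
    rw [ha, hss, hv, hss] at this
    exact this
  -- every point lies in a set of six elements
  have hsix : ∀ x : D, x ∈ ({u, v, w, a, t a, s (t a)} : Finset D) := by
    intro x
    by_contra hx
    simp only [Finset.mem_insert, Finset.mem_singleton, not_or] at hx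
    obtain ⟨hxu, hxv, hxw, hxa, hxta, hxsta⟩ := hx
    rcases hP u x a hxu hxv hau haw with h | h | h | h | h | h | h | h
    · exact hxw h.symm
    · -- w = s x
      apply hxa
      have : s w = s (s x) := congrArg s (h : w = s x)
      rw [hss] at this
      exact this.symm
    · exact hav h.symm
    · -- v = t a  =>  a = t v = a'
      apply hne
      have : t v = t (t a) := congrArg t (h : v = t a)
      rw [htt] at this
      exact this.symm
    · exact hxa h
    · exact hxta h
    · -- s x = a = s w => x = w
      apply hxw
      have : s (s x) = s a := by rw [h]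
      rw [hss, ha, hss] at this
      exact this
    · -- s x = t a => x = s (t a)
      apply hxsta
      have : s (s x) = s (t a) := by rw [h]
      rw [hss] at this
      exact this
  have hle : Fintype.card D ≤ 6 := by
    calc Fintype.card D = (Finset.univ : Finset D).card := rfl
      _ ≤ ({u, v, w, a, t a, s (t a)} : Finset D).card :=
        Finset.card_le_card (fun x _ => hsix x)
      _ ≤ 6 := Finset.card_le_six
  omega

end Cfsg.Agent.Lib.Helper3.ALT8
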