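import Mathlib
import Cfsg.Agent.Lib.Helper7.ALT8Defs
import Cfsg.Agent.Lib.Helper7.ALT8C

set_option autoImplicit false

/-! Farm ALT8 (statement S2928), unit U4f2: the fixed-point-free involution `t_C` of a class.

The class of a transposition `σ` consists of four pairwise disjoint transpositions; on eight points
their product moves every point. -/

namespace Cfsg.Agent.Lib.Helper3.ALT8

open Equiv Equiv.Perm Cfsg.Agent.Lib.Helper7.ALT8

variable {D : Type*} [Fintype D] [DecidableEq D]

/-- a swap is determined by a point of its support -/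
theorem swap_apply_of_mem_support {τ : Perm D} (hτ : τ.IsSwap) {x : D} (hx : x ∈ τ.support) :
    swap x (τ x) = τ := by
  obtain ⟨a, b, hab, rfl⟩ := hτ
  rw [support_swap hab] at hx
  simp only [Finset.mem_insert, Finset.mem_singleton] at hx
  rcases hx with rfl | rfl
  · rw [swap_apply_left]
  · rw [swap_apply_right, swap_comm]

/-- core of U4f2: a class with four elements on eight points -/
theorem exists_tC_core {X : Subgroup (Perm D)} (no3 : No3 X) (hc8 : Fintype.card D = 8)
    {σ : Perm D} (hσ : σ.IsSwap) (hc4 : (cls X σ).card = 4) :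
    ∃ g ∈ X, g * g = 1 ∧ (∀ x, g x ≠ x) ∧ (∀ x, rel X σ (swap x (g x))) ∧
      ∀ x ∈ σ.support, g x = σ x := by
  classical
  obtain ⟨l, hl⟩ : ∃ l : List (Perm D), l = (cls X σ).toList := ⟨_, rfl⟩
  have hlen : l.length = 4 := by rw [hl, Finset.length_toList, hc4]
  have hnd : l.Nodup := by rw [hl]; exact Finset.nodup_toList _
  have hmem : ∀ τ, τ ∈ l ↔ τ.IsSwap ∧ rel X σ τ := fun τ => by
    rw [hl, Finset.mem_toList, mem_cls]
  have hrel : ∀ τ ∈ l, ∀ ρ ∈ l, rel X τ ρ := fun τ hτ ρ hρ =>
    rel_trans no3 ((hmem τ).1 hτ).1 hσ ((hmem ρ).1 hρ).1 (rel_symm ((hmem τ).1 hτ).2)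
      ((hmem ρ).1 hρ).2
  have hpw : l.Pairwise Disjoint :=
    List.Pairwise.imp_of_mem (fun {τ ρ} hτ hρ hne => by
      rcases hrel τ hτ ρ hρ with h | h
      · exact (hne h).elim
      · exact h.1) hnd
  have hσl : σ ∈ l := (hmem σ).2 ⟨hσ, rel_refl σ⟩
  -- the product
  have hgX : l.prod ∈ X := by
    obtain ⟨t0, t1, t2, t3, rfl⟩ : ∃ t0 t1 t2 t3, l = [t0, t1, t2, t3] :=
      List.length_eq_four.1 hlen
    have h01 : t0 * t1 ∈ X := by
      have hne : t0 ≠ t1 := by
        intro h; subst h; simp at hnd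
      rcases hrel t0 (by simp) t1 (by simp) with h | h
      · exact (hne h).elim
      · exact h.2
    have h23 : t2 * t3 ∈ X := by
      have hne : t2 ≠ t3 := by
        intro h; subst h; simp at hnd
      rcases hrel t2 (by simp) t3 (by simp) with h | h
      · exact (hne h).elim
      · exact h.2
    have : [t0, t1, t2, t3].prod = (t0 * t1) * (t2 * t3) := by
      simp [mul_assoc]
    rw [this]
    exact X.mul_mem h01 h23
  have hcard : l.prod.support.card = 8 := by
    rw [card_support_prod_list_of_pairwise_disjoint hpw]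
    have : l.map (Finset.card ∘ support) = l.map (fun _ => 2) := by
      apply List.map_congr_left
      intro τ hτ
      exact card_support_eq_two.2 ((hmem τ).1 hτ).1
    rw [this, List.map_const', List.sum_replicate, hlen]
    rfl
  have hsupp : l.prod.support = Finset.univ := by
    apply Finset.eq_univ_of_card
    rw [hcard, hc8]
  have hex : ∀ x : D, ∃ τ ∈ l, x ∈ τ.support ∧ l.prod x = τ x := by
    intro x
    have hx : x ∈ l.prod.support := by rw [hsupp]; exact Finset.mem_univ x
    obtain ⟨τ, hτl, hxτ⟩ := exists_mem_support_of_mem_support_prod hx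
    exact ⟨τ, hτl, hxτ, (eq_on_support_mem_disjoint hτl hpw x hxτ).symm⟩
  refine ⟨l.prod, hgX, ?_, ?_, ?_, ?_⟩
  · ext x
    obtain ⟨τ, hτl, hxτ, hgx⟩ := hex x
    have hτx : τ x ∈ τ.support := apply_mem_support.2 hxτ
    rw [mul_apply, hgx, ← eq_on_support_mem_disjoint hτl hpw (τ x) hτx, one_apply]
    obtain ⟨a, b, hab, rfl⟩ := ((hmem τ).1 hτl).1
    exact swap_apply_self a b x
  · intro x
    have hx : x ∈ l.prod.support := by rw [hsupp]; exact Finset.mem_univ x
    exact mem_support.1 hx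
  · intro x
    obtain ⟨τ, hτl, hxτ, hgx⟩ := hex x
    rw [hgx, swap_apply_of_mem_support ((hmem τ).1 hτl).1 hxτ]
    exact ((hmem τ).1 hτl).2
  · intro x hx
    exact (eq_on_support_mem_disjoint hσl hpw x hx).symm

/-- U4f2: the fixed-point-free involution `t_C` of a class. -/
theorem exists_tC {X : Subgroup (Perm D)} {a0 a1 a2 a3 : D} (h : S4 X a0 a1 a2 a3)
    (hc8 : Fintype.card D = 8) (hc4 : ∀ σ : Perm D, σ.IsSwap → (cls X σ).card = 4) {u v : D}
    (huv : u ≠ v) :
    ∃ g ∈ X, g * g = 1 ∧ (∀ x, g x ≠ x) ∧ (∀ x, rel X (swap u v) (swap x (g x))) ∧ g u = v := by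
  have hσ : (swap u v).IsSwap := ⟨u, v, huv, rfl⟩
  obtain ⟨g, hgX, hgg, hfix, hrel, hgσ⟩ := exists_tC_core h.no3 hc8 hσ (hc4 _ hσ)
  refine ⟨g, hgX, hgg, hfix, hrel, ?_⟩
  have hu : u ∈ (swap u v).support := by
    rw [support_swap huv]; simp
  rw [hgσ u hu, swap_apply_left]

end Cfsg.Agent.Lib.Helper3.ALT8
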