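import Mathlib
import Cfsg.Agent.Lib.Helper7.ALT8Defs
import Cfsg.Agent.Lib.Helper7.ALT8C
import Cfsg.Agent.Lib.Helper3.ALT8U4f2

set_option autoImplicit false

/-! Farm ALT8 (statement S2928), unit U4f3: on eight points, the involutions `t_C` generate an
abelian transitive subgroup of `X` that is normalised by `X` (step (4.6)). -/

namespace Cfsg.Agent.Lib.Helper3.ALT8

open Equiv Equiv.Perm Cfsg.Agent.Lib.Helper7.ALT8

variable {D : Type*} [Fintype D] [DecidableEq D]

/-- two class involutions commute -/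
theorem tC_comm {X : Subgroup (Perm D)} (no3 : No3 X) (hcard : 7 ≤ Fintype.card D)
    {s t : Perm D} (hs : s * s = 1) (ht : t * t = 1) (hsf : ∀ x, s x ≠ x) (htf : ∀ x, t x ≠ x)
    {σ τ : Perm D} (hσ : σ.IsSwap) (hτ : τ.IsSwap)
    (hsr : ∀ x, rel X σ (swap x (s x))) (htr : ∀ x, rel X τ (swap x (t x))) :
    s * t = t * s := by
  have hss : ∀ x, s (s x) = x := fun x => by
    have := congrArg (fun f : Perm D => f x) hs
    simpa using this
  have htt : ∀ x, t (t x) = x := fun x => by
    have := congrArg (fun f : Perm D => f x) ht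
    simpa using this
  have hsw : ∀ x, (swap x (s x)).IsSwap := fun x => ⟨x, s x, (hsf x).symm, rfl⟩
  have htw : ∀ x, (swap x (t x)).IsSwap := fun x => ⟨x, t x, (htf x).symm, rfl⟩
  by_cases hst : s = t
  · rw [hst]
  have key : ∀ u, s u ≠ t u := by
    intro u huu
    apply hst
    ext x
    have h1 := hsr u
    have h2 := htr u
    rw [← huu] at h2
    have hστ : rel X σ τ := rel_trans no3 hσ (hsw u) hτ h1 (rel_symm h2)
    have h3 : rel X (swap x (s x)) (swap x (t x)) :=
      rel_trans no3 (hsw x) hσ (htw x) (rel_symm (hsr x))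
        (rel_trans no3 hσ hτ (htw x) hστ (htr x))
    rcases h3 with h | ⟨hd, _⟩
    · have := congrArg (fun f : Perm D => f x) h
      simpa using this
    · exfalso
      rcases hd x with h | h
      · rw [swap_apply_left] at h; exact hsf x h
      · rw [swap_apply_left] at h; exact htf x h
  refine comm_of_P hcard s t hs ht hsf htf key ?_
  intro u x y hxu hxsu hyu hytu
  by_contra hcon
  push Not at hcon
  obtain ⟨c1, c2, c3, c4, c5, c6, c7, c8⟩ := hcon
  have husx : u ≠ s x := fun h => hxsu (by rw [h, hss])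
  have huty : u ≠ t y := fun h => hytu (by rw [h, htt])
  have h1 : swap u (s u) * swap x (s x) ∈ X := by
    have := rel_trans no3 (hsw u) hσ (hsw x) (rel_symm (hsr u)) (hsr x)
    rcases this with h | h
    · exfalso
      have h' := congrArg (fun f : Perm D => f u) h
      simp only [swap_apply_left] at h'
      rw [swap_apply_of_ne_of_ne (Ne.symm hxu) husx] at h'
      exact hsf u h'
    · exact h.2
  have h2 : swap u (t u) * swap y (t y) ∈ X := by
    have := rel_trans no3 (htw u) hτ (htw y) (rel_symm (htr u)) (htr y)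
    rcases this with h | h
    · exfalso
      have h' := congrArg (fun f : Perm D => f u) h
      simp only [swap_apply_left] at h'
      rw [swap_apply_of_ne_of_ne (Ne.symm hyu) huty] at h'
      exact htf u h'
    · exact h.2
  refine key42 no3 (u := u) (v := s u) (b := x) (c := s x) (w := t u) (e := y) (f := t y) ?_ h1 h2
  simp only [List.nodup_cons, List.mem_cons, List.not_mem_nil, or_false, not_or, List.nodup_nil,
    and_true, not_false_eq_true]
  refine ⟨⟨(hsf u).symm, Ne.symm hxu, husx, (htf u).symm, Ne.symm hyu, huty⟩,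
    ⟨Ne.symm hxsu, fun h => hxu (s.injective h).symm, key u, c3, c4⟩,
    ⟨(hsf x).symm, Ne.symm c1, c5, c6⟩, ⟨Ne.symm c2, c7, c8⟩,
    ⟨Ne.symm hytu, fun h => hyu (t.injective h).symm⟩, (htf y).symm⟩

/-- U4f3. -/
theorem exists_M {X : Subgroup (Perm D)} {a0 a1 a2 a3 : D} (h : S4 X a0 a1 a2 a3)
    (hc8 : Fintype.card D = 8) (hc4 : ∀ σ : Perm D, σ.IsSwap → (cls X σ).card = 4) :
    ∃ M : Subgroup (Perm D), M ≤ X ∧ (∀ s ∈ M, ∀ t ∈ M, s * t = t * s) ∧
      (∀ x ∈ X, ∀ t ∈ M, x * t * x⁻¹ ∈ M) ∧ ∀ u v : D, ∃ t ∈ M, t u = v := by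
  -- the set of class involutions
  let T : Set (Perm D) := {g | g ∈ X ∧ g * g = 1 ∧ (∀ x, g x ≠ x) ∧
    ∃ σ : Perm D, σ.IsSwap ∧ ∀ x, rel X σ (swap x (g x))}
  have hTcomm : ∀ s ∈ T, ∀ t ∈ T, s * t = t * s := by
    rintro s ⟨_, hs, hsf, σ, hσ, hsr⟩ t ⟨_, ht, htf, τ, hτ, htr⟩
    exact tC_comm h.no3 (by omega) hs ht hsf htf hσ hτ hsr htr
  refine ⟨Subgroup.closure T, ?_, ?_, ?_, ?_⟩
  · rw [Subgroup.closure_le]
    intro g hg
    exact hg.1
  · -- abelian
    have step1 : ∀ s ∈ T, ∀ t ∈ Subgroup.closure T, s * t = t * s := by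
      intro s hs t ht
      have hle : Subgroup.closure T ≤ Subgroup.centralizer {s} := by
        rw [Subgroup.closure_le]
        intro t' ht'
        rw [SetLike.mem_coe, Subgroup.mem_centralizer_iff]
        intro h' hh'
        rw [Set.mem_singleton_iff] at hh'
        subst hh'
        exact hTcomm _ hs t' ht'
      have := hle ht
      rw [Subgroup.mem_centralizer_iff] at this
      exact this s rfl
    intro s hs t ht
    have hle : Subgroup.closure T ≤ Subgroup.centralizer {t} := by
      rw [Subgroup.closure_le]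
      intro s' hs'
      rw [SetLike.mem_coe, Subgroup.mem_centralizer_iff]
      intro h' hh'
      rw [Set.mem_singleton_iff] at hh'
      subst hh'
      exact (step1 s' hs' _ ht).symm
    have := hle hs
    rw [Subgroup.mem_centralizer_iff] at this
    exact (this t rfl).symm
  · -- normalised by X
    intro x hx
    have hle : Subgroup.closure T ≤ (Subgroup.closure T).comap (MulAut.conj x).toMonoidHom := by
      rw [Subgroup.closure_le]
      rintro g ⟨hgX, hgg, hgf, σ, hσ, hgr⟩
      rw [SetLike.mem_coe, Subgroup.mem_comap]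
      apply Subgroup.subset_closure
      show x * g * x⁻¹ ∈ T
      refine ⟨X.mul_mem (X.mul_mem hx hgX) (X.inv_mem hx), ?_, ?_, x * σ * x⁻¹, ?_, ?_⟩
      · calc x * g * x⁻¹ * (x * g * x⁻¹) = x * (g * g) * x⁻¹ := by group
          _ = 1 := by rw [hgg]; group
      · intro y hy
        simp only [mul_apply] at hy
        apply hgf (x⁻¹ y)
        apply x.injective
        rw [hy]
        simp
      · obtain ⟨a, b, hab, rfl⟩ := hσ
        exact ⟨x a, x b, fun h => hab (x.injective h), (swap_apply_apply x a b).symm⟩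
      · intro y
        have := rel_conj hx (hgr (x⁻¹ y))
        rw [← swap_apply_apply] at this
        simpa [mul_apply] using this
    intro t ht
    have := hle ht
    rw [Subgroup.mem_comap] at this
    simpa using this
  · intro u v
    by_cases huv : u = v
    · exact ⟨1, Subgroup.one_mem _, by rw [huv]; rfl⟩
    · obtain ⟨g, hgX, hgg, hgf, hgr, hguv⟩ := exists_tC h hc8 hc4 huv
      exact ⟨g, Subgroup.subset_closure ⟨hgX, hgg, hgf, swap u v, ⟨u, v, huv, rfl⟩, hgr⟩, hguv⟩

end Cfsg.Agent.Lib.Helper3.ALT8
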