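import Mathlib
import Cfsg.Agent.Lib.Helper3.AOConst

set_option autoImplicit false
set_option maxHeartbeats 4000000
set_option maxRecDepth 100000
set_option linter.unusedVariables false
set_option linter.unusedSectionVars false
set_option linter.style.longLine false

universe u

namespace Cfsg.Agent.Lib.Helper3.AO

/-- the additive action of a subgroup of `MulAut V` on `Additive V`. -/
@[reducible] def addAct {V : Type u} [CommGroup V] (L : Subgroup (MulAut V)) :
    DistribMulAction ↥L (Additive V) where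
  smul φ a := Additive.ofMul ((φ : MulAut V) (Additive.toMul a))
  one_smul a := by
    show Additive.ofMul (((1 : ↥L) : MulAut V) (Additive.toMul a)) = a
    simp
  mul_smul φ ψ a := by
    show Additive.ofMul (((φ * ψ : ↥L) : MulAut V) (Additive.toMul a)) =
      Additive.ofMul ((φ : MulAut V) (Additive.toMul (Additive.ofMul ((ψ : MulAut V) (Additive.toMul a)))))
    simp [MulAut.mul_apply]
  smul_zero φ := by
    show Additive.ofMul ((φ : MulAut V) (Additive.toMul (0 : Additive V))) = 0
    simp
  smul_add φ a b := by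
    show Additive.ofMul ((φ : MulAut V) (Additive.toMul (a + b))) =
      Additive.ofMul ((φ : MulAut V) (Additive.toMul a)) + Additive.ofMul ((φ : MulAut V) (Additive.toMul b))
    simp

theorem addAct_smul_def {V : Type u} [CommGroup V] (L : Subgroup (MulAut V)) (φ : ↥L) (a : Additive V) :
    (letI := addAct L; φ • a) = Additive.ofMul ((φ : MulAut V) (Additive.toMul a)) := rfl

-- L1
theorem stab_trivial {V : Type u} [CommGroup V] [Finite V] {l : ℕ} [Fact l.Prime] (hl2 : l ≠ 2)
    (L : Subgroup (MulAut V)) (hL : IsPGroup l L) (hVl : (Nat.card V).Coprime l) (k : ℕ)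
    (hk : ∀ v : V, v ≠ 1 → Nat.card {φ : MulAut V // φ ∈ L ∧ φ v = v} = k)
    (hV : ∃ v : V, v ≠ 1) : k = 1 := by
  letI inst : DistribMulAction ↥L (Additive V) := addAct L
  have hsmul : ∀ (φ : ↥L) (a : Additive V), φ • a = Additive.ofMul ((φ : MulAut V) (Additive.toMul a)) :=
    fun φ a => rfl
  haveI : FaithfulSMul ↥L (Additive V) := by
    constructor
    intro φ ψ h
    apply Subtype.ext
    apply MulEquiv.ext
    intro v
    have := h (Additive.ofMul v)
    rw [hsmul, hsmul] at this
    simpa using this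
  have hpowinj : Function.Injective (fun x : V => x ^ l) := (powCoprime hVl).injective
  have hinj : ∀ x : Additive V, l • x = 0 → x = 0 := by
    intro x hx
    have h1 : (Additive.toMul x) ^ l = 1 := by
      have := congrArg Additive.toMul hx
      simpa using this
    have h2 : Additive.toMul x = 1 := by
      apply hpowinj
      simpa using h1
    simpa using congrArg Additive.ofMul h2
  have hstab : ∀ a : Additive V, a ≠ 0 → Nat.card (MulAction.stabilizer ↥L a) = k := by
    intro a ha
    have hv : Additive.toMul a ≠ 1 := by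
      intro h
      apply ha
      simpa using congrArg Additive.ofMul h
    rw [← hk _ hv]
    apply Nat.card_congr
    refine
      { toFun := fun φ => ⟨(φ.1 : MulAut V), φ.1.2, ?_⟩
        invFun := fun φ => ⟨⟨φ.1, φ.2.1⟩, ?_⟩
        left_inv := fun φ => rfl
        right_inv := fun φ => rfl }
    · have := MulAction.mem_stabilizer_iff.1 φ.2
      rw [hsmul] at this
      simpa using congrArg Additive.toMul this
    · rw [MulAction.mem_stabilizer_iff, hsmul]
      show Additive.ofMul (φ.1 (Additive.toMul a)) = a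
      rw [φ.2.2]
      simp
  have hconst : ∀ a b : Additive V, a ≠ 0 → b ≠ 0 →
      Nat.card (MulAction.stabilizer ↥L a) = Nat.card (MulAction.stabilizer ↥L b) := by
    intro a b ha hb
    rw [hstab a ha, hstab b hb]
  have hsemi := Cfsg.Agent.Lib.Helper3.AOC.semireg_of_const (P := ↥L) (E := Additive V) hl2 hL hinj hconst
  obtain ⟨v, hv⟩ := hV
  rw [← hk v hv]
  rw [Nat.card_eq_one_iff_unique]
  refine ⟨⟨?_⟩, ⟨⟨1, L.one_mem, rfl⟩⟩⟩
  intro φ ψ
  have key : ∀ χ : {φ : MulAut V // φ ∈ L ∧ φ v = v}, χ.1 = 1 := by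
    intro χ
    by_contra hne
    have hne' : (⟨χ.1, χ.2.1⟩ : ↥L) ≠ 1 := by
      intro h
      apply hne
      exact congrArg Subtype.val h
    have := hsemi ⟨χ.1, χ.2.1⟩ hne' (Additive.ofMul v) (by
      rw [hsmul]
      show Additive.ofMul (χ.1 (Additive.toMul (Additive.ofMul v))) = Additive.ofMul v
      simp [χ.2.2])
    apply hv
    simpa using congrArg Additive.toMul this
  apply Subtype.ext
  rw [key φ, key ψ]

-- L1c
theorem stab_noncyclic {V : Type u} [CommGroup V] [Finite V] {l : ℕ} [Fact l.Prime] (hl2 : l ≠ 2)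
    (L : Subgroup (MulAut V)) (hL : IsPGroup l L) (hVl : (Nat.card V).Coprime l) (k : ℕ)
    (hk : ∀ v : V, v ≠ 1 → Nat.card {φ : MulAut V // φ ∈ L ∧ φ v = v} = k)
    (hV : ∃ v : V, v ≠ 1)
    (B : Subgroup (MulAut V)) (hBL : B ≤ L) (hBn : ∀ φ ∈ L, ∀ b ∈ B, φ * b * φ⁻¹ ∈ B)
    (hBab : ∀ a ∈ B, ∀ b ∈ B, a * b = b * a) (hBexp : ∀ b ∈ B, b ^ l = 1)
    (hBcard : Nat.card B = l ^ 2) : k = 1 :=
  stab_trivial hl2 L hL hVl k hk hV

end Cfsg.Agent.Lib.Helper3.AO
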