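import Mathlib
import Cfsg.Agent.Lib.Helper3.AOL1

set_option autoImplicit false
set_option maxHeartbeats 4000000
set_option maxRecDepth 100000
set_option linter.unusedVariables false
set_option linter.unusedSectionVars false
set_option linter.style.longLine false

universe u

namespace Cfsg.Agent.Lib.Helper3.AO

theorem card_map_mul_card_ker {A B : Type*} [Group A] [Group B] [Finite A] (f : A →* B) (H : Subgroup A)
    (hle : f.ker ≤ H) : Nat.card (H.map f) * Nat.card f.ker = Nat.card H := by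
  have h1 : (f.comp H.subtype).range = H.map f := by
    rw [MonoidHom.range_comp, Subgroup.range_subtype]
  have h2 : (f.comp H.subtype).ker = f.ker.subgroupOf H := by
    ext x
    simp [MonoidHom.mem_ker, Subgroup.mem_subgroupOf]
  have h3 := Subgroup.card_mul_index (f.comp H.subtype).ker
  rw [Subgroup.index_ker, h1, h2] at h3
  have h4 : Nat.card (f.ker.subgroupOf H) = Nat.card f.ker :=
    Nat.card_congr (Subgroup.subgroupOfEquivOfLe hle).toEquiv
  rw [h4] at h3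
  rw [mul_comm]; exact h3

variable {G : Type u} [Group G] [Finite G]

/-- conjugation action of `Q` on the normalized subgroup `V`. -/
def conjHom (Q V : Subgroup G) (hnorm : ∀ w ∈ Q, ∀ v ∈ V, w * v * w⁻¹ ∈ V) : ↥Q →* MulAut ↥V where
  toFun w :=
    { toFun := fun v => ⟨(w : G) * v * (w : G)⁻¹, hnorm w w.2 v v.2⟩
      invFun := fun v => ⟨(w : G)⁻¹ * v * (w : G), by
        have := hnorm (w : G)⁻¹ (Q.inv_mem w.2) v v.2
        simpa using this⟩
      left_inv := fun v => by apply Subtype.ext; simp [mul_assoc]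
      right_inv := fun v => by apply Subtype.ext; simp [mul_assoc]
      map_mul' := fun a b => by apply Subtype.ext; simp [mul_assoc] }
  map_one' := by
    apply MulEquiv.ext
    intro v
    apply Subtype.ext
    simp
  map_mul' := fun a b => by
    apply MulEquiv.ext
    intro v
    apply Subtype.ext
    simp [MulAut.mul_apply, mul_assoc]

theorem conjHom_apply (Q V : Subgroup G) (hnorm : ∀ w ∈ Q, ∀ v ∈ V, w * v * w⁻¹ ∈ V) (w : ↥Q) (v : ↥V) :
    ((conjHom Q V hnorm w) v : G) = (w : G) * v * (w : G)⁻¹ := rfl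

-- L2 (the lemma on equal stabilizers, inside `G`)
theorem stab_eq_ker {l : ℕ} [Fact l.Prime] (hl2 : l ≠ 2) (Q V : Subgroup G) (hQ : IsPGroup l Q)
    (hVab : ∀ a ∈ V, ∀ b ∈ V, a * b = b * a) (hVl : (Nat.card V).Coprime l)
    (hnorm : ∀ w ∈ Q, ∀ v ∈ V, w * v * w⁻¹ ∈ V) (k : ℕ)
    (hk : ∀ v ∈ V, v ≠ 1 → Nat.card {w : G // w ∈ Q ∧ w * v = v * w} = k) :
    ∀ v ∈ V, v ≠ 1 → ∀ w ∈ Q, w * v = v * w → ∀ v' ∈ V, w * v' = v' * w := by
  intro v hv hv1 w hw hwv v' hv'
  letI instC : CommGroup ↥V :=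
    { (inferInstance : Group ↥V) with
      mul_comm := fun a b => Subtype.ext (hVab a a.2 b b.2) }
  set ρ : ↥Q →* MulAut ↥V := conjHom Q V hnorm with hρ
  set L : Subgroup (MulAut ↥V) := ρ.range with hLdef
  have hL : IsPGroup l L := IsPGroup.of_surjective hQ ρ.rangeRestrict ρ.rangeRestrict_surjective
  set K : Subgroup ↥Q := ρ.ker with hK
  have hKpos : 0 < Nat.card K := Nat.card_pos
  -- the stabilizer subgroups
  let C : ↥V → Subgroup ↥Q := fun u => (Subgroup.centralizer ({(u : G)} : Set G)).subgroupOf Q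
  have hCmem : ∀ (u : ↥V) (x : ↥Q), x ∈ C u ↔ (x : G) * u = u * x := by
    intro u x
    show (x : G) ∈ Subgroup.centralizer ({(u : G)} : Set G) ↔ _
    rw [Subgroup.mem_centralizer_singleton_iff]
  have hCcard : ∀ u : ↥V, u ≠ 1 → Nat.card (C u) = k := by
    intro u hu
    have hu' : (u : G) ≠ 1 := fun h => hu (Subtype.ext h)
    rw [← hk u u.2 hu']
    apply Nat.card_congr
    exact
      { toFun := fun x => ⟨(x.1 : G), x.1.2, (hCmem u x.1).1 x.2⟩
        invFun := fun y => ⟨⟨y.1, y.2.1⟩, (hCmem u ⟨y.1, y.2.1⟩).2 y.2.2⟩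
        left_inv := fun x => rfl
        right_inv := fun y => rfl }
  have hKle : ∀ u : ↥V, K ≤ C u := by
    intro u x hx
    rw [hCmem]
    have h1 : ρ x = 1 := hx
    have h2 : ((ρ x) u : G) = u := by rw [h1]; rfl
    rw [hρ, conjHom_apply] at h2
    calc (x : G) * u = ((x : G) * u * (x : G)⁻¹) * x := by group
      _ = u * x := by rw [h2]
  -- the image stabilizers
  have hSeq : ∀ u : ↥V, {φ : MulAut ↥V | φ ∈ L ∧ φ u = u} = ((C u).map ρ : Set (MulAut ↥V)) := by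
    intro u
    ext φ
    constructor
    · rintro ⟨⟨x, rfl⟩, hfix⟩
      refine ⟨x, ?_, rfl⟩
      show x ∈ C u
      rw [hCmem]
      have h2 : ((ρ x) u : G) = u := congrArg Subtype.val hfix
      rw [hρ, conjHom_apply] at h2
      calc (x : G) * u = ((x : G) * u * (x : G)⁻¹) * x := by group
        _ = u * x := by rw [h2]
    · rintro ⟨x, hx, rfl⟩
      refine ⟨⟨x, rfl⟩, ?_⟩
      apply Subtype.ext
      rw [hρ, conjHom_apply]
      have := (hCmem u x).1 hx
      rw [this]; group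
  have hScard : ∀ u : ↥V, u ≠ 1 →
      Nat.card {φ : MulAut ↥V // φ ∈ L ∧ φ u = u} = k / Nat.card K := by
    intro u hu
    have h1 : Nat.card {φ : MulAut ↥V // φ ∈ L ∧ φ u = u} = Nat.card ((C u).map ρ) := by
      have := hSeq u
      exact Nat.card_congr (Equiv.setCongr this)
    rw [h1]
    have h2 := card_map_mul_card_ker ρ (C u) (hKle u)
    rw [hCcard u hu] at h2
    exact (Nat.div_eq_of_eq_mul_left hKpos h2.symm).symm
  have hVne : ∃ u : ↥V, u ≠ 1 := ⟨⟨v, hv⟩, fun h => hv1 (congrArg Subtype.val h)⟩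
  have hVl' : (Nat.card ↥V).Coprime l := hVl
  have hone := stab_trivial (V := ↥V) hl2 L hL hVl' (k / Nat.card K) hScard hVne
  -- conclusion
  have hu1 : (⟨v, hv⟩ : ↥V) ≠ 1 := fun h => hv1 (congrArg Subtype.val h)
  have hcard1 := hScard ⟨v, hv⟩ hu1
  rw [hone] at hcard1
  have hmem : ρ ⟨w, hw⟩ ∈ L ∧ (ρ ⟨w, hw⟩) ⟨v, hv⟩ = ⟨v, hv⟩ := by
    refine ⟨⟨⟨w, hw⟩, rfl⟩, ?_⟩
    apply Subtype.ext
    rw [hρ, conjHom_apply]
    show w * v * w⁻¹ = v
    rw [hwv]; group
  have h1mem : (1 : MulAut ↥V) ∈ L ∧ (1 : MulAut ↥V) ⟨v, hv⟩ = ⟨v, hv⟩ := ⟨L.one_mem, rfl⟩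
  have hsub : Subsingleton {φ : MulAut ↥V // φ ∈ L ∧ φ ⟨v, hv⟩ = ⟨v, hv⟩} := by
    have := Nat.card_eq_one_iff_unique.1 hcard1
    exact this.1
  have heq : (⟨ρ ⟨w, hw⟩, hmem⟩ : {φ : MulAut ↥V // φ ∈ L ∧ φ ⟨v, hv⟩ = ⟨v, hv⟩}) = ⟨1, h1mem⟩ :=
    Subsingleton.elim _ _
  have hρw : ρ ⟨w, hw⟩ = 1 := congrArg Subtype.val heq
  have h2 : ((ρ ⟨w, hw⟩) ⟨v', hv'⟩ : G) = v' := by rw [hρw]; rfl
  rw [hρ, conjHom_apply] at h2
  calc w * v' = (w * v' * w⁻¹) * w := by group
    _ = v' * w := by rw [h2]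

end Cfsg.Agent.Lib.Helper3.AO
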