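import Mathlib
import Cfsg.Agent.Lib.Helper6.APFDefs

set_option autoImplicit false
set_option maxHeartbeats 4000000
set_option maxRecDepth 100000
set_option linter.unusedVariables false
set_option linter.unusedSectionVars false
set_option linter.style.longLine false

open Equiv Equiv.Perm
open Cfsg.Agent.Lib.Helper6.APF

namespace Cfsg.Agent.Lib.Helper3.APF

theorem swap_comm_formPerm {Ω : Type*} [DecidableEq Ω] (b x : Ω) (l : List Ω) (hb : b ∉ l) (hx : x ∉ l) :
    swap b x * l.formPerm = l.formPerm * swap b x := by
  have h := Equiv.swap_apply_apply l.formPerm b x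
  rw [List.formPerm_apply_of_notMem hb, List.formPerm_apply_of_notMem hx] at h
  calc swap b x * l.formPerm = (l.formPerm * swap b x * l.formPerm⁻¹) * l.formPerm := by rw [← h]
    _ = l.formPerm * swap b x := by group

theorem swap_mul_swap_eq {Ω : Type*} [DecidableEq Ω] (b x y : Ω) (hbx : b ≠ x) (hyb : y ≠ b) (hyx : y ≠ x) :
    swap b x * swap x y = swap b y * swap b x := by
  have h := Equiv.swap_apply_apply (swap b x) x y
  rw [Equiv.swap_apply_right, Equiv.swap_apply_of_ne_of_ne hyb hyx, Equiv.swap_inv] at h
  rw [h]
  have : swap b x * swap b x = 1 := Equiv.swap_mul_self b x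
  calc swap b x * swap x y = swap b x * swap x y * (swap b x * swap b x) := by rw [this, mul_one]
    _ = swap b x * swap x y * swap b x * swap b x := by group

theorem formPerm_cons_cons_eq {Ω : Type*} [DecidableEq Ω] (b x : Ω) (post : List Ω) (hbx : b ≠ x)
    (hb : b ∉ post) (hx : x ∉ post) :
    (b :: x :: post).formPerm = (b :: post).formPerm * swap b x := by
  cases post with
  | nil => simp
  | cons y post' =>
    rw [List.formPerm_cons_cons, List.formPerm_cons_cons, List.formPerm_cons_cons]
    rw [mul_assoc (swap b y), ← swap_comm_formPerm b x (y :: post') hb hx, ← mul_assoc, ← mul_assoc]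
    congr 1
    apply swap_mul_swap_eq b x y hbx
    · intro h; exact hb (by simp [h])
    · intro h; exact hx (by simp [h])

theorem formPerm_cons_append {Ω : Type*} [DecidableEq Ω] (bs post : List Ω) :
    ∀ (b : Ω), (b :: (bs ++ post)).Nodup →
      (b :: (bs ++ post)).formPerm = (b :: post).formPerm * (b :: bs).formPerm := by
  induction bs with
  | nil => intro b h; simp
  | cons x bs' ih =>
    intro b h
    have hnd : (x :: (bs' ++ post)).Nodup := (List.nodup_cons.mp h).2
    have hbmem : b ∉ x :: (bs' ++ post) := (List.nodup_cons.mp h).1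
    have hxmem : x ∉ bs' ++ post := (List.nodup_cons.mp hnd).1
    have hbx : b ≠ x := by intro e; exact hbmem (by simp [e])
    have hb : b ∉ post := by intro e; exact hbmem (by simp [e])
    have hx : x ∉ post := by intro e; exact hxmem (by simp [e])
    rw [List.cons_append, List.formPerm_cons_cons, ih x hnd, List.formPerm_cons_cons]
    rw [← mul_assoc, ← mul_assoc]
    congr 1
    rw [← List.formPerm_cons_cons, formPerm_cons_cons_eq b x post hbx hb hx]

theorem formPerm_append_cons_append {Ω : Type*} [DecidableEq Ω] (pre : List Ω) (b : Ω) (bs post : List Ω) (h : (pre ++ (b :: bs) ++ post).Nodup) :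
    (pre ++ (b :: bs) ++ post).formPerm = (pre ++ (b :: post)).formPerm * (b :: bs).formPerm := by
  induction pre with
  | nil =>
    have h' : (b :: (bs ++ post)).Nodup := by simpa using h
    simpa using formPerm_cons_append bs post b h'
  | cons x pre' ih =>
    have hnd : (pre' ++ (b :: bs) ++ post).Nodup := by
      have : (x :: (pre' ++ (b :: bs) ++ post)).Nodup := by simpa using h
      exact (List.nodup_cons.mp this).2
    have ih' := ih hnd
    cases pre' with
    | nil =>
      simp only [List.cons_append, List.nil_append, List.formPerm_cons_cons] at ih' ⊢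
      rw [mul_assoc]
      congr 1
    | cons y pre'' =>
      simp only [List.cons_append, List.formPerm_cons_cons] at ih' ⊢
      rw [mul_assoc]
      congr 1

end Cfsg.Agent.Lib.Helper3.APF
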