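import Mathlib
import Cfsg.Agent.Lib.Helper6.APFDefs
import Cfsg.Agent.Lib.Helper3.APFLF

set_option autoImplicit false
set_option maxHeartbeats 4000000
set_option maxRecDepth 100000
set_option linter.unusedVariables false
set_option linter.unusedSectionVars false
set_option linter.style.longLine false

open Equiv Equiv.Perm
open Cfsg.Agent.Lib.Helper6.APF

namespace Cfsg.Agent.Lib.Helper3.APF

theorem cycleType_formPerm_list {Ω : Type*} [DecidableEq Ω] [Fintype Ω] (l : List Ω) (hl : l.Nodup) (hn : 2 ≤ l.length) :
    l.formPerm.cycleType = {l.length} := by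
  have hc : l.formPerm.IsCycle := List.isCycle_formPerm hl hn
  rw [hc.cycleType]
  have hne : ∀ x : Ω, l ≠ [x] := by
    intro x hx
    rw [hx] at hn
    simp at hn
  rw [List.support_formPerm_of_nodup l hl hne, List.toFinset_card_of_nodup hl]

theorem exists_factor_of_chunks {Ω : Type*} [DecidableEq Ω] [Fintype Ω] (β : List ℕ) (hβ : ∀ b ∈ β, 2 ≤ b) (pre L : List Ω) (hnd : (pre ++ L).Nodup) (hsum : β.sum ≤ L.length) :
    ∃ (v₀ : Perm Ω) (K : List Ω), (pre ++ L).formPerm = (pre ++ K).formPerm * v₀ ∧ v₀.cycleType = (β : Multiset ℕ) ∧ K.Sublist L ∧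
      K.length + (β.map (fun b => b - 1)).sum = L.length ∧ (∀ x, x ∉ L → v₀ x = x) := by
  induction β generalizing pre L with
  | nil =>
    refine ⟨1, L, by simp, by simp, List.Sublist.refl L, by simp, fun x _ => rfl⟩
  | cons b β' ih =>
    have hb2 : 2 ≤ b := hβ b (by simp)
    have hβ' : ∀ b ∈ β', 2 ≤ b := fun x hx => hβ x (by simp [hx])
    have hsum' : b + β'.sum ≤ L.length := by simpa using hsum
    have hbL : b ≤ L.length := by omega
    have htake_len : (L.take b).length = b := by simp [hbL]
    have hdrop_len : (L.drop b).length = L.length - b := by simp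
    obtain ⟨c₁, cs, hcs⟩ : ∃ c₁ cs, L.take b = c₁ :: cs := by
      cases h : L.take b with
      | nil => rw [h] at htake_len; simp at htake_len; omega
      | cons c₁ cs => exact ⟨c₁, cs, rfl⟩
    have hcs_len : cs.length = b - 1 := by
      have := htake_len
      rw [hcs] at this
      simp at this
      omega
    set R := L.drop b with hR
    have hL : L = (c₁ :: cs) ++ R := by
      rw [← hcs, hR, List.take_append_drop]
    have hndL : L.Nodup := (List.nodup_append.mp hnd).2.1
    have hnd1 : (pre ++ (c₁ :: cs) ++ R).Nodup := by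
      rw [List.append_assoc, ← hL]; exact hnd
    have hLF := formPerm_append_cons_append pre c₁ cs R hnd1
    -- IH
    have hnd2 : ((pre ++ [c₁]) ++ R).Nodup := by
      have hsub : ((pre ++ [c₁]) ++ R).Sublist (pre ++ (c₁ :: cs) ++ R) := by
        apply List.Sublist.append _ (List.Sublist.refl R)
        apply List.Sublist.append (List.Sublist.refl pre)
        simp
      exact hnd1.sublist hsub
    have hsumR : β'.sum ≤ R.length := by rw [hR, hdrop_len]; omega
    obtain ⟨v₀', K', hfac, hct, hsub, hlen, hfix⟩ := ih hβ' (pre ++ [c₁]) R hnd2 hsumR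
    set ζ : Perm Ω := (c₁ :: cs).formPerm with hζ
    have hndc : (c₁ :: cs).Nodup := by
      rw [hL] at hndL
      exact (List.nodup_append.mp hndL).1
    have hlenc : (c₁ :: cs).length = b := by simp [hcs_len]; omega
    have hdisj : Perm.Disjoint v₀' ζ := by
      intro x
      by_cases hx : x ∈ R
      · right
        apply List.formPerm_apply_of_notMem
        intro hx'
        rw [hL] at hndL
        exact (List.disjoint_of_nodup_append hndL) hx' hx
      · left
        exact hfix x hx
    refine ⟨v₀' * ζ, c₁ :: K', ?_, ?_, ?_, ?_, ?_⟩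
    · calc (pre ++ L).formPerm = (pre ++ (c₁ :: cs) ++ R).formPerm := by rw [List.append_assoc, ← hL]
        _ = (pre ++ (c₁ :: R)).formPerm * ζ := hLF
        _ = ((pre ++ [c₁]) ++ R).formPerm * ζ := by simp
        _ = ((pre ++ [c₁]) ++ K').formPerm * v₀' * ζ := by rw [hfac]
        _ = (pre ++ c₁ :: K').formPerm * (v₀' * ζ) := by simp [mul_assoc]
    · rw [hdisj.cycleType_mul, hct, hζ, cycleType_formPerm_list _ hndc (by omega), hlenc]
      rw [← Multiset.cons_coe, add_comm, Multiset.singleton_add]
    · rw [hL]
      exact List.Sublist.cons_cons c₁ (List.sublist_append_of_sublist_right hsub)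
    · simp only [List.length_cons, List.map_cons, List.sum_cons]
      rw [hR, hdrop_len] at hlen
      omega
    · intro x hx
      have hxR : x ∉ R := by
        intro h; apply hx; rw [hL]; exact List.mem_append_right _ h
      have hxc : x ∉ c₁ :: cs := by
        intro h; apply hx; rw [hL]; exact List.mem_append_left _ h
      rw [Perm.mul_apply, hζ, List.formPerm_apply_of_notMem hxc, hfix x hxR]

end Cfsg.Agent.Lib.Helper3.APF
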