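import Mathlib
import Cfsg.Agent.Lib.Helper6.APFDefs

set_option autoImplicit false
set_option maxHeartbeats 4000000
set_option maxRecDepth 100000
set_option linter.unusedVariables false
set_option linter.unusedSectionVars false
set_option linter.style.longLine false

open Equiv Equiv.Perm
open Cfsg.Agent.Lib.Helper6.APF

namespace Cfsg.Agent.Lib.Helper3.APF

theorem pow_odd_of_sq {G : Type*} [Group G] (t : G) (ht : t * t = 1) (k : ℕ) (hk : Odd k) : t ^ k = t := by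
  obtain ⟨j, rfl⟩ := hk
  rw [pow_succ, pow_mul, pow_two, ht, one_pow, one_mul]

theorem core_mech {Ω : Type*} [DecidableEq Ω] [Fintype Ω] (p : ℕ) (hp : p.Prime) (hp2 : p ≠ 2) (c κ v₀ : Perm Ω) (hc : c = κ * v₀) (k : ℕ) (hk : Odd k) (hκ : κ ^ k = 1)
    (a b : Ω) (hab : a ≠ b) (h1 : v₀ a ≠ a) (h2 : v₀ a ≠ b) (h3 : v₀ b ≠ a) (h4 : v₀ b ≠ b)
    (hκa : κ a = a) (hκb : κ b = b) (hκa' : κ (v₀ a) = v₀ a) (hκb' : κ (v₀ b) = v₀ b) :
    c * (swap a b * v₀⁻¹ * swap a b) = κ * (swap a b * swap (v₀ a) (v₀ b)) ∧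
    (¬ ∃ e : ℕ, orderOf (c * (swap a b * v₀⁻¹ * swap a b)) = p ^ e) ∧
    swap a b * swap (v₀ a) (v₀ b) ∈ Subgroup.closure ({c, swap a b * v₀⁻¹ * swap a b} : Set (Perm Ω)) := by
  set θ : Perm Ω := swap a b with hθ
  set θ' : Perm Ω := swap (v₀ a) (v₀ b) with hθ'
  have hθ'eq : θ' = v₀ * θ * v₀⁻¹ := Equiv.swap_apply_apply v₀ a b
  have hθθ : θ * θ = 1 := Equiv.swap_mul_self a b
  have hθ'θ' : θ' * θ' = 1 := Equiv.swap_mul_self _ _
  -- θ' fixes a, b
  have hθ'a : θ' a = a := Equiv.swap_apply_of_ne_of_ne (Ne.symm h1) (Ne.symm h3)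
  have hθ'b : θ' b = b := Equiv.swap_apply_of_ne_of_ne (Ne.symm h2) (Ne.symm h4)
  have hcomm : θ' * θ = θ * θ' := by
    have h := Equiv.swap_apply_apply θ' a b
    rw [hθ'a, hθ'b] at h
    -- h : swap a b = θ' * swap a b * θ'⁻¹
    have h' : θ = θ' * θ * θ'⁻¹ := h
    calc θ' * θ = (θ' * θ * θ'⁻¹) * θ' := by group
      _ = θ * θ' := by rw [← h']
  have hκθ : κ * θ = θ * κ := by
    have h := Equiv.swap_apply_apply κ a b
    rw [hκa, hκb] at h
    have h' : θ = κ * θ * κ⁻¹ := h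
    calc κ * θ = (κ * θ * κ⁻¹) * κ := by group
      _ = θ * κ := by rw [← h']
  have hκθ' : κ * θ' = θ' * κ := by
    have h := Equiv.swap_apply_apply κ (v₀ a) (v₀ b)
    rw [hκa', hκb'] at h
    have h' : θ' = κ * θ' * κ⁻¹ := h
    calc κ * θ' = (κ * θ' * κ⁻¹) * κ := by group
      _ = θ' * κ := by rw [← h']
  set τ : Perm Ω := θ * θ' with hτ
  have hττ : τ * τ = 1 := by
    calc τ * τ = θ * (θ' * θ) * θ' := by rw [hτ]; group
      _ = θ * (θ * θ') * θ' := by rw [hcomm]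
      _ = (θ * θ) * (θ' * θ') := by group
      _ = 1 := by rw [hθθ, hθ'θ', one_mul]
  have hκτ : Commute κ τ := by
    show κ * τ = τ * κ
    calc κ * τ = (κ * θ) * θ' := by rw [hτ]; group
      _ = θ * (κ * θ') := by rw [hκθ]; group
      _ = τ * κ := by rw [hκθ', hτ]; group
  have hτa : τ a = b := by
    rw [hτ, Perm.mul_apply, hθ'a, hθ, Equiv.swap_apply_left]
  have hmain : c * (θ * v₀⁻¹ * θ) = κ * τ := by
    calc c * (θ * v₀⁻¹ * θ) = κ * (v₀ * θ * v₀⁻¹) * θ := by rw [hc]; group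
      _ = κ * (θ' * θ) := by rw [← hθ'eq]; group
      _ = κ * τ := by rw [hcomm]
  refine ⟨hmain, ?_, ?_⟩
  · rintro ⟨e, he⟩
    rw [hmain] at he
    have h1' : (κ * τ) ^ (p ^ e) = 1 := by rw [← he]; exact pow_orderOf_eq_one _
    rw [hκτ.mul_pow] at h1'
    have hodd : Odd (p ^ e) := Odd.pow (hp.odd_of_ne_two hp2)
    rw [pow_odd_of_sq τ hττ _ hodd] at h1'
    have hfix : ∀ n : ℕ, (κ ^ n) b = b := by
      intro n
      induction n with
      | zero => simp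
      | succ n ih => rw [pow_succ, Perm.mul_apply, hκb, ih]
    have : (κ ^ (p ^ e) * τ) a = a := by rw [h1']; rfl
    rw [Perm.mul_apply, hτa, hfix] at this
    exact hab this.symm
  · have hpow : (κ * τ) ^ k = τ := by
      rw [hκτ.mul_pow, hκ, one_mul, pow_odd_of_sq τ hττ k hk]
    have hmem : c * (θ * v₀⁻¹ * θ) ∈ Subgroup.closure ({c, θ * v₀⁻¹ * θ} : Set (Perm Ω)) :=
      Subgroup.mul_mem _ (Subgroup.subset_closure (by simp)) (Subgroup.subset_closure (by simp))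
    rw [hmain] at hmem
    have := Subgroup.pow_mem _ hmem k
    rw [hpow] at this
    exact this

end Cfsg.Agent.Lib.Helper3.APF
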