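import Mathlib
import Cfsg.Agent.Lib.Helper9.AbCb

set_option autoImplicit false
set_option maxHeartbeats 4000000
set_option maxRecDepth 100000
set_option linter.unusedVariables false
set_option linter.unusedSectionVars false
set_option linter.style.longLine false
set_option linter.style.haveILetI false
set_option linter.deprecated false

/-!
# S2202, pieces Z1a - Z1d (helper9's farm-out): the core is central, decomposition of the point
stabilizer, Bruhat decomposition, conjugates of `T` by an involution.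
-/

namespace Cfsg.Agent.Lib.Helper3.AbCZ

open Cfsg Cfsg.Agent.Lib.Lead Cfsg.Agent.Lib.Lead.SE Cfsg.Agent.Lib.Helper9.AbC

variable {G : Type*} [Group G] [Finite G] {T : Sylow 2 G}

local notation "HH" => Subgroup.normalizer ((T : Subgroup G) : Set G)
local notation "x₀" => ((1 : G) : G ⧸ Subgroup.normalizer ((T : Subgroup G) : Set G))

omit [Finite G] in
theorem mk_eq_smul (g : G) : ((g : G) : G ⧸ HH) = g • (x₀ : G ⧸ HH) := by
  rw [MulAction.Quotient.smul_mk, smul_eq_mul, mul_one]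

theorem exists_not_mem (h : Hyp T) : ∃ g : G, g ∉ HH := by
  by_contra hall
  push Not at hall
  apply h.nn
  apply Subgroup.normalizer_eq_top_iff.mp
  exact (Subgroup.eq_top_iff' _).mpr hall

theorem exists_invol_swap (h : Hyp T) {x y : G ⧸ HH} (hxy : x ≠ y) :
    ∃ v : G, orderOf v = 2 ∧ v • x = y := by
  obtain ⟨s, hsT, hs⟩ := h.exists_invol_mem
  have h1 := le_card_swap h.se hxy
  haveI : Nonempty {t : G // orderOf t = 2 ∧ t ∈ HH} := ⟨⟨s, hs, Subgroup.le_normalizer hsT⟩⟩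
  have h2 : 0 < Nat.card {t : G // orderOf t = 2 ∧ t ∈ HH} := Nat.card_pos
  have h3 : 0 < Nat.card {i : G // orderOf i = 2 ∧ i • x = y} := lt_of_lt_of_le h2 h1
  obtain ⟨⟨v, hv⟩⟩ := (Nat.card_pos_iff.mp h3).1
  exact ⟨v, hv.1, hv.2⟩

omit [Finite G] in
theorem invol_swap_back {v : G} (hv : orderOf v = 2) {x y : G ⧸ HH} (hvx : v • x = y) :
    v • y = x := by
  rw [← hvx, ← mul_smul, invol_mul_self hv, one_smul]

omit [Finite G] in
theorem inv_smul_of_smul {g : G} {x : G ⧸ HH} (hg : g • x = x) : g⁻¹ • x = x := by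
  conv_lhs => rw [← hg]
  rw [← mul_smul, inv_mul_cancel, one_smul]

/-- elements of the core fix every point -/
theorem core_smul (h : Hyp T) {n : G} (hn : n ∈ (HH).normalCore) (p : G ⧸ HH) : n • p = p := by
  induction p using QuotientGroup.induction_on with
  | H g =>
  rw [smul_mk_eq_iff]
  have h1 : g⁻¹ * n * g⁻¹⁻¹ ∈ (HH).normalCore :=
    (inferInstance : ((HH).normalCore).Normal).conj_mem n hn g⁻¹
  rw [inv_inv] at h1
  exact Subgroup.normalCore_le _ h1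

/-- decomposition of an element fixing two points `x`, `y = u • x` -/
theorem decomp (h : Hyp T) {x y : G ⧸ HH} (hxy : x ≠ y) {u : G} (hu : orderOf u = 2)
    (hux : u • x = y) {d : G} (hdx : d • x = x) (hdy : d • y = y) :
    ∃ b c : G, b • x = x ∧ b • y = y ∧ c • x = x ∧ c • y = y ∧ u * b * u⁻¹ = b⁻¹ ∧
      u * c * u⁻¹ = c ∧ d = b * c := by
  have huy : u • y = x := invol_swap_back hu hux
  have hui : u⁻¹ = u := invol_inv hu
  set D : Subgroup G := MulAction.stabilizer G x ⊓ MulAction.stabilizer G y with hD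
  have hmem : ∀ e : G, e ∈ D ↔ e • x = x ∧ e • y = y := by
    intro e
    rw [hD, Subgroup.mem_inf, MulAction.mem_stabilizer_iff, MulAction.mem_stabilizer_iff]
  have hn : ∀ e ∈ D, u * e * u⁻¹ ∈ D := by
    intro e he
    obtain ⟨hex, hey⟩ := (hmem e).mp he
    rw [hmem, hui]
    constructor
    · rw [mul_smul, mul_smul, hux, hey, huy]
    · rw [mul_smul, mul_smul, huy, hex, hux]
  have hodd : ∀ e ∈ D, Odd (orderOf e) := by
    intro e he
    obtain ⟨hex, hey⟩ := (hmem e).mp he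
    exact odd_orderOf_of_fix h.se hxy hex hey
  obtain ⟨b, hbD, c, hcD, hb, hc, hdbc⟩ :=
    exists_inv_mul_fix D hu hn hodd ((hmem d).mpr ⟨hdx, hdy⟩)
  obtain ⟨hbx, hby⟩ := (hmem b).mp hbD
  obtain ⟨hcx, hcy⟩ := (hmem c).mp hcD
  exact ⟨b, c, hbx, hby, hcx, hcy, hb, hc, hdbc⟩

/-- an element fixing two distinct points commutes with the core -/
theorem comm_core_of_fix_two (h : Hyp T) {n : G} (hn : n ∈ (HH).normalCore) {x y : G ⧸ HH}
    (hxy : x ≠ y) {d : G} (hdx : d • x = x) (hdy : d • y = y) : d * n = n * d := by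
  obtain ⟨u, hu, hux⟩ := exists_invol_swap h hxy
  obtain ⟨b, c, hbx, hby, hcx, hcy, hb, hc, hdbc⟩ := decomp h hxy hu hux hdx hdy
  have hui : u⁻¹ = u := invol_inv hu
  have huu : u * u = 1 := invol_mul_self hu
  have hnu : n * u = u * n := h.core_cent_invol hn hu
  have hcu : c * u = u * c := by
    have : u * c * u⁻¹ * u = c * u := by rw [hc]
    rw [← this]; group
  have hcn : c * n = n * c := h.ab u hu c n hcu hnu
  have hbn : b * n = n * b := by
    by_cases hb1 : b = 1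
    · rw [hb1, one_mul, mul_one]
    · set w := u * b with hw
      have hww : w * w = 1 := by
        have e1 : w * w = (u * b * u⁻¹) * (u * u) * b := by rw [hw]; group
        rw [e1, hb, huu, mul_one, inv_mul_cancel]
      have hw1 : w ≠ 1 := by
        intro h1
        have hbu : b = u := by
          have : b = u⁻¹ * w := by rw [hw]; group
          rw [this, h1, mul_one, hui]
        have hbo : Odd (orderOf b) := odd_orderOf_of_fix h.se hxy hbx hby
        rw [hbu, hu] at hbo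
        exact absurd hbo (by decide)
      have hwo : orderOf w = 2 := invol_of_mul_self hw1 hww
      have hnw : n * w = w * n := h.core_cent_invol hn hwo
      have hbw : b = u * w := by
        rw [hw, ← mul_assoc, huu, one_mul]
      -- n commutes with u and w, hence with b
      calc b * n = u * w * n := by rw [hbw]
        _ = u * (n * w) := by rw [mul_assoc, hnw]
        _ = (u * n) * w := by rw [mul_assoc]
        _ = (n * u) * w := by rw [hnu]
        _ = n * b := by rw [mul_assoc, ← hbw]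
  calc d * n = b * (c * n) := by rw [hdbc, mul_assoc]
    _ = b * (n * c) := by rw [hcn]
    _ = (b * n) * c := by rw [mul_assoc]
    _ = (n * b) * c := by rw [hbn]
    _ = n * d := by rw [mul_assoc, ← hdbc]

/-! ### Z1a -/

theorem core_central (h : Hyp T) (hc : Concl T) :
    ∀ n ∈ (HH).normalCore, ∀ g : G, g * n = n * g := by
  intro n hn
  obtain ⟨g₁, hg₁⟩ := exists_not_mem h
  have hy : g₁ • (x₀ : G ⧸ HH) ≠ x₀ := fun e => hg₁ ((Hyp.smul_base_iff (T := T) g₁).mp e)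
  set y := g₁ • (x₀ : G ⧸ HH) with hydef
  -- Step 2: elements of HH
  have step2 : ∀ g : G, g ∈ HH → g * n = n * g := by
    intro g hg
    have hgx : g • (x₀ : G ⧸ HH) = x₀ := (Hyp.smul_base_iff (T := T) g).mpr hg
    have hz : g • y ≠ x₀ := by
      intro e
      apply hy
      have : g • y = g • (x₀ : G ⧸ HH) := by rw [e, hgx]
      exact smul_left_cancel g this
    obtain ⟨t, ⟨htT, hty⟩, _⟩ := hc.reg y (g • y) hy hz
    have htH : t ∈ HH := Subgroup.le_normalizer htT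
    have htx : t • (x₀ : G ⧸ HH) = x₀ := (Hyp.smul_base_iff (T := T) t).mpr htH
    have hdx : (t⁻¹ * g) • (x₀ : G ⧸ HH) = x₀ := by
      rw [mul_smul, hgx]; exact inv_smul_of_smul htx
    have hdy : (t⁻¹ * g) • y = y := by
      rw [mul_smul, ← hty, ← mul_smul, inv_mul_cancel, one_smul]
    have h1 : (t⁻¹ * g) * n = n * (t⁻¹ * g) :=
      comm_core_of_fix_two h hn (Ne.symm hy) hdx hdy
    have h2 : n * t = t * n := h.core_cent hn htT
    calc g * n = t * ((t⁻¹ * g) * n) := by group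
      _ = t * (n * (t⁻¹ * g)) := by rw [h1]
      _ = (t * n) * (t⁻¹ * g) := by rw [mul_assoc]
      _ = (n * t) * (t⁻¹ * g) := by rw [h2]
      _ = n * g := by group
  intro g
  by_cases hg : g ∈ HH
  · exact step2 g hg
  · have hz : g • (x₀ : G ⧸ HH) ≠ x₀ := fun e => hg ((Hyp.smul_base_iff (T := T) g).mp e)
    obtain ⟨v, hv, hvx⟩ := exists_invol_swap h (Ne.symm hz)
    have hvz : v • (g • (x₀ : G ⧸ HH)) = x₀ := invol_swap_back hv hvx
    have hmem : v⁻¹ * g ∈ HH := by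
      rw [← Hyp.smul_base_iff (T := T), mul_smul, invol_inv hv, hvz]
    have h1 := step2 _ hmem
    have h2 : n * v = v * n := h.core_cent_invol hn hv
    calc g * n = v * ((v⁻¹ * g) * n) := by group
      _ = v * (n * (v⁻¹ * g)) := by rw [h1]
      _ = (v * n) * (v⁻¹ * g) := by rw [mul_assoc]
      _ = (n * v) * (v⁻¹ * g) := by rw [h2]
      _ = n * g := by group

/-! ### Z1b -/

theorem stab_decomp (h : Hyp T) (hc : Concl T) {u : G} (hu : orderOf u = 2) (huH : u ∉ HH)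
    {g : G} (hg : g ∈ HH) :
    ∃ t ∈ T, ∃ δ ∈ HH, ∃ n ∈ (HH).normalCore,
      δ • ((u : G) : G ⧸ HH) = ((u : G) : G ⧸ HH) ∧ u * δ * u⁻¹ = δ⁻¹ ∧ g = t * δ * n := by
  have hyu : ((u : G) : G ⧸ HH) = u • (x₀ : G ⧸ HH) := mk_eq_smul u
  set y := ((u : G) : G ⧸ HH) with hydef
  have hy : y ≠ x₀ := by
    rw [hyu]; exact fun e => huH ((Hyp.smul_base_iff (T := T) u).mp e)
  have hgx : g • (x₀ : G ⧸ HH) = x₀ := (Hyp.smul_base_iff (T := T) g).mpr hg
  have hz : g • y ≠ x₀ := by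
    intro e
    apply hy
    have : g • y = g • (x₀ : G ⧸ HH) := by rw [e, hgx]
    exact smul_left_cancel g this
  obtain ⟨t, ⟨htT, hty⟩, _⟩ := hc.reg y (g • y) hy hz
  have htH : t ∈ HH := Subgroup.le_normalizer htT
  have htx : t • (x₀ : G ⧸ HH) = x₀ := (Hyp.smul_base_iff (T := T) t).mpr htH
  have hdx : (t⁻¹ * g) • (x₀ : G ⧸ HH) = x₀ := by
    rw [mul_smul, hgx]; exact inv_smul_of_smul htx
  have hdy : (t⁻¹ * g) • y = y := by
    rw [mul_smul, ← hty, ← mul_smul, inv_mul_cancel, one_smul]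
  obtain ⟨δ, c, hδx, hδy, hcx, hcy, hδ, hcfix, hd⟩ :=
    decomp h (Ne.symm hy) hu hyu.symm hdx hdy
  -- c lies in the core
  have hco : Odd (orderOf c) := odd_orderOf_of_fix h.se (Ne.symm hy) hcx hcy
  have hcu : c * u = u * c := by
    have : u * c * u⁻¹ * u = c * u := by rw [hcfix]
    rw [← this]; group
  obtain ⟨a, ha⟩ := KleinSylow.conj_mem_sylow T u hu
  have hs1 : a * u * a⁻¹ ≠ 1 := by
    intro e
    have : orderOf (a * u * a⁻¹) = 2 := by rw [orderOf_conj_eq, hu]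
    rw [e, orderOf_one] at this
    omega
  have hcs : (a * c * a⁻¹) * (a * u * a⁻¹) = (a * u * a⁻¹) * (a * c * a⁻¹) := by
    have e1 : (a * c * a⁻¹) * (a * u * a⁻¹) = a * (c * u) * a⁻¹ := by group
    have e2 : (a * u * a⁻¹) * (a * c * a⁻¹) = a * (u * c) * a⁻¹ := by group
    rw [e1, e2, hcu]
  have hcT : ∀ t' ∈ T, (a * c * a⁻¹) * t' = t' * (a * c * a⁻¹) :=
    fun t' ht' => h.cent_of_comm ha hs1 hcs ht'
  have hcN' : a * c * a⁻¹ ∈ (HH).normalCore :=
    hc.core _ hcT (by rw [orderOf_conj_eq]; exact hco)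
  have hcN : c ∈ (HH).normalCore := by
    have h1 : a⁻¹ * (a * c * a⁻¹) * a⁻¹⁻¹ ∈ (HH).normalCore :=
      (inferInstance : ((HH).normalCore).Normal).conj_mem _ hcN' a⁻¹
    have e : a⁻¹ * (a * c * a⁻¹) * a⁻¹⁻¹ = c := by group
    rw [e] at h1
    exact h1
  refine ⟨t, htT, δ, (Hyp.smul_base_iff (T := T) δ).mp hδx, c, hcN, hδy, hδ, ?_⟩
  calc g = t * (t⁻¹ * g) := by group
    _ = t * (δ * c) := by rw [hd]
    _ = t * δ * c := by rw [mul_assoc]

/-! ### Z1c -/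

theorem bruhat (h : Hyp T) (hc : Concl T) {u : G} (hu : orderOf u = 2) (huH : u ∉ HH)
    {g : G} (hg : g ∉ HH) :
    ∃ b ∈ HH, ∃ t ∈ T, g = b * u * t ∧
      ∀ b' ∈ HH, ∀ t' ∈ T, g = b' * u * t' → b' = b ∧ t' = t := by
  have hui : u⁻¹ = u := invol_inv hu
  set y := u • (x₀ : G ⧸ HH) with hydef
  have hy : y ≠ x₀ := fun e => huH ((Hyp.smul_base_iff (T := T) u).mp e)
  have huy : u • y = x₀ := invol_swap_back hu hydef.symm
  set w := g⁻¹ • (x₀ : G ⧸ HH) with hwdef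
  have hw : w ≠ x₀ := by
    intro e
    apply hg
    have := (Hyp.smul_base_iff (T := T) g⁻¹).mp e
    exact (Subgroup.inv_mem_iff _).mp this
  obtain ⟨t, ⟨htT, htw⟩, htuniq⟩ := hc.reg w y hw hy
  have hbinv : (u * t * g⁻¹) ∈ HH := by
    rw [← Hyp.smul_base_iff (T := T), mul_smul, mul_smul, ← hwdef, htw, huy]
  have hb : g * t⁻¹ * u⁻¹ ∈ HH := by
    have e : g * t⁻¹ * u⁻¹ = (u * t * g⁻¹)⁻¹ := by group
    rw [e]; exact Subgroup.inv_mem _ hbinv
  refine ⟨g * t⁻¹ * u⁻¹, hb, t, htT, by group, ?_⟩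
  intro b' hb' t' ht' hgb
  have hb'x : b'⁻¹ • (x₀ : G ⧸ HH) = x₀ :=
    (Hyp.smul_base_iff (T := T) _).mpr (Subgroup.inv_mem _ hb')
  have hw' : w = t'⁻¹ • y := by
    have e : g⁻¹ = t'⁻¹ * u⁻¹ * b'⁻¹ := by rw [hgb]; group
    rw [hwdef, e, mul_smul, mul_smul, hb'x, hui]
  have ht'w : t' • w = y := by
    rw [hw', ← mul_smul, mul_inv_cancel, one_smul]
  have htt : t' = t := htuniq t' ⟨ht', ht'w⟩
  refine ⟨?_, htt⟩
  rw [← htt, hgb]; group

/-! ### Z1d -/

theorem conj_T (h : Hyp T) (hc : Concl T) {u : G} (hu : orderOf u = 2) (huH : u ∉ HH)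
    {t : G} (ht : t ∈ T) (ht1 : t ≠ 1) :
    ∃ t₂ ∈ T, ∃ δ ∈ HH, ∃ t₁ ∈ T,
      δ • ((u : G) : G ⧸ HH) = ((u : G) : G ⧸ HH) ∧ u * δ * u⁻¹ = δ⁻¹ ∧
      u * t * u⁻¹ = t₂ * δ * u * t₁ := by
  have hui : u⁻¹ = u := invol_inv hu
  have huu : u * u = 1 := invol_mul_self hu
  have hyu : ((u : G) : G ⧸ HH) = u • (x₀ : G ⧸ HH) := mk_eq_smul u
  have hy : u • (x₀ : G ⧸ HH) ≠ x₀ := fun e => huH ((Hyp.smul_base_iff (T := T) u).mp e)
  have htt : t * t = 1 := by rw [← pow_two]; exact hc.elem t ht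
  have hto : orderOf t = 2 := invol_of_mul_self ht1 htt
  set g := u * t * u⁻¹ with hgdef
  have hgo : orderOf g = 2 := by rw [hgdef, orderOf_conj_eq, hto]
  have hgg : g * g = 1 := invol_mul_self hgo
  have hgi : g⁻¹ = g := invol_inv hgo
  have htx : t • (x₀ : G ⧸ HH) = x₀ := (Hyp.smul_base_iff (T := T) t).mpr (Subgroup.le_normalizer ht)
  have hgy : g • (u • (x₀ : G ⧸ HH)) = u • (x₀ : G ⧸ HH) := by
    rw [hgdef, ← mul_smul]
    have e : u * t * u⁻¹ * u = u * t := by group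
    rw [e, mul_smul, htx]
  have hgH : g ∉ HH := by
    intro hgH
    have hgx : g • (x₀ : G ⧸ HH) = x₀ := (Hyp.smul_base_iff (T := T) g).mpr hgH
    have := odd_orderOf_of_fix h.se (Ne.symm hy) hgx hgy
    rw [hgo] at this
    exact absurd this (by decide)
  obtain ⟨b, hbH, t₁, ht₁, hgb, huniq⟩ := bruhat h hc hu huH hgH
  obtain ⟨t₂, ht₂, δ, hδH, n, hn, hδy, hδ, hbd⟩ := stab_decomp h hc hu huH hbH
  have hncen : ∀ a : G, a * n = n * a := core_central h hc n hn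
  have ht₁i : t₁⁻¹ = t₁ := by
    have : t₁ * t₁ = 1 := by rw [← pow_two]; exact hc.elem t₁ ht₁
    exact inv_eq_of_mul_eq_one_right this
  have ht₂i : t₂⁻¹ = t₂ := by
    have : t₂ * t₂ = 1 := by rw [← pow_two]; exact hc.elem t₂ ht₂
    exact inv_eq_of_mul_eq_one_right this
  have hδ' : u * δ⁻¹ * u⁻¹ = δ := by
    have : u * δ⁻¹ * u⁻¹ = (u * δ * u⁻¹)⁻¹ := by group
    rw [this, hδ, inv_inv]
  -- g = g⁻¹ = (t₁ δ n⁻¹) u t₂
  have hg2 : g = (t₁ * δ * n⁻¹) * u * t₂ := by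
    have e1 : g⁻¹ = t₁⁻¹ * u⁻¹ * n⁻¹ * δ⁻¹ * t₂⁻¹ := by
      rw [hgb, hbd]; group
    have e2 : u * n⁻¹ = n⁻¹ * u := by
      have := hncen u
      -- u * n = n * u ⟹ u * n⁻¹ = n⁻¹ * u
      calc u * n⁻¹ = n⁻¹ * (n * u) * n⁻¹ := by group
        _ = n⁻¹ * (u * n) * n⁻¹ := by rw [this]
        _ = n⁻¹ * u := by group
    have e3 : δ * n⁻¹ = n⁻¹ * δ := by
      have := hncen δ
      calc δ * n⁻¹ = n⁻¹ * (n * δ) * n⁻¹ := by group
        _ = n⁻¹ * (δ * n) * n⁻¹ := by rw [this]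
        _ = n⁻¹ * δ := by group
    calc g = g⁻¹ := hgi.symm
      _ = t₁ * u * n⁻¹ * δ⁻¹ * t₂ := by rw [e1, ht₁i, ht₂i, hui]
      _ = t₁ * (u * n⁻¹) * δ⁻¹ * t₂ := by group
      _ = t₁ * (n⁻¹ * u) * δ⁻¹ * t₂ := by rw [e2]
      _ = t₁ * n⁻¹ * (u * δ⁻¹ * u⁻¹) * u * t₂ := by group
      _ = t₁ * n⁻¹ * δ * u * t₂ := by rw [hδ']
      _ = t₁ * (n⁻¹ * δ) * u * t₂ := by group
      _ = t₁ * (δ * n⁻¹) * u * t₂ := by rw [e3]
      _ = (t₁ * δ * n⁻¹) * u * t₂ := by group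
  have hb'H : t₁ * δ * n⁻¹ ∈ HH :=
    Subgroup.mul_mem _ (Subgroup.mul_mem _ (Subgroup.le_normalizer ht₁) hδH)
      (Subgroup.inv_mem _ (Subgroup.normalCore_le _ hn))
  obtain ⟨hbb, htt'⟩ := huniq _ hb'H t₂ ht₂ hg2
  -- t₂ = t₁, t₁ δ n⁻¹ = t₂ δ n
  have hnn : n⁻¹ = n := by
    have e : t₁ * δ * n⁻¹ = t₁ * δ * n := by rw [hbb, hbd, htt']
    exact mul_left_cancel e
  have hn2 : n ^ 2 = 1 := by
    rw [pow_two]
    calc n * n = n⁻¹ * n := by rw [hnn]
      _ = 1 := inv_mul_cancel n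
  have hn1 : n = 1 := eq_one_of_odd_of_sq (h.core_odd hn) hn2
  refine ⟨t₂, ht₂, δ, hδH, t₁, ht₁, hδy, hδ, ?_⟩
  rw [hgb, hbd, hn1, mul_one]

end Cfsg.Agent.Lib.Helper3.AbCZ
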