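import Mathlib
import Cfsg.Agent.Lib.Helper3.AbCZ1

set_option autoImplicit false
set_option maxHeartbeats 4000000
set_option maxRecDepth 100000
set_option linter.unusedVariables false
set_option linter.unusedSectionVars false
set_option linter.style.longLine false
set_option linter.style.haveILetI false
set_option linter.deprecated false

/-!
# S2202, piece Z1e (helper9's farm-out): a complement to the core.
-/

namespace Cfsg.Agent.Lib.Helper3.AbCZ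

open Cfsg Cfsg.Agent.Lib.Lead Cfsg.Agent.Lib.Lead.SE Cfsg.Agent.Lib.Helper9.AbC

variable {G : Type*} [Group G] [Finite G] {T : Sylow 2 G}

local notation "HH" => Subgroup.normalizer ((T : Subgroup G) : Set G)
local notation "x₀" => ((1 : G) : G ⧸ Subgroup.normalizer ((T : Subgroup G) : Set G))

theorem exists_complement (h : Hyp T) (hc : Concl T) :
    (HH).normalCore ≤ Subgroup.center G ∧
    ∃ L : Subgroup G, (T : Subgroup G) ≤ L ∧ L ⊓ (HH).normalCore = ⊥ ∧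
      L ⊔ (HH).normalCore = ⊤ ∧ ¬ L ≤ HH := by
  have hcen : ∀ n ∈ (HH).normalCore, ∀ g : G, g * n = n * g := core_central h hc
  refine ⟨fun n hn => Subgroup.mem_center_iff.mpr (hcen n hn), ?_⟩
  -- an involution outside HH
  obtain ⟨g₁, hg₁⟩ := exists_not_mem h
  have hy₁ : g₁ • (x₀ : G ⧸ HH) ≠ x₀ := fun e => hg₁ ((Hyp.smul_base_iff (T := T) g₁).mp e)
  obtain ⟨u, hu, hux⟩ := exists_invol_swap h (Ne.symm hy₁)
  have huH : u ∉ HH := by
    intro e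
    apply hy₁
    rw [← hux]; exact (Hyp.smul_base_iff (T := T) u).mpr e
  have hui : u⁻¹ = u := invol_inv hu
  have huu : u * u = 1 := invol_mul_self hu
  have hyu : ((u : G) : G ⧸ HH) = u • (x₀ : G ⧸ HH) := mk_eq_smul u
  set y := ((u : G) : G ⧸ HH) with hydef
  have hy : y ≠ x₀ := by
    rw [hyu]; exact fun e => huH ((Hyp.smul_base_iff (T := T) u).mp e)
  have huy : u • y = x₀ := invol_swap_back hu hyu.symm
  have hTH : ∀ t : G, t ∈ T → t ∈ HH := fun t ht => Subgroup.le_normalizer ht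
  have hTx : ∀ t : G, t ∈ T → t • (x₀ : G ⧸ HH) = x₀ :=
    fun t ht => (Hyp.smul_base_iff (T := T) t).mpr (hTH t ht)
  have hTinv : ∀ t : G, t ∈ T → t⁻¹ ∈ T := fun t ht => Subgroup.inv_mem _ ht
  have hTmul : ∀ a b : G, a ∈ T → b ∈ T → a * b ∈ T := fun a b ha hb => Subgroup.mul_mem _ ha hb
  have hT1 : (1 : G) ∈ T := Subgroup.one_mem _
  -- F1: elements fixing x₀ and y commute
  have hcomm : ∀ d d' : G, d • (x₀ : G ⧸ HH) = x₀ → d • y = y → d' • (x₀ : G ⧸ HH) = x₀ →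
      d' • y = y → d * d' = d' * d := by
    obtain ⟨d₀, _, _, hgen⟩ := hc.gen2 x₀ y (Ne.symm hy)
    intro d d' hdx hdy hd'x hd'y
    obtain ⟨k, n, hn, hd⟩ := hgen d hdx hdy
    obtain ⟨l, n', hn', hd'⟩ := hgen d' hd'x hd'y
    have c1 := hcen n hn
    have c2 := hcen n' hn'
    rw [hd, hd']
    calc d₀ ^ k * n * (d₀ ^ l * n') = d₀ ^ k * (n * d₀ ^ l) * n' := by group
      _ = d₀ ^ k * (d₀ ^ l * n) * n' := by rw [← c1 (d₀ ^ l)]
      _ = (d₀ ^ k * d₀ ^ l) * (n * n') := by group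
      _ = (d₀ ^ l * d₀ ^ k) * (n' * n) := by rw [c2 n, ← pow_add, ← pow_add, add_comm]
      _ = d₀ ^ l * (d₀ ^ k * n') * n := by group
      _ = d₀ ^ l * (n' * d₀ ^ k) * n := by rw [c2 (d₀ ^ k)]
      _ = d₀ ^ l * n' * (d₀ ^ k * n) := by group
  -- the set S
  set S : Set G := {δ | δ ∈ HH ∧ δ • y = y ∧ u * δ * u⁻¹ = δ⁻¹} with hSdef
  have hSx : ∀ δ : G, δ ∈ S → δ • (x₀ : G ⧸ HH) = x₀ :=
    fun δ hδ => (Hyp.smul_base_iff (T := T) δ).mpr hδ.1
  have hS1 : (1 : G) ∈ S := by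
    refine ⟨Subgroup.one_mem _, one_smul _ _, ?_⟩
    group
  have hSmul : ∀ a b : G, a ∈ S → b ∈ S → a * b ∈ S := by
    intro a b ha hb
    refine ⟨Subgroup.mul_mem _ ha.1 hb.1, ?_, ?_⟩
    · rw [mul_smul, hb.2.1, ha.2.1]
    · have hab : a * b = b * a := hcomm a b (hSx a ha) ha.2.1 (hSx b hb) hb.2.1
      have e1 : u * (a * b) * u⁻¹ = (u * a * u⁻¹) * (u * b * u⁻¹) := by group
      rw [e1, ha.2.2, hb.2.2, hab, mul_inv_rev]
  have hSinv : ∀ a : G, a ∈ S → a⁻¹ ∈ S := by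
    intro a ha
    refine ⟨Subgroup.inv_mem _ ha.1, inv_smul_of_smul ha.2.1, ?_⟩
    have e1 : u * a⁻¹ * u⁻¹ = (u * a * u⁻¹)⁻¹ := by group
    rw [e1, ha.2.2]
  have hSconj : ∀ δ : G, δ ∈ S → ∀ t : G, t ∈ T → δ * t * δ⁻¹ ∈ T := by
    intro δ hδ t ht
    exact (Subgroup.mem_normalizer_iff.mp hδ.1 t).mp ht
  have hSu : ∀ δ : G, δ ∈ S → u * δ⁻¹ * u⁻¹ = δ := by
    intro δ hδ
    have e1 : u * δ⁻¹ * u⁻¹ = (u * δ * u⁻¹)⁻¹ := by group
    rw [e1, hδ.2.2, inv_inv]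
  -- conj_T in terms of S
  have hconj : ∀ t : G, t ∈ T → t ≠ 1 → ∃ t₂ ∈ T, ∃ δ ∈ S, ∃ t₁ ∈ T,
      u * t * u⁻¹ = t₂ * δ * u * t₁ := by
    intro t ht ht1
    obtain ⟨t₂, ht₂, δ, hδH, t₁, ht₁, hδy, hδ, he⟩ := conj_T h hc hu huH ht ht1
    exact ⟨t₂, ht₂, δ, ⟨hδH, hδy, hδ⟩, t₁, ht₁, he⟩
  -- the set P of normal forms
  set P : Set G := {g | (∃ t ∈ T, ∃ δ ∈ S, g = t * δ) ∨
    (∃ t ∈ T, ∃ δ ∈ S, ∃ t' ∈ T, g = t * δ * u * t')} with hPdef
  have hP1 : (1 : G) ∈ P := Or.inl ⟨1, hT1, 1, hS1, by group⟩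
  -- u * (t * δ) ∈ P
  have huP1 : ∀ t : G, t ∈ T → ∀ δ : G, δ ∈ S → u * (t * δ) ∈ P := by
    intro t ht δ hδ
    by_cases ht1 : t = 1
    · refine Or.inr ⟨1, hT1, δ⁻¹, hSinv δ hδ, 1, hT1, ?_⟩
      have e : u * (t * δ) = (u * δ * u⁻¹) * u := by rw [ht1]; group
      rw [e, hδ.2.2]; group
    · obtain ⟨t₂, ht₂, δ', hδ', t₁, ht₁, he⟩ := hconj t ht ht1
      have ht₃ : δ * t₁ * δ⁻¹ ∈ T := hSconj δ hδ t₁ ht₁
      set t₃ := δ * t₁ * δ⁻¹ with ht₃def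
      have e1 : u * (t * δ) = t₂ * (δ' * δ) * (u * t₃ * u⁻¹) := by
        calc u * (t * δ) = (u * t * u⁻¹) * (u * δ * u⁻¹) * u := by group
          _ = (t₂ * δ' * u * t₁) * δ⁻¹ * u := by rw [he, hδ.2.2]
          _ = t₂ * δ' * (u * δ⁻¹ * u⁻¹) * u * (δ * t₁ * δ⁻¹) * u := by group
          _ = t₂ * δ' * δ * u * t₃ * u := by rw [hSu δ hδ]
          _ = t₂ * (δ' * δ) * (u * t₃ * u⁻¹) := by rw [hui]; group
      by_cases ht31 : t₃ = 1
      · refine Or.inl ⟨t₂, ht₂, δ' * δ, hSmul _ _ hδ' hδ, ?_⟩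
        rw [e1, ht31]; group
      · obtain ⟨t₄, ht₄, δ'', hδ'', t₅, ht₅, he'⟩ := hconj t₃ ht₃ ht31
        have hdd : δ' * δ ∈ S := hSmul _ _ hδ' hδ
        refine Or.inr ⟨t₂ * ((δ' * δ) * t₄ * (δ' * δ)⁻¹),
          hTmul _ _ ht₂ (hSconj _ hdd t₄ ht₄), (δ' * δ) * δ'', hSmul _ _ hdd hδ'', t₅, ht₅, ?_⟩
        rw [e1, he']; group
  -- u * (t * δ * u * t') ∈ P
  have huP2 : ∀ t : G, t ∈ T → ∀ δ : G, δ ∈ S → ∀ t' : G, t' ∈ T →
      u * (t * δ * u * t') ∈ P := by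
    intro t ht δ hδ t' ht'
    by_cases ht1 : t = 1
    · have hδi := hSinv δ hδ
      refine Or.inl ⟨δ⁻¹ * t' * δ⁻¹⁻¹, hSconj _ hδi t' ht', δ⁻¹, hδi, ?_⟩
      have e : u * (t * δ * u * t') = (u * δ * u⁻¹) * t' := by rw [ht1, hui]; group
      rw [e, hδ.2.2]; group
    · obtain ⟨t₂, ht₂, δ', hδ', t₁, ht₁, he⟩ := hconj t ht ht1
      have ht₃ : δ * t₁ * δ⁻¹ ∈ T := hSconj δ hδ t₁ ht₁
      refine Or.inr ⟨t₂, ht₂, δ' * δ, hSmul _ _ hδ' hδ, (δ * t₁ * δ⁻¹) * t',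
        hTmul _ _ ht₃ ht', ?_⟩
      calc u * (t * δ * u * t') = (u * t * u⁻¹) * (u * δ * u⁻¹) * (u * u) * t' := by group
        _ = (t₂ * δ' * u * t₁) * δ⁻¹ * t' := by rw [he, hδ.2.2, huu, mul_one]
        _ = t₂ * δ' * (u * δ⁻¹ * u⁻¹) * u * (δ * t₁ * δ⁻¹) * t' := by group
        _ = t₂ * δ' * δ * u * (δ * t₁ * δ⁻¹) * t' := by rw [hSu δ hδ]
        _ = t₂ * (δ' * δ) * u * ((δ * t₁ * δ⁻¹) * t') := by group
  -- generators
  set gens : Set G := (((T : Subgroup G) : Set G) ∪ S) ∪ {u} with hgens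
  have hgenP : ∀ s : G, s ∈ gens → ∀ g : G, g ∈ P → s * g ∈ P := by
    intro s hs g hg
    rcases hs with (hsT | hsS) | hsu
    · -- s ∈ T
      have hsT' : s ∈ T := hsT
      rcases hg with ⟨t, ht, δ, hδ, rfl⟩ | ⟨t, ht, δ, hδ, t', ht', rfl⟩
      · exact Or.inl ⟨s * t, hTmul _ _ hsT' ht, δ, hδ, by group⟩
      · exact Or.inr ⟨s * t, hTmul _ _ hsT' ht, δ, hδ, t', ht', by group⟩
    · -- s ∈ S
      rcases hg with ⟨t, ht, δ, hδ, rfl⟩ | ⟨t, ht, δ, hδ, t', ht', rfl⟩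
      · exact Or.inl ⟨s * t * s⁻¹, hSconj s hsS t ht, s * δ, hSmul _ _ hsS hδ, by group⟩
      · exact Or.inr ⟨s * t * s⁻¹, hSconj s hsS t ht, s * δ, hSmul _ _ hsS hδ, t', ht',
          by group⟩
    · -- s = u
      have hsu' : s = u := hsu
      rw [hsu']
      rcases hg with ⟨t, ht, δ, hδ, rfl⟩ | ⟨t, ht, δ, hδ, t', ht', rfl⟩
      · exact huP1 t ht δ hδ
      · exact huP2 t ht δ hδ t' ht'
  have hgeninv : ∀ s : G, s ∈ gens → s⁻¹ ∈ gens := by
    intro s hs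
    rcases hs with (hsT | hsS) | hsu
    · exact Or.inl (Or.inl (hTinv s hsT))
    · exact Or.inl (Or.inr (hSinv s hsS))
    · have hsu' : s = u := hsu
      rw [hsu', hui]; exact Or.inr rfl
  have hLP : ∀ g : G, g ∈ Subgroup.closure gens → g ∈ P := by
    intro g hg
    induction hg using Subgroup.closure_induction_left with
    | one => exact hP1
    | mul_left s hs g' hg' ih => exact hgenP s hs g' ih
    | inv_mul_cancel s hs g' hg' ih => exact hgenP s⁻¹ (hgeninv s hs) g' ih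
  refine ⟨Subgroup.closure gens, ?_, ?_, ?_, ?_⟩
  · -- T ≤ L
    intro t ht
    exact Subgroup.subset_closure (Or.inl (Or.inl ht))
  · -- L ⊓ N = ⊥
    rw [Subgroup.eq_bot_iff_forall]
    intro g hg
    obtain ⟨hgL, hgN⟩ := Subgroup.mem_inf.mp hg
    have hgx : g • (x₀ : G ⧸ HH) = x₀ := core_smul h hgN _
    have hgy : g • y = y := core_smul h hgN _
    rcases hLP g hgL with ⟨t, ht, δ, hδ, rfl⟩ | ⟨t, ht, δ, hδ, t', ht', rfl⟩
    · -- form 1
      have hty : t • y = y := by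
        have : (t * δ) • y = t • y := by rw [mul_smul, hδ.2.1]
        rw [← this]; exact hgy
      obtain ⟨t₀, _, huniq⟩ := hc.reg y y hy hy
      have h1 : t = t₀ := huniq t ⟨ht, hty⟩
      have h2 : (1 : G) = t₀ := huniq 1 ⟨hT1, one_smul _ _⟩
      have ht1 : t = 1 := h1.trans h2.symm
      rw [ht1, one_mul] at hgN ⊢
      -- δ central and inverted by u
      have e1 : u * δ * u⁻¹ = δ := by
        rw [hcen δ hgN u]; group
      have e2 : δ⁻¹ = δ := by rw [← hδ.2.2, e1]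
      have e3 : δ ^ 2 = 1 := by
        rw [pow_two]
        calc δ * δ = δ⁻¹ * δ := by rw [e2]
          _ = 1 := inv_mul_cancel δ
      exact eq_one_of_odd_of_sq (h.core_odd hgN) e3
    · -- form 2 is impossible
      exfalso
      have h1 : (t * δ * u * t') • (x₀ : G ⧸ HH) = t • y := by
        rw [mul_smul, hTx t' ht', mul_smul, ← hyu, mul_smul, hδ.2.1]
      rw [h1] at hgx
      apply hy
      have h2 := inv_smul_of_smul (hTx t ht)
      calc y = t⁻¹ • (t • y) := by rw [← mul_smul, inv_mul_cancel, one_smul]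
        _ = t⁻¹ • (x₀ : G ⧸ HH) := by rw [hgx]
        _ = x₀ := h2
  · -- L ⊔ N = ⊤
    rw [eq_top_iff]
    intro g _
    have hTL : ∀ t : G, t ∈ T → t ∈ Subgroup.closure gens :=
      fun t ht => Subgroup.subset_closure (Or.inl (Or.inl ht))
    have hSL : ∀ δ : G, δ ∈ S → δ ∈ Subgroup.closure gens :=
      fun δ hδ => Subgroup.subset_closure (Or.inl (Or.inr hδ))
    have huL : u ∈ Subgroup.closure gens := Subgroup.subset_closure (Or.inr rfl)
    by_cases hgH : g ∈ HH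
    · obtain ⟨t, ht, δ, hδH, n, hn, hδy, hδ, hg⟩ := stab_decomp h hc hu huH hgH
      rw [hg]
      exact Subgroup.mul_mem_sup
        (Subgroup.mul_mem _ (hTL t ht) (hSL δ ⟨hδH, hδy, hδ⟩)) hn
    · obtain ⟨b, hbH, t', ht', hgb, _⟩ := bruhat h hc hu huH hgH
      obtain ⟨t, ht, δ, hδH, n, hn, hδy, hδ, hb⟩ := stab_decomp h hc hu huH hbH
      have e : g = (t * δ * u * t') * n := by
        rw [hgb, hb]
        calc t * δ * n * u * t' = t * δ * (n * (u * t')) := by group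
          _ = t * δ * ((u * t') * n) := by rw [← hcen n hn (u * t')]
          _ = (t * δ * u * t') * n := by group
      rw [e]
      exact Subgroup.mul_mem_sup
        (Subgroup.mul_mem _ (Subgroup.mul_mem _
          (Subgroup.mul_mem _ (hTL t ht) (hSL δ ⟨hδH, hδy, hδ⟩)) huL) (hTL t' ht')) hn
  · -- L is not contained in HH
    intro hle
    exact huH (hle (Subgroup.subset_closure (Or.inr rfl)))

end Cfsg.Agent.Lib.Helper3.AbCZ
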