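import Mathlib
import Cfsg.Prelude.Def_Characters
import Cfsg.Agent.Lib.Helper6.FiniteOrder
import Cfsg.Agent.Lib.Helper6.Orthogonality

namespace Cfsg.Agent.Lib.Helper3.BurnsideIneq

open Polynomial Cfsg.Agent.Lib.Helper6

set_option backward.isDefEq.respectTransparency false in
/-- **Galois norm bound**: a nonzero sum of `n`-th roots of unity has the product of its
Galois conjugates (obtained by raising every root to the `k`-th power, `k ∈ (ℤ/n)ˣ`) of
absolute value at least `1`. -/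
theorem one_le_norm_prod_sum {ι : Type*} [Fintype ι] (n : ℕ) [NeZero n] (μ : ι → ℂ)
    (hμ : ∀ i, μ i ^ n = 1) (h0 : ∑ i, μ i ≠ 0) :
    1 ≤ ‖∏ k : (ZMod n)ˣ, ∑ i, μ i ^ (k : ZMod n).val‖ := by
  have hn : 0 < n := Nat.pos_of_ne_zero (NeZero.ne n)
  have hζ : IsPrimitiveRoot (IsCyclotomicExtension.zeta n ℚ (CyclotomicField n ℚ)) n :=
    IsCyclotomicExtension.zeta_spec n ℚ (CyclotomicField n ℚ)
  set ζ := IsCyclotomicExtension.zeta n ℚ (CyclotomicField n ℚ) with hζdef
  have : FiniteDimensional ℚ (CyclotomicField n ℚ) :=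
    IsCyclotomicExtension.finiteDimensional {n} ℚ (CyclotomicField n ℚ)
  have : IsGalois ℚ (CyclotomicField n ℚ) :=
    IsCyclotomicExtension.isGalois {n} ℚ (CyclotomicField n ℚ)
  let φ : (CyclotomicField n ℚ) →ₐ[ℚ] ℂ := IsAlgClosed.lift
  have hφinj : Function.Injective φ := φ.toRingHom.injective
  have hξ : IsPrimitiveRoot (φ ζ) n := hζ.map_of_injective hφinj
  have ha : ∀ i, ∃ a < n, (φ ζ) ^ a = μ i := fun i => hξ.eq_pow_of_pow_eq_one (hμ i)
  choose a han ha using ha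
  set α : (CyclotomicField n ℚ) := ∑ i, ζ ^ a i with hα
  have hαint : IsIntegral ℤ α := IsIntegral.sum _ (fun i _ => (hζ.isIntegral hn).pow _)
  have hirr : Irreducible (cyclotomic n ℚ) := cyclotomic.irreducible_rat hn
  have hσ : ∀ σ : Gal((CyclotomicField n ℚ)/ℚ), φ (σ α) =
      ∑ i, μ i ^ ((IsCyclotomicExtension.autEquivPow (CyclotomicField n ℚ) hirr σ :
        (ZMod n)ˣ) : ZMod n).val := by
    intro σ
    have h1 : σ ζ = ζ ^ ((IsCyclotomicExtension.autEquivPow (CyclotomicField n ℚ) hirr σ :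
        (ZMod n)ˣ) : ZMod n).val := by
      have := hζ.autToPow_spec ℚ σ
      rw [← this]
      rfl
    simp only [hα, map_sum, map_pow, h1]
    refine Finset.sum_congr rfl fun i _ => ?_
    rw [← ha i, ← pow_mul, ← pow_mul, mul_comm]
  have hφα : φ α = ∑ i, μ i := by
    simp only [hα, map_sum, map_pow, ha]
  have hα0 : α ≠ 0 := by
    intro h
    rw [h, map_zero] at hφα
    exact h0 hφα.symm
  have hnorm : algebraMap ℚ (CyclotomicField n ℚ) (Algebra.norm ℚ α) =
      ∏ σ : Gal((CyclotomicField n ℚ)/ℚ), σ α :=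
    Algebra.norm_eq_prod_automorphisms ℚ α
  have hprod : ((Algebra.norm ℚ α : ℚ) : ℂ) = ∏ k : (ZMod n)ˣ, ∑ i, μ i ^ (k : ZMod n).val := by
    have h2 := congrArg φ hnorm
    rw [AlgHom.commutes, map_prod] at h2
    rw [show ((Algebra.norm ℚ α : ℚ) : ℂ) = algebraMap ℚ ℂ (Algebra.norm ℚ α) from rfl, h2]
    refine Fintype.prod_equiv
      (IsCyclotomicExtension.autEquivPow (CyclotomicField n ℚ) hirr).toEquiv _ _ fun σ => ?_
    rw [hσ σ]
    rfl
  have hint : IsIntegral ℤ (Algebra.norm ℚ α) := Algebra.isIntegral_norm ℚ hαint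
  obtain ⟨z, hz⟩ := IsIntegrallyClosed.isIntegral_iff.mp hint
  have hz0 : z ≠ 0 := by
    rintro rfl
    rw [map_zero] at hz
    exact (Algebra.norm_ne_zero_iff.mpr hα0) hz.symm
  rw [← hprod, ← hz]
  have : ((algebraMap ℤ ℚ z : ℚ) : ℂ) = (z : ℂ) := by simp
  rw [this, Complex.norm_intCast]
  exact_mod_cast Int.one_le_abs hz0

/-- AM–GM in the form: nonnegative reals with product at least `1` have sum at least their
number. -/
theorem card_le_sum_of_one_le_prod {κ : Type*} (s : Finset κ) (x : κ → ℝ)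
    (hx : ∀ k ∈ s, 0 ≤ x k) (h : 1 ≤ ∏ k ∈ s, x k) : (s.card : ℝ) ≤ ∑ k ∈ s, x k := by
  rcases s.eq_empty_or_nonempty with rfl | hne
  · simp
  have hpos : (0:ℝ) < s.card := by exact_mod_cast hne.card_pos
  have h2 := Real.geom_mean_le_arith_mean s (fun _ => (1:ℝ)) x (fun _ _ => zero_le_one)
    (by simpa using hpos) hx
  simp only [Real.rpow_one, Finset.sum_const, nsmul_eq_mul, mul_one, one_mul] at h2
  have h1 : (1:ℝ) ≤ (∏ k ∈ s, x k) ^ ((s.card:ℝ)⁻¹) :=
    Real.one_le_rpow h (inv_nonneg.mpr hpos.le)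
  have h3 := h1.trans h2
  rwa [le_div_iff₀ hpos, one_mul] at h3

variable {G : Type*} [Group G]

/-- For an element `g` with `g ^ n = 1` on which the character of `ρ` does not vanish, the
product of the values at the powers `g ^ k`, `k ∈ (ℤ/n)ˣ`, has absolute value at least `1`. -/
theorem one_le_norm_prod_character {V : Type*} [AddCommGroup V] [Module ℂ V]
    [FiniteDimensional ℂ V] (ρ : Representation ℂ G V) (g : G) (n : ℕ) [NeZero n]
    (hg : g ^ n = 1) (h0 : ρ.character g ≠ 0) :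
    1 ≤ ‖∏ k : (ZMod n)ˣ, ρ.character (g ^ (k : ZMod n).val)‖ := by
  have hn : 0 < n := Nat.pos_of_ne_zero (NeZero.ne n)
  have hf : (ρ g) ^ n = 1 := by rw [← map_pow, hg, map_one]
  obtain ⟨ι, _, b, μ, hb, hμ⟩ := exists_eigenbasis_of_pow_eq_one hn hf
  have hpow : ∀ (k : ℕ) i, (ρ (g ^ k)) (b i) = (μ i ^ k) • b i := by
    intro k i
    induction k with
    | zero => simp
    | succ k ih =>
      rw [pow_succ, map_mul, Module.End.mul_apply, hb i, map_smul, ih, smul_smul, pow_succ,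
        mul_comm]
  have htr : ∀ k : ℕ, ρ.character (g ^ k) = ∑ i, μ i ^ k := fun k =>
    trace_eq_sum_of_eigenbasis b (fun i => μ i ^ k) (ρ (g ^ k)) (hpow k)
  have h1 : ρ.character g = ∑ i, μ i := by
    have := htr 1
    simpa using this
  rw [h1] at h0
  have := one_le_norm_prod_sum n μ hμ h0
  simpa only [htr] using this

/-- **Burnside's inequality, orbit form**: if `g ^ n = 1` and `χ g ≠ 0` then the sum of
`‖χ (g ^ k)‖ ^ 2` over `k ∈ (ℤ/n)ˣ` is at least `φ(n)`. -/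
theorem card_units_le_sum_norm_sq {χ : G → ℂ} (hχ : Cfsg.IsCharacter G χ) (g : G) (n : ℕ)
    [NeZero n] (hg : g ^ n = 1) (h0 : χ g ≠ 0) :
    (Fintype.card (ZMod n)ˣ : ℝ) ≤ ∑ k : (ZMod n)ˣ, ‖χ (g ^ (k : ZMod n).val)‖ ^ 2 := by
  obtain ⟨m, ρ, rfl⟩ := hχ
  have h1 := one_le_norm_prod_character ρ g n hg h0
  rw [norm_prod] at h1
  have h2 : (1:ℝ) ≤ ∏ k : (ZMod n)ˣ, ‖ρ.character (g ^ (k : ZMod n).val)‖ ^ 2 := by
    rw [Finset.prod_pow]
    exact one_le_pow₀ h1
  have := card_le_sum_of_one_le_prod Finset.univ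
    (fun k : (ZMod n)ˣ => ‖ρ.character (g ^ (k : ZMod n).val)‖ ^ 2)
    (fun _ _ => sq_nonneg _) h2
  simpa using this

open Classical in
/-- **Burnside's inequality, set form**: if a finite set `T` of elements of the finite group
`G` is closed under `t ↦ t ^ k` for `k` coprime to `|G|`, then the number of elements of `T`
at which the character `χ` does not vanish is at most `∑_{t ∈ T} ‖χ t‖²`. -/
theorem card_filter_le_sum_norm_sq [Finite G] {χ : G → ℂ} (hχ : Cfsg.IsCharacter G χ)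
    (T : Finset G)
    (hT : ∀ t ∈ T, ∀ k : ℕ, Nat.Coprime k (Nat.card G) → t ^ k ∈ T) :
    ((T.filter (fun t => χ t ≠ 0)).card : ℝ) ≤ ∑ t ∈ T, ‖χ t‖ ^ 2 := by
  set n := Nat.card G with hn
  have : NeZero n := ⟨Nat.card_pos.ne'⟩
  have hgn : ∀ g : G, g ^ n = 1 := fun g => by rw [hn]; exact pow_card_eq_one'
  have hcop : ∀ k : (ZMod n)ˣ, Nat.Coprime (k : ZMod n).val n := fun k =>
    ZMod.val_coe_unit_coprime k
  -- the inner sums
  have hsum : ∀ k : (ZMod n)ˣ, ∑ t ∈ T, ‖χ (t ^ (k : ZMod n).val)‖ ^ 2 = ∑ t ∈ T, ‖χ t‖ ^ 2 := by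
    intro k
    have hinj : Function.Injective fun t : G => t ^ (k : ZMod n).val :=
      (powCoprime (G := G) (hcop k).symm).injective
    have himg : T.image (fun t : G => t ^ (k : ZMod n).val) = T := by
      apply Finset.eq_of_subset_of_card_le
      · intro x hx
        obtain ⟨t, ht, rfl⟩ := Finset.mem_image.mp hx
        exact hT t ht _ (hcop k)
      · rw [Finset.card_image_of_injective _ hinj]
    conv_rhs => rw [← himg]
    rw [Finset.sum_image (fun a _ b _ h => hinj h)]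
  have h1 : ∀ t ∈ T, (if χ t ≠ 0 then (Fintype.card (ZMod n)ˣ : ℝ) else 0) ≤
      ∑ k : (ZMod n)ˣ, ‖χ (t ^ (k : ZMod n).val)‖ ^ 2 := fun t ht => by
    split_ifs with h
    · exact card_units_le_sum_norm_sq hχ t n (hgn t) h
    · exact Finset.sum_nonneg fun _ _ => sq_nonneg _
  have h2 : ((T.filter (fun t => χ t ≠ 0)).card : ℝ) * (Fintype.card (ZMod n)ˣ : ℝ) ≤
      ∑ t ∈ T, ∑ k : (ZMod n)ˣ, ‖χ (t ^ (k : ZMod n).val)‖ ^ 2 := by
    have := Finset.sum_le_sum h1
    rwa [← Finset.sum_filter, Finset.sum_const, nsmul_eq_mul] at this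
  rw [Finset.sum_comm, Finset.sum_congr rfl (fun k _ => hsum k), Finset.sum_const,
    nsmul_eq_mul, mul_comm] at h2
  have hpos : (0:ℝ) < (Finset.univ : Finset (ZMod n)ˣ).card := by
    exact_mod_cast Finset.card_pos.mpr ⟨1, Finset.mem_univ _⟩
  rw [Finset.card_univ] at hpos
  rw [Finset.card_univ] at h2
  exact le_of_mul_le_mul_left h2 hpos

/-- **Burnside's inequality, set form** for a set on which `χ` vanishes nowhere. -/
theorem card_le_sum_norm_sq [Finite G] {χ : G → ℂ} (hχ : Cfsg.IsCharacter G χ) (T : Finset G)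
    (hT : ∀ t ∈ T, ∀ k : ℕ, Nat.Coprime k (Nat.card G) → t ^ k ∈ T)
    (hne : ∀ t ∈ T, χ t ≠ 0) : (T.card : ℝ) ≤ ∑ t ∈ T, ‖χ t‖ ^ 2 := by
  classical
  have := card_filter_le_sum_norm_sq hχ T hT
  rwa [Finset.filter_true_of_mem hne] at this

/-- First orthogonality, real form: `∑_g ‖χ g‖² = |G|` for irreducible `χ`. -/
theorem sum_norm_sq_eq_card [Fintype G] {χ : G → ℂ} (hχ : Cfsg.IsIrrCharacter G χ) :
    ∑ g : G, ‖χ g‖ ^ 2 = (Nat.card G : ℝ) := by
  have h1 := classInner_isIrrCharacter hχ hχ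
  rw [if_pos rfl] at h1
  unfold Cfsg.classInner at h1
  have hG : (Nat.card G : ℂ) ≠ 0 := by
    exact_mod_cast Nat.card_pos.ne'
  have h2 : ∑ g : G, χ g * (starRingEnd ℂ) (χ g) = (Nat.card G : ℂ) := by
    field_simp at h1
    exact h1
  have h3 : ∀ g : G, χ g * (starRingEnd ℂ) (χ g) = ((‖χ g‖ ^ 2 : ℝ) : ℂ) := fun g => by
    rw [Complex.mul_conj, Complex.normSq_eq_norm_sq]
  simp only [h3] at h2
  exact_mod_cast h2

/-- If `k` is coprime to the order of the finite group and `g ^ k` lies in the subgroup `H`,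
so does `g`. -/
theorem mem_of_pow_mem [Finite G] (H : Subgroup G) {g : G} {k : ℕ}
    (hk : Nat.Coprime k (Nat.card G)) (h : g ^ k ∈ H) : g ∈ H := by
  have h1 : (powCoprime (G := G) hk.symm).symm (g ^ k) = g :=
    (powCoprime (G := G) hk.symm).symm_apply_apply g
  rw [← h1]
  exact H.zpow_mem h _

end Cfsg.Agent.Lib.Helper3.BurnsideIneq
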