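import Cfsg.Agent.Lib.Helper6.BlkPrincipalCover
import Cfsg.Agent.Lib.Helper6.CliffordStab
import Cfsg.Agent.Lib.Helper6.Ito
import Cfsg.Agent.Lib.Helper6.IndFunMore
import Cfsg.Agent.Lib.Helper6.BlkNormalP
import Cfsg.Agent.Lib.Helper6.BlkOrth2
import Cfsg.Agent.Lib.Helper3.ConjCover
import Cfsg.Agent.Lib.Helper3.CharTriple3
import Cfsg.Agent.Lib.Helper3.GallagherFactor
import Cfsg.Agent.S0191

/-!
# Alperin–Dade: restriction of the principal block to a normal subgroup `N` with `G = N C_G(P)`

Part 1: an irreducible character which vanishes identically on no coset of a normal subgroup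
restricts irreducibly to it.
-/

set_option autoImplicit false

namespace Cfsg.Agent.Lib.Helper3.AlpDade

open Cfsg.Agent.Lib.Helper6 Cfsg.Agent.Lib.Helper3.CharTriple Cfsg.Agent.Lib.Helper3

universe u

/-- An irreducible character of `G` which does not vanish identically on any coset of the normal
subgroup `N` restricts irreducibly to `N`. -/
theorem restrict_irreducible {G : Type u} [Group G] [Fintype G] (N : Subgroup G) [hN : N.Normal]
    [Fintype N] (χ : Cfsg.IrrCharacter G)
    (hnv : ∀ g : G, ∃ n : N, (χ : G → ℂ) (g * n) ≠ 0) :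
    Cfsg.IsIrrCharacter N (fun n : N => (χ : G → ℂ) n) := by
  classical
  obtain ⟨θ, hθ⟩ := exists_constituent_restrict N χ.2
  -- the inertia group of `θ` is everything
  set T := inertia N hN (θ : N → ℂ) with hTdef
  have : Fintype T := Fintype.ofFinite T
  have hNT : N ≤ T := le_inertia N hN (IsIrrCharacter.isClassFunction θ.2)
  obtain ⟨ψ, -, hψ⟩ := exists_indFun_eq_of_stab N hN T hNT θ (fun g h => h) χ hθ
  have hT : T = ⊤ := by
    apply eq_top_of_conj_cover
    intro y
    by_contra hcon
    push Not at hcon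
    obtain ⟨n, hn⟩ := hnv y
    apply hn
    rw [← hψ]
    apply IndFunMore.indFun_eq_zero_of_not_conj
    intro x hx
    apply hcon x
    have h1 : x⁻¹ * (n : G) * x ∈ T := by
      apply hNT
      have := hN.conj_mem (n : G) n.2 x⁻¹
      rwa [inv_inv] at this
    have h2 : x⁻¹ * y * x = (x⁻¹ * (y * (n : G)) * x) * (x⁻¹ * (n : G) * x)⁻¹ := by group
    rw [h2]
    exact T.mul_mem hx (T.inv_mem h1)
  have hinv : ∀ (g : G) (n : N),
      (θ : N → ℂ) ⟨g * n * g⁻¹, hN.conj_mem (n : G) n.2 g⟩ = (θ : N → ℂ) n := by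
    intro g n
    have hg : g ∈ T := by rw [hT]; exact Subgroup.mem_top g
    rw [hTdef, mem_inertia] at hg
    exact congrFun hg n
  obtain ⟨d, ρ, hρirr, hρθ⟩ := θ.2
  have hinv' : ∀ (g : G) (n : N),
      ρ.character ⟨g * n * g⁻¹, hN.conj_mem (n : G) n.2 g⟩ = ρ.character n := by
    intro g n
    rw [hρθ]; exact hinv g n
  have hcon' : Cfsg.classInner (fun n : N => (χ : G → ℂ) n) ρ.character ≠ 0 := by
    rw [hρθ]; exact hθ
  obtain ⟨e, τ, hτirr, hτN, hτeq⟩ := exists_factor_lift N ρ hinv' (χ : G → ℂ) χ.2 hcon'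
  have hfinΓ : Finite (Gam N ρ (Nat.card N)) := finite_Gam N ρ (Nat.card N) Nat.card_pos
  have hfr : Module.finrank ℂ (Fin e → ℂ) = e := by
    rw [Module.finrank_fintype_fun_eq_card, Fintype.card_fin]
  -- `e = 1`
  have he1 : ¬ 1 < e := by
    intro he
    obtain ⟨γ, hγ⟩ := Cfsg.Agent.S0191.result τ (by rw [hfr]; exact he)
    obtain ⟨n, hn⟩ := hnv (pr1 N ρ (Nat.card N) γ)
    apply hn
    have h1 : pr1 N ρ (Nat.card N) γ * (n : G) = pr1 N ρ (Nat.card N) (γ * incl N ρ n) := by
      rw [map_mul, pr1_incl]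
    rw [h1, hτeq]
    have h2 : τ.character (γ * incl N ρ n) = τ.character γ := by
      unfold Representation.character
      rw [map_mul, hτN n]
      rfl
    rw [h2, hγ, zero_mul]
  have he0 : e ≠ 0 := by
    intro he
    have h1 : Cfsg.IsIrrCharacter (Gam N ρ (Nat.card N)) τ.character := ⟨e, τ, hτirr, rfl⟩
    have h2 := IsIrrCharacter.apply_one_ne_zero h1
    rw [Representation.char_one, hfr, he] at h2
    exact h2 (by simp)
  have he : e = 1 := by omega
  have hres : (fun n : N => (χ : G → ℂ) n) = (θ : N → ℂ) := by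
    funext n
    have h1 := hτeq (incl N ρ n)
    rw [pr1_incl, hatChar_incl] at h1
    have h2 : τ.character (incl N ρ n) = 1 := by
      unfold Representation.character
      rw [hτN n]
      rw [LinearMap.trace_id, hfr, he]
      simp
    rw [h2, one_mul, hρθ] at h1
    exact h1
  rw [hres]
  exact θ.2

end Cfsg.Agent.Lib.Helper3.AlpDade
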