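import Cfsg.Agent.Lib.Helper3.AlpDade1

/-!
# Alperin–Dade, part 2: coset representatives, central characters and uniqueness
-/

set_option autoImplicit false

namespace Cfsg.Agent.Lib.Helper3.AlpDade

open Cfsg.Agent.Lib.Helper6 Cfsg.Agent.Lib.Helper3

universe u

section coset

variable {G : Type u} [Group G] [Finite G]

/-- Every coset of `N` contains a `p`-regular element centralizing `P`. -/
theorem exists_coset_rep (p : ℕ) [Fact p.Prime] (N : Subgroup G) [hN : N.Normal]
    (hidx : ¬ p ∣ N.index) (P : Sylow p G)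
    (hsup : N ⊔ Subgroup.centralizer ((P : Subgroup G) : Set G) = ⊤) (g : G) :
    ∃ n : N, ¬ p ∣ orderOf (g * (n : G)) ∧
      g * (n : G) ∈ Subgroup.centralizer ((P : Subgroup G) : Set G) := by
  have hp : p.Prime := Fact.out
  have hg : g ∈ Subgroup.centralizer ((P : Subgroup G) : Set G) ⊔ N := by
    rw [sup_comm, hsup]; exact Subgroup.mem_top g
  rw [← SetLike.mem_coe, Subgroup.mul_normal] at hg
  obtain ⟨c, hc, n₀, hn₀, rfl⟩ := hg
  obtain ⟨v, hv, u, hu, hcvu, hvreg, k, huk⟩ := exists_pParts p hp c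
  have hzc : Subgroup.zpowers c ≤ Subgroup.centralizer ((P : Subgroup G) : Set G) := by
    rw [Subgroup.zpowers_le]; exact hc
  -- the `p`-part lies in `N`
  have huN : u ∈ N := by
    rw [← QuotientGroup.eq_one_iff]
    have h1 : ((u : G) : G ⧸ N) ^ p ^ k = 1 := by
      rw [← QuotientGroup.mk_pow, ← huk, pow_orderOf_eq_one]
      rfl
    have h2 : ((u : G) : G ⧸ N) ^ N.index = 1 := by
      rw [Subgroup.index_eq_card]
      exact pow_card_eq_one'
    have h3 := pow_gcd_eq_one.2 ⟨h1, h2⟩
    have h4 : Nat.gcd (p ^ k) N.index = 1 :=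
      Nat.Coprime.pow_left k ((Nat.Prime.coprime_iff_not_dvd hp).2 hidx)
    rwa [h4, pow_one] at h3
  refine ⟨⟨(u * n₀)⁻¹, N.inv_mem (N.mul_mem huN hn₀)⟩, ?_, ?_⟩
  · have : c * n₀ * (u * n₀)⁻¹ = v := by rw [hcvu]; group
    simp only
    rw [this]; exact hvreg
  · have : c * n₀ * (u * n₀)⁻¹ = v := by rw [hcvu]; group
    simp only
    rw [this]; exact hzc hv

end coset

section central

variable {G : Type u} [Group G] [Finite G]
variable {p : ℕ} {M : Ideal Cfsg.AlgInt}

theorem centralChar_one_fun (g : G) :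
    Cfsg.centralChar (fun _ : G => (1 : ℂ)) g =
      ((Subgroup.centralizer ({g} : Set G)).index : ℂ) := by
  unfold Cfsg.centralChar
  simp

/-- The central character of a principal block character does not vanish modulo `M` at elements
centralizing a Sylow `p`-subgroup. -/
theorem not_memLocalIdeal_centralChar [Fact p.Prime] (hM : Cfsg.IsPModular p M)
    (χ : Cfsg.IrrCharacter G) (hχ : χ ∈ Cfsg.principalBlock M G) (P : Sylow p G) (x : G)
    (hx : x ∈ Subgroup.centralizer ((P : Subgroup G) : Set G)) :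
    ¬ Cfsg.MemLocalIdeal M (Cfsg.centralChar (χ : G → ℂ) x) := by
  intro h
  have h1 : Cfsg.MemLocalIdeal M
      (Cfsg.centralChar (fun _ : G => (1 : ℂ)) x - Cfsg.centralChar (χ : G → ℂ) x) := hχ x
  have h2 := MemLocalIdeal.add hM h1 h
  rw [sub_add_cancel, centralChar_one_fun, memLocalIdeal_natCast_iff hM] at h2
  have hle : (P : Subgroup G) ≤ Subgroup.centralizer ({x} : Set G) := by
    intro y hy
    rw [Subgroup.mem_centralizer_iff]
    intro z hz
    rw [Set.mem_singleton_iff] at hz
    rw [hz]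
    exact (Subgroup.mem_centralizer_iff.1 hx y hy).symm
  exact Sylow.not_dvd_index P (dvd_trans h2 (Subgroup.index_dvd_of_le hle))

/-- A root of unity of order prime to `p` which is `1` modulo `M` is `1`. -/
theorem eq_one_of_memLocalIdeal_sub_one (hM : Cfsg.IsPModular p M) (ζ : ℂ) (m : ℕ)
    (hm : ¬ p ∣ m) (hζ : ζ ^ m = 1) (h : Cfsg.MemLocalIdeal M (ζ - 1)) : ζ = 1 := by
  by_contra hne
  have hm0 : 0 < m := by
    rcases Nat.eq_zero_or_pos m with rfl | h0
    · exact absurd (dvd_zero p) hm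
    · exact h0
  have hint : IsIntegral ℤ ζ := IsIntegral.of_pow hm0 (by rw [hζ]; exact isIntegral_one)
  have hloc : Cfsg.MemLocalRing M ζ := memLocalRing_of_isIntegral hM hint
  have hpow : ∀ k : ℕ, Cfsg.MemLocalIdeal M (ζ ^ k - 1) := by
    intro k
    induction k with
    | zero => rw [pow_zero, sub_self]; exact memLocalIdeal_zero hM
    | succ k ih =>
      have : ζ ^ (k + 1) - 1 = ζ * (ζ ^ k - 1) + (ζ - 1) := by ring
      rw [this]
      exact MemLocalIdeal.add hM (MemLocalIdeal.mul_left hM hloc ih) h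
  have hsum : ∑ k ∈ Finset.range m, ζ ^ k = 0 := by
    rw [geom_sum_eq hne, hζ, sub_self, zero_div]
  have h2 : Cfsg.MemLocalIdeal M (∑ k ∈ Finset.range m, (ζ ^ k - 1)) :=
    MemLocalIdeal.sum hM _ _ (fun k _ => hpow k)
  rw [Finset.sum_sub_distrib, hsum, Finset.sum_const, Finset.card_range, zero_sub] at h2
  have h3 := MemLocalIdeal.neg h2
  rw [neg_neg, nsmul_eq_mul, mul_one, memLocalIdeal_natCast_iff hM] at h3
  exact hm h3

end central

end Cfsg.Agent.Lib.Helper3.AlpDade
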