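import Cfsg.Agent.Lib.Helper3.AlpDade2

/-!
# Alperin–Dade, part 3: the bijection
-/

set_option autoImplicit false

namespace Cfsg.Agent.Lib.Helper3.AlpDade

open Cfsg.Agent.Lib.Helper6 Cfsg.Agent.Lib.Helper3

universe u

variable {G : Type u} [Group G] [Fintype G]
variable {p : ℕ} {M : Ideal Cfsg.AlgInt}

/-- principal block characters do not vanish identically on any coset of `N`. -/
theorem exists_ne_zero_coset [Fact p.Prime] (hM : Cfsg.IsPModular p M) (N : Subgroup G)
    [hN : N.Normal] (hidx : ¬ p ∣ N.index) (P : Sylow p G)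
    (hsup : N ⊔ Subgroup.centralizer ((P : Subgroup G) : Set G) = ⊤)
    (χ : Cfsg.IrrCharacter G) (hχ : χ ∈ Cfsg.principalBlock M G) (g : G) :
    ∃ n : N, (χ : G → ℂ) (g * n) ≠ 0 := by
  obtain ⟨n, -, hcent⟩ := exists_coset_rep p N hidx P hsup g
  refine ⟨n, fun h0 => ?_⟩
  apply not_memLocalIdeal_centralChar hM χ hχ P _ hcent
  unfold Cfsg.centralChar
  rw [h0, mul_zero, zero_div]
  exact memLocalIdeal_zero hM

/-- two principal block characters with the same irreducible restriction to `N` coincide. -/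
theorem eq_of_restrict_eq [Fact p.Prime] (hM : Cfsg.IsPModular p M) (N : Subgroup G)
    [hN : N.Normal] [Fintype N] (hidx : ¬ p ∣ N.index) (P : Sylow p G)
    (hsup : N ⊔ Subgroup.centralizer ((P : Subgroup G) : Set G) = ⊤)
    (χ χ' : Cfsg.IrrCharacter G) (hχ : χ ∈ Cfsg.principalBlock M G)
    (hχ' : χ' ∈ Cfsg.principalBlock M G)
    (hirr : Cfsg.IsIrrCharacter N (fun n : N => (χ : G → ℂ) n))
    (hres : ∀ n : N, (χ' : G → ℂ) n = (χ : G → ℂ) n) : χ' = χ := by
  classical
  have hres' : (fun n : N => (χ' : G → ℂ) n) = fun n : N => (χ : G → ℂ) n := funext hres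
  have hc : Cfsg.classInner (fun n : N => (χ' : G → ℂ) n) (fun n : N => (χ : G → ℂ) n) ≠ 0 := by
    rw [hres', classInner_isIrrCharacter hirr hirr, if_pos rfl]
    exact one_ne_zero
  obtain ⟨β, hβirr, hβN, hβeq⟩ :=
    GallagherFactor.exists_factor N (χ : G → ℂ) χ.2 hirr (χ' : G → ℂ) χ'.2 hc
  have hβchar := IsIrrCharacter.isCharacter hβirr
  have hχ1 : (χ : G → ℂ) 1 ≠ 0 := IsIrrCharacter.apply_one_ne_zero χ.2
  have hβ1 : β 1 = 1 := by
    have h1 := congrFun hβeq 1
    rw [Pi.mul_apply] at h1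
    have h2 := hres 1
    rw [Subgroup.coe_one, h1] at h2
    exact mul_right_cancel₀ hχ1 (h2.trans (one_mul _).symm)
  have hβmul := IsCharacter.mul_of_apply_one_eq_one hβchar hβ1
  have hβpow : ∀ (y : G) (k : ℕ), β y ^ k = β (y ^ k) := by
    intro y k
    induction k with
    | zero => rw [pow_zero, pow_zero, hβ1]
    | succ k ih => rw [pow_succ, pow_succ, hβmul, ih]
  have hβone : ∀ g : G, β g = 1 := by
    intro g
    obtain ⟨n, hreg, hcent⟩ := exists_coset_rep p N hidx P hsup g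
    have h1 : β (g * n) = β g := IsCharacter.apply_mul_of_apply_eq hβchar (hβN n) g
    rw [← h1]
    obtain ⟨x, hx⟩ : ∃ x : G, x = g * (n : G) := ⟨_, rfl⟩
    rw [← hx] at hreg hcent ⊢
    have hpow : β x ^ orderOf x = 1 := by
      rw [hβpow, pow_orderOf_eq_one, hβ1]
    apply eq_one_of_memLocalIdeal_sub_one hM (β x) (orderOf x) hreg hpow
    -- `(β x - 1) * ω_χ(x)` lies in the ideal and `ω_χ(x)` does not
    have hA := not_memLocalIdeal_centralChar hM χ hχ P x hcent
    have hAint : Cfsg.MemLocalRing M (Cfsg.centralChar (χ : G → ℂ) x) :=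
      memLocalRing_of_isIntegral hM (IsIrrCharacter.isIntegral_centralChar' χ.2 x)
    have hβint : Cfsg.MemLocalRing M (β x - 1) :=
      MemLocalRing.sub hM (memLocalRing_of_isIntegral hM (IsCharacter.isIntegral_apply hβchar x))
        (memLocalRing_one hM)
    have h2 : Cfsg.centralChar (χ' : G → ℂ) x = β x * Cfsg.centralChar (χ : G → ℂ) x := by
      unfold Cfsg.centralChar
      rw [hβeq, Pi.mul_apply, Pi.mul_apply, hβ1, one_mul]
      ring
    have h3 : Cfsg.MemLocalIdeal M ((β x - 1) * Cfsg.centralChar (χ : G → ℂ) x) := by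
      have e : (β x - 1) * Cfsg.centralChar (χ : G → ℂ) x =
          (Cfsg.centralChar (fun _ : G => (1 : ℂ)) x - Cfsg.centralChar (χ : G → ℂ) x) -
            (Cfsg.centralChar (fun _ : G => (1 : ℂ)) x - Cfsg.centralChar (χ' : G → ℂ) x) := by
        rw [h2]; ring
      rw [e]
      exact MemLocalIdeal.sub hM (hχ x) (hχ' x)
    rcases memLocalIdeal_or_of_mul hM hβint hAint h3 with h4 | h4
    · exact h4
    · exact absurd h4 hA
  apply Subtype.ext
  rw [hβeq]
  funext g
  rw [Pi.mul_apply, hβone g, one_mul]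

/-- **Alperin–Dade** for the principal block. -/
theorem main [Fact p.Prime] (hM : Cfsg.IsPModular p M) (N : Subgroup G) [hN : N.Normal]
    (hidx : ¬ p ∣ N.index) (P : Sylow p G)
    (hsup : N ⊔ Subgroup.centralizer ((P : Subgroup G) : Set G) = ⊤) :
    (∀ χ ∈ Cfsg.principalBlock M G, ∃ θ ∈ Cfsg.principalBlock M ↥N,
        ∀ n : N, (χ : G → ℂ) n = (θ : N → ℂ) n) ∧
      ∀ θ ∈ Cfsg.principalBlock M ↥N, ∃! χ : Cfsg.IrrCharacter G,
        χ ∈ Cfsg.principalBlock M G ∧ ∀ n : N, (χ : G → ℂ) n = (θ : N → ℂ) n := by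
  classical
  have : Fintype N := Fintype.ofFinite N
  have hirr : ∀ χ ∈ Cfsg.principalBlock M G,
      Cfsg.IsIrrCharacter N (fun n : N => (χ : G → ℂ) n) := by
    intro χ hχ
    exact restrict_irreducible N χ (exists_ne_zero_coset hM N hidx P hsup χ hχ)
  constructor
  · intro χ hχ
    have h1 := hirr χ hχ
    refine ⟨⟨_, h1⟩, ?_, fun n => rfl⟩
    apply mem_principalBlock_of_constituent N hN hM χ hχ
    change Cfsg.classInner (fun n : N => (χ : G → ℂ) n) (fun n : N => (χ : G → ℂ) n) ≠ 0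
    rw [classInner_isIrrCharacter h1 h1, if_pos rfl]
    exact one_ne_zero
  · intro θ hθ
    obtain ⟨χ, hχ, hc⟩ := exists_mem_principalBlock_over hM N θ hθ
    have h1 := hirr χ hχ
    have heq : (fun n : N => (χ : G → ℂ) n) = (θ : N → ℂ) := by
      by_contra hne
      rw [classInner_isIrrCharacter h1 θ.2, if_neg hne] at hc
      exact hc rfl
    refine ⟨χ, ⟨hχ, fun n => congrFun heq n⟩, ?_⟩
    rintro χ' ⟨hχ', hres'⟩
    apply eq_of_restrict_eq hM N hidx P hsup χ χ' hχ hχ' h1
    intro n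
    rw [hres' n]
    exact (congrFun heq n).symm

end Cfsg.Agent.Lib.Helper3.AlpDade
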