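import Mathlib
import Cfsg.Prelude
import Cfsg.Agent.Lib.Helper5.FrobFix

/-!
# Aschbacher's theorem, linear case (S5630), part B1: the subfield normaliser lemma (class 5)
-/

set_option autoImplicit false
set_option maxHeartbeats 4000000
set_option maxRecDepth 100000
set_option linter.unusedVariables false
set_option linter.unusedSectionVars false
set_option linter.style.haveILetI false
set_option linter.deprecated false

namespace Cfsg.Agent.Lib.Helper3.AschB

open Matrix Cfsg Cfsg.Geo Polynomial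

section fix
variable {F : Type*} [Field F] [Fintype F]

/-- membership in the subfield with `q₀` elements via the `q₀`-power map -/
theorem mem_subfield_iff_pow (F₀ : Subfield F) (q₀ : ℕ) (hF₀ : Nat.card F₀ = q₀) (a : F) :
    a ∈ F₀ ↔ a ^ q₀ = a := by
  classical
  haveI : Fintype F₀ := Fintype.ofFinite _
  have hcard : Fintype.card F₀ = q₀ := by rw [Fintype.card_eq_nat_card, hF₀]
  constructor
  · intro ha
    have h1 := FiniteField.pow_card (⟨a, ha⟩ : F₀)
    rw [hcard] at h1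
    have h2 := congrArg (Subtype.val) h1
    simpa using h2
  · intro ha
    have hq₀ : 1 < q₀ := by
      rw [← hcard]
      exact Fintype.one_lt_card
    obtain ⟨f, hfdef⟩ : ∃ f : F[X], f = X ^ q₀ - X := ⟨_, rfl⟩
    have hf0 : f ≠ 0 := by
      rw [hfdef]
      exact FiniteField.X_pow_card_sub_X_ne_zero F hq₀
    have hdeg : f.natDegree = q₀ := by
      rw [hfdef]
      exact FiniteField.X_pow_card_sub_X_natDegree_eq F hq₀
    obtain ⟨S, hSdef⟩ : ∃ S : Finset F, S = (Finset.univ : Finset F₀).image Subtype.val :=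
      ⟨_, rfl⟩
    have hS : S.card = q₀ := by
      rw [hSdef, Finset.card_image_of_injective _ Subtype.val_injective, Finset.card_univ, hcard]
    have hroot : ∀ b : F, b ^ q₀ = b → b ∈ f.roots.toFinset := by
      intro b hb
      rw [Multiset.mem_toFinset, mem_roots hf0, hfdef, IsRoot, eval_sub, eval_pow, eval_X, hb,
        sub_self]
    have hSroots : S ⊆ f.roots.toFinset := by
      intro b hb
      rw [hSdef] at hb
      obtain ⟨b', -, rfl⟩ := Finset.mem_image.mp hb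
      apply hroot
      have h1 := FiniteField.pow_card b'
      rw [hcard] at h1
      have h2 := congrArg (Subtype.val) h1
      simpa using h2
    have hcardroots : f.roots.toFinset.card ≤ q₀ :=
      (Multiset.toFinset_card_le _).trans ((Polynomial.card_roots' f).trans hdeg.le)
    have heq : S = f.roots.toFinset :=
      Finset.eq_of_subset_of_card_le hSroots (by rw [hS]; exact hcardroots)
    have ha' := hroot a ha
    rw [← heq, hSdef] at ha'
    obtain ⟨b, -, rfl⟩ := Finset.mem_image.mp ha'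
    exact b.2

/-- a ring endomorphism of `F` whose fixed points are exactly the subfield `F₀` -/
theorem exists_fixing_hom (F₀ : Subfield F) :
    ∃ φ : F →+* F, (∀ a, φ a = a ^ Nat.card F₀) ∧ ∀ a, φ a = a ↔ a ∈ F₀ := by
  classical
  haveI : Fintype F₀ := Fintype.ofFinite _
  refine ⟨(FiniteField.frobeniusAlgHom ↥F₀ F).toRingHom, ?_, ?_⟩
  · intro a
    show a ^ Fintype.card ↥F₀ = _
    rw [Fintype.card_eq_nat_card]
  · intro a
    show a ^ Fintype.card ↥F₀ = a ↔ _
    rw [Fintype.card_eq_nat_card]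
    exact (mem_subfield_iff_pow F₀ _ rfl a).symm

end fix

section L0c
variable {F : Type*} [Field F] [Fintype F] {ι : Type} [Fintype ι] [DecidableEq ι]

/-- **Lemma S (subfield normaliser).** If the commutant of `X` consists of scalars and `B X B⁻¹`
has all its entries in the subfield `F₀`, then every element normalising `X` lies in the
subfield group of `F₀` for the basis change `B⁻¹`. -/
theorem normalizer_le_subfield (X : Subgroup (GL ι F))
    (hC : ∀ M : Matrix ι ι F, (∀ s ∈ matrixSet X, M * s = s * M) →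
      ∃ c : F, M = c • (1 : Matrix ι ι F))
    (F₀ : Subfield F) (B : GL ι F)
    (hB : ∀ s ∈ matrixSet X, ∀ i j,
      ((B : Matrix ι ι F) * s * ((B⁻¹ : GL ι F) : Matrix ι ι F)) i j ∈ F₀)
    (g : GL ι F) (hg : ∀ x ∈ X, g * x * g⁻¹ ∈ X) : g ∈ subfieldSubgroup F₀ B⁻¹ := by
  classical
  rcases isEmpty_or_nonempty ι with hι | hι
  · have : g = 1 := by
      apply Units.ext
      ext i
      exact (hι.false i).elim
    rw [this]
    exact Subgroup.one_mem _
  obtain ⟨φ, -, hφ⟩ := exists_fixing_hom F₀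
  -- conjugate everything by `B`
  obtain ⟨g', hg'⟩ : ∃ g' : GL ι F, g' = B * g * B⁻¹ := ⟨_, rfl⟩
  have hfix : ∀ x ∈ X, ((B * x * B⁻¹ : GL ι F) : Matrix ι ι F).map φ =
      ((B * x * B⁻¹ : GL ι F) : Matrix ι ι F) := by
    intro x hx
    ext i j
    rw [Matrix.map_apply, hφ]
    have := hB (x : Matrix ι ι F) ⟨x, hx, rfl⟩ i j
    rw [Units.val_mul, Units.val_mul]
    exact this
  -- `N = g'⁻¹ φ(g')` commutes with `B X B⁻¹`
  obtain ⟨N, hN⟩ : ∃ N : Matrix ι ι F, N = ((g'⁻¹ : GL ι F) : Matrix ι ι F) *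
      (g' : Matrix ι ι F).map φ := ⟨_, rfl⟩
  have hmapmul : ∀ M M' : Matrix ι ι F, (M * M').map φ = M.map φ * M'.map φ := fun M M' =>
    Matrix.map_mul
  have hcomm : ∀ x ∈ X, N * ((B * x * B⁻¹ : GL ι F) : Matrix ι ι F) =
      ((B * x * B⁻¹ : GL ι F) : Matrix ι ι F) * N := by
    intro x hx
    have hy := hg x hx
    -- g' x' = y' g'
    have e1 : g' * (B * x * B⁻¹) = (B * (g * x * g⁻¹) * B⁻¹) * g' := by
      rw [hg']
      group
    have e2 : (g' : Matrix ι ι F) * ((B * x * B⁻¹ : GL ι F) : Matrix ι ι F) =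
        ((B * (g * x * g⁻¹) * B⁻¹ : GL ι F) : Matrix ι ι F) * (g' : Matrix ι ι F) := by
      rw [← Units.val_mul, ← Units.val_mul, e1]
    have e3 := congrArg (fun M : Matrix ι ι F => M.map φ) e2
    simp only [hmapmul] at e3
    rw [hfix x hx, hfix _ hy] at e3
    -- g'⁻¹ y' = x' g'⁻¹
    have e4 : g'⁻¹ * (B * (g * x * g⁻¹) * B⁻¹) = (B * x * B⁻¹) * g'⁻¹ := by
      rw [hg']
      group
    have e5 : ((g'⁻¹ : GL ι F) : Matrix ι ι F) *
        ((B * (g * x * g⁻¹) * B⁻¹ : GL ι F) : Matrix ι ι F) =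
        ((B * x * B⁻¹ : GL ι F) : Matrix ι ι F) * ((g'⁻¹ : GL ι F) : Matrix ι ι F) := by
      rw [← Units.val_mul, ← Units.val_mul, e4]
    rw [hN, Matrix.mul_assoc, e3, ← Matrix.mul_assoc, e5, Matrix.mul_assoc]
  -- hence `N` is a scalar
  have hNs : ∃ c : F, N = c • (1 : Matrix ι ι F) := by
    obtain ⟨c, hc⟩ := hC (((B⁻¹ : GL ι F) : Matrix ι ι F) * N * (B : Matrix ι ι F)) (by
      rintro s ⟨x, hx, rfl⟩
      have h1 := hcomm x hx
      rw [Units.val_mul, Units.val_mul] at h1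
      have hBB : ((B⁻¹ : GL ι F) : Matrix ι ι F) * (B : Matrix ι ι F) = 1 := by
        rw [← Units.val_mul, inv_mul_cancel, Units.val_one]
      have hBB' : (B : Matrix ι ι F) * ((B⁻¹ : GL ι F) : Matrix ι ι F) = 1 := by
        rw [← Units.val_mul, mul_inv_cancel, Units.val_one]
      calc ((B⁻¹ : GL ι F) : Matrix ι ι F) * N * (B : Matrix ι ι F) * (x : Matrix ι ι F)
          = ((B⁻¹ : GL ι F) : Matrix ι ι F) * (N * ((B : Matrix ι ι F) * (x : Matrix ι ι F) *
              ((B⁻¹ : GL ι F) : Matrix ι ι F))) * (B : Matrix ι ι F) := by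
            simp only [Matrix.mul_assoc]
            rw [hBB, Matrix.mul_one]
        _ = ((B⁻¹ : GL ι F) : Matrix ι ι F) * (((B : Matrix ι ι F) * (x : Matrix ι ι F) *
              ((B⁻¹ : GL ι F) : Matrix ι ι F)) * N) * (B : Matrix ι ι F) := by rw [h1]
        _ = (x : Matrix ι ι F) * (((B⁻¹ : GL ι F) : Matrix ι ι F) * N * (B : Matrix ι ι F)) := by
            simp only [Matrix.mul_assoc]
            rw [← Matrix.mul_assoc ((B⁻¹ : GL ι F) : Matrix ι ι F) (B : Matrix ι ι F), hBB,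
              Matrix.one_mul])
    refine ⟨c, ?_⟩
    have hBB' : (B : Matrix ι ι F) * ((B⁻¹ : GL ι F) : Matrix ι ι F) = 1 := by
      rw [← Units.val_mul, mul_inv_cancel, Units.val_one]
    calc N = (B : Matrix ι ι F) * (((B⁻¹ : GL ι F) : Matrix ι ι F) * N * (B : Matrix ι ι F)) *
          ((B⁻¹ : GL ι F) : Matrix ι ι F) := by
          simp only [Matrix.mul_assoc]
          rw [hBB', Matrix.mul_one, ← Matrix.mul_assoc, hBB', Matrix.one_mul]
      _ = c • (1 : Matrix ι ι F) := by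
          rw [hc, Matrix.mul_smul, Matrix.smul_mul, Matrix.mul_one, hBB']
  obtain ⟨c, hc⟩ := hNs
  -- `φ(g') = c g'`
  have hφg : (g' : Matrix ι ι F).map φ = c • (g' : Matrix ι ι F) := by
    have h1 : (g' : Matrix ι ι F) * N = (g' : Matrix ι ι F).map φ := by
      rw [hN, ← Matrix.mul_assoc, ← Units.val_mul, mul_inv_cancel, Units.val_one, Matrix.one_mul]
    rw [← h1, hc, Matrix.mul_smul, Matrix.mul_one]
  -- a nonzero entry
  obtain ⟨i₀, j₀, hij⟩ : ∃ i j, (g' : Matrix ι ι F) i j ≠ 0 := by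
    by_contra hcon
    push Not at hcon
    have h0 : (g' : Matrix ι ι F) = 0 := by
      ext i j
      exact hcon i j
    have h1 : (g' : Matrix ι ι F) * ((g'⁻¹ : GL ι F) : Matrix ι ι F) = 1 := by
      rw [← Units.val_mul, mul_inv_cancel, Units.val_one]
    rw [h0, Matrix.zero_mul] at h1
    obtain ⟨i⟩ := hι
    have := congrFun (congrFun h1 i) i
    simp at this
  obtain ⟨a, ha⟩ : ∃ a : F, a = (g' : Matrix ι ι F) i₀ j₀ := ⟨_, rfl⟩
  have ha0 : a ≠ 0 := by rw [ha]; exact hij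
  have hφa : φ a = c * a := by
    have := congrFun (congrFun hφg i₀) j₀
    rw [Matrix.map_apply, Matrix.smul_apply, smul_eq_mul, ← ha] at this
    exact this
  have hc0 : c ≠ 0 := by
    intro h0
    rw [h0, zero_mul] at hφa
    exact ha0 ((map_eq_zero φ).1 hφa)
  have hent : ∀ k l, a⁻¹ * (g' : Matrix ι ι F) k l ∈ F₀ := by
    intro k l
    rw [← hφ, map_mul, map_inv₀, hφa]
    have := congrFun (congrFun hφg k) l
    rw [Matrix.map_apply, Matrix.smul_apply, smul_eq_mul] at this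
    rw [this]
    field_simp
  -- the matrix over `F₀`
  obtain ⟨K₀, hK₀⟩ : ∃ K₀ : Matrix ι ι ↥F₀, K₀ = Matrix.of (fun k l =>
      (⟨a⁻¹ * (g' : Matrix ι ι F) k l, hent k l⟩ : ↥F₀)) := ⟨_, rfl⟩
  have hK₀map : K₀.map F₀.subtype = a⁻¹ • (g' : Matrix ι ι F) := by
    ext k l
    rw [Matrix.map_apply, hK₀, Matrix.of_apply, Matrix.smul_apply, smul_eq_mul]
    rfl
  have hdet : K₀.det ≠ 0 := by
    intro h0
    have h1 : (K₀.map F₀.subtype).det = 0 := by
      rw [← RingHom.mapMatrix_apply, ← RingHom.map_det, h0, map_zero]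
    rw [hK₀map, Matrix.det_smul] at h1
    have h3 : (g' : Matrix ι ι F).det ≠ 0 := by
      have := (Matrix.isUnit_iff_isUnit_det _).1 g'.isUnit
      exact this.ne_zero
    rcases mul_eq_zero.1 h1 with h | h
    · exact (pow_ne_zero _ (inv_ne_zero ha0)) h
    · exact h3 h
  obtain ⟨k, hk⟩ : ∃ k : GL ι ↥F₀, (k : Matrix ι ι ↥F₀) = K₀ :=
    ⟨Matrix.GeneralLinearGroup.mkOfDetNeZero K₀ hdet, rfl⟩
  obtain ⟨z, hz⟩ : ∃ z : GL ι F, z ∈ scalars ι F ∧ (z : Matrix ι ι F) = a • (1 : Matrix ι ι F) := by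
    refine ⟨Units.map (Matrix.scalar ι : F →+* Matrix ι ι F).toMonoidHom (Units.mk0 a ha0),
      ⟨Units.mk0 a ha0, rfl⟩, ?_⟩
    show Matrix.scalar ι a = _
    rw [Matrix.smul_one_eq_diagonal]
    rfl
  have hg'eq : g' = z * Matrix.GeneralLinearGroup.map (F₀.subtype : ↥F₀ →+* F) k := by
    apply Units.ext
    rw [Units.val_mul, hz.2]
    show _ = a • (1 : Matrix ι ι F) * ((k : Matrix ι ι ↥F₀).map F₀.subtype)
    rw [hk, hK₀map, Matrix.smul_mul, Matrix.one_mul, smul_smul, mul_inv_cancel₀ ha0, one_smul]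
  unfold subfieldSubgroup
  rw [Subgroup.mem_map]
  refine ⟨g', ?_, ?_⟩
  · rw [hg'eq]
    apply Subgroup.mul_mem
    · exact Subgroup.mem_sup_right hz.1
    · exact Subgroup.mem_sup_left ⟨k, rfl⟩
  · show B⁻¹ * g' * B⁻¹⁻¹ = g
    rw [hg']
    group

end L0c

section class5
variable {F : Type*} [Field F] [Fintype F]

/-- a proper subfield lies in a subfield of prime index -/
theorem exists_prime_index_subfield (F₀ : Subfield F) (hF₀ : F₀ ≠ ⊤) :
    ∃ (F₁ : Subfield F) (r : ℕ), r.Prime ∧ F₀ ≤ F₁ ∧ Fintype.card F = Nat.card F₁ ^ r := by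
  classical
  haveI : Fintype F₀ := Fintype.ofFinite _
  obtain ⟨q₀, hq₀⟩ : ∃ q₀ : ℕ, q₀ = Nat.card F₀ := ⟨_, rfl⟩
  have hq₀' : Fintype.card ↥F₀ = q₀ := by rw [hq₀, Fintype.card_eq_nat_card]
  obtain ⟨m, hm⟩ : ∃ m : ℕ, m = Module.finrank ↥F₀ F := ⟨_, rfl⟩
  have hcard : Fintype.card F = q₀ ^ m := by
    rw [hm, ← hq₀']
    exact Module.card_eq_pow_finrank
  have hq₀2 : 2 ≤ q₀ := by
    rw [← hq₀']
    exact Fintype.one_lt_card
  have hm1 : m ≠ 1 := by
    intro h1
    rw [h1, pow_one] at hcard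
    apply hF₀
    rw [eq_top_iff]
    intro a _
    have hinj : Function.Injective (F₀.subtype : ↥F₀ → F) := Subtype.val_injective
    have hbij : Function.Bijective (F₀.subtype : ↥F₀ → F) := by
      rw [Fintype.bijective_iff_injective_and_card]
      exact ⟨hinj, by rw [hq₀', hcard]⟩
    obtain ⟨b, hb⟩ := hbij.2 a
    rw [← hb]
    exact b.2
  have hm0 : m ≠ 0 := by
    intro h0
    rw [h0, pow_zero] at hcard
    have := Fintype.one_lt_card (α := F)
    omega
  obtain ⟨r, hr, hrm⟩ := Nat.exists_prime_and_dvd hm1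
  obtain ⟨k, hk⟩ := hrm
  have hk0 : k ≠ 0 := by
    rintro rfl
    rw [mul_zero] at hk
    exact hm0 hk
  obtain ⟨q₁, hq₁⟩ : ∃ q₁ : ℕ, q₁ = q₀ ^ k := ⟨_, rfl⟩
  have hcard1 : Fintype.card F = q₁ ^ r := by
    rw [hcard, hq₁, ← pow_mul, hk, mul_comm]
  have hpp₀ : IsPrimePow q₀ := by
    rw [← hq₀']
    exact FiniteField.isPrimePow_card ↥F₀
  have hpp₁ : IsPrimePow q₁ := by
    rw [hq₁]
    exact hpp₀.pow hk0
  obtain ⟨ψ, hψ, -⟩ := Cfsg.Agent.Lib.Helper5.FrobFix.exists_frob hpp₁ hr.ne_zero hcard1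
  refine ⟨RingHom.eqLocusField ψ (RingHom.id F), r, hr, ?_, ?_⟩
  · intro a ha
    show ψ a = a
    rw [hψ, hq₁]
    have h1 := (mem_subfield_iff_pow F₀ q₀ hq₀.symm a).1 ha
    clear hk hcard1 hpp₁ hψ hq₁ hk0
    induction k with
    | zero => rw [pow_zero, pow_one]
    | succ k ih => rw [pow_succ, pow_mul, ih, h1]
  · have h2 : 2 ≤ q₁ := by
      rw [hq₁]
      calc 2 ≤ q₀ := hq₀2
        _ = q₀ ^ 1 := (pow_one _).symm
        _ ≤ q₀ ^ k := Nat.pow_le_pow_right (by omega) (by omega)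
    have h3 := Cfsg.Agent.Lib.Helper5.FrobFix.card_fixed (K := F) h2 hcard1
    rw [hcard1]
    congr 1
    rw [← h3]
    apply Nat.card_congr
    refine Equiv.subtypeEquivRight ?_
    intro a
    show _ ↔ ψ a = a
    rw [hψ]

/-- **class 5**: if `X` has scalar commutant and is realisable over a proper subfield, every group
normalising `X` lies in a member of class 5 -/
theorem class5_of_realisable (n : ℕ) (X : Subgroup (GL (Fin n) F))
    (hC : ∀ M : Matrix (Fin n) (Fin n) F, (∀ s ∈ matrixSet X, M * s = s * M) →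
      ∃ c : F, M = c • (1 : Matrix (Fin n) (Fin n) F))
    (F₀ : Subfield F) (hF₀ : F₀ ≠ ⊤) (hR : RealisableOver F₀ (matrixSet X))
    (H : Subgroup (GL (Fin n) F)) (hH : ∀ h ∈ H, ∀ x ∈ X, h * x * h⁻¹ ∈ X) :
    ∃ M : Subgroup (GL (Fin n) F), InLinearClass n F M ∧ H ≤ M := by
  obtain ⟨B, hB⟩ := hR
  obtain ⟨F₁, r, hr, hle, hcard⟩ := exists_prime_index_subfield F₀ hF₀
  refine ⟨subfieldSubgroup F₁ B⁻¹, ?_, ?_⟩
  · right; right; right; right; right; right; left
    exact ⟨F₁, r, B⁻¹, hr, hcard, rfl⟩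
  · intro h hh
    exact normalizer_le_subfield X hC F₁ B (fun s hs i j => hle (hB s hs i j)) h (hH h hh)

end class5

end Cfsg.Agent.Lib.Helper3.AschB
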