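import Mathlib
import Cfsg.Prelude

/-!
# Aschbacher's theorem, linear case (S5630), part B2: uniqueness of invariant forms (Lemma U)
-/

set_option autoImplicit false
set_option maxHeartbeats 4000000
set_option maxRecDepth 100000
set_option linter.unusedVariables false
set_option linter.unusedSectionVars false
set_option linter.style.haveILetI false
set_option linter.deprecated false

namespace Cfsg.Agent.Lib.Helper3.AschB

open Matrix Cfsg Cfsg.Geo

section gram
variable {F : Type*} [Field F] {ι : Type} [Fintype ι] [DecidableEq ι]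

/-- `f(u, v) = uᵀ A σ(v)` -/
def HasGram (σ : F ≃+* F) (f : (ι → F) → (ι → F) → F) (A : Matrix ι ι F) : Prop :=
  ∀ u v, f u v = u ⬝ᵥ (A *ᵥ (σ ∘ v))

theorem ext_of_dot (M N : Matrix ι ι F) (h : ∀ u w, u ⬝ᵥ (M *ᵥ w) = u ⬝ᵥ (N *ᵥ w)) : M = N := by
  ext i j
  have := h (Pi.single i 1) (Pi.single j 1)
  simpa using this

theorem sigma_mulVec (σ : F ≃+* F) (s : Matrix ι ι F) (v : ι → F) :
    σ ∘ (s *ᵥ v) = (s.map σ) *ᵥ (σ ∘ v) := by
  funext i
  exact RingHom.map_mulVec (σ : F →+* F) s v i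

theorem dot_mulVec_left (s : Matrix ι ι F) (u w : ι → F) :
    (s *ᵥ u) ⬝ᵥ w = u ⬝ᵥ (sᵀ *ᵥ w) := by
  rw [dotProduct_comm, Matrix.dotProduct_mulVec, ← Matrix.mulVec_transpose, dotProduct_comm]

theorem form_apply_mulVec {σ : F ≃+* F} {f : (ι → F) → (ι → F) → F} {A : Matrix ι ι F}
    (hf : HasGram σ f A) (s : Matrix ι ι F) (u v : ι → F) :
    f (s *ᵥ u) (s *ᵥ v) = u ⬝ᵥ ((sᵀ * A * s.map σ) *ᵥ (σ ∘ v)) := by
  rw [hf, sigma_mulVec, dot_mulVec_left, Matrix.mulVec_mulVec, Matrix.mulVec_mulVec,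
    Matrix.mul_assoc]

theorem scaled_iff {σ : F ≃+* F} {f : (ι → F) → (ι → F) → F} {A : Matrix ι ι F}
    (hf : HasGram σ f A) (s : Matrix ι ι F) (c : F) :
    (∀ u v, f (s *ᵥ u) (s *ᵥ v) = c * f u v) ↔ sᵀ * A * s.map σ = c • A := by
  constructor
  · intro h
    apply ext_of_dot
    intro u w
    have h1 := h u (σ.symm ∘ w)
    rw [form_apply_mulVec hf, hf] at h1
    have e : σ ∘ (σ.symm ∘ w) = w := by
      funext i
      simp
    rw [e] at h1
    rw [h1, Matrix.smul_mulVec, dotProduct_smul, smul_eq_mul]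
  · intro h u v
    rw [form_apply_mulVec hf, h, hf, Matrix.smul_mulVec, dotProduct_smul, smul_eq_mul]

theorem map_mul_inv (σ : F ≃+* F) (x : GL ι F) :
    (x : Matrix ι ι F).map σ * ((x⁻¹ : GL ι F) : Matrix ι ι F).map σ = 1 := by
  have h : ((x : Matrix ι ι F) * ((x⁻¹ : GL ι F) : Matrix ι ι F)).map (σ : F →+* F) =
      (x : Matrix ι ι F).map (σ : F →+* F) * ((x⁻¹ : GL ι F) : Matrix ι ι F).map (σ : F →+* F) :=
    Matrix.map_mul
  rw [← Units.val_mul, mul_inv_cancel, Units.val_one] at h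
  have h' : (x : Matrix ι ι F).map σ * ((x⁻¹ : GL ι F) : Matrix ι ι F).map σ =
      (1 : Matrix ι ι F).map (σ : F →+* F) := h.symm
  rw [h']
  exact Matrix.map_one _ (map_zero _) (map_one _)

/-- two invariant twisted Gram matrices are proportional -/
theorem gram_scalar (σ : F ≃+* F) (X : Subgroup (GL ι F))
    (hC : ∀ M : Matrix ι ι F, (∀ s ∈ matrixSet X, M * s = s * M) →
      ∃ c : F, M = c • (1 : Matrix ι ι F))
    (A A' : Matrix ι ι F) (hA : IsUnit A)
    (h1 : ∀ x ∈ X, (x : Matrix ι ι F)ᵀ * A * (x : Matrix ι ι F).map σ = A)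
    (h2 : ∀ x ∈ X, (x : Matrix ι ι F)ᵀ * A' * (x : Matrix ι ι F).map σ = A') :
    ∃ c : F, A' = c • A := by
  obtain ⟨Au, hAu⟩ := hA
  obtain ⟨Ai, hAi⟩ : ∃ Ai : Matrix ι ι F, Ai = ((Au⁻¹ : (Matrix ι ι F)ˣ) : Matrix ι ι F) :=
    ⟨_, rfl⟩
  have hAAi : A * Ai = 1 := by rw [hAi, ← hAu, ← Units.val_mul, mul_inv_cancel, Units.val_one]
  have hAiA : Ai * A = 1 := by rw [hAi, ← hAu, ← Units.val_mul, inv_mul_cancel, Units.val_one]
  obtain ⟨M, hM⟩ : ∃ M : Matrix ι ι F, M = A' * Ai := ⟨_, rfl⟩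
  have hMA : M * A = A' := by rw [hM, Matrix.mul_assoc, hAiA, Matrix.mul_one]
  have hcomm : ∀ s ∈ matrixSet X, Mᵀ * s = s * Mᵀ := by
    rintro s ⟨x, hx, rfl⟩
    have e1 : M * (x : Matrix ι ι F)ᵀ * (A * (x : Matrix ι ι F).map σ) = A' := by
      rw [Matrix.mul_assoc, ← Matrix.mul_assoc _ A, h1 x hx, hMA]
    have e2 : (x : Matrix ι ι F)ᵀ * M * (A * (x : Matrix ι ι F).map σ) = A' := by
      rw [Matrix.mul_assoc, ← Matrix.mul_assoc M A, hMA, ← Matrix.mul_assoc, h2 x hx]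
    have e3 : M * (x : Matrix ι ι F)ᵀ = (x : Matrix ι ι F)ᵀ * M := by
      have e4 : M * (x : Matrix ι ι F)ᵀ * (A * (x : Matrix ι ι F).map σ) =
          (x : Matrix ι ι F)ᵀ * M * (A * (x : Matrix ι ι F).map σ) := by rw [e1, e2]
      have e5 := congrArg (fun Z : Matrix ι ι F =>
        Z * (((x⁻¹ : GL ι F) : Matrix ι ι F).map σ * Ai)) e4
      simp only [Matrix.mul_assoc] at e5
      rw [← Matrix.mul_assoc ((x : Matrix ι ι F).map σ), map_mul_inv, Matrix.one_mul, hAAi,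
        Matrix.mul_one, Matrix.mul_one] at e5
      exact e5
    have e6 := congrArg Matrix.transpose e3
    rw [Matrix.transpose_mul, Matrix.transpose_mul, Matrix.transpose_transpose] at e6
    exact e6.symm
  obtain ⟨c, hc⟩ := hC Mᵀ hcomm
  refine ⟨c, ?_⟩
  have hM' : M = c • (1 : Matrix ι ι F) := by
    have := congrArg Matrix.transpose hc
    rw [Matrix.transpose_transpose, Matrix.transpose_smul, Matrix.transpose_one] at this
    exact this
  rw [← hMA, hM', Matrix.smul_mul, Matrix.one_mul]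

/-- **Lemma U.** an element normalising a group with scalar commutant which fixes the form `f`
is a similarity of `f` -/
theorem sim_of_gram [Nonempty ι] (σ : F ≃+* F) (f : (ι → F) → (ι → F) → F) (A : Matrix ι ι F)
    (hf : HasGram σ f A) (hA : IsUnit A) (X : Subgroup (GL ι F))
    (hC : ∀ M : Matrix ι ι F, (∀ s ∈ matrixSet X, M * s = s * M) →
      ∃ c : F, M = c • (1 : Matrix ι ι F))
    (hfix : FixesForm (matrixSet X) f) (g : GL ι F) (hg : ∀ x ∈ X, g * x * g⁻¹ ∈ X) :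
    g ∈ similarityGroup f := by
  have h1 : ∀ x ∈ X, (x : Matrix ι ι F)ᵀ * A * (x : Matrix ι ι F).map σ = A := by
    intro x hx
    have := (scaled_iff hf (x : Matrix ι ι F) 1).1 (fun u v => by
      rw [one_mul]
      exact hfix _ ⟨x, hx, rfl⟩ u v)
    rw [one_smul] at this
    exact this
  obtain ⟨A', hA'⟩ : ∃ A' : Matrix ι ι F,
      A' = (g : Matrix ι ι F)ᵀ * A * (g : Matrix ι ι F).map σ := ⟨_, rfl⟩
  have hmm : ∀ M N : Matrix ι ι F, (M * N).map σ = M.map σ * N.map σ := fun M N =>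
    Matrix.map_mul (f := (σ : F →+* F))
  have h2 : ∀ x ∈ X, (x : Matrix ι ι F)ᵀ * A' * (x : Matrix ι ι F).map σ = A' := by
    intro x hx
    have hy := hg x hx
    have e1 : g * x = (g * x * g⁻¹) * g := by group
    have e2 : (g : Matrix ι ι F) * (x : Matrix ι ι F) =
        ((g * x * g⁻¹ : GL ι F) : Matrix ι ι F) * (g : Matrix ι ι F) := by
      rw [← Units.val_mul, ← Units.val_mul, ← e1]
    calc (x : Matrix ι ι F)ᵀ * A' * (x : Matrix ι ι F).map σ
        = ((g : Matrix ι ι F) * (x : Matrix ι ι F))ᵀ * A *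
            ((g : Matrix ι ι F) * (x : Matrix ι ι F)).map σ := by
          rw [hA', Matrix.transpose_mul, hmm]
          simp only [Matrix.mul_assoc]
      _ = (g : Matrix ι ι F)ᵀ * (((g * x * g⁻¹ : GL ι F) : Matrix ι ι F)ᵀ * A *
            ((g * x * g⁻¹ : GL ι F) : Matrix ι ι F).map σ) * (g : Matrix ι ι F).map σ := by
          rw [e2, Matrix.transpose_mul, hmm]
          simp only [Matrix.mul_assoc]
      _ = A' := by rw [h1 _ hy, hA']
  obtain ⟨c, hc⟩ := gram_scalar σ X hC A A' hA h1 h2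
  have hc0 : c ≠ 0 := by
    intro h0
    rw [h0, zero_smul] at hc
    -- `A' = 0` but `A'` is invertible
    obtain ⟨Au, hAu⟩ := hA
    have hgt : (g : Matrix ι ι F)ᵀ * ((g⁻¹ : GL ι F) : Matrix ι ι F)ᵀ = 1 := by
      rw [← Matrix.transpose_mul, ← Units.val_mul, inv_mul_cancel, Units.val_one,
        Matrix.transpose_one]
    have hgt' : ((g⁻¹ : GL ι F) : Matrix ι ι F)ᵀ * (g : Matrix ι ι F)ᵀ = 1 := by
      rw [← Matrix.transpose_mul, ← Units.val_mul, mul_inv_cancel, Units.val_one,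
        Matrix.transpose_one]
    have hA0 : A = 0 := by
      have e : A = ((g⁻¹ : GL ι F) : Matrix ι ι F)ᵀ * A' *
          ((g⁻¹ : GL ι F) : Matrix ι ι F).map σ := by
        rw [hA']
        simp only [Matrix.mul_assoc]
        rw [map_mul_inv, Matrix.mul_one, ← Matrix.mul_assoc, hgt', Matrix.one_mul]
      rw [e, hc, Matrix.mul_zero, Matrix.zero_mul]
    have : (Au : Matrix ι ι F) = 0 := by rw [hAu, hA0]
    exact Au.ne_zero this
  refine ⟨Units.mk0 c hc0, ?_⟩
  rw [Units.val_mk0]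
  exact (scaled_iff hf (g : Matrix ι ι F) c).2 (by rw [← hA', hc])

/-- the Gram matrix of a function of two vectors -/
def gramM (f : (ι → F) → (ι → F) → F) : Matrix ι ι F :=
  Matrix.of fun i j => f (Pi.single i 1) (Pi.single j 1)

theorem hasGram_of_bilinear (f : (ι → F) → (ι → F) → F) (hf : IsBilinearForm f) :
    HasGram (RingEquiv.refl F) f (gramM f) := by
  intro u v
  obtain ⟨L, hL⟩ : ∃ L : (ι → F) →ₗ[F] (ι → F) →ₗ[F] F, ∀ x y, L x y = f x y :=
    ⟨LinearMap.mk₂ F f hf.add_left hf.smul_left hf.add_right hf.smul_right, fun x y => rfl⟩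
  have h1 : Matrix.toLinearMap₂' F (LinearMap.toMatrix₂' F L) = L :=
    Matrix.toLinearMap₂'_toMatrix' L
  have h2 : LinearMap.toMatrix₂' F L = gramM f := by
    ext i j
    rw [LinearMap.toMatrix₂'_apply, hL]
    rfl
  rw [← hL, ← h1, Matrix.toLinearMap₂'_apply', h2]
  rfl

theorem isUnit_of_nondeg (σ : F ≃+* F) (f : (ι → F) → (ι → F) → F) (A : Matrix ι ι F)
    (hf : HasGram σ f A) (hnd : IsNondegenerateForm f) : IsUnit A := by
  rw [← Matrix.vecMul_injective_iff_isUnit]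
  intro u u' h
  by_contra hne
  have hsub : u - u' ≠ 0 := sub_ne_zero.2 hne
  obtain ⟨x, hx⟩ := (hnd _ hsub).2
  apply hx
  have h' : u ᵥ* A = u' ᵥ* A := h
  rw [hf, Matrix.dotProduct_mulVec, Matrix.sub_vecMul, h', sub_self, zero_dotProduct]

end gram

end Cfsg.Agent.Lib.Helper3.AschB
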