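import Mathlib
import Cfsg.Prelude
import Cfsg.Agent.Lib.Helper3.AschB1
import Cfsg.Agent.Lib.Helper3.AschB2
import Cfsg.Agent.Lib.Helper5.AltForm

/-!
# Aschbacher's theorem, linear case (S5630), part B3: class 8 conclusions and the residual case
-/

set_option autoImplicit false
set_option maxHeartbeats 4000000
set_option maxRecDepth 100000
set_option linter.unusedVariables false
set_option linter.unusedSectionVars false
set_option linter.style.haveILetI false
set_option linter.deprecated false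

namespace Cfsg.Agent.Lib.Helper3.AschB

open Matrix Cfsg Cfsg.Geo

section forms
variable {F : Type*} [Field F] {ι : Type} [Fintype ι] [DecidableEq ι]

theorem sigma_comp_add (σ : F ≃+* F) (x y : ι → F) : σ ∘ (x + y) = σ ∘ x + σ ∘ y := by
  funext i
  simp

theorem sigma_comp_smul (σ : F ≃+* F) (c : F) (x : ι → F) : σ ∘ (c • x) = σ c • (σ ∘ x) := by
  funext i
  simp

/-- a unitary form has a twisted Gram matrix -/
theorem hasGram_of_unitary (σ : F ≃+* F) (f : (ι → F) → (ι → F) → F) (hf : IsUnitaryForm σ f) :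
    ∃ A : Matrix ι ι F, HasGram σ f A := by
  obtain ⟨ft, hft⟩ : ∃ ft : (ι → F) → (ι → F) → F, ∀ u v, ft u v = f u (σ ∘ v) :=
    ⟨fun u v => f u (σ ∘ v), fun u v => rfl⟩
  have hb : IsBilinearForm ft := by
    constructor
    · intro x y v
      rw [hft, hft, hft, hf.add_left]
    · intro c x v
      rw [hft, hft, hf.smul_left]
    · intro v x y
      rw [hft, hft, hft, sigma_comp_add, hf.herm, hf.add_left, map_add, ← hf.herm, ← hf.herm]
    · intro c v x
      rw [hft, hft, sigma_comp_smul, hf.herm, hf.smul_left, map_mul, hf.involutive, ← hf.herm]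
  refine ⟨gramM ft, ?_⟩
  intro u v
  have h1 := hasGram_of_bilinear ft hb u (σ ∘ v)
  rw [hft] at h1
  have e : σ ∘ (σ ∘ v) = v := by
    funext i
    exact hf.involutive (v i)
  rw [e] at h1
  rw [h1]
  rfl

theorem fixesForm_polar (S : Set (Matrix ι ι F)) (Q : (ι → F) → F) (h : FixesQuadForm S Q) :
    FixesForm S (QuadraticMap.polar Q) := by
  intro s hs u v
  unfold QuadraticMap.polar
  rw [← Matrix.mulVec_add, h s hs, h s hs, h s hs]

theorem polar_self (Q : (ι → F) → F) (hQ : IsNondegenerateQuadraticForm Q) (v : ι → F) :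
    QuadraticMap.polar Q v v = 2 * Q v := by
  unfold QuadraticMap.polar
  have h1 : v + v = (2 : F) • v := (two_smul F v).symm
  rw [h1, hQ.smul]
  ring

/-- in characteristic two the polar form of a nondegenerate quadratic form is symplectic -/
theorem symplectic_polar (h2 : (2 : F) = 0) (Q : (ι → F) → F)
    (hQ : IsNondegenerateQuadraticForm Q) : IsSymplecticForm (QuadraticMap.polar Q) := by
  have hneg : ∀ a : F, -a = a := by
    intro a
    have : a + a = 0 := by rw [← two_mul, h2, zero_mul]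
    exact neg_eq_of_add_eq_zero_left this
  refine ⟨hQ.polar_bilinear, ?_, ?_, hQ.nondegenerate⟩
  · intro v w
    rw [hneg]
    exact QuadraticMap.polar_comm Q v w
  · intro v
    rw [polar_self Q hQ, h2, zero_mul]

/-- a nondegenerate symplectic form only exists in even dimension -/
theorem even_of_symplectic (f : (ι → F) → (ι → F) → F) (hf : IsSymplecticForm f) :
    Even (Fintype.card ι) := by
  obtain ⟨L, hL⟩ : ∃ L : LinearMap.BilinForm F (ι → F), ∀ x y, L x y = f x y :=
    ⟨LinearMap.mk₂ F f hf.bilinear.add_left hf.bilinear.smul_left hf.bilinear.add_right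
      hf.bilinear.smul_right, fun x y => rfl⟩
  have halt : L.IsAlt := fun x => by rw [hL]; exact hf.alternating x
  obtain ⟨m, e, f', -, -, -, hm⟩ := Cfsg.Agent.Lib.Helper5.AltForm.exists_hyp_family
    (Fintype.card ι) L halt (Module.finrank_fintype_fun_eq_card F)
  have hker : LinearMap.ker L = ⊥ := by
    rw [Submodule.eq_bot_iff]
    intro x hx
    by_contra hx0
    obtain ⟨y, hy⟩ := (hf.nondegenerate x hx0).2
    apply hy
    rw [← hL, LinearMap.mem_ker.1 hx]
    rfl
  rw [hker, finrank_bot, add_zero] at hm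
  exact ⟨m, by omega⟩

end forms

section class8
variable {F : Type*} [Field F] [Fintype F]

theorem two_ne_zero_imp_odd (h2 : (2 : F) ≠ 0) : Odd (Fintype.card F) := by
  by_contra hodd
  rw [Nat.not_odd_iff_even, Nat.even_iff] at hodd
  have h := FiniteField.even_card_iff_char_two.2 hodd
  apply h2
  have := ringChar.Nat.cast_ringChar (R := F)
  rw [h] at this
  exact_mod_cast this

variable (n : ℕ) (hn : 3 ≤ n) (X H : Subgroup (GL (Fin n) F))
  (hC : ∀ M : Matrix (Fin n) (Fin n) F, (∀ s ∈ matrixSet X, M * s = s * M) →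
      ∃ c : F, M = c • (1 : Matrix (Fin n) (Fin n) F))
  (hH : ∀ h ∈ H, ∀ x ∈ X, h * x * h⁻¹ ∈ X)

include hn hC hH

/-- **class 8, symplectic** -/
theorem class8_symplectic (f : (Fin n → F) → (Fin n → F) → F) (hf : IsSymplecticForm f)
    (hfix : FixesForm (matrixSet X) f) :
    ∃ M : Subgroup (GL (Fin n) F), InLinearClass n F M ∧ H ≤ M := by
  haveI : Nonempty (Fin n) := ⟨⟨0, by omega⟩⟩
  have heven : Even n := by
    have := even_of_symplectic f hf
    rwa [Fintype.card_fin] at this
  have h4 : 4 ≤ n := by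
    obtain ⟨k, hk⟩ := heven
    omega
  refine ⟨similarityGroup f, ?_, ?_⟩
  · right; right; right; right; right; right; right; right; right; left
    exact ⟨f, hf, heven, h4, rfl⟩
  · intro h hh
    have hG := hasGram_of_bilinear f hf.bilinear
    exact sim_of_gram (RingEquiv.refl F) f _ hG
      (isUnit_of_nondeg _ f _ hG hf.nondegenerate) X hC hfix h (hH h hh)

/-- **class 8, unitary** -/
theorem class8_unitary (σ : F ≃+* F) (f : (Fin n → F) → (Fin n → F) → F)
    (hf : IsUnitaryForm σ f) (hfix : FixesForm (matrixSet X) f) :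
    ∃ M : Subgroup (GL (Fin n) F), InLinearClass n F M ∧ H ≤ M := by
  haveI : Nonempty (Fin n) := ⟨⟨0, by omega⟩⟩
  refine ⟨similarityGroup f, ?_, ?_⟩
  · right; right; right; right; right; right; right; right; right; right; left
    exact ⟨σ, f, hf, hn, rfl⟩
  · intro h hh
    obtain ⟨A, hG⟩ := hasGram_of_unitary σ f hf
    exact sim_of_gram σ f A hG (isUnit_of_nondeg σ f A hG hf.nondegenerate) X hC hfix h (hH h hh)

/-- **class 8, quadratic** (both parities of `q`) -/
theorem class8_quadratic (Q : (Fin n → F) → F) (hQ : IsNondegenerateQuadraticForm Q)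
    (hfix : FixesQuadForm (matrixSet X) Q) :
    ∃ M : Subgroup (GL (Fin n) F), InLinearClass n F M ∧ H ≤ M := by
  haveI : Nonempty (Fin n) := ⟨⟨0, by omega⟩⟩
  by_cases h2 : (2 : F) = 0
  · exact class8_symplectic n hn X H hC hH _ (symplectic_polar h2 Q hQ)
      (fixesForm_polar _ Q hfix)
  · refine ⟨quadSimilarityGroup Q, ?_, ?_⟩
    · right; right; right; right; right; right; right; right; right; right; right
      exact ⟨Q, hQ, two_ne_zero_imp_odd h2, hn, rfl⟩
    · intro h hh
      have hG := hasGram_of_bilinear _ hQ.polar_bilinear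
      have hs := sim_of_gram (RingEquiv.refl F) _ _ hG
        (isUnit_of_nondeg _ _ _ hG hQ.nondegenerate) X hC (fixesForm_polar _ Q hfix) h (hH h hh)
      obtain ⟨c, hc⟩ := hs
      refine ⟨c, fun v => ?_⟩
      have h1 := hc v v
      rw [polar_self Q hQ, polar_self Q hQ] at h1
      have : (2 : F) * Q ((h : Matrix (Fin n) (Fin n) F) *ᵥ v) = 2 * ((c : F) * Q v) := by
        rw [h1]; ring
      exact mul_left_cancel₀ h2 this

end class8

section residual
open scoped commutatorElement
variable {F : Type*} [Field F] [Fintype F]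

theorem scalars_central {ι : Type} [Fintype ι] [DecidableEq ι] (z g : GL ι F)
    (hz : z ∈ scalars ι F) : z * g = g * z := by
  obtain ⟨c, hc⟩ := (mem_scalars_iff z).1 hz
  apply Units.ext
  rw [Units.val_mul, Units.val_mul, hc, Matrix.smul_mul, Matrix.one_mul, Matrix.mul_smul,
    Matrix.mul_one]

theorem commElem_central_right {G : Type*} [Group G] (u y b : G) (hb : ∀ g, b * g = g * b) :
    ⁅u, b * y⁆ = ⁅u, y⁆ := by
  rw [commutatorElement_def, commutatorElement_def]
  have e1 : u * (b * y) = b * (u * y) := by rw [← mul_assoc, ← hb u, mul_assoc]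
  rw [e1, _root_.mul_inv_rev]
  have e2 : b * (u * y) * u⁻¹ * (y⁻¹ * b⁻¹) = b * (u * y * u⁻¹ * y⁻¹) * b⁻¹ := by group
  rw [e2, hb, mul_inv_cancel_right]

theorem commElem_central_left {G : Type*} [Group G] (x v a : G) (ha : ∀ g, a * g = g * a) :
    ⁅a * x, v⁆ = ⁅x, v⁆ := by
  have h1 := commElem_central_right v x a ha
  have h2 : ⁅a * x, v⁆ = ⁅v, a * x⁆⁻¹ := (commutatorElement_inv v (a * x)).symm
  rw [h2, h1, commutatorElement_inv]

theorem conj_commElem_of_central {G : Type*} [Group G] (h x y a b : G)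
    (ha : ∀ g, a * g = g * a) (hb : ∀ g, b * g = g * b)
    (hx : h * x * h⁻¹ = a * x) (hy : h * y * h⁻¹ = b * y) : h * ⁅x, y⁆ = ⁅x, y⁆ * h := by
  have e : h * ⁅x, y⁆ * h⁻¹ = ⁅h * x * h⁻¹, h * y * h⁻¹⁆ := by
    simp only [commutatorElement_def]
    group
  rw [hx, hy, commElem_central_left _ _ _ ha, commElem_central_right _ _ _ hb] at e
  calc h * ⁅x, y⁆ = (h * ⁅x, y⁆ * h⁻¹) * h := by group
    _ = ⁅x, y⁆ * h := by rw [e]

/-- **3.1: the residual case.** -/
theorem residual_of_simple (n : ℕ) (hn : 3 ≤ n) (H P : Subgroup (GL (Fin n) F))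
    (hneg : ¬ ∃ M : Subgroup (GL (Fin n) F), InLinearClass n F M ∧ H ≤ M)
    (hle : P ≤ H) (hnorm : ∀ h ∈ H, ∀ x ∈ P, h * x * h⁻¹ ∈ P) (hperf : ⁅P, P⁆ = P)
    (hsimple : IsSimpleGroup (P ⧸ (scalars (Fin n) F).subgroupOf P))
    (hnonab : ¬ IsMulCommutative (P ⧸ (scalars (Fin n) F).subgroupOf P))
    (hirr : ActsAbsolutelyIrreducibly (matrixSet P)) : InLinearResidualClass H := by
  haveI : Nonempty (Fin n) := ⟨⟨0, by omega⟩⟩
  have hC := hirr.2
  refine ⟨P, ⟨hle, hnorm, hperf, hsimple, hnonab, ?_, hirr, ?_⟩, ?_, ?_, ?_⟩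
  · -- centraliser modulo scalars is scalar
    intro h hh hcs
    have hK : ⁅P, P⁆ ≤ Subgroup.centralizer {h} := by
      rw [Subgroup.commutator_le]
      intro x hx y hy
      refine Subgroup.mem_centralizer_iff.2 ?_
      intro h' hh'
      rw [Set.mem_singleton_iff] at hh'
      subst hh'
      obtain ⟨a, ha⟩ : ∃ a, a = h' * x * h'⁻¹ * x⁻¹ := ⟨_, rfl⟩
      obtain ⟨b, hb⟩ : ∃ b, b = h' * y * h'⁻¹ * y⁻¹ := ⟨_, rfl⟩
      have haz : a ∈ scalars (Fin n) F := by rw [ha]; exact hcs x hx
      have hbz : b ∈ scalars (Fin n) F := by rw [hb]; exact hcs y hy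
      have hx' : h' * x * h'⁻¹ = a * x := by rw [ha]; group
      have hy' : h' * y * h'⁻¹ = b * y := by rw [hb]; group
      exact conj_commElem_of_central h' x y a b (fun g => scalars_central a g haz)
        (fun g => scalars_central b g hbz) hx' hy'
    rw [hperf] at hK
    have hcomm : ∀ s ∈ matrixSet P, (h : Matrix (Fin n) (Fin n) F) * s = s * h := by
      rintro s ⟨z, hz, rfl⟩
      have h1 := Subgroup.mem_centralizer_iff.1 (hK hz) h (Set.mem_singleton h)
      have h2 := congrArg (fun u : GL (Fin n) F => (u : Matrix (Fin n) (Fin n) F)) h1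
      simpa only [Units.val_mul] using h2
    obtain ⟨c, hc⟩ := hC _ hcomm
    have hc0 : c ≠ 0 := by
      intro h0
      have h1 : ((h : GL (Fin n) F) : Matrix (Fin n) (Fin n) F) ≠ 0 := Units.ne_zero h
      apply h1
      rw [hc, h0, zero_smul]
    rw [mem_scalars_iff]
    exact ⟨Units.mk0 c hc0, by rw [hc]; rfl⟩
  · -- no proper subfield
    intro F₀ hF₀ hR
    exact hneg (class5_of_realisable n P hC F₀ hF₀ hR H hnorm)
  · rintro ⟨Q, hQ, hfix⟩
    exact hneg (class8_quadratic n hn P H hC hnorm Q hQ hfix)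
  · rintro ⟨f, hf, hfix⟩
    exact hneg (class8_symplectic n hn P H hC hnorm f hf hfix)
  · rintro ⟨σ, f, hf, hfix⟩
    exact hneg (class8_unitary n hn P H hC hnorm σ f hf hfix)

end residual

end Cfsg.Agent.Lib.Helper3.AschB
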