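import Mathlib

set_option autoImplicit false

namespace Cfsg.Agent.Lib.Helper3

/-- The automorphism group of an elementary abelian `p`-group of order `p ^ r`, written
additively, has order dividing `∏_{i<r} (p ^ r - p ^ i)`. -/
theorem card_addAut_dvd_of_elementary {W : Type*} [AddCommGroup W] [Finite W] (p r : ℕ)
    [Fact p.Prime] (hexp : ∀ w : W, p • w = 0) (hcard : Nat.card W = p ^ r) :
    Nat.card (AddAut W) ∣ ∏ i ∈ Finset.range r, (p ^ r - p ^ i) := by
  classical
  have hp : p.Prime := Fact.out
  letI inst : Module (ZMod p) W := AddCommGroup.zmodModule (n := p) hexp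
  haveI i2 : Module.Finite (ZMod p) W := Module.Finite.of_finite
  have hfin : Module.finrank (ZMod p) W = r := by
    have h1 : Nat.card W = Nat.card (ZMod p) ^ Module.finrank (ZMod p) W :=
      @Module.natCard_eq_pow_finrank (ZMod p) W _ _ _ i2
    rw [hcard, Nat.card_zmod] at h1
    exact (Nat.pow_right_injective hp.two_le h1).symm
  -- the set of bases
  let L := {s : Fin r → W // LinearIndependent (ZMod p) s}
  have hLcard : Nat.card L = ∏ i ∈ Finset.range r, (p ^ r - p ^ i) := by
    have := card_linearIndependent (K := ZMod p) (V := W) (k := r) (by rw [hfin])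
    rw [this, hfin, ZMod.card, Finset.prod_range (fun i => p ^ r - p ^ i)]
  -- the action
  let toLin : AddAut W → (W →ₗ[ZMod p] W) := fun a =>
    (a : W ≃+ W).toAddMonoidHom.toZModLinearMap p
  have htoLin : ∀ (a : AddAut W) (w : W), (toLin a) w = a w := fun a w => rfl
  have hinj : ∀ a : AddAut W, LinearMap.ker (toLin a) = ⊥ := by
    intro a
    rw [LinearMap.ker_eq_bot]
    intro w₁ w₂ h
    rw [htoLin, htoLin] at h
    exact a.injective h
  letI : MulAction (Multiplicative (AddAut W)) L :=
    { smul := fun a s => ⟨fun i => (toLin (Multiplicative.toAdd a)) (s.1 i),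
        s.2.map' (toLin (Multiplicative.toAdd a)) (hinj _)⟩
      one_smul := fun s => by
        apply Subtype.ext
        funext i
        change (toLin (0 : AddAut W)) (s.1 i) = s.1 i
        rw [htoLin]; rfl
      mul_smul := fun a b s => by
        apply Subtype.ext
        funext i
        change (toLin (Multiplicative.toAdd a + Multiplicative.toAdd b)) (s.1 i) =
          (toLin (Multiplicative.toAdd a)) ((toLin (Multiplicative.toAdd b)) (s.1 i))
        rw [htoLin, htoLin, htoLin]; rfl }
  have hfree : ∀ s : L, MulAction.stabilizer (Multiplicative (AddAut W)) s = ⊥ := by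
    intro s
    rw [eq_bot_iff]
    intro a' ha
    rw [Subgroup.mem_bot]
    set a : AddAut W := Multiplicative.toAdd a' with ha'
    have h1 : ∀ i, (toLin a) (s.1 i) = s.1 i := by
      intro i
      have h2 : a' • s = s := ha
      exact congrArg (fun t : L => t.1 i) h2
    have hspan : Submodule.span (ZMod p) (Set.range s.1) = ⊤ :=
      s.2.span_eq_top_of_card_eq_finrank' (by rw [Fintype.card_fin, hfin])
    have h3 : toLin a = LinearMap.id := by
      apply LinearMap.ext_on hspan
      rintro _ ⟨i, rfl⟩
      exact h1 i
    have h4 : a = 0 := by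
      ext v
      have := LinearMap.congr_fun h3 v
      rw [htoLin] at this
      exact this
    have h5 : a' = Multiplicative.ofAdd a := rfl
    rw [h5, h4]; rfl
  have e := MulAction.selfEquivOrbitsQuotientProd hfree
  have hc := Nat.card_congr e
  rw [Nat.card_prod, hLcard] at hc
  have h6 : Nat.card (Multiplicative (AddAut W)) = Nat.card (AddAut W) := rfl
  rw [h6] at hc
  exact Dvd.intro_left _ hc.symm

/-- The automorphism group of an elementary abelian `p`-group of order `p ^ r` has order
dividing `∏_{i<r} (p ^ r - p ^ i)`. -/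
theorem card_mulAut_dvd_of_elementary {V : Type*} [CommGroup V] [Finite V] (p r : ℕ)
    [Fact p.Prime] (hexp : ∀ v : V, v ^ p = 1) (hcard : Nat.card V = p ^ r) :
    Nat.card (MulAut V) ∣ ∏ i ∈ Finset.range r, (p ^ r - p ^ i) := by
  haveI : Finite (Additive V) := inferInstanceAs (Finite V)
  have h1 : Nat.card (MulAut V) = Nat.card (AddAut (Additive V)) := by
    have h2 : Nat.card (AddAut (Additive V)) = Nat.card (Additive (MulAut V)) :=
      Nat.card_congr (AddAutAdditive V).toEquiv
    rw [h2]; rfl
  rw [h1]
  apply card_addAut_dvd_of_elementary p r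
  · intro w
    change Additive.ofMul ((Additive.toMul w) ^ p) = 0
    rw [hexp]; rfl
  · exact hcard

end Cfsg.Agent.Lib.Helper3
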