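import Mathlib
import Cfsg.Prelude.Def_PLocal
import Cfsg.Agent.Lib.Helper3.PU2769a
import Cfsg.Agent.Lib.Helper3.PU2770c

set_option autoImplicit false

namespace Cfsg.Agent.Lib.Helper3.PU2769

section N
variable {G : Type*} [Group G]
open scoped commutatorElement

/-- the join of two elementwise commuting abelian subgroups is abelian -/
theorem comm_sup_of_comm (A B : Subgroup G) (hA : ∀ a ∈ A, ∀ b ∈ A, a * b = b * a)
    (hB : ∀ a ∈ B, ∀ b ∈ B, a * b = b * a) (hAB : ∀ a ∈ A, ∀ b ∈ B, a * b = b * a) :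
    ∀ a ∈ A ⊔ B, ∀ b ∈ A ⊔ B, a * b = b * a := by
  have hAc : A ≤ Subgroup.centralizer ((A ⊔ B : Subgroup G) : Set G) := by
    rw [Subgroup.le_centralizer_iff]
    refine sup_le ?_ ?_
    · intro a ha x hx; exact hA x hx a ha
    · intro b hb x hx; exact hAB x hx b hb
  have hBc : B ≤ Subgroup.centralizer ((A ⊔ B : Subgroup G) : Set G) := by
    rw [Subgroup.le_centralizer_iff]
    refine sup_le ?_ ?_
    · intro a ha x hx; exact (hAB a ha x hx).symm
    · intro b hb x hx; exact hB x hx b hb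
  have h : A ⊔ B ≤ Subgroup.centralizer ((A ⊔ B : Subgroup G) : Set G) := sup_le hAc hBc
  intro a ha b hb
  exact (h hb a ha)

/-- a subgroup of `S` that is abelian and centralises a member `A` of `𝒜(S)` lies in `A` -/
theorem le_of_commute_mem_maxAbG [Finite G] (S A B : Subgroup G) (hA : A ∈ maxAbG S) (hBS : B ≤ S)
    (hB : ∀ a ∈ B, ∀ b ∈ B, a * b = b * a) (hAB : ∀ a ∈ A, ∀ b ∈ B, a * b = b * a) : B ≤ A := by
  have hab := comm_sup_of_comm A B hA.2.1 hB hAB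
  have hle : Nat.card (A ⊔ B : Subgroup G) ≤ Nat.card A := hA.2.2 (A ⊔ B) (sup_le hA.1 hBS) hab
  have heq : A = A ⊔ B := by
    apply Subgroup.eq_of_le_of_card_ge le_sup_left hle
  rw [heq]; exact le_sup_right

/-- (N2) `Z(S)` lies in every member of `𝒜(S)` -/
theorem center_le_of_mem_maxAbG [Finite G] (S A : Subgroup G) (hA : A ∈ maxAbG S) :
    S ⊓ Subgroup.centralizer (S : Set G) ≤ A := by
  apply le_of_commute_mem_maxAbG S A _ hA inf_le_left
  · intro a ha b hb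
    exact (ha.2 b hb.1).symm
  · intro a ha b hb
    exact (hb.2 a (hA.1 ha))

/-- `Z(J(S))` is abelian -/
theorem centerThompsonAOf_comm (S : Subgroup G) :
    ∀ a ∈ Cfsg.centerThompsonAOf S, ∀ b ∈ Cfsg.centerThompsonAOf S, a * b = b * a := by
  intro a ha b hb
  exact (ha.2 b hb.1).symm

theorem centerThompsonAOf_le_thompsonAOf (S : Subgroup G) :
    Cfsg.centerThompsonAOf S ≤ Cfsg.thompsonSubgroupAOf S := inf_le_left

theorem centerThompsonAOf_le (S : Subgroup G) : Cfsg.centerThompsonAOf S ≤ S :=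
  inf_le_left.trans (thompsonAOf_le S)

/-- (N3) `Z(J(S))` lies in every member of `𝒜(S)` -/
theorem centerThompsonAOf_le_of_mem_maxAbG [Finite G] (S A : Subgroup G) (hA : A ∈ maxAbG S) :
    Cfsg.centerThompsonAOf S ≤ A := by
  apply le_of_commute_mem_maxAbG S A _ hA (centerThompsonAOf_le S) (centerThompsonAOf_comm S)
  intro a ha b hb
  exact (hb.2 a (le_thompsonAOf S A hA ha))

/-- `Z(S) ≤ Z(J(S))` -/
theorem center_le_centerThompsonAOf [Finite G] (S : Subgroup G) :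
    S ⊓ Subgroup.centralizer (S : Set G) ≤ Cfsg.centerThompsonAOf S := by
  obtain ⟨A, hA⟩ := maxAbG_nonempty S
  refine le_inf ((center_le_of_mem_maxAbG S A hA).trans (le_thompsonAOf S A hA)) ?_
  exact inf_le_right.trans (Subgroup.centralizer_le (by exact_mod_cast thompsonAOf_le S))

/-- `C_W(A) = A ∩ W` for `A ∈ 𝒜(S)` and an abelian `W ≤ S` -/
theorem inf_centralizer_eq_inf [Finite G] (S A W : Subgroup G) (hA : A ∈ maxAbG S) (hWS : W ≤ S)
    (hW : ∀ a ∈ W, ∀ b ∈ W, a * b = b * a) :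
    W ⊓ Subgroup.centralizer (A : Set G) = A ⊓ W := by
  apply le_antisymm
  · refine le_inf ?_ inf_le_left
    apply le_of_commute_mem_maxAbG S A _ hA (inf_le_left.trans hWS)
    · intro a ha b hb; exact hW a ha.1 b hb.1
    · intro a ha b hb; exact (hb.2 a ha)
  · refine le_inf inf_le_right ?_
    intro x hx a ha
    exact hA.2.1 a ha x hx.1

/-- (N4), `g = 1`: `(A ∩ Q) W ∈ 𝒜(S)` when `W ≤ Z(Q)`, `Q ≤ S` and `|A : A ∩ Q| ≤ |W : C_W(A)|` -/
theorem inf_sup_mem_maxAbG [Finite G] (S A Q W : Subgroup G) (hA : A ∈ maxAbG S) (hQS : Q ≤ S)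
    (hWQ : W ≤ Q) (hWc : W ≤ Subgroup.centralizer (Q : Set G))
    (hKP : Nat.card A * Nat.card (W ⊓ Subgroup.centralizer (A : Set G) : Subgroup G) ≤
      Nat.card (A ⊓ Q : Subgroup G) * Nat.card W) :
    (A ⊓ Q) ⊔ W ∈ maxAbG S := by
  have hWab : ∀ a ∈ W, ∀ b ∈ W, a * b = b * a := fun a ha b hb => (hWc ha b (hWQ hb)).symm
  have hab : ∀ a ∈ (A ⊓ Q) ⊔ W, ∀ b ∈ (A ⊓ Q) ⊔ W, a * b = b * a := by
    apply comm_sup_of_comm
    · intro a ha b hb; exact hA.2.1 a ha.1 b hb.1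
    · exact hWab
    · intro a ha b hb; exact (hWc hb a ha.2)
  refine ⟨sup_le (inf_le_right.trans hQS) (hWQ.trans hQS), hab, ?_⟩
  intro B hBS hB
  refine (hA.2.2 B hBS hB).trans ?_
  rw [inf_centralizer_eq_inf S A W hA (hWQ.trans hQS) hWab] at hKP
  have h1 := Cfsg.Agent.Lib.Helper3.PU2770.card_mul_card_le_sup_inf (A ⊓ Q) W
  have h2 : (A ⊓ Q) ⊓ W = A ⊓ W := by
    rw [inf_assoc, inf_eq_right.2 hWQ]
  rw [h2] at h1
  have hpos : 0 < Nat.card (A ⊓ W : Subgroup G) := Nat.card_pos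
  have h3 : Nat.card A * Nat.card (A ⊓ W : Subgroup G) ≤
      Nat.card ((A ⊓ Q) ⊔ W : Subgroup G) * Nat.card (A ⊓ W : Subgroup G) := hKP.trans h1
  exact Nat.le_of_mul_le_mul_right h3 hpos

/-- a conjugate of a member of `𝒜(S)` that still lies in `S` is a member of `𝒜(S)` -/
theorem map_conj_mem_maxAbG_of_le (S B : Subgroup G) (g : G) (hB : B ∈ maxAbG S)
    (hle : B.map (MulAut.conj g).toMonoidHom ≤ S) :
    B.map (MulAut.conj g).toMonoidHom ∈ maxAbG S := by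
  refine ⟨hle, ?_, ?_⟩
  · rintro _ ⟨a, ha, rfl⟩ _ ⟨b, hb, rfl⟩
    simp only [MulEquiv.coe_toMonoidHom]
    rw [← map_mul, ← map_mul, hB.2.1 a ha b hb]
  · intro C hCS hC
    rw [Subgroup.card_map_of_injective (MulAut.conj g).injective]
    exact hB.2.2 C hCS hC

/-- conjugating `(A ∩ Q) W` with `Q`, `W` normal -/
theorem map_conj_inf_sup (A Q W : Subgroup G) [hQ : Q.Normal] [hW : W.Normal] (g : G) :
    ((A ⊓ Q) ⊔ W).map (MulAut.conj g).toMonoidHom =
      (A.map (MulAut.conj g).toMonoidHom ⊓ Q) ⊔ W := by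
  have hQg : Q.map (MulAut.conj g).toMonoidHom = Q := by
    have := Subgroup.map_equiv_normalizer_eq Q (MulAut.conj g)
    apply le_antisymm
    · rintro _ ⟨x, hx, rfl⟩; exact hQ.conj_mem x hx g
    · intro x hx
      refine ⟨g⁻¹ * x * g, ?_, ?_⟩
      · have := hQ.conj_mem x hx g⁻¹; simpa using this
      · simp [MulAut.conj_apply, mul_assoc]
  have hWg : W.map (MulAut.conj g).toMonoidHom = W := by
    apply le_antisymm
    · rintro _ ⟨x, hx, rfl⟩; exact hW.conj_mem x hx g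
    · intro x hx
      refine ⟨g⁻¹ * x * g, ?_, ?_⟩
      · have := hW.conj_mem x hx g⁻¹; simpa using this
      · simp [MulAut.conj_apply, mul_assoc]
  rw [Subgroup.map_sup, hWg]
  congr 1
  rw [Subgroup.map_inf_eq _ _ _ (MulAut.conj g).injective, hQg]

/-- (N4), general `g` -/
theorem conj_inf_sup_mem_maxAbG [Finite G] (S A Q W : Subgroup G) [Q.Normal] [W.Normal]
    (hA : A ∈ maxAbG S) (hQS : Q ≤ S)
    (hWQ : W ≤ Q) (hWc : W ≤ Subgroup.centralizer (Q : Set G))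
    (hKP : Nat.card A * Nat.card (W ⊓ Subgroup.centralizer (A : Set G) : Subgroup G) ≤
      Nat.card (A ⊓ Q : Subgroup G) * Nat.card W) (g : G) :
    (A.map (MulAut.conj g).toMonoidHom ⊓ Q) ⊔ W ∈ maxAbG S := by
  rw [← map_conj_inf_sup]
  apply map_conj_mem_maxAbG_of_le S _ g (inf_sup_mem_maxAbG S A Q W hA hQS hWQ hWc hKP)
  rw [map_conj_inf_sup]
  exact sup_le (inf_le_right.trans hQS) (hWQ.trans hQS)

/-- (F3) abstract: if `U ≤ (A' ∩ Q) W` with `A'` abelian and `W` normal then `[U, A'] ≤ W` -/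
theorem commutator_le_of_le_inf_sup (U A' Q W : Subgroup G) [hW : W.Normal]
    (hA' : ∀ a ∈ A', ∀ b ∈ A', a * b = b * a) (hU : U ≤ (A' ⊓ Q) ⊔ W) :
    ⁅U, A'⁆ ≤ W := by
  rw [Subgroup.commutator_le]
  intro u hu c hc
  have hu' := hU hu
  rw [Subgroup.mem_sup_of_normal_right] at hu'
  obtain ⟨b, hb, w, hw, rfl⟩ := hu'
  -- ⁅b*w, c⁆ = b * ⁅w,c⁆ * b⁻¹
  have hbc : b * c = c * b := hA' b hb.1 c hc
  have hbc' : c * b⁻¹ = b⁻¹ * c := by
    have : b⁻¹ * (b * c) * b⁻¹ = b⁻¹ * (c * b) * b⁻¹ := by rw [hbc]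
    simpa [mul_assoc] using this
  have key : ⁅b * w, c⁆ = b * ⁅w, c⁆ * b⁻¹ := by
    rw [commutatorElement_def, commutatorElement_def]
    calc b * w * c * (b * w)⁻¹ * c⁻¹ = b * w * c * w⁻¹ * (b⁻¹ * c⁻¹) := by
          rw [mul_inv_rev]; group
      _ = b * w * c * w⁻¹ * (c⁻¹ * b⁻¹) := by
          congr 1
          rw [← mul_inv_rev, ← mul_inv_rev, hbc]
      _ = b * (w * c * w⁻¹ * c⁻¹) * b⁻¹ := by group
  rw [key]
  apply hW.conj_mem
  rw [commutatorElement_def]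
  have h1 : c * w⁻¹ * c⁻¹ ∈ W := hW.conj_mem _ (W.inv_mem hw) c
  have : w * c * w⁻¹ * c⁻¹ = w * (c * w⁻¹ * c⁻¹) := by group
  rw [this]
  exact W.mul_mem hw h1

/-- (F3): `[Z(J(S)), A^g] ≤ W` -/
theorem commutator_centerThompsonAOf_conj_le [Finite G] (S A Q W : Subgroup G) [Q.Normal] [W.Normal]
    (hA : A ∈ maxAbG S) (hQS : Q ≤ S)
    (hWQ : W ≤ Q) (hWc : W ≤ Subgroup.centralizer (Q : Set G))
    (hKP : Nat.card A * Nat.card (W ⊓ Subgroup.centralizer (A : Set G) : Subgroup G) ≤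
      Nat.card (A ⊓ Q : Subgroup G) * Nat.card W) (g : G) :
    ⁅Cfsg.centerThompsonAOf S, A.map (MulAut.conj g).toMonoidHom⁆ ≤ W := by
  apply commutator_le_of_le_inf_sup _ _ Q W
  · rintro _ ⟨a, ha, rfl⟩ _ ⟨b, hb, rfl⟩
    simp only [MulEquiv.coe_toMonoidHom]
    rw [← map_mul, ← map_mul, hA.2.1 a ha b hb]
  · exact centerThompsonAOf_le_of_mem_maxAbG S _
      (conj_inf_sup_mem_maxAbG S A Q W hA hQS hWQ hWc hKP g)

end N

end Cfsg.Agent.Lib.Helper3.PU2769
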