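import Mathlib
import Cfsg.Prelude.Def_PLocal
import Cfsg.Agent.Lib.Helper3.PU2769a
import Cfsg.Agent.Lib.Helper3.PU2769b

set_option autoImplicit false

namespace Cfsg.Agent.Lib.Helper3.PU2769

section N5
variable {G : Type*} [Group G]
open scoped commutatorElement

/-- an element normalising `H` and `K` normalises `H ⊔ K` -/
theorem mem_normalizer_sup (H K : Subgroup G) (x : G) (hH : x ∈ Subgroup.normalizer (H : Set G))
    (hK : x ∈ Subgroup.normalizer (K : Set G)) :
    x ∈ Subgroup.normalizer ((H ⊔ K : Subgroup G) : Set G) := by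
  have key : ∀ y : G, y ∈ Subgroup.normalizer (H : Set G) → y ∈ Subgroup.normalizer (K : Set G) →
      ∀ g ∈ H ⊔ K, y * g * y⁻¹ ∈ H ⊔ K := by
    intro y hyH hyK g hg
    have hle : (H ⊔ K).map (MulAut.conj y).toMonoidHom ≤ H ⊔ K := by
      rw [Subgroup.map_sup]
      refine sup_le ?_ ?_
      · rintro _ ⟨a, ha, rfl⟩
        exact Subgroup.mem_sup_left ((Subgroup.mem_normalizer_iff.1 hyH a).1 ha)
      · rintro _ ⟨a, ha, rfl⟩
        exact Subgroup.mem_sup_right ((Subgroup.mem_normalizer_iff.1 hyK a).1 ha)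
    exact hle ⟨g, hg, rfl⟩
  rw [Subgroup.mem_normalizer_iff]
  intro g
  refine ⟨key x hH hK g, fun h => ?_⟩
  have := key x⁻¹ (Subgroup.inv_mem _ hH) (Subgroup.inv_mem _ hK) _ h
  simpa [mul_assoc] using this

/-- a subgroup `B` with `[U, B] ≤ W`, `W` normal, normalises `U ⊔ W` -/
theorem le_normalizer_sup_of_commutator_le (U B W : Subgroup G) [hW : W.Normal]
    (h : ⁅U, B⁆ ≤ W) : B ≤ Subgroup.normalizer ((U ⊔ W : Subgroup G) : Set G) := by
  have key : ∀ c ∈ B, ∀ g ∈ U ⊔ W, c * g * c⁻¹ ∈ U ⊔ W := by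
    intro c hc g hg
    have hle : (U ⊔ W).map (MulAut.conj c).toMonoidHom ≤ U ⊔ W := by
      rw [Subgroup.map_sup]
      refine sup_le ?_ ?_
      · rintro _ ⟨u, hu, rfl⟩
        show c * u * c⁻¹ ∈ U ⊔ W
        -- c u c⁻¹ = u * (u⁻¹ c u c⁻¹) = u * ⁅u⁻¹, c⁆
        have h1 : ⁅u⁻¹, c⁆ ∈ W := h (Subgroup.commutator_mem_commutator (U.inv_mem hu) hc)
        have h2 : c * u * c⁻¹ = u * ⁅u⁻¹, c⁆ := by
          rw [commutatorElement_def]; group
        rw [h2]
        exact Subgroup.mul_mem _ (Subgroup.mem_sup_left hu) (Subgroup.mem_sup_right h1)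
      · rintro _ ⟨w, hw, rfl⟩
        exact Subgroup.mem_sup_right (hW.conj_mem w hw c)
    exact hle ⟨g, hg, rfl⟩
  intro c hc
  rw [Subgroup.mem_normalizer_iff]
  intro g
  refine ⟨key c hc g, fun h => ?_⟩
  have := key c⁻¹ (B.inv_mem hc) _ h
  simpa [mul_assoc] using this

/-- (N5a) `Ŵ = Z(J(S)) W` is abelian -/
theorem what_comm [Finite G] (S A Q W : Subgroup G) (hA : A ∈ maxAbG S) (hQS : Q ≤ S)
    (hWQ : W ≤ Q) (hWc : W ≤ Subgroup.centralizer (Q : Set G))
    (hKP : Nat.card A * Nat.card (W ⊓ Subgroup.centralizer (A : Set G) : Subgroup G) ≤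
      Nat.card (A ⊓ Q : Subgroup G) * Nat.card W) :
    ∀ a ∈ Cfsg.centerThompsonAOf S ⊔ W, ∀ b ∈ Cfsg.centerThompsonAOf S ⊔ W, a * b = b * a := by
  have hmem := inf_sup_mem_maxAbG S A Q W hA hQS hWQ hWc hKP
  have hle : Cfsg.centerThompsonAOf S ⊔ W ≤ (A ⊓ Q) ⊔ W :=
    sup_le (centerThompsonAOf_le_of_mem_maxAbG S _ hmem) le_sup_right
  intro a ha b hb
  exact hmem.2.1 a (hle ha) b (hle hb)

/-- (N5b) every `A^g` normalises `Ŵ` -/
theorem conj_le_normalizer_what [Finite G] (S A Q W : Subgroup G) [Q.Normal] [W.Normal]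
    (hA : A ∈ maxAbG S) (hQS : Q ≤ S)
    (hWQ : W ≤ Q) (hWc : W ≤ Subgroup.centralizer (Q : Set G))
    (hKP : Nat.card A * Nat.card (W ⊓ Subgroup.centralizer (A : Set G) : Subgroup G) ≤
      Nat.card (A ⊓ Q : Subgroup G) * Nat.card W) (g : G) :
    A.map (MulAut.conj g).toMonoidHom ≤
      Subgroup.normalizer ((Cfsg.centerThompsonAOf S ⊔ W : Subgroup G) : Set G) :=
  le_normalizer_sup_of_commutator_le _ _ W
    (commutator_centerThompsonAOf_conj_le S A Q W hA hQS hWQ hWc hKP g)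

/-- (N5c) `S` normalises `Ŵ` -/
theorem le_normalizer_what (S W : Subgroup G) [hW : W.Normal] :
    S ≤ Subgroup.normalizer ((Cfsg.centerThompsonAOf S ⊔ W : Subgroup G) : Set G) := by
  intro x hx
  apply mem_normalizer_sup
  · exact normalizer_le_normalizer_centerThompsonAOf S (Subgroup.le_normalizer hx)
  · rw [Subgroup.normalizer_eq_top]; exact Subgroup.mem_top x

/-- every conjugate of `J(S)` normalises `Ŵ` -/
theorem conj_thompsonAOf_le_normalizer_what [Finite G] (S Q W : Subgroup G) [Q.Normal] [W.Normal]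
    (hQS : Q ≤ S) (hWQ : W ≤ Q) (hWc : W ≤ Subgroup.centralizer (Q : Set G))
    (hKP : ∀ A ∈ maxAbG S,
      Nat.card A * Nat.card (W ⊓ Subgroup.centralizer (A : Set G) : Subgroup G) ≤
        Nat.card (A ⊓ Q : Subgroup G) * Nat.card W) (g : G) :
    (Cfsg.thompsonSubgroupAOf S).map (MulAut.conj g).toMonoidHom ≤
      Subgroup.normalizer ((Cfsg.centerThompsonAOf S ⊔ W : Subgroup G) : Set G) := by
  rw [thompsonAOf_eq_sSup, Subgroup.map_le_iff_le_comap]
  apply sSup_le
  intro A hA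
  rw [← Subgroup.map_le_iff_le_comap]
  exact conj_le_normalizer_what S A Q W hA hQS hWQ hWc (hKP A hA) g

/-- the normal closure of `J(S)` normalises `Ŵ` -/
theorem normalClosure_thompsonAOf_le_normalizer_what [Finite G] (S Q W : Subgroup G)
    [Q.Normal] [W.Normal]
    (hQS : Q ≤ S) (hWQ : W ≤ Q) (hWc : W ≤ Subgroup.centralizer (Q : Set G))
    (hKP : ∀ A ∈ maxAbG S,
      Nat.card A * Nat.card (W ⊓ Subgroup.centralizer (A : Set G) : Subgroup G) ≤
        Nat.card (A ⊓ Q : Subgroup G) * Nat.card W) :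
    Subgroup.normalClosure (Cfsg.thompsonSubgroupAOf S : Set G) ≤
      Subgroup.normalizer ((Cfsg.centerThompsonAOf S ⊔ W : Subgroup G) : Set G) := by
  unfold Subgroup.normalClosure
  rw [Subgroup.closure_le]
  intro x hx
  rw [Group.mem_conjugatesOfSet_iff] at hx
  obtain ⟨a, ha, hax⟩ := hx
  rw [isConj_iff] at hax
  obtain ⟨c, rfl⟩ := hax
  exact conj_thompsonAOf_le_normalizer_what S Q W hQS hWQ hWc hKP c ⟨a, ha, rfl⟩

/-- (N5) `Ŵ` is normal in `G` as soon as `⟨J(S)^G⟩ S = G` -/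
theorem what_normal [Finite G] (S Q W : Subgroup G) [Q.Normal] [W.Normal]
    (hQS : Q ≤ S) (hWQ : W ≤ Q) (hWc : W ≤ Subgroup.centralizer (Q : Set G))
    (hKP : ∀ A ∈ maxAbG S,
      Nat.card A * Nat.card (W ⊓ Subgroup.centralizer (A : Set G) : Subgroup G) ≤
        Nat.card (A ⊓ Q : Subgroup G) * Nat.card W)
    (hLS : Subgroup.normalClosure (Cfsg.thompsonSubgroupAOf S : Set G) ⊔ S = ⊤) :
    (Cfsg.centerThompsonAOf S ⊔ W : Subgroup G).Normal := by
  rw [← Subgroup.normalizer_eq_top_iff, eq_top_iff, ← hLS]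
  exact sup_le (normalClosure_thompsonAOf_le_normalizer_what S Q W hQS hWQ hWc hKP)
    (le_normalizer_what S W)

/-- `[U, B] ≤ W` says that `B` maps into the centraliser of the image of `U` in `G ⧸ W` -/
theorem commutator_le_iff_le_comap (U B W : Subgroup G) [hW : W.Normal] :
    ⁅U, B⁆ ≤ W ↔
      B ≤ (Subgroup.centralizer ((U.map (QuotientGroup.mk' W) : Subgroup (G ⧸ W)) : Set (G ⧸ W))).comap
        (QuotientGroup.mk' W) := by
  rw [Subgroup.commutator_le]
  constructor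
  · intro h b hb
    rw [Subgroup.mem_comap, Subgroup.mem_centralizer_iff]
    rintro _ ⟨u, hu, rfl⟩
    have h1 := h u hu b hb
    have h2 : (QuotientGroup.mk' W) ⁅u, b⁆ = 1 := by
      rw [QuotientGroup.mk'_apply, QuotientGroup.eq_one_iff]; exact h1
    rw [map_commutatorElement, commutatorElement_eq_one_iff_mul_comm] at h2
    exact h2
  · intro h u hu b hb
    have h1 := h hb
    rw [Subgroup.mem_comap, Subgroup.mem_centralizer_iff] at h1
    have h2 := h1 _ ⟨u, hu, rfl⟩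
    have h3 : (QuotientGroup.mk' W) ⁅u, b⁆ = 1 := by
      rw [map_commutatorElement, commutatorElement_eq_one_iff_mul_comm]; exact h2
    rw [QuotientGroup.mk'_apply, QuotientGroup.eq_one_iff] at h3
    exact h3

/-- `[Ŵ, ⟨J(S)^G⟩] ≤ W` -/
theorem commutator_what_normalClosure_le [Finite G] (S Q W : Subgroup G) [Q.Normal] [hW : W.Normal]
    (hQS : Q ≤ S) (hWQ : W ≤ Q) (hWc : W ≤ Subgroup.centralizer (Q : Set G))
    (hKP : ∀ A ∈ maxAbG S,
      Nat.card A * Nat.card (W ⊓ Subgroup.centralizer (A : Set G) : Subgroup G) ≤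
        Nat.card (A ⊓ Q : Subgroup G) * Nat.card W) :
    ⁅Cfsg.centerThompsonAOf S ⊔ W,
      Subgroup.normalClosure (Cfsg.thompsonSubgroupAOf S : Set G)⁆ ≤ W := by
  -- first `[ZJ, L] ≤ W`
  have h1 : ⁅Cfsg.centerThompsonAOf S,
      Subgroup.normalClosure (Cfsg.thompsonSubgroupAOf S : Set G)⁆ ≤ W := by
    rw [commutator_le_iff_le_comap]
    unfold Subgroup.normalClosure
    rw [Subgroup.closure_le]
    intro x hx
    rw [Group.mem_conjugatesOfSet_iff] at hx
    obtain ⟨a, ha, hax⟩ := hx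
    rw [isConj_iff] at hax
    obtain ⟨c, rfl⟩ := hax
    have h2 : (Cfsg.thompsonSubgroupAOf S).map (MulAut.conj c).toMonoidHom ≤
        (Subgroup.centralizer (((Cfsg.centerThompsonAOf S).map (QuotientGroup.mk' W) :
          Subgroup (G ⧸ W)) : Set (G ⧸ W))).comap (QuotientGroup.mk' W) := by
      rw [thompsonAOf_eq_sSup, Subgroup.map_le_iff_le_comap]
      apply sSup_le
      intro A hA
      rw [← Subgroup.map_le_iff_le_comap, ← commutator_le_iff_le_comap]
      exact commutator_centerThompsonAOf_conj_le S A Q W hA hQS hWQ hWc (hKP A hA) c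
    exact h2 ⟨a, ha, rfl⟩
  have h3 : ⁅W, Subgroup.normalClosure (Cfsg.thompsonSubgroupAOf S : Set G)⁆ ≤ W :=
    Subgroup.commutator_le_left _ _
  rw [Subgroup.commutator_comm, commutator_le_iff_le_comap]
  rw [Subgroup.commutator_comm, commutator_le_iff_le_comap] at h1 h3
  exact sup_le h1 h3

end N5

end Cfsg.Agent.Lib.Helper3.PU2769
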