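import Mathlib
import Cfsg.Prelude.Def_PLocal
import Cfsg.Agent.Lib.Helper2.BAUFrame
import Cfsg.Agent.Lib.Helper3.PU2769c
import Cfsg.Agent.Lib.Helper3.BAUa

/-!
# S2769 / S2768 farm unit (owner helper2): `n5`, verbatim to the stub
-/

set_option autoImplicit false

namespace Cfsg.Agent.Lib.Helper3.BAUb

open Cfsg.Agent.Lib.Helper2.BAU
open scoped commutatorElement

variable {G : Type*} [Group G] [Finite G]

/-- (N5) -/
theorem n5 (S : Subgroup G) (hLS : LL S ⊔ S = ⊤)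
    (hWc : ∀ a ∈ WW S, ∀ b ∈ WW S, a * b = b * a)
    (hZW : ∀ z ∈ ZJ S, ∀ w ∈ WW S, z * w = w * z)
    (hf3 : ∀ z ∈ ZJ S, ∀ A : Subgroup G, IsMaxAb S A → ∀ a ∈ A, ∀ g : G,
      z * (g * a * g⁻¹) * z⁻¹ * (g * a * g⁻¹)⁻¹ ∈ WW S) :
    (What S).Normal ∧ (∀ a ∈ What S, ∀ b ∈ What S, a * b = b * a) ∧
    ∀ u ∈ What S, ∀ c ∈ LL S, u * c * u⁻¹ * c⁻¹ ∈ WW S := by
  have hWn : (WW S).Normal := by unfold WW; infer_instance
  -- `[ZJ, L] ≤ W`
  have h1 : ⁅ZJ S, LL S⁆ ≤ WW S := by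
    rw [Cfsg.Agent.Lib.Helper3.PU2769.commutator_le_iff_le_comap]
    unfold LL Subgroup.normalClosure
    rw [Subgroup.closure_le]
    intro x hx
    rw [Group.mem_conjugatesOfSet_iff] at hx
    obtain ⟨a, ha, hax⟩ := hx
    rw [isConj_iff] at hax
    obtain ⟨c, rfl⟩ := hax
    have h2 : (JJ S).map (MulAut.conj c).toMonoidHom ≤
        (Subgroup.centralizer (((ZJ S).map (QuotientGroup.mk' (WW S)) :
          Subgroup (G ⧸ WW S)) : Set (G ⧸ WW S))).comap (QuotientGroup.mk' (WW S)) := by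
      unfold JJ
      rw [Subgroup.map_le_iff_le_comap]
      apply sSup_le
      intro A hA
      rw [← Subgroup.map_le_iff_le_comap,
        ← Cfsg.Agent.Lib.Helper3.PU2769.commutator_le_iff_le_comap, Subgroup.commutator_le]
      rintro z hz _ ⟨a', ha', rfl⟩
      exact hf3 z hz A hA a' ha' c
    exact h2 ⟨a, ha, rfl⟩
  have h3 : ⁅WW S, LL S⁆ ≤ WW S := Subgroup.commutator_le_left _ _
  have h4 : ⁅What S, LL S⁆ ≤ WW S := by
    unfold What
    rw [Subgroup.commutator_comm, Cfsg.Agent.Lib.Helper3.PU2769.commutator_le_iff_le_comap]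
    rw [Subgroup.commutator_comm, Cfsg.Agent.Lib.Helper3.PU2769.commutator_le_iff_le_comap]
      at h1 h3
    exact sup_le h1 h3
  refine ⟨?_, ?_, ?_⟩
  · -- normality
    have hL : LL S ≤ Subgroup.normalizer ((ZJ S ⊔ WW S : Subgroup G) : Set G) :=
      Cfsg.Agent.Lib.Helper3.PU2769.le_normalizer_sup_of_commutator_le _ _ _ h1
    have hS : S ≤ Subgroup.normalizer ((ZJ S ⊔ WW S : Subgroup G) : Set G) := by
      intro x hx
      apply Cfsg.Agent.Lib.Helper3.PU2769.mem_normalizer_sup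
      · have hxn : x ∈ Subgroup.normalizer (S : Set G) := Subgroup.le_normalizer hx
        have hxn' : x⁻¹ ∈ Subgroup.normalizer (S : Set G) := Subgroup.inv_mem _ hxn
        rw [Subgroup.mem_normalizer_iff]
        intro y
        refine ⟨(Cfsg.Agent.Lib.Helper3.BAUa.conj_mem S x hxn).2.1 y, fun h => ?_⟩
        have := (Cfsg.Agent.Lib.Helper3.BAUa.conj_mem S x⁻¹ hxn').2.1 _ h
        simpa [mul_assoc] using this
      · rw [Subgroup.normalizer_eq_top]; exact Subgroup.mem_top x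
    unfold What
    rw [← Subgroup.normalizer_eq_top_iff, eq_top_iff, ← hLS]
    exact sup_le hL hS
  · unfold What
    apply Cfsg.Agent.Lib.Helper3.PU2769.comm_sup_of_comm _ _ _ hWc hZW
    intro a ha b hb
    exact (Subgroup.mem_centralizer_iff.1 ha.2 b hb.1).symm
  · intro u hu c hc
    have := h4 (Subgroup.commutator_mem_commutator hu hc)
    rwa [commutatorElement_def] at this

end Cfsg.Agent.Lib.Helper3.BAUb
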