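import Mathlib
import Cfsg.Agent.Lib.Helper1.XS18
import Cfsg.Agent.Lib.Helper1.Rk3
import Cfsg.Agent.Lib.Helper1.BG9d
import Cfsg.Agent.Lib.Helper1.Coprime
import Cfsg.Agent.Lib.Helper1.FrattiniAction
import Cfsg.Agent.Lib.Helper3.CyclicSub

set_option autoImplicit false
set_option linter.unusedVariables false
set_option linter.style.longLine false
set_option linter.unusedSectionVars false

/-!
# A chain lemma for coprime action on `p`-groups (towards B&G 13.4, S1428)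

`U` a noncyclic `ℓ`-group (`ℓ` odd), `Q⟨x⟩` acting coprimely, `x` of prime order, with
`C_U(x)` cyclic and `Z ≤ Z(U)` of order `ℓ` centralized by `Q` and `x`.  Then `[x, Q]`
centralizes an elementary abelian subgroup of order `ℓ^2` of `U`.
-/

universe u

open scoped commutatorElement

namespace Cfsg.Agent.Lib.Helper3.BG13

open Cfsg Subgroup Cfsg.Agent.Lib.Helper1

/-- Hall–Higman lemma modulo a normal subgroup `N ≤ P`. -/
theorem hh_mod {Y : Type u} [Group Y] [Finite Y] (P N : Subgroup Y) [hPn : P.Normal]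
    [hNn : N.Normal] (hNP : N ≤ P) {s q r : ℕ} (hs : s.Prime) (hq : q.Prime) (hr : r.Prime)
    (hsq : s ≠ q) (hsr : s ≠ r) (hqr : q ≠ r) (hq2 : q ≠ 2) (hP : IsPGroup s P)
    (Q : Subgroup Y) (hQ : IsPGroup q Q) (x : Y) (hxr : x ^ r = 1)
    (hxQ : x ∈ normalizer (Q : Set Y))
    (hfix : ∀ v ∈ P, x * v * x⁻¹ * v⁻¹ ∈ N → v ∈ N) :
    ∀ a ∈ Q, ∀ v ∈ P, ⁅x, a⁆ * v * ⁅x, a⁆⁻¹ * v⁻¹ ∈ N := by
  let π : Y →* Y ⧸ N := QuotientGroup.mk' N
  have hπ : ∀ g : Y, π g = 1 ↔ g ∈ N := fun g => QuotientGroup.eq_one_iff g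
  haveI hVn : (P.map π).Normal := Subgroup.Normal.map hPn π (QuotientGroup.mk'_surjective N)
  have hV : IsPGroup s (P.map π) := hP.map π
  have hxr' : (π x) ^ r = 1 := by rw [← map_pow, hxr, map_one]
  have hQ' : IsPGroup q (Q.map π) := hQ.map π
  have hxQ' : π x ∈ normalizer ((Q.map π : Subgroup (Y ⧸ N)) : Set (Y ⧸ N)) :=
    Subgroup.le_normalizer_map π ⟨x, hxQ, rfl⟩
  have hCV : ∀ v ∈ P.map π, π x * v = v * π x → v = 1 := by
    rintro _ ⟨p, hp, rfl⟩ hcomm
    rw [hπ]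
    apply hfix p hp
    rw [← hπ, map_mul, map_mul, map_mul, hcomm, map_inv, map_inv]
    group
  have key := XS.hh_frattini (P.map π) hs hq hr hsq hsr hqr hq2 hV (Q.map π) hQ' (π x) hxr' hxQ' hCV
  intro a ha v hv
  have h1 := key (π a) ⟨a, ha, rfl⟩
  rw [← map_commutatorElement] at h1
  have h2 := Subgroup.mem_centralizer_iff.mp h1 (π v) ⟨v, hv, rfl⟩
  rw [← hπ, map_mul, map_mul, map_mul, ← h2, map_inv, map_inv]
  group

/-- the chain lemma with `A` and `Z` normal in the ambient group -/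
theorem cl1 {Y : Type u} [Group Y] [Finite Y] (A Z : Subgroup Y) [hAn : A.Normal] [hZn : Z.Normal]
    (hZA : Z ≤ A) {ℓ q r : ℕ} (hℓ : ℓ.Prime) (hq : q.Prime) (hr : r.Prime)
    (hℓq : ℓ ≠ q) (hℓr : ℓ ≠ r) (hqr : q ≠ r) (hq2 : q ≠ 2) (hA : IsPGroup ℓ A)
    (Q : Subgroup Y) (hQ : IsPGroup q Q) (x : Y) (hxr : x ^ r = 1)
    (hxQ : x ∈ normalizer (Q : Set Y)) (hQZ : Q ≤ centralizer (Z : Set Y))
    (hfix : ∀ v ∈ A, x * v = v * x → v ∈ Z) :
    ∀ a ∈ Q, ⁅x, a⁆ ∈ centralizer (A : Set Y) := by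
  classical
  haveI : Fact ℓ.Prime := ⟨hℓ⟩
  haveI : Fact q.Prime := ⟨hq⟩
  let π : Y →* Y ⧸ Z := QuotientGroup.mk' Z
  have hπ : ∀ g : Y, π g = 1 ↔ g ∈ Z := fun g => QuotientGroup.eq_one_iff g
  -- fixed points modulo Z
  let X : Subgroup Y := Subgroup.zpowers x
  have hXcard : Nat.card X ∣ r := by
    rw [Nat.card_zpowers]
    exact orderOf_dvd_of_pow_eq_one hxr
  have hcopXA : (Nat.card X).Coprime (Nat.card A) := by
    obtain ⟨n, hn⟩ := IsPGroup.iff_card.mp hA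
    rw [hn]
    apply Nat.Coprime.pow_right
    apply Nat.Coprime.coprime_dvd_left hXcard
    exact (Nat.coprime_primes hr hℓ).mpr (Ne.symm hℓr)
  have htopA : normalizer (A : Set Y) = ⊤ := normalizer_eq_top_iff.mpr hAn
  have htopZ : normalizer (Z : Set Y) = ⊤ := normalizer_eq_top_iff.mpr hZn
  have hAsolv : Group.IsSolvable A := by
    have : Group.IsNilpotent A := hA.isNilpotent
    infer_instance
  have hfix' : ∀ v ∈ A, x * v * x⁻¹ * v⁻¹ ∈ Z → v ∈ Z := by
    intro v hv hxv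
    have hcomm : Commute (π x) (π v) := by
      have h1 := (hπ _).mpr hxv
      rw [map_mul, map_mul, map_mul, map_inv, map_inv] at h1
      show π x * π v = π v * π x
      have h2 : π x * π v = (π x * π v * (π x)⁻¹ * (π v)⁻¹) * (π v * π x) := by group
      rw [h2, h1, one_mul]
    have h1 : ∀ a ∈ X, a * v * a⁻¹ * v⁻¹ ∈ Z := by
      intro a ha
      obtain ⟨k, rfl⟩ := Subgroup.mem_zpowers_iff.mp ha
      rw [← hπ]
      have h3 : Commute (π (x ^ k)) (π v) := by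
        rw [map_zpow]
        exact hcomm.zpow_left k
      rw [map_mul, map_mul, map_mul, h3.eq, mul_assoc (π v), ← map_mul, mul_inv_cancel, map_one,
        mul_one, ← map_mul, mul_inv_cancel, map_one]
    obtain ⟨c, hc, hvc⟩ := coprime_fixed_points_quotient X A (by rw [htopA]; exact le_top) hcopXA
      (Or.inr hAsolv) Z hZA (by rw [htopZ]; exact le_top) (by rw [htopZ]; exact le_top) v hv h1
    obtain ⟨hcA, hcC⟩ := Subgroup.mem_inf.mp hc
    have hcx : x * c = c * x :=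
      (Subgroup.mem_centralizer_iff.mp hcC x (Subgroup.mem_zpowers x))
    have hcZ : c ∈ Z := hfix c hcA hcx
    have h2 : v⁻¹ ∈ Z := by
      have := Z.mul_mem hvc (Z.inv_mem hcZ)
      simpa [mul_assoc] using this
    have := Z.inv_mem h2
    rwa [inv_inv] at this
  have key := hh_mod A Z hZA hℓ hq hr hℓq hℓr hqr hq2 hA Q hQ x hxr hxQ hfix'
  -- the subgroup of elements of `Q` acting trivially on `A / Z`
  let D : Subgroup Y := (centralizer ((A.map π : Subgroup (Y ⧸ Z)) : Set (Y ⧸ Z))).comap π ⊓ Q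
  have hDq : IsPGroup q D := hQ.to_le inf_le_right
  have hDmem : ∀ a ∈ Q, ⁅x, a⁆ ∈ D := by
    intro a ha
    refine Subgroup.mem_inf.mpr ⟨?_, ?_⟩
    · rw [Subgroup.mem_comap, Subgroup.mem_centralizer_iff]
      rintro _ ⟨v, hv, rfl⟩
      have h1 := (hπ _).mpr (key a ha v hv)
      rw [map_mul, map_mul, map_mul, map_inv, map_inv] at h1
      have h2 : π ⁅x, a⁆ * π v = (π ⁅x, a⁆ * π v * (π ⁅x, a⁆)⁻¹ * (π v)⁻¹) * (π v * π ⁅x, a⁆) := by
        group
      rw [h2, h1, one_mul]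
    · rw [commutatorElement_def]
      exact Q.mul_mem ((Subgroup.mem_normalizer_iff.mp hxQ a).mp ha) (Q.inv_mem ha)
  have hDA : D ≤ normalizer (A : Set Y) := by rw [htopA]; exact le_top
  have hcopDA : (Nat.card D).Coprime (Nat.card A) := by
    obtain ⟨m, hm⟩ := IsPGroup.iff_card.mp hDq
    obtain ⟨n, hn⟩ := IsPGroup.iff_card.mp hA
    rw [hm, hn]
    apply Nat.Coprime.pow
    exact (Nat.coprime_primes hq hℓ).mpr (Ne.symm hℓq)
  have hcc := coprime_commutator_commutator D A hDA hcopDA (Or.inr hAsolv)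
  have h1 : ⁅A, D⁆ ≤ Z := by
    rw [Subgroup.commutator_le]
    intro v hv d hd
    have hdT : π d ∈ centralizer ((A.map π : Subgroup (Y ⧸ Z)) : Set (Y ⧸ Z)) :=
      (Subgroup.mem_inf.mp hd).1
    have h2 : π v * π d = π d * π v := Subgroup.mem_centralizer_iff.mp hdT (π v) ⟨v, hv, rfl⟩
    rw [← hπ, commutatorElement_def, map_mul, map_mul, map_mul, h2, map_inv, map_inv]
    group
  have h2 : ⁅Z, D⁆ = ⊥ := by
    rw [Subgroup.commutator_eq_bot_iff_le_centralizer]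
    intro z hz
    rw [Subgroup.mem_centralizer_iff]
    intro d hd
    have hdQ : d ∈ Q := (Subgroup.mem_inf.mp hd).2
    exact (Subgroup.mem_centralizer_iff.mp (hQZ hdQ) z hz).symm
  have h3 : ⁅A, D⁆ = ⊥ := by
    rw [← hcc, eq_bot_iff, ← h2]
    exact Subgroup.commutator_mono h1 le_rfl
  have h4 : A ≤ centralizer (D : Set Y) := Subgroup.commutator_eq_bot_iff_le_centralizer.mp h3
  intro a ha
  rw [Subgroup.mem_centralizer_iff]
  intro v hv
  exact (Subgroup.mem_centralizer_iff.mp (h4 hv) _ (hDmem a ha)).symm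

/-- **Chain lemma.** -/
theorem chain_lemma {X : Type u} [Group X] [Finite X] {ℓ q r : ℕ} [hℓ : Fact ℓ.Prime]
    (hq : q.Prime) (hr : r.Prime) (hℓ2 : ℓ ≠ 2) (hℓq : ℓ ≠ q) (hℓr : ℓ ≠ r) (hqr : q ≠ r)
    (hq2 : q ≠ 2) (U Z Q : Subgroup X) (x : X)
    (hU : IsPGroup ℓ U) (hUnc : ¬ IsCyclic U) (hQ : IsPGroup q Q) (hxr : x ^ r = 1)
    (hZU : Z ≤ U) (hZcard : Nat.card Z = ℓ) (hZc : U ≤ centralizer (Z : Set X))
    (hQZ : Q ≤ centralizer (Z : Set X)) (hxZ : x ∈ centralizer (Z : Set X))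
    (hQU : Q ≤ normalizer (U : Set X)) (hxU : x ∈ normalizer (U : Set X))
    (hxQ : x ∈ normalizer (Q : Set X))
    (hcyc : IsCyclic ↥(U ⊓ centralizer ({x} : Set X))) :
    ∃ B : Subgroup X, B ≤ U ∧ IsElementaryAbelian ℓ B ∧ Nat.card B = ℓ ^ 2 ∧
      ∀ a ∈ Q, ⁅x, a⁆ ∈ centralizer (B : Set X) := by
  classical
  -- the characteristic subgroup `Ω₁(Z₂(U))`
  obtain ⟨W, hW⟩ : ∃ W : Subgroup ↥U,
      W = closure {y : ↥U | y ∈ Subgroup.upperCentralSeries ↥U 2 ∧ y ^ ℓ = 1} := ⟨_, rfl⟩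
  have hWmem : ∀ y ∈ W, y ∈ Subgroup.upperCentralSeries ↥U 2 ∧ y ^ ℓ = 1 := by
    intro y hy
    rw [hW] at hy
    exact Rk.mem_closure_ucs2_pow hℓ2 hy
  haveI hWchar : W.Characteristic := by
    rw [characteristic_iff_map_le]
    intro ϕ
    rw [map_le_iff_le_comap, hW, closure_le]
    rintro y ⟨hy2, hyp⟩
    apply Subgroup.subset_closure
    refine ⟨?_, ?_⟩
    · have h1 := Subgroup.characteristic_iff_comap_eq.mp
        (inferInstance : (Subgroup.upperCentralSeries ↥U 2).Characteristic) ϕ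
      have h2 : y ∈ (Subgroup.upperCentralSeries ↥U 2).comap ϕ.toMonoidHom := by rw [h1]; exact hy2
      exact h2
    · show (ϕ y) ^ ℓ = 1
      rw [← map_pow, hyp, map_one]
  obtain ⟨A, hA⟩ : ∃ A : Subgroup X, A = W.map U.subtype := ⟨_, rfl⟩
  have hAU : A ≤ U := by rw [hA]; exact Subgroup.map_subtype_le _
  have hNUA : normalizer (U : Set X) ≤ normalizer (A : Set X) := by
    rw [hA]; exact normalizer_le_normalizer_map_characteristic U W
  have hApow : ∀ v ∈ A, v ^ ℓ = 1 := by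
    intro v hv
    rw [hA] at hv
    obtain ⟨y, hy, rfl⟩ := hv
    have := (hWmem y hy).2
    have h2 := congrArg Subtype.val this
    simpa using h2
  have hmemA : ∀ v : X, ∀ hv : v ∈ U,
      (⟨v, hv⟩ : ↥U) ∈ Subgroup.upperCentralSeries ↥U 2 → v ^ ℓ = 1 → v ∈ A := by
    intro v hv h2 hp
    rw [hA]
    refine ⟨⟨v, hv⟩, ?_, rfl⟩
    rw [hW]
    apply Subgroup.subset_closure
    exact ⟨h2, Subtype.ext (by simpa using hp)⟩
  -- `Z ≤ A`
  have hZA : Z ≤ A := by
    intro z hz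
    apply hmemA z (hZU hz)
    · have h1 : (⟨z, hZU hz⟩ : ↥U) ∈ Subgroup.center ↥U := by
        rw [Subgroup.mem_center_iff]
        intro g
        apply Subtype.ext
        have := Subgroup.mem_centralizer_iff.mp (hZc g.2) z hz
        simpa using this.symm
      have h2 : Subgroup.upperCentralSeries ↥U 1 ≤ Subgroup.upperCentralSeries ↥U 2 :=
        Subgroup.upperCentralSeries_mono ↥U (by norm_num)
      rw [Subgroup.upperCentralSeries_one] at h2
      exact h2 h1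
    · have h1 : (⟨z, hz⟩ : ↥Z) ^ Nat.card Z = 1 := pow_card_eq_one'
      rw [hZcard] at h1
      have := congrArg Subtype.val h1
      simpa using this
  -- the normal elementary abelian subgroup of order `ℓ^2`
  obtain ⟨V, hVU, hUV, hVe, hV2⟩ := BG9.exists_normal_elementary_sq hℓ2 hU hUnc
  have hVA : V ≤ A := by
    haveI hVn : (V.subgroupOf U).Normal :=
      (Subgroup.normal_subgroupOf_iff_le_normalizer hVU).mpr hUV
    have hVcard : Nat.card (V.subgroupOf U) = ℓ ^ 2 := by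
      rw [Nat.card_congr (Subgroup.subgroupOfEquivOfLe hVU).toEquiv, hV2]
    have h1 := Rk.le_ucs2_of_normal_card_sq hU (V.subgroupOf U) hVcard
    intro v hv
    apply hmemA v (hVU hv)
    · exact h1 (Subgroup.mem_subgroupOf.mpr hv)
    · exact hVe.2 v hv
  refine ⟨V, hVU, hVe, hV2, ?_⟩
  -- pass to `Y = N(U) ∩ N(Z)`
  obtain ⟨Y, hY⟩ : ∃ Y : Subgroup X, Y = normalizer (U : Set X) ⊓ normalizer (Z : Set X) :=
    ⟨_, rfl⟩
  have hCN : centralizer (Z : Set X) ≤ normalizer (Z : Set X) :=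
    Subgroup.centralizer_le_normalizer _
  have hUY : U ≤ Y := by rw [hY]; exact le_inf Subgroup.le_normalizer (hZc.trans hCN)
  have hQY : Q ≤ Y := by rw [hY]; exact le_inf hQU (hQZ.trans hCN)
  have hxY : x ∈ Y := by rw [hY]; exact ⟨hxU, hCN hxZ⟩
  have hAY : A ≤ Y := hAU.trans hUY
  have hZY : Z ≤ Y := hZU.trans hUY
  haveI hAn : (A.subgroupOf Y).Normal := by
    rw [Subgroup.normal_subgroupOf_iff_le_normalizer hAY, hY]
    exact inf_le_left.trans hNUA
  haveI hZn : (Z.subgroupOf Y).Normal := by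
    rw [Subgroup.normal_subgroupOf_iff_le_normalizer hZY, hY]
    exact inf_le_right
  have hZA' : Z.subgroupOf Y ≤ A.subgroupOf Y := by
    intro g hg
    exact Subgroup.mem_subgroupOf.mpr (hZA (Subgroup.mem_subgroupOf.mp hg))
  have hA' : IsPGroup ℓ (A.subgroupOf Y) := (hU.to_le hAU).comap_subtype
  have hQ' : IsPGroup q (Q.subgroupOf Y) := hQ.comap_subtype
  have hxr' : (⟨x, hxY⟩ : ↥Y) ^ r = 1 := Subtype.ext (by simpa using hxr)
  have hxQ' : (⟨x, hxY⟩ : ↥Y) ∈ normalizer ((Q.subgroupOf Y : Subgroup ↥Y) : Set ↥Y) := by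
    rw [Subgroup.mem_normalizer_iff]
    intro g
    rw [Subgroup.mem_subgroupOf, Subgroup.mem_subgroupOf]
    exact Subgroup.mem_normalizer_iff.mp hxQ g
  have hQZ' : Q.subgroupOf Y ≤ centralizer ((Z.subgroupOf Y : Subgroup ↥Y) : Set ↥Y) := by
    intro g hg
    rw [Subgroup.mem_centralizer_iff]
    intro z hz
    apply Subtype.ext
    have := Subgroup.mem_centralizer_iff.mp (hQZ (Subgroup.mem_subgroupOf.mp hg)) z
      (Subgroup.mem_subgroupOf.mp hz)
    simpa using this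
  have hfix : ∀ v ∈ A.subgroupOf Y, (⟨x, hxY⟩ : ↥Y) * v = v * ⟨x, hxY⟩ → v ∈ Z.subgroupOf Y := by
    intro v hv hcomm
    rw [Subgroup.mem_subgroupOf] at hv ⊢
    have hc : x * (v : X) = (v : X) * x := by
      have := congrArg Subtype.val hcomm
      simpa using this
    by_cases hv1 : (v : X) = 1
    · rw [hv1]; exact Z.one_mem
    have hvF : (v : X) ∈ U ⊓ centralizer ({x} : Set X) := by
      refine ⟨hAU hv, ?_⟩
      exact Subgroup.mem_centralizer_singleton_iff.mpr hc.symm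
    have hZF : Z ≤ U ⊓ centralizer ({x} : Set X) := by
      intro z hz
      refine ⟨hZU hz, ?_⟩
      exact Subgroup.mem_centralizer_singleton_iff.mpr (Subgroup.mem_centralizer_iff.mp hxZ z hz)
    have hvF' : Subgroup.zpowers (v : X) ≤ U ⊓ centralizer ({x} : Set X) :=
      (Subgroup.zpowers_le).mpr hvF
    have hcard : Nat.card (Subgroup.zpowers (v : X)) = Nat.card Z := by
      rw [Nat.card_zpowers, hZcard]
      exact orderOf_eq_prime (hApow _ hv) hv1
    have := Cfsg.Agent.Lib.Helper3.subgroup_eq_of_card_eq_of_le_isCyclic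
      (U ⊓ centralizer ({x} : Set X)) (Subgroup.zpowers (v : X)) Z hvF' hZF hcard
    rw [← this]
    exact Subgroup.mem_zpowers _
  have key := cl1 (A.subgroupOf Y) (Z.subgroupOf Y) hZA' hℓ.out hq hr hℓq hℓr hqr hq2 hA'
    (Q.subgroupOf Y) hQ' ⟨x, hxY⟩ hxr' hxQ' hQZ' hfix
  intro a ha
  have h1 := key ⟨a, hQY ha⟩ (Subgroup.mem_subgroupOf.mpr ha)
  rw [Subgroup.mem_centralizer_iff]
  intro v hv
  have h2 := Subgroup.mem_centralizer_iff.mp h1 ⟨v, hAY (hVA hv)⟩
    (Subgroup.mem_subgroupOf.mpr (hVA hv))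
  have h3 := congrArg Subtype.val h2
  simpa [commutatorElement_def] using h3

end Cfsg.Agent.Lib.Helper3.BG13
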