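import Mathlib
import Cfsg.Agent.Lib.Helper3.BG15g

set_option autoImplicit false
set_option maxHeartbeats 4000000
set_option linter.unusedVariables false
set_option linter.unusedSectionVars false
set_option linter.style.longLine false
set_option linter.unusedSimpArgs false
set_option linter.deprecated false
set_option linter.style.haveILetI false

/-!
# S1430 in the case `κ(M) ∩ τ₃(M) ≠ ∅` (R5), modulo the death of the second branch `(b*)` of the dichotomy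
-/

open scoped commutatorElement Pointwise
universe u
namespace Cfsg.Agent.Lib.Helper3.BG15

open Cfsg Cfsg.Agent.Lib.Helper1 Cfsg.Agent.Lib.Helper7 Cfsg.Agent.Lib.Helper7.BGRows

variable {G : Type u} [Group G] [Finite G]

/-- the second branch `(b*)` of `BGG.r5_dichotomy` is impossible -/
def BStarDead (G : Type u) [Group G] [Finite G] : Prop :=
  ∀ (hG : IsMinSimpleOddOrder G) (M E E₁ E₃ H R₀ : Subgroup G) (r : ℕ), IsCoatom M →
    IsComplIn E (sigmaCore M) M → r.Prime → r ∈ kappa M → r ∈ tau3 M →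
    IsPiHallOf (tau1 M) E₁ E → IsPiHallOf (tau3 M) E₃ E → (Nat.card E₁).Prime →
    ¬ sigmaCore M ⊓ Subgroup.centralizer (E₁ : Set G) ≤ Subgroup.centralizer (E₃ : Set G) →
    R₀ ≤ E → Nat.card R₀ = r → IsCoatom H → Subgroup.normalizer (R₀ : Set G) ≤ H → False

/-- **S1430 in case R5** (`r ∈ κ(M) ∩ τ₃(M)`), modulo `BStarDead`. -/
theorem s1430_r5 (hb : BStarDead G) (hG : IsMinSimpleOddOrder G) {M : Subgroup G}
    (hM : IsCoatom M) {K : Subgroup G} (hK : IsPiHallOf (kappa M) K M) (hK1 : K ≠ ⊥) {r : ℕ}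
    (hrκ : r ∈ kappa M) (hr3 : r ∈ tau3 M) :
    (∀ k ∈ K, k ≠ 1 → sigmaCore M ⊓ Subgroup.centralizer ({k} : Set G) =
        (sigmaCore M ⊓ Subgroup.centralizer (K : Set G))) ∧
      (∃ U : Subgroup G, IsMulCommutative U ∧
        IsPiHallOf {q | q.Prime ∧ q ∉ kappa M ∧ q ∉ sigma M} U M ∧
        K ≤ Subgroup.normalizer (U : Set G) ∧
        ∀ k ∈ K, k ≠ 1 → U ⊓ Subgroup.centralizer ({k} : Set G) = ⊥) ∧
      ∀ X : Subgroup G, X ≤ K → (Nat.card X).Prime →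
        M ⊓ Subgroup.normalizer (X : Set G) =
            K ⊔ (sigmaCore M ⊓ Subgroup.centralizer (K : Set G)) ∧
          M ⊓ Subgroup.normalizer (K : Set G) =
            K ⊔ (sigmaCore M ⊓ Subgroup.centralizer (K : Set G)) ∧
          ∀ Mstar : Subgroup G, IsCoatom Mstar → Subgroup.normalizer (X : Set G) ≤ Mstar →
            X ≤ sigmaCore Mstar := by
  have hr : r.Prime := hrκ.1
  haveI : Fact r.Prime := ⟨hr⟩
  obtain ⟨E, hE, hKE⟩ := BGG.exists_compl_ge hG hM hK.1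
    (fun q hq hqd => (hK.2.1 q hq hqd).2.2.1)
  haveI hEs : Group.IsSolvable ↥E :=
    BG7.isSolvable_of_ne_top hG (ne_top_of_le_ne_top hM.1 hE.1)
  obtain ⟨E₁, hE₁⟩ := BGK.exists_isPiHallOf E hEs (tau1 M)
  obtain ⟨E₃, hE₃⟩ := BGK.exists_isPiHallOf E hEs (tau3 M)
  have hrE : r ∣ Nat.card E := by
    have h1 := hrκ.2.1
    rw [Cfsg.Agent.Lib.Lead.ComplIn.card_eq hE] at h1
    rcases (Nat.Prime.dvd_mul hr).mp h1 with h | h
    · exact h
    · exact absurd ((BGA.s1350 hG M hM).1.2.1 r hr h) hrκ.2.2.1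
  obtain ⟨R₀, hR₀E, hR₀⟩ := BGG.exists_prime_subgroup (s := r) hrE
  have hR₀M : R₀ ≤ M := hR₀E.trans hE.1
  have hR₀1 : R₀ ≠ ⊥ := BGG.ne_bot_of_card_prime hR₀
  have hR₀top : R₀ ≠ ⊤ := ne_top_of_le_ne_top hM.1 hR₀M
  have hNtop := BG7.normalizer_ne_top hG hR₀1 hR₀top
  obtain ⟨H, hH, hNR⟩ := (eq_top_or_exists_le_coatom
    (Subgroup.normalizer (R₀ : Set G))).resolve_left hNtop
  obtain ⟨hEH, hnc, hτ2, hrσH, hDeq, hy, hMH⟩ := BGG.lemmaA hG hM hE hrκ hr3 hR₀E hR₀ hH hNR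
  obtain ⟨-, -, -, -, -, haux, -⟩ := BGG.lemmaA_aux hG hM hE hrκ hr3 hR₀E hR₀ hH hNR
  obtain ⟨hR₀E₃, hDle⟩ := haux E₃ hE₃
  have hDE₃ : sigmaCore M ⊓ H = sigmaCore M ⊓ Subgroup.centralizer (E₃ : Set G) := by
    apply le_antisymm
    · exact le_inf inf_le_left hDle
    · rw [hDeq]
      exact inf_le_inf_left _ (Subgroup.centralizer_le hR₀E₃)
  have h3 : ∀ y ∈ E₃, y ≠ 1 → sigmaCore M ⊓ Subgroup.centralizer ({y} : Set G) =
      sigmaCore M ⊓ Subgroup.centralizer (E₃ : Set G) := by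
    intro y hyE₃ hy1
    rw [hy E₃ hE₃ y hyE₃ hy1, hDE₃]
  have hD3 : sigmaCore M ⊓ Subgroup.centralizer (E₃ : Set G) ≠ ⊥ := by
    rw [← hDE₃, hDeq]
    exact BGG.kappa_centralizer_ne_bot hrκ hR₀M hR₀
  obtain ⟨hcyc1, -, hnE₃, -, hsup, -, -⟩ := BGG.compl_struct hG hM hE hτ2 hE₁ hE₃
  rcases BGG.r5_dichotomy hG hM hE hrκ hr3 hE₁ hE₃ with ⟨hbr1, heq⟩ | ⟨hprime, hD₁⟩
  · exact s1430_r5_assembly hG hM hE hτ2 hE₁ hE₃ hcyc1 hnE₃ hsup h3 hD3 hbr1 heq hK hKE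
  · exact absurd (hb hG M E E₁ E₃ H R₀ r hM hE hr hrκ hr3 hE₁ hE₃ hprime hD₁ hR₀E hR₀ hH hNR)
      not_false

end Cfsg.Agent.Lib.Helper3.BG15
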