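import Mathlib
import Cfsg.Agent.Lib.Helper3.BG18b
import Cfsg.Agent.Lib.Helper2.BGL7
import Cfsg.Agent.Lib.Helper2.BGHRows

set_option autoImplicit false
set_option maxHeartbeats 4000000
set_option linter.unusedVariables false
set_option linter.unusedSectionVars false
set_option linter.style.longLine false
set_option linter.unusedSimpArgs false
set_option linter.deprecated false
set_option linter.style.haveILetI false

/-!
# S1436 (a), preparations: the prime-ordering argument and `κ(M) = ∅`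
-/

open scoped commutatorElement Pointwise
universe u
namespace Cfsg.Agent.Lib.Helper3.BG18

open Cfsg Cfsg.Agent.Lib.Helper1 Cfsg.Agent.Lib.Helper7 Cfsg.Agent.Lib.Helper7.BGRows
open Cfsg.Agent.Lib.Lead

variable {G : Type u} [Group G] [Finite G]

/-- a prime of `σ(M)` divides `|M_σ|` -/
theorem dvd_card_sigmaCore (hG : IsMinSimpleOddOrder G) {M : Subgroup G} (hM : IsCoatom M)
    {p : ℕ} (hp : p ∈ sigma M) : p ∣ Nat.card (sigmaCore M) := by
  obtain ⟨hH, -, -⟩ := BGA.s1350 hG M hM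
  have h1 : Nat.card M = Nat.card (sigmaCore M) * (sigmaCore M).relIndex M :=
    (BG17.card_mul_relIndex' hH.1).symm
  have h2 : p ∣ Nat.card (sigmaCore M) * (sigmaCore M).relIndex M := h1 ▸ hp.2.1
  rcases (Nat.Prime.dvd_mul hp.1).mp h2 with h | h
  · exact h
  · exact absurd h (hH.2.2 p hp.1 hp)

/-- the Sylow `p`-subgroup of a nilpotent `M_σ` is nontrivial for `p ∈ σ(M)` -/
theorem Pc_ne_bot (hG : IsMinSimpleOddOrder G) {M : Subgroup G} (hM : IsCoatom M)
    (hnil : Group.IsNilpotent ↥(sigmaCore M)) {p : ℕ} (hp : p ∈ sigma M) :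
    BGG.Pc p (sigmaCore M) ≠ ⊥ := by
  haveI : Fact p.Prime := ⟨hp.1⟩
  intro h
  have h1 := BG13.not_dvd_relIndex_of_isMaxP (BGG.isMaxP_Pc hnil p)
  rw [h, Subgroup.relIndex_bot_left] at h1
  exact h1 (dvd_card_sigmaCore hG hM hp)

/-- the ordering lemma for the Sylow `p`-subgroup of a nilpotent `M_σ` -/
theorem le_of_acts (h1414 : Row1414 G) (hG : IsMinSimpleOddOrder G) {M : Subgroup G}
    (hM : IsCoatom M) {p : ℕ} (hp : p ∈ sigma M) (hpβ : p ∉ beta M) {w : G} (hwM : w ∈ M)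
    {r : ℕ} (hr : r.Prime) (hwr : orderOf w = r)
    (hw : ¬ BGG.Pc p (sigmaCore M) ≤ Subgroup.centralizer ({w} : Set G)) : r ≤ p := by
  haveI : Fact p.Prime := ⟨hp.1⟩
  exact prime_le_of_not_comm h1414 hG hM hp.1 hp.2.1 hpβ
    ((BGG.Pc_le p (sigmaCore M)).trans (BGE.sigmaCore_le M))
    ((BG12.le_normalizer_sigmaCore M).trans (BGG.normalizer_le_normalizer_Pc p (sigmaCore M)))
    (BGG.Pc_isPGroup p (sigmaCore M)) hwM hr hwr hw

/-- a nontrivial subgroup `P ≤ S` with `C_S(A) = 1` is not centralized by all of `A` -/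
theorem exists_not_centralize {P A S : Subgroup G} (hPS : P ≤ S) (hP1 : P ≠ ⊥)
    (hSA : S ⊓ Subgroup.centralizer (A : Set G) = ⊥) :
    ∃ a ∈ A, ¬ P ≤ Subgroup.centralizer ({a} : Set G) := by
  by_contra hcon
  push Not at hcon
  apply hP1
  rw [eq_bot_iff, ← hSA]
  refine le_inf hPS ?_
  intro z hz
  rw [Subgroup.mem_centralizer_iff]
  intro a ha
  have h1 := hcon a ha hz
  rw [BGE.mem_centralizer_singleton] at h1
  exact h1

omit [Finite G] in
/-- non-identity elements of an elementary abelian `p`-group have order `p` -/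
theorem orderOf_of_mem_elementary {p : ℕ} (hp : p.Prime) {A : Subgroup G}
    (hA : IsElementaryAbelian p A) {a : G} (ha : a ∈ A) (ha1 : a ≠ 1) : orderOf a = p := by
  have h1 : orderOf a ∣ p := orderOf_dvd_of_pow_eq_one (hA.2 a ha)
  rcases (Nat.dvd_prime hp).mp h1 with h | h
  · exact absurd (orderOf_eq_one_iff.mp h) ha1
  · exact h

theorem not_le_centralizer_one_ne {P : Subgroup G} {a : G}
    (h : ¬ P ≤ Subgroup.centralizer ({a} : Set G)) : a ≠ 1 := by
  rintro rfl
  apply h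
  intro z hz
  rw [BGE.mem_centralizer_singleton]
  simp

/-- **the ordering argument**: for a `Tdata M N X q₀` and a prime `q ∈ σ(N) ∖ β(N)`, `q₀ < q` -/
theorem lt_of_tdata (h1414 : Row1414 G) (hG : IsMinSimpleOddOrder G) {M N X : Subgroup G}
    {q₀ : ℕ} (hN : IsCoatom N) (hT : BGK.Tdata M N X q₀) {q : ℕ} (hq : q ∈ sigma N)
    (hqβ : q ∉ beta N) : q₀ < q := by
  haveI : Fact q₀.Prime := ⟨hT.hqp⟩
  obtain ⟨A, hXA, hAMN, hAe, hA2⟩ := hT.hA
  have hAN : A ≤ N := hAMN.trans inf_le_right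
  obtain ⟨-, -, -, hCA, -, -⟩ := BGD.row1417 hG N hN q₀ hT.hqL A ⟨hAN, hAe, hA2⟩
  obtain ⟨a, ha, hna⟩ := exists_not_centralize (BGG.Pc_le q (sigmaCore N))
    (Pc_ne_bot hG hN hT.hnil hq) hCA
  have ha1 := not_le_centralizer_one_ne hna
  have h1 := le_of_acts h1414 hG hN hq hqβ (hAN ha) hT.hqp
    (orderOf_of_mem_elementary hT.hqp hAe ha ha1) hna
  rcases Nat.lt_or_ge q₀ q with h | h
  · exact h
  · exfalso
    have : q₀ = q := le_antisymm h1 h
    exact hT.hqL.2.1 (this ▸ hq)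

end Cfsg.Agent.Lib.Helper3.BG18
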