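import Mathlib
import Cfsg.Agent.Lib.Helper3.BG18c

set_option autoImplicit false
set_option maxHeartbeats 4000000
set_option linter.unusedVariables false
set_option linter.unusedSectionVars false
set_option linter.style.longLine false
set_option linter.unusedSimpArgs false
set_option linter.deprecated false
set_option linter.style.haveILetI false

/-!
# S1436 (a), first half: `κ(M) = ∅`
-/

open scoped commutatorElement Pointwise
universe u
namespace Cfsg.Agent.Lib.Helper3.BG18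

open Cfsg Cfsg.Agent.Lib.Helper1 Cfsg.Agent.Lib.Helper7 Cfsg.Agent.Lib.Helper7.BGRows
open Cfsg.Agent.Lib.Lead

variable {G : Type u} [Group G] [Finite G]

/-- `κ(M) = ∅` when some `x ∈ M_σ#` has `C(x) ≰ M`, `C(x) ≤ N`, and a prime of `σ(N)` divides `|M|` -/
theorem kappa_empty_of_tdata (h1351 : Row1351 G) (h1352 : Row1352 G) (h1364 : Row1364 G)
    (h1366 : Row1366 G) (h1367 : Row1367 G) (h1368 : Row1368 G) (h1372 : Row1372 G)
    (h1430 : Row1430 G) (h1431 : Row1431 G)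
    (hG : IsMinSimpleOddOrder G) {M : Subgroup G} (hM : IsCoatom M) {x : G}
    (hx : x ∈ sigmaCore M) (hx1 : x ≠ 1) (hxM : ¬ Subgroup.centralizer ({x} : Set G) ≤ M)
    {N : Subgroup G} (hN : IsCoatom N) (hxN : Subgroup.centralizer ({x} : Set G) ≤ N)
    {X : Subgroup G} {q₀ : ℕ} (hT : BGK.Tdata M N X q₀)
    {q : ℕ} (hqN : q ∈ sigma N) (hqM : q ∣ Nat.card M) (hqσ : q ∉ sigma M) :
    ∀ r : ℕ, r ∈ kappa M → False := by
  intro r hr
  obtain ⟨K, U, hKU⟩ := BG17.exists_decomp h1351 h1352 hG hM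
  have hK1 : K ≠ ⊥ := fun h => BGK.kappa_empty_of_bot hKU.hall h r hr
  obtain ⟨c₀, hc₀C, hc₀M⟩ := SetLike.not_le_iff_exists.mp hxM
  have hxc₀ : x * c₀ = c₀ * x := BGE.mem_centralizer_singleton.mp hc₀C
  by_cases hU1 : U = ⊥
  · subst hU1
    have hcard := BGK.card_of_decomp_bot hG hM hKU
    have hqK : q ∣ Nat.card K := by
      have h1 : q ∣ Nat.card (sigmaCore M) * Nat.card K := hcard ▸ hqM
      rcases (Nat.Prime.dvd_mul hqN.1).mp h1 with h | h
      · exact absurd ((BGA.s1350 hG M hM).1.2.1 q hqN.1 h) hqσ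
      · exact h
    obtain ⟨Ms, ⟨hMs, hKst, hKsH⟩, -⟩ := h1366 hG M hM K ⊥ hKU hK1
    obtain ⟨-, hKs1, -, -⟩ := h1364 hG M hM K ⊥ hKU hK1
    obtain ⟨hint, -⟩ := h1368 hG M hM K ⊥ hKU hK1 Ms hMs hKst hKsH
    obtain ⟨h1367a, -⟩ := h1367 hG M hM K ⊥ hKU hK1 Ms hMs hKst hKsH
    obtain ⟨h1431a, -, -, -⟩ := h1431 hG M hM K hKU.hall hK1
    have hKle : K ≤ sigmaCore Ms := (le_of_eq hKst).trans inf_le_left
    have hqMs : q ∈ sigma Ms := (BGA.s1350 hG Ms hMs).1.2.1 q hqN.1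
      (dvd_trans hqK (Subgroup.card_dvd_of_le hKle))
    have hconj : ∃ g : G, N = BG7.cj g Ms := by
      by_contra hnc
      push Not at hnc
      exact BG15.sigma_partition hG hMs hN hnc hqMs hqN
    obtain ⟨g, hg⟩ := hconj
    obtain ⟨Ks, hKsdef⟩ : ∃ Ks : Subgroup G,
        Ks = sigmaCore M ⊓ Subgroup.centralizer (K : Set G) := ⟨_, rfl⟩
    rw [← hKsdef] at hKsH hKs1 hint h1367a h1431a
    have hKsMs : Ks ≤ Ms := hKsH.1
    have hgKsN : BG7.cj g Ks ≤ N := hg ▸ BG7.cj_mono hKsMs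
    have hcop : (Nat.card (BG7.cj g Ks)).Coprime (Nat.card (sigmaCore N)) := by
      rw [BG7.card_cj]
      apply BGD.coprime_sigmaCore hG hN
      intro p hp hpK
      have h1 : p ∈ kappa Ms := hKsH.2.1 p hp hpK
      rw [hg, BGK.sigma_cj]
      exact h1.2.2.1
    obtain ⟨n, hn, hle⟩ := BGD.exists_cj_le hG hN hT.hcompl hgKsN hcop
    obtain ⟨c, hc⟩ : ∃ c : G, c = n⁻¹ * g := ⟨_, rfl⟩
    have h2 : BG7.cj c Ks ≤ M := by
      rw [hc, BG7.cj_mul]
      have := BG7.cj_mono (k := n⁻¹) hle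
      rw [BG7.cj_inv_cj] at this
      exact this.trans inf_le_left
    have hcN : BG7.cj c Ms = N := by
      rw [hc, BG7.cj_mul, ← hg]
      exact Cfsg.Agent.Lib.Helper2.BGH.cj_self_of_mem (N.inv_mem hn)
    have hcM : c ∈ M := by
      by_contra hcM
      have hcM' : c⁻¹ ∉ M := fun h => hcM (by simpa using M.inv_mem h)
      have h3 := h1431a _ hcM'
      apply hKs1
      rw [eq_bot_iff, ← h3]
      refine le_inf le_rfl ?_
      have := BG7.cj_mono (k := c⁻¹) h2
      rwa [BG7.cj_inv_cj] at this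
    have hx' : c⁻¹ * x * c ∈ sigmaCore M := by
      have h1 := BG12.le_normalizer_sigmaCore M (M.inv_mem hcM)
      rw [Subgroup.mem_set_normalizer_iff] at h1
      have h2 := (h1 x).mp hx
      simpa using h2
    have hCx' : Subgroup.centralizer ({c⁻¹ * x * c} : Set G) ≤ Ms := by
      have h1 := BGK.centralizer_conj_singleton c⁻¹ x
      rw [inv_inv] at h1
      rw [h1]
      have h2 := BG7.cj_mono (k := c⁻¹) hxN
      rw [← hcN, BG7.cj_inv_cj] at h2
      exact h2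
    have hx'M : c⁻¹ * x * c ∈ M := BGE.sigmaCore_le M hx'
    have hx'Ms : c⁻¹ * x * c ∈ Ms := hCx' (BGK.mem_centralizer_self _)
    have hx'KK : c⁻¹ * x * c ∈ K ⊔ Ks := hint ▸ (⟨hx'M, hx'Ms⟩ : c⁻¹ * x * c ∈ M ⊓ Ms)
    have hKn : K ≤ Subgroup.normalizer (Ks : Set G) := by
      refine le_trans ?_ (Subgroup.centralizer_le_normalizer (Ks : Set G))
      intro k hk
      rw [Subgroup.mem_centralizer_iff]
      intro z hz
      rw [SetLike.mem_coe, hKsdef] at hz
      exact ((Subgroup.mem_centralizer_iff.mp hz.2) k hk).symm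
    obtain ⟨k, hk, s, hs, e⟩ := BG17.mem_sup_left_norm hKn hx'KK
    have hk1 : k = 1 := by
      have hkσ : k ∈ sigmaCore M := by
        have h1 : k = c⁻¹ * x * c * s⁻¹ := by rw [e]; group
        rw [h1]
        exact (sigmaCore M).mul_mem hx' ((sigmaCore M).inv_mem (by rw [hKsdef] at hs; exact hs.1))
      have : k ∈ K ⊓ sigmaCore M := ⟨hk, hkσ⟩
      rw [BG17.hall_kappa_inf_sigmaCore hKU.hall] at this
      exact Subgroup.mem_bot.mp this
    have hx'Ks : c⁻¹ * x * c ∈ Ks := by rw [e, hk1, one_mul]; exact hs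
    have hx'1 : c⁻¹ * x * c ≠ 1 := by
      intro h
      apply hx1
      have : x = c * (c⁻¹ * x * c) * c⁻¹ := by group
      rw [this, h]; group
    have hord : orderOf (c⁻¹ * x * c) ≠ 1 := fun h => hx'1 (orderOf_eq_one_iff.mp h)
    obtain ⟨p, hp, hpx⟩ := Nat.exists_prime_and_dvd hord
    obtain ⟨y, hyo, hyc, hyle, -, hCy⟩ := BGK.exists_prime_sub hp hpx
    have hCyM := (h1367a (Subgroup.zpowers y) (hyle Ks hx'Ks) (hyc ▸ hp)).1
    have hCx'M : Subgroup.centralizer ({c⁻¹ * x * c} : Set G) ≤ M := hCy.trans hCyM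
    apply hc₀M
    have h5 : c⁻¹ * c₀ * c ∈ Subgroup.centralizer ({c⁻¹ * x * c} : Set G) := by
      rw [BGE.mem_centralizer_singleton]
      calc c⁻¹ * x * c * (c⁻¹ * c₀ * c) = c⁻¹ * (x * c₀) * c := by group
        _ = c⁻¹ * (c₀ * x) * c := by rw [hxc₀]
        _ = c⁻¹ * c₀ * c * (c⁻¹ * x * c) := by group
    have h6 := hCx'M h5
    have : c₀ = c * (c⁻¹ * c₀ * c) * c⁻¹ := by group
    rw [this]
    exact M.mul_mem (M.mul_mem hcM h6) (M.inv_mem hcM)
  · obtain ⟨-, hTI, hle⟩ := h1372 hG M hM K U hKU hK1 hU1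
    have hxF : x ∈ fittingOf M := hle hx
    have hcn : c₀ ∈ Subgroup.normalizer ((fittingOf M : Subgroup G) : Set G) := by
      by_contra hcn
      apply hx1
      apply hTI c₀ hcn x hxF
      have : c₀ * x * c₀⁻¹ = x := by
        rw [← hxc₀]; group
      rw [this]; exact hxF
    have hFn : Subgroup.normalizer ((fittingOf M : Subgroup G) : Set G) = M := by
      apply BG8.normalizer_eq_of_coatom hG hM (BG8.fittingOf_le M) ?_ (BG8.le_normalizer_fittingOf M)
      intro h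
      rw [h, Subgroup.mem_bot] at hxF
      exact hx1 hxF
    exact hc₀M (hFn ▸ hcn)

end Cfsg.Agent.Lib.Helper3.BG18
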