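import Mathlib
import Cfsg.Agent.Lib.Helper3.BG18d
import Cfsg.Agent.Lib.Helper1.Douglas

set_option autoImplicit false
set_option maxHeartbeats 4000000
set_option linter.unusedVariables false
set_option linter.unusedSectionVars false
set_option linter.style.longLine false
set_option linter.unusedSimpArgs false
set_option linter.deprecated false
set_option linter.style.haveILetI false

/-!
# S1436 (a), second half: `τ₂(M) = ∅`
-/

open scoped commutatorElement Pointwise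
universe u
namespace Cfsg.Agent.Lib.Helper3.BG18

open Cfsg Cfsg.Agent.Lib.Helper1 Cfsg.Agent.Lib.Helper7 Cfsg.Agent.Lib.Helper7.BGRows
open Cfsg.Agent.Lib.Lead

variable {G : Type u} [Group G] [Finite G]

/-- no prime of `σ(N)` lies in `τ₂(M)` (the ordering argument on both sides) -/
theorem not_sigma_tau2 (h1414 : Row1414 G) (hG : IsMinSimpleOddOrder G) {M N X : Subgroup G}
    {q₀ : ℕ} (hM : IsCoatom M) (hN : IsCoatom N) (hT : BGK.Tdata M N X q₀) {q' : ℕ}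
    (hq'N : q' ∈ sigma N) (hq'τ : q' ∈ tau2 M) : False := by
  haveI : Fact q'.Prime := ⟨hq'N.1⟩
  haveI : Fact q₀.Prime := ⟨hT.hqp⟩
  have hq'β : q' ∉ beta N := fun h => (BT.s1408 hG hM hq'τ.2.2.1 hq'τ.2.2.2).1 h.2
  have h1 : q₀ < q' := lt_of_tdata h1414 hG hN hT hq'N hq'β
  have hq₀β : q₀ ∉ beta M := fun h => (BT.s1408 hG hN hT.hqL.2.2.1 hT.hqL.2.2.2).1 h.2
  obtain ⟨E, hE⟩ := BGK.exists_compl hG hM
  obtain ⟨B', hB'E, hB'e, hB'2⟩ := BGK.exists_sq_in_compl hG hM hE hq'τ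
  have hB'M : B' ≤ M := hB'E.trans hE.1
  obtain ⟨hnil, -, -, hCB', -, -⟩ := BGD.row1417 hG M hM q' hq'τ B' ⟨hB'M, hB'e, hB'2⟩
  obtain ⟨b, hb, hnb⟩ := exists_not_centralize (BGG.Pc_le q₀ (sigmaCore M))
    (Pc_ne_bot hG hM hnil hT.hqM) hCB'
  have h2 := le_of_acts h1414 hG hM hT.hqM hq₀β (hB'M hb) hq'N.1
    (orderOf_of_mem_elementary hq'N.1 hB'e hb (not_le_centralizer_one_ne hnb)) hnb
  omega

/-- `τ₂(M) = ∅` -/
theorem tau2_empty_of_tdata (h1414 : Row1414 G) (h1430 : Row1430 G) (h1431 : Row1431 G)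
    (h1432 : Row1432 G) (h1439 : Row1439 G)
    (hG : IsMinSimpleOddOrder G) {M : Subgroup G} (hM : IsCoatom M) {x : G}
    (hx : x ∈ sigmaCore M) (hx1 : x ≠ 1) (hxM : ¬ Subgroup.centralizer ({x} : Set G) ≤ M)
    {N : Subgroup G} (hN : IsCoatom N) (hxN : Subgroup.centralizer ({x} : Set G) ≤ N)
    {X : Subgroup G} {q₀ : ℕ} (hT : BGK.Tdata M N X q₀)
    {q : ℕ} (hqN : q ∈ sigma N) (hqM : q ∣ Nat.card M) (hqσ : q ∉ sigma M)
    (hκ : ∀ r : ℕ, r ∈ kappa M → False) : ∀ t : ℕ, t ∈ tau2 M → False := by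
  intro t ht
  haveI : Fact t.Prime := ⟨ht.1⟩
  haveI : Fact q₀.Prime := ⟨hT.hqp⟩
  have hqp : q.Prime := hqN.1
  haveI : Fact q.Prime := ⟨hqp⟩
  obtain ⟨c₀, hc₀C, hc₀M⟩ := SetLike.not_le_iff_exists.mp hxM
  have hxc₀ : x * c₀ = c₀ * x := BGE.mem_centralizer_singleton.mp hc₀C
  obtain ⟨E, hE⟩ := BGK.exists_compl hG hM
  obtain ⟨B, hBE, hBe, hB2⟩ := BGK.exists_sq_in_compl hG hM hE ht
  have hBM : B ≤ M := hBE.trans hE.1
  obtain ⟨hnil, -, -, hCB, -, -⟩ := BGD.row1417 hG M hM t ht B ⟨hBM, hBe, hB2⟩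
  obtain ⟨⟨hEB, -⟩, -, hlast⟩ :=
    Cfsg.Agent.Lib.Helper2.BGH.row1418 hG M hM E hE t ht B ⟨hBE, hBe, hB2⟩
  have hq₀β : q₀ ∉ beta M := fun h => (BT.s1408 hG hN hT.hqL.2.2.1 hT.hqL.2.2.2).1 h.2
  -- `q ∈ τ₁(M) ∪ τ₃(M)`
  have hq13 : q ∈ tau1 M ∪ tau3 M := by
    rcases BG15.tau_cases4 hG hM hqp hqM with h | h | h | h
    · exact absurd h hqσ
    · exact Or.inl h
    · exact (not_sigma_tau2 h1414 hG hM hN hT hqN h).elim
    · exact Or.inr h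
  have hqE : q ∣ Nat.card E := by
    have h1 := ComplIn.card_eq hE
    have h2 : q ∣ Nat.card E * Nat.card (sigmaCore M) := h1 ▸ hqM
    rcases (Nat.Prime.dvd_mul hqp).mp h2 with h | h
    · exact h
    · exact absurd ((BGA.s1350 hG M hM).1.2.1 q hqp h) hqσ
  obtain ⟨w, hwE, hwo⟩ := Cfsg.Agent.Lib.Helper2.BGL.exists_mem_orderOf_eq hqp hqE
  have hwM : w ∈ M := hE.1 hwE
  have hw1 : w ≠ 1 := by
    rintro rfl
    rw [orderOf_one] at hwo
    exact hqp.one_lt.ne hwo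
  have hwfpf : sigmaCore M ⊓ Subgroup.centralizer ({w} : Set G) = ⊥ :=
    BGK.regular_of_kappa_empty hG hM hκ hE.1 w hwE hw1 (fun p hp hpw => by
      rw [hwo] at hpw
      rw [(Nat.prime_dvd_prime_iff_eq hp hqp).mp hpw]; exact hq13)
  -- `q ∈ β(N)`
  have hqβ : q ∈ beta N := by
    by_contra hqβ
    have h1 := lt_of_tdata h1414 hG hN hT hqN hqβ
    have hnw : ¬ BGG.Pc q₀ (sigmaCore M) ≤ Subgroup.centralizer ({w} : Set G) := by
      intro h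
      apply Pc_ne_bot hG hM hnil hT.hqM
      rw [eq_bot_iff, ← hwfpf]
      exact le_inf (BGG.Pc_le _ _) h
    have h2 := le_of_acts h1414 hG hM hT.hqM hq₀β hwM hqp hwo hnw
    omega
  -- the conjugate `N₁` of `N` over `C(w)`
  obtain ⟨Y, hYdef⟩ : ∃ Y : Subgroup G, Y = Subgroup.zpowers w := ⟨_, rfl⟩
  have hYc : Nat.card Y = q := by rw [hYdef, Nat.card_zpowers, hwo]
  have hY1 : Y ≠ ⊥ := by
    intro h
    rw [h, Subgroup.card_bot] at hYc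
    exact hqp.one_lt.ne hYc
  obtain ⟨g, hg⟩ := Cfsg.Agent.Lib.Helper2.BGH.row1425 hG N hN Y hY1 (fun p hp hpY => by
    rw [hYc] at hpY
    rw [(Nat.prime_dvd_prime_iff_eq hp hqp).mp hpY]; exact hqN)
  have hgY : BG7.cj g Y ≤ sigmaCore N := hg
  obtain ⟨⟨hC, -⟩, -, -⟩ := Cfsg.Agent.Lib.Helper2.BGH.row1423 hG N hN q hqN (BG7.cj g Y)
    (hgY.trans (BGE.sigmaCore_le N)) (by rw [BG7.card_cj]; exact hYc)
    (Classical.arbitrary _) (Or.inl hqβ)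
  obtain ⟨N₁, hN₁def⟩ : ∃ N₁ : Subgroup G, N₁ = BG7.cj g⁻¹ N := ⟨_, rfl⟩
  have hN₁ : IsCoatom N₁ := hN₁def ▸ BG9.isCoatom_cj hN g⁻¹
  have hCY : Subgroup.centralizer (Y : Set G) ≤ N₁ := by
    have h1 := BG7.cj_mono (k := g⁻¹) hC
    rw [← BGK.cj_centralizer', BG7.cj_inv_cj] at h1
    rw [hN₁def]; exact h1
  have hwσ : w ∈ sigmaCore N₁ := by
    rw [hN₁def, BGK.sigmaCore_cj hG hN g⁻¹]
    have h1 := BG7.cj_mono (k := g⁻¹) hgY
    rw [BG7.cj_inv_cj] at h1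
    exact h1 (hYdef ▸ Subgroup.mem_zpowers w)
  have hσN₁ : sigma N₁ = sigma N := by rw [hN₁def, BGK.sigma_cj]
  have hcjN₁ : BG7.cj g N₁ = N := by
    have := BG7.cj_inv_cj g⁻¹ N
    rw [inv_inv] at this
    rw [hN₁def]; exact this
  have hMN₁ : M ≠ N₁ := by
    intro h
    apply hT.hnc g
    rw [h, hcjN₁]
  -- the derived group and `Y(M)`
  have hσF : sigmaCore M ≤ fittingOf M := BGK.le_fittingOf_of_le_normalizer
    (BGE.sigmaCore_le M) (BG12.le_normalizer_sigmaCore M) hnil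
  have hX : fittingOf M ⊓ BG7.cj c₀ (fittingOf M) ≠ ⊥ := by
    intro h
    apply hx1
    have h1 : x ∈ fittingOf M ⊓ BG7.cj c₀ (fittingOf M) := by
      refine Subgroup.mem_inf.mpr ⟨hσF hx, ?_⟩
      rw [BG7.mem_cj]
      have h2 : c₀⁻¹ * x * c₀ = x := by rw [mul_assoc, hxc₀]; group
      rw [h2]; exact hσF hx
    rw [h, Subgroup.mem_bot] at h1
    exact h1
  obtain ⟨p', x', L', A', hNT, -⟩ := BGG.nt_of_nonti h1430 h1431 h1439 hG hM hnil hc₀M hX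
  have hder : ⁅M, M⁆ ≤ fittingOf M := hNT.derived_le_fitting hG
  obtain ⟨hYcyc, -, -⟩ := h1439 hG M hM
  obtain ⟨YM, hYMdef⟩ : ∃ YM : Subgroup G,
      YM = piCoreOf {q | q.Prime ∧ q ∉ sigma M} (fittingOf M) := ⟨_, rfl⟩
  rw [← hYMdef] at hYcyc
  have hcomm_mem : ∀ b ∈ B, b * w * b⁻¹ * w⁻¹ ∈ B ⊓ YM := by
    intro b hb
    have h1 : b * w * b⁻¹ * w⁻¹ ∈ B := by
      have hwn := hEB hwE
      rw [Subgroup.mem_set_normalizer_iff] at hwn
      have h2 : w * b⁻¹ * w⁻¹ ∈ B := (hwn b⁻¹).mp (B.inv_mem hb)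
      have h3 : b * w * b⁻¹ * w⁻¹ = b * (w * b⁻¹ * w⁻¹) := by group
      rw [h3]; exact B.mul_mem hb h2
    refine ⟨h1, ?_⟩
    rw [hYMdef]
    apply BGG.mem_Y_of_coprime h1439 hG hM hnil
    · have h3 : orderOf (b * w * b⁻¹ * w⁻¹) ∣ t ^ 2 := by
        rw [← hB2]; exact Subgroup.orderOf_dvd_natCard B h1
      apply Nat.Coprime.coprime_dvd_left h3
      apply Nat.Coprime.pow_left
      rw [Nat.Prime.coprime_iff_not_dvd ht.1]
      intro h; exact ht.2.1 ((BGA.s1350 hG M hM).1.2.1 t ht.1 h)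
    · apply hder
      have h4 : b * w * b⁻¹ * w⁻¹ = ⁅b, w⁆ := rfl
      rw [h4]; exact Subgroup.commutator_mem_commutator (hBM hb) hwM
  have hcardBY : Nat.card ↥(B ⊓ YM) ≤ t := by
    haveI : IsCyclic ↥YM := hYcyc
    haveI hcyc : IsCyclic ↥(B ⊓ YM) := Douglas.isCyclic_of_le (inf_le_right : B ⊓ YM ≤ YM)
    have hexp : Monoid.exponent ↥(B ⊓ YM) ∣ t := by
      apply Monoid.exponent_dvd_of_forall_pow_eq_one
      rintro ⟨z, hz⟩
      apply Subtype.ext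
      simpa using hBe.2 z hz.1
    rw [IsCyclic.exponent_eq_card] at hexp
    exact Nat.le_of_dvd ht.1.pos hexp
  obtain ⟨b', hb'B, hb'1, hb'w⟩ : ∃ b' ∈ B, b' ≠ 1 ∧ b' * w = w * b' := by
    classical
    haveI : Fintype ↥B := Fintype.ofFinite _
    haveI : Fintype ↥(B ⊓ YM) := Fintype.ofFinite _
    have hlt : Fintype.card ↥(B ⊓ YM) < Fintype.card ↥B := by
      rw [← Nat.card_eq_fintype_card, ← Nat.card_eq_fintype_card, hB2]
      have := ht.1.one_lt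
      calc Nat.card ↥(B ⊓ YM) ≤ t := hcardBY
        _ < t ^ 2 := by nlinarith
    obtain ⟨b₁, b₂, hne, heq⟩ := Fintype.exists_ne_map_eq_of_card_lt
      (fun b : ↥B => (⟨(b : G) * w * (b : G)⁻¹ * w⁻¹, hcomm_mem b b.2⟩ : ↥(B ⊓ YM))) hlt
    have heq' : (b₁ : G) * w * (b₁ : G)⁻¹ * w⁻¹ = (b₂ : G) * w * (b₂ : G)⁻¹ * w⁻¹ :=
      congrArg Subtype.val heq
    refine ⟨(b₂ : G)⁻¹ * b₁, B.mul_mem (B.inv_mem b₂.2) b₁.2, ?_, ?_⟩
    · intro h
      apply hne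
      apply Subtype.ext
      have h1 : (b₁ : G) = (b₂ : G) * ((b₂ : G)⁻¹ * b₁) := by group
      rw [h1, h, mul_one]
    · have h1 : (b₁ : G) * w * (b₁ : G)⁻¹ = (b₂ : G) * w * (b₂ : G)⁻¹ := by
        have := congrArg (· * w) heq'
        simpa using this
      calc (b₂ : G)⁻¹ * b₁ * w = (b₂ : G)⁻¹ * ((b₁ : G) * w * (b₁ : G)⁻¹) * b₁ := by group
        _ = (b₂ : G)⁻¹ * ((b₂ : G) * w * (b₂ : G)⁻¹) * b₁ := by rw [h1]
        _ = w * ((b₂ : G)⁻¹ * b₁) := by group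
  -- `S1432` on `(N₁, w, b')`
  have htN₁ : t ∉ sigma N₁ := by
    rw [hσN₁]; intro h; exact not_sigma_tau2 h1414 hG hM hN hT h ht
  have hb'o : orderOf b' = t := orderOf_of_mem_elementary ht.1 hBe hb'B hb'1
  have hcentY : ∀ z : G, z * w = w * z → z ∈ Subgroup.centralizer (Y : Set G) := by
    intro z hz
    rw [hYdef, Subgroup.mem_centralizer_iff]
    intro h hh
    rw [SetLike.mem_coe] at hh
    obtain ⟨k, rfl⟩ := Subgroup.mem_zpowers_iff.mp hh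
    have hc : Commute w z := hz.symm
    exact (hc.zpow_left k).eq
  have hb'N₁ : b' ∈ N₁ := hCY (hcentY b' hb'w)
  have hb'C : b' ∈ N₁ ⊓ Subgroup.centralizer ({w} : Set G) :=
    ⟨hb'N₁, BGE.mem_centralizer_singleton.mpr hb'w.symm⟩
  rcases h1432 hG N₁ hN₁ w hwσ hw1 b' hb'C hb'1 (fun p hp hpb => by
      rw [hb'o] at hpb
      rw [(Nat.prime_dvd_prime_iff_eq hp ht.1).mp hpb]; exact htN₁) with h | h
  · -- `t ∈ κ(N₁)`
    have htκ : t ∈ kappa N₁ := h.1 t ht.1 (hb'o ▸ dvd_rfl)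
    have hBnw : ∃ b₁ ∈ B, b₁ * w * b₁⁻¹ * w⁻¹ ≠ 1 := by
      by_contra hcon
      push Not at hcon
      have hBN₁ : B ≤ N₁ := by
        intro z hz
        apply hCY
        apply hcentY
        have h3 := hcon z hz
        calc z * w = (z * w * z⁻¹ * w⁻¹) * (w * z) := by group
          _ = w * z := by rw [h3, one_mul]
      have hrank : PRankLE t 1 ↥N₁ := by
        obtain P := Classical.arbitrary (Sylow t ↥N₁)
        haveI := (htκ.2.2.2 P).1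
        exact BG9.pRankLE_of_sylow P (BG9.pRankLE_of_isCyclic ht.1 le_rfl)
      exact BG9.not_pRankLE_of_elementary ht.1 hBN₁ hBe (by rw [hB2]) hrank
    obtain ⟨b₁, hb₁, hz1⟩ := hBnw
    obtain ⟨z, hzdef⟩ : ∃ z : G, z = b₁ * w * b₁⁻¹ * w⁻¹ := ⟨_, rfl⟩
    have hzBY : z ∈ B ⊓ YM := hzdef ▸ hcomm_mem b₁ hb₁
    have hzx : z * x = x * z := BGG.Y_commute hG hM z (hYMdef ▸ hzBY.2) x hx
    have hzN : z ∈ N := hxN (BGE.mem_centralizer_singleton.mpr hzx.symm)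
    have hzo : orderOf z = t := orderOf_of_mem_elementary ht.1 hBe hzBY.1 (hzdef ▸ hz1)
    obtain ⟨Z, hZdef⟩ : ∃ Z : Subgroup G, Z = Subgroup.zpowers z := ⟨_, rfl⟩
    have hZB : Z ≤ B := by rw [hZdef, Subgroup.zpowers_le]; exact hzBY.1
    have hZc : Nat.card Z = t := by rw [hZdef, Nat.card_zpowers, hzo]
    have hZfix : sigmaCore M ⊓ Subgroup.centralizer (Z : Set G) ≠ ⊥ := by
      intro h
      apply hx1
      have h1 : x ∈ sigmaCore M ⊓ Subgroup.centralizer (Z : Set G) := by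
        refine Subgroup.mem_inf.mpr ⟨hx, ?_⟩
        rw [hZdef, Subgroup.mem_centralizer_iff]
        intro h hh
        rw [SetLike.mem_coe] at hh
        obtain ⟨k, rfl⟩ := Subgroup.mem_zpowers_iff.mp hh
        have hc : Commute z x := hzx
        exact (hc.zpow_left k).eq
      rw [h, Subgroup.mem_bot] at h1
      exact h1
    obtain ⟨hCZM, hZuniq⟩ := hlast Z hZB hZc hZfix
    have hZp : IsPGroup t Z := IsPGroup.of_card (n := 1) (by rw [hZc, pow_one])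
    have hZ1 : Z ≠ ⊥ := by
      intro h
      rw [h, Subgroup.card_bot] at hZc
      exact ht.1.one_lt.ne hZc
    obtain ⟨L, hL, hNZL⟩ := BGK.exists_coatom_normalizer hG hZp hZ1
    have hLM : L = M := hZuniq L hL ((Subgroup.centralizer_le_normalizer _).trans hNZL)
    rw [hLM] at hNZL
    have hZ₁N₁ : BG7.cj g⁻¹ Z ≤ N₁ := by
      rw [hN₁def]
      apply BG7.cj_mono
      rw [hZdef, Subgroup.zpowers_le]; exact hzN
    obtain ⟨K₁, hK₁, hZK₁⟩ := BGK.exists_hall_kappa_ge hG hN₁ hZ₁N₁ (fun s hs hsZ => by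
      rw [BG7.card_cj, hZc] at hsZ
      rw [(Nat.prime_dvd_prime_iff_eq hs ht.1).mp hsZ]; exact htκ)
    have hK₁1 : K₁ ≠ ⊥ := by
      intro h
      rw [h] at hZK₁
      have h1 : BG7.cj g⁻¹ Z = ⊥ := le_bot_iff.mp hZK₁
      have h2 := BG7.card_cj g⁻¹ Z
      rw [h1, Subgroup.card_bot, hZc] at h2
      exact ht.1.one_lt.ne h2
    obtain ⟨-, -, h1430c⟩ := h1430 hG N₁ hN₁ K₁ hK₁ hK₁1
    obtain ⟨-, -, hstar⟩ := h1430c (BG7.cj g⁻¹ Z) hZK₁ (by rw [BG7.card_cj, hZc]; exact ht.1)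
    have h7 := hstar (BG7.cj g⁻¹ M) (BG9.isCoatom_cj hM g⁻¹) (by
      rw [← BT.cj_normalizer]; exact BG7.cj_mono hNZL)
    rw [BGK.sigmaCore_cj hG hM g⁻¹] at h7
    have h8 : Z ≤ sigmaCore M := BGK.cj_le_iff.mp h7
    have h9 : t ∣ Nat.card (sigmaCore M) := hZc ▸ Subgroup.card_dvd_of_le h8
    exact ht.2.1 ((BGA.s1350 hG M hM).1.2.1 t ht.1 h9)
  · obtain ⟨hτ', -, hCb', -⟩ := h
    have htτ : t ∈ tau2 N₁ := hτ' t ht.1 (hb'o ▸ dvd_rfl)
    have hBN₁ : B ≤ N₁ := by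
      intro z hz
      apply hCb'
      rw [BGE.mem_centralizer_singleton]
      exact BGL.comm_of hBe.1 hb'B hz
    obtain ⟨-, -, -, -, he, -⟩ := BGD.row1417 hG N₁ hN₁ t htτ B ⟨hBN₁, hBe, hB2⟩
    have h3 := he M hM hMN₁ hBM
    have h4 : w ∈ sigmaCore N₁ ⊓ M := ⟨hwσ, hwM⟩
    rw [h3, Subgroup.mem_bot] at h4
    exact hw1 h4

end Cfsg.Agent.Lib.Helper3.BG18
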