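import Mathlib
import Cfsg.Agent.Lib.Helper3.BG18e

set_option autoImplicit false
set_option maxHeartbeats 4000000
set_option linter.unusedVariables false
set_option linter.unusedSectionVars false
set_option linter.style.longLine false
set_option linter.unusedSimpArgs false
set_option linter.deprecated false
set_option linter.style.haveILetI false

/-!
# S1436 assembled from the rows it uses
-/

open scoped commutatorElement Pointwise
universe u
namespace Cfsg.Agent.Lib.Helper3.BG18

open Cfsg Cfsg.Agent.Lib.Helper1 Cfsg.Agent.Lib.Helper7 Cfsg.Agent.Lib.Helper7.BGRows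
open Cfsg.Agent.Lib.Lead

variable {G : Type u} [Group G] [Finite G]

/-- **S1436** (B&G Theorem 14.? / Lemma on two `σ`-maximals over an element) from rows. -/
theorem s1436_of (h1351 : Row1351 G) (h1352 : Row1352 G) (h1364 : Row1364 G)
    (h1366 : Row1366 G) (h1367 : Row1367 G) (h1368 : Row1368 G) (h1372 : Row1372 G)
    (h1414 : Row1414 G) (h1430 : Row1430 G) (h1431 : Row1431 G) (h1432 : Row1432 G)
    (h1439 : Row1439 G) : Row1436 G := by
  intro hG M hM x hx hx1 hxM N hN hxN
  obtain ⟨X, q₀, hT, -, -⟩ := tdata_of_elt h1430 h1431 hG hM hx hx1 hxM hN hxN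
  refine ⟨?_, ?_⟩
  · rintro ⟨q, hqN, hqM⟩
    have hqσ : q ∉ sigma M := fun hqσM =>
      BG15.sigma_partition hG hM hN hT.hnc hqσM hqN
    have hκ := kappa_empty_of_tdata h1351 h1352 h1364 h1366 h1367 h1368 h1372 h1430 h1431
      hG hM hx hx1 hxM hN hxN hT hqN hqM hqσ
    have hτ := tau2_empty_of_tdata h1414 h1430 h1431 h1432 h1439 hG hM hx hx1 hxM hN hxN hT
      hqN hqM hqσ hκ
    exact ⟨Set.eq_empty_iff_forall_notMem.mpr fun r hr => hκ r hr,
      Set.eq_empty_iff_forall_notMem.mpr fun r hr => hτ r hr⟩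
  · intro y N' g hy hy1 hyM hN' hyN' hg
    exact s1436b_of h1430 h1431 hG hM hx hx1 hxM hN hxN hy hy1 hyM hN' hyN' hg

end Cfsg.Agent.Lib.Helper3.BG18
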