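import Mathlib
import Cfsg.Agent.Lib.Helper3.BL14

set_option autoImplicit false
set_option linter.unusedSectionVars false
set_option linter.style.haveILetI false

namespace Cfsg.Agent.Lib.Helper3.BL
open Cfsg Cfsg.Agent.Lib.Helper6
open scoped ComplexConjugate
open scoped Classical

variable {G : Type*} [Group G]
variable {C : Subgroup G} {Z V : Subgroup C}

section fin
variable [Fintype G] [Fintype C] [Fintype (Subgroup.normalizer (C : Set G))]
variable [Fintype (IrrCharacter C)]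

/-- splitting off the trivial character from `χ χ̄` -/
theorem exists_add_one (χ : IrrCharacter G) :
    ∃ Ψ' : G → ℂ, IsCharacter G Ψ' ∧
      (χ : G → ℂ) * cjf (χ : G → ℂ) = (fun _ => (1 : ℂ)) + Ψ' ∧
      classInner Ψ' (fun _ => (1 : ℂ)) = 0 := by
  have hχ := IsIrrCharacter.isCharacter χ.2
  have hΨ : IsCharacter G ((χ : G → ℂ) * cjf (χ : G → ℂ)) := IsCharacter.mul hχ (IsCharacter.conj hχ)
  have h1 : classInner ((χ : G → ℂ) * cjf (χ : G → ℂ)) (fun _ => (1 : ℂ)) = 1 := by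
    rw [classInner_mul_cjf]
    have : (fun _ : G => (1 : ℂ)) * (χ : G → ℂ) = (χ : G → ℂ) := by funext g; simp
    rw [this, classInner_isIrrCharacter χ.2 χ.2, if_pos rfl]
  obtain ⟨Ψ', hΨ', he⟩ := exists_add_of_constituent hΨ (oneIrrG G) (by
    show classInner _ (fun _ => (1 : ℂ)) ≠ 0
    rw [h1]; exact one_ne_zero)
  refine ⟨Ψ', hΨ', he, ?_⟩
  have h2 := h1
  rw [he, classInner_add_left] at h2
  have h3 : classInner ((oneIrrG G : IrrCharacter G) : G → ℂ) (fun _ => (1 : ℂ)) = 1 := by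
    show classInner (fun _ : G => (1 : ℂ)) (fun _ => (1 : ℂ)) = 1
    rw [classInner_isIrrCharacter isIrrCharacter_one isIrrCharacter_one, if_pos rfl]
  rw [h3] at h2
  linear_combination h2

/-- **Step D**: if some irreducible character of `G` restricts to the orbit sum of a nontrivial
member of the principal family, and `e ≥ 2`, then there is a nonprincipal irreducible character of
`G` with `Z` in its kernel. -/
theorem Setup.exists_kernel_of_principal (S : Setup C Z V) {e : ℕ}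
    (he : Nat.card (Subgroup.normalizer (C : Set G)) = e * Nat.card C) (he2 : 2 ≤ e)
    (χ₁ : IrrCharacter G) (τ : IrrCharacter C) (hτL : τ ∈ Lset V)
    (hOrb : OrbRes C (χ₁ : G → ℂ) (τ : C → ℂ)) (hq : e * e + 1 < Nat.card Z) :
    ∃ ψ : IrrCharacter G, (ψ : G → ℂ) ≠ (fun _ => 1) ∧
      ∀ z : C, z ∈ Z → (ψ : G → ℂ) (z : G) = (ψ : G → ℂ) 1 := by
  have hχc := IsIrrCharacter.isCharacter χ₁.2
  obtain ⟨hτlin, hτne⟩ := mem_Lset.1 hτL
  have hτnt := not_zTriv_of_mem_Lset S hτL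
  have hcardτ := S.card_orbF he τ hτnt
  have hτdeg : charDegree (τ : C → ℂ) = 1 :=
    charDegree_eq_of_apply_one (IsIrrCharacter.isCharacter τ.2) (by rw [hτlin.apply_one]; simp)
  have hdegχ : charDegree (χ₁ : G → ℂ) = e := by
    rw [S.charDegree_of_orbRes he hχc τ hτnt hOrb, hτdeg, mul_one]
  obtain ⟨Ψ', hΨ', hsplit, hΨ'1⟩ := exists_add_one χ₁
  have hΨc : IsCharacter G ((χ₁ : G → ℂ) * cjf (χ₁ : G → ℂ)) :=
    IsCharacter.mul hχc (IsCharacter.conj hχc)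
  have hdegΨ' : charDegree Ψ' + 1 = e * e := by
    have h1 := charDegree_mul_cjf hχc hχc
    rw [hsplit, charDegree_add isCharacter_one hΨ', charDegree_one, hdegχ] at h1
    omega
  have h1irr : IsIrrCharacter C (fun _ : C => (1 : ℂ)) := isIrrCharacter_one
  -- multiplicity of 1_C in Ψ
  have hmuΨ : mu C ((χ₁ : G → ℂ) * cjf (χ₁ : G → ℂ)) (fun _ : C => (1 : ℂ)) = e := by
    rw [hOrb.mu_mul hχc hχc τ τ hOrb h1irr]
    have hk : ∀ τ₁ τ₂ : IrrCharacter C,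
        kk (τ₁ : C → ℂ) (τ₂ : C → ℂ) (fun _ : C => (1 : ℂ)) = if τ₁ = τ₂ then 1 else 0 := by
      intro τ₁ τ₂
      have h2 := classInner_eq_kk τ₁.2 τ₂.2 h1irr
      rw [classInner_mul_cjf] at h2
      have : (fun _ : C => (1 : ℂ)) * (τ₂ : C → ℂ) = (τ₂ : C → ℂ) := by funext c; simp
      rw [this, classInner_irrCharacter] at h2
      split_ifs at h2 ⊢ <;> exact_mod_cast h2.symm
    simp_rw [hk]
    rw [Finset.sum_congr rfl (fun τ₁ hτ₁ => Finset.sum_ite_eq (orbF τ) τ₁ (fun _ => 1))]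
    rw [Finset.sum_ite_mem, Finset.inter_self, Finset.sum_const, smul_eq_mul, mul_one, hcardτ]
  have hmuΨ' : 1 ≤ mu C Ψ' (fun _ : C => (1 : ℂ)) := by
    rw [hsplit, mu_add isCharacter_one hΨ' h1irr, mu_one_eq h1irr, if_pos rfl] at hmuΨ
    omega
  obtain ⟨ψ, hψc, hψ1⟩ := exists_constituent_of_mu_pos hΨ' h1irr hmuΨ'
  have hψne : (ψ : G → ℂ) ≠ fun _ => 1 := by
    intro h
    apply hψc
    rw [h]; exact hΨ'1
  have hψchar := IsIrrCharacter.isCharacter ψ.2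
  have hdegψ : charDegree (ψ : G → ℂ) + 1 ≤ e * e := by
    have := IsCharacter.charDegree_le hΨ' ψ.2 hψc
    omega
  refine ⟨ψ, hψne, ?_⟩
  intro z hz
  apply apply_eq_of_all_zTriv hψchar _ hz
  intro θ hθpos
  by_contra hθnt
  -- θ is a constituent of Ψ_C, hence in the principal family
  have hθΨ : 1 ≤ mu C ((χ₁ : G → ℂ) * cjf (χ₁ : G → ℂ)) (θ : C → ℂ) := by
    have h1 := mu_le_of_constituent hΨ' ψ hψc θ.2
    rw [hsplit, mu_add isCharacter_one hΨ' θ.2]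
    omega
  rw [hOrb.mu_mul hχc hχc τ τ hOrb θ.2] at hθΨ
  have hne : ∑ θ₁ ∈ orbF τ, ∑ θ₂ ∈ orbF τ, kk (θ₁ : C → ℂ) (θ₂ : C → ℂ) (θ : C → ℂ) ≠ 0 := by
    omega
  obtain ⟨τ₁, hτ₁, hne₁⟩ := Finset.exists_ne_zero_of_sum_ne_zero hne
  obtain ⟨τ₂, hτ₂, hne₂⟩ := Finset.exists_ne_zero_of_sum_ne_zero hne₁
  have hτ₁lin : IsLinV V (τ₁ : C → ℂ) := hτlin.of_inOrb S (mem_orbF.1 hτ₁)
  have hτ₂lin : IsLinV V (τ₂ : C → ℂ) := hτlin.of_inOrb S (mem_orbF.1 hτ₂)
  have hprodlin : IsLinV V ((τ₁ : C → ℂ) * cjf (τ₂ : C → ℂ)) := hτ₁lin.mul hτ₂lin.conjF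
  have hθeq : (τ₁ : C → ℂ) * cjf (τ₂ : C → ℂ) = (θ : C → ℂ) := by
    by_contra hne3
    apply hne₂
    have h2 := classInner_eq_kk τ₁.2 τ₂.2 θ.2
    rw [classInner_isIrrCharacter hprodlin.isIrr θ.2, if_neg hne3] at h2
    exact_mod_cast h2.symm
  have hθlin : IsLinV V (θ : C → ℂ) := hθeq ▸ hprodlin
  have hθne : (θ : C → ℂ) ≠ fun _ => 1 := by
    intro h
    apply hθnt
    rw [h]; exact zTriv_one
  -- a zero of ψ in the principal family
  obtain ⟨ρ', hρ'L, hρ'0⟩ := S.exists_zero hψchar (by omega)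
  obtain ⟨hρ'lin, hρ'ne⟩ := mem_Lset.1 hρ'L
  have hcfψ := IsCharacter.isClassFunction hψchar
  have hθρ' : ¬ InOrb C (θ : C → ℂ) (ρ' : C → ℂ) := not_inOrb_of_mu_ne hcfψ (by omega)
  have P : Pair C Z V (θ : C → ℂ) (ρ' : C → ℂ) := hθlin.pair S hρ'lin hθne hρ'ne hθρ'
  obtain ⟨χ₁', hχ₁'orb, _⟩ := S.exists_orbRes_partner τ.2 hτnt θ.2 hθnt
    (fun v hv => by rw [hτlin.apply_mem_V hv, hθlin.apply_mem_V hv]) χ₁ hOrb
  have hm1 : mu C (χ₁' : G → ℂ) (θ : C → ℂ) = 1 := by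
    rw [hχ₁'orb _ θ.2, if_pos (InOrb.refl _)]
  have hm2 : mu C (χ₁' : G → ℂ) (ρ' : C → ℂ) = 0 := by
    rw [hχ₁'orb _ ρ'.2, if_neg hθρ']
  have heq : ψ = χ₁' := S.eq_of_mu_lt P (by omega) (by omega)
  have hm3 : mu C (χ₁' : G → ℂ) (fun _ : C => (1 : ℂ)) = 0 := by
    rw [hχ₁'orb _ h1irr, if_neg (not_inOrb_one_of_not_zTriv hθnt)]
  rw [heq] at hψ1
  omega

end fin

end Cfsg.Agent.Lib.Helper3.BL
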