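import Mathlib
import Cfsg.Agent.Lib.Helper3.BL15

set_option autoImplicit false
set_option linter.unusedSectionVars false
set_option linter.style.haveILetI false

namespace Cfsg.Agent.Lib.Helper3.BL
open Cfsg Cfsg.Agent.Lib.Helper6
open scoped ComplexConjugate
open scoped Classical

variable {G : Type*} [Group G]
variable {C : Subgroup G} {Z V : Subgroup C}

section fin
variable [Fintype G] [Fintype C] [Fintype (Subgroup.normalizer (C : Set G))]
variable [Fintype (IrrCharacter C)]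

/-- a single term bounds the multiplicity in a product of two orbit-sum characters -/
theorem OrbRes.kk_le_mu_mul {χ χ' : G → ℂ} (hχ : IsCharacter G χ) (hχ' : IsCharacter G χ')
    (φ φ' : IrrCharacter C) (h : OrbRes C χ (φ : C → ℂ)) (h' : OrbRes C χ' (φ' : C → ℂ))
    {τ : C → ℂ} (hτ : IsIrrCharacter C τ) {θ₁ θ₂ : IrrCharacter C} (h₁ : θ₁ ∈ orbF φ)
    (h₂ : θ₂ ∈ orbF φ') : kk (θ₁ : C → ℂ) (θ₂ : C → ℂ) τ ≤ mu C (χ * cjf χ') τ := by
  rw [h.mu_mul hχ hχ' φ φ' h' hτ]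
  calc kk (θ₁ : C → ℂ) (θ₂ : C → ℂ) τ
      ≤ ∑ θ₂ ∈ orbF φ', kk (θ₁ : C → ℂ) (θ₂ : C → ℂ) τ :=
        Finset.single_le_sum (f := fun θ₂ : IrrCharacter C => kk (θ₁ : C → ℂ) (θ₂ : C → ℂ) τ)
          (fun _ _ => Nat.zero_le _) h₂
    _ ≤ _ := Finset.single_le_sum (f := fun θ₁ : IrrCharacter C =>
          ∑ θ₂ ∈ orbF φ', kk (θ₁ : C → ℂ) (θ₂ : C → ℂ) τ)
          (fun _ _ => Nat.zero_le _) h₁

theorem kk_self_of_irr {θ₁ θ₂ : C → ℂ} (h₁ : IsIrrCharacter C θ₁) (h₂ : IsIrrCharacter C θ₂)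
    (hirr : IsIrrCharacter C (θ₁ * cjf θ₂)) : kk θ₁ θ₂ (θ₁ * cjf θ₂) = 1 := by
  have h := classInner_eq_kk h₁ h₂ hirr
  rw [classInner_isIrrCharacter hirr hirr, if_pos rfl] at h
  exact_mod_cast h.symm

/-- if `φ φ̄` has only the trivial constituent then `φ` is linear -/
theorem charDegree_eq_one_of_mul_cjf {φ : C → ℂ} (hφ : IsIrrCharacter C φ)
    (h : ∀ ρ : IrrCharacter C, classInner (φ * cjf φ) (ρ : C → ℂ) ≠ 0 → (ρ : C → ℂ) = fun _ => 1) :
    charDegree φ = 1 := by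
  have hφc := IsIrrCharacter.isCharacter hφ
  have hA : IsCharacter C (φ * cjf φ) := IsCharacter.mul hφc (IsCharacter.conj hφc)
  obtain ⟨m, hm, hmi⟩ := IsCharacter.exists_mult hA
  have h1 := apply_eq_sum_mult hm 1
  have hone : classInner (φ * cjf φ) (fun _ : C => (1 : ℂ)) = 1 := by
    rw [classInner_mul_cjf]
    have : (fun _ : C => (1 : ℂ)) * φ = φ := by funext c; simp
    rw [this, classInner_isIrrCharacter hφ hφ, if_pos rfl]
  rw [Finset.sum_eq_single (oneIrr C)] at h1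
  · have h2 : (m (oneIrr C) : ℂ) = 1 := by rw [← hmi]; exact hone
    rw [h2] at h1
    have h3 : (φ * cjf φ) 1 = ((charDegree φ * charDegree φ : ℕ) : ℂ) := by
      rw [Pi.mul_apply]
      show φ 1 * conj (φ 1) = _
      rw [IsCharacter.apply_one_eq_charDegree hφc]
      simp
    rw [h3] at h1
    have h4 : charDegree φ * charDegree φ = 1 := by
      have : ((charDegree φ * charDegree φ : ℕ) : ℂ) = ((1 : ℕ) : ℂ) := by
        rw [h1]; simp [oneIrr]
      exact_mod_cast this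
    exact Nat.eq_one_of_mul_eq_one_left h4
  · intro ρ _ hρ
    have h5 : m ρ = 0 := by
      by_contra hne
      apply hρ
      apply Subtype.ext
      apply h ρ
      rw [hmi ρ]
      exact_mod_cast hne
    rw [h5]; simp
  · intro hn; exact absurd (Finset.mem_univ _) hn

end fin

end Cfsg.Agent.Lib.Helper3.BL
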