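import Mathlib
import Cfsg.Agent.Lib.Helper3.BL16

set_option autoImplicit false
set_option linter.unusedSectionVars false
set_option linter.style.haveILetI false

namespace Cfsg.Agent.Lib.Helper3.BL
open Cfsg Cfsg.Agent.Lib.Helper6
open scoped ComplexConjugate
open scoped Classical

variable {G : Type*} [Group G]
variable {C : Subgroup G} {Z V : Subgroup C}

section fin
variable [Fintype G] [Fintype C] [Fintype (Subgroup.normalizer (C : Set G))]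
variable [Fintype (IrrCharacter C)]

/-- arithmetic: a multiple of `e` below `e t` is at most `e t - e` -/
theorem le_sub_of_dvd {e k t : ℕ} (h : e * k < e * t) : e * k + e ≤ e * t := by
  have hk : k < t := Nat.lt_of_mul_lt_mul_left h
  calc e * k + e = e * (k + 1) := by ring
    _ ≤ e * t := Nat.mul_le_mul_left e hk

/-- **Case II** is impossible. -/
theorem Setup.false_of_caseII (S : Setup C Z V) {e : ℕ}
    (he : Nat.card (Subgroup.normalizer (C : Set G)) = e * Nat.card C) (he2 : 2 ≤ e)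
    (hdvd : e ∣ Nat.card Z - 1)
    (χ : IrrCharacter G) (φ : IrrCharacter C) (hφnt : ¬ ZTriv Z (φ : C → ℂ))
    (hOrb : OrbRes C (χ : G → ℂ) (φ : C → ℂ))
    (hx : charDegree (χ : G → ℂ) * charDegree (χ : G → ℂ) + 1 < Nat.card Z)
    (σ : Z →* ℂˣ)
    (χ' : IrrCharacter G) (hOrb' : OrbRes C (χ' : G → ℂ) (S.mulIrr φ σ : C → ℂ))
    (hdeg' : (χ' : G → ℂ) 1 = (χ : G → ℂ) 1)
    (ψ : IrrCharacter G) (hψc : classInner ((χ : G → ℂ) * cjf (χ' : G → ℂ)) (ψ : G → ℂ) ≠ 0)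
    (ρ₀ : IrrCharacter C) (hρ₀L : ρ₀ ∈ Lset V) (hρ₀0 : mu C (ψ : G → ℂ) (ρ₀ : C → ℂ) = 0)
    (hall : ∀ ρ : IrrCharacter C, ρ ∈ Lset V → mu C (ψ : G → ℂ) (ρ : C → ℂ) = 0 →
      InOrb C (ρ₀ : C → ℂ) (ρ : C → ℂ)) : False := by
  have hχc := IsIrrCharacter.isCharacter χ.2
  have hχ'c := IsIrrCharacter.isCharacter χ'.2
  have hψchar := IsIrrCharacter.isCharacter ψ.2
  have hcfψ := IsCharacter.isClassFunction hψchar
  set x := charDegree (χ : G → ℂ) with hxdef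
  set dφ := charDegree (φ : C → ℂ) with hdφ
  set q := Nat.card Z with hq
  have hxe : x = e * dφ := S.charDegree_of_orbRes he hχc φ hφnt hOrb
  have hdegχ' : charDegree (χ' : G → ℂ) = x := by
    apply charDegree_eq_of_apply_one hχ'c
    rw [hdeg', IsCharacter.apply_one_eq_charDegree hχc]
  have hΨc : IsCharacter G ((χ : G → ℂ) * cjf (χ' : G → ℂ)) :=
    IsCharacter.mul hχc (IsCharacter.conj hχ'c)
  have hdegΨ : charDegree ((χ : G → ℂ) * cjf (χ' : G → ℂ)) = x * x := by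
    rw [charDegree_mul_cjf hχc hχ'c, hdegχ']
  have hdegψ : charDegree (ψ : G → ℂ) ≤ x * x := by
    rw [← hdegΨ]; exact IsCharacter.charDegree_le hΨc ψ.2 hψc
  have hρ₀nt := not_zTriv_of_mem_Lset S hρ₀L
  have hcardρ₀ := S.card_orbF he ρ₀ hρ₀nt
  -- the nonzero part of the principal family
  set NZ := Lset V \ orbF ρ₀ with hNZ
  have hNZpos : ∀ ρ ∈ NZ, 1 ≤ mu C (ψ : G → ℂ) (ρ : C → ℂ) := by
    intro ρ hρ
    rw [hNZ, Finset.mem_sdiff, mem_orbF] at hρ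
    by_contra h0
    exact hρ.2 (hall ρ hρ.1 (by omega))
  have hNZcard : q - 1 - e ≤ NZ.card := by
    have := Finset.le_card_sdiff (orbF ρ₀) (Lset V)
    rw [S.card_Lset, hcardρ₀] at this
    exact this
  have hNZle : NZ.card ≤ charDegree (ψ : G → ℂ) := card_le_charDegree hψchar NZ hNZpos
  -- arithmetic
  obtain ⟨t, ht⟩ := hdvd
  have hxx : x * x = e * (e * dφ * dφ) := by rw [hxe]; ring
  have hqpos : 0 < q := Nat.card_pos
  have hle : x * x + e ≤ q - 1 := by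
    rw [ht, hxx]
    apply le_sub_of_dvd
    rw [← hxx, ← ht]
    omega
  have hdegψeq : charDegree (ψ : G → ℂ) = x * x := by omega
  have hNZeq : NZ.card = x * x := by omega
  have hqeq : q - 1 = x * x + e := by omega
  -- Ψ and ψ have the same multiplicities
  obtain ⟨Ψ', hΨ', hsplit⟩ := exists_add_of_constituent hΨc ψ hψc
  have hdegΨ' : charDegree Ψ' = 0 := by
    have := charDegree_add hψchar hΨ'
    rw [← hsplit, hdegΨ, hdegψeq] at this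
    omega
  have hmuΨ : ∀ θ : IrrCharacter C, mu C ((χ : G → ℂ) * cjf (χ' : G → ℂ)) (θ : C → ℂ)
      = mu C (ψ : G → ℂ) (θ : C → ℂ) := by
    intro θ
    have h1 := sum_mu_le_charDegree hΨ' ({θ} : Finset (IrrCharacter C))
    rw [Finset.sum_singleton, hdegΨ'] at h1
    rw [hsplit, mu_add hψchar hΨ' θ.2]
    omega
  have hLin : ∀ θ : IrrCharacter C, 1 ≤ mu C ((χ : G → ℂ) * cjf (χ' : G → ℂ)) (θ : C → ℂ) →
      θ ∈ NZ := by
    intro θ hθ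
    by_contra hmem
    have h1 := card_le_charDegree hψchar (insert θ NZ) (by
      intro t ht
      rcases Finset.mem_insert.1 ht with rfl | h2
      · rw [← hmuΨ]; exact hθ
      · exact hNZpos t h2)
    rw [Finset.card_insert_of_notMem hmem] at h1
    omega
  have hNZlin : ∀ θ : IrrCharacter C, θ ∈ NZ → IsLinV V (θ : C → ℂ) := by
    intro θ hθ
    rw [hNZ, Finset.mem_sdiff] at hθ
    exact (mem_Lset.1 hθ.1).1
  -- φ is linear
  have hκ := S.kapF_isLinV σ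
  have hφ'eq : (S.mulIrr φ σ : C → ℂ) = (φ : C → ℂ) * S.kapF σ := rfl
  have hdφ1 : dφ = 1 := by
    apply charDegree_eq_one_of_mul_cjf φ.2
    intro ρ hρ
    -- ρ' = ρ * conj κ_σ is a constituent of φ * conj φ'
    have hρ'irr : IsIrrCharacter C ((ρ : C → ℂ) * cjf (S.kapF σ)) := hκ.conjF.mul_isIrr ρ.2
    have hci : classInner ((φ : C → ℂ) * cjf (S.mulIrr φ σ : C → ℂ))
        ((ρ : C → ℂ) * cjf (S.kapF σ)) = classInner ((φ : C → ℂ) * cjf (φ : C → ℂ)) (ρ : C → ℂ) := by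
      rw [classInner_mul_cjf, classInner_mul_cjf, hφ'eq]
      congr 1
      funext c
      simp only [Pi.mul_apply, cjf_apply]
      have h4 : conj (S.kapF σ c) * S.kapF σ c = 1 := by
        rw [hκ.conj_apply, inv_mul_cancel₀ (hκ.apply_ne_zero c)]
      calc (ρ : C → ℂ) c * conj (S.kapF σ c) * ((φ : C → ℂ) c * S.kapF σ c)
          = (ρ : C → ℂ) c * (φ : C → ℂ) c * (conj (S.kapF σ c) * S.kapF σ c) := by ring
        _ = _ := by rw [h4, mul_one]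
    have hkk : 1 ≤ kk (φ : C → ℂ) (S.mulIrr φ σ : C → ℂ) ((ρ : C → ℂ) * cjf (S.kapF σ)) := by
      have h5 := classInner_eq_kk φ.2 (S.mulIrr φ σ).2 hρ'irr
      rw [hci] at h5
      by_contra h6
      have h7 : kk (φ : C → ℂ) (S.mulIrr φ σ : C → ℂ) ((ρ : C → ℂ) * cjf (S.kapF σ)) = 0 := by
        omega
      rw [h7] at h5
      exact hρ (by rw [h5]; simp)
    have hmu := hOrb.kk_le_mu_mul hχc hχ'c φ (S.mulIrr φ σ) hOrb' hρ'irr (self_mem_orbF φ)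
      (self_mem_orbF _)
    have hρ'lin : IsLinV V ((ρ : C → ℂ) * cjf (S.kapF σ)) :=
      hNZlin ⟨_, hρ'irr⟩ (hLin ⟨_, hρ'irr⟩ (by simpa using le_trans hkk hmu))
    have hρlin : IsLinV V (ρ : C → ℂ) := by
      have h8 := hρ'lin.mul hκ
      have h9 : (ρ : C → ℂ) * cjf (S.kapF σ) * S.kapF σ = (ρ : C → ℂ) := by
        funext c
        simp only [Pi.mul_apply, cjf_apply]
        have h4 : conj (S.kapF σ c) * S.kapF σ c = 1 := by
          rw [hκ.conj_apply, inv_mul_cancel₀ (hκ.apply_ne_zero c)]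
        rw [mul_assoc, h4, mul_one]
      rwa [h9] at h8
    -- φ ρ = φ
    rw [classInner_mul_cjf] at hρ
    have hρφirr : IsIrrCharacter C ((ρ : C → ℂ) * (φ : C → ℂ)) := by
      rw [mul_comm]; exact hρlin.mul_isIrr φ.2
    rw [classInner_isIrrCharacter φ.2 hρφirr] at hρ
    have hφρ : (φ : C → ℂ) = (ρ : C → ℂ) * (φ : C → ℂ) := by
      by_contra hne
      rw [if_neg hne] at hρ
      exact hρ rfl
    apply hρlin.eq_one_of_mul_eq S φ.2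
    rw [mul_comm]; exact hφρ.symm
  have hxe' : x = e := by rw [hxe, hdφ1, mul_one]
  have hφ1 : (φ : C → ℂ) 1 = 1 := by
    rw [IsCharacter.apply_one_eq_charDegree (IsIrrCharacter.isCharacter φ.2), ← hdφ, hdφ1]; simp
  -- a second element of the orbit of φ
  have hcardφ := S.card_orbF he φ hφnt
  obtain ⟨θ₂, hθ₂mem, hθ₂ne⟩ := Finset.exists_mem_ne (by omega : 1 < (orbF φ).card) φ
  obtain ⟨x', hx'⟩ := mem_orbF.1 hθ₂mem
  have hθ₂1 : (θ₂ : C → ℂ) 1 = 1 := by rw [hx', cf_apply_one, hφ1]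
  have hθ₂c := IsIrrCharacter.isCharacter θ₂.2
  have hφc := IsIrrCharacter.isCharacter φ.2
  set κ' := cf C x' (S.kapF σ) with hκ'
  have hκ'lin : IsLinV V κ' := hκ.cf S x'
  -- θ₂' = cf x' φ' ∈ orbF φ'
  set θ₂' : IrrCharacter C := ⟨cf C x' (S.mulIrr φ σ : C → ℂ), cf_isIrr C x' (S.mulIrr φ σ).2⟩
    with hθ₂'
  have hθ₂'mem : θ₂' ∈ orbF (S.mulIrr φ σ) := mem_orbF.2 ⟨x', rfl⟩
  have hθ₂'eq : (θ₂' : C → ℂ) = (θ₂ : C → ℂ) * κ' := by
    show cf C x' (S.mulIrr φ σ : C → ℂ) = _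
    rw [hφ'eq, cf_mul_fun, ← hx']
  have hκ'conj : ∀ c : C, conj (κ' c) * κ' c = 1 := by
    intro c
    rw [hκ'lin.conj_apply, inv_mul_cancel₀ (hκ'lin.apply_ne_zero c)]
  -- ξ = φ * conj θ₂' is a linear character, hence in NZ
  have hξchar : IsCharacter C ((φ : C → ℂ) * cjf (θ₂' : C → ℂ)) :=
    IsCharacter.mul hφc (IsCharacter.conj (IsIrrCharacter.isCharacter θ₂'.2))
  have hξ1 : ((φ : C → ℂ) * cjf (θ₂' : C → ℂ)) 1 = 1 := by
    rw [Pi.mul_apply, hφ1, one_mul]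
    show conj ((θ₂' : C → ℂ) 1) = 1
    rw [hθ₂'eq, Pi.mul_apply, hθ₂1, hκ'lin.apply_one]; simp
  have hξirr : IsIrrCharacter C ((φ : C → ℂ) * cjf (θ₂' : C → ℂ)) :=
    IsCharacter.isIrr_of_apply_one_eq_one hξchar hξ1
  have hξmu : 1 ≤ mu C ((χ : G → ℂ) * cjf (χ' : G → ℂ)) ((φ : C → ℂ) * cjf (θ₂' : C → ℂ)) := by
    have h1 := hOrb.kk_le_mu_mul hχc hχ'c φ (S.mulIrr φ σ) hOrb' hξirr (self_mem_orbF φ) hθ₂'mem
    rw [kk_self_of_irr φ.2 θ₂'.2 hξirr] at h1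
    exact h1
  have hξlin : IsLinV V ((φ : C → ℂ) * cjf (θ₂' : C → ℂ)) :=
    hNZlin ⟨_, hξirr⟩ (hLin ⟨_, hξirr⟩ hξmu)
  -- τ' = φ * conj θ₂
  have hτ'eq : (φ : C → ℂ) * cjf (θ₂ : C → ℂ) = (φ : C → ℂ) * cjf (θ₂' : C → ℂ) * κ' := by
    funext c
    rw [hθ₂'eq]
    simp only [Pi.mul_apply, cjf_apply, map_mul]
    rw [mul_assoc, mul_assoc, hκ'conj c, mul_one]
  have hτ'lin : IsLinV V ((φ : C → ℂ) * cjf (θ₂ : C → ℂ)) := by
    rw [hτ'eq]; exact hξlin.mul hκ'lin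
  have hτ'ne : (φ : C → ℂ) * cjf (θ₂ : C → ℂ) ≠ fun _ => 1 := by
    intro h
    apply hθ₂ne
    apply Subtype.ext
    funext c
    have h1 := congrFun h c
    simp only [Pi.mul_apply, cjf_apply] at h1
    have h2 := mul_conj_eq_one_of_linear hθ₂c hθ₂1 c
    have h3 : (φ : C → ℂ) c * (conj ((θ₂ : C → ℂ) c) * (θ₂ : C → ℂ) c) = (θ₂ : C → ℂ) c := by
      rw [← mul_assoc, h1, one_mul]
    rw [mul_comm (conj _), h2, mul_one] at h3
    exact h3.symm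
  set τ' : IrrCharacter C := ⟨(φ : C → ℂ) * cjf (θ₂ : C → ℂ), hτ'lin.isIrr⟩ with hτ'
  have hτ'L : τ' ∈ Lset V := mem_Lset.2 ⟨hτ'lin, hτ'ne⟩
  -- a constituent φ̃ of χ χ̄ containing τ'
  have hmu0 : 1 ≤ mu C ((χ : G → ℂ) * cjf (χ : G → ℂ)) (τ' : C → ℂ) := by
    have h1 := hOrb.kk_le_mu_mul hχc hχc φ φ hOrb τ'.2 (self_mem_orbF φ) hθ₂mem
    have h2 : kk (φ : C → ℂ) (θ₂ : C → ℂ) (τ' : C → ℂ) = 1 := kk_self_of_irr φ.2 θ₂.2 τ'.2
    omega
  obtain ⟨Ψ₀', hΨ₀', hsplit₀, _⟩ := exists_add_one χ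
  have hdegΨ₀' : charDegree Ψ₀' + 1 = x * x := by
    have h1 := charDegree_mul_cjf hχc hχc
    rw [hsplit₀, charDegree_add isCharacter_one hΨ₀', charDegree_one, ← hxdef] at h1
    omega
  have hmu0' : 1 ≤ mu C Ψ₀' (τ' : C → ℂ) := by
    rw [hsplit₀, mu_add isCharacter_one hΨ₀' τ'.2, mu_one_eq τ'.2, if_neg hτ'ne] at hmu0
    omega
  obtain ⟨φt, hφtc, hφtτ'⟩ := exists_constituent_of_mu_pos hΨ₀' τ'.2 hmu0'
  have hφtchar := IsIrrCharacter.isCharacter φt.2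
  have hcfφt := IsCharacter.isClassFunction hφtchar
  have hdegφt : charDegree (φt : G → ℂ) + 1 ≤ x * x := by
    have := IsCharacter.charDegree_le hΨ₀' φt.2 hφtc
    omega
  obtain ⟨ρ₁, ρ₂, hρ₁L, hρ₂L, hρ₁0, hρ₂0, hρ₁₂⟩ := S.exists_two_zeros he hφtchar (by omega)
  obtain ⟨hρ₁lin, hρ₁ne⟩ := mem_Lset.1 hρ₁L
  obtain ⟨hρ₂lin, hρ₂ne⟩ := mem_Lset.1 hρ₂L
  have hpat : ∀ τ'' : IrrCharacter C, τ'' ∈ Lset V → mu C (φt : G → ℂ) (τ'' : C → ℂ)
      = if InOrb C (τ' : C → ℂ) (τ'' : C → ℂ) then 1 else 0 := by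
    intro τ'' hτ''L
    obtain ⟨hl, hne⟩ := mem_Lset.1 hτ''L
    exact S.pattern φt hτ'lin hτ'ne hφtτ' hρ₁lin hρ₁ne hρ₁0 hρ₂lin hρ₂ne hρ₂0 hρ₁₂ hl hne
  have hφtτ'1 : mu C (φt : G → ℂ) (τ' : C → ℂ) = 1 := by
    rw [hpat τ' hτ'L, if_pos (InOrb.refl _)]
  obtain ⟨hρ₀lin, hρ₀ne⟩ := mem_Lset.1 hρ₀L
  by_cases hcase : InOrb C (ρ₀ : C → ℂ) (τ' : C → ℂ)
  · -- sub-case B
    have hNZne : NZ.Nonempty := by
      rw [← Finset.card_pos, hNZeq]
      have : 0 < x := by rw [hxe']; omega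
      positivity
    obtain ⟨ρ, hρNZ⟩ := hNZne
    have hρmem := hρNZ
    rw [hNZ, Finset.mem_sdiff, mem_orbF] at hρmem
    obtain ⟨hρL, hρno⟩ := hρmem
    obtain ⟨hρlin, hρne⟩ := mem_Lset.1 hρL
    have hτ'ρ : ¬ InOrb C (τ' : C → ℂ) (ρ : C → ℂ) := fun h => hρno (hcase.trans h)
    have hφtρ : mu C (φt : G → ℂ) (ρ : C → ℂ) = 0 := by rw [hpat ρ hρL, if_neg hτ'ρ]
    have P : Pair C Z V (τ' : C → ℂ) (ρ : C → ℂ) := hτ'lin.pair S hρlin hτ'ne hρne hτ'ρ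
    obtain ⟨B, _, hB1, hBmu⟩ := S.exists_partner P (ψ := φt) (by omega)
    have hBρ := hBmu (ρ : C → ℂ) ρ.2
    rw [hφtρ, if_neg hτ'ρ, if_pos (InOrb.refl _)] at hBρ
    have hBρ₀ := hBmu (ρ₀ : C → ℂ) ρ₀.2
    have hφtρ₀ : mu C (φt : G → ℂ) (ρ₀ : C → ℂ) = 1 := by
      rw [hpat ρ₀ hρ₀L, if_pos hcase.symm]
    rw [hφtρ₀, if_pos hcase.symm, if_neg (fun h : InOrb C (ρ : C → ℂ) (ρ₀ : C → ℂ) => hρno h.symm)]
      at hBρ₀
    have hψρ := hNZpos ρ hρNZ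
    have P2 : Pair C Z V (ρ : C → ℂ) (ρ₀ : C → ℂ) :=
      hρlin.pair S hρ₀lin hρne hρ₀ne (fun h => hρno h.symm)
    have hBψ : B = ψ := S.eq_of_mu_lt P2 (by omega) (by omega)
    have hdegB : charDegree (B : G → ℂ) = charDegree (φt : G → ℂ) := by
      apply charDegree_eq_of_apply_one (IsIrrCharacter.isCharacter B.2)
      rw [hB1, IsCharacter.apply_one_eq_charDegree hφtchar]
    rw [hBψ] at hdegB
    omega
  · -- sub-case A
    have hτ'NZ : τ' ∈ NZ := by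
      rw [hNZ, Finset.mem_sdiff, mem_orbF]
      exact ⟨hτ'L, hcase⟩
    have hψτ' := hNZpos τ' hτ'NZ
    have hτ'ρ₀ : ¬ InOrb C (τ' : C → ℂ) (ρ₀ : C → ℂ) := fun h => hcase h.symm
    have hφtρ₀ : mu C (φt : G → ℂ) (ρ₀ : C → ℂ) = 0 := by rw [hpat ρ₀ hρ₀L, if_neg hτ'ρ₀]
    have P : Pair C Z V (τ' : C → ℂ) (ρ₀ : C → ℂ) := hτ'lin.pair S hρ₀lin hτ'ne hρ₀ne hτ'ρ₀
    have heq : φt = ψ := S.eq_of_mu_lt P (by omega) (by omega)
    rw [heq] at hdegφt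
    omega

end fin

end Cfsg.Agent.Lib.Helper3.BL
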