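import Mathlib
import Cfsg.Agent.Lib.Helper3.BL17

set_option autoImplicit false
set_option linter.unusedSectionVars false
set_option linter.style.haveILetI false

namespace Cfsg.Agent.Lib.Helper3.BL
open Cfsg Cfsg.Agent.Lib.Helper6
open scoped ComplexConjugate
open scoped Classical

variable {G : Type*} [Group G]
variable {C : Subgroup G} {Z V : Subgroup C}

section fin
variable [Fintype G] [Fintype C] [Fintype (Subgroup.normalizer (C : Set G))]
variable [Fintype (IrrCharacter C)]

/-- a union of orbits inside the non-`Z`-trivial irreducibles has cardinality divisible by `e` -/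
theorem Setup.dvd_card_of_closed (S : Setup C Z V) {e : ℕ}
    (he : Nat.card (Subgroup.normalizer (C : Set G)) = e * Nat.card C) :
    ∀ (n : ℕ) (T : Finset (IrrCharacter C)), T.card = n →
      (∀ θ ∈ T, ¬ ZTriv Z (θ : C → ℂ)) →
      (∀ θ ∈ T, ∀ θ' : IrrCharacter C, InOrb C (θ : C → ℂ) (θ' : C → ℂ) → θ' ∈ T) →
      e ∣ T.card := by
  intro n
  induction n using Nat.strong_induction_on with
  | _ n ih =>
    intro T hT hnt hcl
    rcases T.eq_empty_or_nonempty with rfl | ⟨ρ, hρ⟩
    · simp
    · have hsub : orbF ρ ⊆ T := by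
        intro θ hθ
        exact hcl ρ hρ θ (mem_orbF.1 hθ)
      have hcard := S.card_orbF he ρ (hnt ρ hρ)
      have hsd : (T \ orbF ρ).card = T.card - e := by
        rw [Finset.card_sdiff_of_subset hsub, hcard]
      have hle : e ≤ T.card := by
        rw [← hcard]; exact Finset.card_le_card hsub
      have hepos : 0 < e := by
        rw [← hcard]; exact Finset.card_pos.2 ⟨ρ, self_mem_orbF ρ⟩
      have hrec := ih (T.card - e) (by omega) (T \ orbF ρ) hsd
        (fun θ hθ => hnt θ (Finset.mem_sdiff.1 hθ).1)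
        (by
          intro θ hθ θ' ho
          rw [Finset.mem_sdiff] at hθ ⊢
          refine ⟨hcl θ hθ.1 θ' ho, ?_⟩
          intro hmem
          apply hθ.2
          rw [mem_orbF] at hmem ⊢
          exact hmem.trans ho.symm)
      rw [hsd] at hrec
      obtain ⟨k, hk⟩ := hrec
      refine ⟨k + 1, ?_⟩
      have : T.card = (T.card - e) + e := by omega
      rw [this, hk]; ring

/-- `e` divides `|Z| - 1`. -/
theorem Setup.dvd_card_sub_one (S : Setup C Z V) {e : ℕ}
    (he : Nat.card (Subgroup.normalizer (C : Set G)) = e * Nat.card C) :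
    e ∣ Nat.card Z - 1 := by
  rw [← S.card_Lset]
  apply S.dvd_card_of_closed he _ (Lset V) rfl
  · intro θ hθ
    exact not_zTriv_of_mem_Lset S hθ
  · intro θ hθ θ' ho
    obtain ⟨hlin, hne⟩ := mem_Lset.1 hθ
    rw [mem_Lset]
    refine ⟨IsLinV.of_inOrb S hlin ho, ?_⟩
    intro h1
    have hnt := not_zTriv_of_mem_Lset S hθ
    apply not_inOrb_one_of_not_zTriv hnt
    rw [← h1]
    exact ho

end fin
end Cfsg.Agent.Lib.Helper3.BL
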