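import Mathlib
import Cfsg.Agent.Lib.Helper3.BL18

set_option autoImplicit false
set_option linter.unusedSectionVars false
set_option linter.style.haveILetI false

namespace Cfsg.Agent.Lib.Helper3.BL
open Cfsg Cfsg.Agent.Lib.Helper6
open scoped ComplexConjugate
open scoped Classical

variable {G : Type*} [Group G]
variable {C : Subgroup G} {Z V : Subgroup C}

section fin
variable [Fintype G] [Fintype C] [Fintype (Subgroup.normalizer (C : Set G))]
variable [Fintype (IrrCharacter C)]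

/-- **Main abstract theorem** (Brauer–Leonard), case `e ≥ 2`. -/
theorem Setup.main (S : Setup C Z V) {e : ℕ}
    (he : Nat.card (Subgroup.normalizer (C : Set G)) = e * Nat.card C) (he2 : 2 ≤ e)
    (χ : IrrCharacter G)
    (hx : charDegree (χ : G → ℂ) ^ 2 + 1 < Nat.card Z) :
    (∀ z : C, z ∈ Z → (χ : G → ℂ) (z : G) = (χ : G → ℂ) 1) ∨
    ∃ ψ : IrrCharacter G, (ψ : G → ℂ) ≠ (fun _ => 1) ∧
      ∀ z : C, z ∈ Z → (ψ : G → ℂ) (z : G) = (ψ : G → ℂ) 1 := by
  have hdvd := S.dvd_card_sub_one he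
  have hχc := IsIrrCharacter.isCharacter χ.2
  rcases S.dichotomy he χ.2 (by omega) with hall | ⟨φ, hφnt, hOrb⟩
  · left
    intro z hz
    exact apply_eq_of_all_zTriv hχc hall hz
  · set x := charDegree (χ : G → ℂ) with hxdef
    set dφ := charDegree (φ : C → ℂ) with hdφ
    set q := Nat.card Z with hq
    have hxe : x = e * dφ := S.charDegree_of_orbRes he hχc φ hφnt hOrb
    have hdφpos : 0 < dφ := IsIrrCharacter.charDegree_pos φ.2
    have hex : e ≤ x := by rw [hxe]; exact Nat.le_mul_of_pos_right e hdφpos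
    have hee : e * e ≤ x * x := Nat.mul_le_mul hex hex
    have hx' : x * x + 1 < q := by rw [← sq]; exact hx
    have he1 : e + 1 < q := by nlinarith
    obtain ⟨σ, hσne, hσno⟩ := S.exists_sigma he φ hφnt he1
    have hφ'nt : ¬ ZTriv Z (S.mulIrr φ σ : C → ℂ) := by
      rw [S.zTriv_mulIrr_iff]
      intro h
      apply hσne
      rw [h]
      apply MonoidHom.ext
      intro z
      simp
    obtain ⟨χ', hOrb', hdeg'⟩ := S.exists_orbRes_partner φ.2 hφnt (S.mulIrr φ σ).2 hφ'nt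
      (fun v hv => (S.mulIrr_apply_mem_V φ σ hv).symm) χ hOrb
    have hχ'c := IsIrrCharacter.isCharacter χ'.2
    have hΨc : IsCharacter G ((χ : G → ℂ) * cjf (χ' : G → ℂ)) :=
      IsCharacter.mul hχc (IsCharacter.conj hχ'c)
    have hdegχ' : charDegree (χ' : G → ℂ) = x := by
      apply charDegree_eq_of_apply_one hχ'c
      rw [hdeg', IsCharacter.apply_one_eq_charDegree hχc]
    have hdegΨ : charDegree ((χ : G → ℂ) * cjf (χ' : G → ℂ)) = x * x := by
      rw [charDegree_mul_cjf hχc hχ'c, hdegχ']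
    have hκ := S.kapF_isLinV σ
    have hτlin : IsLinV V (cjf (S.kapF σ)) := hκ.conjF
    have hσ1 : σ ≠ 1 := by
      intro h
      apply hσno
      rw [h]
      have h1 : S.centralHom φ.2 * 1 = S.centralHom φ.2 := by
        apply MonoidHom.ext
        intro z
        simp
      rw [h1]
      exact InOrb.refl _
    have hτne : cjf (S.kapF σ) ≠ fun _ => 1 := by
      intro h
      apply hσ1
      apply S.kapF_injective
      rw [S.kapF_one]
      funext c
      have h1 := congrFun h c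
      rw [cjf_apply] at h1
      have h2 := congrArg conj h1
      rw [Complex.conj_conj, map_one] at h2
      exact h2
    have hpos : 1 ≤ mu C ((χ : G → ℂ) * cjf (χ' : G → ℂ)) (cjf (S.kapF σ)) :=
      S.mu_mul_kap_pos φ σ hχc hχ'c hOrb hOrb'
    obtain ⟨ψ, hψc, hψpos⟩ := exists_constituent_of_mu_pos hΨc hτlin.isIrr hpos
    have hψchar := IsIrrCharacter.isCharacter ψ.2
    have hcfψ := IsCharacter.isClassFunction hψchar
    have hdegψ : charDegree (ψ : G → ℂ) ≤ x * x := by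
      rw [← hdegΨ]; exact IsCharacter.charDegree_le hΨc ψ.2 hψc
    have hnt : ∀ θ : IrrCharacter C, 1 ≤ mu C (ψ : G → ℂ) (θ : C → ℂ) →
        ¬ ZTriv Z (θ : C → ℂ) := by
      intro θ hθ
      have h1 := mu_le_of_constituent hΨc ψ hψc θ.2
      exact S.not_zTriv_of_mu_mul_pos φ σ hσno hχc hχ'c hOrb hOrb' θ.2 (le_trans hθ h1)
    have hdegψ1 : charDegree (ψ : G → ℂ) + 1 < q := by omega
    obtain ⟨ρ₀, hρ₀L, hρ₀0⟩ := S.exists_zero hψchar hdegψ1
    by_cases hall : ∀ ρ : IrrCharacter C, ρ ∈ Lset V → mu C (ψ : G → ℂ) (ρ : C → ℂ) = 0 →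
      InOrb C (ρ₀ : C → ℂ) (ρ : C → ℂ)
    · exact (S.false_of_caseII he he2 hdvd χ φ hφnt hOrb hx' σ χ' hOrb' hdeg' ψ hψc ρ₀ hρ₀L
        hρ₀0 hall).elim
    · push Not at hall
      obtain ⟨ρ₂, hρ₂L, hρ₂0, h12⟩ := hall
      right
      obtain ⟨hρ₀lin, hρ₀ne⟩ := mem_Lset.1 hρ₀L
      obtain ⟨hρ₂lin, hρ₂ne⟩ := mem_Lset.1 hρ₂L
      let τ : IrrCharacter C := ⟨cjf (S.kapF σ), hτlin.isIrr⟩
      have hτL : τ ∈ Lset V := mem_Lset.2 ⟨hτlin, hτne⟩
      have hpat : ∀ τ' : IrrCharacter C, τ' ∈ Lset V → mu C (ψ : G → ℂ) (τ' : C → ℂ)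
          = if InOrb C (τ : C → ℂ) (τ' : C → ℂ) then 1 else 0 := by
        intro τ' hτ'L
        obtain ⟨hτ'lin, hτ'ne⟩ := mem_Lset.1 hτ'L
        exact S.pattern ψ hτlin hτne hψpos hρ₀lin hρ₀ne hρ₀0 hρ₂lin hρ₂ne hρ₂0 h12 hτ'lin hτ'ne
      have hzero : ∃ ρ₁ : IrrCharacter C, ρ₁ ∈ Lset V ∧ ¬ InOrb C (τ : C → ℂ) (ρ₁ : C → ℂ) := by
        refine ⟨ρ₀, hρ₀L, ?_⟩
        apply not_inOrb_of_mu_ne hcfψ
        show mu C (ψ : G → ℂ) (cjf (S.kapF σ)) ≠ mu C (ψ : G → ℂ) (ρ₀ : C → ℂ)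
        omega
      have hOrbψ := S.orbRes_of_pattern he ψ τ hτL hpat hnt hdegψ1 hzero
      exact S.exists_kernel_of_principal he he2 ψ τ hτL hOrbψ (by omega)

end fin
end Cfsg.Agent.Lib.Helper3.BL
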