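import Mathlib
import Cfsg.Agent.Lib.Helper3.BL19

set_option autoImplicit false
set_option linter.unusedSectionVars false
set_option linter.style.haveILetI false

namespace Cfsg.Agent.Lib.Helper3.BL
open Cfsg Cfsg.Agent.Lib.Helper6
open scoped ComplexConjugate
open scoped Classical

variable {G : Type*} [Group G]
variable {C : Subgroup G} {Z V : Subgroup C}

section fin
variable [Fintype G] [Fintype C] [Fintype (Subgroup.normalizer (C : Set G))]
variable [Fintype (IrrCharacter C)]

/-- The case `e = 1`: `Z` acts by scalars of absolute value one. -/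
theorem Setup.main_one (S : Setup C Z V)
    (he : Nat.card (Subgroup.normalizer (C : Set G)) = 1 * Nat.card C)
    (χ : IrrCharacter G)
    (hx : charDegree (χ : G → ℂ) ^ 2 + 1 < Nat.card Z) :
    ∀ z : C, z ∈ Z → Complex.normSq ((χ : G → ℂ) (z : G)) = Complex.normSq ((χ : G → ℂ) 1) := by
  have hχc := IsIrrCharacter.isCharacter χ.2
  intro z hz
  rcases S.dichotomy he χ.2 (by omega) with hall | ⟨φ, hφnt, hOrb⟩
  · rw [apply_eq_of_all_zTriv hχc hall hz]
  · have hres := OrbRes.restrict_eq hχc φ hOrb
    have hcard := S.card_orbF he φ hφnt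
    obtain ⟨a, ha⟩ := Finset.card_eq_one.1 hcard
    have hφa : φ = a := by
      have := self_mem_orbF φ
      rw [ha, Finset.mem_singleton] at this
      exact this
    rw [ha, Finset.sum_singleton, ← hφa] at hres
    have h1 := congrFun hres z
    have h2 := congrFun hres 1
    simp only [OneMemClass.coe_one] at h2
    rw [h1, h2]
    exact S.normSq_apply_of_mem φ.2 hz

end fin
end Cfsg.Agent.Lib.Helper3.BL
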