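import Mathlib
import Cfsg.Agent.Lib.Helper3.BL20

set_option autoImplicit false
set_option linter.unusedSectionVars false
set_option linter.style.haveILetI false

namespace Cfsg.Agent.Lib.Helper3.BL
open Cfsg Cfsg.Agent.Lib.Helper6
open scoped Classical

section central
variable {C : Type*} [Group C] [Finite C] {Z V : Subgroup C}

theorem exists_mul_of_compl (hc : Z.IsComplement' V) (c : C) : ∃ z ∈ Z, ∃ v ∈ V, c = z * v := by
  obtain ⟨x, hx, -⟩ := (Subgroup.isComplement'_def.1 hc).existsUnique c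
  exact ⟨x.1, x.1.2, x.2, x.2.2, hx.symm⟩

theorem mem_right_iff_pow (hZ : Z ≤ Subgroup.center C) (hc : Z.IsComplement' V)
    (hcop : Nat.Coprime (Nat.card Z) (Nat.card V)) (c : C) :
    c ∈ V ↔ c ^ Nat.card V = 1 := by
  constructor
  · intro h
    have := pow_card_eq_one' (G := V) (x := ⟨c, h⟩)
    exact congrArg Subtype.val this
  · intro h
    obtain ⟨z, hz, v, hv, rfl⟩ := exists_mul_of_compl hc c
    have hcomm : Commute z v := (Subgroup.mem_center_iff.1 (hZ hz) v).symm
    rw [hcomm.mul_pow] at h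
    have hv1 : v ^ Nat.card V = 1 := by
      have := pow_card_eq_one' (G := V) (x := ⟨v, hv⟩)
      exact congrArg Subtype.val this
    rw [hv1, mul_one] at h
    have hz1 : z ^ Nat.card Z = 1 := by
      have := pow_card_eq_one' (G := Z) (x := ⟨z, hz⟩)
      exact congrArg Subtype.val this
    have h1 : orderOf z ∣ Nat.card V := orderOf_dvd_of_pow_eq_one h
    have h2 : orderOf z ∣ Nat.card Z := orderOf_dvd_of_pow_eq_one hz1
    have h3 : orderOf z = 1 := Nat.eq_one_of_dvd_coprimes hcop h2 h1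
    rw [orderOf_eq_one_iff] at h3
    rw [h3, one_mul]
    exact hv

theorem mem_left_iff_pow (hZ : Z ≤ Subgroup.center C) (hc : Z.IsComplement' V)
    (hcop : Nat.Coprime (Nat.card Z) (Nat.card V)) (c : C) :
    c ∈ Z ↔ c ^ Nat.card Z = 1 := by
  constructor
  · intro h
    have := pow_card_eq_one' (G := Z) (x := ⟨c, h⟩)
    exact congrArg Subtype.val this
  · intro h
    obtain ⟨z, hz, v, hv, rfl⟩ := exists_mul_of_compl hc c
    have hcomm : Commute z v := (Subgroup.mem_center_iff.1 (hZ hz) v).symm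
    rw [hcomm.mul_pow] at h
    have hv1 : v ^ Nat.card V = 1 := by
      have := pow_card_eq_one' (G := V) (x := ⟨v, hv⟩)
      exact congrArg Subtype.val this
    have hz1 : z ^ Nat.card Z = 1 := by
      have := pow_card_eq_one' (G := Z) (x := ⟨z, hz⟩)
      exact congrArg Subtype.val this
    rw [hz1, one_mul] at h
    have h1 : orderOf v ∣ Nat.card V := orderOf_dvd_of_pow_eq_one hv1
    have h2 : orderOf v ∣ Nat.card Z := orderOf_dvd_of_pow_eq_one h
    have h3 : orderOf v = 1 := Nat.eq_one_of_dvd_coprimes hcop h2 h1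
    rw [orderOf_eq_one_iff] at h3
    rw [h3, mul_one]
    exact hz

theorem normal_of_central_compl (hZ : Z ≤ Subgroup.center C) (hc : Z.IsComplement' V) :
    V.Normal := by
  constructor
  intro n hn g
  obtain ⟨z, hz, v, hv, rfl⟩ := exists_mul_of_compl hc g
  have hzc := Subgroup.mem_center_iff.1 (hZ hz)
  have : z * v * n * (z * v)⁻¹ = v * n * v⁻¹ := by
    rw [mul_inv_rev]
    calc z * v * n * (v⁻¹ * z⁻¹) = z * (v * n * v⁻¹) * z⁻¹ := by group
      _ = (v * n * v⁻¹) * z * z⁻¹ := by rw [hzc (v * n * v⁻¹)]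
      _ = v * n * v⁻¹ := by group
  rw [this]
  exact V.mul_mem (V.mul_mem hv hn) (V.inv_mem hv)

end central

end Cfsg.Agent.Lib.Helper3.BL
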