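import Mathlib
import Cfsg.Agent.Lib.Helper3.BL21

set_option autoImplicit false
set_option linter.unusedSectionVars false
set_option linter.style.haveILetI false

namespace Cfsg.Agent.Lib.Helper3.BL
open Cfsg Cfsg.Agent.Lib.Helper6
open scoped Classical

section concrete
variable {G : Type*} [Group G] [Finite G] {p : ℕ} [hp : Fact p.Prime] (P : Sylow p G)

/-- the centralizer of the Sylow subgroup -/
abbrev CP : Subgroup G := Subgroup.centralizer ((P : Subgroup G) : Set G)

/-- the Sylow subgroup inside its centralizer -/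
abbrev ZP : Subgroup (CP P) := (P : Subgroup G).subgroupOf (CP P)

theorem P_le_CP
    (hstar : ∀ x ∈ (P : Subgroup G), x ≠ 1 → Subgroup.centralizer ({x} : Set G)
      = Subgroup.centralizer ((P : Subgroup G) : Set G))
    (hne : (P : Subgroup G) ≠ ⊥) : (P : Subgroup G) ≤ CP P := by
  haveI : Nontrivial (P : Subgroup G) := (Subgroup.nontrivial_iff_ne_bot _).2 hne
  haveI := IsPGroup.center_nontrivial P.isPGroup'
  obtain ⟨z, hz⟩ := exists_ne (1 : Subgroup.center (P : Subgroup G))
  have hzP : ((z : (P : Subgroup G)) : G) ∈ (P : Subgroup G) := (z : (P : Subgroup G)).2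
  have hz1 : ((z : (P : Subgroup G)) : G) ≠ 1 := by
    intro h
    apply hz
    ext
    exact h
  have hcz := hstar _ hzP hz1
  intro y hy
  show y ∈ Subgroup.centralizer ((P : Subgroup G) : Set G)
  rw [← hcz, Subgroup.mem_centralizer_singleton_iff]
  have := Subgroup.mem_center_iff.1 z.2 ⟨y, hy⟩
  exact congrArg Subtype.val this

theorem ZP_le_center : ZP P ≤ Subgroup.center (CP P) := by
  intro z hz
  rw [Subgroup.mem_subgroupOf] at hz
  rw [Subgroup.mem_center_iff]
  intro c
  ext
  have := Subgroup.mem_centralizer_iff.1 c.2 (z : G) hz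
  simpa using this.symm

theorem card_ZP (hle : (P : Subgroup G) ≤ CP P) : Nat.card (ZP P) = Nat.card P :=
  Nat.card_congr (Subgroup.subgroupOfEquivOfLe hle).toEquiv

theorem coprime_ZP (hle : (P : Subgroup G) ≤ CP P) :
    Nat.Coprime (Nat.card (ZP P)) (ZP P).index := by
  rw [card_ZP P hle]
  have h1 := P.card_coprime_index
  have h2 : (ZP P).index ∣ (P : Subgroup G).index := by
    have := Subgroup.relIndex_mul_index hle
    exact Dvd.intro _ this
  exact Nat.Coprime.coprime_dvd_right h2 h1

end concrete

end Cfsg.Agent.Lib.Helper3.BL
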