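import Mathlib
import Cfsg.Agent.Lib.Helper3.BL22

set_option autoImplicit false
set_option linter.unusedSectionVars false
set_option linter.style.haveILetI false

namespace Cfsg.Agent.Lib.Helper3.BL
open Cfsg Cfsg.Agent.Lib.Helper6
open scoped Classical

section concrete
variable {G : Type*} [Group G] [Finite G] {p : ℕ} [hp : Fact p.Prime] (P : Sylow p G)

theorem normal_of_le_center' {H : Type*} [Group H] {Z : Subgroup H}
    (hZ : Z ≤ Subgroup.center H) : Z.Normal := by
  constructor
  intro n hn g
  have := Subgroup.mem_center_iff.1 (hZ hn) g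
  have h2 : g * n * g⁻¹ = n := by
    rw [this, mul_assoc, mul_inv_cancel, mul_one]
  rw [h2]; exact hn

theorem exists_setup
    (hstar : ∀ x ∈ (P : Subgroup G), x ≠ 1 → Subgroup.centralizer ({x} : Set G)
      = Subgroup.centralizer ((P : Subgroup G) : Set G))
    (hne : (P : Subgroup G) ≠ ⊥) :
    ∃ V : Subgroup (CP P), Setup (CP P) (ZP P) V := by
  have hle := P_le_CP P hstar hne
  have hZ := ZP_le_center P
  haveI hZn : (ZP P).Normal := normal_of_le_center' hZ
  obtain ⟨V, hcompl⟩ := Subgroup.exists_right_complement'_of_coprime (coprime_ZP P hle)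
  have hVn := normal_of_central_compl hZ hcompl
  have hcop : Nat.Coprime (Nat.card (ZP P)) (Nat.card V) := by
    have := coprime_ZP P hle
    rwa [hcompl.symm.index_eq_card] at this
  have hcard : Nat.card (ZP P) * Nat.card V = Nat.card (CP P) := hcompl.card_mul_card
  -- key: for `c ∉ V`, the power `c ^ |V|` is a nontrivial element of `P`
  have key : ∀ c : CP P, c ∉ V → ((c : G) ^ Nat.card V ∈ (P : Subgroup G)) ∧
      (c : G) ^ Nat.card V ≠ 1 := by
    intro c hc
    constructor
    · have h1 : c ^ Nat.card V ∈ ZP P := by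
        rw [mem_left_iff_pow hZ hcompl hcop, ← pow_mul, mul_comm, hcard]
        exact pow_card_eq_one'
      rw [Subgroup.mem_subgroupOf] at h1
      simpa using h1
    · intro h1
      apply hc
      rw [mem_right_iff_pow hZ hcompl hcop]
      ext
      simpa using h1
  refine ⟨V, ⟨hZ, hVn, hcompl, ?_, ?_, ?_, ?_⟩⟩
  · -- hTI
    intro g c hc hc' hcV'
    obtain ⟨h1, h2⟩ := key c hc
    obtain ⟨h3, h4⟩ := key ⟨_, hc'⟩ hcV'
    have hconj : (g⁻¹ * (c : G) * g) ^ Nat.card V = g⁻¹ * (c : G) ^ Nat.card V * g := by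
      have := conj_pow (a := g⁻¹) (b := (c : G)) (i := Nat.card V)
      simpa using this
    simp only at h3 h4
    rw [hconj] at h3 h4
    have e1 := hstar _ h1 h2
    have e2 := hstar _ h3 h4
    rw [Subgroup.mem_normalizer_iff]
    intro n
    show n ∈ Subgroup.centralizer ((P : Subgroup G) : Set G) ↔
      g * n * g⁻¹ ∈ Subgroup.centralizer ((P : Subgroup G) : Set G)
    conv_lhs => rw [← e2]
    conv_rhs => rw [← e1]
    rw [Subgroup.mem_centralizer_singleton_iff, Subgroup.mem_centralizer_singleton_iff]
    set w := (c : G) ^ Nat.card V with hw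
    constructor
    · intro h
      calc g * n * g⁻¹ * w = g * (n * (g⁻¹ * w * g)) * g⁻¹ := by group
        _ = g * ((g⁻¹ * w * g) * n) * g⁻¹ := by rw [h]
        _ = w * (g * n * g⁻¹) := by group
    · intro h
      calc n * (g⁻¹ * w * g) = g⁻¹ * ((g * n * g⁻¹) * w) * g := by group
        _ = g⁻¹ * (w * (g * n * g⁻¹)) * g := by rw [h]
        _ = g⁻¹ * w * g * n := by group
  · -- hVcl
    intro g c hc hc'
    rw [mem_right_iff_pow hZ hcompl hcop] at hc ⊢
    ext
    have h1 : (c : G) ^ Nat.card V = 1 := by
      have := congrArg Subtype.val hc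
      simpa using this
    have hconj : (g⁻¹ * (c : G) * g) ^ Nat.card V = g⁻¹ * (c : G) ^ Nat.card V * g := by
      have := conj_pow (a := g⁻¹) (b := (c : G)) (i := Nat.card V)
      simpa using this
    simp only [SubmonoidClass.coe_pow, OneMemClass.coe_one]
    rw [hconj, h1]
    group
  · -- hfree
    intro x hx z hz hfix
    by_contra hz1
    apply hx
    have hzP : (z : G) ∈ (P : Subgroup G) := Subgroup.mem_subgroupOf.1 hz
    have hzne : (z : G) ≠ 1 := by
      intro h
      apply hz1
      ext
      exact h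
    have e1 := hstar _ hzP hzne
    show (x : G) ∈ Subgroup.centralizer ((P : Subgroup G) : Set G)
    rw [← e1, Subgroup.mem_centralizer_singleton_iff]
    have h1 := congrArg Subtype.val hfix
    rw [cj_coe] at h1
    calc (x : G) * (z : G) = ((x : G) * (z : G) * (x : G)⁻¹) * (x : G) := by group
      _ = (z : G) * (x : G) := by rw [h1]
  · -- hZinv
    intro x z hz
    rw [mem_left_iff_pow hZ hcompl hcop] at hz ⊢
    rw [← map_pow, hz, map_one]

end concrete

end Cfsg.Agent.Lib.Helper3.BL
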