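import Mathlib
import Cfsg.Agent.Lib.Helper3.BL23
import Cfsg.Agent.Lib.Helper6.BlkKer

set_option autoImplicit false
set_option linter.unusedSectionVars false
set_option linter.style.haveILetI false

namespace Cfsg.Agent.Lib.Helper3.BL
open Cfsg Cfsg.Agent.Lib.Helper6
open scoped ComplexConjugate
open scoped Classical

section top
variable {G : Type*} [Group G] [Fintype G]

/-- a nonprincipal irreducible character constant on `H` gives a proper normal subgroup `⊇ H` -/
theorem exists_normal_of_kernel (ψ : IrrCharacter G) (hne : (ψ : G → ℂ) ≠ fun _ => 1)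
    (H : Subgroup G) (hH : ∀ h ∈ H, (ψ : G → ℂ) h = (ψ : G → ℂ) 1) :
    ∃ K : Subgroup G, K.Normal ∧ K ≠ ⊤ ∧ H ≤ K := by
  have hψc := IsIrrCharacter.isCharacter ψ.2
  refine ⟨charKer hψc, charKer_normal hψc, ?_, ?_⟩
  · intro htop
    apply hne
    have hall : ∀ g : G, (ψ : G → ℂ) g = (ψ : G → ℂ) 1 := by
      intro g
      rw [← mem_charKer hψc, htop]
      exact Subgroup.mem_top g
    have hin : classInner (ψ : G → ℂ) (fun _ => (1 : ℂ)) = (ψ : G → ℂ) 1 := by
      unfold classInner
      simp only [map_one, mul_one]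
      rw [Finset.sum_congr rfl (fun g _ => hall g), Finset.sum_const, Finset.card_univ,
        nsmul_eq_mul, ← Nat.card_eq_fintype_card, ← mul_assoc, inv_mul_cancel₀, one_mul]
      exact_mod_cast (Nat.card_pos (α := G)).ne'
    have h1 := classInner_isIrrCharacter ψ.2 (oneIrrG G).2
    have h2 : (↑(oneIrrG G) : G → ℂ) = fun _ => 1 := rfl
    rw [h2, hin] at h1
    by_contra hne'
    rw [if_neg hne'] at h1
    exact IsIrrCharacter.apply_one_ne_zero ψ.2 h1
  · intro h hh
    rw [mem_charKer]
    exact hH h hh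

/-- the set where `|χ|` is maximal is a normal subgroup -/
theorem exists_normal_of_normSq (χ : IrrCharacter G) :
    ∃ M : Subgroup G, M.Normal ∧ ∀ g : G, g ∈ M ↔
      Complex.normSq ((χ : G → ℂ) g) = Complex.normSq ((χ : G → ℂ) 1) := by
  have hχc := IsIrrCharacter.isCharacter χ.2
  have hΨ : IsCharacter G ((χ : G → ℂ) * fun g => conj ((χ : G → ℂ) g)) :=
    IsCharacter.mul hχc (IsCharacter.conj hχc)
  refine ⟨charKer hΨ, charKer_normal hΨ, ?_⟩
  intro g
  rw [mem_charKer]
  simp only [Pi.mul_apply]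
  rw [Complex.mul_conj, Complex.mul_conj]
  exact_mod_cast Iff.rfl

theorem charDegree_eq_one_of_normSq (χ : IrrCharacter G)
    (h : ∀ g : G, Complex.normSq ((χ : G → ℂ) g) = Complex.normSq ((χ : G → ℂ) 1)) :
    charDegree (χ : G → ℂ) = 1 := by
  have hχc := IsIrrCharacter.isCharacter χ.2
  have h1 : classInner (χ : G → ℂ) (χ : G → ℂ) = 1 := by
    rw [classInner_isIrrCharacter χ.2 χ.2, if_pos rfl]
  rw [Cfsg.Agent.Lib.Helper3.FT.classInner_self_eq] at h1
  rw [Finset.sum_congr rfl (fun g _ => h g), Finset.sum_const, Finset.card_univ,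
    nsmul_eq_mul, ← Nat.card_eq_fintype_card, ← mul_assoc, inv_mul_cancel₀, one_mul] at h1
  · rw [IsCharacter.apply_one_eq_charDegree hχc] at h1
    have h2 : Complex.normSq ((charDegree (χ : G → ℂ) : ℕ) : ℂ)
        = ((charDegree (χ : G → ℂ) * charDegree (χ : G → ℂ) : ℕ) : ℝ) := by
      rw [← Complex.ofReal_natCast, Complex.normSq_ofReal]
      push_cast; ring
    rw [h2] at h1
    have h3 : charDegree (χ : G → ℂ) * charDegree (χ : G → ℂ) = 1 := by
      exact_mod_cast h1
    exact Nat.eq_one_of_mul_eq_one_left h3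
  · exact_mod_cast (Nat.card_pos (α := G)).ne'

end top

end Cfsg.Agent.Lib.Helper3.BL
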