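import Mathlib
import Cfsg.Agent.Lib.Helper3.BL24

set_option autoImplicit false
set_option linter.unusedSectionVars false
set_option linter.style.haveILetI false

namespace Cfsg.Agent.Lib.Helper3.BL
open Cfsg Cfsg.Agent.Lib.Helper6
open scoped ComplexConjugate
open scoped Classical

section top
variable {G : Type*} [Group G] [Finite G]

/-- the normalizer of a subgroup normalizes its centralizer -/
theorem normalizer_le_normalizer_centralizer' (H : Subgroup G) :
    Subgroup.normalizer (H : Set G) ≤
      Subgroup.normalizer ((Subgroup.centralizer (H : Set G) : Subgroup G) : Set G) := by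
  have key : ∀ g : G, g ∈ Subgroup.normalizer (H : Set G) → ∀ n : G,
      n ∈ Subgroup.centralizer (H : Set G) → g * n * g⁻¹ ∈ Subgroup.centralizer (H : Set G) := by
    intro g hg n hn
    rw [Subgroup.mem_centralizer_iff] at hn ⊢
    intro h hh
    have h1 : g⁻¹ * h * g ∈ H := (Subgroup.mem_normalizer_iff''.1 hg h).1 hh
    have h2 := hn _ h1
    calc h * (g * n * g⁻¹) = g * ((g⁻¹ * h * g) * n) * g⁻¹ := by group
      _ = g * (n * (g⁻¹ * h * g)) * g⁻¹ := by rw [h2]
      _ = g * n * g⁻¹ * h := by group
  intro g hg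
  rw [Subgroup.mem_normalizer_iff]
  intro n
  constructor
  · exact key g hg n
  · intro h
    have := key g⁻¹ (Subgroup.inv_mem _ hg) _ h
    simpa [mul_assoc] using this

/-- **Brauer–Leonard** (statement S4486). -/
theorem brauer_leonard (p : ℕ) [hp : Fact p.Prime] (P : Sylow p G)
    (hstar : ∀ x ∈ (P : Subgroup G), x ≠ 1 → Subgroup.centralizer ({x} : Set G)
      = Subgroup.centralizer ((P : Subgroup G) : Set G))
    (n : ℕ) (hn : Nat.card P = p ^ n) (χ : IrrCharacter G)
    (h1 : (χ : G → ℂ) ≠ fun _ => 1)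
    (hdeg : charDegree (χ : G → ℂ) ^ 2 + 1 < p ^ n) :
    (∃ K : Subgroup G, K.Normal ∧ K ≠ ⊤ ∧ (P : Subgroup G) ≤ K) ∨
    ((∃ N : Subgroup G, N.Normal ∧ N.index = p ^ n) ∧ charDegree (χ : G → ℂ) = 1) := by
  by_cases hK : ∃ K : Subgroup G, K.Normal ∧ K ≠ ⊤ ∧ (P : Subgroup G) ≤ K
  · exact Or.inl hK
  right
  have hne : (P : Subgroup G) ≠ ⊥ := by
    intro h
    have h2 : Nat.card (P : Subgroup G) = 1 := by rw [h]; exact Subgroup.card_bot
    have h3 : Nat.card P = Nat.card (P : Subgroup G) := rfl
    omega
  obtain ⟨V, S⟩ := exists_setup P hstar hne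
  have hle := P_le_CP P hstar hne
  haveI : Fintype G := Fintype.ofFinite G
  haveI : Fintype (CP P) := Fintype.ofFinite _
  haveI : Fintype (Subgroup.normalizer ((CP P : Subgroup G) : Set G)) := Fintype.ofFinite _
  haveI : Fintype (IrrCharacter (CP P)) := Fintype.ofFinite _
  have hcardZ : Nat.card (ZP P) = p ^ n := by
    rw [card_ZP P hle]; exact hn
  have hCN : CP P ≤ Subgroup.normalizer ((CP P : Subgroup G) : Set G) := Subgroup.le_normalizer
  obtain ⟨e, he⟩ := Subgroup.card_dvd_of_le hCN
  rw [mul_comm] at he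
  have hx : charDegree (χ : G → ℂ) ^ 2 + 1 < Nat.card (ZP P) := by rw [hcardZ]; exact hdeg
  have hPZ : ∀ h ∈ (P : Subgroup G), ∃ z : CP P, z ∈ ZP P ∧ (z : G) = h := by
    intro h hh
    exact ⟨⟨h, hle hh⟩, Subgroup.mem_subgroupOf.2 hh, rfl⟩
  have hepos : 0 < e := by
    rcases Nat.eq_zero_or_pos e with h0 | h0
    · rw [h0, zero_mul] at he
      have := Nat.card_pos (α := Subgroup.normalizer ((CP P : Subgroup G) : Set G))
      omega
    · exact h0
  rcases Nat.lt_or_ge e 2 with he1 | he2
  · -- `e = 1`
    have he1' : e = 1 := by omega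
    subst he1'
    have hNC : Subgroup.normalizer ((CP P : Subgroup G) : Set G) = CP P := by
      symm
      apply Subgroup.eq_of_le_of_card_ge hCN
      rw [he, one_mul]
    have hNP : Subgroup.normalizer ((P : Subgroup G) : Set G)
        ≤ Subgroup.centralizer ((P : Subgroup G) : Set G) := by
      intro g hg
      have := normalizer_le_normalizer_centralizer' (P : Subgroup G) hg
      rw [hNC] at this
      exact this
    constructor
    · refine ⟨(MonoidHom.transferSylow P hNP).ker, MonoidHom.normal_ker _, ?_⟩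
      have hc := MonoidHom.ker_transferSylow_isComplement' P hNP
      rw [hc.symm.index_eq_card]
      exact hn
    · obtain ⟨M, hMn, hM⟩ := exists_normal_of_normSq χ
      have hmain := S.main_one he χ hx
      have hPM : (P : Subgroup G) ≤ M := by
        intro h hh
        obtain ⟨z, hz, rfl⟩ := hPZ h hh
        rw [hM]
        exact hmain z hz
      have hMtop : M = ⊤ := by
        by_contra hMne
        exact hK ⟨M, hMn, hMne, hPM⟩
      apply charDegree_eq_one_of_normSq
      intro g
      rw [← hM, hMtop]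
      exact Subgroup.mem_top g
  · -- `e ≥ 2`: contradiction
    exfalso
    rcases S.main he he2 χ hx with hχ | ⟨ψ, hψne, hψ⟩
    · apply hK
      apply exists_normal_of_kernel χ h1
      intro h hh
      obtain ⟨z, hz, rfl⟩ := hPZ h hh
      exact hχ z hz
    · apply hK
      apply exists_normal_of_kernel ψ hψne
      intro h hh
      obtain ⟨z, hz, rfl⟩ := hPZ h hh
      exact hψ z hz

end top

end Cfsg.Agent.Lib.Helper3.BL
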