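import Mathlib
import Cfsg.Agent.Lib.Helper3.BL25
import Cfsg.Agent.Lib.Helper6.Multiplicity
import Cfsg.Agent.Lib.Helper6.Mult

set_option autoImplicit false
set_option linter.unusedSectionVars false
set_option linter.style.haveILetI false

namespace Cfsg.Agent.Lib.Helper3.BL
open Cfsg Cfsg.Agent.Lib.Helper6
open scoped ComplexConjugate
open scoped Classical

section faithful
variable {G : Type*} [Group G] [Finite G] {p : ℕ} [hp : Fact p.Prime]

/-- Frattini decomposition `G = K N_G(P)`. -/
theorem exists_decomp (P : Sylow p G) (K : Subgroup G) [hK : K.Normal]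
    (hle : (P : Subgroup G) ≤ K) (g : G) :
    ∃ k ∈ K, ∃ n ∈ Subgroup.normalizer ((P : Subgroup G) : Set G), g = k * n := by
  have h1 := Sylow.normalizer_sup_eq_top (P.subtype hle)
  rw [Sylow.coe_subtype, Subgroup.map_subgroupOf_eq_of_le hle] at h1
  have h2 : g ∈ (↑(K ⊔ Subgroup.normalizer ((P : Subgroup G) : Set G)) : Set G) := by
    rw [sup_comm, h1]; trivial
  rw [Subgroup.normal_mul] at h2
  obtain ⟨k, hk, n, hn, rfl⟩ := Set.mem_mul.1 h2
  exact ⟨k, hk, n, hn, rfl⟩

/-- **Brauer–Leonard**, faithful version (statement S4485). -/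
theorem normal_of_faithful (P : Sylow p G)
    (hstar : ∀ x ∈ (P : Subgroup G), x ≠ 1 → Subgroup.centralizer ({x} : Set G)
      = Subgroup.centralizer ((P : Subgroup G) : Set G))
    (n : ℕ) (hn : Nat.card P = p ^ n) (χ : G → ℂ) (hχ : IsCharacter G χ)
    (hfaith : ∀ g : G, χ g = χ 1 → g = 1)
    (hdeg : charDegree χ ^ 2 + 1 < p ^ n) : (P : Subgroup G).Normal := by
  set K := Subgroup.normalClosure ((P : Subgroup G) : Set G) with hKdef
  haveI hKn : K.Normal := Subgroup.normalClosure_normal
  have hle : (P : Subgroup G) ≤ K := Subgroup.le_normalClosure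
  let PK : Sylow p K := P.subtype hle
  have hPK : (PK : Subgroup K) = (P : Subgroup G).subgroupOf K := Sylow.coe_subtype P hle
  have hmemPK : ∀ y : K, y ∈ (PK : Subgroup K) ↔ (y : G) ∈ (P : Subgroup G) := by
    intro y
    rw [hPK, Subgroup.mem_subgroupOf]
  -- star in K
  have hstarK : ∀ x ∈ (PK : Subgroup K), x ≠ 1 → Subgroup.centralizer ({x} : Set K)
      = Subgroup.centralizer ((PK : Subgroup K) : Set K) := by
    intro x hx hx1
    rw [hmemPK] at hx
    have hx1' : (x : G) ≠ 1 := fun h => hx1 (Subtype.ext h)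
    have e1 := hstar _ hx hx1'
    ext k
    rw [Subgroup.mem_centralizer_singleton_iff, Subgroup.mem_centralizer_iff]
    have h2 : (k : G) ∈ Subgroup.centralizer ({(x : G)} : Set G) ↔
        (k : G) ∈ Subgroup.centralizer ((P : Subgroup G) : Set G) := by rw [e1]
    rw [Subgroup.mem_centralizer_singleton_iff, Subgroup.mem_centralizer_iff] at h2
    constructor
    · intro h y hy
      have hy' : (y : G) ∈ (P : Subgroup G) := (hmemPK y).1 hy
      have := h2.1 (congrArg Subtype.val h) (y : G) hy'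
      exact Subtype.ext this
    · intro h
      have := h2.2 (fun y hy => by
        have := h ⟨y, hle hy⟩ ((hmemPK _).2 hy)
        exact congrArg Subtype.val this)
      exact Subtype.ext this
  have hnK : Nat.card PK = p ^ n := by
    rw [← hn]
    show Nat.card (PK : Subgroup K) = Nat.card (P : Subgroup G)
    rw [hPK]
    exact Nat.card_congr (Subgroup.subgroupOfEquivOfLe hle).toEquiv
  -- no proper normal subgroup of `K` contains `PK`
  have hnoK : ¬ ∃ L : Subgroup K, L.Normal ∧ L ≠ ⊤ ∧ (PK : Subgroup K) ≤ L := by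
    rintro ⟨L, hLn, hLne, hPL⟩
    apply hLne
    rw [eq_top_iff]
    have hsub : K ≤ L.map K.subtype := by
      show Subgroup.closure (Group.conjugatesOfSet ((P : Subgroup G) : Set G)) ≤ _
      rw [Subgroup.closure_le]
      intro a ha
      rw [Group.mem_conjugatesOfSet_iff] at ha
      obtain ⟨b, hb, hconj⟩ := ha
      rw [isConj_iff] at hconj
      obtain ⟨g, rfl⟩ := hconj
      obtain ⟨k, hk, m, hm, rfl⟩ := exists_decomp P K hle g
      have h1 : m * b * m⁻¹ ∈ (P : Subgroup G) := (Subgroup.mem_normalizer_iff.1 hm b).1 hb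
      have h2 : (⟨m * b * m⁻¹, hle h1⟩ : K) ∈ L := hPL ((hmemPK _).2 h1)
      have h3 := hLn.conj_mem _ h2 ⟨k, hk⟩
      refine ⟨_, h3, ?_⟩
      simp [mul_assoc]
    intro k _
    obtain ⟨l, hl, hlk⟩ := hsub k.2
    have : l = k := Subtype.ext hlk
    rw [← this]; exact hl
  haveI : Fintype K := Fintype.ofFinite _
  haveI : Fintype (IrrCharacter K) := Fintype.ofFinite _
  have hψ : IsCharacter K (fun k : K => χ k) := IsCharacter.restrict K hχ
  have hdegψ : charDegree (fun k : K => χ k) = charDegree χ := by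
    unfold charDegree
    simp
  have hlin : ∀ θ : IrrCharacter K, classInner (fun k : K => χ k) (θ : K → ℂ) ≠ 0 →
      (θ : K → ℂ) 1 = 1 := by
    intro θ hθ
    have hle' := IsCharacter.charDegree_le hψ θ.2 hθ
    rw [hdegψ] at hle'
    by_cases h1 : (θ : K → ℂ) = fun _ => 1
    · rw [h1]
    · have hd : charDegree (θ : K → ℂ) ^ 2 + 1 < p ^ n := by
        have := Nat.pow_le_pow_left hle' 2
        omega
      rcases brauer_leonard p PK hstarK n hnK θ h1 hd with h | ⟨_, h⟩
      · exact (hnoK h).elim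
      · rw [IsCharacter.apply_one_eq_charDegree (IsIrrCharacter.isCharacter θ.2), h]
        simp
  obtain ⟨m, hm, hmc⟩ := IsCharacter.exists_mult hψ
  have hcomm : ∀ a b : K, a * b = b * a := by
    intro a b
    have h1 : χ ((a * b * a⁻¹ * b⁻¹ : K) : G) = χ ((1 : K) : G) := by
      have e1 := apply_eq_sum_mult hm (a * b * a⁻¹ * b⁻¹)
      have e2 := apply_eq_sum_mult hm 1
      beta_reduce at e1 e2
      rw [e1, e2]
      apply Finset.sum_congr rfl
      intro θ _
      by_cases h0 : m θ = 0
      · rw [h0]; simp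
      · have : classInner (fun k : K => χ k) (θ : K → ℂ) ≠ 0 := by
          rw [hmc]; exact_mod_cast h0
        have h1 := hlin θ this
        rw [IsCharacter.apply_commutator_of_apply_one_eq_one
          (IsIrrCharacter.isCharacter θ.2) h1, h1]
    simp only [OneMemClass.coe_one] at h1
    have h2 := hfaith _ h1
    have h3 : a * b * a⁻¹ * b⁻¹ = 1 := Subtype.ext h2
    calc a * b = (a * b * a⁻¹ * b⁻¹) * (b * a) := by group
      _ = b * a := by rw [h3, one_mul]
  constructor
  intro h hh g
  obtain ⟨k, hk, m', hm', rfl⟩ := exists_decomp P K hle g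
  have h1 : m' * h * m'⁻¹ ∈ (P : Subgroup G) := (Subgroup.mem_normalizer_iff.1 hm' h).1 hh
  have h2 := hcomm ⟨k, hk⟩ ⟨m' * h * m'⁻¹, hle h1⟩
  have h3 : k * (m' * h * m'⁻¹) = (m' * h * m'⁻¹) * k := congrArg Subtype.val h2
  have : k * m' * h * (k * m')⁻¹ = m' * h * m'⁻¹ := by
    calc k * m' * h * (k * m')⁻¹ = (k * (m' * h * m'⁻¹)) * k⁻¹ := by group
      _ = m' * h * m'⁻¹ := by rw [h3]; group
  rw [this]; exact h1

end faithful

end Cfsg.Agent.Lib.Helper3.BL
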