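import Cfsg.Agent.Lib.Helper2.BMf
import Cfsg.Agent.Lib.Helper2.UF
import Cfsg.Agent.Lib.Helper3.BMTOrd3MT

/-!
# Unit U2 of the farm BMT (S5412, coordinator helper2)

`F*(C_{K/T}(z T)) = Q'` by the criterion `UF`: `Q'` is a normal 2-subgroup, the quotient is the simple group
`Co2`, and an element of order 3 of `C_C(t)` moves some element of `C_Q(t)` outside its coset of `⟨z, t⟩`.
-/

set_option autoImplicit false

namespace Cfsg.Agent.Lib.Helper3.BMTu2

open Cfsg Cfsg.Agent.Lib.Helper4.ES2 Cfsg.Agent.Lib.Helper9.MTc Cfsg.Agent.Lib.Helper2.BM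

variable {G : Type*} [Group G] [Finite G] {z : G}
  {Q : Subgroup (Subgroup.centralizer ({z} : Set G))} [Q.Normal]
  {e : (Subgroup.centralizer ({z} : Set G)) ⧸ Q ≃* Spor.Co1}
  {ψ : leechLattice → Q ⧸ Subgroup.center Q} {t : G}
  [hn : ((Subgroup.zpowers t).subgroupOf (Subgroup.centralizer ({t} : Set G))).Normal]

/-- the quotient is simple -/
theorem quot_simple (S : BMS z Q e ψ t) :
    IsSimpleGroup (↥(Subgroup.centralizer ({S.z'} : Set (↥(Subgroup.centralizer ({t} : Set G)) ⧸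
      (Subgroup.zpowers t).subgroupOf (Subgroup.centralizer ({t} : Set G))))) ⧸ S.Q') := by
  have := St_simple
  exact (S.e'.trans isoSt).isSimpleGroup

/-- the quotient is not a 2-group -/
theorem quot_not_pGroup (S : BMS z Q e ψ t) :
    ¬ IsPGroup 2 (↥(Subgroup.centralizer ({S.z'} : Set (↥(Subgroup.centralizer ({t} : Set G)) ⧸
      (Subgroup.zpowers t).subgroupOf (Subgroup.centralizer ({t} : Set G))))) ⧸ S.Q') := by
  intro h
  have hcard : Nat.card (↥(Subgroup.centralizer ({S.z'} : Set (↥(Subgroup.centralizer ({t} : Set G)) ⧸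
      (Subgroup.zpowers t).subgroupOf (Subgroup.centralizer ({t} : Set G))))) ⧸ S.Q') =
      42305421312000 := by
    rw [Nat.card_congr (S.e'.trans isoSt).toEquiv, St_card]
  obtain ⟨m, hm⟩ := IsPGroup.iff_card.mp h
  rw [hcard] at hm
  have h3 : 3 ∣ 2 ^ m := by
    rw [← hm]
    norm_num
  have := Nat.Prime.dvd_of_dvd_pow Nat.prime_three h3
  omega

/-- unit U2 -/
theorem gfs_eq (S : BMS z Q e ψ t) :
    Cfsg.generalizedFittingSubgroup
      ↥(Subgroup.centralizer ({S.z'} : Set (↥(Subgroup.centralizer ({t} : Set G)) ⧸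
        (Subgroup.zpowers t).subgroupOf (Subgroup.centralizer ({t} : Set G))))) = S.Q' := by
  have hD := S.mt.dataG
  obtain ⟨y, hyx, q, hqQ, hqx, hne1, hne2, hne3, hne4⟩ :=
    Cfsg.Agent.Lib.Helper3.BMTOrd3MT.exists_moved2 S.mt Spor.leechU S.tQ S.hψt' leechU_norm
  -- `G`-level facts
  have hyt : (y : G) * t = t * (y : G) := congrArg Subtype.val hyx
  have hqt : (q : G) * t = t * (q : G) := congrArg Subtype.val hqx
  have hqG : (q : G) ∈ QG Q := mem_QG.mpr ⟨q.2, hqQ⟩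
  have hcQ : (y * q * y⁻¹ : Subgroup.centralizer ({z} : Set G)) ∈ Q :=
    (inferInstance : Q.Normal).conj_mem q hqQ y
  have hcG : (y : G) * (q : G) * (y : G)⁻¹ ∈ QG Q :=
    mem_QG.mpr ⟨(y * q * y⁻¹ : Subgroup.centralizer ({z} : Set G)).2, hcQ⟩
  have hyt' : (y : G)⁻¹ * t = t * (y : G)⁻¹ := by
    calc (y : G)⁻¹ * t = (y : G)⁻¹ * (t * (y : G)) * (y : G)⁻¹ := by group
      _ = (y : G)⁻¹ * ((y : G) * t) * (y : G)⁻¹ := by rw [hyt]
      _ = t * (y : G)⁻¹ := by group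
  have hct : (y : G) * (q : G) * (y : G)⁻¹ * t = t * ((y : G) * (q : G) * (y : G)⁻¹) := by
    calc (y : G) * (q : G) * (y : G)⁻¹ * t = (y : G) * (q : G) * ((y : G)⁻¹ * t) := by group
      _ = (y : G) * ((q : G) * t) * (y : G)⁻¹ := by rw [hyt']; group
      _ = ((y : G) * t) * (q : G) * (y : G)⁻¹ := by rw [hqt]; group
      _ = t * ((y : G) * (q : G) * (y : G)⁻¹) := by rw [hyt]; group
  -- the elements of `C_Q(t)`
  let r : ↥S.R0 := ⟨(q : G), (S.mem_R0 _).mpr ⟨hqG, hqt⟩⟩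
  let rc : ↥S.R0 := ⟨(y : G) * (q : G) * (y : G)⁻¹, (S.mem_R0 _).mpr ⟨hcG, hct⟩⟩
  -- the element of order 3 in `C ∩ K`
  have hyH : y ∈ S.H := (S.mem_H y).mpr hyt
  let k : ↥S.HK := S.jH.symm ⟨y, hyH⟩
  have hk : (QuotientGroup.mk (k : Subgroup.centralizer ({t} : Set G)) :
      ↥(Subgroup.centralizer ({t} : Set G)) ⧸
      (Subgroup.zpowers t).subgroupOf (Subgroup.centralizer ({t} : Set G))) ∈
      Subgroup.centralizer ({S.z'} : Set (↥(Subgroup.centralizer ({t} : Set G)) ⧸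
      (Subgroup.zpowers t).subgroupOf (Subgroup.centralizer ({t} : Set G)))) := by
    rw [S.centralizer_z']
    exact ⟨k.1, k.2, rfl⟩
  -- conjugation by the image of `k` on the image of `r`
  have hconj : (⟨_, hk⟩ : ↥(Subgroup.centralizer ({S.z'} : Set (↥(Subgroup.centralizer ({t} : Set G)) ⧸
      (Subgroup.zpowers t).subgroupOf (Subgroup.centralizer ({t} : Set G)))))) *
      ((S.pQ r : ↥S.Q') : ↥(Subgroup.centralizer ({S.z'} : Set _))) *
      (⟨_, hk⟩ : ↥(Subgroup.centralizer ({S.z'} : Set (↥(Subgroup.centralizer ({t} : Set G)) ⧸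
      (Subgroup.zpowers t).subgroupOf (Subgroup.centralizer ({t} : Set G))))))⁻¹ =
      ((S.pQ rc : ↥S.Q') : ↥(Subgroup.centralizer ({S.z'} : Set _))) := by
    apply Subtype.ext
    rfl
  apply Cfsg.Agent.Lib.Helper2.UFUnit.UF S.Q' S.isPGroup_Q' (quot_simple S) (quot_not_pGroup S)
    ⟨_, hk⟩ ((S.pQ r : ↥S.Q') : ↥(Subgroup.centralizer ({S.z'} : Set _))) (S.pQ r).2
  intro q'' hq'' heq
  obtain ⟨r', hr'⟩ := S.pQ_surjective ⟨q'', hq''⟩
  have hq''eq : q'' = ((S.pQ r' : ↥S.Q') : ↥(Subgroup.centralizer ({S.z'} : Set _))) := by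
    rw [hr']
  rw [hconj, hq''eq] at heq
  have heq2 : S.pQ rc = S.pQ (r' * r * r'⁻¹) := by
    apply Subtype.ext
    rw [heq, map_mul, map_mul, map_inv]
    rfl
  -- the `Q`-conjugates of `q`
  have hr'G : (r' : G) ∈ QG Q := ((S.mem_R0 _).mp r'.2).1
  have hconjq : (r' : G) * (q : G) * (r' : G)⁻¹ = (q : G) ∨
      (r' : G) * (q : G) * (r' : G)⁻¹ = (q : G) * z := by
    have h1 : (r' : G) * (q : G) * (r' : G)⁻¹ = cm (r' : G) (q : G) * (q : G) := by
      unfold cm; group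
    rcases hD.comm_mem _ hr'G _ hqG with h2 | h2
    · left; rw [h1, h2, one_mul]
    · right; rw [h1, h2]; exact (hD.z_comm _ hqG).symm
  rcases (S.pQ_eq_iff _ _).mp heq2 with h1 | h1
  · have h2 : (y : G) * (q : G) * (y : G)⁻¹ = (r' : G) * (q : G) * (r' : G)⁻¹ :=
      congrArg Subtype.val h1
    rcases hconjq with h3 | h3
    · apply hne1
      apply Subtype.ext
      show (y : G) * (q : G) * (y : G)⁻¹ = (q : G)
      rw [h2, h3]
    · apply hne2
      apply Subtype.ext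
      show (y : G) * (q : G) * (y : G)⁻¹ = (q : G) * z
      rw [h2, h3]
  · have h2 : (y : G) * (q : G) * (y : G)⁻¹ = (r' : G) * (q : G) * (r' : G)⁻¹ * t :=
      congrArg Subtype.val h1
    rcases hconjq with h3 | h3
    · apply hne3
      apply Subtype.ext
      show (y : G) * (q : G) * (y : G)⁻¹ = (q : G) * t
      rw [h2, h3]
    · apply hne4
      apply Subtype.ext
      show (y : G) * (q : G) * (y : G)⁻¹ = (q : G) * (z * t)
      rw [h2, h3, mul_assoc]

end Cfsg.Agent.Lib.Helper3.BMTu2
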