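import Mathlib

set_option autoImplicit false
set_option maxHeartbeats 1000000
set_option linter.style.haveILetI false
set_option linter.unusedSectionVars false
set_option linter.unusedVariables false

/-! A presentation of `GL(2,3)` on four generators `i, j, x, s` and the bound `|P| ≤ 48`. -/

namespace Cfsg.Agent.Lib.Helper3.BO

/-- generators -/
inductive Gen : Type
  | i | j | x | s
  deriving DecidableEq

/-- the relators -/
def relList : List (FreeGroup Gen) :=
  [ FreeGroup.of Gen.i ^ 4,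
    FreeGroup.of Gen.i ^ 2 * (FreeGroup.of Gen.j ^ 2)⁻¹,
    FreeGroup.of Gen.j * FreeGroup.of Gen.i * (FreeGroup.of Gen.j)⁻¹ * FreeGroup.of Gen.i,
    FreeGroup.of Gen.x ^ 3,
    FreeGroup.of Gen.x * FreeGroup.of Gen.i * (FreeGroup.of Gen.x)⁻¹ * (FreeGroup.of Gen.j)⁻¹,
    FreeGroup.of Gen.x * FreeGroup.of Gen.j * (FreeGroup.of Gen.x)⁻¹ *
      (FreeGroup.of Gen.i * FreeGroup.of Gen.j)⁻¹,
    FreeGroup.of Gen.s ^ 2,
    FreeGroup.of Gen.s * FreeGroup.of Gen.x * (FreeGroup.of Gen.s)⁻¹ * FreeGroup.of Gen.x,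
    FreeGroup.of Gen.s * FreeGroup.of Gen.i * (FreeGroup.of Gen.s)⁻¹ * FreeGroup.of Gen.j,
    FreeGroup.of Gen.s * FreeGroup.of Gen.j * (FreeGroup.of Gen.s)⁻¹ * FreeGroup.of Gen.i ]

/-- the relator set -/
def rels : Set (FreeGroup Gen) := {r | r ∈ relList}

/-- the presented group -/
abbrev P48 : Type := PresentedGroup rels

/-- generator `i` -/
def gI : P48 := PresentedGroup.of Gen.i
/-- generator `j` -/
def gJ : P48 := PresentedGroup.of Gen.j
/-- generator `x` -/
def gX : P48 := PresentedGroup.of Gen.x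
/-- generator `s` -/
def gS : P48 := PresentedGroup.of Gen.s

theorem rel_mem (n : ℕ) (h : n < relList.length) : relList[n] ∈ rels := by
  show relList[n] ∈ relList
  exact List.getElem_mem h

theorem mk_of (a : Gen) : (PresentedGroup.mk rels (FreeGroup.of a) : P48) = PresentedGroup.of a := rfl

theorem r1 : gI ^ 4 = 1 := by
  have h := PresentedGroup.one_of_mem (rel_mem 0 (by decide))
  simpa [relList, mk_of, gI] using h

theorem r2 : gI ^ 2 = gJ ^ 2 := by
  have h := PresentedGroup.one_of_mem (rel_mem 1 (by decide))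
  have h' : gI ^ 2 * (gJ ^ 2)⁻¹ = 1 := by simpa [relList, mk_of, gI, gJ] using h
  exact mul_inv_eq_one.mp h'

theorem r3 : gJ * gI * gJ⁻¹ = gI⁻¹ := by
  have h := PresentedGroup.one_of_mem (rel_mem 2 (by decide))
  have h' : gJ * gI * gJ⁻¹ * gI = 1 := by simpa [relList, mk_of, gI, gJ] using h
  exact mul_eq_one_iff_eq_inv.mp h'

theorem r4 : gX ^ 3 = 1 := by
  have h := PresentedGroup.one_of_mem (rel_mem 3 (by decide))
  simpa [relList, mk_of, gX] using h

theorem r5 : gX * gI * gX⁻¹ = gJ := by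
  have h := PresentedGroup.one_of_mem (rel_mem 4 (by decide))
  have h' : gX * gI * gX⁻¹ * gJ⁻¹ = 1 := by simpa [relList, mk_of, gI, gJ, gX] using h
  exact mul_inv_eq_one.mp h'

theorem r6 : gX * gJ * gX⁻¹ = gI * gJ := by
  have h := PresentedGroup.one_of_mem (rel_mem 5 (by decide))
  have h' : gX * gJ * gX⁻¹ * (gI * gJ)⁻¹ = 1 := by simpa [relList, mk_of, gI, gJ, gX] using h
  exact mul_inv_eq_one.mp h'

theorem r7 : gS ^ 2 = 1 := by
  have h := PresentedGroup.one_of_mem (rel_mem 6 (by decide))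
  simpa [relList, mk_of, gS] using h

theorem r8 : gS * gX * gS⁻¹ = gX⁻¹ := by
  have h := PresentedGroup.one_of_mem (rel_mem 7 (by decide))
  have h' : gS * gX * gS⁻¹ * gX = 1 := by simpa [relList, mk_of, gS, gX] using h
  exact mul_eq_one_iff_eq_inv.mp h'

theorem r9 : gS * gI * gS⁻¹ = gJ⁻¹ := by
  have h := PresentedGroup.one_of_mem (rel_mem 8 (by decide))
  have h' : gS * gI * gS⁻¹ * gJ = 1 := by simpa [relList, mk_of, gS, gI, gJ] using h
  exact mul_eq_one_iff_eq_inv.mp h'

theorem r10 : gS * gJ * gS⁻¹ = gI⁻¹ := by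
  have h := PresentedGroup.one_of_mem (rel_mem 9 (by decide))
  have h' : gS * gJ * gS⁻¹ * gI = 1 := by simpa [relList, mk_of, gS, gI, gJ] using h
  exact mul_eq_one_iff_eq_inv.mp h'

end Cfsg.Agent.Lib.Helper3.BO
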