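import Mathlib
import Cfsg.Agent.Lib.Helper3.BO1

set_option autoImplicit false
set_option maxHeartbeats 1000000
set_option linter.style.haveILetI false
set_option linter.unusedSectionVars false
set_option linter.unusedVariables false

/-! Normal forms for groups generated by `i, j, x, s` with the `GL(2,3)` relations. -/

namespace Cfsg.Agent.Lib.Helper3.BO

/-- The defining relations. -/
structure Rel48 {H : Type*} [Group H] (i j x s : H) : Prop where
  h1 : i ^ 4 = 1
  h2 : i ^ 2 = j ^ 2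
  h3 : j * i * j⁻¹ = i⁻¹
  h4 : x ^ 3 = 1
  h5 : x * i * x⁻¹ = j
  h6 : x * j * x⁻¹ = i * j
  h7 : s ^ 2 = 1
  h8 : s * x * s⁻¹ = x⁻¹
  h9 : s * i * s⁻¹ = j⁻¹
  h10 : s * j * s⁻¹ = i⁻¹

theorem rel48_P48 : Rel48 gI gJ gX gS := ⟨r1, r2, r3, r4, r5, r6, r7, r8, r9, r10⟩

variable {H : Type*} [Group H] {i j x s : H}

/-- quaternion normal form -/
def R8 (i j : H) (g : H) : Prop := ∃ a b : ℕ, a < 4 ∧ b < 2 ∧ g = i ^ a * j ^ b

theorem R8_one : R8 i j 1 := ⟨0, 0, by norm_num, by norm_num, by simp⟩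

theorem R8_i (h : Rel48 i j x s) {g : H} (hg : R8 i j g) : R8 i j (i * g) := by
  obtain ⟨a, b, ha, hb, rfl⟩ := hg
  by_cases h3 : a = 3
  · subst h3
    refine ⟨0, b, by norm_num, hb, ?_⟩
    rw [← mul_assoc, ← pow_succ', h.h1, pow_zero]
  · refine ⟨a + 1, b, by omega, hb, ?_⟩
    rw [← mul_assoc, ← pow_succ']

theorem ji (h : Rel48 i j x s) : j * i = i ^ 3 * j := by
  have h3 := h.h3
  have e : i⁻¹ = i ^ 3 := by
    rw [inv_eq_iff_mul_eq_one, ← pow_succ', h.h1]
  rw [e] at h3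
  calc j * i = (j * i * j⁻¹) * j := by group
    _ = i ^ 3 * j := by rw [h3]

theorem j_pow (h : Rel48 i j x s) (a : ℕ) (ha : a < 4) : j * i ^ a = i ^ ((4 - a) % 4) * j := by
  have h1 := h.h1
  have hji := ji h
  have h8 : i ^ 8 = 1 := by rw [show (8 : ℕ) = 4 * 2 from rfl, pow_mul, h1, one_pow]
  interval_cases a
  · simp
  · simpa using hji
  · show j * i ^ 2 = i ^ 2 * j
    calc j * i ^ 2 = (j * i) * i := by rw [pow_two, mul_assoc]
      _ = i ^ 3 * (j * i) := by rw [hji, mul_assoc, ← hji]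
      _ = i ^ 3 * (i ^ 3 * j) := by rw [hji]
      _ = i ^ 4 * i ^ 2 * j := by rw [← mul_assoc, ← pow_add, ← pow_add]
      _ = i ^ 2 * j := by rw [h1, one_mul]
  · show j * i ^ 3 = i ^ 1 * j
    calc j * i ^ 3 = ((j * i) * i) * i := by rw [pow_succ, pow_two]; simp only [mul_assoc]
      _ = ((i ^ 3 * j) * i) * i := by rw [hji]
      _ = (i ^ 3 * (j * i)) * i := by simp only [mul_assoc]
      _ = (i ^ 3 * (i ^ 3 * j)) * i := by rw [hji]
      _ = i ^ 3 * (i ^ 3 * (j * i)) := by simp only [mul_assoc]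
      _ = i ^ 3 * (i ^ 3 * (i ^ 3 * j)) := by rw [hji]
      _ = i ^ 8 * i ^ 1 * j := by simp only [← mul_assoc, ← pow_add]
      _ = i ^ 1 * j := by rw [h8, one_mul]

theorem R8_j (h : Rel48 i j x s) {g : H} (hg : R8 i j g) : R8 i j (j * g) := by
  obtain ⟨a, b, ha, hb, rfl⟩ := hg
  have e1 : j * (i ^ a * j ^ b) = i ^ ((4 - a) % 4) * j ^ (b + 1) := by
    rw [← mul_assoc, j_pow h a ha, mul_assoc, ← pow_succ']
  rw [e1]
  interval_cases b
  · exact ⟨(4 - a) % 4, 1, Nat.mod_lt _ (by norm_num), by norm_num, rfl⟩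
  · refine ⟨((4 - a) % 4 + 2) % 4, 0, Nat.mod_lt _ (by norm_num), by norm_num, ?_⟩
    show i ^ ((4 - a) % 4) * j ^ 2 = _
    rw [← h.h2, ← pow_add, pow_zero, mul_one]
    have h1 := h.h1
    interval_cases a
    · simp
    · show i ^ (3 + 2) = i ^ ((3 + 2) % 4)
      rw [show (3 + 2 : ℕ) = 4 + 1 from rfl, pow_add, h1, one_mul]
    · show i ^ (2 + 2) = i ^ ((2 + 2) % 4)
      rw [show (2 + 2 : ℕ) = 4 from rfl, h1]; simp
    · show i ^ (1 + 2) = i ^ ((1 + 2) % 4)
      rfl

theorem R8_pow_i (h : Rel48 i j x s) (n : ℕ) {g : H} (hg : R8 i j g) : R8 i j (i ^ n * g) := by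
  induction n with
  | zero => simpa using hg
  | succ n ih => rw [pow_succ', mul_assoc]; exact R8_i h ih

theorem R8_pow_j (h : Rel48 i j x s) (n : ℕ) {g : H} (hg : R8 i j g) : R8 i j (j ^ n * g) := by
  induction n with
  | zero => simpa using hg
  | succ n ih => rw [pow_succ', mul_assoc]; exact R8_j h ih

theorem i_inv (h : Rel48 i j x s) : i⁻¹ = i ^ 3 := by
  rw [inv_eq_iff_mul_eq_one, ← pow_succ', h.h1]

theorem j_four (h : Rel48 i j x s) : j ^ 4 = 1 := by
  rw [show (4 : ℕ) = 2 * 2 from rfl, pow_mul, ← h.h2, ← pow_mul, h.h1]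

theorem j_inv (h : Rel48 i j x s) : j⁻¹ = j ^ 3 := by
  rw [inv_eq_iff_mul_eq_one, ← pow_succ', j_four h]

theorem x_inv (h : Rel48 i j x s) : x⁻¹ = x ^ 2 := by
  rw [inv_eq_iff_mul_eq_one, ← pow_succ', h.h4]

theorem s_inv (h : Rel48 i j x s) : s⁻¹ = s := by
  rw [inv_eq_iff_mul_eq_one, ← pow_two, h.h7]

/-- the full normal form -/
def NF (i j x s : H) (g : H) : Prop :=
  ∃ r : H, ∃ c d : ℕ, R8 i j r ∧ c < 3 ∧ d < 2 ∧ g = r * x ^ c * s ^ d

theorem NF_one : NF i j x s 1 := ⟨1, 0, 0, R8_one, by norm_num, by norm_num, by simp⟩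

theorem NF_i (h : Rel48 i j x s) {g : H} (hg : NF i j x s g) : NF i j x s (i * g) := by
  obtain ⟨r, c, d, hr, hc, hd, rfl⟩ := hg
  exact ⟨i * r, c, d, R8_i h hr, hc, hd, by group⟩

theorem NF_j (h : Rel48 i j x s) {g : H} (hg : NF i j x s g) : NF i j x s (j * g) := by
  obtain ⟨r, c, d, hr, hc, hd, rfl⟩ := hg
  exact ⟨j * r, c, d, R8_j h hr, hc, hd, by group⟩

theorem conj_pow_mul {a b : H} (g : H) (m n : ℕ) :
    g * (a ^ m * b ^ n) * g⁻¹ = (g * a * g⁻¹) ^ m * (g * b * g⁻¹) ^ n := by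
  rw [conj_pow, conj_pow]; group

theorem NF_x (h : Rel48 i j x s) {g : H} (hg : NF i j x s g) : NF i j x s (x * g) := by
  obtain ⟨r, c, d, ⟨a, b, ha, hb, rfl⟩, hc, hd, rfl⟩ := hg
  have hr' : R8 i j (x * (i ^ a * j ^ b) * x⁻¹) := by
    rw [conj_pow_mul, h.h5, h.h6]
    have : R8 i j ((i * j) ^ b * 1) := by
      clear hb
      induction b with
      | zero => simpa using R8_one
      | succ n ih =>
        rw [pow_succ', mul_assoc, mul_assoc]
        exact R8_i h (R8_j h ih)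
    rw [mul_one] at this
    exact R8_pow_j h a this
  by_cases h2 : c = 2
  · subst h2
    refine ⟨x * (i ^ a * j ^ b) * x⁻¹, 0, d, hr', by norm_num, hd, ?_⟩
    have : x * x ^ 2 = 1 := by rw [← pow_succ', h.h4]
    calc x * (i ^ a * j ^ b * x ^ 2 * s ^ d)
        = x * (i ^ a * j ^ b) * x⁻¹ * (x * x ^ 2) * s ^ d := by group
      _ = _ := by rw [this]; group
  · refine ⟨x * (i ^ a * j ^ b) * x⁻¹, c + 1, d, hr', by omega, hd, ?_⟩
    rw [pow_succ']; group

theorem NF_s (h : Rel48 i j x s) {g : H} (hg : NF i j x s g) : NF i j x s (s * g) := by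
  obtain ⟨r, c, d, ⟨a, b, ha, hb, rfl⟩, hc, hd, rfl⟩ := hg
  have hr' : R8 i j (s * (i ^ a * j ^ b) * s⁻¹) := by
    rw [conj_pow_mul, h.h9, h.h10, j_inv h, i_inv h, ← pow_mul, ← pow_mul]
    have : R8 i j (i ^ (3 * b) * 1) := R8_pow_i h _ R8_one
    rw [mul_one] at this
    exact R8_pow_j h _ this
  have hx' : s * x ^ c * s⁻¹ = x ^ (2 * c) := by
    rw [← conj_pow, h.h8, x_inv h, ← pow_mul]
  have hx3 : ∀ n : ℕ, x ^ (3 + n) = x ^ n := fun n => by rw [pow_add, h.h4, one_mul]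
  have hxc : ∃ c' : ℕ, c' < 3 ∧ x ^ (2 * c) = x ^ c' := by
    interval_cases c
    · exact ⟨0, by norm_num, rfl⟩
    · exact ⟨2, by norm_num, rfl⟩
    · exact ⟨1, by norm_num, by rw [show 2 * 2 = 3 + 1 from rfl, hx3]⟩
  obtain ⟨c', hc', hcc⟩ := hxc
  have hsd : ∃ d' : ℕ, d' < 2 ∧ s * s ^ d = s ^ d' := by
    interval_cases d
    · exact ⟨1, by norm_num, by simp⟩
    · exact ⟨0, by norm_num, by rw [pow_one, ← pow_two, h.h7, pow_zero]⟩
  obtain ⟨d', hd', hdd⟩ := hsd
  refine ⟨s * (i ^ a * j ^ b) * s⁻¹, c', d', hr', hc', hd', ?_⟩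
  calc s * (i ^ a * j ^ b * x ^ c * s ^ d)
      = s * (i ^ a * j ^ b) * s⁻¹ * (s * x ^ c * s⁻¹) * (s * s ^ d) := by group
    _ = _ := by rw [hx', hcc, hdd]

theorem NF_pow (h : Rel48 i j x s) (u : H) (hu : ∀ g, NF i j x s g → NF i j x s (u * g)) (n : ℕ)
    {g : H} (hg : NF i j x s g) : NF i j x s (u ^ n * g) := by
  induction n with
  | zero => simpa using hg
  | succ n ih => rw [pow_succ', mul_assoc]; exact hu _ ih

/-- every element of the closure is in normal form -/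
theorem NF_of_mem_closure (h : Rel48 i j x s) {g : H}
    (hg : g ∈ Subgroup.closure ({i, j, x, s} : Set H)) : NF i j x s g := by
  have key : ∀ g ∈ Subgroup.closure ({i, j, x, s} : Set H),
      ∀ k, NF i j x s k → NF i j x s (g * k) ∧ NF i j x s (g⁻¹ * k) := by
    intro g hg
    induction hg using Subgroup.closure_induction with
    | mem y hy =>
      intro k hk
      rcases hy with rfl | rfl | rfl | rfl
      · exact ⟨NF_i h hk, by rw [i_inv h]; exact NF_pow h _ (fun _ => NF_i h) 3 hk⟩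
      · exact ⟨NF_j h hk, by rw [j_inv h]; exact NF_pow h _ (fun _ => NF_j h) 3 hk⟩
      · exact ⟨NF_x h hk, by rw [x_inv h]; exact NF_pow h _ (fun _ => NF_x h) 2 hk⟩
      · exact ⟨NF_s h hk, by rw [s_inv h]; exact NF_s h hk⟩
    | one => intro k hk; simpa using hk
    | mul a b _ _ iha ihb =>
      intro k hk
      refine ⟨?_, ?_⟩
      · rw [mul_assoc]; exact (iha _ (ihb _ hk).1).1
      · rw [mul_inv_rev, mul_assoc]; exact (ihb _ (iha _ hk).2).2
    | inv a _ iha =>
      intro k hk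
      refine ⟨(iha _ hk).2, ?_⟩
      rw [inv_inv]; exact (iha _ hk).1
  have := (key g hg 1 NF_one).1
  rwa [mul_one] at this

/-- the parametrisation of normal forms -/
def nfMap (i j x s : H) (t : Fin 4 × Fin 2 × Fin 3 × Fin 2) : H :=
  i ^ (t.1 : ℕ) * j ^ (t.2.1 : ℕ) * x ^ (t.2.2.1 : ℕ) * s ^ (t.2.2.2 : ℕ)

theorem nfMap_surj (h : Rel48 i j x s)
    (hgen : Subgroup.closure ({i, j, x, s} : Set H) = ⊤) : Function.Surjective (nfMap i j x s) := by
  intro g
  obtain ⟨r, c, d, ⟨a, b, ha, hb, rfl⟩, hc, hd, rfl⟩ :=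
    NF_of_mem_closure h (g := g) (by rw [hgen]; trivial)
  exact ⟨(⟨a, ha⟩, ⟨b, hb⟩, ⟨c, hc⟩, ⟨d, hd⟩), rfl⟩

theorem card_le (h : Rel48 i j x s)
    (hgen : Subgroup.closure ({i, j, x, s} : Set H) = ⊤) : Finite H ∧ Nat.card H ≤ 48 := by
  have hs := nfMap_surj h hgen
  haveI : Finite H := Finite.of_surjective _ hs
  refine ⟨inferInstance, ?_⟩
  have := Nat.card_le_card_of_surjective _ hs
  simpa [Nat.card_prod] using this

theorem closure_P48 : Subgroup.closure ({gI, gJ, gX, gS} : Set P48) = ⊤ := by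
  have h := PresentedGroup.closure_range_of rels
  rw [← h]
  congr 1
  ext y
  constructor
  · rintro (rfl | rfl | rfl | rfl)
    · exact ⟨Gen.i, rfl⟩
    · exact ⟨Gen.j, rfl⟩
    · exact ⟨Gen.x, rfl⟩
    · exact ⟨Gen.s, rfl⟩
  · rintro ⟨a, rfl⟩
    cases a
    · exact Or.inl rfl
    · exact Or.inr (Or.inl rfl)
    · exact Or.inr (Or.inr (Or.inl rfl))
    · exact Or.inr (Or.inr (Or.inr rfl))

theorem P48_finite : Finite P48 := (card_le rel48_P48 closure_P48).1

theorem P48_card_le : Nat.card P48 ≤ 48 := (card_le rel48_P48 closure_P48).2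

/-- the homomorphism from `P48` to a group with the relations -/
noncomputable def lift48 (h : Rel48 i j x s) : P48 →* H :=
  PresentedGroup.toGroup (f := fun a : Gen => match a with
    | Gen.i => i | Gen.j => j | Gen.x => x | Gen.s => s) (rels := rels) (by
    intro r hr
    have hr' : r ∈ relList := hr
    simp only [relList, List.mem_cons, List.not_mem_nil, or_false] at hr'
    rcases hr' with rfl | rfl | rfl | rfl | rfl | rfl | rfl | rfl | rfl | rfl
    · simpa using h.h1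
    · simp only [map_mul, map_inv, map_pow, FreeGroup.lift_apply_of]
      rw [h.h2, mul_inv_cancel]
    · simp only [map_mul, map_inv, FreeGroup.lift_apply_of]
      rw [h.h3, inv_mul_cancel]
    · simpa using h.h4
    · simp only [map_mul, map_inv, FreeGroup.lift_apply_of]
      rw [h.h5, mul_inv_cancel]
    · simp only [map_mul, map_inv, FreeGroup.lift_apply_of]
      rw [h.h6, mul_inv_cancel]
    · simpa using h.h7
    · simp only [map_mul, map_inv, FreeGroup.lift_apply_of]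
      rw [h.h8, inv_mul_cancel]
    · simp only [map_mul, map_inv, FreeGroup.lift_apply_of]
      rw [h.h9, inv_mul_cancel]
    · simp only [map_mul, map_inv, FreeGroup.lift_apply_of]
      rw [h.h10, inv_mul_cancel])

theorem lift48_I (h : Rel48 i j x s) : lift48 h gI = i := PresentedGroup.toGroup.of _
theorem lift48_J (h : Rel48 i j x s) : lift48 h gJ = j := PresentedGroup.toGroup.of _
theorem lift48_X (h : Rel48 i j x s) : lift48 h gX = x := PresentedGroup.toGroup.of _
theorem lift48_S (h : Rel48 i j x s) : lift48 h gS = s := PresentedGroup.toGroup.of _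

theorem lift48_surj (h : Rel48 i j x s)
    (hgen : Subgroup.closure ({i, j, x, s} : Set H) = ⊤) : Function.Surjective (lift48 h) := by
  rw [← MonoidHom.range_eq_top, eq_top_iff, ← hgen, Subgroup.closure_le]
  rintro y (rfl | rfl | rfl | rfl)
  · exact ⟨gI, lift48_I h⟩
  · exact ⟨gJ, lift48_J h⟩
  · exact ⟨gX, lift48_X h⟩
  · exact ⟨gS, lift48_S h⟩

/-- a group of order `48` generated by elements with the relations is isomorphic to `P48` -/
theorem lift48_bij (h : Rel48 i j x s) (hgen : Subgroup.closure ({i, j, x, s} : Set H) = ⊤)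
    (hcard : Nat.card H = 48) : Function.Bijective (lift48 h) ∧ Nat.card P48 = 48 := by
  haveI := P48_finite
  have hs := lift48_surj h hgen
  haveI : Finite H := Finite.of_surjective _ hs
  have h1 : Nat.card H ≤ Nat.card P48 := Nat.card_le_card_of_surjective _ hs
  have h2 := P48_card_le
  have hc : Nat.card P48 = 48 := by omega
  refine ⟨?_, hc⟩
  have : Function.Injective (lift48 h) := by
    have hb : Nat.card P48 = Nat.card H := by rw [hc, hcard]
    exact ((Nat.bijective_iff_surjective_and_card _).mpr ⟨hs, hb⟩).1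
  exact ⟨this, hs⟩

end Cfsg.Agent.Lib.Helper3.BO
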