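import Mathlib
import Cfsg.Agent.Lib.Helper3.BO2

set_option autoImplicit false
set_option maxHeartbeats 1000000
set_option linter.style.haveILetI false
set_option linter.unusedSectionVars false
set_option linter.unusedVariables false

/-! `GL(2,3)` satisfies the relations of `P48`; recognition of `GL(2,3)`. -/

namespace Cfsg.Agent.Lib.Helper3.BO

def mI : Matrix (Fin 2) (Fin 2) (ZMod 3) := !![0, 2; 1, 0]
def mJ : Matrix (Fin 2) (Fin 2) (ZMod 3) := !![1, 1; 1, 2]
def mX : Matrix (Fin 2) (Fin 2) (ZMod 3) := !![1, 1; 0, 1]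
def mS : Matrix (Fin 2) (Fin 2) (ZMod 3) := !![1, 2; 0, 2]
def mI' : Matrix (Fin 2) (Fin 2) (ZMod 3) := !![0, 1; 2, 0]
def mJ' : Matrix (Fin 2) (Fin 2) (ZMod 3) := !![2, 2; 2, 1]
def mX' : Matrix (Fin 2) (Fin 2) (ZMod 3) := !![1, 2; 0, 1]

def uI : GL (Fin 2) (ZMod 3) := ⟨mI, mI', by decide, by decide⟩
def uJ : GL (Fin 2) (ZMod 3) := ⟨mJ, mJ', by decide, by decide⟩
def uX : GL (Fin 2) (ZMod 3) := ⟨mX, mX', by decide, by decide⟩
def uS : GL (Fin 2) (ZMod 3) := ⟨mS, mS, by decide, by decide⟩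

theorem rel48_GL : Rel48 uI uJ uX uS := by
  refine ⟨?_, ?_, ?_, ?_, ?_, ?_, ?_, ?_, ?_, ?_⟩ <;> decide

theorem uI_sq_ne : uI ^ 2 ≠ 1 := by decide

theorem card_GL23 : Nat.card (GL (Fin 2) (ZMod 3)) = 48 := by
  rw [Matrix.card_GL_field]
  simp [Fin.prod_univ_two]

/-- Recognition of `GL(2,3)`: order `48`, the relations, generation, and every non-trivial normal
subgroup contains `i ^ 2`. -/
theorem gl23_iso {X : Type*} [Group X] {i j x s : X} (h : Rel48 i j x s)
    (hgen : Subgroup.closure ({i, j, x, s} : Set X) = ⊤) (hcard : Nat.card X = 48)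
    (hmin : ∀ N : Subgroup X, N.Normal → N ≠ ⊥ → i ^ 2 ∈ N) :
    Nonempty (X ≃* GL (Fin 2) (ZMod 3)) := by
  obtain ⟨hb, hc⟩ := lift48_bij h hgen hcard
  set φ : P48 ≃* X := MulEquiv.ofBijective (lift48 h) hb with hφ
  have hφI : φ gI = i := lift48_I h
  set ψ : P48 →* GL (Fin 2) (ZMod 3) := lift48 rel48_GL with hψ
  have hψI : ψ gI = uI := lift48_I rel48_GL
  have hker : ψ.ker = ⊥ := by
    by_contra hne
    have hN : ((ψ.ker).map φ.toMonoidHom).Normal :=
      Subgroup.Normal.map inferInstance _ φ.surjective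
    have hNne : (ψ.ker).map φ.toMonoidHom ≠ ⊥ := by
      intro hbot
      apply hne
      rw [eq_bot_iff]
      intro w hw
      have : φ.toMonoidHom w ∈ (ψ.ker).map φ.toMonoidHom := Subgroup.mem_map_of_mem _ hw
      rw [hbot, Subgroup.mem_bot] at this
      rw [Subgroup.mem_bot]
      exact φ.injective (by rw [map_one]; exact this)
    obtain ⟨w, hw, hwe⟩ := hmin _ hN hNne
    have hw2 : w = gI ^ 2 := by
      apply φ.injective
      rw [map_pow, hφI]; exact hwe
    rw [hw2] at hw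
    have hw' : ψ (gI ^ 2) = 1 := MonoidHom.mem_ker.mp hw
    rw [map_pow, hψI] at hw'
    exact uI_sq_ne hw'
  have hinj : Function.Injective ψ := (MonoidHom.ker_eq_bot_iff ψ).mp hker
  haveI := P48_finite
  have hbij : Function.Bijective ψ := by
    rw [Nat.bijective_iff_injective_and_card]
    exact ⟨hinj, by rw [hc, card_GL23]⟩
  exact ⟨φ.symm.trans (MulEquiv.ofBijective ψ hbij)⟩

end Cfsg.Agent.Lib.Helper3.BO
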