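import Mathlib
import Cfsg.Prelude.Def_CaseTheorems

set_option autoImplicit false
set_option maxHeartbeats 1000000
set_option linter.style.haveILetI false
set_option linter.unusedSectionVars false
set_option linter.unusedVariables false

/-! The "no Klein four-group in the intersection of two Sylow `2`-subgroups" condition, and its
passage to quotients by normal subgroups of odd order. -/

namespace Cfsg.Agent.Lib.Helper3.BO

/-- Elementwise form of: distinct Sylow `2`-subgroups meet in a group of `2`-rank at most one. -/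
def NoKlein (G : Type*) [Group G] : Prop :=
  ∀ S T : Sylow 2 G, S ≠ T → ∀ a b : G, a ∈ (S : Subgroup G) → a ∈ (T : Subgroup G) →
    b ∈ (S : Subgroup G) → b ∈ (T : Subgroup G) → a ^ 2 = 1 → b ^ 2 = 1 → a * b = b * a →
    a ≠ 1 → b ≠ 1 → a = b

/-- In a group of `2`-rank at most one, two commuting involutions are equal. -/
theorem prank_elem {K : Type*} [Group K] [Finite K] (h : Cfsg.PRankLE 2 1 K) (a b : K)
    (ha : a ^ 2 = 1) (hb : b ^ 2 = 1) (hab : a * b = b * a) (ha1 : a ≠ 1) (hb1 : b ≠ 1) :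
    a = b := by
  by_contra hne
  have hcomm : ∀ u ∈ ({a, b} : Set K), ∀ v ∈ ({a, b} : Set K), u * v = v * u := by
    rintro u (rfl | rfl) v (rfl | rfl)
    · rfl
    · exact hab
    · exact hab.symm
    · rfl
  haveI hA : IsMulCommutative (Subgroup.closure ({a, b} : Set K)) :=
    Subgroup.isMulCommutative_closure hcomm
  have hexp : ∀ u ∈ Subgroup.closure ({a, b} : Set K), u ^ 2 = 1 := by
    intro u hu
    induction hu using Subgroup.closure_induction with
    | mem y hy =>
      rcases hy with rfl | rfl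
      · exact ha
      · exact hb
    | one => simp
    | mul x y hx hy ihx ihy =>
      have hc : x * y = y * x := setLike_mul_comm hx hy
      rw [(Commute.mul_pow hc 2), ihx, ihy, one_mul]
    | inv x hx ihx => rw [inv_pow, ihx, inv_one]
  have hcard := h _ hA hexp
  have haA : a ∈ Subgroup.closure ({a, b} : Set K) := Subgroup.subset_closure (by simp)
  have hbA : b ∈ Subgroup.closure ({a, b} : Set K) := Subgroup.subset_closure (by simp)
  -- three distinct elements in a set of cardinality at most two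
  have h3 : 3 ≤ Nat.card (Subgroup.closure ({a, b} : Set K)) := by
    let f : Fin 3 → Subgroup.closure ({a, b} : Set K) := ![1, ⟨a, haA⟩, ⟨b, hbA⟩]
    have hf : Function.Injective f := by
      intro i j hij
      fin_cases i <;> fin_cases j <;> simp [f, Subtype.ext_iff] at hij ⊢
      · exact ha1 hij.symm
      · exact hb1 hij.symm
      · exact ha1 hij
      · exact hne hij
      · exact hb1 hij
      · exact hne hij.symm
    have := Nat.card_le_card_of_injective f hf
    simpa using this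
  norm_num at hcard
  omega


theorem noKlein_of_prank {G : Type*} [Group G] [Finite G]
    (hI : ∀ S T : Sylow 2 G, S ≠ T →
      Cfsg.PRankLE 2 1 ↥((S : Subgroup G) ⊓ (T : Subgroup G))) : NoKlein G := by
  intro S T hST a b haS haT hbS hbT ha hb hab ha1 hb1
  have h := prank_elem (hI S T hST) ⟨a, haS, haT⟩ ⟨b, hbS, hbT⟩
    (Subtype.ext (by simpa using ha)) (Subtype.ext (by simpa using hb))
    (Subtype.ext (by simpa using hab))
    (fun e => ha1 (congrArg Subtype.val e)) (fun e => hb1 (congrArg Subtype.val e))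
  exact congrArg Subtype.val h

/-- An element of a `2`-group lying in a subgroup of odd order is trivial. -/
theorem eq_one_of_odd_of_two {G : Type*} [Group G] [Finite G] {H S : Subgroup G}
    (hH : (Nat.card H).Coprime 2) (hS : IsPGroup 2 S) {g : G} (hgH : g ∈ H) (hgS : g ∈ S) :
    g = 1 := by
  obtain ⟨k, hk⟩ := hS ⟨g, hgS⟩
  have hk' : g ^ (2 ^ k) = 1 := by
    have := congrArg Subtype.val hk
    simpa using this
  have h1 : orderOf g ∣ 2 ^ k := orderOf_dvd_of_pow_eq_one hk'
  have h2 : orderOf g ∣ Nat.card H := by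
    have := orderOf_dvd_natCard (⟨g, hgH⟩ : H)
    rwa [Subgroup.orderOf_mk] at this
  have h3 : (orderOf g).Coprime (2 ^ k) :=
    Nat.Coprime.pow_right k (Nat.Coprime.coprime_dvd_left h2 hH)
  have h4 : orderOf g = 1 := Nat.Coprime.eq_one_of_dvd h3 h1
  exact orderOf_eq_one_iff.mp h4

/-- Lifting two Sylow `2`-subgroups of a quotient, together with their intersection. -/
theorem sylow_lift_pair {G : Type*} [Group G] [Finite G] (H : Subgroup G) [H.Normal]
    (Sb Tb : Sylow 2 (G ⧸ H)) :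
    ∃ S T : Sylow 2 G, (S : Subgroup G).map (QuotientGroup.mk' H) = (Sb : Subgroup (G ⧸ H)) ∧
      (T : Subgroup G).map (QuotientGroup.mk' H) = (Tb : Subgroup (G ⧸ H)) ∧
      ∀ d ∈ (Sb : Subgroup (G ⧸ H)) ⊓ (Tb : Subgroup (G ⧸ H)), ∃ q : G,
        q ∈ (S : Subgroup G) ∧ q ∈ (T : Subgroup G) ∧ QuotientGroup.mk' H q = d := by
  classical
  haveI : Fact (Nat.Prime 2) := ⟨Nat.prime_two⟩
  set π : G →* G ⧸ H := QuotientGroup.mk' H with hπ
  have hπs : Function.Surjective π := QuotientGroup.mk'_surjective H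
  obtain ⟨S, hS⟩ := Sylow.mapSurjective_surjective hπs 2 Sb
  have hSmap : (S : Subgroup G).map π = (Sb : Subgroup (G ⧸ H)) := by
    rw [← hS]; rfl
  set Db : Subgroup (G ⧸ H) := (Sb : Subgroup (G ⧸ H)) ⊓ (Tb : Subgroup (G ⧸ H)) with hDb
  set Q : Subgroup G := (S : Subgroup G) ⊓ Db.comap π with hQ
  have hQ2 : IsPGroup 2 Q := S.2.to_le inf_le_left
  have hQsurj : ∀ d ∈ Db, ∃ q ∈ Q, π q = d := by
    intro d hd
    have hdS : d ∈ (S : Subgroup G).map π := by rw [hSmap]; exact hd.1
    obtain ⟨s, hs, rfl⟩ := hdS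
    exact ⟨s, ⟨hs, hd⟩, rfl⟩
  set Tt : Subgroup G := (Tb : Subgroup (G ⧸ H)).comap π with hTt
  have hQTt : Q ≤ Tt := by
    intro q hq
    exact (hq.2 : π q ∈ Db).2
  obtain ⟨T0, hT0⟩ := (hQ2.comap_subtype (K := Tt)).exists_le_sylow
  let f : Tt →* (Tb : Subgroup (G ⧸ H)) := π.subgroupComap (Tb : Subgroup (G ⧸ H))
  have hf : Function.Surjective f := π.subgroupComap_surjective_of_surjective _ hπs
  have hTb2 : IsPGroup 2 (Tb : Subgroup (G ⧸ H)) := Tb.2
  have htop : ((T0.mapSurjective hf : Sylow 2 (Tb : Subgroup (G ⧸ H))) :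
      Subgroup (Tb : Subgroup (G ⧸ H))) = ⊤ := by
    have hall : IsPGroup 2 (⊤ : Subgroup (Tb : Subgroup (G ⧸ H))) := by
      intro x
      obtain ⟨k, hk⟩ := hTb2 x.1
      exact ⟨k, Subtype.ext hk⟩
    exact ((T0.mapSurjective hf).3 hall le_top).symm
  set T1 : Subgroup G := (T0 : Subgroup Tt).map Tt.subtype with hT1
  have hT12 : IsPGroup 2 T1 := T0.2.map _
  have hQT1 : Q ≤ T1 := by
    intro q hq
    exact ⟨⟨q, hQTt hq⟩, hT0 hq, rfl⟩
  have hT1map : ∀ t ∈ (Tb : Subgroup (G ⧸ H)), ∃ x ∈ T1, π x = t := by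
    intro t ht
    have : (⟨t, ht⟩ : (Tb : Subgroup (G ⧸ H))) ∈
        ((T0.mapSurjective hf : Sylow 2 _) : Subgroup _) := by
      rw [htop]; trivial
    obtain ⟨y, hy, hyt⟩ := this
    refine ⟨y.1, ⟨y, hy, rfl⟩, ?_⟩
    have := congrArg Subtype.val hyt
    exact this
  obtain ⟨T, hT⟩ := hT12.exists_le_sylow
  have hTmap : (T : Subgroup G).map π = (Tb : Subgroup (G ⧸ H)) := by
    apply Tb.3 (T.2.map π)
    intro t ht
    obtain ⟨x, hx, rfl⟩ := hT1map t ht
    exact ⟨x, hT hx, rfl⟩
  refine ⟨S, T, hSmap, hTmap, ?_⟩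
  intro d hd
  obtain ⟨q, hq, hqd⟩ := hQsurj d hd
  exact ⟨q, hq.1, hT (hQT1 hq), hqd⟩

/-- The condition passes to the quotient by a normal subgroup of odd order. -/
theorem noKlein_quotient {G : Type*} [Group G] [Finite G] (hG : NoKlein G) (H : Subgroup G)
    [H.Normal] (hH : (Nat.card H).Coprime 2) : NoKlein (G ⧸ H) := by
  intro Sb Tb hne ab bb haS haT hbS hbT ha hb hab ha1 hb1
  obtain ⟨S, T, hSmap, hTmap, hlift⟩ := sylow_lift_pair H Sb Tb
  have hST : S ≠ T := by
    intro h
    apply hne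
    apply Sylow.ext
    rw [← hSmap, ← hTmap, h]
  obtain ⟨a, haS', haT', rfl⟩ := hlift ab ⟨haS, haT⟩
  obtain ⟨b, hbS', hbT', rfl⟩ := hlift bb ⟨hbS, hbT⟩
  have hker : ∀ g : G, QuotientGroup.mk' H g = 1 → g ∈ H := by
    intro g hg
    rwa [QuotientGroup.mk'_apply, QuotientGroup.eq_one_iff] at hg
  have ha2 : a ^ 2 = 1 :=
    eq_one_of_odd_of_two hH S.2 (hker _ (by rw [map_pow]; exact ha)) (Subgroup.pow_mem _ haS' 2)
  have hb2 : b ^ 2 = 1 :=
    eq_one_of_odd_of_two hH S.2 (hker _ (by rw [map_pow]; exact hb)) (Subgroup.pow_mem _ hbS' 2)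
  have hcomm : a * b * (b * a)⁻¹ = 1 := by
    apply eq_one_of_odd_of_two hH S.2 (hker _ _)
    · exact Subgroup.mul_mem _ (Subgroup.mul_mem _ haS' hbS')
        (Subgroup.inv_mem _ (Subgroup.mul_mem _ hbS' haS'))
    · rw [map_mul, map_inv, map_mul (QuotientGroup.mk' H) b a, map_mul, hab, mul_inv_cancel]
  have hab' : a * b = b * a := by
    rw [mul_inv_eq_one] at hcomm; exact hcomm
  have := hG S T hST a b haS' haT' hbS' hbT' ha2 hb2 hab'
    (fun e => ha1 (by rw [e, map_one])) (fun e => hb1 (by rw [e, map_one]))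
  rw [this]

end Cfsg.Agent.Lib.Helper3.BO
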