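import Mathlib
import Cfsg.Agent.Lib.Helper3.BO4
import Cfsg.Agent.Lib.Helper1.QS4
import Cfsg.Agent.Lib.Helper1.FittingCentralizer
import Cfsg.Agent.Lib.Helper1.PCore

set_option autoImplicit false
set_option maxHeartbeats 1000000
set_option linter.style.haveILetI false
set_option linter.unusedSectionVars false
set_option linter.unusedVariables false

/-! Solvable groups with `O(X) = 1`, not `2`-closed, in which distinct Sylow `2`-subgroups
contain no common four-group: `O_2(X)` is quaternion of order `8`. -/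

universe u

namespace Cfsg.Agent.Lib.Helper3.BO

open Cfsg.Agent.Lib.Helper1.QS Cfsg.Agent.Lib.Lead.UniqueP

variable {X : Type u} [Group X] [Finite X]

theorem exists_two_sylow (hnot : ¬ ∃ P : Sylow 2 X, (P : Subgroup X).Normal) :
    ∃ S T : Sylow 2 X, S ≠ T := by
  haveI : Fact (Nat.Prime 2) := ⟨Nat.prime_two⟩
  by_contra hex
  push Not at hex
  apply hnot
  obtain ⟨P⟩ : Nonempty (Sylow 2 X) := inferInstance
  refine ⟨P, ?_⟩
  rw [← Subgroup.normalizer_eq_top_iff, eq_top_iff]
  intro g _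
  have := Sylow.smul_eq_iff_mem_normalizer.mp (hex (g • P) P)
  simpa using this

theorem isPGroup_of_odd_trivial (h : ∀ g : X, (orderOf g).Coprime 2 → g = 1) : IsPGroup 2 X := by
  haveI : Fact (Nat.Prime 2) := ⟨Nat.prime_two⟩
  have hcard : Nat.card X = 2 ^ (Nat.card X).primeFactorsList.length := by
    apply Nat.eq_prime_pow_of_unique_prime_dvd Nat.card_pos.ne'
    intro q hq hqd
    by_contra hq2
    haveI : Fact q.Prime := ⟨hq⟩
    obtain ⟨g, hg⟩ := exists_prime_orderOf_dvd_card' q hqd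
    have hcop : (orderOf g).Coprime 2 := by
      rw [hg]
      exact (Nat.coprime_primes hq Nat.prime_two).mpr hq2
    have := h g hcop
    rw [this, orderOf_one] at hg
    exact hq.one_lt.ne' hg.symm
  exact IsPGroup.of_card hcard

theorem normal_sylow_of_isPGroup (h : IsPGroup 2 X) : ∃ P : Sylow 2 X, (P : Subgroup X).Normal := by
  haveI : Fact (Nat.Prime 2) := ⟨Nat.prime_two⟩
  by_contra hnot
  obtain ⟨S, T, hST⟩ := exists_two_sylow hnot
  have hStop : (S : Subgroup X) = ⊤ := (S.is_maximal' (Q := ⊤) (h.to_subgroup ⊤) le_top).symm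
  have hTtop : (T : Subgroup X) = ⊤ := (T.is_maximal' (Q := ⊤) (h.to_subgroup ⊤) le_top).symm
  exact hST (Sylow.ext (hStop.trans hTtop.symm))

/-- an element of a `2`-subgroup of odd order is trivial -/
theorem eq_one_of_coprime_of_mem {R : Subgroup X} (hR : IsPGroup 2 R) {g : X} (hg : g ∈ R)
    (hodd : (orderOf g).Coprime 2) : g = 1 := by
  obtain ⟨k, hk⟩ := hR ⟨g, hg⟩
  have hk' : g ^ (2 ^ k) = 1 := by
    have := congrArg Subtype.val hk
    simpa using this
  have h1 : orderOf g ∣ 2 ^ k := orderOf_dvd_of_pow_eq_one hk'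
  have h4 : orderOf g = 1 := Nat.Coprime.eq_one_of_dvd (Nat.Coprime.pow_right k hodd) h1
  exact orderOf_eq_one_iff.mp h4

/-- The main structural fact. -/
theorem pCore_q8 [Group.IsSolvable X] (hO : Cfsg.pPrimeCore 2 X = ⊥) (hK : NoKlein X)
    (hnot : ¬ ∃ P : Sylow 2 X, (P : Subgroup X).Normal) :
    Nonempty (↥(Cfsg.pCore 2 X) ≃* QuaternionGroup 2) ∧
      ∃ g : X, (orderOf g).Coprime 2 ∧ ¬ ∀ q ∈ Cfsg.pCore 2 X, g * q * g⁻¹ = q := by
  haveI : Fact (Nat.Prime 2) := ⟨Nat.prime_two⟩
  obtain ⟨S, T, hST⟩ := exists_two_sylow hnot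
  obtain ⟨R, hR⟩ : ∃ R : Subgroup X, R = Cfsg.pCore 2 X := ⟨_, rfl⟩
  rw [← hR]
  haveI hRn : R.Normal := by rw [hR]; exact Cfsg.Agent.Lib.Helper1.pCore_normal 2
  have hRS : R ≤ S := by rw [hR]; exact Cfsg.Agent.Lib.Helper1.pCore_le_sylow 2 S
  have hRT : R ≤ T := by rw [hR]; exact Cfsg.Agent.Lib.Helper1.pCore_le_sylow 2 T
  have hR2 : IsPGroup 2 R := by rw [hR]; exact Cfsg.Agent.Lib.Helper1.pCore_isPGroup 2
  have hcent : Subgroup.centralizer (R : Set X) ≤ R := by
    rw [hR]; exact Cfsg.Agent.Lib.Helper1.centralizer_pCore_le 2 hO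
  have hnorm : ∀ g : X, g ∈ Subgroup.normalizer (R : Set X) := by
    intro g
    rw [Subgroup.normalizer_eq_top_iff.mpr hRn]; trivial
  -- some odd order element does not centralize `R`
  have hex : ∃ g : X, (orderOf g).Coprime 2 ∧ ¬ ∀ q ∈ R, g * q * g⁻¹ = q := by
    by_contra hcon
    push Not at hcon
    apply hnot
    apply normal_sylow_of_isPGroup
    apply isPGroup_of_odd_trivial
    intro g hg
    have hgc : g ∈ Subgroup.centralizer (R : Set X) := by
      rw [Subgroup.mem_centralizer_iff]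
      intro q hq
      have := hcon g hg q hq
      calc q * g = (g * q * g⁻¹) * g := by rw [this]
        _ = g * q := by group
    exact eq_one_of_coprime_of_mem hR2 (hcent hgc) hg
  refine ⟨?_, hex⟩
  obtain ⟨g, hgodd, hgnc⟩ := hex
  -- `R` has at most one involution
  have hU : UOP 2 R := by
    intro x y hx hy hx1
    haveI : Nontrivial R := ⟨⟨x, 1, hx1⟩⟩
    haveI := hR2.center_nontrivial
    have hZ2 : IsPGroup 2 (Subgroup.center R) := hR2.to_subgroup _
    have hdvd : 2 ∣ Nat.card (Subgroup.center R) := by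
      obtain ⟨k, hk⟩ := IsPGroup.iff_card.mp hZ2
      rcases Nat.eq_zero_or_pos k with h0 | h0
      · rw [h0, pow_zero] at hk
        have := (Subgroup.card_eq_one.mp hk)
        exfalso
        exact (Subgroup.nontrivial_iff_ne_bot _).mp inferInstance this
      · rw [hk]; exact dvd_pow_self 2 h0.ne'
    obtain ⟨z₀, hz₀⟩ := exists_prime_orderOf_dvd_card' 2 hdvd
    obtain ⟨z, hz⟩ : ∃ z : R, z = (z₀ : R) := ⟨_, rfl⟩
    have hzord : orderOf z = 2 := by rw [hz, Subgroup.orderOf_coe]; exact hz₀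
    have hz2 : z ^ 2 = 1 := by rw [← hzord]; exact pow_orderOf_eq_one z
    have hz1 : z ≠ 1 := by
      intro e; rw [e, orderOf_one] at hzord; omega
    have hzc : ∀ r : R, r * z = z * r := by
      intro r
      have := Subgroup.mem_center_iff.mp z₀.2 r
      rw [hz]; exact this
    have key : ∀ w : R, w ^ 2 = 1 → w ≠ 1 → w = z := by
      intro w hw hw1
      have := hK S T hST (w : X) (z : X) (hRS w.2) (hRT w.2) (hRS z.2) (hRT z.2)
        (by rw [← Subgroup.coe_pow, hw]; rfl) (by rw [← Subgroup.coe_pow, hz2]; rfl)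
        (by rw [← Subgroup.coe_mul, ← Subgroup.coe_mul, hzc w])
        (fun e => hw1 (Subtype.ext e)) (fun e => hz1 (Subtype.ext e))
      exact Subtype.ext this
    have hxz := key x hx hx1
    by_cases hy1 : y = 1
    · rw [hy1]; exact one_mem _
    · rw [key y hy hy1, ← hxz]; exact Subgroup.mem_zpowers x
  have hcyc_false : IsCyclic R → False := by
    intro hc
    exact hgnc (centralizes_cyclic_two R hc hR2 g (hnorm g) hgodd)
  rcases cyclic_or_quaternion 2 hR2 hU with hc | ⟨-, n, ⟨φ⟩⟩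
  · exact (hcyc_false hc).elim
  · rcases Nat.lt_or_ge n 2 with hn | hn
    · interval_cases n
      · exfalso
        apply hcyc_false
        haveI := QuaternionGroup.quaternionGroup_one_isCyclic
        exact isCyclic_of_surjective φ.symm φ.symm.surjective
      · exact ⟨φ⟩
    · exact (hgnc (centralizes_big_quaternion R n hn φ g (hnorm g) hgodd)).elim

end Cfsg.Agent.Lib.Helper3.BO
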