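import Mathlib
import Cfsg.Agent.Lib.Helper3.BO5

set_option autoImplicit false
set_option maxHeartbeats 1000000
set_option linter.style.haveILetI false
set_option linter.unusedSectionVars false
set_option linter.unusedVariables false

/-! A group with a self-centralizing normal `Q₈` has order at most `48`. -/

universe u

namespace Cfsg.Agent.Lib.Helper3.BO

open QuaternionGroup

theorem q8_center : ∀ q : QuaternionGroup 2, (∀ p : QuaternionGroup 2, p * q = q * p) →
    q = 1 ∨ q = a 2 := by decide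

theorem q8_invol : ∀ q : QuaternionGroup 2, q ^ 2 = 1 → q = 1 ∨ q = a 2 := by decide

theorem q8_sq : ∀ q : QuaternionGroup 2, q ^ 2 ≠ 1 → q ^ 2 = a 2 := by decide

theorem q8_a2 : (a 2 : QuaternionGroup 2) ^ 2 = 1 ∧ (a 2 : QuaternionGroup 2) ≠ 1 := by decide

theorem q8_gen_ne : (a 1 : QuaternionGroup 2) ^ 2 ≠ 1 ∧ (xa 0 : QuaternionGroup 2) ^ 2 ≠ 1 ∧
    (xa 0 : QuaternionGroup 2) ≠ a 1 ∧ (xa 0 : QuaternionGroup 2) ≠ (a 1)⁻¹ := by decide

theorem q8_pairs_card : (Finset.univ.filter (fun p : QuaternionGroup 2 × QuaternionGroup 2 =>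
    p.1 ^ 2 ≠ 1 ∧ p.2 ^ 2 ≠ 1 ∧ p.2 ≠ p.1 ∧ p.2 ≠ p.1⁻¹)).card = 24 := by decide

theorem mulAut_q8_inj : Function.Injective
    (fun σ : MulAut (QuaternionGroup 2) => (σ (a 1), σ (xa 0))) := by
  intro σ τ h
  simp only [Prod.mk.injEq] at h
  obtain ⟨h1, h2⟩ := h
  ext q
  cases q with
  | a i =>
    have : (a i : QuaternionGroup 2) = (a 1) ^ i.val := by
      rw [a_one_pow, ZMod.natCast_zmod_val]
    rw [this, map_pow, map_pow, h1]
  | xa i =>
    have : (xa i : QuaternionGroup 2) = xa 0 * (a 1) ^ i.val := by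
      rw [a_one_pow, ZMod.natCast_zmod_val, xa_mul_a, zero_add]
    rw [this, map_mul, map_mul, map_pow, map_pow, h1, h2]

theorem card_mulAut_q8_le : Nat.card (MulAut (QuaternionGroup 2)) ≤ 24 := by
  classical
  let T := Finset.univ.filter (fun p : QuaternionGroup 2 × QuaternionGroup 2 =>
    p.1 ^ 2 ≠ 1 ∧ p.2 ^ 2 ≠ 1 ∧ p.2 ≠ p.1 ∧ p.2 ≠ p.1⁻¹)
  have hmem : ∀ σ : MulAut (QuaternionGroup 2), (σ (a 1), σ (xa 0)) ∈ T := by
    intro σ
    obtain ⟨g1, g2, g3, g4⟩ := q8_gen_ne
    simp only [T, Finset.mem_filter, Finset.mem_univ, true_and]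
    refine ⟨?_, ?_, ?_, ?_⟩
    · rw [← map_pow]; intro e; exact g1 ((MulEquiv.map_eq_one_iff σ).mp e)
    · rw [← map_pow]; intro e; exact g2 ((MulEquiv.map_eq_one_iff σ).mp e)
    · intro e; exact g3 (σ.injective e)
    · rw [← map_inv]; intro e; exact g4 (σ.injective e)
  let F : MulAut (QuaternionGroup 2) → T := fun σ => ⟨(σ (a 1), σ (xa 0)), hmem σ⟩
  have hF : Function.Injective F := by
    intro σ τ h
    apply mulAut_q8_inj
    exact congrArg Subtype.val h
  have h1 := Nat.card_le_card_of_injective F hF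
  have h2 : Nat.card ↥T = T.card := by
    rw [Nat.card_eq_fintype_card, Fintype.card_coe]
  calc Nat.card (MulAut (QuaternionGroup 2)) ≤ Nat.card ↥T := h1
    _ = T.card := h2
    _ = 24 := q8_pairs_card

variable {X : Type u} [Group X] [Finite X]

/-- the central involution of a normal `Q₈` -/
theorem exists_z (R : Subgroup X) [hRn : R.Normal] (φ : R ≃* QuaternionGroup 2) :
    ∃ z : X, z ∈ R ∧ z ^ 2 = 1 ∧ z ≠ 1 ∧ (∀ r ∈ R, r ^ 2 = 1 → r = 1 ∨ r = z) ∧
      (∀ r ∈ R, r ^ 2 ≠ 1 → r ^ 2 = z) ∧ (∀ g : X, g * z = z * g) ∧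
      (∀ r ∈ R, (∀ q ∈ R, q * r = r * q) → r = 1 ∨ r = z) ∧ (∀ r ∈ R, r ^ 4 = 1) := by
  obtain ⟨z₀, hz₀⟩ : ∃ z₀ : R, z₀ = φ.symm (a 2) := ⟨_, rfl⟩
  have hφz : φ z₀ = a 2 := by rw [hz₀, MulEquiv.apply_symm_apply]
  have hinv : ∀ r ∈ R, r ^ 2 = 1 → r = 1 ∨ r = (z₀ : X) := by
    intro r hr h2
    have : (φ ⟨r, hr⟩) ^ 2 = 1 := by
      rw [← map_pow]
      have : (⟨r, hr⟩ : R) ^ 2 = 1 := Subtype.ext (by simpa using h2)
      rw [this, map_one]
    rcases q8_invol _ this with h | h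
    · left
      have := (MulEquiv.map_eq_one_iff φ).mp h
      exact congrArg Subtype.val this
    · right
      have : (⟨r, hr⟩ : R) = z₀ := φ.injective (by rw [h, hφz])
      exact congrArg Subtype.val this
  have hz2 : (z₀ : X) ^ 2 = 1 := by
    have : z₀ ^ 2 = 1 := φ.injective (by rw [map_pow, hφz, map_one]; exact q8_a2.1)
    have := congrArg Subtype.val this
    simpa using this
  have hz1 : (z₀ : X) ≠ 1 := by
    intro e
    have : z₀ = 1 := Subtype.ext e
    rw [this, map_one] at hφz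
    exact q8_a2.2 hφz.symm
  refine ⟨(z₀ : X), z₀.2, hz2, hz1, hinv, ?_, ?_, ?_, ?_⟩
  · intro r hr h2
    have : (φ ⟨r, hr⟩) ^ 2 ≠ 1 := by
      rw [← map_pow]
      intro e
      have := (MulEquiv.map_eq_one_iff φ).mp e
      apply h2
      have := congrArg Subtype.val this
      simpa using this
    have h := q8_sq _ this
    have : (⟨r, hr⟩ : R) ^ 2 = z₀ := φ.injective (by rw [map_pow, h, hφz])
    have := congrArg Subtype.val this
    simpa using this
  · intro g
    have hmem : g * (z₀ : X) * g⁻¹ ∈ R := hRn.conj_mem _ z₀.2 g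
    have hsq : (g * (z₀ : X) * g⁻¹) ^ 2 = 1 := by rw [conj_pow, hz2]; group
    rcases hinv _ hmem hsq with h | h
    · exfalso
      apply hz1
      have : (z₀ : X) = g⁻¹ * (g * (z₀ : X) * g⁻¹) * g := by group
      rw [this, h]; group
    · calc g * (z₀ : X) = (g * (z₀ : X) * g⁻¹) * g := by group
        _ = (z₀ : X) * g := by rw [h]
  · intro r hr hc
    have : ∀ p : QuaternionGroup 2, p * φ ⟨r, hr⟩ = φ ⟨r, hr⟩ * p := by
      intro p
      obtain ⟨q, rfl⟩ := φ.surjective p
      rw [← map_mul, ← map_mul]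
      congr 1
      exact Subtype.ext (hc q q.2)
    rcases q8_center _ this with h | h
    · left
      have := (MulEquiv.map_eq_one_iff φ).mp h
      exact congrArg Subtype.val this
    · right
      have : (⟨r, hr⟩ : R) = z₀ := φ.injective (by rw [h, hφz])
      exact congrArg Subtype.val this
  · intro r hr
    have := Cfsg.Agent.Lib.Helper1.QS.t8 φ ⟨r, hr⟩
    have := congrArg Subtype.val this
    simpa using this

theorem card_q8 (R : Subgroup X) (φ : R ≃* QuaternionGroup 2) : Nat.card R = 8 := by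
  rw [Nat.card_congr φ.toEquiv, Nat.card_eq_fintype_card, QuaternionGroup.card]

/-- order bound -/
theorem card_le_48 (R : Subgroup X) [hRn : R.Normal] (φ : R ≃* QuaternionGroup 2)
    (hcent : Subgroup.centralizer (R : Set X) ≤ R) : Nat.card X ≤ 48 := by
  obtain ⟨z, hzR, hz2, hz1, hinv, hsq, hzc, hcen, -⟩ := exists_z R φ
  obtain ⟨ρ, hρ⟩ : ∃ ρ : X →* MulAut R, ρ = MulAut.conjNormal := ⟨_, rfl⟩
  have hker : ρ.ker ≤ Subgroup.zpowers z := by
    intro g hg
    have hg1 : ρ g = 1 := MonoidHom.mem_ker.mp hg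
    have hgc : g ∈ Subgroup.centralizer (R : Set X) := by
      rw [Subgroup.mem_centralizer_iff]
      intro q hq
      have h2 := congrArg (fun f : MulAut R => ((f ⟨q, hq⟩ : R) : X)) hg1
      rw [hρ] at h2
      simp only [MulAut.conjNormal_apply, MulAut.one_apply] at h2
      calc q * g = (g * q * g⁻¹) * g := by rw [h2]
        _ = g * q := by group
    have hgR : g ∈ R := hcent hgc
    have hcomm : ∀ q ∈ R, q * g = g * q := fun q hq =>
      (Subgroup.mem_centralizer_iff.mp hgc q hq)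
    rcases hcen g hgR hcomm with h | h
    · rw [h]; exact one_mem _
    · rw [h]; exact Subgroup.mem_zpowers z
  have hz_ord : orderOf z = 2 := orderOf_eq_prime hz2 hz1
  have hkc : Nat.card ρ.ker ≤ 2 := by
    calc Nat.card ρ.ker ≤ Nat.card (Subgroup.zpowers z) := Subgroup.card_le_of_le hker
      _ = 2 := by rw [Nat.card_zpowers, hz_ord]
  have hAut : Nat.card (MulAut R) ≤ 24 := by
    rw [Nat.card_congr (MulAut.congr φ).toEquiv]
    exact card_mulAut_q8_le
  haveI : Finite (MulAut R) := by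
    haveI : Finite (MulAut (QuaternionGroup 2)) :=
      Finite.of_injective _ mulAut_q8_inj
    exact Finite.of_equiv _ (MulAut.congr φ).symm.toEquiv
  have hrc : Nat.card ρ.range ≤ 24 :=
    le_trans (Subgroup.card_le_card_group ρ.range) hAut
  have h1 := Subgroup.card_mul_index ρ.ker
  rw [Subgroup.index_ker] at h1
  calc Nat.card X = Nat.card ρ.ker * Nat.card ρ.range := h1.symm
    _ ≤ 2 * 24 := Nat.mul_le_mul hkc hrc

end Cfsg.Agent.Lib.Helper3.BO
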