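import Mathlib
import Cfsg.Agent.Lib.Helper3.BO6

set_option autoImplicit false
set_option maxHeartbeats 1000000
set_option linter.style.haveILetI false
set_option linter.unusedSectionVars false
set_option linter.unusedVariables false

/-! The common setup: order `48`, `O_2(X) ≅ Q₈`, central involution. -/

universe u

namespace Cfsg.Agent.Lib.Helper3.BO

open QuaternionGroup Cfsg.Agent.Lib.Helper1.QS

/-- The situation reached after the first reductions. -/
structure BOSetup (X : Type u) [Group X] (R : Subgroup X) (z : X) : Prop where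
  normal : R.Normal
  cent : Subgroup.centralizer (R : Set X) ≤ R
  max : ∀ N : Subgroup X, N.Normal → IsPGroup 2 N → N ≤ R
  not_closed : ¬ ∃ P : Sylow 2 X, (P : Subgroup X).Normal
  odd_core : ∀ N : Subgroup X, N.Normal → (Nat.card N).Coprime 2 → N = ⊥
  quat : Nonempty (R ≃* QuaternionGroup 2)
  card : Nat.card X = 48
  zR : z ∈ R
  z2 : z ^ 2 = 1
  z1 : z ≠ 1
  inv : ∀ r ∈ R, r ^ 2 = 1 → r = 1 ∨ r = z
  sq : ∀ r ∈ R, r ^ 2 ≠ 1 → r ^ 2 = z
  zc : ∀ g : X, g * z = z * g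
  cen : ∀ g : X, (∀ q ∈ R, q * g = g * q) → g = 1 ∨ g = z
  four : ∀ r ∈ R, r ^ 4 = 1

variable {X : Type u} [Group X] [Finite X]

theorem setup_of [Group.IsSolvable X] (hO : Cfsg.pPrimeCore 2 X = ⊥) (hK : NoKlein X)
    (hnot : ¬ ∃ P : Sylow 2 X, (P : Subgroup X).Normal) :
    ∃ z : X, BOSetup X (Cfsg.pCore 2 X) z ∧ ∃ x : X, orderOf x = 3 := by
  haveI : Fact (Nat.Prime 2) := ⟨Nat.prime_two⟩
  obtain ⟨⟨φ⟩, g, hgodd, hgnc⟩ := pCore_q8 hO hK hnot
  obtain ⟨R, hR⟩ : ∃ R : Subgroup X, R = Cfsg.pCore 2 X := ⟨_, rfl⟩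
  rw [← hR] at φ hgnc ⊢
  haveI hRn : R.Normal := by rw [hR]; exact Cfsg.Agent.Lib.Helper1.pCore_normal 2
  have hR2 : IsPGroup 2 R := by rw [hR]; exact Cfsg.Agent.Lib.Helper1.pCore_isPGroup 2
  have hcent : Subgroup.centralizer (R : Set X) ≤ R := by
    rw [hR]; exact Cfsg.Agent.Lib.Helper1.centralizer_pCore_le 2 hO
  have hmax : ∀ N : Subgroup X, N.Normal → IsPGroup 2 N → N ≤ R := by
    intro N hN hN2; rw [hR]; exact Cfsg.Agent.Lib.Helper1.le_pCore hN hN2
  have hodd : ∀ N : Subgroup X, N.Normal → (Nat.card N).Coprime 2 → N = ⊥ := by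
    intro N hN hNc
    have := Cfsg.Agent.Lib.Helper1.le_pPrimeCore hN hNc
    rw [hO] at this
    exact le_bot_iff.mp this
  obtain ⟨z, hzR, hz2, hz1, hinv, hsq, hzc, hcen, hfour⟩ := exists_z R φ
  have hle := card_le_48 R φ hcent
  have hc8 := card_q8 R φ
  have hidx := Subgroup.card_mul_index R
  rw [hc8] at hidx
  obtain ⟨m, hm⟩ : ∃ m : ℕ, m = R.index := ⟨_, rfl⟩
  rw [← hm] at hidx
  have hm2 : 2 ∣ m := by
    by_contra h2
    apply hnot
    rw [hm] at h2
    refine ⟨hR2.toSylow h2, ?_⟩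
    rw [IsPGroup.toSylow_coe]
    exact hRn
  have hg1 : g ≠ 1 := by
    intro e; apply hgnc; intro q hq; rw [e]; group
  have hgd : orderOf g ∣ m := by
    have h1 : orderOf g ∣ 8 * m := by rw [hidx]; exact orderOf_dvd_natCard g
    have h2 : (orderOf g).Coprime 8 := by
      have : (8 : ℕ) = 2 ^ 3 := by norm_num
      rw [this]; exact Nat.Coprime.pow_right 3 hgodd
    exact h2.dvd_of_dvd_mul_left h1
  obtain ⟨k, hk⟩ : ∃ k : ℕ, k = orderOf g := ⟨_, rfl⟩
  rw [← hk] at hgd hgodd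
  have hk1 : k ≠ 1 := by
    intro e; rw [e] at hk; exact hg1 (orderOf_eq_one_iff.mp hk.symm)
  have hmle : m ≤ 6 := by omega
  have hmpos : 0 < m := by
    rcases Nat.eq_zero_or_pos m with h | h
    · rw [h] at hidx; have := Nat.card_pos (α := X); omega
    · exact h
  have hkle : k ≤ m := Nat.le_of_dvd hmpos hgd
  have hkpos : 0 < k := by rw [hk]; exact orderOf_pos g
  have hm6 : m = 6 ∧ k = 3 := by
    interval_cases m <;> try omega
    all_goals (interval_cases k <;> first | omega | (exfalso; revert hgodd; decide) |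
      (exfalso; revert hgd; decide))
  obtain ⟨hm6, hk3⟩ := hm6
  have hcard : Nat.card X = 48 := by rw [← hidx, hm6]
  refine ⟨z, ⟨hRn, hcent, hmax, hnot, hodd, ⟨φ⟩, hcard, hzR, hz2, hz1, hinv, hsq, hzc, ?_, hfour⟩,
    g, by rw [← hk, hk3]⟩
  intro h hh
  have hhc : h ∈ Subgroup.centralizer (R : Set X) := by
    rw [Subgroup.mem_centralizer_iff]; exact hh
  exact hcen h (hcent hhc) hh

end Cfsg.Agent.Lib.Helper3.BO
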