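import Mathlib
import Cfsg.Agent.Lib.Helper3.BO7

set_option autoImplicit false
set_option maxHeartbeats 1000000
set_option linter.style.haveILetI false
set_option linter.unusedSectionVars false
set_option linter.unusedVariables false

/-! Consequences of the setup: elements of order three, involutions outside `O_2`. -/

universe u

namespace Cfsg.Agent.Lib.Helper3.BO

open QuaternionGroup Cfsg.Agent.Lib.Helper1.QS

variable {X : Type u} [Group X] [Finite X] {R : Subgroup X} {z : X}

theorem BOSetup.card_R (h : BOSetup X R z) : Nat.card R = 8 := by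
  obtain ⟨φ⟩ := h.quat
  exact card_q8 R φ

theorem BOSetup.isPGroup (h : BOSetup X R z) : IsPGroup 2 R :=
  IsPGroup.of_card (n := 3) (by rw [h.card_R]; norm_num)

theorem BOSetup.orderOf_z (h : BOSetup X R z) : orderOf z = 2 := orderOf_eq_prime h.z2 h.z1

theorem BOSetup.not_mem_of_order3 (h : BOSetup X R z) {x : X} (hx : orderOf x = 3) : x ∉ R := by
  intro hxR
  have h4 := h.four x hxR
  have h3 : x ^ 3 = 1 := by rw [← hx]; exact pow_orderOf_eq_one x
  have : x = 1 := by
    calc x = x ^ 4 * (x ^ 3)⁻¹ := by group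
      _ = 1 := by rw [h4, h3]; group
  rw [this, orderOf_one] at hx
  omega

theorem BOSetup.not_cent_of_order3 (h : BOSetup X R z) {x : X} (hx : orderOf x = 3) :
    ¬ ∀ q ∈ R, x * q * x⁻¹ = q := by
  intro hc
  have : ∀ q ∈ R, q * x = x * q := by
    intro q hq
    calc q * x = (x * q * x⁻¹) * x := by rw [hc q hq]
      _ = x * q := by group
  rcases h.cen x this with e | e
  · rw [e, orderOf_one] at hx; omega
  · rw [e, h.orderOf_z] at hx; omega

theorem BOSetup.mem_normalizer (h : BOSetup X R z) (g : X) :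
    g ∈ Subgroup.normalizer (R : Set X) := by
  rw [Subgroup.normalizer_eq_top_iff.mpr h.normal]; trivial

theorem coprime_of_order3 {x : X} (hx : orderOf x = 3) : (orderOf x).Coprime 2 := by
  rw [hx]; decide

/-- adapted generators -/
theorem BOSetup.adapted (h : BOSetup X R z) {x : X} (hx : orderOf x = 3) :
    ∃ b c : X, b ∈ R ∧ c ∈ R ∧ b ^ 4 = 1 ∧ b ^ 2 = z ∧ c * c = z ∧ c * b * c⁻¹ = b⁻¹ ∧
      x * b * x⁻¹ = c ∧ x * c * x⁻¹ = b * c ∧ ∀ q ∈ R, ∃ i : ℕ, q = b ^ i ∨ q = c * b ^ i := by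
  obtain ⟨φ⟩ := h.quat
  obtain ⟨b, c, hb, hc, h4, h2, hcc, hcb, hxb, hxc, hall⟩ :=
    exists_adapted R φ x (h.mem_normalizer x) (coprime_of_order3 hx) (h.not_cent_of_order3 hx)
  have hbz : b ^ 2 = z := h.sq b hb h2
  exact ⟨b, c, hb, hc, h4, hbz, by rw [hcc, hbz], hcb, hxb, hxc, hall⟩

/-- the centralizer of an element of order three in `R` -/
theorem BOSetup.cent_order3 (h : BOSetup X R z) {x : X} (hx : orderOf x = 3) {r : X} (hr : r ∈ R)
    (hc : x * r * x⁻¹ = r) : r = 1 ∨ r = z := by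
  obtain ⟨φ⟩ := h.quat
  by_cases h2 : r ^ 2 = 1
  · exact h.inv r hr h2
  · exact ((step1 R φ x (h.mem_normalizer x) (coprime_of_order3 hx) (h.not_cent_of_order3 hx)
      r hr h2).1 hc).elim

/-- an involution outside `R` together with `R` generates a subgroup of order `16` -/
theorem BOSetup.card_sup (h : BOSetup X R z) {t : X} (ht2 : t ^ 2 = 1) (htR : t ∉ R) :
    IsPGroup 2 ↥(R ⊔ Subgroup.zpowers t) ∧ Nat.card ↥(R ⊔ Subgroup.zpowers t) = 16 := by
  haveI : Fact (Nat.Prime 2) := ⟨Nat.prime_two⟩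
  haveI := h.normal
  have ht1 : t ≠ 1 := fun e => htR (e ▸ one_mem R)
  have hto : orderOf t = 2 := orderOf_eq_prime ht2 ht1
  have hT2 : IsPGroup 2 (Subgroup.zpowers t) :=
    IsPGroup.of_card (n := 1) (by rw [Nat.card_zpowers, hto]; norm_num)
  have hD2 : IsPGroup 2 ↥(R ⊔ Subgroup.zpowers t) := IsPGroup.to_sup_of_normal_left h.isPGroup hT2
  refine ⟨hD2, ?_⟩
  obtain ⟨k, hk⟩ := IsPGroup.iff_card.mp hD2
  have hdvd : Nat.card ↥(R ⊔ Subgroup.zpowers t) ∣ 48 := by
    rw [← h.card]; exact Subgroup.card_subgroup_dvd_card _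
  have h8 : 8 ∣ Nat.card ↥(R ⊔ Subgroup.zpowers t) := by
    rw [← h.card_R]; exact Subgroup.card_dvd_of_le le_sup_left
  have hne : Nat.card ↥(R ⊔ Subgroup.zpowers t) ≠ 8 := by
    intro e
    have : R = R ⊔ Subgroup.zpowers t :=
      Subgroup.eq_of_le_of_card_ge le_sup_left (by rw [e, h.card_R])
    apply htR
    rw [this]
    exact (le_sup_right : Subgroup.zpowers t ≤ _) (Subgroup.mem_zpowers t)
  rw [hk] at hdvd h8 hne ⊢
  have hk5 : k ≤ 5 := by
    by_contra hgt
    push Not at hgt
    have : 2 ^ 6 ≤ 2 ^ k := Nat.pow_le_pow_right (by norm_num) hgt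
    have := Nat.le_of_dvd (by norm_num) hdvd
    omega
  interval_cases k <;> first | rfl | omega | (exfalso; revert hdvd; decide) |
    (exfalso; revert h8; decide)

/-- an element of order three does not commute with an outside involution modulo `R` -/
theorem BOSetup.no_comm (h : BOSetup X R z) {t : X} (ht2 : t ^ 2 = 1) (htR : t ∉ R) {y : X}
    (hy : orderOf y = 3) : t * y * t⁻¹ * y⁻¹ ∉ R := by
  haveI : Fact (Nat.Prime 2) := ⟨Nat.prime_two⟩
  haveI := h.normal
  intro hw
  obtain ⟨hD2, hD16⟩ := h.card_sup ht2 htR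
  obtain ⟨D, hD⟩ : ∃ D : Subgroup X, D = R ⊔ Subgroup.zpowers t := ⟨_, rfl⟩
  rw [← hD] at hD2 hD16
  have hRD : R ≤ D := by rw [hD]; exact le_sup_left
  have htD : t ∈ D := by
    rw [hD]; exact (le_sup_right : Subgroup.zpowers t ≤ _) (Subgroup.mem_zpowers t)
  have hytD : y * t * y⁻¹ ∈ D := by
    have e : y * t * y⁻¹ = (t * y * t⁻¹ * y⁻¹)⁻¹ * t := by group
    rw [e]
    exact D.mul_mem (D.inv_mem (hRD hw)) htD
  have hyN : y ∈ Subgroup.normalizer (D : Set X) := by
    apply Cfsg.Agent.Lib.Helper1.ThA.mem_normalizer_of_conj_mem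
    have hle : D ≤ D.comap (MulAut.conj y).toMonoidHom := by
      rw [hD, sup_le_iff]
      constructor
      · intro r hr
        rw [Subgroup.mem_comap]
        show (MulAut.conj y) r ∈ _
        rw [MulAut.conj_apply, ← hD]
        exact hRD (h.normal.conj_mem r hr y)
      · rw [Subgroup.zpowers_le, Subgroup.mem_comap]
        show (MulAut.conj y) t ∈ _
        rw [MulAut.conj_apply, ← hD]
        exact hytD
    intro m hm
    have := hle hm
    rw [Subgroup.mem_comap] at this
    exact this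
  have h16 : 16 ∣ Nat.card (Subgroup.normalizer (D : Set X)) := by
    rw [← hD16]; exact Subgroup.card_dvd_of_le Subgroup.le_normalizer
  have h3 : 3 ∣ Nat.card (Subgroup.normalizer (D : Set X)) := by
    have := orderOf_dvd_natCard (⟨y, hyN⟩ : Subgroup.normalizer (D : Set X))
    rwa [Subgroup.orderOf_mk, hy] at this
  have h48 : 48 ∣ Nat.card (Subgroup.normalizer (D : Set X)) := by
    have : Nat.Coprime 16 3 := by decide
    exact this.mul_dvd_of_dvd_of_dvd h16 h3
  have htop : Subgroup.normalizer (D : Set X) = ⊤ := by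
    apply Subgroup.eq_top_of_card_eq
    have hle := Nat.le_of_dvd Nat.card_pos h48
    have hle2 := Subgroup.card_le_card_group (Subgroup.normalizer (D : Set X))
    rw [h.card] at hle2 ⊢
    omega
  have hDn : D.Normal := Subgroup.normalizer_eq_top_iff.mp htop
  have hidx : D.index = 3 := by
    have := Subgroup.card_mul_index D
    rw [hD16, h.card] at this
    omega
  apply h.not_closed
  refine ⟨hD2.toSylow (by rw [hidx]; decide), ?_⟩
  rw [IsPGroup.toSylow_coe]
  exact hDn

end Cfsg.Agent.Lib.Helper3.BO
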