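import Mathlib
import Cfsg.Agent.Lib.Helper3.BO8
import Cfsg.Agent.Lib.Helper3.BO3

set_option autoImplicit false
set_option maxHeartbeats 1000000
set_option linter.style.haveILetI false
set_option linter.unusedSectionVars false
set_option linter.unusedVariables false

/-! An involution outside `O_2(X)`: recognition of `GL(2,3)`. -/

universe u

namespace Cfsg.Agent.Lib.Helper3.BO

open QuaternionGroup Cfsg.Agent.Lib.Helper1.QS

set_option maxRecDepth 100000 in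
theorem q8_bundle : ∀ u v : QuaternionGroup 2, u ^ 2 ≠ 1 → v ^ 2 ≠ 1 → v ≠ u → v ≠ u⁻¹ →
    v * u * v = u ∧ (u * v) * (u * v) = u ^ 2 ∧ (u * v) * v * (u * v)⁻¹ = v⁻¹ ∧ v * (u * v) = u ∧
    u * (u * v) * u⁻¹ = (u * v)⁻¹ ∧ (u * v) * u = v ∧ u * (u * v) ≠ v ∧ v * u ≠ u * v ∧
    (u * v) * v ≠ u := by decide

set_option maxRecDepth 100000 in
set_option synthInstance.maxHeartbeats 400000 in
set_option synthInstance.maxSize 2048 in
theorem q8_six : ∀ u v q : QuaternionGroup 2, u ^ 2 ≠ 1 → v ^ 2 ≠ 1 → v ≠ u → v ≠ u⁻¹ →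
    q ^ 2 ≠ 1 → (q = u ∨ q = u⁻¹ ∨ q = v ∨ q = v⁻¹ ∨ q = u * v ∨ q = (u * v)⁻¹) := by decide

variable {X : Type u} [Group X] [Finite X] {R : Subgroup X} {z : X}

/-- transport of the identities -/
theorem bundle_X (φ : R ≃* QuaternionGroup 2) {b c : X} (hb : b ∈ R) (hc : c ∈ R)
    (hb2 : b ^ 2 ≠ 1) (hc2 : c ^ 2 ≠ 1) (hcb : c ≠ b) (hcb' : c ≠ b⁻¹) :
    c * b * c = b ∧ (b * c) * (b * c) = b ^ 2 ∧ (b * c) * c * (b * c)⁻¹ = c⁻¹ ∧ c * (b * c) = b ∧
    b * (b * c) * b⁻¹ = (b * c)⁻¹ ∧ (b * c) * b = c ∧ b * (b * c) ≠ c ∧ c * b ≠ b * c ∧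
    (b * c) * c ≠ b := by
  obtain ⟨B, hB⟩ : ∃ B : R, B = ⟨b, hb⟩ := ⟨_, rfl⟩
  obtain ⟨C, hC⟩ : ∃ C : R, C = ⟨c, hc⟩ := ⟨_, rfl⟩
  have hBv : (B : X) = b := by rw [hB]
  have hCv : (C : X) = c := by rw [hC]
  have hB2 : B ^ 2 ≠ 1 := by
    intro e; apply hb2; rw [← hBv, ← Subgroup.coe_pow, e]; rfl
  have hC2 : C ^ 2 ≠ 1 := by
    intro e; apply hc2; rw [← hCv, ← Subgroup.coe_pow, e]; rfl
  have hCB : C ≠ B := by
    intro e; apply hcb; rw [← hBv, ← hCv, e]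
  have hCB' : C ≠ B⁻¹ := by
    intro e; apply hcb'; rw [← hBv, ← hCv, e]; rfl
  obtain ⟨e1, e2, e3, e4, e5, e6, e7, e8, e9⟩ := q8_bundle (φ B) (φ C) (t_sq φ hB2) (t_sq φ hC2)
    (t_ne φ hCB) (by rw [← map_inv]; exact t_ne φ hCB')
  have E1 : C * B * C = B := φ.injective (by simp only [map_mul, map_inv, map_pow]; exact e1)
  have E2 : (B * C) * (B * C) = B ^ 2 := φ.injective (by simp only [map_mul, map_inv, map_pow]; exact e2)
  have E3 : (B * C) * C * (B * C)⁻¹ = C⁻¹ := φ.injective (by simp only [map_mul, map_inv, map_pow]; exact e3)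
  have E4 : C * (B * C) = B := φ.injective (by simp only [map_mul, map_inv, map_pow]; exact e4)
  have E5 : B * (B * C) * B⁻¹ = (B * C)⁻¹ := φ.injective (by simp only [map_mul, map_inv, map_pow]; exact e5)
  have E6 : (B * C) * B = C := φ.injective (by simp only [map_mul, map_inv, map_pow]; exact e6)
  have E7 : B * (B * C) ≠ C := fun e => e7 (by have := congrArg φ e; simpa only [map_mul] using this)
  have E8 : C * B ≠ B * C := fun e => e8 (by rw [← map_mul, e, map_mul])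
  have E9 : (B * C) * C ≠ B := fun e => e9 (by have := congrArg φ e; simpa only [map_mul] using this)
  rw [← hBv, ← hCv]
  refine ⟨?_, ?_, ?_, ?_, ?_, ?_, ?_, ?_, ?_⟩
  · exact congrArg Subtype.val E1
  · exact congrArg Subtype.val E2
  · exact congrArg Subtype.val E3
  · exact congrArg Subtype.val E4
  · exact congrArg Subtype.val E5
  · exact congrArg Subtype.val E6
  · exact fun e => E7 (Subtype.ext e)
  · exact fun e => E8 (Subtype.ext e)
  · exact fun e => E9 (Subtype.ext e)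

theorem six_X (φ : R ≃* QuaternionGroup 2) {b c q : X} (hb : b ∈ R) (hc : c ∈ R) (hq : q ∈ R)
    (hb2 : b ^ 2 ≠ 1) (hc2 : c ^ 2 ≠ 1) (hcb : c ≠ b) (hcb' : c ≠ b⁻¹) (hq2 : q ^ 2 ≠ 1) :
    q = b ∨ q = b⁻¹ ∨ q = c ∨ q = c⁻¹ ∨ q = b * c ∨ q = (b * c)⁻¹ := by
  obtain ⟨B, hB⟩ : ∃ B : R, B = ⟨b, hb⟩ := ⟨_, rfl⟩
  obtain ⟨C, hC⟩ : ∃ C : R, C = ⟨c, hc⟩ := ⟨_, rfl⟩
  obtain ⟨Q, hQ⟩ : ∃ Q : R, Q = ⟨q, hq⟩ := ⟨_, rfl⟩
  have hBv : (B : X) = b := by rw [hB]
  have hCv : (C : X) = c := by rw [hC]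
  have hQv : (Q : X) = q := by rw [hQ]
  have hB2 : B ^ 2 ≠ 1 := by
    intro e; apply hb2; rw [← hBv, ← Subgroup.coe_pow, e]; rfl
  have hC2 : C ^ 2 ≠ 1 := by
    intro e; apply hc2; rw [← hCv, ← Subgroup.coe_pow, e]; rfl
  have hQ2 : Q ^ 2 ≠ 1 := by
    intro e; apply hq2; rw [← hQv, ← Subgroup.coe_pow, e]; rfl
  have hCB : C ≠ B := by
    intro e; apply hcb; rw [← hBv, ← hCv, e]
  have hCB' : C ≠ B⁻¹ := by
    intro e; apply hcb'; rw [← hBv, ← hCv, e]; rfl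
  rw [← hBv, ← hCv, ← hQv]
  rcases q8_six (φ B) (φ C) (φ Q) (t_sq φ hB2) (t_sq φ hC2)
    (t_ne φ hCB) (by rw [← map_inv]; exact t_ne φ hCB') (t_sq φ hQ2) with e | e | e | e | e | e
  · left
    exact congrArg Subtype.val (φ.injective e)
  · right; left
    have : Q = B⁻¹ := φ.injective (by rw [e, map_inv])
    exact congrArg Subtype.val this
  · right; right; left
    exact congrArg Subtype.val (φ.injective e)
  · right; right; right; left
    have : Q = C⁻¹ := φ.injective (by rw [e, map_inv])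
    exact congrArg Subtype.val this
  · right; right; right; right; left
    have : Q = B * C := φ.injective (by rw [e, map_mul])
    exact congrArg Subtype.val this
  · right; right; right; right; right
    have : Q = (B * C)⁻¹ := φ.injective (by rw [e, map_inv, map_mul])
    exact congrArg Subtype.val this

end Cfsg.Agent.Lib.Helper3.BO
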