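import Mathlib
import Cfsg.Agent.Lib.Helper3.BO9

set_option autoImplicit false
set_option maxHeartbeats 1000000
set_option linter.style.haveILetI false
set_option linter.unusedSectionVars false
set_option linter.unusedVariables false

/-! An involution outside `O_2(X)` inverts an element of order three. -/

universe u

namespace Cfsg.Agent.Lib.Helper3.BO

open QuaternionGroup Cfsg.Agent.Lib.Helper1.QS

variable {X : Type u} [Group X] [Finite X] {R : Subgroup X} {z : X}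

theorem BOSetup.exists_inverted (h : BOSetup X R z) {t : X} (ht2 : t ^ 2 = 1) (htR : t ∉ R) :
    ∃ x : X, orderOf x = 3 ∧ t * x * t⁻¹ = x⁻¹ := by
  classical
  haveI := h.normal
  haveI : Fact (Nat.Prime 3) := ⟨by norm_num⟩
  obtain ⟨x₀, hx₀⟩ := exists_prime_orderOf_dvd_card' (G := X) 3 (by rw [h.card]; norm_num)
  obtain ⟨π, hπ⟩ : ∃ π : X →* X ⧸ R, π = QuotientGroup.mk' R := ⟨_, rfl⟩
  have hker : ∀ g : X, π g = 1 ↔ g ∈ R := by
    intro g; rw [hπ, QuotientGroup.mk'_apply, QuotientGroup.eq_one_iff]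
  have hY : Nat.card (X ⧸ R) = 6 := by
    have := Subgroup.card_eq_card_quotient_mul_card_subgroup R
    rw [h.card, h.card_R] at this
    omega
  obtain ⟨xb, hxb⟩ : ∃ xb : X ⧸ R, xb = π x₀ := ⟨_, rfl⟩
  obtain ⟨tb, htb⟩ : ∃ tb : X ⧸ R, tb = π t := ⟨_, rfl⟩
  have hx₀3 : x₀ ^ 3 = 1 := by rw [← hx₀]; exact pow_orderOf_eq_one x₀
  have hxb3 : xb ^ 3 = 1 := by rw [hxb, ← map_pow, hx₀3, map_one]
  have hxb1 : xb ≠ 1 := by
    rw [hxb]; intro e; exact h.not_mem_of_order3 hx₀ ((hker _).mp e)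
  have hxbo : orderOf xb = 3 := orderOf_eq_prime hxb3 hxb1
  have hidx : (Subgroup.zpowers xb).index = 2 := by
    have := Subgroup.card_mul_index (Subgroup.zpowers xb)
    rw [Nat.card_zpowers, hxbo, hY] at this
    omega
  haveI hH3 : (Subgroup.zpowers xb).Normal := Subgroup.normal_of_index_eq_two hidx
  have hmem : tb * xb * tb⁻¹ ∈ Subgroup.zpowers xb := hH3.conj_mem xb (Subgroup.mem_zpowers xb) tb
  have hcase : tb * xb * tb⁻¹ = xb ^ 2 := by
    rw [mem_zpowers_iff_mem_range_orderOf, hxbo] at hmem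
    simp only [Finset.mem_image, Finset.mem_range] at hmem
    obtain ⟨i, hi, hyi⟩ := hmem
    interval_cases i
    · exfalso
      apply hxb1
      rw [pow_zero] at hyi
      calc xb = tb⁻¹ * (tb * xb * tb⁻¹) * tb := by group
        _ = 1 := by rw [← hyi]; group
    · exfalso
      rw [pow_one] at hyi
      apply h.no_comm ht2 htR hx₀
      rw [← hker, map_mul, map_mul, map_mul, map_inv, map_inv, ← hxb, ← htb, ← hyi]
      group
    · exact hyi.symm
  obtain ⟨u, hu⟩ : ∃ u : X, u = x₀ * (t * x₀⁻¹ * t⁻¹) := ⟨_, rfl⟩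
  have hπu : π u = xb⁻¹ := by
    rw [hu, map_mul, map_mul, map_mul, map_inv, map_inv, ← hxb, ← htb]
    have : tb * xb⁻¹ * tb⁻¹ = (tb * xb * tb⁻¹)⁻¹ := by group
    rw [this, hcase]
    group
  have htinv : t⁻¹ = t := by
    rw [inv_eq_iff_mul_eq_one, ← pow_two, ht2]
  have htt : t * t = 1 := by rw [← pow_two, ht2]
  have htu : t * u * t⁻¹ = u⁻¹ := by
    rw [hu, htinv, eq_inv_iff_mul_eq_one]
    have e1 : t * (x₀ * (t * x₀⁻¹ * t)) * t * (x₀ * (t * x₀⁻¹ * t))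
        = t * x₀ * t * x₀⁻¹ * (t * t) * x₀ * t * x₀⁻¹ * t := by group
    rw [e1, htt]
    have e2 : t * x₀ * t * x₀⁻¹ * 1 * x₀ * t * x₀⁻¹ * t = t * x₀ * (t * t) * x₀⁻¹ * t := by group
    rw [e2, htt]
    have e3 : t * x₀ * 1 * x₀⁻¹ * t = t * t := by group
    rw [e3, htt]
  obtain ⟨x, hx⟩ : ∃ x : X, x = u ^ 4 := ⟨_, rfl⟩
  have hu3R : u ^ 3 ∈ R := by
    rw [← hker, map_pow, hπu, inv_pow, hxb3, inv_one]
  have hx3 : x ^ 3 = 1 := by
    rw [hx, ← pow_mul, show 4 * 3 = 3 * 4 from rfl, pow_mul]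
    exact h.four _ hu3R
  have hx1 : x ≠ 1 := by
    intro e
    have : π x = 1 := by rw [e, map_one]
    rw [hx, map_pow, hπu] at this
    apply hxb1
    have e2 : (xb⁻¹) ^ 4 = xb⁻¹ * (xb ^ 3)⁻¹ := by group
    rw [e2, hxb3, inv_one, mul_one, inv_eq_one] at this
    exact this
  refine ⟨x, orderOf_eq_prime hx3 hx1, ?_⟩
  rw [hx, ← conj_pow, htu, inv_pow]

end Cfsg.Agent.Lib.Helper3.BO
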