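import Mathlib
import Cfsg.Agent.Lib.Helper3.BO10

set_option autoImplicit false
set_option maxHeartbeats 1000000
set_option linter.style.haveILetI false
set_option linter.unusedSectionVars false
set_option linter.unusedVariables false

/-! An involution outside `O_2(X)`: the relations of `GL(2,3)`. -/

universe u

namespace Cfsg.Agent.Lib.Helper3.BO

open QuaternionGroup Cfsg.Agent.Lib.Helper1.QS

variable {X : Type u} [Group X] [Finite X] {R : Subgroup X} {z : X}

theorem BOSetup.rel48_of (h : BOSetup X R z) {x t : X} (hx : orderOf x = 3) (ht2 : t ^ 2 = 1)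
    (hinv : t * x * t⁻¹ = x⁻¹) :
    ∃ i j : X, Rel48 i j x t ∧ i ∈ R ∧ j ∈ R ∧ i ^ 2 = z ∧
      R ≤ Subgroup.closure ({i, j} : Set X) := by
  obtain ⟨φ⟩ := h.quat
  obtain ⟨b, c, hb, hc, hb4, hbz, hcc, hcb, hxb, hxc, hall⟩ := h.adapted hx
  have hx3 : x ^ 3 = 1 := by rw [← hx]; exact pow_orderOf_eq_one x
  have hb2 : b ^ 2 ≠ 1 := by rw [hbz]; exact h.z1
  have hc2 : c ^ 2 ≠ 1 := by rw [pow_two, hcc]; exact h.z1
  have hbinv : b⁻¹ ≠ b := by
    intro e
    apply hb2
    rw [pow_two]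
    calc b * b = b⁻¹ * b := by rw [e]
      _ = 1 := by group
  have hne : c ≠ b := by
    intro e
    apply hbinv
    rw [← hcb, e]; group
  have hne' : c ≠ b⁻¹ := by
    intro e
    apply hbinv
    rw [← hcb, e]; group
  obtain ⟨i1, i2, i3, i4, i5, i6, i7, i8, i9⟩ := bundle_X φ hb hc hb2 hc2 hne hne'
  have hkR : b * c ∈ R := R.mul_mem hb hc
  have F2 : x * (b * c) * x⁻¹ = b := by
    calc x * (b * c) * x⁻¹ = (x * b * x⁻¹) * (x * c * x⁻¹) := by group
      _ = c * (b * c) := by rw [hxb, hxc]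
      _ = b := i4
  have hb' : x⁻¹ * c * x = b := by
    calc x⁻¹ * c * x = x⁻¹ * (x * b * x⁻¹) * x := by rw [hxb]
      _ = b := by group
  have hc' : x⁻¹ * (b * c) * x = c := by
    calc x⁻¹ * (b * c) * x = x⁻¹ * (x * c * x⁻¹) * x := by rw [hxc]
      _ = c := by group
  have hk' : x⁻¹ * b * x = b * c := by
    calc x⁻¹ * b * x = x⁻¹ * (x * (b * c) * x⁻¹) * x := by rw [F2]
      _ = b * c := by group
  have hσx : ∀ q : X, t * (x * q * x⁻¹) * t⁻¹ = x⁻¹ * (t * q * t⁻¹) * x := by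
    intro q
    calc t * (x * q * x⁻¹) * t⁻¹ = (t * x * t⁻¹) * (t * q * t⁻¹) * (t * x * t⁻¹)⁻¹ := by group
      _ = x⁻¹ * (t * q * t⁻¹) * x := by rw [hinv, inv_inv]
  have hσc : t * c * t⁻¹ = x⁻¹ * (t * b * t⁻¹) * x := by
    have := hσx b
    rwa [hxb] at this
  have hσk : t * (b * c) * t⁻¹ = x⁻¹ * (t * c * t⁻¹) * x := by
    have := hσx c
    rwa [hxc] at this
  have hσm : t * (b * c) * t⁻¹ = (t * b * t⁻¹) * (t * c * t⁻¹) := by group
  have hσbR : t * b * t⁻¹ ∈ R := h.normal.conj_mem b hb t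
  have hσb2 : (t * b * t⁻¹) ^ 2 ≠ 1 := by
    rw [conj_pow, hbz, h.zc t]
    intro e
    apply h.z1
    calc z = z * t * t⁻¹ := by group
      _ = 1 := e
  have hinvconj : ∀ q : X, x⁻¹ * q⁻¹ * x = (x⁻¹ * q * x)⁻¹ := by intro q; group
  have hcl : ∀ i j : X, b ∈ Subgroup.closure ({i, j} : Set X) →
      c ∈ Subgroup.closure ({i, j} : Set X) → R ≤ Subgroup.closure ({i, j} : Set X) := by
    intro i j hbi hci q hq
    obtain ⟨n, hn | hn⟩ := hall q hq
    · rw [hn]; exact Subgroup.pow_mem _ hbi n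
    · rw [hn]; exact Subgroup.mul_mem _ hci (Subgroup.pow_mem _ hbi n)
  rcases six_X φ hb hc hσbR hb2 hc2 hne hne' hσb2 with e | e | e | e | e | e
  · -- σ b = b : impossible
    exfalso
    rw [e, hk'] at hσc
    rw [hσc, hc'] at hσk
    rw [hσk, e, hσc] at hσm
    exact i7 hσm.symm
  · -- σ b = b⁻¹ : use (c, b c)
    rw [e, hinvconj, hk'] at hσc
    rw [hσc, hinvconj, hc'] at hσk
    refine ⟨c, b * c, ⟨h.four c hc, ?_, i3, hx3, hxc, ?_, ht2, hinv, hσc, hσk⟩, hc, hkR, ?_, ?_⟩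
    · rw [pow_two, pow_two, hcc, i2, hbz]
    · rw [F2, i4]
    · rw [pow_two, hcc]
    · apply hcl
      · have hmem : c * (b * c) ∈ Subgroup.closure ({c, b * c} : Set X) :=
          Subgroup.mul_mem _ (Subgroup.subset_closure (by simp))
            (Subgroup.subset_closure (by simp))
        rwa [i4] at hmem
      · exact Subgroup.subset_closure (by simp)
  · -- σ b = c : impossible
    exfalso
    rw [e, hb'] at hσc
    rw [hσc, hk'] at hσk
    rw [hσk, e, hσc] at hσm
    exact i8 hσm.symm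
  · -- σ b = c⁻¹ : use (b, c)
    rw [e, hinvconj, hb'] at hσc
    refine ⟨b, c, ⟨hb4, ?_, hcb, hx3, hxb, hxc, ht2, hinv, e, hσc⟩, hb, hc, hbz, ?_⟩
    · rw [hbz, pow_two, hcc]
    · apply hcl
      · exact Subgroup.subset_closure (by simp)
      · exact Subgroup.subset_closure (by simp)
  · -- σ b = b c : impossible
    exfalso
    rw [e, hc'] at hσc
    rw [hσc, hb'] at hσk
    rw [hσk, e, hσc] at hσm
    exact i9 hσm.symm
  · -- σ b = (b c)⁻¹ : use (b c, b)
    rw [e, hinvconj, hc'] at hσc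
    rw [hσc, hinvconj, hb'] at hσk
    refine ⟨b * c, b, ⟨h.four _ hkR, ?_, i5, hx3, F2, ?_, ht2, hinv, hσk, e⟩, hkR, hb, ?_, ?_⟩
    · rw [pow_two, i2]
    · rw [hxb, i6]
    · rw [pow_two, i2, hbz]
    · apply hcl
      · exact Subgroup.subset_closure (by simp)
      · have hmem : b * c * b ∈ Subgroup.closure ({b * c, b} : Set X) :=
          Subgroup.mul_mem _ (Subgroup.subset_closure (by simp))
            (Subgroup.subset_closure (by simp))
        rwa [i6] at hmem

/-- The minimal normal subgroup property. -/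
theorem BOSetup.z_mem_normal (h : BOSetup X R z) (N : Subgroup X) (hN : N.Normal) (hne : N ≠ ⊥) :
    z ∈ N := by
  by_contra hz
  apply hne
  have hNR : ∀ r : X, r ∈ N → r ∈ R → r = 1 := by
    intro r hrN hrR
    by_contra hr1
    by_cases h2 : r ^ 2 = 1
    · rcases h.inv r hrR h2 with e | e
      · exact hr1 e
      · exact hz (e ▸ hrN)
    · have := h.sq r hrR h2
      exact hz (this ▸ N.pow_mem hrN 2)
  rw [eq_bot_iff]
  intro n hn
  rw [Subgroup.mem_bot]
  have hcomm : ∀ q ∈ R, q * n = n * q := by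
    intro q hq
    have h1 : n * q * n⁻¹ * q⁻¹ ∈ N := by
      have : n * q * n⁻¹ * q⁻¹ = n * (q * n⁻¹ * q⁻¹) := by group
      rw [this]
      exact N.mul_mem hn (hN.conj_mem _ (N.inv_mem hn) q)
    have h2 : n * q * n⁻¹ * q⁻¹ ∈ R := R.mul_mem (h.normal.conj_mem q hq n) (R.inv_mem hq)
    have h3 := hNR _ h1 h2
    calc q * n = (n * q * n⁻¹ * q⁻¹)⁻¹ * (n * q) := by group
      _ = n * q := by rw [h3]; group
  rcases h.cen n hcomm with e | e
  · exact e
  · exact (hz (e ▸ hn)).elim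

/-- The `GL(2,3)` case. -/
theorem BOSetup.gl23_of_invol (h : BOSetup X R z) {t : X} (ht2 : t ^ 2 = 1) (htR : t ∉ R) :
    Nonempty (X ≃* GL (Fin 2) (ZMod 3)) := by
  obtain ⟨x, hx, hinv⟩ := h.exists_inverted ht2 htR
  obtain ⟨i, j, hrel, hi, hj, hiz, hcl⟩ := h.rel48_of hx ht2 hinv
  refine gl23_iso hrel ?_ h.card ?_
  · obtain ⟨H, hH⟩ : ∃ H : Subgroup X, H = Subgroup.closure ({i, j, x, t} : Set X) := ⟨_, rfl⟩
    rw [← hH]
    have hRH : R ≤ H := by
      refine le_trans hcl ?_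
      rw [hH]
      apply Subgroup.closure_mono
      intro y hy
      rcases hy with rfl | rfl
      · simp
      · simp
    have htH : t ∈ H := by rw [hH]; exact Subgroup.subset_closure (by simp)
    have hxH : x ∈ H := by rw [hH]; exact Subgroup.subset_closure (by simp)
    have h16 : 16 ∣ Nat.card H := by
      rw [← (h.card_sup ht2 htR).2]
      apply Subgroup.card_dvd_of_le
      rw [sup_le_iff]
      exact ⟨hRH, by rw [Subgroup.zpowers_le]; exact htH⟩
    have h3 : 3 ∣ Nat.card H := by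
      have := orderOf_dvd_natCard (⟨x, hxH⟩ : H)
      rwa [Subgroup.orderOf_mk, hx] at this
    have h48 : 48 ∣ Nat.card H := by
      have : Nat.Coprime 16 3 := by decide
      exact this.mul_dvd_of_dvd_of_dvd h16 h3
    apply Subgroup.eq_top_of_card_eq
    have hle := Nat.le_of_dvd Nat.card_pos h48
    have hle2 := Subgroup.card_le_card_group H
    rw [h.card] at hle2 ⊢
    omega
  · intro N hN hne
    rw [hiz]
    exact h.z_mem_normal N hN hne

end Cfsg.Agent.Lib.Helper3.BO
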