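import Mathlib
import Cfsg.Agent.Lib.Helper3.BO8

set_option autoImplicit false
set_option maxHeartbeats 1000000
set_option linter.style.haveILetI false
set_option linter.unusedSectionVars false
set_option linter.unusedVariables false

/-! The centre and the central quotient. -/

universe u

namespace Cfsg.Agent.Lib.Helper3.BO

open QuaternionGroup Cfsg.Agent.Lib.Helper1.QS

variable {X : Type u} [Group X] [Finite X] {R : Subgroup X} {z : X}

theorem BOSetup.mem_zpowers_z (h : BOSetup X R z) {g : X} :
    g ∈ Subgroup.zpowers z ↔ g = 1 ∨ g = z := by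
  constructor
  · intro hg
    obtain ⟨k, rfl⟩ := Subgroup.mem_zpowers_iff.mp hg
    rcases Int.even_or_odd' k with ⟨l, rfl | rfl⟩
    · left
      rw [zpow_mul, zpow_ofNat, h.z2, one_zpow]
    · right
      rw [zpow_add, zpow_mul, zpow_ofNat, h.z2, one_zpow, one_mul, zpow_one]
  · rintro (rfl | rfl)
    · exact one_mem _
    · exact Subgroup.mem_zpowers _

theorem BOSetup.center_eq (h : BOSetup X R z) : Subgroup.center X = Subgroup.zpowers z := by
  ext g
  rw [h.mem_zpowers_z, Subgroup.mem_center_iff]
  constructor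
  · intro hg
    exact h.cen g (fun q _ => hg q)
  · rintro (rfl | rfl)
    · intro q; simp
    · intro q; exact h.zc q

theorem BOSetup.card_center (h : BOSetup X R z) : Nat.card (Subgroup.center X) = 2 := by
  rw [h.center_eq, Nat.card_zpowers, h.orderOf_z]

theorem BOSetup.card_sylow3_sub (h : BOSetup X R z) (P : Sylow 3 X) :
    Nat.card (P : Subgroup X) = 3 ∧ (P : Subgroup X).index = 16 := by
  haveI : Fact (Nat.Prime 3) := ⟨by norm_num⟩
  obtain ⟨k, hk⟩ := IsPGroup.iff_card.mp P.2
  have hidx := Subgroup.card_mul_index (P : Subgroup X)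
  have hnd := P.not_dvd_index
  rw [hk, h.card] at hidx
  rw [hk]
  have hk3 : k ≤ 3 := by
    by_contra hgt
    push Not at hgt
    have h1 : 3 ^ 4 ≤ 3 ^ k := Nat.pow_le_pow_right (by norm_num) hgt
    have h2 : 0 < (P : Subgroup X).index := Nat.pos_of_ne_zero (fun e => by rw [e] at hidx; omega)
    nlinarith
  interval_cases k
  · exfalso; apply hnd
    have : (P : Subgroup X).index = 48 := by omega
    rw [this]; decide
  · exact ⟨by norm_num, by omega⟩
  · omega
  · omega

theorem BOSetup.z_mem_normalizer (h : BOSetup X R z) (H : Set X) :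
    z ∈ Subgroup.normalizer H := by
  rw [Subgroup.mem_set_normalizer_iff]
  intro n
  have : z * n * z⁻¹ = n := by
    rw [← h.zc n]; group
  rw [this]

theorem BOSetup.card_sylow3 (h : BOSetup X R z) : Nat.card (Sylow 3 X) = 4 := by
  haveI : Fact (Nat.Prime 3) := ⟨by norm_num⟩
  obtain ⟨P⟩ : Nonempty (Sylow 3 X) := inferInstance
  obtain ⟨hP3, hP16⟩ := h.card_sylow3_sub P
  have h1 : Nat.card (Sylow 3 X) ∣ 16 := by rw [← hP16]; exact P.card_dvd_index
  have h2 : Nat.card (Sylow 3 X) ≡ 1 [MOD 3] := card_sylow_modEq_one 3 X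
  have h3 := P.card_eq_index_normalizer
  obtain ⟨n, hn⟩ : ∃ n : ℕ, n = Nat.card (Sylow 3 X) := ⟨_, rfl⟩
  rw [← hn] at h1 h2 h3 ⊢
  have hn16 : n ≤ 16 := Nat.le_of_dvd (by norm_num) h1
  have hmod : n % 3 = 1 := h2
  have hcases : n = 1 ∨ n = 4 ∨ n = 16 := by
    interval_cases n <;> first | omega | (exfalso; revert h1; decide)
  rcases hcases with e | e | e
  · exfalso
    rw [e] at hn
    have := (Nat.card_eq_one_iff_unique.mp hn.symm).1
    have hPn : (P : Subgroup X).Normal := Sylow.normal_of_subsingleton P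
    have := h.odd_core P hPn (by rw [hP3]; decide)
    rw [this] at hP3
    simp at hP3
  · exact e
  · exfalso
    rw [e] at h3
    have hN := Subgroup.card_mul_index (Subgroup.normalizer (P : Set X))
    rw [← h3, h.card] at hN
    have hN3 : Nat.card (Subgroup.normalizer (P : Set X)) = 3 := by omega
    have := orderOf_dvd_natCard (⟨z, h.z_mem_normalizer _⟩ :
      Subgroup.normalizer (P : Set X))
    rw [Subgroup.orderOf_mk, h.orderOf_z, hN3] at this
    revert this; decide

theorem BOSetup.quot_center (h : BOSetup X R z) :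
    Nonempty (X ⧸ Subgroup.center X ≃* Equiv.Perm (Fin 4)) := by
  classical
  haveI : Fact (Nat.Prime 3) := ⟨by norm_num⟩
  haveI : Fact (Nat.Prime 2) := ⟨Nat.prime_two⟩
  obtain ⟨ρ, hρ⟩ : ∃ ρ : X →* Equiv.Perm (Sylow 3 X), ρ = MulAction.toPermHom X (Sylow 3 X) :=
    ⟨_, rfl⟩
  have hρmem : ∀ g : X, g ∈ ρ.ker ↔ ∀ P : Sylow 3 X,
      g ∈ Subgroup.normalizer (P : Set X) := by
    intro g
    rw [MonoidHom.mem_ker, hρ]
    constructor
    · intro hg P
      rw [← Sylow.smul_eq_iff_mem_normalizer]
      have := congrArg (fun f : Equiv.Perm (Sylow 3 X) => f P) hg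
      simpa using this
    · intro hg
      ext P : 1
      have := Sylow.smul_eq_iff_mem_normalizer.mpr (hg P)
      simpa using this
  have hn4 := h.card_sylow3
  have hker : ρ.ker = Subgroup.center X := by
    apply le_antisymm
    · -- kernel is contained in the centre
      have h3 : ¬ 3 ∣ Nat.card ρ.ker := by
        intro hdvd
        obtain ⟨y, hy⟩ := exists_prime_orderOf_dvd_card' 3 hdvd
        have hyo : orderOf (y : X) = 3 := by rw [Subgroup.orderOf_coe]; exact hy
        have hyP : IsPGroup 3 (Subgroup.zpowers (y : X)) :=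
          IsPGroup.of_card (n := 1) (by rw [Nat.card_zpowers, hyo]; norm_num)
        have hall : ∀ P : Sylow 3 X, (P : Subgroup X) = Subgroup.zpowers (y : X) := by
          intro P
          have hle : Subgroup.zpowers (y : X) ≤ Subgroup.normalizer (P : Set X) := by
            rw [Subgroup.zpowers_le]
            exact (hρmem y).mp y.2 P
          have h1 := hyP.inf_normalizer_sylow P
          rw [inf_eq_left.mpr hle] at h1
          have hle2 : Subgroup.zpowers (y : X) ≤ (P : Subgroup X) := by
            rw [h1]; exact inf_le_right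
          symm
          apply Subgroup.eq_of_le_of_card_ge hle2
          rw [(h.card_sylow3_sub P).1, Nat.card_zpowers, hyo]
        have : Subsingleton (Sylow 3 X) := by
          constructor
          intro P Q
          exact Sylow.ext ((hall P).trans (hall Q).symm)
        have hone : Nat.card (Sylow 3 X) ≤ 1 := Finite.card_le_one_iff_subsingleton.mpr this
        omega
      have h48 : Nat.card ρ.ker ∣ 48 := by
        rw [← h.card]; exact Subgroup.card_subgroup_dvd_card _
      have h16 : Nat.card ρ.ker ∣ 2 ^ 4 := by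
        have hcop : (Nat.card ρ.ker).Coprime 3 := by
          rw [Nat.coprime_comm]
          exact (Nat.Prime.coprime_iff_not_dvd (by norm_num)).mpr h3
        have : (48 : ℕ) = 2 ^ 4 * 3 := by norm_num
        rw [this] at h48
        exact hcop.dvd_of_dvd_mul_right h48
      obtain ⟨j, -, hj⟩ := (Nat.dvd_prime_pow Nat.prime_two).mp h16
      have hK2 : IsPGroup 2 ρ.ker := IsPGroup.of_card hj
      have hKR : ρ.ker ≤ R := h.max _ inferInstance hK2
      obtain ⟨P⟩ : Nonempty (Sylow 3 X) := inferInstance
      obtain ⟨hP3, -⟩ := h.card_sylow3_sub P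
      obtain ⟨x₀, hx₀⟩ := exists_prime_orderOf_dvd_card' (G := (P : Subgroup X)) 3
        (by rw [hP3])
      obtain ⟨x, hx⟩ : ∃ x : X, x = (x₀ : X) := ⟨_, rfl⟩
      have hxP : x ∈ (P : Subgroup X) := by rw [hx]; exact x₀.2
      have hxo : orderOf x = 3 := by rw [hx, Subgroup.orderOf_coe]; exact hx₀
      intro g hg
      have hgR : g ∈ R := hKR hg
      have hgN := (hρmem g).mp hg P
      have hgx : g * x * g⁻¹ ∈ (P : Subgroup X) := (Subgroup.mem_normalizer_iff.mp hgN x).mp hxP
      obtain ⟨w, hw⟩ : ∃ w : X, w = g * x * g⁻¹ * x⁻¹ := ⟨_, rfl⟩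
      have hwP : w ∈ (P : Subgroup X) := by
        rw [hw]; exact Subgroup.mul_mem _ hgx (Subgroup.inv_mem _ hxP)
      have hwR : w ∈ R := by
        have : w = g * (x * g⁻¹ * x⁻¹) := by rw [hw]; group
        rw [this]
        exact R.mul_mem hgR (h.normal.conj_mem _ (R.inv_mem hgR) x)
      have hw3 : w ^ 3 = 1 := by
        have := pow_card_eq_one' (G := (P : Subgroup X)) (x := ⟨w, hwP⟩)
        rw [hP3] at this
        have := congrArg Subtype.val this
        simpa using this
      have hw4 : w ^ 4 = 1 := h.four w hwR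
      have hw1 : w = 1 := by
        calc w = w ^ 4 * (w ^ 3)⁻¹ := by group
          _ = 1 := by rw [hw4, hw3]; group
      have hcomm : x * g * x⁻¹ = g := by
        have : g * x * g⁻¹ * x⁻¹ = 1 := by rw [← hw]; exact hw1
        calc x * g * x⁻¹ = (g * x * g⁻¹ * x⁻¹)⁻¹ * g := by group
          _ = g := by rw [this]; group
      rcases h.cent_order3 hxo hgR hcomm with e | e
      · rw [e]; exact one_mem _
      · rw [e, h.center_eq]; exact Subgroup.mem_zpowers z
    · -- the centre acts trivially
      intro g hg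
      rw [h.center_eq, h.mem_zpowers_z] at hg
      rw [hρmem]
      intro P
      rcases hg with rfl | rfl
      · exact one_mem _
      · exact h.z_mem_normalizer _
  have hsurj : Function.Surjective ρ := by
    rw [← MonoidHom.range_eq_top]
    apply Subgroup.eq_top_of_card_eq
    have h1 := Subgroup.card_mul_index ρ.ker
    rw [Subgroup.index_ker, hker, h.card_center, h.card] at h1
    rw [Nat.card_perm, hn4]
    have : Nat.factorial 4 = 24 := by decide
    omega
  have e1 : X ⧸ Subgroup.center X ≃* X ⧸ ρ.ker := QuotientGroup.quotientMulEquivOfEq hker.symm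
  have e2 : X ⧸ ρ.ker ≃* Equiv.Perm (Sylow 3 X) :=
    QuotientGroup.quotientKerEquivOfSurjective ρ hsurj
  have e3 : Equiv.Perm (Sylow 3 X) ≃* Equiv.Perm (Fin 4) :=
    (Finite.equivFinOfCardEq hn4).permCongrHom
  exact ⟨(e1.trans e2).trans e3⟩

end Cfsg.Agent.Lib.Helper3.BO
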