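import Mathlib
import Cfsg.Agent.Lib.Helper3.BO11
import Cfsg.Agent.Lib.Helper3.BO12

set_option autoImplicit false
set_option maxHeartbeats 1000000
set_option linter.style.haveILetI false
set_option linter.unusedSectionVars false
set_option linter.unusedVariables false

/-! The binary octahedral case and the assembly. -/

universe u

namespace Cfsg.Agent.Lib.Helper3.BO

open QuaternionGroup Cfsg.Agent.Lib.Helper1.QS Cfsg.Agent.Lib.Lead.UniqueP

variable {X : Type u} [Group X] [Finite X] {R : Subgroup X} {z : X}

theorem BOSetup.sylow_quat (h : BOSetup X R z) (huniq : ∀ t : X, t ^ 2 = 1 → t ∈ R)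
    (P : Sylow 2 X) : Nonempty (↥(P : Subgroup X) ≃* QuaternionGroup 4) := by
  haveI : Fact (Nat.Prime 2) := ⟨Nat.prime_two⟩
  haveI := h.normal
  have hRP : R ≤ (P : Subgroup X) := h.isPGroup.le_sylow_of_normal P
  -- order 16
  have hP16 : Nat.card (P : Subgroup X) = 16 := by
    obtain ⟨k, hk⟩ := IsPGroup.iff_card.mp P.2
    have hidx := Subgroup.card_mul_index (P : Subgroup X)
    have hnd := P.not_dvd_index
    rw [hk, h.card] at hidx
    rw [hk]
    have hk5 : k ≤ 5 := by
      by_contra hgt
      push Not at hgt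
      have h1 : 2 ^ 6 ≤ 2 ^ k := Nat.pow_le_pow_right (by norm_num) hgt
      have h2 : 0 < (P : Subgroup X).index :=
        Nat.pos_of_ne_zero (fun e => by rw [e] at hidx; omega)
      nlinarith
    interval_cases k
    · exfalso; apply hnd
      have : (P : Subgroup X).index = 48 := by omega
      rw [this]; decide
    · exfalso; apply hnd
      have : (P : Subgroup X).index = 24 := by omega
      rw [this]; decide
    · exfalso; apply hnd
      have : (P : Subgroup X).index = 12 := by omega
      rw [this]; decide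
    · exfalso; apply hnd
      have : (P : Subgroup X).index = 6 := by omega
      rw [this]; decide
    · norm_num
    · omega
  -- unique involution
  have hinvP : ∀ w : (P : Subgroup X), w ^ 2 = 1 → w = 1 ∨ (w : X) = z := by
    intro w hw
    have hw' : (w : X) ^ 2 = 1 := by rw [← Subgroup.coe_pow, hw]; rfl
    rcases h.inv _ (huniq _ hw') hw' with e | e
    · left; exact Subtype.ext e
    · right; exact e
  have hU : UOP 2 (P : Subgroup X) := by
    intro x y hx hy hx1
    rcases hinvP x hx with e | e
    · exact (hx1 e).elim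
    · rcases hinvP y hy with e' | e'
      · rw [e']; exact one_mem _
      · have : y = x := Subtype.ext (by rw [e, e'])
        rw [this]; exact Subgroup.mem_zpowers x
  -- not abelian
  have hnab : ¬ ∀ u v : (P : Subgroup X), u * v = v * u := by
    intro hab
    have hle : (P : Subgroup X) ≤ Subgroup.zpowers z := by
      intro g hg
      rw [h.mem_zpowers_z]
      apply h.cen
      intro q hq
      have := hab ⟨q, hRP hq⟩ ⟨g, hg⟩
      exact congrArg Subtype.val this
    have := Subgroup.card_le_of_le hle
    rw [hP16, Nat.card_zpowers, h.orderOf_z] at this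
    omega
  rcases cyclic_or_quaternion 2 P.2 hU with hc | ⟨-, n, ⟨φ⟩⟩
  · exfalso
    apply hnab
    intro u v
    exact comm_of_isCyclic u v
  · have hcard : Nat.card (P : Subgroup X) = 4 * 2 ^ n := by
      haveI : NeZero (2 ^ n) := ⟨by positivity⟩
      rw [Nat.card_congr φ.toEquiv, Nat.card_eq_fintype_card, QuaternionGroup.card]
    rw [hP16] at hcard
    have hn : n = 2 := by
      have h4 : 2 ^ n = 2 ^ 2 := by omega
      exact Nat.pow_right_injective (le_refl 2) h4
    subst hn
    exact ⟨φ⟩

/-- The structure theorem for groups with trivial odd core. -/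
theorem main_structure [Group.IsSolvable X] (hO : Cfsg.pPrimeCore 2 X = ⊥) (hK : NoKlein X) :
    (∃ P : Sylow 2 X, (P : Subgroup X).Normal) ∨
    Nonempty (X ≃* GL (Fin 2) (ZMod 3)) ∨
    (Nat.card X = 48 ∧ Nat.card ↥(Subgroup.center X) = 2 ∧
      Nonempty (X ⧸ Subgroup.center X ≃* Equiv.Perm (Fin 4)) ∧
      ∀ P : Sylow 2 X, Nonempty (↥(P : Subgroup X) ≃* QuaternionGroup 4)) := by
  by_cases hnot : ∃ P : Sylow 2 X, (P : Subgroup X).Normal
  · exact Or.inl hnot
  right
  obtain ⟨z, h, -⟩ := setup_of hO hK hnot
  by_cases hex : ∃ t : X, t ^ 2 = 1 ∧ t ∉ Cfsg.pCore 2 X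
  · obtain ⟨t, ht2, htR⟩ := hex
    exact Or.inl (h.gl23_of_invol ht2 htR)
  · push Not at hex
    exact Or.inr ⟨h.card, h.card_center, h.quot_center, fun P => h.sylow_quat hex P⟩

end Cfsg.Agent.Lib.Helper3.BO
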