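import Mathlib

set_option autoImplicit false
set_option linter.unusedSectionVars false

namespace Cfsg.Agent.Lib.Helper3.BS

section pow
variable {G : Type*} [Group G] [Finite G]

theorem exists_exponent {m n : ℕ} (hcop : Nat.Coprime m n) :
    ∃ e : ℕ, n ∣ e ∧ e ≡ 1 [MOD m] := by
  refine ⟨(Nat.chineseRemainder hcop 1 0 : ℕ), ?_, ?_⟩
  · exact (Nat.modEq_zero_iff_dvd).1 (Nat.chineseRemainder hcop 1 0).2.2
  · exact (Nat.chineseRemainder hcop 1 0).2.1

variable {m n e : ℕ} (hmn : Nat.card G = m * n) (hne : n ∣ e) (hem : e ≡ 1 [MOD m])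
include hmn hne hem

theorem pow_pow_eq_one (x : G) : (x ^ e) ^ m = 1 := by
  obtain ⟨j, rfl⟩ := hne
  rw [← pow_mul, mul_comm n j, mul_assoc, mul_comm n m, ← hmn, mul_comm, pow_mul, pow_card_eq_one']
  exact one_pow _

omit hmn hne in
theorem pow_eq_self_of_pow_eq_one {y : G} (hy : y ^ m = 1) : y ^ e = y := by
  conv_rhs => rw [← pow_one y]
  apply pow_eq_pow_iff_modEq.2
  exact hem.of_dvd (orderOf_dvd_of_pow_eq_one hy)

omit hmn hem in
theorem pow_eq_one_of_pow_eq_one {z : G} (hz : z ^ n = 1) : z ^ e = 1 := by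
  obtain ⟨j, rfl⟩ := hne
  rw [pow_mul, hz, one_pow]

theorem pow_n_eq (x : G) : (x ^ e) ^ n = x ^ n := by
  rw [← pow_mul]
  apply pow_eq_pow_iff_modEq.2
  have h1 : n * e ≡ n * 1 [MOD n * m] := Nat.ModEq.mul_left' n hem
  rw [mul_one, mul_comm n e, mul_comm n m, ← hmn] at h1
  exact h1.of_dvd (orderOf_dvd_natCard x)

/-- the fibre of the `π`-part map over a `π`-element `y` is in bijection with the `π'`-elements
of the centralizer of `y` -/
theorem card_fiber [Fintype G] [DecidableEq G] {y : G} (hy : y ^ m = 1) :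
    (Finset.univ.filter (fun x : G => x ^ e = y)).card =
      (Finset.univ.filter (fun z : G => z ^ n = 1 ∧ z * y = y * z)).card := by
  apply Finset.card_bij (fun x _ => y⁻¹ * x)
  · intro x hx
    rw [Finset.mem_filter] at hx ⊢
    obtain ⟨_, hx⟩ := hx
    have hcomm : Commute y x := by
      rw [← hx]
      exact (Commute.refl x).pow_left e
    refine ⟨Finset.mem_univ _, ?_, ?_⟩
    · rw [(hcomm.inv_left).mul_pow, inv_pow, ← hx, pow_n_eq hmn hne hem x, inv_mul_cancel]
    · have := hcomm.eq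
      calc y⁻¹ * x * y = y⁻¹ * (x * y) := by group
        _ = y⁻¹ * (y * x) := by rw [this]
        _ = y * (y⁻¹ * x) := by group
  · intro x _ x' _ h
    exact mul_left_cancel h
  · intro z hz
    rw [Finset.mem_filter] at hz
    obtain ⟨_, hz1, hzy⟩ := hz
    refine ⟨y * z, ?_, by group⟩
    rw [Finset.mem_filter]
    refine ⟨Finset.mem_univ _, ?_⟩
    have hcomm : Commute y z := hzy.symm
    rw [hcomm.mul_pow, pow_eq_self_of_pow_eq_one hem hy, pow_eq_one_of_pow_eq_one hne hz1, mul_one]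

end pow

end Cfsg.Agent.Lib.Helper3.BS
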