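import Mathlib
import Cfsg.Prelude.Def_Characters
import Cfsg.Agent.Lib.Helper6.ElemProps

set_option autoImplicit false
set_option linter.unusedSectionVars false

namespace Cfsg.Agent.Lib.Helper3.BS
open Cfsg Cfsg.Agent.Lib.Helper6

section elem

/-- homomorphic images of elementary groups are elementary -/
theorem IsElementary.of_surjective {p : ℕ} (hp : p.Prime) {E F : Type*} [Group E] [Group F]
    (f : E →* F) (hf : Function.Surjective f) (h : IsElementary p E) : IsElementary p F := by
  obtain ⟨x, hxc, hxo, k, hk⟩ := h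
  refine ⟨f x, ?_, ?_, ?_⟩
  · rw [Subgroup.mem_center_iff]
    intro y
    obtain ⟨y', rfl⟩ := hf y
    rw [← map_mul, ← map_mul, Subgroup.mem_center_iff.1 hxc y']
  · exact Nat.Coprime.coprime_dvd_left (orderOf_map_dvd f x) hxo
  · have h1 : Subgroup.zpowers (f x) = (Subgroup.zpowers x).map f := by
      rw [MonoidHom.map_zpowers]
    have h2 : (Subgroup.zpowers (f x)).index ∣ p ^ k := by
      rw [h1, ← hk]
      exact Subgroup.index_map_dvd _ hf
    obtain ⟨j, _, hj⟩ := (Nat.dvd_prime_pow hp).1 h2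
    exact ⟨j, hj⟩

/-- the product of a `p`-group and a cyclic group is elementary -/
theorem isElementary_prod {p : ℕ} (hp : p.Prime) {Q C : Type*} [Group Q] [Group C] [Finite Q]
    [Finite C] (hQ : IsPGroup p Q) (hC : IsCyclic C) : IsElementary p (Q × C) := by
  obtain ⟨x, hxc, hxo, k, hk⟩ := isElementary_of_isCyclic hp hC
  have : Fact p.Prime := ⟨hp⟩
  obtain ⟨a, ha⟩ := IsPGroup.iff_card.1 hQ
  refine ⟨((1 : Q), x), ?_, ?_, a + k, ?_⟩
  · rw [Subgroup.mem_center_iff]
    rintro ⟨q, c⟩
    rw [Prod.mk_mul_mk, Prod.mk_mul_mk, mul_one, one_mul, Subgroup.mem_center_iff.1 hxc c]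
  · have : orderOf ((1 : Q), x) = orderOf x := by
      rw [Prod.orderOf_mk, orderOf_one, Nat.lcm_one_left]
    rw [this]; exact hxo
  · have h1 : Nat.card (Subgroup.zpowers ((1 : Q), x)) * (Subgroup.zpowers ((1 : Q), x)).index =
        Nat.card (Q × C) := Subgroup.card_mul_index _
    have h2 : Nat.card (Subgroup.zpowers x) * (Subgroup.zpowers x).index = Nat.card C :=
      Subgroup.card_mul_index _
    have h3 : Nat.card (Subgroup.zpowers ((1 : Q), x)) = Nat.card (Subgroup.zpowers x) := by
      rw [Nat.card_zpowers, Nat.card_zpowers, Prod.orderOf_mk, orderOf_one, Nat.lcm_one_left]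
    rw [Nat.card_prod, ha, ← h2, hk, h3] at h1
    have h0 : 0 < Nat.card (Subgroup.zpowers x) := Nat.card_pos
    have h4 : Nat.card (Subgroup.zpowers x) * (Subgroup.zpowers ((1 : Q), x)).index =
        Nat.card (Subgroup.zpowers x) * (p ^ a * p ^ k) := by
      rw [h1]; ring
    rw [pow_add]
    exact Nat.eq_of_mul_eq_mul_left h0 h4

end elem

end Cfsg.Agent.Lib.Helper3.BS
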