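import Mathlib
import Cfsg.Agent.Lib.Helper3.BS1
import Cfsg.Agent.Lib.Helper3.BS2
import Cfsg.Agent.Lib.Helper3.PiSec2
import Cfsg.Agent.Lib.Helper6.BrauerGlobal
import Cfsg.Agent.Lib.Helper6.GenCharOps
import Cfsg.Agent.Lib.Helper6.Mult

set_option autoImplicit false
set_option linter.unusedSectionVars false
set_option linter.style.haveILetI false

namespace Cfsg.Agent.Lib.Helper3.BS
open Cfsg Cfsg.Agent.Lib.Helper6 Cfsg.Agent.Lib.Helper3.PiSec

section hat
variable {G : Type*} [Group G] [Fintype G] (H : Subgroup G)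

/-- the hat map: `ψ̂(x) = ψ(c x)` where `c x ∈ H` is conjugate to the `π`-part of `x` -/
def hat (c : G → H) (ψ : H → ℂ) : G → ℂ := fun x => ψ (c x)

variable {H} {e : ℕ} {c : G → H}
  (hc : ∀ x : G, IsConj ((c x : H) : G) (x ^ e))
  (hfus : ∀ x ∈ H, ∀ y ∈ H, IsConj x y → ∃ h ∈ H, h * x * h⁻¹ = y)
include hc hfus

theorem hat_eq {ψ : H → ℂ} (hψ : IsClassFunction H ψ) (x : G) (h : H)
    (hh : IsConj (h : G) (x ^ e)) : ψ h = hat H c ψ x := by
  unfold hat
  have h1 : IsConj ((c x : H) : G) (h : G) := (hc x).trans hh.symm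
  obtain ⟨u, hu, hux⟩ := hfus _ (c x).2 _ h.2 h1
  have h2 : h = (⟨u, hu⟩ : H) * c x * (⟨u, hu⟩ : H)⁻¹ := Subtype.ext hux.symm
  rw [h2, hψ]

theorem hat_isClassFunction {ψ : H → ℂ} (hψ : IsClassFunction H ψ) :
    IsClassFunction G (hat H c ψ) := by
  intro g k
  symm
  apply hat_eq hc hfus hψ
  have h1 : (k * g * k⁻¹) ^ e = k * g ^ e * k⁻¹ := conj_pow
  rw [h1]
  exact (hc g).trans (isConj_iff.2 ⟨k, rfl⟩)

variable {m n : ℕ} (hmn : Nat.card G = m * n) (hcop : Nat.Coprime m n) (hne : n ∣ e)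
  (hem : e ≡ 1 [MOD m]) (hHm : Nat.card H = m)

include hem hHm in
theorem hat_restrict {ψ : H → ℂ} (hψ : IsClassFunction H ψ) (h : H) :
    hat H c ψ (h : G) = ψ h := by
  symm
  apply hat_eq hc hfus hψ
  have h1 : (h : G) ^ m = 1 := by
    have : h ^ m = 1 := by rw [← hHm]; exact pow_card_eq_one'
    have := congrArg Subtype.val this
    simpa using this
  rw [pow_eq_self_of_pow_eq_one hem h1]

include hne in
theorem hat_of_pow_eq_one {ψ : H → ℂ} (hψ : IsClassFunction H ψ) {x : G} (hx : x ^ n = 1) :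
    hat H c ψ x = ψ 1 := by
  symm
  apply hat_eq hc hfus hψ
  rw [pow_eq_one_of_pow_eq_one hne hx]
  exact IsConj.refl _

include hmn hcop hne hem hHm in
theorem hat_isGeneralizedCharacter
    (helem : ∀ (E : Subgroup G) (p : ℕ), p.Prime → IsElementary p E → Nat.card E ∣ Nat.card H →
      ∃ g : G, E.map (MulAut.conj g).toMonoidHom ≤ H)
    {ψ : H → ℂ} (hψ : IsCharacter H ψ) : IsGeneralizedCharacter G (hat H c ψ) := by
  classical
  have hψcl := IsCharacter.isClassFunction hψ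
  apply isGeneralizedCharacter_of_restrict (hat_isClassFunction hc hfus hψcl)
  rintro E ⟨p, hp, hE⟩
  apply IsCharacter.isGeneralizedCharacter
  have : Fintype E := Fintype.ofFinite _
  have hcardE : Nat.card E ∣ n * m := by
    rw [mul_comm, ← hmn]; exact Subgroup.card_subgroup_dvd_card E
  have hpow : ∀ y y' : E, (y * y') ^ e = y ^ e * y' ^ e :=
    pow_mul_of_isElementary p hp hE n m e hcardE hcop.symm hne hem
  let πE : E →* E := ⟨⟨fun y => y ^ e, one_pow e⟩, hpow⟩
  let E' : Subgroup G := (πE.range).map E.subtype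
  -- E' is elementary
  let f : E →* E' := ⟨⟨fun y => ⟨((y ^ e : E) : G), ⟨y ^ e, ⟨y, rfl⟩, rfl⟩⟩, by
      apply Subtype.ext; simp⟩, by
      intro y y'
      apply Subtype.ext
      simp only [hpow, Subgroup.coe_mul]⟩
  have hfsurj : Function.Surjective f := by
    rintro ⟨z, w, ⟨y, rfl⟩, rfl⟩
    exact ⟨y, rfl⟩
  have hE' : IsElementary p E' := IsElementary.of_surjective hp f hfsurj hE
  -- its order divides |H|
  have hE'm : ∀ z ∈ E', z ^ m = 1 := by
    rintro z ⟨w, ⟨y, rfl⟩, rfl⟩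
    change (((y ^ e : E) : G)) ^ m = 1
    rw [SubgroupClass.coe_pow]
    exact pow_pow_eq_one hmn hne hem _
  have hcardE' : Nat.card E' ∣ Nat.card H := by
    rw [hHm]
    have h1 : Nat.card E' ∣ m * n := by rw [← hmn]; exact Subgroup.card_subgroup_dvd_card E'
    apply Nat.Coprime.dvd_of_dvd_mul_right _ h1
    apply Nat.coprime_of_dvd
    intro q hq hqE hqn
    haveI : Fact q.Prime := ⟨hq⟩
    obtain ⟨z, hz⟩ := exists_prime_orderOf_dvd_card' q hqE
    have h2 : (z : G) ^ m = 1 := hE'm z z.2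
    have h3 : z ^ m = 1 := Subtype.ext (by simpa using h2)
    have h4 : q ∣ m := by rw [← hz]; exact orderOf_dvd_of_pow_eq_one h3
    exact (Nat.Prime.one_lt hq).ne' (Nat.eq_one_of_dvd_coprimes hcop h4 hqn)
  obtain ⟨g, hg⟩ := helem E' p hp hE' hcardE'
  -- the homomorphism into H
  have hmem : ∀ y : E, g * ((y ^ e : E) : G) * g⁻¹ ∈ H := by
    intro y
    apply hg
    exact ⟨((y ^ e : E) : G), ⟨y ^ e, ⟨y, rfl⟩, rfl⟩, by simp [MulAut.conj_apply]⟩
  let φ : E →* H := ⟨⟨fun y => ⟨g * ((y ^ e : E) : G) * g⁻¹, hmem y⟩, by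
      apply Subtype.ext; simp⟩, by
      intro y y'
      apply Subtype.ext
      simp only [hpow, Subgroup.coe_mul]
      group⟩
  have heq : (fun x : E => hat H c ψ x) = fun x => ψ (φ x) := by
    funext x
    symm
    apply hat_eq hc hfus hψcl
    change IsConj (g * ((x ^ e : E) : G) * g⁻¹) ((x : G) ^ e)
    rw [SubgroupClass.coe_pow]
    exact (isConj_iff.2 ⟨g, rfl⟩).symm
  rw [heq]
  exact IsCharacter.comp φ hψ

end hat

end Cfsg.Agent.Lib.Helper3.BS
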