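import Mathlib
import Cfsg.Agent.Lib.Helper3.BS3
import Cfsg.Agent.Lib.Helper2.FrobeniusDiv

set_option autoImplicit false
set_option linter.unusedSectionVars false
set_option linter.style.haveILetI false

namespace Cfsg.Agent.Lib.Helper3.BS
open Cfsg Cfsg.Agent.Lib.Helper6

section cent
variable {G : Type*} [Group G] [Fintype G] {H : Subgroup G} {m n : ℕ}
  (hmn : Nat.card G = m * n) (hcop : Nat.Coprime m n) (hHm : Nat.card H = m)
  (hfus : ∀ x ∈ H, ∀ y ∈ H, IsConj x y → ∃ h ∈ H, h * x * h⁻¹ = y)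
  (helem : ∀ (E : Subgroup G) (p : ℕ), p.Prime → IsElementary p E → Nat.card E ∣ Nat.card H →
      ∃ g : G, E.map (MulAut.conj g).toMonoidHom ≤ H)
include hmn hcop hHm hfus helem

/-- Isaacs 8.21: a `p`-subgroup of `C_G(h)` (`p ∣ |H|`) is `C_G(h)`-conjugate into `H` -/
theorem exists_conj_le {h : G} (hh : h ∈ H) {p : ℕ} (hp : p.Prime) (hpm : p ∣ m)
    (Q : Subgroup G) (hQ : IsPGroup p Q) (hQC : Q ≤ Subgroup.centralizer ({h} : Set G)) :
    ∃ g ∈ Subgroup.centralizer ({h} : Set G), ∀ q ∈ Q, g * q * g⁻¹ ∈ H := by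
  classical
  haveI : Fact p.Prime := ⟨hp⟩
  have hcommh : ∀ q ∈ Q, Commute q h := by
    intro q hq
    have := Subgroup.mem_centralizer_iff.1 (hQC hq) h (Set.mem_singleton h)
    exact this.symm
  have hcomm : ∀ (q : Q) (c : Subgroup.zpowers h),
      Commute (Q.subtype q) ((Subgroup.zpowers h).subtype c) := by
    intro q c
    obtain ⟨i, hi⟩ := Subgroup.mem_zpowers_iff.1 c.2
    change Commute (q : G) (c : G)
    rw [← hi]
    exact (hcommh q q.2).zpow_right i
  let f : Q × Subgroup.zpowers h →* G :=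
    MonoidHom.noncommCoprod Q.subtype (Subgroup.zpowers h).subtype hcomm
  let E : Subgroup G := f.range
  have hE : IsElementary p E :=
    IsElementary.of_surjective hp f.rangeRestrict f.rangeRestrict_surjective
      (isElementary_prod hp hQ (Subgroup.isCyclic_zpowers h))
  have hhm : h ^ m = 1 := by
    have : (⟨h, hh⟩ : H) ^ m = 1 := by rw [← hHm]; exact pow_card_eq_one'
    have := congrArg Subtype.val this
    simpa using this
  have hcardE : Nat.card E ∣ Nat.card H := by
    rw [hHm]
    have h1 : Nat.card E ∣ m * n := by rw [← hmn]; exact Subgroup.card_subgroup_dvd_card E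
    apply Nat.Coprime.dvd_of_dvd_mul_right _ h1
    have h2 : Nat.card E ∣ Nat.card (Q × Subgroup.zpowers h) := Subgroup.card_range_dvd f
    obtain ⟨a, ha⟩ := IsPGroup.iff_card.1 hQ
    rw [Nat.card_prod, ha, Nat.card_zpowers] at h2
    apply Nat.Coprime.coprime_dvd_left h2
    apply Nat.Coprime.mul_left
    · apply Nat.Coprime.pow_left
      exact Nat.Coprime.coprime_dvd_left hpm hcop
    · exact Nat.Coprime.coprime_dvd_left (orderOf_dvd_of_pow_eq_one hhm) hcop
  obtain ⟨g₀, hg₀⟩ := helem E p hp hE hcardE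
  have hhE : h ∈ E := ⟨((1 : Q), ⟨h, Subgroup.mem_zpowers h⟩), by
    simp [f, MonoidHom.noncommCoprod_apply]⟩
  have hQE : ∀ q ∈ Q, q ∈ E := fun q hq => ⟨(⟨q, hq⟩, (1 : Subgroup.zpowers h)), by
    simp [f, MonoidHom.noncommCoprod_apply]⟩
  have hmemH : ∀ y ∈ E, g₀ * y * g₀⁻¹ ∈ H := by
    intro y hy
    apply hg₀
    exact ⟨y, hy, by simp [MulAut.conj_apply]⟩
  obtain ⟨u, hu, huh⟩ := hfus h hh _ (hmemH h hhE) (isConj_iff.2 ⟨g₀, rfl⟩)
  refine ⟨u⁻¹ * g₀, ?_, ?_⟩
  · rw [Subgroup.mem_centralizer_iff]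
    intro t ht
    rw [Set.mem_singleton_iff] at ht
    subst ht
    have : t = u⁻¹ * (g₀ * t * g₀⁻¹) * u := by rw [← huh]; group
    calc t * (u⁻¹ * g₀) = (u⁻¹ * (g₀ * t * g₀⁻¹) * u) * (u⁻¹ * g₀) := by rw [← this]
      _ = u⁻¹ * g₀ * t := by group
  · intro q hq
    have h1 : u⁻¹ * g₀ * q * (u⁻¹ * g₀)⁻¹ = u⁻¹ * (g₀ * q * g₀⁻¹) * u := by group
    rw [h1]
    exact H.mul_mem (H.mul_mem (H.inv_mem hu) (hmemH q (hQE q hq))) hu

/-- consequence of 8.21 and Frobenius' theorem: `|C_G(h)| ≤ t(h) |C_H(h)|` where `t(h)` is the number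
of `π'`-elements of `C_G(h)` -/
theorem card_centralizer_le [DecidableEq G] {h : G} (hh : h ∈ H) :
    Nat.card (Subgroup.centralizer ({h} : Set G)) ≤
      (Finset.univ.filter (fun z : G => z ^ n = 1 ∧ z * h = h * z)).card *
        Nat.card (Subgroup.centralizer ({h} : Set G) ⊓ H : Subgroup G) := by
  classical
  set C := Subgroup.centralizer ({h} : Set G) with hC
  set CH : Subgroup G := C ⊓ H with hCH
  have hdvd : Nat.card CH ∣ Nat.card C := Subgroup.card_dvd_of_le inf_le_left
  obtain ⟨q, hq⟩ := hdvd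
  have hCpos : 0 < Nat.card C := Nat.card_pos
  have hCHpos : 0 < Nat.card CH := Nat.card_pos
  have hqpos : 0 < q := by
    rcases Nat.eq_zero_or_pos q with h0 | h0
    · rw [h0, mul_zero] at hq; omega
    · exact h0
  -- q is coprime to m
  have hqm : Nat.Coprime q m := by
    apply Nat.coprime_of_dvd
    intro p hp hpq hpm
    haveI : Fact p.Prime := ⟨hp⟩
    obtain Q₀ : Sylow p C := default
    set Q : Subgroup G := (Q₀ : Subgroup C).map C.subtype with hQdef
    have hQp : IsPGroup p Q := Q₀.2.map C.subtype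
    have hQC : Q ≤ C := Subgroup.map_subtype_le _
    have hQcard : Nat.card Q = p ^ (Nat.card C).factorization p := by
      rw [hQdef, Subgroup.card_subtype, Sylow.card_eq_multiplicity]
    obtain ⟨g, hgC, hg⟩ := exists_conj_le hmn hcop hHm hfus helem hh hp hpm Q hQp hQC
    -- conjugate of Q inside CH
    have hQ' : Q.map (MulAut.conj g).toMonoidHom ≤ CH := by
      rintro _ ⟨x, hx, rfl⟩
      refine Subgroup.mem_inf.2 ⟨?_, ?_⟩
      · simp only [MulEquiv.toMonoidHom_eq_coe, MonoidHom.coe_coe, MulAut.conj_apply]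
        exact C.mul_mem (C.mul_mem hgC (hQC hx)) (C.inv_mem hgC)
      · simp only [MulEquiv.toMonoidHom_eq_coe, MonoidHom.coe_coe, MulAut.conj_apply]
        exact hg x hx
    have hcard' : Nat.card (Q.map (MulAut.conj g).toMonoidHom) = Nat.card Q :=
      Subgroup.card_map_of_injective (MulAut.conj g).injective
    have h1 : p ^ (Nat.card C).factorization p ∣ Nat.card CH := by
      rw [← hQcard, ← hcard']
      exact Subgroup.card_dvd_of_le hQ'
    -- valuations
    have h2 : (Nat.card C).factorization p =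
        (Nat.card CH).factorization p + q.factorization p := by
      rw [hq, Nat.factorization_mul hCHpos.ne' hqpos.ne']
      rfl
    have h3 : (Nat.card C).factorization p ≤ (Nat.card CH).factorization p :=
      (hp.pow_dvd_iff_le_factorization hCHpos.ne').1 h1
    have h4 : q.factorization p = 0 := by omega
    have h5 : 1 ≤ q.factorization p :=
      (hp.pow_dvd_iff_le_factorization hqpos.ne').1 (by simpa using hpq)
    omega
  -- q divides n
  have hqn : q ∣ n := by
    have h1 : q ∣ m * n := by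
      rw [← hmn]
      exact (Dvd.intro_left _ hq.symm).trans (Subgroup.card_subgroup_dvd_card C)
    exact Nat.Coprime.dvd_of_dvd_mul_left hqm h1
  -- Frobenius
  have hfrob := Cfsg.Agent.Lib.Helper2.frobenius_dvd C q (Dvd.intro_left _ hq.symm)
  have hpos : 0 < Nat.card {z : C // z ^ q = 1} := by
    haveI : Nonempty {z : C // z ^ q = 1} := ⟨⟨1, one_pow q⟩⟩
    exact Nat.card_pos
  have hle : q ≤ Nat.card {z : C // z ^ q = 1} := Nat.le_of_dvd hpos hfrob
  have hinj : Nat.card {z : C // z ^ q = 1} ≤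
      (Finset.univ.filter (fun z : G => z ^ n = 1 ∧ z * h = h * z)).card := by
    rw [Nat.card_eq_fintype_card, ← Finset.card_univ]
    apply Finset.card_le_card_of_injOn (fun z : {z : C // z ^ q = 1} => ((z : C) : G))
    · intro z _
      rw [Finset.mem_coe, Finset.mem_filter]
      refine ⟨Finset.mem_univ _, ?_, ?_⟩
      · obtain ⟨j, rfl⟩ := hqn
        have h1 : ((z : C) : G) ^ q = 1 := by
          have := congrArg Subtype.val z.2
          simpa using this
        rw [pow_mul, h1, one_pow]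
      · have := Subgroup.mem_centralizer_iff.1 (z : C).2 h (Set.mem_singleton h)
        exact this.symm
    · intro z _ z' _ hzz'
      exact Subtype.ext (Subtype.ext hzz')
  calc Nat.card C = Nat.card CH * q := hq
    _ = q * Nat.card CH := mul_comm _ _
    _ ≤ _ := Nat.mul_le_mul_right _ (hle.trans hinj)

end cent

end Cfsg.Agent.Lib.Helper3.BS
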