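import Mathlib
import Cfsg.Agent.Lib.Helper3.BS4

set_option autoImplicit false
set_option linter.unusedSectionVars false
set_option linter.style.haveILetI false

namespace Cfsg.Agent.Lib.Helper3.BS
open Cfsg Cfsg.Agent.Lib.Helper6

section conjcount
variable {Γ : Type*} [Group Γ] [Fintype Γ] [DecidableEq Γ]

/-- the number of `g` with `g γ₀ g⁻¹ = γ` is `|C(γ₀)|` or `0` -/
theorem card_conj_solutions (γ₀ γ : Γ) :
    (Finset.univ.filter (fun g : Γ => g * γ₀ * g⁻¹ = γ)).card =
      if IsConj γ₀ γ then Nat.card (Subgroup.centralizer ({γ₀} : Set Γ)) else 0 := by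
  classical
  split_ifs with hconj
  · obtain ⟨g₁, hg₁⟩ := isConj_iff.1 hconj
    rw [Nat.card_eq_fintype_card, ← Finset.card_univ]
    symm
    apply Finset.card_bij (fun (c : Subgroup.centralizer ({γ₀} : Set Γ)) _ => g₁ * (c : Γ))
    · intro c _
      rw [Finset.mem_filter]
      refine ⟨Finset.mem_univ _, ?_⟩
      have hc := Subgroup.mem_centralizer_iff.1 c.2 γ₀ (Set.mem_singleton γ₀)
      calc g₁ * (c : Γ) * γ₀ * (g₁ * (c : Γ))⁻¹ = g₁ * ((c : Γ) * γ₀) * (c : Γ)⁻¹ * g₁⁻¹ := by group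
        _ = g₁ * (γ₀ * (c : Γ)) * (c : Γ)⁻¹ * g₁⁻¹ := by rw [hc]
        _ = g₁ * γ₀ * g₁⁻¹ := by group
        _ = γ := hg₁
    · intro c _ c' _ h
      exact Subtype.ext (mul_left_cancel h)
    · intro g hg
      rw [Finset.mem_filter] at hg
      refine ⟨⟨g₁⁻¹ * g, ?_⟩, Finset.mem_univ _, by group⟩
      rw [Subgroup.mem_centralizer_iff]
      intro t ht
      rw [Set.mem_singleton_iff] at ht
      subst ht
      have h1 : g * t * g⁻¹ = g₁ * t * g₁⁻¹ := by rw [hg.2, hg₁]
      calc t * (g₁⁻¹ * g) = g₁⁻¹ * (g₁ * t * g₁⁻¹) * g := by group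
        _ = g₁⁻¹ * (g * t * g⁻¹) * g := by rw [h1]
        _ = g₁⁻¹ * g * t := by group
  · rw [Finset.card_eq_zero, Finset.filter_eq_empty_iff]
    intro g _ hg
    exact hconj (isConj_iff.2 ⟨g, hg⟩)

/-- orbit-stabilizer for conjugation -/
theorem card_conj_mul_card_centralizer (γ₀ : Γ) :
    (Finset.univ.filter (fun γ : Γ => IsConj γ₀ γ)).card *
      Nat.card (Subgroup.centralizer ({γ₀} : Set Γ)) = Nat.card Γ := by
  classical
  have h1 : ∑ γ : Γ, (Finset.univ.filter (fun g : Γ => g * γ₀ * g⁻¹ = γ)).card = Fintype.card Γ := by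
    rw [← Finset.card_univ, Finset.card_eq_sum_card_fiberwise (f := fun g : Γ => g * γ₀ * g⁻¹)
      (t := Finset.univ) (fun _ _ => Finset.mem_univ _)]
  simp_rw [card_conj_solutions] at h1
  rw [← Finset.sum_filter, Finset.sum_const, smul_eq_mul] at h1
  rw [Nat.card_eq_fintype_card (α := Γ), ← h1]

end conjcount

section count
variable {G : Type*} [Group G] [Fintype G] [DecidableEq G] (H : Subgroup G) [Fintype H]

/-- number of `π'`-elements of the centralizer -/
def tCount (n : ℕ) (y : G) : ℕ := (Finset.univ.filter (fun z : G => z ^ n = 1 ∧ z * y = y * z)).card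

/-- number of pairs `(g,h) ∈ G × H` with `g h g⁻¹ = y` -/
def aCount (y : G) : ℕ :=
  (Finset.univ.filter (fun p : G × H => p.1 * (p.2 : G) * p.1⁻¹ = y)).card

theorem tCount_conj (n : ℕ) (k y : G) : tCount n (k * y * k⁻¹) = tCount n y := by
  unfold tCount
  symm
  apply Finset.card_bij (fun z _ => k * z * k⁻¹)
  · intro z hz
    rw [Finset.mem_filter] at hz ⊢
    refine ⟨Finset.mem_univ _, ?_, ?_⟩
    · rw [conj_pow, hz.2.1]; group
    · calc k * z * k⁻¹ * (k * y * k⁻¹) = k * (z * y) * k⁻¹ := by group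
        _ = k * (y * z) * k⁻¹ := by rw [hz.2.2]
        _ = k * y * k⁻¹ * (k * z * k⁻¹) := by group
  · intro z _ z' _ h
    exact mul_left_cancel (mul_right_cancel h)
  · intro w hw
    rw [Finset.mem_filter] at hw
    refine ⟨k⁻¹ * w * k, ?_, by group⟩
    rw [Finset.mem_filter]
    refine ⟨Finset.mem_univ _, ?_, ?_⟩
    · have : k⁻¹ * w * k = k⁻¹ * w * k⁻¹⁻¹ := by group
      rw [this, conj_pow, hw.2.1]; group
    · calc k⁻¹ * w * k * y = k⁻¹ * (w * (k * y * k⁻¹)) * k := by group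
        _ = k⁻¹ * ((k * y * k⁻¹) * w) * k := by rw [hw.2.2]
        _ = y * (k⁻¹ * w * k) := by group

theorem aCount_conj (k y : G) : aCount H (k * y * k⁻¹) = aCount H y := by
  unfold aCount
  symm
  apply Finset.card_bij (fun p _ => (k * p.1, p.2))
  · intro p hp
    rw [Finset.mem_filter] at hp ⊢
    refine ⟨Finset.mem_univ _, ?_⟩
    rw [← hp.2]; group
  · intro p _ q _ h
    have h1 := congrArg Prod.fst h
    have h2 := congrArg Prod.snd h
    exact Prod.ext (mul_left_cancel h1) h2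
  · intro q hq
    rw [Finset.mem_filter] at hq
    refine ⟨(k⁻¹ * q.1, q.2), ?_, by simp⟩
    rw [Finset.mem_filter]
    refine ⟨Finset.mem_univ _, ?_⟩
    calc k⁻¹ * q.1 * (q.2 : G) * (k⁻¹ * q.1)⁻¹ = k⁻¹ * (q.1 * (q.2 : G) * q.1⁻¹) * k := by group
      _ = k⁻¹ * (k * y * k⁻¹) * k := by rw [hq.2]
      _ = y := by group

/-- the centralizer in `H` has the order of `C_G(h) ⊓ H` -/
theorem card_centralizer_subtype (h₀ : H) :
    Nat.card (Subgroup.centralizer ({h₀} : Set H)) =
      Nat.card (Subgroup.centralizer ({(h₀ : G)} : Set G) ⊓ H : Subgroup G) := by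
  apply Nat.card_congr
  refine ⟨fun u => ⟨((u : H) : G), ?_⟩, fun v => ⟨⟨(v : G), (Subgroup.mem_inf.1 v.2).2⟩, ?_⟩,
    fun u => rfl, fun v => rfl⟩
  · refine Subgroup.mem_inf.2 ⟨?_, (u : H).2⟩
    rw [Subgroup.mem_centralizer_iff]
    intro t ht
    rw [Set.mem_singleton_iff] at ht
    subst ht
    have := Subgroup.mem_centralizer_iff.1 u.2 h₀ (Set.mem_singleton h₀)
    exact congrArg Subtype.val this
  · rw [Subgroup.mem_centralizer_iff]
    intro t ht
    rw [Set.mem_singleton_iff] at ht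
    subst ht
    apply Subtype.ext
    exact Subgroup.mem_centralizer_iff.1 (Subgroup.mem_inf.1 v.2).1 (t : G) (Set.mem_singleton _)

variable {H}

/-- `A(h₀) |C_H(h₀)| = |C_G(h₀)| |H|` -/
theorem aCount_mul (hfus : ∀ x ∈ H, ∀ y ∈ H, IsConj x y → ∃ h ∈ H, h * x * h⁻¹ = y) (h₀ : H) :
    aCount H (h₀ : G) * Nat.card (Subgroup.centralizer ({(h₀ : G)} : Set G) ⊓ H : Subgroup G) =
      Nat.card (Subgroup.centralizer ({(h₀ : G)} : Set G)) * Nat.card H := by
  classical
  have h1 : aCount H (h₀ : G) = ∑ h : H,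
      (Finset.univ.filter (fun g : G => g * (h₀ : G) * g⁻¹ = (h : G))).card := by
    unfold aCount
    rw [Finset.card_eq_sum_card_fiberwise (f := fun p : G × H => p.2) (t := Finset.univ)
      (fun _ _ => Finset.mem_univ _)]
    apply Finset.sum_congr rfl
    intro h _
    apply Finset.card_bij (fun p _ => p.1⁻¹)
    · intro p hp
      rw [Finset.mem_filter, Finset.mem_filter] at hp
      rw [Finset.mem_filter]
      refine ⟨Finset.mem_univ _, ?_⟩
      rw [← hp.1.2, hp.2]; group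
    · intro p hp q hq hpq
      rw [Finset.mem_filter, Finset.mem_filter] at hp hq
      exact Prod.ext (inv_injective hpq) (hp.2.trans hq.2.symm)
    · intro g hg
      rw [Finset.mem_filter] at hg
      refine ⟨(g⁻¹, h), ?_, by simp⟩
      rw [Finset.mem_filter, Finset.mem_filter]
      refine ⟨⟨Finset.mem_univ _, ?_⟩, rfl⟩
      change g⁻¹ * (h : G) * g⁻¹⁻¹ = (h₀ : G)
      rw [← hg.2]; group
  simp_rw [card_conj_solutions] at h1
  rw [← Finset.sum_filter, Finset.sum_const, smul_eq_mul] at h1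
  have h2 : (Finset.univ.filter (fun h : H => IsConj (h₀ : G) (h : G))) =
      Finset.univ.filter (fun h : H => IsConj h₀ h) := by
    ext h
    simp only [Finset.mem_filter, Finset.mem_univ, true_and]
    constructor
    · intro hc
      obtain ⟨u, hu, huh⟩ := hfus _ h₀.2 _ h.2 hc
      exact isConj_iff.2 ⟨⟨u, hu⟩, Subtype.ext huh⟩
    · intro hc
      obtain ⟨u, hu⟩ := isConj_iff.1 hc
      exact isConj_iff.2 ⟨(u : G), congrArg Subtype.val hu⟩
  rw [h2] at h1
  have h3 := card_conj_mul_card_centralizer h₀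
  rw [card_centralizer_subtype] at h3
  rw [h1, mul_assoc, mul_comm (Nat.card _) (Nat.card _), ← mul_assoc, h3, mul_comm]

end count

end Cfsg.Agent.Lib.Helper3.BS
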