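import Mathlib
import Cfsg.Agent.Lib.Helper3.BS5

set_option autoImplicit false
set_option linter.unusedSectionVars false
set_option linter.style.haveILetI false

namespace Cfsg.Agent.Lib.Helper3.BS
open Cfsg Cfsg.Agent.Lib.Helper6

section main
variable {G : Type*} [Group G] [Fintype G] [DecidableEq G] {H : Subgroup G} [Fintype H]
  {m n e : ℕ}
  (hmn : Nat.card G = m * n) (hcop : Nat.Coprime m n) (hne : n ∣ e) (hem : e ≡ 1 [MOD m])
  (hHm : Nat.card H = m)
  (hfus : ∀ x ∈ H, ∀ y ∈ H, IsConj x y → ∃ h ∈ H, h * x * h⁻¹ = y)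
  (helem : ∀ (E : Subgroup G) (p : ℕ), p.Prime → IsElementary p E → Nat.card E ∣ Nat.card H →
      ∃ g : G, E.map (MulAut.conj g).toMonoidHom ≤ H)

include hHm helem in
theorem exists_conj_mem_of_pow_eq_one {y : G} (hy : y ^ m = 1) : ∃ h ∈ H, IsConj h y := by
  have hE : IsElementary 2 (Subgroup.zpowers y) :=
    isElementary_of_isCyclic Nat.prime_two (Subgroup.isCyclic_zpowers y)
  have hcard : Nat.card (Subgroup.zpowers y) ∣ Nat.card H := by
    rw [Nat.card_zpowers, hHm]
    exact orderOf_dvd_of_pow_eq_one hy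
  obtain ⟨g, hg⟩ := helem _ 2 Nat.prime_two hE hcard
  refine ⟨g * y * g⁻¹, ?_, (isConj_iff.2 ⟨g, rfl⟩).symm⟩
  apply hg
  exact ⟨y, Subgroup.mem_zpowers y, by simp [MulAut.conj_apply]⟩

include hHm in
theorem pow_eq_one_of_aCount_ne_zero {y : G} (hA : aCount H y ≠ 0) : y ^ m = 1 := by
  unfold aCount at hA
  obtain ⟨p, hp⟩ := Finset.card_ne_zero.1 hA
  rw [Finset.mem_filter] at hp
  rw [← hp.2, conj_pow]
  have h1 : ((p.2 : H) : G) ^ m = 1 := by
    have : (p.2 : H) ^ m = 1 := by rw [← hHm]; exact pow_card_eq_one'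
    have := congrArg Subtype.val this
    simpa using this
  rw [h1]; group

include hHm helem in
theorem aCount_pos_of_pow_eq_one {y : G} (hy : y ^ m = 1) : 0 < aCount H y := by
  obtain ⟨h, hh, hc⟩ := exists_conj_mem_of_pow_eq_one hHm helem hy
  obtain ⟨g, hg⟩ := isConj_iff.1 hc
  unfold aCount
  apply Finset.card_pos.2
  exact ⟨(g, ⟨h, hh⟩), by rw [Finset.mem_filter]; exact ⟨Finset.mem_univ _, hg⟩⟩

include hmn hne hem hHm helem in
/-- the main counting identity -/
theorem sum_pow_eq (F : G → ℝ) (hF : ∀ g k : G, F (k * g * k⁻¹) = F g) :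
    ∑ x : G, F (x ^ e) =
      (Nat.card G : ℝ) * ∑ h : H, F h * ((tCount n (h : G) : ℝ) / (aCount H (h : G) : ℝ)) := by
  classical
  -- fibre the left side
  have h1 : ∑ x : G, F (x ^ e) =
      ∑ y : G, ((Finset.univ.filter (fun x : G => x ^ e = y)).card : ℝ) * F y := by
    rw [← Finset.sum_fiberwise_of_maps_to (s := Finset.univ) (t := Finset.univ)
      (g := fun x : G => x ^ e) (fun _ _ => Finset.mem_univ _)]
    apply Finset.sum_congr rfl
    intro y _
    rw [Finset.sum_congr rfl (fun x hx => by rw [(Finset.mem_filter.1 hx).2] :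
      ∀ x ∈ Finset.univ.filter (fun x : G => x ^ e = y), F (x ^ e) = F y)]
    rw [Finset.sum_const, nsmul_eq_mul]
  -- rewrite the fibre counts
  have h2 : ∀ y : G, ((Finset.univ.filter (fun x : G => x ^ e = y)).card : ℝ) * F y =
      (aCount H y : ℝ) * (F y * ((tCount n y : ℝ) / (aCount H y : ℝ))) := by
    intro y
    by_cases hy : y ^ m = 1
    · have hA : (aCount H y : ℝ) ≠ 0 := by
        exact_mod_cast (aCount_pos_of_pow_eq_one hHm helem hy).ne'
      rw [card_fiber hmn hne hem hy]
      unfold tCount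
      field_simp
    · have hA : aCount H y = 0 := by
        by_contra h
        exact hy (pow_eq_one_of_aCount_ne_zero hHm h)
      have hfib : (Finset.univ.filter (fun x : G => x ^ e = y)).card = 0 := by
        rw [Finset.card_eq_zero, Finset.filter_eq_empty_iff]
        intro x _ hx
        apply hy
        rw [← hx]
        exact pow_pow_eq_one hmn hne hem x
      rw [hA, hfib]
      simp
  rw [h1, Finset.sum_congr rfl (fun y _ => h2 y)]
  -- fibre the right side
  set W : G → ℝ := fun y => F y * ((tCount n y : ℝ) / (aCount H y : ℝ)) with hW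
  have hWc : ∀ g k : G, W (k * g * k⁻¹) = W g := by
    intro g k
    simp only [hW, hF, tCount_conj, aCount_conj]
  have h3 : ∑ y : G, (aCount H y : ℝ) * W y =
      ∑ p : G × H, W (p.1 * (p.2 : G) * p.1⁻¹) := by
    rw [← Finset.sum_fiberwise_of_maps_to (s := Finset.univ) (t := Finset.univ)
      (g := fun p : G × H => p.1 * (p.2 : G) * p.1⁻¹) (fun _ _ => Finset.mem_univ _)]
    apply Finset.sum_congr rfl
    intro y _
    rw [Finset.sum_congr rfl (fun p hp => by rw [(Finset.mem_filter.1 hp).2] :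
      ∀ p ∈ Finset.univ.filter (fun p : G × H => p.1 * (p.2 : G) * p.1⁻¹ = y),
        W (p.1 * (p.2 : G) * p.1⁻¹) = W y)]
    rw [Finset.sum_const, nsmul_eq_mul]
    rfl
  rw [h3, Fintype.sum_prod_type]
  simp_rw [hWc]
  rw [Finset.sum_const, Finset.card_univ, nsmul_eq_mul, Nat.card_eq_fintype_card]

include hmn hcop hHm hfus helem in
theorem one_le_ratio (h : H) :
    (1 : ℝ) ≤ (Nat.card H : ℝ) * ((tCount n (h : G) : ℝ) / (aCount H (h : G) : ℝ)) := by
  have hhm : (h : G) ^ m = 1 := by
    have : h ^ m = 1 := by rw [← hHm]; exact pow_card_eq_one'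
    have := congrArg Subtype.val this
    simpa using this
  have hApos : 0 < aCount H (h : G) := aCount_pos_of_pow_eq_one hHm helem hhm
  have h1 := aCount_mul hfus h
  have h2 := card_centralizer_le hmn hcop hHm hfus helem h.2
  have hcH : 0 < Nat.card (Subgroup.centralizer ({(h : G)} : Set G) ⊓ H : Subgroup G) :=
    Nat.card_pos
  have h3 : aCount H (h : G) ≤ tCount n (h : G) * Nat.card H := by
    have h4 : aCount H (h : G) *
        Nat.card (Subgroup.centralizer ({(h : G)} : Set G) ⊓ H : Subgroup G) ≤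
        (tCount n (h : G) * Nat.card H) *
        Nat.card (Subgroup.centralizer ({(h : G)} : Set G) ⊓ H : Subgroup G) := by
      rw [h1]
      calc Nat.card (Subgroup.centralizer ({(h : G)} : Set G)) * Nat.card H
          ≤ (tCount n (h : G) *
            Nat.card (Subgroup.centralizer ({(h : G)} : Set G) ⊓ H : Subgroup G)) * Nat.card H :=
            Nat.mul_le_mul_right _ h2
        _ = _ := by ring
    exact Nat.le_of_mul_le_mul_right h4 hcH
  have hA : (0 : ℝ) < (aCount H (h : G) : ℝ) := by exact_mod_cast hApos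
  rw [← mul_div_assoc, le_div_iff₀ hA, one_mul]
  have : ((aCount H (h : G) : ℕ) : ℝ) ≤ ((tCount n (h : G) * Nat.card H : ℕ) : ℝ) := by
    exact_mod_cast h3
  rw [Nat.cast_mul] at this
  linarith

include hmn hcop hne hem hHm hfus helem in
theorem ratio_eq_one (h : H) :
    (Nat.card H : ℝ) * ((tCount n (h : G) : ℝ) / (aCount H (h : G) : ℝ)) = 1 := by
  have h1 := sum_pow_eq hmn hne hem hHm helem (fun _ => (1 : ℝ)) (fun _ _ => rfl)
  have hG0 : (Nat.card G : ℝ) ≠ 0 := by exact_mod_cast (Nat.card_pos (α := G)).ne'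
  have h1' : (Nat.card G : ℝ) * 1 =
      (Nat.card G : ℝ) * ∑ h : H, ((tCount n (h : G) : ℝ) / (aCount H (h : G) : ℝ)) := by
    have h5 : ∑ x : G, (1 : ℝ) = (Nat.card G : ℝ) := by
      rw [Finset.sum_const, Finset.card_univ, nsmul_eq_mul, mul_one, Nat.card_eq_fintype_card]
    simp only [one_mul] at h1
    rw [h5] at h1
    rw [mul_one]
    exact h1
  have h2 : ∑ h : H, ((tCount n (h : G) : ℝ) / (aCount H (h : G) : ℝ)) = 1 :=
    (mul_left_cancel₀ hG0 h1').symm
  have h3 : ∑ h : H, (1 : ℝ) =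
      ∑ h : H, (Nat.card H : ℝ) * ((tCount n (h : G) : ℝ) / (aCount H (h : G) : ℝ)) := by
    rw [← Finset.mul_sum, h2, mul_one, Finset.sum_const, Finset.card_univ, nsmul_eq_mul, mul_one,
      Nat.card_eq_fintype_card]
  have h4 := (Finset.sum_eq_sum_iff_of_le
    (fun h _ => one_le_ratio hmn hcop hHm hfus helem h)).1 h3 h (Finset.mem_univ h)
  exact h4.symm

include hmn hcop hne hem hHm hfus helem in
/-- the counting identity in its final form -/
theorem card_mul_sum_pow (F : G → ℝ) (hF : ∀ g k : G, F (k * g * k⁻¹) = F g) :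
    (Nat.card H : ℝ) * ∑ x : G, F (x ^ e) = (Nat.card G : ℝ) * ∑ h : H, F h := by
  rw [sum_pow_eq hmn hne hem hHm helem F hF]
  have hH0 : (Nat.card H : ℝ) ≠ 0 := by exact_mod_cast (Nat.card_pos (α := H)).ne'
  have h1 : ∀ h : H, F h * ((tCount n (h : G) : ℝ) / (aCount H (h : G) : ℝ)) =
      F h * (Nat.card H : ℝ)⁻¹ := by
    intro h
    have := ratio_eq_one hmn hcop hne hem hHm hfus helem h
    congr 1
    exact eq_inv_of_mul_eq_one_right this
  rw [Finset.sum_congr rfl (fun h _ => h1 h), ← Finset.sum_mul]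
  field_simp

end main

end Cfsg.Agent.Lib.Helper3.BS
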