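import Mathlib
import Cfsg.Agent.Lib.Helper3.BS6
import Cfsg.Agent.Lib.Helper3.FT2
import Cfsg.Agent.Lib.Helper6.GaloisConj
import Cfsg.Agent.Lib.Helper6.SecondOrth
import Cfsg.Agent.Lib.Helper6.BlkKer
import Cfsg.Agent.Lib.Helper6.Regular
import Cfsg.Agent.Lib.Helper6.Constituent

set_option autoImplicit false
set_option linter.unusedSectionVars false
set_option linter.style.haveILetI false

namespace Cfsg.Agent.Lib.Helper3.BS
open Cfsg Cfsg.Agent.Lib.Helper6
open scoped ComplexConjugate

section final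
variable {G : Type*} [Group G] [Fintype G] [DecidableEq G] {H : Subgroup G} [Fintype H]
  {m n e : ℕ}
  (hmn : Nat.card G = m * n) (hcop : Nat.Coprime m n) (hne : n ∣ e) (hem : e ≡ 1 [MOD m])
  (hHm : Nat.card H = m)
  (hfus : ∀ x ∈ H, ∀ y ∈ H, IsConj x y → ∃ h ∈ H, h * x * h⁻¹ = y)
  (helem : ∀ (E : Subgroup G) (p : ℕ), p.Prime → IsElementary p E → Nat.card E ∣ Nat.card H →
      ∃ g : G, E.map (MulAut.conj g).toMonoidHom ≤ H)
  {c : G → H} (hc : ∀ x : G, IsConj ((c x : H) : G) (x ^ e))

include hmn hcop hne hem hHm hfus helem hc in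
/-- the hat of an irreducible character of `H` is an irreducible character of `G` -/
theorem hat_isIrrCharacter {ψ : H → ℂ} (hψ : IsIrrCharacter H ψ) :
    IsIrrCharacter G (hat H c ψ) := by
  have hψc := IsIrrCharacter.isCharacter hψ
  have hψcl := IsCharacter.isClassFunction hψc
  have hgen := hat_isGeneralizedCharacter hc hfus hmn hcop hne hem hHm helem hψc
  have hcl := hat_isClassFunction hc hfus hψcl
  apply IsGeneralizedCharacter.isIrrCharacter_of_norm_one hgen
  · -- norm one
    rw [Cfsg.Agent.Lib.Helper3.FT.classInner_self_eq]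
    have hpow : ∀ x : G, hat H c ψ x = hat H c ψ (x ^ e) := by
      intro x
      apply hat_eq hc hfus hψcl
      rw [pow_eq_self_of_pow_eq_one hem (pow_pow_eq_one hmn hne hem x)]
      exact hc x
    have h1 : ∑ g : G, Complex.normSq (hat H c ψ g) =
        ∑ g : G, (fun y => Complex.normSq (hat H c ψ y)) (g ^ e) := by
      apply Finset.sum_congr rfl
      intro x _
      simp only
      rw [← hpow x]
    have h2 := card_mul_sum_pow hmn hcop hne hem hHm hfus helem
      (fun y => Complex.normSq (hat H c ψ y)) (fun g k => by rw [hcl])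
    rw [← h1] at h2
    have h3 : ∑ h : H, (fun y => Complex.normSq (hat H c ψ y)) (h : G) = (Nat.card H : ℝ) := by
      rw [← Cfsg.Agent.Lib.Helper3.FT.sum_normSq_eq_card hψ]
      apply Finset.sum_congr rfl
      intro h _
      simp only
      rw [hat_restrict hc hfus hem hHm hψcl]
    rw [h3] at h2
    have hH0 : (Nat.card H : ℝ) ≠ 0 := by exact_mod_cast (Nat.card_pos (α := H)).ne'
    have hG0 : (Nat.card G : ℝ) ≠ 0 := by exact_mod_cast (Nat.card_pos (α := G)).ne'
    have h4 : ∑ g : G, Complex.normSq (hat H c ψ g) = (Nat.card G : ℝ) := by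
      have : (Nat.card H : ℝ) * ∑ g : G, Complex.normSq (hat H c ψ g) =
          (Nat.card H : ℝ) * (Nat.card G : ℝ) := by rw [h2]; ring
      exact mul_left_cancel₀ hH0 this
    rw [h4, inv_mul_cancel₀ hG0]
    simp
  · -- positive degree
    have h1 : hat H c ψ 1 = ψ 1 := hat_restrict hc hfus hem hHm hψcl 1
    rw [h1]
    obtain ⟨d, hd⟩ := IsCharacter.apply_one_eq_natCast hψc
    have hd0 : d ≠ 0 := by
      rintro rfl
      exact IsIrrCharacter.apply_one_ne_zero hψ (by rw [hd]; simp)
    rw [hd]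
    simp only [Complex.natCast_re]
    exact_mod_cast Nat.pos_of_ne_zero hd0

end final

section thm
variable {G : Type*} [Group G] [Finite G]

/-- Brauer–Suzuki: a Hall subgroup controlling its own fusion, into which every elementary
subgroup of suitable order can be conjugated, has a normal complement. -/
theorem exists_normal_complement (H : Subgroup G) (hHall : Nat.Coprime (Nat.card H) H.index)
    (hfus : ∀ x ∈ H, ∀ y ∈ H, IsConj x y → ∃ h ∈ H, h * x * h⁻¹ = y)
    (helem : ∀ (E : Subgroup G) (p : ℕ), p.Prime → IsElementary p E → Nat.card E ∣ Nat.card H →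
      ∃ g : G, E.map (MulAut.conj g).toMonoidHom ≤ H) :
    ∃ K : Subgroup G, K.Normal ∧ K ⊔ H = ⊤ ∧ K ⊓ H = ⊥ := by
  classical
  have : Fintype G := Fintype.ofFinite G
  have : Fintype H := Fintype.ofFinite H
  have : Fintype (IrrCharacter H) := Fintype.ofFinite _
  set m := Nat.card H with hm
  set n := H.index with hn
  have hmn : Nat.card G = m * n := (Subgroup.card_mul_index H).symm
  obtain ⟨e, hne, hem⟩ := exists_exponent hHall
  have hHm : Nat.card H = m := rfl
  -- the choice function
  have hex : ∀ x : G, ∃ h : H, IsConj (h : G) (x ^ e) := by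
    intro x
    obtain ⟨h, hh, hc⟩ := exists_conj_mem_of_pow_eq_one hHm helem (pow_pow_eq_one hmn hne hem x)
    exact ⟨⟨h, hh⟩, hc⟩
  choose c hc using hex
  have hirr : ∀ ψ : IrrCharacter H, IsIrrCharacter G (hat H c (ψ : H → ℂ)) :=
    fun ψ => hat_isIrrCharacter hmn hHall hne hem hHm hfus helem hc ψ.2
  have hcl : ∀ ψ : IrrCharacter H, IsClassFunction H (ψ : H → ℂ) :=
    fun ψ => IsIrrCharacter.isClassFunction ψ.2
  let K : Subgroup G := ⨅ ψ : IrrCharacter H, charKer (IsIrrCharacter.isCharacter (hirr ψ))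
  have hKmem : ∀ x : G, x ∈ K ↔ ∀ ψ : IrrCharacter H,
      hat H c (ψ : H → ℂ) x = hat H c (ψ : H → ℂ) 1 := by
    intro x
    simp only [K, Subgroup.mem_iInf, mem_charKer]
  have hKn : K.Normal := by
    apply Subgroup.normal_iInf_normal
    intro ψ
    exact charKer_normal _
  have hone : ∀ ψ : IrrCharacter H, hat H c (ψ : H → ℂ) 1 = (ψ : H → ℂ) 1 :=
    fun ψ => hat_restrict hc hfus hem hHm (hcl ψ) 1
  refine ⟨K, hKn, ?_, ?_⟩
  · -- K ⊔ H = ⊤
    -- K contains all elements with x ^ n = 1
    have hT : ∀ x : G, x ^ n = 1 → x ∈ K := by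
      intro x hx
      rw [hKmem]
      intro ψ
      rw [hat_of_pow_eq_one hc hfus hne (hcl ψ) hx, hone]
    have hKH : ∀ x : G, x ∈ K → x ∈ H → x = 1 := by
      intro x hxK hxH
      rw [hKmem] at hxK
      have h1 : ∀ ψ : IrrCharacter H, (ψ : H → ℂ) ⟨x, hxH⟩ = (ψ : H → ℂ) 1 := by
        intro ψ
        have := hxK ψ
        rw [hone, hat_restrict hc hfus hem hHm (hcl ψ) ⟨x, hxH⟩] at this
        exact this
      have h2 : IsConj (⟨x, hxH⟩ : H) 1 := (isConj_iff_forall_irr _ _).2 h1
      have h3 : (⟨x, hxH⟩ : H) = 1 := isConj_one_left.1 h2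
      exact congrArg Subtype.val h3
    -- |K| ≥ n
    have hKn' : n ≤ Nat.card K := by
      have hfrob := Cfsg.Agent.Lib.Helper2.frobenius_dvd G n (Dvd.intro_left _ hmn.symm)
      have hpos : 0 < Nat.card {g : G // g ^ n = 1} := by
        haveI : Nonempty {g : G // g ^ n = 1} := ⟨⟨1, one_pow n⟩⟩
        exact Nat.card_pos
      have h1 : n ≤ Nat.card {g : G // g ^ n = 1} := Nat.le_of_dvd hpos hfrob
      have h2 : Nat.card {g : G // g ^ n = 1} ≤ Nat.card K := by
        apply Nat.card_le_card_of_injective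
          (fun g : {g : G // g ^ n = 1} => (⟨(g : G), hT g g.2⟩ : K))
        intro g g' hgg'
        have h3 : ((⟨(g : G), hT g g.2⟩ : K) : G) = ((⟨(g' : G), hT g' g'.2⟩ : K) : G) :=
          congrArg Subtype.val hgg'
        exact Subtype.ext h3
      exact h1.trans h2
    -- the product map
    let f : K × H → G := fun p => (p.1 : G) * (p.2 : G)
    have hfinj : Function.Injective f := by
      rintro ⟨k, h⟩ ⟨k', h'⟩ heq
      have heq' : (k : G) * (h : G) = (k' : G) * (h' : G) := heq
      have h1 : (k' : G)⁻¹ * (k : G) = (h' : G) * (h : G)⁻¹ := by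
        have : (k : G) = (k' : G) * (h' : G) * (h : G)⁻¹ := by rw [← heq']; group
        rw [this]; group
      have h2 : (k' : G)⁻¹ * (k : G) = 1 :=
        hKH _ (K.mul_mem (K.inv_mem k'.2) k.2) (h1 ▸ H.mul_mem h'.2 (H.inv_mem h.2))
      have h3 : (k : G) = (k' : G) := by
        have := inv_mul_eq_one.1 h2
        exact this.symm
      have h4 : (h : G) = (h' : G) := by
        rw [h3] at heq'
        exact mul_left_cancel heq'
      exact Prod.ext (Subtype.ext h3) (Subtype.ext h4)
    have hcard : Nat.card (K × H) = Nat.card G := by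
      apply le_antisymm
      · exact Nat.card_le_card_of_injective f hfinj
      · rw [Nat.card_prod, hmn, mul_comm m n]
        exact Nat.mul_le_mul_right _ hKn'
    have hfsurj : Function.Surjective f := by
      have : Fintype K := Fintype.ofFinite K
      have hbij : Function.Bijective f := by
        rw [Fintype.bijective_iff_injective_and_card]
        refine ⟨hfinj, ?_⟩
        rw [← Nat.card_eq_fintype_card, ← Nat.card_eq_fintype_card, hcard]
      exact hbij.2
    rw [eq_top_iff]
    intro g _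
    obtain ⟨⟨k, h⟩, hkh⟩ := hfsurj g
    rw [← hkh]
    exact Subgroup.mul_mem _ (Subgroup.mem_sup_left k.2) (Subgroup.mem_sup_right h.2)
  · -- K ⊓ H = ⊥
    rw [eq_bot_iff]
    intro x hx
    rw [Subgroup.mem_bot]
    obtain ⟨hxK, hxH⟩ := Subgroup.mem_inf.1 hx
    rw [hKmem] at hxK
    have h1 : ∀ ψ : IrrCharacter H, (ψ : H → ℂ) ⟨x, hxH⟩ = (ψ : H → ℂ) 1 := by
      intro ψ
      have := hxK ψ
      rw [hone, hat_restrict hc hfus hem hHm (hcl ψ) ⟨x, hxH⟩] at this
      exact this
    have h2 : IsConj (⟨x, hxH⟩ : H) 1 := (isConj_iff_forall_irr _ _).2 h1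
    have h3 : (⟨x, hxH⟩ : H) = 1 := isConj_one_left.1 h2
    exact congrArg Subtype.val h3

end thm

end Cfsg.Agent.Lib.Helper3.BS
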