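import Mathlib
import Cfsg.Agent.Lib.Helper3.F4InvA0

set_option autoImplicit false
set_option maxHeartbeats 4000000

/-!
# BT2 (towards S2369): the centre of a convex set of chambers without opposite pairs, `W = D₁₆`

Abstract `W`-metric spaces over `DihedralGroup 8` (chamber systems of generalized octagons, points taken
up to the relation `δ = 1`).  If `τ` preserves `δ` and no two `τ`-fixed points are opposite, then the set of
fixed points has a centre: a point `x` and a generator `s` with `δ x (γ x) ∈ {1, s}` for every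
`δ`-automorphism `γ` preserving the fixed set.
-/

namespace Cfsg.Agent.Lib.Helper3.BT2

open DihedralGroup Cfsg.Agent.Lib.Helper3.F4Inv

theorem dl_inv : ∀ d : DihedralGroup 8, dlen d⁻¹ = dlen d := by decide

theorem dl_one : dlen (1 : DihedralGroup 8) = 0 := by decide

theorem dl_gen : dlen (sr 0 : DihedralGroup 8) = 1 ∧ dlen (sr 1 : DihedralGroup 8) = 1 := by decide

theorem dl_right : ∀ d : DihedralGroup 8,
    (dlen (d * sr 0) = dlen d + 1 ∨ dlen (d * sr 0) + 1 = dlen d) ∧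
    (dlen (d * sr 1) = dlen d + 1 ∨ dlen (d * sr 1) + 1 = dlen d) := by decide

theorem dl_left : ∀ d : DihedralGroup 8,
    (dlen (sr 0 * d) = dlen d + 1 ∨ dlen (sr 0 * d) + 1 = dlen d) ∧
    (dlen (sr 1 * d) = dlen d + 1 ∨ dlen (sr 1 * d) + 1 = dlen d) := by decide

theorem dl_ends : ∀ d : DihedralGroup 8, dlen d ≤ 7 →
    ¬ (dlen (d * sr 0) < dlen d ∧ dlen (d * sr 1) < dlen d) := by decide

theorem dl_eight : ∀ d : DihedralGroup 8, dlen d = 8 → d = r 4 := by decide

theorem dl_le_one : ∀ d : DihedralGroup 8, dlen d ≤ 1 → d = 1 ∨ d = sr 0 ∨ d = sr 1 := by decide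

theorem dl_conj : ∀ d : DihedralGroup 8, dlen (d⁻¹ * sr 0) = dlen (sr 0 * d) ∧
    dlen (d⁻¹ * sr 1) = dlen (sr 1 * d) := by decide

theorem dl_two : dlen (sr 0 * sr 1 : DihedralGroup 8) = 2 ∧ dlen (sr 1 * sr 0 : DihedralGroup 8) = 2 := by
  decide

theorem gen_inv : (sr 0 : DihedralGroup 8)⁻¹ = sr 0 ∧ (sr 1 : DihedralGroup 8)⁻¹ = sr 1 := by decide

theorem gen_sq : (sr 0 * sr 0 : DihedralGroup 8) = 1 ∧ (sr 1 * sr 1 : DihedralGroup 8) = 1 := by decide

theorem gen_ne : (sr 0 : DihedralGroup 8) ≠ 1 ∧ (sr 1 : DihedralGroup 8) ≠ 1 ∧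
    (sr 0 : DihedralGroup 8) ≠ sr 1 := by decide

/-- `s` is one of the two generators -/
def IsGen (s : DihedralGroup 8) : Prop := s = sr 0 ∨ s = sr 1

theorem IsGen.inv {s : DihedralGroup 8} (hs : IsGen s) : s⁻¹ = s := by
  rcases hs with rfl | rfl
  · exact gen_inv.1
  · exact gen_inv.2

theorem IsGen.sq {s : DihedralGroup 8} (hs : IsGen s) : s * s = 1 := by
  rcases hs with rfl | rfl
  · exact gen_sq.1
  · exact gen_sq.2

theorem IsGen.ne_one {s : DihedralGroup 8} (hs : IsGen s) : s ≠ 1 := by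
  rcases hs with rfl | rfl
  · exact gen_ne.1
  · exact gen_ne.2.1

theorem IsGen.dlen_eq {s : DihedralGroup 8} (hs : IsGen s) : dlen s = 1 := by
  rcases hs with rfl | rfl
  · exact dl_gen.1
  · exact dl_gen.2

theorem IsGen.cancel {s : DihedralGroup 8} (hs : IsGen s) (d : DihedralGroup 8) : s * (s * d) = d := by
  rw [← mul_assoc, hs.sq, one_mul]

theorem IsGen.right {s : DihedralGroup 8} (hs : IsGen s) (d : DihedralGroup 8) :
    dlen (d * s) = dlen d + 1 ∨ dlen (d * s) + 1 = dlen d := by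
  rcases hs with rfl | rfl
  · exact (dl_right d).1
  · exact (dl_right d).2

theorem IsGen.left {s : DihedralGroup 8} (hs : IsGen s) (d : DihedralGroup 8) :
    dlen (s * d) = dlen d + 1 ∨ dlen (s * d) + 1 = dlen d := by
  rcases hs with rfl | rfl
  · exact (dl_left d).1
  · exact (dl_left d).2

theorem IsGen.conj {s : DihedralGroup 8} (hs : IsGen s) (d : DihedralGroup 8) :
    dlen (d⁻¹ * s) = dlen (s * d) := by
  rcases hs with rfl | rfl
  · exact (dl_conj d).1
  · exact (dl_conj d).2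

/-- a word of length at most 7 has only one last letter -/
theorem ends_unique {s s' : DihedralGroup 8} (hs : IsGen s) (hs' : IsGen s') {d : DihedralGroup 8}
    (hd : dlen d ≤ 7) (h1 : dlen (d * s) < dlen d) (h2 : dlen (d * s') < dlen d) : s = s' := by
  rcases hs with rfl | rfl <;> rcases hs' with rfl | rfl
  · rfl
  · exact absurd ⟨h1, h2⟩ (dl_ends d hd)
  · exact absurd ⟨h2, h1⟩ (dl_ends d hd)
  · rfl

theorem exists_first {d : DihedralGroup 8} (hd : d ≠ 1) : ∃ s, IsGen s ∧ dlen (s * d) + 1 = dlen d := by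
  rcases dlen_pred d hd with h | h
  · exact ⟨sr 0, Or.inl rfl, h⟩
  · exact ⟨sr 1, Or.inr rfl, h⟩

theorem dlen_le_seven {d : DihedralGroup 8} (hd : d ≠ r 4) : dlen d ≤ 7 := by
  have h1 := dlen_le d
  have h2 : dlen d ≠ 8 := fun h => hd (dl_eight d h)
  omega

/-- `W`-metric spaces over the dihedral group of order 16 -/
structure WSp {X : Type*} (δ : X → X → DihedralGroup 8) : Prop where
  refl : ∀ x, δ x x = 1
  one_left : ∀ x y, δ x y = 1 → ∀ z, δ x z = δ y z
  symm : ∀ x y, δ y x = (δ x y)⁻¹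
  step : ∀ x y z, IsGen (δ y z) →
    δ x z = δ x y * δ y z ∨ (δ x z = δ x y ∧ dlen (δ x y * δ y z) < dlen (δ x y))
  conv : ∀ x y, ∀ s, IsGen s → dlen (s * δ x y) < dlen (δ x y) →
    ∃ z, δ x z = s ∧ δ z y = s * δ x y

section

variable {X : Type*} {δ : X → X → DihedralGroup 8}

/-- the points fixed by `τ` (up to `δ = 1`) -/
def FixSet (δ : X → X → DihedralGroup 8) (τ : X → X) : Set X := {x | δ x (τ x) = 1}

theorem WSp.one_right (hδ : WSp δ) {y y' : X} (h : δ y y' = 1) (z : X) : δ z y = δ z y' := by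
  rw [hδ.symm y z, hδ.symm y' z, hδ.one_left y y' h z]

variable {τ : X → X}

/-- convexity of the fixed set -/
theorem convY (hδ : WSp δ) (hτ : ∀ x y, δ (τ x) (τ y) = δ x y) {x y : X} (hx : x ∈ FixSet δ τ)
    (hy : y ∈ FixSet δ τ) {s : DihedralGroup 8} (hs : IsGen s)
    (hlt : dlen (s * δ x y) < dlen (δ x y)) :
    ∃ z ∈ FixSet δ τ, δ x z = s ∧ δ z y = s * δ x y := by
  obtain ⟨z, hz1, hz2⟩ := hδ.conv x y s hs hlt
  refine ⟨z, ?_, hz1, hz2⟩
  show δ z (τ z) = 1
  -- distances of `τ z`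
  have e1 : δ x (τ z) = s := by
    rw [hδ.one_left x (τ x) hx (τ z), hτ, hz1]
  have e2 : δ (τ z) y = s * δ x y := by
    rw [hδ.one_right hy (τ z), hτ, hz2]
  have e3 : δ z x = s := by rw [hδ.symm x z, hz1, hs.inv]
  rcases hδ.step z x (τ z) (by rw [e1]; exact hs) with h | ⟨h, -⟩
  · rw [h, e3, e1, hs.sq]
  · exfalso
    rw [e3] at h
    -- `δ z (τ z) = s`
    have e4 : δ y z = (s * δ x y)⁻¹ := by rw [hδ.symm z y, hz2]
    have e5 : δ y (τ z) = (s * δ x y)⁻¹ := by rw [hδ.symm (τ z) y, e2]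
    have hlen : dlen ((s * δ x y)⁻¹) < dlen ((s * δ x y)⁻¹ * s) := by
      rw [hs.conj, hs.cancel, dl_inv]
      exact hlt
    rcases hδ.step y z (τ z) (by rw [h]; exact hs) with h' | ⟨-, h'⟩
    · rw [e5, e4, h] at h'
      have : s = 1 := by
        have := congrArg (fun t => (s * δ x y) * t) h'
        simpa using this.symm
      exact hs.ne_one this
    · rw [e4, h] at h'
      omega

/-- concatenation of minimal galleries without cancellation at the junction -/
theorem junction (hδ : WSp δ) (hτ : ∀ x y, δ (τ x) (τ y) = δ x y)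
    (hopp : ∀ x ∈ FixSet δ τ, ∀ y ∈ FixSet δ τ, δ x y ≠ r 4) :
    ∀ n : ℕ, ∀ y ∈ FixSet δ τ, ∀ x ∈ FixSet δ τ, ∀ x' ∈ FixSet δ τ, dlen (δ x x') = n →
      (∀ s, IsGen s → ¬ (dlen (δ y x * s) < dlen (δ y x) ∧ dlen (s * δ x x') < dlen (δ x x'))) →
      δ y x' = δ y x * δ x x' ∧ dlen (δ y x * δ x x') = dlen (δ y x) + dlen (δ x x') := by
  intro n
  induction n with
  | zero =>
    intro y _ x _ x' _ hn _
    have h1 : δ x x' = 1 := dlen_eq_zero _ hn
    rw [h1, mul_one, dl_one, add_zero]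
    exact ⟨(hδ.one_right h1 y).symm, rfl⟩
  | succ n ih =>
    intro y hy x hx x' hx' hn hj
    have hne : δ x x' ≠ 1 := by
      intro h
      rw [h, dl_one] at hn
      omega
    obtain ⟨s, hs, hsl⟩ := exists_first hne
    obtain ⟨x'', hx'', e1, e2⟩ := convY hδ hτ hx hx' hs (by omega)
    -- the distance from `y` to `x''`
    have hnot : ¬ dlen (δ y x * s) < dlen (δ y x) := fun h => hj s hs ⟨h, by omega⟩
    have e3 : δ y x'' = δ y x * s := by
      rcases hδ.step y x x'' (by rw [e1]; exact hs) with h | ⟨-, h⟩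
      · rw [h, e1]
      · rw [e1] at h
        exact absurd h hnot
    have e4 : dlen (δ y x * s) = dlen (δ y x) + 1 := by
      rcases hs.right (δ y x) with h | h
      · exact h
      · omega
    have h7 : dlen (δ y x * s) ≤ 7 := by
      rw [← e3]
      exact dlen_le_seven (hopp y hy x'' hx'')
    have hn' : dlen (δ x'' x') = n := by
      rw [e2]
      omega
    have hj' : ∀ s', IsGen s' → ¬ (dlen (δ y x'' * s') < dlen (δ y x'') ∧
        dlen (s' * δ x'' x') < dlen (δ x'' x')) := by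
      intro s' hs' ⟨h1, h2⟩
      rw [e3] at h1
      rw [e2] at h2
      have h3 : dlen (δ y x * s * s) < dlen (δ y x * s) := by
        rw [mul_assoc, hs.sq, mul_one]
        omega
      have : s = s' := ends_unique hs hs' h7 h3 h1
      subst this
      rw [hs.cancel] at h2
      omega
    obtain ⟨r1, r2⟩ := ih y hy x'' hx'' x' hx' hn' hj'
    rw [e3, e2, mul_assoc, hs.cancel] at r1 r2
    refine ⟨r1, ?_⟩
    rw [r2]
    omega


/-- the centre: a fixed point `x` and a generator `s` such that every automorphism preserving the fixed set moves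
`x` inside its `s`-panel -/
theorem center_exists (hδ : WSp δ) (hτ : ∀ x y, δ (τ x) (τ y) = δ x y)
    (hne : (FixSet δ τ).Nonempty)
    (hopp : ∀ x ∈ FixSet δ τ, ∀ y ∈ FixSet δ τ, δ x y ≠ r 4) :
    ∃ x ∈ FixSet δ τ, ∃ s, IsGen s ∧ ∀ γ γ' : X → X, (∀ x y, δ (γ x) (γ y) = δ x y) →
      (∀ y ∈ FixSet δ τ, γ y ∈ FixSet δ τ) → (∀ y ∈ FixSet δ τ, γ' y ∈ FixSet δ τ) →
      (∀ y, γ (γ' y) = y) → (δ x (γ x) = 1 ∨ δ x (γ x) = s) := by
  classical
  obtain ⟨x0, hx0⟩ := hne
  -- the minimal radius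
  have hex : ∃ r : ℕ, ∃ x ∈ FixSet δ τ, ∀ y ∈ FixSet δ τ, dlen (δ y x) ≤ r :=
    ⟨8, x0, hx0, fun y _ => dlen_le _⟩
  obtain ⟨z0, hz0Y, hz0⟩ := Nat.find_spec hex
  have hmin : ∀ r < Nat.find hex, ¬ ∃ x ∈ FixSet δ τ, ∀ y ∈ FixSet δ τ, dlen (δ y x) ≤ r :=
    fun r hr => Nat.find_min hex hr
  set r0 := Nat.find hex with hr0
  -- two central points are at distance at most one
  have claim1 : ∀ z ∈ FixSet δ τ, (∀ y ∈ FixSet δ τ, dlen (δ y z) ≤ r0) → ∀ z' ∈ FixSet δ τ,
      (∀ y ∈ FixSet δ τ, dlen (δ y z') ≤ r0) → dlen (δ z z') ≤ 1 := by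
    intro z hzY hz z' hz'Y hz'
    by_contra hk
    have hk2 : 2 ≤ dlen (δ z z') := by omega
    have hkr : dlen (δ z z') ≤ r0 := hz' z hzY
    have hne1 : δ z z' ≠ 1 := by
      intro h
      rw [h, dl_one] at hk2
      omega
    obtain ⟨s, hs, hsl⟩ := exists_first hne1
    obtain ⟨x1, hx1, e1, e2⟩ := convY hδ hτ hzY hz'Y hs (by omega)
    have e3 : δ x1 z = s := by rw [hδ.symm z x1, e1, hs.inv]
    apply hmin (r0 - 1) (by omega)
    refine ⟨x1, hx1, ?_⟩
    intro y hy
    rcases hs.right (δ y x1) with hA | hB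
    · -- `δ y x1` does not end with `s`
      have e4 : δ y z = δ y x1 * s := by
        rcases hδ.step y x1 z (by rw [e3]; exact hs) with h | ⟨-, h⟩
        · rw [h, e3]
        · rw [e3] at h
          omega
      have := hz y hy
      rw [e4, hA] at this
      omega
    · -- `δ y x1` ends with `s`
      have h7 : dlen (δ y x1) ≤ 7 := dlen_le_seven (hopp y hy x1 hx1)
      have hj : ∀ s', IsGen s' → ¬ (dlen (δ y x1 * s') < dlen (δ y x1) ∧
          dlen (s' * δ x1 z') < dlen (δ x1 z')) := by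
        intro s' hs' ⟨h1, h2⟩
        have : s = s' := ends_unique hs hs' h7 (by omega) h1
        subst this
        rw [e2, hs.cancel] at h2
        omega
      obtain ⟨r1, r2⟩ := junction hδ hτ hopp _ y hy x1 hx1 z' hz'Y rfl hj
      have := hz' y hy
      rw [r1, r2, e2] at this
      omega
  -- all central points lie in one panel through `z0`
  have claim2 : ∃ s, IsGen s ∧ ∀ z ∈ FixSet δ τ, (∀ y ∈ FixSet δ τ, dlen (δ y z) ≤ r0) →
      (δ z0 z = 1 ∨ δ z0 z = s) := by
    by_cases h : ∀ z ∈ FixSet δ τ, (∀ y ∈ FixSet δ τ, dlen (δ y z) ≤ r0) →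
        (δ z0 z = 1 ∨ δ z0 z = sr 0)
    · exact ⟨sr 0, Or.inl rfl, h⟩
    · push_neg at h
      obtain ⟨z1, hz1Y, hz1, hn1, hn2⟩ := h
      have hz1s : δ z0 z1 = sr 1 := by
        rcases dl_le_one _ (claim1 z0 hz0Y hz0 z1 hz1Y hz1) with h | h | h
        · exact absurd h hn1
        · exact absurd h hn2
        · exact h
      refine ⟨sr 1, Or.inr rfl, ?_⟩
      intro z hzY hz
      rcases dl_le_one _ (claim1 z0 hz0Y hz0 z hzY hz) with h | h | h
      · exact Or.inl h
      · exfalso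
        have e3 : δ z z0 = sr 0 := by rw [hδ.symm z0 z, h, gen_inv.1]
        have e4 : δ z z1 = sr 0 * sr 1 := by
          rcases hδ.step z z0 z1 (by rw [hz1s]; exact Or.inr rfl) with h' | ⟨-, h'⟩
          · rw [h', e3, hz1s]
          · rw [e3, hz1s, dl_two.1, dl_gen.1] at h'
            omega
        have := claim1 z hzY hz z1 hz1Y hz1
        rw [e4, dl_two.1] at this
        omega
      · exact Or.inr h
  obtain ⟨s, hs, hc2⟩ := claim2
  refine ⟨z0, hz0Y, s, hs, ?_⟩
  intro γ γ' hγ hγY hγ'Y hinv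
  apply hc2 (γ z0) (hγY z0 hz0Y)
  intro y hy
  have : δ y (γ z0) = δ (γ' y) z0 := by
    conv_lhs => rw [← hinv y]
    exact hγ _ _
  rw [this]
  exact hz0 _ (hγ'Y y hy)

end

end Cfsg.Agent.Lib.Helper3.BT2
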