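import Mathlib
import Cfsg.Agent.Lib.Helper3.BT2Tree
import Cfsg.Agent.Lib.Helper3.F4InvA1
import Cfsg.Agent.Lib.Helper4.BNPair2

set_option autoImplicit false
set_option maxHeartbeats 4000000

/-!
# BT2 (towards S2369): Borel-Tits for one involution in a group with a `(B, N)`-pair whose Weyl group is `D₁₆`

If `B ∩ B^{n₀}` is contained in `N`, `B ∩ N` has no involutions and `t ∈ B` is an involution, then the centralizer of
`t` lies in a conjugate of a minimal parabolic subgroup `⟨B, s⟩`.
-/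

namespace Cfsg.Agent.Lib.Helper3.BT2

open Cfsg Cfsg.Agent.Lib.Helper4.BNAbstract Cfsg.Agent.Lib.Helper4.BNPair DihedralGroup
  Cfsg.Agent.Lib.Helper3.F4Inv

variable {G : Type*} [Group G] (P : BNPair G)

/-- the Bruhat cell of `g` -/
noncomputable def cellOf (g : G) : W P := Classical.choose (exists_Cw (P := P) g)

theorem mem_cellOf (g : G) : g ∈ Cw P (cellOf P g) := Classical.choose_spec (exists_Cw (P := P) g)

variable {P}

theorem cellOf_eq {g : G} {w : W P} (h : g ∈ Cw P w) : cellOf P g = w := Cw_inj (mem_cellOf P g) h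

theorem cellOf_of_mem_B {g : G} (h : g ∈ P.B) : cellOf P g = 1 := by
  apply cellOf_eq
  rw [Cw_one]
  exact h

theorem mem_B_of_cellOf {g : G} (h : cellOf P g = 1) : g ∈ P.B := by
  have := mem_cellOf P g
  rw [h, Cw_one] at this
  exact this

theorem SW_sq {s : W P} (hs : s ∈ SW P) : s * s = 1 := by
  obtain ⟨s0, hs0, rfl⟩ := hs
  exact π_S_sq hs0

theorem SW_inv {s : W P} (hs : s ∈ SW P) : s⁻¹ = s := inv_eq_of_mul_eq_one_right (SW_sq hs)

theorem SW_ne_one {s : W P} (hs : s ∈ SW P) : s ≠ 1 := by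
  obtain ⟨s0, hs0, rfl⟩ := hs
  exact π_S_ne_one hs0

variable (P) (a b : G) (hS : P.S = {a, b}) (hord : orderOf (π P a * π P b) = 8)

/-- the `W`-valued distance on `G` -/
noncomputable def dist (g h : G) : DihedralGroup 8 := f4_e P a b hS hord (cellOf P (g⁻¹ * h))

theorem dist_eq_one_iff (g h : G) : dist P a b hS hord g h = 1 ↔ g⁻¹ * h ∈ P.B := by
  unfold dist
  rw [map_eq_one_iff _ (f4_e P a b hS hord).injective]
  exact ⟨mem_B_of_cellOf, cellOf_of_mem_B⟩

/-- the generators of `W` -/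
theorem gen_mem_SW {w : W P} (h : IsGen (f4_e P a b hS hord w)) : w ∈ SW P := by
  rcases h with h | h
  · rw [← f4_e_a P a b hS hord] at h
    rw [(f4_e P a b hS hord).injective h]
    exact π_mem_SW (f4_a_mem P a b hS)
  · rw [← f4_e_b P a b hS hord] at h
    rw [(f4_e P a b hS hord).injective h]
    exact π_mem_SW (f4_b_mem P a b hS)

/-- the right multiplication rule -/
theorem mul_right_rule {s w : W P} (hs : s ∈ SW P) {g g' : G} (hg : g ∈ Cw P w) (hg' : g' ∈ Cw P s)
    (hlen : dlen (f4_e P a b hS hord w) < dlen (f4_e P a b hS hord w * f4_e P a b hS hord s)) :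
    g * g' ∈ Cw P (w * s) := by
  have h1 : g'⁻¹ ∈ Cw P s := by
    have := Cw_inv hg'
    rwa [SW_inv hs] at this
  have h2 : g⁻¹ ∈ Cw P w⁻¹ := Cw_inv hg
  have h3 : w⁻¹ ∈ Ps P s := by
    rw [f4_mem_Ps P a b hS hord s hs, map_inv, dl_inv]
    have : f4_e P a b hS hord s * (f4_e P a b hS hord w)⁻¹
        = (f4_e P a b hS hord w * f4_e P a b hS hord s)⁻¹ := by
      rw [mul_inv_rev, ← map_inv _ s, SW_inv hs]
    rw [this, dl_inv]
    exact hlen
  have h4 := Cw_inv (h3 _ h1 _ h2)
  have e1 : (g'⁻¹ * g⁻¹)⁻¹ = g * g' := by group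
  have e2 : (s * w⁻¹)⁻¹ = w * s := by rw [mul_inv_rev, inv_inv, SW_inv hs]
  rwa [e1, e2] at h4

theorem wsp : WSp (dist P a b hS hord) where
  refl := by
    intro x
    rw [dist_eq_one_iff, inv_mul_cancel]
    exact one_mem _
  one_left := by
    intro x y h z
    rw [dist_eq_one_iff] at h
    unfold dist
    congr 1
    apply cellOf_eq
    have : x⁻¹ * z = (x⁻¹ * y) * (y⁻¹ * z) := by group
    rw [this]
    exact Cw_closed_left h (mem_cellOf P _)
  symm := by
    intro x y
    unfold dist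
    rw [← map_inv]
    congr 1
    apply cellOf_eq
    have : y⁻¹ * x = (x⁻¹ * y)⁻¹ := by group
    rw [this]
    exact Cw_inv (mem_cellOf P _)
  step := by
    intro x y z hgen
    have hs : cellOf P (y⁻¹ * z) ∈ SW P := gen_mem_SW P a b hS hord hgen
    have h1 := mem_cellOf P (x⁻¹ * y)
    have h2 := mem_cellOf P (y⁻¹ * z)
    have e : x⁻¹ * z = (x⁻¹ * y) * (y⁻¹ * z) := by group
    rcases T3wr hs h1 h2 with h | h
    · left
      unfold dist
      rw [← map_mul]
      congr 1
      apply cellOf_eq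
      rw [e]
      exact h
    · right
      have e1 : dist P a b hS hord x z = dist P a b hS hord x y := by
        unfold dist
        congr 1
        apply cellOf_eq
        rw [e]
        exact h
      refine ⟨e1, ?_⟩
      by_contra hnot
      have hlen : dlen (dist P a b hS hord x y) <
          dlen (dist P a b hS hord x y * dist P a b hS hord y z) := by
        rcases IsGen.right hgen (dist P a b hS hord x y) with h' | h'
        · omega
        · omega
      have h3 := mul_right_rule P a b hS hord hs h1 h2 hlen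
      have h4 := Cw_inj h h3
      have : cellOf P (y⁻¹ * z) = 1 := by
        have := congrArg (fun t => (cellOf P (x⁻¹ * y))⁻¹ * t) h4
        simpa using this.symm
      exact SW_ne_one hs this
  conv := by
    intro x y s' hs' _
    set s : W P := (f4_e P a b hS hord).symm s' with hsdef
    have hes : f4_e P a b hS hord s = s' := by rw [hsdef, MulEquiv.apply_symm_apply]
    have hs : s ∈ SW P := gen_mem_SW P a b hS hord (by rw [hes]; exact hs')
    obtain ⟨w0, hw0, h1⟩ : ∃ w0, cellOf P (x⁻¹ * y) = w0 ∧ x⁻¹ * y ∈ Cw P w0 :=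
      ⟨_, rfl, mem_cellOf P _⟩
    have e : w0 = s * (s * w0) := by
      rw [← mul_assoc, SW_sq hs, one_mul]
    rw [e] at h1
    obtain ⟨u, hu, v, hv, huv⟩ := exists_mul_of_mem_Cw_mul h1
    have e1 : x⁻¹ * (x * u) = u := by group
    have e2 : (x * u)⁻¹ * y = v := by
      have : (x * u)⁻¹ * y = u⁻¹ * (x⁻¹ * y) := by group
      rw [this, huv]
      group
    refine ⟨x * u, ?_, ?_⟩
    · unfold dist
      rw [← hes, e1]
      congr 1
      exact cellOf_eq hu
    · unfold dist
      rw [hw0, ← hes, ← map_mul, e2]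
      congr 1
      exact cellOf_eq hv

include hS hord in
/-- **BT2**: the centralizer of an involution `t ∈ B` lies in a conjugate of a minimal parabolic subgroup. -/
theorem cent_le_parabolic
    (hOpp : ∀ c ∈ P.B, (a * b) ^ 4 * c * ((a * b) ^ 4)⁻¹ ∈ P.B → c ∈ P.N)
    (hH : ∀ c ∈ P.B ⊓ P.N, c * c = 1 → c = 1)
    (t : G) (htB : t ∈ P.B) (ht : t * t = 1) (ht1 : t ≠ 1) :
    ∃ x : G, ∃ s ∈ P.S, ∀ g : G, g * t = t * g → x⁻¹ * g * x ∈ P.parabolic {s} := by
  have haS := f4_a_mem P a b hS
  have hbS := f4_b_mem P a b hS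
  have haN : a ∈ P.N := S_mem_N haS
  have hbN : b ∈ P.N := S_mem_N hbS
  have hn0 : (a * b) ^ 4 ∈ P.N := pow_mem (mul_mem haN hbN) 4
  have hδ := wsp P a b hS hord
  set τ : G → G := fun g => t * g with hτdef
  have hτ : ∀ x y, dist P a b hS hord (τ x) (τ y) = dist P a b hS hord x y := by
    intro x y
    unfold dist
    have : (τ x)⁻¹ * τ y = x⁻¹ * y := by
      simp only [hτdef]
      group
    rw [this]
  have hfix : ∀ x, x ∈ FixSet (dist P a b hS hord) τ ↔ x⁻¹ * t * x ∈ P.B := by
    intro x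
    show dist P a b hS hord x (τ x) = 1 ↔ _
    rw [dist_eq_one_iff]
    simp only [hτdef, mul_assoc]
  have hne : (FixSet (dist P a b hS hord) τ).Nonempty := by
    refine ⟨1, ?_⟩
    rw [hfix]
    simpa using htB
  have hopp : ∀ x ∈ FixSet (dist P a b hS hord) τ, ∀ y ∈ FixSet (dist P a b hS hord) τ,
      dist P a b hS hord x y ≠ r 4 := by
    intro x hx y hy h
    rw [hfix] at hx hy
    -- the cell of `x⁻¹ y` is that of `n₀`
    have e1 : f4_e P a b hS hord (π P ((a * b) ^ 4)) = r 4 := by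
      rw [f4_π_pow P (mul_mem haN hbN), π_mul haN hbN, map_pow, map_mul, f4_e_a, f4_e_b]
      decide
    have e2 : cellOf P (x⁻¹ * y) = π P ((a * b) ^ 4) := by
      apply (f4_e P a b hS hord).injective
      rw [e1]
      exact h
    have h1 := mem_cellOf P (x⁻¹ * y)
    rw [e2, Cw_π hn0, mem_C] at h1
    obtain ⟨b1, hb1, b2, hb2, e3⟩ := h1
    -- `c = b1⁻¹ (x⁻¹ t x) b1`
    set c := b1⁻¹ * (x⁻¹ * t * x) * b1 with hc
    have hcB : c ∈ P.B := mul_mem (mul_mem (inv_mem hb1) hx) hb1
    set c' := ((a * b) ^ 4)⁻¹ * c * (a * b) ^ 4 with hc'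
    have hy' : y = x * (b1 * (a * b) ^ 4 * b2) := by
      rw [← e3]
      group
    have hc'B : c' ∈ P.B := by
      have : c' = b2 * (y⁻¹ * t * y) * b2⁻¹ := by
        rw [hc', hc, hy']
        group
      rw [this]
      exact mul_mem (mul_mem hb2 hy) (inv_mem hb2)
    have hc'N : c' ∈ P.N := by
      apply hOpp c' hc'B
      have : (a * b) ^ 4 * c' * ((a * b) ^ 4)⁻¹ = c := by
        rw [hc']
        group
      rw [this]
      exact hcB
    have hcc : c * c = 1 := by
      have : c * c = b1⁻¹ * (x⁻¹ * (t * t) * x) * b1 := by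
        rw [hc]
        group
      rw [this, ht]
      group
    have hc'c' : c' * c' = 1 := by
      have : c' * c' = ((a * b) ^ 4)⁻¹ * (c * c) * (a * b) ^ 4 := by
        rw [hc']
        group
      rw [this, hcc]
      group
    have hc'1 : c' = 1 := hH c' ⟨hc'B, hc'N⟩ hc'c'
    have hc1 : c = 1 := by
      have : c = (a * b) ^ 4 * c' * ((a * b) ^ 4)⁻¹ := by
        rw [hc']
        group
      rw [this, hc'1]
      group
    apply ht1
    have : t = x * (b1 * c * b1⁻¹) * x⁻¹ := by
      rw [hc]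
      group
    rw [this, hc1]
    group
  obtain ⟨x, hxY, s', hs', hcen⟩ := center_exists hδ hτ hne hopp
  -- the generator
  obtain ⟨s0, hs0S, hs0⟩ : ∃ s0 ∈ P.S, f4_e P a b hS hord (π P s0) = s' := by
    rcases hs' with rfl | rfl
    · exact ⟨a, haS, f4_e_a P a b hS hord⟩
    · exact ⟨b, hbS, f4_e_b P a b hS hord⟩
  refine ⟨x, s0, hs0S, ?_⟩
  intro g hg
  have hgi : g⁻¹ * t = t * g⁻¹ := by
    have : g⁻¹ * t = g⁻¹ * (t * g) * g⁻¹ := by group
    rw [this, ← hg]
    group
  have hγ : ∀ (g : G), g * t = t * g → ∀ y ∈ FixSet (dist P a b hS hord) τ,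
      g * y ∈ FixSet (dist P a b hS hord) τ := by
    intro g hg y hy
    rw [hfix] at hy ⊢
    have : (g * y)⁻¹ * t * (g * y) = y⁻¹ * (g⁻¹ * (t * g)) * y := by group
    rw [this, ← hg]
    have : y⁻¹ * (g⁻¹ * (g * t)) * y = y⁻¹ * t * y := by group
    rw [this]
    exact hy
  have hpres : ∀ u v : G, dist P a b hS hord (g * u) (g * v) = dist P a b hS hord u v := by
    intro u v
    unfold dist
    have : (g * u)⁻¹ * (g * v) = u⁻¹ * v := by group
    rw [this]
  have key := hcen (fun y => g * y) (fun y => g⁻¹ * y) hpres (hγ g hg) (hγ g⁻¹ hgi)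
    (fun y => by group)
  have e0 : x⁻¹ * g * x = x⁻¹ * (g * x) := by group
  rw [e0]
  rcases key with h | h
  · rw [dist_eq_one_iff] at h
    exact B_le_parabolic (P := P) {s0} h
  · have e2 : cellOf P (x⁻¹ * (g * x)) = π P s0 := by
      apply (f4_e P a b hS hord).injective
      rw [hs0]
      exact h
    have h1 := mem_cellOf P (x⁻¹ * (g * x))
    rw [e2, Cw_π (S_mem_N hs0S)] at h1
    exact C_subset_parabolic (Subgroup.subset_closure (Set.mem_singleton s0)) h1

end Cfsg.Agent.Lib.Helper3.BT2
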