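import Mathlib
import Cfsg.Agent.Lib.Helper3.BT2BN
import Cfsg.Agent.Lib.Helper1.F4Inv.Defs
import Cfsg.Agent.Lib.Helper6.F4InvC1
import Cfsg.Agent.Lib.Helper6.F4InvC2

set_option autoImplicit false
set_option maxHeartbeats 4000000

/-!
# BT2 for `²F₄(q)` (towards S2369): the centralizer of an involution lies in a conjugate of a minimal parabolic
-/

namespace Cfsg.Agent.Lib.Helper3.BT2

open Cfsg Cfsg.Lie Cfsg.Agent.Lib.Helper5.ChevSym Cfsg.Agent.Lib.Helper5.ChevSymP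
  Cfsg.Agent.Lib.Helper5.ChevStruct Cfsg.Agent.Lib.Helper5.TwX
  Cfsg.Agent.Lib.Helper5.F4T Cfsg.Agent.Lib.Helper1.F4Out Cfsg.Agent.Lib.Helper1.F4Inv
  Cfsg.Agent.Lib.Helper6.F4Inv Cfsg.Agent.Lib.Helper4.BNPair

variable {K : Type*} [Field K] [Fintype K] [CharP K 2] (m : ℕ)
  (hq : ∀ x : K, x ^ 2 ^ (2 * m + 1) = x)

include hq in
/-- `H = B ∩ N` has odd order, hence no involutions -/
theorem h3_noinv : ∀ c ∈ (bnF m hq).B ⊓ (bnF m hq).N, c * c = 1 → c = 1 := by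
  intro c hc hcc
  have hodd := h6_bnF_H_odd m hq
  set H := (bnF m hq).B ⊓ (bnF m hq).N with hH
  have h1 : (⟨c, hc⟩ : ↥H) ^ 2 = 1 := by
    apply Subtype.ext
    show c ^ 2 = 1
    rw [pow_two, hcc]
  have h2 : orderOf (⟨c, hc⟩ : ↥H) ∣ 2 := orderOf_dvd_of_pow_eq_one h1
  have h3 : orderOf (⟨c, hc⟩ : ↥H) ∣ Nat.card ↥H := orderOf_dvd_natCard _
  have h4 : orderOf (⟨c, hc⟩ : ↥H) = 1 := by
    rcases (Nat.dvd_prime Nat.prime_two).1 h2 with h | h
    · exact h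
    · exfalso
      rw [h] at h3
      exact (Nat.not_even_iff_odd.2 hodd) (even_iff_two_dvd.2 h3)
  have := orderOf_eq_one_iff.1 h4
  exact congrArg Subtype.val this

include hq in
/-- Borel-Tits for one involution of `²F₄(q)` lying in `B` -/
theorem h3_cent_parabolic (t : ↥(fixG (K := K) m)) (htB : t ∈ (bnF m hq).B) (ht : t * t = 1)
    (ht1 : t ≠ 1) :
    ∃ x : ↥(fixG (K := K) m), ∃ s ∈ (bnF m hq).S, ∀ g : ↥(fixG (K := K) m), g * t = t * g →
      x⁻¹ * g * x ∈ (bnF m hq).parabolic {s} :=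
  cent_le_parabolic (bnF m hq) (a8 m hq) (b8 m hq) (h6_bnF_S m hq _ _ rfl rfl)
    (h6_bnF_ord m hq _ _ rfl rfl) (h6_bnF_opp m hq _ _ rfl rfl) (h3_noinv m hq) t htB ht ht1

include hq in
/-- every involution of `²F₄(q)` is conjugate into `B` (Sylow) -/
theorem h3_conj_mem_B (hK : Fintype.card K = 2 ^ (2 * m + 1)) (t : ↥(fixG (K := K) m))
    (ht : orderOf t = 2) : ∃ g : ↥(fixG (K := K) m), g * t * g⁻¹ ∈ (bnF m hq).B := by
  have : Fact (Nat.Prime 2) := ⟨Nat.prime_two⟩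
  have : Finite ↥(fixG (K := K) m) := inferInstance
  set U0 : Subgroup ↥(fixG (K := K) m) := (chevF4.posUnipotent K ⊓ fixG m).subgroupOf (fixG m)
    with hU0
  have hle : chevF4.posUnipotent K ⊓ fixG m ≤ fixG (K := K) m := inf_le_right
  have hcard : Nat.card ↥U0 = 2 ^ ((2 * m + 1) * 12) := by
    rw [Nat.card_congr (Subgroup.subgroupOfEquivOfLe hle).toEquiv, card_pos_fix m hq, hK, ← pow_mul]
  have hp : IsPGroup 2 ↥U0 := IsPGroup.of_card hcard
  have hidx : ¬ 2 ∣ U0.index := by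
    have h1 := U0.card_mul_index
    have h2 : U0.index = Nat.card ↥(fixG (K := K) m) / Nat.card ↥U0 := by
      rw [← h1, Nat.mul_div_cancel_left _ (by rw [hcard]; positivity)]
    rw [h2, Nat.card_congr (Subgroup.subgroupOfEquivOfLe hle).toEquiv]
    exact index_odd m hq hK
  let S0 : Sylow 2 ↥(fixG (K := K) m) := hp.toSylow hidx
  have hS0 : (S0 : Subgroup ↥(fixG (K := K) m)) = U0 := rfl
  -- a Sylow subgroup containing `t`
  have htp : IsPGroup 2 ↥(Subgroup.zpowers t) := by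
    apply IsPGroup.of_card (n := 1)
    rw [Nat.card_zpowers, ht, pow_one]
  obtain ⟨Q, hQ⟩ := htp.exists_le_sylow
  obtain ⟨g, hg⟩ := MulAction.exists_smul_eq ↥(fixG (K := K) m) Q S0
  refine ⟨g, ?_⟩
  have h1 : t ∈ (Q : Subgroup ↥(fixG (K := K) m)) := hQ (Subgroup.mem_zpowers t)
  have h2 : g * t * g⁻¹ ∈ ((g • Q : Sylow 2 ↥(fixG (K := K) m)) : Subgroup ↥(fixG (K := K) m)) := by
    rw [Sylow.coe_subgroup_smul]
    exact Subgroup.smul_mem_pointwise_smul t (MulAut.conj g) _ h1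
  rw [hg] at h2
  have h3 : g * t * g⁻¹ ∈ U0 := h2
  rw [hU0, Subgroup.mem_subgroupOf] at h3
  show _ ∈ (chevF4.borelSubgroup K ⊓ fixG m).subgroupOf (fixG m)
  rw [Subgroup.mem_subgroupOf]
  exact ⟨pos_le_borel chevF4 (Subgroup.mem_inf.1 h3).1, (Subgroup.mem_inf.1 h3).2⟩

end Cfsg.Agent.Lib.Helper3.BT2
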