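import Mathlib
import Cfsg.Agent.Lib.Helper3.BT2F4
import Cfsg.Agent.Lib.Helper5.F4T.Gen2
import Cfsg.Agent.Lib.Helper5.F4T.Finite

set_option autoImplicit false
set_option maxHeartbeats 4000000

/-!
# S2369 from BT2 and the orders of the minimal parabolic subgroups of `²F₄(q)`
-/

namespace Cfsg.Agent.Lib.Helper3.BT2

open Cfsg Cfsg.Lie Cfsg.Agent.Lib.Helper5.ChevSym Cfsg.Agent.Lib.Helper5.ChevSymP
  Cfsg.Agent.Lib.Helper5.ChevStruct Cfsg.Agent.Lib.Helper5.TwX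
  Cfsg.Agent.Lib.Helper5.F4T Cfsg.Agent.Lib.Helper1.F4Out Cfsg.Agent.Lib.Helper1.F4Inv
  Cfsg.Agent.Lib.Helper6.F4Inv Cfsg.Agent.Lib.Helper4.BNPair

variable {K : Type*} [Field K] [Fintype K] [CharP K 2] (m : ℕ)
  (hq : ∀ x : K, x ^ 2 ^ (2 * m + 1) = x)

include hq in
/-- the statement of S2369 inside `fixG m`, from the orders of the parabolic subgroups -/
theorem main_fix (hK : Fintype.card K = 2 ^ (2 * m + 1))
    (hN : ∀ s ∈ (bnF m hq).S, ∀ p : ℕ, p.Prime →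
      p ∣ Nat.card ↥((bnF m hq).parabolic {s}) → p ∣ 2 ^ (2 * m + 1) * ((2 ^ (2 * m + 1)) ^ 4 - 1))
    (a b : ↥(fixG (K := K) m)) (ha : orderOf a = 2) (hab : Commute a b) :
    (orderOf b).primeFactors ⊆ (2 ^ (2 * m + 1) * ((2 ^ (2 * m + 1)) ^ 4 - 1)).primeFactors := by
  have : Finite ↥(fixG (K := K) m) := inferInstance
  obtain ⟨g0, hg0⟩ := h3_conj_mem_B m hq hK a ha
  set t := g0 * a * g0⁻¹ with ht
  have haa : a * a = 1 := by
    rw [← pow_two, ← ha]
    exact pow_orderOf_eq_one a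
  have ha1 : a ≠ 1 := by
    intro h
    rw [h, orderOf_one] at ha
    omega
  have htt : t * t = 1 := by
    have : t * t = g0 * (a * a) * g0⁻¹ := by
      rw [ht]
      group
    rw [this, haa]
    group
  have ht1 : t ≠ 1 := by
    intro h
    apply ha1
    have : a = g0⁻¹ * t * g0 := by
      rw [ht]
      group
    rw [this, h]
    group
  obtain ⟨x, s, hs, hcen⟩ := h3_cent_parabolic m hq t hg0 htt ht1
  set b' := g0 * b * g0⁻¹ with hb'
  have hcomm : b' * t = t * b' := by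
    have h1 : b' * t = g0 * (b * a) * g0⁻¹ := by
      rw [hb', ht]
      group
    have h2 : t * b' = g0 * (a * b) * g0⁻¹ := by
      rw [hb', ht]
      group
    rw [h1, h2, hab.eq]
  have hc := hcen b' hcomm
  set c := x⁻¹ * b' * x with hcdef
  have hord : orderOf c = orderOf b := by
    have e1 : c = MulAut.conj (x⁻¹ * g0) b := by
      rw [MulAut.conj_apply, hcdef, hb']
      group
    rw [e1]
    exact (MulAut.conj (x⁻¹ * g0)).orderOf_eq b
  have hdvd : orderOf b ∣ Nat.card ↥((bnF m hq).parabolic {s}) := by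
    rw [← hord]
    have := orderOf_dvd_natCard (⟨c, hc⟩ : ↥((bnF m hq).parabolic {s}))
    rwa [Subgroup.orderOf_mk] at this
  intro p hp
  rw [Nat.mem_primeFactors] at hp ⊢
  obtain ⟨hpp, hpd, -⟩ := hp
  refine ⟨hpp, hN s hs p hpp (hpd.trans hdvd), ?_⟩
  have h1 : 2 ≤ 2 ^ (2 * m + 1) := by
    calc 2 = 2 ^ 1 := by norm_num
      _ ≤ 2 ^ (2 * m + 1) := Nat.pow_le_pow_right (by norm_num) (by omega)
  have h2 : 2 ^ 4 ≤ (2 ^ (2 * m + 1)) ^ 4 := Nat.pow_le_pow_left h1 4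
  have h3 : 0 < (2 ^ (2 * m + 1)) ^ 4 - 1 := by omega
  positivity

/-- the statement of S2369 for any subgroup equal to `fixG m` -/
theorem main_of_eq (hK : Fintype.card K = 2 ^ (2 * m + 1))
    (hN : ∀ s ∈ (bnF m hq).S, ∀ p : ℕ, p.Prime →
      p ∣ Nat.card ↥((bnF m hq).parabolic {s}) → p ∣ 2 ^ (2 * m + 1) * ((2 ^ (2 * m + 1)) ^ 4 - 1))
    (H : Subgroup (GL chevF4.Idx K)) (hH : H = fixG m)
    (a b : ↥H) (ha : orderOf a = 2) (hab : Commute a b) :
    (orderOf b).primeFactors ⊆ (2 ^ (2 * m + 1) * ((2 ^ (2 * m + 1)) ^ 4 - 1)).primeFactors := by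
  subst hH
  exact main_fix m hq hK hN a b ha hab

end Cfsg.Agent.Lib.Helper3.BT2
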