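import Mathlib

/-! S0889 (Berger): group-theoretic preparations. -/

set_option autoImplicit false
set_option maxHeartbeats 4000000
set_option maxRecDepth 100000
set_option linter.unusedVariables false
set_option linter.unusedSectionVars false
set_option linter.style.haveILetI false
set_option linter.deprecated false

namespace Cfsg.Agent.Lib.Helper3.Bg

open Subgroup
open scoped commutatorElement

universe u

section basic

variable {G : Type u} [Group G]

theorem le_normalizer_of_conj (T S : Subgroup G) (h : ∀ t ∈ T, ∀ s ∈ S, t * s * t⁻¹ ∈ S) :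
    T ≤ Subgroup.normalizer (S : Set G) := by
  intro t ht
  rw [Subgroup.mem_normalizer_iff]
  intro s
  constructor
  · exact h t ht s
  · intro hs
    have := h t⁻¹ (T.inv_mem ht) _ hs
    simpa [mul_assoc] using this

theorem normal_of_sup_eq_top (A B S : Subgroup G) (hAB : A ⊔ B = ⊤)
    (hA : ∀ t ∈ A, ∀ s ∈ S, t * s * t⁻¹ ∈ S) (hB : ∀ t ∈ B, ∀ s ∈ S, t * s * t⁻¹ ∈ S) :
    S.Normal := by
  rw [← Subgroup.normalizer_eq_top_iff]
  apply top_le_iff.mp
  rw [← hAB]
  exact sup_le (le_normalizer_of_conj A S hA) (le_normalizer_of_conj B S hB)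

end basic

/-- a chief factor above a proper normal subgroup of a finite solvable group -/
theorem exists_chief {X : Type u} [Group X] [Finite X] [hs : Group.IsSolvable X] (A : Subgroup X)
    [hA : A.Normal] (hAtop : A ≠ ⊤) :
    ∃ B : Subgroup X, B.Normal ∧ A ≤ B ∧ ¬ B ≤ A ∧
      (∀ C : Subgroup X, C.Normal → A ≤ C → C ≤ B → C = A ∨ C = B) ∧
      (∀ x ∈ B, ∀ y ∈ B, x * y * x⁻¹ * y⁻¹ ∈ A) ∧
      ∃ r i : ℕ, r.Prime ∧ A.relIndex B = r ^ i := by
  classical
  let f : X →* X ⧸ A := QuotientGroup.mk' A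
  have hf : Function.Surjective f := QuotientGroup.mk'_surjective A
  have hker : f.ker = A := QuotientGroup.ker_mk' A
  have hmem : ∀ x : X, x ∈ A ↔ f x = 1 := fun x => (QuotientGroup.eq_one_iff x).symm
  -- a minimal normal subgroup of the quotient
  let S : Set (Subgroup (X ⧸ A)) := {B | B.Normal ∧ B ≠ ⊥}
  have hSne : S.Nonempty := by
    refine ⟨⊤, inferInstance, ?_⟩
    intro htop
    apply hAtop
    rw [eq_top_iff]
    intro x _
    have h1 : f x ∈ (⊤ : Subgroup (X ⧸ A)) := Subgroup.mem_top _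
    rw [htop, Subgroup.mem_bot] at h1
    exact (hmem x).mpr h1
  obtain ⟨Bb, ⟨hBn, hBne⟩, hBmin⟩ := wellFounded_lt.has_min S hSne
  have hmin : ∀ C : Subgroup (X ⧸ A), C.Normal → C ≤ Bb → C = ⊥ ∨ C = Bb := by
    intro C hC hCB
    by_cases hC0 : C = ⊥
    · exact Or.inl hC0
    · right
      by_contra hne
      exact hBmin C ⟨hC, hC0⟩ (lt_of_le_of_ne hCB hne)
  -- abelian
  have hcomm : ∀ x ∈ Bb, ∀ y ∈ Bb, x * y = y * x := by
    have hD : ⁅Bb, Bb⁆ = ⊥ := by
      rcases hmin ⁅Bb, Bb⁆ inferInstance (Subgroup.commutator_le_right Bb Bb) with h | h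
      · exact h
      · exfalso
        have hall : ∀ n : ℕ, Bb ≤ derivedSeries (X ⧸ A) n := by
          intro n
          induction n with
          | zero => exact le_top
          | succ n ih =>
            rw [derivedSeries_succ]
            calc Bb = ⁅Bb, Bb⁆ := h.symm
              _ ≤ ⁅derivedSeries (X ⧸ A) n, derivedSeries (X ⧸ A) n⁆ :=
                Subgroup.commutator_mono ih ih
        obtain ⟨n, hn⟩ := (inferInstance : Group.IsSolvable (X ⧸ A)).solvable
        have := hall n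
        rw [hn, le_bot_iff] at this
        exact hBne this
    intro x hx y hy
    have h1 : ⁅x, y⁆ ∈ ⁅Bb, Bb⁆ := Subgroup.commutator_mem_commutator hx hy
    rw [hD, Subgroup.mem_bot, commutatorElement_def] at h1
    have h2 : x * y * x⁻¹ * y⁻¹ * y * x = y * x := by rw [h1, one_mul]
    simpa [mul_assoc] using h2
  -- a prime dividing the order
  have hcard1 : 1 < Nat.card Bb := (Subgroup.one_lt_card_iff_ne_bot Bb).mpr hBne
  let r := (Nat.card Bb).minFac
  have hr : r.Prime := Nat.minFac_prime (by omega)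
  haveI : Fact r.Prime := ⟨hr⟩
  have hrdvd : r ∣ Nat.card Bb := Nat.minFac_dvd _
  obtain ⟨x0, hx0⟩ := exists_prime_orderOf_dvd_card' r hrdvd
  let P : Subgroup (X ⧸ A) :=
    { carrier := {x | x ∈ Bb ∧ x ^ r = 1}
      one_mem' := ⟨Bb.one_mem, one_pow _⟩
      mul_mem' := by
        rintro a b ⟨ha, ha'⟩ ⟨hb, hb'⟩
        refine ⟨Bb.mul_mem ha hb, ?_⟩
        have hc : Commute a b := hcomm a ha b hb
        rw [hc.mul_pow, ha', hb', one_mul]
      inv_mem' := by
        rintro a ⟨ha, ha'⟩
        exact ⟨Bb.inv_mem ha, by rw [inv_pow, ha', inv_one]⟩ }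
  have hPn : P.Normal := by
    constructor
    rintro a ⟨ha, ha'⟩ g
    refine ⟨hBn.conj_mem a ha g, ?_⟩
    rw [conj_pow, ha', mul_one, mul_inv_cancel]
  have hPle : P ≤ Bb := fun a ha => ha.1
  have hPne : P ≠ ⊥ := by
    intro h0
    have h1 : (x0 : X ⧸ A) ∈ P := by
      refine ⟨x0.2, ?_⟩
      have : x0 ^ r = 1 := by rw [← hx0]; exact pow_orderOf_eq_one x0
      have h2 := congrArg (fun z : Bb => (z : X ⧸ A)) this
      simpa using h2
    rw [h0, Subgroup.mem_bot] at h1
    have h2 : x0 = 1 := Subtype.ext h1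
    rw [h2, orderOf_one] at hx0
    exact hr.one_lt.ne hx0
  have hPB : P = Bb := by
    rcases hmin P hPn hPle with h | h
    · exact absurd h hPne
    · exact h
  have hpow : ∀ x ∈ Bb, x ^ r = 1 := by
    intro x hx
    rw [← hPB] at hx
    exact hx.2
  have hpg : IsPGroup r Bb := by
    intro g
    refine ⟨1, ?_⟩
    apply Subtype.ext
    rw [pow_one]
    have := hpow g g.2
    simpa using this
  obtain ⟨i, hi⟩ := (IsPGroup.iff_card).mp hpg
  -- pull back
  refine ⟨Bb.comap f, hBn.comap f, ?_, ?_, ?_, ?_, r, i, hr, ?_⟩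
  · intro x hx
    rw [Subgroup.mem_comap, (hmem x).mp hx]
    exact Bb.one_mem
  · intro hle
    apply hBne
    rw [eq_bot_iff]
    intro y hy
    obtain ⟨x, rfl⟩ := hf y
    have hxA : x ∈ A := hle (Subgroup.mem_comap.mpr hy)
    rw [Subgroup.mem_bot]
    exact (hmem x).mp hxA
  · intro C hC hAC hCB
    have hCn : (C.map f).Normal := hC.map f hf
    have hCle : C.map f ≤ Bb := by
      rw [Subgroup.map_le_iff_le_comap]
      exact hCB
    have hcm : (C.map f).comap f = C := by
      rw [Subgroup.comap_map_eq, hker]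
      exact sup_eq_left.mpr hAC
    rcases hmin (C.map f) hCn hCle with h | h
    · left
      apply le_antisymm _ hAC
      intro x hx
      have h5 : f x ∈ C.map f := Subgroup.mem_map_of_mem f hx
      rw [h, Subgroup.mem_bot] at h5
      exact (hmem x).mpr h5
    · right
      rw [← hcm, h]
  · intro x hx y hy
    have h1 := hcomm (f x) hx (f y) hy
    rw [hmem]
    simp only [map_mul, map_inv]
    rw [h1]
    group
  · have h1 : A = (⊥ : Subgroup (X ⧸ A)).comap f := by
      rw [MonoidHom.comap_bot, hker]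
    have h2 : A.relIndex (Bb.comap f) = (⊥ : Subgroup (X ⧸ A)).relIndex ((Bb.comap f).map f) := by
      rw [← Subgroup.relIndex_comap _ f _]
      exact congrArg (fun S : Subgroup X => S.relIndex (Bb.comap f)) h1
    rw [h2, Subgroup.map_comap_eq_self_of_surjective hf, Subgroup.relIndex_bot_left, hi]

/-- a nontrivial fixed point modulo `N` of a `p`-section acting on a `p`-chief factor -/
theorem exists_fixed_mod {G : Type u} [Group G] [Finite G] (N : Subgroup G) [hN : N.Normal]
    (K L : Subgroup G) [hK : K.Normal] (hNK : N ≤ K) (hNL : N ≤ L) (hKN : ¬ K ≤ N)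
    (p : ℕ) (hp : p.Prime) (j i : ℕ) (hKp : N.relIndex K = p ^ j) (hLp : N.relIndex L = p ^ i) :
    ∃ k ∈ K, k ∉ N ∧ ∀ l ∈ L, l * k * l⁻¹ * k⁻¹ ∈ N := by
  classical
  haveI : Fact p.Prime := ⟨hp⟩
  let f : G →* G ⧸ N := QuotientGroup.mk' N
  have hf : Function.Surjective f := QuotientGroup.mk'_surjective N
  have hker : f.ker = N := QuotientGroup.ker_mk' N
  have hmem : ∀ x : G, x ∈ N ↔ f x = 1 := fun x => (QuotientGroup.eq_one_iff x).symm
  have h1 : N = (⊥ : Subgroup (G ⧸ N)).comap f := by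
    rw [MonoidHom.comap_bot, hker]
  have hcard : ∀ M : Subgroup G, N.relIndex M = Nat.card (M.map f) := by
    intro M
    have h2 : N.relIndex M = (⊥ : Subgroup (G ⧸ N)).relIndex (M.map f) := by
      rw [← Subgroup.relIndex_comap _ f _]
      exact congrArg (fun S : Subgroup G => S.relIndex M) h1
    rw [h2, Subgroup.relIndex_bot_left]
  let Kb : Subgroup (G ⧸ N) := K.map f
  let Lb : Subgroup (G ⧸ N) := L.map f
  haveI hKbn : Kb.Normal := hK.map f hf
  have hKb : Nat.card Kb = p ^ j := by rw [← hcard, hKp]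
  have hLb : Nat.card Lb = p ^ i := by rw [← hcard, hLp]
  have hLpg : IsPGroup p Lb := IsPGroup.of_card hLb
  have hKbne : Kb ≠ ⊥ := by
    intro h0
    apply hKN
    intro k hk
    have : f k ∈ Kb := Subgroup.mem_map_of_mem f hk
    rw [h0, Subgroup.mem_bot] at this
    exact (hmem k).mpr this
  have hj : j ≠ 0 := by
    intro h0
    rw [h0, pow_zero] at hKb
    have := (Subgroup.one_lt_card_iff_ne_bot Kb).mpr hKbne
    omega
  have hdvd : p ∣ Nat.card Kb := by
    rw [hKb]
    exact dvd_pow_self p hj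
  let φ : Lb →* MulAut Kb := (MulAut.conjNormal (H := Kb)).comp Lb.subtype
  letI : MulAction Lb Kb := MulAction.compHom Kb φ
  have hsmul : ∀ (l : Lb) (k : Kb), ((l • k : Kb) : G ⧸ N) = (l : G ⧸ N) * k * (l : G ⧸ N)⁻¹ := by
    intro l k
    rfl
  have h1f : (1 : Kb) ∈ MulAction.fixedPoints Lb Kb := by
    rw [MulAction.mem_fixedPoints]
    intro l
    apply Subtype.ext
    rw [hsmul]
    simp
  obtain ⟨b, hb, hb1⟩ := hLpg.exists_fixed_point_of_prime_dvd_card_of_fixed_point Kb hdvd h1f
  rw [MulAction.mem_fixedPoints] at hb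
  obtain ⟨k, hkK, hkb⟩ := Subgroup.mem_map.mp b.2
  refine ⟨k, hkK, ?_, ?_⟩
  · intro hkN
    apply hb1
    apply Subtype.ext
    rw [← hkb]
    exact ((hmem k).mp hkN).symm
  · intro l hl
    have h2 := hb ⟨f l, Subgroup.mem_map_of_mem f hl⟩
    have h3 := congrArg (fun z : Kb => (z : G ⧸ N)) h2
    simp only [hsmul] at h3
    rw [← hkb] at h3
    rw [hmem]
    simp only [map_mul, map_inv]
    rw [h3]
    exact mul_inv_cancel _

end Cfsg.Agent.Lib.Helper3.Bg
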