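import Mathlib
import Cfsg.Agent.Lib.Helper3.Bg1

/-! S0889 (Berger): the group-theoretic configuration around a maximal subgroup. -/

set_option autoImplicit false
set_option maxHeartbeats 4000000
set_option maxRecDepth 100000
set_option linter.unusedVariables false
set_option linter.unusedSectionVars false
set_option linter.style.haveILetI false
set_option linter.deprecated false

namespace Cfsg.Agent.Lib.Helper3.Bg

open Subgroup

universe u

/-- the configuration: `H` maximal with core `N`, `K/N` a chief factor of `G` (a `p`-group),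
`L/N` a chief factor of `H` (an `r`-group), `r ≠ p`. -/
structure Setup {G : Type u} [Group G] (H K L : Subgroup G) (p r j i : ℕ) : Prop where
  normalK : K.Normal
  le_K : H.normalCore ≤ K
  not_K_le : ¬ K ≤ H.normalCore
  comm_K : ∀ x ∈ K, ∀ y ∈ K, x * y * x⁻¹ * y⁻¹ ∈ H.normalCore
  prod : ∀ g : G, ∃ k ∈ K, ∃ h ∈ H, g = k * h
  inf_le : ∀ g, g ∈ H → g ∈ K → g ∈ H.normalCore
  index_eq : H.index = H.normalCore.relIndex K
  relIndex_K : H.normalCore.relIndex K = p ^ j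
  cent : ∀ h ∈ H, (∀ k ∈ K, h * k * h⁻¹ * k⁻¹ ∈ H.normalCore) → h ∈ H.normalCore
  le_L : H.normalCore ≤ L
  L_le : L ≤ H
  not_L_le : ¬ L ≤ H.normalCore
  normL : ∀ h ∈ H, ∀ l ∈ L, h * l * h⁻¹ ∈ L
  relIndex_L : H.normalCore.relIndex L = r ^ i
  hp : p.Prime
  hr : r.Prime
  hpr : p ≠ r

theorem exists_setup {G : Type u} [Group G] [Finite G] [Group.IsSolvable G] (H : Subgroup G)
    (hH : IsCoatom H) (hHN : ¬ H ≤ H.normalCore) :
    ∃ (K L : Subgroup G) (p r j i : ℕ), Setup H K L p r j i := by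
  classical
  obtain ⟨N, hNdef⟩ : ∃ N : Subgroup G, N = H.normalCore := ⟨_, rfl⟩
  haveI hNn : N.Normal := by rw [hNdef]; exact Subgroup.normalCore_normal H
  have hNH : N ≤ H := by rw [hNdef]; exact Subgroup.normalCore_le H
  have hcore : ∀ M : Subgroup G, M.Normal → M ≤ H → M ≤ N := by
    intro M hM hMH
    rw [hNdef]
    exact (Subgroup.normal_le_normalCore).mpr hMH
  have hNtop : N ≠ ⊤ := fun h => hH.1 (top_le_iff.mp (h ▸ hNH))
  obtain ⟨K, hKn, hNK, hKN, hKmin, hKcomm, p, j, hp, hKp⟩ := exists_chief N hNtop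
  haveI := hKn
  have hKH : ¬ K ≤ H := fun h => hKN (hcore K hKn h)
  have hsup : H ⊔ K = ⊤ := by
    by_contra hne
    have hlt : H < H ⊔ K := lt_of_le_of_ne le_sup_left (fun h => hKH (h ▸ le_sup_right))
    exact hne (hH.2 _ hlt)
  have hprod : ∀ g : G, ∃ k ∈ K, ∃ h ∈ H, g = k * h := by
    intro g
    have h1 : g ∈ ((K ⊔ H : Subgroup G) : Set G) := by
      rw [sup_comm, hsup]
      exact Set.mem_univ g
    rw [Subgroup.normal_mul] at h1
    obtain ⟨k, hk, h, hh, rfl⟩ := Set.mem_mul.mp h1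
    exact ⟨k, hk, h, hh, rfl⟩
  have hinfn : (H ⊓ K).Normal := by
    apply normal_of_sup_eq_top H K (H ⊓ K) hsup
    · intro t ht s hs
      exact ⟨H.mul_mem (H.mul_mem ht hs.1) (H.inv_mem ht), hKn.conj_mem s hs.2 t⟩
    · intro t ht s hs
      have hc : t * s * t⁻¹ * s⁻¹ ∈ N := hKcomm t ht s hs.2
      have h2 : t * s * t⁻¹ = (t * s * t⁻¹ * s⁻¹) * s := by group
      rw [h2]
      exact ⟨H.mul_mem (hNH hc) hs.1, K.mul_mem (hNK hc) hs.2⟩
  have hinf : H ⊓ K ≤ N := hcore _ hinfn inf_le_left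
  have hcent : ∀ h ∈ H, (∀ k ∈ K, h * k * h⁻¹ * k⁻¹ ∈ N) → h ∈ N := by
    intro c hc hck
    rw [hNdef]
    show ∀ b : G, b * c * b⁻¹ ∈ H
    intro g
    obtain ⟨k, hk, h, hh, rfl⟩ := hprod g
    have hk' : h⁻¹ * k * h ∈ K := by simpa using hKn.conj_mem k hk h⁻¹
    have h1 : c * (h⁻¹ * k * h) * c⁻¹ * (h⁻¹ * k * h)⁻¹ ∈ N := hck _ hk'
    have h2 : h * (c * (h⁻¹ * k * h) * c⁻¹ * (h⁻¹ * k * h)⁻¹) * h⁻¹ ∈ N := hNn.conj_mem _ h1 h
    have h3 : (h * (c * (h⁻¹ * k * h) * c⁻¹ * (h⁻¹ * k * h)⁻¹) * h⁻¹)⁻¹ ∈ N := N.inv_mem h2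
    have h4 : k * h * c * (k * h)⁻¹
        = (h * (c * (h⁻¹ * k * h) * c⁻¹ * (h⁻¹ * k * h)⁻¹) * h⁻¹)⁻¹ * (h * c * h⁻¹) := by group
    rw [h4]
    exact H.mul_mem (hNH h3) (H.mul_mem (H.mul_mem hh hc) (H.inv_mem hh))
  have hidx : H.index = N.relIndex K := by
    have h1 : K.relIndex (H ⊔ K) = K.relIndex H := Subgroup.relIndex_sup_right H K
    rw [hsup, Subgroup.relIndex_top_right] at h1
    have h2 : K.relIndex H = N.relIndex H := by
      rw [← Subgroup.inf_relIndex_right K H]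
      congr 1
      exact le_antisymm (by rw [inf_comm]; exact hinf) (le_inf hNK hNH)
    have h3 := Subgroup.relIndex_mul_index hNK
    have h4 := Subgroup.relIndex_mul_index hNH
    have h5 : N.relIndex H ≠ 0 := by
      unfold Subgroup.relIndex
      exact Subgroup.index_ne_zero_of_finite
    have h6 : N.relIndex H * H.index = N.relIndex H * N.relIndex K := by
      rw [h4, ← h3, h1, h2, mul_comm]
    exact Nat.eq_of_mul_eq_mul_left (Nat.pos_of_ne_zero h5) h6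
  -- the chief factor of `H`
  have hAn : (N.subgroupOf H).Normal := hNn.subgroupOf H
  have hAtop : N.subgroupOf H ≠ ⊤ := by
    intro h
    apply hHN
    rw [← hNdef]
    exact Subgroup.subgroupOf_eq_top.mp h
  obtain ⟨B, hBn, hAB, hBA, hBmin, hBcomm, r, i, hr, hBr⟩ :=
    exists_chief (X := H) (N.subgroupOf H) hAtop
  obtain ⟨L, hLdef⟩ : ∃ L : Subgroup G, L = B.map H.subtype := ⟨_, rfl⟩
  have hNL : N ≤ L := by
    have h1 : (N.subgroupOf H).map H.subtype ≤ B.map H.subtype := Subgroup.map_mono hAB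
    rw [Subgroup.map_subgroupOf_eq_of_le hNH] at h1
    rw [hLdef]
    exact h1
  have hLH : L ≤ H := by
    rw [hLdef]
    exact Subgroup.map_subtype_le B
  have hLN : ¬ L ≤ N := by
    intro h
    apply hBA
    intro b hb
    rw [Subgroup.mem_subgroupOf]
    apply h
    rw [hLdef]
    exact Subgroup.mem_map_of_mem _ hb
  have hnormL : ∀ h ∈ H, ∀ l ∈ L, h * l * h⁻¹ ∈ L := by
    intro h hh l hl
    rw [hLdef] at hl ⊢
    obtain ⟨b, hb, rfl⟩ := Subgroup.mem_map.mp hl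
    have h1 := hBn.conj_mem b hb ⟨h, hh⟩
    exact Subgroup.mem_map.mpr ⟨_, h1, by simp⟩
  have hLr : N.relIndex L = r ^ i := by
    rw [← hBr, hLdef]
    have h1 := Subgroup.relIndex_map_map_of_injective (N.subgroupOf H) B
      (Subgroup.subtype_injective H)
    rw [Subgroup.map_subgroupOf_eq_of_le hNH] at h1
    exact h1
  have hpr : p ≠ r := by
    intro hpr
    subst hpr
    obtain ⟨k0, hk0K, hk0N, hk0⟩ := exists_fixed_mod N K L hNK hNL hKN p hp j i hKp hLr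
    let F : Subgroup G :=
      { carrier := {k | k ∈ K ∧ ∀ l ∈ L, l * k * l⁻¹ * k⁻¹ ∈ N}
        one_mem' := ⟨K.one_mem, fun l _ => by simp [N.one_mem]⟩
        mul_mem' := by
          rintro a b ⟨ha, ha'⟩ ⟨hb, hb'⟩
          refine ⟨K.mul_mem ha hb, fun l hl => ?_⟩
          have h1 : l * (a * b) * l⁻¹ * (a * b)⁻¹
              = (l * a * l⁻¹ * a⁻¹) * (a * (l * b * l⁻¹ * b⁻¹) * a⁻¹) := by group
          rw [h1]
          exact N.mul_mem (ha' l hl) (hNn.conj_mem _ (hb' l hl) a)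
        inv_mem' := by
          rintro a ⟨ha, ha'⟩
          refine ⟨K.inv_mem ha, fun l hl => ?_⟩
          have h1 : l * a⁻¹ * l⁻¹ * a⁻¹⁻¹ = a⁻¹ * (l * a * l⁻¹ * a⁻¹)⁻¹ * a⁻¹⁻¹ := by group
          rw [h1]
          exact hNn.conj_mem _ (N.inv_mem (ha' l hl)) a⁻¹ }
    have hFmem : ∀ k, k ∈ F ↔ k ∈ K ∧ ∀ l ∈ L, l * k * l⁻¹ * k⁻¹ ∈ N := fun k => Iff.rfl
    have hFn : F.Normal := by
      apply normal_of_sup_eq_top H K F hsup
      · intro t ht s hs
        rw [hFmem] at hs ⊢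
        refine ⟨hKn.conj_mem s hs.1 t, fun l hl => ?_⟩
        have hl' : t⁻¹ * l * t ∈ L := by simpa using hnormL t⁻¹ (H.inv_mem ht) l hl
        have h1 := hs.2 _ hl'
        have h2 : l * (t * s * t⁻¹) * l⁻¹ * (t * s * t⁻¹)⁻¹
            = t * ((t⁻¹ * l * t) * s * (t⁻¹ * l * t)⁻¹ * s⁻¹) * t⁻¹ := by group
        rw [h2]
        exact hNn.conj_mem _ h1 t
      · intro t ht s hs
        rw [hFmem] at hs ⊢
        refine ⟨hKn.conj_mem s hs.1 t, fun l hl => ?_⟩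
        have hc : t * s * t⁻¹ * s⁻¹ ∈ N := hKcomm t ht s hs.1
        have h2 : l * (t * s * t⁻¹) * l⁻¹ * (t * s * t⁻¹)⁻¹
            = (l * (t * s * t⁻¹ * s⁻¹) * l⁻¹) * (l * s * l⁻¹ * s⁻¹) * (t * s * t⁻¹ * s⁻¹)⁻¹ := by
          group
        rw [h2]
        exact N.mul_mem (N.mul_mem (hNn.conj_mem _ hc l) (hs.2 l hl)) (N.inv_mem hc)
    have hNF : N ≤ F := by
      intro n hn
      rw [hFmem]
      refine ⟨hNK hn, fun l hl => ?_⟩
      exact N.mul_mem (hNn.conj_mem n hn l) (N.inv_mem hn)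
    have hFK : F ≤ K := fun k hk => hk.1
    have hFeq : F = K := by
      rcases hKmin F hFn hNF hFK with h | h
      · exfalso
        apply hk0N
        rw [← h, hFmem]
        exact ⟨hk0K, hk0⟩
      · exact h
    apply hLN
    intro l hl
    apply hcent l (hLH hl)
    intro k hk
    rw [← hFeq, hFmem] at hk
    exact hk.2 l hl
  refine ⟨K, L, p, r, j, i, ?_⟩
  subst hNdef
  exact ⟨hKn, hNK, hKN, hKcomm, hprod, fun g hg hk => hinf ⟨hg, hk⟩, hidx, hKp, hcent, hNL, hLH,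
    hLN, hnormL, hLr, hp, hr, hpr⟩

end Cfsg.Agent.Lib.Helper3.Bg
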