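import Mathlib
import Cfsg.Prelude.Def_Characters
import Cfsg.Prelude.Def_Blocks
import Cfsg.Agent.Lib.Helper3.CharTriple3
import Cfsg.Agent.Lib.Helper3.CharQuot
import Cfsg.Agent.Lib.Helper6.Linear

set_option autoImplicit false
set_option linter.unusedSectionVars false

/-!
# The linear character of the preimage of `N` in the central extension

On `A = π⁻¹(N) = Z × N₀` (with `Z = ker π` the scalars) we define the linear character
`lam (z · ι n) = (scalar of z)⁻¹`.  The character `ϑ` extends to `G` iff `lam` extends to `Γ`.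
-/

namespace Cfsg.Agent.Lib.Helper3.CharTriple

open Cfsg.Agent.Lib.Helper6 Module

universe u v

variable {G : Type u} [Group G] [Finite G] (N : Subgroup G) [hN : N.Normal]
variable {V : Type v} [AddCommGroup V] [Module ℂ V] [FiniteDimensional ℂ V]
variable (ρ : Representation ℂ N V) [hirr : ρ.IsIrreducible]

theorem scal_eq (z : Gam N ρ (Nat.card N)) :
    scal N ρ (Nat.card N) z = hatChar N ρ (Nat.card N) z / (finrank ℂ V : ℂ) := rfl

theorem finrank_ne_zero (ρ : Representation ℂ N V) [ρ.IsIrreducible] :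
    (finrank ℂ V : ℂ) ≠ 0 := by
  have := finrank_pos_of_isIrreducible ρ
  exact_mod_cast this.ne'

theorem scal_one : scal N ρ (Nat.card N) 1 = 1 := by
  rw [scal_eq, hatChar_one, div_self (finrank_ne_zero N ρ)]

theorem scal_mul_of_pr1_eq_one (z γ : Gam N ρ (Nat.card N)) (hz : pr1 N ρ (Nat.card N) z = 1) :
    scal N ρ (Nat.card N) (z * γ) = scal N ρ (Nat.card N) z * scal N ρ (Nat.card N) γ := by
  rw [scal_eq, scal_eq N ρ γ, hatChar_mul_of_pr1_eq_one N ρ _ z γ hz, mul_div_assoc]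

/-- the preimage of `N` -/
noncomputable abbrev preN : Subgroup (Gam N ρ (Nat.card N)) := N.comap (pr1 N ρ (Nat.card N))

/-- the scalar part of an element of the preimage of `N` -/
noncomputable def zOf (a : preN N ρ) : Gam N ρ (Nat.card N) :=
  (a : Gam N ρ (Nat.card N)) * (incl N ρ ⟨pr1 N ρ (Nat.card N) a, a.2⟩)⁻¹

theorem pr1_zOf (a : preN N ρ) : pr1 N ρ (Nat.card N) (zOf N ρ a) = 1 := by
  unfold zOf
  rw [map_mul, map_inv, pr1_incl]
  exact mul_inv_cancel _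

theorem eq_zOf_mul (a : preN N ρ) :
    (a : Gam N ρ (Nat.card N)) = zOf N ρ a * incl N ρ ⟨pr1 N ρ (Nat.card N) a, a.2⟩ := by
  unfold zOf
  rw [inv_mul_cancel_right]

theorem zOf_mul (a b : preN N ρ) : zOf N ρ (a * b) = zOf N ρ a * zOf N ρ b := by
  have hb := pr1_zOf N ρ b
  have hcomm : ∀ γ : Gam N ρ (Nat.card N), zOf N ρ b * γ = γ * zOf N ρ b :=
    fun γ => mul_comm_of_pr1_eq_one N ρ _ (zOf N ρ b) γ hb
  have h1 : (⟨pr1 N ρ (Nat.card N) ((a * b : preN N ρ) : Gam N ρ (Nat.card N)), (a * b).2⟩ : N)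
      = ⟨pr1 N ρ (Nat.card N) a, a.2⟩ * ⟨pr1 N ρ (Nat.card N) b, b.2⟩ := by
    apply Subtype.ext
    simp
  unfold zOf at *
  rw [h1, map_mul, mul_inv_rev, Subgroup.coe_mul]
  calc (a : Gam N ρ (Nat.card N)) * b * ((incl N ρ ⟨pr1 N ρ (Nat.card N) b, b.2⟩)⁻¹
        * (incl N ρ ⟨pr1 N ρ (Nat.card N) a, a.2⟩)⁻¹)
      = (a : Gam N ρ (Nat.card N)) * ((b : Gam N ρ (Nat.card N))
          * (incl N ρ ⟨pr1 N ρ (Nat.card N) b, b.2⟩)⁻¹)
          * (incl N ρ ⟨pr1 N ρ (Nat.card N) a, a.2⟩)⁻¹ := by group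
    _ = ((b : Gam N ρ (Nat.card N)) * (incl N ρ ⟨pr1 N ρ (Nat.card N) b, b.2⟩)⁻¹)
          * (a : Gam N ρ (Nat.card N)) * (incl N ρ ⟨pr1 N ρ (Nat.card N) a, a.2⟩)⁻¹ := by
        rw [← hcomm (a : Gam N ρ (Nat.card N))]
    _ = (a : Gam N ρ (Nat.card N)) * (incl N ρ ⟨pr1 N ρ (Nat.card N) a, a.2⟩)⁻¹
          * ((b : Gam N ρ (Nat.card N)) * (incl N ρ ⟨pr1 N ρ (Nat.card N) b, b.2⟩)⁻¹) := by
        rw [mul_assoc, hcomm]

/-- the monoid homomorphism `a ↦ scalar of a` -/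
noncomputable def lamM : preN N ρ →* ℂ where
  toFun a := scal N ρ (Nat.card N) (zOf N ρ a)
  map_one' := by
    have : zOf N ρ (1 : preN N ρ) = 1 := by
      unfold zOf
      have h1 : (⟨pr1 N ρ (Nat.card N) ((1 : preN N ρ) : Gam N ρ (Nat.card N)),
          (1 : preN N ρ).2⟩ : N) = 1 := by
        apply Subtype.ext
        simp
      rw [h1, map_one]
      simp
    rw [this, scal_one]
  map_mul' a b := by
    rw [zOf_mul, scal_mul_of_pr1_eq_one N ρ _ _ (pr1_zOf N ρ a)]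

/-- the linear character `lam` of the preimage of `N`, as a homomorphism -/
noncomputable def lamHom : preN N ρ →* ℂˣ := (lamM N ρ).toHomUnits⁻¹

theorem lamHom_apply (a : preN N ρ) :
    ((lamHom N ρ a : ℂˣ) : ℂ) = (scal N ρ (Nat.card N) (zOf N ρ a))⁻¹ := by
  unfold lamHom
  rw [MonoidHom.inv_apply, Units.val_inv_eq_inv_val]
  rfl

theorem zOf_of_pr1_eq_one (a : preN N ρ)
    (ha : pr1 N ρ (Nat.card N) (a : Gam N ρ (Nat.card N)) = 1) :
    zOf N ρ a = a := by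
  unfold zOf
  have h1 : (⟨pr1 N ρ (Nat.card N) (a : Gam N ρ (Nat.card N)), a.2⟩ : N) = 1 :=
    Subtype.ext ha
  rw [h1, map_one, inv_one, mul_one]

theorem zOf_incl (n : N) (h : incl N ρ n ∈ preN N ρ) : zOf N ρ ⟨incl N ρ n, h⟩ = 1 := by
  unfold zOf
  have h1 : (⟨pr1 N ρ (Nat.card N) (incl N ρ n), h⟩ : N) = n := Subtype.ext (pr1_incl N ρ n)
  simp only
  rw [h1, mul_inv_cancel]

/-- `zOf` is invariant under conjugation -/
theorem zOf_conj (γ : Gam N ρ (Nat.card N)) (a : preN N ρ)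
    (h : γ * (a : Gam N ρ (Nat.card N)) * γ⁻¹ ∈ preN N ρ) :
    zOf N ρ ⟨γ * (a : Gam N ρ (Nat.card N)) * γ⁻¹, h⟩ = zOf N ρ a := by
  -- γ (z ι(n)) γ⁻¹ = z (γ ι(n) γ⁻¹) and γ ι(n) γ⁻¹ = ι(n') with π(ι n') = π(γ a γ⁻¹)
  have hz := pr1_zOf N ρ a
  have hcomm := mul_comm_of_pr1_eq_one N ρ _ (zOf N ρ a) γ hz
  have hnorm : γ * incl N ρ ⟨pr1 N ρ (Nat.card N) a, a.2⟩ * γ⁻¹ ∈ (incl N ρ).range :=
    (incl_range_normal N ρ).conj_mem _ ⟨_, rfl⟩ γ
  obtain ⟨n', hn'⟩ := hnorm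
  have hdecomp : γ * (a : Gam N ρ (Nat.card N)) * γ⁻¹ = zOf N ρ a * incl N ρ n' := by
    rw [hn']
    conv_lhs => rw [eq_zOf_mul N ρ a]
    calc γ * (zOf N ρ a * incl N ρ ⟨pr1 N ρ (Nat.card N) a, a.2⟩) * γ⁻¹
        = (γ * zOf N ρ a) * incl N ρ ⟨pr1 N ρ (Nat.card N) a, a.2⟩ * γ⁻¹ := by group
      _ = (zOf N ρ a * γ) * incl N ρ ⟨pr1 N ρ (Nat.card N) a, a.2⟩ * γ⁻¹ := by rw [hcomm]
      _ = zOf N ρ a * (γ * incl N ρ ⟨pr1 N ρ (Nat.card N) a, a.2⟩ * γ⁻¹) := by group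
  have hpr : pr1 N ρ (Nat.card N) (γ * (a : Gam N ρ (Nat.card N)) * γ⁻¹) = n' := by
    rw [hdecomp, map_mul, hz, one_mul, pr1_incl]
  unfold zOf
  simp only
  have h1 : (⟨pr1 N ρ (Nat.card N) (γ * (a : Gam N ρ (Nat.card N)) * γ⁻¹), h⟩ : N) = n' :=
    Subtype.ext hpr
  rw [h1, hdecomp, mul_inv_cancel_right]
  rfl

end Cfsg.Agent.Lib.Helper3.CharTriple
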