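import Mathlib
import Cfsg.Agent.Lib.Helper3.Bg2
import Cfsg.Agent.Lib.Helper3.CharTriple4
import Cfsg.Agent.Lib.Helper3.LinExt
import Cfsg.Agent.Lib.Helper6.IndFunMore
import Cfsg.Agent.Lib.Helper6.CharMisc
import Cfsg.Agent.Lib.Helper6.Mult
import Cfsg.Agent.Lib.Helper6.Norm

/-! S0889 (Berger): general character-theoretic lemmas. -/

set_option autoImplicit false
set_option maxHeartbeats 4000000
set_option maxRecDepth 100000
set_option linter.unusedVariables false
set_option linter.unusedSectionVars false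
set_option linter.style.haveILetI false
set_option linter.deprecated false

namespace Cfsg.Agent.Lib.Helper3.Bg

open Subgroup Cfsg Cfsg.Agent.Lib.Helper6
open scoped ComplexConjugate

universe u

section surj

variable {Γ G : Type*} [Group Γ] [Group G] [Fintype Γ] [Fintype G]

theorem sum_comp_surj (f : Γ →* G) (hf : Function.Surjective f) (F : G → ℂ) :
    ∑ x : Γ, F (f x) = (Nat.card f.ker : ℂ) * ∑ g : G, F g := by
  classical
  rw [Finset.mul_sum]
  rw [← Finset.sum_fiberwise (s := Finset.univ) (g := fun x => f x) (f := fun x => F (f x))]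
  apply Finset.sum_congr rfl
  intro g _
  rw [Finset.sum_congr rfl (fun x hx => by rw [(Finset.mem_filter.mp hx).2])]
  rw [Finset.sum_const, nsmul_eq_mul]
  congr 2
  have h1 := MonoidHom.card_fiber_eq_of_mem_range f (x := g) (y := 1) (hf g) ⟨1, map_one f⟩
  rw [h1, Nat.card_eq_fintype_card, ← Fintype.card_subtype]
  exact Fintype.card_congr (Equiv.subtypeEquivRight (fun x => (MonoidHom.mem_ker).symm))

theorem card_comap_surj (f : Γ →* G) (hf : Function.Surjective f) (H : Subgroup G) :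
    Nat.card (H.comap f) = Nat.card f.ker * Nat.card H := by
  have h1 : (H.comap f).index = H.index := Subgroup.index_comap_of_surjective H hf
  have h2 := Subgroup.card_mul_index (H.comap f)
  have h3 := Subgroup.card_mul_index H
  have h4 : Nat.card Γ = Nat.card f.ker * Nat.card G := by
    rw [← Subgroup.card_mul_index f.ker, Subgroup.index,
      Nat.card_congr (QuotientGroup.quotientKerEquivOfSurjective f hf).toEquiv]
  have h5 : H.index ≠ 0 := Subgroup.index_ne_zero_of_finite
  have h6 : Nat.card (H.comap f) * H.index = Nat.card f.ker * Nat.card H * H.index := by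
    rw [← h1, h2, h4, ← h3, h1, mul_assoc]
  exact Nat.eq_of_mul_eq_mul_right (Nat.pos_of_ne_zero h5) h6

theorem extendByZero_comap (f : Γ →* G) (H : Subgroup G) (ψ : H → ℂ) (y : Γ) :
    Cfsg.extendByZero (H.comap f) (fun x => ψ ⟨f x, x.2⟩) y = Cfsg.extendByZero H ψ (f y) := by
  by_cases hy : y ∈ H.comap f
  · rw [extendByZero_of_mem _ _ hy, extendByZero_of_mem _ _ (Subgroup.mem_comap.mp hy)]
  · rw [extendByZero_of_not_mem _ _ hy, extendByZero_of_not_mem _ _ (fun h => hy (Subgroup.mem_comap.mpr h))]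

theorem indFun_comp_surj (f : Γ →* G) (hf : Function.Surjective f) (H : Subgroup G) (ψ : H → ℂ) :
    Cfsg.indFun (H.comap f) (fun x => ψ ⟨f x, x.2⟩) = fun γ => Cfsg.indFun H ψ (f γ) := by
  funext γ
  unfold Cfsg.indFun
  have h1 : ∀ x : Γ, Cfsg.extendByZero (H.comap f) (fun x => ψ ⟨f x, x.2⟩) (x⁻¹ * γ * x)
      = (fun g : G => Cfsg.extendByZero H ψ (g⁻¹ * f γ * g)) (f x) := by
    intro x
    rw [extendByZero_comap]
    simp only [map_mul, map_inv]
  rw [Finset.sum_congr rfl (fun x _ => h1 x),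
    sum_comp_surj f hf (fun g : G => Cfsg.extendByZero H ψ (g⁻¹ * f γ * g)), card_comap_surj f hf]
  have hk : (Nat.card f.ker : ℂ) ≠ 0 := by exact_mod_cast Nat.card_pos.ne'
  have hH : (Nat.card H : ℂ) ≠ 0 := by exact_mod_cast Nat.card_pos.ne'
  push_cast
  field_simp

end surj

section misc

variable {G : Type*} [Group G]

theorem extendByZero_conj (T : Subgroup G) (σ : T → ℂ) (g : G) :
    conj (Cfsg.extendByZero T σ g) = Cfsg.extendByZero T (fun t => conj (σ t)) g := by
  by_cases hg : g ∈ T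
  · rw [extendByZero_of_mem _ _ hg, extendByZero_of_mem _ _ hg]
  · rw [extendByZero_of_not_mem _ _ hg, extendByZero_of_not_mem _ _ hg, map_zero]

theorem conj_indFun [Fintype G] (T : Subgroup G) (σ : T → ℂ) (g : G) :
    conj (Cfsg.indFun T σ g) = Cfsg.indFun T (fun t => conj (σ t)) g := by
  unfold Cfsg.indFun
  rw [map_mul, map_inv₀, map_natCast, map_sum]
  congr 1
  apply Finset.sum_congr rfl
  intro x _
  exact extendByZero_conj T σ _

theorem isCoatom_comap {Γ : Type*} [Group Γ] (f : Γ →* G) (hf : Function.Surjective f)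
    {H : Subgroup G} (hH : IsCoatom H) : IsCoatom (H.comap f) := by
  constructor
  · intro h
    apply hH.1
    rw [eq_top_iff]
    intro g _
    obtain ⟨x, rfl⟩ := hf g
    have h1 : x ∈ H.comap f := by rw [h]; exact Subgroup.mem_top x
    exact h1
  · intro Y hY
    have h1 : H ≤ Y.map f := by
      intro h hh
      obtain ⟨x, rfl⟩ := hf h
      exact Subgroup.mem_map_of_mem f (hY.le (Subgroup.mem_comap.mpr hh))
    have h2 : H ≠ Y.map f := by
      intro he
      have h3 : Y ≤ H.comap f := by rw [he]; exact Subgroup.le_comap_map f Y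
      exact (not_le_of_gt hY) h3
    have h3 : Y.map f = ⊤ := hH.2 _ (lt_of_le_of_ne h1 h2)
    have h4 : f.ker ≤ Y := by
      refine le_trans ?_ hY.le
      intro x hx
      rw [Subgroup.mem_comap, MonoidHom.mem_ker.mp hx]
      exact H.one_mem
    have h5 : Y = (Y.map f).comap f := by
      rw [Subgroup.comap_map_eq]
      exact (sup_eq_left.mpr h4).symm
    rw [h5, h3]
    exact Subgroup.comap_top f

theorem normalCore_comap {Γ : Type*} [Group Γ] (f : Γ →* G) (hf : Function.Surjective f)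
    (H : Subgroup G) : (H.comap f).normalCore = H.normalCore.comap f := by
  ext x
  constructor
  · intro hx
    rw [Subgroup.mem_comap]
    show ∀ b : G, b * f x * b⁻¹ ∈ H
    intro b
    obtain ⟨y, rfl⟩ := hf b
    have h1 : y * x * y⁻¹ ∈ H.comap f := hx y
    rw [Subgroup.mem_comap] at h1
    simpa using h1
  · intro hx
    show ∀ b : Γ, b * x * b⁻¹ ∈ H.comap f
    intro b
    rw [Subgroup.mem_comap] at hx ⊢
    have h1 : f b * f x * (f b)⁻¹ ∈ H := hx (f b)
    simpa using h1

end misc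

section chars

variable {X : Type u} [Group X] [Fintype X]

/-- removing an irreducible constituent from a character -/
theorem exists_add_of_constituent {A θ : X → ℂ} (hA : Cfsg.IsCharacter X A)
    (hθ : Cfsg.IsIrrCharacter X θ) (h : Cfsg.classInner A θ ≠ 0) :
    ∃ D : X → ℂ, Cfsg.IsCharacter X D ∧ A = θ + D := by
  classical
  haveI : Fintype (Cfsg.IrrCharacter X) := Fintype.ofFinite _
  obtain ⟨m, hm, hmi⟩ := IsCharacter.exists_mult hA
  let θ' : Cfsg.IrrCharacter X := ⟨θ, hθ⟩
  have hmθ : m θ' ≠ 0 := by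
    intro h0
    apply h
    have := hmi θ'
    rw [h0] at this
    simpa using this
  refine ⟨∑ η : Cfsg.IrrCharacter X, (m η - if η = θ' then 1 else 0) • (η : X → ℂ), ?_, ?_⟩
  · apply IsCharacter.sum
    intro η _
    exact IsCharacter.nsmul (IsIrrCharacter.isCharacter η.2) _
  · have h1 : θ = ∑ η : Cfsg.IrrCharacter X, (if η = θ' then 1 else 0) • (η : X → ℂ) := by
      rw [Finset.sum_eq_single θ']
      · simp [θ']
      · intro b _ hb
        simp [hb]
      · intro hb
        exact absurd (Finset.mem_univ _) hb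
    conv_rhs => rw [h1]
    rw [← Finset.sum_add_distrib, hm]
    apply Finset.sum_congr rfl
    intro η _
    rw [← add_smul]
    congr 1
    by_cases hη : η = θ'
    · subst hη
      simp only [if_true]
      omega
    · simp [hη]

/-- if a product of two characters is irreducible then so is each factor -/
theorem isIrr_of_mul_isIrr {B C : X → ℂ} (hB : Cfsg.IsCharacter X B) (hC : Cfsg.IsCharacter X C)
    (hBC : Cfsg.IsIrrCharacter X (B * C)) : Cfsg.IsIrrCharacter X B := by
  classical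
  have h1 : (B * C) 1 ≠ 0 := IsIrrCharacter.apply_one_ne_zero hBC
  rw [Pi.mul_apply] at h1
  have hB1 : B 1 ≠ 0 := left_ne_zero_of_mul h1
  have hC1 : C 1 ≠ 0 := right_ne_zero_of_mul h1
  obtain ⟨η0, hη0⟩ := IsCharacter.exists_constituent hB hB1
  obtain ⟨D, hD, hBD⟩ := exists_add_of_constituent hB η0.2 hη0
  have hη0c : Cfsg.IsCharacter X (η0 : X → ℂ) := IsIrrCharacter.isCharacter η0.2
  have hA1 : Cfsg.IsCharacter X ((η0 : X → ℂ) * C) := IsCharacter.mul hη0c hC
  have hA2 : Cfsg.IsCharacter X (D * C) := IsCharacter.mul hD hC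
  have hA1ne : ((η0 : X → ℂ) * C) 1 ≠ 0 := by
    rw [Pi.mul_apply]
    exact mul_ne_zero (IsIrrCharacter.apply_one_ne_zero η0.2) hC1
  obtain ⟨ζ, hζ⟩ := IsCharacter.exists_constituent hA1 hA1ne
  have hsum : B * C = (η0 : X → ℂ) * C + D * C := by
    rw [hBD, add_mul]
  have hζ0 : Cfsg.classInner (B * C) (ζ : X → ℂ) ≠ 0 := by
    rw [hsum, classInner_add_left]
    obtain ⟨n1, hn1⟩ := IsCharacter.classInner_nat hA1 (IsIrrCharacter.isCharacter ζ.2)
    obtain ⟨n2, hn2⟩ := IsCharacter.classInner_nat hA2 (IsIrrCharacter.isCharacter ζ.2)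
    rw [hn1, hn2]
    rw [hn1] at hζ
    have : n1 ≠ 0 := by exact_mod_cast hζ
    have h3 : n1 + n2 ≠ 0 := by omega
    exact_mod_cast h3
  have hζeq : B * C = (ζ : X → ℂ) := by
    by_contra hne
    apply hζ0
    rw [classInner_isIrrCharacter hBC ζ.2, if_neg hne]
  have hdeg : Cfsg.charDegree (B * C) ≤ Cfsg.charDegree ((η0 : X → ℂ) * C) := by
    apply IsCharacter.charDegree_le hA1 hBC
    rw [hζeq]
    exact hζ
  have hdegmul : ∀ {P Q : X → ℂ}, Cfsg.IsCharacter X P → Cfsg.IsCharacter X Q →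
      Cfsg.charDegree (P * Q) = Cfsg.charDegree P * Cfsg.charDegree Q := by
    intro P Q hP hQ
    have e1 := IsCharacter.apply_one_eq_charDegree (IsCharacter.mul hP hQ)
    have e2 := IsCharacter.apply_one_eq_charDegree hP
    have e3 := IsCharacter.apply_one_eq_charDegree hQ
    rw [Pi.mul_apply, e2, e3] at e1
    exact_mod_cast e1.symm
  rw [hdegmul hB hC, hdegmul hη0c hC] at hdeg
  have hCpos : 0 < Cfsg.charDegree C := by
    have e3 := IsCharacter.apply_one_eq_charDegree hC
    rw [e3] at hC1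
    have : Cfsg.charDegree C ≠ 0 := by exact_mod_cast hC1
    omega
  have hle : Cfsg.charDegree B ≤ Cfsg.charDegree (η0 : X → ℂ) := Nat.le_of_mul_le_mul_right hdeg hCpos
  have hge : Cfsg.charDegree (η0 : X → ℂ) ≤ Cfsg.charDegree B :=
    IsCharacter.charDegree_le hB η0.2 hη0
  have heq : B 1 = (η0 : X → ℂ) 1 := by
    rw [IsCharacter.apply_one_eq_charDegree hB, IsCharacter.apply_one_eq_charDegree hη0c,
      le_antisymm hle hge]
  rw [IsCharacter.eq_of_constituent_of_apply_one_eq hB η0.2 hη0 heq]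
  exact η0.2

/-- a homogeneous restriction over an invariant linear character of a normal subgroup of index
prime to the degree is a multiple of a linear character -/
theorem norm_eq_of_homog_coprime (A : Subgroup X) [hA : A.Normal] (π : X → ℂ)
    (hπ : Cfsg.IsClassFunction X π) (μ : A →* ℂˣ) (f : ℕ) (hf : f ≠ 0) (hπ1 : π 1 = f)
    (hπA : ∀ a : A, π a = π 1 * μ a) (κ : X → ℂ) (hκ : Cfsg.IsIrrCharacter X κ) (e' : ℕ)
    (hres : π = (e' : ℂ) • κ) (hcop : Nat.Coprime f A.index) : ∀ x, ‖π x‖ = f := by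
  classical
  have hfc : (f : ℂ) ≠ 0 := by exact_mod_cast hf
  have hκc := IsIrrCharacter.isCharacter hκ
  have hκ1 := IsCharacter.apply_one_eq_charDegree hκc
  have h1 : (f : ℂ) = e' * Cfsg.charDegree κ := by
    rw [← hπ1, hres, Pi.smul_apply, smul_eq_mul, hκ1]
  have h1n : f = e' * Cfsg.charDegree κ := by exact_mod_cast h1
  have he' : e' ≠ 0 := by
    intro h0
    rw [h0, zero_mul] at h1n
    exact hf h1n
  have he'c : (e' : ℂ) ≠ 0 := by exact_mod_cast he'
  obtain ⟨hμc, hμ1⟩ := Cfsg.Agent.Lib.Helper3.LinExt.isCharacter_coeHom μ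
  have hμirr := IsCharacter.isIrr_of_apply_one_eq_one hμc hμ1
  have hμapp : ∀ a : A, Cfsg.Agent.Lib.Helper3.LinExt.coeHom A μ a = ((μ a : ℂˣ) : ℂ) :=
    fun a => Cfsg.Agent.Lib.Helper3.LinExt.coeHom_apply μ a
  have hinv : ∀ (g : X) (n : A), Cfsg.Agent.Lib.Helper3.LinExt.coeHom A μ
      ⟨g * n * g⁻¹, hA.conj_mem (n : X) n.2 g⟩ = Cfsg.Agent.Lib.Helper3.LinExt.coeHom A μ n := by
    intro g n
    rw [hμapp, hμapp]
    have e1 := hπA ⟨g * n * g⁻¹, hA.conj_mem (n : X) n.2 g⟩
    have e2 := hπA n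
    have e3 : π (g * n * g⁻¹) = π n := hπ n g
    rw [hπ1] at e1 e2
    have e4 : (f : ℂ) * ((μ ⟨g * n * g⁻¹, hA.conj_mem (n : X) n.2 g⟩ : ℂˣ) : ℂ)
        = (f : ℂ) * ((μ n : ℂˣ) : ℂ) := by
      rw [← e1, ← e2]
      exact e3
    exact mul_left_cancel₀ hfc e4
  have hκA : (fun a : A => κ a) = ((f : ℂ) / e') • Cfsg.Agent.Lib.Helper3.LinExt.coeHom A μ := by
    funext a
    rw [Pi.smul_apply, smul_eq_mul, hμapp]
    have e1 := hπA a
    rw [hπ1, hres, Pi.smul_apply, smul_eq_mul] at e1
    field_simp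
    rw [mul_comm]
    exact e1
  have hcon : Cfsg.classInner (fun a : A => κ a) (Cfsg.Agent.Lib.Helper3.LinExt.coeHom A μ) ≠ 0 := by
    rw [hκA, classInner_smul_left, classInner_isIrrCharacter hμirr hμirr, if_pos rfl, mul_one]
    exact div_ne_zero hfc he'c
  obtain ⟨e, he, hediv⟩ := Cfsg.Agent.Lib.Helper3.CharTriple.degree_ratio_dvd_index_of_invariant
    A κ hκ _ hμirr hinv hcon
  have hμdeg : Cfsg.charDegree (Cfsg.Agent.Lib.Helper3.LinExt.coeHom A μ) = 1 := by
    have := IsCharacter.apply_one_eq_charDegree hμc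
    rw [hμ1] at this
    exact_mod_cast this.symm
  rw [hμdeg, mul_one] at he
  have hκdeg : Cfsg.charDegree κ = 1 := by
    have d1 : Cfsg.charDegree κ ∣ f := ⟨e', by rw [h1n, mul_comm]⟩
    have d2 : Cfsg.charDegree κ ∣ A.index := he ▸ hediv
    exact Nat.eq_one_of_dvd_coprimes hcop d1 d2
  have hκ11 : κ 1 = 1 := by rw [hκ1, hκdeg, Nat.cast_one]
  rw [hκdeg, mul_one] at h1n
  intro x
  rw [hres, Pi.smul_apply, smul_eq_mul, norm_mul, Complex.norm_natCast, h1n]
  have hx : ‖κ x‖ = 1 := by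
    have e1 := Cfsg.Agent.Lib.Helper3.LinExt.eq_coeHom_linearCharHom hκc hκ11
    rw [e1, Cfsg.Agent.Lib.Helper3.LinExt.coeHom_apply]
    have e2 : (linearCharHom hκc hκ11 x) ^ (Nat.card X) = 1 := by
      rw [← map_pow, pow_card_eq_one', map_one]
    have e3 : (((linearCharHom hκc hκ11 x : ℂˣ) : ℂ)) ^ (Nat.card X) = 1 := by
      rw [← Units.val_pow_eq_pow_val, e2, Units.val_one]
    exact Complex.norm_eq_one_of_pow_eq_one e3 Nat.card_pos.ne'
  rw [hx, mul_one]

end chars

end Cfsg.Agent.Lib.Helper3.Bg
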