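import Mathlib
import Cfsg.Prelude.Def_Characters
import Cfsg.Agent.Lib.Helper6.CliffordCorr
import Cfsg.Agent.Lib.Helper6.IrrBasis
import Cfsg.Agent.S0856
import Cfsg.Agent.S0146

set_option autoImplicit false

namespace Cfsg.Agent.Lib.Helper3.GallagherMul

open Cfsg.Agent.Lib.Helper6

/-- **Gallagher (forward direction)**: if `η ∈ Irr(G)` restricts irreducibly to `N ⊴ G` and `β` is
an irreducible character of `G` which is trivial on `N`, then `β η` is irreducible. -/
theorem isIrrCharacter_mul {G : Type*} [Group G] [Finite G] (N : Subgroup G) [hN : N.Normal]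
    (η : G → ℂ) (hη : Cfsg.IsIrrCharacter G η)
    (hηN : Cfsg.IsIrrCharacter N (fun n : N => η n)) (β : G → ℂ) (hβ : Cfsg.IsIrrCharacter G β)
    (hβN : ∀ n : N, β n = β 1) :
    Cfsg.IsIrrCharacter G (β * η) := by
  classical
  have : Fintype G := Fintype.ofFinite G
  have : Fintype N := Fintype.ofFinite N
  set ϑ : N → ℂ := fun n : N => η n with hϑdef
  have hηcf := IsIrrCharacter.isClassFunction hη
  have hone : Cfsg.IsIrrCharacter N (fun _ : N => (1 : ℂ)) := isIrrCharacter_one
  have hprodeq : ((fun _ : N => (1 : ℂ)) * ϑ) = ϑ := by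
    funext n
    simp
  have hϑinv : ∀ (g : G) (n : N), ϑ ⟨g * n * g⁻¹, hN.conj_mem (n : G) n.2 g⟩ = ϑ n := by
    intro g n
    exact hηcf n g
  have hB := Cfsg.Agent.S0856.result N (fun _ : N => (1 : ℂ)) ϑ hone hηN
    (fun g n => rfl) hϑinv (by rw [hprodeq]; exact hηN) η hη (fun n => rfl)
  have hβcf := IsIrrCharacter.isClassFunction hβ
  have hmem : β ∈ {β : G → ℂ | Cfsg.IsIrrCharacter G β ∧
      Cfsg.classInner (Cfsg.indFun N (fun _ : N => (1 : ℂ))) β ≠ 0} := by
    refine ⟨hβ, ?_⟩
    rw [Cfsg.Agent.S0146.result N _ β hβcf]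
    have h1 : (fun h : N => β h) = (β 1) • (fun _ : N => (1 : ℂ)) := by
      funext n
      simp [hβN n]
    intro h0
    have h2 : Cfsg.classInner (fun h : N => β h) (fun _ : N => (1 : ℂ)) = 0 := by
      rw [← classInner_conj_symm, h0, map_zero]
    rw [h1, classInner_smul_left, classInner_isIrrCharacter hone hone, if_pos rfl, mul_one] at h2
    have h3 := IsCharacter.apply_one_eq_charDegree (IsIrrCharacter.isCharacter hβ)
    have h4 := IsIrrCharacter.charDegree_pos hβ
    rw [h3] at h2
    have : (Cfsg.charDegree β : ℂ) ≠ 0 := by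
      exact_mod_cast h4.ne'
    exact this h2
  exact (hB.mapsTo hmem).1

end Cfsg.Agent.Lib.Helper3.GallagherMul
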