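import Mathlib
import Cfsg.Agent.Lib.Helper6.SecondOrth
import Cfsg.Agent.Lib.Helper6.CharBasic
import Cfsg.Agent.S0187

set_option autoImplicit false
set_option linter.unusedSectionVars false

namespace Cfsg.Agent.Lib.Helper3.GlauCyc

open Cfsg Cfsg.Agent.Lib.Helper6 Module
open scoped ComplexConjugate

section fourier

variable {A : Type*} [Group A] [Fintype A] [Fintype (Cfsg.IrrCharacter A)]

/-- column orthogonality in an abelian group -/
theorem sum_irr_mul_conj_abelian (hA : ∀ x y : A, x * y = y * x) [DecidableEq A] (x y : A) :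
    ∑ l : Cfsg.IrrCharacter A, (l : A → ℂ) x * conj ((l : A → ℂ) y)
      = if x = y then (Nat.card A : ℂ) else 0 := by
  by_cases h : x = y
  · rw [if_pos h]
    have h1 := (sum_irr_mul_conj x y).1 (by rw [h])
    rw [h1]
    have : Subgroup.centralizer ({x} : Set A) = ⊤ := by
      rw [eq_top_iff]
      intro a _
      rw [Subgroup.mem_centralizer_iff]
      intro b _
      exact hA b a
    rw [this, Nat.card_congr (Subgroup.topEquiv (G := A)).toEquiv]
  · rw [if_neg h]
    apply (sum_irr_mul_conj x y).2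
    intro hc
    obtain ⟨c, hc⟩ := isConj_iff.mp hc
    apply h
    rw [← hc, hA c x, mul_inv_cancel_right]

theorem irr_apply_one_of_abelian (hA : ∀ x y : A, x * y = y * x) (l : Cfsg.IrrCharacter A) :
    (l : A → ℂ) 1 = 1 := (Cfsg.Agent.S0187.result.mp hA) l

theorem card_irr_of_abelian (hA : ∀ x y : A, x * y = y * x) :
    Fintype.card (Cfsg.IrrCharacter A) = Nat.card A := by
  classical
  have h1 := sum_irr_mul_conj_abelian hA (1 : A) 1
  rw [if_pos rfl] at h1
  have h2 : ∀ l : Cfsg.IrrCharacter A, (l : A → ℂ) 1 * conj ((l : A → ℂ) 1) = 1 := by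
    intro l
    rw [irr_apply_one_of_abelian hA l]
    simp
  simp_rw [h2] at h1
  rw [Finset.sum_const, Finset.card_univ, nsmul_eq_mul, mul_one] at h1
  exact_mod_cast h1

/-- the Fourier transform of an integer valued function -/
noncomputable def ft (D : A → ℤ) (l : Cfsg.IrrCharacter A) : ℂ :=
  ∑ x : A, (D x : ℂ) * conj ((l : A → ℂ) x)

theorem sum_ft (hA : ∀ x y : A, x * y = y * x) (D : A → ℤ) :
    ∑ l : Cfsg.IrrCharacter A, ft D l = (Nat.card A : ℂ) * (D 1 : ℂ) := by
  classical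
  unfold ft
  rw [Finset.sum_comm]
  have h1 : ∀ x : A, ∑ l : Cfsg.IrrCharacter A, (D x : ℂ) * conj ((l : A → ℂ) x)
      = if x = 1 then (Nat.card A : ℂ) * (D x : ℂ) else 0 := by
    intro x
    rw [← Finset.mul_sum]
    have h2 := sum_irr_mul_conj_abelian hA (1 : A) x
    have h3 : ∀ l : Cfsg.IrrCharacter A, (l : A → ℂ) 1 * conj ((l : A → ℂ) x)
        = conj ((l : A → ℂ) x) := by
      intro l
      rw [irr_apply_one_of_abelian hA l, one_mul]
    simp_rw [h3] at h2
    rw [h2]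
    by_cases hx : x = 1
    · rw [if_pos hx, if_pos hx.symm]; ring
    · rw [if_neg hx, if_neg (fun h => hx h.symm), mul_zero]
  simp_rw [h1]
  rw [Finset.sum_ite_eq', if_pos (Finset.mem_univ _)]

/-- Fourier inversion -/
theorem sum_ft_mul (hA : ∀ x y : A, x * y = y * x) (D : A → ℤ) (y : A) :
    ∑ l : Cfsg.IrrCharacter A, ft D l * (l : A → ℂ) y = (Nat.card A : ℂ) * (D y : ℂ) := by
  classical
  unfold ft
  simp_rw [Finset.sum_mul]
  rw [Finset.sum_comm]
  have h1 : ∀ x : A, ∑ l : Cfsg.IrrCharacter A,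
      (D x : ℂ) * conj ((l : A → ℂ) x) * (l : A → ℂ) y
      = if x = y then (Nat.card A : ℂ) * (D x : ℂ) else 0 := by
    intro x
    have h2 := sum_irr_mul_conj_abelian hA y x
    have : ∀ l : Cfsg.IrrCharacter A, (D x : ℂ) * conj ((l : A → ℂ) x) * (l : A → ℂ) y
        = (D x : ℂ) * ((l : A → ℂ) y * conj ((l : A → ℂ) x)) := by
      intro l; ring
    simp_rw [this]
    rw [← Finset.mul_sum, h2]
    by_cases hx : x = y
    · rw [if_pos hx, if_pos hx.symm]; ring
    · rw [if_neg hx, if_neg (fun h => hx h.symm), mul_zero]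
  simp_rw [h1]
  rw [Finset.sum_ite_eq', if_pos (Finset.mem_univ _)]

/-- Parseval -/
theorem sum_ft_mul_conj (hA : ∀ x y : A, x * y = y * x) (D : A → ℤ) :
    ∑ l : Cfsg.IrrCharacter A, ft D l * conj (ft D l)
      = (Nat.card A : ℂ) * ∑ x : A, ((D x ^ 2 : ℤ) : ℂ) := by
  classical
  have h1 : ∀ l : Cfsg.IrrCharacter A, ft D l * conj (ft D l)
      = ∑ y : A, (D y : ℂ) * (ft D l * (l : A → ℂ) y) := by
    intro l
    have h0 : conj (ft D l) = ∑ y : A, (D y : ℂ) * (l : A → ℂ) y := by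
      rw [ft, map_sum]
      apply Finset.sum_congr rfl
      intro y _
      rw [map_mul, Complex.conj_conj, map_intCast]
    rw [h0, Finset.mul_sum]
    apply Finset.sum_congr rfl
    intro y _
    ring
  simp_rw [h1]
  rw [Finset.sum_comm]
  simp_rw [← Finset.mul_sum, sum_ft_mul hA D]
  rw [Finset.mul_sum]
  apply Finset.sum_congr rfl
  intro y _
  push_cast
  ring

/-- bound on the Fourier transform -/
theorem norm_ft_le (D : A → ℤ) (l : Cfsg.IrrCharacter A)
    (hl : (l : A → ℂ) 1 = 1) : ‖ft D l‖ ≤ ∑ x : A, (|D x| : ℝ) := by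
  unfold ft
  refine (norm_sum_le _ _).trans ?_
  apply Finset.sum_le_sum
  intro x _
  rw [norm_mul, RCLike.norm_conj]
  have h1 : ‖(l : A → ℂ) x‖ ≤ 1 := by
    obtain ⟨n, ρ, hirr, hρ⟩ := l.2
    have h2 := norm_character_le ρ x
    have h3 : (finrank ℂ (Fin n → ℂ) : ℂ) = 1 := by
      rw [← Representation.char_one ρ, hρ, hl]
    have h4 : finrank ℂ (Fin n → ℂ) = 1 := by exact_mod_cast h3
    rw [hρ, h4] at h2
    simpa using h2
  have h5 : ‖(D x : ℂ)‖ = |(D x : ℝ)| := by
    rw [← Complex.ofReal_intCast, Complex.norm_real, Real.norm_eq_abs]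
  rw [h5]
  calc |(D x : ℝ)| * ‖(l : A → ℂ) x‖ ≤ |(D x : ℝ)| * 1 :=
        mul_le_mul_of_nonneg_left h1 (abs_nonneg _)
    _ = _ := by rw [mul_one]

end fourier

end Cfsg.Agent.Lib.Helper3.GlauCyc
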