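import Mathlib
import Cfsg.Agent.Lib.Helper3.GlauCyc2
import Cfsg.Agent.Lib.Helper3.GlauCyc11
import Cfsg.Agent.Lib.Helper3.GallagherMul
import Cfsg.Agent.Lib.Helper6.QuotChar
import Cfsg.Agent.Lib.Helper6.BlkCover
import Cfsg.Agent.Lib.Helper6.Norm
import Cfsg.Agent.Lib.Helper6.Decomp

set_option autoImplicit false
set_option linter.unusedSectionVars false

namespace Cfsg.Agent.Lib.Helper3.GallagherDecomp

open Cfsg Cfsg.Agent.Lib.Helper6 Cfsg.Agent.Lib.Helper3.GlauCyc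
open scoped ComplexConjugate

section decomp

variable {T : Type*} [Group T] [Fintype T] (N : Subgroup T) [hN : N.Normal] [Fintype N]

/-- a character restricting irreducibly to `N` does not vanish identically on a coset -/
theorem exists_ne_zero_coset {θh : T → ℂ} (hθh : Cfsg.IsIrrCharacter T θh)
    (hθ : Cfsg.IsIrrCharacter N (fun n : N => θh n)) (t : T) :
    ∃ m : N, θh ((m : T) * t) ≠ 0 := by
  by_contra h
  push Not at h
  have h1 := sum_coset_norm N hθh hθ t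
  rw [Finset.sum_eq_zero (fun m _ => by rw [h m, zero_mul])] at h1
  have : (Nat.card N : ℂ) ≠ 0 := by exact_mod_cast Nat.card_pos.ne'
  exact this h1.symm

theorem mk_coe_mul (m : N) (t : T) :
    (QuotientGroup.mk ((m : T) * t) : T ⧸ N) = QuotientGroup.mk t := by
  rw [QuotientGroup.mk_mul, (QuotientGroup.eq_one_iff (m : T)).mpr m.2, one_mul]

theorem mul_infl_injective {θh : T → ℂ} (hθh : Cfsg.IsIrrCharacter T θh)
    (hθ : Cfsg.IsIrrCharacter N (fun n : N => θh n)) (β β' : T ⧸ N → ℂ)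
    (h : (fun t : T => β (QuotientGroup.mk t)) * θh = (fun t : T => β' (QuotientGroup.mk t)) * θh) :
    β = β' := by
  funext q
  obtain ⟨t, rfl⟩ := QuotientGroup.mk_surjective q
  obtain ⟨m, hm⟩ := exists_ne_zero_coset N hθh hθ t
  have h1 := congrFun h ((m : T) * t)
  simp only [Pi.mul_apply] at h1
  rw [mk_coe_mul] at h1
  exact mul_right_cancel₀ hm h1

theorem isIrrCharacter_infl_mul {θh : T → ℂ} (hθh : Cfsg.IsIrrCharacter T θh)
    (hθ : Cfsg.IsIrrCharacter N (fun n : N => θh n)) (β : Cfsg.IrrCharacter (T ⧸ N)) :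
    Cfsg.IsIrrCharacter T ((fun t : T => (β : T ⧸ N → ℂ) (QuotientGroup.mk t)) * θh) := by
  apply GallagherMul.isIrrCharacter_mul N θh hθh hθ _ (IsIrrCharacter.comp_mk N β.2)
  intro n
  rw [(QuotientGroup.eq_one_iff (n : T)).mpr n.2, QuotientGroup.mk_one]

theorem classInner_mul_conj (ψ θh β : T → ℂ) :
    Cfsg.classInner (fun t => ψ t * conj (θh t)) β = Cfsg.classInner ψ (β * θh) := by
  unfold Cfsg.classInner
  congr 1
  apply Finset.sum_congr rfl
  intro t _
  simp only [Pi.mul_apply, map_mul]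
  ring

/-- every irreducible character over `θ` is a Gallagher product -/
theorem exists_infl_of_over [Fintype (Cfsg.IrrCharacter (T ⧸ N))] {θh : T → ℂ}
    (hθh : Cfsg.IsIrrCharacter T θh) (hθ : Cfsg.IsIrrCharacter N (fun n : N => θh n))
    {ψ : T → ℂ} (hψ : Cfsg.IsIrrCharacter T ψ)
    (hover : Cfsg.classInner (fun n : N => ψ n) (fun n : N => θh n) ≠ 0) :
    ∃ β : Cfsg.IrrCharacter (T ⧸ N),
      ψ = (fun t : T => (β : T ⧸ N → ℂ) (QuotientGroup.mk t)) * θh := by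
  classical
  let f : T → ℂ := fun t => ψ t * conj (θh t)
  have hf : Cfsg.IsClassFunction T f := by
    intro g h
    simp only [f]
    rw [IsIrrCharacter.isClassFunction hψ g h, IsIrrCharacter.isClassFunction hθh g h]
  have h1 := congrFun (cosetAvg_eq_sum N hf) 1
  have h2 : cosetAvg N f 1 = Cfsg.classInner (fun n : N => ψ n) (fun n : N => θh n) := by
    unfold cosetAvg Cfsg.classInner
    simp only [f, mul_one]
  rw [h2] at h1
  simp only [Finset.sum_apply, Pi.smul_apply, smul_eq_mul] at h1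
  have h3 : ∃ β : Cfsg.IrrCharacter (T ⧸ N),
      Cfsg.classInner f (fun g : T => (β : T ⧸ N → ℂ) (QuotientGroup.mk g)) ≠ 0 := by
    by_contra hc
    push Not at hc
    rw [Finset.sum_eq_zero (fun β _ => by rw [hc β, zero_mul])] at h1
    exact hover h1
  obtain ⟨β, hβ⟩ := h3
  refine ⟨β, ?_⟩
  have hirr := isIrrCharacter_infl_mul N hθh hθ β
  rw [classInner_mul_conj, classInner_isIrrCharacter hψ hirr] at hβ
  by_contra hne
  rw [if_neg hne] at hβ
  exact hβ rfl

/-- Gallagher decomposition of a character lying over an extendible character -/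
theorem exists_decomp [Fintype (T ⧸ N)] [Fintype (Cfsg.IrrCharacter (T ⧸ N))]
    (hab : ∀ x y : T ⧸ N, x * y = y * x) {θh : T → ℂ}
    (hθh : Cfsg.IsIrrCharacter T θh) (hθ : Cfsg.IsIrrCharacter N (fun n : N => θh n))
    {Ψ : T → ℂ} (hΨ : Cfsg.IsCharacter T Ψ) (e : ℂ) (hΨN : ∀ n : N, Ψ n = e * θh n) :
    ∃ a : Cfsg.IrrCharacter (T ⧸ N) → ℕ, (∑ β, (a β : ℂ)) = e ∧
      ((∑ β, a β * a β : ℕ) : ℂ) = Cfsg.classInner Ψ Ψ := by
  classical
  have : Fintype (Cfsg.IrrCharacter T) := Fintype.ofFinite _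
  obtain ⟨m, hm⟩ := IsCharacter.eq_sum_irr hΨ
  let ι : Cfsg.IrrCharacter (T ⧸ N) → Cfsg.IrrCharacter T :=
    fun β => ⟨_, isIrrCharacter_infl_mul N hθh hθ β⟩
  have hι : Function.Injective ι := by
    intro β β' h
    have h1 := congrArg Subtype.val h
    apply Subtype.ext
    exact mul_infl_injective N hθh hθ _ _ h1
  have hmult : ∀ ψ : Cfsg.IrrCharacter T, Cfsg.classInner Ψ (ψ : T → ℂ) = m ψ := by
    intro ψ
    rw [hm, classInner_sum_left, Finset.sum_eq_single ψ]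
    · rw [← Nat.cast_smul_eq_nsmul ℂ, classInner_smul_left, classInner_irrCharacter, if_pos rfl,
        mul_one]
    · intro ψ' _ hne
      rw [← Nat.cast_smul_eq_nsmul ℂ, classInner_smul_left, classInner_irrCharacter, if_neg hne,
        mul_zero]
    · intro h; exact absurd (Finset.mem_univ _) h
  have hover : ∀ ψ : Cfsg.IrrCharacter T, m ψ ≠ 0 →
      Cfsg.classInner (fun n : N => (ψ : T → ℂ) n) (fun n : N => θh n) ≠ 0 := by
    intro ψ hmψ
    obtain ⟨θ', hθ'⟩ := exists_constituent_restrict N ψ.2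
    have hnat : ∀ ψ' : Cfsg.IrrCharacter T, ∃ k : ℕ,
        Cfsg.classInner (fun n : N => (ψ' : T → ℂ) n) (θ' : N → ℂ) = k :=
      fun ψ' => IsCharacter.classInner_irr_nat
        (IsCharacter.restrict N (IsIrrCharacter.isCharacter ψ'.2)) θ'.2
    choose c hc using hnat
    have h1 : Cfsg.classInner (fun n : N => Ψ n) (θ' : N → ℂ)
        = ((∑ ψ', m ψ' * c ψ' : ℕ) : ℂ) := by
      have h0 : (fun n : N => Ψ n) = ∑ ψ' : Cfsg.IrrCharacter T,
          m ψ' • (fun n : N => (ψ' : T → ℂ) n) := by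
        funext n
        rw [hm]
        simp only [Finset.sum_apply, Pi.smul_apply]
      rw [h0, classInner_sum_left]
      push_cast
      apply Finset.sum_congr rfl
      intro ψ' _
      rw [← Nat.cast_smul_eq_nsmul ℂ, classInner_smul_left, hc]
    have h2 : (fun n : N => Ψ n) = e • (fun n : N => θh n) := by
      funext n
      rw [hΨN n]
      rfl
    have hpos : 0 < ∑ ψ', m ψ' * c ψ' := by
      have hcψ : c ψ ≠ 0 := by
        intro h0
        apply hθ'
        rw [hc, h0]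
        simp
      calc 0 < m ψ * c ψ := Nat.mul_pos (Nat.pos_of_ne_zero hmψ) (Nat.pos_of_ne_zero hcψ)
        _ ≤ _ := Finset.single_le_sum (f := fun ψ' => m ψ' * c ψ') (fun _ _ => Nat.zero_le _)
            (Finset.mem_univ ψ)
    rw [h2, classInner_smul_left, classInner_isIrrCharacter hθ θ'.2] at h1
    by_cases heq : (fun n : N => θh n) = (θ' : N → ℂ)
    · rw [heq]; exact hθ'
    · rw [if_neg heq, mul_zero] at h1
      have : ((∑ ψ', m ψ' * c ψ' : ℕ) : ℂ) ≠ 0 := by exact_mod_cast hpos.ne'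
      exact absurd h1.symm this
  refine ⟨fun β => m (ι β), ?_, ?_⟩
  · let f : T → ℂ := fun t => Ψ t * conj (θh t)
    have hf : Cfsg.IsClassFunction T f := by
      intro g h
      simp only [f]
      rw [IsCharacter.isClassFunction hΨ g h, IsIrrCharacter.isClassFunction hθh g h]
    have h1 := congrFun (cosetAvg_eq_sum N hf) 1
    have h2 : cosetAvg N f 1 = e := by
      unfold cosetAvg
      simp only [f, mul_one]
      have h3 : ∀ n : N, Ψ n * conj (θh n) = e * (θh n * conj (θh n)) := by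
        intro n; rw [hΨN n]; ring
      rw [Finset.sum_congr rfl (fun n _ => h3 n), ← Finset.mul_sum]
      have h4 := classInner_isIrrCharacter hθ hθ
      rw [if_pos rfl] at h4
      unfold Cfsg.classInner at h4
      rw [mul_left_comm, h4, mul_one]
    rw [h2] at h1
    simp only [Finset.sum_apply, Pi.smul_apply, smul_eq_mul] at h1
    rw [h1]
    apply Finset.sum_congr rfl
    intro β _
    have hβ1 : (β : T ⧸ N → ℂ) (QuotientGroup.mk (1 : T)) = 1 := by
      rw [QuotientGroup.mk_one]; exact irr_apply_one_of_abelian hab β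
    rw [hβ1, mul_one, classInner_mul_conj]
    exact (hmult (ι β)).symm
  · have h5 : Cfsg.classInner Ψ Ψ = ((∑ ψ, m ψ * m ψ : ℕ) : ℂ) := by
      conv_lhs => rw [hm]
      exact classInner_sum_irr m m
    rw [h5]
    congr 1
    rw [← Finset.sum_image (f := fun ψ => m ψ * m ψ) (s := Finset.univ) (g := ι)
      (fun x _ y _ h => hι h)]
    apply Finset.sum_subset (Finset.subset_univ _)
    intro ψ _ hψ
    by_contra hne
    have hmψ : m ψ ≠ 0 := fun h0 => hne (by rw [h0, mul_zero])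
    obtain ⟨β, hβ⟩ := exists_infl_of_over N hθh hθ ψ.2 (hover ψ hmψ)
    apply hψ
    rw [Finset.mem_image]
    exact ⟨β, Finset.mem_univ _, Subtype.ext hβ.symm⟩

end decomp

section frob

variable {Γ : Type*} [Group Γ] [Fintype Γ] (G N : Subgroup Γ) [hG : G.Normal] [hN : N.Normal]
  [Fintype G] [Fintype N]

/-- the commutator map `g ↦ g t g⁻¹ t⁻¹` is onto modulo `N` when `t` acts freely on `G/N` -/
theorem exists_commutator_mul (t : Γ)
    (hfrob : ∀ g : Γ, g ∈ G → t * g * t⁻¹ * g⁻¹ ∈ N → g ∈ N) (u : G) :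
    ∃ (g : G) (m₀ : N), (u : Γ) = (g : Γ) * t * (g : Γ)⁻¹ * t⁻¹ * (m₀ : Γ) := by
  classical
  have hmemG : ∀ g : G, (g : Γ) * t * (g : Γ)⁻¹ * t⁻¹ ∈ G := by
    intro g
    have h1 : t * (g : Γ)⁻¹ * t⁻¹ ∈ G := hG.conj_mem _ (G.inv_mem g.2) t
    have h2 : (g : Γ) * t * (g : Γ)⁻¹ * t⁻¹ = (g : Γ) * (t * (g : Γ)⁻¹ * t⁻¹) := by group
    rw [h2]
    exact G.mul_mem g.2 h1
  let κ₀ : G → G := fun g => ⟨(g : Γ) * t * (g : Γ)⁻¹ * t⁻¹, hmemG g⟩
  -- the key identity
  have hkey : ∀ g g' : G, ((κ₀ g)⁻¹ * κ₀ g' : G) ∈ N.subgroupOf G ↔ (g⁻¹ * g' : G) ∈ N.subgroupOf G := by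
    intro g g'
    rw [Subgroup.mem_subgroupOf, Subgroup.mem_subgroupOf]
    have h1 : (((κ₀ g)⁻¹ * κ₀ g' : G) : Γ)
        = (t * (g : Γ)) * (t⁻¹ * ((g : Γ)⁻¹ * (g' : Γ)) * t * ((g : Γ)⁻¹ * (g' : Γ))⁻¹) * (t * (g : Γ))⁻¹ := by
      simp only [κ₀, Subgroup.coe_mul, Subgroup.coe_inv]
      group
    have h2 : ((g⁻¹ * g' : G) : Γ) = (g : Γ)⁻¹ * (g' : Γ) := by
      simp
    rw [h1, h2]
    set h : Γ := (g : Γ)⁻¹ * (g' : Γ) with hh
    have hhG : h ∈ G := G.mul_mem (G.inv_mem g.2) g'.2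
    constructor
    · intro h3
      have h4 : t⁻¹ * h * t * h⁻¹ ∈ N := by
        have := hN.conj_mem _ h3 (t * (g : Γ))⁻¹
        have h5 : (t * (g : Γ))⁻¹ * (t * (g : Γ) * (t⁻¹ * h * t * h⁻¹) * (t * (g : Γ))⁻¹) * (t * (g : Γ))⁻¹⁻¹
            = t⁻¹ * h * t * h⁻¹ := by group
        rwa [h5] at this
      have h6 : t * h * t⁻¹ * h⁻¹ ∈ N := by
        have h7 := hN.conj_mem _ h4 t
        have h8 := N.inv_mem h7
        have h9 : (t * (t⁻¹ * h * t * h⁻¹) * t⁻¹)⁻¹ = t * h * t⁻¹ * h⁻¹ := by group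
        rwa [h9] at h8
      exact hfrob h hhG h6
    · intro h3
      apply hN.conj_mem
      have h4 : t⁻¹ * h * t ∈ N := by
        have := hN.conj_mem _ h3 t⁻¹
        simpa using this
      exact N.mul_mem h4 (N.inv_mem h3)
  let κ : G ⧸ N.subgroupOf G → G ⧸ N.subgroupOf G :=
    Quotient.map' κ₀ (by
      intro g g' hgg'
      rw [QuotientGroup.leftRel_apply] at hgg' ⊢
      exact (hkey g g').mpr hgg')
  have hκ : ∀ g : G, κ (QuotientGroup.mk g) = QuotientGroup.mk (κ₀ g) := fun g => rfl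
  have hinj : Function.Injective κ := by
    intro q q' h
    obtain ⟨g, rfl⟩ := QuotientGroup.mk_surjective q
    obtain ⟨g', rfl⟩ := QuotientGroup.mk_surjective q'
    rw [hκ, hκ, QuotientGroup.eq] at h
    rw [QuotientGroup.eq]
    exact (hkey g g').mp h
  have hsurj : Function.Surjective κ := Finite.surjective_of_injective hinj
  obtain ⟨q, hq⟩ := hsurj (QuotientGroup.mk u)
  obtain ⟨g, rfl⟩ := QuotientGroup.mk_surjective q
  rw [hκ, QuotientGroup.eq, Subgroup.mem_subgroupOf] at hq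
  refine ⟨g, ⟨_, hq⟩, ?_⟩
  simp only [κ₀, Subgroup.coe_mul, Subgroup.coe_inv]
  group

/-- the coset sums of a class function over the cosets `G t` and `N t` -/
theorem sum_coset_frob (hNG : N ≤ G) (t : Γ)
    (hfrob : ∀ g : Γ, g ∈ G → t * g * t⁻¹ * g⁻¹ ∈ N → g ∈ N)
    (f : Γ → ℂ) (hf : ∀ x y : Γ, f (x * y * x⁻¹) = f y) :
    (Nat.card G : ℂ) * ∑ m : N, f ((m : Γ) * t) = (Nat.card N : ℂ) * ∑ g : G, f ((g : Γ) * t) := by
  classical
  let A : G → ℂ := fun u => ∑ m : N, f ((u : Γ) * (m : Γ) * t)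
  have hA1 : A 1 = ∑ m : N, f ((m : Γ) * t) := by
    simp only [A, Subgroup.coe_one, one_mul]
  have hAr : ∀ (u u' : G) (m₀ : N), (u' : Γ) = (u : Γ) * (m₀ : Γ) → A u' = A u := by
    intro u u' m₀ h
    simp only [A]
    rw [← Equiv.sum_comp (Equiv.mulLeft m₀) (fun m : N => f ((u : Γ) * (m : Γ) * t))]
    apply Finset.sum_congr rfl
    intro m _
    rw [h]
    simp only [Equiv.coe_mulLeft, Subgroup.coe_mul, mul_assoc]
  have hAk : ∀ (g u : G), (u : Γ) = (g : Γ) * t * (g : Γ)⁻¹ * t⁻¹ → A u = A 1 := by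
    intro g u h
    rw [hA1]
    simp only [A]
    rw [← Equiv.sum_comp (MulAut.conjNormal ((g : Γ)⁻¹ * t⁻¹) : N ≃* N).toEquiv
      (fun m : N => f ((m : Γ) * t))]
    apply Finset.sum_congr rfl
    intro m _
    simp only [MulEquiv.toEquiv_eq_coe, EquivLike.coe_coe, MulAut.conjNormal_apply]
    rw [h]
    have h1 : (g : Γ) * t * (g : Γ)⁻¹ * t⁻¹ * (m : Γ) * t
        = ((g : Γ) * t) * (((g : Γ)⁻¹ * t⁻¹) * (m : Γ) * ((g : Γ)⁻¹ * t⁻¹)⁻¹ * t) * ((g : Γ) * t)⁻¹ := by
      group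
    rw [h1, hf]
  have hall : ∀ u : G, A u = A 1 := by
    intro u
    obtain ⟨g, m₀, h⟩ := exists_commutator_mul G N t hfrob u
    have hmem : (g : Γ) * t * (g : Γ)⁻¹ * t⁻¹ ∈ G := by
      have h1 : t * (g : Γ)⁻¹ * t⁻¹ ∈ G := hG.conj_mem _ (G.inv_mem g.2) t
      have h2 : (g : Γ) * t * (g : Γ)⁻¹ * t⁻¹ = (g : Γ) * (t * (g : Γ)⁻¹ * t⁻¹) := by group
      rw [h2]
      exact G.mul_mem g.2 h1
    rw [hAr ⟨_, hmem⟩ u m₀ h]
    exact hAk g ⟨_, hmem⟩ rfl
  have hsum : ∑ u : G, A u = (Nat.card N : ℂ) * ∑ g : G, f ((g : Γ) * t) := by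
    simp only [A]
    rw [Finset.sum_comm]
    have h1 : ∀ m : N, ∑ u : G, f ((u : Γ) * (m : Γ) * t) = ∑ g : G, f ((g : Γ) * t) := by
      intro m
      rw [← Equiv.sum_comp (Equiv.mulRight (⟨(m : Γ), hNG m.2⟩ : G)) (fun g : G => f ((g : Γ) * t))]
      apply Finset.sum_congr rfl
      intro u _
      simp only [Equiv.coe_mulRight, Subgroup.coe_mul]
    rw [Finset.sum_congr rfl (fun m _ => h1 m), Finset.sum_const, Finset.card_univ,
      ← Nat.card_eq_fintype_card, nsmul_eq_mul]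
  rw [← hsum, Finset.sum_congr rfl (fun u _ => hall u), Finset.sum_const, Finset.card_univ,
    ← Nat.card_eq_fintype_card, nsmul_eq_mul, hA1]

end frob

end Cfsg.Agent.Lib.Helper3.GallagherDecomp
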