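import Mathlib
import Cfsg.Agent.Lib.Helper3.Bg3
import Cfsg.Agent.Lib.Helper3.GallagherDecomp
import Cfsg.Agent.Lib.Helper3.GallagherFactor
import Cfsg.Agent.Lib.Helper3.GlueExt

/-! S0889 (Berger): facts on the central extension attached to a character triple. -/

set_option autoImplicit false
set_option maxHeartbeats 4000000
set_option maxRecDepth 100000
set_option linter.unusedVariables false
set_option linter.unusedSectionVars false
set_option linter.style.haveILetI false
set_option linter.deprecated false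

namespace Cfsg.Agent.Lib.Helper3.Bg

open Subgroup Cfsg Cfsg.Agent.Lib.Helper6 Cfsg.Agent.Lib.Helper3.CharTriple Module
open scoped ComplexConjugate

universe u

variable {G : Type u} [Group G] [Fintype G] (M : Subgroup G) [hM : M.Normal]
variable {d : ℕ} (ρ : Representation ℂ M (Fin d → ℂ)) [hirr : ρ.IsIrreducible]

instance instNormalInclRange : (incl M ρ).range.Normal := incl_range_normal M ρ

theorem isSolvable_Gam [Group.IsSolvable G] : Group.IsSolvable (Gam M ρ (Nat.card M)) := by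
  haveI : Group.IsSolvable (pr1 M ρ (Nat.card M)).ker := Group.isSolvable_of_comm (fun a b => by
    apply Subtype.ext
    exact mul_comm_of_pr1_eq_one M ρ _ a.1 b.1 (MonoidHom.mem_ker.mp a.2))
  refine Group.isSolvable_of_ker_le_range (pr1 M ρ (Nat.card M)).ker.subtype
    (pr1 M ρ (Nat.card M)) ?_
  rw [Subgroup.range_subtype]

theorem conj_incl (γ : Gam M ρ (Nat.card M)) (m : M) :
    γ * incl M ρ m * γ⁻¹ = incl M ρ (MulAut.conjNormal (pr1 M ρ (Nat.card M) γ) m) := by
  symm
  rw [pr1_apply]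
  apply Subtype.ext
  apply Prod.ext
  · simp [incl_coe, MulAut.conjNormal_apply]
  · apply Units.ext
    simp only [incl_coe, Subgroup.coe_mul, Subgroup.coe_inv, Prod.snd_mul, Prod.snd_inv,
      Units.val_mul, Representation.asGroupHom_apply]
    have h := ((mem_Gam M ρ (Nat.card M) γ.1).mp γ.2).1 m
    rw [h, mul_assoc, Units.mul_inv, mul_one]

section restrict

variable (R : Subgroup G)

/-- the embedding of `M` into the preimage of `R` -/
noncomputable def inclR (hMR : M ≤ R) : M →* (R.comap (pr1 M ρ (Nat.card M))) :=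
  (incl M ρ).codRestrict _ (fun m => by
    rw [Subgroup.mem_comap, pr1_incl]
    exact hMR m.2)

theorem inclR_coe (hMR : M ≤ R) (m : M) : ((inclR M ρ R hMR m : R.comap (pr1 M ρ (Nat.card M))) :
    Gam M ρ (Nat.card M)) = incl M ρ m := rfl

theorem hat_restrict_isIrr (hMR : M ≤ R) : Cfsg.IsIrrCharacter (R.comap (pr1 M ρ (Nat.card M)))
    (fun t => hatChar M ρ (Nat.card M) (t : Gam M ρ (Nat.card M))) := by
  apply Cfsg.Agent.Lib.Helper3.GlueExt.isIrrCharacter_of_comp_irr (inclR M ρ R hMR)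
    (IsCharacter.restrict _ (hatChar_isCharacter M ρ _))
  have h1 : (fun x : M => hatChar M ρ (Nat.card M)
      ((inclR M ρ R hMR x : R.comap (pr1 M ρ (Nat.card M))) : Gam M ρ (Nat.card M)))
      = ρ.character := by
    funext x
    rw [inclR_coe, hatChar_incl]
  rw [h1]
  exact isIrrCharacter_character ρ

/-- from the image of `M` inside the preimage of `R` back to `M` -/
noncomputable def toM : ((incl M ρ).range.subgroupOf (R.comap (pr1 M ρ (Nat.card M)))) →* M where
  toFun x := ⟨pr1 M ρ (Nat.card M) (x.1.1), by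
    obtain ⟨m, hm⟩ := (Subgroup.mem_subgroupOf.mp x.2)
    rw [← hm, pr1_incl]
    exact m.2⟩
  map_one' := Subtype.ext (by simp)
  map_mul' a b := Subtype.ext (by simp)

theorem incl_toM (x : (incl M ρ).range.subgroupOf (R.comap (pr1 M ρ (Nat.card M)))) :
    incl M ρ (toM M ρ R x) = (x.1.1 : Gam M ρ (Nat.card M)) := by
  obtain ⟨m, hm⟩ := (Subgroup.mem_subgroupOf.mp x.2)
  have h1 : toM M ρ R x = m := by
    apply Subtype.ext
    show ((pr1 M ρ (Nat.card M) (x.1.1) : G)) = m
    rw [← hm, pr1_incl]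
  rw [h1, hm]

theorem toM_surjective (hMR : M ≤ R) : Function.Surjective (toM M ρ R) := by
  intro m
  refine ⟨⟨inclR M ρ R hMR m, ?_⟩, ?_⟩
  · rw [Subgroup.mem_subgroupOf, inclR_coe]
    exact ⟨m, rfl⟩
  · apply Subtype.ext
    show ((pr1 M ρ (Nat.card M) (incl M ρ m) : G)) = m
    rw [pr1_incl]

theorem hat_restrict_range_isIrr (hMR : M ≤ R) :
    Cfsg.IsIrrCharacter ((incl M ρ).range.subgroupOf (R.comap (pr1 M ρ (Nat.card M))))
      (fun n => hatChar M ρ (Nat.card M) ((n : R.comap (pr1 M ρ (Nat.card M))) :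
        Gam M ρ (Nat.card M))) := by
  have h1 : (fun n : (incl M ρ).range.subgroupOf (R.comap (pr1 M ρ (Nat.card M))) =>
      hatChar M ρ (Nat.card M) ((n : R.comap (pr1 M ρ (Nat.card M))) : Gam M ρ (Nat.card M)))
      = fun n => ρ.character (toM M ρ R n) := by
    funext n
    rw [← incl_toM, hatChar_incl]
  rw [h1]
  exact isIrrCharacter_comp_surjective (toM M ρ R) (toM_surjective M ρ R hMR)
    (isIrrCharacter_character ρ)

end restrict

/-- Claim A, abstract form -/
theorem claimA_abs {T : Type u} [Group T] [Fintype T] (Nn : Subgroup T) [hNn : Nn.Normal]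
    {θh : T → ℂ} (hθh : Cfsg.IsIrrCharacter T θh)
    (hθ : Cfsg.IsIrrCharacter Nn (fun n : Nn => θh n)) {e : ℕ}
    (τT : Representation ℂ T (Fin e → ℂ)) (hker : ∀ n ∈ Nn, τT n = 1) {ξ' : T → ℂ}
    (hξ' : Cfsg.IsIrrCharacter T ξ') (a : ℕ) (hne : (a : ℂ) * ξ' 1 ≠ 0)
    (hprod : ∀ t, (a : ℂ) * ξ' t = τT.character t * θh t) :
    ∃ (β : T ⧸ Nn → ℂ) (m : ℕ), Cfsg.IsIrrCharacter (T ⧸ Nn) β ∧
      ∀ t, τT.character t = m * β (QuotientGroup.mk t) := by
  classical
  haveI : Fintype Nn := Fintype.ofFinite _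
  haveI : Fintype (T ⧸ Nn) := Fintype.ofFinite _
  haveI : Fintype (Cfsg.IrrCharacter (T ⧸ Nn)) := Fintype.ofFinite _
  have hker' : Nn ≤ (τT : T →* Module.End ℂ (Fin e → ℂ)).ker := by
    intro x hx
    rw [MonoidHom.mem_ker]
    exact hker x hx
  let τq : Representation ℂ (T ⧸ Nn) (Fin e → ℂ) :=
    QuotientGroup.lift Nn (τT : T →* Module.End ℂ (Fin e → ℂ)) hker'
  have hτq : ∀ t : T, τq.character (QuotientGroup.mk t) = τT.character t := by
    intro t
    rfl
  have hΘ : Cfsg.IsCharacter (T ⧸ Nn) τq.character := ⟨e, τq, rfl⟩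
  obtain ⟨mlt, hmlt, hmi⟩ := IsCharacter.exists_mult hΘ
  have hval := fun q => apply_eq_sum_mult hmlt q
  let infl : Cfsg.IrrCharacter (T ⧸ Nn) → T → ℂ := fun β t => β.1 (QuotientGroup.mk t)
  have hinflirr : ∀ β : Cfsg.IrrCharacter (T ⧸ Nn), Cfsg.IsIrrCharacter T (infl β * θh) :=
    fun β => Cfsg.Agent.Lib.Helper3.GallagherDecomp.isIrrCharacter_infl_mul Nn hθh hθ β
  have hsumfun : ((a : ℂ) • ξ') = ∑ β : Cfsg.IrrCharacter (T ⧸ Nn), (mlt β : ℂ) • (infl β * θh) := by
    funext t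
    rw [Pi.smul_apply, smul_eq_mul, hprod, ← hτq, hval, Finset.sum_apply, Finset.sum_mul]
    apply Finset.sum_congr rfl
    intro β _
    rw [Pi.smul_apply, Pi.mul_apply, smul_eq_mul, mul_assoc]
  have hinj : ∀ β β' : Cfsg.IrrCharacter (T ⧸ Nn), infl β * θh = infl β' * θh → β = β' := by
    intro β β' h
    apply Subtype.ext
    exact Cfsg.Agent.Lib.Helper3.GallagherDecomp.mul_infl_injective Nn hθh hθ _ _ h
  have key : ∀ β : Cfsg.IrrCharacter (T ⧸ Nn), mlt β ≠ 0 → infl β * θh = ξ' := by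
    intro β hβ
    by_contra hne'
    have h1 : Cfsg.classInner ((a : ℂ) • ξ') (infl β * θh) = 0 := by
      rw [classInner_smul_left, classInner_isIrrCharacter hξ' (hinflirr β),
        if_neg (Ne.symm hne'), mul_zero]
    rw [hsumfun, classInner_sum_left] at h1
    have h2 : ∀ β' : Cfsg.IrrCharacter (T ⧸ Nn),
        Cfsg.classInner ((mlt β' : ℂ) • (infl β' * θh)) (infl β * θh)
          = if β' = β then (mlt β' : ℂ) else 0 := by
      intro β'
      rw [classInner_smul_left, classInner_isIrrCharacter (hinflirr β') (hinflirr β)]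
      by_cases hb : β' = β
      · rw [if_pos hb, if_pos (by rw [hb]), mul_one]
      · rw [if_neg hb, if_neg (fun h => hb (hinj _ _ h)), mul_zero]
    rw [Finset.sum_congr rfl (fun β' _ => h2 β'), Finset.sum_ite_eq' Finset.univ β] at h1
    simp only [Finset.mem_univ, if_true] at h1
    exact hβ (by exact_mod_cast h1)
  have hex : ∃ β0 : Cfsg.IrrCharacter (T ⧸ Nn), mlt β0 ≠ 0 := by
    by_contra hall
    push Not at hall
    have h1 := hprod 1
    rw [← hτq, hval] at h1
    rw [Finset.sum_eq_zero (fun β _ => by rw [hall β, Nat.cast_zero, zero_mul]), zero_mul] at h1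
    exact hne h1
  obtain ⟨β0, hβ0⟩ := hex
  have hall : ∀ β : Cfsg.IrrCharacter (T ⧸ Nn), mlt β ≠ 0 → β = β0 := by
    intro β hβ
    apply hinj
    rw [key β hβ, key β0 hβ0]
  refine ⟨β0.1, mlt β0, β0.2, ?_⟩
  intro x
  rw [← hτq, hval, Finset.sum_eq_single β0]
  · intro b _ hb
    have : mlt b = 0 := by
      by_contra h
      exact hb (hall b h)
    rw [this, Nat.cast_zero, zero_mul]
  · intro h
    exact absurd (Finset.mem_univ _) h

/-- Claim A: homogeneity passes from `χ` on `R` to the factor `τ` on the preimage of `R`. -/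
theorem claimA (hsurj : Function.Surjective (pr1 M ρ (Nat.card M))) {e : ℕ}
    (τ : Representation ℂ (Gam M ρ (Nat.card M)) (Fin e → ℂ))
    (hτ : ∀ m : M, τ (incl M ρ m) = LinearMap.id) (χ : G → ℂ) (hχ1 : χ 1 ≠ 0)
    (hfac : ∀ γ : Gam M ρ (Nat.card M),
      χ (pr1 M ρ (Nat.card M) γ) = τ.character γ * hatChar M ρ (Nat.card M) γ)
    (R : Subgroup G) (hMR : M ≤ R) (ξ : R → ℂ) (hξ : Cfsg.IsIrrCharacter R ξ) (a : ℕ)
    (hres : (fun r : R => χ r) = (a : ℂ) • ξ) :
    ∃ (β : (R.comap (pr1 M ρ (Nat.card M))) ⧸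
        ((incl M ρ).range.subgroupOf (R.comap (pr1 M ρ (Nat.card M)))) → ℂ) (m : ℕ),
      Cfsg.IsIrrCharacter _ β ∧ ∀ x : R.comap (pr1 M ρ (Nat.card M)),
        τ.character (x : Gam M ρ (Nat.card M)) = m * β (QuotientGroup.mk x) := by
  classical
  haveI : Fintype (Gam M ρ (Nat.card M)) := Fintype.ofFinite _
  haveI : Fintype (R.comap (pr1 M ρ (Nat.card M))) := Fintype.ofFinite _
  have hθh := hat_restrict_isIrr M ρ R hMR
  have hθ := hat_restrict_range_isIrr M ρ R hMR
  have hpT := (pr1 M ρ (Nat.card M)).subgroupComap_surjective_of_surjective R hsurj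
  have hξ' : Cfsg.IsIrrCharacter (R.comap (pr1 M ρ (Nat.card M)))
      (fun t => ξ ((pr1 M ρ (Nat.card M)).subgroupComap R t)) :=
    isIrrCharacter_comp_surjective _ hpT hξ
  let τT : Representation ℂ (R.comap (pr1 M ρ (Nat.card M))) (Fin e → ℂ) :=
    (τ : Gam M ρ (Nat.card M) →* Module.End ℂ (Fin e → ℂ)).comp
      (R.comap (pr1 M ρ (Nat.card M))).subtype
  have hτT : ∀ t : R.comap (pr1 M ρ (Nat.card M)),
      τT.character t = τ.character (t : Gam M ρ (Nat.card M)) := fun t => rfl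
  have hker : ∀ n ∈ (incl M ρ).range.subgroupOf (R.comap (pr1 M ρ (Nat.card M))), τT n = 1 := by
    intro x hx
    obtain ⟨m, hm⟩ := Subgroup.mem_subgroupOf.mp hx
    show τ (x : Gam M ρ (Nat.card M)) = 1
    rw [← hm, hτ]
    rfl
  have hres1 : ∀ r : R, χ r = (a : ℂ) * ξ r := by
    intro r
    have h1 := congrFun hres r
    rw [Pi.smul_apply, smul_eq_mul] at h1
    exact h1
  have hprod : ∀ t : R.comap (pr1 M ρ (Nat.card M)),
      (a : ℂ) * ξ ((pr1 M ρ (Nat.card M)).subgroupComap R t)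
        = τT.character t * hatChar M ρ (Nat.card M) (t : Gam M ρ (Nat.card M)) := by
    intro t
    rw [hτT, ← hfac, ← hres1]
    rfl
  have hne : (a : ℂ) * ξ ((pr1 M ρ (Nat.card M)).subgroupComap R 1) ≠ 0 := by
    rw [map_one, ← hres1]
    exact hχ1
  obtain ⟨β, m, hβ, hm⟩ := claimA_abs _ hθh hθ τT hker hξ' a hne hprod
  exact ⟨β, m, hβ, fun x => by rw [← hτT]; exact hm x⟩

end Cfsg.Agent.Lib.Helper3.Bg
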