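import Mathlib

set_option autoImplicit false
set_option maxHeartbeats 4000000
set_option maxRecDepth 100000
set_option linter.unusedVariables false
set_option linter.unusedSectionVars false
set_option linter.style.haveILetI false
set_option linter.deprecated false

/-! # A weighted fixed-point congruence -/

namespace Cfsg.Agent.Lib.Helper3.CT

/-- if `σ` has order dividing `p`, preserves the weight `w` and has no fixed points of nonzero
weight, then `p` divides the total weight -/
theorem dvd_sum_of_perm {α : Type*} [Fintype α] [DecidableEq α] (p : ℕ) [hp : Fact p.Prime]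
    (σ : α → α) (hσ : σ^[p] = id) (w : α → ℕ) (hw : ∀ a, w (σ a) = w a)
    (hfix : ∀ a, w a ≠ 0 → σ a ≠ a) : p ∣ ∑ a, w a := by
  classical
  have h1 : ∑ a, w a = ∑ b ∈ Finset.univ.image w,
      (Finset.univ.filter (fun a => w a = b)).card • b := by
    have := Finset.sum_comp (s := (Finset.univ : Finset α)) (f := fun b : ℕ => b) (g := w)
    simpa using this
  rw [h1]
  apply Finset.dvd_sum
  intro b _
  rcases Nat.eq_zero_or_pos b with rfl | hb
  · simp
  · rw [smul_eq_mul]
    apply Dvd.dvd.mul_right
    -- the restricted map
    let g : Function.End {a : α // w a = b} := fun x => ⟨σ x.1, (hw x.1).trans x.2⟩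
    have hiter : ∀ n : ℕ, ∀ x : {a : α // w a = b}, ((g ^ n) x).1 = σ^[n] x.1 := by
      intro n
      induction n with
      | zero => intro x; rfl
      | succ n ih =>
        intro x
        have e1 : (g ^ (n + 1)) x = (g ^ n) (g x) := by rw [pow_succ]; rfl
        rw [e1, ih (g x), Function.iterate_succ_apply]
    have hg : g ^ p ^ 1 = 1 := by
      rw [pow_one]
      funext x
      apply Subtype.ext
      rw [hiter p x, hσ]
      rfl
    have hmod := Equiv.Perm.card_fixedPoints_modEq (p := p) (n := 1) hg
    have hempty : Fintype.card (Function.fixedPoints g) = 0 := by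
      rw [Fintype.card_eq_zero_iff]
      constructor
      rintro ⟨x, hx⟩
      have h2 : g x = x := hx
      have h3 : σ x.1 = x.1 := congrArg Subtype.val h2
      exact hfix x.1 (by rw [x.2]; exact hb.ne') h3
    rw [hempty] at hmod
    have h4 : Fintype.card {a : α // w a = b} = (Finset.univ.filter (fun a => w a = b)).card :=
      Fintype.card_subtype _
    rw [← h4]
    exact (Nat.modEq_zero_iff_dvd).mp hmod

end Cfsg.Agent.Lib.Helper3.CT
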