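import Mathlib

set_option autoImplicit false
set_option maxHeartbeats 4000000
set_option maxRecDepth 100000
set_option linter.unusedVariables false
set_option linter.unusedSectionVars false
set_option linter.style.haveILetI false
set_option linter.deprecated false

/-! # Group-theoretic lemmas for groups of central type (Howlett–Isaacs style arguments) -/

namespace Cfsg.Agent.Lib.Helper3.CT

open scoped Pointwise

variable {G : Type*} [Group G]

/-- for `K` normal, `|K : V ∩ K|` divides `|G : V|` -/
theorem relIndex_dvd_index_of_normal_right [Finite G] (V K : Subgroup G) [K.Normal] :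
    V.relIndex K ∣ V.index := by
  have h1 : (V ⊓ K).relIndex K * K.index = (V ⊓ K).index := Subgroup.relIndex_mul_index inf_le_right
  have h2 : (V ⊓ K).relIndex V * V.index = (V ⊓ K).index := Subgroup.relIndex_mul_index inf_le_left
  have h3 : K.relIndex (V ⊔ K) * (V ⊔ K).index = K.index := Subgroup.relIndex_mul_index le_sup_right
  have h4 : K.relIndex (V ⊔ K) = K.relIndex V := Subgroup.relIndex_sup_right V K
  have h5 : (V ⊓ K).relIndex V = K.relIndex V := Subgroup.inf_relIndex_left V K
  have h6 : (V ⊓ K).relIndex K = V.relIndex K := Subgroup.inf_relIndex_right V K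
  rw [h6] at h1
  rw [h5] at h2
  rw [h4] at h3
  have hc : 0 < K.relIndex V :=
    Nat.pos_of_ne_zero (Subgroup.index_ne_zero_of_finite (H := K.subgroupOf V))
  refine ⟨(V ⊔ K).index, ?_⟩
  have : K.relIndex V * V.index = K.relIndex V * (V.relIndex K * (V ⊔ K).index) := by
    rw [h2, ← h1, ← h3]; ring
  exact Nat.eq_of_mul_eq_mul_left hc this

/-- a divisor of a prime power is a prime power -/
theorem exists_pow_of_dvd_pow {p : ℕ} (hp : p.Prime) {a n : ℕ} (h : a ∣ p ^ n) : ∃ b, a = p ^ b := by
  obtain ⟨b, _, hb⟩ := (Nat.dvd_prime_pow hp).mp h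
  exact ⟨b, hb⟩

/-- a number dividing a prime power and coprime to the prime is `1` -/
theorem eq_one_of_dvd_pow_of_not_dvd {p : ℕ} (hp : p.Prime) {a n : ℕ} (h : a ∣ p ^ n)
    (h2 : ¬ p ∣ a) : a = 1 := by
  obtain ⟨b, hb⟩ := exists_pow_of_dvd_pow hp h
  rcases Nat.eq_zero_or_pos b with rfl | hb0
  · simpa using hb
  · exfalso
    apply h2
    rw [hb]
    exact dvd_pow_self p hb0.ne'

/-- complement criterion -/
theorem isComplement'_of_cover {Q : Type*} [Group Q] [Finite Q] (p : ℕ) [hp : Fact p.Prime]
    (M P : Subgroup Q) (hP : IsPGroup p P) (hM : (Nat.card M).Coprime p)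
    (hcov : ∀ q : Q, ∃ m ∈ M, ∃ x ∈ P, q = m * x) :
    M.IsComplement' P ∧ M.index = p ^ (Nat.card Q).factorization p := by
  have hdisj : Disjoint M P := by
    rw [Subgroup.disjoint_def]
    intro x hxM hxP
    obtain ⟨k, hk⟩ := hP ⟨x, hxP⟩
    have hk' : x ^ (p ^ k) = 1 := by
      have := congrArg Subtype.val hk
      simpa using this
    have h1 : orderOf x ∣ p ^ k := orderOf_dvd_of_pow_eq_one hk'
    have h2 : orderOf x ∣ Nat.card M := by
      have : orderOf (⟨x, hxM⟩ : M) ∣ Nat.card M := orderOf_dvd_natCard _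
      rwa [← Subgroup.orderOf_coe] at this
    have h3 : Nat.Coprime (orderOf x) (p ^ k) :=
      Nat.Coprime.coprime_dvd_left h2 (Nat.Coprime.pow_right k hM)
    have h4 : orderOf x = 1 := Nat.Coprime.eq_one_of_dvd h3 h1
    exact orderOf_eq_one_iff.mp h4
  have hmul : (M : Set Q) * (P : Set Q) = Set.univ := by
    apply Set.eq_univ_of_forall
    intro q
    obtain ⟨m, hm, x, hx, rfl⟩ := hcov q
    exact Set.mul_mem_mul hm hx
  have hc : M.IsComplement' P := Subgroup.isComplement'_of_disjoint_and_mul_eq_univ hdisj hmul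
  refine ⟨hc, ?_⟩
  have hcard := hc.card_mul_card
  obtain ⟨n, hn⟩ := IsPGroup.iff_card.mp hP
  have hidx : M.index = Nat.card P := hc.symm.index_eq_card
  rw [hidx, hn]
  congr 1
  rw [← hcard, hn, Nat.factorization_mul Nat.card_pos.ne' (pow_ne_zero _ hp.out.ne_zero)]
  simp only [Finsupp.coe_add, Pi.add_apply]
  rw [Nat.factorization_eq_zero_of_not_dvd, hp.out.factorization_pow]
  · simp
  · intro h
    have := Nat.Coprime.eq_one_of_dvd hM.symm h
    exact hp.out.one_lt.ne' this

end Cfsg.Agent.Lib.Helper3.CT
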