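import Mathlib
import Cfsg.Agent.Lib.Helper3.CT1

set_option autoImplicit false
set_option maxHeartbeats 4000000
set_option maxRecDepth 100000
set_option linter.unusedVariables false
set_option linter.unusedSectionVars false
set_option linter.style.haveILetI false
set_option linter.deprecated false

/-! # Frattini argument modulo a normal subgroup, and extraction of `p`-elements -/

namespace Cfsg.Agent.Lib.Helper3.CT

open scoped Pointwise

variable {H : Type*} [Group H]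

theorem mem_iff_mk_mem_map (Z U : Subgroup H) [Z.Normal] (hZU : Z ≤ U) (a : H) :
    a ∈ U ↔ (QuotientGroup.mk' Z) a ∈ U.map (QuotientGroup.mk' Z) := by
  constructor
  · intro ha
    exact Subgroup.mem_map_of_mem _ ha
  · rintro ⟨u, hu, hua⟩
    have h1 : u⁻¹ * a ∈ Z := by
      have : (QuotientGroup.mk u : H ⧸ Z) = QuotientGroup.mk a := hua
      exact QuotientGroup.eq.mp this
    have : a = u * (u⁻¹ * a) := by group
    rw [this]
    exact U.mul_mem hu (hZU h1)

theorem comap_map_mk_eq (Z U : Subgroup H) [Z.Normal] (hZU : Z ≤ U) :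
    (U.map (QuotientGroup.mk' Z)).comap (QuotientGroup.mk' Z) = U := by
  ext a
  rw [Subgroup.mem_comap]
  exact (mem_iff_mk_mem_map Z U hZU a).symm

theorem card_map_mk_eq_relIndex (Z U : Subgroup H) [Z.Normal] (hZU : Z ≤ U) :
    Nat.card (U.map (QuotientGroup.mk' Z)) = Z.relIndex U := by
  have h1 : Z = (⊥ : Subgroup (H ⧸ Z)).comap (QuotientGroup.mk' Z) := by
    rw [MonoidHom.comap_bot, QuotientGroup.ker_mk']
  conv_rhs => rw [h1]
  rw [Subgroup.relIndex_comap, Subgroup.relIndex_bot_left]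

theorem relIndex_map_mk_eq (Z U K : Subgroup H) [Z.Normal] (hZU : Z ≤ U) :
    (U.map (QuotientGroup.mk' Z)).relIndex (K.map (QuotientGroup.mk' Z)) = U.relIndex K := by
  conv_rhs => rw [← comap_map_mk_eq Z U hZU]
  rw [Subgroup.relIndex_comap]

/-- Frattini argument modulo `Z` -/
theorem frattini_mod [Finite H] (p : ℕ) [hp : Fact p.Prime] (Z K U : Subgroup H) [Z.Normal]
    [K.Normal] (hZU : Z ≤ U) (hUK : U ≤ K) (hUp : ∃ a, Z.relIndex U = p ^ a)
    (hKU : ¬ p ∣ U.relIndex K) (h : H) :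
    ∃ k ∈ K, ∀ a, a ∈ U ↔ (k * h) * a * (k * h)⁻¹ ∈ U := by
  classical
  set π := QuotientGroup.mk' Z with hπ
  have hπs : Function.Surjective π := QuotientGroup.mk'_surjective Z
  set Ub := U.map π with hUb
  set Kb := K.map π with hKb
  haveI hKbn : Kb.Normal := Subgroup.Normal.map inferInstance π hπs
  have hUbKb : Ub ≤ Kb := Subgroup.map_mono hUK
  obtain ⟨a, ha⟩ := hUp
  have hUbcard : Nat.card Ub = p ^ a := by rw [hUb, card_map_mk_eq_relIndex Z U hZU, ha]
  have hUbp : IsPGroup p Ub := IsPGroup.of_card hUbcard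
  have hrel : Ub.relIndex Kb = U.relIndex K := relIndex_map_mk_eq Z U K hZU
  -- a Sylow subgroup of `Kb` equal to `Ub`
  have hU'p : IsPGroup p (Ub.subgroupOf Kb) :=
    hUbp.of_equiv (Subgroup.subgroupOfEquivOfLe hUbKb).symm
  obtain ⟨Pb, hPb⟩ := hU'p.exists_le_sylow
  have hPeq : (Pb : Subgroup Kb) = Ub.subgroupOf Kb := by
    apply le_antisymm _ hPb
    rw [← Subgroup.relIndex_eq_one]
    have h1 : (Ub.subgroupOf Kb).relIndex (Pb : Subgroup Kb) ∣ (Ub.subgroupOf Kb).index :=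
      Subgroup.relIndex_dvd_index_of_le hPb
    have h2 : (Ub.subgroupOf Kb).relIndex (Pb : Subgroup Kb) ∣ Nat.card (Pb : Subgroup Kb) :=
      Subgroup.relIndex_dvd_card _ _
    obtain ⟨n, hn⟩ := IsPGroup.iff_card.mp Pb.2
    rw [hn] at h2
    apply eq_one_of_dvd_pow_of_not_dvd hp.out h2
    intro h3
    apply hKU
    rw [← hrel]
    exact dvd_trans h3 h1
  have hfr := Sylow.normalizer_sup_eq_top Pb
  have hmap : (Pb : Subgroup Kb).map Kb.subtype = Ub := by
    rw [hPeq, Subgroup.subgroupOf_map_subtype, inf_of_le_left hUbKb]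
  rw [hmap, sup_comm] at hfr
  have hg : π h ∈ Kb ⊔ Subgroup.normalizer (Ub : Set (H ⧸ Z)) := by rw [hfr]; trivial
  rw [← SetLike.mem_coe, Subgroup.normal_mul] at hg
  obtain ⟨kb, hkb, nb, hnb, hkn⟩ := hg
  obtain ⟨k₀, hk₀, rfl⟩ := hkb
  refine ⟨k₀⁻¹, K.inv_mem hk₀, ?_⟩
  have hnb' : π (k₀⁻¹ * h) = nb := by
    rw [map_mul, map_inv]
    have : π h = π k₀ * nb := hkn.symm
    rw [this]
    group
  intro x
  rw [mem_iff_mk_mem_map Z U hZU x, mem_iff_mk_mem_map Z U hZU (k₀⁻¹ * h * x * (k₀⁻¹ * h)⁻¹)]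
  rw [map_mul, map_mul, map_inv, hnb']
  exact Subgroup.mem_normalizer_iff.mp hnb (π x)

/-- extraction of a `p`-element with nontrivial image -/
theorem exists_pelement_of_dvd_card_map {Q : Type*} [Group Q] [Finite H] (p : ℕ) [hp : Fact p.Prime]
    (π : H →* Q) (S : Subgroup H) (h : p ∣ Nat.card (S.map π)) :
    ∃ t ∈ S, (∃ j, orderOf t = p ^ j) ∧ π t ≠ 1 := by
  haveI : Finite (S.map π) :=
    Finite.of_surjective (fun s : S => (⟨π s, Subgroup.mem_map_of_mem π s.2⟩ : S.map π))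
      (by rintro ⟨_, s, hs, rfl⟩; exact ⟨⟨s, hs⟩, rfl⟩)
  obtain ⟨m, hm⟩ := exists_prime_orderOf_dvd_card' p h
  obtain ⟨s, hs, hsm⟩ := m.2
  have ho : orderOf s ≠ 0 := (orderOf_pos s).ne'
  obtain ⟨a, r, hr, hor⟩ := Nat.exists_eq_pow_mul_and_not_dvd ho p hp.out.ne_one
  refine ⟨s ^ r, S.pow_mem hs r, ⟨a, ?_⟩, ?_⟩
  · rw [orderOf_pow' s (by rintro rfl; simp at hr), hor]
    have hr0 : 0 < r := Nat.pos_of_ne_zero (by rintro rfl; simp at hr)
    rw [Nat.gcd_eq_right (Dvd.intro_left _ rfl), Nat.mul_div_cancel _ hr0]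
  · intro h1
    rw [map_pow, hsm] at h1
    have h2 : orderOf (m : Q) ∣ r := orderOf_dvd_of_pow_eq_one h1
    rw [Subgroup.orderOf_coe, hm] at h2
    exact hr h2

end Cfsg.Agent.Lib.Helper3.CT
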