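import Mathlib
import Cfsg.Agent.Lib.Helper3.CT2

set_option autoImplicit false
set_option maxHeartbeats 4000000
set_option maxRecDepth 100000
set_option linter.unusedVariables false
set_option linter.unusedSectionVars false
set_option linter.style.haveILetI false
set_option linter.deprecated false

/-! # Assembly: a `p'`-subgroup of `H ⧸ K` covering together with the image of `V₀` -/

namespace Cfsg.Agent.Lib.Helper3.CT

open scoped Pointwise

variable {H : Type*} [Group H]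

/-- admissible subgroups: `V/Z` is a Sylow `p`-subgroup of `H/Z` -/
def Adm (p : ℕ) (Z V : Subgroup H) : Prop :=
  Z ≤ V ∧ (∃ a, Z.relIndex V = p ^ a) ∧ ¬ p ∣ V.index

/-- the stabilizer of the pair `(U, F|U)` -/
def stab {X : Type*} (U : Subgroup H) (F : H → X) : Subgroup H where
  carrier := {h | (∀ a, a ∈ U ↔ h * a * h⁻¹ ∈ U) ∧ ∀ a ∈ U, F (h * a * h⁻¹) = F a}
  one_mem' := by
    refine ⟨fun a => by simp, fun a _ => by simp⟩
  mul_mem' := by
    rintro g h ⟨hg1, hg2⟩ ⟨hh1, hh2⟩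
    have e : ∀ a, g * h * a * (g * h)⁻¹ = g * (h * a * h⁻¹) * g⁻¹ := fun a => by group
    refine ⟨fun a => ?_, fun a ha => ?_⟩
    · rw [e, ← hg1, ← hh1]
    · rw [e, hg2 _ ((hh1 a).mp ha), hh2 a ha]
  inv_mem' := by
    rintro h ⟨hh1, hh2⟩
    have e : ∀ a, h * (h⁻¹ * a * h⁻¹⁻¹) * h⁻¹ = a := fun a => by group
    refine ⟨fun a => ?_, fun a ha => ?_⟩
    · rw [hh1 (h⁻¹ * a * h⁻¹⁻¹), e]
    · have hb : h⁻¹ * a * h⁻¹⁻¹ ∈ U := by rw [hh1 (h⁻¹ * a * h⁻¹⁻¹), e]; exact ha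
      have := hh2 _ hb
      rw [e] at this
      exact this.symm

theorem mem_stab {X : Type*} (U : Subgroup H) (F : H → X) (h : H) :
    h ∈ stab U F ↔ (∀ a, a ∈ U ↔ h * a * h⁻¹ ∈ U) ∧ ∀ a ∈ U, F (h * a * h⁻¹) = F a := Iff.rfl

theorem assembly [Finite H] (p : ℕ) [hp : Fact p.Prime] (Z K : Subgroup H) [Z.Normal] [K.Normal]
    (hZK : Z ≤ K) {X : Type*} (𝒢 : Subgroup H → (H → X) → Prop)
    (hconj : ∀ (A : Subgroup H) (F : H → X) (n : H), 𝒢 A F → (∀ a, a ∈ A ↔ n * a * n⁻¹ ∈ A) →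
      𝒢 A (fun x => F (n * x * n⁻¹)))
    (htrans : ∀ V, Adm p Z V → ∀ F F', 𝒢 (V ⊓ K) F → 𝒢 (V ⊓ K) F' →
      ∃ v ∈ V, ∀ a ∈ V ⊓ K, F' a = F (v * a * v⁻¹))
    (hfree : ∀ V, Adm p Z V → ∀ F, 𝒢 (V ⊓ K) F → ∀ v ∈ V,
      (∀ a ∈ V ⊓ K, F (v * a * v⁻¹) = F a) → v ∈ K)
    (V₀ : Subgroup H) (hV₀ : Adm p Z V₀) (F₀ : H → X) (hF₀ : 𝒢 (V₀ ⊓ K) F₀) :
    ∃ M : Subgroup (H ⧸ K), (Nat.card M).Coprime p ∧
      ∀ q : H ⧸ K, ∃ m ∈ M, ∃ x ∈ V₀.map (QuotientGroup.mk' K), q = m * x := by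
  classical
  obtain ⟨hZV, ⟨a₀, ha₀⟩, hVidx⟩ := hV₀
  set U := V₀ ⊓ K with hU
  have hZU : Z ≤ U := le_inf hZV hZK
  have hUK : U ≤ K := inf_le_right
  have hUp : ∃ b, Z.relIndex U = p ^ b := by
    have h1 : Z.relIndex U * U.relIndex V₀ = Z.relIndex V₀ :=
      Subgroup.relIndex_mul_relIndex Z U V₀ hZU inf_le_left
    exact exists_pow_of_dvd_pow hp.out (ha₀ ▸ Dvd.intro _ h1)
  have hKU : ¬ p ∣ U.relIndex K := by
    rw [hU, Subgroup.inf_relIndex_right]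
    intro h
    exact hVidx (dvd_trans h (relIndex_dvd_index_of_normal_right V₀ K))
  have hVnorm : ∀ v ∈ V₀, ∀ a, a ∈ U ↔ v * a * v⁻¹ ∈ U := by
    intro v hv a
    rw [hU, Subgroup.mem_inf, Subgroup.mem_inf]
    constructor
    · rintro ⟨h1, h2⟩
      exact ⟨V₀.mul_mem (V₀.mul_mem hv h1) (V₀.inv_mem hv), ‹K.Normal›.conj_mem a h2 v⟩
    · rintro ⟨h1, h2⟩
      have e : a = v⁻¹ * (v * a * v⁻¹) * v⁻¹⁻¹ := by group
      rw [e]
      exact ⟨V₀.mul_mem (V₀.mul_mem (V₀.inv_mem hv) h1) (V₀.inv_mem (V₀.inv_mem hv)),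
        ‹K.Normal›.conj_mem _ h2 v⁻¹⟩
  set S := stab U F₀ with hS
  -- (b) `p`-elements of `S` lie in `K`
  have hb : ∀ t ∈ S, (∃ j, orderOf t = p ^ j) → t ∈ K := by
    rintro t ⟨ht1, ht2⟩ ⟨j, hj⟩
    set π := QuotientGroup.mk' Z with hπ
    have hπs : Function.Surjective π := QuotientGroup.mk'_surjective Z
    set Ub := U.map π with hUb
    obtain ⟨b, hb⟩ := hUp
    have hUbp : IsPGroup p Ub := IsPGroup.of_card (by rw [hUb, card_map_mk_eq_relIndex Z U hZU, hb])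
    have htp : IsPGroup p (Subgroup.zpowers (π t)) := by
      apply IsPGroup.of_card (n := (Nat.card (Subgroup.zpowers (π t))).factorization p)
      rw [Nat.card_zpowers]
      have h1 : orderOf (π t) ∣ p ^ j := hj ▸ orderOf_map_dvd π t
      obtain ⟨c, hc⟩ := exists_pow_of_dvd_pow hp.out h1
      rw [hc, hp.out.factorization_pow]
      simp
    have hnorm : Subgroup.zpowers (π t) ≤ Subgroup.normalizer (Ub : Set (H ⧸ Z)) := by
      rw [Subgroup.zpowers_le, Subgroup.mem_normalizer_iff]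
      intro x
      obtain ⟨y, rfl⟩ := hπs x
      rw [← map_inv, ← map_mul, ← map_mul, ← mem_iff_mk_mem_map Z U hZU, ← mem_iff_mk_mem_map Z U hZU]
      exact ht1 y
    have hWp : IsPGroup p (Subgroup.zpowers (π t) ⊔ Ub : Subgroup (H ⧸ Z)) :=
      IsPGroup.to_sup_of_normal_right' htp hUbp hnorm
    obtain ⟨Q, hQ⟩ := hWp.exists_le_sylow
    set V' := (Q : Subgroup (H ⧸ Z)).comap π with hV'
    have hZV' : Z ≤ V' := by
      intro z hz
      rw [hV', Subgroup.mem_comap]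
      have : π z = 1 := (QuotientGroup.eq_one_iff z).mpr hz
      rw [this]
      exact Subgroup.one_mem _
    have hadm : Adm p Z V' := by
      refine ⟨hZV', ?_, ?_⟩
      · obtain ⟨n, hn⟩ := IsPGroup.iff_card.mp Q.2
        refine ⟨n, ?_⟩
        have h1 : Z = (⊥ : Subgroup (H ⧸ Z)).comap π := by
          rw [MonoidHom.comap_bot, hπ, QuotientGroup.ker_mk']
        conv_lhs => rw [h1]
        rw [Subgroup.relIndex_comap, hV', Subgroup.map_comap_eq_self_of_surjective hπs,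
          Subgroup.relIndex_bot_left, hn]
      · rw [hV', Subgroup.index_comap_of_surjective _ hπs]
        exact Q.not_dvd_index
    have htV' : t ∈ V' := by
      rw [hV', Subgroup.mem_comap]
      exact hQ (Subgroup.mem_sup_left (Subgroup.mem_zpowers _))
    have hUV' : U ≤ V' := by
      intro x hx
      rw [hV', Subgroup.mem_comap]
      exact hQ (Subgroup.mem_sup_right (Subgroup.mem_map_of_mem π hx))
    have hUU'' : V' ⊓ K = U := by
      apply le_antisymm _ (le_inf hUV' hUK)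
      rw [← Subgroup.relIndex_eq_one]
      obtain ⟨_, ⟨n, hn⟩, _⟩ := hadm
      have h1 : Z.relIndex (V' ⊓ K) * (V' ⊓ K).relIndex V' = Z.relIndex V' :=
        Subgroup.relIndex_mul_relIndex Z (V' ⊓ K) V' (le_inf hZV' hZK) inf_le_left
      have h2 : Z.relIndex U * U.relIndex (V' ⊓ K) = Z.relIndex (V' ⊓ K) :=
        Subgroup.relIndex_mul_relIndex Z U (V' ⊓ K) hZU (le_inf hUV' hUK)
      have h3 : U.relIndex (V' ⊓ K) * (V' ⊓ K).relIndex K = U.relIndex K :=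
        Subgroup.relIndex_mul_relIndex U (V' ⊓ K) K (le_inf hUV' hUK) inf_le_right
      have h4 : U.relIndex (V' ⊓ K) ∣ p ^ n := by
        rw [← hn, ← h1, ← h2]
        exact ⟨Z.relIndex U * (V' ⊓ K).relIndex V', by ring⟩
      apply eq_one_of_dvd_pow_of_not_dvd hp.out h4
      intro h5
      exact hKU (h3 ▸ Dvd.dvd.mul_right h5 _)
    have hG : 𝒢 (V' ⊓ K) F₀ := by rw [hUU'']; exact hF₀
    apply hfree V' hadm F₀ hG t htV'
    intro a ha
    rw [hUU''] at ha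
    exact ht2 a ha
  refine ⟨S.map (QuotientGroup.mk' K), ?_, ?_⟩
  · -- coprime
    apply Nat.Coprime.symm
    rw [Nat.Prime.coprime_iff_not_dvd hp.out]
    intro hdvd
    obtain ⟨t, htS, htp, htne⟩ := exists_pelement_of_dvd_card_map p (QuotientGroup.mk' K) S hdvd
    apply htne
    exact (QuotientGroup.eq_one_iff t).mpr (hb t htS htp)
  · -- cover
    intro q
    obtain ⟨h, rfl⟩ := QuotientGroup.mk'_surjective K q
    obtain ⟨k, hk, hn⟩ := frattini_mod p Z K U hZU hUK hUp hKU h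
    set n := k * h with hndef
    have hG1 : 𝒢 U (fun x => F₀ (n * x * n⁻¹)) := hconj U F₀ n hF₀ hn
    obtain ⟨v, hv, hvF⟩ := htrans V₀ ⟨hZV, ⟨a₀, ha₀⟩, hVidx⟩ F₀ _ hF₀ hG1
    have hvinv : ∀ a, a ∈ U ↔ v⁻¹ * a * v⁻¹⁻¹ ∈ U := hVnorm v⁻¹ (V₀.inv_mem hv)
    have hs : n * v⁻¹ ∈ S := by
      have e : ∀ a, n * v⁻¹ * a * (n * v⁻¹)⁻¹ = n * (v⁻¹ * a * v⁻¹⁻¹) * n⁻¹ := fun a => by group
      refine ⟨fun a => ?_, fun a ha => ?_⟩
      · rw [e, ← hn, ← hvinv]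
      · rw [e]
        have hb' : v⁻¹ * a * v⁻¹⁻¹ ∈ U := (hvinv a).mp ha
        have := hvF _ hb'
        rw [this]
        congr 1
        group
    refine ⟨QuotientGroup.mk' K (n * v⁻¹), Subgroup.mem_map_of_mem _ hs,
      QuotientGroup.mk' K v, Subgroup.mem_map_of_mem _ hv, ?_⟩
    rw [← map_mul]
    have e : n * v⁻¹ * v = k * h := by rw [hndef]; group
    have hk1 : (QuotientGroup.mk' K) k = 1 := (QuotientGroup.eq_one_iff k).mpr hk
    rw [e, map_mul, hk1, one_mul]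

end Cfsg.Agent.Lib.Helper3.CT
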