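import Mathlib
import Cfsg.Prelude.Def_Characters
import Cfsg.Agent.Lib.Helper3.CT3
import Cfsg.Agent.Lib.Helper3.FullyRam1
import Cfsg.Agent.Lib.Helper3.GoingDown2
import Cfsg.Agent.Lib.Helper6.Multiplicity
import Cfsg.Agent.Lib.Helper6.Norm
import Cfsg.Agent.Lib.Helper6.Orthogonality
import Cfsg.Agent.Lib.Helper6.Mult

set_option autoImplicit false
set_option maxHeartbeats 4000000
set_option maxRecDepth 100000
set_option linter.unusedVariables false
set_option linter.unusedSectionVars false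
set_option linter.style.haveILetI false
set_option linter.deprecated false

/-! # Uniqueness of the character over `θ` on a Sylow subgroup modulo `Z` (DeMeyer–Janusz) -/

namespace Cfsg.Agent.Lib.Helper3.CT

open Cfsg Cfsg.Agent.Lib.Helper6
open scoped ComplexConjugate

variable {H : Type*} [Group H] [Fintype H]

/-- inner products on `V` of a function vanishing off `Z` -/
theorem classInner_restrict_of_vanish (Z V : Subgroup H) [Fintype Z] [Fintype V] (hZV : Z ≤ V)
    (χ : H → ℂ) (hvan : ∀ g, g ∉ Z → χ g = 0) (ξ : V → ℂ) :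
    Cfsg.classInner (fun v : V => χ v) ξ
      = (Nat.card V : ℂ)⁻¹ * ∑ z : Z, χ z * conj (ξ ⟨z, hZV z.2⟩) := by
  classical
  unfold Cfsg.classInner
  congr 1
  haveI : Fintype (Z.subgroupOf V) := Fintype.ofFinite _
  have h1 := Cfsg.Agent.Lib.Helper3.GoingDown.sum_subgroup_eq (Z.subgroupOf V)
    (fun v : V => χ v * conj (ξ v))
  have h2 : ∀ g : V, (if g ∈ Z.subgroupOf V then χ g * conj (ξ g) else 0) = χ g * conj (ξ g) := by
    intro g
    split_ifs with hg
    · rfl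
    · have : (g : H) ∉ Z := fun h => hg (Subgroup.mem_subgroupOf.mpr h)
      rw [hvan _ this, zero_mul]
  rw [Finset.sum_congr rfl (fun g _ => h2 g)] at h1
  rw [← h1]
  apply Fintype.sum_equiv (Subgroup.subgroupOfEquivOfLe hZV).toEquiv
  intro n
  rfl

theorem card_eq_card_mul_relIndex [Finite H] (Z V : Subgroup H) (hZV : Z ≤ V) :
    Nat.card V = Nat.card Z * Z.relIndex V := by
  have h1 := Subgroup.card_mul_index (Z.subgroupOf V)
  rw [Nat.card_congr (Subgroup.subgroupOfEquivOfLe hZV).toEquiv] at h1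
  exact h1.symm

/-- arithmetic core -/
theorem arith_core {p m r e c w k : ℕ} (hp : p.Prime) (hr : r = p ^ k) (h1 : m * r = e * c)
    (h2 : e ^ 2 = r * w) (hc : c ≠ 0) (hw : ¬ p ∣ w) (hw0 : w ≠ 0) : w ≤ m ^ 2 := by
  have hr0 : 0 < r := by rw [hr]; exact pow_pos hp.pos k
  have he0 : e ≠ 0 := by
    rintro rfl
    have : r * w = 0 := by rw [← h2]; simp
    rcases Nat.mul_eq_zero.mp this with h | h
    · omega
    · exact hw0 h
  have hm0 : m ≠ 0 := by
    rintro rfl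
    have : e * c = 0 := by rw [← h1]; simp
    rcases Nat.mul_eq_zero.mp this with h | h
    · exact he0 h
    · exact hc h
  have h3 : m ^ 2 * r = w * c ^ 2 := by
    have : (m ^ 2 * r) * r = (w * c ^ 2) * r := by
      calc (m ^ 2 * r) * r = (m * r) ^ 2 := by ring
        _ = (e * c) ^ 2 := by rw [h1]
        _ = e ^ 2 * c ^ 2 := by ring
        _ = (w * c ^ 2) * r := by rw [h2]; ring
    exact Nat.eq_of_mul_eq_mul_right hr0 this
  have hcop : Nat.Coprime w r := by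
    rw [hr]
    exact Nat.Coprime.pow_right k ((Nat.Prime.coprime_iff_not_dvd hp).mpr hw).symm
  have h4 : w ∣ m ^ 2 := hcop.dvd_of_dvd_mul_right (Dvd.intro _ h3.symm)
  exact Nat.le_of_dvd (by positivity) h4

/-- **DeMeyer–Janusz**: if `χ` is fully ramified over `Z` and `V/Z` is a Sylow `p`-subgroup of
`H/Z`, then `V` has a unique irreducible character over `θ`. -/
theorem unique_over (Z V : Subgroup H) [hZ : Z.Normal] [Fintype Z] [Fintype V] (hZV : Z ≤ V)
    (p : ℕ) [hp : Fact p.Prime]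
    {χ : H → ℂ} (hχ : Cfsg.IsIrrCharacter H χ) {θ : Z → ℂ} (hθ : Cfsg.IsIrrCharacter Z θ) (e : ℕ)
    (he : e ^ 2 = Z.index) (hres : ∀ z : Z, χ z = (e : ℂ) * θ z)
    (hVp : ∃ a, Z.relIndex V = p ^ a) (hVi : ¬ p ∣ V.index)
    {ξ ξ' : V → ℂ} (hξ : Cfsg.IsIrrCharacter V ξ) (hξ' : Cfsg.IsIrrCharacter V ξ')
    (hc : Cfsg.classInner (fun z : Z => ξ ⟨z, hZV z.2⟩) θ ≠ 0)
    (hc' : Cfsg.classInner (fun z : Z => ξ' ⟨z, hZV z.2⟩) θ ≠ 0) : ξ = ξ' := by
  classical
  haveI : Fintype (Cfsg.IrrCharacter V) := Fintype.ofFinite _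
  obtain ⟨k, hk⟩ := hVp
  have hvan : ∀ g, g ∉ Z → χ g = 0 :=
    fun g hg => Cfsg.Agent.Lib.Helper3.FullyRam.vanish_off Z hχ hθ e he hres g hg
  have hχV : Cfsg.IsCharacter V (fun v : V => χ v) :=
    IsCharacter.restrict V (IsIrrCharacter.isCharacter hχ)
  have hcardV : (Nat.card V : ℂ) = (Nat.card Z : ℂ) * ((p ^ k : ℕ) : ℂ) := by
    rw [card_eq_card_mul_relIndex Z V hZV, hk]; push_cast; ring
  have hZ0 : (Nat.card Z : ℂ) ≠ 0 := by
    have : Nat.card Z ≠ 0 := Nat.card_pos.ne'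
    exact_mod_cast this
  have hr0 : ((p ^ k : ℕ) : ℂ) ≠ 0 := by
    have : p ^ k ≠ 0 := pow_ne_zero _ hp.out.ne_zero
    exact_mod_cast this
  -- multiplicities
  obtain ⟨m, hm, hmi⟩ := IsCharacter.exists_mult hχV
  -- key identity for each irreducible character over θ
  have key : ∀ ζ : V → ℂ, Cfsg.IsIrrCharacter V ζ → ∀ a c : ℕ,
      Cfsg.classInner (fun v : V => χ v) ζ = a →
      Cfsg.classInner (fun z : Z => ζ ⟨z, hZV z.2⟩) θ = c → a * p ^ k = e * c := by
    intro ζ hζ a c ha hcc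
    rw [classInner_restrict_of_vanish Z V hZV χ hvan ζ] at ha
    have h1 : ∑ z : Z, χ z * conj (ζ ⟨z, hZV z.2⟩)
        = (e : ℂ) * ((Nat.card Z : ℂ) * Cfsg.classInner θ (fun z : Z => ζ ⟨z, hZV z.2⟩)) := by
      unfold Cfsg.classInner
      rw [← mul_assoc (Nat.card Z : ℂ), mul_inv_cancel₀ hZ0, one_mul, Finset.mul_sum]
      apply Finset.sum_congr rfl
      intro z _
      rw [hres z]; ring
    rw [h1, ← classInner_conj_symm (fun z : Z => ζ ⟨z, hZV z.2⟩) θ, hcc, Complex.conj_natCast,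
      hcardV] at ha
    have h2 : (a : ℂ) * ((p ^ k : ℕ) : ℂ) = (e : ℂ) * (c : ℂ) := by
      rw [← ha]
      field_simp
    exact_mod_cast h2
  -- the norm of the restriction
  have hnorm : Cfsg.classInner (fun v : V => χ v) (fun v : V => χ v) = (V.index : ℂ) := by
    rw [classInner_restrict_of_vanish Z V hZV χ hvan (fun v : V => χ v)]
    have h1 : ∑ z : Z, χ z * conj (χ z) = (e : ℂ) ^ 2 * (Nat.card Z : ℂ) := by
      have h2 : ∀ z : Z, χ z * conj (χ z) = (e : ℂ) ^ 2 * (θ z * conj (θ z)) := by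
        intro z
        rw [hres z, map_mul, Complex.conj_natCast]; ring
      rw [Finset.sum_congr rfl (fun z _ => h2 z), ← Finset.mul_sum]
      have h3 := classInner_isIrrCharacter hθ hθ
      rw [if_pos rfl] at h3
      unfold Cfsg.classInner at h3
      have h4 : ∑ z : Z, θ z * conj (θ z) = (Nat.card Z : ℂ) := by
        have := congrArg (fun t => (Nat.card Z : ℂ) * t) h3
        beta_reduce at this
        rw [← mul_assoc, mul_inv_cancel₀ hZ0, one_mul, mul_one] at this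
        exact this
      rw [h4]
    have h5 : (e : ℂ) ^ 2 = ((p ^ k : ℕ) : ℂ) * (V.index : ℂ) := by
      have : e ^ 2 = p ^ k * V.index := by
        rw [he, ← hk, Subgroup.relIndex_mul_index hZV]
      exact_mod_cast this
    rw [h1, h5, hcardV]
    field_simp
  have hsum : ((∑ β, m β * m β : ℕ) : ℂ) = (V.index : ℂ) := by
    rw [← hnorm]
    conv_rhs => rw [hm]
    rw [classInner_sum_irr]
  have hsum' : ∑ β, m β * m β = V.index := by exact_mod_cast hsum
  by_contra hne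
  have hneI : (⟨ξ, hξ⟩ : Cfsg.IrrCharacter V) ≠ ⟨ξ', hξ'⟩ := fun h => hne (congrArg Subtype.val h)
  have hresZ : ∀ ζ : V → ℂ, Cfsg.IsIrrCharacter V ζ →
      Cfsg.IsCharacter Z (fun z : Z => ζ ⟨z, hZV z.2⟩) := by
    intro ζ hζ
    exact IsCharacter.comp (Subgroup.inclusion hZV) (IsIrrCharacter.isCharacter hζ)
  have he2 : e ^ 2 = p ^ k * V.index := by
    rw [he, ← hk, Subgroup.relIndex_mul_index hZV]
  have hw0 : V.index ≠ 0 := Subgroup.index_ne_zero_of_finite
  have hbound : ∀ ζ : V → ℂ, ∀ hζ : Cfsg.IsIrrCharacter V ζ,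
      Cfsg.classInner (fun z : Z => ζ ⟨z, hZV z.2⟩) θ ≠ 0 →
      V.index ≤ m ⟨ζ, hζ⟩ ^ 2 := by
    intro ζ hζ hcζ
    obtain ⟨c, hcc⟩ := IsCharacter.classInner_irr_nat (hresZ ζ hζ) hθ
    have hc0 : c ≠ 0 := by
      rintro rfl
      apply hcζ
      rw [hcc]; simp
    have hk1 := key ζ hζ (m ⟨ζ, hζ⟩) c (hmi ⟨ζ, hζ⟩) hcc
    exact arith_core hp.out rfl hk1 he2 hc0 hVi hw0
  have h1 := hbound ξ hξ hc
  have h2 := hbound ξ' hξ' hc'
  have h3 : m ⟨ξ, hξ⟩ * m ⟨ξ, hξ⟩ + m ⟨ξ', hξ'⟩ * m ⟨ξ', hξ'⟩ ≤ ∑ β, m β * m β := by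
    rw [← Finset.sum_pair (f := fun β => m β * m β) hneI]
    apply Finset.sum_le_sum_of_subset
    intro x _
    exact Finset.mem_univ x
  rw [hsum'] at h3
  nlinarith [Nat.pos_of_ne_zero hw0]

end Cfsg.Agent.Lib.Helper3.CT
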