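import Mathlib
import Cfsg.Prelude.Def_Characters
import Cfsg.Agent.Lib.Helper3.CT4
import Cfsg.Agent.Lib.Helper6.Auto
import Cfsg.Agent.Lib.Helper6.BlkCover
import Cfsg.Agent.Lib.Helper6.CliffordCorr
import Cfsg.Agent.Lib.Helper6.Constituent
import Cfsg.Agent.Lib.Helper6.CharOps
import Cfsg.Agent.S0146

set_option autoImplicit false
set_option maxHeartbeats 4000000
set_option maxRecDepth 100000
set_option linter.unusedVariables false
set_option linter.unusedSectionVars false
set_option linter.style.haveILetI false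
set_option linter.deprecated false

/-! # The predicate `Good` and transitivity of `V` on the characters of `V ∩ K` over `θ` -/

namespace Cfsg.Agent.Lib.Helper3.CT

open Cfsg Cfsg.Agent.Lib.Helper6
open scoped ComplexConjugate

variable {H : Type*} [Group H] [Fintype H]

/-- conjugation by an element normalizing `A`, as an automorphism of `A` -/
def conjEquiv (A : Subgroup H) (n : H) (hn : ∀ a, a ∈ A ↔ n * a * n⁻¹ ∈ A) : A ≃* A where
  toFun a := ⟨n * a * n⁻¹, (hn a).mp a.2⟩
  invFun a := ⟨n⁻¹ * a * n, by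
    rw [hn]
    have : n * (n⁻¹ * (a : H) * n) * n⁻¹ = a := by group
    rw [this]; exact a.2⟩
  left_inv a := by
    apply Subtype.ext
    simp only
    group
  right_inv a := by
    apply Subtype.ext
    simp only
    group
  map_mul' a b := by
    apply Subtype.ext
    simp only [Subgroup.coe_mul]
    group

/-- `F` restricts to an irreducible character of `A` lying over `θ₀|Z` -/
def Good (Z : Subgroup H) [Fintype Z] (θ₀ : H → ℂ) (A : Subgroup H) (F : H → ℂ) : Prop :=
  Cfsg.IsIrrCharacter ↥A (fun a : A => F a) ∧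
    Cfsg.classInner (fun z : Z => F z) (fun z : Z => θ₀ z) ≠ 0

theorem good_conj (Z : Subgroup H) [hZ : Z.Normal] [Fintype Z] (θ₀ : H → ℂ)
    (hinv : ∀ (h : H) (z : H), z ∈ Z → θ₀ (h * z * h⁻¹) = θ₀ z)
    (A : Subgroup H) (F : H → ℂ) (n : H) (hG : Good Z θ₀ A F)
    (hn : ∀ a, a ∈ A ↔ n * a * n⁻¹ ∈ A) : Good Z θ₀ A (fun x => F (n * x * n⁻¹)) := by
  refine ⟨?_, ?_⟩
  · exact IsIrrCharacter.comp_mulEquiv (conjEquiv A n hn) hG.1
  · have hnZ : ∀ a, a ∈ Z ↔ n * a * n⁻¹ ∈ Z := by
      intro a
      constructor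
      · intro ha; exact hZ.conj_mem a ha n
      · intro ha
        have := hZ.conj_mem _ ha n⁻¹
        have e : n⁻¹ * (n * a * n⁻¹) * n⁻¹⁻¹ = a := by group
        rwa [e] at this
    have h1 := classInner_comp_mulEquiv (conjEquiv Z n hnZ) (fun z : Z => F z) (fun z : Z => θ₀ z)
    have h2 : (fun z : Z => θ₀ ((conjEquiv Z n hnZ z : Z) : H)) = fun z : Z => θ₀ z := by
      funext z
      exact hinv n z z.2
    rw [h2] at h1
    intro h0
    apply hG.2
    rw [← h1]
    exact h0

/-- existence of a good function on every subgroup containing `Z` -/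
theorem exists_good (Z : Subgroup H) [Fintype Z] (θ₀ : H → ℂ)
    (hθ : Cfsg.IsIrrCharacter Z (fun z : Z => θ₀ z)) (A : Subgroup H) (hZA : Z ≤ A) :
    ∃ F : H → ℂ, Good Z θ₀ A F := by
  classical
  haveI : Fintype A := Fintype.ofFinite _
  haveI : Fintype (Z.subgroupOf A) := Fintype.ofFinite _
  set θ' : Z.subgroupOf A → ℂ := fun z => θ₀ ((z : A) : H) with hθ'
  have hθ'irr : Cfsg.IsIrrCharacter (Z.subgroupOf A) θ' :=
    IsIrrCharacter.comp_mulEquiv (Subgroup.subgroupOfEquivOfLe hZA) hθ
  have hind : Cfsg.IsCharacter A (Cfsg.indFun (Z.subgroupOf A) θ') :=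
    IsCharacter.indFun _ (IsIrrCharacter.isCharacter hθ'irr)
  have hind1 : Cfsg.indFun (Z.subgroupOf A) θ' 1 ≠ 0 := by
    rw [indFun_one]
    apply mul_ne_zero
    · have : (Z.subgroupOf A).index ≠ 0 := Subgroup.index_ne_zero_of_finite
      exact_mod_cast this
    · exact IsIrrCharacter.apply_one_ne_zero hθ'irr
  obtain ⟨⟨ν, hν⟩, hcon⟩ := IsCharacter.exists_constituent hind hind1
  have hνcf := IsIrrCharacter.isClassFunction hν
  have h1 : Cfsg.classInner θ' (fun z : Z.subgroupOf A => ν z) ≠ 0 := by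
    rw [← Cfsg.Agent.S0146.result (Z.subgroupOf A) θ' ν hνcf]
    exact hcon
  refine ⟨Cfsg.extendByZero A ν, ?_, ?_⟩
  · have : (fun a : A => Cfsg.extendByZero A ν a) = ν := by
      funext a
      unfold Cfsg.extendByZero
      exact Subtype.val_injective.extend_apply _ _ a
    rw [this]
    exact hν
  · have h2 := classInner_comp_mulEquiv (Subgroup.subgroupOfEquivOfLe hZA).symm
      (fun z : Z.subgroupOf A => ν z) θ'
    have h3 : (fun z : Z => (fun z : Z.subgroupOf A => ν z)
        ((Subgroup.subgroupOfEquivOfLe hZA).symm z)) = fun z : Z => Cfsg.extendByZero A ν z := by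
      funext z
      unfold Cfsg.extendByZero
      have : ((z : H)) = (((⟨z, hZA z.2⟩ : A)) : H) := rfl
      rw [this, Subtype.val_injective.extend_apply]
      rfl
    have h4 : (fun z : Z => θ' ((Subgroup.subgroupOfEquivOfLe hZA).symm z)) = fun z : Z => θ₀ z := by
      funext z
      rfl
    rw [h3, h4] at h2
    rw [h2]
    intro h0
    apply h1
    rw [← classInner_conj_symm, h0, map_zero]

end Cfsg.Agent.Lib.Helper3.CT
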