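import Mathlib
import Cfsg.Prelude.Def_Characters
import Cfsg.Agent.Lib.Helper3.CT5

set_option autoImplicit false
set_option maxHeartbeats 4000000
set_option maxRecDepth 100000
set_option linter.unusedVariables false
set_option linter.unusedSectionVars false
set_option linter.style.haveILetI false
set_option linter.deprecated false

/-! # Transitivity of `V` on the good characters of `V ∩ K` -/

namespace Cfsg.Agent.Lib.Helper3.CT

open Cfsg Cfsg.Agent.Lib.Helper6
open scoped ComplexConjugate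

variable {H : Type*} [Group H] [Fintype H]

theorem normal_inf_subgroupOf (V K : Subgroup H) [hK : K.Normal] : ((V ⊓ K).subgroupOf V).Normal := by
  constructor
  intro n hn g
  rw [Subgroup.mem_subgroupOf] at hn ⊢
  rw [Subgroup.mem_inf] at hn ⊢
  refine ⟨(g * n * g⁻¹).2, ?_⟩
  have : ((g * n * g⁻¹ : V) : H) = (g : H) * (n : H) * (g : H)⁻¹ := by simp
  rw [this]
  exact hK.conj_mem _ hn.2 _

/-- a good function on `A ≤ V` lies under an irreducible character of `V` over `θ₀` -/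
theorem exists_over (Z V A : Subgroup H) [Fintype Z] [Fintype V] [Fintype (A.subgroupOf V)]
    (hZA : Z ≤ A) (hAV : A ≤ V)
    (θ₀ : H → ℂ) (hθ : Cfsg.IsIrrCharacter Z (fun z : Z => θ₀ z)) (F : H → ℂ)
    (hF : Good Z θ₀ A F) :
    ∃ ξ : V → ℂ, Cfsg.IsIrrCharacter V ξ ∧
      Cfsg.classInner (fun n : A.subgroupOf V => ξ n) (fun n : A.subgroupOf V => F n) ≠ 0 ∧
      Cfsg.classInner (fun z : Z => ξ ⟨z, (hZA.trans hAV) z.2⟩) (fun z : Z => θ₀ z) ≠ 0 := by
  have hνirr : Cfsg.IsIrrCharacter (A.subgroupOf V) (fun n : A.subgroupOf V => F ((n : V) : H)) :=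
    IsIrrCharacter.comp_mulEquiv (Subgroup.subgroupOfEquivOfLe hAV) hF.1
  have hind : Cfsg.IsCharacter V
      (Cfsg.indFun (A.subgroupOf V) (fun n : A.subgroupOf V => F ((n : V) : H))) :=
    IsCharacter.indFun _ (IsIrrCharacter.isCharacter hνirr)
  have hind1 : Cfsg.indFun (A.subgroupOf V) (fun n : A.subgroupOf V => F ((n : V) : H)) 1 ≠ 0 := by
    rw [indFun_one]
    apply mul_ne_zero
    · have : (A.subgroupOf V).index ≠ 0 := Subgroup.index_ne_zero_of_finite
      exact_mod_cast this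
    · have := IsIrrCharacter.apply_one_ne_zero hνirr
      exact this
  obtain ⟨⟨ξ, hξ⟩, hcon⟩ := IsCharacter.exists_constituent hind hind1
  have hξcf := IsIrrCharacter.isClassFunction hξ
  have h1 : Cfsg.classInner (fun n : A.subgroupOf V => F ((n : V) : H))
      (fun n : A.subgroupOf V => ξ n) ≠ 0 := by
    rw [← Cfsg.Agent.S0146.result (A.subgroupOf V) _ ξ hξcf]
    exact hcon
  have h1' : Cfsg.classInner (fun n : A.subgroupOf V => ξ n)
      (fun n : A.subgroupOf V => F ((n : V) : H)) ≠ 0 := by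
    intro h0
    apply h1
    rw [← classInner_conj_symm, h0, map_zero]
  refine ⟨ξ, hξ, h1', ?_⟩
  -- restriction to `Z`
  let f : Z →* A.subgroupOf V := {
    toFun := fun z => ⟨⟨z, (hZA.trans hAV) z.2⟩, Subgroup.mem_subgroupOf.mpr (hZA z.2)⟩
    map_one' := rfl
    map_mul' := fun a b => rfl }
  have hA : Cfsg.IsCharacter (A.subgroupOf V) (fun n : A.subgroupOf V => ξ n) :=
    IsCharacter.restrict (A.subgroupOf V) (IsIrrCharacter.isCharacter hξ)
  obtain ⟨k, hk⟩ := IsCharacter.classInner_comp_ge f hA hνirr h1' hθ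
  have hνZ : Cfsg.IsCharacter Z
      (fun z : Z => (fun n : A.subgroupOf V => F ((n : V) : H)) (f z)) :=
    IsCharacter.comp f (IsIrrCharacter.isCharacter hνirr)
  obtain ⟨c, hc⟩ := IsCharacter.classInner_irr_nat hνZ hθ
  have hc0 : c ≠ 0 := by
    rintro rfl
    apply hF.2
    have : (fun z : Z => (fun n : A.subgroupOf V => F ((n : V) : H)) (f z)) = fun z : Z => F z := rfl
    rw [this] at hc
    rw [hc]; simp
  have hgoal : Cfsg.classInner (fun z : Z => ξ ⟨z, (hZA.trans hAV) z.2⟩) (fun z : Z => θ₀ z)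
      = ((c + k : ℕ) : ℂ) := by
    have : (fun z : Z => ξ ⟨z, (hZA.trans hAV) z.2⟩)
        = fun z : Z => (fun n : A.subgroupOf V => ξ n) (f z) := rfl
    rw [this, hk, hc]
    push_cast
    ring
  rw [hgoal]
  have : c + k ≠ 0 := by omega
  exact_mod_cast this

/-- transitivity -/
theorem good_trans (Z K V : Subgroup H) [hZ : Z.Normal] [hK : K.Normal] [Fintype Z] (hZK : Z ≤ K)
    (p : ℕ) [hp : Fact p.Prime]
    {χ : H → ℂ} (hχ : Cfsg.IsIrrCharacter H χ) (θ₀ : H → ℂ)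
    (hθ : Cfsg.IsIrrCharacter Z (fun z : Z => θ₀ z)) (e : ℕ)
    (he : e ^ 2 = Z.index) (hres : ∀ z : Z, χ z = (e : ℂ) * θ₀ z)
    (hV : Adm p Z V) (F F' : H → ℂ) (hF : Good Z θ₀ (V ⊓ K) F) (hF' : Good Z θ₀ (V ⊓ K) F') :
    ∃ v ∈ V, ∀ a ∈ V ⊓ K, F' a = F (v * a * v⁻¹) := by
  classical
  obtain ⟨hZV, hVp, hVi⟩ := hV
  haveI : Fintype V := Fintype.ofFinite _
  haveI : Fintype ((V ⊓ K).subgroupOf V) := Fintype.ofFinite _
  have hNn : ((V ⊓ K).subgroupOf V).Normal := normal_inf_subgroupOf V K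
  have hZA : Z ≤ V ⊓ K := le_inf hZV hZK
  obtain ⟨ξ, hξ, hξN, hξZ⟩ := exists_over Z V (V ⊓ K) hZA inf_le_left θ₀ hθ F hF
  obtain ⟨ξ', hξ', hξN', hξZ'⟩ := exists_over Z V (V ⊓ K) hZA inf_le_left θ₀ hθ F' hF'
  have heq : ξ = ξ' := unique_over Z V hZV p hχ hθ e he hres hVp hVi hξ hξ' hξZ hξZ'
  subst heq
  have hν : Cfsg.IsIrrCharacter ((V ⊓ K).subgroupOf V) (fun n : (V ⊓ K).subgroupOf V => F n) :=
    IsIrrCharacter.comp_mulEquiv (Subgroup.subgroupOfEquivOfLe inf_le_left) hF.1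
  have hν' : Cfsg.IsIrrCharacter ((V ⊓ K).subgroupOf V) (fun n : (V ⊓ K).subgroupOf V => F' n) :=
    IsIrrCharacter.comp_mulEquiv (Subgroup.subgroupOfEquivOfLe inf_le_left) hF'.1
  obtain ⟨g, hg⟩ := exists_conjFun_eq_of_constituents ((V ⊓ K).subgroupOf V) hNn hξ hν hν' hξN hξN'
  refine ⟨g, g.2, ?_⟩
  intro a ha
  have := congrFun hg ⟨⟨a, ha.1⟩, Subgroup.mem_subgroupOf.mpr ha⟩
  rw [conjFun_apply] at this
  simpa using this

end Cfsg.Agent.Lib.Helper3.CT
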