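import Mathlib

set_option autoImplicit false
set_option linter.unusedSectionVars false
set_option linter.unusedVariables false

/-! Duals of finite abelian groups (stated for groups with a commutativity hypothesis). -/

namespace Cfsg.Agent.Lib.Helper3.CD

theorem card_hom_of_comm {A : Type*} [inst : Group A] [Finite A]
    (hA : ∀ a b : A, a * b = b * a) : Nat.card (A →* ℂˣ) = Nat.card A := by
  letI : CommGroup A := { inst with mul_comm := hA }
  have hne : NeZero ((Monoid.exponent A : ℕ) : ℂ) := by
    constructor
    exact_mod_cast Monoid.exponent_ne_zero_of_finite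
  have : HasEnoughRootsOfUnity ℂ (Monoid.exponent A) := inferInstance
  exact CommGroup.card_monoidHom_of_hasEnoughRootsOfUnity A ℂ

theorem exists_hom_ne_one_of_comm {A : Type*} [inst : Group A] [Finite A]
    (hA : ∀ a b : A, a * b = b * a) {a : A} (ha : a ≠ 1) : ∃ f : A →* ℂˣ, f a ≠ 1 := by
  letI : CommGroup A := { inst with mul_comm := hA }
  have hne : NeZero ((Monoid.exponent A : ℕ) : ℂ) := by
    constructor
    exact_mod_cast Monoid.exponent_ne_zero_of_finite
  have : HasEnoughRootsOfUnity ℂ (Monoid.exponent A) := inferInstance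
  exact CommGroup.exists_apply_ne_one_of_hasEnoughRootsOfUnity A ℂ ha

instance finite_hom_units {A : Type*} [Group A] [Finite A] : Finite (A →* ℂˣ) := by
  -- homs land in roots of unity
  classical
  have : Fintype A := Fintype.ofFinite A
  let n := Fintype.card A
  have hn : 0 < n := Fintype.card_pos
  let R : Subgroup ℂˣ := rootsOfUnity n ℂ
  haveI : NeZero n := ⟨hn.ne'⟩
  have : Finite R := inferInstance
  let Φ : (A →* ℂˣ) → (A → R) := fun f a => ⟨f a, by
    rw [mem_rootsOfUnity]
    rw [← map_pow]
    have : a ^ n = 1 := pow_card_eq_one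
    rw [this, map_one]⟩
  have hΦ : Function.Injective Φ := by
    intro f g h
    ext a
    have := congrFun h a
    have h2 := congrArg (fun r : R => ((r : ℂˣ) : ℂ)) this
    exact h2
  exact Finite.of_injective Φ hΦ

end Cfsg.Agent.Lib.Helper3.CD
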