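import Mathlib
import Cfsg.Prelude.Def_Characters
import Cfsg.Agent.Lib.Helper6.CliffordStab
import Cfsg.Agent.Lib.Helper6.Mult
import Cfsg.Agent.Lib.Helper6.Orthogonality
import Cfsg.Agent.Lib.Helper3.GallagherDecomp
import Cfsg.Agent.Lib.Helper3.GallagherMul
import Cfsg.Agent.Lib.Helper3.CD2
import Cfsg.Agent.S0886
import Cfsg.Agent.S0146

set_option autoImplicit false
set_option maxHeartbeats 4000000
set_option maxRecDepth 100000
set_option linter.unusedVariables false
set_option linter.unusedSectionVars false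
set_option linter.style.haveILetI false
set_option linter.deprecated false

/-! # A unique character over `ν` and a cyclic quotient force a trivial inertia quotient -/

namespace Cfsg.Agent.Lib.Helper3.CT

open Cfsg Cfsg.Agent.Lib.Helper6
open scoped ComplexConjugate

variable {G : Type*} [Group G] [Fintype G]

/-- the inertia subgroup of a function on a normal subgroup -/
def inertia (N : Subgroup G) (hN : N.Normal) (ν : N → ℂ) : Subgroup G where
  carrier := {g | conjFun N hN ν g = ν}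
  one_mem' := conjFun_one N hN ν
  mul_mem' := by
    intro a b ha hb
    show conjFun N hN ν (a * b) = ν
    rw [← conjFun_conjFun, show conjFun N hN ν a = ν from ha]
    exact hb
  inv_mem' := by
    intro a ha
    show conjFun N hN ν a⁻¹ = ν
    have h1 : conjFun N hN (conjFun N hN ν a) a⁻¹ = ν := by
      rw [conjFun_conjFun, mul_inv_cancel, conjFun_one]
    rw [show conjFun N hN ν a = ν from ha] at h1
    exact h1

theorem mem_inertia (N : Subgroup G) (hN : N.Normal) (ν : N → ℂ) (g : G) :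
    g ∈ inertia N hN ν ↔ conjFun N hN ν g = ν := Iff.rfl

theorem le_inertia (N : Subgroup G) (hN : N.Normal) {ν : N → ℂ} (hν : Cfsg.IsClassFunction N ν) :
    N ≤ inertia N hN ν := fun g hg => conjFun_of_mem N hN hν hg

/-- **Lemma X**: if all irreducible characters of `G` over `ν` coincide and `G/N` is cyclic, then
the inertia group of `ν` is `N`. -/
theorem inertia_le_of_unique (N : Subgroup G) [Fintype N] (hN : N.Normal)
    (hcyc : IsCyclic (G ⧸ N)) {ν : N → ℂ} (hν : Cfsg.IsIrrCharacter N ν)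
    (huniq : ∀ ξ₁ ξ₂ : G → ℂ, Cfsg.IsIrrCharacter G ξ₁ → Cfsg.IsIrrCharacter G ξ₂ →
      Cfsg.classInner (fun n : N => ξ₁ n) ν ≠ 0 → Cfsg.classInner (fun n : N => ξ₂ n) ν ≠ 0 →
      ξ₁ = ξ₂) :
    inertia N hN ν ≤ N := by
  classical
  haveI := hN
  set T := inertia N hN ν with hT
  haveI : Fintype T := Fintype.ofFinite _
  have hνcf := IsIrrCharacter.isClassFunction hν
  have hNT : N ≤ T := le_inertia N hN hνcf
  haveI hNTn : (N.subgroupOf T).Normal := hN.subgroupOf T
  haveI : Fintype (N.subgroupOf T) := Fintype.ofFinite _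
  let e : (N.subgroupOf T) ≃* N := Subgroup.subgroupOfEquivOfLe hNT
  have hνT : Cfsg.IsIrrCharacter (N.subgroupOf T) (fun k => ν (e k)) :=
    IsIrrCharacter.comp_mulEquiv e hν
  -- the quotient `T / N` is cyclic
  have hcycT : IsCyclic (↥T ⧸ N.subgroupOf T) := by
    let φ : ↥T ⧸ N.subgroupOf T →* G ⧸ N :=
      QuotientGroup.map (N.subgroupOf T) N T.subtype (fun x hx => hx)
    haveI := hcyc
    apply isCyclic_of_injective φ
    rw [injective_iff_map_eq_one]
    intro q hq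
    induction q using QuotientGroup.induction_on with
    | H t =>
      have h1 : φ (QuotientGroup.mk t) = QuotientGroup.mk (t : G) := rfl
      rw [h1, QuotientGroup.eq_one_iff] at hq
      exact (QuotientGroup.eq_one_iff t).mpr (Subgroup.mem_subgroupOf.mpr hq)
  -- invariance in `T`
  have hinvT : ∀ (t : T) (n : N.subgroupOf T),
      (fun k => ν (e k)) ⟨t * n * t⁻¹, hNTn.conj_mem (n : T) n.2 t⟩ = (fun k => ν (e k)) n := by
    intro t n
    have h1 : conjFun N hN ν (t : G) = ν := t.2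
    have h2 := congrFun h1 (e n)
    rw [conjFun_apply] at h2
    exact h2
  obtain ⟨νh, hνh, hνhN⟩ := Cfsg.Agent.S0886.result (N.subgroupOf T) hcycT (fun k => ν (e k)) hνT hinvT
  have hνhN' : Cfsg.IsIrrCharacter (N.subgroupOf T) (fun n : N.subgroupOf T => νh n) := by
    have : (fun n : N.subgroupOf T => νh n) = fun k => ν (e k) := funext hνhN
    rw [this]; exact hνT
  have hνh_apply : ∀ n : N, νh ⟨n, hNT n.2⟩ = ν n := by
    intro n
    have := hνhN ⟨⟨n, hNT n.2⟩, Subgroup.mem_subgroupOf.mpr n.2⟩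
    exact this
  -- suppose `g ∈ T \ N`
  intro g hgT
  by_contra hgN
  have hcomm : ∀ a b : ↥T ⧸ N.subgroupOf T, a * b = b * a := by
    haveI := hcycT
    intro a b
    obtain ⟨c, hc⟩ := IsCyclic.exists_generator (α := ↥T ⧸ N.subgroupOf T)
    obtain ⟨i, rfl⟩ := Subgroup.mem_zpowers_iff.mp (hc a)
    obtain ⟨j, rfl⟩ := Subgroup.mem_zpowers_iff.mp (hc b)
    rw [← zpow_add, ← zpow_add, add_comm]
  have hgbar : (QuotientGroup.mk (⟨g, hgT⟩ : T) : ↥T ⧸ N.subgroupOf T) ≠ 1 := by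
    intro h
    rw [QuotientGroup.eq_one_iff, Subgroup.mem_subgroupOf] at h
    exact hgN h
  obtain ⟨f, hf⟩ := Cfsg.Agent.Lib.Helper3.CD.exists_hom_ne_one_of_comm hcomm hgbar
  let lam : T →* ℂˣ := f.comp (QuotientGroup.mk' (N.subgroupOf T))
  have hlamN : ∀ n : N.subgroupOf T, lam n = 1 := by
    intro n
    show f (QuotientGroup.mk (n : T)) = 1
    rw [(QuotientGroup.eq_one_iff (n : T)).mpr n.2, map_one]
  set β : T → ℂ := fun t => ((lam t : ℂˣ) : ℂ) with hβ
  have hβirr : Cfsg.IsIrrCharacter T β := isIrrCharacter_of_hom lam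
  have hβN : ∀ n : N.subgroupOf T, β n = β 1 := by
    intro n
    simp only [hβ, hlamN n, map_one]
  have hζirr : Cfsg.IsIrrCharacter T (β * νh) :=
    Cfsg.Agent.Lib.Helper3.GallagherMul.isIrrCharacter_mul (N.subgroupOf T) νh hνh hνhN' β hβirr hβN
  -- `β νh ≠ νh`
  have hne : νh ≠ β * νh := by
    intro h
    obtain ⟨m, hm⟩ := Cfsg.Agent.Lib.Helper3.GallagherDecomp.exists_ne_zero_coset (N.subgroupOf T)
      hνh hνhN' (⟨g, hgT⟩ : T)
    have h1 := congrFun h ((m : T) * ⟨g, hgT⟩)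
    simp only [Pi.mul_apply] at h1
    have h2 : β ((m : T) * ⟨g, hgT⟩) = 1 := by
      have := mul_right_cancel₀ hm (show (1 : ℂ) * νh ((m : T) * ⟨g, hgT⟩) = β ((m : T) * ⟨g, hgT⟩) * νh ((m : T) * ⟨g, hgT⟩) by rw [one_mul]; exact h1)
      exact this.symm
    apply hf
    have h3 : lam ((m : T) * ⟨g, hgT⟩) = lam ⟨g, hgT⟩ := by
      rw [map_mul, hlamN m, one_mul]
    have h4 : ((lam ⟨g, hgT⟩ : ℂˣ) : ℂ) = 1 := by rw [← h3]; exact h2
    have h5 : lam ⟨g, hgT⟩ = 1 := Units.ext h4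
    exact h5
  -- restrictions to `N`
  have hres1 : (fun n : N => νh ⟨n, hNT n.2⟩) = ν := funext hνh_apply
  have hres2 : (fun n : N => (β * νh) ⟨n, hNT n.2⟩) = ν := by
    funext n
    simp only [Pi.mul_apply]
    rw [hνh_apply n]
    have : β ⟨n, hNT n.2⟩ = 1 := by
      have := hβN ⟨⟨n, hNT n.2⟩, Subgroup.mem_subgroupOf.mpr n.2⟩
      rw [this]
      simp [hβ]
    rw [this, one_mul]
  have hνν : Cfsg.classInner ν ν = 1 := by
    rw [classInner_isIrrCharacter hν hν, if_pos rfl]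
  have hstab : ∀ x : G, conjFun N hN ((⟨ν, hν⟩ : Cfsg.IrrCharacter N) : N → ℂ) x
      = ((⟨ν, hν⟩ : Cfsg.IrrCharacter N) : N → ℂ) → x ∈ T := fun x hx => hx
  have hc1 : Cfsg.classInner (fun n : N => ((⟨νh, hνh⟩ : Cfsg.IrrCharacter T) : T → ℂ) ⟨n, hNT n.2⟩)
      ((⟨ν, hν⟩ : Cfsg.IrrCharacter N) : N → ℂ) ≠ 0 := by
    show Cfsg.classInner (fun n : N => νh ⟨n, hNT n.2⟩) ν ≠ 0
    rw [hres1, hνν]; exact one_ne_zero
  have hc2 : Cfsg.classInner (fun n : N => ((⟨β * νh, hζirr⟩ : Cfsg.IrrCharacter T) : T → ℂ) ⟨n, hNT n.2⟩)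
      ((⟨ν, hν⟩ : Cfsg.IrrCharacter N) : N → ℂ) ≠ 0 := by
    show Cfsg.classInner (fun n : N => (β * νh) ⟨n, hNT n.2⟩) ν ≠ 0
    rw [hres2, hνν]; exact one_ne_zero
  have hI1 := indFun_isIrrCharacter_of_stab N hN T hNT ⟨ν, hν⟩ hstab ⟨νh, hνh⟩ hc1
  have hI2 := indFun_isIrrCharacter_of_stab N hN T hNT ⟨ν, hν⟩ hstab ⟨β * νh, hζirr⟩ hc2
  have hO1 := classInner_indFun_restrict_of_stab N hN T hNT ⟨ν, hν⟩ hstab ⟨νh, hνh⟩ hc1
  have hO2 := classInner_indFun_restrict_of_stab N hN T hNT ⟨ν, hν⟩ hstab ⟨β * νh, hζirr⟩ hc2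
  simp only at hI1 hI2 hO1 hO2
  set ξ := Cfsg.indFun T νh with hξ
  have hO1' : Cfsg.classInner (fun n : N => ξ n) ν = 1 := by
    rw [hO1, hres1, hνν]
  have hO2' : Cfsg.classInner (fun n : N => Cfsg.indFun T (β * νh) n) ν = 1 := by
    rw [hO2, hres2, hνν]
  have heq : Cfsg.indFun T (β * νh) = ξ :=
    huniq _ _ hI2 hI1 (by rw [hO2']; exact one_ne_zero) (by rw [hO1']; exact one_ne_zero)
  have hξcf := IsIrrCharacter.isClassFunction hI1
  -- Frobenius reciprocity
  have hξξ : Cfsg.classInner ξ ξ = 1 := by rw [classInner_isIrrCharacter hI1 hI1, if_pos rfl]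
  have hF1 : Cfsg.classInner (fun t : T => ξ t) νh = 1 := by
    have := Cfsg.Agent.S0146.result T νh ξ hξcf
    rw [hξξ] at this
    rw [← classInner_conj_symm, ← this, map_one]
  have hF2 : Cfsg.classInner (fun t : T => ξ t) (β * νh) = 1 := by
    have := Cfsg.Agent.S0146.result T (β * νh) ξ hξcf
    rw [heq, hξξ] at this
    rw [← classInner_conj_symm, ← this, map_one]
  have hA : Cfsg.IsCharacter T (fun t : T => ξ t) :=
    IsCharacter.restrict T (IsIrrCharacter.isCharacter hI1)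
  obtain ⟨B, hB, hAB⟩ := IsCharacter.exists_eq_add_of_constituent hA hνh
    (by rw [hF1]; exact one_ne_zero)
  have hBζ : Cfsg.classInner B (β * νh) = 1 := by
    have h1 : Cfsg.classInner (fun t : T => ξ t) (β * νh)
        = Cfsg.classInner νh (β * νh) + Cfsg.classInner B (β * νh) := by
      rw [hAB, classInner_add_left]
    rw [hF2, classInner_isIrrCharacter hνh hζirr, if_neg hne, zero_add] at h1
    exact h1.symm
  obtain ⟨B', hB', hBB'⟩ := IsCharacter.exists_eq_add_of_constituent hB hζirr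
    (by rw [hBζ]; exact one_ne_zero)
  have hB'N : Cfsg.IsCharacter N (fun n : N => B' ⟨n, hNT n.2⟩) :=
    IsCharacter.comp (Subgroup.inclusion hNT) hB'
  obtain ⟨k, hk⟩ := IsCharacter.classInner_irr_nat hB'N hν
  have hsum : (fun n : N => ξ n) = ν + ν + fun n : N => B' ⟨n, hNT n.2⟩ := by
    funext n
    have h1 := congrFun hAB ⟨n, hNT n.2⟩
    have h2 := congrFun hBB' ⟨n, hNT n.2⟩
    simp only [Pi.add_apply] at h1 h2 ⊢
    have h3 : ξ n = ξ ((⟨n, hNT n.2⟩ : T) : G) := rfl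
    rw [h3, h1, h2, hνh_apply n, congrFun hres2 n]
    ring
  have hfinal : Cfsg.classInner (fun n : N => ξ n) ν = 1 + 1 + (k : ℂ) := by
    rw [hsum, classInner_add_left, classInner_add_left, hνν, hk]
  rw [hO1'] at hfinal
  have : (1 : ℂ) = ((2 + k : ℕ) : ℂ) := by rw [hfinal]; push_cast; ring
  have h2 : (1 : ℕ) = 2 + k := by exact_mod_cast this
  omega

end Cfsg.Agent.Lib.Helper3.CT
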