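import Mathlib
import Cfsg.Prelude.Def_Characters
import Cfsg.Agent.Lib.Helper3.CT6
import Cfsg.Agent.Lib.Helper3.CT7

set_option autoImplicit false
set_option maxHeartbeats 4000000
set_option maxRecDepth 100000
set_option linter.unusedVariables false
set_option linter.unusedSectionVars false
set_option linter.style.haveILetI false
set_option linter.deprecated false

/-! # Freeness in the cyclic case and the complement theorem -/

namespace Cfsg.Agent.Lib.Helper3.CT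

open Cfsg Cfsg.Agent.Lib.Helper6
open scoped ComplexConjugate

variable {H : Type*} [Group H] [Fintype H]

/-- an irreducible character of `V` over a good function on `A` lies over `θ₀` -/
theorem over_theta_of_over (Z V A : Subgroup H) [Fintype Z] [Fintype V] [Fintype (A.subgroupOf V)]
    (hZA : Z ≤ A) (hAV : A ≤ V)
    (θ₀ : H → ℂ) (hθ : Cfsg.IsIrrCharacter Z (fun z : Z => θ₀ z)) (F : H → ℂ)
    (hF : Good Z θ₀ A F) {ξ : V → ℂ} (hξ : Cfsg.IsIrrCharacter V ξ)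
    (h1' : Cfsg.classInner (fun n : A.subgroupOf V => ξ n)
      (fun n : A.subgroupOf V => F ((n : V) : H)) ≠ 0) :
    Cfsg.classInner (fun z : Z => ξ ⟨z, (hZA.trans hAV) z.2⟩) (fun z : Z => θ₀ z) ≠ 0 := by
  have hνirr : Cfsg.IsIrrCharacter (A.subgroupOf V) (fun n : A.subgroupOf V => F ((n : V) : H)) :=
    IsIrrCharacter.comp_mulEquiv (Subgroup.subgroupOfEquivOfLe hAV) hF.1
  let f : Z →* A.subgroupOf V := {
    toFun := fun z => ⟨⟨z, (hZA.trans hAV) z.2⟩, Subgroup.mem_subgroupOf.mpr (hZA z.2)⟩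
    map_one' := rfl
    map_mul' := fun a b => rfl }
  have hA : Cfsg.IsCharacter (A.subgroupOf V) (fun n : A.subgroupOf V => ξ n) :=
    IsCharacter.restrict (A.subgroupOf V) (IsIrrCharacter.isCharacter hξ)
  obtain ⟨k, hk⟩ := IsCharacter.classInner_comp_ge f hA hνirr h1' hθ
  have hνZ : Cfsg.IsCharacter Z
      (fun z : Z => (fun n : A.subgroupOf V => F ((n : V) : H)) (f z)) :=
    IsCharacter.comp f (IsIrrCharacter.isCharacter hνirr)
  obtain ⟨c, hc⟩ := IsCharacter.classInner_irr_nat hνZ hθ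
  have hc0 : c ≠ 0 := by
    rintro rfl
    apply hF.2
    have : (fun z : Z => (fun n : A.subgroupOf V => F ((n : V) : H)) (f z)) = fun z : Z => F z := rfl
    rw [this] at hc
    rw [hc]; simp
  have hgoal : Cfsg.classInner (fun z : Z => ξ ⟨z, (hZA.trans hAV) z.2⟩) (fun z : Z => θ₀ z)
      = ((c + k : ℕ) : ℂ) := by
    have : (fun z : Z => ξ ⟨z, (hZA.trans hAV) z.2⟩)
        = fun z : Z => (fun n : A.subgroupOf V => ξ n) (f z) := rfl
    rw [this, hk, hc]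
    push_cast
    ring
  rw [hgoal]
  have : c + k ≠ 0 := by omega
  exact_mod_cast this

/-- freeness in the cyclic case -/
theorem good_free_cyclic (Z K V : Subgroup H) [hZ : Z.Normal] [hK : K.Normal] [Fintype Z]
    (hZK : Z ≤ K) (p : ℕ) [hp : Fact p.Prime]
    {χ : H → ℂ} (hχ : Cfsg.IsIrrCharacter H χ) (θ₀ : H → ℂ)
    (hθ : Cfsg.IsIrrCharacter Z (fun z : Z => θ₀ z)) (e : ℕ)
    (he : e ^ 2 = Z.index) (hres : ∀ z : Z, χ z = (e : ℂ) * θ₀ z)
    (hV : Adm p Z V)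
    (hcyc : ∃ g ∈ V, ∀ x ∈ V, ∃ i : ℤ, (g ^ i)⁻¹ * x ∈ K)
    (F : H → ℂ) (hF : Good Z θ₀ (V ⊓ K) F) (v : H) (hv : v ∈ V)
    (hinv : ∀ a ∈ V ⊓ K, F (v * a * v⁻¹) = F a) : v ∈ K := by
  classical
  obtain ⟨hZV, hVp, hVi⟩ := hV
  haveI : Fintype V := Fintype.ofFinite _
  haveI : Fintype ((V ⊓ K).subgroupOf V) := Fintype.ofFinite _
  have hNn : ((V ⊓ K).subgroupOf V).Normal := normal_inf_subgroupOf V K
  haveI := hNn
  have hZA : Z ≤ V ⊓ K := le_inf hZV hZK
  have hν : Cfsg.IsIrrCharacter ((V ⊓ K).subgroupOf V)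
      (fun n : (V ⊓ K).subgroupOf V => F ((n : V) : H)) :=
    IsIrrCharacter.comp_mulEquiv (Subgroup.subgroupOfEquivOfLe inf_le_left) hF.1
  -- cyclic quotient
  have hcycQ : IsCyclic (↥V ⧸ (V ⊓ K).subgroupOf V) := by
    obtain ⟨g, hg, hgen⟩ := hcyc
    refine ⟨⟨QuotientGroup.mk (⟨g, hg⟩ : V), ?_⟩⟩
    intro q
    induction q using QuotientGroup.induction_on with
    | H x =>
      obtain ⟨i, hi⟩ := hgen x x.2
      refine ⟨i, ?_⟩
      show (QuotientGroup.mk (⟨g, hg⟩ : V) : ↥V ⧸ (V ⊓ K).subgroupOf V) ^ i = QuotientGroup.mk x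
      rw [← QuotientGroup.mk_zpow, QuotientGroup.eq, Subgroup.mem_subgroupOf, Subgroup.mem_inf]
      refine ⟨((⟨g, hg⟩ ^ i)⁻¹ * x : V).2, ?_⟩
      simpa using hi
  -- uniqueness
  have huniq : ∀ ξ₁ ξ₂ : V → ℂ, Cfsg.IsIrrCharacter V ξ₁ → Cfsg.IsIrrCharacter V ξ₂ →
      Cfsg.classInner (fun n : (V ⊓ K).subgroupOf V => ξ₁ n)
        (fun n : (V ⊓ K).subgroupOf V => F ((n : V) : H)) ≠ 0 →
      Cfsg.classInner (fun n : (V ⊓ K).subgroupOf V => ξ₂ n)
        (fun n : (V ⊓ K).subgroupOf V => F ((n : V) : H)) ≠ 0 → ξ₁ = ξ₂ := by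
    intro ξ₁ ξ₂ h1 h2 hc1 hc2
    have hz1 := over_theta_of_over Z V (V ⊓ K) hZA inf_le_left θ₀ hθ F hF h1 hc1
    have hz2 := over_theta_of_over Z V (V ⊓ K) hZA inf_le_left θ₀ hθ F hF h2 hc2
    exact unique_over Z V hZV p hχ hθ e he hres hVp hVi h1 h2 hz1 hz2
  have hle := inertia_le_of_unique ((V ⊓ K).subgroupOf V) hNn hcycQ hν huniq
  have hmem : (⟨v, hv⟩ : V) ∈ inertia ((V ⊓ K).subgroupOf V) hNn
      (fun n : (V ⊓ K).subgroupOf V => F ((n : V) : H)) := by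
    rw [mem_inertia]
    funext n
    rw [conjFun_apply]
    have hn : ((n : V) : H) ∈ V ⊓ K := Subgroup.mem_subgroupOf.mp n.2
    have := hinv _ hn
    simpa using this
  have := hle hmem
  rw [Subgroup.mem_subgroupOf, Subgroup.mem_inf] at this
  exact this.2

end Cfsg.Agent.Lib.Helper3.CT
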