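import Mathlib
import Cfsg.Prelude.Def_Characters
import Cfsg.Agent.Lib.Helper6.GaloisRat

/-! The degree of the field of values of a character as the index of the stabilizer of the
character in `(ℤ/n)ˣ` acting by power maps. -/

namespace Cfsg.Agent.Lib.Helper3.FV

open Polynomial Cfsg.Agent.Lib.Helper6

variable {G : Type*} [Group G]

theorem pow_val_mul {n : ℕ} [NeZero n] (hn : ∀ g : G, g ^ n = 1) (k l : (ZMod n)ˣ) (g : G) :
    g ^ ((k * l : (ZMod n)ˣ) : ZMod n).val = (g ^ (k : ZMod n).val) ^ (l : ZMod n).val := by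
  rw [Units.val_mul, ZMod.val_mul, ← pow_mul, ← pow_eq_pow_mod _ (hn g)]

theorem pow_val_one {n : ℕ} [NeZero n] (hn : ∀ g : G, g ^ n = 1) (g : G) :
    g ^ ((1 : (ZMod n)ˣ) : ZMod n).val = g := by
  rw [Units.val_one]
  by_cases h1 : n = 1
  · subst h1
    have := hn g
    rw [pow_one] at this
    rw [this, one_pow]
  · have : Fact (1 < n) := ⟨by have := NeZero.ne n; omega⟩
    rw [ZMod.val_one, pow_one]

/-- The subgroup of `(ZMod n)ˣ` of those `k` with `χ (g ^ k) = χ g` for all `g`. -/
def stabPow (χ : G → ℂ) (n : ℕ) [NeZero n] (hn : ∀ g : G, g ^ n = 1) : Subgroup (ZMod n)ˣ where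
  carrier := {k | ∀ g, χ (g ^ (k : ZMod n).val) = χ g}
  one_mem' := by
    intro g
    rw [pow_val_one hn]
  mul_mem' := by
    intro k l hk hl g
    rw [pow_val_mul hn, hl, hk]
  inv_mem' := by
    intro k hk g
    have h1 := hk (g ^ ((k⁻¹ : (ZMod n)ˣ) : ZMod n).val)
    rw [← pow_val_mul hn, inv_mul_cancel, pow_val_one hn] at h1
    exact h1.symm

theorem mem_stabPow (χ : G → ℂ) (n : ℕ) [NeZero n] (hn : ∀ g : G, g ^ n = 1) (k : (ZMod n)ˣ) :
    k ∈ stabPow χ n hn ↔ ∀ g, χ (g ^ (k : ZMod n).val) = χ g := Iff.rfl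

set_option backward.isDefEq.respectTransparency false in
/-- every character value comes from the cyclotomic field, compatibly with the Galois action -/
theorem exists_cyclotomic_lift {χ : G → ℂ} (hχ : Cfsg.IsCharacter G χ) (n : ℕ) [NeZero n]
    (hn : ∀ g : G, g ^ n = 1) (φ : (CyclotomicField n ℚ) →ₐ[ℚ] ℂ)
    (hirr : Irreducible (cyclotomic n ℚ)) (g : G) :
    ∃ α : CyclotomicField n ℚ, φ α = χ g ∧ ∀ σ : Gal((CyclotomicField n ℚ)/ℚ),
      φ (σ α) = χ (g ^ ((IsCyclotomicExtension.autEquivPow (CyclotomicField n ℚ) hirr σ :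
        (ZMod n)ˣ) : ZMod n).val) := by
  have hn0 : 0 < n := Nat.pos_of_ne_zero (NeZero.ne n)
  have hζ : IsPrimitiveRoot (IsCyclotomicExtension.zeta n ℚ (CyclotomicField n ℚ)) n :=
    IsCyclotomicExtension.zeta_spec n ℚ (CyclotomicField n ℚ)
  set ζ := IsCyclotomicExtension.zeta n ℚ (CyclotomicField n ℚ) with hζdef
  have hφinj : Function.Injective φ := φ.toRingHom.injective
  have hξ : IsPrimitiveRoot (φ ζ) n := hζ.map_of_injective hφinj
  obtain ⟨m, μ, hμ, hpow⟩ := IsCharacter.exists_eigen_pow hχ g n hn0 (hn g)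
  have ha : ∀ i, ∃ a < n, (φ ζ) ^ a = μ i := fun i => hξ.eq_pow_of_pow_eq_one (hμ i)
  choose a han ha using ha
  refine ⟨∑ i, ζ ^ a i, ?_, ?_⟩
  · have := hpow 1
    rw [pow_one] at this
    rw [this]
    simp only [map_sum, map_pow, ha, pow_one]
  · intro σ
    have h1 : σ ζ = ζ ^ ((IsCyclotomicExtension.autEquivPow (CyclotomicField n ℚ) hirr σ :
        (ZMod n)ˣ) : ZMod n).val := by
      have := hζ.autToPow_spec ℚ σ
      rw [← this]
      rfl
    rw [hpow]
    simp only [map_sum, map_pow, h1]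
    refine Finset.sum_congr rfl fun i _ => ?_
    rw [← ha i, ← pow_mul, ← pow_mul, mul_comm]

set_option backward.isDefEq.respectTransparency false in
/-- The degree over `ℚ` of the field of values of a character equals the index of the stabilizer
of the character in `(ℤ/n)ˣ`. -/
theorem finrank_adjoin_range {χ : G → ℂ} (hχ : Cfsg.IsCharacter G χ) (n : ℕ) [NeZero n]
    (hn : ∀ g : G, g ^ n = 1) :
    Module.finrank ℚ (IntermediateField.adjoin ℚ (Set.range χ)) = (stabPow χ n hn).index := by
  have hn0 : 0 < n := Nat.pos_of_ne_zero (NeZero.ne n)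
  have : FiniteDimensional ℚ (CyclotomicField n ℚ) :=
    IsCyclotomicExtension.finiteDimensional {n} ℚ (CyclotomicField n ℚ)
  have : IsGalois ℚ (CyclotomicField n ℚ) :=
    IsCyclotomicExtension.isGalois {n} ℚ (CyclotomicField n ℚ)
  let φ : (CyclotomicField n ℚ) →ₐ[ℚ] ℂ := IsAlgClosed.lift
  have hφinj : Function.Injective φ := φ.toRingHom.injective
  have hirr : Irreducible (cyclotomic n ℚ) := cyclotomic.irreducible_rat hn0
  choose α hα1 hα2 using exists_cyclotomic_lift hχ n hn φ hirr
  set L' : IntermediateField ℚ (CyclotomicField n ℚ) :=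
    IntermediateField.adjoin ℚ (Set.range α) with hL'
  have hmap : L'.map φ = IntermediateField.adjoin ℚ (Set.range χ) := by
    rw [hL', IntermediateField.adjoin_map]
    congr 1
    ext z
    constructor
    · rintro ⟨_, ⟨g, rfl⟩, rfl⟩
      exact ⟨g, (hα1 g).symm⟩
    · rintro ⟨g, rfl⟩
      exact ⟨α g, ⟨g, rfl⟩, hα1 g⟩
  have h1 : Module.finrank ℚ (IntermediateField.adjoin ℚ (Set.range χ)) = Module.finrank ℚ L' := by
    rw [← hmap]
    exact (IntermediateField.equivMap L' φ).toLinearEquiv.finrank_eq.symm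
  rw [h1, IntermediateField.finrank_eq_fixingSubgroup_index]
  have h2 : L'.fixingSubgroup = (stabPow χ n hn).comap
      (IsCyclotomicExtension.autEquivPow (CyclotomicField n ℚ) hirr).toMonoidHom := by
    ext σ
    rw [IntermediateField.mem_fixingSubgroup_iff, Subgroup.mem_comap, mem_stabPow]
    constructor
    · intro h g
      have h3 := h (α g) (IntermediateField.subset_adjoin _ _ ⟨g, rfl⟩)
      have h4 := hα2 g σ
      rw [h3, hα1] at h4
      exact h4.symm
    · intro h x hx
      induction hx using IntermediateField.adjoin_induction with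
      | mem x hx =>
        obtain ⟨g, rfl⟩ := hx
        apply hφinj
        rw [hα2, hα1]
        exact h g
      | algebraMap x => exact σ.commutes x
      | add x y _ _ hx hy => rw [map_add, hx, hy]
      | inv x _ hx => rw [map_inv₀, hx]
      | mul x y _ _ hx hy => rw [map_mul, hx, hy]
  rw [h2]
  exact Subgroup.index_comap_of_surjective _
    (IsCyclotomicExtension.autEquivPow (CyclotomicField n ℚ) hirr).surjective

end Cfsg.Agent.Lib.Helper3.FV
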