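import Mathlib
import Cfsg.Prelude.Def_Characters
import Cfsg.Prelude.Def_Blocks
import Cfsg.Agent.Lib.Helper3.FV1
import Cfsg.Agent.Lib.Helper6.NilpMono
import Cfsg.Agent.Lib.Helper6.Clifford
import Cfsg.Agent.Lib.Helper6.GaloisConj
import Cfsg.Agent.Lib.Helper6.Constituent
import Cfsg.Agent.Lib.Helper6.CharOps
import Cfsg.Agent.Lib.Helper6.CharMisc
import Cfsg.Agent.Lib.Helper6.Linear
import Cfsg.Agent.Lib.Helper6.IndLinear
import Cfsg.Agent.Lib.Helper1.FrattiniP
import Cfsg.Agent.S0147
import Cfsg.Agent.S0146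

/-! Structure of nonlinear irreducible characters of `p`-groups: induction from a maximal subgroup
and the Galois stabilizers. -/

set_option autoImplicit false

namespace Cfsg.Agent.Lib.Helper3.FV

open Cfsg Cfsg.Agent.Lib.Helper6
open scoped ComplexConjugate

section general

variable {G : Type*} [Group G] [Fintype G]

/-- If a character induces to an irreducible character, it is itself irreducible. -/
theorem isIrr_of_indFun_isIrr (H : Subgroup G) {η : H → ℂ} (hη : IsCharacter H η)
    (hirr : IsIrrCharacter G (indFun H η)) : IsIrrCharacter H η := by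
  classical
  have : Fintype H := Fintype.ofFinite H
  have hidx : (H.index : ℂ) ≠ 0 := by
    exact_mod_cast Subgroup.index_ne_zero_of_finite
  have h1 : η 1 ≠ 0 := by
    intro h0
    have := IsIrrCharacter.apply_one_ne_zero hirr
    rw [indFun_one, h0, mul_zero] at this
    exact this rfl
  obtain ⟨θ, hθ⟩ := IsCharacter.exists_constituent hη h1
  have hθc : IsCharacter H (θ : H → ℂ) := IsIrrCharacter.isCharacter θ.2
  obtain ⟨B, hB, hηB⟩ := IsCharacter.exists_eq_add_of_constituent hη θ.2 hθ
  have hsum : indFun H η = indFun H (θ : H → ℂ) + indFun H B := by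
    rw [← indFun_add, ← hηB]
  have hA : IsCharacter G (indFun H (θ : H → ℂ)) := IsCharacter.indFun H hθc
  have hC : IsCharacter G (indFun H B) := IsCharacter.indFun H hB
  have hA1 : indFun H (θ : H → ℂ) 1 ≠ 0 := by
    rw [indFun_one]
    exact mul_ne_zero hidx (IsIrrCharacter.apply_one_ne_zero θ.2)
  obtain ⟨ψ, hψ⟩ := IsCharacter.exists_constituent hA hA1
  obtain ⟨a, ha⟩ := IsCharacter.classInner_nat hA (IsIrrCharacter.isCharacter ψ.2)
  obtain ⟨c, hc⟩ := IsCharacter.classInner_nat hC (IsIrrCharacter.isCharacter ψ.2)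
  have ha0 : a ≠ 0 := by
    rintro rfl
    rw [ha] at hψ
    exact hψ (by simp)
  have hχψ : classInner (indFun H η) (ψ : G → ℂ) ≠ 0 := by
    rw [hsum, classInner_add_left, ha, hc]
    have : a + c ≠ 0 := by omega
    exact_mod_cast this
  have heq : indFun H η = (ψ : G → ℂ) := by
    have := classInner_isIrrCharacter hirr ψ.2
    by_contra hne
    rw [if_neg hne] at this
    exact hχψ this
  have hle : charDegree (indFun H η) ≤ charDegree (indFun H (θ : H → ℂ)) := by
    apply IsCharacter.charDegree_le hA hirr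
    rw [heq]
    exact hψ
  have hle2 : charDegree (θ : H → ℂ) ≤ charDegree η := IsCharacter.charDegree_le hη θ.2 hθ
  have e1 := IsCharacter.apply_one_eq_charDegree (IsIrrCharacter.isCharacter hirr)
  have e2 := IsCharacter.apply_one_eq_charDegree hA
  have e3 := IsCharacter.apply_one_eq_charDegree hη
  have e4 := IsCharacter.apply_one_eq_charDegree hθc
  rw [indFun_one, e3] at e1
  rw [indFun_one, e4] at e2
  have e1' : H.index * charDegree η = charDegree (indFun H η) := by exact_mod_cast e1
  have e2' : H.index * charDegree (θ : H → ℂ) = charDegree (indFun H (θ : H → ℂ)) := by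
    exact_mod_cast e2
  rw [← e1', ← e2'] at hle
  have hidx0 : 0 < H.index := Nat.pos_of_ne_zero Subgroup.index_ne_zero_of_finite
  have hle3 : charDegree η ≤ charDegree (θ : H → ℂ) := Nat.le_of_mul_le_mul_left hle hidx0
  have hdeg : charDegree η = charDegree (θ : H → ℂ) := le_antisymm hle3 hle2
  have h11 : η 1 = (θ : H → ℂ) 1 := by rw [e3, e4, hdeg]
  have := IsCharacter.eq_of_constituent_of_apply_one_eq hη θ.2 hθ h11
  rw [this]
  exact θ.2

end general

section pgroup

variable {P : Type*} [Group P] [Fintype P]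

/-- A nonlinear irreducible character of a finite `p`-group is induced from an irreducible
character of a normal subgroup of index `p`. -/
theorem exists_normal_induced {p : ℕ} [hp : Fact p.Prime] (hP : IsPGroup p P) {χ : P → ℂ}
    (hχ : IsIrrCharacter P χ) (hdeg : charDegree χ ≠ 1) :
    ∃ (M : Subgroup P) (η : M → ℂ), M.Normal ∧ M.index = p ∧ IsIrrCharacter M η ∧
      χ = indFun M η := by
  classical
  haveI : Group.IsNilpotent P := hP.isNilpotent
  obtain ⟨H, lam, hlam⟩ := nilpotent_monomial (Nat.card P) P rfl χ hχ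
  have hH : H ≠ ⊤ := by
    rintro rfl
    apply hdeg
    have h1 := IsCharacter.apply_one_eq_charDegree (IsIrrCharacter.isCharacter hχ)
    have h2 : χ 1 = 1 := by
      rw [hlam, indFun_one, Subgroup.index_top, map_one]
      simp
    rw [h2] at h1
    exact_mod_cast h1.symm
  obtain ⟨M, hM, hHM⟩ := (eq_top_or_exists_le_coatom H).resolve_left hH
  have hMn : M.Normal := Cfsg.Agent.Lib.Helper1.normal_of_isCoatom_of_isPGroup p hP M hM
  have hMi : M.index = p := Cfsg.Agent.Lib.Helper1.index_eq_prime_of_isCoatom p hP M hM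
  have : Fintype M := Fintype.ofFinite M
  set lam' : H.subgroupOf M → ℂ :=
    fun x => (lam ⟨(x : M), Subgroup.mem_subgroupOf.mp x.2⟩ : ℂ) with hlam'
  have htr := Cfsg.Agent.S0147.result H M hHM (fun h => (lam h : ℂ))
  have hlamc : IsCharacter (H.subgroupOf M) lam' := by
    have h1 := IsIrrCharacter.isCharacter (isIrrCharacter_of_hom lam)
    have h2 := IsCharacter.comp (Subgroup.subgroupOfEquivOfLe hHM).toMonoidHom h1
    exact h2
  have hηc : IsCharacter M (indFun (H.subgroupOf M) lam') := IsCharacter.indFun _ hlamc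
  have hχeq : χ = indFun M (indFun (H.subgroupOf M) lam') := by
    rw [hlam, ← htr]
  refine ⟨M, indFun (H.subgroupOf M) lam', hMn, hMi, ?_, hχeq⟩
  apply isIrr_of_indFun_isIrr M hηc
  rw [← hχeq]
  exact hχ

end pgroup

end Cfsg.Agent.Lib.Helper3.FV
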