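import Mathlib
import Cfsg.Prelude.Def_Characters
import Cfsg.Agent.Lib.Helper3.CT8
import Cfsg.Agent.Lib.Helper3.FV2
import Cfsg.Agent.Lib.Helper6.BlkCover
import Cfsg.Agent.Lib.Helper6.CliffordDeg

set_option autoImplicit false
set_option maxHeartbeats 4000000
set_option maxRecDepth 100000
set_option linter.unusedVariables false
set_option linter.unusedSectionVars false
set_option linter.style.haveILetI false
set_option linter.deprecated false

/-! # A fully ramified character induced from a normal subgroup: the conjugates of `φ` -/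

namespace Cfsg.Agent.Lib.Helper3.CT

open Cfsg Cfsg.Agent.Lib.Helper6
open scoped ComplexConjugate

variable {H : Type*} [Group H] [Fintype H]

/-- if `φ^H` is irreducible then the inertia group of `φ` is `K` -/
theorem inertia_le_of_irr_ind (K : Subgroup H) [Fintype K] (hK : K.Normal) {φ : K → ℂ}
    (hφ : Cfsg.IsIrrCharacter K φ) (hirr : Cfsg.IsIrrCharacter H (Cfsg.indFun K φ)) :
    inertia K hK φ ≤ K := by
  classical
  have hcf := IsIrrCharacter.isClassFunction hirr
  have h1 : Cfsg.classInner (Cfsg.indFun K φ) (Cfsg.indFun K φ) = 1 := by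
    rw [classInner_isIrrCharacter hirr hirr, if_pos rfl]
  rw [Cfsg.Agent.S0146.result K φ (Cfsg.indFun K φ) hcf,
    classInner_indFun_restrict_right K hK φ φ] at h1
  have h2 : ∀ x : H, Cfsg.classInner φ (conjFun K hK φ x)
      = if x ∈ inertia K hK φ then (1 : ℂ) else 0 := by
    intro x
    rw [classInner_isIrrCharacter hφ (IsIrrCharacter.conjFun K hK hφ x)]
    by_cases hx : x ∈ inertia K hK φ
    · rw [if_pos hx, if_pos ((mem_inertia K hK φ x).mp hx).symm]
    · rw [if_neg hx, if_neg (fun h => hx ((mem_inertia K hK φ x).mpr h.symm))]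
  rw [Finset.sum_congr rfl (fun x _ => h2 x), Finset.sum_boole] at h1
  have hcard : (Finset.univ.filter (fun x : H => x ∈ inertia K hK φ)).card
      = Nat.card (inertia K hK φ) := by
    rw [Nat.card_eq_fintype_card, Fintype.card_subtype]
  rw [hcard] at h1
  have hK0 : (Nat.card K : ℂ) ≠ 0 := by
    have : Nat.card K ≠ 0 := Nat.card_pos.ne'
    exact_mod_cast this
  have h3 : (Nat.card (inertia K hK φ) : ℂ) = (Nat.card K : ℂ) := by
    field_simp at h1
    exact h1
  have h4 : Nat.card (inertia K hK φ) = Nat.card K := by exact_mod_cast h3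
  have hle : K ≤ inertia K hK φ := le_inertia K hK (IsIrrCharacter.isClassFunction hφ)
  have := Subgroup.eq_of_le_of_card_ge hle (le_of_eq h4)
  rw [← this]

/-- a constituent of a character whose restriction is homogeneous lies over `θ` -/
theorem over_of_constituent_of_homog {G Z : Type*} [Group G] [Fintype G] [Group Z] [Fintype Z]
    (f : Z →* G) {Ψ β : G → ℂ} (hΨ : Cfsg.IsCharacter G Ψ) (hβ : Cfsg.IsIrrCharacter G β)
    (h : Cfsg.classInner Ψ β ≠ 0) {θ : Z → ℂ}
    (hhom : ∀ θ' : Z → ℂ, Cfsg.IsIrrCharacter Z θ' → θ' ≠ θ →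
      Cfsg.classInner (fun z => Ψ (f z)) θ' = 0) :
    Cfsg.classInner (fun z => β (f z)) θ ≠ 0 := by
  have hβZ : Cfsg.IsCharacter Z (fun z => β (f z)) :=
    IsCharacter.comp f (IsIrrCharacter.isCharacter hβ)
  have h1 : (fun z => β (f z)) 1 ≠ 0 := by
    show β (f 1) ≠ 0
    rw [map_one]; exact IsIrrCharacter.apply_one_ne_zero hβ
  obtain ⟨θ', hθ'⟩ := IsCharacter.exists_constituent hβZ h1
  obtain ⟨k, hk⟩ := IsCharacter.classInner_comp_ge f hΨ hβ h θ'.2
  obtain ⟨n, hn⟩ := IsCharacter.classInner_irr_nat hβZ θ'.2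
  by_cases hE : (θ' : Z → ℂ) = θ
  · rw [← hE]; exact hθ'
  · exfalso
    have h0 := hhom θ' θ'.2 hE
    rw [hk, hn] at h0
    have hn0 : n ≠ 0 := by
      rintro rfl
      apply hθ'
      rw [hn]; simp
    have : (n + k : ℕ) = 0 := by exact_mod_cast h0
    omega

theorem homog_of_eq_smul {Z : Type*} [Group Z] [Fintype Z] {ψ θ : Z → ℂ}
    (hθ : Cfsg.IsIrrCharacter Z θ) (c : ℂ) (h : ψ = c • θ) :
    ∀ θ' : Z → ℂ, Cfsg.IsIrrCharacter Z θ' → θ' ≠ θ → Cfsg.classInner ψ θ' = 0 := by
  intro θ' hθ' hne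
  rw [h, classInner_smul_left, classInner_isIrrCharacter hθ hθ', if_neg (fun h => hne h.symm),
    mul_zero]

/-- every irreducible character of `K` over `θ` is conjugate to `φ` -/
theorem exists_conj_of_over (Z K : Subgroup H) [hZ : Z.Normal] [Fintype Z] [Fintype K]
    (hK : K.Normal) (hZK : Z ≤ K) {χ : H → ℂ} (hχ : Cfsg.IsIrrCharacter H χ) {θ : Z → ℂ}
    (hθ : Cfsg.IsIrrCharacter Z θ) (e : ℕ) (he : e ^ 2 = Z.index)
    (hres : ∀ z : Z, χ z = (e : ℂ) * θ z)
    {φ : K → ℂ} (hφ : Cfsg.IsIrrCharacter K φ) (hind : Cfsg.indFun K φ = χ)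
    {β : K → ℂ} (hβ : Cfsg.IsIrrCharacter K β)
    (hover : Cfsg.classInner (fun z : Z => β ⟨z, hZK z.2⟩) θ ≠ 0) :
    ∃ h : H, β = conjFun K hK φ h := by
  classical
  have hχcf := IsIrrCharacter.isClassFunction hχ
  have h1 : Cfsg.classInner (fun k : K => χ k) φ ≠ 0 := by
    have h2 : Cfsg.classInner (Cfsg.indFun K φ) χ = 1 := by
      rw [hind, classInner_isIrrCharacter hχ hχ, if_pos rfl]
    rw [Cfsg.Agent.S0146.result K φ χ hχcf] at h2
    intro h0
    have := classInner_conj_symm φ (fun k : K => χ k)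
    rw [h2, h0] at this
    simp at this
  have hβH : Cfsg.IsCharacter H (Cfsg.indFun K β) :=
    IsCharacter.indFun K (IsIrrCharacter.isCharacter hβ)
  have hβ1 : Cfsg.indFun K β 1 ≠ 0 := by
    rw [indFun_one]
    apply mul_ne_zero
    · have : K.index ≠ 0 := Subgroup.index_ne_zero_of_finite
      exact_mod_cast this
    · exact IsIrrCharacter.apply_one_ne_zero hβ
  obtain ⟨ψ, hψ⟩ := IsCharacter.exists_constituent hβH hβ1
  have hψcf := IsIrrCharacter.isClassFunction ψ.2
  rw [Cfsg.Agent.S0146.result K β ψ hψcf] at hψ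
  have hψ' : Cfsg.classInner (fun k : K => (ψ : H → ℂ) k) β ≠ 0 := by
    intro h0
    apply hψ
    have := classInner_conj_symm (fun k : K => (ψ : H → ℂ) k) β
    rw [h0] at this
    rw [← this]; simp
  let f : Z →* K := Subgroup.inclusion hZK
  have hψK : Cfsg.IsCharacter K (fun k : K => (ψ : H → ℂ) k) :=
    IsCharacter.restrict K (IsIrrCharacter.isCharacter ψ.2)
  obtain ⟨k, hk⟩ := IsCharacter.classInner_comp_ge f hψK hβ hψ' hθ
  obtain ⟨n, hn⟩ := IsCharacter.classInner_irr_nat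
    (IsCharacter.comp f (IsIrrCharacter.isCharacter hβ)) hθ
  have hn' : Cfsg.classInner (fun z : Z => β ⟨z, hZK z.2⟩) θ = n := hn
  have hψZ : Cfsg.classInner (fun z : Z => (ψ : H → ℂ) z) θ ≠ 0 := by
    have e1 : (fun z : Z => (ψ : H → ℂ) z) = fun z : Z => (fun k : K => (ψ : H → ℂ) k) (f z) := rfl
    rw [e1, hk, hn]
    have hn0 : n ≠ 0 := by
      rintro rfl
      apply hover
      rw [hn']; simp
    have : n + k ≠ 0 := by omega
    exact_mod_cast this
  have hψχ : (ψ : H → ℂ) = χ := by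
    by_contra hne
    exact hψZ (Cfsg.Agent.Lib.Helper3.FullyRam.classInner_eq_zero_of_ne Z hχ hθ e he hres ψ.2 hne)
  rw [hψχ] at hψ'
  exact exists_conjFun_eq_of_constituents K hK hχ hφ hβ h1 hψ'

/-- a conjugate of `φ` is moved by every element outside `K` -/
theorem conj_ne_of_not_mem (K : Subgroup H) [Fintype K] (hK : K.Normal) {φ : K → ℂ}
    (hφ : Cfsg.IsIrrCharacter K φ) (hirr : Cfsg.IsIrrCharacter H (Cfsg.indFun K φ)) (h t : H)
    (ht : t ∉ K) : conjFun K hK (conjFun K hK φ h) t ≠ conjFun K hK φ h := by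
  intro heq
  apply ht
  have h1 := congrArg (fun ξ => conjFun K hK ξ h⁻¹) heq
  simp only [conjFun_conjFun] at h1
  rw [mul_inv_cancel, conjFun_one] at h1
  have h2 : h * t * h⁻¹ ∈ inertia K hK φ := (mem_inertia K hK φ _).mpr h1
  have h3 := inertia_le_of_irr_ind K hK hφ hirr h2
  have := hK.conj_mem _ h3 h⁻¹
  have e : h⁻¹ * (h * t * h⁻¹) * h⁻¹⁻¹ = t := by group
  rwa [e] at this

/-- the multiplicities in an induced character are invariant under an element fixing `ν` -/
theorem classInner_indFun_conjFun_eq (K : Subgroup H) [Fintype K] (hK : K.Normal)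
    (A : Subgroup K) [Fintype A] (ν : A → ℂ) (t : H)
    (hA : ∀ a : K, a ∈ A → (⟨t * a * t⁻¹, hK.conj_mem a a.2 t⟩ : K) ∈ A)
    (hν : ∀ (a : K) (ha : a ∈ A), ν ⟨⟨t * a * t⁻¹, hK.conj_mem a a.2 t⟩, hA a ha⟩ = ν ⟨a, ha⟩)
    {β : K → ℂ} (hβ : Cfsg.IsIrrCharacter K β) :
    Cfsg.classInner (Cfsg.indFun A ν) (conjFun K hK β t) = Cfsg.classInner (Cfsg.indFun A ν) β := by
  have hβcf := IsIrrCharacter.isClassFunction hβ
  have hβtcf := IsIrrCharacter.isClassFunction (IsIrrCharacter.conjFun K hK hβ t)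
  rw [Cfsg.Agent.S0146.result A ν _ hβtcf, Cfsg.Agent.S0146.result A ν _ hβcf]
  unfold Cfsg.classInner
  congr 1
  let ε : A → A := fun a => ⟨⟨t * a * t⁻¹, hK.conj_mem a a.1.2 t⟩, hA a.1 a.2⟩
  have hεinj : Function.Injective ε := by
    intro a b hab
    have h1 := congrArg (fun x : A => ((x : K) : H)) hab
    simp only [ε] at h1
    apply Subtype.ext; apply Subtype.ext
    exact mul_left_cancel (mul_right_cancel h1)
  have hεbij : Function.Bijective ε := Finite.injective_iff_bijective.mp hεinj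
  rw [← Function.Bijective.sum_comp hεbij (fun a : A => ν a * conj (β a))]
  apply Finset.sum_congr rfl
  intro a _
  have h2 : ν (ε a) = ν a := hν a.1 a.2
  rw [h2]
  beta_reduce
  rw [conjFun_apply]

end Cfsg.Agent.Lib.Helper3.CT

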