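import Mathlib
import Cfsg.Prelude.Def_Characters
import Cfsg.Agent.Lib.Helper3.CT10
import Cfsg.Agent.Lib.Helper3.CT11
import Cfsg.Agent.Lib.Helper6.Multiplicity
import Cfsg.Agent.Lib.Helper6.CliffordCorr

set_option autoImplicit false
set_option maxHeartbeats 4000000
set_option maxRecDepth 100000
set_option linter.unusedVariables false
set_option linter.unusedSectionVars false
set_option linter.style.haveILetI false
set_option linter.deprecated false

/-! # Freeness when the fully ramified character is induced from `K` -/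

namespace Cfsg.Agent.Lib.Helper3.CT

open Cfsg Cfsg.Agent.Lib.Helper6
open scoped ComplexConjugate

variable {H : Type*} [Group H] [Fintype H]

/-- `φ` is a constituent of the restriction of `φ^H` when the latter is irreducible -/
theorem classInner_restrict_ind_ne_zero (K : Subgroup H) [Fintype K] {χ : H → ℂ}
    (hχ : Cfsg.IsIrrCharacter H χ) {φ : K → ℂ} (hind : Cfsg.indFun K φ = χ) :
    Cfsg.classInner (fun k : K => χ k) φ ≠ 0 := by
  have hχcf := IsIrrCharacter.isClassFunction hχ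
  have h2 : Cfsg.classInner (Cfsg.indFun K φ) χ = 1 := by
    rw [hind, classInner_isIrrCharacter hχ hχ, if_pos rfl]
  rw [Cfsg.Agent.S0146.result K φ χ hχcf] at h2
  intro h0
  have := classInner_conj_symm φ (fun k : K => χ k)
  rw [h2, h0] at this
  simp at this

/-- the degree of `φ` is a multiple of the degree of a good function -/
theorem degree_restrict (Z K V : Subgroup H) [hZ : Z.Normal] [hK : K.Normal] [Fintype Z]
    [Fintype K] (hZK : Z ≤ K) (p : ℕ) [hp : Fact p.Prime]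
    {χ : H → ℂ} (hχ : Cfsg.IsIrrCharacter H χ) (θ₀ : H → ℂ)
    (hθ : Cfsg.IsIrrCharacter Z (fun z : Z => θ₀ z)) (e : ℕ)
    (he : e ^ 2 = Z.index) (hres : ∀ z : Z, χ z = (e : ℂ) * θ₀ z)
    {φ : K → ℂ} (hφ : Cfsg.IsIrrCharacter K φ) (hind : Cfsg.indFun K φ = χ)
    (hV : Adm p Z V)
    (F : H → ℂ) (hF : Good Z θ₀ (V ⊓ K) F) :
    ∃ r : ℕ, φ 1 = (r : ℂ) * F 1 := by
  classical
  haveI : Fintype ((V ⊓ K).subgroupOf K) := Fintype.ofFinite _
  haveI : Fintype (Cfsg.IrrCharacter ((V ⊓ K).subgroupOf K)) := Fintype.ofFinite _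
  have hZV := hV.1
  have hZA : Z ≤ V ⊓ K := le_inf hZV hZK
  let f : Z →* K := Subgroup.inclusion hZK
  have h1 : Cfsg.classInner (fun k : K => χ k) φ ≠ 0 := classInner_restrict_ind_ne_zero K hχ hind
  have hχZ : (fun z : Z => (fun k : K => χ k) (f z)) = ((e : ℂ)) • (fun z : Z => θ₀ z) := by
    funext z
    rw [Pi.smul_apply, smul_eq_mul]
    exact hres z
  have hφZ : Cfsg.classInner (fun z : Z => φ (f z)) (fun z : Z => θ₀ z) ≠ 0 :=
    over_of_constituent_of_homog f (IsCharacter.restrict K (IsIrrCharacter.isCharacter hχ)) hφ h1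
      (homog_of_eq_smul hθ e hχZ)
  have hinvθ : ∀ t ∈ K, conjFun Z hZ (fun z : Z => θ₀ z) t = fun z : Z => θ₀ z := by
    intro t _
    funext z
    rw [conjFun_apply]
    exact Cfsg.Agent.Lib.Helper3.FullyRam.invariant_of_ramified Z hχ
      (θ := fun z : Z => θ₀ z) e he hres t z
  have hsm := restrict_eq_smul_of_invariant_of_le Z hZ K hZK hφ hθ hinvθ hφZ
  have hφA : Cfsg.IsCharacter ((V ⊓ K).subgroupOf K)
      (fun a : (V ⊓ K).subgroupOf K => φ a) :=
    IsCharacter.restrict _ (IsIrrCharacter.isCharacter hφ)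
  obtain ⟨m', hm', hmc'⟩ := IsCharacter.exists_mult hφA
  have hval := apply_eq_sum_mult hm' 1
  have hdeg : ∀ ν' : Cfsg.IrrCharacter ((V ⊓ K).subgroupOf K), m' ν' ≠ 0 →
      (ν' : (V ⊓ K).subgroupOf K → ℂ) 1 = F 1 := by
    intro ν' hν'
    have hc : Cfsg.classInner (fun a : (V ⊓ K).subgroupOf K => φ a)
        (ν' : (V ⊓ K).subgroupOf K → ℂ) ≠ 0 := by
      rw [hmc']; exact_mod_cast hν'
    let F' : H → ℂ := fun x => if hx : x ∈ V ⊓ K then
      (ν' : (V ⊓ K).subgroupOf K → ℂ) ⟨⟨x, hx.2⟩, Subgroup.mem_subgroupOf.mpr hx⟩ else 0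
    have hF'1 : (fun a : (V ⊓ K : Subgroup H) => F' a) = fun a =>
        (ν' : (V ⊓ K).subgroupOf K → ℂ) ((Subgroup.subgroupOfEquivOfLe inf_le_right).symm a) := by
      funext a
      simp only [F']
      rw [dif_pos a.2]
      rfl
    have hF'irr : Cfsg.IsIrrCharacter (V ⊓ K : Subgroup H)
        (fun a : (V ⊓ K : Subgroup H) => F' a) := by
      rw [hF'1]
      exact IsIrrCharacter.comp_mulEquiv (Subgroup.subgroupOfEquivOfLe inf_le_right).symm ν'.2
    let g : Z →* (V ⊓ K).subgroupOf K := {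
      toFun := fun z => ⟨⟨z, hZK z.2⟩, Subgroup.mem_subgroupOf.mpr (hZA z.2)⟩
      map_one' := rfl
      map_mul' := fun a b => rfl }
    have hF'Z : (fun z : Z => F' z) = fun z : Z => (ν' : (V ⊓ K).subgroupOf K → ℂ) (g z) := by
      funext z
      simp only [F']
      rw [dif_pos (hZA z.2)]
      rfl
    have hhom : ∀ θ' : Z → ℂ, Cfsg.IsIrrCharacter Z θ' → θ' ≠ (fun z : Z => θ₀ z) →
        Cfsg.classInner (fun z : Z => (fun a : (V ⊓ K).subgroupOf K => φ a) (g z)) θ' = 0 :=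
      homog_of_eq_smul hθ _ hsm
    have hover := over_of_constituent_of_homog g hφA ν'.2 hc hhom
    have hG' : Good Z θ₀ (V ⊓ K) F' := ⟨hF'irr, by rw [hF'Z]; exact hover⟩
    obtain ⟨v, hv, hvF⟩ := good_trans Z K V hZK p hχ θ₀ hθ e he hres hV F F' hF hG'
    have h3 := hvF 1 (one_mem _)
    rw [mul_one, mul_inv_cancel] at h3
    rw [← h3]
    simp only [F']
    rw [dif_pos (one_mem _)]
    rfl
  refine ⟨∑ ν', m' ν', ?_⟩
  have hval' : φ 1 = ∑ θ : Cfsg.IrrCharacter ((V ⊓ K).subgroupOf K),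
      (m' θ : ℂ) * (θ : (V ⊓ K).subgroupOf K → ℂ) 1 := hval
  rw [hval']
  push_cast
  rw [Finset.sum_mul]
  apply Finset.sum_congr rfl
  intro ν' _
  by_cases h0 : m' ν' = 0
  · rw [h0]; simp
  · rw [hdeg ν' h0]

end Cfsg.Agent.Lib.Helper3.CT
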