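import Mathlib
import Cfsg.Agent.Lib.Helper3.Bg4
import Cfsg.Agent.Lib.Helper3.FV2
import Cfsg.Agent.Lib.Helper3.CT12
import Cfsg.Agent.Lib.Helper6.IndCharComb
import Cfsg.Agent.Lib.Helper6.BrWeight

/-! S0889 (Berger): the induction frame and the linearisation step. -/

set_option autoImplicit false
set_option maxHeartbeats 4000000
set_option maxRecDepth 100000
set_option linter.unusedVariables false
set_option linter.unusedSectionVars false
set_option linter.style.haveILetI false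
set_option linter.deprecated false

namespace Cfsg.Agent.Lib.Helper3.Bg

open Subgroup Cfsg Cfsg.Agent.Lib.Helper6 Cfsg.Agent.Lib.Helper3.CharTriple Module
open scoped ComplexConjugate

universe u

/-- `χ` restricts homogeneously to `R` -/
def Homog {G : Type u} [Group G] (χ : G → ℂ) (R : Subgroup G) : Prop :=
  ∃ (ϑ : R → ℂ) (e : ℕ), Cfsg.IsIrrCharacter R ϑ ∧ (fun n : R => χ n) = (e : ℂ) • ϑ

/-- no bad configuration whose core has index `n` -/
def NoBad (n : ℕ) : Prop :=
  ∀ (G : Type u) [Group G] [Fintype G] [Group.IsSolvable G] (χ : G → ℂ) (T : Subgroup G)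
    (σ : T → ℂ), Cfsg.IsIrrCharacter G χ → T ≠ ⊤ → Cfsg.IsCharacter T σ → Cfsg.indFun T σ = χ →
    (∀ R : Subgroup G, R.Normal → T.normalCore ≤ R → Homog χ R) → T.normalCore.index = n → False

/-- the step in the linear situation -/
def LinStep : Prop :=
  ∀ (G : Type u) [Group G] [Fintype G] [Group.IsSolvable G] (χ : G → ℂ) (H : Subgroup G)
    (ψ : H → ℂ) (lam : H.normalCore →* ℂˣ),
    Cfsg.IsIrrCharacter G χ → IsCoatom H → Cfsg.IsCharacter H ψ → Cfsg.indFun H ψ = χ →
    (∀ R : Subgroup G, R.Normal → H.normalCore ≤ R → Homog χ R) →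
    (∀ n : H.normalCore, χ n = χ 1 * lam n) →
    (∀ m < H.normalCore.index, NoBad.{u} m) → False

theorem indFun_congr {G : Type*} [Group G] [Fintype G] {T T' : Subgroup G} (h : T = T')
    (σ : T → ℂ) (σ' : T' → ℂ)
    (hσ : ∀ (t : G) (ht : t ∈ T) (ht' : t ∈ T'), σ ⟨t, ht⟩ = σ' ⟨t, ht'⟩) :
    Cfsg.indFun T σ = Cfsg.indFun T' σ' := by
  subst h
  congr 1
  funext t
  exact hσ t.1 t.2 t.2

theorem indFun_coset_inv {Γ : Type*} [Group Γ] [Fintype Γ] (H1 A : Subgroup Γ) [hA : A.Normal]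
    (hAH : A ≤ H1) (β : H1 → ℂ)
    (hβ : ∀ (a : Γ) (ha : a ∈ A) (t : H1), β (⟨a, hAH ha⟩ * t) = β t) (a : Γ) (ha : a ∈ A)
    (γ : Γ) : Cfsg.indFun H1 β (a * γ) = Cfsg.indFun H1 β γ := by
  unfold Cfsg.indFun
  congr 1
  apply Finset.sum_congr rfl
  intro x _
  have hx : x⁻¹ * (a * γ) * x = (x⁻¹ * a * x) * (x⁻¹ * γ * x) := by group
  rw [hx]
  have ha' : x⁻¹ * a * x ∈ A := by simpa using hA.conj_mem a ha x⁻¹
  by_cases hy : x⁻¹ * γ * x ∈ H1
  · rw [extendByZero_of_mem _ _ (H1.mul_mem (hAH ha') hy), extendByZero_of_mem _ _ hy]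
    exact hβ _ ha' ⟨_, hy⟩
  · have hy' : (x⁻¹ * a * x) * (x⁻¹ * γ * x) ∉ H1 := by
      intro h
      apply hy
      have h2 := H1.mul_mem (H1.inv_mem (hAH ha')) h
      have h3 : x⁻¹ * γ * x = (x⁻¹ * a * x)⁻¹ * ((x⁻¹ * a * x) * (x⁻¹ * γ * x)) := by group
      rw [h3]
      exact h2
    rw [extendByZero_of_not_mem _ _ hy', extendByZero_of_not_mem _ _ hy]

/-- the linearisation step -/
theorem stepC (hD : LinStep.{u}) {G : Type u} [Group G] [Fintype G] [Group.IsSolvable G]
    (χ : G → ℂ) (H : Subgroup G) (ψ : H → ℂ) (hχ : Cfsg.IsIrrCharacter G χ) (hH : IsCoatom H)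
    (hψ : Cfsg.IsCharacter H ψ) (hind : Cfsg.indFun H ψ = χ)
    (hq : ∀ R : Subgroup G, R.Normal → H.normalCore ≤ R → Homog χ R)
    (IH : ∀ m < H.normalCore.index, NoBad.{u} m) : False := by
  classical
  obtain ⟨N, hNdef⟩ : ∃ N : Subgroup G, N = H.normalCore := ⟨_, rfl⟩
  haveI hNn : N.Normal := by rw [hNdef]; infer_instance
  have hNH : N ≤ H := by rw [hNdef]; exact Subgroup.normalCore_le H
  haveI : Fintype N := Fintype.ofFinite _
  haveI : Fintype H := Fintype.ofFinite _
  obtain ⟨θ, e, hθ, hres⟩ := hq N hNn (le_of_eq hNdef.symm)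
  obtain ⟨d, ρ, hρirr, hρθ⟩ := hθ
  haveI := hρirr
  have hχcf := IsIrrCharacter.isClassFunction hχ
  have hχ1 : χ 1 ≠ 0 := IsIrrCharacter.apply_one_ne_zero hχ
  have hres1 : ∀ n : N, χ n = e * ρ.character n := by
    intro n
    have h1 := congrFun hres n
    rw [Pi.smul_apply, smul_eq_mul, ← hρθ] at h1
    exact h1
  have hresf : (fun n : N => χ n) = (e : ℂ) • ρ.character := by
    funext n
    rw [hres1]
    rfl
  have he : (e : ℂ) ≠ 0 := by
    intro h0
    apply hχ1
    have h1 := hres1 1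
    rw [h0, zero_mul] at h1
    exact h1
  have hinv : ∀ (g : G) (n : N),
      ρ.character ⟨g * n * g⁻¹, hNn.conj_mem (n : G) n.2 g⟩ = ρ.character n := by
    intro g n
    have h1 := hres1 ⟨g * n * g⁻¹, hNn.conj_mem (n : G) n.2 g⟩
    have h2 := hres1 n
    have h3 : χ (g * n * g⁻¹) = χ n := hχcf n g
    exact mul_left_cancel₀ he (by rw [← h1, ← h2]; exact h3)
  have hirrρ : Cfsg.IsIrrCharacter N ρ.character := isIrrCharacter_character ρ
  have hcon : Cfsg.classInner (fun n : N => χ n) ρ.character ≠ 0 := by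
    rw [hresf, classInner_smul_left, classInner_isIrrCharacter hirrρ hirrρ, if_pos rfl, mul_one]
    exact he
  obtain ⟨e1, τ, hτirr, hτincl, hfac⟩ := exists_factor_lift N ρ hinv χ hχ hcon
  have hsurj := pr1_surjective N ρ (Nat.card N) (character_conjNormal N ρ hinv)
  haveI : Fintype (Gam N ρ (Nat.card N)) := Fintype.ofFinite _
  haveI : Group.IsSolvable (Gam N ρ (Nat.card N)) := isSolvable_Gam N ρ
  have hχ1irr : Cfsg.IsIrrCharacter (Gam N ρ (Nat.card N)) τ.character := ⟨e1, τ, hτirr, rfl⟩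
  have hH1 : IsCoatom (H.comap (pr1 N ρ (Nat.card N))) := isCoatom_comap _ hsurj hH
  have hcore1 : (H.comap (pr1 N ρ (Nat.card N))).normalCore = N.comap (pr1 N ρ (Nat.card N)) := by
    rw [normalCore_comap _ hsurj H]
    exact congrArg (fun S : Subgroup G => S.comap (pr1 N ρ (Nat.card N))) hNdef.symm
  have hψirr : Cfsg.IsIrrCharacter H ψ :=
    Cfsg.Agent.Lib.Helper3.FV.isIrr_of_indFun_isIrr H hψ (by rw [hind]; exact hχ)
  haveI : Fintype (H.comap (pr1 N ρ (Nat.card N))) := Fintype.ofFinite _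
  have hθh := hat_restrict_isIrr N ρ H hNH
  have hθ' := hat_restrict_range_isIrr N ρ H hNH
  have hpT := (pr1 N ρ (Nat.card N)).subgroupComap_surjective_of_surjective H hsurj
  have hψt : Cfsg.IsIrrCharacter (H.comap (pr1 N ρ (Nat.card N)))
      (fun t => ψ ((pr1 N ρ (Nat.card N)).subgroupComap H t)) :=
    isIrrCharacter_comp_surjective _ hpT hψirr
  haveI : Fintype ((incl N ρ).range.subgroupOf (H.comap (pr1 N ρ (Nat.card N)))) :=
    Fintype.ofFinite _
  -- `ψ` lies over `θ`
  have hψN : Cfsg.classInner (fun n : N => ψ ⟨n, hNH n.2⟩) ρ.character ≠ 0 := by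
    have hψNc : Cfsg.IsCharacter N (fun n : N => ψ ⟨n, hNH n.2⟩) :=
      IsCharacter.comp (Subgroup.inclusion hNH) hψ
    have hψN1 : (fun n : N => ψ ⟨n, hNH n.2⟩) 1 ≠ 0 := IsIrrCharacter.apply_one_ne_zero hψirr
    obtain ⟨θ', hθ'c⟩ := IsCharacter.exists_constituent hψNc hψN1
    have hχH : Cfsg.IsCharacter H (fun h : H => χ h) :=
      IsCharacter.restrict H (IsIrrCharacter.isCharacter hχ)
    have hχHψ : Cfsg.classInner (fun h : H => χ h) ψ ≠ 0 :=
      Cfsg.Agent.Lib.Helper3.CT.classInner_restrict_ind_ne_zero H hχ hind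
    obtain ⟨k, hk⟩ := IsCharacter.classInner_comp_ge (Subgroup.inclusion hNH) hχH hψirr hχHψ θ'.2
    have hne : Cfsg.classInner (fun n : N => χ n) (θ' : N → ℂ) ≠ 0 := by
      have e1 : (fun x : N => (fun h : H => χ h) (Subgroup.inclusion hNH x)) = fun n : N => χ n :=
        rfl
      have e2 : (fun x : N => ψ (Subgroup.inclusion hNH x)) = fun n : N => ψ ⟨n, hNH n.2⟩ := rfl
      rw [e1, e2] at hk
      rw [hk]
      obtain ⟨n1, hn1⟩ := IsCharacter.classInner_nat hψNc (IsIrrCharacter.isCharacter θ'.2)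
      rw [hn1] at hθ'c ⊢
      have h5 : n1 ≠ 0 := by exact_mod_cast hθ'c
      have h6 : n1 + k ≠ 0 := by omega
      exact_mod_cast h6
    have hθ'eq : ρ.character = (θ' : N → ℂ) := by
      by_contra hne'
      apply hne
      rw [hresf, classInner_smul_left, classInner_isIrrCharacter hirrρ θ'.2, if_neg hne', mul_zero]
    rw [hθ'eq]
    exact hθ'c
  have hc : Cfsg.classInner
      (fun n : (incl N ρ).range.subgroupOf (H.comap (pr1 N ρ (Nat.card N))) =>
        ψ ((pr1 N ρ (Nat.card N)).subgroupComap H n))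
      (fun n : (incl N ρ).range.subgroupOf (H.comap (pr1 N ρ (Nat.card N))) =>
        hatChar N ρ (Nat.card N) ((n : H.comap (pr1 N ρ (Nat.card N))) : Gam N ρ (Nat.card N)))
      ≠ 0 := by
    have e1 : (fun n : (incl N ρ).range.subgroupOf (H.comap (pr1 N ρ (Nat.card N))) =>
        ψ ((pr1 N ρ (Nat.card N)).subgroupComap H n))
        = fun n => (fun m : N => ψ ⟨m, hNH m.2⟩) (toM N ρ H n) := by
      funext n
      rfl
    have e2 : (fun n : (incl N ρ).range.subgroupOf (H.comap (pr1 N ρ (Nat.card N))) =>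
        hatChar N ρ (Nat.card N) ((n : H.comap (pr1 N ρ (Nat.card N))) : Gam N ρ (Nat.card N)))
        = fun n => ρ.character (toM N ρ H n) := by
      funext n
      rw [← incl_toM, hatChar_incl]
    rw [e1, e2]
    have h9 := classInner_comp_surj (toM N ρ H) (toM_surjective N ρ H hNH)
      (fun m : N => ψ ⟨m, hNH m.2⟩) ρ.character
    intro h0
    apply hψN
    rw [← h9]
    exact h0
  obtain ⟨β, hβirr, hβker, hβeq⟩ := Cfsg.Agent.Lib.Helper3.GallagherFactor.exists_factor
    ((incl N ρ).range.subgroupOf (H.comap (pr1 N ρ (Nat.card N)))) _ hθh hθ' _ hψt hc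
  obtain ⟨βq, hβq, hβdef⟩ := Cfsg.Agent.Lib.Helper3.CharQuot.exists_irr_quot
    ((incl N ρ).range.subgroupOf (H.comap (pr1 N ρ (Nat.card N)))) hβirr
    (fun x hx => hβker ⟨x, hx⟩)
  have hAH : (incl N ρ).range ≤ H.comap (pr1 N ρ (Nat.card N)) := by
    rintro _ ⟨n, rfl⟩
    rw [Subgroup.mem_comap, pr1_incl]
    exact hNH n.2
  have hβinv : ∀ (a : Gam N ρ (Nat.card N)) (ha : a ∈ (incl N ρ).range)
      (t : H.comap (pr1 N ρ (Nat.card N))), β (⟨a, hAH ha⟩ * t) = β t := by
    intro a ha t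
    rw [hβdef]
    show βq (QuotientGroup.mk (⟨a, hAH ha⟩ * t)) = βq (QuotientGroup.mk t)
    rw [QuotientGroup.mk_mul, (QuotientGroup.eq_one_iff _).mpr (Subgroup.mem_subgroupOf.mpr ha),
      one_mul]
  have hθΓ : Cfsg.IsIrrCharacter (incl N ρ).range
      (fun n => hatChar N ρ (Nat.card N) (n : Gam N ρ (Nat.card N))) := by
    have h1 := IsIrrCharacter.comp_mulEquiv (MonoidHom.ofInjective (incl_injective N ρ)).symm hirrρ
    have e : (fun n : (incl N ρ).range => hatChar N ρ (Nat.card N) (n : Gam N ρ (Nat.card N)))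
        = fun h => ρ.character ((MonoidHom.ofInjective (incl_injective N ρ)).symm h) := by
      funext h
      have h2 : incl N ρ ((MonoidHom.ofInjective (incl_injective N ρ)).symm h) = h :=
        MonoidHom.apply_ofInjective_symm (incl_injective N ρ) h
      rw [← hatChar_incl, h2]
    rw [e]
    exact h1
  have hindβ : Cfsg.indFun (H.comap (pr1 N ρ (Nat.card N))) β = τ.character := by
    have h1 : Cfsg.indFun (H.comap (pr1 N ρ (Nat.card N)))
        (fun t => ψ ((pr1 N ρ (Nat.card N)).subgroupComap H t))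
        = fun γ => χ (pr1 N ρ (Nat.card N) γ) := by
      have h0 := indFun_comp_surj (pr1 N ρ (Nat.card N)) hsurj H ψ
      rw [hind] at h0
      exact h0
    have hhatcf : Cfsg.IsClassFunction (Gam N ρ (Nat.card N)) (hatChar N ρ (Nat.card N)) :=
      IsCharacter.isClassFunction (hatChar_isCharacter N ρ _)
    have h2 := Cfsg.Agent.Lib.Helper6.IndFunMore.mul_indFun (H.comap (pr1 N ρ (Nat.card N))) β (hatChar N ρ (Nat.card N)) hhatcf
    have h3 : (fun h : H.comap (pr1 N ρ (Nat.card N)) =>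
        hatChar N ρ (Nat.card N) (h : Gam N ρ (Nat.card N)) * β h)
        = fun t => ψ ((pr1 N ρ (Nat.card N)).subgroupComap H t) := by
      rw [hβeq]
      funext h
      rw [Pi.mul_apply, mul_comm]
    rw [h3, h1] at h2
    funext γ
    obtain ⟨m, hm⟩ := Cfsg.Agent.Lib.Helper3.GallagherDecomp.exists_ne_zero_coset (incl N ρ).range
      (hatChar_isIrrCharacter N ρ) hθΓ γ
    have h4 := congrFun h2 ((m : Gam N ρ (Nat.card N)) * γ)
    rw [Pi.mul_apply, hfac] at h4
    have h5 : Cfsg.indFun (H.comap (pr1 N ρ (Nat.card N))) β ((m : Gam N ρ (Nat.card N)) * γ)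
        = τ.character ((m : Gam N ρ (Nat.card N)) * γ) := by
      apply mul_left_cancel₀ hm
      rw [h4, mul_comm]
    rw [indFun_coset_inv _ _ hAH β hβinv m m.2 γ] at h5
    rw [h5]
    obtain ⟨n, hn⟩ := m.2
    unfold Representation.character
    rw [map_mul, ← hn, hτincl]
    rfl
  have hcle : (H.comap (pr1 N ρ (Nat.card N))).normalCore ≤ preN N ρ := le_of_eq hcore1
  have hlin1 : ∀ a : (H.comap (pr1 N ρ (Nat.card N))).normalCore,
      τ.character (a : Gam N ρ (Nat.card N))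
        = τ.character 1 * (((lamHom N ρ).comp (Subgroup.inclusion hcle)) a : ℂˣ) := by
    intro a
    obtain ⟨a', ha'⟩ : ∃ a' : preN N ρ, a' = Subgroup.inclusion hcle a := ⟨_, rfl⟩
    have hlam : ((((lamHom N ρ).comp (Subgroup.inclusion hcle)) a : ℂˣ) : ℂ)
        = (scal N ρ (Nat.card N) (zOf N ρ a'))⁻¹ := by
      rw [ha']
      exact lamHom_apply N ρ _
    have hz1 := pr1_zOf N ρ a'
    have hdec := eq_zOf_mul N ρ a'
    have h1 : τ.character (a : Gam N ρ (Nat.card N)) = τ.character (zOf N ρ a') := by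
      have h0 : (a : Gam N ρ (Nat.card N)) = (a' : Gam N ρ (Nat.card N)) := by rw [ha']; rfl
      rw [h0, hdec]
      unfold Representation.character
      rw [map_mul, hτincl]
      rfl
    have h2 := hfac (zOf N ρ a')
    rw [hz1] at h2
    have h3 := hatChar_mul_of_pr1_eq_one N ρ _ (zOf N ρ a') 1 hz1
    rw [mul_one] at h3
    have h4 := hfac 1
    rw [map_one] at h4
    have hh1 : hatChar N ρ (Nat.card N) 1 ≠ 0 := by
      rw [hatChar_one]
      exact finrank_ne_zero N ρ
    have hs : scal N ρ (Nat.card N) (zOf N ρ a') ≠ 0 := by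
      intro h0
      rw [h3, h0, zero_mul, mul_zero] at h2
      exact hχ1 h2
    rw [h1, hlam]
    rw [h3] at h2
    rw [h2] at h4
    have h5 : τ.character (zOf N ρ a') * scal N ρ (Nat.card N) (zOf N ρ a') = τ.character 1 := by
      apply mul_right_cancel₀ hh1
      rw [mul_assoc, h4]
    rw [← h5, mul_assoc, mul_inv_cancel₀ hs, mul_one]
  have hq1 : ∀ R1 : Subgroup (Gam N ρ (Nat.card N)), R1.Normal →
      (H.comap (pr1 N ρ (Nat.card N))).normalCore ≤ R1 → Homog τ.character R1 := by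
    intro R1 hR1n hR1
    rw [hcore1] at hR1
    have hRn : (R1.map (pr1 N ρ (Nat.card N))).Normal := hR1n.map _ hsurj
    have hNR : N ≤ R1.map (pr1 N ρ (Nat.card N)) := by
      intro n hn
      refine Subgroup.mem_map.mpr ⟨incl N ρ ⟨n, hn⟩, hR1 ?_, pr1_incl N ρ ⟨n, hn⟩⟩
      rw [Subgroup.mem_comap, pr1_incl]
      exact hn
    obtain ⟨ξ, a, hξ, hresR⟩ := hq (R1.map (pr1 N ρ (Nat.card N))) hRn (by rw [← hNdef]; exact hNR)
    have hR1eq : (R1.map (pr1 N ρ (Nat.card N))).comap (pr1 N ρ (Nat.card N)) = R1 := by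
      rw [Subgroup.comap_map_eq]
      apply sup_eq_left.mpr
      intro x hx
      apply hR1
      rw [Subgroup.mem_comap, MonoidHom.mem_ker.mp hx]
      exact N.one_mem
    obtain ⟨β', m, hβ', hm⟩ := claimA N ρ hsurj τ hτincl χ hχ1 hfac
      (R1.map (pr1 N ρ (Nat.card N))) hNR ξ hξ a hresR
    have h7 : Homog τ.character ((R1.map (pr1 N ρ (Nat.card N))).comap (pr1 N ρ (Nat.card N))) := by
      refine ⟨fun x => β' (QuotientGroup.mk x), m, IsIrrCharacter.comp_mk _ hβ', ?_⟩
      funext x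
      rw [hm x]
      rfl
    rw [hR1eq] at h7
    exact h7
  have hidx : (H.comap (pr1 N ρ (Nat.card N))).normalCore.index = H.normalCore.index := by
    rw [hcore1, Subgroup.index_comap_of_surjective _ hsurj, hNdef]
  apply hD (Gam N ρ (Nat.card N)) τ.character (H.comap (pr1 N ρ (Nat.card N))) β
    ((lamHom N ρ).comp (Subgroup.inclusion hcle)) hχ1irr hH1 (IsIrrCharacter.isCharacter hβirr)
    hindβ hq1 hlin1
  intro m hm
  rw [hidx] at hm
  exact IH m hm

/-- the descent, given the linear step -/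
theorem noBad_of_linStep (hD : LinStep.{u}) : ∀ n, NoBad.{u} n := by
  intro n
  induction n using Nat.strong_induction_on with
  | _ n IH =>
  intro G _ _ _ χ T σ hχ hT hσ hind hq hn
  classical
  obtain ⟨H, hH, hTH⟩ := (eq_top_or_exists_le_coatom T).resolve_left hT
  haveI : Fintype H := Fintype.ofFinite _
  have hφ : Cfsg.IsCharacter (T.subgroupOf H)
      (fun d : T.subgroupOf H => σ ⟨d.1.1, Subgroup.mem_subgroupOf.mp d.2⟩) :=
    IsCharacter.comp ((Subgroup.subgroupOfEquivOfLe hTH).toMonoidHom) hσ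
  have hψ := IsCharacter.indFun (T.subgroupOf H) hφ
  have htrans := indFun_indFun_map H (T.subgroupOf H)
    (fun d : T.subgroupOf H => σ ⟨d.1.1, Subgroup.mem_subgroupOf.mp d.2⟩)
  have hDmap : (T.subgroupOf H).map H.subtype = T := Subgroup.map_subgroupOf_eq_of_le hTH
  have hindH : Cfsg.indFun H (Cfsg.indFun (T.subgroupOf H)
      (fun d : T.subgroupOf H => σ ⟨d.1.1, Subgroup.mem_subgroupOf.mp d.2⟩)) = χ := by
    rw [htrans, ← hind]
    apply indFun_congr hDmap
    intro t ht ht'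
    show σ ⟨((((Subgroup.equivMapOfInjective (T.subgroupOf H) H.subtype
      Subtype.coe_injective).symm ⟨t, ht⟩ : T.subgroupOf H) : H) : G), _⟩ = σ ⟨t, ht'⟩
    congr 1
    apply Subtype.ext
    have h1 := Subgroup.coe_equivMapOfInjective_apply (T.subgroupOf H) H.subtype
      Subtype.coe_injective ((Subgroup.equivMapOfInjective (T.subgroupOf H) H.subtype
      Subtype.coe_injective).symm ⟨t, ht⟩)
    rw [MulEquiv.apply_symm_apply] at h1
    exact h1.symm
  have hcore : T.normalCore ≤ H.normalCore := Subgroup.normalCore_mono hTH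
  have hqH : ∀ R : Subgroup G, R.Normal → H.normalCore ≤ R → Homog χ R :=
    fun R hR h => hq R hR (le_trans hcore h)
  have hle : H.normalCore.index ≤ n := by
    rw [← hn]
    exact Nat.le_of_dvd (Nat.pos_of_ne_zero Subgroup.index_ne_zero_of_finite)
      (Subgroup.index_dvd_of_le hcore)
  exact stepC hD χ H _ hχ hH hψ hindH hqH (fun m hm => IH m (lt_of_lt_of_le hm hle))

end Cfsg.Agent.Lib.Helper3.Bg
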