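import Mathlib
import Cfsg.Agent.Lib.Helper3.Bg5
import Cfsg.Agent.Lib.Helper3.GoingDown2
import Cfsg.Agent.Lib.Helper6.CliffordStab
import Cfsg.Agent.Lib.Helper6.Ito
import Cfsg.Agent.Lib.Helper6.Decomp

/-! S0889 (Berger): further general lemmas for the linear step. -/

set_option autoImplicit false
set_option maxHeartbeats 4000000
set_option maxRecDepth 100000
set_option linter.unusedVariables false
set_option linter.unusedSectionVars false
set_option linter.style.haveILetI false
set_option linter.deprecated false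

namespace Cfsg.Agent.Lib.Helper3.Bg

open Subgroup Cfsg Cfsg.Agent.Lib.Helper6 Module
open scoped ComplexConjugate

universe u

/-- restriction along a homomorphism with the same image stays irreducible -/
theorem isIrreducible_comp_of_range {Γ L : Type*} [Group Γ] [Group L] {V : Type*}
    [AddCommGroup V] [Module ℂ V] (τ : Representation ℂ Γ V) [hτ : τ.IsIrreducible]
    (f : L →* Γ) (h : ∀ γ : Γ, ∃ l : L, τ γ = τ (f l)) :
    Representation.IsIrreducible (MonoidHom.comp τ f : Representation ℂ L V) := by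
  have key : ∀ W : Subrepresentation (MonoidHom.comp τ f : Representation ℂ L V),
      W = ⊥ ∨ W = ⊤ := by
    intro W
    let W' : Subrepresentation τ := ⟨W.toSubmodule, fun γ v hv => by
      obtain ⟨l, hl⟩ := h γ
      rw [hl]
      exact W.apply_mem_toSubmodule l hv⟩
    rcases hτ.eq_bot_or_eq_top W' with h0 | h1
    · left
      apply Subrepresentation.toSubmodule_injective
      have h2 := congrArg Subrepresentation.toSubmodule h0
      rw [toSubmodule_bot] at h2 ⊢
      exact h2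
    · right
      apply Subrepresentation.toSubmodule_injective
      have h2 := congrArg Subrepresentation.toSubmodule h1
      rw [toSubmodule_top] at h2 ⊢
      exact h2
  have hnt : Nontrivial (Subrepresentation (MonoidHom.comp τ f : Representation ℂ L V)) := by
    refine ⟨⟨⊥, ⊤, ?_⟩⟩
    intro hbt
    have h2 := congrArg Subrepresentation.toSubmodule hbt
    rw [toSubmodule_bot, toSubmodule_top] at h2
    have h3 : (⊥ : Subrepresentation τ) = ⊤ := by
      apply Subrepresentation.toSubmodule_injective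
      rw [toSubmodule_bot, toSubmodule_top]
      exact h2
    exact bot_ne_top h3
  exact { toNontrivial := hnt, eq_bot_or_eq_top := key }

/-- an irreducible character vanishing off a subgroup on which it has maximal modulus -/
theorem sq_degree_of_vanish {X : Type*} [Group X] [Fintype X] (A : Subgroup X) {φ : X → ℂ}
    (hφ : Cfsg.IsIrrCharacter X φ) (hvan : ∀ x, x ∉ A → φ x = 0)
    (hnorm : ∀ x ∈ A, ‖φ x‖ = ‖φ 1‖) :
    (Cfsg.charDegree φ) ^ 2 * Nat.card A = Nat.card X := by
  classical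
  have h1 : Cfsg.classInner φ φ = 1 := by rw [classInner_isIrrCharacter hφ hφ, if_pos rfl]
  unfold Cfsg.classInner at h1
  have hX : (Nat.card X : ℂ) ≠ 0 := by exact_mod_cast Nat.card_pos.ne'
  have h2 : (Nat.card X : ℂ) = ∑ g : X, φ g * conj (φ g) := (inv_mul_eq_one₀ hX).mp h1
  have hφ1 := IsCharacter.apply_one_eq_charDegree (IsIrrCharacter.isCharacter hφ)
  have h3 : ∀ g : X, φ g * conj (φ g)
      = if g ∈ A then ((Cfsg.charDegree φ : ℂ)) ^ 2 else 0 := by
    intro g
    by_cases hg : g ∈ A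
    · rw [if_pos hg, Complex.mul_conj', hnorm g hg, hφ1]
      simp
    · rw [if_neg hg, hvan g hg, zero_mul]
  rw [Finset.sum_congr rfl (fun g _ => h3 g), ← Finset.sum_filter, Finset.sum_const,
    nsmul_eq_mul] at h2
  have h4 : (Finset.univ.filter (fun g : X => g ∈ A)).card = Nat.card A := by
    rw [Nat.card_eq_fintype_card, Fintype.card_subtype]
  rw [h4] at h2
  have h5 : ((Cfsg.charDegree φ ^ 2 * Nat.card A : ℕ) : ℂ) = (Nat.card X : ℂ) := by
    rw [h2]
    push_cast
    ring
  exact_mod_cast h5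

/-- homogeneity transported from a subgroup of a subgroup -/
theorem homog_of_subgroupOf {Γ : Type u} [Group Γ] [Finite Γ] (A B : Subgroup Γ) (hAB : A ≤ B)
    (χ : Γ → ℂ) (h : Homog (fun b : B => χ b) (A.subgroupOf B)) : Homog χ A := by
  obtain ⟨ϑ, e, hϑ, hres⟩ := h
  refine ⟨fun a => ϑ ((Subgroup.subgroupOfEquivOfLe hAB).symm a), e,
    IsIrrCharacter.comp_mulEquiv (Subgroup.subgroupOfEquivOfLe hAB).symm hϑ, ?_⟩
  funext a
  have h1 := congrFun hres ((Subgroup.subgroupOfEquivOfLe hAB).symm a)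
  rw [Pi.smul_apply] at h1 ⊢
  rw [← h1]
  rfl

/-- Clifford: a non-homogeneous restriction to a normal subgroup forces induction from a proper
subgroup containing it -/
theorem exists_induced_of_not_homog {X : Type u} [Group X] [Fintype X] (Y : Subgroup X)
    [hY : Y.Normal] {π : X → ℂ} (hπ : Cfsg.IsIrrCharacter X π) (hnh : ¬ Homog π Y) :
    ∃ (T1 : Subgroup X) (σ : T1 → ℂ), T1 ≠ ⊤ ∧ Y ≤ T1 ∧ Cfsg.IsIrrCharacter T1 σ ∧
      Cfsg.indFun T1 σ = π := by
  classical
  haveI : Fintype Y := Fintype.ofFinite _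
  have hπY : Cfsg.IsCharacter Y (fun y : Y => π y) :=
    IsCharacter.restrict Y (IsIrrCharacter.isCharacter hπ)
  have hπY1 : (fun y : Y => π y) 1 ≠ 0 := IsIrrCharacter.apply_one_ne_zero hπ
  obtain ⟨κ, hκ⟩ := IsCharacter.exists_constituent hπY hπY1
  have hle : Y ≤ inertia Y hY (κ : Y → ℂ) :=
    le_inertia Y hY (IsIrrCharacter.isClassFunction κ.2)
  haveI : Fintype (inertia Y hY (κ : Y → ℂ)) := Fintype.ofFinite _
  obtain ⟨σ, hσc, hσ⟩ := exists_indFun_eq_of_stab Y hY (inertia Y hY (κ : Y → ℂ)) hle κ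
    (fun g hg => (mem_inertia Y hY _ g).mpr hg) ⟨π, hπ⟩ hκ
  refine ⟨inertia Y hY (κ : Y → ℂ), (σ : _ → ℂ), ?_, hle, σ.2, hσ⟩
  intro htop
  apply hnh
  have hinv : ∀ g : X, conjFun Y hY (κ : Y → ℂ) g = (κ : Y → ℂ) := by
    intro g
    have hg : g ∈ inertia Y hY (κ : Y → ℂ) := by rw [htop]; exact Subgroup.mem_top g
    exact (mem_inertia Y hY _ g).mp hg
  obtain ⟨e, he, _⟩ := Cfsg.Agent.Lib.Helper3.GoingDown.exists_nat_smul_of_invariant Y hY hπ κ.2
    hinv hκ
  exact ⟨(κ : Y → ℂ), e, κ.2, he⟩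

/-- D1: in the linear situation the maximal subgroup is not normal -/
theorem not_le_core {G : Type*} [Group G] [Fintype G] {χ : G → ℂ} (hχ : Cfsg.IsIrrCharacter G χ)
    (H : Subgroup G) (hH : H ≠ ⊤) (ψ : H → ℂ) (hψ : Cfsg.IsCharacter H ψ)
    (hind : Cfsg.indFun H ψ = χ) (lam : H.normalCore →* ℂˣ)
    (hlin : ∀ n : H.normalCore, χ n = χ 1 * lam n) : ¬ H ≤ H.normalCore := by
  classical
  intro hle
  have hHn : ∀ (g x : G), x⁻¹ * g * x ∈ H → g ∈ H := by
    intro g x hx
    have h1 : x⁻¹ * g * x ∈ H.normalCore := hle hx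
    have h2 := (Subgroup.normalCore_normal H).conj_mem _ h1 x
    have h3 : x * (x⁻¹ * g * x) * x⁻¹ = g := by group
    rw [h3] at h2
    exact Subgroup.normalCore_le H h2
  have hvan : ∀ g, g ∉ H → χ g = 0 := by
    intro g hg
    rw [← hind]
    exact Cfsg.Agent.Lib.Helper6.IndFunMore.indFun_eq_zero_of_not_conj H ψ g
      (fun x hx => hg (hHn g x hx))
  have hχ1 : χ 1 ≠ 0 := IsIrrCharacter.apply_one_ne_zero hχ
  have hnorm : ∀ g ∈ H, ‖χ g‖ = ‖χ 1‖ := by
    intro g hg
    have h1 := hlin ⟨g, hle hg⟩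
    have h2 : ‖((lam ⟨g, hle hg⟩ : ℂˣ) : ℂ)‖ = 1 := by
      have e2 : (lam ⟨g, hle hg⟩) ^ (Nat.card H.normalCore) = 1 := by
        rw [← map_pow, pow_card_eq_one', map_one]
      have e3 : (((lam ⟨g, hle hg⟩ : ℂˣ) : ℂ)) ^ (Nat.card H.normalCore) = 1 := by
        rw [← Units.val_pow_eq_pow_val, e2, Units.val_one]
      exact Complex.norm_eq_one_of_pow_eq_one e3 Nat.card_pos.ne'
    have h3 : χ g = χ 1 * ((lam ⟨g, hle hg⟩ : ℂˣ) : ℂ) := h1
    rw [h3, norm_mul, h2, mul_one]
  have h1 := sq_degree_of_vanish H hχ hvan hnorm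
  have h2 := Subgroup.card_mul_index H
  have hψ1 := IsCharacter.apply_one_eq_charDegree hψ
  have hχ1' := IsCharacter.apply_one_eq_charDegree (IsIrrCharacter.isCharacter hχ)
  have h3 : χ 1 = (H.index : ℂ) * ψ 1 := by rw [← hind]; exact indFun_one H ψ
  rw [hψ1, hχ1'] at h3
  have h4 : Cfsg.charDegree χ = H.index * Cfsg.charDegree ψ := by exact_mod_cast h3
  have hcard : 0 < Nat.card H := Nat.card_pos
  have h5 : (H.index * Cfsg.charDegree ψ) ^ 2 = H.index := by
    have h6 : (H.index * Cfsg.charDegree ψ) ^ 2 * Nat.card H = H.index * Nat.card H := by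
      rw [← h4, h1, ← h2, mul_comm]
    exact Nat.eq_of_mul_eq_mul_right hcard h6
  have hidx : H.index ≠ 0 := Subgroup.index_ne_zero_of_finite
  have hidx1 : H.index ≠ 1 := fun h => hH (Subgroup.index_eq_one.mp h)
  have hdeg : Cfsg.charDegree ψ ≠ 0 := by
    intro h0
    rw [h0, mul_zero] at h4
    rw [hχ1', h4] at hχ1
    exact hχ1 (by simp)
  have h7 : H.index * (H.index * (Cfsg.charDegree ψ) ^ 2) = H.index * 1 := by
    rw [mul_one]
    nlinarith [h5]
  have h8 := Nat.eq_of_mul_eq_mul_left (Nat.pos_of_ne_zero hidx) h7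
  have h9 : H.index = 1 := Nat.eq_one_of_mul_eq_one_right h8
  exact hidx1 h9

end Cfsg.Agent.Lib.Helper3.Bg
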