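import Mathlib
import Cfsg.Agent.Lib.Helper6.ProdChar

set_option autoImplicit false
set_option linter.unusedSectionVars false

namespace Cfsg.Agent.Lib.Helper3.GlauCyc

open Cfsg Cfsg.Agent.Lib.Helper6 Module
open scoped ComplexConjugate

section arith

/-- the arithmetic heart of the fixed point free case -/
theorem arith_lemma {Λ : Type*} [Fintype Λ] [DecidableEq Λ] (n : ℤ)
    (hn : (Fintype.card Λ : ℤ) = n) (z k : Λ → ℤ) (m w : ℤ)
    (hz : ∀ l, z l = n * k l - m) (hsum : ∑ l, z l = 0) (hsq : ∑ l, z l ^ 2 = n * w)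
    (hw1 : 1 ≤ w) (hw2 : w ≤ n - 1) :
    ∃ ε : ℤ, (ε = 1 ∨ ε = -1) ∧ ∃ l₀, z l₀ = ε * (n - 1) ∧ ∀ l, l ≠ l₀ → z l = -ε := by
  have hn2 : 2 ≤ n := by omega
  have hn0 : 0 < n := by omega
  set r : ℤ := (-m) % n with hr
  have hr0 : 0 ≤ r := Int.emod_nonneg _ (by omega)
  have hrn : r < n := Int.emod_lt_of_pos _ hn0
  -- each z is bounded
  have hbound : ∀ l, z l ^ 2 < n ^ 2 := by
    intro l
    have h1 : z l ^ 2 ≤ ∑ l', z l' ^ 2 :=
      Finset.single_le_sum (f := fun l' => z l' ^ 2) (fun i _ => sq_nonneg _) (Finset.mem_univ l)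
    rw [hsq] at h1
    nlinarith
  have hcases : ∀ l, z l = r ∨ z l = r - n := by
    intro l
    have h1 : (z l - r) % n = 0 := by
      rw [hz l, hr]
      have : (n * k l - m - (-m) % n) = n * k l + ((-m) - (-m) % n) - 0 := by ring
      rw [this, sub_zero]
      have h2 : n ∣ (-m) - (-m) % n := Int.dvd_self_sub_emod
      have h3 : n ∣ n * k l + ((-m) - (-m) % n) := Dvd.dvd.add (Dvd.intro _ rfl) h2
      exact Int.emod_eq_zero_of_dvd h3
    obtain ⟨t, ht⟩ := Int.dvd_of_emod_eq_zero h1
    have hb := hbound l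
    have hzl : z l = r + n * t := by linarith
    have habs : -n < z l ∧ z l < n := by
      constructor <;> nlinarith
    have ht1 : t ≤ 0 := by
      by_contra hc
      push Not at hc
      have : n * 1 ≤ n * t := by
        apply mul_le_mul_of_nonneg_left _ hn0.le
        omega
      omega
    have ht2 : -1 ≤ t := by
      by_contra hc
      push Not at hc
      have : n * t ≤ n * (-2) := by
        apply mul_le_mul_of_nonneg_left _ hn0.le
        omega
      omega
    have ht3 : t = 0 ∨ t = -1 := by omega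
    rcases ht3 with h | h
    · left; rw [hzl, h]; ring
    · right; rw [hzl, h]; ring
  set T : Finset Λ := Finset.univ.filter (fun l => z l = r - n) with hT
  have hzT : ∀ l, z l = r - n * (if z l = r - n then 1 else 0) := by
    intro l
    rcases hcases l with h | h
    · have : ¬ z l = r - n := by rw [h]; omega
      rw [if_neg this]; rw [h]; ring
    · rw [if_pos h, h]; ring
  have hb : (T.card : ℤ) = r := by
    have h1 : ∑ l, z l = ∑ l, (r - n * (if z l = r - n then 1 else 0)) :=
      Finset.sum_congr rfl (fun l _ => hzT l)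
    rw [Finset.sum_sub_distrib, Finset.sum_const, Finset.card_univ, ← Finset.mul_sum,
      Finset.sum_boole, hsum] at h1
    rw [nsmul_eq_mul, hn] at h1
    have h2 : n * (r - (T.card : ℤ)) = 0 := by
      rw [hT]; linarith
    have h3 : r - (T.card : ℤ) = 0 := by
      rcases mul_eq_zero.mp h2 with h | h
      · omega
      · exact h
    omega
  have hw : w = r * (n - r) := by
    have hsq2 : ∀ l, z l ^ 2 = r ^ 2 - (2 * r * n - n ^ 2) * (if z l = r - n then 1 else 0) := by
      intro l
      rcases hcases l with h | h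
      · have : ¬ z l = r - n := by rw [h]; omega
        rw [if_neg this, h]; ring
      · rw [if_pos h, h]; ring
    have h1 : ∑ l, z l ^ 2 = ∑ l, (r ^ 2 - (2 * r * n - n ^ 2) * (if z l = r - n then 1 else 0)) :=
      Finset.sum_congr rfl (fun l _ => hsq2 l)
    rw [Finset.sum_sub_distrib, Finset.sum_const, Finset.card_univ, ← Finset.mul_sum,
      Finset.sum_boole, hsq] at h1
    rw [nsmul_eq_mul, hn] at h1
    have h2 : (((Finset.univ.filter (fun l => z l = r - n)).card : ℕ) : ℤ) = r := hb
    rw [h2] at h1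
    have h3 : n * w = n * (r * (n - r)) := by rw [h1]; ring
    exact mul_left_cancel₀ hn0.ne' h3
  have hr1 : 1 ≤ r := by
    by_contra hc
    have : r = 0 := by omega
    rw [this] at hw
    omega
  have hprod : (r - 1) * (n - 1 - r) ≤ 0 := by
    have : (r - 1) * (n - 1 - r) = r * (n - r) - (n - 1) := by ring
    rw [this, ← hw]; omega
  have hcase2 : r = 1 ∨ r = n - 1 := by
    by_contra hc
    push Not at hc
    have h1 : 0 < r - 1 := by omega
    have h2 : 0 < n - 1 - r := by omega
    have := mul_pos h1 h2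
    omega
  rcases hcase2 with h | h
  · -- r = 1 : one character with value 1 - n
    refine ⟨-1, Or.inr rfl, ?_⟩
    have hc1 : T.card = 1 := by
      have : (T.card : ℤ) = 1 := by rw [hb, h]
      exact_mod_cast this
    obtain ⟨l₀, hl₀⟩ := Finset.card_eq_one.mp hc1
    refine ⟨l₀, ?_, ?_⟩
    · have : l₀ ∈ T := by rw [hl₀]; exact Finset.mem_singleton_self _
      rw [hT, Finset.mem_filter] at this
      rw [this.2, h]; ring
    · intro l hl
      have : l ∉ T := by
        rw [hl₀, Finset.mem_singleton]; exact hl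
      rw [hT, Finset.mem_filter] at this
      rcases hcases l with h' | h'
      · rw [h', h]; ring
      · exact absurd ⟨Finset.mem_univ _, h'⟩ this
  · -- r = n - 1 : one character with value n - 1
    refine ⟨1, Or.inl rfl, ?_⟩
    have hc1 : Tᶜ.card = 1 := by
      have h1 : (Tᶜ.card : ℤ) = 1 := by
        rw [Finset.card_compl]
        have : T.card ≤ Fintype.card Λ := Finset.card_le_univ _
        push_cast [Nat.cast_sub this]
        rw [hn, hb, h]; ring
      exact_mod_cast h1
    obtain ⟨l₀, hl₀⟩ := Finset.card_eq_one.mp hc1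
    refine ⟨l₀, ?_, ?_⟩
    · have : l₀ ∈ Tᶜ := by rw [hl₀]; exact Finset.mem_singleton_self _
      rw [Finset.mem_compl, hT, Finset.mem_filter] at this
      rcases hcases l₀ with h' | h'
      · rw [h', h]; ring
      · exact absurd ⟨Finset.mem_univ _, h'⟩ this
    · intro l hl
      have : l ∉ Tᶜ := by
        rw [hl₀, Finset.mem_singleton]; exact hl
      rw [Finset.mem_compl, not_not, hT, Finset.mem_filter] at this
      rw [this.2, h]; ring

end arith

section pairing

variable {C S : Type*} [Group C] [Group S] [Fintype C] [Fintype S]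

theorem classInner_prodFun_slice (F : C → S → ℂ) (β : C → ℂ) (l : S → ℂ) :
    Cfsg.classInner (fun p : C × S => F p.1 p.2) (prodFun β l)
      = (Nat.card S : ℂ)⁻¹ * ∑ x : S, conj (l x) * Cfsg.classInner (fun c => F c x) β := by
  unfold Cfsg.classInner prodFun
  rw [Nat.card_prod, Fintype.sum_prod_type, Finset.sum_comm]
  push_cast
  rw [mul_inv, Finset.mul_sum, Finset.mul_sum]
  apply Finset.sum_congr rfl
  intro x _
  rw [Finset.mul_sum, Finset.mul_sum, Finset.mul_sum, Finset.mul_sum]
  apply Finset.sum_congr rfl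
  intro c _
  rw [map_mul]
  ring

theorem classInner_prodFun_slice' (F : C → S → ℂ) (β : C → ℂ) (l : S → ℂ) :
    Cfsg.classInner (fun p : C × S => F p.1 p.2) (prodFun β l)
      = Cfsg.classInner (fun c => (Nat.card S : ℂ)⁻¹ * ∑ x : S, F c x * conj (l x)) β := by
  unfold Cfsg.classInner prodFun
  rw [Nat.card_prod, Fintype.sum_prod_type]
  push_cast
  rw [mul_inv, mul_assoc]
  congr 1
  rw [Finset.mul_sum]
  apply Finset.sum_congr rfl
  intro c _
  rw [Finset.mul_sum, mul_assoc, Finset.sum_mul, Finset.mul_sum]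
  apply Finset.sum_congr rfl
  intro x _
  rw [map_mul]
  ring

end pairing

end Cfsg.Agent.Lib.Helper3.GlauCyc
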