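import Mathlib
import Cfsg.Agent.Lib.Helper3.GlauCyc10
import Cfsg.Agent.Lib.Helper3.GlauCyc11
import Cfsg.Agent.Lib.Helper3.GlauCyc12
import Cfsg.Agent.Lib.Helper6.CharOps
import Cfsg.Agent.Lib.Helper6.ProdChar
import Cfsg.Agent.Lib.Helper6.Linear

set_option autoImplicit false
set_option linter.unusedSectionVars false

namespace Cfsg.Agent.Lib.Helper3.GlauCyc

open Cfsg Cfsg.Agent.Lib.Helper6 Module
open scoped ComplexConjugate

universe u

section fpf

variable {Γ : Type u} [Group Γ] [Fintype Γ] (G S : Subgroup Γ) [Fintype G] [Fintype (fixC G S)]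

theorem exists_generator_coe (hcyc : IsCyclic S) : ∃ s₀ : S, Subgroup.zpowers (s₀ : Γ) = S := by
  obtain ⟨g, hg⟩ := hcyc.exists_generator
  refine ⟨g, ?_⟩
  ext x
  constructor
  · intro hx
    obtain ⟨k, rfl⟩ := Subgroup.mem_zpowers_iff.mp hx
    exact S.zpow_mem g.2 k
  · intro hx
    obtain ⟨k, hk⟩ := Subgroup.mem_zpowers_iff.mp (hg ⟨x, hx⟩)
    rw [Subgroup.mem_zpowers_iff]
    refine ⟨k, ?_⟩
    have := congrArg Subtype.val hk
    simpa using this

/-- the fixed point free case: all the non-identity elements of `S` have the same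
correspondent -/
theorem fpf_main (hnorm : ∀ s ∈ S, ∀ g ∈ G, s * g * s⁻¹ ∈ G)
    (hcop : (Nat.card G).Coprime (Nat.card S)) (htop : G ⊔ S = ⊤) (hcyc : IsCyclic S)
    (hfpf : ∀ x ∈ S, x ≠ 1 → G ⊓ Subgroup.centralizer ({x} : Set Γ) = fixC G S)
    {χh : Γ → ℂ} (hχh : Cfsg.IsIrrCharacter Γ χh)
    (hχ : Cfsg.IsIrrCharacter G (fun g : G => χh g))
    (hdet : (Cfsg.detOrder χh).Coprime (Nat.card S))
    (β : Cfsg.IrrCharacter (fixC G S)) (ε₀ : ℤ) (hε₀ : ε₀ = 1 ∨ ε₀ = -1)
    (hβ : ∀ c : fixC G S, ∀ s : Γ, Subgroup.zpowers s = S →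
      χh ((c : Γ) * s) = (ε₀ : ℂ) * (β : fixC G S → ℂ) c)
    (hn2 : 2 ≤ Nat.card S) :
    ∃ ε : ℤ, (ε = 1 ∨ ε = -1) ∧ ∃ μ : S → ℂ, Cfsg.IsCharacter S μ ∧ μ 1 = 1 ∧
      (∀ x : S, μ x * μ x = 1) ∧
      (∀ c : fixC G S, ∀ x : S, x ≠ 1 →
        χh ((c : Γ) * x) = (ε : ℂ) * (β : fixC G S → ℂ) c * μ x) ∧
      ∃ ϑ : fixC G S → ℂ, Cfsg.IsCharacter (fixC G S) ϑ ∧
        ∀ c : fixC G S, χh (c : Γ) = (Nat.card S : ℂ) * ϑ c + (ε : ℂ) * (β : fixC G S → ℂ) c := by
  classical
  have hG : G.Normal := normal_of_sup G S hnorm htop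
  have : Fintype S := Fintype.ofFinite S
  have : Fintype (Cfsg.IrrCharacter S) := Fintype.ofFinite _
  have hn0 : (Nat.card S : ℂ) ≠ 0 := by
    have : 0 < Nat.card S := Nat.card_pos
    exact_mod_cast this.ne'
  have hA : ∀ x y : S, x * y = y * x := by
    have := hcyc
    exact fun x y => IsCyclic.commGroup.mul_comm x y
  -- Step A : the correspondents of the elements
  have hA1 : ∀ x : S, x ≠ 1 → ∃ (β' : Cfsg.IrrCharacter (fixC G S)) (e : ℤ), (e = 1 ∨ e = -1) ∧
      ∀ c : fixC G S, χh ((c : Γ) * x) = (e : ℂ) * (β' : fixC G S → ℂ) c := by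
    intro x hx
    have hx1 : (x : Γ) ≠ 1 := fun h => hx (Subtype.ext h)
    have hord : orderOf (x : Γ) ∣ Nat.card S := by
      rw [Subgroup.orderOf_coe]
      exact orderOf_dvd_natCard x
    exact exists_correspondent_elt G (x : Γ) (hcop.coprime_dvd_right hord) (fixC G S)
      (hfpf x x.2 hx1).symm hχh hχ (hdet.coprime_dvd_right hord)
  have : Nonempty (Cfsg.IrrCharacter (fixC G S)) := ⟨β⟩
  choose! B E hBE using hA1
  have hpair : ∀ x : S, x ≠ 1 →
      Cfsg.classInner (fun c : fixC G S => χh ((c : Γ) * x)) (β : fixC G S → ℂ)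
        = ((if B x = β then E x else 0 : ℤ) : ℂ) := by
    intro x hx
    have h1 : (fun c : fixC G S => χh ((c : Γ) * x)) = (E x : ℂ) • (B x : fixC G S → ℂ) := by
      funext c
      rw [(hBE x hx).2 c]
      rfl
    rw [h1, classInner_smul_left, classInner_irrCharacter]
    split_ifs <;> simp
  let D : S → ℤ := fun x => if x = 1 then 0 else if B x = β then E x else 0
  have hD1 : D 1 = 0 := if_pos rfl
  have hDval : ∀ x, D x = 0 ∨ D x = 1 ∨ D x = -1 := by
    intro x
    simp only [D]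
    split_ifs with h1 h2
    · left; rfl
    · right; exact (hBE x h1).1
    · left; rfl
  have hξ : Cfsg.IsCharacter ((fixC G S) × S) (fun p => χh (mulHom G S p)) :=
    IsCharacter.comp (mulHom G S) (IsIrrCharacter.isCharacter hχh)
  have hk : ∀ (β' : Cfsg.IrrCharacter (fixC G S)) (l : Cfsg.IrrCharacter S), ∃ k : ℕ,
      Cfsg.classInner (fun p => χh (mulHom G S p)) (prodFun (β' : fixC G S → ℂ) (l : S → ℂ)) = k :=
    fun β' l => IsCharacter.classInner_irr_nat hξ (IsIrrCharacter.prodFun β'.2 l.2)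
  choose k hk using hk
  obtain ⟨m, hm⟩ := IsCharacter.classInner_irr_nat
    (IsCharacter.restrict (fixC G S) (IsIrrCharacter.isCharacter hχh)) β.2
  have hkey : ∀ l : Cfsg.IrrCharacter S, (Nat.card S : ℂ) * k β l = m + ft D l := by
    intro l
    have h1 := classInner_prodFun_slice (fun (c : fixC G S) (x : S) => χh ((c : Γ) * x))
      (β : fixC G S → ℂ) (l : S → ℂ)
    have h2 : Cfsg.classInner (fun p : fixC G S × S => χh (mulHom G S p))
        (prodFun (β : fixC G S → ℂ) (l : S → ℂ)) = _ := h1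
    rw [hk] at h2
    rw [h2, ← mul_assoc, mul_inv_cancel₀ hn0, one_mul]
    have h3 : ∀ x : S, conj ((l : S → ℂ) x) *
        Cfsg.classInner (fun c : fixC G S => χh ((c : Γ) * x)) (β : fixC G S → ℂ)
        = (if x = 1 then (m : ℂ) else 0) + (D x : ℂ) * conj ((l : S → ℂ) x) := by
      intro x
      by_cases hx : x = 1
      · rw [if_pos hx, hx, hD1, irr_apply_one_of_abelian hA l]
        have : (fun c : fixC G S => χh ((c : Γ) * ((1 : S) : Γ))) = fun c : fixC G S => χh (c : Γ) := by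
          funext c
          rw [Subgroup.coe_one, mul_one]
        rw [this, hm]
        simp
      · rw [if_neg hx, hpair x hx]
        simp only [D, if_neg hx]
        ring
    simp_rw [h3]
    rw [Finset.sum_add_distrib, Finset.sum_ite_eq', if_pos (Finset.mem_univ _)]
    rfl
  let z : Cfsg.IrrCharacter S → ℤ := fun l => (Nat.card S : ℤ) * k β l - m
  have hzft : ∀ l, (z l : ℂ) = ft D l := by
    intro l
    simp only [z]
    push_cast
    rw [hkey l]
    ring
  have hsum : ∑ l, z l = 0 := by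
    have h1 := sum_ft hA D
    rw [hD1] at h1
    have h2 : ((∑ l, z l : ℤ) : ℂ) = 0 := by
      push_cast
      simp_rw [hzft]
      rw [h1]
      simp
    exact_mod_cast h2
  let w : ℤ := ∑ x, D x ^ 2
  have hsq : ∑ l, z l ^ 2 = (Nat.card S : ℤ) * w := by
    have h := sum_ft_mul_conj hA D
    have h1 : ∀ l, ft D l * conj (ft D l) = ((z l ^ 2 : ℤ) : ℂ) := by
      intro l
      rw [← hzft l, map_intCast]
      push_cast
      ring
    simp_rw [h1] at h
    have h2 : ((∑ l, z l ^ 2 : ℤ) : ℂ) = (((Nat.card S : ℤ) * w : ℤ) : ℂ) := by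
      simp only [w]
      push_cast
      push_cast at h
      exact h
    exact_mod_cast h2
  -- a generator
  obtain ⟨s₀, hs₀⟩ := exists_generator_coe S hcyc
  have hs₀1 : s₀ ≠ 1 := by
    intro h
    rw [h, Subgroup.coe_one, Subgroup.zpowers_one_eq_bot] at hs₀
    rw [← hs₀] at hn2
    simp at hn2
  have hDs₀ : D s₀ = ε₀ := by
    have h1 := hpair s₀ hs₀1
    have h2 : (fun c : fixC G S => χh ((c : Γ) * s₀)) = (ε₀ : ℂ) • (β : fixC G S → ℂ) := by
      funext c
      rw [hβ c s₀ hs₀]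
      rfl
    rw [h2, classInner_smul_left, classInner_irrCharacter, if_pos rfl, mul_one] at h1
    simp only [D, if_neg hs₀1]
    exact_mod_cast h1.symm
  have hw1 : 1 ≤ w := by
    have h1 : D s₀ ^ 2 ≤ w :=
      Finset.single_le_sum (f := fun x => D x ^ 2) (fun i _ => sq_nonneg _) (Finset.mem_univ s₀)
    have h2 : D s₀ ^ 2 = 1 := by
      rw [hDs₀]
      rcases hε₀ with h | h <;> rw [h] <;> norm_num
    omega
  have hw2 : w ≤ (Nat.card S : ℤ) - 1 := by
    have h1 : w = D 1 ^ 2 + ∑ x ∈ Finset.univ.erase (1 : S), D x ^ 2 :=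
      (Finset.add_sum_erase Finset.univ (fun x => D x ^ 2) (Finset.mem_univ 1)).symm
    have h2 : ∑ x ∈ Finset.univ.erase (1 : S), D x ^ 2 ≤ ∑ x ∈ Finset.univ.erase (1 : S), (1 : ℤ) := by
      apply Finset.sum_le_sum
      intro x _
      rcases hDval x with h | h | h <;> rw [h] <;> norm_num
    rw [Finset.sum_const, Finset.card_erase_of_mem (Finset.mem_univ _), Finset.card_univ,
      ← Nat.card_eq_fintype_card] at h2
    rw [h1, hD1]
    have h3 : 1 ≤ Nat.card S := Nat.card_pos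
    simp only [nsmul_eq_mul, mul_one] at h2
    push_cast [Nat.cast_sub h3] at h2
    linarith
  have hcard : (Fintype.card (Cfsg.IrrCharacter S) : ℤ) = (Nat.card S : ℤ) := by
    rw [card_irr_of_abelian hA]
  obtain ⟨ε, hε, l₀, hl₀, hl⟩ := arith_lemma (Nat.card S : ℤ) hcard z (fun l => (k β l : ℤ)) m w
    (fun l => rfl) hsum hsq hw1 hw2
  have hεε : (ε : ℂ) * ε = 1 := by
    rcases hε with h | h <;> rw [h] <;> norm_num
  -- Fourier inversion
  have hinv : ∀ y : S, y ≠ 1 → (D y : ℂ) = (ε : ℂ) * (l₀ : S → ℂ) y := by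
    intro y hy
    have h1 := sum_ft_mul hA D y
    have h2 : ∀ l : Cfsg.IrrCharacter S, ft D l * (l : S → ℂ) y
        = -(ε : ℂ) * ((l : S → ℂ) y * conj ((l : S → ℂ) 1))
          + (if l = l₀ then (ε : ℂ) * (Nat.card S : ℂ) * (l₀ : S → ℂ) y else 0) := by
      intro l
      rw [← hzft l, irr_apply_one_of_abelian hA l, map_one, mul_one]
      by_cases h : l = l₀
      · rw [if_pos h, h, hl₀]
        push_cast
        ring
      · rw [if_neg h, hl l h]
        push_cast
        ring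
    simp_rw [h2] at h1
    rw [Finset.sum_add_distrib, ← Finset.mul_sum, sum_irr_mul_conj_abelian hA y 1, if_neg hy,
      mul_zero, zero_add, Finset.sum_ite_eq', if_pos (Finset.mem_univ _)] at h1
    have h3 : (Nat.card S : ℂ) * ((ε : ℂ) * (l₀ : S → ℂ) y) = (Nat.card S : ℂ) * (D y : ℂ) := by
      rw [← h1]; ring
    exact (mul_left_cancel₀ hn0 h3).symm
  have hl₀1 : (l₀ : S → ℂ) 1 = 1 := irr_apply_one_of_abelian hA l₀
  have hmul := IsCharacter.mul_of_apply_one_eq_one (IsIrrCharacter.isCharacter l₀.2) hl₀1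
  have hl₀ne : ∀ y : S, (l₀ : S → ℂ) y ≠ 0 := by
    intro y h
    have := hmul y y⁻¹
    rw [mul_inv_cancel, hl₀1, h, zero_mul] at this
    exact one_ne_zero this
  have hBy : ∀ y : S, y ≠ 1 → B y = β ∧ (E y : ℂ) = (ε : ℂ) * (l₀ : S → ℂ) y := by
    intro y hy
    have h1 := hinv y hy
    have h2 : D y ≠ 0 := by
      intro h
      rw [h, Int.cast_zero] at h1
      rcases mul_eq_zero.mp h1.symm with h' | h'
      · rw [h', zero_mul] at hεε
        exact zero_ne_one hεε
      · exact hl₀ne y h'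
    simp only [D, if_neg hy] at h2 h1
    by_cases h3 : B y = β
    · rw [if_pos h3] at h1
      exact ⟨h3, h1⟩
    · rw [if_neg h3] at h2
      exact absurd rfl h2
  have hE2 : ∀ y : S, y ≠ 1 → (E y : ℂ) * (E y : ℂ) = 1 := by
    intro y hy
    rcases (hBE y hy).1 with h | h <;> rw [h] <;> norm_num
  have ha : ∀ c : fixC G S, ∀ x : S, x ≠ 1 →
      χh ((c : Γ) * x) = (ε : ℂ) * (β : fixC G S → ℂ) c * (l₀ : S → ℂ) x := by
    intro c x hx
    rw [(hBE x hx).2 c, (hBy x hx).1, (hBy x hx).2]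
    ring
  refine ⟨ε, hε, (l₀ : S → ℂ), IsIrrCharacter.isCharacter l₀.2, hl₀1, ?_, ha, ?_⟩
  · intro x
    by_cases hx : x = 1
    · rw [hx, hl₀1, mul_one]
    · have h1 : (l₀ : S → ℂ) x = (ε : ℂ) * (E x : ℂ) := by
        rw [(hBy x hx).2, ← mul_assoc, hεε, one_mul]
      rw [h1]
      calc (ε : ℂ) * (E x : ℂ) * ((ε : ℂ) * (E x : ℂ))
          = ((ε : ℂ) * ε) * ((E x : ℂ) * (E x : ℂ)) := by ring
        _ = 1 := by rw [hεε, hE2 x hx, mul_one]
  · -- the character ϑ
    have hexl : ∃ l₁ : Cfsg.IrrCharacter S, l₁ ≠ l₀ := by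
      have h1 : 1 < Fintype.card (Cfsg.IrrCharacter S) := by
        rw [card_irr_of_abelian hA]; omega
      exact Fintype.exists_ne_of_one_lt_card h1 l₀
    obtain ⟨l₁, hl₁⟩ := hexl
    have hl₁1 : (l₁ : S → ℂ) 1 = 1 := irr_apply_one_of_abelian hA l₁
    have horth : ∑ x : S, (l₀ : S → ℂ) x * conj ((l₁ : S → ℂ) x) = 0 := by
      have h1 := classInner_irrCharacter l₀ l₁
      rw [if_neg (fun h => hl₁ h.symm)] at h1
      unfold Cfsg.classInner at h1
      rcases mul_eq_zero.mp h1 with h | h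
      · exact absurd (inv_eq_zero.mp h) hn0
      · exact h
    have hslice : ∀ c : fixC G S, ∑ x : S, χh ((c : Γ) * x) * conj ((l₁ : S → ℂ) x)
        = χh (c : Γ) - (ε : ℂ) * (β : fixC G S → ℂ) c := by
      intro c
      have h1 : ∀ x : S, χh ((c : Γ) * x) * conj ((l₁ : S → ℂ) x)
          = (if x = 1 then χh (c : Γ) - (ε : ℂ) * (β : fixC G S → ℂ) c else 0)
            + (ε : ℂ) * (β : fixC G S → ℂ) c * ((l₀ : S → ℂ) x * conj ((l₁ : S → ℂ) x)) := by
        intro x
        by_cases hx : x = 1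
        · rw [if_pos hx, hx, hl₁1, hl₀1, Subgroup.coe_one, mul_one, map_one]
          ring
        · rw [if_neg hx, ha c x hx]
          ring
      simp_rw [h1]
      rw [Finset.sum_add_distrib, Finset.sum_ite_eq', if_pos (Finset.mem_univ _), ← Finset.mul_sum,
        horth, mul_zero, add_zero]
    refine ⟨fun c => (Nat.card S : ℂ)⁻¹ * ∑ x : S, χh ((c : Γ) * x) * conj ((l₁ : S → ℂ) x), ?_, ?_⟩
    · apply isCharacter_of_classInner_nat
      · have hcf1 := IsCharacter.isClassFunction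
          (IsCharacter.restrict (fixC G S) (IsIrrCharacter.isCharacter hχh))
        have hcf2 := IsIrrCharacter.isClassFunction β.2
        intro g h
        simp only [hslice]
        have h1 : χh ((h * g * h⁻¹ : fixC G S) : Γ) = χh (g : Γ) := hcf1 g h
        rw [h1, hcf2 g h]
      · intro β'
        refine ⟨k β' l₁, ?_⟩
        rw [← hk β' l₁]
        exact (classInner_prodFun_slice' (fun (c : fixC G S) (x : S) => χh ((c : Γ) * x))
          (β' : fixC G S → ℂ) (l₁ : S → ℂ)).symm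
    · intro c
      simp only [hslice]
      rw [← mul_assoc, mul_inv_cancel₀ hn0, one_mul]
      ring

end fpf

end Cfsg.Agent.Lib.Helper3.GlauCyc
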