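import Mathlib
import Cfsg.Agent.Lib.Helper3.GlauCyc13
import Cfsg.Agent.Lib.Helper6.CharBasic
import Cfsg.Agent.Lib.Helper6.Constituent
import Cfsg.Agent.Lib.Helper6.Mult
import Cfsg.Agent.Lib.Helper6.IrrBasis
import Cfsg.Agent.S4446
import Cfsg.Agent.S4451

set_option autoImplicit false

namespace Cfsg.Agent.Lib.Helper3.XT

open Cfsg Cfsg.Agent.Lib.Helper6 Cfsg.Agent.Lib.Helper3.GlauCyc Module
open scoped ComplexConjugate

/-- an element where an irreducible character has maximal absolute value acts as a scalar, so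
all its commutators lie in the kernel -/
theorem apply_comm_of_norm_eq {G : Type*} [Group G] [Finite G] {χ : G → ℂ}
    (hχ : IsCharacter G χ) {x : G} (hx : ‖χ x‖ = ‖χ 1‖) (g : G) :
    χ (g * x * g⁻¹ * x⁻¹) = χ 1 := by
  obtain ⟨n, ρ, rfl⟩ := hχ
  have h1 : ρ.character 1 = (Module.finrank ℂ (Fin n → ℂ) : ℂ) := Representation.char_one ρ
  have hx' : ‖ρ.character x‖ = (Module.finrank ℂ (Fin n → ℂ) : ℝ) := by
    rw [hx, h1]; simp
  obtain ⟨ω, hω⟩ := (norm_character_eq_iff ρ x).mp hx'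
  have hk : ρ (g * x * g⁻¹ * x⁻¹) = LinearMap.id := by
    have hcomm : ρ g * ρ x = ρ x * ρ g := by
      rw [hω]
      ext v
      simp
    have : ρ (g * x * g⁻¹ * x⁻¹) = ρ (x * g * g⁻¹ * x⁻¹) := by
      rw [map_mul, map_mul, map_mul, hcomm, ← map_mul, ← map_mul, ← map_mul]
    rw [this]
    have : x * g * g⁻¹ * x⁻¹ = 1 := by group
    rw [this, map_one]; rfl
  rw [h1]
  exact (character_eq_finrank_iff ρ (g * x * g⁻¹ * x⁻¹)).mpr hk

section core

variable {Γ : Type*} [Group Γ] [Fintype Γ] (G S : Subgroup Γ)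

/-- the core lemma: an invariant irreducible character of small degree is centralized -/
theorem core_abstract
    (hnorm : ∀ s ∈ S, ∀ g ∈ G, s * g * s⁻¹ ∈ G)
    (hcop : (Nat.card G).Coprime (Nat.card S)) (htop : G ⊔ S = ⊤) (hcyc : IsCyclic S)
    (hfpf : ∀ x ∈ S, x ≠ 1 → G ⊓ Subgroup.centralizer ({x} : Set Γ)
      = G ⊓ Subgroup.centralizer (S : Set Γ))
    {φ : G → ℂ} (hφ : IsIrrCharacter G φ)
    (hinv : ∀ s ∈ S, ∀ g g' : G, (g' : Γ) = s * g * s⁻¹ → φ g' = φ g)
    (hnum : charDegree φ + 2 ≤ Nat.card S) :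
    ∀ x ∈ S, ∀ g g' : G, (g' : Γ) = g * x * (g : Γ)⁻¹ * x⁻¹ → φ g' = φ 1 := by
  classical
  have hGn : G.Normal := normal_of_sup G S hnorm htop
  have : Fintype G := Fintype.ofFinite _
  have : Fintype (fixC G S) := Fintype.ofFinite _
  obtain ⟨χh, hχh, hext, hdet⟩ := exists_canonical G S hcop htop hφ hinv
  have hCG : fixC G S ≤ G := inf_le_left
  have h46 := (Cfsg.Agent.S4446.result G S hnorm hcop htop hcyc (fixC G S) rfl hCG).1
      ⟨φ, hφ⟩ ⟨χh, hχh⟩ hinv hext hdet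
  obtain ⟨⟨⟨β, ε₀⟩, ⟨hε₀, hβ⟩, _⟩, hcons⟩ := h46
  have hβc := hcons β ε₀ hε₀ hβ
  obtain ⟨ε, hε, ⟨μ, hμ, hμ1, hμ2, ha⟩, ⟨ϑ, hϑ, hb⟩, _⟩ :=
    Cfsg.Agent.S4451.result G S hnorm hcop htop hcyc (fixC G S) rfl hCG hfpf ⟨φ, hφ⟩ hinv
      ⟨χh, hχh⟩ hext hdet β ε₀ hε₀ hβ
  simp only at hb hβc ha
  set n := Nat.card S with hn
  set φC : fixC G S → ℂ := fun c => φ ⟨c, hCG c.2⟩ with hφC
  have hφCc : IsCharacter (fixC G S) φC :=
    IsCharacter.comp (Subgroup.inclusion hCG) (IsIrrCharacter.isCharacter hφ)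
  have hb' : φC = (n : ℂ) • ϑ + (ε : ℂ) • (β : fixC G S → ℂ) := by
    rw [hb]; funext c; simp [Pi.add_apply, smul_eq_mul]
  have hdeg : (charDegree φ : ℂ) = n * charDegree ϑ + ε * charDegree (β : fixC G S → ℂ) := by
    have h1 := congrFun hb 1
    simp only [hφC] at h1
    have h2 : (⟨((1 : fixC G S) : Γ), hCG (1 : fixC G S).2⟩ : G) = 1 := rfl
    rw [h2, IsCharacter.apply_one_eq_charDegree (IsIrrCharacter.isCharacter hφ),
      IsCharacter.apply_one_eq_charDegree hϑ,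
      IsCharacter.apply_one_eq_charDegree (IsIrrCharacter.isCharacter β.2)] at h1
    exact h1
  obtain ⟨nϑ, hnϑ⟩ := IsCharacter.classInner_irr_nat hϑ β.2
  obtain ⟨nφ, hnφ⟩ := IsCharacter.classInner_irr_nat hφCc β.2
  have hinner : (nφ : ℂ) = n * nϑ + ε := by
    rw [← hnφ, hb', classInner_add_left, classInner_smul_left, classInner_smul_left, hnϑ,
      classInner_isIrrCharacter β.2 β.2, if_pos rfl, mul_one]
  have hnφ0 : nφ ≠ 0 := by
    intro h
    apply hβc
    rw [hnφ, h]; simp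
  have hdegZ : (charDegree φ : ℤ) = n * charDegree ϑ + ε * charDegree (β : fixC G S → ℂ) := by
    exact_mod_cast hdeg
  have hinnerZ : (nφ : ℤ) = n * nϑ + ε := by exact_mod_cast hinner
  have hβpos : 0 < charDegree (β : fixC G S → ℂ) := IsIrrCharacter.charDegree_pos β.2
  have hnumZ : (charDegree φ : ℤ) + 2 ≤ n := by exact_mod_cast hnum
  have key : ε = 1 ∧ charDegree (β : fixC G S → ℂ) = charDegree φ := by
    rcases hε with rfl | rfl
    · refine ⟨rfl, ?_⟩
      have h0 : charDegree ϑ = 0 := by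
        by_contra h0
        have h1 : (1 : ℤ) ≤ charDegree ϑ := by
          have := Nat.one_le_iff_ne_zero.2 h0
          exact_mod_cast this
        have h2 : (n : ℤ) ≤ n * charDegree ϑ := by nlinarith
        have h3 : (0 : ℤ) ≤ charDegree (β : fixC G S → ℂ) := by positivity
        push_cast at hdegZ
        linarith
      rw [h0] at hdegZ
      have : (charDegree φ : ℤ) = charDegree (β : fixC G S → ℂ) := by
        rw [hdegZ]; push_cast; ring
      exact_mod_cast this.symm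
    · exfalso
      have hnϑ1 : nϑ ≠ 0 := by
        intro h
        rw [h] at hinnerZ
        have : (0 : ℤ) ≤ nφ := by positivity
        push_cast at hinnerZ
        linarith
      have hle : charDegree (β : fixC G S → ℂ) ≤ charDegree ϑ :=
        IsCharacter.charDegree_le hϑ β.2 (by rw [hnϑ]; exact_mod_cast hnϑ1)
      have hleZ : (charDegree (β : fixC G S → ℂ) : ℤ) ≤ charDegree ϑ := by exact_mod_cast hle
      have hβZ : (1 : ℤ) ≤ charDegree (β : fixC G S → ℂ) := by exact_mod_cast hβpos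
      push_cast at hdegZ
      have hn2 : (2 : ℤ) ≤ n := by linarith [show (0 : ℤ) ≤ charDegree φ from by positivity]
      nlinarith
  obtain ⟨rfl, hβφ⟩ := key
  intro x hx g g' hg'
  by_cases hx1 : x = 1
  · have : g' = 1 := by
      apply Subtype.ext
      rw [hg', hx1]; simp
    rw [this]
  · have h1 := ha 1 ⟨x, hx⟩ (fun h => hx1 (congrArg Subtype.val h))
    simp only [Subgroup.coe_one, one_mul, Int.cast_one] at h1
    rw [IsCharacter.apply_one_eq_charDegree (IsIrrCharacter.isCharacter β.2), hβφ] at h1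
    have hμn : ‖μ ⟨x, hx⟩‖ = 1 := by
      have h2 := hμ2 ⟨x, hx⟩
      have h3 : ‖μ ⟨x, hx⟩‖ * ‖μ ⟨x, hx⟩‖ = 1 := by
        rw [← norm_mul, h2, norm_one]
      nlinarith [norm_nonneg (μ ⟨x, hx⟩)]
    have hχ1 : χh 1 = (charDegree φ : ℂ) := by
      have := hext 1
      rw [Subgroup.coe_one] at this
      rw [this, IsCharacter.apply_one_eq_charDegree (IsIrrCharacter.isCharacter hφ)]
    have hnorm' : ‖χh x‖ = ‖χh 1‖ := by
      rw [h1, hχ1, norm_mul, hμn, mul_one]
    have h4 := apply_comm_of_norm_eq (IsIrrCharacter.isCharacter hχh) hnorm' (g : Γ)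
    rw [← hg', hext g', hχ1] at h4
    rw [h4, IsCharacter.apply_one_eq_charDegree (IsIrrCharacter.isCharacter hφ)]

end core

end Cfsg.Agent.Lib.Helper3.XT
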