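import Mathlib
import Cfsg.Agent.Lib.Helper3.Bg6
import Cfsg.Agent.Lib.Helper3.XT1

/-! S0889 (Berger): the linear step inside the central extension of the chief factor. -/

set_option autoImplicit false
set_option maxHeartbeats 4000000
set_option maxRecDepth 100000
set_option linter.unusedVariables false
set_option linter.unusedSectionVars false
set_option linter.style.haveILetI false
set_option linter.deprecated false

namespace Cfsg.Agent.Lib.Helper3.Bg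

open Subgroup Cfsg Cfsg.Agent.Lib.Helper6 Cfsg.Agent.Lib.Helper3.CharTriple Module
open scoped ComplexConjugate

universe u

variable {G : Type u} [Group G] [Fintype G] (K : Subgroup G) [hK : K.Normal]
variable {d : ℕ} (ρ : Representation ℂ K (Fin d → ℂ)) [hirr : ρ.IsIrreducible]

theorem hatChar_one_eq : hatChar K ρ (Nat.card K) 1 = (d : ℂ) := by
  rw [hatChar_one, Module.finrank_fin_fun]

theorem d_ne_zero (_h : ρ.IsIrreducible) : (d : ℂ) ≠ 0 := by
  have h1 := finrank_ne_zero K ρ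
  rwa [Module.finrank_fin_fun] at h1

/-- E1: the restriction of `τ` to the preimage of `H` is irreducible and equals `ψ̃ · conj π` -/
theorem tauH_facts (hsurj : Function.Surjective (pr1 K ρ (Nat.card K))) {e : ℕ}
    (τ : Representation ℂ (Gam K ρ (Nat.card K)) (Fin e → ℂ)) [hτirr : τ.IsIrreducible]
    (hτ : ∀ m : K, τ (incl K ρ m) = LinearMap.id) (χ : G → ℂ) (hχ : Cfsg.IsIrrCharacter G χ)
    (hfac : ∀ γ : Gam K ρ (Nat.card K),
      χ (pr1 K ρ (Nat.card K) γ) = τ.character γ * hatChar K ρ (Nat.card K) γ)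
    (H : Subgroup G) (ψ : H → ℂ) (hψ : Cfsg.IsIrrCharacter H ψ) (hind : Cfsg.indFun H ψ = χ)
    (hprod : ∀ g : G, ∃ k ∈ K, ∃ h ∈ H, g = k * h) (hdeg : χ 1 = (d : ℂ) ^ 2 * ψ 1) :
    Cfsg.IsIrrCharacter (H.comap (pr1 K ρ (Nat.card K)))
      (fun x => τ.character (x : Gam K ρ (Nat.card K))) ∧
    ∀ x : H.comap (pr1 K ρ (Nat.card K)), τ.character (x : Gam K ρ (Nat.card K))
      = ψ ((pr1 K ρ (Nat.card K)).subgroupComap H x)
        * conj (hatChar K ρ (Nat.card K) (x : Gam K ρ (Nat.card K))) := by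
  classical
  haveI : Fintype (Gam K ρ (Nat.card K)) := Fintype.ofFinite _
  haveI : Fintype (H.comap (pr1 K ρ (Nat.card K))) := Fintype.ofFinite _
  haveI : Fintype H := Fintype.ofFinite _
  have hχcf := IsIrrCharacter.isClassFunction hχ
  have hrange : ∀ γ : Gam K ρ (Nat.card K), ∃ x : H.comap (pr1 K ρ (Nat.card K)),
      τ γ = τ ((H.comap (pr1 K ρ (Nat.card K))).subtype x) := by
    intro γ
    obtain ⟨k, hk, h, hh, hkh⟩ := hprod (pr1 K ρ (Nat.card K) γ)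
    refine ⟨⟨(incl K ρ ⟨k, hk⟩)⁻¹ * γ, ?_⟩, ?_⟩
    · rw [Subgroup.mem_comap, map_mul, map_inv, pr1_incl, hkh]
      simpa using hh
    · have e1 : γ = incl K ρ ⟨k, hk⟩ * ((incl K ρ ⟨k, hk⟩)⁻¹ * γ) := by group
      conv_lhs => rw [e1]
      rw [map_mul, hτ]
      rfl
  haveI := isIrreducible_comp_of_range τ (H.comap (pr1 K ρ (Nat.card K))).subtype hrange
  have hτH : Cfsg.IsIrrCharacter (H.comap (pr1 K ρ (Nat.card K)))
      (fun x => τ.character (x : Gam K ρ (Nat.card K))) :=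
    ⟨e, MonoidHom.comp τ (H.comap (pr1 K ρ (Nat.card K))).subtype, inferInstance, rfl⟩
  refine ⟨hτH, ?_⟩
  have hsc := (pr1 K ρ (Nat.card K)).subgroupComap_surjective_of_surjective H hsurj
  have hψt : Cfsg.IsIrrCharacter (H.comap (pr1 K ρ (Nat.card K)))
      (fun x => ψ ((pr1 K ρ (Nat.card K)).subgroupComap H x)) :=
    isIrrCharacter_comp_surjective _ hsc hψ
  have hπc : Cfsg.IsCharacter (H.comap (pr1 K ρ (Nat.card K)))
      (fun x => hatChar K ρ (Nat.card K) (x : Gam K ρ (Nat.card K))) :=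
    IsCharacter.restrict _ (hatChar_isCharacter K ρ _)
  have hA : Cfsg.IsCharacter (H.comap (pr1 K ρ (Nat.card K)))
      (fun x => ψ ((pr1 K ρ (Nat.card K)).subgroupComap H x)
        * conj (hatChar K ρ (Nat.card K) (x : Gam K ρ (Nat.card K)))) :=
    IsCharacter.mul (IsIrrCharacter.isCharacter hψt) (IsCharacter.conj hπc)
  have h1 : Cfsg.classInner
      (fun x : H.comap (pr1 K ρ (Nat.card K)) => ψ ((pr1 K ρ (Nat.card K)).subgroupComap H x)
        * conj (hatChar K ρ (Nat.card K) (x : Gam K ρ (Nat.card K))))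
      (fun x => τ.character (x : Gam K ρ (Nat.card K))) = 1 := by
    rw [Cfsg.Agent.Lib.Helper3.GallagherDecomp.classInner_mul_conj
      (fun x : H.comap (pr1 K ρ (Nat.card K)) => ψ ((pr1 K ρ (Nat.card K)).subgroupComap H x))
      (fun x => hatChar K ρ (Nat.card K) (x : Gam K ρ (Nat.card K)))
      (fun x => τ.character (x : Gam K ρ (Nat.card K)))]
    have e1 : ((fun x : H.comap (pr1 K ρ (Nat.card K)) => τ.character (x : Gam K ρ (Nat.card K)))
        * fun x : H.comap (pr1 K ρ (Nat.card K)) =>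
          hatChar K ρ (Nat.card K) (x : Gam K ρ (Nat.card K)))
        = fun x => (fun h : H => χ h) ((pr1 K ρ (Nat.card K)).subgroupComap H x) := by
      funext x
      rw [Pi.mul_apply, ← hfac]
      rfl
    rw [e1]
    have h9 := classInner_comp_surj ((pr1 K ρ (Nat.card K)).subgroupComap H) hsc ψ
      (fun h : H => χ h)
    rw [h9]
    have h8 := Cfsg.Agent.S0146.result H ψ χ hχcf
    rw [← h8, hind, classInner_isIrrCharacter hχ hχ, if_pos rfl]
  have hh1 := hatChar_one_eq K ρ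
  have hd := d_ne_zero K ρ hirr
  have h41 := hfac 1
  rw [map_one, hh1] at h41
  have hτ1 : τ.character 1 = d * ψ 1 := by
    apply mul_right_cancel₀ hd
    rw [← h41, hdeg]
    ring
  have hA1 : (fun x : H.comap (pr1 K ρ (Nat.card K)) =>
      ψ ((pr1 K ρ (Nat.card K)).subgroupComap H x)
        * conj (hatChar K ρ (Nat.card K) (x : Gam K ρ (Nat.card K)))) 1
      = (fun x : H.comap (pr1 K ρ (Nat.card K)) => τ.character (x : Gam K ρ (Nat.card K))) 1 := by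
    show ψ ((pr1 K ρ (Nat.card K)).subgroupComap H 1)
        * conj (hatChar K ρ (Nat.card K) ((1 : H.comap (pr1 K ρ (Nat.card K))) :
          Gam K ρ (Nat.card K)))
      = τ.character ((1 : H.comap (pr1 K ρ (Nat.card K))) : Gam K ρ (Nat.card K))
    rw [map_one, Subgroup.coe_one, hh1, hτ1, Complex.conj_natCast, mul_comm]
  have h2 := IsCharacter.eq_of_constituent_of_apply_one_eq hA hτH
    (by rw [h1]; exact one_ne_zero) hA1
  intro x
  exact (congrFun h2 x).symm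

/-- E4: the lift of `φ` is not homogeneous on the preimage of `L` -/
theorem not_homog_L (hsurj : Function.Surjective (pr1 K ρ (Nat.card K))) (N L : Subgroup G)
    [hN : N.Normal] (hNK : N ≤ K) (hNL : N ≤ L) (hLN : ¬ L ≤ N) (lam : N →* ℂˣ)
    (hvan : ∀ k : K, (k : G) ∉ N → ρ.character k = 0)
    (hlin : ∀ (k : K) (hk : (k : G) ∈ N), ρ.character k = ρ.character 1 * lam ⟨k, hk⟩)
    (hcop : Nat.Coprime d (N.relIndex L))
    (hcent : ∀ l ∈ L, (∀ k ∈ K, l * k * l⁻¹ * k⁻¹ ∈ N) → l ∈ N) :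
    ¬ Homog (hatChar K ρ (Nat.card K)) (L.comap (pr1 K ρ (Nat.card K))) := by
  classical
  rintro ⟨κ, e', hκ, hres⟩
  haveI : Fintype (Gam K ρ (Nat.card K)) := Fintype.ofFinite _
  haveI : Fintype (L.comap (pr1 K ρ (Nat.card K))) := Fintype.ofFinite _
  have hNLc : N.comap (pr1 K ρ (Nat.card K)) ≤ L.comap (pr1 K ρ (Nat.card K)) :=
    Subgroup.comap_mono hNL
  have hNKc : N.comap (pr1 K ρ (Nat.card K)) ≤ preN K ρ := Subgroup.comap_mono hNK
  haveI hAn : ((N.comap (pr1 K ρ (Nat.card K))).subgroupOf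
      (L.comap (pr1 K ρ (Nat.card K)))).Normal := (hN.comap _).subgroupOf _
  let ι : ((N.comap (pr1 K ρ (Nat.card K))).subgroupOf (L.comap (pr1 K ρ (Nat.card K))))
      →* preN K ρ :=
    (Subgroup.inclusion hNKc).comp (Subgroup.subgroupOfEquivOfLe hNLc).toMonoidHom
  let ν : ((N.comap (pr1 K ρ (Nat.card K))).subgroupOf (L.comap (pr1 K ρ (Nat.card K))))
      →* N :=
    ((pr1 K ρ (Nat.card K)).subgroupComap N).comp (Subgroup.subgroupOfEquivOfLe hNLc).toMonoidHom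
  have hιcoe : ∀ a, ((ι a : preN K ρ) : Gam K ρ (Nat.card K)) = ((a : L.comap (pr1 K ρ (Nat.card K))) :
      Gam K ρ (Nat.card K)) := fun a => rfl
  have hνcoe : ∀ a, ((ν a : N) : G) = pr1 K ρ (Nat.card K) ((a : L.comap (pr1 K ρ (Nat.card K))) :
      Gam K ρ (Nat.card K)) := fun a => rfl
  let μ : ((N.comap (pr1 K ρ (Nat.card K))).subgroupOf (L.comap (pr1 K ρ (Nat.card K))))
      →* ℂˣ := ((lamHom K ρ).comp ι)⁻¹ * (lam.comp ν)
  have hμ : ∀ a, ((μ a : ℂˣ) : ℂ) = scal K ρ (Nat.card K) (zOf K ρ (ι a)) * ((lam (ν a) : ℂˣ) : ℂ) := by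
    intro a
    show ((((lamHom K ρ) (ι a))⁻¹ * lam (ν a) : ℂˣ) : ℂ) = _
    rw [Units.val_mul, Units.val_inv_eq_inv_val, lamHom_apply, inv_inv]
  have hρ1 : ρ.character 1 = hatChar K ρ (Nat.card K) 1 := by
    rw [← hatChar_incl K ρ 1, map_one]
  have hπA : ∀ a : ((N.comap (pr1 K ρ (Nat.card K))).subgroupOf (L.comap (pr1 K ρ (Nat.card K)))),
      (fun z : L.comap (pr1 K ρ (Nat.card K)) => hatChar K ρ (Nat.card K) (z : Gam K ρ (Nat.card K)))
        (a : L.comap (pr1 K ρ (Nat.card K)))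
      = (fun z : L.comap (pr1 K ρ (Nat.card K)) => hatChar K ρ (Nat.card K) (z : Gam K ρ (Nat.card K))) 1
        * ((μ a : ℂˣ) : ℂ) := by
    intro a
    show hatChar K ρ (Nat.card K) ((a : L.comap (pr1 K ρ (Nat.card K))) : Gam K ρ (Nat.card K))
      = hatChar K ρ (Nat.card K) ((1 : L.comap (pr1 K ρ (Nat.card K))) : Gam K ρ (Nat.card K))
        * ((μ a : ℂˣ) : ℂ)
    rw [Subgroup.coe_one, hμ, ← hιcoe a, eq_zOf_mul K ρ (ι a),
      hatChar_mul_of_pr1_eq_one K ρ _ _ _ (pr1_zOf K ρ (ι a)), hatChar_incl]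
    have hk : ((⟨pr1 K ρ (Nat.card K) ((ι a : preN K ρ) : Gam K ρ (Nat.card K)), (ι a).2⟩ : K) : G)
        ∈ N := (ν a).2
    rw [hlin _ hk, hρ1]
    have e3 : (⟨((⟨pr1 K ρ (Nat.card K) ((ι a : preN K ρ) : Gam K ρ (Nat.card K)), (ι a).2⟩ : K) : G),
        hk⟩ : N) = ν a := rfl
    rw [e3]
    ring
  have hπcf : Cfsg.IsClassFunction (L.comap (pr1 K ρ (Nat.card K)))
      (fun z : L.comap (pr1 K ρ (Nat.card K)) => hatChar K ρ (Nat.card K) (z : Gam K ρ (Nat.card K))) :=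
    IsCharacter.isClassFunction (IsCharacter.restrict _ (hatChar_isCharacter K ρ _))
  have hd0 : d ≠ 0 := by
    have := d_ne_zero K ρ hirr
    exact_mod_cast this
  have hπ1 : (fun z : L.comap (pr1 K ρ (Nat.card K)) =>
      hatChar K ρ (Nat.card K) (z : Gam K ρ (Nat.card K))) 1 = (d : ℂ) := hatChar_one_eq K ρ
  have hidx : ((N.comap (pr1 K ρ (Nat.card K))).subgroupOf (L.comap (pr1 K ρ (Nat.card K)))).index
      = N.relIndex L := by
    have h1 : ((N.comap (pr1 K ρ (Nat.card K))).subgroupOf (L.comap (pr1 K ρ (Nat.card K)))).index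
        = (N.comap (pr1 K ρ (Nat.card K))).relIndex (L.comap (pr1 K ρ (Nat.card K))) := rfl
    rw [h1, Subgroup.relIndex_comap, Subgroup.map_comap_eq_self_of_surjective hsurj]
  have hnorm := norm_eq_of_homog_coprime
    ((N.comap (pr1 K ρ (Nat.card K))).subgroupOf (L.comap (pr1 K ρ (Nat.card K))))
    (fun z : L.comap (pr1 K ρ (Nat.card K)) => hatChar K ρ (Nat.card K) (z : Gam K ρ (Nat.card K)))
    hπcf μ d hd0 hπ1 hπA κ hκ e' hres (by rw [hidx]; exact hcop)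
  apply hLN
  intro l hl
  apply hcent l hl
  intro k hk
  obtain ⟨x, hx⟩ := hsurj l
  have hxL : x ∈ L.comap (pr1 K ρ (Nat.card K)) := by
    rw [Subgroup.mem_comap, hx]
    exact hl
  have hx1 : ‖hatChar K ρ (Nat.card K) x‖ = ‖hatChar K ρ (Nat.card K) 1‖ := by
    have h1 := hnorm ⟨x, hxL⟩
    rw [hatChar_one_eq K ρ, Complex.norm_natCast]
    exact h1
  have h2 := Cfsg.Agent.Lib.Helper3.XT.apply_comm_of_norm_eq (hatChar_isCharacter K ρ _) hx1
    (incl K ρ ⟨k⁻¹, K.inv_mem hk⟩)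
  have h3 : incl K ρ ⟨k⁻¹, K.inv_mem hk⟩ * x * (incl K ρ ⟨k⁻¹, K.inv_mem hk⟩)⁻¹ * x⁻¹
      = incl K ρ (⟨k⁻¹, K.inv_mem hk⟩ *
          MulAut.conjNormal (pr1 K ρ (Nat.card K) x) ⟨k, hk⟩) := by
    rw [map_mul, ← conj_incl]
    have e1 : (incl K ρ ⟨k⁻¹, K.inv_mem hk⟩)⁻¹ = incl K ρ ⟨k, hk⟩ := by
      rw [← map_inv]
      congr 1
      apply Subtype.ext
      simp
    rw [e1]
    group
  rw [h3, hatChar_incl] at h2
  have h4 : ((⟨k⁻¹, K.inv_mem hk⟩ * MulAut.conjNormal (pr1 K ρ (Nat.card K) x) ⟨k, hk⟩ : K) : G)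
      ∈ N := by
    by_contra hnot
    rw [hvan _ hnot, hatChar_one_eq K ρ] at h2
    exact d_ne_zero K ρ hirr h2.symm
  have h5 : ((⟨k⁻¹, K.inv_mem hk⟩ * MulAut.conjNormal (pr1 K ρ (Nat.card K) x) ⟨k, hk⟩ : K) : G)
      = k⁻¹ * (l * k * l⁻¹) := by
    rw [Subgroup.coe_mul, MulAut.conjNormal_apply, hx]
  rw [h5] at h4
  have h6 := hN.conj_mem _ h4 k
  have h7 : k * (k⁻¹ * (l * k * l⁻¹)) * k⁻¹ = l * k * l⁻¹ * k⁻¹ := by group
  rw [h7] at h6
  exact h6

/-- E5: `τ` restricted to the preimage of `H` is homogeneous on normal subgroups containing the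
kernel of the projection -/
theorem homog_tauH (hsurj : Function.Surjective (pr1 K ρ (Nat.card K))) {e : ℕ}
    (τ : Representation ℂ (Gam K ρ (Nat.card K)) (Fin e → ℂ))
    (hτ : ∀ m : K, τ (incl K ρ m) = LinearMap.id) (χ : G → ℂ) (hχ1 : χ 1 ≠ 0)
    (hfac : ∀ γ : Gam K ρ (Nat.card K),
      χ (pr1 K ρ (Nat.card K) γ) = τ.character γ * hatChar K ρ (Nat.card K) γ)
    (H : Subgroup G) (hprod : ∀ g : G, ∃ k ∈ K, ∃ h ∈ H, g = k * h)
    (hqK : ∀ R' : Subgroup G, R'.Normal → K ≤ R' → Homog χ R')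
    (R : Subgroup (H.comap (pr1 K ρ (Nat.card K)))) [hR : R.Normal]
    (hker : ∀ x : H.comap (pr1 K ρ (Nat.card K)),
      pr1 K ρ (Nat.card K) (x : Gam K ρ (Nat.card K)) = 1 → x ∈ R) :
    Homog (fun x : H.comap (pr1 K ρ (Nat.card K)) => τ.character (x : Gam K ρ (Nat.card K))) R := by
  classical
  haveI : Fintype (Gam K ρ (Nat.card K)) := Fintype.ofFinite _
  obtain ⟨R0, hR0⟩ : ∃ R0 : Subgroup (Gam K ρ (Nat.card K)),
      R0 = R.map (H.comap (pr1 K ρ (Nat.card K))).subtype := ⟨_, rfl⟩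
  have hR0mem : ∀ y : Gam K ρ (Nat.card K), y ∈ R0 ↔
      ∃ (hy : y ∈ H.comap (pr1 K ρ (Nat.card K))),
        (⟨y, hy⟩ : H.comap (pr1 K ρ (Nat.card K))) ∈ R := by
    intro y
    rw [hR0, Subgroup.mem_map]
    constructor
    · rintro ⟨r, hr, rfl⟩
      exact ⟨r.2, hr⟩
    · rintro ⟨hy, hr⟩
      exact ⟨⟨y, hy⟩, hr, rfl⟩
  obtain ⟨Rh, hRh⟩ : ∃ Rh : Subgroup (Gam K ρ (Nat.card K)), Rh = (incl K ρ).range ⊔ R0 :=
    ⟨_, rfl⟩
  have hRhmem : ∀ y : Gam K ρ (Nat.card K), y ∈ Rh ↔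
      ∃ a ∈ (incl K ρ).range, ∃ b ∈ R0, y = a * b := by
    intro y
    rw [hRh, ← SetLike.mem_coe, Subgroup.normal_mul, Set.mem_mul]
    constructor
    · rintro ⟨a, ha, b, hb, rfl⟩
      exact ⟨a, ha, b, hb, rfl⟩
    · rintro ⟨a, ha, b, hb, rfl⟩
      exact ⟨a, ha, b, hb, rfl⟩
  have htop : (incl K ρ).range ⊔ H.comap (pr1 K ρ (Nat.card K)) = ⊤ := by
    rw [eq_top_iff]
    intro γ _
    obtain ⟨k, hk, h, hh, hkh⟩ := hprod (pr1 K ρ (Nat.card K) γ)
    have e1 : γ = incl K ρ ⟨k, hk⟩ * ((incl K ρ ⟨k, hk⟩)⁻¹ * γ) := by group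
    rw [e1]
    refine Subgroup.mul_mem _ (Subgroup.mem_sup_left ⟨_, rfl⟩) (Subgroup.mem_sup_right ?_)
    rw [Subgroup.mem_comap, map_mul, map_inv, pr1_incl, hkh]
    simpa using hh
  have hRhn : Rh.Normal := by
    apply normal_of_sup_eq_top _ _ Rh htop
    · intro t ht s hs
      have ht' : t ∈ Rh := by rw [hRh]; exact Subgroup.mem_sup_left ht
      exact Rh.mul_mem (Rh.mul_mem ht' hs) (Rh.inv_mem ht')
    · intro t ht s hs
      obtain ⟨a, ha, b, hb, rfl⟩ := (hRhmem s).mp hs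
      obtain ⟨hbH, hbR⟩ := (hR0mem b).mp hb
      have e1 : t * (a * b) * t⁻¹ = (t * a * t⁻¹) * (t * b * t⁻¹) := by group
      rw [e1]
      apply (hRhmem _).mpr
      refine ⟨_, (instNormalInclRange K ρ).conj_mem a ha t, _, ?_, rfl⟩
      apply (hR0mem _).mpr
      refine ⟨(H.comap (pr1 K ρ (Nat.card K))).mul_mem
        ((H.comap (pr1 K ρ (Nat.card K))).mul_mem ht hbH)
        ((H.comap (pr1 K ρ (Nat.card K))).inv_mem ht), ?_⟩
      exact hR.conj_mem ⟨b, hbH⟩ hbR ⟨t, ht⟩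
  have hR'n : (Rh.map (pr1 K ρ (Nat.card K))).Normal := hRhn.map _ hsurj
  have hKR' : K ≤ Rh.map (pr1 K ρ (Nat.card K)) := by
    intro k hk
    refine Subgroup.mem_map.mpr ⟨incl K ρ ⟨k, hk⟩, ?_, pr1_incl K ρ ⟨k, hk⟩⟩
    rw [hRh]
    exact Subgroup.mem_sup_left ⟨_, rfl⟩
  have hcomap : (Rh.map (pr1 K ρ (Nat.card K))).comap (pr1 K ρ (Nat.card K)) = Rh := by
    rw [Subgroup.comap_map_eq]
    apply sup_eq_left.mpr
    intro x hx
    have hx1 : pr1 K ρ (Nat.card K) x = 1 := MonoidHom.mem_ker.mp hx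
    have hxH : x ∈ H.comap (pr1 K ρ (Nat.card K)) := by
      rw [Subgroup.mem_comap, hx1]
      exact H.one_mem
    rw [hRh]
    apply Subgroup.mem_sup_right
    exact (hR0mem x).mpr ⟨hxH, hker ⟨x, hxH⟩ hx1⟩
  obtain ⟨ξ, a, hξ, hres⟩ := hqK _ hR'n hKR'
  obtain ⟨β, m, hβ, hm⟩ := claimA K ρ hsurj τ hτ χ hχ1 hfac (Rh.map (pr1 K ρ (Nat.card K)))
    hKR' ξ hξ a hres
  have hmemR : ∀ r : R, (((H.comap (pr1 K ρ (Nat.card K))).subtype).comp R.subtype) r
      ∈ (Rh.map (pr1 K ρ (Nat.card K))).comap (pr1 K ρ (Nat.card K)) := by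
    intro r
    rw [hcomap, hRh]
    apply Subgroup.mem_sup_right
    exact (hR0mem _).mpr ⟨r.1.2, r.2⟩
  let g : R →* ((Rh.map (pr1 K ρ (Nat.card K))).comap (pr1 K ρ (Nat.card K))) :=
    (((H.comap (pr1 K ρ (Nat.card K))).subtype).comp R.subtype).codRestrict _ hmemR
  let f := (QuotientGroup.mk' ((incl K ρ).range.subgroupOf
    ((Rh.map (pr1 K ρ (Nat.card K))).comap (pr1 K ρ (Nat.card K))))).comp g
  have hf : Function.Surjective f := by
    intro q
    obtain ⟨y, rfl⟩ := QuotientGroup.mk_surjective q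
    have hy : (y : Gam K ρ (Nat.card K)) ∈ Rh := by
      exact (le_of_eq hcomap) y.2
    obtain ⟨a', ha', b, hb, hyab⟩ := (hRhmem _).mp hy
    obtain ⟨hbH, hbR⟩ := (hR0mem b).mp hb
    refine ⟨⟨⟨b, hbH⟩, hbR⟩, ?_⟩
    show QuotientGroup.mk (g ⟨⟨b, hbH⟩, hbR⟩) = QuotientGroup.mk y
    rw [QuotientGroup.eq, Subgroup.mem_subgroupOf]
    show b⁻¹ * (y : Gam K ρ (Nat.card K)) ∈ (incl K ρ).range
    rw [hyab]
    have h2 := (instNormalInclRange K ρ).conj_mem a' ha' b⁻¹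
    simpa [mul_assoc] using h2
  haveI : Finite R := inferInstance
  refine ⟨fun r => β (f r), m, isIrrCharacter_comp_surjective f hf hβ, ?_⟩
  funext r
  show τ.character ((r : H.comap (pr1 K ρ (Nat.card K))) : Gam K ρ (Nat.card K))
    = ((m : ℂ) • fun r => β (f r)) r
  rw [Pi.smul_apply, smul_eq_mul]
  exact hm (g r)

end Cfsg.Agent.Lib.Helper3.Bg
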