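import Mathlib
import Cfsg.Agent.Lib.Helper3.Bg7

/-! S0889 (Berger): assembling the linear step and the theorem. -/

set_option autoImplicit false
set_option maxHeartbeats 4000000
set_option maxRecDepth 100000
set_option linter.unusedVariables false
set_option linter.unusedSectionVars false
set_option linter.style.haveILetI false
set_option linter.deprecated false

namespace Cfsg.Agent.Lib.Helper3.Bg

open Subgroup Cfsg Cfsg.Agent.Lib.Helper6 Cfsg.Agent.Lib.Helper3.CharTriple Module
open scoped ComplexConjugate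

universe u

theorem linStep : LinStep.{u} := by
  intro G _ _ _ χ H ψ lam hχ hH hψ hind hq hlin IH
  classical
  have hHN := not_le_core hχ H hH.1 ψ hψ hind lam hlin
  obtain ⟨K, L, p, r, j, i, hS⟩ := exists_setup H hH hHN
  haveI hKn : K.Normal := hS.normalK
  haveI : Fintype K := Fintype.ofFinite _
  haveI : Fintype H := Fintype.ofFinite _
  have hχcf := IsIrrCharacter.isClassFunction hχ
  have hχ1 : χ 1 ≠ 0 := IsIrrCharacter.apply_one_ne_zero hχ
  have hψirr : Cfsg.IsIrrCharacter H ψ :=
    Cfsg.Agent.Lib.Helper3.FV.isIrr_of_indFun_isIrr H hψ (by rw [hind]; exact hχ)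
  obtain ⟨φ, a, hφ, hres⟩ := hq K hKn hS.le_K
  obtain ⟨d, ρ, hρirr, hρφ⟩ := hφ
  haveI := hρirr
  have hres1 : ∀ k : K, χ k = a * ρ.character k := by
    intro k
    have h1 := congrFun hres k
    rw [Pi.smul_apply, smul_eq_mul, ← hρφ] at h1
    exact h1
  have hresf : (fun k : K => χ k) = (a : ℂ) • ρ.character := by
    funext k
    rw [hres1]
    rfl
  have ha : (a : ℂ) ≠ 0 := by
    intro h0
    apply hχ1
    have h1 := hres1 1
    rw [h0, zero_mul] at h1
    exact h1
  have hinv : ∀ (g : G) (k : K),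
      ρ.character ⟨g * k * g⁻¹, hKn.conj_mem (k : G) k.2 g⟩ = ρ.character k := by
    intro g k
    have h1 := hres1 ⟨g * k * g⁻¹, hKn.conj_mem (k : G) k.2 g⟩
    have h2 := hres1 k
    have h3 : χ (g * k * g⁻¹) = χ k := hχcf k g
    exact mul_left_cancel₀ ha (by rw [← h1, ← h2]; exact h3)
  have hirrρ : Cfsg.IsIrrCharacter K ρ.character := isIrrCharacter_character ρ
  have hcon : Cfsg.classInner (fun k : K => χ k) ρ.character ≠ 0 := by
    rw [hresf, classInner_smul_left, classInner_isIrrCharacter hirrρ hirrρ, if_pos rfl, mul_one]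
    exact ha
  obtain ⟨e1, τ, hτirr, hτincl, hfac⟩ := exists_factor_lift K ρ hinv χ hχ hcon
  haveI := hτirr
  have hsurj := pr1_surjective K ρ (Nat.card K) (character_conjNormal K ρ hinv)
  -- facts on the character of `ρ`
  have hNn : H.normalCore.Normal := Subgroup.normalCore_normal H
  have hvan : ∀ k : K, (k : G) ∉ H.normalCore → ρ.character k = 0 := by
    intro k hk
    have h1 : χ k = 0 := by
      rw [← hind]
      apply Cfsg.Agent.Lib.Helper6.IndFunMore.indFun_eq_zero_of_not_conj H ψ
      intro x hx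
      apply hk
      have h2 : x⁻¹ * (k : G) * x ∈ K := by simpa using hKn.conj_mem (k : G) k.2 x⁻¹
      have h3 := hS.inf_le _ hx h2
      have h4 := hNn.conj_mem _ h3 x
      have h5 : x * (x⁻¹ * (k : G) * x) * x⁻¹ = k := by group
      rw [h5] at h4
      exact h4
    rw [hres1] at h1
    exact (mul_eq_zero.mp h1).resolve_left ha
  have hlinρ : ∀ (k : K) (hk : (k : G) ∈ H.normalCore),
      ρ.character k = ρ.character 1 * lam ⟨k, hk⟩ := by
    intro k hk
    have h1 := hlin ⟨k, hk⟩
    have h2 := hres1 k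
    have h3 := hres1 1
    have h4 : χ (k : G) = χ 1 * ((lam ⟨k, hk⟩ : ℂˣ) : ℂ) := h1
    have h5 : χ ((1 : K) : G) = χ 1 := rfl
    rw [h5] at h3
    rw [h2, h3] at h4
    apply mul_left_cancel₀ ha
    rw [h4]
    ring
  have hdsq : d ^ 2 = H.normalCore.relIndex K := by
    have hvan' : ∀ x : K, x ∉ H.normalCore.subgroupOf K → ρ.character x = 0 := by
      intro x hx
      exact hvan x (fun h => hx (Subgroup.mem_subgroupOf.mpr h))
    have hnorm' : ∀ x ∈ H.normalCore.subgroupOf K, ‖ρ.character x‖ = ‖ρ.character 1‖ := by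
      intro x hx
      have hx' : (x : G) ∈ H.normalCore := Subgroup.mem_subgroupOf.mp hx
      rw [hlinρ x hx', norm_mul]
      have h2 : ‖((lam ⟨x, hx'⟩ : ℂˣ) : ℂ)‖ = 1 := by
        have e2 : (lam ⟨x, hx'⟩) ^ (Nat.card H.normalCore) = 1 := by
          rw [← map_pow, pow_card_eq_one', map_one]
        have e3 : (((lam ⟨x, hx'⟩ : ℂˣ) : ℂ)) ^ (Nat.card H.normalCore) = 1 := by
          rw [← Units.val_pow_eq_pow_val, e2, Units.val_one]
        exact Complex.norm_eq_one_of_pow_eq_one e3 Nat.card_pos.ne'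
      rw [h2, mul_one]
    have h1 := sq_degree_of_vanish (H.normalCore.subgroupOf K) hirrρ hvan' hnorm'
    rw [charDegree_character, Module.finrank_fin_fun] at h1
    have h2 := Subgroup.card_mul_index (H.normalCore.subgroupOf K)
    have h3 : 0 < Nat.card (H.normalCore.subgroupOf K) := Nat.card_pos
    have h4 : Nat.card (H.normalCore.subgroupOf K) * d ^ 2
        = Nat.card (H.normalCore.subgroupOf K) * (H.normalCore.subgroupOf K).index := by
      rw [h2, ← h1, mul_comm]
    exact Nat.eq_of_mul_eq_mul_left h3 h4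
  have hdeg : χ 1 = (d : ℂ) ^ 2 * ψ 1 := by
    have h1 : χ 1 = (H.index : ℂ) * ψ 1 := by rw [← hind]; exact indFun_one H ψ
    rw [h1, hS.index_eq, ← hdsq]
    push_cast
    ring
  have hcop : Nat.Coprime d (H.normalCore.relIndex L) := by
    rw [hS.relIndex_L]
    have h1 : Nat.Coprime p r := (Nat.coprime_primes hS.hp hS.hr).mpr hS.hpr
    have h2 : Nat.Coprime (p ^ j) (r ^ i) := Nat.Coprime.pow j i h1
    have h3 : d ∣ p ^ j := by
      rw [← hS.relIndex_K, ← hdsq]
      exact dvd_pow_self d (by norm_num)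
    exact Nat.Coprime.coprime_dvd_left h3 h2
  -- E1
  obtain ⟨hτH, hτHeq⟩ := tauH_facts K ρ hsurj τ hτincl χ hχ hfac H ψ hψirr hind hS.prod hdeg
  haveI : Fintype (Gam K ρ (Nat.card K)) := Fintype.ofFinite _
  haveI : Fintype (H.comap (pr1 K ρ (Nat.card K))) := Fintype.ofFinite _
  haveI : Group.IsSolvable (Gam K ρ (Nat.card K)) := isSolvable_Gam K ρ
  have hsc := (pr1 K ρ (Nat.card K)).subgroupComap_surjective_of_surjective H hsurj
  have hψt : Cfsg.IsIrrCharacter (H.comap (pr1 K ρ (Nat.card K)))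
      (fun x => ψ ((pr1 K ρ (Nat.card K)).subgroupComap H x)) :=
    isIrrCharacter_comp_surjective _ hsc hψirr
  have hπc : Cfsg.IsCharacter (H.comap (pr1 K ρ (Nat.card K)))
      (fun x => hatChar K ρ (Nat.card K) (x : Gam K ρ (Nat.card K))) :=
    IsCharacter.restrict _ (hatChar_isCharacter K ρ _)
  -- E2
  have hπirr : Cfsg.IsIrrCharacter (H.comap (pr1 K ρ (Nat.card K)))
      (fun x => hatChar K ρ (Nat.card K) (x : Gam K ρ (Nat.card K))) := by
    have hB : Cfsg.IsCharacter (H.comap (pr1 K ρ (Nat.card K)))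
        (fun x => conj (hatChar K ρ (Nat.card K) (x : Gam K ρ (Nat.card K)))) :=
      IsCharacter.conj hπc
    have hBC : Cfsg.IsIrrCharacter (H.comap (pr1 K ρ (Nat.card K)))
        ((fun x : H.comap (pr1 K ρ (Nat.card K)) =>
            conj (hatChar K ρ (Nat.card K) (x : Gam K ρ (Nat.card K))))
          * fun x : H.comap (pr1 K ρ (Nat.card K)) =>
            ψ ((pr1 K ρ (Nat.card K)).subgroupComap H x)) := by
      have e1 : ((fun x : H.comap (pr1 K ρ (Nat.card K)) =>
            conj (hatChar K ρ (Nat.card K) (x : Gam K ρ (Nat.card K))))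
          * fun x : H.comap (pr1 K ρ (Nat.card K)) =>
            ψ ((pr1 K ρ (Nat.card K)).subgroupComap H x))
          = fun x : H.comap (pr1 K ρ (Nat.card K)) =>
            τ.character (x : Gam K ρ (Nat.card K)) := by
        funext x
        rw [Pi.mul_apply, hτHeq x, mul_comm]
      rw [e1]
      exact hτH
    have h1 := isIrr_of_mul_isIrr hB (IsIrrCharacter.isCharacter hψt) hBC
    have h2 := IsIrrCharacter.conj h1
    have e2 : (fun g : H.comap (pr1 K ρ (Nat.card K)) =>
        conj (conj (hatChar K ρ (Nat.card K) (g : Gam K ρ (Nat.card K)))))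
        = fun x : H.comap (pr1 K ρ (Nat.card K)) =>
          hatChar K ρ (Nat.card K) (x : Gam K ρ (Nat.card K)) := by
      funext g
      exact Complex.conj_conj _
    rw [e2] at h2
    exact h2
  -- E4
  have hnhL := not_homog_L K ρ hsurj H.normalCore L hS.le_K hS.le_L hS.not_L_le lam hvan hlinρ
    hcop (fun l hl => hS.cent l (hS.L_le hl))
  have hLH : L.comap (pr1 K ρ (Nat.card K)) ≤ H.comap (pr1 K ρ (Nat.card K)) :=
    Subgroup.comap_mono hS.L_le
  haveI hYn : ((L.comap (pr1 K ρ (Nat.card K))).subgroupOf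
      (H.comap (pr1 K ρ (Nat.card K)))).Normal := by
    constructor
    intro y hy x
    rw [Subgroup.mem_subgroupOf, Subgroup.mem_comap] at hy ⊢
    simp only [Subgroup.coe_mul, Subgroup.coe_inv, map_mul, map_inv]
    exact hS.normL _ x.2 _ hy
  have hnhY : ¬ Homog (fun x : H.comap (pr1 K ρ (Nat.card K)) =>
      hatChar K ρ (Nat.card K) (x : Gam K ρ (Nat.card K)))
      ((L.comap (pr1 K ρ (Nat.card K))).subgroupOf (H.comap (pr1 K ρ (Nat.card K)))) := by
    intro h
    exact hnhL (homog_of_subgroupOf _ _ hLH (hatChar K ρ (Nat.card K)) h)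
  -- E3
  obtain ⟨T1, σ, hT1, hYT1, hσ, hσind⟩ := exists_induced_of_not_homog _ hπirr hnhY
  have hσ2 : Cfsg.IsCharacter T1 (fun t : T1 =>
      ψ ((pr1 K ρ (Nat.card K)).subgroupComap H (t : H.comap (pr1 K ρ (Nat.card K))))
        * conj (σ t)) :=
    IsCharacter.mul (IsCharacter.restrict T1 (IsIrrCharacter.isCharacter hψt))
      (IsCharacter.conj (IsIrrCharacter.isCharacter hσ))
  have hind2 : Cfsg.indFun T1 (fun t : T1 =>
      ψ ((pr1 K ρ (Nat.card K)).subgroupComap H (t : H.comap (pr1 K ρ (Nat.card K))))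
        * conj (σ t))
      = fun x : H.comap (pr1 K ρ (Nat.card K)) => τ.character (x : Gam K ρ (Nat.card K)) := by
    have h1 := Cfsg.Agent.Lib.Helper6.IndFunMore.mul_indFun T1 (fun t => conj (σ t))
      (fun x => ψ ((pr1 K ρ (Nat.card K)).subgroupComap H x))
      (IsIrrCharacter.isClassFunction hψt)
    rw [← h1]
    funext x
    rw [Pi.mul_apply, ← conj_indFun, hσind, hτHeq x]
  -- the index drops
  have hYcore : ((L.comap (pr1 K ρ (Nat.card K))).subgroupOf (H.comap (pr1 K ρ (Nat.card K))))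
      ≤ T1.normalCore := (Subgroup.normal_le_normalCore).mpr hYT1
  have hidx : T1.normalCore.index < H.normalCore.index := by
    have h1 : T1.normalCore.index ∣ ((L.comap (pr1 K ρ (Nat.card K))).subgroupOf
        (H.comap (pr1 K ρ (Nat.card K)))).index := Subgroup.index_dvd_of_le hYcore
    have h2 : ((L.comap (pr1 K ρ (Nat.card K))).subgroupOf
        (H.comap (pr1 K ρ (Nat.card K)))).index = L.relIndex H := by
      have h0 : ((L.comap (pr1 K ρ (Nat.card K))).subgroupOf
          (H.comap (pr1 K ρ (Nat.card K)))).index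
          = (L.comap (pr1 K ρ (Nat.card K))).relIndex (H.comap (pr1 K ρ (Nat.card K))) := rfl
      rw [h0, Subgroup.relIndex_comap, Subgroup.map_comap_eq_self_of_surjective hsurj]
    rw [h2] at h1
    have h3 : L.relIndex H ∣ H.normalCore.relIndex H := Subgroup.relIndex_dvd_of_le_left H hS.le_L
    have h4 := Subgroup.relIndex_mul_index (Subgroup.normalCore_le H)
    have h5 : H.normalCore.relIndex H ≠ 0 := by
      unfold Subgroup.relIndex
      exact Subgroup.index_ne_zero_of_finite
    have h6 : H.index ≠ 0 := Subgroup.index_ne_zero_of_finite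
    have h7 : H.index ≠ 1 := fun h => hH.1 (Subgroup.index_eq_one.mp h)
    have h8 : T1.normalCore.index ≤ H.normalCore.relIndex H :=
      Nat.le_of_dvd (Nat.pos_of_ne_zero h5) (dvd_trans h1 h3)
    have h9 : 2 ≤ H.index := by omega
    have h10 : H.normalCore.relIndex H * 2 ≤ H.normalCore.index := by
      rw [← h4]
      exact Nat.mul_le_mul_left _ h9
    have h11 : 0 < H.normalCore.relIndex H := Nat.pos_of_ne_zero h5
    omega
  have hqK : ∀ R' : Subgroup G, R'.Normal → K ≤ R' → Homog χ R' :=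
    fun R' hR' h => hq R' hR' (le_trans hS.le_K h)
  have hq2 : ∀ R : Subgroup (H.comap (pr1 K ρ (Nat.card K))), R.Normal → T1.normalCore ≤ R →
      Homog (fun x : H.comap (pr1 K ρ (Nat.card K)) => τ.character (x : Gam K ρ (Nat.card K)))
        R := by
    intro R hR hle
    haveI := hR
    apply homog_tauH K ρ hsurj τ hτincl χ hχ1 hfac H hS.prod hqK R
    intro x hx
    apply hle
    apply hYcore
    rw [Subgroup.mem_subgroupOf, Subgroup.mem_comap, hx]
    exact L.one_mem
  exact IH T1.normalCore.index hidx (H.comap (pr1 K ρ (Nat.card K)))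
    (fun x : H.comap (pr1 K ρ (Nat.card K)) => τ.character (x : Gam K ρ (Nat.card K))) T1 _
    hτH hT1 hσ2 hind2 hq2 rfl

/-- Berger's theorem: a quasi-primitive irreducible character of a finite solvable group is
primitive -/
theorem berger {G : Type u} [Group G] [Fintype G] [Group.IsSolvable G] (χ : G → ℂ)
    (hχ : Cfsg.IsIrrCharacter G χ)
    (hqp : ∀ (N : Subgroup G), N.Normal → ∃ (ϑ : N → ℂ) (e : ℕ),
      Cfsg.IsIrrCharacter N ϑ ∧ (fun n : N => χ n) = (e : ℂ) • ϑ)
    (K : Subgroup G) (hK : K ≠ ⊤) (ψ : K → ℂ) (hψ : Cfsg.IsCharacter K ψ) :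
    Cfsg.indFun K ψ ≠ χ := by
  intro h
  exact noBad_of_linStep linStep (K.normalCore.index) G χ K ψ hχ hK hψ h
    (fun R hR _ => hqp R hR) rfl

end Cfsg.Agent.Lib.Helper3.Bg
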