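import Mathlib
import Cfsg.Agent.Lib.Helper8.C5Defs

set_option autoImplicit false
set_option maxHeartbeats 4000000
set_option maxRecDepth 100000
set_option linter.unusedVariables false
set_option linter.unusedSectionVars false
set_option linter.style.longLine false
set_option linter.dupNamespace false
set_option linter.deprecated false
set_option linter.style.haveILetI false
set_option linter.unusedSimpArgs false

/-! # S3433 piece Hd: in a configuration `Cfg Q T` a central involution of `Q` has exactly `12`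
square roots in `T` -/

open Cfsg.Agent.Lib.Helper8.C5

namespace Cfsg.Agent.Lib.Helper3.C5

universe u
variable {G : Type u} [Group G] [Finite G]

/-- `Z0 = C_Q(T)` -/
def Z0 (Q T : Subgroup G) : Subgroup G := Q ⊓ Subgroup.centralizer (T : Set G)

theorem mem_Z0 {Q T : Subgroup G} {q : G} : q ∈ Z0 Q T ↔ q ∈ Q ∧ ∀ t ∈ T, t * q = q * t := by
  unfold Z0
  rw [Subgroup.mem_inf, Subgroup.mem_centralizer_iff]
  rfl

theorem card_Z0 {Q T : Subgroup G} (hc : Cfg Q T) : Nat.card ↥(Z0 Q T) = 4 := by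
  rw [← hc.Zc]
  apply Nat.card_congr
  exact Equiv.subtypeEquivRight (fun q => mem_Z0)

theorem conj_inv_mem {Q T : Subgroup G} (hc : Cfg Q T) {u : G} (hu : u ∈ T) {q : G} (hq : q ∈ Q) :
    u⁻¹ * q * u ∈ Q := by
  have := hc.Qn u⁻¹ (T.inv_mem hu) q hq
  simpa using this

/-- `q ↦ (u⁻¹ q u) q` -/
def tau {Q T : Subgroup G} (hc : Cfg Q T) (u : G) (hu : u ∈ T) : ↥Q →* ↥Q where
  toFun q := ⟨u⁻¹ * q * u * q, Q.mul_mem (conj_inv_mem hc hu q.2) q.2⟩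
  map_one' := by ext; simp
  map_mul' a b := by
    ext
    simp only [Subgroup.coe_mul]
    have h1 := hc.Qab (u⁻¹ * b * u) (conj_inv_mem hc hu b.2) a a.2
    calc u⁻¹ * ((a : G) * b) * u * (a * b) = (u⁻¹ * a * u) * ((u⁻¹ * b * u) * a) * b := by group
      _ = (u⁻¹ * a * u) * (a * (u⁻¹ * b * u)) * b := by rw [h1]
      _ = _ := by group

theorem tau_coe {Q T : Subgroup G} (hc : Cfg Q T) (u : G) (hu : u ∈ T) (q : ↥Q) :
    ((tau hc u hu q : ↥Q) : G) = u⁻¹ * q * u * q := rfl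

theorem sq_mul (u q : G) : (u * q) ^ 2 = u ^ 2 * (u⁻¹ * q * u * q) := by
  rw [pow_two, pow_two]; group

theorem inv_eq_self {Q T : Subgroup G} (hc : Cfg Q T) {q : G} (hq : q ∈ Q) : q⁻¹ = q := by
  have := hc.Qe q hq
  rw [pow_two] at this
  exact inv_eq_of_mul_eq_one_left this

theorem mem_ker_tau {Q T : Subgroup G} (hc : Cfg Q T) (u : G) (hu : u ∈ T) (q : ↥Q) :
    q ∈ (tau hc u hu).ker ↔ u * (q : G) = q * u := by
  rw [MonoidHom.mem_ker]
  constructor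
  · intro h
    have h1 : u⁻¹ * q * u * q = 1 := by
      have := congrArg Subtype.val h
      simpa [tau_coe] using this
    have h2 : u⁻¹ * (q : G) * u = (q : G)⁻¹ := eq_inv_of_mul_eq_one_left h1
    rw [inv_eq_self hc q.2] at h2
    calc u * (q : G) = u * (u⁻¹ * q * u) := by rw [h2]
      _ = q * u := by group
  · intro h
    ext
    rw [tau_coe]
    have : u⁻¹ * (q : G) * u = q := by
      calc u⁻¹ * (q : G) * u = u⁻¹ * (q * u) := by group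
        _ = u⁻¹ * (u * q) := by rw [h]
        _ = q := by group
    rw [this, ← pow_two, hc.Qe q q.2]
    rfl

theorem sq_comm {Q T : Subgroup G} (hc : Cfg Q T) {u : G} (hu : u ∈ T) {q : G} (hq : q ∈ Q) :
    u⁻¹ * (u⁻¹ * q * u) * u = q := by
  have h2 : u * u ∈ Q := by
    have := hc.sq u hu
    rwa [pow_two] at this
  have := hc.Qab (u * u) h2 q hq
  calc u⁻¹ * (u⁻¹ * q * u) * u = (u * u)⁻¹ * (q * (u * u)) := by group
    _ = (u * u)⁻¹ * (u * u * q) := by rw [this]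
    _ = q := by group

theorem tau_mem_Z0 {Q T : Subgroup G} (hc : Cfg Q T) (u : G) (hu : u ∈ T) (huQ : u ∉ Q) (q : ↥Q) :
    ((tau hc u hu q : ↥Q) : G) ∈ Z0 Q T := by
  rw [mem_Z0]
  refine ⟨(tau hc u hu q).2, ?_⟩
  apply hc.cen u hu huQ _ (tau hc u hu q).2
  rw [tau_coe]
  -- u * τ = τ * u  ⇔ u⁻¹ τ u = τ
  have h1 : u⁻¹ * (u⁻¹ * q * u * q) * u = u⁻¹ * (q : G) * u * q := by
    have e1 : u⁻¹ * (u⁻¹ * q * u * q) * u = (u⁻¹ * (u⁻¹ * q * u) * u) * (u⁻¹ * q * u) := by group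
    rw [e1, sq_comm hc hu q.2]
    exact hc.Qab _ q.2 _ (conj_inv_mem hc hu q.2)
  calc u * (u⁻¹ * q * u * q) = u * (u⁻¹ * (u⁻¹ * q * u * q) * u) := by rw [h1]
    _ = u⁻¹ * q * u * q * u := by group

theorem card_ker_tau {Q T : Subgroup G} (hc : Cfg Q T) (u : G) (hu : u ∈ T) (huQ : u ∉ Q) :
    Nat.card ↥(tau hc u hu).ker = 4 := by
  rw [← card_Z0 hc]
  apply Nat.card_congr
  refine ⟨fun q => ⟨(q : ↥Q), ?_⟩, fun z => ⟨⟨z, (mem_Z0.mp z.2).1⟩, ?_⟩, ?_, ?_⟩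
  · rw [mem_Z0]
    refine ⟨(q : ↥Q).2, ?_⟩
    exact hc.cen u hu huQ _ (q : ↥Q).2 ((mem_ker_tau hc u hu _).mp q.2)
  · rw [mem_ker_tau]
    exact (mem_Z0.mp z.2).2 u hu
  · intro q; rfl
  · intro z; rfl

theorem card_range_tau {Q T : Subgroup G} (hc : Cfg Q T) (u : G) (hu : u ∈ T) (huQ : u ∉ Q) :
    Nat.card ↥(tau hc u hu).range = 4 := by
  have h1 := Subgroup.card_eq_card_quotient_mul_card_subgroup (tau hc u hu).ker
  rw [Nat.card_congr (QuotientGroup.quotientKerEquivRange (tau hc u hu)).toEquiv, hc.Qc,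
    card_ker_tau hc u hu huQ] at h1
  omega

theorem exists_tau_eq {Q T : Subgroup G} (hc : Cfg Q T) (u : G) (hu : u ∈ T) (huQ : u ∉ Q)
    {w : G} (hw : w ∈ Z0 Q T) : ∃ q0 : ↥Q, ((tau hc u hu q0 : ↥Q) : G) = w := by
  set R : Subgroup G := (tau hc u hu).range.map Q.subtype with hR
  have hRle : R ≤ Z0 Q T := by
    rintro x ⟨y, ⟨q, rfl⟩, rfl⟩
    exact tau_mem_Z0 hc u hu huQ q
  have hcardR : Nat.card ↥R = 4 := by
    rw [hR, Subgroup.card_map_of_injective (Subgroup.subtype_injective Q)]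
    exact card_range_tau hc u hu huQ
  have hReq : R = Z0 Q T := by
    apply Subgroup.eq_of_le_of_card_ge hRle
    rw [hcardR, card_Z0 hc]
  rw [← hReq] at hw
  obtain ⟨y, ⟨q, rfl⟩, rfl⟩ := hw
  exact ⟨q, rfl⟩

theorem card_fiber {Q T : Subgroup G} (hc : Cfg Q T) (u : G) (hu : u ∈ T) (huQ : u ∉ Q)
    {w : G} (hw : w ∈ Z0 Q T) :
    Nat.card {q : ↥Q // (u * (q : G)) ^ 2 = w} = 4 := by
  have hu2 : u ^ 2 ∈ Z0 Q T := by
    rw [mem_Z0]
    refine ⟨hc.sq u hu, ?_⟩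
    apply hc.cen u hu huQ _ (hc.sq u hu)
    group
  have hw' : (u ^ 2)⁻¹ * w ∈ Z0 Q T := Subgroup.mul_mem _ (Subgroup.inv_mem _ hu2) hw
  obtain ⟨q0, hq0⟩ := exists_tau_eq hc u hu huQ hw'
  rw [← card_ker_tau hc u hu huQ]
  apply Nat.card_congr
  refine ⟨fun q => ⟨(q : ↥Q) * q0⁻¹, ?_⟩, fun k => ⟨(k : ↥Q) * q0, ?_⟩, ?_, ?_⟩
  · rw [MonoidHom.mem_ker, map_mul, map_inv, mul_inv_eq_one]
    ext
    rw [hq0, tau_coe]
    have hq := q.2
    rw [sq_mul] at hq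
    exact eq_inv_mul_of_mul_eq hq
  · rw [sq_mul]
    have hk : tau hc u hu ((k : ↥Q) * q0) = tau hc u hu q0 := by
      rw [map_mul, MonoidHom.mem_ker.mp k.2, one_mul]
    have := congrArg Subtype.val hk
    rw [tau_coe, hq0] at this
    rw [this]; group
  · intro q; ext; simp
  · intro k; ext; simp

theorem card_compl {Q T : Subgroup G} (hc : Cfg Q T) :
    Nat.card {u : G // u ∈ T ∧ u ∉ Q} = 48 := by
  classical
  have h1 : Nat.card ↥T = Nat.card {t : ↥T // (t : G) ∈ Q} + Nat.card {t : ↥T // ¬ (t : G) ∈ Q} := by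
    rw [← Nat.card_sum]
    exact Nat.card_congr (Equiv.sumCompl (fun t : ↥T => (t : G) ∈ Q)).symm
  have h2 : Nat.card {t : ↥T // (t : G) ∈ Q} = Nat.card ↥Q := by
    apply Nat.card_congr
    refine ⟨fun t => ⟨(t : ↥T), t.2⟩, fun q => ⟨⟨q, hc.QT q.2⟩, q.2⟩, ?_, ?_⟩
    · intro t; rfl
    · intro q; rfl
  have h3 : Nat.card {t : ↥T // ¬ (t : G) ∈ Q} = Nat.card {u : G // u ∈ T ∧ u ∉ Q} := by
    apply Nat.card_congr
    refine ⟨fun t => ⟨(t : ↥T), (t : ↥T).2, t.2⟩, fun u => ⟨⟨u, u.2.1⟩, u.2.2⟩, ?_, ?_⟩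
    · intro t; rfl
    · intro u; rfl
  rw [hc.Tc, h2, hc.Qc, h3] at h1
  omega

theorem card_sqrt_of_cfg {Q T : Subgroup G} (hc : Cfg Q T) (z : G) (hzQ : z ∈ Q) (hz1 : z ≠ 1)
    (hzc : ∀ t ∈ T, t * z = z * t) : Nat.card {u : G // u ∈ T ∧ u ^ 2 = z} = 12 := by
  classical
  have hz0 : z ∈ Z0 Q T := mem_Z0.mpr ⟨hzQ, hzc⟩
  -- the roots lie outside Q
  have hS : Nat.card {u : G // u ∈ T ∧ u ^ 2 = z} =
      Nat.card {v : {u : G // u ∈ T ∧ u ∉ Q} // (v : G) ^ 2 = z} := by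
    apply Nat.card_congr
    refine ⟨fun u => ⟨⟨u, u.2.1, ?_⟩, u.2.2⟩, fun v => ⟨(v : {u : G // u ∈ T ∧ u ∉ Q}), (v : {u : G // u ∈ T ∧ u ∉ Q}).2.1, v.2⟩, ?_, ?_⟩
    · intro hq
      apply hz1
      rw [← u.2.2]
      exact hc.Qe _ hq
    · intro u; rfl
    · intro v; rfl
  rw [hS]
  -- double counting
  have hP2 : Nat.card {p : {u : G // u ∈ T ∧ u ∉ Q} × ↥Q // ((p.1 : G)) ^ 2 = z} =
      Nat.card {v : {u : G // u ∈ T ∧ u ∉ Q} // (v : G) ^ 2 = z} * 16 := by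
    rw [← hc.Qc, ← Nat.card_prod]
    apply Nat.card_congr
    refine ⟨fun p => (⟨p.1.1, p.2⟩, p.1.2), fun r => ⟨(r.1.1, r.2), r.1.2⟩, ?_, ?_⟩
    · intro p; rfl
    · intro r; rfl
  have hP12 : Nat.card {p : {u : G // u ∈ T ∧ u ∉ Q} × ↥Q // ((p.1 : G) * (p.2 : G)) ^ 2 = z} =
      Nat.card {p : {u : G // u ∈ T ∧ u ∉ Q} × ↥Q // ((p.1 : G)) ^ 2 = z} := by
    apply Nat.card_congr
    refine ⟨fun p => ⟨(⟨(p.1.1 : G) * (p.1.2 : G), T.mul_mem p.1.1.2.1 (hc.QT p.1.2.2), ?_⟩, p.1.2), p.2⟩,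
      fun r => ⟨(⟨(r.1.1 : G) * (r.1.2 : G)⁻¹, T.mul_mem r.1.1.2.1 (T.inv_mem (hc.QT r.1.2.2)), ?_⟩, r.1.2), ?_⟩, ?_, ?_⟩
    · intro hmem
      apply p.1.1.2.2
      have := Q.mul_mem hmem (Q.inv_mem p.1.2.2)
      simpa using this
    · intro hmem
      apply r.1.1.2.2
      have := Q.mul_mem hmem r.1.2.2
      simpa using this
    · show ((r.1.1 : G) * (r.1.2 : G)⁻¹ * (r.1.2 : G)) ^ 2 = z
      rw [inv_mul_cancel_right]; exact r.2
    · intro p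
      apply Subtype.ext
      apply Prod.ext
      · apply Subtype.ext
        show (p.1.1 : G) * (p.1.2 : G) * (p.1.2 : G)⁻¹ = p.1.1
        rw [mul_inv_cancel_right]
      · rfl
    · intro r
      apply Subtype.ext
      apply Prod.ext
      · apply Subtype.ext
        show (r.1.1 : G) * (r.1.2 : G)⁻¹ * (r.1.2 : G) = r.1.1
        rw [inv_mul_cancel_right]
      · rfl
  have hP1 : Nat.card {p : {u : G // u ∈ T ∧ u ∉ Q} × ↥Q // ((p.1 : G) * (p.2 : G)) ^ 2 = z} = 48 * 4 := by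
    haveI : Fintype {u : G // u ∈ T ∧ u ∉ Q} := Fintype.ofFinite _
    have e : {p : {u : G // u ∈ T ∧ u ∉ Q} × ↥Q // ((p.1 : G) * (p.2 : G)) ^ 2 = z} ≃
        Σ u : {u : G // u ∈ T ∧ u ∉ Q}, {q : ↥Q // ((u : G) * (q : G)) ^ 2 = z} :=
      ⟨fun p => ⟨p.1.1, ⟨p.1.2, p.2⟩⟩, fun s => ⟨(s.1, s.2.1), s.2.2⟩, fun p => rfl, fun s => rfl⟩
    rw [Nat.card_congr e, Nat.card_sigma]
    have : ∀ u : {u : G // u ∈ T ∧ u ∉ Q}, Nat.card {q : ↥Q // ((u : G) * (q : G)) ^ 2 = z} = 4 :=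
      fun u => card_fiber hc u u.2.1 u.2.2 hz0
    simp only [this]
    rw [Finset.sum_const, Finset.card_univ, ← Nat.card_eq_fintype_card, card_compl hc]
    rfl
  rw [hP12, hP2] at hP1
  omega

end Cfsg.Agent.Lib.Helper3.C5
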