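import Mathlib
import Cfsg.Prelude.Def_Exceptional
import Cfsg.Agent.Lib.Helper8.C5Defs

set_option autoImplicit false
set_option maxHeartbeats 4000000
set_option linter.unusedVariables false
set_option linter.unusedSectionVars false
set_option linter.style.longLine false
set_option linter.dupNamespace false

/-! # S3433 piece K2: a `C5` group is not a Suzuki group -/

open Cfsg.Agent.Lib.Helper8.C5

namespace Cfsg.Agent.Lib.Helper3.C5

universe u
variable {G : Type u} [Group G] [Finite G]

theorem four_pow_mod_fifteen (m : ℕ) : 4 ^ m % 15 = 1 ∨ 4 ^ m % 15 = 4 := by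
  induction m with
  | zero => left; norm_num
  | succ k ih =>
    rw [pow_succ]
    rcases ih with h | h
    · right; omega
    · left; omega

theorem not_suzuki (h5 : C5 G) (hS : Cfsg.IsSuzuki G) : False := by
  obtain ⟨_, m, hm, hcard⟩ := hS
  set q := 2 ^ (2 * m + 1) with hq
  have hq4 : q = 2 * 4 ^ m := by
    rw [hq, pow_succ, pow_mul]; norm_num; ring
  have h4m : 4 ≤ 4 ^ m := by
    calc 4 = 4 ^ 1 := by norm_num
      _ ≤ 4 ^ m := Nat.pow_le_pow_right (by norm_num) hm
  have hmod := four_pow_mod_fifteen m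
  have hq8 : 8 ≤ q := by omega
  have hn1 : q - 1 ≠ 1 := by omega
  have hrp : (q - 1).minFac.Prime := Nat.minFac_prime hn1
  have hrd : (q - 1).minFac ∣ q - 1 := Nat.minFac_dvd _
  set r := (q - 1).minFac with hr
  have hr2 : r ≠ 2 := by
    intro h2
    rw [h2] at hrd
    omega
  have hr3 : r ≠ 3 := by
    intro h3
    rw [h3] at hrd
    omega
  have hr5 : r ≠ 5 := by
    intro h5'
    rw [h5'] at hrd
    omega
  have hr4 : r ≠ 4 := by
    intro h4
    rw [h4] at hrp
    exact absurd hrp (by norm_num)
  have hr6 : 6 ≤ r := by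
    have := hrp.two_le
    omega
  have hdvd : r ∣ Nat.card G := by
    rw [hcard]
    exact Dvd.dvd.mul_left hrd _
  haveI : Fact r.Prime := ⟨hrp⟩
  obtain ⟨x, hx⟩ := exists_prime_orderOf_dvd_card' r hdvd
  have := (h5 x).2
  omega

end Cfsg.Agent.Lib.Helper3.C5
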