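import Mathlib
import Cfsg.Agent.Lib.Helper8.C5Defs

set_option autoImplicit false
set_option maxHeartbeats 4000000
set_option linter.unusedVariables false
set_option linter.unusedSectionVars false
set_option linter.style.longLine false
set_option linter.dupNamespace false
set_option linter.deprecated false
set_option linter.style.haveILetI false

/-! # S3433 piece N3 (reduction to prime index), with N1 and N2 as hypotheses -/

open Cfsg.Agent.Lib.Helper8.C5

namespace Cfsg.Agent.Lib.Helper3.C5

universe u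
variable {G : Type u} [Group G] [Finite G]

/-- N3 with N1 and N2 passed as hypotheses -/
theorem no_almost_simple_of
    (hN1 : ∀ (H : Type u) [Group H] [Finite H], C5 H → ∀ (N : Subgroup H) [N.Normal],
      IsSimpleGroup ↥N → ¬ IsSolvable ↥N → (Nat.card ↥N = 60 ∨ Nat.card ↥N = 360) →
      ∀ l : ℕ, (l = 3 ∨ l = 5) → N.index = l → False)
    (hN2 : ∀ (H : Type u) [Group H] [Finite H], C5 H → ∀ (N : Subgroup H) [N.Normal],
      IsSimpleGroup ↥N → ¬ IsSolvable ↥N → (Nat.card ↥N = 60 ∨ Nat.card ↥N = 360) →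
      N.index = 2 → False)
    (h5 : C5 G) (N : Subgroup G) [N.Normal] (hNs : IsSimpleGroup ↥N)
    (hNns : ¬ IsSolvable ↥N) (hcard : Nat.card ↥N = 60 ∨ Nat.card ↥N = 360) (hNtop : N ≠ ⊤) :
    False := by
  -- a prime dividing the index
  have hidx1 : N.index ≠ 1 := fun h => hNtop (Subgroup.index_eq_one.mp h)
  obtain ⟨l, hl, hld⟩ := Nat.exists_prime_and_dvd hidx1
  haveI : Fact l.Prime := ⟨hl⟩
  have hld' : l ∣ Nat.card (G ⧸ N) := by
    rw [← Subgroup.index_eq_card]; exact hld
  obtain ⟨y, hy⟩ := exists_prime_orderOf_dvd_card' l hld'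
  have h5q : C5 (G ⧸ N) := h5.quotient N
  have hl5 : l ≤ 5 := by rw [← hy]; exact (h5q y).2
  set G1 : Subgroup G := (Subgroup.zpowers y).comap (QuotientGroup.mk' N) with hG1
  have hNG1 : N ≤ G1 := by
    intro n hn
    rw [hG1, Subgroup.mem_comap]
    have : (QuotientGroup.mk' N) n = 1 := by
      rw [QuotientGroup.mk'_apply, QuotientGroup.eq_one_iff]; exact hn
    rw [this]; exact Subgroup.one_mem _
  have hrel : N.relIndex G1 = l := by
    have h1 : N = (⊥ : Subgroup (G ⧸ N)).comap (QuotientGroup.mk' N) := by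
      have := QuotientGroup.ker_mk' N
      rw [MonoidHom.ker] at this
      exact this.symm
    have h2 := Subgroup.relIndex_comap (H := (⊥ : Subgroup (G ⧸ N))) (QuotientGroup.mk' N) G1
    rw [← h1] at h2
    rw [h2, hG1, Subgroup.map_comap_eq_self_of_surjective (QuotientGroup.mk'_surjective N),
      Subgroup.relIndex_bot_left, Nat.card_zpowers, hy]
  -- transport to the group G1
  let e : ↥(N.subgroupOf G1) ≃* ↥N := Subgroup.subgroupOfEquivOfLe hNG1
  haveI hn' : (N.subgroupOf G1).Normal := inferInstance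
  have hs' : IsSimpleGroup ↥(N.subgroupOf G1) := by
    haveI := hNs
    exact e.isSimpleGroup
  have hns' : ¬ IsSolvable ↥(N.subgroupOf G1) := by
    intro hsol
    apply hNns
    haveI : Group.IsSolvable ↥(N.subgroupOf G1) := hsol
    exact Group.isSolvable_of_surjective (f := e.toMonoidHom) e.surjective
  have hcard' : Nat.card ↥(N.subgroupOf G1) = 60 ∨ Nat.card ↥(N.subgroupOf G1) = 360 := by
    rw [Nat.card_congr e.toEquiv]; exact hcard
  have hidx' : (N.subgroupOf G1).index = l := hrel
  have h51 : C5 ↥G1 := h5.subgroup G1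
  have hl2 : 2 ≤ l := hl.two_le
  have hl4 : l ≠ 4 := by
    intro h4; rw [h4] at hl; exact absurd hl (by norm_num)
  rcases (by omega : l = 2 ∨ l = 3 ∨ l = 5) with h | h | h
  · exact hN2 ↥G1 h51 (N.subgroupOf G1) hs' hns' hcard' (by rw [hidx', h])
  · exact hN1 ↥G1 h51 (N.subgroupOf G1) hs' hns' hcard' l (Or.inl h) hidx'
  · exact hN1 ↥G1 h51 (N.subgroupOf G1) hs' hns' hcard' l (Or.inr h) hidx'

end Cfsg.Agent.Lib.Helper3.C5
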