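import Mathlib
import Cfsg.Agent.S0887
import Cfsg.Agent.S4456
import Cfsg.Agent.S0187
import Cfsg.Agent.Lib.Helper6.BlkCover3
import Cfsg.Agent.Lib.Helper6.Multiplicity
import Cfsg.Agent.Lib.Helper6.Constituent
import Cfsg.Agent.Lib.Helper6.QuotChar

set_option autoImplicit false
set_option linter.unusedSectionVars false
set_option linter.unusedVariables false

/-! Groups with two character degrees: basic lemmas and solvability. -/

namespace Cfsg.Agent.Lib.Helper3.CD

open Cfsg Cfsg.Agent.Lib.Helper6

/-- all irreducible characters have degree one implies commutative -/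
theorem comm_of_all_linear {G : Type*} [Group G] [Finite G]
    (h : ∀ χ : Cfsg.IrrCharacter G, Cfsg.charDegree (χ : G → ℂ) = 1) :
    ∀ a b : G, a * b = b * a := by
  apply (Cfsg.Agent.S0187.result (G := G)).2
  intro χ
  rw [IsCharacter.apply_one_eq_charDegree (IsIrrCharacter.isCharacter χ.2), h χ]
  simp

/-- a noncommutative group has an irreducible character of degree not one -/
theorem exists_nonlinear {G : Type*} [Group G] [Finite G] (h : ∃ a b : G, a * b ≠ b * a) :
    ∃ χ : Cfsg.IrrCharacter G, Cfsg.charDegree (χ : G → ℂ) ≠ 1 := by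
  by_contra hno
  push Not at hno
  obtain ⟨a, b, hab⟩ := h
  exact hab (comm_of_all_linear hno a b)

/-- degrees of irreducible characters of a normal subgroup -/
theorem exists_over_degree {G : Type*} [Group G] [Finite G] (N : Subgroup G) [hN : N.Normal]
    (θ : Cfsg.IrrCharacter N) :
    ∃ χ : Cfsg.IrrCharacter G, Cfsg.charDegree (θ : N → ℂ) ∣ Cfsg.charDegree (χ : G → ℂ) ∧
      Cfsg.charDegree (χ : G → ℂ) / Cfsg.charDegree (θ : N → ℂ) ∣ N.index := by
  classical
  have : Fintype G := Fintype.ofFinite G
  have : Fintype N := Fintype.ofFinite N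
  obtain ⟨χ, hχ⟩ := exists_irr_over N θ
  refine ⟨χ, ?_⟩
  exact Cfsg.Agent.S0887.result N (χ : G → ℂ) χ.2 (θ : N → ℂ) θ.2 hχ _ _
    (IsCharacter.apply_one_eq_charDegree (IsIrrCharacter.isCharacter χ.2))
    (IsCharacter.apply_one_eq_charDegree (IsIrrCharacter.isCharacter θ.2))

/-- inflation of an irreducible character of a quotient, as an element of `IrrCharacter G` -/
theorem exists_inflation {G : Type*} [Group G] [Finite G] (K : Subgroup G) [hK : K.Normal]
    (β : Cfsg.IrrCharacter (G ⧸ K)) :
    ∃ χ : Cfsg.IrrCharacter G, (χ : G → ℂ) = (fun g => (β : G ⧸ K → ℂ) (QuotientGroup.mk g)) ∧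
      Cfsg.charDegree (χ : G → ℂ) = Cfsg.charDegree (β : G ⧸ K → ℂ) := by
  have : Fintype G := Fintype.ofFinite G
  refine ⟨⟨_, IsIrrCharacter.comp_mk K β.2⟩, rfl, ?_⟩
  unfold Cfsg.charDegree
  rfl

/-- degrees of a quotient are degrees of the group -/
theorem cd_quotient {G : Type*} [Group G] [Finite G] (K : Subgroup G) [hK : K.Normal] (m : ℕ)
    (hcd : ∀ χ : Cfsg.IrrCharacter G, Cfsg.charDegree (χ : G → ℂ) = 1 ∨
      Cfsg.charDegree (χ : G → ℂ) = m) (β : Cfsg.IrrCharacter (G ⧸ K)) :
    Cfsg.charDegree (β : G ⧸ K → ℂ) = 1 ∨ Cfsg.charDegree (β : G ⧸ K → ℂ) = m := by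
  obtain ⟨χ, _, hdeg⟩ := exists_inflation K β
  rw [← hdeg]
  exact hcd χ

theorem solvable_aux.{u} : ∀ (n : ℕ) (G : Type u) [Group G] [Finite G], Nat.card G = n →
    ∀ m : ℕ, (∀ χ : Cfsg.IrrCharacter G, Cfsg.charDegree (χ : G → ℂ) = 1 ∨
      Cfsg.charDegree (χ : G → ℂ) = m) → Group.IsSolvable G := by
  intro n
  induction n using Nat.strong_induction_on with
  | _ n ih =>
    intro G _ _ hn m hcd
    have : Fintype G := Fintype.ofFinite G
    by_cases hall : ∀ χ : Cfsg.IrrCharacter G, Cfsg.charDegree (χ : G → ℂ) = 1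
    · exact Group.isSolvable_of_comm (comm_of_all_linear hall)
    · push Not at hall
      obtain ⟨χ₀, hχ₀⟩ := hall
      have hm : Cfsg.charDegree (χ₀ : G → ℂ) = m := by
        rcases hcd χ₀ with h | h
        · exact absurd h hχ₀
        · exact h
      have hm1 : m ≠ 1 := by rw [← hm]; exact hχ₀
      have hm0 : m ≠ 0 := by
        rw [← hm]
        exact (IsIrrCharacter.charDegree_pos χ₀.2).ne'
      obtain ⟨p, hp, hpm⟩ := Nat.exists_prime_and_dvd hm1
      have hdeg : ∀ χ : Cfsg.IrrCharacter G, Cfsg.charDegree (χ : G → ℂ) ≠ 1 →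
          p ∣ Cfsg.charDegree (χ : G → ℂ) := by
        intro χ hχ
        rcases hcd χ with h | h
        · exact absurd h hχ
        · rw [h]; exact hpm
      obtain ⟨N, hNn, hcop, k, hk⟩ := Cfsg.Agent.S4456.result p hp hdeg
      have : Fintype N := Fintype.ofFinite N
      have hmG : m ∣ Nat.card G := by
        rw [← hm]
        exact IsIrrCharacter.charDegree_dvd_card χ₀.2
      have hlt : Nat.card N < n := by
        rw [← hn]
        have hle : Nat.card N ∣ Nat.card G := Subgroup.card_subgroup_dvd_card N
        rcases (Nat.le_of_dvd Nat.card_pos hle).lt_or_eq with h | h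
        · exact h
        · exfalso
          have : p ∣ Nat.card N := by rw [h]; exact hpm.trans hmG
          have h1 := Nat.Coprime.eq_one_of_dvd hcop.symm this
          exact hp.one_lt.ne' h1
      -- degrees of N
      set m' := m / p ^ (m.factorization p) with hm'
      have hNcd : ∀ θ : Cfsg.IrrCharacter N, Cfsg.charDegree (θ : N → ℂ) = 1 ∨
          Cfsg.charDegree (θ : N → ℂ) = m' := by
        intro θ
        obtain ⟨χ, hd1, hd2⟩ := exists_over_degree N θ
        set d := Cfsg.charDegree (θ : N → ℂ) with hd
        have hdpos : 0 < d := IsIrrCharacter.charDegree_pos θ.2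
        have hdN : d ∣ Nat.card N := IsIrrCharacter.charDegree_dvd_card θ.2
        have hdcop : Nat.Coprime d p := Nat.Coprime.coprime_dvd_left hdN hcop
        rcases hcd χ with h | h
        · left
          rw [h] at hd1
          exact Nat.dvd_one.mp hd1
        · right
          rw [h] at hd1 hd2
          rw [hk] at hd2
          -- d ∣ m, coprime to p ⇒ d ∣ m'
          have hmm : p ^ (m.factorization p) * m' = m := Nat.ordProj_mul_ordCompl_eq_self m p
          have h1 : d ∣ m' := by
            have : d ∣ p ^ (m.factorization p) * m' := by rw [hmm]; exact hd1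
            exact (Nat.Coprime.pow_right _ hdcop).dvd_of_dvd_mul_left this
          -- m' ∣ d
          have h2 : m' ∣ d := by
            obtain ⟨c, hc⟩ := hd1
            have hmd : m / d = c := by
              rw [hc]; exact Nat.mul_div_cancel_left c hdpos
            rw [hmd] at hd2
            have hm'cop : Nat.Coprime m' p := by
              have := Nat.coprime_ordCompl hp hm0
              exact this.symm
            have h3 : m' ∣ d * c := by
              rw [← hc]; exact Dvd.intro_left _ hmm
            have h4 : Nat.Coprime m' c :=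
              Nat.Coprime.coprime_dvd_right hd2 (Nat.Coprime.pow_right k hm'cop)
            exact h4.dvd_of_dvd_mul_right h3
          exact Nat.dvd_antisymm h1 h2
      have hNsol : Group.IsSolvable N := ih (Nat.card N) hlt N rfl m' hNcd
      -- G ⧸ N is a p-group
      haveI : Fact p.Prime := ⟨hp⟩
      have hQ : IsPGroup p (G ⧸ N) := by
        apply IsPGroup.of_card (n := k)
        rw [← hk, Subgroup.index_eq_card]
      have hQnil : Group.IsNilpotent (G ⧸ N) := hQ.isNilpotent
      have hQsol : Group.IsSolvable (G ⧸ N) := inferInstance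
      exact Group.isSolvable_of_ker_le_range N.subtype (QuotientGroup.mk' N) (by
        rw [QuotientGroup.ker_mk', Subgroup.range_subtype])

/-- a finite group with at most one nonlinear character degree is solvable -/
theorem solvable_of_two_degrees {G : Type*} [Group G] [Finite G] (m : ℕ)
    (hcd : ∀ χ : Cfsg.IrrCharacter G, Cfsg.charDegree (χ : G → ℂ) = 1 ∨
      Cfsg.charDegree (χ : G → ℂ) = m) : Group.IsSolvable G :=
  solvable_aux (Nat.card G) G rfl m hcd

end Cfsg.Agent.Lib.Helper3.CD
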