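import Mathlib
import Cfsg.Agent.Lib.Helper1.Rk4

set_option autoImplicit false
set_option linter.unusedSectionVars false
set_option linter.unusedVariables false

/-! Isaacs Lemma 12.3 (group-theoretic part): a finite solvable group whose derived subgroup is
nontrivial and contained in every nontrivial normal subgroup is a `p`-group, or a Frobenius-type
group with kernel the derived subgroup. -/

namespace Cfsg.Agent.Lib.Helper3.CD

variable {G : Type*} [Group G] [Finite G]

omit [Finite G] in
theorem comm_mem_commutator (a b : G) : a * b * a⁻¹ * b⁻¹ ∈ commutator G := by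
  have := Subgroup.commutator_mem_commutator (Subgroup.mem_top a) (Subgroup.mem_top b)
    (H₁ := (⊤ : Subgroup G)) (H₂ := ⊤)
  rw [commutatorElement_def] at this
  rw [commutator_def]
  exact this

omit [Finite G] in
theorem mem_cent_singleton {g n : G} :
    n ∈ Subgroup.centralizer ({g} : Set G) ↔ g * n = n * g := by
  rw [Subgroup.mem_centralizer_iff]
  constructor
  · intro h; exact h g rfl
  · intro h y hy
    rw [Set.mem_singleton_iff] at hy
    subst hy
    exact h

theorem commutator_comm (hsol : Group.IsSolvable G)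
    (hmin : ∀ L : Subgroup G, L.Normal → L ≠ ⊥ → commutator G ≤ L) :
    ∀ a ∈ commutator G, ∀ b ∈ commutator G, a * b = b * a := by
  have hN : (⁅commutator G, commutator G⁆ : Subgroup G).Normal := inferInstance
  have hbot : (⁅commutator G, commutator G⁆ : Subgroup G) = ⊥ := by
    by_contra hne
    have hle := hmin _ hN hne
    have heq : (⁅commutator G, commutator G⁆ : Subgroup G) = commutator G :=
      le_antisymm (Subgroup.commutator_le_left _ _) hle
    obtain ⟨n, hn⟩ := hsol.solvable
    have hall : ∀ k : ℕ, derivedSeries G (k + 1) = commutator G := by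
      intro k
      induction k with
      | zero => simp [derivedSeries_succ, commutator_def]
      | succ k ih => rw [derivedSeries_succ, ih, heq]
    have h1 : derivedSeries G (n + 1) = ⊥ := by
      rw [derivedSeries_succ, hn]
      exact Subgroup.commutator_bot_left ⊥
    rw [hall n] at h1
    apply hne
    rw [h1]
    exact Subgroup.commutator_bot_left ⊥
  intro a ha b hb
  have hab : a * b * a⁻¹ * b⁻¹ ∈ (⁅commutator G, commutator G⁆ : Subgroup G) := by
    have := Subgroup.commutator_mem_commutator ha hb
    rw [commutatorElement_def] at this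
    exact this
  rw [hbot, Subgroup.mem_bot] at hab
  calc a * b = (a * b * a⁻¹ * b⁻¹) * (b * a) := by group
    _ = b * a := by rw [hab, one_mul]

theorem exists_prime_exponent (hsol : Group.IsSolvable G)
    (hmin : ∀ L : Subgroup G, L.Normal → L ≠ ⊥ → commutator G ≤ L)
    (hne : commutator G ≠ ⊥) :
    ∃ p : ℕ, p.Prime ∧ ∀ x ∈ commutator G, x ^ p = 1 := by
  have hcomm := commutator_comm hsol hmin
  have hcard : Nat.card (commutator G) ≠ 1 := by
    intro h
    exact hne (Subgroup.card_eq_one.mp h)
  obtain ⟨p, hp, hpd⟩ := Nat.exists_prime_and_dvd hcard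
  haveI : Fact p.Prime := ⟨hp⟩
  refine ⟨p, hp, ?_⟩
  let Ω : Subgroup G :=
    { carrier := {x | x ∈ commutator G ∧ x ^ p = 1}
      one_mem' := ⟨one_mem _, one_pow _⟩
      mul_mem' := by
        rintro a b ⟨ha, ha1⟩ ⟨hb, hb1⟩
        refine ⟨mul_mem ha hb, ?_⟩
        have : Commute a b := hcomm a ha b hb
        rw [this.mul_pow, ha1, hb1, one_mul]
      inv_mem' := by
        rintro a ⟨ha, ha1⟩
        exact ⟨inv_mem ha, by rw [inv_pow, ha1, inv_one]⟩ }
  have hΩN : Ω.Normal := by
    constructor
    rintro n ⟨hn, hn1⟩ g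
    refine ⟨(inferInstance : (commutator G).Normal).conj_mem n hn g, ?_⟩
    rw [conj_pow, hn1, mul_one, mul_inv_cancel]
  have hΩne : Ω ≠ ⊥ := by
    obtain ⟨x, hx⟩ := exists_prime_orderOf_dvd_card' (G := commutator G) p hpd
    intro h
    have hxm : (x : G) ∈ Ω := by
      refine ⟨x.2, ?_⟩
      have : x ^ p = 1 := by rw [← hx]; exact pow_orderOf_eq_one x
      have h2 := congrArg (Subtype.val) this
      simpa using h2
    rw [h, Subgroup.mem_bot] at hxm
    have hx1 : x = 1 := Subtype.ext hxm
    rw [hx1, orderOf_one] at hx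
    exact hp.one_lt.ne hx
  intro x hx
  exact (hmin Ω hΩN hΩne hx).2

omit [Finite G] in
/-- if `y` commutes with `n`, and the commutator `[y⁻¹,h⁻¹]` commutes with `n`, then `y` commutes
with `h n h⁻¹`. -/
theorem conj_comm_aux {y n h : G} (hyn : y * n = n * y)
    (hcn : (y⁻¹ * h⁻¹ * y * h) * n = n * (y⁻¹ * h⁻¹ * y * h)) :
    y * (h * n * h⁻¹) = h * n * h⁻¹ * y := by
  have e1 : h⁻¹ * y * h = y * (y⁻¹ * h⁻¹ * y * h) := by group
  have e2 : (h⁻¹ * y * h) * n = n * (h⁻¹ * y * h) := by
    rw [e1, mul_assoc, hcn, ← mul_assoc, hyn, mul_assoc]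
  calc y * (h * n * h⁻¹) = h * ((h⁻¹ * y * h) * n) * h⁻¹ := by group
    _ = h * (n * (h⁻¹ * y * h)) * h⁻¹ := by rw [e2]
    _ = h * n * h⁻¹ * y := by group

theorem structure_thm (hsol : Group.IsSolvable G)
    (hmin : ∀ L : Subgroup G, L.Normal → L ≠ ⊥ → commutator G ≤ L)
    (hne : commutator G ≠ ⊥) :
    (∃ p : ℕ, p.Prime ∧ IsPGroup p G) ∨
    (∃ p : ℕ, p.Prime ∧ IsPGroup p (commutator G) ∧ ¬ p ∣ (commutator G).index ∧
      ∀ g : G, g ∉ commutator G → ∀ n ∈ commutator G, n * g = g * n → n = 1) := by
  classical
  have hcomm := commutator_comm hsol hmin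
  obtain ⟨p, hp, hexp⟩ := exists_prime_exponent hsol hmin hne
  haveI : Fact p.Prime := ⟨hp⟩
  have hMN : (commutator G).Normal := inferInstance
  have hMp : IsPGroup p (commutator G) := by
    intro x
    refine ⟨1, ?_⟩
    apply Subtype.ext
    simpa using hexp x x.2
  obtain ⟨m₀, hm₀, hm₀1⟩ : ∃ m ∈ commutator G, m ≠ 1 := by
    by_contra h
    push Not at h
    apply hne
    rw [Subgroup.eq_bot_iff_forall]
    exact h
  by_cases hZ : Subgroup.center G = ⊥
  · -- Frobenius case
    right
    refine ⟨p, hp, hMp, ?_⟩
    -- C_M(g) is normal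
    have hCMn : ∀ g : G, (commutator G ⊓ Subgroup.centralizer ({g} : Set G)).Normal := by
      intro g
      constructor
      intro n hn h
      rw [Subgroup.mem_inf] at hn ⊢
      obtain ⟨hn, hng⟩ := hn
      refine ⟨hMN.conj_mem n hn h, ?_⟩
      rw [mem_cent_singleton] at hng ⊢
      exact conj_comm_aux hng (hcomm _ (by
        have := comm_mem_commutator g⁻¹ h⁻¹
        simpa using this) n hn)
    have hdich : ∀ g : G, ¬ (commutator G ≤ Subgroup.centralizer ({g} : Set G)) →
        commutator G ⊓ Subgroup.centralizer ({g} : Set G) = ⊥ := by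
      intro g hg
      by_contra hne'
      exact hg (le_trans (hmin _ (hCMn g) hne') inf_le_right)
    -- C = C_G(M)
    set C : Subgroup G := Subgroup.centralizer (commutator G : Set G) with hC
    have hCN : C.Normal := inferInstance
    have hmemC : ∀ c : G, c ∈ C ↔ ∀ m ∈ commutator G, m * c = c * m := by
      intro c
      rw [hC, Subgroup.mem_centralizer_iff]
      rfl
    have hMC : commutator G ≤ C := by
      intro a ha
      rw [hmemC]
      intro b hb
      exact hcomm b hb a ha
    have hnotC : ∀ g : G, g ∉ C → commutator G ⊓ Subgroup.centralizer ({g} : Set G) = ⊥ := by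
      intro g hg
      apply hdich
      intro hle
      apply hg
      rw [hmemC]
      intro m hm
      have := hle hm
      rw [mem_cent_singleton] at this
      exact this.symm
    have hCtop : C ≠ ⊤ := by
      intro h
      have : commutator G ≤ Subgroup.center G := by
        intro m hm
        rw [Subgroup.mem_center_iff]
        intro g
        have hg : g ∈ C := by rw [h]; exact Subgroup.mem_top g
        rw [hmemC] at hg
        exact (hg m hm).symm
      rw [hZ] at this
      exact hne (le_bot_iff.mp this)
    obtain ⟨g₀, hg₀⟩ : ∃ g₀ : G, g₀ ∉ C := by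
      by_contra h
      push Not at h
      exact hCtop ((Subgroup.eq_top_iff' C).mpr h)
    have hfix₀ := hnotC g₀ hg₀
    -- D = C ⊓ C(g₀) is normal and meets M trivially
    have hDn : (C ⊓ Subgroup.centralizer ({g₀} : Set G)).Normal := by
      constructor
      intro d hd h
      rw [Subgroup.mem_inf] at hd ⊢
      obtain ⟨hd, hdg⟩ := hd
      refine ⟨hCN.conj_mem d hd h, ?_⟩
      rw [mem_cent_singleton] at hdg ⊢
      rw [hmemC] at hd
      exact conj_comm_aux hdg (hd _ (by
        have := comm_mem_commutator g₀⁻¹ h⁻¹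
        simpa using this))
    have hDbot : C ⊓ Subgroup.centralizer ({g₀} : Set G) = ⊥ := by
      by_contra hD
      have hle := hmin _ hDn hD
      have : commutator G ≤ commutator G ⊓ Subgroup.centralizer ({g₀} : Set G) :=
        le_inf le_rfl (le_trans hle inf_le_right)
      rw [hfix₀] at this
      exact hne (le_bot_iff.mp this)
    -- C = M
    have hCM : C ≤ commutator G := by
      intro c hc
      -- τ on M
      let τ : commutator G → commutator G := fun n =>
        ⟨(n : G) * g₀ * (n : G)⁻¹ * g₀⁻¹, comm_mem_commutator _ _⟩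
      have hτinj : Function.Injective τ := by
        intro n n' h
        have h' : (n : G) * g₀ * (n : G)⁻¹ * g₀⁻¹ = (n' : G) * g₀ * (n' : G)⁻¹ * g₀⁻¹ :=
          congrArg Subtype.val h
        have h2 : (n : G) * g₀ * (n : G)⁻¹ = (n' : G) * g₀ * (n' : G)⁻¹ :=
          mul_right_cancel h'
        have hmem : (n' : G)⁻¹ * (n : G) ∈
            commutator G ⊓ Subgroup.centralizer ({g₀} : Set G) := by
          rw [Subgroup.mem_inf]
          refine ⟨mul_mem ((commutator G).inv_mem n'.2) n.2, ?_⟩
          rw [mem_cent_singleton]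
          calc g₀ * ((n' : G)⁻¹ * (n : G))
              = (n' : G)⁻¹ * ((n' : G) * g₀ * (n' : G)⁻¹) * (n : G) := by group
            _ = (n' : G)⁻¹ * ((n : G) * g₀ * (n : G)⁻¹) * (n : G) := by rw [h2]
            _ = (n' : G)⁻¹ * (n : G) * g₀ := by group
        rw [hfix₀, Subgroup.mem_bot] at hmem
        apply Subtype.ext
        calc (n : G) = (n' : G) * ((n' : G)⁻¹ * (n : G)) := by group
          _ = (n' : G) := by rw [hmem, mul_one]
      have hτsurj : Function.Surjective τ := Finite.surjective_of_injective hτinj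
      have hcm : c * g₀ * c⁻¹ * g₀⁻¹ ∈ commutator G := comm_mem_commutator _ _
      obtain ⟨n, hn⟩ := hτsurj ⟨_, hcm⟩
      have hn' : (n : G) * g₀ * (n : G)⁻¹ * g₀⁻¹ = c * g₀ * c⁻¹ * g₀⁻¹ := congrArg Subtype.val hn
      have h2 : (n : G) * g₀ * (n : G)⁻¹ = c * g₀ * c⁻¹ := mul_right_cancel hn'
      have hmem : (n : G)⁻¹ * c ∈ C ⊓ Subgroup.centralizer ({g₀} : Set G) := by
        rw [Subgroup.mem_inf]
        refine ⟨mul_mem (C.inv_mem (hMC n.2)) hc, ?_⟩
        rw [mem_cent_singleton]
        calc g₀ * ((n : G)⁻¹ * c)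
            = (n : G)⁻¹ * ((n : G) * g₀ * (n : G)⁻¹) * c := by group
          _ = (n : G)⁻¹ * (c * g₀ * c⁻¹) * c := by rw [h2]
          _ = (n : G)⁻¹ * c * g₀ := by group
      rw [hDbot, Subgroup.mem_bot] at hmem
      have : c = (n : G) := by
        calc c = (n : G) * ((n : G)⁻¹ * c) := by group
          _ = (n : G) := by rw [hmem, mul_one]
      rw [this]
      exact n.2
    have hfpf : ∀ g : G, g ∉ commutator G → ∀ n ∈ commutator G, n * g = g * n → n = 1 := by
      intro g hg n hn hng
      have hgC : g ∉ C := fun h => hg (hCM h)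
      have hmem : n ∈ commutator G ⊓ Subgroup.centralizer ({g} : Set G) := by
        rw [Subgroup.mem_inf]
        refine ⟨hn, ?_⟩
        rw [mem_cent_singleton]
        exact hng.symm
      rw [hnotC g hgC, Subgroup.mem_bot] at hmem
      exact hmem
    refine ⟨?_, hfpf⟩
    -- p ∤ index
    intro hpd
    rw [Subgroup.index_eq_card] at hpd
    obtain ⟨q, hq⟩ := exists_prime_orderOf_dvd_card' (G := G ⧸ commutator G) p hpd
    obtain ⟨g, rfl⟩ := QuotientGroup.mk_surjective q
    have hgM : g ∉ commutator G := by
      intro h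
      have : (QuotientGroup.mk g : G ⧸ commutator G) = 1 := (QuotientGroup.eq_one_iff g).mpr h
      rw [this, orderOf_one] at hq
      exact hp.one_lt.ne hq
    have hgp : g ^ p ∈ commutator G := by
      have : (QuotientGroup.mk g : G ⧸ commutator G) ^ p = 1 := by
        rw [← hq]; exact pow_orderOf_eq_one _
      rw [← QuotientGroup.mk_pow] at this
      exact (QuotientGroup.eq_one_iff _).mp this
    let φ : MulAut (commutator G) := MulAut.conjNormal g
    have hφp : φ ^ p = 1 := by
      have : φ ^ p = MulAut.conjNormal (g ^ p) := by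
        rw [map_pow]
      rw [this]
      ext n
      rw [MulAut.conjNormal_apply, MulAut.one_apply]
      have := hcomm (g ^ p) hgp n n.2
      calc g ^ p * (n : G) * (g ^ p)⁻¹ = (n : G) * g ^ p * (g ^ p)⁻¹ := by rw [this]
        _ = n := by group
    have hmod := Cfsg.Agent.Lib.Helper1.Rk.card_modEq_card_fixedSub φ hφp
    have hpM : p ∣ Nat.card (commutator G) := by
      rcases hMp.card_eq_or_dvd with h | h
      · exfalso
        exact hne (Subgroup.card_eq_one.mp h)
      · exact h
    have hpF : p ∣ Nat.card (Cfsg.Agent.Lib.Helper1.Rk.fixedSub φ) :=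
      (Nat.modEq_zero_iff_dvd.mp ((hmod.symm.trans (Nat.modEq_zero_iff_dvd.mpr hpM))))
    have hFne : Cfsg.Agent.Lib.Helper1.Rk.fixedSub φ ≠ ⊥ := by
      intro h
      rw [h, Subgroup.card_bot] at hpF
      exact hp.one_lt.ne' (Nat.dvd_one.mp hpF)
    obtain ⟨n, hn, hn1⟩ : ∃ n ∈ Cfsg.Agent.Lib.Helper1.Rk.fixedSub φ, n ≠ 1 := by
      by_contra h
      push Not at h
      apply hFne
      rw [Subgroup.eq_bot_iff_forall]
      exact h
    rw [Cfsg.Agent.Lib.Helper1.Rk.mem_fixedSub] at hn
    have hn' : g * (n : G) * g⁻¹ = (n : G) := by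
      have := congrArg Subtype.val hn
      simpa [φ, MulAut.conjNormal_apply] using this
    have : (n : G) = 1 := by
      apply hfpf g hgM n n.2
      calc (n : G) * g = (g * (n : G) * g⁻¹) * g := by rw [hn']
        _ = g * n := by group
    exact hn1 (Subtype.ext this)
  · -- nilpotent case: G is a p-group
    left
    refine ⟨p, hp, ?_⟩
    have hMZ : commutator G ≤ Subgroup.center G := hmin _ inferInstance hZ
    have hcardne : Nat.card G ≠ 0 := Nat.card_pos.ne'
    have huniq : ∀ q : ℕ, q.Prime → q ∣ Nat.card G → q = p := by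
      intro q hq hqd
      by_contra hqp
      haveI : Fact q.Prime := ⟨hq⟩
      obtain ⟨x, hx⟩ := exists_prime_orderOf_dvd_card' (G := G) q hqd
      -- x is central
      have hxZ : x ∈ Subgroup.center G := by
        rw [Subgroup.mem_center_iff]
        intro g
        set c := x * g * x⁻¹ * g⁻¹ with hc
        have hcM : c ∈ commutator G := comm_mem_commutator _ _
        have hcZ : ∀ y : G, y * c = c * y := by
          intro y
          exact Subgroup.mem_center_iff.mp (hMZ hcM) y
        have hcp : c ^ p = 1 := hexp c hcM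
        have hpow : ∀ k : ℕ, x ^ k * g * (x ^ k)⁻¹ = c ^ k * g := by
          intro k
          induction k with
          | zero => simp
          | succ k ih =>
            have e1 : x * g * x⁻¹ = c * g := by rw [hc]; group
            calc x ^ (k + 1) * g * (x ^ (k + 1))⁻¹
                = x * (x ^ k * g * (x ^ k)⁻¹) * x⁻¹ := by rw [pow_succ']; group
              _ = x * (c ^ k * g) * x⁻¹ := by rw [ih]
              _ = (x * c ^ k) * g * x⁻¹ := by group
              _ = (c ^ k * x) * g * x⁻¹ := by
                  have : x * c ^ k = c ^ k * x := by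
                    have h1 : Commute x c := hcZ x
                    exact (h1.pow_right k)
                  rw [this]
              _ = c ^ k * (x * g * x⁻¹) := by group
              _ = c ^ k * (c * g) := by rw [e1]
              _ = c ^ (k + 1) * g := by rw [pow_succ]; group
        have hcq : c ^ q = 1 := by
          have h1 := hpow q
          have hxq : x ^ q = 1 := by rw [← hx]; exact pow_orderOf_eq_one x
          rw [hxq, one_mul, inv_one, mul_one] at h1
          have h2 : c ^ q * g = 1 * g := by rw [← h1, one_mul]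
          exact mul_right_cancel h2
        have hcop : Nat.Coprime q p := (Nat.coprime_primes hq hp).mpr hqp
        have hc1 : c = 1 := by
          have h1 : orderOf c ∣ q := orderOf_dvd_of_pow_eq_one hcq
          have h2 : orderOf c ∣ p := orderOf_dvd_of_pow_eq_one hcp
          have h3 : orderOf c ∣ Nat.gcd q p := Nat.dvd_gcd h1 h2
          rw [hcop] at h3
          exact orderOf_eq_one_iff.mp (Nat.dvd_one.mp h3)
        calc g * x = (x * g * x⁻¹ * g⁻¹)⁻¹ * (x * g) := by group
          _ = x * g := by rw [← hc, hc1, inv_one, one_mul]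
      have hzN : (Subgroup.zpowers x).Normal := by
        constructor
        intro n hn g
        have hnZ : n ∈ Subgroup.center G := by
          obtain ⟨k, rfl⟩ := Subgroup.mem_zpowers_iff.mp hn
          exact zpow_mem hxZ k
        have : g * n * g⁻¹ = n := by
          rw [Subgroup.mem_center_iff] at hnZ
          rw [hnZ g]; group
        rw [this]; exact hn
      have hzne : Subgroup.zpowers x ≠ ⊥ := by
        intro h
        have : x = 1 := by
          have hx' : x ∈ Subgroup.zpowers x := Subgroup.mem_zpowers x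
          rw [h, Subgroup.mem_bot] at hx'
          exact hx'
        rw [this, orderOf_one] at hx
        exact hq.one_lt.ne hx
      have hle := hmin _ hzN hzne
      have hm₀z := hle hm₀
      obtain ⟨k, hk⟩ := Subgroup.mem_zpowers_iff.mp hm₀z
      have hm₀q : m₀ ^ q = 1 := by
        rw [← hk, ← zpow_natCast, ← zpow_mul, mul_comm, zpow_mul, zpow_natCast]
        have hxq : x ^ q = 1 := by rw [← hx]; exact pow_orderOf_eq_one x
        rw [hxq, one_zpow]
      have hm₀p : m₀ ^ p = 1 := hexp m₀ hm₀
      have hcop : Nat.Coprime q p := (Nat.coprime_primes hq hp).mpr hqp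
      have h1 : orderOf m₀ ∣ q := orderOf_dvd_of_pow_eq_one hm₀q
      have h2 : orderOf m₀ ∣ p := orderOf_dvd_of_pow_eq_one hm₀p
      have h3 : orderOf m₀ ∣ Nat.gcd q p := Nat.dvd_gcd h1 h2
      rw [hcop] at h3
      exact hm₀1 (orderOf_eq_one_iff.mp (Nat.dvd_one.mp h3))
    have hpow := Nat.eq_prime_pow_of_unique_prime_dvd hcardne (fun {q} hq hqd => huniq q hq hqd)
    exact IsPGroup.of_card hpow

end Cfsg.Agent.Lib.Helper3.CD
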