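import Mathlib
import Cfsg.Agent.Lib.Helper3.CD1
import Cfsg.Agent.Lib.Helper3.CD2
import Cfsg.Agent.Lib.Helper3.GallagherDecomp
import Cfsg.Agent.Lib.Helper3.DetChar
import Cfsg.Agent.Lib.Helper6.Frobenius
import Cfsg.Agent.Lib.Helper6.CliffordStab
import Cfsg.Agent.Lib.Helper6.CharMisc

set_option autoImplicit false
set_option linter.unusedSectionVars false
set_option linter.unusedVariables false

/-! The Frobenius case of Isaacs' Theorem 12.5 (via Theorem 12.4). -/

namespace Cfsg.Agent.Lib.Helper3.CD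

open Cfsg Cfsg.Agent.Lib.Helper6

/-- Gallagher injectivity for functions constant on cosets -/
theorem coset_const_inj {T : Type*} [Group T] [Fintype T] (N : Subgroup T) [hN : N.Normal]
    [Fintype N] {θh : T → ℂ} (hθh : Cfsg.IsIrrCharacter T θh)
    (hθ : Cfsg.IsIrrCharacter N (fun n : N => θh n))
    (b₁ b₂ : T → ℂ) (h₁ : ∀ (m : N) (t : T), b₁ ((m : T) * t) = b₁ t)
    (h₂ : ∀ (m : N) (t : T), b₂ ((m : T) * t) = b₂ t)
    (h : ∀ t, b₁ t * θh t = b₂ t * θh t) : b₁ = b₂ := by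
  funext t
  obtain ⟨m, hm⟩ := GallagherDecomp.exists_ne_zero_coset N hθh hθ t
  have := h ((m : T) * t)
  rw [h₁, h₂] at this
  exact mul_right_cancel₀ hm this

section frob

variable {G : Type*} [Group G] [Fintype G] (K : Subgroup G) [hK : K.Normal]
  (M : Subgroup (G ⧸ K)) [hM : M.Normal]

/-- the preimage of `M` in `G` -/
abbrev preN : Subgroup G := M.comap (QuotientGroup.mk' K)

/-- the projection from the preimage onto `M` -/
abbrev projM : ↥(preN K M) →* ↥M := (QuotientGroup.mk' K).subgroupComap M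

theorem projM_surjective : Function.Surjective (projM K M) :=
  MonoidHom.subgroupComap_surjective_of_surjective _ _ (QuotientGroup.mk'_surjective K)

theorem projM_coe (n : ↥(preN K M)) : ((projM K M n : ↥M) : G ⧸ K) = QuotientGroup.mk (n : G) := rfl

theorem projM_of_mem (n : ↥(preN K M)) (hn : (n : G) ∈ K) : projM K M n = 1 := by
  apply Subtype.ext
  rw [projM_coe]
  exact (QuotientGroup.eq_one_iff _).mpr hn

theorem projM_conj (g : G) (n : ↥(preN K M)) :
    projM K M ⟨g * n * g⁻¹, (inferInstance : (preN K M).Normal).conj_mem n n.2 g⟩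
      = MulAut.conjNormal (QuotientGroup.mk g : G ⧸ K) (projM K M n) := by
  apply Subtype.ext
  rw [MulAut.conjNormal_apply, projM_coe, projM_coe]
  simp

/-- the twisted character `f ψ` -/
noncomputable def twistF (f : ↥M →* ℂˣ) (ψ : ↥(preN K M) → ℂ) : ↥(preN K M) → ℂ :=
  fun n => ((f (projM K M n) : ℂˣ) : ℂ) * ψ n

theorem twistF_irr (f : ↥M →* ℂˣ) {ψ : ↥(preN K M) → ℂ} (hψ : Cfsg.IsIrrCharacter _ ψ) :
    Cfsg.IsIrrCharacter _ (twistF K M f ψ) :=
  DetChar.isIrrCharacter_hom_mul (f.comp (projM K M)) hψ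

theorem twistF_one (f : ↥M →* ℂˣ) (ψ : ↥(preN K M) → ℂ) :
    twistF K M f ψ 1 = ψ 1 := by
  unfold twistF
  rw [map_one, map_one]
  simp

theorem fixed_unique [Fintype ↥(preN K M)]
    (ψ : ↥(preN K M) → ℂ) (hψ : Cfsg.IsIrrCharacter _ ψ)
    [Fintype ↥(K.subgroupOf (preN K M))]
    (hψK : Cfsg.IsIrrCharacter (K.subgroupOf (preN K M)) (fun k => ψ k))
    (g : G) (hg : ∀ x ∈ M, (QuotientGroup.mk g : G ⧸ K) * x = x * QuotientGroup.mk g → x = 1)
    (f₁ f₂ : ↥M →* ℂˣ)
    (h₁ : conjFun (preN K M) inferInstance (twistF K M f₁ ψ) g = twistF K M f₁ ψ)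
    (h₂ : conjFun (preN K M) inferInstance (twistF K M f₂ ψ) g = twistF K M f₂ ψ) :
    f₁ = f₂ := by
  classical
  set c : MulAut ↥M := MulAut.conjNormal (QuotientGroup.mk g : G ⧸ K) with hc
  have hKn : (K.subgroupOf (preN K M)).Normal := hK.subgroupOf _
  -- pointwise forms
  have e₁ : ∀ n : ↥(preN K M), ((f₁ (c (projM K M n)) : ℂˣ) : ℂ) *
      ψ ⟨g * n * g⁻¹, (inferInstance : (preN K M).Normal).conj_mem n n.2 g⟩
      = ((f₁ (projM K M n) : ℂˣ) : ℂ) * ψ n := by
    intro n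
    have := congrFun h₁ n
    rw [conjFun_apply] at this
    unfold twistF at this
    rw [projM_conj] at this
    exact this
  have e₂ : ∀ n : ↥(preN K M), ((f₂ (c (projM K M n)) : ℂˣ) : ℂ) *
      ψ ⟨g * n * g⁻¹, (inferInstance : (preN K M).Normal).conj_mem n n.2 g⟩
      = ((f₂ (projM K M n) : ℂˣ) : ℂ) * ψ n := by
    intro n
    have := congrFun h₂ n
    rw [conjFun_apply] at this
    unfold twistF at this
    rw [projM_conj] at this
    exact this
  let b₁ : ↥(preN K M) → ℂ := fun n =>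
    ((f₂ (c (projM K M n)) * (f₁ (c (projM K M n)))⁻¹ * f₁ (projM K M n) : ℂˣ) : ℂ)
  let b₂ : ↥(preN K M) → ℂ := fun n => ((f₂ (projM K M n) : ℂˣ) : ℂ)
  have hproj : ∀ (k : ↥(K.subgroupOf (preN K M))) (n : ↥(preN K M)),
      projM K M ((k : ↥(preN K M)) * n) = projM K M n := by
    intro k n
    rw [map_mul, projM_of_mem K M (k : ↥(preN K M)) (Subgroup.mem_subgroupOf.mp k.2), one_mul]
  have hb : b₁ = b₂ := by
    apply coset_const_inj (K.subgroupOf (preN K M)) hψ hψK b₁ b₂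
    · intro k n
      simp only [b₁]
      rw [hproj]
    · intro k n
      simp only [b₂]
      rw [hproj]
    · intro n
      simp only [b₁, b₂]
      have hu : ((f₁ (c (projM K M n)) : ℂˣ) : ℂ) ≠ 0 := Units.ne_zero _
      rw [← e₂ n]
      have e1' := e₁ n
      simp only [Units.val_mul, Units.val_inv_eq_inv_val]
      calc ((f₂ (c (projM K M n)) : ℂˣ) : ℂ) * ((f₁ (c (projM K M n)) : ℂˣ) : ℂ)⁻¹ *
            ((f₁ (projM K M n) : ℂˣ) : ℂ) * ψ n
          = ((f₂ (c (projM K M n)) : ℂˣ) : ℂ) * ((f₁ (c (projM K M n)) : ℂˣ) : ℂ)⁻¹ *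
            (((f₁ (projM K M n) : ℂˣ) : ℂ) * ψ n) := by ring
        _ = ((f₂ (c (projM K M n)) : ℂˣ) : ℂ) * ((f₁ (c (projM K M n)) : ℂˣ) : ℂ)⁻¹ *
            (((f₁ (c (projM K M n)) : ℂˣ) : ℂ) *
              ψ ⟨g * n * g⁻¹, (inferInstance : (preN K M).Normal).conj_mem n n.2 g⟩) := by
            rw [e1']
        _ = ((f₂ (c (projM K M n)) : ℂˣ) : ℂ) *
              ψ ⟨g * n * g⁻¹, (inferInstance : (preN K M).Normal).conj_mem n n.2 g⟩ := by
            field_simp
  have hA : ∀ x : ↥M, f₂ (c x) * (f₁ (c x))⁻¹ * f₁ x = f₂ x := by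
    intro x
    obtain ⟨n, rfl⟩ := projM_surjective K M x
    have := congrFun hb n
    simp only [b₁, b₂] at this
    exact Units.ext this
  ext y
  congr 1
  obtain ⟨k₀, hk₀, hk₀y⟩ := exists_commutator_eq M hM (QuotientGroup.mk g : G ⧸ K) hg (y : G ⧸ K) y.2
  set x : ↥M := ⟨k₀, hk₀⟩ with hx
  have hy : y = x⁻¹ * c x := by
    apply Subtype.ext
    rw [Subgroup.coe_mul, Subgroup.coe_inv, hc, MulAut.conjNormal_apply]
    exact hk₀y.symm
  rw [hy, map_mul, map_mul, map_inv, map_inv]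
  have := hA x
  rw [← this]
  rw [mul_inv_rev, mul_inv_rev, inv_inv, mul_assoc, mul_assoc, inv_mul_cancel, mul_one]


omit [Fintype G] in
/-- a Frobenius-type complement is smaller than the kernel -/
theorem index_lt_card [Finite G] (hMab : ∀ a ∈ M, ∀ b ∈ M, a * b = b * a)
    (hfpf : ∀ q : G ⧸ K, q ∉ M → ∀ x ∈ M, q * x = x * q → x = 1) (hMne : M ≠ ⊥) :
    M.index < Nat.card M := by
  classical
  obtain ⟨x₀, hx₀, hx₀1⟩ : ∃ x ∈ M, x ≠ 1 := by
    by_contra h
    push Not at h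
    apply hMne
    rw [Subgroup.eq_bot_iff_forall]
    exact h
  let φ : (G ⧸ K) ⧸ M → ↥M := fun c => Quotient.liftOn' c
    (fun q => (⟨q * x₀ * q⁻¹, hM.conj_mem x₀ hx₀ q⟩ : ↥M)) (by
      intro a b hab
      rw [QuotientGroup.leftRel_apply] at hab
      apply Subtype.ext
      simp only
      have hy := hMab _ hab x₀ hx₀
      calc a * x₀ * a⁻¹ = a * (a⁻¹ * b * x₀ * (a⁻¹ * b)⁻¹) * a⁻¹ := by
            rw [hy]; group
        _ = b * x₀ * b⁻¹ := by group)
  have hφ : ∀ q : G ⧸ K, φ (QuotientGroup.mk q) = ⟨q * x₀ * q⁻¹, hM.conj_mem x₀ hx₀ q⟩ := fun q => rfl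
  have hφinj : Function.Injective φ := by
    intro a b
    induction a using QuotientGroup.induction_on with
    | H a =>
    induction b using QuotientGroup.induction_on with
    | H b =>
    intro h
    rw [hφ, hφ] at h
    have h' : a * x₀ * a⁻¹ = b * x₀ * b⁻¹ := congrArg Subtype.val h
    rw [QuotientGroup.eq]
    by_contra hnot
    apply hx₀1
    apply hfpf (a⁻¹ * b) hnot x₀ hx₀
    calc a⁻¹ * b * x₀ = a⁻¹ * (b * x₀ * b⁻¹) * b := by group
      _ = a⁻¹ * (a * x₀ * a⁻¹) * b := by rw [h']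
      _ = x₀ * (a⁻¹ * b) := by group
  have hφ1 : ∀ c, φ c ≠ 1 := by
    intro c
    induction c using QuotientGroup.induction_on with
    | H a =>
    rw [hφ]
    intro h
    have h' : a * x₀ * a⁻¹ = 1 := congrArg Subtype.val h
    apply hx₀1
    calc x₀ = a⁻¹ * (a * x₀ * a⁻¹) * a := by group
      _ = 1 := by rw [h']; group
  let φ' : Option ((G ⧸ K) ⧸ M) → ↥M := fun o => match o with
    | none => 1
    | some c => φ c
  have hφ'inj : Function.Injective φ' := by
    intro a b h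
    match a, b with
    | none, none => rfl
    | none, some b => exact absurd h.symm (hφ1 b)
    | some a, none => exact absurd h (hφ1 a)
    | some a, some b => rw [hφinj h]
  have hle := Nat.card_le_card_of_injective φ' hφ'inj
  rw [Finite.card_option] at hle
  rw [Subgroup.index_eq_card]
  omega

theorem exists_stab_eq [Fintype ↥(preN K M)] (hMab : ∀ a ∈ M, ∀ b ∈ M, a * b = b * a)
    (hfpf : ∀ q : G ⧸ K, q ∉ M → ∀ x ∈ M, q * x = x * q → x = 1) (hMne : M ≠ ⊥)
    (ψ : ↥(preN K M) → ℂ) (hψ : Cfsg.IsIrrCharacter _ ψ)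
    [Fintype ↥(K.subgroupOf (preN K M))]
    (hψK : Cfsg.IsIrrCharacter (K.subgroupOf (preN K M)) (fun k => ψ k)) :
    ∃ f : ↥M →* ℂˣ, ∀ g : G,
      conjFun (preN K M) inferInstance (twistF K M f ψ) g = twistF K M f ψ → g ∈ preN K M := by
  classical
  by_contra hno
  push Not at hno
  choose gf hgf1 hgf2 using hno
  have hcard : Nat.card (↥M →* ℂˣ) = Nat.card ↥M :=
    card_hom_of_comm (fun a b => Subtype.ext (hMab a a.2 b b.2))
  have hlt := index_lt_card K M hMab hfpf hMne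
  let Φ : Option (↥M →* ℂˣ) → (G ⧸ K) ⧸ M := fun o => match o with
    | none => 1
    | some f => QuotientGroup.mk (QuotientGroup.mk (gf f) : G ⧸ K)
  have hΦ1 : ∀ f, Φ (some f) ≠ 1 := by
    intro f h
    have h' : (QuotientGroup.mk (QuotientGroup.mk (gf f) : G ⧸ K) : (G ⧸ K) ⧸ M) = 1 := h
    rw [QuotientGroup.eq_one_iff] at h'
    exact hgf2 f h'
  have hΦinj : Function.Injective Φ := by
    intro a b h
    match a, b with
    | none, none => rfl
    | none, some b => exact absurd h.symm (hΦ1 b)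
    | some a, none => exact absurd h (hΦ1 a)
    | some a, some b =>
      have h' : (QuotientGroup.mk (QuotientGroup.mk (gf a) : G ⧸ K) : (G ⧸ K) ⧸ M)
          = QuotientGroup.mk (QuotientGroup.mk (gf b) : G ⧸ K) := h
      rw [QuotientGroup.eq] at h'
      have hn : (gf b)⁻¹ * gf a ∈ preN K M := by
        show (QuotientGroup.mk' K ((gf b)⁻¹ * gf a)) ∈ M
        have := M.inv_mem h'
        simpa using this
      -- `gf b` fixes the twist of `a` too
      have hfix : conjFun (preN K M) inferInstance (twistF K M a ψ) (gf b) = twistF K M a ψ := by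
        have e : gf b = gf a * ((gf b)⁻¹ * gf a)⁻¹ := by group
        rw [e, ← conjFun_conjFun, hgf1 a]
        exact conjFun_of_mem _ _ (IsIrrCharacter.isClassFunction (twistF_irr K M a hψ))
          ((preN K M).inv_mem hn)
      have hfpf' : ∀ x ∈ M, (QuotientGroup.mk (gf b) : G ⧸ K) * x = x * QuotientGroup.mk (gf b) →
          x = 1 := fun x hx hxq => hfpf _ (hgf2 b) x hx hxq
      have := fixed_unique K M ψ hψ hψK (gf b) hfpf' a b hfix (hgf1 b)
      rw [this]
  have hle := Nat.card_le_card_of_injective Φ hΦinj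
  rw [Finite.card_option, hcard, ← Subgroup.index_eq_card] at hle
  omega


omit [Fintype G] in
theorem relIndex_preN [Finite G] : (K.subgroupOf (preN K M)).index = Nat.card M := by
  have h2 : (K.subgroupOf (preN K M)).index = K.relIndex (preN K M) := rfl
  have h3 : K.relIndex (preN K M)
      = ((⊥ : Subgroup (G ⧸ K)).comap (QuotientGroup.mk' K)).relIndex (preN K M) := by
    congr 1
    ext x
    rw [Subgroup.mem_comap, Subgroup.mem_bot, QuotientGroup.mk'_apply, QuotientGroup.eq_one_iff]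
  rw [h2, h3, Subgroup.relIndex_comap, Subgroup.map_comap_eq_self_of_surjective
    (QuotientGroup.mk'_surjective K), Subgroup.relIndex_bot_left]

omit [Fintype G] in
theorem index_preN : (preN K M).index = M.index :=
  Subgroup.index_comap_of_surjective M (QuotientGroup.mk'_surjective K)

/-- key step: characters of `N` restricting irreducibly to `K` are linear, and `|G:N| = m` -/
theorem key_step [Fintype ↥(preN K M)] (hMab : ∀ a ∈ M, ∀ b ∈ M, a * b = b * a)
    (hfpf : ∀ q : G ⧸ K, q ∉ M → ∀ x ∈ M, q * x = x * q → x = 1) (hMne : M ≠ ⊥)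
    (m : ℕ) (hm1 : m ≠ 1) (hmM : m ∣ M.index)
    (hcd : ∀ χ : Cfsg.IrrCharacter G, Cfsg.charDegree (χ : G → ℂ) = 1 ∨
      Cfsg.charDegree (χ : G → ℂ) = m)
    (ψ : ↥(preN K M) → ℂ) (hψ : Cfsg.IsIrrCharacter _ ψ)
    [Fintype ↥(K.subgroupOf (preN K M))]
    (hψK : Cfsg.IsIrrCharacter (K.subgroupOf (preN K M)) (fun k => ψ k)) :
    Cfsg.charDegree ψ = 1 ∧ M.index = m := by
  classical
  obtain ⟨f, hf⟩ := exists_stab_eq K M hMab hfpf hMne ψ hψ hψK
  have hθ := twistF_irr K M f hψ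
  have hN : (preN K M).Normal := inferInstance
  have hc : Cfsg.classInner (fun n : ↥(preN K M) =>
      ((⟨twistF K M f ψ, hθ⟩ : Cfsg.IrrCharacter ↥(preN K M)) : ↥(preN K M) → ℂ)
        ⟨n, le_refl (preN K M) n.2⟩)
      ((⟨twistF K M f ψ, hθ⟩ : Cfsg.IrrCharacter ↥(preN K M)) : ↥(preN K M) → ℂ) ≠ 0 := by
    have : (fun n : ↥(preN K M) => twistF K M f ψ ⟨n, le_refl (preN K M) n.2⟩)
        = twistF K M f ψ := rfl
    simp only
    rw [this, classInner_isIrrCharacter hθ hθ, if_pos rfl]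
    exact one_ne_zero
  have hind := indFun_isIrrCharacter_of_stab (preN K M) hN (preN K M) le_rfl
    ⟨twistF K M f ψ, hθ⟩ hf ⟨twistF K M f ψ, hθ⟩ hc
  simp only at hind
  set d := Cfsg.charDegree ψ with hd
  have hdeg : Cfsg.charDegree (Cfsg.indFun (preN K M) (twistF K M f ψ)) = M.index * d := by
    have h1 := IsCharacter.apply_one_eq_charDegree (IsIrrCharacter.isCharacter hind)
    rw [indFun_one, twistF_one, IsCharacter.apply_one_eq_charDegree (IsIrrCharacter.isCharacter hψ),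
      index_preN] at h1
    exact_mod_cast h1.symm
  have hidx0 : M.index ≠ 0 := Subgroup.index_ne_zero_of_finite
  have hm0 : m ≠ 0 := by
    rintro rfl
    exact hidx0 (Nat.eq_zero_of_zero_dvd hmM)
  have hdpos : 0 < d := IsIrrCharacter.charDegree_pos hψ
  obtain ⟨c, hc'⟩ := hmM
  rcases hcd ⟨_, hind⟩ with h | h
  · exfalso
    simp only at h
    rw [hdeg] at h
    have h1 : M.index = 1 := Nat.eq_one_of_mul_eq_one_right h
    rw [h1] at hc'
    exact hm1 (Nat.eq_one_of_mul_eq_one_right hc'.symm)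
  · simp only at h
    rw [hdeg, hc'] at h
    have h2 : m * (c * d) = m * 1 := by rw [mul_one, ← mul_assoc]; exact h
    have h3 : c * d = 1 := Nat.eq_of_mul_eq_mul_left (Nat.pos_of_ne_zero hm0) h2
    have hc1 : c = 1 := Nat.eq_one_of_mul_eq_one_right h3
    have hd1 : d = 1 := Nat.eq_one_of_mul_eq_one_left h3
    exact ⟨hd1, by rw [hc', hc1, mul_one]⟩

theorem frobenius_case (hMab : ∀ a ∈ M, ∀ b ∈ M, a * b = b * a)
    (p : ℕ) (hp : p.Prime) (hMp : IsPGroup p M) (hMne : M ≠ ⊥)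
    (hfpf : ∀ q : G ⧸ K, q ∉ M → ∀ x ∈ M, q * x = x * q → x = 1)
    (m : ℕ) (hm1 : m ≠ 1) (hmM : m ∣ M.index) (hpM : ¬ p ∣ M.index)
    (hcd : ∀ χ : Cfsg.IrrCharacter G, Cfsg.charDegree (χ : G → ℂ) = 1 ∨
      Cfsg.charDegree (χ : G → ℂ) = m) :
    (∀ a ∈ preN K M, ∀ b ∈ preN K M, a * b = b * a) ∧ (preN K M).index = m := by
  classical
  have : Fintype ↥(preN K M) := Fintype.ofFinite _
  have : Fintype ↥(K.subgroupOf (preN K M)) := Fintype.ofFinite _
  have hKn : (K.subgroupOf (preN K M)).Normal := hK.subgroupOf _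
  have hirr1 : Cfsg.IsIrrCharacter ↥(preN K M) (fun _ => (1 : ℂ)) := isIrrCharacter_one
  have hirr1K : Cfsg.IsIrrCharacter ↥(K.subgroupOf (preN K M)) (fun _ => (1 : ℂ)) :=
    isIrrCharacter_one
  have hidx : M.index = m :=
    (key_step K M hMab hfpf hMne m hm1 hmM hcd (fun _ => (1 : ℂ)) hirr1 hirr1K).2
  refine ⟨?_, by rw [index_preN, hidx]⟩
  haveI : Fact p.Prime := ⟨hp⟩
  obtain ⟨k, hk⟩ := IsPGroup.iff_card.mp hMp
  have hall : ∀ ψ : Cfsg.IrrCharacter ↥(preN K M), Cfsg.charDegree (ψ : ↥(preN K M) → ℂ) = 1 := by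
    intro ψ
    set d := Cfsg.charDegree (ψ : ↥(preN K M) → ℂ) with hd
    -- p ∤ d
    have hdm : d ∣ M.index := by
      obtain ⟨χ, h1, _⟩ := exists_over_degree (preN K M) ψ
      rcases hcd χ with h | h
      · rw [h] at h1
        exact h1.trans (one_dvd _)
      · rw [h] at h1
        exact h1.trans hmM
    have hpd : ¬ p ∣ d := fun h => hpM (h.trans hdm)
    have hres : Cfsg.IsCharacter ↥(K.subgroupOf (preN K M))
        (fun k : ↥(K.subgroupOf (preN K M)) => (ψ : ↥(preN K M) → ℂ) k) :=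
      IsCharacter.restrict _ (IsIrrCharacter.isCharacter ψ.2)
    have hres1 : (fun k : ↥(K.subgroupOf (preN K M)) => (ψ : ↥(preN K M) → ℂ) k) 1 ≠ 0 :=
      IsIrrCharacter.apply_one_ne_zero ψ.2
    obtain ⟨ϑ, hϑ⟩ := IsCharacter.exists_constituent hres hres1
    have h887 := Cfsg.Agent.S0887.result (K.subgroupOf (preN K M)) (ψ : ↥(preN K M) → ℂ) ψ.2
      (ϑ : ↥(K.subgroupOf (preN K M)) → ℂ) ϑ.2 hϑ _ _
      (IsCharacter.apply_one_eq_charDegree (IsIrrCharacter.isCharacter ψ.2))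
      (IsCharacter.apply_one_eq_charDegree (IsIrrCharacter.isCharacter ϑ.2))
    obtain ⟨h1, h2⟩ := h887
    rw [relIndex_preN, hk] at h2
    set d' := Cfsg.charDegree (ϑ : ↥(K.subgroupOf (preN K M)) → ℂ) with hd'
    have hd'pos : 0 < d' := IsIrrCharacter.charDegree_pos ϑ.2
    have hquot : d / d' = 1 := by
      have h3 : d / d' ∣ d := Nat.div_dvd_of_dvd h1
      have hcop : Nat.Coprime (d / d') p := by
        rw [Nat.coprime_comm, Nat.Prime.coprime_iff_not_dvd hp]
        exact fun h => hpd (h.trans h3)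
      exact Nat.Coprime.eq_one_of_dvd (Nat.Coprime.pow_right k hcop) h2
    have hdd' : d = d' := by
      have := Nat.div_mul_cancel h1
      rw [hquot, one_mul] at this
      exact this.symm
    have heq : (fun k : ↥(K.subgroupOf (preN K M)) => (ψ : ↥(preN K M) → ℂ) k)
        = (ϑ : ↥(K.subgroupOf (preN K M)) → ℂ) := by
      apply IsCharacter.eq_of_constituent_of_apply_one_eq hres ϑ.2 hϑ
      rw [IsCharacter.apply_one_eq_charDegree (IsIrrCharacter.isCharacter ϑ.2), ← hd', ← hdd']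
      exact IsCharacter.apply_one_eq_charDegree (IsIrrCharacter.isCharacter ψ.2)
    have hirrK : Cfsg.IsIrrCharacter ↥(K.subgroupOf (preN K M))
        (fun k : ↥(K.subgroupOf (preN K M)) => (ψ : ↥(preN K M) → ℂ) k) := by
      rw [heq]; exact ϑ.2
    exact (key_step K M hMab hfpf hMne m hm1 hmM hcd (ψ : ↥(preN K M) → ℂ) ψ.2 hirrK).1
  have hcomm := comm_of_all_linear hall
  intro a ha b hb
  have := hcomm ⟨a, ha⟩ ⟨b, hb⟩
  exact congrArg Subtype.val this

end frob

end Cfsg.Agent.Lib.Helper3.CD
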