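import Mathlib
import Cfsg.Agent.Lib.Helper3.CD1
import Cfsg.Agent.Lib.Helper3.CD2
import Cfsg.Agent.Lib.Helper3.GallagherDecomp
import Cfsg.Agent.Lib.Helper6.CliffordStab
import Cfsg.Agent.Lib.Helper6.Linear
import Cfsg.Agent.Lib.Helper6.Ito
import Cfsg.Agent.S0865

set_option autoImplicit false
set_option linter.unusedSectionVars false
set_option linter.unusedVariables false

/-! Inertia groups of linear characters of a normal abelian Hall subgroup, in a group with two
character degrees. -/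

namespace Cfsg.Agent.Lib.Helper3.CD

open Cfsg Cfsg.Agent.Lib.Helper6

/-- extension of an invariant linear character of a normal subgroup of coprime index -/
theorem exists_linear_extension {T : Type*} [Group T] [Finite T] (N : Subgroup T) [hN : N.Normal]
    (f : ↥N →* ℂˣ)
    (hinv : ∀ (t : T) (n : N), f ⟨t * n * t⁻¹, hN.conj_mem (n : T) n.2 t⟩ = f n)
    (hcop : Nat.Coprime N.index (Nat.card N)) :
    ∃ μ : T → ℂ, Cfsg.IsIrrCharacter T μ ∧ μ 1 = 1 ∧ ∀ n : N, μ n = ((f n : ℂˣ) : ℂ) := by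
  set lam : N → ℂ := fun n => ((f n : ℂˣ) : ℂ) with hlam
  have hlamc : Cfsg.IsCharacter N lam := IsIrrCharacter.isCharacter (isIrrCharacter_of_hom f)
  have hlam1 : lam 1 = 1 := by simp [hlam]
  have hord : orderOf lam ∣ Nat.card N := by
    apply orderOf_dvd_of_pow_eq_one
    funext n
    rw [Pi.pow_apply, Pi.one_apply, hlam]
    simp only
    rw [← Units.val_pow_eq_pow_val, ← map_pow, pow_card_eq_one', map_one, Units.val_one]
  have hcop' : Nat.Coprime N.index (orderOf lam) := Nat.Coprime.coprime_dvd_right hord hcop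
  obtain ⟨μ, ⟨hμc, hμ1, hμN, _⟩, _⟩ := Cfsg.Agent.S0865.result N lam ⟨hlamc, hlam1⟩
    (by
      intro g n
      simp only [hlam]
      rw [hinv g n]) hcop'
  exact ⟨μ, IsCharacter.isIrr_of_apply_one_eq_one hμc hμ1, hμ1, hμN⟩

section inertia

variable {G : Type*} [Group G] [Fintype G] (N : Subgroup G) [hN : N.Normal]

/-- the inertia group of a linear character -/
abbrev inertiaHom (f : ↥N →* ℂˣ) : Subgroup G := inertia N hN (fun n => ((f n : ℂˣ) : ℂ))

theorem mem_inertiaHom (f : ↥N →* ℂˣ) (g : G) :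
    g ∈ inertiaHom N f ↔ ∀ n : N, f ⟨g * n * g⁻¹, hN.conj_mem (n : G) n.2 g⟩ = f n := by
  rw [mem_inertia]
  constructor
  · intro h n
    have := congrFun h n
    rw [conjFun_apply] at this
    exact Units.ext this
  · intro h
    funext n
    rw [conjFun_apply, h n]

theorem le_inertiaHom (f : ↥N →* ℂˣ) : N ≤ inertiaHom N f :=
  le_inertia N hN (IsIrrCharacter.isClassFunction (isIrrCharacter_of_hom f))

theorem inertia_structure (f : ↥N →* ℂˣ) (m : ℕ)
    (hcd : ∀ χ : Cfsg.IrrCharacter G, Cfsg.charDegree (χ : G → ℂ) = 1 ∨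
      Cfsg.charDegree (χ : G → ℂ) = m)
    (hcop : Nat.Coprime N.index (Nat.card N)) (hT : inertiaHom N f ≠ ⊤) :
    (inertiaHom N f).index = m ∧
      ∀ a ∈ inertiaHom N f, ∀ b ∈ inertiaHom N f, a * b * a⁻¹ * b⁻¹ ∈ N := by
  classical
  set T := inertiaHom N f with hTdef
  have hNT : N ≤ T := le_inertiaHom N f
  have : Fintype N := Fintype.ofFinite N
  have : Fintype T := Fintype.ofFinite T
  set N' : Subgroup ↥T := N.subgroupOf T with hN'
  have hN'n : N'.Normal := hN.subgroupOf T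
  have : Fintype N' := Fintype.ofFinite N'
  let e : N' ≃* N := Subgroup.subgroupOfEquivOfLe hNT
  have he : ∀ k : N', ((e k : N) : G) = ((k : ↥T) : G) := fun k => rfl
  set f' : ↥N' →* ℂˣ := f.comp e.toMonoidHom with hf'
  have hf'apply : ∀ k : N', f' k = f (e k) := fun k => rfl
  have hinv : ∀ (t : ↥T) (n : N'), f' ⟨t * n * t⁻¹, hN'n.conj_mem (n : ↥T) n.2 t⟩ = f' n := by
    intro t n
    rw [hf'apply, hf'apply]
    have ht := (mem_inertiaHom N f (t : G)).mp t.2 (e n)
    rw [← ht]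
    congr 1
  have hidx : N'.index ∣ N.index := by
    have h1 : N'.index = N.relIndex T := rfl
    rw [h1]
    exact Subgroup.relIndex_dvd_index_of_le hNT
  have hcardN' : Nat.card N' = Nat.card N := Nat.card_congr e.toEquiv
  have hcop' : Nat.Coprime N'.index (Nat.card N') := by
    rw [hcardN']
    exact Nat.Coprime.coprime_dvd_left hidx hcop
  obtain ⟨μ, hμirr, hμ1, hμN⟩ := exists_linear_extension N' f' hinv hcop'
  have hμres : Cfsg.IsIrrCharacter N' (fun n : N' => μ n) := by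
    have : (fun n : N' => μ n) = fun n : N' => ((f' n : ℂˣ) : ℂ) := by
      funext n; exact hμN n
    rw [this]
    exact isIrrCharacter_of_hom f'
  have hlamirr : Cfsg.IsIrrCharacter N (fun n => ((f n : ℂˣ) : ℂ)) := isIrrCharacter_of_hom f
  -- the induced characters
  have key : ∀ β : Cfsg.IrrCharacter (↥T ⧸ N'),
      T.index * Cfsg.charDegree (β : ↥T ⧸ N' → ℂ) = m := by
    intro β
    have hψ := GallagherDecomp.isIrrCharacter_infl_mul N' hμirr hμres β
    set ψ : ↥T → ℂ := (fun t : ↥T => (β : ↥T ⧸ N' → ℂ) (QuotientGroup.mk t)) * μ with hψdef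
    have hres : (fun n : N => ψ ⟨n, hNT n.2⟩)
        = ((β : ↥T ⧸ N' → ℂ) 1) • (fun n : N => ((f n : ℂˣ) : ℂ)) := by
      funext n
      have hmem : (⟨(n : G), hNT n.2⟩ : ↥T) ∈ N' := Subgroup.mem_subgroupOf.mpr n.2
      rw [hψdef, Pi.mul_apply, Pi.smul_apply, smul_eq_mul]
      have h1 : (QuotientGroup.mk (⟨(n : G), hNT n.2⟩ : ↥T) : ↥T ⧸ N') = 1 :=
        (QuotientGroup.eq_one_iff _).mpr hmem
      rw [h1]
      have h2 := hμN ⟨⟨(n : G), hNT n.2⟩, hmem⟩
      simp only at h2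
      rw [h2, hf'apply]
      congr 3
    have hc : Cfsg.classInner (fun n : N => ((⟨ψ, hψ⟩ : Cfsg.IrrCharacter ↥T) : ↥T → ℂ)
        ⟨n, hNT n.2⟩) ((⟨_, hlamirr⟩ : Cfsg.IrrCharacter N) : N → ℂ) ≠ 0 := by
      simp only
      rw [hres, classInner_smul_left, classInner_isIrrCharacter hlamirr hlamirr, if_pos rfl, mul_one]
      exact IsIrrCharacter.apply_one_ne_zero β.2
    have hstab : ∀ g : G, conjFun N hN ((⟨_, hlamirr⟩ : Cfsg.IrrCharacter N) : N → ℂ) g
        = ((⟨_, hlamirr⟩ : Cfsg.IrrCharacter N) : N → ℂ) → g ∈ T := fun g hg => hg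
    have hind := indFun_isIrrCharacter_of_stab N hN T hNT ⟨_, hlamirr⟩ hstab ⟨ψ, hψ⟩ hc
    simp only at hind
    have hdeg : Cfsg.charDegree (Cfsg.indFun T ψ) = T.index * Cfsg.charDegree (β : ↥T ⧸ N' → ℂ) := by
      have h1 := IsCharacter.apply_one_eq_charDegree (IsIrrCharacter.isCharacter hind)
      rw [indFun_one] at h1
      have h2 : ψ 1 = (β : ↥T ⧸ N' → ℂ) 1 := by
        rw [hψdef, Pi.mul_apply, hμ1, mul_one]
        rfl
      rw [h2, IsCharacter.apply_one_eq_charDegree (IsIrrCharacter.isCharacter β.2)] at h1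
      exact_mod_cast h1.symm
    rcases hcd ⟨_, hind⟩ with h | h
    · exfalso
      simp only at h
      rw [hdeg] at h
      have : T.index = 1 := Nat.eq_one_of_mul_eq_one_right h
      exact hT (Subgroup.index_eq_one.mp this)
    · simp only at h
      rw [← hdeg]
      exact h
  have hone : Cfsg.IsIrrCharacter (↥T ⧸ N') (fun _ => (1 : ℂ)) := isIrrCharacter_one
  have hTm : T.index = m := by
    have := key ⟨_, hone⟩
    have h1 : Cfsg.charDegree (fun _ : ↥T ⧸ N' => (1 : ℂ)) = 1 := by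
      unfold Cfsg.charDegree
      simp
    simp only at this
    rw [h1, mul_one] at this
    exact this
  refine ⟨hTm, ?_⟩
  have hm0 : m ≠ 0 := by
    rw [← hTm]
    exact Subgroup.index_ne_zero_of_finite
  have hall : ∀ β : Cfsg.IrrCharacter (↥T ⧸ N'), Cfsg.charDegree (β : ↥T ⧸ N' → ℂ) = 1 := by
    intro β
    have := key β
    rw [hTm] at this
    have h2 : m * Cfsg.charDegree (β : ↥T ⧸ N' → ℂ) = m * 1 := by rw [mul_one]; exact this
    exact Nat.eq_of_mul_eq_mul_left (Nat.pos_of_ne_zero hm0) h2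
  have hcomm := comm_of_all_linear hall
  intro a ha b hb
  have h1 := hcomm (QuotientGroup.mk ⟨a, ha⟩) (QuotientGroup.mk ⟨b, hb⟩)
  have h2 : (QuotientGroup.mk ((⟨a, ha⟩ : ↥T) * ⟨b, hb⟩ * (⟨a, ha⟩ : ↥T)⁻¹ * (⟨b, hb⟩ : ↥T)⁻¹) :
      ↥T ⧸ N') = 1 := by
    rw [QuotientGroup.mk_mul, QuotientGroup.mk_mul, QuotientGroup.mk_mul, QuotientGroup.mk_inv,
      QuotientGroup.mk_inv, h1]
    group
  rw [QuotientGroup.eq_one_iff] at h2
  exact Subgroup.mem_subgroupOf.mp h2

end inertia

end Cfsg.Agent.Lib.Helper3.CD
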