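import Mathlib
import Cfsg.Agent.Lib.Helper3.CD1
import Cfsg.Agent.Lib.Helper3.CD2
import Cfsg.Agent.Lib.Helper3.CD5
import Cfsg.Agent.Lib.Helper8.Codegree2

set_option autoImplicit false
set_option linter.unusedSectionVars false
set_option linter.unusedVariables false

/-! The prime power case of Isaacs' Theorem 12.5. -/

namespace Cfsg.Agent.Lib.Helper3.CD

open Cfsg Cfsg.Agent.Lib.Helper6

/-- the join of an abelian subgroup with a central cyclic subgroup is abelian -/
theorem comm_sup_zpowers {Q : Type*} [Group Q] (H : Subgroup Q)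
    (hH : ∀ a ∈ H, ∀ b ∈ H, a * b = b * a) (z : Q) (hz : z ∈ Subgroup.center Q) :
    ∀ a ∈ H ⊔ Subgroup.zpowers z, ∀ b ∈ H ⊔ Subgroup.zpowers z, a * b = b * a := by
  have hzc : ∀ w ∈ Subgroup.zpowers z, ∀ g : Q, g * w = w * g := by
    intro w hw g
    obtain ⟨k, rfl⟩ := Subgroup.mem_zpowers_iff.mp hw
    have : z ^ k ∈ Subgroup.center Q := zpow_mem hz k
    exact Subgroup.mem_center_iff.mp this g
  have h1 : ∀ h ∈ H, ∀ a ∈ H ⊔ Subgroup.zpowers z, a * h = h * a := by
    intro h hh a ha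
    have hle : H ⊔ Subgroup.zpowers z ≤ Subgroup.centralizer ({h} : Set Q) := by
      apply sup_le
      · intro x hx
        rw [Subgroup.mem_centralizer_iff]
        intro y hy
        rw [Set.mem_singleton_iff] at hy
        subst hy
        exact hH y hh x hx
      · intro x hx
        rw [Subgroup.mem_centralizer_iff]
        intro y hy
        exact hzc x hx y
    have := hle ha
    rw [Subgroup.mem_centralizer_iff] at this
    exact (this h rfl).symm
  intro a ha b hb
  have hle : H ⊔ Subgroup.zpowers z ≤ Subgroup.centralizer ({a} : Set Q) := by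
    apply sup_le
    · intro x hx
      rw [Subgroup.mem_centralizer_iff]
      intro y hy
      rw [Set.mem_singleton_iff] at hy
      subst hy
      exact h1 x hx y ha
    · intro x hx
      rw [Subgroup.mem_centralizer_iff]
      intro y hy
      exact hzc x hx y
  have := hle hb
  rw [Subgroup.mem_centralizer_iff] at this
  exact this a rfl

/-- an element whose powers by two coprime numbers are trivial is trivial -/
theorem eq_one_of_pow_coprime {Q : Type*} [Group Q] {x : Q} {a b : ℕ} (hab : Nat.Coprime a b)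
    (ha : x ^ a = 1) (hb : x ^ b = 1) : x = 1 := by
  have h1 : orderOf x ∣ a := orderOf_dvd_of_pow_eq_one ha
  have h2 : orderOf x ∣ b := orderOf_dvd_of_pow_eq_one hb
  have h3 : orderOf x ∣ Nat.gcd a b := Nat.dvd_gcd h1 h2
  rw [hab] at h3
  exact orderOf_eq_one_iff.mp (Nat.dvd_one.mp h3)

section pp

variable {G : Type*} [Group G] [Finite G] (p : ℕ)

/-- the abelian normal `p`-complement -/
theorem exists_abelian_complement (hp : p.Prime) (e : ℕ)
    (hcd : ∀ χ : Cfsg.IrrCharacter G, Cfsg.charDegree (χ : G → ℂ) = 1 ∨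
      Cfsg.charDegree (χ : G → ℂ) = p ^ e) :
    ∃ N : Subgroup G, N.Normal ∧ (Nat.card N).Coprime p ∧ (∃ k : ℕ, N.index = p ^ k) ∧
      ∀ a ∈ N, ∀ b ∈ N, a * b = b * a := by
  have hdeg : ∀ χ : Cfsg.IrrCharacter G, Cfsg.charDegree (χ : G → ℂ) ≠ 1 →
      p ∣ Cfsg.charDegree (χ : G → ℂ) := by
    intro χ hχ
    rcases hcd χ with h | h
    · exact absurd h hχ
    · rw [h]
      have he : e ≠ 0 := by
        rintro rfl
        rw [pow_zero] at h
        exact hχ h
      exact dvd_pow_self p he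
  obtain ⟨N, hNn, hcop, hk⟩ := Cfsg.Agent.S4456.result p hp hdeg
  refine ⟨N, hNn, hcop, hk, ?_⟩
  have : Fintype N := Fintype.ofFinite N
  have hall : ∀ θ : Cfsg.IrrCharacter N, Cfsg.charDegree (θ : N → ℂ) = 1 := by
    intro θ
    obtain ⟨χ, hd1, _⟩ := exists_over_degree N θ
    have hdN : Cfsg.charDegree (θ : N → ℂ) ∣ Nat.card N := IsIrrCharacter.charDegree_dvd_card θ.2
    have hdcop : Nat.Coprime (Cfsg.charDegree (θ : N → ℂ)) p :=
      Nat.Coprime.coprime_dvd_left hdN hcop
    rcases hcd χ with h | h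
    · rw [h] at hd1
      exact Nat.dvd_one.mp hd1
    · rw [h] at hd1
      exact Nat.Coprime.eq_one_of_dvd (Nat.Coprime.pow_right e hdcop) hd1
  have hcomm := comm_of_all_linear hall
  intro a ha b hb
  exact congrArg Subtype.val (hcomm ⟨a, ha⟩ ⟨b, hb⟩)

/-- the central case: `G` is the product of a Sylow `p`-subgroup and `N` -/
theorem central_case (hp : p.Prime) (N : Subgroup G) [hN : N.Normal]
    (hcop : (Nat.card N).Coprime p) (k : ℕ) (hk : N.index = p ^ k)
    (hNab : ∀ a ∈ N, ∀ b ∈ N, a * b = b * a) (hNZ : N ≤ Subgroup.center G) :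
    ∃ P A : Subgroup G, P.Normal ∧ A.Normal ∧ IsPGroup p P ∧
      (∀ a ∈ A, ∀ b ∈ A, a * b = b * a) ∧ P ⊓ A = ⊥ ∧ P ⊔ A = ⊤ := by
  haveI : Fact p.Prime := ⟨hp⟩
  obtain ⟨P⟩ : Nonempty (Sylow p G) := inferInstance
  have hPidx : ¬ p ∣ (P : Subgroup G).index := P.not_dvd_index
  have hsup : (P : Subgroup G) ⊔ N = ⊤ := by
    rw [← Subgroup.index_eq_one]
    have h1 : ((P : Subgroup G) ⊔ N).index ∣ N.index := Subgroup.index_dvd_of_le le_sup_right
    have h2 : ((P : Subgroup G) ⊔ N).index ∣ (P : Subgroup G).index :=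
      Subgroup.index_dvd_of_le le_sup_left
    rw [hk] at h1
    have hcop' : Nat.Coprime (P : Subgroup G).index p := by
      rw [Nat.coprime_comm, Nat.Prime.coprime_iff_not_dvd hp]
      exact hPidx
    have hcop'' : Nat.Coprime ((P : Subgroup G) ⊔ N).index (p ^ k) :=
      Nat.Coprime.pow_right k (Nat.Coprime.coprime_dvd_left h2 hcop')
    exact Nat.Coprime.eq_one_of_dvd hcop'' h1
  have hPn : (P : Subgroup G).Normal := by
    rw [← Subgroup.normalizer_eq_top_iff, eq_top_iff, ← hsup]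
    apply sup_le
    · exact Subgroup.le_normalizer
    · intro n hn
      rw [Subgroup.mem_normalizer_iff]
      intro h
      have hc := Subgroup.mem_center_iff.mp (hNZ hn)
      have : n * h * n⁻¹ = h := by
        rw [← hc h]; group
      rw [this]
  have hinf : (P : Subgroup G) ⊓ N = ⊥ := by
    rw [← disjoint_iff]
    apply Subgroup.disjoint_of_coprime_natCard
    obtain ⟨j, hj⟩ := IsPGroup.iff_card.mp P.isPGroup'
    rw [hj]
    exact Nat.Coprime.pow_left j hcop.symm
  exact ⟨P, N, hPn, hN, P.isPGroup', hNab, hinf, hsup⟩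

end pp


section noncentral

variable {G : Type*} [Group G] [Fintype G] (N : Subgroup G) [hN : N.Normal]

theorem centralizer_le_inertiaHom (f : ↥N →* ℂˣ) :
    Subgroup.centralizer (N : Set G) ≤ inertiaHom N f := by
  intro c hc
  rw [mem_inertiaHom]
  intro n
  congr 1
  apply Subtype.ext
  rw [Subgroup.mem_centralizer_iff] at hc
  have := hc n n.2
  simp only
  rw [← this]
  group

theorem exists_hom_not_fixed (hNab : ∀ a ∈ N, ∀ b ∈ N, a * b = b * a) (g n : G) (hn : n ∈ N)
    (hgn : g * n ≠ n * g) : ∃ f : ↥N →* ℂˣ, g ∉ inertiaHom N f := by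
  have hNcomm : ∀ a b : ↥N, a * b = b * a := fun a b => Subtype.ext (hNab a a.2 b b.2)
  set x : ↥N := ⟨g * n * g⁻¹, hN.conj_mem n hn g⟩ * (⟨n, hn⟩ : ↥N)⁻¹ with hx
  have hx1 : x ≠ 1 := by
    intro h
    have h' := congrArg Subtype.val h
    simp only [hx, Subgroup.coe_mul, Subgroup.coe_inv, Subgroup.coe_one] at h'
    apply hgn
    calc g * n = (g * n * g⁻¹ * n⁻¹) * n * g := by group
      _ = n * g := by rw [h', one_mul]
  obtain ⟨f, hf⟩ := exists_hom_ne_one_of_comm hNcomm hx1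
  refine ⟨f, ?_⟩
  intro hg
  rw [mem_inertiaHom] at hg
  apply hf
  rw [hx, map_mul, map_inv]
  have := hg ⟨n, hn⟩
  simp only at this
  rw [this, mul_inv_cancel]

theorem quotient_centralizer_comm (p : ℕ) (hp : p.Prime) (hcopN : (Nat.card N).Coprime p)
    (k : ℕ) (hk : N.index = p ^ k) (hNab : ∀ a ∈ N, ∀ b ∈ N, a * b = b * a) (e : ℕ)
    (hcd : ∀ χ : Cfsg.IrrCharacter G, Cfsg.charDegree (χ : G → ℂ) = 1 ∨
      Cfsg.charDegree (χ : G → ℂ) = p ^ e) :
    ∀ a b : G, a * b * a⁻¹ * b⁻¹ ∈ Subgroup.centralizer (N : Set G) := by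
  classical
  set C := Subgroup.centralizer (N : Set G) with hC
  have hCn : C.Normal := inferInstance
  have hNC : N ≤ C := by
    intro a ha
    rw [hC, Subgroup.mem_centralizer_iff]
    intro b hb
    exact hNab b hb a ha
  have hcop : Nat.Coprime N.index (Nat.card N) := by
    rw [hk]
    exact Nat.Coprime.pow_left k hcopN.symm
  by_contra hno
  push Not at hno
  obtain ⟨a, b, hab⟩ := hno
  have hQ : ∃ x y : G ⧸ C, x * y ≠ y * x := by
    refine ⟨QuotientGroup.mk a, QuotientGroup.mk b, ?_⟩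
    intro h
    apply hab
    rw [← QuotientGroup.eq_one_iff]
    rw [QuotientGroup.mk_mul, QuotientGroup.mk_mul, QuotientGroup.mk_mul, QuotientGroup.mk_inv,
      QuotientGroup.mk_inv, h]
    group
  obtain ⟨β, hβ⟩ := exists_nonlinear hQ
  have hβdeg : Cfsg.charDegree (β : G ⧸ C → ℂ) = p ^ e :=
    (cd_quotient C (p ^ e) hcd β).resolve_left hβ
  have hCidx : C.index ∣ p ^ k := hk ▸ Subgroup.index_dvd_of_le hNC
  obtain ⟨j, hj, hCj⟩ := (Nat.dvd_prime_pow hp).mp hCidx
  haveI : Fact p.Prime := ⟨hp⟩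
  have hQp : IsPGroup p (G ⧸ C) := by
    apply IsPGroup.of_card (n := j)
    rw [← Subgroup.index_eq_card]
    exact hCj
  obtain ⟨x₀, y₀, hxy₀⟩ := hQ
  haveI : Nontrivial (G ⧸ C) := nontrivial_of_ne _ _ hxy₀
  have hZ := hQp.center_nontrivial
  obtain ⟨⟨zb, hzb⟩, hzb1⟩ := exists_ne (1 : Subgroup.center (G ⧸ C))
  obtain ⟨z, rfl⟩ := QuotientGroup.mk_surjective zb
  have hzC : z ∉ C := by
    intro h
    apply hzb1
    apply Subtype.ext
    exact (QuotientGroup.eq_one_iff z).mpr h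
  obtain ⟨n, hn, hzn⟩ : ∃ n ∈ N, z * n ≠ n * z := by
    by_contra h
    push Not at h
    apply hzC
    rw [hC, Subgroup.mem_centralizer_iff]
    intro n hn
    exact (h n hn).symm
  obtain ⟨f, hf⟩ := exists_hom_not_fixed N hNab z n hn hzn
  have hT : inertiaHom N f ≠ ⊤ := fun h => hf (h ▸ Subgroup.mem_top z)
  obtain ⟨hTidx, hTcomm⟩ := inertia_structure N f (p ^ e) hcd hcop hT
  set T := inertiaHom N f with hTdef
  have hCT : C ≤ T := centralizer_le_inertiaHom N f
  set Tb : Subgroup (G ⧸ C) := T.map (QuotientGroup.mk' C) with hTb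
  have hTbab : ∀ x ∈ Tb, ∀ y ∈ Tb, x * y = y * x := by
    rintro _ ⟨s, hs, rfl⟩ _ ⟨t, ht, rfl⟩
    have h1 := hNC (hTcomm s hs t ht)
    rw [← QuotientGroup.eq_one_iff] at h1
    rw [QuotientGroup.mk_mul, QuotientGroup.mk_mul, QuotientGroup.mk_mul, QuotientGroup.mk_inv,
      QuotientGroup.mk_inv] at h1
    simp only [QuotientGroup.mk'_apply]
    calc (QuotientGroup.mk s : G ⧸ C) * QuotientGroup.mk t
        = ((QuotientGroup.mk s : G ⧸ C) * QuotientGroup.mk t * (QuotientGroup.mk s)⁻¹ *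
          (QuotientGroup.mk t)⁻¹) * (QuotientGroup.mk t * QuotientGroup.mk s) := by group
      _ = QuotientGroup.mk t * QuotientGroup.mk s := by rw [h1, one_mul]
  set zp : Subgroup (G ⧸ C) := Subgroup.zpowers (QuotientGroup.mk z : G ⧸ C) with hzp
  have hA := comm_sup_zpowers Tb hTbab (QuotientGroup.mk z : G ⧸ C) hzb
  have hle := Cfsg.Agent.Lib.Helper8.Codegree.charDegree_le_index_of_comm β.2 _ hA
  have hTbidx : Tb.index = p ^ e := by
    rw [hTb, Subgroup.index_map_eq _ (QuotientGroup.mk'_surjective C)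
      (by rw [QuotientGroup.ker_mk']; exact hCT)]
    exact hTidx
  have hdvd : (Tb ⊔ zp).index ∣ Tb.index := Subgroup.index_dvd_of_le le_sup_left
  have hpe : 0 < p ^ e := pow_pos hp.pos e
  have hAidx : (Tb ⊔ zp).index = p ^ e := by
    apply le_antisymm
    · exact Nat.le_of_dvd hpe (hTbidx ▸ hdvd)
    · rw [← hβdeg]; exact hle
  have hrel : Tb.relIndex (Tb ⊔ zp) = 1 := by
    have := Subgroup.relIndex_mul_index (le_sup_left : Tb ≤ Tb ⊔ zp)
    rw [hAidx, hTbidx] at this
    have h2 : Tb.relIndex (Tb ⊔ zp) * p ^ e = 1 * p ^ e := by rw [one_mul]; exact this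
    exact Nat.eq_of_mul_eq_mul_right hpe h2
  have hzpTb : zp ≤ Tb := le_trans le_sup_right (Subgroup.relIndex_eq_one.mp hrel)
  have hzTb : (QuotientGroup.mk z : G ⧸ C) ∈ Tb := hzpTb (Subgroup.mem_zpowers _)
  obtain ⟨t, ht, htz⟩ := hzTb
  have h1 : t⁻¹ * z ∈ C := QuotientGroup.eq.mp htz
  have h2 : z ∈ T := by
    have := T.mul_mem ht (hCT h1)
    simpa using this
  exact hf h2

end noncentral

end Cfsg.Agent.Lib.Helper3.CD
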