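import Mathlib
import Cfsg.Agent.Lib.Helper3.CD6

set_option autoImplicit false
set_option linter.unusedSectionVars false
set_option linter.unusedVariables false

/-! The prime power case of Isaacs' Theorem 12.5, continued: regular orbits. -/

namespace Cfsg.Agent.Lib.Helper3.CD

open Cfsg Cfsg.Agent.Lib.Helper6

section noncentral

variable {G : Type*} [Group G] [Fintype G] (N : Subgroup G) [hN : N.Normal]

theorem inertia_le_centralizer (p : ℕ) (hp : p.Prime) (hcopN : (Nat.card N).Coprime p)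
    (k : ℕ) (hk : N.index = p ^ k) (hNab : ∀ a ∈ N, ∀ b ∈ N, a * b = b * a) (e : ℕ)
    (hcd : ∀ χ : Cfsg.IrrCharacter G, Cfsg.charDegree (χ : G → ℂ) = 1 ∨
      Cfsg.charDegree (χ : G → ℂ) = p ^ e)
    (hQab : ∀ a b : G, a * b * a⁻¹ * b⁻¹ ∈ Subgroup.centralizer (N : Set G))
    (f : ↥N →* ℂˣ) (hT : inertiaHom N f ≠ ⊤) :
    inertiaHom N f ≤ Subgroup.centralizer (N : Set G) := by
  classical
  intro y hy
  by_contra hyC
  have hcopk : Nat.Coprime (p ^ k) (Nat.card N) := Nat.Coprime.pow_left k hcopN.symm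
  have hcop : Nat.Coprime N.index (Nat.card N) := by rw [hk]; exact hcopk
  have hNcomm : ∀ a b : ↥N, a * b = b * a := fun a b => Subtype.ext (hNab a a.2 b b.2)
  set cj : MulAut ↥N := MulAut.conjNormal y with hcj
  have hcjcoe : ∀ n : ↥N, ((cj n : ↥N) : G) = y * n * y⁻¹ := fun n => MulAut.conjNormal_apply y n
  let τ : ↥N →* ↥N := MonoidHom.mk' (fun n => cj n * n⁻¹) (by
    intro a b
    rw [map_mul, mul_inv_rev, hNcomm b⁻¹ a⁻¹]
    calc cj a * cj b * (a⁻¹ * b⁻¹) = cj a * (cj b * a⁻¹) * b⁻¹ := by group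
      _ = cj a * (a⁻¹ * cj b) * b⁻¹ := by rw [hNcomm (cj b) a⁻¹]
      _ = cj a * a⁻¹ * (cj b * b⁻¹) := by group)
  have hτ : ∀ n, τ n = cj n * n⁻¹ := fun n => rfl
  -- (τ1)
  have hfτ : ∀ n, f (τ n) = 1 := by
    intro n
    rw [hτ, map_mul, map_inv]
    have h1 := (mem_inertiaHom N f y).mp hy n
    have e1 : cj n = ⟨y * n * y⁻¹, hN.conj_mem n n.2 y⟩ := Subtype.ext (hcjcoe n)
    rw [e1, h1, mul_inv_cancel]
  -- (τ2)
  have hτ2 : ∀ n, τ (τ n) = 1 → τ n = 1 := by
    intro n h
    set x := τ n with hx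
    have hcx : cj x = x := by
      have h' := h
      rw [hτ] at h'
      exact mul_inv_eq_one.mp h'
    have hcn : cj n = x * n := by
      rw [hx, hτ, inv_mul_cancel_right]
    have hpow : ∀ j : ℕ, (cj ^ j) n = x ^ j * n := by
      intro j
      induction j with
      | zero => simp
      | succ j ih =>
        rw [pow_succ', MulAut.mul_apply, ih, map_mul, map_pow, hcx, hcn, pow_succ, mul_assoc]
    have hyk : y ^ (p ^ k) ∈ N := by
      rw [← hk]; exact Subgroup.pow_index_mem N y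
    have hcjk : (cj ^ (p ^ k)) n = n := by
      have h1 : cj ^ (p ^ k) = MulAut.conjNormal (y ^ (p ^ k)) := (map_pow _ _ _).symm
      rw [h1]
      apply Subtype.ext
      rw [MulAut.conjNormal_apply]
      have h2 := hNab _ hyk n n.2
      rw [h2]
      group
    have hx1 : x ^ (p ^ k) = 1 := by
      have h1 := hpow (p ^ k)
      rw [hcjk] at h1
      have h2 : 1 * n = x ^ (p ^ k) * n := by rw [one_mul]; exact h1
      exact (mul_right_cancel h2).symm
    have hx2 : x ^ (Nat.card N) = 1 := pow_card_eq_one'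
    exact eq_one_of_pow_coprime hcopk hx1 hx2
  -- (τ3)
  have hτ3 : ∀ n, ∃ n', τ n = τ (τ n') := by
    let σ : τ.range → τ.range := fun s => ⟨τ s, ⟨s, rfl⟩⟩
    have hσinj : Function.Injective σ := by
      intro s s' h
      have h' : τ (s : ↥N) = τ (s' : ↥N) := congrArg Subtype.val h
      obtain ⟨n₀, hn₀⟩ := (s * s'⁻¹ : τ.range).2
      have h1 : τ (τ n₀) = 1 := by
        rw [hn₀, Subgroup.coe_mul, Subgroup.coe_inv, map_mul, map_inv, h', mul_inv_cancel]
      have h2 := hτ2 n₀ h1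
      rw [hn₀] at h2
      have h3 : s * s'⁻¹ = 1 := Subtype.ext h2
      exact mul_inv_eq_one.mp h3
    have hσsurj := Finite.surjective_of_injective hσinj
    intro n
    obtain ⟨s, hs⟩ := hσsurj ⟨τ n, ⟨n, rfl⟩⟩
    obtain ⟨n', hn'⟩ := s.2
    refine ⟨n', ?_⟩
    have h1 : τ (s : ↥N) = τ n := congrArg Subtype.val hs
    rw [← h1, ← hn']
  -- (τ4)
  obtain ⟨n₁, hn₁⟩ : ∃ n₁, τ n₁ ≠ 1 := by
    by_contra h
    push Not at h
    apply hyC
    rw [Subgroup.mem_centralizer_iff]
    intro n hn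
    have h1 := h ⟨n, hn⟩
    rw [hτ] at h1
    have h2 : cj ⟨n, hn⟩ = ⟨n, hn⟩ := mul_inv_eq_one.mp h1
    have h3 := congrArg Subtype.val h2
    rw [hcjcoe] at h3
    simp only at h3
    calc n * y = (y * n * y⁻¹) * y := by rw [h3]
      _ = y * n := by group
  obtain ⟨ν', hν'⟩ := exists_hom_ne_one_of_comm hNcomm (a := τ (τ n₁)) (fun h => hn₁ (hτ2 n₁ h))
  set ν : ↥N →* ℂˣ := ν'.comp τ with hν
  have hνapply : ∀ n, ν n = ν' (τ n) := fun n => rfl
  set f₂ : ↥N →* ℂˣ := f * ν with hf₂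
  have hf₂apply : ∀ n, f₂ n = f n * ν n := fun n => rfl
  -- (τ5)
  have hτ5 : ∀ (g : G) (n : ↥N), τ (MulAut.conjNormal g n) = MulAut.conjNormal g (τ n) := by
    intro g n
    apply Subtype.ext
    rw [hτ, hτ, Subgroup.coe_mul, Subgroup.coe_inv, hcjcoe, MulAut.conjNormal_apply,
      MulAut.conjNormal_apply, Subgroup.coe_mul, Subgroup.coe_inv, hcjcoe]
    set c := y⁻¹ * g⁻¹ * y * g with hc
    have hcC : c ∈ Subgroup.centralizer (N : Set G) := by
      have := hQab y⁻¹ g⁻¹
      rw [inv_inv, inv_inv] at this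
      exact this
    rw [Subgroup.mem_centralizer_iff] at hcC
    have hcn : (n : G) * c = c * n := hcC n n.2
    calc y * (g * (n : G) * g⁻¹) * y⁻¹ * (g * (n : G) * g⁻¹)⁻¹
        = g * y * (c * (n : G) * c⁻¹) * y⁻¹ * (n : G)⁻¹ * g⁻¹ := by rw [hc]; group
      _ = g * y * ((n : G) * c * c⁻¹) * y⁻¹ * (n : G)⁻¹ * g⁻¹ := by rw [hcn]
      _ = g * (y * (n : G) * y⁻¹ * (n : G)⁻¹) * g⁻¹ := by group
  have hcjN : ∀ (g : G) (n : ↥N),
      (⟨g * n * g⁻¹, hN.conj_mem (n : G) n.2 g⟩ : ↥N) = MulAut.conjNormal g n := by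
    intro g n
    apply Subtype.ext
    rw [MulAut.conjNormal_apply]
  -- (τ6)
  have hsub : inertiaHom N f₂ ≤ inertiaHom N f := by
    intro g hg
    rw [mem_inertiaHom] at hg ⊢
    intro n
    rw [hcjN]
    set cg : MulAut ↥N := MulAut.conjNormal g with hcg
    have hinv : ∀ n : ↥N, f (cg n) * ν (cg n) = f n * ν n := by
      intro n
      have := hg n
      rw [hcjN, hf₂apply, hf₂apply] at this
      exact this
    obtain ⟨n', hn'⟩ := hτ3 n
    obtain ⟨kk, hτk, hn⟩ : ∃ kk : ↥N, τ kk = 1 ∧ n = kk * τ n' := by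
      refine ⟨n * (τ n')⁻¹, ?_, ?_⟩
      · rw [map_mul, map_inv, hn', mul_inv_cancel]
      · rw [inv_mul_cancel_right]
    have hνk : ν kk = 1 := by rw [hνapply, hτk, map_one]
    have hνck : ν (cg kk) = 1 := by rw [hνapply, hτ5, hτk, map_one, map_one]
    have hfk : f (cg kk) = f kk := by
      have := hinv kk
      rw [hνk, hνck, mul_one, mul_one] at this
      exact this
    rw [hn, map_mul, map_mul, map_mul, hfk, ← hτ5, hfτ, hfτ]
  -- (τ7)
  have hy₂ : y ∉ inertiaHom N f₂ := by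
    intro hy₂
    rw [mem_inertiaHom] at hy hy₂
    have h1 := hy₂ n₁
    have h2 := hy n₁
    rw [hf₂apply, hf₂apply, h2] at h1
    have h3 : ν ⟨y * n₁ * y⁻¹, hN.conj_mem (n₁ : G) n₁.2 y⟩ = ν n₁ := mul_left_cancel h1
    rw [hcjN] at h3
    apply hν'
    have h4 : ν (τ n₁) = 1 := by
      rw [hτ n₁, map_mul, map_inv, h3, mul_inv_cancel]
    rw [hνapply] at h4
    exact h4
  -- (τ8)
  have hT₂ : inertiaHom N f₂ ≠ ⊤ := fun h => hy₂ (h ▸ Subgroup.mem_top y)
  have hidx := (inertia_structure N f (p ^ e) hcd hcop hT).1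
  have hidx₂ := (inertia_structure N f₂ (p ^ e) hcd hcop hT₂).1
  have hpe : 0 < p ^ e := pow_pos hp.pos e
  have hrel : (inertiaHom N f₂).relIndex (inertiaHom N f) = 1 := by
    have := Subgroup.relIndex_mul_index hsub
    rw [hidx, hidx₂] at this
    have h2 : (inertiaHom N f₂).relIndex (inertiaHom N f) * p ^ e = 1 * p ^ e := by
      rw [one_mul]; exact this
    exact Nat.eq_of_mul_eq_mul_right hpe h2
  exact hy₂ (Subgroup.relIndex_eq_one.mp hrel hy)

end noncentral


section final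

/-- the prime power case -/
theorem prime_power_case {G : Type*} [Group G] [Finite G] (p e : ℕ) (hp : p.Prime)
    (hcd : ∀ χ : Cfsg.IrrCharacter G, Cfsg.charDegree (χ : G → ℂ) = 1 ∨
      Cfsg.charDegree (χ : G → ℂ) = p ^ e) :
    (∃ A : Subgroup G, A.Normal ∧ (∀ a ∈ A, ∀ b ∈ A, a * b = b * a) ∧ A.index = p ^ e) ∨
    ∃ P A : Subgroup G, P.Normal ∧ A.Normal ∧ IsPGroup p P ∧
      (∀ a ∈ A, ∀ b ∈ A, a * b = b * a) ∧ P ⊓ A = ⊥ ∧ P ⊔ A = ⊤ := by
  classical
  have : Fintype G := Fintype.ofFinite G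
  obtain ⟨N, hNn, hcopN, ⟨k, hk⟩, hNab⟩ := exists_abelian_complement p hp e hcd
  by_cases hNZ : N ≤ Subgroup.center G
  · right
    exact central_case p hp N hcopN k hk hNab hNZ
  · left
    set C := Subgroup.centralizer (N : Set G) with hC
    have hCn : C.Normal := inferInstance
    have hcopk : Nat.Coprime (p ^ k) (Nat.card N) := Nat.Coprime.pow_left k hcopN.symm
    have hcop : Nat.Coprime N.index (Nat.card N) := by rw [hk]; exact hcopk
    have hQab := quotient_centralizer_comm N p hp hcopN k hk hNab e hcd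
    obtain ⟨n, hn, g, hgn⟩ : ∃ n ∈ N, ∃ g : G, g * n ≠ n * g := by
      by_contra h
      push Not at h
      apply hNZ
      intro n hn
      rw [Subgroup.mem_center_iff]
      intro g
      exact h n hn g
    obtain ⟨f, hf⟩ := exists_hom_not_fixed N hNab g n hn hgn
    have hT : inertiaHom N f ≠ ⊤ := fun h => hf (h ▸ Subgroup.mem_top g)
    have hTC : inertiaHom N f = C :=
      le_antisymm (inertia_le_centralizer N p hp hcopN k hk hNab e hcd hQab f hT)
        (centralizer_le_inertiaHom N f)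
    obtain ⟨hidx, hcomm⟩ := inertia_structure N f (p ^ e) hcd hcop hT
    rw [hTC] at hidx hcomm
    refine ⟨C, hCn, ?_, hidx⟩
    intro a ha b hb
    set c := a * b * a⁻¹ * b⁻¹ with hc
    have hcN : c ∈ N := hcomm a ha b hb
    have hca : a * c = c * a := by
      rw [hC, Subgroup.mem_centralizer_iff] at ha
      exact (ha c hcN).symm
    have hpow : ∀ j : ℕ, a ^ j * b * (a ^ j)⁻¹ = c ^ j * b := by
      intro j
      induction j with
      | zero => simp
      | succ j ih =>
        have e1 : a * b * a⁻¹ = c * b := by rw [hc]; group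
        calc a ^ (j + 1) * b * (a ^ (j + 1))⁻¹
            = a * (a ^ j * b * (a ^ j)⁻¹) * a⁻¹ := by rw [pow_succ']; group
          _ = a * (c ^ j * b) * a⁻¹ := by rw [ih]
          _ = (a * c ^ j) * b * a⁻¹ := by group
          _ = (c ^ j * a) * b * a⁻¹ := by
              have h1 : Commute a c := hca
              rw [(h1.pow_right j).eq]
          _ = c ^ j * (a * b * a⁻¹) := by group
          _ = c ^ j * (c * b) := by rw [e1]
          _ = c ^ (j + 1) * b := by rw [pow_succ]; group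
    have hak : a ^ (p ^ k) ∈ N := by
      rw [← hk]; exact Subgroup.pow_index_mem N a
    have hc1 : c ^ (p ^ k) = 1 := by
      have h1 := hpow (p ^ k)
      rw [hC, Subgroup.mem_centralizer_iff] at hb
      have h2 := hb _ hak
      rw [h2, mul_inv_cancel_right] at h1
      have h3 : 1 * b = c ^ (p ^ k) * b := by rw [one_mul]; exact h1
      exact (mul_right_cancel h3).symm
    have hc2 : c ^ (Nat.card N) = 1 := by
      have h1 : (⟨c, hcN⟩ : ↥N) ^ (Nat.card N) = 1 := pow_card_eq_one'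
      have h2 := congrArg Subtype.val h1
      rw [Subgroup.coe_pow, Subgroup.coe_one] at h2
      exact h2
    have hc3 : c = 1 := eq_one_of_pow_coprime hcopk hc1 hc2
    calc a * b = (a * b * a⁻¹ * b⁻¹) * (b * a) := by group
      _ = b * a := by rw [← hc, hc3, one_mul]

end final

end Cfsg.Agent.Lib.Helper3.CD
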