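import Mathlib
import Cfsg.Agent.Lib.Helper3.CD3
import Cfsg.Agent.Lib.Helper3.CD4
import Cfsg.Agent.Lib.Helper3.CD7

set_option autoImplicit false
set_option linter.unusedSectionVars false
set_option linter.unusedVariables false

/-! Isaacs' Theorem 12.5: groups with two character degrees. -/

namespace Cfsg.Agent.Lib.Helper3.CD

open Cfsg Cfsg.Agent.Lib.Helper6

/-- a maximal normal subgroup with nonabelian quotient -/
theorem exists_max_nonabelian_quotient {G : Type*} [Group G] [Finite G]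
    (hG : ∃ a b : G, a * b ≠ b * a) :
    ∃ K : Subgroup G, K.Normal ∧ (∃ a b : G, a * b * a⁻¹ * b⁻¹ ∉ K) ∧
      ∀ L : Subgroup G, L.Normal → K ≤ L → (∃ a b : G, a * b * a⁻¹ * b⁻¹ ∉ L) → L ≤ K := by
  classical
  let P : Subgroup G → Prop := fun K => K.Normal ∧ ∃ a b : G, a * b * a⁻¹ * b⁻¹ ∉ K
  have hbot : P ⊥ := by
    refine ⟨inferInstance, ?_⟩
    obtain ⟨a, b, hab⟩ := hG
    refine ⟨a, b, ?_⟩
    rw [Subgroup.mem_bot]
    intro h
    apply hab
    calc a * b = (a * b * a⁻¹ * b⁻¹) * (b * a) := by group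
      _ = b * a := by rw [h, one_mul]
  obtain ⟨K, _, hK⟩ := Finite.exists_le_maximal (p := P) (a := ⊥) hbot
  refine ⟨K, hK.prop.1, hK.prop.2, ?_⟩
  intro L hLn hKL hL
  exact hK.le_of_ge ⟨hLn, hL⟩ hKL

theorem two_degrees {G : Type*} [Group G] [Finite G] (m : ℕ)
    (hcd : ∀ χ : Cfsg.IrrCharacter G, Cfsg.charDegree (χ : G → ℂ) = 1 ∨
      Cfsg.charDegree (χ : G → ℂ) = m)
    (hm : ∃ χ : Cfsg.IrrCharacter G, Cfsg.charDegree (χ : G → ℂ) = m) (hm1 : m ≠ 1) :
    (∃ A : Subgroup G, A.Normal ∧ (∀ a ∈ A, ∀ b ∈ A, a * b = b * a) ∧ A.index = m) ∨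
    ∃ p e : ℕ, p.Prime ∧ m = p ^ e ∧ ∃ P A : Subgroup G, P.Normal ∧ A.Normal ∧ IsPGroup p P ∧
      (∀ a ∈ A, ∀ b ∈ A, a * b = b * a) ∧ P ⊓ A = ⊥ ∧ P ⊔ A = ⊤ := by
  classical
  have : Fintype G := Fintype.ofFinite G
  have hsol : Group.IsSolvable G := solvable_of_two_degrees m hcd
  -- G is nonabelian
  have hG : ∃ a b : G, a * b ≠ b * a := by
    by_contra h
    push Not at h
    obtain ⟨χ₀, hχ₀⟩ := hm
    have h1 := (Cfsg.Agent.S0187.result (G := G)).1 h χ₀
    rw [IsCharacter.apply_one_eq_charDegree (IsIrrCharacter.isCharacter χ₀.2), hχ₀] at h1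
    apply hm1
    exact_mod_cast h1
  obtain ⟨K, hKn, ⟨a₀, b₀, hab₀⟩, hKmax⟩ := exists_max_nonabelian_quotient hG
  -- the quotient
  have hQsol : Group.IsSolvable (G ⧸ K) := inferInstance
  have hmin : ∀ L : Subgroup (G ⧸ K), L.Normal → L ≠ ⊥ → commutator (G ⧸ K) ≤ L := by
    intro L hLn hL
    set L' := L.comap (QuotientGroup.mk' K) with hL'
    have hL'n : L'.Normal := inferInstance
    have hKL' : K ≤ L' := by
      intro x hx
      rw [hL', Subgroup.mem_comap]
      have : QuotientGroup.mk' K x = 1 := (QuotientGroup.eq_one_iff x).mpr hx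
      rw [this]
      exact one_mem L
    have hall : ∀ a b : G, a * b * a⁻¹ * b⁻¹ ∈ L' := by
      by_contra hno
      push Not at hno
      have hle := hKmax L' hL'n hKL' hno
      apply hL
      rw [eq_bot_iff]
      intro q hq
      obtain ⟨x, rfl⟩ := QuotientGroup.mk_surjective q
      rw [Subgroup.mem_bot]
      exact (QuotientGroup.eq_one_iff x).mpr (hle hq)
    rw [commutator_def, Subgroup.commutator_le]
    intro q₁ _ q₂ _
    obtain ⟨a, rfl⟩ := QuotientGroup.mk_surjective q₁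
    obtain ⟨b, rfl⟩ := QuotientGroup.mk_surjective q₂
    have := hall a b
    rw [hL', Subgroup.mem_comap] at this
    rw [commutatorElement_def]
    simpa using this
  have hQG : ∃ x y : G ⧸ K, x * y ≠ y * x := by
    refine ⟨QuotientGroup.mk a₀, QuotientGroup.mk b₀, ?_⟩
    intro h
    apply hab₀
    rw [← QuotientGroup.eq_one_iff]
    rw [QuotientGroup.mk_mul, QuotientGroup.mk_mul, QuotientGroup.mk_mul, QuotientGroup.mk_inv,
      QuotientGroup.mk_inv, h]
    group
  have hne : commutator (G ⧸ K) ≠ ⊥ := by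
    intro h
    obtain ⟨x, y, hxy⟩ := hQG
    have h1 := comm_mem_commutator x y
    rw [h, Subgroup.mem_bot] at h1
    apply hxy
    calc x * y = (x * y * x⁻¹ * y⁻¹) * (y * x) := by group
      _ = y * x := by rw [h1, one_mul]
  -- a nonlinear character of the quotient
  obtain ⟨β, hβ⟩ := exists_nonlinear hQG
  have hβdeg : Cfsg.charDegree (β : G ⧸ K → ℂ) = m := (cd_quotient K m hcd β).resolve_left hβ
  rcases structure_thm hQsol hmin hne with ⟨p, hp, hQp⟩ | ⟨p, hp, hMp, hpidx, hfpf⟩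
  · -- p-group case
    haveI : Fact p.Prime := ⟨hp⟩
    obtain ⟨j, hj⟩ := IsPGroup.iff_card.mp hQp
    have hdvd : m ∣ p ^ j := by
      rw [← hβdeg, ← hj]
      exact IsIrrCharacter.charDegree_dvd_card β.2
    obtain ⟨e, _, he⟩ := (Nat.dvd_prime_pow hp).mp hdvd
    have hcd' : ∀ χ : Cfsg.IrrCharacter G, Cfsg.charDegree (χ : G → ℂ) = 1 ∨
        Cfsg.charDegree (χ : G → ℂ) = p ^ e := by
      intro χ
      rw [← he]; exact hcd χ
    rcases prime_power_case p e hp hcd' with ⟨A, hAn, hAab, hAidx⟩ | h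
    · left
      exact ⟨A, hAn, hAab, by rw [hAidx, he]⟩
    · right
      exact ⟨p, e, hp, he, h⟩
  · -- Frobenius case
    left
    set M := commutator (G ⧸ K) with hM
    have hMn : M.Normal := inferInstance
    have hMab := commutator_comm hQsol hmin
    have hfpf' : ∀ q : G ⧸ K, q ∉ M → ∀ x ∈ M, q * x = x * q → x = 1 :=
      fun q hq x hx hqx => hfpf q hq x hx hqx.symm
    have hmM : m ∣ M.index := by
      obtain ⟨d, hd1, hd2⟩ := ito_aux (Nat.card (G ⧸ K)) (G ⧸ K) rfl M hMn hMab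
        (β : G ⧸ K → ℂ) β.2
      rw [IsCharacter.apply_one_eq_charDegree (IsIrrCharacter.isCharacter β.2), hβdeg] at hd1
      have : m = d := by exact_mod_cast hd1
      rw [this]; exact hd2
    obtain ⟨hab, hidx⟩ := frobenius_case K M hMab p hp hMp hne hfpf' m hm1 hmM hpidx hcd
    exact ⟨preN K M, inferInstance, hab, hidx⟩

end Cfsg.Agent.Lib.Helper3.CD
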