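import Mathlib
import Cfsg.Agent.Lib.Helper3.CD8
import Cfsg.Agent.Lib.Helper3.CharQuot
import Cfsg.Agent.Lib.Helper3.FT2

set_option autoImplicit false
set_option linter.unusedSectionVars false
set_option linter.unusedVariables false

/-! Towards Isaacs' Theorem 12.11: the `p`-group quotient. -/

namespace Cfsg.Agent.Lib.Helper3.CD

open Cfsg Cfsg.Agent.Lib.Helper6
open scoped ComplexConjugate

/-- reduction step of Theorem 12.5: either an abelian normal subgroup of index `m`, or a quotient
of prime power order in which the derived subgroup is the unique minimal normal subgroup -/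
theorem reduction {G : Type*} [Group G] [Finite G] (m : ℕ)
    (hcd : ∀ χ : Cfsg.IrrCharacter G, Cfsg.charDegree (χ : G → ℂ) = 1 ∨
      Cfsg.charDegree (χ : G → ℂ) = m)
    (hm : ∃ χ : Cfsg.IrrCharacter G, Cfsg.charDegree (χ : G → ℂ) = m) (hm1 : m ≠ 1) :
    (∃ A : Subgroup G, A.Normal ∧ (∀ a ∈ A, ∀ b ∈ A, a * b = b * a) ∧ A.index = m) ∨
    ∃ (K : Subgroup G) (_ : K.Normal) (q : ℕ), q.Prime ∧ IsPGroup q (G ⧸ K) ∧
      (∃ x y : G ⧸ K, x * y ≠ y * x) ∧
      ∀ L : Subgroup (G ⧸ K), L.Normal → L ≠ ⊥ → commutator (G ⧸ K) ≤ L := by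
  classical
  have : Fintype G := Fintype.ofFinite G
  have hsol : Group.IsSolvable G := solvable_of_two_degrees m hcd
  have hG : ∃ a b : G, a * b ≠ b * a := by
    by_contra h
    push Not at h
    obtain ⟨χ₀, hχ₀⟩ := hm
    have h1 := (Cfsg.Agent.S0187.result (G := G)).1 h χ₀
    rw [IsCharacter.apply_one_eq_charDegree (IsIrrCharacter.isCharacter χ₀.2), hχ₀] at h1
    apply hm1
    exact_mod_cast h1
  obtain ⟨K, hKn, ⟨a₀, b₀, hab₀⟩, hKmax⟩ := exists_max_nonabelian_quotient hG
  have hQsol : Group.IsSolvable (G ⧸ K) := inferInstance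
  have hmin : ∀ L : Subgroup (G ⧸ K), L.Normal → L ≠ ⊥ → commutator (G ⧸ K) ≤ L := by
    intro L hLn hL
    set L' := L.comap (QuotientGroup.mk' K) with hL'
    have hL'n : L'.Normal := inferInstance
    have hKL' : K ≤ L' := by
      intro x hx
      rw [hL', Subgroup.mem_comap]
      have : QuotientGroup.mk' K x = 1 := (QuotientGroup.eq_one_iff x).mpr hx
      rw [this]
      exact one_mem L
    have hall : ∀ a b : G, a * b * a⁻¹ * b⁻¹ ∈ L' := by
      by_contra hno
      push Not at hno
      have hle := hKmax L' hL'n hKL' hno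
      apply hL
      rw [eq_bot_iff]
      intro q hq
      obtain ⟨x, rfl⟩ := QuotientGroup.mk_surjective q
      rw [Subgroup.mem_bot]
      exact (QuotientGroup.eq_one_iff x).mpr (hle hq)
    rw [commutator_def, Subgroup.commutator_le]
    intro q₁ _ q₂ _
    obtain ⟨a, rfl⟩ := QuotientGroup.mk_surjective q₁
    obtain ⟨b, rfl⟩ := QuotientGroup.mk_surjective q₂
    have := hall a b
    rw [hL', Subgroup.mem_comap] at this
    rw [commutatorElement_def]
    simpa using this
  have hQG : ∃ x y : G ⧸ K, x * y ≠ y * x := by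
    refine ⟨QuotientGroup.mk a₀, QuotientGroup.mk b₀, ?_⟩
    intro h
    apply hab₀
    rw [← QuotientGroup.eq_one_iff]
    rw [QuotientGroup.mk_mul, QuotientGroup.mk_mul, QuotientGroup.mk_mul, QuotientGroup.mk_inv,
      QuotientGroup.mk_inv, h]
    group
  have hne : commutator (G ⧸ K) ≠ ⊥ := by
    intro h
    obtain ⟨x, y, hxy⟩ := hQG
    have h1 := comm_mem_commutator x y
    rw [h, Subgroup.mem_bot] at h1
    apply hxy
    calc x * y = (x * y * x⁻¹ * y⁻¹) * (y * x) := by group
      _ = y * x := by rw [h1, one_mul]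
  obtain ⟨β, hβ⟩ := exists_nonlinear hQG
  have hβdeg : Cfsg.charDegree (β : G ⧸ K → ℂ) = m := (cd_quotient K m hcd β).resolve_left hβ
  rcases structure_thm hQsol hmin hne with ⟨q, hq, hQp⟩ | ⟨p, hp, hMp, hpidx, hfpf⟩
  · right
    exact ⟨K, hKn, q, hq, hQp, hQG, hmin⟩
  · left
    set M := commutator (G ⧸ K) with hM
    have hMn : M.Normal := inferInstance
    have hMab := commutator_comm hQsol hmin
    have hfpf' : ∀ q : G ⧸ K, q ∉ M → ∀ x ∈ M, q * x = x * q → x = 1 :=
      fun q hq x hx hqx => hfpf q hq x hx hqx.symm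
    have hmM : m ∣ M.index := by
      obtain ⟨d, hd1, hd2⟩ := ito_aux (Nat.card (G ⧸ K)) (G ⧸ K) rfl M hMn hMab
        (β : G ⧸ K → ℂ) β.2
      rw [IsCharacter.apply_one_eq_charDegree (IsIrrCharacter.isCharacter β.2), hβdeg] at hd1
      have : m = d := by exact_mod_cast hd1
      rw [this]; exact hd2
    obtain ⟨hab, hidx⟩ := frobenius_case K M hMab p hp hMp hne hfpf' m hm1 hmM hpidx hcd
    exact ⟨preN K M, inferInstance, hab, hidx⟩

/-- if the commutator `c` of `a` and `b` commutes with `a`, conjugating `b` by powers of `a`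
multiplies by powers of `c` -/
theorem conj_pow_of_comm {Q : Type*} [Group Q] (a b : Q)
    (hca : a * (a * b * a⁻¹ * b⁻¹) = (a * b * a⁻¹ * b⁻¹) * a) (j : ℕ) :
    a ^ j * b * (a ^ j)⁻¹ = (a * b * a⁻¹ * b⁻¹) ^ j * b := by
  set c := a * b * a⁻¹ * b⁻¹ with hc
  induction j with
  | zero => simp
  | succ j ih =>
    have e1 : a * b * a⁻¹ = c * b := by rw [hc]; group
    calc a ^ (j + 1) * b * (a ^ (j + 1))⁻¹
        = a * (a ^ j * b * (a ^ j)⁻¹) * a⁻¹ := by rw [pow_succ']; group
      _ = a * (c ^ j * b) * a⁻¹ := by rw [ih]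
      _ = (a * c ^ j) * b * a⁻¹ := by group
      _ = (c ^ j * a) * b * a⁻¹ := by
          have h1 : Commute a c := hca
          rw [(h1.pow_right j).eq]
      _ = c ^ j * (a * b * a⁻¹) := by group
      _ = c ^ j * (c * b) := by rw [e1]
      _ = c ^ (j + 1) * b := by rw [pow_succ]; group

section pquot

variable {Q : Type*} [Group Q] [Fintype Q]

/-- a `p`-group whose derived subgroup is the unique minimal normal subgroup: a nonlinear
irreducible character of degree `p` vanishes off the centre, which has index `p²` -/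
theorem pgroup_center_index (p : ℕ) (hp : p.Prime) (hQp : IsPGroup p Q)
    (hQG : ∃ x y : Q, x * y ≠ y * x)
    (hmin : ∀ L : Subgroup Q, L.Normal → L ≠ ⊥ → commutator Q ≤ L)
    (β : Q → ℂ) (hβ : Cfsg.IsIrrCharacter Q β) (hβdeg : Cfsg.charDegree β = p) :
    commutator Q ≤ Subgroup.center Q ∧ (∀ q : Q, q ∉ Subgroup.center Q → β q = 0) ∧
      (∀ q ∈ Subgroup.center Q, Complex.normSq (β q) = (p : ℝ) ^ 2) ∧
      (Subgroup.center Q).index = p ^ 2 := by
  classical
  haveI : Fact p.Prime := ⟨hp⟩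
  obtain ⟨x₀, y₀, hxy₀⟩ := hQG
  haveI : Nontrivial Q := nontrivial_of_ne _ _ hxy₀
  have hZnt := hQp.center_nontrivial
  have hZne : Subgroup.center Q ≠ ⊥ := by
    intro h
    obtain ⟨⟨z, hz⟩, hz1⟩ := exists_ne (1 : Subgroup.center Q)
    apply hz1
    apply Subtype.ext
    rw [h, Subgroup.mem_bot] at hz
    exact hz
  have hcomZ : commutator Q ≤ Subgroup.center Q := hmin _ inferInstance hZne
  have hβ1 : β 1 = (p : ℂ) := by
    rw [IsCharacter.apply_one_eq_charDegree (IsIrrCharacter.isCharacter hβ), hβdeg]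
  -- faithfulness
  obtain ⟨K₀, hK₀n, hK₀⟩ := CharQuot.exists_kernel (IsIrrCharacter.isCharacter hβ)
  have hK₀bot : K₀ = ⊥ := by
    by_contra hne
    have hle := hmin K₀ hK₀n hne
    obtain ⟨β', hβ', hββ'⟩ := CharQuot.exists_irr_quot K₀ hβ (fun x hx => (hK₀ x).mp hx)
    have hab : ∀ a b : Q ⧸ K₀, a * b = b * a := by
      intro a b
      obtain ⟨a, rfl⟩ := QuotientGroup.mk_surjective a
      obtain ⟨b, rfl⟩ := QuotientGroup.mk_surjective b
      have h1 : a * b * a⁻¹ * b⁻¹ ∈ K₀ := hle (comm_mem_commutator a b)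
      rw [← QuotientGroup.eq_one_iff] at h1
      rw [QuotientGroup.mk_mul, QuotientGroup.mk_mul, QuotientGroup.mk_mul, QuotientGroup.mk_inv,
        QuotientGroup.mk_inv] at h1
      calc (QuotientGroup.mk a : Q ⧸ K₀) * QuotientGroup.mk b
          = ((QuotientGroup.mk a : Q ⧸ K₀) * QuotientGroup.mk b * (QuotientGroup.mk a)⁻¹ *
            (QuotientGroup.mk b)⁻¹) * (QuotientGroup.mk b * QuotientGroup.mk a) := by group
        _ = QuotientGroup.mk b * QuotientGroup.mk a := by rw [h1, one_mul]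
    have h1 := (Cfsg.Agent.S0187.result (G := Q ⧸ K₀)).1 hab ⟨β', hβ'⟩
    simp only at h1
    have h2 : β 1 = 1 := by
      rw [hββ']
      exact h1
    rw [hβ1] at h2
    have : p = 1 := by exact_mod_cast h2
    exact hp.one_lt.ne' this
  have hfaith : ∀ q : Q, β q = β 1 → q = 1 := by
    intro q hq
    have := (hK₀ q).mpr hq
    rw [hK₀bot, Subgroup.mem_bot] at this
    exact this
  -- vanishing off the centre
  have hvan : ∀ q : Q, q ∉ Subgroup.center Q → β q = 0 := by
    intro g hg
    obtain ⟨h, hgh⟩ : ∃ h : Q, h * g ≠ g * h := by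
      by_contra hno
      push Not at hno
      apply hg
      rw [Subgroup.mem_center_iff]
      exact hno
    set c := h * g * h⁻¹ * g⁻¹ with hc
    have hcZ : c ∈ Subgroup.center Q := hcomZ (comm_mem_commutator h g)
    have hc1 : c ≠ 1 := by
      intro h1
      apply hgh
      calc h * g = (h * g * h⁻¹ * g⁻¹) * (g * h) := by group
        _ = g * h := by rw [← hc, h1, one_mul]
    obtain ⟨ω, hωω, hω⟩ := FT.apply_center_mul_scalar hβ hcZ
    have hω1 : ω ≠ 1 := by
      intro h1
      apply hc1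
      apply hfaith
      have := hω 1
      rw [mul_one, h1, one_mul] at this
      exact this
    have h1 : β (c * g) = β g := by
      have e : c * g = h * g * h⁻¹ := by rw [hc]; group
      rw [e]
      exact IsIrrCharacter.isClassFunction hβ g h
    rw [hω g] at h1
    have h2 : (ω - 1) * β g = 0 := by rw [sub_mul, h1, one_mul, sub_self]
    rcases mul_eq_zero.mp h2 with h3 | h3
    · exact absurd (sub_eq_zero.mp h3) hω1
    · exact h3
  have hnorm : ∀ q ∈ Subgroup.center Q, Complex.normSq (β q) = (p : ℝ) ^ 2 := by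
    intro q hq
    have := FT.normSq_apply_center_mul hβ hq 1
    rw [mul_one] at this
    rw [this, hβ1, Complex.normSq_natCast]
    ring
  refine ⟨hcomZ, hvan, hnorm, ?_⟩
  -- the index
  have hsum := FT.sum_normSq_eq_card hβ
  have hsplit : ∑ g : Q, Complex.normSq (β g)
      = ∑ g ∈ Finset.univ.filter (fun g : Q => g ∈ Subgroup.center Q), (p : ℝ) ^ 2 := by
    rw [Finset.sum_filter]
    apply Finset.sum_congr rfl
    intro g _
    by_cases hg : g ∈ Subgroup.center Q
    · rw [if_pos hg, hnorm g hg]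
    · rw [if_neg hg, hvan g hg, Complex.normSq_zero]
  rw [hsplit, Finset.sum_const, nsmul_eq_mul] at hsum
  have hcardZ : (Finset.univ.filter (fun g : Q => g ∈ Subgroup.center Q)).card
      = Nat.card (Subgroup.center Q) := by
    rw [Nat.card_eq_fintype_card, Fintype.card_subtype]
  rw [hcardZ] at hsum
  have h1 : Nat.card (Subgroup.center Q) * p ^ 2 = Nat.card Q := by
    have : ((Nat.card (Subgroup.center Q) * p ^ 2 : ℕ) : ℝ) = (Nat.card Q : ℝ) := by
      push_cast
      exact hsum
    exact_mod_cast this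
  have h2 := Subgroup.card_mul_index (Subgroup.center Q)
  rw [← h1] at h2
  have hpos : 0 < Nat.card (Subgroup.center Q) := Nat.card_pos
  exact Nat.eq_of_mul_eq_mul_left hpos h2

end pquot

end Cfsg.Agent.Lib.Helper3.CD
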