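import Mathlib
import Cfsg.Agent.Lib.Helper3.CD10
import Cfsg.Agent.Lib.Helper6.CliffordDeg
import Cfsg.Agent.Lib.Helper6.Norm
import Cfsg.Agent.Lib.Helper6.CharOps

set_option autoImplicit false
set_option linter.unusedSectionVars false
set_option linter.unusedVariables false

/-! Towards Isaacs' Theorem 12.11: the subgroup `Z` is abelian. -/

namespace Cfsg.Agent.Lib.Helper3.CD

open Cfsg Cfsg.Agent.Lib.Helper6
open scoped ComplexConjugate

section

variable {G : Type*} [Group G] [Fintype G]

/-- sum of a function vanishing off a subgroup -/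
theorem sum_eq_sum_subgroup (Z : Subgroup G) [Fintype Z] (F : G → ℝ) (hF : ∀ g, g ∉ Z → F g = 0) :
    ∑ g : G, F g = ∑ z : Z, F z := by
  classical
  have h1 : ∑ g : G, F g = ∑ g ∈ Finset.univ.filter (fun g : G => g ∈ Z), F g := by
    rw [Finset.sum_filter]
    apply Finset.sum_congr rfl
    intro g _
    by_cases hg : g ∈ Z
    · rw [if_pos hg]
    · rw [if_neg hg, hF g hg]
  rw [h1]
  exact Finset.sum_subtype (Finset.univ.filter (fun g : G => g ∈ Z)) (by simp) F

/-- Step D: `Z` is abelian -/
theorem abelian_of_vanishing (Z : Subgroup G) [hZ : Z.Normal] (p : ℕ) (hp : p.Prime)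
    (hidx : Z.index = p ^ 2)
    (χ : G → ℂ) (hχ : Cfsg.IsIrrCharacter G χ) (hvan : ∀ g, g ∉ Z → χ g = 0)
    (hnorm : ∀ g ∈ Z, Complex.normSq (χ g) = (p : ℝ) ^ 2)
    (hcd : ∀ χ : Cfsg.IrrCharacter G, Cfsg.charDegree (χ : G → ℂ) = 1 ∨
      Cfsg.charDegree (χ : G → ℂ) = p) :
    ∀ a ∈ Z, ∀ b ∈ Z, a * b = b * a := by
  classical
  have : Fintype Z := Fintype.ofFinite Z
  have hχ1 : Cfsg.charDegree χ = p := by
    have h1 := hnorm 1 (one_mem Z)
    rw [IsCharacter.apply_one_eq_charDegree (IsIrrCharacter.isCharacter hχ),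
      Complex.normSq_natCast] at h1
    have h2 : ((Cfsg.charDegree χ * Cfsg.charDegree χ : ℕ) : ℝ) = ((p * p : ℕ) : ℝ) := by
      push_cast
      rw [h1]; ring
    have h3 : Cfsg.charDegree χ * Cfsg.charDegree χ = p * p := by exact_mod_cast h2
    exact Nat.mul_self_inj.mp h3
  have hall : ∀ ϑ : Cfsg.IrrCharacter Z, Cfsg.charDegree (ϑ : Z → ℂ) = 1 := by
    intro ϑ
    obtain ⟨ψ, hψ⟩ := exists_irr_over Z ϑ
    have hdvd := charDegree_dvd_of_constituent Z hZ ψ ϑ hψ
    rcases hcd ψ with h | h
    · rw [h] at hdvd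
      exact Nat.dvd_one.mp hdvd
    · rw [h] at hdvd
      rcases (Nat.dvd_prime hp).mp hdvd with h1 | h1
      · exact h1
      · exfalso
        -- ψ restricted to Z is ϑ
        have hres : Cfsg.IsCharacter Z (fun z : Z => (ψ : G → ℂ) z) :=
          IsCharacter.restrict Z (IsIrrCharacter.isCharacter ψ.2)
        have heq : (fun z : Z => (ψ : G → ℂ) z) = (ϑ : Z → ℂ) := by
          apply IsCharacter.eq_of_constituent_of_apply_one_eq hres ϑ.2 hψ
          rw [IsCharacter.apply_one_eq_charDegree (IsIrrCharacter.isCharacter ϑ.2), h1]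
          have := IsCharacter.apply_one_eq_charDegree (IsIrrCharacter.isCharacter ψ.2)
          rw [h] at this
          exact this
        have hresirr : Cfsg.classInner (fun z : Z => (ψ : G → ℂ) z) (fun z : Z => (ψ : G → ℂ) z)
            = 1 := by
          rw [heq, classInner_isIrrCharacter ϑ.2 ϑ.2, if_pos rfl]
        -- the product χ ψ has norm one
        have hprod : Cfsg.IsCharacter G (χ * (ψ : G → ℂ)) :=
          IsCharacter.mul (IsIrrCharacter.isCharacter hχ) (IsIrrCharacter.isCharacter ψ.2)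
        have hnorm1 : Cfsg.classInner (χ * (ψ : G → ℂ)) (χ * (ψ : G → ℂ)) = 1 := by
          rw [FT.classInner_self_eq]
          rw [FT.classInner_self_eq] at hresirr
          have hsum : ∑ g : G, Complex.normSq ((χ * (ψ : G → ℂ)) g)
              = (p : ℝ) ^ 2 * ∑ z : Z, Complex.normSq ((ψ : G → ℂ) z) := by
            rw [sum_eq_sum_subgroup Z (fun g => Complex.normSq ((χ * (ψ : G → ℂ)) g))]
            · rw [Finset.mul_sum]
              apply Finset.sum_congr rfl
              intro z _
              rw [Pi.mul_apply, Complex.normSq_mul, hnorm z z.2]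
            · intro g hg
              rw [Pi.mul_apply, hvan g hg, zero_mul, Complex.normSq_zero]
          rw [hsum]
          have hcardG : (Nat.card G : ℝ) = (p : ℝ) ^ 2 * (Nat.card Z : ℝ) := by
            have := Subgroup.card_mul_index Z
            rw [hidx] at this
            rw [← this]
            push_cast
            ring
          have hres' : (Nat.card Z : ℝ)⁻¹ * ∑ z : Z, Complex.normSq ((ψ : G → ℂ) z) = 1 := by
            exact_mod_cast hresirr
          have hp0 : (p : ℝ) ≠ 0 := by exact_mod_cast hp.ne_zero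
          have hZ0 : (Nat.card Z : ℝ) ≠ 0 := by exact_mod_cast (Nat.card_pos (α := Z)).ne'
          have : (Nat.card G : ℝ)⁻¹ * ((p : ℝ) ^ 2 * ∑ z : Z, Complex.normSq ((ψ : G → ℂ) z)) = 1 := by
            rw [hcardG, mul_inv]
            calc ((p : ℝ) ^ 2)⁻¹ * (Nat.card Z : ℝ)⁻¹ *
                  ((p : ℝ) ^ 2 * ∑ z : Z, Complex.normSq ((ψ : G → ℂ) z))
                = (((p : ℝ) ^ 2)⁻¹ * (p : ℝ) ^ 2) *
                  ((Nat.card Z : ℝ)⁻¹ * ∑ z : Z, Complex.normSq ((ψ : G → ℂ) z)) := by ring
              _ = 1 := by rw [hres', inv_mul_cancel₀ (pow_ne_zero 2 hp0), one_mul]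
          exact_mod_cast this
        have hirr := isIrrCharacter_of_classInner_self_eq_one hprod hnorm1
        have hdeg : Cfsg.charDegree (χ * (ψ : G → ℂ)) = p * p := by
          have h2 := IsCharacter.apply_one_eq_charDegree hprod
          rw [Pi.mul_apply, IsCharacter.apply_one_eq_charDegree (IsIrrCharacter.isCharacter hχ),
            IsCharacter.apply_one_eq_charDegree (IsIrrCharacter.isCharacter ψ.2), hχ1, h] at h2
          exact_mod_cast h2.symm
        rcases hcd ⟨_, hirr⟩ with h3 | h3
        · simp only at h3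
          rw [hdeg] at h3
          have := Nat.eq_one_of_mul_eq_one_right h3
          exact hp.one_lt.ne' this
        · simp only at h3
          rw [hdeg] at h3
          have h4 : p * p = p * 1 := by rw [mul_one]; exact h3
          have := Nat.eq_of_mul_eq_mul_left hp.pos h4
          exact hp.one_lt.ne' this
  have hcomm := comm_of_all_linear hall
  intro a ha b hb
  exact congrArg Subtype.val (hcomm ⟨a, ha⟩ ⟨b, hb⟩)

end

end Cfsg.Agent.Lib.Helper3.CD
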