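import Mathlib
import Cfsg.Agent.Lib.Helper3.CD11

set_option autoImplicit false
set_option linter.unusedSectionVars false
set_option linter.unusedVariables false

/-! Towards Isaacs' Theorem 12.11: centralizers in `Z`. -/

namespace Cfsg.Agent.Lib.Helper3.CD

open Cfsg Cfsg.Agent.Lib.Helper6
open scoped ComplexConjugate Pointwise

/-- the join of an abelian subgroup with a cyclic subgroup centralizing it is abelian -/
theorem comm_sup_zpowers' {Q : Type*} [Group Q] (H : Subgroup Q)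
    (hH : ∀ a ∈ H, ∀ b ∈ H, a * b = b * a) (x : Q) (hx : ∀ h ∈ H, x * h = h * x) :
    ∀ a ∈ H ⊔ Subgroup.zpowers x, ∀ b ∈ H ⊔ Subgroup.zpowers x, a * b = b * a := by
  -- every element of the join commutes with `H` and with `x`
  have h1 : ∀ a ∈ H ⊔ Subgroup.zpowers x, (∀ h ∈ H, a * h = h * a) ∧ a * x = x * a := by
    intro a ha
    have hle : H ⊔ Subgroup.zpowers x ≤ Subgroup.centralizer ((H : Set Q) ∪ {x}) := by
      apply sup_le
      · intro h hh
        rw [Subgroup.mem_centralizer_iff]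
        intro y hy
        rcases hy with hy | hy
        · exact hH y hy h hh
        · rw [Set.mem_singleton_iff] at hy
          subst hy
          exact hx h hh
      · rw [Subgroup.zpowers_le]
        rw [Subgroup.mem_centralizer_iff]
        intro y hy
        rcases hy with hy | hy
        · exact (hx y hy).symm
        · rw [Set.mem_singleton_iff] at hy
          subst hy
          rfl
    have := hle ha
    rw [Subgroup.mem_centralizer_iff] at this
    exact ⟨fun h hh => (this h (Or.inl hh)).symm, (this x (Or.inr rfl)).symm⟩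
  intro a ha b hb
  have hle : H ⊔ Subgroup.zpowers x ≤ Subgroup.centralizer ({a} : Set Q) := by
    apply sup_le
    · intro h hh
      rw [Subgroup.mem_centralizer_iff]
      intro y hy
      rw [Set.mem_singleton_iff] at hy
      subst hy
      exact (h1 y ha).1 h hh
    · rw [Subgroup.zpowers_le]
      rw [Subgroup.mem_centralizer_iff]
      intro y hy
      rw [Set.mem_singleton_iff] at hy
      subst hy
      exact (h1 y ha).2
  have := hle hb
  rw [Subgroup.mem_centralizer_iff] at this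
  exact this a rfl

section

variable {G : Type*} [Group G] [Fintype G] (Z : Subgroup G) [hZ : Z.Normal]

/-- a subgroup containing `Z` is normal when `G ⧸ Z` is abelian -/
theorem normal_of_le_of_comm (hQab : ∀ a b : G, a * b * a⁻¹ * b⁻¹ ∈ Z) (T : Subgroup G)
    (hZT : Z ≤ T) : T.Normal := by
  constructor
  intro t ht g
  have : g * t * g⁻¹ = (g * t * g⁻¹ * t⁻¹) * t := by group
  rw [this]
  exact T.mul_mem (hZT (hQab g t)) ht

/-- index bookkeeping: a subgroup strictly between `Z` and `G` has index `p` -/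
theorem index_of_between (p : ℕ) (hp : p.Prime) (hidx : Z.index = p ^ 2) (T : Subgroup G)
    (hZT : Z ≤ T) (hne : ¬ T ≤ Z) (hT : T ≠ ⊤) : T.index = p := by
  have h1 := Subgroup.relIndex_mul_index hZT
  rw [hidx] at h1
  have hdvd : T.index ∣ p ^ 2 := Dvd.intro_left _ h1
  obtain ⟨i, hi, hTi⟩ := (Nat.dvd_prime_pow hp).mp hdvd
  have hi0 : i ≠ 0 := by
    rintro rfl
    rw [pow_zero] at hTi
    exact hT (Subgroup.index_eq_one.mp hTi)
  have hi2 : i ≠ 2 := by
    rintro rfl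
    rw [hTi] at h1
    have h2 : Z.relIndex T * p ^ 2 = 1 * p ^ 2 := by rw [one_mul]; exact h1
    have h3 := Nat.eq_of_mul_eq_mul_right (pow_pos hp.pos 2) h2
    exact hne (Subgroup.relIndex_eq_one.mp h3)
  have : i = 1 := by omega
  rw [hTi, this, pow_one]

/-- Step E: `Z` is self-centralizing when there is no abelian normal subgroup of index `p` -/
theorem mem_of_centralizes (p : ℕ) (hp : p.Prime) (hidx : Z.index = p ^ 2)
    (hZab : ∀ a ∈ Z, ∀ b ∈ Z, a * b = b * a) (hQab : ∀ a b : G, a * b * a⁻¹ * b⁻¹ ∈ Z)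
    (hG : ∃ a b : G, a * b ≠ b * a)
    (hnoA : ¬ ∃ A : Subgroup G, A.Normal ∧ (∀ a ∈ A, ∀ b ∈ A, a * b = b * a) ∧ A.index = p)
    (x : G) (hx : ∀ z ∈ Z, x * z = z * x) : x ∈ Z := by
  by_contra hxZ
  set B := Z ⊔ Subgroup.zpowers x with hB
  have hBab := comm_sup_zpowers' Z hZab x hx
  have hZB : Z ≤ B := le_sup_left
  have hBn : B.Normal := normal_of_le_of_comm Z hQab B hZB
  have hxB : x ∈ B := (le_sup_right : Subgroup.zpowers x ≤ B) (Subgroup.mem_zpowers x)
  have hBtop : B ≠ ⊤ := by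
    intro h
    obtain ⟨a, b, hab⟩ := hG
    have ha : a ∈ B := by rw [h]; exact Subgroup.mem_top a
    have hb : b ∈ B := by rw [h]; exact Subgroup.mem_top b
    exact hab (hBab a ha b hb)
  have hBidx := index_of_between Z p hp hidx B hZB (fun h => hxZ (h hxB)) hBtop
  exact hnoA ⟨B, hBn, hBab, hBidx⟩

/-- induction from a normal subgroup of a linear character with trivial inertia quotient -/
theorem indFun_irr_of_inertia_le (f : ↥Z →* ℂˣ) (h : inertiaHom Z f ≤ Z) :
    Cfsg.IsIrrCharacter G (Cfsg.indFun Z (fun z => ((f z : ℂˣ) : ℂ))) := by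
  classical
  have : Fintype Z := Fintype.ofFinite Z
  have hθ : Cfsg.IsIrrCharacter Z (fun z => ((f z : ℂˣ) : ℂ)) := isIrrCharacter_of_hom f
  have hc : Cfsg.classInner (fun n : ↥Z =>
      ((⟨_, hθ⟩ : Cfsg.IrrCharacter ↥Z) : ↥Z → ℂ) ⟨n, le_refl Z n.2⟩)
      ((⟨_, hθ⟩ : Cfsg.IrrCharacter ↥Z) : ↥Z → ℂ) ≠ 0 := by
    simp only
    rw [classInner_isIrrCharacter hθ hθ, if_pos rfl]
    exact one_ne_zero
  have hstab : ∀ g : G, conjFun Z hZ ((⟨_, hθ⟩ : Cfsg.IrrCharacter ↥Z) : ↥Z → ℂ) g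
      = ((⟨_, hθ⟩ : Cfsg.IrrCharacter ↥Z) : ↥Z → ℂ) → g ∈ Z := fun g hg => h hg
  exact indFun_isIrrCharacter_of_stab Z hZ Z le_rfl ⟨_, hθ⟩ hstab ⟨_, hθ⟩ hc

/-- Step F: no linear character of `Z` has inertia group `Z` -/
theorem inertia_not_le (p : ℕ) (hp : p.Prime) (hidx : Z.index = p ^ 2)
    (hcd : ∀ χ : Cfsg.IrrCharacter G, Cfsg.charDegree (χ : G → ℂ) = 1 ∨
      Cfsg.charDegree (χ : G → ℂ) = p) (f : ↥Z →* ℂˣ) : ¬ inertiaHom Z f ≤ Z := by
  intro h
  have hirr := indFun_irr_of_inertia_le Z f h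
  have hdeg : Cfsg.charDegree (Cfsg.indFun Z (fun z => ((f z : ℂˣ) : ℂ))) = p ^ 2 := by
    have h1 := IsCharacter.apply_one_eq_charDegree (IsIrrCharacter.isCharacter hirr)
    rw [indFun_one, hidx, map_one, Units.val_one, mul_one] at h1
    exact_mod_cast h1.symm
  rcases hcd ⟨_, hirr⟩ with h3 | h3
  · simp only at h3
    rw [hdeg] at h3
    have : p = 1 := by
      have h4 : p * p = 1 := by rw [← sq]; exact h3
      exact Nat.eq_one_of_mul_eq_one_right h4
    exact hp.one_lt.ne' this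
  · simp only at h3
    rw [hdeg, sq] at h3
    have h4 : p * p = p * 1 := by rw [mul_one]; exact h3
    have := Nat.eq_of_mul_eq_mul_left hp.pos h4
    exact hp.one_lt.ne' this

/-- Step G: the centralizer in `Z` of an element outside `Z` is central -/
theorem centralizer_le_center (p : ℕ) (hp : p.Prime) (hidx : Z.index = p ^ 2)
    (hZab : ∀ a ∈ Z, ∀ b ∈ Z, a * b = b * a) (hQab : ∀ a b : G, a * b * a⁻¹ * b⁻¹ ∈ Z)
    (hcd : ∀ χ : Cfsg.IrrCharacter G, Cfsg.charDegree (χ : G → ℂ) = 1 ∨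
      Cfsg.charDegree (χ : G → ℂ) = p)
    (hcent : ∀ x : G, (∀ z ∈ Z, x * z = z * x) → x ∈ Z)
    (x : G) (hxZ : x ∉ Z) (d : G) (hd : d ∈ Z) (hxd : x * d = d * x) (y : G) :
    y * d = d * y := by
  classical
  have hZcomm : ∀ a b : ↥Z, a * b = b * a := fun a b => Subtype.ext (hZab a a.2 b b.2)
  by_contra hyd
  set e : ↥Z := ⟨y * d * y⁻¹, hZ.conj_mem d hd y⟩ * (⟨d, hd⟩ : ↥Z)⁻¹ with he
  have he1 : e ≠ 1 := by
    intro h
    have h' := congrArg Subtype.val h
    simp only [he, Subgroup.coe_mul, Subgroup.coe_inv, Subgroup.coe_one] at h'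
    apply hyd
    calc y * d = (y * d * y⁻¹ * d⁻¹) * d * y := by group
      _ = d * y := by rw [h', one_mul]
  -- an element moved by x
  obtain ⟨z₁, hz₁, hxz₁⟩ : ∃ z₁ ∈ Z, x * z₁ ≠ z₁ * x := by
    by_contra h
    push Not at h
    exact hxZ (hcent x h)
  set w : ↥Z := ⟨x * z₁ * x⁻¹, hZ.conj_mem z₁ hz₁ x⟩ * (⟨z₁, hz₁⟩ : ↥Z)⁻¹ with hw
  have hw1 : w ≠ 1 := by
    intro h
    have h' := congrArg Subtype.val h
    simp only [hw, Subgroup.coe_mul, Subgroup.coe_inv, Subgroup.coe_one] at h'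
    apply hxz₁
    calc x * z₁ = (x * z₁ * x⁻¹ * z₁⁻¹) * z₁ * x := by group
      _ = z₁ * x := by rw [h', one_mul]
  -- G1
  have G1 : ∀ μ : ↥Z →* ℂˣ, x ∉ inertiaHom Z μ → μ e = 1 := by
    intro μ hxμ
    set T := inertiaHom Z μ with hT
    have hZT : Z ≤ T := le_inertiaHom Z μ
    have hTZ : ¬ T ≤ Z := inertia_not_le Z p hp hidx hcd μ
    have hTn : T.Normal := normal_of_le_of_comm Z hQab T hZT
    set B := T ⊔ Subgroup.zpowers x with hB
    have hTB : T ≤ B := le_sup_left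
    have hxB : x ∈ B := (le_sup_right : Subgroup.zpowers x ≤ B) (Subgroup.mem_zpowers x)
    have hBtop : B = ⊤ := by
      by_contra hBne
      have h1 := index_of_between Z p hp hidx B (hZT.trans hTB) (fun h => hTZ (hTB.trans h)) hBne
      have hTne : T ≠ ⊤ := fun h => hxμ (h ▸ Subgroup.mem_top x)
      have h2 := index_of_between Z p hp hidx T hZT hTZ hTne
      have h3 := Subgroup.relIndex_mul_index hTB
      rw [h1, h2] at h3
      have h4 : T.relIndex B * p = 1 * p := by rw [one_mul]; exact h3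
      have h5 := Nat.eq_of_mul_eq_mul_right hp.pos h4
      exact hxμ (Subgroup.relIndex_eq_one.mp h5 hxB)
    have hyB : y ∈ (↑(T ⊔ Subgroup.zpowers x) : Set G) := by
      rw [← hB, hBtop]; exact Set.mem_univ y
    rw [Subgroup.normal_mul] at hyB
    obtain ⟨t, ht, s, hs, hts⟩ := Set.mem_mul.mp hyB
    obtain ⟨k, rfl⟩ := Subgroup.mem_zpowers_iff.mp hs
    -- x^k commutes with d
    have hxkd : x ^ k * d = d * x ^ k := by
      have h1 : Commute x d := hxd
      exact (h1.zpow_left k).eq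
    have hed : (e : G) = t * d * t⁻¹ * d⁻¹ := by
      simp only [he, Subgroup.coe_mul, Subgroup.coe_inv]
      rw [← hts]
      calc t * x ^ k * d * (t * x ^ k)⁻¹ * d⁻¹
          = t * (x ^ k * d) * (x ^ k)⁻¹ * t⁻¹ * d⁻¹ := by group
        _ = t * (d * x ^ k) * (x ^ k)⁻¹ * t⁻¹ * d⁻¹ := by rw [hxkd]
        _ = t * d * t⁻¹ * d⁻¹ := by group
    have hee : e = ⟨t * d * t⁻¹, hZ.conj_mem d hd t⟩ * (⟨d, hd⟩ : ↥Z)⁻¹ := by
      apply Subtype.ext
      rw [hed]
      simp only [Subgroup.coe_mul, Subgroup.coe_inv]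
    rw [hee, map_mul, map_inv]
    have := (mem_inertiaHom Z μ t).mp ht ⟨d, hd⟩
    simp only at this
    rw [this, mul_inv_cancel]
  obtain ⟨μ₁, hμ₁⟩ := exists_hom_ne_one_of_comm hZcomm hw1
  obtain ⟨μ₂, hμ₂⟩ := exists_hom_ne_one_of_comm hZcomm he1
  have hfix : ∀ μ : ↥Z →* ℂˣ, x ∈ inertiaHom Z μ → μ w = 1 := by
    intro μ hx
    rw [hw, map_mul, map_inv]
    have := (mem_inertiaHom Z μ x).mp hx ⟨z₁, hz₁⟩
    simp only at this
    rw [this, mul_inv_cancel]
  have h1 : x ∉ inertiaHom Z μ₁ := fun h => hμ₁ (hfix μ₁ h)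
  have h2 : x ∈ inertiaHom Z μ₂ := by
    by_contra h
    exact hμ₂ (G1 μ₂ h)
  have h3 : x ∉ inertiaHom Z (μ₁ * μ₂) := by
    intro h
    have := hfix (μ₁ * μ₂) h
    rw [MonoidHom.mul_apply, hfix μ₂ h2, mul_one] at this
    exact hμ₁ this
  have h4 := G1 (μ₁ * μ₂) h3
  rw [MonoidHom.mul_apply, G1 μ₁ h1, one_mul] at h4
  exact hμ₂ h4

end

end Cfsg.Agent.Lib.Helper3.CD
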