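import Mathlib
import Cfsg.Agent.Lib.Helper3.CD12

set_option autoImplicit false
set_option linter.unusedSectionVars false
set_option linter.unusedVariables false

/-! Towards Isaacs' Theorem 12.11: the counting argument. -/

namespace Cfsg.Agent.Lib.Helper3.CD

open Cfsg Cfsg.Agent.Lib.Helper6

section

variable {G : Type*} [Group G] [Fintype G] (Z : Subgroup G) [hZ : Z.Normal]

/-- the commutator homomorphism `z ↦ [g, z]` on an abelian normal subgroup -/
noncomputable def commHom (hZab : ∀ a ∈ Z, ∀ b ∈ Z, a * b = b * a) (g : G) : ↥Z →* ↥Z :=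
  MonoidHom.mk' (fun z => (MulAut.conjNormal g z : ↥Z) * z⁻¹) (by
    have hZcomm : ∀ a b : ↥Z, a * b = b * a := fun a b => Subtype.ext (hZab a a.2 b b.2)
    intro a b
    rw [map_mul, mul_inv_rev, hZcomm b⁻¹ a⁻¹]
    calc (MulAut.conjNormal g a : ↥Z) * MulAut.conjNormal g b * (a⁻¹ * b⁻¹)
        = MulAut.conjNormal g a * ((MulAut.conjNormal g b : ↥Z) * a⁻¹) * b⁻¹ := by group
      _ = MulAut.conjNormal g a * (a⁻¹ * (MulAut.conjNormal g b : ↥Z)) * b⁻¹ := by
          rw [hZcomm (MulAut.conjNormal g b) a⁻¹]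
      _ = MulAut.conjNormal g a * a⁻¹ * ((MulAut.conjNormal g b : ↥Z) * b⁻¹) := by group)

theorem commHom_coe (hZab : ∀ a ∈ Z, ∀ b ∈ Z, a * b = b * a) (g : G) (z : ↥Z) :
    ((commHom Z hZab g z : ↥Z) : G) = g * z * g⁻¹ * (z : G)⁻¹ := by
  show (((MulAut.conjNormal g z : ↥Z) * z⁻¹ : ↥Z) : G) = _
  rw [Subgroup.coe_mul, Subgroup.coe_inv, MulAut.conjNormal_apply]

theorem commHom_eq (hZab : ∀ a ∈ Z, ∀ b ∈ Z, a * b = b * a) (g : G) (z : ↥Z) :
    commHom Z hZab g z = ⟨g * z * g⁻¹, hZ.conj_mem z z.2 g⟩ * z⁻¹ := by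
  apply Subtype.ext
  rw [commHom_coe]
  simp

/-- `g` fixes `μ` iff `μ` kills the range of the commutator homomorphism -/
theorem mem_inertiaHom_iff_commHom (hZab : ∀ a ∈ Z, ∀ b ∈ Z, a * b = b * a) (μ : ↥Z →* ℂˣ)
    (g : G) : g ∈ inertiaHom Z μ ↔ ∀ z : ↥Z, μ (commHom Z hZab g z) = 1 := by
  rw [mem_inertiaHom]
  constructor
  · intro h z
    rw [commHom_eq, map_mul, map_inv, h z, mul_inv_cancel]
  · intro h z
    have := h z
    rw [commHom_eq, map_mul, map_inv] at this
    exact mul_inv_eq_one.mp this

/-- the number of characters fixed by `g` -/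
theorem card_fixed_mul_le (hZab : ∀ a ∈ Z, ∀ b ∈ Z, a * b = b * a) (g : G)
    [DecidablePred (fun μ : ↥Z →* ℂˣ => g ∈ inertiaHom Z μ)] [Fintype (↥Z →* ℂˣ)] :
    (Finset.univ.filter (fun μ : ↥Z →* ℂˣ => g ∈ inertiaHom Z μ)).card *
      Nat.card (commHom Z hZab g).range ≤ Nat.card Z := by
  classical
  have hZcomm : ∀ a b : ↥Z, a * b = b * a := fun a b => Subtype.ext (hZab a a.2 b b.2)
  set L := (commHom Z hZab g).range with hL
  have hLn : L.Normal := by
    constructor
    intro n hn x
    rw [hZcomm x n, mul_inv_cancel_right]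
    exact hn
  have hQcomm : ∀ a b : ↥Z ⧸ L, a * b = b * a := by
    intro a b
    obtain ⟨a, rfl⟩ := QuotientGroup.mk_surjective a
    obtain ⟨b, rfl⟩ := QuotientGroup.mk_surjective b
    rw [← QuotientGroup.mk_mul, ← QuotientGroup.mk_mul, hZcomm a b]
  have hle : ∀ μ : ↥Z →* ℂˣ, g ∈ inertiaHom Z μ → L ≤ μ.ker := by
    intro μ hμ
    rintro _ ⟨z, rfl⟩
    rw [MonoidHom.mem_ker]
    exact (mem_inertiaHom_iff_commHom Z hZab μ g).mp hμ z
  let Φ : {μ : ↥Z →* ℂˣ // g ∈ inertiaHom Z μ} → (↥Z ⧸ L →* ℂˣ) :=
    fun μ => QuotientGroup.lift L μ.1 (hle μ.1 μ.2)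
  have hΦ : Function.Injective Φ := by
    intro μ μ' h
    apply Subtype.ext
    ext z
    have := congrArg (fun F : ↥Z ⧸ L →* ℂˣ => F (QuotientGroup.mk z)) h
    simp only [Φ, QuotientGroup.lift_mk] at this
    rw [this]
  have h1 := Nat.card_le_card_of_injective Φ hΦ
  rw [card_hom_of_comm hQcomm, ← Subgroup.index_eq_card] at h1
  have h2 : Nat.card {μ : ↥Z →* ℂˣ // g ∈ inertiaHom Z μ}
      = (Finset.univ.filter (fun μ : ↥Z →* ℂˣ => g ∈ inertiaHom Z μ)).card := by
    rw [Nat.card_eq_fintype_card, Fintype.card_subtype]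
  rw [h2] at h1
  calc (Finset.univ.filter (fun μ : ↥Z →* ℂˣ => g ∈ inertiaHom Z μ)).card * Nat.card L
      ≤ L.index * Nat.card L := Nat.mul_le_mul_right _ h1
    _ = Nat.card Z := by rw [mul_comm]; exact Subgroup.card_mul_index L


/-- Step H: the counting argument -/
theorem center_relIndex (p : ℕ) (hp : p.Prime) (hidx : Z.index = p ^ 2)
    (hZab : ∀ a ∈ Z, ∀ b ∈ Z, a * b = b * a) (hQab : ∀ a b : G, a * b * a⁻¹ * b⁻¹ ∈ Z)
    (hcd : ∀ χ : Cfsg.IrrCharacter G, Cfsg.charDegree (χ : G → ℂ) = 1 ∨
      Cfsg.charDegree (χ : G → ℂ) = p)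
    (hcent : ∀ x : G, (∀ z ∈ Z, x * z = z * x) → x ∈ Z)
    (hpow : ∀ a b : G, ∃ k : ℕ, (a * b * a⁻¹ * b⁻¹) ^ (p ^ k) = 1) :
    ((Subgroup.center G).subgroupOf Z).index = p := by
  classical
  haveI : Fact p.Prime := ⟨hp⟩
  have : Fintype (↥Z →* ℂˣ) := Fintype.ofFinite _
  have hZcomm : ∀ a b : ↥Z, a * b = b * a := fun a b => Subtype.ext (hZab a a.2 b b.2)
  set Y := (Subgroup.center G).subgroupOf Z with hY
  set n := Nat.card Z with hn
  have hnpos : 0 < n := Nat.card_pos
  have hcardG : Nat.card G = p * p * n := by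
    have := Subgroup.card_mul_index Z
    rw [hidx] at this
    rw [← this, sq]; ring
  obtain ⟨g₀, hg₀⟩ : ∃ g₀ : G, g₀ ∉ Z := by
    by_contra h
    push Not at h
    have : Z = ⊤ := (Subgroup.eq_top_iff' Z).mpr h
    rw [this, Subgroup.index_top] at hidx
    have : p = 1 := by
      have h4 : p * p = 1 := by rw [← sq]; exact hidx.symm
      exact Nat.eq_one_of_mul_eq_one_right h4
    exact hp.one_lt.ne' this
  -- kernels
  have hker : ∀ g : G, g ∉ Z → (commHom Z hZab g).ker = Y := by
    intro g hg
    ext z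
    rw [MonoidHom.mem_ker, hY, Subgroup.mem_subgroupOf]
    constructor
    · intro h
      have h' := congrArg Subtype.val h
      rw [commHom_coe, Subgroup.coe_one] at h'
      have hgz : g * z = z * g := by
        calc g * (z : G) = (g * z * g⁻¹ * (z : G)⁻¹) * z * g := by group
          _ = z * g := by rw [h', one_mul]
      rw [Subgroup.mem_center_iff]
      intro y
      exact centralizer_le_center Z p hp hidx hZab hQab hcd hcent g hg z z.2 hgz y
    · intro h
      apply Subtype.ext
      rw [commHom_coe, Subgroup.coe_one]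
      rw [Subgroup.mem_center_iff] at h
      rw [h g]
      group
  set a := Y.index with ha
  have hrange : ∀ g : G, g ∉ Z → Nat.card (commHom Z hZab g).range = a := by
    intro g hg
    rw [← Subgroup.index_ker, hker g hg]
  -- a is a nontrivial power of p
  have hLp : IsPGroup p (commHom Z hZab g₀).range := by
    rintro ⟨x, z, rfl⟩
    obtain ⟨k, hk⟩ := hpow g₀ z
    refine ⟨k, ?_⟩
    apply Subtype.ext
    apply Subtype.ext
    rw [Subgroup.coe_pow, Subgroup.coe_pow, commHom_coe, Subgroup.coe_one, Subgroup.coe_one]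
    exact hk
  obtain ⟨j, hj⟩ := IsPGroup.iff_card.mp hLp
  rw [hrange g₀ hg₀] at hj
  have hj0 : j ≠ 0 := by
    rintro rfl
    rw [pow_zero] at hj
    apply hg₀
    apply hcent
    intro z hz
    have h1 : Nat.card (commHom Z hZab g₀).range = 1 := by rw [hrange g₀ hg₀, hj]
    have h2 : (commHom Z hZab g₀).range = ⊥ := Subgroup.card_eq_one.mp h1
    have h3 : commHom Z hZab g₀ ⟨z, hz⟩ ∈ (commHom Z hZab g₀).range := ⟨_, rfl⟩
    rw [h2, Subgroup.mem_bot] at h3
    have h' := congrArg Subtype.val h3
    rw [commHom_coe, Subgroup.coe_one] at h'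
    simp only at h'
    calc g₀ * z = (g₀ * z * g₀⁻¹ * z⁻¹) * z * g₀ := by group
      _ = z * g₀ := by rw [h', one_mul]
  -- the counting
  have hnotsq : ¬ p * p ≤ a := by
    intro hpa
    let r : (↥Z →* ℂˣ) → G → Prop := fun μ g => g ∉ Z ∧ g ∈ inertiaHom Z μ
    have hdc : ∑ μ : ↥Z →* ℂˣ, (Finset.univ.filter (fun g : G => r μ g)).card
        = ∑ g : G, (Finset.univ.filter (fun μ : ↥Z →* ℂˣ => r μ g)).card := by
      simp only [Finset.card_filter]
      exact Finset.sum_comm
    set S := ∑ μ : ↥Z →* ℂˣ, (Finset.univ.filter (fun g : G => r μ g)).card with hS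
    have hcardhom : Fintype.card (↥Z →* ℂˣ) = n := by
      rw [← Nat.card_eq_fintype_card, card_hom_of_comm hZcomm]
    -- lower bound
    have hlow : ∀ μ : ↥Z →* ℂˣ, p * n ≤ n + (Finset.univ.filter (fun g : G => r μ g)).card := by
      intro μ
      set T := inertiaHom Z μ with hT
      have hZT : Z ≤ T := le_inertiaHom Z μ
      have hTZ : ¬ T ≤ Z := inertia_not_le Z p hp hidx hcd μ
      have hTcard : p * n ≤ Nat.card T := by
        by_cases hTtop : T = ⊤
        · rw [hTtop, Subgroup.card_top, hcardG]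
          calc p * n = 1 * (p * n) := (one_mul _).symm
            _ ≤ p * (p * n) := Nat.mul_le_mul_right _ hp.pos
            _ = p * p * n := by ring
        · have h1 := index_of_between Z p hp hidx T hZT hTZ hTtop
          have h2 := Subgroup.card_mul_index T
          rw [h1, hcardG] at h2
          have h3 : Nat.card T * p = (p * n) * p := by rw [h2]; ring
          exact le_of_eq (Nat.eq_of_mul_eq_mul_right hp.pos h3).symm
      have hsplit : (Finset.univ.filter (fun g : G => g ∈ T)).card
          = (Finset.univ.filter (fun g : G => g ∈ Z)).card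
            + (Finset.univ.filter (fun g : G => r μ g)).card := by
        have h1 := Finset.card_filter_add_card_filter_not
          (s := Finset.univ.filter (fun g : G => g ∈ T)) (fun g : G => g ∈ Z)
        rw [Finset.filter_filter, Finset.filter_filter] at h1
        rw [← h1]
        congr 1
        · congr 1
          ext g
          simp only [Finset.mem_filter, Finset.mem_univ, true_and]
          exact ⟨fun h => h.2, fun h => ⟨hZT h, h⟩⟩
        · congr 1
          ext g
          simp only [Finset.mem_filter, Finset.mem_univ, true_and, r]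
          exact ⟨fun h => ⟨h.2, h.1⟩, fun h => ⟨h.2, h.1⟩⟩
      have hcT : (Finset.univ.filter (fun g : G => g ∈ T)).card = Nat.card T := by
        rw [Nat.card_eq_fintype_card, Fintype.card_subtype]
      have hcZ : (Finset.univ.filter (fun g : G => g ∈ Z)).card = n := by
        rw [hn, Nat.card_eq_fintype_card, Fintype.card_subtype]
      rw [hcT, hcZ] at hsplit
      rw [← hsplit]
      exact hTcard
    have hlowS : n * (p * n) ≤ n * n + S := by
      have h1 : ∑ μ : ↥Z →* ℂˣ, p * n ≤ ∑ μ : ↥Z →* ℂˣ,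
          (n + (Finset.univ.filter (fun g : G => r μ g)).card) :=
        Finset.sum_le_sum (fun μ _ => hlow μ)
      rw [Finset.sum_const, Finset.card_univ, hcardhom, Finset.sum_add_distrib, Finset.sum_const,
        Finset.card_univ, hcardhom, smul_eq_mul, smul_eq_mul] at h1
      exact h1
    -- upper bound
    have hup : ∀ g : G, (Finset.univ.filter (fun μ : ↥Z →* ℂˣ => r μ g)).card * a
        ≤ if g ∈ Z then 0 else n := by
      intro g
      by_cases hg : g ∈ Z
      · rw [if_pos hg]
        have : Finset.univ.filter (fun μ : ↥Z →* ℂˣ => r μ g) = ∅ := by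
          apply Finset.filter_false_of_mem
          intro μ _ h
          exact h.1 hg
        rw [this, Finset.card_empty, zero_mul]
      · rw [if_neg hg]
        have h1 := card_fixed_mul_le Z hZab g
        rw [hrange g hg] at h1
        have : Finset.univ.filter (fun μ : ↥Z →* ℂˣ => r μ g)
            = Finset.univ.filter (fun μ : ↥Z →* ℂˣ => g ∈ inertiaHom Z μ) := by
          ext μ
          simp only [Finset.mem_filter, Finset.mem_univ, true_and, r]
          exact ⟨fun h => h.2, fun h => ⟨hg, h⟩⟩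
        rw [this]
        exact h1
    have hupS : S * a + n * n ≤ p * p * n * n := by
      rw [hdc, Finset.sum_mul]
      have h1 : ∑ g : G, (Finset.univ.filter (fun μ : ↥Z →* ℂˣ => r μ g)).card * a
          ≤ ∑ g : G, (if g ∈ Z then 0 else n) := Finset.sum_le_sum (fun g _ => hup g)
      have h2 : ∑ g : G, (if g ∈ Z then 0 else n) + n * n = p * p * n * n := by
        have h3 : ∑ g : G, (if g ∈ Z then n else 0) = n * n := by
          rw [← Finset.sum_filter, Finset.sum_const, smul_eq_mul]
          congr 1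
          rw [hn, Nat.card_eq_fintype_card, Fintype.card_subtype]
        have h4 : ∑ g : G, ((if g ∈ Z then 0 else n) + (if g ∈ Z then n else 0))
            = ∑ g : G, n := by
          apply Finset.sum_congr rfl
          intro g _
          by_cases hg : g ∈ Z
          · rw [if_pos hg, if_pos hg, zero_add]
          · rw [if_neg hg, if_neg hg, add_zero]
        rw [Finset.sum_add_distrib, h3, Finset.sum_const, Finset.card_univ, smul_eq_mul,
          ← Nat.card_eq_fintype_card, hcardG] at h4
        exact h4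
      omega
    -- arithmetic
    set m := n * n with hm
    have hmpos : 0 < m := Nat.mul_pos hnpos hnpos
    have e1 : a * (p * m) ≤ a * m + a * S := by
      have : p * m = n * (p * n) := by rw [hm]; ring
      rw [this, ← mul_add]
      exact Nat.mul_le_mul_left a hlowS
    have e2 : a * S + m ≤ p * p * m := by
      have : p * p * m = p * p * n * n := by rw [hm]; ring
      rw [this, mul_comm a S]
      exact hupS
    -- a p m + m ≤ a m + p p m
    have e3 : a * p * m + m ≤ a * m + p * p * m := by
      have : a * p * m = a * (p * m) := by ring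
      rw [this]
      omega
    have e4 : a * p + 1 ≤ a + p * p := by
      have h1 : (a * p + 1) * m ≤ (a + p * p) * m := by
        have : (a * p + 1) * m = a * p * m + m := by ring
        rw [this]
        have : (a + p * p) * m = a * m + p * p * m := by ring
        rw [this]
        exact e3
      exact Nat.le_of_mul_le_mul_right h1 hmpos
    have e5 : 2 * a ≤ a * p := by
      rw [mul_comm a p]
      exact Nat.mul_le_mul_right a hp.two_le
    omega
  -- conclude
  have hj1 : j = 1 := by
    by_contra hne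
    have hj2 : 2 ≤ j := by omega
    apply hnotsq
    rw [hj, ← sq]
    exact Nat.pow_le_pow_right hp.pos hj2
  rw [hj, hj1, pow_one]

end

end Cfsg.Agent.Lib.Helper3.CD
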