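import Mathlib
import Cfsg.Agent.Lib.Helper3.CD13

set_option autoImplicit false
set_option linter.unusedSectionVars false
set_option linter.unusedVariables false

/-! Isaacs' Theorem 12.11. -/

namespace Cfsg.Agent.Lib.Helper3.CD

open Cfsg Cfsg.Agent.Lib.Helper6
open scoped Pointwise

/-- in an internal direct product of a `p`-group and an abelian group commutators are
`p`-elements -/
theorem comm_pow_of_direct {G : Type*} [Group G] [Finite G] (p : ℕ)
    (P A : Subgroup G) (hPn : P.Normal) (hP : IsPGroup p P)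
    (hA : ∀ a ∈ A, ∀ b ∈ A, a * b = b * a) (hsup : P ⊔ A = ⊤) (a b : G) :
    ∃ k : ℕ, (a * b * a⁻¹ * b⁻¹) ^ (p ^ k) = 1 := by
  have hdecomp : ∀ g : G, ∃ x ∈ P, ∃ y ∈ A, x * y = g := by
    intro g
    have hg : g ∈ (↑(P ⊔ A) : Set G) := by rw [hsup]; exact Set.mem_univ g
    rw [Subgroup.normal_mul] at hg
    obtain ⟨x, hx, y, hy, hxy⟩ := Set.mem_mul.mp hg
    exact ⟨x, hx, y, hy, hxy⟩
  have hQ : ∀ g h : G, (QuotientGroup.mk g : G ⧸ P) * QuotientGroup.mk h
      = QuotientGroup.mk h * QuotientGroup.mk g := by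
    intro g h
    obtain ⟨x₁, hx₁, y₁, hy₁, rfl⟩ := hdecomp g
    obtain ⟨x₂, hx₂, y₂, hy₂, rfl⟩ := hdecomp h
    have e1 : (QuotientGroup.mk (x₁ * y₁) : G ⧸ P) = QuotientGroup.mk y₁ := by
      rw [QuotientGroup.mk_mul, (QuotientGroup.eq_one_iff x₁).mpr hx₁, one_mul]
    have e2 : (QuotientGroup.mk (x₂ * y₂) : G ⧸ P) = QuotientGroup.mk y₂ := by
      rw [QuotientGroup.mk_mul, (QuotientGroup.eq_one_iff x₂).mpr hx₂, one_mul]
    rw [e1, e2, ← QuotientGroup.mk_mul, ← QuotientGroup.mk_mul, hA y₁ hy₁ y₂ hy₂]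
  have hmem : a * b * a⁻¹ * b⁻¹ ∈ P := by
    rw [← QuotientGroup.eq_one_iff]
    rw [QuotientGroup.mk_mul, QuotientGroup.mk_mul, QuotientGroup.mk_mul, QuotientGroup.mk_inv,
      QuotientGroup.mk_inv, hQ a b]
    group
  obtain ⟨k, hk⟩ := hP ⟨_, hmem⟩
  refine ⟨k, ?_⟩
  have := congrArg Subtype.val hk
  rw [Subgroup.coe_pow, Subgroup.coe_one] at this
  exact this

theorem degrees_of_abelian_index {G : Type*} [Group G] [Finite G] (p : ℕ) (hp : p.Prime)
    (A : Subgroup G) (hAn : A.Normal) (hAab : ∀ a ∈ A, ∀ b ∈ A, a * b = b * a)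
    (hAidx : A.index = p) (χ : Cfsg.IrrCharacter G) :
    Cfsg.charDegree (χ : G → ℂ) = 1 ∨ Cfsg.charDegree (χ : G → ℂ) = p := by
  obtain ⟨d, hd1, hd2⟩ := ito_aux (Nat.card G) G rfl A hAn hAab (χ : G → ℂ) χ.2
  rw [IsCharacter.apply_one_eq_charDegree (IsIrrCharacter.isCharacter χ.2)] at hd1
  have : Cfsg.charDegree (χ : G → ℂ) = d := by exact_mod_cast hd1
  rw [this]
  rw [hAidx] at hd2
  exact (Nat.dvd_prime hp).mp hd2

theorem degrees_of_center_index {G : Type*} [Group G] [Finite G] (p : ℕ) (hp : p.Prime)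
    (hZ : (Subgroup.center G).index = p ^ 3) (χ : Cfsg.IrrCharacter G) :
    Cfsg.charDegree (χ : G → ℂ) = 1 ∨ Cfsg.charDegree (χ : G → ℂ) = p := by
  classical
  have : Fintype G := Fintype.ofFinite G
  set d := Cfsg.charDegree (χ : G → ℂ) with hd
  -- d divides p^3
  have hdvd : d ∣ p ^ 3 := by
    obtain ⟨n, ρ, hirr, hρ⟩ := χ.2
    haveI := hirr
    have h1 := finrank_dvd_index_center ρ
    rw [hZ, ← charDegree_character ρ, hρ] at h1
    exact h1
  -- d^2 ≤ p^3
  have hsq : d * d ≤ p ^ 3 := by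
    have hsum := FT.sum_normSq_eq_card χ.2
    have hle : ∑ g ∈ Finset.univ.filter (fun g : G => g ∈ Subgroup.center G),
        Complex.normSq ((χ : G → ℂ) g) ≤ ∑ g : G, Complex.normSq ((χ : G → ℂ) g) := by
      apply Finset.sum_le_sum_of_subset_of_nonneg (Finset.filter_subset _ _)
      intro g _ _
      exact Complex.normSq_nonneg _
    have hconst : ∑ g ∈ Finset.univ.filter (fun g : G => g ∈ Subgroup.center G),
        Complex.normSq ((χ : G → ℂ) g)
        = (Nat.card (Subgroup.center G) : ℝ) * ((d : ℝ) * d) := by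
      have h1 : ∀ g ∈ Finset.univ.filter (fun g : G => g ∈ Subgroup.center G),
          Complex.normSq ((χ : G → ℂ) g) = (d : ℝ) * d := by
        intro g hg
        rw [Finset.mem_filter] at hg
        have := FT.normSq_apply_center_mul χ.2 hg.2 1
        rw [mul_one] at this
        rw [this, IsCharacter.apply_one_eq_charDegree (IsIrrCharacter.isCharacter χ.2),
          Complex.normSq_natCast]
      rw [Finset.sum_congr rfl h1, Finset.sum_const, nsmul_eq_mul]
      congr 2
      rw [Nat.card_eq_fintype_card, Fintype.card_subtype]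
    rw [hconst, hsum] at hle
    have h2 := Subgroup.card_mul_index (Subgroup.center G)
    rw [hZ] at h2
    have h3 : Nat.card (Subgroup.center G) * (d * d) ≤ Nat.card (Subgroup.center G) * p ^ 3 := by
      rw [h2]
      exact_mod_cast hle
    exact Nat.le_of_mul_le_mul_left h3 Nat.card_pos
  obtain ⟨i, hi, hdi⟩ := (Nat.dvd_prime_pow hp).mp hdvd
  have hi2 : i < 2 := by
    by_contra hge
    push Not at hge
    have h1 : p ^ 2 ≤ d := by rw [hdi]; exact Nat.pow_le_pow_right hp.pos hge
    have h2 : p ^ 2 * p ^ 2 ≤ d * d := Nat.mul_le_mul h1 h1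
    have h3 : p ^ 2 * p ^ 2 = p ^ 3 * p := by ring
    have h4 : p ^ 3 * p ≤ p ^ 3 * 1 := by rw [mul_one, ← h3]; exact h2.trans hsq
    have := Nat.le_of_mul_le_mul_left h4 (pow_pos hp.pos 3)
    exact absurd hp.one_lt (not_lt.mpr this)
  interval_cases i
  · left; rw [hdi, pow_zero]
  · right; rw [hdi, pow_one]

theorem isaacs_12_11 {G : Type*} [Group G] [Finite G] (hG : ∃ a b : G, a * b ≠ b * a) (p : ℕ)
    (hp : p.Prime) :
    ((∀ χ : Cfsg.IrrCharacter G, Cfsg.charDegree (χ : G → ℂ) = 1 ∨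
        Cfsg.charDegree (χ : G → ℂ) = p) ∧
      ∃ χ : Cfsg.IrrCharacter G, Cfsg.charDegree (χ : G → ℂ) = p) ↔
    ((∃ A : Subgroup G, A.Normal ∧ (∀ a ∈ A, ∀ b ∈ A, a * b = b * a) ∧ A.index = p) ∨
      (Subgroup.center G).index = p ^ 3) := by
  classical
  have : Fintype G := Fintype.ofFinite G
  constructor
  · rintro ⟨hcd, hm⟩
    by_cases hA : ∃ A : Subgroup G, A.Normal ∧ (∀ a ∈ A, ∀ b ∈ A, a * b = b * a) ∧ A.index = p
    · left; exact hA
    · right
      have hp1 : p ≠ 1 := hp.one_lt.ne'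
      -- commutators are p-elements
      have hpow : ∀ a b : G, ∃ k : ℕ, (a * b * a⁻¹ * b⁻¹) ^ (p ^ k) = 1 := by
        rcases two_degrees p hcd hm hp1 with h | ⟨p', e, hp', he, P, A, hPn, hAn, hP, hAab, hinf,
          hsup⟩
        · exact absurd h hA
        · have hpp : p' = p := ((Nat.Prime.pow_eq_iff hp).mp he.symm).1
          subst hpp
          exact comm_pow_of_direct p' P A hPn hP hAab hsup
      -- the quotient
      rcases reduction p hcd hm hp1 with h | ⟨K, hKn, q, hq, hQp, hQG, hmin⟩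
      · exact absurd h hA
      · obtain ⟨β, hβ⟩ := exists_nonlinear hQG
        have hβdeg : Cfsg.charDegree (β : G ⧸ K → ℂ) = p :=
          (cd_quotient K p hcd β).resolve_left hβ
        haveI : Fact q.Prime := ⟨hq⟩
        have hqp : q = p := by
          obtain ⟨j, hj⟩ := IsPGroup.iff_card.mp hQp
          have hdvd : p ∣ q ^ j := by
            rw [← hβdeg, ← hj]
            exact IsIrrCharacter.charDegree_dvd_card β.2
          exact ((Nat.prime_dvd_prime_iff_eq hp hq).mp (hp.dvd_of_dvd_pow hdvd)).symm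
        subst hqp
        have : Fintype (G ⧸ K) := Fintype.ofFinite _
        obtain ⟨hcomZ, hvanQ, hnormQ, hidxQ⟩ := pgroup_center_index q hq hQp hQG hmin
          (β : G ⧸ K → ℂ) β.2 hβdeg
        set Z := (Subgroup.center (G ⧸ K)).comap (QuotientGroup.mk' K) with hZdef
        have hZn : Z.Normal := inferInstance
        have hidx : Z.index = q ^ 2 := by
          rw [hZdef, Subgroup.index_comap_of_surjective _ (QuotientGroup.mk'_surjective K)]
          exact hidxQ
        have hmemZ : ∀ g : G, g ∈ Z ↔ (QuotientGroup.mk g : G ⧸ K) ∈ Subgroup.center (G ⧸ K) := by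
          intro g
          rw [hZdef, Subgroup.mem_comap]
          rfl
        have hQab : ∀ a b : G, a * b * a⁻¹ * b⁻¹ ∈ Z := by
          intro a b
          rw [hmemZ]
          have := hcomZ (comm_mem_commutator (QuotientGroup.mk a : G ⧸ K) (QuotientGroup.mk b))
          simpa using this
        set χ : G → ℂ := fun g => (β : G ⧸ K → ℂ) (QuotientGroup.mk g) with hχdef
        have hχ : Cfsg.IsIrrCharacter G χ := IsIrrCharacter.comp_mk K β.2
        have hvan : ∀ g, g ∉ Z → χ g = 0 := by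
          intro g hg
          rw [hmemZ] at hg
          exact hvanQ _ hg
        have hnorm : ∀ g ∈ Z, Complex.normSq (χ g) = (q : ℝ) ^ 2 := by
          intro g hg
          rw [hmemZ] at hg
          exact hnormQ _ hg
        have hZab := abelian_of_vanishing Z q hq hidx χ hχ hvan hnorm hcd
        have hcent := mem_of_centralizes Z q hq hidx hZab hQab hG hA
        have hrel := center_relIndex Z q hq hidx hZab hQab hcd hcent hpow
        have hcZ : Subgroup.center G ≤ Z := by
          intro x hx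
          apply hcent
          intro z _
          exact (Subgroup.mem_center_iff.mp hx z).symm
        have h1 := Subgroup.relIndex_mul_index hcZ
        have h2 : (Subgroup.center G).relIndex Z = q := hrel
        rw [h2, hidx] at h1
        rw [← h1]
        ring
  · rintro (⟨A, hAn, hAab, hAidx⟩ | hZ)
    · have hcd := degrees_of_abelian_index p hp A hAn hAab hAidx
      refine ⟨hcd, ?_⟩
      obtain ⟨χ, hχ⟩ := exists_nonlinear hG
      exact ⟨χ, (hcd χ).resolve_left hχ⟩
    · have hcd := degrees_of_center_index p hp hZ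
      refine ⟨hcd, ?_⟩
      obtain ⟨χ, hχ⟩ := exists_nonlinear hG
      exact ⟨χ, (hcd χ).resolve_left hχ⟩

end Cfsg.Agent.Lib.Helper3.CD
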