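import Mathlib
import Cfsg.Agent.Lib.Helper3.CD8
import Cfsg.Agent.Lib.Helper6.Taketa
import Cfsg.Agent.Lib.Helper6.NilpMono
import Cfsg.Agent.Lib.Helper6.ProdChar
import Cfsg.Agent.Lib.Helper6.SecondOrth

set_option autoImplicit false
set_option linter.unusedSectionVars false
set_option linter.unusedVariables false

/-! Isaacs' Corollary 12.6: two character degrees implies metabelian. -/

namespace Cfsg.Agent.Lib.Helper3.CD

open Cfsg Cfsg.Agent.Lib.Helper6

/-- a linear character is trivial on the commutator subgroup -/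
theorem linear_apply_of_mem_commutator {G : Type*} [Group G] {χ : G → ℂ}
    (hχ : Cfsg.IsCharacter G χ) (h1 : χ 1 = 1) {g : G} (hg : g ∈ commutator G) : χ g = 1 := by
  have hker := Abelianization.commutator_subset_ker (linearCharHom hχ h1)
  have h2 := hker hg
  rw [MonoidHom.mem_ker] at h2
  rw [← linearCharHom_apply hχ h1 g, h2]
  rfl

/-- Taketa's argument for two degrees: in a monomial group with degrees `1` and `m` the second
derived subgroup lies in every kernel -/
theorem taketa_two {G : Type*} [Group G] [Fintype G]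
    (hM : ∀ χ : G → ℂ, Cfsg.IsIrrCharacter G χ →
      ∃ (H : Subgroup G) (lam : H →* ℂˣ), χ = Cfsg.indFun H (fun h => (lam h : ℂ)))
    (m : ℕ) (hcd : ∀ χ : Cfsg.IrrCharacter G, Cfsg.charDegree (χ : G → ℂ) = 1 ∨
      Cfsg.charDegree (χ : G → ℂ) = m)
    (χ : G → ℂ) (hχ : Cfsg.IsIrrCharacter G χ) (g : G) (hg : g ∈ derivedSeries G 2) :
    χ g = χ 1 := by
  classical
  have hg1 : g ∈ commutator G := by
    have h1 : derivedSeries G 2 ≤ derivedSeries G 1 := derivedSeries_antitone G (by norm_num)
    have h2 : derivedSeries G 1 = commutator G := by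
      rw [derivedSeries_succ, derivedSeries_zero, commutator_def]
    rw [← h2]; exact h1 hg
  have hN1 : derivedSeries G 1 = commutator G := by
    rw [derivedSeries_succ, derivedSeries_zero, commutator_def]
  by_cases hlin : Cfsg.charDegree χ = 1
  · have h1 : χ 1 = 1 := by
      rw [IsCharacter.apply_one_eq_charDegree (IsIrrCharacter.isCharacter hχ), hlin]; simp
    rw [linear_apply_of_mem_commutator (IsIrrCharacter.isCharacter hχ) h1 hg1, h1]
  · have hdeg : Cfsg.charDegree χ = m := (hcd ⟨χ, hχ⟩).resolve_left hlin
    have hm1 : m ≠ 1 := by rw [← hdeg]; exact hlin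
    obtain ⟨H, lam, hχeq⟩ := hM χ hχ
    have hχ1 : χ 1 = (H.index : ℂ) := by
      rw [hχeq, indFun_one]
      simp
    have hidx : H.index = m := by
      have h1 := IsCharacter.apply_one_eq_charDegree (IsIrrCharacter.isCharacter hχ)
      rw [hχ1, hdeg] at h1
      exact_mod_cast h1
    set N := commutator G with hN
    have hNn : N.Normal := inferInstance
    set A := Cfsg.indFun H (fun _ => (1 : ℂ)) with hAdef
    have hA : Cfsg.IsCharacter G A := IsCharacter.indFun H isCharacter_one
    have hA1 : A 1 = (H.index : ℂ) := by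
      rw [hAdef, indFun_one]
      simp
    have hAdeg : Cfsg.charDegree A = m := by
      have h1 := IsCharacter.apply_one_eq_charDegree hA
      rw [hA1, hidx] at h1
      exact_mod_cast h1.symm
    have hA1G : Cfsg.classInner A (fun _ => (1 : ℂ)) = 1 := by
      have : Fintype H := Fintype.ofFinite H
      rw [hAdef, Cfsg.Agent.S0146.result H _ _ (IsCharacter.isClassFunction isCharacter_one)]
      unfold Cfsg.classInner
      simp
    have hNH : N ≤ H := by
      by_cases htop : H = ⊤
      · rw [htop]; exact le_top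
      · intro x hx
        apply mem_of_indFun_one_eq_index
        rw [← hA1]
        apply IsCharacter.apply_eq_apply_one_of_constituents hA
        intro θ hθ
        have hθlin : Cfsg.charDegree (θ : G → ℂ) = 1 := by
          by_contra hnot
          have hθdeg : Cfsg.charDegree (θ : G → ℂ) = m := (hcd θ).resolve_left hnot
          have hAθ : A = θ := by
            apply IsCharacter.eq_of_constituent_of_apply_one_eq hA θ.2 hθ
            rw [IsCharacter.apply_one_eq_charDegree hA,
              IsCharacter.apply_one_eq_charDegree (IsIrrCharacter.isCharacter θ.2), hAdeg, hθdeg]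
          have hθ1 : (θ : G → ℂ) = fun _ => (1 : ℂ) := by
            by_contra hne
            have := classInner_isIrrCharacter θ.2 (isIrrCharacter_one (G := G))
            rw [if_neg hne, ← hAθ, hA1G] at this
            exact one_ne_zero this
          have h1 : (H.index : ℂ) = 1 := by
            rw [← hA1, hAθ, hθ1]
          have h2 : H.index = 1 := by exact_mod_cast h1
          exact htop (Subgroup.index_eq_one.mp h2)
        have hθ1 : (θ : G → ℂ) 1 = 1 := by
          rw [IsCharacter.apply_one_eq_charDegree (IsIrrCharacter.isCharacter θ.2), hθlin]; simp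
        rw [linear_apply_of_mem_commutator (IsIrrCharacter.isCharacter θ.2) hθ1 hx, hθ1]
    have hD2 : derivedSeries G 2 = ⁅N, N⁆ := by
      rw [derivedSeries_succ, hN1]
    have hNn' : (derivedSeries G 2).Normal := derivedSeries_normal G 2
    have hle : derivedSeries G 2 ≤ H := by
      rw [hD2]
      exact (Subgroup.commutator_le_left N N).trans hNH
    rw [hχeq]
    apply indFun_linear_apply_of_mem_normal H lam (derivedSeries G 2) hle _ hg
    intro n hn
    rw [hD2] at hn
    exact linear_commutator_eq_one H lam N hNH n hn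

/-- in a monomial group with two character degrees the commutator subgroup is abelian -/
theorem comm_of_monomial {G : Type*} [Group G] [Fintype G]
    (hM : ∀ χ : G → ℂ, Cfsg.IsIrrCharacter G χ →
      ∃ (H : Subgroup G) (lam : H →* ℂˣ), χ = Cfsg.indFun H (fun h => (lam h : ℂ)))
    (m : ℕ) (hcd : ∀ χ : Cfsg.IrrCharacter G, Cfsg.charDegree (χ : G → ℂ) = 1 ∨
      Cfsg.charDegree (χ : G → ℂ) = m) :
    ∀ a ∈ commutator G, ∀ b ∈ commutator G, a * b = b * a := by
  intro a ha b hb
  have hmem : a * b * a⁻¹ * b⁻¹ ∈ derivedSeries G 2 := by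
    have hN1 : derivedSeries G 1 = commutator G := by
      rw [derivedSeries_succ, derivedSeries_zero, commutator_def]
    rw [derivedSeries_succ, hN1]
    have := Subgroup.commutator_mem_commutator ha hb
    rw [commutatorElement_def] at this
    exact this
  have hconj : IsConj (a * b * a⁻¹ * b⁻¹) 1 := by
    rw [isConj_iff_forall_irr]
    intro χ
    exact taketa_two hM m hcd χ χ.2 _ hmem
  have h1 : a * b * a⁻¹ * b⁻¹ = 1 := isConj_one_left.mp hconj
  calc a * b = (a * b * a⁻¹ * b⁻¹) * (b * a) := by group
    _ = b * a := by rw [h1, one_mul]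

/-- an internal direct product of a `p`-group and an abelian group is nilpotent -/
theorem nilpotent_of_direct {G : Type*} [Group G] [Finite G] (p : ℕ) (hp : p.Prime)
    (P A : Subgroup G) (hPn : P.Normal) (hAn : A.Normal) (hP : IsPGroup p P)
    (hA : ∀ a ∈ A, ∀ b ∈ A, a * b = b * a) (hinf : P ⊓ A = ⊥) (hsup : P ⊔ A = ⊤) :
    Group.IsNilpotent G := by
  haveI : Fact p.Prime := ⟨hp⟩
  have hPnil : Group.IsNilpotent P := hP.isNilpotent
  letI : CommGroup A := { (inferInstance : Group A) with
    mul_comm := fun a b => Subtype.ext (hA a a.2 b b.2) }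
  have hAnil : Group.IsNilpotent A := inferInstance
  have hcomm : ∀ (x : P) (y : A), Commute (P.subtype x) (A.subtype y) := by
    intro x y
    exact Subgroup.commute_of_normal_of_disjoint P A hPn hAn (disjoint_iff.mpr hinf) x y x.2 y.2
  let φ : P × A →* G := MonoidHom.noncommCoprod P.subtype A.subtype hcomm
  have hφ : Function.Surjective φ := by
    rw [← MonoidHom.range_eq_top, MonoidHom.noncommCoprod_range, Subgroup.range_subtype,
      Subgroup.range_subtype, hsup]
  exact nilpotent_of_surjective φ hφ

theorem commutator_comm_of_two_degrees {G : Type*} [Group G] [Finite G] (m : ℕ)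
    (hcd : ∀ χ : Cfsg.IrrCharacter G, Cfsg.charDegree (χ : G → ℂ) = 1 ∨
      Cfsg.charDegree (χ : G → ℂ) = m)
    (hm : ∃ χ : Cfsg.IrrCharacter G, Cfsg.charDegree (χ : G → ℂ) = m) (hm1 : m ≠ 1) :
    ∀ a ∈ commutator G, ∀ b ∈ commutator G, a * b = b * a := by
  classical
  have : Fintype G := Fintype.ofFinite G
  rcases two_degrees m hcd hm hm1 with ⟨A, hAn, hAab, hAidx⟩ | ⟨p, e, hp, he, P, A, hPn, hAn, hP, hA,
    hinf, hsup⟩
  · -- G ⧸ A is abelian
    have hQ : ∀ x y : G ⧸ A, x * y = y * x := by
      by_contra hno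
      push Not at hno
      obtain ⟨β, hβ⟩ := exists_nonlinear hno
      have hβdeg : Cfsg.charDegree (β : G ⧸ A → ℂ) = m := (cd_quotient A m hcd β).resolve_left hβ
      have : Fintype (G ⧸ A) := Fintype.ofFinite _
      have : Fintype (Cfsg.IrrCharacter (G ⧸ A)) := Fintype.ofFinite _
      have hsum := sum_sq_charDegree (K := G ⧸ A)
      have hle : Cfsg.charDegree (β : G ⧸ A → ℂ) ^ 2 ≤ Nat.card (G ⧸ A) := by
        rw [← hsum]
        exact Finset.single_le_sum (f := fun χ : Cfsg.IrrCharacter (G ⧸ A) =>
          Cfsg.charDegree (χ : G ⧸ A → ℂ) ^ 2) (fun _ _ => Nat.zero_le _) (Finset.mem_univ β)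
      rw [hβdeg, ← Subgroup.index_eq_card, hAidx] at hle
      have hmpos : 0 < m := by rw [← hβdeg]; exact IsIrrCharacter.charDegree_pos β.2
      have : m ≤ 1 := by nlinarith
      omega
    have hle : commutator G ≤ A := by
      rw [commutator_def, Subgroup.commutator_le]
      intro x _ y _
      rw [commutatorElement_def, ← QuotientGroup.eq_one_iff]
      rw [QuotientGroup.mk_mul, QuotientGroup.mk_mul, QuotientGroup.mk_mul, QuotientGroup.mk_inv,
        QuotientGroup.mk_inv, hQ (QuotientGroup.mk x) (QuotientGroup.mk y)]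
      group
    intro a ha b hb
    exact hAab a (hle ha) b (hle hb)
  · have hnil := nilpotent_of_direct p hp P A hPn hAn hP hA hinf hsup
    have hM : ∀ χ : G → ℂ, Cfsg.IsIrrCharacter G χ →
        ∃ (H : Subgroup G) (lam : H →* ℂˣ), χ = Cfsg.indFun H (fun h => (lam h : ℂ)) :=
      fun χ hχ => nilpotent_monomial (Nat.card G) G rfl χ hχ
    exact comm_of_monomial hM m hcd

end Cfsg.Agent.Lib.Helper3.CD
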