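import Mathlib
import Cfsg.Prelude.Def_FischerSpaces
import Cfsg.Agent.Lib.Helper2.ZS10
import Cfsg.Agent.Lib.Helper6.InvSylow
import Cfsg.Agent.Lib.Helper1.Index
import Cfsg.Agent.Lib.Helper1.PCore
import Cfsg.Agent.Lib.Helper1.FittingCentralizer
import Cfsg.Agent.Lib.Helper1.PLengthOne

set_option autoImplicit false

/-! 3-transposition groups: basics and the width-one theorem. -/

namespace Cfsg.Agent.Lib.Helper3.TT

open Cfsg

universe u

variable {G : Type u} [Group G]

/-- A conjugation-invariant set of 3-transpositions, in equational form. -/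
structure TSet (D : Set G) : Prop where
  sq : ∀ d ∈ D, d * d = 1
  ne_one : ∀ d ∈ D, d ≠ 1
  conj : ∀ g : G, ∀ d ∈ D, g * d * g⁻¹ ∈ D
  three : ∀ a ∈ D, ∀ b ∈ D, a * b = b * a ∨ (a * b) ^ 3 = 1

theorem TSet.of_set {D : Set G} (hD : IsThreeTranspositionSet D)
    (hc : ∀ g : G, ∀ d ∈ D, g * d * g⁻¹ ∈ D) : TSet D := by
  have hsq : ∀ d ∈ D, d * d = 1 := by
    intro d hd
    have := hD.1 d hd
    rw [← pow_two, ← this]; exact pow_orderOf_eq_one d
  refine ⟨hsq, ?_, hc, ?_⟩
  · intro d hd h1
    have := hD.1 d hd
    rw [h1, orderOf_one] at this; omega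
  · intro a ha b hb
    rcases hD.2 a ha b hb with h | h
    · left
      have ha2 := hsq a ha
      have hb2 := hsq b hb
      rw [pow_two] at h
      calc a * b = a * b * (b * a * (a * b)) := by
              have : b * a * (a * b) = 1 := by
                rw [mul_assoc, ← mul_assoc a a b, ha2, one_mul, hb2]
              rw [this, mul_one]
        _ = (a * b * (a * b))⁻¹⁻¹ * (b * a) * 1 := by
              rw [inv_inv, mul_one]
              have : a * b * (b * a * (a * b)) = a * (b * b) * (a * (a * b)) := by group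
              rw [this, hb2, mul_one, ← mul_assoc, ha2, one_mul, h, one_mul]
              rw [show b * a = (a * b * (a * b)) * (b * a) by rw [h, one_mul]]
              have : a * b * (a * b) * (b * a) = a * b * (a * (b * b) * a) := by group
              rw [this, hb2, mul_one, ha2, mul_one]
        _ = b * a := by rw [inv_inv, h, one_mul, mul_one]
    · right; exact h

theorem TSet.of_group {D : Set G} (hD : IsThreeTranspositionGroup D) : TSet D :=
  TSet.of_set hD.1 hD.2.1

theorem TSet.of_class {D : Set G} (hD : IsThreeTranspositionClass D) : TSet D := by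
  apply TSet.of_set hD.1
  obtain ⟨d, hd, hDd⟩ := hD.2.1
  intro g e he
  rw [hDd] at he ⊢
  have he' : IsConj d e := he
  show IsConj d (g * e * g⁻¹)
  exact he'.trans (isConj_iff.mpr ⟨g, rfl⟩)

namespace TSet

variable {D : Set G} (h : TSet D)

include h

theorem inv {d : G} (hd : d ∈ D) : d⁻¹ = d :=
  inv_eq_of_mul_eq_one_left (h.sq d hd)

theorem orderOf_eq {d : G} (hd : d ∈ D) : orderOf d = 2 := by
  apply orderOf_eq_prime
  · rw [pow_two]; exact h.sq d hd
  · exact h.ne_one d hd

theorem conj' {d : G} (hd : d ∈ D) (g : G) : g⁻¹ * d * g ∈ D := by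
  have := h.conj g⁻¹ d hd
  rwa [inv_inv] at this

/-- conjugation by a member -/
theorem conj_mem {a b : G} (ha : a ∈ D) (hb : b ∈ D) : a * b * a ∈ D := by
  have := h.conj a b hb
  rwa [h.inv ha] at this

theorem cube {a b : G} (ha : a ∈ D) (hb : b ∈ D) (hab : a * b ≠ b * a) : (a * b) ^ 3 = 1 := by
  rcases h.three a ha b hb with h1 | h1
  · exact absurd h1 hab
  · exact h1

/-- the braid relation for non-commuting members -/
theorem braid {a b : G} (ha : a ∈ D) (hb : b ∈ D) (hab : a * b ≠ b * a) :
    a * b * a = b * a * b := by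
  have h3 := h.cube ha hb hab
  have ha2 := h.sq a ha
  have hb2 := h.sq b hb
  have : a * b * a * (b * a * b)⁻¹ = 1 := by
    rw [mul_inv_rev, mul_inv_rev, h.inv ha, h.inv hb]
    rw [pow_succ, pow_two] at h3
    calc a * b * a * (b * (a * b)) = a * b * (a * b) * (a * b) := by group
      _ = 1 := h3
  exact mul_inv_eq_one.mp this

/-- a product of two members cubes to one as soon as it is not an involution -/
theorem cube' {a b : G} (ha : a ∈ D) (hb : b ∈ D) (hw : a * b = b * a → a = b) :
    (a * b) ^ 3 = 1 := by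
  by_cases hab : a * b = b * a
  · rw [hw hab, h.sq b hb, one_pow]
  · exact h.cube ha hb hab

/-- `d e` conjugates `d` to `e` when `d, e` do not commute. -/
theorem conj_eq {a b : G} (ha : a ∈ D) (hb : b ∈ D) (hab : a * b ≠ b * a) :
    (a * b) * a * (a * b)⁻¹ = b := by
  have hbr := h.braid ha hb hab
  rw [mul_inv_rev, h.inv ha, h.inv hb]
  calc a * b * a * (b * a) = a * (b * a * b) * a := by group
    _ = a * (a * b * a) * a := by rw [hbr]
    _ = (a * a) * b * (a * a) := by group
    _ = b := by rw [h.sq a ha, one_mul, mul_one]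

end TSet

theorem relIndex_mul_card' {H K : Subgroup G} (h : H ≤ K) :
    H.relIndex K * Nat.card H = Nat.card K := by
  have h1 := (H.subgroupOf K).index_mul_card
  rw [Nat.card_congr (Subgroup.subgroupOfEquivOfLe h).toEquiv] at h1
  exact h1

/-! ### Width -/

theorem width_eq_one_iff [Finite G] {D : Set G} (hne : D.Nonempty) :
    commutingWidth D = 1 ↔ ∀ a ∈ D, ∀ b ∈ D, a * b = b * a → a = b := by
  set S : Set ℕ := {n : ℕ | ∃ E : Set G, E ⊆ D ∧ E.Finite ∧ (∀ a ∈ E, ∀ b ∈ E, Commute a b) ∧
    E.ncard = n} with hS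
  have hw : commutingWidth D = sSup S := rfl
  have hbdd : BddAbove S := by
    refine ⟨Nat.card G, ?_⟩
    rintro n ⟨E, -, -, -, rfl⟩
    exact Set.ncard_le_card E
  obtain ⟨d, hd⟩ := hne
  have h1 : 1 ∈ S := by
    refine ⟨{d}, by simpa using hd, Set.finite_singleton d, ?_, Set.ncard_singleton d⟩
    intro a ha b hb
    rw [Set.mem_singleton_iff] at ha hb
    rw [ha, hb]
  rw [hw]
  constructor
  · intro hsup a ha b hb hab
    by_contra hne
    have h2 : 2 ∈ S := by
      refine ⟨{a, b}, ?_, Set.toFinite _, ?_, Set.ncard_pair hne⟩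
      · intro x hx
        rcases hx with rfl | rfl
        · exact ha
        · exact hb
      · intro x hx y hy
        rcases hx with rfl | rfl <;> rcases hy with rfl | rfl
        · exact Commute.refl _
        · exact hab
        · exact hab.symm
        · exact Commute.refl _
    have := le_csSup hbdd h2
    omega
  · intro hno
    apply le_antisymm
    · apply csSup_le ⟨1, h1⟩
      rintro n ⟨E, hED, hEf, hEc, rfl⟩
      by_contra hlt
      push Not at hlt
      obtain ⟨a, b, ha, hb, hab⟩ := (Set.one_lt_ncard_iff hEf).mp hlt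
      exact hab (hno a (hED ha) b (hED hb) (hEc a ha b hb))
    · exact le_csSup hbdd h1

/-! ### The width-one theorem -/

/-- **Width one**: a finite group generated by a conjugation-invariant set `D` of 3-transpositions no two
of which commute has a normal 3-subgroup `T` containing all products `e d`. -/
theorem exists_normal_three [Finite G] {D : Set G} (h : TSet D)
    (hgen : Subgroup.closure D = ⊤) (hw : ∀ a ∈ D, ∀ b ∈ D, a * b = b * a → a = b)
    {d : G} (hd : d ∈ D) :
    ∃ T : Subgroup G, T.Normal ∧ IsPGroup 3 T ∧ ∀ e ∈ D, e * d ∈ T := by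
  classical
  have hdinv := h.inv hd
  have hd2 := h.sq d hd
  -- `d` is isolated
  have hiso : IsIsolatedInvolution d := by
    refine ⟨h.orderOf_eq hd, fun g hc => ?_⟩
    exact hw _ (h.conj g d hd) _ hd hc.eq.symm
  set K : Subgroup G := oddCore G with hK
  have hKn : K.Normal := Cfsg.Agent.Lib.Helper1.pPrimeCore_normal 2
  have hKodd : Odd (Nat.card K) := by
    have := Cfsg.Agent.Lib.Helper1.pPrimeCore_card_coprime (G := G) 2
    exact Nat.Coprime.odd_of_right this
  have hZ : ∀ g : G, d * g * d⁻¹ * g⁻¹ ∈ K := fun g => Cfsg.Agent.Lib.Helper2.ZS.zstar d hiso g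
  -- products lie in `K`
  have hprodK : ∀ e ∈ D, e * d ∈ K := by
    intro e he
    have h3 : (d * e) ^ 3 = 1 := h.cube' hd he (fun hc => (hw _ he _ hd hc.symm).symm)
    have := hZ e
    rw [hdinv, h.inv he] at this
    have h4 : d * e * d * e = e * d := by
      have : d * e * d * e * (d * e) = 1 := by
        rw [pow_succ, pow_two] at h3
        calc d * e * d * e * (d * e) = d * e * (d * e) * (d * e) := by group
          _ = 1 := h3
      have h5 : d * e * d * e = (d * e)⁻¹ := eq_inv_of_mul_eq_one_left this
      rw [h5, mul_inv_rev, hdinv, h.inv he]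
    rwa [h4] at this
  have hdK : ∀ c ∈ K, d * c * d⁻¹ ∈ K := fun c hc => hKn.conj_mem c hc d
  -- invariant Sylow subgroups
  have hsyl : ∀ p : ℕ, p.Prime → ∃ R : Subgroup G, R ≤ K ∧
      Nat.card R = p ^ (Nat.card K).factorization p ∧ ∀ v ∈ R, d * v * d⁻¹ ∈ R := by
    intro p hp
    have : Fact p.Prime := ⟨hp⟩
    exact Cfsg.Agent.Lib.Helper6.exists_invariant_sylow_of_odd p K hKodd d hd2 hdK
  set C : Subgroup G := K ⊓ Subgroup.centralizer {d} with hC
  -- for `p ≠ 3` the invariant Sylow `p`-subgroup centralizes `d`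
  have hcent : ∀ p : ℕ, p.Prime → p ≠ 3 → ∀ R : Subgroup G, R ≤ K →
      Nat.card R = p ^ (Nat.card K).factorization p → (∀ v ∈ R, d * v * d⁻¹ ∈ R) → R ≤ C := by
    intro p hp hp3 R hRK hRc hRd v hv
    refine ⟨hRK hv, ?_⟩
    show v ∈ Subgroup.centralizer {d}
    rw [Subgroup.mem_centralizer_singleton_iff]
    set e := v * d * v⁻¹ with he
    have heD : e ∈ D := h.conj v d hd
    have hed : e * d ∈ R := by
      have h1 : d * v⁻¹ * d⁻¹ ∈ R := hRd _ (R.inv_mem hv)
      have : e * d = v * (d * v⁻¹ * d⁻¹) := by rw [he, hdinv]; group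
      rw [this]; exact R.mul_mem hv h1
    have h3 : (e * d) ^ 3 = 1 := h.cube' heD hd (fun hc => hw _ heD _ hd hc)
    have hone : e * d = 1 := by
      have ho3 : orderOf (e * d) ∣ 3 := orderOf_dvd_of_pow_eq_one h3
      have hop : orderOf (e * d) ∣ p ^ (Nat.card K).factorization p := by
        rw [← hRc]
        have := orderOf_dvd_natCard (⟨e * d, hed⟩ : R)
        rwa [Subgroup.orderOf_mk] at this
      have hcop : Nat.Coprime 3 (p ^ (Nat.card K).factorization p) := by
        apply Nat.Coprime.pow_right
        rw [Nat.coprime_primes Nat.prime_three hp]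
        exact fun h => hp3 h.symm
      have := Nat.dvd_gcd ho3 hop
      rw [hcop] at this
      exact orderOf_eq_one_iff.mp (Nat.dvd_one.mp this)
    have : v * d * v⁻¹ = d := by
      have := eq_inv_of_mul_eq_one_left hone
      rw [hdinv] at this; exact this
    calc v * d = v * d * v⁻¹ * v := by group
      _ = d * v := by rw [this]
  -- the index of `C` in `K` is a power of three
  have hCK : C ≤ K := inf_le_left
  have hidx : ∀ q : ℕ, q.Prime → q ∣ C.relIndex K → q = 3 := by
    intro q hq hdvd
    by_contra hq3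
    obtain ⟨R, hRK, hRc, hRd⟩ := hsyl q hq
    have hRC : R ≤ C := hcent q hq hq3 R hRK hRc hRd
    have h1 : C.relIndex K ∣ R.relIndex K := Subgroup.relIndex_dvd_of_le_left K hRC
    have h2 : R.relIndex K * Nat.card R = Nat.card K := relIndex_mul_card' hRK
    have h3 : R.relIndex K = Nat.card K / q ^ (Nat.card K).factorization q := by
      rw [← hRc]
      exact (Nat.div_eq_of_eq_mul_left Nat.card_pos h2.symm).symm
    have hK0 : Nat.card K ≠ 0 := Nat.card_pos.ne'
    have := Nat.not_dvd_ordCompl hq hK0
    apply this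
    rw [← h3]
    exact hdvd.trans h1
  have hC0 : C.relIndex K ≠ 0 := by
    have : C.relIndex K ∣ Nat.card K := Subgroup.relIndex_dvd_card C K
    intro h0
    rw [h0, zero_dvd_iff] at this
    exact Nat.card_pos.ne' this
  have hCpow : C.relIndex K = 3 ^ (C.relIndex K).primeFactorsList.length :=
    Nat.eq_prime_pow_of_unique_prime_dvd hC0 (fun {q} hq hd => hidx q hq hd)
  -- the invariant Sylow 3-subgroup
  obtain ⟨T, hTK, hTc, hTd⟩ := hsyl 3 Nat.prime_three
  have hTp : IsPGroup 3 T := by
    have : Fact (Nat.Prime 3) := ⟨Nat.prime_three⟩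
    exact IsPGroup.of_card hTc
  have hTidx : Nat.Coprime (T.relIndex K) 3 := by
    have h2 : T.relIndex K * Nat.card T = Nat.card K := relIndex_mul_card' hTK
    have h3 : T.relIndex K = Nat.card K / 3 ^ (Nat.card K).factorization 3 := by
      rw [← hTc]
      exact (Nat.div_eq_of_eq_mul_left Nat.card_pos h2.symm).symm
    rw [h3]
    exact (Nat.coprime_ordCompl Nat.prime_three Nat.card_pos.ne').symm
  -- `K = T C`
  have hTC : ∀ k ∈ K, ∃ t ∈ T, ∃ c ∈ C, k = t * c := by
    intro k hk
    have hcop : ((T.subgroupOf K).index).Coprime ((C.subgroupOf K).index) := by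
      show (T.relIndex K).Coprime (C.relIndex K)
      rw [hCpow]
      exact Nat.Coprime.pow_right _ hTidx
    obtain ⟨x, hx, y, hy, hxy⟩ :=
      Cfsg.Agent.Lib.Helper1.mul_eq_of_coprime_index (T.subgroupOf K) (C.subgroupOf K) hcop ⟨k, hk⟩
    refine ⟨x, Subgroup.mem_subgroupOf.mp hx, y, Subgroup.mem_subgroupOf.mp hy, ?_⟩
    have := congrArg Subtype.val hxy
    simpa using this
  -- every member of `D` is a `T`-conjugate of `d`
  have hDT : ∀ e ∈ D, e * d ∈ T := by
    intro e he
    by_cases hc : e * d = d * e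
    · rw [hw _ he _ hd hc, hd2]; exact T.one_mem
    · have hk : d * e ∈ K := by
        have := K.inv_mem (hprodK e he)
        rwa [mul_inv_rev, hdinv, h.inv he] at this
      obtain ⟨t, ht, c, hcC, htc⟩ := hTC _ hk
      have hconj : (d * e) * d * (d * e)⁻¹ = e := h.conj_eq hd he (fun h' => hc h'.symm)
      have hcd : c * d = d * c := by
        have h' : c ∈ Subgroup.centralizer {d} := hcC.2
        rw [Subgroup.mem_centralizer_singleton_iff] at h'
        exact h'
      have hcd' : c * d * c⁻¹ = d := by
        rw [hcd]; group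
      have het : e = t * d * t⁻¹ := by
        rw [← hconj, htc]
        calc t * c * d * (t * c)⁻¹ = t * (c * d * c⁻¹) * t⁻¹ := by group
          _ = t * d * t⁻¹ := by rw [hcd']
      have : e * d = t * (d * t⁻¹ * d⁻¹) := by rw [het, hdinv]; group
      rw [this]
      exact T.mul_mem ht (hTd _ (T.inv_mem ht))
  -- `T` is normal
  have hTn : T.Normal := by
    have hdN : d ∈ Subgroup.normalizer (T : Set G) := by
      rw [Subgroup.mem_normalizer_iff]
      intro x
      constructor
      · intro hx; exact hTd x hx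
      · intro hx
        have := hTd _ hx
        rw [hdinv] at this
        have h2 : d * (d * x * d) * d = x := by
          calc d * (d * x * d) * d = (d * d) * x * (d * d) := by group
            _ = x := by rw [hd2, one_mul, mul_one]
        rw [hdinv] at hx
        have := hTd _ hx
        rw [hdinv] at this
        rwa [h2] at this
    have hle : Subgroup.closure D ≤ Subgroup.normalizer (T : Set G) := by
      rw [Subgroup.closure_le]
      intro e he
      have h1 : e * d ∈ Subgroup.normalizer (T : Set G) := Subgroup.le_normalizer (hDT e he)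
      have : e = e * d * d := by rw [mul_assoc, hd2, mul_one]
      rw [this]
      exact Subgroup.mul_mem _ h1 hdN
    rw [hgen] at hle
    exact Subgroup.normalizer_eq_top_iff.mp (top_le_iff.mp hle)
  exact ⟨T, hTn, hTp, hDT⟩

end Cfsg.Agent.Lib.Helper3.TT
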