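import Mathlib
import Cfsg.Agent.Lib.Helper3.TT1
import Cfsg.Agent.Lib.Lead.BaerSuzuki

set_option autoImplicit false

/-! 3-transposition groups: word computations in strings, and the classes `V_d`. -/

namespace Cfsg.Agent.Lib.Helper3.TT

open Cfsg

universe u

variable {G : Type u} [Group G]

/-- conjugating a commutation relation -/
theorem comm_conj {x y : G} (g : G) (hxy : x * y = y * x) :
    (g * x * g⁻¹) * (g * y * g⁻¹) = (g * y * g⁻¹) * (g * x * g⁻¹) := by
  calc (g * x * g⁻¹) * (g * y * g⁻¹) = g * (x * y) * g⁻¹ := by group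
    _ = g * (y * x) * g⁻¹ := by rw [hxy]
    _ = _ := by group

theorem comm_conj_iff {x y : G} (g : G) :
    (g * x * g⁻¹) * (g * y * g⁻¹) = (g * y * g⁻¹) * (g * x * g⁻¹) ↔ x * y = y * x := by
  constructor
  · intro hh
    have := comm_conj g⁻¹ hh
    simpa [mul_assoc] using this
  · exact comm_conj g

/-- moving a conjugation to the other side of a commutation relation -/
theorem comm_conj_swap {w a : G} (k : G) (hh : w * (k * a * k⁻¹) = (k * a * k⁻¹) * w) :
    a * (k⁻¹ * w * k) = (k⁻¹ * w * k) * a := by
  calc a * (k⁻¹ * w * k) = k⁻¹ * ((k * a * k⁻¹) * w) * k := by group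
    _ = k⁻¹ * (w * (k * a * k⁻¹)) * k := by rw [hh]
    _ = _ := by group

namespace TSet

variable {D : Set G} (h : TSet D)

include h

theorem comm_of_conj {a g : G} (ha : a ∈ D) (hh : a * g * a = g) : a * g = g * a := by
  calc a * g = a * g * (a * a) := by rw [h.sq a ha, mul_one]
    _ = (a * g * a) * a := by group
    _ = g * a := by rw [hh]

theorem conj_of_comm {a g : G} (ha : a ∈ D) (hh : a * g = g * a) : a * g * a = g := by
  rw [hh, mul_assoc, h.sq a ha, mul_one]

/-- In a string `a - d - c` with `a, c` commuting, `c d a d c` commutes with `d`. -/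
theorem string_commute {a d c : G} (ha : a ∈ D) (hd : d ∈ D) (hc : c ∈ D)
    (hac : a * c = c * a) (hcd : c * d ≠ d * c) :
    d * (c * d * a * d * c) = (c * d * a * d * c) * d := by
  apply h.comm_of_conj hd
  have hbr : d * c * d = c * d * c := h.braid hd hc (fun e => hcd e.symm)
  have hcac : c * a * c = a := h.conj_of_comm hc hac.symm
  calc d * (c * d * a * d * c) * d = (d * c * d) * a * (d * c * d) := by group
    _ = (c * d * c) * a * (c * d * c) := by rw [hbr]
    _ = c * d * (c * a * c) * d * c := by group
    _ = c * d * a * d * c := by rw [hcac]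

theorem string_mem {a d c : G} (ha : a ∈ D) (hd : d ∈ D) (hc : c ∈ D) :
    c * d * a * d * c ∈ D := by
  have h1 : d * a * d ∈ D := h.conj_mem hd ha
  have h2 := h.conj_mem hc h1
  have : c * (d * a * d) * c = c * d * a * d * c := by group
  rwa [this] at h2

theorem string_ne {a d c : G} (ha : a ∈ D) (hd : d ∈ D) (hc : c ∈ D)
    (hcd : c * d ≠ d * c) (hne : a ≠ c) : c * d * a * d * c ≠ d := by
  intro hh
  apply hne
  have hbr : d * c * d = c * d * c := h.braid hd hc (fun e => hcd e.symm)
  have hd2 := h.sq d hd
  have hc2 := h.sq c hc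
  calc a = (d * d) * ((c * c) * a * (c * c)) * (d * d) := by
          rw [hd2, hc2]; simp
    _ = d * c * (c * d * a * d * c) * c * d := by
          have hc2' : c * c = 1 := hc2
          have e1 : d * d * (c * c * a * (c * c)) * (d * d) = d * (d * (c * c) * a * (c * c) * d) * d := by
            group
          rw [e1, hc2']
          have e2 : d * c * (c * d * a * d * c) * c * d = d * ((c * c) * d * a * d * (c * c)) * d := by
            group
          rw [e2, hc2']
          group
    _ = d * c * d * c * d := by rw [hh]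
    _ = (d * c * d) * c * d := by group
    _ = (c * d * c) * c * d := by rw [hbr]
    _ = c * d * (c * c) * d := by group
    _ = c := by rw [hc2, mul_one, mul_assoc, hd2, mul_one]

/-- the key computation: if `w` commutes with `c d a d c` and `c, w` braid, then `a` commutes with
the conjugate of `c` by `d w`. -/
theorem conj_commute_of {a d c w : G} (hd : d ∈ D) (hc : c ∈ D) (hw : w ∈ D)
    (hcw : c * w ≠ w * c) (hg : w * (c * d * a * d * c) = (c * d * a * d * c) * w) :
    a * ((d * w) * c * (d * w)⁻¹) = ((d * w) * c * (d * w)⁻¹) * a := by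
  have hbr : w * c * w = c * w * c := h.braid hw hc (fun e => hcw e.symm)
  have e1 : (d * w) * c * (d * w)⁻¹ = (c * d)⁻¹ * w * (c * d) := by
    rw [mul_inv_rev, mul_inv_rev, h.inv hd, h.inv hw, h.inv hc]
    calc d * w * c * (w * d) = d * (w * c * w) * d := by group
      _ = d * (c * w * c) * d := by rw [hbr]
      _ = _ := by group
  rw [e1]
  apply comm_conj_swap
  rw [mul_inv_rev, h.inv hd, h.inv hc]
  have : c * d * a * (d * c) = c * d * a * d * c := by group
  rw [this]; exact hg

/-- In a string `d - e - v` with `d, v` commuting, `e (d v) e` conjugates `d` to `v`. -/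
theorem string_conj {d e v : G} (hd : d ∈ D) (he : e ∈ D) (hv : v ∈ D)
    (hed : e * d ≠ d * e) (hev : e * v ≠ v * e) (hdv : d * v = v * d) :
    (e * (d * v) * e) * d * (e * (d * v) * e)⁻¹ = v := by
  have hbr1 : e * d * e = d * e * d := h.braid he hd hed
  have hbr2 : v * e * v = e * v * e := h.braid hv he (fun x => hev x.symm)
  have hdvd : d * v * d = v := h.conj_of_comm hd hdv
  rw [mul_inv_rev, mul_inv_rev, mul_inv_rev, h.inv hd, h.inv he, h.inv hv]
  calc e * (d * v) * e * d * (e * (v * d * e)) = e * d * v * (e * d * e) * v * d * e := by group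
    _ = e * d * v * (d * e * d) * v * d * e := by rw [hbr1]
    _ = e * (d * v * d) * e * (d * v * d) * e := by group
    _ = e * v * e * v * e := by rw [hdvd]
    _ = e * (v * e * v) * e := by group
    _ = e * (e * v * e) * e := by rw [hbr2]
    _ = (e * e) * v * (e * e) := by group
    _ = v := by rw [h.sq e he, one_mul, mul_one]

end TSet

end Cfsg.Agent.Lib.Helper3.TT
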