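import Mathlib
import Cfsg.Agent.Lib.Helper3.TT2

set_option autoImplicit false

/-! 3-transposition groups: the classes `V_d` and the 2-core. -/

namespace Cfsg.Agent.Lib.Helper3.TT

open Cfsg

universe u

variable {G : Type u} [Group G]

/-- `u` and `u'` commute with the same members of `D`. -/
def SameP (D : Set G) (u u' : G) : Prop := ∀ e ∈ D, u' * e = e * u' ↔ u * e = e * u

theorem SameP.refl (D : Set G) (u : G) : SameP D u u := fun _ _ => Iff.rfl

theorem SameP.symm {D : Set G} {u u' : G} (hs : SameP D u u') : SameP D u' u :=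
  fun e he => (hs e he).symm

theorem SameP.trans {D : Set G} {u u' u'' : G} (hs : SameP D u u') (hs' : SameP D u' u'') :
    SameP D u u'' := fun e he => (hs' e he).trans (hs e he)

theorem SameP.comm {D : Set G} {u u' : G} (hs : SameP D u u') (hu' : u' ∈ D) :
    u * u' = u' * u := (hs u' hu').mp rfl

theorem SameP.conj {D : Set G} (h : TSet D) {u u' : G} (hs : SameP D u u') (g : G) :
    SameP D (g * u * g⁻¹) (g * u' * g⁻¹) := by
  intro e he
  have he' : g⁻¹ * e * g ∈ D := h.conj' he g
  have e1 : e = g * (g⁻¹ * e * g) * g⁻¹ := by group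
  rw [e1, comm_conj_iff, comm_conj_iff]
  exact hs _ he'

namespace TSet

variable {D : Set G} (h : TSet D)

include h

/-- conjugation by `y = u u'` (with `u, u'` of the same perp) preserves commutation in `D`. -/
theorem sameP_conj_comm {u u' : G} (hu : u ∈ D) (hu' : u' ∈ D) (hs : SameP D u u')
    {e f : G} (he : e ∈ D) (hf : f ∈ D) (hef : e * f = f * e) :
    ((u * u') * f * (u * u')⁻¹) * e = e * ((u * u') * f * (u * u')⁻¹) := by
  have huu : u * u' = u' * u := hs.comm hu'
  have hyy : (u * u') * (u * u') = 1 := by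
    calc (u * u') * (u * u') = u * (u' * u) * u' := by group
      _ = u * (u * u') * u' := by rw [huu]
      _ = (u * u) * (u' * u') := by group
      _ = 1 := by rw [h.sq u hu, h.sq u' hu', one_mul]
  have hyinv : (u * u')⁻¹ = u * u' := inv_eq_of_mul_eq_one_left hyy
  by_cases h1 : u * e = e * u
  · have h1' : u' * e = e * u' := (hs e he).mpr h1
    have hye : (u * u') * e * (u * u')⁻¹ = e := by
      calc (u * u') * e * (u * u')⁻¹ = u * (u' * e) * (u * u')⁻¹ := by group
        _ = u * (e * u') * (u * u')⁻¹ := by rw [h1']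
        _ = (u * e) * u' * (u * u')⁻¹ := by group
        _ = (e * u) * u' * (u * u')⁻¹ := by rw [h1]
        _ = e := by group
    have := comm_conj (u * u') hef.symm
    rw [hye] at this
    exact this
  · have h1' : ¬ u' * e = e * u' := fun hh => h1 ((hs e he).mp hh)
    by_cases h2 : u * f = f * u
    · have h2' : u' * f = f * u' := (hs f hf).mpr h2
      have hyf : (u * u') * f * (u * u')⁻¹ = f := by
        calc (u * u') * f * (u * u')⁻¹ = u * (u' * f) * (u * u')⁻¹ := by group
          _ = u * (f * u') * (u * u')⁻¹ := by rw [h2']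
          _ = (u * f) * u' * (u * u')⁻¹ := by group
          _ = (f * u) * u' * (u * u')⁻¹ := by rw [h2]
          _ = f := by group
      rw [hyf]; exact hef.symm
    · -- both `e` and `f` do not commute with `u`, `u'`
      have hgD : e * u * f * u * e ∈ D := h.string_mem hf hu he
      have hgu : u * (e * u * f * u * e) = (e * u * f * u * e) * u :=
        h.string_commute hf hu he hef.symm (fun hh => h1 hh.symm)
      have hgu' : u' * (e * u * f * u * e) = (e * u * f * u * e) * u' := (hs _ hgD).mpr hgu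
      have key := h.conj_commute_of (a := f) hu he hu' (fun hh => h1' hh.symm) hgu'
      -- key : f * (y e y⁻¹) = (y e y⁻¹) * f
      have k2 := comm_conj (u * u') key
      have e2 : (u * u') * ((u * u') * e * (u * u')⁻¹) * (u * u')⁻¹ = e := by
        rw [hyinv]
        calc (u * u') * ((u * u') * e * (u * u')) * (u * u')
            = ((u * u') * (u * u')) * e * ((u * u') * (u * u')) := by group
          _ = e := by rw [hyy, one_mul, mul_one]
      rw [e2] at k2
      exact k2

/-- `y e y⁻¹` has the same perp as `e`, for `y = u u'`. -/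
theorem sameP_conj {u u' : G} (hu : u ∈ D) (hu' : u' ∈ D) (hs : SameP D u u')
    {e : G} (he : e ∈ D) : SameP D e ((u * u') * e * (u * u')⁻¹) := by
  intro f hf
  constructor
  · intro hh
    have he' : (u * u') * e * (u * u')⁻¹ ∈ D := h.conj _ e he
    have := h.sameP_conj_comm hu hu' hs he' hf hh
    -- (y f y⁻¹) (y e y⁻¹) = (y e y⁻¹) (y f y⁻¹)
    exact ((comm_conj_iff (u * u')).mp this).symm
  · intro hh
    exact h.sameP_conj_comm hu hu' hs hf he hh.symm

end TSet

/-- Two involutions whose product has order dividing 4 generate a 2-group. -/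
theorem isPGroup_two_of_pow_four {y y' : G} (hy : y * y = 1) (hy' : y' * y' = 1)
    (h4 : (y * y') ^ 4 = 1) :
    IsPGroup 2 ↥(Subgroup.zpowers y ⊔ Subgroup.zpowers y') := by
  have hyinv : y⁻¹ = y := inv_eq_of_mul_eq_one_left hy
  have hy'inv : y'⁻¹ = y' := inv_eq_of_mul_eq_one_left hy'
  set r := y * y' with hr
  have hP1 : IsPGroup 2 ↥(Subgroup.zpowers y) := by
    rintro ⟨x, hx⟩
    refine ⟨1, ?_⟩
    obtain ⟨k, rfl⟩ := Subgroup.mem_zpowers_iff.mp hx
    apply Subtype.ext
    simp only [pow_one, Subgroup.coe_pow, Subgroup.coe_one]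
    rw [← zpow_natCast, ← zpow_mul, mul_comm, zpow_mul, zpow_natCast, pow_two, hy, one_zpow]
  have hP2 : IsPGroup 2 ↥(Subgroup.zpowers r) := by
    rintro ⟨x, hx⟩
    refine ⟨2, ?_⟩
    obtain ⟨k, rfl⟩ := Subgroup.mem_zpowers_iff.mp hx
    apply Subtype.ext
    simp only [Subgroup.coe_pow, Subgroup.coe_one]
    rw [← zpow_natCast, ← zpow_mul, mul_comm, zpow_mul, zpow_natCast]
    norm_num
    rw [h4, one_zpow]
  have hconj : y * r * y⁻¹ = r⁻¹ := by
    rw [hr, mul_inv_rev, hyinv, hy'inv]
    calc y * (y * y') * y = (y * y) * y' * y := by group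
      _ = y' * y := by rw [hy, one_mul]
  have hconj' : y⁻¹ * r * y = r⁻¹ := by
    have := hconj
    rw [hyinv] at this ⊢
    exact this
  have hnorm : Subgroup.zpowers y ≤ Subgroup.normalizer (Subgroup.zpowers r : Set G) := by
    rw [Subgroup.zpowers_le]
    rw [Subgroup.mem_normalizer_iff]
    intro n
    constructor
    · intro hn
      obtain ⟨k, rfl⟩ := Subgroup.mem_zpowers_iff.mp hn
      have : y * r ^ k * y⁻¹ = (r⁻¹) ^ k := by
        rw [← hconj, conj_zpow]
      rw [this]
      exact Subgroup.zpow_mem _ (inv_mem (Subgroup.mem_zpowers r)) k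
    · intro hn
      obtain ⟨k, hk⟩ := Subgroup.mem_zpowers_iff.mp hn
      have e1 : n = y⁻¹ * (y * n * y⁻¹) * y := by group
      rw [e1, ← hk]
      have : y⁻¹ * r ^ k * y = (r⁻¹) ^ k := by
        rw [← hconj']
        have := conj_zpow (a := y⁻¹) (b := r) (i := k)
        rw [inv_inv] at this
        exact this.symm
      rw [this]
      exact Subgroup.zpow_mem _ (inv_mem (Subgroup.mem_zpowers r)) k
  have hsup := IsPGroup.to_sup_of_normal_right' hP1 hP2 hnorm
  apply hsup.to_le
  apply sup_le le_sup_left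
  rw [Subgroup.zpowers_le]
  have : y' = y * r := by
    rw [hr, ← mul_assoc, hy, one_mul]
  rw [this]
  exact Subgroup.mul_mem_sup (Subgroup.mem_zpowers y) (Subgroup.mem_zpowers r)

theorem eq_one_of_pow_coprime {x : G} {m n : ℕ} (hm : x ^ m = 1) (hn : x ^ n = 1)
    (hc : Nat.Coprime m n) : x = 1 := by
  have h1 := orderOf_dvd_of_pow_eq_one hm
  have h2 := orderOf_dvd_of_pow_eq_one hn
  have h3 : orderOf x ∣ 1 := by
    have := Nat.dvd_gcd h1 h2
    rwa [hc.gcd_eq_one] at this
  exact orderOf_eq_one_iff.mp (Nat.dvd_one.mp h3)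

/-- in a class of 3-transpositions any two members are conjugate -/
theorem class_conj {D : Set G} (hD : IsThreeTranspositionClass D) {a b : G} (ha : a ∈ D)
    (hb : b ∈ D) : ∃ g : G, g * a * g⁻¹ = b := by
  obtain ⟨d, hd, hDd⟩ := hD.2.1
  rw [hDd] at ha hb
  have ha' : IsConj d a := ha
  have hb' : IsConj d b := hb
  exact isConj_iff.mp (ha'.symm.trans hb')

/-- in a class of 3-transpositions with at least two members generating the group, every member
fails to commute with some other member -/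
theorem exists_not_comm {D : Set G} (hD : IsThreeTranspositionClass D)
    (hD2 : ∃ a ∈ D, ∃ b ∈ D, a ≠ b) {d : G} (hd : d ∈ D) : ∃ e ∈ D, e * d ≠ d * e := by
  by_contra hcon
  push Not at hcon
  have hcl : Subgroup.closure D = ⊤ := hD.2.2
  have hle : Subgroup.closure D ≤ Subgroup.centralizer {d} := by
    rw [Subgroup.closure_le]
    intro e he
    show e ∈ Subgroup.centralizer {d}
    rw [Subgroup.mem_centralizer_singleton_iff]
    exact hcon e he
  have hcent : ∀ g : G, g * d = d * g := by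
    intro g
    have : g ∈ Subgroup.centralizer {d} := hle (by rw [hcl]; trivial)
    rw [Subgroup.mem_centralizer_singleton_iff] at this
    exact this
  have hall : ∀ a ∈ D, a = d := by
    intro a ha
    obtain ⟨g, hg⟩ := class_conj hD hd ha
    rw [← hg, hcent g, mul_assoc, mul_inv_cancel, mul_one]
  obtain ⟨a, ha, b, hb, hab⟩ := hD2
  exact hab ((hall a ha).trans (hall b hb).symm)

namespace TSet

variable {D : Set G} (h : TSet D)

include h

/-- modulo a normal 2-subgroup: members of `D` in the same coset have the same perp -/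
theorem comm_of_mem_pCore_two [Finite G] {d v e : G} (hd : d ∈ D) (hv : v ∈ D) (he : e ∈ D)
    (hq : d⁻¹ * v ∈ Cfsg.pCore 2 G) (hde : d * e = e * d) : v * e = e * v := by
  have h2 : Fact (Nat.Prime 2) := ⟨Nat.prime_two⟩
  by_contra hne
  have h3 : (v * e) ^ 3 = 1 := h.cube hv he hne
  have hn := Cfsg.Agent.Lib.Helper1.pCore_normal (G := G) 2
  have hQ : IsPGroup 2 (Cfsg.pCore 2 G) := Cfsg.Agent.Lib.Helper1.pCore_isPGroup 2
  have hvd : (QuotientGroup.mk v : G ⧸ Cfsg.pCore 2 G) = QuotientGroup.mk d := by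
    rw [eq_comm, QuotientGroup.eq]; exact hq
  have hde2 : (d * e) ^ 2 = 1 := by
    rw [pow_two]
    calc d * e * (d * e) = d * (e * d) * e := by group
      _ = d * (d * e) * e := by rw [hde]
      _ = (d * d) * (e * e) := by group
      _ = 1 := by rw [h.sq d hd, h.sq e he, one_mul]
  have hve : (QuotientGroup.mk (v * e) : G ⧸ Cfsg.pCore 2 G) = QuotientGroup.mk (d * e) := by
    rw [QuotientGroup.mk_mul, QuotientGroup.mk_mul, hvd]
  have q2 : (QuotientGroup.mk (v * e) : G ⧸ Cfsg.pCore 2 G) ^ 2 = 1 := by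
    rw [hve, ← QuotientGroup.mk_pow, hde2]; rfl
  have q3 : (QuotientGroup.mk (v * e) : G ⧸ Cfsg.pCore 2 G) ^ 3 = 1 := by
    rw [← QuotientGroup.mk_pow, h3]; rfl
  have q1 : (QuotientGroup.mk (v * e) : G ⧸ Cfsg.pCore 2 G) = 1 :=
    eq_one_of_pow_coprime q2 q3 (by norm_num)
  have hmem : v * e ∈ Cfsg.pCore 2 G := (QuotientGroup.eq_one_iff _).mp q1
  obtain ⟨k, hk⟩ := hQ ⟨v * e, hmem⟩
  have hk' : (v * e) ^ 2 ^ k = 1 := by
    have := congrArg Subtype.val hk
    simpa using this
  have hone : v * e = 1 :=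
    eq_one_of_pow_coprime hk' h3 (by apply Nat.Coprime.pow_left; norm_num)
  apply hne
  have : v = e := by
    have := eq_inv_of_mul_eq_one_left hone
    rw [this, h.inv he]
  rw [this]

theorem sameP_of_mem_pCore_two [Finite G] {d v : G} (hd : d ∈ D) (hv : v ∈ D)
    (hq : d⁻¹ * v ∈ Cfsg.pCore 2 G) : SameP D d v := by
  intro e he
  constructor
  · intro hve
    have hq' : v⁻¹ * d ∈ Cfsg.pCore 2 G := by
      have := inv_mem hq
      rwa [mul_inv_rev, inv_inv] at this
    exact h.comm_of_mem_pCore_two hv hd he hq' hve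
  · intro hde
    exact h.comm_of_mem_pCore_two hd hv he hq hde

theorem sameP_mul_sq {u u' : G} (hu : u ∈ D) (hu' : u' ∈ D) (hs : SameP D u u') :
    (u * u') * (u * u') = 1 := by
  have huu : u * u' = u' * u := hs.comm hu'
  calc (u * u') * (u * u') = u * (u' * u) * u' := by group
    _ = u * (u * u') * u' := by rw [huu]
    _ = (u * u) * (u' * u') := by group
    _ = 1 := by rw [h.sq u hu, h.sq u' hu', one_mul]

/-- two products `y = u u'`, `y' = t t'` of perp-equivalent pairs: `y` commutes with `y' y y'⁻¹`. -/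
theorem sameP_pair_comm {u u' t t' : G} (hu : u ∈ D) (hu' : u' ∈ D) (hs : SameP D u u')
    (ht : t ∈ D) (ht' : t' ∈ D) (hst : SameP D t t') :
    (u * u') * ((t * t') * (u * u') * (t * t')⁻¹) =
      ((t * t') * (u * u') * (t * t')⁻¹) * (u * u') := by
  set y' := t * t' with hy'
  have hu1 : y' * u * y'⁻¹ ∈ D := h.conj _ u hu
  have hu1' : y' * u' * y'⁻¹ ∈ D := h.conj _ u' hu'
  have s1 : SameP D u (y' * u * y'⁻¹) := h.sameP_conj ht ht' hst hu
  have s1' : SameP D u' (y' * u' * y'⁻¹) := h.sameP_conj ht ht' hst hu'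
  have c1 : Commute u (y' * u * y'⁻¹) := s1.comm hu1
  have c2 : Commute u (y' * u' * y'⁻¹) := (hs.trans s1').comm hu1'
  have c3 : Commute u' (y' * u * y'⁻¹) := (hs.symm.trans s1).comm hu1
  have c4 : Commute u' (y' * u' * y'⁻¹) := s1'.comm hu1'
  have e1 : y' * (u * u') * y'⁻¹ = (y' * u * y'⁻¹) * (y' * u' * y'⁻¹) := by group
  rw [e1]
  exact ((c1.mul_right c2).mul_left (c3.mul_right c4)).eq

theorem sameP_pair_pow_four {u u' t t' : G} (hu : u ∈ D) (hu' : u' ∈ D) (hs : SameP D u u')
    (ht : t ∈ D) (ht' : t' ∈ D) (hst : SameP D t t') :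
    ((u * u') * (t * t')) ^ 4 = 1 := by
  have hc := h.sameP_pair_comm hu hu' hs ht ht' hst
  have hy := h.sameP_mul_sq hu hu' hs
  have hy' := h.sameP_mul_sq ht ht' hst
  have hy'inv : (t * t')⁻¹ = t * t' := inv_eq_of_mul_eq_one_left hy'
  rw [hy'inv] at hc
  set y := u * u' with hyd
  set y' := t * t' with hy'd
  have e1 : (y * y') ^ 4 = (y * (y' * y * y')) * (y * (y' * y * y')) := by
    rw [show (4 : ℕ) = 2 + 2 by norm_num, pow_add, pow_two]
    group
  rw [e1]
  calc y * (y' * y * y') * (y * (y' * y * y'))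
      = y * ((y' * y * y') * y) * (y' * y * y') := by group
    _ = y * (y * (y' * y * y')) * (y' * y * y') := by rw [hc]
    _ = (y * y) * (y' * (y * (y' * y') * y) * y') := by group
    _ = 1 := by rw [hy, hy', mul_one, hy, mul_one, hy', one_mul]

/-- **The 2-core contains `d v`** whenever `d, v ∈ D` commute with the same members of `D`. -/
theorem sameP_mul_mem_pCore [Finite G] {d v : G} (hd : d ∈ D) (hv : v ∈ D) (hs : SameP D d v) :
    d * v ∈ Cfsg.pCore 2 G := by
  have h2 : Fact (Nat.Prime 2) := ⟨Nat.prime_two⟩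
  have hn2 := h.sameP_mul_sq hd hv hs
  have hX : IsPGroup 2 ↥(Subgroup.zpowers (d * v)) := by
    rintro ⟨x, hx⟩
    refine ⟨1, ?_⟩
    obtain ⟨k, rfl⟩ := Subgroup.mem_zpowers_iff.mp hx
    apply Subtype.ext
    simp only [pow_one, Subgroup.coe_pow, Subgroup.coe_one]
    rw [← zpow_natCast, ← zpow_mul, mul_comm, zpow_mul, zpow_natCast, pow_two, hn2, one_zpow]
  have hpair : ∀ g : G, IsPGroup 2
      ↥(Subgroup.zpowers (d * v) ⊔ Cfsg.Agent.Lib.Lead.BaerSuzuki.cj (Subgroup.zpowers (d * v)) g) := by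
    intro g
    have e1 : Cfsg.Agent.Lib.Lead.BaerSuzuki.cj (Subgroup.zpowers (d * v)) g =
        Subgroup.zpowers ((g * d * g⁻¹) * (g * v * g⁻¹)) := by
      unfold Cfsg.Agent.Lib.Lead.BaerSuzuki.cj
      rw [MonoidHom.map_zpowers]
      congr 1
      simp only [MulEquiv.coe_toMonoidHom, MulAut.conj_apply]
      group
    rw [e1]
    have hd' : g * d * g⁻¹ ∈ D := h.conj g d hd
    have hv' : g * v * g⁻¹ ∈ D := h.conj g v hv
    have hs' : SameP D (g * d * g⁻¹) (g * v * g⁻¹) := hs.conj h g
    exact isPGroup_two_of_pow_four hn2 (h.sameP_mul_sq hd' hv' hs')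
      (h.sameP_pair_pow_four hd hv hs hd' hv' hs')
  obtain ⟨N, hNn, hNp, hXN⟩ :=
    Cfsg.Agent.Lib.Lead.BaerSuzuki.baer_suzuki (Subgroup.zpowers (d * v)) hpair hX
  exact Cfsg.Agent.Lib.Helper1.le_pCore hNn hNp (hXN (Subgroup.mem_zpowers _))

end TSet

end Cfsg.Agent.Lib.Helper3.TT
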