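import Mathlib
import Cfsg.Agent.Lib.Helper3.TT3

set_option autoImplicit false

/-! 3-transposition groups: the classes `W_d` and the 3-core. -/

namespace Cfsg.Agent.Lib.Helper3.TT

open Cfsg

universe u

variable {G : Type u} [Group G]

/-- the commuting partners of `a` in `D`, other than `a` -/
def Dm (D : Set G) (a : G) : Set G := {y : G | y ∈ D ∧ y ≠ a ∧ Commute a y}

/-- the class `W_a`: members of `D` with the same commuting partners -/
def Wc (D : Set G) (a : G) : Set G := {w : G | w ∈ D ∧ Dm D a = Dm D w}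

theorem mem_Dm {D : Set G} {a y : G} : y ∈ Dm D a ↔ y ∈ D ∧ y ≠ a ∧ a * y = y * a := Iff.rfl

theorem mem_Wc {D : Set G} {a w : G} : w ∈ Wc D a ↔ w ∈ D ∧ Dm D a = Dm D w := Iff.rfl

theorem Wc_self {D : Set G} {a : G} (ha : a ∈ D) : a ∈ Wc D a := ⟨ha, rfl⟩

theorem Wc_symm {D : Set G} {a b : G} (ha : a ∈ D) (hb : b ∈ Wc D a) : a ∈ Wc D b :=
  ⟨ha, hb.2.symm⟩

theorem Wc_eq_of_mem {D : Set G} {a b : G} (hb : b ∈ Wc D a) : Wc D b = Wc D a := by
  ext w
  rw [mem_Wc, mem_Wc, hb.2]

theorem Dm_conj {D : Set G} (h : TSet D) (g a y : G) :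
    y ∈ Dm D (g * a * g⁻¹) ↔ g⁻¹ * y * g ∈ Dm D a := by
  rw [mem_Dm, mem_Dm]
  have e1 : y = g * (g⁻¹ * y * g) * g⁻¹ := by group
  constructor
  · rintro ⟨hy, hne, hc⟩
    refine ⟨h.conj' hy g, ?_, ?_⟩
    · intro hh
      apply hne
      rw [e1, hh]
    · rw [e1, comm_conj_iff] at hc
      exact hc
  · rintro ⟨hy, hne, hc⟩
    refine ⟨?_, ?_, ?_⟩
    · have := h.conj g _ hy
      rwa [← e1] at this
    · intro hh
      apply hne
      rw [hh]; group
    · rw [e1, comm_conj_iff]
      exact hc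

theorem Dm_conj_eq {D : Set G} (h : TSet D) (g : G) {a b : G} (hab : Dm D a = Dm D b) :
    Dm D (g * a * g⁻¹) = Dm D (g * b * g⁻¹) := by
  ext y
  rw [Dm_conj h, Dm_conj h, hab]

theorem Wc_conj {D : Set G} (h : TSet D) (g : G) {a w : G} (hw : w ∈ Wc D a) :
    g * w * g⁻¹ ∈ Wc D (g * a * g⁻¹) :=
  ⟨h.conj g w hw.1, Dm_conj_eq h g hw.2⟩

/-- distinct members of a `W`-class do not commute -/
theorem Wc_not_comm {D : Set G} {d w : G} (hw : w ∈ Wc D d) (hne : w ≠ d) : d * w ≠ w * d := by
  intro hc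
  have : w ∈ Dm D d := ⟨hw.1, hne, hc⟩
  rw [hw.2] at this
  exact this.2.1 rfl

/-- a `W`-class is closed under conjugation by its members -/
theorem Wc_conj_mem {D : Set G} (h : TSet D) {d w w' : G} (hw : w ∈ Wc D d) (hw' : w' ∈ Wc D d) :
    w * w' * w⁻¹ ∈ Wc D d := by
  refine ⟨h.conj w w' hw'.1, ?_⟩
  have h1 : Dm D w' = Dm D w := hw'.2.symm.trans hw.2
  have h2 := Dm_conj_eq h w h1
  have e1 : w * w * w⁻¹ = w := by group
  rw [e1] at h2
  rw [h2]; exact hw.2

/-- the subgroup generated by the products of pairs from the class of `a` -/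
def Rw (D : Set G) (a : G) : Subgroup G :=
  Subgroup.closure {z : G | ∃ w ∈ Wc D a, ∃ w' ∈ Wc D a, z = w * w'}

theorem Rw_congr {D : Set G} {a b : G} (hab : Wc D a = Wc D b) : Rw D a = Rw D b := by
  unfold Rw; rw [hab]

theorem Rw_map_le {D : Set G} (h : TSet D) (g a : G) :
    (Rw D a).map (MulAut.conj g).toMonoidHom ≤ Rw D (g * a * g⁻¹) := by
  rw [Subgroup.map_le_iff_le_comap]
  unfold Rw
  rw [Subgroup.closure_le]
  rintro z ⟨w, hw, w', hw', rfl⟩
  show (MulAut.conj g) (w * w') ∈
    Subgroup.closure {z : G | ∃ w ∈ Wc D (g * a * g⁻¹), ∃ w' ∈ Wc D (g * a * g⁻¹), z = w * w'}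
  apply Subgroup.subset_closure
  refine ⟨g * w * g⁻¹, Wc_conj h g hw, g * w' * g⁻¹, Wc_conj h g hw', ?_⟩
  simp only [MulAut.conj_apply]
  group

/-- conjugation-closure of a set of involutions under its own closure -/
theorem closure_conj_mem {W : Set G} (hinv : ∀ w ∈ W, w⁻¹ = w)
    (hW : ∀ w ∈ W, ∀ w' ∈ W, w * w' * w⁻¹ ∈ W) {g : G} (hg : g ∈ Subgroup.closure W) :
    ∀ x ∈ W, g * x * g⁻¹ ∈ W := by
  have key : (∀ x ∈ W, g * x * g⁻¹ ∈ W) ∧ (∀ x ∈ W, g⁻¹ * x * g ∈ W) := by
    induction hg using Subgroup.closure_induction with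
    | mem w hw =>
      refine ⟨fun x hx => hW w hw x hx, fun x hx => ?_⟩
      have := hW w hw x hx
      rw [hinv w hw] at this ⊢
      exact this
    | one => simp
    | mul a b _ _ iha ihb =>
      refine ⟨fun x hx => ?_, fun x hx => ?_⟩
      · have := iha.1 _ (ihb.1 x hx)
        have e : a * (b * x * b⁻¹) * a⁻¹ = a * b * x * (a * b)⁻¹ := by group
        rwa [e] at this
      · have := ihb.2 _ (iha.2 x hx)
        have e : b⁻¹ * (a⁻¹ * x * a) * b = (a * b)⁻¹ * x * (a * b) := by group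
        rwa [e] at this
    | inv a _ iha =>
      refine ⟨fun x hx => ?_, fun x hx => ?_⟩
      · have := iha.2 x hx
        rwa [inv_inv]
      · have := iha.1 x hx
        rwa [inv_inv]
  exact key.1

/-- the group generated by the products of pairs from a `W`-class is a 3-group -/
theorem Rw_isPGroup [Finite G] {D : Set G} (h : TSet D) {a : G} (ha : a ∈ D) :
    IsPGroup 3 ↥(Rw D a) := by
  classical
  set H : Subgroup G := Subgroup.closure (Wc D a) with hH
  set D' : Set H := (Subtype.val : H → G) ⁻¹' (Wc D a) with hD'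
  have hinvW : ∀ w ∈ Wc D a, w⁻¹ = w := fun w hw => h.inv hw.1
  have hWW : ∀ w ∈ Wc D a, ∀ w' ∈ Wc D a, w * w' * w⁻¹ ∈ Wc D a :=
    fun w hw w' hw' => Wc_conj_mem h hw hw'
  have hT' : TSet D' := by
    refine ⟨?_, ?_, ?_, ?_⟩
    · intro x hx
      apply Subtype.ext
      exact h.sq _ (show (x : G) ∈ Wc D a from hx).1
    · intro x hx h1
      apply h.ne_one _ (show (x : G) ∈ Wc D a from hx).1
      rw [h1]; rfl
    · intro g x hx
      show ((g * x * g⁻¹ : H) : G) ∈ Wc D a
      have := closure_conj_mem hinvW hWW g.2 (x : G) hx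
      simpa using this
    · intro x hx y hy
      rcases h.three _ (show (x : G) ∈ Wc D a from hx).1 _ (show (y : G) ∈ Wc D a from hy).1
        with h1 | h1
      · left; apply Subtype.ext; exact h1
      · right; apply Subtype.ext; simpa using h1
  have hgen : Subgroup.closure D' = ⊤ := Subgroup.closure_closure_coe_preimage
  have hw : ∀ x ∈ D', ∀ y ∈ D', x * y = y * x → x = y := by
    intro x hx y hy hxy
    by_contra hne
    have hx' : (x : G) ∈ Wc D a := hx
    have hy' : (y : G) ∈ Wc D a := hy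
    have hy'' : (y : G) ∈ Wc D (x : G) := by
      rw [Wc_eq_of_mem hx']; exact hy'
    apply Wc_not_comm hy'' (fun hh => hne (Subtype.ext hh.symm))
    have := congrArg Subtype.val hxy
    simpa using this
  have haH : a ∈ H := Subgroup.subset_closure (Wc_self ha)
  have had : (⟨a, haH⟩ : H) ∈ D' := Wc_self ha
  obtain ⟨T, hTn, hTp, hTd⟩ := exists_normal_three hT' hgen hw had
  have hle : Rw D a ≤ T.map H.subtype := by
    unfold Rw
    rw [Subgroup.closure_le]
    rintro z ⟨w, hw1, w', hw1', rfl⟩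
    have hwH : w ∈ H := Subgroup.subset_closure hw1
    have hwH' : w' ∈ H := Subgroup.subset_closure hw1'
    have m1 : (⟨w, hwH⟩ : H) * ⟨a, haH⟩ ∈ T := hTd ⟨w, hwH⟩ hw1
    have m2 : (⟨w', hwH'⟩ : H) * ⟨a, haH⟩ ∈ T := hTd ⟨w', hwH'⟩ hw1'
    have m3 := mul_mem m1 (inv_mem m2)
    refine ⟨_, m3, ?_⟩
    simp only [Subgroup.subtype_apply, Subgroup.coe_mul, Subgroup.coe_inv, mul_inv_rev]
    rw [h.inv ha, h.inv hw1'.1]
    have : w * a * (a * w') = w * (a * a) * w' := by group
    rw [this, h.sq a ha, mul_one]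
  exact (hTp.map H.subtype).to_le hle

/-- Key lemma: for `w ∈ W_d`, `a ∉ W_d` and `c` a commuting partner of `a`, the element `c` commutes
with `x⁻¹ a x` where `x = d w`. -/
theorem Wc_key {D : Set G} (h : TSet D) {d w a c : G} (hd : d ∈ D) (hw : w ∈ Wc D d)
    (hwd : w ≠ d) (ha : a ∈ D) (haW : a ∉ Wc D d) (hc : c ∈ Dm D a) :
    c * ((d * w)⁻¹ * a * (d * w)) = ((d * w)⁻¹ * a * (d * w)) * c := by
  obtain ⟨hcD, hca, hac⟩ := hc
  have hac : a * c = c * a := hac
  have hwD : w ∈ D := hw.1
  have hdw : Dm D d = Dm D w := hw.2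
  have had : a ≠ d := fun hh => haW (by rw [hh]; exact Wc_self hd)
  have haw : a ≠ w := fun hh => haW (by rw [hh]; exact hw)
  by_cases h1 : d * a = a * d
  · -- `a` commutes with `d`, hence with `w`
    have : a ∈ Dm D w := by rw [← hdw]; exact ⟨ha, had, h1⟩
    have h1' : w * a = a * w := this.2.2
    have e1 : (d * w)⁻¹ * a * (d * w) = a := by
      calc (d * w)⁻¹ * a * (d * w) = (d * w)⁻¹ * (a * d) * w := by group
        _ = (d * w)⁻¹ * (d * a) * w := by rw [h1]
        _ = (d * w)⁻¹ * d * (a * w) := by group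
        _ = (d * w)⁻¹ * d * (w * a) := by rw [h1']
        _ = a := by group
    rw [e1]; exact hac.symm
  · have h1' : ¬ w * a = a * w := by
      intro hh
      have : a ∈ Dm D d := by rw [hdw]; exact ⟨ha, haw, hh⟩
      exact h1 this.2.2
    by_cases h2 : d * c = c * d
    · have hcd : c ≠ d := by
        intro hh
        apply h1
        rw [← hh]; exact hac.symm
      have : c ∈ Dm D w := by rw [← hdw]; exact ⟨hcD, hcd, h2⟩
      have h2' : w * c = c * w := this.2.2
      have e1 : (d * w)⁻¹ * c * (d * w) = c := by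
        calc (d * w)⁻¹ * c * (d * w) = (d * w)⁻¹ * (c * d) * w := by group
          _ = (d * w)⁻¹ * (d * c) * w := by rw [h2]
          _ = (d * w)⁻¹ * d * (c * w) := by group
          _ = (d * w)⁻¹ * d * (w * c) := by rw [h2']
          _ = c := by group
      have := comm_conj (d * w)⁻¹ hac.symm
      rw [inv_inv, e1] at this
      exact this
    · have hcw : c ≠ w := by
        intro hh
        apply h1'
        rw [← hh]; exact hac.symm
      have h2' : ¬ w * c = c * w := by
        intro hh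
        have : c ∈ Dm D d := by rw [hdw]; exact ⟨hcD, hcw, hh⟩
        exact h2 this.2.2
      have hgD : c * d * a * d * c ∈ D := h.string_mem ha hd hcD
      have hgd : d * (c * d * a * d * c) = (c * d * a * d * c) * d :=
        h.string_commute ha hd hcD hac (fun hh => h2 hh.symm)
      have hgne : c * d * a * d * c ≠ d :=
        h.string_ne ha hd hcD (fun hh => h2 hh.symm) (fun hh => hca hh.symm)
      have : c * d * a * d * c ∈ Dm D w := by rw [← hdw]; exact ⟨hgD, hgne, hgd⟩
      have hgw : w * (c * d * a * d * c) = (c * d * a * d * c) * w := this.2.2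
      have key := h.conj_commute_of (a := a) hd hcD hwD (fun hh => h2' hh.symm) hgw
      -- key : a * (x c x⁻¹) = (x c x⁻¹) * a
      have k2 := comm_conj (d * w)⁻¹ key
      rw [inv_inv] at k2
      have e2 : (d * w)⁻¹ * ((d * w) * c * (d * w)⁻¹) * (d * w) = c := by group
      rw [e2] at k2
      exact k2.symm

/-- `x = d w` (with `w ∈ W_d`) preserves every `W`-class. -/
theorem Wc_preserve {D : Set G} (hD : IsThreeTranspositionClass D) {d w a : G} (hd : d ∈ D)
    (hw : w ∈ Wc D d) (ha : a ∈ D) : (d * w) * a * (d * w)⁻¹ ∈ Wc D a := by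
  have h := TSet.of_class hD
  have hwD : w ∈ D := hw.1
  by_cases hwd : w = d
  · rw [hwd, h.sq d hd]
    simpa using Wc_self ha
  by_cases haW : a ∈ Wc D d
  · have h1 : w * a * w⁻¹ ∈ Wc D d := Wc_conj_mem h hw haW
    have h2 : d * (w * a * w⁻¹) * d⁻¹ ∈ Wc D d := Wc_conj_mem h (Wc_self hd) h1
    have e1 : d * (w * a * w⁻¹) * d⁻¹ = (d * w) * a * (d * w)⁻¹ := by group
    rw [e1] at h2
    rw [Wc_eq_of_mem haW]; exact h2
  -- main case
  set x := d * w with hx
  have hxinv : x⁻¹ = w * d := by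
    rw [hx, mul_inv_rev, h.inv hd, h.inv hwD]
  have hdW : d ∈ Wc D w := Wc_symm hd hw
  have hWeq : Wc D w = Wc D d := Wc_eq_of_mem hw
  set a' := x * a * x⁻¹ with ha'
  have ha'D : a' ∈ D := h.conj x a ha
  have ha'W : a' ∉ Wc D d := by
    intro hh
    apply haW
    have h1 : d * a' * d⁻¹ ∈ Wc D d := Wc_conj_mem h (Wc_self hd) hh
    have h2 : w * (d * a' * d⁻¹) * w⁻¹ ∈ Wc D d := Wc_conj_mem h hw h1
    have e1 : w * (d * a' * d⁻¹) * w⁻¹ = a := by
      rw [ha', hxinv, hx, h.inv hd, h.inv hwD]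
      calc w * (d * (d * w * a * (w * d)) * d) * w
          = w * ((d * d) * w * a * w * (d * d)) * w := by group
        _ = (w * w) * a * (w * w) := by rw [h.sq d hd]; group
        _ = a := by rw [h.sq w hwD, one_mul, mul_one]
    rwa [e1] at h2
  -- P1 : members of `Dm a` commute with `a'`
  have P1 : ∀ c ∈ Dm D a, c * a' = a' * c := by
    intro c hc
    have haW' : a ∉ Wc D w := by rw [hWeq]; exact haW
    have := Wc_key h hwD hdW (fun hh => hwd hh.symm) ha haW' hc
    have e1 : (w * d)⁻¹ * a * (w * d) = a' := by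
      rw [ha', hxinv, hx, mul_inv_rev, h.inv hd, h.inv hwD]
    rwa [e1] at this
  -- P2 : members of `Dm a'` commute with `a`
  have P2 : ∀ c ∈ Dm D a', c * a = a * c := by
    intro c hc
    have := Wc_key h hd hw hwd ha'D ha'W hc
    have e1 : (d * w)⁻¹ * a' * (d * w) = a := by
      rw [ha', ← hx]; group
    rwa [e1] at this
  by_cases hne : a' = a
  · rw [hne]; exact Wc_self ha
  by_cases hcomm : a * a' = a' * a
  · -- then `a'` has the same perp as `a`: impossible
    exfalso
    have hs : SameP D a a' := by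
      intro f hf
      constructor
      · intro hh
        by_cases hfa : f = a'
        · rw [hfa]; exact hcomm
        · exact (P2 f ⟨hf, hfa, hh⟩).symm
      · intro hh
        by_cases hfa : f = a
        · rw [hfa]; exact hcomm.symm
        · exact (P1 f ⟨hf, hfa, hh⟩).symm
    obtain ⟨g, hg⟩ := class_conj hD ha hd
    have hs' := hs.conj h g
    rw [hg] at hs'
    set v := g * a' * g⁻¹ with hv
    have hvD : v ∈ D := h.conj g a' ha'D
    have hvd : v ≠ d := by
      intro hh
      apply hne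
      have : g * a' * g⁻¹ = g * a * g⁻¹ := by rw [← hv, hh, hg]
      have := congrArg (fun z => g⁻¹ * z * g) this
      simpa [mul_assoc] using this
    have hdv : d * v = v * d := hs'.comm hvD
    have : v ∈ Dm D w := by rw [← hw.2]; exact ⟨hvD, hvd, hdv⟩
    have hwv : w * v = v * w := this.2.2
    have hdw' : d * w = w * d := (hs' w hwD).mp hwv.symm
    exact Wc_not_comm hw hwd hdw'
  · -- `a` and `a'` do not commute
    refine ⟨ha'D, ?_⟩
    ext c
    constructor
    · intro hc
      refine ⟨hc.1, ?_, (P1 c hc).symm⟩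
      intro hh
      apply hcomm
      have := hc.2.2
      rw [hh] at this
      exact this
    · intro hc
      refine ⟨hc.1, ?_, (P2 c hc).symm⟩
      intro hh
      apply hcomm
      have := hc.2.2
      rw [hh] at this
      exact this.symm

end Cfsg.Agent.Lib.Helper3.TT
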