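import Mathlib
import Cfsg.Agent.Lib.Helper3.TT4

set_option autoImplicit false

/-! 3-transposition groups: `W_d = d^{O_3(G)}`. -/

namespace Cfsg.Agent.Lib.Helper3.TT

open Cfsg

universe u

variable {G : Type u} [Group G]

theorem mem_normalizer_of_map_le {K : Subgroup G} {x : G}
    (h1 : K.map (MulAut.conj x).toMonoidHom ≤ K) (h2 : K.map (MulAut.conj x⁻¹).toMonoidHom ≤ K) :
    x ∈ Subgroup.normalizer (K : Set G) := by
  rw [Subgroup.mem_normalizer_iff]
  intro n
  constructor
  · intro hn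
    exact h1 ⟨n, hn, rfl⟩
  · intro hn
    have := h2 ⟨_, hn, rfl⟩
    simpa [mul_assoc] using this

theorem map_le_of_mem_normalizer {K : Subgroup G} {x : G}
    (hx : x ∈ Subgroup.normalizer (K : Set G)) : K.map (MulAut.conj x).toMonoidHom ≤ K := by
  rintro _ ⟨n, hn, rfl⟩
  exact (Subgroup.mem_normalizer_iff.mp hx n).mp hn

theorem le_normalizer_iSup {ι : Sort*} (H : Subgroup G) (K : ι → Subgroup G)
    (hK : ∀ i, H ≤ Subgroup.normalizer (K i : Set G)) :
    H ≤ Subgroup.normalizer ((⨆ i, K i : Subgroup G) : Set G) := by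
  intro x hx
  have key : ∀ y ∈ H, (⨆ i, K i).map (MulAut.conj y).toMonoidHom ≤ ⨆ i, K i := by
    intro y hy
    rw [Subgroup.map_iSup]
    apply iSup_le
    intro i
    exact (map_le_of_mem_normalizer (hK i hy)).trans (le_iSup K i)
  exact mem_normalizer_of_map_le (key x hx) (key x⁻¹ (inv_mem hx))

/-- the join of finitely many pairwise normalizing `p`-subgroups is a `p`-group -/
theorem isPGroup_iSup_of_normalizing {p : ℕ} [Fact p.Prime] {ι : Type*} [Finite ι]
    (R : ι → Subgroup G) (hR : ∀ i, IsPGroup p ↥(R i))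
    (hN : ∀ i j, R i ≤ Subgroup.normalizer (R j : Set G)) : IsPGroup p ↥(⨆ i, R i) := by
  classical
  letI := Fintype.ofFinite ι
  have key : ∀ s : Finset ι, IsPGroup p ↥(⨆ i ∈ s, R i) := by
    intro s
    induction s using Finset.induction_on with
    | empty =>
      have e : (⨆ i ∈ (∅ : Finset ι), R i) = ⊥ := by simp
      rw [e]
      exact IsPGroup.of_bot
    | insert a s _ ih =>
      rw [Finset.iSup_insert]
      apply IsPGroup.to_sup_of_normal_right' (hR a) ih
      apply le_normalizer_iSup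
      intro i
      apply le_normalizer_iSup
      intro _
      exact hN a i
  have := key Finset.univ
  have e : (⨆ i ∈ (Finset.univ : Finset ι), R i) = ⨆ i, R i := by simp
  rw [e] at this
  exact this

/-- every `R_b` normalizes every `R_a` -/
theorem Rw_le_normalizer {D : Set G} (hD : IsThreeTranspositionClass D) {a b : G} (ha : a ∈ D)
    (hb : b ∈ D) : Rw D b ≤ Subgroup.normalizer (Rw D a : Set G) := by
  have h := TSet.of_class hD
  have N1 : ∀ d ∈ D, ∀ w ∈ Wc D d, (Rw D a).map (MulAut.conj (d * w)).toMonoidHom ≤ Rw D a := by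
    intro d hd w hw
    refine (Rw_map_le h (d * w) a).trans (le_of_eq ?_)
    exact Rw_congr (Wc_eq_of_mem (Wc_preserve hD hd hw ha))
  have N2 : ∀ d ∈ D, ∀ w ∈ Wc D d, d * w ∈ Subgroup.normalizer (Rw D a : Set G) := by
    intro d hd w hw
    apply mem_normalizer_of_map_le (N1 d hd w hw)
    have : (d * w)⁻¹ = w * d := by rw [mul_inv_rev, h.inv hd, h.inv hw.1]
    rw [this]
    exact N1 w hw.1 d (Wc_symm hd hw)
  unfold Rw
  rw [Subgroup.closure_le]
  rintro z ⟨w, hw, w', hw', rfl⟩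
  have e1 : w * w' = (b * w)⁻¹ * (b * w') := by
    rw [mul_inv_rev, h.inv hb, h.inv hw.1]
    have : w * b * (b * w') = w * (b * b) * w' := by group
    rw [this, h.sq b hb, mul_one]
  rw [e1]
  exact mul_mem (inv_mem (N2 b hb w hw)) (N2 b hb w' hw')

/-- **The 3-core contains `d w`** whenever `w ∈ W_d`. -/
theorem Wc_mul_mem_pCore [Finite G] {D : Set G} (hD : IsThreeTranspositionClass D) {d w : G}
    (hd : d ∈ D) (hw : w ∈ Wc D d) : d * w ∈ Cfsg.pCore 3 G := by
  have h := TSet.of_class hD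
  have h3 : Fact (Nat.Prime 3) := ⟨by norm_num⟩
  set M : Subgroup G := ⨆ a : D, Rw D (a : G) with hM
  have hMp : IsPGroup 3 ↥M := by
    apply isPGroup_iSup_of_normalizing
    · intro a; exact Rw_isPGroup h a.2
    · intro a b; exact Rw_le_normalizer hD b.2 a.2
  have hMmap : ∀ g : G, M.map (MulAut.conj g).toMonoidHom ≤ M := by
    intro g
    rw [hM, Subgroup.map_iSup]
    apply iSup_le
    intro a
    refine (Rw_map_le h g a).trans ?_
    exact le_iSup (fun a : D => Rw D (a : G)) ⟨g * a * g⁻¹, h.conj g a a.2⟩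
  have hMn : M.Normal := by
    constructor
    intro n hn g
    exact hMmap g ⟨n, hn, rfl⟩
  have hmem : d * w ∈ M := by
    have : d * w ∈ Rw D d := Subgroup.subset_closure ⟨d, Wc_self hd, w, hw, rfl⟩
    exact (le_iSup (fun a : D => Rw D (a : G)) ⟨d, hd⟩) this
  exact Cfsg.Agent.Lib.Helper1.le_pCore hMn hMp hmem

namespace TSet

variable {D : Set G} (h : TSet D)

include h

/-- modulo a normal 3-subgroup: members of `D` in the same coset have the same commuting partners -/
theorem Dm_sub_of_mem_pCore_three [Finite G] {d w y : G} (hd : d ∈ D) (hw : w ∈ D)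
    (hq : d⁻¹ * w ∈ Cfsg.pCore 3 G) (hy : y ∈ Dm D d) : y ∈ Dm D w := by
  have h3 : Fact (Nat.Prime 3) := ⟨by norm_num⟩
  obtain ⟨hyD, hyd, hdy⟩ := hy
  have hdy : d * y = y * d := hdy
  have hn := Cfsg.Agent.Lib.Helper1.pCore_normal (G := G) 3
  have hQ : IsPGroup 3 (Cfsg.pCore 3 G) := Cfsg.Agent.Lib.Helper1.pCore_isPGroup 3
  have hnot : ¬ (w * y) ^ 3 = 1 := by
    intro hwy
    have hwd : (QuotientGroup.mk w : G ⧸ Cfsg.pCore 3 G) = QuotientGroup.mk d := by
      rw [eq_comm, QuotientGroup.eq]; exact hq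
    have hdy2 : (d * y) ^ 2 = 1 := by
      rw [pow_two]
      calc d * y * (d * y) = d * (y * d) * y := by group
        _ = d * (d * y) * y := by rw [hdy]
        _ = (d * d) * (y * y) := by group
        _ = 1 := by rw [h.sq d hd, h.sq y hyD, one_mul]
    have hve : (QuotientGroup.mk (w * y) : G ⧸ Cfsg.pCore 3 G) = QuotientGroup.mk (d * y) := by
      rw [QuotientGroup.mk_mul, QuotientGroup.mk_mul, hwd]
    have q2 : (QuotientGroup.mk (d * y) : G ⧸ Cfsg.pCore 3 G) ^ 2 = 1 := by
      rw [← QuotientGroup.mk_pow, hdy2]; rfl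
    have q3 : (QuotientGroup.mk (d * y) : G ⧸ Cfsg.pCore 3 G) ^ 3 = 1 := by
      rw [← hve, ← QuotientGroup.mk_pow, hwy]; rfl
    have q1 : (QuotientGroup.mk (d * y) : G ⧸ Cfsg.pCore 3 G) = 1 :=
      eq_one_of_pow_coprime q2 q3 (by norm_num)
    have hmem : d * y ∈ Cfsg.pCore 3 G := (QuotientGroup.eq_one_iff _).mp q1
    obtain ⟨k, hk⟩ := hQ ⟨d * y, hmem⟩
    have hk' : (d * y) ^ 3 ^ k = 1 := by
      have := congrArg Subtype.val hk
      simpa using this
    have hone : d * y = 1 :=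
      eq_one_of_pow_coprime hk' hdy2 (by apply Nat.Coprime.pow_left; norm_num)
    apply hyd
    have := eq_inv_of_mul_eq_one_right hone
    rw [this, h.inv hd]
  refine ⟨hyD, ?_, ?_⟩
  · intro hh
    apply hnot
    rw [hh, h.sq w hw, one_pow]
  · rcases h.three w hw y hyD with h1 | h1
    · exact h1
    · exact absurd h1 hnot

theorem mem_Wc_of_mem_pCore_three [Finite G] {d w : G} (hd : d ∈ D) (hw : w ∈ D)
    (hq : d⁻¹ * w ∈ Cfsg.pCore 3 G) : w ∈ Wc D d := by
  refine ⟨hw, ?_⟩
  have hq' : w⁻¹ * d ∈ Cfsg.pCore 3 G := by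
    have := inv_mem hq
    rwa [mul_inv_rev, inv_inv] at this
  ext y
  exact ⟨fun hy => h.Dm_sub_of_mem_pCore_three hd hw hq hy,
    fun hy => h.Dm_sub_of_mem_pCore_three hw hd hq' hy⟩

end TSet

end Cfsg.Agent.Lib.Helper3.TT
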