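import Mathlib
import Cfsg.Agent.Lib.Helper3.TT5
import Cfsg.Agent.Lib.Helper2.Components
import Cfsg.Agent.Lib.Helper2.Components2
import Cfsg.Agent.Lib.Helper2.Components3
import Cfsg.Agent.Lib.Helper2.Quasisimple
import Cfsg.Agent.Lib.Helper8.Layer
import Cfsg.Agent.Lib.Helper8.FStar
import Cfsg.Agent.Lib.Helper1.Fitting
import Cfsg.Agent.S0144

set_option autoImplicit false

/-! 3-transposition groups: components. -/

namespace Cfsg.Agent.Lib.Helper3.TT

open Cfsg

universe u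

variable {G : Type u} [Group G]

/-- a group generated by pairwise commuting involutions is a 2-group -/
theorem isPGroup_two_closure {S : Set G} (hinv : ∀ s ∈ S, s * s = 1)
    (hcomm : ∀ s ∈ S, ∀ t ∈ S, s * t = t * s) : IsPGroup 2 ↥(Subgroup.closure S) := by
  have h1 : Subgroup.closure S ≤ Subgroup.centralizer S := by
    rw [Subgroup.closure_le]
    intro s hs
    show s ∈ Subgroup.centralizer S
    rw [Subgroup.mem_centralizer_iff]
    intro t ht
    exact hcomm t ht s hs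
  have h2 : Subgroup.closure S ≤ Subgroup.centralizer (Subgroup.closure S : Set G) := by
    rw [Subgroup.closure_le]
    intro s hs
    show s ∈ Subgroup.centralizer (Subgroup.closure S : Set G)
    rw [Subgroup.mem_centralizer_iff]
    intro g hg
    have := Subgroup.mem_centralizer_iff.mp (h1 hg) s hs
    exact this.symm
  have h3 : ∀ g ∈ Subgroup.closure S, g * g = 1 := by
    intro g hg
    induction hg using Subgroup.closure_induction with
    | mem s hs => exact hinv s hs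
    | one => simp
    | mul x y hx hy ihx ihy =>
      have hxy : y * x = x * y := Subgroup.mem_centralizer_iff.mp (h2 hx) y hy
      calc x * y * (x * y) = x * (y * x) * y := by group
        _ = x * (x * y) * y := by rw [hxy]
        _ = (x * x) * (y * y) := by group
        _ = 1 := by rw [ihx, ihy, one_mul]
    | inv x hx ihx =>
      have : x⁻¹ * x⁻¹ = (x * x)⁻¹ := by group
      rw [this, ihx, inv_one]
  rintro ⟨g, hg⟩
  refine ⟨1, ?_⟩
  apply Subtype.ext
  simp only [pow_one, Subgroup.coe_pow, Subgroup.coe_one]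
  rw [pow_two]; exact h3 g hg

theorem mem_center_of_comm_gen {D : Set G} (hgen : Subgroup.closure D = ⊤) {x : G}
    (hx : ∀ d ∈ D, d * x = x * d) : x ∈ Subgroup.center G := by
  have hle : Subgroup.closure D ≤ Subgroup.centralizer {x} := by
    rw [Subgroup.closure_le]
    intro e he
    show e ∈ Subgroup.centralizer {x}
    rw [Subgroup.mem_centralizer_singleton_iff]
    exact hx e he
  rw [Subgroup.mem_center_iff]
  intro g
  have : g ∈ Subgroup.centralizer {x} := hle (by rw [hgen]; trivial)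
  rw [Subgroup.mem_centralizer_singleton_iff] at this
  exact this

/-- numbers whose prime factors are 2 and 3 -/
theorem eq_two_pow_mul_three_pow {n : ℕ} (hn : n ≠ 0)
    (h : ∀ p : ℕ, p.Prime → p ∣ n → p = 2 ∨ p = 3) : ∃ a b : ℕ, n = 2 ^ a * 3 ^ b := by
  obtain ⟨a, m, hm2, rfl⟩ := Nat.exists_eq_pow_mul_and_not_dvd hn 2 (by norm_num)
  have hm0 : m ≠ 0 := by
    rintro rfl
    simp at hn
  obtain ⟨b, m', hm3, rfl⟩ := Nat.exists_eq_pow_mul_and_not_dvd hm0 3 (by norm_num)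
  refine ⟨a, b, ?_⟩
  have hm'1 : m' = 1 := by
    by_contra hne
    obtain ⟨p, hp, hpm⟩ := Nat.exists_prime_and_dvd hne
    have hpn : p ∣ 2 ^ a * (3 ^ b * m') :=
      Dvd.dvd.mul_left (Dvd.dvd.mul_left hpm _) _
    rcases h p hp hpn with rfl | rfl
    · exact hm2 (Dvd.dvd.mul_left hpm _)
    · exact hm3 hpm
  rw [hm'1, mul_one]

/-- a quasisimple group has an element whose square and cube are both non-central -/
theorem exists_not_central_pow {L : Type*} [Group L] [Finite L] (hL : IsQuasisimple L) :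
    ∃ x : L, x ^ 2 ∉ Subgroup.center L ∧ x ^ 3 ∉ Subgroup.center L := by
  by_contra hcon
  push Not at hcon
  obtain ⟨hperf, hsimple⟩ := hL
  have hS : ∀ s : L ⧸ Subgroup.center L, s ^ 2 = 1 ∨ s ^ 3 = 1 := by
    intro s
    obtain ⟨x, rfl⟩ := QuotientGroup.mk_surjective s
    by_cases h2 : x ^ 2 ∈ Subgroup.center L
    · left
      rw [← QuotientGroup.mk_pow]
      exact (QuotientGroup.eq_one_iff _).mpr h2
    · right
      rw [← QuotientGroup.mk_pow]
      exact (QuotientGroup.eq_one_iff _).mpr (hcon x h2)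
  have hcard : ∃ a b : ℕ, Nat.card (L ⧸ Subgroup.center L) = 2 ^ a * 3 ^ b := by
    apply eq_two_pow_mul_three_pow Nat.card_pos.ne'
    intro p hp hpd
    have : Fact p.Prime := ⟨hp⟩
    obtain ⟨s, hs⟩ := exists_prime_orderOf_dvd_card' p hpd
    rcases hS s with h | h
    · left
      have := orderOf_dvd_of_pow_eq_one h
      rw [hs] at this
      exact (Nat.prime_dvd_prime_iff_eq hp Nat.prime_two).mp this
    · right
      have := orderOf_dvd_of_pow_eq_one h
      rw [hs] at this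
      exact (Nat.prime_dvd_prime_iff_eq hp Nat.prime_three).mp this
  obtain ⟨a, b, hab⟩ := hcard
  have hsolv := Cfsg.Agent.S0144.result 2 3 a b Nat.prime_two Nat.prime_three hab
  have hnt : Nontrivial (L ⧸ Subgroup.center L) := hsimple.toNontrivial
  have hperf' : Group.IsPerfect (L ⧸ Subgroup.center L) := inferInstance
  exact Group.IsPerfect.not_isSolvable (G := L ⧸ Subgroup.center L) hsolv

/-- members of `D` normalize every component -/
theorem comp_normalized [Finite G] {D : Set G} (h : TSet D) {L : Subgroup G} (hL : IsComponent L)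
    {d : G} (hd : d ∈ D) : L.map (MulAut.conj d).toMonoidHom = L := by
  by_contra hne
  have hL' := Cfsg.Agent.Lib.Helper2.isComponent_conj d hL
  rcases Cfsg.Agent.Lib.Helper2.isComponent_eq_or_commutator_eq_bot hL' hL with h1 | h1
  · exact hne h1
  rw [Subgroup.commutator_eq_bot_iff_le_centralizer] at h1
  obtain ⟨x, hx2, hx3⟩ := exists_not_central_pow hL.2
  have hx' : d * (x : G) * d⁻¹ ∈ L.map (MulAut.conj d).toMonoidHom := ⟨x, x.2, rfl⟩
  have hcomm : ∀ y ∈ L, y * (d * (x : G) * d⁻¹) = (d * (x : G) * d⁻¹) * y := by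
    intro y hy
    exact Subgroup.mem_centralizer_iff.mp (h1 hx') y hy
  have heD : (x : G) * d * (x : G)⁻¹ ∈ D := h.conj _ d hd
  have hed : (x : G) * d * (x : G)⁻¹ * d = (x : G) * (d * (x : G) * d⁻¹)⁻¹ := by
    rw [mul_inv_rev, mul_inv_rev, inv_inv, h.inv hd]
    group
  have hc0 : Commute (x : G) (d * (x : G) * d⁻¹) := hcomm x x.2
  have hc1 : Commute (x : G) (d * (x : G) * d⁻¹)⁻¹ := hc0.inv_right
  have key : ∀ k : ℕ, ((x : G) * d * (x : G)⁻¹ * d) ^ k = 1 → x ^ k ∈ Subgroup.center ↥L := by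
    intro k hk
    rw [hed, hc1.mul_pow, inv_pow, mul_inv_eq_one] at hk
    rw [Subgroup.mem_center_iff]
    intro y
    apply Subtype.ext
    simp only [Subgroup.coe_mul, Subgroup.coe_pow]
    rw [hk]
    have hcy : Commute (y : G) (d * (x : G) * d⁻¹) := hcomm y y.2
    exact (hcy.pow_right k).eq
  rcases h.three _ heD d hd with h2 | h3
  · apply hx2
    apply key
    rw [pow_two]
    calc (x : G) * d * (x : G)⁻¹ * d * ((x : G) * d * (x : G)⁻¹ * d)
        = (x : G) * d * (x : G)⁻¹ * (d * ((x : G) * d * (x : G)⁻¹)) * d := by group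
      _ = (x : G) * d * (x : G)⁻¹ * (((x : G) * d * (x : G)⁻¹) * d) * d := by rw [h2]
      _ = ((x : G) * d * (x : G)⁻¹ * ((x : G) * d * (x : G)⁻¹)) * (d * d) := by group
      _ = 1 := by rw [h.sq _ heD, h.sq d hd, one_mul]
  · exact hx3 (key 3 h3)

/-- the subgroup generated by the commutators `[x, d]`, `x ∈ L` -/
def Kc (L : Subgroup G) (d : G) : Subgroup G :=
  Subgroup.closure {z : G | ∃ x ∈ L, z = x * d * x⁻¹ * d⁻¹}

theorem Kc_le {L : Subgroup G} {d : G} (hdL : ∀ x ∈ L, d * x * d⁻¹ ∈ L) : Kc L d ≤ L := by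
  unfold Kc
  rw [Subgroup.closure_le]
  rintro z ⟨x, hx, rfl⟩
  have : x * d * x⁻¹ * d⁻¹ = x * (d * x⁻¹ * d⁻¹) := by group
  rw [this]
  exact mul_mem hx (hdL _ (inv_mem hx))

theorem Kc_map_le {L : Subgroup G} {d : G} {y : G} (hy : y ∈ L) :
    (Kc L d).map (MulAut.conj y).toMonoidHom ≤ Kc L d := by
  rw [Subgroup.map_le_iff_le_comap]
  unfold Kc
  rw [Subgroup.closure_le]
  rintro z ⟨x, hx, rfl⟩
  show (MulAut.conj y) (x * d * x⁻¹ * d⁻¹) ∈
    Subgroup.closure {z : G | ∃ x ∈ L, z = x * d * x⁻¹ * d⁻¹}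
  have e1 : (MulAut.conj y) (x * d * x⁻¹ * d⁻¹) =
      ((y * x) * d * (y * x)⁻¹ * d⁻¹) * (y * d * y⁻¹ * d⁻¹)⁻¹ := by
    simp only [MulAut.conj_apply]; group
  rw [e1]
  apply mul_mem
  · exact Subgroup.subset_closure ⟨y * x, mul_mem hy hx, rfl⟩
  · exact inv_mem (Subgroup.subset_closure ⟨y, hy, rfl⟩)

/-- if the commutators `[x, d]` generate a `p`-group then `d` centralizes the component -/
theorem comp_centralized_of_isPGroup [Finite G] {L : Subgroup G} (hL : IsComponent L) {d : G}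
    (hdL : ∀ x ∈ L, d * x * d⁻¹ ∈ L) {p : ℕ} [hp : Fact p.Prime] (hK : IsPGroup p ↥(Kc L d)) :
    ∀ x ∈ L, x * d = d * x := by
  have hKL : Kc L d ≤ L := Kc_le hdL
  have hn : ((Kc L d).subgroupOf L).Normal := by
    apply Subgroup.normal_subgroupOf_of_le_normalizer
    intro y hy
    exact mem_normalizer_of_map_le (Kc_map_le hy) (Kc_map_le (inv_mem hy))
  have hperf : Group.IsPerfect ↥L := hL.2.1
  have hsimple : IsSimpleGroup (↥L ⧸ Subgroup.center ↥L) := hL.2.2
  rcases Cfsg.Agent.Lib.Helper2.isQuasisimple_normal_eq_top_or_le_center hL.2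
    ((Kc L d).subgroupOf L) with h1 | h1
  · exfalso
    rw [Subgroup.subgroupOf_eq_top] at h1
    have hLp : IsPGroup p ↥L := hK.to_le h1
    have hnil : Group.IsNilpotent ↥L := hLp.isNilpotent
    have hsolv : Group.IsSolvable ↥L := inferInstance
    have hnt : Nontrivial ↥L := by
      have hnt' : Nontrivial (↥L ⧸ Subgroup.center ↥L) := hsimple.toNontrivial
      exact (QuotientGroup.mk_surjective (s := Subgroup.center ↥L)).nontrivial
    exact Group.IsPerfect.not_isSolvable (G := ↥L) hsolv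
  · -- the commutators are central in `L`
    have hcen : ∀ x (hx : x ∈ L), ∀ y ∈ L, y * (x * d * x⁻¹ * d⁻¹) = (x * d * x⁻¹ * d⁻¹) * y := by
      intro x hx y hy
      have hm : x * d * x⁻¹ * d⁻¹ ∈ Kc L d := Subgroup.subset_closure ⟨x, hx, rfl⟩
      have hm' : (⟨x * d * x⁻¹ * d⁻¹, hKL hm⟩ : ↥L) ∈ (Kc L d).subgroupOf L :=
        Subgroup.mem_subgroupOf.mpr hm
      have := Subgroup.mem_center_iff.mp (h1 hm') ⟨y, hy⟩
      exact congrArg Subtype.val this
    have hmemL : ∀ x (_ : x ∈ L), x * d * x⁻¹ * d⁻¹ ∈ L := fun x hx =>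
      hKL (Subgroup.subset_closure ⟨x, hx, rfl⟩)
    let φ : ↥L →* ↥(Subgroup.center ↥L) := MonoidHom.mk'
      (fun x => ⟨⟨(x : G) * d * (x : G)⁻¹ * d⁻¹, hmemL x x.2⟩, by
        rw [Subgroup.mem_center_iff]
        intro y
        apply Subtype.ext
        exact hcen x x.2 y y.2⟩)
      (by
        intro x y
        apply Subtype.ext
        apply Subtype.ext
        simp only [Subgroup.coe_mul]
        have hy := hcen y y.2 x x.2
        have hxy := hcen y y.2 _ (hmemL x x.2)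
        calc (x : G) * y * d * ((x : G) * y)⁻¹ * d⁻¹
            = ((x : G) * ((y : G) * d * (y : G)⁻¹ * d⁻¹)) * (x : G)⁻¹ *
                ((x : G) * d * (x : G)⁻¹ * d⁻¹) := by group
          _ = (((y : G) * d * (y : G)⁻¹ * d⁻¹) * (x : G)) * (x : G)⁻¹ *
                ((x : G) * d * (x : G)⁻¹ * d⁻¹) := by rw [hy]
          _ = ((y : G) * d * (y : G)⁻¹ * d⁻¹) * ((x : G) * d * (x : G)⁻¹ * d⁻¹) := by group
          _ = ((x : G) * d * (x : G)⁻¹ * d⁻¹) * ((y : G) * d * (y : G)⁻¹ * d⁻¹) := hxy.symm)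
    intro x hx
    have hcomm : ∀ a b : ↥(Subgroup.center ↥L), a * b = b * a := by
      intro a b
      apply Subtype.ext
      exact (Subgroup.mem_center_iff.mp a.2 (b : ↥L)).symm
    have h2 := Cfsg.Agent.Lib.Helper2.hom_eq_one_of_isPerfect hperf hcomm φ ⟨x, hx⟩
    have h3 : x * d * x⁻¹ * d⁻¹ = 1 := by
      have := congrArg (fun z : ↥(Subgroup.center ↥L) => ((z : ↥L) : G)) h2
      simpa [φ] using this
    calc x * d = (x * d * x⁻¹ * d⁻¹) * (d * x) := by group
      _ = d * x := by rw [h3, one_mul]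

/-- general form: a set of 3-transpositions closed under conjugation by its members, with no two
distinct members commuting: the products of pairs generate a 3-group -/
theorem isPGroup_three_of_width_one [Finite G] {D : Set G} (h : TSet D) {W : Set G} (hWD : W ⊆ D)
    (hWW : ∀ w ∈ W, ∀ w' ∈ W, w * w' * w⁻¹ ∈ W)
    (hnc : ∀ w ∈ W, ∀ w' ∈ W, w * w' = w' * w → w = w') :
    IsPGroup 3 ↥(Subgroup.closure {z : G | ∃ w ∈ W, ∃ w' ∈ W, z = w * w'}) := by
  classical
  rcases W.eq_empty_or_nonempty with hemp | ⟨a, haW⟩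
  · have : {z : G | ∃ w ∈ W, ∃ w' ∈ W, z = w * w'} = ∅ := by
      ext z; simp [hemp]
    rw [this, Subgroup.closure_empty]
    exact IsPGroup.of_bot
  have ha : a ∈ D := hWD haW
  set H : Subgroup G := Subgroup.closure W with hH
  set D' : Set H := (Subtype.val : H → G) ⁻¹' W with hD'
  have hinvW : ∀ w ∈ W, w⁻¹ = w := fun w hw => h.inv (hWD hw)
  have hT' : TSet D' := by
    refine ⟨?_, ?_, ?_, ?_⟩
    · intro x hx
      apply Subtype.ext
      exact h.sq _ (hWD (show (x : G) ∈ W from hx))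
    · intro x hx h1
      apply h.ne_one _ (hWD (show (x : G) ∈ W from hx))
      rw [h1]; rfl
    · intro g x hx
      show ((g * x * g⁻¹ : H) : G) ∈ W
      have := closure_conj_mem hinvW hWW g.2 (x : G) hx
      simpa using this
    · intro x hx y hy
      rcases h.three _ (hWD (show (x : G) ∈ W from hx)) _ (hWD (show (y : G) ∈ W from hy))
        with h1 | h1
      · left; apply Subtype.ext; exact h1
      · right; apply Subtype.ext; simpa using h1
  have hgen : Subgroup.closure D' = ⊤ := Subgroup.closure_closure_coe_preimage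
  have hw : ∀ x ∈ D', ∀ y ∈ D', x * y = y * x → x = y := by
    intro x hx y hy hxy
    apply Subtype.ext
    apply hnc _ hx _ hy
    have := congrArg Subtype.val hxy
    simpa using this
  have haH : a ∈ H := Subgroup.subset_closure haW
  have had : (⟨a, haH⟩ : H) ∈ D' := haW
  obtain ⟨T, hTn, hTp, hTd⟩ := exists_normal_three hT' hgen hw had
  have hle : Subgroup.closure {z : G | ∃ w ∈ W, ∃ w' ∈ W, z = w * w'} ≤ T.map H.subtype := by
    rw [Subgroup.closure_le]
    rintro z ⟨w, hw1, w', hw1', rfl⟩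
    have hwH : w ∈ H := Subgroup.subset_closure hw1
    have hwH' : w' ∈ H := Subgroup.subset_closure hw1'
    have m1 : (⟨w, hwH⟩ : H) * ⟨a, haH⟩ ∈ T := hTd ⟨w, hwH⟩ hw1
    have m2 : (⟨w', hwH'⟩ : H) * ⟨a, haH⟩ ∈ T := hTd ⟨w', hwH'⟩ hw1'
    have m3 := mul_mem m1 (inv_mem m2)
    refine ⟨_, m3, ?_⟩
    simp only [Subgroup.subtype_apply, Subgroup.coe_mul, Subgroup.coe_inv, mul_inv_rev]
    rw [h.inv ha, h.inv (hWD hw1')]
    have : w * a * (a * w') = w * (a * a) * w' := by group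
    rw [this, h.sq a ha, mul_one]
  exact (hTp.map H.subtype).to_le hle

theorem Kc_isPGroup_two {D : Set G} (h : TSet D) {L : Subgroup G} {d : G} (hd : d ∈ D)
    (hcomm : ∀ x ∈ L, (x * d * x⁻¹) * d = d * (x * d * x⁻¹)) : IsPGroup 2 ↥(Kc L d) := by
  unfold Kc
  have hdd : Commute d d := Commute.refl d
  have hcx : ∀ x ∈ L, Commute (x * d * x⁻¹) d := fun x hx => hcomm x hx
  have hcxy : ∀ x ∈ L, ∀ y ∈ L, Commute (x * d * x⁻¹) (y * d * y⁻¹) := by
    intro x hx y hy
    have h1 := hcomm (y⁻¹ * x) (mul_mem (inv_mem hy) hx)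
    have h2 := comm_conj y h1
    have e1 : y * (y⁻¹ * x * d * (y⁻¹ * x)⁻¹) * y⁻¹ = x * d * x⁻¹ := by group
    rw [e1] at h2
    exact h2
  apply isPGroup_two_closure
  · rintro z ⟨x, hx, rfl⟩
    rw [h.inv hd]
    have heD : x * d * x⁻¹ ∈ D := h.conj x d hd
    calc x * d * x⁻¹ * d * (x * d * x⁻¹ * d)
        = x * d * x⁻¹ * (d * (x * d * x⁻¹)) * d := by group
      _ = x * d * x⁻¹ * ((x * d * x⁻¹) * d) * d := by rw [← hcomm x hx]
      _ = ((x * d * x⁻¹) * (x * d * x⁻¹)) * (d * d) := by group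
      _ = 1 := by rw [h.sq _ heD, h.sq d hd, one_mul]
  · rintro z ⟨x, hx, rfl⟩ z' ⟨y, hy, rfl⟩
    rw [h.inv hd]
    have c1 : Commute (x * d * x⁻¹ * d) (y * d * y⁻¹ * d) :=
      (((hcxy x hx y hy).mul_right (hcx x hx)).mul_left
        (((hcx y hy).symm).mul_right hdd))
    exact c1.eq

theorem Kc_isPGroup_three [Finite G] {D : Set G} (h : TSet D) {L : Subgroup G} {d : G}
    (hd : d ∈ D) (hdL : ∀ x ∈ L, d * x * d⁻¹ ∈ L)
    (hcube : ∀ x ∈ L, ((x * d * x⁻¹) * d) ^ 3 = 1) : IsPGroup 3 ↥(Kc L d) := by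
  set W : Set G := {e : G | ∃ x ∈ L, e = x * d * x⁻¹} with hW
  have hWD : W ⊆ D := by
    rintro e ⟨x, _, rfl⟩
    exact h.conj x d hd
  have hWW : ∀ w ∈ W, ∀ w' ∈ W, w * w' * w⁻¹ ∈ W := by
    rintro w ⟨x, hx, rfl⟩ w' ⟨y, hy, rfl⟩
    refine ⟨x * (d * (x⁻¹ * y) * d⁻¹), mul_mem hx (hdL _ (mul_mem (inv_mem hx) hy)), ?_⟩
    group
  have hnc : ∀ w ∈ W, ∀ w' ∈ W, w * w' = w' * w → w = w' := by
    rintro w ⟨x, hx, rfl⟩ w' ⟨y, hy, rfl⟩ hc
    have huL : y⁻¹ * x ∈ L := mul_mem (inv_mem hy) hx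
    have h1 := comm_conj y⁻¹ hc
    have e1 : y⁻¹ * (x * d * x⁻¹) * y⁻¹⁻¹ = (y⁻¹ * x) * d * (y⁻¹ * x)⁻¹ := by group
    have e2 : y⁻¹ * (y * d * y⁻¹) * y⁻¹⁻¹ = d := by group
    rw [e1, e2] at h1
    have heD : (y⁻¹ * x) * d * (y⁻¹ * x)⁻¹ ∈ D := h.conj _ d hd
    have h3 := hcube _ huL
    have h2 : ((y⁻¹ * x) * d * (y⁻¹ * x)⁻¹ * d) ^ 2 = 1 := by
      rw [pow_two]
      calc (y⁻¹ * x) * d * (y⁻¹ * x)⁻¹ * d * ((y⁻¹ * x) * d * (y⁻¹ * x)⁻¹ * d)
          = (y⁻¹ * x) * d * (y⁻¹ * x)⁻¹ * (d * ((y⁻¹ * x) * d * (y⁻¹ * x)⁻¹)) * d := by group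
        _ = (y⁻¹ * x) * d * (y⁻¹ * x)⁻¹ * (((y⁻¹ * x) * d * (y⁻¹ * x)⁻¹) * d) * d := by rw [← h1]
        _ = (((y⁻¹ * x) * d * (y⁻¹ * x)⁻¹) * ((y⁻¹ * x) * d * (y⁻¹ * x)⁻¹)) * (d * d) := by group
        _ = 1 := by rw [h.sq _ heD, h.sq d hd, one_mul]
    have h4 : (y⁻¹ * x) * d * (y⁻¹ * x)⁻¹ * d = 1 := eq_one_of_pow_coprime h2 h3 (by norm_num)
    have h5 : (y⁻¹ * x) * d * (y⁻¹ * x)⁻¹ = d := by
      have := eq_inv_of_mul_eq_one_left h4
      rw [this, h.inv hd]
    calc x * d * x⁻¹ = y * ((y⁻¹ * x) * d * (y⁻¹ * x)⁻¹) * y⁻¹ := by group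
      _ = y * d * y⁻¹ := by rw [h5]
  have key := isPGroup_three_of_width_one h hWD hWW hnc
  apply key.to_le
  unfold Kc
  rw [Subgroup.closure_le]
  rintro z ⟨x, hx, rfl⟩
  apply Subgroup.subset_closure
  refine ⟨x * d * x⁻¹, ⟨x, hx, rfl⟩, d, ⟨1, one_mem L, by group⟩, ?_⟩
  rw [h.inv hd]

/-- the arithmetic of orders used repeatedly below -/
theorem order_pattern {α β : G} {p : ℕ} (hp : p = 2 ∨ p = 3) (hc : α * β = β * α)
    (hα : α ^ 2 = 1 ∨ α ^ 3 = 1) (hαβ : (α * β) ^ 2 = 1 ∨ (α * β) ^ 3 = 1)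
    (hβ : ∃ m : ℕ, β ^ (p ^ m) = 1) (hβ1 : β ≠ 1) : α ^ p = 1 := by
  have hc' : Commute α β := hc
  obtain ⟨m, hm⟩ := hβ
  rcases hp with rfl | rfl
  · rcases hα with h2 | h3
    · exact h2
    · rcases hαβ with k2 | k3
      · rw [hc'.mul_pow] at k2
        have e1 : α ^ 2 = (β ^ 2)⁻¹ := eq_inv_of_mul_eq_one_left k2
        have e2 : (α ^ 2) ^ (2 ^ m) = 1 := by
          rw [e1, inv_pow, ← pow_mul, mul_comm, pow_mul, hm, one_pow, inv_one]
        have e3 : (α ^ 2) ^ 3 = 1 := by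
          rw [← pow_mul, mul_comm, pow_mul, h3, one_pow]
        exact eq_one_of_pow_coprime e2 e3 (by apply Nat.Coprime.pow_left; norm_num)
      · rw [hc'.mul_pow, h3, one_mul] at k3
        exact absurd (eq_one_of_pow_coprime hm k3 (by apply Nat.Coprime.pow_left; norm_num)) hβ1
  · rcases hα with h2 | h3
    · rcases hαβ with k2 | k3
      · rw [hc'.mul_pow, h2, one_mul] at k2
        exact absurd (eq_one_of_pow_coprime hm k2 (by apply Nat.Coprime.pow_left; norm_num)) hβ1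
      · rw [hc'.mul_pow] at k3
        have e1 : α ^ 3 = (β ^ 3)⁻¹ := eq_inv_of_mul_eq_one_left k3
        have e2 : (α ^ 3) ^ (3 ^ m) = 1 := by
          rw [e1, inv_pow, ← pow_mul, mul_comm, pow_mul, hm, one_pow, inv_one]
        have e3 : (α ^ 3) ^ 2 = 1 := by
          rw [← pow_mul, mul_comm, pow_mul, h2, one_pow]
        exact eq_one_of_pow_coprime e2 e3 (by apply Nat.Coprime.pow_left; norm_num)
    · exact h3

end Cfsg.Agent.Lib.Helper3.TT
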