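import Mathlib
import Cfsg.Agent.Lib.Helper3.TT6

set_option autoImplicit false

/-! 3-transposition groups: the Fitting trichotomy. -/

namespace Cfsg.Agent.Lib.Helper3.TT

open Cfsg

universe u

variable {G : Type u} [Group G]

theorem TSet.sq_or_cube {D : Set G} (h : TSet D) {a b : G} (ha : a ∈ D) (hb : b ∈ D) :
    (a * b) ^ 2 = 1 ∨ (a * b) ^ 3 = 1 := by
  rcases h.three a ha b hb with h1 | h1
  · left
    rw [pow_two]
    calc a * b * (a * b) = a * (b * a) * b := by group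
      _ = a * (a * b) * b := by rw [h1]
      _ = (a * a) * (b * b) := by group
      _ = 1 := by rw [h.sq a ha, h.sq b hb, one_mul]
  · right; exact h1

theorem TSet.comm_of_sq {D : Set G} (h : TSet D) {a b : G} (ha : a ∈ D) (hb : b ∈ D)
    (h2 : (a * b) ^ 2 = 1) : a * b = b * a := by
  rw [pow_two] at h2
  calc a * b = a * b * ((a * b) * (b * a)) := by
        have : (a * b) * (b * a) = a * (b * b) * a := by group
        rw [this, h.sq b hb, mul_one, h.sq a ha, mul_one]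
    _ = (a * b * (a * b)) * (b * a) := by group
    _ = b * a := by rw [h2, one_mul]

/-- a normal `p`-subgroup element not commuting with `d` yields a nontrivial `β = d (r d r⁻¹)` -/
theorem TSet.beta_mem {D : Set G} (h : TSet D) {d r : G} (hd : d ∈ D) {R : Subgroup G}
    (hRn : R.Normal) (hr : r ∈ R) : d * (r * d * r⁻¹) ∈ R := by
  have : d * (r * d * r⁻¹) = (d * r * d⁻¹) * r⁻¹ := by
    rw [h.inv hd]; group
  rw [this]
  exact mul_mem (hRn.conj_mem r hr d) (inv_mem hr)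

theorem TSet.beta_ne_one {D : Set G} (h : TSet D) {d r : G} (hd : d ∈ D) (hrd : r * d ≠ d * r) :
    d * (r * d * r⁻¹) ≠ 1 := by
  intro hh
  apply hrd
  have h1 : r * d * r⁻¹ = d := by
    have := eq_inv_of_mul_eq_one_right hh
    rw [this, h.inv hd]
  calc r * d = (r * d * r⁻¹) * r := by group
    _ = d * r := by rw [h1]

theorem exists_pCore_not_comm [Finite G] {D : Set G} (hD : IsThreeTranspositionClass D) {p : ℕ}
    (hnc : ¬ Cfsg.pCore p G ≤ Subgroup.center G) {d : G} (hd : d ∈ D) :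
    ∃ r ∈ Cfsg.pCore p G, r * d ≠ d * r := by
  have h := TSet.of_class hD
  have hn := Cfsg.Agent.Lib.Helper1.pCore_normal (G := G) p
  rw [SetLike.not_le_iff_exists] at hnc
  obtain ⟨r₀, hr₀, hr₀c⟩ := hnc
  have : ∃ a ∈ D, a * r₀ ≠ r₀ * a := by
    by_contra hcon
    push Not at hcon
    exact hr₀c (mem_center_of_comm_gen hD.2.2 hcon)
  obtain ⟨a, ha, har⟩ := this
  obtain ⟨g, hg⟩ := class_conj hD ha hd
  refine ⟨g * r₀ * g⁻¹, hn.conj_mem r₀ hr₀ g, ?_⟩
  intro hh
  apply har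
  rw [← hg] at hh
  have := comm_conj g⁻¹ hh
  simp only [inv_inv] at this
  have e1 : g⁻¹ * (g * r₀ * g⁻¹) * g = r₀ := by group
  have e2 : g⁻¹ * (g * a * g⁻¹) * g = a := by group
  rw [e1, e2] at this
  exact this.symm

/-- **no component** when some `O_p(G)`, `p ∈ {2,3}`, is not central -/
theorem no_component_of_pCore_not_central [Finite G] {D : Set G}
    (hD : IsThreeTranspositionClass D) {p : ℕ} (hp : p = 2 ∨ p = 3)
    (hnc : ¬ Cfsg.pCore p G ≤ Subgroup.center G) {L : Subgroup G} (hL : IsComponent L) : False := by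
  have h := TSet.of_class hD
  have hpp : Fact p.Prime := by
    rcases hp with rfl | rfl
    · exact ⟨Nat.prime_two⟩
    · exact ⟨Nat.prime_three⟩
  have hRn := Cfsg.Agent.Lib.Helper1.pCore_normal (G := G) p
  have hRp : IsPGroup p (Cfsg.pCore p G) := Cfsg.Agent.Lib.Helper1.pCore_isPGroup p
  -- some `d ∈ D` does not centralize `L`
  have hex : ∃ d ∈ D, ∃ x ∈ L, x * d ≠ d * x := by
    by_contra hcon
    push Not at hcon
    have hLc : L ≤ Subgroup.center G := by
      intro x hx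
      apply mem_center_of_comm_gen hD.2.2
      intro d hd
      exact (hcon d hd x hx).symm
    apply Cfsg.Agent.Lib.Helper2.isComponent_not_commutative hL
    rw [Subgroup.commutator_eq_bot_iff_le_centralizer]
    intro x hx
    rw [Subgroup.mem_centralizer_iff]
    intro y _
    exact (Subgroup.mem_center_iff.mp (hLc hx) y)
  obtain ⟨d, hd, x₁, hx₁, hx₁d⟩ := hex
  obtain ⟨r, hr, hrd⟩ := exists_pCore_not_comm hD hnc hd
  have hβR := h.beta_mem hd hRn hr
  have hβ1 := h.beta_ne_one hd hrd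
  -- `L` commutes with the core
  have hLR : ⁅L, Cfsg.pCore p G⁆ = ⊥ := by
    have hnil : Group.IsNilpotent ↥(Cfsg.pCore p G) := hRp.isNilpotent
    have hsolv : Group.IsSolvable ↥(Cfsg.pCore p G) := inferInstance
    apply Cfsg.Agent.Lib.Helper8.component_commutator_solvable hL hsolv
    rw [Subgroup.normalizer_eq_top]
    exact le_top
  rw [Subgroup.commutator_eq_bot_iff_le_centralizer] at hLR
  -- `d` normalizes `L`
  have hdL : ∀ x ∈ L, d * x * d⁻¹ ∈ L := by
    intro x hx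
    have := comp_normalized h hL hd
    rw [← this]
    exact ⟨x, hx, rfl⟩
  -- the orders of the commutators
  have hpow : ∀ x ∈ L, ((x * d * x⁻¹) * d) ^ p = 1 := by
    intro x hx
    have heD : x * d * x⁻¹ ∈ D := h.conj x d hd
    have hrD : r * d * r⁻¹ ∈ D := h.conj r d hd
    have hαL : (x * d * x⁻¹) * d ∈ L := by
      have : (x * d * x⁻¹) * d = x * (d * x⁻¹ * d⁻¹) := by rw [h.inv hd]; group
      rw [this]
      exact mul_mem hx (hdL _ (inv_mem hx))
    have hc : (x * d * x⁻¹) * d * (d * (r * d * r⁻¹)) = (d * (r * d * r⁻¹)) * ((x * d * x⁻¹) * d) :=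
      (Subgroup.mem_centralizer_iff.mp (hLR hαL) _ hβR).symm
    have hprod : (x * d * x⁻¹) * d * (d * (r * d * r⁻¹)) = (x * d * x⁻¹) * (r * d * r⁻¹) := by
      calc (x * d * x⁻¹) * d * (d * (r * d * r⁻¹))
          = (x * d * x⁻¹) * (d * d) * (r * d * r⁻¹) := by group
        _ = _ := by rw [h.sq d hd, mul_one]
    apply order_pattern hp hc (h.sq_or_cube heD hd)
    · rw [hprod]; exact h.sq_or_cube heD hrD
    · obtain ⟨m, hm⟩ := hRp ⟨_, hβR⟩
      refine ⟨m, ?_⟩
      have := congrArg Subtype.val hm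
      simpa using this
    · exact hβ1
  have hK : IsPGroup p ↥(Kc L d) := by
    rcases hp with rfl | rfl
    · apply Kc_isPGroup_two h hd
      intro x hx
      exact h.comm_of_sq (h.conj x d hd) hd (hpow x hx)
    · exact Kc_isPGroup_three h hd hdL hpow
  exact hx₁d (comp_centralized_of_isPGroup hL hdL hK x₁ hx₁)

/-- `O_2(G)` and `O_3(G)` are not both non-central -/
theorem pCore_two_three_not_both [Finite G] {D : Set G} (hD : IsThreeTranspositionClass D)
    (h2 : ¬ Cfsg.pCore 2 G ≤ Subgroup.center G) (h3 : ¬ Cfsg.pCore 3 G ≤ Subgroup.center G) :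
    False := by
  have h := TSet.of_class hD
  have hp2 : Fact (Nat.Prime 2) := ⟨Nat.prime_two⟩
  have hp3 : Fact (Nat.Prime 3) := ⟨Nat.prime_three⟩
  obtain ⟨d0, hd0, -⟩ := hD.2.1
  obtain ⟨q, hq, hqd⟩ := exists_pCore_not_comm hD h2 hd0
  obtain ⟨r, hr, hrd⟩ := exists_pCore_not_comm hD h3 hd0
  have hn2 := Cfsg.Agent.Lib.Helper1.pCore_normal (G := G) 2
  have hn3 := Cfsg.Agent.Lib.Helper1.pCore_normal (G := G) 3
  have hP2 : IsPGroup 2 (Cfsg.pCore 2 G) := Cfsg.Agent.Lib.Helper1.pCore_isPGroup 2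
  have hP3 : IsPGroup 3 (Cfsg.pCore 3 G) := Cfsg.Agent.Lib.Helper1.pCore_isPGroup 3
  have hβR := h.beta_mem hd0 hn3 hr
  have hβ1 := h.beta_ne_one hd0 hrd
  have hαR : (q * d0 * q⁻¹) * d0 ∈ Cfsg.pCore 2 G := by
    have : (q * d0 * q⁻¹) * d0 = q * (d0 * q⁻¹ * d0⁻¹) := by rw [h.inv hd0]; group
    rw [this]
    exact mul_mem hq (hn2.conj_mem _ (inv_mem hq) d0)
  have hα1 : (q * d0 * q⁻¹) * d0 ≠ 1 := by
    intro hh
    apply hqd
    have h1 : q * d0 * q⁻¹ = d0 := by
      have := eq_inv_of_mul_eq_one_left hh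
      rw [this, h.inv hd0]
    calc q * d0 = (q * d0 * q⁻¹) * q := by group
      _ = d0 * q := by rw [h1]
  have hdis : Disjoint (Cfsg.pCore 2 G) (Cfsg.pCore 3 G) :=
    IsPGroup.disjoint_of_ne 2 3 (by norm_num) _ _ hP2 hP3
  have hc : (q * d0 * q⁻¹) * d0 * (d0 * (r * d0 * r⁻¹)) =
      (d0 * (r * d0 * r⁻¹)) * ((q * d0 * q⁻¹) * d0) :=
    (Subgroup.commute_of_normal_of_disjoint _ _ hn2 hn3 hdis _ _ hαR hβR).eq
  have heD : q * d0 * q⁻¹ ∈ D := h.conj q d0 hd0
  have hrD : r * d0 * r⁻¹ ∈ D := h.conj r d0 hd0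
  have hprod : (q * d0 * q⁻¹) * d0 * (d0 * (r * d0 * r⁻¹)) = (q * d0 * q⁻¹) * (r * d0 * r⁻¹) := by
    calc (q * d0 * q⁻¹) * d0 * (d0 * (r * d0 * r⁻¹))
        = (q * d0 * q⁻¹) * (d0 * d0) * (r * d0 * r⁻¹) := by group
      _ = _ := by rw [h.sq d0 hd0, mul_one]
  have h3' : ((q * d0 * q⁻¹) * d0) ^ 3 = 1 := by
    apply order_pattern (Or.inr rfl) hc (h.sq_or_cube heD hd0)
    · rw [hprod]; exact h.sq_or_cube heD hrD
    · obtain ⟨m, hm⟩ := hP3 ⟨_, hβR⟩
      refine ⟨m, ?_⟩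
      have := congrArg Subtype.val hm
      simpa using this
    · exact hβ1
  obtain ⟨m, hm⟩ := hP2 ⟨_, hαR⟩
  have hm' : ((q * d0 * q⁻¹) * d0) ^ 2 ^ m = 1 := by
    have := congrArg Subtype.val hm
    simpa using this
  exact hα1 (eq_one_of_pow_coprime hm' h3' (by apply Nat.Coprime.pow_left; norm_num))

end Cfsg.Agent.Lib.Helper3.TT
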