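import Mathlib
import Cfsg.Agent.Lib.Helper3.TT7

set_option autoImplicit false

/-! 3-transposition groups: the unique component when `O_2`, `O_3` are central. -/

namespace Cfsg.Agent.Lib.Helper3.TT

open Cfsg

universe u

variable {G : Type u} [Group G]

/-- either the commutators `[x, d]` generate the component, or `d` centralizes it -/
theorem Kc_eq_or_centralized [Finite G] {L : Subgroup G} (hL : IsComponent L) {d : G}
    (hdL : ∀ x ∈ L, d * x * d⁻¹ ∈ L) : Kc L d = L ∨ ∀ x ∈ L, x * d = d * x := by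
  have hKL : Kc L d ≤ L := Kc_le hdL
  have hn : ((Kc L d).subgroupOf L).Normal := by
    apply Subgroup.normal_subgroupOf_of_le_normalizer
    intro y hy
    exact mem_normalizer_of_map_le (Kc_map_le hy) (Kc_map_le (inv_mem hy))
  have hperf : Group.IsPerfect ↥L := hL.2.1
  rcases Cfsg.Agent.Lib.Helper2.isQuasisimple_normal_eq_top_or_le_center hL.2
    ((Kc L d).subgroupOf L) with h1 | h1
  · left
    rw [Subgroup.subgroupOf_eq_top] at h1
    exact le_antisymm hKL h1
  · right
    have hcen : ∀ x (hx : x ∈ L), ∀ y ∈ L, y * (x * d * x⁻¹ * d⁻¹) = (x * d * x⁻¹ * d⁻¹) * y := by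
      intro x hx y hy
      have hm : x * d * x⁻¹ * d⁻¹ ∈ Kc L d := Subgroup.subset_closure ⟨x, hx, rfl⟩
      have hm' : (⟨x * d * x⁻¹ * d⁻¹, hKL hm⟩ : ↥L) ∈ (Kc L d).subgroupOf L :=
        Subgroup.mem_subgroupOf.mpr hm
      have := Subgroup.mem_center_iff.mp (h1 hm') ⟨y, hy⟩
      exact congrArg Subtype.val this
    have hmemL : ∀ x (_ : x ∈ L), x * d * x⁻¹ * d⁻¹ ∈ L := fun x hx =>
      hKL (Subgroup.subset_closure ⟨x, hx, rfl⟩)
    let φ : ↥L →* ↥(Subgroup.center ↥L) := MonoidHom.mk'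
      (fun x => ⟨⟨(x : G) * d * (x : G)⁻¹ * d⁻¹, hmemL x x.2⟩, by
        rw [Subgroup.mem_center_iff]
        intro y
        apply Subtype.ext
        exact hcen x x.2 y y.2⟩)
      (by
        intro x y
        apply Subtype.ext
        apply Subtype.ext
        simp only [Subgroup.coe_mul]
        have hy := hcen y y.2 x x.2
        have hxy := hcen y y.2 _ (hmemL x x.2)
        calc (x : G) * y * d * ((x : G) * y)⁻¹ * d⁻¹
            = ((x : G) * ((y : G) * d * (y : G)⁻¹ * d⁻¹)) * (x : G)⁻¹ *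
                ((x : G) * d * (x : G)⁻¹ * d⁻¹) := by group
          _ = (((y : G) * d * (y : G)⁻¹ * d⁻¹) * (x : G)) * (x : G)⁻¹ *
                ((x : G) * d * (x : G)⁻¹ * d⁻¹) := by rw [hy]
          _ = ((y : G) * d * (y : G)⁻¹ * d⁻¹) * ((x : G) * d * (x : G)⁻¹ * d⁻¹) := by group
          _ = ((x : G) * d * (x : G)⁻¹ * d⁻¹) * ((y : G) * d * (y : G)⁻¹ * d⁻¹) := hxy.symm)
    intro x hx
    have hcomm : ∀ a b : ↥(Subgroup.center ↥L), a * b = b * a := by
      intro a b
      apply Subtype.ext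
      exact (Subgroup.mem_center_iff.mp a.2 (b : ↥L)).symm
    have h2 := Cfsg.Agent.Lib.Helper2.hom_eq_one_of_isPerfect hperf hcomm φ ⟨x, hx⟩
    have h3 : x * d * x⁻¹ * d⁻¹ = 1 := by
      have := congrArg (fun z : ↥(Subgroup.center ↥L) => ((z : ↥L) : G)) h2
      simpa [φ] using this
    calc x * d = (x * d * x⁻¹ * d⁻¹) * (d * x) := by group
      _ = d * x := by rw [h3, one_mul]

/-- a component of a group generated by a class of 3-transpositions is normal -/
theorem comp_normal [Finite G] {D : Set G} (hD : IsThreeTranspositionClass D) {L : Subgroup G}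
    (hL : IsComponent L) : L.Normal := by
  have h := TSet.of_class hD
  have hle : Subgroup.closure D ≤ Subgroup.normalizer (L : Set G) := by
    rw [Subgroup.closure_le]
    intro d hd
    have h1 := comp_normalized h hL hd
    have h2 := comp_normalized h hL (by rw [h.inv hd]; exact hd : d⁻¹ ∈ D)
    exact mem_normalizer_of_map_le (le_of_eq h1) (le_of_eq h2)
  rw [hD.2.2] at hle
  exact Subgroup.normalizer_eq_top_iff.mp (top_le_iff.mp hle)

/-- no member of `D` centralizes a component -/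
theorem not_centralizes_comp [Finite G] {D : Set G} (hD : IsThreeTranspositionClass D)
    {L : Subgroup G} (hL : IsComponent L) {d : G} (hd : d ∈ D) : ∃ x ∈ L, x * d ≠ d * x := by
  have h := TSet.of_class hD
  have hLn := comp_normal hD hL
  by_contra hcon
  push Not at hcon
  have hall : ∀ e ∈ D, ∀ x ∈ L, x * e = e * x := by
    intro e he x hx
    obtain ⟨g, hg⟩ := class_conj hD hd he
    have hx' : g⁻¹ * x * g⁻¹⁻¹ ∈ L := hLn.conj_mem x hx g⁻¹
    have h1 := hcon _ hx'
    have h2 := comm_conj g h1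
    have e1 : g * (g⁻¹ * x * g⁻¹⁻¹) * g⁻¹ = x := by group
    rw [e1, hg] at h2
    exact h2
  have hLc : L ≤ Subgroup.center G := by
    intro x hx
    apply mem_center_of_comm_gen hD.2.2
    intro e he
    exact (hall e he x hx).symm
  apply Cfsg.Agent.Lib.Helper2.isComponent_not_commutative hL
  rw [Subgroup.commutator_eq_bot_iff_le_centralizer]
  intro x hx
  rw [Subgroup.mem_centralizer_iff]
  intro y _
  exact (Subgroup.mem_center_iff.mp (hLc hx) y)

theorem comp_conj_mem [Finite G] {D : Set G} (h : TSet D) {L : Subgroup G} (hL : IsComponent L)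
    {d : G} (hd : d ∈ D) : ∀ x ∈ L, d * x * d⁻¹ ∈ L := by
  intro x hx
  have := comp_normalized h hL hd
  rw [← this]
  exact ⟨x, hx, rfl⟩

/-- some commutator `[x, d]` has order exactly two -/
theorem exists_alpha_two [Finite G] {D : Set G} (hD : IsThreeTranspositionClass D)
    {L : Subgroup G} (hL : IsComponent L) {d : G} (hd : d ∈ D) :
    ∃ x ∈ L, ((x * d * x⁻¹) * d) ^ 2 = 1 ∧ ((x * d * x⁻¹) * d) ^ 3 ≠ 1 := by
  have h := TSet.of_class hD
  by_contra hcon
  push Not at hcon
  have hdL := comp_conj_mem h hL hd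
  have hcube : ∀ x ∈ L, ((x * d * x⁻¹) * d) ^ 3 = 1 := by
    intro x hx
    rcases h.sq_or_cube (h.conj x d hd) hd with h2 | h3
    · exact hcon x hx h2
    · exact h3
  have h3 : Fact (Nat.Prime 3) := ⟨Nat.prime_three⟩
  have hK := Kc_isPGroup_three h hd hdL hcube
  obtain ⟨x, hx, hxd⟩ := not_centralizes_comp hD hL hd
  exact hxd (comp_centralized_of_isPGroup hL hdL hK x hx)

/-- some commutator `[x, d]` has order exactly three -/
theorem exists_alpha_three [Finite G] {D : Set G} (hD : IsThreeTranspositionClass D)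
    {L : Subgroup G} (hL : IsComponent L) {d : G} (hd : d ∈ D) :
    ∃ x ∈ L, ((x * d * x⁻¹) * d) ^ 3 = 1 ∧ ((x * d * x⁻¹) * d) ^ 2 ≠ 1 := by
  have h := TSet.of_class hD
  by_contra hcon
  push Not at hcon
  have hdL := comp_conj_mem h hL hd
  have hsq : ∀ x ∈ L, ((x * d * x⁻¹) * d) ^ 2 = 1 := by
    intro x hx
    rcases h.sq_or_cube (h.conj x d hd) hd with h2 | h3
    · exact h2
    · exact hcon x hx h3
  have h2 : Fact (Nat.Prime 2) := ⟨Nat.prime_two⟩
  have hK : IsPGroup 2 ↥(Kc L d) := by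
    apply Kc_isPGroup_two h hd
    intro x hx
    exact h.comm_of_sq (h.conj x d hd) hd (hsq x hx)
  obtain ⟨x, hx, hxd⟩ := not_centralizes_comp hD hL hd
  exact hxd (comp_centralized_of_isPGroup hL hdL hK x hx)

/-- **uniqueness of the component** -/
theorem component_unique [Finite G] {D : Set G} (hD : IsThreeTranspositionClass D)
    {L₁ L₂ : Subgroup G} (hL₁ : IsComponent L₁) (hL₂ : IsComponent L₂) : L₁ = L₂ := by
  have h := TSet.of_class hD
  rcases Cfsg.Agent.Lib.Helper2.isComponent_eq_or_commutator_eq_bot hL₁ hL₂ with h1 | h1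
  · exact h1
  exfalso
  rw [Subgroup.commutator_eq_bot_iff_le_centralizer] at h1
  obtain ⟨d, hd, -⟩ := hD.2.1
  obtain ⟨x, hx, hx2, hx3⟩ := exists_alpha_two hD hL₁ hd
  obtain ⟨y, hy, hy3, hy2⟩ := exists_alpha_three hD hL₂ hd
  have hd1 := comp_conj_mem h hL₁ hd
  have hd2 := comp_conj_mem h hL₂ hd
  have hαL : (x * d * x⁻¹) * d ∈ L₁ := by
    have : (x * d * x⁻¹) * d = x * (d * x⁻¹ * d⁻¹) := by rw [h.inv hd]; group
    rw [this]
    exact mul_mem hx (hd1 _ (inv_mem hx))
  have hβL : d * (y * d * y⁻¹) ∈ L₂ := by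
    have : d * (y * d * y⁻¹) = (d * y * d⁻¹) * y⁻¹ := by rw [h.inv hd]; group
    rw [this]
    exact mul_mem (hd2 _ hy) (inv_mem hy)
  have hc : Commute ((x * d * x⁻¹) * d) (d * (y * d * y⁻¹)) :=
    (Subgroup.mem_centralizer_iff.mp (h1 hαL) _ hβL).symm
  have hβinv : d * (y * d * y⁻¹) = ((y * d * y⁻¹) * d)⁻¹ := by
    rw [mul_inv_rev, h.inv hd, h.inv (h.conj y d hd)]
  have hβ3 : (d * (y * d * y⁻¹)) ^ 3 = 1 := by
    rw [hβinv, inv_pow, hy3, inv_one]
  have hβ2 : (d * (y * d * y⁻¹)) ^ 2 ≠ 1 := by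
    rw [hβinv, inv_pow]
    intro hh
    apply hy2
    rw [← inv_inj, hh, inv_one]
  have hprod : (x * d * x⁻¹) * d * (d * (y * d * y⁻¹)) = (x * d * x⁻¹) * (y * d * y⁻¹) := by
    calc (x * d * x⁻¹) * d * (d * (y * d * y⁻¹))
        = (x * d * x⁻¹) * (d * d) * (y * d * y⁻¹) := by group
      _ = _ := by rw [h.sq d hd, mul_one]
  have hk := h.sq_or_cube (h.conj x d hd) (h.conj y d hd)
  rw [← hprod, hc.mul_pow, hc.mul_pow] at hk
  rcases hk with k2 | k3
  · rw [hx2, one_mul] at k2
    exact hβ2 k2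
  · rw [hβ3, mul_one] at k3
    exact hx3 k3

end Cfsg.Agent.Lib.Helper3.TT
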