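import Mathlib
import Cfsg.Agent.Lib.Helper3.TT8

set_option autoImplicit false

/-! 3-transposition groups: blocks of imprimitivity. -/

namespace Cfsg.Agent.Lib.Helper3.TT

open Cfsg

universe u

variable {G : Type u} [Group G]

/-- the conjugate of a set -/
def cjs (g : G) (B : Set G) : Set G := (fun x => g * x * g⁻¹) '' B

theorem mem_cjs {g x : G} {B : Set G} : x ∈ cjs g B ↔ g⁻¹ * x * g ∈ B := by
  unfold cjs
  constructor
  · rintro ⟨y, hy, rfl⟩
    have : g⁻¹ * (g * y * g⁻¹) * g = y := by group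
    rw [this]; exact hy
  · intro h
    exact ⟨g⁻¹ * x * g, h, by group⟩

theorem conj_mem_cjs {g x : G} {B : Set G} (hx : x ∈ B) : g * x * g⁻¹ ∈ cjs g B := ⟨x, hx, rfl⟩

theorem cjs_mul (g h : G) (B : Set G) : cjs (g * h) B = cjs g (cjs h B) := by
  ext x
  rw [mem_cjs, mem_cjs, mem_cjs]
  have : (g * h)⁻¹ * x * (g * h) = h⁻¹ * (g⁻¹ * x * g) * h := by group
  rw [this]

theorem cjs_one (B : Set G) : cjs 1 B = B := by
  ext x
  rw [mem_cjs]
  simp

theorem cjs_disjoint {g : G} {B C : Set G} (h : Disjoint B C) : Disjoint (cjs g B) (cjs g C) := by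
  rw [Set.disjoint_left] at h ⊢
  intro x hx hx'
  rw [mem_cjs] at hx hx'
  exact h hx hx'

/-- `B` is a block for conjugation -/
def IsBlk (B : Set G) : Prop := ∀ g : G, cjs g B = B ∨ Disjoint (cjs g B) B

theorem IsBlk.pair {B : Set G} (hB : IsBlk B) (g₁ g₂ : G) :
    cjs g₁ B = cjs g₂ B ∨ Disjoint (cjs g₁ B) (cjs g₂ B) := by
  have e : cjs g₁ B = cjs g₂ (cjs (g₂⁻¹ * g₁) B) := by
    rw [← cjs_mul]; congr 1; group
  rcases hB (g₂⁻¹ * g₁) with h | h
  · left
    rw [e, h]
  · right
    rw [e]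
    exact cjs_disjoint h

theorem IsBlk.eq_of_mem {B : Set G} (hB : IsBlk B) {g₁ g₂ x : G} (h1 : x ∈ cjs g₁ B)
    (h2 : x ∈ cjs g₂ B) : cjs g₁ B = cjs g₂ B := by
  rcases hB.pair g₁ g₂ with h | h
  · exact h
  · exact absurd h2 (Set.disjoint_left.mp h h1)

theorem IsBlk.fix_of_mem {B : Set G} (hB : IsBlk B) {a x : G} (ha : a ∈ B)
    (hxa : x * a * x⁻¹ ∈ B) : cjs x B = B := by
  have h1 : x * a * x⁻¹ ∈ cjs x B := conj_mem_cjs ha
  have h2 : x * a * x⁻¹ ∈ cjs 1 B := by rw [cjs_one]; exact hxa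
  have := hB.eq_of_mem h1 h2
  rwa [cjs_one] at this

theorem IsBlk.conj {B : Set G} (hB : IsBlk B) (g : G) : IsBlk (cjs g B) := by
  intro h
  rw [← cjs_mul]
  exact hB.pair (h * g) g

/-- an outside member of `D` commuting with one member of a block commutes with all of it -/
theorem IsBlk.dichotomy {D : Set G} (h : TSet D) {B : Set G} (hB : IsBlk B) (hBD : B ⊆ D) {b : G}
    (hb : b ∈ D) (hbB : b ∉ B) {a : G} (ha : a ∈ B) (hab : a * b = b * a) :
    ∀ a' ∈ B, a' * b = b * a' := by
  have hfix : cjs b B = B := by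
    apply hB.fix_of_mem ha
    have : b * a * b⁻¹ = a := by rw [← hab]; group
    rw [this]; exact ha
  intro a' ha'
  by_contra hne
  have ha'D := hBD ha'
  have hbr : a' * b * a' = b * a' * b := h.braid ha'D hb hne
  have h1 : b * a' * b⁻¹ ∈ B := by
    rw [← hfix]; exact conj_mem_cjs ha'
  have hfix' : cjs a' B = B := by
    apply hB.fix_of_mem ha'
    have : a' * a' * a'⁻¹ = a' := by group
    rw [this]; exact ha'
  apply hbB
  have h2 : a' * (b * a' * b⁻¹) * a'⁻¹ ∈ cjs a' B := conj_mem_cjs h1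
  rw [hfix'] at h2
  have e : a' * (b * a' * b⁻¹) * a'⁻¹ = b := by
    rw [h.inv hb, h.inv ha'D, ← hbr]
    calc a' * (a' * b * a') * a' = (a' * a') * b * (a' * a') := by group
      _ = b := by rw [h.sq a' ha'D, one_mul, mul_one]
  rwa [e] at h2

/-- the product of two members of a block fixes every block of the system -/
theorem IsBlk.mul_fix {D : Set G} (h : TSet D) {B : Set G} (hB : IsBlk B) (hBD : B ⊆ D)
    {a a' : G} (ha : a ∈ B) (ha' : a' ∈ B) (g : G) : cjs (a' * a) (cjs g B) = cjs g B := by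
  have haD := hBD ha
  have ha'D := hBD ha'
  have fixa : ∀ x ∈ B, cjs x B = B := by
    intro x hx
    apply hB.fix_of_mem hx
    have : x * x * x⁻¹ = x := by group
    rw [this]; exact hx
  rcases hB.pair g 1 with h1 | h1
  · rw [cjs_one] at h1
    rw [h1, cjs_mul, fixa a ha, fixa a' ha']
  · rw [cjs_one] at h1
    -- `cjs g B` is disjoint from `B`
    have hB₂ : IsBlk (cjs g B) := hB.conj g
    have hB₂D : cjs g B ⊆ D := by
      rintro _ ⟨y, hy, rfl⟩
      exact h.conj g y (hBD hy)
    have hne : (cjs g B).Nonempty := ⟨g * a * g⁻¹, conj_mem_cjs ha⟩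
    obtain ⟨b, hb⟩ := hne
    have hbD := hB₂D hb
    have hbB : b ∉ B := fun hh => Set.disjoint_left.mp h1 hb hh
    by_cases hab : a * b = b * a
    · -- everything commutes
      have hall := hB.dichotomy h hBD hbD hbB ha hab
      have key : ∀ x ∈ B, cjs x (cjs g B) = cjs g B := by
        intro x hx
        have hxB₂ : x ∉ cjs g B := fun hh => Set.disjoint_left.mp h1 hh hx
        have hall₂ := hB₂.dichotomy h hB₂D (hBD hx) hxB₂ hb (hall x hx).symm
        ext y
        rw [mem_cjs]
        constructor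
        · intro hy
          have hc := hall₂ _ hy
          have e : x * (x⁻¹ * y * x) = y * x := by group
          rw [e] at hc
          have : x⁻¹ * y * x = y := mul_right_cancel hc
          rw [this] at hy
          exact hy
        · intro hy
          have hc := hall₂ _ hy
          -- `x` commutes with `y`
          have : x⁻¹ * y * x = y := by
            calc x⁻¹ * y * x = x⁻¹ * (y * x) := by group
              _ = x⁻¹ * (x * y) := by rw [hc]
              _ = y := by group
          rw [this]; exact hy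
      rw [cjs_mul, key a ha, key a' ha']
    · have hab' : a' * b ≠ b * a' := by
        intro hh
        exact hab (hB.dichotomy h hBD hbD hbB ha' hh a ha)
      have hbr : a * b * a = b * a * b := h.braid haD hbD hab
      have hbr' : a' * b * a' = b * a' * b := h.braid ha'D hbD hab'
      have m1 : a * b * a⁻¹ ∈ cjs a (cjs g B) := conj_mem_cjs hb
      have m1' : a * b * a⁻¹ ∈ cjs b B := by
        have : a * b * a⁻¹ = b * a * b⁻¹ := by rw [h.inv haD, h.inv hbD, hbr]
        rw [this]; exact conj_mem_cjs ha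
      have m2 : a' * b * a'⁻¹ ∈ cjs a' (cjs g B) := conj_mem_cjs hb
      have m2' : a' * b * a'⁻¹ ∈ cjs b B := by
        have : a' * b * a'⁻¹ = b * a' * b⁻¹ := by rw [h.inv ha'D, h.inv hbD, hbr']
        rw [this]; exact conj_mem_cjs ha'
      rw [← cjs_mul] at m1 m2
      have e1 := hB.eq_of_mem m1 m1'
      have e2 := hB.eq_of_mem m2 m2'
      have e3 : cjs a (cjs g B) = cjs a' (cjs g B) := by
        rw [← cjs_mul, ← cjs_mul, e1, e2]
      rw [cjs_mul, e3, ← cjs_mul]
      have : a' * a' = 1 := h.sq a' ha'D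
      rw [this, cjs_one]

end Cfsg.Agent.Lib.Helper3.TT
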