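import Mathlib
import Cfsg.Agent.Lib.Helper3.TT10
import Cfsg.Agent.S5351

set_option autoImplicit false

/-! 3-transposition groups with central `O_2`, `O_3`: primitivity. -/

namespace Cfsg.Agent.Lib.Helper3.TT

open Cfsg

universe u

variable {G : Type u} [Group G]

/-- structure when `O_2`, `O_3` are central -/
theorem central_cores_structure [Finite G] {D : Set G} (hD : IsThreeTranspositionClass D)
    (hD2 : ∃ a ∈ D, ∃ b ∈ D, a ≠ b) (h2 : Cfsg.pCore 2 G ≤ Subgroup.center G)
    (h3 : Cfsg.pCore 3 G ≤ Subgroup.center G) :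
    ∃ L : Subgroup G, IsComponent L ∧ L.Normal ∧ Cfsg.layer G = L ∧
      Cfsg.fittingSubgroup G = Subgroup.center G := by
  obtain ⟨hA, htri⟩ := Cfsg.Agent.S5351.result hD hD2
  have hE : Cfsg.layer G ≠ ⊥ := by
    rcases htri with ⟨hh, -, -⟩ | ⟨-, hh, -⟩ | ⟨-, -, hh⟩
    · exact absurd h2 hh
    · exact absurd h3 hh
    · exact hh
  have hex : ∃ L : Subgroup G, Cfsg.IsComponent L := by
    by_contra hcon
    push Not at hcon
    apply hE
    unfold Cfsg.layer
    rw [sSup_eq_bot]
    intro L hL
    exact absurd hL (hcon L)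
  obtain ⟨L, hL⟩ := hex
  have hLn : L.Normal := comp_normal hD hL
  have hlayer : Cfsg.layer G = L := by
    apply le_antisymm
    · unfold Cfsg.layer
      apply sSup_le
      intro K hK
      exact le_of_eq (component_unique hD hK hL)
    · exact le_sSup hL
  have hF : Cfsg.fittingSubgroup G = Subgroup.center G := by
    apply le_antisymm
    · rw [Cfsg.Agent.Lib.Helper1.fittingSubgroup_eq_iSup_pCore]
      apply iSup_le
      intro p
      by_cases hp3 : 3 < (p : ℕ)
      · exact hA p p.2 hp3
      · have hp2 : 2 ≤ (p : ℕ) := p.2.two_le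
        have : (p : ℕ) = 2 ∨ (p : ℕ) = 3 := by omega
        rcases this with hh | hh
        · rw [hh]; exact h2
        · rw [hh]; exact h3
    · apply Cfsg.Agent.Lib.Helper1.le_fittingSubgroup inferInstance
      letI : CommGroup ↥(Subgroup.center G) :=
        { (inferInstance : Group ↥(Subgroup.center G)) with
          mul_comm := fun a b => Subtype.ext (Subgroup.mem_center_iff.mp a.2 (b : G)).symm }
      exact CommGroup.isNilpotent
  exact ⟨L, hL, hLn, hlayer, hF⟩

/-- the centralizer of the component is the centre -/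
theorem centralizer_comp_le_center [Finite G] {D : Set G} (hD : IsThreeTranspositionClass D)
    (hD2 : ∃ a ∈ D, ∃ b ∈ D, a ≠ b) (h2 : Cfsg.pCore 2 G ≤ Subgroup.center G)
    (h3 : Cfsg.pCore 3 G ≤ Subgroup.center G) {L : Subgroup G} (hL : IsComponent L) :
    Subgroup.centralizer (L : Set G) ≤ Subgroup.center G := by
  obtain ⟨L', hL', -, hlayer, hF⟩ := central_cores_structure hD hD2 h2 h3
  have hLL' : L = L' := component_unique hD hL hL'
  subst hLL'
  have hLn : L.Normal := comp_normal hD hL
  have hFs : Cfsg.generalizedFittingSubgroup G = L ⊔ Subgroup.center G := by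
    unfold Cfsg.generalizedFittingSubgroup
    rw [hlayer, hF]
  have hcen := Cfsg.Agent.Lib.Helper8.centralizer_generalizedFittingSubgroup_le (G := G)
  -- `Z(L)` is central in `G`
  have hZL : L ⊓ Subgroup.centralizer (L : Set G) ≤ Subgroup.center G := by
    rw [← hF]
    have hcn : (Subgroup.centralizer (L : Set G)).Normal := Subgroup.normal_centralizer
    have hn : (L ⊓ Subgroup.centralizer (L : Set G)).Normal := inferInstance
    apply Cfsg.Agent.Lib.Helper1.le_fittingSubgroup hn
    letI : CommGroup ↥(L ⊓ Subgroup.centralizer (L : Set G)) :=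
      { (inferInstance : Group ↥(L ⊓ Subgroup.centralizer (L : Set G))) with
        mul_comm := fun a b => Subtype.ext
          (Subgroup.mem_centralizer_iff.mp b.2.2 (a : G) a.2.1) }
    exact CommGroup.isNilpotent
  intro x hx
  have hx' : x ∈ Subgroup.centralizer (Cfsg.generalizedFittingSubgroup G : Set G) := by
    rw [hFs]
    rw [Subgroup.mem_centralizer_iff]
    intro y hy
    have hy' : y ∈ ((L ⊔ Subgroup.center G : Subgroup G) : Set G) := hy
    rw [Subgroup.mul_normal] at hy'
    obtain ⟨l, hl, z, hz, rfl⟩ := Set.mem_mul.mp hy'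
    have h1 : l * x = x * l := Subgroup.mem_centralizer_iff.mp hx l hl
    have h2' : z * x = x * z := Subgroup.mem_center_iff.mp hz x |>.symm
    calc l * z * x = l * (z * x) := by group
      _ = l * (x * z) := by rw [h2']
      _ = (l * x) * z := by group
      _ = (x * l) * z := by rw [h1]
      _ = x * (l * z) := by group
  have hx2 := hcen hx'
  rw [hFs] at hx2
  have hx3 : x ∈ ((L ⊔ Subgroup.center G : Subgroup G) : Set G) := hx2
  rw [Subgroup.mul_normal] at hx3
  obtain ⟨l, hl, z, hz, rfl⟩ := Set.mem_mul.mp hx3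
  have hl' : l ∈ Subgroup.centralizer (L : Set G) := by
    have : l = (l * z) * z⁻¹ := by group
    rw [this]
    apply mul_mem hx
    rw [Subgroup.mem_centralizer_iff]
    intro y _
    exact (Subgroup.mem_center_iff.mp (inv_mem hz) y)
  exact mul_mem (hZL ⟨hl, hl'⟩) hz

/-- normal subgroups contain the component or are central -/
theorem normal_le_or_central [Finite G] {D : Set G} (hD : IsThreeTranspositionClass D)
    (hD2 : ∃ a ∈ D, ∃ b ∈ D, a ≠ b) (h2 : Cfsg.pCore 2 G ≤ Subgroup.center G)
    (h3 : Cfsg.pCore 3 G ≤ Subgroup.center G) {L : Subgroup G} (hL : IsComponent L)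
    (N : Subgroup G) (hN : N.Normal) : L ≤ N ∨ N ≤ Subgroup.center G := by
  have hLN : L ≤ Subgroup.normalizer (N : Set G) := by
    rw [Subgroup.normalizer_eq_top]; exact le_top
  rcases Cfsg.Agent.Lib.Helper2.isComponent_le_or_commutator_eq_bot_of_le_normalizer hL hLN
    with h | h
  · left; exact h
  · right
    rw [Subgroup.commutator_eq_bot_iff_le_centralizer] at h
    exact h.trans (centralizer_comp_le_center hD hD2 h2 h3 hL)

/-- members of `D` differing by a central element are equal -/
theorem eq_of_mul_central {D : Set G} (hD : IsThreeTranspositionClass D)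
    (hD2 : ∃ a ∈ D, ∃ b ∈ D, a ≠ b) {a a' : G} (ha : a ∈ D) (ha' : a' ∈ D)
    (hz : a * a' ∈ Subgroup.center G) : a = a' := by
  have h := TSet.of_class hD
  have hzc : ∀ g : G, g * (a * a') = (a * a') * g := fun g => Subgroup.mem_center_iff.mp hz g
  have hcomm : a * a' = a' * a := by
    have := hzc a
    calc a * a' = a⁻¹ * (a * (a * a')) := by group
      _ = a⁻¹ * ((a * a') * a) := by rw [this]
      _ = a' * a := by group
  obtain ⟨e, he, hea⟩ := exists_not_comm hD hD2 ha
  have hea' : e * a' ≠ a' * e := by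
    intro hh
    apply hea
    have e1 : a = (a * a') * a' := by rw [mul_assoc, h.sq a' ha', mul_one]
    rw [e1]
    calc e * (a * a' * a') = (e * (a * a')) * a' := by group
      _ = ((a * a') * e) * a' := by rw [hzc e]
      _ = (a * a') * (e * a') := by group
      _ = (a * a') * (a' * e) := by rw [hh]
      _ = a * a' * a' * e := by group
  have h1 := h.string_conj ha he ha' hea hea' hcomm
  have e2 : e * (a * a') * e = a * a' := by
    rw [hzc e, mul_assoc, h.sq e he, mul_one]
  rw [e2] at h1
  rw [← h1]
  have := hzc a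
  calc a = a * ((a * a') * (a * a')⁻¹) := by group
    _ = (a * (a * a')) * (a * a')⁻¹ := by group
    _ = ((a * a') * a) * (a * a')⁻¹ := by rw [this]

/-- commuting members of `D` are congruent modulo a component -/
theorem comm_mul_mem_comp [Finite G] {D : Set G} (hD : IsThreeTranspositionClass D)
    {L : Subgroup G} (hL : IsComponent L) {a b : G} (ha : a ∈ D) (hb : b ∈ D)
    (hc : a * b = b * a) : a * b ∈ L := by
  have hT := TSet.of_class hD
  have hLn : L.Normal := comp_normal hD hL
  have hinva : a⁻¹ = a := hT.inv ha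
  by_contra hnot
  have hcomm : ∀ x ∈ L, (x * a * x⁻¹) * b = b * (x * a * x⁻¹) := by
    intro x hx
    by_contra hne
    have h3' : ((x * a * x⁻¹) * b) ^ 3 = 1 := hT.cube (hT.conj x a ha) hb hne
    have hmk : (QuotientGroup.mk ((x * a * x⁻¹) * b) : G ⧸ L) = QuotientGroup.mk (a * b) := by
      rw [QuotientGroup.eq]
      have e1 : ((x * a * x⁻¹) * b)⁻¹ * (a * b) = b⁻¹ * ((x * a⁻¹ * x⁻¹) * a) * b := by group
      rw [e1]
      have h4 : (x * a⁻¹ * x⁻¹) * a ∈ L := by
        have : (x * a⁻¹ * x⁻¹) * a = x * (a⁻¹ * x⁻¹ * a⁻¹⁻¹) := by group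
        rw [this]
        exact mul_mem hx (hLn.conj_mem _ (inv_mem hx) a⁻¹)
      have := hLn.conj_mem _ h4 b⁻¹
      rwa [inv_inv] at this
    have hab2 : (a * b) ^ 2 = 1 := by
      rw [pow_two]
      calc a * b * (a * b) = a * (b * a) * b := by group
        _ = a * (a * b) * b := by rw [hc]
        _ = (a * a) * (b * b) := by group
        _ = 1 := by rw [hT.sq a ha, hT.sq b hb, one_mul]
    have q2 : (QuotientGroup.mk (a * b) : G ⧸ L) ^ 2 = 1 := by
      rw [← QuotientGroup.mk_pow, hab2]; rfl
    have q3 : (QuotientGroup.mk (a * b) : G ⧸ L) ^ 3 = 1 := by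
      rw [← hmk, ← QuotientGroup.mk_pow, h3']; rfl
    have q1 := eq_one_of_pow_coprime q2 q3 (by norm_num)
    exact hnot ((QuotientGroup.eq_one_iff _).mp q1)
  have hdL := comp_conj_mem hT hL ha
  rcases Kc_eq_or_centralized hL hdL with hK | hK
  · obtain ⟨y, hy, hyb⟩ := not_centralizes_comp hD hL hb
    apply hyb
    have hle : Kc L a ≤ Subgroup.centralizer {b} := by
      unfold Kc
      rw [Subgroup.closure_le]
      rintro z ⟨x, hx, rfl⟩
      show x * a * x⁻¹ * a⁻¹ ∈ Subgroup.centralizer {b}
      rw [Subgroup.mem_centralizer_singleton_iff]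
      rw [hinva]
      calc x * a * x⁻¹ * a * b = x * a * x⁻¹ * (a * b) := by group
        _ = x * a * x⁻¹ * (b * a) := by rw [hc]
        _ = (x * a * x⁻¹ * b) * a := by group
        _ = (b * (x * a * x⁻¹)) * a := by rw [hcomm x hx]
        _ = b * (x * a * x⁻¹ * a) := by group
    rw [hK] at hle
    have := hle hy
    rw [Subgroup.mem_centralizer_singleton_iff] at this
    exact this
  · obtain ⟨y, hy, hya⟩ := not_centralizes_comp hD hL ha
    exact hya (hK y hy)

/-- **primitivity** when the component has index at most two -/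
theorem block_eq_of_index_le_two [Finite G] {D : Set G} (hD : IsThreeTranspositionClass D)
    (hD2 : ∃ a ∈ D, ∃ b ∈ D, a ≠ b) (h2 : Cfsg.pCore 2 G ≤ Subgroup.center G)
    (h3 : Cfsg.pCore 3 G ≤ Subgroup.center G) {L : Subgroup G} (hL : IsComponent L)
    (hidx : L.index ≤ 2) {B : Set G} (hBD : B ⊆ D) (hB : IsBlk B) (hns : ¬ B.Subsingleton) :
    B = D := by
  have h := TSet.of_class hD
  have hLn : L.Normal := comp_normal hD hL
  rw [Set.not_subsingleton_iff] at hns
  obtain ⟨a, ha, a', ha', hne⟩ := hns
  set N := Subgroup.normalClosure {u : G | ∃ x ∈ B, ∃ y ∈ B, u = y * x} with hN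
  have hNn : N.Normal := Subgroup.normalClosure_normal
  -- the stabilizer of `B`
  let St : Subgroup G :=
    { carrier := {x | cjs x B = B}
      one_mem' := cjs_one B
      mul_mem' := by
        intro x y hx hy
        show cjs (x * y) B = B
        rw [cjs_mul, (hy : cjs y B = B), (hx : cjs x B = B)]
      inv_mem' := by
        intro x hx
        show cjs x⁻¹ B = B
        have hx' : cjs x B = B := hx
        conv_lhs => rw [← hx']
        rw [← cjs_mul, inv_mul_cancel, cjs_one] }
  have hNSt : N ≤ St := by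
    rw [hN]
    unfold Subgroup.normalClosure
    rw [Subgroup.closure_le]
    intro w hw
    rw [Group.mem_conjugatesOfSet_iff] at hw
    obtain ⟨u, ⟨x, hx, y, hy, rfl⟩, hconj⟩ := hw
    obtain ⟨g, rfl⟩ := isConj_iff.mp hconj
    show cjs (g * (y * x) * g⁻¹) B = B
    have := hB.mul_fix h hBD hx hy g⁻¹
    rw [cjs_mul, cjs_mul, this, ← cjs_mul, mul_inv_cancel, cjs_one]
  rcases normal_le_or_central hD hD2 h2 h3 hL N hNn with hLN | hNZ
  · -- `L ≤ St`, `a ∈ St`, so `St = ⊤`
    have hLSt : L ≤ St := hLN.trans hNSt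
    have haSt : a ∈ St := by
      show cjs a B = B
      apply hB.fix_of_mem ha
      have : a * a * a⁻¹ = a := by group
      rw [this]; exact ha
    have htop : L ⊔ Subgroup.zpowers a = ⊤ := by
      by_cases haL : a ∈ L
      · -- then `D ⊆ L`
        have hDL : D ⊆ L := by
          intro b hb
          obtain ⟨g, hg⟩ := class_conj hD (hBD ha) hb
          rw [← hg]
          exact hLn.conj_mem a haL g
        have : L = ⊤ := by
          rw [eq_top_iff, ← hD.2.2, Subgroup.closure_le]; exact hDL
        rw [this, top_sup_eq]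
      · have hlt : L < L ⊔ Subgroup.zpowers a := by
          apply lt_of_le_of_ne le_sup_left
          intro hh
          apply haL
          rw [hh]
          exact (le_sup_right : Subgroup.zpowers a ≤ _) (Subgroup.mem_zpowers a)
        have hmul := Subgroup.relIndex_mul_index (le_sup_left : L ≤ L ⊔ Subgroup.zpowers a)
        have hr1 : L.relIndex (L ⊔ Subgroup.zpowers a) ≠ 1 := by
          intro hh
          rw [Subgroup.relIndex_eq_one] at hh
          exact absurd (le_antisymm le_sup_left hh) (ne_of_lt hlt)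
        have hr0 : L.relIndex (L ⊔ Subgroup.zpowers a) ≠ 0 := by
          intro hh
          rw [hh, zero_mul] at hmul
          have : L.index ≠ 0 := Subgroup.index_ne_zero_of_finite
          exact this hmul.symm
        have hi0 : (L ⊔ Subgroup.zpowers a).index ≠ 0 := Subgroup.index_ne_zero_of_finite
        have hi1 : (L ⊔ Subgroup.zpowers a).index = 1 := by
          have hr2 : 2 ≤ L.relIndex (L ⊔ Subgroup.zpowers a) := by omega
          have : L.relIndex (L ⊔ Subgroup.zpowers a) * (L ⊔ Subgroup.zpowers a).index ≤ 2 := by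
            rw [hmul]; exact hidx
          nlinarith [Nat.pos_of_ne_zero hi0]
        exact Subgroup.index_eq_one.mp hi1
    have hSt : St = ⊤ := by
      rw [eq_top_iff, ← htop]
      apply sup_le hLSt
      rw [Subgroup.zpowers_le]; exact haSt
    apply Set.Subset.antisymm hBD
    intro b hb
    obtain ⟨g, hg⟩ := class_conj hD (hBD ha) hb
    have hg' : g ∈ St := by rw [hSt]; trivial
    have hg'' : cjs g B = B := hg'
    rw [← hg'', ← hg]
    exact conj_mem_cjs ha
  · exfalso
    apply hne
    have hmem : a' * a ∈ N := Subgroup.subset_normalClosure ⟨a, ha, a', ha', rfl⟩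
    exact (eq_of_mul_central hD hD2 (hBD ha') (hBD ha) (hNZ hmem)).symm

end Cfsg.Agent.Lib.Helper3.TT
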