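import Mathlib
import Cfsg.Agent.Lib.Helper3.TT11

set_option autoImplicit false

/-! Primitive 3-transposition groups: the cores are central and the commuting graph is connected. -/

namespace Cfsg.Agent.Lib.Helper3.TT

open Cfsg

universe u

variable {G : Type u} [Group G]

theorem class_of_primitive {D : Set G} (hG : IsThreeTranspositionGroup D)
    (htr : ∀ a ∈ D, ∀ b ∈ D, ∃ g : G, g * a * g⁻¹ = b) (hne : D.Nonempty) :
    IsThreeTranspositionClass D := by
  obtain ⟨d, hd⟩ := hne
  refine ⟨hG.1, ⟨d, hd, ?_⟩, hG.2.2⟩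
  ext x
  constructor
  · intro hx
    obtain ⟨g, hg⟩ := htr d hd x hx
    show IsConj d x
    exact isConj_iff.mpr ⟨g, hg⟩
  · intro hx
    have hx' : IsConj d x := hx
    obtain ⟨g, rfl⟩ := isConj_iff.mp hx'
    exact hG.2.1 g d hd

/-- conjugation as a graph homomorphism of the commuting graph -/
def conjHom {D : Set G} (hc : ∀ g : G, ∀ d ∈ D, g * d * g⁻¹ ∈ D) (g : G) :
    commutingGraph D →g commutingGraph D where
  toFun x := ⟨g * (x : G) * g⁻¹, hc g x x.2⟩
  map_rel' := by
    intro x y hxy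
    unfold commutingGraph at hxy ⊢
    rw [SimpleGraph.fromRel_adj] at hxy ⊢
    refine ⟨?_, ?_⟩
    · intro hh
      apply hxy.1
      apply Subtype.ext
      have := congrArg Subtype.val hh
      simp only [] at this
      have e : (x : G) = g⁻¹ * (g * (x : G) * g⁻¹) * g := by group
      rw [e, this]; group
    · rcases hxy.2 with h | h
      · left; exact comm_conj g h
      · right; exact comm_conj g h

/-- the blocks given by the classes `V`, `W` and the connected components -/
theorem primitive_structure [Finite G] {D : Set G} (hG : IsThreeTranspositionGroup D)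
    (hprim : IsPrimitiveUnderConj D) (hw : ∃ a ∈ D, ∃ b ∈ D, a ≠ b ∧ Commute a b) :
    IsThreeTranspositionClass D ∧ Cfsg.pCore 2 G ≤ Subgroup.center G ∧
      Cfsg.pCore 3 G ≤ Subgroup.center G ∧ (commutingGraph D).Connected := by
  obtain ⟨htr, hD2, hblk⟩ := hprim
  have hne : D.Nonempty := by
    obtain ⟨a, ha, -⟩ := hD2
    exact ⟨a, ha⟩
  have hD := class_of_primitive hG htr hne
  have h := TSet.of_class hD
  -- for every `d ∈ D` there is a distinct commuting partner
  have hpartner : ∀ d ∈ D, ∃ b ∈ D, b ≠ d ∧ d * b = b * d := by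
    intro d hd
    obtain ⟨a, ha, b, hb, hab, hc⟩ := hw
    obtain ⟨g, hg⟩ := htr a ha d hd
    refine ⟨g * b * g⁻¹, h.conj g b hb, ?_, ?_⟩
    · intro hh
      apply hab
      rw [← hg] at hh
      have : g⁻¹ * (g * b * g⁻¹) * g = g⁻¹ * (g * a * g⁻¹) * g := by rw [hh]
      have e1 : g⁻¹ * (g * b * g⁻¹) * g = b := by group
      have e2 : g⁻¹ * (g * a * g⁻¹) * g = a := by group
      rw [e1, e2] at this
      exact this.symm
    · rw [← hg]; exact comm_conj g hc
  refine ⟨hD, ?_, ?_, ?_⟩
  · -- `O_2` central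
    intro q hq
    apply mem_center_of_comm_gen hD.2.2
    intro d hd
    set B : Set G := {v : G | v ∈ D ∧ SameP D d v} with hB
    have hBD : B ⊆ D := fun v hv => hv.1
    have hBblk : ∀ g : G, (fun x => g * x * g⁻¹) '' B = B ∨
        Disjoint ((fun x => g * x * g⁻¹) '' B) B := by
      intro g
      by_cases hex : ∃ x, x ∈ (fun x => g * x * g⁻¹) '' B ∧ x ∈ B
      · left
        obtain ⟨x, ⟨y, hy, rfl⟩, hx2⟩ := hex
        -- `SameP d y` and `SameP d (g y g⁻¹)`, so `SameP d (g d g⁻¹)`
        have s1 : SameP D (g * d * g⁻¹) (g * y * g⁻¹) := hy.2.conj h g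
        have s2 : SameP D d (g * d * g⁻¹) := hx2.2.trans s1.symm
        ext z
        constructor
        · rintro ⟨v, hv, rfl⟩
          exact ⟨h.conj g v hv.1, s2.trans (hv.2.conj h g)⟩
        · intro hz
          refine ⟨g⁻¹ * z * g, ⟨h.conj' hz.1 g, ?_⟩, by group⟩
          have s3 : SameP D (g * d * g⁻¹) z := s2.symm.trans hz.2
          have := s3.conj h g⁻¹
          have e1 : g⁻¹ * (g * d * g⁻¹) * g⁻¹⁻¹ = d := by group
          rw [e1, inv_inv] at this
          exact this
      · right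
        rw [Set.disjoint_left]
        intro x hx1 hx2
        exact hex ⟨x, hx1, hx2⟩
    rcases hblk B hBD hBblk with hs | hBeq
    · have hv : q * d * q⁻¹ ∈ B := by
        refine ⟨h.conj q d hd, ?_⟩
        apply h.sameP_of_mem_pCore_two hd (h.conj q d hd)
        have hn := Cfsg.Agent.Lib.Helper1.pCore_normal (G := G) 2
        have : d⁻¹ * (q * d * q⁻¹) = (d⁻¹ * q * d⁻¹⁻¹) * q⁻¹ := by group
        rw [this]
        exact mul_mem (hn.conj_mem q hq d⁻¹) (inv_mem hq)
      have hdB : d ∈ B := ⟨hd, SameP.refl D d⟩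
      have := hs hv hdB
      calc d * q = (q * d * q⁻¹)⁻¹⁻¹ * q * 1 := by rw [this]; group
        _ = q * d := by rw [inv_inv, mul_one]; group
    · exfalso
      -- all of `D` commutes
      obtain ⟨e, he, hed⟩ := exists_not_comm hD hD2 hd
      have heB : e ∈ B := by rw [hBeq]; exact he
      exact hed (heB.2.comm he).symm
  · -- `O_3` central
    intro r hr
    apply mem_center_of_comm_gen hD.2.2
    intro d hd
    have hBD : Wc D d ⊆ D := fun v hv => hv.1
    have hBblk : ∀ g : G, (fun x => g * x * g⁻¹) '' (Wc D d) = Wc D d ∨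
        Disjoint ((fun x => g * x * g⁻¹) '' (Wc D d)) (Wc D d) := by
      intro g
      have himg : (fun x => g * x * g⁻¹) '' (Wc D d) = Wc D (g * d * g⁻¹) := by
        ext z
        constructor
        · rintro ⟨v, hv, rfl⟩
          exact Wc_conj h g hv
        · intro hz
          refine ⟨g⁻¹ * z * g, ?_, by group⟩
          have := Wc_conj h g⁻¹ hz
          have e1 : g⁻¹ * (g * d * g⁻¹) * g⁻¹⁻¹ = d := by group
          rw [e1, inv_inv] at this
          exact this
      rw [himg]
      by_cases hex : ∃ x, x ∈ Wc D (g * d * g⁻¹) ∧ x ∈ Wc D d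
      · left
        obtain ⟨x, hx1, hx2⟩ := hex
        rw [← Wc_eq_of_mem hx1, Wc_eq_of_mem hx2]
      · right
        rw [Set.disjoint_left]
        intro x hx1 hx2
        exact hex ⟨x, hx1, hx2⟩
    rcases hblk (Wc D d) hBD hBblk with hs | hBeq
    · have hv : r * d * r⁻¹ ∈ Wc D d := by
        apply h.mem_Wc_of_mem_pCore_three hd (h.conj r d hd)
        have hn := Cfsg.Agent.Lib.Helper1.pCore_normal (G := G) 3
        have : d⁻¹ * (r * d * r⁻¹) = (d⁻¹ * r * d⁻¹⁻¹) * r⁻¹ := by group
        rw [this]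
        exact mul_mem (hn.conj_mem r hr d⁻¹) (inv_mem hr)
      have := hs hv (Wc_self hd)
      calc d * r = (r * d * r⁻¹)⁻¹⁻¹ * r * 1 := by rw [this]; group
        _ = r * d := by rw [inv_inv, mul_one]; group
    · exfalso
      obtain ⟨b, hb, hbd, hc⟩ := hpartner d hd
      have hbW : b ∈ Wc D d := by rw [hBeq]; exact hb
      exact Wc_not_comm hbW hbd hc
  · -- connected
    obtain ⟨d, hd⟩ := hne
    set B : Set G := {x : G | ∃ hx : x ∈ D, (commutingGraph D).Reachable ⟨d, hd⟩ ⟨x, hx⟩} with hB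
    have hBD : B ⊆ D := fun v hv => hv.1
    have hBblk : ∀ g : G, (fun x => g * x * g⁻¹) '' B = B ∨
        Disjoint ((fun x => g * x * g⁻¹) '' B) B := by
      intro g
      by_cases hex : ∃ x, x ∈ (fun x => g * x * g⁻¹) '' B ∧ x ∈ B
      · left
        obtain ⟨x, ⟨y, ⟨hyD, hy⟩, rfl⟩, ⟨hxD, hx2⟩⟩ := hex
        -- `g d g⁻¹` is reachable from `d`
        have r1 : (commutingGraph D).Reachable ⟨g * d * g⁻¹, h.conj g d hd⟩
            ⟨g * y * g⁻¹, hxD⟩ := hy.map (conjHom h.conj g)
        have r2 : (commutingGraph D).Reachable ⟨d, hd⟩ ⟨g * d * g⁻¹, h.conj g d hd⟩ :=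
          hx2.trans r1.symm
        ext z
        constructor
        · rintro ⟨v, ⟨hvD, hv⟩, rfl⟩
          refine ⟨h.conj g v hvD, ?_⟩
          have r3 : (commutingGraph D).Reachable ⟨g * d * g⁻¹, h.conj g d hd⟩
              ⟨g * v * g⁻¹, h.conj g v hvD⟩ := hv.map (conjHom h.conj g)
          exact r2.trans r3
        · rintro ⟨hzD, hz⟩
          refine ⟨g⁻¹ * z * g, ⟨h.conj' hzD g, ?_⟩, by group⟩
          have r3 : (commutingGraph D).Reachable ⟨g * d * g⁻¹, h.conj g d hd⟩ ⟨z, hzD⟩ :=
            r2.symm.trans hz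
          have r4 := r3.map (conjHom h.conj g⁻¹)
          have e1 : (conjHom h.conj g⁻¹) ⟨g * d * g⁻¹, h.conj g d hd⟩ = ⟨d, hd⟩ := by
            apply Subtype.ext
            show g⁻¹ * (g * d * g⁻¹) * g⁻¹⁻¹ = d
            group
          have e2 : (conjHom h.conj g⁻¹) ⟨z, hzD⟩ = ⟨g⁻¹ * z * g, h.conj' hzD g⟩ := by
            apply Subtype.ext
            show g⁻¹ * z * g⁻¹⁻¹ = g⁻¹ * z * g
            rw [inv_inv]
          rw [e1, e2] at r4
          exact r4
      · right
        rw [Set.disjoint_left]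
        intro x hx1 hx2
        exact hex ⟨x, hx1, hx2⟩
    rcases hblk B hBD hBblk with hs | hBeq
    · exfalso
      obtain ⟨b, hb, hbd, hc⟩ := hpartner d hd
      have hdB : d ∈ B := ⟨hd, SimpleGraph.Reachable.refl _⟩
      have hbB : b ∈ B := by
        refine ⟨hb, ?_⟩
        apply SimpleGraph.Adj.reachable
        unfold commutingGraph
        rw [SimpleGraph.fromRel_adj]
        refine ⟨?_, Or.inl hc⟩
        intro hh
        apply hbd
        exact (congrArg Subtype.val hh).symm
      exact hbd (hs hbB hdB)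
    · have hall : ∀ x : D, (commutingGraph D).Reachable ⟨d, hd⟩ x := by
        intro x
        have : (x : G) ∈ B := by rw [hBeq]; exact x.2
        obtain ⟨_, hx⟩ := this
        exact hx
      haveI : Nonempty D := ⟨⟨d, hd⟩⟩
      exact ⟨fun x y => (hall x).symm.trans (hall y)⟩

end Cfsg.Agent.Lib.Helper3.TT
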