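import Mathlib
import Cfsg.Agent.Lib.Helper3.TT12

set_option autoImplicit false

/-! Lifting connectedness of the commuting graph through an inverted odd centre -/

namespace Cfsg.Agent.Lib.Helper3.CG

open Cfsg

open scoped commutatorElement

universe u

variable {G : Type u} [Group G]

/-- reachability in the commuting graph, on elements -/
def Rch (D : Set G) (x y : G) : Prop :=
  ∃ (hx : x ∈ D) (hy : y ∈ D), (commutingGraph D).Reachable ⟨x, hx⟩ ⟨y, hy⟩

theorem Rch.refl {D : Set G} {x : G} (hx : x ∈ D) : Rch D x x :=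
  ⟨hx, hx, SimpleGraph.Reachable.refl _⟩

theorem Rch.symm {D : Set G} {x y : G} : Rch D x y → Rch D y x :=
  fun ⟨hx, hy, h⟩ => ⟨hy, hx, h.symm⟩

theorem Rch.trans {D : Set G} {x y z : G} : Rch D x y → Rch D y z → Rch D x z :=
  fun ⟨hx, _, h⟩ ⟨_, hz, h'⟩ => ⟨hx, hz, h.trans h'⟩

theorem Rch.of_comm {D : Set G} {x y : G} (hx : x ∈ D) (hy : y ∈ D) (hc : x * y = y * x) :
    Rch D x y := by
  by_cases e : x = y
  · subst e; exact Rch.refl hx
  · refine ⟨hx, hy, SimpleGraph.Adj.reachable ?_⟩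
    unfold commutingGraph
    rw [SimpleGraph.fromRel_adj]
    exact ⟨fun hh => e (congrArg Subtype.val hh), Or.inl hc⟩

theorem Rch.conj {D : Set G} (hc : ∀ g : G, ∀ d ∈ D, g * d * g⁻¹ ∈ D) (g : G) {x y : G} :
    Rch D x y → Rch D (g * x * g⁻¹) (g * y * g⁻¹) :=
  fun ⟨hx, hy, h⟩ => ⟨hc g x hx, hc g y hy, h.map (TT.conjHom hc g)⟩

theorem comm_central_left {z s g : G} (hzs : Commute z s) (hzg : Commute z g) :
    ⁅z * s, g⁆ = ⁅s, g⁆ := by
  have hc : Commute z (s * g * s⁻¹) := (hzs.mul_right hzg).mul_right hzs.inv_right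
  calc ⁅z * s, g⁆ = z * (s * g * s⁻¹) * z⁻¹ * g⁻¹ := by rw [commutatorElement_def]; group
    _ = (s * g * s⁻¹) * z * z⁻¹ * g⁻¹ := by rw [hc.eq]
    _ = ⁅s, g⁆ := by rw [commutatorElement_def]; group

theorem comm_central_right {z s g : G} (hzs : Commute z s) (hzg : Commute z g) :
    ⁅s, z * g⁆ = ⁅s, g⁆ := by
  rw [← commutatorElement_inv (z * g) s, comm_central_left hzg hzs, commutatorElement_inv]

theorem connected_lift [Finite G] (L : Subgroup G) [L.Normal] (hL : IsQuasisimple ↥L) (d : G)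
    (hd : orderOf d = 2) (hgen : L ⊔ Subgroup.zpowers d = ⊤)
    (hodd : Odd (Nat.card ↥(Subgroup.center ↥L)))
    (hinv : ∀ c ∈ (Subgroup.center ↥L).map L.subtype, d * c * d⁻¹ = c⁻¹)
    [hn : ((Subgroup.center ↥L).map L.subtype).Normal]
    (hconn : (commutingGraph (conjugatesOf
      (QuotientGroup.mk d : G ⧸ (Subgroup.center ↥L).map L.subtype))).Connected) :
    (commutingGraph (conjugatesOf d)).Connected := by
  classical
  set Z : Subgroup G := (Subgroup.center ↥L).map L.subtype with hZ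
  have hZL : Z ≤ L := Subgroup.map_subtype_le _
  have hZc : ∀ c ∈ Z, ∀ g ∈ L, c * g = g * c := by
    rintro c ⟨c0, hc0, rfl⟩ g hg
    have := Subgroup.mem_center_iff.mp hc0 ⟨g, hg⟩
    have := congrArg Subtype.val this
    simpa using this.symm
  have hZcard : Nat.card Z = Nat.card (Subgroup.center ↥L) := by
    rw [hZ]
    exact Nat.card_congr ((Subgroup.center ↥L).equivMapOfInjective L.subtype
      L.subtype_injective).symm.toEquiv
  have hZodd : Odd (Nat.card Z) := by rw [hZcard]; exact hodd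
  have hcop2 : (Nat.card Z).Coprime 2 := (Nat.coprime_two_right).mpr hZodd
  have hcop4 : (Nat.card Z).Coprime 4 := by
    have : (4 : ℕ) = 2 ^ 2 := by norm_num
    rw [this]; exact Nat.Coprime.pow_right 2 hcop2
  have root2 : ∀ z ∈ Z, ∃ c ∈ Z, c ^ 2 = z := by
    intro z hz
    obtain ⟨c, hc⟩ := (powCoprime hcop2).surjective ⟨z, hz⟩
    refine ⟨c, c.2, ?_⟩
    have := congrArg Subtype.val hc
    simpa using this
  have root4 : ∀ z ∈ Z, ∃ c ∈ Z, c ^ 4 = z := by
    intro z hz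
    obtain ⟨c, hc⟩ := (powCoprime hcop4).surjective ⟨z, hz⟩
    refine ⟨c, c.2, ?_⟩
    have := congrArg Subtype.val hc
    simpa using this
  set C : Set G := conjugatesOf d with hC
  have hdC : d ∈ C := mem_conjugatesOf_self
  have hcj : ∀ g : G, ∀ x ∈ C, g * x * g⁻¹ ∈ C := by
    intro g x hx
    have hx' : IsConj d x := hx
    show IsConj d (g * x * g⁻¹)
    exact hx'.trans (isConj_iff.mpr ⟨g, rfl⟩)
  have hCex : ∀ x ∈ C, ∃ g : G, x = g * d * g⁻¹ := by
    intro x hx
    have hx' : IsConj d x := hx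
    obtain ⟨g, hg⟩ := isConj_iff.mp hx'
    exact ⟨g, hg.symm⟩
  have hinvx : ∀ x ∈ C, ∀ c ∈ Z, x * c * x⁻¹ = c⁻¹ := by
    intro x hx c hc
    obtain ⟨g, rfl⟩ := hCex x hx
    have h1 : g⁻¹ * c * g ∈ Z := by
      have := hn.conj_mem c hc g⁻¹
      simpa using this
    have h2 := hinv _ h1
    calc g * d * g⁻¹ * c * (g * d * g⁻¹)⁻¹ = g * (d * (g⁻¹ * c * g) * d⁻¹) * g⁻¹ := by group
      _ = g * (g⁻¹ * c * g)⁻¹ * g⁻¹ := by rw [h2]
      _ = c⁻¹ := by group
  -- swapping rules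
  have hsw : ∀ x ∈ C, ∀ c ∈ Z, x * c = c⁻¹ * x := by
    intro x hx c hc
    have := hinvx x hx c hc
    calc x * c = x * c * x⁻¹ * x := by group
      _ = c⁻¹ * x := by rw [this]
  have hsw' : ∀ x ∈ C, ∀ c ∈ Z, x * c⁻¹ = c * x := by
    intro x hx c hc
    have := hsw x hx c⁻¹ (Z.inv_mem hc)
    rwa [inv_inv] at this
  -- step 1: lifting an edge
  have step1 : ∀ x ∈ C, ∀ y ∈ C,
      (QuotientGroup.mk x : G ⧸ Z) * QuotientGroup.mk y = QuotientGroup.mk y * QuotientGroup.mk x →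
      ∃ c ∈ Z, x * (c * y * c⁻¹) = (c * y * c⁻¹) * x := by
    intro x hx y hy hxy
    have hz : x * y * x⁻¹ * y⁻¹ ∈ Z := by
      rw [← QuotientGroup.eq_one_iff]
      simp only [QuotientGroup.mk_mul, QuotientGroup.mk_inv]
      rw [hxy]; group
    obtain ⟨c, hc, hc4⟩ := root4 _ hz
    refine ⟨c, hc, ?_⟩
    have e1 : x * y = c ^ 4 * y * x := by rw [hc4]; group
    have hxc := hsw x hx c hc
    have hxc' := hsw' x hx c hc
    have hyc := hsw y hy c hc
    have hyc' := hsw' y hy c hc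
    have l1 : x * (c * y * c⁻¹) = c ^ 2 * y * x := by
      calc x * (c * y * c⁻¹) = (x * c) * y * c⁻¹ := by group
        _ = c⁻¹ * (x * y) * c⁻¹ := by rw [hxc]; group
        _ = c⁻¹ * (c ^ 4 * y * x) * c⁻¹ := by rw [e1]
        _ = c ^ 3 * y * (x * c⁻¹) := by group
        _ = c ^ 3 * y * (c * x) := by rw [hxc']
        _ = c ^ 3 * (y * c) * x := by group
        _ = c ^ 3 * (c⁻¹ * y) * x := by rw [hyc]
        _ = c ^ 2 * y * x := by group
    have l2 : c * y * c⁻¹ * x = c ^ 2 * y * x := by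
      calc c * y * c⁻¹ * x = c * (y * c⁻¹) * x := by group
        _ = c * (c * y) * x := by rw [hyc']
        _ = c ^ 2 * y * x := by simp only [pow_two, mul_assoc]
    rw [l1, l2]
  -- vertices of the quotient graph lift
  have hlift : ∀ v ∈ conjugatesOf (QuotientGroup.mk d : G ⧸ Z), ∃ w ∈ C,
      (QuotientGroup.mk w : G ⧸ Z) = v := by
    intro v hv
    have hv' : IsConj (QuotientGroup.mk d : G ⧸ Z) v := hv
    obtain ⟨gb, hgb⟩ := isConj_iff.mp hv'
    obtain ⟨g, rfl⟩ := QuotientGroup.mk_surjective gb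
    refine ⟨g * d * g⁻¹, hcj g d hdC, ?_⟩
    rw [← hgb]; simp
  -- step 2: lifting paths
  have step2 : ∀ ub vb : conjugatesOf (QuotientGroup.mk d : G ⧸ Z),
      (commutingGraph (conjugatesOf (QuotientGroup.mk d : G ⧸ Z))).Reachable ub vb →
      ∀ x ∈ C, (QuotientGroup.mk x : G ⧸ Z) = ub →
        ∃ y ∈ C, (QuotientGroup.mk y : G ⧸ Z) = vb ∧ Rch C x y := by
    intro ub vb hr
    obtain ⟨p⟩ := hr
    induction p with
    | nil =>
      intro x hx hxu
      exact ⟨x, hx, hxu, Rch.refl hx⟩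
    | cons hadj p ih =>
      rename_i u0 w0 v0
      intro x hx hxu
      obtain ⟨w, hw, hww⟩ := hlift w0 w0.2
      unfold commutingGraph at hadj
      rw [SimpleGraph.fromRel_adj] at hadj
      have hcomm : (QuotientGroup.mk x : G ⧸ Z) * QuotientGroup.mk w =
          QuotientGroup.mk w * QuotientGroup.mk x := by
        rw [hxu, hww]
        rcases hadj.2 with hh | hh
        · exact hh
        · exact hh.symm
      obtain ⟨c, hc, hcc⟩ := step1 x hx w hw hcomm
      have hw' : c * w * c⁻¹ ∈ C := hcj c w hw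
      have hww' : (QuotientGroup.mk (c * w * c⁻¹) : G ⧸ Z) = w0 := by
        have : (QuotientGroup.mk c : G ⧸ Z) = 1 := (QuotientGroup.eq_one_iff c).mpr hc
        simp only [QuotientGroup.mk_mul, QuotientGroup.mk_inv, this, hww]
        group
      obtain ⟨y, hy, hyv, hry⟩ := ih _ hw' hww'
      exact ⟨y, hy, hyv, (Rch.of_comm hx hw' hcc).trans hry⟩
  -- step 3
  have step3 : ∀ x ∈ C, ∃ c ∈ Z, Rch C d (c * x * c⁻¹) := by
    intro x hx
    have hdb : (QuotientGroup.mk d : G ⧸ Z) ∈ conjugatesOf (QuotientGroup.mk d : G ⧸ Z) :=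
      mem_conjugatesOf_self
    have hxb : (QuotientGroup.mk x : G ⧸ Z) ∈ conjugatesOf (QuotientGroup.mk d : G ⧸ Z) := by
      obtain ⟨g, rfl⟩ := hCex x hx
      show IsConj _ _
      rw [isConj_iff]
      exact ⟨QuotientGroup.mk g, by simp⟩
    have hr := hconn.preconnected ⟨_, hdb⟩ ⟨_, hxb⟩
    obtain ⟨v, hv, hvx, hrv⟩ := step2 _ _ hr d hdC rfl
    have hz : v * x⁻¹ ∈ Z := by
      rw [← QuotientGroup.eq_one_iff]
      simp only [QuotientGroup.mk_mul, QuotientGroup.mk_inv]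
      rw [hvx]; group
    obtain ⟨c, hc, hc2⟩ := root2 _ hz
    refine ⟨c, hc, ?_⟩
    have : c * x * c⁻¹ = v := by
      have hxc' := hsw' x hx c hc
      calc c * x * c⁻¹ = c * (x * c⁻¹) := by group
        _ = c * (c * x) := by rw [hxc']
        _ = c ^ 2 * x := by simp only [pow_two, mul_assoc]
        _ = v := by rw [hc2]; group
    rw [this]
    exact hrv
  -- the stabilizer subgroup
  let S : Subgroup G :=
    { carrier := {g | Rch C d (g * d * g⁻¹)}
      mul_mem' := by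
        intro g k hg hk
        have h1 := Rch.conj hcj g hk
        have e : g * k * d * (g * k)⁻¹ = g * (k * d * k⁻¹) * g⁻¹ := by group
        show Rch C d (g * k * d * (g * k)⁻¹)
        rw [e]
        exact Rch.trans hg h1
      one_mem' := by
        show Rch C d (1 * d * 1⁻¹)
        have e : 1 * d * 1⁻¹ = d := by group
        rw [e]
        exact Rch.refl hdC
      inv_mem' := by
        intro g hg
        have h1 := Rch.conj hcj g⁻¹ hg
        have e : g⁻¹ * (g * d * g⁻¹) * g⁻¹⁻¹ = d := by group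
        rw [e] at h1
        exact h1.symm }
  have hSmem : ∀ g : G, g ∈ S ↔ Rch C d (g * d * g⁻¹) := fun g => Iff.rfl
  have hZS : ∀ g : G, ∃ c ∈ Z, c * g ∈ S := by
    intro g
    obtain ⟨c, hc, hr⟩ := step3 (g * d * g⁻¹) (hcj g d hdC)
    refine ⟨c, hc, ?_⟩
    rw [hSmem]
    have e : c * g * d * (c * g)⁻¹ = c * (g * d * g⁻¹) * c⁻¹ := by group
    rw [e]; exact hr
  have hLL : ⁅L, L⁆ = L := by
    have h1 : commutator ↥L = ⊤ := hL.1.commutator_eq_top
    have h2 : Subgroup.map L.subtype (commutator ↥L) = ⁅L, L⁆ := by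
      rw [commutator_def, Subgroup.map_commutator]
      have : Subgroup.map L.subtype ⊤ = L := by
        rw [← MonoidHom.range_eq_map]; exact L.range_subtype
      rw [this]
    rw [← h2, h1, ← MonoidHom.range_eq_map]
    exact L.range_subtype
  have hLS : L ≤ S := by
    rw [← hLL, Subgroup.commutator_le]
    intro g1 hg1 g2 hg2
    obtain ⟨c1, hc1, hs1⟩ := hZS g1
    obtain ⟨c2, hc2, hs2⟩ := hZS g2
    have hs1L : c1 * g1 ∈ L := L.mul_mem (hZL hc1) hg1
    have hs2L : c2 * g2 ∈ L := L.mul_mem (hZL hc2) hg2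
    have e1 : g1 = c1⁻¹ * (c1 * g1) := by group
    have e2 : g2 = c2⁻¹ * (c2 * g2) := by group
    have hz1 : c1⁻¹ ∈ Z := Z.inv_mem hc1
    have hz2 : c2⁻¹ ∈ Z := Z.inv_mem hc2
    have k1 : ⁅g1, g2⁆ = ⁅c1 * g1, g2⁆ := by
      conv_lhs => rw [e1]
      exact comm_central_left (hZc _ hz1 _ hs1L) (hZc _ hz1 _ hg2)
    have k2 : ⁅c1 * g1, g2⁆ = ⁅c1 * g1, c2 * g2⁆ := by
      conv_lhs => rw [e2]
      exact comm_central_right (hZc _ hz2 _ hs1L) (hZc _ hz2 _ hs2L)
    rw [k1, k2]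
    exact Subgroup.commutator_mem_commutator hs1 hs2 |> fun _ =>
      S.mul_mem (S.mul_mem (S.mul_mem hs1 hs2) (S.inv_mem hs1)) (S.inv_mem hs2)
  have hdS : d ∈ S := by
    rw [hSmem]
    have e : d * d * d⁻¹ = d := by group
    rw [e]; exact Rch.refl hdC
  have hStop : S = ⊤ := by
    rw [eq_top_iff, ← hgen]
    apply sup_le hLS
    rw [Subgroup.zpowers_le]
    exact hdS
  have hall : ∀ x ∈ C, Rch C d x := by
    intro x hx
    obtain ⟨g, rfl⟩ := hCex x hx
    have : g ∈ S := by rw [hStop]; trivial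
    exact (hSmem g).mp this
  rw [SimpleGraph.connected_iff]
  refine ⟨?_, ⟨⟨d, hdC⟩⟩⟩
  intro u v
  obtain ⟨_, _, h1⟩ := hall u u.2
  obtain ⟨_, _, h2⟩ := hall v v.2
  exact h1.symm.trans h2

end Cfsg.Agent.Lib.Helper3.CG
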