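import Mathlib

set_option autoImplicit false
set_option maxHeartbeats 4000000
set_option maxRecDepth 100000
set_option linter.unusedVariables false
set_option linter.unusedSectionVars false
set_option linter.style.haveILetI false
set_option linter.deprecated false

/-!
# Cossey–Hawkes–Mann, part 1

Counting elements of `p'`-index modulo `p`: if the number of elements of a finite group `G`
centralizing some Sylow `p`-subgroup equals `|Z(G) ∩ P| * [G : P]`, then `Z(P) ≤ Z(G)`.
-/

namespace Cfsg.Agent.Lib.Helper3.CHM

open scoped Pointwise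

variable {G : Type*} [Group G]

/-- The sum of a `Z`-invariant function over a finite set stable under right multiplication by the
finite subgroup `Z` is divisible by `|Z|`. -/
theorem card_dvd_sum_of_invariant [Finite G] (Z : Subgroup G) (E : Finset G) (f : G → ℕ)
    (hE : ∀ x ∈ E, ∀ z ∈ Z, x * z ∈ E) (hf : ∀ x ∈ E, ∀ z ∈ Z, f (x * z) = f x) :
    Nat.card Z ∣ ∑ x ∈ E, f x := by
  classical
  haveI : Fintype (G ⧸ Z) := Fintype.ofFinite _
  haveI : Fintype Z := Fintype.ofFinite _
  rw [← Finset.sum_fiberwise E (fun x => (QuotientGroup.mk x : G ⧸ Z)) f]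
  apply Finset.dvd_sum
  intro q _
  by_cases hq : ∃ x ∈ E, (QuotientGroup.mk x : G ⧸ Z) = q
  · obtain ⟨g, hgE, hgq⟩ := hq
    have hset : E.filter (fun x => (QuotientGroup.mk x : G ⧸ Z) = q)
        = (Finset.univ : Finset Z).image (fun z : Z => g * (z : G)) := by
      ext x
      simp only [Finset.mem_filter, Finset.mem_image, Finset.mem_univ, true_and]
      constructor
      · rintro ⟨hxE, hxq⟩
        rw [← hgq, QuotientGroup.eq] at hxq
        refine ⟨⟨g⁻¹ * x, ?_⟩, ?_⟩
        · have := Z.inv_mem hxq
          simpa [mul_inv_rev] using this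
        · simp
      · rintro ⟨z, rfl⟩
        refine ⟨hE g hgE z z.2, ?_⟩
        rw [← hgq, QuotientGroup.eq]
        have : (g * (z : G))⁻¹ * g = (z : G)⁻¹ := by group
        rw [this]
        exact Z.inv_mem z.2
    rw [hset, Finset.sum_image]
    · have h1 : ∀ z ∈ (Finset.univ : Finset Z), f (g * (z : G)) = f g := fun z _ => hf g hgE z z.2
      rw [Finset.sum_congr rfl h1, Finset.sum_const, Finset.card_univ, Nat.card_eq_fintype_card]
      exact Dvd.intro _ rfl
    · intro a _ b _ hab
      exact Subtype.ext (mul_left_cancel hab)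
  · have hset : E.filter (fun x => (QuotientGroup.mk x : G ⧸ Z) = q) = ∅ := by
      apply Finset.filter_eq_empty_iff.mpr
      intro x hx hxq
      exact hq ⟨x, hx, hxq⟩
    rw [hset]
    simp

variable {p : ℕ} [Fact p.Prime] [Finite G]

/-- Conjugation moves centralizers of Sylow subgroups. -/
theorem conj_mem_centralizer_smul (g x : G) (S : Sylow p G)
    (hx : x ∈ Subgroup.centralizer (S : Set G)) :
    g * x * g⁻¹ ∈ Subgroup.centralizer ((g • S : Sylow p G) : Set G) := by
  rw [Subgroup.mem_centralizer_iff]
  intro y hy
  have hy' : g⁻¹ * y * g ∈ (S : Subgroup G) := by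
    have h1 : y ∈ ((g • S : Sylow p G) : Subgroup G) := hy
    rw [Sylow.coe_subgroup_smul, Subgroup.mem_pointwise_smul_iff_inv_smul_mem] at h1
    simpa [MulAut.smul_def, MulAut.conj_inv_apply] using h1
  have h := (Subgroup.mem_centralizer_iff.mp hx) _ hy'
  have h2 := congrArg (fun t => g * t * g⁻¹) h
  simpa [mul_assoc] using h2

theorem card_centralizer_smul (g : G) (S : Sylow p G) :
    Nat.card (Subgroup.centralizer ((g • S : Sylow p G) : Set G))
      = Nat.card (Subgroup.centralizer (S : Set G)) := by
  apply Nat.card_congr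
  exact
    { toFun := fun y => ⟨g⁻¹ * y.1 * g, by
        have := conj_mem_centralizer_smul g⁻¹ y.1 (g • S) y.2
        simpa [inv_smul_smul] using this⟩
      invFun := fun x => ⟨g * x.1 * g⁻¹, conj_mem_centralizer_smul g x.1 S x.2⟩
      left_inv := by
        intro y
        apply Subtype.ext
        simp [mul_assoc]
      right_inv := by
        intro x
        apply Subtype.ext
        simp [mul_assoc] }

/-- The number of Sylow `p`-subgroups centralized by an element centralizing at least one of them
is congruent to `1` modulo `p`. -/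
theorem card_sylCent_modEq_one (x : G) (S₀ : Sylow p G)
    (hx : x ∈ Subgroup.centralizer (S₀ : Set G)) :
    Nat.card {S : Sylow p G // x ∈ Subgroup.centralizer (S : Set G)} ≡ 1 [MOD p] := by
  classical
  let T : SubMulAction (↥(S₀ : Subgroup G)) (Sylow p G) :=
    { carrier := {S | x ∈ Subgroup.centralizer (S : Set G)}
      smul_mem' := by
        intro g S hS
        have hgx : (g : G) * x * (g : G)⁻¹ = x := by
          have h1 := (Subgroup.mem_centralizer_iff.mp hx) (g : G) g.2
          rw [h1]
          simp
        have h2 := conj_mem_centralizer_smul (g : G) x S hS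
        rw [hgx] at h2
        exact h2 }
  have h1 := (S₀.isPGroup').card_modEq_card_fixedPoints (↥T)
  have h2 : Nat.card (MulAction.fixedPoints (↥(S₀ : Subgroup G)) ↥T) = 1 := by
    rw [Nat.card_eq_one_iff_unique]
    have key : ∀ c : MulAction.fixedPoints (↥(S₀ : Subgroup G)) ↥T,
        ((c.1 : ↥T) : Sylow p G) = S₀ := by
      intro c
      have hc : ((c.1 : ↥T) : Sylow p G)
          ∈ MulAction.fixedPoints (↥(S₀ : Subgroup G)) (Sylow p G) := by
        intro g
        have := c.2 g
        exact congrArg Subtype.val this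
      rw [S₀.isPGroup'.sylow_mem_fixedPoints_iff] at hc
      exact Sylow.ext (S₀.is_maximal' ((c.1 : ↥T) : Sylow p G).isPGroup' hc)
    refine ⟨⟨?_⟩, ⟨⟨⟨S₀, hx⟩, ?_⟩⟩⟩
    · intro a b
      apply Subtype.ext
      apply Subtype.ext
      rw [key a, key b]
    · intro g
      apply Subtype.ext
      show (g : G) • S₀ = S₀
      exact Sylow.smul_eq_iff_mem_normalizer.mpr (Subgroup.le_normalizer g.2)
  rw [h2] at h1
  exact h1

end Cfsg.Agent.Lib.Helper3.CHM
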