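import Mathlib
import Cfsg.Agent.Lib.Helper3.CHM1

set_option autoImplicit false
set_option maxHeartbeats 4000000
set_option maxRecDepth 100000
set_option linter.unusedVariables false
set_option linter.unusedSectionVars false
set_option linter.style.haveILetI false
set_option linter.deprecated false

/-!
# Cossey–Hawkes–Mann, part 2: `Z(P) ≤ Z(G)` from the count of elements of `p'`-index
-/

namespace Cfsg.Agent.Lib.Helper3.CHM

open scoped Pointwise

variable {G : Type*} [Group G] [Finite G] {p : ℕ} [Fact p.Prime]

/-- `Z(G) ∩ S` lies in every Sylow `p`-subgroup. -/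
theorem center_inf_sylow_le (P S : Sylow p G) :
    Subgroup.center G ⊓ (S : Subgroup G) ≤ (P : Subgroup G) := by
  haveI : (Subgroup.center G ⊓ (S : Subgroup G)).Normal := ⟨fun n hn g => by
    have h1 : g * n * g⁻¹ = n := by
      have h := (Subgroup.mem_center_iff.mp hn.1) g
      rw [h]
      simp
    rw [h1]
    exact hn⟩
  exact (S.isPGroup'.to_le inf_le_right).le_sylow_of_normal P

/-- **Key lemma** (counting elements of `p'`-index modulo `p`). -/
theorem inf_centralizer_le_center (P : Sylow p G)
    (hE : Nat.card {x : G // ∃ S : Sylow p G, x ∈ Subgroup.centralizer (S : Set G)}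
      = Nat.card (Subgroup.center G ⊓ (P : Subgroup G) : Subgroup G) * (P : Subgroup G).index) :
    (P : Subgroup G) ⊓ Subgroup.centralizer (P : Set G) ≤ Subgroup.center G := by
  classical
  by_contra hnot
  haveI : Fintype G := Fintype.ofFinite G
  haveI : Fintype (Sylow p G) := Fintype.ofFinite _
  have hp : p.Prime := Fact.out
  set Zp : Subgroup G := Subgroup.center G ⊓ (P : Subgroup G) with hZp
  set z := Nat.card Zp with hz
  set m := (P : Subgroup G).index with hm
  have hzpos : 0 < z := Nat.card_pos
  let n : G → ℕ := fun x =>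
    (Finset.univ.filter (fun S : Sylow p G => x ∈ Subgroup.centralizer (S : Set G))).card
  let E : Finset G :=
    Finset.univ.filter (fun x => ∃ S : Sylow p G, x ∈ Subgroup.centralizer (S : Set G))
  have hEcard : E.card = z * m := by
    rw [← hE]
    exact (Nat.subtype_card _ (by simp [E])).symm
  -- `p * z` divides the order of every `C_G(S)`
  have h6 : ∀ S : Sylow p G, p * z ∣ Nat.card (Subgroup.centralizer (S : Set G)) := by
    intro S
    obtain ⟨g, rfl⟩ := MulAction.exists_smul_eq G P S
    rw [card_centralizer_smul]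
    have hle : Zp ≤ (P : Subgroup G) ⊓ Subgroup.centralizer (P : Set G) := by
      intro y hy
      exact ⟨hy.2, Subgroup.center_le_centralizer _ hy.1⟩
    have hd1 : Nat.card ((P : Subgroup G) ⊓ Subgroup.centralizer (P : Set G) : Subgroup G)
        ∣ Nat.card (Subgroup.centralizer (P : Set G)) :=
      Subgroup.card_dvd_of_le inf_le_right
    refine dvd_trans ?_ hd1
    have hd2 : z ∣ Nat.card ((P : Subgroup G) ⊓ Subgroup.centralizer (P : Set G) : Subgroup G) :=
      Subgroup.card_dvd_of_le hle
    obtain ⟨k, hk⟩ := hd2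
    have hpg : IsPGroup p ((P : Subgroup G) ⊓ Subgroup.centralizer (P : Set G) : Subgroup G) :=
      P.isPGroup'.to_le inf_le_left
    obtain ⟨j, hj⟩ := IsPGroup.iff_card.mp hpg
    have hkd : k ∣ p ^ j := by
      rw [← hj, hk]
      exact Dvd.intro_left _ rfl
    obtain ⟨i, hi, rfl⟩ := (Nat.dvd_prime_pow hp).mp hkd
    rcases Nat.eq_zero_or_pos i with h0 | hipos
    · exfalso
      subst h0
      rw [pow_zero, mul_one] at hk
      have h7 := Subgroup.eq_of_le_of_card_ge hle (by rw [hk])
      apply hnot
      rw [← h7]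
      exact inf_le_left
    · rw [hk]
      obtain ⟨i', rfl⟩ := Nat.exists_eq_succ_of_ne_zero hipos.ne'
      rw [pow_succ]
      exact ⟨p ^ i', by ring⟩
  -- double counting
  have h1 : ∑ x : G, n x = ∑ S : Sylow p G, Nat.card (Subgroup.centralizer (S : Set G)) := by
    simp only [n, Finset.card_filter]
    rw [Finset.sum_comm]
    apply Finset.sum_congr rfl
    intro S _
    rw [← Finset.card_filter]
    exact (Nat.subtype_card _ (by simp)).symm
  have hnE : ∀ x, x ∉ E → n x = 0 := by
    intro x hx
    simp only [n, Finset.card_eq_zero, Finset.filter_eq_empty_iff]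
    intro S _ hS
    exact hx (Finset.mem_filter.mpr ⟨Finset.mem_univ _, S, hS⟩)
  have h2 : ∑ x : G, n x = ∑ x ∈ E, n x := by
    symm
    apply Finset.sum_subset (Finset.subset_univ _)
    intro x _ hx
    exact hnE x hx
  have h3 : ∀ x ∈ E, n x = p * (n x / p) + 1 := by
    intro x hx
    obtain ⟨S₀, hS₀⟩ := (Finset.mem_filter.mp hx).2
    have hmod := card_sylCent_modEq_one x S₀ hS₀
    have hn : n x = Nat.card {S : Sylow p G // x ∈ Subgroup.centralizer (S : Set G)} :=
      (Nat.subtype_card _ (by simp)).symm
    rw [← hn] at hmod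
    have h8 : n x % p = 1 := by
      have h9 : n x % p = 1 % p := hmod
      rw [h9, Nat.mod_eq_of_lt hp.one_lt]
    have h10 := Nat.div_add_mod (n x) p
    rw [h8] at h10
    exact h10.symm
  have h4 : ∑ x ∈ E, n x = p * ∑ x ∈ E, (n x / p) + E.card := by
    calc ∑ x ∈ E, n x = ∑ x ∈ E, (p * (n x / p) + 1) := Finset.sum_congr rfl h3
      _ = p * ∑ x ∈ E, (n x / p) + E.card := by
        rw [Finset.sum_add_distrib, Finset.mul_sum]
        simp
  have h5 : z ∣ ∑ x ∈ E, (n x / p) := by
    apply card_dvd_sum_of_invariant Zp E (fun x => n x / p)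
    · intro x hx zz hzz
      obtain ⟨S, hS⟩ := (Finset.mem_filter.mp hx).2
      exact Finset.mem_filter.mpr ⟨Finset.mem_univ _, S,
        Subgroup.mul_mem _ hS (Subgroup.center_le_centralizer _ hzz.1)⟩
    · intro x hx zz hzz
      have : n (x * zz) = n x := by
        simp only [n]
        congr 1
        apply Finset.filter_congr
        intro S _
        exact Subgroup.mul_mem_cancel_right _ (Subgroup.center_le_centralizer _ hzz.1)
      show n (x * zz) / p = n x / p
      rw [this]
  obtain ⟨K', hK'⟩ := h5
  have htot : p * z ∣ ∑ S : Sylow p G, Nat.card (Subgroup.centralizer (S : Set G)) :=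
    Finset.dvd_sum (fun S _ => h6 S)
  rw [← h1, h2, h4, hK', hEcard] at htot
  have h11 : p * z ∣ p * (z * K') := ⟨K', by ring⟩
  have h12 : p * z ∣ z * m := (Nat.dvd_add_right h11).mp htot
  have h13 : p ∣ m := by
    rw [mul_comm p z] at h12
    exact Nat.dvd_of_mul_dvd_mul_left hzpos h12
  exact P.not_dvd_index h13

end Cfsg.Agent.Lib.Helper3.CHM
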