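import Mathlib
import Cfsg.Agent.Lib.Helper3.CHM2

set_option autoImplicit false
set_option maxHeartbeats 4000000
set_option maxRecDepth 100000
set_option linter.unusedVariables false
set_option linter.unusedSectionVars false
set_option linter.style.haveILetI false
set_option linter.deprecated false

/-!
# Cossey–Hawkes–Mann, part 3: the Sylow subgroup is normal
-/

namespace Cfsg.Agent.Lib.Helper3.CHM

open scoped Pointwise

variable {G : Type*} [Group G] [Finite G] {p : ℕ} [Fact p.Prime]

/-- A `p`-element centralizing a Sylow `p`-subgroup lies in it. -/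
theorem mem_sylow_of_mem_centralizer (S : Sylow p G) (y : G) (a : ℕ) (hy : y ^ (p ^ a) = 1)
    (hyc : y ∈ Subgroup.centralizer (S : Set G)) : y ∈ (S : Subgroup G) := by
  have hpz : IsPGroup p (Subgroup.zpowers y) := by
    have hd : orderOf y ∣ p ^ a := orderOf_dvd_of_pow_eq_one hy
    obtain ⟨i, _, hi⟩ := (Nat.dvd_prime_pow Fact.out).mp hd
    apply IsPGroup.of_card (n := i)
    rw [Nat.card_zpowers, hi]
  have hnorm : Subgroup.zpowers y ≤ Subgroup.normalizer ((S : Subgroup G) : Set G) := by
    rw [Subgroup.zpowers_le]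
    exact Subgroup.centralizer_le_normalizer _ hyc
  have hsup := hpz.to_sup_of_normal_right' S.isPGroup' hnorm
  have h1 := S.is_maximal' hsup le_sup_right
  have hy' : y ∈ Subgroup.zpowers y ⊔ (S : Subgroup G) :=
    Subgroup.mem_sup_left (Subgroup.mem_zpowers y)
  rw [h1] at hy'
  exact hy'

/-- **Normality of the Sylow subgroup** from the count of elements of `p'`-index. -/
theorem sylow_normal_of_count (P : Sylow p G)
    (hE : Nat.card {x : G // ∃ S : Sylow p G, x ∈ Subgroup.centralizer (S : Set G)}
      = Nat.card (Subgroup.center G ⊓ (P : Subgroup G) : Subgroup G) * (P : Subgroup G).index) :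
    (P : Subgroup G).Normal := by
  classical
  haveI : Fintype G := Fintype.ofFinite G
  have hp : p.Prime := Fact.out
  -- `Z(S) ≤ Z(G)` for every Sylow subgroup
  have hZall : ∀ S : Sylow p G,
      (S : Subgroup G) ⊓ Subgroup.centralizer (S : Set G) ≤ Subgroup.center G := by
    intro S
    apply inf_centralizer_le_center S
    rw [hE]
    have e1 : Subgroup.center G ⊓ (S : Subgroup G) = Subgroup.center G ⊓ (P : Subgroup G) :=
      le_antisymm (le_inf inf_le_left (center_inf_sylow_le P S))
        (le_inf inf_le_left (center_inf_sylow_le S P))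
    rw [e1]
    congr 1
    rw [Subgroup.index_eq_card, Subgroup.index_eq_card]
    have h1 := Subgroup.card_mul_index (P : Subgroup G)
    have h2 := Subgroup.card_mul_index (S : Subgroup G)
    have h3 : Nat.card (S : Subgroup G) = Nat.card (P : Subgroup G) := by
      rw [S.card_eq_multiplicity, P.card_eq_multiplicity]
    rw [← Subgroup.index_eq_card, ← Subgroup.index_eq_card]
    rw [h3, ← h1] at h2
    exact (Nat.eq_of_mul_eq_mul_left Nat.card_pos h2).symm
  set Zp : Subgroup G := Subgroup.center G ⊓ (P : Subgroup G) with hZp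
  set z := Nat.card Zp with hz
  set m := (P : Subgroup G).index with hm
  set A := Nat.card (P : Subgroup G) with hA
  have hzpos : 0 < z := Nat.card_pos
  have hApos : 0 < A := Nat.card_pos
  obtain ⟨a, ha⟩ : ∃ a, A = p ^ a := ⟨_, P.card_eq_multiplicity⟩
  have hAm : A * m = Nat.card G := Subgroup.card_mul_index _
  have hcop : A.Coprime m := P.card_coprime_index
  have hcardS : ∀ S : Sylow p G, Nat.card (S : Subgroup G) = A := by
    intro S
    rw [hA, S.card_eq_multiplicity, P.card_eq_multiplicity]
  -- CRT exponents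
  obtain ⟨t, ht0, ht1⟩ := Nat.chineseRemainder hcop 0 1
  obtain ⟨s, hs1, hs0⟩ := Nat.chineseRemainder hcop 1 0
  have hAt : A ∣ t := (Nat.modEq_zero_iff_dvd).mp ht0
  have hms : m ∣ s := (Nat.modEq_zero_iff_dvd).mp hs0
  have hpow_st : ∀ x : G, x ^ s * x ^ t = x := by
    intro x
    rw [← pow_add]
    have h1 : s + t ≡ 1 [MOD A] := by
      have := Nat.ModEq.add hs1 ht0
      simpa using this
    have h2 : s + t ≡ 1 [MOD m] := by
      have := Nat.ModEq.add hs0 ht1
      simpa using this
    have h3 : s + t ≡ 1 [MOD A * m] := (Nat.modEq_and_modEq_iff_modEq_mul hcop).mp ⟨h1, h2⟩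
    rw [hAm] at h3
    have h4 : s + t ≡ 1 [MOD orderOf x] := h3.of_dvd (orderOf_dvd_natCard x)
    have := (pow_eq_pow_iff_modEq).mpr h4
    rw [this, pow_one]
  have hpowsA : ∀ x : G, (x ^ s) ^ A = 1 := by
    intro x
    rw [← pow_mul]
    obtain ⟨c, rfl⟩ := hms
    have : m * c * A = Nat.card G * c := by rw [← hAm]; ring
    rw [this, pow_mul, pow_card_eq_one', one_pow]
  have hpowtm : ∀ x : G, (x ^ t) ^ m = 1 := by
    intro x
    rw [← pow_mul]
    obtain ⟨c, rfl⟩ := hAt
    have : A * c * m = Nat.card G * c := by rw [← hAm]; ring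
    rw [this, pow_mul, pow_card_eq_one', one_pow]
  -- the sets
  let E : Finset G :=
    Finset.univ.filter (fun x => ∃ S : Sylow p G, x ∈ Subgroup.centralizer (S : Set G))
  let V : Finset G :=
    Finset.univ.filter (fun v => v ^ m = 1 ∧ ∃ S : Sylow p G, v ∈ Subgroup.centralizer (S : Set G))
  let Zf : Finset G := Finset.univ.filter (fun y => y ∈ Zp)
  have hZf : Zf.card = z := (Nat.subtype_card _ (by simp [Zf])).symm
  have hEcard : E.card = z * m := by
    rw [← hE]
    exact (Nat.subtype_card _ (by simp [E])).symm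
  -- Step 1: `E` injects into `Zf × V`
  have hstep1 : E.card ≤ (Zf ×ˢ V).card := by
    apply Finset.card_le_card_of_injOn (fun x => (x ^ s, x ^ t))
    · intro x hx
      obtain ⟨S, hS⟩ := (Finset.mem_filter.mp hx).2
      have hsS : x ^ s ∈ Subgroup.centralizer (S : Set G) := Subgroup.pow_mem _ hS s
      have htS : x ^ t ∈ Subgroup.centralizer (S : Set G) := Subgroup.pow_mem _ hS t
      have h1 : x ^ s ∈ (S : Subgroup G) := by
        apply mem_sylow_of_mem_centralizer S (x ^ s) a _ hsS
        rw [← ha]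
        exact hpowsA x
      have h2 : x ^ s ∈ Subgroup.center G := hZall S ⟨h1, hsS⟩
      have h3 : x ^ s ∈ Zp := ⟨h2, center_inf_sylow_le P S ⟨h2, h1⟩⟩
      simp only [Finset.coe_product, Set.mem_prod, Finset.mem_coe]
      exact ⟨Finset.mem_filter.mpr ⟨Finset.mem_univ _, h3⟩,
        Finset.mem_filter.mpr ⟨Finset.mem_univ _, hpowtm x, S, htS⟩⟩
    · intro x _ y _ hxy
      have h1 : x ^ s = y ^ s := congrArg Prod.fst hxy
      have h2 : x ^ t = y ^ t := congrArg Prod.snd hxy
      rw [← hpow_st x, ← hpow_st y, h1, h2]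
  rw [Finset.card_product, hZf, hEcard] at hstep1
  have hVm : m ≤ V.card := Nat.le_of_mul_le_mul_left hstep1 hzpos
  -- Step 3: the injection `(v, u) ↦ u * v`
  let Wf : G → Finset G := fun v => Finset.univ.filter (fun u => u * v = v * u ∧ u ^ A = 1)
  let W : Finset (Σ _ : G, G) := V.sigma Wf
  have hWle : W.card ≤ Nat.card G := by
    rw [Nat.card_eq_fintype_card, ← Finset.card_univ]
    apply Finset.card_le_card_of_injOn (fun q => q.2 * q.1)
    · intro q _
      exact Finset.mem_coe.mpr (Finset.mem_univ _)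
    · intro q hq q' hq' hqq
      have hq1 := Finset.mem_sigma.mp (Finset.mem_coe.mp hq)
      have hq1' := Finset.mem_sigma.mp (Finset.mem_coe.mp hq')
      have hv := (Finset.mem_filter.mp hq1.1).2.1
      have hv' := (Finset.mem_filter.mp hq1'.1).2.1
      have hu := (Finset.mem_filter.mp hq1.2).2
      have hu' := (Finset.mem_filter.mp hq1'.2).2
      -- `(u * v)^t = v`
      have key : ∀ u v : G, u * v = v * u → u ^ A = 1 → v ^ m = 1 → (u * v) ^ t = v := by
        intro u v huv huA hvm
        rw [(show Commute u v from huv).mul_pow]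
        have h1 : u ^ t = 1 := by
          obtain ⟨c, rfl⟩ := hAt
          rw [pow_mul, huA, one_pow]
        have h2 : v ^ t = v := by
          have h3 : t ≡ 1 [MOD orderOf v] := ht1.of_dvd (orderOf_dvd_of_pow_eq_one hvm)
          have := (pow_eq_pow_iff_modEq).mpr h3
          rw [this, pow_one]
        rw [h1, h2, one_mul]
      have e1 := key q.2 q.1 hu.1 hu.2 hv
      have e2 := key q'.2 q'.1 hu'.1 hu'.2 hv'
      have hqq' : q.2 * q.1 = q'.2 * q'.1 := hqq
      have hv_eq : q.1 = q'.1 := by rw [← e1, ← e2, hqq']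
      have hu_eq : q.2 = q'.2 := by
        rw [hv_eq] at hqq'
        exact mul_right_cancel hqq'
      rcases q with ⟨v, u⟩
      rcases q' with ⟨v', u'⟩
      simp only at hv_eq hu_eq
      subst hv_eq
      subst hu_eq
      rfl
  have hWcard : W.card = ∑ v ∈ V, (Wf v).card := Finset.card_sigma _ _
  have hWf_ge : ∀ v ∈ V, A ≤ (Wf v).card := by
    intro v hv
    obtain ⟨S, hS⟩ := (Finset.mem_filter.mp hv).2.2
    have hsub : (Finset.univ.filter (fun u => u ∈ (S : Subgroup G))) ⊆ Wf v := by
      intro u hu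
      have huS := (Finset.mem_filter.mp hu).2
      refine Finset.mem_filter.mpr ⟨Finset.mem_univ _, ?_, ?_⟩
      · exact (Subgroup.mem_centralizer_iff.mp hS) u huS
      · have h1 : (⟨u, huS⟩ : (S : Subgroup G)) ^ Nat.card (S : Subgroup G) = 1 := pow_card_eq_one'
        rw [hcardS S] at h1
        exact congrArg Subtype.val h1
    have hc : (Finset.univ.filter (fun u => u ∈ (S : Subgroup G))).card = A := by
      rw [← hcardS S]
      exact (Nat.subtype_card _ (by simp)).symm
    rw [← hc]
    exact Finset.card_le_card hsub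
  -- all inequalities are equalities
  have hsum_ge : V.card * A ≤ ∑ v ∈ V, (Wf v).card := by
    rw [← smul_eq_mul, ← Finset.sum_const]
    exact Finset.sum_le_sum hWf_ge
  have hchain : ∑ v ∈ V, (Wf v).card ≤ m * A := by
    rw [← hWcard, mul_comm, hAm]
    exact hWle
  have hVeq : V.card = m := by
    apply le_antisymm _ hVm
    have : V.card * A ≤ m * A := le_trans hsum_ge hchain
    exact Nat.le_of_mul_le_mul_right this hApos
  have hsum_eq : ∑ v ∈ V, A = ∑ v ∈ V, (Wf v).card := by
    apply le_antisymm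
    · exact Finset.sum_le_sum hWf_ge
    · rw [Finset.sum_const, smul_eq_mul, hVeq]
      exact hchain
  have hall : ∀ v ∈ V, A = (Wf v).card := (Finset.sum_eq_sum_iff_of_le hWf_ge).mp hsum_eq
  -- `v = 1`
  have h1V : (1 : G) ∈ V := by
    refine Finset.mem_filter.mpr ⟨Finset.mem_univ _, one_pow _, P, Subgroup.one_mem _⟩
  have hW1 := hall 1 h1V
  -- `P = {u | u^A = 1}`
  have hPset : ∀ u : G, u ^ A = 1 → u ∈ (P : Subgroup G) := by
    intro u hu
    have hsub : (Finset.univ.filter (fun u => u ∈ (P : Subgroup G))) ⊆ Wf 1 := by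
      intro w hw
      have hwP := (Finset.mem_filter.mp hw).2
      refine Finset.mem_filter.mpr ⟨Finset.mem_univ _, by simp, ?_⟩
      have h1 : (⟨w, hwP⟩ : (P : Subgroup G)) ^ Nat.card (P : Subgroup G) = 1 := pow_card_eq_one'
      exact congrArg Subtype.val h1
    have hc : (Finset.univ.filter (fun u => u ∈ (P : Subgroup G))).card = A :=
      (Nat.subtype_card _ (by simp)).symm
    have heq := Finset.eq_of_subset_of_card_le hsub (by rw [hc, ← hW1])
    have : u ∈ Wf 1 := Finset.mem_filter.mpr ⟨Finset.mem_univ _, by simp, hu⟩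
    rw [← heq] at this
    exact (Finset.mem_filter.mp this).2
  refine ⟨fun u hu g => hPset _ ?_⟩
  rw [conj_pow]
  have h1 : (⟨u, hu⟩ : (P : Subgroup G)) ^ Nat.card (P : Subgroup G) = 1 := pow_card_eq_one'
  have h2 : u ^ A = 1 := congrArg Subtype.val h1
  rw [h2]
  simp

end Cfsg.Agent.Lib.Helper3.CHM
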