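import Mathlib
import Cfsg.Agent.Lib.Helper3.CHM3

set_option autoImplicit false
set_option maxHeartbeats 4000000
set_option maxRecDepth 100000
set_option linter.unusedVariables false
set_option linter.unusedSectionVars false
set_option linter.style.haveILetI false
set_option linter.deprecated false

/-!
# Cossey–Hawkes–Mann, part 4: a group with the class-size multiset of a nilpotent group is nilpotent
-/

namespace Cfsg.Agent.Lib.Helper3.CHM

open scoped Pointwise

section general

variable {G : Type*} [Group G]

theorem card_carrier_eq_index' (g : G) :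
    Nat.card (ConjClasses.mk g).carrier = (Subgroup.centralizer ({g} : Set G)).index := by
  rw [← ConjAct.orbit_eq_carrier_conjClasses, Nat.card_coe_set_eq, ← MulAction.index_stabilizer,
    ConjAct.stabilizer_eq_centralizer]
  rfl

variable [Finite G]

/-- The number of elements whose class size satisfies `φ`, in terms of the class-size multiset. -/
theorem card_class_size_pred (φ : ℕ → Prop) [DecidablePred φ] (N : ℕ) (hN : Nat.card G ≤ N) :
    Nat.card {x : G // φ (Nat.card (ConjClasses.mk x).carrier)}
      = ∑ k ∈ Finset.range (N + 1),
          Nat.card {C : ConjClasses G // Nat.card C.carrier = k} * (if φ k then k else 0) := by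
  classical
  haveI : Fintype G := Fintype.ofFinite G
  haveI : Fintype (ConjClasses G) := Fintype.ofFinite _
  have h1 : Nat.card {x : G // φ (Nat.card (ConjClasses.mk x).carrier)}
      = ∑ x : G, (if φ (Nat.card (ConjClasses.mk x).carrier) then 1 else 0) := by
    rw [Nat.subtype_card (Finset.univ.filter
      (fun x : G => φ (Nat.card (ConjClasses.mk x).carrier))) (by simp), Finset.card_filter]
  have h2 : ∑ x : G, (if φ (Nat.card (ConjClasses.mk x).carrier) then 1 else 0)
      = ∑ C : ConjClasses G, (if φ (Nat.card C.carrier) then Nat.card C.carrier else 0) := by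
    rw [← Finset.sum_fiberwise Finset.univ (fun x : G => ConjClasses.mk x)
      (fun x => (if φ (Nat.card (ConjClasses.mk x).carrier) then 1 else 0))]
    apply Finset.sum_congr rfl
    intro C _
    have h3 : ∀ x ∈ Finset.univ.filter (fun x : G => ConjClasses.mk x = C),
        (if φ (Nat.card (ConjClasses.mk x).carrier) then 1 else 0)
          = (if φ (Nat.card C.carrier) then 1 else 0) := by
      intro x hx
      rw [(Finset.mem_filter.mp hx).2]
    rw [Finset.sum_congr rfl h3, Finset.sum_const, smul_eq_mul]
    have h4 : (Finset.univ.filter (fun x : G => ConjClasses.mk x = C)).card = Nat.card C.carrier := by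
      symm
      apply Nat.subtype_card
      intro x
      simp [ConjClasses.mem_carrier_iff_mk_eq]
    rw [h4]
    split_ifs <;> simp
  have h5 : ∑ C : ConjClasses G, (if φ (Nat.card C.carrier) then Nat.card C.carrier else 0)
      = ∑ k ∈ Finset.range (N + 1),
          Nat.card {C : ConjClasses G // Nat.card C.carrier = k} * (if φ k then k else 0) := by
    rw [← Finset.sum_fiberwise_of_maps_to (s := Finset.univ) (t := Finset.range (N + 1))
      (g := fun C : ConjClasses G => Nat.card C.carrier)]
    · apply Finset.sum_congr rfl
      intro k _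
      have h6 : ∀ C ∈ Finset.univ.filter (fun C : ConjClasses G => Nat.card C.carrier = k),
          (if φ (Nat.card C.carrier) then Nat.card C.carrier else 0) = (if φ k then k else 0) := by
        intro C hC
        rw [(Finset.mem_filter.mp hC).2]
      rw [Finset.sum_congr rfl h6, Finset.sum_const, smul_eq_mul]
      congr 1
      symm
      apply Nat.subtype_card
      intro C
      simp
    · intro C _
      rw [Finset.mem_range]
      have : Nat.card C.carrier ≤ Nat.card G := Finite.card_subtype_le _
      omega
  rw [h1, h2, h5]

end general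

/-- Equal class-size multisets give equal counts of elements with class size satisfying `φ`. -/
theorem card_class_size_pred_eq {G H : Type*} [Group G] [Finite G] [Group H] [Finite H]
    (h : ∀ k : ℕ, Nat.card {C : ConjClasses G // Nat.card C.carrier = k}
      = Nat.card {C : ConjClasses H // Nat.card C.carrier = k})
    (φ : ℕ → Prop) :
    Nat.card {x : G // φ (Nat.card (ConjClasses.mk x).carrier)}
      = Nat.card {x : H // φ (Nat.card (ConjClasses.mk x).carrier)} := by
  classical
  rw [card_class_size_pred φ (Nat.card G + Nat.card H) (Nat.le_add_right _ _),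
    card_class_size_pred φ (Nat.card G + Nat.card H) (Nat.le_add_left _ _)]
  apply Finset.sum_congr rfl
  intro k _
  rw [h k]

section sylow

variable {G : Type*} [Group G] [Finite G] {p : ℕ} [Fact p.Prime]

/-- An element centralizes a Sylow `p`-subgroup iff its class size is prime to `p`. -/
theorem exists_sylow_centralizer_iff (x : G) :
    (∃ S : Sylow p G, x ∈ Subgroup.centralizer (S : Set G))
      ↔ ¬ p ∣ Nat.card (ConjClasses.mk x).carrier := by
  have hp : p.Prime := Fact.out
  rw [card_carrier_eq_index']
  set C := Subgroup.centralizer ({x} : Set G) with hC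
  constructor
  · rintro ⟨S, hS⟩ hdvd
    have hle : (S : Subgroup G) ≤ C := by
      intro s hs
      rw [hC, Subgroup.mem_centralizer_singleton_iff]
      exact (Subgroup.mem_centralizer_iff.mp hS) s hs
    exact S.not_dvd_index (dvd_trans hdvd (Subgroup.index_dvd_of_le hle))
  · intro hnd
    obtain R : Sylow p ↥C := default
    set Q₀ : Subgroup G := (R : Subgroup ↥C).map C.subtype with hQ₀
    have hfac : (Nat.card G).factorization p = (Nat.card C).factorization p := by
      rw [← Subgroup.card_mul_index C,
        Nat.factorization_mul Nat.card_pos.ne' (Subgroup.index_ne_zero_of_finite)]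
      simp [Nat.factorization_eq_zero_of_not_dvd hnd]
    have hcard : Nat.card Q₀ = p ^ (Nat.card G).factorization p := by
      rw [hQ₀, Subgroup.card_map_of_injective C.subtype_injective, hfac]
      exact R.card_eq_multiplicity
    refine ⟨Sylow.ofCard Q₀ hcard, ?_⟩
    rw [Subgroup.mem_centralizer_iff]
    intro h hh
    have hh' : h ∈ Q₀ := hh
    have hhC : h ∈ C := by
      rw [hQ₀] at hh'
      exact (Subgroup.map_subtype_le _) hh'
    rw [hC, Subgroup.mem_centralizer_singleton_iff] at hhC
    exact hhC

/-- `|Z(G) ∩ P|` is the `p`-part of `|Z(G)|`. -/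
theorem card_center_inf_sylow (P : Sylow p G) :
    Nat.card (Subgroup.center G ⊓ (P : Subgroup G) : Subgroup G)
      = p ^ (Nat.card (Subgroup.center G)).factorization p := by
  have hp : p.Prime := Fact.out
  obtain R : Sylow p ↥(Subgroup.center G) := default
  set R' : Subgroup G := (R : Subgroup ↥(Subgroup.center G)).map (Subgroup.center G).subtype
    with hR'
  have hR'card : Nat.card R' = p ^ (Nat.card (Subgroup.center G)).factorization p := by
    rw [hR', Subgroup.card_map_of_injective (Subgroup.center G).subtype_injective]
    exact R.card_eq_multiplicity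
  have hR'le : R' ≤ Subgroup.center G := by
    rw [hR']
    exact Subgroup.map_subtype_le _
  haveI : R'.Normal := ⟨fun n hn g => by
    have h1 : g * n * g⁻¹ = n := by
      have h := (Subgroup.mem_center_iff.mp (hR'le hn)) g
      rw [h]
      simp
    rw [h1]
    exact hn⟩
  have hR'p : IsPGroup p R' := IsPGroup.of_card hR'card
  have hR'P : R' ≤ (P : Subgroup G) := hR'p.le_sylow_of_normal P
  have hle : R' ≤ Subgroup.center G ⊓ (P : Subgroup G) := le_inf hR'le hR'P
  have hd1 : p ^ (Nat.card (Subgroup.center G)).factorization p
      ∣ Nat.card (Subgroup.center G ⊓ (P : Subgroup G) : Subgroup G) := by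
    rw [← hR'card]
    exact Subgroup.card_dvd_of_le hle
  have hpg : IsPGroup p (Subgroup.center G ⊓ (P : Subgroup G) : Subgroup G) :=
    P.isPGroup'.to_le inf_le_right
  obtain ⟨i, hi⟩ := IsPGroup.iff_card.mp hpg
  have hd2 : Nat.card (Subgroup.center G ⊓ (P : Subgroup G) : Subgroup G)
      ∣ Nat.card (Subgroup.center G) := Subgroup.card_dvd_of_le inf_le_left
  rw [hi] at hd2 hd1 ⊢
  have hile : i ≤ (Nat.card (Subgroup.center G)).factorization p :=
    (hp.pow_dvd_iff_le_factorization Nat.card_pos.ne').mp hd2
  exact Nat.dvd_antisymm (pow_dvd_pow p hile) hd1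

end sylow

theorem card_class_size_one {K : Type*} [Group K] [Finite K] :
    Nat.card {x : K // Nat.card (ConjClasses.mk x).carrier = 1}
      = Nat.card (Subgroup.center K) := by
  apply Nat.card_congr
  apply Equiv.subtypeEquivRight
  intro x
  rw [card_carrier_eq_index', Subgroup.index_eq_one,
    Subgroup.centralizer_eq_top_iff_subset, Set.singleton_subset_iff]
  rfl

/-- In a finite nilpotent group the number of elements of `p'`-index is `|Z(H) ∩ P| [H : P]`. -/
theorem count_of_nilpotent {H : Type*} [Group H] [Finite H] [hH : Group.IsNilpotent H]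
    {p : ℕ} [Fact p.Prime] (P : Sylow p H) :
    Nat.card {x : H // ∃ S : Sylow p H, x ∈ Subgroup.centralizer (S : Set H)}
      = Nat.card (Subgroup.center H ⊓ (P : Subgroup H) : Subgroup H) * (P : Subgroup H).index := by
  classical
  haveI hPn : (P : Subgroup H).Normal := inferInstance
  have huniq : ∀ S : Sylow p H, S = P := by
    intro S
    obtain ⟨g, rfl⟩ := MulAction.exists_smul_eq H P S
    exact Sylow.smul_eq_of_normal
  have h1 : Nat.card {x : H // ∃ S : Sylow p H, x ∈ Subgroup.centralizer (S : Set H)}
      = Nat.card (Subgroup.centralizer ((P : Subgroup H) : Set H)) := by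
    apply Nat.card_congr
    apply Equiv.subtypeEquivRight
    intro x
    constructor
    · rintro ⟨S, hS⟩
      rw [huniq S] at hS
      exact hS
    · intro hx
      exact ⟨P, hx⟩
  rw [h1]
  set C := Subgroup.centralizer ((P : Subgroup H) : Set H) with hC
  have htop : C ⊔ (P : Subgroup H) = ⊤ := by
    rw [← Subgroup.index_eq_one]
    by_contra hne
    obtain ⟨q, hq, hqd⟩ := Nat.exists_prime_and_dvd hne
    haveI : Fact q.Prime := ⟨hq⟩
    obtain Q : Sylow q H := default
    have hQle : (Q : Subgroup H) ≤ C ⊔ (P : Subgroup H) := by
      rcases eq_or_ne q p with hqp | hqp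
      · subst hqp
        rw [huniq Q]
        exact le_sup_right
      · refine le_trans ?_ le_sup_left
        intro y hy
        rw [hC, Subgroup.mem_centralizer_iff]
        intro u hu
        haveI hQn : (Q : Subgroup H).Normal := inferInstance
        have hdis : Disjoint (P : Subgroup H) (Q : Subgroup H) :=
          IsPGroup.disjoint_of_ne p q (fun h => hqp h.symm) _ _ P.isPGroup' Q.isPGroup'
        exact (Subgroup.commute_of_normal_of_disjoint _ _ hPn hQn hdis u y hu hy).eq
    have hd := Subgroup.index_dvd_of_le hQle
    exact Q.not_dvd_index (dvd_trans hqd hd)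
  have hrel : (P : Subgroup H).relIndex C = (P : Subgroup H).index := by
    rw [← Subgroup.relIndex_sup_right (H := C) (K := (P : Subgroup H)), htop,
      Subgroup.relIndex_top_right]
  have hcardC : Nat.card C = Nat.card ((P : Subgroup H) ⊓ C : Subgroup H) * (P : Subgroup H).index := by
    rw [← hrel, Subgroup.relIndex, ← Subgroup.card_mul_index ((P : Subgroup H).subgroupOf C)]
    congr 1
    rw [← Subgroup.inf_subgroupOf_right]
    exact Nat.card_congr (Subgroup.subgroupOfEquivOfLe inf_le_right).toEquiv
  have hinf : (P : Subgroup H) ⊓ C = Subgroup.center H ⊓ (P : Subgroup H) := by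
    apply le_antisymm
    · intro y hy
      have hyP : y ∈ (P : Subgroup H) := (Subgroup.mem_inf.mp hy).1
      have hyC : y ∈ C := (Subgroup.mem_inf.mp hy).2
      refine Subgroup.mem_inf.mpr ⟨?_, hyP⟩
      have hle : C ⊔ (P : Subgroup H) ≤ Subgroup.centralizer ({y} : Set H) := by
        apply sup_le
        · intro c hc
          rw [Subgroup.mem_centralizer_singleton_iff]
          rw [hC, Subgroup.mem_centralizer_iff] at hc
          exact (hc y hyP).symm
        · intro u hu
          rw [Subgroup.mem_centralizer_singleton_iff]
          have h8 := hyC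
          rw [hC, Subgroup.mem_centralizer_iff] at h8
          exact h8 u hu
      rw [htop] at hle
      rw [Subgroup.mem_center_iff]
      intro g
      have := hle (Subgroup.mem_top g)
      rw [Subgroup.mem_centralizer_singleton_iff] at this
      exact this
    · intro y hy
      exact Subgroup.mem_inf.mpr ⟨(Subgroup.mem_inf.mp hy).2,
        Subgroup.center_le_centralizer _ (Subgroup.mem_inf.mp hy).1⟩
  rw [hcardC, hinf]

/-- **Cossey–Hawkes–Mann**: a finite group with the same multiset of conjugacy class sizes as a
nilpotent group is nilpotent. -/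
theorem nilpotent_of_same_class_sizes {G H : Type*} [Group G] [Finite G] [Group H] [Finite H]
    (hH : Group.IsNilpotent H)
    (h : ∀ k : ℕ, Nat.card {C : ConjClasses G // Nat.card C.carrier = k}
      = Nat.card {C : ConjClasses H // Nat.card C.carrier = k}) :
    Group.IsNilpotent G := by
  classical
  -- equal orders
  have hcard : Nat.card G = Nat.card H := by
    have := card_class_size_pred_eq h (fun _ => True)
    rw [Nat.card_congr (Equiv.subtypeUnivEquiv (fun x => trivial)),
      Nat.card_congr (Equiv.subtypeUnivEquiv (fun x => trivial))] at this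
    exact this
  -- equal centre orders
  have hcen : Nat.card (Subgroup.center G) = Nat.card (Subgroup.center H) := by
    have := card_class_size_pred_eq h (fun k => k = 1)
    rw [card_class_size_one, card_class_size_one] at this
    exact this
  refine ((Group.isNilpotent_of_finite_tfae (G := G)).out 0 3).mpr ?_
  intro p hp P
  haveI := hp
  obtain PH : Sylow p H := default
  apply sylow_normal_of_count P
  have e1 : Nat.card {x : G // ∃ S : Sylow p G, x ∈ Subgroup.centralizer (S : Set G)}
      = Nat.card {x : G // ¬ p ∣ Nat.card (ConjClasses.mk x).carrier} :=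
    Nat.card_congr (Equiv.subtypeEquivRight (fun x => exists_sylow_centralizer_iff x))
  have e2 : Nat.card {x : H // ∃ S : Sylow p H, x ∈ Subgroup.centralizer (S : Set H)}
      = Nat.card {x : H // ¬ p ∣ Nat.card (ConjClasses.mk x).carrier} :=
    Nat.card_congr (Equiv.subtypeEquivRight (fun x => exists_sylow_centralizer_iff x))
  rw [e1, card_class_size_pred_eq h (fun k => ¬ p ∣ k), ← e2, count_of_nilpotent PH,
    card_center_inf_sylow, card_center_inf_sylow, hcen]
  congr 1
  have h1 := Subgroup.card_mul_index (P : Subgroup G)
  have h2 := Subgroup.card_mul_index (PH : Subgroup H)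
  rw [P.card_eq_multiplicity] at h1
  rw [PH.card_eq_multiplicity, ← hcard] at h2
  exact Nat.eq_of_mul_eq_mul_left (pow_pos (Fact.out : p.Prime).pos _) (h2.trans h1.symm)

end Cfsg.Agent.Lib.Helper3.CHM
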