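import Mathlib
import Cfsg.Agent.Lib.Helper3.PU2770c
import Cfsg.Agent.Lib.Helper3.PU2769b

/-!
# S2990 unit U4 (CLR): the counting lemma `(Q ∩ O) W` is centraliser-large and self-centralising in `S`
-/

set_option autoImplicit false

namespace Cfsg.Agent.Lib.Helper3.PU2990

variable {G : Type*} [Group G]

/-- elementwise commuting from `≤ centralizer` -/
theorem comm_of_le_centralizer (H K : Subgroup G) (h : H ≤ Subgroup.centralizer (K : Set G)) :
    ∀ a ∈ H, ∀ b ∈ K, a * b = b * a := by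
  intro a ha b hb
  exact (Subgroup.mem_centralizer_iff.1 (h ha) b hb).symm

/-- `H₁ ⊔ H₂ ≤ C(K₁ ⊔ K₂)` from the four pairwise conditions -/
theorem sup_le_centralizer_sup (H₁ H₂ K₁ K₂ : Subgroup G)
    (h11 : H₁ ≤ Subgroup.centralizer (K₁ : Set G)) (h12 : H₁ ≤ Subgroup.centralizer (K₂ : Set G))
    (h21 : H₂ ≤ Subgroup.centralizer (K₁ : Set G)) (h22 : H₂ ≤ Subgroup.centralizer (K₂ : Set G)) :
    H₁ ⊔ H₂ ≤ Subgroup.centralizer ((K₁ ⊔ K₂ : Subgroup G) : Set G) := by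
  have hc : ∀ H : Subgroup G, H ≤ Subgroup.centralizer (K₁ : Set G) →
      H ≤ Subgroup.centralizer (K₂ : Set G) →
      H ≤ Subgroup.centralizer ((K₁ ⊔ K₂ : Subgroup G) : Set G) := by
    intro H h1 h2
    rw [Subgroup.le_centralizer_iff]
    rw [Subgroup.le_centralizer_iff] at h1 h2
    exact sup_le h1 h2
  exact sup_le (hc H₁ h11 h12) (hc H₂ h21 h22)

/-- (CLR) the counting lemma -/
theorem clr [Finite G] (S O W Q : Subgroup G) (hOS : O ≤ S) (hWO : W ≤ O)
    (hWc : W ≤ Subgroup.centralizer (O : Set G)) (hQS : Q ≤ S)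
    (hk1 : Nat.card Q * Nat.card (W ⊓ Subgroup.centralizer (Q : Set G) : Subgroup G) ≤
      Nat.card (Q ⊓ O : Subgroup G) * Nat.card W)
    (hk2 : Nat.card (Q ⊓ Subgroup.centralizer (Q : Set G) : Subgroup G) *
        Nat.card (W ⊓ Subgroup.centralizer
          ((Q ⊓ Subgroup.centralizer (Q : Set G) : Subgroup G) : Set G) : Subgroup G) ≤
      Nat.card ((Q ⊓ Subgroup.centralizer (Q : Set G)) ⊓ O : Subgroup G) * Nat.card W)
    (hmax : ∀ X : Subgroup G, X ≤ S →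
      Nat.card X * Nat.card (S ⊓ Subgroup.centralizer (X : Set G) : Subgroup G) ≤
        Nat.card Q * Nat.card (Q ⊓ Subgroup.centralizer (Q : Set G) : Subgroup G)) :
    (Q ⊓ O) ⊔ W ≤ O ∧
    Nat.card ((Q ⊓ O) ⊔ W : Subgroup G) *
        Nat.card (S ⊓ Subgroup.centralizer (((Q ⊓ O) ⊔ W : Subgroup G) : Set G) : Subgroup G) =
      Nat.card Q * Nat.card (Q ⊓ Subgroup.centralizer (Q : Set G) : Subgroup G) ∧
    S ⊓ Subgroup.centralizer (((Q ⊓ O) ⊔ W : Subgroup G) : Set G) ≤ (Q ⊓ O) ⊔ W := by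
  -- abbreviations
  obtain ⟨Z, hZ⟩ : ∃ Z : Subgroup G, Z = Q ⊓ Subgroup.centralizer (Q : Set G) := ⟨_, rfl⟩
  rw [← hZ] at hk2 hmax ⊢
  obtain ⟨R, hR⟩ : ∃ R : Subgroup G, R = (Q ⊓ O) ⊔ W := ⟨_, rfl⟩
  obtain ⟨C', hC'⟩ : ∃ C' : Subgroup G, C' = (Z ⊓ O) ⊔ W := ⟨_, rfl⟩
  rw [← hR]
  have hZQ : Z ≤ Q := by rw [hZ]; exact inf_le_left
  have hZc : Z ≤ Subgroup.centralizer (Q : Set G) := by rw [hZ]; exact inf_le_right
  have hWS : W ≤ S := hWO.trans hOS
  have hRO : R ≤ O := by rw [hR]; exact sup_le inf_le_right hWO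
  have hRS : R ≤ S := hRO.trans hOS
  have hOW : O ≤ Subgroup.centralizer (W : Set G) := by
    rw [Subgroup.le_centralizer_iff]; exact hWc
  -- `C' ≤ C_S(R)`
  have hC'S : C' ≤ S := by
    rw [hC']; exact sup_le (inf_le_right.trans hOS) hWS
  have hC'c : C' ≤ Subgroup.centralizer (R : Set G) := by
    rw [hC', hR]
    apply sup_le_centralizer_sup
    · exact inf_le_left.trans (hZc.trans (Subgroup.centralizer_le (by
        exact_mod_cast (inf_le_left : Q ⊓ O ≤ Q))))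
    · exact inf_le_right.trans hOW
    · exact hWc.trans (Subgroup.centralizer_le (by exact_mod_cast (inf_le_right : Q ⊓ O ≤ O)))
    · exact hWO.trans hOW
  have hC'le : C' ≤ S ⊓ Subgroup.centralizer (R : Set G) := le_inf hC'S hC'c
  have hC'R : C' ≤ R := by
    rw [hC', hR]; exact sup_le_sup_right (inf_le_inf_right O hZQ) W
  -- the two product estimates
  have e1 := Cfsg.Agent.Lib.Helper3.PU2770.card_mul_card_le_sup_inf (Q ⊓ O) W
  have e2 := Cfsg.Agent.Lib.Helper3.PU2770.card_mul_card_le_sup_inf (Z ⊓ O) W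
  have i1 : (Q ⊓ O) ⊓ W = Q ⊓ W := by rw [inf_assoc, inf_eq_right.2 hWO]
  have i2 : (Z ⊓ O) ⊓ W = Z ⊓ W := by rw [inf_assoc, inf_eq_right.2 hWO]
  rw [i1, ← hR] at e1
  rw [i2, ← hC'] at e2
  -- `Z ∩ W ≤ C_W(Q)` and `Q ∩ W ≤ C_W(Z)`
  have j1 : Nat.card (Z ⊓ W : Subgroup G) ≤
      Nat.card (W ⊓ Subgroup.centralizer (Q : Set G) : Subgroup G) :=
    Subgroup.card_le_of_le (le_inf inf_le_right (inf_le_left.trans hZc))
  have j2 : Nat.card (Q ⊓ W : Subgroup G) ≤
      Nat.card (W ⊓ Subgroup.centralizer (Z : Set G) : Subgroup G) := by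
    apply Subgroup.card_le_of_le
    refine le_inf inf_le_right (inf_le_left.trans ?_)
    rw [Subgroup.le_centralizer_iff]; exact hZc
  -- names for the cardinalities
  have pQW : 0 < Nat.card (Q ⊓ W : Subgroup G) := Nat.card_pos
  have pZW : 0 < Nat.card (Z ⊓ W : Subgroup G) := Nat.card_pos
  -- `|Q| |Z ∩ W| ≤ |R| |Q ∩ W|`
  have f1 : Nat.card Q * Nat.card (Z ⊓ W : Subgroup G) ≤
      Nat.card R * Nat.card (Q ⊓ W : Subgroup G) :=
    (Nat.mul_le_mul_left _ j1).trans (hk1.trans e1)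
  have f2 : Nat.card Z * Nat.card (Q ⊓ W : Subgroup G) ≤
      Nat.card C' * Nat.card (Z ⊓ W : Subgroup G) :=
    (Nat.mul_le_mul_left _ j2).trans (hk2.trans e2)
  have f3 : Nat.card Q * Nat.card Z ≤ Nat.card R * Nat.card C' := by
    have h := Nat.mul_le_mul f1 f2
    have h' : (Nat.card Q * Nat.card Z) *
        (Nat.card (Z ⊓ W : Subgroup G) * Nat.card (Q ⊓ W : Subgroup G)) ≤
        (Nat.card R * Nat.card C') *
        (Nat.card (Z ⊓ W : Subgroup G) * Nat.card (Q ⊓ W : Subgroup G)) := by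
      calc (Nat.card Q * Nat.card Z) *
            (Nat.card (Z ⊓ W : Subgroup G) * Nat.card (Q ⊓ W : Subgroup G))
          = Nat.card Q * Nat.card (Z ⊓ W : Subgroup G) *
            (Nat.card Z * Nat.card (Q ⊓ W : Subgroup G)) := by ring
        _ ≤ Nat.card R * Nat.card (Q ⊓ W : Subgroup G) *
            (Nat.card C' * Nat.card (Z ⊓ W : Subgroup G)) := h
        _ = _ := by ring
    exact Nat.le_of_mul_le_mul_right h' (Nat.mul_pos pZW pQW)
  have f4 : Nat.card C' ≤ Nat.card (S ⊓ Subgroup.centralizer (R : Set G) : Subgroup G) :=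
    Subgroup.card_le_of_le hC'le
  have f5 := hmax R hRS
  have pR : 0 < Nat.card R := Nat.card_pos
  have f6 : Nat.card R * Nat.card C' ≤
      Nat.card R * Nat.card (S ⊓ Subgroup.centralizer (R : Set G) : Subgroup G) :=
    Nat.mul_le_mul_left _ f4
  have f7 : Nat.card R * Nat.card (S ⊓ Subgroup.centralizer (R : Set G) : Subgroup G) =
      Nat.card Q * Nat.card Z := le_antisymm f5 (f3.trans f6)
  have f8 : Nat.card (S ⊓ Subgroup.centralizer (R : Set G) : Subgroup G) ≤ Nat.card C' := by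
    have : Nat.card R * Nat.card (S ⊓ Subgroup.centralizer (R : Set G) : Subgroup G) ≤
        Nat.card R * Nat.card C' := by rw [f7]; exact f3
    exact Nat.le_of_mul_le_mul_left this pR
  have f9 : C' = S ⊓ Subgroup.centralizer (R : Set G) :=
    Subgroup.eq_of_le_of_card_ge hC'le f8
  refine ⟨hRO, f7, ?_⟩
  rw [← f9]; exact hC'R

end Cfsg.Agent.Lib.Helper3.PU2990
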