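import Mathlib
import Cfsg.Agent.Lib.Helper3.PU2770c
import Cfsg.Agent.Lib.Helper3.PU2990a

/-!
# S2989 unit U11: (CLR) with all the equalities of the counting chain
-/

set_option autoImplicit false

namespace Cfsg.Agent.Lib.Helper3.PU2990

variable {G : Type*} [Group G]

/-- two chains of naturals with equal end products are constant -/
theorem chain_eq_of_mul_eq {a b c d a' b' c' d' : ℕ} (hab : a ≤ b) (hbc : b ≤ c) (hcd : c ≤ d)
    (hab' : a' ≤ b') (hbc' : b' ≤ c') (hcd' : c' ≤ d') (ha : 0 < a) (ha' : 0 < a')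
    (h : d * d' ≤ a * a') :
    (a = b ∧ b = c ∧ c = d) ∧ (a' = b' ∧ b' = c' ∧ c' = d') := by
  have had : a ≤ d := hab.trans (hbc.trans hcd)
  have had' : a' ≤ d' := hab'.trans (hbc'.trans hcd')
  have h1 : a = d := by
    by_contra hne
    have hlt : a < d := lt_of_le_of_ne had hne
    have : a * a' < d * d' := by
      calc a * a' < d * a' := Nat.mul_lt_mul_of_pos_right hlt ha'
        _ ≤ d * d' := Nat.mul_le_mul_left _ had'
    omega
  have h2 : a' = d' := by
    by_contra hne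
    have hlt : a' < d' := lt_of_le_of_ne had' hne
    have : a * a' < d * d' := by
      calc a * a' < a * d' := Nat.mul_lt_mul_of_pos_left hlt ha
        _ ≤ d * d' := Nat.mul_le_mul_right _ had
    omega
  refine ⟨⟨?_, ?_, ?_⟩, ⟨?_, ?_, ?_⟩⟩ <;> omega

/-- (CLR) with equalities -/
theorem clr_eq [Finite G] (S O V Q : Subgroup G) (hOS : O ≤ S) (hVO : V ≤ O)
    (hVc : V ≤ Subgroup.centralizer (O : Set G)) (hQS : Q ≤ S)
    (hk1 : Nat.card Q * Nat.card (V ⊓ Subgroup.centralizer (Q : Set G) : Subgroup G) ≤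
      Nat.card (Q ⊓ O : Subgroup G) * Nat.card V)
    (hk2 : Nat.card (Q ⊓ Subgroup.centralizer (Q : Set G) : Subgroup G) *
        Nat.card (V ⊓ Subgroup.centralizer
          ((Q ⊓ Subgroup.centralizer (Q : Set G) : Subgroup G) : Set G) : Subgroup G) ≤
      Nat.card ((Q ⊓ Subgroup.centralizer (Q : Set G)) ⊓ O : Subgroup G) * Nat.card V)
    (hmax : ∀ X : Subgroup G, X ≤ S →
      Nat.card X * Nat.card (S ⊓ Subgroup.centralizer (X : Set G) : Subgroup G) ≤
        Nat.card Q * Nat.card (Q ⊓ Subgroup.centralizer (Q : Set G) : Subgroup G)) :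
    -- (e1)
    Nat.card Q * Nat.card (V ⊓ Subgroup.centralizer (Q : Set G) : Subgroup G) =
      Nat.card (Q ⊓ O : Subgroup G) * Nat.card V ∧
    -- (e2)
    Nat.card (Q ⊓ Subgroup.centralizer (Q : Set G) : Subgroup G) *
        Nat.card (V ⊓ Subgroup.centralizer
          ((Q ⊓ Subgroup.centralizer (Q : Set G) : Subgroup G) : Set G) : Subgroup G) =
      Nat.card ((Q ⊓ Subgroup.centralizer (Q : Set G)) ⊓ O : Subgroup G) * Nat.card V ∧
    -- (e3)
    V ⊓ Subgroup.centralizer (Q : Set G) = (Q ⊓ Subgroup.centralizer (Q : Set G)) ⊓ V ∧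
    -- (e4)
    V ⊓ Subgroup.centralizer ((Q ⊓ Subgroup.centralizer (Q : Set G) : Subgroup G) : Set G) =
      Q ⊓ V ∧
    -- `C_S(R)`
    S ⊓ Subgroup.centralizer (((Q ⊓ O) ⊔ V : Subgroup G) : Set G) =
      ((Q ⊓ Subgroup.centralizer (Q : Set G)) ⊓ O) ⊔ V ∧
    -- the order of `R`
    Nat.card ((Q ⊓ O) ⊔ V : Subgroup G) * Nat.card (Q ⊓ V : Subgroup G) =
      Nat.card (Q ⊓ O : Subgroup G) * Nat.card V ∧
    -- the order of `C_S(R)`
    Nat.card (((Q ⊓ Subgroup.centralizer (Q : Set G)) ⊓ O) ⊔ V : Subgroup G) *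
        Nat.card ((Q ⊓ Subgroup.centralizer (Q : Set G)) ⊓ V : Subgroup G) =
      Nat.card ((Q ⊓ Subgroup.centralizer (Q : Set G)) ⊓ O : Subgroup G) * Nat.card V := by
  obtain ⟨hRO, hcard, hCR⟩ := clr S O V Q hOS hVO hVc hQS hk1 hk2 hmax
  obtain ⟨Z, hZ⟩ : ∃ Z : Subgroup G, Z = Q ⊓ Subgroup.centralizer (Q : Set G) := ⟨_, rfl⟩
  rw [← hZ] at hk2 hmax hcard ⊢
  obtain ⟨R, hR⟩ : ∃ R : Subgroup G, R = (Q ⊓ O) ⊔ V := ⟨_, rfl⟩
  obtain ⟨C', hC'⟩ : ∃ C' : Subgroup G, C' = (Z ⊓ O) ⊔ V := ⟨_, rfl⟩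
  rw [← hR] at hRO hcard hCR ⊢
  rw [← hC']
  have hZQ : Z ≤ Q := by rw [hZ]; exact inf_le_left
  have hZc : Z ≤ Subgroup.centralizer (Q : Set G) := by rw [hZ]; exact inf_le_right
  have hVS : V ≤ S := hVO.trans hOS
  have hOV : O ≤ Subgroup.centralizer (V : Set G) := by
    rw [Subgroup.le_centralizer_iff]; exact hVc
  have hC'S : C' ≤ S := by
    rw [hC']; exact sup_le (inf_le_right.trans hOS) hVS
  have hC'c : C' ≤ Subgroup.centralizer (R : Set G) := by
    rw [hC', hR]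
    apply sup_le_centralizer_sup
    · exact inf_le_left.trans (hZc.trans (Subgroup.centralizer_le (by
        exact_mod_cast (inf_le_left : Q ⊓ O ≤ Q))))
    · exact inf_le_right.trans hOV
    · exact hVc.trans (Subgroup.centralizer_le (by exact_mod_cast (inf_le_right : Q ⊓ O ≤ O)))
    · exact hVO.trans hOV
  have hC'le : C' ≤ S ⊓ Subgroup.centralizer (R : Set G) := le_inf hC'S hC'c
  have e1 := Cfsg.Agent.Lib.Helper3.PU2770.card_mul_card_le_sup_inf (Q ⊓ O) V
  have e2 := Cfsg.Agent.Lib.Helper3.PU2770.card_mul_card_le_sup_inf (Z ⊓ O) V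
  have i1 : (Q ⊓ O) ⊓ V = Q ⊓ V := by rw [inf_assoc, inf_eq_right.2 hVO]
  have i2 : (Z ⊓ O) ⊓ V = Z ⊓ V := by rw [inf_assoc, inf_eq_right.2 hVO]
  rw [i1, ← hR] at e1
  rw [i2, ← hC'] at e2
  have l1 : Z ⊓ V ≤ V ⊓ Subgroup.centralizer (Q : Set G) :=
    le_inf inf_le_right (inf_le_left.trans hZc)
  have l2 : Q ⊓ V ≤ V ⊓ Subgroup.centralizer (Z : Set G) := by
    refine le_inf inf_le_right (inf_le_left.trans ?_)
    rw [Subgroup.le_centralizer_iff]; exact hZc
  have j1 : Nat.card (Z ⊓ V : Subgroup G) ≤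
      Nat.card (V ⊓ Subgroup.centralizer (Q : Set G) : Subgroup G) := Subgroup.card_le_of_le l1
  have j2 : Nat.card (Q ⊓ V : Subgroup G) ≤
      Nat.card (V ⊓ Subgroup.centralizer (Z : Set G) : Subgroup G) := Subgroup.card_le_of_le l2
  have pQV : 0 < Nat.card (Q ⊓ V : Subgroup G) := Nat.card_pos
  have pZV : 0 < Nat.card (Z ⊓ V : Subgroup G) := Nat.card_pos
  have pQ : 0 < Nat.card Q := Nat.card_pos
  have pZ : 0 < Nat.card Z := Nat.card_pos
  have pR : 0 < Nat.card R := Nat.card_pos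
  -- `|C_S(R)| = |C'|`
  have hCeq : C' = S ⊓ Subgroup.centralizer (R : Set G) := by
    apply Subgroup.eq_of_le_of_card_ge hC'le
    -- from `clr`: `C_S(R) ≤ R`, and the count
    -- redo the count: |R| |C'| ≥ |Q||Z| = |R||C_S(R)|
    have f1 : Nat.card Q * Nat.card (Z ⊓ V : Subgroup G) ≤
        Nat.card R * Nat.card (Q ⊓ V : Subgroup G) :=
      (Nat.mul_le_mul_left _ j1).trans (hk1.trans e1)
    have f2 : Nat.card Z * Nat.card (Q ⊓ V : Subgroup G) ≤
        Nat.card C' * Nat.card (Z ⊓ V : Subgroup G) :=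
      (Nat.mul_le_mul_left _ j2).trans (hk2.trans e2)
    have f3 : Nat.card Q * Nat.card Z ≤ Nat.card R * Nat.card C' := by
      have h := Nat.mul_le_mul f1 f2
      have h' : (Nat.card Q * Nat.card Z) *
          (Nat.card (Z ⊓ V : Subgroup G) * Nat.card (Q ⊓ V : Subgroup G)) ≤
          (Nat.card R * Nat.card C') *
          (Nat.card (Z ⊓ V : Subgroup G) * Nat.card (Q ⊓ V : Subgroup G)) := by
        calc (Nat.card Q * Nat.card Z) *
              (Nat.card (Z ⊓ V : Subgroup G) * Nat.card (Q ⊓ V : Subgroup G))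
            = Nat.card Q * Nat.card (Z ⊓ V : Subgroup G) *
              (Nat.card Z * Nat.card (Q ⊓ V : Subgroup G)) := by ring
          _ ≤ Nat.card R * Nat.card (Q ⊓ V : Subgroup G) *
              (Nat.card C' * Nat.card (Z ⊓ V : Subgroup G)) := h
          _ = _ := by ring
      exact Nat.le_of_mul_le_mul_right h' (Nat.mul_pos pZV pQV)
    have : Nat.card R * Nat.card (S ⊓ Subgroup.centralizer (R : Set G) : Subgroup G) ≤
        Nat.card R * Nat.card C' := by rw [hcard]; exact f3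
    exact Nat.le_of_mul_le_mul_left this pR
  -- the two chains
  have key := chain_eq_of_mul_eq (a := Nat.card Q * Nat.card (Z ⊓ V : Subgroup G))
    (b := Nat.card Q * Nat.card (V ⊓ Subgroup.centralizer (Q : Set G) : Subgroup G))
    (c := Nat.card (Q ⊓ O : Subgroup G) * Nat.card V)
    (d := Nat.card R * Nat.card (Q ⊓ V : Subgroup G))
    (a' := Nat.card Z * Nat.card (Q ⊓ V : Subgroup G))
    (b' := Nat.card Z * Nat.card (V ⊓ Subgroup.centralizer (Z : Set G) : Subgroup G))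
    (c' := Nat.card (Z ⊓ O : Subgroup G) * Nat.card V)
    (d' := Nat.card C' * Nat.card (Z ⊓ V : Subgroup G))
    (Nat.mul_le_mul_left _ j1) hk1 e1 (Nat.mul_le_mul_left _ j2) hk2 e2
    (Nat.mul_pos pQ pZV) (Nat.mul_pos pZ pQV) (by
      have : Nat.card R * Nat.card C' = Nat.card Q * Nat.card Z := by
        rw [hCeq]; exact hcard
      calc Nat.card R * Nat.card (Q ⊓ V : Subgroup G) *
            (Nat.card C' * Nat.card (Z ⊓ V : Subgroup G))
          = (Nat.card R * Nat.card C') *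
            (Nat.card (Q ⊓ V : Subgroup G) * Nat.card (Z ⊓ V : Subgroup G)) := by ring
        _ = (Nat.card Q * Nat.card Z) *
            (Nat.card (Q ⊓ V : Subgroup G) * Nat.card (Z ⊓ V : Subgroup G)) := by rw [this]
        _ ≤ _ := le_of_eq (by ring))
  obtain ⟨⟨k1, k2, k3⟩, ⟨k1', k2', k3'⟩⟩ := key
  refine ⟨k2, k2', ?_, ?_, hCeq.symm, k3.symm, k3'.symm⟩
  · -- (e3)
    symm
    apply Subgroup.eq_of_le_of_card_ge l1
    exact le_of_eq (Nat.eq_of_mul_eq_mul_left pQ k1.symm)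
  · -- (e4)
    symm
    apply Subgroup.eq_of_le_of_card_ge l2
    exact le_of_eq (Nat.eq_of_mul_eq_mul_left pZ k1'.symm)

end Cfsg.Agent.Lib.Helper3.PU2990
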