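import Mathlib
import Cfsg.Agent.Lib.Helper6.CL0
import Cfsg.Agent.Lib.Helper7.CentrallyLarge
import Cfsg.Agent.Lib.Helper8.CL2990c
import Cfsg.Agent.Lib.Helper3.PU2990b

/-!
# S2990 / S2989 farm unit (owner helper6): `clr`, verbatim to the stub
-/

set_option autoImplicit false

namespace Cfsg.Agent.Lib.Helper3.CLP3

open Cfsg.Agent.Lib.Helper6.CLP

variable {G : Type*} [Group G] [Finite G] {p : ℕ} [Fact p.Prime]

omit [Fact p.Prime] in
/-- the Chermak–Delgado measure of `X ≤ S` inside `S`, computed in `G` -/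
theorem cdMeasure_subgroupOf (S X : Subgroup G) (hXS : X ≤ S) :
    Cfsg.Agent.Lib.Helper7.cdMeasure (X.subgroupOf S) =
      Nat.card X * Nat.card (S ⊓ Subgroup.centralizer (X : Set G) : Subgroup G) := by
  unfold Cfsg.Agent.Lib.Helper7.cdMeasure
  rw [← Cfsg.Agent.Lib.Helper8.CL2990c.card_map_subtype' S (X.subgroupOf S),
    ← Cfsg.Agent.Lib.Helper8.CL2990c.card_map_subtype' S
      (Subgroup.centralizer ((X.subgroupOf S : Subgroup S) : Set S)),
    Cfsg.Agent.Lib.Helper8.CL2990c.map_centralizer, Subgroup.map_subgroupOf_eq_of_le hXS]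

omit [Fact p.Prime] in
/-- the central measure of `X ≤ S` inside `S`, computed in `G` -/
theorem clMeasure_subgroupOf (S X : Subgroup G) (hXS : X ≤ S) :
    Cfsg.Agent.Lib.Helper7.clMeasure (X.subgroupOf S) =
      Nat.card X * Nat.card (X ⊓ Subgroup.centralizer (X : Set G) : Subgroup G) := by
  unfold Cfsg.Agent.Lib.Helper7.clMeasure
  rw [Cfsg.Agent.Lib.Helper7.card_center_subtype,
    ← Cfsg.Agent.Lib.Helper8.CL2990c.card_map_subtype' S (X.subgroupOf S),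
    ← Cfsg.Agent.Lib.Helper8.CL2990c.card_map_subtype' S
      (X.subgroupOf S ⊓ Subgroup.centralizer ((X.subgroupOf S : Subgroup S) : Set S)),
    Cfsg.Agent.Lib.Helper8.CL2990c.map_center, Subgroup.map_subgroupOf_eq_of_le hXS]

omit [Fact p.Prime] in
/-- a centrally large `Q ≤ S` maximises `|X| |C_S(X)|`, with value `|Q| |Z(Q)|` -/
theorem hmax_of_CLin (S Q : Subgroup G) (hQ : CLin S Q) :
    ∀ X : Subgroup G, X ≤ S →
      Nat.card X * Nat.card (S ⊓ Subgroup.centralizer (X : Set G) : Subgroup G) ≤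
        Nat.card Q * Nat.card (Q ⊓ Subgroup.centralizer (Q : Set G) : Subgroup G) := by
  intro X hXS
  have h1 := (Cfsg.Agent.Lib.Helper7.isCentrallyLarge_iff (Q.subgroupOf S)).1 hQ.2
  have h2 := Cfsg.Agent.Lib.Helper7.cdMeasure_le_max (X.subgroupOf S)
  rw [← h1, cdMeasure_subgroupOf S X hXS, clMeasure_subgroupOf S Q hQ.1] at h2
  exact h2

/-- U-CLR : the counting lemma. `R = (Q ∩ O) V` is centrally large, with all the equalities. -/
theorem clr (S O V Q : Subgroup G) (hS : IsPGroup p S) (hOS : O ≤ S) (hVO : V ≤ O) [V.Normal]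
    (hOV : O ≤ Subgroup.centralizer (V : Set G)) (hQ : CLin S Q)
    (hk1 : Nat.card Q * Nat.card (V ⊓ Subgroup.centralizer (Q : Set G) : Subgroup G) ≤
      Nat.card (Q ⊓ O : Subgroup G) * Nat.card V)
    (hk2 : Nat.card (zc Q) * Nat.card (V ⊓ Subgroup.centralizer (zc Q : Set G) : Subgroup G) ≤
      Nat.card (zc Q ⊓ O : Subgroup G) * Nat.card V) :
    CLin S ((Q ⊓ O) ⊔ V) ∧ (Q ⊓ O) ⊔ V ≤ O ∧
    S ⊓ Subgroup.centralizer (((Q ⊓ O) ⊔ V : Subgroup G) : Set G) = (zc Q ⊓ O) ⊔ V ∧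
    Nat.card Q * Nat.card (V ⊓ Subgroup.centralizer (Q : Set G) : Subgroup G) =
      Nat.card (Q ⊓ O : Subgroup G) * Nat.card V ∧
    Nat.card (zc Q) * Nat.card (V ⊓ Subgroup.centralizer (zc Q : Set G) : Subgroup G) =
      Nat.card (zc Q ⊓ O : Subgroup G) * Nat.card V ∧
    zc Q ⊓ V = V ⊓ Subgroup.centralizer (Q : Set G) ∧
    Q ⊓ V = V ⊓ Subgroup.centralizer (zc Q : Set G) := by
  have hVc : V ≤ Subgroup.centralizer (O : Set G) := by
    rw [Subgroup.le_centralizer_iff]; exact hOV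
  have hmax := hmax_of_CLin S Q hQ
  unfold zc at hk2 ⊢
  obtain ⟨hRO, hcard, hCR⟩ :=
    Cfsg.Agent.Lib.Helper3.PU2990.clr S O V Q hOS hVO hVc hQ.1 hk1 hk2 hmax
  obtain ⟨e1, e2, e3, e4, eC, -, -⟩ :=
    Cfsg.Agent.Lib.Helper3.PU2990.clr_eq S O V Q hOS hVO hVc hQ.1 hk1 hk2 hmax
  refine ⟨?_, hRO, eC, e1, e2, e3.symm, e4.symm⟩
  -- `R` is centrally large in `S`
  have hRS : (Q ⊓ O) ⊔ V ≤ S := hRO.trans hOS
  refine ⟨hRS, ?_⟩
  apply Cfsg.Agent.Lib.Helper7.centrallyLarge_of_cd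
  · rw [cdMeasure_subgroupOf S _ hRS, hcard, ← clMeasure_subgroupOf S Q hQ.1]
    exact (Cfsg.Agent.Lib.Helper7.isCentrallyLarge_iff (Q.subgroupOf S)).1 hQ.2
  · -- `C_S(R) ≤ R` inside `↥S`
    intro x hx
    rw [Subgroup.mem_subgroupOf]
    apply hCR
    have : (x : G) ∈ (Subgroup.centralizer
        ((((Q ⊓ O) ⊔ V).subgroupOf S : Subgroup S) : Set S)).map S.subtype := ⟨x, hx, rfl⟩
    rw [Cfsg.Agent.Lib.Helper8.CL2990c.map_centralizer,
      Subgroup.map_subgroupOf_eq_of_le hRS] at this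
    exact this

end Cfsg.Agent.Lib.Helper3.CLP3
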