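import Mathlib
import Cfsg.Prelude.Def_Local
import Cfsg.Prelude.Def_Balance
import Cfsg.Prelude.Def_ClassificationStages
import Cfsg.Agent.Lib.Helper2.Components2

set_option autoImplicit false

/-! Farm CMX (S1305): unit RK (rank argument), preliminary form with RK1 and RK2 as hypotheses. -/

namespace Cfsg.Agent.Lib.Helper3.CMX

open Cfsg

universe u

variable {X : Type u} [Group X]

/-- the join of two commuting elementary abelian 2-subgroups is elementary abelian -/
theorem isElementaryAbelian_sup {A C : Subgroup X} (hA : IsElementaryAbelian 2 A)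
    (hC : IsElementaryAbelian 2 C) (hAC : ∀ x ∈ A, ∀ y ∈ C, x * y = y * x) :
    IsElementaryAbelian 2 (A ⊔ C) := by
  have hAcomm : ∀ x ∈ A, ∀ y ∈ A, x * y = y * x := by
    intro x hx y hy
    have := hA.1.is_comm.comm ⟨x, hx⟩ ⟨y, hy⟩
    exact congrArg Subtype.val this
  have hCcomm : ∀ x ∈ C, ∀ y ∈ C, x * y = y * x := by
    intro x hx y hy
    have := hC.1.is_comm.comm ⟨x, hx⟩ ⟨y, hy⟩
    exact congrArg Subtype.val this
  -- `A ⊔ C` centralizes itself
  have h1 : A ≤ Subgroup.centralizer ((A ⊔ C : Subgroup X) : Set X) := by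
    intro x hx
    rw [Subgroup.mem_centralizer_iff]
    have hle : A ⊔ C ≤ Subgroup.centralizer ({x} : Set X) := by
      apply sup_le
      · intro y hy
        rw [Subgroup.mem_centralizer_iff]
        intro z hz; rw [Set.mem_singleton_iff] at hz; subst hz
        exact hAcomm _ hx _ hy
      · intro y hy
        rw [Subgroup.mem_centralizer_iff]
        intro z hz; rw [Set.mem_singleton_iff] at hz; subst hz
        exact hAC _ hx _ hy
    intro w hw
    have := hle hw
    rw [Subgroup.mem_centralizer_iff] at this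
    exact (this x rfl).symm
  have h2 : C ≤ Subgroup.centralizer ((A ⊔ C : Subgroup X) : Set X) := by
    intro x hx
    rw [Subgroup.mem_centralizer_iff]
    have hle : A ⊔ C ≤ Subgroup.centralizer ({x} : Set X) := by
      apply sup_le
      · intro y hy
        rw [Subgroup.mem_centralizer_iff]
        intro z hz; rw [Set.mem_singleton_iff] at hz; subst hz
        exact (hAC _ hy _ hx).symm
      · intro y hy
        rw [Subgroup.mem_centralizer_iff]
        intro z hz; rw [Set.mem_singleton_iff] at hz; subst hz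
        exact hCcomm _ hx _ hy
    intro w hw
    have := hle hw
    rw [Subgroup.mem_centralizer_iff] at this
    exact (this x rfl).symm
  have hcomm : ∀ x ∈ A ⊔ C, ∀ y ∈ A ⊔ C, x * y = y * x := by
    intro x hx y hy
    have := (sup_le h1 h2) hx
    rw [Subgroup.mem_centralizer_iff] at this
    exact (this y hy).symm
  refine ⟨⟨⟨fun x y => Subtype.ext (hcomm _ x.2 _ y.2)⟩⟩, ?_⟩
  -- exponent 2
  let E : Subgroup X :=
    { carrier := {w | w ∈ A ⊔ C ∧ w ^ 2 = 1}
      mul_mem' := by
        rintro x y ⟨hx, hx2⟩ ⟨hy, hy2⟩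
        refine ⟨mul_mem hx hy, ?_⟩
        rw [(Commute.mul_pow (hcomm x hx y hy) 2), hx2, hy2, one_mul]
      one_mem' := ⟨one_mem _, one_pow 2⟩
      inv_mem' := by
        rintro x ⟨hx, hx2⟩
        exact ⟨inv_mem hx, by rw [inv_pow, hx2, inv_one]⟩ }
  have hE : A ⊔ C ≤ E := by
    apply sup_le
    · intro x hx; exact ⟨Subgroup.mem_sup_left hx, hA.2 x hx⟩
    · intro x hx; exact ⟨Subgroup.mem_sup_right hx, hC.2 x hx⟩
  intro w hw
  exact (hE hw).2

/-- `|H| |K| ≤ |H ⊔ K|` for disjoint subgroups -/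
theorem card_mul_card_le_card_sup [Finite X] {H K : Subgroup X} (hHK : H ⊓ K = ⊥) :
    Nat.card H * Nat.card K ≤ Nat.card (H ⊔ K : Subgroup X) := by
  rw [← Nat.card_prod]
  let f : H × K → (H ⊔ K : Subgroup X) := fun g =>
    ⟨(g.1 : X) * (g.2 : X), mul_mem (Subgroup.mem_sup_left g.1.2) (Subgroup.mem_sup_right g.2.2)⟩
  have hf : Function.Injective f := by
    intro g g' h
    have h' : (g.1 : X) * (g.2 : X) = (g'.1 : X) * (g'.2 : X) := congrArg Subtype.val h
    exact Subgroup.mul_injective_of_disjoint (disjoint_iff.mpr hHK) h'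
  exact Nat.card_le_card_of_injective f hf

/-- RK with RK1 and RK2 as hypotheses. -/
theorem RK_of [Finite X] (a : X) (ha : a * a = 1) {D L B V : Subgroup X} (hD : IsComponent D)
    (hDa : D.map (MulAut.conj a).toMonoidHom ≠ D)
    (hRK1 : ∀ k : X, k ∈ Subgroup.centralizer (L : Set X) →
      D.map (MulAut.conj k).toMonoidHom = D ∨
        D.map (MulAut.conj k).toMonoidHom = D.map (MulAut.conj a).toMonoidHom)
    (hRK2 : ∀ k : X, k * a = a * k → k ∈ Subgroup.normalizer (D : Set X) →
      k ∈ Subgroup.centralizer (L : Set X) → k ∈ Subgroup.centralizer (D : Set X))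
    (h2 : ∀ x ∈ L, ∃ d ∈ D, x = d * (a * d * a⁻¹))
    (h3 : ∀ d ∈ D, d * (a * d * a⁻¹) = 1 → d = 1)
    (hBa : B ≤ Subgroup.centralizer ({a} : Set X)) (hBL : B ≤ Subgroup.centralizer (L : Set X))
    (hBel : IsElementaryAbelian 2 B)
    (hVL : V ≤ L) (hVel : IsElementaryAbelian 2 V) (hV4 : 4 ≤ Nat.card V) :
    ∃ W : Subgroup X, W ≤ Subgroup.centralizer (D : Set X) ∧ IsElementaryAbelian 2 W ∧
      Nat.card B < Nat.card W := by
  classical
  have hainv : a⁻¹ = a := inv_eq_of_mul_eq_one_left ha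
  set Da := D.map (MulAut.conj a).toMonoidHom with hDadef
  have hDacomp : IsComponent Da := Cfsg.Agent.Lib.Helper2.isComponent_conj a hD
  -- `D` and `Da` commute
  have hcommDDa : ∀ d ∈ D, ∀ e ∈ Da, d * e = e * d := by
    rcases Cfsg.Agent.Lib.Helper2.isComponent_eq_or_commutator_eq_bot hD hDacomp with h | h
    · exact absurd h.symm hDa
    · rw [Subgroup.commutator_eq_bot_iff_le_centralizer] at h
      intro d hd e he
      have := h hd
      rw [Subgroup.mem_centralizer_iff] at this
      exact (this e he).symm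
  have hconjDa : ∀ d ∈ D, a * d * a⁻¹ ∈ Da := fun d hd => ⟨d, hd, rfl⟩
  -- `δ` is multiplicative on `D`
  have hδmul : ∀ d ∈ D, ∀ e ∈ D,
      (d * e) * (a * (d * e) * a⁻¹) = (d * (a * d * a⁻¹)) * (e * (a * e * a⁻¹)) := by
    intro d hd e he
    have h := hcommDDa e he _ (hconjDa d hd)
    calc (d * e) * (a * (d * e) * a⁻¹) = d * (e * (a * d * a⁻¹)) * (a * e * a⁻¹) := by group
      _ = d * ((a * d * a⁻¹) * e) * (a * e * a⁻¹) := by rw [h]
      _ = (d * (a * d * a⁻¹)) * (e * (a * e * a⁻¹)) := by group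
  have hδinv : ∀ d ∈ D, d⁻¹ * (a * d⁻¹ * a⁻¹) = (d * (a * d * a⁻¹))⁻¹ := by
    intro d hd
    have h := hcommDDa d hd _ (hconjDa d hd)
    have : (d * (a * d * a⁻¹))⁻¹ = (a * d * a⁻¹)⁻¹ * d⁻¹ := by group
    rw [this]
    have h' : d⁻¹ * (a * d * a⁻¹)⁻¹ = (a * d * a⁻¹)⁻¹ * d⁻¹ := by
      have := congrArg (fun z => z⁻¹) h
      simpa [mul_inv_rev] using this.symm
    rw [← h']; group
  have hδinj : ∀ d ∈ D, ∀ e ∈ D, d * (a * d * a⁻¹) = e * (a * e * a⁻¹) → d = e := by
    intro d hd e he h
    have h4 := hδmul d hd e⁻¹ (inv_mem he)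
    rw [hδinv e he, h, mul_inv_cancel] at h4
    have := h3 _ (mul_mem hd (inv_mem he)) h4
    exact mul_inv_eq_one.mp this
  -- `B₀`
  set B₀ := B ⊓ Subgroup.normalizer (D : Set X) with hB₀
  have hB₀cen : B₀ ≤ Subgroup.centralizer (D : Set X) := by
    intro k hk
    rw [hB₀, Subgroup.mem_inf] at hk
    have hka : k * a = a * k := by
      have := hBa hk.1
      rw [Subgroup.mem_centralizer_iff] at this
      exact (this a rfl).symm
    exact hRK2 k hka hk.2 (hBL hk.1)
  -- `|B| ≤ 2 |B₀|`
  have hBcard : Nat.card B ≤ 2 * Nat.card B₀ := by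
    by_cases hBB₀ : B ≤ B₀
    · have : Nat.card B ≤ Nat.card B₀ := Subgroup.card_le_of_le hBB₀
      omega
    · obtain ⟨k, hkB, hkB₀⟩ := SetLike.not_le_iff_exists.mp hBB₀
      have hkD : D.map (MulAut.conj k).toMonoidHom = Da := by
        rcases hRK1 k (hBL hkB) with h | h
        · exfalso
          apply hkB₀
          rw [hB₀, Subgroup.mem_inf]
          refine ⟨hkB, ?_⟩
          rw [Subgroup.mem_normalizer_iff]
          intro x
          constructor
          · intro hx; rw [← h]; exact ⟨x, hx, rfl⟩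
          · intro hx
            rw [← h] at hx
            obtain ⟨x', hx', he⟩ := hx
            have : x' = x := by
              have := (MulAut.conj k).injective (show (MulAut.conj k) x' = (MulAut.conj k) x from he)
              exact this
            rw [← this]; exact hx'
        · exact h
      have hsub : (B : Set X) ⊆ (B₀ : Set X) ∪ (fun x => k * x) '' (B₀ : Set X) := by
        intro x hx
        by_cases hxB₀ : x ∈ B₀
        · exact Or.inl hxB₀
        · right
          have hxD : D.map (MulAut.conj x).toMonoidHom = Da := by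
            rcases hRK1 x (hBL hx) with h | h
            · exfalso
              apply hxB₀
              rw [hB₀, Subgroup.mem_inf]
              refine ⟨hx, ?_⟩
              rw [Subgroup.mem_normalizer_iff]
              intro y
              constructor
              · intro hy; rw [← h]; exact ⟨y, hy, rfl⟩
              · intro hy
                rw [← h] at hy
                obtain ⟨y', hy', he⟩ := hy
                have : y' = y := (MulAut.conj x).injective
                  (show (MulAut.conj x) y' = (MulAut.conj x) y from he)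
                rw [← this]; exact hy'
            · exact h
          refine ⟨k⁻¹ * x, ?_, by group⟩
          show k⁻¹ * x ∈ B₀
          rw [hB₀, Subgroup.mem_inf]
          refine ⟨mul_mem (inv_mem hkB) hx, ?_⟩
          rw [Subgroup.mem_normalizer_iff]
          -- conjugation by `k⁻¹ x` maps `D` to `D`
          have key : D.map (MulAut.conj (k⁻¹ * x)).toMonoidHom = D := by
            have e1 : D.map (MulAut.conj (k⁻¹ * x)).toMonoidHom
                = (D.map (MulAut.conj x).toMonoidHom).map (MulAut.conj k⁻¹).toMonoidHom := by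
              rw [Subgroup.map_map]
              congr 1
              ext y
              simp [MulAut.conj_apply, mul_assoc]
            rw [e1, hxD, ← hkD, Subgroup.map_map]
            ext y
            simp [MulAut.conj_apply, mul_assoc]
          intro y
          constructor
          · intro hy; rw [← key]; exact ⟨y, hy, rfl⟩
          · intro hy
            rw [← key] at hy
            obtain ⟨y', hy', he⟩ := hy
            have : y' = y := (MulAut.conj (k⁻¹ * x)).injective
              (show (MulAut.conj (k⁻¹ * x)) y' = (MulAut.conj (k⁻¹ * x)) y from he)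
            rw [← this]; exact hy'
      have h1 : Nat.card B = (B : Set X).ncard := (Nat.card_coe_set_eq (B : Set X))
      have h2' : Nat.card B₀ = (B₀ : Set X).ncard := (Nat.card_coe_set_eq (B₀ : Set X))
      have h3' := Set.ncard_le_ncard hsub (Set.toFinite _)
      have h4 := Set.ncard_union_le (B₀ : Set X) ((fun x => k * x) '' (B₀ : Set X))
      have h5 := Set.ncard_image_le (f := fun x => k * x) (Set.toFinite (B₀ : Set X))
      omega
  -- `V₂`
  let V₂ : Subgroup X :=
    { carrier := {y | a⁻¹ * y * a ∈ D ∧ (a⁻¹ * y * a) * y ∈ V}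
      mul_mem' := by
        rintro y z ⟨hy1, hy2⟩ ⟨hz1, hz2⟩
        have e : a⁻¹ * (y * z) * a = (a⁻¹ * y * a) * (a⁻¹ * z * a) := by group
        refine ⟨by rw [e]; exact mul_mem hy1 hz1, ?_⟩
        have h := hδmul _ hy1 _ hz1
        have e2 : a * (a⁻¹ * y * a * (a⁻¹ * z * a)) * a⁻¹ = y * z := by group
        have e3 : a * (a⁻¹ * y * a) * a⁻¹ = y := by group
        have e4 : a * (a⁻¹ * z * a) * a⁻¹ = z := by group
        rw [e2, e3, e4] at h
        rw [e, h]
        exact mul_mem hy2 hz2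
      one_mem' := by
        refine ⟨by simp [D.one_mem], by simp [V.one_mem]⟩
      inv_mem' := by
        rintro y ⟨hy1, hy2⟩
        have e : a⁻¹ * y⁻¹ * a = (a⁻¹ * y * a)⁻¹ := by group
        refine ⟨by rw [e]; exact inv_mem hy1, ?_⟩
        have h := hδinv _ hy1
        have e3 : a * (a⁻¹ * y * a)⁻¹ * a⁻¹ = y⁻¹ := by group
        have e4 : a * (a⁻¹ * y * a) * a⁻¹ = y := by group
        rw [e3, e4] at h
        rw [e, h]
        exact inv_mem hy2 }
  have hV₂mem : ∀ y, y ∈ V₂ ↔ a⁻¹ * y * a ∈ D ∧ (a⁻¹ * y * a) * y ∈ V := fun y => Iff.rfl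
  have hV₂Da : V₂ ≤ Da := by
    intro y hy
    refine ⟨a⁻¹ * y * a, hy.1, ?_⟩
    show a * (a⁻¹ * y * a) * a⁻¹ = y
    group
  -- the injective map `ψ : V₂ → V`
  have hψinj : ∀ y ∈ V₂, ∀ z ∈ V₂, (a⁻¹ * y * a) * y = (a⁻¹ * z * a) * z → y = z := by
    intro y hy z hz h
    have e3 : a * (a⁻¹ * y * a) * a⁻¹ = y := by group
    have e4 : a * (a⁻¹ * z * a) * a⁻¹ = z := by group
    have := hδinj _ hy.1 _ hz.1 (by rw [e3, e4]; exact h)
    calc y = a * (a⁻¹ * y * a) * a⁻¹ := e3.symm
      _ = a * (a⁻¹ * z * a) * a⁻¹ := by rw [this]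
      _ = z := e4
  have hcardV₂ : Nat.card V₂ = Nat.card V := by
    apply Nat.card_congr
    refine Equiv.ofBijective (fun y => ⟨(a⁻¹ * (y : X) * a) * (y : X), y.2.2⟩) ⟨?_, ?_⟩
    · intro y z h
      have h' : (a⁻¹ * (y : X) * a) * (y : X) = (a⁻¹ * (z : X) * a) * (z : X) :=
        congrArg Subtype.val h
      exact Subtype.ext (hψinj _ y.2 _ z.2 h')
    · intro x
      obtain ⟨d, hd, hxd⟩ := h2 (x : X) (hVL x.2)
      have e : a⁻¹ * (a * d * a⁻¹) * a = d := by group
      refine ⟨⟨a * d * a⁻¹, ?_⟩, ?_⟩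
      · rw [hV₂mem, e]
        refine ⟨hd, ?_⟩
        rw [← hxd]; exact x.2
      · apply Subtype.ext
        show a⁻¹ * (a * d * a⁻¹) * a * (a * d * a⁻¹) = x
        rw [e, ← hxd]
  -- `V₂` is elementary abelian
  have hVcomm : ∀ x ∈ V, ∀ y ∈ V, x * y = y * x := by
    intro x hx y hy
    have := hVel.1.is_comm.comm ⟨x, hx⟩ ⟨y, hy⟩
    exact congrArg Subtype.val this
  have hψmul : ∀ y ∈ V₂, ∀ z ∈ V₂,
      (a⁻¹ * (y * z) * a) * (y * z) = ((a⁻¹ * y * a) * y) * ((a⁻¹ * z * a) * z) := by
    intro y hy z hz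
    have h := hδmul _ hy.1 _ hz.1
    have e : a⁻¹ * (y * z) * a = (a⁻¹ * y * a) * (a⁻¹ * z * a) := by group
    have e2 : a * (a⁻¹ * y * a * (a⁻¹ * z * a)) * a⁻¹ = y * z := by group
    have e3 : a * (a⁻¹ * y * a) * a⁻¹ = y := by group
    have e4 : a * (a⁻¹ * z * a) * a⁻¹ = z := by group
    rw [e2, e3, e4] at h
    rw [e, h]
  have hV₂el : IsElementaryAbelian 2 V₂ := by
    refine ⟨⟨⟨fun y z => ?_⟩⟩, ?_⟩
    · apply Subtype.ext
      apply hψinj _ (mul_mem y.2 z.2) _ (mul_mem z.2 y.2)
      rw [hψmul _ y.2 _ z.2, hψmul _ z.2 _ y.2]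
      exact hVcomm _ y.2.2 _ z.2.2
    · intro y hy
      apply hψinj _ (pow_mem hy 2) _ (one_mem V₂)
      rw [pow_two, hψmul _ hy _ hy]
      have := hVel.2 _ hy.2
      rw [pow_two] at this
      rw [this]; simp
  have hB₀el : IsElementaryAbelian 2 B₀ := by
    refine ⟨⟨⟨fun y z => ?_⟩⟩, fun y hy => hBel.2 y (by rw [hB₀, Subgroup.mem_inf] at hy; exact hy.1)⟩
    have hy : (y : X) ∈ B ⊓ Subgroup.normalizer (D : Set X) := y.2
    have hz : (z : X) ∈ B ⊓ Subgroup.normalizer (D : Set X) := z.2
    rw [Subgroup.mem_inf] at hy hz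
    have := hBel.1.is_comm.comm ⟨y, hy.1⟩ ⟨z, hz.1⟩
    have h' : (y : X) * (z : X) = (z : X) * (y : X) := congrArg Subtype.val this
    exact Subtype.ext h'
  -- `B₀` commutes with `Da`
  have hB₀Da : ∀ x ∈ B₀, ∀ y ∈ Da, x * y = y * x := by
    intro x hx y hy
    obtain ⟨d, hd, rfl⟩ := hy
    have hxD := hB₀cen hx
    rw [Subgroup.mem_centralizer_iff] at hxD
    have hxd := hxD d hd
    rw [hB₀, Subgroup.mem_inf] at hx
    have hxa : a * x = x * a := by
      have := hBa hx.1
      rw [Subgroup.mem_centralizer_iff] at this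
      exact this a rfl
    show x * (a * d * a⁻¹) = a * d * a⁻¹ * x
    have hxa' : x * a⁻¹ = a⁻¹ * x := by rw [hainv]; exact hxa.symm
    calc x * (a * d * a⁻¹) = (x * a) * d * a⁻¹ := by group
      _ = (a * x) * d * a⁻¹ := by rw [hxa]
      _ = a * (x * d) * a⁻¹ := by group
      _ = a * (d * x) * a⁻¹ := by rw [hxd]
      _ = a * d * (x * a⁻¹) := by group
      _ = a * d * (a⁻¹ * x) := by rw [hxa']
      _ = a * d * a⁻¹ * x := by group
  -- `B₀ ⊓ V₂ = ⊥`
  have hdisj : B₀ ⊓ V₂ = ⊥ := by
    rw [eq_bot_iff]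
    intro z hz
    rw [Subgroup.mem_inf] at hz
    obtain ⟨hzB, hzV⟩ := hz
    rw [Subgroup.mem_bot]
    have hzB' := hzB
    rw [hB₀, Subgroup.mem_inf] at hzB'
    have hza : a * z = z * a := by
      have := hBa hzB'.1
      rw [Subgroup.mem_centralizer_iff] at this
      exact this a rfl
    have e : a⁻¹ * z * a = z := by
      calc a⁻¹ * z * a = a⁻¹ * (z * a) := by group
        _ = a⁻¹ * (a * z) := by rw [hza]
        _ = z := by group
    have hzD : z ∈ D := by rw [← e]; exact hzV.1
    have e2 : a * z * a⁻¹ = z := by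
      calc a * z * a⁻¹ = (z * a) * a⁻¹ := by rw [hza]
        _ = z := by group
    have hz2 : z * z = 1 := by
      have := hBel.2 z hzB'.1
      rwa [pow_two] at this
    exact h3 z hzD (by rw [e2, hz2])
  refine ⟨B₀ ⊔ V₂, ?_, ?_, ?_⟩
  · apply sup_le hB₀cen
    intro y hy
    rw [Subgroup.mem_centralizer_iff]
    intro d hd
    exact hcommDDa d hd y (hV₂Da hy)
  · exact isElementaryAbelian_sup hB₀el hV₂el (fun x hx y hy => hB₀Da x hx y (hV₂Da hy))
  · have h1 := card_mul_card_le_card_sup hdisj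
    rw [hcardV₂] at h1
    have hpos : 0 < Nat.card B₀ := Nat.card_pos
    nlinarith

end Cfsg.Agent.Lib.Helper3.CMX
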