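import Mathlib
import Cfsg.Prelude.Def_Local
import Cfsg.Prelude.Def_Balance
import Cfsg.Prelude.Def_ClassificationStages
import Cfsg.Agent.Lib.Helper3.CMXRKpre
import Cfsg.Agent.Lib.Helper7.CMXRK1
import Cfsg.Agent.Lib.Helper7.CMXRK2

set_option autoImplicit false

/-! Farm CMX (S1305): unit RK (rank argument), verbatim form. -/

namespace Cfsg.Agent.Lib.Helper3.CMX

open Cfsg

universe u

variable {X : Type u} [Group X]

/-- RK (rank argument): in the diagonal case, an elementary abelian 2-subgroup `B` of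
`C_X(a) ⊓ C_X(L)` and an elementary abelian `V ≤ L` of order at least 4 give an elementary abelian
2-subgroup `W` of `C_X(D)` with `|W| > |B|`. -/
theorem RK [Finite X] (a : X) (ha : a * a = 1) {D L B V : Subgroup X} (hD : IsComponent D)
    (hDa : D.map (MulAut.conj a).toMonoidHom ≠ D)
    (h1 : ∀ d ∈ D, d * (a * d * a⁻¹) ∈ L) (h2 : ∀ x ∈ L, ∃ d ∈ D, x = d * (a * d * a⁻¹))
    (h3 : ∀ d ∈ D, d * (a * d * a⁻¹) = 1 → d = 1)
    (hBa : B ≤ Subgroup.centralizer ({a} : Set X)) (hBL : B ≤ Subgroup.centralizer (L : Set X))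
    (hBel : IsElementaryAbelian 2 B)
    (hVL : V ≤ L) (hVel : IsElementaryAbelian 2 V) (hV4 : 4 ≤ Nat.card V) :
    ∃ W : Subgroup X, W ≤ Subgroup.centralizer (D : Set X) ∧ IsElementaryAbelian 2 W ∧
      Nat.card B < Nat.card W :=
  RK_of a ha hD hDa
    (fun k hk => Cfsg.Agent.Lib.Helper7.CMX.RK1 a ha hD hDa h1 k hk)
    (fun k hka hkD hk => Cfsg.Agent.Lib.Helper7.CMX.RK2 a ha hD hDa h1 k hka hkD hk)
    h2 h3 hBa hBL hBel hVL hVel hV4

end Cfsg.Agent.Lib.Helper3.CMX
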