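import Cfsg.Agent.Lib.Helper3.CPPair
import Cfsg.Agent.Lib.Helper1.CPP5D
import Cfsg.Agent.Lib.Helper5.CPEnd2
import Cfsg.Agent.Lib.Helper6.CPR
import Cfsg.Agent.Lib.Helper9.CPHigman
import Cfsg.Agent.Lib.Helper2.TIZ
import Cfsg.Agent.S0183

set_option autoImplicit false
set_option maxHeartbeats 4000000
set_option maxRecDepth 100000
set_option linter.unusedVariables false
set_option linter.unusedSectionVars false
set_option linter.style.longLine false
set_option linter.style.haveILetI false
set_option linter.deprecated false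
set_option linter.unusedSimpArgs false

/-! # S3396: final assembly -/

namespace Cfsg.Agent.Lib.Helper3.CP

universe u

/-- A `CC`-group of odd order is solvable (CN-theorem for odd order, S0183). -/
theorem solvable_of_odd {G : Type*} [Group G] [Finite G] (hC : CC G) (hodd : Odd (Nat.card G)) :
    IsSolvable G := by
  apply Cfsg.Agent.S0183.result hodd
  intro g hg
  have hprime : ∀ h : G, h ≠ 1 → (orderOf h).Prime := by
    intro h hh
    rcases hC h hh with ⟨k, hk⟩ | ⟨hp, -⟩
    · exfalso
      have hho : Odd (orderOf h) := Odd.of_dvd_nat hodd (orderOf_dvd_natCard h)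
      rw [hk] at hho
      rcases Nat.eq_zero_or_pos k with rfl | hkpos
      · rw [pow_zero] at hk; exact hh (orderOf_eq_one_iff.mp hk)
      · have : Even (2 ^ k) := (Nat.even_pow.mpr ⟨even_two, hkpos.ne'⟩)
        exact (Nat.not_even_iff_odd.mpr hho) this
    · exact hp
  have hp := hprime g hg
  haveI : Fact (orderOf g).Prime := ⟨hp⟩
  have hPG : IsPGroup (orderOf g) (Subgroup.centralizer ({g} : Set G)) := by
    intro h
    by_cases hh1 : h = 1
    · exact ⟨0, by rw [hh1]; simp⟩
    have hh1' : (h : G) ≠ 1 := fun e => hh1 (Subtype.ext e)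
    have hq := hprime (h : G) hh1'
    have hcomm : g * (h : G) = (h : G) * g := by
      have := h.2
      rw [Subgroup.mem_centralizer_iff] at this
      exact this g (Set.mem_singleton g)
    have heq : orderOf (h : G) = orderOf g := by
      by_contra hne
      exact Cfsg.Agent.Lib.Helper9.CP.CC.false_of_commute hC hp hq (Ne.symm hne) rfl rfl hcomm
    refine ⟨1, ?_⟩
    apply Subtype.ext
    rw [Subgroup.coe_pow, pow_one, ← heq]
    exact pow_orderOf_eq_one _
  exact hPG.isNilpotent

/-- A finite 2-group is solvable. -/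
theorem solvable_of_two_group {H : Type*} [Group H] [Finite H] (h : IsPGroup 2 H) : IsSolvable H := by
  haveI : Fact (Nat.Prime 2) := ⟨Nat.prime_two⟩
  haveI : Group.IsNilpotent H := h.isNilpotent
  show Group.IsSolvable H
  infer_instance

/-- The context `Ctx` from the induction hypothesis. -/
theorem ctx_of_IH {G : Type u} [Group G] [Finite G] [IsSimpleGroup G] (hC : CC G) (hns : ¬ IsSolvable G)
    (IH : ∀ (H : Type u) [Group H] [Finite H], Nat.card H < Nat.card G → CC H → ¬ IsSolvable H →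
      IsSimpleGroup H ∧ Nat.card H = 168) : Ctx G := by
  refine ⟨hC, hns, ?_⟩
  intro R hR1 hR2
  haveI : Fact (Nat.Prime 2) := ⟨Nat.prime_two⟩
  by_contra hLns
  have hRL : R ≤ Subgroup.normalizer (R : Set G) := Subgroup.le_normalizer
  have hLtop : Subgroup.normalizer (R : Set G) ≠ ⊤ := by
    intro htop
    have hRn : R.Normal := Subgroup.normalizer_eq_top_iff.mp htop
    rcases hRn.eq_bot_or_eq_top with h | h
    · exact hR1 h
    · apply hns
      have h2 : IsPGroup 2 (⊤ : Subgroup G) := by rw [← h]; exact hR2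
      exact solvable_of_two_group (h2.of_equiv Subgroup.topEquiv)
  have hlt : Nat.card (Subgroup.normalizer (R : Set G)) < Nat.card G := by
    refine lt_of_le_of_ne (Subgroup.card_le_card_group _) ?_
    intro heq
    exact hLtop (Subgroup.eq_top_of_card_eq _ heq)
  obtain ⟨hLs, hL168⟩ := IH _ hlt (Cfsg.Agent.Lib.Helper9.CP.CC.subgroup hC _) hLns
  haveI := hLs
  have hn : (R.subgroupOf (Subgroup.normalizer (R : Set G))).Normal := Subgroup.normal_in_normalizer
  rcases hn.eq_bot_or_eq_top with h | h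
  · rw [Subgroup.subgroupOf_eq_bot] at h
    apply hR1
    rw [eq_bot_iff]
    exact h le_rfl hRL
  · rw [Subgroup.subgroupOf_eq_top] at h
    exact hLns (solvable_of_two_group (hR2.to_le h))

/-- `O₂` of order 4 of a member has exponent 2. -/
theorem exp_two_of_mem_card_four {G : Type*} [Group G] [Finite G] (hC : CC G) {M Q : Subgroup G}
    (hM : Mem M Q) (hQ4 : Nat.card Q = 4) : ∀ e ∈ Q, e ^ 2 = 1 := by
  intro e he
  by_contra hne
  obtain ⟨x, hxM, r, hr, hr2, hxo⟩ : ∃ x ∈ M, ∃ r : ℕ, r.Prime ∧ r ≠ 2 ∧ orderOf x = r := by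
    have h := hM.2.2.2
    unfold IsPGroup at h
    push Not at h
    obtain ⟨m, hm⟩ := h
    have hm1 : (m : G) ≠ 1 := fun h1 => hm 0 (by ext; simpa using h1)
    rcases hC (m : G) hm1 with ⟨k, hk⟩ | ⟨hp, -⟩
    · exfalso
      apply hm k
      ext
      rw [Subgroup.coe_pow, ← hk]
      exact pow_orderOf_eq_one _
    · refine ⟨m, m.2, orderOf (m : G), hp, ?_, rfl⟩
      intro h2
      apply hm 1
      ext
      rw [Subgroup.coe_pow, pow_one, ← h2]
      exact pow_orderOf_eq_one _
  have ht1 : e ^ 2 ≠ 1 := hne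
  have he4 : e ^ 4 = 1 := by
    have := pow_card_eq_one' (G := Q) (x := ⟨e, he⟩)
    rw [hQ4] at this
    exact congrArg Subtype.val this
  have ht2 : (e ^ 2) ^ 2 = 1 := by rw [← pow_mul]; exact he4
  have hto : orderOf (e ^ 2) = 2 := orderOf_eq_prime ht2 ht1
  have heo : orderOf e = 4 := by
    have hdvd : orderOf e ∣ 2 ^ 2 := orderOf_dvd_of_pow_eq_one he4
    obtain ⟨k, hk, hk'⟩ := (Nat.dvd_prime_pow Nat.prime_two).mp hdvd
    interval_cases k
    · exfalso
      rw [pow_zero, orderOf_eq_one_iff] at hk'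
      rw [hk'] at hne
      simp at hne
    · exfalso
      apply hne
      rw [pow_one] at hk'
      rw [← hk']
      exact pow_orderOf_eq_one e
    · simpa using hk'
  have hz : Subgroup.zpowers e = Q := by
    apply Subgroup.eq_of_le_of_card_ge (Subgroup.zpowers_le.mpr he)
    rw [Nat.card_zpowers, heo, hQ4]
  have hxQ : x * e * x⁻¹ ∈ Q := hM.2.1.2.2.1 x hxM e he
  rw [← hz] at hxQ
  obtain ⟨k, hk⟩ := Subgroup.mem_zpowers_iff.mp hxQ
  have hxt : x * e ^ 2 * x⁻¹ = (e ^ 2) ^ k := by
    have h1 : x * e ^ 2 * x⁻¹ = (x * e * x⁻¹) ^ 2 := by rw [pow_two, pow_two]; group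
    have h2 : (e ^ k) ^ (2 : ℕ) = (e ^ (2 : ℕ)) ^ k := by
      rw [← zpow_natCast, ← zpow_natCast, ← zpow_mul, ← zpow_mul, mul_comm]
    rw [h1, ← hk, h2]
  have htk : (e ^ 2) ^ k = 1 ∨ (e ^ 2) ^ k = e ^ 2 := by
    rcases Int.even_or_odd k with ⟨j, hj⟩ | ⟨j, hj⟩
    · left
      rw [hj, ← two_mul, zpow_mul, zpow_ofNat, ht2, one_zpow]
    · right
      rw [hj, zpow_add, zpow_mul, zpow_ofNat, ht2, one_zpow, one_mul, zpow_one]
  rcases htk with h1 | h1
  · rw [h1] at hxt
    apply ht1
    have := congrArg (fun z => x⁻¹ * z * x) hxt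
    simpa [mul_assoc] using this
  · rw [h1] at hxt
    have hcomm : x * e ^ 2 = e ^ 2 * x := by
      have := congrArg (fun z => z * x) hxt
      simpa [mul_assoc] using this
    exact Cfsg.Agent.Lib.Helper9.CP.CC.false_of_commute hC hr Nat.prime_two hr2 hxo hto hcomm

/-- The simple case. -/
theorem card_168_of_simple {G : Type*} [Group G] [Finite G] [IsSimpleGroup G] (ctx : Ctx G) :
    Nat.card G = 168 := by
  haveI : Fact (Nat.Prime 2) := ⟨Nat.prime_two⟩
  have hC := ctx.cc
  have hns := ctx.ns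
  by_cases hnTI : ∃ P Q : Sylow 2 G, P ≠ Q ∧ (P : Subgroup G) ⊓ (Q : Subgroup G) ≠ ⊥
  · obtain ⟨M, Q, hM, hQ4⟩ := Cfsg.Agent.Lib.Helper1.CP.exists_mem_card_four_of_pair ctx
      (fun h h' a b c d => pair_lemma h h' a b c d) hnTI
    exact Cfsg.Agent.Lib.Helper5.CP.card_eq_168_of_four_group hC hns Q hQ4
      (exp_two_of_mem_card_four hC hM hQ4)
      (Cfsg.Agent.Lib.Helper2.CP.cent_le ctx hM Q le_rfl hM.1 hM.2.1.2.2.1)
  · push Not at hnTI
    have h2 : ∃ P Q : Sylow 2 G, P ≠ Q := by
      by_contra hno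
      push Not at hno
      haveI : Subsingleton (Sylow 2 G) := ⟨hno⟩
      obtain ⟨P⟩ : Nonempty (Sylow 2 G) := inferInstance
      have hPn : (P : Subgroup G).Normal := Sylow.normal_of_subsingleton P
      rcases hPn.eq_bot_or_eq_top with h | h
      · -- odd order
        apply hns
        apply solvable_of_odd hC
        rw [← Nat.not_even_iff_odd]
        intro hev
        exact P.ne_bot_of_dvd_card hev.two_dvd h
      · apply hns
        have h2 : IsPGroup 2 (⊤ : Subgroup G) := by rw [← h]; exact P.isPGroup'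
        exact solvable_of_two_group (h2.of_equiv Subgroup.topEquiv)
    have hZ := Cfsg.Agent.Lib.Helper2.TIZ.zassenhaus_of_cit_ti
      (Cfsg.Agent.Lib.Helper5.CP.cit_of_cc hC) (fun P Q hPQ => by
        by_contra hne
        exact hne (hnTI P Q hPQ)) h2
    exact Cfsg.Agent.Lib.Helper5.CP.card_eq_168_of_ti hC hns hZ

theorem key_aux (n : ℕ) : ∀ (G : Type u) [Group G] [Finite G], Nat.card G = n → CC G → ¬ IsSolvable G →
    IsSimpleGroup G ∧ Nat.card G = 168 := by
  induction n using Nat.strong_induction_on with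
  | _ n ih =>
    intro G _ _ hcard hC hns
    have IH : ∀ (H : Type u) [Group H] [Finite H], Nat.card H < Nat.card G → CC H → ¬ IsSolvable H →
        IsSimpleGroup H ∧ Nat.card H = 168 :=
      fun H _ _ hlt => ih (Nat.card H) (hcard ▸ hlt) H rfl
    haveI : IsSimpleGroup G := Cfsg.Agent.Lib.Helper6.CP.simple_of_minimal hC hns IH
    exact ⟨inferInstance, card_168_of_simple (ctx_of_IH hC hns IH)⟩

/-- **Key theorem**: a non-solvable `CC`-group is simple of order 168. -/
theorem key {G : Type u} [Group G] [Finite G] (hC : CC G) (hns : ¬ IsSolvable G) :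
    IsSimpleGroup G ∧ Nat.card G = 168 :=
  key_aux (Nat.card G) G rfl hC hns

end Cfsg.Agent.Lib.Helper3.CP
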