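import Cfsg.Agent.Lib.Helper3.CPDefs

set_option autoImplicit false
set_option maxHeartbeats 4000000
set_option maxRecDepth 100000
set_option linter.unusedVariables false
set_option linter.unusedSectionVars false
set_option linter.style.longLine false
set_option linter.style.haveILetI false
set_option linter.deprecated false
set_option linter.unusedSimpArgs false

/-! # S3396, Pair Lemma: general counting lemmas -/

namespace Cfsg.Agent.Lib.Helper3.CP

variable {G : Type*} [Group G]

/-- If all elements of `V` outside `K ≤ V` lie in one coset of `K`, then `|V| ≤ 2|K|`. -/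
theorem card_le_two_mul_of_coset [Finite G] {K V : Subgroup G} (hKV : K ≤ V)
    (h : ∀ v1 ∈ V, v1 ∉ K → ∀ v2 ∈ V, v2 ∉ K → v1⁻¹ * v2 ∈ K) :
    Nat.card V ≤ 2 * Nat.card K := by
  classical
  by_cases hex : ∃ v0 ∈ V, v0 ∉ K
  · obtain ⟨v0, hv0V, hv0K⟩ := hex
    -- injection V → Bool × K
    let f : V → Bool × K := fun v =>
      if hv : (v : G) ∈ K then (false, ⟨v, hv⟩) else (true, ⟨v0⁻¹ * v, h v0 hv0V hv0K v v.2 hv⟩)
    have hf : Function.Injective f := by
      intro a b hab
      by_cases ha : (a : G) ∈ K <;> by_cases hb : (b : G) ∈ K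
      · simp only [f, dif_pos ha, dif_pos hb, Prod.mk.injEq, Subtype.mk.injEq, true_and] at hab
        exact Subtype.ext hab
      · simp only [f, dif_pos ha, dif_neg hb, Prod.mk.injEq] at hab
        exact absurd hab.1 (by simp)
      · simp only [f, dif_neg ha, dif_pos hb, Prod.mk.injEq] at hab
        exact absurd hab.1 (by simp)
      · simp only [f, dif_neg ha, dif_neg hb, Prod.mk.injEq, Subtype.mk.injEq, true_and] at hab
        exact Subtype.ext (mul_left_cancel hab)
    have := Nat.card_le_card_of_injective f hf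
    rw [Nat.card_prod] at this
    have hb : Nat.card Bool = 2 := by simp
    rwa [hb] at this
  · push Not at hex
    have : V ≤ K := fun v hv => hex v hv
    have hVK : V = K := le_antisymm this hKV
    rw [hVK]; omega

/-- Two subgroups of `X` of the same order meeting trivially: `|C|² ≤ |X|`. -/
theorem card_sq_le_of_inf_eq_bot [Finite G] {C C' X : Subgroup G} (hC : C ≤ X) (hC' : C' ≤ X)
    (hinf : C ⊓ C' = ⊥) (hcard : Nat.card C' = Nat.card C) : Nat.card C ^ 2 ≤ Nat.card X := by
  classical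
  let f : C × C' → X := fun p => ⟨(p.1 : G) * (p.2 : G), X.mul_mem (hC p.1.2) (hC' p.2.2)⟩
  have hf : Function.Injective f := by
    rintro ⟨a, b⟩ ⟨c, d⟩ hab
    simp only [f, Subtype.mk.injEq] at hab
    -- a * b = c * d → c⁻¹ a = d b⁻¹ ∈ C ⊓ C'
    have h1 : (c : G)⁻¹ * a = d * (b : G)⁻¹ := by
      have : (a : G) = c * d * (b : G)⁻¹ := by rw [← hab]; group
      rw [this]; group
    have hmem : (c : G)⁻¹ * a ∈ C ⊓ C' := by
      refine ⟨C.mul_mem (C.inv_mem c.2) a.2, ?_⟩
      rw [h1]; exact C'.mul_mem d.2 (C'.inv_mem b.2)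
    rw [hinf, Subgroup.mem_bot] at hmem
    have hac : (a : G) = c := by
      have : (c : G) * ((c : G)⁻¹ * a) = c * 1 := by rw [hmem]
      simpa using this
    have hbd : (b : G) = d := by
      rw [hac] at hab; exact mul_left_cancel hab
    exact Prod.ext (Subtype.ext hac) (Subtype.ext hbd)
  have := Nat.card_le_card_of_injective f hf
  rw [Nat.card_prod, hcard] at this
  rw [pow_two]; exact this

/-- If all commutators `q t q⁻¹ t⁻¹`, `q ∈ Q`, lie in `W`, then `|Q| ≤ |W| · |C_Q(t)|`. -/
theorem card_le_mul_of_commutator_mem [Finite G] {Q W : Subgroup G} (t : G)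
    (hW : ∀ q ∈ Q, q * t * q⁻¹ * t⁻¹ ∈ W) :
    Nat.card Q ≤ Nat.card W * Nat.card (Q ⊓ Subgroup.centralizer ({t} : Set G) : Subgroup G) := by
  classical
  -- f q = commutator; choose a representative for each value
  let f : Q → W := fun q => ⟨(q : G) * t * (q : G)⁻¹ * t⁻¹, hW q q.2⟩
  -- representative
  let rep : Q → Q := fun q => Classical.choose (⟨q, rfl⟩ : ∃ q' : Q, f q' = f q)
  have hrep : ∀ q : Q, f (rep q) = f q := fun q => Classical.choose_spec (⟨q, rfl⟩ : ∃ q' : Q, f q' = f q)
  have hrep_eq : ∀ q1 q2 : Q, f q1 = f q2 → rep q1 = rep q2 := by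
    intro q1 q2 h
    have : (fun q' : Q => f q' = f q1) = (fun q' : Q => f q' = f q2) := by
      funext q'; rw [h]
    simp only [rep]
    congr 1
  have hcent : ∀ q : Q, ((rep q : Q) : G)⁻¹ * (q : G) ∈ (Q ⊓ Subgroup.centralizer ({t} : Set G) : Subgroup G) := by
    intro q
    refine ⟨Q.mul_mem (Q.inv_mem (rep q).2) q.2, ?_⟩
    show _ ∈ Subgroup.centralizer ({t} : Set G)
    rw [Subgroup.mem_centralizer_iff]
    intro y hy
    rw [Set.mem_singleton_iff] at hy
    subst hy
    have h := hrep q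
    simp only [f, Subtype.mk.injEq] at h
    -- r t r⁻¹ t⁻¹ = q t q⁻¹ t⁻¹ ⇒ r t r⁻¹ = q t q⁻¹ ⇒ (r⁻¹ q) t = t (r⁻¹ q)
    have h2 : ((rep q : Q) : G) * y * ((rep q : Q) : G)⁻¹ = (q : G) * y * (q : G)⁻¹ := by
      have := congrArg (fun z => z * y) h
      simpa using this
    calc y * (((rep q : Q) : G)⁻¹ * (q : G))
        = ((rep q : Q) : G)⁻¹ * (((rep q : Q) : G) * y * ((rep q : Q) : G)⁻¹) * (q : G) := by group
      _ = ((rep q : Q) : G)⁻¹ * ((q : G) * y * (q : G)⁻¹) * (q : G) := by rw [h2]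
      _ = ((rep q : Q) : G)⁻¹ * (q : G) * y := by group
  let g : Q → W × (Q ⊓ Subgroup.centralizer ({t} : Set G) : Subgroup G) :=
    fun q => (f q, ⟨((rep q : Q) : G)⁻¹ * (q : G), hcent q⟩)
  have hg : Function.Injective g := by
    intro q1 q2 h
    simp only [g, Prod.mk.injEq, Subtype.mk.injEq] at h
    obtain ⟨h1, h2⟩ := h
    have hr : rep q1 = rep q2 := hrep_eq q1 q2 h1
    rw [hr] at h2
    exact Subtype.ext (mul_left_cancel h2)
  have := Nat.card_le_card_of_injective g hg
  rwa [Nat.card_prod] at this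

end Cfsg.Agent.Lib.Helper3.CP
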