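import Cfsg.Agent.Lib.Helper3.CPPairA

set_option autoImplicit false
set_option maxHeartbeats 4000000
set_option maxRecDepth 100000
set_option linter.unusedVariables false
set_option linter.unusedSectionVars false
set_option linter.style.longLine false
set_option linter.style.haveILetI false
set_option linter.deprecated false
set_option linter.unusedSimpArgs false

/-! # S3396, Pair Lemma: group-theoretic lemmas (cyclic quotients, second centre, fpf of order 3) -/

namespace Cfsg.Agent.Lib.Helper3.CP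

/-- In a cyclic group, if `B ≤ A` and all squares of elements of `A` lie in `B`, then `A ∖ B` lies in one
coset of `B`. -/
theorem cyclic_sq_coset {C : Type*} [Group C] [IsCyclic C] (A B : Subgroup C) (hBA : B ≤ A)
    (hsq : ∀ a ∈ A, a ^ 2 ∈ B) {a1 a2 : C} (h1 : a1 ∈ A) (h1' : a1 ∉ B) (h2 : a2 ∈ A) (h2' : a2 ∉ B) :
    a1⁻¹ * a2 ∈ B := by
  obtain ⟨g, hg⟩ := (inferInstance : IsCyclic ↥A)
  obtain ⟨i, hi⟩ := hg ⟨a1, h1⟩
  obtain ⟨j, hj⟩ := hg ⟨a2, h2⟩
  have hi' : (g : C) ^ i = a1 := by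
    have := congrArg (fun z : ↥A => (z : C)) hi
    simpa using this
  have hj' : (g : C) ^ j = a2 := by
    have := congrArg (fun z : ↥A => (z : C)) hj
    simpa using this
  have hg2 : (g : C) ^ (2 : ℤ) ∈ B := by
    have := hsq g g.2
    simpa using this
  have heven : ∀ k : ℤ, Even k → (g : C) ^ k ∈ B := by
    intro k hk
    obtain ⟨m, rfl⟩ := hk
    have : (g : C) ^ (m + m) = ((g : C) ^ (2 : ℤ)) ^ m := by
      rw [← zpow_mul]; congr 1; ring
    rw [this]
    exact B.zpow_mem hg2 m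
  have hiodd : ¬ Even i := fun h => h1' (hi' ▸ heven i h)
  have hjodd : ¬ Even j := fun h => h2' (hj' ▸ heven j h)
  have hij : Even (j - i) := by
    rw [Int.not_even_iff_odd] at hiodd hjodd
    exact Odd.sub_odd hjodd hiodd
  have : a1⁻¹ * a2 = (g : C) ^ (j - i) := by
    rw [← hi', ← hj', zpow_sub, ← zpow_neg]
    rw [← zpow_add, ← zpow_add]; congr 1; ring
  rw [this]
  exact heven _ hij

/-- A cyclic group has at most one element of order two. -/
theorem cyclic_unique_involution {C : Type*} [Group C] [IsCyclic C] {a b : C} (ha : a ≠ 1) (hb : b ≠ 1)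
    (ha2 : a ^ 2 = 1) (hb2 : b ^ 2 = 1) : a = b := by
  by_contra hab
  -- apply cyclic_sq_coset with A = ⊤ ... no; use B = ⊥ and A = {c | c^2 = 1}
  let A : Subgroup C :=
    { carrier := {c | c ^ 2 = 1}
      one_mem' := by simp
      mul_mem' := by
        intro c d hc hd
        have hcomm : c * d = d * c := by
          obtain ⟨g, hg⟩ := (inferInstance : IsCyclic C)
          obtain ⟨i, rfl⟩ := hg c
          obtain ⟨j, rfl⟩ := hg d
          rw [← zpow_add, ← zpow_add, add_comm]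
        show (c * d) ^ 2 = 1
        have hc' : c ^ 2 = 1 := hc
        have hd' : d ^ 2 = 1 := hd
        have hcd : Commute c d := hcomm
        rw [hcd.mul_pow, hc', hd', one_mul]
      inv_mem' := by
        intro c hc
        show (c⁻¹) ^ 2 = 1
        have hc' : c ^ 2 = 1 := hc
        rw [inv_pow, hc', inv_one] }
  have h := cyclic_sq_coset (C := C) A ⊥ bot_le (fun c hc => by
      have : c ^ 2 = 1 := hc
      rw [this]; exact Subgroup.one_mem _)
    (show a ∈ A from ha2) (by rwa [Subgroup.mem_bot]) (show b ∈ A from hb2) (by rwa [Subgroup.mem_bot])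
  rw [Subgroup.mem_bot] at h
  apply hab
  have : a * (a⁻¹ * b) = a * 1 := by rw [h]
  simpa using this.symm

/-- A normal subgroup of a nilpotent group that is not central contains a non-central element of the
second centre. -/
theorem exists_second_center {P : Type*} [Group P] [Group.IsNilpotent P] (N : Subgroup P) [N.Normal]
    (hN : ¬ N ≤ Subgroup.center P) :
    ∃ w ∈ N, w ∉ Subgroup.center P ∧ ∀ q : P, q * w * q⁻¹ * w⁻¹ ∈ Subgroup.center P := by
  classical
  have hex : ∃ n : ℕ, ∃ w ∈ N, w ∉ Subgroup.center P ∧ w ∈ Subgroup.upperCentralSeries P n := by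
    obtain ⟨n, hn⟩ := (Group.IsNilpotent.nilpotent (G := P))
    obtain ⟨w, hwN, hwZ⟩ := SetLike.not_le_iff_exists.mp hN
    exact ⟨n, w, hwN, hwZ, by rw [hn]; trivial⟩
  let n := Nat.find hex
  obtain ⟨w, hwN, hwZ, hwn⟩ := Nat.find_spec hex
  have hmin : ∀ m < n, ¬ ∃ w ∈ N, w ∉ Subgroup.center P ∧ w ∈ Subgroup.upperCentralSeries P m :=
    fun m hm => Nat.find_min hex hm
  -- n ≥ 2
  have hn2 : 2 ≤ n := by
    by_contra hlt
    push Not at hlt
    have hn01 : n = 0 ∨ n = 1 := by omega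
    rcases hn01 with h0 | h1
    · have : w ∈ Subgroup.upperCentralSeries P 0 := by rw [← h0]; exact hwn
      rw [Subgroup.upperCentralSeries_zero, Subgroup.mem_bot] at this
      exact hwZ (this ▸ Subgroup.one_mem _)
    · have : w ∈ Subgroup.upperCentralSeries P 1 := by rw [← h1]; exact hwn
      rw [Subgroup.upperCentralSeries_one] at this
      exact hwZ this
  -- claim n = 2
  have hn : n = 2 := by
    by_contra hne
    have hn3 : 3 ≤ n := by omega
    -- w ∉ Z_{n-1}
    have hw1 : w ∉ Subgroup.upperCentralSeries P (n - 1) := fun h =>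
      hmin (n - 1) (by omega) ⟨w, hwN, hwZ, h⟩
    have hsucc : n - 1 = (n - 2) + 1 := by omega
    rw [hsucc, Subgroup.mem_upperCentralSeries_succ_iff] at hw1
    push Not at hw1
    obtain ⟨y, hy⟩ := hw1
    -- c = w y w⁻¹ y⁻¹
    have hcN : w * y * w⁻¹ * y⁻¹ ∈ N := by
      have : w * y * w⁻¹ * y⁻¹ = w * (y * w⁻¹ * y⁻¹) := by group
      rw [this]
      exact N.mul_mem hwN (Subgroup.Normal.conj_mem inferInstance _ (N.inv_mem hwN) y)
    have hcn1 : w * y * w⁻¹ * y⁻¹ ∈ Subgroup.upperCentralSeries P (n - 1) := by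
      have hwn' : w ∈ Subgroup.upperCentralSeries P ((n - 1) + 1) := by
        have : (n - 1) + 1 = n := by omega
        rw [this]; exact hwn
      rw [Subgroup.mem_upperCentralSeries_succ_iff] at hwn'
      exact hwn' y
    have hcZ : w * y * w⁻¹ * y⁻¹ ∉ Subgroup.center P := by
      intro h
      apply hy
      have hle : Subgroup.upperCentralSeries P 1 ≤ Subgroup.upperCentralSeries P (n - 2) :=
        Subgroup.upperCentralSeries_mono P (by omega)
      rw [Subgroup.upperCentralSeries_one] at hle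
      exact hle h
    exact hmin (n - 1) (by omega) ⟨_, hcN, hcZ, hcn1⟩
  refine ⟨w, hwN, hwZ, fun q => ?_⟩
  have hw2 : w ∈ Subgroup.upperCentralSeries P (1 + 1) := by
    have : (1 + 1 : ℕ) = n := by omega
    rw [this]; exact hwn
  rw [Subgroup.mem_upperCentralSeries_succ_iff, Subgroup.upperCentralSeries_one] at hw2
  have := (Subgroup.center P).inv_mem (hw2 q)
  rw [commutatorElement_def] at this
  have heq : (w * q * w⁻¹ * q⁻¹)⁻¹ = q * w * q⁻¹ * w⁻¹ := by group
  rwa [heq] at this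

variable {G : Type*} [Group G]

/-- A fixed-point-free automorphism (conjugation by `x`) of order 3 of a finite subgroup `Q`:
`g · g^x · g^{x²} = 1`. -/
theorem fpf3 [Finite G] (Q : Subgroup G) (x : G) (hx3 : x ^ 3 = 1)
    (hxQ : ∀ q ∈ Q, x * q * x⁻¹ ∈ Q) (hfpf : ∀ q ∈ Q, x * q * x⁻¹ = q → q = 1) :
    ∀ g ∈ Q, g * (x * g * x⁻¹) * (x * (x * g * x⁻¹) * x⁻¹) = 1 := by
  intro g hg
  let L : Q → Q := fun h => ⟨(h : G)⁻¹ * (x * h * x⁻¹), Q.mul_mem (Q.inv_mem h.2) (hxQ h h.2)⟩
  have hL : Function.Injective L := by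
    intro h1 h2 h
    simp only [L, Subtype.mk.injEq] at h
    have hfix : x * ((h2 : G) * (h1 : G)⁻¹) * x⁻¹ = (h2 : G) * (h1 : G)⁻¹ := by
      have e1 : x * (h1 : G) * x⁻¹ = (h1 : G) * ((h2 : G)⁻¹ * (x * h2 * x⁻¹)) := by
        rw [← h]; group
      calc x * ((h2 : G) * (h1 : G)⁻¹) * x⁻¹ = (x * h2 * x⁻¹) * (x * (h1 : G) * x⁻¹)⁻¹ := by group
        _ = (x * h2 * x⁻¹) * ((h1 : G) * ((h2 : G)⁻¹ * (x * h2 * x⁻¹)))⁻¹ := by rw [e1]
        _ = (h2 : G) * (h1 : G)⁻¹ := by group
    have := hfpf _ (Q.mul_mem h2.2 (Q.inv_mem h1.2)) hfix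
    have h21 : (h2 : G) = h1 := by
      have := congrArg (fun z => z * (h1 : G)) this
      simpa using this
    exact Subtype.ext h21.symm
  have hsurj : Function.Surjective L := Finite.injective_iff_surjective.mp hL
  obtain ⟨h, hh⟩ := hsurj ⟨g, hg⟩
  have hg' : g = (h : G)⁻¹ * (x * h * x⁻¹) := by
    have := congrArg (fun z : Q => (z : G)) hh
    simpa [L] using this.symm
  have hx3' : x * x * x = 1 := by
    have : x ^ 3 = x * x * x := by rw [pow_succ, pow_two]
    rw [← this]; exact hx3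
  have hxinv : x⁻¹ * x⁻¹ * x⁻¹ = 1 := by
    have := congrArg (fun z => z⁻¹) hx3'
    simpa [mul_inv_rev, mul_assoc] using this
  rw [hg']
  calc (h : G)⁻¹ * (x * ↑h * x⁻¹) * (x * ((h : G)⁻¹ * (x * ↑h * x⁻¹)) * x⁻¹) *
        (x * (x * ((h : G)⁻¹ * (x * ↑h * x⁻¹)) * x⁻¹) * x⁻¹)
      = (h : G)⁻¹ * ((x * x * x) * ↑h * (x⁻¹ * x⁻¹ * x⁻¹)) := by group
    _ = 1 := by rw [hx3', hxinv]; group

end Cfsg.Agent.Lib.Helper3.CP
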