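import Cfsg.Agent.Lib.Helper3.CPPairB

set_option autoImplicit false
set_option maxHeartbeats 4000000
set_option maxRecDepth 100000
set_option linter.unusedVariables false
set_option linter.unusedSectionVars false
set_option linter.style.longLine false
set_option linter.style.haveILetI false
set_option linter.deprecated false
set_option linter.unusedSimpArgs false

/-! # S3396, Pair Lemma: API for `Loc` -/

namespace Cfsg.Agent.Lib.Helper3.CP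

variable {G : Type*} [Group G]

namespace Loc

variable {M Q T : Subgroup G} {x : G} {r : ℕ}

theorem QM (h : Loc M Q T x r) : Q ≤ M := h.QT.trans h.TM

theorem Qn' (h : Loc M Q T x r) : ∀ m ∈ M, ∀ q ∈ Q, m⁻¹ * q * m ∈ Q := by
  intro m hm q hq
  have := h.Qn m⁻¹ (M.inv_mem hm) q hq
  simpa using this

theorem normal_subgroupOf (h : Loc M Q T x r) : (Q.subgroupOf T).Normal := by
  constructor
  intro n hn g
  rw [Subgroup.mem_subgroupOf] at hn ⊢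
  have := h.Qn (g : G) (h.TM g.2) (n : G) hn
  simpa using this

/-- `T/Q` has at most one involution. -/
theorem uniq_inv (h : Loc M Q T x r) {a b : G} (ha : a ∈ T) (hb : b ∈ T) (haQ : a ∉ Q) (hbQ : b ∉ Q)
    (ha2 : a ^ 2 ∈ Q) (hb2 : b ^ 2 ∈ Q) : a⁻¹ * b ∈ Q := by
  haveI := h.normal_subgroupOf
  haveI : IsCyclic (↥T ⧸ Q.subgroupOf T) := by
    obtain ⟨u, hu, hcyc⟩ := h.cyc
    refine ⟨⟨QuotientGroup.mk ⟨u, hu⟩, fun y => ?_⟩⟩
    obtain ⟨a, rfl⟩ := QuotientGroup.mk_surjective y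
    obtain ⟨i, hi⟩ := hcyc (a : G) a.2
    refine ⟨(i : ℤ), ?_⟩
    show (QuotientGroup.mk ⟨u, hu⟩ : ↥T ⧸ Q.subgroupOf T) ^ (i : ℤ) = QuotientGroup.mk a
    rw [zpow_natCast, ← QuotientGroup.mk_pow, QuotientGroup.eq]
    rw [Subgroup.mem_subgroupOf]
    have : ((⟨u, hu⟩ ^ i : ↥T)⁻¹ * a : ↥T) = ((u ^ i)⁻¹ * (a : G) : G) := by simp
    rw [this]
    -- a (u^i)⁻¹ ∈ Q → (u^i)⁻¹ a ∈ Q by normality
    have hui : u ^ i ∈ M := h.TM (T.pow_mem hu i)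
    have := h.Qn' (u ^ i) hui _ hi
    have heq : (u ^ i)⁻¹ * ((a : G) * (u ^ i)⁻¹) * u ^ i = (u ^ i)⁻¹ * (a : G) := by group
    rwa [heq] at this
  have hmk : ∀ (c : G) (hc : c ∈ T), (QuotientGroup.mk ⟨c, hc⟩ : ↥T ⧸ Q.subgroupOf T) = 1 ↔ c ∈ Q := by
    intro c hc
    rw [QuotientGroup.eq_one_iff, Subgroup.mem_subgroupOf]
  have hA : (QuotientGroup.mk ⟨a, ha⟩ : ↥T ⧸ Q.subgroupOf T) ≠ 1 := fun h1 => haQ ((hmk a ha).mp h1)
  have hB : (QuotientGroup.mk ⟨b, hb⟩ : ↥T ⧸ Q.subgroupOf T) ≠ 1 := fun h1 => hbQ ((hmk b hb).mp h1)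
  have hA2 : (QuotientGroup.mk ⟨a, ha⟩ : ↥T ⧸ Q.subgroupOf T) ^ 2 = 1 := by
    rw [← QuotientGroup.mk_pow]
    exact (hmk (a ^ 2) (T.pow_mem ha 2)).mpr ha2
  have hB2 : (QuotientGroup.mk ⟨b, hb⟩ : ↥T ⧸ Q.subgroupOf T) ^ 2 = 1 := by
    rw [← QuotientGroup.mk_pow]
    exact (hmk (b ^ 2) (T.pow_mem hb 2)).mpr hb2
  have heq := cyclic_unique_involution hA hB hA2 hB2
  have : (QuotientGroup.mk (⟨a, ha⟩⁻¹ * ⟨b, hb⟩ : ↥T) : ↥T ⧸ Q.subgroupOf T) = 1 := by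
    rw [QuotientGroup.mk_mul, QuotientGroup.mk_inv, heq]; simp
  have h2 := (hmk (a⁻¹ * b) (T.mul_mem (T.inv_mem ha) hb)).mp this
  exact h2

/-- Consequence of `T/Q` cyclic: a subgroup `K ≤ Y ≤ T` containing `Y ∩ Q` and all squares of `Y`
has index at most 2 in `Y`. -/
theorem coset_of_sq (h : Loc M Q T x r) (Y K : Subgroup G) (hKY : K ≤ Y) (hYT : Y ≤ T) (hYQ : Y ⊓ Q ≤ K)
    (hsq : ∀ y ∈ Y, y ^ 2 ∈ K) {y1 y2 : G} (h1 : y1 ∈ Y) (h1' : y1 ∉ K) (h2 : y2 ∈ Y) (h2' : y2 ∉ K) :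
    y1⁻¹ * y2 ∈ K := by
  haveI := h.normal_subgroupOf
  haveI : IsCyclic (↥T ⧸ Q.subgroupOf T) := by
    obtain ⟨u, hu, hcyc⟩ := h.cyc
    refine ⟨⟨QuotientGroup.mk ⟨u, hu⟩, fun y => ?_⟩⟩
    obtain ⟨a, rfl⟩ := QuotientGroup.mk_surjective y
    obtain ⟨i, hi⟩ := hcyc (a : G) a.2
    refine ⟨(i : ℤ), ?_⟩
    show (QuotientGroup.mk ⟨u, hu⟩ : ↥T ⧸ Q.subgroupOf T) ^ (i : ℤ) = QuotientGroup.mk a
    rw [zpow_natCast, ← QuotientGroup.mk_pow, QuotientGroup.eq]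
    rw [Subgroup.mem_subgroupOf]
    have : ((⟨u, hu⟩ ^ i : ↥T)⁻¹ * a : ↥T) = ((u ^ i)⁻¹ * (a : G) : G) := by simp
    rw [this]
    have hui : u ^ i ∈ M := h.TM (T.pow_mem hu i)
    have := h.Qn' (u ^ i) hui _ hi
    have heq : (u ^ i)⁻¹ * ((a : G) * (u ^ i)⁻¹) * u ^ i = (u ^ i)⁻¹ * (a : G) := by group
    rwa [heq] at this
  let π : ↥T →* ↥T ⧸ Q.subgroupOf T := QuotientGroup.mk' (Q.subgroupOf T)
  let A : Subgroup (↥T ⧸ Q.subgroupOf T) := (Y.subgroupOf T).map π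
  let B : Subgroup (↥T ⧸ Q.subgroupOf T) := (K.subgroupOf T).map π
  have hBA : B ≤ A := Subgroup.map_mono (fun z hz => by
    rw [Subgroup.mem_subgroupOf] at hz ⊢; exact hKY hz)
  -- key: for y ∈ Y, π y ∈ B ↔ y ∈ K
  have key : ∀ (y : G) (hy : y ∈ Y), π ⟨y, hYT hy⟩ ∈ B → y ∈ K := by
    intro y hy hB
    obtain ⟨k, hk, hkeq⟩ := Subgroup.mem_map.mp hB
    rw [Subgroup.mem_subgroupOf] at hk
    have hq : (k⁻¹ * ⟨y, hYT hy⟩ : ↥T) ∈ Q.subgroupOf T := by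
      have : π (k⁻¹ * ⟨y, hYT hy⟩) = 1 := by
        rw [map_mul, map_inv, hkeq]; simp
      exact (QuotientGroup.eq_one_iff _).mp this
    rw [Subgroup.mem_subgroupOf] at hq
    have hq' : (k : G)⁻¹ * y ∈ Q := by simpa using hq
    have hY' : (k : G)⁻¹ * y ∈ Y := Y.mul_mem (Y.inv_mem (hKY hk)) hy
    have := hYQ ⟨hY', hq'⟩
    have h3 := K.mul_mem hk this
    simpa using h3
  have hsqA : ∀ a ∈ A, a ^ 2 ∈ B := by
    intro a ha
    obtain ⟨y, hy, rfl⟩ := Subgroup.mem_map.mp ha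
    rw [Subgroup.mem_subgroupOf] at hy
    rw [← map_pow]
    refine Subgroup.mem_map.mpr ⟨y ^ 2, ?_, rfl⟩
    rw [Subgroup.mem_subgroupOf]
    have := hsq (y : G) hy
    simpa using this
  have hA1 : π ⟨y1, hYT h1⟩ ∈ A := Subgroup.mem_map.mpr ⟨⟨y1, hYT h1⟩, by
    rw [Subgroup.mem_subgroupOf]; exact h1, rfl⟩
  have hA2 : π ⟨y2, hYT h2⟩ ∈ A := Subgroup.mem_map.mpr ⟨⟨y2, hYT h2⟩, by
    rw [Subgroup.mem_subgroupOf]; exact h2, rfl⟩
  have hB1 : π ⟨y1, hYT h1⟩ ∉ B := fun hb => h1' (key y1 h1 hb)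
  have hB2 : π ⟨y2, hYT h2⟩ ∉ B := fun hb => h2' (key y2 h2 hb)
  have hres := cyclic_sq_coset A B hBA hsqA hA1 hB1 hA2 hB2
  have hy12 : y1⁻¹ * y2 ∈ Y := Y.mul_mem (Y.inv_mem h1) h2
  apply key (y1⁻¹ * y2) hy12
  have : π ⟨y1⁻¹ * y2, hYT hy12⟩ = (π ⟨y1, hYT h1⟩)⁻¹ * π ⟨y2, hYT h2⟩ := by
    rw [← map_inv, ← map_mul]; rfl
  rw [this]; exact hres

theorem V_le_Q (h : Loc M Q T x r) : omegaZ Q ≤ Q := fun z hz => hz.1

theorem V_le_T (h : Loc M Q T x r) : omegaZ Q ≤ T := h.V_le_Q.trans h.QT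

theorem V_normal (h : Loc M Q T x r) : ∀ m ∈ M, ∀ z ∈ omegaZ Q, m * z * m⁻¹ ∈ omegaZ Q := by
  intro m hm z hz
  obtain ⟨hzQ, hzc, hz2⟩ := hz
  refine ⟨h.Qn m hm z hzQ, fun q hq => ?_, ?_⟩
  · have hq' := h.Qn' m hm q hq
    have := hzc _ hq'
    calc q * (m * z * m⁻¹) = m * ((m⁻¹ * q * m) * z) * m⁻¹ := by group
      _ = m * (z * (m⁻¹ * q * m)) * m⁻¹ := by rw [this]
      _ = m * z * m⁻¹ * q := by group
  · have : (m * z * m⁻¹) ^ 2 = m * z ^ 2 * m⁻¹ := by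
      rw [pow_two, pow_two]; group
    rw [this, hz2]; group

theorem V_ne_bot [Finite G] (h : Loc M Q T x r) : omegaZ Q ≠ ⊥ := by
  haveI : Fact (Nat.Prime 2) := ⟨Nat.prime_two⟩
  have hQ2 : IsPGroup 2 Q := h.T2.to_le h.QT
  haveI : Nontrivial Q := (Subgroup.nontrivial_iff_ne_bot Q).mpr h.Qne
  haveI := hQ2.center_nontrivial
  obtain ⟨z, hz⟩ := exists_ne (1 : Subgroup.center Q)
  -- z central in Q, z ≠ 1; its order is 2^(k+1); take the power of order 2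
  obtain ⟨k, hk⟩ := hQ2 (z : Q)
  have hz1 : ((z : Q) : G) ≠ 1 := by
    intro h1; apply hz; ext; exact_mod_cast h1
  -- minimal k with z^(2^k) = 1
  have hex : ∃ k : ℕ, ((z : Q) : G) ^ 2 ^ k = 1 := ⟨k, by
    have := congrArg (fun q : Q => (q : G)) hk
    simpa using this⟩
  classical
  let k0 := Nat.find hex
  have hk0 : ((z : Q) : G) ^ 2 ^ k0 = 1 := Nat.find_spec hex
  have hk0pos : k0 ≠ 0 := by
    intro h0
    have : ((z : Q) : G) ^ 2 ^ 0 = 1 := by rw [← h0]; exact hk0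
    rw [pow_zero, pow_one] at this
    exact hz1 this
  obtain ⟨j, hj⟩ := Nat.exists_eq_succ_of_ne_zero hk0pos
  have hjmin : ((z : Q) : G) ^ 2 ^ j ≠ 1 := Nat.find_min hex (by omega : j < k0)
  intro hbot
  apply hjmin
  have hmem : ((z : Q) : G) ^ 2 ^ j ∈ omegaZ Q := by
    refine ⟨Q.pow_mem (z : Q).2 _, fun q hq => ?_, ?_⟩
    · have hzc : ∀ q' : Q, q' * (z : Q) = (z : Q) * q' := fun q' =>
        (Subgroup.mem_center_iff.mp z.2 q')
      have hc : Commute q ((z : Q) : G) := by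
        have h1 := hzc ⟨q, hq⟩
        have h2 := congrArg (fun q : Q => (q : G)) h1
        show q * ((z : Q) : G) = ((z : Q) : G) * q
        simpa using h2
      exact (hc.pow_right _).eq
    · have hj' : j + 1 = k0 := hj.symm
      rw [← pow_mul, ← pow_succ, hj']; exact hk0
  rw [hbot, Subgroup.mem_bot] at hmem
  exact hmem

theorem cent_V [Finite G] (h : Loc M Q T x r) : Subgroup.centralizer (omegaZ Q : Set G) ≤ Q :=
  h.cent (omegaZ Q) h.V_le_Q h.V_ne_bot h.V_normal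

/-- The commutator `a⁻¹ (x a x⁻¹)` lies in `M`. -/
theorem comm_mem (h : Loc M Q T x r) {a : G} (ha : a ∈ T) : a⁻¹ * (x * a * x⁻¹) ∈ M :=
  M.mul_mem (M.inv_mem (h.TM ha)) (M.mul_mem (M.mul_mem h.xM (h.TM ha)) (M.inv_mem h.xM))

/-- The involution bound (B): for `a ∈ T ∖ Q` and an `M`-invariant `X ≤ Q`, `|C_X(a)|² ≤ |X|`. -/
theorem bound [Finite G] (h : Loc M Q T x r) (X : Subgroup G) (hXQ : X ≤ Q)
    (hXn : ∀ m ∈ M, ∀ g ∈ X, m * g * m⁻¹ ∈ X) {a : G} (ha : a ∈ T) (haQ : a ∉ Q) :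
    Nat.card (X ⊓ Subgroup.centralizer ({a} : Set G) : Subgroup G) ^ 2 ≤ Nat.card X := by
  set C : Subgroup G := X ⊓ Subgroup.centralizer ({a} : Set G) with hC
  set C' : Subgroup G := X ⊓ Subgroup.centralizer ({x * a * x⁻¹} : Set G) with hC'
  have hxinv : ∀ g ∈ X, x⁻¹ * g * x ∈ X := by
    intro g hg
    have := hXn x⁻¹ (M.inv_mem h.xM) g hg
    simpa using this
  have hcard : Nat.card C' = Nat.card C := by
    refine Nat.card_congr
      { toFun := fun g => ⟨x⁻¹ * (g : G) * x, hxinv _ g.2.1, ?_⟩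
        invFun := fun g => ⟨x * (g : G) * x⁻¹, hXn x h.xM _ g.2.1, ?_⟩
        left_inv := fun g => by ext; simp [mul_assoc]
        right_inv := fun g => by ext; simp [mul_assoc] }
    · show _ ∈ Subgroup.centralizer ({a} : Set G)
      rw [Subgroup.mem_centralizer_iff]
      intro y hy
      rw [Set.mem_singleton_iff] at hy; subst hy
      have h2 : (g : G) ∈ Subgroup.centralizer ({x * y * x⁻¹} : Set G) := g.2.2
      rw [Subgroup.mem_centralizer_iff] at h2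
      have := h2 (x * y * x⁻¹) (Set.mem_singleton _)
      calc y * (x⁻¹ * (g : G) * x) = x⁻¹ * ((x * y * x⁻¹) * (g : G)) * x := by group
        _ = x⁻¹ * ((g : G) * (x * y * x⁻¹)) * x := by rw [this]
        _ = x⁻¹ * (g : G) * x * y := by group
    · show _ ∈ Subgroup.centralizer ({x * a * x⁻¹} : Set G)
      rw [Subgroup.mem_centralizer_iff]
      intro y hy
      rw [Set.mem_singleton_iff] at hy; subst hy
      have h2 : (g : G) ∈ Subgroup.centralizer ({a} : Set G) := g.2.2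
      rw [Subgroup.mem_centralizer_iff] at h2
      have := h2 a (Set.mem_singleton _)
      calc x * a * x⁻¹ * (x * (g : G) * x⁻¹) = x * (a * (g : G)) * x⁻¹ := by group
        _ = x * ((g : G) * a) * x⁻¹ := by rw [this]
        _ = x * (g : G) * x⁻¹ * (x * a * x⁻¹) := by group
  have hinf : C ⊓ C' = ⊥ := by
    rw [eq_bot_iff]
    intro g hg
    rw [Subgroup.mem_bot]
    have hgX : g ∈ X := hg.1.1
    have hga : g ∈ Subgroup.centralizer ({a} : Set G) := hg.1.2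
    have hgxa : g ∈ Subgroup.centralizer ({x * a * x⁻¹} : Set G) := hg.2.2
    rw [Subgroup.mem_centralizer_iff] at hga hgxa
    have e1 := hga a (Set.mem_singleton _)
    have e2 := hgxa (x * a * x⁻¹) (Set.mem_singleton _)
    apply h.fpf (a⁻¹ * (x * a * x⁻¹)) (h.comm_mem ha) (h.comm a ha haQ) g (hXQ hgX)
    -- y g y⁻¹ = g
    have e1' : a⁻¹ * g = g * a⁻¹ := by
      calc a⁻¹ * g = a⁻¹ * (g * a) * a⁻¹ := by group
        _ = a⁻¹ * (a * g) * a⁻¹ := by rw [e1]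
        _ = g * a⁻¹ := by group
    calc a⁻¹ * (x * a * x⁻¹) * g * (a⁻¹ * (x * a * x⁻¹))⁻¹
        = a⁻¹ * ((x * a * x⁻¹) * g) * (x * a * x⁻¹)⁻¹ * a := by group
      _ = a⁻¹ * (g * (x * a * x⁻¹)) * (x * a * x⁻¹)⁻¹ * a := by rw [e2]
      _ = (a⁻¹ * g) * a := by group
      _ = (g * a⁻¹) * a := by rw [e1']
      _ = g := by group
  exact card_sq_le_of_inf_eq_bot (X := X) inf_le_left inf_le_left hinf hcard

end Loc

end Cfsg.Agent.Lib.Helper3.CP
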