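import Cfsg.Agent.Lib.Helper3.CPPairC

set_option autoImplicit false
set_option maxHeartbeats 4000000
set_option maxRecDepth 100000
set_option linter.unusedVariables false
set_option linter.unusedSectionVars false
set_option linter.style.longLine false
set_option linter.style.haveILetI false
set_option linter.deprecated false
set_option linter.unusedSimpArgs false

/-! # S3396, Pair Lemma: case (I) -/

namespace Cfsg.Agent.Lib.Helper3.CP

variable {G : Type*} [Group G] [Finite G]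

variable {M M' Q Q' T : Subgroup G} {x x' : G} {r r' : ℕ}

/-- An `M`-invariant nontrivial subgroup of `Q` of order at most 4 has order exactly 4. -/
theorem Loc.card_eq_four_of_le (h : Loc M Q T x r) (X : Subgroup G) (hXQ : X ≤ Q)
    (hXn : ∀ m ∈ M, ∀ g ∈ X, m * g * m⁻¹ ∈ X) (hX1 : X ≠ ⊥) (hX4 : Nat.card X ≤ 4) : Nat.card X = 4 := by
  haveI : Fact (Nat.Prime 2) := ⟨Nat.prime_two⟩
  have hX2 : IsPGroup 2 X := (h.T2.to_le h.QT).to_le hXQ
  obtain ⟨n, hn⟩ := hX2.exists_card_eq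
  have hn3 : n < 3 := by
    by_contra hge
    push Not at hge
    have : 2 ^ 3 ≤ 2 ^ n := Nat.pow_le_pow_right (by norm_num) hge
    omega
  have hx_fix : ∀ q ∈ X, x * q * x⁻¹ = q → q = 1 := fun q hq he =>
    h.fpf x h.xM h.xo q (hXQ hq) he
  interval_cases n
  · exfalso; apply hX1
    rw [pow_zero] at hn
    exact (Subgroup.card_eq_one).mp hn
  · exfalso
    rw [pow_one] at hn
    obtain ⟨y, hy, huniq⟩ := (Nat.card_eq_two_iff' (1 : X)).mp hn
    have hy' : (⟨x * (y : G) * x⁻¹, hXn x h.xM _ y.2⟩ : X) ≠ 1 := by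
      intro h1
      have h2 := congrArg (fun z : X => (z : G)) h1
      simp only [Subgroup.coe_one] at h2
      have : (y : G) = 1 := by
        have := congrArg (fun z => x⁻¹ * z * x) h2
        simpa [mul_assoc] using this
      exact hy (Subtype.ext this)
    have := huniq _ hy'
    have h3 := congrArg (fun z : X => (z : G)) this
    simp only at h3
    have := hx_fix _ y.2 h3
    exact hy (Subtype.ext this)
  · rw [hn]; norm_num

/-- If `t' ∈ Ω₁Z(Q') ∖ Q` then `|Ω₁Z(Q)| ≤ 4`. -/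
theorem V_card_le_four (h : Loc M Q T x r) (h' : Loc M' Q' T x' r') {t' : G} (ht' : t' ∈ omegaZ Q')
    (ht'Q : t' ∉ Q) : Nat.card (omegaZ Q) ≤ 4 := by
  have ht'T : t' ∈ T := h'.V_le_T ht'
  set V := omegaZ Q with hV
  set C : Subgroup G := V ⊓ Subgroup.centralizer ({t'} : Set G) with hC
  set K : Subgroup G := V ⊓ Q' with hK
  have hb := h.bound V h.V_le_Q h.V_normal ht'T ht'Q
  have hKC : K ≤ C := by
    intro v hv
    refine ⟨hv.1, ?_⟩
    show v ∈ Subgroup.centralizer ({t'} : Set G)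
    rw [Subgroup.mem_centralizer_iff]
    intro y hy
    rw [Set.mem_singleton_iff] at hy; subst hy
    exact (ht'.2.1 v hv.2).symm
  have hVK : Nat.card V ≤ 2 * Nat.card K := by
    apply card_le_two_mul_of_coset (inf_le_left)
    intro v1 hv1 hv1K v2 hv2 hv2K
    have h1Q : v1 ∉ Q' := fun hq => hv1K ⟨hv1, hq⟩
    have h2Q : v2 ∉ Q' := fun hq => hv2K ⟨hv2, hq⟩
    have e1 : v1 ^ 2 ∈ Q' := by rw [hv1.2.2]; exact Q'.one_mem
    have e2 : v2 ^ 2 ∈ Q' := by rw [hv2.2.2]; exact Q'.one_mem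
    exact ⟨V.mul_mem (V.inv_mem hv1) hv2,
      h'.uniq_inv (h.V_le_T hv1) (h.V_le_T hv2) h1Q h2Q e1 e2⟩
  have hKC' : Nat.card K ≤ Nat.card C := Subgroup.card_le_of_le hKC
  have hCpos : 0 < Nat.card C := Nat.card_pos
  -- c² ≤ v ≤ 2c
  have h1 : Nat.card C ^ 2 ≤ 2 * Nat.card C := le_trans hb (le_trans hVK (by omega))
  have hc2 : Nat.card C ≤ 2 := by
    by_contra hgt
    push Not at hgt
    have : 3 * Nat.card C ≤ Nat.card C ^ 2 := by
      rw [pow_two]; exact Nat.mul_le_mul_right _ hgt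
    omega
  omega

/-- Case (I) of the Pair Lemma: if `Ω₁Z(Q') ≰ Q` then `|Q| = 4`. -/
theorem caseI (h : Loc M Q T x r) (h' : Loc M' Q' T x' r') (hV' : ¬ omegaZ Q' ≤ Q) :
    Nat.card Q = 4 := by
  obtain ⟨t', ht', ht'Q⟩ := SetLike.not_le_iff_exists.mp hV'
  have ht'T : t' ∈ T := h'.V_le_T ht'
  -- V ≰ Q'
  have hV : ¬ omegaZ Q ≤ Q' := by
    intro hle
    apply ht'Q
    apply h.cent_V
    rw [Subgroup.mem_centralizer_iff]
    intro v hv
    exact ht'.2.1 v (hle hv)
  obtain ⟨t, ht, htQ'⟩ := SetLike.not_le_iff_exists.mp hV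
  have hV'4 : Nat.card (omegaZ Q') ≤ 4 := V_card_le_four h' h ht htQ'
  -- |V' ⊓ Q| ≤ 2
  set W : Subgroup G := omegaZ Q' ⊓ Q with hW
  have hWlt : W < omegaZ Q' := by
    refine lt_of_le_of_ne inf_le_left ?_
    intro heq
    apply ht'Q
    have : t' ∈ W := by rw [heq]; exact ht'
    exact this.2
  have hW2 : Nat.card W ≤ 2 := by
    have hdvd : Nat.card W ∣ Nat.card (omegaZ Q') := Subgroup.card_dvd_of_le inf_le_left
    have hlt : Nat.card W < Nat.card (omegaZ Q') := by
      by_contra hge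
      push Not at hge
      have hpos : 0 < Nat.card (omegaZ Q') := Nat.card_pos
      have hle := Nat.le_of_dvd hpos hdvd
      have heq : Nat.card W = Nat.card (omegaZ Q') := le_antisymm hle hge
      have := Subgroup.eq_of_le_of_card_ge (le_of_lt hWlt) (le_of_eq heq.symm)
      exact (ne_of_lt hWlt) this
    have hpos : 0 < Nat.card (omegaZ Q') := Nat.card_pos
    generalize Nat.card (omegaZ Q') = v at *
    generalize Nat.card W = d at *
    interval_cases v <;> (have := Nat.le_of_dvd (by norm_num) hdvd; interval_cases d <;> simp_all <;> omega)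
  -- |Q| ≤ |W| |C_Q(t')|
  have hcomm : ∀ q ∈ Q, q * t' * q⁻¹ * t'⁻¹ ∈ W := by
    intro q hq
    refine ⟨?_, ?_⟩
    · exact (omegaZ Q').mul_mem (h'.V_normal q (h'.TM (h.QT hq)) t' ht') ((omegaZ Q').inv_mem ht')
    · have : q * t' * q⁻¹ * t'⁻¹ = q * (t' * q⁻¹ * t'⁻¹) := by group
      rw [this]
      exact Q.mul_mem hq (h.Qn t' (h.TM ht'T) q⁻¹ (Q.inv_mem hq))
  have hQle := card_le_mul_of_commutator_mem (Q := Q) (W := W) t' hcomm
  have hb := h.bound Q le_rfl h.Qn ht'T ht'Q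
  set c := Nat.card (Q ⊓ Subgroup.centralizer ({t'} : Set G) : Subgroup G) with hc
  have hcpos : 0 < c := Nat.card_pos
  have hQ2c : Nat.card Q ≤ 2 * c := le_trans hQle (Nat.mul_le_mul_right _ hW2)
  have hc2 : c ≤ 2 := by
    by_contra hgt
    push Not at hgt
    have : 3 * c ≤ c ^ 2 := by
      rw [pow_two]; exact Nat.mul_le_mul_right _ hgt
    omega
  have hQ4 : Nat.card Q ≤ 4 := by omega
  exact h.card_eq_four_of_le Q le_rfl h.Qn h.Qne hQ4

end Cfsg.Agent.Lib.Helper3.CP
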