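import Cfsg.Agent.Lib.Helper3.CPPairD

set_option autoImplicit false
set_option maxHeartbeats 4000000
set_option maxRecDepth 100000
set_option linter.unusedVariables false
set_option linter.unusedSectionVars false
set_option linter.style.longLine false
set_option linter.style.haveILetI false
set_option linter.deprecated false
set_option linter.unusedSimpArgs false

/-! # S3396, Pair Lemma: abstract lemmas for case (II) -/

namespace Cfsg.Agent.Lib.Helper3.CP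

/-- A fixed-point-free "automorphism" `σ` of order 3 of `P` cannot coexist with an element `w` with
`[P, w]` central of exponent 2 and `C_P(w)` of index 2. -/
theorem no_fpf3_index2 {P : Type*} [Group P] (σ : P →* P) (hσ3 : ∀ g : P, σ (σ (σ g)) = g)
    (hfpf3 : ∀ g : P, g * σ g * σ (σ g) = 1) (w : P)
    (hcen : ∀ q p : P, p * (q * w * q⁻¹ * w⁻¹) = (q * w * q⁻¹ * w⁻¹) * p)
    (hsq : ∀ q : P, (q * w * q⁻¹ * w⁻¹) ^ 2 = 1)
    (hcoset : ∀ q1 q2 : P, q1 * w ≠ w * q1 → q2 * w ≠ w * q2 → (q1⁻¹ * q2) * w = w * (q1⁻¹ * q2))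
    (q0 : P) (hq0 : q0 * w ≠ w * q0) : False := by
  have χ1 : ∀ q : P, q * w * q⁻¹ * w⁻¹ = 1 ↔ q * w = w * q := by
    intro q
    constructor
    · intro h
      have := congrArg (fun z => z * w * q) h
      simpa [mul_assoc] using this
    · intro h
      calc q * w * q⁻¹ * w⁻¹ = (w * q) * q⁻¹ * w⁻¹ := by rw [h]
        _ = 1 := by group
  have χmul : ∀ p q : P, (p * q) * w * (p * q)⁻¹ * w⁻¹ = (p * w * p⁻¹ * w⁻¹) * (q * w * q⁻¹ * w⁻¹) := by
    intro p q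
    have h1 := hcen q p
    calc (p * q) * w * (p * q)⁻¹ * w⁻¹ = p * (q * w * q⁻¹ * w⁻¹) * p⁻¹ * (p * w * p⁻¹ * w⁻¹) := by group
      _ = (q * w * q⁻¹ * w⁻¹) * p * p⁻¹ * (p * w * p⁻¹ * w⁻¹) := by rw [h1]
      _ = (q * w * q⁻¹ * w⁻¹) * (p * w * p⁻¹ * w⁻¹) := by group
      _ = (p * w * p⁻¹ * w⁻¹) * (q * w * q⁻¹ * w⁻¹) := (hcen q _).symm
  -- σ preserves centrality
  have hcenσ : ∀ z : P, (∀ p : P, p * z = z * p) → ∀ p : P, p * σ z = σ z * p := by
    intro z hz p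
    have hp : p = σ (σ (σ p)) := (hσ3 p).symm
    calc p * σ z = σ (σ (σ p)) * σ z := by rw [← hp]
      _ = σ (σ (σ p) * z) := by rw [map_mul]
      _ = σ (z * σ (σ p)) := by rw [hz]
      _ = σ z * σ (σ (σ p)) := by rw [map_mul]
      _ = σ z * p := by rw [← hp]
  -- κ(q, σ w) and κ(q, σ² w)
  have κ1 : ∀ q : P, q * σ w * q⁻¹ * (σ w)⁻¹ = σ (σ (σ q) * w * (σ (σ q))⁻¹ * w⁻¹) := by
    intro q
    rw [map_mul, map_mul, map_mul, map_inv, map_inv, hσ3]
  have κ2 : ∀ q : P, q * σ (σ w) * q⁻¹ * (σ (σ w))⁻¹ = σ (σ (σ q * w * (σ q)⁻¹ * w⁻¹)) := by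
    intro q
    rw [map_mul, map_mul, map_mul, map_inv, map_inv, map_mul, map_mul, map_mul, map_inv, map_inv, hσ3]
  have κmul : ∀ q y z : P, (∀ p : P, p * (q * z * q⁻¹ * z⁻¹) = (q * z * q⁻¹ * z⁻¹) * p) →
      q * (y * z) * q⁻¹ * (y * z)⁻¹ = (q * y * q⁻¹ * y⁻¹) * (q * z * q⁻¹ * z⁻¹) := by
    intro q y z hz
    have := hz y
    calc q * (y * z) * q⁻¹ * (y * z)⁻¹ = (q * y * q⁻¹ * y⁻¹) * (y * (q * z * q⁻¹ * z⁻¹)) * y⁻¹ := by group
      _ = (q * y * q⁻¹ * y⁻¹) * ((q * z * q⁻¹ * z⁻¹) * y) * y⁻¹ := by rw [this]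
      _ = (q * y * q⁻¹ * y⁻¹) * (q * z * q⁻¹ * z⁻¹) := by group
  have star : ∀ q : P, (q * w * q⁻¹ * w⁻¹) * σ (σ (σ q) * w * (σ (σ q))⁻¹ * w⁻¹) *
      σ (σ (σ q * w * (σ q)⁻¹ * w⁻¹)) = 1 := by
    intro q
    have hw3 := hfpf3 w
    have hc1 : ∀ p : P, p * (q * σ w * q⁻¹ * (σ w)⁻¹) = (q * σ w * q⁻¹ * (σ w)⁻¹) * p := by
      rw [κ1]
      exact hcenσ _ (hcen _)
    have hc2 : ∀ p : P, p * (q * σ (σ w) * q⁻¹ * (σ (σ w))⁻¹) = (q * σ (σ w) * q⁻¹ * (σ (σ w))⁻¹) * p := by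
      rw [κ2]
      exact hcenσ _ (hcenσ _ (hcen _))
    have e1 := κmul q (w * σ w) (σ (σ w)) hc2
    have e2 := κmul q w (σ w) hc1
    rw [hw3] at e1
    rw [e2, κ1, κ2] at e1
    rw [← e1]; group
  -- c
  have hc1 : q0 * w * q0⁻¹ * w⁻¹ ≠ 1 := fun h => hq0 ((χ1 q0).mp h)
  have hval : ∀ q : P, q * w ≠ w * q → q * w * q⁻¹ * w⁻¹ = q0 * w * q0⁻¹ * w⁻¹ := by
    intro q hq
    have h1 := hcoset q0 q hq0 hq
    have h2 := (χ1 _).mpr h1
    have h3 := χmul q0 (q0⁻¹ * q)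
    rw [h2, mul_one] at h3
    rw [← h3]
    congr 2 <;> group
  set c := q0 * w * q0⁻¹ * w⁻¹ with hc
  have hc2 : c * c = 1 := by
    have := hsq q0
    rwa [pow_two] at this
  have hc3 := hfpf3 c
  have hσinj : ∀ g : P, σ g = 1 → g = 1 := by
    intro g hg
    have := hσ3 g
    rw [hg, map_one, map_one] at this
    exact this.symm
  -- invariance
  have hinv : ∀ q : P, q * w = w * q → σ q * w = w * σ q := by
    intro q hq
    by_contra hne
    have h0 := (χ1 q).mpr hq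
    have h2 := hval _ hne
    have hs := star q
    rw [h0, one_mul, h2] at hs
    by_cases h1 : σ (σ q) * w = w * σ (σ q)
    · rw [(χ1 _).mpr h1, map_one, one_mul] at hs
      exact hc1 (hσinj _ (hσinj _ hs))
    · rw [hval _ h1] at hs
      -- σ c * σ σ c = 1, c σc σσc = 1 → c = 1
      apply hc1
      rw [mul_assoc, hs, mul_one] at hc3
      exact hc3
  have hinv' : ∀ q : P, q * w ≠ w * q → σ q * w ≠ w * σ q := by
    intro q hq h1
    apply hq
    have := hinv _ (hinv _ h1)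
    rwa [hσ3] at this
  have hq1 := hinv' q0 hq0
  have hq2 := hinv' _ hq1
  have h3 := hfpf3 q0
  have e := χmul (q0 * σ q0) (σ (σ q0))
  rw [χmul q0 (σ q0), hval _ hq1, hval _ hq2, h3] at e
  apply hc1
  have : (1 : P) * w * 1⁻¹ * w⁻¹ = 1 := by group
  rw [this] at e
  -- 1 = c*c*c
  rw [hc2, one_mul] at e
  exact e.symm

variable {G : Type*} [Group G]

/-- "Elementary abelian 2-subgroup" (elementwise form). -/
def IsEA (A : Subgroup G) : Prop :=
  (∀ a ∈ A, ∀ b ∈ A, a * b = b * a) ∧ ∀ a ∈ A, a ^ 2 = 1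

/-- The product of two elementwise-commuting subgroups. -/
def prodSub (U W : Subgroup G) (hc : ∀ u ∈ U, ∀ w ∈ W, u * w = w * u) : Subgroup G where
  carrier := {g | ∃ u ∈ U, ∃ w ∈ W, g = u * w}
  one_mem' := ⟨1, U.one_mem, 1, W.one_mem, by simp⟩
  mul_mem' := by
    rintro _ _ ⟨u1, hu1, w1, hw1, rfl⟩ ⟨u2, hu2, w2, hw2, rfl⟩
    refine ⟨u1 * u2, U.mul_mem hu1 hu2, w1 * w2, W.mul_mem hw1 hw2, ?_⟩
    have := hc u2 hu2 w1 hw1
    calc u1 * w1 * (u2 * w2) = u1 * (w1 * u2) * w2 := by group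
      _ = u1 * (u2 * w1) * w2 := by rw [this]
      _ = u1 * u2 * (w1 * w2) := by group
  inv_mem' := by
    rintro _ ⟨u, hu, w, hw, rfl⟩
    refine ⟨u⁻¹, U.inv_mem hu, w⁻¹, W.inv_mem hw, ?_⟩
    have := hc u hu w hw
    rw [this]; group

theorem le_prodSub_left (U W : Subgroup G) (hc : ∀ u ∈ U, ∀ w ∈ W, u * w = w * u) : U ≤ prodSub U W hc :=
  fun u hu => ⟨u, hu, 1, W.one_mem, by simp⟩

theorem le_prodSub_right (U W : Subgroup G) (hc : ∀ u ∈ U, ∀ w ∈ W, u * w = w * u) : W ≤ prodSub U W hc :=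
  fun w hw => ⟨1, U.one_mem, w, hw, by simp⟩

theorem prodSub_le (U W X : Subgroup G) (hc : ∀ u ∈ U, ∀ w ∈ W, u * w = w * u) (hU : U ≤ X) (hW : W ≤ X) :
    prodSub U W hc ≤ X := by
  rintro _ ⟨u, hu, w, hw, rfl⟩
  exact X.mul_mem (hU hu) (hW hw)

theorem IsEA.prodSub {U W : Subgroup G} (hU : IsEA U) (hW : IsEA W) (hc : ∀ u ∈ U, ∀ w ∈ W, u * w = w * u) :
    IsEA (prodSub U W hc) := by
  constructor
  · rintro _ ⟨u1, hu1, w1, hw1, rfl⟩ _ ⟨u2, hu2, w2, hw2, rfl⟩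
    have e1 := hc u2 hu2 w1 hw1
    have e2 := hc u1 hu1 w2 hw2
    have e3 := hU.1 u1 hu1 u2 hu2
    have e4 := hW.1 w1 hw1 w2 hw2
    calc u1 * w1 * (u2 * w2) = u1 * (w1 * u2) * w2 := by group
      _ = u1 * (u2 * w1) * w2 := by rw [e1]
      _ = (u1 * u2) * (w1 * w2) := by group
      _ = (u2 * u1) * (w2 * w1) := by rw [e3, e4]
      _ = u2 * (u1 * w2) * w1 := by group
      _ = u2 * (w2 * u1) * w1 := by rw [e2]
      _ = u2 * w2 * (u1 * w1) := by group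
  · rintro _ ⟨u, hu, w, hw, rfl⟩
    have e := hc u hu w hw
    have hu2 := hU.2 u hu
    have hw2 := hW.2 w hw
    rw [pow_two] at hu2 hw2 ⊢
    calc u * w * (u * w) = u * (w * u) * w := by group
      _ = u * (u * w) * w := by rw [e]
      _ = (u * u) * (w * w) := by group
      _ = 1 := by rw [hu2, hw2, one_mul]

/-- Counting: `U, W ≤ B`, `|B| ≤ |A| ≤ 2|U|` gives `|W| ≤ 2 |U ∩ W|`. -/
theorem card_le_two_mul_inf [Finite G] (U W A B : Subgroup G) (hUB : U ≤ B) (hWB : W ≤ B)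
    (hBA : Nat.card B ≤ Nat.card A) (hAU : Nat.card A ≤ 2 * Nat.card U) :
    Nat.card W ≤ 2 * Nat.card (U ⊓ W : Subgroup G) := by
  have h1 : U.relIndex W ≤ U.relIndex B :=
    Subgroup.relIndex_le_of_le_right hWB (Subgroup.index_ne_zero_of_finite)
  have h2 : Nat.card U * U.relIndex B = Nat.card B := by
    have := Subgroup.relIndex_mul_relIndex (⊥ : Subgroup G) U B bot_le hUB
    rwa [Subgroup.relIndex_bot_left, Subgroup.relIndex_bot_left] at this
  have h3 : Nat.card (U ⊓ W : Subgroup G) * U.relIndex W = Nat.card W := by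
    have := Subgroup.relIndex_mul_relIndex (⊥ : Subgroup G) (U ⊓ W) W bot_le inf_le_right
    rwa [Subgroup.relIndex_bot_left, Subgroup.relIndex_bot_left, Subgroup.inf_relIndex_right] at this
  have hUpos : 0 < Nat.card U := Nat.card_pos
  have h4 : U.relIndex B ≤ 2 := by
    have : Nat.card U * U.relIndex B ≤ Nat.card U * 2 := by
      rw [h2]; omega
    exact Nat.le_of_mul_le_mul_left this hUpos
  calc Nat.card W = Nat.card (U ⊓ W : Subgroup G) * U.relIndex W := h3.symm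
    _ ≤ Nat.card (U ⊓ W : Subgroup G) * 2 := Nat.mul_le_mul_left _ (h1.trans h4)
    _ = 2 * Nat.card (U ⊓ W : Subgroup G) := by ring

/-- An elementary abelian subgroup of `T` of maximal order. -/
theorem exists_max_EA [Finite G] (T : Subgroup G) : ∃ A : Subgroup G, A ≤ T ∧ IsEA A ∧
    ∀ B : Subgroup G, B ≤ T → IsEA B → Nat.card B ≤ Nat.card A := by
  classical
  have hfin : Finite (Subgroup G) := inferInstance
  let S : Set (Subgroup G) := {B | B ≤ T ∧ IsEA B}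
  have hS : S.Finite := Set.toFinite S
  have hne : S.Nonempty := ⟨⊥, bot_le, by
    constructor
    · intro a ha b hb
      rw [Subgroup.mem_bot] at ha hb; subst ha; subst hb; rfl
    · intro a ha
      rw [Subgroup.mem_bot] at ha; subst ha; simp⟩
  obtain ⟨A, hA, hmax⟩ := Set.exists_max_image S (fun B => Nat.card B) hS hne
  exact ⟨A, hA.1, hA.2, fun B hBT hB => hmax B ⟨hBT, hB⟩⟩

end Cfsg.Agent.Lib.Helper3.CP
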