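import Mathlib
import Cfsg.Prelude.Def_Characters
import Cfsg.Agent.Lib.Helper3.CT12

set_option autoImplicit false
set_option maxHeartbeats 4000000
set_option maxRecDepth 100000
set_option linter.unusedVariables false
set_option linter.unusedSectionVars false
set_option linter.style.haveILetI false
set_option linter.deprecated false

/-! # Freeness when the fully ramified character is induced from `K`: the core step -/

namespace Cfsg.Agent.Lib.Helper3.CT

open Cfsg Cfsg.Agent.Lib.Helper6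
open scoped ComplexConjugate

variable {H : Type*} [Group H] [Fintype H]

theorem core_step (Z K V : Subgroup H) [hZ : Z.Normal] [hK : K.Normal] [Fintype Z] [Fintype K]
    (hZK : Z ≤ K) (p : ℕ) [hp : Fact p.Prime]
    {χ : H → ℂ} (hχ : Cfsg.IsIrrCharacter H χ) (θ₀ : H → ℂ)
    (hθ : Cfsg.IsIrrCharacter Z (fun z : Z => θ₀ z)) (e : ℕ)
    (he : e ^ 2 = Z.index) (hres : ∀ z : Z, χ z = (e : ℂ) * θ₀ z)
    {φ : K → ℂ} (hφ : Cfsg.IsIrrCharacter K φ) (hind : Cfsg.indFun K φ = χ)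
    (hV : Adm p Z V)
    (F : H → ℂ) (hF : Good Z θ₀ (V ⊓ K) F) (t : H) (ht : t ∈ V) (htp : t ^ p ∈ K)
    (hinv : ∀ a ∈ V ⊓ K, F (t * a * t⁻¹) = F a) : t ∈ K := by
  classical
  by_contra htK
  obtain ⟨r, hr⟩ := degree_restrict Z K V hZK p hχ θ₀ hθ e he hres hφ hind hV F hF
  obtain ⟨hZV, hVp, hVi⟩ := hV
  haveI : Fintype ((V ⊓ K).subgroupOf K) := Fintype.ofFinite _
  haveI : Fintype (Cfsg.IrrCharacter K) := Fintype.ofFinite _
  have hZA : Z ≤ V ⊓ K := le_inf hZV hZK
  have hirr : Cfsg.IsIrrCharacter H (Cfsg.indFun K φ) := by rw [hind]; exact hχ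
  have hνirr : Cfsg.IsIrrCharacter ((V ⊓ K).subgroupOf K)
      (fun n : (V ⊓ K).subgroupOf K => F ((n : K) : H)) :=
    IsIrrCharacter.comp_mulEquiv (Subgroup.subgroupOfEquivOfLe inf_le_right) hF.1
  have hΨ : Cfsg.IsCharacter K (Cfsg.indFun ((V ⊓ K).subgroupOf K)
      (fun n : (V ⊓ K).subgroupOf K => F ((n : K) : H))) :=
    IsCharacter.indFun _ (IsIrrCharacter.isCharacter hνirr)
  obtain ⟨m, hm, hmc⟩ := IsCharacter.exists_mult hΨ
  -- constituents lie over `θ`, hence are conjugates of `φ`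
  have hconjβ : ∀ β : Cfsg.IrrCharacter K, m β ≠ 0 → ∃ h : H, (β : K → ℂ) = conjFun K hK φ h := by
    intro β hβ
    have h1 : Cfsg.classInner (Cfsg.indFun ((V ⊓ K).subgroupOf K)
        (fun n : (V ⊓ K).subgroupOf K => F ((n : K) : H))) (β : K → ℂ) ≠ 0 := by
      rw [hmc]; exact_mod_cast hβ
    rw [Cfsg.Agent.S0146.result _ _ _ (IsIrrCharacter.isClassFunction β.2)] at h1
    have h2 : Cfsg.classInner (fun n : (V ⊓ K).subgroupOf K => (β : K → ℂ) n)
        (fun n : (V ⊓ K).subgroupOf K => F ((n : K) : H)) ≠ 0 := by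
      intro h0
      apply h1
      have := classInner_conj_symm (fun n : (V ⊓ K).subgroupOf K => (β : K → ℂ) n)
        (fun n : (V ⊓ K).subgroupOf K => F ((n : K) : H))
      rw [h0] at this
      rw [← this]; simp
    have h3 := over_theta_of_over Z K (V ⊓ K) hZA inf_le_right θ₀ hθ F hF β.2 h2
    exact exists_conj_of_over Z K hK hZK hχ hθ e he hres hφ hind β.2 h3
  -- the permutation
  let σ : Cfsg.IrrCharacter K → Cfsg.IrrCharacter K := fun β =>
    ⟨conjFun K hK (β : K → ℂ) t, IsIrrCharacter.conjFun K hK β.2 t⟩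
  have hiter : ∀ n : ℕ, ∀ β : Cfsg.IrrCharacter K,
      ((σ^[n] β : Cfsg.IrrCharacter K) : K → ℂ) = conjFun K hK (β : K → ℂ) (t ^ n) := by
    intro n
    induction n with
    | zero => intro β; rw [pow_zero, conjFun_one]; rfl
    | succ n ih =>
      intro β
      rw [Function.iterate_succ_apply, ih (σ β)]
      show conjFun K hK (conjFun K hK (β : K → ℂ) t) (t ^ n) = _
      rw [conjFun_conjFun, pow_succ']
  have hσ : σ^[p] = id := by
    funext β
    apply Subtype.ext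
    rw [hiter p β]
    exact conjFun_of_mem K hK (IsIrrCharacter.isClassFunction β.2) htp
  have hAmem : ∀ a : K, a ∈ (V ⊓ K).subgroupOf K →
      (⟨t * a * t⁻¹, hK.conj_mem a a.2 t⟩ : K) ∈ (V ⊓ K).subgroupOf K := by
    intro a ha
    rw [Subgroup.mem_subgroupOf] at ha ⊢
    refine ⟨?_, hK.conj_mem a a.2 t⟩
    exact V.mul_mem (V.mul_mem ht ha.1) (V.inv_mem ht)
  have hw : ∀ β, m (σ β) = m β := by
    intro β
    have h1 := classInner_indFun_conjFun_eq K hK ((V ⊓ K).subgroupOf K)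
      (fun n : (V ⊓ K).subgroupOf K => F ((n : K) : H)) t hAmem
      (fun a ha => hinv a (Subgroup.mem_subgroupOf.mp ha)) β.2
    have h2 := hmc (σ β)
    have h3 := hmc β
    have h4 : ((σ β : Cfsg.IrrCharacter K) : K → ℂ) = conjFun K hK (β : K → ℂ) t := rfl
    rw [h4, h1, h3] at h2
    exact_mod_cast h2.symm
  have hfix : ∀ β, m β ≠ 0 → σ β ≠ β := by
    intro β hβ heq
    obtain ⟨h, hh⟩ := hconjβ β hβ
    have h1 : conjFun K hK (β : K → ℂ) t = (β : K → ℂ) := congrArg Subtype.val heq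
    rw [hh] at h1
    exact conj_ne_of_not_mem K hK hφ hirr h t htK h1
  have hdvd : p ∣ ∑ β, m β := dvd_sum_of_perm p σ hσ m hw hfix
  -- degrees
  have hdeg : ∀ β : Cfsg.IrrCharacter K, m β ≠ 0 → (β : K → ℂ) 1 = φ 1 := by
    intro β hβ
    obtain ⟨h, hh⟩ := hconjβ β hβ
    rw [hh, conjFun_apply_one]
  have h1 := indFun_one ((V ⊓ K).subgroupOf K) (fun n : (V ⊓ K).subgroupOf K => F ((n : K) : H))
  have h2 := apply_eq_sum_mult hm 1
  rw [h1] at h2
  have h3 : ∑ β : Cfsg.IrrCharacter K, (m β : ℂ) * (β : K → ℂ) 1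
      = ((∑ β, m β : ℕ) : ℂ) * φ 1 := by
    push_cast
    rw [Finset.sum_mul]
    apply Finset.sum_congr rfl
    intro β _
    by_cases h0 : m β = 0
    · rw [h0]; simp
    · rw [hdeg β h0]
  rw [h3, hr] at h2
  have hF1 : F 1 ≠ 0 := by
    have := IsIrrCharacter.apply_one_ne_zero hF.1
    exact this
  have h4 : ((((V ⊓ K).subgroupOf K).index : ℕ) : ℂ) = (((∑ β, m β) * r : ℕ) : ℂ) := by
    have h2' : ((((V ⊓ K).subgroupOf K).index : ℕ) : ℂ) * F 1
        = ((∑ β, m β : ℕ) : ℂ) * ((r : ℂ) * F 1) := h2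
    push_cast
    have h6 : ((((V ⊓ K).subgroupOf K).index : ℕ) : ℂ) * F 1
        = ((∑ β, m β : ℕ) : ℂ) * (r : ℂ) * F 1 := by
      rw [h2']; push_cast; ring
    have := mul_right_cancel₀ hF1 h6
    rw [this]; push_cast; rfl
  have h5 : ((V ⊓ K).subgroupOf K).index = (∑ β, m β) * r := by exact_mod_cast h4
  have h6 : p ∣ ((V ⊓ K).subgroupOf K).index := by
    rw [h5]; exact Dvd.dvd.mul_right hdvd r
  have h7 : ((V ⊓ K).subgroupOf K).index = V.relIndex K := Subgroup.inf_relIndex_right V K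
  rw [h7] at h6
  exact hVi (dvd_trans h6 (relIndex_dvd_index_of_normal_right V K))

end Cfsg.Agent.Lib.Helper3.CT
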