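import Mathlib
import Cfsg.Prelude.Def_Characters
import Cfsg.Agent.Lib.Helper3.CT8

set_option autoImplicit false
set_option maxHeartbeats 4000000
set_option maxRecDepth 100000
set_option linter.unusedVariables false
set_option linter.unusedSectionVars false
set_option linter.style.haveILetI false
set_option linter.deprecated false

/-! # Cyclic Sylow subgroups of sections of groups of central type have complements -/

namespace Cfsg.Agent.Lib.Helper3.CT

open Cfsg Cfsg.Agent.Lib.Helper6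
open scoped ComplexConjugate

variable {H : Type*} [Group H]

/-- the admissible subgroup attached to a Sylow subgroup of `H` -/
theorem adm_sylow_sup [Finite H] (p : ℕ) [hp : Fact p.Prime] (Z : Subgroup H) [Z.Normal]
    (S : Sylow p H) : Adm p Z ((S : Subgroup H) ⊔ Z) := by
  refine ⟨le_sup_right, ?_, ?_⟩
  · rw [Subgroup.relIndex_sup_right]
    obtain ⟨n, hn⟩ := IsPGroup.iff_card.mp S.2
    have h1 : Z.relIndex (S : Subgroup H) ∣ p ^ n := hn ▸ Subgroup.relIndex_dvd_card _ _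
    exact exists_pow_of_dvd_pow hp.out h1
  · intro h
    exact S.not_dvd_index (dvd_trans h (Subgroup.index_dvd_of_le le_sup_left))

/-- elements of an admissible subgroup have `p`-power order modulo `Z` -/
theorem adm_pow_mem [Finite H] (p : ℕ) (Z V : Subgroup H) [hZ : Z.Normal] (hV : Adm p Z V) :
    ∃ a : ℕ, ∀ v ∈ V, v ^ (p ^ a) ∈ Z := by
  obtain ⟨hZV, ⟨a, ha⟩, _⟩ := hV
  refine ⟨a, fun v hv => ?_⟩
  haveI : (Z.subgroupOf V).Normal := hZ.subgroupOf V
  have h1 := Subgroup.pow_index_mem (Z.subgroupOf V) (⟨v, hv⟩ : V)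
  have h2 : (Z.subgroupOf V).index = p ^ a := ha
  rw [h2, Subgroup.mem_subgroupOf] at h1
  simpa using h1

theorem complement_of_cyclic [Finite H] (Z : Subgroup H) [hZ : Z.Normal] (χ : Cfsg.IrrCharacter H)
    (hfr : ∃ (θ : Cfsg.IrrCharacter ↥Z) (e : ℕ), e ^ 2 = Z.index ∧
      ∀ z : ↥Z, (χ : H → ℂ) z = (e : ℂ) * (θ : ↥Z → ℂ) z)
    (K : Subgroup H) [hK : K.Normal] (hZK : Z ≤ K) (p : ℕ) [hp : Fact p.Prime]
    (P : Sylow p (H ⧸ K)) (hcyc : IsCyclic P) :
    ∃ M : Subgroup (H ⧸ K), M.IsComplement' (P : Subgroup (H ⧸ K)) := by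
  classical
  haveI : Fintype H := Fintype.ofFinite H
  haveI : Fintype Z := Fintype.ofFinite Z
  obtain ⟨θ, e, he, hres⟩ := hfr
  set θ₀ : H → ℂ := Cfsg.extendByZero Z (θ : Z → ℂ) with hθ₀
  have hθ₀Z : (fun z : Z => θ₀ z) = (θ : Z → ℂ) := by
    funext z
    rw [hθ₀]
    unfold Cfsg.extendByZero
    exact Subtype.val_injective.extend_apply _ _ z
  have hθ : Cfsg.IsIrrCharacter Z (fun z : Z => θ₀ z) := by rw [hθ₀Z]; exact θ.2
  have hres' : ∀ z : Z, (χ : H → ℂ) z = (e : ℂ) * θ₀ z := by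
    intro z
    rw [hres z, ← hθ₀Z]
  have hinv : ∀ (h : H) (z : H), z ∈ Z → θ₀ (h * z * h⁻¹) = θ₀ z := by
    intro h z hz
    have h1 := Cfsg.Agent.Lib.Helper3.FullyRam.invariant_of_ramified Z χ.2 e he hres h ⟨z, hz⟩
    have h2 : θ₀ (h * z * h⁻¹) = (θ : Z → ℂ) ⟨h * z * h⁻¹, hZ.conj_mem z hz h⟩ :=
      congrFun hθ₀Z ⟨h * z * h⁻¹, hZ.conj_mem z hz h⟩
    have h3 : θ₀ z = (θ : Z → ℂ) ⟨z, hz⟩ := congrFun hθ₀Z ⟨z, hz⟩
    rw [h2, h3]
    exact h1
  -- a Sylow subgroup of `H` mapping onto `P`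
  have hπs : Function.Surjective (QuotientGroup.mk' K) := QuotientGroup.mk'_surjective K
  obtain ⟨S, hS⟩ := Sylow.mapSurjective_surjective hπs p P
  have hSP : (S : Subgroup H).map (QuotientGroup.mk' K) = (P : Subgroup (H ⧸ K)) := by
    rw [← hS, Sylow.coe_mapSurjective]
  set V₀ := (S : Subgroup H) ⊔ Z with hV₀
  have hadm : Adm p Z V₀ := adm_sylow_sup p Z S
  have hV₀P : V₀.map (QuotientGroup.mk' K) = (P : Subgroup (H ⧸ K)) := by
    rw [hV₀, Subgroup.map_sup, hSP]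
    have : Z.map (QuotientGroup.mk' K) = ⊥ := by
      rw [Subgroup.map_eq_bot_iff, QuotientGroup.ker_mk']
      exact hZK
    rw [this, sup_bot_eq]
  obtain ⟨F₀, hF₀⟩ := exists_good Z θ₀ hθ (V₀ ⊓ K) (le_inf hadm.1 hZK)
  -- cyclicity for every admissible subgroup
  have hcycV : ∀ V, Adm p Z V → ∃ g ∈ V, ∀ x ∈ V, ∃ i : ℤ, (g ^ i)⁻¹ * x ∈ K := by
    intro V hV
    obtain ⟨a, ha⟩ := adm_pow_mem p Z V hV
    have hVp : IsPGroup p (V.map (QuotientGroup.mk' K)) := by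
      rintro ⟨_, v, hv, rfl⟩
      refine ⟨a, ?_⟩
      apply Subtype.ext
      rw [SubgroupClass.coe_pow]
      simp only [OneMemClass.coe_one]
      rw [← map_pow]
      exact (QuotientGroup.eq_one_iff _).mpr (hZK (ha v hv))
    obtain ⟨Q, hQ⟩ := hVp.exists_le_sylow
    haveI : IsCyclic Q := by
      haveI := hcyc
      exact isCyclic_of_surjective (Sylow.equiv P Q).toMonoidHom (Sylow.equiv P Q).surjective
    haveI : IsCyclic ((V.map (QuotientGroup.mk' K)).subgroupOf (Q : Subgroup (H ⧸ K))) :=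
      Subgroup.isCyclic _
    haveI : IsCyclic (V.map (QuotientGroup.mk' K)) :=
      isCyclic_of_surjective (Subgroup.subgroupOfEquivOfLe hQ).toMonoidHom
        (Subgroup.subgroupOfEquivOfLe hQ).surjective
    obtain ⟨⟨c, hcV⟩, hc⟩ := IsCyclic.exists_generator (α := V.map (QuotientGroup.mk' K))
    obtain ⟨g, hg, rfl⟩ := hcV
    refine ⟨g, hg, fun x hx => ?_⟩
    obtain ⟨i, hi⟩ := Subgroup.mem_zpowers_iff.mp
      (hc ⟨QuotientGroup.mk' K x, Subgroup.mem_map_of_mem _ hx⟩)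
    refine ⟨i, ?_⟩
    have h1 := congrArg Subtype.val hi
    simp only [SubgroupClass.coe_zpow] at h1
    rw [← map_zpow] at h1
    have h2 : (QuotientGroup.mk (g ^ i) : H ⧸ K) = QuotientGroup.mk x := h1
    exact QuotientGroup.eq.mp h2
  obtain ⟨M, hM, hcov⟩ := assembly p Z K hZK (Good Z θ₀)
    (fun A F n hG hn => good_conj Z θ₀ hinv A F n hG hn)
    (fun V hV F F' hF hF' => good_trans Z K V hZK p χ.2 θ₀ hθ e he hres' hV F F' hF hF')
    (fun V hV F hF v hv hi =>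
      good_free_cyclic Z K V hZK p χ.2 θ₀ hθ e he hres' hV (hcycV V hV) F hF v hv hi)
    V₀ hadm F₀ hF₀
  rw [hV₀P] at hcov
  exact ⟨M, (isComplement'_of_cover p M P P.2 hM hcov).1⟩

end Cfsg.Agent.Lib.Helper3.CT
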