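import Mathlib
import Cfsg.Prelude.Def_Characters
import Cfsg.Agent.Lib.Helper3.CT13
import Cfsg.Agent.Lib.Helper3.CT9
import Cfsg.Agent.S0006

set_option autoImplicit false
set_option maxHeartbeats 4000000
set_option maxRecDepth 100000
set_option linter.unusedVariables false
set_option linter.unusedSectionVars false
set_option linter.style.haveILetI false
set_option linter.deprecated false

/-! # A fully ramified character induced from `K`: the quotient by `K` is solvable -/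

namespace Cfsg.Agent.Lib.Helper3.CT

open Cfsg Cfsg.Agent.Lib.Helper6
open scoped ComplexConjugate

variable {H : Type*} [Group H] [Fintype H]

theorem good_free_ind (Z K V : Subgroup H) [hZ : Z.Normal] [hK : K.Normal] [Fintype Z] [Fintype K]
    (hZK : Z ≤ K) (p : ℕ) [hp : Fact p.Prime]
    {χ : H → ℂ} (hχ : Cfsg.IsIrrCharacter H χ) (θ₀ : H → ℂ)
    (hθ : Cfsg.IsIrrCharacter Z (fun z : Z => θ₀ z)) (e : ℕ)
    (he : e ^ 2 = Z.index) (hres : ∀ z : Z, χ z = (e : ℂ) * θ₀ z)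
    {φ : K → ℂ} (hφ : Cfsg.IsIrrCharacter K φ) (hind : Cfsg.indFun K φ = χ)
    (hV : Adm p Z V)
    (F : H → ℂ) (hF : Good Z θ₀ (V ⊓ K) F) (v : H) (hv : v ∈ V)
    (hinv : ∀ a ∈ V ⊓ K, F (v * a * v⁻¹) = F a) : v ∈ K := by
  obtain ⟨a, ha⟩ := adm_pow_mem p Z V hV
  have hpowfix : ∀ u ∈ V, (∀ a ∈ V ⊓ K, F (u * a * u⁻¹) = F a) →
      ∀ n : ℕ, ∀ a ∈ V ⊓ K, F (u ^ n * a * (u ^ n)⁻¹) = F a := by
    intro u hu hfu n
    induction n with
    | zero => intro a _; simp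
    | succ n ih =>
      intro a ha
      have hmem : u ^ n * a * (u ^ n)⁻¹ ∈ V ⊓ K := by
        refine ⟨?_, ?_⟩
        · exact V.mul_mem (V.mul_mem (V.pow_mem hu n) ha.1) (V.inv_mem (V.pow_mem hu n))
        · exact hK.conj_mem a ha.2 (u ^ n)
      have e1 : u ^ (n + 1) * a * (u ^ (n + 1))⁻¹ = u * (u ^ n * a * (u ^ n)⁻¹) * u⁻¹ := by
        rw [pow_succ']; group
      rw [e1, hfu _ hmem, ih a ha]
  have claim : ∀ j : ℕ, ∀ u ∈ V, (∀ a ∈ V ⊓ K, F (u * a * u⁻¹) = F a) →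
      u ^ (p ^ j) ∈ K → u ∈ K := by
    intro j
    induction j with
    | zero => intro u _ _ h; simpa using h
    | succ j ih =>
      intro u hu hinvu hpow
      have hup : u ^ p ∈ K := by
        apply ih (u ^ p) (V.pow_mem hu p) (hpowfix u hu hinvu p)
        rw [← pow_mul, ← pow_succ']
        exact hpow
      exact core_step Z K V hZK p hχ θ₀ hθ e he hres hφ hind hV F hF u hu hup hinvu
  exact claim a v hv hinv (hZK (ha v hv))

theorem solvable_of_induced (Z : Subgroup H) [hZ : Z.Normal] (χ : Cfsg.IrrCharacter H)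
    (hfr : ∃ (θ : Cfsg.IrrCharacter ↥Z) (e : ℕ), e ^ 2 = Z.index ∧
      ∀ z : ↥Z, (χ : H → ℂ) z = (e : ℂ) * (θ : ↥Z → ℂ) z)
    (K : Subgroup H) [hK : K.Normal] [Fintype K] (hZK : Z ≤ K)
    (φ : ↥K → ℂ) (hφ : Cfsg.IsCharacter ↥K φ) (hind : Cfsg.indFun K φ = (χ : H → ℂ)) :
    Group.IsSolvable (H ⧸ K) ∧ (Group.IsSolvable ↥K → Group.IsSolvable H) := by
  classical
  haveI : Fintype Z := Fintype.ofFinite Z
  obtain ⟨θ, e, he, hres⟩ := hfr
  set θ₀ : H → ℂ := Cfsg.extendByZero Z (θ : Z → ℂ) with hθ₀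
  have hθ₀Z : (fun z : Z => θ₀ z) = (θ : Z → ℂ) := by
    funext z
    rw [hθ₀]
    unfold Cfsg.extendByZero
    exact Subtype.val_injective.extend_apply _ _ z
  have hθ : Cfsg.IsIrrCharacter Z (fun z : Z => θ₀ z) := by rw [hθ₀Z]; exact θ.2
  have hres' : ∀ z : Z, (χ : H → ℂ) z = (e : ℂ) * θ₀ z := by
    intro z
    rw [hres z, ← hθ₀Z]
  have hinv : ∀ (h : H) (z : H), z ∈ Z → θ₀ (h * z * h⁻¹) = θ₀ z := by
    intro h z hz
    have h1 := Cfsg.Agent.Lib.Helper3.FullyRam.invariant_of_ramified Z χ.2 e he hres h ⟨z, hz⟩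
    have h2 : θ₀ (h * z * h⁻¹) = (θ : Z → ℂ) ⟨h * z * h⁻¹, hZ.conj_mem z hz h⟩ :=
      congrFun hθ₀Z ⟨h * z * h⁻¹, hZ.conj_mem z hz h⟩
    have h3 : θ₀ z = (θ : Z → ℂ) ⟨z, hz⟩ := congrFun hθ₀Z ⟨z, hz⟩
    rw [h2, h3]
    exact h1
  have hφirr : Cfsg.IsIrrCharacter K φ := by
    apply Cfsg.Agent.Lib.Helper3.FV.isIrr_of_indFun_isIrr K hφ
    rw [hind]; exact χ.2
  have hsolQ : Group.IsSolvable (H ⧸ K) := by
    apply Cfsg.Agent.S0006.result
    intro p hp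
    haveI : Fact p.Prime := ⟨hp⟩
    obtain ⟨S⟩ : Nonempty (Sylow p H) := inferInstance
    have hadm : Adm p Z ((S : Subgroup H) ⊔ Z) := adm_sylow_sup p Z S
    obtain ⟨F₀, hF₀⟩ := exists_good Z θ₀ hθ (((S : Subgroup H) ⊔ Z) ⊓ K) (le_inf hadm.1 hZK)
    obtain ⟨M, hM, hcov⟩ := assembly p Z K hZK (Good Z θ₀)
      (fun A F n hG hn => good_conj Z θ₀ hinv A F n hG hn)
      (fun V hV F F' hF hF' => good_trans Z K V hZK p χ.2 θ₀ hθ e he hres' hV F F' hF hF')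
      (fun V hV F hF v hv hi =>
        good_free_ind Z K V hZK p χ.2 θ₀ hθ e he hres' hφirr hind hV F hF v hv hi)
      ((S : Subgroup H) ⊔ Z) hadm F₀ hF₀
    obtain ⟨a, ha⟩ := adm_pow_mem p Z ((S : Subgroup H) ⊔ Z) hadm
    have hVp : IsPGroup p (((S : Subgroup H) ⊔ Z).map (QuotientGroup.mk' K)) := by
      rintro ⟨_, v, hv, rfl⟩
      refine ⟨a, ?_⟩
      apply Subtype.ext
      rw [SubgroupClass.coe_pow]
      simp only [OneMemClass.coe_one]
      rw [← map_pow]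
      exact (QuotientGroup.eq_one_iff _).mpr (hZK (ha v hv))
    exact ⟨M, (isComplement'_of_cover p M _ hVp hM hcov).2⟩
  refine ⟨hsolQ, fun hKsol => ?_⟩
  haveI := hKsol
  haveI := hsolQ
  apply solvable_of_ker_le_range K.subtype (QuotientGroup.mk' K)
  rw [QuotientGroup.ker_mk', Subgroup.range_subtype]

end Cfsg.Agent.Lib.Helper3.CT
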