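import Mathlib
import Cfsg.Agent.Lib.Helper8.CTTDefs

/-!
# Farm CTT (S3246), unit U4: `index_two`.
-/

set_option autoImplicit false

namespace Cfsg.Agent.Lib.Helper3.CTTU4

open Cfsg Cfsg.Agent.Lib.Helper7 Cfsg.Agent.Lib.Helper8.CTT

/-- Elementwise form of "index at most two". -/
theorem inv_mul_mem_of_card_le {G : Type*} [Group G] [Finite G] (R S₀ : Subgroup G) (h : S₀ ≤ R)
    (hc : Nat.card ↥R ≤ 2 * Nat.card ↥S₀) (x y : G) (hx : x ∈ R) (hy : y ∈ R)
    (hx0 : x ∉ S₀) (hy0 : y ∉ S₀) : x⁻¹ * y ∈ S₀ := by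
  have h1 : (S₀.subgroupOf R).index * Nat.card ↥(S₀.subgroupOf R) = Nat.card ↥R :=
    Subgroup.index_mul_card _
  have h2 : Nat.card ↥(S₀.subgroupOf R) = Nat.card ↥S₀ :=
    Nat.card_congr (Subgroup.subgroupOfEquivOfLe h).toEquiv
  have hpos : 0 < Nat.card ↥S₀ := Nat.card_pos
  have h3 : (S₀.subgroupOf R).index ≤ 2 := by
    rw [h2] at h1
    by_contra hlt
    rw [not_le] at hlt
    nlinarith
  have h4 : (S₀.subgroupOf R).index ≠ 0 := Subgroup.index_ne_zero_of_finite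
  have h5 : (S₀.subgroupOf R).index ≠ 1 := by
    intro h1'
    rw [Subgroup.index_eq_one] at h1'
    apply hx0
    have : (⟨x, hx⟩ : ↥R) ∈ S₀.subgroupOf R := by rw [h1']; trivial
    exact Subgroup.mem_subgroupOf.mp this
  have h6 : (S₀.subgroupOf R).index = 2 := by omega
  have key := Subgroup.mul_mem_iff_of_index_two h6 (a := (⟨x, hx⟩ : ↥R)⁻¹) (b := ⟨y, hy⟩)
  have hxi : (⟨x, hx⟩ : ↥R)⁻¹ ∉ S₀.subgroupOf R := by
    intro hm
    rw [Subgroup.inv_mem_iff] at hm
    exact hx0 (Subgroup.mem_subgroupOf.mp hm)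
  have hyi : (⟨y, hy⟩ : ↥R) ∉ S₀.subgroupOf R := fun hm => hy0 (Subgroup.mem_subgroupOf.mp hm)
  have hm : (⟨x, hx⟩ : ↥R)⁻¹ * ⟨y, hy⟩ ∈ S₀.subgroupOf R := key.mpr ⟨fun h => (hxi h).elim, fun h => (hyi h).elim⟩
  exact Subgroup.mem_subgroupOf.mp hm

/-- If every `S`-conjugate of `a` is `a` or `b`, then `C_S(a)` has index at most two in `S`. -/
theorem card_le_two_mul {G : Type*} [Group G] [Finite G] (S : Subgroup G) (a b : G)
    (hab : ∀ s ∈ S, s * a * s⁻¹ = a ∨ s * a * s⁻¹ = b) :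
    Nat.card ↥S ≤ 2 * Nat.card ↥(S ⊓ Subgroup.centralizer ({a} : Set G)) := by
  classical
  set S₀ : Subgroup G := S ⊓ Subgroup.centralizer ({a} : Set G) with hS₀
  have hmem : ∀ s ∈ S, s * a * s⁻¹ = a → s ∈ S₀ := by
    intro s hs h
    refine ⟨hs, ?_⟩
    show s ∈ Subgroup.centralizer ({a} : Set G)
    rw [Subgroup.mem_centralizer_iff]
    intro x hx
    rw [Set.mem_singleton_iff] at hx
    subst hx
    calc x * s = x * s * (s⁻¹ * s) := by group
      _ = s * (s⁻¹ * x * s) := by group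
      _ = s * x := by
        have : s⁻¹ * x * s = x := by
          calc s⁻¹ * x * s = s⁻¹ * (s * x * s⁻¹) * s := by rw [h]
            _ = x := by group
        rw [this]
  by_cases hall : ∀ s ∈ S, s ∈ S₀
  · have : S ≤ S₀ := hall
    have := Subgroup.card_le_of_le this
    omega
  · rw [not_forall] at hall
    obtain ⟨t, hall⟩ := hall
    rw [Classical.not_imp] at hall
    obtain ⟨htS, ht0⟩ := hall
    have htb : t * a * t⁻¹ = b := by
      rcases hab t htS with h | h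
      · exact (ht0 (hmem t htS h)).elim
      · exact h
    have hstep : ∀ s ∈ S, s ∉ S₀ → t⁻¹ * s ∈ S₀ := by
      intro s hs hs0
      have hsb : s * a * s⁻¹ = b := by
        rcases hab s hs with h | h
        · exact (hs0 (hmem s hs h)).elim
        · exact h
      apply hmem _ (S.mul_mem (S.inv_mem htS) hs)
      calc t⁻¹ * s * a * (t⁻¹ * s)⁻¹ = t⁻¹ * (s * a * s⁻¹) * t := by group
        _ = t⁻¹ * (t * a * t⁻¹) * t := by rw [hsb, htb]
        _ = a := by group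
    let f : ↥S → ↥S₀ ⊕ ↥S₀ := fun s =>
      if h : s.1 ∈ S₀ then Sum.inl ⟨s.1, h⟩ else Sum.inr ⟨t⁻¹ * s.1, hstep s.1 s.2 h⟩
    have hf : Function.Injective f := by
      intro s₁ s₂ h12
      simp only [f] at h12
      by_cases h1 : s₁.1 ∈ S₀ <;> by_cases h2 : s₂.1 ∈ S₀
      · rw [dif_pos h1, dif_pos h2] at h12
        have := congrArg Subtype.val (Sum.inl.inj h12)
        simp only at this
        exact Subtype.ext this
      · rw [dif_pos h1, dif_neg h2] at h12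
        cases h12
      · rw [dif_neg h1, dif_pos h2] at h12
        cases h12
      · rw [dif_neg h1, dif_neg h2] at h12
        have := congrArg Subtype.val (Sum.inr.inj h12)
        simp only at this
        exact Subtype.ext (mul_left_cancel this)
    have := Nat.card_le_card_of_injective f hf
    rw [Nat.card_sum] at this
    omega

theorem index_two {G : Type*} [Group G] [Finite G] (S : Sylow 2 G) (a b : G)
    (hab : ∀ s ∈ (S : Subgroup G), s * a * s⁻¹ = a ∨ s * a * s⁻¹ = b)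
    (H Q : Subgroup G) (hH : Subgroup.centralizer ({a} : Set G) ≤ H) (hQ : Cons H Q) :
    ∀ q₁ ∈ Q, ∀ q₂ ∈ Q, q₁ ∉ (S : Subgroup G) ⊓ Subgroup.centralizer ({a} : Set G) →
      q₂ ∉ (S : Subgroup G) ⊓ Subgroup.centralizer ({a} : Set G) →
      q₁⁻¹ * q₂ ∈ (S : Subgroup G) ⊓ Subgroup.centralizer ({a} : Set G) := by
  have : Fact (Nat.Prime 2) := ⟨Nat.prime_two⟩
  intro q₁ hq₁ q₂ hq₂ h1 h2
  set S₀ : Subgroup G := (S : Subgroup G) ⊓ Subgroup.centralizer ({a} : Set G) with hS₀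
  have hS : Nat.card ↥(S : Subgroup G) ≤ 2 * Nat.card ↥S₀ := card_le_two_mul (S : Subgroup G) a b hab
  have hS₀N : S₀ ≤ Subgroup.normalizer (Q : Set G) := (inf_le_right.trans hH).trans hQ.norm
  have hS₀2 : IsPGroup 2 ↥S₀ := S.2.to_le inf_le_left
  have hR2 : IsPGroup 2 ↥(Q ⊔ S₀) := IsPGroup.to_sup_of_normal_left' hQ.two hS₀2 hS₀N
  obtain ⟨P, hP⟩ := hR2.exists_le_sylow
  have hcard : Nat.card ↥(Q ⊔ S₀) ≤ Nat.card ↥(S : Subgroup G) := by
    have h1 := Subgroup.card_le_of_le hP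
    have h2 : Nat.card ↥(P : Subgroup G) = Nat.card ↥(S : Subgroup G) := by
      rw [P.card_eq_multiplicity, S.card_eq_multiplicity]
    omega
  exact inv_mul_mem_of_card_le (Q ⊔ S₀) S₀ le_sup_right (hcard.trans hS) q₁ q₂
    (le_sup_left (a := Q) hq₁) (le_sup_left (a := Q) hq₂) h1 h2

end Cfsg.Agent.Lib.Helper3.CTTU4
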