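import Mathlib
import Cfsg.Agent.Lib.Helper7.PCoreSub
import Cfsg.Agent.Lib.Helper3.Fitting

/-!
# Thompson–Wielandt for second cores: generic lemmas (p'-elements, p-cores)
-/

set_option autoImplicit false

namespace Cfsg.Agent.Lib.Helper3.TW

open Cfsg Cfsg.Agent.Lib.Helper7

variable {G : Type*} [Group G]

/-- one-sided conjugation closure gives the normalizer (finite case) -/
theorem le_normalizer_of_conj_mem [Finite G] {H N : Subgroup G}
    (h : ∀ y ∈ H, ∀ c ∈ N, y * c * y⁻¹ ∈ N) : H ≤ Subgroup.normalizer (N : Set G) := by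
  intro y hy
  exact Subgroup.mem_normalizer_fintype (fun n hn => h y hy n hn)

theorem conj_mem_of_mem_normalizer {N : Subgroup G} {y c : G}
    (hy : y ∈ Subgroup.normalizer (N : Set G)) (hc : c ∈ N) : y * c * y⁻¹ ∈ N :=
  (Subgroup.mem_normalizer_iff.mp hy c).mp hc

theorem conj_inv_mem_of_mem_normalizer {N : Subgroup G} {y c : G}
    (hy : y ∈ Subgroup.normalizer (N : Set G)) (hc : c ∈ N) : y⁻¹ * c * y ∈ N := by
  have h1 := (Subgroup.mem_normalizer_iff.mp hy (y⁻¹ * c * y)).mpr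
  apply h1
  have e : y * (y⁻¹ * c * y) * y⁻¹ = c := by group
  rw [e]; exact hc

theorem normalizer_inf_le (A B : Subgroup G) :
    Subgroup.normalizer (A : Set G) ⊓ Subgroup.normalizer (B : Set G) ≤
      Subgroup.normalizer ((A ⊓ B : Subgroup G) : Set G) := by
  intro y hy
  rw [Subgroup.mem_inf] at hy
  rw [Subgroup.mem_normalizer_iff]
  intro c
  rw [Subgroup.mem_inf, Subgroup.mem_inf, ← Subgroup.mem_normalizer_iff.mp hy.1 c,
    ← Subgroup.mem_normalizer_iff.mp hy.2 c]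

/-- product decomposition in `H ⊔ N` when `H` normalizes `N` -/
theorem mem_sup_of_le_normalizer {H N : Subgroup G} (hHN : H ≤ Subgroup.normalizer (N : Set G))
    {x : G} (hx : x ∈ H ⊔ N) : ∃ h ∈ H, ∃ n ∈ N, x = h * n := by
  rw [Subgroup.sup_eq_closure] at hx
  induction hx using Subgroup.closure_induction with
  | mem x hx =>
    rcases hx with hx | hx
    · exact ⟨x, hx, 1, N.one_mem, by simp⟩
    · exact ⟨1, H.one_mem, x, hx, by simp⟩
  | one => exact ⟨1, H.one_mem, 1, N.one_mem, by simp⟩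
  | mul x y _ _ hx hy =>
    obtain ⟨h₁, hh₁, n₁, hn₁, rfl⟩ := hx
    obtain ⟨h₂, hh₂, n₂, hn₂, rfl⟩ := hy
    refine ⟨h₁ * h₂, H.mul_mem hh₁ hh₂, (h₂⁻¹ * n₁ * h₂) * n₂, N.mul_mem ?_ hn₂, by group⟩
    exact conj_inv_mem_of_mem_normalizer (hHN hh₂) hn₁
  | inv x _ hx =>
    obtain ⟨h₁, hh₁, n₁, hn₁, rfl⟩ := hx
    refine ⟨h₁⁻¹, H.inv_mem hh₁, h₁ * n₁⁻¹ * h₁⁻¹, ?_, by group⟩
    exact conj_mem_of_mem_normalizer (hHN hh₁) (N.inv_mem hn₁)

/-- `(q a)^n ∈ q^n A` when `q` normalizes `A`. -/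
theorem mul_pow_mem {A : Subgroup G} {q a : G} (hq : q ∈ Subgroup.normalizer (A : Set G))
    (ha : a ∈ A) (n : ℕ) : ∃ a' ∈ A, (q * a) ^ n = q ^ n * a' := by
  induction n with
  | zero => exact ⟨1, A.one_mem, by simp⟩
  | succ n ih =>
    obtain ⟨a', ha', e⟩ := ih
    refine ⟨(q⁻¹ * a' * q) * a, A.mul_mem (conj_inv_mem_of_mem_normalizer hq ha') ha, ?_⟩
    rw [pow_succ, e, pow_succ]; group

/-- a `p'`-element of `Q A` (`Q` a `p`-group normalizing `A`) lies in `A` -/
theorem mem_of_coprime_of_mul {p : ℕ} {A Q : Subgroup G} (hQ : IsPGroup p Q)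
    (hQA : Q ≤ Subgroup.normalizer (A : Set G)) {q a : G} (hq : q ∈ Q) (ha : a ∈ A)
    (hc : (orderOf (q * a)).Coprime p) : q * a ∈ A := by
  obtain ⟨k, hk⟩ := hQ ⟨q, hq⟩
  have hk' : q ^ (p ^ k) = 1 := by
    have := congrArg Subtype.val hk
    simpa using this
  obtain ⟨a', ha', e⟩ := mul_pow_mem (hQA hq) ha (p ^ k)
  rw [hk', one_mul] at e
  apply Cfsg.Agent.Lib.Helper3.mem_of_pow_mem_of_coprime A (q * a) (p ^ k)
  · exact (Nat.Coprime.pow_right k hc).symm
  · rw [e]; exact ha'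

theorem orderOf_conj_eq (y a : G) : orderOf (y * a * y⁻¹) = orderOf a := by
  have := orderOf_injective (MulAut.conj y).toMonoidHom (MulAut.conj y).injective a
  simpa using this

/-- key lemma: conjugation by `y` with `[y, a] ∈ Q` keeps `p'`-elements of `A` in `A` -/
theorem conj_mem_of_comm_mem {p : ℕ} {A Q : Subgroup G} (hQ : IsPGroup p Q)
    (hQA : Q ≤ Subgroup.normalizer (A : Set G)) {y a : G} (ha : a ∈ A)
    (hc : (orderOf a).Coprime p) (hy : y * a * y⁻¹ * a⁻¹ ∈ Q) : y * a * y⁻¹ ∈ A := by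
  have e : y * a * y⁻¹ = (y * a * y⁻¹ * a⁻¹) * a := by group
  rw [e]
  apply mem_of_coprime_of_mul hQ hQA hy ha
  rw [← e, orderOf_conj_eq]; exact hc

/-- the set of `p'`-elements of `A` -/
def pp (p : ℕ) (A : Subgroup G) : Set G := {a | a ∈ A ∧ (orderOf a).Coprime p}

/-- the subgroup generated by the `p'`-elements of `A` (`O^p(A)`) -/
def res (p : ℕ) (A : Subgroup G) : Subgroup G := Subgroup.closure (pp p A)

theorem res_le (p : ℕ) (A : Subgroup G) : res p A ≤ A := by
  unfold res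
  rw [Subgroup.closure_le]
  intro a ha; exact ha.1

theorem mem_res {p : ℕ} {A : Subgroup G} {a : G} (ha : a ∈ A) (hc : (orderOf a).Coprime p) :
    a ∈ res p A := Subgroup.subset_closure ⟨ha, hc⟩

/-- an element sending `p'`-elements of `A` into `A` normalizes `res p A` -/
theorem mem_normalizer_res [Finite G] {p : ℕ} {A : Subgroup G} {y : G}
    (h : ∀ a ∈ pp p A, y * a * y⁻¹ ∈ A) : y ∈ Subgroup.normalizer (res p A : Set G) := by
  have key : ∀ n ∈ Subgroup.closure (pp p A), y * n * y⁻¹ ∈ res p A := by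
    intro n hn'
    induction hn' using Subgroup.closure_induction with
    | mem x hx =>
      apply mem_res (h x hx)
      rw [orderOf_conj_eq]; exact hx.2
    | one => simp
    | mul a b _ _ ha hb =>
      have e : y * (a * b) * y⁻¹ = (y * a * y⁻¹) * (y * b * y⁻¹) := by group
      rw [e]; exact Subgroup.mul_mem _ ha hb
    | inv a _ ha =>
      have e : y * a⁻¹ * y⁻¹ = (y * a * y⁻¹)⁻¹ := by group
      rw [e]; exact Subgroup.inv_mem _ ha
  apply Subgroup.mem_normalizer_fintype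
  intro n hn
  exact key n hn

theorem le_normalizer_res [Finite G] (p : ℕ) {A H : Subgroup G}
    (hH : H ≤ Subgroup.normalizer (A : Set G)) : H ≤ Subgroup.normalizer (res p A : Set G) := by
  intro y hy
  apply mem_normalizer_res
  intro a ha
  exact conj_mem_of_mem_normalizer (hH hy) ha.1

/-- if `res p A` is trivial then `A` is a `p`-group -/
theorem isPGroup_of_res_eq_bot [Finite G] {p : ℕ} [hp : Fact p.Prime] {A : Subgroup G}
    (h : res p A = ⊥) : IsPGroup p A := by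
  intro a
  have hpos : orderOf (a : G) ≠ 0 := (orderOf_pos (a : G)).ne'
  obtain ⟨k, m, hm, e⟩ := Nat.exists_eq_pow_mul_and_not_dvd hpos p hp.out.ne_one
  refine ⟨k, ?_⟩
  have h1 : ((a : G) ^ (p ^ k)) ∈ res p A := by
    apply mem_res (A.pow_mem a.2 _)
    have h2 : orderOf ((a : G) ^ (p ^ k)) ∣ m := by
      apply orderOf_dvd_of_pow_eq_one
      rw [← pow_mul, ← e, pow_orderOf_eq_one]
    have h3 : m.Coprime p := ((Nat.Prime.coprime_iff_not_dvd hp.out).mpr hm).symm
    exact Nat.Coprime.coprime_dvd_left h2 h3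
  rw [h, Subgroup.mem_bot] at h1
  apply Subtype.ext
  simpa using h1

/-- a `p'`-element of a `p`-group is trivial -/
theorem eq_one_of_isPGroup_of_coprime {p : ℕ} {A : Subgroup G} (hA : IsPGroup p A)
    {a : G} (ha : a ∈ A) (hc : (orderOf a).Coprime p) : a = 1 := by
  obtain ⟨k, hk⟩ := hA ⟨a, ha⟩
  have hk' : a ^ (p ^ k) = 1 := by
    have := congrArg Subtype.val hk
    simpa using this
  have h1 : orderOf a ∣ p ^ k := orderOf_dvd_of_pow_eq_one hk'
  have h2 : (orderOf a).Coprime (p ^ k) := Nat.Coprime.pow_right k hc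
  have h3 : orderOf a = 1 := Nat.Coprime.eq_one_of_dvd h2 h1
  exact orderOf_eq_one_iff.mp h3

/-- `N_G(N)` normalizes `O_p(N)` -/
theorem normalizer_le_normalizer_pCoreIn [Finite G] (p : ℕ) (N : Subgroup G) :
    Subgroup.normalizer (N : Set G) ≤ Subgroup.normalizer (pCoreIn p N : Set G) := by
  apply le_normalizer_of_conj_mem
  intro n hn c hc
  have hmap : c ∈ pCoreIn p N := hc
  set K : Subgroup G := (pCoreIn p N).map (MulAut.conj n).toMonoidHom with hK
  have hcK : n * c * n⁻¹ ∈ K := ⟨c, hc, by simp⟩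
  have hKN : K ≤ N := by
    rintro _ ⟨z, hz, rfl⟩
    exact conj_mem_of_mem_normalizer hn (pCoreIn_le p N hz)
  have hKp : IsPGroup p K := (pCoreIn_isPGroup p N).map _
  have hNK : N ≤ Subgroup.normalizer (K : Set G) := by
    apply le_normalizer_of_conj_mem
    rintro m hm _ ⟨z, hz, rfl⟩
    refine ⟨(n⁻¹ * m * n) * z * (n⁻¹ * m * n)⁻¹, ?_, ?_⟩
    · exact conj_mem_of_mem_normalizer (le_normalizer_pCoreIn p N
        (conj_inv_mem_of_mem_normalizer hn hm)) hz
    · simp only [MulEquiv.coe_toMonoidHom, MulAut.conj_apply]; group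
  exact le_pCoreIn hKN hKp hNK hcK

theorem le_normalizer_pCoreIn_of_le [Finite G] (p : ℕ) {H N : Subgroup G}
    (h : H ≤ Subgroup.normalizer (N : Set G)) : H ≤ Subgroup.normalizer (pCoreIn p N : Set G) :=
  h.trans (normalizer_le_normalizer_pCoreIn p N)

/-- `O_p` of a subgroup normalized by `N` lies in `O_p(N)` -/
theorem pCoreIn_le_pCoreIn [Finite G] (p : ℕ) {K N : Subgroup G} (hKN : K ≤ N)
    (h : N ≤ Subgroup.normalizer (K : Set G)) : pCoreIn p K ≤ pCoreIn p N :=
  le_pCoreIn ((pCoreIn_le p K).trans hKN) (pCoreIn_isPGroup p K) (le_normalizer_pCoreIn_of_le p h)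

end Cfsg.Agent.Lib.Helper3.TW
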