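import Mathlib
import Cfsg.Agent.Lib.Helper8.CTTDefs
import Cfsg.Agent.Lib.Helper3.TW1
import Cfsg.Agent.Lib.Lead.RVA

/-!
# Farm CTT (S3246), unit U7a: `centralizes_CQT`.
-/

set_option autoImplicit false

namespace Cfsg.Agent.Lib.Helper3.CTTU7a

open Cfsg Cfsg.Agent.Lib.Helper7 Cfsg.Agent.Lib.Helper8.CTT

/-- If `L` normalizes `P` then conjugation by elements of `L` preserves `L ⊓ C(P)`. -/
theorem conj_mem_inf_centralizer {G : Type*} [Group G] (L P : Subgroup G)
    (h : L ≤ Subgroup.normalizer (P : Set G)) (l k : G) (hl : l ∈ L)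
    (hk : k ∈ L ⊓ Subgroup.centralizer (P : Set G)) :
    l * k * l⁻¹ ∈ L ⊓ Subgroup.centralizer (P : Set G) := by
  refine ⟨L.mul_mem (L.mul_mem hl hk.1) (L.inv_mem hl), ?_⟩
  show l * k * l⁻¹ ∈ Subgroup.centralizer (P : Set G)
  rw [Subgroup.mem_centralizer_iff]
  intro p hp
  have hp' : l⁻¹ * p * l ∈ P := by
    have := (Subgroup.mem_normalizer_iff.mp (h (L.inv_mem hl)) p).mp hp
    simpa using this
  have hk2 : k ∈ Subgroup.centralizer (P : Set G) := hk.2
  have hc := Subgroup.mem_centralizer_iff.mp hk2 _ hp'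
  calc p * (l * k * l⁻¹) = l * ((l⁻¹ * p * l) * k) * l⁻¹ := by group
    _ = l * (k * (l⁻¹ * p * l)) * l⁻¹ := by rw [hc]
    _ = l * k * l⁻¹ * p := by group

theorem le_normalizer_inf_centralizer {G : Type*} [Group G] (L P : Subgroup G)
    (h : L ≤ Subgroup.normalizer (P : Set G)) :
    L ≤ Subgroup.normalizer ((L ⊓ Subgroup.centralizer (P : Set G) : Subgroup G) : Set G) := by
  intro l hl
  rw [Subgroup.mem_normalizer_iff]
  intro k
  constructor
  · intro hk
    exact conj_mem_inf_centralizer L P h l k hl hk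
  · intro hk
    have := conj_mem_inf_centralizer L P h l⁻¹ _ (L.inv_mem hl) hk
    have e : l⁻¹ * (l * k * l⁻¹) * l⁻¹⁻¹ = k := by group
    rwa [e] at this

theorem centralizes_CQT {G : Type*} [Group G] [Finite G] (T H Q : Subgroup G) (hT : IsPGroup 2 ↥T)
    (hTH : Subgroup.centralizer (T : Set G) ≤ H) (hQ : Cons H Q) (y : G)
    (hyL : y ∈ Subgroup.normalizer (T : Set G))
    (hyC : y ∈ Subgroup.centralizer (pCoreIn 2 (Subgroup.normalizer (T : Set G)) : Set G))
    (hyo : Odd (orderOf y)) :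
    ∀ d ∈ Q ⊓ Subgroup.centralizer (T : Set G), d * y = y * d := by
  have : Fact (Nat.Prime 2) := ⟨Nat.prime_two⟩
  set L : Subgroup G := Subgroup.normalizer (T : Set G) with hL
  set P : Subgroup G := pCoreIn 2 L with hP
  set K : Subgroup G := L ⊓ Subgroup.centralizer (P : Set G) with hK
  have hTP : T ≤ P := le_pCoreIn Subgroup.le_normalizer hT le_rfl
  have hyK : y ∈ K := ⟨hyL, hyC⟩
  have hKCT : K ≤ Subgroup.centralizer (T : Set G) := fun k hk =>
    Subgroup.centralizer_le (show (T : Set G) ⊆ (P : Set G) from hTP) hk.2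
  have hKH : K ≤ H := hKCT.trans hTH
  have hLP : L ≤ Subgroup.normalizer (P : Set G) := le_normalizer_pCoreIn 2 L
  have hLK : L ≤ Subgroup.normalizer (K : Set G) := le_normalizer_inf_centralizer L P hLP
  have hKNQ : K ≤ Subgroup.normalizer (Q : Set G) := hKH.trans hQ.norm
  have hKNQK : K ≤ Subgroup.normalizer ((Q ⊓ K : Subgroup G) : Set G) := by
    intro k hk
    rw [Subgroup.mem_normalizer_iff]
    intro x
    have h1 := Subgroup.mem_normalizer_iff.mp (hKNQ hk) x
    have h2 : x ∈ K ↔ k * x * k⁻¹ ∈ K := by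
      constructor
      · intro hx
        exact K.mul_mem (K.mul_mem hk hx) (K.inv_mem hk)
      · intro hx
        have := K.mul_mem (K.mul_mem (K.inv_mem hk) hx) hk
        have e : k⁻¹ * (k * x * k⁻¹) * k = x := by group
        rwa [e] at this
    simp only [Subgroup.mem_inf]
    rw [h1, h2]
  have hQK : Q ⊓ K ≤ pCoreIn 2 K := le_pCoreIn inf_le_right (hQ.two.to_le inf_le_left) hKNQK
  have hKP : pCoreIn 2 K ≤ P := Cfsg.Agent.Lib.Helper3.TW.pCoreIn_le_pCoreIn 2 inf_le_left hLK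
  have hφ : (MulAut.conj y) ^ (orderOf y) = 1 := by
    rw [← map_pow, pow_orderOf_eq_one, map_one]
  have hN : ∀ c ∈ Q ⊓ K, c ^ (orderOf y) = 1 → c = 1 := by
    intro c hc hcn
    obtain ⟨k, hk⟩ := hQ.two ⟨c, hc.1⟩
    have hk' : c ^ (2 ^ k) = 1 := by
      have := congrArg Subtype.val hk
      simpa using this
    have hcop : Nat.Coprime (2 ^ k) (orderOf y) := Nat.Coprime.pow_left k (Nat.coprime_two_left.mpr hyo)
    have := pow_gcd_eq_one.mpr ⟨hk', hcn⟩
    rw [hcop.gcd_eq_one] at this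
    simpa using this
  have hfix : ∀ c ∈ Q ⊓ K, (MulAut.conj y) c = c := by
    intro c hc
    have hcP : c ∈ P := hKP (hQK hc)
    have := Subgroup.mem_centralizer_iff.mp hyC c hcP
    rw [MulAut.conj_apply, ← this]
    group
  have hquot : ∀ b ∈ Q ⊓ Subgroup.centralizer (T : Set G), (MulAut.conj y) b * b⁻¹ ∈ Q ⊓ K := by
    intro b hb
    rw [MulAut.conj_apply]
    constructor
    · have h1 := (Subgroup.mem_normalizer_iff.mp (hKNQ hyK) b).mp hb.1
      exact Q.mul_mem h1 (Q.inv_mem hb.1)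
    · have hbL : b ∈ L := Subgroup.centralizer_le_normalizer _ hb.2
      have h1 := conj_mem_inf_centralizer L P hLP b y⁻¹ hbL (K.inv_mem hyK)
      have h2 := K.mul_mem hyK h1
      have e : y * (b * y⁻¹ * b⁻¹) = y * b * y⁻¹ * b⁻¹ := by group
      rw [e] at h2
      exact h2
  intro d hd
  have := Cfsg.Agent.Lib.Lead.RVA.chain_step (MulAut.conj y) (orderOf y) hφ (Q ⊓ K)
    (Q ⊓ Subgroup.centralizer (T : Set G)) hN hfix hquot d hd
  rw [MulAut.conj_apply] at this
  calc d * y = (y * d * y⁻¹) * y := by rw [this]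
    _ = y * d := by group

end Cfsg.Agent.Lib.Helper3.CTTU7a
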