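import Mathlib
import Cfsg.Prelude.Def_Transfer

/-! Farm CUB (S4415): shared definitions.

`Cfg ρ R b Q`: the ABSTRACT configuration.  `G` is a finite solvable group acting faithfully on the
finite `𝔽₃`-module `E` through `ρ`; `R` is a normal subgroup of order prime to `3`; `b` has order
`3`, `G = R⟨b⟩` and `[R, b] = R`; `Q ≤ R` is a four-group normalized but not centralized by `b`;
`n := ρ b - 1` has rank `2` and `n² ≠ 0`.  (In S4415: `G = ↥(R ⊔ B)`, `R = [O_{3'}(S), B]`.) -/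

set_option autoImplicit false

open scoped commutatorElement

namespace Cfsg.Agent.Lib.Helper3.CUB

universe u v

variable {G : Type u} [Group G] {E : Type v} [AddCommGroup E] [Module (ZMod 3) E]

/-- `n = ρ b - 1`. -/
def nn (ρ : Representation (ZMod 3) G E) (b : G) : E →ₗ[ZMod 3] E := ρ b - LinearMap.id

theorem nn_apply (ρ : Representation (ZMod 3) G E) (b : G) (v : E) : nn ρ b v = ρ b v - v := by
  simp [nn]

/-- fixed points `C_E(X)` -/
def fixSub (ρ : Representation (ZMod 3) G E) (X : Subgroup G) : Submodule (ZMod 3) E where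
  carrier := {v | ∀ x ∈ X, ρ x v = v}
  add_mem' := by
    intro u v hu hv x hx
    rw [map_add, hu x hx, hv x hx]
  zero_mem' := by
    intro x _
    simp
  smul_mem' := by
    intro c v hv x hx
    rw [map_smul, hv x hx]

theorem mem_fixSub {ρ : Representation (ZMod 3) G E} {X : Subgroup G} {v : E} :
    v ∈ fixSub ρ X ↔ ∀ x ∈ X, ρ x v = v := Iff.rfl

/-- commutator module `[E, X]` -/
def commSub (ρ : Representation (ZMod 3) G E) (X : Subgroup G) : Submodule (ZMod 3) E :=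
  Submodule.span (ZMod 3) {w | ∃ x ∈ X, ∃ v : E, w = ρ x v - v}

/-- a submodule invariant under a group element -/
def Inv (ρ : Representation (ZMod 3) G E) (g : G) (N : Submodule (ZMod 3) E) : Prop :=
  ∀ v ∈ N, ρ g v ∈ N

/-- the abstract configuration -/
structure Cfg [Finite G] [Finite E] (ρ : Representation (ZMod 3) G E) (R : Subgroup G) (b : G)
    (Q : Subgroup G) : Prop where
  solv : Group.IsSolvable G
  faith : Function.Injective ρ
  normal : R.Normal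
  cop : (Nat.card R).Coprime 3
  b3 : orderOf b = 3
  top : R ⊔ Subgroup.zpowers b = ⊤
  comm : ⁅R, Subgroup.zpowers b⁆ = R
  QR : Q ≤ R
  Q4 : Nat.card Q = 4
  Q2 : ∀ q ∈ Q, q ^ 2 = 1
  bQ : b ∈ Subgroup.normalizer (Q : Set G)
  bQ' : b ∉ Subgroup.centralizer (Q : Set G)
  rank : Module.finrank (ZMod 3) (LinearMap.range (nn ρ b)) = 2
  cubic : ∃ v : E, nn ρ b (nn ρ b v) ≠ 0

/-- the structural conclusion on `R` -/
def RConcl (R : Subgroup G) : Prop :=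
  (Cfsg.IsElementaryAbelian 2 R ∧ Nat.card R = 4) ∨
    (Cfsg.IsExtraspecial 2 ↥R ∧ Nat.card R = 32 ∧
      ∃ A : Subgroup G, A ≤ R ∧ Cfsg.IsElementaryAbelian 2 A ∧ Nat.card A = 8)

/-- `R` acts irreducibly on `[E, R]` -/
def IrrR (ρ : Representation (ZMod 3) G E) (R : Subgroup G) : Prop :=
  ∀ N : Submodule (ZMod 3) E, N ≤ commSub ρ R → (∀ r ∈ R, Inv ρ r N) → N = ⊥ ∨ N = commSub ρ R

/-- `a` acts as a scalar `±1` on `[E, R]` -/
def IsScal (ρ : Representation (ZMod 3) G E) (R : Subgroup G) (a : G) : Prop :=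
  (∀ v ∈ commSub ρ R, ρ a v = v) ∨ (∀ v ∈ commSub ρ R, ρ a v = -v)

/-- `z` acts as `-1` on `[E, R]` -/
def NegOne (ρ : Representation (ZMod 3) G E) (R : Subgroup G) (z : G) : Prop :=
  ∀ v ∈ commSub ρ R, ρ z v = -v

/-- case (C2): every normal subgroup of `G` of exponent 2 inside `R` acts by scalars on `[E,R]` -/
def AllScal (ρ : Representation (ZMod 3) G E) (R : Subgroup G) : Prop :=
  ∀ A : Subgroup G, A.Normal → A ≤ R → (∀ a ∈ A, a ^ 2 = 1) → ∀ a ∈ A, IsScal ρ R a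

/-- the `Q`-frame: weights of `Q` have multiplicity one -/
structure QFrame (ρ : Representation (ZMod 3) G E) (b : G) (Q : Subgroup G) (q₁ q₂ q₃ : G)
    (e₁ e₂ e₃ : E) : Prop where
  mem₁ : q₁ ∈ Q
  mem₂ : q₂ ∈ Q
  mem₃ : q₃ ∈ Q
  all : ∀ q ∈ Q, q = 1 ∨ q = q₁ ∨ q = q₂ ∨ q = q₃
  ne₁ : q₁ ≠ 1
  mul : q₁ * q₂ = q₃
  conj₁ : b * q₁ * b⁻¹ = q₂
  conj₂ : b * q₂ * b⁻¹ = q₃
  conj₃ : b * q₃ * b⁻¹ = q₁
  be₁ : ρ b e₁ = e₂
  be₂ : ρ b e₂ = e₃
  be₃ : ρ b e₃ = e₁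
  e_ne : e₁ ≠ 0
  q₁e₁ : ρ q₁ e₁ = e₁
  q₂e₁ : ρ q₂ e₁ = -e₁
  mult_one : ∀ v : E, ρ q₁ v = v → ρ q₂ v = -v → ∃ a : ZMod 3, v = a • e₁
  fixb : ∀ v ∈ fixSub ρ Q, ρ b v = v
  decomp : ∀ v : E, ∃ w ∈ fixSub ρ Q, ∃ a₁ a₂ a₃ : ZMod 3, v = w + a₁ • e₁ + a₂ • e₂ + a₃ • e₃

/-- `V`: the elements of `R` that are central of exponent 2 modulo `{1, z}` -/
def VV (R : Subgroup G) (z : G) : Set G :=
  {x | x ∈ R ∧ (∀ r ∈ R, ⁅x, r⁆ = 1 ∨ ⁅x, r⁆ = z) ∧ (x ^ 2 = 1 ∨ x ^ 2 = z)}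

end Cfsg.Agent.Lib.Helper3.CUB
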