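import Mathlib
import Cfsg.Agent.Lib.Helper3.CUBDefs

/-! Farm CUB (S4415), unit T1: the commutator trick and generalities. -/

set_option autoImplicit false

open scoped commutatorElement

namespace Cfsg.Agent.Lib.Helper3.CUB

universe u v

variable {G : Type u} [Group G] [Finite G] {E : Type v} [AddCommGroup E] [Module (ZMod 3) E]
  [Finite E] {ρ : Representation (ZMod 3) G E} {R : Subgroup G} {b : G} {Q : Subgroup G}

omit [Finite G] in
theorem closure_conj_eq_normalClosure (b : G) :
    Subgroup.closure {x : G | ∃ g : G, x = g * b * g⁻¹} = Subgroup.normalClosure {b} := by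
  unfold Subgroup.normalClosure
  congr 1
  ext x
  simp only [Set.mem_ofPred_eq, Group.mem_conjugatesOfSet_iff, Set.mem_singleton_iff, exists_eq_left,
    isConj_iff]
  constructor
  · rintro ⟨g, rfl⟩; exact ⟨g, rfl⟩
  · rintro ⟨g, h⟩; exact ⟨g, h.symm⟩

/-- P0a: `G` is generated by the conjugates of `b`. -/
theorem P0a (c : Cfg ρ R b Q) :
    Subgroup.closure {x : G | ∃ g : G, x = g * b * g⁻¹} = ⊤ := by
  rw [closure_conj_eq_normalClosure]
  set N := Subgroup.normalClosure ({b} : Set G) with hN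
  have hbN : Subgroup.zpowers b ≤ N := by
    rw [Subgroup.zpowers_le]
    exact Subgroup.subset_normalClosure (Set.mem_singleton b)
  have hRN : R ≤ N := by
    rw [← c.comm]
    calc ⁅R, Subgroup.zpowers b⁆ ≤ ⁅(⊤ : Subgroup G), N⁆ := Subgroup.commutator_mono le_top hbN
      _ ≤ N := Subgroup.commutator_le_right ⊤ N
  rw [eq_top_iff, ← c.top]
  exact sup_le hRN hbN

/-- a normal subgroup containing `b` is everything -/
theorem eq_top_of_normal_of_mem (c : Cfg ρ R b Q) (N : Subgroup G) [hN : N.Normal] (hb : b ∈ N) :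
    N = ⊤ := by
  rw [eq_top_iff, ← P0a c, ← Subgroup.closure_eq N]
  apply Subgroup.closure_mono
  rintro x ⟨g, rfl⟩
  exact hN.conj_mem b hb g

/-- P0b (CT): if `b` acts trivially on the `G`-invariant section `N / N'` then so does `R`. -/
theorem P0b (c : Cfg ρ R b Q) (N N' : Submodule (ZMod 3) E) (hN : ∀ g : G, Inv ρ g N)
    (hN' : ∀ g : G, Inv ρ g N') (hb : ∀ v ∈ N, ρ b v - v ∈ N') :
    ∀ r ∈ R, ∀ v ∈ N, ρ r v - v ∈ N' := by
  let T : Subgroup G :=
    { carrier := {g | ∀ v ∈ N, ρ g v - v ∈ N'}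
      mul_mem' := by
        intro g h hg hh v hv
        have e : ρ (g * h) v - v = ρ g (ρ h v - v) + (ρ g v - v) := by
          rw [map_mul, Module.End.mul_apply, map_sub]; abel
        rw [e]
        exact N'.add_mem (hN' g _ (hh v hv)) (hg v hv)
      one_mem' := by
        intro v _
        simp
      inv_mem' := by
        intro g hg v hv
        have e : ρ g⁻¹ v - v = -(ρ g⁻¹ (ρ g v - v)) := by
          rw [map_sub, ← Module.End.mul_apply, ← map_mul, inv_mul_cancel, map_one,
            Module.End.one_apply]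
          abel
        rw [e]
        exact N'.neg_mem (hN' g⁻¹ _ (hg v hv)) }
  have hTn : T.Normal := by
    constructor
    intro g hg x v hv
    have e : ρ (x * g * x⁻¹) v - v = ρ x (ρ g (ρ x⁻¹ v) - ρ x⁻¹ v) := by
      rw [map_sub, map_mul, map_mul, Module.End.mul_apply, Module.End.mul_apply,
        ← Module.End.mul_apply (ρ x) (ρ x⁻¹), ← map_mul, mul_inv_cancel, map_one,
        Module.End.one_apply]
    rw [e]
    exact hN' x _ (hg _ (hN x⁻¹ v hv))
  have hT : T = ⊤ := eq_top_of_normal_of_mem c T hb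
  intro r _ v hv
  have : r ∈ T := by rw [hT]; exact Subgroup.mem_top r
  exact this v hv

/-- P0c (CT): a normal subgroup centralized by `b` is central. -/
theorem P0c (c : Cfg ρ R b Q) (A : Subgroup G) [A.Normal] (hb : ∀ a ∈ A, b * a = a * b) :
    ∀ g : G, ∀ a ∈ A, g * a = a * g := by
  have hn : (Subgroup.centralizer (A : Set G)).Normal := Subgroup.normal_centralizer
  have hbC : b ∈ Subgroup.centralizer (A : Set G) := by
    rw [Subgroup.mem_centralizer_iff]
    intro a ha
    exact (hb a ha).symm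
  have := eq_top_of_normal_of_mem c _ hbC
  intro g a ha
  have hg : g ∈ Subgroup.centralizer (A : Set G) := by rw [this]; exact Subgroup.mem_top g
  exact (Subgroup.mem_centralizer_iff.mp hg a ha).symm

/-- DET: `R = [R,b]` acts with determinant one. -/
theorem DET (c : Cfg ρ R b Q) : ∀ r ∈ R, LinearMap.det (ρ r) = 1 := by
  have key : ∀ r ∈ ⁅R, Subgroup.zpowers b⁆, LinearMap.det (ρ r) = 1 := by
    intro r hr
    induction hr using Subgroup.closure_induction with
    | mem x hx =>
      obtain ⟨g, _, h, _, rfl⟩ := hx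
      rw [commutatorElement_def, map_mul, map_mul, map_mul, map_mul, map_mul, map_mul]
      have h1 : LinearMap.det (ρ g) * LinearMap.det (ρ g⁻¹) = 1 := by
        rw [← map_mul, ← map_mul, mul_inv_cancel, map_one, map_one]
      have h2 : LinearMap.det (ρ h) * LinearMap.det (ρ h⁻¹) = 1 := by
        rw [← map_mul, ← map_mul, mul_inv_cancel, map_one, map_one]
      calc LinearMap.det (ρ g) * LinearMap.det (ρ h) * LinearMap.det (ρ g⁻¹) * LinearMap.det (ρ h⁻¹)
          = (LinearMap.det (ρ g) * LinearMap.det (ρ g⁻¹)) *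
            (LinearMap.det (ρ h) * LinearMap.det (ρ h⁻¹)) := by ring
        _ = 1 := by rw [h1, h2, one_mul]
    | one => rw [map_one, map_one]
    | mul x y _ _ hx hy => rw [map_mul, map_mul, hx, hy, one_mul]
    | inv x _ hx =>
      have h1 : LinearMap.det (ρ x) * LinearMap.det (ρ x⁻¹) = 1 := by
        rw [← map_mul, ← map_mul, mul_inv_cancel, map_one, map_one]
      rw [hx, one_mul] at h1
      exact h1
  intro r hr
  apply key
  rw [c.comm]; exact hr

theorem index_dvd_three (c : Cfg ρ R b Q) : R.index ∣ 3 := by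
  have hn := c.normal
  have h1 : R.relIndex (R ⊔ Subgroup.zpowers b) = R.relIndex (Subgroup.zpowers b) :=
    Subgroup.relIndex_sup_left (Subgroup.zpowers b) R
  rw [c.top, Subgroup.relIndex_top_right] at h1
  rw [h1]
  have h2 : R.relIndex (Subgroup.zpowers b) ∣ Nat.card (Subgroup.zpowers b) :=
    Subgroup.relIndex_dvd_card _ _
  rwa [Nat.card_zpowers, c.b3] at h2

/-- elements of `G` of order prime to 3 lie in `R` -/
theorem mem_R_of_pow (c : Cfg ρ R b Q) (g : G) (k : ℕ) (hk : k.Coprime 3) (hg : g ^ k = 1) :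
    g ∈ R := by
  have hn := c.normal
  have h3 : g ^ 3 ∈ R := by
    obtain ⟨m, hm⟩ := index_dvd_three c
    have := Subgroup.pow_index_mem R g
    have h := R.pow_mem this m
    rwa [← pow_mul, ← hm] at h
  have hgcd : Nat.gcd k 3 = 1 := hk
  have hb := Nat.gcd_eq_gcd_ab k 3
  rw [hgcd] at hb
  have : g = (g ^ k) ^ (Nat.gcdA k 3) * (g ^ 3) ^ (Nat.gcdB k 3) := by
    rw [← zpow_natCast g k, ← zpow_natCast g 3, ← zpow_mul, ← zpow_mul, ← zpow_add]
    have : (k : ℤ) * Nat.gcdA k 3 + ((3 : ℕ) : ℤ) * Nat.gcdB k 3 = 1 := by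
      rw [← hb]; simp
    rw [this, zpow_one]
  rw [this, hg, one_zpow, one_mul]
  exact R.zpow_mem h3 _

/-- `g b g⁻¹ b⁻¹ ∈ R` -/
theorem conj_b_mem (c : Cfg ρ R b Q) (g : G) : g * b * g⁻¹ * b⁻¹ ∈ R := by
  have hn := c.normal
  have hg : g ∈ R ⊔ Subgroup.zpowers b := by rw [c.top]; exact Subgroup.mem_top g
  rw [Subgroup.mem_sup_of_normal_left] at hg
  obtain ⟨r, hr, x, hx, rfl⟩ := hg
  obtain ⟨i, rfl⟩ := Subgroup.mem_zpowers_iff.mp hx
  have hcomm : b ^ i * b * (b ^ i)⁻¹ = b := by
    rw [← zpow_neg, ← zpow_add_one, ← zpow_add]; simp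
  have e : r * b ^ i * b * (r * b ^ i)⁻¹ * b⁻¹ = r * (b * r⁻¹ * b⁻¹) := by
    calc r * b ^ i * b * (r * b ^ i)⁻¹ * b⁻¹
        = r * (b ^ i * b * (b ^ i)⁻¹) * r⁻¹ * b⁻¹ := by group
      _ = r * b * r⁻¹ * b⁻¹ := by rw [hcomm]
      _ = r * (b * r⁻¹ * b⁻¹) := by group
  rw [e]
  exact R.mul_mem hr (Subgroup.Normal.conj_mem inferInstance _ (R.inv_mem hr) b)

end Cfsg.Agent.Lib.Helper3.CUB
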