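import Mathlib
import Cfsg.Prelude.Def_Solvable
import Cfsg.Agent.Lib.Helper3.CUBDefs
import Cfsg.Agent.Lib.Helper1.FittingCentralizer
import Cfsg.Agent.Lib.Helper1.PLengthOne
import Cfsg.Agent.Lib.Helper2.Cores
import Cfsg.Agent.Lib.Helper5.CUBOdd

/-! Farm CUB (S4415): `FIT` from `ODD`. -/

set_option autoImplicit false

open scoped commutatorElement

namespace Cfsg.Agent.Lib.Helper3.CUB

universe u v

variable {G : Type u} [Group G] [Finite G] {E : Type v} [AddCommGroup E] [Module (ZMod 3) E]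
  [Finite E] {ρ : Representation (ZMod 3) G E} {R : Subgroup G} {b : G} {Q : Subgroup G}

/-- FIT from ODD. -/
theorem FIT_of (c : Cfg ρ R b Q)
    (hODD : ∀ A₀ : Subgroup G, A₀.Normal → A₀ ≤ R → (∀ x ∈ A₀, ∀ y ∈ A₀, x * y = y * x) →
      (Nat.card A₀).Coprime 6 → A₀ = ⊥) :
    ∃ T : Subgroup G, T.Normal ∧ T ≤ R ∧ IsPGroup 2 T ∧
      ∀ r ∈ R, (∀ t ∈ T, r * t = t * r) → r ∈ T := by
  haveI : Fact (Nat.Prime 2) := ⟨Nat.prime_two⟩
  haveI hRn : R.Normal := c.normal
  haveI hsG : Group.IsSolvable G := c.solv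
  -- `O = O_{2'}(R)` as a subgroup of `G`
  haveI hOc : (Cfsg.pPrimeCore 2 ↥R).Characteristic :=
    Cfsg.Agent.Lib.Helper2.pPrimeCore_characteristic 2
  set O : Subgroup G := (Cfsg.pPrimeCore 2 ↥R).map R.subtype with hO
  haveI hOn : O.Normal := ConjAct.normal_of_characteristic_of_normal
  have hOR : O ≤ R := by
    rintro x ⟨y, _, rfl⟩
    exact y.2
  have hOcard : Nat.card O = Nat.card (Cfsg.pPrimeCore 2 ↥R) :=
    Nat.card_congr ((Cfsg.pPrimeCore 2 ↥R).equivMapOfInjective _ R.subtype_injective).toEquiv.symm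
  have hO2 : (Nat.card O).Coprime 2 := by
    rw [hOcard]; exact Cfsg.Agent.Lib.Helper1.pPrimeCore_card_coprime 2
  have hO3 : (Nat.card O).Coprime 3 :=
    Nat.Coprime.coprime_dvd_left (Subgroup.card_dvd_of_le hOR) c.cop
  have hO6 : ∀ D : Subgroup G, D ≤ O → (Nat.card D).Coprime 6 := by
    intro D hD
    have h2 := Nat.Coprime.coprime_dvd_left (Subgroup.card_dvd_of_le hD) hO2
    have h3 := Nat.Coprime.coprime_dvd_left (Subgroup.card_dvd_of_le hD) hO3
    exact Nat.Coprime.mul_right h2 h3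
  -- all terms of the derived series of `O` vanish
  have hder : ∀ n, Cfsg.Agent.Lib.Helper1.derivedIn O n = ⊥ := by
    obtain ⟨m, hm⟩ := hsG.solvable
    have hbig : ∀ n, m ≤ n → Cfsg.Agent.Lib.Helper1.derivedIn O n = ⊥ := by
      intro n hn
      rw [eq_bot_iff]
      calc Cfsg.Agent.Lib.Helper1.derivedIn O n ≤ derivedSeries G n :=
            Cfsg.Agent.Lib.Helper1.derivedIn_le_derivedSeries O n
        _ ≤ derivedSeries G m := derivedSeries_antitone G hn
        _ = ⊥ := hm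
    intro n
    by_contra hne
    -- largest `k` with nontrivial term
    have hex : ∃ k, ∀ j, k ≤ j → Cfsg.Agent.Lib.Helper1.derivedIn O j = ⊥ := ⟨m, hbig⟩
    classical
    set k := Nat.find hex with hk
    have hkspec := Nat.find_spec hex
    have hk0 : k ≠ 0 := by
      intro h0
      apply hne
      exact hkspec n (by omega)
    obtain ⟨j, hj⟩ := Nat.exists_eq_succ_of_ne_zero hk0
    have hjlt : j < k := by omega
    have hjne : Cfsg.Agent.Lib.Helper1.derivedIn O j ≠ ⊥ := by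
      intro hj0
      apply Nat.find_min hex hjlt
      intro i hi
      rcases Nat.eq_or_lt_of_le hi with h | h
      · rw [← h]; exact hj0
      · exact hkspec i (by omega)
    apply hjne
    have hDn : (Cfsg.Agent.Lib.Helper1.derivedIn O j).Normal :=
      Cfsg.Agent.Lib.Helper1.derivedIn_normal O j
    have hDO : Cfsg.Agent.Lib.Helper1.derivedIn O j ≤ O :=
      Cfsg.Agent.Lib.Helper1.derivedIn_le O j
    have hDab : ⁅Cfsg.Agent.Lib.Helper1.derivedIn O j, Cfsg.Agent.Lib.Helper1.derivedIn O j⁆ = ⊥ := by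
      have := hkspec (j + 1) (by omega)
      exact this
    apply hODD _ hDn (hDO.trans hOR) _ (hO6 _ hDO)
    intro x hx y hy
    have hxy : ⁅x, y⁆ ∈ (⊥ : Subgroup G) := by
      rw [← hDab]; exact Subgroup.commutator_mem_commutator hx hy
    rw [Subgroup.mem_bot, commutatorElement_eq_one_iff_mul_comm] at hxy
    exact hxy
  have hObot : Cfsg.pPrimeCore 2 ↥R = ⊥ := by
    have h0 : O = ⊥ := hder 0
    rw [hO] at h0
    exact (Subgroup.map_eq_bot_iff_of_injective _ R.subtype_injective).mp h0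
  haveI hsR : Group.IsSolvable ↥R := inferInstance
  have hcent := Cfsg.Agent.Lib.Helper1.centralizer_pCore_le (G := ↥R) 2 hObot
  haveI hTc : (Cfsg.pCore 2 ↥R).Characteristic := Cfsg.Agent.Lib.Helper2.pCore_characteristic 2
  refine ⟨(Cfsg.pCore 2 ↥R).map R.subtype, ConjAct.normal_of_characteristic_of_normal, ?_, ?_, ?_⟩
  · rintro x ⟨y, _, rfl⟩
    exact y.2
  · exact (Cfsg.Agent.Lib.Helper2.pCore_isPGroup (G := ↥R) 2).map R.subtype
  · intro r hr hcomm
    have : (⟨r, hr⟩ : ↥R) ∈ Subgroup.centralizer ((Cfsg.pCore 2 ↥R : Subgroup ↥R) : Set ↥R) := by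
      rw [Subgroup.mem_centralizer_iff]
      intro t ht
      apply Subtype.ext
      have := hcomm (t : G) ⟨t, ht, rfl⟩
      exact this.symm
    exact ⟨⟨r, hr⟩, hcent this, rfl⟩

/-- FIT: `T = O_2(R) = F(R)` is self-centralizing in `R`. -/
theorem FIT (c : Cfg ρ R b Q) :
    ∃ T : Subgroup G, T.Normal ∧ T ≤ R ∧ IsPGroup 2 T ∧
      ∀ r ∈ R, (∀ t ∈ T, r * t = t * r) → r ∈ T :=
  FIT_of c (fun A₀ hn hle hab h6 => by
    haveI := hn
    exact Cfsg.Agent.Lib.Helper5.CUB.ODD c A₀ hle hab h6)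

end Cfsg.Agent.Lib.Helper3.CUB
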