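import Mathlib
import Cfsg.Agent.Lib.Helper3.CUBDefs
import Cfsg.Agent.Lib.Helper3.CUBT1
import Cfsg.Agent.Lib.Helper5.CUBT8
import Cfsg.Agent.Lib.Helper3.CUBFit

/-! Farm CUB (S4415), unit I3a. -/

set_option autoImplicit false

open scoped commutatorElement

namespace Cfsg.Agent.Lib.Helper3.CUB

universe u v

variable {G : Type u} [Group G] [Finite G] {E : Type v} [AddCommGroup E] [Module (ZMod 3) E]
  [Finite E] {ρ : Representation (ZMod 3) G E} {R : Subgroup G} {b : G} {Q : Subgroup G}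

/-- Nilpotent action: `P` a finite `p`-group, `T ≤ P`, `⁅T, P⁆ = T` ⟹ `T = ⊥`. -/
theorem eq_bot_of_comm_eq {p : ℕ} [Fact p.Prime] (P T : Subgroup G)
    (hP : IsPGroup p P) (hTP : T ≤ P) (h : ⁅T, P⁆ = T) : T = ⊥ := by
  have hnil : Group.IsNilpotent P := hP.isNilpotent
  obtain ⟨n, hn⟩ := (Subgroup.isNilpotent_iff_lowerCentralSeries (S := P)).1 hnil
  have key : ∀ m, T ≤ P.lowerCentralSeries m := by
    intro m
    induction m with
    | zero => exact hTP
    | succ m ih =>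
      rw [Subgroup.lowerCentralSeries_succ]
      calc T = ⁅T, P⁆ := h.symm
        _ ≤ ⁅P.lowerCentralSeries m, P⁆ := Subgroup.commutator_mono ih le_rfl
  exact le_bot_iff.1 (hn ▸ key n)

omit [Finite G] in
/-- the subgroup `{1, z}` for a central involution -/
theorem mem_zpowers_invol {z : G} (hz2 : z ^ 2 = 1) (x : G) :
    x ∈ Subgroup.zpowers z ↔ x = 1 ∨ x = z := by
  constructor
  · intro hx
    obtain ⟨k, rfl⟩ := Subgroup.mem_zpowers_iff.mp hx
    rcases Int.emod_two_eq_zero_or_one k with h | h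
    · left
      have : k = 2 * (k / 2) := by omega
      rw [this, zpow_mul, zpow_ofNat, hz2, one_zpow]
    · right
      have : k = 2 * (k / 2) + 1 := by omega
      rw [this, zpow_add, zpow_mul, zpow_ofNat, hz2, one_zpow, one_mul, zpow_one]
  · rintro (rfl | rfl)
    · exact Subgroup.one_mem _
    · exact Subgroup.mem_zpowers _

/-- `Ω₁(Z(T))` as a subgroup of `G` -/
def omegaZ (T : Subgroup G) : Subgroup G where
  carrier := {x | x ∈ T ∧ (∀ t ∈ T, t * x = x * t) ∧ x ^ 2 = 1}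
  mul_mem' := by
    rintro x y ⟨hx, hxc, hx2⟩ ⟨hy, hyc, hy2⟩
    refine ⟨T.mul_mem hx hy, ?_, ?_⟩
    · intro t ht
      rw [← mul_assoc, hxc t ht, mul_assoc, hyc t ht, mul_assoc]
    · have : (x * y) ^ 2 = x ^ 2 * y ^ 2 := by
        rw [pow_two, pow_two, pow_two]
        calc x * y * (x * y) = x * (y * x) * y := by group
          _ = x * (x * y) * y := by rw [hxc y hy]
          _ = x * x * (y * y) := by group
      rw [this, hx2, hy2, one_mul]
  one_mem' := ⟨T.one_mem, fun t _ => by simp, by simp⟩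
  inv_mem' := by
    rintro x ⟨hx, hxc, hx2⟩
    refine ⟨T.inv_mem hx, ?_, by rw [inv_pow, hx2, inv_one]⟩
    intro t ht
    have := hxc t ht
    calc t * x⁻¹ = x⁻¹ * (x * t) * x⁻¹ := by group
      _ = x⁻¹ * (t * x) * x⁻¹ := by rw [this]
      _ = x⁻¹ * t := by group

omit [Finite G] in
theorem omegaZ_normal (T : Subgroup G) [hT : T.Normal] : (omegaZ T).Normal := by
  constructor
  rintro x ⟨hx, hxc, hx2⟩ g
  refine ⟨hT.conj_mem x hx g, ?_, ?_⟩
  · intro t ht
    have h1 : g⁻¹ * t * g ∈ T := by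
      have := hT.conj_mem t ht g⁻¹
      simpa using this
    have h2 := hxc _ h1
    calc t * (g * x * g⁻¹) = g * (g⁻¹ * t * g * x) * g⁻¹ := by group
      _ = g * (x * (g⁻¹ * t * g)) * g⁻¹ := by rw [h2]
      _ = g * x * g⁻¹ * t := by group
  · rw [conj_pow, hx2]; simp

/-- Part A of I3a: `T`, `z`. -/
theorem I3a_partA (c : Cfg ρ R b Q) (hC2 : AllScal ρ R) :
    ∃ z : G, NegOne ρ R z ∧ ∃ T : Subgroup G, T.Normal ∧ T ≤ R ∧ IsPGroup 2 T ∧
      (∀ r ∈ R, (∀ t ∈ T, r * t = t * r) → r ∈ T) ∧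
      (∀ x ∈ Subgroup.centralizer (T : Set G), x ∈ T → x ^ 2 = 1 → x = 1 ∨ x = z) ∧
      z ∈ T ∧ T ≠ Subgroup.zpowers z := by
  have : Fact (Nat.Prime 2) := ⟨Nat.prime_two⟩
  obtain ⟨T, hTn, hTR, hT2, hCT⟩ := FIT c
  -- `R` has at least 4 elements
  have hR4 : 4 ≤ Nat.card R := by
    rw [← c.Q4]
    exact Nat.le_of_dvd Nat.card_pos (Subgroup.card_dvd_of_le c.QR)
  have hTne : T ≠ ⊥ := by
    intro h
    have hRb : R ≤ ⊥ := by
      intro r hr
      rw [← h]
      apply hCT r hr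
      intro t ht
      rw [h, Subgroup.mem_bot] at ht
      rw [ht]; simp
    have : Nat.card R ≤ 1 := by
      have := Subgroup.card_le_of_le hRb
      simpa using this
    omega
  -- an involution in `Z(T)`
  have hnt : Nontrivial T := (Subgroup.nontrivial_iff_ne_bot T).mpr hTne
  have hcn : Nontrivial (Subgroup.center T) := hT2.center_nontrivial
  have hcp : IsPGroup 2 (Subgroup.center T) := hT2.to_subgroup _
  obtain ⟨k, hk⟩ := IsPGroup.iff_card.mp hcp
  have hk0 : k ≠ 0 := by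
    intro h
    rw [h, pow_zero] at hk
    have := Finite.one_lt_card_iff_nontrivial.mpr hcn
    omega
  have h2dvd : 2 ∣ Nat.card (Subgroup.center T) := by
    rw [hk]; exact dvd_pow_self 2 hk0
  obtain ⟨x, hx⟩ := exists_prime_orderOf_dvd_card' 2 h2dvd
  set z : G := ((x : T) : G) with hzdef
  have hzT : z ∈ T := (x : T).2
  have hzo : orderOf z = 2 := by
    rw [hzdef, Subgroup.orderOf_coe, Subgroup.orderOf_coe, hx]
  have hz2 : z ^ 2 = 1 := by rw [← hzo]; exact pow_orderOf_eq_one z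
  have hz1 : z ≠ 1 := by
    intro h
    rw [h, orderOf_one] at hzo
    omega
  have hzc : ∀ t ∈ T, t * z = z * t := by
    intro t ht
    have := Subgroup.mem_center_iff.mp x.2 ⟨t, ht⟩
    exact congrArg Subtype.val this
  have hΩn : (omegaZ T).Normal := omegaZ_normal T
  have hΩR : omegaZ T ≤ R := fun y hy => hTR hy.1
  have hΩ2 : ∀ a ∈ omegaZ T, a ^ 2 = 1 := fun a ha => ha.2.2
  have hscal := hC2 (omegaZ T) hΩn hΩR hΩ2
  have hzΩ : z ∈ omegaZ T := ⟨hzT, hzc, hz2⟩
  have hzneg : NegOne ρ R z := by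
    rcases Cfsg.Agent.Lib.Helper5.CUB.isScal_cases c z (hscal z hzΩ) with h | h
    · exact absurd h hz1
    · exact h
  refine ⟨z, hzneg, T, hTn, hTR, hT2, hCT, ?_, hzT, ?_⟩
  · intro y hyc hyT hy2
    have hyΩ : y ∈ omegaZ T := by
      refine ⟨hyT, ?_, hy2⟩
      intro t ht
      exact Subgroup.mem_centralizer_iff.mp hyc t ht
    rcases Cfsg.Agent.Lib.Helper5.CUB.isScal_cases c y (hscal y hyΩ) with h | h
    · left; exact h
    · right; exact Cfsg.Agent.Lib.Helper5.CUB.negOne_unique c y z h hzneg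
  · intro hTz
    have hzcen := (Cfsg.Agent.Lib.Helper5.CUB.negOne_props c z hzneg).2.2.2
    have hRT : R ≤ T := by
      intro r hr
      apply hCT r hr
      intro t ht
      rw [hTz] at ht
      rcases (mem_zpowers_invol hz2 t).mp ht with rfl | rfl
      · simp
      · exact (hzcen r).symm
    have h1 : Nat.card R ≤ Nat.card T := Subgroup.card_le_of_le hRT
    have h2 : Nat.card T = 2 := by
      rw [hTz, Nat.card_zpowers, hzo]
    omega

omit [Finite G] in
theorem zpowers_normal_of_central {z : G} (hzc : ∀ g : G, z * g = g * z) :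
    (Subgroup.zpowers z).Normal := by
  constructor
  intro n hn g
  obtain ⟨k, rfl⟩ := Subgroup.mem_zpowers_iff.mp hn
  have : g * z ^ k * g⁻¹ = z ^ k := by
    have h : Commute z g := hzc g
    have := (h.zpow_left k).eq
    rw [← this]; group
  rw [this]
  exact Subgroup.zpow_mem_zpowers z k

/-- the elements of `N` whose square lies in `{1,z}` (a subgroup when `[N,N] ≤ {1,z}`) -/
def sqSub (N : Subgroup G) (z : G) (hzc : ∀ g : G, z * g = g * z) (hz2 : z ^ 2 = 1)
    (hcomm : ∀ x ∈ N, ∀ y ∈ N, ⁅x, y⁆ = 1 ∨ ⁅x, y⁆ = z) : Subgroup G where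
  carrier := {x | x ∈ N ∧ (x ^ 2 = 1 ∨ x ^ 2 = z)}
  mul_mem' := by
    rintro x y ⟨hx, hx2⟩ ⟨hy, hy2⟩
    refine ⟨N.mul_mem hx hy, ?_⟩
    have hc := hcomm y hy x hx
    have hcc : ∀ g : G, ⁅y, x⁆ * g = g * ⁅y, x⁆ := by
      intro g
      rcases hc with h | h
      · rw [h]; simp
      · rw [h]; exact hzc g
    have e : (x * y) ^ 2 = ⁅y, x⁆ * x ^ 2 * y ^ 2 := by
      have h1 : y * x = ⁅y, x⁆ * x * y := by rw [commutatorElement_def]; group
      calc (x * y) ^ 2 = x * (y * x) * y := by rw [pow_two]; group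
        _ = x * (⁅y, x⁆ * x * y) * y := by rw [h1]
        _ = (x * ⁅y, x⁆) * x * y * y := by group
        _ = (⁅y, x⁆ * x) * x * y * y := by rw [hcc x]
        _ = ⁅y, x⁆ * x ^ 2 * y ^ 2 := by rw [pow_two, pow_two]; group
    rw [e]
    have hzz : z * z = 1 := by rw [← pow_two]; exact hz2
    rcases hc with h | h <;> rcases hx2 with h1 | h1 <;> rcases hy2 with h2 | h2 <;>
      rw [h, h1, h2] <;> simp [hzz]
  one_mem' := ⟨N.one_mem, Or.inl (by simp)⟩
  inv_mem' := by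
    rintro x ⟨hx, hx2⟩
    refine ⟨N.inv_mem hx, ?_⟩
    have hzi : z⁻¹ = z := by
      have hzz : z * z = 1 := by rw [← pow_two]; exact hz2
      exact inv_eq_of_mul_eq_one_left hzz
    rcases hx2 with h | h
    · left; rw [inv_pow, h, inv_one]
    · right; rw [inv_pow, h, hzi]

/-- Part B of I3a: `N₂`. -/
theorem I3a_partB (c : Cfg ρ R b Q) (z : G) (hzneg : NegOne ρ R z) (T : Subgroup G)
    (hTn : T.Normal) (hT2 : IsPGroup 2 T) (hzT : z ∈ T) (hTz : T ≠ Subgroup.zpowers z) :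
    ∃ N₂ : Subgroup G, N₂.Normal ∧ N₂ ≤ T ∧
      (∀ x ∈ N₂, ∀ t ∈ T, ⁅x, t⁆ = 1 ∨ ⁅x, t⁆ = z) ∧ (∀ x ∈ N₂, x ^ 2 = 1 ∨ x ^ 2 = z) ∧
      ∃ x ∈ N₂, x⁻¹ * (b * x * b⁻¹) ≠ 1 ∧ x⁻¹ * (b * x * b⁻¹) ≠ z := by
  have : Fact (Nat.Prime 2) := ⟨Nat.prime_two⟩
  obtain ⟨-, hz2, hz1, hzc⟩ := Cfsg.Agent.Lib.Helper5.CUB.negOne_props c z hzneg
  set Z := Subgroup.zpowers z with hZ
  have hZn : Z.Normal := zpowers_normal_of_central hzc
  have hmemZ : ∀ x, x ∈ Z ↔ x = 1 ∨ x = z := mem_zpowers_invol hz2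
  let P : Subgroup G → Prop := fun N => N.Normal ∧ N ≤ T ∧ z ∈ N ∧ N ≠ Z
  obtain ⟨N₂, ⟨hNn, hNT, hzN, hNZ⟩, hmin⟩ :=
    exists_minimal_of_wellFoundedLT P ⟨T, hTn, le_rfl, hzT, hTz⟩
  have hZN : Z ≤ N₂ := by rw [hZ, Subgroup.zpowers_le]; exact hzN
  -- dichotomy for normal subgroups between `Z` and `N₂`
  have hdich : ∀ N : Subgroup G, N.Normal → N ≤ N₂ → z ∈ N → N = Z ∨ N = N₂ := by
    intro N hn hle hz
    by_cases h : N = Z
    · left; exact h
    · right
      exact le_antisymm hle (hmin ⟨hn, hle.trans hNT, hz, h⟩ hle)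
  -- (1) `[N₂, T] ≤ Z`
  have h1 : ∀ x ∈ N₂, ∀ t ∈ T, ⁅x, t⁆ = 1 ∨ ⁅x, t⁆ = z := by
    set M := ⁅N₂, T⁆ with hM
    have hMn : M.Normal := Subgroup.commutator_normal N₂ T
    have hMN : M ≤ N₂ := Subgroup.commutator_le_left N₂ T
    have hsupn : (M ⊔ Z).Normal := Subgroup.sup_normal M Z
    have hsup_le : M ⊔ Z ≤ N₂ := sup_le hMN hZN
    have hzsup : z ∈ M ⊔ Z := Subgroup.mem_sup_right (Subgroup.mem_zpowers z)
    have hMZ : M ≤ Z := by
      rcases hdich (M ⊔ Z) hsupn hsup_le hzsup with h | h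
      · rw [← h]; exact le_sup_left
      · exfalso
        have hMM : ⁅M, T⁆ = M := by
          apply le_antisymm
          · calc ⁅M, T⁆ ≤ ⁅N₂, T⁆ := Subgroup.commutator_mono hMN le_rfl
              _ = M := rfl
          · rw [hM, Subgroup.commutator_le]
            intro n hn t ht
            rw [← h, Subgroup.mem_sup_of_normal_left] at hn
            obtain ⟨m, hm, z', hz', rfl⟩ := hn
            have hz'c : ∀ g : G, z' * g = g * z' := by
              intro g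
              rcases (hmemZ z').mp hz' with rfl | rfl
              · simp
              · exact hzc g
            have : ⁅m * z', t⁆ = ⁅m, t⁆ := by
              rw [commutatorElement_def, commutatorElement_def]
              calc m * z' * t * (m * z')⁻¹ * t⁻¹ = m * (z' * t) * z'⁻¹ * m⁻¹ * t⁻¹ := by group
                _ = m * (t * z') * z'⁻¹ * m⁻¹ * t⁻¹ := by rw [hz'c t]
                _ = m * t * m⁻¹ * t⁻¹ := by group
            rw [this]
            exact Subgroup.commutator_mem_commutator hm ht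
        have hMbot : M = ⊥ := eq_bot_of_comm_eq T M hT2 (hMN.trans hNT) hMM
        apply hNZ
        rw [← h, hMbot, bot_sup_eq]
    intro x hx t ht
    exact (hmemZ _).mp (hMZ (Subgroup.commutator_mem_commutator hx ht))
  have hcomm : ∀ x ∈ N₂, ∀ y ∈ N₂, ⁅x, y⁆ = 1 ∨ ⁅x, y⁆ = z :=
    fun x hx y hy => h1 x hx y (hNT hy)
  -- an element of `N₂` outside `Z`
  obtain ⟨y, hyN, hyZ⟩ : ∃ y ∈ N₂, y ∉ Z := by
    by_contra hcon
    push Not at hcon
    exact hNZ (le_antisymm hcon hZN)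
  -- (2) squares
  have h2 : ∀ x ∈ N₂, x ^ 2 = 1 ∨ x ^ 2 = z := by
    set Ω := sqSub N₂ z hzc hz2 hcomm with hΩ
    have hΩn : Ω.Normal := by
      constructor
      rintro x ⟨hx, hx2⟩ g
      refine ⟨hNn.conj_mem x hx g, ?_⟩
      rw [conj_pow]
      rcases hx2 with h | h
      · left; rw [h]; simp
      · right; rw [h]
        calc g * z * g⁻¹ = (z * g) * g⁻¹ := by rw [hzc g]
          _ = z := by group
    have hΩN : Ω ≤ N₂ := fun x hx => hx.1
    have hzΩ : z ∈ Ω := ⟨hzN, Or.inl hz2⟩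
    rcases hdich Ω hΩn hΩN hzΩ with h | h
    · exfalso
      -- find `x ∈ N₂ \ Z` with `x² ∈ Z`
      have hex : ∃ k : ℕ, y ^ (2 ^ k) ∈ Z := by
        obtain ⟨k, hk⟩ := (IsPGroup.iff_orderOf.mp hT2) ⟨y, hNT hyN⟩
        refine ⟨k, ?_⟩
        have : y ^ (2 ^ k) = 1 := by
          have h' : orderOf y = 2 ^ k := by
            rw [← hk]; exact (Subgroup.orderOf_mk y (hNT hyN)).symm
          rw [← h']; exact pow_orderOf_eq_one y
        rw [this]; exact Z.one_mem
      classical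
      set k₀ := Nat.find hex with hk₀
      have hk₀spec : y ^ (2 ^ k₀) ∈ Z := Nat.find_spec hex
      have hk₀ne : k₀ ≠ 0 := by
        intro h0
        rw [h0, pow_zero, pow_one] at hk₀spec
        exact hyZ hk₀spec
      obtain ⟨j, hj⟩ := Nat.exists_eq_succ_of_ne_zero hk₀ne
      have hjlt : j < k₀ := by omega
      have hxnot : y ^ (2 ^ j) ∉ Z := Nat.find_min hex hjlt
      have hxsq : (y ^ (2 ^ j)) ^ 2 ∈ Z := by
        rw [← pow_mul, ← pow_succ]
        have : j + 1 = k₀ := by omega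
        rw [this]; exact hk₀spec
      have hxΩ : y ^ (2 ^ j) ∈ Ω := ⟨N₂.pow_mem hyN _, (hmemZ _).mp hxsq⟩
      rw [h] at hxΩ
      exact hxnot hxΩ
    · intro x hx
      have : x ∈ Ω := by rw [h]; exact hx
      exact this.2
  refine ⟨N₂, hNn, hNT, h1, h2, ?_⟩
  -- (a) `b` is nontrivial on `N₂ / Z`
  by_contra hcon
  push Not at hcon
  have hb3 : b * b * b = 1 := by
    have : b ^ 3 = 1 := by rw [← c.b3]; exact pow_orderOf_eq_one b
    rw [← this, pow_succ, pow_two]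
  have hbcent : ∀ a ∈ N₂, b * a = a * b := by
    intro a ha
    by_cases h : a⁻¹ * (b * a * b⁻¹) = 1
    · have : b * a * b⁻¹ = a := by
        have := congrArg (fun t => a * t) h
        simpa [mul_assoc] using this
      calc b * a = b * a * b⁻¹ * b := by group
        _ = a * b := by rw [this]
    · exfalso
      have hz' := hcon a ha h
      have hconj : b * a * b⁻¹ = a * z := by
        rw [← hz']; group
      have hbz : b * z * b⁻¹ = z := by
        calc b * z * b⁻¹ = b * (z * b⁻¹) := by group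
          _ = b * (b⁻¹ * z) := by rw [hzc b⁻¹]
          _ = z := by group
      have h3 : b * (b * (b * a * b⁻¹) * b⁻¹) * b⁻¹ = a * z * z * z := by
        rw [hconj]
        have e1 : b * (a * z) * b⁻¹ = (b * a * b⁻¹) * (b * z * b⁻¹) := by group
        rw [e1, hconj, hbz]
        have e2 : b * (a * z * z) * b⁻¹ = (b * a * b⁻¹) * (b * z * b⁻¹) * (b * z * b⁻¹) := by group
        rw [e2, hconj, hbz]
      have h4 : b * (b * (b * a * b⁻¹) * b⁻¹) * b⁻¹ = (b * b * b) * a * (b * b * b)⁻¹ := by group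
      rw [h4, hb3] at h3
      have hzz : z * z = 1 := by rw [← pow_two]; exact hz2
      have : a = a * z := by
        calc a = 1 * a * 1⁻¹ := by group
          _ = a * z * z * z := h3
          _ = a * (z * z) * z := by group
          _ = a * z := by rw [hzz, mul_one]
      apply hz1
      have := mul_left_cancel (a := a) (b := 1) (c := z) (by rw [mul_one]; exact this)
      exact this.symm
  have hcen := P0c c N₂ hbcent
  apply hyZ
  have hycen : ∀ g : G, y * g = g * y := fun g => (hcen g y hyN).symm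
  rcases Cfsg.Agent.Lib.Helper5.CUB.isScal_cases c y (Cfsg.Agent.Lib.Helper5.CUB.QP1 c y hycen) with h | h
  · rw [h]; exact Z.one_mem
  · rw [Cfsg.Agent.Lib.Helper5.CUB.negOne_unique c y z h hzneg]; exact Subgroup.mem_zpowers z

/-- I3a -/
theorem I3a (c : Cfg ρ R b Q) (hC2 : AllScal ρ R) :
    ∃ z : G, NegOne ρ R z ∧ ∃ T : Subgroup G, T.Normal ∧ T ≤ R ∧ IsPGroup 2 T ∧
      (∀ r ∈ R, (∀ t ∈ T, r * t = t * r) → r ∈ T) ∧
      (∀ x ∈ Subgroup.centralizer (T : Set G), x ∈ T → x ^ 2 = 1 → x = 1 ∨ x = z) ∧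
      ∃ N₂ : Subgroup G, N₂.Normal ∧ N₂ ≤ T ∧
        (∀ x ∈ N₂, ∀ t ∈ T, ⁅x, t⁆ = 1 ∨ ⁅x, t⁆ = z) ∧ (∀ x ∈ N₂, x ^ 2 = 1 ∨ x ^ 2 = z) ∧
        ∃ x ∈ N₂, x⁻¹ * (b * x * b⁻¹) ≠ 1 ∧ x⁻¹ * (b * x * b⁻¹) ≠ z := by
  obtain ⟨z, hzneg, T, hTn, hTR, hT2, hCT, hΩ, hzT, hTz⟩ := I3a_partA c hC2
  exact ⟨z, hzneg, T, hTn, hTR, hT2, hCT, hΩ, I3a_partB c z hzneg T hTn hT2 hzT hTz⟩

end Cfsg.Agent.Lib.Helper3.CUB
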