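import Mathlib
import Cfsg.Agent.Lib.Helper3.CUBDefs
import Cfsg.Agent.Lib.Helper3.CUBT1
import Cfsg.Agent.Lib.Helper3.CUBI3a
import Cfsg.Agent.Lib.Helper5.CUBT8

/-! Farm CUB (S4415), unit I3b. -/

set_option autoImplicit false

open scoped commutatorElement

namespace Cfsg.Agent.Lib.Helper3.CUB

universe u v

variable {G : Type u} [Group G] [Finite G] {E : Type v} [AddCommGroup E] [Module (ZMod 3) E]
  [Finite E] {ρ : Representation (ZMod 3) G E} {R : Subgroup G} {b : G} {Q : Subgroup G}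

/-- the four-group `{1, y, y₁, y₂}` -/
def fourSub (y y₁ y₂ : G) (hy : y * y = 1) (hy₁ : y₁ * y₁ = 1) (hy₂ : y₂ * y₂ = 1)
    (h12 : y * y₁ = y₂) (h21 : y₁ * y = y₂) : Subgroup G where
  carrier := {1, y, y₁, y₂}
  mul_mem' := by
    have h1 : y * y₂ = y₁ := by rw [← h12, ← mul_assoc, hy, one_mul]
    have h2 : y₂ * y = y₁ := by rw [← h21, mul_assoc, hy, mul_one]
    have h3 : y₁ * y₂ = y := by rw [← h21, ← mul_assoc, hy₁, one_mul]
    have h4 : y₂ * y₁ = y := by rw [← h12, mul_assoc, hy₁, mul_one]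
    intro a b ha hb
    simp only [Set.mem_insert_iff, Set.mem_singleton_iff] at ha hb ⊢
    rcases ha with rfl | rfl | rfl | rfl <;> rcases hb with rfl | rfl | rfl | rfl <;>
      simp [hy, hy₁, hy₂, h12, h21, h1, h2, h3, h4]
  one_mem' := by simp
  inv_mem' := by
    intro a ha
    simp only [Set.mem_insert_iff, Set.mem_singleton_iff] at ha ⊢
    rcases ha with rfl | rfl | rfl | rfl
    · simp
    · right; left; exact inv_eq_of_mul_eq_one_left hy
    · right; right; left; exact inv_eq_of_mul_eq_one_left hy₁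
    · right; right; right; exact inv_eq_of_mul_eq_one_left hy₂

omit [Finite G] in
theorem mem_fourSub {y y₁ y₂ : G} (hy : y * y = 1) (hy₁ : y₁ * y₁ = 1) (hy₂ : y₂ * y₂ = 1)
    (h12 : y * y₁ = y₂) (h21 : y₁ * y = y₂) (x : G) :
    x ∈ fourSub y y₁ y₂ hy hy₁ hy₂ h12 h21 ↔ x = 1 ∨ x = y ∨ x = y₁ ∨ x = y₂ := by
  change x ∈ ({1, y, y₁, y₂} : Set G) ↔ _
  simp

omit [Finite G] in
theorem card_fourSub {y y₁ y₂ : G} (hy : y * y = 1) (hy₁ : y₁ * y₁ = 1) (hy₂ : y₂ * y₂ = 1)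
    (h12 : y * y₁ = y₂) (h21 : y₁ * y = y₂) (hy1 : y ≠ 1) (hy₁1 : y₁ ≠ 1) (hy₂1 : y₂ ≠ 1)
    (hne : y ≠ y₁) (hne' : y₁ ≠ y₂) (hne'' : y ≠ y₂) :
    Nat.card (fourSub y y₁ y₂ hy hy₁ hy₂ h12 h21) = 4 := by
  classical
  change Nat.card (({1, y, y₁, y₂} : Set G)) = 4
  rw [Nat.card_coe_set_eq, Set.ncard_insert_of_notMem, Set.ncard_insert_of_notMem,
    Set.ncard_insert_of_notMem, Set.ncard_singleton]
  · simpa using hne'
  · simp only [Set.mem_insert_iff, Set.mem_singleton_iff, not_or]; exact ⟨hne, hne''⟩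
  · simp only [Set.mem_insert_iff, Set.mem_singleton_iff, not_or]
    exact ⟨fun h => hy1 h.symm, fun h => hy₁1 h.symm, fun h => hy₂1 h.symm⟩

omit [Finite G] in
theorem conj_of_comm_eq {y t z : G} (hyy : y * y = 1) (h : y * t * y⁻¹ * t⁻¹ = z)
    (hzc : ∀ g : G, z * g = g * z) : t * y * t⁻¹ = z * y := by
  have hyi : y⁻¹ = y := inv_eq_of_mul_eq_one_left hyy
  rw [hyi] at h
  calc t * y * t⁻¹ = (y * y) * (t * y * t⁻¹) := by rw [hyy, one_mul]
    _ = y * (y * t * y * t⁻¹) := by group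
    _ = y * z := by rw [h]
    _ = z * y := (hzc y).symm

/-- a `b`-invariant four-group `{1, y, byb⁻¹, b²yb⁻²}` in `R` gives a configuration -/
theorem cfg_fourSub (c : Cfg ρ R b Q) {y y₁ y₂ : G} (hy : y * y = 1) (hy₁ : y₁ * y₁ = 1)
    (hy₂ : y₂ * y₂ = 1) (h12 : y * y₁ = y₂) (h21 : y₁ * y = y₂) (hy1 : y ≠ 1)
    (hb1 : b * y * b⁻¹ = y₁) (hb2 : b * y₁ * b⁻¹ = y₂) (hb3 : b * y₂ * b⁻¹ = y)
    (hne : y ≠ y₁) (hyR : y ∈ R) :
    Cfg ρ R b (fourSub y y₁ y₂ hy hy₁ hy₂ h12 h21) := by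
  have hn := c.normal
  have hconj_ne : ∀ {u v : G}, u ≠ v → b * u * b⁻¹ ≠ b * v * b⁻¹ := by
    intro u v huv h
    exact huv (mul_left_cancel (mul_right_cancel h))
  have hy₁1 : y₁ ≠ 1 := by
    intro h
    apply hy1
    have : b * y * b⁻¹ = b * 1 * b⁻¹ := by rw [hb1, h]; simp
    exact mul_left_cancel (mul_right_cancel this)
  have hy₂1 : y₂ ≠ 1 := by
    intro h
    apply hy₁1
    have : b * y₁ * b⁻¹ = b * 1 * b⁻¹ := by rw [hb2, h]; simp
    exact mul_left_cancel (mul_right_cancel this)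
  have hne' : y₁ ≠ y₂ := by
    have := hconj_ne hne
    rwa [hb1, hb2] at this
  have hne'' : y ≠ y₂ := by
    have := hconj_ne hne'
    rw [hb2, hb3] at this
    exact fun h => this h.symm
  have hy₁R : y₁ ∈ R := by rw [← hb1]; exact hn.conj_mem y hyR b
  have hy₂R : y₂ ∈ R := by rw [← hb2]; exact hn.conj_mem y₁ hy₁R b
  have hmem := mem_fourSub hy hy₁ hy₂ h12 h21
  refine { c with QR := ?_, Q4 := ?_, Q2 := ?_, bQ := ?_, bQ' := ?_ }
  · intro x hx
    rcases (hmem x).mp hx with rfl | rfl | rfl | rfl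
    · exact R.one_mem
    · exact hyR
    · exact hy₁R
    · exact hy₂R
  · exact card_fourSub hy hy₁ hy₂ h12 h21 hy1 hy₁1 hy₂1 hne hne' hne''
  · intro q hq
    rcases (hmem q).mp hq with rfl | rfl | rfl | rfl
    · simp
    · rw [pow_two]; exact hy
    · rw [pow_two]; exact hy₁
    · rw [pow_two]; exact hy₂
  · have hfwd : ∀ h, h ∈ fourSub y y₁ y₂ hy hy₁ hy₂ h12 h21 →
        b * h * b⁻¹ ∈ fourSub y y₁ y₂ hy hy₁ hy₂ h12 h21 := by
      intro h hh
      rcases (hmem h).mp hh with rfl | rfl | rfl | rfl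
      · simp
      · rw [hb1]; exact (hmem _).mpr (Or.inr (Or.inr (Or.inl rfl)))
      · rw [hb2]; exact (hmem _).mpr (Or.inr (Or.inr (Or.inr rfl)))
      · rw [hb3]; exact (hmem _).mpr (Or.inr (Or.inl rfl))
    have hbbb : b * b * b = 1 := by
      have : b ^ 3 = 1 := by rw [← c.b3]; exact pow_orderOf_eq_one b
      rw [← this, pow_succ, pow_two]
    rw [Subgroup.mem_normalizer_iff]
    intro h
    refine ⟨hfwd h, fun hh => ?_⟩
    have h2 := hfwd _ (hfwd _ hh)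
    have e : b * (b * (b * h * b⁻¹) * b⁻¹) * b⁻¹ = (b * b * b) * h * (b * b * b)⁻¹ := by group
    rw [e, hbbb] at h2
    simpa using h2
  · intro hc
    apply hne
    have := Subgroup.mem_centralizer_iff.mp hc y ((hmem y).mpr (Or.inr (Or.inl rfl)))
    rw [← hb1]
    calc y = y * b * b⁻¹ := by group
      _ = b * y * b⁻¹ := by rw [this]

/-- I3b: in case (C2) we reach the QUAT or the HALF configuration. -/
theorem I3b (c : Cfg ρ R b Q) (hC2 : AllScal ρ R) :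
    ∃ z : G, NegOne ρ R z ∧
      ((∃ i : G, i ^ 2 = z ∧ i * (b * i * b⁻¹) = z * ((b * i * b⁻¹) * i)) ∨
       (∃ Q' : Subgroup G, Cfg ρ R b Q' ∧ ∃ e ∈ Q', e ≠ 1 ∧ ∃ t : G, t * e * t⁻¹ = z * e)) := by
  obtain ⟨z, hzneg, T, hTn, hTR, hT2, hCT, hΩ, N₂, hNn, hNT, h1, h2, x, hxN, hx1, hxz⟩ :=
    I3a c hC2
  refine ⟨z, hzneg, ?_⟩
  obtain ⟨-, hz2, hz1, hzc⟩ := Cfsg.Agent.Lib.Helper5.CUB.negOne_props c z hzneg
  have hzz : z * z = 1 := by rw [← pow_two]; exact hz2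
  have hbbb : b * b * b = 1 := by
    have : b ^ 3 = 1 := by rw [← c.b3]; exact pow_orderOf_eq_one b
    rw [← this, pow_succ, pow_two]
  have hbz : b * z * b⁻¹ = z := by
    calc b * z * b⁻¹ = b * (z * b⁻¹) := by group
      _ = b * (b⁻¹ * z) := by rw [hzc b⁻¹]
      _ = z := by group
  set y := x⁻¹ * (b * x * b⁻¹) with hy
  set y₁ := b * y * b⁻¹ with hy₁
  set y₂ := b * y₁ * b⁻¹ with hy₂
  have hyN : y ∈ N₂ := N₂.mul_mem (N₂.inv_mem hxN) (hNn.conj_mem x hxN b)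
  have hy₁N : y₁ ∈ N₂ := hNn.conj_mem y hyN b
  have hy₂N : y₂ ∈ N₂ := hNn.conj_mem y₁ hy₁N b
  have hb3 : b * y₂ * b⁻¹ = y := by
    rw [hy₂, hy₁]
    have e : b * (b * (b * y * b⁻¹) * b⁻¹) * b⁻¹ = (b * b * b) * y * (b * b * b)⁻¹ := by group
    rw [e, hbbb]; simp
  -- telescoping product
  have hprod : y * y₁ * y₂ = 1 := by
    rw [hy₂, hy₁, hy]
    have e : x⁻¹ * (b * x * b⁻¹) * (b * (x⁻¹ * (b * x * b⁻¹)) * b⁻¹) *
        (b * (b * (x⁻¹ * (b * x * b⁻¹)) * b⁻¹) * b⁻¹) = x⁻¹ * ((b * b * b) * x * (b * b * b)⁻¹) := by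
      group
    rw [e, hbbb]; simp
  have hsq₁ : y₁ ^ 2 = b * y ^ 2 * b⁻¹ := by rw [hy₁, conj_pow]
  have hsq₂ : y₂ ^ 2 = b * y₁ ^ 2 * b⁻¹ := by rw [hy₂, conj_pow]
  rcases h2 y hyN with hs | hs
  · -- `y² = 1`: the HALF configuration
    right
    have hyy : y * y = 1 := by rw [← pow_two]; exact hs
    have hy₁y₁ : y₁ * y₁ = 1 := by rw [← pow_two, hsq₁, hs]; simp
    have hy₂y₂ : y₂ * y₂ = 1 := by rw [← pow_two, hsq₂, hsq₁, hs]; simp
    have hinv₂ : y₂⁻¹ = y₂ := inv_eq_of_mul_eq_one_left hy₂y₂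
    have h12 : y * y₁ = y₂ := by
      have : y * y₁ = y₂⁻¹ := eq_inv_of_mul_eq_one_left hprod
      rw [this, hinv₂]
    have h21 : y₁ * y = y₂ := by
      have e1 : y * y₁ * (y * y₁) = 1 := by rw [h12]; exact hy₂y₂
      have e2 : y₁ * y = y * (y * y₁ * (y * y₁)) * y₁ := by
        calc y₁ * y = (y * y) * (y₁ * y) * (y₁ * y₁) := by rw [hyy, hy₁y₁]; group
          _ = y * (y * y₁ * (y * y₁)) * y₁ := by group
      rw [e2, e1, mul_one, h12]
    have hne : y ≠ y₁ := by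
      intro h
      have h' : y₂ = y := by
        rw [hy₂, ← h]; exact h.symm
      have : y * y * y = 1 := by
        have := hprod
        rw [← h, h'] at this
        exact this
      rw [hyy, one_mul] at this
      exact hx1 this
    have hyR : y ∈ R := hTR (hNT hyN)
    have hcfg := cfg_fourSub c hyy hy₁y₁ hy₂y₂ h12 h21 hx1 rfl rfl hb3 hne hyR
    refine ⟨_, hcfg, y, (mem_fourSub hyy hy₁y₁ hy₂y₂ h12 h21 y).mpr (Or.inr (Or.inl rfl)), hx1, ?_⟩
    by_contra hcon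
    push Not at hcon
    -- then `y` is central in `T`
    have hcent : y ∈ Subgroup.centralizer (T : Set G) := by
      rw [Subgroup.mem_centralizer_iff]
      intro t ht
      rcases h1 y hyN t ht with h | h
      · rw [commutatorElement_def] at h
        calc t * y = (y * t * y⁻¹ * t⁻¹)⁻¹ * (y * t) := by group
          _ = y * t := by rw [h]; simp
      · exfalso
        apply hcon t
        rw [commutatorElement_def] at h
        exact conj_of_comm_eq hyy h hzc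
    rcases hΩ y hcent (hNT hyN) hs with h | h
    · exact hx1 h
    · exact hxz h
  · -- `y² = z`: the QUAT configuration
    left
    refine ⟨y, hs, ?_⟩
    have hy₁sq : y₁ ^ 2 = z := by rw [hsq₁, hs, hbz]
    have hy₂sq : y₂ ^ 2 = z := by rw [hsq₂, hy₁sq, hbz]
    rcases h1 y hyN y₁ (hNT hy₁N) with h | h
    · exfalso
      -- `y` and `y₁` commute, so `(y y₁)² = z z = 1`, but `y y₁ = y₂⁻¹`
      rw [commutatorElement_def] at h
      have hcomm : y * y₁ = y₁ * y := by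
        calc y * y₁ = (y * y₁ * y⁻¹ * y₁⁻¹) * (y₁ * y) := by group
          _ = y₁ * y := by rw [h, one_mul]
      have e1 : (y * y₁) ^ 2 = y ^ 2 * y₁ ^ 2 := by
        rw [pow_two, pow_two, pow_two]
        calc y * y₁ * (y * y₁) = y * (y₁ * y) * y₁ := by group
          _ = y * (y * y₁) * y₁ := by rw [hcomm]
          _ = y * y * (y₁ * y₁) := by group
      have e2 : y * y₁ = y₂⁻¹ := eq_inv_of_mul_eq_one_left hprod
      rw [e2, inv_pow, hy₂sq, hs, hy₁sq, hzz] at e1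
      apply hz1
      have : z = 1 := by
        have := congrArg (fun t => t⁻¹) e1
        simpa using this
      exact this
    · rw [commutatorElement_def] at h
      calc y * y₁ = (y * y₁ * y⁻¹ * y₁⁻¹) * (y₁ * y) := by group
        _ = z * (y₁ * y) := by rw [h]

end Cfsg.Agent.Lib.Helper3.CUB
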