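import Mathlib
import Cfsg.Agent.Lib.Helper3.CUBDefs
import Cfsg.Agent.Lib.Helper5.CUBP5
import Cfsg.Agent.Lib.Helper7.CUBS3

/-! Farm CUB (S4415), unit T7: `decomp`, the module half at the `Cfg` level
(adapter of `Helper7.CUB.module_half`). -/

set_option autoImplicit false

open scoped commutatorElement

namespace Cfsg.Agent.Lib.Helper3.CUB

universe u v

variable {G : Type u} [Group G] [Finite G] {E : Type v} [AddCommGroup E] [Module (ZMod 3) E]
  [Finite E] {ρ : Representation (ZMod 3) G E} {R : Subgroup G} {b : G} {Q : Subgroup G}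

omit [Finite G] [Finite E] in
theorem fixSub_eq_fixS (ρ : Representation (ZMod 3) G E) (X : Subgroup G) :
    fixSub ρ X = Cfsg.Agent.Lib.Helper7.CUB.fixS ρ X := rfl

omit [Finite G] [Finite E] in
theorem commSub_eq_commS (ρ : Representation (ZMod 3) G E) (X : Subgroup G) :
    commSub ρ X = Cfsg.Agent.Lib.Helper7.CUB.commS ρ X := rfl

theorem decomp (c : Cfg ρ R b Q) :
    commSub ρ R ⊓ fixSub ρ R = ⊥ ∧ commSub ρ R ⊔ fixSub ρ R = ⊤ ∧
    (∀ r ∈ R, ∀ v ∈ fixSub ρ R, ρ r v = v) ∧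
    (∀ g : G, ∀ v ∈ commSub ρ R, ρ g v ∈ commSub ρ R) ∧
    (∀ g : G, (∀ v ∈ commSub ρ R, ρ g v = v) → g = 1) ∧
    (∀ N : Submodule (ZMod 3) E, N ≤ commSub ρ R → (∀ g : G, Inv ρ g N) →
      N = ⊥ ∨ N = commSub ρ R) := by
  have hd := Cfsg.Agent.Lib.Helper5.CUB.fourData c
  have hn := c.normal
  have hBR : Subgroup.zpowers b ≤ Subgroup.normalizer (R : Set G) := by
    rw [Subgroup.normalizer_eq_top]; exact le_top
  have hRB : R ≤ ⁅R, Subgroup.zpowers b⁆ := by rw [c.comm]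
  obtain ⟨h1, h2, h3, h4, h5, h6⟩ :=
    Cfsg.Agent.Lib.Helper7.CUB.module_half ρ R (Subgroup.zpowers b) Q b c.faith c.cop hBR hRB c.QR
      rfl hd.fix_b' hd.dichotomy'
  have htop : ∀ g : G, g ∈ R ⊔ Subgroup.zpowers b := fun g => by
    rw [c.top]; exact Subgroup.mem_top g
  refine ⟨h1, h2, h3, fun g => h4 g (htop g), fun g => h5 g (htop g), ?_⟩
  intro N hN hinv
  exact h6 N hN (fun r _ v hv => hinv r v hv)

end Cfsg.Agent.Lib.Helper3.CUB
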