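import Mathlib
import Cfsg.Agent.Lib.Helper3.CUBDefs
import Cfsg.Agent.Lib.Helper3.CUBI3b
import Cfsg.Agent.Lib.Helper3.CUBT7
import Cfsg.Agent.Lib.Helper3.CUBFit
import Cfsg.Agent.Lib.Helper5.CUBHalf
import Cfsg.Agent.Lib.Helper5.CUBDim
import Cfsg.Agent.Lib.Helper8.CUBEA
import Cfsg.Agent.Lib.Helper4.CUBI4pre

/-! Farm CUB (S4415): assembly, part 1: `I3`, `dim_le_four`, `I4`. -/

set_option autoImplicit false

open scoped commutatorElement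

namespace Cfsg.Agent.Lib.Helper3.CUB

universe u v

variable {G : Type u} [Group G] [Finite G] {E : Type v} [AddCommGroup E] [Module (ZMod 3) E]
  [Finite E] {ρ : Representation (ZMod 3) G E} {R : Subgroup G} {b : G} {Q : Subgroup G}

/-- I3: `dim W ≤ 4` in case (C2). -/
theorem I3 (c : Cfg ρ R b Q) (hC2 : AllScal ρ R) :
    Module.finrank (ZMod 3) ↥(commSub ρ R) ≤ 4 := by
  obtain ⟨z, hz, ⟨i, hi, hij⟩ | ⟨Q', c', e, he, he1, t, ht⟩⟩ := I3b c hC2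
  · exact Cfsg.Agent.Lib.Helper5.CUB.QUAT c z hz i hi hij
  · exact (Cfsg.Agent.Lib.Helper5.CUB.HALF c' z hz e he he1 t ht).le

/-- `dim W ≤ 4` always. -/
theorem dim_le_four (c : Cfg ρ R b Q) : Module.finrank (ZMod 3) ↥(commSub ρ R) ≤ 4 := by
  by_cases hC2 : AllScal ρ R
  · exact I3 c hC2
  · unfold AllScal at hC2
    push Not at hC2
    obtain ⟨A, hAn, hAR, hA2, a, ha, hns⟩ := hC2
    obtain ⟨Q', hQA, c'⟩ := Cfsg.Agent.Lib.Helper8.CUB.EAQ c A hAn hAR hA2 a ha hns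
    exact Cfsg.Agent.Lib.Helper8.CUB.EA2 c' A hAn hAR hA2 hQA

/-- I4: `R` is a 2-group. -/
theorem I4 (c : Cfg ρ R b Q) : IsPGroup 2 R :=
  Cfsg.Agent.Lib.Helper4.CUB.I4_of c (decomp c) (Cfsg.Agent.Lib.Helper5.CUB.DIM c) (FIT c)
    (dim_le_four c)

end Cfsg.Agent.Lib.Helper3.CUB
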