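import Mathlib
import Cfsg.Agent.Lib.Helper3.CUBDefs
import Cfsg.Agent.Lib.Helper3.CUBAsm1
import Cfsg.Agent.Lib.Helper9.CUBFin2a
import Cfsg.Agent.Lib.Helper9.CUBFin2ap
import Cfsg.Agent.Lib.Helper9.CUBFin2b
import Cfsg.Agent.Lib.Helper4.CUBFin2cd

/-! Farm CUB (S4415): assembly, part 2: `FIN2`, `structure_R`. -/

set_option autoImplicit false

open scoped commutatorElement

namespace Cfsg.Agent.Lib.Helper3.CUB

universe u v

variable {G : Type u} [Group G] [Finite G] {E : Type v} [AddCommGroup E] [Module (ZMod 3) E]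
  [Finite E] {ρ : Representation (ZMod 3) G E} {R : Subgroup G} {b : G} {Q : Subgroup G}

theorem FIN2 (c : Cfg ρ R b Q) (h2 : IsPGroup 2 R) : RConcl R := by
  rcases Cfsg.Agent.Lib.Helper9.CUB.FIN2a c h2 with ⟨Z₁, hn, c₁⟩ | ⟨z, hz, hmin⟩
  · exact Or.inl (Cfsg.Agent.Lib.Helper9.CUB.FIN2a' c₁ hn)
  · by_cases han : ∀ x ∈ VV R z, x ≠ 1 → x ≠ z → x ^ 2 = z
    · exact (Cfsg.Agent.Lib.Helper9.CUB.FIN2b1 c h2 z hz hmin han).elim
    · push Not at han
      obtain ⟨x, hx, hx1, hxz, hx2⟩ := han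
      have hx2' : x ^ 2 = 1 := by
        rcases hx.2.2 with h | h
        · exact h
        · exact absurd h hx2
      obtain ⟨Q', c', hRQ⟩ := Cfsg.Agent.Lib.Helper9.CUB.FIN2b0 c z hz x hx hx1 hxz hx2'
      exact Cfsg.Agent.Lib.Helper4.CUB.FIN2cd c' z hz hRQ

theorem structure_R (c : Cfg ρ R b Q) : RConcl R :=
  FIN2 c (I4 c)

end Cfsg.Agent.Lib.Helper3.CUB
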