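import Mathlib
import Cfsg.Agent.Lib.Helper3.CUBDefs

/-! Farm CUB (S4415): BLUEPRINT (statements only, `sorry` bodies).  NEVER import this file in a
landed file.  Each unit is proved in its own file `Lib/<Seat>/CUB<unit>.lean`, importing
`Helper3.CUBDefs` (and landed units).  Paper proof: lead's tip `S4415` (00:32Z) + helper3's tip
`CUB-OPEN`.  Notation: `W = commSub ρ R = [E,R]`, `n = nn ρ b = ρ b - 1`, `G = R⟨b⟩`. -/

set_option autoImplicit false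

open scoped commutatorElement

namespace Cfsg.Agent.Lib.Helper3.CUB.Stubs

open Cfsg.Agent.Lib.Helper3.CUB

universe u v

variable {G : Type u} [Group G] [Finite G] {E : Type v} [AddCommGroup E] [Module (ZMod 3) E]
  [Finite E] {ρ : Representation (ZMod 3) G E} {R : Subgroup G} {b : G} {Q : Subgroup G}

/-! ### T1: generalities (commutator trick) -/

/-- P0a: `G` is generated by the conjugates of `b`. -/
theorem P0a (c : Cfg ρ R b Q) :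
    Subgroup.closure {x : G | ∃ g : G, x = g * b * g⁻¹} = ⊤ := sorry

/-- P0b (CT): if `b` acts trivially on the `G`-invariant section `N / N'` then so does `R`. -/
theorem P0b (c : Cfg ρ R b Q) (N N' : Submodule (ZMod 3) E) (hN : ∀ g : G, Inv ρ g N)
    (hN' : ∀ g : G, Inv ρ g N') (hb : ∀ v ∈ N, ρ b v - v ∈ N') :
    ∀ r ∈ R, ∀ v ∈ N, ρ r v - v ∈ N' := sorry

/-- P0c (CT): a normal subgroup centralized by `b` is central. -/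
theorem P0c (c : Cfg ρ R b Q) (A : Subgroup G) [A.Normal] (hb : ∀ a ∈ A, b * a = a * b) :
    ∀ g : G, ∀ a ∈ A, g * a = a * g := sorry

/-- DET: `R = [R,b]` acts with determinant one. -/
theorem DET (c : Cfg ρ R b Q) : ∀ r ∈ R, LinearMap.det (ρ r) = 1 := sorry

/-- elements of `G` of order prime to 3 lie in `R` -/
theorem mem_R_of_pow (c : Cfg ρ R b Q) (g : G) (k : ℕ) (hk : k.Coprime 3) (hg : g ^ k = 1) :
    g ∈ R := sorry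

/-- `g b g⁻¹ b⁻¹ ∈ R` -/
theorem conj_b_mem (c : Cfg ρ R b Q) (g : G) : g * b * g⁻¹ * b⁻¹ ∈ R := sorry

/-! ### T2: ranks -/

/-- P1: rank additivity. -/
theorem P1 (c : Cfg ρ R b Q) (N₁ N₂ : Submodule (ZMod 3) E) (h1 : Inv ρ b N₁) (h2 : Inv ρ b N₂)
    (hd : N₁ ⊓ N₂ = ⊥) (hc : ∃ v ∈ N₁, nn ρ b (nn ρ b v) ≠ 0) : ∀ v ∈ N₂, ρ b v = v := sorry

/-- P2: three independent subspaces `Y, bY, b²Y` are lines. -/
theorem P2 (c : Cfg ρ R b Q) (Y : Submodule (ZMod 3) E)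
    (hind : ∀ y₀ ∈ Y, ∀ y₁ ∈ Y, ∀ y₂ ∈ Y, y₀ + ρ b y₁ + ρ b (ρ b y₂) = 0 →
      y₀ = 0 ∧ y₁ = 0 ∧ y₂ = 0) :
    Module.finrank (ZMod 3) Y ≤ 1 := sorry

/-! ### T3: coprime decomposition -/

theorem P3 (ρ : Representation (ZMod 3) G E) (X : Subgroup G) (hX : (Nat.card X).Coprime 3) :
    fixSub ρ X ⊓ commSub ρ X = ⊥ ∧ fixSub ρ X ⊔ commSub ρ X = ⊤ ∧
    (∀ g ∈ Subgroup.normalizer (X : Set G), Inv ρ g (fixSub ρ X) ∧ Inv ρ g (commSub ρ X)) ∧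
    (∀ x ∈ X, Inv ρ x (commSub ρ X)) ∧
    (commSub ρ X ≤
      Submodule.span (ZMod 3) {w | ∃ x ∈ X, ∃ v ∈ commSub ρ X, w = ρ x v - v}) := sorry

/-! ### T4 -/

/-- P4: a `b`-invariant subgroup of `R` not centralized by `b`. -/
theorem P4 (c : Cfg ρ R b Q) (X : Subgroup G) (hXR : X ≤ R)
    (hbX : b ∈ Subgroup.normalizer (X : Set G)) (hbX' : b ∉ Subgroup.centralizer (X : Set G)) :
    (∀ v ∈ fixSub ρ X, ρ b v = v) ∧ LinearMap.range (nn ρ b) ≤ commSub ρ X ∧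
      ∃ v ∈ commSub ρ X, nn ρ b (nn ρ b v) ≠ 0 := sorry

/-! ### T5: the frame (lead's lemma FOUR) -/

theorem P5 (c : Cfg ρ R b Q) :
    ∃ (q₁ q₂ q₃ : G) (e₁ e₂ e₃ : E), QFrame ρ b Q q₁ q₂ q₃ e₁ e₂ e₃ := sorry

/-! ### T6 -/

/-- P5': a `Q`- and `b`-invariant submodule contains `[E,Q]` or meets it trivially. -/
theorem P5' (c : Cfg ρ R b Q) (N : Submodule (ZMod 3) E) (hQ : ∀ q ∈ Q, Inv ρ q N)
    (hb : Inv ρ b N) : commSub ρ Q ≤ N ∨ commSub ρ Q ⊓ N = ⊥ := sorry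

/-- DIM: dimensions of `W`, `C_W(b)`, `C_W(q)` in terms of `d = dim C_W(Q)`. -/
theorem DIM (c : Cfg ρ R b Q) :
    Module.finrank (ZMod 3) ↥(commSub ρ R) =
      Module.finrank (ZMod 3) ↥(commSub ρ R ⊓ fixSub ρ Q) + 3 ∧
    Module.finrank (ZMod 3) ↥(commSub ρ R ⊓ fixSub ρ (Subgroup.zpowers b)) =
      Module.finrank (ZMod 3) ↥(commSub ρ R ⊓ fixSub ρ Q) + 1 ∧
    ∀ q ∈ Q, q ≠ 1 → Module.finrank (ZMod 3) ↥(commSub ρ R ⊓ fixSub ρ (Subgroup.zpowers q)) =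
      Module.finrank (ZMod 3) ↥(commSub ρ R ⊓ fixSub ρ Q) + 1 := sorry

/-! ### T7: the module half of S4415 (lead's S3) -/

theorem decomp (c : Cfg ρ R b Q) :
    commSub ρ R ⊓ fixSub ρ R = ⊥ ∧ commSub ρ R ⊔ fixSub ρ R = ⊤ ∧
    (∀ r ∈ R, ∀ v ∈ fixSub ρ R, ρ r v = v) ∧
    (∀ g : G, ∀ v ∈ commSub ρ R, ρ g v ∈ commSub ρ R) ∧
    (∀ g : G, (∀ v ∈ commSub ρ R, ρ g v = v) → g = 1) ∧
    (∀ N : Submodule (ZMod 3) E, N ≤ commSub ρ R → (∀ g : G, Inv ρ g N) →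
      N = ⊥ ∨ N = commSub ρ R) := sorry

/-! ### T8: central elements are scalars (lead's QP1) -/

theorem QP1 (c : Cfg ρ R b Q) (a : G) (hcen : ∀ g : G, a * g = g * a) : IsScal ρ R a := sorry

theorem isScal_cases (c : Cfg ρ R b Q) (a : G) (ha : IsScal ρ R a) : a = 1 ∨ NegOne ρ R a := sorry

theorem negOne_unique (c : Cfg ρ R b Q) (z z' : G) (hz : NegOne ρ R z) (hz' : NegOne ρ R z') :
    z = z' := sorry

theorem negOne_props (c : Cfg ρ R b Q) (z : G) (hz : NegOne ρ R z) :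
    z ∈ R ∧ z ^ 2 = 1 ∧ z ≠ 1 ∧ ∀ g : G, z * g = g * z := sorry

/-! ### ODD: no odd normal abelian subgroups -/

/-- ODD-a (linear algebra): an element of order prime to 6 commuting with `q₁` and inverted by
`q₂` is trivial. -/
theorem ODDa (c : Cfg ρ R b Q) (q₁ q₂ q₃ : G) (e₁ e₂ e₃ : E)
    (fr : QFrame ρ b Q q₁ q₂ q₃ e₁ e₂ e₃) (a : G) (k : ℕ) (hk : k.Coprime 6) (hak : a ^ k = 1)
    (h1 : q₁ * a = a * q₁) (h2 : q₂ * a * q₂⁻¹ = a⁻¹) : a = 1 := sorry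

/-- ODD (= P10). -/
theorem ODD (c : Cfg ρ R b Q) (A₀ : Subgroup G) [A₀.Normal] (hA : A₀ ≤ R)
    (hab : ∀ x ∈ A₀, ∀ y ∈ A₀, x * y = y * x) (h6 : (Nat.card A₀).Coprime 6) : A₀ = ⊥ := sorry

/-- FIT: `T = O_2(R) = F(R)` is self-centralizing in `R`. -/
theorem FIT (c : Cfg ρ R b Q) :
    ∃ T : Subgroup G, T.Normal ∧ T ≤ R ∧ IsPGroup 2 T ∧
      ∀ r ∈ R, (∀ t ∈ T, r * t = t * r) → r ∈ T := sorry

/-! ### EA: normal non-scalar elementary abelian 2-subgroups (lead's EA (ii) + SUNFLOWER) -/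

/-- EA-Q: a non-scalar normal subgroup of exponent 2 contains a `b`-invariant four-group `Q'`
not centralized by `b`. -/
theorem EAQ (c : Cfg ρ R b Q) (A : Subgroup G) (hAn : A.Normal) (hAR : A ≤ R)
    (hA2 : ∀ a ∈ A, a ^ 2 = 1) (a : G) (ha : a ∈ A) (hns : ¬ IsScal ρ R a) :
    ∃ Q' : Subgroup G, Q' ≤ A ∧ Cfg ρ R b Q' := sorry

/-- EA2: if `Q` lies in a normal subgroup `A ≤ R` of exponent 2 then `dim W ≤ 4`. -/
theorem EA2 (c : Cfg ρ R b Q) (A : Subgroup G) (hAn : A.Normal) (hAR : A ≤ R)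
    (hA2 : ∀ a ∈ A, a ^ 2 = 1) (hQA : Q ≤ A) :
    Module.finrank (ZMod 3) ↥(commSub ρ R) ≤ 4 := sorry

/-! ### I3: case (C2) -/

/-- HALF: some `e ∈ Q#` is conjugate to `z e`. -/
theorem HALF (c : Cfg ρ R b Q) (z : G) (hz : NegOne ρ R z) (e : G) (he : e ∈ Q) (he1 : e ≠ 1)
    (t : G) (ht : t * e * t⁻¹ = z * e) : Module.finrank (ZMod 3) ↥(commSub ρ R) = 4 := sorry

/-- QUAT: a `b`-invariant quaternion group `⟨i, j⟩`, `j = b i b⁻¹`. -/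
theorem QUAT (c : Cfg ρ R b Q) (z : G) (hz : NegOne ρ R z) (i : G) (hi : i ^ 2 = z)
    (hij : i * (b * i * b⁻¹) = z * ((b * i * b⁻¹) * i)) :
    Module.finrank (ZMod 3) ↥(commSub ρ R) ≤ 4 := sorry

/-- I3a: in case (C2) there are `z = -1`, `T` and a normal `N₂ ≤ T` with `[N₂,T] ≤ Z`,
`N₂² ≤ Z`, and `b` nontrivial on `N₂/Z`. -/
theorem I3a (c : Cfg ρ R b Q) (hC2 : AllScal ρ R) :
    ∃ z : G, NegOne ρ R z ∧ ∃ T : Subgroup G, T.Normal ∧ T ≤ R ∧ IsPGroup 2 T ∧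
      (∀ r ∈ R, (∀ t ∈ T, r * t = t * r) → r ∈ T) ∧
      (∀ x ∈ Subgroup.centralizer (T : Set G), x ∈ T → x ^ 2 = 1 → x = 1 ∨ x = z) ∧
      ∃ N₂ : Subgroup G, N₂.Normal ∧ N₂ ≤ T ∧
        (∀ x ∈ N₂, ∀ t ∈ T, ⁅x, t⁆ = 1 ∨ ⁅x, t⁆ = z) ∧ (∀ x ∈ N₂, x ^ 2 = 1 ∨ x ^ 2 = z) ∧
        ∃ x ∈ N₂, x⁻¹ * (b * x * b⁻¹) ≠ 1 ∧ x⁻¹ * (b * x * b⁻¹) ≠ z := sorry

/-- I3b: in case (C2) we reach the QUAT or the HALF configuration. -/
theorem I3b (c : Cfg ρ R b Q) (hC2 : AllScal ρ R) :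
    ∃ z : G, NegOne ρ R z ∧
      ((∃ i : G, i ^ 2 = z ∧ i * (b * i * b⁻¹) = z * ((b * i * b⁻¹) * i)) ∨
       (∃ Q' : Subgroup G, Cfg ρ R b Q' ∧ ∃ e ∈ Q', e ≠ 1 ∧ ∃ t : G, t * e * t⁻¹ = z * e)) := sorry

/-- I3: `dim W ≤ 4` in case (C2). -/
theorem I3 (c : Cfg ρ R b Q) (hC2 : AllScal ρ R) :
    Module.finrank (ZMod 3) ↥(commSub ρ R) ≤ 4 := sorry

/-- `dim W ≤ 4` always. -/
theorem dim_le_four (c : Cfg ρ R b Q) : Module.finrank (ZMod 3) ↥(commSub ρ R) ≤ 4 := sorry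

/-! ### I4: `R` is a 2-group -/

theorem I4ord (c : Cfg ρ R b Q) (hdim : Module.finrank (ZMod 3) ↥(commSub ρ R) ≤ 4) :
    Nat.card R ∣ 2 ^ 9 * 5 * 13 := sorry

theorem I4_13 (c : Cfg ρ R b Q) (hord : Nat.card R ∣ 2 ^ 9 * 5 * 13) : ¬ 13 ∣ Nat.card R := sorry

theorem I4_5 (c : Cfg ρ R b Q) (hdim : Module.finrank (ZMod 3) ↥(commSub ρ R) ≤ 4)
    (hord : Nat.card R ∣ 2 ^ 9 * 5 * 13) : ¬ 5 ∣ Nat.card R := sorry

theorem I4 (c : Cfg ρ R b Q) : IsPGroup 2 R := sorry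

/-! ### FIN2: the 2-group case -/

/-- FIN2-a: a normal four-group, or `Z = ⟨z⟩` is the unique minimal normal subgroup. -/
theorem FIN2a (c : Cfg ρ R b Q) (h2 : IsPGroup 2 R) :
    (∃ Z₁ : Subgroup G, Z₁.Normal ∧ Cfg ρ R b Z₁) ∨
    (∃ z : G, NegOne ρ R z ∧ ∀ N : Subgroup G, N.Normal → N ≤ R → N ≠ ⊥ → z ∈ N) := sorry

/-- FIN2-a': a normal four-group forces `R = Q` (no 2-group hypothesis needed). -/
theorem FIN2a' (c : Cfg ρ R b Q) (hQn : Q.Normal) :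
    Cfsg.IsElementaryAbelian 2 R ∧ Nat.card R = 4 := sorry

/-- FIN2-b0: an involution in `V \ Z` gives a four-group `Q'` with `[R, Q'] ≤ Z`. -/
theorem FIN2b0 (c : Cfg ρ R b Q) (z : G) (hz : NegOne ρ R z) (x : G) (hx : x ∈ VV R z)
    (hx1 : x ≠ 1) (hxz : x ≠ z) (hx2 : x ^ 2 = 1) :
    ∃ Q' : Subgroup G, Cfg ρ R b Q' ∧
      ∀ r ∈ R, ∀ e ∈ Q', r * e * r⁻¹ = e ∨ r * e * r⁻¹ = z * e := sorry

/-- FIN2-b1: `V` cannot be anisotropic (else `R = Q₈`, which has no four-group). -/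
theorem FIN2b1 (c : Cfg ρ R b Q) (h2 : IsPGroup 2 R) (z : G) (hz : NegOne ρ R z)
    (hmin : ∀ N : Subgroup G, N.Normal → N ≤ R → N ≠ ⊥ → z ∈ N)
    (han : ∀ x ∈ VV R z, x ≠ 1 → x ≠ z → x ^ 2 = z) : False := sorry

/-- FIN2-cd: a four-group `Q` with `[R,Q] ≤ Z`: `R = Q` or `R` is extraspecial of order 32. -/
theorem FIN2cd (c : Cfg ρ R b Q) (z : G) (hz : NegOne ρ R z)
    (hRQ : ∀ r ∈ R, ∀ e ∈ Q, r * e * r⁻¹ = e ∨ r * e * r⁻¹ = z * e) : RConcl R := sorry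

theorem FIN2 (c : Cfg ρ R b Q) (h2 : IsPGroup 2 R) : RConcl R := sorry

/-! ### assembly -/

theorem structure_R (c : Cfg ρ R b Q) : RConcl R := sorry

end Cfsg.Agent.Lib.Helper3.CUB.Stubs
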