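import Mathlib
import Cfsg.Prelude.Def_Transfer
import Cfsg.Prelude.Def_Solvable
import Cfsg.Agent.Lib.Helper1.PLengthOne
import Cfsg.Agent.Lib.Helper1.FittingCentralizer
import Cfsg.Agent.Lib.Helper7.PCore

/-! Farm CUB (S4415), TRANSFER part A: `Q ≤ O_{3'}(S)` (lead's step S1). -/

set_option autoImplicit false

open scoped commutatorElement

namespace Cfsg.Agent.Lib.Helper3.CUB.TrA

universe u

variable {S : Type u} [Group S]

/-- a four-group with an automorphism of order 3 induced by `b`: its elements -/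
theorem four_group_elems [Finite S] (Q : Subgroup S) (hQ4 : Nat.card Q = 4)
    (hQ2 : ∀ q ∈ Q, q ^ 2 = 1) (b : S) (hb3 : b ^ 3 = 1)
    (hbQ : ∀ q ∈ Q, b * q * b⁻¹ ∈ Q) (q₁ : S) (hq₁ : q₁ ∈ Q) (hne : b * q₁ * b⁻¹ ≠ q₁) :
    q₁ * (b * q₁ * b⁻¹) = b * (b * q₁ * b⁻¹) * b⁻¹ ∧
      ∀ q ∈ Q, q = 1 ∨ q = q₁ ∨ q = b * q₁ * b⁻¹ ∨ q = b * (b * q₁ * b⁻¹) * b⁻¹ := by
  classical
  set q₂ := b * q₁ * b⁻¹ with hq₂
  set q₃ := b * q₂ * b⁻¹ with hq₃
  have hq₂m : q₂ ∈ Q := hbQ q₁ hq₁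
  have hq₃m : q₃ ∈ Q := hbQ q₂ hq₂m
  have hbbb : b * b * b = 1 := by rw [← hb3, pow_succ, pow_two]
  have h31 : b * q₃ * b⁻¹ = q₁ := by
    rw [hq₃, hq₂]
    have : b * (b * (b * q₁ * b⁻¹) * b⁻¹) * b⁻¹ = (b * b * b) * q₁ * (b * b * b)⁻¹ := by group
    rw [this]
    rw [hbbb]; simp
  have h12 : q₁ ≠ q₂ := fun h => hne h.symm
  have h23 : q₂ ≠ q₃ := by
    intro h
    apply h12
    have : b * q₁ * b⁻¹ = b * q₂ * b⁻¹ := h
    have := mul_left_cancel (mul_right_cancel this)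
    exact this
  have h31' : q₃ ≠ q₁ := by
    intro h
    apply h23
    have : b * q₂ * b⁻¹ = b * q₃ * b⁻¹ := by rw [h31, ← hq₃, h]
    exact mul_left_cancel (mul_right_cancel this)
  have h1 : q₁ ≠ 1 := by
    intro h
    apply hne
    rw [hq₂, h]; simp
  have h2 : q₂ ≠ 1 := by
    intro h
    apply h1
    have : b * q₁ * b⁻¹ = b * 1 * b⁻¹ := by rw [← hq₂, h]; simp
    exact mul_left_cancel (mul_right_cancel this)
  have h3 : q₃ ≠ 1 := by
    intro h
    apply h2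
    have : b * q₂ * b⁻¹ = b * 1 * b⁻¹ := by rw [← hq₃, h]; simp
    exact mul_left_cancel (mul_right_cancel this)
  -- the four elements exhaust `Q`
  have : Fintype Q := Fintype.ofFinite _
  have hall : ∀ q ∈ Q, q = 1 ∨ q = q₁ ∨ q = q₂ ∨ q = q₃ := by
    intro q hq
    by_contra hcon
    push Not at hcon
    obtain ⟨c1, c2, c3, c4⟩ := hcon
    let F : Finset Q := {⟨1, Q.one_mem⟩, ⟨q₁, hq₁⟩, ⟨q₂, hq₂m⟩, ⟨q₃, hq₃m⟩, ⟨q, hq⟩}
    have hF : F.card = 5 := by
      simp only [F]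
      rw [Finset.card_insert_of_notMem, Finset.card_insert_of_notMem,
        Finset.card_insert_of_notMem, Finset.card_insert_of_notMem, Finset.card_singleton]
      · simp [Subtype.ext_iff]; exact fun h => c4 h.symm
      · simp [Subtype.ext_iff]; exact ⟨h23, fun h => c3 h.symm⟩
      · simp [Subtype.ext_iff]; exact ⟨h12, fun h => h31' h.symm, fun h => c2 h.symm⟩
      · simp [Subtype.ext_iff]
        exact ⟨fun h => h1 h.symm, fun h => h2 h.symm, fun h => h3 h.symm, fun h => c1 h.symm⟩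
    have := Finset.card_le_univ F
    rw [hF, ← Nat.card_eq_fintype_card, hQ4] at this
    omega
  refine ⟨?_, hall⟩
  have hinv : ∀ q ∈ Q, q⁻¹ = q := by
    intro q hq
    have := hQ2 q hq
    rw [pow_two] at this
    exact inv_eq_of_mul_eq_one_left this
  have hm : q₁ * q₂ ∈ Q := Q.mul_mem hq₁ hq₂m
  rcases hall _ hm with h | h | h | h
  · exfalso
    apply h12
    have := eq_inv_of_mul_eq_one_left h
    rw [hinv q₂ hq₂m] at this
    exact this
  · exfalso
    apply h2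
    have : q₁ * q₂ = q₁ * 1 := by rw [h, mul_one]
    exact mul_left_cancel this
  · exfalso
    apply h1
    have : q₁ * q₂ = 1 * q₂ := by rw [h, one_mul]
    exact mul_right_cancel this
  · exact h

end Cfsg.Agent.Lib.Helper3.CUB.TrA
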