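import Mathlib
import Cfsg.Prelude.Def_Transfer
import Cfsg.Prelude.Def_Solvable
import Cfsg.Agent.Lib.Helper3.CUBDefs
import Cfsg.Agent.Lib.Helper1.Coprime
import Cfsg.Agent.Lib.Helper1.PLengthOne
import Cfsg.Agent.Lib.Helper1.FittingCentralizer
import Cfsg.Agent.Lib.Helper7.CUBS1
import Cfsg.Agent.Lib.Helper9.CUBFour
import Cfsg.Agent.Lib.Helper9.CUBBridge
import Cfsg.Agent.Lib.Helper2.Heisenberg

/-! Farm CUB (S4415), TRANSFER: from the hypotheses of S4415 to the abstract configuration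
`Cfg` on the group `G = ↥(R ⊔ B)`, `R = [O_{3'}(S), B]`, and back. -/

set_option autoImplicit false

open scoped commutatorElement

namespace Cfsg.Agent.Lib.Helper3.CUB.Transfer

open Cfsg.Agent.Lib.Helper3.CUB

universe u v

variable {S : Type u} [Group S] {E : Type v} [AddCommGroup E] [Module (ZMod 3) E]

/-- `R = [O_{3'}(S), B]` -/
abbrev RR (B : Subgroup S) : Subgroup S := ⁅Cfsg.pPrimeCore 3 S, B⁆

/-- `L = R B` -/
abbrev LL (B : Subgroup S) : Subgroup S := RR B ⊔ B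

theorem RR_le_core (B : Subgroup S) : RR B ≤ Cfsg.pPrimeCore 3 S := by
  have : (Cfsg.pPrimeCore 3 S).Normal := Cfsg.Agent.Lib.Helper1.pPrimeCore_normal 3
  exact Subgroup.commutator_le_left _ _

theorem RR_coprime [Finite S] (B : Subgroup S) : (Nat.card (RR B)).Coprime 3 :=
  Nat.Coprime.coprime_dvd_left (Subgroup.card_dvd_of_le (RR_le_core B))
    (Cfsg.Agent.Lib.Helper1.pPrimeCore_card_coprime 3)

theorem RR_comm [Finite S] [Group.IsSolvable S] (B : Subgroup S) (hB : Nat.card B = 3) :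
    ⁅RR B, B⁆ = RR B := by
  have : (Cfsg.pPrimeCore 3 S).Normal := Cfsg.Agent.Lib.Helper1.pPrimeCore_normal 3
  apply Cfsg.Agent.Lib.Helper1.coprime_commutator_commutator B (Cfsg.pPrimeCore 3 S)
  · intro x _
    exact Subgroup.normalizer_eq_top (H := Cfsg.pPrimeCore 3 S) ▸ Subgroup.mem_top x
  · rw [hB]
    exact (Cfsg.Agent.Lib.Helper1.pPrimeCore_card_coprime 3).symm
  · right
    infer_instance

theorem LL_le_normalizer (B : Subgroup S) : LL B ≤ Subgroup.normalizer (RR B : Set S) :=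
  sup_le Subgroup.le_normalizer (Subgroup.normalizer_commutator_ge_right _ B)

section main

variable [Finite S] [Group.IsSolvable S] [Finite E]

omit [Finite S] [Group.IsSolvable S] in
theorem map_subgroupOf_LL (B X : Subgroup S) (hX : X ≤ LL B) :
    (X.subgroupOf (LL B)).map (LL B).subtype = X := by
  rw [Subgroup.map_subgroupOf_eq_of_le hX]

omit [Finite S] [Group.IsSolvable S] in
theorem rank_eq_two (ρ : Representation (ZMod 3) S E) (b : S) (hb3 : b ^ 3 = 1)
    (E₀ E₁ : Submodule (ZMod 3) E) (hE01' : E₀ ⊔ E₁ = ⊤)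
    (hE1 : ∀ v ∈ E₁, ρ b v = v) (hE0inv : ∀ v ∈ E₀, ρ b v ∈ E₀) (hE0 : Nat.card ↥E₀ = 27)
    (hind : ∃ v ∈ E₀, ρ b (ρ b v - v) - (ρ b v - v) ≠ 0) :
    Module.finrank (ZMod 3) (LinearMap.range (ρ b - LinearMap.id)) = 2 := by
  have h1 := (Cfsg.Agent.Lib.Helper9.CUB.rank_bounds ρ b hb3 E₀ E₁ hE01' hE1 hE0inv hE0 hind).1
  obtain ⟨v0, -, hne, -, -, -⟩ :=
    Cfsg.Agent.Lib.Helper9.CUB.jordan_data ρ b hb3 E₀ E₁ hE01' hE1 hE0inv hE0 hind
  have h3 := Cfsg.Agent.Lib.Helper9.CUB.nn_cube ρ b hb3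
  set n := Cfsg.Agent.Lib.Helper9.CUB.nn ρ b with hn
  have hrange : LinearMap.range (ρ b - LinearMap.id) = LinearMap.range n := rfl
  rw [hrange]
  apply le_antisymm h1
  -- two independent vectors in the range
  let w : Fin 2 → LinearMap.range n := ![⟨n v0, ⟨v0, rfl⟩⟩, ⟨n (n v0), ⟨n v0, rfl⟩⟩]
  have hli : LinearIndependent (ZMod 3) w := by
    rw [LinearIndependent.pair_iff]
    intro x y hxy
    have hxy' : x • n v0 + y • n (n v0) = 0 := by
      have := congrArg Subtype.val hxy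
      simpa [w] using this
    have hx : x = 0 := by
      have := congrArg n hxy'
      rw [map_add, map_smul, map_smul, h3 v0, smul_zero, add_zero, map_zero] at this
      rcases smul_eq_zero.mp this with h | h
      · exact h
      · exact absurd h hne
    rw [hx, zero_smul, zero_add] at hxy'
    rcases smul_eq_zero.mp hxy' with h | h
    · exact ⟨hx, h⟩
    · exact absurd h hne
  have := hli.fintype_card_le_finrank
  rw [Fintype.card_fin] at this
  exact this

theorem cfg_of_hyps (ρ : Representation (ZMod 3) S E) (hfaith : Function.Injective ρ)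
    (B : Subgroup S) (hB : Nat.card ↥B = 3) (b : S) (hb : Subgroup.zpowers b = B)
    (E₀ E₁ : Submodule (ZMod 3) E) (hE01' : E₀ ⊔ E₁ = ⊤)
    (hE1 : ∀ v ∈ E₁, ρ b v = v) (hE0inv : ∀ v ∈ E₀, ρ b v ∈ E₀) (hE0 : Nat.card ↥E₀ = 27)
    (hind : ∃ v ∈ E₀, ρ b (ρ b v - v) - (ρ b v - v) ≠ 0)
    (Q : Subgroup S) (hQ : Cfsg.IsElementaryAbelian 2 Q) (hQ4 : Nat.card ↥Q = 4)
    (hBQ : B ≤ Subgroup.normalizer (Q : Set S)) (hBQ' : ¬ B ≤ Subgroup.centralizer (Q : Set S))
    (P : Sylow 3 S) (hBZ : (Subgroup.center ↥(P : Subgroup S)).map (P : Subgroup S).subtype = B)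
    (hbL : b ∈ LL B) :
    Cfg (ρ.comp (LL B).subtype) ((RR B).subgroupOf (LL B)) (⟨b, hbL⟩ : LL B)
      (Q.subgroupOf (LL B)) := by
  have hRL : RR B ≤ LL B := le_sup_left
  have hBL : B ≤ LL B := le_sup_right
  have hQR : Q ≤ RR B := Cfsg.Agent.Lib.Helper7.CUB.Q_le_comm B hB Q hQ hQ4 hBQ hBQ' P hBZ
  have hQL : Q ≤ LL B := hQR.trans hRL
  have hbB : b ∈ B := by rw [← hb]; exact Subgroup.mem_zpowers b
  have hord : orderOf b = 3 := by rw [← Nat.card_zpowers, hb, hB]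
  have hb3 : b ^ 3 = 1 := by rw [← hord]; exact pow_orderOf_eq_one b
  have hinj : Function.Injective (LL B).subtype := (LL B).subtype_injective
  have hzp : (Subgroup.zpowers (⟨b, hbL⟩ : LL B)).map (LL B).subtype = B := by
    rw [MonoidHom.map_zpowers]
    exact hb
  refine ⟨inferInstance, ?_, ?_, ?_, ?_, ?_, ?_, ?_, ?_, ?_, ?_, ?_, ?_, ?_⟩
  · -- faith
    intro x y hxy
    exact hinj (hfaith hxy)
  · -- normal
    exact Subgroup.normal_subgroupOf_of_le_normalizer (LL_le_normalizer B)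
  · -- cop
    rw [Nat.card_congr (Subgroup.subgroupOfEquivOfLe hRL).toEquiv]
    exact RR_coprime B
  · -- b3
    rw [← hord]
    exact Subgroup.orderOf_mk b hbL
  · -- top
    apply Subgroup.map_injective hinj
    rw [Subgroup.map_sup, map_subgroupOf_LL B _ hRL, hzp, ← MonoidHom.range_eq_map,
      Subgroup.range_subtype]
  · -- comm
    apply Subgroup.map_injective hinj
    rw [Subgroup.map_commutator, map_subgroupOf_LL B _ hRL, hzp]
    exact RR_comm B hB
  · -- QR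
    intro x hx
    exact Subgroup.mem_subgroupOf.mpr (hQR (Subgroup.mem_subgroupOf.mp hx))
  · -- Q4
    rw [Nat.card_congr (Subgroup.subgroupOfEquivOfLe hQL).toEquiv]
    exact hQ4
  · -- Q2
    intro q hq
    apply Subtype.ext
    have := hQ.2 (q : S) (Subgroup.mem_subgroupOf.mp hq)
    simpa using this
  · -- bQ
    rw [Subgroup.mem_normalizer_iff]
    intro h
    have := Subgroup.mem_normalizer_iff.mp (hBQ hbB) (h : S)
    simpa [Subgroup.mem_subgroupOf] using this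
  · -- bQ'
    intro hc
    apply hBQ'
    rw [← hb, Subgroup.zpowers_le, Subgroup.mem_centralizer_iff]
    intro q hq
    have := Subgroup.mem_centralizer_iff.mp hc ⟨q, hQL hq⟩ (Subgroup.mem_subgroupOf.mpr hq)
    exact congrArg Subtype.val this
  · -- rank
    exact rank_eq_two ρ b hb3 E₀ E₁ hE01' hE1 hE0inv hE0 hind
  · -- cubic
    obtain ⟨v, _, hv⟩ := hind
    refine ⟨v, ?_⟩
    simpa [nn_apply] using hv

end main

section back

theorem isElementaryAbelian_of_subgroupOf {L X : Subgroup S} (hXL : X ≤ L)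
    (h : Cfsg.IsElementaryAbelian 2 (X.subgroupOf L)) : Cfsg.IsElementaryAbelian 2 X := by
  obtain ⟨h1, h2⟩ := h
  refine ⟨⟨⟨?_⟩⟩, ?_⟩
  · rintro ⟨x, hx⟩ ⟨y, hy⟩
    have := h1.is_comm.comm ⟨⟨x, hXL hx⟩, Subgroup.mem_subgroupOf.mpr hx⟩
      ⟨⟨y, hXL hy⟩, Subgroup.mem_subgroupOf.mpr hy⟩
    apply Subtype.ext
    exact congrArg (fun t : ↥(X.subgroupOf L) => ((t : L) : S)) this
  · intro a ha
    have := h2 ⟨a, hXL ha⟩ (Subgroup.mem_subgroupOf.mpr ha)
    exact congrArg Subtype.val this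

theorem isElementaryAbelian_map {L : Subgroup S} {A : Subgroup L}
    (h : Cfsg.IsElementaryAbelian 2 A) : Cfsg.IsElementaryAbelian 2 (A.map L.subtype) := by
  obtain ⟨h1, h2⟩ := h
  refine ⟨⟨⟨?_⟩⟩, ?_⟩
  · rintro ⟨x, hx⟩ ⟨y, hy⟩
    obtain ⟨x', hx', rfl⟩ := Subgroup.mem_map.mp hx
    obtain ⟨y', hy', rfl⟩ := Subgroup.mem_map.mp hy
    have := h1.is_comm.comm ⟨x', hx'⟩ ⟨y', hy'⟩
    apply Subtype.ext
    exact congrArg (fun t : ↥A => ((t : L) : S)) this
  · intro a ha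
    obtain ⟨a', ha', rfl⟩ := Subgroup.mem_map.mp ha
    have := h2 a' ha'
    have h3 := congrArg Subtype.val this
    simpa using h3

/-- back transport of the structural conclusion -/
theorem first_half (B : Subgroup S) (h : RConcl ((RR B).subgroupOf (LL B))) :
    (Cfsg.IsElementaryAbelian 2 (RR B) ∧ Nat.card ↥(RR B) = 4) ∨
    (Cfsg.IsExtraspecial 2 ↥(RR B) ∧ Nat.card ↥(RR B) = 32 ∧
      ∃ A : Subgroup S, A ≤ RR B ∧ Cfsg.IsElementaryAbelian 2 A ∧ Nat.card ↥A = 8) := by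
  have hRL : RR B ≤ LL B := le_sup_left
  have hcard : Nat.card ↥((RR B).subgroupOf (LL B)) = Nat.card ↥(RR B) :=
    Nat.card_congr (Subgroup.subgroupOfEquivOfLe hRL).toEquiv
  rcases h with ⟨h1, h2⟩ | ⟨h1, h2, A, hA1, hA2, hA3⟩
  · left
    exact ⟨isElementaryAbelian_of_subgroupOf hRL h1, by rw [← hcard]; exact h2⟩
  · right
    refine ⟨Cfsg.Agent.Lib.Helper2.HeisLib.isExtraspecial_of_mulEquiv
      (Subgroup.subgroupOfEquivOfLe hRL) h1, by rw [← hcard]; exact h2,
      A.map (LL B).subtype, ?_, isElementaryAbelian_map hA2, ?_⟩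
    · rintro x hx
      obtain ⟨x', hx', rfl⟩ := Subgroup.mem_map.mp hx
      exact Subgroup.mem_subgroupOf.mp (hA1 hx')
    · rw [← hA3]
      exact Nat.card_congr (A.equivMapOfInjective _ (LL B).subtype_injective).toEquiv.symm

end back

end Cfsg.Agent.Lib.Helper3.CUB.Transfer
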