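import Mathlib
import Cfsg.Prelude.Def_Characters
import Cfsg.Agent.Lib.Helper6.CenterIndex
import Cfsg.Agent.Lib.Helper6.Ramified
import Cfsg.Agent.S0187

set_option autoImplicit false

namespace Cfsg.Agent.Lib.Helper3.CentralCount

open Cfsg.Agent.Lib.Helper6
open scoped ComplexConjugate

variable {G : Type*} [Group G] [Fintype G]

/-- multiplicativity of an irreducible character on central elements -/
theorem apply_mul_center {χ : G → ℂ} (hχ : Cfsg.IsIrrCharacter G χ) {z : G}
    (hz : z ∈ Subgroup.center G) (g : G) : χ (g * z) * χ 1 = χ g * χ z := by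
  obtain ⟨d, ρ, hirr, rfl⟩ := hχ
  obtain ⟨c, hc, _⟩ := exists_scalar_of_mem_center ρ hz
  have h1 : ∀ g : G, ρ.character (g * z) = c * ρ.character g := by
    intro g
    unfold Representation.character
    rw [map_mul, hc]
    have : ρ g * c • (LinearMap.id : (Fin d → ℂ) →ₗ[ℂ] (Fin d → ℂ)) = c • ρ g := by
      ext v
      simp
    rw [this, map_smul, smul_eq_mul]
  have h2 := h1 1
  rw [one_mul] at h2
  rw [h1 g, h2]
  ring

variable (N : Subgroup G) [hNn : N.Normal] [Fintype N]

include hNn in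
/-- an irreducible character lying over the irreducible character `ψ` of a central subgroup
restricts to a multiple of `ψ` -/
theorem restrict_of_over_central (hN : N ≤ Subgroup.center G) {χ : G → ℂ}
    (hχ : Cfsg.IsIrrCharacter G χ) {ψ : N → ℂ} (hψ : Cfsg.IsIrrCharacter N ψ)
    (hc : Cfsg.classInner (fun n : N => χ n) ψ ≠ 0) :
    ψ 1 = 1 ∧ (∀ n : N, χ n = χ 1 * ψ n) ∧ Cfsg.classInner (fun n : N => χ n) ψ = χ 1 := by
  have hcomm : ∀ a b : N, a * b = b * a := by
    intro a b
    apply Subtype.ext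
    have := Subgroup.mem_center_iff.mp (hN a.2) b
    simpa using this.symm
  have hψ1 : ψ 1 = 1 := (Cfsg.Agent.S0187.result (G := N)).1 hcomm ⟨ψ, hψ⟩
  have hinv : ∀ g : G, conjFun N hNn ψ g = ψ := by
    intro g
    funext n
    rw [conjFun_apply]
    congr 1
    apply Subtype.ext
    have := Subgroup.mem_center_iff.mp (hN n.2) g
    simp only
    rw [this, mul_inv_cancel_right]
  have hres := restrict_eq_smul_of_invariant N hNn hχ hψ hinv hc
  have h1 := congrFun hres 1
  simp only [Pi.smul_apply, smul_eq_mul, hψ1, mul_one] at h1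
  have h1' : Cfsg.classInner (fun n : N => χ n) ψ = χ 1 := h1.symm
  refine ⟨hψ1, ?_, h1'⟩
  intro n
  have h2 := congrFun hres n
  simp only [Pi.smul_apply, smul_eq_mul] at h2
  rw [h2, h1']

include hNn in
/-- the `ψ`-projection of an irreducible character -/
theorem sum_apply_mul_conj (hN : N ≤ Subgroup.center G) {χ : G → ℂ}
    (hχ : Cfsg.IsIrrCharacter G χ) {ψ : N → ℂ} (hψ : Cfsg.IsIrrCharacter N ψ) (g : G)
    [Decidable (Cfsg.classInner (fun n : N => χ n) ψ ≠ 0)] :
    ∑ n : N, χ (g * n) * conj (ψ n)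
      = if Cfsg.classInner (fun n : N => χ n) ψ ≠ 0 then (Nat.card N : ℂ) * χ g else 0 := by
  have hχ1 : χ 1 ≠ 0 := IsIrrCharacter.apply_one_ne_zero hχ
  have h1 : ∀ n : N, χ (g * n) = χ g * χ n / χ 1 := by
    intro n
    rw [eq_div_iff hχ1]
    exact apply_mul_center hχ (hN n.2) g
  have hN0 : (Nat.card N : ℂ) ≠ 0 := by
    have : Nat.card N ≠ 0 := Nat.card_pos.ne'
    exact_mod_cast this
  have h2 : ∑ n : N, χ (g * n) * conj (ψ n)
      = χ g / χ 1 * ((Nat.card N : ℂ) * Cfsg.classInner (fun n : N => χ n) ψ) := by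
    unfold Cfsg.classInner
    rw [← mul_assoc (Nat.card N : ℂ), mul_inv_cancel₀ hN0, one_mul, Finset.mul_sum]
    apply Finset.sum_congr rfl
    intro n _
    rw [h1 n]
    ring
  rw [h2]
  split_ifs with hc
  · rw [(restrict_of_over_central N hN hχ hψ hc).2.2]
    field_simp
  · push Not at hc
    rw [hc]
    ring

end Cfsg.Agent.Lib.Helper3.CentralCount
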