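import Mathlib
import Cfsg.Prelude.Def_Characters
import Cfsg.Agent.Lib.Helper3.CentralCount1
import Cfsg.Agent.Lib.Helper6.SecondOrth

set_option autoImplicit false
set_option linter.unusedSectionVars false

namespace Cfsg.Agent.Lib.Helper3.CentralCount

open Cfsg.Agent.Lib.Helper6
open scoped ComplexConjugate

variable {G : Type*} [Group G] [Fintype G]

/-- `g` is *good* for the central subgroup `N`: commuting with `g` modulo `N` forces commuting
with `g`. -/
def Good (N : Subgroup G) (g : G) : Prop := ∀ x : G, x⁻¹ * g⁻¹ * x * g ∈ N → x * g = g * x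

variable (N : Subgroup G) [hNn : N.Normal] [Fintype N]

include hNn in
theorem Good.conj {g : G} (hg : Good N g) (c : G) : Good N (c * g * c⁻¹) := by
  intro x hx
  have h1 : (c⁻¹ * x * c)⁻¹ * g⁻¹ * (c⁻¹ * x * c) * g
      = c⁻¹ * (x⁻¹ * (c * g * c⁻¹)⁻¹ * x * (c * g * c⁻¹)) * c⁻¹⁻¹ := by group
  have h2 := hg (c⁻¹ * x * c) (by rw [h1]; exact hNn.conj_mem _ hx _)
  calc x * (c * g * c⁻¹) = c * ((c⁻¹ * x * c) * g) * c⁻¹ := by group
    _ = c * (g * (c⁻¹ * x * c)) * c⁻¹ := by rw [h2]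
    _ = c * g * c⁻¹ * x := by group

theorem Good.mul_central (hN : N ≤ Subgroup.center G) {g : G} (hg : Good N g) {n : G}
    (hn : n ∈ N) : Good N (g * n) := by
  have hc : ∀ y : G, y * n = n * y := Subgroup.mem_center_iff.mp (hN hn)
  have hci : ∀ y : G, y * n⁻¹ = n⁻¹ * y :=
    Subgroup.mem_center_iff.mp (Subgroup.inv_mem _ (hN hn))
  intro x hx
  have h1 : x⁻¹ * (g * n)⁻¹ * x * (g * n) = x⁻¹ * g⁻¹ * x * g := by
    calc x⁻¹ * (g * n)⁻¹ * x * (g * n) = x⁻¹ * (n⁻¹ * g⁻¹) * x * (g * n) := by rw [mul_inv_rev]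
      _ = x⁻¹ * (g⁻¹ * n⁻¹) * x * (g * n) := by rw [hci g⁻¹]
      _ = x⁻¹ * g⁻¹ * (n⁻¹ * (x * g)) * n := by group
      _ = x⁻¹ * g⁻¹ * ((x * g) * n⁻¹) * n := by rw [hci (x * g)]
      _ = x⁻¹ * g⁻¹ * x * g := by group
  rw [h1] at hx
  have h2 := hg x hx
  calc x * (g * n) = (x * g) * n := by group
    _ = (g * x) * n := by rw [h2]
    _ = g * (x * n) := by group
    _ = g * (n * x) := by rw [hc x]
    _ = g * n * x := by group

include hNn in
/-- characters over a faithful `ψ` vanish at non-good elements -/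
theorem apply_eq_zero_of_not_good (hN : N ≤ Subgroup.center G) {χ : G → ℂ}
    (hχ : Cfsg.IsIrrCharacter G χ) {ψ : N → ℂ} (hψ : Cfsg.IsIrrCharacter N ψ)
    (hfaith : ∀ n : N, ψ n = ψ 1 → n = 1)
    (hc : Cfsg.classInner (fun n : N => χ n) ψ ≠ 0) {g : G} (hg : ¬ Good N g) : χ g = 0 := by
  unfold Good at hg
  push Not at hg
  obtain ⟨x, hx, hne⟩ := hg
  obtain ⟨hψ1, hres, _⟩ := restrict_of_over_central N hN hχ hψ hc
  set w : G := g⁻¹ * x⁻¹ * g * x with hw
  have hwN : w ∈ N := by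
    have : w = (x⁻¹ * g⁻¹ * x * g)⁻¹ := by rw [hw]; group
    rw [this]; exact N.inv_mem hx
  have hw1 : (⟨w, hwN⟩ : N) ≠ 1 := by
    intro h
    have h1 : w = 1 := congrArg Subtype.val h
    apply hne
    have : x * g = g * x * w⁻¹ := by rw [hw]; group
    rw [this, h1, inv_one, mul_one]
  have hconj : x⁻¹ * g * x⁻¹⁻¹ = g * w := by rw [hw]; group
  have hcf := IsIrrCharacter.isClassFunction hχ
  have h1 : χ (g * w) = χ g := by rw [← hconj]; exact hcf g x⁻¹
  have h2 := apply_mul_center hχ (hN hwN) g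
  rw [h1, hres ⟨w, hwN⟩] at h2
  have hχ1 : χ 1 ≠ 0 := IsIrrCharacter.apply_one_ne_zero hχ
  have hψw : ψ ⟨w, hwN⟩ ≠ 1 := by
    intro h
    apply hw1
    apply hfaith
    rw [h, hψ1]
  by_contra h0
  apply hψw
  have h3 : χ g * χ 1 * 1 = χ g * χ 1 * ψ ⟨w, hwN⟩ := by
    rw [mul_one, mul_assoc]; exact h2
  exact (mul_left_cancel₀ (mul_ne_zero h0 hχ1) h3).symm

include hNn in
/-- the partial second orthogonality sum at a good element -/
theorem sum_over_norm_sq_of_good (hN : N ≤ Subgroup.center G) [Fintype (Cfsg.IrrCharacter G)]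
    {ψ : N → ℂ} (hψ : Cfsg.IsIrrCharacter N ψ) {g : G} (hg : Good N g)
    [DecidablePred fun χ : Cfsg.IrrCharacter G =>
      Cfsg.classInner (fun n : N => (χ : G → ℂ) n) ψ ≠ 0] :
    (Nat.card N : ℂ) * ∑ χ : Cfsg.IrrCharacter G,
        (if Cfsg.classInner (fun n : N => (χ : G → ℂ) n) ψ ≠ 0
          then (χ : G → ℂ) g * conj ((χ : G → ℂ) g) else 0)
      = (Nat.card (Subgroup.centralizer ({g} : Set G)) : ℂ) := by
  classical
  have hcomm : ∀ a b : N, a * b = b * a := by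
    intro a b
    apply Subtype.ext
    have := Subgroup.mem_center_iff.mp (hN a.2) b
    simpa using this.symm
  have hψ1 : ψ 1 = 1 := (Cfsg.Agent.S0187.result (G := N)).1 hcomm ⟨ψ, hψ⟩
  -- double sum
  have h1 : ∑ n : N, conj (ψ n) * ∑ χ : Cfsg.IrrCharacter G,
        (χ : G → ℂ) (g * n) * conj ((χ : G → ℂ) g)
      = (Nat.card N : ℂ) * ∑ χ : Cfsg.IrrCharacter G,
        (if Cfsg.classInner (fun n : N => (χ : G → ℂ) n) ψ ≠ 0
          then (χ : G → ℂ) g * conj ((χ : G → ℂ) g) else 0) := by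
    simp only [Finset.mul_sum]
    rw [Finset.sum_comm]
    apply Finset.sum_congr rfl
    intro χ _
    have h2 := sum_apply_mul_conj N hN χ.2 hψ g
    have h3 : ∑ n : N, conj (ψ n) * ((χ : G → ℂ) (g * n) * conj ((χ : G → ℂ) g))
        = conj ((χ : G → ℂ) g) * ∑ n : N, (χ : G → ℂ) (g * n) * conj (ψ n) := by
      rw [Finset.mul_sum]
      apply Finset.sum_congr rfl
      intro n _
      ring
    rw [h3, h2]
    split_ifs <;> ring
  rw [← h1]
  -- only n = 1 contributes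
  rw [Finset.sum_eq_single (1 : N)]
  · rw [hψ1, map_one, one_mul]
    have h2 := (sum_irr_mul_conj g g).1 (IsConj.refl g)
    simpa using h2
  · intro n _ hn1
    have h2 : ¬ IsConj (g * (n : G)) g := by
      intro hconj
      rw [isConj_iff] at hconj
      obtain ⟨c, hc⟩ := hconj
      apply hn1
      have hcn : ∀ y : G, y * (n : G) = (n : G) * y := Subgroup.mem_center_iff.mp (hN n.2)
      have h3 : (n : G) = c * g⁻¹ * c⁻¹ * g := by
        have h4 : c * g * c⁻¹ * (n : G) = g := by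
          calc c * g * c⁻¹ * (n : G) = c * g * (c⁻¹ * (n : G)) := by group
            _ = c * g * ((n : G) * c⁻¹) := by rw [hcn c⁻¹]
            _ = c * (g * (n : G)) * c⁻¹ := by group
            _ = g := hc
        calc (n : G) = (c * g * c⁻¹)⁻¹ * (c * g * c⁻¹ * (n : G)) := by group
          _ = (c * g * c⁻¹)⁻¹ * g := by rw [h4]
          _ = c * g⁻¹ * c⁻¹ * g := by group
      have h5 : (c⁻¹)⁻¹ * g⁻¹ * c⁻¹ * g ∈ N := by
        rw [inv_inv, ← h3]; exact n.2
      have h6 := hg c⁻¹ h5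
      apply Subtype.ext
      rw [h3]
      calc c * g⁻¹ * c⁻¹ * g = c * g⁻¹ * (c⁻¹ * g) := by group
        _ = c * g⁻¹ * (g * c⁻¹) := by rw [h6]
        _ = 1 := by group
    rw [(sum_irr_mul_conj (g * (n : G)) g).2 h2, mul_zero]
  · intro h
    exact absurd (Finset.mem_univ _) h

end Cfsg.Agent.Lib.Helper3.CentralCount
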