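import Mathlib

set_option autoImplicit false

namespace Cfsg.Agent.Lib.Helper3.ClassCount

variable {X : Type*} [Group X] [Fintype X]

/-- orbit–stabilizer for conjugacy classes -/
theorem card_class_mul_card_centralizer (x : X) :
    Nat.card {y : X // ConjClasses.mk y = ConjClasses.mk x}
      * Nat.card (Subgroup.centralizer ({x} : Set X)) = Nat.card X := by
  classical
  rw [Subgroup.nat_card_centralizer_nat_card_stabilizer]
  have h1 : Nat.card {y : X // ConjClasses.mk y = ConjClasses.mk x}
      = Nat.card (MulAction.orbit (ConjAct X) x) := by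
    rw [ConjAct.orbit_eq_carrier_conjClasses]
    apply Nat.card_congr
    exact Equiv.subtypeEquivRight (fun y => ConjClasses.mem_carrier_iff_mk_eq.symm)
  rw [h1]
  have : Fintype (MulAction.orbit (ConjAct X) x) := Fintype.ofFinite _
  have h2 := MulAction.card_orbit_mul_card_stabilizer_eq_card_group (ConjAct X) x
  rw [Nat.card_eq_fintype_card, Nat.card_eq_fintype_card, h2, ← Nat.card_eq_fintype_card]
  exact Nat.card_congr ConjAct.ofConjAct.toEquiv

/-- conjugate elements have centralizers of the same order -/
theorem card_centralizer_eq_of_mk_eq {x y : X} (h : ConjClasses.mk y = ConjClasses.mk x) :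
    Nat.card (Subgroup.centralizer ({y} : Set X)) = Nat.card (Subgroup.centralizer ({x} : Set X)) := by
  have h1 := card_class_mul_card_centralizer x
  have h2 := card_class_mul_card_centralizer y
  have h3 : Nat.card {z : X // ConjClasses.mk z = ConjClasses.mk y}
      = Nat.card {z : X // ConjClasses.mk z = ConjClasses.mk x} := by
    rw [h]
  rw [h3, ← h1] at h2
  have hpos : 0 < Nat.card {z : X // ConjClasses.mk z = ConjClasses.mk x} :=
    Nat.card_pos_iff.mpr ⟨⟨⟨x, rfl⟩⟩, inferInstance⟩
  exact Nat.eq_of_mul_eq_mul_left hpos h2

/-- **Restricted class equation.** -/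
theorem card_classes_mul_card (P : ConjClasses X → Prop) [DecidablePred P] :
    Nat.card {C : ConjClasses X // P C} * Nat.card X
      = ∑ x : X, if P (ConjClasses.mk x) then Nat.card (Subgroup.centralizer ({x} : Set X))
          else 0 := by
  classical
  have : Fintype (ConjClasses X) := Fintype.ofFinite _
  rw [← Fintype.sum_fiberwise (fun x : X => ConjClasses.mk x)]
  have hfib : ∀ C : ConjClasses X,
      (∑ i : {x : X // ConjClasses.mk x = C},
        if P (ConjClasses.mk (i : X)) then Nat.card (Subgroup.centralizer ({(i : X)} : Set X))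
          else 0) = if P C then Nat.card X else 0 := by
    intro C
    obtain ⟨x₀, rfl⟩ := ConjClasses.mk_surjective C
    by_cases hP : P (ConjClasses.mk x₀)
    · rw [if_pos hP]
      have h1 : ∀ i : {x : X // ConjClasses.mk x = ConjClasses.mk x₀},
          (if P (ConjClasses.mk (i : X)) then
            Nat.card (Subgroup.centralizer ({(i : X)} : Set X)) else 0)
          = Nat.card (Subgroup.centralizer ({x₀} : Set X)) := by
        intro i
        rw [i.2, if_pos hP]
        exact card_centralizer_eq_of_mk_eq i.2
      rw [Finset.sum_congr rfl (fun i _ => h1 i), Finset.sum_const, Finset.card_univ, smul_eq_mul,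
        ← Nat.card_eq_fintype_card]
      exact card_class_mul_card_centralizer x₀
    · rw [if_neg hP]
      apply Finset.sum_eq_zero
      intro i _
      rw [i.2, if_neg hP]
  rw [Finset.sum_congr rfl (fun C _ => hfib C)]
  rw [Finset.sum_ite, Finset.sum_const_zero, add_zero, Finset.sum_const, smul_eq_mul]
  congr 1
  rw [Nat.card_eq_fintype_card, Fintype.card_subtype]

end Cfsg.Agent.Lib.Helper3.ClassCount
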