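import Mathlib
import Cfsg.Prelude.Def_Characters
import Cfsg.Agent.Lib.Helper3.CentralCount2
import Cfsg.Agent.Lib.Helper3.ClassCount

set_option autoImplicit false
set_option linter.unusedSectionVars false

namespace Cfsg.Agent.Lib.Helper3.CentralCount

open Cfsg.Agent.Lib.Helper6
open scoped ComplexConjugate

variable {G : Type*} [Group G] [Fintype G]
variable (N : Subgroup G) [hNn : N.Normal] [Fintype N]

include hNn in
/-- the number of irreducible characters over a faithful character of a central subgroup,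
as a sum over good elements -/
theorem card_over_mul (hN : N ≤ Subgroup.center G) {ψ : N → ℂ} (hψ : Cfsg.IsIrrCharacter N ψ)
    (hfaith : ∀ n : N, ψ n = ψ 1 → n = 1) [DecidablePred (Good N)] :
    Nat.card {χ : Cfsg.IrrCharacter G // Cfsg.classInner (fun n : N => (χ : G → ℂ) n) ψ ≠ 0}
        * (Nat.card G * Nat.card N)
      = ∑ g : G, if Good N g then Nat.card (Subgroup.centralizer ({g} : Set G)) else 0 := by
  classical
  have : Fintype (Cfsg.IrrCharacter G) := Fintype.ofFinite _
  have hG0 : (Nat.card G : ℂ) ≠ 0 := by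
    have : Nat.card G ≠ 0 := Nat.card_pos.ne'
    exact_mod_cast this
  -- the count as a sum
  have hcount : (Nat.card {χ : Cfsg.IrrCharacter G //
      Cfsg.classInner (fun n : N => (χ : G → ℂ) n) ψ ≠ 0} : ℂ)
      = ∑ χ : Cfsg.IrrCharacter G,
        if Cfsg.classInner (fun n : N => (χ : G → ℂ) n) ψ ≠ 0 then (1 : ℂ) else 0 := by
    rw [Nat.card_eq_fintype_card, Fintype.card_subtype, Finset.card_filter]
    push_cast
    rfl
  -- norm of each irreducible character
  have hnorm : ∀ χ : Cfsg.IrrCharacter G,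
      ∑ g : G, (χ : G → ℂ) g * conj ((χ : G → ℂ) g) = (Nat.card G : ℂ) := by
    intro χ
    have h2 := classInner_isIrrCharacter χ.2 χ.2
    rw [if_pos rfl] at h2
    unfold Cfsg.classInner at h2
    field_simp at h2
    exact h2
  -- the main identity in ℂ
  have hmain : (Nat.card {χ : Cfsg.IrrCharacter G //
      Cfsg.classInner (fun n : N => (χ : G → ℂ) n) ψ ≠ 0} : ℂ) * ((Nat.card G : ℂ) * (Nat.card N : ℂ))
      = ∑ g : G, if Good N g then (Nat.card (Subgroup.centralizer ({g} : Set G)) : ℂ) else 0 := by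
    rw [hcount, Finset.sum_mul]
    have h1 : ∀ χ : Cfsg.IrrCharacter G,
        (if Cfsg.classInner (fun n : N => (χ : G → ℂ) n) ψ ≠ 0 then (1 : ℂ) else 0)
          * ((Nat.card G : ℂ) * (Nat.card N : ℂ))
        = ∑ g : G, (Nat.card N : ℂ) *
          (if Cfsg.classInner (fun n : N => (χ : G → ℂ) n) ψ ≠ 0
            then (χ : G → ℂ) g * conj ((χ : G → ℂ) g) else 0) := by
      intro χ
      split_ifs with h
      · rw [one_mul, ← Finset.mul_sum, hnorm χ, mul_comm]
      · simp
    rw [Finset.sum_congr rfl (fun χ _ => h1 χ), Finset.sum_comm]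
    apply Finset.sum_congr rfl
    intro g _
    rw [← Finset.mul_sum]
    by_cases hg : Good N g
    · rw [if_pos hg]
      exact sum_over_norm_sq_of_good N hN hψ hg
    · rw [if_neg hg]
      rw [Finset.sum_eq_zero, mul_zero]
      intro χ _
      split_ifs with h
      · rw [apply_eq_zero_of_not_good N hN χ.2 hψ hfaith h hg, zero_mul]
      · rfl
  have hcast : ((Nat.card {χ : Cfsg.IrrCharacter G //
      Cfsg.classInner (fun n : N => (χ : G → ℂ) n) ψ ≠ 0} * (Nat.card G * Nat.card N) : ℕ) : ℂ)
      = ((∑ g : G, if Good N g then Nat.card (Subgroup.centralizer ({g} : Set G)) else 0 : ℕ) : ℂ) := by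
    push_cast
    rw [hmain]
  exact_mod_cast hcast

end Cfsg.Agent.Lib.Helper3.CentralCount
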