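import Mathlib
import Cfsg.Prelude.Def_Characters
import Cfsg.Agent.Lib.Helper3.CentralCount3

set_option autoImplicit false
set_option linter.unusedSectionVars false

namespace Cfsg.Agent.Lib.Helper3.CentralCount

open Cfsg.Agent.Lib.Helper6

variable {G : Type*} [Group G] [Fintype G]
variable (N : Subgroup G) [hNn : N.Normal] [Fintype N]

/-- summing a function of the coset over the group -/
theorem sum_comp_mk (F : G ⧸ N → ℕ) [Fintype (G ⧸ N)] :
    ∑ g : G, F (QuotientGroup.mk g) = Nat.card N * ∑ q : G ⧸ N, F q := by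
  classical
  rw [← Fintype.sum_fiberwise (fun g : G => (QuotientGroup.mk g : G ⧸ N)), Finset.mul_sum]
  apply Finset.sum_congr rfl
  intro q _
  have h1 : ∀ i : {g : G // (QuotientGroup.mk g : G ⧸ N) = q}, F (QuotientGroup.mk (i : G)) = F q :=
    fun i => by rw [i.2]
  rw [Finset.sum_congr rfl (fun i _ => h1 i), Finset.sum_const, Finset.card_univ, smul_eq_mul]
  congr 1
  have h2 := QuotientGroup.card_preimage_mk N ({q} : Set (G ⧸ N))
  rw [Nat.card_eq_fintype_card (α := ↑({q} : Set (G ⧸ N))), Fintype.card_unique, mul_one] at h2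
  rw [← h2, ← Nat.card_eq_fintype_card]
  rfl

/-- centralizer in the quotient of a good element -/
theorem card_centralizer_of_good {g : G} (hg : Good N g) :
    Nat.card (Subgroup.centralizer ({g} : Set G))
      = Nat.card N * Nat.card (Subgroup.centralizer ({(QuotientGroup.mk g : G ⧸ N)} : Set (G ⧸ N))) := by
  have h1 := QuotientGroup.card_preimage_mk N
    ((Subgroup.centralizer ({(QuotientGroup.mk g : G ⧸ N)} : Set (G ⧸ N)) : Subgroup (G ⧸ N)) : Set (G ⧸ N))
  have hset : (QuotientGroup.mk ⁻¹'
      ((Subgroup.centralizer ({(QuotientGroup.mk g : G ⧸ N)} : Set (G ⧸ N)) : Subgroup (G ⧸ N)) : Set (G ⧸ N)))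
      = ((Subgroup.centralizer ({g} : Set G) : Subgroup G) : Set G) := by
    ext x
    simp only [Set.mem_preimage, SetLike.mem_coe, Subgroup.mem_centralizer_singleton_iff]
    constructor
    · intro h
      apply hg
      have h2 : ((g * x : G) : G ⧸ N) = ((x * g : G) : G ⧸ N) := by
        rw [QuotientGroup.mk_mul, QuotientGroup.mk_mul]; exact h.symm
      have h3 := QuotientGroup.eq.mp h2
      have h4 : (g * x)⁻¹ * (x * g) = x⁻¹ * g⁻¹ * x * g := by group
      rw [h4] at h3
      exact h3
    · intro h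
      rw [← QuotientGroup.mk_mul, ← QuotientGroup.mk_mul, h]
  rw [hset] at h1
  exact h1

include hNn in
/-- the number of classes of good cosets, as a sum over good elements -/
theorem card_good_classes_mul (hN : N ≤ Subgroup.center G) [DecidablePred (Good N)] :
    Nat.card {C : ConjClasses (G ⧸ N) // ∃ g : G, ConjClasses.mk (g : G ⧸ N) = C ∧
        ∀ x : G, x⁻¹ * g⁻¹ * x * g ∈ N → x * g = g * x} * (Nat.card G * Nat.card N)
      = ∑ g : G, if Good N g then Nat.card (Subgroup.centralizer ({g} : Set G)) else 0 := by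
  classical
  have : Fintype (G ⧸ N) := Fintype.ofFinite _
  set Pred : ConjClasses (G ⧸ N) → Prop := fun C => ∃ g : G, ConjClasses.mk (g : G ⧸ N) = C ∧
        ∀ x : G, x⁻¹ * g⁻¹ * x * g ∈ N → x * g = g * x with hPred
  have hC1 := Cfsg.Agent.Lib.Helper3.ClassCount.card_classes_mul_card (X := G ⧸ N) Pred
  -- Pred at the class of a coset
  have hPg : ∀ g : G, Pred (ConjClasses.mk (g : G ⧸ N)) ↔ Good N g := by
    intro g
    constructor
    · rintro ⟨g', hg', hgood⟩
      have hgood' : Good N g' := hgood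
      rw [ConjClasses.mk_eq_mk_iff_isConj, isConj_iff] at hg'
      obtain ⟨c, hc⟩ := hg'
      obtain ⟨c₀, rfl⟩ := QuotientGroup.mk_surjective c
      have h1 : ((c₀ * g' * c₀⁻¹ : G) : G ⧸ N) = (g : G ⧸ N) := by
        rw [QuotientGroup.mk_mul, QuotientGroup.mk_mul, QuotientGroup.mk_inv]; exact hc
      have h2 := QuotientGroup.eq.mp h1
      have h3 : g = (c₀ * g' * c₀⁻¹) * ((c₀ * g' * c₀⁻¹)⁻¹ * g) := by group
      rw [h3]
      exact (hgood'.conj N c₀).mul_central N hN h2
    · intro hg
      exact ⟨g, rfl, hg⟩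
  have hQ : Nat.card (G ⧸ N) * Nat.card N = Nat.card G := by
    rw [← Subgroup.index_eq_card, mul_comm]; exact Subgroup.card_mul_index N
  have hsum := sum_comp_mk N (fun q : G ⧸ N => if Pred (ConjClasses.mk q) then
      Nat.card (Subgroup.centralizer ({q} : Set (G ⧸ N))) else 0)
  have h4 : ∀ g : G, (if Good N g then Nat.card (Subgroup.centralizer ({g} : Set G)) else 0)
      = Nat.card N * (if Pred (ConjClasses.mk (g : G ⧸ N)) then
          Nat.card (Subgroup.centralizer ({(g : G ⧸ N)} : Set (G ⧸ N))) else 0) := by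
    intro g
    by_cases hg : Good N g
    · rw [if_pos hg, if_pos ((hPg g).mpr hg)]
      exact card_centralizer_of_good N hg
    · rw [if_neg hg, if_neg (fun h => hg ((hPg g).mp h)), mul_zero]
  rw [Finset.sum_congr rfl (fun g _ => h4 g), ← Finset.mul_sum, hsum, ← hC1, ← hQ]
  ring

end Cfsg.Agent.Lib.Helper3.CentralCount
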