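import Mathlib
import Cfsg.Prelude.Def_Characters
import Cfsg.Prelude.Def_Blocks
import Cfsg.Agent.Lib.Helper3.CharTriple4
import Cfsg.Agent.Lib.Helper3.DetChar

set_option autoImplicit false
set_option linter.unusedSectionVars false

namespace Cfsg.Agent.Lib.Helper3.CharTriple

open Cfsg.Agent.Lib.Helper6 Module

universe u v

variable {G : Type u} [Group G] [Finite G] (N : Subgroup G) [hN : N.Normal]
variable {d : ℕ} (ρ : Representation ℂ N (Fin d → ℂ)) [hirr : ρ.IsIrreducible]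

theorem scal_ne_zero (a : preN N ρ) : scal N ρ (Nat.card N) (zOf N ρ a) ≠ 0 := by
  intro h0
  have h1 := lamHom_apply N ρ a
  rw [h0, inv_zero] at h1
  exact Units.ne_zero _ h1

/-- **`ϑ` extends to `G` as soon as `lam` extends to `Γ`.** -/
theorem exists_extension_of_lam_extends
    (hinv : ∀ (g : G) (n : N),
      ρ.character ⟨g * n * g⁻¹, hN.conj_mem (n : G) n.2 g⟩ = ρ.character n)
    (μ : Gam N ρ (Nat.card N) → ℂ) (hμ : Cfsg.IsCharacter (Gam N ρ (Nat.card N)) μ)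
    (hμ1 : μ 1 = 1) (hμA : ∀ a : preN N ρ, μ a = ((lamHom N ρ a : ℂˣ) : ℂ)) :
    ∃ χ : G → ℂ, Cfsg.IsIrrCharacter G χ ∧ ∀ n : N, χ n = ρ.character n := by
  classical
  have hπ : Function.Surjective (pr1 N ρ (Nat.card N)) :=
    pr1_surjective N ρ _ (character_conjNormal N ρ hinv)
  set fμ := linearCharHom hμ hμ1 with hfμ
  have hψ : Cfsg.IsIrrCharacter (Gam N ρ (Nat.card N))
      (fun γ => ((fμ γ : ℂˣ) : ℂ) * hatChar N ρ (Nat.card N) γ) :=
    Cfsg.Agent.Lib.Helper3.DetChar.isIrrCharacter_hom_mul fμ (hatChar_isIrrCharacter N ρ)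
  have hval : ∀ γ, ((fμ γ : ℂˣ) : ℂ) = μ γ := fun γ => rfl
  have hker : ∀ z ∈ (pr1 N ρ (Nat.card N)).ker,
      (fun γ => ((fμ γ : ℂˣ) : ℂ) * hatChar N ρ (Nat.card N) γ) z
        = (fun γ => ((fμ γ : ℂˣ) : ℂ) * hatChar N ρ (Nat.card N) γ) 1 := by
    intro z hz
    have hz1 : pr1 N ρ (Nat.card N) z = 1 := hz
    have hzA : z ∈ preN N ρ := by
      change pr1 N ρ (Nat.card N) z ∈ N
      rw [hz1]; exact N.one_mem
    have h1 := hμA ⟨z, hzA⟩
    rw [lamHom_apply, zOf_of_pr1_eq_one N ρ ⟨z, hzA⟩ hz1] at h1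
    have h2 := hatChar_mul_of_pr1_eq_one N ρ _ z 1 hz1
    rw [mul_one] at h2
    have h3 : scal N ρ (Nat.card N) z ≠ 0 := by
      have := scal_ne_zero N ρ ⟨z, hzA⟩
      rwa [zOf_of_pr1_eq_one N ρ ⟨z, hzA⟩ hz1] at this
    simp only [hval]
    simp only at h1
    rw [h1, h2, hμ1, one_mul, ← mul_assoc, inv_mul_cancel₀ h3, one_mul]
  obtain ⟨β, hβ, hβeq⟩ := Cfsg.Agent.Lib.Helper3.CharQuot.exists_irr_quot
    (pr1 N ρ (Nat.card N)).ker hψ hker
  let e : Gam N ρ (Nat.card N) ⧸ (pr1 N ρ (Nat.card N)).ker ≃* G :=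
    QuotientGroup.quotientKerEquivOfSurjective (pr1 N ρ (Nat.card N)) hπ
  refine ⟨fun g => β (e.symm g), IsIrrCharacter.comp_mulEquiv e.symm hβ, ?_⟩
  intro n
  have h1 : e.symm (n : G) = QuotientGroup.mk (incl N ρ n) := by
    rw [MulEquiv.symm_apply_eq]
    rfl
  change β (e.symm (n : G)) = ρ.character n
  rw [h1]
  have h2 : ((fμ (incl N ρ n) : ℂˣ) : ℂ) * hatChar N ρ (Nat.card N) (incl N ρ n)
      = β (QuotientGroup.mk (incl N ρ n)) := congrFun hβeq (incl N ρ n)
  rw [← h2, hatChar_incl, hval]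
  have hmem : incl N ρ n ∈ preN N ρ := by
    change pr1 N ρ (Nat.card N) (incl N ρ n) ∈ N
    rw [pr1_incl]; exact n.2
  have h3 := hμA ⟨incl N ρ n, hmem⟩
  rw [lamHom_apply, zOf_incl, scal_one, inv_one] at h3
  rw [h3, one_mul]

end Cfsg.Agent.Lib.Helper3.CharTriple

namespace Cfsg.Agent.Lib.Helper3.CharTriple

open Cfsg.Agent.Lib.Helper6 Module

universe u

variable {G : Type u} [Group G] [Finite G] (N : Subgroup G) [hN : N.Normal]
variable {d : ℕ} (ρ : Representation ℂ N (Fin d → ℂ)) [hirr : ρ.IsIrreducible]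

/-- **If `ϑ` extends to `P ⊇ N`, then `lam` extends to the preimage of `P`.** -/
theorem exists_lam_extension_of_extension
    (hinv : ∀ (g : G) (n : N),
      ρ.character ⟨g * n * g⁻¹, hN.conj_mem (n : G) n.2 g⟩ = ρ.character n)
    (P : Subgroup G) (hNP : N ≤ P) (η : P → ℂ) (hη : Cfsg.IsIrrCharacter P η)
    (hηN : ∀ n : N, η ⟨n, hNP n.2⟩ = ρ.character n) :
    ∃ ν : P.comap (pr1 N ρ (Nat.card N)) → ℂ,
      Cfsg.IsCharacter (P.comap (pr1 N ρ (Nat.card N))) ν ∧ ν 1 = 1 ∧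
      ∀ a : preN N ρ, ν ⟨a, Subgroup.comap_mono hNP a.2⟩ = ((lamHom N ρ a : ℂˣ) : ℂ) := by
  classical
  have hπ : Function.Surjective (pr1 N ρ (Nat.card N)) :=
    pr1_surjective N ρ _ (character_conjNormal N ρ hinv)
  set H : Subgroup (Gam N ρ (Nat.card N)) := P.comap (pr1 N ρ (Nat.card N)) with hH
  have : Fintype H := Fintype.ofFinite H
  have : Fintype N := Fintype.ofFinite N
  have hmemH : ∀ n : N, incl N ρ n ∈ H := by
    intro n
    change pr1 N ρ (Nat.card N) (incl N ρ n) ∈ P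
    rw [pr1_incl]; exact hNP n.2
  let f₁ : N →* H :=
    { toFun := fun n => ⟨incl N ρ n, hmemH n⟩
      map_one' := Subtype.ext (map_one _)
      map_mul' := fun a b => Subtype.ext (map_mul _ a b) }
  have hf₁coe : ∀ n : N, ((f₁ n : H) : Gam N ρ (Nat.card N)) = incl N ρ n := fun n => rfl
  have hf₁inj : Function.Injective f₁ := by
    intro a b hab
    apply incl_injective N ρ
    have := congrArg Subtype.val hab
    exact this
  have hN₁ : f₁.range.Normal := by
    constructor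
    rintro _ ⟨n, rfl⟩ h
    have h1 : (h : Gam N ρ (Nat.card N)) * incl N ρ n * (h : Gam N ρ (Nat.card N))⁻¹
        ∈ (incl N ρ).range := (incl_range_normal N ρ).conj_mem _ ⟨n, rfl⟩ h
    obtain ⟨n', hn'⟩ := h1
    refine ⟨n', ?_⟩
    apply Subtype.ext
    rw [hf₁coe, hn']
    rfl
  have : Fintype f₁.range := Fintype.ofFinite _
  let e₁ : N ≃* f₁.range := MonoidHom.ofInjective hf₁inj
  have he₁ : ∀ n : N, ((e₁ n : f₁.range) : H) = f₁ n := fun n => rfl
  -- the two characters of H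
  set θH : H → ℂ := fun h => hatChar N ρ (Nat.card N) h with hθH
  set ηH : H → ℂ := fun h => η ⟨pr1 N ρ (Nat.card N) h, h.2⟩ with hηH
  have hθHchar : Cfsg.IsCharacter H θH := IsCharacter.restrict H (hatChar_isCharacter N ρ _)
  have hθHirr : Cfsg.IsIrrCharacter H θH := by
    apply Cfsg.Agent.Lib.Helper3.GlueExt.isIrrCharacter_of_comp_irr f₁ hθHchar
    have : (fun x : N => θH (f₁ x)) = ρ.character := funext (fun n => hatChar_incl N ρ n)
    rw [this]
    exact isIrrCharacter_character ρ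
  have hηHirr : Cfsg.IsIrrCharacter H ηH := by
    have hs := MonoidHom.subgroupComap_surjective_of_surjective (pr1 N ρ (Nat.card N)) P hπ
    exact isIrrCharacter_comp_surjective ((pr1 N ρ (Nat.card N)).subgroupComap P) hs hη
  have hθres : (fun x : f₁.range => θH x) = fun x : f₁.range => ρ.character (e₁.symm x) := by
    funext x
    obtain ⟨n, rfl⟩ := e₁.surjective x
    rw [e₁.symm_apply_apply, he₁]
    exact hatChar_incl N ρ n
  have hηres : (fun x : f₁.range => ηH x) = fun x : f₁.range => ρ.character (e₁.symm x) := by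
    funext x
    obtain ⟨n, rfl⟩ := e₁.surjective x
    rw [e₁.symm_apply_apply, he₁, ← hηN n]
    rfl
  have hθresirr : Cfsg.IsIrrCharacter f₁.range (fun x : f₁.range => θH x) := by
    rw [hθres]
    exact IsIrrCharacter.comp_mulEquiv e₁.symm (isIrrCharacter_character ρ)
  have hcon : Cfsg.classInner (fun x : f₁.range => ηH x) (fun x : f₁.range => θH x) ≠ 0 := by
    rw [hηres, hθres]
    have h1 := classInner_comp_mulEquiv e₁.symm ρ.character ρ.character
    rw [h1, classInner_isIrrCharacter (isIrrCharacter_character ρ) (isIrrCharacter_character ρ),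
      if_pos rfl]
    exact one_ne_zero
  obtain ⟨ν, hνirr, hνN, hνeq⟩ := Cfsg.Agent.Lib.Helper3.GallagherFactor.exists_factor
    f₁.range θH hθHirr hθresirr ηH hηHirr hcon
  have hd0 : (d : ℂ) ≠ 0 := by
    have := finrank_ne_zero N ρ
    simpa using this
  have hθH1 : θH 1 = (d : ℂ) := by
    change hatChar N ρ (Nat.card N) 1 = d
    rw [hatChar_one]; simp
  have hηH1 : ηH 1 = (d : ℂ) := by
    have h1 := hηN 1
    rw [Representation.char_one] at h1
    simp only [finrank_fintype_fun_eq_card, Fintype.card_fin] at h1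
    rw [← h1]
    rfl
  have hν1 : ν 1 = 1 := by
    have h1 := congrFun hνeq 1
    rw [Pi.mul_apply, hθH1, hηH1] at h1
    exact mul_right_cancel₀ hd0 (by rw [← h1, one_mul])
  have hνchar := IsIrrCharacter.isCharacter hνirr
  refine ⟨ν, hνchar, hν1, ?_⟩
  intro a
  set z := zOf N ρ a with hz
  have hz1 : pr1 N ρ (Nat.card N) z = 1 := pr1_zOf N ρ a
  have hzH : z ∈ H := by
    change pr1 N ρ (Nat.card N) z ∈ P
    rw [hz1]; exact P.one_mem
  set n : N := ⟨pr1 N ρ (Nat.card N) a, a.2⟩ with hn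
  have hdecomp : (⟨a, Subgroup.comap_mono hNP a.2⟩ : H) = ⟨z, hzH⟩ * f₁ n := by
    apply Subtype.ext
    exact eq_zOf_mul N ρ a
  rw [hdecomp, IsCharacter.mul_of_apply_one_eq_one hνchar hν1, hνN ⟨f₁ n, ⟨n, rfl⟩⟩, hν1, mul_one,
    lamHom_apply]
  -- value at the scalar z
  have h1 := congrFun hνeq ⟨z, hzH⟩
  rw [Pi.mul_apply] at h1
  have h2 : ηH ⟨z, hzH⟩ = (d : ℂ) := by
    rw [← hηH1]
    change η ⟨pr1 N ρ (Nat.card N) z, _⟩ = η ⟨pr1 N ρ (Nat.card N) 1, _⟩
    congr 1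
    apply Subtype.ext
    simp only
    rw [hz1, map_one]
  have h3 : θH ⟨z, hzH⟩ = scal N ρ (Nat.card N) z * (d : ℂ) := by
    change hatChar N ρ (Nat.card N) z = _
    have := hatChar_mul_of_pr1_eq_one N ρ _ z 1 hz1
    rw [mul_one, hatChar_one] at this
    rw [this]; simp
  rw [h2, h3, ← mul_assoc] at h1
  have h4 : ν ⟨z, hzH⟩ * scal N ρ (Nat.card N) z = 1 :=
    mul_right_cancel₀ hd0 (by rw [← h1, one_mul])
  exact eq_inv_of_mul_eq_one_left h4

end Cfsg.Agent.Lib.Helper3.CharTriple
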