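import Mathlib
import Cfsg.Prelude.Def_Characters
import Cfsg.Prelude.Def_Blocks
import Cfsg.Agent.Lib.Helper3.CharTriple5
import Cfsg.Agent.Lib.Helper3.GallagherMul

set_option autoImplicit false
set_option linter.unusedSectionVars false

namespace Cfsg.Agent.Lib.Helper3.CharTriple

open Cfsg.Agent.Lib.Helper6 Module

universe u

variable {G : Type u} [Group G] [Finite G] (N : Subgroup G) [hN : N.Normal]
variable {d : ℕ} (ρ : Representation ℂ N (Fin d → ℂ)) [hirr : ρ.IsIrreducible]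

/-- the preimage of a subgroup in `Γ` -/
noncomputable abbrev pre (K : Subgroup G) : Subgroup (Gam N ρ (Nat.card N)) := K.comap (pr1 N ρ (Nat.card N))

/-- **Descent from the linear triple.** If `β` is a `Γ`-invariant irreducible character of the
preimage of `K` lying over `lam`, then `β · ϑ̂` descends to a `G`-invariant irreducible character
of `K` lying over `ϑ`. -/
theorem exists_invariant_over_of_lam
    (hinv : ∀ (g : G) (n : N),
      ρ.character ⟨g * n * g⁻¹, hN.conj_mem (n : G) n.2 g⟩ = ρ.character n)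
    (K : Subgroup G) [hK : K.Normal] (hNK : N ≤ K)
    (β : pre N ρ K → ℂ)
    (hβ : Cfsg.IsIrrCharacter (pre N ρ K) β)
    (hβA : ∀ a : preN N ρ, β ⟨a, Subgroup.comap_mono hNK a.2⟩
      = β 1 * ((lamHom N ρ a : ℂˣ) : ℂ))
    (hβinv : ∀ (γ : Gam N ρ (Nat.card N)) (h : pre N ρ K),
      β ⟨γ * h * γ⁻¹, (hK.comap _).conj_mem (h : Gam N ρ (Nat.card N)) h.2 γ⟩ = β h) :
    ∃ χ : K → ℂ, Cfsg.IsIrrCharacter K χ ∧
      (∀ n : N, χ ⟨n, hNK n.2⟩ = β 1 * ρ.character n) ∧
      ∀ (g : G) (k : K), χ ⟨g * k * g⁻¹, hK.conj_mem (k : G) k.2 g⟩ = χ k := by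
  classical
  have hπ : Function.Surjective (pr1 N ρ (Nat.card N)) :=
    pr1_surjective N ρ _ (character_conjNormal N ρ hinv)
  have : Fintype (pre N ρ K) := Fintype.ofFinite _
  have : Fintype N := Fintype.ofFinite N
  have hmemH : ∀ n : N, incl N ρ n ∈ (pre N ρ K) := by
    intro n
    change pr1 N ρ (Nat.card N) (incl N ρ n) ∈ K
    rw [pr1_incl]; exact hNK n.2
  let f₁ : N →* (pre N ρ K) :=
    { toFun := fun n => ⟨incl N ρ n, hmemH n⟩
      map_one' := Subtype.ext (map_one _)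
      map_mul' := fun a b => Subtype.ext (map_mul _ a b) }
  have hf₁coe : ∀ n : N, ((f₁ n : (pre N ρ K)) : Gam N ρ (Nat.card N)) = incl N ρ n := fun n => rfl
  have hf₁inj : Function.Injective f₁ := by
    intro a b hab
    apply incl_injective N ρ
    have := congrArg Subtype.val hab
    exact this
  have hN₁ : f₁.range.Normal := by
    constructor
    rintro _ ⟨n, rfl⟩ h
    have h1 : (h : Gam N ρ (Nat.card N)) * incl N ρ n * (h : Gam N ρ (Nat.card N))⁻¹
        ∈ (incl N ρ).range := (incl_range_normal N ρ).conj_mem _ ⟨n, rfl⟩ h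
    obtain ⟨n', hn'⟩ := h1
    refine ⟨n', ?_⟩
    apply Subtype.ext
    rw [hf₁coe, hn']
    rfl
  have : Fintype f₁.range := Fintype.ofFinite _
  let e₁ : N ≃* f₁.range := MonoidHom.ofInjective hf₁inj
  have he₁ : ∀ n : N, ((e₁ n : f₁.range) : (pre N ρ K)) = f₁ n := fun n => rfl
  set θH : (pre N ρ K) → ℂ := fun h => hatChar N ρ (Nat.card N) h with hθH
  have hθHchar : Cfsg.IsCharacter (pre N ρ K) θH := IsCharacter.restrict (pre N ρ K) (hatChar_isCharacter N ρ _)
  have hθHirr : Cfsg.IsIrrCharacter (pre N ρ K) θH := by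
    apply Cfsg.Agent.Lib.Helper3.GlueExt.isIrrCharacter_of_comp_irr f₁ hθHchar
    have : (fun x : N => θH (f₁ x)) = ρ.character := funext (fun n => hatChar_incl N ρ n)
    rw [this]
    exact isIrrCharacter_character ρ
  have hθres : (fun x : f₁.range => θH x) = fun x : f₁.range => ρ.character (e₁.symm x) := by
    funext x
    obtain ⟨n, rfl⟩ := e₁.surjective x
    rw [e₁.symm_apply_apply, he₁]
    exact hatChar_incl N ρ n
  have hθresirr : Cfsg.IsIrrCharacter f₁.range (fun x : f₁.range => θH x) := by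
    rw [hθres]
    exact IsIrrCharacter.comp_mulEquiv e₁.symm (isIrrCharacter_character ρ)
  -- β is trivial on the copy of N
  have hβf₁ : ∀ n : N, β (f₁ n) = β 1 := by
    intro n
    have hmem : incl N ρ n ∈ preN N ρ := by
      change pr1 N ρ (Nat.card N) (incl N ρ n) ∈ N
      rw [pr1_incl]; exact n.2
    have h3 := hβA ⟨incl N ρ n, hmem⟩
    rw [lamHom_apply, zOf_incl, scal_one, inv_one, mul_one] at h3
    exact h3
  have hβN : ∀ x : f₁.range, β x = β 1 := by
    rintro ⟨_, n, rfl⟩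
    exact hβf₁ n
  have hψ : Cfsg.IsIrrCharacter (pre N ρ K) (β * θH) :=
    Cfsg.Agent.Lib.Helper3.GallagherMul.isIrrCharacter_mul f₁.range θH hθHirr hθresirr β hβ hβN
  -- descend along pr1
  set f : (pre N ρ K) →* K := (pr1 N ρ (Nat.card N)).subgroupComap K with hf
  have hfs : Function.Surjective f :=
    MonoidHom.subgroupComap_surjective_of_surjective (pr1 N ρ (Nat.card N)) K hπ
  have hfcoe : ∀ h : (pre N ρ K), ((f h : K) : G) = pr1 N ρ (Nat.card N) h := fun h => rfl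
  have hker : ∀ z ∈ f.ker, (β * θH) z = (β * θH) 1 := by
    intro z hz
    have hz1 : pr1 N ρ (Nat.card N) (z : Gam N ρ (Nat.card N)) = 1 := by
      have := congrArg Subtype.val (MonoidHom.mem_ker.mp hz)
      rw [hfcoe] at this
      exact this
    have hzA : (z : Gam N ρ (Nat.card N)) ∈ preN N ρ := by
      change pr1 N ρ (Nat.card N) z ∈ N
      rw [hz1]; exact N.one_mem
    have h1 := hβA ⟨z, hzA⟩
    rw [lamHom_apply, zOf_of_pr1_eq_one N ρ ⟨z, hzA⟩ hz1] at h1
    have h2 := hatChar_mul_of_pr1_eq_one N ρ _ (z : Gam N ρ (Nat.card N)) 1 hz1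
    rw [mul_one] at h2
    have h3 : scal N ρ (Nat.card N) (z : Gam N ρ (Nat.card N)) ≠ 0 := by
      have := scal_ne_zero N ρ ⟨z, hzA⟩
      rwa [zOf_of_pr1_eq_one N ρ ⟨z, hzA⟩ hz1] at this
    rw [Pi.mul_apply, Pi.mul_apply]
    have h4 : β z = β 1 * (scal N ρ (Nat.card N) (z : Gam N ρ (Nat.card N)))⁻¹ := h1
    have h5 : θH z = scal N ρ (Nat.card N) (z : Gam N ρ (Nat.card N)) * θH 1 := h2
    rw [h4, h5]
    field_simp
  obtain ⟨β', hβ', hβ'eq⟩ := Cfsg.Agent.Lib.Helper3.CharQuot.exists_irr_quot f.ker hψ hker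
  let e : (pre N ρ K) ⧸ f.ker ≃* K := QuotientGroup.quotientKerEquivOfSurjective f hfs
  have hesymm : ∀ h : (pre N ρ K), e.symm (f h) = QuotientGroup.mk h := by
    intro h
    rw [MulEquiv.symm_apply_eq]
    rfl
  set χ : K → ℂ := fun k => β' (e.symm k) with hχ
  have hχf : ∀ h : (pre N ρ K), χ (f h) = β h * θH h := by
    intro h
    change β' (e.symm (f h)) = _
    rw [hesymm]
    exact (congrFun hβ'eq h).symm
  refine ⟨χ, IsIrrCharacter.comp_mulEquiv e.symm hβ', ?_, ?_⟩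
  · intro n
    have h1 : (⟨n, hNK n.2⟩ : K) = f (f₁ n) := by
      apply Subtype.ext
      rw [hfcoe, hf₁coe, pr1_incl]
    rw [h1, hχf, hβf₁]
    have h2 : θH (f₁ n) = ρ.character n := hatChar_incl N ρ n
    rw [h2]
  · intro g k
    obtain ⟨γ, rfl⟩ := hπ g
    obtain ⟨h, rfl⟩ := hfs k
    have h1 : (⟨pr1 N ρ (Nat.card N) γ * (f h : K) * (pr1 N ρ (Nat.card N) γ)⁻¹,
        hK.conj_mem ((f h : K) : G) (f h).2 (pr1 N ρ (Nat.card N) γ)⟩ : K)
        = f ⟨γ * h * γ⁻¹, (hK.comap _).conj_mem (h : Gam N ρ (Nat.card N)) h.2 γ⟩ := by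
      apply Subtype.ext
      change pr1 N ρ (Nat.card N) γ * pr1 N ρ (Nat.card N) h * (pr1 N ρ (Nat.card N) γ)⁻¹
        = pr1 N ρ (Nat.card N) (γ * h * γ⁻¹)
      simp only [map_mul, map_inv]
    rw [h1, hχf, hχf, hβinv]
    congr 1
    exact IsCharacter.isClassFunction (hatChar_isCharacter N ρ _) _ _
end Cfsg.Agent.Lib.Helper3.CharTriple
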