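import Mathlib
import Cfsg.Prelude.Def_Characters
import Cfsg.Agent.Lib.Helper6.FiniteOrder
import Cfsg.Agent.Lib.Helper6.Orthogonality

namespace Cfsg.Agent.Lib.Helper3.GaloisNorm

open Polynomial Cfsg.Agent.Lib.Helper6

set_option backward.isDefEq.respectTransparency false in
/-- **AM–GM over the Galois group.** For a nonzero sum of `n`-th roots of unity, the squared
absolute values of its Galois conjugates sum to at least `φ(n)`. -/
theorem card_le_sum_norm_sq {ι : Type*} [Fintype ι] (n : ℕ) [NeZero n] (μ : ι → ℂ)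
    (hμ : ∀ i, μ i ^ n = 1) (h0 : ∑ i, μ i ≠ 0) :
    (Fintype.card (ZMod n)ˣ : ℝ) ≤ ∑ k : (ZMod n)ˣ, ‖∑ i, μ i ^ (k : ZMod n).val‖ ^ 2 := by
  classical
  have hn : 0 < n := Nat.pos_of_ne_zero (NeZero.ne n)
  have hζ : IsPrimitiveRoot (IsCyclotomicExtension.zeta n ℚ (CyclotomicField n ℚ)) n :=
    IsCyclotomicExtension.zeta_spec n ℚ (CyclotomicField n ℚ)
  set ζ := IsCyclotomicExtension.zeta n ℚ (CyclotomicField n ℚ) with hζdef
  have : FiniteDimensional ℚ (CyclotomicField n ℚ) :=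
    IsCyclotomicExtension.finiteDimensional {n} ℚ (CyclotomicField n ℚ)
  have : IsGalois ℚ (CyclotomicField n ℚ) :=
    IsCyclotomicExtension.isGalois {n} ℚ (CyclotomicField n ℚ)
  let φ : (CyclotomicField n ℚ) →ₐ[ℚ] ℂ := IsAlgClosed.lift
  have hφinj : Function.Injective φ := φ.toRingHom.injective
  have hξ : IsPrimitiveRoot (φ ζ) n := hζ.map_of_injective hφinj
  have ha : ∀ i, ∃ a < n, (φ ζ) ^ a = μ i := fun i => hξ.eq_pow_of_pow_eq_one (hμ i)
  choose a han ha using ha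
  set α : (CyclotomicField n ℚ) := ∑ i, ζ ^ a i with hα
  have hirr : Irreducible (cyclotomic n ℚ) := cyclotomic.irreducible_rat hn
  have hσ : ∀ σ : Gal((CyclotomicField n ℚ)/ℚ), φ (σ α) =
      ∑ i, μ i ^ ((IsCyclotomicExtension.autEquivPow (CyclotomicField n ℚ) hirr σ :
        (ZMod n)ˣ) : ZMod n).val := by
    intro σ
    have h1 : σ ζ = ζ ^ ((IsCyclotomicExtension.autEquivPow (CyclotomicField n ℚ) hirr σ :
        (ZMod n)ˣ) : ZMod n).val := by
      have := hζ.autToPow_spec ℚ σ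
      rw [← this]
      rfl
    simp only [hα, map_sum, map_pow, h1]
    refine Finset.sum_congr rfl fun i _ => ?_
    rw [← ha i, ← pow_mul, ← pow_mul, mul_comm]
  have hφα : φ α = ∑ i, μ i := by
    simp only [hα, map_sum, map_pow, ha]
  have hα0 : α ≠ 0 := by
    intro h
    apply h0
    rw [← hφα, h, map_zero]
  have hαint : IsIntegral ℤ α := by
    rw [hα]
    apply IsIntegral.sum
    intro i _
    exact (hζ.isIntegral hn).pow _
  have hNint : IsIntegral ℤ (Algebra.norm ℚ α) := Algebra.isIntegral_norm ℚ hαint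
  obtain ⟨z, hz⟩ := IsIntegrallyClosed.isIntegral_iff.mp hNint
  have hz0 : z ≠ 0 := by
    intro h
    rw [h, map_zero] at hz
    exact hα0 (Algebra.norm_eq_zero_iff.mp hz.symm)
  have hprod : ((z : ℤ) : ℂ) = ∏ σ : Gal((CyclotomicField n ℚ)/ℚ), φ (σ α) := by
    have h1 := Algebra.norm_eq_prod_automorphisms ℚ α
    have h2 := congrArg φ h1
    rw [map_prod, ← hz, AlgHom.commutes] at h2
    rw [← h2]
    simp
  have hnorm : (1 : ℝ) ≤ ∏ σ : Gal((CyclotomicField n ℚ)/ℚ), ‖φ (σ α)‖ := by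
    rw [← norm_prod, ← hprod, Complex.norm_intCast]
    have : (1 : ℤ) ≤ |z| := Int.one_le_abs hz0
    exact_mod_cast this
  -- AM-GM
  set Γ := Gal((CyclotomicField n ℚ)/ℚ) with hΓ
  have hcard : 0 < Fintype.card Γ := Fintype.card_pos
  have hcardR : (0 : ℝ) < Fintype.card Γ := by exact_mod_cast hcard
  have hamgm := Real.geom_mean_le_arith_mean_weighted (Finset.univ : Finset Γ)
    (fun _ => (Fintype.card Γ : ℝ)⁻¹) (fun σ => ‖φ (σ α)‖ ^ 2)
    (fun _ _ => by positivity)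
    (by rw [Finset.sum_const, Finset.card_univ, nsmul_eq_mul, mul_inv_cancel₀ hcardR.ne'])
    (fun _ _ => by positivity)
  rw [Real.finsetProd_rpow _ _ (fun _ _ => by positivity)] at hamgm
  have h1 : (1 : ℝ) ≤ (∏ σ : Γ, ‖φ (σ α)‖ ^ 2) ^ (Fintype.card Γ : ℝ)⁻¹ := by
    apply Real.one_le_rpow
    · rw [Finset.prod_pow]
      exact one_le_pow₀ hnorm
    · positivity
  have h2 : (1 : ℝ) ≤ ∑ σ : Γ, (Fintype.card Γ : ℝ)⁻¹ * ‖φ (σ α)‖ ^ 2 := le_trans h1 hamgm
  rw [← Finset.mul_sum] at h2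
  have h3 : (Fintype.card Γ : ℝ) ≤ ∑ σ : Γ, ‖φ (σ α)‖ ^ 2 := by
    have := mul_le_mul_of_nonneg_left h2 hcardR.le
    rw [mul_one, ← mul_assoc, mul_inv_cancel₀ hcardR.ne', one_mul] at this
    exact this
  let E := (IsCyclotomicExtension.autEquivPow (CyclotomicField n ℚ) hirr).toEquiv
  have h4 : Fintype.card Γ = Fintype.card (ZMod n)ˣ := Fintype.card_congr E
  have h5 : ∑ σ : Γ, ‖φ (σ α)‖ ^ 2
      = ∑ k : (ZMod n)ˣ, ‖∑ i, μ i ^ (k : ZMod n).val‖ ^ 2 := by
    rw [← Equiv.sum_comp E]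
    apply Finset.sum_congr rfl
    intro σ _
    rw [hσ σ]
    rfl
  rw [← h4, ← h5]
  exact h3

variable {G : Type*} [Group G]

/-- character version -/
theorem character_card_le_sum_norm_sq {χ : G → ℂ} (hχ : Cfsg.IsCharacter G χ) (g : G) (n : ℕ)
    [NeZero n] (hg : g ^ n = 1) (h0 : χ g ≠ 0) :
    (Fintype.card (ZMod n)ˣ : ℝ) ≤ ∑ k : (ZMod n)ˣ, ‖χ (g ^ (k : ZMod n).val)‖ ^ 2 := by
  obtain ⟨m, ρ, rfl⟩ := hχ
  have hn : 0 < n := Nat.pos_of_ne_zero (NeZero.ne n)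
  have hf : (ρ g) ^ n = 1 := by rw [← map_pow, hg, map_one]
  obtain ⟨ι, _, b, μ, hb, hμ⟩ := exists_eigenbasis_of_pow_eq_one hn hf
  have hpow : ∀ (k : ℕ) i, (ρ (g ^ k)) (b i) = (μ i ^ k) • b i := by
    intro k i
    induction k with
    | zero => simp
    | succ k ih =>
      rw [pow_succ, map_mul, Module.End.mul_apply, hb i, map_smul, ih, smul_smul, pow_succ,
        mul_comm]
  have htr : ∀ k : ℕ, ρ.character (g ^ k) = ∑ i, μ i ^ k := fun k =>
    trace_eq_sum_of_eigenbasis b (fun i => μ i ^ k) (ρ (g ^ k)) (hpow k)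
  have h1 : ρ.character g = ∑ i, μ i := by
    have := htr 1
    simpa using this
  rw [h1] at h0
  have := card_le_sum_norm_sq n μ hμ h0
  simpa only [htr] using this

end Cfsg.Agent.Lib.Helper3.GaloisNorm
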