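import Mathlib
import Cfsg.Prelude.Def_Characters
import Cfsg.Agent.Lib.Helper3.GaloisNorm
import Cfsg.Agent.Lib.Helper6.GaloisPerm
import Cfsg.Agent.Lib.Helper6.SecondOrth

set_option autoImplicit false

namespace Cfsg.Agent.Lib.Helper3.ClassBound

open Cfsg.Agent.Lib.Helper6
open scoped ComplexConjugate

variable {G : Type*} [Group G] [Fintype G]

/-- the sum of squared absolute values of the irreducible characters at `g ^ k`, `k` a unit
modulo `|G|`, is the order of the centralizer of `g`. -/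
theorem sum_irr_norm_sq_pow [Fintype (Cfsg.IrrCharacter G)] (g : G) (k : ℕ)
    (hk : Nat.Coprime k (Nat.card G)) :
    ∑ χ : Cfsg.IrrCharacter G, ‖(χ : G → ℂ) (g ^ k)‖ ^ 2
      = (Nat.card (Subgroup.centralizer ({g} : Set G)) : ℝ) := by
  classical
  have hbij : Function.Bijective (powIrr (G := G) k hk) :=
    (powIrr_injective k hk).bijective_of_finite
  have h1 : ∑ χ : Cfsg.IrrCharacter G, ‖(χ : G → ℂ) (g ^ k)‖ ^ 2
      = ∑ χ : Cfsg.IrrCharacter G, ‖(χ : G → ℂ) g‖ ^ 2 := by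
    rw [← Equiv.sum_comp (Equiv.ofBijective _ hbij) (fun χ => ‖(χ : G → ℂ) g‖ ^ 2)]
    rfl
  rw [h1]
  have h2 := (sum_irr_mul_conj g g).1 (IsConj.refl g)
  have h3 : ∀ χ : Cfsg.IrrCharacter G, (χ : G → ℂ) g * conj ((χ : G → ℂ) g)
      = ((‖(χ : G → ℂ) g‖ ^ 2 : ℝ) : ℂ) := by
    intro χ
    rw [Complex.mul_conj, Complex.normSq_eq_norm_sq]
  rw [Finset.sum_congr rfl (fun χ _ => h3 χ)] at h2
  have h4 : ((∑ χ : Cfsg.IrrCharacter G, ‖(χ : G → ℂ) g‖ ^ 2 : ℝ) : ℂ)
      = ((Nat.card (Subgroup.centralizer ({g} : Set G)) : ℝ) : ℂ) := by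
    push_cast
    push_cast at h2
    exact h2
  exact_mod_cast h4

/-- **Class number bound.** If no irreducible character vanishes at `g`, then
`k(G) ≤ |C_G(g)|`; in case of equality the Galois-averaged squared absolute value of every
irreducible character at `g` is `1`. -/
theorem card_irr_le_card_centralizer (g : G) (h0 : ∀ χ : Cfsg.IrrCharacter G, (χ : G → ℂ) g ≠ 0) :
    Nat.card (Cfsg.IrrCharacter G) ≤ Nat.card (Subgroup.centralizer ({g} : Set G)) ∧
    (Nat.card (Cfsg.IrrCharacter G) = Nat.card (Subgroup.centralizer ({g} : Set G)) →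
      ∀ χ : Cfsg.IrrCharacter G,
        ∑ k : (ZMod (Nat.card G))ˣ, ‖(χ : G → ℂ) (g ^ (k : ZMod (Nat.card G)).val)‖ ^ 2
          = (Fintype.card (ZMod (Nat.card G))ˣ : ℝ)) := by
  classical
  have : Fintype (Cfsg.IrrCharacter G) := Fintype.ofFinite _
  have : NeZero (Nat.card G) := ⟨Nat.card_pos.ne'⟩
  set U := (ZMod (Nat.card G))ˣ with hU
  set c : ℝ := (Nat.card (Subgroup.centralizer ({g} : Set G)) : ℝ) with hc
  have hlow : ∀ χ : Cfsg.IrrCharacter G, (Fintype.card U : ℝ)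
      ≤ ∑ k : U, ‖(χ : G → ℂ) (g ^ (k : ZMod (Nat.card G)).val)‖ ^ 2 := fun χ =>
    Cfsg.Agent.Lib.Helper3.GaloisNorm.character_card_le_sum_norm_sq
      (IsIrrCharacter.isCharacter χ.2) g (Nat.card G) pow_card_eq_one' (h0 χ)
  have htot : ∑ χ : Cfsg.IrrCharacter G,
      ∑ k : U, ‖(χ : G → ℂ) (g ^ (k : ZMod (Nat.card G)).val)‖ ^ 2
      = (Fintype.card U : ℝ) * c := by
    rw [Finset.sum_comm]
    rw [Finset.sum_congr rfl (fun k _ =>
      sum_irr_norm_sq_pow g _ (ZMod.val_coe_unit_coprime k))]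
    rw [Finset.sum_const, Finset.card_univ, nsmul_eq_mul]
  have hUpos : (0 : ℝ) < Fintype.card U := by
    have : 0 < Fintype.card U := Fintype.card_pos
    exact_mod_cast this
  have hsumlow : (Fintype.card (Cfsg.IrrCharacter G) : ℝ) * (Fintype.card U : ℝ)
      ≤ (Fintype.card U : ℝ) * c := by
    rw [← htot]
    calc (Fintype.card (Cfsg.IrrCharacter G) : ℝ) * (Fintype.card U : ℝ)
        = ∑ _χ : Cfsg.IrrCharacter G, (Fintype.card U : ℝ) := by
          rw [Finset.sum_const, Finset.card_univ, nsmul_eq_mul]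
      _ ≤ _ := Finset.sum_le_sum (fun χ _ => hlow χ)
  have hle : (Fintype.card (Cfsg.IrrCharacter G) : ℝ) ≤ c := by
    rw [mul_comm] at hsumlow
    exact le_of_mul_le_mul_left hsumlow hUpos
  constructor
  · rw [Nat.card_eq_fintype_card]
    rw [hc] at hle
    exact_mod_cast hle
  · intro heq χ
    rw [Nat.card_eq_fintype_card] at heq
    have hceq : (Fintype.card (Cfsg.IrrCharacter G) : ℝ) = c := by
      rw [hc, ← heq]
    -- all the inequalities are equalities
    by_contra hne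
    have hlt : (Fintype.card U : ℝ)
        < ∑ k : U, ‖(χ : G → ℂ) (g ^ (k : ZMod (Nat.card G)).val)‖ ^ 2 :=
      lt_of_le_of_ne (hlow χ) (Ne.symm hne)
    have hstrict : ∑ _χ : Cfsg.IrrCharacter G, (Fintype.card U : ℝ)
        < ∑ χ : Cfsg.IrrCharacter G,
          ∑ k : U, ‖(χ : G → ℂ) (g ^ (k : ZMod (Nat.card G)).val)‖ ^ 2 :=
      Finset.sum_lt_sum (fun χ _ => hlow χ) ⟨χ, Finset.mem_univ _, hlt⟩
    rw [htot, Finset.sum_const, Finset.card_univ, nsmul_eq_mul, hceq, mul_comm] at hstrict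
    exact lt_irrefl _ hstrict

end Cfsg.Agent.Lib.Helper3.ClassBound
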