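import Mathlib

set_option autoImplicit false

namespace Cfsg.Agent.Lib.Helper3

/-- Double counting: pairs of a relation counted by rows. -/
theorem card_pairs_eq_sum_left {A B : Type*} [Fintype A] [Finite B] (R : A → B → Prop) :
    Nat.card {p : A × B // R p.1 p.2} = ∑ a : A, Nat.card {b : B // R a b} := by
  rw [Nat.card_congr (Equiv.subtypeProdEquivSigmaSubtype R), Nat.card_sigma]

/-- Double counting: pairs of a relation counted by columns. -/
theorem card_pairs_eq_sum_right {A B : Type*} [Finite A] [Fintype B] (R : A → B → Prop) :
    Nat.card {p : A × B // R p.1 p.2} = ∑ b : B, Nat.card {a : A // R a b} := by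
  rw [← card_pairs_eq_sum_left (fun b a => R a b)]
  apply Nat.card_congr
  exact
    { toFun := fun p => ⟨(p.1.2, p.1.1), p.2⟩
      invFun := fun p => ⟨(p.1.2, p.1.1), p.2⟩
      left_inv := fun p => rfl
      right_inv := fun p => rfl }

theorem sum_card_left_eq_sum_card_right {A B : Type*} [Fintype A] [Fintype B] (R : A → B → Prop) :
    ∑ a : A, Nat.card {b : B // R a b} = ∑ b : B, Nat.card {a : A // R a b} := by
  rw [← card_pairs_eq_sum_left, card_pairs_eq_sum_right]

/-- The class equation in the form `k(X) |X| = Σ_x |C_X(x)|` (counting commuting pairs). -/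
theorem card_conjClasses_mul_card_eq_sum (X : Type*) [Group X] [Fintype X] :
    Nat.card (ConjClasses X) * Nat.card X = ∑ x : X, Nat.card {y : X // Commute x y} := by
  rw [← card_comm_eq_card_conjClasses_mul_card, card_pairs_eq_sum_left]

/-- Elements of a subgroup `Y` commuting with `x`, as a subgroup of the centralizer. -/
theorem card_commute_subgroup {X : Type*} [Group X] (Y : Subgroup X) (x : X) :
    Nat.card {y : Y // Commute x (y : X)} =
      Nat.card (Y.subgroupOf (Subgroup.centralizer ({x} : Set X))) := by
  apply Nat.card_congr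
  exact
    { toFun := fun y => ⟨⟨y.1.1, by
        rw [Subgroup.mem_centralizer_singleton_iff]; exact y.2.eq.symm⟩, y.1.2⟩
      invFun := fun c => ⟨⟨c.1.1, c.2⟩, by
        have := c.1.2
        rw [Subgroup.mem_centralizer_singleton_iff] at this
        exact this.symm⟩
      left_inv := fun y => rfl
      right_inv := fun c => rfl }

theorem card_commute_eq_card_centralizer {X : Type*} [Group X] (x : X) :
    Nat.card {y : X // Commute x y} = Nat.card (Subgroup.centralizer ({x} : Set X)) := by
  apply Nat.card_congr
  exact
    { toFun := fun y => ⟨y.1, by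
        rw [Subgroup.mem_centralizer_singleton_iff]; exact y.2.eq.symm⟩
      invFun := fun c => ⟨c.1, by
        have := c.2
        rw [Subgroup.mem_centralizer_singleton_iff] at this
        exact this.symm⟩
      left_inv := fun y => rfl
      right_inv := fun c => rfl }

/-- `|C_X(x)| = [C_X(x) : C_Y(x)] · |C_Y(x)|`. -/
theorem card_centralizer_eq_relIndex_mul {X : Type*} [Group X] [Finite X] (Y : Subgroup X) (x : X) :
    Nat.card {y : X // Commute x y} =
      Y.relIndex (Subgroup.centralizer ({x} : Set X)) * Nat.card {y : Y // Commute x (y : X)} := by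
  rw [card_commute_subgroup, card_commute_eq_card_centralizer, mul_comm]
  exact (Subgroup.card_mul_index _).symm

theorem relIndex_le_index {X : Type*} [Group X] [Finite X] (Y C : Subgroup X) :
    Y.relIndex C ≤ Y.index := by
  have := Subgroup.relIndex_le_of_le_right (H := Y) (le_top : C ≤ ⊤)
    (by rw [Subgroup.relIndex_top_right]; exact Subgroup.index_ne_zero_of_finite)
  rwa [Subgroup.relIndex_top_right] at this

/-- `|C_X(x)| ≤ [X : Y] · |C_Y(x)|`. -/
theorem card_centralizer_le {X : Type*} [Group X] [Finite X] (Y : Subgroup X) (x : X) :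
    Nat.card {y : X // Commute x y} ≤ Y.index * Nat.card {y : Y // Commute x (y : X)} := by
  rw [card_centralizer_eq_relIndex_mul Y x]
  exact Nat.mul_le_mul_right _ (relIndex_le_index Y _)

end Cfsg.Agent.Lib.Helper3
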