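import Mathlib
import Cfsg.Agent.Lib.Helper3.ClassNumber

set_option autoImplicit false

namespace Cfsg.Agent.Lib.Helper3

open MulAction

/-- If the orbits of `a` and `b` under a finite group `H` have coprime sizes, then the stabilizer
of `b` is transitive on the orbit of `a`. -/
theorem exists_mem_stabilizer_smul_eq_of_coprime {H X : Type*} [Group H] [Finite H]
    [MulAction H X] (a b : X)
    (hcop : (Nat.card (orbit H a)).Coprime (Nat.card (orbit H b))) (h : H) :
    ∃ g ∈ stabilizer H b, g • a = h • a := by
  classical
  set A := stabilizer H a with hAdef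
  set B := stabilizer H b with hBdef
  have hA : A.index = Nat.card (orbit H a) := by
    rw [MulAction.index_stabilizer, Nat.card_coe_set_eq]
  have hB : B.index = Nat.card (orbit H b) := by
    rw [MulAction.index_stabilizer, Nat.card_coe_set_eq]
  have h1 : A.relIndex B * B.index = (A ⊓ B).index := by
    rw [← Subgroup.inf_relIndex_right, Subgroup.relIndex_mul_index inf_le_right]
  have h2 : B.relIndex A * A.index = (A ⊓ B).index := by
    rw [← Subgroup.inf_relIndex_left, Subgroup.relIndex_mul_index inf_le_left]
  have hdvd : A.index ∣ A.relIndex B := by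
    have : A.index ∣ A.relIndex B * B.index := by
      rw [h1, ← h2]; exact dvd_mul_left _ _
    rw [hA, hB] at this
    rw [hA]
    exact hcop.dvd_of_dvd_mul_right this
  have hle : A.relIndex B ≤ A.index := relIndex_le_index A B
  have hne : A.relIndex B ≠ 0 := by
    rw [Subgroup.relIndex]; exact Subgroup.index_ne_zero_of_finite
  have hr : A.relIndex B = A.index :=
    le_antisymm hle (Nat.le_of_dvd (Nat.pos_of_ne_zero hne) hdvd)
  -- the orbit of `a` under `B`
  have hstab : stabilizer B a = A.subgroupOf B := by
    ext g
    simp only [mem_stabilizer_iff, Subgroup.mem_subgroupOf, hAdef]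
    rfl
  have hcardB : (orbit B a).ncard = A.index := by
    rw [← MulAction.index_stabilizer, hstab, ← hr, Subgroup.relIndex]
  have hsub : orbit B a ⊆ orbit H a := by
    rintro _ ⟨g, rfl⟩
    exact ⟨g.1, rfl⟩
  have hfin : (orbit H a).Finite := Finite.finite_mulAction_orbit a
  have heq : orbit B a = orbit H a := by
    apply Set.eq_of_subset_of_ncard_le hsub _ hfin
    rw [hcardB, MulAction.index_stabilizer]
  have : h • a ∈ orbit B a := by rw [heq]; exact ⟨h, rfl⟩
  obtain ⟨g, hg⟩ := this
  exact ⟨g.1, g.2, hg⟩

end Cfsg.Agent.Lib.Helper3
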