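import Mathlib
import Cfsg.Prelude.Def_DegreeGraph
import Cfsg.Agent.Lib.Helper6.CliffordStab
import Cfsg.Agent.Lib.Helper6.Mult
import Cfsg.Agent.Lib.Helper6.Constituent
import Cfsg.Agent.Lib.Helper6.Orthogonality

/-!
# S3670, unit H: a solvable group of order 6048 with an irreducible character of degree 42

`Hgrp = (R,+) ⋊ Rˣ` for the ring `R = GF(8) × ZMod 18` (`|R| = 144`, `|Rˣ| = 7 * 6 = 42`).
A linear character `λ = λ₁ ⊗ λ₂` of `(R,+)` with `λ₁ ≠ 1` and `λ₂` injective has trivial
stabilizer in `Rˣ`, so the induced character is irreducible of degree `42`.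
-/

set_option autoImplicit false
set_option maxHeartbeats 4000000
set_option linter.unusedVariables false
set_option linter.unusedSectionVars false
set_option linter.style.longLine false

namespace Cfsg.Agent.Lib.Helper3.S3670H

open Cfsg Cfsg.Agent.Lib.Helper6

/-- the ring `GF(8) × ZMod 18` -/
abbrev RR : Type := GaloisField 2 3 × ZMod 18

/-- units of `RR` acting on the additive group of `RR` by multiplication -/
noncomputable def phiR : RRˣ →* MulAut (Multiplicative RR) :=
  (MulAutMultiplicative RR).symm.toMonoidHom.comp (AddAut.mulLeft (R := RR))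

theorem phiR_apply (u : RRˣ) (x : RR) :
    phiR u (Multiplicative.ofAdd x) = Multiplicative.ofAdd ((u : RR) * x) := rfl

/-- the solvable group of order `6048` -/
abbrev Hgrp : Type := Multiplicative RR ⋊[phiR] RRˣ

instance : Finite Hgrp := Finite.of_equiv _ (SemidirectProduct.equivProd (φ := phiR)).symm

noncomputable instance : Fintype Hgrp := Fintype.ofFinite _

theorem card_RR : Nat.card RR = 144 := by
  rw [Nat.card_prod, GaloisField.card 2 3 (by norm_num), Nat.card_zmod]
  norm_num

theorem card_units_RR : Nat.card RRˣ = 42 := by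
  rw [Nat.card_congr (MulEquiv.prodUnits (M := GaloisField 2 3) (N := ZMod 18)).toEquiv,
    Nat.card_prod]
  have h1 : Nat.card (GaloisField 2 3)ˣ = 7 := by
    rw [Nat.card_units, GaloisField.card 2 3 (by norm_num)]
    norm_num
  have h2 : Nat.card (ZMod 18)ˣ = 6 := by
    rw [Nat.card_eq_fintype_card, ZMod.card_units_eq_totient]
    decide
  rw [h1, h2]

theorem Hgrp_card : Nat.card Hgrp = 6048 := by
  rw [SemidirectProduct.card, card_units_RR]
  have : Nat.card (Multiplicative RR) = 144 := card_RR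
  rw [this]

theorem Hgrp_solvable : Group.IsSolvable Hgrp :=
  Group.isSolvable_of_ker_le_range (SemidirectProduct.inl : Multiplicative RR →* Hgrp)
    (SemidirectProduct.rightHom : Hgrp →* RRˣ)
    (le_of_eq SemidirectProduct.range_inl_eq_ker_rightHom.symm)


/-! ### the linear character with trivial stabilizer -/

theorem exists_lam1 : ∃ l : Multiplicative (GaloisField 2 3) →* ℂˣ,
    l (Multiplicative.ofAdd 1) ≠ 1 := by
  have h : (Multiplicative.ofAdd (1 : GaloisField 2 3)) ≠ 1 := by
    intro h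
    have h2 : (1 : GaloisField 2 3) = 0 := congrArg Multiplicative.toAdd h
    exact one_ne_zero h2
  exact CommGroup.exists_apply_ne_one_of_hasEnoughRootsOfUnity _ ℂ h

/-- an injective character of `(ZMod 18, +)` -/
noncomputable def lam2 : Multiplicative (ZMod 18) →* ℂˣ :=
  ((ZMod.stdAddChar (N := 18)).toMonoidHom).toHomUnits

theorem lam2_injective : Function.Injective lam2 := by
  intro a b hab
  have h1 : ((lam2 a : ℂˣ) : ℂ) = ((lam2 b : ℂˣ) : ℂ) := by rw [hab]
  have h2 : ZMod.stdAddChar (N := 18) (Multiplicative.toAdd a)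
      = ZMod.stdAddChar (N := 18) (Multiplicative.toAdd b) := h1
  exact Multiplicative.toAdd.injective (ZMod.injective_stdAddChar h2)

/-- the product character on `(RR,+)` -/
noncomputable def lamR (l1 : Multiplicative (GaloisField 2 3) →* ℂˣ) : Multiplicative RR →* ℂˣ :=
  (l1.comp (AddMonoidHom.toMultiplicative (AddMonoidHom.fst (GaloisField 2 3) (ZMod 18)))) *
    (lam2.comp (AddMonoidHom.toMultiplicative (AddMonoidHom.snd (GaloisField 2 3) (ZMod 18))))

theorem lamR_apply (l1 : Multiplicative (GaloisField 2 3) →* ℂˣ) (x : RR) :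
    lamR l1 (Multiplicative.ofAdd x)
      = l1 (Multiplicative.ofAdd x.1) * lam2 (Multiplicative.ofAdd x.2) := rfl

theorem lamR_stab (l1 : Multiplicative (GaloisField 2 3) →* ℂˣ)
    (hl1 : l1 (Multiplicative.ofAdd 1) ≠ 1) (u : RRˣ)
    (h : ∀ x : RR, lamR l1 (Multiplicative.ofAdd ((u : RR) * x)) = lamR l1 (Multiplicative.ofAdd x)) :
    u = 1 := by
  apply Units.ext
  have hu2 : (u : RR).2 = 1 := by
    have h1 := h (0, 1)
    rw [lamR_apply, lamR_apply] at h1
    simp only [Prod.fst_mul, Prod.snd_mul, mul_zero, mul_one] at h1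
    have h2 := mul_left_cancel h1
    have h3 := lam2_injective h2
    exact Multiplicative.ofAdd.injective h3
  have hu1 : (u : RR).1 = 1 := by
    by_contra hne
    have hne' : (u : RR).1 - 1 ≠ 0 := sub_ne_zero.mpr hne
    have h1 := h (((u : RR).1 - 1)⁻¹, 0)
    rw [lamR_apply, lamR_apply] at h1
    simp only [Prod.fst_mul, Prod.snd_mul, mul_zero] at h1
    have h2 := mul_right_cancel h1
    have h4 : (u : RR).1 * ((u : RR).1 - 1)⁻¹ = 1 + ((u : RR).1 - 1)⁻¹ := by
      field_simp
      ring
    rw [h4, ofAdd_add, map_mul] at h2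
    exact hl1 (mul_right_cancel (h2.trans (one_mul _).symm))
  exact Prod.ext hu1 hu2


/-! ### the normal subgroup `N = (RR,+)` of `Hgrp` and the induced character -/

/-- the normal subgroup `(RR,+)` of `Hgrp` -/
noncomputable def NN : Subgroup Hgrp := (SemidirectProduct.inl : Multiplicative RR →* Hgrp).range

theorem NN_normal : NN.Normal := by
  unfold NN
  rw [SemidirectProduct.range_inl_eq_ker_rightHom]
  exact MonoidHom.normal_ker _

noncomputable instance : Fintype NN := Fintype.ofFinite _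

theorem inl_mem_NN (y : Multiplicative RR) : (SemidirectProduct.inl y : Hgrp) ∈ NN := by
  unfold NN
  exact ⟨y, rfl⟩

theorem mem_NN_iff (g : Hgrp) : g ∈ NN ↔ g.right = 1 := by
  unfold NN
  rw [SemidirectProduct.range_inl_eq_ker_rightHom, MonoidHom.mem_ker,
    SemidirectProduct.rightHom_eq_right]

/-- the isomorphism `(RR,+) ≃ NN` -/
noncomputable def eNN : Multiplicative RR ≃* NN :=
  MonoidHom.ofInjective (SemidirectProduct.inl_injective (φ := phiR))

theorem eNN_apply (y : Multiplicative RR) : ((eNN y : NN) : Hgrp) = SemidirectProduct.inl y := rfl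

theorem card_NN : Nat.card NN = 144 := by
  rw [← Nat.card_congr eNN.toEquiv]
  exact card_RR

theorem index_NN : NN.index = 42 := by
  have h1 := NN.card_mul_index
  rw [card_NN, Hgrp_card] at h1
  omega

/-- the linear character of `NN` -/
noncomputable def thetaHom (l1 : Multiplicative (GaloisField 2 3) →* ℂˣ) : NN →* ℂˣ :=
  (lamR l1).comp eNN.symm.toMonoidHom

theorem thetaHom_inl (l1 : Multiplicative (GaloisField 2 3) →* ℂˣ) (y : Multiplicative RR)
    (hy : (SemidirectProduct.inl y : Hgrp) ∈ NN) :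
    thetaHom l1 ⟨SemidirectProduct.inl y, hy⟩ = lamR l1 y := by
  unfold thetaHom
  simp only [MonoidHom.comp_apply, MulEquiv.coe_toMonoidHom]
  congr 1
  rw [MulEquiv.symm_apply_eq]
  exact Subtype.ext rfl

theorem conj_inl (g : Hgrp) (y : Multiplicative RR) :
    g * SemidirectProduct.inl y * g⁻¹ = SemidirectProduct.inl (phiR g.right y) := by
  apply SemidirectProduct.ext
  · simp only [SemidirectProduct.mul_left, SemidirectProduct.mul_right,
      SemidirectProduct.inv_left, SemidirectProduct.inv_right, SemidirectProduct.left_inl,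
      SemidirectProduct.right_inl, mul_one, map_inv, map_mul]
    rw [mul_comm g.left, mul_assoc]
    simp
  · simp

/-- the linear character of `NN` as a function -/
noncomputable def theta (l1 : Multiplicative (GaloisField 2 3) →* ℂˣ) : NN → ℂ :=
  fun n => ((thetaHom l1 n : ℂˣ) : ℂ)

theorem theta_irr (l1 : Multiplicative (GaloisField 2 3) →* ℂˣ) :
    Cfsg.IsIrrCharacter NN (theta l1) := isIrrCharacter_of_hom (thetaHom l1)

theorem theta_stab (l1 : Multiplicative (GaloisField 2 3) →* ℂˣ)
    (hl1 : l1 (Multiplicative.ofAdd 1) ≠ 1) (g : Hgrp)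
    (hg : conjFun NN NN_normal (theta l1) g = theta l1) : g ∈ NN := by
  rw [mem_NN_iff]
  apply lamR_stab l1 hl1
  intro x
  have hmem : (SemidirectProduct.inl (Multiplicative.ofAdd x) : Hgrp) ∈ NN := inl_mem_NN _
  have h1 := congrFun hg ⟨SemidirectProduct.inl (Multiplicative.ofAdd x), hmem⟩
  rw [conjFun_apply] at h1
  unfold theta at h1
  have h2 := Units.ext h1
  have h3 : (⟨g * (SemidirectProduct.inl (Multiplicative.ofAdd x) : Hgrp) * g⁻¹,
      NN_normal.conj_mem _ hmem g⟩ : NN)
      = ⟨SemidirectProduct.inl (phiR g.right (Multiplicative.ofAdd x)), inl_mem_NN _⟩ :=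
    Subtype.ext (conj_inl g _)
  have e1 := thetaHom_inl l1 (phiR g.right (Multiplicative.ofAdd x)) (inl_mem_NN _)
  have e2 := thetaHom_inl l1 (Multiplicative.ofAdd x) hmem
  rw [h3, e1, e2, phiR_apply] at h2
  exact h2

/-- the induced character is irreducible -/
theorem ind_irr (l1 : Multiplicative (GaloisField 2 3) →* ℂˣ)
    (hl1 : l1 (Multiplicative.ofAdd 1) ≠ 1) :
    Cfsg.IsIrrCharacter Hgrp (Cfsg.indFun NN (theta l1)) := by
  have hc : Cfsg.classInner (fun n : NN => (theta l1) ⟨n, le_refl NN n.2⟩) (theta l1) ≠ 0 := by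
    have h1 := classInner_irrCharacter (⟨theta l1, theta_irr l1⟩ : Cfsg.IrrCharacter NN)
      ⟨theta l1, theta_irr l1⟩
    rw [if_pos rfl] at h1
    have h2 : (fun n : NN => (theta l1) ⟨n, le_refl NN n.2⟩) = theta l1 := rfl
    rw [h2]
    intro h0
    rw [h0] at h1
    exact zero_ne_one h1
  exact indFun_isIrrCharacter_of_stab NN NN_normal NN (le_refl NN)
    ⟨theta l1, theta_irr l1⟩ (theta_stab l1 hl1) ⟨theta l1, theta_irr l1⟩ hc

/-- **Unit H of S3670**: `42` is an irreducible character degree of `Hgrp`. -/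
theorem Hgrp_deg42 : (42 : ℕ) ∈ Cfsg.charDegrees Hgrp := by
  obtain ⟨l1, hl1⟩ := exists_lam1
  refine ⟨⟨_, ind_irr l1 hl1⟩, ?_⟩
  show Cfsg.charDegree (Cfsg.indFun NN (theta l1)) = 42
  unfold Cfsg.charDegree
  rw [indFun_one, index_NN]
  have h1 : theta l1 1 = 1 := by
    unfold theta
    rw [map_one]
    rfl
  rw [h1]
  norm_num

theorem Hgrp_deg6 : ∃ d ∈ Cfsg.charDegrees Hgrp, 6 ∣ d := ⟨42, Hgrp_deg42, by norm_num⟩
theorem Hgrp_deg14 : ∃ d ∈ Cfsg.charDegrees Hgrp, 14 ∣ d := ⟨42, Hgrp_deg42, by norm_num⟩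
theorem Hgrp_deg21 : ∃ d ∈ Cfsg.charDegrees Hgrp, 21 ∣ d := ⟨42, Hgrp_deg42, by norm_num⟩

end Cfsg.Agent.Lib.Helper3.S3670H
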