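import Mathlib
import Cfsg.Agent.Lib.Helper3.S3670H

/-!
# S3670 unit H, verbatim stub name (owner helper9's namespace)
-/

set_option autoImplicit false

namespace Cfsg.Agent.Lib.Helper9.D3670

/-- H: a solvable group of order 6048 with degrees divisible by 6, 14, 21 (e.g. one degree divisible by 42). -/
theorem exists_solvable : ∃ (H : Type) (_ : Group H) (_ : Fintype H), Group.IsSolvable H ∧
    Nat.card H = 6048 ∧ (∃ d ∈ Cfsg.charDegrees H, 6 ∣ d) ∧ (∃ d ∈ Cfsg.charDegrees H, 14 ∣ d) ∧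
    (∃ d ∈ Cfsg.charDegrees H, 21 ∣ d) :=
  ⟨Cfsg.Agent.Lib.Helper3.S3670H.Hgrp, inferInstance, inferInstance,
    Cfsg.Agent.Lib.Helper3.S3670H.Hgrp_solvable, Cfsg.Agent.Lib.Helper3.S3670H.Hgrp_card,
    Cfsg.Agent.Lib.Helper3.S3670H.Hgrp_deg6, Cfsg.Agent.Lib.Helper3.S3670H.Hgrp_deg14,
    Cfsg.Agent.Lib.Helper3.S3670H.Hgrp_deg21⟩

end Cfsg.Agent.Lib.Helper9.D3670
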