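import Mathlib
import Cfsg.Agent.Lib.Helper3.CD8
import Cfsg.Agent.Lib.Helper3.GallagherMul
import Cfsg.Prelude.Def_DegreeGraph

set_option autoImplicit false
set_option linter.unusedSectionVars false
set_option linter.unusedVariables false

/-! Character degree graphs of solvable groups: the Manz--Staszewski--Willems theorem
(at most two connected components), via Isaacs' Lemma 12.3 and Theorem 12.4. -/

namespace Cfsg.Agent.Lib.Helper3.DG

open Cfsg Cfsg.Agent.Lib.Helper6 Cfsg.Agent.Lib.Helper3.CD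

/-- a quotient `G/K` of a nonabelian solvable group which is nonabelian with all proper
quotients abelian -/
theorem exists_good_quotient {G : Type*} [Group G] [Finite G]
    (hG : ∃ a b : G, a * b ≠ b * a) :
    ∃ (K : Subgroup G) (_ : K.Normal),
      (∀ L : Subgroup (G ⧸ K), L.Normal → L ≠ ⊥ → commutator (G ⧸ K) ≤ L) ∧
      (∃ x y : G ⧸ K, x * y ≠ y * x) ∧ commutator (G ⧸ K) ≠ ⊥ := by
  classical
  obtain ⟨K, hKn, ⟨a₀, b₀, hab₀⟩, hKmax⟩ := exists_max_nonabelian_quotient hG
  refine ⟨K, hKn, ?_⟩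
  have hmin : ∀ L : Subgroup (G ⧸ K), L.Normal → L ≠ ⊥ → commutator (G ⧸ K) ≤ L := by
    intro L hLn hL
    set L' := L.comap (QuotientGroup.mk' K) with hL'
    have hL'n : L'.Normal := inferInstance
    have hKL' : K ≤ L' := by
      intro x hx
      rw [hL', Subgroup.mem_comap]
      have : QuotientGroup.mk' K x = 1 := (QuotientGroup.eq_one_iff x).mpr hx
      rw [this]
      exact one_mem L
    have hall : ∀ a b : G, a * b * a⁻¹ * b⁻¹ ∈ L' := by
      by_contra hno
      push Not at hno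
      have hle := hKmax L' hL'n hKL' hno
      apply hL
      rw [eq_bot_iff]
      intro q hq
      obtain ⟨x, rfl⟩ := QuotientGroup.mk_surjective q
      rw [Subgroup.mem_bot]
      exact (QuotientGroup.eq_one_iff x).mpr (hle hq)
    rw [commutator_def, Subgroup.commutator_le]
    intro q₁ _ q₂ _
    obtain ⟨a, rfl⟩ := QuotientGroup.mk_surjective q₁
    obtain ⟨b, rfl⟩ := QuotientGroup.mk_surjective q₂
    have := hall a b
    rw [hL', Subgroup.mem_comap] at this
    rw [commutatorElement_def]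
    simpa using this
  have hQG : ∃ x y : G ⧸ K, x * y ≠ y * x := by
    refine ⟨QuotientGroup.mk a₀, QuotientGroup.mk b₀, ?_⟩
    intro h
    apply hab₀
    rw [← QuotientGroup.eq_one_iff]
    rw [QuotientGroup.mk_mul, QuotientGroup.mk_mul, QuotientGroup.mk_mul, QuotientGroup.mk_inv,
      QuotientGroup.mk_inv, h]
    group
  have hne : commutator (G ⧸ K) ≠ ⊥ := by
    intro h
    obtain ⟨x, y, hxy⟩ := hQG
    have h1 := comm_mem_commutator x y
    rw [h, Subgroup.mem_bot] at h1
    apply hxy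
    calc x * y = (x * y * x⁻¹ * y⁻¹) * (y * x) := by group
      _ = y * x := by rw [h1, one_mul]
  exact ⟨hmin, hQG, hne⟩

/-- restriction to a normal subgroup is irreducible when the degree is prime to `s` and the
index is a power of `s` -/
theorem restrict_irr_of_coprime {G : Type*} [Group G] [Fintype G] (K : Subgroup G)
    [hK : K.Normal] [Fintype K] (s k : ℕ) (hs : s.Prime) (hidx : K.index = s ^ k)
    (χ : G → ℂ) (hχ : Cfsg.IsIrrCharacter G χ) (hsχ : ¬ s ∣ Cfsg.charDegree χ) :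
    Cfsg.IsIrrCharacter K (fun n : K => χ n) := by
  classical
  have hres : Cfsg.IsCharacter K (fun n : K => χ n) :=
    IsCharacter.restrict _ (IsIrrCharacter.isCharacter hχ)
  have hres1 : (fun n : K => χ n) 1 ≠ 0 := IsIrrCharacter.apply_one_ne_zero hχ
  obtain ⟨ϑ, hϑ⟩ := IsCharacter.exists_constituent hres hres1
  have h887 := Cfsg.Agent.S0887.result K χ hχ (ϑ : K → ℂ) ϑ.2 hϑ _ _
    (IsCharacter.apply_one_eq_charDegree (IsIrrCharacter.isCharacter hχ))
    (IsCharacter.apply_one_eq_charDegree (IsIrrCharacter.isCharacter ϑ.2))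
  obtain ⟨h1, h2⟩ := h887
  rw [hidx] at h2
  set d := Cfsg.charDegree χ with hd
  set d' := Cfsg.charDegree (ϑ : K → ℂ) with hd'
  have hquot : d / d' = 1 := by
    have h3 : d / d' ∣ d := Nat.div_dvd_of_dvd h1
    have hcop : Nat.Coprime (d / d') s := by
      rw [Nat.coprime_comm, Nat.Prime.coprime_iff_not_dvd hs]
      exact fun h => hsχ (h.trans h3)
    exact Nat.Coprime.eq_one_of_dvd (Nat.Coprime.pow_right k hcop) h2
  have hdd' : d = d' := by
    have := Nat.div_mul_cancel h1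
    rw [hquot, one_mul] at this
    exact this.symm
  have heq : (fun n : K => χ n) = (ϑ : K → ℂ) := by
    apply IsCharacter.eq_of_constituent_of_apply_one_eq hres ϑ.2 hϑ
    rw [IsCharacter.apply_one_eq_charDegree (IsIrrCharacter.isCharacter ϑ.2), ← hd', ← hdd']
    exact IsCharacter.apply_one_eq_charDegree (IsIrrCharacter.isCharacter hχ)
  rw [heq]; exact ϑ.2

/-- the `p`-group case: every degree prime to `s` can be multiplied by `s` -/
theorem pgroup_case {G : Type*} [Group G] [Finite G] (K : Subgroup G) [hK : K.Normal]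
    (s : ℕ) (hs : s.Prime) (hQ : IsPGroup s (G ⧸ K)) (hQG : ∃ x y : G ⧸ K, x * y ≠ y * x)
    (χ : Cfsg.IrrCharacter G) :
    (∃ χ₀ : Cfsg.IrrCharacter G, s ∣ Cfsg.charDegree (χ₀ : G → ℂ)) ∧
    (s ∣ Cfsg.charDegree (χ : G → ℂ) ∨ ∃ χ' : Cfsg.IrrCharacter G,
      s * Cfsg.charDegree (χ : G → ℂ) ∣ Cfsg.charDegree (χ' : G → ℂ)) := by
  classical
  have : Fintype G := Fintype.ofFinite G
  have : Fintype K := Fintype.ofFinite K
  haveI : Fact s.Prime := ⟨hs⟩
  obtain ⟨β, hβ⟩ := exists_nonlinear hQG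
  obtain ⟨j, hj⟩ := IsPGroup.iff_card.mp hQ
  have hdvd : Cfsg.charDegree (β : G ⧸ K → ℂ) ∣ s ^ j := by
    rw [← hj]
    exact IsIrrCharacter.charDegree_dvd_card β.2
  obtain ⟨e, _, he⟩ := (Nat.dvd_prime_pow hs).mp hdvd
  have he0 : e ≠ 0 := by
    rintro rfl
    exact hβ (by rw [he, pow_zero])
  have hsβ : s ∣ Cfsg.charDegree (β : G ⧸ K → ℂ) := by
    rw [he]; exact dvd_pow_self s he0
  obtain ⟨χβ, hχβ, hχβdeg⟩ := CD.exists_inflation K β
  refine ⟨⟨χβ, by rw [hχβdeg]; exact hsβ⟩, ?_⟩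
  by_cases hsχ : s ∣ Cfsg.charDegree (χ : G → ℂ)
  · exact Or.inl hsχ
  · right
    have hidx : K.index = s ^ j := by rw [Subgroup.index_eq_card, hj]
    have hirrK := restrict_irr_of_coprime K s j hs hidx (χ : G → ℂ) χ.2 hsχ
    have hβN : ∀ n : K, (χβ : G → ℂ) n = (χβ : G → ℂ) 1 := by
      intro n
      rw [hχβ]
      simp only
      have : (QuotientGroup.mk (n : G) : G ⧸ K) = QuotientGroup.mk (1 : G) := by
        rw [QuotientGroup.mk_one]
        exact (QuotientGroup.eq_one_iff _).mpr n.2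
      rw [this]
    have hmul := GallagherMul.isIrrCharacter_mul K (χ : G → ℂ) χ.2 hirrK (χβ : G → ℂ) χβ.2 hβN
    refine ⟨⟨_, hmul⟩, ?_⟩
    have hdeg : Cfsg.charDegree ((χβ : G → ℂ) * (χ : G → ℂ))
        = Cfsg.charDegree (χβ : G → ℂ) * Cfsg.charDegree (χ : G → ℂ) := by
      have h1 := IsCharacter.apply_one_eq_charDegree (IsIrrCharacter.isCharacter hmul)
      rw [Pi.mul_apply, IsCharacter.apply_one_eq_charDegree (IsIrrCharacter.isCharacter χβ.2),
        IsCharacter.apply_one_eq_charDegree (IsIrrCharacter.isCharacter χ.2)] at h1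
      exact_mod_cast h1.symm
    simp only
    rw [hdeg, hχβdeg]
    exact Nat.mul_dvd_mul_right hsβ _

section frob

variable {G : Type*} [Group G] [Fintype G] (K : Subgroup G) [hK : K.Normal]
  (M : Subgroup (G ⧸ K)) [hM : M.Normal]

/-- Isaacs 12.4, the induced character -/
theorem exists_degree_index_mul [Fintype ↥(preN K M)] (hMab : ∀ a ∈ M, ∀ b ∈ M, a * b = b * a)
    (hfpf : ∀ q : G ⧸ K, q ∉ M → ∀ x ∈ M, q * x = x * q → x = 1) (hMne : M ≠ ⊥)
    (ψ : ↥(preN K M) → ℂ) (hψ : Cfsg.IsIrrCharacter _ ψ)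
    [Fintype ↥(K.subgroupOf (preN K M))]
    (hψK : Cfsg.IsIrrCharacter (K.subgroupOf (preN K M)) (fun k => ψ k)) :
    ∃ χ' : Cfsg.IrrCharacter G,
      Cfsg.charDegree (χ' : G → ℂ) = M.index * Cfsg.charDegree ψ := by
  classical
  obtain ⟨f, hf⟩ := exists_stab_eq K M hMab hfpf hMne ψ hψ hψK
  have hθ := twistF_irr K M f hψ
  have hN : (preN K M).Normal := inferInstance
  have hc : Cfsg.classInner (fun n : ↥(preN K M) =>
      ((⟨twistF K M f ψ, hθ⟩ : Cfsg.IrrCharacter ↥(preN K M)) : ↥(preN K M) → ℂ)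
        ⟨n, le_refl (preN K M) n.2⟩)
      ((⟨twistF K M f ψ, hθ⟩ : Cfsg.IrrCharacter ↥(preN K M)) : ↥(preN K M) → ℂ) ≠ 0 := by
    have : (fun n : ↥(preN K M) => twistF K M f ψ ⟨n, le_refl (preN K M) n.2⟩)
        = twistF K M f ψ := rfl
    simp only
    rw [this, classInner_isIrrCharacter hθ hθ, if_pos rfl]
    exact one_ne_zero
  have hind := indFun_isIrrCharacter_of_stab (preN K M) hN (preN K M) le_rfl
    ⟨twistF K M f ψ, hθ⟩ hf ⟨twistF K M f ψ, hθ⟩ hc
  simp only at hind
  refine ⟨⟨_, hind⟩, ?_⟩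
  have h1 := IsCharacter.apply_one_eq_charDegree (IsIrrCharacter.isCharacter hind)
  rw [indFun_one, twistF_one, IsCharacter.apply_one_eq_charDegree (IsIrrCharacter.isCharacter hψ),
    index_preN] at h1
  exact_mod_cast h1.symm

/-- the Frobenius case -/
theorem frob_case (hMab : ∀ a ∈ M, ∀ b ∈ M, a * b = b * a)
    (s : ℕ) (hs : s.Prime) (hMp : IsPGroup s M) (hMne : M ≠ ⊥)
    (hfpf : ∀ q : G ⧸ K, q ∉ M → ∀ x ∈ M, q * x = x * q → x = 1)
    (χ : Cfsg.IrrCharacter G) :
    (∃ χ₀ : Cfsg.IrrCharacter G, Cfsg.charDegree (χ₀ : G → ℂ) = M.index) ∧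
    (s ∣ Cfsg.charDegree (χ : G → ℂ) ∨ ∃ χ' : Cfsg.IrrCharacter G,
      Cfsg.charDegree (χ : G → ℂ) ∣ Cfsg.charDegree (χ' : G → ℂ) ∧
      M.index ∣ Cfsg.charDegree (χ' : G → ℂ)) := by
  classical
  have : Fintype ↥(preN K M) := Fintype.ofFinite _
  have : Fintype ↥(K.subgroupOf (preN K M)) := Fintype.ofFinite _
  have hKn : (K.subgroupOf (preN K M)).Normal := hK.subgroupOf _
  have hNn : (preN K M).Normal := inferInstance
  haveI : Fact s.Prime := ⟨hs⟩
  obtain ⟨k, hk⟩ := IsPGroup.iff_card.mp hMp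
  constructor
  · have hirr1 : Cfsg.IsIrrCharacter ↥(preN K M) (fun _ => (1 : ℂ)) := isIrrCharacter_one
    have hirr1K : Cfsg.IsIrrCharacter ↥(K.subgroupOf (preN K M)) (fun _ => (1 : ℂ)) :=
      isIrrCharacter_one
    obtain ⟨χ₀, hχ₀⟩ := exists_degree_index_mul K M hMab hfpf hMne (fun _ => (1 : ℂ)) hirr1 hirr1K
    refine ⟨χ₀, ?_⟩
    rw [hχ₀]
    have : Cfsg.charDegree (fun _ : ↥(preN K M) => (1 : ℂ)) = 1 := by
      have h1 := IsCharacter.apply_one_eq_charDegree (IsIrrCharacter.isCharacter hirr1)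
      exact_mod_cast h1.symm
    rw [this, mul_one]
  · -- a constituent of the restriction to N
    have hres : Cfsg.IsCharacter ↥(preN K M) (fun n : ↥(preN K M) => (χ : G → ℂ) n) :=
      IsCharacter.restrict _ (IsIrrCharacter.isCharacter χ.2)
    have hres1 : (fun n : ↥(preN K M) => (χ : G → ℂ) n) 1 ≠ 0 :=
      IsIrrCharacter.apply_one_ne_zero χ.2
    obtain ⟨ψ, hψ⟩ := IsCharacter.exists_constituent hres hres1
    have h887 := Cfsg.Agent.S0887.result (preN K M) (χ : G → ℂ) χ.2
      (ψ : ↥(preN K M) → ℂ) ψ.2 hψ _ _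
      (IsCharacter.apply_one_eq_charDegree (IsIrrCharacter.isCharacter χ.2))
      (IsCharacter.apply_one_eq_charDegree (IsIrrCharacter.isCharacter ψ.2))
    obtain ⟨h1, h2⟩ := h887
    rw [index_preN] at h2
    by_cases hsψ : s ∣ Cfsg.charDegree (ψ : ↥(preN K M) → ℂ)
    · exact Or.inl (hsψ.trans h1)
    · right
      have hidxK : (K.subgroupOf (preN K M)).index = s ^ k := by rw [relIndex_preN, hk]
      have hirrK := restrict_irr_of_coprime (K.subgroupOf (preN K M)) s k hs hidxK
        (ψ : ↥(preN K M) → ℂ) ψ.2 hsψ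
      obtain ⟨χ', hχ'⟩ := exists_degree_index_mul K M hMab hfpf hMne
        (ψ : ↥(preN K M) → ℂ) ψ.2 hirrK
      refine ⟨χ', ?_, ?_⟩
      · rw [hχ']
        have := Nat.div_mul_cancel h1
        rw [← this]
        exact Nat.mul_dvd_mul_right h2 _
      · rw [hχ']
        exact Dvd.intro _ rfl

end frob

/-- graph lemma: if every vertex is reachable from one of two given vertices there are at most
two connected components -/
theorem card_components_le_two {V : Type*} (Γ : SimpleGraph V) (v₁ v₂ : V)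
    (h : ∀ v : V, Γ.Reachable v v₁ ∨ Γ.Reachable v v₂) :
    Nat.card Γ.ConnectedComponent ≤ 2 := by
  classical
  let f : Bool → Γ.ConnectedComponent := fun b =>
    if b then Γ.connectedComponentMk v₁ else Γ.connectedComponentMk v₂
  have hf : Function.Surjective f := by
    intro c
    induction c using SimpleGraph.ConnectedComponent.ind with
    | h v =>
      rcases h v with hv | hv
      · exact ⟨true, by simp only [f, if_true]; exact (SimpleGraph.ConnectedComponent.eq.mpr hv).symm⟩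
      · exact ⟨false, by
          simp only [f, Bool.false_eq_true, if_false]
          exact (SimpleGraph.ConnectedComponent.eq.mpr hv).symm⟩
  have := Nat.card_le_card_of_surjective f hf
  simpa using this

/-- adjacency or equality in the degree graph gives reachability in the induced graph -/
theorem reachable_of_mul_dvd {G : Type*} [Group G] (u v : ↥(Cfsg.degreePrimes G))
    (h : (u : ℕ) = v ∨ ∃ d ∈ Cfsg.charDegrees G, (u : ℕ) * v ∣ d) :
    ((Cfsg.degreeGraph G).induce (Cfsg.degreePrimes G)).Reachable u v := by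
  by_cases huv : (u : ℕ) = v
  · have : u = v := Subtype.ext huv
    rw [this]
  · rcases h with h | ⟨d, hd, hdvd⟩
    · exact absurd h huv
    · apply SimpleGraph.Adj.reachable
      show (Cfsg.degreeGraph G).Adj u v
      exact ⟨huv, u.2.1, v.2.1, d, hd, hdvd⟩

theorem mul_dvd_of_primes {u s d : ℕ} (hu : u.Prime) (hs : s.Prime) (hne : u ≠ s)
    (h1 : u ∣ d) (h2 : s ∣ d) : u * s ∣ d :=
  Nat.Coprime.mul_dvd_of_dvd_of_dvd ((Nat.coprime_primes hu hs).mpr hne) h1 h2

/-- **Manz--Staszewski--Willems**: the degree graph of a solvable group has at most two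
connected components -/
theorem components_le_two {G : Type*} [Group G] [Finite G] (hsol : Group.IsSolvable G) :
    Nat.card ((Cfsg.degreeGraph G).induce (Cfsg.degreePrimes G)).ConnectedComponent ≤ 2 := by
  classical
  have : Fintype G := Fintype.ofFinite G
  by_cases hG : ∃ a b : G, a * b ≠ b * a
  swap
  · -- abelian: no vertices
    push Not at hG
    have hempty : IsEmpty ↥(Cfsg.degreePrimes G) := by
      constructor
      rintro ⟨u, hu, d, ⟨χ, hχ⟩, hud⟩
      have h1 := (Cfsg.Agent.S0187.result (G := G)).1 hG χ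
      rw [IsCharacter.apply_one_eq_charDegree (IsIrrCharacter.isCharacter χ.2), hχ] at h1
      have hd1 : d = 1 := by exact_mod_cast h1
      rw [hd1] at hud
      exact hu.one_lt.ne' (Nat.dvd_one.mp hud)
    have hempty' : IsEmpty ((Cfsg.degreeGraph G).induce (Cfsg.degreePrimes G)).ConnectedComponent := by
      constructor
      intro c
      induction c using SimpleGraph.ConnectedComponent.ind with
      | h v => exact hempty.false v
    rw [Nat.card_of_isEmpty]
    exact Nat.zero_le _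
  obtain ⟨K, hKn, hmin, hQG, hne⟩ := exists_good_quotient hG
  have hQsol : Group.IsSolvable (G ⧸ K) := inferInstance
  rcases structure_thm hQsol hmin hne with ⟨s, hs, hQp⟩ | ⟨s, hs, hMp, hpidx, hfpf⟩
  · -- p-group case: connected
    obtain ⟨⟨χ₀, hχ₀⟩, _⟩ := pgroup_case K s hs hQp hQG ⟨_, isIrrCharacter_one⟩
    have hsmem : s ∈ Cfsg.degreePrimes G := ⟨hs, _, ⟨χ₀, rfl⟩, hχ₀⟩
    apply card_components_le_two _ ⟨s, hsmem⟩ ⟨s, hsmem⟩
    rintro ⟨u, hu, d, ⟨χ, hχ⟩, hud⟩
    left
    apply reachable_of_mul_dvd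
    by_cases hus : u = s
    · exact Or.inl hus
    · right
      rcases (pgroup_case K s hs hQp hQG χ).2 with h | ⟨χ', h⟩
      · exact ⟨d, ⟨χ, hχ⟩, mul_dvd_of_primes hu hs hus hud (hχ ▸ h)⟩
      · refine ⟨_, ⟨χ', rfl⟩, ?_⟩
        refine dvd_trans ?_ h
        rw [mul_comm]
        exact Nat.mul_dvd_mul_left s (hχ ▸ hud)
  · -- Frobenius case
    set M := commutator (G ⧸ K) with hM
    have hMn : M.Normal := inferInstance
    have hMab := commutator_comm hQsol hmin
    have hfpf' : ∀ q : G ⧸ K, q ∉ M → ∀ x ∈ M, q * x = x * q → x = 1 :=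
      fun q hq x hx hqx => hfpf q hq x hx hqx.symm
    obtain ⟨⟨χ₀, hχ₀⟩, _⟩ := frob_case K M hMab s hs hMp hne hfpf' ⟨_, isIrrCharacter_one⟩
    -- the index is not one
    have hidx1 : M.index ≠ 1 := by
      intro h1
      have htop : M = ⊤ := Subgroup.index_eq_one.mp h1
      obtain ⟨x, y, hxy⟩ := hQG
      have hx : x ∈ M := by rw [htop]; exact Subgroup.mem_top x
      have hy : y ∈ M := by rw [htop]; exact Subgroup.mem_top y
      exact hxy (hMab x hx y hy)
    obtain ⟨t, ht, htM⟩ := Nat.exists_prime_and_dvd hidx1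
    have htmem : t ∈ Cfsg.degreePrimes G := ⟨ht, _, ⟨χ₀, rfl⟩, hχ₀ ▸ htM⟩
    -- main dichotomy for every vertex
    have key : ∀ (v : ↥(Cfsg.degreePrimes G)) (u : ↥(Cfsg.degreePrimes G)),
        (s ∈ Cfsg.degreePrimes G → (v : ℕ) = s) →
        (s ∉ Cfsg.degreePrimes G → (v : ℕ) = t) →
        ((Cfsg.degreeGraph G).induce (Cfsg.degreePrimes G)).Reachable u v ∨
        ((Cfsg.degreeGraph G).induce (Cfsg.degreePrimes G)).Reachable u ⟨t, htmem⟩ := by
      rintro v ⟨u, hu, d, ⟨χ, hχ⟩, hud⟩ hv1 hv2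
      rcases (frob_case K M hMab s hs hMp hne hfpf' χ).2 with h | ⟨χ', h1, h2⟩
      · left
        have hsd : s ∣ d := hχ ▸ h
        have hsmem : s ∈ Cfsg.degreePrimes G := ⟨hs, d, ⟨χ, hχ⟩, hsd⟩
        apply reachable_of_mul_dvd
        rw [hv1 hsmem]
        by_cases hus : u = s
        · exact Or.inl hus
        · exact Or.inr ⟨d, ⟨χ, hχ⟩, mul_dvd_of_primes hu hs hus hud hsd⟩
      · right
        apply reachable_of_mul_dvd
        by_cases hut : u = t
        · exact Or.inl hut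
        · right
          refine ⟨_, ⟨χ', rfl⟩, ?_⟩
          exact mul_dvd_of_primes hu ht hut ((hχ ▸ hud).trans h1) (htM.trans h2)
    by_cases hsmem : s ∈ Cfsg.degreePrimes G
    · apply card_components_le_two _ ⟨s, hsmem⟩ ⟨t, htmem⟩
      intro u
      exact key ⟨s, hsmem⟩ u (fun _ => rfl) (fun h => absurd hsmem h)
    · apply card_components_le_two _ ⟨t, htmem⟩ ⟨t, htmem⟩
      intro u
      exact key ⟨t, htmem⟩ u (fun h => absurd h hsmem) (fun _ => rfl)

end Cfsg.Agent.Lib.Helper3.DG
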