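import Cfsg.Agent.Lib.Helper3.HHC10

/-!
# Quadratic elements of order three: the dichotomy

A linear automorphism `z` of order three in characteristic three with `(z - 1) ^ 2 = 0` which
normalizes but does not centralize a finite `q`-group `Q₀` of linear automorphisms (`q ≠ 3`)
forces `q = 2` and `Q₀` nonabelian.
-/

namespace Cfsg.Agent.Lib.Helper3.DL1

open Module Cfsg Cfsg.Agent.Lib.Helper3.HHC9

/-- The coercion from linear automorphisms to endomorphisms, as a monoid homomorphism. -/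
def toEnd (F W : Type*) [Field F] [AddCommGroup W] [Module F W] :
    (W ≃ₗ[F] W) →* Module.End F W :=
  LinearEquiv.automorphismGroup.toLinearMapMonoidHom

theorem toEnd_apply {F W : Type*} [Field F] [AddCommGroup W] [Module F W] (g : W ≃ₗ[F] W)
    (w : W) : toEnd F W g w = g w := rfl

theorem toEnd_injective (F W : Type*) [Field F] [AddCommGroup W] [Module F W] :
    Function.Injective (toEnd F W) := by
  intro a b hab
  exact LinearEquiv.toLinearMap_injective hab

theorem quad_dichotomy {F : Type*} [Field F] [CharP F 3] {W : Type*} [AddCommGroup W]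
    [Module F W] [FiniteDimensional F W] (q : ℕ) [hq : Fact q.Prime] (hq3 : 3 ≠ q)
    (Q₀ : Subgroup (W ≃ₗ[F] W)) [Finite Q₀] (hQ : IsPGroup q Q₀) (z : W ≃ₗ[F] W)
    (hz : ∀ h, h ∈ Q₀ ↔ z * h * z⁻¹ ∈ Q₀) (hz3 : z ^ 3 = 1)
    (hquad : (toEnd F W z - 1) ^ 2 = 0)
    (hnc : ¬ Q₀ ≤ Subgroup.centralizer {z}) :
    q = 2 ∧ ¬ ∀ a b : Q₀, a * b = b * a := by
  haveI : CharP (AlgebraicClosure F) 3 := AlgebraicClosure.instCharP F
  obtain ⟨σ, hσ⟩ : ∃ σ : Representation (AlgebraicClosure F) Q₀
      (Fin (finrank F W) → AlgebraicClosure F),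
      σ = (bcHom F (AlgebraicClosure F) W).toMonoidHom.comp ((toEnd F W).comp Q₀.subtype) :=
    ⟨_, rfl⟩
  have hσa : ∀ g : Q₀, σ g = bcHom F (AlgebraicClosure F) W (toEnd F W (g : W ≃ₗ[F] W)) := by
    intro g; rw [hσ]; rfl
  have hσinj : Function.Injective σ := by
    intro a b hab
    rw [hσa, hσa] at hab
    exact Subtype.ext (toEnd_injective F W (bcHom_injective F (AlgebraicClosure F) W hab))
  obtain ⟨φ, hφ⟩ : ∃ φ, φ = conjAutOfNormalizes Q₀ z hz := ⟨_, rfl⟩
  have key := HHC8.main 3 q hq3 0 (Nat.card Q₀ + finrank (AlgebraicClosure F)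
    (Fin (finrank F W) → AlgebraicClosure F)) Q₀ (Fin (finrank F W) → AlgebraicClosure F) σ
    (bcHom F (AlgebraicClosure F) W (toEnd F W z))
    (bcHom F (AlgebraicClosure F) W (toEnd F W z⁻¹)) φ rfl
  have hconcl : HHC1.HHConcl 3 q (0 + 1) (bcHom F (AlgebraicClosure F) W (toEnd F W z))
      (¬ ∀ a b : Q₀, a * b = b * a) := by
    apply key hQ
    · rw [← map_mul, ← map_mul, mul_inv_cancel, map_one, map_one]
    · rw [← map_mul, ← map_mul, inv_mul_cancel, map_one, map_one]
    · intro g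
      rw [hσa, hσa, hφ, conjAutOfNormalizes_coe, ← map_mul, ← map_mul, ← map_mul, ← map_mul]
      congr 2
      group
    · rw [← map_pow, ← map_pow]
      have : z ^ 3 ^ (0 + 1) = 1 := by rw [zero_add, pow_one]; exact hz3
      rw [this, map_one, map_one]
    · obtain ⟨g, hgQ, hgc⟩ := SetLike.not_le_iff_exists.mp hnc
      refine ⟨⟨g, hgQ⟩, ?_⟩
      intro h
      have h2 := hσinj h
      apply hgc
      rw [Subgroup.mem_centralizer_iff]
      intro k hk
      rw [Set.mem_singleton_iff] at hk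
      rw [hk]
      have h3 := congrArg Subtype.val h2
      rw [hφ, conjAutOfNormalizes_pow_coe] at h3
      simp only [pow_zero, pow_one] at h3
      have h4 : z * g * z⁻¹ * z = g * z := by rw [h3]
      rw [← h4]; group
  have hX2 : (bcHom F (AlgebraicClosure F) W (toEnd F W z) - 1) ^ 2 = 0 := by
    rw [← map_one (bcHom F (AlgebraicClosure F) W), ← map_sub, ← map_pow, hquad, map_zero]
  rcases hconcl with h | ⟨n₀, m, h1, h2, h3, h4, hnonab, -⟩
  · exfalso
    apply h
    have : 3 ^ (0 + 1) - 1 = 2 := by norm_num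
    rw [this]; exact hX2
  · have hn₀ : n₀ = 1 := by omega
    rw [hn₀] at h4
    have h5 : q ^ m = 2 := by rw [← h4]; norm_num
    have h6 : q ∣ 2 := by
      rw [← h5]; exact dvd_pow_self q (by omega)
    have h7 : q = 2 := (Nat.prime_dvd_prime_iff_eq hq.out Nat.prime_two).mp h6
    exact ⟨h7, hnonab⟩

end Cfsg.Agent.Lib.Helper3.DL1
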