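import Cfsg.Agent.Lib.Helper3.DL9
import Cfsg.Agent.Lib.Helper3.UpperPSeries
import Cfsg.Agent.Lib.Helper1.FrattiniP
import Cfsg.Agent.Lib.Helper1.StableQuad4
import Cfsg.Agent.Lib.Helper1.PSolvSub
import Cfsg.Agent.Lib.Helper1.PLengthOne
import Cfsg.Agent.Lib.Helper1.UpperPSeriesShift
import Cfsg.Agent.Lib.Helper1.PCore
import Cfsg.Agent.Lib.Helper1.HH4
import Cfsg.Agent.S4218

/-!
# Hall–Higman: the `p`-length is at most the derived length of a Sylow `p`-subgroup (`p` odd)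
-/

namespace Cfsg.Agent.Lib.Helper3.DL10

open Cfsg Cfsg.Agent.Lib.Helper3.DL2 Cfsg.Agent.Lib.Helper3.DL9
open scoped commutatorElement

universe u

/-- The derived series of a subgroup, as subgroups of the ambient group. -/
def dser {G : Type*} [Group G] (R : Subgroup G) : ℕ → Subgroup G
  | 0 => R
  | n + 1 => ⁅dser R n, dser R n⁆

theorem dser_zero {G : Type*} [Group G] (R : Subgroup G) : dser R 0 = R := rfl

theorem dser_succ {G : Type*} [Group G] (R : Subgroup G) (n : ℕ) :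
    dser R (n + 1) = ⁅dser R n, dser R n⁆ := rfl

theorem dser_map {G G' : Type*} [Group G] [Group G'] (f : G →* G') (R : Subgroup G) (n : ℕ) :
    (dser R n).map f = dser (R.map f) n := by
  induction n with
  | zero => rfl
  | succ n ih => rw [dser_succ, dser_succ, Subgroup.map_commutator, ih]

theorem dser_eq_map_derivedSeries {G : Type*} [Group G] (R : Subgroup G) (n : ℕ) :
    (derivedSeries ↥R n).map R.subtype = dser R n := by
  induction n with
  | zero =>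
    rw [derivedSeries_zero, dser_zero, ← MonoidHom.range_eq_map, Subgroup.range_subtype]
  | succ n ih => rw [derivedSeries_succ, dser_succ, Subgroup.map_commutator, ih]

theorem commutator_self_le {G : Type*} [Group G] (R : Subgroup G) : ⁅R, R⁆ ≤ R := by
  rw [Subgroup.commutator_le]
  intro a ha b hb
  rw [commutatorElement_def]
  exact R.mul_mem (R.mul_mem (R.mul_mem ha hb) (R.inv_mem ha)) (R.inv_mem hb)

theorem dser_le {G : Type*} [Group G] (R : Subgroup G) (n : ℕ) : dser R n ≤ R := by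
  induction n with
  | zero => exact le_rfl
  | succ n ih =>
    rw [dser_succ]
    exact (Subgroup.commutator_mono ih ih).trans (commutator_self_le R)

theorem dser_conj {G : Type*} [Group G] (R : Subgroup G) (v : G)
    (hv : ∀ r ∈ R, v * r * v⁻¹ ∈ R) (n : ℕ) : ∀ t ∈ dser R n, v * t * v⁻¹ ∈ dser R n := by
  induction n with
  | zero => exact hv
  | succ n ih =>
    rw [dser_succ]
    exact conj_mem_commutator (dser R n) v ih

/-- The key step, when `O_{p'}(G) = 1`. -/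
theorem dser_le_pCore {G : Type*} [Group G] [Finite G] (p : ℕ) [hp : Fact p.Prime]
    (hp2 : p ≠ 2) (hsol : IsPSolvable p G) (hbot : pPrimeCore p G = ⊥)
    (R : Subgroup G) (hRp : IsPGroup p R) (hPR : pCore p G ≤ R) (d : ℕ)
    (hd : dser R (d + 1) = ⊥) : dser R d ≤ pCore p G := by
  have hc0 : Subgroup.centralizer (pCore p G : Set G) ≤ pCore p G :=
    Cfsg.Agent.Lib.Helper1.centralizer_pCore_le_of_isPSolvable hbot
      (Cfsg.Agent.Lib.Helper1.PSolvSub.isPSolvable_subgroup hsol _)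
  cases d with
  | zero =>
    rw [dser_zero]
    rw [zero_add, dser_succ, dser_zero] at hd
    intro r hr
    apply hc0
    rw [Subgroup.mem_centralizer_iff]
    intro a ha
    have h1 : ⁅a, r⁆ ∈ ⁅R, R⁆ := Subgroup.commutator_mem_commutator (hPR ha) hr
    rw [hd, Subgroup.mem_bot] at h1
    exact commutatorElement_eq_one_iff_mul_comm.mp h1
  | succ d' =>
  obtain ⟨Bs, hBs⟩ : ∃ Bs, Bs = dser R d' := ⟨_, rfl⟩
  have hA : dser R (d' + 1) = ⁅Bs, Bs⁆ := by rw [dser_succ, hBs]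
  have hAA : ⁅⁅Bs, Bs⁆, ⁅Bs, Bs⁆⁆ = ⊥ := by rw [← hA, ← dser_succ]; exact hd
  rw [hA]
  have hAab : ∀ a ∈ ⁅Bs, Bs⁆, ∀ a' ∈ ⁅Bs, Bs⁆, a * a' = a' * a := by
    intro a ha a' ha'
    have h1 : ⁅a, a'⁆ ∈ ⁅⁅Bs, Bs⁆, ⁅Bs, Bs⁆⁆ := Subgroup.commutator_mem_commutator ha ha'
    rw [hAA, Subgroup.mem_bot] at h1
    exact commutatorElement_eq_one_iff_mul_comm.mp h1
  have hBsp : IsPGroup p Bs := by rw [hBs]; exact hRp.to_le (dser_le R d')
  obtain ⟨P₁, hP₁⟩ : ∃ P₁, P₁ = pCore p G := ⟨_, rfl⟩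
  rw [← hP₁] at hc0 hPR ⊢
  haveI hPn : P₁.Normal := by rw [hP₁]; exact (Cfsg.Agent.Lib.Helper2.pCore_mem p).1
  have hPp : IsPGroup p P₁ := by rw [hP₁]; exact Cfsg.Agent.Lib.Helper2.pCore_isPGroup p
  obtain ⟨Φ, hΦ⟩ : ∃ Φ, Φ = (frattini ↥P₁).map P₁.subtype := ⟨_, rfl⟩
  haveI hΦn : Φ.Normal := by rw [hΦ]; infer_instance
  have hΦP : Φ ≤ P₁ := by rw [hΦ]; exact Subgroup.map_subtype_le _
  have hcommΦ : ∀ a ∈ P₁, ∀ b ∈ P₁, a * b * a⁻¹ * b⁻¹ ∈ Φ := by
    intro a ha b hb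
    rw [hΦ]
    have h2 : ⁅(⟨a, ha⟩ : P₁), ⟨b, hb⟩⁆ ∈ commutator ↥P₁ :=
      Subgroup.commutator_mem_commutator (Subgroup.mem_top _) (Subgroup.mem_top _)
    have h3 := Cfsg.Agent.Lib.Helper1.commutator_le_frattini_of_isPGroup p hPp h2
    exact ⟨_, h3, by simp [commutatorElement_def]⟩
  have hpowΦ : ∀ a ∈ P₁, a ^ p ∈ Φ := by
    intro a ha
    rw [hΦ]
    exact ⟨_, Cfsg.Agent.Lib.Helper1.pow_prime_mem_frattini_of_isPGroup p hPp ⟨a, ha⟩, by simp⟩
  obtain ⟨π, hπ⟩ : ∃ π : G →* G ⧸ Φ, π = QuotientGroup.mk' Φ := ⟨_, rfl⟩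
  have hπs : Function.Surjective π := by rw [hπ]; exact QuotientGroup.mk'_surjective Φ
  have hπ1 : ∀ g, π g = 1 ↔ g ∈ Φ := by
    intro g; rw [hπ]; exact QuotientGroup.eq_one_iff g
  have hπker : π.ker = Φ := by rw [hπ]; exact QuotientGroup.ker_mk' Φ
  have hker : Cfsg.sectionKernel P₁ Φ ≤ P₁ := by
    haveI : (P₁.map (QuotientGroup.mk' Φ)).Normal :=
      Subgroup.Normal.map inferInstance _ (QuotientGroup.mk'_surjective Φ)
    haveI hsn : (Cfsg.sectionKernel P₁ Φ).Normal := by unfold Cfsg.sectionKernel; infer_instance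
    have h1 : IsPGroup p (Cfsg.sectionKernel P₁ Φ) := by
      subst hΦ
      exact Cfsg.Agent.Lib.Helper1.StableQuad.isPGroup_sectionKernel_frattini P₁ hPp hc0
    exact (Cfsg.Agent.Lib.Helper2.le_pCore h1).trans_eq hP₁.symm
  obtain ⟨V, hV⟩ : ∃ V, V = P₁.map π := ⟨_, rfl⟩
  haveI hVn : V.Normal := by rw [hV]; exact Subgroup.Normal.map hPn π hπs
  have hVc : ∀ a ∈ V, ∀ b ∈ V, a * b = b * a := by
    rw [hV]
    rintro _ ⟨a, ha, rfl⟩ _ ⟨b, hb, rfl⟩
    rw [← map_mul, ← map_mul]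
    have h1 : π ((a * b)⁻¹ * (b * a)) = 1 := by
      rw [hπ1]
      have := hcommΦ b⁻¹ (P₁.inv_mem hb) a⁻¹ (P₁.inv_mem ha)
      have e : (a * b)⁻¹ * (b * a) = b⁻¹ * a⁻¹ * b⁻¹⁻¹ * a⁻¹⁻¹ := by group
      rw [e]; exact this
    rw [map_mul, map_inv, inv_mul_eq_one] at h1
    exact h1
  have hVp : ∀ a ∈ V, a ^ p = 1 := by
    rw [hV]
    rintro _ ⟨a, ha, rfl⟩
    rw [← map_pow, hπ1]
    exact hpowΦ a ha
  have hcent : Subgroup.centralizer (V : Set (G ⧸ Φ)) ≤ V := by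
    intro c hc'
    obtain ⟨g, rfl⟩ := hπs c
    have hg : g ∈ Cfsg.sectionKernel P₁ Φ := by
      unfold Cfsg.sectionKernel
      rw [Subgroup.mem_comap]
      rw [hV, hπ] at hc'
      exact hc'
    rw [hV]
    exact Subgroup.mem_map_of_mem _ (hker hg)
  have hOp : ∀ N : Subgroup (G ⧸ Φ), N.Normal → IsPGroup p N → N ≤ V := by
    intro N hN hNp
    haveI hMn : (N.comap π).Normal := hN.comap π
    have hMp : IsPGroup p (N.comap π) := by
      rintro ⟨m, hm⟩
      obtain ⟨k, hk⟩ := hNp ⟨π m, hm⟩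
      have h1 : π (m ^ p ^ k) = 1 := by
        have := congrArg Subtype.val hk
        rw [map_pow]
        simpa using this
      have h2 : m ^ p ^ k ∈ P₁ := hΦP ((hπ1 _).mp h1)
      obtain ⟨j, hj⟩ := hPp ⟨m ^ p ^ k, h2⟩
      have h3 : (m ^ p ^ k) ^ p ^ j = 1 := by
        have := congrArg Subtype.val hj
        simpa using this
      refine ⟨k + j, Subtype.ext ?_⟩
      show m ^ p ^ (k + j) = 1
      rw [pow_add, pow_mul, h3]
    have hMle : N.comap π ≤ P₁ :=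
      (Cfsg.Agent.Lib.Helper2.le_pCore hMp).trans_eq hP₁.symm
    intro n hn
    obtain ⟨m, rfl⟩ := hπs n
    rw [hV]
    exact Subgroup.mem_map_of_mem _ (hMle hn)
  have hsolL : IsPSolvable p (G ⧸ Φ) := Cfsg.Agent.S4218.isPSolvable_quotient p Φ hsol
  -- the images
  have hVB : V ≤ Subgroup.normalizer ((Bs.map π : Subgroup (G ⧸ Φ)) : Set (G ⧸ Φ)) := by
    apply normalizer_of_conj_le
    rw [hV]
    rintro _ ⟨v, hv, rfl⟩ _ ⟨b, hb, rfl⟩
    refine ⟨v * b * v⁻¹, ?_, by rw [map_mul, map_mul, map_inv]⟩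
    rw [hBs] at hb ⊢
    have hvR : v ∈ R := hPR hv
    exact dser_conj R v (fun r hr => R.mul_mem (R.mul_mem hvR hr) (R.inv_mem hvR)) d' b hb
  have hAab' : ∀ a ∈ ⁅Bs.map π, Bs.map π⁆, ∀ a' ∈ ⁅Bs.map π, Bs.map π⁆, a * a' = a' * a := by
    rw [← Subgroup.map_commutator]
    rintro _ ⟨a, ha, rfl⟩ _ ⟨a', ha', rfl⟩
    rw [← map_mul, ← map_mul, hAab a ha a' ha']
  have key := derived_le_of_selfCentralizing p hp2 V hVc hVp hcent hOp hsolL (Bs.map π)
    (hBsp.map π) hVB hAab'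
  rw [← Subgroup.map_commutator] at key
  intro a ha
  have h1 : π a ∈ V := key ⟨a, ha, rfl⟩
  rw [hV] at h1
  obtain ⟨q, hq, hqa⟩ := h1
  have h2 : π (q⁻¹ * a) = 1 := by rw [map_mul, map_inv, hqa, inv_mul_cancel]
  have h3 : q⁻¹ * a ∈ P₁ := hΦP ((hπ1 _).mp h2)
  have : a = q * (q⁻¹ * a) := by group
  rw [this]
  exact P₁.mul_mem hq h3

/-- The key step in general. -/
theorem dser_le_pPrimePCore {G : Type*} [Group G] [Finite G] (p : ℕ) [hp : Fact p.Prime]
    (hp2 : p ≠ 2) (hsol : IsPSolvable p G) (P : Sylow p G) (d : ℕ)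
    (hd : dser (P : Subgroup G) (d + 1) = ⊥) : dser (P : Subgroup G) d ≤ pPrimePCore p G := by
  haveI := Cfsg.Agent.Lib.Helper1.pPrimeCore_normal (G := G) p
  have hbot : pPrimeCore p (G ⧸ pPrimeCore p G) = ⊥ :=
    Cfsg.Agent.Lib.Helper1.pPrimeCore_quotient_eq_bot (G := G) p
  have hsolQ : IsPSolvable p (G ⧸ pPrimeCore p G) :=
    Cfsg.Agent.S4218.isPSolvable_quotient p (pPrimeCore p G) hsol
  have hπs := QuotientGroup.mk'_surjective (pPrimeCore p G)
  obtain ⟨R, hR⟩ : ∃ R, R = (P : Subgroup G).map (QuotientGroup.mk' (pPrimeCore p G)) :=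
    ⟨_, rfl⟩
  have hRp : IsPGroup p R := by rw [hR]; exact P.isPGroup'.map _
  have hPR : pCore p (G ⧸ pPrimeCore p G) ≤ R := by
    have := Cfsg.Agent.Lib.Helper1.pCore_le_sylow p (P.mapSurjective hπs)
    rw [Sylow.coe_mapSurjective] at this
    rw [hR]; exact this
  have hdR : dser R (d + 1) = ⊥ := by
    rw [hR, ← dser_map, hd, Subgroup.map_bot]
  have key := dser_le_pCore p hp2 hsolQ hbot R hRp hPR d hdR
  rw [hR, ← dser_map, Subgroup.map_le_iff_le_comap] at key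
  exact key

theorem pLength_le_of_dser (p : ℕ) [hp : Fact p.Prime] (hp2 : p ≠ 2) :
    ∀ (d : ℕ) (G : Type u) [Group G] [Finite G], IsPSolvable p G →
      (∃ P : Sylow p G, dser (P : Subgroup G) d = ⊥) →
      (upperPSeries p G (2 * d + 1)).1 = ⊤ := by
  intro d
  induction d with
  | zero =>
    intro G _ _ hsol hex
    obtain ⟨P, hP⟩ := hex
    rw [dser_zero] at hP
    have h2 : ¬ p ∣ Nat.card G := by
      intro hdvd
      have h1 := P.dvd_card_of_dvd_card hdvd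
      rw [hP, Subgroup.card_bot] at h1
      exact hp.out.one_lt.ne' (Nat.dvd_one.mp h1)
    have h4 : (Nat.card (⊤ : Subgroup G)).Coprime p := by
      rw [Subgroup.card_top]
      exact ((Nat.Prime.coprime_iff_not_dvd hp.out).mpr h2).symm
    show (upperPSeries p G 1).1 = ⊤
    rw [Cfsg.Agent.Lib.Helper3.upperPSeries_one, eq_top_iff]
    exact Cfsg.Agent.Lib.Helper1.le_pPrimeCore Subgroup.normal_top h4
  | succ d ih =>
    intro G _ _ hsol hex
    obtain ⟨P, hP⟩ := hex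
    have hle := dser_le_pPrimePCore p hp2 hsol P d hP
    have hsurj := QuotientGroup.mk'_surjective (upperPSeries p G 2).1
    have hsolq := Cfsg.Agent.S4218.isPSolvable_quotient p (upperPSeries p G 2).1 hsol
    have hexq : ∃ P' : Sylow p (G ⧸ (upperPSeries p G 2).1), dser (P' : Subgroup (G ⧸ (upperPSeries p G 2).1)) d = ⊥ := by
      refine ⟨P.mapSurjective hsurj, ?_⟩
      rw [Sylow.coe_mapSurjective, ← dser_map, Subgroup.map_eq_bot_iff, QuotientGroup.ker_mk',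
        Cfsg.Agent.Lib.Helper3.upperPSeries_two]
      exact hle
    have h2 := ih (G ⧸ (upperPSeries p G 2).1) hsolq hexq
    have e : 2 * (d + 1) + 1 = (2 * d + 1) + 2 := by ring
    rw [e, Cfsg.Agent.Lib.Helper1.upperPSeries_shift, h2, Subgroup.comap_top]

end Cfsg.Agent.Lib.Helper3.DL10
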