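import Mathlib
import Cfsg.Agent.Lib.Helper3.DL1

/-!
# The configuration for the `p = 3` case, and its restriction to an invariant subspace
-/

namespace Cfsg.Agent.Lib.Helper3.DL3

open Module
open scoped commutatorElement

variable {F : Type*} [Field F] {W : Type*} [AddCommGroup W] [Module F W]

/-- The configuration: a finite `2`-group `Q` of linear automorphisms normalized by a finite
`3`-group `B`, with a central element `z` of `B` lying in the derived subgroup of `B`, such that
`z` is quadratic and `(z - 1)(b - 1)² = 0` for all `b ∈ B`. -/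
structure Cfg (Q B : Subgroup (W ≃ₗ[F] W)) (z : W ≃ₗ[F] W) : Prop where
  finQ : Finite Q
  finB : Finite B
  q2 : IsPGroup 2 Q
  b3 : IsPGroup 3 B
  norm : B ≤ Subgroup.normalizer (Q : Set (W ≃ₗ[F] W))
  zB : z ∈ B
  zcent : ∀ b ∈ B, b * z = z * b
  zcomm : z ∈ ⁅B, B⁆
  z3 : z ^ 3 = 1
  quad : ∀ w : W, z (z w) + z w + w = 0
  h2 : ∀ b ∈ B, ∀ w : W, z (b (b w) + b w + w) = b (b w) + b w + w

/-- The stabilizer of a subspace. -/
def stab (U : Submodule F W) : Subgroup (W ≃ₗ[F] W) where
  carrier := {g | ∀ w, g w ∈ U ↔ w ∈ U}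
  one_mem' := fun _ => Iff.rfl
  mul_mem' := by
    intro a b ha hb w
    show a (b w) ∈ U ↔ w ∈ U
    rw [ha, hb]
  inv_mem' := by
    intro a ha w
    rw [← ha (a⁻¹ w)]
    simp

theorem mem_stab (U : Submodule F W) (g : W ≃ₗ[F] W) : g ∈ stab U ↔ ∀ w, g w ∈ U ↔ w ∈ U :=
  Iff.rfl

theorem le_stab_of_invariant (U : Submodule F W) (S : Subgroup (W ≃ₗ[F] W))
    (h : ∀ g ∈ S, ∀ w ∈ U, g w ∈ U) : S ≤ stab U := by
  intro g hg w
  constructor
  · intro hw
    have := h g⁻¹ (S.inv_mem hg) _ hw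
    simpa using this
  · exact h g hg w

/-- Restriction of a stabilizing automorphism to the subspace. -/
def resHom (U : Submodule F W) : stab U →* (U ≃ₗ[F] U) where
  toFun g :=
    { toFun := fun w => ⟨g.1 w, (g.2 w).mpr w.2⟩
      invFun := fun w => ⟨g.1⁻¹ w, (((stab U).inv_mem g.2) w).mpr w.2⟩
      map_add' := by
        intro a b
        apply Subtype.ext
        simp
      map_smul' := by
        intro c a
        apply Subtype.ext
        simp
      left_inv := by
        intro a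
        apply Subtype.ext
        simp
      right_inv := by
        intro a
        apply Subtype.ext
        simp }
  map_one' := by
    apply LinearEquiv.ext
    intro w
    apply Subtype.ext
    rfl
  map_mul' := by
    intro a b
    apply LinearEquiv.ext
    intro w
    apply Subtype.ext
    rfl

theorem resHom_apply (U : Submodule F W) (g : stab U) (w : U) :
    ((resHom U g w : U) : W) = g.1 w := rfl

/-- Restriction, on a subgroup of the stabilizer. -/
def resOn (U : Submodule F W) (S : Subgroup (W ≃ₗ[F] W)) (hS : S ≤ stab U) :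
    S →* (U ≃ₗ[F] U) :=
  (resHom U).comp (Subgroup.inclusion hS)

theorem resOn_apply (U : Submodule F W) (S : Subgroup (W ≃ₗ[F] W)) (hS : S ≤ stab U) (s : S)
    (w : U) : ((resOn U S hS s w : U) : W) = (s : W ≃ₗ[F] W) w := rfl

theorem resOn_eq (U : Submodule F W) (S T : Subgroup (W ≃ₗ[F] W)) (hS : S ≤ stab U)
    (hT : T ≤ stab U) (s : S) (t : T) (h : (s : W ≃ₗ[F] W) = t) :
    resOn U S hS s = resOn U T hT t := by
  apply LinearEquiv.ext
  intro w
  apply Subtype.ext
  rw [resOn_apply, resOn_apply, h]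

theorem Cfg.restrict {Q B : Subgroup (W ≃ₗ[F] W)} {z : W ≃ₗ[F] W} (h : Cfg Q B z)
    (U : Submodule F W) (hQ : Q ≤ stab U) (hB : B ≤ stab U) :
    Cfg (resOn U Q hQ).range (resOn U B hB).range (resOn U B hB ⟨z, h.zB⟩) := by
  haveI := h.finQ
  haveI := h.finB
  refine
    { finQ := ?_
      finB := ?_
      q2 := ?_
      b3 := ?_
      norm := ?_
      zB := ⟨_, rfl⟩
      zcent := ?_
      zcomm := ?_
      z3 := ?_
      quad := ?_
      h2 := ?_ }
  · exact Finite.of_surjective _ (MonoidHom.rangeRestrict_surjective (resOn U Q hQ))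
  · exact Finite.of_surjective _ (MonoidHom.rangeRestrict_surjective (resOn U B hB))
  · exact h.q2.of_surjective _ (MonoidHom.rangeRestrict_surjective (resOn U Q hQ))
  · exact h.b3.of_surjective _ (MonoidHom.rangeRestrict_surjective (resOn U B hB))
  · rintro _ ⟨b, rfl⟩
    rw [Subgroup.mem_normalizer_iff]
    have key : ∀ (b : B) (x : U ≃ₗ[F] U), x ∈ (resOn U Q hQ).range →
        resOn U B hB b * x * (resOn U B hB b)⁻¹ ∈ (resOn U Q hQ).range := by
      rintro b _ ⟨g, rfl⟩
      have hbg : (b : W ≃ₗ[F] W) * g * (b : W ≃ₗ[F] W)⁻¹ ∈ Q :=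
        (Subgroup.mem_normalizer_iff.mp (h.norm b.2) g).mp g.2
      refine ⟨⟨_, hbg⟩, ?_⟩
      have e1 : resOn U Q hQ g = resOn U (stab U) le_rfl ⟨g, hQ g.2⟩ :=
        resOn_eq U Q (stab U) hQ le_rfl g ⟨g, hQ g.2⟩ rfl
      have e2 : resOn U B hB b = resOn U (stab U) le_rfl ⟨b, hB b.2⟩ :=
        resOn_eq U B (stab U) hB le_rfl b ⟨b, hB b.2⟩ rfl
      have e3 : resOn U Q hQ ⟨_, hbg⟩ = resOn U (stab U) le_rfl ⟨_, hQ hbg⟩ :=
        resOn_eq U Q (stab U) hQ le_rfl ⟨_, hbg⟩ ⟨_, hQ hbg⟩ rfl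
      rw [e1, e2, e3, ← map_inv, ← map_mul, ← map_mul]
      rfl
    intro x
    constructor
    · exact key b x
    · intro hx
      have := key b⁻¹ _ hx
      rw [map_inv] at this
      have e : (resOn U B hB b)⁻¹ * (resOn U B hB b * x * (resOn U B hB b)⁻¹) *
          (resOn U B hB b)⁻¹⁻¹ = x := by group
      rwa [e] at this
  · rintro _ ⟨b, rfl⟩
    rw [← map_mul, ← map_mul]
    congr 1
    exact Subtype.ext (h.zcent b b.2)
  · have h1 : (⟨z, h.zB⟩ : B) ∈ commutator ↥B := by
      have h2 := h.zcomm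
      rw [← Subgroup.map_subtype_commutator] at h2
      obtain ⟨y, hy, hyz⟩ := h2
      have : y = ⟨z, h.zB⟩ := Subtype.ext hyz
      rw [← this]; exact hy
    rw [MonoidHom.range_eq_map, ← Subgroup.map_commutator, ← commutator_def]
    exact Subgroup.mem_map_of_mem _ h1
  · rw [← map_pow]
    have : (⟨z, h.zB⟩ : B) ^ 3 = 1 := Subtype.ext (by simpa using h.z3)
    rw [this, map_one]
  · intro w
    apply Subtype.ext
    have := h.quad (w : W)
    simpa [resOn_apply] using this
  · rintro _ ⟨b, rfl⟩ w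
    apply Subtype.ext
    have := h.h2 b b.2 (w : W)
    simpa [resOn_apply] using this

theorem card_range_resOn_le (U : Submodule F W) (Q : Subgroup (W ≃ₗ[F] W)) [Finite Q]
    (hQ : Q ≤ stab U) : Nat.card (resOn U Q hQ).range ≤ Nat.card Q :=
  Nat.card_le_card_of_surjective _ (MonoidHom.rangeRestrict_surjective (resOn U Q hQ))

/-- If the restricted configuration is centralized then `z` commutes with `Q` on `U`. -/
theorem commute_on_of_restrict {Q B : Subgroup (W ≃ₗ[F] W)} {z : W ≃ₗ[F] W} (hzB : z ∈ B)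
    (U : Submodule F W) (hQ : Q ≤ stab U) (hB : B ≤ stab U)
    (hc : (resOn U Q hQ).range ≤ Subgroup.centralizer {resOn U B hB ⟨z, hzB⟩}) :
    ∀ g ∈ Q, ∀ w ∈ U, z (g w) = g (z w) := by
  intro g hg w hw
  have h1 : resOn U Q hQ ⟨g, hg⟩ ∈ Subgroup.centralizer {resOn U B hB ⟨z, hzB⟩} :=
    hc ⟨_, rfl⟩
  rw [Subgroup.mem_centralizer_singleton_iff] at h1
  have h2 := congrArg (fun f : U ≃ₗ[F] U => ((f ⟨w, hw⟩ : U) : W)) h1
  simp only [LinearEquiv.mul_apply, resOn_apply] at h2
  exact h2.symm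

end Cfsg.Agent.Lib.Helper3.DL3
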