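import Mathlib

/-!
# Commutator calculus in a group of class two, and the "four cosets" lemma
-/

namespace Cfsg.Agent.Lib.Helper3.DL4

open scoped commutatorElement

variable {Qt : Type*} [Group Qt]

theorem comm_mul_left_of_central (a b c : Qt) (h : ∀ g, g * ⁅b, c⁆ = ⁅b, c⁆ * g) :
    ⁅a * b, c⁆ = ⁅a, c⁆ * ⁅b, c⁆ := by
  have e : ⁅a * b, c⁆ = a * ⁅b, c⁆ * a⁻¹ * ⁅a, c⁆ := by
    simp only [commutatorElement_def]; group
  rw [e, h a, mul_inv_cancel_right]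
  exact (h ⁅a, c⁆).symm

theorem comm_mul_right_of_central (a b c : Qt) (h : ∀ g, g * ⁅a, c⁆ = ⁅a, c⁆ * g) :
    ⁅a, b * c⁆ = ⁅a, b⁆ * ⁅a, c⁆ := by
  have e : ⁅a, b * c⁆ = a * b * a⁻¹ * ⁅a, c⁆ * b⁻¹ := by
    simp only [commutatorElement_def]; group
  rw [e, mul_assoc _ ⁅a, c⁆ b⁻¹, ← h b⁻¹, ← mul_assoc, commutatorElement_def a b]

theorem commutator_sq_eq_one (a b : Qt) (ha2 : b * a ^ 2 = a ^ 2 * b)
    (hc : a * ⁅a, b⁆ = ⁅a, b⁆ * a) : ⁅a, b⁆ ^ 2 = 1 := by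
  obtain ⟨c, hcdef⟩ : ∃ c, c = ⁅a, b⁆ := ⟨_, rfl⟩
  rw [← hcdef] at hc ⊢
  have hab : a * b = c * (b * a) := by rw [hcdef, commutatorElement_def]; group
  have h1 : a ^ 2 * b = c ^ 2 * (b * a ^ 2) := by
    calc a ^ 2 * b = a * (a * b) := by rw [pow_two, mul_assoc]
      _ = a * (c * (b * a)) := by rw [← hab]
      _ = (a * c) * (b * a) := by rw [mul_assoc]
      _ = (c * a) * (b * a) := by rw [hc]
      _ = c * ((a * b) * a) := by simp only [mul_assoc]
      _ = c * ((c * (b * a)) * a) := by rw [← hab]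
      _ = c ^ 2 * (b * a ^ 2) := by simp only [pow_two, mul_assoc]
  have h2 : a ^ 2 * b = b * a ^ 2 := ha2.symm
  rw [h2] at h1
  exact mul_eq_right.mp h1.symm

/-- In a class-two situation with a fixed-point-free automorphism `α` modulo the central
subgroup `D`, if `⁅y, α y⁆` takes one and the same nontrivial value for all `y ∉ D`, then `D` has
index at most four: every `x` lies in one of the cosets of `1, u, α u, u * α u`. -/
theorem four_cosets (D : Subgroup Qt) (α : MulAut Qt) (hD : D ≤ Subgroup.center Qt)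
    (hsq : ∀ a : Qt, a ^ 2 ∈ D) (hcomm : ∀ a b : Qt, ⁅a, b⁆ ∈ D)
    (hfpf : ∀ g, g⁻¹ * α g ∈ D → g ∈ D) (hαD : ∀ d ∈ D, α d = d)
    (ν : Qt) (hν : ν ≠ 1) (hs : ∀ y, y ∉ D → ⁅y, α y⁆ = ν)
    (u : Qt) (hu : u ∉ D) (x : Qt) :
    x ∈ D ∨ u * x ∈ D ∨ α u * x ∈ D ∨ u * α u * x ∈ D := by
  by_contra hcon
  push Not at hcon
  obtain ⟨hx0, hx1, hx2, hx3⟩ := hcon
  have hαu : α u ∉ D := by
    intro h
    have h1 := hαD _ h
    have h2 : α u = u := α.injective h1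
    apply hu
    apply hfpf
    rw [h2, inv_mul_cancel]
    exact D.one_mem
  have huαu : u * α u ∉ D := by
    intro h
    apply hu
    apply hfpf
    have : u⁻¹ * α u = (u ^ 2)⁻¹ * (u * α u) := by group
    rw [this]
    exact D.mul_mem (D.inv_mem (hsq u)) h
  have hcen : ∀ a b g : Qt, g * ⁅a, b⁆ = ⁅a, b⁆ * g := fun a b g =>
    Subgroup.mem_center_iff.mp (hD (hcomm a b)) g
  have hcc : ∀ x y : Subgroup.center Qt, x * y = y * x := fun x y =>
    Subtype.ext (Subgroup.mem_center_iff.mp y.2 x)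
  obtain ⟨κ, hκ⟩ : ∃ κ : Qt → Qt → Subgroup.center Qt, ∀ a b, (κ a b : Qt) = ⁅a, b⁆ :=
    ⟨fun a b => ⟨⁅a, b⁆, hD (hcomm a b)⟩, fun _ _ => rfl⟩
  have hκl : ∀ a b c, κ (a * b) c = κ a c * κ b c := by
    intro a b c
    apply Subtype.ext
    rw [Subgroup.coe_mul, hκ, hκ, hκ]
    exact comm_mul_left_of_central a b c (hcen b c)
  have hκr : ∀ a b c, κ a (b * c) = κ a b * κ a c := by
    intro a b c
    apply Subtype.ext
    rw [Subgroup.coe_mul, hκ, hκ, hκ]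
    exact comm_mul_right_of_central a b c (hcen a c)
  obtain ⟨s, hsdef⟩ : ∃ s : Qt → Subgroup.center Qt, ∀ y, s y = κ y (α y) :=
    ⟨fun y => κ y (α y), fun _ => rfl⟩
  obtain ⟨β, hβdef⟩ : ∃ β : Qt → Qt → Subgroup.center Qt,
      ∀ a b, β a b = κ a (α b) * κ b (α a) :=
    ⟨fun a b => κ a (α b) * κ b (α a), fun _ _ => rfl⟩
  have hsmul : ∀ a b, s (a * b) = s a * s b * β a b := by
    intro a b
    rw [hsdef, hsdef, hsdef, hβdef, map_mul, hκl, hκr, hκr]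
    calc κ a (α a) * κ a (α b) * (κ b (α a) * κ b (α b))
        = κ a (α a) * ((κ a (α b) * κ b (α a)) * κ b (α b)) := by simp only [mul_assoc]
      _ = κ a (α a) * (κ b (α b) * (κ a (α b) * κ b (α a))) := by rw [hcc _ (κ b (α b))]
      _ = κ a (α a) * κ b (α b) * (κ a (α b) * κ b (α a)) := by simp only [mul_assoc]
  have hβmul : ∀ a b c, β (a * b) c = β a c * β b c := by
    intro a b c
    rw [hβdef, hβdef, hβdef, map_mul, hκl, hκr]
    calc κ a (α c) * κ b (α c) * (κ c (α a) * κ c (α b))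
        = κ a (α c) * ((κ b (α c) * κ c (α a)) * κ c (α b)) := by simp only [mul_assoc]
      _ = κ a (α c) * ((κ c (α a) * κ b (α c)) * κ c (α b)) := by rw [hcc (κ b (α c))]
      _ = κ a (α c) * κ c (α a) * (κ b (α c) * κ c (α b)) := by simp only [mul_assoc]
  obtain ⟨ν', hν'⟩ : ∃ ν' : Subgroup.center Qt, ν' = s u := ⟨_, rfl⟩
  have hval : ∀ y, y ∉ D → s y = ν' := by
    intro y hy
    apply Subtype.ext
    rw [hν', hsdef, hsdef, hκ, hκ, hs y hy, hs u hu]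
  have hβ1 : ∀ a b, a ∉ D → b ∉ D → a * b ∉ D → β a b = ν'⁻¹ := by
    intro a b ha hb hab
    have h := hsmul a b
    rw [hval a ha, hval b hb, hval _ hab] at h
    calc β a b = (ν' * ν')⁻¹ * (ν' * ν' * β a b) := by group
      _ = (ν' * ν')⁻¹ * ν' := by rw [← h]
      _ = ν'⁻¹ := by group
  have h1 := hβ1 u x hu hx0 hx1
  have h2 := hβ1 (α u) x hαu hx0 hx2
  have h3 := hsmul (u * α u) x
  rw [hval _ hx3, hval _ huαu, hval x hx0, hβmul, h1, h2] at h3
  have h4 : ν' = 1 := by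
    rw [h3]; group
  apply hν
  have h5 := congrArg Subtype.val h4
  rw [hν', hsdef, hκ, hs u hu] at h5
  exact h5

end Cfsg.Agent.Lib.Helper3.DL4
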