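import Mathlib
import Cfsg.Agent.Lib.Helper3.DL1

/-!
# Vector computations in characteristic three
-/

namespace Cfsg.Agent.Lib.Helper3.DL5

open Module Cfsg.Agent.Lib.Helper3.DL1

variable {F : Type*} [Field F] [CharP F 3] {W : Type*} [AddCommGroup W] [Module F W]

theorem add_add_self_eq_zero (F : Type*) [Field F] [CharP F 3] {W : Type*} [AddCommGroup W]
    [Module F W] (a : W) : a + a + a = 0 := by
  have h3 : (3 : F) = 0 := by
    have := CharP.cast_eq_zero F 3
    exact_mod_cast this
  have : (3 : F) • a = a + a + a := by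
    rw [show (3 : F) = 1 + 1 + 1 by norm_num, add_smul, add_smul, one_smul]
  rw [← this, h3, zero_smul]

theorem eq_zero_of_add_self (F : Type*) [Field F] [CharP F 3] {W : Type*} [AddCommGroup W]
    [Module F W] (a : W) (h : a + a = 0) : a = 0 := by
  have h3 := add_add_self_eq_zero F a
  rw [h, zero_add] at h3
  exact h3

/-- From the vector form of quadraticity to the operator form. -/
theorem quad_op (z : W ≃ₗ[F] W) (hquad : ∀ w : W, z (z w) + z w + w = 0) :
    (toEnd F W z - 1) ^ 2 = 0 := by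
  apply LinearMap.ext
  intro w
  have h3 := add_add_self_eq_zero F (z w)
  rw [pow_two, Module.End.mul_apply]
  simp only [LinearMap.sub_apply, toEnd_apply, Module.End.one_apply, map_sub,
    LinearMap.zero_apply]
  have : z (z w) - z w - (z w - w) = (z (z w) + z w + w) - (z w + z w + z w) := by abel
  rw [this, hquad, h3, sub_zero]

/-- From the operator form of quadraticity to the vector form. -/
theorem quad_vec (z : W ≃ₗ[F] W) (hquad : (toEnd F W z - 1) ^ 2 = 0) (w : W) :
    z (z w) + z w + w = 0 := by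
  have h3 := add_add_self_eq_zero F (z w)
  have h := LinearMap.congr_fun hquad w
  rw [pow_two, Module.End.mul_apply] at h
  simp only [LinearMap.sub_apply, toEnd_apply, Module.End.one_apply, map_sub,
    LinearMap.zero_apply] at h
  have : z (z w) + z w + w = (z (z w) - z w - (z w - w)) + (z w + z w + z w) := by abel
  rw [this, h, h3, add_zero]

theorem claimA (z β e0 e1 e2 : W →ₗ[F] W)
    (r0 : ∀ w, β (e0 w) = e1 (β w)) (r1 : ∀ w, β (e1 w) = e2 (β w))
    (r2 : ∀ w, β (e2 w) = e0 (β w)) (c01 : ∀ w, e0 (e1 w) = e1 (e0 w))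
    (z0 : ∀ w, z (e0 w) = e0 (z w)) (z1 : ∀ w, z (e1 w) = e1 (z w))
    (zβ : ∀ w, z (β w) = β (z w))
    (H : ∀ w, z (β (β w) + β w + w) = β (β w) + β w + w)
    (w : W) (h0 : e0 w = w) (h1 : e1 w = -w) : z w = w := by
  obtain ⟨a, ha⟩ : ∃ a, a = z w - w := ⟨_, rfl⟩
  have H' := H w
  simp only [map_add, zβ] at H'
  have hsum : β (β a) + β a + a = 0 := by
    rw [ha]
    simp only [map_sub]
    have := sub_eq_zero.mpr H'
    rw [← this]; abel
  have ha0 : e0 a = a := by rw [ha, map_sub, ← z0, h0]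
  have ha1 : e1 a = -a := by
    rw [ha, map_sub, ← z1, h1, map_neg]; abel
  have hb1 : e1 (β a) = β a := by rw [← r0, ha0]
  have hc0 : e0 (β (β a)) = -(β (β a)) := by
    rw [← r2, ← r1, ha1, map_neg, map_neg]
  obtain ⟨c, hc⟩ : ∃ c, c = β (β a) := ⟨_, rfl⟩
  rw [← hc] at hsum hc0
  have hE1 : e1 c + β a + -a = 0 := by
    have := congrArg e1 hsum
    rw [map_add, map_add, hb1, ha1, map_zero] at this
    exact this
  have hE : c - e1 c + (a + a) = 0 := by
    calc c - e1 c + (a + a) = (c + β a + a) - (e1 c + β a + -a) := by abel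
      _ = 0 := by rw [hsum, hE1, sub_zero]
  have hE' : -c - -(e1 c) + (a + a) = 0 := by
    have := congrArg e0 hE
    rw [map_add, map_sub, map_add, ha0, c01, hc0, map_neg, map_zero] at this
    exact this
  have h4 : (a + a) + (a + a) = 0 := by
    calc (a + a) + (a + a) = (c - e1 c + (a + a)) + (-c - -(e1 c) + (a + a)) := by abel
      _ = 0 := by rw [hE, hE', add_zero]
  have h3 := add_add_self_eq_zero F a
  have ha00 : a = 0 := by
    calc a = ((a + a) + (a + a)) - (a + a + a) := by abel
      _ = 0 := by rw [h4, h3, sub_zero]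
  rw [ha] at ha00
  exact sub_eq_zero.mp ha00

theorem claimB (z β e0 e1 e2 : W →ₗ[F] W)
    (r0 : ∀ w, β (e0 w) = e1 (β w)) (r1 : ∀ w, β (e1 w) = e2 (β w))
    (r2 : ∀ w, β (e2 w) = e0 (β w)) (c01 : ∀ w, e0 (e1 w) = e1 (e0 w))
    (s0 : ∀ w, e0 (e0 w) = w)
    (z0 : ∀ w, z (e0 w) = e0 (z w)) (z1 : ∀ w, z (e1 w) = e1 (z w))
    (zβ : ∀ w, z (β w) = β (z w))
    (H : ∀ w, z (β (β w) + β w + w) = β (β w) + β w + w)
    (w : W) (hw : e0 (e1 w) = -w) : z w = w := by
  have he1 : e1 w = -(e0 w) := by
    have := congrArg e0 hw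
    rw [s0, map_neg] at this
    exact this
  have hp : z (w + e0 w) = w + e0 w := by
    apply claimA z β e0 e1 e2 r0 r1 r2 c01 z0 z1 zβ H
    · rw [map_add, s0, add_comm]
    · rw [map_add, ← c01, hw, he1]; abel
  have hm : z (w - e0 w) = w - e0 w := by
    apply claimA z β (-e0) (-e1) (-e2)
    · intro v; simp only [LinearMap.neg_apply, map_neg, r0]
    · intro v; simp only [LinearMap.neg_apply, map_neg, r1]
    · intro v; simp only [LinearMap.neg_apply, map_neg, r2]
    · intro v; simp only [LinearMap.neg_apply, map_neg, c01]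
    · intro v; simp only [LinearMap.neg_apply, map_neg, z0]
    · intro v; simp only [LinearMap.neg_apply, map_neg, z1]
    · exact zβ
    · exact H
    · rw [LinearMap.neg_apply, map_sub, s0]; abel
    · rw [LinearMap.neg_apply, map_sub, ← c01, hw, he1]; abel
  have h2 : z (w + w) = w + w := by
    have e : w + w = (w + e0 w) + (w - e0 w) := by abel
    rw [e, map_add, hp, hm]
  rw [map_add] at h2
  have h3 : (z w - w) + (z w - w) = 0 := by
    calc (z w - w) + (z w - w) = (z w + z w) - (w + w) := by abel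
      _ = 0 := by rw [h2, sub_self]
  exact sub_eq_zero.mp (eq_zero_of_add_self F _ h3)

end Cfsg.Agent.Lib.Helper3.DL5
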