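import Cfsg.Agent.Lib.Helper3.DL2
import Cfsg.Agent.Lib.Helper3.DL3
import Cfsg.Agent.Lib.Helper3.DL4
import Cfsg.Agent.Lib.Helper3.DL5

/-!
# The `p = 3` case: central involutions of the minimal `2`-group
-/

namespace Cfsg.Agent.Lib.Helper3.DL6

open Module Cfsg.Agent.Lib.Helper3.DL1 Cfsg.Agent.Lib.Helper3.DL2 Cfsg.Agent.Lib.Helper3.DL3
  Cfsg.Agent.Lib.Helper3.DL4 Cfsg.Agent.Lib.Helper3.DL5
open scoped commutatorElement

variable {F : Type*} [Field F] [CharP F 3] {W : Type*} [AddCommGroup W] [Module F W]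

/-- Every central involution of `Q` that commutes with `z` is centralized by `B`. -/
theorem central_involution_fixed {Q B : Subgroup (W ≃ₗ[F] W)} {z : W ≃ₗ[F] W} (h : Cfg Q B z)
    (hDc : ∀ d ∈ Q, d ∈ Subgroup.centralizer {z} → ∀ g ∈ Q, d * g = g * d)
    (hT : Subgroup.closure {c : W ≃ₗ[F] W | ∃ g ∈ Q, c = g⁻¹ * z * g * z⁻¹} = Q)
    (e : W ≃ₗ[F] W) (heQ : e ∈ Q) (hez : e ∈ Subgroup.centralizer {z}) (he2 : e * e = 1)
    (b : W ≃ₗ[F] W) (hb : b ∈ B) : b * e = e * b := by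
  by_contra hne
  obtain ⟨m, hm⟩ := (IsPGroup.iff_orderOf.mp h.b3) ⟨b, hb⟩
  have hbm : b ^ 3 ^ m = 1 := by
    have h1 : (⟨b, hb⟩ : B) ^ 3 ^ m = 1 := by rw [← hm]; exact pow_orderOf_eq_one _
    have := congrArg Subtype.val h1
    simpa using this
  have hex : ∃ j, b ^ 3 ^ j * e = e * b ^ 3 ^ j := ⟨m, by rw [hbm, one_mul, mul_one]⟩
  classical
  obtain ⟨j, hj, hjmin⟩ : ∃ j, (b ^ 3 ^ j * e = e * b ^ 3 ^ j) ∧
      ∀ k < j, ¬ (b ^ 3 ^ k * e = e * b ^ 3 ^ k) :=
    ⟨Nat.find hex, Nat.find_spec hex, fun k hk => Nat.find_min hex hk⟩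
  have hj0 : j ≠ 0 := by
    intro h0
    rw [h0, pow_zero, pow_one] at hj
    exact hne hj
  obtain ⟨k, rfl⟩ := Nat.exists_eq_succ_of_ne_zero hj0
  have hk := hjmin k (Nat.lt_succ_self k)
  obtain ⟨b', hb'def⟩ : ∃ b', b' = b ^ 3 ^ k := ⟨_, rfl⟩
  have hb'B : b' ∈ B := by rw [hb'def]; exact B.pow_mem hb _
  have hb'3 : b' * b' * b' * e = e * (b' * b' * b') := by
    have e3 : b' * b' * b' = b ^ 3 ^ (k + 1) := by
      rw [hb'def, pow_succ 3 k, pow_mul, pow_succ, pow_two]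
    rw [e3]; exact hj
  rw [← hb'def] at hk
  have hbN : ∀ x, x ∈ Q ↔ b' * x * b'⁻¹ ∈ Q := fun x =>
    Subgroup.mem_normalizer_iff.mp (h.norm hb'B) x
  obtain ⟨e1, he1def⟩ : ∃ e1, e1 = b' * e * b'⁻¹ := ⟨_, rfl⟩
  obtain ⟨e2, he2def⟩ : ∃ e2, e2 = b' * e1 * b'⁻¹ := ⟨_, rfl⟩
  have he1Q : e1 ∈ Q := by rw [he1def]; exact (hbN e).mp heQ
  have he2Q : e2 ∈ Q := by rw [he2def]; exact (hbN e1).mp he1Q
  have c1 : Commute b' z := h.zcent b' hb'B
  have c2 : Commute e z := Subgroup.mem_centralizer_singleton_iff.mp hez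
  have c3 : Commute e1 z := by
    rw [he1def]; exact (c1.mul_left c2).mul_left c1.inv_left
  have c4 : Commute e2 z := by
    rw [he2def]; exact (c1.mul_left c3).mul_left c1.inv_left
  have he1z : e1 ∈ Subgroup.centralizer {z} := Subgroup.mem_centralizer_singleton_iff.mpr c3
  have hr0 : b' * e = e1 * b' := by rw [he1def]; group
  have hr1 : b' * e1 = e2 * b' := by rw [he2def]; group
  have hr2 : b' * e2 = e * b' := by
    calc b' * e2 = (b' * b' * b' * e) * (b'⁻¹ * b'⁻¹) := by rw [he2def, he1def]; group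
      _ = (e * (b' * b' * b')) * (b'⁻¹ * b'⁻¹) := by rw [hb'3]
      _ = e * b' := by group
  have c01 : e * e1 = e1 * e := hDc e heQ hez e1 he1Q
  have he1sq : e1 * e1 = 1 := by
    calc e1 * e1 = b' * (e * e) * b'⁻¹ := by rw [he1def]; group
      _ = 1 := by rw [he2]; group
  -- vector forms
  have r0v : ∀ w, b' (e w) = e1 (b' w) := fun w =>
    congrArg (fun f : W ≃ₗ[F] W => f w) hr0
  have r1v : ∀ w, b' (e1 w) = e2 (b' w) := fun w =>
    congrArg (fun f : W ≃ₗ[F] W => f w) hr1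
  have r2v : ∀ w, b' (e2 w) = e (b' w) := fun w =>
    congrArg (fun f : W ≃ₗ[F] W => f w) hr2
  have c01v : ∀ w, e (e1 w) = e1 (e w) := fun w =>
    congrArg (fun f : W ≃ₗ[F] W => f w) c01
  have s0v : ∀ w, e (e w) = w := fun w =>
    congrArg (fun f : W ≃ₗ[F] W => f w) he2
  have z0v : ∀ w, z (e w) = e (z w) := fun w =>
    congrArg (fun f : W ≃ₗ[F] W => f w) c2.eq.symm
  have z1v : ∀ w, z (e1 w) = e1 (z w) := fun w =>
    congrArg (fun f : W ≃ₗ[F] W => f w) c3.eq.symm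
  have zβv : ∀ w, z (b' w) = b' (z w) := fun w =>
    congrArg (fun f : W ≃ₗ[F] W => f w) c1.eq.symm
  have key : ∀ w, e (e1 w) = -w → z w = w := fun w hw =>
    claimB (toEnd F W z) (toEnd F W b') (toEnd F W e) (toEnd F W e1) (toEnd F W e2)
      r0v r1v r2v c01v s0v z0v z1v zβv (h.h2 b' hb'B) w hw
  -- the element f = e * e1
  obtain ⟨f, hfdef⟩ : ∃ f, f = e * e1 := ⟨_, rfl⟩
  have hfQ : f ∈ Q := by rw [hfdef]; exact Q.mul_mem heQ he1Q
  have hfz : f ∈ Subgroup.centralizer {z} := by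
    rw [hfdef]; exact Subgroup.mul_mem _ hez he1z
  have hfv : ∀ w, f w = e (e1 w) := fun w => by rw [hfdef]; rfl
  let K : Subgroup (W ≃ₗ[F] W) :=
    { carrier := {g | ∀ w, f w = -w → g w = w}
      one_mem' := fun w _ => rfl
      mul_mem' := by
        intro a c ha hc w hw
        show a (c w) = w
        rw [hc w hw, ha w hw]
      inv_mem' := by
        intro a ha w hw
        have := ha w hw
        calc a⁻¹ w = a⁻¹ (a w) := by rw [this]
          _ = w := by simp }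
  have hKmem : ∀ g, g ∈ K ↔ ∀ w, f w = -w → g w = w := fun g => Iff.rfl
  have hgenK : ∀ g ∈ Q, g⁻¹ * z * g * z⁻¹ ∈ K := by
    intro g hg
    rw [hKmem]
    intro w hw
    have hzw : z w = w := key w (by rw [← hfv]; exact hw)
    have hzinv : z⁻¹ w = w := by
      calc z⁻¹ w = z⁻¹ (z w) := by rw [hzw]
        _ = w := by simp
    have hfg : f (g w) = -(g w) := by
      have := congrArg (fun t : W ≃ₗ[F] W => t w) (hDc f hfQ hfz g hg)
      change f (g w) = g (f w) at this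
      rw [this, hw, map_neg]
    have hzg : z (g w) = g w := key (g w) (by rw [← hfv]; exact hfg)
    show g⁻¹ (z (g (z⁻¹ w))) = w
    rw [hzinv, hzg]
    simp
  have hQK : Q ≤ K := by
    have h1 : Subgroup.closure {c : W ≃ₗ[F] W | ∃ g ∈ Q, c = g⁻¹ * z * g * z⁻¹} ≤ K := by
      rw [Subgroup.closure_le]
      rintro _ ⟨g, hg, rfl⟩
      exact hgenK g hg
    intro g hg
    apply h1
    rw [hT]; exact hg
  have hfK : f ∈ K := hQK hfQ
  have hUf : ∀ w, f w = -w → w = 0 := by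
    intro w hw
    have h1 := (hKmem f).mp hfK w hw
    rw [hw] at h1
    apply eq_zero_of_add_self F
    calc w + w = -w + w := by rw [h1]
      _ = 0 := neg_add_cancel w
  have hf2 : f * f = 1 := by
    calc f * f = e * (e1 * e) * e1 := by rw [hfdef]; group
      _ = e * (e * e1) * e1 := by rw [c01]
      _ = (e * e) * (e1 * e1) := by group
      _ = 1 := by rw [he2, he1sq, one_mul]
  have hffv : ∀ w, f (f w) = w := fun w =>
    congrArg (fun t : W ≃ₗ[F] W => t w) hf2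
  have hf1 : f = 1 := by
    apply LinearEquiv.ext
    intro w
    have h1 := hUf (w - f w) (by rw [map_sub, hffv]; abel)
    exact (sub_eq_zero.mp h1).symm
  have he1e : e1 = e := by
    apply mul_left_cancel (a := e)
    rw [← hfdef, hf1, he2]
  apply hk
  rw [hr0, he1e]

/-- Every central involution of `Q` centralized by `B` is `1` or `-1`, by minimality of the
module. -/
theorem central_involution_pm {Q B : Subgroup (W ≃ₗ[F] W)} {z : W ≃ₗ[F] W}
    (hsub : ∀ U : Submodule F W, U ≠ ⊤ → (∀ g ∈ Q, ∀ w ∈ U, g w ∈ U) →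
      (∀ b ∈ B, ∀ w ∈ U, b w ∈ U) → ∀ g ∈ Q, ∀ w ∈ U, z (g w) = g (z w))
    (hnc : ¬ Q ≤ Subgroup.centralizer {z})
    (e : W ≃ₗ[F] W) (heQc : ∀ g ∈ Q, e * g = g * e) (heB : ∀ b ∈ B, b * e = e * b)
    (he2 : e * e = 1) : e = 1 ∨ e = LinearEquiv.neg F := by
  by_contra hcon
  push Not at hcon
  obtain ⟨h1, h2⟩ := hcon
  obtain ⟨Up, hUp⟩ : ∃ Up : Submodule F W, ∀ w, w ∈ Up ↔ e w = w :=
    ⟨LinearMap.ker (toEnd F W e - 1), fun w => by
      rw [LinearMap.mem_ker, LinearMap.sub_apply, sub_eq_zero]; rfl⟩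
  obtain ⟨Um, hUm⟩ : ∃ Um : Submodule F W, ∀ w, w ∈ Um ↔ e w = -w :=
    ⟨LinearMap.ker (toEnd F W e + 1), fun w => by
      rw [LinearMap.mem_ker, LinearMap.add_apply, add_eq_zero_iff_eq_neg]; rfl⟩
  have hUpne : Up ≠ ⊤ := by
    intro ht
    apply h1
    apply LinearEquiv.ext
    intro w
    exact (hUp w).mp (by rw [ht]; trivial)
  have hUmne : Um ≠ ⊤ := by
    intro ht
    apply h2
    apply LinearEquiv.ext
    intro w
    rw [LinearEquiv.neg_apply]
    exact (hUm w).mp (by rw [ht]; trivial)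
  have he2v : ∀ w, e (e w) = w := fun w => congrArg (fun t : W ≃ₗ[F] W => t w) he2
  have hQv : ∀ g ∈ Q, ∀ w, e (g w) = g (e w) := fun g hg w =>
    congrArg (fun t : W ≃ₗ[F] W => t w) (heQc g hg)
  have hBv : ∀ b ∈ B, ∀ w, e (b w) = b (e w) := fun b hb w =>
    congrArg (fun t : W ≃ₗ[F] W => t w) (heB b hb).symm
  have hp := hsub Up hUpne
    (fun g hg w hw => by rw [hUp] at hw ⊢; rw [hQv g hg, hw])
    (fun b hb w hw => by rw [hUp] at hw ⊢; rw [hBv b hb, hw])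
  have hm := hsub Um hUmne
    (fun g hg w hw => by rw [hUm] at hw ⊢; rw [hQv g hg, hw, map_neg])
    (fun b hb w hw => by rw [hUm] at hw ⊢; rw [hBv b hb, hw, map_neg])
  apply hnc
  intro g hg
  rw [Subgroup.mem_centralizer_singleton_iff]
  apply LinearEquiv.ext
  intro w
  show g (z w) = z (g w)
  obtain ⟨up, hupdef⟩ : ∃ up, up = w + e w := ⟨_, rfl⟩
  obtain ⟨um, humdef⟩ : ∃ um, um = w - e w := ⟨_, rfl⟩
  have hup : up ∈ Up := by rw [hupdef, hUp, map_add, he2v, add_comm]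
  have hum : um ∈ Um := by rw [humdef, hUm, map_sub, he2v]; abel
  have e' : w + w = up + um := by rw [hupdef, humdef]; abel
  have h3 : z (g (w + w)) = g (z (w + w)) := by
    rw [e']
    simp only [map_add]
    rw [hp g hg _ hup, hm g hg _ hum]
  simp only [map_add] at h3
  have h4 : (g (z w) - z (g w)) + (g (z w) - z (g w)) = 0 := by
    calc (g (z w) - z (g w)) + (g (z w) - z (g w))
        = (g (z w) + g (z w)) - (z (g w) + z (g w)) := by abel
      _ = 0 := by rw [h3, sub_self]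
  exact sub_eq_zero.mp (eq_zero_of_add_self F _ h4)

/-- For `y ∈ Q` not centralized by `z`, the commutator `⁅y, z y z⁻¹⁆` is `-1`. -/
theorem commutator_eq_neg [FiniteDimensional F W] {Q B : Subgroup (W ≃ₗ[F] W)}
    {z : W ≃ₗ[F] W} (h : Cfg Q B z)
    (hsq : ∀ a ∈ Q, a ^ 2 ∈ Subgroup.centralizer {z})
    (hcomm : ∀ a ∈ Q, ∀ b ∈ Q, ⁅a, b⁆ ∈ Subgroup.centralizer {z})
    (hDc : ∀ d ∈ Q, d ∈ Subgroup.centralizer {z} → ∀ g ∈ Q, d * g = g * d)
    (hpm : ∀ e ∈ Q, e ∈ Subgroup.centralizer {z} → e * e = 1 → e = 1 ∨ e = LinearEquiv.neg F)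
    (y : W ≃ₗ[F] W) (hyQ : y ∈ Q) (hyz : y ∉ Subgroup.centralizer {z}) :
    ⁅y, z * y * z⁻¹⁆ = LinearEquiv.neg F ∧ ⁅y, z * y * z⁻¹⁆ ≠ 1 := by
  haveI := h.finQ
  have hzN : ∀ x, x ∈ Q ↔ z * x * z⁻¹ ∈ Q := fun x =>
    Subgroup.mem_normalizer_iff.mp (h.norm h.zB) x
  obtain ⟨y1, hy1def⟩ : ∃ y1, y1 = z * y * z⁻¹ := ⟨_, rfl⟩
  rw [← hy1def]
  have hy1Q : y1 ∈ Q := by rw [hy1def]; exact (hzN y).mp hyQ
  obtain ⟨c, hcdef⟩ : ∃ c, c = ⁅y, y1⁆ := ⟨_, rfl⟩
  rw [← hcdef]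
  have hcQ : c ∈ Q := by
    rw [hcdef, commutatorElement_def]
    exact Q.mul_mem (Q.mul_mem (Q.mul_mem hyQ hy1Q) (Q.inv_mem hyQ)) (Q.inv_mem hy1Q)
  have hcz : c ∈ Subgroup.centralizer {z} := by rw [hcdef]; exact hcomm y hyQ y1 hy1Q
  have hc2 : c * c = 1 := by
    have h1 : y1 * y ^ 2 = y ^ 2 * y1 :=
      (hDc (y ^ 2) (Q.pow_mem hyQ 2) (hsq y hyQ) y1 hy1Q).symm
    have h2 : y * ⁅y, y1⁆ = ⁅y, y1⁆ * y := by
      rw [← hcdef]; exact (hDc c hcQ hcz y hyQ).symm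
    have := commutator_sq_eq_one y y1 h1 h2
    rw [← hcdef, pow_two] at this
    exact this
  have hne1 : c ≠ 1 := by
    intro hc1
    have h01 : y * y1 = y1 * y := by
      rw [hcdef] at hc1
      exact commutatorElement_eq_one_iff_mul_comm.mp hc1
    obtain ⟨y2, hy2def⟩ : ∃ y2, y2 = z * y1 * z⁻¹ := ⟨_, rfl⟩
    have hy2Q : y2 ∈ Q := by rw [hy2def]; exact (hzN y1).mp hy1Q
    have hz3' : z * z * z = 1 := by
      have := h.z3
      rwa [pow_succ, pow_two] at this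
    have hy3 : z * y2 * z⁻¹ = y := by
      calc z * y2 * z⁻¹ = (z * z * z) * y * (z * z * z)⁻¹ := by rw [hy2def, hy1def]; group
        _ = y := by rw [hz3']; group
    have h12 : y1 * y2 = y2 * y1 := by
      calc y1 * y2 = (z * y * z⁻¹) * (z * y1 * z⁻¹) := by rw [← hy1def, ← hy2def]
        _ = z * (y * y1) * z⁻¹ := by group
        _ = z * (y1 * y) * z⁻¹ := by rw [h01]
        _ = (z * y1 * z⁻¹) * (z * y * z⁻¹) := by group
        _ = y2 * y1 := by rw [← hy1def, ← hy2def]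
    have h20 : y2 * y = y * y2 := by
      calc y2 * y = (z * y1 * z⁻¹) * (z * y2 * z⁻¹) := by rw [hy3, ← hy2def]
        _ = z * (y1 * y2) * z⁻¹ := by group
        _ = z * (y2 * y1) * z⁻¹ := by rw [h12]
        _ = (z * y2 * z⁻¹) * (z * y1 * z⁻¹) := by group
        _ = y * y2 := by rw [hy3, ← hy2def]
    have hSc : ∀ a ∈ ({y, y1, y2} : Set (W ≃ₗ[F] W)), ∀ b ∈ ({y, y1, y2} : Set (W ≃ₗ[F] W)),
        a * b = b * a := by
      intro a ha b hb
      simp only [Set.mem_insert_iff, Set.mem_singleton_iff] at ha hb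
      rcases ha with rfl | rfl | rfl <;> rcases hb with rfl | rfl | rfl
      · rfl
      · exact h01
      · exact h20.symm
      · exact h01.symm
      · rfl
      · exact h12
      · exact h20
      · exact h12.symm
      · rfl
    obtain ⟨Q₀, hQ₀⟩ : ∃ Q₀, Q₀ = Subgroup.closure ({y, y1, y2} : Set (W ≃ₗ[F] W)) := ⟨_, rfl⟩
    have hQ₀le : Q₀ ≤ Q := by
      rw [hQ₀, Subgroup.closure_le]
      intro t ht
      simp only [Set.mem_insert_iff, Set.mem_singleton_iff] at ht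
      rcases ht with rfl | rfl | rfl
      · exact hyQ
      · exact hy1Q
      · exact hy2Q
    haveI : Finite Q₀ := Finite.of_injective _ (Subgroup.inclusion_injective hQ₀le)
    have hfw : ∀ t ∈ Q₀, z * t * z⁻¹ ∈ Q₀ := by
      have hle : Q₀.map (MulAut.conj z).toMonoidHom ≤ Q₀ := by
        rw [hQ₀, MonoidHom.map_closure, Subgroup.closure_le]
        rintro _ ⟨t, ht, rfl⟩
        simp only [Set.mem_insert_iff, Set.mem_singleton_iff] at ht
        apply Subgroup.subset_closure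
        rcases ht with rfl | rfl | rfl
        · show z * t * z⁻¹ ∈ ({t, y1, y2} : Set (W ≃ₗ[F] W))
          rw [← hy1def]; simp
        · show z * t * z⁻¹ ∈ ({y, t, y2} : Set (W ≃ₗ[F] W))
          rw [← hy2def]; simp
        · show z * t * z⁻¹ ∈ ({y, y1, t} : Set (W ≃ₗ[F] W))
          rw [hy3]; simp
      intro t ht
      exact hle ⟨t, ht, rfl⟩
    have hzQ₀ : ∀ t, t ∈ Q₀ ↔ z * t * z⁻¹ ∈ Q₀ := by
      intro t
      constructor
      · exact hfw t
      · intro ht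
        have := hfw _ (hfw _ ht)
        have e : z * (z * (z * t * z⁻¹) * z⁻¹) * z⁻¹ = (z * z * z) * t * (z * z * z)⁻¹ := by group
        rw [e, hz3'] at this
        simpa using this
    have hnc' : ¬ Q₀ ≤ Subgroup.centralizer {z} := by
      intro hle
      apply hyz
      apply hle
      rw [hQ₀]
      apply Subgroup.subset_closure
      simp
    have key := quad_dichotomy 2 (by norm_num) Q₀ (h.q2.to_le hQ₀le) z hzQ₀ h.z3
      (quad_op z h.quad) hnc'
    apply key.2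
    haveI : IsMulCommutative ↥Q₀ := by
      rw [hQ₀]; exact Subgroup.isMulCommutative_closure hSc
    intro a b
    exact IsMulCommutative.is_comm.comm a b
  rcases hpm c hcQ hcz hc2 with h1 | h1
  · exact absurd h1 hne1
  · exact ⟨h1, hne1⟩

end Cfsg.Agent.Lib.Helper3.DL6
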