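import Cfsg.Agent.Lib.Helper3.DL6

/-!
# The `p = 3` case: the main induction

A finite `2`-group `Q` of linear automorphisms in characteristic three, normalized by a finite
`3`-group `B`, is centralized by any `z ∈ Z(B) ∩ B'` of order three which is quadratic and
satisfies `(z - 1)(b - 1)² = 0` for all `b ∈ B`.
-/

namespace Cfsg.Agent.Lib.Helper3.DL7

open Module Cfsg.Agent.Lib.Helper3.DL1 Cfsg.Agent.Lib.Helper3.DL2 Cfsg.Agent.Lib.Helper3.DL3
  Cfsg.Agent.Lib.Helper3.DL4 Cfsg.Agent.Lib.Helper3.DL5 Cfsg.Agent.Lib.Helper3.DL6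
  Cfsg.Agent.Lib.Helper3.HHC9
open scoped commutatorElement

universe u v

theorem conj_conj_comm {G : Type*} [Group G] (a b x : G) (h : a * b = b * a) :
    a * (b * x * b⁻¹) * a⁻¹ = b * (a * x * a⁻¹) * b⁻¹ := by
  calc a * (b * x * b⁻¹) * a⁻¹ = (a * b) * x * (a * b)⁻¹ := by group
    _ = (b * a) * x * (b * a)⁻¹ := by rw [h]
    _ = b * (a * x * a⁻¹) * b⁻¹ := by group

/-- The final contradiction: `B` acts on `Q / C_Q(z)` (of order four) through an abelian group,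
so `z ∈ ⁅B, B⁆` acts trivially. -/
theorem final_contra {G : Type*} [Group G] (Q B : Subgroup G) (z u : G)
    (hBN : B ≤ Subgroup.normalizer (Q : Set G)) (hzB : z ∈ B) (hzc : ∀ b ∈ B, b * z = z * b)
    (hz3 : z * z * z = 1) (hzcomm : z ∈ ⁅B, B⁆)
    (hsq : ∀ a ∈ Q, a * a ∈ Subgroup.centralizer {z})
    (hcomm : ∀ a ∈ Q, ∀ b ∈ Q, ⁅a, b⁆ ∈ Subgroup.centralizer {z})
    (hDc : ∀ d ∈ Q, d ∈ Subgroup.centralizer {z} → ∀ g ∈ Q, d * g = g * d)
    (hfpf : ∀ g ∈ Q, g⁻¹ * z * g * z⁻¹ ∈ Subgroup.centralizer {z} →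
      g ∈ Subgroup.centralizer {z})
    (huQ : u ∈ Q) (huz : u ∉ Subgroup.centralizer {z})
    (hfour : ∀ x ∈ Q, x ∈ Subgroup.centralizer {z} ∨ u * x ∈ Subgroup.centralizer {z} ∨
      (z * u * z⁻¹) * x ∈ Subgroup.centralizer {z} ∨
      u * (z * u * z⁻¹) * x ∈ Subgroup.centralizer {z}) : False := by
  have hbN : ∀ b ∈ B, ∀ x, x ∈ Q ↔ b * x * b⁻¹ ∈ Q := fun b hb x =>
    Subgroup.mem_normalizer_iff.mp (hBN hb) x
  have hzN := hbN z hzB
  obtain ⟨u1, hu1def⟩ : ∃ u1, u1 = z * u * z⁻¹ := ⟨_, rfl⟩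
  obtain ⟨u2, hu2def⟩ : ∃ u2, u2 = z * u1 * z⁻¹ := ⟨_, rfl⟩
  rw [← hu1def] at hfour
  have hu1Q : u1 ∈ Q := by rw [hu1def]; exact (hzN u).mp huQ
  have hu2Q : u2 ∈ Q := by rw [hu2def]; exact (hzN u1).mp hu1Q
  have hu3 : z * u2 * z⁻¹ = u := by
    calc z * u2 * z⁻¹ = (z * z * z) * u * (z * z * z)⁻¹ := by rw [hu2def, hu1def]; group
      _ = u := by rw [hz3]; group
  -- conjugation by B preserves C_Q(z)
  have hDB : ∀ b ∈ B, ∀ d, d ∈ Q → d ∈ Subgroup.centralizer {z} →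
      b * d * b⁻¹ ∈ Q ∧ b * d * b⁻¹ ∈ Subgroup.centralizer {z} := by
    intro b hb d hdQ hdz
    refine ⟨(hbN b hb d).mp hdQ, ?_⟩
    have c1 : Commute b z := hzc b hb
    have c2 : Commute d z := Subgroup.mem_centralizer_singleton_iff.mp hdz
    exact Subgroup.mem_centralizer_singleton_iff.mpr ((c1.mul_left c2).mul_left c1.inv_left)
  have hzi : ∀ (i : ℤ) (d : G), d ∈ Subgroup.centralizer {z} → z ^ i * d * z ^ (-i) = d := by
    intro i d hdz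
    have c2 : Commute d z := Subgroup.mem_centralizer_singleton_iff.mp hdz
    have c3 : Commute (z ^ i) d := (c2.symm).zpow_left i
    rw [c3.eq, mul_assoc, ← zpow_add, add_neg_cancel, zpow_zero, mul_one]
  obtain ⟨J, hJ⟩ : ∃ J : G → ℤ → Prop, ∀ b i, J b i ↔ ∃ d, d ∈ Q ∧
      d ∈ Subgroup.centralizer {z} ∧ b * u * b⁻¹ = d * (z ^ i * u * z ^ (-i)) :=
    ⟨fun b i => ∃ d, d ∈ Q ∧ d ∈ Subgroup.centralizer {z} ∧
      b * u * b⁻¹ = d * (z ^ i * u * z ^ (-i)), fun _ _ => Iff.rfl⟩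
  have Jcomp : ∀ b b' i i', b ∈ B → b' ∈ B → J b i → J b' i' → J (b * b') (i + i') := by
    intro b b' i i' hb hb' hj hj'
    rw [hJ] at hj hj' ⊢
    obtain ⟨d, hdQ, hdz, hd⟩ := hj
    obtain ⟨d', hd'Q, hd'z, hd'⟩ := hj'
    obtain ⟨h1, h2⟩ := hDB b hb d' hd'Q hd'z
    refine ⟨(b * d' * b⁻¹) * d, Q.mul_mem h1 hdQ, Subgroup.mul_mem _ h2 hdz, ?_⟩
    have hbzi : b * z ^ i' = z ^ i' * b := ((show Commute b z from hzc b hb).zpow_right i').eq
    have e0 : z ^ (-i') = (z ^ i')⁻¹ := zpow_neg z i'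
    calc (b * b') * u * (b * b')⁻¹ = b * (b' * u * b'⁻¹) * b⁻¹ := by group
      _ = b * (d' * (z ^ i' * u * z ^ (-i'))) * b⁻¹ := by rw [hd']
      _ = (b * d' * b⁻¹) * (b * (z ^ i' * u * (z ^ i')⁻¹) * b⁻¹) := by rw [e0]; group
      _ = (b * d' * b⁻¹) * (z ^ i' * (b * u * b⁻¹) * (z ^ i')⁻¹) := by
          rw [conj_conj_comm b (z ^ i') u hbzi]
      _ = (b * d' * b⁻¹) * (z ^ i' * (d * (z ^ i * u * z ^ (-i))) * (z ^ i')⁻¹) := by rw [hd]
      _ = (b * d' * b⁻¹) * ((z ^ i' * d * z ^ (-i')) * (z ^ (i + i') * u * z ^ (-(i + i')))) := by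
          group
      _ = (b * d' * b⁻¹) * (d * (z ^ (i + i') * u * z ^ (-(i + i')))) := by rw [hzi i' d hdz]
      _ = ((b * d' * b⁻¹) * d) * (z ^ (i + i') * u * z ^ (-(i + i'))) := by group
  have Jinv : ∀ b i, b ∈ B → J b i → J b⁻¹ (-i) := by
    intro b i hb hj
    rw [hJ] at hj ⊢
    obtain ⟨d, hdQ, hdz, hd⟩ := hj
    obtain ⟨h1, h2⟩ := hDB b⁻¹ (B.inv_mem hb) d⁻¹ (Q.inv_mem hdQ) (Subgroup.inv_mem _ hdz)
    rw [inv_inv] at h1 h2
    refine ⟨b⁻¹ * d⁻¹ * b, h1, h2, ?_⟩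
    have hbzi : z ^ i * b⁻¹ = b⁻¹ * z ^ i :=
      (((show Commute b z from hzc b hb).zpow_right i).inv_left).eq.symm
    have e0 : z ^ (-i) = (z ^ i)⁻¹ := zpow_neg z i
    have h3 : z ^ i * (b⁻¹ * u * b) * (z ^ i)⁻¹ = (b⁻¹ * d⁻¹ * b) * u := by
      have := conj_conj_comm (z ^ i) b⁻¹ u hbzi
      rw [inv_inv] at this
      rw [this]
      have hd2 : z ^ i * u * (z ^ i)⁻¹ = d⁻¹ * (b * u * b⁻¹) := by rw [hd, e0]; group
      rw [hd2]; group
    have h4 : b⁻¹ * u * b = z ^ (-i) * ((b⁻¹ * d⁻¹ * b) * u) * z ^ i := by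
      rw [← h3, e0]; group
    rw [inv_inv, neg_neg, h4]
    have h5 := hzi (-i) _ h2
    rw [neg_neg] at h5
    calc z ^ (-i) * (b⁻¹ * d⁻¹ * b * u) * z ^ i
        = (z ^ (-i) * (b⁻¹ * d⁻¹ * b) * z ^ i) * (z ^ (-i) * u * z ^ i) := by group
      _ = (b⁻¹ * d⁻¹ * b) * (z ^ (-i) * u * z ^ i) := by rw [h5]
  -- every element of B has an index
  have hidx : ∀ b ∈ B, ∃ i, J b i := by
    intro b hb
    obtain ⟨x, hxdef⟩ : ∃ x, x = b * u * b⁻¹ := ⟨_, rfl⟩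
    have hxQ : x ∈ Q := by rw [hxdef]; exact (hbN b hb u).mp huQ
    rcases hfour x hxQ with hx | hx | hx | hx
    · exfalso
      apply huz
      obtain ⟨-, h2⟩ := hDB b⁻¹ (B.inv_mem hb) x hxQ hx
      have e : b⁻¹ * x * b⁻¹⁻¹ = u := by rw [hxdef]; group
      rwa [e] at h2
    · refine ⟨0, ?_⟩
      rw [hJ, ← hxdef]
      refine ⟨(u * x) * (u * u)⁻¹, Q.mul_mem (Q.mul_mem huQ hxQ) (Q.inv_mem (Q.mul_mem huQ huQ)),
        Subgroup.mul_mem _ hx (Subgroup.inv_mem _ (hsq u huQ)), ?_⟩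
      have hc := hDc (u * x) (Q.mul_mem huQ hxQ) hx u⁻¹ (Q.inv_mem huQ)
      calc x = u⁻¹ * (u * x) := by group
        _ = (u * x) * u⁻¹ := hc.symm
        _ = (u * x) * (u * u)⁻¹ * (z ^ (0 : ℤ) * u * z ^ (-(0 : ℤ))) := by
            rw [neg_zero, zpow_zero]; group
    · refine ⟨1, ?_⟩
      rw [hJ, ← hxdef]
      refine ⟨(u1 * x) * (u1 * u1)⁻¹,
        Q.mul_mem (Q.mul_mem hu1Q hxQ) (Q.inv_mem (Q.mul_mem hu1Q hu1Q)),
        Subgroup.mul_mem _ hx (Subgroup.inv_mem _ (hsq u1 hu1Q)), ?_⟩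
      have hc := hDc (u1 * x) (Q.mul_mem hu1Q hxQ) hx u1⁻¹ (Q.inv_mem hu1Q)
      have e1 : z ^ (1 : ℤ) * u * z ^ (-(1 : ℤ)) = u1 := by
        rw [zpow_one, zpow_neg, zpow_one, hu1def]
      calc x = u1⁻¹ * (u1 * x) := by group
        _ = (u1 * x) * u1⁻¹ := hc.symm
        _ = (u1 * x) * (u1 * u1)⁻¹ * u1 := by group
        _ = (u1 * x) * (u1 * u1)⁻¹ * (z ^ (1 : ℤ) * u * z ^ (-(1 : ℤ))) := by rw [e1]
    · refine ⟨2, ?_⟩
      rw [hJ, ← hxdef]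
      obtain ⟨t, htdef⟩ : ∃ t, t = u * u1 * u2 := ⟨_, rfl⟩
      have htQ : t ∈ Q := by rw [htdef]; exact Q.mul_mem (Q.mul_mem huQ hu1Q) hu2Q
      have htz : t ∈ Subgroup.centralizer {z} := by
        apply hfpf t htQ
        have e : t⁻¹ * z * t * z⁻¹ = ⁅(u1 * u2)⁻¹, u⁻¹⁆ := by
          have e2 : z * t * z⁻¹ = u1 * u2 * u := by
            calc z * t * z⁻¹ = (z * u * z⁻¹) * (z * u1 * z⁻¹) * (z * u2 * z⁻¹) := by
                  rw [htdef]; group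
              _ = u1 * u2 * u := by rw [hu3, ← hu1def, ← hu2def]
          calc t⁻¹ * z * t * z⁻¹ = t⁻¹ * (z * t * z⁻¹) := by group
            _ = t⁻¹ * (u1 * u2 * u) := by rw [e2]
            _ = ⁅(u1 * u2)⁻¹, u⁻¹⁆ := by rw [htdef, commutatorElement_def]; group
        rw [e]
        exact hcomm _ (Q.inv_mem (Q.mul_mem hu1Q hu2Q)) _ (Q.inv_mem huQ)
      have htinvQ : t⁻¹ ∈ Q := Q.inv_mem htQ
      have htinvz : t⁻¹ ∈ Subgroup.centralizer {z} := Subgroup.inv_mem _ htz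
      have huuxQ : u * u1 * x ∈ Q := Q.mul_mem (Q.mul_mem huQ hu1Q) hxQ
      refine ⟨(u * u1 * x) * t⁻¹, Q.mul_mem huuxQ htinvQ, Subgroup.mul_mem _ hx htinvz, ?_⟩
      have hc1 := hDc (u * u1 * x) huuxQ hx (u * u1)⁻¹ (Q.inv_mem (Q.mul_mem huQ hu1Q))
      have hc2 := hDc t⁻¹ htinvQ htinvz u2 hu2Q
      have e2 : z ^ (2 : ℤ) * u * z ^ (-(2 : ℤ)) = u2 := by
        have e3 : z ^ (2 : ℤ) = z * z := zpow_two z
        rw [zpow_neg, e3, hu2def, hu1def]; group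
      calc x = (u * u1)⁻¹ * (u * u1 * x) := by group
        _ = (u * u1 * x) * (u * u1)⁻¹ := hc1.symm
        _ = (u * u1 * x) * (u2 * t⁻¹) := by rw [htdef]; group
        _ = (u * u1 * x) * (t⁻¹ * u2) := by rw [hc2]
        _ = (u * u1 * x) * t⁻¹ * u2 := by group
        _ = (u * u1 * x) * t⁻¹ * (z ^ (2 : ℤ) * u * z ^ (-(2 : ℤ))) := by rw [e2]
  -- the subgroup of B acting trivially on u modulo C_Q(z)
  let Bu : Subgroup G :=
    { carrier := {g | g ∈ B ∧ J g 0}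
      one_mem' := by
        refine ⟨B.one_mem, ?_⟩
        rw [hJ]
        exact ⟨1, Q.one_mem, Subgroup.one_mem _, by simp⟩
      mul_mem' := by
        rintro a c ⟨ha, ja⟩ ⟨hc, jc⟩
        refine ⟨B.mul_mem ha hc, ?_⟩
        have := Jcomp a c 0 0 ha hc ja jc
        rwa [add_zero] at this
      inv_mem' := by
        rintro a ⟨ha, ja⟩
        refine ⟨B.inv_mem ha, ?_⟩
        have := Jinv a 0 ha ja
        rwa [neg_zero] at this }
  have hBumem : ∀ g, g ∈ Bu ↔ g ∈ B ∧ J g 0 := fun g => Iff.rfl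
  have hcommBu : ⁅B, B⁆ ≤ Bu := by
    rw [Subgroup.commutator_le]
    intro g₁ h₁ g₂ h₂
    rw [hBumem]
    refine ⟨?_, ?_⟩
    · rw [commutatorElement_def]
      exact B.mul_mem (B.mul_mem (B.mul_mem h₁ h₂) (B.inv_mem h₁)) (B.inv_mem h₂)
    · obtain ⟨i, hi⟩ := hidx g₁ h₁
      obtain ⟨j, hj⟩ := hidx g₂ h₂
      have s1 := Jcomp g₁ g₂ i j h₁ h₂ hi hj
      have s2 := Jcomp (g₁ * g₂) g₁⁻¹ (i + j) (-i) (B.mul_mem h₁ h₂) (B.inv_mem h₁) s1
        (Jinv g₁ i h₁ hi)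
      have s3 := Jcomp (g₁ * g₂ * g₁⁻¹) g₂⁻¹ (i + j + -i) (-j)
        (B.mul_mem (B.mul_mem h₁ h₂) (B.inv_mem h₁)) (B.inv_mem h₂) s2 (Jinv g₂ j h₂ hj)
      have e : i + j + -i + -j = 0 := by ring
      rw [e] at s3
      rw [commutatorElement_def]
      exact s3
  have hzBu := hcommBu hzcomm
  rw [hBumem, hJ] at hzBu
  obtain ⟨-, d, hdQ, hdz, hd⟩ := hzBu
  rw [neg_zero, zpow_zero, one_mul, mul_one] at hd
  apply huz
  apply hfpf u huQ
  have hc := hDc d hdQ hdz u huQ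
  have e : u⁻¹ * z * u * z⁻¹ = d := by
    calc u⁻¹ * z * u * z⁻¹ = u⁻¹ * (z * u * z⁻¹) := by group
      _ = u⁻¹ * (d * u) := by rw [hd]
      _ = u⁻¹ * (u * d) := by rw [hc]
      _ = d := by group
  rw [e]; exact hdz

theorem centralizes_aux {F : Type u} [Field F] [CharP F 3] :
    ∀ (n : ℕ) (W : Type v) [AddCommGroup W] [Module F W] [FiniteDimensional F W]
      (Q B : Subgroup (W ≃ₗ[F] W)) (z : W ≃ₗ[F] W), Cfg Q B z →
      Nat.card Q + finrank F W = n → Q ≤ Subgroup.centralizer {z} := by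
  intro n
  induction n using Nat.strong_induction_on with
  | _ n IH =>
  intro W _ _ _ Q B z h hn
  by_contra hnc
  haveI := h.finQ
  have hmin : ∀ Q₁ : Subgroup (W ≃ₗ[F] W), Q₁ ≤ Q → Q₁ ≠ Q →
      B ≤ Subgroup.normalizer (Q₁ : Set (W ≃ₗ[F] W)) → Q₁ ≤ Subgroup.centralizer {z} := by
    intro Q₁ hle hne hN
    haveI : Finite Q₁ := Finite.of_injective _ (Subgroup.inclusion_injective hle)
    have hcard : Nat.card Q₁ < Nat.card Q := by
      by_contra hcon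
      push Not at hcon
      exact hne (Subgroup.eq_of_le_of_card_ge hle hcon)
    have hcfg : Cfg Q₁ B z :=
      { finQ := inferInstance
        finB := h.finB
        q2 := h.q2.to_le hle
        b3 := h.b3
        norm := hN
        zB := h.zB
        zcent := h.zcent
        zcomm := h.zcomm
        z3 := h.z3
        quad := h.quad
        h2 := h.h2 }
    exact IH (Nat.card Q₁ + finrank F W) (by omega) W Q₁ B z hcfg rfl
  have hsub : ∀ U : Submodule F W, U ≠ ⊤ → (∀ g ∈ Q, ∀ w ∈ U, g w ∈ U) →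
      (∀ b ∈ B, ∀ w ∈ U, b w ∈ U) → ∀ g ∈ Q, ∀ w ∈ U, z (g w) = g (z w) := by
    intro U hU hQU hBU
    have hQs := le_stab_of_invariant U Q hQU
    have hBs := le_stab_of_invariant U B hBU
    have h1 := card_range_resOn_le U Q hQs
    have h2 := Submodule.finrank_lt hU
    have hc := IH (Nat.card (resOn U Q hQs).range + finrank F U) (by omega) U _ _ _
      (h.restrict U hQs hBs) rfl
    exact commute_on_of_restrict h.zB U hQs hBs hc
  obtain ⟨hsq, hcomm, hDc, hT, hfpf⟩ :=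
    structure_of_minimal Q B z h.q2 h.norm h.zB h.zcent h.z3 hmin hnc
  have hBe : ∀ e ∈ Q, e ∈ Subgroup.centralizer {z} → e * e = 1 → ∀ b ∈ B, b * e = e * b :=
    fun e heQ hez he2 b hb => central_involution_fixed h hDc hT e heQ hez he2 b hb
  have hpm : ∀ e ∈ Q, e ∈ Subgroup.centralizer {z} → e * e = 1 →
      e = 1 ∨ e = LinearEquiv.neg F :=
    fun e heQ hez he2 => central_involution_pm hsub hnc e (hDc e heQ hez) (hBe e heQ hez he2) he2
  have hneg : ∀ y ∈ Q, y ∉ Subgroup.centralizer {z} →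
      ⁅y, z * y * z⁻¹⁆ = LinearEquiv.neg F ∧ ⁅y, z * y * z⁻¹⁆ ≠ 1 :=
    fun y hyQ hyz => commutator_eq_neg h hsq hcomm hDc hpm y hyQ hyz
  have hzN : ∀ x, x ∈ Q ↔ z * x * z⁻¹ ∈ Q := fun x =>
    Subgroup.mem_normalizer_iff.mp (h.norm h.zB) x
  obtain ⟨u, huQ, huz⟩ := SetLike.not_le_iff_exists.mp hnc
  obtain ⟨hnegu, hne1u⟩ := hneg u huQ huz
  obtain ⟨α, hα⟩ : ∃ α : MulAut Q, α = conjAutOfNormalizes Q z hzN := ⟨_, rfl⟩
  have hαc : ∀ g : Q, ((α g : Q) : W ≃ₗ[F] W) = z * g * z⁻¹ := by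
    intro g; rw [hα]; rfl
  obtain ⟨D', hD'⟩ : ∃ D' : Subgroup Q, D' = (Subgroup.centralizer {z}).subgroupOf Q :=
    ⟨_, rfl⟩
  have hD'mem : ∀ g : Q, g ∈ D' ↔ (g : W ≃ₗ[F] W) ∈ Subgroup.centralizer {z} := by
    intro g; rw [hD']; exact Subgroup.mem_subgroupOf
  have hcoe_comm : ∀ a b : Q, ((⁅a, b⁆ : Q) : W ≃ₗ[F] W) = ⁅(a : W ≃ₗ[F] W), (b : W ≃ₗ[F] W)⁆ :=
    fun a b => rfl
  have hfour := four_cosets D' α
    (by
      intro d hd
      rw [Subgroup.mem_center_iff]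
      intro g
      apply Subtype.ext
      exact (hDc d d.2 ((hD'mem d).mp hd) g g.2).symm)
    (by
      intro a
      rw [hD'mem]
      have := hsq a a.2
      simpa using this)
    (by
      intro a b
      rw [hD'mem, hcoe_comm]
      exact hcomm a a.2 b b.2)
    (by
      intro g hg
      rw [hD'mem] at hg ⊢
      apply hfpf g g.2
      have e : ((g⁻¹ * α g : Q) : W ≃ₗ[F] W) = (g : W ≃ₗ[F] W)⁻¹ * z * g * z⁻¹ := by
        rw [Subgroup.coe_mul, hαc, Subgroup.coe_inv]; group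
      rwa [e] at hg)
    (by
      intro d hd
      apply Subtype.ext
      rw [hαc]
      have := (hD'mem d).mp hd
      rw [Subgroup.mem_centralizer_singleton_iff] at this
      rw [← this, mul_inv_cancel_right])
    (⁅(⟨u, huQ⟩ : Q), α ⟨u, huQ⟩⁆)
    (by
      intro h1
      apply hne1u
      have := congrArg Subtype.val h1
      rw [hcoe_comm, hαc] at this
      exact this)
    (by
      intro y hy
      apply Subtype.ext
      have hy' : (y : W ≃ₗ[F] W) ∉ Subgroup.centralizer {z} := fun h' => hy ((hD'mem y).mpr h')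
      rw [hcoe_comm, hcoe_comm, hαc, hαc, (hneg y y.2 hy').1]
      exact hnegu.symm)
    ⟨u, huQ⟩ (fun h' => huz ((hD'mem _).mp h'))
  have hz3' : z * z * z = 1 := by
    have := h.z3
    rwa [pow_succ, pow_two] at this
  apply final_contra Q B z u h.norm h.zB h.zcent hz3' h.zcomm
    (fun a ha => by have := hsq a ha; rwa [pow_two] at this) hcomm hDc hfpf huQ huz
  intro x hx
  have h4 := hfour ⟨x, hx⟩
  simp only [hD'mem] at h4
  rcases h4 with h4 | h4 | h4 | h4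
  · exact Or.inl h4
  · exact Or.inr (Or.inl h4)
  · refine Or.inr (Or.inr (Or.inl ?_))
    have e : ((α ⟨u, huQ⟩ * ⟨x, hx⟩ : Q) : W ≃ₗ[F] W) = z * u * z⁻¹ * x := by
      rw [Subgroup.coe_mul, hαc]
    rwa [e] at h4
  · refine Or.inr (Or.inr (Or.inr ?_))
    have e : ((⟨u, huQ⟩ * α ⟨u, huQ⟩ * ⟨x, hx⟩ : Q) : W ≃ₗ[F] W) = u * (z * u * z⁻¹) * x := by
      rw [Subgroup.coe_mul, Subgroup.coe_mul, hαc]
    rwa [e] at h4

/-- **The `p = 3` lemma.** -/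
theorem centralizes {F : Type u} [Field F] [CharP F 3] {W : Type v} [AddCommGroup W]
    [Module F W] [FiniteDimensional F W] {Q B : Subgroup (W ≃ₗ[F] W)} {z : W ≃ₗ[F] W}
    (h : Cfg Q B z) : Q ≤ Subgroup.centralizer {z} :=
  centralizes_aux _ W Q B z h rfl

end Cfsg.Agent.Lib.Helper3.DL7
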