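import Cfsg.Agent.Lib.Helper3.DL7
import Cfsg.Agent.Lib.Helper1.Nilpotent

/-!
# The key lemma on linear groups

Let `H` be a finite `p`-soluble group of linear automorphisms in characteristic `p` (odd) with
`O_p(H) = 1`, and `B ≤ H` a `p`-subgroup such that `B' = ⁅B, B⁆` acts quadratically
(`(a - 1)(a' - 1) = 0`) and `(a - 1)(b - 1)² = 0` for `a ∈ B'`, `b ∈ B`. Then `B` is abelian.
-/

namespace Cfsg.Agent.Lib.Helper3.DL8

open Module Cfsg Cfsg.Agent.Lib.Helper3.DL1 Cfsg.Agent.Lib.Helper3.DL2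
  Cfsg.Agent.Lib.Helper3.DL3 Cfsg.Agent.Lib.Helper3.DL5 Cfsg.Agent.Lib.Helper3.DL7
open scoped commutatorElement

universe u v

theorem commutator_eq_bot {F : Type u} [Field F] {p : ℕ} [hp : Fact p.Prime] [CharP F p]
    (hp2 : p ≠ 2) {W : Type v} [AddCommGroup W] [Module F W] [FiniteDimensional F W]
    (H : Subgroup (W ≃ₗ[F] W)) [Finite H] (hsol : IsPSolvable p H) (hOp : pCore p H = ⊥)
    (B : Subgroup (W ≃ₗ[F] W)) (hBH : B ≤ H) (hBp : IsPGroup p B)
    (h1 : ∀ a ∈ ⁅B, B⁆, ∀ a' ∈ ⁅B, B⁆, ∀ w : W, a (a' w - w) = a' w - w)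
    (h2 : ∀ a ∈ ⁅B, B⁆, ∀ b ∈ B, ∀ w : W,
      a (b (b w - w) - (b w - w)) = b (b w - w) - (b w - w)) :
    ⁅B, B⁆ = ⊥ := by
  by_contra hne
  haveI : Finite B := Finite.of_injective _ (Subgroup.inclusion_injective hBH)
  haveI : Group.IsNilpotent B := hBp.isNilpotent
  have hNne : commutator ↥B ≠ ⊥ := by
    intro h
    apply hne
    rw [← Subgroup.map_subtype_commutator, h, Subgroup.map_bot]
  have h3 := Cfsg.Agent.Lib.Helper1.normal_inf_center_ne_bot (commutator ↥B) hNne
  obtain ⟨⟨y, hy⟩, hy1⟩ := Subgroup.ne_bot_iff_exists_ne_one.mp h3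
  obtain ⟨z₀, hz₀⟩ : ∃ z₀ : W ≃ₗ[F] W, z₀ = (y : W ≃ₗ[F] W) := ⟨_, rfl⟩
  have hz₀B : z₀ ∈ B := by rw [hz₀]; exact y.2
  have hz₀comm : z₀ ∈ ⁅B, B⁆ := by
    rw [← Subgroup.map_subtype_commutator, hz₀]; exact ⟨y, hy.1, rfl⟩
  have hz₀cent : ∀ b ∈ B, b * z₀ = z₀ * b := by
    intro b hb
    have := Subgroup.mem_center_iff.mp hy.2 ⟨b, hb⟩
    rw [hz₀]; exact congrArg Subtype.val this
  have hz₀1 : z₀ ≠ 1 := by
    intro h
    apply hy1
    apply Subtype.ext
    apply Subtype.ext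
    rw [← hz₀, h]; rfl
  obtain ⟨m, hm⟩ := (IsPGroup.iff_orderOf.mp hBp) ⟨z₀, hz₀B⟩
  rw [Subgroup.orderOf_mk] at hm
  have hm0 : m ≠ 0 := by
    rintro rfl
    rw [pow_zero, orderOf_eq_one_iff] at hm
    exact hz₀1 hm
  obtain ⟨k, rfl⟩ := Nat.exists_eq_succ_of_ne_zero hm0
  obtain ⟨z, hzdef⟩ : ∃ z, z = z₀ ^ p ^ k := ⟨_, rfl⟩
  have hzp : z ^ p = 1 := by
    rw [hzdef, ← pow_mul, ← pow_succ, ← hm, pow_orderOf_eq_one]
  have hz1 : z ≠ 1 := by
    intro h
    rw [hzdef] at h
    have hd := orderOf_dvd_of_pow_eq_one h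
    rw [hm] at hd
    have := (Nat.pow_dvd_pow_iff_le_right hp.out.one_lt).mp hd
    omega
  have hzo : orderOf z = p := orderOf_eq_prime hzp hz1
  have hzB : z ∈ B := by rw [hzdef]; exact B.pow_mem hz₀B _
  have hzcomm : z ∈ ⁅B, B⁆ := by rw [hzdef]; exact Subgroup.pow_mem _ hz₀comm _
  have hzcent : ∀ b ∈ B, b * z = z * b := by
    intro b hb
    rw [hzdef]
    exact ((show Commute b z₀ from hz₀cent b hb).pow_right _).eq
  have hquad : (toEnd F W z - 1) ^ 2 = 0 := by
    apply LinearMap.ext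
    intro w
    rw [pow_two, Module.End.mul_apply]
    simp only [LinearMap.sub_apply, toEnd_apply, Module.End.one_apply, map_sub,
      LinearMap.zero_apply]
    have := h1 z hzcomm z hzcomm w
    rw [map_sub] at this
    rw [this, sub_self]
  by_cases hp3 : p = 3
  swap
  · have hp5 := hp.out.five_le_of_ne_two_of_ne_three hp2 hp3
    have key := Cfsg.Agent.Lib.Helper3.HHC10.theoremB_concrete H hsol hOp z (hBH hzB) 0
      (by rw [hzo]; simp)
    rcases key with h | ⟨q, n₀, m, hq, hn1, hn2, hm1, heq, -, h⟩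
    · apply h
      have hle : 2 ≤ p ^ (0 + 1) - 1 := by rw [zero_add, pow_one]; omega
      exact pow_eq_zero_of_le hle hquad
    · have hn₀ : n₀ = 1 := by omega
      subst hn₀
      apply h
      have hle : 2 ≤ p ^ (0 + 1 - 1) * (p ^ 1 - 1) - 1 := by
        simp only [zero_add, Nat.sub_self, pow_zero, one_mul, pow_one]; omega
      exact pow_eq_zero_of_le hle hquad
  · subst hp3
    obtain ⟨N, hN⟩ : ∃ N, N = pPrimeCore 3 ↥H := ⟨_, rfl⟩
    haveI hNn : N.Normal := by rw [hN]; exact (Cfsg.Agent.Lib.Helper2.pPrimeCore_mem 3).1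
    have hNc : (Nat.card N).Coprime 3 := by
      rw [hN]; exact (Cfsg.Agent.Lib.Helper2.pPrimeCore_mem 3).2
    have hCN : Subgroup.centralizer (N : Set H) ≤ N := by
      rw [hN]; exact Cfsg.Agent.Lib.Helper2.centralizer_pPrimeCore_le 3 hsol hOp
    obtain ⟨y', hy'⟩ : ∃ y' : H, y' = ⟨z, hBH hzB⟩ := ⟨_, rfl⟩
    have hy'o : orderOf y' = 3 := by rw [hy', Subgroup.orderOf_mk]; exact hzo
    have hy'N : y' ∉ N := by
      intro h
      have hd := Subgroup.orderOf_dvd_natCard N h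
      rw [hy'o] at hd
      have := hNc.symm.eq_one_of_dvd hd
      omega
    have hncent : ¬ N ≤ Subgroup.centralizer {y'} := by
      intro h
      apply hy'N
      apply hCN
      rw [Subgroup.mem_centralizer_iff]
      intro k hk
      have := Subgroup.mem_centralizer_iff.mp (h hk) y' rfl
      exact this.symm
    obtain ⟨X, hX⟩ : ∃ X : Subgroup H, X = B.subgroupOf H := ⟨_, rfl⟩
    have hXp : IsPGroup 3 X := by rw [hX]; exact hBp.comap_subtype
    have hXK : X ≤ Subgroup.normalizer (N : Set H) := by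
      rw [Subgroup.normalizer_eq_top]; exact le_top
    have hcop : (Nat.card X).Coprime (Nat.card N) := by
      obtain ⟨n, hn⟩ := hXp.exists_card_eq
      rw [hn]
      exact (hNc.pow_right n).symm
    haveI : Group.IsNilpotent X := hXp.isNilpotent
    have hsolv : Group.IsSolvable X := IsNilpotent.to_isSolvable
    obtain ⟨q, hq, P, hnorm, hnc⟩ :=
      Cfsg.Agent.Lib.Helper1.HH.exists_invariant_sylow_not_centralized X N hXK hcop
        (Or.inl hsolv) y' hncent
    obtain ⟨Q₀', hQ₀'⟩ : ∃ Q₀' : Subgroup H, Q₀' = (P : Subgroup N).map N.subtype := ⟨_, rfl⟩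
    rw [← hQ₀'] at hnorm hnc
    obtain ⟨Q₀, hQ₀⟩ : ∃ Q₀, Q₀ = Q₀'.map H.subtype := ⟨_, rfl⟩
    have hQ'p : IsPGroup q Q₀' := by rw [hQ₀']; exact P.isPGroup'.map N.subtype
    have hQp : IsPGroup q Q₀ := by rw [hQ₀]; exact hQ'p.map H.subtype
    have hQ'N : Q₀' ≤ N := by rw [hQ₀']; exact Subgroup.map_subtype_le _
    have hq3 : 3 ≠ q := by
      intro hpq
      rcases hQ'p.card_eq_or_dvd with h1' | h1'
      · apply hnc
        rw [Subgroup.eq_bot_of_card_eq Q₀' h1']
        exact bot_le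
      · have hd : q ∣ Nat.card N := h1'.trans (Subgroup.card_dvd_of_le hQ'N)
        rw [← hpq] at hd
        have := hNc.symm.eq_one_of_dvd hd
        omega
    have hQ₀H : Q₀ ≤ H := by rw [hQ₀]; exact Subgroup.map_subtype_le _
    haveI : Finite Q₀ := Finite.of_injective _ (Subgroup.inclusion_injective hQ₀H)
    have hBNQ : B ≤ Subgroup.normalizer (Q₀ : Set (W ≃ₗ[F] W)) := by
      apply normalizer_of_conj_le
      intro b hb t ht
      rw [hQ₀] at ht ⊢
      obtain ⟨t', ht', rfl⟩ := ht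
      have hbX : (⟨b, hBH hb⟩ : H) ∈ X := by rw [hX]; exact Subgroup.mem_subgroupOf.mpr hb
      have := (Subgroup.mem_normalizer_iff.mp (hnorm hbX) t').mp ht'
      exact ⟨_, this, rfl⟩
    have hncQ : ¬ Q₀ ≤ Subgroup.centralizer {z} := by
      intro hle
      apply hnc
      intro g' hg'
      rw [Subgroup.mem_centralizer_singleton_iff]
      apply Subtype.ext
      have h5 : (g' : W ≃ₗ[F] W) ∈ Q₀ := by rw [hQ₀]; exact ⟨g', hg', rfl⟩
      have := Subgroup.mem_centralizer_singleton_iff.mp (hle h5)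
      rw [hy']; exact this
    have hzQ₀ := fun t => (Subgroup.mem_normalizer_iff.mp (hBNQ hzB)) t
    obtain ⟨hq2, -⟩ := quad_dichotomy q hq3 Q₀ hQp z hzQ₀ hzp hquad hncQ
    subst hq2
    have hcfg : Cfg Q₀ B z :=
      { finQ := inferInstance
        finB := inferInstance
        q2 := hQp
        b3 := hBp
        norm := hBNQ
        zB := hzB
        zcent := hzcent
        zcomm := hzcomm
        z3 := hzp
        quad := quad_vec z hquad
        h2 := by
          intro b hb w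
          have h3' := add_add_self_eq_zero F (b w)
          have e : b (b w) + b w + w = b (b w - w) - (b w - w) := by
            rw [map_sub]
            calc b (b w) + b w + w = (b (b w) - b w - (b w - w)) + (b w + b w + b w) := by abel
              _ = b (b w) - b w - (b w - w) := by rw [h3', add_zero]
          rw [e]
          exact h2 z hzcomm b hb w }
    exact hncQ (centralizes hcfg)

end Cfsg.Agent.Lib.Helper3.DL8
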