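import Cfsg.Agent.Lib.Helper3.DL8
import Cfsg.Agent.Lib.Helper1.PConstrainedOfPSolvable
import Cfsg.Agent.Lib.Helper1.PSolvSub
import Cfsg.Agent.Lib.Helper2.Involves

/-!
# The key lemma in a group with a self-centralizing elementary abelian `O_p`

If `V = O_p(L)` is elementary abelian and self-centralizing in the `p`-soluble group `L` (`p` odd),
and `Bs` is a `p`-subgroup normalized by `V` whose derived subgroup is abelian, then the derived
subgroup of `Bs` lies in `V`.
-/

namespace Cfsg.Agent.Lib.Helper3.DL9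

open Cfsg
open scoped IsMulCommutative commutatorElement

theorem conj_mem_commutator {L : Type*} [Group L] (Bs : Subgroup L) (v : L)
    (hv : ∀ b ∈ Bs, v * b * v⁻¹ ∈ Bs) : ∀ t ∈ ⁅Bs, Bs⁆, v * t * v⁻¹ ∈ ⁅Bs, Bs⁆ := by
  intro t ht
  have hle : Bs.map (MulAut.conj v).toMonoidHom ≤ Bs := by
    rintro _ ⟨b, hb, rfl⟩
    exact hv b hb
  have h1 : (⁅Bs, Bs⁆).map (MulAut.conj v).toMonoidHom ≤ ⁅Bs, Bs⁆ := by
    rw [Subgroup.map_commutator]
    exact Subgroup.commutator_mono hle hle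
  exact h1 ⟨t, ht, rfl⟩

theorem derived_le_of_selfCentralizing {L : Type*} [Group L] [Finite L] (p : ℕ)
    [hp : Fact p.Prime] (hp2 : p ≠ 2)
    (V : Subgroup L) [hVn : V.Normal] (hVc : ∀ a ∈ V, ∀ b ∈ V, a * b = b * a)
    (hVp : ∀ a ∈ V, a ^ p = 1) (hcent : Subgroup.centralizer (V : Set L) ≤ V)
    (hOp : ∀ N : Subgroup L, N.Normal → IsPGroup p N → N ≤ V)
    (hsol : IsPSolvable p L)
    (Bs : Subgroup L) (hBp : IsPGroup p Bs) (hVB : V ≤ Subgroup.normalizer (Bs : Set L))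
    (hAab : ∀ a ∈ ⁅Bs, Bs⁆, ∀ a' ∈ ⁅Bs, Bs⁆, a * a' = a' * a) :
    ⁅Bs, Bs⁆ ≤ V := by
  haveI : IsMulCommutative V := ⟨⟨fun a b => Subtype.ext (hVc a a.2 b b.2)⟩⟩
  have instMod : Module (ZMod p) (Additive V) := AddCommGroup.zmodModule (n := p) (by
    intro x
    obtain ⟨a, rfl⟩ := Additive.ofMul.surjective x
    have ha : a ^ p = 1 := Subtype.ext (by simpa using hVp a a.2)
    rw [← ofMul_pow, ha, ofMul_one])
  -- the representation
  obtain ⟨ρ, hρ⟩ : ∃ ρ : L →* (Additive V ≃ₗ[ZMod p] Additive V), ∀ (g : L) (a : Additive V),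
      ρ g a = Additive.ofMul (MulAut.conjNormal g (Additive.toMul a)) := by
    refine ⟨{ toFun := fun g => (MulEquiv.toAdditive (MulAut.conjNormal g : V ≃* V)).toLinearEquiv
                (fun c x => ZMod.map_smul _ c x)
              map_one' := ?_
              map_mul' := ?_ }, fun _ _ => rfl⟩
    · apply LinearEquiv.ext
      intro a
      show Additive.ofMul (MulAut.conjNormal (1 : L) (Additive.toMul a)) = a
      rw [map_one]; rfl
    · intro g h
      apply LinearEquiv.ext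
      intro a
      show Additive.ofMul (MulAut.conjNormal (g * h) (Additive.toMul a)) =
        Additive.ofMul (MulAut.conjNormal g (Additive.toMul
          (Additive.ofMul (MulAut.conjNormal h (Additive.toMul a)))))
      rw [map_mul]; rfl
  have hker1 : ∀ g, ρ g = 1 → g ∈ V := by
    intro g hg
    apply hcent
    rw [Subgroup.mem_centralizer_iff]
    intro a ha
    have h1 := hρ g (Additive.ofMul ⟨a, ha⟩)
    rw [hg] at h1
    have h2 : (⟨a, ha⟩ : V) = MulAut.conjNormal g ⟨a, ha⟩ := by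
      have := congrArg Additive.toMul h1
      simpa using this
    have h3 := congrArg Subtype.val h2
    rw [MulAut.conjNormal_apply] at h3
    simp only at h3
    calc a * g = g * a * g⁻¹ * g := by rw [← h3]
      _ = g * a := by group
  have hker2 : ∀ g ∈ V, ρ g = 1 := by
    intro g hg
    apply LinearEquiv.ext
    intro a
    rw [hρ]
    have : MulAut.conjNormal g (Additive.toMul a) = Additive.toMul a := by
      apply Subtype.ext
      rw [MulAut.conjNormal_apply, hVc g hg _ (Additive.toMul a).2, mul_inv_cancel_right]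
    rw [this]; rfl
  obtain ⟨H, hH⟩ : ∃ H, H = ρ.range := ⟨_, rfl⟩
  have hρH : ∀ g, ρ g ∈ H := by intro g; rw [hH]; exact ⟨g, rfl⟩
  obtain ⟨ρr, hρr⟩ : ∃ ρr : L →* H, ∀ g, ((ρr g : H) : Additive V ≃ₗ[ZMod p] Additive V) = ρ g :=
    ⟨ρ.codRestrict H hρH, fun _ => rfl⟩
  have hρrs : Function.Surjective ρr := by
    rintro ⟨h, hh⟩
    rw [hH] at hh
    obtain ⟨g, rfl⟩ := hh
    exact ⟨g, Subtype.ext (hρr g)⟩
  haveI : Finite H := Finite.of_surjective ρr hρrs
  have hsolH : IsPSolvable p H :=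
    Cfsg.Agent.Lib.Helper1.isPSolvable_of_surjective p ρr hρrs hsol
  have hOpH : pCore p H = ⊥ := by
    haveI := (Cfsg.Agent.Lib.Helper2.pCore_mem (G := H) p).1
    have hNV : (pCore p H).comap ρr ≤ V := by
      apply hOp _ inferInstance
      rintro ⟨m, hm⟩
      obtain ⟨k, hk⟩ := (Cfsg.Agent.Lib.Helper2.pCore_isPGroup (G := H) p) ⟨ρr m, hm⟩
      have h1 : (ρr m) ^ (p ^ k) = 1 := by
        have := congrArg Subtype.val hk
        simpa using this
      have h2 : ρ (m ^ (p ^ k)) = 1 := by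
        rw [← hρr, map_pow, h1]; rfl
      have h3 := hVp _ (hker1 _ h2)
      refine ⟨k + 1, Subtype.ext ?_⟩
      show m ^ (p ^ (k + 1)) = 1
      rw [pow_succ, pow_mul, h3]
    rw [eq_bot_iff]
    intro h hh
    obtain ⟨n, rfl⟩ := hρrs h
    have hn : n ∈ V := hNV hh
    rw [Subgroup.mem_bot]
    apply Subtype.ext
    rw [hρr, hker2 n hn]; rfl
  -- generic steps
  have hstep : ∀ (g : L) (x : V), ρ g (Additive.ofMul x) - Additive.ofMul x =
      Additive.ofMul (MulAut.conjNormal g x / x) := by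
    intro g x
    rw [hρ]; rfl
  have hcoe : ∀ (g : L) (x : V),
      ((MulAut.conjNormal g x / x : V) : L) = g * x * g⁻¹ * (x : L)⁻¹ := by
    intro g x
    rw [Subgroup.coe_div, MulAut.conjNormal_apply, div_eq_mul_inv]
  have hfix : ∀ (g : L) (x : V), g * (x : L) = x * g → ρ g (Additive.ofMul x) = Additive.ofMul x := by
    intro g x hgx
    rw [hρ]
    congr 1
    apply Subtype.ext
    rw [MulAut.conjNormal_apply]
    show g * (x : L) * g⁻¹ = x
    rw [hgx, mul_inv_cancel_right]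
  -- V normalizes Bs and its derived subgroup
  have hVBs : ∀ v ∈ V, ∀ b ∈ Bs, v * b * v⁻¹ ∈ Bs := fun v hv b hb =>
    (Subgroup.mem_normalizer_iff.mp (hVB hv) b).mp hb
  have hVA : ∀ v ∈ V, ∀ t ∈ ⁅Bs, Bs⁆, v * t * v⁻¹ ∈ ⁅Bs, Bs⁆ := fun v hv =>
    conj_mem_commutator Bs v (hVBs v hv)
  obtain ⟨B, hB⟩ : ∃ B, B = Bs.map ρ := ⟨_, rfl⟩
  have hBH : B ≤ H := by rw [hB, hH]; exact Subgroup.map_le_range ρ Bs
  have hBcomm : ⁅B, B⁆ = (⁅Bs, Bs⁆).map ρ := by rw [hB, Subgroup.map_commutator]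
  have key := Cfsg.Agent.Lib.Helper3.DL8.commutator_eq_bot (F := ZMod p) (p := p) hp2 H hsolH hOpH
    B hBH (by rw [hB]; exact hBp.map ρ)
    (by
      intro a ha a' ha' w
      rw [hBcomm] at ha ha'
      obtain ⟨α, hα, rfl⟩ := ha
      obtain ⟨α', hα', rfl⟩ := ha'
      obtain ⟨v, rfl⟩ := Additive.ofMul.surjective w
      rw [hstep]
      apply hfix
      rw [hcoe]
      have hc : α' * (v : L) * α'⁻¹ * (v : L)⁻¹ ∈ ⁅Bs, Bs⁆ := by
        have h1 := hVA v v.2 α'⁻¹ (Subgroup.inv_mem _ hα')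
        have := Subgroup.mul_mem _ hα' h1
        have e : α' * ((v : L) * α'⁻¹ * (v : L)⁻¹) = α' * (v : L) * α'⁻¹ * (v : L)⁻¹ := by group
        rwa [e] at this
      exact hAab α hα _ hc)
    (by
      intro a ha b hb w
      rw [hBcomm] at ha
      obtain ⟨α, hα, rfl⟩ := ha
      rw [hB] at hb
      obtain ⟨β, hβ, rfl⟩ := hb
      obtain ⟨v, rfl⟩ := Additive.ofMul.surjective w
      rw [hstep, hstep]
      apply hfix
      rw [hcoe]
      have hx1 : ((MulAut.conjNormal β v / v : V) : L) ∈ Bs := by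
        rw [hcoe]
        have h1 := hVBs v v.2 β⁻¹ (Bs.inv_mem hβ)
        have := Bs.mul_mem hβ h1
        have e : β * ((v : L) * β⁻¹ * (v : L)⁻¹) = β * (v : L) * β⁻¹ * (v : L)⁻¹ := by group
        rwa [e] at this
      have hc : β * ((MulAut.conjNormal β v / v : V) : L) * β⁻¹ *
          ((MulAut.conjNormal β v / v : V) : L)⁻¹ ∈ ⁅Bs, Bs⁆ := by
        have := Subgroup.commutator_mem_commutator hβ hx1
        rwa [commutatorElement_def] at this
      exact hAab α hα _ hc)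
  intro a ha
  apply hker1
  have h1 : ρ a ∈ ⁅B, B⁆ := by rw [hBcomm]; exact ⟨a, ha, rfl⟩
  rw [key, Subgroup.mem_bot] at h1
  exact h1

end Cfsg.Agent.Lib.Helper3.DL9
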