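import Mathlib
import Cfsg.Agent.Lib.Helper3.Dade5

set_option autoImplicit false
set_option linter.unusedSectionVars false
set_option linter.style.haveILetI false

namespace Cfsg.Agent.Lib.Helper3.Dade
open Cfsg Cfsg.Agent.Lib.Helper6 Cfsg.Agent.Lib.Helper3.RelM
open scoped ComplexConjugate

section X
variable {G : Type*} [Group G] [Fintype G]

theorem exists_extension_to_elementary (p : ℕ) (hp : p.Prime) (N : Subgroup G) [hN : N.Normal]
    (hind : ∃ k : ℕ, N.index = p ^ k) (E : Subgroup G) (hE : Cfsg.IsElementary p E)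
    (R : Subgroup G) (hcentR : ∀ x ∈ R ⊓ N, ∀ y ∈ R, x * y = y * x)
    (hlinR : ∀ lam : ↥(R ⊓ N) → ℂ, Cfsg.IsCharacter ↥(R ⊓ N) lam → lam 1 = 1 →
      ∃ μ : ↥R → ℂ, Cfsg.IsCharacter ↥R μ ∧ μ 1 = 1 ∧
        ∀ x : ↥(R ⊓ N), μ ⟨(x : G), x.2.1⟩ = lam x)
    (e₁ e₂ : ℕ) (hpow₁ : ∀ y y' : E, (y * y') ^ e₁ = y ^ e₁ * y' ^ e₁)
    (hpow₂ : ∀ y y' : E, (y * y') ^ e₂ = y ^ e₂ * y' ^ e₂)
    (h12 : ∀ y : E, y ^ e₁ * y ^ e₂ = y)
    (hreg : ∀ y : E, ¬ p ∣ orderOf (y ^ e₁)) (hR : ∀ y : E, (y : G) ^ e₂ ∈ R)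
    (φ : ↥(E ⊓ N) → ℂ) (hφ : Cfsg.IsIrrCharacter ↥(E ⊓ N) φ) :
    ∃ φh : E → ℂ, Cfsg.IsCharacter E φh ∧ φh 1 = 1 ∧ ∀ d : ↥(E ⊓ N), φh ⟨d, d.2.1⟩ = φ d := by
  classical
  have : Fact p.Prime := ⟨hp⟩
  -- the p'-part is central in E
  obtain ⟨x₀, hx₀c, hx₀p, k, hk⟩ := hE
  have hC_normal : (Subgroup.zpowers x₀).Normal := by
    constructor
    intro c hc y
    obtain ⟨i, rfl⟩ := Subgroup.mem_zpowers_iff.1 hc
    have h1 : Commute x₀ y := (Subgroup.mem_center_iff.1 hx₀c y).symm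
    have h2 : y * x₀ ^ i * y⁻¹ = x₀ ^ i := by
      have := (h1.zpow_left i).eq
      rw [← this]; group
    rw [h2]; exact Subgroup.zpow_mem_zpowers x₀ i
  have hcent₁ : ∀ y z : E, y ^ e₁ * z = z * y ^ e₁ := by
    intro y z
    have hmem : y ^ e₁ ∈ Subgroup.zpowers x₀ :=
      mem_of_pRegular_of_index (Subgroup.zpowers x₀) hp ⟨k, hk⟩ _ (hreg y)
    obtain ⟨i, hi⟩ := Subgroup.mem_zpowers_iff.1 hmem
    have h1 : Commute x₀ z := (Subgroup.mem_center_iff.1 hx₀c z).symm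
    rw [← hi]
    exact (h1.zpow_left i).eq
  -- membership
  have hN₁ : ∀ y : E, (y : G) ^ e₁ ∈ N := by
    intro y
    apply mem_of_pRegular_of_index N hp hind
    have h1 := hreg y
    have h2 : orderOf (y ^ e₁) = orderOf ((y : G) ^ e₁) := by
      rw [← Subgroup.orderOf_coe]; rfl
    rw [← h2]; exact h1
  -- D is abelian
  have hDcomm : ∀ d d' : ↥(E ⊓ N), d * d' = d' * d := by
    intro d d'
    apply Subtype.ext
    simp only [Subgroup.coe_mul]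
    let y : E := ⟨d, d.2.1⟩
    let y' : E := ⟨d', d'.2.1⟩
    have hy : (d : G) = (y : G) ^ e₁ * (y : G) ^ e₂ := by
      have := congrArg (fun z : E => (z : G)) (h12 y)
      simpa using this.symm
    have hy' : (d' : G) = (y' : G) ^ e₁ * (y' : G) ^ e₂ := by
      have := congrArg (fun z : E => (z : G)) (h12 y')
      simpa using this.symm
    have c1 : ∀ z : E, (y : G) ^ e₁ * (z : G) = (z : G) * (y : G) ^ e₁ := by
      intro z
      have := congrArg (fun z : E => (z : G)) (hcent₁ y z)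
      simpa using this
    have c1' : ∀ z : E, (y' : G) ^ e₁ * (z : G) = (z : G) * (y' : G) ^ e₁ := by
      intro z
      have := congrArg (fun z : E => (z : G)) (hcent₁ y' z)
      simpa using this
    have hmemRN : (y : G) ^ e₂ ∈ R ⊓ N := ⟨hR y, N.pow_mem d.2.2 e₂⟩
    have c2 : (y : G) ^ e₂ * (y' : G) ^ e₂ = (y' : G) ^ e₂ * (y : G) ^ e₂ :=
      hcentR _ hmemRN _ (hR y')
    have c3 := c1 (y' ^ e₂)
    have c4 := c1' (y ^ e₂)
    have c5 := c1 (y' ^ e₁)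
    simp only [SubgroupClass.coe_pow] at c3 c4 c5
    rw [hy, hy']
    calc (y : G) ^ e₁ * (y : G) ^ e₂ * ((y' : G) ^ e₁ * (y' : G) ^ e₂)
        = (y : G) ^ e₁ * ((y : G) ^ e₂ * (y' : G) ^ e₁) * (y' : G) ^ e₂ := by group
      _ = (y : G) ^ e₁ * ((y' : G) ^ e₁ * (y : G) ^ e₂) * (y' : G) ^ e₂ := by rw [c4]
      _ = ((y : G) ^ e₁ * (y' : G) ^ e₁) * ((y : G) ^ e₂ * (y' : G) ^ e₂) := by group
      _ = ((y' : G) ^ e₁ * (y : G) ^ e₁) * ((y' : G) ^ e₂ * (y : G) ^ e₂) := by rw [c5, c2]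
      _ = (y' : G) ^ e₁ * ((y : G) ^ e₁ * (y' : G) ^ e₂) * (y : G) ^ e₂ := by group
      _ = (y' : G) ^ e₁ * ((y' : G) ^ e₂ * (y : G) ^ e₁) * (y : G) ^ e₂ := by rw [c3]
      _ = (y' : G) ^ e₁ * (y' : G) ^ e₂ * ((y : G) ^ e₁ * (y : G) ^ e₂) := by group
  have hφ1 : φ 1 = 1 := apply_one_eq_one_of_comm hDcomm hφ
  have hφch := IsIrrCharacter.isCharacter hφ
  have hφmul := IsCharacter.mul_of_apply_one_eq_one hφch hφ1
  -- R ⊓ N is abelian
  have hAcomm : ∀ a b : ↥(R ⊓ N), a * b = b * a := by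
    intro a b
    apply Subtype.ext
    simp only [Subgroup.coe_mul]
    exact hcentR a a.2 b b.2.1
  -- extend φ from (E ⊓ N) ⊓ (R ⊓ N) to R ⊓ N
  let B : Subgroup ↥(R ⊓ N) := E.subgroupOf (R ⊓ N)
  let ι : B →* ↥(E ⊓ N) :=
    { toFun := fun z => ⟨((z : ↥(R ⊓ N)) : G), ⟨z.2, z.1.2.2⟩⟩
      map_one' := Subtype.ext rfl
      map_mul' := fun _ _ => Subtype.ext rfl }
  let β : B →* ℂˣ := (linearCharHom hφch hφ1).comp ι
  obtain ⟨lam, hlam⟩ := exists_linear_extension_abelian hAcomm B β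
  have hlamch : IsCharacter ↥(R ⊓ N) (fun z => (lam z : ℂ)) :=
    IsIrrCharacter.isCharacter (isIrrCharacter_of_hom lam)
  obtain ⟨μ, hμ, hμ1, hμlam⟩ := hlinR (fun z => (lam z : ℂ)) hlamch (by simp)
  -- the two projections
  let π₁ : E →* ↥(E ⊓ N) :=
    { toFun := fun y => ⟨(y : G) ^ e₁, ⟨E.pow_mem y.2 e₁, hN₁ y⟩⟩
      map_one' := by apply Subtype.ext; simp
      map_mul' := fun y y' => by
        apply Subtype.ext
        have := congrArg (fun z : E => (z : G)) (hpow₁ y y')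
        simpa using this }
  let π₂ : E →* ↥R :=
    { toFun := fun y => ⟨(y : G) ^ e₂, hR y⟩
      map_one' := by apply Subtype.ext; simp
      map_mul' := fun y y' => by
        apply Subtype.ext
        have := congrArg (fun z : E => (z : G)) (hpow₂ y y')
        simpa using this }
  have hch₁ : IsCharacter E (fun y => φ (π₁ y)) := IsCharacter.comp π₁ hφch
  have hch₂ : IsCharacter E (fun y => μ (π₂ y)) := IsCharacter.comp π₂ hμ
  refine ⟨(fun y => φ (π₁ y)) * (fun y => μ (π₂ y)), IsCharacter.mul hch₁ hch₂, ?_, ?_⟩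
  · simp only [Pi.mul_apply, map_one]
    rw [hφ1, hμ1, one_mul]
  · intro d
    simp only [Pi.mul_apply]
    let y : E := ⟨d, d.2.1⟩
    have hmemRN : (d : G) ^ e₂ ∈ R ⊓ N := ⟨hR y, N.pow_mem d.2.2 e₂⟩
    have hmemE : (d : G) ^ e₂ ∈ E := E.pow_mem d.2.1 e₂
    -- μ (π₂ y) = lam ⟨d^e₂⟩ = φ ⟨d^e₂⟩
    have h1 : μ (π₂ y) = (lam ⟨(d : G) ^ e₂, hmemRN⟩ : ℂ) := hμlam ⟨(d : G) ^ e₂, hmemRN⟩
    have h2 : (lam ⟨(d : G) ^ e₂, hmemRN⟩ : ℂ) = φ ⟨(d : G) ^ e₂, ⟨hmemE, hmemRN.2⟩⟩ := by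
      have h3 := hlam ⟨⟨(d : G) ^ e₂, hmemRN⟩, hmemE⟩
      rw [h3]
      simp only [β, MonoidHom.comp_apply]
      rw [linearCharHom_apply]
      rfl
    change φ (π₁ y) * μ (π₂ y) = φ d
    rw [h1, h2, ← hφmul]
    congr 1
    apply Subtype.ext
    have := congrArg (fun z : E => (z : G)) (h12 y)
    simp only [Subgroup.coe_mul, SubgroupClass.coe_pow] at this
    exact this

end X

end Cfsg.Agent.Lib.Helper3.Dade
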