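import Mathlib
import Cfsg.Agent.Lib.Helper3.Dade6
import Cfsg.Agent.Lib.Helper6.Regular
import Cfsg.Agent.S0887

set_option autoImplicit false
set_option linter.unusedSectionVars false
set_option linter.style.haveILetI false

namespace Cfsg.Agent.Lib.Helper3.Dade
open Cfsg Cfsg.Agent.Lib.Helper6 Cfsg.Agent.Lib.Helper3.RelM Cfsg.Agent.Lib.Helper3.PiSec
open scoped ComplexConjugate

section F
variable {G : Type*} [Group G] [Fintype G]

theorem indFun_of_invariant (N : Subgroup G) [hN : N.Normal] (ϑ : N → ℂ)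
    (hinv : ∀ (g : G) (n : N), ϑ ⟨g * n * g⁻¹, hN.conj_mem (n : G) n.2 g⟩ = ϑ n) (x : G) :
    indFun N ϑ x = (N.index : ℂ) * extendByZero N ϑ x := by
  classical
  unfold indFun
  have h1 : ∀ g : G, extendByZero N ϑ (g⁻¹ * x * g) = extendByZero N ϑ x := by
    intro g
    by_cases hx : x ∈ N
    · have h2 : g⁻¹ * x * g ∈ N := by
        have := hN.conj_mem x hx g⁻¹
        simpa using this
      rw [extendByZero_of_mem N ϑ h2, extendByZero_of_mem N ϑ hx]
      have h3 := hinv g⁻¹ ⟨x, hx⟩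
      rw [← h3]
      congr 1
      apply Subtype.ext
      simp
    · have h2 : g⁻¹ * x * g ∉ N := by
        intro h
        apply hx
        have := hN.conj_mem _ h g
        simpa [mul_assoc] using this
      rw [extendByZero_of_not_mem N ϑ h2, extendByZero_of_not_mem N ϑ hx]
  rw [Finset.sum_congr rfl (fun g _ => h1 g), Finset.sum_const, Finset.card_univ, nsmul_eq_mul,
    ← Nat.card_eq_fintype_card, ← mul_assoc]
  congr 1
  have hN0 : (Nat.card N : ℂ) ≠ 0 := by exact_mod_cast (Nat.card_pos (α := N)).ne'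
  rw [← N.card_mul_index]
  push_cast
  field_simp

theorem extends_main (p : ℕ) [hpf : Fact p.Prime] (N : Subgroup G) [hN : N.Normal]
    (hind : ∃ k : ℕ, N.index = p ^ k) (P : Sylow p G)
    (hcent : ∀ x ∈ (P : Subgroup G) ⊓ N, ∀ y ∈ (P : Subgroup G), x * y = y * x)
    (hlin : ∀ lam : ↥((P : Subgroup G) ⊓ N) → ℂ, Cfsg.IsCharacter ↥((P : Subgroup G) ⊓ N) lam →
      lam 1 = 1 → ∃ μ : ↥(P : Subgroup G) → ℂ, Cfsg.IsCharacter ↥(P : Subgroup G) μ ∧ μ 1 = 1 ∧
        ∀ x : ↥((P : Subgroup G) ⊓ N), μ ⟨(x : G), x.2.1⟩ = lam x)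
    (ϑ : N → ℂ) (hϑ : Cfsg.IsIrrCharacter N ϑ)
    (hinv : ∀ (g : G) (n : N), ϑ ⟨g * n * g⁻¹, hN.conj_mem (n : G) n.2 g⟩ = ϑ n) :
    ∃ χ : G → ℂ, Cfsg.IsIrrCharacter G χ ∧ ∀ n : N, χ n = ϑ n := by
  classical
  have hp : p.Prime := hpf.out
  have : Fintype (IrrCharacter G) := Fintype.ofFinite _
  obtain ⟨E, φ, hE, hsup, hφ, _, m, hm, hmφ⟩ := dade_main p hp N hind ϑ hϑ hinv
  rw [finsum_eq_sum_of_fintype] at hmφ
  -- exponents
  have hE0 : Nat.card E ≠ 0 := Nat.card_pos.ne'
  set mE := ordProj[p] (Nat.card E) with hmE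
  set nE := ordCompl[p] (Nat.card E) with hnE
  have hmn : Nat.card E = mE * nE := (Nat.ordProj_mul_ordCompl_eq_self (Nat.card E) p).symm
  have hpn : Nat.Coprime p nE := Nat.coprime_ordCompl hp hE0
  have hcop : Nat.Coprime mE nE := Nat.Coprime.pow_left _ hpn
  have hnp : ¬ p ∣ nE := Nat.not_dvd_ordCompl hp hE0
  let e₁ : ℕ := (Nat.chineseRemainder hcop 0 1 : ℕ)
  have he₁ := (Nat.chineseRemainder hcop 0 1).2
  have hem₁ : mE ∣ e₁ := (Nat.modEq_zero_iff_dvd).1 he₁.1
  have hen₁ : e₁ ≡ 1 [MOD nE] := he₁.2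
  let e₂ : ℕ := (Nat.chineseRemainder hcop 1 0 : ℕ)
  have he₂ := (Nat.chineseRemainder hcop 1 0).2
  have hem₂ : e₂ ≡ 1 [MOD mE] := he₂.1
  have hen₂ : nE ∣ e₂ := (Nat.modEq_zero_iff_dvd).1 he₂.2
  have hpow₁ : ∀ y y' : E, (y * y') ^ e₁ = y ^ e₁ * y' ^ e₁ :=
    pow_mul_of_isElementary p hp hE mE nE e₁ (hmn ▸ dvd_rfl) hcop hem₁ hen₁
  have hpow₂ : ∀ y y' : E, (y * y') ^ e₂ = y ^ e₂ * y' ^ e₂ :=
    pow_mul_of_isElementary p hp hE nE mE e₂ (by rw [hmn, mul_comm]) hcop.symm hen₂ hem₂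
  have hord : ∀ y : E, orderOf y ∣ mE * nE := fun y => hmn ▸ orderOf_dvd_natCard y
  have h12 : ∀ y : E, y ^ e₁ * y ^ e₂ = y := by
    intro y
    rw [← pow_add]
    have h1 : e₁ + e₂ ≡ 1 [MOD mE * nE] := by
      rw [← Nat.modEq_and_modEq_iff_modEq_mul hcop]
      constructor
      · have : e₁ ≡ 0 [MOD mE] := (Nat.modEq_zero_iff_dvd).2 hem₁
        simpa using this.add hem₂
      · have : e₂ ≡ 0 [MOD nE] := (Nat.modEq_zero_iff_dvd).2 hen₂
        simpa using hen₁.add this
    have h2 : e₁ + e₂ ≡ 1 [MOD orderOf y] := h1.of_dvd (hord y)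
    conv_rhs => rw [← pow_one y]
    exact pow_eq_pow_iff_modEq.2 h2
  have hreg : ∀ y : E, ¬ p ∣ orderOf (y ^ e₁) := by
    intro y hpy
    have h1 : orderOf (y ^ e₁) ∣ nE := by
      apply orderOf_dvd_of_pow_eq_one
      rw [← pow_mul]
      apply orderOf_dvd_iff_pow_eq_one.1
      obtain ⟨j, hj⟩ := hem₁
      refine (hord y).trans ⟨j, ?_⟩
      rw [hj]; ring
    exact hnp (hpy.trans h1)
  -- the p-part lies in a conjugate of P
  let π₂ : E →* E := ⟨⟨fun y => y ^ e₂, one_pow e₂⟩, hpow₂⟩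
  let Q' : Subgroup G := (π₂.range).map E.subtype
  have hQ' : IsPGroup p Q' := by
    rintro ⟨z, hz⟩
    obtain ⟨w, ⟨y, rfl⟩, rfl⟩ := hz
    refine ⟨(Nat.card E).factorization p, ?_⟩
    apply Subtype.ext
    simp only [SubgroupClass.coe_pow, OneMemClass.coe_one]
    change ((π₂ y : E) : G) ^ _ = 1
    have h1 : (π₂ y : E) ^ mE = 1 := by
      change (y ^ e₂) ^ mE = 1
      rw [← pow_mul]
      apply orderOf_dvd_iff_pow_eq_one.1
      obtain ⟨j, hj⟩ := hen₂
      refine (hord y).trans ⟨j, ?_⟩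
      rw [hj]; ring
    have h2 := congrArg (fun z : E => (z : G)) h1
    simp only [SubgroupClass.coe_pow, OneMemClass.coe_one] at h2
    exact h2
  obtain ⟨P₁, hP₁⟩ := hQ'.exists_le_sylow
  obtain ⟨g, hg⟩ := MulAction.exists_smul_eq G P P₁
  have hRmem : ∀ y : G, y ∈ (P₁ : Subgroup G) ↔ g⁻¹ * y * g ∈ (P : Subgroup G) := by
    intro y
    rw [← hg, Sylow.smul_def, Sylow.pointwise_smul_def]
    rw [Subgroup.mem_pointwise_smul_iff_inv_smul_mem]
    simp [MulAut.smul_def]
  obtain ⟨hcentR, hlinR⟩ := hyp_conj N (P : Subgroup G) hcent hlin g (P₁ : Subgroup G) hRmem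
  have hR : ∀ y : E, (y : G) ^ e₂ ∈ (P₁ : Subgroup G) := by
    intro y
    apply hP₁
    exact ⟨π₂ y, ⟨y, rfl⟩, rfl⟩
  obtain ⟨φh, hφh, hφh1, hφhD⟩ := exists_extension_to_elementary p hp N hind E hE
    (P₁ : Subgroup G) hcentR hlinR e₁ e₂ hpow₁ hpow₂ h12 hreg hR φ hφ
  -- counting
  set Θ := indFun N ϑ with hΘdef
  have hϑch := IsIrrCharacter.isCharacter hϑ
  have hΘch : IsCharacter G Θ := IsCharacter.indFun N hϑch
  have hΘ : ∀ x, Θ x = (N.index : ℂ) * extendByZero N ϑ x := indFun_of_invariant N ϑ hinv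
  have hexp := classFunction_eq_sum Θ (IsCharacter.isClassFunction hΘch)
  have he : ∀ χ : IrrCharacter G, ∃ n : ℕ, classInner Θ (χ : G → ℂ) = n :=
    fun χ => IsCharacter.classInner_nat hΘch (IsIrrCharacter.isCharacter χ.2)
  choose e he using he
  have hf : ∀ χ : IrrCharacter G, ∃ n : ℕ,
      classInner (fun y : E => (χ : G → ℂ) y) φh = n :=
    fun χ => IsCharacter.classInner_nat
      (IsCharacter.restrict E (IsIrrCharacter.isCharacter χ.2)) hφh
  choose f hf using hf
  -- inner product of Θ_E with φh, two ways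
  have hway1 : classInner (fun y : E => Θ y) φh = m := by
    unfold classInner
    have h1 : ∑ y : E, Θ y * conj (φh y)
        = (N.index : ℂ) * ∑ d : ↥(E ⊓ N), ϑ ⟨d, d.2.2⟩ * conj (φ d) := by
      let F : G → ℂ := fun x => extendByZero N ϑ x * conj (extendByZero E φh x)
      have e1 := sum_ite_mem_subgroup E F
      have e2 := sum_ite_mem_subgroup (E ⊓ N) F
      calc ∑ y : E, Θ y * conj (φh y) = (N.index : ℂ) * ∑ y : E, F y := by
            rw [Finset.mul_sum]
            apply Finset.sum_congr rfl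
            intro y _
            simp only [F]
            rw [hΘ, extendByZero_of_mem E φh y.2, mul_assoc]
        _ = (N.index : ℂ) * ∑ x : G, (if x ∈ E then F x else 0) := by rw [e1]
        _ = (N.index : ℂ) * ∑ x : G, (if x ∈ E ⊓ N then F x else 0) := by
            congr 1
            apply Finset.sum_congr rfl
            intro x _
            by_cases hxE : x ∈ E
            · by_cases hxN : x ∈ N
              · rw [if_pos hxE, if_pos ⟨hxE, hxN⟩]
              · rw [if_pos hxE, if_neg (fun h => hxN h.2)]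
                simp only [F]
                rw [extendByZero_of_not_mem N ϑ hxN, zero_mul]
            · rw [if_neg hxE, if_neg (fun h => hxE h.1)]
        _ = (N.index : ℂ) * ∑ d : ↥(E ⊓ N), F d := by rw [e2]
        _ = _ := by
            congr 1
            apply Finset.sum_congr rfl
            intro d _
            simp only [F]
            rw [extendByZero_of_mem N ϑ d.2.2, extendByZero_of_mem E φh d.2.1, hφhD]
    rw [h1]
    have hrel : N.relIndex E = N.index := by
      have h7 : N.relIndex (E ⊔ N) = N.relIndex E := Subgroup.relIndex_sup_right E N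
      rw [hsup, Subgroup.relIndex_top_right] at h7
      exact h7.symm
    have hcE : Nat.card E = Nat.card ↥(E ⊓ N) * N.index := by
      have := Subgroup.relIndex_mul_relIndex ⊥ (E ⊓ N) E bot_le inf_le_left
      rw [Subgroup.relIndex_bot_left, Subgroup.relIndex_bot_left, Subgroup.inf_relIndex_left,
        hrel] at this
      exact this.symm
    have hD0 : (Nat.card ↥(E ⊓ N) : ℂ) ≠ 0 := by
      exact_mod_cast (Nat.card_pos (α := ↥(E ⊓ N))).ne'
    have hi0 : (N.index : ℂ) ≠ 0 := by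
      exact_mod_cast (Subgroup.index_ne_zero_of_finite (H := N))
    rw [← hmφ, hcE]
    push_cast
    field_simp
  have hway2 : classInner (fun y : E => Θ y) φh
      = ((∑ χ : IrrCharacter G, e χ * f χ : ℕ) : ℂ) := by
    have h1 : (fun y : E => Θ y)
        = ∑ χ : IrrCharacter G, (e χ : ℂ) • (fun y : E => (χ : G → ℂ) y) := by
      funext y
      have := congrFun hexp (y : G)
      simp only [Finset.sum_apply, Pi.smul_apply, smul_eq_mul] at this ⊢
      rw [this]
      apply Finset.sum_congr rfl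
      intro χ _
      rw [he]
    rw [h1, classInner_sum_left]
    push_cast
    apply Finset.sum_congr rfl
    intro χ _
    rw [classInner_smul_left, hf]
  have hmsum : m = ∑ χ : IrrCharacter G, e χ * f χ := by
    have := hway1.symm.trans hway2
    exact_mod_cast this
  have hex : ∃ χ : IrrCharacter G, ¬ p ∣ e χ * f χ := by
    by_contra hcon
    push Not at hcon
    apply hm
    rw [hmsum]
    exact Finset.dvd_sum (fun χ _ => hcon χ)
  obtain ⟨χ, hχ⟩ := hex
  have hpe : ¬ p ∣ e χ := fun h => hχ (Dvd.dvd.mul_right h _)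
  have he0 : e χ ≠ 0 := by
    intro h0
    apply hpe
    rw [h0]; exact dvd_zero p
  -- χ lies over ϑ with multiplicity e χ
  have hfr : classInner Θ (χ : G → ℂ) = classInner ϑ (fun n : N => (χ : G → ℂ) n) :=
    Cfsg.Agent.S0146.result N ϑ (χ : G → ℂ) (IsIrrCharacter.isClassFunction χ.2)
  have hcon : classInner (fun n : N => (χ : G → ℂ) n) ϑ = (e χ : ℂ) := by
    rw [← classInner_conj_symm, ← hfr, he, Complex.conj_natCast]
  have hcon0 : classInner (fun n : N => (χ : G → ℂ) n) ϑ ≠ 0 := by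
    rw [hcon]; exact_mod_cast he0
  have hinv' : ∀ g : G, conjFun N hN ϑ g = ϑ := by
    intro g
    funext n
    exact hinv g n
  have hres := restrict_eq_smul_of_invariant N hN χ.2 hϑ hinv' hcon0
  rw [hcon] at hres
  obtain ⟨c, hc⟩ := IsCharacter.apply_one_eq_natCast (IsIrrCharacter.isCharacter χ.2)
  obtain ⟨d, hd⟩ := IsCharacter.apply_one_eq_natCast hϑch
  have hdvd := (Cfsg.Agent.S0887.result N (χ : G → ℂ) χ.2 ϑ hϑ hcon0 c d hc hd).2
  have hd0 : d ≠ 0 := by
    intro h0
    rw [h0] at hd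
    exact IsIrrCharacter.apply_one_ne_zero hϑ (by simpa using hd)
  have hced : c = e χ * d := by
    have h1 := congrFun hres 1
    simp only [Pi.smul_apply, smul_eq_mul, OneMemClass.coe_one] at h1
    rw [hc, hd] at h1
    exact_mod_cast h1
  have hcd : c / d = e χ := by
    rw [hced]
    exact Nat.mul_div_cancel _ (Nat.pos_of_ne_zero hd0)
  rw [hcd] at hdvd
  obtain ⟨k, hk⟩ := hind
  rw [hk] at hdvd
  obtain ⟨j, _, hj⟩ := (Nat.dvd_prime_pow hp).1 hdvd
  have he1 : e χ = 1 := by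
    rcases Nat.eq_zero_or_pos j with h0 | h0
    · rw [hj, h0, pow_zero]
    · exfalso
      apply hpe
      rw [hj]
      exact dvd_pow_self p h0.ne'
  refine ⟨χ.1, χ.2, ?_⟩
  intro n
  have h1 := congrFun hres n
  simp only [Pi.smul_apply, smul_eq_mul] at h1
  rw [h1, he1]
  simp

end F

end Cfsg.Agent.Lib.Helper3.Dade
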