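import Mathlib
import Cfsg.Agent.Lib.Lead.Fus13
import Cfsg.Agent.Lib.Helper7.GC2
import Cfsg.Agent.Lib.Helper1.FrattiniP
import Cfsg.Agent.Lib.Helper2.PGroup
import Cfsg.Agent.Lib.Helper2.FrattiniRank

/-!
# Tools for groups of order `p ^ 4` acted on by a group of automorphisms `A` with
`p ∣ |A : O_p(A)|` (towards S5188)
-/

set_option autoImplicit false
set_option maxHeartbeats 4000000
set_option maxRecDepth 100000
set_option linter.unusedVariables false
set_option linter.unusedSectionVars false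
set_option linter.style.longLine false
set_option linter.style.haveILetI false

namespace Cfsg.Agent.Lib.Helper3.E4

open Cfsg Cfsg.Agent.Lib.Helper9 Cfsg.Agent.Lib.Lead.Fus
open scoped commutatorElement

variable {G : Type*} [Group G]

/-- the chain `⊥ ≤ G1 ≤ G2 ≤ G3 ≤ ⊤` -/
def ch4 (G1 G2 G3 : Subgroup G) (j : ℕ) : Subgroup G :=
  if j = 0 then ⊥ else if j = 1 then G1 else if j = 2 then G2 else if j = 3 then G3 else ⊤

theorem ch4_zero (G1 G2 G3 : Subgroup G) : ch4 G1 G2 G3 0 = ⊥ := by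
  unfold ch4
  rw [if_pos rfl]

theorem ch4_one (G1 G2 G3 : Subgroup G) : ch4 G1 G2 G3 1 = G1 := by
  unfold ch4
  rw [if_neg (by omega), if_pos rfl]

theorem ch4_two (G1 G2 G3 : Subgroup G) : ch4 G1 G2 G3 2 = G2 := by
  unfold ch4
  rw [if_neg (by omega), if_neg (by omega), if_pos rfl]

theorem ch4_three (G1 G2 G3 : Subgroup G) : ch4 G1 G2 G3 3 = G3 := by
  unfold ch4
  rw [if_neg (by omega), if_neg (by omega), if_neg (by omega), if_pos rfl]

theorem ch4_ge (G1 G2 G3 : Subgroup G) {j : ℕ} (h : 4 ≤ j) : ch4 G1 G2 G3 j = ⊤ := by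
  unfold ch4
  rw [if_neg (by omega), if_neg (by omega), if_neg (by omega), if_neg (by omega)]

/-- No `A`-invariant chain of normal subgroups of orders `p, p², p³` when `p ∣ |A : O_p(A)|`. -/
theorem no_chain4 [Finite G] {p : ℕ} [Fact p.Prime] (hcard : Nat.card G = p ^ 4)
    (A : Subgroup (MulAut G)) (h1 : p ∣ (pCore p A).index)
    (G1 G2 G3 : Subgroup G) (n1 : G1.Normal) (n2 : G2.Normal) (n3 : G3.Normal)
    (h12 : G1 ≤ G2) (h23 : G2 ≤ G3)
    (c1 : Nat.card G1 = p) (c2 : Nat.card G2 = p ^ 2) (c3 : Nat.card G3 = p ^ 3)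
    (i1 : ∀ γ ∈ A, ∀ x ∈ G1, γ x ∈ G1) (i2 : ∀ γ ∈ A, ∀ x ∈ G2, γ x ∈ G2)
    (i3 : ∀ γ ∈ A, ∀ x ∈ G3, γ x ∈ G3) : False := by
  classical
  have hp : p.Prime := Fact.out
  have hG : IsPGroup p G := IsPGroup.of_card hcard
  have hinv : ∀ γ ∈ A, ∀ j, ∀ x ∈ ch4 G1 G2 G3 j, γ x ∈ ch4 G1 G2 G3 j := by
    intro γ hγ j
    unfold ch4
    split_ifs
    · intro x hx
      rw [Subgroup.mem_bot] at hx ⊢
      rw [hx, map_one]
    · exact i1 γ hγ
    · exact i2 γ hγ
    · exact i3 γ hγ
    · intro x _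
      exact Subgroup.mem_top _
  have r1 : (⊥ : Subgroup G).relIndex G1 = p := by rw [Subgroup.relIndex_bot_left, c1]
  have r2 : G1.relIndex G2 = p := by
    have h := Cfsg.Agent.Lib.Helper2.card_mul_relIndex h12
    rw [c1, c2, sq] at h
    exact Nat.eq_of_mul_eq_mul_left hp.pos h
  have r3 : G2.relIndex G3 = p := by
    have h := Cfsg.Agent.Lib.Helper2.card_mul_relIndex h23
    rw [c2, c3, pow_succ] at h
    exact Nat.eq_of_mul_eq_mul_left (pow_pos hp.pos 2) h
  have r4 : G3.relIndex ⊤ = p := by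
    rw [Subgroup.relIndex_top_right]
    have h := G3.card_mul_index
    rw [c3, hcard, pow_succ] at h
    exact Nat.eq_of_mul_eq_mul_left (pow_pos hp.pos 3) h
  obtain ⟨P⟩ : Nonempty (Sylow p A) := inferInstance
  have hPle : (P : Subgroup A) ≤ (stabChain A (ch4 G1 G2 G3) hinv).subgroupOf A := by
    intro β hβ
    rw [Subgroup.mem_subgroupOf]
    refine ⟨β.2, ?_⟩
    obtain ⟨k, hk⟩ := P.isPGroup' ⟨β, hβ⟩
    have hk' : (β : MulAut G) ^ p ^ k = 1 := by
      have h5 := congrArg (fun z : P => ((z : A) : MulAut G)) hk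
      simpa using h5
    have hbot : ∀ x ∈ (⊥ : Subgroup G), (β : MulAut G) x ∈ (⊥ : Subgroup G) := by
      intro x hx
      rw [Subgroup.mem_bot] at hx ⊢
      rw [hx, map_one]
    intro j x hx
    rcases Nat.lt_or_ge j 4 with hj | hj
    · interval_cases j
      · rw [show (0 : ℕ) + 1 = 1 from rfl, ch4_one] at hx
        rw [ch4_zero]
        exact factor_trivial_gen (β : MulAut G) k hk' ⊥ G1 bot_le
          (fun m _ n hn => by
            rw [Subgroup.mem_bot] at hn ⊢
            rw [hn, mul_one, mul_inv_cancel])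
          hbot (i1 _ β.2) r1 x hx
      · rw [show (1 : ℕ) + 1 = 2 from rfl, ch4_two] at hx
        rw [ch4_one]
        exact factor_trivial_gen (β : MulAut G) k hk' G1 G2 h12
          (fun m _ n hn => n1.conj_mem n hn m) (i1 _ β.2) (i2 _ β.2) r2 x hx
      · rw [show (2 : ℕ) + 1 = 3 from rfl, ch4_three] at hx
        rw [ch4_two]
        exact factor_trivial_gen (β : MulAut G) k hk' G2 G3 h23
          (fun m _ n hn => n2.conj_mem n hn m) (i2 _ β.2) (i3 _ β.2) r3 x hx
      · rw [ch4_three]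
        exact factor_trivial_gen (β : MulAut G) k hk' G3 ⊤ le_top
          (fun m _ n hn => n3.conj_mem n hn m) (i3 _ β.2) (fun x _ => Subgroup.mem_top _) r4 x
          (Subgroup.mem_top _)
    · rw [ch4_ge _ _ _ hj]
      exact Subgroup.mem_top _
  have hle2 : (stabChain A (ch4 G1 G2 G3) hinv).subgroupOf A ≤ pCore p A :=
    le_pCore' (stabChain_normal A _ hinv)
      (stabChain_isPGroup hG A _ hinv (ch4_zero _ _ _) 4 (ch4_ge _ _ _ le_rfl)).comap_subtype
  have hdvd2 : (pCore p A).index ∣ (P : Subgroup A).index :=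
    Subgroup.index_dvd_of_le (hPle.trans hle2)
  exact P.not_dvd_index (dvd_trans h1 hdvd2)

theorem dvd_of_zpow_mem' {p : ℕ} [Fact p.Prime] {K : Subgroup G} {g : G} (hg : g ∉ K)
    (hgp : g ^ p ∈ K) {z : ℤ} (hz : g ^ z ∈ K) : (p : ℤ) ∣ z := by
  by_contra hnd
  have hcop : IsCoprime z (p : ℤ) := by
    rw [isCoprime_comm, (Nat.prime_iff_prime_int.mp (Fact.out : p.Prime)).coprime_iff_not_dvd]
    exact hnd
  obtain ⟨a, b, hab⟩ := hcop
  apply hg
  have : g = (g ^ z) ^ a * (g ^ (p : ℤ)) ^ b := by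
    rw [← zpow_mul, ← zpow_mul, ← zpow_add, mul_comm z a, mul_comm (p : ℤ) b, hab, zpow_one]
  rw [this]
  refine K.mul_mem (K.zpow_mem hz a) (K.zpow_mem ?_ b)
  rw [zpow_natCast]
  exact hgp

theorem normal_of_le_center' {C : Subgroup G} (hC : C ≤ Subgroup.center G) : C.Normal := by
  refine ⟨fun n hn g => ?_⟩
  have h := Subgroup.mem_center_iff.mp (hC hn) g
  rw [h, mul_inv_cancel_right]
  exact hn

/-- a subgroup of prime index and a central element outside it generate the group -/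
theorem exists_mul_zpow_of_index_prime {p : ℕ} (hp : p.Prime) (M : Subgroup G) (hM : M.index = p)
    (c : G) (hc : c ∈ Subgroup.center G) (hcM : c ∉ M) (x : G) :
    ∃ m ∈ M, ∃ z : ℤ, x = m * c ^ z := by
  have htop : M ⊔ Subgroup.zpowers c = ⊤ :=
    Cfsg.Agent.Lib.Helper2.sup_eq_top_of_index_prime hp hM
      (fun h => hcM (h (Subgroup.mem_zpowers c)))
  haveI : (Subgroup.zpowers c).Normal :=
    normal_of_le_center' (by rw [Subgroup.zpowers_le]; exact hc)
  have hx : x ∈ ((M ⊔ Subgroup.zpowers c : Subgroup G) : Set G) := by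
    rw [htop]
    exact Set.mem_univ x
  rw [Subgroup.mul_normal] at hx
  obtain ⟨m, hm, y, hy, rfl⟩ := Set.mem_mul.mp hx
  obtain ⟨z, rfl⟩ := Subgroup.mem_zpowers_iff.mp hy
  exact ⟨m, hm, z, rfl⟩

/-- internal direct product with a central factor -/
theorem prod_equiv_of_central [Finite G] (M C : Subgroup G) (hC : C ≤ Subgroup.center G)
    (hdisj : ∀ x, x ∈ M → x ∈ C → x = 1) (hcard : Nat.card G ≤ Nat.card M * Nat.card C) :
    Nonempty (G ≃* M × C) := by
  have comm : ∀ (m : M) (c : C), Commute (M.subtype m) (C.subtype c) := by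
    intro m c
    exact (Subgroup.mem_center_iff.mp (hC c.2) (m : G))
  obtain ⟨f, hf⟩ : ∃ f : M × C →* G, ∀ mc : M × C, f mc = (mc.1 : G) * (mc.2 : G) :=
    ⟨MonoidHom.noncommCoprod M.subtype C.subtype comm, fun mc => rfl⟩
  have hinj : Function.Injective f := by
    rw [injective_iff_map_eq_one]
    rintro ⟨m, c⟩ h
    rw [hf] at h
    have h1 : (m : G) = (c : G)⁻¹ := eq_inv_of_mul_eq_one_left h
    have h2 : (m : G) = 1 := hdisj _ m.2 (by rw [h1]; exact C.inv_mem c.2)
    have h3 : (c : G) = 1 := by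
      have h4 : (m : G) * (c : G) = 1 := h
      rw [h2, one_mul] at h4
      exact h4
    have hm : m = 1 := Subtype.ext h2
    have hc : c = 1 := Subtype.ext h3
    rw [hm, hc]
    rfl
  have hbij : Function.Bijective f :=
    hinj.bijective_of_nat_card_le (by rw [Nat.card_prod]; exact hcard)
  exact ⟨(MulEquiv.ofBijective f hbij).symm⟩

/-- splitting off a central subgroup of order `p` avoiding a subgroup of index `p` -/
theorem split_central [Finite G] {p : ℕ} [Fact p.Prime] (c : G) (hc : c ∈ Subgroup.center G)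
    (hcp : c ^ p = 1) (M : Subgroup G) (hM : M.index = p) (hcM : c ∉ M) :
    Nonempty (G ≃* M × Multiplicative (ZMod p)) := by
  have hp : p.Prime := Fact.out
  have hc1 : c ≠ 1 := fun h => hcM (h ▸ M.one_mem)
  have hord : orderOf c = p := orderOf_eq_prime hcp hc1
  have hCc : Nat.card (Subgroup.zpowers c) = p := by rw [Nat.card_zpowers, hord]
  have hCle : Subgroup.zpowers c ≤ Subgroup.center G := by
    rw [Subgroup.zpowers_le]
    exact hc
  have hdisj : ∀ x, x ∈ M → x ∈ Subgroup.zpowers c → x = 1 := by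
    intro x hxM hxC
    obtain ⟨z, rfl⟩ := Subgroup.mem_zpowers_iff.mp hxC
    have hcpM : c ^ p ∈ M := by rw [hcp]; exact M.one_mem
    have hd : (p : ℤ) ∣ z := dvd_of_zpow_mem' hcM hcpM hxM
    obtain ⟨w, rfl⟩ := hd
    rw [zpow_mul, zpow_natCast, hcp, one_zpow]
  have hcard : Nat.card G ≤ Nat.card M * Nat.card (Subgroup.zpowers c) := by
    rw [hCc, ← hM, M.card_mul_index]
  obtain ⟨e1⟩ := prod_equiv_of_central M (Subgroup.zpowers c) hCle hdisj hcard
  have hZc : Nat.card (Multiplicative (ZMod p)) = p := by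
    show Nat.card (ZMod p) = p
    exact Nat.card_zmod p
  have e2 : Subgroup.zpowers c ≃* Multiplicative (ZMod p) := mulEquivOfPrimeCardEq hCc hZc
  exact ⟨e1.trans (MulEquiv.prodCongr (MulEquiv.refl _) e2)⟩

/-- splitting off a central element of order `p` outside a subgroup containing the commutator
subgroup and all `p`-th powers -/
theorem split_of_not_mem [Finite G] {p : ℕ} [Fact p.Prime] (hG : IsPGroup p G) (N : Subgroup G)
    (hcomm : commutator G ≤ N) (hpow : ∀ x : G, x ^ p ∈ N) (c : G)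
    (hc : c ∈ Subgroup.center G) (hcp : c ^ p = 1) (hcN : c ∉ N) :
    ∃ M : Subgroup G, M.index = p ∧ N ≤ M ∧ c ∉ M ∧
      Nonempty (G ≃* M × Multiplicative (ZMod p)) := by
  obtain ⟨M, hM, hNM, hcM⟩ := Cfsg.Agent.Lib.Helper1.exists_coatom_not_mem p N hcomm hpow c hcN
  have hidx : M.index = p := Cfsg.Agent.Lib.Helper1.index_eq_prime_of_isCoatom p hG M hM
  exact ⟨M, hidx, hNM, hcM, split_central c hc hcp M hidx hcM⟩

end Cfsg.Agent.Lib.Helper3.E4
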