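import Mathlib
import Cfsg.Agent.Lib.Helper3.E4Tools

/-!
# Abelian groups of order `p ^ 4` (towards S5188)
-/

set_option autoImplicit false
set_option maxHeartbeats 4000000
set_option maxRecDepth 100000
set_option linter.unusedVariables false
set_option linter.unusedSectionVars false
set_option linter.style.longLine false
set_option linter.style.haveILetI false

namespace Cfsg.Agent.Lib.Helper3.E4

open Cfsg Cfsg.Agent.Lib.Helper9 Cfsg.Agent.Lib.Lead.Fus
open scoped commutatorElement

variable {X : Type*} [Group X]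

/-- the `p`-power endomorphism of a group in which all elements commute -/
def ppow (hc : ∀ a b : X, a * b = b * a) (p : ℕ) : X →* X where
  toFun x := x ^ p
  map_one' := one_pow p
  map_mul' a b := Commute.mul_pow (hc a b) p

theorem ppow_apply (hc : ∀ a b : X, a * b = b * a) (p : ℕ) (x : X) : ppow hc p x = x ^ p := rfl

theorem commutator_eq_bot_of_comm (hc : ∀ a b : X, a * b = b * a) : commutator X = ⊥ := by
  rw [eq_bot_iff, commutator_def, Subgroup.commutator_le]
  intro a _ b _
  rw [Subgroup.mem_bot, commutatorElement_eq_one_iff_commute]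
  exact hc a b

/-- splitting a cyclic factor of order `p` off an abelian `p`-group whose `p`-th powers form a
group of order `p` -/
theorem split_abelian [Finite X] {p : ℕ} [Fact p.Prime] (hX : IsPGroup p X)
    (hc : ∀ a b : X, a * b = b * a) (hr : Nat.card (ppow hc p).range = p)
    (hbig : p ^ 2 < Nat.card X) :
    ∃ M : Subgroup X, M.index = p ∧ Nonempty (X ≃* M × Multiplicative (ZMod p)) ∧
      ∀ hM : (∀ a b : M, a * b = b * a), Nat.card (ppow hM p).range = p := by
  have hp : p.Prime := Fact.out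
  -- an element of the kernel outside the range
  have hkr : Nat.card (ppow hc p).ker * Nat.card (ppow hc p).range = Nat.card X := by
    have h1 := Subgroup.card_mul_index (ppow hc p).ker
    rw [Subgroup.index_ker] at h1
    exact h1
  have hker : p < Nat.card (ppow hc p).ker := by
    rw [hr] at hkr
    by_contra hle
    push Not at hle
    have : Nat.card X ≤ p * p := by
      rw [← hkr]
      exact Nat.mul_le_mul_right p hle
    rw [sq] at hbig
    omega
  obtain ⟨c, hcker, hcr⟩ : ∃ c, c ∈ (ppow hc p).ker ∧ c ∉ (ppow hc p).range := by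
    by_contra hcon
    push Not at hcon
    have hle : (ppow hc p).ker ≤ (ppow hc p).range := fun x hx => hcon x hx
    have := Subgroup.card_le_of_le hle
    rw [hr] at this
    omega
  have hcp : c ^ p = 1 := by
    have := MonoidHom.mem_ker.mp hcker
    rwa [ppow_apply] at this
  have hcz : c ∈ Subgroup.center X := by
    rw [Subgroup.mem_center_iff]
    intro g
    exact hc g c
  obtain ⟨M, hidx, hNM, hcM, hiso⟩ := split_of_not_mem hX (ppow hc p).range
    (by rw [commutator_eq_bot_of_comm hc]; exact bot_le)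
    (fun x => ⟨x, rfl⟩) c hcz hcp hcr
  refine ⟨M, hidx, hiso, fun hM => ?_⟩
  -- the `p`-th powers of `M` are those of `X`
  have hmap : (ppow hM p).range.map M.subtype = (ppow hc p).range := by
    ext y
    constructor
    · rintro ⟨m, ⟨m0, rfl⟩, rfl⟩
      exact ⟨(m0 : X), by rw [ppow_apply, ppow_apply]; rfl⟩
    · rintro ⟨x, rfl⟩
      obtain ⟨m, hm, z, rfl⟩ := exists_mul_zpow_of_index_prime hp M hidx c hcz hcM x
      refine ⟨ppow hM p ⟨m, hm⟩, ⟨⟨m, hm⟩, rfl⟩, ?_⟩
      rw [ppow_apply, ppow_apply, Commute.mul_pow (hc m (c ^ z)) p, ← zpow_natCast (c ^ z) p,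
        ← zpow_mul, mul_comm z, zpow_mul, zpow_natCast, hcp, one_zpow, mul_one]
      rfl
  have h5 := Subgroup.card_subtype M (ppow hM p).range
  rw [hmap] at h5
  rw [← h5]
  exact hr

/-- a group of order `p²` with a nontrivial `p`-th power is cyclic -/
theorem cyclic_of_card_sq [Finite X] {p : ℕ} [Fact p.Prime] (hcard : Nat.card X = p ^ 2)
    (a : X) (ha : a ^ p ≠ 1) : Nonempty (X ≃* Multiplicative (ZMod (p ^ 2))) := by
  have hp : p.Prime := Fact.out
  have h2 : a ^ p ^ (1 + 1) = 1 := by
    rw [show (1 + 1 : ℕ) = 2 from rfl, ← hcard]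
    exact pow_card_eq_one'
  have h1 : ¬ a ^ p ^ 1 = 1 := by rwa [pow_one]
  have hord : orderOf a = p ^ 2 := orderOf_eq_prime_pow h1 h2
  haveI : IsCyclic X := isCyclic_of_orderOf_eq_card a (by rw [hord, hcard])
  haveI : NeZero (p ^ 2) := ⟨pow_ne_zero 2 hp.ne_zero⟩
  have hZ : Nat.card (Multiplicative (ZMod (p ^ 2))) = p ^ 2 := by
    show Nat.card (ZMod (p ^ 2)) = p ^ 2
    exact Nat.card_zmod _
  exact ⟨mulEquivOfCyclicCardEq (hcard.trans hZ.symm)⟩

/-- abelian of order `p⁴` with `p`-th powers forming a group of order `p` -/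
theorem abelian_type_p2_p_p [Finite X] {p : ℕ} [Fact p.Prime] (hcard : Nat.card X = p ^ 4)
    (hc : ∀ a b : X, a * b = b * a) (hr : Nat.card (ppow hc p).range = p) :
    Nonempty (X ≃* Multiplicative (ZMod (p ^ 2) × ZMod p × ZMod p)) := by
  have hp : p.Prime := Fact.out
  have hX : IsPGroup p X := IsPGroup.of_card hcard
  have hbig : p ^ 2 < Nat.card X := by
    rw [hcard]
    exact Nat.pow_lt_pow_right hp.one_lt (by norm_num)
  obtain ⟨M1, hidx1, ⟨e1⟩, hr1⟩ := split_abelian hX hc hr hbig
  have hM1card : Nat.card M1 = p ^ 3 := by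
    have h := M1.card_mul_index
    rw [hidx1, hcard, pow_succ] at h
    exact Nat.eq_of_mul_eq_mul_right hp.pos h
  have hc1 : ∀ a b : M1, a * b = b * a := fun a b => Subtype.ext (hc a b)
  have hbig1 : p ^ 2 < Nat.card M1 := by
    rw [hM1card]
    exact Nat.pow_lt_pow_right hp.one_lt (by norm_num)
  obtain ⟨M2, hidx2, ⟨e2⟩, hr2⟩ := split_abelian (hX.to_subgroup M1) hc1 (hr1 hc1) hbig1
  have hM2card : Nat.card M2 = p ^ 2 := by
    have h := M2.card_mul_index
    rw [hidx2, hM1card, pow_succ] at h
    exact Nat.eq_of_mul_eq_mul_right hp.pos h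
  have hc2 : ∀ a b : M2, a * b = b * a := fun a b => Subtype.ext (hc1 a b)
  have hr2' := hr2 hc2
  obtain ⟨a, ha⟩ : ∃ a : M2, a ^ p ≠ 1 := by
    by_contra hcon
    push Not at hcon
    have hbot : (ppow hc2 p).range = ⊥ := by
      rw [eq_bot_iff]
      rintro _ ⟨x, rfl⟩
      rw [Subgroup.mem_bot, ppow_apply]
      exact hcon x
    rw [hbot, Subgroup.card_bot] at hr2'
    exact hp.one_lt.ne hr2'
  obtain ⟨e3⟩ := cyclic_of_card_sq hM2card a ha
  -- assemble
  let f1 : X ≃* (M2 × Multiplicative (ZMod p)) × Multiplicative (ZMod p) :=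
    e1.trans (MulEquiv.prodCongr e2 (MulEquiv.refl _))
  let f2 : (M2 × Multiplicative (ZMod p)) × Multiplicative (ZMod p) ≃*
      (Multiplicative (ZMod (p ^ 2)) × Multiplicative (ZMod p)) × Multiplicative (ZMod p) :=
    MulEquiv.prodCongr (MulEquiv.prodCongr e3 (MulEquiv.refl _)) (MulEquiv.refl _)
  let f3 : (Multiplicative (ZMod (p ^ 2)) × Multiplicative (ZMod p)) × Multiplicative (ZMod p) ≃*
      Multiplicative (ZMod (p ^ 2)) × (Multiplicative (ZMod p) × Multiplicative (ZMod p)) :=
    MulEquiv.prodAssoc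
  let f4 : Multiplicative (ZMod (p ^ 2)) × (Multiplicative (ZMod p) × Multiplicative (ZMod p)) ≃*
      Multiplicative (ZMod (p ^ 2)) × Multiplicative (ZMod p × ZMod p) :=
    MulEquiv.prodCongr (MulEquiv.refl _) (MulEquiv.prodMultiplicative (ZMod p) (ZMod p)).symm
  let f5 : Multiplicative (ZMod (p ^ 2)) × Multiplicative (ZMod p × ZMod p) ≃*
      Multiplicative (ZMod (p ^ 2) × (ZMod p × ZMod p)) :=
    (MulEquiv.prodMultiplicative (ZMod (p ^ 2)) (ZMod p × ZMod p)).symm
  exact ⟨(((f1.trans f2).trans f3).trans f4).trans f5⟩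

/-- the abelian case of S5188 -/
theorem abelian_case [Finite X] {p : ℕ} [Fact p.Prime] (hcard : Nat.card X = p ^ 4)
    (hc : ∀ a b : X, a * b = b * a) (A : Subgroup (MulAut X)) (hcore : pCore p A = ⊥)
    (hdvd : p ∣ Nat.card A) :
    (∀ a : X, a ^ p = 1) ∨ Nonempty (X ≃* Multiplicative (ZMod (p ^ 2) × ZMod p × ZMod p)) ∨
      ((p = 2 ∨ p = 3) ∧ Nonempty (X ≃* Multiplicative (ZMod (p ^ 2) × ZMod (p ^ 2)))) := by
  have hp : p.Prime := Fact.out
  have hX : IsPGroup p X := IsPGroup.of_card hcard
  have hdv : Nat.card (ppow hc p).range ∣ p ^ 4 := by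
    rw [← hcard]
    exact Subgroup.card_subgroup_dvd_card _
  obtain ⟨k, hk4, hk⟩ := (Nat.dvd_prime_pow hp).mp hdv
  rcases Nat.lt_or_ge k 2 with hk2 | hk2
  · interval_cases k
    · left
      intro a
      have hbot : (ppow hc p).range = ⊥ := Subgroup.card_eq_one.mp (by rw [hk, pow_zero])
      have h1 : ppow hc p a ∈ (ppow hc p).range := ⟨a, rfl⟩
      rw [hbot, Subgroup.mem_bot, ppow_apply] at h1
      exact h1
    · right; left
      exact abelian_type_p2_p_p hcard hc (by rw [hk, pow_one])
  · right; right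
    have hle : (ppow hc p).range ≤ frattini X := by
      rintro _ ⟨x, rfl⟩
      rw [ppow_apply]
      exact Cfsg.Agent.Lib.Helper1.pow_prime_mem_frattini_of_isPGroup p hX x
    have hcl := Subgroup.card_le_of_le hle
    rw [hk] at hcl
    have hrk : (frattini X).index ≤ p ^ 2 := by
      have h1 := (frattini X).card_mul_index
      rw [hcard] at h1
      have h2 : p ^ 2 ≤ Nat.card (frattini X) :=
        le_trans (Nat.pow_le_pow_right hp.pos hk2) hcl
      by_contra hcon
      push Not at hcon
      have h3 : p ^ 2 * p ^ 2 < Nat.card (frattini X) * (frattini X).index :=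
        Nat.mul_lt_mul_of_le_of_lt h2 hcon Nat.card_pos
      rw [h1, ← pow_add] at h3
      exact lt_irrefl _ h3
    letI : CommGroup X := { (inferInstance : Group X) with mul_comm := hc }
    rcases abelian_rank_two hX A hcore hdvd hrk with ⟨-, hc2⟩ | ⟨hp3, j, ⟨e⟩⟩
    · exfalso
      rw [hcard] at hc2
      have := Nat.pow_right_injective hp.two_le hc2
      omega
    · have hcj := Nat.card_congr e.toEquiv
      rw [hcard] at hcj
      have h2 : Nat.card (Multiplicative (ZMod (p ^ j) × ZMod (p ^ j))) = p ^ (2 * j) := by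
        show Nat.card (ZMod (p ^ j) × ZMod (p ^ j)) = _
        rw [Nat.card_prod, Nat.card_zmod, ← pow_add, two_mul]
      rw [h2] at hcj
      have h3 := Nat.pow_right_injective hp.two_le hcj
      have hj2 : j = 2 := by omega
      subst hj2
      refine ⟨?_, ⟨e⟩⟩
      have := hp.two_le
      interval_cases p
      · left; rfl
      · right; rfl

end Cfsg.Agent.Lib.Helper3.E4
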