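import Mathlib
import Cfsg.Agent.Lib.Helper3.E4Tools

/-!
# Commutator homomorphisms and centre / derived subgroup of a nonabelian group of order `p ^ 4`
-/

set_option autoImplicit false
set_option maxHeartbeats 4000000
set_option maxRecDepth 100000
set_option linter.unusedVariables false
set_option linter.unusedSectionVars false
set_option linter.style.longLine false
set_option linter.style.haveILetI false

namespace Cfsg.Agent.Lib.Helper3.E4

open Cfsg Cfsg.Agent.Lib.Helper9 Cfsg.Agent.Lib.Lead.Fus
open scoped commutatorElement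

variable {G : Type*} [Group G]

theorem comm_mem_commutator (g h : G) : ⁅g, h⁆ ∈ commutator G := by
  rw [commutator_def]
  exact Subgroup.commutator_mem_commutator (Subgroup.mem_top g) (Subgroup.mem_top h)

/-- for `h` all of whose commutators are central, `g ↦ ⁅g, h⁆` is a homomorphism -/
def commHom (h : G) (hh : ∀ g : G, ⁅g, h⁆ ∈ Subgroup.center G) : G →* G where
  toFun g := ⁅g, h⁆
  map_one' := commutatorElement_one_left h
  map_mul' a b := by
    have hc := Subgroup.mem_center_iff.mp (hh b)
    have e : ⁅a * b, h⁆ = a * ⁅b, h⁆ * a⁻¹ * ⁅a, h⁆ := by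
      simp only [commutatorElement_def]
      group
    rw [e, hc a, mul_inv_cancel_right]
    exact (hc ⁅a, h⁆).symm

theorem commHom_apply (h : G) (hh : ∀ g : G, ⁅g, h⁆ ∈ Subgroup.center G) (g : G) :
    commHom h hh g = ⁅g, h⁆ := rfl

theorem commHom_ker (h : G) (hh : ∀ g : G, ⁅g, h⁆ ∈ Subgroup.center G) :
    (commHom h hh).ker = Subgroup.centralizer {h} := by
  ext g
  rw [MonoidHom.mem_ker, commHom_apply, commutatorElement_eq_one_iff_commute,
    Subgroup.mem_centralizer_singleton_iff]
  exact Iff.rfl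

theorem commHom_range_le (h : G) (hh : ∀ g : G, ⁅g, h⁆ ∈ Subgroup.center G) :
    (commHom h hh).range ≤ commutator G := by
  rintro _ ⟨g, rfl⟩
  exact comm_mem_commutator g h

/-- the index of the centraliser of `h` is the number of commutators `⁅g, h⁆` -/
theorem index_centralizer_eq (h : G) (hh : ∀ g : G, ⁅g, h⁆ ∈ Subgroup.center G) :
    (Subgroup.centralizer {h}).index = Nat.card (commHom h hh).range := by
  rw [← commHom_ker h hh, Subgroup.index_ker]

theorem mem_center_iff_centralizer_eq_top (h : G) :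
    h ∈ Subgroup.center G ↔ Subgroup.centralizer {h} = ⊤ := by
  constructor
  · intro hh
    rw [eq_top_iff]
    intro g _
    rw [Subgroup.mem_centralizer_singleton_iff]
    exact Subgroup.mem_center_iff.mp hh g
  · intro hh
    rw [Subgroup.mem_center_iff]
    intro g
    have : g ∈ Subgroup.centralizer {h} := by
      rw [hh]
      exact Subgroup.mem_top g
    exact Subgroup.mem_centralizer_singleton_iff.mp this

/-- three-step generation by cardinality in a group of order `p ^ 4` -/
theorem gen3 [Finite G] {p : ℕ} [Fact p.Prime] (hcard : Nat.card G = p ^ 4) (D C : Subgroup G)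
    (hD : p ^ 2 ≤ Nat.card D) (hDC : D ≤ C) (x y : G) (hxC : x ∈ C) (hxD : x ∉ D) (hyC : y ∉ C) :
    D ⊔ Subgroup.zpowers x ⊔ Subgroup.zpowers y = ⊤ ∧ Nat.card D = p ^ 2 := by
  have hp : p.Prime := Fact.out
  have hG : IsPGroup p G := IsPGroup.of_card hcard
  have hxK : x ∈ D ⊔ Subgroup.zpowers x :=
    (le_sup_right : Subgroup.zpowers x ≤ _) (Subgroup.mem_zpowers x)
  have hyK : y ∈ D ⊔ Subgroup.zpowers x ⊔ Subgroup.zpowers y :=
    (le_sup_right : Subgroup.zpowers y ≤ _) (Subgroup.mem_zpowers y)
  have h1 : D < D ⊔ Subgroup.zpowers x := by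
    refine lt_of_le_of_ne le_sup_left (fun h => hxD ?_)
    rw [h]
    exact hxK
  have hK1C : D ⊔ Subgroup.zpowers x ≤ C := sup_le hDC (by rw [Subgroup.zpowers_le]; exact hxC)
  have h2 : D ⊔ Subgroup.zpowers x < D ⊔ Subgroup.zpowers x ⊔ Subgroup.zpowers y := by
    refine lt_of_le_of_ne le_sup_left (fun h => hyC (hK1C ?_))
    rw [h]
    exact hyK
  have r1 := Cfsg.Agent.Lib.Helper2.le_relIndex_of_lt hG h1
  have r2 := Cfsg.Agent.Lib.Helper2.le_relIndex_of_lt hG h2
  have c1 := Cfsg.Agent.Lib.Helper2.card_mul_relIndex h1.le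
  have c2 := Cfsg.Agent.Lib.Helper2.card_mul_relIndex h2.le
  have hK2 : Nat.card (D ⊔ Subgroup.zpowers x ⊔ Subgroup.zpowers y : Subgroup G) ≤ p ^ 4 := by
    rw [← hcard]
    exact Subgroup.card_le_card_group _
  have h3 : Nat.card D * p * p ≤ Nat.card (D ⊔ Subgroup.zpowers x ⊔ Subgroup.zpowers y : Subgroup G) := by
    rw [← c2, ← c1]
    exact Nat.mul_le_mul (Nat.mul_le_mul_left _ r1) r2
  have h4 : Nat.card D * p * p ≤ p ^ 2 * p * p := by
    calc Nat.card D * p * p ≤ p ^ 4 := h3.trans hK2
      _ = p ^ 2 * p * p := by ring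
  have h5 : Nat.card D ≤ p ^ 2 :=
    Nat.le_of_mul_le_mul_right (Nat.le_of_mul_le_mul_right h4 hp.pos) hp.pos
  have h6 : Nat.card D = p ^ 2 := le_antisymm h5 hD
  refine ⟨?_, h6⟩
  apply Subgroup.eq_top_of_card_eq
  rw [hcard]
  apply le_antisymm hK2
  calc p ^ 4 = Nat.card D * p * p := by rw [h6]; ring
    _ ≤ _ := h3

/-- the centre of a nonabelian group of order `p ^ 4` has order `p` or `p ^ 2` -/
theorem card_center_cases [Finite G] {p : ℕ} [Fact p.Prime] (hcard : Nat.card G = p ^ 4)
    (hna : ¬ ∀ a b : G, a * b = b * a) :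
    Nat.card (Subgroup.center G) = p ∨ Nat.card (Subgroup.center G) = p ^ 2 := by
  have hp : p.Prime := Fact.out
  have hG : IsPGroup p G := IsPGroup.of_card hcard
  have hdv : Nat.card (Subgroup.center G) ∣ p ^ 4 := by
    rw [← hcard]
    exact Subgroup.card_subgroup_dvd_card _
  obtain ⟨k, hk4, hk⟩ := (Nat.dvd_prime_pow hp).mp hdv
  haveI : Nontrivial G := by
    rw [← Finite.one_lt_card_iff_nontrivial, hcard]
    exact Nat.one_lt_pow (by norm_num) hp.one_lt
  have hk0 : k ≠ 0 := by
    rintro rfl
    rw [pow_zero] at hk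
    have := Subgroup.card_eq_one.mp hk
    exact (hG.bot_lt_center).ne' this
  have hk4' : k ≠ 4 := by
    rintro rfl
    have htop : Subgroup.center G = ⊤ := Subgroup.eq_top_of_card_eq _ (by rw [hk, hcard])
    apply hna
    intro a b
    have : b ∈ Subgroup.center G := by rw [htop]; exact Subgroup.mem_top b
    exact Subgroup.mem_center_iff.mp this a
  have hk3 : k ≠ 3 := by
    rintro rfl
    have hq : Nat.card (G ⧸ Subgroup.center G) = p := by
      have h := Subgroup.card_eq_card_quotient_mul_card_subgroup (Subgroup.center G)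
      rw [hcard, hk, pow_succ] at h
      exact (Nat.eq_of_mul_eq_mul_left (pow_pos hp.pos 3) (by rw [h, mul_comm])).symm
    haveI : IsCyclic (G ⧸ Subgroup.center G) := isCyclic_of_prime_card hq
    apply hna
    exact commutative_of_cyclic_center_quotient (QuotientGroup.mk' (Subgroup.center G))
      (by rw [QuotientGroup.ker_mk'])
  have : k = 1 ∨ k = 2 := by omega
  rcases this with rfl | rfl
  · left; rw [hk, pow_one]
  · right; exact hk

end Cfsg.Agent.Lib.Helper3.E4
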