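import Mathlib
import Cfsg.Agent.Lib.Helper3.E4Comm

/-!
# Centre and derived subgroup of a nonabelian group of order `p ^ 4`
-/

set_option autoImplicit false
set_option maxHeartbeats 4000000
set_option maxRecDepth 100000
set_option linter.unusedVariables false
set_option linter.unusedSectionVars false
set_option linter.style.longLine false
set_option linter.style.haveILetI false
set_option linter.deprecated false

namespace Cfsg.Agent.Lib.Helper3.E4

open Cfsg Cfsg.Agent.Lib.Helper9 Cfsg.Agent.Lib.Lead.Fus
open scoped commutatorElement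

variable {G : Type*} [Group G]

theorem exists_not_mem_center (hna : ¬ ∀ a b : G, a * b = b * a) : ∃ x : G, x ∉ Subgroup.center G := by
  by_contra hcon
  push Not at hcon
  apply hna
  intro a b
  exact Subgroup.mem_center_iff.mp (hcon b) a

theorem exists_not_mem_centralizer {x : G} (hx : x ∉ Subgroup.center G) :
    ∃ y : G, y ∉ Subgroup.centralizer {x} := by
  by_contra hcon
  push Not at hcon
  apply hx
  rw [mem_center_iff_centralizer_eq_top, eq_top_iff]
  intro g _
  exact hcon g

theorem card_quot_center [Finite G] {p : ℕ} [Fact p.Prime] (hcard : Nat.card G = p ^ 4)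
    (hZ : Nat.card (Subgroup.center G) = p ^ 2) : Nat.card (G ⧸ Subgroup.center G) = p ^ 2 := by
  have hp : p.Prime := Fact.out
  have h := Subgroup.card_eq_card_quotient_mul_card_subgroup (Subgroup.center G)
  rw [hcard, hZ] at h
  have h' : p ^ 2 * p ^ 2 = Nat.card (G ⧸ Subgroup.center G) * p ^ 2 := by
    rw [← h]
    ring
  exact (Nat.eq_of_mul_eq_mul_right (pow_pos hp.pos 2) h').symm

/-- `G / Z(G)` has exponent `p` when `|Z(G)| = p²` -/
theorem pow_mem_center_of_card_center_sq [Finite G] {p : ℕ} [Fact p.Prime]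
    (hcard : Nat.card G = p ^ 4) (hna : ¬ ∀ a b : G, a * b = b * a)
    (hZ : Nat.card (Subgroup.center G) = p ^ 2) (g : G) : g ^ p ∈ Subgroup.center G := by
  have hp : p.Prime := Fact.out
  have hq := card_quot_center hcard hZ
  by_contra hg
  have h1 : ¬ (QuotientGroup.mk' (Subgroup.center G) g) ^ p ^ 1 = 1 := by
    rw [pow_one, ← map_pow]
    intro h
    exact hg ((QuotientGroup.eq_one_iff _).mp h)
  have h2 : (QuotientGroup.mk' (Subgroup.center G) g) ^ p ^ (1 + 1) = 1 := by
    rw [show (1 + 1 : ℕ) = 2 from rfl, ← hq]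
    exact pow_card_eq_one'
  have hord := orderOf_eq_prime_pow h1 h2
  haveI : IsCyclic (G ⧸ Subgroup.center G) :=
    isCyclic_of_orderOf_eq_card (QuotientGroup.mk' (Subgroup.center G) g) (by rw [hord, hq])
  exact hna (commutative_of_cyclic_center_quotient (QuotientGroup.mk' (Subgroup.center G))
    (by rw [QuotientGroup.ker_mk']))

/-- `|Z(G)| = p²` forces `|G'| = p` -/
theorem card_commutator_of_card_center_sq [Finite G] {p : ℕ} [Fact p.Prime]
    (hcard : Nat.card G = p ^ 4) (hna : ¬ ∀ a b : G, a * b = b * a)
    (hZ : Nat.card (Subgroup.center G) = p ^ 2) :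
    commutator G ≤ Subgroup.center G ∧ Nat.card (commutator G) = p := by
  have hp : p.Prime := Fact.out
  have hq := card_quot_center hcard hZ
  have h2 : commutator G ≤ Subgroup.center G :=
    Subgroup.Normal.quotient_commutative_iff_commutator_le.mp
      (IsPGroup.isMulCommutative_of_card_eq_prime_sq hq)
  refine ⟨h2, ?_⟩
  have hh : ∀ h g : G, ⁅g, h⁆ ∈ Subgroup.center G := fun h g => h2 (comm_mem_commutator g h)
  obtain ⟨x, hx⟩ := exists_not_mem_center hna
  obtain ⟨y, hy⟩ := exists_not_mem_centralizer hx
  have hZC : Subgroup.center G ≤ Subgroup.centralizer {x} := by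
    intro z hz
    rw [Subgroup.mem_centralizer_singleton_iff]
    exact (Subgroup.mem_center_iff.mp hz x).symm
  have hxC : x ∈ Subgroup.centralizer {x} := by
    rw [Subgroup.mem_centralizer_singleton_iff]
  have hgen := (gen3 hcard (Subgroup.center G) (Subgroup.centralizer {x}) (by rw [hZ]) hZC x y
    hxC hx hy).1
  obtain ⟨w, hw⟩ : ∃ w : G, w = ⁅x, y⁆ := ⟨_, rfl⟩
  have hw1 : w ≠ 1 := by
    rw [hw]
    intro h
    rw [commutatorElement_eq_one_iff_commute] at h
    apply hy
    rw [Subgroup.mem_centralizer_singleton_iff]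
    exact h.symm
  have hwp : w ^ p = 1 := by
    have h3 := map_pow (commHom y (hh y)) x p
    rw [commHom_apply, commHom_apply] at h3
    rw [hw, ← h3, commutatorElement_eq_one_iff_commute]
    exact (Subgroup.mem_center_iff.mp (pow_mem_center_of_card_center_sq hcard hna hZ x) y).symm
  have key1 : ∀ h : G, ⁅x, h⁆ ∈ Subgroup.zpowers w → ⁅y, h⁆ ∈ Subgroup.zpowers w →
      ∀ g : G, ⁅g, h⁆ ∈ Subgroup.zpowers w := by
    intro h hxh hyh g
    have hle : (⊤ : Subgroup G) ≤ (Subgroup.zpowers w).comap (commHom h (hh h)) := by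
      rw [← hgen]
      refine sup_le (sup_le ?_ ?_) ?_
      · intro z hz
        rw [Subgroup.mem_comap, commHom_apply]
        have h1 : ⁅z, h⁆ = 1 :=
          commutatorElement_eq_one_iff_commute.mpr (Subgroup.mem_center_iff.mp hz h).symm
        rw [h1]
        exact Subgroup.one_mem _
      · rw [Subgroup.zpowers_le, Subgroup.mem_comap, commHom_apply]
        exact hxh
      · rw [Subgroup.zpowers_le, Subgroup.mem_comap, commHom_apply]
        exact hyh
    exact hle (Subgroup.mem_top g)
  have hSx : ∀ g : G, ⁅g, x⁆ ∈ Subgroup.zpowers w :=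
    key1 x (by rw [commutatorElement_self]; exact Subgroup.one_mem _)
      (by rw [← commutatorElement_inv x y, ← hw]
          exact Subgroup.inv_mem _ (Subgroup.mem_zpowers w))
  have hSy : ∀ g : G, ⁅g, y⁆ ∈ Subgroup.zpowers w :=
    key1 y (by rw [← hw]; exact Subgroup.mem_zpowers w)
      (by rw [commutatorElement_self]; exact Subgroup.one_mem _)
  have hall : ∀ g h : G, ⁅g, h⁆ ∈ Subgroup.zpowers w := by
    intro g h
    apply key1 h
    · rw [← commutatorElement_inv h x]
      exact Subgroup.inv_mem _ (hSx h)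
    · rw [← commutatorElement_inv h y]
      exact Subgroup.inv_mem _ (hSy h)
  have hle : commutator G ≤ Subgroup.zpowers w := by
    rw [commutator_def, Subgroup.commutator_le]
    intro g _ h _
    exact hall g h
  have hWc : Nat.card (Subgroup.zpowers w) = p := by
    rw [Nat.card_zpowers, orderOf_eq_prime hwp hw1]
  have heq : commutator G = Subgroup.zpowers w :=
    le_antisymm hle (by rw [Subgroup.zpowers_le, hw]; exact comm_mem_commutator x y)
  rw [heq, hWc]

/-- noncentral elements have centralisers of index `p` when `|G'| = p` -/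
theorem index_centralizer_of_card_commutator [Finite G] {p : ℕ} [Fact p.Prime]
    (hG' : Nat.card (commutator G) = p) (h2 : commutator G ≤ Subgroup.center G) (x : G)
    (hx : x ∉ Subgroup.center G) : (Subgroup.centralizer {x}).index = p := by
  have hp : p.Prime := Fact.out
  have hh : ∀ g : G, ⁅g, x⁆ ∈ Subgroup.center G := fun g => h2 (comm_mem_commutator g x)
  rw [index_centralizer_eq x hh]
  have hdv := Subgroup.card_dvd_of_le (commHom_range_le x hh)
  rw [hG'] at hdv
  rcases (Nat.dvd_prime hp).mp hdv with h | h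
  · exfalso
    apply hx
    rw [mem_center_iff_centralizer_eq_top, ← commHom_ker x hh]
    have h3 := Subgroup.card_eq_one.mp h
    rw [MonoidHom.range_eq_bot_iff] at h3
    rw [h3]
    exact MonoidHom.ker_one
  · exact h

/-- `|G'| = p` forces `|Z(G)| = p²` -/
theorem card_center_of_card_commutator [Finite G] {p : ℕ} [Fact p.Prime]
    (hcard : Nat.card G = p ^ 4) (hna : ¬ ∀ a b : G, a * b = b * a)
    (hG' : Nat.card (commutator G) = p) :
    commutator G ≤ Subgroup.center G ∧ Nat.card (Subgroup.center G) = p ^ 2 := by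
  have hp : p.Prime := Fact.out
  have hG : IsPGroup p G := IsPGroup.of_card hcard
  have h2 : commutator G ≤ Subgroup.center G :=
    Cfsg.Agent.Lib.Helper7.GC.le_center_of_normal_card_prime hG (commutator G) hG'
  refine ⟨h2, ?_⟩
  obtain ⟨x, hx⟩ := exists_not_mem_center hna
  obtain ⟨y, hy⟩ := exists_not_mem_centralizer hx
  have hyZ : y ∉ Subgroup.center G := by
    intro h
    apply hy
    rw [Subgroup.mem_centralizer_singleton_iff]
    exact (Subgroup.mem_center_iff.mp h x).symm
  have ix := index_centralizer_of_card_commutator hG' h2 x hx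
  have iy := index_centralizer_of_card_commutator hG' h2 y hyZ
  have hxCy : x ∉ Subgroup.centralizer {y} := by
    intro h
    apply hy
    rw [Subgroup.mem_centralizer_singleton_iff] at h ⊢
    exact h.symm
  have hxCx : x ∈ Subgroup.centralizer {x} := by
    rw [Subgroup.mem_centralizer_singleton_iff]
  obtain ⟨D, hDdef⟩ : ∃ D : Subgroup G, D = Subgroup.centralizer {x} ⊓ Subgroup.centralizer {y} :=
    ⟨_, rfl⟩
  have hDidx : D.index ≤ p * p := by
    have := Subgroup.index_inf_le (H := Subgroup.centralizer {x}) (K := Subgroup.centralizer {y})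
    rwa [ix, iy, ← hDdef] at this
  have hDcard : p ^ 2 ≤ Nat.card D := by
    have h := D.card_mul_index
    rw [hcard] at h
    by_contra hlt
    push Not at hlt
    have h3 : Nat.card D * D.index < p ^ 2 * (p * p) :=
      Nat.mul_lt_mul_of_lt_of_le hlt hDidx (Nat.mul_pos hp.pos hp.pos)
    rw [h] at h3
    have h4 : p ^ 2 * (p * p) = p ^ 4 := by ring
    rw [h4] at h3
    exact lt_irrefl _ h3
  have hDCx : D ≤ Subgroup.centralizer {x} := by rw [hDdef]; exact inf_le_left
  have hDCy : D ≤ Subgroup.centralizer {y} := by rw [hDdef]; exact inf_le_right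
  obtain ⟨hgen, hDc⟩ := gen3 hcard D (Subgroup.centralizer {x}) hDcard hDCx x y hxCx
    (fun h => hxCy (hDCy h)) hy
  have hDab : ∀ a b : D, a * b = b * a := IsPGroup.commutative_of_card_eq_prime_sq hDc
  have hDZ : D ≤ Subgroup.center G := by
    intro d hd
    rw [mem_center_iff_centralizer_eq_top, eq_top_iff, ← hgen]
    refine sup_le (sup_le ?_ ?_) ?_
    · intro d' hd'
      rw [Subgroup.mem_centralizer_singleton_iff]
      exact congrArg Subtype.val (hDab ⟨d', hd'⟩ ⟨d, hd⟩)
    · rw [Subgroup.zpowers_le, Subgroup.mem_centralizer_singleton_iff]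
      exact (Subgroup.mem_centralizer_singleton_iff.mp (hDCx hd)).symm
    · rw [Subgroup.zpowers_le, Subgroup.mem_centralizer_singleton_iff]
      exact (Subgroup.mem_centralizer_singleton_iff.mp (hDCy hd)).symm
  have hle : p ^ 2 ≤ Nat.card (Subgroup.center G) := by
    rw [← hDc]
    exact Subgroup.card_le_of_le hDZ
  rcases card_center_cases hcard hna with h | h
  · exfalso
    rw [h] at hle
    have := hp.one_lt
    nlinarith
  · exact h

end Cfsg.Agent.Lib.Helper3.E4
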