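import Mathlib
import Cfsg.Agent.Lib.Helper3.E4Comm2
import Cfsg.Agent.Lib.Helper1.Nilpotent

/-!
# Groups of order `p ^ 4` and class 3 are not essential (towards S5188)
-/

set_option autoImplicit false
set_option maxHeartbeats 4000000
set_option maxRecDepth 100000
set_option linter.unusedVariables false
set_option linter.unusedSectionVars false
set_option linter.style.longLine false
set_option linter.style.haveILetI false
set_option linter.deprecated false

namespace Cfsg.Agent.Lib.Helper3.E4

open Cfsg Cfsg.Agent.Lib.Helper9 Cfsg.Agent.Lib.Lead.Fus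
open scoped commutatorElement

variable {G : Type*} [Group G]

/-- automorphisms preserve the derived subgroup -/
theorem commutator_invariant (γ : MulAut G) : ∀ x ∈ commutator G, γ x ∈ commutator G := by
  intro x hx
  have hchar : (commutator G).Characteristic := inferInstance
  have h := Subgroup.characteristic_iff_le_comap.mp hchar γ hx
  exact h

/-- automorphisms preserve the centraliser of an invariant subgroup -/
theorem centralizer_invariant (K : Subgroup G) (γ : MulAut G) (hK : ∀ x ∈ K, γ⁻¹ x ∈ K) :
    ∀ x ∈ Subgroup.centralizer (K : Set G), γ x ∈ Subgroup.centralizer (K : Set G) := by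
  intro x hx
  rw [Subgroup.mem_centralizer_iff] at hx ⊢
  intro a ha
  have h := hx (γ⁻¹ a) (hK a ha)
  have h2 := congrArg γ h
  rw [map_mul, map_mul, MulAut.apply_inv_self] at h2
  exact h2

/-- the derived subgroup of a nonabelian group of order `p ^ 4` has order at most `p ^ 2` -/
theorem card_commutator_le [Finite G] {p : ℕ} [Fact p.Prime] (hcard : Nat.card G = p ^ 4)
    (hna : ¬ ∀ a b : G, a * b = b * a) : Nat.card (commutator G) ≤ p ^ 2 := by
  have hp : p.Prime := Fact.out
  have hG : IsPGroup p G := IsPGroup.of_card hcard
  have hle : commutator G ≤ frattini G :=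
    Cfsg.Agent.Lib.Helper1.commutator_le_frattini_of_isPGroup p hG
  have hidx : ¬ (frattini G).index ≤ p ^ 1 := by
    intro hle1
    obtain ⟨S, hS1, hSgen⟩ :=
      Cfsg.Agent.Lib.Helper2.exists_generators_of_index_frattini_le hG hle1
    have hcomm : ∀ x ∈ (S : Set G), ∀ y ∈ (S : Set G), x * y = y * x := by
      intro x hx y hy
      have := Finset.card_le_one.mp hS1 x hx y hy
      rw [this]
    have hc := Subgroup.isMulCommutative_closure hcomm
    apply hna
    intro a b
    have ha : a ∈ Subgroup.closure (S : Set G) := by rw [hSgen]; exact Subgroup.mem_top a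
    have hb : b ∈ Subgroup.closure (S : Set G) := by rw [hSgen]; exact Subgroup.mem_top b
    have h3 := hc.is_comm.comm (⟨a, ha⟩ : Subgroup.closure (S : Set G)) ⟨b, hb⟩
    exact congrArg Subtype.val h3
  have hdv : (frattini G).index ∣ p ^ 4 := by
    rw [← hcard]
    exact (frattini G).index_dvd_card
  obtain ⟨j, hj4, hj⟩ := (Nat.dvd_prime_pow hp).mp hdv
  have hj2 : 2 ≤ j := by
    by_contra hlt
    push Not at hlt
    apply hidx
    rw [hj]
    exact Nat.pow_le_pow_right hp.pos (by omega)
  have hcf : Nat.card (frattini G) ≤ p ^ 2 := by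
    have h := (frattini G).card_mul_index
    rw [hcard, hj] at h
    have h4 : p ^ 4 = p ^ (4 - j) * p ^ j := by rw [← pow_add]; congr 1; omega
    rw [h4] at h
    have h5 := Nat.eq_of_mul_eq_mul_right (pow_pos hp.pos j) h
    rw [h5]
    exact Nat.pow_le_pow_right hp.pos (by omega)
  exact le_trans (Subgroup.card_le_of_le hle) hcf

/-- class 3 is impossible -/
theorem class3_false [Finite G] {p : ℕ} [Fact p.Prime] (hcard : Nat.card G = p ^ 4)
    (hna : ¬ ∀ a b : G, a * b = b * a) (A : Subgroup (MulAut G))
    (h1 : p ∣ (pCore p A).index) (hZ : Nat.card (Subgroup.center G) = p)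
    (hGZ : ¬ commutator G ≤ Subgroup.center G) : False := by
  have hp : p.Prime := Fact.out
  have hG : IsPGroup p G := IsPGroup.of_card hcard
  haveI := hG.isNilpotent
  have hne : commutator G ≠ ⊥ := by
    intro h
    apply hGZ
    rw [h]
    exact bot_le
  have hint := Cfsg.Agent.Lib.Helper1.normal_inf_center_ne_bot (commutator G) hne
  -- `Z ≤ G'`
  have hZle : Subgroup.center G ≤ commutator G := by
    have hdv : Nat.card (commutator G ⊓ Subgroup.center G : Subgroup G) ∣ p := by
      rw [← hZ]
      exact Subgroup.card_dvd_of_le inf_le_right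
    rcases (Nat.dvd_prime hp).mp hdv with h | h
    · exact absurd (Subgroup.card_eq_one.mp h) hint
    · have heq : commutator G ⊓ Subgroup.center G = Subgroup.center G :=
        Subgroup.eq_of_le_of_card_ge inf_le_right (by rw [h, hZ])
      rw [← heq]
      exact inf_le_left
  have hlt : Subgroup.center G < commutator G := lt_of_le_of_ne hZle (fun h => hGZ h.ge)
  have hG'c : Nat.card (commutator G) = p ^ 2 := by
    apply le_antisymm (card_commutator_le hcard hna)
    have r := Cfsg.Agent.Lib.Helper2.le_relIndex_of_lt hG hlt
    have c := Cfsg.Agent.Lib.Helper2.card_mul_relIndex hlt.le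
    rw [hZ] at c
    rw [← c, sq]
    exact Nat.mul_le_mul_left p r
  have hrel : (Subgroup.center G).relIndex (commutator G) = p := by
    have c := Cfsg.Agent.Lib.Helper2.card_mul_relIndex hlt.le
    rw [hZ, hG'c, sq] at c
    exact Nat.eq_of_mul_eq_mul_left hp.pos c
  have hG'ab : ∀ a b : commutator G, a * b = b * a :=
    IsPGroup.commutative_of_card_eq_prime_sq hG'c
  obtain ⟨h0, hh0, hh0Z⟩ := SetLike.exists_of_lt hlt
  -- commutators with `h0` are central
  have hh : ∀ g : G, ⁅g, h0⁆ ∈ Subgroup.center G := by
    intro g
    obtain ⟨e, he⟩ := (IsPGroup.iff_orderOf.mp hG) g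
    have hβ : (MulAut.conj g) ^ (p ^ e) = 1 := by
      rw [← map_pow, ← he, pow_orderOf_eq_one, map_one]
    have h3 := factor_trivial_gen (MulAut.conj g) e hβ (Subgroup.center G) (commutator G) hZle
      (fun m _ n hn => (inferInstance : (Subgroup.center G).Normal).conj_mem n hn m)
      (fun x hx => by
        rw [MulAut.conj_apply]
        exact (inferInstance : (Subgroup.center G).Normal).conj_mem x hx g)
      (fun x hx => by
        rw [MulAut.conj_apply]
        exact (inferInstance : (commutator G).Normal).conj_mem x hx g)
      hrel h0 hh0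
    rw [MulAut.conj_apply] at h3
    have h4 : ⁅g, h0⁆ = h0 * (h0⁻¹ * (g * h0 * g⁻¹)) * h0⁻¹ := by
      rw [commutatorElement_def]
      group
    rw [h4, (Subgroup.mem_center_iff.mp h3 h0), mul_inv_cancel_right]
    exact h3
  -- the centraliser of `h0` has index `p`
  have hidx0 : (Subgroup.centralizer {h0}).index = p := by
    rw [index_centralizer_eq h0 hh]
    have hrle : (commHom h0 hh).range ≤ Subgroup.center G := by
      rintro _ ⟨g, rfl⟩
      exact hh g
    have hdv := Subgroup.card_dvd_of_le hrle
    rw [hZ] at hdv
    rcases (Nat.dvd_prime hp).mp hdv with h | h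
    · exfalso
      apply hh0Z
      rw [mem_center_iff_centralizer_eq_top, ← commHom_ker h0 hh]
      have h3 := Subgroup.card_eq_one.mp h
      rw [MonoidHom.range_eq_bot_iff] at h3
      rw [h3]
      exact MonoidHom.ker_one
    · exact h
  -- the centraliser of `G'` is the centraliser of `h0`
  have hsup : Subgroup.center G ⊔ Subgroup.zpowers h0 = commutator G := by
    have hle : Subgroup.center G ⊔ Subgroup.zpowers h0 ≤ commutator G :=
      sup_le hZle (by rw [Subgroup.zpowers_le]; exact hh0)
    have hlt2 : Subgroup.center G < Subgroup.center G ⊔ Subgroup.zpowers h0 := by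
      refine lt_of_le_of_ne le_sup_left (fun h => hh0Z ?_)
      rw [h]
      exact (le_sup_right : Subgroup.zpowers h0 ≤ _) (Subgroup.mem_zpowers h0)
    have r := Cfsg.Agent.Lib.Helper2.le_relIndex_of_lt hG hlt2
    have c := Cfsg.Agent.Lib.Helper2.card_mul_relIndex hlt2.le
    rw [hZ] at c
    apply Subgroup.eq_of_le_of_card_ge hle
    rw [hG'c, ← c, sq]
    exact Nat.mul_le_mul_left p r
  have hcent : Subgroup.centralizer (commutator G : Set G) = Subgroup.centralizer {h0} := by
    apply le_antisymm
    · intro g hg
      rw [Subgroup.mem_centralizer_singleton_iff]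
      exact ((Subgroup.mem_centralizer_iff.mp hg) h0 hh0).symm
    · intro g hg
      rw [Subgroup.mem_centralizer_iff]
      intro a ha
      have hle : commutator G ≤ Subgroup.centralizer {g} := by
        rw [← hsup]
        refine sup_le ?_ ?_
        · intro z hz
          rw [Subgroup.mem_centralizer_singleton_iff]
          exact (Subgroup.mem_center_iff.mp hz g).symm
        · rw [Subgroup.zpowers_le, Subgroup.mem_centralizer_singleton_iff]
          exact (Subgroup.mem_centralizer_singleton_iff.mp hg).symm
      exact (Subgroup.mem_centralizer_singleton_iff.mp (hle ha))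
  have hCidx : (Subgroup.centralizer (commutator G : Set G)).index = p := by rw [hcent, hidx0]
  have hCcard : Nat.card (Subgroup.centralizer (commutator G : Set G)) = p ^ 3 := by
    have h := (Subgroup.centralizer (commutator G : Set G)).card_mul_index
    rw [hCidx, hcard, pow_succ] at h
    exact Nat.eq_of_mul_eq_mul_right hp.pos h
  have hG'C : commutator G ≤ Subgroup.centralizer (commutator G : Set G) := by
    intro a ha
    rw [Subgroup.mem_centralizer_iff]
    intro b hb
    exact congrArg Subtype.val (hG'ab ⟨b, hb⟩ ⟨a, ha⟩)
  exact no_chain4 hcard A h1 (Subgroup.center G) (commutator G)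
    (Subgroup.centralizer (commutator G : Set G)) inferInstance inferInstance
    Subgroup.normal_centralizer hZle hG'C hZ hG'c hCcard
    (fun γ _ => center_invariant γ) (fun γ _ => commutator_invariant γ)
    (fun γ _ => centralizer_invariant (commutator G) γ (commutator_invariant γ⁻¹))

end Cfsg.Agent.Lib.Helper3.E4
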