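import Mathlib
import Cfsg.Agent.Lib.Helper3.E4Class3

/-!
# Groups of order `p ^ 4` with derived subgroup of order `p` (towards S5188): `p`-th powers
-/

set_option autoImplicit false
set_option maxHeartbeats 4000000
set_option maxRecDepth 100000
set_option linter.unusedVariables false
set_option linter.unusedSectionVars false
set_option linter.style.longLine false
set_option linter.style.haveILetI false
set_option linter.deprecated false

namespace Cfsg.Agent.Lib.Helper3.E4

open Cfsg Cfsg.Agent.Lib.Helper9 Cfsg.Agent.Lib.Lead.Fus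
open scoped commutatorElement

variable {G : Type*} [Group G]

theorem pow_eq_one_of_mem {K : Subgroup G} {n : ℕ} (hK : Nat.card K = n) {a : G} (ha : a ∈ K) :
    a ^ n = 1 := by
  have h := pow_card_eq_one' (G := K) (x := ⟨a, ha⟩)
  rw [hK] at h
  exact congrArg Subtype.val h

/-- `p`-th powers are central when `G' ≤ Z(G)` has order `p` -/
theorem pow_mem_center {p : ℕ} (hG' : Nat.card (commutator G) = p)
    (h2 : commutator G ≤ Subgroup.center G) (x : G) : x ^ p ∈ Subgroup.center G := by
  rw [Subgroup.mem_center_iff]
  intro h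
  have hh : ∀ g : G, ⁅g, h⁆ ∈ Subgroup.center G := fun g => h2 (comm_mem_commutator g h)
  have h3 := map_pow (commHom h hh) x p
  rw [commHom_apply, commHom_apply, pow_eq_one_of_mem hG' (comm_mem_commutator x h),
    commutatorElement_eq_one_iff_commute] at h3
  exact h3.symm

/-- all `p`-th powers lie in `G'` -/
theorem pow_mem_commutator [Finite G] {p : ℕ} [Fact p.Prime] (hcard : Nat.card G = p ^ 4)
    (A : Subgroup (MulAut G)) (h1 : p ∣ (pCore p A).index)
    (hG' : Nat.card (commutator G) = p) (h2 : commutator G ≤ Subgroup.center G)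
    (hZ : Nat.card (Subgroup.center G) = p ^ 2) (g : G) : g ^ p ∈ commutator G := by
  have hp : p.Prime := Fact.out
  by_contra hg
  obtain ⟨θ, hθ⟩ : ∃ θ : G →* Abelianization G, ∀ x, θ x = Abelianization.of (x ^ p) :=
    ⟨(powMonoidHom p : Abelianization G →* Abelianization G).comp Abelianization.of,
      fun x => by
        rw [MonoidHom.comp_apply, powMonoidHom_apply, map_pow]⟩
  have hof : ∀ y : G, Abelianization.of y = 1 ↔ y ∈ commutator G := by
    intro y
    rw [← Abelianization.ker_of G, MonoidHom.mem_ker]
  have hmem : ∀ x, x ∈ θ.ker ↔ x ^ p ∈ commutator G := by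
    intro x
    rw [MonoidHom.mem_ker, hθ, hof]
  -- the image of the centre in the abelianisation has order `p`
  have hZidx : (Subgroup.center G).index = p ^ 2 := by
    have h := (Subgroup.center G).card_mul_index
    rw [hZ, hcard] at h
    have h4 : p ^ 4 = p ^ 2 * p ^ 2 := by ring
    rw [h4] at h
    exact Nat.eq_of_mul_eq_mul_left (pow_pos hp.pos 2) h
  have hcAb : Nat.card (Abelianization G) = p ^ 3 := by
    have h := (commutator G).card_mul_index
    rw [hG', hcard, pow_succ'] at h
    have h5 := Nat.eq_of_mul_eq_mul_left hp.pos h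
    rw [Subgroup.index_eq_card] at h5
    exact h5
  have hmapidx : ((Subgroup.center G).map (Abelianization.of : G →* Abelianization G)).index
      = p ^ 2 := by
    rw [Subgroup.index_map, Abelianization.ker_of, sup_eq_left.mpr h2, hZidx,
      MonoidHom.range_eq_top.mpr (QuotientGroup.mk_surjective : Function.Surjective
        (Abelianization.of : G →* Abelianization G)), Subgroup.index_top, mul_one]
  have hmapcard : Nat.card ((Subgroup.center G).map (Abelianization.of : G →* Abelianization G))
      = p := by
    have h := ((Subgroup.center G).map (Abelianization.of : G →* Abelianization G)).card_mul_index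
    rw [hmapidx, hcAb] at h
    have h4 : p ^ 3 = p * p ^ 2 := by ring
    rw [h4] at h
    exact Nat.eq_of_mul_eq_mul_right (pow_pos hp.pos 2) h
  have hZM : Subgroup.center G ≤ θ.ker := by
    intro z hz
    rw [MonoidHom.mem_ker, hθ, map_pow]
    exact pow_eq_one_of_mem hmapcard (Subgroup.mem_map_of_mem _ hz)
  have hrange : θ.range ≤ (Subgroup.center G).map (Abelianization.of : G →* Abelianization G) := by
    rintro _ ⟨x, rfl⟩
    rw [hθ]
    exact Subgroup.mem_map_of_mem _ (pow_mem_center hG' h2 x)
  have hidx : θ.ker.index = p := by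
    rw [Subgroup.index_ker]
    have hdv := Subgroup.card_dvd_of_le hrange
    rw [hmapcard] at hdv
    rcases (Nat.dvd_prime hp).mp hdv with h | h
    · exfalso
      apply hg
      rw [← hmem, MonoidHom.mem_ker]
      have h3 := Subgroup.card_eq_one.mp h
      have h4 : θ g ∈ θ.range := ⟨g, rfl⟩
      rw [h3, Subgroup.mem_bot] at h4
      exact h4
    · exact h
  have hMcard : Nat.card θ.ker = p ^ 3 := by
    have h := θ.ker.card_mul_index
    rw [hidx, hcard, pow_succ] at h
    exact Nat.eq_of_mul_eq_mul_right hp.pos h
  exact no_chain4 hcard A h1 (commutator G) (Subgroup.center G) θ.ker inferInstance inferInstance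
    inferInstance h2 hZM hG' hZ hMcard
    (fun γ _ => commutator_invariant γ) (fun γ _ => center_invariant γ)
    (fun γ _ x hx => by
      rw [hmem] at hx ⊢
      rw [← map_pow]
      exact commutator_invariant γ _ hx)

/-- a noncyclic group of order `p²` inside `G` has exponent `p` -/
theorem pow_eq_one_of_not_cyclic [Finite G] {p : ℕ} [Fact p.Prime] (K : Subgroup G)
    (hK : Nat.card K = p ^ 2) (hnc : ¬ IsCyclic K) (z : G) (hz : z ∈ K) : z ^ p = 1 := by
  by_contra hne
  apply hnc
  have h1 : ¬ (⟨z, hz⟩ : K) ^ p ^ 1 = 1 := by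
    rw [pow_one]
    intro h
    exact hne (congrArg Subtype.val h)
  have h2 : (⟨z, hz⟩ : K) ^ p ^ (1 + 1) = 1 := by
    rw [show (1 + 1 : ℕ) = 2 from rfl, ← hK]
    exact pow_card_eq_one'
  have hord := orderOf_eq_prime_pow h1 h2
  exact isCyclic_of_orderOf_eq_card (⟨z, hz⟩ : K) (by rw [hord, hK])

end Cfsg.Agent.Lib.Helper3.E4
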