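import Mathlib
import Cfsg.Agent.Lib.Helper3.E4Class2

/-!
# Groups of order `p ^ 4` with derived subgroup of order `p`, `p` odd, elementary centre
-/

set_option autoImplicit false
set_option maxHeartbeats 4000000
set_option maxRecDepth 100000
set_option linter.unusedVariables false
set_option linter.unusedSectionVars false
set_option linter.style.longLine false
set_option linter.style.haveILetI false
set_option linter.deprecated false

namespace Cfsg.Agent.Lib.Helper3.E4

open Cfsg Cfsg.Agent.Lib.Helper9 Cfsg.Agent.Lib.Lead.Fus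
open scoped commutatorElement

variable {G : Type*} [Group G]

theorem odd_case [Finite G] {p : ℕ} [Fact p.Prime] (hcard : Nat.card G = p ^ 4)
    (hna : ¬ ∀ a b : G, a * b = b * a) (A : Subgroup (MulAut G))
    (h1 : p ∣ (pCore p A).index) (hG' : Nat.card (commutator G) = p)
    (h2 : commutator G ≤ Subgroup.center G) (hZ : Nat.card (Subgroup.center G) = p ^ 2)
    (hp2 : p ≠ 2) (hexpZ : ∀ z ∈ Subgroup.center G, z ^ p = 1)
    (hpow : ∀ g : G, g ^ p ∈ commutator G) :
    ∃ (E : Type) (_ : Group E) (_ : Finite E), Cfsg.IsExtraspecial p E ∧ Nat.card E = p ^ 3 ∧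
      (∀ x : E, x ^ p = 1) ∧ Nonempty (G ≃* E × Multiplicative (ZMod p)) := by
  have hp : p.Prime := Fact.out
  have hG : IsPGroup p G := IsPGroup.of_card hcard
  have hp3 : 2 < p := by
    have := hp.two_le
    omega
  have hmulpow : ∀ x y : G, (x * y) ^ p = x ^ p * y ^ p := by
    intro x y
    have hu : y⁻¹ * x⁻¹ * y * x ∈ commutator G := by
      have h := comm_mem_commutator y⁻¹ x⁻¹
      rw [commutatorElement_def, inv_inv, inv_inv] at h
      exact h
    rw [mul_pow_class_two x y (fun g => (Subgroup.mem_center_iff.mp (h2 hu) g)) p]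
    obtain ⟨d, hd⟩ := hp.dvd_choose_self two_ne_zero hp3
    rw [hd, pow_mul, pow_eq_one_of_mem hG' hu, one_pow, mul_one]
  obtain ⟨φ, hφ⟩ : ∃ φ : G →* G, ∀ x, φ x = x ^ p :=
    ⟨{ toFun := fun x => x ^ p, map_one' := one_pow p, map_mul' := hmulpow }, fun x => rfl⟩
  have hrle : φ.range ≤ commutator G := by
    rintro _ ⟨x, rfl⟩
    rw [hφ]
    exact hpow x
  have hdv := Subgroup.card_dvd_of_le hrle
  rw [hG'] at hdv
  rcases (Nat.dvd_prime hp).mp hdv with hr | hr
  · -- exponent `p`
    have hexp : ∀ x : G, x ^ p = 1 := by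
      intro x
      have h3 := Subgroup.card_eq_one.mp hr
      have h4 : φ x ∈ φ.range := ⟨x, rfl⟩
      rw [h3, Subgroup.mem_bot, hφ] at h4
      exact h4
    have hlt : commutator G < Subgroup.center G := by
      refine lt_of_le_of_ne h2 (fun h => ?_)
      rw [h, hZ] at hG'
      have := Nat.pow_right_injective hp.two_le (hG'.trans (pow_one p).symm)
      omega
    obtain ⟨c, hcZ, hcG'⟩ := SetLike.exists_of_lt hlt
    obtain ⟨M, hidx, hNM, hcM, ⟨e⟩⟩ := split_of_not_mem hG (commutator G) le_rfl
      (fun x => by rw [hexp x]; exact Subgroup.one_mem _) c hcZ (hexp c) hcG'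
    have hMcard : Nat.card M = p ^ 3 := by
      have h := M.card_mul_index
      rw [hidx, hcard, pow_succ] at h
      exact Nat.eq_of_mul_eq_mul_right hp.pos h
    have hMna : ¬ ∀ a b : M, a * b = b * a := by
      intro hM
      apply hna
      intro a b
      apply e.injective
      rw [map_mul, map_mul]
      ext
      · exact congrArg Subtype.val (hM (e a).1 (e b).1)
      · show (e a).2 * (e b).2 = (e b).2 * (e a).2
        exact mul_comm _ _
    let se : Shrink.{0} M ≃* M := Shrink.mulEquiv
    have hEcard : Nat.card (Shrink.{0} M) = p ^ 3 := by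
      rw [Nat.card_congr se.toEquiv, hMcard]
    have hEna : ¬ ∀ a b : Shrink.{0} M, a * b = b * a := by
      intro hE
      apply hMna
      intro a b
      have h3 := hE (se.symm a) (se.symm b)
      rw [← map_mul, ← map_mul] at h3
      exact se.symm.injective h3
    obtain ⟨hcen, hcm, hfr, -⟩ := extraspecial_of_card_cube hEcard hEna
    refine ⟨Shrink.{0} M, inferInstance, inferInstance,
      ⟨⟨IsPGroup.of_card hEcard, hfr, hcm⟩, hcen⟩, hEcard, ?_, ⟨e.trans
        (MulEquiv.prodCongr se.symm (MulEquiv.refl _))⟩⟩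
    intro x
    apply se.injective
    rw [map_pow, map_one]
    apply Subtype.ext
    rw [Subgroup.coe_pow, Subgroup.coe_one]
    exact hexp _
  · -- the kernel of the `p`-power map gives a chain
    exfalso
    have hidx : φ.ker.index = p := by rw [Subgroup.index_ker, hr]
    have hKcard : Nat.card φ.ker = p ^ 3 := by
      have h := φ.ker.card_mul_index
      rw [hidx, hcard, pow_succ] at h
      exact Nat.eq_of_mul_eq_mul_right hp.pos h
    have hZK : Subgroup.center G ≤ φ.ker := by
      intro z hz
      rw [MonoidHom.mem_ker, hφ]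
      exact hexpZ z hz
    exact no_chain4 hcard A h1 (commutator G) (Subgroup.center G) φ.ker inferInstance inferInstance
      inferInstance h2 hZK hG' hZ hKcard
      (fun γ _ => commutator_invariant γ) (fun γ _ => center_invariant γ)
      (fun γ _ x hx => by
        rw [MonoidHom.mem_ker, hφ] at hx ⊢
        rw [← map_pow, hx, map_one])

end Cfsg.Agent.Lib.Helper3.E4
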