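import Mathlib
import Cfsg.Agent.Lib.Helper3.E4Class2
import Cfsg.Agent.Lib.Helper3.QuatLift

/-!
# Groups of order `2 ^ 4` with derived subgroup of order `2` and elementary centre of order `4`
-/

set_option autoImplicit false
set_option maxHeartbeats 4000000
set_option maxRecDepth 100000
set_option linter.unusedVariables false
set_option linter.unusedSectionVars false
set_option linter.style.longLine false
set_option linter.style.haveILetI false
set_option linter.deprecated false

namespace Cfsg.Agent.Lib.Helper3.E4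

open Cfsg Cfsg.Agent.Lib.Helper9 Cfsg.Agent.Lib.Lead.Fus Cfsg.Agent.Lib.Helper3
open scoped commutatorElement

variable {G : Type*} [Group G]

theorem quat_aux1 : ∀ g : QuaternionGroup 2, g ≠ 1 →
    g = QuaternionGroup.a 2 ∨ g ^ 2 = QuaternionGroup.a 2 := by decide

theorem quat_aux2 : ∀ g : QuaternionGroup 2, g ^ 2 = 1 →
    g = 1 ∨ g = QuaternionGroup.a 2 := by decide

theorem two_case [Finite G] (hcard : Nat.card G = 2 ^ 4)
    (hna : ¬ ∀ a b : G, a * b = b * a) (A : Subgroup (MulAut G))
    (h1 : 2 ∣ (pCore 2 A).index) (hG' : Nat.card (commutator G) = 2)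
    (h2 : commutator G ≤ Subgroup.center G) (hZ : Nat.card (Subgroup.center G) = 2 ^ 2)
    (hexpZ : ∀ z ∈ Subgroup.center G, z ^ 2 = 1)
    (hpow : ∀ g : G, g ^ 2 ∈ commutator G) :
    Nonempty (G ≃* QuaternionGroup 2 × Multiplicative (ZMod 2)) := by
  have hG : IsPGroup 2 G := IsPGroup.of_card hcard
  have huniq : ∀ a ∈ commutator G, ∀ b ∈ commutator G, a ≠ 1 → b ≠ 1 → a = b := by
    intro a ha b hb ha1 hb1
    obtain ⟨y, -, hy⟩ := (Nat.card_eq_two_iff' (1 : commutator G)).mp hG'
    have h3 := hy ⟨a, ha⟩ (fun h => ha1 (congrArg Subtype.val h))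
    have h4 := hy ⟨b, hb⟩ (fun h => hb1 (congrArg Subtype.val h))
    exact congrArg Subtype.val (h3.trans h4.symm)
  have hlt : commutator G < Subgroup.center G := by
    refine lt_of_le_of_ne h2 (fun h => ?_)
    rw [h, hZ] at hG'
    norm_num at hG'
  obtain ⟨c, hcZ, hcG'⟩ := SetLike.exists_of_lt hlt
  by_cases hD : ∃ t t' : G, t ^ 2 ≠ 1 ∧ t' ^ 2 ≠ 1 ∧ t * t' ≠ t' * t
  · obtain ⟨t, t', ht, ht', hntc⟩ := hD
    have hsq : t' ^ 2 = t ^ 2 := huniq _ (hpow t') _ (hpow t) ht' ht
    have hcm : ⁅t', t⁆ = t ^ 2 := by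
      refine huniq _ (comm_mem_commutator t' t) _ (hpow t) ?_ ht
      intro h
      rw [commutatorElement_eq_one_iff_commute] at h
      exact hntc h.symm
    have hA : t ^ (2 * 2) = 1 := by
      rw [pow_mul]
      exact pow_eq_one_of_mem hG' (hpow t)
    have hX : t' * t' = t ^ 2 := by rw [← sq, hsq]
    have hXA : t' * t * t'⁻¹ = t⁻¹ := by
      have h3 : t' * t * t'⁻¹ = ⁅t', t⁆ * t := by
        rw [commutatorElement_def]
        group
      rw [h3, hcm]
      apply eq_inv_of_mul_eq_one_left
      rw [← pow_succ, ← pow_succ]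
      exact hA
    obtain ⟨f1, hf1⟩ : ∃ f1 : QuaternionGroup 2 →* G, f1 (QuaternionGroup.a 2) = t ^ 2 := by
      refine ⟨quatLift 2 t t' hA hX hXA, ?_⟩
      have := quatLift_a_natCast (n := 2) t t' hA hX hXA 2
      rw [← this]
      rfl
    have hinj : Function.Injective f1 := by
      rw [injective_iff_map_eq_one]
      intro g hg
      by_contra hg1
      apply ht
      rcases quat_aux1 g hg1 with h | h
      · rw [← hf1, ← h, hg]
      · rw [← hf1, ← h, map_pow, hg, one_pow]
    have hKcard : Nat.card f1.range = 8 := by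
      rw [← Nat.card_congr (MonoidHom.ofInjective hinj).toEquiv, Nat.card_eq_fintype_card,
        QuaternionGroup.card]
    have hc2 : c ^ 2 = 1 := hexpZ c hcZ
    have hc1 : c ≠ 1 := fun h => hcG' (h ▸ Subgroup.one_mem _)
    have hCcard : Nat.card (Subgroup.zpowers c) = 2 := by
      rw [Nat.card_zpowers, orderOf_eq_prime hc2 hc1]
    have hCle : Subgroup.zpowers c ≤ Subgroup.center G := by
      rw [Subgroup.zpowers_le]
      exact hcZ
    have hdisj : ∀ x, x ∈ f1.range → x ∈ Subgroup.zpowers c → x = 1 := by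
      rintro x ⟨g, rfl⟩ hxC
      have hx2 : (f1 g) ^ 2 = 1 := pow_eq_one_of_mem hCcard hxC
      rw [← map_pow] at hx2
      have hg2 : g ^ 2 = 1 := hinj (hx2.trans (map_one f1).symm)
      rcases quat_aux2 g hg2 with h | h
      · rw [h, map_one]
      · exfalso
        rw [h, hf1] at hxC
        -- `t ^ 2 ∈ ⟨c⟩`, so `t ^ 2 = c`
        obtain ⟨y, -, hy⟩ := (Nat.card_eq_two_iff' (1 : Subgroup.zpowers c)).mp hCcard
        have h3 := hy ⟨t ^ 2, hxC⟩ (fun h => ht (congrArg Subtype.val h))
        have h4 := hy ⟨c, Subgroup.mem_zpowers c⟩ (fun h => hc1 (congrArg Subtype.val h))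
        have h5 : t ^ 2 = c := congrArg Subtype.val (h3.trans h4.symm)
        apply hcG'
        rw [← h5]
        exact hpow t
    obtain ⟨e1⟩ := prod_equiv_of_central f1.range (Subgroup.zpowers c) hCle hdisj
      (by rw [hcard, hKcard, hCcard]; norm_num)
    have hZc : Nat.card (Multiplicative (ZMod 2)) = 2 := by
      show Nat.card (ZMod 2) = 2
      exact Nat.card_zmod 2
    have e2 : Subgroup.zpowers c ≃* Multiplicative (ZMod 2) := mulEquivOfPrimeCardEq hCcard hZc
    exact ⟨e1.trans (MulEquiv.prodCongr (MonoidHom.ofInjective hinj).symm e2)⟩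
  · exfalso
    push Not at hD
    obtain ⟨t, ht⟩ : ∃ t : G, t ^ 2 ≠ 1 := by
      by_contra hcon
      push Not at hcon
      apply hna
      intro u v
      have hu : u⁻¹ = u := inv_eq_of_mul_eq_one_left (by rw [← sq]; exact hcon u)
      have hv : v⁻¹ = v := inv_eq_of_mul_eq_one_left (by rw [← sq]; exact hcon v)
      have h3 : (u * v)⁻¹ = u * v := inv_eq_of_mul_eq_one_left (by rw [← sq]; exact hcon (u * v))
      rw [mul_inv_rev, hu, hv] at h3
      exact h3.symm
    obtain ⟨S, hS⟩ : ∃ S : Set G, S = {g | g ^ 2 ≠ 1} ∪ (Subgroup.center G : Set G) := ⟨_, rfl⟩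
    have hScomm : ∀ x ∈ S, ∀ y ∈ S, x * y = y * x := by
      intro x hx y hy
      rw [hS] at hx hy
      rcases hx with hx | hx
      · rcases hy with hy | hy
        · exact hD x y hx hy
        · exact (Subgroup.mem_center_iff.mp hy x)
      · exact (Subgroup.mem_center_iff.mp hx y).symm
    have hMc := Subgroup.isMulCommutative_closure hScomm
    have hZM : Subgroup.center G ≤ Subgroup.closure S := by
      intro z hz
      apply Subgroup.subset_closure
      rw [hS]
      exact Or.inr hz
    have htM : t ∈ Subgroup.closure S := by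
      apply Subgroup.subset_closure
      rw [hS]
      exact Or.inl ht
    have hlt1 : Subgroup.center G < Subgroup.closure S := by
      refine lt_of_le_of_ne hZM (fun h => ht ?_)
      apply hexpZ t
      rw [h]
      exact htM
    have hlt2 : Subgroup.closure S < ⊤ := by
      rw [lt_top_iff_ne_top]
      intro h
      apply hna
      intro a b
      have ha : a ∈ Subgroup.closure S := by rw [h]; exact Subgroup.mem_top a
      have hb : b ∈ Subgroup.closure S := by rw [h]; exact Subgroup.mem_top b
      have h3 := hMc.is_comm.comm (⟨a, ha⟩ : Subgroup.closure S) ⟨b, hb⟩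
      exact congrArg Subtype.val h3
    have hMcard : Nat.card (Subgroup.closure S) = 2 ^ 3 := by
      have r1 := Cfsg.Agent.Lib.Helper2.le_relIndex_of_lt hG hlt1
      have c1 := Cfsg.Agent.Lib.Helper2.card_mul_relIndex hlt1.le
      have r2 := Cfsg.Agent.Lib.Helper2.le_relIndex_of_lt hG hlt2
      have c2 := Cfsg.Agent.Lib.Helper2.card_mul_relIndex hlt2.le
      rw [hZ] at c1
      rw [Subgroup.card_top, hcard] at c2
      have h8 : 8 ≤ Nat.card (Subgroup.closure S) := by
        rw [← c1]
        calc 8 = 2 ^ 2 * 2 := by norm_num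
          _ ≤ _ := Nat.mul_le_mul_left _ r1
      have h8' : Nat.card (Subgroup.closure S) * 2 ≤ 2 ^ 4 := by
        rw [← c2]
        exact Nat.mul_le_mul_left _ r2
      omega
    have hinv : ∀ γ : MulAut G, ∀ x ∈ Subgroup.closure S, γ x ∈ Subgroup.closure S := by
      intro γ
      have hle : Subgroup.closure S ≤ (Subgroup.closure S).comap γ.toMonoidHom := by
        rw [Subgroup.closure_le]
        intro s hs
        show γ s ∈ Subgroup.closure S
        apply Subgroup.subset_closure
        rw [hS] at hs ⊢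
        rcases hs with hs | hs
        · left
          show (γ s) ^ 2 ≠ 1
          rw [← map_pow]
          intro h
          exact hs (γ.injective (h.trans (map_one γ).symm))
        · right
          exact center_invariant γ s hs
      exact fun x hx => hle hx
    have hMn : (Subgroup.closure S).Normal := by
      refine ⟨fun n hn g => ?_⟩
      have h := hinv (MulAut.conj g) n hn
      rwa [MulAut.conj_apply] at h
    exact no_chain4 hcard A h1 (commutator G) (Subgroup.center G) (Subgroup.closure S)
      inferInstance inferInstance hMn h2 hZM hG' hZ hMcard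
      (fun γ _ => commutator_invariant γ) (fun γ _ => center_invariant γ)
      (fun γ _ => hinv γ)

end Cfsg.Agent.Lib.Helper3.E4
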