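import Mathlib
import Cfsg.Agent.Lib.Helper3.E4Abelian
import Cfsg.Agent.Lib.Helper3.E4Odd
import Cfsg.Agent.Lib.Helper3.E4Two

/-!
# Essential subgroups of order `p ^ 4` (S5188)
-/

set_option autoImplicit false
set_option maxHeartbeats 4000000
set_option maxRecDepth 100000
set_option linter.unusedVariables false
set_option linter.unusedSectionVars false
set_option linter.style.longLine false
set_option linter.style.haveILetI false
set_option linter.deprecated false

namespace Cfsg.Agent.Lib.Helper3.E4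

open Cfsg Cfsg.FusionSystem Cfsg.Agent.Lib.Helper9 Cfsg.Agent.Lib.Lead.Fus
open scoped commutatorElement

/-- groups of order `p ^ 4` admitting a group of automorphisms `A` with `p ∣ |A : O_p(A)|`
(and `O_p(A) = 1` in the abelian case) -/
theorem card_p4_main {G : Type*} [Group G] [Finite G] {p : ℕ} [Fact p.Prime]
    (hcard : Nat.card G = p ^ 4) (A : Subgroup (MulAut G)) (h1 : p ∣ (pCore p A).index)
    (hab : (∀ a b : G, a * b = b * a) → pCore p A = ⊥) :
    ((∀ a b : G, a * b = b * a) ∧ ∀ a : G, a ^ p = 1) ∨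
      Nonempty (G ≃* Multiplicative (ZMod (p ^ 2) × ZMod p × ZMod p)) ∨
      ((p = 2 ∨ p = 3) ∧ Nonempty (G ≃* Multiplicative (ZMod (p ^ 2) × ZMod (p ^ 2)))) ∨
      (Odd p ∧ ∃ (E : Type) (_ : Group E) (_ : Finite E), Cfsg.IsExtraspecial p E ∧
        Nat.card E = p ^ 3 ∧ (∀ x : E, x ^ p = 1) ∧
        Nonempty (G ≃* E × Multiplicative (ZMod p))) ∨
      (p = 2 ∧ Nonempty (G ≃* QuaternionGroup 2 × Multiplicative (ZMod 2))) ∨
      ((¬ ∀ a b : G, a * b = b * a) ∧ (∀ x : G, x ^ (p ^ 2) = 1) ∧
        IsCyclic (Subgroup.center G) ∧ Nat.card (Subgroup.center G) = p ^ 2) := by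
  have hp : p.Prime := Fact.out
  by_cases hc : ∀ a b : G, a * b = b * a
  · have hcore := hab hc
    have hdvd : p ∣ Nat.card A := by
      rw [hcore, Subgroup.index_bot] at h1
      exact h1
    rcases abelian_case hcard hc A hcore hdvd with h | h | h
    · exact Or.inl ⟨hc, h⟩
    · exact Or.inr (Or.inl h)
    · exact Or.inr (Or.inr (Or.inl h))
  · rcases card_center_cases hcard hc with hZ | hZ
    · exfalso
      by_cases hGZ : commutator G ≤ Subgroup.center G
      · have hne : commutator G ≠ ⊥ := by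
          intro h
          apply hc
          intro a b
          have h3 := comm_mem_commutator a b
          rw [h, Subgroup.mem_bot, commutatorElement_eq_one_iff_commute] at h3
          exact h3
        have hdv := Subgroup.card_dvd_of_le hGZ
        rw [hZ] at hdv
        rcases (Nat.dvd_prime hp).mp hdv with h | h
        · exact hne (Subgroup.card_eq_one.mp h)
        · have h4 := (card_center_of_card_commutator hcard hc h).2
          rw [hZ] at h4
          have := Nat.pow_right_injective hp.two_le ((pow_one p).trans h4)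
          omega
      · exact class3_false hcard hc A h1 hZ hGZ
    · obtain ⟨h2, hG'⟩ := card_commutator_of_card_center_sq hcard hc hZ
      have hpow := pow_mem_commutator hcard A h1 hG' h2 hZ
      by_cases hcyc : IsCyclic (Subgroup.center G)
      · refine Or.inr (Or.inr (Or.inr (Or.inr (Or.inr ⟨hc, ?_, hcyc, hZ⟩))))
        intro x
        rw [sq, pow_mul]
        exact pow_eq_one_of_mem hG' (hpow x)
      · have hexpZ := pow_eq_one_of_not_cyclic (Subgroup.center G) hZ hcyc
        by_cases hp2 : p = 2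
        · subst hp2
          exact Or.inr (Or.inr (Or.inr (Or.inr (Or.inl
            ⟨rfl, two_case hcard hc A h1 hG' h2 hZ hexpZ hpow⟩))))
        · exact Or.inr (Or.inr (Or.inr (Or.inl
            ⟨hp.odd_of_ne_two hp2, odd_case hcard hc A h1 hG' h2 hZ hp2 hexpZ hpow⟩)))

variable {Ω : Type*} [Group Ω] {S : Subgroup Ω}

/-- S5188 -/
theorem essential_card_p4 [Finite S] (p : ℕ) [Fact p.Prime] (hS : IsPGroup p S)
    (F : FusionSystem S) (hF : F.IsSaturated p) (H : Subgroup Ω) (hH : F.IsEssential p H)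
    (hcard : Nat.card H = p ^ 4) :
    Cfsg.IsElementaryAbelian p H ∨
      Nonempty (↥H ≃* Multiplicative (ZMod (p ^ 2) × ZMod p × ZMod p)) ∨
      ((p = 2 ∨ p = 3) ∧ Nonempty (↥H ≃* Multiplicative (ZMod (p ^ 2) × ZMod (p ^ 2)))) ∨
      (Odd p ∧ ∃ (E : Type) (_ : Group E) (_ : Finite E), Cfsg.IsExtraspecial p E ∧
        Nat.card E = p ^ 3 ∧ (∀ x : E, x ^ p = 1) ∧
        Nonempty (↥H ≃* E × Multiplicative (ZMod p))) ∨
      (p = 2 ∧ Nonempty (↥H ≃* QuaternionGroup 2 × Multiplicative (ZMod 2))) ∨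
      (¬ IsMulCommutative ↥H ∧ (∀ x ∈ H, x ^ (p ^ 2) = 1) ∧ IsCyclic ↥(Subgroup.center ↥H) ∧
        Nat.card (Subgroup.center ↥H) = p ^ 2) := by
  classical
  have hp : p.Prime := Fact.out
  have hHS : H ≤ S := hH.1.1
  have hfinH : Finite H := finite_of_le hHS
  have hrad := Cfsg.Agent.S5080.result p hS F hF H hH
  obtain ⟨-, -, hn, E, hE⟩ := hH
  haveI := hn
  have hQdvd : p ∣ Nat.card (F.autGroup H ⧸ (Inn H).subgroupOf (F.autGroup H)) := hE.1
  have hpc : pCore p (F.autGroup H) = (Inn H).subgroupOf (F.autGroup H) := by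
    ext x
    rw [Subgroup.mem_subgroupOf, ← hrad.2, Subgroup.mem_map]
    constructor
    · intro hx
      exact ⟨x, hx, rfl⟩
    · rintro ⟨y, hy, hyx⟩
      have hyx' : y = x := Subtype.ext hyx
      rw [← hyx']
      exact hy
  have h1 : p ∣ (pCore p (F.autGroup H)).index := by
    rw [hpc, Subgroup.index_eq_card]
    exact hQdvd
  have hab : (∀ a b : H, a * b = b * a) → pCore p (F.autGroup H) = ⊥ := by
    intro hab
    have hInn : Inn H = ⊥ := by
      rw [MonoidHom.range_eq_bot_iff]
      ext h x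
      simp [MulAut.conj_apply, hab h x]
    have h3 := hrad.2
    rw [hInn] at h3
    exact (Subgroup.map_eq_bot_iff_of_injective _ (Subgroup.subtype_injective _)).mp h3
  rcases card_p4_main hcard (F.autGroup H) h1 hab with h | h | h | h | h | h
  · left
    refine ⟨⟨⟨h.1⟩⟩, fun a ha => ?_⟩
    have h3 := h.2 ⟨a, ha⟩
    have h4 := congrArg (fun z : H => (z : Ω)) h3
    simpa using h4
  · exact Or.inr (Or.inl h)
  · exact Or.inr (Or.inr (Or.inl h))
  · exact Or.inr (Or.inr (Or.inr (Or.inl h)))
  · exact Or.inr (Or.inr (Or.inr (Or.inr (Or.inl h))))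
  · refine Or.inr (Or.inr (Or.inr (Or.inr (Or.inr ⟨?_, ?_, h.2.2.1, h.2.2.2⟩))))
    · intro hcomm
      apply h.1
      intro a b
      exact hcomm.is_comm.comm a b
    · intro a ha
      have h3 := h.2.1 ⟨a, ha⟩
      have h4 := congrArg (fun z : H => (z : Ω)) h3
      simpa using h4

end Cfsg.Agent.Lib.Helper3.E4
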