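import Mathlib
import Cfsg.Prelude.Def_ChevStructure
import Cfsg.Agent.Lib.Helper5.ChevUOrd
import Cfsg.Agent.Lib.Helper5.ChevTwistN
import Cfsg.Agent.Lib.Helper5.ChevChk.AddAll
import Cfsg.Agent.Lib.Helper6.E6EvDefs

set_option autoImplicit false
set_option maxHeartbeats 4000000

/-!
# Farm E6EV (S2175), unit P' : the three representatives have order two
-/

namespace Cfsg.Agent.Lib.Helper3.E6Ev

open Cfsg Cfsg.Lie Cfsg.Agent.Lib.Helper5.ChevSym Cfsg.Agent.Lib.Helper5.ChevStruct
  Cfsg.Agent.Lib.Helper6.E6Ev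

variable {F : Type*} [Field F]

theorem h3_posFrom_E6 : posFrom chevE6 0 =
    [36, 37, 38, 39, 40, 41, 42, 43, 44, 45, 46, 47, 48, 49, 50, 51, 52, 53, 54, 55, 56, 57, 58,
      59, 60, 61, 62, 63, 64, 65, 66, 67, 68, 69, 70, 71] := by
  decide +kernel

/-- an ordered product over the positive roots with a non-zero parameter is not `1` -/
theorem h3_word_ne_one6 (t : ℕ → F) (r : ℕ) (hr : r ∈ posFrom chevE6 0) (ht : t r ≠ 0) :
    chevE6.wordMat F ((posFrom chevE6 0).map fun r => (r, t r)) ≠ 1 := by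
  intro h
  have h0 : chevE6.wordMat F ((posFrom chevE6 0).map fun r => (r, (fun _ => (0 : F)) r)) = 1 := by
    unfold ChevalleyDatum.wordMat
    rw [List.map_map]
    apply List.prod_eq_one
    intro x hx
    obtain ⟨s, -, rfl⟩ := List.mem_map.1 hx
    exact x_at_zero chevE6 s
  have hn : chevE6.nroots ≤ 0 + 72 := by decide
  exact ht (upperSub_unique chevE6 memE6v 72 0 hn t (fun _ => 0) (h.trans h0.symm) r hr)

theorem h3_xGL_sq6 [CharP F 2] (r : ℕ) :
    xGL chevE6 memE6v r (1 : F) * xGL chevE6 memE6v r 1 = 1 := by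
  apply Units.ext
  rw [Units.val_mul, xGL_val, x_add chevE6 (by simp) r 1 1, CharTwo.add_self_eq_zero, x_at_zero]
  rfl

theorem h3_prod_sq6 {G : Type*} [Group G] (a b : G) (ha : a * a = 1) (hb : b * b = 1)
    (hc : Commute a b) : (a * b) * (a * b) = 1 := by
  calc a * b * (a * b) = a * (b * a) * b := by group
    _ = a * (a * b) * b := by rw [hc.eq]
    _ = (a * a) * (b * b) := by group
    _ = 1 := by rw [ha, hb, one_mul]

theorem h3_x71_ne : chevE6.x F 71 1 ≠ 1 := by
  have h := h3_word_ne_one6 (F := F) (fun r => if r = 71 then 1 else 0) 71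
    (by rw [h3_posFrom_E6]; decide) (by simp)
  rw [h3_posFrom_E6] at h
  simpa [ChevalleyDatum.wordMat, x_at_zero] using h

theorem h3_x66_68_ne : chevE6.x F 66 1 * chevE6.x F 68 1 ≠ 1 := by
  have h := h3_word_ne_one6 (F := F) (fun r => if r = 66 ∨ r = 68 then 1 else 0) 66
    (by rw [h3_posFrom_E6]; decide) (by simp)
  rw [h3_posFrom_E6] at h
  simpa [ChevalleyDatum.wordMat, x_at_zero] using h

theorem h3_x55_65_67_ne : chevE6.x F 55 1 * chevE6.x F 65 1 * chevE6.x F 67 1 ≠ 1 := by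
  have h := h3_word_ne_one6 (F := F) (fun r => if r = 55 ∨ r = 65 ∨ r = 67 then 1 else 0) 55
    (by rw [h3_posFrom_E6]; decide) (by simp)
  rw [h3_posFrom_E6] at h
  simpa [ChevalleyDatum.wordMat, x_at_zero, mul_assoc] using h

theorem h3_comm_68_66 : Commute (xGL chevE6 memE6v 68 (1 : F)) (xGL chevE6 memE6v 66 1) :=
  xGL_commute chevE6 memE6v 68 66 (by decide +kernel) 1 1

theorem h3_comm_55_65 : Commute (xGL chevE6 memE6v 55 (1 : F)) (xGL chevE6 memE6v 65 1) :=
  xGL_commute chevE6 memE6v 55 65 (by decide +kernel) 1 1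

theorem h3_comm_55_67 : Commute (xGL chevE6 memE6v 55 (1 : F)) (xGL chevE6 memE6v 67 1) :=
  xGL_commute chevE6 memE6v 55 67 (by decide +kernel) 1 1

theorem h3_comm_65_67 : Commute (xGL chevE6 memE6v 65 (1 : F)) (xGL chevE6 memE6v 67 1) :=
  xGL_commute chevE6 memE6v 65 67 (by decide +kernel) 1 1

/-- Unit P' -/
theorem h3_P_yGL6_order [CharP F 2] (k : Fin 3) : orderOf (yGL6 F k) = 2 := by
  have key : ∀ y : GL chevE6.Idx F, y * y = 1 → y ≠ 1 → orderOf y = 2 := by
    intro y h1 h2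
    exact orderOf_eq_prime (by rw [pow_two]; exact h1) h2
  fin_cases k
  · apply key
    · exact h3_xGL_sq6 71
    · intro h
      apply h3_x71_ne (F := F)
      have := congrArg Units.val h
      simpa [yGL6] using this
  · apply key
    · exact h3_prod_sq6 _ _ (h3_xGL_sq6 68) (h3_xGL_sq6 66) h3_comm_68_66
    · intro h
      apply h3_x66_68_ne (F := F)
      have h' : xGL chevE6 memE6v 66 (1 : F) * xGL chevE6 memE6v 68 1 = 1 := by
        rw [← h3_comm_68_66.eq]; exact h
      have := congrArg Units.val h'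
      simpa using this
  · apply key
    · have hc : Commute (xGL chevE6 memE6v 55 (1 : F) * xGL chevE6 memE6v 65 1)
          (xGL chevE6 memE6v 67 1) := h3_comm_55_67.mul_left h3_comm_65_67
      exact h3_prod_sq6 _ _ (h3_prod_sq6 _ _ (h3_xGL_sq6 55) (h3_xGL_sq6 65) h3_comm_55_65)
        (h3_xGL_sq6 67) hc
    · intro h
      apply h3_x55_65_67_ne (F := F)
      have := congrArg Units.val h
      simpa [yGL6] using this

end Cfsg.Agent.Lib.Helper3.E6Ev
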