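import Mathlib
import Cfsg.Agent.S1070
import Cfsg.Agent.Lib.Helper1.MNDB2

set_option autoImplicit false

/-!
Farm E6M2 (S2341): faithfulness from simplicity.  An irreducible complex representation of
`²E₆(q)` with a non-trivial element in its kernel has degree at most one.
-/

namespace Cfsg.Agent.Lib.Helper3.E6M2Faith

open Cfsg Cfsg.Lie

theorem faith_tw {K : Type*} [Field K] [Fintype K] {q : ℕ} (hq : IsPrimePow q)
    (hK : Fintype.card K = q ^ 2) {V : Type*} [AddCommGroup V] [Module ℂ V]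
    (ρ : Representation ℂ ↥(twistedE6 K q) V) (hirr : ρ.IsIrreducible)
    (g : ↥(twistedE6 K q)) (hg : g ≠ 1) (h : ρ g = 1) : Module.finrank ℂ V ≤ 1 := by
  have hsimple : IsSimpleGroup ↥(twistedE6 K q) := (Cfsg.Agent.S1070.result (K := K) hq hK).1
  have hker : (ρ : ↥(twistedE6 K q) →* (V →ₗ[ℂ] V)).ker = ⊤ := by
    rcases hsimple.eq_bot_or_eq_top_of_normal
      (ρ : ↥(twistedE6 K q) →* (V →ₗ[ℂ] V)).ker inferInstance with h' | h'
    · exfalso
      have h1 : g ∈ (ρ : ↥(twistedE6 K q) →* (V →ₗ[ℂ] V)).ker := MonoidHom.mem_ker.2 h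
      rw [h', Subgroup.mem_bot] at h1
      exact hg h1
    · exact h'
  have htriv : ∀ x, ρ x = LinearMap.id := by
    intro x
    have : x ∈ (ρ : ↥(twistedE6 K q) →* (V →ₗ[ℂ] V)).ker := by
      rw [hker]; trivial
    exact MonoidHom.mem_ker.1 this
  exact (Cfsg.Agent.Lib.Helper1.MND.finrank_eq_one_of_trivial ρ hirr htriv).le

end Cfsg.Agent.Lib.Helper3.E6M2Faith
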