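import Mathlib
import Cfsg.Agent.Lib.Helper3.E6M2DefsC
import Cfsg.Agent.Lib.Helper2.E6MCoord
import Cfsg.Agent.Lib.Helper2.E6MCell
import Cfsg.Agent.Lib.Helper6.E6M2Frob
import Cfsg.Agent.Lib.Helper5.FrobFix

set_option autoImplicit false
set_option linter.unusedVariables false
set_option linter.unusedSectionVars false

/-!
Farm E6M2 (S2341), unit NPAIR2 in `_of` form (the parametrisation of `Cell I012 ∩ Λ_τ` by
`F_q^× × Herm` is a hypothesis): the number of `l ∈ Cell I012 ∩ Λ_τ` with `l_034 ≠ 0`.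
-/

namespace Cfsg.Agent.Lib.Helper3.E6M2NPAIR

open Matrix Cfsg.Agent.Lib.Helper5.E6M Cfsg.Agent.Lib.Helper5.E6M.T3
  Cfsg.Agent.Lib.Helper2.E6MCell Cfsg.Agent.Lib.Helper3.E6M2C

/-- the fixed field of `x ↦ x ^ q`, as a subtype -/
abbrev Fq (K : Type*) [Field K] (q : ℕ) : Type _ := {t : K // t ^ q = t}

/-- the signs of the hermitian symmetry of `A` for `I = 012` -/
def eta012 (j k : Fin 3) : ℤ := if (j = 0 ↔ k = 2) then 1 else -1

section

variable {K : Type*} [Field K]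

/-- `A` is hermitian with respect to the anti-diagonal (signs `eta012`) -/
def Herm012 (q : ℕ) (A : Matrix (Fin 3) (Fin 3) K) : Prop :=
  ∀ j k : Fin 3, A (Fin.rev k) (Fin.rev j) = ((eta012 j k : ℤ) : K) * A j k ^ q

/-- the general hermitian matrix -/
def mkA (q : ℕ) (x00 x01 x10 a02 a11 a20 : K) : Matrix (Fin 3) (Fin 3) K :=
  !![x00, x01, a02; x10, a11, -x01 ^ q; a20, x10 ^ q, -x00 ^ q]

theorem d012_034 : desc I012 I034 = ![(true, 0), (false, 0), (false, 1)] := by decide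

theorem c012_034 (A : Matrix (Fin 3) (Fin 3) K) :
    pl (cellMat I012 A) I034 = A 0 1 * A 1 2 - A 0 2 * A 1 1 := by
  rw [pl_cellMat, d012_034]; simp [det3', rowD]

end

variable {K : Type*} [Field K] [Fintype K] [DecidableEq K] (q : ℕ) (hq : IsPrimePow q)
  (hK : Fintype.card K = q ^ 2)

include hq hK in
theorem card_Fq : Fintype.card (Fq K q) = q := by
  have := Cfsg.Agent.Lib.Helper5.FrobFix.card_fixed (K := K) (q := q) (m := 2) hq.two_le hK
  rwa [Nat.card_eq_fintype_card] at this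

include hq hK in
theorem card_Fq_ne : Fintype.card {b : Fq K q // b.1 ≠ 0} = q - 1 := by
  rw [Fintype.card_subtype_compl, card_Fq q hq hK]
  congr 1
  rw [Fintype.card_eq_one_iff]
  refine ⟨⟨⟨0, zero_pow hq.ne_zero⟩, rfl⟩, ?_⟩
  rintro ⟨⟨b, hb⟩, hb0⟩
  apply Subtype.ext
  apply Subtype.ext
  exact hb0

include hK in
theorem norm_fix (x : K) : (x ^ (q + 1)) ^ q = x ^ (q + 1) := by
  rw [← pow_mul, mul_comm, pow_mul, pow_succ,
    Cfsg.Agent.Lib.Helper6.E6M2Frob.pow_q_pow_q q hK, pow_succ, mul_comm]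

include hq hK in
theorem herm_mkA (x00 x01 x10 a02 a11 a20 : K) (h02 : a02 ^ q = a02) (h11 : a11 ^ q = a11)
    (h20 : a20 ^ q = a20) : Herm012 q (mkA q x00 x01 x10 a02 a11 a20) := by
  have hn := Cfsg.Agent.Lib.Helper6.E6M2Frob.neg_pow_q q hq hK
  have hp := Cfsg.Agent.Lib.Helper6.E6M2Frob.pow_q_pow_q q hK
  intro j k
  fin_cases j <;> fin_cases k <;>
    simp [mkA, eta012, Fin.rev, hn, hp, h02, h11, h20]

include hq hK in
theorem herm_eq_mkA (A : Matrix (Fin 3) (Fin 3) K) (h : Herm012 q A) :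
    A = mkA q (A 0 0) (A 0 1) (A 1 0) (A 0 2) (A 1 1) (A 2 0) ∧ A 0 2 ^ q = A 0 2 ∧
      A 1 1 ^ q = A 1 1 ∧ A 2 0 ^ q = A 2 0 := by
  have h00 := h 0 0
  have h01 := h 0 1
  have h02 := h 0 2
  have h10 := h 1 0
  have h11 := h 1 1
  have h20 := h 2 0
  simp [eta012, Fin.rev] at h00 h01 h02 h10 h11 h20
  refine ⟨?_, h02.symm, h11.symm, h20.symm⟩
  ext j k
  fin_cases j <;> fin_cases k <;> simp [mkA, h00, h01, h10]

/-! ### the core count -/

include hq hK in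
theorem div_mem_Fq (x b : K) (hb : b ^ q = b) : (-(x ^ (q + 1)) / b) ^ q = -(x ^ (q + 1)) / b := by
  rw [div_pow, hb, Cfsg.Agent.Lib.Helper6.E6M2Frob.neg_pow_q q hq hK, norm_fix q hK]

/-- the equivalence behind `card_zero` -/
noncomputable def zeroEquiv (hq : IsPrimePow q) (hK : Fintype.card K = q ^ 2) :
    {p : K × Fq K q × Fq K q // p.1 ^ (q + 1) + p.2.1.1 * p.2.2.1 = 0} ≃
      (K × {b : Fq K q // b.1 ≠ 0}) ⊕ Fq K q where
  toFun p := if hb : p.1.2.1.1 = 0 then Sum.inr p.1.2.2 else Sum.inl (p.1.1, ⟨p.1.2.1, hb⟩)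
  invFun s := Sum.elim
    (fun xb => ⟨(xb.1, xb.2.1, ⟨-(xb.1 ^ (q + 1)) / xb.2.1.1,
        div_mem_Fq q hq hK xb.1 xb.2.1.1 xb.2.1.2⟩), by
        have hb : xb.2.1.1 ≠ 0 := xb.2.2
        show xb.1 ^ (q + 1) + xb.2.1.1 * (-(xb.1 ^ (q + 1)) / xb.2.1.1) = 0
        field_simp
        ring⟩)
    (fun d => ⟨(0, ⟨0, zero_pow hq.ne_zero⟩, d), by simp⟩) s
  left_inv := by
    rintro ⟨⟨x, ⟨b, hbq⟩, ⟨d, hdq⟩⟩, h⟩
    by_cases hb : b = 0
    · subst hb
      have hx : x = 0 := by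
        simpa using h
      subst hx
      simp
    · simp only [hb, dite_false, Sum.elim_inl]
      apply Subtype.ext
      simp only [Prod.mk.injEq, true_and]
      apply Subtype.ext
      show -(x ^ (q + 1)) / b = d
      have h' : x ^ (q + 1) + b * d = 0 := h
      field_simp
      linear_combination -h'
  right_inv := by
    rintro (⟨x, ⟨⟨b, hbq⟩, hb⟩⟩ | d)
    · have hb' : b ≠ 0 := hb
      simp [hb']
    · simp

include hq hK in
theorem card_zero :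
    Fintype.card {p : K × Fq K q × Fq K q // p.1 ^ (q + 1) + p.2.1.1 * p.2.2.1 = 0} =
      q ^ 2 * (q - 1) + q := by
  rw [Fintype.card_congr (zeroEquiv q hq hK), Fintype.card_sum, Fintype.card_prod, hK,
    card_Fq_ne q hq hK, card_Fq q hq hK]

include hq hK in
theorem core_card :
    Fintype.card {p : K × Fq K q × Fq K q // p.1 ^ (q + 1) + p.2.1.1 * p.2.2.1 ≠ 0} =
      q * (q - 1) * (q ^ 2 + 1) := by
  rw [Fintype.card_subtype_compl, card_zero q hq hK, Fintype.card_prod, Fintype.card_prod, hK,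
    card_Fq q hq hK]
  obtain ⟨m, rfl⟩ : ∃ m, q = m + 1 := ⟨q - 1, by have := hq.two_le; omega⟩
  apply Nat.sub_eq_of_eq_add
  simp only [Nat.add_sub_cancel]
  ring

/-! ### the parametrisation -/

/-- the parameter space -/
abbrev Par (K : Type*) [Field K] (q : ℕ) : Type _ :=
  {b : Fq K q // b.1 ≠ 0} × (K × K × Fq K q) ×
    {p : K × Fq K q × Fq K q // p.1 ^ (q + 1) + p.2.1.1 * p.2.2.1 ≠ 0}

/-- the hermitian matrix of a parameter -/
def matOf (p : Par K q) : Matrix (Fin 3) (Fin 3) K :=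
  mkA q p.2.1.1 p.2.2.1.1 p.2.1.2.1 p.2.2.1.2.1.1 p.2.2.1.2.2.1 p.2.1.2.2.1

/-- the vector of a parameter -/
def vecOf (p : Par K q) : T3 → K := p.1.1.1 • pl (cellMat I012 (matOf q p))

include hq hK in
theorem card_Par : Fintype.card (Par K q) = (q - 1) ^ 2 * q ^ 6 * (q ^ 2 + 1) := by
  rw [Fintype.card_prod, Fintype.card_prod, Fintype.card_prod, Fintype.card_prod, hK,
    card_Fq_ne q hq hK, card_Fq q hq hK, core_card q hq hK]
  ring

include hq hK in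
/-- unit NPAIR2 with the parametrisation of `Cell I012 ∩ Λ_τ` as a hypothesis -/
theorem npair2_of
    (hparam : ∀ l : T3 → K, (l ∈ Cell I012 ∧ InLam q l) ↔
      ∃ (a : K) (A : Matrix (Fin 3) (Fin 3) K), a ^ q = a ∧ a ≠ 0 ∧ Herm012 q A ∧
        l = a • pl (cellMat I012 A)) :
    Nat.card {l : T3 → K // l ∈ Cell I012 ∧ InLam q l ∧ l I034 ≠ 0} =
      (q - 1) ^ 2 * q ^ 6 * (q ^ 2 + 1) := by
  classical
  rw [← card_Par (K := K) q hq hK, ← Nat.card_eq_fintype_card]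
  symm
  have hmat : ∀ p : Par K q, Herm012 q (matOf q p) := fun p =>
    herm_mkA q hq hK _ _ _ _ _ _ p.2.2.1.2.1.2 p.2.2.1.2.2.2 p.2.1.2.2.2
  have h034 : ∀ p : Par K q, vecOf q p I034 =
      -(p.1.1.1 * (p.2.2.1.1 ^ (q + 1) + p.2.2.1.2.1.1 * p.2.2.1.2.2.1)) := by
    intro p
    simp only [vecOf, Pi.smul_apply, smul_eq_mul, c012_034, matOf, mkA]
    simp
    ring
  have hwd : ∀ p : Par K q, vecOf q p ∈ Cell I012 ∧ InLam q (vecOf q p) ∧ vecOf q p I034 ≠ 0 := by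
    intro p
    have h1 := (hparam (vecOf q p)).2 ⟨p.1.1.1, matOf q p, p.1.1.2, p.1.2, hmat p, rfl⟩
    refine ⟨h1.1, h1.2, ?_⟩
    rw [h034]
    exact neg_ne_zero.mpr (mul_ne_zero p.1.2 p.2.2.2)
  refine Nat.card_congr (Equiv.ofBijective (fun p => ⟨vecOf q p, hwd p⟩) ⟨?_, ?_⟩)
  · -- injective
    intro p p' h
    have h1 : vecOf q p = vecOf q p' := congrArg Subtype.val h
    obtain ⟨ha, hA⟩ := cell_param_injective I012 p.1.1.1 p'.1.1.1 p.1.2 _ _ h1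
    have e := fun j k => congrFun (congrFun hA j) k
    have e00 := e 0 0
    have e01 := e 0 1
    have e02 := e 0 2
    have e10 := e 1 0
    have e11 := e 1 1
    have e20 := e 2 0
    simp [matOf, mkA] at e00 e01 e02 e10 e11 e20
    obtain ⟨⟨⟨a, _⟩, _⟩, ⟨x00, x10, ⟨a20, _⟩⟩, ⟨⟨x01, ⟨a02, _⟩, ⟨a11, _⟩⟩, _⟩⟩ := p
    obtain ⟨⟨⟨a', _⟩, _⟩, ⟨x00', x10', ⟨a20', _⟩⟩, ⟨⟨x01', ⟨a02', _⟩, ⟨a11', _⟩⟩, _⟩⟩ := p'
    simp only at ha e00 e01 e02 e10 e11 e20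
    subst ha e00 e01 e02 e10 e11 e20
    rfl
  · -- surjective
    rintro ⟨l, hl1, hl2, hl3⟩
    obtain ⟨a, A, haq, ha0, hA, rfl⟩ := (hparam l).1 ⟨hl1, hl2⟩
    obtain ⟨hAeq, h02, h11, h20⟩ := herm_eq_mkA q hq hK A hA
    have hcore : A 0 1 ^ (q + 1) + A 0 2 * A 1 1 ≠ 0 := by
      intro h0
      apply hl3
      rw [Pi.smul_apply, smul_eq_mul, c012_034]
      have : A 1 2 = -A 0 1 ^ q := by
        rw [hAeq]; simp [mkA]
      rw [this]
      have : A 0 1 * -A 0 1 ^ q - A 0 2 * A 1 1 = -(A 0 1 ^ (q + 1) + A 0 2 * A 1 1) := by ring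
      rw [this, h0, neg_zero, mul_zero]
    refine ⟨(⟨⟨a, haq⟩, ha0⟩, (A 0 0, A 1 0, ⟨A 2 0, h20⟩),
      ⟨(A 0 1, ⟨A 0 2, h02⟩, ⟨A 1 1, h11⟩), hcore⟩), ?_⟩
    apply Subtype.ext
    show a • pl (cellMat I012 (mkA q (A 0 0) (A 0 1) (A 1 0) (A 0 2) (A 1 1) (A 2 0))) = _
    rw [← hAeq]

end Cfsg.Agent.Lib.Helper3.E6M2NPAIR
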