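import Mathlib
import Cfsg.Agent.Lib.Helper3.E6M2NPAIR
import Cfsg.Agent.Lib.Helper3.E6M2Param
import Cfsg.Agent.Lib.Helper6.E6M2CELL

set_option autoImplicit false

/-!
Farm E6M2 (S2341), unit NPAIR2, verbatim.
-/

namespace Cfsg.Agent.Lib.Helper3.E6M2NPAIRV

open Matrix Cfsg.Agent.Lib.Helper5.E6M Cfsg.Agent.Lib.Helper3.E6M2C

variable {K : Type*} [Field K] [Fintype K] [DecidableEq K] (q : ℕ) (hq : IsPrimePow q)
  (hK : Fintype.card K = q ^ 2)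

include hq hK in
/-- unit NPAIR2 (`l_034` is `± c` times a hermitian `2 × 2` minor of `A`:
`q (q - 1) (q² + 1)` non-singular ones) -/
theorem npair2 : Nat.card {l : T3 → K // l ∈ Cell I012 ∧ InLam q l ∧ l I034 ≠ 0} =
    (q - 1) ^ 2 * q ^ 6 * (q ^ 2 + 1) :=
  Cfsg.Agent.Lib.Helper3.E6M2NPAIR.npair2_of q hq hK
    (Cfsg.Agent.Lib.Helper3.E6M2Param.hparam_of q hq hK
      (fun l hl h0 hN => Cfsg.Agent.Lib.Helper6.E6M2CELL.inLam_of_cell012 q hq hK l hl h0 hN))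

end Cfsg.Agent.Lib.Helper3.E6M2NPAIRV
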