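import Mathlib
import Cfsg.Agent.Lib.Helper3.E6M2DefsC
import Cfsg.Agent.Lib.Helper2.E6M2Chain
import Cfsg.Agent.Lib.Helper6.E6M2Frob

set_option autoImplicit false
set_option linter.unusedVariables false
set_option linter.unusedSectionVars false
set_option linter.unusedSimpArgs false

/-!
Farm E6M2 (S2341): the hermitian parametrisation `Param q (etas I) I` of `Cell I ∩ Λ_τ` for the
eight long `I`, from the hard direction (`inLam_of_cell`, helper6; a hypothesis here).
Tables generated by a script.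
-/

namespace Cfsg.Agent.Lib.Helper3.E6M2Param8

open Matrix Cfsg.Agent.Lib.Helper5.E6M Cfsg.Agent.Lib.Helper5.E6M.T3
  Cfsg.Agent.Lib.Helper2.E6MCell Cfsg.Agent.Lib.Helper3.E6M2C Cfsg.Agent.Lib.Helper2.E6M2Herm
  Cfsg.Agent.Lib.Helper2.E6M2Chain

/-- the three sign tables -/
def etaP (j k : Fin 3) : ℤ := if (j = 0 ↔ k = 2) then 1 else -1
def etaQ (j k : Fin 3) : ℤ := if (k = 0 ↔ j = 2) then 1 else -1

/-- the sign tables of the eight long `I` -/
def etas (I : T3) : Fin 3 → Fin 3 → ℤ :=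
  if I = (T3.mk' 0 1 2) ∨ I = (T3.mk' 0 3 4) ∨ I = (T3.mk' 1 3 5) then etaP
  else if I = (T3.mk' 0 2 4) ∨ I = (T3.mk' 1 2 5) ∨ I = (T3.mk' 3 4 5) then etaQ
  else fun _ _ => 1

theorem etas_ok : ∀ I : T3, IsLong I → EtaOK (etas I) := by
  have h : ∀ I : T3, IsLong I → ((∀ j k, etas I j k = 1 ∨ etas I j k = -1) ∧
      (∀ j k, etas I (Fin.rev k) (Fin.rev j) = etas I j k) ∧ (∀ j, etas I j (Fin.rev j) = 1)) := by
    decide
  intro I hI
  exact ⟨(h I hI).1, (h I hI).2.1, (h I hI).2.2⟩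

theorem long_cases : ∀ I : T3, IsLong I → I ∈ ([(T3.mk' 0 1 2), (T3.mk' 0 1 3), (T3.mk' 0 2 4), (T3.mk' 0 3 4), (T3.mk' 1 2 5), (T3.mk' 1 3 5), (T3.mk' 2 4 5), (T3.mk' 3 4 5)] : List T3) := by decide

namespace P012

section tables

variable {K : Type*} [Field K]

theorem dN00 : desc (T3.mk' 0 1 2) (T3.mk' 1 2 3) = ![(true, 1), (true, 2), (false, 0)] := by decide
theorem cN00 (A : Matrix (Fin 3) (Fin 3) K) : pl (cellMat (T3.mk' 0 1 2) A) (T3.mk' 1 2 3) = A 0 0 := by
  rw [pl_cellMat, dN00]; simp [det3', rowD]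
theorem dN01 : desc (T3.mk' 0 1 2) (T3.mk' 0 2 3) = ![(true, 0), (true, 2), (false, 0)] := by decide
theorem cN01 (A : Matrix (Fin 3) (Fin 3) K) : pl (cellMat (T3.mk' 0 1 2) A) (T3.mk' 0 2 3) = -A 0 1 := by
  rw [pl_cellMat, dN01]; simp [det3', rowD]
theorem dN02 : desc (T3.mk' 0 1 2) (T3.mk' 0 1 3) = ![(true, 0), (true, 1), (false, 0)] := by decide
theorem cN02 (A : Matrix (Fin 3) (Fin 3) K) : pl (cellMat (T3.mk' 0 1 2) A) (T3.mk' 0 1 3) = A 0 2 := by
  rw [pl_cellMat, dN02]; simp [det3', rowD]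
theorem dN10 : desc (T3.mk' 0 1 2) (T3.mk' 1 2 4) = ![(true, 1), (true, 2), (false, 1)] := by decide
theorem cN10 (A : Matrix (Fin 3) (Fin 3) K) : pl (cellMat (T3.mk' 0 1 2) A) (T3.mk' 1 2 4) = A 1 0 := by
  rw [pl_cellMat, dN10]; simp [det3', rowD]
theorem dN11 : desc (T3.mk' 0 1 2) (T3.mk' 0 2 4) = ![(true, 0), (true, 2), (false, 1)] := by decide
theorem cN11 (A : Matrix (Fin 3) (Fin 3) K) : pl (cellMat (T3.mk' 0 1 2) A) (T3.mk' 0 2 4) = -A 1 1 := by
  rw [pl_cellMat, dN11]; simp [det3', rowD]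
theorem dN12 : desc (T3.mk' 0 1 2) (T3.mk' 0 1 4) = ![(true, 0), (true, 1), (false, 1)] := by decide
theorem cN12 (A : Matrix (Fin 3) (Fin 3) K) : pl (cellMat (T3.mk' 0 1 2) A) (T3.mk' 0 1 4) = A 1 2 := by
  rw [pl_cellMat, dN12]; simp [det3', rowD]
theorem dN20 : desc (T3.mk' 0 1 2) (T3.mk' 1 2 5) = ![(true, 1), (true, 2), (false, 2)] := by decide
theorem cN20 (A : Matrix (Fin 3) (Fin 3) K) : pl (cellMat (T3.mk' 0 1 2) A) (T3.mk' 1 2 5) = A 2 0 := by
  rw [pl_cellMat, dN20]; simp [det3', rowD]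
theorem dN21 : desc (T3.mk' 0 1 2) (T3.mk' 0 2 5) = ![(true, 0), (true, 2), (false, 2)] := by decide
theorem cN21 (A : Matrix (Fin 3) (Fin 3) K) : pl (cellMat (T3.mk' 0 1 2) A) (T3.mk' 0 2 5) = -A 2 1 := by
  rw [pl_cellMat, dN21]; simp [det3', rowD]
theorem dN22 : desc (T3.mk' 0 1 2) (T3.mk' 0 1 5) = ![(true, 0), (true, 1), (false, 2)] := by decide
theorem cN22 (A : Matrix (Fin 3) (Fin 3) K) : pl (cellMat (T3.mk' 0 1 2) A) (T3.mk' 0 1 5) = A 2 2 := by
  rw [pl_cellMat, dN22]; simp [det3', rowD]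

end tables

theorem tauN00 : tauI (T3.mk' 1 2 3) = (T3.mk' 0 1 5) := by decide
theorem tauN01 : tauI (T3.mk' 0 2 3) = (T3.mk' 0 1 4) := by decide
theorem tauN02 : tauI (T3.mk' 0 1 3) = (T3.mk' 0 1 3) := by decide
theorem tauN10 : tauI (T3.mk' 1 2 4) = (T3.mk' 0 2 5) := by decide
theorem tauN11 : tauI (T3.mk' 0 2 4) = (T3.mk' 0 2 4) := by decide
theorem tauN12 : tauI (T3.mk' 0 1 4) = (T3.mk' 0 2 3) := by decide
theorem tauN20 : tauI (T3.mk' 1 2 5) = (T3.mk' 1 2 5) := by decide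
theorem tauN21 : tauI (T3.mk' 0 2 5) = (T3.mk' 1 2 4) := by decide
theorem tauN22 : tauI (T3.mk' 0 1 5) = (T3.mk' 1 2 3) := by decide
theorem epsN00 : epsI (T3.mk' 1 2 3) = -1 := by decide
theorem epsN01 : epsI (T3.mk' 0 2 3) = 1 := by decide
theorem epsN02 : epsI (T3.mk' 0 1 3) = 1 := by decide
theorem epsN10 : epsI (T3.mk' 1 2 4) = -1 := by decide
theorem epsN11 : epsI (T3.mk' 0 2 4) = 1 := by decide
theorem epsN12 : epsI (T3.mk' 0 1 4) = 1 := by decide
theorem epsN20 : epsI (T3.mk' 1 2 5) = 1 := by decide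
theorem epsN21 : epsI (T3.mk' 0 2 5) = -1 := by decide
theorem epsN22 : epsI (T3.mk' 0 1 5) = -1 := by decide
theorem eta00 : etas (T3.mk' 0 1 2) 0 0 = -1 := by decide
theorem eta01 : etas (T3.mk' 0 1 2) 0 1 = -1 := by decide
theorem eta02 : etas (T3.mk' 0 1 2) 0 2 = 1 := by decide
theorem eta10 : etas (T3.mk' 0 1 2) 1 0 = 1 := by decide
theorem eta11 : etas (T3.mk' 0 1 2) 1 1 = 1 := by decide
theorem eta12 : etas (T3.mk' 0 1 2) 1 2 = -1 := by decide
theorem eta20 : etas (T3.mk' 0 1 2) 2 0 = 1 := by decide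
theorem eta21 : etas (T3.mk' 0 1 2) 2 1 = 1 := by decide
theorem eta22 : etas (T3.mk' 0 1 2) 2 2 = -1 := by decide

theorem tauI0 : tauI (T3.mk' 0 1 2) = (T3.mk' 0 1 2) := by decide
theorem epsI0 : epsI (T3.mk' 0 1 2) = 1 := by decide

theorem nb_cases : ∀ N : T3, (N.1 ∩ (T3.mk' 0 1 2).1).card = 2 →
    N ∈ ([(T3.mk' 1 2 3), (T3.mk' 0 2 3), (T3.mk' 0 1 3), (T3.mk' 1 2 4), (T3.mk' 0 2 4), (T3.mk' 0 1 4), (T3.mk' 1 2 5), (T3.mk' 0 2 5), (T3.mk' 0 1 5)] : List T3) := by decide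

variable {K : Type*} [Field K] [Fintype K] [DecidableEq K] (q : ℕ) (hq : IsPrimePow q)
  (hK : Fintype.card K = q ^ 2)

include hq hK in
theorem param_of
    (hhard : ∀ l : T3 → K, l ∈ Cell (T3.mk' 0 1 2) → l (T3.mk' 0 1 2) ^ q = l (T3.mk' 0 1 2) →
      (∀ N : T3, (N.1 ∩ (T3.mk' 0 1 2).1).card = 2 →
        l (tauI N) = ((epsI N : ℤ) : K) * l N ^ q) → InLam q l) :
    Param (K := K) q (etas (T3.mk' 0 1 2)) (T3.mk' 0 1 2) := by
  have hneg := Cfsg.Agent.Lib.Helper6.E6M2Frob.neg_pow_q q hq hK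
  intro l
  constructor
  · rintro ⟨⟨a, A, ha0, rfl⟩, hl'⟩
    have haq : a ^ q = a := by
      have h := hl' (T3.mk' 0 1 2)
      rw [tauI0, epsI0] at h
      simp only [Pi.smul_apply, smul_eq_mul,
        Cfsg.Agent.Lib.Helper2.E6MCell.cell_coord (T3.mk' 0 1 2) A, mul_one, Int.cast_one, one_mul] at h
      exact h.symm
    have pq : ∀ x : K, (a * x) ^ q = a * x ^ q := fun x => by rw [mul_pow, haq]
    refine ⟨a, A, haq, ha0, ?_, rfl⟩
    intro j k
    fin_cases j <;> fin_cases k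
    · -- (0,0)
      have h := hl' (T3.mk' 1 2 3)
      rw [tauN00, epsN00] at h
      simp only [Pi.smul_apply, smul_eq_mul, cN00, cN22, pq, hneg] at h
      show A 2 2 = ((etas (T3.mk' 0 1 2) 0 0 : ℤ) : K) * A 0 0 ^ q
      rw [eta00]
      apply mul_left_cancel₀ ha0
      push_cast at h ⊢
      linear_combination (1 : K) * h
    · -- (0,1)
      have h := hl' (T3.mk' 0 2 3)
      rw [tauN01, epsN01] at h
      simp only [Pi.smul_apply, smul_eq_mul, cN01, cN12, pq, hneg] at h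
      show A 1 2 = ((etas (T3.mk' 0 1 2) 0 1 : ℤ) : K) * A 0 1 ^ q
      rw [eta01]
      apply mul_left_cancel₀ ha0
      push_cast at h ⊢
      linear_combination (1 : K) * h
    · -- (0,2)
      have h := hl' (T3.mk' 0 1 3)
      rw [tauN02, epsN02] at h
      simp only [Pi.smul_apply, smul_eq_mul, cN02, cN02, pq, hneg] at h
      show A 0 2 = ((etas (T3.mk' 0 1 2) 0 2 : ℤ) : K) * A 0 2 ^ q
      rw [eta02]
      apply mul_left_cancel₀ ha0
      push_cast at h ⊢
      linear_combination (1 : K) * h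
    · -- (1,0)
      have h := hl' (T3.mk' 1 2 4)
      rw [tauN10, epsN10] at h
      simp only [Pi.smul_apply, smul_eq_mul, cN10, cN21, pq, hneg] at h
      show A 2 1 = ((etas (T3.mk' 0 1 2) 1 0 : ℤ) : K) * A 1 0 ^ q
      rw [eta10]
      apply mul_left_cancel₀ ha0
      push_cast at h ⊢
      linear_combination (-1 : K) * h
    · -- (1,1)
      have h := hl' (T3.mk' 0 2 4)
      rw [tauN11, epsN11] at h
      simp only [Pi.smul_apply, smul_eq_mul, cN11, cN11, pq, hneg] at h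
      show A 1 1 = ((etas (T3.mk' 0 1 2) 1 1 : ℤ) : K) * A 1 1 ^ q
      rw [eta11]
      apply mul_left_cancel₀ ha0
      push_cast at h ⊢
      linear_combination (-1 : K) * h
    · -- (1,2)
      have h := hl' (T3.mk' 0 1 4)
      rw [tauN12, epsN12] at h
      simp only [Pi.smul_apply, smul_eq_mul, cN12, cN01, pq, hneg] at h
      show A 0 1 = ((etas (T3.mk' 0 1 2) 1 2 : ℤ) : K) * A 1 2 ^ q
      rw [eta12]
      apply mul_left_cancel₀ ha0
      push_cast at h ⊢
      linear_combination (-1 : K) * h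
    · -- (2,0)
      have h := hl' (T3.mk' 1 2 5)
      rw [tauN20, epsN20] at h
      simp only [Pi.smul_apply, smul_eq_mul, cN20, cN20, pq, hneg] at h
      show A 2 0 = ((etas (T3.mk' 0 1 2) 2 0 : ℤ) : K) * A 2 0 ^ q
      rw [eta20]
      apply mul_left_cancel₀ ha0
      push_cast at h ⊢
      linear_combination (1 : K) * h
    · -- (2,1)
      have h := hl' (T3.mk' 0 2 5)
      rw [tauN21, epsN21] at h
      simp only [Pi.smul_apply, smul_eq_mul, cN21, cN10, pq, hneg] at h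
      show A 1 0 = ((etas (T3.mk' 0 1 2) 2 1 : ℤ) : K) * A 2 1 ^ q
      rw [eta21]
      apply mul_left_cancel₀ ha0
      push_cast at h ⊢
      linear_combination (1 : K) * h
    · -- (2,2)
      have h := hl' (T3.mk' 0 1 5)
      rw [tauN22, epsN22] at h
      simp only [Pi.smul_apply, smul_eq_mul, cN22, cN00, pq, hneg] at h
      show A 0 0 = ((etas (T3.mk' 0 1 2) 2 2 : ℤ) : K) * A 2 2 ^ q
      rw [eta22]
      apply mul_left_cancel₀ ha0
      push_cast at h ⊢
      linear_combination (1 : K) * h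
  · rintro ⟨a, A, haq, ha0, hA, rfl⟩
    have pq : ∀ x : K, (a * x) ^ q = a * x ^ q := fun x => by rw [mul_pow, haq]
    have hcell : a • pl (cellMat (T3.mk' 0 1 2) A) ∈ Cell (T3.mk' 0 1 2) := ⟨a, A, ha0, rfl⟩
    refine ⟨hcell, hhard _ hcell ?_ ?_⟩
    · simp only [Pi.smul_apply, smul_eq_mul,
        Cfsg.Agent.Lib.Helper2.E6MCell.cell_coord (T3.mk' 0 1 2) A, mul_one]
      exact haq
    · intro N hN
      have hcases := nb_cases N hN
      simp only [List.mem_cons, List.not_mem_nil, or_false] at hcases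
      rcases hcases with rfl | rfl | rfl | rfl | rfl | rfl | rfl | rfl | rfl
      · -- N = (1, 2, 3)
        have hh : A 2 2 = ((etas (T3.mk' 0 1 2) 0 0 : ℤ) : K) * A 0 0 ^ q := hA 0 0
        rw [eta00] at hh
        rw [tauN00, epsN00]
        simp only [Pi.smul_apply, smul_eq_mul, cN00, cN22, pq, hneg]
        conv_lhs => rw [hh]
        push_cast
        ring
      · -- N = (0, 2, 3)
        have hh : A 1 2 = ((etas (T3.mk' 0 1 2) 0 1 : ℤ) : K) * A 0 1 ^ q := hA 0 1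
        rw [eta01] at hh
        rw [tauN01, epsN01]
        simp only [Pi.smul_apply, smul_eq_mul, cN01, cN12, pq, hneg]
        conv_lhs => rw [hh]
        push_cast
        ring
      · -- N = (0, 1, 3)
        have hh : A 0 2 = ((etas (T3.mk' 0 1 2) 0 2 : ℤ) : K) * A 0 2 ^ q := hA 0 2
        rw [eta02] at hh
        rw [tauN02, epsN02]
        simp only [Pi.smul_apply, smul_eq_mul, cN02, cN02, pq, hneg]
        conv_lhs => rw [hh]
        push_cast
        ring
      · -- N = (1, 2, 4)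
        have hh : A 2 1 = ((etas (T3.mk' 0 1 2) 1 0 : ℤ) : K) * A 1 0 ^ q := hA 1 0
        rw [eta10] at hh
        rw [tauN10, epsN10]
        simp only [Pi.smul_apply, smul_eq_mul, cN10, cN21, pq, hneg]
        conv_lhs => rw [hh]
        push_cast
        ring
      · -- N = (0, 2, 4)
        have hh : A 1 1 = ((etas (T3.mk' 0 1 2) 1 1 : ℤ) : K) * A 1 1 ^ q := hA 1 1
        rw [eta11] at hh
        rw [tauN11, epsN11]
        simp only [Pi.smul_apply, smul_eq_mul, cN11, cN11, pq, hneg]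
        conv_lhs => rw [hh]
        push_cast
        ring
      · -- N = (0, 1, 4)
        have hh : A 0 1 = ((etas (T3.mk' 0 1 2) 1 2 : ℤ) : K) * A 1 2 ^ q := hA 1 2
        rw [eta12] at hh
        rw [tauN12, epsN12]
        simp only [Pi.smul_apply, smul_eq_mul, cN12, cN01, pq, hneg]
        conv_lhs => rw [hh]
        push_cast
        ring
      · -- N = (1, 2, 5)
        have hh : A 2 0 = ((etas (T3.mk' 0 1 2) 2 0 : ℤ) : K) * A 2 0 ^ q := hA 2 0
        rw [eta20] at hh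
        rw [tauN20, epsN20]
        simp only [Pi.smul_apply, smul_eq_mul, cN20, cN20, pq, hneg]
        conv_lhs => rw [hh]
        push_cast
        ring
      · -- N = (0, 2, 5)
        have hh : A 1 0 = ((etas (T3.mk' 0 1 2) 2 1 : ℤ) : K) * A 2 1 ^ q := hA 2 1
        rw [eta21] at hh
        rw [tauN21, epsN21]
        simp only [Pi.smul_apply, smul_eq_mul, cN21, cN10, pq, hneg]
        conv_lhs => rw [hh]
        push_cast
        ring
      · -- N = (0, 1, 5)
        have hh : A 0 0 = ((etas (T3.mk' 0 1 2) 2 2 : ℤ) : K) * A 2 2 ^ q := hA 2 2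
        rw [eta22] at hh
        rw [tauN22, epsN22]
        simp only [Pi.smul_apply, smul_eq_mul, cN22, cN00, pq, hneg]
        conv_lhs => rw [hh]
        push_cast
        ring

end P012

namespace P013

section tables

variable {K : Type*} [Field K]

theorem dN00 : desc (T3.mk' 0 1 3) (T3.mk' 1 2 3) = ![(true, 1), (false, 0), (true, 2)] := by decide
theorem cN00 (A : Matrix (Fin 3) (Fin 3) K) : pl (cellMat (T3.mk' 0 1 3) A) (T3.mk' 1 2 3) = -A 0 0 := by
  rw [pl_cellMat, dN00]; simp [det3', rowD]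
theorem dN01 : desc (T3.mk' 0 1 3) (T3.mk' 0 2 3) = ![(true, 0), (false, 0), (true, 2)] := by decide
theorem cN01 (A : Matrix (Fin 3) (Fin 3) K) : pl (cellMat (T3.mk' 0 1 3) A) (T3.mk' 0 2 3) = A 0 1 := by
  rw [pl_cellMat, dN01]; simp [det3', rowD]
theorem dN02 : desc (T3.mk' 0 1 3) (T3.mk' 0 1 2) = ![(true, 0), (true, 1), (false, 0)] := by decide
theorem cN02 (A : Matrix (Fin 3) (Fin 3) K) : pl (cellMat (T3.mk' 0 1 3) A) (T3.mk' 0 1 2) = A 0 2 := by
  rw [pl_cellMat, dN02]; simp [det3', rowD]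
theorem dN10 : desc (T3.mk' 0 1 3) (T3.mk' 1 3 4) = ![(true, 1), (true, 2), (false, 1)] := by decide
theorem cN10 (A : Matrix (Fin 3) (Fin 3) K) : pl (cellMat (T3.mk' 0 1 3) A) (T3.mk' 1 3 4) = A 1 0 := by
  rw [pl_cellMat, dN10]; simp [det3', rowD]
theorem dN11 : desc (T3.mk' 0 1 3) (T3.mk' 0 3 4) = ![(true, 0), (true, 2), (false, 1)] := by decide
theorem cN11 (A : Matrix (Fin 3) (Fin 3) K) : pl (cellMat (T3.mk' 0 1 3) A) (T3.mk' 0 3 4) = -A 1 1 := by
  rw [pl_cellMat, dN11]; simp [det3', rowD]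
theorem dN12 : desc (T3.mk' 0 1 3) (T3.mk' 0 1 4) = ![(true, 0), (true, 1), (false, 1)] := by decide
theorem cN12 (A : Matrix (Fin 3) (Fin 3) K) : pl (cellMat (T3.mk' 0 1 3) A) (T3.mk' 0 1 4) = A 1 2 := by
  rw [pl_cellMat, dN12]; simp [det3', rowD]
theorem dN20 : desc (T3.mk' 0 1 3) (T3.mk' 1 3 5) = ![(true, 1), (true, 2), (false, 2)] := by decide
theorem cN20 (A : Matrix (Fin 3) (Fin 3) K) : pl (cellMat (T3.mk' 0 1 3) A) (T3.mk' 1 3 5) = A 2 0 := by
  rw [pl_cellMat, dN20]; simp [det3', rowD]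
theorem dN21 : desc (T3.mk' 0 1 3) (T3.mk' 0 3 5) = ![(true, 0), (true, 2), (false, 2)] := by decide
theorem cN21 (A : Matrix (Fin 3) (Fin 3) K) : pl (cellMat (T3.mk' 0 1 3) A) (T3.mk' 0 3 5) = -A 2 1 := by
  rw [pl_cellMat, dN21]; simp [det3', rowD]
theorem dN22 : desc (T3.mk' 0 1 3) (T3.mk' 0 1 5) = ![(true, 0), (true, 1), (false, 2)] := by decide
theorem cN22 (A : Matrix (Fin 3) (Fin 3) K) : pl (cellMat (T3.mk' 0 1 3) A) (T3.mk' 0 1 5) = A 2 2 := by
  rw [pl_cellMat, dN22]; simp [det3', rowD]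

end tables

theorem tauN00 : tauI (T3.mk' 1 2 3) = (T3.mk' 0 1 5) := by decide
theorem tauN01 : tauI (T3.mk' 0 2 3) = (T3.mk' 0 1 4) := by decide
theorem tauN02 : tauI (T3.mk' 0 1 2) = (T3.mk' 0 1 2) := by decide
theorem tauN10 : tauI (T3.mk' 1 3 4) = (T3.mk' 0 3 5) := by decide
theorem tauN11 : tauI (T3.mk' 0 3 4) = (T3.mk' 0 3 4) := by decide
theorem tauN12 : tauI (T3.mk' 0 1 4) = (T3.mk' 0 2 3) := by decide
theorem tauN20 : tauI (T3.mk' 1 3 5) = (T3.mk' 1 3 5) := by decide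
theorem tauN21 : tauI (T3.mk' 0 3 5) = (T3.mk' 1 3 4) := by decide
theorem tauN22 : tauI (T3.mk' 0 1 5) = (T3.mk' 1 2 3) := by decide
theorem epsN00 : epsI (T3.mk' 1 2 3) = -1 := by decide
theorem epsN01 : epsI (T3.mk' 0 2 3) = 1 := by decide
theorem epsN02 : epsI (T3.mk' 0 1 2) = 1 := by decide
theorem epsN10 : epsI (T3.mk' 1 3 4) = -1 := by decide
theorem epsN11 : epsI (T3.mk' 0 3 4) = 1 := by decide
theorem epsN12 : epsI (T3.mk' 0 1 4) = 1 := by decide
theorem epsN20 : epsI (T3.mk' 1 3 5) = 1 := by decide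
theorem epsN21 : epsI (T3.mk' 0 3 5) = -1 := by decide
theorem epsN22 : epsI (T3.mk' 0 1 5) = -1 := by decide
theorem eta00 : etas (T3.mk' 0 1 3) 0 0 = 1 := by decide
theorem eta01 : etas (T3.mk' 0 1 3) 0 1 = 1 := by decide
theorem eta02 : etas (T3.mk' 0 1 3) 0 2 = 1 := by decide
theorem eta10 : etas (T3.mk' 0 1 3) 1 0 = 1 := by decide
theorem eta11 : etas (T3.mk' 0 1 3) 1 1 = 1 := by decide
theorem eta12 : etas (T3.mk' 0 1 3) 1 2 = 1 := by decide
theorem eta20 : etas (T3.mk' 0 1 3) 2 0 = 1 := by decide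
theorem eta21 : etas (T3.mk' 0 1 3) 2 1 = 1 := by decide
theorem eta22 : etas (T3.mk' 0 1 3) 2 2 = 1 := by decide

theorem tauI0 : tauI (T3.mk' 0 1 3) = (T3.mk' 0 1 3) := by decide
theorem epsI0 : epsI (T3.mk' 0 1 3) = 1 := by decide

theorem nb_cases : ∀ N : T3, (N.1 ∩ (T3.mk' 0 1 3).1).card = 2 →
    N ∈ ([(T3.mk' 1 2 3), (T3.mk' 0 2 3), (T3.mk' 0 1 2), (T3.mk' 1 3 4), (T3.mk' 0 3 4), (T3.mk' 0 1 4), (T3.mk' 1 3 5), (T3.mk' 0 3 5), (T3.mk' 0 1 5)] : List T3) := by decide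

variable {K : Type*} [Field K] [Fintype K] [DecidableEq K] (q : ℕ) (hq : IsPrimePow q)
  (hK : Fintype.card K = q ^ 2)

include hq hK in
theorem param_of
    (hhard : ∀ l : T3 → K, l ∈ Cell (T3.mk' 0 1 3) → l (T3.mk' 0 1 3) ^ q = l (T3.mk' 0 1 3) →
      (∀ N : T3, (N.1 ∩ (T3.mk' 0 1 3).1).card = 2 →
        l (tauI N) = ((epsI N : ℤ) : K) * l N ^ q) → InLam q l) :
    Param (K := K) q (etas (T3.mk' 0 1 3)) (T3.mk' 0 1 3) := by
  have hneg := Cfsg.Agent.Lib.Helper6.E6M2Frob.neg_pow_q q hq hK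
  intro l
  constructor
  · rintro ⟨⟨a, A, ha0, rfl⟩, hl'⟩
    have haq : a ^ q = a := by
      have h := hl' (T3.mk' 0 1 3)
      rw [tauI0, epsI0] at h
      simp only [Pi.smul_apply, smul_eq_mul,
        Cfsg.Agent.Lib.Helper2.E6MCell.cell_coord (T3.mk' 0 1 3) A, mul_one, Int.cast_one, one_mul] at h
      exact h.symm
    have pq : ∀ x : K, (a * x) ^ q = a * x ^ q := fun x => by rw [mul_pow, haq]
    refine ⟨a, A, haq, ha0, ?_, rfl⟩
    intro j k
    fin_cases j <;> fin_cases k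
    · -- (0,0)
      have h := hl' (T3.mk' 1 2 3)
      rw [tauN00, epsN00] at h
      simp only [Pi.smul_apply, smul_eq_mul, cN00, cN22, pq, hneg] at h
      show A 2 2 = ((etas (T3.mk' 0 1 3) 0 0 : ℤ) : K) * A 0 0 ^ q
      rw [eta00]
      apply mul_left_cancel₀ ha0
      push_cast at h ⊢
      linear_combination (1 : K) * h
    · -- (0,1)
      have h := hl' (T3.mk' 0 2 3)
      rw [tauN01, epsN01] at h
      simp only [Pi.smul_apply, smul_eq_mul, cN01, cN12, pq, hneg] at h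
      show A 1 2 = ((etas (T3.mk' 0 1 3) 0 1 : ℤ) : K) * A 0 1 ^ q
      rw [eta01]
      apply mul_left_cancel₀ ha0
      push_cast at h ⊢
      linear_combination (1 : K) * h
    · -- (0,2)
      have h := hl' (T3.mk' 0 1 2)
      rw [tauN02, epsN02] at h
      simp only [Pi.smul_apply, smul_eq_mul, cN02, cN02, pq, hneg] at h
      show A 0 2 = ((etas (T3.mk' 0 1 3) 0 2 : ℤ) : K) * A 0 2 ^ q
      rw [eta02]
      apply mul_left_cancel₀ ha0
      push_cast at h ⊢
      linear_combination (1 : K) * h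
    · -- (1,0)
      have h := hl' (T3.mk' 1 3 4)
      rw [tauN10, epsN10] at h
      simp only [Pi.smul_apply, smul_eq_mul, cN10, cN21, pq, hneg] at h
      show A 2 1 = ((etas (T3.mk' 0 1 3) 1 0 : ℤ) : K) * A 1 0 ^ q
      rw [eta10]
      apply mul_left_cancel₀ ha0
      push_cast at h ⊢
      linear_combination (-1 : K) * h
    · -- (1,1)
      have h := hl' (T3.mk' 0 3 4)
      rw [tauN11, epsN11] at h
      simp only [Pi.smul_apply, smul_eq_mul, cN11, cN11, pq, hneg] at h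
      show A 1 1 = ((etas (T3.mk' 0 1 3) 1 1 : ℤ) : K) * A 1 1 ^ q
      rw [eta11]
      apply mul_left_cancel₀ ha0
      push_cast at h ⊢
      linear_combination (-1 : K) * h
    · -- (1,2)
      have h := hl' (T3.mk' 0 1 4)
      rw [tauN12, epsN12] at h
      simp only [Pi.smul_apply, smul_eq_mul, cN12, cN01, pq, hneg] at h
      show A 0 1 = ((etas (T3.mk' 0 1 3) 1 2 : ℤ) : K) * A 1 2 ^ q
      rw [eta12]
      apply mul_left_cancel₀ ha0
      push_cast at h ⊢
      linear_combination (1 : K) * h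
    · -- (2,0)
      have h := hl' (T3.mk' 1 3 5)
      rw [tauN20, epsN20] at h
      simp only [Pi.smul_apply, smul_eq_mul, cN20, cN20, pq, hneg] at h
      show A 2 0 = ((etas (T3.mk' 0 1 3) 2 0 : ℤ) : K) * A 2 0 ^ q
      rw [eta20]
      apply mul_left_cancel₀ ha0
      push_cast at h ⊢
      linear_combination (1 : K) * h
    · -- (2,1)
      have h := hl' (T3.mk' 0 3 5)
      rw [tauN21, epsN21] at h
      simp only [Pi.smul_apply, smul_eq_mul, cN21, cN10, pq, hneg] at h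
      show A 1 0 = ((etas (T3.mk' 0 1 3) 2 1 : ℤ) : K) * A 2 1 ^ q
      rw [eta21]
      apply mul_left_cancel₀ ha0
      push_cast at h ⊢
      linear_combination (1 : K) * h
    · -- (2,2)
      have h := hl' (T3.mk' 0 1 5)
      rw [tauN22, epsN22] at h
      simp only [Pi.smul_apply, smul_eq_mul, cN22, cN00, pq, hneg] at h
      show A 0 0 = ((etas (T3.mk' 0 1 3) 2 2 : ℤ) : K) * A 2 2 ^ q
      rw [eta22]
      apply mul_left_cancel₀ ha0
      push_cast at h ⊢
      linear_combination (-1 : K) * h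
  · rintro ⟨a, A, haq, ha0, hA, rfl⟩
    have pq : ∀ x : K, (a * x) ^ q = a * x ^ q := fun x => by rw [mul_pow, haq]
    have hcell : a • pl (cellMat (T3.mk' 0 1 3) A) ∈ Cell (T3.mk' 0 1 3) := ⟨a, A, ha0, rfl⟩
    refine ⟨hcell, hhard _ hcell ?_ ?_⟩
    · simp only [Pi.smul_apply, smul_eq_mul,
        Cfsg.Agent.Lib.Helper2.E6MCell.cell_coord (T3.mk' 0 1 3) A, mul_one]
      exact haq
    · intro N hN
      have hcases := nb_cases N hN
      simp only [List.mem_cons, List.not_mem_nil, or_false] at hcases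
      rcases hcases with rfl | rfl | rfl | rfl | rfl | rfl | rfl | rfl | rfl
      · -- N = (1, 2, 3)
        have hh : A 2 2 = ((etas (T3.mk' 0 1 3) 0 0 : ℤ) : K) * A 0 0 ^ q := hA 0 0
        rw [eta00] at hh
        rw [tauN00, epsN00]
        simp only [Pi.smul_apply, smul_eq_mul, cN00, cN22, pq, hneg]
        conv_lhs => rw [hh]
        push_cast
        ring
      · -- N = (0, 2, 3)
        have hh : A 1 2 = ((etas (T3.mk' 0 1 3) 0 1 : ℤ) : K) * A 0 1 ^ q := hA 0 1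
        rw [eta01] at hh
        rw [tauN01, epsN01]
        simp only [Pi.smul_apply, smul_eq_mul, cN01, cN12, pq, hneg]
        conv_lhs => rw [hh]
        push_cast
        ring
      · -- N = (0, 1, 2)
        have hh : A 0 2 = ((etas (T3.mk' 0 1 3) 0 2 : ℤ) : K) * A 0 2 ^ q := hA 0 2
        rw [eta02] at hh
        rw [tauN02, epsN02]
        simp only [Pi.smul_apply, smul_eq_mul, cN02, cN02, pq, hneg]
        conv_lhs => rw [hh]
        push_cast
        ring
      · -- N = (1, 3, 4)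
        have hh : A 2 1 = ((etas (T3.mk' 0 1 3) 1 0 : ℤ) : K) * A 1 0 ^ q := hA 1 0
        rw [eta10] at hh
        rw [tauN10, epsN10]
        simp only [Pi.smul_apply, smul_eq_mul, cN10, cN21, pq, hneg]
        conv_lhs => rw [hh]
        push_cast
        ring
      · -- N = (0, 3, 4)
        have hh : A 1 1 = ((etas (T3.mk' 0 1 3) 1 1 : ℤ) : K) * A 1 1 ^ q := hA 1 1
        rw [eta11] at hh
        rw [tauN11, epsN11]
        simp only [Pi.smul_apply, smul_eq_mul, cN11, cN11, pq, hneg]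
        conv_lhs => rw [hh]
        push_cast
        ring
      · -- N = (0, 1, 4)
        have hh : A 0 1 = ((etas (T3.mk' 0 1 3) 1 2 : ℤ) : K) * A 1 2 ^ q := hA 1 2
        rw [eta12] at hh
        rw [tauN12, epsN12]
        simp only [Pi.smul_apply, smul_eq_mul, cN12, cN01, pq, hneg]
        conv_lhs => rw [hh]
        push_cast
        ring
      · -- N = (1, 3, 5)
        have hh : A 2 0 = ((etas (T3.mk' 0 1 3) 2 0 : ℤ) : K) * A 2 0 ^ q := hA 2 0
        rw [eta20] at hh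
        rw [tauN20, epsN20]
        simp only [Pi.smul_apply, smul_eq_mul, cN20, cN20, pq, hneg]
        conv_lhs => rw [hh]
        push_cast
        ring
      · -- N = (0, 3, 5)
        have hh : A 1 0 = ((etas (T3.mk' 0 1 3) 2 1 : ℤ) : K) * A 2 1 ^ q := hA 2 1
        rw [eta21] at hh
        rw [tauN21, epsN21]
        simp only [Pi.smul_apply, smul_eq_mul, cN21, cN10, pq, hneg]
        conv_lhs => rw [hh]
        push_cast
        ring
      · -- N = (0, 1, 5)
        have hh : A 0 0 = ((etas (T3.mk' 0 1 3) 2 2 : ℤ) : K) * A 2 2 ^ q := hA 2 2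
        rw [eta22] at hh
        rw [tauN22, epsN22]
        simp only [Pi.smul_apply, smul_eq_mul, cN22, cN00, pq, hneg]
        conv_lhs => rw [hh]
        push_cast
        ring

end P013

namespace P024

section tables

variable {K : Type*} [Field K]

theorem dN00 : desc (T3.mk' 0 2 4) (T3.mk' 1 2 4) = ![(false, 0), (true, 1), (true, 2)] := by decide
theorem cN00 (A : Matrix (Fin 3) (Fin 3) K) : pl (cellMat (T3.mk' 0 2 4) A) (T3.mk' 1 2 4) = A 0 0 := by
  rw [pl_cellMat, dN00]; simp [det3', rowD]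
theorem dN01 : desc (T3.mk' 0 2 4) (T3.mk' 0 1 4) = ![(true, 0), (false, 0), (true, 2)] := by decide
theorem cN01 (A : Matrix (Fin 3) (Fin 3) K) : pl (cellMat (T3.mk' 0 2 4) A) (T3.mk' 0 1 4) = A 0 1 := by
  rw [pl_cellMat, dN01]; simp [det3', rowD]
theorem dN02 : desc (T3.mk' 0 2 4) (T3.mk' 0 1 2) = ![(true, 0), (false, 0), (true, 1)] := by decide
theorem cN02 (A : Matrix (Fin 3) (Fin 3) K) : pl (cellMat (T3.mk' 0 2 4) A) (T3.mk' 0 1 2) = -A 0 2 := by
  rw [pl_cellMat, dN02]; simp [det3', rowD]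
theorem dN10 : desc (T3.mk' 0 2 4) (T3.mk' 2 3 4) = ![(true, 1), (false, 1), (true, 2)] := by decide
theorem cN10 (A : Matrix (Fin 3) (Fin 3) K) : pl (cellMat (T3.mk' 0 2 4) A) (T3.mk' 2 3 4) = -A 1 0 := by
  rw [pl_cellMat, dN10]; simp [det3', rowD]
theorem dN11 : desc (T3.mk' 0 2 4) (T3.mk' 0 3 4) = ![(true, 0), (false, 1), (true, 2)] := by decide
theorem cN11 (A : Matrix (Fin 3) (Fin 3) K) : pl (cellMat (T3.mk' 0 2 4) A) (T3.mk' 0 3 4) = A 1 1 := by
  rw [pl_cellMat, dN11]; simp [det3', rowD]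
theorem dN12 : desc (T3.mk' 0 2 4) (T3.mk' 0 2 3) = ![(true, 0), (true, 1), (false, 1)] := by decide
theorem cN12 (A : Matrix (Fin 3) (Fin 3) K) : pl (cellMat (T3.mk' 0 2 4) A) (T3.mk' 0 2 3) = A 1 2 := by
  rw [pl_cellMat, dN12]; simp [det3', rowD]
theorem dN20 : desc (T3.mk' 0 2 4) (T3.mk' 2 4 5) = ![(true, 1), (true, 2), (false, 2)] := by decide
theorem cN20 (A : Matrix (Fin 3) (Fin 3) K) : pl (cellMat (T3.mk' 0 2 4) A) (T3.mk' 2 4 5) = A 2 0 := by
  rw [pl_cellMat, dN20]; simp [det3', rowD]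
theorem dN21 : desc (T3.mk' 0 2 4) (T3.mk' 0 4 5) = ![(true, 0), (true, 2), (false, 2)] := by decide
theorem cN21 (A : Matrix (Fin 3) (Fin 3) K) : pl (cellMat (T3.mk' 0 2 4) A) (T3.mk' 0 4 5) = -A 2 1 := by
  rw [pl_cellMat, dN21]; simp [det3', rowD]
theorem dN22 : desc (T3.mk' 0 2 4) (T3.mk' 0 2 5) = ![(true, 0), (true, 1), (false, 2)] := by decide
theorem cN22 (A : Matrix (Fin 3) (Fin 3) K) : pl (cellMat (T3.mk' 0 2 4) A) (T3.mk' 0 2 5) = A 2 2 := by
  rw [pl_cellMat, dN22]; simp [det3', rowD]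

end tables

theorem tauN00 : tauI (T3.mk' 1 2 4) = (T3.mk' 0 2 5) := by decide
theorem tauN01 : tauI (T3.mk' 0 1 4) = (T3.mk' 0 2 3) := by decide
theorem tauN02 : tauI (T3.mk' 0 1 2) = (T3.mk' 0 1 2) := by decide
theorem tauN10 : tauI (T3.mk' 2 3 4) = (T3.mk' 0 4 5) := by decide
theorem tauN11 : tauI (T3.mk' 0 3 4) = (T3.mk' 0 3 4) := by decide
theorem tauN12 : tauI (T3.mk' 0 2 3) = (T3.mk' 0 1 4) := by decide
theorem tauN20 : tauI (T3.mk' 2 4 5) = (T3.mk' 2 4 5) := by decide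
theorem tauN21 : tauI (T3.mk' 0 4 5) = (T3.mk' 2 3 4) := by decide
theorem tauN22 : tauI (T3.mk' 0 2 5) = (T3.mk' 1 2 4) := by decide
theorem epsN00 : epsI (T3.mk' 1 2 4) = -1 := by decide
theorem epsN01 : epsI (T3.mk' 0 1 4) = 1 := by decide
theorem epsN02 : epsI (T3.mk' 0 1 2) = 1 := by decide
theorem epsN10 : epsI (T3.mk' 2 3 4) = -1 := by decide
theorem epsN11 : epsI (T3.mk' 0 3 4) = 1 := by decide
theorem epsN12 : epsI (T3.mk' 0 2 3) = 1 := by decide
theorem epsN20 : epsI (T3.mk' 2 4 5) = 1 := by decide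
theorem epsN21 : epsI (T3.mk' 0 4 5) = -1 := by decide
theorem epsN22 : epsI (T3.mk' 0 2 5) = -1 := by decide
theorem eta00 : etas (T3.mk' 0 2 4) 0 0 = -1 := by decide
theorem eta01 : etas (T3.mk' 0 2 4) 0 1 = 1 := by decide
theorem eta02 : etas (T3.mk' 0 2 4) 0 2 = 1 := by decide
theorem eta10 : etas (T3.mk' 0 2 4) 1 0 = -1 := by decide
theorem eta11 : etas (T3.mk' 0 2 4) 1 1 = 1 := by decide
theorem eta12 : etas (T3.mk' 0 2 4) 1 2 = 1 := by decide
theorem eta20 : etas (T3.mk' 0 2 4) 2 0 = 1 := by decide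
theorem eta21 : etas (T3.mk' 0 2 4) 2 1 = -1 := by decide
theorem eta22 : etas (T3.mk' 0 2 4) 2 2 = -1 := by decide

theorem tauI0 : tauI (T3.mk' 0 2 4) = (T3.mk' 0 2 4) := by decide
theorem epsI0 : epsI (T3.mk' 0 2 4) = 1 := by decide

theorem nb_cases : ∀ N : T3, (N.1 ∩ (T3.mk' 0 2 4).1).card = 2 →
    N ∈ ([(T3.mk' 1 2 4), (T3.mk' 0 1 4), (T3.mk' 0 1 2), (T3.mk' 2 3 4), (T3.mk' 0 3 4), (T3.mk' 0 2 3), (T3.mk' 2 4 5), (T3.mk' 0 4 5), (T3.mk' 0 2 5)] : List T3) := by decide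

variable {K : Type*} [Field K] [Fintype K] [DecidableEq K] (q : ℕ) (hq : IsPrimePow q)
  (hK : Fintype.card K = q ^ 2)

include hq hK in
theorem param_of
    (hhard : ∀ l : T3 → K, l ∈ Cell (T3.mk' 0 2 4) → l (T3.mk' 0 2 4) ^ q = l (T3.mk' 0 2 4) →
      (∀ N : T3, (N.1 ∩ (T3.mk' 0 2 4).1).card = 2 →
        l (tauI N) = ((epsI N : ℤ) : K) * l N ^ q) → InLam q l) :
    Param (K := K) q (etas (T3.mk' 0 2 4)) (T3.mk' 0 2 4) := by
  have hneg := Cfsg.Agent.Lib.Helper6.E6M2Frob.neg_pow_q q hq hK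
  intro l
  constructor
  · rintro ⟨⟨a, A, ha0, rfl⟩, hl'⟩
    have haq : a ^ q = a := by
      have h := hl' (T3.mk' 0 2 4)
      rw [tauI0, epsI0] at h
      simp only [Pi.smul_apply, smul_eq_mul,
        Cfsg.Agent.Lib.Helper2.E6MCell.cell_coord (T3.mk' 0 2 4) A, mul_one, Int.cast_one, one_mul] at h
      exact h.symm
    have pq : ∀ x : K, (a * x) ^ q = a * x ^ q := fun x => by rw [mul_pow, haq]
    refine ⟨a, A, haq, ha0, ?_, rfl⟩
    intro j k
    fin_cases j <;> fin_cases k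
    · -- (0,0)
      have h := hl' (T3.mk' 1 2 4)
      rw [tauN00, epsN00] at h
      simp only [Pi.smul_apply, smul_eq_mul, cN00, cN22, pq, hneg] at h
      show A 2 2 = ((etas (T3.mk' 0 2 4) 0 0 : ℤ) : K) * A 0 0 ^ q
      rw [eta00]
      apply mul_left_cancel₀ ha0
      push_cast at h ⊢
      linear_combination (1 : K) * h
    · -- (0,1)
      have h := hl' (T3.mk' 0 1 4)
      rw [tauN01, epsN01] at h
      simp only [Pi.smul_apply, smul_eq_mul, cN01, cN12, pq, hneg] at h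
      show A 1 2 = ((etas (T3.mk' 0 2 4) 0 1 : ℤ) : K) * A 0 1 ^ q
      rw [eta01]
      apply mul_left_cancel₀ ha0
      push_cast at h ⊢
      linear_combination (1 : K) * h
    · -- (0,2)
      have h := hl' (T3.mk' 0 1 2)
      rw [tauN02, epsN02] at h
      simp only [Pi.smul_apply, smul_eq_mul, cN02, cN02, pq, hneg] at h
      show A 0 2 = ((etas (T3.mk' 0 2 4) 0 2 : ℤ) : K) * A 0 2 ^ q
      rw [eta02]
      apply mul_left_cancel₀ ha0
      push_cast at h ⊢
      linear_combination (-1 : K) * h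
    · -- (1,0)
      have h := hl' (T3.mk' 2 3 4)
      rw [tauN10, epsN10] at h
      simp only [Pi.smul_apply, smul_eq_mul, cN10, cN21, pq, hneg] at h
      show A 2 1 = ((etas (T3.mk' 0 2 4) 1 0 : ℤ) : K) * A 1 0 ^ q
      rw [eta10]
      apply mul_left_cancel₀ ha0
      push_cast at h ⊢
      linear_combination (-1 : K) * h
    · -- (1,1)
      have h := hl' (T3.mk' 0 3 4)
      rw [tauN11, epsN11] at h
      simp only [Pi.smul_apply, smul_eq_mul, cN11, cN11, pq, hneg] at h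
      show A 1 1 = ((etas (T3.mk' 0 2 4) 1 1 : ℤ) : K) * A 1 1 ^ q
      rw [eta11]
      apply mul_left_cancel₀ ha0
      push_cast at h ⊢
      linear_combination (1 : K) * h
    · -- (1,2)
      have h := hl' (T3.mk' 0 2 3)
      rw [tauN12, epsN12] at h
      simp only [Pi.smul_apply, smul_eq_mul, cN12, cN01, pq, hneg] at h
      show A 0 1 = ((etas (T3.mk' 0 2 4) 1 2 : ℤ) : K) * A 1 2 ^ q
      rw [eta12]
      apply mul_left_cancel₀ ha0
      push_cast at h ⊢
      linear_combination (1 : K) * h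
    · -- (2,0)
      have h := hl' (T3.mk' 2 4 5)
      rw [tauN20, epsN20] at h
      simp only [Pi.smul_apply, smul_eq_mul, cN20, cN20, pq, hneg] at h
      show A 2 0 = ((etas (T3.mk' 0 2 4) 2 0 : ℤ) : K) * A 2 0 ^ q
      rw [eta20]
      apply mul_left_cancel₀ ha0
      push_cast at h ⊢
      linear_combination (1 : K) * h
    · -- (2,1)
      have h := hl' (T3.mk' 0 4 5)
      rw [tauN21, epsN21] at h
      simp only [Pi.smul_apply, smul_eq_mul, cN21, cN10, pq, hneg] at h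
      show A 1 0 = ((etas (T3.mk' 0 2 4) 2 1 : ℤ) : K) * A 2 1 ^ q
      rw [eta21]
      apply mul_left_cancel₀ ha0
      push_cast at h ⊢
      linear_combination (-1 : K) * h
    · -- (2,2)
      have h := hl' (T3.mk' 0 2 5)
      rw [tauN22, epsN22] at h
      simp only [Pi.smul_apply, smul_eq_mul, cN22, cN00, pq, hneg] at h
      show A 0 0 = ((etas (T3.mk' 0 2 4) 2 2 : ℤ) : K) * A 2 2 ^ q
      rw [eta22]
      apply mul_left_cancel₀ ha0
      push_cast at h ⊢
      linear_combination (1 : K) * h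
  · rintro ⟨a, A, haq, ha0, hA, rfl⟩
    have pq : ∀ x : K, (a * x) ^ q = a * x ^ q := fun x => by rw [mul_pow, haq]
    have hcell : a • pl (cellMat (T3.mk' 0 2 4) A) ∈ Cell (T3.mk' 0 2 4) := ⟨a, A, ha0, rfl⟩
    refine ⟨hcell, hhard _ hcell ?_ ?_⟩
    · simp only [Pi.smul_apply, smul_eq_mul,
        Cfsg.Agent.Lib.Helper2.E6MCell.cell_coord (T3.mk' 0 2 4) A, mul_one]
      exact haq
    · intro N hN
      have hcases := nb_cases N hN
      simp only [List.mem_cons, List.not_mem_nil, or_false] at hcases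
      rcases hcases with rfl | rfl | rfl | rfl | rfl | rfl | rfl | rfl | rfl
      · -- N = (1, 2, 4)
        have hh : A 2 2 = ((etas (T3.mk' 0 2 4) 0 0 : ℤ) : K) * A 0 0 ^ q := hA 0 0
        rw [eta00] at hh
        rw [tauN00, epsN00]
        simp only [Pi.smul_apply, smul_eq_mul, cN00, cN22, pq, hneg]
        conv_lhs => rw [hh]
        push_cast
        ring
      · -- N = (0, 1, 4)
        have hh : A 1 2 = ((etas (T3.mk' 0 2 4) 0 1 : ℤ) : K) * A 0 1 ^ q := hA 0 1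
        rw [eta01] at hh
        rw [tauN01, epsN01]
        simp only [Pi.smul_apply, smul_eq_mul, cN01, cN12, pq, hneg]
        conv_lhs => rw [hh]
        push_cast
        ring
      · -- N = (0, 1, 2)
        have hh : A 0 2 = ((etas (T3.mk' 0 2 4) 0 2 : ℤ) : K) * A 0 2 ^ q := hA 0 2
        rw [eta02] at hh
        rw [tauN02, epsN02]
        simp only [Pi.smul_apply, smul_eq_mul, cN02, cN02, pq, hneg]
        conv_lhs => rw [hh]
        push_cast
        ring
      · -- N = (2, 3, 4)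
        have hh : A 2 1 = ((etas (T3.mk' 0 2 4) 1 0 : ℤ) : K) * A 1 0 ^ q := hA 1 0
        rw [eta10] at hh
        rw [tauN10, epsN10]
        simp only [Pi.smul_apply, smul_eq_mul, cN10, cN21, pq, hneg]
        conv_lhs => rw [hh]
        push_cast
        ring
      · -- N = (0, 3, 4)
        have hh : A 1 1 = ((etas (T3.mk' 0 2 4) 1 1 : ℤ) : K) * A 1 1 ^ q := hA 1 1
        rw [eta11] at hh
        rw [tauN11, epsN11]
        simp only [Pi.smul_apply, smul_eq_mul, cN11, cN11, pq, hneg]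
        conv_lhs => rw [hh]
        push_cast
        ring
      · -- N = (0, 2, 3)
        have hh : A 0 1 = ((etas (T3.mk' 0 2 4) 1 2 : ℤ) : K) * A 1 2 ^ q := hA 1 2
        rw [eta12] at hh
        rw [tauN12, epsN12]
        simp only [Pi.smul_apply, smul_eq_mul, cN12, cN01, pq, hneg]
        conv_lhs => rw [hh]
        push_cast
        ring
      · -- N = (2, 4, 5)
        have hh : A 2 0 = ((etas (T3.mk' 0 2 4) 2 0 : ℤ) : K) * A 2 0 ^ q := hA 2 0
        rw [eta20] at hh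
        rw [tauN20, epsN20]
        simp only [Pi.smul_apply, smul_eq_mul, cN20, cN20, pq, hneg]
        conv_lhs => rw [hh]
        push_cast
        ring
      · -- N = (0, 4, 5)
        have hh : A 1 0 = ((etas (T3.mk' 0 2 4) 2 1 : ℤ) : K) * A 2 1 ^ q := hA 2 1
        rw [eta21] at hh
        rw [tauN21, epsN21]
        simp only [Pi.smul_apply, smul_eq_mul, cN21, cN10, pq, hneg]
        conv_lhs => rw [hh]
        push_cast
        ring
      · -- N = (0, 2, 5)
        have hh : A 0 0 = ((etas (T3.mk' 0 2 4) 2 2 : ℤ) : K) * A 2 2 ^ q := hA 2 2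
        rw [eta22] at hh
        rw [tauN22, epsN22]
        simp only [Pi.smul_apply, smul_eq_mul, cN22, cN00, pq, hneg]
        conv_lhs => rw [hh]
        push_cast
        ring

end P024

namespace P034

section tables

variable {K : Type*} [Field K]

theorem dN00 : desc (T3.mk' 0 3 4) (T3.mk' 1 3 4) = ![(false, 0), (true, 1), (true, 2)] := by decide
theorem cN00 (A : Matrix (Fin 3) (Fin 3) K) : pl (cellMat (T3.mk' 0 3 4) A) (T3.mk' 1 3 4) = A 0 0 := by
  rw [pl_cellMat, dN00]; simp [det3', rowD]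
theorem dN01 : desc (T3.mk' 0 3 4) (T3.mk' 0 1 4) = ![(true, 0), (false, 0), (true, 2)] := by decide
theorem cN01 (A : Matrix (Fin 3) (Fin 3) K) : pl (cellMat (T3.mk' 0 3 4) A) (T3.mk' 0 1 4) = A 0 1 := by
  rw [pl_cellMat, dN01]; simp [det3', rowD]
theorem dN02 : desc (T3.mk' 0 3 4) (T3.mk' 0 1 3) = ![(true, 0), (false, 0), (true, 1)] := by decide
theorem cN02 (A : Matrix (Fin 3) (Fin 3) K) : pl (cellMat (T3.mk' 0 3 4) A) (T3.mk' 0 1 3) = -A 0 2 := by
  rw [pl_cellMat, dN02]; simp [det3', rowD]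
theorem dN10 : desc (T3.mk' 0 3 4) (T3.mk' 2 3 4) = ![(false, 1), (true, 1), (true, 2)] := by decide
theorem cN10 (A : Matrix (Fin 3) (Fin 3) K) : pl (cellMat (T3.mk' 0 3 4) A) (T3.mk' 2 3 4) = A 1 0 := by
  rw [pl_cellMat, dN10]; simp [det3', rowD]
theorem dN11 : desc (T3.mk' 0 3 4) (T3.mk' 0 2 4) = ![(true, 0), (false, 1), (true, 2)] := by decide
theorem cN11 (A : Matrix (Fin 3) (Fin 3) K) : pl (cellMat (T3.mk' 0 3 4) A) (T3.mk' 0 2 4) = A 1 1 := by
  rw [pl_cellMat, dN11]; simp [det3', rowD]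
theorem dN12 : desc (T3.mk' 0 3 4) (T3.mk' 0 2 3) = ![(true, 0), (false, 1), (true, 1)] := by decide
theorem cN12 (A : Matrix (Fin 3) (Fin 3) K) : pl (cellMat (T3.mk' 0 3 4) A) (T3.mk' 0 2 3) = -A 1 2 := by
  rw [pl_cellMat, dN12]; simp [det3', rowD]
theorem dN20 : desc (T3.mk' 0 3 4) (T3.mk' 3 4 5) = ![(true, 1), (true, 2), (false, 2)] := by decide
theorem cN20 (A : Matrix (Fin 3) (Fin 3) K) : pl (cellMat (T3.mk' 0 3 4) A) (T3.mk' 3 4 5) = A 2 0 := by
  rw [pl_cellMat, dN20]; simp [det3', rowD]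
theorem dN21 : desc (T3.mk' 0 3 4) (T3.mk' 0 4 5) = ![(true, 0), (true, 2), (false, 2)] := by decide
theorem cN21 (A : Matrix (Fin 3) (Fin 3) K) : pl (cellMat (T3.mk' 0 3 4) A) (T3.mk' 0 4 5) = -A 2 1 := by
  rw [pl_cellMat, dN21]; simp [det3', rowD]
theorem dN22 : desc (T3.mk' 0 3 4) (T3.mk' 0 3 5) = ![(true, 0), (true, 1), (false, 2)] := by decide
theorem cN22 (A : Matrix (Fin 3) (Fin 3) K) : pl (cellMat (T3.mk' 0 3 4) A) (T3.mk' 0 3 5) = A 2 2 := by
  rw [pl_cellMat, dN22]; simp [det3', rowD]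

end tables

theorem tauN00 : tauI (T3.mk' 1 3 4) = (T3.mk' 0 3 5) := by decide
theorem tauN01 : tauI (T3.mk' 0 1 4) = (T3.mk' 0 2 3) := by decide
theorem tauN02 : tauI (T3.mk' 0 1 3) = (T3.mk' 0 1 3) := by decide
theorem tauN10 : tauI (T3.mk' 2 3 4) = (T3.mk' 0 4 5) := by decide
theorem tauN11 : tauI (T3.mk' 0 2 4) = (T3.mk' 0 2 4) := by decide
theorem tauN12 : tauI (T3.mk' 0 2 3) = (T3.mk' 0 1 4) := by decide
theorem tauN20 : tauI (T3.mk' 3 4 5) = (T3.mk' 3 4 5) := by decide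
theorem tauN21 : tauI (T3.mk' 0 4 5) = (T3.mk' 2 3 4) := by decide
theorem tauN22 : tauI (T3.mk' 0 3 5) = (T3.mk' 1 3 4) := by decide
theorem epsN00 : epsI (T3.mk' 1 3 4) = -1 := by decide
theorem epsN01 : epsI (T3.mk' 0 1 4) = 1 := by decide
theorem epsN02 : epsI (T3.mk' 0 1 3) = 1 := by decide
theorem epsN10 : epsI (T3.mk' 2 3 4) = -1 := by decide
theorem epsN11 : epsI (T3.mk' 0 2 4) = 1 := by decide
theorem epsN12 : epsI (T3.mk' 0 2 3) = 1 := by decide
theorem epsN20 : epsI (T3.mk' 3 4 5) = 1 := by decide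
theorem epsN21 : epsI (T3.mk' 0 4 5) = -1 := by decide
theorem epsN22 : epsI (T3.mk' 0 3 5) = -1 := by decide
theorem eta00 : etas (T3.mk' 0 3 4) 0 0 = -1 := by decide
theorem eta01 : etas (T3.mk' 0 3 4) 0 1 = -1 := by decide
theorem eta02 : etas (T3.mk' 0 3 4) 0 2 = 1 := by decide
theorem eta10 : etas (T3.mk' 0 3 4) 1 0 = 1 := by decide
theorem eta11 : etas (T3.mk' 0 3 4) 1 1 = 1 := by decide
theorem eta12 : etas (T3.mk' 0 3 4) 1 2 = -1 := by decide
theorem eta20 : etas (T3.mk' 0 3 4) 2 0 = 1 := by decide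
theorem eta21 : etas (T3.mk' 0 3 4) 2 1 = 1 := by decide
theorem eta22 : etas (T3.mk' 0 3 4) 2 2 = -1 := by decide

theorem tauI0 : tauI (T3.mk' 0 3 4) = (T3.mk' 0 3 4) := by decide
theorem epsI0 : epsI (T3.mk' 0 3 4) = 1 := by decide

theorem nb_cases : ∀ N : T3, (N.1 ∩ (T3.mk' 0 3 4).1).card = 2 →
    N ∈ ([(T3.mk' 1 3 4), (T3.mk' 0 1 4), (T3.mk' 0 1 3), (T3.mk' 2 3 4), (T3.mk' 0 2 4), (T3.mk' 0 2 3), (T3.mk' 3 4 5), (T3.mk' 0 4 5), (T3.mk' 0 3 5)] : List T3) := by decide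

variable {K : Type*} [Field K] [Fintype K] [DecidableEq K] (q : ℕ) (hq : IsPrimePow q)
  (hK : Fintype.card K = q ^ 2)

include hq hK in
theorem param_of
    (hhard : ∀ l : T3 → K, l ∈ Cell (T3.mk' 0 3 4) → l (T3.mk' 0 3 4) ^ q = l (T3.mk' 0 3 4) →
      (∀ N : T3, (N.1 ∩ (T3.mk' 0 3 4).1).card = 2 →
        l (tauI N) = ((epsI N : ℤ) : K) * l N ^ q) → InLam q l) :
    Param (K := K) q (etas (T3.mk' 0 3 4)) (T3.mk' 0 3 4) := by
  have hneg := Cfsg.Agent.Lib.Helper6.E6M2Frob.neg_pow_q q hq hK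
  intro l
  constructor
  · rintro ⟨⟨a, A, ha0, rfl⟩, hl'⟩
    have haq : a ^ q = a := by
      have h := hl' (T3.mk' 0 3 4)
      rw [tauI0, epsI0] at h
      simp only [Pi.smul_apply, smul_eq_mul,
        Cfsg.Agent.Lib.Helper2.E6MCell.cell_coord (T3.mk' 0 3 4) A, mul_one, Int.cast_one, one_mul] at h
      exact h.symm
    have pq : ∀ x : K, (a * x) ^ q = a * x ^ q := fun x => by rw [mul_pow, haq]
    refine ⟨a, A, haq, ha0, ?_, rfl⟩
    intro j k
    fin_cases j <;> fin_cases k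
    · -- (0,0)
      have h := hl' (T3.mk' 1 3 4)
      rw [tauN00, epsN00] at h
      simp only [Pi.smul_apply, smul_eq_mul, cN00, cN22, pq, hneg] at h
      show A 2 2 = ((etas (T3.mk' 0 3 4) 0 0 : ℤ) : K) * A 0 0 ^ q
      rw [eta00]
      apply mul_left_cancel₀ ha0
      push_cast at h ⊢
      linear_combination (1 : K) * h
    · -- (0,1)
      have h := hl' (T3.mk' 0 1 4)
      rw [tauN01, epsN01] at h
      simp only [Pi.smul_apply, smul_eq_mul, cN01, cN12, pq, hneg] at h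
      show A 1 2 = ((etas (T3.mk' 0 3 4) 0 1 : ℤ) : K) * A 0 1 ^ q
      rw [eta01]
      apply mul_left_cancel₀ ha0
      push_cast at h ⊢
      linear_combination (-1 : K) * h
    · -- (0,2)
      have h := hl' (T3.mk' 0 1 3)
      rw [tauN02, epsN02] at h
      simp only [Pi.smul_apply, smul_eq_mul, cN02, cN02, pq, hneg] at h
      show A 0 2 = ((etas (T3.mk' 0 3 4) 0 2 : ℤ) : K) * A 0 2 ^ q
      rw [eta02]
      apply mul_left_cancel₀ ha0
      push_cast at h ⊢
      linear_combination (-1 : K) * h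
    · -- (1,0)
      have h := hl' (T3.mk' 2 3 4)
      rw [tauN10, epsN10] at h
      simp only [Pi.smul_apply, smul_eq_mul, cN10, cN21, pq, hneg] at h
      show A 2 1 = ((etas (T3.mk' 0 3 4) 1 0 : ℤ) : K) * A 1 0 ^ q
      rw [eta10]
      apply mul_left_cancel₀ ha0
      push_cast at h ⊢
      linear_combination (-1 : K) * h
    · -- (1,1)
      have h := hl' (T3.mk' 0 2 4)
      rw [tauN11, epsN11] at h
      simp only [Pi.smul_apply, smul_eq_mul, cN11, cN11, pq, hneg] at h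
      show A 1 1 = ((etas (T3.mk' 0 3 4) 1 1 : ℤ) : K) * A 1 1 ^ q
      rw [eta11]
      apply mul_left_cancel₀ ha0
      push_cast at h ⊢
      linear_combination (1 : K) * h
    · -- (1,2)
      have h := hl' (T3.mk' 0 2 3)
      rw [tauN12, epsN12] at h
      simp only [Pi.smul_apply, smul_eq_mul, cN12, cN01, pq, hneg] at h
      show A 0 1 = ((etas (T3.mk' 0 3 4) 1 2 : ℤ) : K) * A 1 2 ^ q
      rw [eta12]
      apply mul_left_cancel₀ ha0
      push_cast at h ⊢
      linear_combination (1 : K) * h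
    · -- (2,0)
      have h := hl' (T3.mk' 3 4 5)
      rw [tauN20, epsN20] at h
      simp only [Pi.smul_apply, smul_eq_mul, cN20, cN20, pq, hneg] at h
      show A 2 0 = ((etas (T3.mk' 0 3 4) 2 0 : ℤ) : K) * A 2 0 ^ q
      rw [eta20]
      apply mul_left_cancel₀ ha0
      push_cast at h ⊢
      linear_combination (1 : K) * h
    · -- (2,1)
      have h := hl' (T3.mk' 0 4 5)
      rw [tauN21, epsN21] at h
      simp only [Pi.smul_apply, smul_eq_mul, cN21, cN10, pq, hneg] at h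
      show A 1 0 = ((etas (T3.mk' 0 3 4) 2 1 : ℤ) : K) * A 2 1 ^ q
      rw [eta21]
      apply mul_left_cancel₀ ha0
      push_cast at h ⊢
      linear_combination (1 : K) * h
    · -- (2,2)
      have h := hl' (T3.mk' 0 3 5)
      rw [tauN22, epsN22] at h
      simp only [Pi.smul_apply, smul_eq_mul, cN22, cN00, pq, hneg] at h
      show A 0 0 = ((etas (T3.mk' 0 3 4) 2 2 : ℤ) : K) * A 2 2 ^ q
      rw [eta22]
      apply mul_left_cancel₀ ha0
      push_cast at h ⊢
      linear_combination (1 : K) * h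
  · rintro ⟨a, A, haq, ha0, hA, rfl⟩
    have pq : ∀ x : K, (a * x) ^ q = a * x ^ q := fun x => by rw [mul_pow, haq]
    have hcell : a • pl (cellMat (T3.mk' 0 3 4) A) ∈ Cell (T3.mk' 0 3 4) := ⟨a, A, ha0, rfl⟩
    refine ⟨hcell, hhard _ hcell ?_ ?_⟩
    · simp only [Pi.smul_apply, smul_eq_mul,
        Cfsg.Agent.Lib.Helper2.E6MCell.cell_coord (T3.mk' 0 3 4) A, mul_one]
      exact haq
    · intro N hN
      have hcases := nb_cases N hN
      simp only [List.mem_cons, List.not_mem_nil, or_false] at hcases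
      rcases hcases with rfl | rfl | rfl | rfl | rfl | rfl | rfl | rfl | rfl
      · -- N = (1, 3, 4)
        have hh : A 2 2 = ((etas (T3.mk' 0 3 4) 0 0 : ℤ) : K) * A 0 0 ^ q := hA 0 0
        rw [eta00] at hh
        rw [tauN00, epsN00]
        simp only [Pi.smul_apply, smul_eq_mul, cN00, cN22, pq, hneg]
        conv_lhs => rw [hh]
        push_cast
        ring
      · -- N = (0, 1, 4)
        have hh : A 1 2 = ((etas (T3.mk' 0 3 4) 0 1 : ℤ) : K) * A 0 1 ^ q := hA 0 1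
        rw [eta01] at hh
        rw [tauN01, epsN01]
        simp only [Pi.smul_apply, smul_eq_mul, cN01, cN12, pq, hneg]
        conv_lhs => rw [hh]
        push_cast
        ring
      · -- N = (0, 1, 3)
        have hh : A 0 2 = ((etas (T3.mk' 0 3 4) 0 2 : ℤ) : K) * A 0 2 ^ q := hA 0 2
        rw [eta02] at hh
        rw [tauN02, epsN02]
        simp only [Pi.smul_apply, smul_eq_mul, cN02, cN02, pq, hneg]
        conv_lhs => rw [hh]
        push_cast
        ring
      · -- N = (2, 3, 4)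
        have hh : A 2 1 = ((etas (T3.mk' 0 3 4) 1 0 : ℤ) : K) * A 1 0 ^ q := hA 1 0
        rw [eta10] at hh
        rw [tauN10, epsN10]
        simp only [Pi.smul_apply, smul_eq_mul, cN10, cN21, pq, hneg]
        conv_lhs => rw [hh]
        push_cast
        ring
      · -- N = (0, 2, 4)
        have hh : A 1 1 = ((etas (T3.mk' 0 3 4) 1 1 : ℤ) : K) * A 1 1 ^ q := hA 1 1
        rw [eta11] at hh
        rw [tauN11, epsN11]
        simp only [Pi.smul_apply, smul_eq_mul, cN11, cN11, pq, hneg]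
        conv_lhs => rw [hh]
        push_cast
        ring
      · -- N = (0, 2, 3)
        have hh : A 0 1 = ((etas (T3.mk' 0 3 4) 1 2 : ℤ) : K) * A 1 2 ^ q := hA 1 2
        rw [eta12] at hh
        rw [tauN12, epsN12]
        simp only [Pi.smul_apply, smul_eq_mul, cN12, cN01, pq, hneg]
        conv_lhs => rw [hh]
        push_cast
        ring
      · -- N = (3, 4, 5)
        have hh : A 2 0 = ((etas (T3.mk' 0 3 4) 2 0 : ℤ) : K) * A 2 0 ^ q := hA 2 0
        rw [eta20] at hh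
        rw [tauN20, epsN20]
        simp only [Pi.smul_apply, smul_eq_mul, cN20, cN20, pq, hneg]
        conv_lhs => rw [hh]
        push_cast
        ring
      · -- N = (0, 4, 5)
        have hh : A 1 0 = ((etas (T3.mk' 0 3 4) 2 1 : ℤ) : K) * A 2 1 ^ q := hA 2 1
        rw [eta21] at hh
        rw [tauN21, epsN21]
        simp only [Pi.smul_apply, smul_eq_mul, cN21, cN10, pq, hneg]
        conv_lhs => rw [hh]
        push_cast
        ring
      · -- N = (0, 3, 5)
        have hh : A 0 0 = ((etas (T3.mk' 0 3 4) 2 2 : ℤ) : K) * A 2 2 ^ q := hA 2 2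
        rw [eta22] at hh
        rw [tauN22, epsN22]
        simp only [Pi.smul_apply, smul_eq_mul, cN22, cN00, pq, hneg]
        conv_lhs => rw [hh]
        push_cast
        ring

end P034

namespace P125

section tables

variable {K : Type*} [Field K]

theorem dN00 : desc (T3.mk' 1 2 5) (T3.mk' 0 2 5) = ![(false, 0), (true, 1), (true, 2)] := by decide
theorem cN00 (A : Matrix (Fin 3) (Fin 3) K) : pl (cellMat (T3.mk' 1 2 5) A) (T3.mk' 0 2 5) = A 0 0 := by
  rw [pl_cellMat, dN00]; simp [det3', rowD]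
theorem dN01 : desc (T3.mk' 1 2 5) (T3.mk' 0 1 5) = ![(false, 0), (true, 0), (true, 2)] := by decide
theorem cN01 (A : Matrix (Fin 3) (Fin 3) K) : pl (cellMat (T3.mk' 1 2 5) A) (T3.mk' 0 1 5) = -A 0 1 := by
  rw [pl_cellMat, dN01]; simp [det3', rowD]
theorem dN02 : desc (T3.mk' 1 2 5) (T3.mk' 0 1 2) = ![(false, 0), (true, 0), (true, 1)] := by decide
theorem cN02 (A : Matrix (Fin 3) (Fin 3) K) : pl (cellMat (T3.mk' 1 2 5) A) (T3.mk' 0 1 2) = A 0 2 := by
  rw [pl_cellMat, dN02]; simp [det3', rowD]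
theorem dN10 : desc (T3.mk' 1 2 5) (T3.mk' 2 3 5) = ![(true, 1), (false, 1), (true, 2)] := by decide
theorem cN10 (A : Matrix (Fin 3) (Fin 3) K) : pl (cellMat (T3.mk' 1 2 5) A) (T3.mk' 2 3 5) = -A 1 0 := by
  rw [pl_cellMat, dN10]; simp [det3', rowD]
theorem dN11 : desc (T3.mk' 1 2 5) (T3.mk' 1 3 5) = ![(true, 0), (false, 1), (true, 2)] := by decide
theorem cN11 (A : Matrix (Fin 3) (Fin 3) K) : pl (cellMat (T3.mk' 1 2 5) A) (T3.mk' 1 3 5) = A 1 1 := by
  rw [pl_cellMat, dN11]; simp [det3', rowD]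
theorem dN12 : desc (T3.mk' 1 2 5) (T3.mk' 1 2 3) = ![(true, 0), (true, 1), (false, 1)] := by decide
theorem cN12 (A : Matrix (Fin 3) (Fin 3) K) : pl (cellMat (T3.mk' 1 2 5) A) (T3.mk' 1 2 3) = A 1 2 := by
  rw [pl_cellMat, dN12]; simp [det3', rowD]
theorem dN20 : desc (T3.mk' 1 2 5) (T3.mk' 2 4 5) = ![(true, 1), (false, 2), (true, 2)] := by decide
theorem cN20 (A : Matrix (Fin 3) (Fin 3) K) : pl (cellMat (T3.mk' 1 2 5) A) (T3.mk' 2 4 5) = -A 2 0 := by
  rw [pl_cellMat, dN20]; simp [det3', rowD]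
theorem dN21 : desc (T3.mk' 1 2 5) (T3.mk' 1 4 5) = ![(true, 0), (false, 2), (true, 2)] := by decide
theorem cN21 (A : Matrix (Fin 3) (Fin 3) K) : pl (cellMat (T3.mk' 1 2 5) A) (T3.mk' 1 4 5) = A 2 1 := by
  rw [pl_cellMat, dN21]; simp [det3', rowD]
theorem dN22 : desc (T3.mk' 1 2 5) (T3.mk' 1 2 4) = ![(true, 0), (true, 1), (false, 2)] := by decide
theorem cN22 (A : Matrix (Fin 3) (Fin 3) K) : pl (cellMat (T3.mk' 1 2 5) A) (T3.mk' 1 2 4) = A 2 2 := by
  rw [pl_cellMat, dN22]; simp [det3', rowD]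

end tables

theorem tauN00 : tauI (T3.mk' 0 2 5) = (T3.mk' 1 2 4) := by decide
theorem tauN01 : tauI (T3.mk' 0 1 5) = (T3.mk' 1 2 3) := by decide
theorem tauN02 : tauI (T3.mk' 0 1 2) = (T3.mk' 0 1 2) := by decide
theorem tauN10 : tauI (T3.mk' 2 3 5) = (T3.mk' 1 4 5) := by decide
theorem tauN11 : tauI (T3.mk' 1 3 5) = (T3.mk' 1 3 5) := by decide
theorem tauN12 : tauI (T3.mk' 1 2 3) = (T3.mk' 0 1 5) := by decide
theorem tauN20 : tauI (T3.mk' 2 4 5) = (T3.mk' 2 4 5) := by decide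
theorem tauN21 : tauI (T3.mk' 1 4 5) = (T3.mk' 2 3 5) := by decide
theorem tauN22 : tauI (T3.mk' 1 2 4) = (T3.mk' 0 2 5) := by decide
theorem epsN00 : epsI (T3.mk' 0 2 5) = -1 := by decide
theorem epsN01 : epsI (T3.mk' 0 1 5) = -1 := by decide
theorem epsN02 : epsI (T3.mk' 0 1 2) = 1 := by decide
theorem epsN10 : epsI (T3.mk' 2 3 5) = 1 := by decide
theorem epsN11 : epsI (T3.mk' 1 3 5) = 1 := by decide
theorem epsN12 : epsI (T3.mk' 1 2 3) = -1 := by decide
theorem epsN20 : epsI (T3.mk' 2 4 5) = 1 := by decide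
theorem epsN21 : epsI (T3.mk' 1 4 5) = 1 := by decide
theorem epsN22 : epsI (T3.mk' 1 2 4) = -1 := by decide
theorem eta00 : etas (T3.mk' 1 2 5) 0 0 = -1 := by decide
theorem eta01 : etas (T3.mk' 1 2 5) 0 1 = 1 := by decide
theorem eta02 : etas (T3.mk' 1 2 5) 0 2 = 1 := by decide
theorem eta10 : etas (T3.mk' 1 2 5) 1 0 = -1 := by decide
theorem eta11 : etas (T3.mk' 1 2 5) 1 1 = 1 := by decide
theorem eta12 : etas (T3.mk' 1 2 5) 1 2 = 1 := by decide
theorem eta20 : etas (T3.mk' 1 2 5) 2 0 = 1 := by decide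
theorem eta21 : etas (T3.mk' 1 2 5) 2 1 = -1 := by decide
theorem eta22 : etas (T3.mk' 1 2 5) 2 2 = -1 := by decide

theorem tauI0 : tauI (T3.mk' 1 2 5) = (T3.mk' 1 2 5) := by decide
theorem epsI0 : epsI (T3.mk' 1 2 5) = 1 := by decide

theorem nb_cases : ∀ N : T3, (N.1 ∩ (T3.mk' 1 2 5).1).card = 2 →
    N ∈ ([(T3.mk' 0 2 5), (T3.mk' 0 1 5), (T3.mk' 0 1 2), (T3.mk' 2 3 5), (T3.mk' 1 3 5), (T3.mk' 1 2 3), (T3.mk' 2 4 5), (T3.mk' 1 4 5), (T3.mk' 1 2 4)] : List T3) := by decide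

variable {K : Type*} [Field K] [Fintype K] [DecidableEq K] (q : ℕ) (hq : IsPrimePow q)
  (hK : Fintype.card K = q ^ 2)

include hq hK in
theorem param_of
    (hhard : ∀ l : T3 → K, l ∈ Cell (T3.mk' 1 2 5) → l (T3.mk' 1 2 5) ^ q = l (T3.mk' 1 2 5) →
      (∀ N : T3, (N.1 ∩ (T3.mk' 1 2 5).1).card = 2 →
        l (tauI N) = ((epsI N : ℤ) : K) * l N ^ q) → InLam q l) :
    Param (K := K) q (etas (T3.mk' 1 2 5)) (T3.mk' 1 2 5) := by
  have hneg := Cfsg.Agent.Lib.Helper6.E6M2Frob.neg_pow_q q hq hK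
  intro l
  constructor
  · rintro ⟨⟨a, A, ha0, rfl⟩, hl'⟩
    have haq : a ^ q = a := by
      have h := hl' (T3.mk' 1 2 5)
      rw [tauI0, epsI0] at h
      simp only [Pi.smul_apply, smul_eq_mul,
        Cfsg.Agent.Lib.Helper2.E6MCell.cell_coord (T3.mk' 1 2 5) A, mul_one, Int.cast_one, one_mul] at h
      exact h.symm
    have pq : ∀ x : K, (a * x) ^ q = a * x ^ q := fun x => by rw [mul_pow, haq]
    refine ⟨a, A, haq, ha0, ?_, rfl⟩
    intro j k
    fin_cases j <;> fin_cases k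
    · -- (0,0)
      have h := hl' (T3.mk' 0 2 5)
      rw [tauN00, epsN00] at h
      simp only [Pi.smul_apply, smul_eq_mul, cN00, cN22, pq, hneg] at h
      show A 2 2 = ((etas (T3.mk' 1 2 5) 0 0 : ℤ) : K) * A 0 0 ^ q
      rw [eta00]
      apply mul_left_cancel₀ ha0
      push_cast at h ⊢
      linear_combination (1 : K) * h
    · -- (0,1)
      have h := hl' (T3.mk' 0 1 5)
      rw [tauN01, epsN01] at h
      simp only [Pi.smul_apply, smul_eq_mul, cN01, cN12, pq, hneg] at h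
      show A 1 2 = ((etas (T3.mk' 1 2 5) 0 1 : ℤ) : K) * A 0 1 ^ q
      rw [eta01]
      apply mul_left_cancel₀ ha0
      push_cast at h ⊢
      linear_combination (1 : K) * h
    · -- (0,2)
      have h := hl' (T3.mk' 0 1 2)
      rw [tauN02, epsN02] at h
      simp only [Pi.smul_apply, smul_eq_mul, cN02, cN02, pq, hneg] at h
      show A 0 2 = ((etas (T3.mk' 1 2 5) 0 2 : ℤ) : K) * A 0 2 ^ q
      rw [eta02]
      apply mul_left_cancel₀ ha0
      push_cast at h ⊢
      linear_combination (1 : K) * h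
    · -- (1,0)
      have h := hl' (T3.mk' 2 3 5)
      rw [tauN10, epsN10] at h
      simp only [Pi.smul_apply, smul_eq_mul, cN10, cN21, pq, hneg] at h
      show A 2 1 = ((etas (T3.mk' 1 2 5) 1 0 : ℤ) : K) * A 1 0 ^ q
      rw [eta10]
      apply mul_left_cancel₀ ha0
      push_cast at h ⊢
      linear_combination (1 : K) * h
    · -- (1,1)
      have h := hl' (T3.mk' 1 3 5)
      rw [tauN11, epsN11] at h
      simp only [Pi.smul_apply, smul_eq_mul, cN11, cN11, pq, hneg] at h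
      show A 1 1 = ((etas (T3.mk' 1 2 5) 1 1 : ℤ) : K) * A 1 1 ^ q
      rw [eta11]
      apply mul_left_cancel₀ ha0
      push_cast at h ⊢
      linear_combination (1 : K) * h
    · -- (1,2)
      have h := hl' (T3.mk' 1 2 3)
      rw [tauN12, epsN12] at h
      simp only [Pi.smul_apply, smul_eq_mul, cN12, cN01, pq, hneg] at h
      show A 0 1 = ((etas (T3.mk' 1 2 5) 1 2 : ℤ) : K) * A 1 2 ^ q
      rw [eta12]
      apply mul_left_cancel₀ ha0
      push_cast at h ⊢
      linear_combination (-1 : K) * h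
    · -- (2,0)
      have h := hl' (T3.mk' 2 4 5)
      rw [tauN20, epsN20] at h
      simp only [Pi.smul_apply, smul_eq_mul, cN20, cN20, pq, hneg] at h
      show A 2 0 = ((etas (T3.mk' 1 2 5) 2 0 : ℤ) : K) * A 2 0 ^ q
      rw [eta20]
      apply mul_left_cancel₀ ha0
      push_cast at h ⊢
      linear_combination (-1 : K) * h
    · -- (2,1)
      have h := hl' (T3.mk' 1 4 5)
      rw [tauN21, epsN21] at h
      simp only [Pi.smul_apply, smul_eq_mul, cN21, cN10, pq, hneg] at h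
      show A 1 0 = ((etas (T3.mk' 1 2 5) 2 1 : ℤ) : K) * A 2 1 ^ q
      rw [eta21]
      apply mul_left_cancel₀ ha0
      push_cast at h ⊢
      linear_combination (-1 : K) * h
    · -- (2,2)
      have h := hl' (T3.mk' 1 2 4)
      rw [tauN22, epsN22] at h
      simp only [Pi.smul_apply, smul_eq_mul, cN22, cN00, pq, hneg] at h
      show A 0 0 = ((etas (T3.mk' 1 2 5) 2 2 : ℤ) : K) * A 2 2 ^ q
      rw [eta22]
      apply mul_left_cancel₀ ha0
      push_cast at h ⊢
      linear_combination (1 : K) * h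
  · rintro ⟨a, A, haq, ha0, hA, rfl⟩
    have pq : ∀ x : K, (a * x) ^ q = a * x ^ q := fun x => by rw [mul_pow, haq]
    have hcell : a • pl (cellMat (T3.mk' 1 2 5) A) ∈ Cell (T3.mk' 1 2 5) := ⟨a, A, ha0, rfl⟩
    refine ⟨hcell, hhard _ hcell ?_ ?_⟩
    · simp only [Pi.smul_apply, smul_eq_mul,
        Cfsg.Agent.Lib.Helper2.E6MCell.cell_coord (T3.mk' 1 2 5) A, mul_one]
      exact haq
    · intro N hN
      have hcases := nb_cases N hN
      simp only [List.mem_cons, List.not_mem_nil, or_false] at hcases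
      rcases hcases with rfl | rfl | rfl | rfl | rfl | rfl | rfl | rfl | rfl
      · -- N = (0, 2, 5)
        have hh : A 2 2 = ((etas (T3.mk' 1 2 5) 0 0 : ℤ) : K) * A 0 0 ^ q := hA 0 0
        rw [eta00] at hh
        rw [tauN00, epsN00]
        simp only [Pi.smul_apply, smul_eq_mul, cN00, cN22, pq, hneg]
        conv_lhs => rw [hh]
        push_cast
        ring
      · -- N = (0, 1, 5)
        have hh : A 1 2 = ((etas (T3.mk' 1 2 5) 0 1 : ℤ) : K) * A 0 1 ^ q := hA 0 1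
        rw [eta01] at hh
        rw [tauN01, epsN01]
        simp only [Pi.smul_apply, smul_eq_mul, cN01, cN12, pq, hneg]
        conv_lhs => rw [hh]
        push_cast
        ring
      · -- N = (0, 1, 2)
        have hh : A 0 2 = ((etas (T3.mk' 1 2 5) 0 2 : ℤ) : K) * A 0 2 ^ q := hA 0 2
        rw [eta02] at hh
        rw [tauN02, epsN02]
        simp only [Pi.smul_apply, smul_eq_mul, cN02, cN02, pq, hneg]
        conv_lhs => rw [hh]
        push_cast
        ring
      · -- N = (2, 3, 5)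
        have hh : A 2 1 = ((etas (T3.mk' 1 2 5) 1 0 : ℤ) : K) * A 1 0 ^ q := hA 1 0
        rw [eta10] at hh
        rw [tauN10, epsN10]
        simp only [Pi.smul_apply, smul_eq_mul, cN10, cN21, pq, hneg]
        conv_lhs => rw [hh]
        push_cast
        ring
      · -- N = (1, 3, 5)
        have hh : A 1 1 = ((etas (T3.mk' 1 2 5) 1 1 : ℤ) : K) * A 1 1 ^ q := hA 1 1
        rw [eta11] at hh
        rw [tauN11, epsN11]
        simp only [Pi.smul_apply, smul_eq_mul, cN11, cN11, pq, hneg]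
        conv_lhs => rw [hh]
        push_cast
        ring
      · -- N = (1, 2, 3)
        have hh : A 0 1 = ((etas (T3.mk' 1 2 5) 1 2 : ℤ) : K) * A 1 2 ^ q := hA 1 2
        rw [eta12] at hh
        rw [tauN12, epsN12]
        simp only [Pi.smul_apply, smul_eq_mul, cN12, cN01, pq, hneg]
        conv_lhs => rw [hh]
        push_cast
        ring
      · -- N = (2, 4, 5)
        have hh : A 2 0 = ((etas (T3.mk' 1 2 5) 2 0 : ℤ) : K) * A 2 0 ^ q := hA 2 0
        rw [eta20] at hh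
        rw [tauN20, epsN20]
        simp only [Pi.smul_apply, smul_eq_mul, cN20, cN20, pq, hneg]
        conv_lhs => rw [hh]
        push_cast
        ring
      · -- N = (1, 4, 5)
        have hh : A 1 0 = ((etas (T3.mk' 1 2 5) 2 1 : ℤ) : K) * A 2 1 ^ q := hA 2 1
        rw [eta21] at hh
        rw [tauN21, epsN21]
        simp only [Pi.smul_apply, smul_eq_mul, cN21, cN10, pq, hneg]
        conv_lhs => rw [hh]
        push_cast
        ring
      · -- N = (1, 2, 4)
        have hh : A 0 0 = ((etas (T3.mk' 1 2 5) 2 2 : ℤ) : K) * A 2 2 ^ q := hA 2 2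
        rw [eta22] at hh
        rw [tauN22, epsN22]
        simp only [Pi.smul_apply, smul_eq_mul, cN22, cN00, pq, hneg]
        conv_lhs => rw [hh]
        push_cast
        ring

end P125

namespace P135

section tables

variable {K : Type*} [Field K]

theorem dN00 : desc (T3.mk' 1 3 5) (T3.mk' 0 3 5) = ![(false, 0), (true, 1), (true, 2)] := by decide
theorem cN00 (A : Matrix (Fin 3) (Fin 3) K) : pl (cellMat (T3.mk' 1 3 5) A) (T3.mk' 0 3 5) = A 0 0 := by
  rw [pl_cellMat, dN00]; simp [det3', rowD]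
theorem dN01 : desc (T3.mk' 1 3 5) (T3.mk' 0 1 5) = ![(false, 0), (true, 0), (true, 2)] := by decide
theorem cN01 (A : Matrix (Fin 3) (Fin 3) K) : pl (cellMat (T3.mk' 1 3 5) A) (T3.mk' 0 1 5) = -A 0 1 := by
  rw [pl_cellMat, dN01]; simp [det3', rowD]
theorem dN02 : desc (T3.mk' 1 3 5) (T3.mk' 0 1 3) = ![(false, 0), (true, 0), (true, 1)] := by decide
theorem cN02 (A : Matrix (Fin 3) (Fin 3) K) : pl (cellMat (T3.mk' 1 3 5) A) (T3.mk' 0 1 3) = A 0 2 := by
  rw [pl_cellMat, dN02]; simp [det3', rowD]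
theorem dN10 : desc (T3.mk' 1 3 5) (T3.mk' 2 3 5) = ![(false, 1), (true, 1), (true, 2)] := by decide
theorem cN10 (A : Matrix (Fin 3) (Fin 3) K) : pl (cellMat (T3.mk' 1 3 5) A) (T3.mk' 2 3 5) = A 1 0 := by
  rw [pl_cellMat, dN10]; simp [det3', rowD]
theorem dN11 : desc (T3.mk' 1 3 5) (T3.mk' 1 2 5) = ![(true, 0), (false, 1), (true, 2)] := by decide
theorem cN11 (A : Matrix (Fin 3) (Fin 3) K) : pl (cellMat (T3.mk' 1 3 5) A) (T3.mk' 1 2 5) = A 1 1 := by
  rw [pl_cellMat, dN11]; simp [det3', rowD]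
theorem dN12 : desc (T3.mk' 1 3 5) (T3.mk' 1 2 3) = ![(true, 0), (false, 1), (true, 1)] := by decide
theorem cN12 (A : Matrix (Fin 3) (Fin 3) K) : pl (cellMat (T3.mk' 1 3 5) A) (T3.mk' 1 2 3) = -A 1 2 := by
  rw [pl_cellMat, dN12]; simp [det3', rowD]
theorem dN20 : desc (T3.mk' 1 3 5) (T3.mk' 3 4 5) = ![(true, 1), (false, 2), (true, 2)] := by decide
theorem cN20 (A : Matrix (Fin 3) (Fin 3) K) : pl (cellMat (T3.mk' 1 3 5) A) (T3.mk' 3 4 5) = -A 2 0 := by
  rw [pl_cellMat, dN20]; simp [det3', rowD]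
theorem dN21 : desc (T3.mk' 1 3 5) (T3.mk' 1 4 5) = ![(true, 0), (false, 2), (true, 2)] := by decide
theorem cN21 (A : Matrix (Fin 3) (Fin 3) K) : pl (cellMat (T3.mk' 1 3 5) A) (T3.mk' 1 4 5) = A 2 1 := by
  rw [pl_cellMat, dN21]; simp [det3', rowD]
theorem dN22 : desc (T3.mk' 1 3 5) (T3.mk' 1 3 4) = ![(true, 0), (true, 1), (false, 2)] := by decide
theorem cN22 (A : Matrix (Fin 3) (Fin 3) K) : pl (cellMat (T3.mk' 1 3 5) A) (T3.mk' 1 3 4) = A 2 2 := by
  rw [pl_cellMat, dN22]; simp [det3', rowD]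

end tables

theorem tauN00 : tauI (T3.mk' 0 3 5) = (T3.mk' 1 3 4) := by decide
theorem tauN01 : tauI (T3.mk' 0 1 5) = (T3.mk' 1 2 3) := by decide
theorem tauN02 : tauI (T3.mk' 0 1 3) = (T3.mk' 0 1 3) := by decide
theorem tauN10 : tauI (T3.mk' 2 3 5) = (T3.mk' 1 4 5) := by decide
theorem tauN11 : tauI (T3.mk' 1 2 5) = (T3.mk' 1 2 5) := by decide
theorem tauN12 : tauI (T3.mk' 1 2 3) = (T3.mk' 0 1 5) := by decide
theorem tauN20 : tauI (T3.mk' 3 4 5) = (T3.mk' 3 4 5) := by decide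
theorem tauN21 : tauI (T3.mk' 1 4 5) = (T3.mk' 2 3 5) := by decide
theorem tauN22 : tauI (T3.mk' 1 3 4) = (T3.mk' 0 3 5) := by decide
theorem epsN00 : epsI (T3.mk' 0 3 5) = -1 := by decide
theorem epsN01 : epsI (T3.mk' 0 1 5) = -1 := by decide
theorem epsN02 : epsI (T3.mk' 0 1 3) = 1 := by decide
theorem epsN10 : epsI (T3.mk' 2 3 5) = 1 := by decide
theorem epsN11 : epsI (T3.mk' 1 2 5) = 1 := by decide
theorem epsN12 : epsI (T3.mk' 1 2 3) = -1 := by decide
theorem epsN20 : epsI (T3.mk' 3 4 5) = 1 := by decide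
theorem epsN21 : epsI (T3.mk' 1 4 5) = 1 := by decide
theorem epsN22 : epsI (T3.mk' 1 3 4) = -1 := by decide
theorem eta00 : etas (T3.mk' 1 3 5) 0 0 = -1 := by decide
theorem eta01 : etas (T3.mk' 1 3 5) 0 1 = -1 := by decide
theorem eta02 : etas (T3.mk' 1 3 5) 0 2 = 1 := by decide
theorem eta10 : etas (T3.mk' 1 3 5) 1 0 = 1 := by decide
theorem eta11 : etas (T3.mk' 1 3 5) 1 1 = 1 := by decide
theorem eta12 : etas (T3.mk' 1 3 5) 1 2 = -1 := by decide
theorem eta20 : etas (T3.mk' 1 3 5) 2 0 = 1 := by decide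
theorem eta21 : etas (T3.mk' 1 3 5) 2 1 = 1 := by decide
theorem eta22 : etas (T3.mk' 1 3 5) 2 2 = -1 := by decide

theorem tauI0 : tauI (T3.mk' 1 3 5) = (T3.mk' 1 3 5) := by decide
theorem epsI0 : epsI (T3.mk' 1 3 5) = 1 := by decide

theorem nb_cases : ∀ N : T3, (N.1 ∩ (T3.mk' 1 3 5).1).card = 2 →
    N ∈ ([(T3.mk' 0 3 5), (T3.mk' 0 1 5), (T3.mk' 0 1 3), (T3.mk' 2 3 5), (T3.mk' 1 2 5), (T3.mk' 1 2 3), (T3.mk' 3 4 5), (T3.mk' 1 4 5), (T3.mk' 1 3 4)] : List T3) := by decide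

variable {K : Type*} [Field K] [Fintype K] [DecidableEq K] (q : ℕ) (hq : IsPrimePow q)
  (hK : Fintype.card K = q ^ 2)

include hq hK in
theorem param_of
    (hhard : ∀ l : T3 → K, l ∈ Cell (T3.mk' 1 3 5) → l (T3.mk' 1 3 5) ^ q = l (T3.mk' 1 3 5) →
      (∀ N : T3, (N.1 ∩ (T3.mk' 1 3 5).1).card = 2 →
        l (tauI N) = ((epsI N : ℤ) : K) * l N ^ q) → InLam q l) :
    Param (K := K) q (etas (T3.mk' 1 3 5)) (T3.mk' 1 3 5) := by
  have hneg := Cfsg.Agent.Lib.Helper6.E6M2Frob.neg_pow_q q hq hK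
  intro l
  constructor
  · rintro ⟨⟨a, A, ha0, rfl⟩, hl'⟩
    have haq : a ^ q = a := by
      have h := hl' (T3.mk' 1 3 5)
      rw [tauI0, epsI0] at h
      simp only [Pi.smul_apply, smul_eq_mul,
        Cfsg.Agent.Lib.Helper2.E6MCell.cell_coord (T3.mk' 1 3 5) A, mul_one, Int.cast_one, one_mul] at h
      exact h.symm
    have pq : ∀ x : K, (a * x) ^ q = a * x ^ q := fun x => by rw [mul_pow, haq]
    refine ⟨a, A, haq, ha0, ?_, rfl⟩
    intro j k
    fin_cases j <;> fin_cases k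
    · -- (0,0)
      have h := hl' (T3.mk' 0 3 5)
      rw [tauN00, epsN00] at h
      simp only [Pi.smul_apply, smul_eq_mul, cN00, cN22, pq, hneg] at h
      show A 2 2 = ((etas (T3.mk' 1 3 5) 0 0 : ℤ) : K) * A 0 0 ^ q
      rw [eta00]
      apply mul_left_cancel₀ ha0
      push_cast at h ⊢
      linear_combination (1 : K) * h
    · -- (0,1)
      have h := hl' (T3.mk' 0 1 5)
      rw [tauN01, epsN01] at h
      simp only [Pi.smul_apply, smul_eq_mul, cN01, cN12, pq, hneg] at h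
      show A 1 2 = ((etas (T3.mk' 1 3 5) 0 1 : ℤ) : K) * A 0 1 ^ q
      rw [eta01]
      apply mul_left_cancel₀ ha0
      push_cast at h ⊢
      linear_combination (-1 : K) * h
    · -- (0,2)
      have h := hl' (T3.mk' 0 1 3)
      rw [tauN02, epsN02] at h
      simp only [Pi.smul_apply, smul_eq_mul, cN02, cN02, pq, hneg] at h
      show A 0 2 = ((etas (T3.mk' 1 3 5) 0 2 : ℤ) : K) * A 0 2 ^ q
      rw [eta02]
      apply mul_left_cancel₀ ha0
      push_cast at h ⊢
      linear_combination (1 : K) * h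
    · -- (1,0)
      have h := hl' (T3.mk' 2 3 5)
      rw [tauN10, epsN10] at h
      simp only [Pi.smul_apply, smul_eq_mul, cN10, cN21, pq, hneg] at h
      show A 2 1 = ((etas (T3.mk' 1 3 5) 1 0 : ℤ) : K) * A 1 0 ^ q
      rw [eta10]
      apply mul_left_cancel₀ ha0
      push_cast at h ⊢
      linear_combination (1 : K) * h
    · -- (1,1)
      have h := hl' (T3.mk' 1 2 5)
      rw [tauN11, epsN11] at h
      simp only [Pi.smul_apply, smul_eq_mul, cN11, cN11, pq, hneg] at h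
      show A 1 1 = ((etas (T3.mk' 1 3 5) 1 1 : ℤ) : K) * A 1 1 ^ q
      rw [eta11]
      apply mul_left_cancel₀ ha0
      push_cast at h ⊢
      linear_combination (1 : K) * h
    · -- (1,2)
      have h := hl' (T3.mk' 1 2 3)
      rw [tauN12, epsN12] at h
      simp only [Pi.smul_apply, smul_eq_mul, cN12, cN01, pq, hneg] at h
      show A 0 1 = ((etas (T3.mk' 1 3 5) 1 2 : ℤ) : K) * A 1 2 ^ q
      rw [eta12]
      apply mul_left_cancel₀ ha0
      push_cast at h ⊢
      linear_combination (-1 : K) * h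
    · -- (2,0)
      have h := hl' (T3.mk' 3 4 5)
      rw [tauN20, epsN20] at h
      simp only [Pi.smul_apply, smul_eq_mul, cN20, cN20, pq, hneg] at h
      show A 2 0 = ((etas (T3.mk' 1 3 5) 2 0 : ℤ) : K) * A 2 0 ^ q
      rw [eta20]
      apply mul_left_cancel₀ ha0
      push_cast at h ⊢
      linear_combination (-1 : K) * h
    · -- (2,1)
      have h := hl' (T3.mk' 1 4 5)
      rw [tauN21, epsN21] at h
      simp only [Pi.smul_apply, smul_eq_mul, cN21, cN10, pq, hneg] at h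
      show A 1 0 = ((etas (T3.mk' 1 3 5) 2 1 : ℤ) : K) * A 2 1 ^ q
      rw [eta21]
      apply mul_left_cancel₀ ha0
      push_cast at h ⊢
      linear_combination (1 : K) * h
    · -- (2,2)
      have h := hl' (T3.mk' 1 3 4)
      rw [tauN22, epsN22] at h
      simp only [Pi.smul_apply, smul_eq_mul, cN22, cN00, pq, hneg] at h
      show A 0 0 = ((etas (T3.mk' 1 3 5) 2 2 : ℤ) : K) * A 2 2 ^ q
      rw [eta22]
      apply mul_left_cancel₀ ha0
      push_cast at h ⊢
      linear_combination (1 : K) * h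
  · rintro ⟨a, A, haq, ha0, hA, rfl⟩
    have pq : ∀ x : K, (a * x) ^ q = a * x ^ q := fun x => by rw [mul_pow, haq]
    have hcell : a • pl (cellMat (T3.mk' 1 3 5) A) ∈ Cell (T3.mk' 1 3 5) := ⟨a, A, ha0, rfl⟩
    refine ⟨hcell, hhard _ hcell ?_ ?_⟩
    · simp only [Pi.smul_apply, smul_eq_mul,
        Cfsg.Agent.Lib.Helper2.E6MCell.cell_coord (T3.mk' 1 3 5) A, mul_one]
      exact haq
    · intro N hN
      have hcases := nb_cases N hN
      simp only [List.mem_cons, List.not_mem_nil, or_false] at hcases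
      rcases hcases with rfl | rfl | rfl | rfl | rfl | rfl | rfl | rfl | rfl
      · -- N = (0, 3, 5)
        have hh : A 2 2 = ((etas (T3.mk' 1 3 5) 0 0 : ℤ) : K) * A 0 0 ^ q := hA 0 0
        rw [eta00] at hh
        rw [tauN00, epsN00]
        simp only [Pi.smul_apply, smul_eq_mul, cN00, cN22, pq, hneg]
        conv_lhs => rw [hh]
        push_cast
        ring
      · -- N = (0, 1, 5)
        have hh : A 1 2 = ((etas (T3.mk' 1 3 5) 0 1 : ℤ) : K) * A 0 1 ^ q := hA 0 1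
        rw [eta01] at hh
        rw [tauN01, epsN01]
        simp only [Pi.smul_apply, smul_eq_mul, cN01, cN12, pq, hneg]
        conv_lhs => rw [hh]
        push_cast
        ring
      · -- N = (0, 1, 3)
        have hh : A 0 2 = ((etas (T3.mk' 1 3 5) 0 2 : ℤ) : K) * A 0 2 ^ q := hA 0 2
        rw [eta02] at hh
        rw [tauN02, epsN02]
        simp only [Pi.smul_apply, smul_eq_mul, cN02, cN02, pq, hneg]
        conv_lhs => rw [hh]
        push_cast
        ring
      · -- N = (2, 3, 5)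
        have hh : A 2 1 = ((etas (T3.mk' 1 3 5) 1 0 : ℤ) : K) * A 1 0 ^ q := hA 1 0
        rw [eta10] at hh
        rw [tauN10, epsN10]
        simp only [Pi.smul_apply, smul_eq_mul, cN10, cN21, pq, hneg]
        conv_lhs => rw [hh]
        push_cast
        ring
      · -- N = (1, 2, 5)
        have hh : A 1 1 = ((etas (T3.mk' 1 3 5) 1 1 : ℤ) : K) * A 1 1 ^ q := hA 1 1
        rw [eta11] at hh
        rw [tauN11, epsN11]
        simp only [Pi.smul_apply, smul_eq_mul, cN11, cN11, pq, hneg]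
        conv_lhs => rw [hh]
        push_cast
        ring
      · -- N = (1, 2, 3)
        have hh : A 0 1 = ((etas (T3.mk' 1 3 5) 1 2 : ℤ) : K) * A 1 2 ^ q := hA 1 2
        rw [eta12] at hh
        rw [tauN12, epsN12]
        simp only [Pi.smul_apply, smul_eq_mul, cN12, cN01, pq, hneg]
        conv_lhs => rw [hh]
        push_cast
        ring
      · -- N = (3, 4, 5)
        have hh : A 2 0 = ((etas (T3.mk' 1 3 5) 2 0 : ℤ) : K) * A 2 0 ^ q := hA 2 0
        rw [eta20] at hh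
        rw [tauN20, epsN20]
        simp only [Pi.smul_apply, smul_eq_mul, cN20, cN20, pq, hneg]
        conv_lhs => rw [hh]
        push_cast
        ring
      · -- N = (1, 4, 5)
        have hh : A 1 0 = ((etas (T3.mk' 1 3 5) 2 1 : ℤ) : K) * A 2 1 ^ q := hA 2 1
        rw [eta21] at hh
        rw [tauN21, epsN21]
        simp only [Pi.smul_apply, smul_eq_mul, cN21, cN10, pq, hneg]
        conv_lhs => rw [hh]
        push_cast
        ring
      · -- N = (1, 3, 4)
        have hh : A 0 0 = ((etas (T3.mk' 1 3 5) 2 2 : ℤ) : K) * A 2 2 ^ q := hA 2 2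
        rw [eta22] at hh
        rw [tauN22, epsN22]
        simp only [Pi.smul_apply, smul_eq_mul, cN22, cN00, pq, hneg]
        conv_lhs => rw [hh]
        push_cast
        ring

end P135

namespace P245

section tables

variable {K : Type*} [Field K]

theorem dN00 : desc (T3.mk' 2 4 5) (T3.mk' 0 4 5) = ![(false, 0), (true, 1), (true, 2)] := by decide
theorem cN00 (A : Matrix (Fin 3) (Fin 3) K) : pl (cellMat (T3.mk' 2 4 5) A) (T3.mk' 0 4 5) = A 0 0 := by
  rw [pl_cellMat, dN00]; simp [det3', rowD]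
theorem dN01 : desc (T3.mk' 2 4 5) (T3.mk' 0 2 5) = ![(false, 0), (true, 0), (true, 2)] := by decide
theorem cN01 (A : Matrix (Fin 3) (Fin 3) K) : pl (cellMat (T3.mk' 2 4 5) A) (T3.mk' 0 2 5) = -A 0 1 := by
  rw [pl_cellMat, dN01]; simp [det3', rowD]
theorem dN02 : desc (T3.mk' 2 4 5) (T3.mk' 0 2 4) = ![(false, 0), (true, 0), (true, 1)] := by decide
theorem cN02 (A : Matrix (Fin 3) (Fin 3) K) : pl (cellMat (T3.mk' 2 4 5) A) (T3.mk' 0 2 4) = A 0 2 := by
  rw [pl_cellMat, dN02]; simp [det3', rowD]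
theorem dN10 : desc (T3.mk' 2 4 5) (T3.mk' 1 4 5) = ![(false, 1), (true, 1), (true, 2)] := by decide
theorem cN10 (A : Matrix (Fin 3) (Fin 3) K) : pl (cellMat (T3.mk' 2 4 5) A) (T3.mk' 1 4 5) = A 1 0 := by
  rw [pl_cellMat, dN10]; simp [det3', rowD]
theorem dN11 : desc (T3.mk' 2 4 5) (T3.mk' 1 2 5) = ![(false, 1), (true, 0), (true, 2)] := by decide
theorem cN11 (A : Matrix (Fin 3) (Fin 3) K) : pl (cellMat (T3.mk' 2 4 5) A) (T3.mk' 1 2 5) = -A 1 1 := by
  rw [pl_cellMat, dN11]; simp [det3', rowD]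
theorem dN12 : desc (T3.mk' 2 4 5) (T3.mk' 1 2 4) = ![(false, 1), (true, 0), (true, 1)] := by decide
theorem cN12 (A : Matrix (Fin 3) (Fin 3) K) : pl (cellMat (T3.mk' 2 4 5) A) (T3.mk' 1 2 4) = A 1 2 := by
  rw [pl_cellMat, dN12]; simp [det3', rowD]
theorem dN20 : desc (T3.mk' 2 4 5) (T3.mk' 3 4 5) = ![(false, 2), (true, 1), (true, 2)] := by decide
theorem cN20 (A : Matrix (Fin 3) (Fin 3) K) : pl (cellMat (T3.mk' 2 4 5) A) (T3.mk' 3 4 5) = A 2 0 := by
  rw [pl_cellMat, dN20]; simp [det3', rowD]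
theorem dN21 : desc (T3.mk' 2 4 5) (T3.mk' 2 3 5) = ![(true, 0), (false, 2), (true, 2)] := by decide
theorem cN21 (A : Matrix (Fin 3) (Fin 3) K) : pl (cellMat (T3.mk' 2 4 5) A) (T3.mk' 2 3 5) = A 2 1 := by
  rw [pl_cellMat, dN21]; simp [det3', rowD]
theorem dN22 : desc (T3.mk' 2 4 5) (T3.mk' 2 3 4) = ![(true, 0), (false, 2), (true, 1)] := by decide
theorem cN22 (A : Matrix (Fin 3) (Fin 3) K) : pl (cellMat (T3.mk' 2 4 5) A) (T3.mk' 2 3 4) = -A 2 2 := by
  rw [pl_cellMat, dN22]; simp [det3', rowD]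

end tables

theorem tauN00 : tauI (T3.mk' 0 4 5) = (T3.mk' 2 3 4) := by decide
theorem tauN01 : tauI (T3.mk' 0 2 5) = (T3.mk' 1 2 4) := by decide
theorem tauN02 : tauI (T3.mk' 0 2 4) = (T3.mk' 0 2 4) := by decide
theorem tauN10 : tauI (T3.mk' 1 4 5) = (T3.mk' 2 3 5) := by decide
theorem tauN11 : tauI (T3.mk' 1 2 5) = (T3.mk' 1 2 5) := by decide
theorem tauN12 : tauI (T3.mk' 1 2 4) = (T3.mk' 0 2 5) := by decide
theorem tauN20 : tauI (T3.mk' 3 4 5) = (T3.mk' 3 4 5) := by decide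
theorem tauN21 : tauI (T3.mk' 2 3 5) = (T3.mk' 1 4 5) := by decide
theorem tauN22 : tauI (T3.mk' 2 3 4) = (T3.mk' 0 4 5) := by decide
theorem epsN00 : epsI (T3.mk' 0 4 5) = -1 := by decide
theorem epsN01 : epsI (T3.mk' 0 2 5) = -1 := by decide
theorem epsN02 : epsI (T3.mk' 0 2 4) = 1 := by decide
theorem epsN10 : epsI (T3.mk' 1 4 5) = 1 := by decide
theorem epsN11 : epsI (T3.mk' 1 2 5) = 1 := by decide
theorem epsN12 : epsI (T3.mk' 1 2 4) = -1 := by decide
theorem epsN20 : epsI (T3.mk' 3 4 5) = 1 := by decide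
theorem epsN21 : epsI (T3.mk' 2 3 5) = 1 := by decide
theorem epsN22 : epsI (T3.mk' 2 3 4) = -1 := by decide
theorem eta00 : etas (T3.mk' 2 4 5) 0 0 = 1 := by decide
theorem eta01 : etas (T3.mk' 2 4 5) 0 1 = 1 := by decide
theorem eta02 : etas (T3.mk' 2 4 5) 0 2 = 1 := by decide
theorem eta10 : etas (T3.mk' 2 4 5) 1 0 = 1 := by decide
theorem eta11 : etas (T3.mk' 2 4 5) 1 1 = 1 := by decide
theorem eta12 : etas (T3.mk' 2 4 5) 1 2 = 1 := by decide
theorem eta20 : etas (T3.mk' 2 4 5) 2 0 = 1 := by decide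
theorem eta21 : etas (T3.mk' 2 4 5) 2 1 = 1 := by decide
theorem eta22 : etas (T3.mk' 2 4 5) 2 2 = 1 := by decide

theorem tauI0 : tauI (T3.mk' 2 4 5) = (T3.mk' 2 4 5) := by decide
theorem epsI0 : epsI (T3.mk' 2 4 5) = 1 := by decide

theorem nb_cases : ∀ N : T3, (N.1 ∩ (T3.mk' 2 4 5).1).card = 2 →
    N ∈ ([(T3.mk' 0 4 5), (T3.mk' 0 2 5), (T3.mk' 0 2 4), (T3.mk' 1 4 5), (T3.mk' 1 2 5), (T3.mk' 1 2 4), (T3.mk' 3 4 5), (T3.mk' 2 3 5), (T3.mk' 2 3 4)] : List T3) := by decide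

variable {K : Type*} [Field K] [Fintype K] [DecidableEq K] (q : ℕ) (hq : IsPrimePow q)
  (hK : Fintype.card K = q ^ 2)

include hq hK in
theorem param_of
    (hhard : ∀ l : T3 → K, l ∈ Cell (T3.mk' 2 4 5) → l (T3.mk' 2 4 5) ^ q = l (T3.mk' 2 4 5) →
      (∀ N : T3, (N.1 ∩ (T3.mk' 2 4 5).1).card = 2 →
        l (tauI N) = ((epsI N : ℤ) : K) * l N ^ q) → InLam q l) :
    Param (K := K) q (etas (T3.mk' 2 4 5)) (T3.mk' 2 4 5) := by
  have hneg := Cfsg.Agent.Lib.Helper6.E6M2Frob.neg_pow_q q hq hK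
  intro l
  constructor
  · rintro ⟨⟨a, A, ha0, rfl⟩, hl'⟩
    have haq : a ^ q = a := by
      have h := hl' (T3.mk' 2 4 5)
      rw [tauI0, epsI0] at h
      simp only [Pi.smul_apply, smul_eq_mul,
        Cfsg.Agent.Lib.Helper2.E6MCell.cell_coord (T3.mk' 2 4 5) A, mul_one, Int.cast_one, one_mul] at h
      exact h.symm
    have pq : ∀ x : K, (a * x) ^ q = a * x ^ q := fun x => by rw [mul_pow, haq]
    refine ⟨a, A, haq, ha0, ?_, rfl⟩
    intro j k
    fin_cases j <;> fin_cases k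
    · -- (0,0)
      have h := hl' (T3.mk' 0 4 5)
      rw [tauN00, epsN00] at h
      simp only [Pi.smul_apply, smul_eq_mul, cN00, cN22, pq, hneg] at h
      show A 2 2 = ((etas (T3.mk' 2 4 5) 0 0 : ℤ) : K) * A 0 0 ^ q
      rw [eta00]
      apply mul_left_cancel₀ ha0
      push_cast at h ⊢
      linear_combination (-1 : K) * h
    · -- (0,1)
      have h := hl' (T3.mk' 0 2 5)
      rw [tauN01, epsN01] at h
      simp only [Pi.smul_apply, smul_eq_mul, cN01, cN12, pq, hneg] at h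
      show A 1 2 = ((etas (T3.mk' 2 4 5) 0 1 : ℤ) : K) * A 0 1 ^ q
      rw [eta01]
      apply mul_left_cancel₀ ha0
      push_cast at h ⊢
      linear_combination (1 : K) * h
    · -- (0,2)
      have h := hl' (T3.mk' 0 2 4)
      rw [tauN02, epsN02] at h
      simp only [Pi.smul_apply, smul_eq_mul, cN02, cN02, pq, hneg] at h
      show A 0 2 = ((etas (T3.mk' 2 4 5) 0 2 : ℤ) : K) * A 0 2 ^ q
      rw [eta02]
      apply mul_left_cancel₀ ha0
      push_cast at h ⊢
      linear_combination (1 : K) * h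
    · -- (1,0)
      have h := hl' (T3.mk' 1 4 5)
      rw [tauN10, epsN10] at h
      simp only [Pi.smul_apply, smul_eq_mul, cN10, cN21, pq, hneg] at h
      show A 2 1 = ((etas (T3.mk' 2 4 5) 1 0 : ℤ) : K) * A 1 0 ^ q
      rw [eta10]
      apply mul_left_cancel₀ ha0
      push_cast at h ⊢
      linear_combination (1 : K) * h
    · -- (1,1)
      have h := hl' (T3.mk' 1 2 5)
      rw [tauN11, epsN11] at h
      simp only [Pi.smul_apply, smul_eq_mul, cN11, cN11, pq, hneg] at h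
      show A 1 1 = ((etas (T3.mk' 2 4 5) 1 1 : ℤ) : K) * A 1 1 ^ q
      rw [eta11]
      apply mul_left_cancel₀ ha0
      push_cast at h ⊢
      linear_combination (-1 : K) * h
    · -- (1,2)
      have h := hl' (T3.mk' 1 2 4)
      rw [tauN12, epsN12] at h
      simp only [Pi.smul_apply, smul_eq_mul, cN12, cN01, pq, hneg] at h
      show A 0 1 = ((etas (T3.mk' 2 4 5) 1 2 : ℤ) : K) * A 1 2 ^ q
      rw [eta12]
      apply mul_left_cancel₀ ha0
      push_cast at h ⊢
      linear_combination (-1 : K) * h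
    · -- (2,0)
      have h := hl' (T3.mk' 3 4 5)
      rw [tauN20, epsN20] at h
      simp only [Pi.smul_apply, smul_eq_mul, cN20, cN20, pq, hneg] at h
      show A 2 0 = ((etas (T3.mk' 2 4 5) 2 0 : ℤ) : K) * A 2 0 ^ q
      rw [eta20]
      apply mul_left_cancel₀ ha0
      push_cast at h ⊢
      linear_combination (1 : K) * h
    · -- (2,1)
      have h := hl' (T3.mk' 2 3 5)
      rw [tauN21, epsN21] at h
      simp only [Pi.smul_apply, smul_eq_mul, cN21, cN10, pq, hneg] at h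
      show A 1 0 = ((etas (T3.mk' 2 4 5) 2 1 : ℤ) : K) * A 2 1 ^ q
      rw [eta21]
      apply mul_left_cancel₀ ha0
      push_cast at h ⊢
      linear_combination (1 : K) * h
    · -- (2,2)
      have h := hl' (T3.mk' 2 3 4)
      rw [tauN22, epsN22] at h
      simp only [Pi.smul_apply, smul_eq_mul, cN22, cN00, pq, hneg] at h
      show A 0 0 = ((etas (T3.mk' 2 4 5) 2 2 : ℤ) : K) * A 2 2 ^ q
      rw [eta22]
      apply mul_left_cancel₀ ha0
      push_cast at h ⊢
      linear_combination (1 : K) * h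
  · rintro ⟨a, A, haq, ha0, hA, rfl⟩
    have pq : ∀ x : K, (a * x) ^ q = a * x ^ q := fun x => by rw [mul_pow, haq]
    have hcell : a • pl (cellMat (T3.mk' 2 4 5) A) ∈ Cell (T3.mk' 2 4 5) := ⟨a, A, ha0, rfl⟩
    refine ⟨hcell, hhard _ hcell ?_ ?_⟩
    · simp only [Pi.smul_apply, smul_eq_mul,
        Cfsg.Agent.Lib.Helper2.E6MCell.cell_coord (T3.mk' 2 4 5) A, mul_one]
      exact haq
    · intro N hN
      have hcases := nb_cases N hN
      simp only [List.mem_cons, List.not_mem_nil, or_false] at hcases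
      rcases hcases with rfl | rfl | rfl | rfl | rfl | rfl | rfl | rfl | rfl
      · -- N = (0, 4, 5)
        have hh : A 2 2 = ((etas (T3.mk' 2 4 5) 0 0 : ℤ) : K) * A 0 0 ^ q := hA 0 0
        rw [eta00] at hh
        rw [tauN00, epsN00]
        simp only [Pi.smul_apply, smul_eq_mul, cN00, cN22, pq, hneg]
        conv_lhs => rw [hh]
        push_cast
        ring
      · -- N = (0, 2, 5)
        have hh : A 1 2 = ((etas (T3.mk' 2 4 5) 0 1 : ℤ) : K) * A 0 1 ^ q := hA 0 1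
        rw [eta01] at hh
        rw [tauN01, epsN01]
        simp only [Pi.smul_apply, smul_eq_mul, cN01, cN12, pq, hneg]
        conv_lhs => rw [hh]
        push_cast
        ring
      · -- N = (0, 2, 4)
        have hh : A 0 2 = ((etas (T3.mk' 2 4 5) 0 2 : ℤ) : K) * A 0 2 ^ q := hA 0 2
        rw [eta02] at hh
        rw [tauN02, epsN02]
        simp only [Pi.smul_apply, smul_eq_mul, cN02, cN02, pq, hneg]
        conv_lhs => rw [hh]
        push_cast
        ring
      · -- N = (1, 4, 5)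
        have hh : A 2 1 = ((etas (T3.mk' 2 4 5) 1 0 : ℤ) : K) * A 1 0 ^ q := hA 1 0
        rw [eta10] at hh
        rw [tauN10, epsN10]
        simp only [Pi.smul_apply, smul_eq_mul, cN10, cN21, pq, hneg]
        conv_lhs => rw [hh]
        push_cast
        ring
      · -- N = (1, 2, 5)
        have hh : A 1 1 = ((etas (T3.mk' 2 4 5) 1 1 : ℤ) : K) * A 1 1 ^ q := hA 1 1
        rw [eta11] at hh
        rw [tauN11, epsN11]
        simp only [Pi.smul_apply, smul_eq_mul, cN11, cN11, pq, hneg]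
        conv_lhs => rw [hh]
        push_cast
        ring
      · -- N = (1, 2, 4)
        have hh : A 0 1 = ((etas (T3.mk' 2 4 5) 1 2 : ℤ) : K) * A 1 2 ^ q := hA 1 2
        rw [eta12] at hh
        rw [tauN12, epsN12]
        simp only [Pi.smul_apply, smul_eq_mul, cN12, cN01, pq, hneg]
        conv_lhs => rw [hh]
        push_cast
        ring
      · -- N = (3, 4, 5)
        have hh : A 2 0 = ((etas (T3.mk' 2 4 5) 2 0 : ℤ) : K) * A 2 0 ^ q := hA 2 0
        rw [eta20] at hh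
        rw [tauN20, epsN20]
        simp only [Pi.smul_apply, smul_eq_mul, cN20, cN20, pq, hneg]
        conv_lhs => rw [hh]
        push_cast
        ring
      · -- N = (2, 3, 5)
        have hh : A 1 0 = ((etas (T3.mk' 2 4 5) 2 1 : ℤ) : K) * A 2 1 ^ q := hA 2 1
        rw [eta21] at hh
        rw [tauN21, epsN21]
        simp only [Pi.smul_apply, smul_eq_mul, cN21, cN10, pq, hneg]
        conv_lhs => rw [hh]
        push_cast
        ring
      · -- N = (2, 3, 4)
        have hh : A 0 0 = ((etas (T3.mk' 2 4 5) 2 2 : ℤ) : K) * A 2 2 ^ q := hA 2 2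
        rw [eta22] at hh
        rw [tauN22, epsN22]
        simp only [Pi.smul_apply, smul_eq_mul, cN22, cN00, pq, hneg]
        conv_lhs => rw [hh]
        push_cast
        ring

end P245

namespace P345

section tables

variable {K : Type*} [Field K]

theorem dN00 : desc (T3.mk' 3 4 5) (T3.mk' 0 4 5) = ![(false, 0), (true, 1), (true, 2)] := by decide
theorem cN00 (A : Matrix (Fin 3) (Fin 3) K) : pl (cellMat (T3.mk' 3 4 5) A) (T3.mk' 0 4 5) = A 0 0 := by
  rw [pl_cellMat, dN00]; simp [det3', rowD]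
theorem dN01 : desc (T3.mk' 3 4 5) (T3.mk' 0 3 5) = ![(false, 0), (true, 0), (true, 2)] := by decide
theorem cN01 (A : Matrix (Fin 3) (Fin 3) K) : pl (cellMat (T3.mk' 3 4 5) A) (T3.mk' 0 3 5) = -A 0 1 := by
  rw [pl_cellMat, dN01]; simp [det3', rowD]
theorem dN02 : desc (T3.mk' 3 4 5) (T3.mk' 0 3 4) = ![(false, 0), (true, 0), (true, 1)] := by decide
theorem cN02 (A : Matrix (Fin 3) (Fin 3) K) : pl (cellMat (T3.mk' 3 4 5) A) (T3.mk' 0 3 4) = A 0 2 := by
  rw [pl_cellMat, dN02]; simp [det3', rowD]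
theorem dN10 : desc (T3.mk' 3 4 5) (T3.mk' 1 4 5) = ![(false, 1), (true, 1), (true, 2)] := by decide
theorem cN10 (A : Matrix (Fin 3) (Fin 3) K) : pl (cellMat (T3.mk' 3 4 5) A) (T3.mk' 1 4 5) = A 1 0 := by
  rw [pl_cellMat, dN10]; simp [det3', rowD]
theorem dN11 : desc (T3.mk' 3 4 5) (T3.mk' 1 3 5) = ![(false, 1), (true, 0), (true, 2)] := by decide
theorem cN11 (A : Matrix (Fin 3) (Fin 3) K) : pl (cellMat (T3.mk' 3 4 5) A) (T3.mk' 1 3 5) = -A 1 1 := by
  rw [pl_cellMat, dN11]; simp [det3', rowD]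
theorem dN12 : desc (T3.mk' 3 4 5) (T3.mk' 1 3 4) = ![(false, 1), (true, 0), (true, 1)] := by decide
theorem cN12 (A : Matrix (Fin 3) (Fin 3) K) : pl (cellMat (T3.mk' 3 4 5) A) (T3.mk' 1 3 4) = A 1 2 := by
  rw [pl_cellMat, dN12]; simp [det3', rowD]
theorem dN20 : desc (T3.mk' 3 4 5) (T3.mk' 2 4 5) = ![(false, 2), (true, 1), (true, 2)] := by decide
theorem cN20 (A : Matrix (Fin 3) (Fin 3) K) : pl (cellMat (T3.mk' 3 4 5) A) (T3.mk' 2 4 5) = A 2 0 := by
  rw [pl_cellMat, dN20]; simp [det3', rowD]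
theorem dN21 : desc (T3.mk' 3 4 5) (T3.mk' 2 3 5) = ![(false, 2), (true, 0), (true, 2)] := by decide
theorem cN21 (A : Matrix (Fin 3) (Fin 3) K) : pl (cellMat (T3.mk' 3 4 5) A) (T3.mk' 2 3 5) = -A 2 1 := by
  rw [pl_cellMat, dN21]; simp [det3', rowD]
theorem dN22 : desc (T3.mk' 3 4 5) (T3.mk' 2 3 4) = ![(false, 2), (true, 0), (true, 1)] := by decide
theorem cN22 (A : Matrix (Fin 3) (Fin 3) K) : pl (cellMat (T3.mk' 3 4 5) A) (T3.mk' 2 3 4) = A 2 2 := by
  rw [pl_cellMat, dN22]; simp [det3', rowD]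

end tables

theorem tauN00 : tauI (T3.mk' 0 4 5) = (T3.mk' 2 3 4) := by decide
theorem tauN01 : tauI (T3.mk' 0 3 5) = (T3.mk' 1 3 4) := by decide
theorem tauN02 : tauI (T3.mk' 0 3 4) = (T3.mk' 0 3 4) := by decide
theorem tauN10 : tauI (T3.mk' 1 4 5) = (T3.mk' 2 3 5) := by decide
theorem tauN11 : tauI (T3.mk' 1 3 5) = (T3.mk' 1 3 5) := by decide
theorem tauN12 : tauI (T3.mk' 1 3 4) = (T3.mk' 0 3 5) := by decide
theorem tauN20 : tauI (T3.mk' 2 4 5) = (T3.mk' 2 4 5) := by decide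
theorem tauN21 : tauI (T3.mk' 2 3 5) = (T3.mk' 1 4 5) := by decide
theorem tauN22 : tauI (T3.mk' 2 3 4) = (T3.mk' 0 4 5) := by decide
theorem epsN00 : epsI (T3.mk' 0 4 5) = -1 := by decide
theorem epsN01 : epsI (T3.mk' 0 3 5) = -1 := by decide
theorem epsN02 : epsI (T3.mk' 0 3 4) = 1 := by decide
theorem epsN10 : epsI (T3.mk' 1 4 5) = 1 := by decide
theorem epsN11 : epsI (T3.mk' 1 3 5) = 1 := by decide
theorem epsN12 : epsI (T3.mk' 1 3 4) = -1 := by decide
theorem epsN20 : epsI (T3.mk' 2 4 5) = 1 := by decide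
theorem epsN21 : epsI (T3.mk' 2 3 5) = 1 := by decide
theorem epsN22 : epsI (T3.mk' 2 3 4) = -1 := by decide
theorem eta00 : etas (T3.mk' 3 4 5) 0 0 = -1 := by decide
theorem eta01 : etas (T3.mk' 3 4 5) 0 1 = 1 := by decide
theorem eta02 : etas (T3.mk' 3 4 5) 0 2 = 1 := by decide
theorem eta10 : etas (T3.mk' 3 4 5) 1 0 = -1 := by decide
theorem eta11 : etas (T3.mk' 3 4 5) 1 1 = 1 := by decide
theorem eta12 : etas (T3.mk' 3 4 5) 1 2 = 1 := by decide
theorem eta20 : etas (T3.mk' 3 4 5) 2 0 = 1 := by decide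
theorem eta21 : etas (T3.mk' 3 4 5) 2 1 = -1 := by decide
theorem eta22 : etas (T3.mk' 3 4 5) 2 2 = -1 := by decide

theorem tauI0 : tauI (T3.mk' 3 4 5) = (T3.mk' 3 4 5) := by decide
theorem epsI0 : epsI (T3.mk' 3 4 5) = 1 := by decide

theorem nb_cases : ∀ N : T3, (N.1 ∩ (T3.mk' 3 4 5).1).card = 2 →
    N ∈ ([(T3.mk' 0 4 5), (T3.mk' 0 3 5), (T3.mk' 0 3 4), (T3.mk' 1 4 5), (T3.mk' 1 3 5), (T3.mk' 1 3 4), (T3.mk' 2 4 5), (T3.mk' 2 3 5), (T3.mk' 2 3 4)] : List T3) := by decide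

variable {K : Type*} [Field K] [Fintype K] [DecidableEq K] (q : ℕ) (hq : IsPrimePow q)
  (hK : Fintype.card K = q ^ 2)

include hq hK in
theorem param_of
    (hhard : ∀ l : T3 → K, l ∈ Cell (T3.mk' 3 4 5) → l (T3.mk' 3 4 5) ^ q = l (T3.mk' 3 4 5) →
      (∀ N : T3, (N.1 ∩ (T3.mk' 3 4 5).1).card = 2 →
        l (tauI N) = ((epsI N : ℤ) : K) * l N ^ q) → InLam q l) :
    Param (K := K) q (etas (T3.mk' 3 4 5)) (T3.mk' 3 4 5) := by
  have hneg := Cfsg.Agent.Lib.Helper6.E6M2Frob.neg_pow_q q hq hK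
  intro l
  constructor
  · rintro ⟨⟨a, A, ha0, rfl⟩, hl'⟩
    have haq : a ^ q = a := by
      have h := hl' (T3.mk' 3 4 5)
      rw [tauI0, epsI0] at h
      simp only [Pi.smul_apply, smul_eq_mul,
        Cfsg.Agent.Lib.Helper2.E6MCell.cell_coord (T3.mk' 3 4 5) A, mul_one, Int.cast_one, one_mul] at h
      exact h.symm
    have pq : ∀ x : K, (a * x) ^ q = a * x ^ q := fun x => by rw [mul_pow, haq]
    refine ⟨a, A, haq, ha0, ?_, rfl⟩
    intro j k
    fin_cases j <;> fin_cases k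
    · -- (0,0)
      have h := hl' (T3.mk' 0 4 5)
      rw [tauN00, epsN00] at h
      simp only [Pi.smul_apply, smul_eq_mul, cN00, cN22, pq, hneg] at h
      show A 2 2 = ((etas (T3.mk' 3 4 5) 0 0 : ℤ) : K) * A 0 0 ^ q
      rw [eta00]
      apply mul_left_cancel₀ ha0
      push_cast at h ⊢
      linear_combination (1 : K) * h
    · -- (0,1)
      have h := hl' (T3.mk' 0 3 5)
      rw [tauN01, epsN01] at h
      simp only [Pi.smul_apply, smul_eq_mul, cN01, cN12, pq, hneg] at h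
      show A 1 2 = ((etas (T3.mk' 3 4 5) 0 1 : ℤ) : K) * A 0 1 ^ q
      rw [eta01]
      apply mul_left_cancel₀ ha0
      push_cast at h ⊢
      linear_combination (1 : K) * h
    · -- (0,2)
      have h := hl' (T3.mk' 0 3 4)
      rw [tauN02, epsN02] at h
      simp only [Pi.smul_apply, smul_eq_mul, cN02, cN02, pq, hneg] at h
      show A 0 2 = ((etas (T3.mk' 3 4 5) 0 2 : ℤ) : K) * A 0 2 ^ q
      rw [eta02]
      apply mul_left_cancel₀ ha0
      push_cast at h ⊢
      linear_combination (1 : K) * h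
    · -- (1,0)
      have h := hl' (T3.mk' 1 4 5)
      rw [tauN10, epsN10] at h
      simp only [Pi.smul_apply, smul_eq_mul, cN10, cN21, pq, hneg] at h
      show A 2 1 = ((etas (T3.mk' 3 4 5) 1 0 : ℤ) : K) * A 1 0 ^ q
      rw [eta10]
      apply mul_left_cancel₀ ha0
      push_cast at h ⊢
      linear_combination (-1 : K) * h
    · -- (1,1)
      have h := hl' (T3.mk' 1 3 5)
      rw [tauN11, epsN11] at h
      simp only [Pi.smul_apply, smul_eq_mul, cN11, cN11, pq, hneg] at h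
      show A 1 1 = ((etas (T3.mk' 3 4 5) 1 1 : ℤ) : K) * A 1 1 ^ q
      rw [eta11]
      apply mul_left_cancel₀ ha0
      push_cast at h ⊢
      linear_combination (-1 : K) * h
    · -- (1,2)
      have h := hl' (T3.mk' 1 3 4)
      rw [tauN12, epsN12] at h
      simp only [Pi.smul_apply, smul_eq_mul, cN12, cN01, pq, hneg] at h
      show A 0 1 = ((etas (T3.mk' 3 4 5) 1 2 : ℤ) : K) * A 1 2 ^ q
      rw [eta12]
      apply mul_left_cancel₀ ha0
      push_cast at h ⊢
      linear_combination (-1 : K) * h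
    · -- (2,0)
      have h := hl' (T3.mk' 2 4 5)
      rw [tauN20, epsN20] at h
      simp only [Pi.smul_apply, smul_eq_mul, cN20, cN20, pq, hneg] at h
      show A 2 0 = ((etas (T3.mk' 3 4 5) 2 0 : ℤ) : K) * A 2 0 ^ q
      rw [eta20]
      apply mul_left_cancel₀ ha0
      push_cast at h ⊢
      linear_combination (1 : K) * h
    · -- (2,1)
      have h := hl' (T3.mk' 2 3 5)
      rw [tauN21, epsN21] at h
      simp only [Pi.smul_apply, smul_eq_mul, cN21, cN10, pq, hneg] at h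
      show A 1 0 = ((etas (T3.mk' 3 4 5) 2 1 : ℤ) : K) * A 2 1 ^ q
      rw [eta21]
      apply mul_left_cancel₀ ha0
      push_cast at h ⊢
      linear_combination (1 : K) * h
    · -- (2,2)
      have h := hl' (T3.mk' 2 3 4)
      rw [tauN22, epsN22] at h
      simp only [Pi.smul_apply, smul_eq_mul, cN22, cN00, pq, hneg] at h
      show A 0 0 = ((etas (T3.mk' 3 4 5) 2 2 : ℤ) : K) * A 2 2 ^ q
      rw [eta22]
      apply mul_left_cancel₀ ha0
      push_cast at h ⊢
      linear_combination (1 : K) * h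
  · rintro ⟨a, A, haq, ha0, hA, rfl⟩
    have pq : ∀ x : K, (a * x) ^ q = a * x ^ q := fun x => by rw [mul_pow, haq]
    have hcell : a • pl (cellMat (T3.mk' 3 4 5) A) ∈ Cell (T3.mk' 3 4 5) := ⟨a, A, ha0, rfl⟩
    refine ⟨hcell, hhard _ hcell ?_ ?_⟩
    · simp only [Pi.smul_apply, smul_eq_mul,
        Cfsg.Agent.Lib.Helper2.E6MCell.cell_coord (T3.mk' 3 4 5) A, mul_one]
      exact haq
    · intro N hN
      have hcases := nb_cases N hN
      simp only [List.mem_cons, List.not_mem_nil, or_false] at hcases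
      rcases hcases with rfl | rfl | rfl | rfl | rfl | rfl | rfl | rfl | rfl
      · -- N = (0, 4, 5)
        have hh : A 2 2 = ((etas (T3.mk' 3 4 5) 0 0 : ℤ) : K) * A 0 0 ^ q := hA 0 0
        rw [eta00] at hh
        rw [tauN00, epsN00]
        simp only [Pi.smul_apply, smul_eq_mul, cN00, cN22, pq, hneg]
        conv_lhs => rw [hh]
        push_cast
        ring
      · -- N = (0, 3, 5)
        have hh : A 1 2 = ((etas (T3.mk' 3 4 5) 0 1 : ℤ) : K) * A 0 1 ^ q := hA 0 1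
        rw [eta01] at hh
        rw [tauN01, epsN01]
        simp only [Pi.smul_apply, smul_eq_mul, cN01, cN12, pq, hneg]
        conv_lhs => rw [hh]
        push_cast
        ring
      · -- N = (0, 3, 4)
        have hh : A 0 2 = ((etas (T3.mk' 3 4 5) 0 2 : ℤ) : K) * A 0 2 ^ q := hA 0 2
        rw [eta02] at hh
        rw [tauN02, epsN02]
        simp only [Pi.smul_apply, smul_eq_mul, cN02, cN02, pq, hneg]
        conv_lhs => rw [hh]
        push_cast
        ring
      · -- N = (1, 4, 5)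
        have hh : A 2 1 = ((etas (T3.mk' 3 4 5) 1 0 : ℤ) : K) * A 1 0 ^ q := hA 1 0
        rw [eta10] at hh
        rw [tauN10, epsN10]
        simp only [Pi.smul_apply, smul_eq_mul, cN10, cN21, pq, hneg]
        conv_lhs => rw [hh]
        push_cast
        ring
      · -- N = (1, 3, 5)
        have hh : A 1 1 = ((etas (T3.mk' 3 4 5) 1 1 : ℤ) : K) * A 1 1 ^ q := hA 1 1
        rw [eta11] at hh
        rw [tauN11, epsN11]
        simp only [Pi.smul_apply, smul_eq_mul, cN11, cN11, pq, hneg]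
        conv_lhs => rw [hh]
        push_cast
        ring
      · -- N = (1, 3, 4)
        have hh : A 0 1 = ((etas (T3.mk' 3 4 5) 1 2 : ℤ) : K) * A 1 2 ^ q := hA 1 2
        rw [eta12] at hh
        rw [tauN12, epsN12]
        simp only [Pi.smul_apply, smul_eq_mul, cN12, cN01, pq, hneg]
        conv_lhs => rw [hh]
        push_cast
        ring
      · -- N = (2, 4, 5)
        have hh : A 2 0 = ((etas (T3.mk' 3 4 5) 2 0 : ℤ) : K) * A 2 0 ^ q := hA 2 0
        rw [eta20] at hh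
        rw [tauN20, epsN20]
        simp only [Pi.smul_apply, smul_eq_mul, cN20, cN20, pq, hneg]
        conv_lhs => rw [hh]
        push_cast
        ring
      · -- N = (2, 3, 5)
        have hh : A 1 0 = ((etas (T3.mk' 3 4 5) 2 1 : ℤ) : K) * A 2 1 ^ q := hA 2 1
        rw [eta21] at hh
        rw [tauN21, epsN21]
        simp only [Pi.smul_apply, smul_eq_mul, cN21, cN10, pq, hneg]
        conv_lhs => rw [hh]
        push_cast
        ring
      · -- N = (2, 3, 4)
        have hh : A 0 0 = ((etas (T3.mk' 3 4 5) 2 2 : ℤ) : K) * A 2 2 ^ q := hA 2 2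
        rw [eta22] at hh
        rw [tauN22, epsN22]
        simp only [Pi.smul_apply, smul_eq_mul, cN22, cN00, pq, hneg]
        conv_lhs => rw [hh]
        push_cast
        ring

end P345

variable {K : Type*} [Field K] [Fintype K] [DecidableEq K] (q : ℕ) (hq : IsPrimePow q)
  (hK : Fintype.card K = q ^ 2)

include hq hK in
/-- the parametrisation for all long `I`, with the hard direction as a hypothesis -/
theorem param_all
    (hhard : ∀ I : T3, IsLong I → ∀ l : T3 → K, l ∈ Cell I → l I ^ q = l I →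
      (∀ N : T3, (N.1 ∩ I.1).card = 2 → l (tauI N) = ((epsI N : ℤ) : K) * l N ^ q) →
        InLam q l) :
    ∀ I : T3, IsLong I → Param (K := K) q (etas I) I := by
  intro I hI
  have hcases := long_cases I hI
  simp only [List.mem_cons, List.not_mem_nil, or_false] at hcases
  rcases hcases with rfl | rfl | rfl | rfl | rfl | rfl | rfl | rfl
  · exact P012.param_of q hq hK (hhard _ (by decide))
  · exact P013.param_of q hq hK (hhard _ (by decide))
  · exact P024.param_of q hq hK (hhard _ (by decide))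
  · exact P034.param_of q hq hK (hhard _ (by decide))
  · exact P125.param_of q hq hK (hhard _ (by decide))
  · exact P135.param_of q hq hK (hhard _ (by decide))
  · exact P245.param_of q hq hK (hhard _ (by decide))
  · exact P345.param_of q hq hK (hhard _ (by decide))

end Cfsg.Agent.Lib.Helper3.E6M2Param8
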