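import Mathlib
import Cfsg.Agent.Lib.Helper5.E6MConcC
import Cfsg.Agent.Lib.Helper5.ChevTwistDef
import Cfsg.Agent.Lib.Helper5.ChevChk.GraphData
import Cfsg.Agent.Lib.Helper3.E6M2DefsC

set_option autoImplicit false
set_option Elab.async false

/-!
Farm E6M2 (S2341), concrete side: the automorphism `σ` of `GL` (graph datum `gE6`, field
endomorphism `f`) on the elements `zGL`, `xIGL`, `xijGL` of the concrete unit CONC of E6M.
-/

namespace Cfsg.Agent.Lib.Helper3.E6M2SIG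

open Cfsg Cfsg.Lie Cfsg.Agent.Lib.Helper5.ChevSym Cfsg.Agent.Lib.Helper5.ChevStruct
  Cfsg.Agent.Lib.Helper5.E6M Cfsg.Agent.Lib.Helper3.E6M2C

theorem tab_sig_z : gE6.pr.getD 71 0 = 71 ∧ gE6.eps.getD 71 1 = 1 := by decide

set_option maxRecDepth 1000000 in
theorem tab_sig_g : ∀ I : T3, gE6.pr.getD (gIdx I) 0 = gIdx (tauI I) ∧
    gE6.eps.getD (gIdx I) 1 = epsI I := by
  decide +kernel

set_option maxRecDepth 1000000 in
theorem tab_sig_d : ∀ p : IJ, gE6.pr.getD (dIdx p) 0 = dIdx (revp p) ∧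
    gE6.eps.getD (dIdx p) 1 * tau p = -(mS p.1.1 * mS p.1.2) * tau (revp p) ∧
    (tau p = 1 ∨ tau p = -1) := by
  decide +kernel


variable {K : Type*} [Field K] (f : K →+* K)

/-- the automorphism `σ` of `GL` -/
noncomputable abbrev sg : GL chevE6.Idx K →* GL chevE6.Idx K :=
  sigma chevE6 gE6 chkGraphPerm_gE6 f

theorem sg_xx (r : ℕ) (hr : r < 72) (t : K) :
    sg f (xGL chevE6 hE6' r t) =
      xGL chevE6 hE6' (gE6.pr.getD r 0) (((gE6.eps.getD r 1 : ℤ) : K) * f t) :=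
  sigma_xGL chevE6 hE6' gE6 chkGraphPerm_gE6 (fun r hr => chkGraph_gE6 r hr) f r hr t

/-- `σ (z r) = z (f r)` -/
theorem sg_zGL (r : K) : sg f (zGL r) = zGL (f r) := by
  unfold zGL
  rw [sg_xx f 71 (by decide), tab_sig_z.1, tab_sig_z.2, map_neg]
  congr 1
  push_cast
  ring

/-- `σ (x_I(a)) = x_{τ I}(ε_I f(a))` -/
theorem sg_xIGL (I : T3) (a : K) :
    sg f (xIGL I a) = xIGL (tauI I) (((epsI I : ℤ) : K) * f a) := by
  unfold xIGL
  rw [sg_xx f (gIdx I) (tab_g_lt I), (tab_sig_g I).1, (tab_sig_g I).2]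

/-- `σ (x_{ij}(t)) = x_{5-j,5-i}(-(m_i m_j) f(t))` -/
theorem sg_xijGL (p : IJ) (t : K) :
    sg f (xijGL p t) = xijGL (revp p) (((-(mS p.1.1 * mS p.1.2) : ℤ) : K) * f t) := by
  obtain ⟨h1, h2, h3⟩ := tab_sig_d p
  unfold xijGL
  rw [sg_xx f (dIdx p) (tab_d_lt p), h1, map_mul, map_intCast]
  congr 1
  have h2' : ((gE6.eps.getD (dIdx p) 1 : ℤ) : K) * ((tau p : ℤ) : K)
      = ((-(mS p.1.1 * mS p.1.2) : ℤ) : K) * ((tau (revp p) : ℤ) : K) := by
    rw [← Int.cast_mul, ← Int.cast_mul, h2]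
  linear_combination (f t) * h2'


/-! ### the image of `RJ q` is fixed by `σ` -/

theorem mS_rev : ∀ i : Fin 6, mS (Fin.rev i) = -mS i := by decide

theorem mS_sq : ∀ i : Fin 6, mS i * mS i = 1 := by decide

theorem rev_ne : ∀ i : Fin 6, Fin.rev i ≠ i := by decide

theorem revp_revp (p : IJ) : revp (revp p) = p := by
  apply Subtype.ext
  show (Fin.rev (Fin.rev p.1.1), Fin.rev (Fin.rev p.1.2)) = p.1
  rw [Fin.rev_rev, Fin.rev_rev]

theorem revp_lpos (i : Fin 6) : revp (lpos i) = lpos i := by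
  apply Subtype.ext
  show (Fin.rev (Fin.rev i), Fin.rev i) = (i, Fin.rev i)
  rw [Fin.rev_rev]

theorem sign_revp (p : IJ) :
    -(mS (revp p).1.1 * mS (revp p).1.2) = -(mS p.1.1 * mS p.1.2) := by
  show -(mS (Fin.rev p.1.2) * mS (Fin.rev p.1.1)) = _
  rw [mS_rev, mS_rev]
  ring

theorem sign_sq (p : IJ) : (-(mS p.1.1 * mS p.1.2)) * (-(mS p.1.1 * mS p.1.2)) = 1 := by
  have h1 := mS_sq p.1.1
  have h2 := mS_sq p.1.2
  linear_combination (mS p.1.2 * mS p.1.2) * h1 + h2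

theorem sign_lpos (i : Fin 6) : -(mS (lpos i).1.1 * mS (lpos i).1.2) = 1 := by
  show -(mS i * mS (Fin.rev i)) = 1
  rw [mS_rev]
  linear_combination mS_sq i

variable {f} {q : ℕ}

theorem sg_phi_xs (hf : ∀ x, f x = x ^ q) (hf2 : ∀ x, f (f x) = x)
    (φ : SL6 K →* GL chevE6.Idx K) (hφ : ∀ (p : IJ) (t : K), φ (tv p t) = xijGL p t)
    (p : IJ) (t : K) : sg f (φ (xs q p t)) = φ (xs q p t) := by
  unfold xs
  rw [map_mul, hφ, hφ, map_mul, sg_xijGL, sg_xijGL, revp_revp, sign_revp]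
  have e1 : ((-(mS p.1.1 * mS p.1.2) : ℤ) : K) * f (((-(mS p.1.1 * mS p.1.2) : ℤ) : K) * t ^ q)
      = t := by
    rw [map_mul, map_intCast, ← hf, hf2, ← mul_assoc, ← Int.cast_mul, sign_sq, Int.cast_one,
      one_mul]
  rw [e1, hf t]
  exact xijGL_comm (revp p) p _ _ (rev_ne p.1.2) (rev_ne p.1.1)

theorem sg_phi_xl (hf : ∀ x, f x = x ^ q)
    (φ : SL6 K →* GL chevE6.Idx K) (hφ : ∀ (p : IJ) (t : K), φ (tv p t) = xijGL p t)
    (i : Fin 6) (t : K) (ht : t ^ q = t) : sg f (φ (xl i t)) = φ (xl i t) := by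
  unfold xl
  rw [hφ, sg_xijGL, revp_lpos, sign_lpos, Int.cast_one, one_mul, hf, ht]

/-- the image of `RJ q` consists of fixed points of `σ` -/
theorem sg_phi_RJ (hf : ∀ x, f x = x ^ q) (hf2 : ∀ x, f (f x) = x)
    (φ : SL6 K →* GL chevE6.Idx K) (hφ : ∀ (p : IJ) (t : K), φ (tv p t) = xijGL p t)
    (g : SL6 K) (hg : g ∈ RJ q) : sg f (φ g) = φ g := by
  have hle : RJ (K := K) q ≤ ((sg f).comp φ).eqLocus φ := by
    unfold RJ
    rw [Subgroup.closure_le]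
    rintro g (⟨p, t, rfl⟩ | ⟨i, t, ht, rfl⟩)
    · exact sg_phi_xs hf hf2 φ hφ p t
    · exact sg_phi_xl hf φ hφ i t ht
  exact hle hg

end Cfsg.Agent.Lib.Helper3.E6M2SIG
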