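import Mathlib
import Cfsg.Agent.Lib.Helper3.E6M2LONGPIV
import Cfsg.Agent.Lib.Helper6.E6MMHOM
import Cfsg.Agent.Lib.Helper6.E6MCELLS

set_option autoImplicit false
set_option linter.unusedVariables false

/-!
Farm E6M2 (S2341), unit SUPPFULL in `_of` form: the support of `c` outside `0` is the union of the
cells `Cell I ∩ Λ_τ`, `I` long (from SUPP2 `hc`, POINTA, TAUEQ and LONGPIV).
-/

namespace Cfsg.Agent.Lib.Helper3.E6M2SUPPFULL

open Matrix Cfsg.Agent.Lib.Helper5.E6M Cfsg.Agent.Lib.Helper3.E6M2C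

variable {K : Type*} [Field K]

/-- the cells are closed under non-zero scalars -/
theorem smul_mem_cell (I : T3) (l : T3 → K) (hl : l ∈ Cell I) (a : K) (ha : a ≠ 0) :
    a • l ∈ Cell I := by
  obtain ⟨c, A, hc, rfl⟩ := hl
  exact ⟨a * c, A, mul_ne_zero ha hc, by rw [smul_smul]⟩

/-- a multiple of a Plücker vector with non-zero `J`-coordinate lies in the cell of `J` -/
theorem smul_pl_mem_cell (C : Matrix (Fin 6) (Fin 3) K) (a : K) (J : T3)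
    (h : (a • pl C) J ≠ 0) : a • pl C ∈ Cell J := by
  have ha : a ≠ 0 := by
    rintro rfl
    simp at h
  have hJ : pl C J ≠ 0 := by
    intro h0
    apply h
    rw [Pi.smul_apply, h0, smul_zero]
  exact smul_mem_cell J _ (Cfsg.Agent.Lib.Helper6.E6MCELLS.mem_cell_of_pl C J hJ) a ha

variable [Fintype K] [DecidableEq K] (q : ℕ) (hq : IsPrimePow q) (hK : Fintype.card K = q ^ 2)

theorem Mm_inv_mulVec (g : SL6 K) (l : T3 → K) : Mm (g⁻¹).1 *ᵥ (Mm g.1 *ᵥ l) = l := by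
  rw [Matrix.mulVec_mulVec, ← Cfsg.Agent.Lib.Helper6.E6MMHOM.Mm_mul, inv_mul_cancel]
  show Mm (1 : Matrix (Fin 6) (Fin 6) K) *ᵥ l = l
  rw [Cfsg.Agent.Lib.Helper6.E6MMHOM.Mm_one, Matrix.one_mulVec]

variable (c : (T3 → K) → ℕ)
  (hinv : ∀ (g : SL6 K), g ∈ RJ q → ∀ l : T3 → K, InLam q l → c (Mm g.1 *ᵥ l) = c l)

include hq hK hinv in
/-- unit SUPPFULL with POINTA and TAUEQ as hypotheses -/
theorem supp_full_of
    (hpointA : ∀ l : T3 → K, InLam q l → l ≠ 0 →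
      ∃ g : SL6 K, g ∈ RJ q ∧ ∃ I : T3, IsLong I ∧ (Mm g.1 *ᵥ l) I ≠ 0)
    (hlam : ∀ (g : SL6 K), g ∈ RJ q → ∀ s : T3 → K, InLam q s → InLam q (Mm g.1 *ᵥ s))
    (hc : ∀ (I : T3), IsLong I → ∀ l : T3 → K, InLam q l → l I ≠ 0 →
      (l ∈ Cell I → c l = 1) ∧ (l ∉ Cell I → c l = 0)) :
    ∀ l : T3 → K, InLam q l → l ≠ 0 → c l = 0 ∨
      (c l = 1 ∧ ∃ I : T3, IsLong I ∧ l I ≠ 0 ∧ l ∈ Cell I) := by
  intro l hl h0
  obtain ⟨g, hg, I, hI, hgI⟩ := hpointA l hl h0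
  have hl' : InLam q (Mm g.1 *ᵥ l) := hlam g hg l hl
  have hcl : c (Mm g.1 *ᵥ l) = c l := hinv g hg l hl
  by_cases hcell : Mm g.1 *ᵥ l ∈ Cell I
  · right
    have h1 : c l = 1 := by rw [← hcl]; exact (hc I hI _ hl' hgI).1 hcell
    refine ⟨h1, ?_⟩
    -- `l` is a multiple of a Plücker vector
    obtain ⟨a, A, ha, hA⟩ := hcell
    have hlpl : l = a • pl ((g⁻¹).1 * cellMat I A) := by
      rw [Cfsg.Agent.Lib.Helper6.E6MMHOM.pl_mul, ← Matrix.mulVec_smul, ← hA, Mm_inv_mulVec]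
    -- some coordinate of `l` is non-zero
    obtain ⟨J, hJ⟩ : ∃ J : T3, l J ≠ 0 := by
      by_contra hcon
      push Not at hcon
      exact h0 (funext hcon)
    have hlJ : l ∈ Cell J := by
      rw [hlpl] at hJ ⊢
      exact smul_pl_mem_cell _ a J hJ
    by_cases hJl : IsLong J
    · exact ⟨J, hJl, hJ, hlJ⟩
    · obtain ⟨I', hI', hne, -⟩ :=
        Cfsg.Agent.Lib.Helper3.E6M2LONGPIV.longpiv q hq hK J hJl l hlJ hl
      refine ⟨I', hI', hne, ?_⟩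
      rw [hlpl] at hne ⊢
      exact smul_pl_mem_cell _ a I' hne
  · left
    rw [← hcl]
    exact (hc I hI _ hl' hgI).2 hcell

end Cfsg.Agent.Lib.Helper3.E6M2SUPPFULL
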