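import Mathlib
import Cfsg.Agent.Lib.Helper3.E6M2SUPPFULL
import Cfsg.Agent.Lib.Helper7.E6M2LAM
import Cfsg.Agent.Lib.Helper1.E6M2PointA

set_option autoImplicit false

/-!
Farm E6M2 (S2341), unit SUPPFULL, verbatim.
-/

namespace Cfsg.Agent.Lib.Helper3.E6M2SUPPFULLV

open Matrix Cfsg.Agent.Lib.Helper5.E6M Cfsg.Agent.Lib.Helper3.E6M2C

variable {K : Type*} [Field K] [Fintype K] [DecidableEq K] (q : ℕ) (hq : IsPrimePow q)
  (hK : Fintype.card K = q ^ 2)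

variable (c : (T3 → K) → ℕ)
  (hinv : ∀ (g : SL6 K), g ∈ RJ q → ∀ l : T3 → K, InLam q l → c (Mm g.1 *ᵥ l) = c l)

include hq hK hinv in
/-- unit SUPPFULL: `supp2` + `pointA` + `longpiv` + `cell_orbit2` -/
theorem supp_full
    (hc : ∀ (I : T3), IsLong I → ∀ l : T3 → K, InLam q l → l I ≠ 0 →
      (l ∈ Cell I → c l = 1) ∧ (l ∉ Cell I → c l = 0)) :
    ∀ l : T3 → K, InLam q l → l ≠ 0 → c l = 0 ∨
      (c l = 1 ∧ ∃ I : T3, IsLong I ∧ l I ≠ 0 ∧ l ∈ Cell I) :=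
  Cfsg.Agent.Lib.Helper3.E6M2SUPPFULL.supp_full_of q hq hK c hinv
    (fun l hl h0 => Cfsg.Agent.Lib.Helper1.E6M2PointA.pointA q hq hK l hl h0)
    (fun g hg s h => Cfsg.Agent.Lib.Helper7.E6M2C.inLam_RJ q hq hK g hg s h) hc

end Cfsg.Agent.Lib.Helper3.E6M2SUPPFULLV
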