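import Mathlib
import Cfsg.Agent.Lib.Helper3.E6M2DefsC

set_option autoImplicit false

/-!
Farm E6M2 (S2341), layer C2: STUBS (statements with `sorry`; nothing may import this file).
Protocol as in E6M: claim by tip `E6M2-CLAIM <unit>`; own file `Lib/<You>/E6M2<unit>.lean`, own
namespace, statement VERBATIM (check `example : @Yours.foo = @Cfsg.Agent.Lib.Helper3.E6M2StubsC.foo
:= rfl`); use other units as hypotheses (`_of` form) until they land; tip `E6M2-DONE <unit>`.

Everything here is about `K`-coordinates `T3 → K`, `|K| = q²`; reuse the E6M units over `K`: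
`Mm_mul`, `pl_mul`, `Mm_mulVec_single` (MHOM), `tv_coord`, `diag_coord`, `repl_repl` (SUPP),
`pl_cellMat` (E6MCell/E6MCoord), `mem_cell_of_pl`, `pl_mul_right` (CELLS), `cell_coord`,
STAB, BLOCKPERF.

Checked numerically for `q = 2, 3` (BFS over the root elements from `⟨e₀,e₁,e₂⟩`): the orbit has
`(q+1)(q³+1)(q⁵+1)` subspaces, each with exactly `q - 1` Plücker multiples in `Λ_τ`, all counts
below.
-/

namespace Cfsg.Agent.Lib.Helper3.E6M2StubsC

open Cfsg.Agent.Lib.Helper5.E6M Cfsg.Agent.Lib.Helper3.E6M2C Matrix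

variable {K : Type*} [Field K] [Fintype K] [DecidableEq K] (q : ℕ) (hq : IsPrimePow q)
  (hK : Fintype.card K = q ^ 2)

/-! ### unit LAM: the lattice `Λ_τ` is an `F_q`-subspace stable under `RJ`
(closure induction; for a generator use `tv_coord` twice and tables over `(p, J)`) -/

include hq in
theorem inLam_zero : InLam q (0 : T3 → K) := by sorry

include hq hK in
theorem inLam_add (s s' : T3 → K) (h : InLam q s) (h' : InLam q s') : InLam q (s + s') := by sorry

include hq hK in
theorem inLam_smul (c : K) (hc : c ^ q = c) (s : T3 → K) (h : InLam q s) : InLam q (c • s) := by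
  sorry

include hq in
theorem inLam_single (I : T3) (hI : IsLong I) (c : K) (hc : c ^ q = c) :
    InLam q (Pi.single I c) := by sorry

include hq hK in
/-- unit TAUEQ -/
theorem inLam_RJ (g : SL6 K) (hg : g ∈ RJ q) (s : T3 → K) (h : InLam q s) :
    InLam q (Mm g.1 *ᵥ s) := by sorry

/-! ### unit CELLCARD2 / CELLORBIT2: the cells `Cell I ∩ Λ_τ` for long `I`
(`= {c • pl (cellMat I A) | c ∈ F_q^×, A hermitian}`; the nine neighbour coordinates are `± c`
times the entries of `A`) -/

include hq hK in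
theorem cell_card2 (I : T3) (hI : IsLong I) :
    Nat.card {l : T3 → K // l ∈ Cell I ∧ InLam q l} = (q - 1) * q ^ 9 := by sorry

include hq hK in
/-- the elements of the cells are in the `RJ`-orbit of the `F_q`-multiples of `e_012` -/
theorem cell_orbit2 (I : T3) (hI : IsLong I) (l : T3 → K) (hl : l ∈ Cell I) (hl' : InLam q l) :
    ∃ (g : SL6 K) (c : K), g ∈ RJ q ∧ c ^ q = c ∧ c ≠ 0 ∧ l = Mm g.1 *ᵥ Pi.single I012 c := by
  sorry

/-! ### unit POINTA: a non-zero element of `Λ_τ` can be moved to have a non-zero long coordinate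
(if all long coordinates vanish take `J = {i, 5-i, x}` with `l J ≠ 0`; one root element `xs q p t`
replacing `5-i` by `y` gives the new long coordinate `± (t l_J ± (t l_J)^q)`; all twelve `J` are
conjugate under the monomial elements, or use a table) -/

include hq hK in
theorem pointA (l : T3 → K) (hl : InLam q l) (h0 : l ≠ 0) :
    ∃ g : SL6 K, g ∈ RJ q ∧ ∃ I : T3, IsLong I ∧ (Mm g.1 *ᵥ l) I ≠ 0 := by sorry

/-! ### unit LONGPIV: a decomposable element of `Λ_τ` with a non-zero short coordinate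
`I = {i, 5-i, x}`: `l = c • pl (cellMat I A)`, `l (tauI I) = ± c ^ q ≠ 0` is (`±c` times) a
`2 × 2` minor `a_y b_{5-y} - a_{5-y} b_y` of `A`, so one of the long neighbours `{i or 5-i, x, y or
5-y}` is non-zero -/

include hq hK in
theorem longpiv (I : T3) (hI : ¬ IsLong I) (l : T3 → K) (hl : l ∈ Cell I) (hl' : InLam q l) :
    ∃ I' : T3, IsLong I' ∧ l I' ≠ 0 ∧ ∀ a ∈ I.1, Fin.rev a ∉ I.1 → a ∈ I'.1 := by sorry

/-! ### the support -/

variable (c : (T3 → K) → ℕ)
  (hinv : ∀ (g : SL6 K), g ∈ RJ q → ∀ l : T3 → K, InLam q l → c (Mm g.1 *ᵥ l) = c l)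

include hq hK hinv in
/-- unit SUPP2 (the shape argument: `U = {hermitian 3 × 3}` of order `q⁹` acts freely on
`{l ∈ Λ_τ | l_012 = a}`, the torus `diag(t,1,1,1,1,t⁻¹)`, `t ∈ F_q^×`, the Levi root elements
`xs q (i,j)`, `i, j < 3`, and `xl 0`) -/
theorem supp2
    (hsum : ∑ l ∈ Finset.univ.filter (fun l : T3 → K => InLam q l ∧ l I012 ≠ 0), c l =
      (q - 1) * q ^ 9) :
    ∀ (I : T3), IsLong I → ∀ l : T3 → K, InLam q l → l I ≠ 0 →
      (l ∈ Cell I → c l = 1) ∧ (l ∉ Cell I → c l = 0) := by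
  sorry

include hq hK hinv in
/-- unit SUPPFULL: `supp2` + `pointA` + `longpiv` + `cell_orbit2` -/
theorem supp_full
    (hc : ∀ (I : T3), IsLong I → ∀ l : T3 → K, InLam q l → l I ≠ 0 →
      (l ∈ Cell I → c l = 1) ∧ (l ∉ Cell I → c l = 0)) :
    ∀ l : T3 → K, InLam q l → l ≠ 0 → c l = 0 ∨
      (c l = 1 ∧ ∃ I : T3, IsLong I ∧ l I ≠ 0 ∧ l ∈ Cell I) := by
  sorry

include hq hK in
/-- unit NPAIR2 (`l_034` is `± c` times a hermitian `2 × 2` minor of `A`:
`q (q - 1) (q² + 1)` non-singular ones) -/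
theorem npair2 : Nat.card {l : T3 → K // l ∈ Cell I012 ∧ InLam q l ∧ l I034 ≠ 0} =
    (q - 1) ^ 2 * q ^ 6 * (q ^ 2 + 1) := by
  sorry

include hq hK in
/-- unit NMOV2 (`moved2 l ↔ ∃ I ∋ 0, I ∌ 5, l I ≠ 0`; four chain steps `012, 013, 024, 034` with
`q⁹, q⁸, q⁶, q⁵`; the short `014`, `023` by `longpiv`) -/
theorem nmov2
    (hc : ∀ (I : T3), IsLong I → ∀ l : T3 → K, InLam q l → l I ≠ 0 →
      (l ∈ Cell I → c l = 1) ∧ (l ∉ Cell I → c l = 0))
    (hfull : ∀ l : T3 → K, InLam q l → l ≠ 0 → c l = 0 ∨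
      (c l = 1 ∧ ∃ I : T3, IsLong I ∧ l I ≠ 0 ∧ l ∈ Cell I)) :
    ∑ l ∈ Finset.univ.filter (fun l : T3 → K => InLam q l ∧ moved2 l), c l =
      (q ^ 2 - 1) * (q ^ 3 + 1) * q ^ 5 := by
  sorry

include hq hK in
/-- unit CELLS2 (eight echelon families in the order `012, 013, 024, 034, 125, 135, 245, 345`
with `q⁹, q⁸, q⁶, q⁵, q⁴, q³, q, 1`; only a lower bound is needed) -/
theorem cells2
    (hc : ∀ (I : T3), IsLong I → ∀ l : T3 → K, InLam q l → l I ≠ 0 →
      (l ∈ Cell I → c l = 1) ∧ (l ∉ Cell I → c l = 0)) :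
    (q ^ 2 - 1) * (q ^ 3 + 1) * (q ^ 5 + 1) ≤
      ∑ l ∈ Finset.univ.filter (fun l : T3 → K => InLam q l ∧ l ≠ 0), c l := by
  sorry

/-! ### unit STABPERF2: the stabiliser of `e_012` in `RJ` is perfect
(`= {[[A, B], [0, A^{-*}]] | det A = 1}`: STAB over `K` gives the block form; `SL₃(K)` is generated
by transvections, each a commutator; every root element of the unipotent radical is a commutator
of a Levi root element and a radical root element) -/

include hq hK in
theorem stab_perfect (g : SL6 K) (hg : IsStab q g) :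
    g ∈ Subgroup.closure {x : SL6 K | ∃ a b : SL6 K, IsStab q a ∧ IsStab q b ∧
      x = a * b * a⁻¹ * b⁻¹} := by
  sorry

/-! ### units GENSU / ISO (helper1, own definitions in `Lib/Helper1/E6M2SU.lean`): `RJ q` is the
full isometry group of `∑ mS i * u i * (v (5-i))^q` in `SL₆(K)`, and it is the image of an
injective homomorphism `Cfsg.SU 6 K q →* SL6 K` (conjugation by a base change) -/

end Cfsg.Agent.Lib.Helper3.E6M2StubsC
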