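import Mathlib
set_option autoImplicit false
set_option linter.unusedVariables false
set_option linter.style.longLine false
set_option maxHeartbeats 1000000

namespace Cfsg.Agent.Lib.Helper3.E6M

/-- if `x a + y b = c` and `a ∣ b * m` then `a ∣ c * m`. -/
theorem dvd_const_mul {a b c m x y : ℤ} (hb : x * a + y * b = c) (h : a ∣ b * m) : a ∣ c * m := by
  have : c * m = x * m * a + y * (b * m) := by rw [← hb]; ring
  rw [this]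
  exact dvd_add (Dvd.intro_left _ rfl) (Dvd.dvd.mul_left h y)

/-- coprimality from a Bezout identity with constant `2` when the second number is odd. -/
theorem isCoprime_of_two {a b x y m : ℤ} (hb : x * a + y * b = 2) (hodd : b = 2 * m + 1) : IsCoprime a b := by
  refine ⟨-m * x, 1 - m * y, ?_⟩
  have : (-m * x) * a + (1 - m * y) * b = b - m * (x * a + y * b) := by ring
  rw [this, hb, hodd]; ring

/-- coprimality from a Bezout identity with constant `4` when the second number is odd. -/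
theorem isCoprime_of_four {a b x y m : ℤ} (hb : x * a + y * b = 4) (hodd : b = 2 * m + 1) : IsCoprime a b := by
  refine ⟨-(m * m + m) * x, b - (m * m + m) * y, ?_⟩
  have : (-(m * m + m) * x) * a + (b - (m * m + m) * y) * b = b * b - (m * m + m) * (x * a + y * b) := by ring
  rw [this, hb, hodd]; ring

theorem survivor_not_dvd_int (q : ℤ) (hq : 4 ≤ q) :
    ¬ ((q ^ 2 - q + 1) * (q ^ 9 + q ^ 8 + q ^ 5 + q ^ 4 + q ^ 3 + q ^ 2 - 1) ∣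
      q ^ 36 * (q ^ 2 - 1) * (q ^ 5 - 1) * (q ^ 6 - 1) * (q ^ 8 - 1) * (q ^ 9 - 1) * (q ^ 12 - 1)) := by
  intro hdvd
  set g : ℤ := q ^ 9 + q ^ 8 + q ^ 5 + q ^ 4 + q ^ 3 + q ^ 2 - 1 with hg
  set p1 : ℤ := q - 1 with hp1
  set p2 : ℤ := q + 1 with hp2
  set p3 : ℤ := q ^ 2 + q + 1 with hp3
  set p4 : ℤ := q ^ 2 + 1 with hp4
  set p5 : ℤ := q ^ 4 + q ^ 3 + q ^ 2 + q + 1 with hp5
  set p6 : ℤ := q ^ 2 - q + 1 with hp6
  set p8 : ℤ := q ^ 4 + 1 with hp8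
  set p9 : ℤ := q ^ 6 + q ^ 3 + 1 with hp9
  set p12 : ℤ := q ^ 4 - q ^ 2 + 1 with hp12
  have hfac : q ^ 36 * (q ^ 2 - 1) * (q ^ 5 - 1) * (q ^ 6 - 1) * (q ^ 8 - 1) * (q ^ 9 - 1) * (q ^ 12 - 1)
      = q ^ 36 * (p2 ^ 4 * (p3 ^ 3 * (p4 ^ 2 * (p6 ^ 2 * (p8 * (p9 * (p12 * (p1 ^ 6 * p5)))))))) := by
    simp only [hp1, hp2, hp3, hp4, hp5, hp6, hp8, hp9, hp12]; ring
  have hgd : g ∣ q ^ 36 * (p2 ^ 4 * (p3 ^ 3 * (p4 ^ 2 * (p6 ^ 2 * (p8 * (p9 * (p12 * (p1 ^ 6 * p5)))))))) := by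
    rw [← hfac]; exact dvd_trans (Dvd.intro_left _ rfl) hdvd
  -- parity witnesses
  obtain ⟨m3, hm3⟩ : ∃ m : ℤ, q * (q + 1) = 2 * m := by
    obtain ⟨r, hr⟩ := Int.even_mul_succ_self q
    exact ⟨r, by rw [hr]; ring⟩
  obtain ⟨m6, hm6⟩ : ∃ m : ℤ, (q - 1) * q = 2 * m := by
    obtain ⟨r, hr⟩ := Int.even_mul_succ_self (q - 1)
    exact ⟨r, by have : (q - 1) * q = (q - 1) * (q - 1 + 1) := by ring
                 rw [this, hr]; ring⟩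
  have c0 : IsCoprime g q := ⟨-1, q ^ 8 + q ^ 7 + q ^ 4 + q ^ 3 + q ^ 2 + q, by rw [hg]; ring⟩
  have c2 : IsCoprime g p2 := ⟨-1, q ^ 8 + q ^ 4 + q ^ 2, by rw [hg, hp2]; ring⟩
  have c3 : IsCoprime g p3 := by
    refine isCoprime_of_two (x := q) (y := 2 - q - q ^ 2 + q ^ 3 - q ^ 4 - q ^ 5 + q ^ 6 - q ^ 8) (m := m3) ?_ ?_
    · rw [hg, hp3]; ring
    · rw [hp3, ← hm3]; ring
  have c4 : IsCoprime g p4 := ⟨-q, 1 - q - q ^ 2 + 2 * q ^ 3 + 2 * q ^ 4 - q ^ 5 - q ^ 6 + q ^ 7 + q ^ 8, by rw [hg, hp4]; ring⟩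
  have c6 : IsCoprime g p6 := by
    refine isCoprime_of_four (x := -1) (y := 3 + 3 * q + q ^ 2 - q ^ 3 - q ^ 4 + q ^ 5 + 2 * q ^ 6 + q ^ 7) (m := m6) ?_ ?_
    · rw [hg, hp6]; ring
    · rw [hp6]; linear_combination hm6
  have c8 : IsCoprime g p8 := ⟨-1 + q - q ^ 2, q + q ^ 4 + q ^ 7, by rw [hg, hp8]; ring⟩
  have c9 : IsCoprime g p9 := ⟨-1 + q - q ^ 2, q + q ^ 5, by rw [hg, hp9]; ring⟩
  have c12 : IsCoprime g p12 := by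
    refine isCoprime_of_two (x := -1 + q - q ^ 2) (y := 1 + q + q ^ 2 + q ^ 3 + q ^ 4 + q ^ 5 + q ^ 7) (m := q * (q - 1) * m3) ?_ ?_
    · rw [hg, hp12]; ring
    · rw [hp12]; linear_combination (q * (q - 1)) * hm3
  have h1 := (c0.pow_right (n := 36)).dvd_of_dvd_mul_left hgd
  have h2 := (c2.pow_right (n := 4)).dvd_of_dvd_mul_left h1
  have h3 := (c3.pow_right (n := 3)).dvd_of_dvd_mul_left h2
  have h4 := (c4.pow_right (n := 2)).dvd_of_dvd_mul_left h3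
  have h6 := (c6.pow_right (n := 2)).dvd_of_dvd_mul_left h4
  have h8 := c8.dvd_of_dvd_mul_left h6
  have h9 := c9.dvd_of_dvd_mul_left h8
  have h12 := c12.dvd_of_dvd_mul_left h9
  -- now g ∣ p1^6 * p5
  have b1 : (1 : ℤ) * g + (-6 - 6 * q - 5 * q ^ 2 - 4 * q ^ 3 - 3 * q ^ 4 - 2 * q ^ 5 - 2 * q ^ 6 - 2 * q ^ 7 - q ^ 8) * p1 = 5 := by
    rw [hg, hp1]; ring
  have b5 : (-4 + 2 * q - 2 * q ^ 2 - q ^ 3) * g + (1 + q - q ^ 3 + 3 * q ^ 4 + 2 * q ^ 5 - 3 * q ^ 6 + 2 * q ^ 7 + q ^ 8) * p5 = 5 := by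
    rw [hg, hp5]; ring
  have e1 : g ∣ p1 * (p1 * (p1 * (p1 * (p1 * (p1 * p5))))) := by
    have : p1 ^ 6 * p5 = p1 * (p1 * (p1 * (p1 * (p1 * (p1 * p5))))) := by ring
    rw [← this]; exact h12
  have e2 := dvd_const_mul b1 e1
  have e3 : g ∣ p1 * (5 * (p1 * (p1 * (p1 * (p1 * p5))))) := by
    have : 5 * (p1 * (p1 * (p1 * (p1 * (p1 * p5))))) = p1 * (5 * (p1 * (p1 * (p1 * (p1 * p5))))) := by ring
    rw [← this]; exact e2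
  have e4 := dvd_const_mul b1 e3
  have e5 : g ∣ p1 * (5 * 5 * (p1 * (p1 * (p1 * p5)))) := by
    have : 5 * (5 * (p1 * (p1 * (p1 * (p1 * p5))))) = p1 * (5 * 5 * (p1 * (p1 * (p1 * p5)))) := by ring
    rw [← this]; exact e4
  have e6 := dvd_const_mul b1 e5
  have e7 : g ∣ p1 * (5 * 5 * 5 * (p1 * (p1 * p5))) := by
    have : 5 * (5 * 5 * (p1 * (p1 * (p1 * p5)))) = p1 * (5 * 5 * 5 * (p1 * (p1 * p5))) := by ring
    rw [← this]; exact e6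
  have e8 := dvd_const_mul b1 e7
  have e9 : g ∣ p1 * (5 * 5 * 5 * 5 * (p1 * p5)) := by
    have : 5 * (5 * 5 * 5 * (p1 * (p1 * p5))) = p1 * (5 * 5 * 5 * 5 * (p1 * p5)) := by ring
    rw [← this]; exact e8
  have e10 := dvd_const_mul b1 e9
  have e11 : g ∣ p1 * (5 * 5 * 5 * 5 * 5 * p5) := by
    have : 5 * (5 * 5 * 5 * 5 * (p1 * p5)) = p1 * (5 * 5 * 5 * 5 * 5 * p5) := by ring
    rw [← this]; exact e10
  have e12 := dvd_const_mul b1 e11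
  have e13 : g ∣ p5 * (5 * 5 * 5 * 5 * 5 * 5) := by
    have : 5 * (5 * 5 * 5 * 5 * 5 * p5) = p5 * (5 * 5 * 5 * 5 * 5 * 5) := by ring
    rw [← this]; exact e12
  have e14 := dvd_const_mul b5 e13
  have e15 : g ∣ 78125 := by
    have : (5 : ℤ) * (5 * 5 * 5 * 5 * 5 * 5) = 78125 := by norm_num
    rw [← this]; exact e14
  have hle : g ≤ 78125 := Int.le_of_dvd (by norm_num) e15
  have hq9 : (4 : ℤ) ^ 9 ≤ q ^ 9 := pow_le_pow_left₀ (by norm_num) hq 9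
  have hpos : 0 ≤ q ^ 8 + q ^ 5 + q ^ 4 + q ^ 3 + q ^ 2 - 1 := by
    have h8 : (4 : ℤ) ^ 8 ≤ q ^ 8 := pow_le_pow_left₀ (by norm_num) hq 8
    have : 0 ≤ q ^ 5 + q ^ 4 + q ^ 3 + q ^ 2 := by positivity
    nlinarith
  have : (262144 : ℤ) ≤ g := by
    have : (4 : ℤ) ^ 9 = 262144 := by norm_num
    rw [hg]; linarith
  linarith

theorem survivor_not_dvd (q : ℕ) (hq : 2 ≤ q) :
    ¬ (q ^ 11 + q ^ 8 + q ^ 7 + q ^ 5 + q ^ 4 + q - 1 ∣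
      q ^ 36 * (q ^ 2 - 1) * (q ^ 5 - 1) * (q ^ 6 - 1) * (q ^ 8 - 1) * (q ^ 9 - 1) * (q ^ 12 - 1)) := by
  rcases Nat.lt_or_ge q 4 with h4 | h4
  · interval_cases q
    · norm_num
    · norm_num
  · intro hdvd
    apply survivor_not_dvd_int (q : ℤ) (by exact_mod_cast h4)
    have h1 : ∀ n : ℕ, 1 ≤ q ^ n := fun n => Nat.one_le_pow _ _ (by omega)
    have hN : ((q ^ 11 + q ^ 8 + q ^ 7 + q ^ 5 + q ^ 4 + q - 1 : ℕ) : ℤ)
        = ((q : ℤ) ^ 2 - q + 1) * ((q : ℤ) ^ 9 + (q : ℤ) ^ 8 + (q : ℤ) ^ 5 + (q : ℤ) ^ 4 + (q : ℤ) ^ 3 + (q : ℤ) ^ 2 - 1) := by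
      have : 1 ≤ q ^ 11 + q ^ 8 + q ^ 7 + q ^ 5 + q ^ 4 + q := by have := h1 11; omega
      push_cast [Nat.cast_sub this]; ring
    have hM : ((q ^ 36 * (q ^ 2 - 1) * (q ^ 5 - 1) * (q ^ 6 - 1) * (q ^ 8 - 1) * (q ^ 9 - 1) * (q ^ 12 - 1) : ℕ) : ℤ)
        = (q : ℤ) ^ 36 * ((q : ℤ) ^ 2 - 1) * ((q : ℤ) ^ 5 - 1) * ((q : ℤ) ^ 6 - 1) * ((q : ℤ) ^ 8 - 1) * ((q : ℤ) ^ 9 - 1) * ((q : ℤ) ^ 12 - 1) := by
      push_cast [Nat.cast_sub (h1 2), Nat.cast_sub (h1 5), Nat.cast_sub (h1 6), Nat.cast_sub (h1 8), Nat.cast_sub (h1 9), Nat.cast_sub (h1 12)]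
      ring
    rw [← hN, ← hM]
    exact_mod_cast hdvd

end Cfsg.Agent.Lib.Helper3.E6M
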