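import Cfsg.Agent.Lib.Helper1.WChainData

set_option autoImplicit false
set_option maxRecDepth 100000

/-!
S4281 farm, unit DATA-B (helper3): stabiliser-chain tables for `W_t`, `t = h_λ(-1)`, `λ = [0, 1, 0, 0, 1, 0, 1, 0]`,
in the format of `Cfsg.Agent.Lib.Helper1.WChain` (generated by tools/helper3/e8inv/gen.py from the Prelude tables
with helper1's prototype `chain()`; nothing here is trusted, the checker re-verifies it).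
-/

namespace Cfsg.Agent.Lib.Helper3.E8Inv

open Cfsg.Agent.Lib.Helper1.WChain

def topB : Top where
  par := [true, false, false, false, false, false, false, false, false, false, false, false, false, true, false, false, false, false, false, false, true, false, false, false, false, true, false, false, false, true, false, false, true, false, true, true, false, false, false, true, false, false, true, false, true, true, false, false, true, false, true, true, false, true, true, true, false, false, true, false, true, true, false, true, true, true, false, true, true, true, true, false, true, true, true, true, true, true, false, false, true, false, true, true, false, true, true, true, false, true, true, true, true, false, true, true, true, true, true, false, true, true, true, true,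 true, false, true, true, true, true, false, true, true, true, false, true, true, false, true, false, false, true, false, true, true, false, true, true, true, false, true, true, true, true, false, true, true, true, true, true, false, true, true, true, true, true, false, true, true, true, true, false, true, true, true, false, true, true, false, true, false, false, true, true, true, true, true, true, false, true, true, true, true, false, true, true, true, false, true, true, false, true, false, false, true, true, true, false, true, true, false, true, false, false, true, true, false, true, false, false, true, false, false, false, true, true, false, true, false, false, true, false, false, false, true, false, false, false, false, true, false, false, false, false, false, false, true,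 false, false, false, false, false, false, false, false, false, false, false, false, true]
  X := [[], [7], [6, 7], [5, 6, 7], [4, 5, 6, 7], [3, 4, 5, 6, 7], [1, 3, 4, 5, 6, 7], [2, 3, 4, 5, 6, 7], [2, 1, 3, 4, 5, 6, 7], [0, 2, 3, 4, 5, 6, 7], [0, 2, 1, 3, 4, 5, 6, 7], [3, 2, 1, 3, 4, 5, 6, 7], [3, 0, 2, 1, 3, 4, 5, 6, 7], [4, 3, 2, 1, 3, 4, 5, 6, 7], [2, 3, 0, 2, 1, 3, 4, 5, 6, 7], [4, 3, 0, 2, 1, 3, 4, 5, 6, 7], [5, 4, 3, 2, 1, 3, 4, 5, 6, 7], [4, 2, 3, 0, 2, 1, 3, 4, 5, 6, 7], [5, 4, 3, 0, 2, 1, 3, 4, 5, 6, 7], [6, 5, 4, 3, 2, 1, 3, 4, 5, 6, 7], [3, 4, 2, 3, 0, 2, 1, 3, 4, 5, 6, 7], [5, 4, 2, 3, 0, 2, 1, 3, 4, 5, 6, 7], [6, 5, 4, 3, 0, 2, 1, 3, 4, 5, 6, 7], [7, 6, 5, 4, 3, 2, 1, 3, 4, 5, 6, 7], [1, 3, 4, 2, 3, 0, 2, 1, 3, 4, 5, 6, 7], [5, 3, 4, 2, 3, 0, 2, 1, 3, 4, 5, 6, 7],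 [6, 5, 4, 2, 3, 0, 2, 1, 3, 4, 5, 6, 7], [7, 6, 5, 4, 3, 0, 2, 1, 3, 4, 5, 6, 7], [5, 1, 3, 4, 2, 3, 0, 2, 1, 3, 4, 5, 6, 7], [4, 5, 3, 4, 2, 3, 0, 2, 1, 3, 4, 5, 6, 7], [6, 5, 3, 4, 2, 3, 0, 2, 1, 3, 4, 5, 6, 7], [7, 6, 5, 4, 2, 3, 0, 2, 1, 3, 4, 5, 6, 7], [4, 5, 1, 3, 4, 2, 3, 0, 2, 1, 3, 4, 5, 6, 7], [6, 5, 1, 3, 4, 2, 3, 0, 2, 1, 3, 4, 5, 6, 7], [6, 4, 5, 3, 4, 2, 3, 0, 2, 1, 3, 4, 5, 6, 7], [7, 6, 5, 3, 4, 2, 3, 0, 2, 1, 3, 4, 5, 6, 7], [3, 4, 5, 1, 3, 4, 2, 3, 0, 2, 1, 3, 4, 5, 6, 7], [6, 4, 5, 1, 3, 4, 2, 3, 0, 2, 1, 3, 4, 5, 6, 7], [7, 6, 5, 1, 3, 4, 2, 3, 0, 2, 1, 3, 4, 5, 6, 7], [5, 6, 4, 5, 3, 4, 2, 3, 0, 2, 1, 3, 4, 5, 6, 7], [7, 6, 4, 5, 3, 4, 2, 3, 0, 2, 1, 3, 4, 5, 6, 7], [2, 3, 4, 5, 1, 3, 4, 2, 3, 0, 2, 1, 3, 4, 5, 6, 7], [6, 3, 4, 5, 1, 3, 4, 2, 3, 0, 2, 1,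 3, 4, 5, 6, 7], [5, 6, 4, 5, 1, 3, 4, 2, 3, 0, 2, 1, 3, 4, 5, 6, 7], [7, 6, 4, 5, 1, 3, 4, 2, 3, 0, 2, 1, 3, 4, 5, 6, 7], [7, 5, 6, 4, 5, 3, 4, 2, 3, 0, 2, 1, 3, 4, 5, 6, 7], [0, 2, 3, 4, 5, 1, 3, 4, 2, 3, 0, 2, 1, 3, 4, 5, 6, 7], [6, 2, 3, 4, 5, 1, 3, 4, 2, 3, 0, 2, 1, 3, 4, 5, 6, 7], [5, 6, 3, 4, 5, 1, 3, 4, 2, 3, 0, 2, 1, 3, 4, 5, 6, 7], [7, 6, 3, 4, 5, 1, 3, 4, 2, 3, 0, 2, 1, 3, 4, 5, 6, 7], [7, 5, 6, 4, 5, 1, 3, 4, 2, 3, 0, 2, 1, 3, 4, 5, 6, 7], [6, 7, 5, 6, 4, 5, 3, 4, 2, 3, 0, 2, 1, 3, 4, 5, 6, 7], [6, 0, 2, 3, 4, 5, 1, 3, 4, 2, 3, 0, 2, 1, 3, 4, 5, 6, 7], [5, 6, 2, 3, 4, 5, 1, 3, 4, 2, 3, 0, 2, 1, 3, 4, 5, 6, 7], [7, 6, 2, 3, 4, 5, 1, 3, 4, 2, 3, 0, 2, 1, 3, 4, 5, 6, 7], [4, 5, 6, 3, 4, 5, 1, 3, 4, 2, 3, 0, 2, 1, 3, 4, 5, 6, 7], [7, 5, 6, 3, 4, 5, 1, 3, 4, 2, 3, 0, 2,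 1, 3, 4, 5, 6, 7], [6, 7, 5, 6, 4, 5, 1, 3, 4, 2, 3, 0, 2, 1, 3, 4, 5, 6, 7], [5, 6, 0, 2, 3, 4, 5, 1, 3, 4, 2, 3, 0, 2, 1, 3, 4, 5, 6, 7], [7, 6, 0, 2, 3, 4, 5, 1, 3, 4, 2, 3, 0, 2, 1, 3, 4, 5, 6, 7], [4, 5, 6, 2, 3, 4, 5, 1, 3, 4, 2, 3, 0, 2, 1, 3, 4, 5, 6, 7], [7, 5, 6, 2, 3, 4, 5, 1, 3, 4, 2, 3, 0, 2, 1, 3, 4, 5, 6, 7], [7, 4, 5, 6, 3, 4, 5, 1, 3, 4, 2, 3, 0, 2, 1, 3, 4, 5, 6, 7], [6, 7, 5, 6, 3, 4, 5, 1, 3, 4, 2, 3, 0, 2, 1, 3, 4, 5, 6, 7], [4, 5, 6, 0, 2, 3, 4, 5, 1, 3, 4, 2, 3, 0, 2, 1, 3, 4, 5, 6, 7], [7, 5, 6, 0, 2, 3, 4, 5, 1, 3, 4, 2, 3, 0, 2, 1, 3, 4, 5, 6, 7], [3, 4, 5, 6, 2, 3, 4, 5, 1, 3, 4, 2, 3, 0, 2, 1, 3, 4, 5, 6, 7], [7, 4, 5, 6, 2, 3, 4, 5, 1, 3, 4, 2, 3, 0, 2, 1, 3, 4, 5, 6, 7], [6, 7, 5, 6, 2, 3, 4, 5, 1, 3, 4, 2, 3, 0, 2, 1, 3, 4, 5, 6, 7], [6, 7, 4,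 5, 6, 3, 4, 5, 1, 3, 4, 2, 3, 0, 2, 1, 3, 4, 5, 6, 7], [3, 4, 5, 6, 0, 2, 3, 4, 5, 1, 3, 4, 2, 3, 0, 2, 1, 3, 4, 5, 6, 7], [7, 4, 5, 6, 0, 2, 3, 4, 5, 1, 3, 4, 2, 3, 0, 2, 1, 3, 4, 5, 6, 7], [6, 7, 5, 6, 0, 2, 3, 4, 5, 1, 3, 4, 2, 3, 0, 2, 1, 3, 4, 5, 6, 7], [1, 3, 4, 5, 6, 2, 3, 4, 5, 1, 3, 4, 2, 3, 0, 2, 1, 3, 4, 5, 6, 7], [7, 3, 4, 5, 6, 2, 3, 4, 5, 1, 3, 4, 2, 3, 0, 2, 1, 3, 4, 5, 6, 7], [6, 7, 4, 5, 6, 2, 3, 4, 5, 1, 3, 4, 2, 3, 0, 2, 1, 3, 4, 5, 6, 7], [5, 6, 7, 4, 5, 6, 3, 4, 5, 1, 3, 4, 2, 3, 0, 2, 1, 3, 4, 5, 6, 7], [1, 3, 4, 5, 6, 0, 2, 3, 4, 5, 1, 3, 4, 2, 3, 0, 2, 1, 3, 4, 5, 6, 7], [2, 3, 4, 5, 6, 0, 2, 3, 4, 5, 1, 3, 4, 2, 3, 0, 2, 1, 3, 4, 5, 6, 7], [7, 3, 4, 5, 6, 0, 2, 3, 4, 5, 1, 3, 4, 2, 3, 0, 2, 1, 3, 4, 5, 6, 7], [6, 7, 4, 5, 6, 0, 2, 3, 4, 5, 1, 3, 4, 2,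 3, 0, 2, 1, 3, 4, 5, 6, 7], [7, 1, 3, 4, 5, 6, 2, 3, 4, 5, 1, 3, 4, 2, 3, 0, 2, 1, 3, 4, 5, 6, 7], [6, 7, 3, 4, 5, 6, 2, 3, 4, 5, 1, 3, 4, 2, 3, 0, 2, 1, 3, 4, 5, 6, 7], [5, 6, 7, 4, 5, 6, 2, 3, 4, 5, 1, 3, 4, 2, 3, 0, 2, 1, 3, 4, 5, 6, 7], [2, 1, 3, 4, 5, 6, 0, 2, 3, 4, 5, 1, 3, 4, 2, 3, 0, 2, 1, 3, 4, 5, 6, 7], [7, 1, 3, 4, 5, 6, 0, 2, 3, 4, 5, 1, 3, 4, 2, 3, 0, 2, 1, 3, 4, 5, 6, 7], [7, 2, 3, 4, 5, 6, 0, 2, 3, 4, 5, 1, 3, 4, 2, 3, 0, 2, 1, 3, 4, 5, 6, 7], [6, 7, 3, 4, 5, 6, 0, 2, 3, 4, 5, 1, 3, 4, 2, 3, 0, 2, 1, 3, 4, 5, 6, 7], [5, 6, 7, 4, 5, 6, 0, 2, 3, 4, 5, 1, 3, 4, 2, 3, 0, 2, 1, 3, 4, 5, 6, 7], [6, 7, 1, 3, 4, 5, 6, 2, 3, 4, 5, 1, 3, 4, 2, 3, 0, 2, 1, 3, 4, 5, 6, 7], [5, 6, 7, 3, 4, 5, 6, 2, 3, 4, 5, 1, 3, 4, 2, 3, 0, 2, 1, 3, 4, 5, 6, 7], [3, 2, 1, 3, 4, 5, 6, 0, 2,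 3, 4, 5, 1, 3, 4, 2, 3, 0, 2, 1, 3, 4, 5, 6, 7], [7, 2, 1, 3, 4, 5, 6, 0, 2, 3, 4, 5, 1, 3, 4, 2, 3, 0, 2, 1, 3, 4, 5, 6, 7], [6, 7, 1, 3, 4, 5, 6, 0, 2, 3, 4, 5, 1, 3, 4, 2, 3, 0, 2, 1, 3, 4, 5, 6, 7], [6, 7, 2, 3, 4, 5, 6, 0, 2, 3, 4, 5, 1, 3, 4, 2, 3, 0, 2, 1, 3, 4, 5, 6, 7], [5, 6, 7, 3, 4, 5, 6, 0, 2, 3, 4, 5, 1, 3, 4, 2, 3, 0, 2, 1, 3, 4, 5, 6, 7], [5, 6, 7, 1, 3, 4, 5, 6, 2, 3, 4, 5, 1, 3, 4, 2, 3, 0, 2, 1, 3, 4, 5, 6, 7], [4, 5, 6, 7, 3, 4, 5, 6, 2, 3, 4, 5, 1, 3, 4, 2, 3, 0, 2, 1, 3, 4, 5, 6, 7], [4, 3, 2, 1, 3, 4, 5, 6, 0, 2, 3, 4, 5, 1, 3, 4, 2, 3, 0, 2, 1, 3, 4, 5, 6, 7], [7, 3, 2, 1, 3, 4, 5, 6, 0, 2, 3, 4, 5, 1, 3, 4, 2, 3, 0, 2, 1, 3, 4, 5, 6, 7], [6, 7, 2, 1, 3, 4, 5, 6, 0, 2, 3, 4, 5, 1, 3, 4, 2, 3, 0, 2, 1, 3, 4, 5, 6, 7], [5, 6, 7, 1, 3, 4, 5, 6, 0, 2, 3,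 4, 5, 1, 3, 4, 2, 3, 0, 2, 1, 3, 4, 5, 6, 7], [5, 6, 7, 2, 3, 4, 5, 6, 0, 2, 3, 4, 5, 1, 3, 4, 2, 3, 0, 2, 1, 3, 4, 5, 6, 7], [4, 5, 6, 7, 3, 4, 5, 6, 0, 2, 3, 4, 5, 1, 3, 4, 2, 3, 0, 2, 1, 3, 4, 5, 6, 7], [4, 5, 6, 7, 1, 3, 4, 5, 6, 2, 3, 4, 5, 1, 3, 4, 2, 3, 0, 2, 1, 3, 4, 5, 6, 7], [5, 4, 3, 2, 1, 3, 4, 5, 6, 0, 2, 3, 4, 5, 1, 3, 4, 2, 3, 0, 2, 1, 3, 4, 5, 6, 7], [7, 4, 3, 2, 1, 3, 4, 5, 6, 0, 2, 3, 4, 5, 1, 3, 4, 2, 3, 0, 2, 1, 3, 4, 5, 6, 7], [6, 7, 3, 2, 1, 3, 4, 5, 6, 0, 2, 3, 4, 5, 1, 3, 4, 2, 3, 0, 2, 1, 3, 4, 5, 6, 7], [5, 6, 7, 2, 1, 3, 4, 5, 6, 0, 2, 3, 4, 5, 1, 3, 4, 2, 3, 0, 2, 1, 3, 4, 5, 6, 7], [4, 5, 6, 7, 1, 3, 4, 5, 6, 0, 2, 3, 4, 5, 1, 3, 4, 2, 3, 0, 2, 1, 3, 4, 5, 6, 7], [4, 5, 6, 7, 2, 3, 4, 5, 6, 0, 2, 3, 4, 5, 1, 3, 4, 2, 3, 0, 2, 1, 3, 4, 5, 6, 7], [3,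 4, 5, 6, 7, 1, 3, 4, 5, 6, 2, 3, 4, 5, 1, 3, 4, 2, 3, 0, 2, 1, 3, 4, 5, 6, 7], [6, 5, 4, 3, 2, 1, 3, 4, 5, 6, 0, 2, 3, 4, 5, 1, 3, 4, 2, 3, 0, 2, 1, 3, 4, 5, 6, 7], [7, 5, 4, 3, 2, 1, 3, 4, 5, 6, 0, 2, 3, 4, 5, 1, 3, 4, 2, 3, 0, 2, 1, 3, 4, 5, 6, 7], [6, 7, 4, 3, 2, 1, 3, 4, 5, 6, 0, 2, 3, 4, 5, 1, 3, 4, 2, 3, 0, 2, 1, 3, 4, 5, 6, 7], [5, 6, 7, 3, 2, 1, 3, 4, 5, 6, 0, 2, 3, 4, 5, 1, 3, 4, 2, 3, 0, 2, 1, 3, 4, 5, 6, 7], [4, 5, 6, 7, 2, 1, 3, 4, 5, 6, 0, 2, 3, 4, 5, 1, 3, 4, 2, 3, 0, 2, 1, 3, 4, 5, 6, 7], [3, 4, 5, 6, 7, 1, 3, 4, 5, 6, 0, 2, 3, 4, 5, 1, 3, 4, 2, 3, 0, 2, 1, 3, 4, 5, 6, 7], [3, 4, 5, 6, 7, 2, 3, 4, 5, 6, 0, 2, 3, 4, 5, 1, 3, 4, 2, 3, 0, 2, 1, 3, 4, 5, 6, 7], [2, 3, 4, 5, 6, 7, 1, 3, 4, 5, 6, 2, 3, 4, 5, 1, 3, 4, 2, 3, 0, 2, 1, 3, 4, 5, 6, 7]]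
  S := [[6], [5], [4], [3], [2], [1], [0], [7, 6, 5, 4, 3, 1, 2, 0, 3, 2, 4, 3, 1, 5, 4, 3, 2, 0, 6, 5, 4, 3, 1, 2, 3, 4, 5, 6, 7, 6, 5, 4, 3, 2, 1, 3, 4, 5, 6, 0, 2, 3, 4, 5, 1, 3, 4, 2, 3, 0, 2, 1, 3, 4, 5, 6, 7]]
  tbl := [[(0, 7), (1, 7), (2, 7), (3, 7), (4, 7), (5, 7), (6, 7), (9, 0), (10, 0), (7, 0), (8, 0), (12, 0), (11, 0), (15, 0), (14, 6), (13, 0), (18, 0), (17, 6), (16, 0), (22, 0), (20, 6), (21, 6), (19, 0), (27, 0), (24, 6), (25, 6), (26, 6), (23, 0), (28, 6), (29, 6), (30, 6), (31, 6), (32, 6), (33, 6), (34, 6), (35, 6), (36, 6), (37, 6), (38, 6), (39, 6), (40, 6), (46, 0), (42, 6), (43, 6), (44, 6), (45, 6), (41, 0), (52, 0), (48, 6), (49, 6), (50, 6), (51, 6), (47, 0), (58, 0), (59, 0), (55, 6), (56, 6), (57, 6), (53, 0), (54, 0), (64, 0), (65, 0), (62, 6), (63,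 6), (60, 0), (61, 0), (70, 0), (71, 0), (72, 0), (69, 6), (66, 0), (67, 0), (68, 0), (77, 0), (79, 0), (80, 0), (76, 6), (73, 0), (78, 2), (74, 0), (75, 0), (85, 0), (87, 0), (88, 0), (84, 2), (81, 0), (86, 2), (82, 0), (83, 0), (93, 0), (95, 0), (91, 2), (92, 2), (89, 0), (94, 2), (90, 0), (101, 0), (103, 0), (98, 2), (99, 2), (100, 2), (96, 0), (102, 2), (97, 0), (109, 0), (105, 2), (106, 2), (107, 2), (108, 2), (104, 0), (110, 2), (117, 0), (112, 2), (113, 2), (114, 2), (115, 2), (116, 2), (111, 0), (118, 2), (119, 8)], [(0, 6), (1, 6), (2, 6), (3, 6), (4, 6), (6, 0), (5, 0), (8, 0), (7, 0), (10, 0), (9, 0), (11, 5), (12, 5), (13, 5), (14, 5), (15, 5), (16, 5), (17, 5), (18, 5), (19, 5), (24, 0), (21, 5), (22, 5), (23, 5), (20, 0), (28, 0), (26, 5), (27, 5), (25, 0), (32,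 0), (33, 0), (31, 5), (29, 0), (30, 0), (37, 0), (38, 0), (36, 3), (34, 0), (35, 0), (43, 0), (44, 0), (41, 3), (42, 3), (39, 0), (40, 0), (50, 0), (46, 3), (47, 3), (48, 3), (49, 3), (45, 0), (57, 0), (52, 3), (53, 3), (54, 3), (55, 3), (56, 3), (51, 0), (58, 3), (59, 3), (60, 3), (61, 3), (62, 3), (63, 3), (64, 3), (65, 3), (73, 0), (67, 3), (68, 3), (69, 3), (77, 0), (71, 3), (72, 3), (66, 0), (81, 0), (75, 3), (76, 3), (70, 0), (84, 0), (85, 0), (80, 3), (74, 0), (89, 0), (83, 3), (78, 0), (79, 0), (92, 0), (93, 0), (88, 3), (82, 0), (96, 0), (91, 6), (86, 0), (87, 0), (100, 0), (101, 0), (90, 0), (104, 0), (98, 6), (99, 6), (94, 0), (95, 0), (108, 0), (109, 0), (97, 0), (105, 6), (106, 6), (107, 6), (102, 0), (103, 0), (116, 0), (111, 1), (112, 6), (113, 6), (114, 6), (115,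 6), (110, 0), (117, 1), (118, 8), (119, 1)], [(0, 5), (1, 5), (2, 5), (3, 5), (4, 5), (7, 0), (8, 0), (5, 0), (6, 0), (9, 7), (10, 7), (11, 6), (14, 0), (13, 6), (12, 0), (17, 0), (16, 6), (15, 0), (21, 0), (19, 6), (20, 4), (18, 0), (26, 0), (23, 6), (24, 4), (25, 4), (22, 0), (31, 0), (28, 4), (29, 4), (30, 4), (27, 0), (32, 4), (33, 4), (34, 4), (35, 4), (41, 0), (37, 4), (38, 4), (39, 4), (40, 4), (36, 0), (47, 0), (43, 4), (44, 4), (45, 4), (46, 6), (42, 0), (53, 0), (54, 0), (50, 4), (51, 4), (52, 6), (48, 0), (49, 0), (60, 0), (61, 0), (57, 4), (58, 6), (59, 6), (55, 0), (56, 0), (67, 0), (68, 0), (64, 6), (65, 6), (66, 2), (62, 0), (63, 0), (75, 0), (78, 0), (71, 6), (72, 6), (73, 2), (74, 2), (69, 0), (83, 0), (84, 0), (70, 0), (86, 0), (80, 6), (81, 2), (82, 2), (76,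 0), (77, 0), (92, 0), (79, 0), (94, 0), (88, 6), (89, 2), (90, 2), (91, 3), (85, 0), (100, 0), (87, 0), (102, 0), (96, 2), (97, 2), (98, 3), (99, 3), (93, 0), (108, 0), (95, 0), (110, 0), (104, 2), (105, 3), (106, 3), (107, 3), (101, 0), (116, 0), (103, 0), (119, 0), (112, 3), (113, 3), (114, 3), (115, 3), (109, 0), (117, 8), (118, 1), (111, 0)], [(0, 4), (1, 4), (2, 4), (3, 4), (5, 0), (4, 0), (6, 6), (7, 5), (11, 0), (9, 5), (12, 0), (8, 0), (10, 0), (13, 4), (14, 7), (15, 4), (16, 4), (20, 0), (18, 4), (19, 4), (17, 0), (25, 0), (22, 4), (23, 4), (24, 5), (21, 0), (30, 0), (27, 4), (28, 5), (29, 3), (26, 0), (35, 0), (36, 0), (33, 5), (34, 3), (31, 0), (32, 0), (42, 0), (38, 5), (39, 3), (40, 3), (41, 4), (37, 0), (48, 0), (49, 0), (45, 3), (46, 4), (47, 4), (43, 0), (44,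 0), (56, 0), (51, 3), (52, 4), (53, 4), (54, 4), (55, 2), (50, 0), (63, 0), (58, 4), (59, 4), (66, 0), (61, 4), (62, 2), (57, 0), (70, 0), (65, 4), (60, 0), (74, 0), (68, 4), (69, 2), (64, 0), (79, 0), (72, 4), (73, 3), (67, 0), (82, 0), (76, 2), (77, 3), (78, 6), (71, 0), (87, 0), (81, 3), (75, 0), (90, 0), (91, 0), (85, 3), (86, 6), (80, 0), (95, 0), (89, 3), (83, 0), (84, 0), (99, 0), (93, 3), (94, 6), (88, 0), (96, 3), (97, 1), (98, 4), (92, 0), (107, 0), (101, 3), (102, 6), (103, 1), (111, 0), (105, 4), (106, 4), (100, 0), (115, 0), (117, 0), (118, 0), (104, 0), (112, 4), (113, 4), (114, 4), (108, 0), (116, 8), (109, 0), (110, 0), (119, 2)], [(0, 3), (1, 3), (2, 3), (4, 0), (3, 0), (5, 4), (6, 4), (7, 4), (8, 4), (9, 4), (10, 4), (13, 0), (15, 0), (11, 0), (17, 0), (12,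 0), (16, 3), (14, 0), (18, 3), (19, 3), (20, 7), (21, 3), (22, 3), (23, 3), (24, 7), (29, 0), (26, 3), (27, 3), (32, 0), (25, 0), (34, 0), (31, 3), (28, 0), (37, 0), (30, 0), (40, 0), (36, 5), (33, 0), (44, 0), (39, 2), (35, 0), (41, 5), (42, 5), (43, 2), (38, 0), (45, 2), (46, 5), (47, 5), (55, 0), (49, 5), (50, 2), (51, 2), (52, 5), (60, 0), (54, 5), (48, 0), (62, 0), (57, 2), (64, 0), (59, 5), (53, 0), (67, 0), (56, 0), (69, 0), (58, 0), (71, 0), (66, 4), (61, 0), (75, 0), (63, 0), (70, 4), (65, 0), (80, 0), (73, 4), (74, 4), (68, 0), (76, 1), (77, 4), (78, 4), (79, 4), (72, 0), (81, 4), (82, 4), (83, 1), (84, 4), (85, 4), (86, 4), (87, 4), (88, 1), (89, 4), (97, 0), (98, 0), (92, 4), (93, 4), (94, 4), (103, 0), (104, 0), (90, 0), (91, 0), (106, 0), (100, 4), (109, 0), (110,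 0), (95, 0), (96, 0), (105, 5), (99, 0), (114, 0), (116, 0), (101, 0), (102, 0), (111, 3), (112, 5), (113, 5), (107, 0), (115, 8), (108, 0), (117, 3), (118, 6), (119, 3)], [(0, 2), (1, 2), (3, 0), (2, 0), (4, 3), (5, 3), (6, 3), (7, 3), (8, 3), (9, 3), (10, 3), (11, 3), (12, 3), (16, 0), (14, 3), (18, 0), (13, 0), (21, 0), (15, 0), (19, 2), (25, 0), (17, 0), (22, 2), (23, 2), (28, 0), (20, 0), (26, 2), (27, 2), (24, 0), (29, 7), (30, 2), (31, 2), (32, 7), (33, 2), (39, 0), (35, 2), (36, 7), (43, 0), (38, 2), (34, 0), (45, 0), (41, 7), (48, 0), (37, 0), (50, 0), (40, 0), (46, 7), (53, 0), (42, 0), (56, 0), (44, 0), (51, 1), (58, 0), (47, 0), (61, 0), (55, 5), (49, 0), (57, 1), (52, 0), (65, 0), (60, 5), (54, 0), (62, 5), (63, 1), (64, 5), (59, 0), (66, 5), (67, 5), (68, 1), (76,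 0), (70, 5), (71, 5), (72, 1), (73, 5), (74, 5), (83, 0), (69, 0), (77, 5), (78, 5), (79, 5), (88, 0), (81, 5), (90, 0), (75, 0), (84, 5), (85, 5), (86, 5), (95, 0), (80, 0), (96, 0), (82, 0), (91, 5), (92, 5), (101, 0), (102, 0), (87, 0), (89, 0), (97, 4), (105, 0), (99, 5), (108, 0), (93, 0), (94, 0), (103, 4), (104, 4), (98, 0), (113, 0), (115, 0), (100, 0), (109, 4), (110, 4), (111, 4), (112, 7), (106, 0), (114, 8), (107, 0), (116, 4), (117, 4), (118, 4), (119, 4)], [(0, 1), (2, 0), (1, 0), (3, 2), (4, 2), (5, 2), (6, 2), (7, 2), (8, 2), (9, 2), (10, 2), (11, 2), (12, 2), (13, 2), (14, 2), (15, 2), (19, 0), (17, 2), (22, 0), (16, 0), (20, 2), (26, 0), (18, 0), (23, 1), (24, 2), (30, 0), (21, 0), (27, 1), (33, 0), (34, 0), (25, 0), (31, 1), (37, 0), (28, 0), (29, 0), (35,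 1), (42, 0), (32, 0), (38, 1), (39, 7), (40, 1), (47, 0), (36, 0), (43, 7), (44, 1), (51, 0), (52, 0), (41, 0), (48, 7), (49, 1), (57, 0), (45, 0), (46, 0), (53, 7), (54, 1), (55, 7), (63, 0), (50, 0), (58, 7), (59, 1), (60, 7), (68, 0), (69, 0), (56, 0), (64, 7), (72, 0), (66, 7), (75, 0), (61, 0), (62, 0), (70, 7), (80, 0), (65, 0), (73, 7), (82, 0), (67, 0), (76, 5), (77, 7), (78, 7), (87, 0), (71, 0), (89, 0), (74, 0), (83, 5), (84, 7), (93, 0), (94, 0), (79, 0), (88, 5), (81, 0), (90, 5), (91, 7), (100, 0), (85, 0), (86, 0), (95, 5), (96, 5), (97, 5), (98, 7), (107, 0), (92, 0), (101, 5), (102, 5), (103, 5), (104, 5), (112, 0), (114, 0), (99, 0), (108, 5), (109, 5), (110, 5), (111, 5), (105, 0), (113, 8), (106, 0), (115, 5), (116, 5), (117, 5), (118, 5), (119, 5)], [(1,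 0), (0, 0), (2, 1), (3, 1), (4, 1), (5, 1), (6, 1), (7, 1), (8, 1), (9, 1), (10, 1), (11, 1), (12, 1), (13, 1), (14, 1), (15, 1), (16, 1), (17, 1), (18, 1), (23, 0), (20, 1), (21, 1), (27, 0), (19, 0), (24, 1), (25, 1), (31, 0), (22, 0), (28, 1), (29, 1), (35, 0), (26, 0), (32, 1), (38, 0), (40, 0), (30, 0), (36, 1), (44, 0), (33, 0), (45, 0), (34, 0), (41, 1), (49, 0), (50, 0), (37, 0), (39, 0), (46, 1), (54, 0), (56, 0), (42, 0), (43, 0), (51, 7), (59, 0), (61, 0), (47, 0), (62, 0), (48, 0), (57, 7), (65, 0), (52, 0), (67, 0), (53, 0), (55, 0), (63, 7), (71, 0), (58, 0), (74, 0), (60, 0), (68, 7), (69, 7), (79, 0), (64, 0), (72, 7), (81, 0), (66, 0), (75, 7), (76, 7), (85, 0), (86, 0), (70, 0), (80, 7), (73, 0), (82, 7), (83, 7), (92, 0), (77, 0), (78, 0), (87, 7), (88, 7),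 (89, 7), (90, 7), (99, 0), (84, 0), (93, 7), (94, 7), (95, 7), (96, 7), (97, 7), (106, 0), (91, 0), (100, 7), (101, 7), (102, 7), (103, 7), (104, 7), (113, 0), (98, 0), (107, 7), (108, 7), (109, 7), (110, 7), (111, 7), (112, 8), (105, 0), (114, 7), (115, 7), (116, 7), (117, 7), (118, 7), (119, 7)]]
  wit := [0, 0, 0, 0, 0, 0, 0, 0, 0, 0, 0, 0, 0, 0, 0, 0, 0, 0, 0, 0, 0, 0, 0, 14, 0, 0, 0, 14, 0, 0, 0, 14, 0, 0, 0, 14, 0, 0, 14, 0, 14, 0, 0, 0, 14, 14, 0, 0, 0, 14, 14, 14, 0, 0, 14, 0, 14, 14, 0, 14, 0, 14, 14, 14, 0, 14, 0, 14, 14, 14, 0, 14, 14, 0, 14, 14, 14, 0, 0, 14, 14, 14, 14, 14, 0, 14, 14, 14, 14, 14, 14, 0, 14, 14, 14, 14, 14, 14, 0, 14, 14, 14, 14, 14, 14, 0, 14, 14, 14, 14, 14, 14, 0, 14, 14, 14, 14, 14, 14, 14]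

def lvlB1 : Lvl where
  X := [[], [7, 6, 5, 4, 3, 1, 2, 0, 3, 2, 4, 3, 1, 5, 4, 3, 2, 0, 6, 5, 4, 3, 1, 2, 3, 4, 5, 6, 7, 6, 5, 4, 3, 2, 1, 3, 4, 5, 6, 0, 2, 3, 4, 5, 1, 3, 4, 2, 3, 0, 2, 1, 3, 4, 5, 6, 7]]
  S := [[6], [5], [4], [3], [2], [1], [0]]
  v := 239
  P := [121, 123, 124, 126, 127, 128, 130, 131, 132, 133, 135, 136, 137, 138, 139, 141, 142, 143, 144, 145, 147, 148, 149, 150, 152, 153, 154, 156, 157, 159, 162, 163, 164, 165, 166, 167, 169, 170, 171, 172, 174, 175, 176, 178, 179, 181, 184, 185, 186, 188, 189, 191, 194, 195, 197, 200, 204, 205, 207, 210, 214, 219, 226]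
  tbl := [[(0, 1), (1, 1)], [(0, 2), (1, 2)], [(0, 3), (1, 3)], [(0, 4), (1, 4)], [(0, 5), (1, 5)], [(0, 6), (1, 6)], [(0, 7), (1, 7)], [(1, 0), (0, 0)]]

def lvlB2 : Lvl where
  X := [[], [0], [2, 0], [3, 2, 0], [4, 3, 2, 0], [1, 3, 2, 0], [5, 4, 3, 2, 0], [1, 4, 3, 2, 0], [6, 5, 4, 3, 2, 0], [1, 5, 4, 3, 2, 0], [3, 1, 4, 3, 2, 0], [1, 6, 5, 4, 3, 2, 0], [3, 1, 5, 4, 3, 2, 0], [2, 3, 1, 4, 3, 2, 0], [3, 1, 6, 5, 4, 3, 2, 0], [4, 3, 1, 5, 4, 3, 2, 0], [2, 3, 1, 5, 4, 3, 2, 0], [0, 2, 3, 1, 4, 3, 2, 0], [4, 3, 1, 6, 5, 4, 3, 2, 0], [2, 3, 1, 6, 5, 4, 3, 2, 0], [2, 4, 3, 1, 5, 4, 3, 2, 0], [0, 2, 3, 1, 5, 4, 3, 2, 0], [5, 4, 3, 1, 6, 5, 4, 3, 2, 0], [2, 4, 3, 1, 6, 5, 4, 3, 2, 0], [0, 2, 3, 1, 6, 5, 4, 3, 2, 0], [3, 2, 4, 3, 1, 5, 4, 3, 2, 0], [0, 2, 4, 3, 1, 5, 4, 3, 2, 0], [2,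 5, 4, 3, 1, 6, 5, 4, 3, 2, 0], [3, 2, 4, 3, 1, 6, 5, 4, 3, 2, 0], [0, 2, 4, 3, 1, 6, 5, 4, 3, 2, 0], [1, 3, 2, 4, 3, 1, 5, 4, 3, 2, 0], [0, 3, 2, 4, 3, 1, 5, 4, 3, 2, 0], [3, 2, 5, 4, 3, 1, 6, 5, 4, 3, 2, 0], [0, 2, 5, 4, 3, 1, 6, 5, 4, 3, 2, 0], [1, 3, 2, 4, 3, 1, 6, 5, 4, 3, 2, 0], [0, 3, 2, 4, 3, 1, 6, 5, 4, 3, 2, 0], [0, 1, 3, 2, 4, 3, 1, 5, 4, 3, 2, 0], [2, 0, 3, 2, 4, 3, 1, 5, 4, 3, 2, 0], [4, 3, 2, 5, 4, 3, 1, 6, 5, 4, 3, 2, 0], [1, 3, 2, 5, 4, 3, 1, 6, 5, 4, 3, 2, 0], [0, 3, 2, 5, 4, 3, 1, 6, 5, 4, 3, 2, 0], [0, 1, 3, 2, 4, 3, 1, 6, 5, 4, 3, 2, 0], [2, 0, 3, 2, 4, 3, 1, 6, 5, 4, 3, 2, 0], [2, 0, 1, 3, 2, 4, 3, 1, 5, 4, 3, 2, 0], [1, 4, 3, 2, 5, 4, 3, 1, 6, 5, 4, 3, 2, 0], [0, 4, 3, 2, 5, 4, 3, 1, 6, 5, 4, 3, 2, 0], [0, 1, 3, 2, 5, 4, 3, 1, 6, 5, 4, 3, 2, 0], [2, 0, 3,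 2, 5, 4, 3, 1, 6, 5, 4, 3, 2, 0], [2, 0, 1, 3, 2, 4, 3, 1, 6, 5, 4, 3, 2, 0], [3, 2, 0, 1, 3, 2, 4, 3, 1, 5, 4, 3, 2, 0], [3, 1, 4, 3, 2, 5, 4, 3, 1, 6, 5, 4, 3, 2, 0], [0, 1, 4, 3, 2, 5, 4, 3, 1, 6, 5, 4, 3, 2, 0], [2, 0, 4, 3, 2, 5, 4, 3, 1, 6, 5, 4, 3, 2, 0], [2, 0, 1, 3, 2, 5, 4, 3, 1, 6, 5, 4, 3, 2, 0], [3, 2, 0, 1, 3, 2, 4, 3, 1, 6, 5, 4, 3, 2, 0], [4, 3, 2, 0, 1, 3, 2, 4, 3, 1, 5, 4, 3, 2, 0], [2, 3, 1, 4, 3, 2, 5, 4, 3, 1, 6, 5, 4, 3, 2, 0], [0, 3, 1, 4, 3, 2, 5, 4, 3, 1, 6, 5, 4, 3, 2, 0], [2, 0, 1, 4, 3, 2, 5, 4, 3, 1, 6, 5, 4, 3, 2, 0], [3, 2, 0, 4, 3, 2, 5, 4, 3, 1, 6, 5, 4, 3, 2, 0], [3, 2, 0, 1, 3, 2, 5, 4, 3, 1, 6, 5, 4, 3, 2, 0], [4, 3, 2, 0, 1, 3, 2, 4, 3, 1, 6, 5, 4, 3, 2, 0], [5, 4, 3, 2, 0, 1, 3, 2, 4, 3, 1, 5, 4, 3, 2, 0], [0, 2, 3, 1, 4, 3, 2, 5, 4, 3,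 1, 6, 5, 4, 3, 2, 0], [2, 0, 3, 1, 4, 3, 2, 5, 4, 3, 1, 6, 5, 4, 3, 2, 0], [3, 2, 0, 1, 4, 3, 2, 5, 4, 3, 1, 6, 5, 4, 3, 2, 0], [1, 3, 2, 0, 4, 3, 2, 5, 4, 3, 1, 6, 5, 4, 3, 2, 0], [4, 3, 2, 0, 1, 3, 2, 5, 4, 3, 1, 6, 5, 4, 3, 2, 0], [5, 4, 3, 2, 0, 1, 3, 2, 4, 3, 1, 6, 5, 4, 3, 2, 0], [6, 5, 4, 3, 2, 0, 1, 3, 2, 4, 3, 1, 5, 4, 3, 2, 0], [2, 0, 2, 3, 1, 4, 3, 2, 5, 4, 3, 1, 6, 5, 4, 3, 2, 0], [3, 2, 0, 3, 1, 4, 3, 2, 5, 4, 3, 1, 6, 5, 4, 3, 2, 0], [4, 3, 2, 0, 1, 4, 3, 2, 5, 4, 3, 1, 6, 5, 4, 3, 2, 0], [1, 3, 2, 0, 1, 4, 3, 2, 5, 4, 3, 1, 6, 5, 4, 3, 2, 0], [5, 4, 3, 2, 0, 1, 3, 2, 5, 4, 3, 1, 6, 5, 4, 3, 2, 0], [6, 5, 4, 3, 2, 0, 1, 3, 2, 4, 3, 1, 6, 5, 4, 3, 2, 0], [3, 2, 0, 2, 3, 1, 4, 3, 2, 5, 4, 3, 1, 6, 5, 4, 3, 2, 0], [4, 3, 2, 0, 3, 1, 4, 3, 2, 5, 4, 3, 1, 6, 5, 4, 3,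 2, 0], [1, 3, 2, 0, 3, 1, 4, 3, 2, 5, 4, 3, 1, 6, 5, 4, 3, 2, 0], [5, 4, 3, 2, 0, 1, 4, 3, 2, 5, 4, 3, 1, 6, 5, 4, 3, 2, 0], [1, 4, 3, 2, 0, 1, 4, 3, 2, 5, 4, 3, 1, 6, 5, 4, 3, 2, 0], [6, 5, 4, 3, 2, 0, 1, 3, 2, 5, 4, 3, 1, 6, 5, 4, 3, 2, 0], [4, 3, 2, 0, 2, 3, 1, 4, 3, 2, 5, 4, 3, 1, 6, 5, 4, 3, 2, 0], [1, 3, 2, 0, 2, 3, 1, 4, 3, 2, 5, 4, 3, 1, 6, 5, 4, 3, 2, 0], [5, 4, 3, 2, 0, 3, 1, 4, 3, 2, 5, 4, 3, 1, 6, 5, 4, 3, 2, 0], [1, 4, 3, 2, 0, 3, 1, 4, 3, 2, 5, 4, 3, 1, 6, 5, 4, 3, 2, 0], [6, 5, 4, 3, 2, 0, 1, 4, 3, 2, 5, 4, 3, 1, 6, 5, 4, 3, 2, 0], [1, 5, 4, 3, 2, 0, 1, 4, 3, 2, 5, 4, 3, 1, 6, 5, 4, 3, 2, 0], [5, 4, 3, 2, 0, 2, 3, 1, 4, 3, 2, 5, 4, 3, 1, 6, 5, 4, 3, 2, 0], [1, 4, 3, 2, 0, 2, 3, 1, 4, 3, 2, 5, 4, 3, 1, 6, 5, 4, 3, 2, 0], [6, 5, 4, 3, 2, 0, 3, 1, 4, 3, 2, 5, 4,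 3, 1, 6, 5, 4, 3, 2, 0], [1, 5, 4, 3, 2, 0, 3, 1, 4, 3, 2, 5, 4, 3, 1, 6, 5, 4, 3, 2, 0], [3, 1, 4, 3, 2, 0, 3, 1, 4, 3, 2, 5, 4, 3, 1, 6, 5, 4, 3, 2, 0], [1, 6, 5, 4, 3, 2, 0, 1, 4, 3, 2, 5, 4, 3, 1, 6, 5, 4, 3, 2, 0], [6, 5, 4, 3, 2, 0, 2, 3, 1, 4, 3, 2, 5, 4, 3, 1, 6, 5, 4, 3, 2, 0], [1, 5, 4, 3, 2, 0, 2, 3, 1, 4, 3, 2, 5, 4, 3, 1, 6, 5, 4, 3, 2, 0], [3, 1, 4, 3, 2, 0, 2, 3, 1, 4, 3, 2, 5, 4, 3, 1, 6, 5, 4, 3, 2, 0], [1, 6, 5, 4, 3, 2, 0, 3, 1, 4, 3, 2, 5, 4, 3, 1, 6, 5, 4, 3, 2, 0], [3, 1, 5, 4, 3, 2, 0, 3, 1, 4, 3, 2, 5, 4, 3, 1, 6, 5, 4, 3, 2, 0], [1, 6, 5, 4, 3, 2, 0, 2, 3, 1, 4, 3, 2, 5, 4, 3, 1, 6, 5, 4, 3, 2, 0], [3, 1, 5, 4, 3, 2, 0, 2, 3, 1, 4, 3, 2, 5, 4, 3, 1, 6, 5, 4, 3, 2, 0], [2, 3, 1, 4, 3, 2, 0, 2, 3, 1, 4, 3, 2, 5, 4, 3, 1, 6, 5, 4, 3, 2, 0], [3, 1, 6, 5,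 4, 3, 2, 0, 3, 1, 4, 3, 2, 5, 4, 3, 1, 6, 5, 4, 3, 2, 0], [4, 3, 1, 5, 4, 3, 2, 0, 3, 1, 4, 3, 2, 5, 4, 3, 1, 6, 5, 4, 3, 2, 0], [3, 1, 6, 5, 4, 3, 2, 0, 2, 3, 1, 4, 3, 2, 5, 4, 3, 1, 6, 5, 4, 3, 2, 0], [4, 3, 1, 5, 4, 3, 2, 0, 2, 3, 1, 4, 3, 2, 5, 4, 3, 1, 6, 5, 4, 3, 2, 0], [2, 3, 1, 5, 4, 3, 2, 0, 2, 3, 1, 4, 3, 2, 5, 4, 3, 1, 6, 5, 4, 3, 2, 0], [4, 3, 1, 6, 5, 4, 3, 2, 0, 3, 1, 4, 3, 2, 5, 4, 3, 1, 6, 5, 4, 3, 2, 0], [4, 3, 1, 6, 5, 4, 3, 2, 0, 2, 3, 1, 4, 3, 2, 5, 4, 3, 1, 6, 5, 4, 3, 2, 0], [2, 3, 1, 6, 5, 4, 3, 2, 0, 2, 3, 1, 4, 3, 2, 5, 4, 3, 1, 6, 5, 4, 3, 2, 0], [2, 4, 3, 1, 5, 4, 3, 2, 0, 2, 3, 1, 4, 3, 2, 5, 4, 3, 1, 6, 5, 4, 3, 2, 0], [5, 4, 3, 1, 6, 5, 4, 3, 2, 0, 3, 1, 4, 3, 2, 5, 4, 3, 1, 6, 5, 4, 3, 2, 0], [5, 4, 3, 1, 6, 5, 4, 3, 2, 0, 2, 3, 1, 4, 3, 2, 5,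 4, 3, 1, 6, 5, 4, 3, 2, 0], [2, 4, 3, 1, 6, 5, 4, 3, 2, 0, 2, 3, 1, 4, 3, 2, 5, 4, 3, 1, 6, 5, 4, 3, 2, 0], [3, 2, 4, 3, 1, 5, 4, 3, 2, 0, 2, 3, 1, 4, 3, 2, 5, 4, 3, 1, 6, 5, 4, 3, 2, 0], [2, 5, 4, 3, 1, 6, 5, 4, 3, 2, 0, 2, 3, 1, 4, 3, 2, 5, 4, 3, 1, 6, 5, 4, 3, 2, 0], [3, 2, 4, 3, 1, 6, 5, 4, 3, 2, 0, 2, 3, 1, 4, 3, 2, 5, 4, 3, 1, 6, 5, 4, 3, 2, 0], [1, 3, 2, 4, 3, 1, 5, 4, 3, 2, 0, 2, 3, 1, 4, 3, 2, 5, 4, 3, 1, 6, 5, 4, 3, 2, 0], [3, 2, 5, 4, 3, 1, 6, 5, 4, 3, 2, 0, 2, 3, 1, 4, 3, 2, 5, 4, 3, 1, 6, 5, 4, 3, 2, 0], [1, 3, 2, 4, 3, 1, 6, 5, 4, 3, 2, 0, 2, 3, 1, 4, 3, 2, 5, 4, 3, 1, 6, 5, 4, 3, 2, 0], [4, 3, 2, 5, 4, 3, 1, 6, 5, 4, 3, 2, 0, 2, 3, 1, 4, 3, 2, 5, 4, 3, 1, 6, 5, 4, 3, 2, 0], [1, 3, 2, 5, 4, 3, 1, 6, 5, 4, 3, 2, 0, 2, 3, 1, 4, 3, 2, 5, 4, 3, 1, 6, 5, 4, 3, 2, 0],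 [1, 4, 3, 2, 5, 4, 3, 1, 6, 5, 4, 3, 2, 0, 2, 3, 1, 4, 3, 2, 5, 4, 3, 1, 6, 5, 4, 3, 2, 0], [3, 1, 4, 3, 2, 5, 4, 3, 1, 6, 5, 4, 3, 2, 0, 2, 3, 1, 4, 3, 2, 5, 4, 3, 1, 6, 5, 4, 3, 2, 0], [2, 3, 1, 4, 3, 2, 5, 4, 3, 1, 6, 5, 4, 3, 2, 0, 2, 3, 1, 4, 3, 2, 5, 4, 3, 1, 6, 5, 4, 3, 2, 0], [0, 2, 3, 1, 4, 3, 2, 5, 4, 3, 1, 6, 5, 4, 3, 2, 0, 2, 3, 1, 4, 3, 2, 5, 4, 3, 1, 6, 5, 4, 3, 2, 0]]
  S := [[6], [5], [4], [3], [2], [1]]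
  v := 226
  P := [121, 123, 124, 126, 127, 128, 130, 131, 132, 133, 135, 136, 137, 138, 139, 141, 142, 143, 144, 145, 147, 148, 149, 150, 152, 153, 154, 156, 157, 159]
  tbl := [[(0, 1), (1, 1), (2, 1), (3, 1), (4, 1), (5, 1), (8, 0), (7, 1), (6, 0), (11, 0), (10, 1), (9, 0), (14, 0), (13, 1), (12, 0), (18, 0), (19, 0), (17, 1), (15, 0), (16, 0), (23, 0), (24, 0), (22, 6), (20, 0), (21, 0), (28, 0), (29, 0), (27, 6), (25, 0), (26, 0), (34, 0), (35, 0), (32, 6), (33, 6), (30, 0), (31, 0), (41, 0), (42, 0), (38, 6), (39, 6), (40, 6), (36, 0), (37, 0), (48, 0), (44, 6), (45, 6), (46, 6), (47, 6), (43, 0), (54, 0), (50, 6), (51, 6), (52, 6), (53, 6), (49, 0), (61, 0), (56, 6), (57, 6), (58, 6), (59, 6), (60, 6), (55, 0), (69, 0), (63, 6), (64, 6), (65, 6), (66, 6), (67, 6), (75,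 0), (62, 0), (70, 6), (71, 6), (72, 6), (73, 6), (81, 0), (68, 0), (76, 6), (77, 6), (78, 6), (86, 0), (80, 6), (74, 0), (82, 6), (83, 6), (90, 0), (85, 6), (79, 0), (93, 0), (94, 0), (89, 6), (84, 0), (97, 0), (92, 6), (87, 0), (88, 0), (99, 0), (96, 6), (91, 0), (102, 0), (95, 0), (104, 0), (101, 6), (98, 0), (107, 0), (100, 0), (108, 0), (109, 0), (103, 0), (105, 0), (106, 0), (113, 0), (111, 1), (112, 1), (110, 0), (116, 0), (115, 1), (114, 0), (119, 0), (118, 1), (117, 0), (120, 1), (121, 1), (122, 1), (123, 1), (124, 1), (125, 1)], [(0, 2), (1, 2), (2, 2), (3, 2), (6, 0), (5, 2), (4, 0), (9, 0), (8, 1), (7, 0), (12, 0), (11, 1), (10, 0), (16, 0), (14, 1), (15, 6), (13, 0), (21, 0), (22, 0), (19, 1), (20, 6), (17, 0), (18, 0), (27, 0), (24, 1), (25, 6), (26, 6), (23, 0),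 (32, 0), (33, 0), (30, 6), (31, 6), (28, 0), (29, 0), (39, 0), (40, 0), (36, 6), (37, 6), (38, 4), (34, 0), (35, 0), (46, 0), (47, 0), (43, 6), (44, 4), (45, 4), (41, 0), (42, 0), (53, 0), (49, 6), (50, 4), (51, 4), (52, 4), (48, 0), (60, 0), (62, 0), (56, 4), (57, 4), (58, 4), (59, 4), (54, 0), (68, 0), (55, 0), (63, 4), (64, 4), (65, 4), (66, 4), (74, 0), (61, 0), (75, 0), (70, 4), (71, 4), (79, 0), (73, 4), (67, 0), (69, 0), (76, 4), (84, 0), (78, 4), (72, 0), (87, 0), (81, 6), (88, 0), (83, 4), (77, 0), (91, 0), (86, 6), (80, 0), (82, 0), (95, 0), (90, 6), (85, 0), (98, 0), (93, 6), (94, 6), (89, 0), (100, 0), (97, 6), (92, 0), (99, 6), (96, 0), (106, 0), (102, 6), (103, 1), (104, 6), (105, 1), (101, 0), (111, 0), (112, 0), (109, 6), (110, 1), (107, 0), (108, 0), (115, 0),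 (114, 1), (113, 0), (118, 0), (117, 1), (116, 0), (121, 0), (120, 2), (119, 0), (122, 2), (123, 2), (124, 2), (125, 2)], [(0, 3), (1, 3), (2, 3), (4, 0), (3, 0), (7, 0), (6, 2), (5, 0), (8, 2), (9, 2), (10, 6), (11, 2), (15, 0), (13, 6), (18, 0), (12, 0), (20, 0), (17, 6), (14, 0), (23, 0), (16, 0), (26, 0), (22, 1), (19, 0), (29, 0), (25, 4), (21, 0), (27, 1), (28, 4), (24, 0), (30, 4), (31, 4), (38, 0), (33, 1), (34, 4), (35, 4), (36, 4), (37, 4), (32, 0), (44, 0), (45, 0), (41, 4), (42, 4), (43, 4), (39, 0), (40, 0), (51, 0), (52, 0), (48, 4), (55, 0), (50, 3), (46, 0), (47, 0), (58, 0), (61, 0), (49, 0), (56, 3), (57, 3), (53, 0), (59, 5), (67, 0), (54, 0), (62, 6), (63, 3), (64, 3), (72, 0), (66, 5), (60, 0), (74, 0), (69, 6), (70, 3), (77, 0), (65, 0), (80, 0), (68, 0),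 (81, 0), (82, 0), (71, 0), (85, 0), (79, 4), (73, 0), (75, 0), (76, 0), (89, 0), (84, 4), (78, 0), (86, 4), (87, 4), (88, 4), (83, 0), (90, 4), (91, 4), (92, 1), (93, 4), (94, 4), (95, 4), (96, 1), (97, 4), (103, 0), (99, 4), (105, 0), (101, 1), (107, 0), (98, 0), (108, 0), (100, 0), (110, 0), (102, 0), (104, 0), (113, 0), (106, 0), (111, 6), (112, 6), (109, 0), (114, 2), (115, 6), (116, 2), (117, 2), (120, 0), (119, 2), (118, 0), (122, 0), (121, 0), (123, 3), (124, 3), (125, 3)], [(0, 4), (1, 4), (3, 0), (2, 0), (4, 3), (5, 6), (6, 3), (10, 0), (8, 3), (12, 0), (7, 0), (14, 0), (9, 0), (13, 4), (11, 0), (15, 2), (16, 4), (17, 4), (18, 2), (19, 4), (25, 0), (21, 4), (22, 2), (28, 0), (24, 4), (20, 0), (31, 0), (32, 0), (23, 0), (35, 0), (30, 3), (26, 0), (27, 0), (40, 0), (34,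 3), (29, 0), (36, 3), (37, 5), (38, 1), (39, 3), (33, 0), (41, 3), (42, 5), (49, 0), (50, 0), (45, 1), (46, 3), (47, 5), (54, 0), (43, 0), (44, 0), (57, 0), (59, 0), (60, 0), (48, 0), (55, 4), (56, 2), (51, 0), (65, 0), (52, 0), (53, 0), (61, 4), (62, 4), (63, 2), (71, 0), (58, 0), (73, 0), (72, 0), (68, 4), (69, 4), (76, 0), (64, 0), (67, 0), (66, 0), (79, 0), (75, 4), (70, 0), (77, 3), (78, 1), (74, 0), (80, 5), (86, 0), (82, 3), (83, 1), (84, 3), (92, 0), (81, 0), (87, 5), (88, 3), (96, 0), (90, 3), (98, 0), (85, 0), (93, 5), (94, 3), (100, 0), (89, 0), (102, 0), (91, 0), (104, 0), (95, 0), (101, 2), (97, 0), (103, 4), (99, 0), (105, 4), (106, 2), (107, 4), (108, 4), (109, 2), (114, 0), (111, 4), (112, 4), (116, 0), (110, 0), (118, 0), (113, 0), (117, 3), (115, 0), (119,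 3), (120, 6), (121, 3), (123, 0), (122, 0), (124, 4), (125, 4)], [(0, 5), (2, 0), (1, 0), (3, 4), (4, 4), (5, 4), (6, 4), (7, 4), (8, 4), (9, 4), (13, 0), (11, 4), (16, 0), (10, 0), (19, 0), (20, 0), (12, 0), (17, 5), (23, 0), (14, 0), (15, 0), (21, 5), (27, 0), (18, 0), (24, 5), (25, 2), (26, 5), (22, 0), (28, 2), (29, 5), (30, 2), (37, 0), (32, 2), (33, 5), (34, 2), (42, 0), (43, 0), (31, 0), (38, 2), (39, 2), (47, 0), (48, 0), (35, 0), (36, 0), (44, 2), (52, 0), (53, 0), (40, 0), (41, 0), (49, 3), (56, 0), (58, 0), (45, 0), (46, 0), (54, 3), (55, 3), (50, 0), (64, 0), (51, 0), (59, 1), (60, 3), (61, 3), (62, 3), (70, 0), (57, 0), (71, 0), (66, 1), (67, 3), (68, 3), (69, 3), (63, 0), (65, 0), (77, 0), (78, 0), (74, 3), (75, 3), (76, 2), (72, 0), (73, 0), (84, 0), (85, 0),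 (81, 3), (82, 2), (83, 2), (79, 0), (80, 0), (90, 0), (91, 0), (88, 2), (89, 2), (86, 0), (87, 0), (92, 5), (97, 0), (94, 2), (95, 2), (101, 0), (93, 0), (98, 5), (99, 2), (106, 0), (96, 0), (102, 5), (103, 5), (109, 0), (110, 0), (100, 0), (107, 5), (113, 0), (104, 0), (105, 0), (111, 5), (115, 0), (108, 0), (114, 4), (112, 0), (116, 4), (117, 4), (118, 4), (119, 4), (120, 4), (121, 4), (122, 4), (124, 0), (123, 0), (125, 5)], [(0, 6), (1, 6), (2, 6), (5, 0), (7, 0), (3, 0), (9, 0), (4, 0), (11, 0), (6, 0), (10, 3), (8, 0), (12, 3), (13, 3), (14, 3), (15, 3), (16, 3), (17, 3), (18, 3), (19, 3), (20, 3), (21, 3), (22, 3), (23, 3), (24, 3), (30, 0), (26, 3), (27, 3), (34, 0), (29, 3), (25, 0), (36, 0), (39, 0), (33, 3), (28, 0), (41, 0), (31, 0), (43, 0), (44, 0), (32, 0), (46,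 0), (35, 0), (48, 0), (37, 0), (38, 0), (51, 0), (40, 0), (53, 0), (42, 0), (49, 5), (50, 1), (45, 0), (58, 0), (47, 0), (54, 5), (55, 5), (56, 1), (57, 1), (52, 0), (66, 0), (60, 5), (61, 5), (62, 5), (63, 1), (64, 1), (73, 0), (59, 0), (67, 5), (68, 5), (69, 5), (70, 1), (78, 0), (80, 0), (65, 0), (74, 5), (75, 5), (83, 0), (85, 0), (71, 0), (87, 0), (72, 0), (81, 5), (89, 0), (76, 0), (91, 0), (77, 0), (93, 0), (79, 0), (95, 0), (82, 0), (97, 0), (84, 0), (92, 3), (86, 0), (99, 0), (88, 0), (96, 3), (90, 0), (98, 3), (94, 0), (100, 3), (101, 3), (102, 3), (103, 3), (104, 3), (105, 3), (106, 3), (107, 3), (108, 3), (109, 3), (110, 3), (111, 3), (112, 3), (113, 3), (117, 0), (115, 3), (119, 0), (114, 0), (121, 0), (116, 0), (122, 0), (118, 0), (120, 0), (123, 6), (124, 6),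 (125, 6)], [(1, 0), (0, 0), (2, 5), (3, 5), (4, 5), (5, 5), (6, 5), (7, 5), (8, 5), (9, 5), (10, 5), (11, 5), (12, 5), (17, 0), (14, 5), (15, 5), (21, 0), (13, 0), (18, 5), (24, 0), (26, 0), (16, 0), (22, 5), (29, 0), (19, 0), (31, 0), (20, 0), (33, 0), (35, 0), (23, 0), (36, 0), (25, 0), (40, 0), (27, 0), (41, 0), (28, 0), (30, 0), (37, 2), (45, 0), (46, 0), (32, 0), (34, 0), (42, 2), (43, 2), (51, 0), (38, 0), (39, 0), (47, 2), (48, 2), (49, 2), (57, 0), (44, 0), (52, 2), (53, 2), (54, 2), (55, 2), (63, 0), (50, 0), (58, 2), (59, 2), (60, 2), (61, 2), (62, 2), (56, 0), (70, 0), (65, 2), (66, 2), (67, 2), (68, 2), (69, 2), (64, 0), (76, 0), (72, 2), (73, 2), (74, 2), (75, 2), (71, 0), (82, 0), (83, 0), (79, 2), (80, 2), (81, 2), (77, 0), (78, 0), (88, 0), (89, 0), (86, 2),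 (87, 2), (84, 0), (85, 0), (94, 0), (95, 0), (96, 0), (93, 2), (90, 0), (91, 0), (92, 0), (99, 0), (100, 0), (97, 0), (98, 0), (101, 5), (104, 0), (105, 0), (102, 0), (103, 0), (106, 5), (108, 0), (107, 0), (109, 5), (110, 5), (112, 0), (111, 0), (113, 5), (114, 5), (115, 5), (116, 5), (117, 5), (118, 5), (119, 5), (120, 5), (121, 5), (122, 5), (123, 5), (125, 0), (124, 0)]]

def lvlB3 : Lvl where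
  X := [[], [5], [6, 5], [4, 5], [4, 6, 5], [3, 4, 5], [5, 4, 6, 5], [3, 4, 6, 5], [2, 3, 4, 5], [1, 3, 4, 5], [3, 5, 4, 6, 5], [2, 3, 4, 6, 5], [1, 3, 4, 6, 5], [1, 2, 3, 4, 5], [4, 3, 5, 4, 6, 5], [2, 3, 5, 4, 6, 5], [1, 3, 5, 4, 6, 5], [1, 2, 3, 4, 6, 5], [3, 1, 2, 3, 4, 5], [2, 4, 3, 5, 4, 6, 5], [1, 4, 3, 5, 4, 6, 5], [1, 2, 3, 5, 4, 6, 5], [3, 1, 2, 3, 4, 6, 5], [4, 3, 1, 2, 3, 4, 5], [3, 2, 4, 3, 5, 4, 6, 5], [1, 2, 4, 3, 5, 4, 6, 5], [3, 1, 4, 3, 5, 4, 6, 5], [3, 1, 2, 3, 5, 4, 6, 5], [4, 3, 1, 2, 3, 4, 6, 5], [5, 4, 3, 1, 2, 3, 4, 5], [1, 3, 2, 4, 3, 5, 4, 6, 5], [3, 1, 2, 4, 3, 5, 4, 6, 5], [2, 3, 1, 4, 3, 5, 4, 6, 5], [4, 3, 1, 2, 3, 5, 4, 6, 5], [5, 4, 3, 1, 2, 3, 4, 6, 5], [6, 5, 4, 3, 1, 2, 3, 4, 5], [3, 1, 3, 2, 4, 3, 5, 4, 6, 5], [4, 3, 1, 2, 4, 3, 5, 4, 6, 5],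 [2, 3, 1, 2, 4, 3, 5, 4, 6, 5], [5, 4, 3, 1, 2, 3, 5, 4, 6, 5], [6, 5, 4, 3, 1, 2, 3, 4, 6, 5], [4, 3, 1, 3, 2, 4, 3, 5, 4, 6, 5], [2, 3, 1, 3, 2, 4, 3, 5, 4, 6, 5], [5, 4, 3, 1, 2, 4, 3, 5, 4, 6, 5], [2, 4, 3, 1, 2, 4, 3, 5, 4, 6, 5], [6, 5, 4, 3, 1, 2, 3, 5, 4, 6, 5], [5, 4, 3, 1, 3, 2, 4, 3, 5, 4, 6, 5], [2, 4, 3, 1, 3, 2, 4, 3, 5, 4, 6, 5], [6, 5, 4, 3, 1, 2, 4, 3, 5, 4, 6, 5], [2, 5, 4, 3, 1, 2, 4, 3, 5, 4, 6, 5], [6, 5, 4, 3, 1, 3, 2, 4, 3, 5, 4, 6, 5], [2, 5, 4, 3, 1, 3, 2, 4, 3, 5, 4, 6, 5], [3, 2, 4, 3, 1, 3, 2, 4, 3, 5, 4, 6, 5], [2, 6, 5, 4, 3, 1, 2, 4, 3, 5, 4, 6, 5], [2, 6, 5, 4, 3, 1, 3, 2, 4, 3, 5, 4, 6, 5], [3, 2, 5, 4, 3, 1, 3, 2, 4, 3, 5, 4, 6, 5], [3, 2, 6, 5, 4, 3, 1, 3, 2, 4, 3, 5, 4, 6, 5], [4, 3, 2, 5, 4, 3, 1, 3, 2, 4, 3, 5, 4, 6, 5], [4, 3, 2, 6, 5,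 4, 3, 1, 3, 2, 4, 3, 5, 4, 6, 5], [5, 4, 3, 2, 6, 5, 4, 3, 1, 3, 2, 4, 3, 5, 4, 6, 5]]
  S := [[6], [4], [3], [2], [1]]
  v := 159
  P := [121, 126, 130, 131, 135, 136, 137, 141, 142, 143, 147, 148, 152]
  tbl := [[(0, 1), (2, 0), (1, 0), (4, 0), (3, 0), (7, 0), (6, 2), (5, 0), (11, 0), (12, 0), (10, 2), (8, 0), (9, 0), (17, 0), (14, 2), (15, 2), (16, 2), (13, 0), (22, 0), (19, 2), (20, 2), (21, 2), (18, 0), (28, 0), (24, 2), (25, 2), (26, 2), (27, 2), (23, 0), (35, 0), (30, 2), (31, 2), (32, 2), (33, 2), (40, 0), (29, 0), (36, 2), (37, 2), (38, 2), (45, 0), (34, 0), (41, 2), (42, 2), (48, 0), (44, 2), (39, 0), (50, 0), (47, 2), (43, 0), (53, 0), (46, 0), (54, 0), (52, 2), (49, 0), (51, 0), (56, 0), (55, 0), (58, 0), (57, 0), (59, 1)], [(1, 0), (0, 0), (2, 1), (3, 2), (6, 0),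 (5, 2), (4, 0), (10, 0), (8, 2), (9, 2), (7, 0), (15, 0), (16, 0), (13, 2), (14, 3), (11, 0), (12, 0), (21, 0), (18, 2), (19, 3), (20, 3), (17, 0), (27, 0), (29, 0), (24, 3), (25, 3), (26, 3), (22, 0), (34, 0), (23, 0), (30, 3), (31, 3), (32, 3), (39, 0), (28, 0), (40, 0), (36, 3), (43, 0), (38, 3), (33, 0), (35, 0), (46, 0), (42, 3), (37, 0), (49, 0), (45, 2), (41, 0), (51, 0), (48, 2), (44, 0), (50, 2), (47, 0), (55, 0), (53, 2), (54, 2), (52, 0), (56, 2), (57, 1), (59, 0), (58, 0)], [(0, 2), (3, 0), (4, 0), (1, 0), (2, 0), (5, 3), (6, 1), (7, 3), (8, 3), (9, 3), (14, 0), (11, 3), (12, 3), (13, 3), (10, 0), (19, 0), (20, 0), (17, 3), (23, 0), (15, 0), (16, 0), (25, 0), (28, 0), (18, 0), (24, 4), (21, 0), (26, 5), (33, 0), (22, 0), (29, 2), (30, 4), (37, 0), (32, 5), (27, 0),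 (39, 0), (35, 2), (41, 0), (31, 0), (44, 0), (34, 0), (45, 0), (36, 0), (47, 0), (43, 3), (38, 0), (40, 0), (46, 3), (42, 0), (48, 3), (49, 3), (50, 3), (51, 3), (52, 1), (53, 3), (54, 3), (57, 0), (58, 0), (55, 0), (56, 0), (59, 2)], [(0, 3), (1, 3), (2, 3), (5, 0), (7, 0), (3, 0), (10, 0), (4, 0), (8, 4), (9, 5), (6, 0), (11, 4), (12, 5), (18, 0), (14, 1), (15, 4), (16, 5), (22, 0), (13, 0), (24, 0), (26, 0), (27, 0), (17, 0), (23, 3), (19, 0), (31, 0), (20, 0), (21, 0), (28, 3), (29, 3), (36, 0), (25, 0), (38, 0), (37, 0), (34, 3), (35, 3), (30, 0), (33, 0), (32, 0), (43, 0), (40, 3), (41, 4), (42, 1), (39, 0), (44, 5), (48, 0), (46, 4), (52, 0), (45, 0), (49, 5), (50, 4), (55, 0), (47, 0), (53, 5), (56, 0), (51, 0), (54, 0), (57, 3), (58, 3), (59, 3)], [(0, 4), (1, 4), (2,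 4), (3, 4), (4, 4), (8, 0), (6, 4), (11, 0), (5, 0), (13, 0), (15, 0), (7, 0), (17, 0), (9, 0), (19, 0), (10, 0), (21, 0), (12, 0), (18, 5), (14, 0), (25, 0), (16, 0), (22, 5), (23, 5), (24, 1), (20, 0), (32, 0), (27, 5), (28, 5), (29, 5), (30, 1), (38, 0), (26, 0), (33, 5), (34, 5), (35, 5), (42, 0), (44, 0), (31, 0), (39, 5), (40, 5), (47, 0), (36, 0), (49, 0), (37, 0), (45, 5), (51, 0), (41, 0), (53, 0), (43, 0), (54, 0), (46, 0), (52, 4), (48, 0), (50, 0), (55, 4), (56, 4), (57, 4), (58, 4), (59, 4)], [(0, 5), (1, 5), (2, 5), (3, 5), (4, 5), (9, 0), (6, 5), (12, 0), (13, 0), (5, 0), (16, 0), (17, 0), (7, 0), (8, 0), (20, 0), (21, 0), (10, 0), (11, 0), (18, 4), (25, 0), (14, 0), (15, 0), (22, 4), (23, 4), (30, 0), (19, 0), (26, 1), (27, 4), (28, 4), (29, 4), (24, 0), (36,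 0), (32, 1), (33, 4), (34, 4), (35, 4), (31, 0), (41, 0), (42, 0), (39, 4), (40, 4), (37, 0), (38, 0), (46, 0), (47, 0), (45, 4), (43, 0), (44, 0), (50, 0), (51, 0), (48, 0), (49, 0), (52, 5), (54, 0), (53, 0), (55, 5), (56, 5), (57, 5), (58, 5), (59, 5)]]

def lvlB4 : Lvl where
  X := [[], [3], [4, 3], [2, 3], [1, 3], [2, 4, 3], [1, 4, 3], [1, 2, 3], [3, 2, 4, 3], [1, 2, 4, 3], [3, 1, 4, 3], [3, 1, 2, 3], [1, 3, 2, 4, 3], [3, 1, 2, 4, 3], [2, 3, 1, 4, 3], [4, 3, 1, 2, 3], [3, 1, 3, 2, 4, 3], [4, 3, 1, 2, 4, 3], [2, 3, 1, 2, 4, 3], [4, 3, 1, 3, 2, 4, 3], [2, 3, 1, 3, 2, 4, 3], [2, 4, 3, 1, 2, 4, 3], [2, 4, 3, 1, 3, 2, 4, 3], [3, 2, 4, 3, 1, 3, 2, 4, 3]]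
  S := [[6], [4], [2], [1]]
  v := 152
  P := [121, 126, 135, 141]
  tbl := [[(0, 1), (1, 1), (2, 1), (3, 1), (4, 1), (5, 1), (6, 1), (7, 1), (8, 1), (9, 1), (10, 1), (11, 1), (12, 1), (13, 1), (14, 1), (15, 1), (16, 1), (17, 1), (18, 1), (19, 1), (20, 1), (21, 1), (22, 1), (23, 1)], [(0, 2), (2, 0), (1, 0), (5, 0), (6, 0), (3, 0), (4, 0), (9, 0), (8, 3), (7, 0), (10, 4), (15, 0), (12, 3), (17, 0), (14, 4), (11, 0), (19, 0), (13, 0), (21, 0), (16, 0), (22, 0), (18, 0), (20, 0), (23, 2)], [(1, 0), (0, 0), (2, 2), (3, 3), (4, 4), (8, 0), (10, 0), (11, 0), (5, 0), (13, 0), (6, 0), (7, 0), (16, 0), (9, 0), (18, 0), (17, 0), (12, 0), (15, 0), (14, 0), (19, 3), (20, 2), (21, 4), (23, 0), (22, 0)], [(0, 3), (3, 0), (5, 0), (1, 0), (7, 0), (2, 0), (9, 0), (4, 0), (8, 2), (6, 0), (14,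 0), (11, 4), (12, 2), (18, 0), (10, 0), (15, 4), (20, 0), (21, 0), (13, 0), (22, 0), (16, 0), (17, 0), (19, 0), (23, 3)], [(0, 4), (4, 0), (6, 0), (7, 0), (1, 0), (9, 0), (2, 0), (3, 0), (12, 0), (5, 0), (10, 2), (11, 3), (8, 0), (16, 0), (14, 2), (15, 3), (13, 0), (19, 0), (20, 0), (17, 0), (18, 0), (22, 0), (21, 0), (23, 4)]]

def lvlB5 : Lvl where
  X := [[], [1]]
  S := [[6], [4], [2]]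
  v := 141
  P := [121, 126, 135]
  tbl := [[(0, 1), (1, 1)], [(0, 2), (1, 2)], [(0, 3), (1, 3)], [(1, 0), (0, 0)]]

def lvlB6 : Lvl where
  X := [[], [2]]
  S := [[6], [4]]
  v := 135
  P := [121, 126]
  tbl := [[(0, 1), (1, 1)], [(0, 2), (1, 2)], [(1, 0), (0, 0)]]

def lvlB7 : Lvl where
  X := [[], [4]]
  S := [[6]]
  v := 126
  P := [121]
  tbl := [[(0, 1), (1, 1)], [(1, 0), (0, 0)]]

def lvlB8 : Lvl where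
  X := [[], [6]]
  S := []
  v := 121
  P := []
  tbl := [[(1, 0), (0, 0)]]

def lvlsB : List Lvl := [lvlB1, lvlB2, lvlB3, lvlB4, lvlB5, lvlB6, lvlB7, lvlB8]

def cntsB : List (List ℕ) := [[0, 1], [0, 1, 2, 3, 4, 4, 5, 5, 6, 6, 6, 7, 7, 7, 8, 8, 8, 8, 9, 9, 9, 9, 10, 10, 10, 10, 10, 11, 11, 11, 11, 11, 12, 12, 12, 12, 12, 12, 13, 13, 13, 13, 13, 13, 14, 14, 14, 14, 14, 14, 15, 15, 15, 15, 15, 15, 16, 16, 16, 16, 16, 16, 16, 17, 17, 17, 17, 17, 17, 17, 18, 18, 18, 18, 18, 18, 19, 19, 19, 19, 19, 19, 20, 20, 20, 20, 20, 20, 21, 21, 21, 21, 21, 21, 22, 22, 22, 22, 22, 23, 23, 23, 23, 23, 24, 24, 24, 24, 25, 25, 25, 25, 26, 26, 26, 27, 27, 27, 28, 28, 29, 29, 30, 31, 32, 33], [0, 1, 2, 2, 3, 3, 4, 4, 4, 4, 5, 5, 5, 5, 6, 6, 6, 6, 6, 7, 7, 7, 7, 7, 8, 8, 8, 8, 8, 8, 9, 9, 9, 9, 9,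 9, 10, 10, 10, 10, 10, 11, 11, 11, 11, 11, 12, 12, 12, 12, 13, 13, 13, 13, 14, 14, 15, 15, 16, 17], [0, 1, 2, 2, 2, 3, 3, 3, 4, 4, 4, 4, 5, 5, 5, 5, 6, 6, 6, 7, 7, 7, 8, 9], [0, 1], [0, 1], [0, 1], [0, 1]]

end Cfsg.Agent.Lib.Helper3.E8Inv
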