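import Mathlib
import Cfsg.Agent.Lib.Helper8.E8CoreDefs
import Cfsg.Agent.Lib.Helper5.ChevW0

set_option autoImplicit false
set_option maxHeartbeats 4000000

/-!
# Farm E8CORE (S5751), unit BR: the two descriptions of `M₁`
-/

namespace Cfsg.Agent.Lib.Helper3.E8Core

open Cfsg Cfsg.Lie Cfsg.Agent.Lib.Helper5.ChevStruct Cfsg.Agent.Lib.Helper5.ChevSym
  Cfsg.Agent.Lib.Helper8.E8Core

theorem BR_M1_eq :
    M1 = (chevE8.parabolicSubgroup F2 JN).subgroupOf (chevE8.group F2) := by
  symm
  unfold M1 ChevalleyDatum.parabolicSubgroup BNPair.parabolic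
  have hT : {g : GL chevE8.Idx F2 | ∃ j ∈ JN, j < chevE8.rank ∧
      (g : Matrix chevE8.Idx chevE8.Idx F2) = chevE8.nMat F2 (chevE8.simple j) 1}
      = (chevE8.group F2).subtype '' JS := by
    ext g
    constructor
    · rintro ⟨j, hj, hjr, hg⟩
      refine ⟨sG j hjr, ⟨j, hjr, hj, rfl⟩, ?_⟩
      exact Units.ext (by rw [hg]; exact nGL_val chevE8 hE8 j)
    · rintro ⟨n, ⟨j, hjr, hj, rfl⟩, rfl⟩
      exact ⟨j, hj, hjr, nGL_val chevE8 hE8 j⟩
  rw [hT]
  have hcl : Subgroup.closure ((chevE8.group F2).subtype '' JS) ≤ chevE8.group F2 := by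
    rw [Subgroup.closure_le]
    rintro x ⟨n, -, rfl⟩
    exact n.2
  rw [Subgroup.subgroupOf_sup (borel_le_group chevE8 hE8) hcl]
  have h5 : Subgroup.closure ((chevE8.group F2).subtype '' JS)
      = (Subgroup.closure JS).map (chevE8.group F2).subtype := by
    rw [MonoidHom.map_closure]
  have h6 : (Subgroup.closure ((chevE8.group F2).subtype '' JS)).subgroupOf (chevE8.group F2)
      = Subgroup.closure JS := by
    rw [h5]
    unfold Subgroup.subgroupOf
    exact Subgroup.comap_map_eq_self_of_injective (Subgroup.subtype_injective _) _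
  rw [h6]
  rfl

end Cfsg.Agent.Lib.Helper3.E8Core
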