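import Mathlib
import Cfsg.Agent.Lib.Helper8.E8CoreDefs
import Cfsg.Agent.Lib.Helper4.BNPair2
import Cfsg.Agent.Lib.Helper5.ChevSimple

set_option autoImplicit false
set_option maxHeartbeats 4000000

/-!
# Farm E8CORE (S5751), unit MAX: the maximal parabolic subgroup `M₁` of `E₈(2)` is a core-free maximal subgroup,
and its conjugate `M₂` under `s₃` is different from it.
-/

namespace Cfsg.Agent.Lib.Helper3.E8Core

open Cfsg Cfsg.Lie Cfsg.Agent.Lib.Helper5.ChevStruct Cfsg.Agent.Lib.Helper5.ChevSym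
  Cfsg.Agent.Lib.Helper8.E8Core Cfsg.Agent.Lib.Helper4.BNPair

theorem sG_coe (i : ℕ) (hi : i < chevE8.rank) : ((sG i hi : GE) : GL chevE8.Idx F2) = nGL chevE8 hE8 i :=
  rfl

theorem sG_mem_S (i : ℕ) (hi : i < chevE8.rank) : sG i hi ∈ PE.S :=
  ⟨i, hi, nGL_val chevE8 hE8 i⟩

theorem mem_S_iff (n : GE) : n ∈ PE.S ↔ ∃ i, ∃ hi : i < chevE8.rank, n = sG i hi := by
  constructor
  · rintro ⟨i, hi, hn⟩
    refine ⟨i, hi, ?_⟩
    apply Subtype.ext
    apply Units.ext
    rw [hn, sG_coe, nGL_val]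
  · rintro ⟨i, hi, rfl⟩
    exact sG_mem_S i hi

theorem sG_inj {i j : ℕ} (hi : i < chevE8.rank) (hj : j < chevE8.rank) (h : sG i hi = sG j hj) :
    i = j := by
  apply nGL_inj (F := F2) chevE8 hE8 i j hi hj
  have : (nGL chevE8 hE8 i : GL chevE8.Idx F2) = nGL chevE8 hE8 j := by
    rw [← sG_coe i hi, ← sG_coe j hj, h]
  rw [this, inv_mul_cancel]
  exact one_mem _

theorem JS_sub : JS ⊆ PE.S := by
  rintro n ⟨i, hi, -, rfl⟩
  exact sG_mem_S i hi

theorem B_le_M1 : PE.B ≤ M1 := B_le_parabolic (P := PE) JS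

theorem MAX_s3_not_mem : s3 ∉ M1 := by
  intro h
  have h1 : s3 ∈ JS := mem_of_mem_parabolic (P := PE) JS_sub (sG_mem_S node node_lt) h
  obtain ⟨i, hi, hne, e⟩ := h1
  exact hne (sG_inj node_lt hi e).symm

theorem parabolic_S_eq_top : PE.parabolic PE.S = ⊤ := by
  rw [eq_top_iff, ← PE.sup_eq_top]
  apply sup_le (B_le_parabolic (P := PE) PE.S)
  rw [← PE.closure_sup]
  apply sup_le (closure_le_parabolic (P := PE) PE.S)
  exact inf_le_left.trans (B_le_parabolic (P := PE) PE.S)

theorem MAX_isCoatom : IsCoatom M1 := by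
  constructor
  · intro h
    exact MAX_s3_not_mem (h ▸ Subgroup.mem_top _)
  · intro M hM
    have hBM : PE.B ≤ M := B_le_M1.trans hM.le
    have hMeq := eq_parabolic_of_le (P := PE) hBM
    set K : Set GE := {s | s ∈ PE.S ∧ s ∈ M} with hK
    have hKS : K ⊆ PE.S := fun s hs => hs.1
    have hJK : JS ⊆ K := fun s hs =>
      ⟨JS_sub hs, hM.le (closure_le_parabolic (P := PE) JS (Subgroup.subset_closure hs))⟩
    -- `s3 ∈ K`
    have hs3 : s3 ∈ K := by
      by_contra hnot
      have hKJ : K ⊆ JS := by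
        rintro s ⟨hsS, hsM⟩
        obtain ⟨i, hi, rfl⟩ := (mem_S_iff s).1 hsS
        by_cases hin : i = node
        · subst hin
          exact absurd ⟨hsS, hsM⟩ hnot
        · exact ⟨i, hi, hin, rfl⟩
      have : K = JS := Set.Subset.antisymm hKJ hJK
      rw [this] at hMeq
      exact hM.ne hMeq.symm
    have hKtop : K = PE.S := by
      apply Set.Subset.antisymm hKS
      intro s hsS
      obtain ⟨i, hi, rfl⟩ := (mem_S_iff s).1 hsS
      by_cases hin : i = node
      · subst hin
        exact hs3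
      · exact hJK ⟨i, hi, hin, rfl⟩
    rw [hMeq, hKtop, parabolic_S_eq_top]

theorem simpleE8 : IsSimpleGroup GE :=
  (group_simple (F := F2) chevE8 hE8 (by
    intro h
    rcases h with h | h
    · exact absurd (congrArg ChevalleyDatum.rank h) (by decide)
    · exact absurd (congrArg ChevalleyDatum.rank h) (by decide))).1

theorem MAX_core : M1.normalCore = ⊥ := by
  have := simpleE8
  rcases (M1.normalCore_normal).eq_bot_or_eq_top with h | h
  · exact h
  · exfalso
    have : M1 = ⊤ := by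
      rw [eq_top_iff, ← h]
      exact Subgroup.normalCore_le M1
    exact MAX_isCoatom.1 this

theorem MAX_ne : M1 ≠ M2 := by
  intro h
  -- `s3` normalizes `M1`
  have hs3 : s3 ∈ Subgroup.normalizer (M1 : Set GE) := by
    rw [Subgroup.mem_normalizer_iff]
    intro x
    constructor
    · intro hx
      rw [h]
      exact ⟨x, hx, rfl⟩
    · intro hx
      rw [h] at hx
      obtain ⟨y, hy, e⟩ := hx
      have e' : s3 * y * s3⁻¹ = s3 * x * s3⁻¹ := e
      have : y = x := by
        have := congrArg (fun t => s3⁻¹ * t * s3) e'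
        simpa [mul_assoc] using this
      rw [← this]
      exact hy
  have hle : M1 ≤ Subgroup.normalizer (M1 : Set GE) := Subgroup.le_normalizer
  have htop : Subgroup.normalizer (M1 : Set GE) = ⊤ := by
    by_contra hne
    have hlt : M1 < Subgroup.normalizer (M1 : Set GE) := by
      refine lt_of_le_of_ne hle ?_
      intro he
      rw [← he] at hs3
      exact MAX_s3_not_mem hs3
    exact hne (MAX_isCoatom.2 _ hlt)
  have hnorm : M1.Normal := Subgroup.normalizer_eq_top_iff.1 htop
  have hcore : M1.normalCore = M1 := Subgroup.normalCore_eq_self M1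
  rw [MAX_core] at hcore
  -- `M1 ≠ ⊥`
  have h0 : sG 0 (by decide) ∈ M1 :=
    closure_le_parabolic (P := PE) JS (Subgroup.subset_closure ⟨0, by decide, by decide, rfl⟩)
  rw [← hcore, Subgroup.mem_bot] at h0
  have h1 : sG 0 (by decide) ∉ PE.B := S_not_mem_B (P := PE) (sG_mem_S 0 (by decide))
  rw [h0] at h1
  exact h1 (one_mem _)

end Cfsg.Agent.Lib.Helper3.E8Core
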