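import Mathlib
import Cfsg.Agent.Lib.Helper1.WChainE8
import Cfsg.Agent.Lib.Helper3.E8ChainA

set_option autoImplicit false

/-!
S4281 farm, unit DATA-A: the kernel check of the stabiliser chain for `tA`.
-/

namespace Cfsg.Agent.Lib.Helper3.E8Inv

open Cfsg Cfsg.Lie Cfsg.Agent.Lib.Helper5.ChevStruct Cfsg.Agent.Lib.Helper5.ChevSym
  Cfsg.Agent.Lib.Helper7.Ch2G Cfsg.Agent.Lib.Helper7.ChCent Cfsg.Agent.Lib.Helper1.E8Inv
  Cfsg.Agent.Lib.Helper1.WChain

set_option maxRecDepth 100000 in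
theorem chainA_ok : chkChain chevE8 topA.par [] topA.S lvlsA = true := by decide +kernel

end Cfsg.Agent.Lib.Helper3.E8Inv
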