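import Mathlib
import Cfsg.Agent.Lib.Helper1.WChainE8
import Cfsg.Agent.Lib.Helper3.E8ChainA
import Cfsg.Agent.Lib.Helper3.E8InvDataA1
import Cfsg.Agent.Lib.Helper3.E8InvDataA2

set_option autoImplicit false

/-!
S4281 farm, unit DATA-A: the order of the centraliser of `tA` in `E₈(q)`, `q` odd.
-/

namespace Cfsg.Agent.Lib.Helper3.E8Inv

open Cfsg Cfsg.Lie Cfsg.Agent.Lib.Helper5.ChevStruct Cfsg.Agent.Lib.Helper5.ChevSym
  Cfsg.Agent.Lib.Helper7.Ch2G Cfsg.Agent.Lib.Helper7.ChCent Cfsg.Agent.Lib.Helper1.E8Inv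
  Cfsg.Agent.Lib.Helper1.WChain

variable {F : Type*} [Field F]

/-- **the order of the centraliser of `tA`** in the shape of the statement S4281 -/
theorem card_centralizer_tA [Fintype F] (hF : Odd (Fintype.card F)) :
    Nat.card ↥(Subgroup.centralizer
      ({(⟨tA F, tA_mem⟩ : ↥(chevE8.group F))} : Set ↥(chevE8.group F)))
      = Fintype.card F ^ 56 * (Fintype.card F ^ 8 - 1)
        * ∏ i ∈ Finset.Icc 1 7, (Fintype.card F ^ (2 * i) - 1) := by
  have hp := parOK_E8 lamA topA.par parA_ok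
  have hS : ∀ g ∈ topA.S, Wd chevE8 g := (chkTop_spec chevE8 memE8 lamA topA hp topA_ok).wdS
  have h := card_centralizer_E8 (F := F) hF lamA topA lvlsA parA_ok topA_ok
    (chkChain_spec chevE8 memE8 lamA topA.par hp lvlsA [] topA.S hS chainA_ok) 56 posEvenA
    [8, 2, 4, 6, 8, 10, 12, 14] chainPA rfl
  have e0 : (⟨tA F, tA_mem⟩ : ↥(chevE8.group F))
      = ⟨hLam chevE8 F (-1) lamA, hLam_mem_group chevE8 memE8 _ _⟩ := rfl
  rw [e0, h]
  have e : Finset.Icc 1 7 = {1, 2, 3, 4, 5, 6, 7} := by decide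
  rw [e]
  simp [Finset.prod_insert]
  ring

end Cfsg.Agent.Lib.Helper3.E8Inv
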