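import Mathlib
import Cfsg.Agent.Lib.Helper1.WChainE8
import Cfsg.Agent.Lib.Helper3.E8ChainB

set_option autoImplicit false

/-!
S4281 farm, unit DATA-B: the kernel checks of the parity table, of the top table and of the Poincare polynomial of the chain for `tB`.
-/

namespace Cfsg.Agent.Lib.Helper3.E8Inv

open Cfsg Cfsg.Lie Cfsg.Agent.Lib.Helper5.ChevStruct Cfsg.Agent.Lib.Helper5.ChevSym
  Cfsg.Agent.Lib.Helper7.Ch2G Cfsg.Agent.Lib.Helper7.ChCent Cfsg.Agent.Lib.Helper1.E8Inv
  Cfsg.Agent.Lib.Helper1.WChain

set_option maxRecDepth 100000 in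
theorem parB_ok : parB_E8 lamB topB.par = true := by decide +kernel

set_option maxRecDepth 100000 in
theorem posEvenB : posEvenN chevE8 topB.par = 64 := by decide +kernel

set_option maxRecDepth 100000 in
theorem topB_ok : chkTop chevE8 topB = true := by decide +kernel

set_option maxRecDepth 100000 in
theorem chainPB : chainP chevE8 topB.par lvlsB = degPoly [2, 2, 6, 8, 10, 12, 14, 18] := by
  decide +kernel

end Cfsg.Agent.Lib.Helper3.E8Inv
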