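import Mathlib
import Cfsg.Agent.Lib.Helper1.WChainE8
import Cfsg.Agent.Lib.Helper3.E8ChainB
import Cfsg.Agent.Lib.Helper3.E8InvDataB1
import Cfsg.Agent.Lib.Helper3.E8InvDataB2

set_option autoImplicit false

/-!
S4281 farm, unit DATA-B: the order of the centraliser of `tB` in `E₈(q)`, `q` odd.
-/

namespace Cfsg.Agent.Lib.Helper3.E8Inv

open Cfsg Cfsg.Lie Cfsg.Agent.Lib.Helper5.ChevStruct Cfsg.Agent.Lib.Helper5.ChevSym
  Cfsg.Agent.Lib.Helper7.Ch2G Cfsg.Agent.Lib.Helper7.ChCent Cfsg.Agent.Lib.Helper1.E8Inv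
  Cfsg.Agent.Lib.Helper1.WChain

variable {F : Type*} [Field F]

/-- **the order of the centraliser of `tB`** in the shape of the statement S4281 -/
theorem card_centralizer_tB [Fintype F] (hF : Odd (Fintype.card F)) :
    Nat.card ↥(Subgroup.centralizer
      ({(⟨tB F, tB_mem⟩ : ↥(chevE8.group F))} : Set ↥(chevE8.group F)))
      = Fintype.card F ^ 64 * (Fintype.card F ^ 2 - 1) ^ 2 * (Fintype.card F ^ 6 - 1)
        * (Fintype.card F ^ 8 - 1) * (Fintype.card F ^ 10 - 1) * (Fintype.card F ^ 12 - 1)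
        * (Fintype.card F ^ 14 - 1) * (Fintype.card F ^ 18 - 1) := by
  have hp := parOK_E8 lamB topB.par parB_ok
  have hS : ∀ g ∈ topB.S, Wd chevE8 g := (chkTop_spec chevE8 memE8 lamB topB hp topB_ok).wdS
  have h := card_centralizer_E8 (F := F) hF lamB topB lvlsB parB_ok topB_ok
    (chkChain_spec chevE8 memE8 lamB topB.par hp lvlsB [] topB.S hS chainB_ok) 64 posEvenB
    [2, 2, 6, 8, 10, 12, 14, 18] chainPB rfl
  have e0 : (⟨tB F, tB_mem⟩ : ↥(chevE8.group F))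
      = ⟨hLam chevE8 F (-1) lamB, hLam_mem_group chevE8 memE8 _ _⟩ := rfl
  rw [e0, h]
  simp
  ring

end Cfsg.Agent.Lib.Helper3.E8Inv
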