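import Mathlib

set_option autoImplicit false
set_option maxHeartbeats 4000000
set_option maxRecDepth 100000
set_option linter.unusedVariables false
set_option linter.unusedSectionVars false
set_option linter.style.longLine false
set_option linter.unnecessarySimpa false
set_option linter.unusedSimpArgs false
set_option linter.style.haveILetI false
set_option linter.unusedDecidableInType false
set_option linter.unusedFintypeInType false

/-!
# Group algebra filtrations (Lazard / Jennings style) over `ZMod p`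

Basic API for the weighted augmentation filtration of the group algebra `(ZMod p)[G]`
attached to an `N`-series `Δ` of `G`.
-/

open scoped commutatorElement

namespace Cfsg.Agent.Lib.Helper3.EP

variable {G : Type*} [Group G]

/-- The basis element of the group algebra. -/
noncomputable def og (p : ℕ) (g : G) : MonoidAlgebra (ZMod p) G := MonoidAlgebra.of (ZMod p) G g

/-- `g - 1` in the group algebra. -/
noncomputable def dg (p : ℕ) (g : G) : MonoidAlgebra (ZMod p) G := og p g - 1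

theorem og_one (p : ℕ) : og p (1 : G) = 1 := map_one _

theorem og_mul (p : ℕ) (g h : G) : og p (g * h) = og p g * og p h := map_mul _ g h

theorem og_pow (p : ℕ) (g : G) (n : ℕ) : og p (g ^ n) = og p g ^ n := map_pow _ g n

theorem og_inv_mul (p : ℕ) (g : G) : og p g⁻¹ * og p g = 1 := by
  rw [← og_mul, inv_mul_cancel, og_one]

theorem og_mul_inv (p : ℕ) (g : G) : og p g * og p g⁻¹ = 1 := by
  rw [← og_mul, mul_inv_cancel, og_one]

theorem dg_one (p : ℕ) : dg p (1 : G) = 0 := by simp [dg, og_one]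

theorem og_eq (p : ℕ) (g : G) : og p g = dg p g + 1 := by simp [dg]

/-- An `N`-series indexed by `ℕ` with `Δ 0 = Δ 1 = ⊤`. -/
structure NSer (Δ : ℕ → Subgroup G) : Prop where
  zero : Δ 0 = ⊤
  one : Δ 1 = ⊤
  anti : ∀ i j, i ≤ j → Δ j ≤ Δ i
  comm : ∀ i j x y, x ∈ Δ i → y ∈ Δ j → ⁅x, y⁆ ∈ Δ (i + j)

theorem NSer.conj_mem {Δ : ℕ → Subgroup G} (hΔ : NSer Δ) {i : ℕ} {x : G} (hx : x ∈ Δ i) (h : G) :
    h⁻¹ * x * h ∈ Δ i := by
  have h1 : ⁅h⁻¹, x⁆ ∈ Δ (0 + i) := hΔ.comm 0 i _ _ (by rw [hΔ.zero]; trivial) hx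
  rw [zero_add] at h1
  have : h⁻¹ * x * h = ⁅h⁻¹, x⁆ * x := by simp [commutatorElement_def]
  rw [this]
  exact (Δ i).mul_mem h1 hx

/-- Generators of the weighted filtration: right-nested products of `g - 1`, `g ∈ K ∩ Δ i`,
of total weight `j`. -/
inductive Gen (p : ℕ) (Δ : ℕ → Subgroup G) (K : Subgroup G) : ℕ → MonoidAlgebra (ZMod p) G → Prop
  | one : Gen p Δ K 0 1
  | mul {j i : ℕ} {x : MonoidAlgebra (ZMod p) G} {g : G} :
      Gen p Δ K j x → g ∈ K → g ∈ Δ i → Gen p Δ K (j + i) (x * dg p g)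

/-- The weighted filtration of `(ZMod p)[K] ⊆ (ZMod p)[G]`. -/
noncomputable def LK (p : ℕ) (Δ : ℕ → Subgroup G) (K : Subgroup G) (j : ℕ) :
    Submodule (ZMod p) (MonoidAlgebra (ZMod p) G) :=
  Submodule.span (ZMod p) {x | ∃ j', j ≤ j' ∧ Gen p Δ K j' x}

variable {p : ℕ} {Δ : ℕ → Subgroup G} {K : Subgroup G}

theorem LK_anti {i j : ℕ} (h : i ≤ j) : LK p Δ K j ≤ LK p Δ K i := by
  apply Submodule.span_mono
  rintro x ⟨j', hj', hx⟩
  exact ⟨j', le_trans h hj', hx⟩

theorem mem_LK_of_gen {j j' : ℕ} {x : MonoidAlgebra (ZMod p) G} (hj : j ≤ j') (hx : Gen p Δ K j' x) :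
    x ∈ LK p Δ K j :=
  Submodule.subset_span ⟨j', hj, hx⟩

theorem one_mem_LK : (1 : MonoidAlgebra (ZMod p) G) ∈ LK p Δ K 0 :=
  mem_LK_of_gen le_rfl Gen.one

/-- Induction principle for `LK`. -/
theorem LK_induction {j : ℕ} {P : MonoidAlgebra (ZMod p) G → Prop}
    (hgen : ∀ j' x, j ≤ j' → Gen p Δ K j' x → P x) (h0 : P 0)
    (hadd : ∀ x y, P x → P y → P (x + y)) (hsmul : ∀ (a : ZMod p) x, P x → P (a • x))
    {x : MonoidAlgebra (ZMod p) G} (hx : x ∈ LK p Δ K j) : P x := by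
  refine Submodule.span_induction (p := fun x _ => P x) ?_ h0 ?_ ?_ hx
  · rintro x ⟨j', hj', hx⟩
    exact hgen j' x hj' hx
  · intro x y _ _ hx hy
    exact hadd x y hx hy
  · intro a x _ hx
    exact hsmul a x hx

theorem LK_mul_dg {j i : ℕ} {x : MonoidAlgebra (ZMod p) G} (hx : x ∈ LK p Δ K j) {g : G}
    (hgK : g ∈ K) (hg : g ∈ Δ i) : x * dg p g ∈ LK p Δ K (j + i) := by
  refine LK_induction (P := fun x => x * dg p g ∈ LK p Δ K (j + i)) ?_ ?_ ?_ ?_ hx
  · intro j' x hj' hx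
    exact mem_LK_of_gen (by omega) (Gen.mul hx hgK hg)
  · simp
  · intro x y hx hy
    rw [add_mul]
    exact Submodule.add_mem _ hx hy
  · intro a x hx
    rw [smul_mul_assoc]
    exact Submodule.smul_mem _ a hx

theorem LK_mul {j i : ℕ} {x y : MonoidAlgebra (ZMod p) G} (hx : x ∈ LK p Δ K j)
    (hy : y ∈ LK p Δ K i) : x * y ∈ LK p Δ K (j + i) := by
  refine LK_induction (P := fun y => x * y ∈ LK p Δ K (j + i)) ?_ ?_ ?_ ?_ hy
  · intro i' y hi' hy
    have key : ∀ i' y, Gen p Δ K i' y → x * y ∈ LK p Δ K (j + i') := by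
      intro i' y hy
      induction hy with
      | one => simpa using hx
      | mul hy' hgK hg ih =>
        rw [← mul_assoc, ← add_assoc]
        exact LK_mul_dg ih hgK hg
    exact LK_anti (by omega) (key i' y hy)
  · simp
  · intro y z hy hz
    rw [mul_add]
    exact Submodule.add_mem _ hy hz
  · intro a y hy
    rw [mul_smul_comm]
    exact Submodule.smul_mem _ a hy

theorem dg_mem_LK (hΔ : NSer Δ) {g : G} {i : ℕ} (hgK : g ∈ K) (hg : g ∈ Δ i) :
    dg p g ∈ LK p Δ K i := by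
  have := LK_mul_dg (one_mem_LK (p := p) (Δ := Δ) (K := K)) hgK hg
  simpa using this

theorem og_mem_LK (hΔ : NSer Δ) {g : G} (hgK : g ∈ K) : og p g ∈ LK p Δ K 0 := by
  rw [og_eq]
  exact Submodule.add_mem _ (dg_mem_LK hΔ hgK (by rw [hΔ.zero]; trivial)) one_mem_LK

theorem LK_mul_og (hΔ : NSer Δ) {j : ℕ} {x : MonoidAlgebra (ZMod p) G} (hx : x ∈ LK p Δ K j)
    {g : G} (hgK : g ∈ K) : x * og p g ∈ LK p Δ K j := by
  have := LK_mul hx (og_mem_LK (p := p) hΔ hgK)
  simpa using this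

theorem og_mul_LK (hΔ : NSer Δ) {j : ℕ} {x : MonoidAlgebra (ZMod p) G} (hx : x ∈ LK p Δ K j)
    {g : G} (hgK : g ∈ K) : og p g * x ∈ LK p Δ K j := by
  have := LK_mul (og_mem_LK (p := p) hΔ hgK) hx
  simpa using this

theorem LK_pow (hΔ : NSer Δ) {j : ℕ} {x : MonoidAlgebra (ZMod p) G} (hx : x ∈ LK p Δ K j) :
    ∀ n : ℕ, x ^ n ∈ LK p Δ K (n * j) := by
  intro n
  induction n with
  | zero => simpa using one_mem_LK
  | succ n ih =>
    rw [pow_succ, Nat.succ_mul]
    exact LK_mul ih hx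

/-- Monotonicity in the subgroup. -/
theorem LK_mono {K K' : Subgroup G} (h : K ≤ K') (j : ℕ) : LK p Δ K j ≤ LK p Δ K' j := by
  apply Submodule.span_mono
  have key : ∀ j' x, Gen p Δ K j' x → Gen p Δ K' j' x := by
    intro j' x hx
    induction hx with
    | one => exact Gen.one
    | mul hy' hgK hg ih => exact Gen.mul ih (h hgK) hg
  rintro x ⟨j', hj', hx⟩
  exact ⟨j', hj', key j' x hx⟩

/-- The augmentation. -/
noncomputable def aug (p : ℕ) (G : Type*) [Group G] : MonoidAlgebra (ZMod p) G →ₐ[ZMod p] ZMod p :=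
  MonoidAlgebra.lift (ZMod p) (ZMod p) G (1 : G →* ZMod p)

theorem aug_og (g : G) : aug p G (og p g) = 1 := by
  simp [aug, og, MonoidAlgebra.lift_of]

theorem aug_dg (g : G) : aug p G (dg p g) = 0 := by
  simp [dg, aug_og]

theorem aug_LK {j : ℕ} (hj : 1 ≤ j) {x : MonoidAlgebra (ZMod p) G} (hx : x ∈ LK p Δ K j) :
    aug p G x = 0 := by
  refine LK_induction (P := fun x => aug p G x = 0) ?_ ?_ ?_ ?_ hx
  · intro j' x hj' hx
    cases hx with
    | one => omega
    | mul hy' hgK hg => simp [aug_dg]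
  · simp
  · intro x y hx hy
    simp [hx, hy]
  · intro a x hx
    simp [hx]

end Cfsg.Agent.Lib.Helper3.EP
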