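import Mathlib
import Cfsg.Agent.Lib.Helper3.EP1

set_option autoImplicit false
set_option maxHeartbeats 4000000
set_option maxRecDepth 100000
set_option linter.unusedVariables false
set_option linter.unusedSectionVars false
set_option linter.style.longLine false
set_option linter.unnecessarySimpa false
set_option linter.unusedSimpArgs false
set_option linter.style.haveILetI false
set_option linter.unusedDecidableInType false
set_option linter.unusedFintypeInType false

/-!
# Polarisation: words in two noncommuting variables, and the `(p-1)`-Engel congruence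
-/

open scoped commutatorElement

namespace Cfsg.Agent.Lib.Helper3.EP

section Words

variable {p : ℕ} [Fact p.Prime] {A : Type*} [Ring A] [Algebra (ZMod p) A]

/-- `W X Y n k`: the sum of all words of length `n` in `X`, `Y` with exactly `k` letters `Y`. -/
def W (X Y : A) : ℕ → ℕ → A
  | 0, 0 => 1
  | 0, (_ + 1) => 0
  | (n + 1), 0 => W X Y n 0 * X
  | (n + 1), (k + 1) => W X Y n (k + 1) * X + W X Y n k * Y

theorem W_gt (X Y : A) : ∀ n k, n < k → W X Y n k = 0 := by
  intro n
  induction n with
  | zero =>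
    intro k hk
    cases k with
    | zero => omega
    | succ k => rfl
  | succ n ih =>
    intro k hk
    cases k with
    | zero => omega
    | succ k =>
      show W X Y n (k + 1) * X + W X Y n k * Y = 0
      rw [ih (k + 1) (by omega), ih k (by omega)]
      simp

theorem W_zero (X Y : A) : ∀ n, W X Y n 0 = X ^ n := by
  intro n
  induction n with
  | zero => simp [W]
  | succ n ih =>
    show W X Y n 0 * X = X ^ (n + 1)
    rw [ih, pow_succ]

theorem W_top (X Y : A) : ∀ n, W X Y n n = Y ^ n := by
  intro n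
  induction n with
  | zero => simp [W]
  | succ n ih =>
    show W X Y n (n + 1) * X + W X Y n n * Y = Y ^ (n + 1)
    rw [W_gt X Y n (n + 1) (by omega), ih, pow_succ]
    simp

theorem W_one (X Y : A) : ∀ n, W X Y n 1 = ∑ i ∈ Finset.range n, X ^ i * Y * X ^ (n - 1 - i) := by
  intro n
  induction n with
  | zero => rfl
  | succ n ih =>
    show W X Y n 1 * X + W X Y n 0 * Y = _
    rw [ih, W_zero, Finset.sum_range_succ, Finset.sum_mul]
    congr 1
    · apply Finset.sum_congr rfl
      intro i hi
      rw [Finset.mem_range] at hi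
      rw [mul_assoc, ← pow_succ]
      congr 2
      omega
    · have : n + 1 - 1 - n = 0 := by omega
      rw [this, pow_zero, mul_one]

theorem expand (X Y : A) (μ : ZMod p) :
    ∀ n, (X + μ • Y) ^ n = ∑ k ∈ Finset.range (n + 1), μ ^ k • W X Y n k := by
  intro n
  induction n with
  | zero => simp [W]
  | succ n ih =>
    rw [pow_succ, ih, Finset.sum_mul]
    have h1 : ∀ k ∈ Finset.range (n + 1), μ ^ k • W X Y n k * (X + μ • Y)
        = μ ^ k • (W X Y n k * X) + μ ^ (k + 1) • (W X Y n k * Y) := by
      intro k hk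
      rw [mul_add, smul_mul_assoc, mul_smul_comm, smul_mul_assoc, smul_smul, pow_succ, mul_comm μ]
    rw [Finset.sum_congr rfl h1, Finset.sum_add_distrib]
    rw [Finset.sum_range_succ' (fun k => μ ^ k • W X Y (n + 1) k)]
    have h2 : ∀ k, W X Y (n + 1) (k + 1) = W X Y n (k + 1) * X + W X Y n k * Y := fun k => rfl
    have h3 : W X Y (n + 1) 0 = W X Y n 0 * X := rfl
    simp only [h2, h3, smul_add, Finset.sum_add_distrib]
    rw [Finset.sum_range_succ' (fun k => μ ^ k • (W X Y n k * X))]
    rw [Finset.sum_range_succ (fun k => μ ^ (k + 1) • (W X Y n (k + 1) * X))]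
    rw [W_gt X Y n (n + 1) (by omega)]
    simp only [zero_mul, smul_zero, add_zero]
    abel

theorem choose_pred_prime : ∀ m, m ≤ p - 1 → ((Nat.choose (p - 1) m : ℕ) : ZMod p) = (-1) ^ m := by
  have hp := (Fact.out : p.Prime)
  intro m
  induction m with
  | zero => simp
  | succ m ih =>
    intro hm
    have h1 : Nat.choose p (m + 1) = Nat.choose (p - 1) m + Nat.choose (p - 1) (m + 1) := by
      have : p = (p - 1) + 1 := by have := hp.two_le; omega
      conv_lhs => rw [this]
      rw [Nat.choose_succ_succ]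
    have h2 : ((Nat.choose p (m + 1) : ℕ) : ZMod p) = 0 := by
      rw [ZMod.natCast_eq_zero_iff]
      exact hp.dvd_choose_self (by omega) (by have := hp.two_le; omega)
    have h3 := congrArg (fun n : ℕ => (n : ZMod p)) h1
    simp only [Nat.cast_add] at h3
    rw [h2, ih (by omega)] at h3
    rw [pow_succ]
    linear_combination -h3

/-- Iterated ring commutator `T (k+1) = X * T k - T k * X`. -/
def T (X Y : A) : ℕ → A
  | 0 => Y
  | (k + 1) => X * T X Y k - T X Y k * X

theorem T_eq_pow (X Y : A) : ∀ k, T X Y k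
    = ((LinearMap.mulLeft (ZMod p) X - LinearMap.mulRight (ZMod p) X) ^ k) Y := by
  intro k
  induction k with
  | zero => simp [T]
  | succ k ih =>
    rw [pow_succ', Module.End.mul_apply, ← ih]
    simp [T]

theorem neg_one_pow_smul (q : ℕ) : ((-1 : A)) ^ q = ((-1 : ZMod p) ^ q) • (1 : A) := by
  have : (-1 : A) = (-1 : ZMod p) • (1 : A) := by simp
  rw [this, smul_pow, one_pow]

theorem T_pred (hp2 : p ≠ 2) (X Y : A) : T X Y (p - 1) = W X Y p 1 := by
  have hp := (Fact.out : p.Prime)
  have hodd : Even (p - 1) := by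
    rcases hp.eq_two_or_odd' with h | h
    · exact absurd h hp2
    · exact Nat.Prime.even_sub_one hp hp2
  rw [T_eq_pow (p := p), W_one]
  have hsub : LinearMap.mulLeft (ZMod p) X - LinearMap.mulRight (ZMod p) X
      = LinearMap.mulLeft (ZMod p) X + LinearMap.mulRight (ZMod p) (-X) := by
    ext a
    simp [sub_eq_add_neg]
  have hc : Commute (LinearMap.mulLeft (ZMod p) X) (LinearMap.mulRight (ZMod p) (-X)) :=
    LinearMap.commute_mulLeft_right X (-X)
  rw [hsub, hc.add_pow]
  have hpp : p - 1 + 1 = p := by have := hp.two_le; omega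
  rw [hpp, LinearMap.sum_apply]
  apply Finset.sum_congr rfl
  intro m hm
  rw [Finset.mem_range] at hm
  rw [LinearMap.pow_mulLeft, LinearMap.pow_mulRight, Module.End.mul_apply, Module.End.mul_apply,
    LinearMap.mulLeft_apply, LinearMap.mulRight_apply]
  have hcast : ((Nat.choose (p - 1) m : ℕ) : Module.End (ZMod p) A) Y
      = ((-1 : ZMod p) ^ m) • Y := by
    rw [← choose_pred_prime m (by omega)]
    rw [Nat.cast_smul_eq_nsmul]
    simp
  rw [hcast, neg_pow X, neg_one_pow_smul (p := p) (A := A)]
  have hsign : ((-1 : ZMod p)) ^ m * (-1) ^ (p - 1 - m) = 1 := by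
    rw [← pow_add]
    have : m + (p - 1 - m) = p - 1 := by omega
    rw [this]
    exact hodd.neg_one_pow
  simp only [smul_mul_assoc, mul_smul_comm, one_mul, smul_smul]
  rw [mul_comm ((-1 : ZMod p) ^ (p - 1 - m)), hsign, one_smul, mul_assoc]

theorem polar (hp2 : p ≠ 2) (X Y : A) :
    ∑ μ : (ZMod p)ˣ, ((μ⁻¹ : (ZMod p)ˣ) : ZMod p) • (X + ((μ : (ZMod p)ˣ) : ZMod p) • Y) ^ p
      = -(W X Y p 1) - Y ^ p := by
  have hp := (Fact.out : p.Prime)
  have hp3 : 3 ≤ p := by
    have := hp.two_le
    omega
  simp_rw [expand (p := p) X Y _ p, Finset.smul_sum, smul_smul]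
  rw [Finset.sum_comm]
  simp_rw [← Finset.sum_smul]
  have hcard : Fintype.card (ZMod p) = p := ZMod.card p
  have hc : ∀ k ∈ Finset.range (p + 1),
      (∑ μ : (ZMod p)ˣ, ((μ⁻¹ : (ZMod p)ˣ) : ZMod p) * ((μ : (ZMod p)ˣ) : ZMod p) ^ k) • W X Y p k
        = (if k = 1 then -(W X Y p 1) else 0) + (if k = p then -(Y ^ p) else 0) := by
    intro k hk
    rw [Finset.mem_range] at hk
    rcases Nat.eq_zero_or_pos k with h0 | hpos
    · subst h0
      have h1 : (∑ μ : (ZMod p)ˣ, ((μ⁻¹ : (ZMod p)ˣ) : ZMod p) * ((μ : (ZMod p)ˣ) : ZMod p) ^ 0)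
          = ∑ μ : (ZMod p)ˣ, (((μ : (ZMod p)ˣ) : ZMod p)) ^ 1 := by
        simp only [pow_zero, mul_one, pow_one]
        exact Equiv.sum_comp (Equiv.inv (ZMod p)ˣ) (fun μ => ((μ : (ZMod p)ˣ) : ZMod p))
      rw [h1, FiniteField.sum_pow_units, hcard]
      have : ¬ (p - 1 ∣ 1) := by
        intro h
        have := Nat.le_of_dvd (by norm_num) h
        omega
      rw [if_neg this, zero_smul, if_neg (by omega), if_neg (by omega), add_zero]
    · have h1 : (∑ μ : (ZMod p)ˣ, ((μ⁻¹ : (ZMod p)ˣ) : ZMod p) * ((μ : (ZMod p)ˣ) : ZMod p) ^ k)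
          = ∑ μ : (ZMod p)ˣ, (((μ : (ZMod p)ˣ) : ZMod p)) ^ (k - 1) := by
        apply Finset.sum_congr rfl
        intro μ _
        have : k = (k - 1) + 1 := by omega
        conv_lhs => rw [this, pow_succ, ← mul_assoc, mul_comm, ← mul_assoc]
        rw [Units.mul_inv, one_mul]
      rw [h1, FiniteField.sum_pow_units, hcard]
      by_cases hk1 : k = 1
      · subst hk1
        simp [if_neg (show ¬ (1 = p) by omega)]
      · by_cases hkp : k = p
        · subst hkp
          rw [if_pos (dvd_refl _), if_neg hk1, if_pos rfl, W_top]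
          simp
        · have : ¬ (p - 1 ∣ k - 1) := by
            intro h
            have := Nat.le_of_dvd (by omega) h
            omega
          rw [if_neg this, zero_smul, if_neg hk1, if_neg hkp, add_zero]
  rw [Finset.sum_congr rfl hc, Finset.sum_add_distrib, Finset.sum_ite_eq', Finset.sum_ite_eq']
  rw [if_pos (Finset.mem_range.mpr (by omega)), if_pos (Finset.mem_range.mpr (by omega))]
  abel

end Words

end Cfsg.Agent.Lib.Helper3.EP
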