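import Mathlib
import Cfsg.Agent.Lib.Helper3.EP1
import Cfsg.Agent.Lib.Helper3.EP2

set_option autoImplicit false
set_option maxHeartbeats 4000000
set_option maxRecDepth 100000
set_option linter.unusedVariables false
set_option linter.unusedSectionVars false
set_option linter.style.longLine false
set_option linter.unnecessarySimpa false
set_option linter.unusedSimpArgs false
set_option linter.style.haveILetI false
set_option linter.unusedDecidableInType false
set_option linter.unusedFintypeInType false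

/-!
# The `(p-1)`-Engel word lies deep in the weighted filtration (exponent `p`)
-/

open scoped commutatorElement

namespace Cfsg.Agent.Lib.Helper3.EP

variable {G : Type*} [Group G] {p : ℕ} [Fact p.Prime] {Δ : ℕ → Subgroup G}

theorem charP_ma : CharP (MonoidAlgebra (ZMod p) G) p :=
  charP_of_injective_algebraMap (algebraMap (ZMod p) (MonoidAlgebra (ZMod p) G)).injective p

theorem dg_pow_eq_zero {g : G} (hg : g ^ p = 1) : dg p g ^ p = 0 := by
  haveI : CharP (MonoidAlgebra (ZMod p) G) p := charP_ma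
  unfold dg
  rw [sub_pow_char_of_commute p (Commute.one_right _), ← og_pow, hg, og_one, one_pow, sub_self]

theorem dg_mul (g h : G) : dg p (g * h) = dg p g * dg p h + dg p g + dg p h := by
  unfold dg
  rw [og_mul]
  noncomm_ring

/-- Iterated commutator `[t,[t,...,[t,y]]]`. -/
def icom (t y : G) : ℕ → G
  | 0 => y
  | (k + 1) => ⁅t, icom t y k⁆

theorem icom_mem (hΔ : NSer Δ) (t y : G) : ∀ k, icom t y k ∈ Δ (k + 1) := by
  intro k
  induction k with
  | zero => rw [hΔ.one]; trivial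
  | succ k ih =>
    have := hΔ.comm 1 (k + 1) t (icom t y k) (by rw [hΔ.one]; trivial) ih
    rw [add_comm] at this
    exact this

theorem dg_comm (t c : G) :
    dg p ⁅t, c⁆ = (dg p t * dg p c - dg p c * dg p t) - dg p ⁅t, c⁆ * dg p (c * t) := by
  have h : og p ⁅t, c⁆ * (og p c * og p t) = og p t * og p c := by
    rw [← og_mul, ← og_mul, ← og_mul]
    congr 1
    simp [commutatorElement_def]
  have e : (dg p t * dg p c - dg p c * dg p t) - dg p ⁅t, c⁆ * dg p (c * t)
      = dg p ⁅t, c⁆ + (og p t * og p c - og p ⁅t, c⁆ * (og p c * og p t)) := by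
    unfold dg
    rw [og_mul]
    noncomm_ring
  rw [e, h, sub_self, add_zero]

section Top

/-- The filtration of the whole group algebra. -/
local notation "𝓛" => LK p Δ (⊤ : Subgroup G)

theorem dg_mem_top (hΔ : NSer Δ) {g : G} {i : ℕ} (hg : g ∈ Δ i) : dg p g ∈ LK p Δ (⊤ : Subgroup G) i :=
  dg_mem_LK hΔ (Subgroup.mem_top g) hg

theorem dg_mem_one (hΔ : NSer Δ) (g : G) : dg p g ∈ LK p Δ (⊤ : Subgroup G) 1 :=
  dg_mem_top hΔ (by rw [hΔ.one]; trivial)

theorem dg_pow_congr (hΔ : NSer Δ) (y : G) :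
    ∀ n : ℕ, dg p (y ^ n) - (n : ZMod p) • dg p y ∈ LK p Δ (⊤ : Subgroup G) 2 := by
  intro n
  induction n with
  | zero => simp [dg_one]
  | succ n ih =>
    rw [pow_succ, dg_mul]
    have e : dg p (y ^ n) * dg p y + dg p (y ^ n) + dg p y - ((n + 1 : ℕ) : ZMod p) • dg p y
        = dg p (y ^ n) * dg p y + (dg p (y ^ n) - (n : ZMod p) • dg p y) := by
      push_cast
      rw [add_smul, one_smul]
      abel
    rw [e]
    exact Submodule.add_mem _ (LK_mul (dg_mem_one hΔ _) (dg_mem_one hΔ _)) ih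

theorem dg_mul_pow_congr (hΔ : NSer Δ) (t y : G) (n : ℕ) :
    dg p (t * y ^ n) - (dg p t + (n : ZMod p) • dg p y) ∈ LK p Δ (⊤ : Subgroup G) 2 := by
  rw [dg_mul]
  have e : dg p t * dg p (y ^ n) + dg p t + dg p (y ^ n) - (dg p t + (n : ZMod p) • dg p y)
      = dg p t * dg p (y ^ n) + (dg p (y ^ n) - (n : ZMod p) • dg p y) := by abel
  rw [e]
  exact Submodule.add_mem _ (LK_mul (dg_mem_one hΔ _) (dg_mem_one hΔ _)) (dg_pow_congr hΔ y n)

theorem pow_congr (hΔ : NSer Δ) {a b : MonoidAlgebra (ZMod p) G}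
    (ha : a ∈ LK p Δ (⊤ : Subgroup G) 1) (hb : b ∈ LK p Δ (⊤ : Subgroup G) 1)
    (hab : a - b ∈ LK p Δ (⊤ : Subgroup G) 2) :
    ∀ n : ℕ, a ^ n - b ^ n ∈ LK p Δ (⊤ : Subgroup G) (n + 1) := by
  intro n
  induction n with
  | zero => simp
  | succ n ih =>
    have e : a ^ (n + 1) - b ^ (n + 1) = a ^ n * (a - b) + (a ^ n - b ^ n) * b := by
      rw [pow_succ, pow_succ]
      noncomm_ring
    rw [e]
    refine Submodule.add_mem _ ?_ ?_
    · have h1 := LK_mul (LK_pow hΔ ha n) hab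
      exact LK_anti (by omega) h1
    · exact LK_mul ih hb

theorem add_smul_pow_mem (hΔ : NSer Δ) (hexp : ∀ g : G, g ^ p = 1) (t y : G) (n : ℕ) :
    (dg p t + (n : ZMod p) • dg p y) ^ p ∈ LK p Δ (⊤ : Subgroup G) (p + 1) := by
  have h0 : dg p (t * y ^ n) ^ p = 0 := dg_pow_eq_zero (hexp _)
  have hb : dg p t + (n : ZMod p) • dg p y ∈ LK p Δ (⊤ : Subgroup G) 1 :=
    Submodule.add_mem _ (dg_mem_one hΔ _) (Submodule.smul_mem _ _ (dg_mem_one hΔ _))
  have h1 := pow_congr hΔ (dg_mem_one hΔ (t * y ^ n)) hb (dg_mul_pow_congr hΔ t y n) p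
  rw [h0, zero_sub] at h1
  have := Submodule.neg_mem _ h1
  simpa using this

theorem W_mem (hΔ : NSer Δ) (hp2 : p ≠ 2) (hexp : ∀ g : G, g ^ p = 1) (t y : G) :
    W (dg p t) (dg p y) p 1 ∈ LK p Δ (⊤ : Subgroup G) (p + 1) := by
  have h := polar (p := p) hp2 (dg p t) (dg p y)
  have hY : dg p y ^ p = 0 := dg_pow_eq_zero (hexp y)
  rw [hY, sub_zero] at h
  have h2 : W (dg p t) (dg p y) p 1
      = -(∑ μ : (ZMod p)ˣ, ((μ⁻¹ : (ZMod p)ˣ) : ZMod p) •
          (dg p t + ((μ : (ZMod p)ˣ) : ZMod p) • dg p y) ^ p) := by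
    rw [h, neg_neg]
  rw [h2]
  refine Submodule.neg_mem _ (Submodule.sum_mem _ ?_)
  intro μ _
  refine Submodule.smul_mem _ _ ?_
  have := add_smul_pow_mem hΔ hexp t y ((μ : ZMod p).val)
  rwa [ZMod.natCast_zmod_val] at this

theorem dg_icom_congr (hΔ : NSer Δ) (t y : G) :
    ∀ k, dg p (icom t y k) - T (dg p t) (dg p y) k ∈ LK p Δ (⊤ : Subgroup G) (k + 2) := by
  intro k
  induction k with
  | zero => simp [icom, T]
  | succ k ih =>
    show dg p ⁅t, icom t y k⁆ - (dg p t * T (dg p t) (dg p y) k - T (dg p t) (dg p y) k * dg p t) ∈ _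
    rw [dg_comm]
    set C := dg p (icom t y k) with hC
    set Tk := T (dg p t) (dg p y) k with hTk
    have e : dg p t * C - C * dg p t - dg p ⁅t, icom t y k⁆ * dg p (icom t y k * t)
          - (dg p t * Tk - Tk * dg p t)
        = dg p t * (C - Tk) - (C - Tk) * dg p t
          - dg p ⁅t, icom t y k⁆ * dg p (icom t y k * t) := by
      noncomm_ring
    rw [e]
    have h1 : dg p t * (C - Tk) ∈ LK p Δ (⊤ : Subgroup G) (k + 1 + 2) := by
      have := LK_mul (dg_mem_one hΔ t) ih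
      exact LK_anti (by omega) this
    have h2 : (C - Tk) * dg p t ∈ LK p Δ (⊤ : Subgroup G) (k + 1 + 2) := by
      have := LK_mul ih (dg_mem_one hΔ t)
      exact LK_anti (by omega) this
    have h3 : dg p ⁅t, icom t y k⁆ * dg p (icom t y k * t) ∈ LK p Δ (⊤ : Subgroup G) (k + 1 + 2) := by
      have hm : ⁅t, icom t y k⁆ ∈ Δ (k + 1 + 1) := icom_mem hΔ t y (k + 1)
      have := LK_mul (dg_mem_top (p := p) hΔ hm) (dg_mem_one hΔ (icom t y k * t))
      exact LK_anti (by omega) this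
    exact Submodule.sub_mem _ (Submodule.sub_mem _ h1 h2) h3

/-- **Engel congruence**: in a group of exponent `p` (odd), the `(p-1)`-Engel element
`[t,[t,…,[t,y]]]` lies in the `(p+1)`-st term of the weighted augmentation filtration. -/
theorem engel_mem (hΔ : NSer Δ) (hp2 : p ≠ 2) (hexp : ∀ g : G, g ^ p = 1) (t y : G) :
    dg p (icom t y (p - 1)) ∈ LK p Δ (⊤ : Subgroup G) (p + 1) := by
  have hp := (Fact.out : p.Prime)
  have h1 := dg_icom_congr (p := p) hΔ t y (p - 1)
  have hpp : p - 1 + 2 = p + 1 := by have := hp.two_le; omega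
  rw [hpp, T_pred hp2] at h1
  have h2 := W_mem hΔ hp2 hexp t y
  have := Submodule.add_mem _ h1 h2
  simpa using this

end Top

/-! ### Conjugation -/

/-- Conjugation by `h` in the group algebra. -/
noncomputable def cj (p : ℕ) (h : G) (x : MonoidAlgebra (ZMod p) G) : MonoidAlgebra (ZMod p) G :=
  og p h⁻¹ * x * og p h

theorem cj_add (h : G) (x y : MonoidAlgebra (ZMod p) G) : cj p h (x + y) = cj p h x + cj p h y := by
  unfold cj; noncomm_ring

theorem cj_smul (h : G) (a : ZMod p) (x : MonoidAlgebra (ZMod p) G) : cj p h (a • x) = a • cj p h x := by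
  unfold cj; rw [mul_smul_comm, smul_mul_assoc]

theorem cj_zero (h : G) : cj p h (0 : MonoidAlgebra (ZMod p) G) = 0 := by
  unfold cj; simp

theorem cj_one (h : G) : cj p h (1 : MonoidAlgebra (ZMod p) G) = 1 := by
  unfold cj; rw [mul_one, og_inv_mul]

theorem cj_mul (h : G) (x y : MonoidAlgebra (ZMod p) G) : cj p h (x * y) = cj p h x * cj p h y := by
  unfold cj
  have : og p h⁻¹ * x * og p h * (og p h⁻¹ * y * og p h)
      = og p h⁻¹ * x * (og p h * og p h⁻¹) * y * og p h := by noncomm_ring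
  rw [this, og_mul_inv, mul_one]
  noncomm_ring

theorem cj_dg (h g : G) : cj p h (dg p g) = dg p (h⁻¹ * g * h) := by
  unfold cj dg
  rw [og_mul, og_mul, mul_sub, sub_mul, mul_one, og_inv_mul]

theorem mul_og_eq (h : G) (x : MonoidAlgebra (ZMod p) G) : x * og p h = og p h * cj p h x := by
  unfold cj
  rw [← mul_assoc, ← mul_assoc, og_mul_inv, one_mul]

theorem cj_props (hΔ : NSer Δ) {K : Subgroup G} {h : G} {w : ℕ}
    (hnorm : ∀ k ∈ K, h⁻¹ * k * h ∈ K) (hw : h ∈ Δ w) {j : ℕ}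
    {x : MonoidAlgebra (ZMod p) G} (hx : x ∈ LK p Δ K j) :
    cj p h x ∈ LK p Δ K j ∧ cj p h x - x ∈ LK p Δ K (j + w) := by
  have key : ∀ j' x, Gen p Δ K j' x →
      cj p h x ∈ LK p Δ K j' ∧ cj p h x - x ∈ LK p Δ K (j' + w) := by
    intro j' x hx
    induction hx with
    | one =>
      rw [cj_one, sub_self]
      exact ⟨one_mem_LK, Submodule.zero_mem _⟩
    | @mul j'' i x' g hx' hgK hg ih =>
      rw [cj_mul, cj_dg]
      have hg'K : h⁻¹ * g * h ∈ K := hnorm g hgK
      have hg' : h⁻¹ * g * h ∈ Δ i := hΔ.conj_mem hg h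
      refine ⟨LK_mul_dg ih.1 hg'K hg', ?_⟩
      -- the difference
      have hc : g⁻¹ * (h⁻¹ * g * h) = ⁅g⁻¹, h⁻¹⁆ := by simp [commutatorElement_def, mul_assoc]
      have hcK : g⁻¹ * (h⁻¹ * g * h) ∈ K := K.mul_mem (K.inv_mem hgK) hg'K
      have hcΔ : g⁻¹ * (h⁻¹ * g * h) ∈ Δ (i + w) := by
        rw [hc]
        exact hΔ.comm i w _ _ ((Δ i).inv_mem hg) ((Δ w).inv_mem hw)
      obtain ⟨g', hg'def⟩ : ∃ g', g' = h⁻¹ * g * h := ⟨_, rfl⟩
      obtain ⟨c, hcdef⟩ : ∃ c, c = g⁻¹ * g' := ⟨_, rfl⟩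
      rw [← hg'def] at hg'K hg' hcK hcΔ ⊢
      rw [← hcdef] at hcK hcΔ
      have hd : dg p g' = dg p g + og p g * dg p c := by
        unfold dg
        rw [mul_sub, mul_one, ← og_mul]
        have : g * c = g' := by rw [hcdef]; group
        rw [this]
        abel
      have e : cj p h x' * dg p g' - x' * dg p g
          = (cj p h x' - x') * dg p g' + x' * og p g * dg p c := by
        rw [hd]
        noncomm_ring
      rw [e]
      refine Submodule.add_mem _ ?_ ?_
      · have := LK_mul_dg ih.2 hg'K hg'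
        exact LK_anti (by omega) this
      · have h1 : x' ∈ LK p Δ K j'' := mem_LK_of_gen le_rfl hx'
        have := LK_mul_dg (LK_mul_og hΔ h1 hgK) hcK hcΔ
        exact LK_anti (by omega) this
  refine LK_induction (P := fun x => cj p h x ∈ LK p Δ K j ∧ cj p h x - x ∈ LK p Δ K (j + w))
    ?_ ?_ ?_ ?_ hx
  · intro j' x hj' hx
    obtain ⟨h1, h2⟩ := key j' x hx
    exact ⟨LK_anti hj' h1, LK_anti (by omega) h2⟩
  · rw [cj_zero, sub_self]
    exact ⟨Submodule.zero_mem _, Submodule.zero_mem _⟩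
  · intro x y hx hy
    rw [cj_add]
    refine ⟨Submodule.add_mem _ hx.1 hy.1, ?_⟩
    have : cj p h x + cj p h y - (x + y) = (cj p h x - x) + (cj p h y - y) := by abel
    rw [this]
    exact Submodule.add_mem _ hx.2 hy.2
  · intro a x hx
    rw [cj_smul]
    refine ⟨Submodule.smul_mem _ a hx.1, ?_⟩
    rw [← smul_sub]
    exact Submodule.smul_mem _ a hx.2

end Cfsg.Agent.Lib.Helper3.EP
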