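import Mathlib
import Cfsg.Agent.Lib.Helper3.EP1
import Cfsg.Agent.Lib.Helper3.EP3

set_option autoImplicit false
set_option maxHeartbeats 4000000
set_option maxRecDepth 100000
set_option linter.unusedVariables false
set_option linter.unusedSectionVars false
set_option linter.style.longLine false
set_option linter.unnecessarySimpa false
set_option linter.unusedSimpArgs false
set_option linter.style.haveILetI false
set_option linter.unusedDecidableInType false
set_option linter.unusedFintypeInType false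

/-!
# Jennings-type lower bound: linear functionals on the group algebra
-/

open scoped commutatorElement

namespace Cfsg.Agent.Lib.Helper3.EP

variable {G : Type*} [Group G] {p : ℕ} [Fact p.Prime]

/-- Linear extension of a function on group elements. -/
noncomputable def lin {N : Type*} [AddCommGroup N] [Module (ZMod p) N] (v : G → N) :
    MonoidAlgebra (ZMod p) G →ₗ[ZMod p] N :=
  (Finsupp.linearCombination (ZMod p) v) ∘ₗ (MonoidAlgebra.coeffLinearEquiv (ZMod p)).toLinearMap

theorem lin_og {N : Type*} [AddCommGroup N] [Module (ZMod p) N] (v : G → N) (g : G) :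
    lin (p := p) v (og p g) = v g := by
  unfold lin og
  rw [MonoidAlgebra.of_apply]
  simp [MonoidAlgebra.coeffLinearEquiv, Finsupp.linearCombination_single]

theorem lin_og_mul {N : Type*} [AddCommGroup N] [Module (ZMod p) N] (v : G → N) (h : G)
    (x : MonoidAlgebra (ZMod p) G) :
    lin (p := p) v (og p h * x) = lin (p := p) (fun g => v (h * g)) x := by
  refine MonoidAlgebra.induction_on (motive := fun x => lin (p := p) v (og p h * x) = lin (p := p) (fun g => v (h * g)) x) x ?_ ?_ ?_
  · intro m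
    have : og p h * (MonoidAlgebra.of (ZMod p) G m) = og p (h * m) := by
      rw [og_mul]; rfl
    rw [this, lin_og]
    exact (lin_og (p := p) (fun g => v (h * g)) m).symm
  · intro x y hx hy
    rw [mul_add, map_add, map_add, hx, hy]
  · intro r x hx
    rw [mul_smul_comm, map_smul, map_smul, hx]

theorem mem_of_pow_mem {M : Subgroup G} {u : G} (hup : u ^ p = 1) {d : ℕ} (hd0 : 0 < d)
    (hdp : d < p) (h : u ^ d ∈ M) : u ∈ M := by
  have hp := (Fact.out : p.Prime)
  have hcop : Nat.Coprime d p := by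
    apply Nat.Coprime.symm
    rw [Nat.Prime.coprime_iff_not_dvd hp]
    intro hd
    have := Nat.le_of_dvd hd0 hd
    omega
  obtain ⟨m, -, hm⟩ := Nat.exists_mul_mod_eq_one_of_coprime hcop hp.one_lt
  have h1 : u ^ (d * m) = u := by
    rw [pow_eq_pow_mod (d * m) hup, hm, pow_one]
  rw [← h1, pow_mul]
  exact M.pow_mem h m

theorem dec_unique {M : Subgroup G} {u : G} (hup : u ^ p = 1) (huM : u ∉ M) {g : G} {e e' : ℕ}
    (he : e < p) (he' : e' < p) (h : (u ^ e)⁻¹ * g ∈ M) (h' : (u ^ e')⁻¹ * g ∈ M) : e = e' := by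
  by_contra hne
  have key : ∀ a b : ℕ, a < b → b < p → (u ^ a)⁻¹ * g ∈ M → (u ^ b)⁻¹ * g ∈ M → False := by
    intro a b hab hb ha hb'
    have h1 : u ^ (b - a) ∈ M := by
      have : u ^ (b - a) = ((u ^ a)⁻¹ * g) * ((u ^ b)⁻¹ * g)⁻¹ := by
        have hb2 : u ^ b = u ^ a * u ^ (b - a) := by rw [← pow_add]; congr 1; omega
        rw [hb2]; group
      rw [this]
      exact M.mul_mem ha (M.inv_mem hb')
    exact huM (mem_of_pow_mem hup (by omega) (by omega) h1)
  rcases Nat.lt_or_gt_of_ne hne with h1 | h1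
  · exact key e e' h1 he' h h'
  · exact key e' e h1 he h' h

theorem exists_dec [Finite G] {K M : Subgroup G} (hMK : M ≤ K) (hcard : Nat.card K = p * Nat.card M)
    {u : G} (huK : u ∈ K) (huM : u ∉ M) (hup : u ^ p = 1) :
    ∀ g ∈ K, ∃ e < p, (u ^ e)⁻¹ * g ∈ M := by
  let f : Fin p × M → K := fun x => ⟨u ^ (x.1 : ℕ) * (x.2 : G), K.mul_mem (K.pow_mem huK _) (hMK x.2.2)⟩
  have hinj : Function.Injective f := by
    rintro ⟨e, m⟩ ⟨e', m'⟩ hxy
    have h1 : u ^ (e : ℕ) * (m : G) = u ^ (e' : ℕ) * (m' : G) := congrArg Subtype.val hxy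
    have h2 : (u ^ (e : ℕ))⁻¹ * (u ^ (e : ℕ) * (m : G)) ∈ M := by simp
    have h3 : (u ^ (e' : ℕ))⁻¹ * (u ^ (e : ℕ) * (m : G)) ∈ M := by rw [h1]; simp
    have hee : (e : ℕ) = e' := dec_unique hup huM e.2 e'.2 h2 h3
    have hee' : e = e' := Fin.ext hee
    subst hee'
    have : (m : G) = m' := mul_left_cancel h1
    have : m = m' := Subtype.ext this
    subst this
    rfl
  have hc : Nat.card K ≤ Nat.card (Fin p × M) := by
    rw [Nat.card_prod, Nat.card_fin, hcard]
  have hbij := hinj.bijective_of_nat_card_le hc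
  intro g hg
  obtain ⟨⟨e, m⟩, hem⟩ := hbij.2 ⟨g, hg⟩
  refine ⟨e, e.2, ?_⟩
  have : u ^ (e : ℕ) * (m : G) = g := congrArg Subtype.val hem
  rw [← this]
  simp

end Cfsg.Agent.Lib.Helper3.EP
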