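import Mathlib
import Cfsg.Agent.Lib.Helper3.EP1
import Cfsg.Agent.Lib.Helper3.EP3
import Cfsg.Agent.Lib.Helper3.EP4

set_option autoImplicit false
set_option maxHeartbeats 4000000
set_option maxRecDepth 100000
set_option linter.unusedVariables false
set_option linter.unusedSectionVars false
set_option linter.style.longLine false
set_option linter.unnecessarySimpa false
set_option linter.unusedSimpArgs false
set_option linter.style.haveILetI false
set_option linter.unusedDecidableInType false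
set_option linter.unusedFintypeInType false

/-!
# Jennings-type lower bound: coset functionals for `K = ⟨u⟩ M`
-/

open scoped commutatorElement

namespace Cfsg.Agent.Lib.Helper3.EP

variable {G : Type*} [Group G] {p : ℕ} [Fact p.Prime]

/-- `ell F u e` is the linear extension of `g ↦ F (u^{-e} g)`. -/
noncomputable def ell {N : Type*} [AddCommGroup N] [Module (ZMod p) N] (F : G → N) (u : G) (e : ℕ) :
    MonoidAlgebra (ZMod p) G →ₗ[ZMod p] N :=
  lin (p := p) (fun g => F ((u ^ e)⁻¹ * g))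

theorem ell_og {N : Type*} [AddCommGroup N] [Module (ZMod p) N] (F : G → N) (u : G) (e : ℕ) (g : G) :
    ell (p := p) F u e (og p g) = F ((u ^ e)⁻¹ * g) := lin_og _ g

theorem ell_succ_ou {N : Type*} [AddCommGroup N] [Module (ZMod p) N] (F : G → N) (u : G) (e : ℕ)
    (x : MonoidAlgebra (ZMod p) G) :
    ell (p := p) F u (e + 1) (og p u * x) = ell (p := p) F u e x := by
  unfold ell
  rw [lin_og_mul]
  have : (fun g => F ((u ^ (e + 1))⁻¹ * (u * g))) = (fun g => F ((u ^ e)⁻¹ * g)) := by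
    funext g
    congr 1
    rw [pow_succ]
    group
  rw [this]

theorem ell_zero_ou {N : Type*} [AddCommGroup N] [Module (ZMod p) N] (F : G → N) {u : G} {m : ℕ}
    (hu : u ^ (m + 1) = 1) (x : MonoidAlgebra (ZMod p) G) :
    ell (p := p) F u 0 (og p u * x) = ell (p := p) F u m x := by
  unfold ell
  rw [lin_og_mul]
  have hinv : (u ^ m)⁻¹ = u := by
    rw [inv_eq_iff_mul_eq_one, ← pow_succ, hu]
  have : (fun g => F ((u ^ 0)⁻¹ * (u * g))) = (fun g => F ((u ^ m)⁻¹ * g)) := by
    funext g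
    congr 1
    rw [hinv]
    simp
  rw [this]

/-- Sum over all cosets. -/
noncomputable def ellSum {N : Type*} [AddCommGroup N] [Module (ZMod p) N] (F : G → N) (u : G) :
    MonoidAlgebra (ZMod p) G →ₗ[ZMod p] N :=
  ∑ e ∈ Finset.range p, ell (p := p) F u e

theorem ellSum_ou {N : Type*} [AddCommGroup N] [Module (ZMod p) N] (F : G → N) {u : G}
    (hu : u ^ p = 1) (x : MonoidAlgebra (ZMod p) G) :
    ellSum (p := p) F u (og p u * x) = ellSum (p := p) F u x := by
  have hp := (Fact.out : p.Prime)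
  obtain ⟨m, hm⟩ : ∃ m, p = m + 1 := ⟨p - 1, by have := hp.two_le; omega⟩
  have hr : Finset.range p = Finset.range (m + 1) := by rw [hm]
  unfold ellSum
  rw [hr, LinearMap.sum_apply, LinearMap.sum_apply, Finset.sum_range_succ', Finset.sum_range_succ]
  rw [ell_zero_ou F (by rw [← hm]; exact hu)]
  congr 1
  apply Finset.sum_congr rfl
  intro e _
  exact ell_succ_ou F u e x

theorem ellSum_dg {N : Type*} [AddCommGroup N] [Module (ZMod p) N] (F : G → N) {u : G}
    (hu : u ^ p = 1) (x : MonoidAlgebra (ZMod p) G) :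
    ellSum (p := p) F u (dg p u * x) = 0 := by
  unfold dg
  rw [sub_mul, one_mul, map_sub, ellSum_ou F hu, sub_self]

theorem ellSum_dg_pow {N : Type*} [AddCommGroup N] [Module (ZMod p) N] (F : G → N) {u : G}
    (hu : u ^ p = 1) (x : MonoidAlgebra (ZMod p) G) {r : ℕ} (hr : 1 ≤ r) :
    ellSum (p := p) F u (dg p u ^ r * x) = 0 := by
  obtain ⟨r', rfl⟩ : ∃ r', r = r' + 1 := ⟨r - 1, by omega⟩
  rw [pow_succ', mul_assoc]
  exact ellSum_dg F hu _

/-- Weighted sum over cosets (the "derivative" functional). -/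
noncomputable def ellW (F : G → ZMod p) (u : G) :
    MonoidAlgebra (ZMod p) G →ₗ[ZMod p] ZMod p :=
  ∑ e ∈ Finset.range p, (e : ZMod p) • ell (p := p) F u e

theorem ellW_ou (F : G → ZMod p) {u : G}
    (hu : u ^ p = 1) (x : MonoidAlgebra (ZMod p) G) :
    ellW (p := p) F u (og p u * x) = ellW (p := p) F u x + ellSum (p := p) F u x := by
  have hp := (Fact.out : p.Prime)
  obtain ⟨m, hm⟩ : ∃ m, p = m + 1 := ⟨p - 1, by have := hp.two_le; omega⟩
  have hr : Finset.range p = Finset.range (m + 1) := by rw [hm]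
  have hm0 : ((m : ZMod p)) + 1 = 0 := by
    have : ((m + 1 : ℕ) : ZMod p) = 0 := by rw [← hm]; exact ZMod.natCast_self p
    push_cast at this
    exact this
  unfold ellW ellSum
  rw [hr]
  simp only [LinearMap.sum_apply, LinearMap.smul_apply]
  rw [Finset.sum_range_succ' (fun e => (e : ZMod p) • ell (p := p) F u e (og p u * x))]
  rw [Finset.sum_range_succ (fun e => (e : ZMod p) • ell (p := p) F u e x)]
  rw [Finset.sum_range_succ (fun e => ell (p := p) F u e x)]
  simp only [Nat.cast_zero, zero_smul, add_zero]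
  have h1 : ∀ e ∈ Finset.range m, ((e + 1 : ℕ) : ZMod p) • ell (p := p) F u (e + 1) (og p u * x)
      = (e : ZMod p) • ell (p := p) F u e x + ell (p := p) F u e x := by
    intro e _
    rw [ell_succ_ou]
    push_cast
    rw [add_smul, one_smul]
  rw [Finset.sum_congr rfl h1, Finset.sum_add_distrib]
  have h2 : (m : ZMod p) • ell (p := p) F u m x + ell (p := p) F u m x = 0 := by
    rw [smul_eq_mul, ← add_one_mul, hm0, zero_mul]
  have h2' : (m : ZMod p) • ell (p := p) F u m x = - ell (p := p) F u m x :=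
    eq_neg_of_add_eq_zero_left h2
  rw [h2']
  ring

theorem ellW_dg (F : G → ZMod p) {u : G}
    (hu : u ^ p = 1) (x : MonoidAlgebra (ZMod p) G) :
    ellW (p := p) F u (dg p u * x) = ellSum (p := p) F u x := by
  unfold dg
  rw [sub_mul, one_mul, map_sub, ellW_ou F hu]
  ring

theorem ellW_dg_pow (F : G → ZMod p) {u : G}
    (hu : u ^ p = 1) (x : MonoidAlgebra (ZMod p) G) {r : ℕ} (hr : 2 ≤ r) :
    ellW (p := p) F u (dg p u ^ r * x) = 0 := by
  obtain ⟨r', rfl⟩ : ∃ r', r = r' + 1 := ⟨r - 1, by omega⟩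
  rw [pow_succ', mul_assoc, ellW_dg F hu]
  exact ellSum_dg_pow F hu x (by omega)

/-! ### Values on group elements -/

section Values

variable {M : Subgroup G} {u : G}

open Classical in
theorem sum_dec {N : Type*} [AddCommMonoid N] (hup : u ^ p = 1) (huM : u ∉ M) (f : ℕ → G → N)
    {g : G} {e₀ : ℕ} (he₀ : e₀ < p) (h₀ : (u ^ e₀)⁻¹ * g ∈ M) :
    ∑ e ∈ Finset.range p, (if (u ^ e)⁻¹ * g ∈ M then f e ((u ^ e)⁻¹ * g) else 0)
      = f e₀ ((u ^ e₀)⁻¹ * g) := by
  rw [Finset.sum_eq_single e₀]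
  · rw [if_pos h₀]
  · intro e he hne
    rw [Finset.mem_range] at he
    rw [if_neg]
    intro h
    exact hne (dec_unique hup huM he he₀ h h₀)
  · intro h
    exact absurd (Finset.mem_range.mpr he₀) h

open Classical in
/-- indicator-type function with values `f h` on `M`. -/
noncomputable def ind {N : Type*} [Zero N] (M : Subgroup G) (f : G → N) (h : G) : N :=
  if h ∈ M then f h else 0

theorem ellSum_og {N : Type*} [AddCommGroup N] [Module (ZMod p) N] (hup : u ^ p = 1) (huM : u ∉ M)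
    (f : G → N) {g : G} {e₀ : ℕ} (he₀ : e₀ < p) (h₀ : (u ^ e₀)⁻¹ * g ∈ M) :
    ellSum (p := p) (ind M f) u (og p g) = f ((u ^ e₀)⁻¹ * g) := by
  classical
  unfold ellSum
  rw [LinearMap.sum_apply]
  simp only [ell_og, ind]
  exact sum_dec hup huM (fun _ h => f h) he₀ h₀

theorem ellW_og (hup : u ^ p = 1) (huM : u ∉ M)
    (f : G → ZMod p) {g : G} {e₀ : ℕ} (he₀ : e₀ < p) (h₀ : (u ^ e₀)⁻¹ * g ∈ M) :
    ellW (p := p) (ind M f) u (og p g) = (e₀ : ZMod p) * f ((u ^ e₀)⁻¹ * g) := by
  classical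
  unfold ellW
  simp only [LinearMap.sum_apply, LinearMap.smul_apply, ell_og, ind, smul_eq_mul]
  have : ∀ e ∈ Finset.range p, (e : ZMod p) * (if (u ^ e)⁻¹ * g ∈ M then f ((u ^ e)⁻¹ * g) else 0)
      = if (u ^ e)⁻¹ * g ∈ M then (fun e h => (e : ZMod p) * f h) e ((u ^ e)⁻¹ * g) else 0 := by
    intro e _
    split_ifs <;> simp
  rw [Finset.sum_congr rfl this]
  exact sum_dec hup huM (fun e h => (e : ZMod p) * f h) he₀ h₀

end Values

end Cfsg.Agent.Lib.Helper3.EP
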