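import Mathlib
import Cfsg.Agent.Lib.Helper3.EP1
import Cfsg.Agent.Lib.Helper3.EP3
import Cfsg.Agent.Lib.Helper3.EP4
import Cfsg.Agent.Lib.Helper3.EP5

set_option autoImplicit false
set_option maxHeartbeats 4000000
set_option maxRecDepth 100000
set_option linter.unusedVariables false
set_option linter.unusedSectionVars false
set_option linter.style.longLine false
set_option linter.unnecessarySimpa false
set_option linter.unusedSimpArgs false
set_option linter.style.haveILetI false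
set_option linter.unusedDecidableInType false
set_option linter.unusedFintypeInType false

/-!
# Jennings-type lower bound: the structural decomposition `L_j(K) ⊆ ∑ U^r L_{j-rw}(M)`
-/

open scoped commutatorElement

namespace Cfsg.Agent.Lib.Helper3.EP

variable {G : Type*} [Group G] {p : ℕ} [Fact p.Prime] {Δ : ℕ → Subgroup G}

/-- The span of the group elements of `M`. -/
noncomputable def AK (p : ℕ) (M : Subgroup G) : Submodule (ZMod p) (MonoidAlgebra (ZMod p) G) :=
  Submodule.span (ZMod p) (og p '' (M : Set G))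

theorem og_mem_AK {M : Subgroup G} {m : G} (hm : m ∈ M) : og p m ∈ AK p M :=
  Submodule.subset_span ⟨m, hm, rfl⟩

theorem AK_mul_og {M : Subgroup G} {x : MonoidAlgebra (ZMod p) G} (hx : x ∈ AK p M) {m : G}
    (hm : m ∈ M) : x * og p m ∈ AK p M := by
  refine Submodule.span_induction (p := fun x _ => x * og p m ∈ AK p M) ?_ ?_ ?_ ?_ hx
  · rintro x ⟨g, hg, rfl⟩
    rw [← og_mul]
    exact og_mem_AK (M.mul_mem hg hm)
  · simp
  · intro x y _ _ hx hy
    rw [add_mul]
    exact Submodule.add_mem _ hx hy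
  · intro a x _ hx
    rw [smul_mul_assoc]
    exact Submodule.smul_mem _ a hx

theorem LK_le_AK {M : Subgroup G} (j : ℕ) : LK p Δ M j ≤ AK p M := by
  have key : ∀ j' x, Gen p Δ M j' x → x ∈ AK p M := by
    intro j' x hx
    induction hx with
    | one => rw [← og_one p]; exact og_mem_AK M.one_mem
    | mul hx' hgM hg ih =>
      unfold dg
      rw [mul_sub, mul_one]
      exact Submodule.sub_mem _ (AK_mul_og ih hgM) ih
  apply Submodule.span_le.2
  rintro x ⟨j', _, hx⟩
  exact key j' x hx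

/-- Hypotheses of the inductive step: `K = ⟨u⟩ M` with `M` normal of index `p`, `K` of weight `w`. -/
structure Step (p : ℕ) (Δ : ℕ → Subgroup G) (K M : Subgroup G) (u : G) (w : ℕ) : Prop where
  hMK : M ≤ K
  huK : u ∈ K
  huM : u ∉ M
  hKw : K ≤ Δ w
  hN : ∀ g ∈ K, g ∈ Δ (w + 1) → g ∈ M
  hnorm : ∀ k ∈ K, ∀ m ∈ M, k⁻¹ * m * k ∈ M
  hup : u ^ p = 1
  hdec : ∀ g ∈ K, ∃ e < p, (u ^ e)⁻¹ * g ∈ M
  hw : 1 ≤ w

section StepSec

variable {K M : Subgroup G} {u : G} {w : ℕ}

/-- the retraction onto `(ZMod p)[M]` along `K = ⟨u⟩ M`. -/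
noncomputable def kap (p : ℕ) [Fact p.Prime] (M : Subgroup G) (u : G) :
    MonoidAlgebra (ZMod p) G →ₗ[ZMod p] MonoidAlgebra (ZMod p) G :=
  ellSum (p := p) (ind M (og p)) u

/-- total augmentation on `K`. -/
noncomputable def epsK (p : ℕ) [Fact p.Prime] (M : Subgroup G) (u : G) :
    MonoidAlgebra (ZMod p) G →ₗ[ZMod p] ZMod p :=
  ellSum (p := p) (ind M (fun _ => (1 : ZMod p))) u

/-- the derivative functional. -/
noncomputable def lam (p : ℕ) [Fact p.Prime] (M : Subgroup G) (u : G) :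
    MonoidAlgebra (ZMod p) G →ₗ[ZMod p] ZMod p :=
  ellW (p := p) (ind M (fun _ => (1 : ZMod p))) u

theorem zero_dec {m : G} (hm : m ∈ M) : (u ^ 0)⁻¹ * m ∈ M := by simpa using hm

theorem kap_AK (st : Step p Δ K M u w) {b : MonoidAlgebra (ZMod p) G} (hb : b ∈ AK p M) :
    kap p M u b = b := by
  have hp := (Fact.out : p.Prime)
  have : Set.EqOn (kap p M u) (LinearMap.id : MonoidAlgebra (ZMod p) G →ₗ[ZMod p] _)
      (og p '' (M : Set G)) := by
    rintro x ⟨m, hm, rfl⟩
    unfold kap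
    rw [ellSum_og st.hup st.huM (og p) hp.pos (zero_dec hm)]
    simp
  exact LinearMap.eqOn_span this hb

theorem epsK_AK (st : Step p Δ K M u w) {b : MonoidAlgebra (ZMod p) G} (hb : b ∈ AK p M) :
    epsK p M u b = aug p G b := by
  have hp := (Fact.out : p.Prime)
  have : Set.EqOn (epsK p M u) ((aug p G).toLinearMap)
      (og p '' (M : Set G)) := by
    rintro x ⟨m, hm, rfl⟩
    unfold epsK
    rw [ellSum_og st.hup st.huM (fun _ => (1 : ZMod p)) hp.pos (zero_dec hm)]
    simp [aug_og]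
  exact LinearMap.eqOn_span this hb

theorem lam_AK (st : Step p Δ K M u w) {b : MonoidAlgebra (ZMod p) G} (hb : b ∈ AK p M) :
    lam p M u b = 0 := by
  have hp := (Fact.out : p.Prime)
  have : Set.EqOn (lam p M u) (0 : MonoidAlgebra (ZMod p) G →ₗ[ZMod p] ZMod p)
      (og p '' (M : Set G)) := by
    rintro x ⟨m, hm, rfl⟩
    unfold lam
    rw [ellW_og st.hup st.huM (fun _ => (1 : ZMod p)) hp.pos (zero_dec hm)]
    simp
  exact LinearMap.eqOn_span this hb

theorem lam_og_ne (st : Step p Δ K M u w) {g : G} (hgK : g ∈ K) (hgM : g ∉ M) :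
    lam p M u (og p g) ≠ 0 := by
  obtain ⟨e, he, hm⟩ := st.hdec g hgK
  unfold lam
  rw [ellW_og st.hup st.huM (fun _ => (1 : ZMod p)) he hm, mul_one]
  intro h0
  rw [ZMod.natCast_eq_zero_iff] at h0
  have he0 : e ≠ 0 := by
    rintro rfl
    apply hgM
    simpa using hm
  have := Nat.le_of_dvd (Nat.pos_of_ne_zero he0) h0
  omega

/-- Membership in `∑_r U^r L_{j - r w}(M)`. -/
def InS (p : ℕ) (Δ : ℕ → Subgroup G) (M : Subgroup G) (u : G) (w j : ℕ)
    (y : MonoidAlgebra (ZMod p) G) : Prop :=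
  ∃ b : ℕ → MonoidAlgebra (ZMod p) G, (∀ r, b r ∈ LK p Δ M (j - r * w)) ∧
    y = ∑ r ∈ Finset.range p, dg p u ^ r * b r

theorem InS_zero (j : ℕ) : InS p Δ M u w j 0 :=
  ⟨fun _ => 0, fun _ => Submodule.zero_mem _, by simp⟩

theorem InS_add {j : ℕ} {y z : MonoidAlgebra (ZMod p) G} (hy : InS p Δ M u w j y)
    (hz : InS p Δ M u w j z) : InS p Δ M u w j (y + z) := by
  obtain ⟨b, hb, rfl⟩ := hy
  obtain ⟨c, hc, rfl⟩ := hz
  refine ⟨fun r => b r + c r, fun r => Submodule.add_mem _ (hb r) (hc r), ?_⟩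
  rw [← Finset.sum_add_distrib]
  apply Finset.sum_congr rfl
  intro r _
  rw [mul_add]

theorem InS_smul {j : ℕ} {y : MonoidAlgebra (ZMod p) G} (a : ZMod p) (hy : InS p Δ M u w j y) :
    InS p Δ M u w j (a • y) := by
  obtain ⟨b, hb, rfl⟩ := hy
  refine ⟨fun r => a • b r, fun r => Submodule.smul_mem _ a (hb r), ?_⟩
  rw [Finset.smul_sum]
  apply Finset.sum_congr rfl
  intro r _
  rw [mul_smul_comm]

theorem InS_anti {i j : ℕ} (hij : i ≤ j) {y : MonoidAlgebra (ZMod p) G} (hy : InS p Δ M u w j y) :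
    InS p Δ M u w i y := by
  obtain ⟨b, hb, rfl⟩ := hy
  exact ⟨b, fun r => LK_anti (by omega) (hb r), rfl⟩

theorem InS_one : InS p Δ M u w 0 (1 : MonoidAlgebra (ZMod p) G) := by
  have hp := (Fact.out : p.Prime)
  refine ⟨fun r => if r = 0 then 1 else 0, ?_, ?_⟩
  · intro r
    by_cases hr : r = 0
    · subst hr
      simpa using one_mem_LK
    · simp [hr]
  · rw [Finset.sum_eq_single 0]
    · simp
    · intro r _ hr
      simp [hr]
    · intro h
      exact absurd (Finset.mem_range.mpr hp.pos) h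

theorem InS_mul_dm {j i : ℕ} {y : MonoidAlgebra (ZMod p) G} (hy : InS p Δ M u w j y) {m : G}
    (hmM : m ∈ M) (hm : m ∈ Δ i) : InS p Δ M u w (j + i) (y * dg p m) := by
  obtain ⟨b, hb, rfl⟩ := hy
  refine ⟨fun r => b r * dg p m, ?_, ?_⟩
  · intro r
    exact LK_anti (by omega) (LK_mul_dg (hb r) hmM hm)
  · rw [Finset.sum_mul]
    apply Finset.sum_congr rfl
    intro r _
    rw [mul_assoc]

theorem InS_mul_om (hΔ : NSer Δ) {j : ℕ} {y : MonoidAlgebra (ZMod p) G} (hy : InS p Δ M u w j y)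
    {m : G} (hmM : m ∈ M) : InS p Δ M u w j (y * og p m) := by
  rw [og_eq, mul_add, mul_one]
  have h1 := InS_mul_dm hy hmM (show m ∈ Δ 0 by rw [hΔ.zero]; trivial)
  exact InS_add (InS_anti (by omega) h1) hy

theorem InS_mul_U (hΔ : NSer Δ) (st : Step p Δ K M u w) {j : ℕ} {y : MonoidAlgebra (ZMod p) G}
    (hy : InS p Δ M u w j y) : InS p Δ M u w (j + w) (y * dg p u) := by
  have hp := (Fact.out : p.Prime)
  obtain ⟨m, hm⟩ : ∃ m, p = m + 1 := ⟨p - 1, by have := hp.two_le; omega⟩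
  have hr : Finset.range p = Finset.range (m + 1) := by rw [hm]
  obtain ⟨b, hb, rfl⟩ := hy
  have hUp : dg p u ^ (m + 1) = 0 := by
    rw [← hm]; exact dg_pow_eq_zero st.hup
  have hcj : ∀ r, cj p u (b r) ∈ LK p Δ M (j - r * w)
      ∧ cj p u (b r) - b r ∈ LK p Δ M (j - r * w + w) := fun r =>
    cj_props hΔ (fun k hk => st.hnorm u st.huK k hk) (st.hKw st.huK) (hb r)
  have hbU : ∀ r, b r * dg p u = dg p u * cj p u (b r) + (cj p u (b r) - b r) := by
    intro r
    have h1 := mul_og_eq (p := p) u (b r)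
    unfold dg
    rw [mul_sub, mul_one, h1]
    noncomm_ring
  refine ⟨fun r => (if r = 0 then 0 else cj p u (b (r - 1))) + (cj p u (b r) - b r), ?_, ?_⟩
  · intro r
    refine Submodule.add_mem _ ?_ ?_
    · by_cases hr0 : r = 0
      · simp [hr0]
      · rw [if_neg hr0]
        have h1 := (hcj (r - 1)).1
        have h2 : (r - 1) * w = r * w - w := by
          rw [Nat.sub_mul, one_mul]
        have h3 : w ≤ r * w := Nat.le_mul_of_pos_left w (Nat.pos_of_ne_zero hr0)
        exact LK_anti (by omega) h1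
    · exact LK_anti (by omega) (hcj r).2
  · rw [Finset.sum_mul]
    have h1 : ∀ r ∈ Finset.range p, dg p u ^ r * b r * dg p u
        = dg p u ^ (r + 1) * cj p u (b r) + dg p u ^ r * (cj p u (b r) - b r) := by
      intro r _
      rw [mul_assoc, hbU r, mul_add, ← mul_assoc, ← pow_succ]
    rw [Finset.sum_congr rfl h1, Finset.sum_add_distrib]
    simp only [mul_add]
    rw [Finset.sum_add_distrib]
    congr 1
    rw [hr, Finset.sum_range_succ, hUp, zero_mul, add_zero, Finset.sum_range_succ']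
    simp

theorem InS_mul_ou (hΔ : NSer Δ) (st : Step p Δ K M u w) {j : ℕ} {y : MonoidAlgebra (ZMod p) G}
    (hy : InS p Δ M u w j y) : InS p Δ M u w j (y * og p u) := by
  rw [og_eq, mul_add, mul_one]
  exact InS_add (InS_anti (by omega) (InS_mul_U hΔ st hy)) hy

theorem InS_mul_ou_pow_sub (hΔ : NSer Δ) (st : Step p Δ K M u w) {j : ℕ}
    {y : MonoidAlgebra (ZMod p) G} (hy : InS p Δ M u w j y) :
    ∀ e : ℕ, InS p Δ M u w (j + w) (y * (og p (u ^ e) - 1)) := by
  intro e
  induction e with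
  | zero => simpa [og_one] using InS_zero (p := p) (Δ := Δ) (M := M) (u := u) (w := w) (j + w)
  | succ e ih =>
    have e1 : y * (og p (u ^ (e + 1)) - 1) = y * (og p (u ^ e) - 1) * og p u + y * dg p u := by
      rw [pow_succ, og_mul]
      unfold dg
      noncomm_ring
    rw [e1]
    exact InS_add (InS_mul_ou hΔ st ih) (InS_mul_U hΔ st hy)

theorem InS_mul_dg (hΔ : NSer Δ) (st : Step p Δ K M u w) {j i : ℕ}
    {y : MonoidAlgebra (ZMod p) G} (hy : InS p Δ M u w j y) {g : G} (hgK : g ∈ K) (hg : g ∈ Δ i) :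
    InS p Δ M u w (j + i) (y * dg p g) := by
  by_cases hgM : g ∈ M
  · exact InS_mul_dm hy hgM hg
  · have hiw : i ≤ w := by
      by_contra hlt
      push Not at hlt
      exact hgM (st.hN g hgK (hΔ.anti (w + 1) i (by omega) hg))
    obtain ⟨e, he, hm⟩ := st.hdec g hgK
    have hge : g = u ^ e * ((u ^ e)⁻¹ * g) := by group
    have e1 : y * dg p g = y * (og p (u ^ e) - 1) * og p ((u ^ e)⁻¹ * g)
        + y * dg p ((u ^ e)⁻¹ * g) := by
      conv_lhs => rw [hge]
      unfold dg
      rw [og_mul]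
      noncomm_ring
    rw [e1]
    refine InS_add ?_ ?_
    · exact InS_anti (by omega) (InS_mul_om hΔ (InS_mul_ou_pow_sub hΔ st hy e) hm)
    · have hmw : (u ^ e)⁻¹ * g ∈ Δ i := hΔ.anti i w hiw (st.hKw (st.hMK hm))
      exact InS_mul_dm hy hm hmw

/-- The structural decomposition. -/
theorem Str (hΔ : NSer Δ) (st : Step p Δ K M u w) {j : ℕ} {x : MonoidAlgebra (ZMod p) G}
    (hx : x ∈ LK p Δ K j) : InS p Δ M u w j x := by
  have key : ∀ j' x, Gen p Δ K j' x → InS p Δ M u w j' x := by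
    intro j' x hx
    induction hx with
    | one => exact InS_one
    | mul hx' hgK hg ih => exact InS_mul_dg hΔ st ih hgK hg
  refine LK_induction (P := fun x => InS p Δ M u w j x) ?_ ?_ ?_ ?_ hx
  · intro j' x hj' hx
    exact InS_anti hj' (key j' x hx)
  · exact InS_zero j
  · intro x y hx hy
    exact InS_add hx hy
  · intro a x hx
    exact InS_smul a hx

end StepSec

end Cfsg.Agent.Lib.Helper3.EP
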