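import Mathlib
import Cfsg.Agent.Lib.Helper3.EP1
import Cfsg.Agent.Lib.Helper3.EP3
import Cfsg.Agent.Lib.Helper3.EP4
import Cfsg.Agent.Lib.Helper3.EP5
import Cfsg.Agent.Lib.Helper3.EP6

set_option autoImplicit false
set_option maxHeartbeats 4000000
set_option maxRecDepth 100000
set_option linter.unusedVariables false
set_option linter.unusedSectionVars false
set_option linter.style.longLine false
set_option linter.unnecessarySimpa false
set_option linter.unusedSimpArgs false
set_option linter.style.haveILetI false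
set_option linter.unusedDecidableInType false
set_option linter.unusedFintypeInType false

/-!
# Jennings-type lower bound and the `(p-1)`-Engel identity for groups of exponent `p`, class `≤ p`
-/

open scoped commutatorElement

namespace Cfsg.Agent.Lib.Helper3.EP

variable {G : Type*} [Group G] {p : ℕ} [Fact p.Prime] {Δ : ℕ → Subgroup G}

theorem exists_step [Finite G] (hΔ : NSer Δ) (hbot : ∃ c, Δ c = ⊥) (hexp : ∀ g : G, g ^ p = 1)
    (K : Subgroup G) (hK : K ≠ ⊥) :
    ∃ (M : Subgroup G) (u : G) (w : ℕ), Step p Δ K M u w ∧ Nat.card M < Nat.card K := by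
  have hp := (Fact.out : p.Prime)
  obtain ⟨c, hc⟩ := hbot
  have hex : ∃ n, ¬ K ≤ Δ n := ⟨c, by rw [hc]; intro h; exact hK (le_bot_iff.mp h)⟩
  classical
  have hn0 : ¬ K ≤ Δ (Nat.find hex) := Nat.find_spec hex
  have hn2 : 2 ≤ Nat.find hex := by
    by_contra hlt
    push Not at hlt
    apply hn0
    have : Nat.find hex = 0 ∨ Nat.find hex = 1 := by omega
    rcases this with h | h <;> rw [h]
    · rw [hΔ.zero]; exact le_top
    · rw [hΔ.one]; exact le_top
  obtain ⟨w, hw⟩ : ∃ w, Nat.find hex = w + 1 := ⟨Nat.find hex - 1, by omega⟩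
  have hw1 : 1 ≤ w := by omega
  have hKw : K ≤ Δ w := by
    by_contra h
    exact Nat.find_min hex (show w < Nat.find hex by omega) h
  have hKw1 : ¬ K ≤ Δ (w + 1) := by rw [← hw]; exact hn0
  -- the maximal subgroup
  have hPK : IsPGroup p ↥K := fun g => ⟨1, by
    apply Subtype.ext
    simp [hexp]⟩
  obtain ⟨k, hk⟩ := hPK.exists_card_eq
  set N' : Subgroup ↥K := (K ⊓ Δ (w + 1)).subgroupOf K with hN'
  have hPN : IsPGroup p ↥N' := hPK.to_subgroup N'
  obtain ⟨n', hn'⟩ := hPN.exists_card_eq
  have hN'top : N' ≠ ⊤ := by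
    intro h
    apply hKw1
    intro g hg
    have : (⟨g, hg⟩ : ↥K) ∈ N' := by rw [h]; trivial
    rw [hN', Subgroup.mem_subgroupOf] at this
    exact this.2
  have hdvd : p ^ n' ∣ p ^ k := by
    rw [← hn', ← hk]
    exact Subgroup.card_subgroup_dvd_card N'
  have hle : n' ≤ k := (Nat.pow_dvd_pow_iff_le_right hp.one_lt).1 hdvd
  have hne : n' ≠ k := by
    intro h
    apply hN'top
    apply Subgroup.eq_top_of_card_eq
    rw [hn', hk, h]
  have hk1 : 1 ≤ k := by omega
  obtain ⟨M', hM'card, hNM'⟩ := Sylow.exists_subgroup_card_pow_prime_le p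
    (show p ^ (k - 1) ∣ Nat.card ↥K by rw [hk]; exact pow_dvd_pow p (by omega)) N' hn'
    (show n' ≤ k - 1 by omega)
  set M : Subgroup G := M'.map K.subtype with hM
  have hMcard : Nat.card M = p ^ (k - 1) := by
    rw [hM, Subgroup.card_map_of_injective K.subtype_injective, hM'card]
  have hKcard : Nat.card K = p * Nat.card M := by
    rw [hMcard, hk, ← pow_succ']
    congr 1
    omega
  have hMK : M ≤ K := Subgroup.map_subtype_le M'
  have hNM : ∀ g ∈ K, g ∈ Δ (w + 1) → g ∈ M := by
    intro g hgK hg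
    have : (⟨g, hgK⟩ : ↥K) ∈ N' := by
      rw [hN', Subgroup.mem_subgroupOf]
      exact ⟨hgK, hg⟩
    exact ⟨⟨g, hgK⟩, hNM' this, rfl⟩
  have hMpos : 0 < Nat.card M := Nat.card_pos
  have hlt : Nat.card M < Nat.card K := by
    rw [hKcard]
    have := hp.two_le
    nlinarith
  obtain ⟨u, huK, huM⟩ : ∃ u ∈ K, u ∉ M := by
    by_contra hcon
    push Not at hcon
    have : K ≤ M := hcon
    have := Subgroup.card_le_of_le this
    omega
  refine ⟨M, u, w, ?_, hlt⟩
  refine
    { hMK := hMK
      huK := huK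
      huM := huM
      hKw := hKw
      hN := hNM
      hnorm := ?_
      hup := hexp u
      hdec := exists_dec hMK hKcard huK huM (hexp u)
      hw := hw1 }
  intro k hkK m hmM
  have h1 : k⁻¹ * m * k = m * ⁅m⁻¹, k⁻¹⁆ := by
    simp [commutatorElement_def, mul_assoc]
  rw [h1]
  refine M.mul_mem hmM (hNM _ ?_ ?_)
  · exact K.mul_mem (K.mul_mem (K.mul_mem (K.inv_mem (hMK hmM)) (K.inv_mem hkK))
      (by simpa using hMK hmM)) (by simpa using hkK)
  · have := hΔ.comm w w _ _ ((Δ w).inv_mem (hKw (hMK hmM))) ((Δ w).inv_mem (hKw hkK))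
    exact hΔ.anti (w + 1) (w + w) (by omega) this

/-- **Jennings-type lower bound** for groups of exponent `p`. -/
theorem LB [Finite G] (hΔ : NSer Δ) (hbot : ∃ c, Δ c = ⊥) (hexp : ∀ g : G, g ^ p = 1) :
    ∀ (n : ℕ) (K : Subgroup G), Nat.card K = n → ∀ (j : ℕ) (g : G), g ∈ K →
      dg p g ∈ LK p Δ K j → g ∈ Δ j := by
  have hp := (Fact.out : p.Prime)
  intro n
  induction n using Nat.strong_induction_on with
  | _ n ih =>
  intro K hKn j g hgK hdg
  by_cases hKbot : K = ⊥
  · rw [hKbot, Subgroup.mem_bot] at hgK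
    rw [hgK]
    exact (Δ j).one_mem
  obtain ⟨M, u, w, st, hlt⟩ := exists_step hΔ hbot hexp K hKbot
  obtain ⟨b, hb, hsum⟩ := Str hΔ st hdg
  have hbAK : ∀ r, b r ∈ AK p M := fun r => LK_le_AK _ (hb r)
  by_cases hgM : g ∈ M
  · -- apply the retraction
    have h1 : dg p g ∈ AK p M := by
      unfold dg
      rw [← og_one p]
      exact Submodule.sub_mem _ (og_mem_AK hgM) (og_mem_AK M.one_mem)
    have h2 : kap p M u (dg p g) = dg p g := kap_AK st h1
    have h3 : kap p M u (dg p g) = b 0 := by
      rw [hsum, map_sum, Finset.sum_eq_single 0]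
      · rw [pow_zero, one_mul]
        exact kap_AK st (hbAK 0)
      · intro r _ hr
        exact ellSum_dg_pow _ st.hup _ (by omega)
      · intro h
        exact absurd (Finset.mem_range.mpr hp.pos) h
    have h4 : dg p g ∈ LK p Δ M j := by
      rw [← h2, h3]
      have := hb 0
      simpa using this
    exact ih (Nat.card M) (by rw [← hKn]; exact hlt) M rfl j g hgM h4
  · by_cases hj : j ≤ w
    · exact hΔ.anti j w hj (st.hKw hgK)
    · exfalso
      push Not at hj
      have h1 : lam p M u (dg p g) ≠ 0 := by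
        unfold dg
        rw [map_sub, ← og_one p, lam_AK st (og_mem_AK M.one_mem), sub_zero]
        exact lam_og_ne st hgK hgM
      apply h1
      rw [hsum, map_sum]
      apply Finset.sum_eq_zero
      intro r _
      rcases Nat.lt_or_ge r 2 with hr | hr
      · interval_cases r
        · rw [pow_zero, one_mul]
          exact lam_AK st (hbAK 0)
        · rw [pow_one]
          unfold lam
          rw [ellW_dg _ st.hup]
          have h2 := epsK_AK st (hbAK 1)
          unfold epsK at h2
          rw [h2]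
          exact aug_LK (by rw [one_mul]; omega) (hb 1)
      · exact ellW_dg_pow _ st.hup _ hr

/-- A finite group of odd prime exponent `p` with an `N`-series of length `≤ p`
(e.g. nilpotency class `≤ p`) satisfies the `(p-1)`-Engel identity. -/
theorem engel [Finite G] (hΔ : NSer Δ) (hbot : Δ (p + 1) = ⊥) (hp2 : p ≠ 2)
    (hexp : ∀ g : G, g ^ p = 1) (t y : G) : icom t y (p - 1) = 1 := by
  have h := engel_mem hΔ hp2 hexp t y
  have h2 := LB hΔ ⟨p + 1, hbot⟩ hexp _ ⊤ rfl (p + 1) _ (Subgroup.mem_top _) h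
  rw [hbot] at h2
  exact (Subgroup.mem_bot).1 h2

end Cfsg.Agent.Lib.Helper3.EP
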