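import Mathlib
import Cfsg.Agent.Lib.Helper3.EP7
import Cfsg.Agent.Lib.Helper1.Mcl18

set_option autoImplicit false
set_option maxHeartbeats 4000000
set_option maxRecDepth 100000
set_option linter.unusedVariables false
set_option linter.unusedSectionVars false
set_option linter.style.longLine false
set_option linter.unnecessarySimpa false
set_option linter.unusedSimpArgs false
set_option linter.style.haveILetI false
set_option linter.unusedDecidableInType false
set_option linter.unusedFintypeInType false

/-!
# `p`-groups of maximal class of order `p^(p+1)` do not have exponent `p`;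
  `|H : ℧₁(H)| ≤ p^p` for subgroups of `p`-groups of maximal class
-/

open scoped commutatorElement Pointwise
universe u

namespace Cfsg.Agent.Lib.Helper3.EP

open Cfsg.Agent.Lib.Helper1.Mcl
open Cfsg.Agent.Lib.Helper3.Breadth (twoStep mem_twoStep)

variable {G : Type u} [Group G] [Finite G] {p : ℕ} [hp : Fact p.Prime]

/-- the lower central series as an `N`-series (index shift by one). -/
theorem nser_L : NSer (fun k : ℕ => L G (k - 1)) where
  zero := by simp [L]
  one := by simp [L]
  anti := by
    intro i j hij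
    exact L_anti (by omega)
  comm := by
    intro i j x y hx hy
    rcases Nat.eq_zero_or_pos i with hi | hi
    · subst hi
      have := comm_mem_L' hy x
      simp only [zero_add]
      exact L_anti (by omega) this
    rcases Nat.eq_zero_or_pos j with hj | hj
    · subst hj
      have := comm_mem_L hx y
      simp only [add_zero]
      exact L_anti (by omega) this
    · have := comm_mem_LL hx hy
      have e : i - 1 + (j - 1) + 1 = i + j - 1 := by omega
      rw [e] at this
      exact this

theorem icom_eq_ic (t y : G) : ∀ k, icom t y k = ic t y k := by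
  intro k
  induction k with
  | zero => rfl
  | succ k ih =>
    show ⁅t, icom t y k⁆ = ⁅t, ic t y k⁆
    rw [ih]

/-- A `p`-group of maximal class of order `p^(p+1)` (`p` odd) does not have exponent `p`. -/
theorem exists_pow_ne_one (hp2 : p ≠ 2) (h : MaxCl p (p + 1) G) : ∃ g : G, g ^ p ≠ 1 := by
  by_contra hcon
  push Not at hcon
  have hp3 : 3 ≤ p := by
    have := hp.out.two_le
    omega
  have hm4 : 4 ≤ p + 1 := by omega
  obtain ⟨s, hs⟩ := exists_uniform (p := p) (p + 1) hm4 G h
  -- an element of twoStep 1 outside L 1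
  have hidx : (twoStep G 1).index = p := h.index_twoStep le_rfl (by omega)
  have hidx2 : (L G 1).index = p ^ 2 := h.index_L_one
  obtain ⟨x, hx, hx1⟩ : ∃ x ∈ twoStep G 1, x ∉ L G 1 := by
    by_contra hcon2
    push Not at hcon2
    have hle : twoStep G 1 ≤ L G 1 := hcon2
    have := Subgroup.index_dvd_of_le hle
    rw [hidx, hidx2] at this
    have h2 : p ^ 2 ≤ p := Nat.le_of_dvd hp.out.pos this
    nlinarith [hp.out.two_le]
  have hbot : (fun k : ℕ => L G (k - 1)) (p + 1) = ⊥ := by
    show L G (p + 1 - 1) = ⊥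
    exact h.bot
  have heng := engel (p := p) (nser_L (G := G)) hbot hp2 hcon s x
  rw [icom_eq_ic] at heng
  have hc1 : ⁅s, x⁆ ∈ L G 1 := by
    have := comm_mem_L' (show x ∈ L G 0 by simp [L]) s
    simpa using this
  have hc2 : ⁅s, x⁆ ∉ L G 2 := h.comm_not_mem_two hm4 hs hx hx1
  have hk : p - 1 = (p - 2) + 1 := by omega
  rw [hk, ic_succ'] at heng
  have hnot := h.ic_not_mem hs le_rfl hc1 hc2 (p - 2) (by omega)
  apply hnot
  rw [heng]
  exact Subgroup.one_mem _

/-- `|H : ℧₁(H)| ≤ p^p` for `MaxCl p m G` with `p + 2 ≤ m`. -/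
theorem relIndex_pow_le_of_large {m : ℕ} (h : MaxCl p m G) (hmp : p + 2 ≤ m) (H : Subgroup G) :
    (Subgroup.closure {y : G | ∃ h ∈ H, y = h ^ p}).relIndex H ≤ p ^ p := by
  have hp2 := hp.out.two_le
  have hm4 : 4 ≤ m := by omega
  obtain ⟨s, hs⟩ := exists_uniform (p := p) m hm4 G h
  set K := Subgroup.closure {y : G | ∃ h ∈ H, y = h ^ p} with hK
  have hKH : K ≤ H := by
    rw [hK, Subgroup.closure_le]
    rintro y ⟨g, hg, rfl⟩
    exact H.pow_mem hg p
  have hpow : ∀ x ∈ H ⊓ twoStep G 1, x ^ p ∈ K := by
    intro x hx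
    exact Subgroup.subset_closure ⟨x, hx.1, rfl⟩
  have h1 := h.card_le_of_pow_mem hm4 hmp hs (H ⊓ twoStep G 1) K inf_le_right hpow
  -- |H| ≤ p |H ⊓ T|
  haveI : (twoStep G 1).Normal := twoStep_normal 1
  have h2 : (twoStep G 1).relIndex H ∣ (twoStep G 1).index := Subgroup.relIndex_dvd_index_of_normal _ _
  rw [h.index_twoStep le_rfl (by omega)] at h2
  have h3 : (twoStep G 1).relIndex H ≤ p := Nat.le_of_dvd hp.out.pos h2
  have h4 : (H ⊓ twoStep G 1).relIndex H = (twoStep G 1).relIndex H := by
    rw [Subgroup.inf_relIndex_left]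
  have h5 := Cfsg.Agent.Lib.Helper2.card_mul_relIndex (inf_le_left : H ⊓ twoStep G 1 ≤ H)
  have h6 := Cfsg.Agent.Lib.Helper2.card_mul_relIndex hKH
  have hKpos : 0 < Nat.card K := Nat.card_pos
  have h7 : Nat.card K * K.relIndex H ≤ Nat.card K * p ^ p := by
    rw [h6, ← h5, h4]
    calc Nat.card (H ⊓ twoStep G 1 : Subgroup G) * (twoStep G 1).relIndex H
        ≤ (p ^ (p - 1) * Nat.card K) * p := Nat.mul_le_mul h1 h3
      _ = Nat.card K * p ^ p := by
        have : p ^ p = p ^ (p - 1) * p := by
          rw [← pow_succ]; congr 1; omega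
        rw [this]; ring
  exact Nat.le_of_mul_le_mul_left h7 hKpos

end Cfsg.Agent.Lib.Helper3.EP
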