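import Mathlib
import Cfsg.Agent.Lib.Helper3.EndSub1
import Cfsg.Agent.Lib.Helper6.GaloisConj
import Cfsg.Agent.Lib.Helper6.Multiplicity
import Cfsg.Agent.Lib.Helper6.CharOps
import Cfsg.Agent.Lib.Helper6.IrrBasis

set_option autoImplicit false

/-! Galois-stable sub-characters of `χ \bar χ` contradict irreducibility of `χ χ^σ`. -/

namespace Cfsg.Agent.Lib.Helper3.EndSub

open Cfsg Cfsg.Agent.Lib.Helper6 Module
open scoped ComplexConjugate

section partC

variable {G : Type*} [Group G] [Fintype G]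

theorem IsCharacter.comp_pow' {ψ : G → ℂ} (hψ : IsCharacter G ψ) {k : ℕ}
    (hk : k.Coprime (Nat.card G)) : IsCharacter G (fun g => ψ (g ^ k)) := by
  classical
  haveI : Fintype (IrrCharacter G) := Fintype.ofFinite _
  obtain ⟨m, hm, -⟩ := IsCharacter.exists_mult hψ
  have h : (fun g => ψ (g ^ k)) = ∑ θ : IrrCharacter G, m θ • (fun g => (θ : G → ℂ) (g ^ k)) := by
    funext g
    rw [hm]
    simp only [Finset.sum_apply, Pi.smul_apply]
  rw [h]
  apply IsCharacter.sum
  intro θ _
  exact IsCharacter.nsmul (IsIrrCharacter.isCharacter (IsIrrCharacter.comp_pow θ.2 hk)) _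

theorem classInner_self_ne_zero' {f : G → ℂ} {g₀ : G} (h : f g₀ ≠ 0) : classInner f f ≠ 0 := by
  unfold classInner
  apply mul_ne_zero
  · apply inv_ne_zero
    exact_mod_cast (Nat.card_pos (α := G)).ne'
  · have h1 : ∑ g : G, f g * conj (f g) = ((∑ g : G, Complex.normSq (f g) : ℝ) : ℂ) := by
      push_cast
      apply Finset.sum_congr rfl
      intro g _
      rw [Complex.mul_conj]
    rw [h1]
    intro h0
    have h2 : (∑ g : G, Complex.normSq (f g)) = 0 := by exact_mod_cast h0
    rw [Finset.sum_eq_zero_iff_of_nonneg (fun g _ => Complex.normSq_nonneg _)] at h2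
    have h3 := h2 g₀ (Finset.mem_univ _)
    rw [Complex.normSq_eq_zero] at h3
    exact h h3

theorem classInner_one_one : classInner (fun _ : G => (1 : ℂ)) (fun _ : G => (1 : ℂ)) = 1 := by
  unfold classInner
  simp only [map_one, mul_one, Finset.sum_const, Finset.card_univ, nsmul_eq_mul]
  rw [← Nat.card_eq_fintype_card]
  apply inv_mul_cancel₀
  exact_mod_cast (Nat.card_pos (α := G)).ne'

theorem IsCharacter.conj_apply {χ : G → ℂ} (hχ : IsCharacter G χ) (g : G) :
    conj (χ g) = χ g⁻¹ := by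
  obtain ⟨n, ρ, rfl⟩ := hχ
  rw [character_inv]

/-- if `χ \bar χ = 1 + β + r` with characters `β ≠ 0`, `r`, and `β` is stable under the
`k`-th power map, then `χ χ^{(k)}` has norm at least 2. -/
theorem classInner_mul_pow_ne_one {χ : G → ℂ} (hχ : IsCharacter G χ) {k : ℕ}
    (hk : k.Coprime (Nat.card G))
    {β : G → ℂ} (hβ : IsCharacter G β)
    (hr : IsCharacter G (fun g => χ g⁻¹ * χ g - 1 - β g))
    (hβk : ∀ g, β (g ^ k) = β g) (hβ1 : β 1 ≠ 0) :
    classInner (fun g => χ g * χ (g ^ k)) (fun g => χ g * χ (g ^ k)) ≠ 1 := by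
  set r : G → ℂ := fun g => χ g⁻¹ * χ g - 1 - β g with hrdef
  set r' : G → ℂ := fun g => r (g ^ k) with hr'def
  have hr' : IsCharacter G r' := IsCharacter.comp_pow' hr hk
  set one : G → ℂ := fun _ => 1 with hone
  have h1 : IsCharacter G one := isCharacter_one
  have hα : ∀ g, χ g⁻¹ * χ g = (one + β + r) g := by
    intro g
    simp only [Pi.add_apply, hrdef, hone]
    ring
  have hreal : ∀ g, conj (χ g⁻¹ * χ g) = χ g⁻¹ * χ g := by
    intro g
    rw [map_mul, IsCharacter.conj_apply hχ, IsCharacter.conj_apply hχ, inv_inv, mul_comm]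
  have hE : classInner (fun g => χ g * χ (g ^ k)) (fun g => χ g * χ (g ^ k)) =
      classInner (one + β + r) (one + β + r') := by
    unfold classInner
    congr 1
    apply Finset.sum_congr rfl
    intro g _
    have h2 : (one + β + r') g = χ (g ^ k)⁻¹ * χ (g ^ k) := by
      simp only [Pi.add_apply, hr'def, hrdef, hone, hβk]
      ring
    rw [h2, hreal, ← hα g, map_mul, IsCharacter.conj_apply hχ, IsCharacter.conj_apply hχ]
    ring
  rw [hE]
  simp only [classInner_add_left, classInner_add_right]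
  obtain ⟨n11, e11⟩ := IsCharacter.classInner_nat h1 h1
  obtain ⟨n12, e12⟩ := IsCharacter.classInner_nat h1 hβ
  obtain ⟨n13, e13⟩ := IsCharacter.classInner_nat h1 hr'
  obtain ⟨n21, e21⟩ := IsCharacter.classInner_nat hβ h1
  obtain ⟨n22, e22⟩ := IsCharacter.classInner_nat hβ hβ
  obtain ⟨n23, e23⟩ := IsCharacter.classInner_nat hβ hr'
  obtain ⟨n31, e31⟩ := IsCharacter.classInner_nat hr h1
  obtain ⟨n32, e32⟩ := IsCharacter.classInner_nat hr hβ
  obtain ⟨n33, e33⟩ := IsCharacter.classInner_nat hr hr'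
  have hn11 : n11 = 1 := by
    have := classInner_one_one (G := G)
    rw [e11] at this
    exact_mod_cast this
  have hn22 : n22 ≠ 0 := by
    intro h0
    have := classInner_self_ne_zero' (f := β) hβ1
    rw [e22, h0] at this
    exact this (by simp)
  rw [e11, e12, e13, e21, e22, e23, e31, e32, e33]
  intro h
  have h' : n11 + n21 + n31 + (n12 + n22 + n32) + (n13 + n23 + n33) = 1 := by exact_mod_cast h
  omega

end partC

end Cfsg.Agent.Lib.Helper3.EndSub
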