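import Mathlib
import Cfsg.Agent.Lib.Helper6.GaloisConj

set_option autoImplicit false

/-! Commutator sums over abelian and class-two normal subgroups are stable under coprime power
maps. -/

namespace Cfsg.Agent.Lib.Helper3.EndSub

open Cfsg Cfsg.Agent.Lib.Helper6

section abelian

variable {G : Type*} [Group G] [Finite G] (B : Subgroup G) [hBn : B.Normal]

/-- for an abelian normal subgroup `B`, the multiset of commutators `[g^k, b]` (`b ∈ B`) equals
that of the `[g, b]` -/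
theorem sum_comm_pow_eq_of_comm [Fintype B] (hB : ∀ a ∈ B, ∀ b ∈ B, a * b = b * a) {k : ℕ}
    (hk : k.Coprime (Nat.card G)) (f : G → ℂ) (g : G) :
    ∑ b : B, f (g ^ k * (b : G) * (g ^ k)⁻¹ * (b : G)⁻¹) =
      ∑ b : B, f (g * (b : G) * g⁻¹ * (b : G)⁻¹) := by
  classical
  haveI : Fintype G := Fintype.ofFinite G
  letI : CommGroup B :=
    { (inferInstance : Group B) with mul_comm := fun a b => Subtype.ext (hB a a.2 b b.2) }
  let γ : MulAut B := MulAut.conjNormal g
  let ν : B →* B := ∏ i ∈ Finset.range k, ((γ ^ i : MulAut B) : B ≃* B).toMonoidHom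
  have hν : ∀ b, ν b = ∏ i ∈ Finset.range k, (γ ^ i) b := by
    intro b
    simp only [ν, MonoidHom.finset_prod_apply]
    rfl
  have hγpow : ∀ (i : ℕ) (b : B), (((γ ^ i) b : B) : G) = g ^ i * b * (g ^ i)⁻¹ := by
    intro i b
    have : γ ^ i = MulAut.conjNormal (g ^ i) := (map_pow (MulAut.conjNormal (H := B)) g i).symm
    rw [this]
    exact MulAut.conjNormal_apply _ _
  have key : ∀ b : B, γ (ν b) / ν b = (γ ^ k) b / b := by
    intro b
    rw [hν, map_prod, ← Finset.prod_div_distrib]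
    have h1 : ∀ i, γ ((γ ^ i) b) / (γ ^ i) b = (γ ^ (i + 1)) b / (γ ^ i) b := by
      intro i
      rw [pow_succ', MulAut.mul_apply]
    simp_rw [h1]
    rw [Finset.prod_range_div (fun i => (γ ^ i) b)]
    simp
  have hcoe1 : ∀ b : B, ((γ (ν b) / ν b : B) : G) = g * (ν b : G) * g⁻¹ * (ν b : G)⁻¹ := by
    intro b
    rw [div_eq_mul_inv, Subgroup.coe_mul, Subgroup.coe_inv]
    congr 1
  have hcoe2 : ∀ b : B, (((γ ^ k) b / b : B) : G) = g ^ k * (b : G) * (g ^ k)⁻¹ * (b : G)⁻¹ := by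
    intro b
    rw [div_eq_mul_inv, Subgroup.coe_mul, Subgroup.coe_inv, hγpow]
  have hinj : Function.Injective ν := by
    rw [injective_iff_map_eq_one]
    intro d hd
    have h1 := key d
    rw [hd, map_one, div_one, eq_comm, div_eq_one] at h1
    have h2 : g ^ k * (d : G) * (g ^ k)⁻¹ = d := by
      rw [← hγpow]; exact congrArg Subtype.val h1
    have h3 : g ^ k ∈ Subgroup.centralizer ({(d : G)} : Set G) := by
      rw [Subgroup.mem_centralizer_iff]
      intro h hh
      rw [Set.mem_singleton_iff] at hh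
      subst hh
      calc (d : G) * g ^ k = g ^ k * (d : G) * (g ^ k)⁻¹ * g ^ k := by rw [h2]
        _ = g ^ k * d := by group
    rw [pow_mem_iff_of_coprime _ hk] at h3
    have h4 : (d : G) * g = g * d := by
      rw [Subgroup.mem_centralizer_iff] at h3
      exact h3 _ rfl
    have h5 : ∀ i : ℕ, (γ ^ i) d = d := by
      intro i
      apply Subtype.ext
      rw [hγpow]
      have : (d : G) * g ^ i = g ^ i * d := by
        induction i with
        | zero => simp
        | succ j ih => rw [pow_succ, ← mul_assoc, ih, mul_assoc, h4, mul_assoc]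
      rw [← this]; group
    have h6 : ν d = d ^ k := by
      rw [hν, Finset.prod_congr rfl (fun i _ => h5 i), Finset.prod_const, Finset.card_range]
    rw [hd] at h6
    have h7 : (d : G) ^ k ∈ (⊥ : Subgroup G) := by
      rw [Subgroup.mem_bot]
      have := congrArg Subtype.val h6.symm
      simpa using this
    rw [pow_mem_iff_of_coprime _ hk, Subgroup.mem_bot] at h7
    exact Subtype.ext h7
  have hbij : Function.Bijective ν := Finite.injective_iff_bijective.mp hinj
  rw [← Equiv.sum_comp (Equiv.ofBijective ν hbij)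
    (fun b : B => f (g * (b : G) * g⁻¹ * (b : G)⁻¹))]
  apply Finset.sum_congr rfl
  intro b _
  rw [Equiv.ofBijective_apply, ← hcoe1, ← hcoe2, key]

end abelian

section classtwo

variable {G : Type*} [Group G]

theorem comm_mul_of_central (g a b : G) (hb : g * b * g⁻¹ * b⁻¹ ∈ Subgroup.center G) :
    g * (a * b) * g⁻¹ * (a * b)⁻¹ = (g * b * g⁻¹ * b⁻¹) * (g * a * g⁻¹ * a⁻¹) := by
  have h1 : g * (a * b) * g⁻¹ * (a * b)⁻¹ = (g * a * g⁻¹) * (g * b * g⁻¹ * b⁻¹) * a⁻¹ := by group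
  rw [Subgroup.mem_center_iff] at hb
  rw [h1, hb (g * a * g⁻¹)]
  group

theorem comm_inv_of_central (g a : G) (ha : g * a * g⁻¹ * a⁻¹ ∈ Subgroup.center G) :
    g * a⁻¹ * g⁻¹ * a⁻¹⁻¹ = (g * a * g⁻¹ * a⁻¹)⁻¹ := by
  have hz : (g * a * g⁻¹ * a⁻¹)⁻¹ ∈ Subgroup.center G := inv_mem ha
  have h1 : g * a⁻¹ * g⁻¹ * a⁻¹⁻¹ = a⁻¹ * (g * a * g⁻¹ * a⁻¹)⁻¹ * a := by group
  rw [Subgroup.mem_center_iff] at hz
  rw [h1, hz a⁻¹]
  group

/-- the elements of `A` whose commutator with `g` is central -/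
def Dg (A : Subgroup G) (g : G) : Subgroup G where
  carrier := {a | a ∈ A ∧ g * a * g⁻¹ * a⁻¹ ∈ Subgroup.center G}
  mul_mem' := fun {a b} ha hb => ⟨A.mul_mem ha.1 hb.1, by
    rw [comm_mul_of_central g a b hb.2]; exact mul_mem hb.2 ha.2⟩
  one_mem' := ⟨A.one_mem, by simp⟩
  inv_mem' := fun {a} ha => ⟨A.inv_mem ha.1, by
    rw [comm_inv_of_central g a ha.2]; exact inv_mem ha.2⟩

theorem mem_Dg {A : Subgroup G} {g a : G} :
    a ∈ Dg A g ↔ a ∈ A ∧ g * a * g⁻¹ * a⁻¹ ∈ Subgroup.center G := Iff.rfl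

theorem Dg_le (A : Subgroup G) (g : G) : Dg A g ≤ A := fun _ h => h.1

theorem pow_comm_of_mem_Dg {A : Subgroup G} {g a : G} (ha : a ∈ Dg A g) (m : ℕ) :
    g ^ m * a * (g ^ m)⁻¹ * a⁻¹ = (g * a * g⁻¹ * a⁻¹) ^ m := by
  induction m with
  | zero => simp
  | succ m ih =>
    have hz := ha.2
    rw [Subgroup.mem_center_iff] at hz
    have h1 : g ^ (m + 1) * a * (g ^ (m + 1))⁻¹ * a⁻¹ =
        g ^ m * (g * a * g⁻¹ * a⁻¹) * a * (g ^ m)⁻¹ * a⁻¹ := by
      rw [pow_succ]; group
    rw [h1, hz (g ^ m), pow_succ']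
    rw [← ih]
    group

theorem comm_pow_of_mem_Dg {A : Subgroup G} {g a : G} (ha : a ∈ Dg A g) (m : ℕ) :
    g * a ^ m * g⁻¹ * (a ^ m)⁻¹ = (g * a * g⁻¹ * a⁻¹) ^ m := by
  induction m with
  | zero => simp
  | succ m ih =>
    rw [pow_succ, comm_mul_of_central g (a ^ m) a ha.2, ih, ← pow_succ']

theorem sum_subgroup_eq_sum_of_le {D A : Subgroup G} [Fintype D] [Fintype A] (hDA : D ≤ A)
    (f : G → ℂ) (h0 : ∀ a ∈ A, a ∉ D → f a = 0) :
    ∑ a : A, f a = ∑ d : D, f d := by
  classical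
  have hinj : Function.Injective (Subgroup.inclusion hDA) := Subgroup.inclusion_injective hDA
  have h1 : ∑ d : D, f d = ∑ a ∈ Finset.univ.image (Subgroup.inclusion hDA), f (a : G) := by
    rw [Finset.sum_image (fun x _ y _ h => hinj h)]
    rfl
  rw [h1]
  symm
  apply Finset.sum_subset (Finset.subset_univ _)
  intro a _ ha
  apply h0 a a.2
  intro haD
  apply ha
  rw [Finset.mem_image]
  exact ⟨⟨a, haD⟩, Finset.mem_univ _, Subtype.ext rfl⟩

/-- for a normal subgroup `A` and a function `f` vanishing on the noncentral elements of `A`,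
the commutator sums over `A` are stable under coprime power maps -/
theorem sum_comm_pow_eq_of_class_two [Finite G] (A : Subgroup G) [hA : A.Normal] [Fintype A]
    {k : ℕ} (hk : k.Coprime (Nat.card G)) (f : G → ℂ)
    (hf0 : ∀ c ∈ A, c ∉ Subgroup.center G → f c = 0) (g : G) :
    ∑ a : A, f (g ^ k * (a : G) * (g ^ k)⁻¹ * (a : G)⁻¹) =
      ∑ a : A, f (g * (a : G) * g⁻¹ * (a : G)⁻¹) := by
  classical
  haveI : ∀ h : G, Fintype (Dg A h) := fun h => Fintype.ofFinite _
  have step1 : ∀ h : G, ∑ a : A, f (h * (a : G) * h⁻¹ * (a : G)⁻¹) =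
      ∑ a : Dg A h, f (h * (a : G) * h⁻¹ * (a : G)⁻¹) := by
    intro h
    apply sum_subgroup_eq_sum_of_le (Dg_le A h) (fun a => f (h * a * h⁻¹ * a⁻¹))
    intro a haA haD
    apply hf0
    · exact A.mul_mem (hA.conj_mem a haA h) (A.inv_mem haA)
    · intro hc
      exact haD ⟨haA, hc⟩
  have step2 : Dg A (g ^ k) = Dg A g := by
    apply le_antisymm
    · intro a ha
      have hcop : Nat.Coprime k (orderOf g) :=
        Nat.Coprime.coprime_dvd_right (orderOf_dvd_natCard g) hk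
      obtain ⟨m, hm⟩ := exists_pow_eq_self_of_coprime hcop
      refine ⟨ha.1, ?_⟩
      have := pow_comm_of_mem_Dg ha m
      rw [hm] at this
      rw [this]
      exact pow_mem ha.2 m
    · intro a ha
      refine ⟨ha.1, ?_⟩
      rw [pow_comm_of_mem_Dg ha k]
      exact pow_mem ha.2 k
  rw [step1 (g ^ k), step1 g]
  have step3 : ∑ a : Dg A (g ^ k), f (g ^ k * (a : G) * (g ^ k)⁻¹ * (a : G)⁻¹) =
      ∑ a : Dg A g, f (g ^ k * (a : G) * (g ^ k)⁻¹ * (a : G)⁻¹) :=
    Fintype.sum_equiv (MulEquiv.subgroupCongr step2).toEquiv _ _ (fun _ => rfl)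
  rw [step3]
  have hcopD : (Nat.card (Dg A g)).Coprime k :=
    (Nat.Coprime.coprime_dvd_right (Subgroup.card_subgroup_dvd_card _) hk).symm
  rw [← Equiv.sum_comp (powCoprime hcopD)
    (fun a : Dg A g => f (g * (a : G) * g⁻¹ * (a : G)⁻¹))]
  apply Finset.sum_congr rfl
  intro a _
  have h1 : ((powCoprime hcopD a : Dg A g) : G) = (a : G) ^ k := rfl
  rw [h1, pow_comm_of_mem_Dg a.2 k, comm_pow_of_mem_Dg a.2 k]

end classtwo

end Cfsg.Agent.Lib.Helper3.EndSub
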