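import Mathlib
import Cfsg.Agent.Lib.Helper3.EndSub2
import Cfsg.Agent.Lib.Helper3.EndSub3
import Cfsg.Agent.Lib.Helper6.Orthogonality
import Cfsg.Agent.Lib.Helper6.CenterIndex
import Cfsg.Prelude.Def_Solvable

set_option autoImplicit false

/-! A faithful irreducible character `χ` with `χ χ^σ` irreducible forces `F(G) = Z(G)`. -/

namespace Cfsg.Agent.Lib.Helper3.EndSub

open Cfsg Cfsg.Agent.Lib.Helper6 Module
open scoped ComplexConjugate

section bridge

variable {G : Type*} [Group G] [Fintype G]

/-- an element where a faithful irreducible character has maximal absolute value is central -/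
theorem mem_center_of_norm_eq' {n : ℕ} (ρ : Representation ℂ G (Fin n → ℂ))
    (hfaith : ∀ g : G, ρ.character g = ρ.character 1 → g = 1) {x : G}
    (hx : ‖ρ.character x‖ = (finrank ℂ (Fin n → ℂ) : ℝ)) :
    x ∈ Subgroup.center G := by
  have h1 : ρ.character 1 = (Module.finrank ℂ (Fin n → ℂ) : ℂ) := Representation.char_one ρ
  obtain ⟨ω, hω⟩ := (norm_character_eq_iff ρ x).mp hx
  rw [Subgroup.mem_center_iff]
  intro g
  have hk : ρ (x * g * x⁻¹ * g⁻¹) = LinearMap.id := by
    have hcomm : ρ x * ρ g = ρ g * ρ x := by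
      rw [hω]
      ext v
      simp
    have : ρ (x * g * x⁻¹ * g⁻¹) = ρ (g * x * x⁻¹ * g⁻¹) := by
      rw [map_mul, map_mul, map_mul, hcomm, ← map_mul, ← map_mul, ← map_mul]
    rw [this]
    have : g * x * x⁻¹ * g⁻¹ = 1 := by group
    rw [this, map_one]; rfl
  have := (character_eq_finrank_iff ρ (x * g * x⁻¹ * g⁻¹)).mpr hk
  have h := hfaith _ (this.trans h1.symm)
  have : x * g = g * x := by
    have h' : x * g * x⁻¹ * g⁻¹ * (g * x) = g * x := by rw [h, one_mul]
    rw [← h']; group
  exact this.symm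

/-- the bridging lemma: a normal subgroup whose commutator sums are stable under the `k`-th
power map is central -/
theorem le_center_of_sum_pow_eq {χ : G → ℂ} (hχ : IsIrrCharacter G χ)
    (hfaith : ∀ g : G, χ g = χ 1 → g = 1) {k : ℕ} (hk : k.Coprime (Nat.card G))
    (hirr : IsIrrCharacter G (fun g => χ g * χ (g ^ k)))
    (N : Subgroup G) [N.Normal] [Fintype N]
    (hsum : ∀ g : G, ∑ a : N, χ (g ^ k * (a : G) * (g ^ k)⁻¹ * (a : G)⁻¹) =
      ∑ a : N, χ (g * (a : G) * g⁻¹ * (a : G)⁻¹)) :
    N ≤ Subgroup.center G := by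
  by_contra hle
  obtain ⟨x, hxN, hxZ⟩ := SetLike.not_le_iff_exists.mp hle
  have hχ' := hχ
  obtain ⟨n, ρ, hirr', rfl⟩ := hχ
  haveI := hirr'
  obtain ⟨hβ, hr⟩ := isCharacter_sub ρ N
  have hd : (finrank ℂ (Fin n → ℂ) : ℂ) ≠ 0 := by
    exact_mod_cast (finrank_pos_of_isIrreducible ρ).ne'
  have hr' : IsCharacter G (fun g => ρ.character g⁻¹ * ρ.character g - 1 -
      ((om ρ N)⁻¹ * ∑ a : N, ρ.character (g * (a : G) * g⁻¹ * (a : G)⁻¹) - 1)) := by
    convert hr using 2
    ring
  have hβk : ∀ g : G, (om ρ N)⁻¹ * ∑ a : N, ρ.character (g ^ k * (a : G) * (g ^ k)⁻¹ * (a : G)⁻¹)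
      - 1 = (om ρ N)⁻¹ * ∑ a : N, ρ.character (g * (a : G) * g⁻¹ * (a : G)⁻¹) - 1 := by
    intro g
    rw [hsum g]
  have hβ1 : (om ρ N)⁻¹ * ∑ a : N, ρ.character (1 * (a : G) * 1⁻¹ * (a : G)⁻¹) - 1 ≠ 0 := by
    intro h0
    have h1 : ∑ a : N, ρ.character (1 * (a : G) * 1⁻¹ * (a : G)⁻¹) =
        (Fintype.card N : ℂ) * (finrank ℂ (Fin n → ℂ) : ℂ) := by
      rw [Finset.sum_congr rfl (fun a _ => by
        rw [show (1 : G) * (a : G) * 1⁻¹ * (a : G)⁻¹ = 1 by group, Representation.char_one])]
      rw [Finset.sum_const, Finset.card_univ, nsmul_eq_mul]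
    rw [h1, sub_eq_zero] at h0
    have h2 : (Fintype.card N : ℂ) * (finrank ℂ (Fin n → ℂ) : ℂ) = om ρ N := by
      have := om_ne_zero ρ N
      field_simp at h0
      exact h0
    unfold om at h2
    rw [eq_div_iff hd] at h2
    have h3 : ∀ a : N, ρ.character ((a : G)⁻¹) * ρ.character (a : G) =
        ((Complex.normSq (ρ.character (a : G)) : ℝ) : ℂ) := by
      intro a
      rw [character_inv, mul_comm, Complex.mul_conj]
    rw [Finset.sum_congr rfl (fun a _ => h3 a), ← Complex.ofReal_sum] at h2
    have h4 : (Fintype.card N : ℝ) * (finrank ℂ (Fin n → ℂ) : ℝ) * (finrank ℂ (Fin n → ℂ) : ℝ) =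
        ∑ a : N, Complex.normSq (ρ.character (a : G)) := by
      exact_mod_cast h2
    have h5 : ∑ a : N, Complex.normSq (ρ.character (a : G)) <
        ∑ _a : N, (finrank ℂ (Fin n → ℂ) : ℝ) * (finrank ℂ (Fin n → ℂ) : ℝ) := by
      apply Finset.sum_lt_sum
      · intro a _
        rw [Complex.normSq_eq_norm_sq, sq]
        have := norm_character_le ρ (a : G)
        exact mul_le_mul this this (norm_nonneg _) (Nat.cast_nonneg _)
      · refine ⟨⟨x, hxN⟩, Finset.mem_univ _, ?_⟩
        rw [Complex.normSq_eq_norm_sq, sq]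
        have hle := norm_character_le ρ x
        have hne : ‖ρ.character x‖ ≠ (finrank ℂ (Fin n → ℂ) : ℝ) := by
          intro he
          exact hxZ (mem_center_of_norm_eq' ρ hfaith he)
        have hlt : ‖ρ.character x‖ < (finrank ℂ (Fin n → ℂ) : ℝ) := lt_of_le_of_ne hle hne
        have hpos : (0 : ℝ) < (finrank ℂ (Fin n → ℂ) : ℝ) := by
          exact_mod_cast finrank_pos_of_isIrreducible ρ
        exact mul_lt_mul'' hlt hlt (norm_nonneg _) (norm_nonneg _)
    rw [Finset.sum_const, Finset.card_univ, nsmul_eq_mul, ← h4] at h5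
    linarith
  have h1 := classInner_mul_pow_ne_one (IsIrrCharacter.isCharacter hχ') hk hβ hr' hβk hβ1
  apply h1
  rw [classInner_isIrrCharacter hirr hirr, if_pos rfl]

/-- vanishing of a faithful irreducible character off the centre on a class-two normal
subgroup whose centre is central -/
theorem apply_eq_zero_of_not_mem_center {χ : G → ℂ} (hχ : IsIrrCharacter G χ)
    (hfaith : ∀ g : G, χ g = χ 1 → g = 1) (A : Subgroup G)
    (hA2 : ∀ a ∈ A, ∀ b ∈ A, a * b * a⁻¹ * b⁻¹ ∈ Subgroup.center G)
    (hZA : ∀ a ∈ A, (∀ b ∈ A, a * b = b * a) → a ∈ Subgroup.center G) :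
    ∀ c ∈ A, c ∉ Subgroup.center G → χ c = 0 := by
  intro c hcA hcZ
  have h1 : ¬ ∀ b ∈ A, c * b = b * c := fun h => hcZ (hZA c hcA h)
  push Not at h1
  obtain ⟨b, hbA, hcb⟩ := h1
  have hz := hA2 c hcA b hbA
  have hz1 : c * b * c⁻¹ * b⁻¹ ≠ 1 := by
    intro h
    apply hcb
    have : c * b * c⁻¹ * b⁻¹ * (b * c) = b * c := by rw [h, one_mul]
    rw [← this]; group
  obtain ⟨n, ρ, hirr', rfl⟩ := hχ
  haveI := hirr'
  obtain ⟨ω, hω, -⟩ := exists_scalar_of_mem_center ρ (inv_mem hz)
  have h2 : b * c * b⁻¹ = (c * b * c⁻¹ * b⁻¹)⁻¹ * c := by group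
  have h3 : ρ.character c = ω * ρ.character c := by
    conv_lhs => rw [← Representation.char_conj ρ c b, h2]
    unfold Representation.character
    rw [map_mul, hω, smul_mul_assoc, map_smul, smul_eq_mul]
    rfl
  by_contra hne
  have hω1 : ω = 1 := by
    have : (1 - ω) * ρ.character c = 0 := by rw [sub_mul, one_mul, ← h3, sub_self]
    rcases mul_eq_zero.mp this with h | h
    · exact (sub_eq_zero.mp h).symm
    · exact absurd h hne
  rw [hω1, one_smul] at hω
  have h4 := (character_eq_finrank_iff ρ (c * b * c⁻¹ * b⁻¹)⁻¹).mpr hω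
  have h5 := hfaith _ (h4.trans (Representation.char_one ρ).symm)
  exact hz1 (inv_eq_one.mp h5)

/-- under the hypotheses of the theorem every normal nilpotent subgroup is central -/
theorem le_center_of_nilpotent {χ : G → ℂ} (hχ : IsIrrCharacter G χ)
    (hfaith : ∀ g : G, χ g = χ 1 → g = 1) {k : ℕ} (hk : k.Coprime (Nat.card G))
    (hirr : IsIrrCharacter G (fun g => χ g * χ (g ^ k)))
    (N : Subgroup G) [hN : N.Normal] (hnil : Group.IsNilpotent N) :
    N ≤ Subgroup.center G := by
  classical
  -- abelian normal subgroups are central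
  have hab : ∀ B : Subgroup G, B.Normal → (∀ a ∈ B, ∀ b ∈ B, a * b = b * a) →
      B ≤ Subgroup.center G := by
    intro B hBn hB
    haveI := hBn
    haveI : Fintype B := Fintype.ofFinite _
    exact le_center_of_sum_pow_eq hχ hfaith hk hirr B
      (fun g => sum_comm_pow_eq_of_comm B hB hk χ g)
  have hnorm : ∀ i, (N.lowerCentralSeries i).Normal := by
    intro i
    induction i with
    | zero => simpa using hN
    | succ i ih =>
      rw [Subgroup.lowerCentralSeries_succ]
      haveI := ih
      infer_instance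
  have hleN : ∀ i, N.lowerCentralSeries i ≤ N := by
    intro i
    induction i with
    | zero => simp
    | succ i ih =>
      rw [Subgroup.lowerCentralSeries_succ]
      exact Subgroup.commutator_le_right _ _
  obtain ⟨c, hc⟩ := (Subgroup.isNilpotent_iff_lowerCentralSeries N).mp hnil
  have hdown : ∀ j, j ≤ c → N.lowerCentralSeries (c - j) ≤ Subgroup.center G := by
    intro j
    induction j with
    | zero => intro _; rw [Nat.sub_zero, hc]; exact bot_le
    | succ j ih =>
      intro hj
      have ih' := ih (by omega)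
      have hidx : c - j = (c - (j + 1)) + 1 := by omega
      rw [hidx, Subgroup.lowerCentralSeries_succ] at ih'
      set A := N.lowerCentralSeries (c - (j + 1)) with hAdef
      haveI hAn : A.Normal := hnorm _
      have hA2 : ∀ a ∈ A, ∀ b ∈ A, a * b * a⁻¹ * b⁻¹ ∈ Subgroup.center G := by
        intro a ha b hb
        apply ih'
        have := Subgroup.commutator_mem_commutator ha (hleN _ hb)
        rwa [commutatorElement_def] at this
      have hZA : ∀ a ∈ A, (∀ b ∈ A, a * b = b * a) → a ∈ Subgroup.center G := by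
        intro a ha hcomm
        have hBle := hab (A ⊓ Subgroup.centralizer (A : Set G)) inferInstance (by
          intro x hx y hy
          have := (Subgroup.mem_centralizer_iff.mp hy.2) x hx.1
          exact this)
        apply hBle
        refine ⟨ha, ?_⟩
        change a ∈ Subgroup.centralizer (A : Set G)
        rw [Subgroup.mem_centralizer_iff]
        intro b hb
        exact (hcomm b hb).symm
      haveI : Fintype A := Fintype.ofFinite _
      exact le_center_of_sum_pow_eq hχ hfaith hk hirr A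
        (fun g => sum_comm_pow_eq_of_class_two A hk χ
          (apply_eq_zero_of_not_mem_center hχ hfaith A hA2 hZA) g)
  have := hdown c le_rfl
  rwa [Nat.sub_self, Subgroup.lowerCentralSeries_zero] at this

/-- **Theorem**: a faithful irreducible character whose product with a Galois conjugate is
irreducible forces `F(G) = Z(G)`. -/
theorem fitting_eq_center {χ : G → ℂ} (hχ : IsIrrCharacter G χ)
    (hfaith : ∀ g : G, χ g = χ 1 → g = 1) {k : ℕ} (hk : k.Coprime (Nat.card G))
    (hirr : IsIrrCharacter G (fun g => χ g * χ (g ^ k))) :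
    fittingSubgroup G = Subgroup.center G := by
  apply le_antisymm
  · unfold fittingSubgroup
    apply sSup_le
    rintro N ⟨hNn, hNnil⟩
    haveI := hNn
    exact le_center_of_nilpotent hχ hfaith hk hirr N hNnil
  · unfold fittingSubgroup
    apply le_sSup
    refine ⟨inferInstance, ?_⟩
    letI : CommGroup (Subgroup.center G) :=
      { (inferInstance : Group (Subgroup.center G)) with mul_comm := fun a b => mul_comm' a b }
    exact CommGroup.isNilpotent

end bridge

end Cfsg.Agent.Lib.Helper3.EndSub
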