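import Mathlib
import Cfsg.Agent.S0144

/-!
# S4068 piece (A): a nonsolvable finite group with exactly four `Aut`-orbits is simple and
all its nonidentity elements have prime order.
-/

set_option autoImplicit false
set_option maxHeartbeats 4000000
set_option maxRecDepth 100000
set_option linter.unusedVariables false
set_option linter.unusedSectionVars false
set_option linter.style.longLine false
set_option linter.style.haveILetI false
set_option linter.deprecated false
set_option linter.unusedSimpArgs false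

namespace Cfsg.Agent.Lib.Helper3.EpoA

universe u

/-- A finite group whose order has at most two prime divisors is solvable (Burnside). -/
theorem solvable_of_primeFactors_card_le_two {G : Type u} [Group G] [Finite G]
    (h : (Nat.card G).primeFactors.card ≤ 2) : Group.IsSolvable G := by
  have hn : Nat.card G ≠ 0 := Nat.card_pos.ne'
  have hprod : (∏ p ∈ (Nat.card G).primeFactors, p ^ (Nat.card G).factorization p) = Nat.card G := by
    have := Nat.factorization_prod_pow_eq_self hn
    rw [Finsupp.prod, Nat.support_factorization] at this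
    exact this
  have h012 : (Nat.card G).primeFactors.card = 0 ∨ (Nat.card G).primeFactors.card = 1 ∨
      (Nat.card G).primeFactors.card = 2 := by omega
  rcases h012 with h0 | h1 | h2
  · rw [Finset.card_eq_zero] at h0
    rw [h0] at hprod
    exact Cfsg.Agent.S0144.result 2 3 0 0 Nat.prime_two Nat.prime_three (by simpa using hprod.symm)
  · obtain ⟨p, hp⟩ := Finset.card_eq_one.mp h1
    have hpp : p.Prime := Nat.prime_of_mem_primeFactors (by rw [hp]; simp)
    rw [hp] at hprod
    exact Cfsg.Agent.S0144.result p 2 ((Nat.card G).factorization p) 0 hpp Nat.prime_two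
      (by simpa using hprod.symm)
  · obtain ⟨p, q, hpq, hp⟩ := Finset.card_eq_two.mp h2
    have hpp : p.Prime := Nat.prime_of_mem_primeFactors (by rw [hp]; simp)
    have hqp : q.Prime := Nat.prime_of_mem_primeFactors (by rw [hp]; simp)
    rw [hp, Finset.prod_pair hpq] at hprod
    exact Cfsg.Agent.S0144.result p q _ _ hpp hqp hprod.symm


section general

variable {G : Type u} [Group G] [Finite G]

/-- A normal `l`-subgroup lies in every Sylow `l`-subgroup. -/
theorem normal_le_sylow {l : ℕ} [Fact l.Prime] (N : Subgroup G) [N.Normal] (hN : IsPGroup l N)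
    (P : Sylow l G) : N ≤ (P : Subgroup G) := by
  obtain ⟨Q, hQ⟩ := hN.exists_le_sylow
  obtain ⟨g, hg⟩ := MulAction.exists_smul_eq G Q P
  intro x hx
  rw [← hg, Sylow.coe_subgroup_smul, Subgroup.mem_pointwise_smul_iff_inv_smul_mem]
  apply hQ
  have : (MulAut.conj g)⁻¹ • x = g⁻¹ * x * g⁻¹⁻¹ := by
    rw [← map_inv, MulAut.smul_def, MulAut.conj_apply]
  rw [this]
  exact ‹N.Normal›.conj_mem x hx g⁻¹

/-- In a group all of whose nonidentity elements have prime order, an element of a Sylow
`l`-subgroup is `1` or has order `l`. -/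
theorem eq_one_or_orderOf_eq_of_mem_sylow (hEPO : ∀ g : G, g ≠ 1 → (orderOf g).Prime)
    {l : ℕ} [hl : Fact l.Prime] (P : Sylow l G) {x : G} (hx : x ∈ (P : Subgroup G)) :
    x = 1 ∨ orderOf x = l := by
  by_cases hx1 : x = 1
  · exact Or.inl hx1
  right
  obtain ⟨k, hk⟩ := P.2 ⟨x, hx⟩
  have hk' : x ^ l ^ k = 1 := by
    have := congrArg Subtype.val hk
    simpa using this
  have hdvd : orderOf x ∣ l ^ k := orderOf_dvd_of_pow_eq_one hk'
  obtain ⟨j, hj, hj'⟩ := (Nat.dvd_prime_pow hl.out).mp hdvd
  have hp := hEPO x hx1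
  rw [hj'] at hp ⊢
  have hj0 : j ≠ 0 := by
    rintro rfl
    simp at hp
    exact Nat.not_prime_one hp
  have : l ∣ l ^ j := dvd_pow_self l hj0
  exact ((Nat.prime_dvd_prime_iff_eq hl.out hp).mp this).symm


/-- Under EPO + HOM + at most three primes + nonsolvable: a nontrivial normal subgroup is not an
`l`-group. -/
theorem not_isPGroup_of_normal (hEPO : ∀ g : G, g ≠ 1 → (orderOf g).Prime)
    (hHOM : ∀ g h : G, orderOf g = orderOf h → ∃ α : MulAut G, α g = h)
    (h3 : (Nat.card G).primeFactors.card ≤ 3) (hns : ¬ Group.IsSolvable G)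
    (M : Subgroup G) [hMn : M.Normal] (hM1 : M ≠ ⊥) {l : ℕ} [hl : Fact l.Prime]
    (hMl : IsPGroup l M) : False := by
  -- an element of order `l` in `M`
  have hldvd : l ∣ Nat.card M := by
    obtain ⟨k, hk⟩ := IsPGroup.iff_card.mp hMl
    have hk0 : k ≠ 0 := by
      rintro rfl
      rw [pow_zero] at hk
      exact hM1 (Subgroup.card_eq_one.mp hk)
    rw [hk]; exact dvd_pow_self l hk0
  obtain ⟨m, hm⟩ := exists_prime_orderOf_dvd_card' l hldvd
  have hm' : orderOf (m : G) = l := by rw [Subgroup.orderOf_coe]; exact hm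
  -- every element of order `l` lies in every Sylow `l`-subgroup
  have key : ∀ (P : Sylow l G) (g : G), orderOf g = l → g ∈ (P : Subgroup G) := by
    intro P g hg
    obtain ⟨α, hα⟩ := hHOM (m : G) g (by rw [hm', hg])
    haveI : (M.map α.toMonoidHom).Normal := hMn.map α.toMonoidHom α.surjective
    have hpg : IsPGroup l (M.map α.toMonoidHom) := hMl.map α.toMonoidHom
    have hle := normal_le_sylow (M.map α.toMonoidHom) hpg P
    apply hle
    rw [← hα]
    exact Subgroup.mem_map_of_mem _ m.2
  have hle : ∀ P P' : Sylow l G, (P' : Subgroup G) ≤ (P : Subgroup G) := by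
    intro P P' x hx
    rcases eq_one_or_orderOf_eq_of_mem_sylow hEPO P' hx with h | h
    · rw [h]; exact Subgroup.one_mem _
    · exact key P x h
  haveI : Subsingleton (Sylow l G) := ⟨fun P P' => Sylow.ext (le_antisymm (hle P' P) (hle P P'))⟩
  obtain ⟨P⟩ : Nonempty (Sylow l G) := inferInstance
  haveI hPn : (P : Subgroup G).Normal := Sylow.normal_of_subsingleton P
  -- the quotient is solvable
  have hlG : l ∣ Nat.card G := hldvd.trans (Subgroup.card_subgroup_dvd_card M)
  have hq : Group.IsSolvable (G ⧸ (P : Subgroup G)) := by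
    apply solvable_of_primeFactors_card_le_two
    rw [← Subgroup.index_eq_card]
    have hsub : (P : Subgroup G).index.primeFactors ⊆ (Nat.card G).primeFactors.erase l := by
      intro s hs
      rw [Finset.mem_erase]
      have hsp := Nat.prime_of_mem_primeFactors hs
      have hsd := Nat.dvd_of_mem_primeFactors hs
      refine ⟨?_, ?_⟩
      · rintro rfl
        exact P.not_dvd_index hsd
      · exact Nat.mem_primeFactors.mpr ⟨hsp, hsd.trans (Subgroup.index_dvd_card _), Nat.card_pos.ne'⟩
    have hlmem : l ∈ (Nat.card G).primeFactors :=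
      Nat.mem_primeFactors.mpr ⟨hl.out, hlG, Nat.card_pos.ne'⟩
    have := Finset.card_le_card hsub
    rw [Finset.card_erase_of_mem hlmem] at this
    omega
  haveI : Group.IsSolvable (G ⧸ (P : Subgroup G)) := hq
  haveI : Group.IsNilpotent (P : Subgroup G) := P.2.isNilpotent
  haveI : Group.IsSolvable (P : Subgroup G) := IsNilpotent.to_isSolvable
  exact hns (solvable_of_ker_le_range (P : Subgroup G).subtype (QuotientGroup.mk' (P : Subgroup G))
    (by simp))


/-- A nontrivial finite group that is not a `l`-group for any prime `l` has two distinct prime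
divisors of its order. -/
theorem exists_two_primes_of_not_isPGroup {H : Type*} [Group H] [Finite H] [Nontrivial H]
    (h : ∀ l : ℕ, l.Prime → ¬ IsPGroup l H) :
    ∃ s₁ s₂ : ℕ, s₁.Prime ∧ s₂.Prime ∧ s₁ ≠ s₂ ∧ s₁ ∣ Nat.card H ∧ s₂ ∣ Nat.card H := by
  have h1 : Nat.card H ≠ 1 := by
    intro h1
    have := Finite.one_lt_card (α := H)
    omega
  obtain ⟨s₁, hs₁, hd₁⟩ := Nat.exists_prime_and_dvd h1
  by_contra hcon
  push Not at hcon
  apply h s₁ hs₁
  haveI : Fact s₁.Prime := ⟨hs₁⟩
  have hn : Nat.card H ≠ 0 := Nat.card_pos.ne'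
  refine IsPGroup.of_card (n := (Nat.card H).primeFactorsList.length) ?_
  apply Nat.eq_prime_pow_of_unique_prime_dvd hn
  intro s hs hsd
  by_contra hne
  exact hcon s₁ s hs₁ hs (fun h => hne h.symm) hd₁ hsd

/-- Under EPO + HOM + at most three primes + nonsolvable: a minimal normal subgroup is
characteristic. -/
theorem map_eq_of_minimal_normal (hEPO : ∀ g : G, g ≠ 1 → (orderOf g).Prime)
    (hHOM : ∀ g h : G, orderOf g = orderOf h → ∃ α : MulAut G, α g = h)
    (h3 : (Nat.card G).primeFactors.card ≤ 3) (hns : ¬ Group.IsSolvable G)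
    (M : Subgroup G) [hMn : M.Normal] (hM1 : M ≠ ⊥)
    (hmin : ∀ N : Subgroup G, N.Normal → N ≤ M → N = ⊥ ∨ N = M) (α : MulAut G) :
    M.map α.toMonoidHom = M := by
  haveI hM'n : (M.map α.toMonoidHom).Normal := hMn.map α.toMonoidHom α.surjective
  have hcard : Nat.card (M.map α.toMonoidHom) = Nat.card M :=
    Subgroup.card_map_of_injective α.injective
  have hinf : (M ⊓ M.map α.toMonoidHom).Normal := inferInstance
  rcases hmin _ hinf inf_le_left with h | h
  · exfalso
    haveI : Nontrivial M := (Subgroup.nontrivial_iff_ne_bot M).mpr hM1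
    obtain ⟨s₁, s₂, hs₁, hs₂, hne, hd₁, hd₂⟩ := exists_two_primes_of_not_isPGroup (H := M)
      (fun l hl hp => by
        haveI : Fact l.Prime := ⟨hl⟩
        exact not_isPGroup_of_normal hEPO hHOM h3 hns M hM1 hp)
    haveI : Fact s₁.Prime := ⟨hs₁⟩
    haveI : Fact s₂.Prime := ⟨hs₂⟩
    obtain ⟨m₁, hm₁⟩ := exists_prime_orderOf_dvd_card' s₁ hd₁
    obtain ⟨m₂, hm₂⟩ := exists_prime_orderOf_dvd_card' s₂ hd₂
    have hm₁' : orderOf (m₁ : G) = s₁ := by rw [Subgroup.orderOf_coe]; exact hm₁
    have hm₂' : orderOf (α (m₂ : G)) = s₂ := by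
      rw [MulEquiv.orderOf_eq, Subgroup.orderOf_coe]; exact hm₂
    have hcomm : Commute (m₁ : G) (α (m₂ : G)) :=
      Subgroup.commute_of_normal_of_disjoint M (M.map α.toMonoidHom) hMn hM'n
        (disjoint_iff.mpr h) _ _ m₁.2 (Subgroup.mem_map_of_mem α.toMonoidHom m₂.2)
    have hcop : (orderOf (m₁ : G)).Coprime (orderOf (α (m₂ : G))) := by
      rw [hm₁', hm₂']; exact (Nat.coprime_primes hs₁ hs₂).mpr hne
    have hord := hcomm.orderOf_mul_eq_mul_orderOf_of_coprime hcop
    rw [hm₁', hm₂'] at hord
    have hne1 : (m₁ : G) * α (m₂ : G) ≠ 1 := by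
      intro h1
      rw [h1, orderOf_one] at hord
      have := hs₁.two_le
      have := hs₂.two_le
      nlinarith
    have hp := hEPO _ hne1
    rw [hord] at hp
    exact Nat.not_prime_mul hs₁.one_lt.ne' hs₂.one_lt.ne' hp
  · have hle : M ≤ M.map α.toMonoidHom := by
      have h2 : M ⊓ M.map α.toMonoidHom ≤ M.map α.toMonoidHom := inf_le_right
      rwa [h] at h2
    exact (Subgroup.eq_of_le_of_card_ge (H := M) (K := M.map α.toMonoidHom) hle (le_of_eq hcard)).symm


/-- Under EPO + HOM + at most three primes + nonsolvable: a minimal normal subgroup is `⊤`. -/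
theorem eq_top_of_minimal_normal (hEPO : ∀ g : G, g ≠ 1 → (orderOf g).Prime)
    (hHOM : ∀ g h : G, orderOf g = orderOf h → ∃ α : MulAut G, α g = h)
    (h3 : (Nat.card G).primeFactors.card ≤ 3) (hns : ¬ Group.IsSolvable G)
    (M : Subgroup G) [hMn : M.Normal] (hM1 : M ≠ ⊥)
    (hmin : ∀ N : Subgroup G, N.Normal → N ≤ M → N = ⊥ ∨ N = M) : M = ⊤ := by
  have hchar := map_eq_of_minimal_normal hEPO hHOM h3 hns M hM1 hmin
  haveI : Nontrivial M := (Subgroup.nontrivial_iff_ne_bot M).mpr hM1
  obtain ⟨s₁, s₂, hs₁, hs₂, hne, hd₁, hd₂⟩ := exists_two_primes_of_not_isPGroup (H := M)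
    (fun l hl hp => by
      haveI : Fact l.Prime := ⟨hl⟩
      exact not_isPGroup_of_normal hEPO hHOM h3 hns M hM1 hp)
  have hnG : Nat.card G ≠ 0 := Nat.card_pos.ne'
  have hnM : Nat.card M ≠ 0 := Nat.card_pos.ne'
  -- Sylow subgroups for primes dividing `|M|` lie in `M`
  have hsyl : ∀ s : ℕ, s.Prime → s ∣ Nat.card M → ¬ s ∣ M.index := by
    intro s hs hsd
    haveI : Fact s.Prime := ⟨hs⟩
    obtain ⟨m, hm⟩ := exists_prime_orderOf_dvd_card' s hsd
    have hm' : orderOf (m : G) = s := by rw [Subgroup.orderOf_coe]; exact hm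
    obtain ⟨P⟩ : Nonempty (Sylow s G) := inferInstance
    have hPM : (P : Subgroup G) ≤ M := by
      intro x hx
      rcases eq_one_or_orderOf_eq_of_mem_sylow hEPO P hx with h | h
      · rw [h]; exact Subgroup.one_mem _
      · obtain ⟨α, hα⟩ := hHOM (m : G) x (by rw [hm', h])
        rw [← hchar α, ← hα]
        exact Subgroup.mem_map_of_mem _ m.2
    intro hdvd
    exact P.not_dvd_index (hdvd.trans (Subgroup.index_dvd_of_le hPM))
  have hsubM : (Nat.card M).primeFactors ⊆ (Nat.card G).primeFactors := by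
    intro s hs
    exact Nat.mem_primeFactors.mpr ⟨Nat.prime_of_mem_primeFactors hs,
      (Nat.dvd_of_mem_primeFactors hs).trans (Subgroup.card_subgroup_dvd_card M), hnG⟩
  have hsubI : M.index.primeFactors ⊆ (Nat.card G).primeFactors \ (Nat.card M).primeFactors := by
    intro s hs
    have hsp := Nat.prime_of_mem_primeFactors hs
    have hsd := Nat.dvd_of_mem_primeFactors hs
    rw [Finset.mem_sdiff]
    refine ⟨Nat.mem_primeFactors.mpr ⟨hsp, hsd.trans (Subgroup.index_dvd_card _), hnG⟩, ?_⟩
    intro hsM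
    exact hsyl s hsp (Nat.dvd_of_mem_primeFactors hsM) hsd
  have hcardI := Finset.card_le_card hsubI
  have hsd := Finset.card_sdiff_add_card_eq_card hsubM
  have h2M : 2 ≤ (Nat.card M).primeFactors.card := by
    have h1 : s₁ ∈ (Nat.card M).primeFactors := Nat.mem_primeFactors.mpr ⟨hs₁, hd₁, hnM⟩
    have h2 : s₂ ∈ (Nat.card M).primeFactors := Nat.mem_primeFactors.mpr ⟨hs₂, hd₂, hnM⟩
    have : ({s₁, s₂} : Finset ℕ) ⊆ (Nat.card M).primeFactors := by
      intro x hx
      rw [Finset.mem_insert, Finset.mem_singleton] at hx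
      rcases hx with rfl | rfl <;> assumption
    have hc := Finset.card_le_card this
    rwa [Finset.card_pair hne] at hc
  by_cases hM2 : (Nat.card M).primeFactors.card ≤ 2
  · exfalso
    haveI : Group.IsSolvable M := solvable_of_primeFactors_card_le_two hM2
    haveI : Group.IsSolvable (G ⧸ M) := by
      apply solvable_of_primeFactors_card_le_two
      rw [← Subgroup.index_eq_card]
      omega
    exact hns (solvable_of_ker_le_range M.subtype (QuotientGroup.mk' M) (by simp))
  · have h0 : M.index.primeFactors.card = 0 := by omega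
    rw [Finset.card_eq_zero, Nat.primeFactors_eq_empty] at h0
    rcases h0 with h0 | h0
    · exact absurd h0 (Subgroup.index_ne_zero_of_finite)
    · exact Subgroup.index_eq_one.mp h0


/-- Under EPO + HOM + at most three primes + nonsolvable, `G` is simple. -/
theorem isSimpleGroup_of_epo_hom (hEPO : ∀ g : G, g ≠ 1 → (orderOf g).Prime)
    (hHOM : ∀ g h : G, orderOf g = orderOf h → ∃ α : MulAut G, α g = h)
    (h3 : (Nat.card G).primeFactors.card ≤ 3) (hns : ¬ Group.IsSolvable G) :
    IsSimpleGroup G := by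
  have hnt : Nontrivial G := by
    by_contra hnt
    rw [not_nontrivial_iff_subsingleton] at hnt
    exact hns inferInstance
  have key : ∀ n : ℕ, ∀ N : Subgroup G, N.Normal → Nat.card N = n → N ≠ ⊥ → N = ⊤ := by
    intro n
    induction n using Nat.strong_induction_on with
    | _ n ih =>
      intro N hN hn hN1
      by_cases hmin : ∀ N' : Subgroup G, N'.Normal → N' ≤ N → N' = ⊥ ∨ N' = N
      · haveI := hN
        exact eq_top_of_minimal_normal hEPO hHOM h3 hns N hN1 hmin
      · push Not at hmin
        obtain ⟨N', hN'n, hle, hne1, hneN⟩ := hmin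
        have hlt : Nat.card N' < n := by
          rw [← hn]
          have hle' := Subgroup.card_le_of_le hle
          rcases Nat.lt_or_ge (Nat.card N') (Nat.card N) with h | h
          · exact h
          · exact absurd (Subgroup.eq_of_le_of_card_ge hle h) hneN
        have := ih _ hlt N' hN'n rfl hne1
        rw [this] at hle
        exact top_le_iff.mp hle
  exact { toNontrivial := hnt
          eq_bot_or_eq_top_of_normal := fun N hN => by
            by_cases h : N = ⊥
            · exact Or.inl h
            · exact Or.inr (key _ N hN rfl h) }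

end general

/-- **S4068 piece (A).** A nonsolvable finite group on which `Aut G` has exactly four orbits is
simple and all its nonidentity elements have prime order. -/
theorem simple_epo_of_four_orbits {G : Type*} [Group G] [Finite G] (hns : ¬ Group.IsSolvable G)
    (h4 : Nat.card (MulAction.orbitRel.Quotient (MulAut G) G) = 4) :
    IsSimpleGroup G ∧ ∀ g : G, g ≠ 1 → (orderOf g).Prime := by
  classical
  -- three distinct primes
  have hc3 : 2 < (Nat.card G).primeFactors.card := by
    by_contra h
    exact hns (solvable_of_primeFactors_card_le_two (by omega))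
  obtain ⟨p, q, r, hp, hq, hr, hpq, hpr, hqr⟩ := Finset.two_lt_card_iff.mp hc3
  have hpp := Nat.prime_of_mem_primeFactors hp
  have hqp := Nat.prime_of_mem_primeFactors hq
  have hrp := Nat.prime_of_mem_primeFactors hr
  haveI : Fact p.Prime := ⟨hpp⟩
  haveI : Fact q.Prime := ⟨hqp⟩
  haveI : Fact r.Prime := ⟨hrp⟩
  obtain ⟨xp, hxp⟩ := exists_prime_orderOf_dvd_card' (G := G) p (Nat.dvd_of_mem_primeFactors hp)
  obtain ⟨xq, hxq⟩ := exists_prime_orderOf_dvd_card' (G := G) q (Nat.dvd_of_mem_primeFactors hq)
  obtain ⟨xr, hxr⟩ := exists_prime_orderOf_dvd_card' (G := G) r (Nat.dvd_of_mem_primeFactors hr)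
  -- the order function on orbits
  let Q := MulAction.orbitRel.Quotient (MulAut G) G
  let mk : G → Q := Quotient.mk''
  let ord : Q → ℕ := Quotient.lift (fun g : G => orderOf g) (by
    intro a b hab
    change (MulAction.orbitRel (MulAut G) G) a b at hab
    rw [MulAction.orbitRel_apply] at hab
    obtain ⟨α, hα⟩ := hab
    change orderOf a = orderOf b
    have hα' : α b = a := hα
    rw [← hα', MulEquiv.orderOf_eq])
  have hord : ∀ g : G, ord (mk g) = orderOf g := fun g => rfl
  let f : Fin 4 → Q := ![mk 1, mk xp, mk xq, mk xr]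
  have hof : ∀ i : Fin 4, ord (f i) = ![1, p, q, r] i := by
    intro i
    fin_cases i
    · simp [f, hord]
    · simp [f, hord, hxp]
    · simp [f, hord, hxq]
    · simp [f, hord, hxr]
  have hinj4 : Function.Injective (![1, p, q, r] : Fin 4 → ℕ) := by
    have h1p : (1 : ℕ) ≠ p := hpp.one_lt.ne
    have h1q : (1 : ℕ) ≠ q := hqp.one_lt.ne
    have h1r : (1 : ℕ) ≠ r := hrp.one_lt.ne
    intro i j hij
    fin_cases i <;> fin_cases j <;> simp_all
  have hfinj : Function.Injective f := by
    intro i j hij
    apply hinj4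
    rw [← hof i, ← hof j, hij]
  haveI : Finite Q := Nat.finite_of_card_ne_zero (by rw [h4]; norm_num)
  have hfbij : Function.Bijective f :=
    hfinj.bijective_of_nat_card_le (by rw [h4]; simp)
  -- EPO
  have hval : ∀ g : G, ∃ i : Fin 4, orderOf g = ![1, p, q, r] i ∧ mk g = f i := by
    intro g
    obtain ⟨i, hi⟩ := hfbij.2 (mk g)
    exact ⟨i, by rw [← hord g, ← hi, hof i], hi.symm⟩
  have hEPO : ∀ g : G, g ≠ 1 → (orderOf g).Prime := by
    intro g hg
    obtain ⟨i, hi, -⟩ := hval g
    fin_cases i
    · simp at hi; exact absurd hi hg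
    · simp at hi; rw [hi]; exact hpp
    · simp at hi; rw [hi]; exact hqp
    · simp at hi; rw [hi]; exact hrp
  have hHOM : ∀ g h : G, orderOf g = orderOf h → ∃ α : MulAut G, α g = h := by
    intro g h hgh
    obtain ⟨i, hi, hgi⟩ := hval g
    obtain ⟨j, hj, hhj⟩ := hval h
    have hij : i = j := hinj4 (by rw [← hi, ← hj, hgh])
    have : mk h = mk g := by rw [hgi, hhj, hij]
    have hrel := Quotient.exact this
    change (MulAction.orbitRel (MulAut G) G) h g at hrel
    rw [MulAction.orbitRel_apply] at hrel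
    obtain ⟨α, hα⟩ := hrel
    exact ⟨α, hα⟩
  have h3 : (Nat.card G).primeFactors.card ≤ 3 := by
    have hsub : (Nat.card G).primeFactors ⊆ {p, q, r} := by
      intro s hs
      have hsp := Nat.prime_of_mem_primeFactors hs
      haveI : Fact s.Prime := ⟨hsp⟩
      obtain ⟨x, hx⟩ := exists_prime_orderOf_dvd_card' (G := G) s (Nat.dvd_of_mem_primeFactors hs)
      obtain ⟨i, hi, -⟩ := hval x
      rw [hx] at hi
      fin_cases i
      · simp at hi; exact absurd hi hsp.one_lt.ne'
      · simp at hi; simp [hi]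
      · simp at hi; simp [hi]
      · simp at hi; simp [hi]
    calc (Nat.card G).primeFactors.card ≤ ({p, q, r} : Finset ℕ).card := Finset.card_le_card hsub
      _ ≤ 3 := Finset.card_le_three
  exact ⟨isSimpleGroup_of_epo_hom hEPO hHOM h3 hns, hEPO⟩

end Cfsg.Agent.Lib.Helper3.EpoA
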