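import Mathlib
import Cfsg.Agent.S1230
import Cfsg.Agent.S0494
import Cfsg.Agent.S3031
import Cfsg.Agent.Lib.Helper5.PSL2Tori

/-!
# S4068 piece (C): a non-abelian simple group of even order all of whose nonidentity elements
have prime order is isomorphic to `A₅`.
-/

set_option autoImplicit false
set_option maxHeartbeats 4000000
set_option maxRecDepth 100000
set_option linter.unusedVariables false
set_option linter.unusedSectionVars false
set_option linter.style.longLine false
set_option linter.style.haveILetI false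
set_option linter.deprecated false
set_option linter.unusedSimpArgs false

namespace Cfsg.Agent.Lib.Helper3.EpoC

universe u

/-- A simple finite `p`-group is commutative. -/
theorem comm_of_simple_pgroup {G : Type*} [Group G] [Finite G] [IsSimpleGroup G] {p : ℕ}
    [Fact p.Prime] (hG : IsPGroup p G) (a b : G) : a * b = b * a := by
  haveI : Nontrivial (Subgroup.center G) := hG.center_nontrivial
  have hne : Subgroup.center G ≠ ⊥ := (Subgroup.nontrivial_iff_ne_bot _).mp inferInstance
  have htop : Subgroup.center G = ⊤ :=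
    ((Subgroup.Normal.eq_bot_or_eq_top inferInstance).resolve_left hne)
  have hb : b ∈ Subgroup.center G := by rw [htop]; exact Subgroup.mem_top b
  exact Subgroup.mem_center_iff.mp hb a

/-- In an EPO group, the centralizer of an involution has exponent 2. -/
theorem sq_eq_one_of_mem_centralizer {G : Type*} [Group G]
    (hEPO : ∀ g : G, g ≠ 1 → (orderOf g).Prime) {t : G} (ht : orderOf t = 2) {c : G}
    (hc : c ∈ Subgroup.centralizer ({t} : Set G)) : c ^ 2 = 1 := by
  by_cases hc1 : c = 1
  · rw [hc1, one_pow]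
  have hp := hEPO c hc1
  by_cases h2 : orderOf c = 2
  · rw [← h2]; exact pow_orderOf_eq_one c
  exfalso
  have hcomm : Commute c t := by
    have := Subgroup.mem_centralizer_iff.mp hc t (Set.mem_singleton t)
    exact this.symm
  have hcop : (orderOf c).Coprime (orderOf t) := by
    rw [ht]
    exact (Nat.coprime_primes hp Nat.prime_two).mpr h2
  have hord := hcomm.orderOf_mul_eq_mul_orderOf_of_coprime hcop
  rw [ht] at hord
  have hne : c * t ≠ 1 := by
    intro h1
    rw [h1, orderOf_one] at hord
    have := hp.two_le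
    omega
  have hp2 := hEPO _ hne
  rw [hord] at hp2
  exact Nat.not_prime_mul hp.one_lt.ne' (by norm_num) hp2


/-- arithmetic: `q = 2 ^ k`, `q - 1` is `1` or prime, `q + 1` prime, then `q = 2` or `q = 4`. -/
theorem arith {k : ℕ} (hk : 1 ≤ k) (h1 : 2 ^ k - 1 = 1 ∨ (2 ^ k - 1).Prime)
    (h2 : (2 ^ k + 1).Prime) : 2 ^ k = 2 ∨ 2 ^ k = 4 := by
  have hpos : 2 ≤ 2 ^ k := by
    calc 2 = 2 ^ 1 := by norm_num
      _ ≤ 2 ^ k := Nat.pow_le_pow_right (by norm_num) hk
  have hmod : 2 ^ k % 3 = 1 ∨ 2 ^ k % 3 = 2 := by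
    induction k with
    | zero => omega
    | succ n ih =>
      rcases Nat.eq_zero_or_pos n with rfl | hn
      · right; norm_num
      · have hn1 : 1 ≤ n := hn
        have h2n : 2 ≤ 2 ^ n := by
          calc 2 = 2 ^ 1 := by norm_num
            _ ≤ 2 ^ n := Nat.pow_le_pow_right (by norm_num) hn1
        have : 2 ^ n % 3 = 1 ∨ 2 ^ n % 3 = 2 := by
          have h3 : ¬ 3 ∣ 2 ^ n := by
            intro h
            have := Nat.Prime.dvd_of_dvd_pow Nat.prime_three h
            omega
          omega
        rw [pow_succ]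
        omega
  rcases hmod with hm | hm
  · -- 3 ∣ q - 1
    rcases h1 with h1 | h1
    · left; omega
    · have h3 : 3 ∣ 2 ^ k - 1 := by omega
      have := (Nat.prime_dvd_prime_iff_eq Nat.prime_three h1).mp h3
      right; omega
  · have h3 : 3 ∣ 2 ^ k + 1 := by omega
    have := (Nat.prime_dvd_prime_iff_eq Nat.prime_three h2).mp h3
    left; omega

/-- **S4068 piece (C).** A non-abelian simple EPO group of even order is `A₅`. -/
theorem a5_of_simple_epo_even {G : Type*} [Group G] [Finite G] [IsSimpleGroup G]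
    (hEPO : ∀ g : G, g ≠ 1 → (orderOf g).Prime) (heven : 2 ∣ Nat.card G)
    (hna : ∃ a b : G, a * b ≠ b * a) : Nonempty (G ≃* alternatingGroup (Fin 5)) := by
  classical
  obtain ⟨a₀, b₀, hab⟩ := hna
  haveI : Fact (Nat.Prime 2) := ⟨Nat.prime_two⟩
  obtain ⟨T⟩ : Nonempty (Sylow 2 G) := inferInstance
  have hTcard : Nat.card T = 2 ^ (Nat.card G).factorization 2 := T.card_eq_multiplicity
  have hfac : 1 ≤ (Nat.card G).factorization 2 :=
    (Nat.Prime.factorization_pos_of_dvd Nat.prime_two Nat.card_pos.ne' heven)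
  -- `G` is not a 2-group
  have hnot2 : ¬ IsPGroup 2 G := fun h => hab (comm_of_simple_pgroup h a₀ b₀)
  have hTtop : (T : Subgroup G) ≠ ⊤ := by
    intro h
    apply hnot2
    have := T.2
    rw [h] at this
    exact IsPGroup.of_equiv this Subgroup.topEquiv
    -- done
  have hTbot : (T : Subgroup G) ≠ ⊥ := by
    intro h
    have h1 : Nat.card T = 1 := by rw [h]; exact Subgroup.card_bot
    rw [hTcard] at h1
    have : 2 ^ 1 ≤ 2 ^ (Nat.card G).factorization 2 := Nat.pow_le_pow_right (by norm_num) hfac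
    omega
  -- centralizers of involutions are elementary abelian
  have hC : ∀ t : G, orderOf t = 2 → IsMulCommutative (Subgroup.centralizer ({t} : Set G)) ∧
      ∀ c ∈ Subgroup.centralizer ({t} : Set G), c ^ 2 = 1 := by
    intro t ht
    have hsq : ∀ c ∈ Subgroup.centralizer ({t} : Set G), c ^ 2 = 1 :=
      fun c hc => sq_eq_one_of_mem_centralizer hEPO ht hc
    refine ⟨⟨⟨fun a b => ?_⟩⟩, hsq⟩
    have ha := hsq a a.2
    have hb := hsq b b.2
    have hab' := hsq (a * b) (a * b).2
    apply Subtype.ext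
    have ha' : (a : G)⁻¹ = a := by
      rw [inv_eq_iff_mul_eq_one, ← sq]; exact ha
    have hb' : (b : G)⁻¹ = b := by
      rw [inv_eq_iff_mul_eq_one, ← sq]; exact hb
    have : ((a : G) * b)⁻¹ = a * b := by
      rw [inv_eq_iff_mul_eq_one, ← sq]; exact hab'
    rw [mul_inv_rev, ha', hb'] at this
    simpa using this.symm
  -- `T` is not normal
  have hnn : ¬ (T : Subgroup G).Normal := by
    intro hn
    rcases hn.eq_bot_or_eq_top with h | h
    · exact hTbot h
    · exact hTtop h
  -- `T` is not cyclic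
  have hnc : ¬ IsCyclic (T : Subgroup G) := by
    intro hcyc
    obtain ⟨P, N, hN, hcomp⟩ := Cfsg.Agent.S3031.result (G := G) (p := 2) heven
      (fun q hq _ => hq.two_le) T (Or.inl hcyc)
    have hcard := hcomp.card_mul
    rcases hN.eq_bot_or_eq_top with h | h
    · rw [h, Subgroup.card_bot, one_mul] at hcard
      apply hnot2
      have hP : (P : Subgroup G) = ⊤ := Subgroup.eq_top_of_card_eq _ hcard
      have := P.2
      rw [hP] at this
      exact IsPGroup.of_equiv this Subgroup.topEquiv
    · rw [h, Subgroup.card_top] at hcard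
      have hP1 : Nat.card P = 1 := by
        have hpos : 0 < Nat.card G := Nat.card_pos
        have := Nat.eq_of_mul_eq_mul_left hpos (by rw [hcard, mul_one] : Nat.card G * Nat.card P = Nat.card G * 1)
        exact this
      have hPcard : Nat.card P = 2 ^ (Nat.card G).factorization 2 := P.card_eq_multiplicity
      rw [hPcard] at hP1
      have : 2 ^ 1 ≤ 2 ^ (Nat.card G).factorization 2 := Nat.pow_le_pow_right (by norm_num) hfac
      omega
  obtain ⟨F, hFf, hFt, hFcard, ⟨e⟩⟩ := Cfsg.Agent.S1230.result T hnc hnn hC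
  -- elements of orders `q - 1` and `q + 1`
  set k := (Nat.card G).factorization 2 with hkdef
  have hq : Fintype.card F = 2 ^ k := by rw [hFcard, hTcard]
  have hqpos : 2 ≤ Fintype.card F := by
    rw [hq]
    calc 2 = 2 ^ 1 := by norm_num
      _ ≤ 2 ^ k := Nat.pow_le_pow_right (by norm_num) hfac
  have hgcd : Nat.gcd 2 (Fintype.card F - 1) = 1 := by
    have hodd : (Fintype.card F - 1) % 2 = 1 := by
      rw [hq]
      have : 2 ^ k % 2 = 0 := by
        obtain ⟨j, hj⟩ : ∃ j, k = j + 1 := ⟨k - 1, by omega⟩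
        rw [hj, pow_succ]; omega
      have h2 : 2 ≤ 2 ^ k := by rw [← hq]; exact hqpos
      omega
    have : (2 : ℕ).Coprime (Fintype.card F - 1) := by
      rw [Nat.coprime_two_left]
      exact Nat.odd_iff.mpr hodd
    exact this
  have hord : ∀ m : ℕ, (∃ H : Subgroup (Matrix.ProjectiveSpecialLinearGroup (Fin 2) F),
      Nonempty (H ≃* DihedralGroup m)) → ∃ g : G, orderOf g = m := by
    rintro m ⟨H, ⟨d⟩⟩
    refine ⟨e.symm ((d.symm (DihedralGroup.r 1) : H) : Matrix.ProjectiveSpecialLinearGroup (Fin 2) F), ?_⟩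
    rw [MulEquiv.orderOf_eq, Subgroup.orderOf_coe, MulEquiv.orderOf_eq, DihedralGroup.orderOf_r_one]
  have hsub := Cfsg.Agent.Lib.Helper5.PSL2Tori.exists_psl_dihedral_sub (F := F)
  have hadd := Cfsg.Agent.Lib.Helper5.PSL2Tori.exists_psl_dihedral_add (F := F)
  rw [hgcd, Nat.div_one] at hsub hadd
  obtain ⟨g₁, hg₁⟩ := hord _ hsub
  obtain ⟨g₂, hg₂⟩ := hord _ hadd
  have h1 : 2 ^ k - 1 = 1 ∨ (2 ^ k - 1).Prime := by
    rw [← hq]
    by_cases h : g₁ = 1
    · left; rw [← hg₁, h, orderOf_one]
    · right; rw [← hg₁]; exact hEPO g₁ h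
  have h2 : (2 ^ k + 1).Prime := by
    rw [← hq, ← hg₂]
    apply hEPO
    intro h
    rw [h, orderOf_one] at hg₂
    omega
  rcases arith hfac h1 h2 with h | h
  · -- `|T| = 2`: cyclic
    exfalso
    apply hnc
    have : Nat.card T = 2 := by rw [hTcard]; exact h
    exact isCyclic_of_prime_card this
  · -- `|F| = 4`, `|G| = 60`
    have hF4 : Fintype.card F = 4 := by rw [hq]; exact h
    have hcardG : Nat.card G = 60 := by
      have := Cfsg.Agent.Lib.Helper5.DicksonOrders.card_PSL2_mul (F := F)
      rw [hgcd, hF4, one_mul] at this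
      rw [Nat.card_congr e.toEquiv, this]
    exact Cfsg.Agent.S0494.result hcardG

end Cfsg.Agent.Lib.Helper3.EpoC
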