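import Mathlib
import Cfsg.Agent.Lib.Helper1.F4Cent.Defs
import Cfsg.Agent.Lib.Helper3.F4CentFA

set_option autoImplicit false
set_option maxHeartbeats 4000000

/-!
# Farm F4CENT (S2179), unit FA in the shapes of the coordinator's stubs
(`FA1_borel`, `FA2_borel`, `FA2_comm`)
-/

namespace Cfsg.Agent.Lib.Helper3.F4CentW

open Cfsg Cfsg.Lie Cfsg.Agent.Lib.Helper5.ChevSym Cfsg.Agent.Lib.Helper5.ChevStruct
  Cfsg.Agent.Lib.Helper5.F4T Cfsg.Agent.Lib.Helper1.F4Cent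

variable {F : Type*} [Field F]

theorem h3_prodL_eq (T : List ℕ) (t : ℕ → F) :
    prodL chevF4 hF4 T t = (T.map fun s => xGL chevF4 hF4 s (t s)).prod := by
  simp [prodL, wordGL, List.map_map, Function.comp_def]

/-- Unit FA1: `B` normalises the family `x₄₄(·) x₄₇(·)`, keeping both coordinates non-zero -/
theorem FA1_borel [CharP F 2] (b : GL chevF4.Idx F) (hb : b ∈ chevF4.borelSubgroup F)
    (t : ℕ → F) (h44 : t 44 ≠ 0) (h47 : t 47 ≠ 0) :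
    ∃ t' : ℕ → F, t' 44 ≠ 0 ∧ t' 47 ≠ 0 ∧
      b * prodL chevF4 hF4 T1 t * b⁻¹ = prodL chevF4 hF4 T1 t' := by
  obtain ⟨t', a, c, e⟩ := Cfsg.Agent.Lib.Helper3.F4Cent.h3_FA1 b hb t h44 h47
  refine ⟨t', a, c, ?_⟩
  rw [h3_prodL_eq, h3_prodL_eq]
  exact e

/-- Unit FA2: `B` normalises the family `∏_{s ∈ T2} x_s(·)`, keeping the coordinates at `39` and
`45` non-zero -/
theorem FA2_borel [CharP F 2] (b : GL chevF4.Idx F) (hb : b ∈ chevF4.borelSubgroup F)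
    (t : ℕ → F) (h39 : t 39 ≠ 0) (h45 : t 45 ≠ 0) :
    ∃ t' : ℕ → F, t' 39 ≠ 0 ∧ t' 45 ≠ 0 ∧
      b * prodL chevF4 hF4 T2 t * b⁻¹ = prodL chevF4 hF4 T2 t' := by
  obtain ⟨t', a, c, e⟩ := Cfsg.Agent.Lib.Helper3.F4Cent.h3_FA2 b hb t h39 h45
  refine ⟨t', a, c, ?_⟩
  rw [h3_prodL_eq, h3_prodL_eq]
  exact e

theorem h3_T2_posL : ∀ a ∈ T2, a ∈ Cfsg.Agent.Lib.Helper3.F4Cent.posL ∧
    a ≠ 27 ∧ a ≠ 34 ∧ a ≠ 33 ∧ a ≠ 25 ∧ a ≠ 26 ∧ a ≠ 24 := by decide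

/-- Unit FA2, second part: the root subgroups of `T2` commute pairwise (also gives `T1`) -/
theorem FA2_comm [CharP F 2] : ∀ a ∈ T2, ∀ b ∈ T2, ∀ s u : F,
    Commute (xGL chevF4 hF4 a s) (xGL chevF4 hF4 b u) := by
  intro a ha b hb s u
  have hp : ((2 : ℕ) : F) = 0 := CharP.cast_eq_zero F 2
  obtain ⟨hpos, n27, n34, n33, n25, n26, n24⟩ := h3_T2_posL a ha
  have z : ∀ r, xGL chevF4 hF4 r (0 : F) = 1 := fun r => Units.ext (x_at_zero chevF4 r)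
  set t : ℕ → F := fun r => if r = b then u else 0 with ht
  have h := Cfsg.Agent.Lib.Helper3.F4Cent.h3_gen_T2 hp a hpos s t
  have hupd : Cfsg.Agent.Lib.Helper3.F4Cent.upd a s t = t := by
    funext r
    simp [Cfsg.Agent.Lib.Helper3.F4Cent.upd, n27, n34, n33, n25, n26, n24]
    split_ifs <;> simp_all
  rw [hupd] at h
  have hP : Cfsg.Agent.Lib.Helper3.F4Cent.P2 t = xGL chevF4 hF4 b u := by
    simp only [T2, List.mem_cons, List.not_mem_nil, or_false] at hb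
    rcases hb with rfl | rfl | rfl | rfl | rfl | rfl <;>
      simp [Cfsg.Agent.Lib.Helper3.F4Cent.P2, Cfsg.Agent.Lib.Helper3.F4Cent.T2, ht, z]
  rw [hP] at h
  exact h

end Cfsg.Agent.Lib.Helper3.F4CentW
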