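import Mathlib
import Cfsg.Agent.Lib.Helper1.F4Cent.Defs
import Cfsg.Agent.Lib.Helper5.ChevW0
import Cfsg.Agent.Lib.Helper5.ChevPara
import Cfsg.Agent.Lib.Helper5.ChevLevi

set_option autoImplicit false
set_option maxHeartbeats 4000000

/-!
# Farm F4CENT (S2179), unit PD : the Levi decomposition of the elements of the cells `B n_w B`,
`w ∈ ⟨s₁, s₄⟩`
-/

namespace Cfsg.Agent.Lib.Helper3.F4CentW

open Cfsg Cfsg.Lie Cfsg.Agent.Lib.Helper5.ChevSym Cfsg.Agent.Lib.Helper5.ChevStruct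
  Cfsg.Agent.Lib.Helper5.F4T Cfsg.Agent.Lib.Helper1.F4Cent

variable {F : Type*} [Field F]

theorem h3_inRoot_chk : ∀ r < 48, (chevF4.coroot.getD r #[]).getD 1 0 = 0 →
    (chevF4.coroot.getD r #[]).getD 2 0 = 0 → r ∈ [33, 14, 24, 23] := by
  decide +kernel

theorem h3_inRoot_spec (r : ℕ) (hr : chevF4.InRootSub {0, 3} r) : r ∈ rootsL := by
  have h1 := hr.2 1 (by decide) (by simp)
  have h2 := hr.2 2 (by decide) (by simp)
  exact h3_inRoot_chk r hr.1 h1 h2

/-- Unit PD: the Levi decomposition of the elements of the cells `B n_w B`, `w ∈ ⟨s₁, s₄⟩` -/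
theorem PD_decomp (b1 b2 : GL chevF4.Idx F) (hb1 : b1 ∈ chevF4.borelSubgroup F)
    (hb2 : b2 ∈ chevF4.borelSubgroup F) (wJ : List ℕ) (hwJ : ∀ i ∈ wJ, i ∈ [0, 3]) :
    ∃ u ∈ chevF4.unipotentRadical F {0, 3}, ∃ l ∈ rootSetSub chevF4 F rootsL,
      ∃ h ∈ chevF4.diagonalSubgroup F, b1 * wGL chevF4 hF4 wJ * b2 = u * l * h := by
  have hB : chevF4.borelSubgroup F ≤ chevF4.parabolicSubgroup F {0, 3} := by
    unfold ChevalleyDatum.parabolicSubgroup
    exact le_sup_left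
  have hw : (wGL chevF4 hF4 wJ : GL chevF4.Idx F) ∈ chevF4.parabolicSubgroup F {0, 3} := by
    unfold wGL
    apply Subgroup.list_prod_mem
    intro g hg
    rw [List.mem_map] at hg
    obtain ⟨i, hi, rfl⟩ := hg
    have h03 := hwJ i hi
    simp only [List.mem_cons, List.not_mem_nil, or_false] at h03
    rcases h03 with rfl | rfl
    · exact nGL_mem_parabolic chevF4 hF4 {0, 3} 0 (by simp) (by decide)
    · exact nGL_mem_parabolic chevF4 hF4 {0, 3} 3 (by simp) (by decide)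
  have hg : b1 * wGL chevF4 hF4 wJ * b2 ∈ chevF4.parabolicSubgroup F {0, 3} :=
    mul_mem (mul_mem (hB hb1) hw) (hB hb2)
  have hLn : chevF4.leviSubgroup F {0, 3}
      ≤ Subgroup.normalizer (chevF4.unipotentRadical F {0, 3} : Set (GL chevF4.Idx F)) := by
    refine le_trans ?_ (parabolic_le_normalizer_unipotentRadical chevF4 hF4 {0, 3})
    rw [← unipotentRadical_sup_levi chevF4 hF4 {0, 3}]
    exact le_sup_right
  rw [← unipotentRadical_sup_levi chevF4 hF4 {0, 3}] at hg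
  have hg' : b1 * wGL chevF4 hF4 wJ * b2 ∈ ((chevF4.unipotentRadical F {0, 3} ⊔
      chevF4.leviSubgroup F {0, 3} : Subgroup (GL chevF4.Idx F)) : Set (GL chevF4.Idx F)) := hg
  rw [Subgroup.coe_mul_of_right_le_normalizer_left _ _ hLn] at hg'
  obtain ⟨u, hu, l', hl', e⟩ := Set.mem_mul.1 hg'
  have hL : chevF4.leviSubgroup F {0, 3}
      ≤ rootSetSub chevF4 F rootsL ⊔ chevF4.diagonalSubgroup F := by
    unfold ChevalleyDatum.leviSubgroup
    apply sup_le le_sup_right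
    apply le_sup_of_le_left
    unfold rootSetSub
    apply Subgroup.closure_mono
    rintro g ⟨r, t, hr, hg⟩
    exact ⟨r, t, h3_inRoot_spec r hr, hg⟩
  have hl2 : l' ∈ ((rootSetSub chevF4 F rootsL ⊔ chevF4.diagonalSubgroup F :
      Subgroup (GL chevF4.Idx F)) : Set (GL chevF4.Idx F)) := hL hl'
  rw [Subgroup.coe_mul_of_right_le_normalizer_left _ _
    (diagonal_le_normalizer_rootSetSub chevF4 hF4 rootsL)] at hl2
  obtain ⟨l, hl, h, hh, e2⟩ := Set.mem_mul.1 hl2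
  refine ⟨u, hu, l, hl, h, hh, ?_⟩
  rw [← e, ← e2, mul_assoc]

end Cfsg.Agent.Lib.Helper3.F4CentW
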