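import Mathlib
import Cfsg.Prelude.Def_ChevStructure
import Cfsg.Agent.Lib.Helper1.TorusCent
import Cfsg.Agent.Lib.Helper4.D4InvB
import Cfsg.Agent.Lib.Helper6.Char2WGL

set_option autoImplicit false
set_option maxHeartbeats 4000000

/-!
# Farm F4EV (S2174), unit B : lifting involutions through the torus `H`

Over a finite field of characteristic two the diagonal subgroup `H` has odd order, so it has no
involutions (`B1`), and every involution `n_w c` (`c ∈ H`) is `H`-conjugate to `n_w` (`B2`).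
-/

namespace Cfsg.Agent.Lib.Helper3.F4Ev

open Cfsg Cfsg.Lie Cfsg.Agent.Lib.Helper5.ChevSym Cfsg.Agent.Lib.Helper5.ChevStruct

variable {F : Type*} [Field F]

/-- over a finite field of characteristic two the order of `H` is odd -/
theorem h3_card_diag_odd [Fintype F] [CharP F 2] (D : ChevalleyDatum) (hD : D ∈ Seven) :
    Odd (Nat.card (D.diagonalSubgroup F)) := by
  obtain ⟨n, -, hn⟩ := FiniteField.card F 2
  have hdvd := Cfsg.Agent.Lib.Helper1.InvolN.card_diag_dvd (F := F) D hD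
  have hodd1 : Odd (Fintype.card F - 1) := by
    rw [hn]
    have hpos : 0 < (n : ℕ) := n.pos
    obtain ⟨m, hm⟩ : ∃ m, (n : ℕ) = m + 1 := ⟨(n : ℕ) - 1, by omega⟩
    rw [hm, pow_succ]
    have h1 : 1 ≤ 2 ^ m := Nat.one_le_two_pow
    exact ⟨2 ^ m - 1, by omega⟩
  have hodd2 : Odd ((Fintype.card F - 1) ^ D.rank) := hodd1.pow
  exact Odd.of_dvd_nat hodd2 hdvd

/-- Unit B1 -/
theorem h3_B1_diag_invol [Fintype F] [CharP F 2] (D : ChevalleyDatum) (hD : D ∈ Seven)
    (c : GL D.Idx F) (hc : c ∈ D.diagonalSubgroup F) (h2 : c * c = 1) : c = 1 := by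
  have hodd := h3_card_diag_odd (F := F) D hD
  have h3 : (⟨c, hc⟩ : D.diagonalSubgroup F) ^ (Nat.card (D.diagonalSubgroup F)) = 1 :=
    pow_card_eq_one'
  have h3' : c ^ (Nat.card (D.diagonalSubgroup F)) = 1 := by
    have h0 := congrArg Subtype.val h3
    rw [SubmonoidClass.coe_pow] at h0
    exact h0
  have h4 : c ^ 2 = 1 := by rw [pow_two]; exact h2
  have h5 := orderOf_dvd_of_pow_eq_one h3'
  have h6 := orderOf_dvd_of_pow_eq_one h4
  have hcop : Nat.Coprime (Nat.card (D.diagonalSubgroup F)) 2 :=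
    Nat.Coprime.symm (Nat.coprime_two_left.2 hodd)
  have h7 : orderOf c ∣ 1 := by
    rw [← Nat.Coprime.gcd_eq_one hcop]
    exact Nat.dvd_gcd h5 h6
  exact orderOf_eq_one_iff.1 (Nat.dvd_one.1 h7)

/-- Unit B2 -/
theorem h3_B2_invol_lift [Fintype F] [CharP F 2] (D : ChevalleyDatum) (hD : D ∈ Seven)
    (w : List ℕ) (hw : Wd D w) (hw2 : ∀ r < D.nroots, wAct D (w ++ w) r = r) (c : GL D.Idx F)
    (hc : c ∈ D.diagonalSubgroup F) (h2 : (wGL D hD w * c) * (wGL D hD w * c) = 1) :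
    ∃ k ∈ D.diagonalSubgroup F, k * (wGL D hD w * c) * k⁻¹ = wGL D hD w := by
  have hodd := h3_card_diag_odd (F := F) D hD
  have hwN : (wGL D hD w : GL D.Idx F) ∈ D.monomialSubgroup F := wGL_mem D hD w hw
  have hww : (wGL D hD w : GL D.Idx F) * wGL D hD w = 1 := by
    rw [← wGL_append]
    exact Cfsg.Agent.Lib.Helper6.Char2WGL.h6_wGL_eq_one_char2 D hD (w ++ w) (hw.append hw) hw2
  have hfin : Finite (D.diagonalSubgroup F) := by
    apply Nat.finite_of_card_ne_zero
    intro h0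
    rw [h0] at hodd
    exact (by decide : ¬ Odd 0) hodd
  have hnorm : ∀ h ∈ D.diagonalSubgroup F,
      (wGL D hD w * c) * h * (wGL D hD w * c)⁻¹ ∈ D.diagonalSubgroup F := by
    intro h hh
    have h1 : c * h * c⁻¹ ∈ D.diagonalSubgroup F := mul_mem (mul_mem hc hh) (inv_mem hc)
    have h3 := (conj_monomial_diag_mem D hD _ hwN (c * h * c⁻¹) h1).1
    have e : (wGL D hD w * c) * h * (wGL D hD w * c)⁻¹ =
        wGL D hD w * (c * h * c⁻¹) * (wGL D hD w)⁻¹ := by group
    rw [e]; exact h3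
  have hh : (wGL D hD w * c)⁻¹ * wGL D hD w ∈ D.diagonalSubgroup F := by
    have e : (wGL D hD w * c)⁻¹ * wGL D hD w = c⁻¹ := by group
    rw [e]; exact inv_mem hc
  exact Cfsg.Agent.Lib.Helper4.D4Inv.invol_lift_conj (D.diagonalSubgroup F)
    (fun x hx y hy => Cfsg.Agent.Lib.Helper1.TorusCent.diag_comm D hD x y hx hy) hodd
    (wGL D hD w * c) (wGL D hD w) h2 hww hnorm hh

end Cfsg.Agent.Lib.Helper3.F4Ev
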