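import Mathlib
import Cfsg.Prelude.Def_ChevStructure
import Cfsg.Agent.Lib.Helper5.ChevUOrd
import Cfsg.Agent.Lib.Helper5.ChevTwistN
import Cfsg.Agent.Lib.Helper5.ChevChk.AddAll
import Cfsg.Agent.Lib.Helper6.F4EvDefs

set_option autoImplicit false
set_option maxHeartbeats 4000000

/-!
# Farm F4EV (S2174), unit P : the four representatives have order two

`x_r(1)² = x_r(2) = 1` in characteristic two, the two factors of the products commute
(`47 + 44` and `39 + 45` are not roots), and none of the four elements is `1` by the uniqueness of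
the ordered product decomposition in `U`.
-/

namespace Cfsg.Agent.Lib.Helper3.F4Ev

open Cfsg Cfsg.Lie Cfsg.Agent.Lib.Helper5.ChevSym Cfsg.Agent.Lib.Helper5.ChevStruct
  Cfsg.Agent.Lib.Helper5.F4T Cfsg.Agent.Lib.Helper6.F4Ev

variable {F : Type*} [Field F]

theorem h3_posFrom_F4 : posFrom chevF4 0 =
    [24, 25, 26, 27, 28, 29, 30, 31, 32, 33, 34, 35, 36, 37, 38, 39, 40, 41, 42, 43, 44, 45, 46,
      47] := by
  decide +kernel

/-- an ordered product over the positive roots with a non-zero parameter is not `1` -/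
theorem h3_word_ne_one (t : ℕ → F) (r : ℕ) (hr : r ∈ posFrom chevF4 0) (ht : t r ≠ 0) :
    chevF4.wordMat F ((posFrom chevF4 0).map fun r => (r, t r)) ≠ 1 := by
  intro h
  have h0 : chevF4.wordMat F ((posFrom chevF4 0).map fun r => (r, (fun _ => (0 : F)) r)) = 1 := by
    unfold ChevalleyDatum.wordMat
    rw [List.map_map]
    apply List.prod_eq_one
    intro x hx
    obtain ⟨s, -, rfl⟩ := List.mem_map.1 hx
    exact x_at_zero chevF4 s
  have hn : chevF4.nroots ≤ 0 + 48 := by decide
  exact ht (upperSub_unique chevF4 hF4 48 0 hn t (fun _ => 0) (h.trans h0.symm) r hr)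

theorem h3_xGL_zero (r : ℕ) : xGL chevF4 hF4 r (0 : F) = 1 :=
  Units.ext (by rw [xGL_val, x_at_zero]; rfl)

theorem h3_xGL_sq [CharP F 2] (r : ℕ) : xGL chevF4 hF4 r (1 : F) * xGL chevF4 hF4 r 1 = 1 := by
  apply Units.ext
  rw [Units.val_mul, xGL_val, x_add chevF4 (by simp) r 1 1, CharTwo.add_self_eq_zero, x_at_zero]
  rfl

theorem h3_prod_sq {G : Type*} [Group G] (a b : G) (ha : a * a = 1) (hb : b * b = 1)
    (hc : Commute a b) : (a * b) * (a * b) = 1 := by
  calc a * b * (a * b) = a * (b * a) * b := by group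
    _ = a * (a * b) * b := by rw [hc.eq]
    _ = (a * a) * (b * b) := by group
    _ = 1 := by rw [ha, hb, one_mul]

theorem h3_x47_ne : chevF4.x F 47 1 ≠ 1 := by
  have h := h3_word_ne_one (F := F) (fun r => if r = 47 then 1 else 0) 47
    (by rw [h3_posFrom_F4]; decide) (by simp)
  rw [h3_posFrom_F4] at h
  simpa [ChevalleyDatum.wordMat, x_at_zero] using h

theorem h3_x44_ne : chevF4.x F 44 1 ≠ 1 := by
  have h := h3_word_ne_one (F := F) (fun r => if r = 44 then 1 else 0) 44
    (by rw [h3_posFrom_F4]; decide) (by simp)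
  rw [h3_posFrom_F4] at h
  simpa [ChevalleyDatum.wordMat, x_at_zero] using h

theorem h3_x44_47_ne : chevF4.x F 44 1 * chevF4.x F 47 1 ≠ 1 := by
  have h := h3_word_ne_one (F := F) (fun r => if r = 44 ∨ r = 47 then 1 else 0) 44
    (by rw [h3_posFrom_F4]; decide) (by simp)
  rw [h3_posFrom_F4] at h
  simpa [ChevalleyDatum.wordMat, x_at_zero] using h

theorem h3_x39_45_ne : chevF4.x F 39 1 * chevF4.x F 45 1 ≠ 1 := by
  have h := h3_word_ne_one (F := F) (fun r => if r = 39 ∨ r = 45 then 1 else 0) 39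
    (by rw [h3_posFrom_F4]; decide) (by simp)
  rw [h3_posFrom_F4] at h
  simpa [ChevalleyDatum.wordMat, x_at_zero] using h

theorem h3_comm_47_44 : Commute (xGL chevF4 hF4 47 (1 : F)) (xGL chevF4 hF4 44 1) :=
  xGL_commute chevF4 hF4 47 44 (by decide +kernel) 1 1

theorem h3_comm_39_45 : Commute (xGL chevF4 hF4 39 (1 : F)) (xGL chevF4 hF4 45 1) :=
  xGL_commute chevF4 hF4 39 45 (by decide +kernel) 1 1

/-- Unit P -/
theorem h3_P_yGL_order [CharP F 2] (k : Fin 4) : orderOf (yGL F k) = 2 := by
  have key : ∀ y : GL chevF4.Idx F, y * y = 1 → y ≠ 1 → orderOf y = 2 := by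
    intro y h1 h2
    exact orderOf_eq_prime (by rw [pow_two]; exact h1) h2
  fin_cases k
  · apply key
    · exact h3_xGL_sq 47
    · intro h
      apply h3_x47_ne (F := F)
      have := congrArg Units.val h
      simpa [yGL] using this
  · apply key
    · exact h3_xGL_sq 44
    · intro h
      apply h3_x44_ne (F := F)
      have := congrArg Units.val h
      simpa [yGL] using this
  · apply key
    · exact h3_prod_sq _ _ (h3_xGL_sq 47) (h3_xGL_sq 44) h3_comm_47_44
    · intro h
      apply h3_x44_47_ne (F := F)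
      have h' : xGL chevF4 hF4 44 (1 : F) * xGL chevF4 hF4 47 1 = 1 := by
        rw [← h3_comm_47_44.eq]; exact h
      have := congrArg Units.val h'
      simpa using this
  · apply key
    · exact h3_prod_sq _ _ (h3_xGL_sq 39) (h3_xGL_sq 45) h3_comm_39_45
    · intro h
      apply h3_x39_45_ne (F := F)
      have := congrArg Units.val h
      simpa [yGL] using this

end Cfsg.Agent.Lib.Helper3.F4Ev
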