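import Mathlib
import Cfsg.Prelude.Def_PLocal
import Cfsg.Agent.Lib.Helper1.ZJ4

set_option autoImplicit false
set_option maxHeartbeats 1000000
set_option linter.style.haveILetI false
set_option linter.unusedSectionVars false
set_option linter.unusedVariables false

/-! A ZJ-type theorem for a fixed family of abelian subgroups of a Sylow subgroup, satisfying
an invariance and a replacement axiom (adapted from the functorial version of helper1). -/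

namespace Cfsg.Agent.Lib.Helper3.FAx

open Cfsg Cfsg.Agent.Lib.Helper1 Cfsg.Agent.Lib.Helper1.ZJ Cfsg.Agent.Lib.Helper1.GlaubermanRepl
open scoped Pointwise commutatorElement

universe u

variable {G : Type u} [Group G]

/-- the intersection of the members of the family contained in `Q` -/
def Ifam (𝒜 : Set (Subgroup G)) (Q : Subgroup G) : Subgroup G :=
  ⨅ A ∈ {A : Subgroup G | A ∈ 𝒜 ∧ A ≤ Q}, A

theorem mem_Ifam {𝒜 : Set (Subgroup G)} {Q : Subgroup G} {x : G} :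
    x ∈ Ifam 𝒜 Q ↔ ∀ A ∈ 𝒜, A ≤ Q → x ∈ A := by
  unfold Ifam
  simp only [Subgroup.mem_iInf, Set.mem_setOf_eq]
  constructor
  · intro h A hA hAQ
    exact h A ⟨hA, hAQ⟩
  · intro h A hA
    exact h A hA.1 hA.2

/-- the axioms on the family -/
structure AxFam (p : ℕ) (P : Subgroup G) (𝒜 : Set (Subgroup G)) : Prop where
  le : ∀ A ∈ 𝒜, A ≤ P
  comm : ∀ A ∈ 𝒜, ∀ x ∈ A, ∀ y ∈ A, x * y = y * x
  nonempty : 𝒜.Nonempty
  inv : ∀ Q : Subgroup G, Q ≤ P → (∃ A ∈ 𝒜, A ≤ Q) →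
    Subgroup.normalizer (Q : Set G) ≤ Subgroup.normalizer ((Ifam 𝒜 Q : Subgroup G) : Set G)
  rep : ∀ B : Subgroup G, B ≤ P → ⁅⁅B, B⁆, B⁆ = ⊥ → (∃ A ∈ 𝒜, ⁅B, B⁆ ≤ A ∧ ¬ B ≤ A) →
    ∃ A ∈ 𝒜, ⁅B, B⁆ ≤ A ∧ ¬ B ≤ A ∧ B ≤ Subgroup.normalizer (A : Set G)

namespace AxFam

variable {p : ℕ} {P : Subgroup G} {𝒜 : Set (Subgroup G)}

theorem Ifam_le_mem (fam : AxFam p P 𝒜) {A : Subgroup G} (hA : A ∈ 𝒜) : Ifam 𝒜 P ≤ A :=
  fun x hx => mem_Ifam.mp hx A hA (fam.le A hA)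

theorem Ifam_le (fam : AxFam p P 𝒜) : Ifam 𝒜 P ≤ P := by
  obtain ⟨A, hA⟩ := fam.nonempty
  exact (fam.Ifam_le_mem hA).trans (fam.le A hA)

theorem Ifam_comm (fam : AxFam p P 𝒜) : ∀ x ∈ Ifam 𝒜 P, ∀ y ∈ Ifam 𝒜 P, x * y = y * x := by
  obtain ⟨A, hA⟩ := fam.nonempty
  intro x hx y hy
  exact fam.comm A hA x (fam.Ifam_le_mem hA hx) y (fam.Ifam_le_mem hA hy)

theorem conj_mem_Ifam (fam : AxFam p P 𝒜) {g : G} (hg : g ∈ P) {x : G} (hx : x ∈ Ifam 𝒜 P) :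
    g * x * g⁻¹ ∈ Ifam 𝒜 P := by
  obtain ⟨A, hA⟩ := fam.nonempty
  have h1 := fam.inv P le_rfl ⟨A, hA, fam.le A hA⟩ (Subgroup.le_normalizer hg)
  exact (Subgroup.mem_normalizer_iff.mp h1 x).mp hx

theorem inf_normal_step [Finite G] [hp : Fact p.Prime] (hp2 : p ≠ 2) (S : Sylow p G)
    (fam : AxFam p (S : Subgroup G) 𝒜)
    (hst : ∀ (P : Subgroup G) [P.Normal], IsPGroup p P → Cfsg.IsPStableOn p P)
    (B : Subgroup G) [hBn : B.Normal] (hB : IsPGroup p B)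
    (IH : ∀ B' : Subgroup G, B'.Normal → B' < B → (Ifam 𝒜 (S : Subgroup G) ⊓ B').Normal) :
    (Ifam 𝒜 (S : Subgroup G) ⊓ B).Normal := by
  obtain ⟨P, hP⟩ : ∃ P : Subgroup G, P = ↑S := ⟨_, rfl⟩
  rw [← hP] at IH fam ⊢
  obtain ⟨Z, hZ⟩ : ∃ Z, Z = Ifam 𝒜 P := ⟨_, rfl⟩
  rw [← hZ] at IH ⊢
  have hPp : IsPGroup p P := hP ▸ S.2
  have hBP : B ≤ P := (le_pCore hBn hB).trans (hP ▸ pCore_le_sylow p S)
  have hZP : Z ≤ P := hZ ▸ fam.Ifam_le
  have hZc : ∀ x ∈ Z, ∀ y ∈ Z, x * y = y * x := hZ ▸ fam.Ifam_comm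
  have hPZ : ∀ g ∈ P, ∀ x ∈ Z, g * x * g⁻¹ ∈ Z := by
    intro g hg x hx
    rw [hZ] at hx ⊢
    exact fam.conj_mem_Ifam hg hx
  by_cases hcl : Subgroup.normalClosure ((Z ⊓ B : Subgroup G) : Set G) = B
  swap
  · have hle : Subgroup.normalClosure ((Z ⊓ B : Subgroup G) : Set G) ≤ B :=
      Subgroup.normalClosure_le_normal inf_le_right
    have hlt : Subgroup.normalClosure ((Z ⊓ B : Subgroup G) : Set G) < B := lt_of_le_of_ne hle hcl
    have h1 := IH _ Subgroup.normalClosure_normal hlt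
    have e : Z ⊓ Subgroup.normalClosure ((Z ⊓ B : Subgroup G) : Set G) = Z ⊓ B :=
      le_antisymm (inf_le_inf_left _ hle) (le_inf inf_le_left Subgroup.subset_normalClosure)
    rw [← e]; exact h1
  by_cases hbot : B = ⊥
  · subst hbot; rw [inf_bot_eq]; infer_instance
  have hB'lt : ⁅B, B⁆ < B := commutator_lt_of_isPGroup hB hbot
  have hN : (Z ⊓ ⁅B, B⁆).Normal := IH _ (Subgroup.commutator_normal B B) hB'lt
  have h1 : ⁅Z ⊓ B, B⁆ ≤ Z ⊓ ⁅B, B⁆ := by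
    apply le_inf _ (Subgroup.commutator_mono inf_le_right le_rfl)
    rw [Subgroup.commutator_le]
    intro z hz b hb
    rw [commutatorElement_def, mul_assoc, mul_assoc]
    apply Z.mul_mem hz.1
    rw [← mul_assoc]
    exact hPZ b (hBP hb) _ (Z.inv_mem hz.1)
  have h2 : ⁅B, B⁆ ≤ Z ⊓ ⁅B, B⁆ := commutator_le_of_normalClosure hcl h1
  have h3 : ∀ A ∈ 𝒜, ⁅B, B⁆ ≤ A := fun A hA => (h2.trans inf_le_left).trans (hZ ▸ fam.Ifam_le_mem hA)
  -- `B` has class at most two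
  have hcl2 : ⁅⁅B, B⁆, B⁆ = ⊥ := by
    have hBBn : (⁅B, B⁆ : Subgroup G).Normal := Subgroup.commutator_normal B B
    have hCn : (Subgroup.centralizer ((⁅B, B⁆ : Subgroup G) : Set G)).Normal := inferInstance
    have hZC : ((Z ⊓ B : Subgroup G) : Set G) ⊆
        Subgroup.centralizer ((⁅B, B⁆ : Subgroup G) : Set G) := by
      intro z hz
      rw [SetLike.mem_coe, Subgroup.mem_centralizer_iff]
      intro c hc
      exact hZc c (h2 hc).1 z hz.1
    have hBC : B ≤ Subgroup.centralizer ((⁅B, B⁆ : Subgroup G) : Set G) := by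
      have h5 : Subgroup.normalClosure ((Z ⊓ B : Subgroup G) : Set G) ≤
          Subgroup.centralizer ((⁅B, B⁆ : Subgroup G) : Set G) :=
        Subgroup.normalClosure_le_normal hZC
      rw [hcl] at h5; exact h5
    rw [Subgroup.commutator_eq_bot_iff_le_centralizer]
    exact Subgroup.le_centralizer_iff.mp hBC
  by_contra hnot
  -- some member of the family does not contain `B`
  have hex : ∃ A ∈ 𝒜, ⁅B, B⁆ ≤ A ∧ ¬ B ≤ A := by
    by_contra hno
    push Not at hno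
    apply hnot
    have hBZ : B ≤ Z := by
      intro b hb
      rw [hZ]
      exact mem_Ifam.mpr (fun A hA _ => hno A hA (h3 A hA) hb)
    rw [inf_eq_right.mpr hBZ]; exact hBn
  obtain ⟨A₀, hA₀F, -, hBnA₀, hBA₀⟩ := fam.rep B hBP hcl2 hex
  obtain ⟨L, hL⟩ : ∃ L, L = (Cfsg.pCore p (G ⧸ Subgroup.centralizer (B : Set G))).comap
      (QuotientGroup.mk' (Subgroup.centralizer (B : Set G))) := ⟨_, rfl⟩
  obtain ⟨R, hR⟩ : ∃ R, R = P ⊓ L := ⟨_, rfl⟩
  have hA₀L : A₀ ≤ L := by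
    rw [hL]
    exact le_comap_pCore_of_quadratic B (hst B hB) (fam.comm A₀ hA₀F) hBA₀
  have htop : Subgroup.normalizer (R : Set G) ⊔ Subgroup.centralizer (B : Set G) = ⊤ := by
    rw [hR, hP, hL]
    exact normalizer_inf_sup_eq_top S (Subgroup.centralizer (B : Set G))
  have hRP : R ≤ P := hR ▸ inf_le_left
  have hA₀R : A₀ ≤ R := hR ▸ le_inf (fam.le A₀ hA₀F) hA₀L
  have hZR : Z ≤ Ifam 𝒜 R := by
    intro z hz
    rw [hZ] at hz
    exact mem_Ifam.mpr (fun A hA _ => fam.Ifam_le_mem hA hz)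
  have hRinv := fam.inv R hRP ⟨A₀, hA₀F, hA₀R⟩
  have hZRn : (Ifam 𝒜 R ⊓ B).Normal := by
    rw [← Subgroup.normalizer_eq_top_iff, eq_top_iff, ← htop]
    apply sup_le
    · intro g hg
      apply mem_normalizer_of_conj_mem_of_finite
      intro x hx
      exact ⟨(Subgroup.mem_normalizer_iff.mp (hRinv hg) x).mp hx.1, hBn.conj_mem _ hx.2 g⟩
    · intro c hc
      apply mem_normalizer_of_conj_mem_of_finite
      intro x hx
      have := Subgroup.mem_centralizer_iff.mp hc x hx.2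
      rw [← this, mul_inv_cancel_right]
      exact hx
  have hBZR : B ≤ Ifam 𝒜 R := by
    have : Subgroup.normalClosure ((Z ⊓ B : Subgroup G) : Set G) ≤ Ifam 𝒜 R ⊓ B :=
      Subgroup.normalClosure_le_normal (inf_le_inf_right _ hZR)
    rw [hcl] at this; exact this.trans inf_le_left
  exact hBnA₀ (fun b hb => mem_Ifam.mp (hBZR hb) A₀ hA₀F hA₀R)

theorem inf_normal [Finite G] [hp : Fact p.Prime] (hp2 : p ≠ 2) (S : Sylow p G)
    (fam : AxFam p (S : Subgroup G) 𝒜)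
    (hst : ∀ (P : Subgroup G) [P.Normal], IsPGroup p P → Cfsg.IsPStableOn p P)
    (B : Subgroup G) [hBn : B.Normal] (hB : IsPGroup p B) :
    (Ifam 𝒜 (S : Subgroup G) ⊓ B).Normal := by
  induction' h : Nat.card B using Nat.strong_induction_on with n ih generalizing B
  apply fam.inf_normal_step hp2 S hst B hB
  intro B' hB'n hlt
  exact ih (Nat.card B') (h ▸ card_lt_card_of_lt hlt) B' (hB.to_le hlt.le) rfl

theorem Ifam_le_pCore [Finite G] [hp : Fact p.Prime] (S : Sylow p G)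
    (fam : AxFam p (S : Subgroup G) 𝒜)
    (hc : Subgroup.centralizer (Cfsg.pCore p G : Set G) ≤ Cfsg.pCore p G)
    (hst : ∀ (P : Subgroup G) [P.Normal], IsPGroup p P → Cfsg.IsPStableOn p P) :
    Ifam 𝒜 (S : Subgroup G) ≤ Cfsg.pCore p G := by
  obtain ⟨Q, hQ⟩ : ∃ Q, Q = Cfsg.pCore p G := ⟨_, rfl⟩
  rw [← hQ] at hc ⊢
  have hQn : Q.Normal := hQ ▸ Cfsg.Agent.Lib.Helper1.pCore_normal p
  have hQp : IsPGroup p Q := hQ ▸ Cfsg.Agent.Lib.Helper1.pCore_isPGroup p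
  have hQS : Q ≤ S := hQ ▸ pCore_le_sylow p S
  obtain ⟨Z, hZ⟩ : ∃ Z, Z = Ifam 𝒜 (S : Subgroup G) := ⟨_, rfl⟩
  rw [← hZ]
  have hZc : ∀ x ∈ Z, ∀ y ∈ Z, x * y = y * x := hZ ▸ fam.Ifam_comm
  have hPZ : ∀ g ∈ (S : Subgroup G), ∀ x ∈ Z, g * x * g⁻¹ ∈ Z := by
    intro g hg x hx
    rw [hZ] at hx ⊢
    exact fam.conj_mem_Ifam hg hx
  obtain ⟨D, hD⟩ : ∃ D, D = (Cfsg.pCore p (G ⧸ Subgroup.centralizer (Q : Set G))).comap
      (QuotientGroup.mk' (Subgroup.centralizer (Q : Set G))) := ⟨_, rfl⟩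
  have hDn : D.Normal := hD ▸ Subgroup.Normal.comap (Cfsg.Agent.Lib.Helper1.pCore_normal p) _
  have hDp : IsPGroup p D := by
    rw [hD]
    apply IsPGroup.comap_of_ker_isPGroup (Cfsg.Agent.Lib.Helper1.pCore_isPGroup p)
    rw [QuotientGroup.ker_mk']
    exact hQp.to_le hc
  have hDQ : D ≤ Q := hQ ▸ le_pCore hDn hDp
  intro z hz
  apply hDQ
  rw [hD, Subgroup.mem_comap]
  apply hst Q hQp z
  rw [eq_bot_iff, Subgroup.commutator_le]
  intro x hx y hy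
  have hzZ : Subgroup.zpowers z ≤ Z := by
    rw [Subgroup.zpowers_le]; exact hz
  have h1 : ⁅Q, Subgroup.zpowers z⁆ ≤ Z := by
    rw [Subgroup.commutator_le]
    intro q hq t ht
    rw [commutatorElement_def]
    exact Z.mul_mem (hPZ q (hQS hq) t (hzZ ht)) (Z.inv_mem (hzZ ht))
  rw [Subgroup.mem_bot, commutatorElement_eq_one_iff_commute]
  exact hZc x (h1 hx) y (hzZ hy)

/-- the intersection of the family is normal, under `p`-stability and `C(O_p) ≤ O_p` -/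
theorem Ifam_normal [Finite G] [hp : Fact p.Prime] (hp2 : p ≠ 2) (S : Sylow p G)
    (fam : AxFam p (S : Subgroup G) 𝒜)
    (hc : Subgroup.centralizer (Cfsg.pCore p G : Set G) ≤ Cfsg.pCore p G)
    (hst : ∀ (P : Subgroup G) [P.Normal], IsPGroup p P → Cfsg.IsPStableOn p P) :
    (Ifam 𝒜 (S : Subgroup G)).Normal := by
  have := Cfsg.Agent.Lib.Helper1.pCore_normal (G := G) p
  have := fam.inf_normal hp2 S hst (Cfsg.pCore p G) (Cfsg.Agent.Lib.Helper1.pCore_isPGroup p)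
  rwa [inf_eq_left.mpr (fam.Ifam_le_pCore S hc hst)] at this

end AxFam

end Cfsg.Agent.Lib.Helper3.FAx
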