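import Mathlib
import Cfsg.Agent.Lib.Helper3.FAx1
import Cfsg.Agent.Lib.Helper1.NPC3
import Cfsg.Agent.Lib.Helper1.NPC1
import Cfsg.Agent.Lib.Helper1.SupersolvableMax
import Cfsg.Agent.Lib.Helper1.PNilpotentLocal
import Cfsg.Agent.Lib.Helper2.HHDual
import Cfsg.Agent.Lib.Helper7.ThompsonFunctor1
import Cfsg.Agent.Lib.Helper8.NilMax

set_option autoImplicit false
set_option maxHeartbeats 1000000
set_option linter.style.haveILetI false
set_option linter.unusedSectionVars false
set_option linter.unusedVariables false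

/-! The axiomatic Glauberman--Thompson criterion for groups with `C(O_p) ≤ O_p`: if the
normalizer of the intersection of the family has a normal `p`-complement, the group is a
`p`-group. -/

namespace Cfsg.Agent.Lib.Helper3.FAx

open Cfsg Cfsg.Agent.Lib.Helper1 Cfsg.Agent.Lib.Helper1.ZJ Cfsg.Agent.Lib.Helper1.GlaubermanRepl
open scoped Pointwise commutatorElement

universe u

variable {G : Type u} [Group G]

/-- a maximal Sylow subgroup that is not normal: the quotient by `O_p` is `p`-nilpotent -/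
theorem hnil_of_coatom [Finite G] {p : ℕ} [hp : Fact p.Prime] (hp2 : p ≠ 2) (S : Sylow p G)
    (hco : IsCoatom (S : Subgroup G)) (hne : (S : Subgroup G) ≠ pCore p G) :
    HasNormalPComplement p (G ⧸ pCore p G) := by
  haveI hHn : (pCore p G).Normal := Cfsg.Agent.Lib.Helper1.pCore_normal p
  have hHT : pCore p G ≤ S := Cfsg.Agent.Lib.Helper1.pCore_le_sylow p S
  obtain ⟨Tb, hTb⟩ : ∃ Tb : Sylow p (G ⧸ pCore p G),
      (Tb : Subgroup (G ⧸ pCore p G)) = (S : Subgroup G).map (QuotientGroup.mk' (pCore p G)) :=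
    ⟨S.mapSurjective (QuotientGroup.mk'_surjective _), Sylow.coe_mapSurjective _ _⟩
  have hcoatom : IsCoatom (Tb : Subgroup (G ⧸ pCore p G)) := by
    rw [hTb]; exact Cfsg.Agent.Lib.Helper1.isCoatom_map_mk' _ _ hHT hco
  have hnilTb : Group.IsNilpotent (Tb : Subgroup (G ⧸ pCore p G)) := Tb.isPGroup'.isNilpotent
  have hbot := Cfsg.Agent.Lib.Helper2.pCore_quotient_pCore_eq_bot (G := G) p
  have hcore : ∀ N : Subgroup (G ⧸ pCore p G), N.Normal → N ≤ (Tb : Subgroup (G ⧸ pCore p G)) →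
      N = ⊥ := by
    intro N hN hNT
    have h1 : N ≤ pCore p (G ⧸ pCore p G) :=
      Cfsg.Agent.Lib.Helper1.le_pCore hN (Tb.isPGroup'.to_le hNT)
    rw [hbot] at h1
    exact le_bot_iff.mp h1
  have hpM : p ∣ Nat.card (Tb : Subgroup (G ⧸ pCore p G)) := by
    rcases Tb.isPGroup'.card_eq_or_dvd with h | h
    · exfalso
      apply hne
      have h2 : (Tb : Subgroup (G ⧸ pCore p G)) = ⊥ := Subgroup.card_eq_one.mp h
      rw [hTb] at h2
      apply le_antisymm _ hHT
      intro x hx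
      have h3 : QuotientGroup.mk' (pCore p G) x ∈
          (S : Subgroup G).map (QuotientGroup.mk' (pCore p G)) := ⟨x, hx, rfl⟩
      rw [h2, Subgroup.mem_bot] at h3
      exact (QuotientGroup.eq_one_iff x).mp h3
    · exact h
  exact (Cfsg.Agent.Lib.Helper8.NilMax.sylow_step (Tb : Subgroup (G ⧸ pCore p G)) hcoatom hnilTb
    hcore p hp2 hpM).1

/-- the local theorem: a maximal Sylow subgroup in a group with `C(O_p) ≤ O_p` -/
theorem Ifam_normal_of_coatom [Finite G] {p : ℕ} [hp : Fact p.Prime] (hp2 : p ≠ 2)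
    {𝒜 : Set (Subgroup G)} (S : Sylow p G) (hco : IsCoatom (S : Subgroup G))
    (fam : AxFam p (S : Subgroup G) 𝒜)
    (hc : Subgroup.centralizer (Cfsg.pCore p G : Set G) ≤ Cfsg.pCore p G) :
    (Ifam 𝒜 (S : Subgroup G)).Normal := by
  by_cases hSn : (S : Subgroup G) = pCore p G
  · obtain ⟨A, hA⟩ := fam.nonempty
    have h1 := fam.inv (S : Subgroup G) le_rfl ⟨A, hA, fam.le A hA⟩
    have h2 : Subgroup.normalizer ((S : Subgroup G) : Set G) = ⊤ := by
      rw [Subgroup.normalizer_eq_top_iff, hSn]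
      exact Cfsg.Agent.Lib.Helper1.pCore_normal p
    rw [h2, top_le_iff] at h1
    exact Subgroup.normalizer_eq_top_iff.mp h1
  · have hnil := hnil_of_coatom hp2 S hco hSn
    have hab := Cfsg.Agent.Lib.Helper1.NPC.comm_sylow_two_of_max_sylow hp2 hnil S hco
    have hst : ∀ (P : Subgroup G) [P.Normal], IsPGroup p P → Cfsg.IsPStableOn p P := by
      intro P _ hP
      exact Cfsg.Agent.Lib.Helper1.NPC.isPStableOn_of_comm_sylow_of_isPGroup hp2 P hP hab
    exact fam.Ifam_normal hp2 S hc hst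

/-- with `C(O_p) ≤ O_p`, a normal `p`-complement is trivial -/
theorem sylow_eq_top_of_npc [Finite G] {p : ℕ} [hp : Fact p.Prime]
    (hc : Subgroup.centralizer (Cfsg.pCore p G : Set G) ≤ Cfsg.pCore p G)
    (hnpc : HasNormalPComplement p G) (S : Sylow p G) : (S : Subgroup G) = ⊤ := by
  obtain ⟨P', K, hKn, hKc⟩ := hnpc
  have hKcard : ¬ p ∣ Nat.card K := by
    have h1 := hKc.card_mul_card
    have h2 := (P' : Subgroup G).card_mul_index
    have h3 : 0 < Nat.card (P' : Subgroup G) := Nat.card_pos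
    have h4 : Nat.card K = (P' : Subgroup G).index := by
      have : Nat.card K * Nat.card (P' : Subgroup G) =
          (P' : Subgroup G).index * Nat.card (P' : Subgroup G) := by
        rw [h1, mul_comm, h2]
      exact Nat.eq_of_mul_eq_mul_right h3 this
    rw [h4]
    exact P'.not_dvd_index
  have hKbot : K = ⊥ := by
    obtain ⟨m, hm⟩ := (IsPGroup.iff_card).mp (Cfsg.Agent.Lib.Helper1.pCore_isPGroup (G := G) p)
    have hcop : (Nat.card K).Coprime (Nat.card (pCore p G)) := by
      rw [hm]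
      apply Nat.Coprime.pow_right
      exact ((Nat.Prime.coprime_iff_not_dvd hp.out).mpr hKcard).symm
    have hdisj : K ⊓ pCore p G = ⊥ := (Subgroup.disjoint_of_coprime_natCard hcop).eq_bot
    rw [eq_bot_iff]
    intro k hk
    have hkc : k ∈ Subgroup.centralizer ((pCore p G : Subgroup G) : Set G) := by
      refine Subgroup.mem_centralizer_iff.mpr ?_
      intro x hx
      have h1 : k * x * k⁻¹ * x⁻¹ ∈ K ⊓ pCore p G := by
        constructor
        · have h2 : x * k⁻¹ * x⁻¹ ∈ K := hKn.conj_mem _ (K.inv_mem hk) x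
          have e1 : k * x * k⁻¹ * x⁻¹ = k * (x * k⁻¹ * x⁻¹) := by group
          rw [e1]
          exact K.mul_mem hk h2
        · have h2 : k * x * k⁻¹ ∈ pCore p G :=
            (Cfsg.Agent.Lib.Helper1.pCore_normal (G := G) p).conj_mem _ hx k
          exact Subgroup.mul_mem _ h2 (Subgroup.inv_mem _ hx)
      rw [hdisj, Subgroup.mem_bot] at h1
      calc x * k = (k * x * k⁻¹ * x⁻¹)⁻¹ * (k * x) := by group
        _ = k * x := by rw [h1]; group
    have h2 : k ∈ K ⊓ pCore p G := ⟨hk, hc hkc⟩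
    rw [hdisj] at h2
    exact h2
  have hP'top : (P' : Subgroup G) = ⊤ := by
    rw [hKbot] at hKc
    exact Subgroup.isComplement'_bot_left.mp hKc
  have h1 : IsPGroup p ↥(⊤ : Subgroup G) := by
    rw [← hP'top]
    exact P'.isPGroup'
  exact (S.is_maximal' h1 le_top).symm

/-- transport of the axioms to a subgroup containing `P` -/
theorem AxFam.subgroupOf {p : ℕ} {P : Subgroup G} {𝒜 : Set (Subgroup G)} (fam : AxFam p P 𝒜)
    (M : Subgroup G) (hPM : P ≤ M) :
    AxFam p (P.subgroupOf M) ((fun A : Subgroup G => A.subgroupOf M) '' 𝒜) := by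
  have hmemI : ∀ (Q' : Subgroup ↥M) (x : ↥M),
      x ∈ Ifam ((fun A : Subgroup G => A.subgroupOf M) '' 𝒜) Q' ↔
        (x : G) ∈ Ifam 𝒜 (Q'.map M.subtype) := by
    intro Q' x
    rw [mem_Ifam, mem_Ifam]
    constructor
    · intro h A hA hAQ
      have h1 := h (A.subgroupOf M) ⟨A, hA, rfl⟩ (by
        intro y hy
        obtain ⟨z, hz, hzy⟩ := hAQ (Subgroup.mem_subgroupOf.mp hy)
        have : z = y := Subtype.ext hzy
        rw [← this]; exact hz)
      exact Subgroup.mem_subgroupOf.mp h1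
    · rintro h _ ⟨A, hA, rfl⟩ hAQ
      rw [Subgroup.mem_subgroupOf]
      apply h A hA
      intro a ha
      have haM : a ∈ M := hPM (fam.le A hA ha)
      exact ⟨⟨a, haM⟩, hAQ (Subgroup.mem_subgroupOf.mpr ha), rfl⟩
  refine ⟨?_, ?_, ?_, ?_, ?_⟩
  · rintro _ ⟨A, hA, rfl⟩ x hx
    exact Subgroup.mem_subgroupOf.mpr (fam.le A hA (Subgroup.mem_subgroupOf.mp hx))
  · rintro _ ⟨A, hA, rfl⟩ x hx y hy
    apply Subtype.ext
    exact fam.comm A hA x (Subgroup.mem_subgroupOf.mp hx) y (Subgroup.mem_subgroupOf.mp hy)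
  · obtain ⟨A, hA⟩ := fam.nonempty
    exact ⟨_, ⟨A, hA, rfl⟩⟩
  · rintro Q' hQ' ⟨_, ⟨A, hA, rfl⟩, hAQ⟩ g hg
    have hQP : Q'.map M.subtype ≤ P := by
      rintro _ ⟨y, hy, rfl⟩
      exact Subgroup.mem_subgroupOf.mp (hQ' hy)
    have hAQ' : A ≤ Q'.map M.subtype := by
      intro a ha
      have haM : a ∈ M := hPM (fam.le A hA ha)
      exact ⟨⟨a, haM⟩, hAQ (Subgroup.mem_subgroupOf.mpr ha), rfl⟩
    have hgN : (g : G) ∈ Subgroup.normalizer ((Q'.map M.subtype : Subgroup G) : Set G) := by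
      rw [Subgroup.mem_normalizer_iff]
      intro x
      constructor
      · rintro ⟨y, hy, rfl⟩
        exact ⟨g * y * g⁻¹, (Subgroup.mem_normalizer_iff.mp hg y).mp hy, rfl⟩
      · rintro ⟨y, hy, hyx⟩
        have h1 := (Subgroup.mem_normalizer_iff.mp hg (g⁻¹ * y * g)).mpr (by
          have : g * (g⁻¹ * y * g) * g⁻¹ = y := by group
          rw [this]; exact hy)
        refine ⟨g⁻¹ * y * g, h1, ?_⟩
        have h2 : ((g⁻¹ * y * g : ↥M) : G) = (g : G)⁻¹ * (y : G) * (g : G) := by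
          simp
        show ((g⁻¹ * y * g : ↥M) : G) = x
        rw [h2]
        have h3 : (y : G) = (g : G) * x * (g : G)⁻¹ := hyx
        rw [h3]; group
    have h1 := fam.inv _ hQP ⟨A, hA, hAQ'⟩ hgN
    rw [Subgroup.mem_normalizer_iff]
    intro x
    rw [hmemI, hmemI]
    have h2 := Subgroup.mem_normalizer_iff.mp h1 (x : G)
    have h3 : ((g * x * g⁻¹ : ↥M) : G) = (g : G) * (x : G) * (g : G)⁻¹ := by simp
    rw [h3]
    exact h2
  · intro B' hB' hcl2 hex
    have hBP : B'.map M.subtype ≤ P := by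
      rintro _ ⟨y, hy, rfl⟩
      exact Subgroup.mem_subgroupOf.mp (hB' hy)
    have hcomm : ⁅B'.map M.subtype, B'.map M.subtype⁆ = (⁅B', B'⁆).map M.subtype :=
      (Subgroup.map_commutator B' B' M.subtype).symm
    have hcl2' : ⁅⁅B'.map M.subtype, B'.map M.subtype⁆, B'.map M.subtype⁆ = ⊥ := by
      rw [hcomm, ← Subgroup.map_commutator, hcl2, Subgroup.map_bot]
    have hex' : ∃ A ∈ 𝒜, ⁅B'.map M.subtype, B'.map M.subtype⁆ ≤ A ∧ ¬ B'.map M.subtype ≤ A := by
      obtain ⟨_, ⟨A, hA, rfl⟩, h1, h2⟩ := hex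
      refine ⟨A, hA, ?_, ?_⟩
      · rw [hcomm, Subgroup.map_le_iff_le_comap]
        exact h1
      · intro h
        apply h2
        exact Subgroup.map_le_iff_le_comap.mp h
    obtain ⟨A, hA, h1, h2, h3⟩ := fam.rep _ hBP hcl2' hex'
    refine ⟨A.subgroupOf M, ⟨A, hA, rfl⟩, ?_, ?_, ?_⟩
    · rw [hcomm, Subgroup.map_le_iff_le_comap] at h1
      exact h1
    · intro h
      apply h2
      rw [Subgroup.map_le_iff_le_comap]
      exact h
    · intro b hb
      have hbN := h3 ⟨b, hb, rfl⟩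
      rw [Subgroup.mem_normalizer_iff]
      intro x
      rw [Subgroup.mem_subgroupOf, Subgroup.mem_subgroupOf]
      have h4 := Subgroup.mem_normalizer_iff.mp hbN (x : G)
      have h5 : ((b * x * b⁻¹ : ↥M) : G) = (b : G) * (x : G) * (b : G)⁻¹ := by simp
      rw [h5]
      exact h4

theorem Ifam_subgroupOf_top {p : ℕ} {P : Subgroup G} {𝒜 : Set (Subgroup G)} (fam : AxFam p P 𝒜)
    (M : Subgroup G) (hPM : P ≤ M) (x : ↥M) :
    x ∈ Ifam ((fun A : Subgroup G => A.subgroupOf M) '' 𝒜) (P.subgroupOf M) ↔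
      (x : G) ∈ Ifam 𝒜 P := by
  rw [mem_Ifam, mem_Ifam]
  constructor
  · intro h A hA _
    have h1 := h (A.subgroupOf M) ⟨A, hA, rfl⟩ (by
      intro y hy
      exact Subgroup.mem_subgroupOf.mpr (fam.le A hA (Subgroup.mem_subgroupOf.mp hy)))
    exact Subgroup.mem_subgroupOf.mp h1
  · rintro h _ ⟨A, hA, rfl⟩ _
    rw [Subgroup.mem_subgroupOf]
    exact h A hA (fam.le A hA)

/-- **the axiomatic Glauberman--Thompson criterion for groups with `C(O_p) ≤ O_p`** -/
theorem sylow_eq_top [Finite G] {p : ℕ} [hp : Fact p.Prime] (hp2 : p ≠ 2)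
    {𝒜 : Set (Subgroup G)} (S : Sylow p G) (fam : AxFam p (S : Subgroup G) 𝒜)
    (hc : Subgroup.centralizer (Cfsg.pCore p G : Set G) ≤ Cfsg.pCore p G)
    (hnp : HasNormalPComplement p
      ↥(Subgroup.normalizer ((Ifam 𝒜 (S : Subgroup G) : Subgroup G) : Set G))) :
    (S : Subgroup G) = ⊤ := by
  by_contra hne
  have hlt : (S : Subgroup G) < ⊤ := lt_top_iff_ne_top.mpr hne
  -- a minimal subgroup properly containing `S`
  obtain ⟨M, hSM, hmin⟩ := Set.exists_min_image {M : Subgroup G | (S : Subgroup G) < M}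
    (fun M => Nat.card M) (Set.toFinite _) ⟨⊤, hlt⟩
  have hSM' : (S : Subgroup G) < M := hSM
  have hle : (S : Subgroup G) ≤ M := hSM'.le
  -- the Sylow subgroup of `M`
  obtain ⟨T, hT⟩ : ∃ T : Sylow p ↥M, (T : Subgroup ↥M) = (S : Subgroup G).subgroupOf M :=
    ⟨S.subtype hle, Sylow.coe_subtype _ _⟩
  have hco : IsCoatom (T : Subgroup ↥M) := by
    constructor
    · intro h
      rw [hT] at h
      have : M ≤ (S : Subgroup G) := Subgroup.subgroupOf_eq_top.mp h
      exact absurd (le_antisymm hle this) hSM'.ne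
    · intro X hX
      rw [hT] at hX
      have h1 : (S : Subgroup G) < X.map M.subtype := by
        constructor
        · intro s hs
          have := hX.le (Subgroup.mem_subgroupOf.mpr (show ((⟨s, hle hs⟩ : ↥M) : G) ∈ _ from hs))
          exact ⟨⟨s, hle hs⟩, this, rfl⟩
        · intro h
          apply hX.not_ge
          intro x hx
          exact Subgroup.mem_subgroupOf.mpr (h ⟨x, hx, rfl⟩)
      have h2 := hmin _ h1
      have h3 : X.map M.subtype ≤ M := by
        rintro _ ⟨y, -, rfl⟩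
        exact y.2
      have h4 : X.map M.subtype = M := by
        apply Subgroup.eq_of_le_of_card_ge h3
        exact h2
      rw [eq_top_iff]
      intro y _
      have : (y : G) ∈ X.map M.subtype := by rw [h4]; exact y.2
      obtain ⟨z, hz, hzy⟩ := this
      have : z = y := Subtype.ext hzy
      rw [← this]; exact hz
  -- `C(O_p(M)) ≤ O_p(M)`
  have hcM : Subgroup.centralizer (Cfsg.pCore p ↥M : Set ↥M) ≤ Cfsg.pCore p ↥M := by
    have hQS : pCore p G ≤ S := Cfsg.Agent.Lib.Helper1.pCore_le_sylow p S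
    have hQn : ((pCore p G).subgroupOf M).Normal := by
      haveI := Cfsg.Agent.Lib.Helper1.pCore_normal (G := G) p
      infer_instance
    have hQp : IsPGroup p ((pCore p G).subgroupOf M) :=
      (Cfsg.Agent.Lib.Helper1.pCore_isPGroup (G := G) p).comap_subtype
    have hQle : (pCore p G).subgroupOf M ≤ pCore p ↥M :=
      Cfsg.Agent.Lib.Helper1.le_pCore hQn hQp
    intro y hy
    apply hQle
    rw [Subgroup.mem_subgroupOf]
    apply hc
    rw [Subgroup.mem_centralizer_iff]
    intro q hq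
    have hqM : q ∈ M := hle (hQS hq)
    have h1 := Subgroup.mem_centralizer_iff.mp hy ⟨q, hqM⟩
      (hQle (Subgroup.mem_subgroupOf.mpr hq))
    exact congrArg Subtype.val h1
  have famM := AxFam.subgroupOf fam M hle
  rw [← hT] at famM
  have hnorm := Ifam_normal_of_coatom hp2 T hco famM hcM
  -- hence `M` normalizes the intersection of the family
  have hMN : M ≤ Subgroup.normalizer ((Ifam 𝒜 (S : Subgroup G) : Subgroup G) : Set G) := by
    intro m hm
    apply mem_normalizer_of_conj_mem_of_finite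
    intro x hx
    have hxM : x ∈ M := hle (fam.Ifam_le hx)
    have h1 : (⟨x, hxM⟩ : ↥M) ∈ Ifam ((fun A : Subgroup G => A.subgroupOf M) '' 𝒜)
        (T : Subgroup ↥M) := by
      rw [hT]
      exact (Ifam_subgroupOf_top fam M hle _).mpr hx
    have h2 := hnorm.conj_mem _ h1 ⟨m, hm⟩
    rw [hT] at h2
    exact (Ifam_subgroupOf_top fam M hle _).mp h2
  -- so `M` has a normal `p`-complement
  have hnpM : HasNormalPComplement p ↥M := by
    have h1 := Cfsg.Agent.Lib.Helper1.hasNormalPComplement_subgroup hnp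
      (M.subgroupOf (Subgroup.normalizer ((Ifam 𝒜 (S : Subgroup G) : Subgroup G) : Set G)))
    exact Cfsg.Agent.Lib.Helper7.hasNormalPComplement_of_mulEquiv
      (Subgroup.subgroupOfEquivOfLe hMN) h1
  have h5 := sylow_eq_top_of_npc hcM hnpM T
  rw [hT] at h5
  have : M ≤ (S : Subgroup G) := Subgroup.subgroupOf_eq_top.mp h5
  exact absurd (le_antisymm hle this) hSM'.ne

end Cfsg.Agent.Lib.Helper3.FAx
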