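import Mathlib
import Cfsg.Agent.Lib.Helper3.FAx2

set_option autoImplicit false
set_option maxHeartbeats 1000000
set_option linter.style.haveILetI false
set_option linter.unusedSectionVars false
set_option linter.unusedVariables false

/-! Transport of the replacement axiom along injective homomorphisms. -/

namespace Cfsg.Agent.Lib.Helper3.FAx

open Cfsg
open scoped Pointwise commutatorElement

universe u v

/-- the replacement axiom for a family of subgroups -/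
def Rep {G : Type*} [Group G] (P : Subgroup G) (𝒜 : Set (Subgroup G)) : Prop :=
  ∀ B : Subgroup G, B ≤ P → ⁅⁅B, B⁆, B⁆ = ⊥ → (∃ A ∈ 𝒜, ⁅B, B⁆ ≤ A ∧ ¬ B ≤ A) →
    ∃ A ∈ 𝒜, ⁅B, B⁆ ≤ A ∧ ¬ B ≤ A ∧ B ≤ Subgroup.normalizer (A : Set G)

variable {H : Type u} {K : Type v} [Group H] [Group K]

theorem map_le_normalizer_map_iff (f : H →* K) (hf : Function.Injective f) (X Y : Subgroup H) :
    X.map f ≤ Subgroup.normalizer ((Y.map f : Subgroup K) : Set K) ↔
      X ≤ Subgroup.normalizer (Y : Set H) := by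
  constructor
  · intro h x hx
    have h1 := h ⟨x, hx, rfl⟩
    rw [Subgroup.mem_normalizer_iff]
    intro y
    have h2 := Subgroup.mem_normalizer_iff.mp h1 (f y)
    rw [Subgroup.mem_map_iff_mem hf] at h2
    have h3 : f x * f y * (f x)⁻¹ = f (x * y * x⁻¹) := by simp
    rw [h3, Subgroup.mem_map_iff_mem hf] at h2
    exact h2
  · rintro h _ ⟨x, hx, rfl⟩
    have h1 := h hx
    rw [Subgroup.mem_normalizer_iff]
    intro z
    constructor
    · rintro ⟨y, hy, rfl⟩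
      refine ⟨x * y * x⁻¹, (Subgroup.mem_normalizer_iff.mp h1 y).mp hy, by simp⟩
    · rintro ⟨y, hy, hyz⟩
      have h2 := (Subgroup.mem_normalizer_iff.mp h1 (x⁻¹ * y * x)).mpr (by
        have : x * (x⁻¹ * y * x) * x⁻¹ = y := by group
        rw [this]; exact hy)
      refine ⟨x⁻¹ * y * x, h2, ?_⟩
      rw [map_mul, map_mul, map_inv, hyz]
      group

theorem rep_aux (f : H →* K) (hf : Function.Injective f) (B A : Subgroup H) :
    (⁅⁅B.map f, B.map f⁆, B.map f⁆ = ⊥ ↔ ⁅⁅B, B⁆, B⁆ = ⊥) ∧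
    (⁅B.map f, B.map f⁆ ≤ A.map f ↔ ⁅B, B⁆ ≤ A) ∧
    (B.map f ≤ A.map f ↔ B ≤ A) := by
  refine ⟨?_, ?_, ?_⟩
  · rw [← Subgroup.map_commutator, ← Subgroup.map_commutator,
      (Subgroup.map_eq_bot_iff_of_injective _ hf)]
  · rw [← Subgroup.map_commutator]
    exact Subgroup.map_le_map_iff_of_injective hf
  · exact Subgroup.map_le_map_iff_of_injective hf

theorem Rep.push (f : H →* K) (hf : Function.Injective f) {P : Subgroup H}
    {𝒜 : Set (Subgroup H)} (h : Rep P 𝒜) :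
    Rep (P.map f) ((fun A : Subgroup H => A.map f) '' 𝒜) := by
  intro B' hB' hcl hex
  have hBr : B' ≤ f.range := hB'.trans (Subgroup.map_le_range f P)
  have hB'eq : (B'.comap f).map f = B' := Subgroup.map_comap_eq_self hBr
  rw [← hB'eq] at hB' hcl hex ⊢
  have hBP : B'.comap f ≤ P := (Subgroup.map_le_map_iff_of_injective hf).mp hB'
  have hcl' := (rep_aux f hf (B'.comap f) ⊥).1.mp hcl
  have hex' : ∃ A ∈ 𝒜, ⁅B'.comap f, B'.comap f⁆ ≤ A ∧ ¬ B'.comap f ≤ A := by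
    obtain ⟨_, ⟨A, hA, rfl⟩, h1, h2⟩ := hex
    exact ⟨A, hA, (rep_aux f hf _ A).2.1.mp h1, fun h3 => h2 ((rep_aux f hf _ A).2.2.mpr h3)⟩
  obtain ⟨A, hA, h1, h2, h3⟩ := h _ hBP hcl' hex'
  exact ⟨A.map f, ⟨A, hA, rfl⟩, (rep_aux f hf _ A).2.1.mpr h1,
    fun h4 => h2 ((rep_aux f hf _ A).2.2.mp h4), (map_le_normalizer_map_iff f hf _ A).mpr h3⟩

theorem Rep.pull (f : H →* K) (hf : Function.Injective f) {P : Subgroup H}
    {𝒜 : Set (Subgroup H)} (h : Rep (P.map f) ((fun A : Subgroup H => A.map f) '' 𝒜)) :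
    Rep P 𝒜 := by
  intro B hB hcl hex
  have hB' : B.map f ≤ P.map f := Subgroup.map_mono hB
  have hcl' := (rep_aux f hf B ⊥).1.mpr hcl
  have hex' : ∃ A' ∈ (fun A : Subgroup H => A.map f) '' 𝒜,
      ⁅B.map f, B.map f⁆ ≤ A' ∧ ¬ B.map f ≤ A' := by
    obtain ⟨A, hA, h1, h2⟩ := hex
    exact ⟨A.map f, ⟨A, hA, rfl⟩, (rep_aux f hf B A).2.1.mpr h1,
      fun h3 => h2 ((rep_aux f hf B A).2.2.mp h3)⟩
  obtain ⟨_, ⟨A, hA, rfl⟩, h1, h2, h3⟩ := h _ hB' hcl' hex'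
  exact ⟨A, hA, (rep_aux f hf B A).2.1.mp h1, fun h4 => h2 ((rep_aux f hf B A).2.2.mpr h4),
    (map_le_normalizer_map_iff f hf B A).mp h3⟩

end Cfsg.Agent.Lib.Helper3.FAx
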