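import Mathlib
import Cfsg.Agent.Lib.Helper3.FAx3
import Cfsg.Agent.Lib.Helper1.TH2

set_option autoImplicit false
set_option maxHeartbeats 1000000
set_option linter.style.haveILetI false
set_option linter.unusedSectionVars false
set_option linter.unusedVariables false

/-! The family of abelian subgroups, transported to a group realizing a fusion system. -/

namespace Cfsg.Agent.Lib.Helper3.FAx

open Cfsg Cfsg.FusionSystem Cfsg.Agent.Lib.Helper9 Cfsg.Agent.Lib.Helper1.KN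
  Cfsg.Agent.Lib.Helper1.KL Cfsg.Agent.Lib.Helper1.TH Cfsg.Agent.Lib.Helper1.GlaubermanRepl
open scoped Pointwise commutatorElement

universe u

variable {Ω : Type u} [Group Ω] {T : Subgroup Ω} {L : Type u} [Group L]

/-- the image in `L` of a subgroup of `T` -/
def im (ι : ↥T →* L) (A : Subgroup Ω) : Subgroup L := (A.subgroupOf T).map ι

/-- the subgroup of `T` corresponding to a subgroup of `L` -/
def pb (ι : ↥T →* L) (Q' : Subgroup L) : Subgroup Ω := (Q'.comap ι).map T.subtype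

theorem pb_le (ι : ↥T →* L) (Q' : Subgroup L) : pb ι Q' ≤ T := by
  rintro _ ⟨y, -, rfl⟩
  exact y.2

theorem mem_pb (ι : ↥T →* L) (Q' : Subgroup L) (x : ↥T) : (x : Ω) ∈ pb ι Q' ↔ ι x ∈ Q' := by
  constructor
  · rintro ⟨y, hy, hyx⟩
    have : y = x := Subtype.ext hyx
    rw [← this]; exact hy
  · intro h
    exact ⟨x, h, rfl⟩

theorem mem_im (ι : ↥T →* L) (hinj : Function.Injective ι) (A : Subgroup Ω) (x : ↥T) :
    ι x ∈ im ι A ↔ (x : Ω) ∈ A := by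
  unfold im
  rw [Subgroup.mem_map_iff_mem hinj, Subgroup.mem_subgroupOf]

theorem im_le_range (ι : ↥T →* L) (A : Subgroup Ω) : im ι A ≤ ι.range := by
  rintro _ ⟨y, -, rfl⟩
  exact ⟨y, rfl⟩

theorem im_le_iff (ι : ↥T →* L) (hinj : Function.Injective ι) {A : Subgroup Ω} (hA : A ≤ T)
    (Q' : Subgroup L) : im ι A ≤ Q' ↔ A ≤ pb ι Q' := by
  constructor
  · intro h a ha
    have h1 : ι ⟨a, hA ha⟩ ∈ Q' := h ((mem_im ι hinj A ⟨a, hA ha⟩).mpr ha)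
    exact (mem_pb ι Q' ⟨a, hA ha⟩).mpr h1
  · rintro h _ ⟨y, hy, rfl⟩
    exact (mem_pb ι Q' y).mp (h (Subgroup.mem_subgroupOf.mp hy))

/-- membership in the intersection of the transported family -/
theorem mem_Ifam_im (ι : ↥T →* L) (hinj : Function.Injective ι) {𝒜 : Set (Subgroup Ω)}
    (h𝒜 : ∀ A ∈ 𝒜, A ≤ T) (Q' : Subgroup L) (x : ↥T) :
    ι x ∈ Ifam ((fun A : Subgroup Ω => im ι A) '' 𝒜) Q' ↔ (x : Ω) ∈ Ifam 𝒜 (pb ι Q') := by
  rw [mem_Ifam, mem_Ifam]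
  constructor
  · intro h A hA hAQ
    have h1 := h (im ι A) ⟨A, hA, rfl⟩ ((im_le_iff ι hinj (h𝒜 A hA) Q').mpr hAQ)
    exact (mem_im ι hinj A x).mp h1
  · rintro h _ ⟨A, hA, rfl⟩ hAQ
    exact (mem_im ι hinj A x).mpr (h A hA ((im_le_iff ι hinj (h𝒜 A hA) Q').mp hAQ))

/-- the transported family satisfies the axioms -/
theorem axFam_of_realized [Finite T] [Finite L] {p : ℕ} [Fact p.Prime] (E : FusionSystem T)
    (ι : ↥T →* L) (hreal : E.IsRealizedBy ι) (Sy : Sylow p L)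
    (hSy : (Sy : Subgroup L) = ι.range) (𝒜 : Set (Subgroup Ω))
    (h𝒜 : ∀ A ∈ 𝒜, A ≤ T ∧ IsMulCommutative ↥A) (hne : 𝒜.Nonempty)
    (hinvE : ∀ Q : Subgroup Ω, Q ≤ T → (∃ A ∈ 𝒜, A ≤ Q) → ∀ φ ∈ E.Hom Q, (∀ x : Q, φ x ∈ Q) →
      ∀ x : Q, (x : Ω) ∈ Ifam 𝒜 Q → φ x ∈ Ifam 𝒜 Q)
    (hrep : Rep T 𝒜) :
    AxFam p (Sy : Subgroup L) ((fun A : Subgroup Ω => im ι A) '' 𝒜) := by
  have hinj := hreal.1
  refine ⟨?_, ?_, ?_, ?_, ?_⟩
  · rintro _ ⟨A, hA, rfl⟩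
    rw [hSy]; exact im_le_range ι A
  · rintro _ ⟨A, hA, rfl⟩ _ ⟨x, hx, rfl⟩ _ ⟨y, hy, rfl⟩
    have hc := (h𝒜 A hA).2
    have h1 : (⟨(x : Ω), Subgroup.mem_subgroupOf.mp hx⟩ : ↥A) * ⟨(y : Ω), Subgroup.mem_subgroupOf.mp hy⟩ =
        ⟨(y : Ω), Subgroup.mem_subgroupOf.mp hy⟩ * ⟨(x : Ω), Subgroup.mem_subgroupOf.mp hx⟩ :=
      hc.is_comm.comm _ _
    have h2 : (x : Ω) * (y : Ω) = (y : Ω) * (x : Ω) := congrArg Subtype.val h1
    have h3 : x * y = y * x := Subtype.ext h2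
    rw [← map_mul, ← map_mul, h3]
  · obtain ⟨A, hA⟩ := hne
    exact ⟨_, ⟨A, hA, rfl⟩⟩
  · rintro Q' hQ' ⟨_, ⟨A, hA, rfl⟩, hAQ⟩ g hg
    have hQT : pb ι Q' ≤ T := pb_le ι Q'
    have hAQ' : A ≤ pb ι Q' := (im_le_iff ι hinj (h𝒜 A hA).1 Q').mp hAQ
    have hgQ : ∀ x : ↥(pb ι Q'), g * ι ⟨x, hQT x.2⟩ * g⁻¹ ∈ Q' := by
      intro x
      exact (Subgroup.mem_normalizer_iff.mp hg _).mp ((mem_pb ι Q' ⟨x, hQT x.2⟩).mp x.2)
    have hgr : ∀ x : ↥(pb ι Q'), g * ι ⟨x, hQT x.2⟩ * g⁻¹ ∈ ι.range := by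
      intro x
      rw [← hSy]; exact hQ' (hgQ x)
    obtain ⟨φ, hφT, hφι⟩ := exists_pull_conj ι hinj hQT g hgr
    have hφE : φ ∈ E.Hom (pb ι Q') := (hreal.2 _ hQT φ hφT).mpr ⟨g, hφι⟩
    have hφQ : ∀ x : ↥(pb ι Q'), φ x ∈ pb ι Q' := by
      intro x
      apply (mem_pb ι Q' ⟨φ x, hφT x⟩).mpr
      rw [hφι x]
      exact hgQ x
    have hkey := hinvE _ hQT ⟨A, hA, hAQ'⟩ φ hφE hφQ
    apply mem_normalizer_of_conj_mem_of_finite
    intro y hy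
    have hyA : y ∈ im ι A := mem_Ifam.mp hy (im ι A) ⟨A, hA, rfl⟩ hAQ
    obtain ⟨x, hx, rfl⟩ := hyA
    have hxI : (x : Ω) ∈ Ifam 𝒜 (pb ι Q') := (mem_Ifam_im ι hinj (fun A hA => (h𝒜 A hA).1) Q' x).mp hy
    have hxQ : (x : Ω) ∈ pb ι Q' := hAQ' (Subgroup.mem_subgroupOf.mp hx)
    have h1 := hkey ⟨x, hxQ⟩ hxI
    have h2 := hφι ⟨x, hxQ⟩
    have h3 : (⟨((⟨(x : Ω), hxQ⟩ : ↥(pb ι Q')) : Ω), hQT hxQ⟩ : ↥T) = x := Subtype.ext rfl
    rw [h3] at h2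
    rw [← h2]
    exact (mem_Ifam_im ι hinj (fun A hA => (h𝒜 A hA).1) Q' ⟨φ ⟨x, hxQ⟩, hφT _⟩).mpr h1
  · -- replacement
    have h1 : Rep (⊤ : Subgroup ↥T) ((fun A : Subgroup Ω => A.subgroupOf T) '' 𝒜) := by
      apply Rep.pull T.subtype T.subtype_injective
      have e1 : (⊤ : Subgroup ↥T).map T.subtype = T := by
        rw [← MonoidHom.range_eq_map, Subgroup.range_subtype]
      have e2 : (fun A : Subgroup ↥T => A.map T.subtype) ''
          ((fun A : Subgroup Ω => A.subgroupOf T) '' 𝒜) = 𝒜 := by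
        rw [Set.image_image]
        ext A
        constructor
        · rintro ⟨A', hA', rfl⟩
          show (A'.subgroupOf T).map T.subtype ∈ 𝒜
          rw [Subgroup.map_subgroupOf_eq_of_le (h𝒜 A' hA').1]
          exact hA'
        · intro hA
          refine ⟨A, hA, ?_⟩
          show (A.subgroupOf T).map T.subtype = A
          exact Subgroup.map_subgroupOf_eq_of_le (h𝒜 A hA).1
      rw [e1, e2]
      exact hrep
    have h2 := Rep.push ι hinj h1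
    have e3 : (⊤ : Subgroup ↥T).map ι = (Sy : Subgroup L) := by
      rw [hSy, MonoidHom.range_eq_map]
    have e4 : (fun A : Subgroup ↥T => A.map ι) '' ((fun A : Subgroup Ω => A.subgroupOf T) '' 𝒜) =
        (fun A : Subgroup Ω => im ι A) '' 𝒜 := by
      rw [Set.image_image]
      rfl
    rw [e3, e4] at h2
    exact h2

end Cfsg.Agent.Lib.Helper3.FAx
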