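import Mathlib
import Cfsg.Agent.Lib.Helper3.FAx4
import Cfsg.Agent.S5090

set_option autoImplicit false
set_option maxHeartbeats 1000000
set_option linter.style.haveILetI false
set_option linter.unusedSectionVars false
set_option linter.unusedVariables false

/-! The axiomatic Glauberman--Thompson criterion for fusion systems. -/

namespace Cfsg.Agent.Lib.Helper3.FAx

open Cfsg Cfsg.FusionSystem Cfsg.Agent.Lib.Helper9 Cfsg.Agent.Lib.Helper1.KN
  Cfsg.Agent.Lib.Helper1.KL Cfsg.Agent.Lib.Helper1.TH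
open scoped Pointwise commutatorElement

universe u

variable {Ω : Type u} [Group Ω]

theorem Ifam_eq_iInf {S : Subgroup Ω} {𝒜 : Set (Subgroup Ω)} (h : ∀ A ∈ 𝒜, A ≤ S) :
    Ifam 𝒜 S = ⨅ A ∈ 𝒜, A := by
  ext x
  rw [mem_Ifam]
  simp only [Subgroup.mem_iInf]
  constructor
  · intro hx A hA
    exact hx A hA (h A hA)
  · intro hx A hA _
    exact hx A hA

/-- the automorphism of `Q` given by a map of the system from `Q` into `Q` -/
theorem exists_aut_of_hom {S : Subgroup Ω} [Finite S] (F : FusionSystem S) {Q : Subgroup Ω}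
    (hQS : Q ≤ S) (φ : Q →* Ω) (hφ : φ ∈ F.Hom Q) (hφQ : ∀ x : Q, φ x ∈ Q) :
    ∃ α ∈ F.autGroup Q, ∀ x : Q, ((α x : Q) : Ω) = φ x := by
  haveI : Finite Q := finite_of_le hQS
  have hinj := F.injective_of_mem hφ
  have hfinj : Function.Injective (φ.codRestrict Q hφQ) := by
    intro a b hab
    apply hinj
    have := congrArg Subtype.val hab
    simpa using this
  have hfbij : Function.Bijective (φ.codRestrict Q hφQ) :=
    Finite.injective_iff_bijective.mp hfinj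
  have hα : Q.subtype.comp (MulEquiv.ofBijective (φ.codRestrict Q hφQ) hfbij).toMonoidHom = φ := by
    ext x
    rfl
  refine ⟨MulEquiv.ofBijective (φ.codRestrict Q hφQ) hfbij, ?_, fun x => rfl⟩
  rw [mem_autGroup_iff F hQS, hα]
  exact hφ

/-- **main theorem**: if the normalizer system of the intersection of the family is inner, so is
the system -/
theorem inner_of_axiomatic {S : Subgroup Ω} [Finite S] (p : ℕ) [Fact p.Prime]
    (hS : IsPGroup p S) (F : FusionSystem S) (hF : F.IsSaturated p) (hp : p ≠ 2)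
    (𝒜 : Set (Subgroup Ω)) (h𝒜 : ∀ A ∈ 𝒜, A ≤ S ∧ IsMulCommutative ↥A) (hne : 𝒜.Nonempty)
    (hinv : ∀ Q : Subgroup Ω, Q ≤ S → (∃ A ∈ 𝒜, A ≤ Q) → ∀ α ∈ F.autGroup Q, ∀ x : Q,
      (x : Ω) ∈ Ifam 𝒜 Q → (((α : MulAut Q) x : Q) : Ω) ∈ Ifam 𝒜 Q)
    (hrep : Rep S 𝒜)
    (hN : ∀ (P : Subgroup Ω) (φ : P →* Ω), φ ∈ F.normalizerHom (Ifam 𝒜 S) P →
      ∃ t ∈ S, ∀ x : P, φ x = t * x * t⁻¹) : InnerOn F := by
  by_contra hni
  obtain ⟨R, E, hNS, hE, hEsat, hEni, hEcon, -⟩ :=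
    reduction_th hS F hF (Or.inl hp) (thompson_all _) hni
  haveI : Finite ↥(normalizerIn S R) := finite_of_le (normalizerIn_le S R)
  have hTp : IsPGroup p ↥(normalizerIn S R) := hS.to_le (normalizerIn_le S R)
  obtain ⟨L, _, ι, hL⟩ := Cfsg.Agent.S5090.result p hTp E hEcon
  have hL' := hL
  obtain ⟨hfin, hreal, ⟨Sy, hSy⟩, hcent⟩ := hL'
  haveI := hfin
  have hinj := hreal.1
  have hEF : ∀ P : Subgroup Ω, E.Hom P ⊆ F.Hom P := by
    intro P φ hφ
    rw [hE P] at hφ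
    exact hφ.1
  have h𝒜T : ∀ A ∈ 𝒜, A ≤ normalizerIn S R ∧ IsMulCommutative ↥A := by
    rw [hNS]; exact h𝒜
  have hrepT : Rep (normalizerIn S R) 𝒜 := by
    rw [hNS]; exact hrep
  have hN' : ∀ (P : Subgroup Ω) (φ : P →* Ω),
      φ ∈ F.normalizerHom (Ifam 𝒜 (normalizerIn S R)) P →
      ∃ t ∈ normalizerIn S R, ∀ x : P, φ x = t * x * t⁻¹ := by
    rw [hNS]; exact hN
  have hinvE : ∀ Q : Subgroup Ω, Q ≤ normalizerIn S R → (∃ A ∈ 𝒜, A ≤ Q) → ∀ φ ∈ E.Hom Q,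
      (∀ x : Q, φ x ∈ Q) → ∀ x : Q, (x : Ω) ∈ Ifam 𝒜 Q → φ x ∈ Ifam 𝒜 Q := by
    intro Q hQT hex φ hφ hφQ x hx
    have hQS : Q ≤ S := hQT.trans (normalizerIn_le S R)
    obtain ⟨α, hα, hαφ⟩ := exists_aut_of_hom F hQS φ (hEF Q hφ) hφQ
    rw [← hαφ x]
    exact hinv Q hQS hex α hα x hx
  have famL := axFam_of_realized E ι hreal Sy hSy 𝒜 h𝒜T hne hinvE hrepT
  -- the Sylow subgroup normalizes the intersection
  obtain ⟨A₀, hA₀⟩ := hne
  have hSyN : (Sy : Subgroup L) ≤ Subgroup.normalizer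
      ((Ifam ((fun A : Subgroup Ω => im ι A) '' 𝒜) (Sy : Subgroup L) : Subgroup L) : Set L) := by
    intro y hy
    exact famL.inv _ le_rfl ⟨_, ⟨A₀, hA₀, rfl⟩, famL.le _ ⟨A₀, hA₀, rfl⟩⟩ (Subgroup.le_normalizer hy)
  have hpb : pb ι (Sy : Subgroup L) = normalizerIn S R := by
    apply le_antisymm (pb_le ι _)
    intro x hx
    apply (mem_pb ι _ ⟨x, hx⟩).mpr
    rw [hSy]; exact ⟨_, rfl⟩
  have hmemI : ∀ x : ↥(normalizerIn S R),
      ι x ∈ Ifam ((fun A : Subgroup Ω => im ι A) '' 𝒜) (Sy : Subgroup L) ↔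
        (x : Ω) ∈ Ifam 𝒜 (normalizerIn S R) := by
    intro x
    rw [mem_Ifam_im ι hinj (fun A hA => (h𝒜T A hA).1), hpb]
  have hIT : Ifam 𝒜 (normalizerIn S R) ≤ normalizerIn S R := by
    intro x hx
    exact (h𝒜T A₀ hA₀).1 (mem_Ifam.mp hx A₀ hA₀ (h𝒜T A₀ hA₀).1)
  haveI : Finite ↥(Ifam 𝒜 (normalizerIn S R)) := finite_of_le hIT
  -- `S` normalizes the intersection
  have hconjI : ∀ s ∈ normalizerIn S R, ∀ x ∈ Ifam 𝒜 (normalizerIn S R),
      s * x * s⁻¹ ∈ Ifam 𝒜 (normalizerIn S R) := by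
    intro s hs x hx
    have h1 : ι ⟨s, hs⟩ ∈ (Sy : Subgroup L) := by rw [hSy]; exact ⟨_, rfl⟩
    have h2 := (Subgroup.mem_normalizer_iff.mp (hSyN h1) _).mp ((hmemI ⟨x, hIT hx⟩).mpr hx)
    have h3 : ι ⟨s, hs⟩ * ι ⟨x, hIT hx⟩ * (ι ⟨s, hs⟩)⁻¹ =
        ι ⟨s * x * s⁻¹, Subgroup.mul_mem _ (Subgroup.mul_mem _ hs (hIT hx)) (Subgroup.inv_mem _ hs)⟩ := by
      rw [← map_inv, ← map_mul, ← map_mul]
      rfl
    rw [h3] at h2
    exact (hmemI _).mp h2
  have hTNI : ∀ s ∈ normalizerIn S R, s ∈ normalizerIn S (Ifam 𝒜 (normalizerIn S R)) := by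
    intro s hs
    refine ⟨normalizerIn_le S R hs, ?_⟩
    show s ∈ Subgroup.normalizer ((Ifam 𝒜 (normalizerIn S R) : Subgroup Ω) : Set Ω)
    rw [Subgroup.mem_normalizer_iff]
    intro x
    constructor
    · exact hconjI s hs x
    · intro hx
      have h1 := hconjI s⁻¹ (Subgroup.inv_mem _ hs) _ hx
      have h2 : s⁻¹ * (s * x * s⁻¹) * s⁻¹⁻¹ = x := by group
      rw [h2] at h1
      exact h1
  have hnpL : HasNormalPComplement p ↥(Subgroup.normalizer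
      ((Ifam ((fun A : Subgroup Ω => im ι A) '' 𝒜) (Sy : Subgroup L) : Subgroup L) : Set L)) := by
    apply npc_of_hom E ι hreal Sy hSy _ hSyN
    intro g hg Q₀ hQ₀T φ hφT hφE hφι hQ₀mem
    have hIQ₀ : Ifam 𝒜 (normalizerIn S R) ≤ Q₀ := by
      intro w hw
      apply hQ₀mem w (hIT hw)
      have h1 := (hmemI ⟨w, hIT hw⟩).mpr hw
      have h2 := (Subgroup.mem_normalizer_iff.mp hg _).mp h1
      have h3 := famL.Ifam_le h2
      rw [hSy] at h3
      exact h3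
    have hφI : ∀ z : Q₀, (z : Ω) ∈ Ifam 𝒜 (normalizerIn S R) →
        φ z ∈ Ifam 𝒜 (normalizerIn S R) := by
      intro z hz
      apply (hmemI ⟨φ z, hφT z⟩).mp
      have h2 := (hmemI ⟨z, hQ₀T z.2⟩).mpr hz
      have h3 := (Subgroup.mem_normalizer_iff.mp hg _).mp h2
      rw [hφι z]
      exact h3
    have hφF : φ ∈ F.Hom Q₀ := hEF Q₀ hφE
    have hle : Q₀ ⊔ Ifam 𝒜 (normalizerIn S R) ≤ Q₀ := _root_.sup_le le_rfl hIQ₀
    have hmem : φ ∈ F.normalizerHom (Ifam 𝒜 (normalizerIn S R)) Q₀ := by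
      refine ⟨hφF, fun z hz => hTNI z (hQ₀T hz), fun z => hTNI _ (hφT z),
        φ.comp (Subgroup.inclusion hle), restrict_mem F hφF hle, fun z => rfl, ?_⟩
      rw [map_subgroupOf_comp_inclusion_eq hle _ le_sup_right]
      exact map_eq_of_forall_mem φ (F.injective_of_mem hφF) hIQ₀ hφI
    exact hN' Q₀ φ hmem
  have hSytop := sylow_eq_top hp Sy famL hcent hnpL
  have hLp : IsPGroup p L := by
    intro g
    obtain ⟨k, hk⟩ := Sy.isPGroup' ⟨g, by rw [hSytop]; exact Subgroup.mem_top g⟩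
    refine ⟨k, ?_⟩
    have := congrArg Subtype.val hk
    simpa using this
  have hnpc : HasNormalPComplement p L :=
    Cfsg.Agent.Lib.Helper8.NilMax.hasNormalPComplement_of_isNilpotent hLp.isNilpotent p
  exact hEni (innerOn_of_complement E ι hL hnpc)

end Cfsg.Agent.Lib.Helper3.FAx
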