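import Mathlib
import Cfsg.Agent.Lib.Helper3.FHT5
import Cfsg.Prelude.Def_OddOrder
import Cfsg.Prelude.Def_CaseTheorems

set_option autoImplicit false

namespace Cfsg.Agent.Lib.Helper3.FHT

open Cfsg

/-- There is no minimal simple CN-group of odd order. -/
theorem false_of_minSimple_CN {G : Type*} [Group G] [Finite G] (hG : IsMinSimpleOddOrder G)
    (hCN : IsCNGroup G) : False := by
  obtain ⟨hodd, hsimp, hnc, -⟩ := hG
  haveI := hsimp
  have hs : Group.IsSolvable G := main _ G rfl hodd hCN
  apply hnc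
  exact ⟨⟨fun a b => (IsSimpleGroup.comm_iff_isSolvable.mpr hs) a b⟩⟩

end Cfsg.Agent.Lib.Helper3.FHT
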