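import Mathlib
import Cfsg.Agent.Lib.Helper7.FPF0
import Cfsg.Agent.Lib.Helper4.SL2Sylow

set_option autoImplicit false

/-! # S2863, unit U-SL2 (part a): matrix computations in `SL₂(F)` -/

namespace Cfsg.Agent.Lib.Helper3.FPFSL2

open Matrix Cfsg.Agent.Lib.Helper4 Cfsg.Agent.Lib.Helper7.FPF

variable {F : Type*} [Field F]

/-- an element normalizing a conjugate `U^k` of the upper unitriangular group has, after
conjugation by `k`, lower left entry zero -/
theorem entry_zero_of_mem_normalizer (g k : Matrix.SpecialLinearGroup (Fin 2) F)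
    (h : g ∈ Subgroup.normalizer
      (((unipSL F).map (MulAut.conj k).toMonoidHom : Subgroup (Matrix.SpecialLinearGroup (Fin 2) F)) :
        Set (Matrix.SpecialLinearGroup (Fin 2) F))) :
    (k⁻¹ * g * k) 1 0 = 0 := by
  rw [Subgroup.mem_normalizer_iff] at h
  have h1 : k * upperU 1 * k⁻¹ ∈ (unipSL F).map (MulAut.conj k).toMonoidHom :=
    ⟨upperU 1, (mem_unipSL_iff _).mpr ⟨1, rfl⟩, by simp [MulAut.conj_apply]⟩
  obtain ⟨y, hy, hy2⟩ := (h _).mp h1
  obtain ⟨b, rfl⟩ := (mem_unipSL_iff _).mp hy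
  have hy3 : k * upperU b * k⁻¹ = g * (k * upperU 1 * k⁻¹) * g⁻¹ := by
    simpa [MulAut.conj_apply] using hy2
  have h2 : (k⁻¹ * g * k) * upperU 1 = upperU b * (k⁻¹ * g * k) := by
    have : upperU b = k⁻¹ * (g * (k * upperU 1 * k⁻¹) * g⁻¹) * k := by
      rw [← hy3]; group
    rw [this]; group
  set m := k⁻¹ * g * k with hm
  have h3 := congrArg (fun z : Matrix.SpecialLinearGroup (Fin 2) F => z 1 1) h2
  simp only [Matrix.SpecialLinearGroup.coe_mul, upperU_coe, Matrix.mul_apply, Fin.sum_univ_two,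
    Matrix.of_apply, Matrix.cons_val', Matrix.cons_val_zero, Matrix.cons_val_one,
    Matrix.cons_val_fin_one] at h3
  linear_combination h3

/-- the decomposition property, in matrix form -/
def Good (x : Matrix.SpecialLinearGroup (Fin 2) F) : Prop :=
  ∃ a b y1 y2 : Matrix.SpecialLinearGroup (Fin 2) F, y1 ∈ unipSL F ∧ y2 ∈ unipSL F ∧
    x = (a * y1 * a⁻¹) * (b * y2 * b⁻¹) ∧ (b⁻¹ * (a * y1 * a⁻¹) * b) 1 0 ≠ 0 ∧
    (a⁻¹ * (b * y2 * b⁻¹) * a) 1 0 ≠ 0

theorem Good.conj {x : Matrix.SpecialLinearGroup (Fin 2) F} (P : Matrix.SpecialLinearGroup (Fin 2) F)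
    (h : Good (P⁻¹ * x * P)) : Good x := by
  obtain ⟨a, b, y1, y2, hy1, hy2, heq, h1, h2⟩ := h
  refine ⟨P * a, P * b, y1, y2, hy1, hy2, ?_, ?_, ?_⟩
  · have : x = P * (P⁻¹ * x * P) * P⁻¹ := by group
    rw [this, heq]; group
  · have e : (P * b)⁻¹ * (P * a * y1 * (P * a)⁻¹) * (P * b) = b⁻¹ * (a * y1 * a⁻¹) * b := by group
    rw [e]; exact h1
  · have e : (P * a)⁻¹ * (P * b * y2 * (P * b)⁻¹) * (P * a) = a⁻¹ * (b * y2 * b⁻¹) * a := by group
    rw [e]; exact h2

theorem Good.spec {x : Matrix.SpecialLinearGroup (Fin 2) F} (h : Good x) :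
    ∃ a b y1 y2 : Matrix.SpecialLinearGroup (Fin 2) F, y1 ∈ unipSL F ∧ y2 ∈ unipSL F ∧
      x = (a * y1 * a⁻¹) * (b * y2 * b⁻¹) ∧
      a * y1 * a⁻¹ ∉ Subgroup.normalizer
        (((unipSL F).map (MulAut.conj b).toMonoidHom : Subgroup (Matrix.SpecialLinearGroup (Fin 2) F)) :
          Set (Matrix.SpecialLinearGroup (Fin 2) F)) ∧
      b * y2 * b⁻¹ ∉ Subgroup.normalizer
        (((unipSL F).map (MulAut.conj a).toMonoidHom : Subgroup (Matrix.SpecialLinearGroup (Fin 2) F)) :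
          Set (Matrix.SpecialLinearGroup (Fin 2) F)) := by
  obtain ⟨a, b, y1, y2, hy1, hy2, heq, h1, h2⟩ := h
  exact ⟨a, b, y1, y2, hy1, hy2, heq, fun hm => h1 (entry_zero_of_mem_normalizer _ _ hm),
    fun hm => h2 (entry_zero_of_mem_normalizer _ _ hm)⟩

/-- the matrix `h = [[δ-1, 1/γ], [-γ, 0]]` -/
def hMat (γ δ : F) (hγ : γ ≠ 0) : Matrix.SpecialLinearGroup (Fin 2) F :=
  ⟨!![δ - 1, 1 / γ; -γ, 0], by rw [Matrix.det_fin_two_of]; field_simp; ring⟩

theorem hMat_coe (γ δ : F) (hγ : γ ≠ 0) :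
    (hMat γ δ hγ : Matrix (Fin 2) (Fin 2) F) = !![δ - 1, 1 / γ; -γ, 0] := rfl

/-- core case: lower left entry nonzero and trace `≠ 2` -/
theorem good_of_entry_ne_zero (x : Matrix.SpecialLinearGroup (Fin 2) F) (hc : x 1 0 ≠ 0)
    (htr : x 0 0 + x 1 1 ≠ 2) : Good x := by
  have hdet := sl2_det x
  set α := x 0 0 with hα
  set β := x 0 1 with hβ
  set γ := x 1 0 with hγ
  set δ := x 1 1 with hδ
  have hρ : 2 - α - δ ≠ 0 := fun h => htr (by linear_combination -h)
  refine ⟨1, hMat γ δ hc, upperU (-(2 - α - δ) / γ), upperU (-1 / γ),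
    (mem_unipSL_iff _).mpr ⟨_, rfl⟩, (mem_unipSL_iff _).mpr ⟨_, rfl⟩, ?_, ?_, ?_⟩
  · rw [one_mul, inv_one, mul_one, ← mul_assoc, eq_mul_inv_iff_mul_eq, sl2_ext_iff]
    simp only [Matrix.SpecialLinearGroup.coe_mul, upperU_coe, hMat_coe, Matrix.mul_apply,
      Fin.sum_univ_two, Matrix.of_apply, Matrix.cons_val', Matrix.cons_val_zero, Matrix.cons_val_one,
      Matrix.cons_val_fin_one]
    rw [← hα, ← hβ, ← hγ, ← hδ]
    refine ⟨?_, ?_, ?_, ?_⟩
    · field_simp
      linear_combination γ * hdet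
    · field_simp
      ring
    · field_simp
      ring
    · field_simp
      ring
  · simp only [one_mul, inv_one, mul_one, Matrix.SpecialLinearGroup.coe_mul,
      Matrix.SpecialLinearGroup.coe_inv, Matrix.adjugate_fin_two, upperU_coe, hMat_coe,
      Matrix.mul_apply, Fin.sum_univ_two, Matrix.of_apply, Matrix.cons_val', Matrix.cons_val_zero,
      Matrix.cons_val_one, Matrix.cons_val_fin_one]
    field_simp
    intro h
    apply hρ
    have hγ2 : γ ^ 2 ≠ 0 := pow_ne_zero 2 hc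
    apply mul_left_cancel₀ hγ2
    linear_combination γ * h
  · simp only [one_mul, inv_one, mul_one, Matrix.SpecialLinearGroup.coe_mul,
      Matrix.SpecialLinearGroup.coe_inv, Matrix.adjugate_fin_two, upperU_coe, hMat_coe,
      Matrix.mul_apply, Fin.sum_univ_two, Matrix.of_apply, Matrix.cons_val', Matrix.cons_val_zero,
      Matrix.cons_val_one, Matrix.cons_val_fin_one]
    field_simp
    intro h
    apply hc
    linear_combination h

end Cfsg.Agent.Lib.Helper3.FPFSL2
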