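import Mathlib
import Cfsg.Agent.Lib.Helper3.FPFSL2a
import Cfsg.Agent.Lib.Helper7.FL2

set_option autoImplicit false

/-! # S2863, unit U-SL2 (part b): `XProp p Y` for a Sylow `p`-subgroup `Y` of `SL₂(F)` -/

namespace Cfsg.Agent.Lib.Helper3.FPFSL2

open Matrix Cfsg.Agent.Lib.Helper4 Cfsg.Agent.Lib.Helper7.FPF

variable {F : Type*} [Field F]

/-- the Weyl element `[[0,-1],[1,0]]` -/
def wMat (F : Type*) [Field F] : Matrix.SpecialLinearGroup (Fin 2) F :=
  ⟨!![0, -1; 1, 0], by simp [Matrix.det_fin_two_of]⟩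

theorem wMat_coe : (wMat F : Matrix (Fin 2) (Fin 2) F) = !![0, -1; 1, 0] := rfl

theorem conj_wMat_entries (x : Matrix.SpecialLinearGroup (Fin 2) F) :
    ((wMat F)⁻¹ * x * wMat F) 1 0 = - x 0 1 ∧ ((wMat F)⁻¹ * x * wMat F) 0 0 = x 1 1 ∧
      ((wMat F)⁻¹ * x * wMat F) 1 1 = x 0 0 := by
  simp only [Matrix.SpecialLinearGroup.coe_mul, Matrix.SpecialLinearGroup.coe_inv,
    Matrix.adjugate_fin_two, wMat_coe, Matrix.mul_apply, Fin.sum_univ_two, Matrix.of_apply,
    Matrix.cons_val', Matrix.cons_val_zero, Matrix.cons_val_one, Matrix.cons_val_fin_one]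
  refine ⟨by ring, by ring, by ring⟩

theorem conj_lowerL_entries (x : Matrix.SpecialLinearGroup (Fin 2) F) (h01 : x 0 1 = 0)
    (h10 : x 1 0 = 0) :
    ((lowerL (1 : F))⁻¹ * x * lowerL (1 : F) : Matrix.SpecialLinearGroup (Fin 2) F) 1 0 =
        x 1 1 - x 0 0 ∧
      ((lowerL (1 : F))⁻¹ * x * lowerL (1 : F) : Matrix.SpecialLinearGroup (Fin 2) F) 0 0 = x 0 0 ∧
      ((lowerL (1 : F))⁻¹ * x * lowerL (1 : F) : Matrix.SpecialLinearGroup (Fin 2) F) 1 1 = x 1 1 := by
  simp only [Matrix.SpecialLinearGroup.coe_mul, Matrix.SpecialLinearGroup.coe_inv,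
    Matrix.adjugate_fin_two, lowerL_coe, Matrix.mul_apply, Fin.sum_univ_two, Matrix.of_apply,
    Matrix.cons_val', Matrix.cons_val_zero, Matrix.cons_val_one, Matrix.cons_val_fin_one]
  rw [h01, h10]
  refine ⟨by ring, by ring, by ring⟩

/-- a non-scalar element of trace `≠ 2` has the decomposition property -/
theorem good_of_nonscalar (x : Matrix.SpecialLinearGroup (Fin 2) F)
    (hns : ¬ (x 0 1 = 0 ∧ x 1 0 = 0 ∧ x 0 0 = x 1 1)) (htr : x 0 0 + x 1 1 ≠ 2) : Good x := by
  by_cases h10 : x 1 0 = 0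
  · by_cases h01 : x 0 1 = 0
    · have hne : x 0 0 ≠ x 1 1 := fun h => hns ⟨h01, h10, h⟩
      obtain ⟨e1, e2, e3⟩ := conj_lowerL_entries x h01 h10
      apply Good.conj (lowerL 1)
      apply good_of_entry_ne_zero
      · rw [e1]; exact fun h => hne (by linear_combination -h)
      · rw [e2, e3]; exact htr
    · obtain ⟨e1, e2, e3⟩ := conj_wMat_entries x
      apply Good.conj (wMat F)
      apply good_of_entry_ne_zero
      · rw [e1]; exact neg_ne_zero.mpr h01
      · rw [e2, e3, add_comm]; exact htr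
  · exact good_of_entry_ne_zero x h10 htr

/-- in characteristic `p`, an element of trace `2` has `p`-th power `1` -/
theorem pow_char_eq_one (p : ℕ) [Fact p.Prime] [CharP F p] (x : Matrix.SpecialLinearGroup (Fin 2) F)
    (htr : x 0 0 + x 1 1 = 2) : x ^ p = 1 := by
  have hdet := sl2_det x
  have hNN : ((x : Matrix (Fin 2) (Fin 2) F) - 1) * ((x : Matrix (Fin 2) (Fin 2) F) - 1) = 0 := by
    ext i j
    fin_cases i <;> fin_cases j <;>
      simp only [Matrix.mul_apply, Fin.sum_univ_two, Matrix.sub_apply, Matrix.one_apply,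
        Matrix.zero_apply, Fin.zero_eta, Fin.mk_one, Fin.isValue, one_ne_zero, zero_ne_one,
        ↓reduceIte]
    · linear_combination (-1 : F) * hdet + (x 0 0) * htr
    · linear_combination (x 0 1) * htr
    · linear_combination (x 1 0) * htr
    · linear_combination (-1 : F) * hdet + (x 1 1) * htr
  have hp2 : 2 ≤ p := (Fact.out : p.Prime).two_le
  have hNp : ((x : Matrix (Fin 2) (Fin 2) F) - 1) ^ p = 0 := by
    obtain ⟨k, rfl⟩ := Nat.exists_eq_add_of_le hp2
    rw [pow_add, pow_two, hNN, zero_mul]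
  have hXN : (x : Matrix (Fin 2) (Fin 2) F) = 1 + ((x : Matrix (Fin 2) (Fin 2) F) - 1) := by abel
  have hXp : (x : Matrix (Fin 2) (Fin 2) F) ^ p = 1 := by
    rw [hXN, add_pow_char_of_commute p (Commute.one_left _), one_pow, hNp, add_zero]
  apply Matrix.SpecialLinearGroup.ext
  intro i j
  rw [Matrix.SpecialLinearGroup.coe_pow, Matrix.SpecialLinearGroup.coe_one, hXp]

theorem exists_pow_of_pow_prime_eq_one {G : Type*} [Group G] (p : ℕ) [hp : Fact p.Prime] (x : G)
    (h : x ^ p = 1) : ∃ k : ℕ, orderOf x = p ^ k := by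
  have hd : orderOf x ∣ p := orderOf_dvd_of_pow_eq_one h
  rcases (Nat.dvd_prime hp.out).mp hd with h1 | h1
  · exact ⟨0, by rw [h1, pow_zero]⟩
  · exact ⟨1, by rw [h1, pow_one]⟩

/-- the main statement for the upper unitriangular group -/
theorem xprop_unip (p : ℕ) [Fact p.Prime] [CharP F p] : XProp p (unipSL F) := by
  intro x hx
  by_cases hs : x 0 1 = 0 ∧ x 1 0 = 0 ∧ x 0 0 = x 1 1
  · obtain ⟨h01, h10, h00⟩ := hs
    have hdet := sl2_det x
    have hsq : (x 1 1 - 1) * (x 1 1 + 1) = 0 := by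
      rw [h01, h00] at hdet
      linear_combination hdet
    have hne1 : x 1 1 ≠ 1 := by
      intro h1
      apply hx
      have hx1 : x = 1 := by
        rw [sl2_ext_iff]
        refine ⟨by rw [h00, h1]; rfl, by rw [h01]; rfl, by rw [h10]; rfl, by rw [h1]; rfl⟩
      exact ⟨0, by rw [hx1, orderOf_one, pow_zero]⟩
    have hm1 : x 1 1 = -1 := by
      rcases mul_eq_zero.mp hsq with h | h
      · exact absurd (by linear_combination h) hne1
      · linear_combination h
    have h2 : (2 : F) ≠ 0 := by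
      intro h
      apply hne1
      rw [hm1]
      linear_combination -h
    have hcen : x ^ 1 ∈ Subgroup.center (Matrix.SpecialLinearGroup (Fin 2) F) := by
      rw [pow_one, Subgroup.mem_center_iff]
      intro g
      rw [sl2_ext_iff]
      simp only [Matrix.SpecialLinearGroup.coe_mul, Matrix.mul_apply, Fin.sum_univ_two]
      rw [h01, h10, h00, hm1]
      refine ⟨by ring, by ring, by ring, by ring⟩
    have hg : Good (x ^ 1 * upperU 1) := by
      rw [pow_one]
      apply good_of_nonscalar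
      · intro h
        have := h.1
        simp only [Matrix.SpecialLinearGroup.coe_mul, upperU_coe, Matrix.mul_apply,
          Fin.sum_univ_two, Matrix.of_apply, Matrix.cons_val', Matrix.cons_val_zero,
          Matrix.cons_val_one, Matrix.cons_val_fin_one] at this
        rw [h01, h00, hm1] at this
        apply one_ne_zero (α := F)
        linear_combination -this
      · simp only [Matrix.SpecialLinearGroup.coe_mul, upperU_coe, Matrix.mul_apply,
          Fin.sum_univ_two, Matrix.of_apply, Matrix.cons_val', Matrix.cons_val_zero,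
          Matrix.cons_val_one, Matrix.cons_val_fin_one]
        rw [h01, h10, h00, hm1]
        intro h
        apply h2
        have h4 : (2 : F) * 2 = 0 := by linear_combination -h
        rcases mul_eq_zero.mp h4 with h | h <;> exact h
    obtain ⟨a, b, y1, y2, hy1, hy2, heq, hn1, hn2⟩ := hg.spec
    exact ⟨1, upperU 1, (mem_unipSL_iff _).mpr ⟨1, rfl⟩, Or.inr hcen, a, b, y1, y2, hy1, hy2, heq,
      hn1, hn2⟩
  · by_cases htr : x 0 0 + x 1 1 = 2
    · exact absurd (exists_pow_of_pow_prime_eq_one p x (pow_char_eq_one p x htr)) hx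
    · obtain ⟨a, b, y1, y2, hy1, hy2, heq, hn1, hn2⟩ := (good_of_nonscalar x hs htr).spec
      refine ⟨1, 1, one_mem _, Or.inl rfl, a, b, y1, y2, hy1, hy2, ?_, hn1, hn2⟩
      rw [pow_one, mul_one]; exact heq

/-- **U-SL2**: a `p`-subgroup `Y` of `SL₂(F)` of order `|F|` has `XProp p Y` -/
theorem xprop_sl2 {F : Type} [Field F] [Fintype F] {p : ℕ} [Fact p.Prime]
    (Y : Subgroup (Matrix.SpecialLinearGroup (Fin 2) F)) (hYp : IsPGroup p Y)
    (hcard : Nat.card Y = Fintype.card F) : XProp p Y := by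
  obtain ⟨k, hk⟩ := hYp.exists_card_eq
  have hcp : CharP F p := Cfsg.Agent.Lib.Helper7.FL.charP_of_card_pow (k := k) (by rw [← hcard, hk])
  obtain ⟨P, hYP⟩ := hYp.exists_le_sylow
  obtain ⟨g, hg⟩ := MulAction.exists_smul_eq (Matrix.SpecialLinearGroup (Fin 2) F)
    (sylowUnipSL (F := F) p) P
  have hP : (P : Subgroup (Matrix.SpecialLinearGroup (Fin 2) F)) =
      (unipSL F).map (MulAut.conj g).toMonoidHom := by
    rw [← hg, Sylow.coe_subgroup_smul]
    rfl
  have hPc : Nat.card (P : Subgroup (Matrix.SpecialLinearGroup (Fin 2) F)) = Fintype.card F := by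
    rw [hP, Subgroup.card_map_of_injective (MulAut.conj g).injective, card_unipSL]
  have hYeq : Y = (P : Subgroup (Matrix.SpecialLinearGroup (Fin 2) F)) :=
    Subgroup.eq_of_le_of_card_ge hYP (by rw [hPc, hcard])
  rw [hYeq, hP]
  exact (xprop_unip p).map_equiv (MulAut.conj g)

end Cfsg.Agent.Lib.Helper3.FPFSL2
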