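import Mathlib
import Cfsg.Agent.Lib.Helper3.NPSQ13
import Cfsg.Agent.Lib.Helper9.GroupFusionAut
import Cfsg.Agent.Lib.Helper9.GroupFusionSylow
set_option autoImplicit false
set_option maxHeartbeats 1000000
set_option linter.unusedVariables false
set_option linter.unusedSectionVars false
set_option linter.unusedDecidableInType false
set_option linter.unusedFintypeInType false
set_option linter.style.longLine false
set_option linter.unnecessarySimpa false
set_option linter.unusedSimpArgs false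
open scoped commutatorElement Pointwise
universe u v w
namespace Cfsg.Agent.Lib.Helper3.FPS

open Cfsg Cfsg.FusionSystem Cfsg.Agent.Lib.Helper9

/-- pointwise transport of the `p`-stability conclusion along an injective homomorphism -/
theorem nps_at_of_injective {Y Z : Type*} [Group Y] [Group Z] [Finite Y] [Finite Z]
    {p : ℕ} [Fact p.Prime] (f₀ : Z →* Y) (hf₀ : Function.Injective f₀) (P : Subgroup Z) (g : Z)
    (hg : g ∈ Subgroup.normalizer (P : Set Z))
    (hg' : f₀ g ∈ Subgroup.normalizer ((P.map f₀ : Subgroup Y) : Set Y))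
    (key : (QuotientGroup.mk (s := (Subgroup.centralizer ((P.map f₀ : Subgroup Y) : Set Y)).subgroupOf
        (Subgroup.normalizer ((P.map f₀ : Subgroup Y) : Set Y)))
        (⟨f₀ g, hg'⟩ : ↥(Subgroup.normalizer ((P.map f₀ : Subgroup Y) : Set Y)))) ∈
      pCore p (↥(Subgroup.normalizer ((P.map f₀ : Subgroup Y) : Set Y)) ⧸
        (Subgroup.centralizer ((P.map f₀ : Subgroup Y) : Set Y)).subgroupOf
          (Subgroup.normalizer ((P.map f₀ : Subgroup Y) : Set Y)))) :
    (QuotientGroup.mk (s := (Subgroup.centralizer (P : Set Z)).subgroupOf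
        (Subgroup.normalizer (P : Set Z))) (⟨g, hg⟩ : ↥(Subgroup.normalizer (P : Set Z)))) ∈
      pCore p (↥(Subgroup.normalizer (P : Set Z)) ⧸
        (Subgroup.centralizer (P : Set Z)).subgroupOf (Subgroup.normalizer (P : Set Z))) := by
  obtain ⟨P', hP'⟩ : ∃ P' : Subgroup Y, P' = P.map f₀ := ⟨_, rfl⟩
  have hnorm : ∀ x : Z, x ∈ Subgroup.normalizer (P : Set Z) →
      f₀ x ∈ Subgroup.normalizer ((P.map f₀ : Subgroup Y) : Set Y) := by
    intro x hx
    exact Subgroup.le_normalizer_map f₀ ⟨x, hx, rfl⟩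
  let f : ↥(Subgroup.normalizer (P : Set Z)) →*
      ↥(Subgroup.normalizer ((P.map f₀ : Subgroup Y) : Set Y)) :=
    { toFun := fun x => ⟨f₀ (x : Z), hnorm x x.2⟩
      map_one' := Subtype.ext (map_one f₀)
      map_mul' := fun a b => Subtype.ext (map_mul f₀ (a : Z) (b : Z)) }
  have hfC : (Subgroup.centralizer (P : Set Z)).subgroupOf (Subgroup.normalizer (P : Set Z)) =
      ((Subgroup.centralizer ((P.map f₀ : Subgroup Y) : Set Y)).subgroupOf
        (Subgroup.normalizer ((P.map f₀ : Subgroup Y) : Set Y))).comap f := by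
    ext x
    simp only [Subgroup.mem_subgroupOf, Subgroup.mem_comap, Subgroup.mem_centralizer_iff]
    constructor
    · rintro h _ ⟨y, hy, rfl⟩
      have := h y hy
      show f₀ y * f₀ (x : Z) = f₀ (x : Z) * f₀ y
      rw [← map_mul, ← map_mul, this]
    · intro h y hy
      have := h (f₀ y) ⟨y, hy, rfl⟩
      apply hf₀
      rw [map_mul, map_mul]
      exact this
  let ι := QuotientGroup.map
    ((Subgroup.centralizer (P : Set Z)).subgroupOf (Subgroup.normalizer (P : Set Z)))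
    ((Subgroup.centralizer ((P.map f₀ : Subgroup Y) : Set Y)).subgroupOf
      (Subgroup.normalizer ((P.map f₀ : Subgroup Y) : Set Y))) f
    (le_of_eq hfC)
  have hι : Function.Injective ι := by
    rw [← MonoidHom.ker_eq_bot_iff, eq_bot_iff]
    intro x hx
    obtain ⟨x, rfl⟩ := QuotientGroup.mk_surjective x
    rw [MonoidHom.mem_ker, QuotientGroup.map_mk, QuotientGroup.eq_one_iff] at hx
    rw [Subgroup.mem_bot, QuotientGroup.eq_one_iff, hfC]
    exact hx
  set Q := ↥(Subgroup.normalizer ((P.map f₀ : Subgroup Y) : Set Y)) ⧸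
    ((Subgroup.centralizer ((P.map f₀ : Subgroup Y) : Set Y)).subgroupOf
      (Subgroup.normalizer ((P.map f₀ : Subgroup Y) : Set Y)))
  have hcomap_p : IsPGroup p ((Cfsg.pCore p Q).comap ι) :=
    (Cfsg.Agent.Lib.Helper2.pCore_isPGroup p).comap_of_injective ι hι
  haveI : (Cfsg.pCore p Q).Normal := by
    haveI := Cfsg.Agent.Lib.Helper2.pCore_characteristic (G := Q) p
    exact Subgroup.normal_of_characteristic _
  haveI : ((Cfsg.pCore p Q).comap ι).Normal := inferInstance
  apply Cfsg.Agent.Lib.Helper2.le_pCore hcomap_p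
  rw [Subgroup.mem_comap]
  exact key

section B
variable {G : Type u} [Group G]

/-- membership in `O_p` of the automizer, read in `N_G(Q)/C_G(Q)` -/
theorem mem_pCore_of_conjAut_mem [Finite G] {p : ℕ} [Fact p.Prime] (Q : Subgroup G) (g : G)
    (hg : g ∈ Subgroup.normalizer (Q : Set G)) (A : Subgroup (MulAut Q))
    (hA : A = (conjAut Q).range)
    (h : conjAut Q ⟨g, hg⟩ ∈ (pCore p ↥A).map A.subtype) :
    (QuotientGroup.mk (s := (Subgroup.centralizer (Q : Set G)).subgroupOf
        (Subgroup.normalizer (Q : Set G))) (⟨g, hg⟩ : ↥(Subgroup.normalizer (Q : Set G)))) ∈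
      pCore p (↥(Subgroup.normalizer (Q : Set G)) ⧸
        (Subgroup.centralizer (Q : Set G)).subgroupOf (Subgroup.normalizer (Q : Set G))) := by
  have hker : (Subgroup.centralizer (Q : Set G)).subgroupOf (Subgroup.normalizer (Q : Set G)) ≤
      (conjAut Q).ker := by
    intro x hx
    rw [Subgroup.mem_subgroupOf, Subgroup.mem_centralizer_iff] at hx
    rw [MonoidHom.mem_ker]
    ext y
    rw [conjAut_apply, MulAut.one_apply, ← hx y y.2, mul_inv_cancel_right]
  obtain ⟨θ, hθ⟩ : ∃ θ : (↥(Subgroup.normalizer (Q : Set G)) ⧸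
      (Subgroup.centralizer (Q : Set G)).subgroupOf (Subgroup.normalizer (Q : Set G))) →* MulAut Q,
      θ = QuotientGroup.lift _ (conjAut Q) hker := ⟨_, rfl⟩
  have hθmk : ∀ x : ↥(Subgroup.normalizer (Q : Set G)), θ (QuotientGroup.mk x) = conjAut Q x := by
    intro x; rw [hθ]; rfl
  have hθinj : Function.Injective θ := by
    rw [← MonoidHom.ker_eq_bot_iff, eq_bot_iff]
    intro x hx
    obtain ⟨x, rfl⟩ := QuotientGroup.mk_surjective x
    rw [MonoidHom.mem_ker, hθmk] at hx
    rw [Subgroup.mem_bot, QuotientGroup.eq_one_iff, Subgroup.mem_subgroupOf,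
      Subgroup.mem_centralizer_iff]
    intro y hy
    have h1 := congrArg (fun α : MulAut Q => ((α ⟨y, hy⟩ : Q) : G)) hx
    simp only [conjAut_apply, MulAut.one_apply] at h1
    exact (mul_inv_eq_iff_eq_mul.mp h1).symm
  have hθA : ∀ x, θ x ∈ A := by
    intro x
    obtain ⟨x, rfl⟩ := QuotientGroup.mk_surjective x
    rw [hθmk, hA]
    exact ⟨x, rfl⟩
  obtain ⟨O, hO⟩ : ∃ O : Subgroup (MulAut Q), O = (pCore p ↥A).map A.subtype := ⟨_, rfl⟩
  have hOp : IsPGroup p O := by
    rw [hO]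
    exact (Cfsg.Agent.Lib.Helper9.pCore_isPGroup' p _).map _
  have hKp : IsPGroup p (O.comap θ) := hOp.comap_of_injective θ hθinj
  have hKn : (O.comap θ).Normal := by
    constructor
    intro k hk x
    rw [Subgroup.mem_comap] at hk ⊢
    rw [map_mul, map_mul, map_inv]
    rw [hO] at hk ⊢
    obtain ⟨o, ho, hok⟩ := hk
    refine ⟨⟨θ x, hθA x⟩ * o * ⟨θ x, hθA x⟩⁻¹, ?_, ?_⟩
    · exact (Cfsg.pCore_normal p ↥A).conj_mem o ho _
    · rw [map_mul, map_mul, map_inv, hok]
      rfl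
  apply Cfsg.Agent.Lib.Helper9.le_pCore' hKn hKp
  rw [Subgroup.mem_comap, hθmk, hO]
  exact h

end B

section C
variable {Ω : Type u} [Group Ω]

/-- the quadratic condition transports along a homomorphism -/
theorem quad_map {Y : Type v} [Group Y] (f₀ : Ω →* Y) (Q : Subgroup Ω) (g : Ω)
    (hquad : ⁅⁅Q, Subgroup.zpowers g⁆, Subgroup.zpowers g⁆ = ⊥) :
    ⁅⁅Q.map f₀, Subgroup.zpowers (f₀ g)⁆, Subgroup.zpowers (f₀ g)⁆ = ⊥ := by
  rw [← MonoidHom.map_zpowers, ← Subgroup.map_commutator, ← Subgroup.map_commutator, hquad,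
    Subgroup.map_bot]

/-- `p`-stability of the fusion system of a finite group on a Sylow `p`-subgroup gives
`p`-stability of the group in the normalizer form -/
theorem isNormalizerPStable_of_fusion_stable [Finite Ω] {p : ℕ} [Fact p.Prime] (P : Sylow p Ω)
    (hst : ∀ Q : Subgroup Ω, (groupFusionSystem (P : Subgroup Ω)).IsFullyNormalized Q →
      ∀ χ : MulAut ↥Q, χ ∈ (groupFusionSystem (P : Subgroup Ω)).autGroup Q →
      (∀ a : ↥Q, (χ a⁻¹) * a * (χ a⁻¹) * (χ (χ a)) = 1) →
      χ ∈ ((pCore p ↥((groupFusionSystem (P : Subgroup Ω)).autGroup Q)).map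
        ((groupFusionSystem (P : Subgroup Ω)).autGroup Q).subtype : Subgroup (MulAut ↥Q))) :
    IsNormalizerPStable p Ω := by
  -- fully normalized subgroups
  have H0 : ∀ (Q : Subgroup Ω), (groupFusionSystem (P : Subgroup Ω)).IsFullyNormalized Q →
      ∀ (g : Ω) (hg : g ∈ Subgroup.normalizer (Q : Set Ω)),
      ⁅⁅Q, Subgroup.zpowers g⁆, Subgroup.zpowers g⁆ = ⊥ →
      (QuotientGroup.mk (s := (Subgroup.centralizer (Q : Set Ω)).subgroupOf
        (Subgroup.normalizer (Q : Set Ω))) (⟨g, hg⟩ : ↥(Subgroup.normalizer (Q : Set Ω)))) ∈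
      pCore p (↥(Subgroup.normalizer (Q : Set Ω)) ⧸
        (Subgroup.centralizer (Q : Set Ω)).subgroupOf (Subgroup.normalizer (Q : Set Ω))) := by
    intro Q hQ g hg hquad
    have hQP : Q ≤ (P : Subgroup Ω) := hQ.1
    have hA : (groupFusionSystem (P : Subgroup Ω)).autGroup Q = (conjAut Q).range := by
      rw [groupFusion_autGroup_eq hQP, range_conjAut_eq]
    apply mem_pCore_of_conjAut_mem Q g hg _ hA
    apply hst Q hQ
    · rw [hA]; exact ⟨⟨g, hg⟩, rfl⟩
    · intro a
      have h1 := Cfsg.Agent.Lib.Helper3.NPSQ.quad_elem_of_commutator_le Q ⊥ g (le_of_eq hquad)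
        ((a⁻¹ : ↥Q) : Ω) (a⁻¹ : ↥Q).2
      rw [Subgroup.mem_bot] at h1
      apply Subtype.ext
      simp only [Subgroup.coe_mul, Subgroup.coe_one, conjAut_apply, Subgroup.coe_inv] at h1 ⊢
      have e : g * (↑a)⁻¹ * g⁻¹ * ↑a * (g * (↑a)⁻¹ * g⁻¹) * (g * (g * ↑a * g⁻¹) * g⁻¹) =
          g * (↑a)⁻¹ * g⁻¹ * ↑a * (g * (g * (↑a)⁻¹ * g⁻¹ * (↑a)⁻¹⁻¹) * g⁻¹)⁻¹ := by group
      rw [e]
      have h2 := mul_inv_eq_one.mp h1
      rw [h2]
      group
  -- subgroups of `P`
  have H1 : ∀ (Q : Subgroup Ω), Q ≤ (P : Subgroup Ω) →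
      ∀ (g : Ω) (hg : g ∈ Subgroup.normalizer (Q : Set Ω)),
      ⁅⁅Q, Subgroup.zpowers g⁆, Subgroup.zpowers g⁆ = ⊥ →
      (QuotientGroup.mk (s := (Subgroup.centralizer (Q : Set Ω)).subgroupOf
        (Subgroup.normalizer (Q : Set Ω))) (⟨g, hg⟩ : ↥(Subgroup.normalizer (Q : Set Ω)))) ∈
      pCore p (↥(Subgroup.normalizer (Q : Set Ω)) ⧸
        (Subgroup.centralizer (Q : Set Ω)).subgroupOf (Subgroup.normalizer (Q : Set Ω))) := by
    intro Q hQP g hg hquad
    obtain ⟨k, hk, hfn⟩ := exists_cj_fullyNormalized P Q hQP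
    have hg' : (MulAut.conj k).toMonoidHom g ∈
        Subgroup.normalizer ((Q.map (MulAut.conj k).toMonoidHom : Subgroup Ω) : Set Ω) :=
      Subgroup.le_normalizer_map _ ⟨g, hg, rfl⟩
    exact nps_at_of_injective (MulAut.conj k).toMonoidHom (MulAut.conj k).injective Q g hg hg'
      (H0 _ hfn _ hg' (quad_map _ Q g hquad))
  intro Q hQ g hg hquad
  obtain ⟨k, hk⟩ := exists_cj_le_sylow P hQ
  have hg' : (MulAut.conj k).toMonoidHom g ∈
      Subgroup.normalizer ((Q.map (MulAut.conj k).toMonoidHom : Subgroup Ω) : Set Ω) :=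
    Subgroup.le_normalizer_map _ ⟨g, hg, rfl⟩
  exact nps_at_of_injective (MulAut.conj k).toMonoidHom (MulAut.conj k).injective Q g hg hg'
    (H1 _ hk _ hg' (quad_map _ Q g hquad))

end C

section D
variable {G : Type u} [Group G]

/-- a subgroup whose normalizer controls strong fusion in `S` is normal in the fusion system -/
theorem isNormal_of_controls (S Q : Subgroup G) (hQS : Q ≤ S)
    (hctl : ∀ A : Set G, A ⊆ S → ControlsStrongFusionOf (Subgroup.normalizer (Q : Set G)) S A) :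
    (groupFusionSystem S).IsNormal Q := by
  refine ⟨hQS, ?_⟩
  intro R φ hφ
  obtain ⟨hRS, hφS, g, hg⟩ := hφ
  obtain ⟨_, h⟩ := hctl (R : Set G) (fun x hx => hRS hx)
  obtain ⟨n, hn, hna⟩ := h g (by
    rintro _ ⟨a, ha, rfl⟩
    have := hφS ⟨a, ha⟩
    rw [hg] at this
    exact this)
  have hsupS : R ⊔ Q ≤ S := sup_le hRS hQS
  have hmapS : (R ⊔ Q).map (MulAut.conj n).toMonoidHom ≤ S := by
    rw [Subgroup.map_sup]
    apply sup_le
    · rintro _ ⟨a, ha, rfl⟩
      show n * a * n⁻¹ ∈ S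
      rw [← hna a ha, ← hg ⟨a, ha⟩]
      exact hφS ⟨a, ha⟩
    · rintro _ ⟨a, ha, rfl⟩
      exact hQS (conj_mem_of_mem_normalizer hn ha)
  refine ⟨conjHom (R ⊔ Q) n, groupFusion_conjHom_mem hsupS hmapS, ?_, ?_⟩
  · intro x
    rw [conjHom_apply, hg x]
    exact (hna x x.2).symm
  · exact conj_map_eq_of_mem_normalizer le_sup_right hn

end D

end Cfsg.Agent.Lib.Helper3.FPS
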