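import Mathlib
import Cfsg.Agent.Lib.Helper3.FPS1
import Cfsg.Agent.Lib.Helper3.NPSQ11
import Cfsg.Agent.Lib.Helper2.SylowNormal
import Cfsg.Agent.Lib.Helper9.WeaklyNormalClosure
import Cfsg.Agent.Lib.Helper9.SubgroupSystem3
import Cfsg.Agent.Lib.Helper9.CentralFactor
import Cfsg.Agent.Lib.Helper9.GroupFactor
import Cfsg.Agent.Lib.Helper9.TransportConstrained
import Cfsg.Agent.Lib.Helper9.FactorSys8
import Cfsg.Agent.Lib.Helper9.NormalSeries5
set_option autoImplicit false
set_option maxHeartbeats 1000000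
set_option linter.unusedVariables false
set_option linter.unusedSectionVars false
set_option linter.unusedDecidableInType false
set_option linter.unusedFintypeInType false
set_option linter.style.longLine false
set_option linter.unnecessarySimpa false
set_option linter.unusedSimpArgs false
open scoped commutatorElement Pointwise
universe u v w
namespace Cfsg.Agent.Lib.Helper3.FPS

open Cfsg Cfsg.FusionSystem Cfsg.Agent.Lib.Helper9

section A

variable {G : Type u} [Group G]

/-- two fusion systems over the same subgroup with the same maps are equal -/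
theorem fusionSystem_eq_of_hom {S : Subgroup G} (F E : FusionSystem S)
    (h : ∀ P : Subgroup G, F.Hom P = E.Hom P) : F = E := by
  cases F
  cases E
  simp only [FusionSystem.mk.injEq]
  funext P
  exact h P

/-- If `Q` is normal in the fusion system of `G` on `S`, the normalizer of `Q` induces the
whole fusion system. -/
theorem fusionSystemOfSubgroup_normalizer_eq [Finite G] (S Q : Subgroup G)
    (hQ : (groupFusionSystem S).IsNormal Q)
    (hSN : S ≤ Subgroup.normalizer (Q : Set G)) :
    fusionSystemOfSubgroup (Subgroup.normalizer (Q : Set G)) S hSN = groupFusionSystem S := by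
  apply fusionSystem_eq_of_hom
  intro A
  apply Set.eq_of_subset_of_subset
  · rintro φ ⟨hA, hφS, g, -, hg⟩
    exact ⟨hA, hφS, g, hg⟩
  · intro φ hφ
    obtain ⟨ψ, hψ, hext, hmap⟩ := hQ.2 A φ hφ
    obtain ⟨hA, hφS, g, hg⟩ := hφ
    obtain ⟨-, -, h, hh⟩ := hψ
    refine ⟨hA, hφS, h, ?_, ?_⟩
    · apply mem_normalizer_of_cj_le'
      rintro _ ⟨q, hq, rfl⟩
      have hq' : q ∈ A ⊔ Q := (le_sup_right : Q ≤ A ⊔ Q) hq
      have h1 : ψ ⟨q, hq'⟩ ∈ (Q.subgroupOf (A ⊔ Q)).map ψ :=
        Subgroup.mem_map_of_mem ψ (Subgroup.mem_subgroupOf.mpr hq)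
      rw [hmap, hh] at h1
      exact h1
    · intro x
      rw [← hext x, hh]
      rfl

/-- Case A: if `Q` is normal in the fusion system and the fusion system of `N_G(Q)` is constrained,
then so is the fusion system of `G`. -/
theorem constrained_of_normalizer [Finite G] {p : ℕ} [Fact p.Prime] (P : Sylow p G) (Q : Subgroup G)
    (hQ : (groupFusionSystem (P : Subgroup G)).IsNormal Q)
    (hc : ∀ P' : Sylow p ↥(Subgroup.normalizer (Q : Set G)),
      (groupFusionSystem (P' : Subgroup ↥(Subgroup.normalizer (Q : Set G)))).IsConstrained p) :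
    (groupFusionSystem (P : Subgroup G)).IsConstrained p := by
  have hPN : (P : Subgroup G) ≤ Subgroup.normalizer (Q : Set G) :=
    le_normalizer_of_stronglyClosed _ (stronglyClosed_of_normal _ hQ)
  have h1 := hc (P.subtype hPN)
  rw [Sylow.coe_subtype] at h1
  have hp' : IsPGroup p ↥((P : Subgroup G).subgroupOf (Subgroup.normalizer (Q : Set G))) :=
    P.isPGroup'.comap_subtype
  have h2 := constrained_image p hp' _ h1 (inclSub (Subgroup.normalizer (Q : Set G)) (P : Subgroup G))
    (fusionSystemOfSubgroup (Subgroup.normalizer (Q : Set G)) (P : Subgroup G) hPN)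
    (isFactorSystem_fusionSystemOfSubgroup _ _ hPN)
  rw [fusionSystemOfSubgroup_normalizer_eq (P : Subgroup G) Q hQ hPN] at h2
  exact h2

end A

section B

variable {X : Type u} [Group X]

/-- In a group `X` which is `p`-stable in the normalizer form (`p` odd), for a central `p`-subgroup
`Z` there is a subgroup normal in the fusion system of `X` which is not contained in `Z`,
unless the Sylow subgroup is. -/
theorem exists_normal_not_le_central [Finite X] {p : ℕ} [Fact p.Prime] (hp : p ≠ 2)
    (hst : IsNormalizerPStable p X) (PX : Sylow p X) (Z : Subgroup X) [hZn : Z.Normal]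
    (hZc : Z ≤ Subgroup.center X) (hZp : IsPGroup p ↥Z) (hne : ¬ (PX : Subgroup X) ≤ Z) :
    ∃ W' : Subgroup X, (groupFusionSystem (PX : Subgroup X)).IsNormal W' ∧ ¬ W' ≤ Z := by
  have hstQ : IsNormalizerPStable p (X ⧸ Z) :=
    Cfsg.Agent.Lib.Helper3.NPSQ.isNormalizerPStable_quotient_central hp hst Z hZc hZp
  have hsurj : Function.Surjective (QuotientGroup.mk' Z) := QuotientGroup.mk'_surjective Z
  have hPb : ((PX.mapSurjective hsurj : Sylow p (X ⧸ Z)) : Subgroup (X ⧸ Z)) =
      (PX : Subgroup X).map (QuotientGroup.mk' Z) := Sylow.coe_mapSurjective hsurj PX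
  have hFC_sat := groupFusion_saturated PX
  have hfac := groupFusion_isFactorSystem p PX Z
  have hctl := Cfsg.Agent.Lib.Helper3.NPSQ.zj_controls_of_nps hp hstQ (PX.mapSurjective hsurj)
  have hWle : Cfsg.centerThompsonAOf ((PX.mapSurjective hsurj : Sylow p (X ⧸ Z)) : Subgroup (X ⧸ Z)) ≤
      ((PX.mapSurjective hsurj : Sylow p (X ⧸ Z)) : Subgroup (X ⧸ Z)) :=
    (Cfsg.Agent.Lib.Helper7.scFunctor_scWA hp).le (X ⧸ Z) _
  have hWn := isNormal_of_controls _ _ hWle hctl
  have hPbne : ((PX.mapSurjective hsurj : Sylow p (X ⧸ Z)) : Subgroup (X ⧸ Z)) ≠ ⊥ := by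
    intro h
    apply hne
    intro x hx
    have h1 : QuotientGroup.mk' Z x ∈ (PX : Subgroup X).map (QuotientGroup.mk' Z) :=
      Subgroup.mem_map_of_mem _ hx
    rw [← hPb, h, Subgroup.mem_bot] at h1
    exact (QuotientGroup.eq_one_iff x).mp h1
  have hWne : Cfsg.centerThompsonAOf ((PX.mapSurjective hsurj : Sylow p (X ⧸ Z)) : Subgroup (X ⧸ Z)) ≠ ⊥ :=
    (Cfsg.Agent.Lib.Helper7.scFunctor_scWA hp).ne_bot (X ⧸ Z) _ (Sylow.isPGroup' _) hPbne
  have hWcomm := Cfsg.Agent.Lib.Helper7.scWA_comm (X ⧸ Z)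
    ((PX.mapSurjective hsurj : Sylow p (X ⧸ Z)) : Subgroup (X ⧸ Z))
  rw [hPb] at hWn hWle hWne hWcomm
  -- abbreviations
  obtain ⟨Wb, hWb⟩ : ∃ Wb : Subgroup (X ⧸ Z),
      Wb = Cfsg.centerThompsonAOf ((PX : Subgroup X).map (QuotientGroup.mk' Z)) := ⟨_, rfl⟩
  have hWcomm' : ∀ a ∈ Wb, ∀ b ∈ Wb, a * b = b * a := by
    rw [hWb]; exact hWcomm
  rw [← hWb] at hWn hWle hWne
  have hWsc := stronglyClosed_of_normal _ hWn
  have hS₀ : (groupFusionSystem (PX : Subgroup X)).StronglyClosed ((PX : Subgroup X) ⊓ Z) :=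
    inf_normal_stronglyClosed (PX : Subgroup X) Z
  have hW'sc := preimageAlong_stronglyClosed p PX.isPGroup' _ hFC_sat hS₀ _ _ hfac hWsc
  refine ⟨preimageAlong ((QuotientGroup.mk' Z).comp (PX : Subgroup X).subtype) Wb, ?_, ?_⟩
  · refine normal_of_fin_series p PX.isPGroup' _ hFC_sat _ 2
      ![⊥, (PX : Subgroup X) ⊓ Z, preimageAlong ((QuotientGroup.mk' Z).comp (PX : Subgroup X).subtype) Wb]
      rfl rfl ?_
    intro i
    fin_cases i
    · refine ⟨hS₀, ?_⟩
      show ⁅_, (PX : Subgroup X) ⊓ Z⁆ ≤ ⊥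
      rw [Subgroup.commutator_le]
      intro a ha b hb
      rw [Subgroup.mem_bot, commutatorElement_eq_one_iff_mul_comm]
      exact (Subgroup.mem_center_iff.mp (hZc hb.2) a)
    · refine ⟨hW'sc, ?_⟩
      show ⁅_, preimageAlong ((QuotientGroup.mk' Z).comp (PX : Subgroup X).subtype) Wb⁆ ≤
        (PX : Subgroup X) ⊓ Z
      rw [Subgroup.commutator_le]
      intro a ha b hb
      obtain ⟨haP, haW⟩ := (mem_preimageAlong _ _ a).mp ha
      obtain ⟨hbP, hbW⟩ := (mem_preimageAlong _ _ b).mp hb
      refine ⟨?_, ?_⟩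
      · rw [commutatorElement_def]
        exact (PX : Subgroup X).mul_mem ((PX : Subgroup X).mul_mem ((PX : Subgroup X).mul_mem haP hbP)
          ((PX : Subgroup X).inv_mem haP)) ((PX : Subgroup X).inv_mem hbP)
      · have h1 : (QuotientGroup.mk' Z a) * (QuotientGroup.mk' Z b) =
            (QuotientGroup.mk' Z b) * (QuotientGroup.mk' Z a) := hWcomm' _ haW _ hbW
        have h2 : QuotientGroup.mk' Z ⁅a, b⁆ = 1 := by
          rw [map_commutatorElement, commutatorElement_eq_one_iff_mul_comm]
          exact h1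
        exact (QuotientGroup.eq_one_iff _).mp h2
  · intro hle
    apply hWne
    rw [eq_bot_iff]
    intro w hw
    have hw' := hWle hw
    obtain ⟨c, hc, rfl⟩ := hw'
    have hcW : c ∈ preimageAlong ((QuotientGroup.mk' Z).comp (PX : Subgroup X).subtype) Wb :=
      (mem_preimageAlong _ _ c).mpr ⟨hc, hw⟩
    have := hle hcW
    rw [Subgroup.mem_bot]
    exact (QuotientGroup.eq_one_iff c).mpr this

end B

section C

variable {G : Type u} [Group G]

theorem mapAut_one_eq {T W : Subgroup G} (hWT : W ≤ T) : mapAut (1 : MulAut T) W = W := by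
  apply le_antisymm
  · intro y hy
    obtain ⟨t, ht, rfl⟩ := (mem_mapAut _ _ y).mp hy
    exact ht
  · intro y hy
    exact (mem_mapAut _ _ y).mpr ⟨⟨y, hWT hy⟩, hy, rfl⟩

/-- Case B: if every subgroup normal in the fusion system is normal in `G`, then `O_p(G)` contains its
centralizer in the Sylow subgroup. -/
theorem centralizerIn_pCore_le [Finite G] {p : ℕ} [Fact p.Prime] (hp : p ≠ 2)
    (hst : IsNormalizerPStable p G) (P : Sylow p G)
    (hB : ∀ Q : Subgroup G, (groupFusionSystem (P : Subgroup G)).IsNormal Q → Q.Normal) :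
    (P : Subgroup G) ⊓ Subgroup.centralizer ((pCore p G : Subgroup G) : Set G) ≤ pCore p G := by
  by_contra hne
  haveI hRn : (pCore p G).Normal := Cfsg.pCore_normal p G
  haveI hCn : (Subgroup.centralizer ((pCore p G : Subgroup G) : Set G)).Normal :=
    Subgroup.normal_centralizer
  obtain ⟨C, hC⟩ : ∃ C : Subgroup G, C = Subgroup.centralizer ((pCore p G : Subgroup G) : Set G) :=
    ⟨_, rfl⟩
  rw [← hC] at hne hCn
  obtain ⟨PC, hPC⟩ := Cfsg.Agent.Lib.Helper2.exists_sylow_eq_inf_normal P C
  have hstC : IsNormalizerPStable p ↥C :=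
    Cfsg.Agent.Lib.Helper7.isNormalizerPStable_of_injective C.subtype C.subtype_injective hst
  haveI hZn : ((pCore p G).subgroupOf C).Normal := Subgroup.Normal.subgroupOf hRn C
  have hZc : (pCore p G).subgroupOf C ≤ Subgroup.center ↥C := by
    intro z hz
    rw [Subgroup.mem_center_iff]
    intro c
    apply Subtype.ext
    rw [Subgroup.coe_mul, Subgroup.coe_mul]
    have hc : (c : G) ∈ Subgroup.centralizer ((pCore p G : Subgroup G) : Set G) := hC ▸ c.2
    exact (Subgroup.mem_centralizer_iff.mp hc (z : G) (Subgroup.mem_subgroupOf.mp hz)).symm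
  have hZp : IsPGroup p ↥((pCore p G).subgroupOf C) :=
    (pCore_isPGroup' p G).comap_subtype
  have hneC : ¬ (PC : Subgroup ↥C) ≤ (pCore p G).subgroupOf C := by
    intro h
    apply hne
    intro x hx
    have h1 : (⟨x, hx.2⟩ : ↥C) ∈ (PC : Subgroup ↥C) := by
      rw [hPC]; exact Subgroup.mem_subgroupOf.mpr hx
    exact Subgroup.mem_subgroupOf.mp (h h1)
  obtain ⟨W', hW'n, hW'ne⟩ := exists_normal_not_le_central hp hstC PC _ hZc hZp hneC
  rw [hPC] at hW'n
  have hp' : IsPGroup p ↥(((P : Subgroup G) ⊓ C).subgroupOf C) :=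
    (P.isPGroup'.to_le inf_le_left).comap_subtype
  have hsatC : (groupFusionSystem (((P : Subgroup G) ⊓ C).subgroupOf C)).IsSaturated p := by
    rw [← hPC]; exact groupFusion_saturated PC
  have hfac2 := isFactorSystem_fusionSystemOfSubgroup C ((P : Subgroup G) ⊓ C) inf_le_right
  have hWn := imageAlong_normal p hp' _ hsatC (stronglyClosed_bot _) _ _ hfac2 hW'n
  have hsatE := fusionSystemOfSubgroup_saturated p C ((P : Subgroup G) ⊓ C) inf_le_right PC hPC
  have hinv := fusionSystemOfSubgroup_invariant p P C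
  have hWs := autClosure_normal_in p P.isPGroup' _ (groupFusion_saturated P) _ hsatE hinv hWn
  have hWsn := hB _ hWs
  have hWsP : autClosure (groupFusionSystem (P : Subgroup G)) ((P : Subgroup G) ⊓ C)
      (imageAlong (inclSub C ((P : Subgroup G) ⊓ C)) W') ≤ (P : Subgroup G) :=
    (autClosure_le _ _ _).trans inf_le_left
  have hWsR := le_pCore' hWsn (P.isPGroup'.to_le hWsP)
  have hWT : imageAlong (inclSub C ((P : Subgroup G) ⊓ C)) W' ≤ (P : Subgroup G) ⊓ C := by
    intro y hy
    obtain ⟨x, hx, -, rfl⟩ := (mem_imageAlong _ _ y).mp hy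
    rw [inclSub_apply]
    exact Subgroup.mem_subgroupOf.mp hx
  have hWle : imageAlong (inclSub C ((P : Subgroup G) ⊓ C)) W' ≤ pCore p G := by
    have h1 := mapAut_le_autClosure (groupFusionSystem (P : Subgroup G)) ((P : Subgroup G) ⊓ C)
      (imageAlong (inclSub C ((P : Subgroup G) ⊓ C)) W') (α := 1) (Subgroup.one_mem _)
    rw [mapAut_one_eq hWT] at h1
    exact h1.trans hWsR
  apply hW'ne
  intro w hw
  have hwT : w ∈ ((P : Subgroup G) ⊓ C).subgroupOf C := hW'n.1 hw
  have h1 : (w : G) ∈ imageAlong (inclSub C ((P : Subgroup G) ⊓ C)) W' :=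
    (mem_imageAlong _ _ _).mpr ⟨w, hwT, hw, by rw [inclSub_apply]⟩
  exact Subgroup.mem_subgroupOf.mpr (hWle h1)

end C

section D

/-- A finite group which is `p`-stable in the normalizer form (`p` odd) has a constrained fusion
system. -/
theorem constrained_of_nps {p : ℕ} [Fact p.Prime] (hp : p ≠ 2) :
    ∀ (n : ℕ) (G : Type u) [Group G] [Finite G], Nat.card G = n → IsNormalizerPStable p G →
      ∀ P : Sylow p G, (groupFusionSystem (P : Subgroup G)).IsConstrained p := by
  intro n
  induction n using Nat.strong_induction_on with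
  | _ n ih =>
    intro G _ _ hn hst P
    by_cases hB : ∀ Q : Subgroup G, (groupFusionSystem (P : Subgroup G)).IsNormal Q → Q.Normal
    · haveI hRn : (pCore p G).Normal := Cfsg.pCore_normal p G
      have hRP : pCore p G ≤ (P : Subgroup G) := Cfsg.Agent.Lib.Helper7.pCore_le_sylow P
      have hRnF : (groupFusionSystem (P : Subgroup G)).IsNormal (pCore p G) := by
        apply isNormal_of_controls _ _ hRP
        intro A hA
        refine ⟨hA, fun g _ => ⟨g, ?_, fun a _ => rfl⟩⟩
        rw [Subgroup.normalizer_eq_top_iff.mpr hRn]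
        exact Subgroup.mem_top g
      refine ⟨groupFusion_saturated P, pCore p G, hRnF, hRP, ?_⟩
      intro Q' hconj
      rw [eq_of_isConj_of_stronglyClosed _ (stronglyClosed_of_normal _ hRnF) hconj]
      exact centralizerIn_pCore_le hp hst P hB
    · push Not at hB
      obtain ⟨Q, hQ, hQn⟩ := hB
      have hlt : Nat.card ↥(Subgroup.normalizer (Q : Set G)) < n := by
        rw [← hn]
        have hne : Subgroup.normalizer (Q : Set G) ≠ ⊤ := by
          intro h
          exact hQn (Subgroup.normalizer_eq_top_iff.mp h)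
        have h1 := Subgroup.card_le_card_group (Subgroup.normalizer (Q : Set G))
        rcases lt_or_eq_of_le h1 with h2 | h2
        · exact h2
        · exact absurd ((Subgroup.card_eq_iff_eq_top _).mp h2) hne
      apply constrained_of_normalizer P Q hQ
      intro P'
      exact ih _ hlt ↥(Subgroup.normalizer (Q : Set G)) rfl
        (Cfsg.Agent.Lib.Helper7.isNormalizerPStable_of_injective (Subgroup.normalizer (Q : Set G)).subtype
          (Subgroup.subtype_injective _) hst) P'

end D

end Cfsg.Agent.Lib.Helper3.FPS
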