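import Mathlib
import Cfsg.Prelude.Def_FischerSpaces

set_option autoImplicit false

/-! Fischer spaces: the maps `t(x)` -/

namespace Cfsg.Agent.Lib.Helper3.FS

open Cfsg Cfsg.LineSystem

universe u v

variable {X : Type u} {Y : Type v}

/-- `z` is the third point of the line through `x ≠ y` -/
def Tr (L : Set (Set X)) (x y z : X) : Prop :=
  z ≠ x ∧ z ≠ y ∧ x ≠ y ∧ ({x, y, z} : Set X) ∈ L

theorem Tr.unique {L : Set (Set X)} (hp : IsPartialLinear L) {x y z z' : X}
    (h1 : Tr L x y z) (h2 : Tr L x y z') : z = z' := by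
  have e := hp _ h1.2.2.2 _ h2.2.2.2 x y h1.2.2.1 (by simp) (by simp) (by simp) (by simp)
  have : z ∈ ({x, y, z'} : Set X) := by rw [← e]; simp
  simp only [Set.mem_insert_iff, Set.mem_singleton_iff] at this
  rcases this with h | h | h
  · exact absurd h h1.1
  · exact absurd h h1.2.1
  · exact h

theorem Tr.swap23 {L : Set (Set X)} {x y z : X} (h : Tr L x y z) : Tr L x z y := by
  refine ⟨h.2.2.1.symm, h.2.1.symm, h.1.symm, ?_⟩
  have : ({x, z, y} : Set X) = {x, y, z} := by
    ext t; simp only [Set.mem_insert_iff, Set.mem_singleton_iff]; tauto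
  rw [this]; exact h.2.2.2

theorem Tr.swap12 {L : Set (Set X)} {x y z : X} (h : Tr L x y z) : Tr L y x z := by
  refine ⟨h.2.1, h.1, h.2.2.1.symm, ?_⟩
  have : ({y, x, z} : Set X) = {x, y, z} := by
    ext t; simp only [Set.mem_insert_iff, Set.mem_singleton_iff]; tauto
  rw [this]; exact h.2.2.2

theorem lineMap_of_Tr {L : Set (Set X)} (hp : IsPartialLinear L) {x y z : X} (h : Tr L x y z) :
    lineMap L x y = z := by
  have hex : ∃ z : X, z ≠ x ∧ z ≠ y ∧ x ≠ y ∧ ({x, y, z} : Set X) ∈ L := ⟨z, h⟩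
  unfold lineMap
  simp only [dif_pos hex]
  exact Tr.unique hp hex.choose_spec h

theorem lineMap_of_not {L : Set (Set X)} {x y : X} (h : ¬ ∃ z, Tr L x y z) :
    lineMap L x y = y := by
  have hex : ¬ ∃ z : X, z ≠ x ∧ z ≠ y ∧ x ≠ y ∧ ({x, y, z} : Set X) ∈ L := h
  unfold lineMap
  simp only [dif_neg hex]

theorem lineMap_self {L : Set (Set X)} (x : X) : lineMap L x x = x := by
  apply lineMap_of_not
  rintro ⟨z, hz⟩
  exact hz.2.2.1 rfl

theorem lineMap_invol {L : Set (Set X)} (hp : IsPartialLinear L) (x y : X) :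
    lineMap L x (lineMap L x y) = y := by
  by_cases h : ∃ z, Tr L x y z
  · obtain ⟨z, hz⟩ := h
    rw [lineMap_of_Tr hp hz, lineMap_of_Tr hp hz.swap23]
  · rw [lineMap_of_not h, lineMap_of_not h]

theorem exists_third {L : Set (Set X)} (h3 : ∀ l ∈ L, l.ncard = 3) {l : Set X} (hl : l ∈ L)
    {x y : X} (hx : x ∈ l) (hy : y ∈ l) (hxy : x ≠ y) : ∃ z, Tr L x y z ∧ l = {x, y, z} := by
  obtain ⟨a, b, c, hab, hac, hbc, rfl⟩ := Set.ncard_eq_three.mp (h3 l hl)
  have key : ∀ x y z : X, ({a, b, c} : Set X) = {x, y, z} → z ≠ x → z ≠ y → x ≠ y →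
      ∃ z, Tr L x y z ∧ ({a, b, c} : Set X) = {x, y, z} := by
    intro x y z e h1 h2 h3
    exact ⟨z, ⟨h1, h2, h3, e ▸ hl⟩, e⟩
  simp only [Set.mem_insert_iff, Set.mem_singleton_iff] at hx hy
  rcases hx with rfl | rfl | rfl <;> rcases hy with rfl | rfl | rfl
  · exact absurd rfl hxy
  · exact key _ _ c rfl hac.symm hbc.symm hab
  · refine key _ _ b ?_ hab.symm hbc hac
    ext t; simp only [Set.mem_insert_iff, Set.mem_singleton_iff]; tauto
  · refine key _ _ c ?_ hbc.symm hac.symm hab.symm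
    ext t; simp only [Set.mem_insert_iff, Set.mem_singleton_iff]; tauto
  · exact absurd rfl hxy
  · refine key _ _ a ?_ hab hac hbc
    ext t; simp only [Set.mem_insert_iff, Set.mem_singleton_iff]; tauto
  · refine key _ _ b ?_ hbc hab.symm hac.symm
    ext t; simp only [Set.mem_insert_iff, Set.mem_singleton_iff]; tauto
  · refine key _ _ a ?_ hac hab hbc.symm
    ext t; simp only [Set.mem_insert_iff, Set.mem_singleton_iff]; tauto
  · exact absurd rfl hxy

theorem exists_other {L : Set (Set X)} (h3 : ∀ l ∈ L, l.ncard = 3) {l : Set X} (hl : l ∈ L)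
    {x : X} (hx : x ∈ l) : ∃ y ∈ l, x ≠ y := by
  obtain ⟨a, b, c, hab, hac, hbc, rfl⟩ := Set.ncard_eq_three.mp (h3 l hl)
  simp only [Set.mem_insert_iff, Set.mem_singleton_iff] at hx
  rcases hx with rfl | rfl | rfl
  · exact ⟨b, by simp, hab⟩
  · exact ⟨a, by simp, hab.symm⟩
  · exact ⟨a, by simp, hac.symm⟩

/-- the permutation `t(x)` -/
noncomputable def tPerm (L : Set (Set X)) (hp : IsPartialLinear L) (x : X) : Equiv.Perm X :=
  Function.Involutive.toPerm (lineMap L x) (lineMap_invol hp x)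

theorem tPerm_apply {L : Set (Set X)} (hp : IsPartialLinear L) (x y : X) :
    tPerm L hp x y = lineMap L x y := rfl

theorem tPerm_sq {L : Set (Set X)} (hp : IsPartialLinear L) (x : X) :
    tPerm L hp x * tPerm L hp x = 1 := by
  ext y
  simp only [Equiv.Perm.coe_mul, Function.comp_apply, tPerm_apply, Equiv.Perm.coe_one, id_eq]
  exact lineMap_invol hp x y

theorem tPerm_inv {L : Set (Set X)} (hp : IsPartialLinear L) (x : X) :
    (tPerm L hp x)⁻¹ = tPerm L hp x :=
  inv_eq_of_mul_eq_one_left (tPerm_sq hp x)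

theorem tPerm_order {L : Set (Set X)} (hp : IsPartialLinear L) (h3 : ∀ l ∈ L, l.ncard = 3)
    (hnd : IsNondegenerate L) (x : X) : orderOf (tPerm L hp x) = 2 := by
  apply orderOf_eq_prime
  · rw [sq]; exact tPerm_sq hp x
  · intro h1
    obtain ⟨l, hl, hx⟩ := hnd x
    obtain ⟨y, hy, hxy⟩ := exists_other h3 hl hx
    obtain ⟨z, hz, _⟩ := exists_third h3 hl hx hy hxy
    have e1 := lineMap_of_Tr hp hz
    have e2 : tPerm L hp x y = y := by rw [h1]; rfl
    rw [tPerm_apply, e1] at e2
    exact hz.2.1 e2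

/-! ### restriction and isomorphisms -/

theorem restrict_pl {L : Set (Set X)} (hp : IsPartialLinear L) (π : Set X) :
    IsPartialLinear (restrict L π) := by
  rintro s ⟨l1, hl1, _, rfl⟩ t ⟨l2, hl2, _, rfl⟩ a b hab ha1 hb1 ha2 hb2
  have : l1 = l2 := hp l1 hl1 l2 hl2 a b (fun h => hab (Subtype.ext h)) ha1 hb1 ha2 hb2
  rw [this]

theorem iso_pl {R : Set (Set X)} {M : Set (Set Y)} {e : X ≃ Y} (he : IsIso R M e)
    (hR : IsPartialLinear R) : IsPartialLinear M := by
  intro s hs t ht a b hab ha1 hb1 ha2 hb2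
  have es : e '' (e.symm '' s) = s := by
    rw [Set.image_image]; simp
  have et : e '' (e.symm '' t) = t := by
    rw [Set.image_image]; simp
  have hs' : e.symm '' s ∈ R := (he _).mpr (by rw [es]; exact hs)
  have ht' : e.symm '' t ∈ R := (he _).mpr (by rw [et]; exact ht)
  have := hR _ hs' _ ht' (e.symm a) (e.symm b) (fun h => hab (e.symm.injective h))
    (Set.mem_image_of_mem _ ha1) (Set.mem_image_of_mem _ hb1)
    (Set.mem_image_of_mem _ ha2) (Set.mem_image_of_mem _ hb2)
  rw [← es, ← et, this]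

theorem Tr_restrict {L : Set (Set X)} {π : Set X} (p q r : π) :
    Tr (restrict L π) p q r ↔ Tr L (p : X) (q : X) (r : X) := by
  unfold Tr
  have h1 : r ≠ p ↔ (r : X) ≠ p := by simp [Subtype.ext_iff]
  have h2 : r ≠ q ↔ (r : X) ≠ q := by simp [Subtype.ext_iff]
  have h3 : p ≠ q ↔ (p : X) ≠ q := by simp [Subtype.ext_iff]
  have h4 : ({p, q, r} : Set π) ∈ restrict L π ↔ ({(p : X), (q : X), (r : X)} : Set X) ∈ L := by
    constructor
    · rintro ⟨l0, hl0, hsub, e⟩
      have : ({(p : X), (q : X), (r : X)} : Set X) = l0 := by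
        ext t
        simp only [Set.mem_insert_iff, Set.mem_singleton_iff]
        constructor
        · rintro (rfl | rfl | rfl)
          · have : p ∈ ({p, q, r} : Set π) := by simp
            rw [e] at this; exact this
          · have : q ∈ ({p, q, r} : Set π) := by simp
            rw [e] at this; exact this
          · have : r ∈ ({p, q, r} : Set π) := by simp
            rw [e] at this; exact this
        · intro ht
          have : (⟨t, hsub ht⟩ : π) ∈ ({p, q, r} : Set π) := by rw [e]; exact ht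
          simp only [Set.mem_insert_iff, Set.mem_singleton_iff, Subtype.ext_iff] at this
          exact this
      rw [this]; exact hl0
    · intro h
      refine ⟨_, h, ?_, ?_⟩
      · intro t ht
        simp only [Set.mem_insert_iff, Set.mem_singleton_iff] at ht
        rcases ht with rfl | rfl | rfl
        · exact p.2
        · exact q.2
        · exact r.2
      · ext t
        simp only [Set.mem_insert_iff, Set.mem_singleton_iff, Subtype.ext_iff, Set.mem_setOf_eq]
  rw [h1, h2, h3, h4]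

theorem lineMap_restrict {L : Set (Set X)} (hp : IsPartialLinear L) {π : Set X}
    (hπ : IsSubspace L π) (p q : π) :
    ((lineMap (restrict L π) p q : π) : X) = lineMap L (p : X) (q : X) := by
  by_cases h : ∃ r, Tr (restrict L π) p q r
  · obtain ⟨r, hr⟩ := h
    rw [lineMap_of_Tr (restrict_pl hp π) hr, lineMap_of_Tr hp ((Tr_restrict p q r).mp hr)]
  · rw [lineMap_of_not h]
    symm
    apply lineMap_of_not
    rintro ⟨r0, hr0⟩
    have hsub := hπ _ hr0.2.2.2 p p.2 q q.2 hr0.2.2.1 (by simp) (by simp)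
    have hr0π : r0 ∈ π := hsub (by simp)
    exact h ⟨⟨r0, hr0π⟩, (Tr_restrict p q ⟨r0, hr0π⟩).mpr hr0⟩

theorem Tr_iso {R : Set (Set X)} {M : Set (Set Y)} {e : X ≃ Y} (he : IsIso R M e) (a p r : X) :
    Tr R a p r ↔ Tr M (e a) (e p) (e r) := by
  unfold Tr
  have h4 : ({a, p, r} : Set X) ∈ R ↔ ({e a, e p, e r} : Set Y) ∈ M := by
    rw [he]
    rw [Set.image_insert_eq, Set.image_insert_eq, Set.image_singleton]
  rw [h4, e.injective.ne_iff, e.injective.ne_iff, e.injective.ne_iff]

theorem lineMap_iso {R : Set (Set X)} {M : Set (Set Y)} {e : X ≃ Y} (he : IsIso R M e)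
    (hR : IsPartialLinear R) (a p : X) :
    e (lineMap R a p) = lineMap M (e a) (e p) := by
  have hM := iso_pl he hR
  by_cases h : ∃ r, Tr R a p r
  · obtain ⟨r, hr⟩ := h
    rw [lineMap_of_Tr hR hr, lineMap_of_Tr hM ((Tr_iso he a p r).mp hr)]
  · rw [lineMap_of_not h]
    symm
    apply lineMap_of_not
    rintro ⟨r', hr'⟩
    apply h
    refine ⟨e.symm r', (Tr_iso he a p _).mpr ?_⟩
    rw [Equiv.apply_symm_apply]
    exact hr'

theorem image_line_of_iso {L : Set (Set X)} (hp : IsPartialLinear L) {π : Set X}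
    (hπ : IsSubspace L π) {M : Set (Set Y)} (e : π ≃ Y) (he : IsIso (restrict L π) M e)
    (hM : IsPartialLinear M → ∀ P : Y, ∀ s ∈ M, (lineMap M P) '' s ∈ M)
    {x : X} (hx : x ∈ π) {l : Set X} (hl : l ∈ L) (hlπ : l ⊆ π) : (lineMap L x) '' l ∈ L := by
  have hR := restrict_pl hp π
  have hMpl := iso_pl he hR
  set x' : π := ⟨x, hx⟩ with hx'
  set l' : Set π := {t : π | (t : X) ∈ l} with hl'
  have hl'R : l' ∈ restrict L π := ⟨l, hl, hlπ, rfl⟩
  have h1 : e '' l' ∈ M := (he l').mp hl'R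
  have h2 := hM hMpl (e x') _ h1
  have h3 : (lineMap M (e x')) '' (e '' l') = e '' ((lineMap (restrict L π) x') '' l') := by
    rw [Set.image_image, Set.image_image]
    apply Set.image_congr
    intro p _
    exact (lineMap_iso he hR x' p).symm
  rw [h3] at h2
  obtain ⟨l2, hl2, hl2π, e2⟩ := (he _).mpr h2
  have : (lineMap L x) '' l = l2 := by
    ext t
    constructor
    · rintro ⟨q, hq, rfl⟩
      have hq' : (⟨q, hlπ hq⟩ : π) ∈ l' := hq
      have hm : lineMap (restrict L π) x' ⟨q, hlπ hq⟩ ∈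
          (lineMap (restrict L π) x') '' l' := Set.mem_image_of_mem _ hq'
      rw [e2] at hm
      have := lineMap_restrict hp hπ x' ⟨q, hlπ hq⟩
      rw [← this]
      exact hm
    · intro ht
      have hm : (⟨t, hl2π ht⟩ : π) ∈ {t : π | (t : X) ∈ l2} := ht
      rw [← e2] at hm
      obtain ⟨p, hp', hpe⟩ := hm
      refine ⟨(p : X), hp', ?_⟩
      have := lineMap_restrict hp hπ x' p
      rw [← this, hpe]
  rw [this]
  exact hl2

theorem span_isSubspace (L : Set (Set X)) (S : Set X) : IsSubspace L (span L S) := by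
  intro l hl x hx y hy hxy hxl hyl t ht
  rintro T ⟨hST, hT⟩
  exact hT l hl x (hx T ⟨hST, hT⟩) y (hy T ⟨hST, hT⟩) hxy hxl hyl ht

theorem subset_span (L : Set (Set X)) (S : Set X) : S ⊆ span L S := by
  intro x hx
  rintro T ⟨hST, _⟩
  exact hST hx

end Cfsg.Agent.Lib.Helper3.FS
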