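import Mathlib
import Cfsg.Agent.Lib.Helper3.FS1

set_option autoImplicit false

/-! Fischer spaces: the maps `t(x)` in the two model planes, and the main theorem -/

namespace Cfsg.Agent.Lib.Helper3.FS

open Cfsg Cfsg.LineSystem

universe u v

/-! ### the affine plane of order three -/

theorem zmod3_a : ∀ a b : ZMod 3, a + 2 * (b - a) = -(a + b) := by decide
theorem zmod3_b : ∀ a b : ZMod 3, -(a + b) = a → a = b := by decide
theorem zmod3_c : ∀ a : ZMod 3, -(a + a) = a := by decide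
theorem zmod3_d : ∀ c : ZMod 3, c = 0 ∨ c = 1 ∨ c = 2 := by decide

theorem ag_line {P Q : Fin 2 → ZMod 3} (h : P ≠ Q) :
    ({P, Q, -(P + Q)} : Set (Fin 2 → ZMod 3)) ∈ affinePlaneThree := by
  refine ⟨P, Q - P, sub_ne_zero.mpr h.symm, ?_⟩
  ext x
  simp only [Set.mem_insert_iff, Set.mem_singleton_iff, Set.mem_setOf_eq]
  have e2 : P + (2 : ZMod 3) • (Q - P) = -(P + Q) := by
    funext i
    simp only [Pi.add_apply, Pi.neg_apply, Pi.smul_apply, Pi.sub_apply, smul_eq_mul]
    exact zmod3_a _ _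
  constructor
  · rintro (rfl | rfl | rfl)
    · exact ⟨0, by simp⟩
    · exact ⟨1, by simp⟩
    · exact ⟨2, e2.symm⟩
  · rintro ⟨c, rfl⟩
    rcases zmod3_d c with rfl | rfl | rfl
    · left; simp
    · right; left; simp
    · right; right; exact e2

theorem ag_Tr {P Q : Fin 2 → ZMod 3} (h : P ≠ Q) : Tr affinePlaneThree P Q (-(P + Q)) := by
  refine ⟨?_, ?_, h, ag_line h⟩
  · intro hh
    apply h
    funext i
    have := congrFun hh i
    simp only [Pi.add_apply, Pi.neg_apply] at this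
    exact zmod3_b _ _ this
  · intro hh
    apply h
    funext i
    have := congrFun hh i
    simp only [Pi.add_apply, Pi.neg_apply] at this
    rw [add_comm] at this
    exact (zmod3_b _ _ this).symm

theorem ag_lineMap (hpl : IsPartialLinear affinePlaneThree) (P Q : Fin 2 → ZMod 3) :
    lineMap affinePlaneThree P Q = -(P + Q) := by
  by_cases h : P = Q
  · subst h
    rw [lineMap_self]
    funext i
    simp only [Pi.add_apply, Pi.neg_apply]
    exact (zmod3_c _).symm
  · exact lineMap_of_Tr hpl (ag_Tr h)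

theorem ag_image (hpl : IsPartialLinear affinePlaneThree) (P : Fin 2 → ZMod 3)
    (s : Set (Fin 2 → ZMod 3)) (hs : s ∈ affinePlaneThree) :
    (lineMap affinePlaneThree P) '' s ∈ affinePlaneThree := by
  obtain ⟨v, w, hw, rfl⟩ := hs
  refine ⟨-(P + v), -w, neg_ne_zero.mpr hw, ?_⟩
  ext x
  simp only [Set.mem_image, Set.mem_setOf_eq]
  constructor
  · rintro ⟨_, ⟨c, rfl⟩, rfl⟩
    refine ⟨c, ?_⟩
    rw [ag_lineMap hpl, smul_neg]
    abel
  · rintro ⟨c, rfl⟩
    refine ⟨v + c • w, ⟨c, rfl⟩, ?_⟩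
    rw [ag_lineMap hpl, smul_neg]
    abel

/-! ### the dual affine plane of order two -/

/-- decidable form of the third-point relation in the dual affine plane -/
def TrD (P Q R : DualAffinePoint) : Prop :=
  R ≠ P ∧ R ≠ Q ∧ P ≠ Q ∧ ∃ i : Fin 4, i ∉ P.val ∧ i ∉ Q.val ∧ i ∉ R.val

instance (P Q R : DualAffinePoint) : Decidable (TrD P Q R) := by
  unfold TrD; infer_instance

set_option synthInstance.maxSize 10000 in
set_option synthInstance.maxHeartbeats 1000000 in
set_option maxRecDepth 100000 in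
theorem da_three : ∀ i : Fin 4, ∀ P Q R S : DualAffinePoint, i ∉ P.val → i ∉ Q.val → i ∉ R.val →
    i ∉ S.val → P ≠ Q → P ≠ R → Q ≠ R → (S = P ∨ S = Q ∨ S = R) := by
  decide

theorem Tr_da_iff (P Q R : DualAffinePoint) : Tr dualAffinePlaneTwo P Q R ↔ TrD P Q R := by
  unfold Tr TrD
  have h4 : R ≠ P → R ≠ Q → P ≠ Q → (({P, Q, R} : Set DualAffinePoint) ∈ dualAffinePlaneTwo ↔
      ∃ i : Fin 4, i ∉ P.val ∧ i ∉ Q.val ∧ i ∉ R.val) := by
    intro h1 h2 h3
    constructor
    · rintro ⟨i, hi⟩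
      refine ⟨i, ?_, ?_, ?_⟩
      · have : P ∈ ({P, Q, R} : Set DualAffinePoint) := by simp
        rw [hi] at this; exact this
      · have : Q ∈ ({P, Q, R} : Set DualAffinePoint) := by simp
        rw [hi] at this; exact this
      · have : R ∈ ({P, Q, R} : Set DualAffinePoint) := by simp
        rw [hi] at this; exact this
    · rintro ⟨i, hP, hQ, hR⟩
      refine ⟨i, ?_⟩
      ext S
      simp only [Set.mem_insert_iff, Set.mem_singleton_iff, Set.mem_setOf_eq]
      constructor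
      · rintro (rfl | rfl | rfl) <;> assumption
      · intro hS
        exact da_three i P Q R S hP hQ hR hS h3 (Ne.symm h1) (Ne.symm h2)
  constructor
  · rintro ⟨h1, h2, h3, h⟩
    exact ⟨h1, h2, h3, (h4 h1 h2 h3).mp h⟩
  · rintro ⟨h1, h2, h3, h⟩
    exact ⟨h1, h2, h3, (h4 h1 h2 h3).mpr h⟩

set_option synthInstance.maxSize 10000 in
set_option synthInstance.maxHeartbeats 1000000 in
set_option maxRecDepth 100000 in
set_option maxHeartbeats 4000000 in
theorem da_F2 : ∀ (P : DualAffinePoint) (i : Fin 4), ∃ j : Fin 4, ∀ Q' : DualAffinePoint,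
    (j ∉ Q'.val ↔ ∃ Q : DualAffinePoint, i ∉ Q.val ∧
      (TrD P Q Q' ∨ ((∀ R, ¬ TrD P Q R) ∧ Q' = Q))) := by
  decide

theorem da_image (hpl : IsPartialLinear dualAffinePlaneTwo) (P : DualAffinePoint)
    (s : Set DualAffinePoint) (hs : s ∈ dualAffinePlaneTwo) :
    (lineMap dualAffinePlaneTwo P) '' s ∈ dualAffinePlaneTwo := by
  obtain ⟨i, rfl⟩ := hs
  obtain ⟨j, hj⟩ := da_F2 P i
  refine ⟨j, ?_⟩
  ext Q'
  simp only [Set.mem_image, Set.mem_setOf_eq]
  rw [hj Q']
  constructor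
  · rintro ⟨Q, hQ, rfl⟩
    refine ⟨Q, hQ, ?_⟩
    by_cases h : ∃ R, Tr dualAffinePlaneTwo P Q R
    · obtain ⟨R, hR⟩ := h
      left
      rw [lineMap_of_Tr hpl hR]
      exact (Tr_da_iff P Q R).mp hR
    · right
      refine ⟨?_, lineMap_of_not h⟩
      intro R hR
      exact h ⟨R, (Tr_da_iff P Q R).mpr hR⟩
  · rintro ⟨Q, hQ, h | ⟨h1, rfl⟩⟩
    · exact ⟨Q, hQ, lineMap_of_Tr hpl ((Tr_da_iff P Q Q').mpr h)⟩
    · refine ⟨Q', hQ, lineMap_of_not ?_⟩
      rintro ⟨R, hR⟩
      exact h1 R ((Tr_da_iff P Q' R).mp hR)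

end Cfsg.Agent.Lib.Helper3.FS
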