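import Mathlib
import Cfsg.Agent.Lib.Helper3.FS2

set_option autoImplicit false

/-! Fischer spaces: the maps `t(x)` are automorphisms and 3-transpositions -/

namespace Cfsg.Agent.Lib.Helper3.FS

open Cfsg Cfsg.LineSystem

universe u v

variable {X : Type u}

theorem lineMap_image_mem {L : Set (Set X)} (hF : IsFischerSpace L) (x : X) {l : Set X}
    (hl : l ∈ L) : (lineMap L x) '' l ∈ L := by
  obtain ⟨hp, h3, hpl⟩ := hF
  by_cases hx : x ∈ l
  · obtain ⟨y, hy, hxy⟩ := exists_other h3 hl hx
    obtain ⟨z, hz, rfl⟩ := exists_third h3 hl hx hy hxy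
    have : (lineMap L x) '' {x, y, z} = {x, y, z} := by
      rw [Set.image_insert_eq, Set.image_insert_eq, Set.image_singleton, lineMap_self,
        lineMap_of_Tr hp hz, lineMap_of_Tr hp hz.swap23]
      ext t; simp only [Set.mem_insert_iff, Set.mem_singleton_iff]; tauto
    rw [this]; exact hl
  · by_cases hc : ∃ y ∈ l, ∃ z, Tr L x y z
    · obtain ⟨y, hy, z, hz⟩ := hc
      set m : Set X := {x, y, z} with hm
      have hmL : m ∈ L := hz.2.2.2
      have hlm : l ≠ m := by
        intro h
        apply hx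
        rw [h, hm]; simp
      have hne : (l ∩ m).Nonempty := ⟨y, hy, by rw [hm]; simp⟩
      have hπ := span_isSubspace L (l ∪ m)
      have hsub := subset_span L (l ∪ m)
      have hxπ : x ∈ span L (l ∪ m) := hsub (Or.inr (by rw [hm]; simp))
      have hlπ : l ⊆ span L (l ∪ m) := fun t ht => hsub (Or.inl ht)
      rcases hpl l hl m hmL hlm hne with ⟨e, he⟩ | ⟨e, he⟩
      · exact image_line_of_iso hp hπ e he (fun h => da_image h) hxπ hl hlπ
      · exact image_line_of_iso hp hπ e he (fun h => ag_image h) hxπ hl hlπ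
    · have : (lineMap L x) '' l = l := by
        have : ∀ y ∈ l, lineMap L x y = id y := by
          intro y hy
          apply lineMap_of_not
          rintro ⟨z, hz⟩
          exact hc ⟨y, hy, z, hz⟩
        rw [Set.image_congr this, Set.image_id]
      rw [this]; exact hl

theorem tPerm_isIso {L : Set (Set X)} (hF : IsFischerSpace L) (x : X) :
    IsIso L L (tPerm L hF.1 x) := by
  intro l
  constructor
  · intro hl
    exact lineMap_image_mem hF x hl
  · intro hl
    have := lineMap_image_mem hF x hl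
    have e : (lineMap L x) '' ((tPerm L hF.1 x) '' l) = l := by
      rw [Set.image_image]
      have : ∀ y ∈ l, lineMap L x (tPerm L hF.1 x y) = id y := by
        intro y _
        exact lineMap_invol hF.1 x y
      rw [Set.image_congr this, Set.image_id]
    rw [e] at this
    exact this

theorem tPerm_conj {L : Set (Set X)} (hp : IsPartialLinear L) {g : Equiv.Perm X}
    (hg : IsIso L L g) (y : X) : g * tPerm L hp y * g⁻¹ = tPerm L hp (g y) := by
  ext q
  simp only [Equiv.Perm.coe_mul, Function.comp_apply, tPerm_apply]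
  rw [lineMap_iso hg hp]
  congr 1
  exact Equiv.apply_symm_apply g q

theorem tPerm_three {L : Set (Set X)} (hF : IsFischerSpace L) (x y : X) :
    (tPerm L hF.1 x * tPerm L hF.1 y) ^ 2 = 1 ∨ (tPerm L hF.1 x * tPerm L hF.1 y) ^ 3 = 1 := by
  have hp := hF.1
  set a := tPerm L hF.1 x with ha
  set b := tPerm L hF.1 y with hb
  have ha2 : a * a = 1 := tPerm_sq hp x
  have hb2 : b * b = 1 := tPerm_sq hp y
  have hai : a⁻¹ = a := tPerm_inv hp x
  have hbi : b⁻¹ = b := tPerm_inv hp y
  have c1 : a * b * a⁻¹ = tPerm L hp (a y) := tPerm_conj hp (tPerm_isIso hF x) y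
  have c2 : b * a * b⁻¹ = tPerm L hp (b x) := tPerm_conj hp (tPerm_isIso hF y) x
  by_cases h : ∃ z, Tr L x y z
  · obtain ⟨z, hz⟩ := h
    right
    have e1 : a y = z := lineMap_of_Tr hp hz
    have e2 : b x = z := lineMap_of_Tr hp hz.swap12
    rw [e1, hai] at c1
    rw [e2, hbi] at c2
    have hz2 : tPerm L hp z * tPerm L hp z = 1 := tPerm_sq hp z
    calc (a * b) ^ 3 = (a * b * a) * (b * a * b) := by
          simp only [pow_succ, pow_zero, one_mul, mul_assoc]
      _ = 1 := by rw [c1, c2, hz2]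
  · left
    have e1 : a y = y := lineMap_of_not h
    rw [e1, hai] at c1
    calc (a * b) ^ 2 = (a * b * a) * b := by
          simp only [pow_succ, pow_zero, one_mul, mul_assoc]
      _ = 1 := by rw [c1]; exact hb2

theorem main {L : Set (Set X)} (hL : IsFischerSpace L) (hnd : IsNondegenerate L) :
    (∀ x : X, ∃ σ : Equiv.Perm X, ⇑σ = lineMap L x ∧ orderOf σ = 2 ∧ IsIso L L σ) ∧
      IsThreeTranspositionSet {σ : Equiv.Perm X | ∃ x : X, ⇑σ = lineMap L x} := by
  have hp := hL.1
  have h3 := hL.2.1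
  have key : ∀ σ : Equiv.Perm X, ∀ x : X, ⇑σ = lineMap L x → σ = tPerm L hp x := by
    intro σ x h
    apply DFunLike.coe_injective
    rw [h]; rfl
  refine ⟨?_, ?_, ?_⟩
  · intro x
    exact ⟨tPerm L hp x, rfl, tPerm_order hp h3 hnd x, tPerm_isIso hL x⟩
  · rintro σ ⟨x, hx⟩
    rw [key σ x hx]
    exact tPerm_order hp h3 hnd x
  · rintro σ ⟨x, hx⟩ τ ⟨y, hy⟩
    rw [key σ x hx, key τ y hy]
    exact tPerm_three hL x y

end Cfsg.Agent.Lib.Helper3.FS
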