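import Mathlib
import Cfsg.Agent.Lib.Helper3.FS2

set_option autoImplicit false

/-! Fischer spaces: building isomorphisms with the model planes -/

namespace Cfsg.Agent.Lib.Helper3.FS

open Cfsg Cfsg.LineSystem

universe u v

variable {X : Type u} {Y : Type v}

theorem span_le {L : Set (Set X)} {S T : Set X} (hST : S ⊆ T) (hT : IsSubspace L T) :
    span L S ⊆ T := by
  intro x hx
  exact hx T ⟨hST, hT⟩

theorem span_mono {L : Set (Set X)} {S T : Set X} (hST : S ⊆ T) : span L S ⊆ span L T :=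
  span_le (hST.trans (subset_span L T)) (span_isSubspace L T)

/-- an isomorphism from a parametrization respecting the third-point relation -/
theorem iso_of_Tr {L : Set (Set X)} {M : Set (Set Y)} {π : Set X} (f : Y → X)
    (h1 : ∀ P, f P ∈ π) (h2 : ∀ x ∈ π, ∃ P, f P = x) (h3 : Function.Injective f)
    (h4 : ∀ P Q R, Tr M P Q R ↔ Tr L (f P) (f Q) (f R))
    (h5 : ∀ l ∈ L, ∃ x y z, Tr L x y z ∧ l = {x, y, z})
    (h6 : ∀ l ∈ M, ∃ x y z, Tr M x y z ∧ l = {x, y, z}) :
    Isomorphic (restrict L π) M := by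
  set g : Y → π := fun P => ⟨f P, h1 P⟩ with hg
  have hgb : Function.Bijective g := by
    constructor
    · intro P Q hPQ
      apply h3
      exact congrArg Subtype.val hPQ
    · rintro ⟨x, hx⟩
      obtain ⟨P, hP⟩ := h2 x hx
      exact ⟨P, Subtype.ext hP⟩
  set e0 : Y ≃ π := Equiv.ofBijective g hgb with he0
  refine ⟨e0.symm, ?_⟩
  intro s
  have himg : e0.symm '' s = {W : Y | g W ∈ s} := by
    rw [Equiv.image_eq_preimage_symm]
    rfl
  rw [himg]
  constructor
  · rintro ⟨l0, hl0, hsub, rfl⟩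
    obtain ⟨x, y, z, hT, rfl⟩ := h5 l0 hl0
    obtain ⟨P, rfl⟩ := h2 x (hsub (by simp))
    obtain ⟨Q, rfl⟩ := h2 y (hsub (by simp))
    obtain ⟨R, rfl⟩ := h2 z (hsub (by simp))
    have hM := ((h4 P Q R).mpr hT).2.2.2
    have : {W : Y | g W ∈ {t : π | (t : X) ∈ ({f P, f Q, f R} : Set X)}} = {P, Q, R} := by
      ext W
      simp only [Set.mem_setOf_eq, Set.mem_insert_iff, Set.mem_singleton_iff, hg]
      rw [h3.eq_iff, h3.eq_iff, h3.eq_iff]
    rw [this]
    exact hM
  · intro hs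
    obtain ⟨P, Q, R, hT, hPQR⟩ := h6 _ hs
    have hT' := (h4 P Q R).mp hT
    refine ⟨{f P, f Q, f R}, hT'.2.2.2, ?_, ?_⟩
    · intro t ht
      simp only [Set.mem_insert_iff, Set.mem_singleton_iff] at ht
      rcases ht with rfl | rfl | rfl
      · exact h1 P
      · exact h1 Q
      · exact h1 R
    · ext t
      obtain ⟨W, rfl⟩ := hgb.2 t
      have : g W ∈ s ↔ W ∈ ({P, Q, R} : Set Y) := by
        rw [← hPQR]; rfl
      rw [this]
      simp only [Set.mem_setOf_eq, Set.mem_insert_iff, Set.mem_singleton_iff, hg]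
      rw [h3.eq_iff, h3.eq_iff, h3.eq_iff]

/-! ### lines of the models -/

theorem zmod3_e : ∀ c1 c2 c3 : ZMod 3, c1 ≠ c2 → c1 ≠ c3 → c2 ≠ c3 → c1 + c2 + c3 = 0 := by decide
theorem zmod3_f : ∀ a : ZMod 3, a + a + a = 0 := by decide

theorem ag_Tr_iff (P Q R : Fin 2 → ZMod 3) :
    Tr affinePlaneThree P Q R ↔ P ≠ Q ∧ R = -(P + Q) := by
  constructor
  · rintro ⟨h1, h2, h3, v, w, hw, hl⟩
    refine ⟨h3, ?_⟩
    have hP : P ∈ ({P, Q, R} : Set (Fin 2 → ZMod 3)) := by simp
    have hQ : Q ∈ ({P, Q, R} : Set (Fin 2 → ZMod 3)) := by simp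
    have hR : R ∈ ({P, Q, R} : Set (Fin 2 → ZMod 3)) := by simp
    rw [hl] at hP hQ hR
    obtain ⟨c1, rfl⟩ := hP
    obtain ⟨c2, rfl⟩ := hQ
    obtain ⟨c3, rfl⟩ := hR
    have n12 : c1 ≠ c2 := fun h => h3 (by rw [h])
    have n13 : c1 ≠ c3 := fun h => h1 (by rw [h])
    have n23 : c2 ≠ c3 := fun h => h2 (by rw [h])
    have hs := zmod3_e c1 c2 c3 n12 n13 n23
    have hv : v + v + v = 0 := by
      funext i
      simp only [Pi.add_apply, Pi.zero_apply]
      exact zmod3_f _
    have : (v + c1 • w) + (v + c2 • w) + (v + c3 • w) = 0 := by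
      have e : (v + c1 • w) + (v + c2 • w) + (v + c3 • w) = (v + v + v) + (c1 + c2 + c3) • w := by
        rw [add_smul, add_smul]; abel
      rw [e, hv, hs, zero_smul, add_zero]
    exact eq_neg_of_add_eq_zero_right this
  · rintro ⟨h, rfl⟩
    exact ag_Tr h

theorem ag_lines (l : Set (Fin 2 → ZMod 3)) (hl : l ∈ affinePlaneThree) :
    ∃ x y z, Tr affinePlaneThree x y z ∧ l = {x, y, z} := by
  obtain ⟨v, w, hw, rfl⟩ := hl
  have hne : v ≠ v + w := by
    intro h
    apply hw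
    have : v + w = v + 0 := by rw [add_zero]; exact h.symm
    exact add_left_cancel this
  refine ⟨v, v + w, -(v + (v + w)), ag_Tr hne, ?_⟩
  have hT := ag_line hne
  obtain ⟨v', w', hw', hl'⟩ := hT
  -- direct computation instead
  ext x
  simp only [Set.mem_setOf_eq, Set.mem_insert_iff, Set.mem_singleton_iff]
  have e2 : v + (2 : ZMod 3) • w = -(v + (v + w)) := by
    funext i
    simp only [Pi.add_apply, Pi.neg_apply, Pi.smul_apply, smul_eq_mul]
    generalize v i = a
    generalize w i = b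
    revert a b
    decide
  constructor
  · rintro ⟨c, rfl⟩
    rcases zmod3_d c with rfl | rfl | rfl
    · left; simp
    · right; left; simp
    · right; right; exact e2
  · rintro (rfl | rfl | rfl)
    · exact ⟨0, by simp⟩
    · exact ⟨1, by simp⟩
    · exact ⟨2, e2.symm⟩

set_option synthInstance.maxSize 10000 in
set_option synthInstance.maxHeartbeats 1000000 in
set_option maxRecDepth 100000 in
theorem da_lines_aux : ∀ i : Fin 4, ∃ P Q R : DualAffinePoint, TrD P Q R ∧
    ∀ S : DualAffinePoint, i ∉ S.val ↔ (S = P ∨ S = Q ∨ S = R) := by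
  decide

theorem da_lines (l : Set DualAffinePoint) (hl : l ∈ dualAffinePlaneTwo) :
    ∃ x y z, Tr dualAffinePlaneTwo x y z ∧ l = {x, y, z} := by
  obtain ⟨i, rfl⟩ := hl
  obtain ⟨P, Q, R, hT, hS⟩ := da_lines_aux i
  refine ⟨P, Q, R, (Tr_da_iff P Q R).mpr hT, ?_⟩
  ext S
  simp only [Set.mem_setOf_eq, Set.mem_insert_iff, Set.mem_singleton_iff]
  exact hS S

end Cfsg.Agent.Lib.Helper3.FS
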