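import Mathlib
import Cfsg.Agent.Lib.Helper3.FS4
import Cfsg.Agent.Lib.Helper3.TT2

set_option autoImplicit false

/-! The line system of a set of 3-transpositions: basics -/

namespace Cfsg.Agent.Lib.Helper3.FS

open Cfsg Cfsg.LineSystem Cfsg.Agent.Lib.Helper3.TT

universe u

variable {G : Type u} [Group G] {D : Set G}

/-- conjugation -/
def cj (x y : G) : G := x * y * x⁻¹

theorem cj_cj (x y w : G) : cj x (cj y w) = cj (cj x y) (cj x w) := by unfold cj; group

theorem cj_self (x : G) : cj x x = x := by unfold cj; group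

theorem cj_mul (x y w : G) : cj (x * y) w = cj x (cj y w) := by unfold cj; group

theorem cj_invol (h : TSet D) {x : G} (hx : x ∈ D) (w : G) : cj x (cj x w) = w := by
  rw [← cj_mul, h.sq x hx]
  unfold cj; group

theorem cj_comm (h : TSet D) {x y : G} (hx : x ∈ D) (hy : y ∈ D) (hxy : x * y ≠ y * x) :
    cj x y = cj y x := by
  unfold cj
  rw [h.inv hx, h.inv hy]
  exact h.braid hx hy hxy

theorem cj_mem (h : TSet D) (x : G) {y : G} (hy : y ∈ D) : cj x y ∈ D := h.conj x y hy

theorem cj_eq_iff (x y : G) : cj x y = y ↔ x * y = y * x := by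
  unfold cj
  constructor
  · intro hh
    calc x * y = x * y * x⁻¹ * x := by group
      _ = y * x := by rw [hh]
  · intro hh
    rw [hh]; group

theorem cj_injective (x : G) : Function.Injective (cj x) := by
  intro y w hyw
  unfold cj at hyw
  simpa using hyw

theorem cj_conj_comm (g x y : G) : cj g x * cj g y = cj g y * cj g x ↔ x * y = y * x := by
  unfold cj
  exact comm_conj_iff g

theorem cj_swap (h : TSet D) {x : G} (hx : x ∈ D) {y w : G} (hh : cj x y = w) : cj x w = y := by
  rw [← hh, cj_invol h hx]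

/-- the third-point relation of the line system of `D` -/
theorem Tr_lines_of (h : TSet D) {p q r : D} (hc : (p : G) * q ≠ q * p)
    (hr : (r : G) = cj (q : G) (p : G)) : Tr (threeTranspositionLines D) p q r := by
  have hrp : r ≠ p := by
    intro hh
    apply hc
    have : cj (q : G) (p : G) = p := by rw [← hr, hh]
    exact ((cj_eq_iff _ _).mp this).symm
  have hrq : r ≠ q := by
    intro hh
    apply hc
    have : cj (q : G) (p : G) = cj (q : G) (q : G) := by rw [← hr, hh, cj_self]
    rw [cj_injective _ this]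
  have hpq : p ≠ q := by
    intro hh
    apply hc
    rw [hh]
  refine ⟨hrp, hrq, hpq, p, q, ?_, ?_⟩
  · intro hcm
    exact hc hcm.eq
  · ext z
    simp only [Set.mem_insert_iff, Set.mem_singleton_iff, Set.mem_setOf_eq, Subtype.ext_iff]
    rw [hr]
    rfl

/-- the table of the three involutions of `⟨x, y⟩` -/
theorem s3_table (h : TSet D) {x y : G} (hx : x ∈ D) (hy : y ∈ D) (hxy : x * y ≠ y * x) :
    x ≠ y ∧ cj y x ≠ x ∧ cj y x ≠ y ∧ cj x y = cj y x ∧ cj x (cj y x) = y ∧
      cj (cj y x) x = y ∧ cj y (cj y x) = x ∧ cj (cj y x) y = x := by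
  have hyx : y * x ≠ x * y := fun hh => hxy hh.symm
  have hz : cj y x ∈ D := cj_mem h y hx
  have e1 : cj x y = cj y x := cj_comm h hx hy hxy
  have e2 : cj x (cj y x) = y := by rw [← e1, cj_invol h hx]
  have e3 : cj y (cj y x) = x := cj_invol h hy x
  have n1 : x ≠ y := fun hh => hxy (by rw [hh])
  have n2 : cj y x ≠ x := fun hh => hyx ((cj_eq_iff _ _).mp hh)
  have n3 : cj y x ≠ y := by
    intro hh
    have : cj y x = cj y y := by rw [hh, cj_self]
    exact n1 (cj_injective _ this)
  have c1 : x * cj y x ≠ cj y x * x := by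
    intro hh
    have := (cj_eq_iff _ _).mpr hh
    rw [e2] at this
    exact n3 this.symm
  have c2 : y * cj y x ≠ cj y x * y := by
    intro hh
    have := (cj_eq_iff _ _).mpr hh
    rw [e3] at this
    exact n2 this.symm
  have e4 : cj (cj y x) x = y := by rw [← cj_comm h hx hz c1, e2]
  have e5 : cj (cj y x) y = x := by rw [← cj_comm h hy hz c2, e3]
  exact ⟨n1, n2, n3, e1, e2, e4, e3, e5⟩

theorem Tr_lines_iff (h : TSet D) (p q r : D) :
    Tr (threeTranspositionLines D) p q r ↔
      ((p : G) * q ≠ q * p ∧ (r : G) = cj (q : G) (p : G)) := by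
  constructor
  · rintro ⟨h1, h2, h3, x, y, hxy, hl⟩
    have hxy' : (x : G) * y ≠ y * x := fun hh => hxy hh
    obtain ⟨n1, n2, n3, e1, e2, e4, e3, e5⟩ := s3_table h x.2 y.2 hxy'
    have hP : p ∈ ({p, q, r} : Set D) := by simp
    have hQ : q ∈ ({p, q, r} : Set D) := by simp
    have hR : r ∈ ({p, q, r} : Set D) := by simp
    rw [hl] at hP hQ hR
    simp only [Set.mem_setOf_eq] at hP hQ hR
    have g1 : (r : G) ≠ p := fun hh => h1 (Subtype.ext hh)
    have g2 : (r : G) ≠ q := fun hh => h2 (Subtype.ext hh)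
    have g3 : (p : G) ≠ q := fun hh => h3 (Subtype.ext hh)
    have hz : (y : G) * x * (y : G)⁻¹ = cj (y : G) (x : G) := rfl
    rw [hz] at hP hQ hR
    -- the commutation facts
    have key : ∀ s t : G, cj t s ≠ s → s * t ≠ t * s := by
      intro s t hh hc
      exact hh ((cj_eq_iff _ _).mpr hc.symm)
    rcases hP with hP | hP | hP <;> rcases hQ with hQ | hQ | hQ <;>
      rcases hR with hR | hR | hR
    all_goals first
      | exact absurd (hP.trans hQ.symm) g3
      | exact absurd (hR.trans hP.symm) g1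
      | exact absurd (hR.trans hQ.symm) g2
      | skip
    · -- p = x, q = y, r = z
      rw [hP, hQ, hR]
      exact ⟨hxy', rfl⟩
    · -- p = x, q = z, r = y
      rw [hP, hQ, hR]
      refine ⟨key _ _ ?_, e4.symm⟩
      rw [e4]; exact n1.symm
    · -- p = y, q = x, r = z
      rw [hP, hQ, hR]
      exact ⟨fun hh => hxy' hh.symm, e1.symm⟩
    · -- p = y, q = z, r = x
      rw [hP, hQ, hR]
      refine ⟨key _ _ ?_, e5.symm⟩
      rw [e5]; exact n1
    · -- p = z, q = x, r = y
      rw [hP, hQ, hR]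
      refine ⟨key _ _ ?_, e2.symm⟩
      rw [e2]; exact n3.symm
    · -- p = z, q = y, r = x
      rw [hP, hQ, hR]
      refine ⟨key _ _ ?_, e3.symm⟩
      rw [e3]; exact n2.symm
  · rintro ⟨hc, hr⟩
    exact Tr_lines_of h hc hr

theorem lines_form (h : TSet D) (l : Set D) (hl : l ∈ threeTranspositionLines D) :
    ∃ x y z, Tr (threeTranspositionLines D) x y z ∧ l = {x, y, z} := by
  obtain ⟨x, y, hxy, rfl⟩ := hl
  have hxy' : (x : G) * y ≠ y * x := fun hh => hxy hh
  set z : D := ⟨cj (y : G) (x : G), cj_mem h _ x.2⟩ with hz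
  refine ⟨x, y, z, Tr_lines_of h hxy' rfl, ?_⟩
  ext t
  simp only [Set.mem_insert_iff, Set.mem_singleton_iff, Set.mem_setOf_eq, Subtype.ext_iff]
  rfl

theorem lines_ncard (h : TSet D) (l : Set D) (hl : l ∈ threeTranspositionLines D) :
    l.ncard = 3 := by
  obtain ⟨x, y, z, hT, rfl⟩ := lines_form h l hl
  exact Set.ncard_eq_three.mpr ⟨x, y, z, hT.2.2.1, hT.1.symm, hT.2.1.symm, rfl⟩

theorem lines_pl (h : TSet D) : IsPartialLinear (threeTranspositionLines D) := by
  intro l hl m hm a b hab hal hbl ham hbm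
  obtain ⟨r1, hT1, rfl⟩ := exists_third (lines_ncard h) hl hal hbl hab
  obtain ⟨r2, hT2, rfl⟩ := exists_third (lines_ncard h) hm ham hbm hab
  have e1 := ((Tr_lines_iff h a b r1).mp hT1).2
  have e2 := ((Tr_lines_iff h a b r2).mp hT2).2
  have : r1 = r2 := Subtype.ext (e1.trans e2.symm)
  rw [this]

end Cfsg.Agent.Lib.Helper3.FS
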