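import Mathlib

set_option autoImplicit false

/-! The Coxeter presentation of the symmetric group of degree 4. -/

namespace Cfsg.Agent.Lib.Helper3.S4C

open Equiv

universe u

/-- a group generated by three involutions `a, b, c` satisfying the `A₃` braid relations has at most
24 elements -/
theorem card_le_of_relations {H : Type u} [Group H] {a b c : H} (ha : a * a = 1) (hb : b * b = 1)
    (hc : c * c = 1) (hab : a * b * a = b * a * b) (hbc : b * c * b = c * b * c)
    (hac : a * c = c * a) (hgen : Subgroup.closure ({a, b, c} : Set H) = ⊤) :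
    Finite H ∧ Nat.card H ≤ 24 := by
  classical
  set K : Finset H := {1, a, b, a * b, b * a, a * b * a} with hK
  set T : Finset H := {1, c, b * c, a * b * c} with hT
  set S : Finset H := Finset.image₂ (· * ·) T K with hS
  have K1 : (1 : H) ∈ K := by simp [hK]
  have Ka : a ∈ K := by simp [hK]
  have Kb : b ∈ K := by simp [hK]
  have Kab : a * b ∈ K := by simp [hK]
  have Kba : b * a ∈ K := by simp [hK]
  have Kaba : a * b * a ∈ K := by simp [hK]
  have T1 : (1 : H) ∈ T := by simp [hT]
  have Tc : c ∈ T := by simp [hT]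
  have Tbc : b * c ∈ T := by simp [hT]
  have Tabc : a * b * c ∈ T := by simp [hT]
  have memS : ∀ t ∈ T, ∀ k ∈ K, t * k ∈ S := fun t ht k hk => Finset.mem_image₂_of_mem ht hk
  have hKa : ∀ k ∈ K, a * k ∈ K := by
    intro k hk
    simp only [hK, Finset.mem_insert, Finset.mem_singleton] at hk
    rcases hk with rfl | rfl | rfl | rfl | rfl | rfl
    · rw [mul_one]; exact Ka
    · rw [ha]; exact K1
    · exact Kab
    · rw [← mul_assoc, ha, one_mul]; exact Kb
    · rw [← mul_assoc]; exact Kaba
    · have : a * (a * b * a) = b * a := by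
        rw [← mul_assoc, ← mul_assoc, ha, one_mul]
      rw [this]; exact Kba
  have hKb : ∀ k ∈ K, b * k ∈ K := by
    intro k hk
    simp only [hK, Finset.mem_insert, Finset.mem_singleton] at hk
    rcases hk with rfl | rfl | rfl | rfl | rfl | rfl
    · rw [mul_one]; exact Kb
    · exact Kba
    · rw [hb]; exact K1
    · rw [← mul_assoc, ← hab]; exact Kaba
    · rw [← mul_assoc, hb, one_mul]; exact Ka
    · have : b * (a * b * a) = a * b := by
        rw [hab, ← mul_assoc, ← mul_assoc, hb, one_mul]
      rw [this]; exact Kab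
  have hSa : ∀ s ∈ S, a * s ∈ S := by
    intro s hs
    obtain ⟨t, ht, k, hk, rfl⟩ := Finset.mem_image₂.mp hs
    simp only [hT, Finset.mem_insert, Finset.mem_singleton] at ht
    rcases ht with ht | ht | ht | ht <;> rw [ht]
    · have : a * (1 * k) = 1 * (a * k) := by simp
      rw [this]; exact memS _ T1 _ (hKa k hk)
    · have : a * (c * k) = c * (a * k) := by rw [← mul_assoc, hac, mul_assoc]
      rw [this]; exact memS _ Tc _ (hKa k hk)
    · have : a * (b * c * k) = (a * b * c) * k := by simp [mul_assoc]
      rw [this]; exact memS _ Tabc _ hk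
    · have : a * (a * b * c * k) = (b * c) * k := by
        have : a * (a * b * c * k) = (a * a) * (b * c * k) := by simp [mul_assoc]
        rw [this, ha, one_mul]
      rw [this]; exact memS _ Tbc _ hk
  have hSb : ∀ s ∈ S, b * s ∈ S := by
    intro s hs
    obtain ⟨t, ht, k, hk, rfl⟩ := Finset.mem_image₂.mp hs
    simp only [hT, Finset.mem_insert, Finset.mem_singleton] at ht
    rcases ht with ht | ht | ht | ht <;> rw [ht]
    · have : b * (1 * k) = 1 * (b * k) := by simp
      rw [this]; exact memS _ T1 _ (hKb k hk)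
    · have : b * (c * k) = (b * c) * k := by simp [mul_assoc]
      rw [this]; exact memS _ Tbc _ hk
    · have : b * (b * c * k) = c * k := by
        have : b * (b * c * k) = (b * b) * (c * k) := by simp [mul_assoc]
        rw [this, hb, one_mul]
      rw [this]; exact memS _ Tc _ hk
    · have : b * (a * b * c * k) = (a * b * c) * (a * k) := by
        calc b * (a * b * c * k) = (b * a * b) * (c * k) := by simp [mul_assoc]
          _ = (a * b * a) * (c * k) := by rw [hab]
          _ = a * b * (a * c) * k := by simp [mul_assoc]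
          _ = a * b * (c * a) * k := by rw [hac]
          _ = (a * b * c) * (a * k) := by simp [mul_assoc]
      rw [this]; exact memS _ Tabc _ (hKa k hk)
  have hSc : ∀ s ∈ S, c * s ∈ S := by
    intro s hs
    obtain ⟨t, ht, k, hk, rfl⟩ := Finset.mem_image₂.mp hs
    simp only [hT, Finset.mem_insert, Finset.mem_singleton] at ht
    rcases ht with ht | ht | ht | ht <;> rw [ht]
    · have : c * (1 * k) = c * k := by simp
      rw [this]; exact memS _ Tc _ hk
    · have : c * (c * k) = 1 * k := by rw [← mul_assoc, hc]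
      rw [this]; exact memS _ T1 _ hk
    · have : c * (b * c * k) = (b * c) * (b * k) := by
        calc c * (b * c * k) = (c * b * c) * k := by simp [mul_assoc]
          _ = (b * c * b) * k := by rw [hbc]
          _ = (b * c) * (b * k) := by simp [mul_assoc]
      rw [this]; exact memS _ Tbc _ (hKb k hk)
    · have : c * (a * b * c * k) = (a * b * c) * (b * k) := by
        calc c * (a * b * c * k) = (c * a) * (b * c * k) := by simp [mul_assoc]
          _ = (a * c) * (b * c * k) := by rw [hac]
          _ = a * (c * b * c) * k := by simp [mul_assoc]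
          _ = a * (b * c * b) * k := by rw [hbc]
          _ = (a * b * c) * (b * k) := by simp [mul_assoc]
      rw [this]; exact memS _ Tabc _ (hKb k hk)
  have hinva : a⁻¹ = a := inv_eq_of_mul_eq_one_left ha
  have hinvb : b⁻¹ = b := inv_eq_of_mul_eq_one_left hb
  have hinvc : c⁻¹ = c := inv_eq_of_mul_eq_one_left hc
  have hall : ∀ h : H, h ∈ S := by
    intro h
    have hh : h ∈ Subgroup.closure ({a, b, c} : Set H) := by rw [hgen]; trivial
    induction hh using Subgroup.closure_induction_left with
    | one =>
      have : (1 : H) = 1 * 1 := by simp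
      rw [this]; exact memS _ T1 _ K1
    | mul_left x hx y _ ih =>
      simp only [Set.mem_insert_iff, Set.mem_singleton_iff] at hx
      rcases hx with rfl | rfl | rfl
      · exact hSa y ih
      · exact hSb y ih
      · exact hSc y ih
    | inv_mul_cancel x hx y _ ih =>
      simp only [Set.mem_insert_iff, Set.mem_singleton_iff] at hx
      rcases hx with rfl | rfl | rfl
      · rw [hinva]; exact hSa y ih
      · rw [hinvb]; exact hSb y ih
      · rw [hinvc]; exact hSc y ih
  have hfin : Finite H := by
    apply Finite.of_injective (fun h : H => (⟨h, hall h⟩ : {x // x ∈ S}))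
    intro x y hxy
    exact congrArg Subtype.val hxy
  refine ⟨hfin, ?_⟩
  have h1 : Nat.card H ≤ S.card := by
    have := Nat.card_le_card_of_injective (fun h : H => (⟨h, hall h⟩ : {x // x ∈ S}))
      (by intro x y hxy; exact congrArg Subtype.val hxy)
    simpa using this
  have h2 : S.card ≤ T.card * K.card := Finset.card_image₂_le _ _ _
  have h3 : T.card ≤ 4 := Finset.card_le_four
  have h4 : K.card ≤ 6 := Finset.card_le_six
  calc Nat.card H ≤ S.card := h1
    _ ≤ T.card * K.card := h2
    _ ≤ 4 * 6 := Nat.mul_le_mul h3 h4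
    _ = 24 := by norm_num

theorem braid_of_cube {H : Type u} [Group H] {a b : H} (ha : a * a = 1) (hb : b * b = 1)
    (h3 : (a * b) ^ 3 = 1) : a * b * a = b * a * b := by
  have hinva : a⁻¹ = a := inv_eq_of_mul_eq_one_left ha
  have hinvb : b⁻¹ = b := inv_eq_of_mul_eq_one_left hb
  have : a * b * a * (b * a * b)⁻¹ = 1 := by
    rw [mul_inv_rev, mul_inv_rev, hinva, hinvb]
    rw [pow_succ, pow_two] at h3
    calc a * b * a * (b * (a * b)) = a * b * (a * b) * (a * b) := by group
      _ = 1 := h3
  exact mul_inv_eq_one.mp this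

theorem comm_of_sq {H : Type u} [Group H] {a b : H} (ha : a * a = 1) (hb : b * b = 1)
    (h2 : (a * b) ^ 2 = 1) : a * b = b * a := by
  rw [pow_two] at h2
  calc a * b = a * b * ((a * b) * (b * a)) := by
        have : (a * b) * (b * a) = a * (b * b) * a := by group
        rw [this, hb, mul_one, ha, mul_one]
    _ = (a * b * (a * b)) * (b * a) := by group
    _ = b * a := by rw [h2, one_mul]

/-- the Coxeter matrix of type `A₃` -/
abbrev M3 : CoxeterMatrix (Fin 3) := CoxeterMatrix.A 3

/-- its Coxeter system -/
noncomputable def cs3 : CoxeterSystem M3 M3.Group := M3.toCoxeterSystem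

theorem M3_01 : M3 0 1 = 3 := by decide
theorem M3_12 : M3 1 2 = 3 := by decide
theorem M3_02 : M3 0 2 = 2 := by decide

/-- the adjacent transpositions of `Fin 4` -/
def adj (i : Fin 3) : Perm (Fin 4) := swap i.castSucc i.succ

theorem adj_liftable : M3.IsLiftable adj := by
  intro i i'
  fin_cases i <;> fin_cases i' <;> decide

/-- the canonical map from the Coxeter group to the symmetric group -/
noncomputable def toPerm : M3.Group →* Perm (Fin 4) := cs3.lift ⟨adj, adj_liftable⟩

theorem toPerm_simple (i : Fin 3) : toPerm (cs3.simple i) = adj i :=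
  cs3.lift_apply_simple adj_liftable i

theorem toPerm_surjective : Function.Surjective toPerm := by
  rw [← MonoidHom.range_eq_top]
  have h1 : Subgroup.closure (Set.range adj) = ⊤ :=
    Subgroup.closure_eq_top_of_mclosure_eq_top (Equiv.Perm.mclosure_swap_castSucc_succ 3)
  rw [eq_top_iff, ← h1, Subgroup.closure_le]
  rintro _ ⟨i, rfl⟩
  exact ⟨cs3.simple i, toPerm_simple i⟩

theorem group_card : Finite M3.Group ∧ Nat.card M3.Group ≤ 24 := by
  have h0 := cs3.simple_mul_simple_self 0
  have h1 := cs3.simple_mul_simple_self 1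
  have h2 := cs3.simple_mul_simple_self 2
  have h01 := cs3.simple_mul_simple_pow 0 1
  have h12 := cs3.simple_mul_simple_pow 1 2
  have h02 := cs3.simple_mul_simple_pow 0 2
  rw [M3_01] at h01
  rw [M3_12] at h12
  rw [M3_02] at h02
  apply card_le_of_relations h0 h1 h2 (braid_of_cube h0 h1 h01) (braid_of_cube h1 h2 h12)
    (comm_of_sq h0 h2 h02)
  rw [← cs3.subgroup_closure_range_simple]
  congr 1
  ext x
  simp only [Set.mem_insert_iff, Set.mem_singleton_iff, Set.mem_range]
  constructor
  · rintro (rfl | rfl | rfl)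
    · exact ⟨0, rfl⟩
    · exact ⟨1, rfl⟩
    · exact ⟨2, rfl⟩
  · rintro ⟨i, rfl⟩
    fin_cases i
    · left; rfl
    · right; left; rfl
    · right; right; rfl

theorem toPerm_bijective : Function.Bijective toPerm := by
  obtain ⟨hfin, hcard⟩ := group_card
  rw [Nat.bijective_iff_surjective_and_card]
  refine ⟨toPerm_surjective, ?_⟩
  have h1 : Nat.card (Perm (Fin 4)) = 24 := by
    rw [Nat.card_eq_fintype_card, Fintype.card_perm]
    rfl
  have h2 : Nat.card (Perm (Fin 4)) ≤ Nat.card M3.Group :=
    Nat.card_le_card_of_surjective _ toPerm_surjective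
  omega

/-- the Coxeter group of type `A₃` is the symmetric group of degree 4 -/
noncomputable def equivPerm : M3.Group ≃* Perm (Fin 4) :=
  MulEquiv.ofBijective toPerm toPerm_bijective

theorem equivPerm_simple (i : Fin 3) : equivPerm (cs3.simple i) = adj i := toPerm_simple i

theorem equivPerm_symm_adj (i : Fin 3) : equivPerm.symm (adj i) = cs3.simple i := by
  rw [MulEquiv.symm_apply_eq, equivPerm_simple]

set_option maxRecDepth 100000 in
theorem exists_conj_prod : ∀ σ : Perm (Fin 4), σ ≠ 1 → ∃ g h : Perm (Fin 4),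
    (g * σ * g⁻¹) * (h * σ * h⁻¹) = swap 0 1 * swap 2 3 := by
  decide

/-- **recognition of `S₄`**: three involutions satisfying the braid relations of type `A₃`, with
`a ≠ c`, generate a copy of the symmetric group of degree 4. -/
theorem exists_hom_of_relations {G : Type u} [Group G] {a b c : G} (ha : a * a = 1)
    (hb : b * b = 1) (hc : c * c = 1) (hab : (a * b) ^ 3 = 1) (hbc : (b * c) ^ 3 = 1)
    (hac : a * c = c * a) (hne : a ≠ c) :
    ∃ φ : Perm (Fin 4) →* G, Function.Injective φ ∧ φ (swap 0 1) = a ∧ φ (swap 1 2) = b ∧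
      φ (swap 2 3) = c := by
  let f : Fin 3 → G := ![a, b, c]
  have hf : M3.IsLiftable f := by
    intro i i'
    have hac2 : (a * c) ^ 2 = 1 := by
      rw [pow_two]
      calc a * c * (a * c) = a * (c * a) * c := by group
        _ = a * (a * c) * c := by rw [hac]
        _ = (a * a) * (c * c) := by group
        _ = 1 := by rw [ha, hc, one_mul]
    have hba : (b * a) ^ 3 = 1 := by
      have : b * a = (a * b)⁻¹ := by
        rw [mul_inv_rev, inv_eq_of_mul_eq_one_left ha, inv_eq_of_mul_eq_one_left hb]
      rw [this, inv_pow, hab, inv_one]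
    have hcb : (c * b) ^ 3 = 1 := by
      have : c * b = (b * c)⁻¹ := by
        rw [mul_inv_rev, inv_eq_of_mul_eq_one_left hb, inv_eq_of_mul_eq_one_left hc]
      rw [this, inv_pow, hbc, inv_one]
    have hca2 : (c * a) ^ 2 = 1 := by rw [← hac]; exact hac2
    fin_cases i <;> fin_cases i'
    · show (a * a) ^ (M3 0 0) = 1
      rw [ha, one_pow]
    · show (a * b) ^ (M3 0 1) = 1
      rw [M3_01]; exact hab
    · show (a * c) ^ (M3 0 2) = 1
      rw [M3_02]; exact hac2
    · show (b * a) ^ (M3 1 0) = 1
      rw [M3.symmetric 1 0, M3_01]; exact hba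
    · show (b * b) ^ (M3 1 1) = 1
      rw [hb, one_pow]
    · show (b * c) ^ (M3 1 2) = 1
      rw [M3_12]; exact hbc
    · show (c * a) ^ (M3 2 0) = 1
      rw [M3.symmetric 2 0, M3_02]; exact hca2
    · show (c * b) ^ (M3 2 1) = 1
      rw [M3.symmetric 2 1, M3_12]; exact hcb
    · show (c * c) ^ (M3 2 2) = 1
      rw [hc, one_pow]
  let ψ : M3.Group →* G := cs3.lift ⟨f, hf⟩
  have hψ : ∀ i, ψ (cs3.simple i) = f i := fun i => cs3.lift_apply_simple hf i
  let φ : Perm (Fin 4) →* G := ψ.comp equivPerm.symm.toMonoidHom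
  have hφ : ∀ i, φ (adj i) = f i := by
    intro i
    show ψ (equivPerm.symm (adj i)) = f i
    rw [equivPerm_symm_adj, hψ]
  have e0 : adj 0 = swap 0 1 := rfl
  have e1 : adj 1 = swap 1 2 := rfl
  have e2 : adj 2 = swap 2 3 := rfl
  have h0 : φ (swap 0 1) = a := by rw [← e0, hφ]; rfl
  have h1 : φ (swap 1 2) = b := by rw [← e1, hφ]; rfl
  have h2 : φ (swap 2 3) = c := by rw [← e2, hφ]; rfl
  refine ⟨φ, ?_, h0, h1, h2⟩
  rw [injective_iff_map_eq_one]
  intro σ hσ
  by_contra hne1
  obtain ⟨g, h, hgh⟩ := exists_conj_prod σ hne1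
  have := congrArg φ hgh
  rw [map_mul, map_mul, map_mul, map_mul, map_mul, map_mul, hσ, h0, h2] at this
  simp only [mul_one, map_inv, mul_inv_cancel] at this
  apply hne
  have hinvc : c⁻¹ = c := inv_eq_of_mul_eq_one_left hc
  rw [← hinvc]
  exact eq_inv_of_mul_eq_one_left this.symm

end Cfsg.Agent.Lib.Helper3.S4C
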