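import Mathlib
import Cfsg.Agent.Lib.Helper3.FS5
import Cfsg.Agent.Lib.Helper3.S4Cox

set_option autoImplicit false

/-! The line system of a set of 3-transpositions: planes of symmetric type -/

namespace Cfsg.Agent.Lib.Helper3.FS

open Cfsg Cfsg.LineSystem Cfsg.Agent.Lib.Helper3.TT Equiv

universe u

variable {G : Type u} [Group G] {D : Set G}

/-- the transposition attached to a two-element subset of `Fin 4` -/
def tauP (P : DualAffinePoint) : Perm (Fin 4) :=
  if (0 : Fin 4) ∈ P.val then
    (if (1 : Fin 4) ∈ P.val then swap 0 1 else if (2 : Fin 4) ∈ P.val then swap 0 2 else swap 0 3)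
  else if (1 : Fin 4) ∈ P.val then
    (if (2 : Fin 4) ∈ P.val then swap 1 2 else swap 1 3)
  else swap 2 3

def p01 : DualAffinePoint := ⟨{0, 1}, by decide⟩
def p02 : DualAffinePoint := ⟨{0, 2}, by decide⟩
def p03 : DualAffinePoint := ⟨{0, 3}, by decide⟩
def p12 : DualAffinePoint := ⟨{1, 2}, by decide⟩
def p13 : DualAffinePoint := ⟨{1, 3}, by decide⟩
def p23 : DualAffinePoint := ⟨{2, 3}, by decide⟩

set_option synthInstance.maxSize 10000 in
set_option synthInstance.maxHeartbeats 1000000 in
set_option maxRecDepth 100000 in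
theorem tauP_inj : ∀ P Q : DualAffinePoint, tauP P = tauP Q → P = Q := by decide

set_option synthInstance.maxSize 10000 in
set_option synthInstance.maxHeartbeats 1000000 in
set_option maxRecDepth 100000 in
theorem tauP_key : ∀ P Q R : DualAffinePoint, TrD P Q R ↔
    (tauP P * tauP Q ≠ tauP Q * tauP P ∧ tauP R = tauP Q * tauP P * (tauP Q)⁻¹) := by decide

set_option synthInstance.maxSize 10000 in
set_option synthInstance.maxHeartbeats 1000000 in
set_option maxRecDepth 100000 in
theorem tauP_closed : ∀ P Q : DualAffinePoint, tauP P * tauP Q ≠ tauP Q * tauP P →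
    ∃ R, tauP R = tauP Q * tauP P * (tauP Q)⁻¹ := by decide

set_option synthInstance.maxSize 10000 in
set_option synthInstance.maxHeartbeats 1000000 in
set_option maxRecDepth 100000 in
theorem tauP_conj : ∀ P : DualAffinePoint, ∃ σ : Perm (Fin 4), tauP P = σ * swap 1 2 * σ⁻¹ := by
  decide

set_option synthInstance.maxSize 10000 in
set_option synthInstance.maxHeartbeats 1000000 in
set_option maxRecDepth 100000 in
theorem da_cases : ∀ P : DualAffinePoint,
    P = p01 ∨ P = p12 ∨ P = p23 ∨ P = p02 ∨ P = p13 ∨ P = p03 := by decide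

theorem tauP_p01 : tauP p01 = swap 0 1 := by decide
theorem tauP_p12 : tauP p12 = swap 1 2 := by decide
theorem tauP_p23 : tauP p23 = swap 2 3 := by decide
theorem trD_1 : TrD p01 p12 p02 := by decide
theorem trD_2 : TrD p12 p23 p13 := by decide
theorem trD_3 : TrD p02 p23 p03 := by decide

theorem planeA (h : TSet D) {a b c : G} (ha : a ∈ D) (hb : b ∈ D) (hc : c ∈ D)
    (hab : a * b ≠ b * a) (hac : a * c ≠ c * a) (hbc : b * c = c * b) (hne : b ≠ c) :
    Isomorphic (restrict (threeTranspositionLines D)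
      (span (threeTranspositionLines D) {⟨a, ha⟩, ⟨b, hb⟩, ⟨c, hc⟩})) dualAffinePlaneTwo := by
  have hba3 : (b * a) ^ 3 = 1 := h.cube hb ha (fun hh => hab hh.symm)
  have hac3 : (a * c) ^ 3 = 1 := h.cube ha hc hac
  obtain ⟨φ, hφ, h01, h12, h23⟩ := S4C.exists_hom_of_relations (h.sq b hb) (h.sq a ha)
    (h.sq c hc) hba3 hac3 hbc hne
  have hmem : ∀ P, φ (tauP P) ∈ D := by
    intro P
    obtain ⟨σ, hσ⟩ := tauP_conj P
    rw [hσ, map_mul, map_mul, map_inv, h12]
    exact h.conj _ _ ha
  set f : DualAffinePoint → D := fun P => ⟨φ (tauP P), hmem P⟩ with hf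
  have hK : ∀ P Q R, Tr (threeTranspositionLines D) (f P) (f Q) (f R) ↔ TrD P Q R := by
    intro P Q R
    rw [Tr_lines_iff h, tauP_key]
    show (φ (tauP P) * φ (tauP Q) ≠ φ (tauP Q) * φ (tauP P) ∧
      φ (tauP R) = cj (φ (tauP Q)) (φ (tauP P))) ↔ _
    unfold cj
    simp only [← map_mul, ← map_inv]
    rw [hφ.ne_iff, hφ.eq_iff]
  have hinj : Function.Injective f := by
    intro P Q hPQ
    have : φ (tauP P) = φ (tauP Q) := congrArg Subtype.val hPQ
    exact tauP_inj P Q (hφ this)
  have hsub : IsSubspace (threeTranspositionLines D) (Set.range f) := by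
    rintro l hl _ ⟨P, rfl⟩ _ ⟨Q, rfl⟩ hPQ hPl hQl
    obtain ⟨r, hT, rfl⟩ := exists_third (lines_ncard h) hl hPl hQl hPQ
    obtain ⟨hc', hr⟩ := (Tr_lines_iff h _ _ _).mp hT
    have hc'' : tauP P * tauP Q ≠ tauP Q * tauP P := by
      intro hh
      apply hc'
      show φ (tauP P) * φ (tauP Q) = φ (tauP Q) * φ (tauP P)
      rw [← map_mul, hh, map_mul]
    obtain ⟨R, hR⟩ := tauP_closed P Q hc''
    have hrR : r = f R := by
      apply Subtype.ext
      rw [hr]
      show cj (φ (tauP Q)) (φ (tauP P)) = φ (tauP R)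
      rw [hR, map_mul, map_mul, map_inv]
      rfl
    rw [hrR]
    intro t ht
    simp only [Set.mem_insert_iff, Set.mem_singleton_iff] at ht
    rcases ht with rfl | rfl | rfl
    · exact ⟨P, rfl⟩
    · exact ⟨Q, rfl⟩
    · exact ⟨R, rfl⟩
  have e01 : f p01 = ⟨b, hb⟩ := by
    apply Subtype.ext
    show φ (tauP p01) = b
    rw [tauP_p01, h01]
  have e12 : f p12 = ⟨a, ha⟩ := by
    apply Subtype.ext
    show φ (tauP p12) = a
    rw [tauP_p12, h12]
  have e23 : f p23 = ⟨c, hc⟩ := by
    apply Subtype.ext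
    show φ (tauP p23) = c
    rw [tauP_p23, h23]
  set gens : Set D := {⟨a, ha⟩, ⟨b, hb⟩, ⟨c, hc⟩} with hgens
  have h1 : ∀ P, f P ∈ span (threeTranspositionLines D) gens := by
    have hS := span_isSubspace (threeTranspositionLines D) gens
    have hg := subset_span (threeTranspositionLines D) gens
    have m12 : f p12 ∈ span (threeTranspositionLines D) gens := hg (by rw [e12, hgens]; simp)
    have m01 : f p01 ∈ span (threeTranspositionLines D) gens := hg (by rw [e01, hgens]; simp)
    have m23 : f p23 ∈ span (threeTranspositionLines D) gens := hg (by rw [e23, hgens]; simp)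
    have step : ∀ P Q R, TrD P Q R → f P ∈ span (threeTranspositionLines D) gens →
        f Q ∈ span (threeTranspositionLines D) gens →
        f R ∈ span (threeTranspositionLines D) gens := by
      intro P Q R hT hP hQ
      have hT' := (hK P Q R).mpr hT
      exact hS _ hT'.2.2.2 _ hP _ hQ hT'.2.2.1 (by simp) (by simp) (by simp)
    have m02 := step _ _ _ trD_1 m01 m12
    have m13 := step _ _ _ trD_2 m12 m23
    have m03 := step _ _ _ trD_3 m02 m23
    intro P
    rcases da_cases P with rfl | rfl | rfl | rfl | rfl | rfl <;> assumption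
  have h2 : ∀ x ∈ span (threeTranspositionLines D) gens, ∃ P, f P = x := by
    intro x hx
    have hgr : gens ⊆ Set.range f := by
      intro t ht
      rw [hgens] at ht
      simp only [Set.mem_insert_iff, Set.mem_singleton_iff] at ht
      rcases ht with rfl | rfl | rfl
      · exact ⟨p12, e12⟩
      · exact ⟨p01, e01⟩
      · exact ⟨p23, e23⟩
    exact span_le hgr hsub hx
  exact iso_of_Tr f h1 h2 hinj (fun P Q R => (Tr_da_iff P Q R).trans (hK P Q R).symm)
    (lines_form h) da_lines

end Cfsg.Agent.Lib.Helper3.FS
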