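import Mathlib
import Cfsg.Agent.Lib.Helper3.FS5

set_option autoImplicit false

/-! The line system of a set of 3-transpositions: planes of affine type -/

namespace Cfsg.Agent.Lib.Helper3.FS

open Cfsg Cfsg.LineSystem Cfsg.Agent.Lib.Helper3.TT

universe u

variable {G : Type u} [Group G] {D : Set G}

/-- the nine points of the affine plane spanned by `a, b, c` -/
def fB' (a b c : G) : Fin 3 → Fin 3 → G
  | 0, 0 => a
  | 0, 1 => c
  | 0, 2 => cj a c
  | 1, 0 => b
  | 1, 1 => cj a (cj b c)
  | 1, 2 => cj c (cj a b)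
  | 2, 0 => cj a b
  | 2, 1 => cj b (cj a c)
  | 2, 2 => cj b c

def fB (a b c : G) (i j : ZMod 3) : G := fB' a b c i j

/-- conjugation by the point `q` acts as the point reflection in `q` -/
def SB (a b c : G) (q1 q2 : ZMod 3) : Prop :=
  ∀ i j : ZMod 3, cj (fB a b c q1 q2) (fB a b c i j) = fB a b c (-(i + q1)) (-(j + q2))

theorem zmod3_g : ∀ i q r : ZMod 3, -(-(-(i + q) + r) + q) = -(i + -(r + q)) := by decide
theorem zmod3_h : ∀ i k : ZMod 3, -(i + k) = i → k = i := by decide
theorem zmod3_i : ∀ i q : ZMod 3, -(-(i + 0) + q) = i - q := by decide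

theorem cj_cj' (x y w : G) : cj (cj x y) w = cj x (cj y (cj x⁻¹ w)) := by unfold cj; group

section

variable (h : TSet D) {a b c : G} (ha : a ∈ D) (hb : b ∈ D) (hc : c ∈ D)
  (hab : a * b ≠ b * a) (hac : a * c ≠ c * a) (hbc : b * c ≠ c * b)
  (habc : a * cj b c ≠ cj b c * a)

include h ha hb hc

theorem fB_mem (i j : ZMod 3) : fB a b c i j ∈ D := by
  rcases zmod3_d i with rfl | rfl | rfl <;> rcases zmod3_d j with rfl | rfl | rfl
  · exact ha
  · exact hc
  · exact cj_mem h a hc
  · exact hb
  · exact cj_mem h a (cj_mem h b hc)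
  · exact cj_mem h c (cj_mem h a hb)
  · exact cj_mem h a hb
  · exact cj_mem h b (cj_mem h a hc)
  · exact cj_mem h b hc

theorem SB_boot {q1 q2 r1 r2 : ZMod 3} (hq : SB a b c q1 q2) (hr : SB a b c r1 r2) :
    SB a b c (-(r1 + q1)) (-(r2 + q2)) := by
  intro i j
  have e : fB a b c (-(r1 + q1)) (-(r2 + q2)) = cj (fB a b c q1 q2) (fB a b c r1 r2) :=
    (hq r1 r2).symm
  rw [e, cj_cj', h.inv (fB_mem h ha hb hc q1 q2), hq i j, hr, hq, zmod3_g, zmod3_g]

include hab hac hbc habc

theorem nc_b_ac : b * cj a c ≠ cj a c * b := by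
  intro hh
  apply habc
  rw [cj_comm h ha hc hac] at hh
  have e1 : cj c (cj c b) = b := cj_invol h hc b
  rw [← e1] at hh
  have := (cj_conj_comm c (cj c b) a).mp hh
  rw [← cj_comm h hb hc hbc] at this
  exact this.symm

theorem nc_c_ab : c * cj a b ≠ cj a b * c := by
  intro hh
  apply habc
  rw [cj_comm h ha hb hab] at hh
  have e1 : cj b (cj b c) = c := cj_invol h hb c
  rw [← e1] at hh
  have := (cj_conj_comm b (cj b c) a).mp hh
  exact this.symm

theorem SB_00 : SB a b c 0 0 := by
  have n2 := nc_b_ac h ha hb hc hab hac hbc habc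
  have hacD : cj a c ∈ D := cj_mem h a hc
  have e12 : cj a (cj c (cj a b)) = cj b (cj a c) := by
    rw [cj_cj, cj_invol h ha, cj_comm h hacD hb (fun hh => n2 hh.symm)]
  intro i j
  rcases zmod3_d i with rfl | rfl | rfl <;> rcases zmod3_d j with rfl | rfl | rfl
  · exact cj_self a
  · rfl
  · exact cj_invol h ha c
  · rfl
  · exact cj_invol h ha _
  · exact e12
  · exact cj_invol h ha b
  · exact cj_swap h ha e12
  · rfl

theorem SB_10 : SB a b c 1 0 := by
  have n3 := nc_c_ab h ha hb hc hab hac hbc habc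
  have habD : cj a b ∈ D := cj_mem h a hb
  have eba : cj b a = cj a b := (cj_comm h ha hb hab).symm
  have e11 : cj b (cj a (cj b c)) = cj c (cj a b) := by
    rw [cj_cj, eba, cj_invol h hb, cj_comm h habD hc (fun hh => n3 hh.symm)]
  intro i j
  rcases zmod3_d i with rfl | rfl | rfl <;> rcases zmod3_d j with rfl | rfl | rfl
  · exact eba
  · rfl
  · rfl
  · exact cj_self b
  · exact e11
  · exact cj_swap h hb e11
  · exact cj_swap h hb eba
  · exact cj_invol h hb _
  · exact cj_invol h hb c

theorem SB_01 : SB a b c 0 1 := by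
  have n2 := nc_b_ac h ha hb hc hab hac hbc habc
  have hacD : cj a c ∈ D := cj_mem h a hc
  have eca : cj c a = cj a c := (cj_comm h ha hc hac).symm
  have ecb : cj c b = cj b c := (cj_comm h hb hc hbc).symm
  have e11 : cj c (cj a (cj b c)) = cj b (cj a c) := by
    rw [cj_cj, eca, ← ecb, cj_invol h hc, cj_comm h hacD hb (fun hh => n2 hh.symm)]
  intro i j
  rcases zmod3_d i with rfl | rfl | rfl <;> rcases zmod3_d j with rfl | rfl | rfl
  · exact eca
  · exact cj_self c
  · exact cj_swap h hc eca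
  · exact ecb
  · exact e11
  · exact cj_invol h hc _
  · rfl
  · exact cj_swap h hc e11
  · exact cj_swap h hc ecb

theorem SB_all (q1 q2 : ZMod 3) : SB a b c q1 q2 := by
  have s00 := SB_00 h ha hb hc hab hac hbc habc
  have s10 := SB_10 h ha hb hc hab hac hbc habc
  have s01 := SB_01 h ha hb hc hab hac hbc habc
  have s20 : SB a b c 2 0 := SB_boot h ha hb hc s00 s10
  have s02 : SB a b c 0 2 := SB_boot h ha hb hc s00 s01
  have s22 : SB a b c 2 2 := SB_boot h ha hb hc s10 s01
  have s11 : SB a b c 1 1 := SB_boot h ha hb hc s00 s22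
  have s12 : SB a b c 1 2 := SB_boot h ha hb hc s01 s20
  have s21 : SB a b c 2 1 := SB_boot h ha hb hc s10 s02
  rcases zmod3_d q1 with rfl | rfl | rfl <;> rcases zmod3_d q2 with rfl | rfl | rfl <;>
    assumption

theorem fB_inj0 (i j : ZMod 3) (hh : fB a b c i j = a) : i = 0 ∧ j = 0 := by
  have n2 := nc_b_ac h ha hb hc hab hac hbc habc
  have nab : a ≠ b := fun e => hab (by rw [e])
  have nac : a ≠ c := fun e => hac (by rw [e])
  have nbc : b ≠ c := fun e => hbc (by rw [e])
  have nabc : cj b c ≠ a := fun e => habc (by rw [e])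
  rcases zmod3_d i with rfl | rfl | rfl <;> rcases zmod3_d j with rfl | rfl | rfl
  · exact ⟨rfl, rfl⟩
  · exact absurd hh.symm nac
  · exfalso
    have : cj a c = cj a a := by rw [cj_self]; exact hh
    exact nac (cj_injective a this).symm
  · exact absurd hh.symm nab
  · exfalso
    have : cj a (cj b c) = cj a a := by rw [cj_self]; exact hh
    exact nabc (cj_injective a this)
  · exfalso
    have e1 : cj c (cj a b) = a := hh
    have e2 : cj a b = cj c a := (cj_swap h hc e1).symm
    rw [← cj_comm h ha hc hac] at e2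
    exact nbc (cj_injective a e2)
  · exfalso
    have : cj a b = cj a a := by rw [cj_self]; exact hh
    exact nab (cj_injective a this).symm
  · exfalso
    have e1 : cj b (cj a c) = a := hh
    have e2 : cj a c = cj b a := (cj_swap h hb e1).symm
    rw [← cj_comm h ha hb hab] at e2
    exact nbc (cj_injective a e2).symm
  · exact absurd hh nabc

theorem fB_inj {i j k l : ZMod 3} (hh : fB a b c i j = fB a b c k l) : i = k ∧ j = l := by
  have s00 := SB_00 h ha hb hc hab hac hbc habc
  have sq := SB_all h ha hb hc hab hac hbc habc i j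
  have tr : ∀ m n : ZMod 3, cj (fB a b c i j * a) (fB a b c m n) = fB a b c (m - i) (n - j) := by
    intro m n
    have e00 : cj a (fB a b c m n) = fB a b c (-(m + 0)) (-(n + 0)) := s00 m n
    rw [cj_mul, e00, sq, zmod3_i, zmod3_i]
  have e1 := tr i j
  have e2 := tr k l
  rw [hh] at e1
  rw [sub_self, sub_self] at e1
  have e3 : fB a b c (k - i) (l - j) = a := by
    rw [← e2, hh, e1]; rfl
  obtain ⟨h1, h2⟩ := fB_inj0 h ha hb hc hab hac hbc habc _ _ e3
  exact ⟨(sub_eq_zero.mp h1).symm, (sub_eq_zero.mp h2).symm⟩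

theorem fB_nc {i j k l : ZMod 3} (hne : ¬ (i = k ∧ j = l)) :
    fB a b c i j * fB a b c k l ≠ fB a b c k l * fB a b c i j := by
  intro hh
  apply hne
  have e1 : cj (fB a b c k l) (fB a b c i j) = fB a b c i j := (cj_eq_iff _ _).mpr hh.symm
  rw [SB_all h ha hb hc hab hac hbc habc k l i j] at e1
  obtain ⟨h1, h2⟩ := fB_inj h ha hb hc hab hac hbc habc e1
  exact ⟨(zmod3_h _ _ h1).symm, (zmod3_h _ _ h2).symm⟩

end

end Cfsg.Agent.Lib.Helper3.FS
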