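import Mathlib
import Cfsg.Agent.Lib.Helper3.FS6
import Cfsg.Agent.Lib.Helper3.FS7

set_option autoImplicit false

/-! The line system of a set of 3-transpositions is a Fischer space -/

namespace Cfsg.Agent.Lib.Helper3.FS

open Cfsg Cfsg.LineSystem Cfsg.Agent.Lib.Helper3.TT

universe u

variable {G : Type u} [Group G] {D : Set G}

/-- a point of the affine plane with given coordinates -/
def pt (i j : ZMod 3) : Fin 2 → ZMod 3 := ![i, j]

theorem pt_eta (P : Fin 2 → ZMod 3) : P = pt (P 0) (P 1) := by
  funext k
  fin_cases k <;> rfl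

theorem planeB (h : TSet D) {a b c : G} (ha : a ∈ D) (hb : b ∈ D) (hc : c ∈ D)
    (hab : a * b ≠ b * a) (hac : a * c ≠ c * a) (hbc : b * c ≠ c * b)
    (habc : a * cj b c ≠ cj b c * a) :
    Isomorphic (restrict (threeTranspositionLines D)
      (span (threeTranspositionLines D) {⟨a, ha⟩, ⟨b, hb⟩, ⟨c, hc⟩})) affinePlaneThree := by
  set f : (Fin 2 → ZMod 3) → D := fun P => ⟨fB a b c (P 0) (P 1), fB_mem h ha hb hc _ _⟩ with hf
  have hK : ∀ P Q R, Tr affinePlaneThree P Q R ↔
      Tr (threeTranspositionLines D) (f P) (f Q) (f R) := by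
    intro P Q R
    rw [ag_Tr_iff, Tr_lines_iff h]
    show (P ≠ Q ∧ R = -(P + Q)) ↔
      (fB a b c (P 0) (P 1) * fB a b c (Q 0) (Q 1) ≠ fB a b c (Q 0) (Q 1) * fB a b c (P 0) (P 1) ∧
        fB a b c (R 0) (R 1) = cj (fB a b c (Q 0) (Q 1)) (fB a b c (P 0) (P 1)))
    rw [SB_all h ha hb hc hab hac hbc habc (Q 0) (Q 1) (P 0) (P 1)]
    constructor
    · rintro ⟨hne, rfl⟩
      refine ⟨fB_nc h ha hb hc hab hac hbc habc ?_, rfl⟩
      rintro ⟨h0, h1⟩
      apply hne
      funext k
      fin_cases k
      · exact h0
      · exact h1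
    · rintro ⟨hnc, hr⟩
      obtain ⟨h0, h1⟩ := fB_inj h ha hb hc hab hac hbc habc hr
      refine ⟨fun e => hnc (by rw [e]), ?_⟩
      funext k
      fin_cases k
      · exact h0
      · exact h1
  have hinj : Function.Injective f := by
    intro P Q hPQ
    have : fB a b c (P 0) (P 1) = fB a b c (Q 0) (Q 1) := congrArg Subtype.val hPQ
    obtain ⟨h0, h1⟩ := fB_inj h ha hb hc hab hac hbc habc this
    funext k
    fin_cases k
    · exact h0
    · exact h1
  have hsub : IsSubspace (threeTranspositionLines D) (Set.range f) := by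
    rintro l hl _ ⟨P, rfl⟩ _ ⟨Q, rfl⟩ hPQ hPl hQl
    obtain ⟨r, hT, rfl⟩ := exists_third (lines_ncard h) hl hPl hQl hPQ
    have hPQ' : P ≠ Q := fun e => hPQ (by rw [e])
    have hT' := (hK P Q (-(P + Q))).mp ((ag_Tr_iff P Q _).mpr ⟨hPQ', rfl⟩)
    have hrR : r = f (-(P + Q)) := Tr.unique (lines_pl h) hT hT'
    rw [hrR]
    intro t ht
    simp only [Set.mem_insert_iff, Set.mem_singleton_iff] at ht
    rcases ht with rfl | rfl | rfl
    · exact ⟨P, rfl⟩
    · exact ⟨Q, rfl⟩
    · exact ⟨_, rfl⟩
  have e00 : f (pt 0 0) = ⟨a, ha⟩ := Subtype.ext rfl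
  have e10 : f (pt 1 0) = ⟨b, hb⟩ := Subtype.ext rfl
  have e01 : f (pt 0 1) = ⟨c, hc⟩ := Subtype.ext rfl
  set gens : Set D := {⟨a, ha⟩, ⟨b, hb⟩, ⟨c, hc⟩} with hgens
  have h1 : ∀ P, f P ∈ span (threeTranspositionLines D) gens := by
    have hS := span_isSubspace (threeTranspositionLines D) gens
    have hg := subset_span (threeTranspositionLines D) gens
    have m00 : f (pt 0 0) ∈ span (threeTranspositionLines D) gens := hg (by rw [e00, hgens]; simp)
    have m10 : f (pt 1 0) ∈ span (threeTranspositionLines D) gens := hg (by rw [e10, hgens]; simp)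
    have m01 : f (pt 0 1) ∈ span (threeTranspositionLines D) gens := hg (by rw [e01, hgens]; simp)
    have step : ∀ P Q R, P ≠ Q → -(P + Q) = R → f P ∈ span (threeTranspositionLines D) gens →
        f Q ∈ span (threeTranspositionLines D) gens →
        f R ∈ span (threeTranspositionLines D) gens := by
      intro P Q R hPQ hR hP hQ
      have hT' := (hK P Q R).mp ((ag_Tr_iff P Q _).mpr ⟨hPQ, hR.symm⟩)
      exact hS _ hT'.2.2.2 _ hP _ hQ hT'.2.2.1 (by simp) (by simp) (by simp)
    have m20 := step (pt 0 0) (pt 1 0) (pt 2 0) (by decide) (by decide) m00 m10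
    have m02 := step (pt 0 0) (pt 0 1) (pt 0 2) (by decide) (by decide) m00 m01
    have m22 := step (pt 1 0) (pt 0 1) (pt 2 2) (by decide) (by decide) m10 m01
    have m11 := step (pt 0 0) (pt 2 2) (pt 1 1) (by decide) (by decide) m00 m22
    have m12 := step (pt 0 1) (pt 2 0) (pt 1 2) (by decide) (by decide) m01 m20
    have m21 := step (pt 1 0) (pt 0 2) (pt 2 1) (by decide) (by decide) m10 m02
    intro P
    rw [pt_eta P]
    rcases zmod3_d (P 0) with e | e | e <;> rcases zmod3_d (P 1) with e' | e' | e' <;>
      rw [e, e'] <;> assumption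
  have h2 : ∀ x ∈ span (threeTranspositionLines D) gens, ∃ P, f P = x := by
    intro x hx
    have hgr : gens ⊆ Set.range f := by
      intro t ht
      rw [hgens] at ht
      simp only [Set.mem_insert_iff, Set.mem_singleton_iff] at ht
      rcases ht with rfl | rfl | rfl
      · exact ⟨_, e00⟩
      · exact ⟨_, e10⟩
      · exact ⟨_, e01⟩
    exact span_le hgr hsub hx
  exact iso_of_Tr f h1 h2 hinj hK (lines_form h) ag_lines

theorem fischer (hD : IsThreeTranspositionGroup D) :
    IsFischerSpace (threeTranspositionLines D) := by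
  have h := TSet.of_group hD
  refine ⟨lines_pl h, lines_ncard h, ?_⟩
  intro l hl m hm hlm hne
  obtain ⟨a, hal, ham⟩ := hne
  obtain ⟨b, hbl, hab⟩ := exists_other (lines_ncard h) hl hal
  obtain ⟨c, hcm, hac⟩ := exists_other (lines_ncard h) hm ham
  have hcl : c ∉ l := by
    intro hcl
    exact hlm (lines_pl h l hl m hm a c hac hal hcl ham hcm)
  have hbm : b ∉ m := by
    intro hbm
    exact hlm (lines_pl h l hl m hm a b hab hal hbl ham hbm)
  obtain ⟨b', hTb, rfl⟩ := exists_third (lines_ncard h) hl hal hbl hab
  obtain ⟨c', hTc, rfl⟩ := exists_third (lines_ncard h) hm ham hcm hac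
  have hS := span_isSubspace (threeTranspositionLines D) ({a, b, c} : Set D)
  have hg := subset_span (threeTranspositionLines D) ({a, b, c} : Set D)
  have ma : a ∈ span (threeTranspositionLines D) ({a, b, c} : Set D) := hg (by simp)
  have mb : b ∈ span (threeTranspositionLines D) ({a, b, c} : Set D) := hg (by simp)
  have mc : c ∈ span (threeTranspositionLines D) ({a, b, c} : Set D) := hg (by simp)
  have hspan : span (threeTranspositionLines D) (({a, b, b'} : Set D) ∪ {a, c, c'}) =
      span (threeTranspositionLines D) ({a, b, c} : Set D) := by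
    apply Set.Subset.antisymm
    · apply span_le _ hS
      have mb' : b' ∈ span (threeTranspositionLines D) ({a, b, c} : Set D) :=
        hS _ hTb.2.2.2 a ma b mb hab (by simp) (by simp) (by simp)
      have mc' : c' ∈ span (threeTranspositionLines D) ({a, b, c} : Set D) :=
        hS _ hTc.2.2.2 a ma c mc hac (by simp) (by simp) (by simp)
      intro t ht
      simp only [Set.mem_union, Set.mem_insert_iff, Set.mem_singleton_iff] at ht
      rcases ht with (rfl | rfl | rfl) | (rfl | rfl | rfl) <;> assumption
    · apply span_mono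
      intro t ht
      simp only [Set.mem_union, Set.mem_insert_iff, Set.mem_singleton_iff] at ht ⊢
      tauto
  rw [hspan]
  obtain ⟨hnab, hb'⟩ := (Tr_lines_iff h a b b').mp hTb
  obtain ⟨hnac, hc'⟩ := (Tr_lines_iff h a c c').mp hTc
  have hbcne : (b : G) ≠ c := by
    intro e
    apply hcl
    have : b = c := Subtype.ext e
    rw [← this]; simp
  by_cases hbc : (b : G) * c = c * b
  · left
    exact planeA h a.2 b.2 c.2 hnab hnac hbc hbcne
  · by_cases habc : (a : G) * cj (b : G) (c : G) = cj (b : G) (c : G) * a
    · left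
      have hcb : (c : G) * b ≠ b * c := fun hh => hbc hh.symm
      obtain ⟨n1, n2, n3, e1, e2, e4, e3, e5⟩ := s3_table h c.2 b.2 hcb
      have hbcD : cj (b : G) (c : G) ∈ D := cj_mem h _ c.2
      have k1 : (c : G) * cj (b : G) (c : G) ≠ cj (b : G) (c : G) * c := by
        intro hh
        have := (cj_eq_iff _ _).mpr hh.symm
        rw [e4] at this
        exact hbcne this
      have k2 : (c : G) * a ≠ a * c := fun hh => hnac hh.symm
      have k4 : cj (b : G) (c : G) ≠ a := by
        intro hh
        apply hbm
        have e6 : cj (c : G) (b : G) = a := by rw [e1]; exact hh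
        have e7 : (b : G) = cj (c : G) (a : G) := (cj_swap h c.2 e6).symm
        have : b = c' := Subtype.ext (e7.trans hc'.symm)
        rw [this]; simp
      have key := planeA h c.2 hbcD a.2 k1 k2 habc.symm k4
      set bc : D := ⟨cj (b : G) (c : G), hbcD⟩ with hbc'
      have hT1 : Tr (threeTranspositionLines D) c b bc := Tr_lines_of h hcb rfl
      have hT2 : Tr (threeTranspositionLines D) c bc b := Tr_lines_of h k1 e4.symm
      have hspan2 : span (threeTranspositionLines D) ({c, bc, a} : Set D) =
          span (threeTranspositionLines D) ({a, b, c} : Set D) := by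
        apply Set.Subset.antisymm
        · apply span_le _ hS
          have mbc : bc ∈ span (threeTranspositionLines D) ({a, b, c} : Set D) :=
            hS _ hT1.2.2.2 c mc b mb hT1.2.2.1 (by simp) (by simp) (by simp)
          intro t ht
          simp only [Set.mem_insert_iff, Set.mem_singleton_iff] at ht
          rcases ht with rfl | rfl | rfl <;> assumption
        · have hS' := span_isSubspace (threeTranspositionLines D) ({c, bc, a} : Set D)
          have hg' := subset_span (threeTranspositionLines D) ({c, bc, a} : Set D)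
          apply span_le _ hS'
          have mc2 : c ∈ span (threeTranspositionLines D) ({c, bc, a} : Set D) := hg' (by simp)
          have mbc2 : bc ∈ span (threeTranspositionLines D) ({c, bc, a} : Set D) :=
            hg' (by simp)
          have ma2 : a ∈ span (threeTranspositionLines D) ({c, bc, a} : Set D) := hg' (by simp)
          have mb2 : b ∈ span (threeTranspositionLines D) ({c, bc, a} : Set D) :=
            hS' _ hT2.2.2.2 c mc2 bc mbc2 hT2.2.2.1 (by simp) (by simp) (by simp)
          intro t ht
          simp only [Set.mem_insert_iff, Set.mem_singleton_iff] at ht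
          rcases ht with rfl | rfl | rfl <;> assumption
      rw [← hspan2]
      exact key
    · right
      exact planeB h a.2 b.2 c.2 hnab hnac hbc habc

end Cfsg.Agent.Lib.Helper3.FS
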