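import Mathlib
import Cfsg.Agent.Lib.Helper3.FV2
import Cfsg.Agent.Lib.Helper3.CharQuot

/-! Galois stabilizers of a character induced from a normal subgroup of prime index. -/

set_option autoImplicit false

namespace Cfsg.Agent.Lib.Helper3.FV

open Cfsg Cfsg.Agent.Lib.Helper6
open scoped ComplexConjugate

section

variable {P : Type*} [Group P] [Fintype P] (M : Subgroup P) (hM : M.Normal)

/-- the stabilizer of `η` is contained in the stabilizer of the induced function -/
theorem stabPow_le_stabPow_indFun (η : M → ℂ) (n : ℕ) [NeZero n] (hn : ∀ g : P, g ^ n = 1)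
    (hnM : ∀ m : M, m ^ n = 1)
    (hcop : ∀ k : (ZMod n)ˣ, ((k : ZMod n).val).Coprime (Nat.card P)) :
    stabPow η n hnM ≤ stabPow (indFun M η) n hn := by
  intro k hk g
  rw [indFun_pow M η (hcop k) g]
  congr 1
  funext h
  exact hk h

/-- conjugation by elements in the same coset of `M` agree on class functions -/
theorem conjFun_eq_of_mk_eq {η : M → ℂ} (hη : IsIrrCharacter M η) {x y : P}
    (hxy : (x : P ⧸ M) = (y : P ⧸ M)) : conjFun M hM η x = conjFun M hM η y := by
  have h1 : x⁻¹ * y ∈ M := QuotientGroup.eq.mp hxy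
  have h2 : y = x * (x⁻¹ * y) := by group
  rw [h2, ← conjFun_conjFun]
  rw [conjFun_of_mem M hM (IsIrrCharacter.isClassFunction (IsIrrCharacter.conjFun M hM hη x)) h1]

/-- A Galois conjugate of `η` fixing `χ = η^P` is a `P`-conjugate of `η`. -/
theorem exists_conjFun_eq_pow {η : M → ℂ} (hη : IsIrrCharacter M η)
    (hχ : IsIrrCharacter P (indFun M η)) (n : ℕ) [NeZero n] (hn : ∀ g : P, g ^ n = 1)
    (hcop : ∀ k : (ZMod n)ˣ, ((k : ZMod n).val).Coprime (Nat.card P))
    (k : (ZMod n)ˣ) (hk : k ∈ stabPow (indFun M η) n hn) :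
    ∃ x : P, conjFun M hM η x = fun m : M => η (m ^ (k : ZMod n).val) := by
  classical
  have : Fintype M := Fintype.ofFinite M
  have hcopM : ((k : ZMod n).val).Coprime (Nat.card M) :=
    Nat.Coprime.coprime_dvd_right (Subgroup.card_subgroup_dvd_card M) (hcop k)
  have hηk : IsIrrCharacter M (fun m : M => η (m ^ (k : ZMod n).val)) :=
    IsIrrCharacter.comp_pow hη hcopM
  have h1 := Cfsg.Agent.S0146.result M (fun m : M => η (m ^ (k : ZMod n).val)) (indFun M η)
    (IsIrrCharacter.isClassFunction hχ)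
  have h2 : indFun M (fun m : M => η (m ^ (k : ZMod n).val)) = indFun M η := by
    funext g
    rw [← indFun_pow M η (hcop k) g]
    exact hk g
  rw [h2, classInner_isIrrCharacter hχ hχ, if_pos rfl,
    classInner_indFun_restrict_right M hM] at h1
  by_contra hcon
  push Not at hcon
  have h3 : ∀ x : P, classInner (fun m : M => η (m ^ (k : ZMod n).val)) (conjFun M hM η x) = 0 := by
    intro x
    rw [classInner_isIrrCharacter hηk (IsIrrCharacter.conjFun M hM hη x), if_neg]
    exact fun h => hcon x h.symm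
  simp only [h3, Finset.sum_const_zero, mul_zero] at h1
  exact one_ne_zero h1

/-- equality of Galois twists gives an element of the stabilizer -/
theorem inv_mul_mem_stabPow {η : M → ℂ} (n : ℕ) [NeZero n] (hnM : ∀ m : M, m ^ n = 1)
    (k l : (ZMod n)ˣ)
    (h : (fun m : M => η (m ^ (k : ZMod n).val)) = fun m : M => η (m ^ (l : ZMod n).val)) :
    k⁻¹ * l ∈ stabPow η n hnM := by
  intro m
  rw [pow_val_mul hnM]
  have h1 := congrFun h (m ^ ((k⁻¹ : (ZMod n)ˣ) : ZMod n).val)
  beta_reduce at h1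
  rw [← h1, ← pow_val_mul hnM, inv_mul_cancel, pow_val_one hnM]

/-- The injection of `U_χ / U_η` into `P / M`. -/
theorem exists_injection {η : M → ℂ} (hη : IsIrrCharacter M η)
    (hχ : IsIrrCharacter P (indFun M η)) (n : ℕ) [NeZero n] (hn : ∀ g : P, g ^ n = 1)
    (hnM : ∀ m : M, m ^ n = 1)
    (hcop : ∀ k : (ZMod n)ˣ, ((k : ZMod n).val).Coprime (Nat.card P)) :
    ∃ F : (stabPow (indFun M η) n hn) ⧸ ((stabPow η n hnM).subgroupOf (stabPow (indFun M η) n hn))
        → P ⧸ M,
      Function.Injective F ∧ ∀ q, ∀ x : P, (x : P ⧸ M) = F q →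
        conjFun M hM η x = fun m : M => η (m ^ ((q.out : (ZMod n)ˣ) : ZMod n).val) := by
  classical
  have hex := fun q : (stabPow (indFun M η) n hn) ⧸
      ((stabPow η n hnM).subgroupOf (stabPow (indFun M η) n hn)) =>
    exists_conjFun_eq_pow M hM hη hχ n hn hcop (q.out : (ZMod n)ˣ) q.out.2
  choose xq hxq using hex
  refine ⟨fun q => (xq q : P ⧸ M), ?_, ?_⟩
  · intro q q' hqq
    simp only at hqq
    have h1 := conjFun_eq_of_mk_eq M hM hη hqq
    rw [hxq, hxq] at h1
    have h2 := inv_mul_mem_stabPow M n hnM _ _ h1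
    have h3 : (q.out)⁻¹ * q'.out ∈
        (stabPow η n hnM).subgroupOf (stabPow (indFun M η) n hn) := by
      rw [Subgroup.mem_subgroupOf]
      exact h2
    have h4 := QuotientGroup.eq.mpr h3
    rwa [QuotientGroup.out_eq', QuotientGroup.out_eq'] at h4
  · intro q x hx
    rw [conjFun_eq_of_mk_eq M hM hη hx, hxq]

include hM in
/-- the relative index of the stabilizers is at most the index of `M` -/
theorem relIndex_stabPow_le {η : M → ℂ} (hη : IsIrrCharacter M η)
    (hχ : IsIrrCharacter P (indFun M η)) (n : ℕ) [NeZero n] (hn : ∀ g : P, g ^ n = 1)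
    (hnM : ∀ m : M, m ^ n = 1)
    (hcop : ∀ k : (ZMod n)ˣ, ((k : ZMod n).val).Coprime (Nat.card P)) :
    (stabPow η n hnM).relIndex (stabPow (indFun M η) n hn) ≤ M.index := by
  obtain ⟨F, hF, -⟩ := exists_injection M hM hη hχ n hn hnM hcop
  rw [Subgroup.relIndex, Subgroup.index_eq_card, Subgroup.index_eq_card]
  exact Nat.card_le_card_of_injective F hF

/-- if the relative index is the index of `M`, all conjugates of `η` are Galois twists -/
theorem exists_pow_eq_conjFun {η : M → ℂ} (hη : IsIrrCharacter M η)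
    (hχ : IsIrrCharacter P (indFun M η)) (n : ℕ) [NeZero n] (hn : ∀ g : P, g ^ n = 1)
    (hnM : ∀ m : M, m ^ n = 1)
    (hcop : ∀ k : (ZMod n)ˣ, ((k : ZMod n).val).Coprime (Nat.card P))
    (hr : (stabPow η n hnM).relIndex (stabPow (indFun M η) n hn) = M.index) (x : P) :
    ∃ k : (ZMod n)ˣ, conjFun M hM η x = fun m : M => η (m ^ (k : ZMod n).val) := by
  obtain ⟨F, hF, hF2⟩ := exists_injection M hM hη hχ n hn hnM hcop
  rw [Subgroup.relIndex, Subgroup.index_eq_card, Subgroup.index_eq_card] at hr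
  have hbij : Function.Bijective F := hF.bijective_of_nat_card_le hr.ge
  obtain ⟨q, hq⟩ := hbij.2 (x : P ⧸ M)
  exact ⟨_, hF2 q x hq.symm⟩

end

end Cfsg.Agent.Lib.Helper3.FV
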