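import Mathlib
import Cfsg.Agent.Lib.Helper3.FV3

/-! Kernels of the inducing character: the two cases of the induction. -/

set_option autoImplicit false

namespace Cfsg.Agent.Lib.Helper3.FV

open Cfsg Cfsg.Agent.Lib.Helper6
open scoped ComplexConjugate

section

variable {P : Type*} [Group P] [Fintype P] (M : Subgroup P) (hM : M.Normal)

/-- if all conjugates of `η` take the value `η 1` at `m`, so does the induced function -/
theorem indFun_apply_eq_one_of_conj (η : M → ℂ) (m : M)
    (h : ∀ x : P, conjFun M hM η x m = η 1) : indFun M η m = indFun M η 1 := by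
  have h1 := indFun_apply_of_normal M hM η m
  have h2 := indFun_apply_of_normal M hM η 1
  rw [Subgroup.coe_one] at h2
  rw [h1, h2]
  congr 1
  apply Finset.sum_congr rfl
  intro x _
  rw [h x, conjFun_apply]
  congr 1
  apply Subtype.ext
  simp

/-- if all conjugates of `η` are Galois twists and `η^P` is faithful then `η` is faithful -/
theorem faithful_of_twists {η : M → ℂ} (hη : IsIrrCharacter M η) (n : ℕ) [NeZero n]
    (hall : ∀ x : P, ∃ k : (ZMod n)ˣ,
      conjFun M hM η x = fun m : M => η (m ^ (k : ZMod n).val))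
    (hfaith : ∀ g : P, indFun M η g = indFun M η 1 → g = 1) (m : M) (hm : η m = η 1) :
    m = 1 := by
  obtain ⟨K, -, hK⟩ := CharQuot.exists_kernel (IsIrrCharacter.isCharacter hη)
  have h1 : ∀ x : P, conjFun M hM η x m = η 1 := by
    intro x
    obtain ⟨k, hk⟩ := hall x
    rw [hk]
    beta_reduce
    rw [← hK]
    exact K.pow_mem ((hK m).mpr hm) _
  have h2 := hfaith m (indFun_apply_eq_one_of_conj M hM η m h1)
  exact Subtype.ext h2

include hM in
/-- the order of `M` is bounded by the `p`-th power of the index of the kernel of `η` -/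
theorem card_le_index_pow {η : M → ℂ} (hη : IsIrrCharacter M η) (K : Subgroup M)
    (hK : ∀ m : M, m ∈ K ↔ η m = η 1)
    (hfaith : ∀ g : P, indFun M η g = indFun M η 1 → g = 1) :
    Nat.card M ≤ K.index ^ M.index := by
  classical
  haveI := hM
  have : Fintype (P ⧸ M) := Fintype.ofFinite _
  let f : P ⧸ M → Subgroup M :=
    fun q => K.comap ((MulAut.conjNormal q.out : M ≃* M).toMonoidHom)
  have h1 : (⨅ q, f q).index ≤ ∏ q, (f q).index := Subgroup.index_iInf_le f
  have h2 : ∀ q, (f q).index = K.index := fun q =>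
    Subgroup.index_comap_of_surjective _ (MulEquiv.surjective _)
  have h3 : ⨅ q, f q = ⊥ := by
    rw [eq_bot_iff]
    intro m hm
    rw [Subgroup.mem_iInf] at hm
    rw [Subgroup.mem_bot]
    have h4 : ∀ x : P, conjFun M hM η x m = η 1 := by
      intro x
      have h5 : ((x : P) : P ⧸ M) = (((x : P ⧸ M).out : P) : P ⧸ M) :=
        (QuotientGroup.out_eq' _).symm
      rw [conjFun_eq_of_mk_eq M hM hη h5, conjFun_eq_comp]
      beta_reduce
      rw [← hK]
      exact hm (x : P ⧸ M)
    exact Subtype.ext (hfaith m (indFun_apply_eq_one_of_conj M hM η m h4))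
  rw [h3, Subgroup.index_bot] at h1
  simp only [h2, Finset.prod_const, Finset.card_univ] at h1
  rw [Subgroup.index_eq_card M, Nat.card_eq_fintype_card (α := P ⧸ M)]
  exact h1

end

end Cfsg.Agent.Lib.Helper3.FV
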