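import Mathlib
import Cfsg.Agent.Lib.Helper3.FV4

/-! Order bound for `p`-groups with a faithful irreducible character in terms of the degree and the
field of values. -/

set_option autoImplicit false

namespace Cfsg.Agent.Lib.Helper3.FV

open Cfsg Cfsg.Agent.Lib.Helper6
open scoped ComplexConjugate

theorem arith1 (p a b d t : ℕ) (hp : 2 ≤ p) (hd : 1 ≤ d) (ha : 0 < a)
    (IH : (p - 1) * b ≤ (d - 1) + (p - 1) * (t + 1) * d) (hab : a - 1 ≤ b * p) :
    (p - 1) * a ≤ (p * d - 1) + (p - 1) * (t + 1) * (p * d) := by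
  obtain ⟨q, rfl⟩ : ∃ q, p = q + 1 := ⟨p - 1, by omega⟩
  obtain ⟨e, rfl⟩ : ∃ e, d = e + 1 := ⟨d - 1, by omega⟩
  obtain ⟨a', rfl⟩ : ∃ a', a = a' + 1 := ⟨a - 1, by omega⟩
  simp only [Nat.add_sub_cancel] at IH hab ⊢
  have h1 : (q + 1) * (e + 1) - 1 = q * e + q + e := by
    have : (q + 1) * (e + 1) = q * e + q + e + 1 := by ring
    omega
  rw [h1]
  have h2 := Nat.mul_le_mul_left q hab
  have h3 := Nat.mul_le_mul_left (q + 1) IH
  nlinarith [h2, h3]

theorem arith2 (p a d t : ℕ) (hp : 2 ≤ p) (hd : 1 ≤ d) (ha : 0 < a)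
    (IH : (p - 1) * (a - 1) ≤ (d - 1) + (p - 1) * (t + 1 + 1) * d) :
    (p - 1) * a ≤ (p * d - 1) + (p - 1) * (t + 1) * (p * d) := by
  obtain ⟨q', rfl⟩ : ∃ q, p = q + 2 := ⟨p - 2, by omega⟩
  obtain ⟨e, rfl⟩ : ∃ e, d = e + 1 := ⟨d - 1, by omega⟩
  obtain ⟨a', rfl⟩ : ∃ a', a = a' + 1 := ⟨a - 1, by omega⟩
  have hq : q' + 2 - 1 = q' + 1 := by omega
  simp only [Nat.add_sub_cancel, hq] at IH ⊢
  have h1 : (q' + 2) * (e + 1) - 1 = (q' + 1) * e + (q' + 1) + e := by
    have : (q' + 2) * (e + 1) = (q' + 1) * e + (q' + 1) + e + 1 := by ring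
    omega
  rw [h1]
  have h2 : e + (q' + 1) * (t + 1 + 1) * (e + 1) + (q' + 1)
      + ((q' + 1) * e + (q' + 1) * (e + 1) * (t * q' + t + q'))
      = (q' + 1) * e + (q' + 1) + e + (q' + 1) * (t + 1) * ((q' + 2) * (e + 1)) := by ring
  calc (q' + 1) * (a' + 1) = (q' + 1) * a' + (q' + 1) := by ring
    _ ≤ e + (q' + 1) * (t + 1 + 1) * (e + 1) + (q' + 1) := by omega
    _ ≤ _ := by rw [← h2]; exact Nat.le_add_right _ _

/-- the linear case: the group is cyclic and the field of values is the full cyclotomic field -/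
theorem linear_case {P : Type*} [Group P] [Finite P] (p a : ℕ) (hp : p.Prime) (ha : 0 < a)
    (hP : Nat.card P = p ^ a) {χ : P → ℂ} (hχ : IsCharacter P χ) (h1 : χ 1 = 1)
    (hfaith : ∀ g : P, χ g = χ 1 → g = 1) (t : ℕ)
    (hfield : Module.finrank ℚ (IntermediateField.adjoin ℚ (Set.range χ)) = (p - 1) * p ^ t) :
    t = a - 1 := by
  classical
  haveI : NeZero (p ^ a) := ⟨pow_ne_zero _ hp.ne_zero⟩
  have hn : ∀ g : P, g ^ (p ^ a) = 1 := by
    intro g
    rw [← hP]
    exact pow_card_eq_one'
  rw [finrank_adjoin_range hχ (p ^ a) hn] at hfield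
  set lam := linearCharHom hχ h1 with hlam
  have hinj : Function.Injective ((Units.coeHom ℂ).comp lam) := by
    rw [injective_iff_map_eq_one]
    intro g hg
    apply hfaith
    rw [h1]
    exact hg
  have hcyc : IsCyclic P := isCyclic_of_subgroup_isDomain _ hinj
  obtain ⟨g, hg⟩ := IsCyclic.exists_ofOrder_eq_natCard (α := P)
  have hbot : stabPow χ (p ^ a) hn = ⊥ := by
    rw [eq_bot_iff]
    intro k hk
    rw [Subgroup.mem_bot]
    have h2 := hk g
    have h3 : g ^ ((k : ZMod (p ^ a)).val) = g ^ 1 := by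
      apply hinj
      rw [pow_one]
      exact h2
    rw [pow_eq_pow_iff_modEq, hg, hP] at h3
    have h4 := (ZMod.natCast_eq_natCast_iff _ _ _).mpr h3
    rw [ZMod.natCast_zmod_val, Nat.cast_one] at h4
    exact Units.ext h4
  rw [hbot, Subgroup.index_bot, Nat.card_eq_fintype_card, ZMod.card_units_eq_totient,
    Nat.totient_prime_pow hp ha, mul_comm] at hfield
  have hp1 : 0 < p - 1 := by have := hp.two_le; omega
  have h5 := Nat.eq_of_mul_eq_mul_left hp1 hfield
  exact (Nat.pow_right_injective hp.two_le h5).symm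

/-- The main bound, by induction on the order. -/
theorem main_bound.{u} (p : ℕ) (hp : p.Prime) : ∀ (a : ℕ) (P : Type u) [Group P] [Finite P],
    Nat.card P = p ^ a → ∀ (χ : P → ℂ), IsIrrCharacter P χ → (∀ g : P, χ g = χ 1 → g = 1) →
    ∀ t : ℕ, Module.finrank ℚ (IntermediateField.adjoin ℚ (Set.range χ)) = (p - 1) * p ^ t →
    (p - 1) * a ≤ (charDegree χ - 1) + (p - 1) * (t + 1) * charDegree χ := by
  intro a
  induction a using Nat.strong_induction_on with
  | _ a ih =>
  intro P _ _ hP χ hχ hfaith t hfield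
  classical
  haveI : Fact p.Prime := ⟨hp⟩
  have : Fintype P := Fintype.ofFinite P
  rcases Nat.eq_zero_or_pos a with rfl | ha
  · simp
  have hdpos := IsIrrCharacter.charDegree_pos hχ
  have hχc := IsIrrCharacter.isCharacter hχ
  by_cases hd1 : charDegree χ = 1
  · have h1 : χ 1 = 1 := by
      rw [IsCharacter.apply_one_eq_charDegree hχc, hd1]
      simp
    have ht := linear_case p a hp ha hP hχc h1 hfaith t hfield
    rw [hd1, ht]
    have : a - 1 + 1 = a := by omega
    rw [this]
    simp
  · have hPg : IsPGroup p P := IsPGroup.of_card hP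
    obtain ⟨M, η, hMn, hMi, hη, hχη⟩ := exists_normal_induced hPg hχ hd1
    subst hχη
    have : Fintype M := Fintype.ofFinite M
    have hηc := IsIrrCharacter.isCharacter hη
    haveI : NeZero (p ^ a) := ⟨pow_ne_zero _ hp.ne_zero⟩
    have hn : ∀ g : P, g ^ (p ^ a) = 1 := by
      intro g
      rw [← hP]
      exact pow_card_eq_one'
    have hnM : ∀ m : M, m ^ (p ^ a) = 1 := by
      intro m
      apply Subtype.ext
      rw [Subgroup.coe_pow, hn, Subgroup.coe_one]
    have hcop : ∀ k : (ZMod (p ^ a))ˣ, ((k : ZMod (p ^ a)).val).Coprime (Nat.card P) := by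
      rw [hP]
      exact fun k => ZMod.val_coe_unit_coprime k
    have hTS := stabPow_le_stabPow_indFun M η (p ^ a) hn hnM hcop
    have hr_le := relIndex_stabPow_le M hMn hη hχ (p ^ a) hn hnM hcop
    rw [hMi] at hr_le
    have hSidx : (stabPow (indFun M η) (p ^ a) hn).index = (p - 1) * p ^ t := by
      rw [← finrank_adjoin_range hχc]
      exact hfield
    have hTidx := Subgroup.relIndex_mul_index hTS
    rw [hSidx] at hTidx
    have hfη := finrank_adjoin_range hηc (p ^ a) hnM
    have hcardU : Nat.card (ZMod (p ^ a))ˣ = p ^ (a - 1) * (p - 1) := by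
      rw [Nat.card_eq_fintype_card, ZMod.card_units_eq_totient, Nat.totient_prime_pow hp ha]
    have hScard := (stabPow (indFun M η) (p ^ a) hn).card_mul_index
    rw [hSidx, hcardU] at hScard
    have hp1 : 0 < p - 1 := by have := hp.two_le; omega
    have hSdvd : Nat.card (stabPow (indFun M η) (p ^ a) hn) ∣ p ^ (a - 1) := by
      have : Nat.card (stabPow (indFun M η) (p ^ a) hn) * p ^ t = p ^ (a - 1) := by
        apply Nat.eq_of_mul_eq_mul_right hp1
        rw [← hScard]
        ring
      exact Dvd.intro _ this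
    have hrdvd := (Subgroup.relIndex_dvd_card (stabPow η (p ^ a) hnM)
      (stabPow (indFun M η) (p ^ a) hn)).trans hSdvd
    obtain ⟨j, -, hrj⟩ := (Nat.dvd_prime_pow hp).mp hrdvd
    have hj1 : j ≤ 1 := by
      by_contra hcon
      push Not at hcon
      have h2 : p ^ 2 ≤ p ^ j := Nat.pow_le_pow_right hp.pos hcon
      rw [← hrj] at h2
      nlinarith [hp.two_le]
    -- degrees
    have hdeg : charDegree (indFun M η) = p * charDegree η := by
      have e1 := IsCharacter.apply_one_eq_charDegree hχc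
      rw [indFun_one, IsCharacter.apply_one_eq_charDegree hηc, hMi] at e1
      exact_mod_cast e1.symm
    have hdη := IsIrrCharacter.charDegree_pos hη
    have hMcard : Nat.card M = p ^ (a - 1) := by
      have h2 := M.card_mul_index
      rw [hMi, hP] at h2
      have h3 : p ^ a = p ^ (a - 1) * p := by
        rw [← pow_succ]
        congr 1
        omega
      rw [h3] at h2
      exact Nat.eq_of_mul_eq_mul_right hp.pos h2
    rw [hdeg]
    interval_cases j
    · -- relative index one
      rw [pow_zero] at hrj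
      rw [hrj, one_mul] at hTidx
      obtain ⟨K, hKn, β, hK, hβ, hηβ, -, hdegβ⟩ := CharQuot.exists_kernel_deflation hη
      have hβfaith : ∀ q : M ⧸ K, β q = β 1 → q = 1 := by
        intro q hq
        obtain ⟨m, rfl⟩ := QuotientGroup.mk_surjective q
        rw [QuotientGroup.eq_one_iff, hK, hηβ]
        exact hq
      have hrange : Set.range η = Set.range β := by
        rw [hηβ]
        exact Function.Surjective.range_comp QuotientGroup.mk_surjective β
      have hKdvd : K.index ∣ p ^ (a - 1) := by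
        rw [← hMcard]
        exact K.index_dvd_card
      obtain ⟨b, hb, hKb⟩ := (Nat.dvd_prime_pow hp).mp hKdvd
      have hcardQ : Nat.card (M ⧸ K) = p ^ b := by
        rw [← Subgroup.index_eq_card, hKb]
      have hfβ : Module.finrank ℚ (IntermediateField.adjoin ℚ (Set.range β)) = (p - 1) * p ^ t := by
        rw [← hrange, hfη, hTidx]
      have hIH := ih b (by omega) (M ⧸ K) hcardQ β hβ hβfaith t hfβ
      rw [← hdegβ] at hIH
      have hle := card_le_index_pow M hMn hη K hK hfaith
      rw [hMcard, hKb, hMi, ← pow_mul] at hle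
      have hab : a - 1 ≤ b * p := (Nat.pow_le_pow_iff_right hp.one_lt).mp hle
      exact arith1 p a b (charDegree η) t hp.two_le hdη ha hIH hab
    · -- relative index `p`
      rw [pow_one] at hrj
      rw [hrj] at hTidx
      have hall := exists_pow_eq_conjFun M hMn hη hχ (p ^ a) hn hnM hcop (by rw [hrj, hMi])
      have hηfaith := faithful_of_twists M hMn hη (p ^ a) hall hfaith
      have hfη' : Module.finrank ℚ (IntermediateField.adjoin ℚ (Set.range η))
          = (p - 1) * p ^ (t + 1) := by
        rw [hfη, ← hTidx]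
        ring
      have hIH := ih (a - 1) (by omega) M hMcard η hη hηfaith (t + 1) hfη'
      exact arith2 p a (charDegree η) t hp.two_le hdη ha hIH

end Cfsg.Agent.Lib.Helper3.FV
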