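import Mathlib
import Cfsg.Agent.Lib.Helper1.Zipper
import Cfsg.Agent.Lib.Helper1.WielandtJoin
import Cfsg.Agent.Lib.Helper1.WielandtCriterion
open Pointwise

set_option autoImplicit false

/-!
# Subgroups generated by their own conjugates of a fixed subgroup (part 1)

`NC A H` : the normal closure of `A` in `H` is `H`.  Basic closure properties,
and the subnormal-closure construction.
-/

namespace Cfsg.Agent.Lib.Helper3.FZ

open Cfsg.Agent.Lib.Helper1

universe u

variable {G : Type u} [Group G]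

/-- The normal closure of `A` (inside `H`) is all of `H`. -/
def NC (A H : Subgroup G) : Prop :=
  Subgroup.normalClosure ((A.subgroupOf H : Subgroup ↥H) : Set ↥H) = ⊤

theorem nc_iff {A H : Subgroup G} (hAH : A ≤ H) :
    NC A H ↔ ∀ N : Subgroup G, A ≤ N → N ≤ H → H ≤ Subgroup.normalizer (N : Set G) → H ≤ N := by
  constructor
  · intro h N hAN hNH hnorm
    haveI : (N.subgroupOf H).Normal := (Subgroup.normal_subgroupOf_iff_le_normalizer hNH).mpr hnorm
    have h1 : Subgroup.normalClosure ((A.subgroupOf H : Subgroup ↥H) : Set ↥H) ≤ N.subgroupOf H := by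
      apply Subgroup.normalClosure_le_normal
      intro x hx
      exact hAN hx
    rw [h, top_le_iff, Subgroup.subgroupOf_eq_top] at h1
    exact h1
  · intro h
    set K : Subgroup ↥H := Subgroup.normalClosure ((A.subgroupOf H : Subgroup ↥H) : Set ↥H) with hK
    have hKN : (K.map H.subtype).subgroupOf H = K := by
      ext x
      rw [Subgroup.mem_subgroupOf, Subgroup.mem_map]
      constructor
      · rintro ⟨y, hy, hyx⟩
        have : y = x := Subtype.ext hyx
        rwa [← this]
      · intro hx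
        exact ⟨x, hx, rfl⟩
    have h1 : A ≤ K.map H.subtype := by
      intro a ha
      refine ⟨⟨a, hAH ha⟩, ?_, rfl⟩
      apply Subgroup.subset_normalClosure
      exact ha
    have h2 : K.map H.subtype ≤ H := Subgroup.map_subtype_le K
    have h3 : H ≤ Subgroup.normalizer ((K.map H.subtype : Subgroup G) : Set G) := by
      rw [← Subgroup.normal_subgroupOf_iff_le_normalizer h2, hKN]
      exact Subgroup.normalClosure_normal
    have h4 := h _ h1 h2 h3
    rw [← Subgroup.subgroupOf_eq_top, hKN] at h4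
    exact h4

theorem nc_self (A : Subgroup G) : NC A A := by
  rw [nc_iff le_rfl]
  intro N hAN _ _
  exact hAN

theorem nc_trans {A H K : Subgroup G} (hAH : A ≤ H) (hHK : H ≤ K) (h1 : NC A H) (h2 : NC H K) :
    NC A K := by
  rw [nc_iff (hAH.trans hHK)]
  intro N hAN hNK hnorm
  have h3 : H ≤ N ⊓ H := by
    apply (nc_iff hAH).mp h1 (N ⊓ H) (le_inf hAN hAH) inf_le_right
    intro h hh
    rw [Subgroup.mem_normalizer_iff]
    intro x
    have hn := Subgroup.mem_normalizer_iff.mp (hnorm (hHK hh)) x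
    constructor
    · rintro ⟨hx1, hx2⟩
      exact ⟨hn.mp hx1, H.mul_mem (H.mul_mem hh hx2) (H.inv_mem hh)⟩
    · rintro ⟨hx1, hx2⟩
      refine ⟨hn.mpr hx1, ?_⟩
      have := H.mul_mem (H.mul_mem (H.inv_mem hh) hx2) hh
      simpa [mul_assoc] using this
  exact (nc_iff hHK).mp h2 N (h3.trans inf_le_left) hNK hnorm

theorem nc_sSup {A : Subgroup G} (S : Set (Subgroup G)) (hne : S.Nonempty)
    (h : ∀ H ∈ S, A ≤ H ∧ NC A H) : NC A (sSup S) := by
  obtain ⟨H0, hH0⟩ := hne
  have hA : A ≤ sSup S := (h H0 hH0).1.trans (le_sSup hH0)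
  rw [nc_iff hA]
  intro N hAN hNS hnorm
  apply sSup_le
  intro H hH
  have hHS : H ≤ sSup S := le_sSup hH
  have h3 : H ≤ N ⊓ H := by
    apply (nc_iff (h H hH).1).mp (h H hH).2 (N ⊓ H) (le_inf hAN (h H hH).1) inf_le_right
    intro x hx
    rw [Subgroup.mem_normalizer_iff]
    intro y
    have hn := Subgroup.mem_normalizer_iff.mp (hnorm (hHS hx)) y
    constructor
    · rintro ⟨hx1, hx2⟩
      exact ⟨hn.mp hx1, H.mul_mem (H.mul_mem hx hx2) (H.inv_mem hx)⟩
    · rintro ⟨hx1, hx2⟩
      refine ⟨hn.mpr hx1, ?_⟩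
      have := H.mul_mem (H.mul_mem (H.inv_mem hx) hx2) hx
      simpa [mul_assoc] using this
  exact h3.trans inf_le_left

theorem conj_smul_le_iff {A B : Subgroup G} (g : G) :
    MulAut.conj g • A ≤ B ↔ A ≤ MulAut.conj g⁻¹ • B := by
  constructor
  · intro h a ha
    rw [mem_conj_smul_iff]
    have : g * a * g⁻¹ ∈ MulAut.conj g • A := by
      rw [mem_conj_smul_iff]
      have e : g⁻¹ * (g * a * g⁻¹) * g = a := by group
      rw [e]; exact ha
    simpa using h this
  · intro h x hx
    rw [mem_conj_smul_iff] at hx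
    have := h hx
    rw [mem_conj_smul_iff] at this
    have e : g⁻¹⁻¹ * (g⁻¹ * x * g) * g⁻¹ = x := by group
    rwa [e] at this

theorem conj_smul_mono {A B : Subgroup G} (g : G) (h : A ≤ B) :
    MulAut.conj g • A ≤ MulAut.conj g • B := by
  intro x hx
  rw [mem_conj_smul_iff] at hx ⊢
  exact h hx

theorem conj_inv_smul_smul (g : G) (A : Subgroup G) :
    MulAut.conj g⁻¹ • MulAut.conj g • A = A := by
  rw [smul_smul, ← map_mul, inv_mul_cancel, map_one, one_smul]

theorem conj_smul_inv_smul (g : G) (A : Subgroup G) :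
    MulAut.conj g • MulAut.conj g⁻¹ • A = A := by
  rw [smul_smul, ← map_mul, mul_inv_cancel, map_one, one_smul]

theorem le_normalizer_conj_smul {H N : Subgroup G} (g : G)
    (h : H ≤ Subgroup.normalizer (N : Set G)) :
    MulAut.conj g • H ≤ Subgroup.normalizer ((MulAut.conj g • N : Subgroup G) : Set G) := by
  intro x hx
  rw [mem_conj_smul_iff] at hx
  have hn := h hx
  rw [Subgroup.mem_normalizer_iff] at hn ⊢
  intro y
  rw [mem_conj_smul_iff, mem_conj_smul_iff, hn (g⁻¹ * y * g)]
  have e : g⁻¹ * x * g * (g⁻¹ * y * g) * (g⁻¹ * x * g)⁻¹ = g⁻¹ * (x * y * x⁻¹) * g := by group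
  rw [e]

theorem nc_conj {A H : Subgroup G} (g : G) (hAH : A ≤ H) (h : NC A H) :
    NC (MulAut.conj g • A) (MulAut.conj g • H) := by
  rw [nc_iff (conj_smul_mono g hAH)]
  intro N hAN hNH hnorm
  rw [conj_smul_le_iff] at hAN ⊢
  have h1 : MulAut.conj g⁻¹ • N ≤ H := by
    have := conj_smul_mono g⁻¹ hNH
    rwa [conj_inv_smul_smul] at this
  have h2 : H ≤ Subgroup.normalizer ((MulAut.conj g⁻¹ • N : Subgroup G) : Set G) := by
    have := le_normalizer_conj_smul g⁻¹ hnorm
    rwa [conj_inv_smul_smul] at this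
  exact (nc_iff hAH).mp h _ hAN h1 h2

theorem nc_sn_eq {A H : Subgroup G} (hAH : A ≤ H) (h : NC A H)
    (hsn : (A.subgroupOf H).IsSubnormal) : A = H := by
  rcases hsn.lt_normal with h1 | ⟨K, hKn, hAK, hKt⟩
  · rw [Subgroup.subgroupOf_eq_top] at h1
    exact le_antisymm hAH h1
  · exfalso
    haveI := hKn
    have h2 : Subgroup.normalClosure ((A.subgroupOf H : Subgroup ↥H) : Set ↥H) ≤ K :=
      Subgroup.normalClosure_le_normal hAK
    rw [h, top_le_iff] at h2
    exact hKt.ne h2

theorem card_lt_of_lt' [Finite G] {D E : Subgroup G} (h : D < E) : Nat.card D < Nat.card E := by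
  by_contra hle
  push Not at hle
  exact h.ne (Subgroup.eq_of_le_of_card_ge h.le hle)

/-- Relative subnormality is transitive through a relatively normal middle term. -/
theorem sn_of_sn_of_normal {H X' X : Subgroup G} (hHX' : H ≤ X') (hX'X : X' ≤ X)
    (h1 : (H.subgroupOf X').IsSubnormal) (h2 : X ≤ Subgroup.normalizer (X' : Set G)) :
    (H.subgroupOf X).IsSubnormal := by
  have hn : (X'.subgroupOf X).Normal := (Subgroup.normal_subgroupOf_iff_le_normalizer hX'X).mpr h2
  have h3 : ((H.subgroupOf X).subgroupOf (X'.subgroupOf X)).IsSubnormal :=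
    (isSubnormal_subgroupOf_subgroupOf_iff X H X' (hHX'.trans hX'X) hX'X).mpr h1
  exact Subgroup.IsSubnormal.trans (Subgroup.comap_mono hHX') h3 hn.isSubnormal

/-- The subnormal closure: a subnormal subgroup of `X` containing `A` generated by its conjugates of `A`. -/
theorem exists_sn_closure_aux [Finite G] (A : Subgroup G) :
    ∀ n : ℕ, ∀ X : Subgroup G, Nat.card X = n → A ≤ X →
      ∃ H : Subgroup G, A ≤ H ∧ H ≤ X ∧ (H.subgroupOf X).IsSubnormal ∧ NC A H := by
  intro n
  induction n using Nat.strong_induction_on with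
  | _ n ih =>
    intro X hX hAX
    by_cases hnc : NC A X
    · refine ⟨X, hAX, le_rfl, ?_, hnc⟩
      rw [Subgroup.subgroupOf_self]
      exact Subgroup.IsSubnormal.top
    · rw [nc_iff hAX] at hnc
      push Not at hnc
      obtain ⟨N, hAN, hNX, hnorm, hXN⟩ := hnc
      have hlt : N < X := lt_of_le_of_ne hNX (fun h => hXN (h ▸ le_rfl))
      have hcard : Nat.card N < n := by
        rw [← hX]
        exact card_lt_of_lt' hlt
      obtain ⟨H, hAH, hHN, hsn, hncH⟩ := ih _ hcard N rfl hAN
      exact ⟨H, hAH, hHN.trans hNX, sn_of_sn_of_normal hHN hNX hsn hnorm, hncH⟩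

theorem exists_sn_closure [Finite G] (A X : Subgroup G) (hAX : A ≤ X) :
    ∃ H : Subgroup G, A ≤ H ∧ H ≤ X ∧ (H.subgroupOf X).IsSubnormal ∧ NC A H :=
  exists_sn_closure_aux A _ X rfl hAX

end Cfsg.Agent.Lib.Helper3.FZ
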