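import Mathlib
import Cfsg.Agent.Lib.Helper3.FZ1
open Pointwise

set_option autoImplicit false

/-!
# Subgroups generated by their own conjugates of a fixed subgroup (part 2)

The family `HS A`, its join `YY A`, and the case where `YY A = A`.
-/

namespace Cfsg.Agent.Lib.Helper3.FZ

open Cfsg.Agent.Lib.Helper1

universe u

variable {G : Type u} [Group G]

/-- Proper subgroups containing `A` and generated by their own conjugates of `A`. -/
def HS (A : Subgroup G) : Set (Subgroup G) := {H | A ≤ H ∧ H ≠ ⊤ ∧ NC A H}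

/-- The join of `HS A`. -/
def YY (A : Subgroup G) : Subgroup G := sSup (HS A)

/-- The conclusion of the generalised zipper theorem. -/
def Concl (B : Subgroup G) : Prop := YY B = ⊤ ∨ ∃! W : Subgroup G, IsCoatom W ∧ B ≤ W

theorem self_mem_HS {A : Subgroup G} (hA : A ≠ ⊤) : A ∈ HS A := ⟨le_rfl, hA, nc_self A⟩

theorem le_YY {A : Subgroup G} (hA : A ≠ ⊤) : A ≤ YY A := le_sSup (self_mem_HS hA)

theorem YY_mem_HS {A : Subgroup G} (hA : A ≠ ⊤) (hY : YY A ≠ ⊤) : YY A ∈ HS A :=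
  ⟨le_YY hA, hY, nc_sSup (HS A) ⟨A, self_mem_HS hA⟩ (fun _ hH => ⟨hH.1, hH.2.2⟩)⟩

theorem HS_subset {A H : Subgroup G} (hH : H ∈ HS A) : HS H ⊆ HS A :=
  fun _ hK => ⟨hH.1.trans hK.1, hK.2.1, nc_trans hH.1 hK.1 hH.2.2 hK.2.2⟩

theorem YY_le_of_mem {A H : Subgroup G} (hH : H ∈ HS A) : YY H ≤ YY A :=
  sSup_le_sSup (HS_subset hH)

theorem conj_smul_ne_top {H : Subgroup G} (g : G) (h : H ≠ ⊤) : MulAut.conj g • H ≠ ⊤ := by
  intro h1
  apply h
  rw [eq_top_iff]
  intro x _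
  have : g * x * g⁻¹ ∈ MulAut.conj g • H := by rw [h1]; trivial
  rw [mem_conj_smul_iff] at this
  have e : g⁻¹ * (g * x * g⁻¹) * g = x := by group
  rwa [e] at this

theorem HS_conj {A H : Subgroup G} (g : G) (hH : H ∈ HS A) :
    MulAut.conj g • H ∈ HS (MulAut.conj g • A) :=
  ⟨conj_smul_mono g hH.1, conj_smul_ne_top g hH.2.1, nc_conj g hH.1 hH.2.2⟩

theorem normalizer_le_normalizer_YY (A : Subgroup G) :
    Subgroup.normalizer (A : Set G) ≤ Subgroup.normalizer ((YY A : Subgroup G) : Set G) := by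
  apply le_normalizer_sSup_of_conj_closed
  intro H hH v hv
  have := HS_conj v hH
  rwa [conj_smul_eq_of_mem_normalizer hv] at this

theorem normalizer_ne_top {A : Subgroup G} (hA : Subgroup.normalClosure (A : Set G) = ⊤)
    (hAt : A ≠ ⊤) : Subgroup.normalizer (A : Set G) ≠ ⊤ := by
  intro h
  rw [Subgroup.normalizer_eq_top_iff] at h
  haveI := h
  rw [Subgroup.normalClosure_eq_self] at hA
  exact hAt hA

theorem normalClosure_eq_top_of_le {A B : Subgroup G}
    (hA : Subgroup.normalClosure (A : Set G) = ⊤) (h : A ≤ B) :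
    Subgroup.normalClosure (B : Set G) = ⊤ := by
  rw [eq_top_iff, ← hA]
  exact Subgroup.normalClosure_mono h

theorem normalClosure_conj_smul {A : Subgroup G} (g : G)
    (hA : Subgroup.normalClosure (A : Set G) = ⊤) :
    Subgroup.normalClosure ((MulAut.conj g • A : Subgroup G) : Set G) = ⊤ := by
  rw [eq_top_iff, ← hA]
  apply Subgroup.normalClosure_le_normal
  intro a ha
  have h1 : g * a * g⁻¹ ∈ Subgroup.normalClosure ((MulAut.conj g • A : Subgroup G) : Set G) := by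
    apply Subgroup.subset_normalClosure
    show g * a * g⁻¹ ∈ MulAut.conj g • A
    rw [mem_conj_smul_iff]
    have e : g⁻¹ * (g * a * g⁻¹) * g = a := by group
    rw [e]; exact ha
  have h2 := (Subgroup.normalClosure_normal (s := ((MulAut.conj g • A : Subgroup G) : Set G))).conj_mem
    _ h1 g⁻¹
  have e : g⁻¹ * (g * a * g⁻¹) * g⁻¹⁻¹ = a := by group
  rwa [e] at h2

theorem coatom_eq_of_le {L M : Subgroup G} (hL : IsCoatom L) (hM : IsCoatom M) (h : L ≤ M) :
    L = M := ((hL.le_iff_eq hM.1).mp h).symm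

/-- Step 1: members of `HS A` other than `A` lie in a unique maximal subgroup. -/
theorem uniq_of_mem_HS [Finite G] {A : Subgroup G}
    (hA : Subgroup.normalClosure (A : Set G) = ⊤)
    (IH : ∀ B : Subgroup G, Nat.card A < Nat.card B → B ≠ ⊤ →
      Subgroup.normalClosure (B : Set G) = ⊤ → Concl B)
    (hY : YY A ≠ ⊤) {H : Subgroup G} (hH : H ∈ HS A) (hne : H ≠ A) :
    ∃! W : Subgroup G, IsCoatom W ∧ H ≤ W := by
  have hlt : A < H := lt_of_le_of_ne hH.1 (Ne.symm hne)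
  rcases IH H (card_lt_of_lt' hlt) hH.2.1 (normalClosure_eq_top_of_le hA hH.1) with h | h
  · exfalso
    apply hY
    rw [eq_top_iff, ← h]
    exact YY_le_of_mem hH
  · exact h

/-- A subnormal subgroup that is not normal has a conjugate, different from it, normalising it. -/
theorem exists_conj_ne_le_normalizer [Finite G] {A L : Subgroup G} (hAL : A ≤ L)
    (hsn : (A.subgroupOf L).IsSubnormal) (hnn : ¬ L ≤ Subgroup.normalizer (A : Set G)) :
    ∃ l ∈ L, MulAut.conj l • A ≠ A ∧ MulAut.conj l • A ≤ Subgroup.normalizer (A : Set G) ∧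
      MulAut.conj l • A ≤ L := by
  set S : Set (Subgroup G) := {B | ∃ l ∈ L, B = MulAut.conj l • A} with hS
  have hLL : ∀ l ∈ L, MulAut.conj l • L = L := fun l hl =>
    conj_smul_eq_of_mem_normalizer (Subgroup.le_normalizer hl)
  have h1 : ∀ B ∈ S, B ≤ L ∧ (B.subgroupOf L).IsSubnormal := by
    rintro B ⟨l, hl, rfl⟩
    refine ⟨?_, ?_⟩
    · have := conj_smul_mono l hAL
      rwa [hLL l hl] at this
    · have := (isSubnormal_subgroupOf_conj_smul_iff l A L).mpr hsn
      rwa [hLL l hl] at this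
  have h2 : ∀ B ∈ S, ∀ v ∈ L, MulAut.conj v • B ∈ S := by
    rintro B ⟨l, hl, rfl⟩ v hv
    exact ⟨v * l, L.mul_mem hv hl, by rw [smul_smul, ← map_mul]⟩
  have hAS : A ∈ S := ⟨1, L.one_mem, by rw [map_one, one_smul]⟩
  have h3 : ({A} : Set (Subgroup G)) ⊂ S := by
    refine ⟨Set.singleton_subset_iff.mpr hAS, ?_⟩
    intro hle
    apply hnn
    intro l hl
    have : MulAut.conj l • A ∈ ({A} : Set (Subgroup G)) := hle ⟨l, hl, rfl⟩
    exact mem_normalizer_of_conj_smul_eq (Set.mem_singleton_iff.mp this)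
  obtain ⟨X, ⟨l, hl, rfl⟩, hX0, hXn⟩ := subnormal_family_member_normalizes_join_rel L S {A} h1 h2 h3
  rw [sSup_singleton] at hXn
  exact ⟨l, hl, fun h => hX0 (Set.mem_singleton_iff.mpr h), hXn, (h1 _ ⟨l, hl, rfl⟩).1⟩

theorem lt_sup_conj_of_ne {A : Subgroup G} [Finite G] (g : G) (h : MulAut.conj g • A ≠ A) :
    A < A ⊔ MulAut.conj g • A := by
  refine lt_of_le_of_ne le_sup_left ?_
  intro h1
  apply h
  have h2 : MulAut.conj g • A ≤ A := le_sup_right.trans h1.ge
  exact Subgroup.eq_of_le_of_card_ge h2 (card_conj_smul g A).ge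

/-- relative subnormality of a conjugate -/
theorem sn_conj_of_sn {A : Subgroup G} (g : G)
    (hb : ∀ X : Subgroup G, A ≤ X → X ≠ ⊤ → (A.subgroupOf X).IsSubnormal)
    {K : Subgroup G} (hK : MulAut.conj g • A ≤ K) (hKt : K ≠ ⊤) :
    ((MulAut.conj g • A).subgroupOf K).IsSubnormal := by
  have h1 : A ≤ MulAut.conj g⁻¹ • K := (conj_smul_le_iff g).mp hK
  have h2 := hb _ h1 (conj_smul_ne_top g⁻¹ hKt)
  have h3 := (isSubnormal_subgroupOf_conj_smul_iff g A (MulAut.conj g⁻¹ • K)).mpr h2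
  rwa [conj_smul_inv_smul] at h3

theorem sn_sup_of_sn [Finite G] {A X K : Subgroup G} (hA : A ≤ K) (hX : X ≤ K)
    (h1 : (A.subgroupOf K).IsSubnormal) (h2 : (X.subgroupOf K).IsSubnormal) :
    ((A ⊔ X).subgroupOf K).IsSubnormal := by
  rw [Subgroup.subgroupOf_sup hA hX]
  exact isSubnormal_sup h1 h2

/-- The case `YY A = A`: every proper overgroup has `A` subnormal (the classical zipper situation). -/
theorem caseA [Finite G] (A : Subgroup G) (hA : Subgroup.normalClosure (A : Set G) = ⊤)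
    (hAt : A ≠ ⊤)
    (IH : ∀ B : Subgroup G, Nat.card A < Nat.card B → B ≠ ⊤ →
      Subgroup.normalClosure (B : Set G) = ⊤ → Concl B)
    (hYA : ∀ H ∈ HS A, H = A) : ∃! M : Subgroup G, IsCoatom M ∧ A ≤ M := by
  have hb : ∀ X : Subgroup G, A ≤ X → X ≠ ⊤ → (A.subgroupOf X).IsSubnormal := by
    intro X hAX hXt
    obtain ⟨H, hAH, hHX, hsn, hnc⟩ := exists_sn_closure A X hAX
    have hHt : H ≠ ⊤ := fun h => hXt (top_le_iff.mp (h ▸ hHX))
    have h1 := hYA H ⟨hAH, hHt, hnc⟩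
    subst h1
    exact hsn
  obtain ⟨M, hM, hNM⟩ := (eq_top_or_exists_le_coatom _).resolve_left (normalizer_ne_top hA hAt)
  refine ⟨M, ⟨hM, Subgroup.le_normalizer.trans hNM⟩, ?_⟩
  rintro L ⟨hL, hAL⟩
  by_contra hne
  have hsnL := hb L hAL hL.1
  have hnn : ¬ L ≤ Subgroup.normalizer (A : Set G) :=
    fun h => hne (coatom_eq_of_le hL hM (h.trans hNM))
  obtain ⟨l, hl, hne', hln, hlL⟩ := exists_conj_ne_le_normalizer hAL hsnL hnn
  have hBL : A ⊔ MulAut.conj l • A ≤ L := sup_le hAL hlL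
  have hBM : A ⊔ MulAut.conj l • A ≤ M := sup_le (Subgroup.le_normalizer.trans hNM) (hln.trans hNM)
  have hBt : A ⊔ MulAut.conj l • A ≠ ⊤ := fun h => hM.1 (top_le_iff.mp (h ▸ hBM))
  rcases IH _ (card_lt_of_lt' (lt_sup_conj_of_ne l hne')) hBt
    (normalClosure_eq_top_of_le hA le_sup_left) with h1 | ⟨W, _, hWu⟩
  · have h2 : YY (A ⊔ MulAut.conj l • A) ≤ A ⊔ MulAut.conj l • A := by
      apply sSup_le
      intro K hK
      have hAK : A ≤ K := le_sup_left.trans hK.1
      have hXK : MulAut.conj l • A ≤ K := le_sup_right.trans hK.1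
      have h3 := sn_sup_of_sn hAK hXK (hb K hAK hK.2.1) (sn_conj_of_sn l hb hXK hK.2.1)
      exact (nc_sn_eq hK.1 hK.2.2 h3).ge
    exact hBt (top_le_iff.mp (h1 ▸ h2))
  · have h2 := hWu L ⟨hL, hBL⟩
    have h3 := hWu M ⟨hM, hBM⟩
    exact hne (h2.trans h3.symm)

end Cfsg.Agent.Lib.Helper3.FZ
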