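import Mathlib
import Cfsg.Agent.Lib.Helper3.FZ2
open Pointwise

set_option autoImplicit false

/-!
# Subgroups generated by their own conjugates of a fixed subgroup (part 3)

The context of the main case and "home pairs" `(g • A, g • M)`.
-/

namespace Cfsg.Agent.Lib.Helper3.FZ

open Cfsg.Agent.Lib.Helper1

universe u

variable {G : Type u} [Group G]

/-- The situation of the main case: `M` is the distinguished maximal subgroup over `A`. -/
structure Ctx (A M : Subgroup G) : Prop where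
  coatom : IsCoatom M
  le : A ≤ M
  ncl : Subgroup.normalClosure (A : Set G) = ⊤
  norm_le : Subgroup.normalizer (A : Set G) ≤ M
  not_norm : ¬ M ≤ Subgroup.normalizer (A : Set G)
  sn : ∀ X : Subgroup G, A ≤ X → X ≠ ⊤ → ¬ X ≤ M → (A.subgroupOf X).IsSubnormal
  ih : ∀ B : Subgroup G, Nat.card A < Nat.card B → B ≠ ⊤ →
      Subgroup.normalClosure (B : Set G) = ⊤ → Concl B

/-- `(C, V)` is a simultaneous conjugate of `(A, M)`. -/
def Home (A M C V : Subgroup G) : Prop :=
  ∃ g : G, C = MulAut.conj g • A ∧ V = MulAut.conj g • M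

theorem conj_smul_lt_iff {A B : Subgroup G} (g : G) :
    MulAut.conj g • A < B ↔ A < MulAut.conj g⁻¹ • B := by
  rw [lt_iff_le_not_ge, lt_iff_le_not_ge, conj_smul_le_iff]
  have : B ≤ MulAut.conj g • A ↔ MulAut.conj g⁻¹ • B ≤ A := by
    rw [conj_smul_le_iff, inv_inv]
  rw [this]

theorem isCoatom_conj_smul {M : Subgroup G} (g : G) (hM : IsCoatom M) :
    IsCoatom (MulAut.conj g • M) := by
  refine ⟨conj_smul_ne_top g hM.1, ?_⟩
  intro b hb
  rw [conj_smul_lt_iff] at hb
  have h1 := hM.2 _ hb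
  by_contra hbt
  exact conj_smul_ne_top g⁻¹ hbt h1

theorem home_self (A M : Subgroup G) : Home A M A M :=
  ⟨1, by rw [map_one, one_smul], by rw [map_one, one_smul]⟩

theorem home_conj {A M C V : Subgroup G} (k : G) (h : Home A M C V) :
    Home A M (MulAut.conj k • C) (MulAut.conj k • V) := by
  obtain ⟨g, rfl, rfl⟩ := h
  exact ⟨k * g, by rw [smul_smul, ← map_mul], by rw [smul_smul, ← map_mul]⟩

section ctx

variable {A M : Subgroup G}

theorem home_le (c : Ctx A M) {C V : Subgroup G} (h : Home A M C V) : C ≤ V := by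
  obtain ⟨g, rfl, rfl⟩ := h
  exact conj_smul_mono g c.le

theorem home_coatom (c : Ctx A M) {C V : Subgroup G} (h : Home A M C V) : IsCoatom V := by
  obtain ⟨g, rfl, rfl⟩ := h
  exact isCoatom_conj_smul g c.coatom

theorem home_card {C V : Subgroup G} (h : Home A M C V) : Nat.card C = Nat.card A := by
  obtain ⟨g, rfl, rfl⟩ := h
  exact card_conj_smul g A

theorem home_ncl (c : Ctx A M) {C V : Subgroup G} (h : Home A M C V) :
    Subgroup.normalClosure (C : Set G) = ⊤ := by
  obtain ⟨g, rfl, rfl⟩ := h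
  exact normalClosure_conj_smul g c.ncl

theorem home_unique (c : Ctx A M) {C V V' : Subgroup G} (h : Home A M C V) (h' : Home A M C V') :
    V = V' := by
  obtain ⟨g, hC, rfl⟩ := h
  obtain ⟨g', hC', rfl⟩ := h'
  have h1 : MulAut.conj (g'⁻¹ * g) • A = A := by
    rw [map_mul, mul_smul, ← hC, hC', conj_inv_smul_smul]
  have h2 : g'⁻¹ * g ∈ M := c.norm_le (mem_normalizer_of_conj_smul_eq h1)
  have h3 : MulAut.conj (g'⁻¹ * g) • M = M :=
    conj_smul_eq_of_mem_normalizer (Subgroup.le_normalizer h2)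
  rw [map_mul, mul_smul] at h3
  have h4 := congrArg (fun K => MulAut.conj g' • K) h3
  simp only [conj_smul_inv_smul] at h4
  exact h4

theorem home_sn (c : Ctx A M) {C V X : Subgroup G} (h : Home A M C V) (hCX : C ≤ X)
    (hXt : X ≠ ⊤) (hXV : ¬ X ≤ V) : (C.subgroupOf X).IsSubnormal := by
  obtain ⟨g, rfl, rfl⟩ := h
  have h1 : A ≤ MulAut.conj g⁻¹ • X := (conj_smul_le_iff g).mp hCX
  have h2 : ¬ MulAut.conj g⁻¹ • X ≤ M := by
    intro h
    apply hXV
    have := conj_smul_mono g h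
    rwa [conj_smul_inv_smul] at this
  have h3 := c.sn _ h1 (conj_smul_ne_top g⁻¹ hXt) h2
  have h4 := (isSubnormal_subgroupOf_conj_smul_iff g A (MulAut.conj g⁻¹ • X)).mpr h3
  rwa [conj_smul_inv_smul] at h4

theorem home_not_norm (c : Ctx A M) {C V : Subgroup G} (h : Home A M C V) :
    ¬ V ≤ Subgroup.normalizer (C : Set G) := by
  obtain ⟨g, rfl, rfl⟩ := h
  intro h1
  apply c.not_norm
  have h2 := le_normalizer_conj_smul g⁻¹ h1
  rwa [conj_inv_smul_smul, conj_inv_smul_smul] at h2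

theorem lt_sup_of_card_eq [Finite G] {C C' : Subgroup G} (hcard : Nat.card C' = Nat.card C)
    (hne : C' ≠ C) : C < C ⊔ C' := by
  refine lt_of_le_of_ne le_sup_left ?_
  intro h1
  apply hne
  have h2 : C' ≤ C := le_sup_right.trans h1.ge
  exact Subgroup.eq_of_le_of_card_ge h2 hcard.ge

/-- The basic dichotomy: a second conjugate `C'` of `A` inside the home `V` of `C` either is
"mutual" with `C` (its home is different and contains `C`), or `C ⊔ C'` lies in no maximal
subgroup other than `V`. -/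
theorem dichotomy [Finite G] (c : Ctx A M) {C V C' V' : Subgroup G} (h : Home A M C V)
    (h' : Home A M C' V') (hC'V : C' ≤ V) (hne : C' ≠ C) :
    (V' ≠ V ∧ C ≤ V') ∨ (∀ W : Subgroup G, IsCoatom W → C ≤ W → C' ≤ W → W = V) := by
  have hVc := home_coatom c h
  have hBV : C ⊔ C' ≤ V := sup_le (home_le c h) hC'V
  have hBt : C ⊔ C' ≠ ⊤ := fun h1 => hVc.1 (top_le_iff.mp (h1 ▸ hBV))
  have hlt : C < C ⊔ C' := lt_sup_of_card_eq ((home_card h').trans (home_card h).symm) hne
  have hcard : Nat.card A < Nat.card (C ⊔ C' : Subgroup G) := by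
    rw [← home_card h]; exact card_lt_of_lt' hlt
  have hncl : Subgroup.normalClosure ((C ⊔ C' : Subgroup G) : Set G) = ⊤ :=
    normalClosure_eq_top_of_le (home_ncl c h) le_sup_left
  rcases c.ih _ hcard hBt hncl with h1 | ⟨W0, _, hW0u⟩
  · left
    have hex : ∃ K ∈ HS (C ⊔ C'), ¬ K ≤ V := by
      by_contra hcon
      push Not at hcon
      have h2 : YY (C ⊔ C') ≤ V := sSup_le hcon
      exact hVc.1 (top_le_iff.mp (h1 ▸ h2))
    obtain ⟨K, hK, hKV⟩ := hex
    have hCK : C ≤ K := le_sup_left.trans hK.1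
    have hC'K : C' ≤ K := le_sup_right.trans hK.1
    have hsnC := home_sn c h hCK hK.2.1 hKV
    by_cases hKV' : K ≤ V'
    · refine ⟨?_, hCK.trans hKV'⟩
      intro heq
      exact hKV (heq ▸ hKV')
    · exfalso
      have hsnC' := home_sn c h' hC'K hK.2.1 hKV'
      have h3 := sn_sup_of_sn hCK hC'K hsnC hsnC'
      have h4 := nc_sn_eq hK.1 hK.2.2 h3
      exact hKV (h4 ▸ hBV)
  · right
    intro W hW hCW hC'W
    have e1 := hW0u W ⟨hW, sup_le hCW hC'W⟩
    have e2 := hW0u V ⟨hVc, hBV⟩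
    exact e1.trans e2.symm

/-- A conjugate of `A` in `V ⊓ L'` other than `C` is mutual with `C`. -/
theorem mutual_of_le [Finite G] (c : Ctx A M) {C V C1 V1 L' : Subgroup G} (h : Home A M C V)
    (h1 : Home A M C1 V1) (hL' : IsCoatom L') (hne : L' ≠ V) (hCL' : C ≤ L')
    (hC1V : C1 ≤ V) (hC1L' : C1 ≤ L') (hC1 : C1 ≠ C) : V1 ≠ V ∧ C ≤ V1 := by
  rcases dichotomy c h h1 hC1V hC1 with h2 | h2
  · exact h2
  · exact absurd (h2 L' hL' hCL' hC1L') hne

/-- If `C` lies in `V1` and in `v • V1` (`v ∈ V`, `V1 ≠ V` a home), then `v` normalises `C`. -/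
theorem stab_of_mutual [Finite G] (c : Ctx A M) {C V C1 V1 : Subgroup G} (h : Home A M C V)
    (h1 : Home A M C1 V1) (hV1 : V1 ≠ V) (hCV1 : C ≤ V1) {v : G} (hv : v ∈ V)
    (hCv : C ≤ MulAut.conj v • V1) : v ∈ Subgroup.normalizer (C : Set G) := by
  have hVV : MulAut.conj v⁻¹ • V = V :=
    conj_smul_eq_of_mem_normalizer (Subgroup.le_normalizer (V.inv_mem hv))
  have h2 : Home A M (MulAut.conj v⁻¹ • C) V := by
    have := home_conj v⁻¹ h
    rwa [hVV] at this
  have h3 : MulAut.conj v⁻¹ • C ≤ V1 := by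
    rw [conj_smul_le_iff, inv_inv]; exact hCv
  have h4 : MulAut.conj v⁻¹ • C = C := by
    by_contra hne
    rcases dichotomy c h h2 (home_le c h2) hne with h5 | h5
    · exact h5.1 rfl
    · exact hV1 (h5 V1 (home_coatom c h1) hCV1 h3)
  have h5 := mem_normalizer_of_conj_smul_eq h4
  have := Subgroup.inv_mem _ h5
  rwa [inv_inv] at this

end ctx

end Cfsg.Agent.Lib.Helper3.FZ
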