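import Mathlib
import Cfsg.Agent.Lib.Helper3.FZ3
open Pointwise

set_option autoImplicit false

/-!
# Subgroups generated by their own conjugates of a fixed subgroup (part 4)

The normaliser-growth lemmas for the join of all conjugates of `A` in an intersection
`V ⊓ L'` of two maximal subgroups.
-/

namespace Cfsg.Agent.Lib.Helper3.FZ

open Cfsg.Agent.Lib.Helper1

universe u

variable {G : Type u} [Group G]

/-- The conjugates of `A` inside `V ⊓ L'`. -/
def ConjIn (A M V L' : Subgroup G) : Set (Subgroup G) :=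
  {C' | (∃ V', Home A M C' V') ∧ C' ≤ V ∧ C' ≤ L'}

theorem conjIn_comm (A M V L' : Subgroup G) : ConjIn A M V L' = ConjIn A M L' V := by
  ext C'
  simp only [ConjIn, Set.mem_setOf_eq]
  tauto

theorem sSup_conjIn_le_left (A M V L' : Subgroup G) : sSup (ConjIn A M V L') ≤ V :=
  sSup_le (fun _ h => h.2.1)

theorem sSup_conjIn_le_right (A M V L' : Subgroup G) : sSup (ConjIn A M V L') ≤ L' :=
  sSup_le (fun _ h => h.2.2)

theorem inf_le_normalizer_conjIn (A M V L' : Subgroup G) :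
    V ⊓ L' ≤ Subgroup.normalizer ((sSup (ConjIn A M V L') : Subgroup G) : Set G) := by
  apply le_normalizer_sSup_of_conj_closed
  rintro C' ⟨⟨V', hV'⟩, h1, h2⟩ d hd
  refine ⟨⟨_, home_conj d hV'⟩, ?_, ?_⟩
  · have := conj_smul_mono d h1
    rwa [conj_smul_eq_of_mem_normalizer (Subgroup.le_normalizer hd.1)] at this
  · have := conj_smul_mono d h2
    rwa [conj_smul_eq_of_mem_normalizer (Subgroup.le_normalizer hd.2)] at this

section ctx

variable {A M : Subgroup G}

/-- The conjugates of `A` in `V` whose home is not `V`. -/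
def Foreign (A M V : Subgroup G) : Set (Subgroup G) :=
  {C' | ∃ V', Home A M C' V' ∧ C' ≤ V ∧ V' ≠ V}

theorem foreign_sn (c : Ctx A M) {V : Subgroup G} (hV : IsCoatom V) :
    ∀ B ∈ Foreign A M V, B ≤ V ∧ (B.subgroupOf V).IsSubnormal := by
  rintro B ⟨V', hB, hBV, hne⟩
  refine ⟨hBV, home_sn c hB hBV hV.1 ?_⟩
  intro h
  exact hne (coatom_eq_of_le hV (home_coatom c hB) h).symm

theorem foreign_conj {V : Subgroup G} :
    ∀ B ∈ Foreign A M V, ∀ v ∈ V, MulAut.conj v • B ∈ Foreign A M V := by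
  rintro B ⟨V', hB, hBV, hne⟩ v hv
  have hVV : MulAut.conj v • V = V := conj_smul_eq_of_mem_normalizer (Subgroup.le_normalizer hv)
  refine ⟨_, home_conj v hB, ?_, ?_⟩
  · have := conj_smul_mono v hBV
    rwa [hVV] at this
  · intro h
    apply hne
    have h1 := congrArg (fun K => MulAut.conj v⁻¹ • K) h
    simp only [conj_inv_smul_smul] at h1
    rw [h1]
    exact conj_smul_eq_of_mem_normalizer (Subgroup.le_normalizer (V.inv_mem hv))

/-- Normaliser growth on the side of a maximal subgroup `V` that is the home of a conjugate `C`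
lying in `V ⊓ L'`. -/
theorem side_home [Finite G] (c : Ctx A M) {C V L' : Subgroup G} (h : Home A M C V)
    (hL' : IsCoatom L') (hne : L' ≠ V) (hCL' : C ≤ L')
    (hS0 : ∃ C1 V1, Home A M C1 V1 ∧ C1 ≤ V ∧ C1 ≤ L' ∧ V1 ≠ V) :
    ∃ X : Subgroup G, X ≤ V ∧ ¬ X ≤ L' ∧
      X ≤ Subgroup.normalizer ((sSup (ConjIn A M V L') : Subgroup G) : Set G) := by
  have hVc := home_coatom c h
  obtain ⟨C1, V1, hC1, hC1V, hC1L', hV1⟩ := hS0
  have hC1C : C1 ≠ C := by
    intro h1
    subst h1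
    exact hV1 (home_unique c hC1 h)
  have hmut := mutual_of_le c h hC1 hL' hne hCL' hC1V hC1L' hC1C
  set S₀ : Set (Subgroup G) := {C' | C' ∈ Foreign A M V ∧ C' ≤ L'} with hS₀
  have hC1S₀ : C1 ∈ S₀ := ⟨⟨V1, hC1, hC1V, hV1⟩, hC1L'⟩
  -- every element of V moving C1 into L' normalises C
  have key : ∀ v ∈ V, MulAut.conj v • C1 ≤ L' → v ∈ Subgroup.normalizer (C : Set G) := by
    intro v hv hvL'
    have hVV : MulAut.conj v • V = V := conj_smul_eq_of_mem_normalizer (Subgroup.le_normalizer hv)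
    have h1 : Home A M (MulAut.conj v • C1) (MulAut.conj v • V1) := home_conj v hC1
    have h2 : MulAut.conj v • C1 ≤ V := by
      have := conj_smul_mono v hC1V
      rwa [hVV] at this
    have h3 : MulAut.conj v • C1 ≠ C := by
      intro h3
      rw [h3] at h1
      have h4 := home_unique c h1 h
      apply hV1
      have h5 := congrArg (fun K => MulAut.conj v⁻¹ • K) h4
      simp only [conj_inv_smul_smul] at h5
      rw [h5]
      exact conj_smul_eq_of_mem_normalizer (Subgroup.le_normalizer (V.inv_mem hv))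
    have h4 := mutual_of_le c h h1 hL' hne hCL' h2 hvL' h3
    exact stab_of_mutual c h hC1 hV1 hmut.2 hv h4.2
  have hsub : S₀ ⊂ Foreign A M V := by
    refine ⟨fun _ hx => hx.1, ?_⟩
    intro hle
    apply home_not_norm c h
    intro v hv
    have h1 : MulAut.conj v • C1 ∈ S₀ := hle (foreign_conj C1 hC1S₀.1 v hv)
    exact key v hv h1.2
  obtain ⟨X, hXS, hX0, hXn⟩ := subnormal_family_member_normalizes_join_rel V (Foreign A M V) S₀
    (foreign_sn c hVc) foreign_conj hsub
  have hXV : X ≤ V := (foreign_sn c hVc X hXS).1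
  have hXL' : ¬ X ≤ L' := fun h1 => hX0 ⟨hXS, h1⟩
  have hS₀L' : sSup S₀ ≤ L' := sSup_le (fun _ hx => hx.2)
  have hXC : X ≤ Subgroup.normalizer (C : Set G) := by
    intro x hx
    apply key x (hXV hx)
    have h1 : MulAut.conj x • C1 ≤ MulAut.conj x • sSup S₀ := conj_smul_mono x (le_sSup hC1S₀)
    rw [conj_smul_eq_of_mem_normalizer (hXn hx)] at h1
    exact h1.trans hS₀L'
  have hT : sSup (ConjIn A M V L') = C ⊔ sSup S₀ := by
    apply le_antisymm
    · apply sSup_le
      rintro C' ⟨⟨V', hC'⟩, hC'V, hC'L'⟩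
      by_cases hC'C : C' = C
      · rw [hC'C]; exact le_sup_left
      · have h1 := mutual_of_le c h hC' hL' hne hCL' hC'V hC'L' hC'C
        exact (le_sSup (show C' ∈ S₀ from ⟨⟨V', hC', hC'V, h1.1⟩, hC'L'⟩)).trans le_sup_right
    · apply sup_le
      · exact le_sSup ⟨⟨V, h⟩, home_le c h, hCL'⟩
      · apply sSup_le_sSup
        rintro C' ⟨⟨V', hC', hC'V, _⟩, hC'L'⟩
        exact ⟨⟨V', hC'⟩, hC'V, hC'L'⟩
  refine ⟨X, hXV, hXL', ?_⟩
  rw [hT]
  exact le_normalizer_sup hXC hXn

/-- Normaliser growth on the side of a maximal subgroup `V` that is the home of no conjugate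
lying in `V ⊓ L'`. -/
theorem side_nohome [Finite G] (c : Ctx A M) {V L' : Subgroup G} (hV : IsCoatom V)
    (hnh : ∀ C' V', Home A M C' V' → C' ≤ V → C' ≤ L' → V' ≠ V) :
    V ≤ Subgroup.normalizer ((sSup (ConjIn A M V L') : Subgroup G) : Set G) ∨
    ∃ X : Subgroup G, X ≤ V ∧ ¬ X ≤ L' ∧
      X ≤ Subgroup.normalizer ((sSup (ConjIn A M V L') : Subgroup G) : Set G) := by
  have hsub : ConjIn A M V L' ⊆ Foreign A M V := by
    rintro C' ⟨⟨V', hC'⟩, hC'V, hC'L'⟩
    exact ⟨V', hC', hC'V, hnh C' V' hC' hC'V hC'L'⟩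
  by_cases heq : Foreign A M V ⊆ ConjIn A M V L'
  · left
    have : ConjIn A M V L' = Foreign A M V := Set.Subset.antisymm hsub heq
    rw [this]
    exact le_normalizer_sSup_of_conj_closed V _ foreign_conj
  · right
    obtain ⟨X, hXS, hX0, hXn⟩ := subnormal_family_member_normalizes_join_rel V (Foreign A M V)
      (ConjIn A M V L') (foreign_sn c hV) foreign_conj ⟨hsub, heq⟩
    obtain ⟨V', hX, hXV, _⟩ := hXS
    exact ⟨X, hXV, fun h1 => hX0 ⟨⟨V', hX⟩, hXV, h1⟩, hXn⟩

/-- In the main case, `M` is the only maximal subgroup containing `A`. -/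
theorem caseB [Finite G] (c : Ctx A M) (L : Subgroup G) (hL : IsCoatom L) (hAL : A ≤ L) :
    L = M := by
  by_contra hne0
  -- choose `L` with `M ⊓ L` of largest order
  haveI : Nonempty {L0 : Subgroup G // IsCoatom L0 ∧ A ≤ L0 ∧ L0 ≠ M} := ⟨⟨L, hL, hAL, hne0⟩⟩
  obtain ⟨⟨L0, hL0c, hAL0, hne⟩, hmax⟩ := Finite.exists_max
    (fun L0 : {L0 : Subgroup G // IsCoatom L0 ∧ A ≤ L0 ∧ L0 ≠ M} =>
      Nat.card (M ⊓ L0.1 : Subgroup G))
  have hM := c.coatom
  have hL0M : ¬ L0 ≤ M := fun h => hne (coatom_eq_of_le hL0c hM h)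
  -- a mutual partner of `A` inside `M ⊓ L0`
  have hsnL := c.sn L0 hAL0 hL0c.1 hL0M
  have hnn : ¬ L0 ≤ Subgroup.normalizer (A : Set G) := fun h => hL0M (h.trans c.norm_le)
  obtain ⟨l, _, hlne, hln, hlL⟩ := exists_conj_ne_le_normalizer hAL0 hsnL hnn
  have hC1 : Home A M (MulAut.conj l • A) (MulAut.conj l • M) := ⟨l, rfl, rfl⟩
  have hC1M : MulAut.conj l • A ≤ M := hln.trans c.norm_le
  have hmut := mutual_of_le c (home_self A M) hC1 hL0c hne hAL0 hC1M hlL hlne
  obtain ⟨X₁, hX₁M, hX₁L, hX₁n⟩ := side_home c (home_self A M) hL0c hne hAL0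
    ⟨_, _, hC1, hC1M, hlL, hmut.1⟩
  -- the other side
  have hZ : ∃ Z : Subgroup G, ¬ Z ≤ M ∧
      Z ≤ Subgroup.normalizer ((sSup (ConjIn A M M L0) : Subgroup G) : Set G) := by
    by_cases hH : ∃ C2, Home A M C2 L0 ∧ C2 ≤ M
    · obtain ⟨C2, hC2, hC2M⟩ := hH
      obtain ⟨X₂, _, hX₂M, hX₂n⟩ := side_home c hC2 hM (Ne.symm hne) hC2M
        ⟨A, M, home_self A M, hAL0, c.le, Ne.symm hne⟩
      rw [conjIn_comm] at hX₂n
      exact ⟨X₂, hX₂M, hX₂n⟩
    · have hnh : ∀ C' V', Home A M C' V' → C' ≤ L0 → C' ≤ M → V' ≠ L0 := by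
        intro C' V' hC' _ hC'M hV'
        exact hH ⟨C', hV' ▸ hC', hC'M⟩
      rcases side_nohome c hL0c hnh with h1 | ⟨X₂, hX₂L, hX₂M, hX₂n⟩
      · rw [conjIn_comm] at h1
        exact ⟨L0, hL0M, h1⟩
      · rw [conjIn_comm] at hX₂n
        exact ⟨X₂, hX₂M, hX₂n⟩
  obtain ⟨Z, hZM, hZn⟩ := hZ
  set T : Subgroup G := sSup (ConjIn A M M L0) with hT
  have hAT : A ≤ T := le_sSup ⟨⟨M, home_self A M⟩, c.le, hAL0⟩
  have hTM : T ≤ M := sSup_conjIn_le_left A M M L0
  have hNT : Subgroup.normalizer ((T : Subgroup G) : Set G) ≠ ⊤ := by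
    intro h
    rw [Subgroup.normalizer_eq_top_iff] at h
    haveI := h
    have h1 : Subgroup.normalClosure (A : Set G) ≤ T := Subgroup.normalClosure_le_normal hAT
    rw [c.ncl, top_le_iff] at h1
    exact hM.1 (top_le_iff.mp (h1 ▸ hTM))
  obtain ⟨W, hW, hNW⟩ := (eq_top_or_exists_le_coatom _).resolve_left hNT
  have hAW : A ≤ W := hAT.trans (Subgroup.le_normalizer.trans hNW)
  have hWM : W ≠ M := fun h => hZM (h ▸ hZn.trans hNW)
  have h1 := hmax ⟨W, hW, hAW, hWM⟩
  simp only at h1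
  have h2 : M ⊓ L0 < M ⊓ W := by
    refine lt_of_le_of_ne (le_inf inf_le_left ((inf_le_normalizer_conjIn A M M L0).trans hNW)) ?_
    intro h3
    apply hX₁L
    have h4 : X₁ ≤ M ⊓ W := le_inf hX₁M (hX₁n.trans hNW)
    rw [← h3] at h4
    exact h4.trans inf_le_right
  exact absurd (card_lt_of_lt' h2) (not_lt.mpr h1)

end ctx

/-- **Generalised zipper theorem** (Flavell): if `A ≠ G` has normal closure `G`, then either `G`
is generated by the proper subgroups `H ≥ A` with `H = ⟨A^H⟩`, or `A` lies in a unique maximal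
subgroup. -/
theorem flavell_aux [Finite G] : ∀ n : ℕ, ∀ A : Subgroup G, Nat.card G - Nat.card A = n →
    Subgroup.normalClosure (A : Set G) = ⊤ → A ≠ ⊤ → Concl A := by
  intro n
  induction n using Nat.strong_induction_on with
  | _ n ih =>
    intro A hn hA hAt
    have IH : ∀ B : Subgroup G, Nat.card A < Nat.card B → B ≠ ⊤ →
        Subgroup.normalClosure (B : Set G) = ⊤ → Concl B := by
      intro B hAB hBt hB
      have h1 : Nat.card B ≤ Nat.card G := Subgroup.card_le_card_group B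
      exact ih (Nat.card G - Nat.card B) (by omega) B rfl hB hBt
    by_cases hY : YY A = ⊤
    · exact Or.inl hY
    · right
      by_cases hYA : YY A = A
      · apply caseA A hA hAt IH
        intro H hH
        exact le_antisymm (hYA ▸ le_sSup hH) hH.1
      · have hYmem := YY_mem_HS hAt hY
        obtain ⟨M, ⟨hM, hYM⟩, hMu⟩ := uniq_of_mem_HS hA IH hY hYmem hYA
        have hAM : A ≤ M := (le_YY hAt).trans hYM
        have hYncl := normalClosure_eq_top_of_le hA (le_YY hAt)
        have c : Ctx A M := by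
          refine ⟨hM, hAM, hA, ?_, ?_, ?_, IH⟩
          · obtain ⟨W, hW, hNW⟩ := (eq_top_or_exists_le_coatom _).resolve_left
              (normalizer_ne_top hYncl hY)
            have h1 := hMu W ⟨hW, Subgroup.le_normalizer.trans hNW⟩
            exact (normalizer_le_normalizer_YY A).trans (h1 ▸ hNW)
          · intro h
            apply hYA
            have h1 : (A.subgroupOf (YY A)).Normal :=
              (Subgroup.normal_subgroupOf_iff_le_normalizer (le_YY hAt)).mpr (hYM.trans h)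
            exact (nc_sn_eq (le_YY hAt) hYmem.2.2 h1.isSubnormal).symm
          · intro X hAX hXt hXM
            obtain ⟨H, hAH, hHX, hsn, hnc⟩ := exists_sn_closure A X hAX
            have hHt : H ≠ ⊤ := fun h => hXt (top_le_iff.mp (h ▸ hHX))
            have hHmem : H ∈ HS A := ⟨hAH, hHt, hnc⟩
            by_cases hHA : H = A
            · subst hHA; exact hsn
            · exfalso
              obtain ⟨W, hW, hXW⟩ := (eq_top_or_exists_le_coatom X).resolve_left hXt
              obtain ⟨W', _, hW'u⟩ := uniq_of_mem_HS hA IH hY hHmem hHA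
              have e1 := hW'u W ⟨hW, hHX.trans hXW⟩
              have e2 := hW'u M ⟨hM, (le_sSup hHmem).trans hYM⟩
              exact hXM (hXW.trans (e1.trans e2.symm).le)
        refine ⟨M, ⟨hM, hAM⟩, ?_⟩
        rintro L ⟨hL, hAL⟩
        exact caseB c L hL hAL

theorem flavell [Finite G] (A : Subgroup G) (hA : Subgroup.normalClosure (A : Set G) = ⊤)
    (hAt : A ≠ ⊤) :
    sSup {H : Subgroup G | A ≤ H ∧ H ≠ ⊤ ∧
      Subgroup.normalClosure ((A.subgroupOf H : Subgroup ↥H) : Set ↥H) = ⊤} = ⊤ ∨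
    ∃! M : Subgroup G, IsCoatom M ∧ A ≤ M :=
  flavell_aux _ A rfl hA hAt

end Cfsg.Agent.Lib.Helper3.FZ
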