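import Mathlib
import Cfsg.Agent.Lib.Helper1.GC3
import Cfsg.Agent.Lib.Helper7.IndexPKInf2
import Cfsg.Agent.Lib.Helper9.FactorSys7
import Cfsg.Agent.Lib.Helper9.NormalSeries5
import Cfsg.Agent.Lib.Helper9.NormalCrit
import Cfsg.Agent.Lib.Helper9.FusionAut

set_option autoImplicit false
set_option maxHeartbeats 1000000
set_option linter.style.haveILetI false
set_option linter.unusedSectionVars false
set_option linter.unusedVariables false

/-! Glauberman's theorem for fusion systems: for `p ≥ 5`, a saturated fusion system on `S ≠ 1`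
whose automizer of `S` is a `p`-group has a proper focal subgroup. -/

namespace Cfsg.Agent.Lib.Helper3.FocP

open Cfsg Cfsg.FusionSystem Cfsg.Agent.Lib.Helper9 Cfsg.Agent.Lib.Helper1.KN
  Cfsg.Agent.Lib.Helper1.KL Cfsg.Agent.Lib.Helper1.GC Cfsg.Agent.Lib.Helper1.GF
  Cfsg.Agent.Lib.Helper7
open scoped commutatorElement

universe u

/-- the local transfer hypothesis for the lower K-infinity functor -/
theorem lt_kInfLower {p : ℕ} [Fact p.Prime] (hp : 5 ≤ p) : Cfsg.Agent.Lib.Helper1.GC.LT.{u} p kInfLower := by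
  intro G _ _ P hcon
  have hW := isCharPFunctor_kInfLower.{u} p
  have hconj := isConjugacyFunctor_inducedFunctor (X := G) hW
  have htr := transferAt_of_controlsTransferIn hconj ((controlsTransfer_kInf hp G).1)
    (isSylowIn_of_sylow P le_top)
  unfold TransferAt at htr
  rw [top_inf_eq] at htr
  have hle : pCore p G ≤ (P : Subgroup G) := Cfsg.Agent.Lib.Helper7.pCore_le_sylow P
  have h1 : (commutator ↥(Subgroup.normalizer ((Wsub kInfLower (P : Subgroup G) : Subgroup G) : Set G))).map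
        (Subgroup.normalizer ((Wsub kInfLower (P : Subgroup G) : Subgroup G) : Set G)).subtype =
      ⁅Subgroup.normalizer ((inducedFunctor (G := G) kInfLower (P : Subgroup G) : Subgroup G) : Set G),
        Subgroup.normalizer ((inducedFunctor (G := G) kInfLower (P : Subgroup G) : Subgroup G) : Set G)⁆ := by
    rw [Subgroup.map_subtype_commutator]
    rfl
  rw [h1, commutator_def]
  calc pCore p G ⊓ ⁅(⊤ : Subgroup G), ⊤⁆ = pCore p G ⊓ ((P : Subgroup G) ⊓ ⁅(⊤ : Subgroup G), ⊤⁆) := by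
        rw [← inf_assoc, inf_eq_left.mpr hle]
    _ = pCore p G ⊓ ((P : Subgroup G) ⊓ ⁅Subgroup.normalizer
          ((inducedFunctor (G := G) kInfLower (P : Subgroup G) : Subgroup G) : Set G),
        Subgroup.normalizer ((inducedFunctor (G := G) kInfLower (P : Subgroup G) : Subgroup G) : Set G)⁆) := by
        rw [htr]
    _ = _ := by rw [← inf_assoc, inf_eq_left.mpr hle]

variable {Ω : Type u} [Group Ω]

/-- every automorphism of `S` in the system is induced by an element of `S` -/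
def AutInner {S : Subgroup Ω} (F : FusionSystem S) : Prop :=
  ∀ α : MulAut S, S.subtype.comp α.toMonoidHom ∈ F.Hom S → α ∈ autInducedBy S S

theorem exists_conj_of_autInner {T : Subgroup Ω} [Finite T] (D : FusionSystem T)
    (h : AutInner D) : ∀ (T' : Subgroup Ω) (hT' : T' = T) (φ : T' →* Ω), φ ∈ D.Hom T' →
      ∃ g ∈ T, ∀ x : T', φ x = g * x * g⁻¹ := by
  intro T' hT'
  subst hT'
  intro φ hφ
  have hinj := D.injective_of_mem hφ
  have hmem := (D.le_of_mem hφ).2
  have hfinj : Function.Injective (φ.codRestrict T' hmem) := by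
    intro a b hab
    apply hinj
    have := congrArg Subtype.val hab
    simpa using this
  have hfbij : Function.Bijective (φ.codRestrict T' hmem) :=
    Finite.injective_iff_bijective.mp hfinj
  have hα : T'.subtype.comp (MulEquiv.ofBijective (φ.codRestrict T' hmem) hfbij).toMonoidHom = φ := by
    ext x
    rfl
  have h1 := h (MulEquiv.ofBijective (φ.codRestrict T' hmem) hfbij) (by rw [hα]; exact hφ)
  obtain ⟨g, hg, hgx⟩ := (mem_autInducedBy_iff T' T' _).mp h1
  exact ⟨g, hg, fun x => hgx x⟩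


theorem preimageAlong_top' {T : Subgroup Ω} {Ω' : Type*} [Group Ω'] (θ : T →* Ω') :
    preimageAlong θ (⊤ : Subgroup Ω') = T :=
  le_antisymm (preimageAlong_le θ ⊤)
    (fun x hx => (mem_preimageAlong θ ⊤ x).mpr ⟨hx, Subgroup.mem_top _⟩)

/-- the factor system modulo a strongly closed subgroup inherits `AutInner` -/
theorem autInner_factor {T : Subgroup Ω} [Finite T] (D : FusionSystem T) (hin : AutInner D)
    {V : Subgroup Ω} [(V.subgroupOf T).Normal]
    (E : FusionSystem (⊤ : Subgroup (T ⧸ V.subgroupOf T)))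
    (hE : D.IsFactorSystem V (QuotientGroup.mk' (V.subgroupOf T)) E) : AutInner E := by
  intro α' hα'
  obtain ⟨-, φ, hφ, hP, hφS, hP', hind⟩ := (hE.2.2.2 ⊤ _).mp hα'
  have hpre := preimageAlong_top' (QuotientGroup.mk' (V.subgroupOf T))
  obtain ⟨g, hg, hgx⟩ := exists_conj_of_autInner D hin _ hpre φ hφ
  rw [mem_autInducedBy_iff]
  refine ⟨QuotientGroup.mk' (V.subgroupOf T) ⟨g, hg⟩, Subgroup.mem_top _, fun y => ?_⟩
  obtain ⟨x, hx⟩ := QuotientGroup.mk'_surjective (V.subgroupOf T) (y : T ⧸ V.subgroupOf T)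
  have hxm : (x : Ω) ∈ preimageAlong (QuotientGroup.mk' (V.subgroupOf T)) ⊤ := by
    rw [hpre]; exact x.2
  have h1 := hind ⟨x, hxm⟩
  have h2 := hgx ⟨x, hxm⟩
  have hy : y = ⟨QuotientGroup.mk' (V.subgroupOf T) ⟨((⟨x, hxm⟩ :
      ↥(preimageAlong (QuotientGroup.mk' (V.subgroupOf T)) ⊤)) : Ω), hP hxm⟩, hP' ⟨x, hxm⟩⟩ := by
    apply Subtype.ext
    exact hx.symm
  rw [hy]
  have h3 : ((α' ⟨QuotientGroup.mk' (V.subgroupOf T) ⟨((⟨x, hxm⟩ :
      ↥(preimageAlong (QuotientGroup.mk' (V.subgroupOf T)) ⊤)) : Ω), hP hxm⟩, hP' ⟨x, hxm⟩⟩ :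
        ↥(⊤ : Subgroup (T ⧸ V.subgroupOf T))) : T ⧸ V.subgroupOf T) =
      QuotientGroup.mk' (V.subgroupOf T) ⟨φ ⟨x, hxm⟩, hφS ⟨x, hxm⟩⟩ := h1
  rw [h3]
  have h4 : (⟨φ ⟨x, hxm⟩, hφS ⟨x, hxm⟩⟩ : T) = ⟨g, hg⟩ * x * ⟨g, hg⟩⁻¹ := by
    apply Subtype.ext
    exact h2
  rw [h4, map_mul, map_mul, map_inv]

theorem commutator_lt_of_pGroup {p : ℕ} [Fact p.Prime] {T : Subgroup Ω} [Finite T]
    (hT : IsPGroup p T) (hT1 : T ≠ ⊥) : ⁅T, T⁆ < T := by
  haveI : Nontrivial T := (Subgroup.nontrivial_iff_ne_bot T).mpr hT1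
  haveI : Group.IsNilpotent T := hT.isNilpotent
  have h1 := Group.IsSolvable.commutator_lt_top_of_nontrivial T
  have h2 : (commutator T).map T.subtype = ⁅T, T⁆ := Subgroup.map_subtype_commutator T
  refine lt_of_le_of_ne (Subgroup.commutator_le.mpr (fun a ha b hb => T.mul_mem (T.mul_mem (T.mul_mem ha hb) (T.inv_mem ha)) (T.inv_mem hb))) (fun h => ?_)
  apply h1.ne
  rw [eq_top_iff]
  intro x _
  have hx : (x : Ω) ∈ (commutator T).map T.subtype := by rw [h2, h]; exact x.2
  obtain ⟨y, hy, hyx⟩ := hx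
  have : y = x := Subtype.ext hyx
  rw [← this]
  exact hy

/-- the property proved by induction -/
def PInd (p : ℕ) (n : ℕ) : Prop :=
  ∀ (Ω : Type u) [Group Ω] (S : Subgroup Ω) [Finite S], Nat.card S = n → IsPGroup p S → S ≠ ⊥ →
    ∀ F : FusionSystem S, F.IsSaturated p → AutInner F → F.focalSubgroup < S

/-- the case of a system with a nontrivial normal subgroup -/
theorem lemmaA {p : ℕ} [Fact p.Prime] {T : Subgroup Ω} [Finite T] (hT : IsPGroup p T) (hT1 : T ≠ ⊥)
    (IH : ∀ m < Nat.card T, PInd.{u} p m)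
    (D : FusionSystem T) (hD : D.IsSaturated p) (hin : AutInner D) (V : Subgroup Ω)
    (hVn : D.IsNormal V) (hV0 : V ≠ ⊥) : D.focalSubgroup < T := by
  have hVT := hVn.1
  have hsc := stronglyClosed_of_normal D hVn
  by_cases hVeq : V = T
  · have hle : D.focalSubgroup ≤ ⁅T, T⁆ := by
      unfold focalSubgroup
      rw [Subgroup.closure_le]
      rintro y ⟨P, φ, x, hφ, rfl⟩
      obtain ⟨ψ, hψ, hext, -⟩ := hVn.2 P φ hφ
      have hPT : P ≤ T := (D.le_of_mem hφ).1
      have hsup : P ⊔ V = T := by rw [hVeq]; exact sup_eq_right.mpr hPT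
      obtain ⟨g, hg, hgx⟩ := exists_conj_of_autInner D hin _ hsup ψ hψ
      have h1 := hgx (Subgroup.inclusion le_sup_left x)
      rw [hext] at h1
      rw [h1]
      have h2 : (x : Ω)⁻¹ * (g * ((Subgroup.inclusion (le_sup_left : P ≤ P ⊔ V) x : ↥(P ⊔ V)) : Ω) * g⁻¹) =
          ⁅(x : Ω)⁻¹, g⁆ := by
        rw [commutatorElement_def, Subgroup.coe_inclusion]
        simp [mul_assoc]
      show (x : Ω)⁻¹ * (g * ((Subgroup.inclusion (le_sup_left : P ≤ P ⊔ V) x : ↥(P ⊔ V)) : Ω) * g⁻¹) ∈ ⁅T, T⁆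
      rw [h2]
      exact Subgroup.commutator_mem_commutator (T.inv_mem (hPT x.2)) hg
    exact lt_of_le_of_lt hle (commutator_lt_of_pGroup hT hT1)
  · have hVlt : V < T := lt_of_le_of_ne hVT hVeq
    haveI : (V.subgroupOf T).Normal := by
      constructor
      intro x hx t
      rw [Subgroup.mem_subgroupOf] at hx ⊢
      exact conj_mem_of_isNormal D hVn t.2 hx
    obtain ⟨E, hE⟩ := exists_factorSystem_quotient D V hsc
    have hEsat := factorSystem_saturated p hT D hD hsc _ E hE
    have hEin : AutInner E := autInner_factor D hin E hE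
    haveI hfin : Finite (⊤ : Subgroup (T ⧸ V.subgroupOf T)) := inferInstance
    have hcardV : 1 < Nat.card (V.subgroupOf T) := by
      rw [Subgroup.one_lt_card_iff_ne_bot]
      intro h
      apply hV0
      rw [Subgroup.subgroupOf_eq_bot] at h
      rw [eq_bot_iff]
      intro v hv
      have : v ∈ V ⊓ T := ⟨hv, hVT hv⟩
      rw [h.eq_bot] at this
      exact this
    have hcard : Nat.card (⊤ : Subgroup (T ⧸ V.subgroupOf T)) < Nat.card T := by
      rw [Subgroup.card_top, ← Subgroup.index_eq_card, ← (V.subgroupOf T).card_mul_index]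
      have h0 : 0 < (V.subgroupOf T).index := Nat.pos_of_ne_zero Subgroup.index_ne_zero_of_finite
      nlinarith
    have hp' : IsPGroup p (⊤ : Subgroup (T ⧸ V.subgroupOf T)) :=
      isPGroup_of_range_eq hT _ hE.2.2.1
    have hne : (⊤ : Subgroup (T ⧸ V.subgroupOf T)) ≠ ⊥ := by
      intro h
      apply hVlt.ne
      apply le_antisymm hVT
      intro t ht
      have h1 : (QuotientGroup.mk' (V.subgroupOf T) ⟨t, ht⟩) ∈ (⊥ : Subgroup (T ⧸ V.subgroupOf T)) := by
        rw [← h]; exact Subgroup.mem_top _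
      rw [Subgroup.mem_bot, QuotientGroup.mk'_apply, QuotientGroup.eq_one_iff] at h1
      exact Subgroup.mem_subgroupOf.mp h1
    have h5 := IH _ hcard (T ⧸ V.subgroupOf T) ⊤ rfl hp' hne E hEsat hEin
    refine lt_of_le_of_ne (focal_le D) (fun heq => ?_)
    apply h5.ne
    rw [eq_top_iff]
    intro y _
    obtain ⟨x, rfl⟩ := QuotientGroup.mk'_surjective (V.subgroupOf T) y
    exact focal_map_le hT D hD hsc _ E hE x (by rw [heq]; exact x.2) x.2


theorem normalizerIn_self (S : Subgroup Ω) : normalizerIn S S = S :=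
  le_antisymm (normalizerIn_le S S) (fun s hs => ⟨hs, Subgroup.le_normalizer hs⟩)

/-- the main induction -/
theorem pInd_all {p : ℕ} [Fact p.Prime] (hp : 5 ≤ p) : ∀ n : ℕ, PInd.{u} p n := by
  intro n
  induction n using Nat.strong_induction_on with
  | _ n ih =>
    intro Ω _ S _ hn hS hS1 F hF hin
    have hW := isCharPFunctor_kInfLower.{u} p
    have hWS : Wsub kInfLower S ≤ S := Wsub_le kInfLower S
    have hTS : normalizerIn S (Wsub kInfLower S) = S :=
      normalizerIn_W_top (Wsub kInfLower) (fun T' => Wsub_le kInfLower T')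
        (fun T₁ T₂ φ h1 h2 h3 => Wsub_map kInfLower hW.2 hS T₁ T₂ φ h1 h2 h3)
    have hN := isNormalizerSystem_normalizerSystem F (Wsub kInfLower S) hWS
    have hfoc := tr_main kInfLower hW.1 hW.2 (lt_kInfLower hp) hS F hF _ hN
    haveI hfinT : Finite (normalizerIn S (Wsub kInfLower S)) := finite_normalizerIn (S := S) _
    have hTp : IsPGroup p ↥(normalizerIn S (Wsub kInfLower S)) :=
      isPGroup_of_le hS (normalizerIn_le S _)
    have hfn : F.IsFullyNormalized (Wsub kInfLower S) :=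
      fullyNormalized_of_normalizerIn_eq F hWS hTS
    have hNsat := normalizerSystem_saturated hS F hF hfn _ hN
    have hNn := normal_self_of_isNormalizerSystem F hWS _ hN
    have hW0 : Wsub kInfLower S ≠ ⊥ := Wsub_ne_bot kInfLower hW.1 hS le_rfl hS1
    have hT1 : normalizerIn S (Wsub kInfLower S) ≠ ⊥ := by rw [hTS]; exact hS1
    have hNin : AutInner (normalizerSystem F (Wsub kInfLower S) hWS) := by
      intro α hα
      rw [hN _] at hα
      obtain ⟨g, hg, hgx⟩ := exists_conj_of_autInner F hin _ hTS _ hα.1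
      rw [mem_autInducedBy_iff]
      exact ⟨g, by rw [hTS]; exact hg, fun x => hgx x⟩
    have hcardT : Nat.card ↥(normalizerIn S (Wsub kInfLower S)) = n := by rw [hTS]; exact hn
    have h1 := lemmaA hTp hT1 (fun m hm => ih m (by rw [← hcardT]; exact hm)) _ hNsat hNin _ hNn hW0
    rw [hfoc] at h1
    exact lt_of_lt_of_eq h1 hTS

/-- **Glauberman for fusion systems**: `p ≥ 5`, `Aut_F(S)` a `p`-group, `S ≠ 1` ⇒ `foc(F) < S`. -/
theorem focal_lt_of_autGroup_pGroup {S : Subgroup Ω} [Finite S] {p : ℕ} [Fact p.Prime]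
    (hS : IsPGroup p S) (F : FusionSystem S) (hF : F.IsSaturated p) (hp : 5 ≤ p) (hS1 : S ≠ ⊥)
    (haut : IsPGroup p ↥(F.autGroup S)) : F.focalSubgroup < S := by
  have hfn : F.IsFullyNormalized S := fullyNormalized_of_normalizerIn_eq F le_rfl (normalizerIn_self S)
  have hle := autGroup_le_autInducedBy_of_isPGroup hS F hF hfn haut
  have hin : AutInner F := fun α hα => hle ((mem_autGroup_iff F le_rfl α).mpr hα)
  exact pInd_all hp _ Ω S rfl hS hS1 F hF hin

end Cfsg.Agent.Lib.Helper3.FocP
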