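import Mathlib
import Cfsg.Agent.Lib.Helper9.PPowerIndex2
import Cfsg.Agent.Lib.Helper9.HyperfocalGroup2
import Cfsg.Agent.Lib.Helper9.AlperinCor
import Cfsg.Agent.Lib.Helper9.FusionAut
import Cfsg.Prelude.Def_FusionReduction

set_option autoImplicit false
set_option maxHeartbeats 1000000
set_option linter.style.haveILetI false
set_option linter.unusedSectionVars false
set_option linter.unusedVariables false

/-! Residual limits of fusion systems: uniqueness up to equality of maps. -/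

namespace Cfsg.Agent.Lib.Helper3.FocRL

open Cfsg Cfsg.FusionSystem Cfsg.Agent.Lib.Helper9

universe u

variable {Ω : Type u} [Group Ω]

/-- two systems with the same maps live over the same subgroup -/
theorem base_eq_of_hom_eq {S₁ S₂ : Subgroup Ω} (F₁ : FusionSystem S₁) (F₂ : FusionSystem S₂)
    (h : ∀ P : Subgroup Ω, F₁.Hom P = F₂.Hom P) : S₁ = S₂ := by
  apply le_antisymm
  · have h1 : S₁.subtype ∈ F₁.Hom S₁ := subtype_mem F₁ le_rfl
    rw [h] at h1
    exact hom_le F₂ h1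
  · have h1 : S₂.subtype ∈ F₂.Hom S₂ := subtype_mem F₂ le_rfl
    rw [← h] at h1
    exact hom_le F₁ h1

theorem hyperfocal_le_base {S : Subgroup Ω} (F : FusionSystem S) (p : ℕ) :
    F.hyperfocalSubgroup p ≤ S := by
  unfold hyperfocalSubgroup
  rw [Subgroup.closure_le]
  rintro y ⟨P, α, x, hPS, -, rfl⟩
  exact S.mul_mem (S.inv_mem (hPS x.2)) (hPS (((α : MulAut P) x : P)).2)

theorem hasPPowerIndexIn_self {S : Subgroup Ω} (F : FusionSystem S) (p : ℕ) :
    F.HasPPowerIndexIn F p := by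
  refine ⟨fun P => subset_rfl, hyperfocal_le_base F p, fun P _ => ?_⟩
  exact Subgroup.map_subtype_le _

/-- uniqueness of the `p'`-residual subsystem -/
theorem pPrimeResidual_unique {S : Subgroup Ω} {p : ℕ} (F E₁ E₂ : FusionSystem S)
    (h₁ : F.IsPPrimeResidual p E₁) (h₂ : F.IsPPrimeResidual p E₂) : E₁ = E₂ :=
  fusionSystem_le_antisymm (h₁.2.2 E₂ h₂.1 h₂.2.1) (h₂.2.2 E₁ h₁.1 h₁.2.1)

/-- uniqueness of the `p'`-residual subsystem, for systems with equal maps -/
theorem pPrimeResidual_hom_eq {S₁ S₂ : Subgroup Ω} {p : ℕ} (F₁ : FusionSystem S₁)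
    (F₂ : FusionSystem S₂) (h : ∀ P : Subgroup Ω, F₁.Hom P = F₂.Hom P)
    (E₁ : FusionSystem S₁) (E₂ : FusionSystem S₂)
    (h₁ : F₁.IsPPrimeResidual p E₁) (h₂ : F₂.IsPPrimeResidual p E₂) :
    ∀ P : Subgroup Ω, E₁.Hom P = E₂.Hom P := by
  obtain rfl := base_eq_of_hom_eq F₁ F₂ h
  obtain rfl := fusionSystem_ext h
  obtain rfl := pPrimeResidual_unique F₁ E₁ E₂ h₁ h₂
  intro P; rfl

/-- uniqueness of the `p`-residual subsystem -/
theorem pResidual_unique {S : Subgroup Ω} [Finite S] {p : ℕ} [Fact p.Prime] (hS : IsPGroup p S)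
    (F : FusionSystem S) (D₁ D₂ : FusionSystem (F.hyperfocalSubgroup p))
    (h₁ : F.IsPResidual p D₁) (h₂ : F.IsPResidual p D₂) : D₁ = D₂ :=
  fusionSystem_ext (hom_eq_of_hasPPowerIndexIn p hS F rfl D₁ D₂ h₁.1 h₂.1 h₁.2 h₂.2)

/-- stability transports along equality of maps -/
theorem stable_of_hom_eq {S₁ S₂ : Subgroup Ω} {p : ℕ} (F₁ : FusionSystem S₁)
    (F₂ : FusionSystem S₂) (h : ∀ P : Subgroup Ω, F₁.Hom P = F₂.Hom P)
    (h₁ : F₁.hyperfocalSubgroup p = S₁) (h₂ : F₁.IsPPrimeResidual p F₁) :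
    F₂.hyperfocalSubgroup p = S₂ ∧ F₂.IsPPrimeResidual p F₂ := by
  obtain rfl := base_eq_of_hom_eq F₁ F₂ h
  obtain rfl := fusionSystem_ext h
  exact ⟨h₁, h₂⟩

theorem finite_of_le {S T : Subgroup Ω} [Finite S] (h : T ≤ S) : Finite T :=
  Finite.of_injective (Subgroup.inclusion h) (Subgroup.inclusion_injective h)

/-- the first step from a stable system does not change the maps -/
theorem step_of_stable {S : Subgroup Ω} [Finite S] {p : ℕ} [Fact p.Prime] (hS : IsPGroup p S)
    (F : FusionSystem S) (hres : F.IsPPrimeResidual p F)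
    (T : Subgroup Ω) (hT : T = S) (D D' : FusionSystem T)
    (hD1 : D.IsSaturated p) (hD2 : D.HasPPowerIndexIn F p) (hD' : D.IsPPrimeResidual p D') :
    ∀ P : Subgroup Ω, D'.Hom P = F.Hom P := by
  subst hT
  have h1 : D = F := fusionSystem_ext
    (hom_eq_of_hasPPowerIndexIn p hS F rfl D F hD1 hres.1 hD2 (hasPPowerIndexIn_self F p))
  subst h1
  have h2 := pPrimeResidual_unique D D' D hD' hres
  subst h2
  intro P; rfl

/-- a residual limit of a stable system has the maps of that system -/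
theorem limit_of_stable {T S : Subgroup Ω} {E : FusionSystem T} {F : FusionSystem S} {p : ℕ}
    (h : E.IsResidualLimitOf F p) : ∀ [Fact p.Prime] [Finite S], IsPGroup p S →
      F.hyperfocalSubgroup p = S → F.IsPPrimeResidual p F →
      ∀ P : Subgroup Ω, E.Hom P = F.Hom P := by
  induction h with
  | stable F p h1 h2 =>
    intro _ _ _ _ _ P; rfl
  | step F p D D' hD hD' hlim ih =>
    intro _ _ hS hst hres P
    have hle : F.hyperfocalSubgroup p ≤ _ := hyperfocal_le_base F p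
    haveI := finite_of_le hle
    have hS' : IsPGroup p ↥(F.hyperfocalSubgroup p) := hS.to_le hle
    have h1 := step_of_stable hS F hres _ hst D D' hD.1 hD.2 hD'
    obtain ⟨h2, h3⟩ := stable_of_hom_eq F D' (fun P => (h1 P).symm) hst hres
    rw [ih hS' h2 h3 P, h1 P]

/-- residual limits of the same system have the same maps -/
theorem limit_unique {T₁ S : Subgroup Ω} {L₁ : FusionSystem T₁} {F : FusionSystem S} {p : ℕ}
    (h₁ : L₁.IsResidualLimitOf F p) : ∀ [Fact p.Prime] [Finite S], IsPGroup p S →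
      ∀ {T₂ : Subgroup Ω} (L₂ : FusionSystem T₂), L₂.IsResidualLimitOf F p →
      ∀ P : Subgroup Ω, L₁.Hom P = L₂.Hom P := by
  induction h₁ with
  | stable F p h1 h2 =>
    intro _ _ hS T₂ L₂ hL₂ P
    exact (limit_of_stable hL₂ hS h1 h2 P).symm
  | step F p D D' hD hD' hlim ih =>
    intro _ _ hS T₂ L₂ hL₂ P
    have hle : F.hyperfocalSubgroup p ≤ _ := hyperfocal_le_base F p
    haveI := finite_of_le hle
    have hS' : IsPGroup p ↥(F.hyperfocalSubgroup p) := hS.to_le hle
    cases hL₂ with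
    | stable _ _ h1 h2 =>
      exact limit_of_stable (IsResidualLimitOf.step F p D D' hD hD' hlim) hS h1 h2 P
    | step _ _ D₂ D₂' hD₂ hD₂' hlim₂ =>
      obtain rfl := pResidual_unique hS F D D₂ hD hD₂
      obtain rfl := pPrimeResidual_unique D D' D₂' hD' hD₂'
      exact ih hS' L₂ hlim₂ P

/-- residual limits of systems with the same maps have the same maps -/
theorem limit_hom_eq {S₁ S₂ : Subgroup Ω} {p : ℕ} [Fact p.Prime] [Finite S₁] (hS : IsPGroup p S₁)
    (F₁ : FusionSystem S₁) (F₂ : FusionSystem S₂) (h : ∀ P : Subgroup Ω, F₁.Hom P = F₂.Hom P)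
    {T₁ T₂ : Subgroup Ω} (L₁ : FusionSystem T₁) (L₂ : FusionSystem T₂)
    (h₁ : L₁.IsResidualLimitOf F₁ p) (h₂ : L₂.IsResidualLimitOf F₂ p) :
    ∀ P : Subgroup Ω, L₁.Hom P = L₂.Hom P := by
  obtain rfl := base_eq_of_hom_eq F₁ F₂ h
  obtain rfl := fusionSystem_ext h
  exact limit_unique h₁ hS L₂ h₂

end Cfsg.Agent.Lib.Helper3.FocRL
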