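import Mathlib
import Cfsg.Agent.Lib.Helper3.FocRL1
import Cfsg.Agent.Lib.Helper1.Coprime
import Cfsg.Agent.Lib.Helper2.FixHol
import Cfsg.Agent.Lib.Helper9.FusionBasic

set_option autoImplicit false
set_option maxHeartbeats 1000000
set_option linter.style.haveILetI false
set_option linter.unusedSectionVars false
set_option linter.unusedVariables false

/-! Coprime action decomposition for an automorphism of a `p`-group, and the hyperfocal subgroup
of a normal subsystem of `p`-power index. -/

namespace Cfsg.Agent.Lib.Helper3.FocRL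

open Cfsg Cfsg.FusionSystem Cfsg.Agent.Lib.Helper9 Cfsg.Agent.Lib.Helper1
  Cfsg.Agent.Lib.Helper2.FixHol
open scoped commutatorElement

universe u

/-- `P = C_P(a) N` whenever `N` contains all `x⁻¹ a^i(x)` -/
theorem coprime_decomp {P : Type u} [Group P] [Finite P] {p : ℕ} [Fact p.Prime]
    (hP : IsPGroup p P) (a : MulAut P) (ha : Nat.Coprime (orderOf a) p) (N : Subgroup P)
    (hN : ∀ (i : ℕ) (x : P), x⁻¹ * (a ^ i) x ∈ N) :
    ∀ x : P, ∃ c y : P, a c = c ∧ y ∈ N ∧ x = c * y := by
  intro x
  have hKn : ((hl : P →* Hol P).range).Normal := by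
    have : (hl : P →* Hol P).range = (SemidirectProduct.rightHom : Hol P →* MulAut P).ker :=
      SemidirectProduct.range_inl_eq_ker_rightHom
    rw [this]
    infer_instance
  have hAK : Subgroup.zpowers (hr a : Hol P) ≤
      Subgroup.normalizer (((hl : P →* Hol P).range : Subgroup (Hol P)) : Set (Hol P)) := by
    rw [Subgroup.normalizer_eq_top]
    exact le_top
  have hrinj : Function.Injective (hr : MulAut P → Hol P) := SemidirectProduct.inr_injective
  have hcop : (Nat.card (Subgroup.zpowers (hr a : Hol P))).Coprime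
      (Nat.card ((hl : P →* Hol P).range)) := by
    rw [Nat.card_zpowers, orderOf_injective hr hrinj a]
    have h1 : Nat.card ((hl : P →* Hol P).range) = Nat.card P :=
      (Nat.card_congr (Equiv.ofInjective _ hl_injective)).symm
    obtain ⟨n, hn⟩ := hP.exists_card_eq
    rw [h1, hn]
    exact ha.pow_right n
  have hsolv : Group.IsSolvable (Subgroup.zpowers (hr a : Hol P)) ∨
      Group.IsSolvable ((hl : P →* Hol P).range) := by
    right
    have h1 : IsPGroup p ((hl : P →* Hol P).range) := by
      intro y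
      obtain ⟨y, z, rfl⟩ := y
      obtain ⟨k, hk⟩ := hP z
      refine ⟨k, Subtype.ext ?_⟩
      show (hl z : Hol P) ^ p ^ k = 1
      rw [← map_pow, hk, map_one]
    haveI := h1.isNilpotent
    infer_instance
  have hle : ⁅(hl : P →* Hol P).range, Subgroup.zpowers (hr a : Hol P)⁆ ≤ (hl : P →* Hol P).range :=
    Subgroup.le_normalizer_iff_commutator_le_left.mp hAK
  have hfix : ∀ b ∈ Subgroup.zpowers (hr a : Hol P), b * hl x * b⁻¹ * (hl x)⁻¹ ∈
      ⁅(hl : P →* Hol P).range, Subgroup.zpowers (hr a : Hol P)⁆ := by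
    intro b hb
    rw [Subgroup.commutator_comm]
    exact Subgroup.commutator_mem_commutator hb ⟨x, rfl⟩
  obtain ⟨c, hc, hkc⟩ := coprime_fixed_points_quotient (Subgroup.zpowers (hr a : Hol P))
    ((hl : P →* Hol P).range) hAK hcop hsolv
    ⁅(hl : P →* Hol P).range, Subgroup.zpowers (hr a : Hol P)⁆ hle
    (Subgroup.normalizer_commutator_ge_left _ _) (Subgroup.normalizer_commutator_ge_right _ _)
    (hl x) ⟨x, rfl⟩ hfix
  obtain ⟨⟨c, rfl⟩, hcA⟩ := hc
  -- the commutator subgroup lies in the image of `N`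
  have hcomm : ⁅(hl : P →* Hol P).range, Subgroup.zpowers (hr a : Hol P)⁆ ≤ N.map hl := by
    rw [Subgroup.commutator_le]
    rintro _ ⟨z, rfl⟩ b hb
    have hb' : b ∈ Submonoid.powers (hr a : Hol P) := mem_powers_iff_mem_zpowers.mpr hb
    obtain ⟨i, rfl⟩ := hb'
    have h1 : ⁅(hl z : Hol P), (hr a) ^ i⁆ = hl (z * (a ^ i) z⁻¹) := by
      rw [map_mul, ← map_pow, conj_hl, commutatorElement_def, map_inv]
      group
    rw [h1]
    refine ⟨_, ?_, rfl⟩
    have := hN i z⁻¹
    rwa [inv_inv] at this
  have hac : a c = c := by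
    have h1 : (hr a : Hol P) * hl c = hl c * hr a :=
      (Subgroup.mem_centralizer_iff.mp hcA (hr a) (Subgroup.mem_zpowers _))
    apply hl_injective
    rw [conj_hl, h1]
    group
  obtain ⟨n, hn, hn'⟩ := hcomm hkc
  have hn2 : n = x⁻¹ * c := by
    apply hl_injective
    rw [hn', map_mul, map_inv]
  refine ⟨c, n⁻¹, hac, N.inv_mem hn, ?_⟩
  rw [hn2]
  group

end Cfsg.Agent.Lib.Helper3.FocRL
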