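import Mathlib
import Cfsg.Agent.Lib.Helper3.FocRL2

set_option autoImplicit false
set_option maxHeartbeats 1000000
set_option linter.style.haveILetI false
set_option linter.unusedSectionVars false
set_option linter.unusedVariables false

/-! The hyperfocal subgroup of a subsystem of `p`-power index on a strongly closed subgroup, and
transitivity of `p`-power index. -/

namespace Cfsg.Agent.Lib.Helper3.FocRL

open Cfsg Cfsg.FusionSystem Cfsg.Agent.Lib.Helper9 Cfsg.Agent.Lib.Helper1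
open scoped commutatorElement

universe u

variable {Ω : Type u} [Group Ω]

/-- restriction of an automorphism of `P` to an invariant subgroup `Q ≤ P` of the ambient group -/
noncomputable def restrictTo {P : Subgroup Ω} [Finite P] (a : MulAut P) (Q : Subgroup Ω)
    (hQP : Q ≤ P) (hinv : ∀ y : Q, ((a ⟨y, hQP y.2⟩ : P) : Ω) ∈ Q) : MulAut Q :=
  MulEquiv.ofBijective
    ({ toFun := fun y => ⟨((a ⟨y, hQP y.2⟩ : P) : Ω), hinv y⟩
       map_one' := by
        apply Subtype.ext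
        show ((a ⟨((1 : Q) : Ω), _⟩ : P) : Ω) = 1
        have : (⟨((1 : Q) : Ω), hQP (1 : Q).2⟩ : P) = 1 := Subtype.ext rfl
        rw [this, map_one]; rfl
       map_mul' := fun x y => by
        apply Subtype.ext
        show ((a ⟨((x * y : Q) : Ω), _⟩ : P) : Ω) = ((a ⟨x, hQP x.2⟩ : P) : Ω) * ((a ⟨y, hQP y.2⟩ : P) : Ω)
        have : (⟨((x * y : Q) : Ω), hQP (x * y).2⟩ : P) = ⟨x, hQP x.2⟩ * ⟨y, hQP y.2⟩ :=
          Subtype.ext rfl
        rw [this, map_mul]; rfl } : Q →* Q)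
    (by
      haveI : Finite Q := Finite.of_injective (Subgroup.inclusion hQP) (Subgroup.inclusion_injective hQP)
      have hinj : Function.Injective (fun y : Q => (⟨((a ⟨y, hQP y.2⟩ : P) : Ω), hinv y⟩ : Q)) := by
        intro x y hxy
        have h1 : ((a ⟨x, hQP x.2⟩ : P) : Ω) = ((a ⟨y, hQP y.2⟩ : P) : Ω) :=
          congrArg (fun z : Q => (z : Ω)) hxy
        have h2 : (⟨x, hQP x.2⟩ : P) = ⟨y, hQP y.2⟩ := a.injective (Subtype.ext h1)
        exact Subtype.ext (congrArg (fun z : P => (z : Ω)) h2)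
      exact ⟨hinj, Finite.injective_iff_surjective.mp hinj⟩)

theorem restrictTo_apply {P : Subgroup Ω} [Finite P] (a : MulAut P) (Q : Subgroup Ω)
    (hQP : Q ≤ P) (hinv : ∀ y : Q, ((a ⟨y, hQP y.2⟩ : P) : Ω) ∈ Q) (y : Q) :
    ((restrictTo a Q hQP hinv y : Q) : Ω) = ((a ⟨y, hQP y.2⟩ : P) : Ω) := rfl

theorem restrictTo_pow_apply {P : Subgroup Ω} [Finite P] (a : MulAut P) (Q : Subgroup Ω)
    (hQP : Q ≤ P) (hinv : ∀ y : Q, ((a ⟨y, hQP y.2⟩ : P) : Ω) ∈ Q) (m : ℕ) (y : Q) :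
    ((((restrictTo a Q hQP hinv) ^ m) y : Q) : Ω) = (((a ^ m) ⟨y, hQP y.2⟩ : P) : Ω) := by
  induction m generalizing y with
  | zero => simp
  | succ m ih =>
    rw [pow_succ, MulAut.mul_apply, ih, pow_succ, MulAut.mul_apply]
    rfl

theorem orderOf_restrictTo_dvd {P : Subgroup Ω} [Finite P] (a : MulAut P) (Q : Subgroup Ω)
    (hQP : Q ≤ P) (hinv : ∀ y : Q, ((a ⟨y, hQP y.2⟩ : P) : Ω) ∈ Q) :
    orderOf (restrictTo a Q hQP hinv) ∣ orderOf a := by
  apply orderOf_dvd_of_pow_eq_one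
  ext y
  rw [restrictTo_pow_apply, pow_orderOf_eq_one]
  rfl

/-- a `p'`-automorphism in `Aut_F(P)` moves elements of `P` only by elements of the hyperfocal
subgroup of a subsystem of `p`-power index on a strongly closed subgroup -/
theorem key_hyperfocal {S : Subgroup Ω} [Finite S] {p : ℕ} [Fact p.Prime] (hS : IsPGroup p S)
    (F : FusionSystem S) {T : Subgroup Ω} (E : FusionSystem T) (hsc : F.StronglyClosed T)
    (hidx : E.HasPPowerIndexIn F p) (P : Subgroup Ω) (hPS : P ≤ S) (a : MulAut P)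
    (ha : a ∈ F.autGroup P) (hcop : Nat.Coprime (orderOf a) p) (x : P) :
    (x : Ω)⁻¹ * ((a x : P) : Ω) ∈ E.hyperfocalSubgroup p := by
  haveI : Finite P := finite_of_le hPS
  have hPp : IsPGroup p P := hS.to_le hPS
  have hφ : P.subtype.comp a.toMonoidHom ∈ F.Hom P := (mem_autGroup_iff F hPS a).mp ha
  -- invariance of `P ⊓ T`
  have hinv : ∀ y : ↥(P ⊓ T), ((a ⟨y, (inf_le_left : P ⊓ T ≤ P) y.2⟩ : P) : Ω) ∈ P ⊓ T := by
    intro y
    refine ⟨(a ⟨y, (inf_le_left : P ⊓ T ≤ P) y.2⟩ : P).2, ?_⟩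
    exact hsc.2 (P ⊓ T) inf_le_right _ (restrict_mem F hφ inf_le_left) y
  -- all `x⁻¹ a^i(x)` lie in `T`
  have hN : ∀ (i : ℕ) (z : P), z⁻¹ * (a ^ i) z ∈ T.subgroupOf P := by
    intro i z
    rw [Subgroup.mem_subgroupOf]
    apply hidx.2.1
    have h1 : (⟨a, ha⟩ : F.autGroup P) ^ i ∈ pResidual p (F.autGroup P) := by
      apply Subgroup.subset_closure
      show Nat.Coprime (orderOf ((⟨a, ha⟩ : F.autGroup P) ^ i)) p
      have h2 : orderOf ((⟨a, ha⟩ : F.autGroup P) ^ i) ∣ orderOf a := by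
        have h3 := orderOf_pow_dvd (x := (⟨a, ha⟩ : F.autGroup P)) i
        have h4 : orderOf (⟨a, ha⟩ : F.autGroup P) = orderOf a := Subgroup.orderOf_mk _ _
        rw [h4] at h3
        exact h3
      exact Nat.Coprime.coprime_dvd_left h2 hcop
    apply Subgroup.subset_closure
    refine ⟨P, (⟨a, ha⟩ : F.autGroup P) ^ i, z, hPS, h1, ?_⟩
    simp
  obtain ⟨c, y, hc, hy, hxy⟩ := coprime_decomp hPp a hcop (T.subgroupOf P) hN x
  rw [Subgroup.mem_subgroupOf] at hy
  -- the restriction to `P ⊓ T`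
  have hb_mem : restrictTo a (P ⊓ T) inf_le_left hinv ∈ F.autGroup (P ⊓ T) := by
    rw [mem_autGroup_iff F (inf_le_left.trans hPS)]
    have : (P ⊓ T).subtype.comp (restrictTo a (P ⊓ T) inf_le_left hinv).toMonoidHom =
        (P.subtype.comp a.toMonoidHom).comp (Subgroup.inclusion inf_le_left) := by
      ext z; rfl
    rw [this]
    exact restrict_mem F hφ inf_le_left
  have hb_cop : Nat.Coprime (orderOf (restrictTo a (P ⊓ T) inf_le_left hinv)) p :=
    Nat.Coprime.coprime_dvd_left (orderOf_restrictTo_dvd a _ _ hinv) hcop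
  have hbE : restrictTo a (P ⊓ T) inf_le_left hinv ∈ E.autGroup (P ⊓ T) := by
    apply hidx.2.2 (P ⊓ T) inf_le_right
    refine ⟨⟨_, hb_mem⟩, ?_, rfl⟩
    apply Subgroup.subset_closure
    show Nat.Coprime (orderOf (⟨_, hb_mem⟩ : F.autGroup (P ⊓ T))) p
    rw [Subgroup.orderOf_mk]
    exact hb_cop
  have hfin : ((⟨y, ⟨y.2, hy⟩⟩ : ↥(P ⊓ T)) : Ω)⁻¹ *
      ((restrictTo a (P ⊓ T) inf_le_left hinv ⟨y, ⟨y.2, hy⟩⟩ : ↥(P ⊓ T)) : Ω) ∈
        E.hyperfocalSubgroup p := by
    apply Subgroup.subset_closure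
    refine ⟨P ⊓ T, ⟨_, hbE⟩, ⟨y, ⟨y.2, hy⟩⟩, inf_le_right, ?_, rfl⟩
    apply Subgroup.subset_closure
    show Nat.Coprime (orderOf (⟨_, hbE⟩ : E.autGroup (P ⊓ T))) p
    rw [Subgroup.orderOf_mk]
    exact hb_cop
  rw [restrictTo_apply] at hfin
  have h3 : (x : Ω)⁻¹ * ((a x : P) : Ω) = (y : Ω)⁻¹ * ((a y : P) : Ω) := by
    rw [hxy, map_mul, hc]
    push_cast
    group
  rw [h3]
  exact hfin

/-- the hyperfocal subgroup does not shrink on passing to a subsystem of `p`-power index over a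
strongly closed subgroup -/
theorem hyperfocal_le_of_pPowerIndex {S : Subgroup Ω} [Finite S] {p : ℕ} [Fact p.Prime]
    (hS : IsPGroup p S) (F : FusionSystem S) {T : Subgroup Ω} (E : FusionSystem T)
    (hsc : F.StronglyClosed T) (hidx : E.HasPPowerIndexIn F p) :
    F.hyperfocalSubgroup p ≤ E.hyperfocalSubgroup p := by
  have hmain : ∀ (P : Subgroup Ω), P ≤ S → ∀ α : F.autGroup P, α ∈ pResidual p (F.autGroup P) →
      ∀ x : P, (x : Ω)⁻¹ * (((α : MulAut P) x : P) : Ω) ∈ E.hyperfocalSubgroup p := by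
    intro P hPS α hα
    unfold pResidual at hα
    induction hα using Subgroup.closure_induction with
    | mem α hα =>
      intro x
      have h1 : Nat.Coprime (orderOf (α : MulAut P)) p := by
        rw [Subgroup.orderOf_coe]; exact hα
      exact key_hyperfocal hS F E hsc hidx P hPS _ α.2 h1 x
    | one =>
      intro x
      simp
    | mul α β _ _ ihα ihβ =>
      intro x
      have h1 : (x : Ω)⁻¹ * ((((α * β : F.autGroup P) : MulAut P) x : P) : Ω) =
          ((x : Ω)⁻¹ * (((β : MulAut P) x : P) : Ω)) *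
            ((((β : MulAut P) x : P) : Ω)⁻¹ * (((α : MulAut P) ((β : MulAut P) x) : P) : Ω)) := by
        rw [Subgroup.coe_mul, MulAut.mul_apply]
        group
      rw [h1]
      exact Subgroup.mul_mem _ (ihβ x) (ihα _)
    | inv α _ ih =>
      intro x
      have h1 : (x : Ω)⁻¹ * ((((α⁻¹ : F.autGroup P) : MulAut P) x : P) : Ω) =
          (((((α : MulAut P)⁻¹ x : P) : Ω))⁻¹ *
            (((α : MulAut P) ((α : MulAut P)⁻¹ x) : P) : Ω))⁻¹ := by
        rw [Subgroup.coe_inv, MulAut.apply_inv_self]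
        group
      rw [h1]
      exact Subgroup.inv_mem _ (ih _)
  unfold hyperfocalSubgroup
  rw [Subgroup.closure_le]
  rintro y ⟨P, α, x, hPS, hα, rfl⟩
  exact hmain P hPS α hα x

theorem hyperfocal_eq_of_pPowerIndex {S : Subgroup Ω} [Finite S] {p : ℕ} [Fact p.Prime]
    (hS : IsPGroup p S) (F : FusionSystem S) {T : Subgroup Ω} (E : FusionSystem T)
    (hsc : F.StronglyClosed T) (hidx : E.HasPPowerIndexIn F p) :
    E.hyperfocalSubgroup p = F.hyperfocalSubgroup p :=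
  le_antisymm (hyperfocal_le_of_subsystem E F hsc.1 hidx.1 p)
    (hyperfocal_le_of_pPowerIndex hS F E hsc hidx)

/-- transitivity of `p`-power index, through a subsystem on a strongly closed subgroup -/
theorem hasPPowerIndexIn_trans {S : Subgroup Ω} [Finite S] {p : ℕ} [Fact p.Prime]
    (hS : IsPGroup p S) (F : FusionSystem S) {T : Subgroup Ω} (E : FusionSystem T)
    {U : Subgroup Ω} (D : FusionSystem U) (hsc : F.StronglyClosed T)
    (hE : E.HasPPowerIndexIn F p) (hD : D.HasPPowerIndexIn E p) : D.HasPPowerIndexIn F p := by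
  have hUT : U ≤ T := le_of_isSubsystemOf D E hD.1
  refine ⟨fun P => (hD.1 P).trans (hE.1 P),
    (hyperfocal_le_of_pPowerIndex hS F E hsc hE).trans hD.2.1, fun P hPU => ?_⟩
  rw [Subgroup.map_le_iff_le_comap]
  unfold pResidual
  rw [Subgroup.closure_le]
  intro α hα
  have hα' : Nat.Coprime (orderOf α) p := hα
  show (α : MulAut P) ∈ D.autGroup P
  have h1 : (α : MulAut P) ∈ E.autGroup P :=
    hE.2.2 P (hPU.trans hUT) ⟨α, Subgroup.subset_closure hα, rfl⟩
  apply hD.2.2 P hPU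
  refine ⟨⟨_, h1⟩, ?_, rfl⟩
  apply Subgroup.subset_closure
  show Nat.Coprime (orderOf (⟨_, h1⟩ : E.autGroup P)) p
  rw [Subgroup.orderOf_mk, Subgroup.orderOf_coe]
  exact hα'

end Cfsg.Agent.Lib.Helper3.FocRL
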