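import Mathlib
import Cfsg.Prelude.Def_CaseTheorems
import Cfsg.Agent.S3752
import Cfsg.Agent.Lib.Helper1.ThompsonPQ
import Cfsg.Agent.Lib.Helper3.Fitting
import Cfsg.Agent.Lib.Helper7.CharP

/-!
# A 3-element acting fixed-point-freely on a 2-group of small rank: preliminaries
-/

set_option autoImplicit false

namespace Cfsg.Agent.Lib.Helper3.FpfThree

open Cfsg

variable {X : Type*} [Group X]

theorem card_ge_of_forall_mem [Finite X] {H : Subgroup X} (S : Finset X) (hS : ∀ s ∈ S, s ∈ H) :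
    S.card ≤ Nat.card H := by
  have h1 : (↑S : Set X) ⊆ (H : Set X) := fun s hs => hS s hs
  have h2 := Set.ncard_le_ncard h1 (Set.toFinite _)
  rw [Set.ncard_coe_finset] at h2
  have h3 : Nat.card H = (H : Set X).ncard := (Nat.card_coe_set_eq (H : Set X))
  rw [h3]; exact h2

theorem conj_mem_closure {g : X} {T : Set X}
    (h : ∀ t ∈ T, g * t * g⁻¹ ∈ Subgroup.closure T) :
    ∀ s ∈ Subgroup.closure T, g * s * g⁻¹ ∈ Subgroup.closure T := by
  intro s hs
  induction hs using Subgroup.closure_induction with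
  | mem t ht => exact h t ht
  | one => simp
  | mul a b _ _ ha hb =>
    have : g * (a * b) * g⁻¹ = (g * a * g⁻¹) * (g * b * g⁻¹) := by group
    rw [this]; exact Subgroup.mul_mem _ ha hb
  | inv a _ ha =>
    have : g * a⁻¹ * g⁻¹ = (g * a * g⁻¹)⁻¹ := by group
    rw [this]; exact Subgroup.inv_mem _ ha

theorem mem_normalizer_closure {g : X} {T : Set X} (h : ∀ t ∈ T, g * t * g⁻¹ ∈ T)
    (h' : ∀ t ∈ T, g⁻¹ * t * g ∈ T) :
    g ∈ Subgroup.normalizer ((Subgroup.closure T : Subgroup X) : Set X) := by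
  rw [Subgroup.mem_normalizer_iff]
  intro s
  constructor
  · exact conj_mem_closure (fun t ht => Subgroup.subset_closure (h t ht)) s
  · intro hs
    have h1 := conj_mem_closure (g := g⁻¹) (T := T)
      (fun t ht => Subgroup.subset_closure (by simpa using h' t ht)) _ hs
    have : g⁻¹ * (g * s * g⁻¹) * g⁻¹⁻¹ = s := by group
    rwa [this] at h1

theorem mem_normalizer_inf {g : X} {A B : Subgroup X}
    (hA : g ∈ Subgroup.normalizer (A : Set X)) (hB : g ∈ Subgroup.normalizer (B : Set X)) :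
    g ∈ Subgroup.normalizer ((A ⊓ B : Subgroup X) : Set X) :=
  Subgroup.inf_normalizer_le_normalizer_inf (Subgroup.mem_inf.2 ⟨hA, hB⟩)

theorem mem_normalizer_centralizer {g : X} {A : Subgroup X}
    (hA : g ∈ Subgroup.normalizer (A : Set X)) :
    g ∈ Subgroup.normalizer ((Subgroup.centralizer (A : Set X) : Subgroup X) : Set X) :=
  Cfsg.Agent.Lib.Helper7.normalizer_le_normalizer_centralizer A hA

theorem mem_normalizer_centralizer_singleton {g x : X} (h : g * x = x * g) :
    g ∈ Subgroup.normalizer ((Subgroup.centralizer ({x} : Set X) : Subgroup X) : Set X) := by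
  rw [Subgroup.mem_normalizer_iff]
  intro s
  rw [Subgroup.mem_centralizer_singleton_iff, Subgroup.mem_centralizer_singleton_iff]
  have hc : Commute g x := h
  have hc' : Commute g⁻¹ x := hc.inv_left
  constructor
  · intro hs
    calc g * s * g⁻¹ * x = g * s * (g⁻¹ * x) := by group
      _ = g * s * (x * g⁻¹) := by rw [hc'.eq]
      _ = g * (s * x) * g⁻¹ := by group
      _ = g * (x * s) * g⁻¹ := by rw [hs]
      _ = (g * x) * s * g⁻¹ := by group
      _ = (x * g) * s * g⁻¹ := by rw [hc.eq]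
      _ = x * (g * s * g⁻¹) := by group
  · intro hs
    have e1 : s * x = g⁻¹ * ((g * s * g⁻¹) * x) * g * (g⁻¹ * x⁻¹ * g * x) := by group
    have e2 : g⁻¹ * x⁻¹ * g * x = 1 := by
      have : g * x = x * g := h
      calc g⁻¹ * x⁻¹ * g * x = g⁻¹ * x⁻¹ * (g * x) := by group
        _ = g⁻¹ * x⁻¹ * (x * g) := by rw [this]
        _ = 1 := by group
    rw [e1, e2, mul_one, hs]
    calc g⁻¹ * (x * (g * s * g⁻¹)) * g = (g⁻¹ * x) * g * s := by group
      _ = (x * g⁻¹) * g * s := by rw [hc'.eq]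
      _ = x * s := by group

section Main

variable [Finite X] {d : X} {P : Subgroup X}

/-- The hypotheses of the statement, with `d³` not assumed trivial. -/
structure Hyp (d : X) (P : Subgroup X) : Prop where
  odd : (orderOf d).Coprime 2
  hP : IsPGroup 2 P
  hdP : d ∈ Subgroup.normalizer (P : Set X)
  hfpf : P ⊓ Subgroup.centralizer {d} = ⊥
  hrank : ∀ V : Subgroup X, V ≤ P → IsMulCommutative V → Cfsg.PRankLE 2 2 V

/-- In an abelian `d`-invariant subgroup of `P`, at most 4 elements have square 1. -/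
theorem Hyp.card_le_four (h : Hyp d P) {B : Subgroup X} (hBP : B ≤ P)
    (hBc : ∀ a ∈ B, ∀ b ∈ B, a * b = b * a) (S : Finset X)
    (hS : ∀ s ∈ S, s ∈ B ∧ s ^ 2 = 1) : S.card ≤ 4 := by
  haveI hBcomm : IsMulCommutative B := ⟨⟨fun a b => Subtype.ext (hBc a a.2 b b.2)⟩⟩
  let A : Subgroup ↥B :=
    { carrier := {v | v ^ 2 = 1}
      one_mem' := one_pow 2
      mul_mem' := by
        intro a b ha hb
        have hab : Commute a b := Subtype.ext (hBc a a.2 b b.2)
        show (a * b) ^ 2 = 1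
        rw [hab.mul_pow, ha, hb, one_mul]
      inv_mem' := by
        intro a ha
        show a⁻¹ ^ 2 = 1
        rw [inv_pow, ha, inv_one] }
  have h1 : Nat.card A ≤ 2 ^ 2 := h.hrank B hBP hBcomm A
    ⟨⟨fun a b => Subtype.ext (Subtype.ext (hBc a.1 a.1.2 b.1 b.1.2))⟩⟩ (fun a ha => ha)
  have h2 : S.card ≤ Nat.card A := by
    have hf : ∀ s : ↥S, ((⟨s.1, (hS s.1 s.2).1⟩ : ↥B)) ∈ A := by
      intro s
      show (⟨s.1, (hS s.1 s.2).1⟩ : ↥B) ^ 2 = 1
      apply Subtype.ext
      rw [Subgroup.coe_pow, Subgroup.coe_one]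
      exact (hS s.1 s.2).2
    have hinj : Function.Injective (fun s : ↥S => (⟨⟨s.1, (hS s.1 s.2).1⟩, hf s⟩ : ↥A)) := by
      intro s t hst
      apply Subtype.ext
      have := congrArg (fun v : ↥A => ((v : ↥B) : X)) hst
      exact this
    have := Nat.card_le_card_of_injective _ hinj
    rwa [Nat.card_eq_fintype_card, Fintype.card_coe] at this
  omega

/-- A non-identity element of `P` is moved by `d`. -/
theorem Hyp.conj_ne (h : Hyp d P) {a : X} (haP : a ∈ P) (ha : a ≠ 1) : d * a * d⁻¹ ≠ a := by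
  intro he
  apply ha
  have : a ∈ P ⊓ Subgroup.centralizer {d} := by
    refine Subgroup.mem_inf.2 ⟨haP, ?_⟩
    rw [Subgroup.mem_centralizer_singleton_iff]
    calc a * d = (d * a * d⁻¹) * d := by rw [he]
      _ = d * a := by group
  rw [h.hfpf, Subgroup.mem_bot] at this
  exact this

/-- A non-identity element of `P` is moved by `d²`. -/
theorem Hyp.conj_sq_ne (h : Hyp d P) {a : X} (haP : a ∈ P) (ha : a ≠ 1) :
    d * (d * a * d⁻¹) * d⁻¹ ≠ a := by
  intro he
  apply h.conj_ne haP ha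
  have h1 : d ^ 2 ∈ Subgroup.centralizer ({a} : Set X) := by
    rw [Subgroup.mem_centralizer_singleton_iff]
    calc d ^ 2 * a = (d * (d * a * d⁻¹) * d⁻¹) * d ^ 2 := by rw [pow_two]; group
      _ = a * d ^ 2 := by rw [he]
  have h2 : d ∈ Subgroup.centralizer ({a} : Set X) :=
    Cfsg.Agent.Lib.Helper3.mem_of_pow_mem_of_coprime _ d 2 h.odd.symm h1
  rw [Subgroup.mem_centralizer_singleton_iff] at h2
  calc d * a * d⁻¹ = a * d * d⁻¹ := by rw [h2]
    _ = a := by group

/-- `d³` centralizes every element of order at most 2 of an abelian `d`-invariant subgroup. -/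
theorem Hyp.cube_centralizes_involution (h : Hyp d P) {B : Subgroup X} (hBP : B ≤ P)
    (hBc : ∀ a ∈ B, ∀ b ∈ B, a * b = b * a)
    (hBd : d ∈ Subgroup.normalizer (B : Set X)) {a : X} (haB : a ∈ B) (ha2 : a ^ 2 = 1) :
    d ^ 3 * a * (d ^ 3)⁻¹ = a := by
  classical
  by_cases ha1 : a = 1
  · rw [ha1]; group
  have hconj : ∀ v ∈ B, d * v * d⁻¹ ∈ B := fun v hv => (Subgroup.mem_normalizer_iff.1 hBd v).1 hv
  have hconj2 : ∀ v : X, v ^ 2 = 1 → (d * v * d⁻¹) ^ 2 = 1 := by
    intro v hv
    have : (d * v * d⁻¹) ^ 2 = d * v ^ 2 * d⁻¹ := by rw [pow_two, pow_two]; group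
    rw [this, hv]; group
  set b := d * a * d⁻¹ with hb
  set c := d * b * d⁻¹ with hc
  have hbB : b ∈ B := hconj a haB
  have hcB : c ∈ B := hconj b hbB
  have hb2 : b ^ 2 = 1 := hconj2 a ha2
  have hc2 : c ^ 2 = 1 := hconj2 b hb2
  have hb1 : b ≠ 1 := by
    intro hb1
    apply ha1
    have : a = d⁻¹ * b * d := by rw [hb]; group
    rw [this, hb1]; group
  have hc1 : c ≠ 1 := by
    intro hc1
    apply hb1
    have : b = d⁻¹ * c * d := by rw [hc]; group
    rw [this, hc1]; group
  have hab : b ≠ a := h.conj_ne (hBP haB) ha1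
  have hbc : c ≠ b := h.conj_ne (hBP hbB) hb1
  have hac : c ≠ a := h.conj_sq_ne (hBP haB) ha1
  -- a * b ∈ {1, a, b, c}
  have habB : a * b ∈ B := B.mul_mem haB hbB
  have hcomm : a * b = b * a := hBc a haB b hbB
  have hab2 : (a * b) ^ 2 = 1 := by
    rw [(show Commute a b from hcomm).mul_pow, ha2, hb2, one_mul]
  have hab_ne1 : a * b ≠ 1 := by
    intro h1
    apply hab
    have : b = a⁻¹ := by
      rw [eq_inv_iff_mul_eq_one, ← hcomm, h1]
    have ha' : a⁻¹ = a := by
      rw [inv_eq_iff_mul_eq_one, ← pow_two, ha2]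
    rw [this, ha']
  have hab_nea : a * b ≠ a := by
    intro h1
    apply hb1
    have := mul_left_cancel (h1.trans (mul_one a).symm)
    exact this
  have hab_neb : a * b ≠ b := by
    intro h1
    apply ha1
    have := mul_right_cancel (h1.trans (one_mul b).symm)
    exact this
  have habc : a * b = c := by
    by_contra hne
    have hcard := h.card_le_four hBP hBc ([1, a, b, c, a * b].toFinset) (by
      intro s hs
      simp only [List.toFinset_cons, List.toFinset_nil, insert_empty_eq, Finset.mem_insert,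
        Finset.mem_singleton] at hs
      rcases hs with rfl | rfl | rfl | rfl | rfl
      · exact ⟨B.one_mem, one_pow 2⟩
      · exact ⟨haB, ha2⟩
      · exact ⟨hbB, hb2⟩
      · exact ⟨hcB, hc2⟩
      · exact ⟨habB, hab2⟩)
    have hnd : ([1, a, b, c, a * b] : List X).Nodup := by
      simp only [List.nodup_cons, List.mem_cons, List.not_mem_nil, or_false, not_or,
        List.nodup_nil, and_true]
      refine ⟨⟨Ne.symm ha1, Ne.symm hb1, Ne.symm hc1, Ne.symm hab_ne1⟩,
        ⟨Ne.symm hab, Ne.symm hac, Ne.symm hab_nea⟩, ⟨Ne.symm hbc, Ne.symm hab_neb⟩, ?_⟩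
      exact ⟨fun hh => hne hh.symm, not_false⟩
    rw [List.toFinset_card_of_nodup hnd] at hcard
    simp at hcard
  -- d * c * d⁻¹ = b * c = a
  have h3 : d * c * d⁻¹ = a := by
    have h4 : d * c * d⁻¹ = (d * a * d⁻¹) * (d * b * d⁻¹) := by rw [← habc]; group
    rw [h4, ← hb, ← hc, ← habc, ← mul_assoc, ← hcomm, mul_assoc, ← pow_two, hb2, mul_one]
  calc d ^ 3 * a * (d ^ 3)⁻¹ = d * (d * (d * a * d⁻¹) * d⁻¹) * d⁻¹ := by
        rw [pow_succ, pow_two]; group
    _ = a := by rw [← hb, ← hc, h3]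

end Main

end Cfsg.Agent.Lib.Helper3.FpfThree
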