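import Mathlib
import Cfsg.Agent.Lib.Helper3.FpfThree1

/-!
# A 3-element acting fixed-point-freely on a 2-group of small rank: structure lemmas
-/

set_option autoImplicit false

namespace Cfsg.Agent.Lib.Helper3.FpfThree

open Cfsg

variable {X : Type*} [Group X] [Finite X] {d : X} {P : Subgroup X}

/-- `d³` centralizes every abelian `d`-invariant subgroup of `P`. -/
theorem Hyp.cube_centralizes_abelian (h : Hyp d P) {B : Subgroup X} (hBP : B ≤ P)
    (hBc : ∀ a ∈ B, ∀ b ∈ B, a * b = b * a)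
    (hBd : d ∈ Subgroup.normalizer (B : Set X)) :
    d ^ 3 ∈ Subgroup.centralizer (B : Set X) := by
  set x := d ^ 3 with hx
  have hxn : x ∈ Subgroup.normalizer (B : Set X) := Subgroup.pow_mem _ hBd 3
  have hxB : ∀ v ∈ B, x * v * x⁻¹ ∈ B := fun v hv => (Subgroup.mem_normalizer_iff.1 hxn v).1 hv
  have hxodd : (orderOf x).Coprime 2 :=
    Nat.Coprime.coprime_dvd_left (orderOf_pow_dvd 3) h.odd
  have key : ∀ k : ℕ, ∀ g ∈ B, g ^ (2 ^ k) = 1 → x * g * x⁻¹ = g := by
    intro k
    induction k with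
    | zero =>
      intro g _ hg
      rw [pow_zero, pow_one] at hg
      rw [hg]; group
    | succ k ih =>
      intro g hgB hg
      have hg2 : (g ^ 2) ^ (2 ^ k) = 1 := by rw [← pow_mul, ← pow_succ']; exact hg
      have h1 : x * g ^ 2 * x⁻¹ = g ^ 2 := ih (g ^ 2) (B.pow_mem hgB 2) hg2
      set g' := x * g * x⁻¹ with hg'
      have hg'B : g' ∈ B := hxB g hgB
      set u := g⁻¹ * g' with hu
      have huB : u ∈ B := B.mul_mem (B.inv_mem hgB) hg'B
      have hcomm : Commute g⁻¹ g' := hBc _ (B.inv_mem hgB) _ hg'B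
      have hg'2 : g' ^ 2 = g ^ 2 := by
        have : g' ^ 2 = x * g ^ 2 * x⁻¹ := by rw [hg', pow_two, pow_two]; group
        rw [this, h1]
      have hu2 : u ^ 2 = 1 := by
        rw [hu, hcomm.mul_pow, hg'2, inv_pow, inv_mul_cancel]
      have hxu : x * u * x⁻¹ = u := h.cube_centralizes_involution hBP hBc hBd huB hu2
      have e1 : x⁻¹⁻¹ * g * x⁻¹ = g * u := by rw [hu, hg']; group
      have e2 : x⁻¹ * u = u * x⁻¹ := by
        calc x⁻¹ * u = x⁻¹ * (x * u * x⁻¹) := by rw [hxu]
          _ = u * x⁻¹ := by group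
      have e3 := Cfsg.Agent.S3752.conj_pow_eq e1 e2 (orderOf x)
      rw [inv_pow, pow_orderOf_eq_one, inv_one, inv_one, one_mul, mul_one] at e3
      have e4 : u ^ orderOf x = 1 := by
        have : g * u ^ orderOf x = g * 1 := by rw [← e3, mul_one]
        exact mul_left_cancel this
      have e5 : u = 1 := Cfsg.Agent.S3752.eq_one_of_pow_eq_one_of_coprime e4 hu2 hxodd
      have : g' = g * u := by rw [hu]; group
      rw [this, e5, mul_one]
  rw [Subgroup.mem_centralizer_iff]
  intro g hg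
  obtain ⟨k, hk⟩ := (h.hP.to_le hBP) ⟨g, hg⟩
  have hk' : g ^ 2 ^ k = 1 := by simpa using congrArg Subtype.val hk
  have := key k g hg hk'
  calc g * x = (x * g * x⁻¹) * x := by rw [this]
    _ = x * g := by group

/-- A minimal `d`-invariant subgroup not centralized by `d³`. -/
structure MinQ (d : X) (Q : Subgroup X) : Prop where
  hQd : d ∈ Subgroup.normalizer (Q : Set X)
  hxQ : d ^ 3 ∉ Subgroup.centralizer (Q : Set X)
  hmin : ∀ B : Subgroup X, B ≤ Q → B ≠ Q → d ∈ Subgroup.normalizer (B : Set X) →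
    d ^ 3 ∈ Subgroup.centralizer (B : Set X)

/-- Every proper `d`-invariant subgroup of a minimal `Q` is central in `Q`. -/
theorem MinQ.le_centralizer {Q : Subgroup X} (m : MinQ d Q) (hQ2 : IsPGroup 2 Q)
    (hodd : (orderOf d).Coprime 2) {B : Subgroup X} (hBQ : B ≤ Q) (hne : B ≠ Q)
    (hBd : d ∈ Subgroup.normalizer (B : Set X)) : B ≤ Subgroup.centralizer (Q : Set X) := by
  haveI : Fact (Nat.Prime 2) := ⟨Nat.prime_two⟩
  set x := d ^ 3 with hx
  set C := Q ⊓ Subgroup.centralizer (B : Set X) with hC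
  have hCd : d ∈ Subgroup.normalizer (C : Set X) :=
    mem_normalizer_inf m.hQd (mem_normalizer_centralizer hBd)
  by_cases hCQ : C = Q
  · rw [Subgroup.le_centralizer_iff]
    rw [← hCQ]; exact inf_le_right
  · exfalso
    have hxB : x ∈ Subgroup.centralizer (B : Set X) := m.hmin B hBQ hne hBd
    have hxC : x ∈ Subgroup.centralizer (C : Set X) := m.hmin C inf_le_left hCQ hCd
    have hxodd : (Nat.card (Subgroup.zpowers x)).Coprime 2 := by
      rw [Nat.card_zpowers]
      exact Nat.Coprime.coprime_dvd_left (orderOf_pow_dvd 3) hodd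
    have h1 := Cfsg.Agent.Lib.Helper1.thompson_PxQ 2 B (Subgroup.zpowers x) Q
      (hQ2.to_le hBQ) hxodd hQ2
      (by rw [Subgroup.le_centralizer_iff, Subgroup.zpowers_le]; exact hxB)
      (hBQ.trans Subgroup.le_normalizer)
      (by rw [Subgroup.zpowers_le]; exact Subgroup.pow_mem _ m.hQd 3)
      (by rw [Subgroup.le_centralizer_iff, Subgroup.zpowers_le]; exact hxC)
    exact m.hxQ (h1 (Subgroup.mem_zpowers x))

/-- Orbit counting: a conjugation-invariant set on which `d³` has no fixed point has size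
divisible by 9. -/
theorem nine_dvd_ncard {n : ℕ} (hd : orderOf d = 3 ^ n) (S : Set X)
    (hinv : ∀ a ∈ Subgroup.zpowers d, ∀ s ∈ S, a * s * a⁻¹ ∈ S)
    (hfix : ∀ s ∈ S, d ^ 3 * s * (d ^ 3)⁻¹ ≠ s) : 9 ∣ S.ncard := by
  classical
  letI : MulAction ↥(Subgroup.zpowers d) ↥S :=
    { smul := fun a s => ⟨(a : X) * s * (a : X)⁻¹, hinv a a.2 s s.2⟩
      one_smul := fun s => Subtype.ext (by
        show ((1 : ↥(Subgroup.zpowers d)) : X) * s * ((1 : ↥(Subgroup.zpowers d)) : X)⁻¹ = s
        rw [Subgroup.coe_one]; group)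
      mul_smul := fun a b s => Subtype.ext (by
        show ((a * b : ↥(Subgroup.zpowers d)) : X) * s * ((a * b : ↥(Subgroup.zpowers d)) : X)⁻¹ =
          (a : X) * ((b : X) * s * (b : X)⁻¹) * (a : X)⁻¹
        rw [Subgroup.coe_mul]; group) }
  have hsmul : ∀ (a : ↥(Subgroup.zpowers d)) (s : ↥S), ((a • s : ↥S) : X) = (a : X) * s * (a : X)⁻¹ :=
    fun a s => rfl
  rw [← Nat.card_coe_set_eq]
  have e := MulAction.selfEquivSigmaOrbitsQuotientStabilizer ↥(Subgroup.zpowers d) ↥S
  haveI : Fintype (MulAction.orbitRel.Quotient ↥(Subgroup.zpowers d) ↥S) := Fintype.ofFinite _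
  rw [Nat.card_congr e, Nat.card_sigma]
  apply Finset.dvd_sum
  intro ω _
  set s := ω.out with hs
  set H := MulAction.stabilizer ↥(Subgroup.zpowers d) s with hH
  rw [← Subgroup.index_eq_card]
  have hcomm : ∀ a b : ↥(Subgroup.zpowers d), a * b = b * a := by
    intro a b
    obtain ⟨i, hi⟩ := a.2
    obtain ⟨j, hj⟩ := b.2
    apply Subtype.ext
    rw [Subgroup.coe_mul, Subgroup.coe_mul, ← hi, ← hj]
    exact ((Commute.refl d).zpow_zpow i j).eq
  haveI hHn : H.Normal := ⟨fun a ha g => by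
    have : g * a * g⁻¹ = a := by rw [hcomm g a]; group
    rw [this]; exact ha⟩
  have hdvd : H.index ∣ 3 ^ n := by
    have := H.index_dvd_card
    rwa [Nat.card_zpowers, hd] at this
  obtain ⟨i, -, hi⟩ := (Nat.dvd_prime_pow Nat.prime_three).1 hdvd
  set d' : ↥(Subgroup.zpowers d) := ⟨d, Subgroup.mem_zpowers d⟩ with hd'
  have hnot : d' ^ 3 ∉ H := by
    intro hmem
    have h1 : (d' ^ 3) • s = s := MulAction.mem_stabilizer_iff.1 hmem
    have h2 := congrArg (fun v : ↥S => (v : X)) h1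
    simp only [hsmul, Subgroup.coe_pow] at h2
    exact hfix _ s.2 h2
  have hi2 : 2 ≤ i := by
    by_contra hlt
    push Not at hlt
    have hpow := H.pow_index_mem d'
    interval_cases i
    · rw [hi, pow_zero, pow_one] at hpow
      exact hnot (H.pow_mem hpow 3)
    · rw [hi, pow_one] at hpow
      exact hnot hpow
  rw [hi]
  have h9 : (9 : ℕ) = 3 ^ 2 := by norm_num
  rw [h9]
  exact pow_dvd_pow 3 hi2

end Cfsg.Agent.Lib.Helper3.FpfThree
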