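import Mathlib
import Cfsg.Agent.Lib.Helper3.FpfThree2
import Cfsg.Agent.Lib.Helper2.QuadCW
import Cfsg.Agent.Lib.Helper1.FrattiniP
import Cfsg.Agent.Lib.Helper1.Tate1
import Cfsg.Agent.S4269

/-!
# A 3-element acting fixed-point-freely on a 2-group of small rank has order 3
-/

set_option autoImplicit false
set_option maxHeartbeats 400000

namespace Cfsg.Agent.Lib.Helper3.FpfThree

open Cfsg
open scoped commutatorElement

variable {X : Type*} [Group X] [Finite X] {d : X} {P : Subgroup X}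

theorem arith_aux (r i : ℕ) (hi : r = 2 ^ i) (hr16 : r ≤ 16) (hrne : r ≠ 1)
    (h9 : 9 ∣ r - 1) : False := by
  have hi4 : i ≤ 4 := by
    by_contra hlt
    push Not at hlt
    have : 2 ^ 5 ≤ 2 ^ i := Nat.pow_le_pow_right (by norm_num) hlt
    omega
  interval_cases i <;> subst hi <;> omega

/-- Structure of a minimal `Q`: the part of the argument inside `Q`. -/
theorem Hyp.false_of_minQ (h : Hyp d P) {n : ℕ} (hd : orderOf d = 3 ^ n) {Q : Subgroup X}
    (hQP : Q ≤ P) (m : MinQ d Q) : False := by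
  classical
  haveI : Fact (Nat.Prime 2) := ⟨Nat.prime_two⟩
  set x := d ^ 3 with hx
  have hQd := m.hQd
  have hxQ := m.hxQ
  have hQ2 : IsPGroup 2 Q := h.hP.to_le hQP
  have hxodd : (orderOf x).Coprime 2 :=
    Nat.Coprime.coprime_dvd_left (orderOf_pow_dvd 3) h.odd
  have hxnQ : x ∈ Subgroup.normalizer (Q : Set X) := Subgroup.pow_mem _ hQd 3
  have hdx : d * x = x * d := by rw [hx, ← pow_succ', ← pow_succ]
  have SF : ∀ {B : Subgroup X}, B ≤ Q → B ≠ Q → d ∈ Subgroup.normalizer (B : Set X) →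
      B ≤ Subgroup.centralizer (Q : Set X) := fun hBQ hne hBd => m.le_centralizer hQ2 h.odd hBQ hne hBd
  set Z := Q ⊓ Subgroup.centralizer (Q : Set X) with hZ
  have hZQ : Z ≤ Q := inf_le_left
  have hZd : d ∈ Subgroup.normalizer (Z : Set X) :=
    mem_normalizer_inf hQd (mem_normalizer_centralizer hQd)
  have hZcomm : ∀ a ∈ Z, ∀ g ∈ Q, a * g = g * a := fun a ha g hg =>
    (Subgroup.mem_centralizer_iff.1 (Subgroup.mem_inf.1 ha).2 g hg).symm
  have hZc : ∀ a ∈ Z, ∀ b ∈ Z, a * b = b * a := fun a ha b hb => hZcomm a ha b (hZQ hb)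
  -- (M1)
  have hZne : Z ≠ Q := by
    intro hZQ'
    apply hxQ
    apply h.cube_centralizes_abelian hQP ?_ hQd
    intro a ha b hb
    rw [← hZQ'] at ha hb
    exact hZc a ha b hb
  -- (M2)
  have hxZ : x ∈ Subgroup.centralizer (Z : Set X) := m.hmin Z hZQ hZne hZd
  have hCx : Q ⊓ Subgroup.centralizer ({x} : Set X) ≤ Z := by
    have hd1 : d ∈ Subgroup.normalizer
        ((Q ⊓ Subgroup.centralizer ({x} : Set X) : Subgroup X) : Set X) :=
      mem_normalizer_inf hQd (mem_normalizer_centralizer_singleton hdx)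
    have hne1 : Q ⊓ Subgroup.centralizer ({x} : Set X) ≠ Q := by
      intro he
      apply hxQ
      rw [Subgroup.mem_centralizer_iff]
      intro g hg
      have : g ∈ Q ⊓ Subgroup.centralizer ({x} : Set X) := by rw [he]; exact hg
      exact Subgroup.mem_centralizer_singleton_iff.1 (Subgroup.mem_inf.1 this).2
    exact le_inf inf_le_left (SF inf_le_left hne1 hd1)
  -- (M3) squares are central
  set S2 := Subgroup.closure ((fun g => g ^ 2) '' (Q : Set X)) with hS2
  have hS2Q : S2 ≤ Q := by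
    rw [hS2, Subgroup.closure_le]
    rintro _ ⟨g, hg, rfl⟩
    exact Q.pow_mem hg 2
  have hS2d : d ∈ Subgroup.normalizer (S2 : Set X) := by
    apply mem_normalizer_closure
    · rintro _ ⟨g, hg, rfl⟩
      refine ⟨d * g * d⁻¹, (Subgroup.mem_normalizer_iff.1 hQd g).1 hg, ?_⟩
      show (d * g * d⁻¹) ^ 2 = d * g ^ 2 * d⁻¹
      rw [pow_two, pow_two]; group
    · rintro _ ⟨g, hg, rfl⟩
      have hdinv : d⁻¹ ∈ Subgroup.normalizer (Q : Set X) := Subgroup.inv_mem _ hQd
      refine ⟨d⁻¹ * g * d, ?_, ?_⟩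
      · have := (Subgroup.mem_normalizer_iff.1 hdinv g).1 hg
        rwa [inv_inv] at this
      · show (d⁻¹ * g * d) ^ 2 = d⁻¹ * g ^ 2 * d
        rw [pow_two, pow_two]; group
  have hS2ne : S2 ≠ Q := by
    intro he
    have h0 : S2 ≤ (frattini ↥Q).map Q.subtype := by
      rw [hS2, Subgroup.closure_le]
      rintro _ ⟨g, hg, rfl⟩
      refine ⟨⟨g, hg⟩ ^ 2,
        Cfsg.Agent.Lib.Helper1.pow_prime_mem_frattini_of_isPGroup 2 hQ2 ⟨g, hg⟩, ?_⟩
      simp
    have h1 : Q ≤ (frattini ↥Q).map Q.subtype := he.symm.le.trans h0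
    have h2 : frattini ↥Q = ⊤ := by
      rw [eq_top_iff]
      intro q _
      obtain ⟨y, hy, hyq⟩ := h1 q.2
      have : y = q := Subtype.ext hyq
      rwa [this] at hy
    have h3 := Cfsg.Agent.Lib.Helper1.Tate.eq_bot_of_frattini_eq_top h2
    apply hxQ
    rw [Subgroup.mem_centralizer_iff]
    intro g hg
    have h4 : (⟨g, hg⟩ : ↥Q) ∈ (⊤ : Subgroup ↥Q) := Subgroup.mem_top _
    rw [h3, Subgroup.mem_bot] at h4
    have : g = 1 := congrArg Subtype.val h4
    rw [this, one_mul, mul_one]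
  have hsqZ : ∀ g ∈ Q, g ^ 2 ∈ Z := fun g hg =>
    Subgroup.mem_inf.2 ⟨Q.pow_mem hg 2,
      SF hS2Q hS2ne hS2d (Subgroup.subset_closure ⟨g, hg, rfl⟩)⟩
  -- (M4) inside the group `↥Q`
  set Zq : Subgroup ↥Q := Z.subgroupOf Q with hZq
  have hZqc : Zq ≤ Subgroup.center ↥Q := by
    intro t ht
    rw [Subgroup.mem_center_iff]
    intro g
    apply Subtype.ext
    exact (hZcomm _ (Subgroup.mem_subgroupOf.1 ht) _ g.2).symm
  have hsq' : ∀ g : ↥Q, g ^ 2 ∈ Zq := by
    intro g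
    rw [hZq, Subgroup.mem_subgroupOf, Subgroup.coe_pow]
    exact hsqZ _ g.2
  have hcomm_sq : ∀ g k : ↥Q, ⁅g, k⁆ ^ 2 = 1 := by
    intro g k
    have h1 := Cfsg.Agent.Lib.Helper2.commutatorElement_mul_left_of_central (T := Zq) hZqc hsq' g g k
    have h2 : ⁅g * g, k⁆ = 1 := by
      rw [commutatorElement_eq_one_iff_mul_comm, ← pow_two]
      exact (Subgroup.mem_center_iff.1 (hZqc (hsq' g)) k).symm
    rw [pow_two, ← h1, h2]
  have hcomm_mem : ∀ g k : ↥Q, ⁅g, k⁆ ∈ Zq :=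
    Cfsg.Agent.Lib.Helper2.commutatorElement_mem_of_sq_mem (T := Zq) hZqc hsq'
  have hmulsq : ∀ y k : ↥Q, (y * k) ^ 2 = ⁅k, y⁆ * y ^ 2 * k ^ 2 :=
    Cfsg.Agent.Lib.Helper2.mul_sq_of_central (T := Zq) hZqc hsq'
  have hcen : ∀ t ∈ Zq, ∀ g : ↥Q, Commute t g := fun t ht g =>
    (Subgroup.mem_center_iff.1 (hZqc ht) g).symm
  let R' : Subgroup ↥Q :=
    { carrier := {g | g ^ 4 = 1}
      one_mem' := one_pow 4
      mul_mem' := by
        intro a b ha hb
        show (a * b) ^ 4 = 1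
        have ha' : (a ^ 2) ^ 2 = 1 := by rw [← pow_mul]; exact ha
        have hb' : (b ^ 2) ^ 2 = 1 := by rw [← pow_mul]; exact hb
        have e : (a * b) ^ 4 = ((a * b) ^ 2) ^ 2 := by rw [← pow_mul]
        rw [e, hmulsq a b]
        have c1 : Commute (⁅b, a⁆ * a ^ 2) (b ^ 2) := (hcen _ (hsq' b) _).symm
        have c2 : Commute ⁅b, a⁆ (a ^ 2) := hcen _ (hcomm_mem b a) _
        rw [c1.mul_pow, c2.mul_pow, hcomm_sq, ha', hb', one_mul, one_mul]
      inv_mem' := by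
        intro a ha
        show a⁻¹ ^ 4 = 1
        rw [inv_pow, ha, inv_one] }
  set R := R'.map Q.subtype with hR
  have hRmem : ∀ v : X, v ∈ R ↔ v ∈ Q ∧ v ^ 4 = 1 := by
    intro v
    constructor
    · rintro ⟨q, hq, rfl⟩
      refine ⟨q.2, ?_⟩
      have : q ^ 4 = 1 := hq
      have := congrArg Subtype.val this
      simpa using this
    · rintro ⟨hvQ, hv4⟩
      refine ⟨⟨v, hvQ⟩, ?_, rfl⟩
      show (⟨v, hvQ⟩ : ↥Q) ^ 4 = 1
      apply Subtype.ext
      simpa using hv4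
  have hRQ : R ≤ Q := fun v hv => ((hRmem v).1 hv).1
  have hRd : d ∈ Subgroup.normalizer (R : Set X) := by
    rw [Subgroup.mem_normalizer_iff]
    intro v
    rw [hRmem, hRmem]
    have e : (d * v * d⁻¹) ^ 4 = d * v ^ 4 * d⁻¹ := by
      simp only [pow_succ, pow_zero, one_mul]; group
    constructor
    · rintro ⟨hvQ, hv4⟩
      exact ⟨(Subgroup.mem_normalizer_iff.1 hQd v).1 hvQ, by rw [e, hv4]; group⟩
    · rintro ⟨hvQ, hv4⟩
      refine ⟨(Subgroup.mem_normalizer_iff.1 hQd v).2 hvQ, ?_⟩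
      rw [e] at hv4
      have : v ^ 4 = d⁻¹ * (d * v ^ 4 * d⁻¹) * d := by group
      rw [this, hv4]; group
  obtain ⟨g, hgQ, hgZ⟩ : ∃ g ∈ Q, g ∉ Z := by
    by_contra hcon
    push Not at hcon
    exact hZne (le_antisymm hZQ hcon)
  -- (M5)
  have hRtop : R = Q := by
    by_contra hRne
    have hRZ : R ≤ Subgroup.centralizer (Q : Set X) := SF hRQ hRne hRd
    set g' := x * g * x⁻¹ with hg'
    have hg'Q : g' ∈ Q := (Subgroup.mem_normalizer_iff.1 hxnQ g).1 hgQ
    set gq : ↥Q := ⟨g, hgQ⟩ with hgq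
    set gq' : ↥Q := ⟨g', hg'Q⟩ with hgq'
    have hw := hmulsq gq⁻¹ gq'
    have hg2Z : g ^ 2 ∈ Z := hsqZ g hgQ
    have hg'2 : g' ^ 2 = g ^ 2 := by
      have e1 : g' ^ 2 = x * g ^ 2 * x⁻¹ := by rw [hg', pow_two, pow_two]; group
      have e2 : g ^ 2 * x = x * g ^ 2 := Subgroup.mem_centralizer_iff.1 hxZ _ hg2Z
      rw [e1, ← e2]; group
    have hgq'2 : gq' ^ 2 = gq ^ 2 := by
      apply Subtype.ext
      rw [Subgroup.coe_pow, Subgroup.coe_pow]
      exact hg'2
    have hw2 : (gq⁻¹ * gq') ^ 2 = ⁅gq', gq⁻¹⁆ := by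
      rw [hw, hgq'2, mul_assoc, inv_pow, inv_mul_cancel, mul_one]
    have hw4 : (gq⁻¹ * gq') ^ 4 = 1 := by
      have e : (gq⁻¹ * gq') ^ 4 = ((gq⁻¹ * gq') ^ 2) ^ 2 := by rw [← pow_mul]
      rw [e, hw2, hcomm_sq]
    set w := g⁻¹ * g' with hwdef
    have hwQ : w ∈ Q := Q.mul_mem (Q.inv_mem hgQ) hg'Q
    have hwR : w ∈ R := by
      rw [hRmem]
      refine ⟨hwQ, ?_⟩
      have := congrArg Subtype.val hw4
      simpa using this
    have hwZ : w ∈ Z := Subgroup.mem_inf.2 ⟨hwQ, hRZ hwR⟩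
    have hxw : w * x = x * w := Subgroup.mem_centralizer_iff.1 hxZ w hwZ
    have e1 : x⁻¹⁻¹ * g * x⁻¹ = g * w := by rw [hwdef, hg']; group
    have e2 : x⁻¹ * w = w * x⁻¹ := by
      calc x⁻¹ * w = x⁻¹ * (w * x) * x⁻¹ := by group
        _ = x⁻¹ * (x * w) * x⁻¹ := by rw [hxw]
        _ = w * x⁻¹ := by group
    have e3 := Cfsg.Agent.S3752.conj_pow_eq e1 e2 (orderOf x)
    rw [inv_pow, pow_orderOf_eq_one, inv_one, inv_one, one_mul, mul_one] at e3
    have e4 : w ^ orderOf x = 1 := by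
      have : g * w ^ orderOf x = g * 1 := by rw [← e3, mul_one]
      exact mul_left_cancel this
    obtain ⟨k, hk⟩ := hQ2 ⟨w, hwQ⟩
    have hk' : w ^ 2 ^ k = 1 := by simpa using congrArg Subtype.val hk
    have e5 : w = 1 :=
      Cfsg.Agent.S3752.eq_one_of_pow_eq_one_of_coprime e4 hk' (hxodd.pow_right k)
    have e6 : g' = g := by
      have : g' = g * w := by rw [hwdef]; group
      rw [this, e5, mul_one]
    apply hgZ
    apply hCx
    refine Subgroup.mem_inf.2 ⟨hgQ, ?_⟩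
    rw [Subgroup.mem_centralizer_singleton_iff]
    calc g * x = (x * g * x⁻¹) * x := by rw [← hg', e6]
      _ = x * g := by group
  have h4 : ∀ v ∈ Q, v ^ 4 = 1 := fun v hv => ((hRmem v).1 (by rw [hRtop]; exact hv)).2
  -- (M6) the central involutions
  let U : Subgroup X :=
    { carrier := {z | z ∈ Z ∧ z ^ 2 = 1}
      one_mem' := ⟨Z.one_mem, one_pow 2⟩
      mul_mem' := by
        rintro a b ⟨ha, ha2⟩ ⟨hb, hb2⟩
        refine ⟨Z.mul_mem ha hb, ?_⟩
        have : Commute a b := hZc a ha b hb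
        rw [this.mul_pow, ha2, hb2, one_mul]
      inv_mem' := by
        rintro a ⟨ha, ha2⟩
        exact ⟨Z.inv_mem ha, by rw [inv_pow, ha2, inv_one]⟩ }
  have hUmem : ∀ z : X, z ∈ U ↔ z ∈ Z ∧ z ^ 2 = 1 := fun z => Iff.rfl
  have hUZ : U ≤ Z := fun z hz => ((hUmem z).1 hz).1
  have hUcard : Nat.card U ≤ 4 := by
    have hfin : (U : Set X).Finite := Set.toFinite _
    have := h.card_le_four (hZQ.trans hQP) hZc hfin.toFinset (by
      intro s hs
      rw [Set.Finite.mem_toFinset] at hs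
      exact (hUmem s).1 hs)
    rw [← Set.ncard_eq_toFinset_card (U : Set X) hfin] at this
    rwa [← Nat.card_coe_set_eq] at this
  -- there is an involution of `Q` outside `Z`
  have hex : ∃ t ∈ Q, t ^ 2 = 1 ∧ t ∉ Z := by
    by_contra hall
    push Not at hall
    set Uq : Subgroup ↥Q := U.subgroupOf Q with hUq
    have key := Cfsg.Agent.Lib.Helper2.index_le_card_sq_of_central_sq (G := ↥Q) Uq
      (fun t ht => hZqc (Subgroup.mem_subgroupOf.2 (hUZ (Subgroup.mem_subgroupOf.1 ht))))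
      (by
        intro t ht
        apply Subtype.ext
        rw [Subgroup.coe_pow, Subgroup.coe_one]
        exact ((hUmem _).1 (Subgroup.mem_subgroupOf.1 ht)).2)
      (by
        intro q
        rw [hUq, Subgroup.mem_subgroupOf, Subgroup.coe_pow, hUmem]
        refine ⟨hsqZ _ q.2, ?_⟩
        rw [← pow_mul]
        exact h4 _ q.2)
      Zq (by
        intro y hy
        rw [hZq, Subgroup.mem_subgroupOf]
        apply hall _ y.2
        have := congrArg Subtype.val hy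
        simpa using this)
    have hcardUq : Nat.card Uq = Nat.card U :=
      Nat.card_congr (Subgroup.subgroupOfEquivOfLe (hUZ.trans hZQ)).toEquiv
    rw [hcardUq] at key
    have hr16 : Z.relIndex Q ≤ 16 := by
      have : Z.relIndex Q ≤ Nat.card U ^ 2 := key
      have h2 : Nat.card U ^ 2 ≤ 4 ^ 2 := Nat.pow_le_pow_left hUcard 2
      omega
    -- orbit counting
    have h9 := nine_dvd_ncard hd ((Q : Set X) \ (Z : Set X)) (by
      intro a ha s hs
      have haQ : a ∈ Subgroup.normalizer (Q : Set X) :=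
        (Subgroup.zpowers_le.2 hQd) ha
      have haZ : a ∈ Subgroup.normalizer (Z : Set X) :=
        (Subgroup.zpowers_le.2 hZd) ha
      refine ⟨(Subgroup.mem_normalizer_iff.1 haQ s).1 hs.1, fun hc => hs.2 ?_⟩
      exact (Subgroup.mem_normalizer_iff.1 haZ s).2 hc) (by
      intro s hs hfix
      apply hs.2
      apply hCx
      refine Subgroup.mem_inf.2 ⟨hs.1, ?_⟩
      rw [Subgroup.mem_centralizer_singleton_iff]
      calc s * x = (x * s * x⁻¹) * x := by rw [hfix]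
        _ = x * s := by group)
    rw [Set.ncard_diff (SetLike.coe_subset_coe.2 hZQ) (Set.toFinite _)] at h9
    have hcQ : (Q : Set X).ncard = Nat.card Q := (Nat.card_coe_set_eq _).symm
    have hcZ : (Z : Set X).ncard = Nat.card Z := (Nat.card_coe_set_eq _).symm
    rw [hcQ, hcZ] at h9
    have hrel := Subgroup.relIndex_mul_relIndex (⊥ : Subgroup X) Z Q bot_le hZQ
    rw [Subgroup.relIndex_bot_left, Subgroup.relIndex_bot_left] at hrel
    obtain ⟨j, hj⟩ := IsPGroup.iff_card.1 (hQ2.to_le hZQ)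
    obtain ⟨mq, hmq⟩ := IsPGroup.iff_card.1 hQ2
    set r := Z.relIndex Q with hr
    have hrdvd : r ∣ 2 ^ mq := by rw [← hmq, ← hrel]; exact dvd_mul_left r _
    obtain ⟨i, -, hi⟩ := (Nat.dvd_prime_pow Nat.prime_two).1 hrdvd
    have hrne : r ≠ 1 := by
      intro hr1
      rw [hr, Subgroup.relIndex_eq_one] at hr1
      exact hZne (le_antisymm hZQ hr1)
    have h9' : 9 ∣ 2 ^ j * (r - 1) := by
      have : Nat.card Q - Nat.card Z = 2 ^ j * (r - 1) := by
        rw [← hrel, hj, Nat.mul_sub, mul_one]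
      rwa [this] at h9
    have hcop : Nat.Coprime 9 (2 ^ j) := by
      apply Nat.Coprime.pow_right
      norm_num
    have h9'' : 9 ∣ r - 1 := hcop.dvd_of_dvd_mul_left h9'
    exact arith_aux r i hi hr16 hrne h9''
  obtain ⟨t, htQ, ht2, htZ⟩ := hex
  -- (M8)
  have hexg : ∃ g0 ∈ Q, g0 ^ 2 ≠ 1 := by
    by_contra hcon
    push Not at hcon
    apply hZne
    apply le_antisymm hZQ
    intro a ha
    refine Subgroup.mem_inf.2 ⟨ha, ?_⟩
    rw [Subgroup.mem_centralizer_iff]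
    intro b hb
    have := Cfsg.Agent.Lib.Helper2.comm_of_sq_eq_one (V := ↥Q) (fun v => by
      apply Subtype.ext
      rw [Subgroup.coe_pow, Subgroup.coe_one]
      exact hcon _ v.2) ⟨b, hb⟩ ⟨a, ha⟩
    exact congrArg Subtype.val this
  obtain ⟨g0, hg0Q, hg0⟩ := hexg
  set a := g0 ^ 2 with ha
  have haZ : a ∈ Z := hsqZ g0 hg0Q
  have ha2 : a ^ 2 = 1 := by rw [ha, ← pow_mul]; exact h4 g0 hg0Q
  have ha1 : a ≠ 1 := hg0
  set b := d * a * d⁻¹ with hb
  have hbZ : b ∈ Z := (Subgroup.mem_normalizer_iff.1 hZd a).1 haZ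
  have hb2 : b ^ 2 = 1 := by
    have : b ^ 2 = d * a ^ 2 * d⁻¹ := by rw [hb, pow_two, pow_two]; group
    rw [this, ha2]; group
  have hba : b ≠ a := h.conj_ne (hQP (hZQ haZ)) ha1
  have hb1 : b ≠ 1 := by
    intro hb1
    apply ha1
    have : a = d⁻¹ * b * d := by rw [hb]; group
    rw [this, hb1]; group
  have hta : t * a = a * t := (hZcomm a haZ t htQ).symm
  -- the abelian subgroup `⟨t⟩ Z`
  have hwc' : ∀ u ∈ Subgroup.zpowers t, ∀ z ∈ Z, u * z = z * u := by
    rintro _ ⟨i, rfl⟩ z hz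
    have : Commute z t := hZcomm z hz t htQ
    exact (this.zpow_right i).eq.symm
  set V := Subgroup.zpowers t ⊔ Z with hV
  have hVdesc : ∀ v ∈ V, ∃ i : ℤ, ∃ z ∈ Z, v = t ^ i * z := by
    intro v hv
    obtain ⟨u, ⟨i, rfl⟩, z, hz, rfl⟩ := Cfsg.Agent.S4269.mem_sup_of_commute _ _ hwc' hv
    exact ⟨i, z, hz, rfl⟩
  have hVc : ∀ u ∈ V, ∀ v ∈ V, u * v = v * u := by
    intro u hu v hv
    obtain ⟨i, y, hy, rfl⟩ := hVdesc u hu
    obtain ⟨j, z, hz, rfl⟩ := hVdesc v hv
    have h1 : Commute (t ^ i) (t ^ j) := (Commute.refl t).zpow_zpow i j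
    have h2 : Commute (t ^ i) z := hwc' _ ⟨i, rfl⟩ z hz
    have h3 : Commute y (t ^ j) := (hwc' _ ⟨j, rfl⟩ y hy).symm
    have h4 : Commute y z := hZc y hy z hz
    exact ((h1.mul_right h2).mul_left (h3.mul_right h4)).eq
  have hVP : V ≤ P := by
    apply sup_le
    · rw [Subgroup.zpowers_le]; exact hQP htQ
    · exact hZQ.trans hQP
  have htV : t ∈ V := (le_sup_left : Subgroup.zpowers t ≤ V) (Subgroup.mem_zpowers t)
  have hZV : Z ≤ V := le_sup_right
  have hcard := h.card_le_four hVP hVc ([1, a, b, t, t * a].toFinset) (by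
    intro s hs
    simp only [List.toFinset_cons, List.toFinset_nil, insert_empty_eq, Finset.mem_insert,
      Finset.mem_singleton] at hs
    rcases hs with rfl | rfl | rfl | rfl | rfl
    · exact ⟨V.one_mem, one_pow 2⟩
    · exact ⟨hZV haZ, ha2⟩
    · exact ⟨hZV hbZ, hb2⟩
    · exact ⟨htV, ht2⟩
    · refine ⟨V.mul_mem htV (hZV haZ), ?_⟩
      rw [(show Commute t a from hta).mul_pow, ht2, ha2, one_mul])
  have ht1 : t ≠ 1 := fun h1 => htZ (by rw [h1]; exact Z.one_mem)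
  have hnd : ([1, a, b, t, t * a] : List X).Nodup := by
    simp only [List.nodup_cons, List.mem_cons, List.not_mem_nil, or_false, not_or,
      List.nodup_nil, and_true]
    refine ⟨⟨Ne.symm ha1, Ne.symm hb1, Ne.symm ht1, ?_⟩, ⟨Ne.symm hba, ?_, ?_⟩, ⟨?_, ?_⟩, ?_, not_false⟩
    · intro h1
      apply htZ
      have : t = a⁻¹ := by rw [eq_inv_iff_mul_eq_one]; exact h1.symm
      rw [this]; exact Z.inv_mem haZ
    · intro h1
      exact htZ (h1 ▸ haZ)
    · intro h1
      apply ht1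
      have : t * a = 1 * a := by rw [one_mul]; exact h1.symm
      exact mul_right_cancel this
    · intro h1
      exact htZ (h1 ▸ hbZ)
    · intro h1
      apply htZ
      have : t = b * a⁻¹ := by rw [eq_mul_inv_iff_mul_eq]; exact h1.symm
      rw [this]; exact Z.mul_mem hbZ (Z.inv_mem haZ)
    · intro h1
      apply ha1
      have : t * a = t * 1 := by rw [mul_one]; exact h1.symm
      exact mul_left_cancel this
  rw [List.toFinset_card_of_nodup hnd] at hcard
  simp at hcard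

/-- The statement: `d` has order 3. -/
theorem order_eq_three (d : X) (n : ℕ) (hn : 1 ≤ n) (hd : orderOf d = 3 ^ n) (P : Subgroup X)
    (hP : IsPGroup 2 P) (hdP : d ∈ Subgroup.normalizer (P : Set X))
    (hfaith : Subgroup.zpowers d ⊓ Subgroup.centralizer (P : Set X) = ⊥)
    (hfpf : P ⊓ Subgroup.centralizer {d} = ⊥)
    (hrank : ∀ V : Subgroup X, V ≤ P → IsMulCommutative V → Cfsg.PRankLE 2 2 V) :
    orderOf d = 3 := by
  have hodd : (orderOf d).Coprime 2 := by
    rw [hd]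
    apply Nat.Coprime.pow_left
    norm_num
  have h : Hyp d P := ⟨hodd, hP, hdP, hfpf, hrank⟩
  by_contra hne
  have hx1 : d ^ 3 ≠ 1 := by
    intro h1
    have h2 : orderOf d ∣ 3 := orderOf_dvd_of_pow_eq_one h1
    rw [hd] at h2 hne
    have h3 := Nat.le_of_dvd (by norm_num) h2
    have h4 : n ≤ 1 := by
      by_contra hlt
      push Not at hlt
      have : 3 ^ 2 ≤ 3 ^ n := Nat.pow_le_pow_right (by norm_num) hlt
      omega
    have : n = 1 := le_antisymm h4 hn
    rw [this, pow_one] at hne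
    exact hne rfl
  set x := d ^ 3 with hx
  have hxz : x ∈ Subgroup.zpowers d := Subgroup.pow_mem _ (Subgroup.mem_zpowers d) 3
  have hxP : x ∉ Subgroup.centralizer (P : Set X) := by
    intro hc
    apply hx1
    have : x ∈ Subgroup.zpowers d ⊓ Subgroup.centralizer (P : Set X) := Subgroup.mem_inf.2 ⟨hxz, hc⟩
    rw [hfaith, Subgroup.mem_bot] at this
    exact this
  let 𝒬 : Set (Subgroup X) :=
    {Q | Q ≤ P ∧ d ∈ Subgroup.normalizer (Q : Set X) ∧ x ∉ Subgroup.centralizer (Q : Set X)}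
  have hne𝒬 : 𝒬.Nonempty := ⟨P, le_rfl, hdP, hxP⟩
  obtain ⟨Q, hQmem, hQmin⟩ := WellFounded.has_min (wellFounded_lt (α := Subgroup X)) 𝒬 hne𝒬
  obtain ⟨hQP, hQd, hxQ⟩ := hQmem
  have hmin : ∀ B : Subgroup X, B ≤ Q → B ≠ Q → d ∈ Subgroup.normalizer (B : Set X) →
      x ∈ Subgroup.centralizer (B : Set X) := by
    intro B hBQ hBne hBd
    by_contra hxB
    exact hQmin B ⟨hBQ.trans hQP, hBd, hxB⟩ (lt_of_le_of_ne hBQ hBne)
  exact h.false_of_minQ hd hQP ⟨hQd, hxQ, hmin⟩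

end Cfsg.Agent.Lib.Helper3.FpfThree
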