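import Mathlib

set_option autoImplicit false

namespace Cfsg.Agent.Lib.Helper3.FrobCount

section
variable {Γ : Type*} [Group Γ] [Fintype Γ] [DecidableEq Γ]

/-- number of commuting pairs, as a sum of centralizer orders -/
theorem sum_card_commute :
    ∑ x : Γ, (Finset.univ.filter (fun y : Γ => y * x = x * y)).card =
      Nat.card (ConjClasses Γ) * Nat.card Γ := by
  classical
  rw [← card_comm_eq_card_conjClasses_mul_card, Nat.card_eq_fintype_card, Fintype.card_subtype,
    Finset.card_filter, Fintype.sum_prod_type]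
  apply Finset.sum_congr rfl
  intro x _
  rw [Finset.card_filter]
  apply Finset.sum_congr rfl
  intro y _
  have : Commute (x, y).1 (x, y).2 ↔ y * x = x * y := by
    simp only [Commute, SemiconjBy]
    exact eq_comm
  simp only [this]

end

section sub
variable {G : Type*} [Group G] [Fintype G] [DecidableEq G]

/-- commuting pairs of a subgroup, counted inside `G` -/
theorem sum_card_commute_subgroup (K : Subgroup G) [DecidablePred (· ∈ K)] :
    ∑ x ∈ Finset.univ.filter (fun x : G => x ∈ K),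
      (Finset.univ.filter (fun y : G => y ∈ K ∧ y * x = x * y)).card =
      Nat.card (ConjClasses K) * Nat.card K := by
  rw [← sum_card_commute (Γ := K)]
  rw [Finset.sum_subtype (p := fun x => x ∈ K) (Finset.univ.filter (fun x : G => x ∈ K)) (by simp)
    (fun x => (Finset.univ.filter (fun y : G => y ∈ K ∧ y * x = x * y)).card)]
  symm
  apply Finset.sum_congr rfl
  intro x _
  apply Finset.card_bij (fun (y : K) _ => (y : G))
  · intro y hy
    rw [Finset.mem_filter] at hy ⊢
    refine ⟨Finset.mem_univ _, y.2, ?_⟩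
    have := congrArg Subtype.val hy.2
    simpa using this
  · intro y _ y' _ h
    exact Subtype.ext h
  · intro y hy
    rw [Finset.mem_filter] at hy
    refine ⟨⟨y, hy.2.1⟩, ?_, rfl⟩
    rw [Finset.mem_filter]
    exact ⟨Finset.mem_univ _, Subtype.ext hy.2.2⟩

end sub

end Cfsg.Agent.Lib.Helper3.FrobCount

namespace Cfsg.Agent.Lib.Helper3.FrobCount

section main
variable {G : Type*} [Group G] [Fintype G] [DecidableEq G]

theorem frobenius_class_count (K H : Subgroup G) [hK : K.Normal] (hKH : K ⊓ H = ⊥)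
    (hKH' : K ⊔ H = ⊤) (hfpf : ∀ h ∈ H, h ≠ 1 → ∀ k ∈ K, h * k = k * h → k = 1) :
    Nat.card H * Nat.card (ConjClasses G) + 1 =
      Nat.card H * Nat.card (ConjClasses H) + Nat.card (ConjClasses K) := by
  classical
  -- basic facts
  have hF1 : ∀ g : G, ∃ k ∈ K, ∃ h ∈ H, g = k * h := by
    intro g
    have hg : g ∈ ((K ⊔ H : Subgroup G) : Set G) := by rw [hKH']; trivial
    rw [Subgroup.normal_mul] at hg
    obtain ⟨k, hk, h, hh, rfl⟩ := Set.mem_mul.1 hg
    exact ⟨k, hk, h, hh, rfl⟩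
  have hF2 : ∀ g : G, g ∈ K → g ∈ H → g = 1 := by
    intro g hgK hgH
    have : g ∈ K ⊓ H := ⟨hgK, hgH⟩
    rw [hKH, Subgroup.mem_bot] at this
    exact this
  have huniq : ∀ k ∈ K, ∀ h ∈ H, ∀ k' ∈ K, ∀ h' ∈ H, k * h = k' * h' → k = k' ∧ h = h' := by
    intro k hk h hh k' hk' h' hh' heq
    have h1 : k'⁻¹ * k = h' * h⁻¹ := by
      have : k = k' * h' * h⁻¹ := by rw [← heq]; group
      rw [this]; group
    have h2 : k'⁻¹ * k = 1 :=
      hF2 _ (K.mul_mem (K.inv_mem hk') hk) (h1 ▸ H.mul_mem hh' (H.inv_mem hh))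
    have h3 : k = k' := by
      have := inv_mul_eq_one.1 h2
      exact this.symm
    refine ⟨h3, ?_⟩
    rw [h3] at heq
    exact mul_left_cancel heq
  -- (F3)
  have hF3 : ∀ h ∈ H, h ≠ 1 → ∀ k₀ ∈ K, ∃ k ∈ K, k * h * k⁻¹ = k₀ * h := by
    intro h hh h1 k₀ hk₀
    let φ : K → K := fun k => ⟨(k : G) * h * (k : G)⁻¹ * h⁻¹, by
      have : (k : G) * h * (k : G)⁻¹ * h⁻¹ = (k : G) * (h * (k : G)⁻¹ * h⁻¹) := by group
      rw [this]
      exact K.mul_mem k.2 (hK.conj_mem _ (K.inv_mem k.2) h)⟩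
    have hinj : Function.Injective φ := by
      intro k k' hkk'
      have h2 : (k : G) * h * (k : G)⁻¹ * h⁻¹ = (k' : G) * h * (k' : G)⁻¹ * h⁻¹ :=
        congrArg Subtype.val hkk'
      have h3 : h * ((k' : G)⁻¹ * (k : G)) = ((k' : G)⁻¹ * (k : G)) * h := by
        have h4 : (k : G) * h * (k : G)⁻¹ = (k' : G) * h * (k' : G)⁻¹ := mul_right_cancel h2
        calc h * ((k' : G)⁻¹ * (k : G)) = (k' : G)⁻¹ * ((k' : G) * h * (k' : G)⁻¹) * k := by group
          _ = (k' : G)⁻¹ * ((k : G) * h * (k : G)⁻¹) * k := by rw [h4]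
          _ = ((k' : G)⁻¹ * (k : G)) * h := by group
      have h5 := hfpf h hh h1 _ (K.mul_mem (K.inv_mem k'.2) k.2) h3
      apply Subtype.ext
      have := inv_mul_eq_one.1 h5
      exact this.symm
    have hbij : Function.Bijective φ := hinj.bijective_of_finite
    obtain ⟨k, hk⟩ := hbij.2 ⟨k₀, hk₀⟩
    refine ⟨k, k.2, ?_⟩
    have h2 : (k : G) * h * (k : G)⁻¹ * h⁻¹ = k₀ := congrArg Subtype.val hk
    rw [← h2]; group
  -- (F4)
  have hF4 : ∀ x ∈ K, x ≠ 1 → ∀ y : G, y * x = x * y → y ∈ K := by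
    intro x hx hx1 y hy
    obtain ⟨k, hk, h, hh, rfl⟩ := hF1 y
    by_cases h1 : h = 1
    · subst h1; simpa using hk
    · exfalso
      obtain ⟨k₁, hk₁, hk₁h⟩ := hF3 h hh h1 k hk
      rw [← hk₁h] at hy
      -- h commutes with k₁⁻¹ x k₁
      have h2 : h * (k₁⁻¹ * x * k₁) = (k₁⁻¹ * x * k₁) * h := by
        calc h * (k₁⁻¹ * x * k₁) = k₁⁻¹ * ((k₁ * h * k₁⁻¹) * x) * k₁ := by group
          _ = k₁⁻¹ * (x * (k₁ * h * k₁⁻¹)) * k₁ := by rw [hy]
          _ = (k₁⁻¹ * x * k₁) * h := by group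
      have h3 : k₁⁻¹ * x * k₁ ∈ K := by
        have := hK.conj_mem x hx k₁⁻¹
        simpa using this
      have h4 := hfpf h hh h1 _ h3 h2
      apply hx1
      have : x = k₁ * (k₁⁻¹ * x * k₁) * k₁⁻¹ := by group
      rw [this, h4]; group
  -- (F5)
  have hF5 : ∀ h ∈ H, h ≠ 1 → ∀ y : G, y * h = h * y → y ∈ H := by
    intro h hh h1 y hy
    obtain ⟨k', hk', h', hh', rfl⟩ := hF1 y
    have h2 : k' * (h' * h) = (h * k' * h⁻¹) * (h * h') := by
      calc k' * (h' * h) = k' * h' * h := by group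
        _ = h * (k' * h') := hy
        _ = (h * k' * h⁻¹) * (h * h') := by group
    obtain ⟨h3, _⟩ := huniq k' hk' (h' * h) (H.mul_mem hh' hh) (h * k' * h⁻¹)
      (hK.conj_mem k' hk' h) (h * h') (H.mul_mem hh hh') h2
    have h4 : h * k' = k' * h := by
      calc h * k' = (h * k' * h⁻¹) * h := by group
        _ = k' * h := by rw [← h3]
    have h5 := hfpf h hh h1 k' hk' h4
    rw [h5, one_mul]
    exact hh'
  -- the count
  set c : G → ℕ := fun x => (Finset.univ.filter (fun y : G => y * x = x * y)).card with hc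
  set Kf : Finset G := Finset.univ.filter (fun x => x ∈ K) with hKf
  set Hf : Finset G := Finset.univ.filter (fun x => x ∈ H) with hHf
  have hmK : ∀ x, x ∈ Kf ↔ x ∈ K := fun x => by simp [hKf]
  have hmH : ∀ x, x ∈ Hf ↔ x ∈ H := fun x => by simp [hHf]
  have hcardK : Kf.card = Nat.card K := by
    rw [Nat.card_eq_fintype_card, Fintype.card_subtype]
  have hcardH : Hf.card = Nat.card H := by
    rw [Nat.card_eq_fintype_card, Fintype.card_subtype]
  have hcardG : Nat.card G = Kf.card * Hf.card := by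
    rw [Nat.card_eq_fintype_card, ← Finset.card_univ, ← Finset.card_product]
    symm
    apply Finset.card_bij (fun p _ => p.1 * p.2)
    · intro p _; exact Finset.mem_univ _
    · intro p hp q hq heq
      rw [Finset.mem_product, hmK, hmH] at hp hq
      obtain ⟨h1, h2⟩ := huniq _ hp.1 _ hp.2 _ hq.1 _ hq.2 heq
      exact Prod.ext h1 h2
    · intro g _
      obtain ⟨k, hk, h, hh, rfl⟩ := hF1 g
      exact ⟨(k, h), by rw [Finset.mem_product, hmK, hmH]; exact ⟨hk, hh⟩, rfl⟩
  have hG := sum_card_commute (Γ := G)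
  have hKK := sum_card_commute_subgroup K
  have hHH := sum_card_commute_subgroup H
  -- split the sum over G
  have hsplit : ∑ x : G, c x = ∑ x ∈ Kf, c x + ∑ x ∈ Kfᶜ, c x := by
    rw [Finset.sum_add_sum_compl]
  -- part inside K
  have hin : ∑ x ∈ Kf, c x + Kf.card = Nat.card (ConjClasses K) * Nat.card K + Nat.card G := by
    rw [← hKK]
    have h1K : (1 : G) ∈ Kf := by rw [hmK]; exact K.one_mem
    rw [← Finset.add_sum_erase _ _ h1K, ← Finset.add_sum_erase Kf
      (fun x => (Finset.univ.filter (fun y : G => y ∈ K ∧ y * x = x * y)).card) h1K]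
    have h2 : c 1 = Nat.card G := by
      simp only [hc, mul_one, one_mul, Finset.filter_true_of_mem (fun _ _ => trivial)]
      rw [Finset.card_univ, Nat.card_eq_fintype_card]
    have h3 : (Finset.univ.filter (fun y : G => y ∈ K ∧ y * 1 = 1 * y)).card = Kf.card := by
      congr 1
      ext y
      simp [hKf]
    have h4 : ∑ x ∈ Kf.erase 1, c x = ∑ x ∈ Kf.erase 1,
        (Finset.univ.filter (fun y : G => y ∈ K ∧ y * x = x * y)).card := by
      apply Finset.sum_congr rfl
      intro x hx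
      rw [Finset.mem_erase, hmK] at hx
      simp only [hc]
      congr 1
      ext y
      simp only [Finset.mem_filter, Finset.mem_univ, true_and]
      exact ⟨fun h => ⟨hF4 x hx.2 hx.1 y h, h⟩, fun h => h.2⟩
    rw [h2, h3, h4]
    ring
  -- part outside K
  have hout : ∑ x ∈ Kfᶜ, c x + Kf.card * Hf.card =
      Kf.card * (Nat.card (ConjClasses H) * Nat.card H) := by
    rw [← hHH]
    have h1H : (1 : G) ∈ Hf := by rw [hmH]; exact H.one_mem
    rw [← Finset.add_sum_erase Hf
      (fun x => (Finset.univ.filter (fun y : G => y ∈ H ∧ y * x = x * y)).card) h1H]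
    have h3 : (Finset.univ.filter (fun y : G => y ∈ H ∧ y * 1 = 1 * y)).card = Hf.card := by
      congr 1
      ext y
      simp [hHf]
    rw [h3]
    -- reindex
    have h5 : ∑ x ∈ Kfᶜ, c x = ∑ p ∈ Kf ×ˢ (Hf.erase 1), c p.2 := by
      symm
      apply Finset.sum_bij (fun p _ => p.1 * p.2 * p.1⁻¹)
      · intro p hp
        rw [Finset.mem_product, hmK, Finset.mem_erase, hmH] at hp
        rw [Finset.mem_compl, hmK]
        intro hmem
        apply hp.2.1
        have h6 : p.2 ∈ K := by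
          have := hK.conj_mem _ hmem p.1⁻¹
          have h7 : p.1⁻¹ * (p.1 * p.2 * p.1⁻¹) * p.1⁻¹⁻¹ = p.2 := by group
          rw [h7] at this
          exact this
        exact hF2 _ h6 hp.2.2
      · intro p hp q hq heq
        rw [Finset.mem_product, hmK, Finset.mem_erase, hmH] at hp hq
        -- p.1 p.2 p.1⁻¹ = (p.1 p.2 p.1⁻¹ p.2⁻¹) p.2
        have h6 : (p.1 * p.2 * p.1⁻¹ * p.2⁻¹) * p.2 = (q.1 * q.2 * q.1⁻¹ * q.2⁻¹) * q.2 := by
          calc (p.1 * p.2 * p.1⁻¹ * p.2⁻¹) * p.2 = p.1 * p.2 * p.1⁻¹ := by group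
            _ = q.1 * q.2 * q.1⁻¹ := heq
            _ = (q.1 * q.2 * q.1⁻¹ * q.2⁻¹) * q.2 := by group
        have hmemK : ∀ k ∈ K, ∀ h : G, k * h * k⁻¹ * h⁻¹ ∈ K := by
          intro k hk h
          have : k * h * k⁻¹ * h⁻¹ = k * (h * k⁻¹ * h⁻¹) := by group
          rw [this]
          exact K.mul_mem hk (hK.conj_mem _ (K.inv_mem hk) h)
        obtain ⟨_, h7⟩ := huniq _ (hmemK _ hp.1 _) _ hp.2.2 _ (hmemK _ hq.1 _) _ hq.2.2 h6
        -- now p.2 = q.2, so q.1⁻¹ p.1 commutes with p.2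
        have h8 : p.2 * (q.1⁻¹ * p.1) = (q.1⁻¹ * p.1) * p.2 := by
          rw [← h7] at heq
          calc p.2 * (q.1⁻¹ * p.1) = q.1⁻¹ * (q.1 * p.2 * q.1⁻¹) * p.1 := by group
            _ = q.1⁻¹ * (p.1 * p.2 * p.1⁻¹) * p.1 := by rw [heq]
            _ = (q.1⁻¹ * p.1) * p.2 := by group
        have h9 := hfpf _ hp.2.2 hp.2.1 _ (K.mul_mem (K.inv_mem hq.1) hp.1) h8
        have h10 : p.1 = q.1 := by
          have := inv_mul_eq_one.1 h9
          exact this.symm
        exact Prod.ext h10 h7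
      · intro x hx
        rw [Finset.mem_compl, hmK] at hx
        obtain ⟨k, hk, h, hh, rfl⟩ := hF1 x
        have h1 : h ≠ 1 := by
          rintro rfl
          apply hx
          simpa using hk
        obtain ⟨k₁, hk₁, hk₁h⟩ := hF3 h hh h1 k hk
        refine ⟨(k₁, h), ?_, hk₁h⟩
        rw [Finset.mem_product, hmK, Finset.mem_erase, hmH]
        exact ⟨hk₁, h1, hh⟩
      · intro p _
        simp only [hc]
        apply Finset.card_bij (fun y _ => p.1 * y * p.1⁻¹)
        · intro y hy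
          rw [Finset.mem_filter] at hy ⊢
          refine ⟨Finset.mem_univ _, ?_⟩
          calc p.1 * y * p.1⁻¹ * (p.1 * p.2 * p.1⁻¹) = p.1 * (y * p.2) * p.1⁻¹ := by group
            _ = p.1 * (p.2 * y) * p.1⁻¹ := by rw [hy.2]
            _ = p.1 * p.2 * p.1⁻¹ * (p.1 * y * p.1⁻¹) := by group
        · intro y _ y' _ h
          have := mul_right_cancel h
          exact mul_left_cancel this
        · intro z hz
          rw [Finset.mem_filter] at hz
          refine ⟨p.1⁻¹ * z * p.1, ?_, by group⟩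
          rw [Finset.mem_filter]
          refine ⟨Finset.mem_univ _, ?_⟩
          calc p.1⁻¹ * z * p.1 * p.2 = p.1⁻¹ * (z * (p.1 * p.2 * p.1⁻¹)) * p.1 := by group
            _ = p.1⁻¹ * ((p.1 * p.2 * p.1⁻¹) * z) * p.1 := by rw [hz.2]
            _ = p.2 * (p.1⁻¹ * z * p.1) := by group
    have h6 : ∑ p ∈ Kf ×ˢ (Hf.erase 1), c p.2 = Kf.card * ∑ h ∈ Hf.erase 1, c h := by
      rw [Finset.sum_product]
      simp only [Finset.sum_const, smul_eq_mul]
    have h7 : ∑ h ∈ Hf.erase 1, c h = ∑ h ∈ Hf.erase 1,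
        (Finset.univ.filter (fun y : G => y ∈ H ∧ y * h = h * y)).card := by
      apply Finset.sum_congr rfl
      intro h hh
      rw [Finset.mem_erase, hmH] at hh
      simp only [hc]
      congr 1
      ext y
      simp only [Finset.mem_filter, Finset.mem_univ, true_and]
      exact ⟨fun hy => ⟨hF5 h hh.2 hh.1 y hy, hy⟩, fun hy => hy.2⟩
    rw [h5, h6, h7]
    ring
  -- combine
  rw [hsplit] at hG
  have hKpos : 0 < Kf.card := Finset.card_pos.2 ⟨1, by rw [hmK]; exact K.one_mem⟩
  have hfinal : Kf.card * (Nat.card H * Nat.card (ConjClasses G) + 1) =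
      Kf.card * (Nat.card H * Nat.card (ConjClasses H) + Nat.card (ConjClasses K)) := by
    rw [← hcardK, ← hcardH] at *
    rw [hcardG] at hG hin
    nlinarith
  exact Nat.eq_of_mul_eq_mul_left hKpos hfinal

end main

end Cfsg.Agent.Lib.Helper3.FrobCount
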