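import Mathlib
import Cfsg.Agent.Lib.Helper3.TT1

set_option autoImplicit false
set_option maxHeartbeats 4000000
set_option maxRecDepth 100000
set_option linter.unusedVariables false
set_option linter.unusedSectionVars false
set_option linter.style.haveILetI false
set_option linter.deprecated false

/-!
# Fischer's lemma on `O(⟨D_x⟩)`: general group-theoretic tools

* `O3in H`: the largest `3`-subgroup of `G` contained in and normalized by `H`;
* conjugation actions of a `3`-subgroup on finite sets (orbit sizes, fixed points mod 3);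
* word identities in `S₄`;
* the centralizer in `D` of a product `u u'` of order three.
-/

namespace Cfsg.Agent.Lib.Helper3.Fs

open Cfsg Cfsg.Agent.Lib.Helper3.TT

universe u

variable {G : Type u} [Group G]

/-! ### the `3`-core of a subgroup, computed in the ambient group -/

/-- the `3`-subgroups of `H` normalized by `H` -/
def O3fam (H : Subgroup G) : Set (Subgroup G) :=
  {N | N ≤ H ∧ (∀ h ∈ H, ∀ n ∈ N, h * n * h⁻¹ ∈ N) ∧ IsPGroup 3 N}

/-- the largest `3`-subgroup of `H` normalized by `H` -/
def O3in (H : Subgroup G) : Subgroup G := sSup (O3fam H)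

theorem bot_mem_O3fam (H : Subgroup G) : (⊥ : Subgroup G) ∈ O3fam H := by
  refine ⟨bot_le, ?_, IsPGroup.of_bot⟩
  intro h _ n hn
  rw [Subgroup.mem_bot] at hn ⊢
  rw [hn]; group

theorem le_normalizer_of_fam {H N : Subgroup G} (hN : N ∈ O3fam H) :
    H ≤ Subgroup.normalizer (N : Set G) := by
  intro g hg
  rw [Subgroup.mem_normalizer_iff]
  intro n
  constructor
  · intro hn
    exact hN.2.1 g hg n hn
  · intro hn
    have h2 := hN.2.1 g⁻¹ (H.inv_mem hg) _ hn
    have e : g⁻¹ * (g * n * g⁻¹) * g⁻¹⁻¹ = n := by group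
    rw [e] at h2
    exact h2

theorem sup_mem_O3fam {H M N : Subgroup G} (hM : M ∈ O3fam H) (hN : N ∈ O3fam H) :
    M ⊔ N ∈ O3fam H := by
  refine ⟨sup_le hM.1 hN.1, ?_, ?_⟩
  · intro h hh n hn
    have hmap : (M ⊔ N).map (MulAut.conj h).toMonoidHom ≤ M ⊔ N := by
      rw [Subgroup.map_sup]
      apply sup_le_sup
      · rintro _ ⟨m, hm, rfl⟩
        exact hM.2.1 h hh m hm
      · rintro _ ⟨m, hm, rfl⟩
        exact hN.2.1 h hh m hm
    exact hmap ⟨n, hn, rfl⟩
  · exact IsPGroup.to_sup_of_normal_right' hM.2.2 hN.2.2 ((hM.1).trans (le_normalizer_of_fam hN))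

theorem O3in_mem_fam [Finite G] (H : Subgroup G) : O3in H ∈ O3fam H := by
  classical
  have hfin : (O3fam H).Finite := Set.toFinite _
  have hne : hfin.toFinset.Nonempty := ⟨⊥, by
    rw [Set.Finite.mem_toFinset]; exact bot_mem_O3fam H⟩
  obtain ⟨M, hM, hmax⟩ := hfin.toFinset.exists_max_image (fun N : Subgroup G => Nat.card N) hne
  rw [Set.Finite.mem_toFinset] at hM
  have hle : ∀ N ∈ O3fam H, N ≤ M := by
    intro N hN
    have hs := sup_mem_O3fam hM hN
    have hc := hmax (M ⊔ N) (by rw [Set.Finite.mem_toFinset]; exact hs)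
    have he : M = M ⊔ N := Subgroup.eq_of_le_of_card_ge le_sup_left hc
    rw [he]
    exact le_sup_right
  have hEq : O3in H = M := le_antisymm (sSup_le hle) (le_sSup hM)
  rw [hEq]
  exact hM

theorem O3in_le [Finite G] (H : Subgroup G) : O3in H ≤ H := (O3in_mem_fam H).1

theorem O3in_conj_mem [Finite G] (H : Subgroup G) {h n : G} (hh : h ∈ H) (hn : n ∈ O3in H) :
    h * n * h⁻¹ ∈ O3in H := (O3in_mem_fam H).2.1 h hh n hn

theorem O3in_isPGroup [Finite G] (H : Subgroup G) : IsPGroup 3 (O3in H) := (O3in_mem_fam H).2.2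

theorem le_O3in {H N : Subgroup G} (hN : N ∈ O3fam H) : N ≤ O3in H := le_sSup hN

/-- conjugation carries the family of `H` to the family of the conjugate -/
theorem O3in_conj_le [Finite G] {H H' : Subgroup G} (g : G)
    (h1 : ∀ a ∈ H, g * a * g⁻¹ ∈ H') (h2 : ∀ a ∈ H', g⁻¹ * a * g ∈ H) :
    ∀ n ∈ O3in H, g * n * g⁻¹ ∈ O3in H' := by
  intro n hn
  have hfam : (O3in H).map (MulAut.conj g).toMonoidHom ∈ O3fam H' := by
    refine ⟨?_, ?_, ?_⟩
    · rintro _ ⟨m, hm, rfl⟩
      exact h1 m (O3in_le H hm)
    · rintro h hh _ ⟨m, hm, rfl⟩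
      refine ⟨(g⁻¹ * h * g) * m * (g⁻¹ * h * g)⁻¹, O3in_conj_mem H (h2 h hh) hm, ?_⟩
      show g * ((g⁻¹ * h * g) * m * (g⁻¹ * h * g)⁻¹) * g⁻¹ = h * (g * m * g⁻¹) * h⁻¹
      group
    · exact (O3in_isPGroup H).map _
  exact le_O3in hfam ⟨n, hn, rfl⟩

/-! ### conjugation action of a `3`-subgroup -/

/-- the conjugation action of a subgroup on an invariant subset -/
def conjAct (P : Subgroup G) (Y : Set G) (hY : ∀ p ∈ P, ∀ a ∈ Y, p * a * p⁻¹ ∈ Y) :
    MulAction ↥P ↥Y where
  smul p a := ⟨(p : G) * (a : G) * (p : G)⁻¹, hY p p.2 a a.2⟩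
  one_smul a := by
    apply Subtype.ext
    show ((1 : ↥P) : G) * (a : G) * ((1 : ↥P) : G)⁻¹ = a
    simp
  mul_smul p q a := by
    apply Subtype.ext
    show ((p * q : ↥P) : G) * (a : G) * ((p * q : ↥P) : G)⁻¹
      = (p : G) * ((q : G) * (a : G) * (q : G)⁻¹) * (p : G)⁻¹
    rw [Subgroup.coe_mul]
    group

theorem card_mod_three [Finite G] (P : Subgroup G) (hP : IsPGroup 3 P) (Y : Set G)
    (hY : ∀ p ∈ P, ∀ a ∈ Y, p * a * p⁻¹ ∈ Y) :
    Y.ncard ≡ {a | a ∈ Y ∧ ∀ p ∈ P, p * a * p⁻¹ = a}.ncard [MOD 3] := by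
  classical
  letI : MulAction ↥P ↥Y := conjAct P Y hY
  haveI : Fact (Nat.Prime 3) := ⟨by norm_num⟩
  have h1 := hP.card_modEq_card_fixedPoints (↥Y)
  rw [Nat.card_coe_set_eq] at h1
  have h2 : Nat.card ↥(MulAction.fixedPoints ↥P ↥Y)
      = {a | a ∈ Y ∧ ∀ p ∈ P, p * a * p⁻¹ = a}.ncard := by
    rw [← Nat.card_coe_set_eq]
    apply Nat.card_congr
    refine ⟨fun a => ⟨(a.1 : G), a.1.2, fun p hp => ?_⟩, fun a => ⟨⟨a.1, a.2.1⟩, fun p => ?_⟩,
      fun a => rfl, fun a => rfl⟩
    · have := a.2 ⟨p, hp⟩
      exact congrArg Subtype.val this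
    · apply Subtype.ext
      exact a.2.2 p p.2
  rw [h2] at h1
  exact h1

/-- an invariant set without fixed points has size divisible by three -/
theorem three_dvd_of_no_fixed [Finite G] (P : Subgroup G) (hP : IsPGroup 3 P) (Y : Set G)
    (hY : ∀ p ∈ P, ∀ a ∈ Y, p * a * p⁻¹ ∈ Y)
    (hfix : ∀ a ∈ Y, ∃ p ∈ P, p * a * p⁻¹ ≠ a) : 3 ∣ Y.ncard := by
  have h := card_mod_three P hP Y hY
  have he : {a | a ∈ Y ∧ ∀ p ∈ P, p * a * p⁻¹ = a} = (∅ : Set G) := by
    ext a
    simp only [Set.mem_setOf_eq, Set.mem_empty_iff_false, iff_false, not_and]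
    intro ha hall
    obtain ⟨p, hp, hne⟩ := hfix a ha
    exact hne (hall p hp)
  rw [he, Set.ncard_empty] at h
  exact (Nat.modEq_zero_iff_dvd).mp h

/-- orbits of a `3`-group under conjugation have `3`-power size -/
theorem card_conj_orbit [Finite G] (P : Subgroup G) (hP : IsPGroup 3 P) (x₀ : G) :
    ∃ j : ℕ, {a | ∃ p ∈ P, a = p * x₀ * p⁻¹}.ncard = 3 ^ j := by
  classical
  letI : MulAction ↥P G := MulAction.compHom G ((MulAut.conj : G →* MulAut G).comp P.subtype)
  haveI : Fact (Nat.Prime 3) := ⟨by norm_num⟩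
  obtain ⟨j, hj⟩ := hP.card_orbit (α := G) x₀
  refine ⟨j, ?_⟩
  rw [← hj, ← Nat.card_coe_set_eq]
  apply Nat.card_congr
  apply Equiv.setCongr
  ext a
  constructor
  · rintro ⟨p, hp, rfl⟩
    exact ⟨⟨p, hp⟩, rfl⟩
  · rintro ⟨p, rfl⟩
    exact ⟨p.1, p.2, rfl⟩

/-! ### word identities -/

theorem word_I1 {a b c : G} (ha : a * a = 1) (hb : b * b = 1) (hc : c * c = 1)
    (hac : a * c = c * a) (hab : a * b * a = b * a * b) (hcb : c * b * c = b * c * b) :
    b * (a * c * b * c * a) = (a * c * b * c * a) * b := by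
  calc b * (a * c * b * c * a) = b * a * (c * b * c) * a := by group
    _ = b * a * (b * c * b) * a := by rw [hcb]
    _ = (b * a * b) * c * b * a := by group
    _ = (a * b * a) * c * b * a := by rw [hab]
    _ = a * b * (a * c) * b * a := by group
    _ = a * b * (c * a) * b * a := by rw [hac]
    _ = a * b * c * (a * b * a) := by group
    _ = a * b * c * (b * a * b) := by rw [hab]
    _ = a * (b * c * b) * a * b := by group
    _ = a * (c * b * c) * a * b := by rw [hcb]
    _ = (a * c * b * c * a) * b := by group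

theorem word_sq {a b c : G} (ha : a * a = 1) (hb : b * b = 1) (hc : c * c = 1) :
    (a * c * b * c * a) * (a * c * b * c * a) = 1 := by
  calc (a * c * b * c * a) * (a * c * b * c * a) = a * c * b * c * (a * a) * c * b * c * a := by
        group
    _ = a * c * b * (c * c) * b * c * a := by rw [ha]; group
    _ = a * c * (b * b) * c * a := by rw [hc]; group
    _ = a * (c * c) * a := by rw [hb]; group
    _ = 1 := by rw [hc, mul_one, ha]

theorem word_I2 {a b c : G} (ha : a * a = 1) (hb : b * b = 1) (hc : c * c = 1)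
    (hac : a * c = c * a) (hab : a * b * a = b * a * b) (hcb : c * b * c = b * c * b) :
    b * (a * c * b * c * a) * a * (a * c * b * c * a) * b = c := by
  have hcac : c * a * c = a := by
    calc c * a * c = (a * c) * c := by rw [hac]
      _ = a * (c * c) := by group
      _ = a := by rw [hc, mul_one]
  have haca : a * c * a = c := by
    calc a * c * a = (c * a) * a := by rw [hac]
      _ = c * (a * a) := by group
      _ = c := by rw [ha, mul_one]
  have h1 : (a * c * b * c * a) * a * (a * c * b * c * a) = c * b * c := by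
    calc (a * c * b * c * a) * a * (a * c * b * c * a)
        = a * c * b * c * (a * a) * a * c * b * c * a := by group
      _ = a * c * b * (c * a * c) * b * c * a := by rw [ha]; group
      _ = a * c * (b * a * b) * c * a := by rw [hcac]; group
      _ = a * c * (a * b * a) * c * a := by rw [hab]
      _ = (a * c * a) * b * (a * c * a) := by group
      _ = c * b * c := by rw [haca]
  calc b * (a * c * b * c * a) * a * (a * c * b * c * a) * b
      = b * ((a * c * b * c * a) * a * (a * c * b * c * a)) * b := by group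
    _ = b * (c * b * c) * b := by rw [h1]
    _ = b * (b * c * b) * b := by rw [hcb]
    _ = (b * b) * c * (b * b) := by group
    _ = c := by rw [hb, one_mul, mul_one]

theorem cube_pn {p n m : G} (hp : p * p * p = 1) (hnm : n * m = 1) (hnp : n * p = p * m) :
    (p * n) * (p * n) * (p * n) = n := by
  have hmn : m * n = 1 := by
    have : m = n⁻¹ := (eq_inv_of_mul_eq_one_right hnm)
    rw [this, inv_mul_cancel]
  calc (p * n) * (p * n) * (p * n) = p * (n * p) * n * p * n := by group
    _ = p * (p * m) * n * p * n := by rw [hnp]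
    _ = p * p * (m * n) * p * n := by group
    _ = (p * p * p) * n := by rw [hmn]; group
    _ = n := by rw [hp, one_mul]

/-! ### the centralizer in `D` of a product of order three -/

variable {D : Set G}

theorem cent_prod (h : TSet D) {u u' d : G} (hu : u ∈ D) (hu' : u' ∈ D) (hd : d ∈ D)
    (hnc : u * u' ≠ u' * u) (hcomm : d * (u * u') = (u * u') * d) :
    d * u = u * d ∧ d * u' = u' * d := by
  have su := h.sq u hu
  have su' := h.sq u' hu'
  have sd := h.sq d hd
  by_cases hdu : d * u = u * d
  · refine ⟨hdu, ?_⟩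
    have e1 : u * (d * u') = u * (u' * d) := by
      calc u * (d * u') = (u * d) * u' := by group
        _ = (d * u) * u' := by rw [hdu]
        _ = d * (u * u') := by group
        _ = (u * u') * d := hcomm
        _ = u * (u' * d) := by group
    exact mul_left_cancel e1
  · exfalso
    have hp : (d * u) * (d * u) * (d * u) = 1 := by
      have := h.cube hd hu hdu
      rw [pow_succ, pow_two] at this
      exact this
    have hnm : (u * u') * (u' * u) = 1 := by
      calc (u * u') * (u' * u) = u * (u' * u') * u := by group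
        _ = 1 := by rw [su', mul_one, su]
    have hnp : (u * u') * (d * u) = (d * u) * (u' * u) := by
      calc (u * u') * (d * u) = ((u * u') * d) * u := by group
        _ = (d * (u * u')) * u := by rw [hcomm]
        _ = (d * u) * (u' * u) := by group
    have hc := cube_pn hp hnm hnp
    have hdu'eq : (d * u) * (u * u') = d * u' := by
      calc (d * u) * (u * u') = d * (u * u) * u' := by group
        _ = d * u' := by rw [su, mul_one]
    rw [hdu'eq] at hc
    by_cases hdu' : d * u' = u' * d
    · -- then d commutes with u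
      apply hdu
      have e2 : u = (u * u') * u' := by
        calc u = u * (u' * u') := by rw [su', mul_one]
          _ = (u * u') * u' := by group
      calc d * u = d * ((u * u') * u') := by rw [← e2]
        _ = (d * (u * u')) * u' := by group
        _ = ((u * u') * d) * u' := by rw [hcomm]
        _ = (u * u') * (d * u') := by group
        _ = (u * u') * (u' * d) := by rw [hdu']
        _ = ((u * u') * u') * d := by group
        _ = u * d := by rw [← e2]
    · have h3 := h.cube hd hu' hdu'
      rw [pow_succ, pow_two, hc] at h3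
      -- u * u' = 1, so u = u'
      apply hnc
      have : u = u' := by
        have := eq_inv_of_mul_eq_one_left h3
        rw [h.inv hu'] at this
        exact this
      rw [this]

end Cfsg.Agent.Lib.Helper3.Fs
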