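import Mathlib
import Cfsg.Agent.Lib.Helper3.Fs1
import Cfsg.Agent.Lib.Helper1.PCore
import Cfsg.Agent.S5560

set_option autoImplicit false
set_option maxHeartbeats 4000000
set_option maxRecDepth 100000
set_option linter.unusedVariables false
set_option linter.unusedSectionVars false
set_option linter.style.haveILetI false
set_option linter.deprecated false

/-!
# Fischer's lemma on `O(⟨D_x⟩)`: sets of pairwise non-commuting `3`-transpositions

A set of pairwise non-commuting `3`-transpositions closed under `a, b ↦ a b a` has `3`-power size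
(a consequence of the `Z*`-type statement S5560).
-/

namespace Cfsg.Agent.Lib.Helper3.Fs

open Cfsg Cfsg.Agent.Lib.Helper3.TT

universe u

variable {G : Type u} [Group G]

/-- S5560 inside a subgroup `K` of `G` -/
theorem prodcore [Finite G] (K : Subgroup G) {y : G} (hy : y ∈ K) (hyy : y * y = 1) (hy1 : y ≠ 1)
    (hcube : ∀ k₁ ∈ K, ∀ k₂ ∈ K, ((k₁ * y * k₁⁻¹) * (k₂ * y * k₂⁻¹)) ^ 3 = 1) :
    ∃ P : Subgroup G, P ≤ K ∧ (∀ k ∈ K, ∀ n ∈ P, k * n * k⁻¹ ∈ P) ∧ IsPGroup 3 P ∧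
      ∀ k₁ ∈ K, ∀ k₂ ∈ K, (k₁ * y * k₁⁻¹) * (k₂ * y * k₂⁻¹) ∈ P := by
  classical
  haveI : Fact (Nat.Prime 3) := ⟨by norm_num⟩
  haveI : Fact (Nat.Prime 2) := ⟨by norm_num⟩
  set d : ↥K := ⟨y, hy⟩ with hd
  have hd2 : orderOf d = 2 := by
    apply orderOf_eq_prime
    · rw [pow_two]; exact Subtype.ext hyy
    · intro h; exact hy1 (congrArg Subtype.val h)
  have hconj : ∀ a ∈ conjugatesOf d, ∃ c : ↥K, a = c * d * c⁻¹ := by
    intro a ha
    have ha' : IsConj d a := ha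
    rw [isConj_iff] at ha'
    obtain ⟨c, hc⟩ := ha'
    exact ⟨c, hc.symm⟩
  have hprod : ∀ a ∈ conjugatesOf d, ∀ b ∈ conjugatesOf d,
      ∃ k : ℕ, orderOf (a * b) = 3 ^ k := by
    intro a ha b hb
    obtain ⟨c₁, rfl⟩ := hconj a ha
    obtain ⟨c₂, rfl⟩ := hconj b hb
    have h3 : (c₁ * d * c₁⁻¹ * (c₂ * d * c₂⁻¹)) ^ 3 = 1 := by
      apply Subtype.ext
      have := hcube c₁ c₁.2 c₂ c₂.2
      simpa using this
    have hdvd := orderOf_dvd_of_pow_eq_one h3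
    rcases (Nat.dvd_prime (by norm_num : Nat.Prime 3)).mp hdvd with h | h
    · exact ⟨0, by rw [h, pow_zero]⟩
    · exact ⟨1, by rw [h, pow_one]⟩
  have hres := Cfsg.Agent.S5560.result (p := 3) (by norm_num) (by norm_num) d hd2 hprod
  have hnorm : (Cfsg.pCore 3 ↥K).Normal := Cfsg.Agent.Lib.Helper1.pCore_normal (G := ↥K) 3
  refine ⟨(Cfsg.pCore 3 ↥K).map K.subtype, Subgroup.map_subtype_le _, ?_, ?_, ?_⟩
  · rintro k hk _ ⟨m, hm, rfl⟩
    exact ⟨⟨k, hk⟩ * m * ⟨k, hk⟩⁻¹, hnorm.conj_mem m hm ⟨k, hk⟩, rfl⟩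
  · exact (Cfsg.Agent.Lib.Helper1.pCore_isPGroup (G := ↥K) 3).map _
  · intro k₁ hk₁ k₂ hk₂
    have h1 : (⟨k₁, hk₁⟩ : ↥K) * d * (⟨k₁, hk₁⟩ : ↥K)⁻¹ ∈ conjugatesOf d := by
      show IsConj d _
      exact isConj_iff.mpr ⟨_, rfl⟩
    have h2 : (⟨k₂, hk₂⟩ : ↥K) * d * (⟨k₂, hk₂⟩ : ↥K)⁻¹ ∈ conjugatesOf d := by
      show IsConj d _
      exact isConj_iff.mpr ⟨_, rfl⟩
    exact ⟨_, hres _ h1 _ h2, rfl⟩

variable {D : Set G}

/-- a non-empty set of pairwise non-commuting `3`-transpositions, closed under `a, b ↦ a b a`,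
has `3`-power size -/
theorem hts_card [Finite G] (h : TSet D) {X : Set G} (hXD : X ⊆ D)
    (hnc : ∀ a ∈ X, ∀ b ∈ X, a * b = b * a → a = b)
    (hline : ∀ a ∈ X, ∀ b ∈ X, a * b * a ∈ X) (hne : X.Nonempty) :
    ∃ j : ℕ, X.ncard = 3 ^ j := by
  classical
  obtain ⟨x₀, hx₀⟩ := hne
  set K : Subgroup G := Subgroup.closure X with hK
  have hinv : ∀ a ∈ X, a⁻¹ = a := fun a ha => h.inv (hXD ha)
  -- `X` is invariant under conjugation by `K`
  have hKX2 : ∀ k ∈ K, (∀ a ∈ X, k * a * k⁻¹ ∈ X) ∧ (∀ a ∈ X, k⁻¹ * a * k ∈ X) := by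
    intro k hk
    induction hk using Subgroup.closure_induction with
    | mem b hb =>
      constructor
      · intro a ha
        rw [hinv b hb]
        exact hline b hb a ha
      · intro a ha
        rw [hinv b hb]
        exact hline b hb a ha
    | one =>
      constructor
      · intro a ha
        simpa using ha
      · intro a ha
        simpa using ha
    | mul k₁ k₂ _ _ ih₁ ih₂ =>
      constructor
      · intro a ha
        have := ih₁.1 _ (ih₂.1 a ha)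
        have e : k₁ * k₂ * a * (k₁ * k₂)⁻¹ = k₁ * (k₂ * a * k₂⁻¹) * k₁⁻¹ := by group
        rw [e]; exact this
      · intro a ha
        have := ih₂.2 _ (ih₁.2 a ha)
        have e : (k₁ * k₂)⁻¹ * a * (k₁ * k₂) = k₂⁻¹ * (k₁⁻¹ * a * k₁) * k₂ := by group
        rw [e]; exact this
    | inv k₁ _ ih =>
      constructor
      · intro a ha
        have := ih.2 a ha
        rw [inv_inv]; exact this
      · intro a ha
        have := ih.1 a ha
        rw [inv_inv]; exact this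
  have hKX : ∀ k ∈ K, ∀ a ∈ X, k * a * k⁻¹ ∈ X := fun k hk => (hKX2 k hk).1
  have hx₀K : x₀ ∈ K := Subgroup.subset_closure hx₀
  have hcube : ∀ k₁ ∈ K, ∀ k₂ ∈ K, ((k₁ * x₀ * k₁⁻¹) * (k₂ * x₀ * k₂⁻¹)) ^ 3 = 1 := by
    intro k₁ hk₁ k₂ hk₂
    have ha := hKX k₁ hk₁ x₀ hx₀
    have hb := hKX k₂ hk₂ x₀ hx₀
    by_cases hc : (k₁ * x₀ * k₁⁻¹) * (k₂ * x₀ * k₂⁻¹) = (k₂ * x₀ * k₂⁻¹) * (k₁ * x₀ * k₁⁻¹)
    · have := hnc _ ha _ hb hc
      rw [← this, h.sq _ (hXD ha), one_pow]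
    · exact h.cube (hXD ha) (hXD hb) hc
  obtain ⟨P, hPK, hPn, hP3, hPprod⟩ :=
    prodcore K hx₀K (h.sq x₀ (hXD hx₀)) (h.ne_one x₀ (hXD hx₀)) hcube
  obtain ⟨j, hj⟩ := card_conj_orbit P hP3 x₀
  refine ⟨j, ?_⟩
  rw [← hj]
  congr 1
  ext a
  constructor
  · intro ha
    by_cases hax : x₀ * a = a * x₀
    · have := hnc x₀ hx₀ a ha hax
      exact ⟨1, P.one_mem, by rw [← this]; group⟩
    · have hconj := h.conj_eq (hXD hx₀) (hXD ha) hax
      -- `a = (x₀ a) x₀ (x₀ a)⁻¹` and `x₀ a ∈ P`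
      have hmem : x₀ * a ∈ P := by
        have haK : x₀ * a ∈ K := K.mul_mem hx₀K (Subgroup.subset_closure ha)
        have := hPprod 1 K.one_mem (x₀ * a) haK
        have e : (1 * x₀ * (1 : G)⁻¹) * ((x₀ * a) * x₀ * (x₀ * a)⁻¹) = x₀ * a := by
          rw [hconj]; group
        rw [e] at this
        exact this
      exact ⟨x₀ * a, hmem, hconj.symm⟩
  · rintro ⟨p, hp, rfl⟩
    exact hKX p (hPK hp) x₀ hx₀

end Cfsg.Agent.Lib.Helper3.Fs
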