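import Mathlib
import Cfsg.Agent.Lib.Helper3.Fs2

set_option autoImplicit false
set_option maxHeartbeats 4000000
set_option maxRecDepth 100000
set_option linter.unusedVariables false
set_option linter.unusedSectionVars false
set_option linter.style.haveILetI false
set_option linter.deprecated false

/-!
# Fischer's lemma on `O(⟨D_x⟩)`: the relation `u ~_d u'` and twins

`Dd D d` is the set of members of `D` other than `d` commuting with `d`, `Hd D d` the subgroup it
generates and `Fd D d` the `3`-core of `Hd D d`.  Two members `u, u'` of `Dd D d` are related when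
`u u' ∈ Fd D d`; related members are *twins*: they commute with the same members of `Dd D d`.
-/

namespace Cfsg.Agent.Lib.Helper3.Fs

open Cfsg Cfsg.Agent.Lib.Helper3.TT

universe u

variable {G : Type u} [Group G] {D : Set G}

/-- the members of `D` other than `d` commuting with `d` -/
def Dd (D : Set G) (d : G) : Set G := {y | y ∈ D ∧ y ≠ d ∧ Commute d y}

/-- the subgroup generated by `Dd D d` -/
def Hd (D : Set G) (d : G) : Subgroup G := Subgroup.closure (Dd D d)

/-- the `3`-core of `Hd D d` -/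
def Fd (D : Set G) (d : G) : Subgroup G := O3in (Hd D d)

theorem Dd_mem {d y : G} : y ∈ Dd D d ↔ y ∈ D ∧ y ≠ d ∧ d * y = y * d := Iff.rfl

theorem Dd_symm {d y : G} (hd : d ∈ D) (hy : y ∈ Dd D d) : d ∈ Dd D y :=
  ⟨hd, fun h => hy.2.1 h.symm, hy.2.2.symm⟩

theorem Dd_conj (h : TSet D) (g : G) {d y : G} (hy : y ∈ Dd D d) :
    g * y * g⁻¹ ∈ Dd D (g * d * g⁻¹) := by
  refine ⟨h.conj g y hy.1, ?_, ?_⟩
  · intro he
    exact hy.2.1 (mul_left_cancel (mul_right_cancel he))
  · show (g * d * g⁻¹) * (g * y * g⁻¹) = (g * y * g⁻¹) * (g * d * g⁻¹)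
    have e := hy.2.2.eq
    calc (g * d * g⁻¹) * (g * y * g⁻¹) = g * (d * y) * g⁻¹ := by group
      _ = g * (y * d) * g⁻¹ := by rw [e]
      _ = (g * y * g⁻¹) * (g * d * g⁻¹) := by group

theorem Dd_sub_Hd {d y : G} (hy : y ∈ Dd D d) : y ∈ Hd D d := Subgroup.subset_closure hy

theorem Hd_comm {d a : G} (ha : a ∈ Hd D d) : a * d = d * a := by
  have hle : Hd D d ≤ Subgroup.centralizer ({d} : Set G) := by
    apply (Subgroup.closure_le _).mpr
    intro y hy
    rw [SetLike.mem_coe, Subgroup.mem_centralizer_iff]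
    intro z hz
    rw [Set.mem_singleton_iff] at hz
    rw [hz]
    exact hy.2.2.eq
  have := hle ha
  rw [Subgroup.mem_centralizer_iff] at this
  exact (this d rfl).symm

theorem Hd_conj (h : TSet D) (g : G) {d a : G} (ha : a ∈ Hd D d) :
    g * a * g⁻¹ ∈ Hd D (g * d * g⁻¹) := by
  have hle : (Hd D d).map (MulAut.conj g).toMonoidHom ≤ Hd D (g * d * g⁻¹) := by
    unfold Hd
    rw [MonoidHom.map_closure]
    apply Subgroup.closure_mono
    rintro _ ⟨y, hy, rfl⟩
    exact Dd_conj h g hy
  exact hle ⟨a, ha, rfl⟩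

theorem Hd_conj' (h : TSet D) (g : G) {d a : G} (ha : a ∈ Hd D (g * d * g⁻¹)) :
    g⁻¹ * a * g ∈ Hd D d := by
  have := Hd_conj h g⁻¹ ha
  have e : g⁻¹ * (g * d * g⁻¹) * g⁻¹⁻¹ = d := by group
  rw [e, inv_inv] at this
  exact this

theorem Fd_le [Finite G] (d : G) : Fd D d ≤ Hd D d := O3in_le _

theorem Fd_normal [Finite G] {d a n : G} (ha : a ∈ Hd D d) (hn : n ∈ Fd D d) :
    a * n * a⁻¹ ∈ Fd D d := O3in_conj_mem _ ha hn

theorem Fd_isPGroup [Finite G] (d : G) : IsPGroup 3 (Fd D d) := O3in_isPGroup _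

theorem Fd_conj [Finite G] (h : TSet D) (g : G) {d n : G} (hn : n ∈ Fd D d) :
    g * n * g⁻¹ ∈ Fd D (g * d * g⁻¹) :=
  O3in_conj_le g (fun a ha => Hd_conj h g ha) (fun a ha => Hd_conj' h g ha) n hn

theorem Fd_conj' [Finite G] (h : TSet D) (g : G) {d n : G} (hn : n ∈ Fd D (g * d * g⁻¹)) :
    g⁻¹ * n * g ∈ Fd D d := by
  have := Fd_conj h g⁻¹ hn
  have e : g⁻¹ * (g * d * g⁻¹) * g⁻¹⁻¹ = d := by group
  rw [e, inv_inv] at this
  exact this

/-- a `3`-group has no involution -/
theorem eq_one_of_sq_of_isPGroup {P : Subgroup G} (hP : IsPGroup 3 P) {n : G} (hn : n ∈ P)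
    (h2 : n * n = 1) : n = 1 := by
  obtain ⟨k, hk⟩ := hP ⟨n, hn⟩
  have hk' : n ^ (3 ^ k) = 1 := by
    have := congrArg Subtype.val hk
    simpa using this
  have hodd : Odd (3 ^ k) := Odd.pow (by decide)
  obtain ⟨m, hm⟩ := hodd
  rw [hm, pow_succ, pow_mul, pow_two, h2, one_pow, one_mul] at hk'
  exact hk'

/-- the relation: `u u'` lies in the `3`-core -/
def tw (D : Set G) (d u u' : G) : Prop := u * u' ∈ Fd D d

theorem tw_refl (h : TSet D) (d : G) {u : G} (hu : u ∈ D) : tw D d u u := by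
  unfold tw
  rw [h.sq u hu]
  exact (Fd D d).one_mem

theorem tw_symm (h : TSet D) {d u u' : G} (hu : u ∈ D) (hu' : u' ∈ D) (ht : tw D d u u') :
    tw D d u' u := by
  unfold tw at ht ⊢
  have := (Fd D d).inv_mem ht
  rw [mul_inv_rev, h.inv hu, h.inv hu'] at this
  exact this

theorem tw_trans (h : TSet D) {d u u' u'' : G} (hu' : u' ∈ D) (h1 : tw D d u u')
    (h2 : tw D d u' u'') : tw D d u u'' := by
  unfold tw at h1 h2 ⊢
  have := (Fd D d).mul_mem h1 h2
  have e : u * u' * (u' * u'') = u * (u' * u') * u'' := by group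
  rw [e, h.sq u' hu', mul_one] at this
  exact this

theorem tw_conj [Finite G] (h : TSet D) (g : G) {d u u' : G} (ht : tw D d u u') :
    tw D (g * d * g⁻¹) (g * u * g⁻¹) (g * u' * g⁻¹) := by
  unfold tw at ht ⊢
  have := Fd_conj h g ht
  have e : g * u * g⁻¹ * (g * u' * g⁻¹) = g * (u * u') * g⁻¹ := by group
  rw [e]; exact this

theorem tw_conj_iff [Finite G] (h : TSet D) (g : G) {d u u' : G} :
    tw D (g * d * g⁻¹) (g * u * g⁻¹) (g * u' * g⁻¹) ↔ tw D d u u' := by
  constructor
  · intro ht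
    have := tw_conj h g⁻¹ ht
    have e1 : g⁻¹ * (g * d * g⁻¹) * g⁻¹⁻¹ = d := by group
    have e2 : g⁻¹ * (g * u * g⁻¹) * g⁻¹⁻¹ = u := by group
    have e3 : g⁻¹ * (g * u' * g⁻¹) * g⁻¹⁻¹ = u' := by group
    rw [e1, e2, e3] at this
    exact this
  · exact tw_conj h g

/-- related distinct members do not commute -/
theorem tw_ncomm [Finite G] (h : TSet D) {d u u' : G} (hu : u ∈ D) (hu' : u' ∈ D)
    (ht : tw D d u u') (hne : u ≠ u') : u * u' ≠ u' * u := by
  intro hc
  have h2 : (u * u') * (u * u') = 1 := by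
    calc (u * u') * (u * u') = u * (u' * u) * u' := by group
      _ = u * (u * u') * u' := by rw [hc]
      _ = (u * u) * (u' * u') := by group
      _ = 1 := by rw [h.sq u hu, h.sq u' hu', mul_one]
  have h1 := eq_one_of_sq_of_isPGroup (Fd_isPGroup (D := D) d) ht h2
  apply hne
  have := eq_inv_of_mul_eq_one_left h1
  rw [h.inv hu'] at this
  exact this

/-- **twins**: related members commute with the same members of `Dd D d` -/
theorem tw_twins [Finite G] (h : TSet D) {d u u' e : G} (hu : u ∈ Dd D d) (hu' : u' ∈ Dd D d)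
    (ht : tw D d u u') (he : e ∈ Dd D d) (heu : e ≠ u) (hc : e * u = u * e) :
    e * u' = u' * e ∧ e ≠ u' := by
  have su := h.sq u hu.1
  have su' := h.sq u' hu'.1
  have se := h.sq e he.1
  have hcomm : e * u' = u' * e := by
    by_contra hne
    have h3 := h.cube he.1 hu'.1 hne
    -- g = e u is an involution of `Hd`
    have hgH : e * u ∈ Hd D d := (Hd D d).mul_mem (Dd_sub_Hd he) (Dd_sub_Hd hu)
    have hgg : (e * u) * (e * u) = 1 := by
      calc (e * u) * (e * u) = e * (u * e) * u := by group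
        _ = e * (e * u) * u := by rw [hc]
        _ = (e * e) * (u * u) := by group
        _ = 1 := by rw [se, su, mul_one]
    have hginv : (e * u)⁻¹ = e * u := inv_eq_of_mul_eq_one_right hgg
    have heu' : e * u' = (e * u) * (u * u') := by
      calc e * u' = e * (u * u) * u' := by rw [su, mul_one]
        _ = (e * u) * (u * u') := by group
    have hsq : (e * u') * (e * u') ∈ Fd D d := by
      have h1 : (e * u) * (u * u') * (e * u)⁻¹ ∈ Fd D d := Fd_normal hgH ht
      have h2 := (Fd D d).mul_mem h1 ht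
      have e2 : (e * u) * (u * u') * (e * u)⁻¹ * (u * u') = (e * u') * (e * u') := by
        rw [hginv, heu']; group
      rw [e2] at h2
      exact h2
    have hmem : e * u' ∈ Fd D d := by
      have h4 : (e * u') * ((e * u') * (e * u')) = 1 := by
        rw [pow_succ, pow_two] at h3
        calc (e * u') * ((e * u') * (e * u')) = (e * u') * (e * u') * (e * u') := by group
          _ = 1 := h3
      have h5 : e * u' = ((e * u') * (e * u'))⁻¹ := eq_inv_of_mul_eq_one_left h4
      rw [h5]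
      exact (Fd D d).inv_mem hsq
    have hmem2 : e * u ∈ Fd D d := by
      have h6 := (Fd D d).mul_mem hmem (tw_symm h hu.1 hu'.1 ht)
      have e6 : e * u' * (u' * u) = e * u := by
        calc e * u' * (u' * u) = e * (u' * u') * u := by group
          _ = e * u := by rw [su', mul_one]
      rw [e6] at h6
      exact h6
    have h7 := eq_one_of_sq_of_isPGroup (Fd_isPGroup (D := D) d) hmem2 hgg
    apply heu
    have := eq_inv_of_mul_eq_one_left h7
    rw [h.inv hu.1] at this
    exact this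
  refine ⟨hcomm, ?_⟩
  intro he'
  -- then `u'` commutes with `u`, so `u = u'`
  rw [he'] at hc heu
  by_cases huu : u = u'
  · exact heu huu.symm
  · exact tw_ncomm h hu.1 hu'.1 ht huu hc.symm

/-- the class of `u` is the orbit of `u` under the `3`-core -/
theorem class_eq_orbit [Finite G] (h : TSet D) {d u : G} (hd : d ∈ D) (hu : u ∈ Dd D d) :
    {u' | u' ∈ Dd D d ∧ tw D d u u'} = {a | ∃ p ∈ Fd D d, a = p * u * p⁻¹} := by
  ext a
  constructor
  · rintro ⟨ha, ht⟩
    by_cases hua : u = a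
    · exact ⟨1, (Fd D d).one_mem, by rw [← hua]; group⟩
    · have hnc := tw_ncomm h hu.1 ha.1 ht hua
      exact ⟨u * a, ht, (h.conj_eq hu.1 ha.1 hnc).symm⟩
  · rintro ⟨p, hp, rfl⟩
    have hpH : p ∈ Hd D d := Fd_le d hp
    have hpd : p * d = d * p := Hd_comm hpH
    constructor
    · have := Dd_conj h p hu
      have e : p * d * p⁻¹ = d := by rw [hpd]; group
      rw [e] at this
      exact this
    · unfold tw
      have h1 : u * p * u⁻¹ ∈ Fd D d := Fd_normal (Dd_sub_Hd hu) hp
      have h2 := (Fd D d).mul_mem h1 ((Fd D d).inv_mem hp)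
      have e : u * p * u⁻¹ * p⁻¹ = u * (p * u * p⁻¹) := by
        rw [h.inv hu.1]; group
      rw [e] at h2
      exact h2

theorem class_card [Finite G] (h : TSet D) {d u : G} (hd : d ∈ D) (hu : u ∈ Dd D d) :
    ∃ j : ℕ, {u' | u' ∈ Dd D d ∧ tw D d u u'}.ncard = 3 ^ j := by
  rw [class_eq_orbit h hd hu]
  exact card_conj_orbit _ (Fd_isPGroup d) u

end Cfsg.Agent.Lib.Helper3.Fs
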