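import Mathlib
import Cfsg.Prelude.Def_CaseTheorems
import Cfsg.Agent.Lib.Helper3.Fs3

set_option autoImplicit false
set_option maxHeartbeats 4000000
set_option maxRecDepth 100000
set_option linter.unusedVariables false
set_option linter.unusedSectionVars false
set_option linter.style.haveILetI false
set_option linter.deprecated false

/-!
# Fischer's lemma on `O(⟨D_x⟩)`: the seed

If the odd core of `⟨D_x⟩` is not central, two distinct members of `D_x` are related.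
-/

namespace Cfsg.Agent.Lib.Helper3.Fs

open Cfsg Cfsg.Agent.Lib.Helper3.TT

universe u

variable {G : Type u} [Group G] {D : Set G}

theorem eq_one_of_sq_of_coprime [Finite G] {N : Subgroup G} (hN : (Nat.card N).Coprime 2)
    {n : G} (hn : n ∈ N) (h2 : n * n = 1) : n = 1 := by
  have h1 : orderOf (⟨n, hn⟩ : ↥N) ∣ Nat.card N := orderOf_dvd_natCard _
  have h3 : orderOf (⟨n, hn⟩ : ↥N) ∣ 2 := by
    apply orderOf_dvd_of_pow_eq_one
    rw [pow_two]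
    exact Subtype.ext h2
  have h4 : orderOf (⟨n, hn⟩ : ↥N) ∣ 1 := by
    have := Nat.dvd_gcd h1 h3
    rwa [Nat.Coprime.gcd_eq_one hN] at this
  have h5 : orderOf (⟨n, hn⟩ : ↥N) = 1 := Nat.dvd_one.mp h4
  have h6 := orderOf_eq_one_iff.mp h5
  exact congrArg Subtype.val h6

/-- the subgroup of those `k ∈ H` with `[k, y] ∈ N` -/
def commSub (H N : Subgroup G) (y : G) (hyH : y ∈ H) (hN : ∀ a ∈ H, ∀ n ∈ N, a * n * a⁻¹ ∈ N) :
    Subgroup G where
  carrier := {k | k ∈ H ∧ k * y * k⁻¹ * y⁻¹ ∈ N}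
  one_mem' := by
    refine ⟨H.one_mem, ?_⟩
    have e : (1 : G) * y * 1⁻¹ * y⁻¹ = 1 := by group
    rw [e]; exact N.one_mem
  mul_mem' := by
    rintro k₁ k₂ ⟨h1, h1'⟩ ⟨h2, h2'⟩
    refine ⟨H.mul_mem h1 h2, ?_⟩
    have e : k₁ * k₂ * y * (k₁ * k₂)⁻¹ * y⁻¹
        = (k₁ * (k₂ * y * k₂⁻¹ * y⁻¹) * k₁⁻¹) * (k₁ * y * k₁⁻¹ * y⁻¹) := by group
    rw [e]
    exact N.mul_mem (hN k₁ h1 _ h2') h1'
  inv_mem' := by
    rintro k ⟨h1, h1'⟩
    refine ⟨H.inv_mem h1, ?_⟩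
    have e : k⁻¹ * y * k⁻¹⁻¹ * y⁻¹ = k⁻¹ * (k * y * k⁻¹ * y⁻¹)⁻¹ * k⁻¹⁻¹ := by group
    rw [e]
    exact hN k⁻¹ (H.inv_mem h1) _ (N.inv_mem h1')

theorem seed [Finite G] (h : TSet D) {x : G} (hx : x ∈ D)
    (hO : ¬ Cfsg.oddCore ↥(Hd D x) ≤ Subgroup.center ↥(Hd D x)) :
    ∃ y ∈ Dd D x, ∃ y' ∈ Dd D x, y ≠ y' ∧ tw D x y y' := by
  classical
  set H : Subgroup G := Hd D x with hH
  -- a normal subgroup of odd order which is not central
  obtain ⟨N, hNn, hNodd, hNc⟩ : ∃ N : Subgroup ↥H, N.Normal ∧ (Nat.card N).Coprime 2 ∧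
      ¬ N ≤ Subgroup.center ↥H := by
    by_contra hcon
    push Not at hcon
    apply hO
    apply sSup_le
    rintro N ⟨hn, hc⟩
    exact hcon N hn hc
  obtain ⟨q, hqN, hqc⟩ : ∃ q ∈ N, q ∉ Subgroup.center ↥H := by
    by_contra hcon
    push Not at hcon
    exact hNc (fun q hq => hcon q hq)
  -- some generator does not commute with `q`
  obtain ⟨y, hy, hyq⟩ : ∃ y ∈ Dd D x, (q : G) * y ≠ y * (q : G) := by
    by_contra hcon
    push Not at hcon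
    apply hqc
    have hle : H ≤ Subgroup.centralizer ({(q : G)} : Set G) := by
      apply (Subgroup.closure_le _).mpr
      intro y hy
      rw [SetLike.mem_coe, Subgroup.mem_centralizer_iff]
      intro z hz
      rw [Set.mem_singleton_iff] at hz
      rw [hz]
      exact hcon y hy
    rw [Subgroup.mem_center_iff]
    intro g
    have := hle g.2
    rw [Subgroup.mem_centralizer_iff] at this
    apply Subtype.ext
    rw [Subgroup.coe_mul, Subgroup.coe_mul]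
    exact (this (q : G) rfl).symm
  set N' : Subgroup G := N.map H.subtype with hN'
  have hN'H : N' ≤ H := Subgroup.map_subtype_le _
  have hN'n : ∀ a ∈ H, ∀ n ∈ N', a * n * a⁻¹ ∈ N' := by
    rintro a ha _ ⟨m, hm, rfl⟩
    exact ⟨⟨a, ha⟩ * m * ⟨a, ha⟩⁻¹, hNn.conj_mem m hm ⟨a, ha⟩, rfl⟩
  have hN'odd : (Nat.card N').Coprime 2 := by
    have : Nat.card N' = Nat.card N := by
      rw [hN']
      exact Subgroup.card_map_of_injective (Subgroup.subtype_injective H)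
    rw [this]; exact hNodd
  have hqN' : (q : G) ∈ N' := ⟨q, hqN, rfl⟩
  have hyH : y ∈ H := Dd_sub_Hd hy
  have syy := h.sq y hy.1
  have hyinv := h.inv hy.1
  set y' : G := (q : G) * y * (q : G)⁻¹ with hy'
  have hy'D : y' ∈ Dd D x := by
    have := Dd_conj h (q : G) hy
    have hqx : (q : G) * x = x * (q : G) := Hd_comm q.2
    have e : (q : G) * x * (q : G)⁻¹ = x := by rw [hqx]; group
    rw [e] at this
    exact this
  have hne : y ≠ y' := by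
    intro he
    apply hyq
    have : y * (q : G) = (q : G) * y * (q : G)⁻¹ * (q : G) := by rw [← hy', ← he]
    rw [this]; group
  refine ⟨y, hy, y', hy'D, hne, ?_⟩
  -- the subgroup `K = N' ⟨y⟩`
  set K : Subgroup G := N' ⊔ Subgroup.zpowers y with hK
  have hKS : K ≤ commSub H N' y hyH hN'n := by
    apply sup_le
    · intro n hn
      refine ⟨hN'H hn, ?_⟩
      have e : n * y * n⁻¹ * y⁻¹ = n * (y * n⁻¹ * y⁻¹) := by group
      rw [e]
      exact N'.mul_mem hn (hN'n y hyH _ (N'.inv_mem hn))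
    · rw [Subgroup.zpowers_le]
      refine ⟨hyH, ?_⟩
      have e : y * y * y⁻¹ * y⁻¹ = 1 := by group
      rw [e]; exact N'.one_mem
  have hKH : K ≤ H := fun k hk => (hKS hk).1
  have hyK : y ∈ K := (le_sup_right : Subgroup.zpowers y ≤ K) (Subgroup.mem_zpowers y)
  -- conjugates of `y` under `K`
  have hconjD : ∀ k ∈ K, k * y * k⁻¹ ∈ D := fun k _ => h.conj k y hy.1
  have hprodN : ∀ k₁ ∈ K, ∀ k₂ ∈ K, (k₁ * y * k₁⁻¹) * (k₂ * y * k₂⁻¹) ∈ N' := by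
    intro k₁ hk₁ k₂ hk₂
    have h1 := (hKS hk₁).2
    have h2 := (hKS hk₂).2
    have h3 : y * (k₂ * y * k₂⁻¹ * y⁻¹) * y⁻¹ ∈ N' := hN'n y hyH _ h2
    have e : (k₁ * y * k₁⁻¹) * (k₂ * y * k₂⁻¹)
        = (k₁ * y * k₁⁻¹ * y⁻¹) * (y * (k₂ * y * k₂⁻¹ * y⁻¹) * y⁻¹) * (y * y) := by group
    rw [e, syy, mul_one]
    exact N'.mul_mem h1 h3
  have hcube : ∀ k₁ ∈ K, ∀ k₂ ∈ K, ((k₁ * y * k₁⁻¹) * (k₂ * y * k₂⁻¹)) ^ 3 = 1 := by
    intro k₁ hk₁ k₂ hk₂
    have ha := hconjD k₁ hk₁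
    have hb := hconjD k₂ hk₂
    by_cases hc : (k₁ * y * k₁⁻¹) * (k₂ * y * k₂⁻¹) = (k₂ * y * k₂⁻¹) * (k₁ * y * k₁⁻¹)
    · have h2 : ((k₁ * y * k₁⁻¹) * (k₂ * y * k₂⁻¹)) * ((k₁ * y * k₁⁻¹) * (k₂ * y * k₂⁻¹)) = 1 := by
        calc ((k₁ * y * k₁⁻¹) * (k₂ * y * k₂⁻¹)) * ((k₁ * y * k₁⁻¹) * (k₂ * y * k₂⁻¹))
            = (k₁ * y * k₁⁻¹) * ((k₂ * y * k₂⁻¹) * (k₁ * y * k₁⁻¹)) * (k₂ * y * k₂⁻¹) := by group
          _ = (k₁ * y * k₁⁻¹) * ((k₁ * y * k₁⁻¹) * (k₂ * y * k₂⁻¹)) * (k₂ * y * k₂⁻¹) := by rw [hc]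
          _ = ((k₁ * y * k₁⁻¹) * (k₁ * y * k₁⁻¹)) * ((k₂ * y * k₂⁻¹) * (k₂ * y * k₂⁻¹)) := by
            group
          _ = 1 := by rw [h.sq _ ha, h.sq _ hb, mul_one]
      rw [eq_one_of_sq_of_coprime hN'odd (hprodN k₁ hk₁ k₂ hk₂) h2, one_pow]
    · exact h.cube ha hb hc
  obtain ⟨P, hPK, hPn, hP3, hPprod⟩ := prodcore K hyK syy (h.ne_one y hy.1) hcube
  -- `y y'` lies in `P ⊓ N'`
  have hqK : (q : G) ∈ K := (le_sup_left : N' ≤ K) hqN'
  have hyy'P : y * y' ∈ P := by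
    have := hPprod 1 K.one_mem (q : G) hqK
    have e : (1 * y * (1 : G)⁻¹) * ((q : G) * y * (q : G)⁻¹) = y * y' := by rw [hy']; group
    rw [e] at this
    exact this
  have hyy'N : y * y' ∈ N' := by
    have := hprodN 1 K.one_mem (q : G) hqK
    have e : (1 * y * (1 : G)⁻¹) * ((q : G) * y * (q : G)⁻¹) = y * y' := by rw [hy']; group
    rw [e] at this
    exact this
  have hM : P ⊓ N' ∈ O3fam N' := by
    refine ⟨inf_le_right, ?_, hP3.to_le inf_le_left⟩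
    intro a ha n hn
    exact ⟨hPn a ((le_sup_left : N' ≤ K) ha) n hn.1, hN'n a (hN'H ha) n hn.2⟩
  have h1 : y * y' ∈ O3in N' := le_O3in hM ⟨hyy'P, hyy'N⟩
  have hF0 : O3in N' ∈ O3fam H := by
    refine ⟨(O3in_le N').trans hN'H, ?_, O3in_isPGroup N'⟩
    intro a ha n hn
    refine O3in_conj_le a (fun m hm => hN'n a ha m hm) (fun m hm => ?_) n hn
    have := hN'n a⁻¹ (H.inv_mem ha) m hm
    rw [inv_inv] at this
    exact this
  exact le_O3in hF0 h1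

end Cfsg.Agent.Lib.Helper3.Fs
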