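import Mathlib

set_option autoImplicit false

/-! Strongly regular graphs: the second subconstituent of a strongly regular graph with `μ < k`
is connected unless `k ≤ λ + 1`. -/

namespace Cfsg.Agent.Lib.Helper3.SRG

open Finset

variable {V : Type*} [Fintype V] [DecidableEq V] (adj : V → V → Prop) [DecidableRel adj]

/-- the adjacency operator -/
def Aop (f : V → ℤ) (x : V) : ℤ := ∑ y, if adj x y then f y else 0

theorem sum_Aop_sq (f : V → ℤ) :
    ∑ x, (Aop adj f x) ^ 2 =
      ∑ y, ∑ y', f y * f y' * ((univ.filter (fun x => adj x y ∧ adj x y')).card : ℤ) := by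
  unfold Aop
  have h1 : ∀ x, (∑ y, if adj x y then f y else 0) ^ 2 =
      ∑ y, ∑ y', (if adj x y ∧ adj x y' then f y * f y' else 0) := by
    intro x
    rw [sq, Finset.sum_mul_sum]
    refine Finset.sum_congr rfl fun y _ => Finset.sum_congr rfl fun y' _ => ?_
    by_cases h1 : adj x y <;> by_cases h2 : adj x y' <;> simp [h1, h2]
  simp_rw [h1]
  rw [Finset.sum_comm]
  refine Finset.sum_congr rfl fun y _ => ?_
  rw [Finset.sum_comm]
  refine Finset.sum_congr rfl fun y' _ => ?_
  rw [← Finset.sum_filter, Finset.sum_const, nsmul_eq_mul, mul_comm]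

theorem srg_ineq (l lam mu : ℤ)
    (hcnt : ∀ y y', ((univ.filter (fun x => adj x y ∧ adj x y')).card : ℤ) =
      mu + (l - mu) * (if y = y' then 1 else 0) + (lam - mu) * (if adj y y' then 1 else 0))
    (f : V → ℤ) (hf0 : ∑ y, f y = 0) (t : ℤ) (ht : t = l - mu)
    (hA : ∀ y, f y ≠ 0 → Aop adj f y = t * f y) :
    0 ≤ t * (∑ y, f y ^ 2) * (1 + lam - mu - t) := by
  have hK : ∑ x, (Aop adj f x) ^ 2 =
      (l - mu) * ∑ y, f y ^ 2 + (lam - mu) * ∑ y, f y * Aop adj f y := by
    rw [sum_Aop_sq]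
    simp_rw [hcnt]
    have e1 : ∑ y, ∑ y', f y * f y' = 0 := by
      rw [← Finset.sum_mul_sum, hf0, zero_mul]
    have e2 : ∀ y, ∑ y', f y * f y' * (if y = y' then (1:ℤ) else 0) = f y ^ 2 := by
      intro y
      simp [sq]
    have e3 : ∀ y, ∑ y', f y * f y' * (if adj y y' then (1:ℤ) else 0) = f y * Aop adj f y := by
      intro y
      unfold Aop
      rw [Finset.mul_sum]
      refine Finset.sum_congr rfl fun y' _ => ?_
      split_ifs <;> ring
    calc ∑ y, ∑ y', f y * f y' * (mu + (l - mu) * (if y = y' then 1 else 0)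
          + (lam - mu) * (if adj y y' then 1 else 0))
        = mu * ∑ y, ∑ y', f y * f y'
          + (l - mu) * ∑ y, ∑ y', f y * f y' * (if y = y' then (1:ℤ) else 0)
          + (lam - mu) * ∑ y, ∑ y', f y * f y' * (if adj y y' then (1:ℤ) else 0) := by
          simp only [Finset.mul_sum, ← Finset.sum_add_distrib]
          refine Finset.sum_congr rfl fun y _ => Finset.sum_congr rfl fun y' _ => ?_
          ring
      _ = _ := by
          rw [e1]; simp_rw [e2, e3]; ring
  have hP : ∑ y, f y * Aop adj f y = t * ∑ y, f y ^ 2 := by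
    rw [Finset.mul_sum]
    refine Finset.sum_congr rfl fun y _ => ?_
    by_cases h : f y = 0
    · rw [h]; ring
    · rw [hA y h]; ring
  have hnn : 0 ≤ ∑ x, (Aop adj f x - t * f x) ^ 2 := Finset.sum_nonneg fun x _ => sq_nonneg _
  have hexp : ∑ x, (Aop adj f x - t * f x) ^ 2 =
      ∑ x, (Aop adj f x) ^ 2 - 2 * t * ∑ x, f x * Aop adj f x + t ^ 2 * ∑ x, f x ^ 2 := by
    simp only [Finset.mul_sum, ← Finset.sum_add_distrib, ← Finset.sum_sub_distrib]
    refine Finset.sum_congr rfl fun x _ => ?_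
    ring
  rw [hexp, hK, hP] at hnn
  have : t * (∑ y, f y ^ 2) * (1 + lam - mu - t) =
      (l - mu) * ∑ y, f y ^ 2 + (lam - mu) * (t * ∑ y, f y ^ 2) - 2 * t * (t * ∑ x, f x ^ 2)
        + t ^ 2 * ∑ x, f x ^ 2 := by
    rw [ht]; ring
  rw [this]; exact hnn

/-- In a strongly regular graph with `μ < k`: if the non-neighbours of `d` split into two non-empty
parts without edges between them then `k ≤ λ + 1`. -/
theorem srg_second (hsym : ∀ x y, adj x y → adj y x) (hirr : ∀ x, ¬ adj x x)
    (l lam mu : ℕ)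
    (hl : ∀ y, (univ.filter (fun x => adj x y)).card = l)
    (hlam : ∀ y y', adj y y' → (univ.filter (fun x => adj x y ∧ adj x y')).card = lam)
    (hmu : ∀ y y', y ≠ y' → ¬ adj y y' → (univ.filter (fun x => adj x y ∧ adj x y')).card = mu)
    (d : V) (C1 : Finset V) (hC1 : ∀ y ∈ C1, y ≠ d ∧ ¬ adj y d) (hne1 : C1.Nonempty)
    (hne2 : ∃ y, y ≠ d ∧ ¬ adj y d ∧ y ∉ C1)
    (hcl : ∀ y ∈ C1, ∀ z, z ≠ d → ¬ adj z d → adj y z → z ∈ C1)
    (hlt : mu < l) : l ≤ lam + 1 := by
  classical
  set M : Finset V := univ.filter (fun y => y ≠ d ∧ ¬ adj y d) with hM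
  set C2 : Finset V := M \ C1 with hC2
  have hC1M : C1 ⊆ M := fun y hy => by
    rw [hM, Finset.mem_filter]; exact ⟨Finset.mem_univ _, hC1 y hy⟩
  obtain ⟨y1, hy1⟩ := hne1
  obtain ⟨y2, hy2d, hy2a, hy2n⟩ := hne2
  have hy2 : y2 ∈ C2 := by
    rw [hC2, Finset.mem_sdiff, hM, Finset.mem_filter]
    exact ⟨⟨Finset.mem_univ _, hy2d, hy2a⟩, hy2n⟩
  set c1 : ℤ := (C1.card : ℤ) with hc1
  set c2 : ℤ := (C2.card : ℤ) with hc2
  have hc1p : 0 < c1 := by
    have := Finset.card_pos.mpr ⟨y1, hy1⟩
    rw [hc1]; exact_mod_cast this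
  have hc2p : 0 < c2 := by
    have := Finset.card_pos.mpr ⟨y2, hy2⟩
    rw [hc2]; exact_mod_cast this
  let f : V → ℤ := fun y => (if y ∈ C1 then c2 else 0) + (if y ∈ C2 then -c1 else 0)
  have hf0 : ∑ y, f y = 0 := by
    simp only [f]
    rw [Finset.sum_add_distrib, Finset.sum_ite_mem, Finset.sum_ite_mem, Finset.univ_inter,
      Finset.univ_inter, Finset.sum_const, Finset.sum_const, nsmul_eq_mul, nsmul_eq_mul]
    ring
  have hcnt : ∀ y y', ((univ.filter (fun x => adj x y ∧ adj x y')).card : ℤ) =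
      (mu:ℤ) + ((l:ℤ) - mu) * (if y = y' then 1 else 0)
        + ((lam:ℤ) - mu) * (if adj y y' then 1 else 0) := by
    intro y y'
    by_cases he : y = y'
    · subst he
      have : (univ.filter (fun x => adj x y ∧ adj x y)) = univ.filter (fun x => adj x y) := by
        ext x; simp
      rw [this, hl y]
      simp [hirr y]
    · by_cases ha : adj y y'
      · rw [hlam y y' ha]; simp [he, ha]
      · rw [hmu y y' he ha]; simp [he, ha]
  have hside : ∀ y ∈ M, ∀ z ∈ M, adj y z → f z = f y := by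
    intro y hy z hz hyz
    have hzd := (Finset.mem_filter.mp hz).2
    have hyd := (Finset.mem_filter.mp hy).2
    have hiff : z ∈ C1 ↔ y ∈ C1 :=
      ⟨fun h => hcl z h y hyd.1 hyd.2 (hsym _ _ hyz), fun h => hcl y h z hzd.1 hzd.2 hyz⟩
    simp only [f, hC2, Finset.mem_sdiff, hy, hz, hiff, true_and]
  have hout : ∀ z, z ∉ M → f z = 0 := by
    intro z hz
    have h1 : z ∉ C1 := fun h => hz (hC1M h)
    have h2 : z ∉ C2 := fun h => hz (Finset.mem_sdiff.mp h).1
    simp [f, h1, h2]
  have hAM : ∀ y ∈ M, Aop adj f y = ((l:ℤ) - mu) * f y := by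
    intro y hy
    have hyd := (Finset.mem_filter.mp hy).2
    have hcount : l = mu + (univ.filter (fun z => adj y z ∧ z ∈ M)).card := by
      rw [← hl y, ← hmu y d hyd.1 hyd.2, ← Finset.card_union_of_disjoint]
      · congr 1
        ext x
        simp only [Finset.mem_filter, Finset.mem_univ, true_and, Finset.mem_union, hM]
        constructor
        · intro hx
          by_cases hxd : adj x d
          · left; exact ⟨hx, hxd⟩
          · right
            refine ⟨hsym _ _ hx, ?_, hxd⟩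
            rintro rfl
            exact hyd.2 (hsym _ _ hx)
        · rintro (⟨h1, _⟩ | ⟨h1, _⟩)
          · exact h1
          · exact hsym _ _ h1
      · rw [Finset.disjoint_left]
        intro x hx1 hx2
        simp only [Finset.mem_filter, Finset.mem_univ, true_and, hM] at hx1 hx2
        exact hx2.2.2 hx1.2
    unfold Aop
    have hrew : ∀ z, (if adj y z then f z else 0) = if (adj y z ∧ z ∈ M) then f y else 0 := by
      intro z
      by_cases h1 : adj y z
      · by_cases h2 : z ∈ M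
        · simp [h1, h2, hside y hy z h2 h1]
        · simp [h1, h2, hout z h2]
      · simp [h1]
    simp_rw [hrew]
    rw [← Finset.sum_filter, Finset.sum_const, nsmul_eq_mul]
    have : ((univ.filter (fun z => adj y z ∧ z ∈ M)).card : ℤ) = (l:ℤ) - mu := by
      have := hcount
      omega
    rw [this]
  have hA : ∀ y, f y ≠ 0 → Aop adj f y = ((l:ℤ) - mu) * f y := by
    intro y hy
    by_cases hyM : y ∈ M
    · exact hAM y hyM
    · exact absurd (hout y hyM) hy
  have hmain := srg_ineq adj (l:ℤ) (lam:ℤ) (mu:ℤ) hcnt f hf0 ((l:ℤ) - mu) rfl hA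
  have hF : 0 < ∑ y, f y ^ 2 := by
    have h1 : f y1 ^ 2 ≤ ∑ y, f y ^ 2 :=
      Finset.single_le_sum (f := fun y => f y ^ 2) (fun i _ => sq_nonneg (f i)) (Finset.mem_univ y1)
    have h2 : f y1 = c2 := by
      have : y1 ∉ C2 := fun h => (Finset.mem_sdiff.mp h).2 hy1
      simp [f, hy1, this]
    have h3 : 0 < f y1 ^ 2 := by rw [h2]; positivity
    linarith
  have ht : (0:ℤ) < (l:ℤ) - mu := by
    have : (mu:ℤ) < l := by exact_mod_cast hlt
    linarith
  by_contra hcon
  push Not at hcon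
  have hneg : (1:ℤ) + lam - mu - ((l:ℤ) - mu) < 0 := by
    have : (lam:ℤ) + 1 < l := by exact_mod_cast hcon
    linarith
  have := mul_neg_of_pos_of_neg (mul_pos ht hF) hneg
  linarith

end Cfsg.Agent.Lib.Helper3.SRG
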