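import Mathlib
import Cfsg.Agent.Lib.Helper3.TT12

set_option autoImplicit false

/-! Primitive 3-transposition groups: the commuting graph has no nontrivial homogeneous sets, and
the centralizer subgroups `⟨d^⊥⟩` are maximal `D`-subgroups. -/

namespace Cfsg.Agent.Lib.Helper3.TT

open Cfsg

universe u

variable {G : Type u} [Group G]

/-- a homogeneous set (module) of the commuting graph on `D` -/
def IsMod (D M : Set G) : Prop :=
  M ⊆ D ∧ ∀ y ∈ D, y ∉ M → (∀ a ∈ M, a * y = y * a) ∨ (∀ a ∈ M, a * y ≠ y * a)

theorem IsMod.inter {D M₁ M₂ : Set G} (h1 : IsMod D M₁) (h2 : IsMod D M₂) :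
    IsMod D (M₁ ∩ M₂) := by
  refine ⟨fun x hx => h1.1 hx.1, ?_⟩
  intro y hy hyn
  by_cases hy1 : y ∈ M₁
  · have hy2 : y ∉ M₂ := fun hh => hyn ⟨hy1, hh⟩
    rcases h2.2 y hy hy2 with h | h
    · left; exact fun a ha => h a ha.2
    · right; exact fun a ha => h a ha.2
  · rcases h1.2 y hy hy1 with h | h
    · left; exact fun a ha => h a ha.1
    · right; exact fun a ha => h a ha.1

theorem IsMod.diff {D M₁ M₂ : Set G} (h1 : IsMod D M₁) (h2 : IsMod D M₂) {w : G}
    (hw2 : w ∈ M₂) (hw1 : w ∉ M₁) : IsMod D (M₁ \ M₂) := by
  refine ⟨fun x hx => h1.1 hx.1, ?_⟩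
  intro y hy hyn
  by_cases hy1 : y ∈ M₁
  · have hy2 : y ∈ M₂ := by
      by_contra hh
      exact hyn ⟨hy1, hh⟩
    have hwD : w ∈ D := h2.1 hw2
    -- `x ∈ M₁ \ M₂` is uniform on `M₂`, so `x ~ y ↔ x ~ w`
    have key : ∀ x ∈ M₁ \ M₂, (x * y = y * x ↔ x * w = w * x) := by
      intro x hx
      have hxD := h1.1 hx.1
      rcases h2.2 x hxD hx.2 with h | h
      · exact ⟨fun _ => (h w hw2).symm, fun _ => (h y hy2).symm⟩
      · exact ⟨fun hh => absurd hh.symm (h y hy2), fun hh => absurd hh.symm (h w hw2)⟩
    rcases h1.2 w hwD hw1 with h | h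
    · left
      intro a ha
      exact (key a ha).mpr (h a ha.1)
    · right
      intro a ha hh
      exact h a ha.1 ((key a ha).mp hh)
  · rcases h1.2 y hy hy1 with h | h
    · left; exact fun a ha => h a ha.1
    · right; exact fun a ha => h a ha.1

theorem IsMod.conj {D M : Set G} (h : TSet D) (hM : IsMod D M) (g : G) : IsMod D (cjs g M) := by
  refine ⟨?_, ?_⟩
  · rintro _ ⟨x, hx, rfl⟩
    exact h.conj g x (hM.1 hx)
  · intro y hy hyn
    have hy' : g⁻¹ * y * g ∈ D := h.conj' hy g
    have hyn' : g⁻¹ * y * g ∉ M := fun hh => hyn (mem_cjs.mpr hh)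
    have e : y = g * (g⁻¹ * y * g) * g⁻¹ := by group
    rcases hM.2 _ hy' hyn' with h1 | h1
    · left
      rintro _ ⟨x, hx, rfl⟩
      show g * x * g⁻¹ * y = y * (g * x * g⁻¹)
      rw [e, comm_conj_iff]
      exact h1 x hx
    · right
      rintro _ ⟨x, hx, rfl⟩
      show g * x * g⁻¹ * y ≠ y * (g * x * g⁻¹)
      rw [e, Ne, comm_conj_iff]
      exact h1 x hx

theorem ncard_cjs [Finite G] (g : G) (M : Set G) : (cjs g M).ncard = M.ncard := by
  unfold cjs
  apply Set.ncard_image_of_injective
  intro x y hxy
  simp only [mul_left_inj, mul_right_inj] at hxy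
  exact hxy

/-- in a primitive 3-transposition group of width at least two, `V`-classes are trivial -/
theorem primitive_V_trivial [Finite G] {D : Set G} (hG : IsThreeTranspositionGroup D)
    (hprim : IsPrimitiveUnderConj D) {d v : G} (hd : d ∈ D) (hv : v ∈ D) (hs : SameP D d v) :
    v = d := by
  obtain ⟨htr, hD2, hblk⟩ := hprim
  have hD := class_of_primitive hG htr ⟨d, hd⟩
  have h := TSet.of_class hD
  set B : Set G := {v : G | v ∈ D ∧ SameP D d v} with hB
  have hBD : B ⊆ D := fun v hv => hv.1
  have hBblk : ∀ g : G, (fun x => g * x * g⁻¹) '' B = B ∨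
      Disjoint ((fun x => g * x * g⁻¹) '' B) B := by
    intro g
    by_cases hex : ∃ x, x ∈ (fun x => g * x * g⁻¹) '' B ∧ x ∈ B
    · left
      obtain ⟨x, ⟨y, hy, rfl⟩, hx2⟩ := hex
      have s1 : SameP D (g * d * g⁻¹) (g * y * g⁻¹) := hy.2.conj h g
      have s2 : SameP D d (g * d * g⁻¹) := hx2.2.trans s1.symm
      ext z
      constructor
      · rintro ⟨v, hv, rfl⟩
        exact ⟨h.conj g v hv.1, s2.trans (hv.2.conj h g)⟩
      · intro hz
        refine ⟨g⁻¹ * z * g, ⟨h.conj' hz.1 g, ?_⟩, by group⟩
        have s3 : SameP D (g * d * g⁻¹) z := s2.symm.trans hz.2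
        have := s3.conj h g⁻¹
        have e1 : g⁻¹ * (g * d * g⁻¹) * g⁻¹⁻¹ = d := by group
        rw [e1, inv_inv] at this
        exact this
    · right
      rw [Set.disjoint_left]
      intro x hx1 hx2
      exact hex ⟨x, hx1, hx2⟩
  rcases hblk B hBD hBblk with hsub | hBeq
  · exact hsub ⟨hv, hs⟩ ⟨hd, SameP.refl D d⟩
  · exfalso
    obtain ⟨e, he, hed⟩ := exists_not_comm hD hD2 hd
    have heB : e ∈ B := by rw [hBeq]; exact he
    exact hed (heB.2.comm he).symm

/-- in a primitive 3-transposition group of width at least two, `W`-classes are trivial -/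
theorem primitive_W_trivial [Finite G] {D : Set G} (hG : IsThreeTranspositionGroup D)
    (hprim : IsPrimitiveUnderConj D) (hw : ∃ a ∈ D, ∃ b ∈ D, a ≠ b ∧ Commute a b) {d w : G}
    (hd : d ∈ D) (hwW : w ∈ Wc D d) : w = d := by
  obtain ⟨htr, hD2, hblk⟩ := hprim
  have hD := class_of_primitive hG htr ⟨d, hd⟩
  have h := TSet.of_class hD
  have hBD : Wc D d ⊆ D := fun v hv => hv.1
  have hBblk : ∀ g : G, (fun x => g * x * g⁻¹) '' (Wc D d) = Wc D d ∨
      Disjoint ((fun x => g * x * g⁻¹) '' (Wc D d)) (Wc D d) := by
    intro g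
    have himg : (fun x => g * x * g⁻¹) '' (Wc D d) = Wc D (g * d * g⁻¹) := by
      ext z
      constructor
      · rintro ⟨v, hv, rfl⟩
        exact Wc_conj h g hv
      · intro hz
        refine ⟨g⁻¹ * z * g, ?_, by group⟩
        have := Wc_conj h g⁻¹ hz
        have e1 : g⁻¹ * (g * d * g⁻¹) * g⁻¹⁻¹ = d := by group
        rw [e1, inv_inv] at this
        exact this
    rw [himg]
    by_cases hex : ∃ x, x ∈ Wc D (g * d * g⁻¹) ∧ x ∈ Wc D d
    · left
      obtain ⟨x, hx1, hx2⟩ := hex
      rw [← Wc_eq_of_mem hx1, Wc_eq_of_mem hx2]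
    · right
      rw [Set.disjoint_left]
      intro x hx1 hx2
      exact hex ⟨x, hx1, hx2⟩
  rcases hblk (Wc D d) hBD hBblk with hsub | hBeq
  · exact hsub hwW (Wc_self hd)
  · exfalso
    obtain ⟨a, ha, b, hb, hab, hc⟩ := hw
    obtain ⟨g, hg⟩ := htr a ha d hd
    have hb' : g * b * g⁻¹ ∈ Wc D d := by rw [hBeq]; exact h.conj g b hb
    have hbd : g * b * g⁻¹ ≠ d := by
      intro hh
      apply hab
      rw [← hg] at hh
      have : g⁻¹ * (g * b * g⁻¹) * g = g⁻¹ * (g * a * g⁻¹) * g := by rw [hh]
      have e1 : g⁻¹ * (g * b * g⁻¹) * g = b := by group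
      have e2 : g⁻¹ * (g * a * g⁻¹) * g = a := by group
      rw [e1, e2] at this
      exact this.symm
    apply Wc_not_comm hb' hbd
    rw [← hg]; exact comm_conj g hc

/-- **no nontrivial homogeneous sets** in the commuting graph of a primitive 3-transposition group -/
theorem no_module [Finite G] {D : Set G} (hG : IsThreeTranspositionGroup D)
    (hprim : IsPrimitiveUnderConj D) (hw : ∃ a ∈ D, ∃ b ∈ D, a ≠ b ∧ Commute a b) :
    ∀ M : Set G, IsMod D M → ¬ M.Subsingleton → M = D := by
  have hD := class_of_primitive hG hprim.1 (by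
    obtain ⟨a, ha, -⟩ := hprim.2.1
    exact ⟨a, ha⟩)
  have h := TSet.of_class hD
  have key : ∀ n : ℕ, ∀ M : Set G, IsMod D M → M.ncard = n → ¬ M.Subsingleton → M = D := by
    intro n
    induction n using Nat.strong_induction_on with
    | _ n ih =>
    intro M hM hn hns
    by_contra hMD
    have hn2 : 2 ≤ n := by
      rw [← hn]
      by_contra hlt
      apply hns
      have : M.ncard ≤ 1 := by omega
      exact Set.ncard_le_one_iff_subsingleton.mp this
    by_cases hn2' : n = 2
    · -- twins
      rw [hn2'] at hn
      obtain ⟨u, v, huv, rfl⟩ := Set.ncard_eq_two.mp hn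
      have hu : u ∈ D := hM.1 (by simp)
      have hv : v ∈ D := hM.1 (by simp)
      by_cases hc : u * v = v * u
      · apply huv
        have hs : SameP D u v := by
          intro e he
          by_cases heM : e ∈ ({u, v} : Set G)
          · simp only [Set.mem_insert_iff, Set.mem_singleton_iff] at heM
            rcases heM with rfl | rfl
            · exact ⟨fun _ => rfl, fun _ => hc.symm⟩
            · exact ⟨fun _ => hc, fun _ => rfl⟩
          · rcases hM.2 e he heM with h1 | h1
            · exact ⟨fun _ => h1 u (by simp), fun _ => h1 v (by simp)⟩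
            · exact ⟨fun hh => absurd hh (h1 v (by simp)), fun hh => absurd hh (h1 u (by simp))⟩
        exact (primitive_V_trivial hG hprim hu hv hs).symm
      · apply huv
        have hW : v ∈ Wc D u := by
          refine ⟨hv, ?_⟩
          ext y
          constructor
          · rintro ⟨hy, hyu, hcy⟩
            have hcy : u * y = y * u := hcy
            have hyv : y ≠ v := by
              intro hh
              rw [hh] at hcy
              exact hc hcy
            have hyM : y ∉ ({u, v} : Set G) := by
              simp only [Set.mem_insert_iff, Set.mem_singleton_iff]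
              push Not
              exact ⟨hyu, hyv⟩
            rcases hM.2 y hy hyM with h1 | h1
            · exact ⟨hy, hyv, h1 v (by simp)⟩
            · exact absurd hcy (h1 u (by simp))
          · rintro ⟨hy, hyv, hcy⟩
            have hcy : v * y = y * v := hcy
            have hyu : y ≠ u := by
              intro hh
              rw [hh] at hcy
              exact hc hcy.symm
            have hyM : y ∉ ({u, v} : Set G) := by
              simp only [Set.mem_insert_iff, Set.mem_singleton_iff]
              push Not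
              exact ⟨hyu, hyv⟩
            rcases hM.2 y hy hyM with h1 | h1
            · exact ⟨hy, hyu, h1 u (by simp)⟩
            · exact absurd hcy (h1 v (by simp))
        exact (primitive_W_trivial hG hprim hw hu hW).symm
    · have hn3 : 3 ≤ n := by omega
      -- `M` is a block
      have hblkM : ∀ g : G, (fun x => g * x * g⁻¹) '' M = M ∨
          Disjoint ((fun x => g * x * g⁻¹) '' M) M := by
        intro g
        by_contra hcon
        push Not at hcon
        obtain ⟨hne, hnd⟩ := hcon
        have hM' : IsMod D (cjs g M) := hM.conj h g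
        have hcard' : (cjs g M).ncard = n := by rw [ncard_cjs, hn]
        rw [Set.not_disjoint_iff] at hnd
        obtain ⟨v, hv', hv⟩ := hnd
        have hv' : v ∈ cjs g M := hv'
        have hne' : cjs g M ≠ M := hne
        -- `cjs g M ⊄ M`
        have hnsub : ¬ cjs g M ⊆ M := by
          intro hsub
          apply hne'
          apply Set.eq_of_subset_of_ncard_le hsub _ (Set.toFinite M)
          rw [hcard', hn]
        rw [Set.not_subset] at hnsub
        obtain ⟨w, hwM', hwM⟩ := hnsub
        -- the intersection
        have hI : IsMod D (M ∩ cjs g M) := hM.inter hM'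
        have hIlt : (M ∩ cjs g M).ncard < n := by
          rw [← hn]
          apply Set.ncard_lt_ncard _ (Set.toFinite M)
          refine ⟨Set.inter_subset_left, ?_⟩
          intro hsub
          -- then `M ⊆ cjs g M`, so equal
          apply hne'
          symm
          apply Set.eq_of_subset_of_ncard_le (fun x hx => (hsub hx).2) _ (Set.toFinite _)
          rw [hcard', hn]
        have hIsub : (M ∩ cjs g M).Subsingleton := by
          by_contra hIns
          have := ih _ hIlt (M ∩ cjs g M) hI rfl hIns
          apply hMD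
          apply Set.Subset.antisymm hM.1
          rw [← this]
          exact Set.inter_subset_left
        have hI1 : (M ∩ cjs g M).ncard = 1 := by
          have h1 : (M ∩ cjs g M).ncard ≤ 1 :=
            Set.ncard_le_one_iff_subsingleton.mpr hIsub
          have h2 : 0 < (M ∩ cjs g M).ncard :=
            (Set.ncard_pos (Set.toFinite _)).mpr ⟨v, hv, hv'⟩
          omega
        -- the difference
        have hJ : IsMod D (M \ cjs g M) := hM.diff hM' hwM' hwM
        have hJcard : (M \ cjs g M).ncard = n - 1 := by
          have : M \ cjs g M = M \ (M ∩ cjs g M) := by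
            ext x; simp
          rw [this, Set.ncard_sdiff Set.inter_subset_left (Set.toFinite _), hn, hI1]
        have hJns : ¬ (M \ cjs g M).Subsingleton := by
          intro hh
          have := Set.ncard_le_one_iff_subsingleton.mpr hh
          omega
        have := ih (n - 1) (by omega) (M \ cjs g M) hJ hJcard hJns
        apply hMD
        apply Set.Subset.antisymm hM.1
        rw [← this]
        exact Set.sdiff_subset
      rcases hprim.2.2 M hM.1 hblkM with h1 | h1
      · exact hns h1
      · exact hMD h1
  intro M hM hns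
  exact key M.ncard M hM rfl hns

end Cfsg.Agent.Lib.Helper3.TT
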