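import Mathlib
import Cfsg.Agent.Lib.Helper3.TT13

set_option autoImplicit false

/-! Primitive 3-transposition groups: the centralizer subgroups `⟨d^⊥⟩` are maximal
`D`-subgroups. -/

namespace Cfsg.Agent.Lib.Helper3.TT

open Cfsg

universe u

variable {G : Type u} [Group G]

theorem centralizer_maximal [Finite G] {D : Set G} (hG : IsThreeTranspositionGroup D)
    (hprim : IsPrimitiveUnderConj D) (hw : ∃ a ∈ D, ∃ b ∈ D, a ≠ b ∧ Commute a b)
    {d : G} (hd : d ∈ D) :
    Subgroup.closure {y : G | y ∈ D ∧ Commute d y} ≠ ⊤ ∧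
      ∀ H : Subgroup G, IsDSubgroup D H → Subgroup.closure {y : G | y ∈ D ∧ Commute d y} ≤ H →
        H = Subgroup.closure {y : G | y ∈ D ∧ Commute d y} ∨ H = ⊤ := by
  obtain ⟨hD, h2, h3, hconn⟩ := primitive_structure hG hprim hw
  have h := TSet.of_class hD
  have hD2 : ∃ a ∈ D, ∃ b ∈ D, a ≠ b := by
    obtain ⟨a, ha, b, hb, hab, _⟩ := hw
    exact ⟨a, ha, b, hb, hab⟩
  set M : Subgroup G := Subgroup.closure {y : G | y ∈ D ∧ Commute d y} with hM
  have hMc : M ≤ Subgroup.centralizer {d} := by
    rw [hM, Subgroup.closure_le]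
    rintro y ⟨hy, hc⟩
    show y ∈ Subgroup.centralizer {d}
    rw [Subgroup.mem_centralizer_iff]
    intro x hx
    rw [Set.mem_singleton_iff] at hx
    rw [hx]
    exact hc.eq
  have hdM : d ∈ M := Subgroup.subset_closure ⟨hd, Commute.refl d⟩
  refine ⟨?_, ?_⟩
  · intro htop
    obtain ⟨e, he, hne⟩ := exists_not_comm hD hD2 hd
    have : e ∈ Subgroup.centralizer {d} := hMc (by rw [htop]; trivial)
    rw [Subgroup.mem_centralizer_iff] at this
    exact hne (this d rfl).symm
  · intro H hH hMH
    by_cases hall : ∀ e ∈ D, e ∈ H → e * d = d * e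
    · left
      apply le_antisymm _ hMH
      rw [← hH, Subgroup.closure_le]
      rintro x ⟨hxD, hxH⟩
      apply Subgroup.subset_closure
      exact ⟨hxD, (hall x hxD hxH).symm⟩
    · right
      push Not at hall
      obtain ⟨e, heD, heH, hne⟩ := hall
      have hdH : d ∈ H := hMH hdM
      set Δ : Set G := {x : G | ∃ k ∈ H, x = k * d * k⁻¹} with hΔ
      have hΔD : Δ ⊆ D := by
        rintro x ⟨k, _, rfl⟩
        exact h.conj k d hd
      have hΔH : Δ ⊆ (H : Set G) := by
        rintro x ⟨k, hk, rfl⟩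
        exact H.mul_mem (H.mul_mem hk hdH) (H.inv_mem hk)
      have claimA : ∀ a ∈ Δ, ∀ y ∈ D, a * y = y * a → y ∈ H := by
        rintro a ⟨k, hk, rfl⟩ y hy hc
        have hy' : k⁻¹ * y * k ∈ D := h.conj' hy k
        have e1 : y = k * (k⁻¹ * y * k) * k⁻¹ := by group
        rw [e1, comm_conj_iff] at hc
        have : k⁻¹ * y * k ∈ M := Subgroup.subset_closure ⟨hy', hc⟩
        have h1 : k⁻¹ * y * k ∈ H := hMH this
        rw [e1]
        exact H.mul_mem (H.mul_mem hk h1) (H.inv_mem hk)
      have hmod : IsMod D Δ := by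
        refine ⟨hΔD, ?_⟩
        intro y hy hyn
        by_cases hyH : y ∈ H
        · left
          intro a ha
          by_contra hay
          apply hyn
          obtain ⟨k, hk, rfl⟩ := ha
          have hce := h.conj_eq (h.conj k d hd) hy hay
          refine ⟨k * d * k⁻¹ * y * k, ?_, ?_⟩
          · exact H.mul_mem (H.mul_mem (H.mul_mem (H.mul_mem hk hdH) (H.inv_mem hk)) hyH) hk
          · refine hce.symm.trans ?_
            group
        · right
          intro a ha hay
          exact hyH (claimA a ha y hy hay)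
      have hns : ¬ Δ.Subsingleton := by
        intro hs
        have h1 : d ∈ Δ := ⟨1, H.one_mem, by group⟩
        have hne' : d * e ≠ e * d := fun hh => hne hh.symm
        have h2 : e ∈ Δ := by
          refine ⟨d * e, H.mul_mem hdH heH, ?_⟩
          exact (h.conj_eq hd heD hne').symm
        have := hs h1 h2
        rw [this] at hne
        exact hne rfl
      have hΔeq := no_module hG hprim hw Δ hmod hns
      rw [eq_top_iff, ← hG.2.2, Subgroup.closure_le, ← hΔeq]
      exact hΔH

end Cfsg.Agent.Lib.Helper3.TT
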