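import Mathlib
import Cfsg.Agent.Lib.Helper3.TT14
import Cfsg.Agent.Lib.Helper3.S4Cox

set_option autoImplicit false

/-! Primitive 3-transposition groups have rank three: preliminaries -/

namespace Cfsg.Agent.Lib.Helper3.TT

open Cfsg Equiv

universe u

variable {G : Type u} [Group G]

/-- word identities in a homomorphic image of the symmetric group of degree four -/
theorem s4_words {a b c : G} (ha : a * a = 1) (hb : b * b = 1) (hc : c * c = 1)
    (hab : (a * b) ^ 3 = 1) (hbc : (b * c) ^ 3 = 1) (hac : a * c = c * a) (hne : a ≠ c) :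
    (((a * c) * b * (a * c)⁻¹) * b = b * ((a * c) * b * (a * c)⁻¹)) ∧
    ((b * ((a * c) * b * (a * c)⁻¹)) * a * (b * ((a * c) * b * (a * c)⁻¹))⁻¹ = c) ∧
    ((b * c * b) * (a * b * a) = (a * b * a) * (b * c * b)) ∧
    ((b * a * c * b) * c * (b * a * c * b)⁻¹ = a) ∧
    ((b * a * c * b) * a * (b * a * c * b)⁻¹ = c) := by
  obtain ⟨φ, -, h01, h12, h23⟩ := S4C.exists_hom_of_relations ha hb hc hab hbc hac hne
  refine ⟨?_, ?_, ?_, ?_, ?_⟩
  · have := congrArg φ (show
      ((swap (0 : Fin 4) 1 * swap 2 3) * swap 1 2 * (swap (0 : Fin 4) 1 * swap 2 3)⁻¹) * swap 1 2 =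
        swap 1 2 * ((swap (0 : Fin 4) 1 * swap 2 3) * swap 1 2 * (swap (0 : Fin 4) 1 * swap 2 3)⁻¹)
      by decide)
    simpa only [map_mul, map_inv, h01, h12, h23] using this
  · have := congrArg φ (show
      (swap (1 : Fin 4) 2 * ((swap (0 : Fin 4) 1 * swap 2 3) * swap 1 2 *
        (swap (0 : Fin 4) 1 * swap 2 3)⁻¹)) * swap 0 1 *
        (swap (1 : Fin 4) 2 * ((swap (0 : Fin 4) 1 * swap 2 3) * swap 1 2 *
        (swap (0 : Fin 4) 1 * swap 2 3)⁻¹))⁻¹ = swap 2 3 by decide)
    simpa only [map_mul, map_inv, h01, h12, h23] using this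
  · have := congrArg φ (show
      (swap (1 : Fin 4) 2 * swap 2 3 * swap 1 2) * (swap (0 : Fin 4) 1 * swap 1 2 * swap 0 1) =
        (swap (0 : Fin 4) 1 * swap 1 2 * swap 0 1) * (swap (1 : Fin 4) 2 * swap 2 3 * swap 1 2)
      by decide)
    simpa only [map_mul, map_inv, h01, h12, h23] using this
  · have := congrArg φ (show
      (swap (1 : Fin 4) 2 * swap 0 1 * swap 2 3 * swap 1 2) * swap 2 3 *
        (swap (1 : Fin 4) 2 * swap 0 1 * swap 2 3 * swap 1 2)⁻¹ = swap 0 1 by decide)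
    simpa only [map_mul, map_inv, h01, h12, h23] using this
  · have := congrArg φ (show
      (swap (1 : Fin 4) 2 * swap 0 1 * swap 2 3 * swap 1 2) * swap 0 1 *
        (swap (1 : Fin 4) 2 * swap 0 1 * swap 2 3 * swap 1 2)⁻¹ = swap 2 3 by decide)
    simpa only [map_mul, map_inv, h01, h12, h23] using this

/-- the subgroup generated by the members of `D` commuting with `d` -/
abbrev Cd (D : Set G) (d : G) : Subgroup G := Subgroup.closure {y : G | y ∈ D ∧ Commute d y}

theorem Cd_comm {D : Set G} {d g : G} (hg : g ∈ Cd D d) : g * d = d * g := by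
  have hle : Cd D d ≤ Subgroup.centralizer {d} := by
    rw [Subgroup.closure_le]
    rintro y ⟨-, hc⟩
    show y ∈ Subgroup.centralizer {d}
    rw [Subgroup.mem_centralizer_iff]
    intro x hx
    rw [Set.mem_singleton_iff] at hx
    rw [hx]
    exact hc.eq
  have := hle hg
  rw [Subgroup.mem_centralizer_iff] at this
  exact (this d rfl).symm

theorem mem_Cd {D : Set G} {d e : G} (he : e ∈ D) (hc : e * d = d * e) : e ∈ Cd D d :=
  Subgroup.subset_closure ⟨he, hc.symm⟩

/-- conjugacy under the subgroup generated by the members of `D` commuting with `d` -/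
def RelC (D : Set G) (d x y : G) : Prop := ∃ g ∈ Cd D d, g * x * g⁻¹ = y

theorem RelC.refl {D : Set G} {d : G} (x : G) : RelC D d x x :=
  ⟨1, Subgroup.one_mem _, by group⟩

theorem RelC.symm {D : Set G} {d x y : G} : RelC D d x y → RelC D d y x := by
  rintro ⟨g, hg, rfl⟩
  exact ⟨g⁻¹, Subgroup.inv_mem _ hg, by group⟩

theorem RelC.trans {D : Set G} {d x y z : G} : RelC D d x y → RelC D d y z → RelC D d x z := by
  rintro ⟨g, hg, rfl⟩ ⟨k, hk, rfl⟩
  exact ⟨k * g, Subgroup.mul_mem _ hk hg, by group⟩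

/-- conjugation by an element commuting with `d` preserves non-commutation with `d` -/
theorem conj_not_comm {d g x : G} (hg : g * d = d * g) (hx : x * d ≠ d * x) :
    (g * x * g⁻¹) * d ≠ d * (g * x * g⁻¹) := by
  intro hh
  apply hx
  have e1 : x = g⁻¹ * (g * x * g⁻¹) * g := by group
  have hg' : g⁻¹ * d = d * g⁻¹ := by
    calc g⁻¹ * d = g⁻¹ * (d * g) * g⁻¹ := by group
      _ = g⁻¹ * (g * d) * g⁻¹ := by rw [hg]
      _ = d * g⁻¹ := by group
  calc x * d = g⁻¹ * (g * x * g⁻¹) * (g * d) := by group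
    _ = g⁻¹ * (g * x * g⁻¹) * (d * g) := by rw [hg]
    _ = g⁻¹ * ((g * x * g⁻¹) * d) * g := by group
    _ = g⁻¹ * (d * (g * x * g⁻¹)) * g := by rw [hh]
    _ = (g⁻¹ * d) * (g * x * g⁻¹) * g := by group
    _ = (d * g⁻¹) * (g * x * g⁻¹) * g := by rw [hg']
    _ = d * x := by group

theorem third_conj {D : Set G} (h : TSet D) {x y : G} (hx : x ∈ D) (hy : y ∈ D)
    (hxy : x * y ≠ y * x) : (x * y * x) * x * (x * y * x)⁻¹ = y := by
  have hb := h.braid hx hy hxy
  have hz : (x * y * x)⁻¹ = x * y * x := by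
    have : x * y * x ∈ D := h.conj_mem hx hy
    exact h.inv this
  rw [hz]
  calc x * y * x * x * (x * y * x) = x * y * (x * x) * (x * y * x) := by group
    _ = x * (y * x * y) * x := by rw [h.sq x hx]; group
    _ = x * (x * y * x) * x := by rw [hb]
    _ = (x * x) * y * (x * x) := by group
    _ = y := by rw [h.sq x hx, one_mul, mul_one]

/-- commuting members of `D` not commuting with `d` are conjugate under `Cd D d` -/
theorem conj_of_comm {D : Set G} (h : TSet D) {d a b : G} (hd : d ∈ D) (ha : a ∈ D) (hb : b ∈ D)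
    (had : a * d ≠ d * a) (hbd : b * d ≠ d * b) (hab : a * b = b * a) : RelC D d a b := by
  by_cases heq : a = b
  · rw [heq]; exact RelC.refl b
  · have h1 := h.cube ha hd had
    have h2 := h.cube hd hb (fun hh => hbd hh.symm)
    obtain ⟨w1, w2, -, -, -⟩ := s4_words (h.sq a ha) (h.sq d hd) (h.sq b hb) h1 h2 hab heq
    have heD : (a * b) * d * (a * b)⁻¹ ∈ D := h.conj _ d hd
    have heC : (a * b) * d * (a * b)⁻¹ ∈ Cd D d := mem_Cd heD w1
    have hdC : d ∈ Cd D d := mem_Cd hd rfl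
    exact ⟨d * ((a * b) * d * (a * b)⁻¹), Subgroup.mul_mem _ hdC heC, w2⟩

theorem not_comm_of_not_rel {D : Set G} (h : TSet D) {d x y : G} (hd : d ∈ D) (hx : x ∈ D)
    (hy : y ∈ D) (hxd : x * d ≠ d * x) (hyd : y * d ≠ d * y) (hr : ¬ RelC D d x y) :
    x * y ≠ y * x :=
  fun hh => hr (conj_of_comm h hd hx hy hxd hyd hh)

theorem third_not_comm {D : Set G} (h : TSet D) {d x y : G} (hd : d ∈ D) (hx : x ∈ D)
    (hy : y ∈ D) (hxd : x * d ≠ d * x) (hyd : y * d ≠ d * y) (hr : ¬ RelC D d x y) :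
    (x * y * x) * d ≠ d * (x * y * x) := by
  intro hh
  apply hr
  have hxy := not_comm_of_not_rel h hd hx hy hxd hyd hr
  exact ⟨x * y * x, mem_Cd (h.conj_mem hx hy) hh, third_conj h hx hy hxy⟩

/-- the key configuration -/
theorem key_rel {D : Set G} (h : TSet D) {d x y e : G} (hd : d ∈ D) (hx : x ∈ D)
    (hy : y ∈ D) (hxd : x * d ≠ d * x) (hyd : y * d ≠ d * y) (hr : ¬ RelC D d x y)
    (he : e ∈ D) (hed : e * d = d * e) (hey : e * y = y * e) (hex : e * x ≠ x * e) :
    RelC D d x (x * y * x) := by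
  have hxy := not_comm_of_not_rel h hd hx hy hxd hyd hr
  have hne : e ≠ y := by
    intro hh
    apply hyd
    rw [← hh]; exact hed
  obtain ⟨-, -, w3, -, -⟩ := s4_words (h.sq e he) (h.sq x hx) (h.sq y hy) (h.cube he hx hex)
    (h.cube hx hy hxy) hey hne
  have heC : e ∈ Cd D d := mem_Cd he hed
  have hx' : RelC D d x (e * x * e) := ⟨e, heC, by rw [h.inv he]⟩
  have hx'D : e * x * e ∈ D := h.conj_mem he hx
  have hx'd : (e * x * e) * d ≠ d * (e * x * e) := by
    have := conj_not_comm hed hxd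
    rwa [h.inv he] at this
  have hz := third_not_comm h hd hx hy hxd hyd hr
  have hzD : x * y * x ∈ D := h.conj_mem hx hy
  have h2 : RelC D d (x * y * x) (e * x * e) := conj_of_comm h hd hzD hx'D hz hx'd w3
  exact hx'.trans h2.symm

/-- comparability of the common commuting sets -/
theorem comparable_A {D : Set G} (h : TSet D) {d x y : G} (hd : d ∈ D) (hx : x ∈ D)
    (hy : y ∈ D) (hxd : x * d ≠ d * x) (hyd : y * d ≠ d * y) (hr : ¬ RelC D d x y) :
    (∀ e ∈ D, e * d = d * e → e * y = y * e → e * x = x * e) ∨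
    (∀ e ∈ D, e * d = d * e → e * x = x * e → e * y = y * e) := by
  by_contra hcon
  push Not at hcon
  obtain ⟨⟨e, he, hed, hey, hex⟩, ⟨e', he', hed', hex', hey'⟩⟩ := hcon
  have h1 := key_rel h hd hx hy hxd hyd hr he hed hey hex
  have hr' : ¬ RelC D d y x := fun hh => hr hh.symm
  have h2 := key_rel h hd hy hx hyd hxd hr' he' hed' hex' hey'
  have hxy := not_comm_of_not_rel h hd hx hy hxd hyd hr
  rw [← h.braid hx hy hxy] at h2
  exact hr (h1.trans h2.symm)

end Cfsg.Agent.Lib.Helper3.TT
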