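import Mathlib
import Cfsg.Agent.Lib.Helper3.TT15

set_option autoImplicit false

/-! Primitive 3-transposition groups have rank three: transitivity on the non-commuting members -/

namespace Cfsg.Agent.Lib.Helper3.TT

open Cfsg

universe u

variable {G : Type u} [Group G]

theorem normal_of_closure_eq_top {S : Set G} (hS : Subgroup.closure S = ⊤) (N : Subgroup G)
    (h1 : ∀ s ∈ S, ∀ n ∈ N, s * n * s⁻¹ ∈ N) (h2 : ∀ s ∈ S, ∀ n ∈ N, s⁻¹ * n * s ∈ N) :
    N.Normal := by
  have key : ∀ g : G, (∀ n ∈ N, g * n * g⁻¹ ∈ N) ∧ (∀ n ∈ N, g⁻¹ * n * g ∈ N) := by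
    intro g
    have hg : g ∈ Subgroup.closure S := by rw [hS]; trivial
    induction hg using Subgroup.closure_induction with
    | mem x hx => exact ⟨h1 x hx, h2 x hx⟩
    | one =>
      refine ⟨fun n hn => ?_, fun n hn => ?_⟩
      · simpa using hn
      · simpa using hn
    | mul x y _ _ hx hy =>
      refine ⟨fun n hn => ?_, fun n hn => ?_⟩
      · have := hx.1 _ (hy.1 n hn)
        have e : x * y * n * (x * y)⁻¹ = x * (y * n * y⁻¹) * x⁻¹ := by group
        rw [e]; exact this
      · have := hy.2 _ (hx.2 n hn)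
        have e : (x * y)⁻¹ * n * (x * y) = y⁻¹ * (x⁻¹ * n * x) * y := by group
        rw [e]; exact this
    | inv x _ hx =>
      refine ⟨fun n hn => ?_, fun n hn => ?_⟩
      · have := hx.2 n hn
        rwa [inv_inv]
      · have := hx.1 n hn
        rwa [inv_inv]
  exact ⟨fun n hn g => (key g).1 n hn⟩

section prim

variable [Finite G] {D : Set G}

/-- a member of `D` is not central -/
theorem not_central (hG : IsThreeTranspositionGroup D) (hprim : IsPrimitiveUnderConj D)
    (hw : ∃ a ∈ D, ∃ b ∈ D, a ≠ b ∧ Commute a b) {e : G} (he : e ∈ D) :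
    ∃ y ∈ D, y * e ≠ e * y := by
  obtain ⟨hD, -, -, -⟩ := primitive_structure hG hprim hw
  have hD2 : ∃ a ∈ D, ∃ b ∈ D, a ≠ b := by
    obtain ⟨a, ha, b, hb, hab, _⟩ := hw
    exact ⟨a, ha, b, hb, hab⟩
  exact exists_not_comm hD hD2 he

/-- the members of an orbit of `Cd D d` on the members of `D` not commuting with `d` generate
the group -/
theorem closure_orbit_eq_top (hG : IsThreeTranspositionGroup D) (hprim : IsPrimitiveUnderConj D)
    (hw : ∃ a ∈ D, ∃ b ∈ D, a ≠ b ∧ Commute a b) {d y₁ : G} (hd : d ∈ D) (hy₁ : y₁ ∈ D)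
    (hnc : y₁ * d ≠ d * y₁) : Subgroup.closure {y : G | RelC D d y₁ y} = ⊤ := by
  have h := TSet.of_group hG
  obtain ⟨hD, -, -, -⟩ := primitive_structure hG hprim hw
  set Γ : Set G := {y : G | RelC D d y₁ y} with hΓ
  set N : Subgroup G := Subgroup.closure Γ with hN
  have hΓD : Γ ⊆ D := by
    rintro y ⟨g, -, rfl⟩
    exact h.conj g y₁ hy₁
  have hy₁Γ : y₁ ∈ Γ := RelC.refl y₁
  have hdC : d ∈ Cd D d := mem_Cd hd rfl
  have htΓ : d * y₁ * d⁻¹ ∈ Γ := ⟨d, hdC, rfl⟩
  -- `d ∈ N`
  have hdN : d ∈ N := by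
    have e : d = y₁ * (d * y₁ * d⁻¹) * y₁⁻¹ := by
      rw [h.inv hd, h.inv hy₁]
      have hb := h.braid hy₁ hd hnc
      calc d = d * (y₁ * y₁) := by rw [h.sq y₁ hy₁, mul_one]
        _ = d * y₁ * (d * d) * y₁ := by rw [h.sq d hd]; group
        _ = (d * y₁ * d) * d * y₁ := by group
        _ = (y₁ * d * y₁) * d * y₁ := by rw [hb]
        _ = y₁ * (d * y₁ * d) * y₁ := by group
    rw [e]
    exact N.mul_mem (N.mul_mem (Subgroup.subset_closure hy₁Γ) (Subgroup.subset_closure htΓ))
      (N.inv_mem (Subgroup.subset_closure hy₁Γ))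
  -- the generated `D`-subgroup is everything
  set S : Set G := {y : G | y ∈ D ∧ Commute d y} ∪ Γ with hS
  have hSD : S ⊆ D := by
    rintro y (⟨hy, -⟩ | hy)
    · exact hy
    · exact hΓD hy
  have hM : Subgroup.closure S = ⊤ := by
    have hDS : IsDSubgroup D (Subgroup.closure S) := by
      unfold IsDSubgroup
      apply le_antisymm
      · rw [Subgroup.closure_le]
        rintro y ⟨-, hy⟩
        exact hy
      · apply Subgroup.closure_mono
        intro y hy
        exact ⟨hSD hy, Subgroup.subset_closure hy⟩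
    have hle : Cd D d ≤ Subgroup.closure S :=
      Subgroup.closure_mono Set.subset_union_left
    rcases (centralizer_maximal hG hprim hw hd).2 _ hDS hle with h1 | h1
    · exfalso
      have hy : y₁ ∈ Subgroup.closure S := Subgroup.subset_closure (Or.inr hy₁Γ)
      rw [h1] at hy
      exact hnc (Cd_comm hy)
    · exact h1
  -- `N` is normal
  have hconjΓ : ∀ s ∈ S, ∀ y ∈ Γ, s * y * s⁻¹ ∈ N := by
    rintro s (⟨hsD, hsc⟩ | hs) y hy
    · apply Subgroup.subset_closure
      have hsC : s ∈ Cd D d := Subgroup.subset_closure ⟨hsD, hsc⟩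
      exact RelC.trans hy ⟨s, hsC, rfl⟩
    · exact N.mul_mem (N.mul_mem (Subgroup.subset_closure hs) (Subgroup.subset_closure hy))
        (N.inv_mem (Subgroup.subset_closure hs))
  have hconjN : ∀ s ∈ S, ∀ n ∈ N, s * n * s⁻¹ ∈ N := by
    intro s hs n hn
    induction hn using Subgroup.closure_induction with
    | mem x hx => exact hconjΓ s hs x hx
    | one => simpa using N.one_mem
    | mul x y _ _ hx hy =>
      have e : s * (x * y) * s⁻¹ = (s * x * s⁻¹) * (s * y * s⁻¹) := by group
      rw [e]; exact N.mul_mem hx hy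
    | inv x _ hx =>
      have e : s * x⁻¹ * s⁻¹ = (s * x * s⁻¹)⁻¹ := by group
      rw [e]; exact N.inv_mem hx
  have hNn : N.Normal := by
    apply normal_of_closure_eq_top hM N hconjN
    intro s hs n hn
    have := hconjN s hs n hn
    rwa [h.inv (hSD hs)] at this ⊢
  -- a normal subgroup containing `d` contains `D`
  rw [eq_top_iff, ← hG.2.2, Subgroup.closure_le]
  intro x hx
  obtain ⟨g, hg⟩ := class_conj hD hd hx
  rw [← hg]
  exact hNn.conj_mem d hdN g

/-- `Cd D d` is transitive on the members of `D` not commuting with `d` -/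
theorem trans_A (hG : IsThreeTranspositionGroup D) (hprim : IsPrimitiveUnderConj D)
    (hw : ∃ a ∈ D, ∃ b ∈ D, a ≠ b ∧ Commute a b) {d : G} (hd : d ∈ D) :
    ∀ x ∈ D, ∀ y ∈ D, x * d ≠ d * x → y * d ≠ d * y → RelC D d x y := by
  classical
  have h := TSet.of_group hG
  obtain ⟨hD, -, -, -⟩ := primitive_structure hG hprim hw
  by_contra hcon
  push Not at hcon
  obtain ⟨x₁, hx₁, y₁, hy₁, hx₁d, hy₁d, hr₁⟩ := hcon
  -- the sets of common commuting members
  set E : G → Set G := fun x => {e : G | e ∈ D ∧ e * d = d * e ∧ e * x = x * e} with hE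
  set A : Set G := {x : G | x ∈ D ∧ x * d ≠ d * x} with hA
  obtain ⟨x₀, hx₀A, hmin⟩ := Set.exists_min_image A (fun x => (E x).ncard) (Set.toFinite A)
    ⟨x₁, hx₁, hx₁d⟩
  obtain ⟨hx₀, hx₀d⟩ := hx₀A
  -- members not conjugate to `x₀`
  have hTne : ∃ y₂ ∈ D, y₂ * d ≠ d * y₂ ∧ ¬ RelC D d x₀ y₂ := by
    by_cases h1 : RelC D d x₀ x₁
    · refine ⟨y₁, hy₁, hy₁d, fun h2 => hr₁ (h1.symm.trans h2)⟩
    · exact ⟨x₁, hx₁, hx₁d, h1⟩
  obtain ⟨y₂, hy₂, hy₂d, hr₂⟩ := hTne
  -- `E x₀ ⊆ E y` for `y` not conjugate to `x₀`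
  have claimB : ∀ y ∈ D, y * d ≠ d * y → ¬ RelC D d x₀ y →
      ∀ e ∈ D, e * d = d * e → e * x₀ = x₀ * e → e * y = y * e := by
    intro y hy hyd hr
    rcases comparable_A h hd hx₀ hy hx₀d hyd hr with h1 | h1
    · have hsub : E y ⊆ E x₀ := by
        rintro e ⟨he, hed, hey⟩
        exact ⟨he, hed, h1 e he hed hey⟩
      have hle : (E x₀).ncard ≤ (E y).ncard := hmin y ⟨hy, hyd⟩
      have heq : E y = E x₀ := Set.eq_of_subset_of_ncard_le hsub hle (Set.toFinite _)
      intro e he hed hex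
      have : e ∈ E y := by rw [heq]; exact ⟨he, hed, hex⟩
      exact this.2.2
    · exact h1
  -- `E x₀` is empty
  have claimC : ∀ e ∈ D, e * d = d * e → e * x₀ ≠ x₀ * e := by
    intro e he hed hex
    have hall : ∀ y, RelC D d y₂ y → e * y = y * e := by
      intro y hy
      have hyD : y ∈ D := by
        obtain ⟨g, -, rfl⟩ := hy
        exact h.conj g y₂ hy₂
      have hyd : y * d ≠ d * y := by
        obtain ⟨g, hg, rfl⟩ := hy
        exact conj_not_comm (Cd_comm hg) hy₂d
      have hr : ¬ RelC D d x₀ y := fun hh => hr₂ (hh.trans hy.symm)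
      exact claimB y hyD hyd hr e he hed hex
    have htop := closure_orbit_eq_top hG hprim hw hd hy₂ hy₂d
    have hcen : ∀ g : G, e * g = g * e := by
      intro g
      have hg : g ∈ Subgroup.closure {y : G | RelC D d y₂ y} := by rw [htop]; trivial
      have hle : Subgroup.closure {y : G | RelC D d y₂ y} ≤ Subgroup.centralizer {e} := by
        rw [Subgroup.closure_le]
        intro y hy
        show y ∈ Subgroup.centralizer {e}
        rw [Subgroup.mem_centralizer_iff]
        intro z hz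
        rw [Set.mem_singleton_iff] at hz
        rw [hz]
        exact hall y hy
      have := hle hg
      rw [Subgroup.mem_centralizer_iff] at this
      exact this e rfl
    obtain ⟨y, -, hy⟩ := not_central hG hprim hw he
    exact hy (hcen y).symm
  -- the same for the conjugates of `x₀`
  have claimD : ∀ x, RelC D d x₀ x → ∀ e ∈ D, e * d = d * e → e * x ≠ x * e := by
    rintro x ⟨g, hg, rfl⟩ e he hed hex
    have hgd := Cd_comm hg
    have hg' : g⁻¹ * d = d * g⁻¹ := by
      calc g⁻¹ * d = g⁻¹ * (d * g) * g⁻¹ := by group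
        _ = g⁻¹ * (g * d) * g⁻¹ := by rw [hgd]
        _ = d * g⁻¹ := by group
    apply claimC (g⁻¹ * e * g) (h.conj' he g)
    · calc g⁻¹ * e * g * d = g⁻¹ * e * (g * d) := by group
        _ = g⁻¹ * e * (d * g) := by rw [hgd]
        _ = g⁻¹ * (e * d) * g := by group
        _ = g⁻¹ * (d * e) * g := by rw [hed]
        _ = (g⁻¹ * d) * e * g := by group
        _ = (d * g⁻¹) * e * g := by rw [hg']
        _ = d * (g⁻¹ * e * g) := by group
    · calc g⁻¹ * e * g * x₀ = g⁻¹ * (e * (g * x₀ * g⁻¹)) * g := by group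
        _ = g⁻¹ * ((g * x₀ * g⁻¹) * e) * g := by rw [hex]
        _ = x₀ * (g⁻¹ * e * g) := by group
  -- the complement of the orbit of `x₀` is a module
  set M : Set G := {z : G | z ∈ D ∧ ¬ RelC D d x₀ z} with hM
  have hmod : IsMod D M := by
    refine ⟨fun z hz => hz.1, ?_⟩
    intro y hy hyM
    have hyr : RelC D d x₀ y := by
      by_contra hh
      exact hyM ⟨hy, hh⟩
    have hyd : y * d ≠ d * y := by
      obtain ⟨g, hg, rfl⟩ := hyr
      exact conj_not_comm (Cd_comm hg) hx₀d
    right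
    rintro a ⟨haD, har⟩
    by_cases had : a * d = d * a
    · exact claimD y hyr a haD had
    · intro hay
      have hr' : ¬ RelC D d a y := fun hh => har (hyr.trans hh.symm)
      exact not_comm_of_not_rel h hd haD hy had hyd hr' hay
  have hdM : d ∈ M := by
    refine ⟨hd, ?_⟩
    rintro ⟨g, hg, hgx⟩
    apply hx₀d
    have hgd := Cd_comm hg
    have e1 : x₀ = g⁻¹ * d * g := by rw [← hgx]; group
    have e2 : x₀ = d := by
      rw [e1]
      calc g⁻¹ * d * g = g⁻¹ * (d * g) := by group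
        _ = g⁻¹ * (g * d) := by rw [hgd]
        _ = d := by group
    rw [e2]
  have hns : ¬ M.Subsingleton := by
    intro hs
    have hy₂M : y₂ ∈ M := ⟨hy₂, hr₂⟩
    have := hs hdM hy₂M
    apply hy₂d
    rw [← this]
  have hMD := no_module hG hprim hw M hmod hns
  have : x₀ ∈ M := by rw [hMD]; exact hx₀
  exact this.2 (RelC.refl x₀)

end prim

end Cfsg.Agent.Lib.Helper3.TT
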