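import Mathlib
import Cfsg.Agent.Lib.Helper3.TT16

set_option autoImplicit false

/-! Primitive 3-transposition groups have rank three: transitivity on the commuting members -/

namespace Cfsg.Agent.Lib.Helper3.TT

open Cfsg

universe u

variable {G : Type u} [Group G]

/-- conjugacy under the centralizer of `d` -/
def RelZ (d b b' : G) : Prop := ∃ g : G, g * d = d * g ∧ g * b * g⁻¹ = b'

theorem RelZ.refl (d b : G) : RelZ d b b := ⟨1, by simp, by group⟩

theorem inv_comm_of_comm {g d : G} (hg : g * d = d * g) : g⁻¹ * d = d * g⁻¹ := by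
  calc g⁻¹ * d = g⁻¹ * (d * g) * g⁻¹ := by group
    _ = g⁻¹ * (g * d) * g⁻¹ := by rw [hg]
    _ = d * g⁻¹ := by group

theorem RelZ.symm {d b b' : G} : RelZ d b b' → RelZ d b' b := by
  rintro ⟨g, hg, rfl⟩
  exact ⟨g⁻¹, inv_comm_of_comm hg, by group⟩

theorem RelZ.trans {d b b' b'' : G} : RelZ d b b' → RelZ d b' b'' → RelZ d b b'' := by
  rintro ⟨g, hg, rfl⟩ ⟨k, hk, rfl⟩
  refine ⟨k * g, ?_, by group⟩
  calc k * g * d = k * (g * d) := by group
    _ = k * (d * g) := by rw [hg]
    _ = (k * d) * g := by group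
    _ = (d * k) * g := by rw [hk]
    _ = d * (k * g) := by group

/-- conjugation by an element commuting with `d` preserves commutation with `d` -/
theorem conj_comm {d g x : G} (hg : g * d = d * g) (hx : x * d = d * x) :
    (g * x * g⁻¹) * d = d * (g * x * g⁻¹) := by
  have hg' := inv_comm_of_comm hg
  calc g * x * g⁻¹ * d = g * x * (g⁻¹ * d) := by group
    _ = g * x * (d * g⁻¹) := by rw [hg']
    _ = g * (x * d) * g⁻¹ := by group
    _ = g * (d * x) * g⁻¹ := by rw [hx]
    _ = (g * d) * x * g⁻¹ := by group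
    _ = (d * g) * x * g⁻¹ := by rw [hg]
    _ = d * (g * x * g⁻¹) := by group

theorem conj_comm_iff {g x y : G} : (g * x * g⁻¹) * (g * y * g⁻¹) = (g * y * g⁻¹) * (g * x * g⁻¹) ↔
    x * y = y * x := by
  constructor
  · intro hh
    have e1 : g * x * g⁻¹ * (g * y * g⁻¹) = g * (x * y) * g⁻¹ := by group
    have e2 : g * y * g⁻¹ * (g * x * g⁻¹) = g * (y * x) * g⁻¹ := by group
    rw [e1, e2] at hh
    exact mul_left_cancel (mul_right_cancel hh)
  · intro hh
    have e1 : g * x * g⁻¹ * (g * y * g⁻¹) = g * (x * y) * g⁻¹ := by group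
    have e2 : g * y * g⁻¹ * (g * x * g⁻¹) = g * (y * x) * g⁻¹ := by group
    rw [e1, e2, hh]

/-- non-commuting members of `D` commuting with `d` are conjugate under the centralizer of `d` -/
theorem relZ_of_not_comm {D : Set G} (h : TSet D) {d b b' : G} (hb : b ∈ D) (hb' : b' ∈ D)
    (hbd : b * d = d * b) (hb'd : b' * d = d * b') (hn : b * b' ≠ b' * b) : RelZ d b b' := by
  refine ⟨b * b' * b, ?_, third_conj h hb hb' hn⟩
  calc b * b' * b * d = b * b' * (b * d) := by group
    _ = b * b' * (d * b) := by rw [hbd]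
    _ = b * (b' * d) * b := by group
    _ = b * (d * b') * b := by rw [hb'd]
    _ = (b * d) * b' * b := by group
    _ = (d * b) * b' * b := by rw [hbd]
    _ = d * (b * b' * b) := by group

/-- comparability of the sets of common non-commuting members -/
theorem comparable_D {D : Set G} (h : TSet D) {d b b' : G} (hd : d ∈ D) (hb : b ∈ D)
    (hb' : b' ∈ D) (hbne : b ≠ d) (hb'ne : b' ≠ d) (hbd : b * d = d * b) (hb'd : b' * d = d * b')
    (hr : ¬ RelZ d b b') :
    (∀ a ∈ D, a * d ≠ d * a → a * b ≠ b * a → a * b' ≠ b' * a) ∨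
    (∀ a ∈ D, a * d ≠ d * a → a * b' ≠ b' * a → a * b ≠ b * a) := by
  by_contra hcon
  push Not at hcon
  obtain ⟨⟨a, ha, had, hab, hab'⟩, ⟨a', ha', ha'd, ha'b', ha'b⟩⟩ := hcon
  have hbb' : b * b' = b' * b := by
    by_contra hn
    exact hr (relZ_of_not_comm h hb hb' hbd hb'd hn)
  -- the swapping elements
  obtain ⟨-, -, -, w4, w5⟩ := s4_words (h.sq d hd) (h.sq a ha) (h.sq b hb)
    (h.cube hd ha (fun hh => had hh.symm)) (h.cube ha hb hab) hbd.symm (Ne.symm hbne)
  obtain ⟨-, -, -, v4, v5⟩ := s4_words (h.sq d hd) (h.sq a' ha') (h.sq b' hb')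
    (h.cube hd ha' (fun hh => ha'd hh.symm)) (h.cube ha' hb' ha'b') hb'd.symm (Ne.symm hb'ne)
  set g := a * d * b * a with hg
  set k := a' * d * b' * a' with hk
  -- `g` centralizes `b'` and `k` centralizes `b`
  have hgb' : g * b' * g⁻¹ = b' := by
    have : g * b' = b' * g := by
      rw [hg]
      calc a * d * b * a * b' = a * d * b * (a * b') := by group
        _ = a * d * b * (b' * a) := by rw [hab']
        _ = a * d * (b * b') * a := by group
        _ = a * d * (b' * b) * a := by rw [hbb']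
        _ = a * (d * b') * b * a := by group
        _ = a * (b' * d) * b * a := by rw [hb'd]
        _ = (a * b') * d * b * a := by group
        _ = (b' * a) * d * b * a := by rw [hab']
        _ = b' * (a * d * b * a) := by group
    rw [this]; group
  have hkb : k * b * k⁻¹ = b := by
    have : k * b = b * k := by
      rw [hk]
      calc a' * d * b' * a' * b = a' * d * b' * (a' * b) := by group
        _ = a' * d * b' * (b * a') := by rw [ha'b]
        _ = a' * d * (b' * b) * a' := by group
        _ = a' * d * (b * b') * a' := by rw [hbb']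
        _ = a' * (d * b) * b' * a' := by group
        _ = a' * (b * d) * b' * a' := by rw [hbd]
        _ = (a' * b) * d * b' * a' := by group
        _ = (b * a') * d * b' * a' := by rw [ha'b]
        _ = b * (a' * d * b' * a') := by group
    rw [this]; group
  -- `w = g k g` fixes `d` and sends `b'` to `b`
  apply hr
  apply RelZ.symm
  refine ⟨g * k * g, ?_, ?_⟩
  · have e : (g * k * g) * d * (g * k * g)⁻¹ = d := by
      have e1 : (g * k * g) * d * (g * k * g)⁻¹ = g * (k * (g * d * g⁻¹) * k⁻¹) * g⁻¹ := by group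
      rw [e1, w5, hkb, w4]
    calc g * k * g * d = (g * k * g) * d * (g * k * g)⁻¹ * (g * k * g) := by group
      _ = d * (g * k * g) := by rw [e]
  · have e1 : (g * k * g) * b' * (g * k * g)⁻¹ = g * (k * (g * b' * g⁻¹) * k⁻¹) * g⁻¹ := by group
    rw [e1, hgb', v4, w5]

section prim

variable [Finite G] {D : Set G}

/-- the members of `D` not commuting with `d` generate the group -/
theorem closure_A_eq_top (hG : IsThreeTranspositionGroup D) (hprim : IsPrimitiveUnderConj D)
    (hw : ∃ a ∈ D, ∃ b ∈ D, a ≠ b ∧ Commute a b) {d : G} (hd : d ∈ D) :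
    Subgroup.closure {a : G | a ∈ D ∧ a * d ≠ d * a} = ⊤ := by
  obtain ⟨y, hy, hyd⟩ := not_central hG hprim hw hd
  have := closure_orbit_eq_top hG hprim hw hd hy hyd
  rw [eq_top_iff, ← this]
  apply Subgroup.closure_mono
  rintro z ⟨g, hg, rfl⟩
  exact ⟨(TSet.of_group hG).conj g y hy, conj_not_comm (Cd_comm hg) hyd⟩

/-- the centralizer of `d` is transitive on the members of `D` other than `d` commuting
with `d` -/
theorem trans_D (hG : IsThreeTranspositionGroup D) (hprim : IsPrimitiveUnderConj D)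
    (hw : ∃ a ∈ D, ∃ b ∈ D, a ≠ b ∧ Commute a b) {d : G} (hd : d ∈ D) :
    ∀ b ∈ D, ∀ b' ∈ D, b ≠ d → b' ≠ d → b * d = d * b → b' * d = d * b' → RelZ d b b' := by
  classical
  have h := TSet.of_group hG
  by_contra hcon
  push Not at hcon
  obtain ⟨b₁, hb₁, b₂, hb₂, hb₁ne, hb₂ne, hb₁d, hb₂d, hr₁⟩ := hcon
  set P : G → Set G := fun b => {a : G | a ∈ D ∧ a * d ≠ d * a ∧ a * b ≠ b * a} with hP
  set S' : Set G := {b : G | b ∈ D ∧ b ≠ d ∧ b * d = d * b} with hS'
  obtain ⟨b₀, hb₀S, hmax⟩ := Set.exists_max_image S' (fun b => (P b).ncard) (Set.toFinite S')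
    ⟨b₁, hb₁, hb₁ne, hb₁d⟩
  obtain ⟨hb₀, hb₀ne, hb₀d⟩ := hb₀S
  -- a member not conjugate to `b₀`
  obtain ⟨bs, hbs, hbsne, hbsd, hrs⟩ : ∃ bs ∈ D, bs ≠ d ∧ bs * d = d * bs ∧ ¬ RelZ d b₀ bs := by
    by_cases h1 : RelZ d b₀ b₁
    · exact ⟨b₂, hb₂, hb₂ne, hb₂d, fun h2 => hr₁ (h1.symm.trans h2)⟩
    · exact ⟨b₁, hb₁, hb₁ne, hb₁d, h1⟩
  -- `P b ⊆ P b₀` for `b` not conjugate to `b₀`
  have claimB : ∀ b ∈ D, b ≠ d → b * d = d * b → ¬ RelZ d b₀ b →
      ∀ a ∈ D, a * d ≠ d * a → a * b ≠ b * a → a * b₀ ≠ b₀ * a := by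
    intro b hb hbne hbd hr
    have hr' : ¬ RelZ d b b₀ := fun hh => hr hh.symm
    rcases comparable_D h hd hb hb₀ hbne hb₀ne hbd hb₀d hr' with h1 | h1
    · exact h1
    · have hsub : P b₀ ⊆ P b := by
        rintro a ⟨ha, had, hab₀⟩
        exact ⟨ha, had, h1 a ha had hab₀⟩
      have hle : (P b).ncard ≤ (P b₀).ncard := hmax b ⟨hb, hbne, hbd⟩
      have heq : P b₀ = P b := Set.eq_of_subset_of_ncard_le hsub hle (Set.toFinite _)
      intro a ha had hab
      have : a ∈ P b₀ := by rw [heq]; exact ⟨ha, had, hab⟩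
      exact this.2.2
  -- every member not commuting with `d` fails to commute with some member not conjugate to `b₀`
  have claimO : ∀ a ∈ D, a * d ≠ d * a →
      ∃ b ∈ D, b ≠ d ∧ b * d = d * b ∧ ¬ RelZ d b₀ b ∧ a * b ≠ b * a := by
    intro a₀ ha₀ ha₀d
    by_contra hcon
    push Not at hcon
    -- then `bs` commutes with every member not commuting with `d`
    have hall : ∀ a ∈ D, a * d ≠ d * a → a * bs = bs * a := by
      intro a ha had
      obtain ⟨g, hg, hga⟩ := trans_A hG hprim hw hd a₀ ha₀ a ha ha₀d had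
      have hgd := Cd_comm hg
      have hg' := inv_comm_of_comm hgd
      -- `g⁻¹ bs g` is again not conjugate to `b₀`
      have hbD : g⁻¹ * bs * g ∈ D := h.conj' hbs g
      have hbne : g⁻¹ * bs * g ≠ d := by
        intro hh
        apply hbsne
        have e : bs = g * (g⁻¹ * bs * g) * g⁻¹ := by group
        rw [e, hh]
        calc g * d * g⁻¹ = (g * d) * g⁻¹ := by group
          _ = (d * g) * g⁻¹ := by rw [hgd]
          _ = d := by group
      have hbd : (g⁻¹ * bs * g) * d = d * (g⁻¹ * bs * g) := by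
        have := conj_comm hg' hbsd
        rwa [inv_inv] at this
      have hbr : ¬ RelZ d b₀ (g⁻¹ * bs * g) := by
        intro hh
        apply hrs
        refine hh.trans ⟨g, hgd, by group⟩
      have hc := hcon (g⁻¹ * bs * g) hbD hbne hbd hbr
      -- conjugate back
      rw [← hga]
      have e : bs = g * (g⁻¹ * bs * g) * g⁻¹ := by group
      rw [e]
      exact conj_comm_iff.mpr hc
    have htop := closure_A_eq_top hG hprim hw hd
    have hcen : ∀ x : G, bs * x = x * bs := by
      intro x
      have hx : x ∈ Subgroup.closure {a : G | a ∈ D ∧ a * d ≠ d * a} := by rw [htop]; trivial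
      have hle : Subgroup.closure {a : G | a ∈ D ∧ a * d ≠ d * a} ≤ Subgroup.centralizer {bs} := by
        rw [Subgroup.closure_le]
        rintro y ⟨hy, hyd⟩
        show y ∈ Subgroup.centralizer {bs}
        rw [Subgroup.mem_centralizer_iff]
        intro z hz
        rw [Set.mem_singleton_iff] at hz
        rw [hz]
        exact (hall y hy hyd).symm
      have := hle hx
      rw [Subgroup.mem_centralizer_iff] at this
      exact this bs rfl
    obtain ⟨y, -, hy⟩ := not_central hG hprim hw hbs
    exact hy (hcen y).symm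
  -- every member not commuting with `d` fails to commute with `b₀`
  have claimS : ∀ a ∈ D, a * d ≠ d * a → a * b₀ ≠ b₀ * a := by
    intro a ha had
    obtain ⟨b, hb, hbne, hbd, hbr, hab⟩ := claimO a ha had
    exact claimB b hb hbne hbd hbr a ha had hab
  -- the module
  set M : Set G := {z : G | z = d ∨ (z ∈ D ∧ z ≠ d ∧ z * d = d * z ∧
    ∀ a ∈ D, a * d ≠ d * a → a * z ≠ z * a)} with hM
  have hmod : IsMod D M := by
    refine ⟨?_, ?_⟩
    · rintro z (rfl | ⟨hz, -⟩)
      · exact hd
      · exact hz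
    · intro y hy hyM
      by_cases hyd : y * d = d * y
      · left
        rintro a (rfl | ⟨haD, hane, had, hall⟩)
        · exact hyd.symm
        · by_contra hn
          apply hyM
          have hyne : y ≠ d := fun hh => hyM (Or.inl hh)
          -- `y` is conjugate to `a` under the centralizer of `d`
          obtain ⟨g, hg, hga⟩ := relZ_of_not_comm h haD hy had hyd hn
          right
          refine ⟨hy, hyne, hyd, ?_⟩
          intro c hc hcd
          have hg' := inv_comm_of_comm hg
          have hc' : g⁻¹ * c * g ∈ D := h.conj' hc g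
          have hc'd : (g⁻¹ * c * g) * d ≠ d * (g⁻¹ * c * g) := by
            have := conj_not_comm hg' hcd
            rwa [inv_inv] at this
          have := hall _ hc' hc'd
          intro hh
          apply this
          rw [← hga] at hh
          have e : c = g * (g⁻¹ * c * g) * g⁻¹ := by group
          rw [e] at hh
          exact conj_comm_iff.mp hh
      · right
        rintro a (rfl | ⟨haD, hane, had, hall⟩)
        · exact fun hh => hyd hh.symm
        · exact fun hh => hall y hy hyd hh.symm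
  have hdM : d ∈ M := Or.inl rfl
  have hb₀M : b₀ ∈ M := Or.inr ⟨hb₀, hb₀ne, hb₀d, claimS⟩
  have hns : ¬ M.Subsingleton := fun hs => hb₀ne (hs hb₀M hdM)
  have hMD := no_module hG hprim hw M hmod hns
  obtain ⟨y, hy, hyd⟩ := not_central hG hprim hw hd
  have : y ∈ M := by rw [hMD]; exact hy
  rcases this with rfl | ⟨-, -, hc, -⟩
  · exact hyd rfl
  · exact hyd hc

end prim

end Cfsg.Agent.Lib.Helper3.TT
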