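import Mathlib
import Cfsg.Agent.Lib.Helper3.TT17
import Cfsg.Agent.Lib.Helper3.SRG1

set_option autoImplicit false

/-! The members of `D` commuting with `d` form a connected set in the non-commuting graph
(primitive 3-transposition groups of width at least two). -/

namespace Cfsg.Agent.Lib.Helper3.TT

open Cfsg Finset

universe u

variable {G : Type u} [Group G] {D : Set G}

/-- conjugation as a permutation of `D` -/
def cjV (h : TSet D) (g : G) : {x : G // x ∈ D} ≃ {x : G // x ∈ D} where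
  toFun x := ⟨g * x.1 * g⁻¹, h.conj g x.1 x.2⟩
  invFun x := ⟨g⁻¹ * x.1 * g, h.conj' x.2 g⟩
  left_inv x := by apply Subtype.ext; simp only; group
  right_inv x := by apply Subtype.ext; simp only; group

theorem cjV_val (h : TSet D) (g : G) (x : {x : G // x ∈ D}) : (cjV h g x).1 = g * x.1 * g⁻¹ := rfl

/-- non-commuting, as adjacency on `D` -/
def nadj (D : Set G) (x y : {x : G // x ∈ D}) : Prop := x.1 * y.1 ≠ y.1 * x.1

theorem nadj_symm {x y : {x : G // x ∈ D}} (hxy : nadj D x y) : nadj D y x :=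
  fun hh => hxy hh.symm

theorem nadj_irrefl (x : {x : G // x ∈ D}) : ¬ nadj D x x := fun hh => hh rfl

theorem nadj_cjV (h : TSet D) (g : G) (x y : {x : G // x ∈ D}) :
    nadj D (cjV h g x) (cjV h g y) ↔ nadj D x y := by
  unfold nadj
  rw [cjV_val, cjV_val]
  exact not_congr conj_comm_iff

theorem pair_trans_A [Finite G] (h : TSet D) (hG : IsThreeTranspositionGroup D)
    (hprim : IsPrimitiveUnderConj D) (hw : ∃ a ∈ D, ∃ b ∈ D, a ≠ b ∧ Commute a b)
    (y1 y1' y2 y2' : {x : G // x ∈ D}) (h1 : nadj D y1 y1') (h2 : nadj D y2 y2') :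
    ∃ g : G, cjV h g y1 = y2 ∧ cjV h g y1' = y2' := by
  obtain ⟨g1, hg1⟩ := hprim.1 y1.1 y1.2 y2.1 y2.2
  have hwD : g1 * y1'.1 * g1⁻¹ ∈ D := h.conj g1 _ y1'.2
  have hw2 : (g1 * y1'.1 * g1⁻¹) * y2.1 ≠ y2.1 * (g1 * y1'.1 * g1⁻¹) := by
    rw [← hg1]
    intro hh
    exact h1 (conj_comm_iff.mp hh).symm
  obtain ⟨g2, hg2, hg2w⟩ := trans_A hG hprim hw y2.2 _ hwD y2'.1 y2'.2 hw2 (fun hh => h2 hh.symm)
  have hc := Cd_comm hg2
  refine ⟨g2 * g1, Subtype.ext ?_, Subtype.ext ?_⟩
  · rw [cjV_val]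
    calc g2 * g1 * y1.1 * (g2 * g1)⁻¹ = g2 * (g1 * y1.1 * g1⁻¹) * g2⁻¹ := by group
      _ = g2 * y2.1 * g2⁻¹ := by rw [hg1]
      _ = y2.1 := by rw [hc]; group
  · rw [cjV_val]
    calc g2 * g1 * y1'.1 * (g2 * g1)⁻¹ = g2 * (g1 * y1'.1 * g1⁻¹) * g2⁻¹ := by group
      _ = y2'.1 := hg2w

theorem pair_trans_D [Finite G] (h : TSet D) (hG : IsThreeTranspositionGroup D)
    (hprim : IsPrimitiveUnderConj D) (hw : ∃ a ∈ D, ∃ b ∈ D, a ≠ b ∧ Commute a b)
    (y1 y1' y2 y2' : {x : G // x ∈ D}) (hne1 : y1 ≠ y1') (h1 : ¬ nadj D y1 y1')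
    (hne2 : y2 ≠ y2') (h2 : ¬ nadj D y2 y2') :
    ∃ g : G, cjV h g y1 = y2 ∧ cjV h g y1' = y2' := by
  obtain ⟨g1, hg1⟩ := hprim.1 y1.1 y1.2 y2.1 y2.2
  have hwD : g1 * y1'.1 * g1⁻¹ ∈ D := h.conj g1 _ y1'.2
  have h1' : y1.1 * y1'.1 = y1'.1 * y1.1 := not_not.mp h1
  have h2' : y2.1 * y2'.1 = y2'.1 * y2.1 := not_not.mp h2
  have hw2 : (g1 * y1'.1 * g1⁻¹) * y2.1 = y2.1 * (g1 * y1'.1 * g1⁻¹) := by
    rw [← hg1]
    exact conj_comm_iff.mpr h1'.symm
  have hwne : g1 * y1'.1 * g1⁻¹ ≠ y2.1 := by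
    rw [← hg1]
    intro hh
    exact hne1 (Subtype.ext (mul_left_cancel (mul_right_cancel hh)).symm)
  have hne2' : y2'.1 ≠ y2.1 := fun hh => hne2 (Subtype.ext hh.symm)
  obtain ⟨g2, hc, hg2w⟩ := trans_D hG hprim hw y2.2 _ hwD y2'.1 y2'.2 hwne hne2' hw2 h2'.symm
  refine ⟨g2 * g1, Subtype.ext ?_, Subtype.ext ?_⟩
  · rw [cjV_val]
    calc g2 * g1 * y1.1 * (g2 * g1)⁻¹ = g2 * (g1 * y1.1 * g1⁻¹) * g2⁻¹ := by group
      _ = g2 * y2.1 * g2⁻¹ := by rw [hg1]
      _ = y2.1 := by rw [hc]; group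
  · rw [cjV_val]
    calc g2 * g1 * y1'.1 * (g2 * g1)⁻¹ = g2 * (g1 * y1'.1 * g1⁻¹) * g2⁻¹ := by group
      _ = y2'.1 := hg2w

/-- In a primitive 3-transposition group of width at least two, a non-empty subset of `D_d`
closed under non-commuting neighbours inside `D_d` is all of `D_d`. -/
theorem Dm_connected [Finite G] (hG : IsThreeTranspositionGroup D)
    (hprim : IsPrimitiveUnderConj D) (hw : ∃ a ∈ D, ∃ b ∈ D, a ≠ b ∧ Commute a b)
    {d : G} (hd : d ∈ D) (C : Set G) (hC : C ⊆ Dm D d) (hne : C.Nonempty)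
    (hcl : ∀ y ∈ C, ∀ z ∈ Dm D d, y * z ≠ z * y → z ∈ C) : C = Dm D d := by
  classical
  have hT := TSet.of_group hG
  by_contra hCne
  have hex : ∃ y2 ∈ Dm D d, y2 ∉ C := by
    by_contra hh
    push Not at hh
    exact hCne (Set.Subset.antisymm hC hh)
  obtain ⟨y2, hy2, hy2C⟩ := hex
  obtain ⟨y1, hy1⟩ := hne
  have hy1m := hC hy1
  haveI : Fintype G := Fintype.ofFinite G
  obtain ⟨e, he, hed⟩ := not_central hG hprim hw hd
  let dV : {x : G // x ∈ D} := ⟨d, hd⟩
  let eV : {x : G // x ∈ D} := ⟨e, he⟩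
  let y1V : {x : G // x ∈ D} := ⟨y1, hy1m.1⟩
  have hde : nadj D dV eV := fun hh => hed hh.symm
  have hdy1 : ¬ nadj D dV y1V := fun hh => hh hy1m.2.2.eq
  have hdy1ne : dV ≠ y1V := fun hh => hy1m.2.1 (Subtype.ext_iff.mp hh).symm
  obtain ⟨l, hl_def⟩ : ∃ l, l = (univ.filter (fun x : {x : G // x ∈ D} => nadj D x dV)).card :=
    ⟨_, rfl⟩
  obtain ⟨lam, hlam_def⟩ : ∃ lam, lam =
      (univ.filter (fun x : {x : G // x ∈ D} => nadj D x dV ∧ nadj D x eV)).card := ⟨_, rfl⟩
  obtain ⟨mu, hmu_def⟩ : ∃ mu, mu =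
      (univ.filter (fun x : {x : G // x ∈ D} => nadj D x dV ∧ nadj D x y1V)).card := ⟨_, rfl⟩
  have hinv1 : ∀ (g : G) (y : {x : G // x ∈ D}),
      (univ.filter (fun x => nadj D x (cjV hT g y))).card =
        (univ.filter (fun x => nadj D x y)).card := by
    intro g y
    symm
    apply Finset.card_equiv (cjV hT g)
    intro x
    simp only [Finset.mem_filter, Finset.mem_univ, true_and]
    exact (nadj_cjV hT g x y).symm
  have hinv2 : ∀ (g : G) (y y' : {x : G // x ∈ D}),
      (univ.filter (fun x => nadj D x (cjV hT g y) ∧ nadj D x (cjV hT g y'))).card =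
        (univ.filter (fun x => nadj D x y ∧ nadj D x y')).card := by
    intro g y y'
    symm
    apply Finset.card_equiv (cjV hT g)
    intro x
    simp only [Finset.mem_filter, Finset.mem_univ, true_and]
    rw [nadj_cjV hT g x y, nadj_cjV hT g x y']
  have hl : ∀ y : {x : G // x ∈ D}, (univ.filter (fun x => nadj D x y)).card = l := by
    intro y
    obtain ⟨g, hg⟩ := hprim.1 d hd y.1 y.2
    have : cjV hT g dV = y := Subtype.ext hg
    rw [← this, hinv1, hl_def]
  have hlam : ∀ y y' : {x : G // x ∈ D}, nadj D y y' →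
      (univ.filter (fun x => nadj D x y ∧ nadj D x y')).card = lam := by
    intro y y' hyy'
    obtain ⟨g, hg1, hg2⟩ := pair_trans_A hT hG hprim hw dV eV y y' hde hyy'
    rw [← hg1, ← hg2, hinv2, hlam_def]
  have hmu : ∀ y y' : {x : G // x ∈ D}, y ≠ y' → ¬ nadj D y y' →
      (univ.filter (fun x => nadj D x y ∧ nadj D x y')).card = mu := by
    intro y y' hne hyy'
    obtain ⟨g, hg1, hg2⟩ := pair_trans_D hT hG hprim hw dV y1V y y' hdy1ne hdy1 hne hyy'
    rw [← hg1, ← hg2, hinv2, hmu_def]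
  -- `mu < l`
  have hlt : mu < l := by
    by_contra hcon
    push Not at hcon
    have hS21 : (univ.filter (fun x : {x : G // x ∈ D} => nadj D x dV ∧ nadj D x y1V)) =
        univ.filter (fun x => nadj D x dV) := by
      apply Finset.eq_of_subset_of_card_le
      · intro x hx
        simp only [Finset.mem_filter, Finset.mem_univ, true_and] at hx ⊢
        exact hx.1
      · rw [← hl_def, ← hmu_def]; exact hcon
    have hS23 : (univ.filter (fun x : {x : G // x ∈ D} => nadj D x dV ∧ nadj D x y1V)) =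
        univ.filter (fun x => nadj D x y1V) := by
      apply Finset.eq_of_subset_of_card_le
      · intro x hx
        simp only [Finset.mem_filter, Finset.mem_univ, true_and] at hx ⊢
        exact hx.2
      · rw [hl y1V, ← hmu_def]; exact hcon
    have hiff : ∀ x : {x : G // x ∈ D}, nadj D x dV ↔ nadj D x y1V := by
      intro x
      have h1 : x ∈ univ.filter (fun x : {x : G // x ∈ D} => nadj D x dV) ↔
          x ∈ univ.filter (fun x : {x : G // x ∈ D} => nadj D x y1V) := by
        rw [← hS21, hS23]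
      simpa only [Finset.mem_filter, Finset.mem_univ, true_and] using h1
    have hs : SameP D d y1 := by
      intro e' he'
      have := hiff ⟨e', he'⟩
      unfold nadj at this
      simp only at this
      have h2 := not_iff_not.mp this
      constructor
      · intro hh
        exact (h2.mpr hh.symm).symm
      · intro hh
        exact (h2.mp hh.symm).symm
    exact hy1m.2.1 (primitive_V_trivial hG hprim hd hy1m.1 hs)
  -- apply the strongly regular graph lemma
  have hle : l ≤ lam + 1 := by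
    apply Cfsg.Agent.Lib.Helper3.SRG.srg_second (nadj D) (fun x y hxy => nadj_symm hxy)
      nadj_irrefl l lam mu hl hlam hmu dV
      (univ.filter (fun x : {x : G // x ∈ D} => x.1 ∈ C))
    · intro y hy
      simp only [Finset.mem_filter, Finset.mem_univ, true_and] at hy
      have hym := hC hy
      refine ⟨fun hh => hym.2.1 (Subtype.ext_iff.mp hh), fun hh => hh hym.2.2.eq.symm⟩
    · refine ⟨y1V, ?_⟩
      simp only [Finset.mem_filter, Finset.mem_univ, true_and]
      exact hy1
    · refine ⟨⟨y2, hy2.1⟩, fun hh => hy2.2.1 (Subtype.ext_iff.mp hh),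
        fun hh => hh hy2.2.2.eq.symm, ?_⟩
      simp only [Finset.mem_filter, Finset.mem_univ, true_and]
      exact hy2C
    · intro y hy z hzd hzad hyz
      simp only [Finset.mem_filter, Finset.mem_univ, true_and] at hy ⊢
      apply hcl y.1 hy z.1 ⟨z.2, fun hh => hzd (Subtype.ext hh), ?_⟩ hyz
      exact (not_not.mp hzad).symm
    · exact hlt
  -- neighbours of `d` other than `e` are neighbours of `e`, and conversely
  have hdvS : eV ∈ univ.filter (fun x : {x : G // x ∈ D} => nadj D x dV) := by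
    simp only [Finset.mem_filter, Finset.mem_univ, true_and]
    exact nadj_symm hde
  have hevS : dV ∈ univ.filter (fun x : {x : G // x ∈ D} => nadj D x eV) := by
    simp only [Finset.mem_filter, Finset.mem_univ, true_and]
    exact hde
  have hSab1 : (univ.filter (fun x : {x : G // x ∈ D} => nadj D x dV ∧ nadj D x eV)) =
      (univ.filter (fun x => nadj D x dV)).erase eV := by
    apply Finset.eq_of_subset_of_card_le
    · intro x hx
      simp only [Finset.mem_filter, Finset.mem_univ, true_and, Finset.mem_erase] at hx ⊢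
      refine ⟨?_, hx.1⟩
      rintro rfl
      exact nadj_irrefl _ hx.2
    · rw [Finset.card_erase_of_mem hdvS, ← hl_def, ← hlam_def]
      omega
  have hSab2 : (univ.filter (fun x : {x : G // x ∈ D} => nadj D x dV ∧ nadj D x eV)) =
      (univ.filter (fun x => nadj D x eV)).erase dV := by
    apply Finset.eq_of_subset_of_card_le
    · intro x hx
      simp only [Finset.mem_filter, Finset.mem_univ, true_and, Finset.mem_erase] at hx ⊢
      refine ⟨?_, hx.2⟩
      rintro rfl
      exact nadj_irrefl _ hx.1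
    · rw [Finset.card_erase_of_mem hevS, hl eV, ← hlam_def]
      omega
  have hN1 : ∀ x : {x : G // x ∈ D}, nadj D x dV → x ≠ eV → nadj D x eV := by
    intro x hx hxe
    have : x ∈ (univ.filter (fun x : {x : G // x ∈ D} => nadj D x dV)).erase eV := by
      simp only [Finset.mem_filter, Finset.mem_univ, true_and, Finset.mem_erase]
      exact ⟨hxe, hx⟩
    rw [← hSab1] at this
    simp only [Finset.mem_filter, Finset.mem_univ, true_and] at this
    exact this.2
  have hN2 : ∀ x : {x : G // x ∈ D}, nadj D x eV → x ≠ dV → nadj D x dV := by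
    intro x hx hxd
    have : x ∈ (univ.filter (fun x : {x : G // x ∈ D} => nadj D x eV)).erase dV := by
      simp only [Finset.mem_filter, Finset.mem_univ, true_and, Finset.mem_erase]
      exact ⟨hxd, hx⟩
    rw [← hSab2] at this
    simp only [Finset.mem_filter, Finset.mem_univ, true_and] at this
    exact this.1
  have hDm : Dm D d = Dm D e := by
    ext y
    rw [mem_Dm, mem_Dm]
    constructor
    · rintro ⟨hyD, hyd, hyc⟩
      refine ⟨hyD, ?_, ?_⟩
      · rintro rfl
        exact hed hyc.symm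
      · by_contra hyn
        have h1 : nadj D ⟨y, hyD⟩ eV := fun hh => hyn hh.symm
        have h2 := hN2 ⟨y, hyD⟩ h1 (fun hh => hyd (Subtype.ext_iff.mp hh))
        exact h2 hyc.symm
    · rintro ⟨hyD, hye, hyc⟩
      refine ⟨hyD, ?_, ?_⟩
      · rintro rfl
        exact hed hyc
      · by_contra hyn
        have h1 : nadj D ⟨y, hyD⟩ dV := fun hh => hyn hh.symm
        have h2 := hN1 ⟨y, hyD⟩ h1 (fun hh => hye (Subtype.ext_iff.mp hh))
        exact h2 hyc.symm
  have heW : e ∈ Wc D d := ⟨he, hDm⟩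
  have := primitive_W_trivial hG hprim hw hd heW
  rw [this] at hed
  exact hed rfl

end Cfsg.Agent.Lib.Helper3.TT
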