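import Mathlib
import Cfsg.Prelude.Def_FischerSpaces
import Cfsg.Agent.Lib.Helper3.Fs4
import Cfsg.Agent.Lib.Helper3.TT19

set_option autoImplicit false
set_option maxHeartbeats 4000000
set_option maxRecDepth 100000
set_option linter.unusedVariables false
set_option linter.unusedSectionVars false
set_option linter.style.haveILetI false
set_option linter.deprecated false

/-!
# Fischer's lemma on `O(⟨D_x⟩)`: the rank three context

Transitivity on ordered pairs, separation of the sets `Dd D u` (primitivity), and the fact that a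
member of `D` commuting with exactly one of two related members does not commute with the apex.
-/

namespace Cfsg.Agent.Lib.Helper3.Fs

open Cfsg Cfsg.Agent.Lib.Helper3.TT

universe u

variable {G : Type u} [Group G] {D : Set G}

/-- the standing hypotheses -/
structure Ctx (D : Set G) : Prop where
  ts : TSet D
  hG : IsThreeTranspositionGroup D
  hprim : IsPrimitiveUnderConj D
  hw : ∃ a ∈ D, ∃ b ∈ D, a ≠ b ∧ Commute a b

theorem Ctx.transC [Finite G] (c : Ctx D) {a b a' b' : G} (ha : a ∈ D) (hb : b ∈ D)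
    (ha' : a' ∈ D) (hb' : b' ∈ D) (hab : a ≠ b) (hc : a * b = b * a) (hab' : a' ≠ b')
    (hc' : a' * b' = b' * a') : ∃ g : G, g * a * g⁻¹ = a' ∧ g * b * g⁻¹ = b' := by
  obtain ⟨g, h1, h2⟩ := pair_trans_D c.ts c.hG c.hprim c.hw ⟨a, ha⟩ ⟨b, hb⟩ ⟨a', ha'⟩ ⟨b', hb'⟩
    (fun h => hab (congrArg Subtype.val h)) (fun h => h hc)
    (fun h => hab' (congrArg Subtype.val h)) (fun h => h hc')
  exact ⟨g, congrArg Subtype.val h1, congrArg Subtype.val h2⟩

theorem Ctx.transN [Finite G] (c : Ctx D) {a b a' b' : G} (ha : a ∈ D) (hb : b ∈ D)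
    (ha' : a' ∈ D) (hb' : b' ∈ D) (hc : a * b ≠ b * a) (hc' : a' * b' ≠ b' * a') :
    ∃ g : G, g * a * g⁻¹ = a' ∧ g * b * g⁻¹ = b' := by
  obtain ⟨g, h1, h2⟩ := pair_trans_A c.ts c.hG c.hprim c.hw ⟨a, ha⟩ ⟨b, hb⟩ ⟨a', ha'⟩ ⟨b', hb'⟩
    hc hc'
  exact ⟨g, congrArg Subtype.val h1, congrArg Subtype.val h2⟩

theorem Ctx.trans1 (c : Ctx D) {a a' : G} (ha : a ∈ D) (ha' : a' ∈ D) :
    ∃ g : G, g * a * g⁻¹ = a' := c.hprim.1 a ha a' ha'

theorem Dd_conj_image (h : TSet D) (g d : G) :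
    Dd D (g * d * g⁻¹) = (fun y => g * y * g⁻¹) '' Dd D d := by
  ext y
  constructor
  · intro hy
    refine ⟨g⁻¹ * y * g, ?_, by group⟩
    have := Dd_conj h g⁻¹ hy
    have e : g⁻¹ * (g * d * g⁻¹) * g⁻¹⁻¹ = d := by group
    rw [e, inv_inv] at this
    exact this
  · rintro ⟨z, hz, rfl⟩
    exact Dd_conj h g hz

theorem Dd_conj_iff (h : TSet D) (g : G) {d y : G} :
    g * y * g⁻¹ ∈ Dd D (g * d * g⁻¹) ↔ y ∈ Dd D d := by
  constructor
  · intro hy
    have := Dd_conj h g⁻¹ hy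
    have e : g⁻¹ * (g * d * g⁻¹) * g⁻¹⁻¹ = d := by group
    have e2 : g⁻¹ * (g * y * g⁻¹) * g⁻¹⁻¹ = y := by group
    rw [e, e2] at this
    exact this
  · exact Dd_conj h g

theorem conj_image_image (g : G) (S : Set G) :
    (fun y => g⁻¹ * y * g⁻¹⁻¹) '' ((fun y => g * y * g⁻¹) '' S) = S := by
  ext y
  constructor
  · rintro ⟨_, ⟨z, hz, rfl⟩, rfl⟩
    have e : g⁻¹ * (g * z * g⁻¹) * g⁻¹⁻¹ = z := by group
    show g⁻¹ * (g * z * g⁻¹) * g⁻¹⁻¹ ∈ S
    rw [e]; exact hz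
  · intro hy
    exact ⟨g * y * g⁻¹, ⟨y, hy, rfl⟩, by group⟩

theorem Ctx.Dd_inj [Finite G] (c : Ctx D) {u u' : G} (hu : u ∈ D) (hu' : u' ∈ D)
    (he : Dd D u = Dd D u') : u = u' := by
  have h := c.ts
  set T : Set G := {w | w ∈ D ∧ Dd D w = Dd D u} with hT
  have hTD : T ⊆ D := fun w hw => hw.1
  have hblock : ∀ g : G, (fun x => g * x * g⁻¹) '' T = T ∨
      Disjoint ((fun x => g * x * g⁻¹) '' T) T := by
    intro g
    by_cases hdisj : Disjoint ((fun x => g * x * g⁻¹) '' T) T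
    · right; exact hdisj
    · left
      rw [Set.not_disjoint_iff] at hdisj
      obtain ⟨z, ⟨w, hw, rfl⟩, hz⟩ := hdisj
      -- `Dd (g w g⁻¹) = Dd u = Dd w`
      have hkey : (fun y => g * y * g⁻¹) '' Dd D u = Dd D u := by
        rw [← hw.2, ← Dd_conj_image h g w]
        rw [hw.2]; exact hz.2
      apply Set.Subset.antisymm
      · rintro _ ⟨w₂, hw₂, rfl⟩
        refine ⟨h.conj g w₂ hw₂.1, ?_⟩
        rw [Dd_conj_image h g w₂, hw₂.2, hkey]
      · intro t ht
        refine ⟨g⁻¹ * t * g, ⟨?_, ?_⟩, by group⟩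
        · have := h.conj g⁻¹ t ht.1
          rw [inv_inv] at this; exact this
        · have e1 : g⁻¹ * t * g = g⁻¹ * t * g⁻¹⁻¹ := by rw [inv_inv]
          rw [e1, Dd_conj_image h g⁻¹ t, ht.2]
          conv_lhs => rw [← hkey]
          exact conj_image_image g (Dd D u)
  rcases c.hprim.2.2 T hTD hblock with hsub | hall
  · exact hsub ⟨hu, rfl⟩ ⟨hu', he.symm⟩
  · exfalso
    obtain ⟨a, ha, b, hb, hab, hcomm⟩ := c.hw
    have haT : a ∈ T := by rw [hall]; exact ha
    have hbT : b ∈ T := by rw [hall]; exact hb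
    have hbDa : b ∈ Dd D a := ⟨hb, fun hh => hab hh.symm, hcomm⟩
    rw [haT.2, ← hbT.2] at hbDa
    exact hbDa.2.1 rfl

theorem Ctx.ncard_Dd [Finite G] (c : Ctx D) {u u' : G} (hu : u ∈ D) (hu' : u' ∈ D) :
    (Dd D u).ncard = (Dd D u').ncard := by
  obtain ⟨g, hg⟩ := c.trans1 hu hu'
  rw [← hg, Dd_conj_image c.ts g u]
  symm
  apply Set.ncard_image_of_injective
  intro a b hab
  exact mul_left_cancel (mul_right_cancel hab)

/-- primitivity: the sets `Dd D u` separate the members of `D` -/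
theorem Ctx.exists_sep [Finite G] (c : Ctx D) {u u' : G} (hu : u ∈ D) (hu' : u' ∈ D)
    (hne : u ≠ u') : ∃ e ∈ Dd D u, e ∉ Dd D u' := by
  by_contra hcon
  push Not at hcon
  have hsub : Dd D u ⊆ Dd D u' := hcon
  have heq : Dd D u = Dd D u' :=
    Set.eq_of_subset_of_ncard_le hsub (le_of_eq (c.ncard_Dd hu hu').symm) (Set.toFinite _)
  exact hne (c.Dd_inj hu hu' heq)

/-- a member of `D` commuting with exactly one of two related members does not commute with the
apex -/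
theorem sep_ncomm [Finite G] (h : TSet D) {d u u' e : G} (hd : d ∈ D) (hu : u ∈ Dd D d)
    (hu' : u' ∈ Dd D d) (ht : tw D d u u') (he : e ∈ Dd D u) (he' : e ∉ Dd D u') :
    e * d ≠ d * e := by
  intro hc
  have hed : e ≠ d := by
    intro hh
    apply he'
    rw [hh]
    exact Dd_symm hd hu'
  have heD : e ∈ Dd D d := ⟨he.1, hed, hc.symm⟩
  have := tw_twins h hu hu' ht heD he.2.1 he.2.2.eq.symm
  exact he' ⟨he.1, this.2, this.1.symm⟩

end Cfsg.Agent.Lib.Helper3.Fs
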