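import Mathlib
import Cfsg.Agent.Lib.Helper3.Fs5

set_option autoImplicit false
set_option maxHeartbeats 4000000
set_option maxRecDepth 100000
set_option linter.unusedVariables false
set_option linter.unusedSectionVars false
set_option linter.style.haveILetI false
set_option linter.deprecated false

/-!
# Fischer's lemma on `O(⟨D_x⟩)`: parameters and double counting
-/

namespace Cfsg.Agent.Lib.Helper3.Fs

open Cfsg Cfsg.Agent.Lib.Helper3.TT
open Classical

noncomputable section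

universe u

variable {G : Type u} [Group G] [Fintype G] {D : Set G}

/-- `Dd D d` as a finset -/
def DdF (D : Set G) (d : G) : Finset G := Finset.univ.filter (fun y => y ∈ Dd D d)

/-- the members of `D` not commuting with `d` -/
def AdF (D : Set G) (d : G) : Finset G := Finset.univ.filter (fun y => y ∈ D ∧ d * y ≠ y * d)

/-- the common part of `Dd D d` and `Dd D u` -/
def LamF (D : Set G) (d u : G) : Finset G :=
  Finset.univ.filter (fun y => y ∈ Dd D d ∧ y ∈ Dd D u)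

/-- the class of `u` in `Dd D d` -/
def BlF (D : Set G) (d u : G) : Finset G :=
  Finset.univ.filter (fun u' => u' ∈ Dd D d ∧ tw D d u u')

/-- the apexes of the pair `u, u'` -/
def XF (D : Set G) (u u' : G) : Finset G :=
  Finset.univ.filter (fun d => d ∈ D ∧ u ∈ Dd D d ∧ u' ∈ Dd D d ∧ tw D d u u')

theorem mem_DdF {d y : G} : y ∈ DdF D d ↔ y ∈ Dd D d := by simp [DdF]

theorem mem_AdF {d y : G} : y ∈ AdF D d ↔ y ∈ D ∧ d * y ≠ y * d := by simp [AdF]

theorem mem_LamF {d u y : G} : y ∈ LamF D d u ↔ y ∈ Dd D d ∧ y ∈ Dd D u := by simp [LamF]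

theorem mem_BlF {d u u' : G} : u' ∈ BlF D d u ↔ u' ∈ Dd D d ∧ tw D d u u' := by simp [BlF]

theorem mem_XF {u u' d : G} :
    d ∈ XF D u u' ↔ d ∈ D ∧ u ∈ Dd D d ∧ u' ∈ Dd D d ∧ tw D d u u' := by simp [XF]

theorem card_conj_eq (S S' : Finset G) (g : G) (h1 : ∀ y ∈ S, g * y * g⁻¹ ∈ S')
    (h2 : ∀ y ∈ S', g⁻¹ * y * g ∈ S) : S.card = S'.card := by
  apply Finset.card_bij (fun y _ => g * y * g⁻¹) h1
  · intro a _ b _ hab
    exact mul_left_cancel (mul_right_cancel hab)
  · intro y hy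
    exact ⟨g⁻¹ * y * g, h2 y hy, by group⟩

theorem D_conj_iff (h : TSet D) (g : G) {y : G} : g * y * g⁻¹ ∈ D ↔ y ∈ D := by
  constructor
  · intro hy
    have := h.conj g⁻¹ _ hy
    have e : g⁻¹ * (g * y * g⁻¹) * g⁻¹⁻¹ = y := by group
    rw [e] at this
    exact this
  · exact h.conj g y

theorem card_DdF_conj (h : TSet D) (g d : G) : (DdF D (g * d * g⁻¹)).card = (DdF D d).card := by
  symm
  apply card_conj_eq _ _ g
  · intro y hy
    rw [mem_DdF] at hy ⊢
    exact Dd_conj h g hy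
  · intro y hy
    rw [mem_DdF] at hy ⊢
    have e : y = g * (g⁻¹ * y * g) * g⁻¹ := by group
    rw [e] at hy
    exact (Dd_conj_iff h g).mp hy

theorem card_AdF_conj (h : TSet D) (g d : G) : (AdF D (g * d * g⁻¹)).card = (AdF D d).card := by
  symm
  apply card_conj_eq _ _ g
  · intro y hy
    rw [mem_AdF] at hy ⊢
    exact ⟨h.conj g y hy.1, fun hc => hy.2 (conj_comm_iff.mp hc)⟩
  · intro y hy
    rw [mem_AdF] at hy ⊢
    have e : y = g * (g⁻¹ * y * g) * g⁻¹ := by group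
    rw [e] at hy
    exact ⟨(D_conj_iff h g).mp hy.1, fun hc => hy.2 (conj_comm_iff.mpr hc)⟩

theorem card_LamF_conj (h : TSet D) (g d u : G) :
    (LamF D (g * d * g⁻¹) (g * u * g⁻¹)).card = (LamF D d u).card := by
  symm
  apply card_conj_eq _ _ g
  · intro y hy
    rw [mem_LamF] at hy ⊢
    exact ⟨Dd_conj h g hy.1, Dd_conj h g hy.2⟩
  · intro y hy
    rw [mem_LamF] at hy ⊢
    have e : y = g * (g⁻¹ * y * g) * g⁻¹ := by group
    rw [e] at hy
    exact ⟨(Dd_conj_iff h g).mp hy.1, (Dd_conj_iff h g).mp hy.2⟩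

theorem card_BlF_conj (h : TSet D) (g d u : G) :
    (BlF D (g * d * g⁻¹) (g * u * g⁻¹)).card = (BlF D d u).card := by
  symm
  apply card_conj_eq _ _ g
  · intro y hy
    rw [mem_BlF] at hy ⊢
    exact ⟨Dd_conj h g hy.1, tw_conj h g hy.2⟩
  · intro y hy
    rw [mem_BlF] at hy ⊢
    have e : y = g * (g⁻¹ * y * g) * g⁻¹ := by group
    rw [e] at hy
    exact ⟨(Dd_conj_iff h g).mp hy.1, (tw_conj_iff h g).mp hy.2⟩

theorem card_XF_conj (h : TSet D) (g u u' : G) :
    (XF D (g * u * g⁻¹) (g * u' * g⁻¹)).card = (XF D u u').card := by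
  symm
  apply card_conj_eq _ _ g
  · intro y hy
    rw [mem_XF] at hy ⊢
    exact ⟨h.conj g y hy.1, Dd_conj h g hy.2.1, Dd_conj h g hy.2.2.1, tw_conj h g hy.2.2.2⟩
  · intro y hy
    rw [mem_XF] at hy ⊢
    have e : y = g * (g⁻¹ * y * g) * g⁻¹ := by group
    rw [e] at hy
    exact ⟨(D_conj_iff h g).mp hy.1, (Dd_conj_iff h g).mp hy.2.1, (Dd_conj_iff h g).mp hy.2.2.1,
      (tw_conj_iff h g).mp hy.2.2.2⟩

/-- the parameters -/
structure Par (D : Set G) (K L Lam Mu T Tau : ℕ) : Prop where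
  hk : ∀ d ∈ D, (DdF D d).card = K
  hl : ∀ d ∈ D, (AdF D d).card = L
  hlam : ∀ d ∈ D, ∀ u ∈ Dd D d, (LamF D d u).card = Lam
  hmu : ∀ u ∈ D, ∀ u' ∈ D, u * u' ≠ u' * u → (LamF D u u').card = Mu
  ht : ∀ d ∈ D, ∀ u ∈ Dd D d, (BlF D d u).card = T
  htau : ∀ u ∈ D, ∀ u' ∈ D, u * u' ≠ u' * u → (XF D u u').card = Tau

theorem par_exists (c : Ctx D) {x₀ y₀ a₀ b₀ : G} (hx₀ : x₀ ∈ D) (hy₀ : y₀ ∈ Dd D x₀)
    (ha₀ : a₀ ∈ D) (hb₀ : b₀ ∈ D) (hnc : a₀ * b₀ ≠ b₀ * a₀) :
    Par D (DdF D x₀).card (AdF D x₀).card (LamF D x₀ y₀).card (LamF D a₀ b₀).card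
      (BlF D x₀ y₀).card (XF D a₀ b₀).card := by
  have h := c.ts
  refine ⟨?_, ?_, ?_, ?_, ?_, ?_⟩
  · intro d hd
    obtain ⟨g, hg⟩ := c.trans1 hx₀ hd
    rw [← hg]; exact card_DdF_conj h g x₀
  · intro d hd
    obtain ⟨g, hg⟩ := c.trans1 hx₀ hd
    rw [← hg]; exact card_AdF_conj h g x₀
  · intro d hd u hu
    obtain ⟨g, hg1, hg2⟩ := c.transC hx₀ hy₀.1 hd hu.1 (fun hh => hy₀.2.1 hh.symm) hy₀.2.2.eq
      (fun hh => hu.2.1 hh.symm) hu.2.2.eq
    rw [← hg1, ← hg2]; exact card_LamF_conj h g x₀ y₀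
  · intro u hu u' hu' hn
    obtain ⟨g, hg1, hg2⟩ := c.transN ha₀ hb₀ hu hu' hnc hn
    rw [← hg1, ← hg2]; exact card_LamF_conj h g a₀ b₀
  · intro d hd u hu
    obtain ⟨g, hg1, hg2⟩ := c.transC hx₀ hy₀.1 hd hu.1 (fun hh => hy₀.2.1 hh.symm) hy₀.2.2.eq
      (fun hh => hu.2.1 hh.symm) hu.2.2.eq
    rw [← hg1, ← hg2]; exact card_BlF_conj h g x₀ y₀
  · intro u hu u' hu' hn
    obtain ⟨g, hg1, hg2⟩ := c.transN ha₀ hb₀ hu hu' hnc hn
    rw [← hg1, ← hg2]; exact card_XF_conj h g a₀ b₀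

/-- double counting -/
theorem dcount (s t : Finset G) (r : G → G → Prop) (m n : ℕ)
    (h1 : ∀ a ∈ s, (t.filter (fun b => r a b)).card = m)
    (h2 : ∀ b ∈ t, (s.filter (fun a => r a b)).card = n) : s.card * m = t.card * n := by
  have e1 : ∑ a ∈ s, (t.filter (fun b => r a b)).card = s.card * m := by
    rw [Finset.sum_congr rfl h1, Finset.sum_const, smul_eq_mul]
  have e2 : ∑ b ∈ t, (s.filter (fun a => r a b)).card = t.card * n := by
    rw [Finset.sum_congr rfl h2, Finset.sum_const, smul_eq_mul]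
  rw [← e1, ← e2]
  simp_rw [Finset.card_filter]
  exact Finset.sum_comm

variable {K L Lam Mu T Tau : ℕ}

/-- `l μ = k (k - λ - 1)` -/
theorem Par.eq_ii (c : Ctx D) (p : Par D K L Lam Mu T Tau) {x : G} (hx : x ∈ D) :
    ∃ E : ℕ, K = 1 + Lam + E ∧ K * E = L * Mu ∧
      ∀ f ∈ Dd D x, ((AdF D x).filter (fun b => f * b = b * f)).card = E := by
  have h := c.ts
  -- for `f ∈ Dd D x`: `Dd D f = {x} ∪ Λ(x, f) ∪ (A_x ∩ Dd D f)`
  have hsplit : ∀ f ∈ Dd D x,
      K = 1 + Lam + ((AdF D x).filter (fun b => f * b = b * f)).card := by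
    intro f hf
    have hfD := hf.1
    have hU : DdF D f = insert x (LamF D x f ∪ (AdF D x).filter (fun b => f * b = b * f)) := by
      ext y
      simp only [mem_DdF, Finset.mem_insert, Finset.mem_union, mem_LamF, Finset.mem_filter,
        mem_AdF]
      constructor
      · intro hy
        by_cases hyx : y = x
        · left; exact hyx
        · right
          by_cases hc : x * y = y * x
          · left; exact ⟨⟨hy.1, hyx, hc⟩, hy⟩
          · right; exact ⟨⟨hy.1, hc⟩, hy.2.2.eq⟩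
      · rintro (rfl | ⟨_, hy⟩ | ⟨hy, hc⟩)
        · exact Dd_symm hx hf
        · exact hy
        · refine ⟨hy.1, ?_, hc⟩
          intro hyf
          apply hy.2
          rw [hyf]; exact hf.2.2.eq
    have hdisj : Disjoint (LamF D x f) ((AdF D x).filter (fun b => f * b = b * f)) := by
      rw [Finset.disjoint_left]
      intro y hy1 hy2
      rw [mem_LamF] at hy1
      rw [Finset.mem_filter, mem_AdF] at hy2
      exact hy2.1.2 hy1.1.2.2.eq
    have hnot : x ∉ LamF D x f ∪ (AdF D x).filter (fun b => f * b = b * f) := by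
      rw [Finset.mem_union, mem_LamF, Finset.mem_filter, mem_AdF]
      rintro (h1 | h2)
      · exact h1.1.2.1 rfl
      · exact h2.1.2 rfl
    have := p.hk f hfD
    rw [hU, Finset.card_insert_of_notMem hnot, Finset.card_union_of_disjoint hdisj,
      p.hlam x hx f hf] at this
    omega
  by_cases hne : (Dd D x).Nonempty
  · obtain ⟨f₀, hf₀⟩ := hne
    refine ⟨((AdF D x).filter (fun b => f₀ * b = b * f₀)).card, hsplit f₀ hf₀, ?_, ?_⟩
    · have hE : ∀ f ∈ DdF D x, ((AdF D x).filter (fun b => f * b = b * f)).card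
          = ((AdF D x).filter (fun b => f₀ * b = b * f₀)).card := by
        intro f hf
        rw [mem_DdF] at hf
        have h1 := hsplit f hf
        have h2 := hsplit f₀ hf₀
        omega
      have hM : ∀ b ∈ AdF D x, ((DdF D x).filter (fun f => f * b = b * f)).card = Mu := by
        intro b hb
        rw [mem_AdF] at hb
        rw [← p.hmu x hx b hb.1 hb.2]
        congr 1
        ext y
        simp only [Finset.mem_filter, mem_DdF, mem_LamF]
        constructor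
        · rintro ⟨hy, hc⟩
          refine ⟨hy, hy.1, ?_, hc.symm⟩
          intro hyb
          apply hb.2
          rw [← hyb]; exact hy.2.2.eq
        · rintro ⟨hy, hy2⟩
          exact ⟨hy, hy2.2.2.eq.symm⟩
      have := dcount (DdF D x) (AdF D x) (fun f b => f * b = b * f) _ _ hE hM
      rw [p.hk x hx, p.hl x hx] at this
      exact this
    · intro f hf
      have h1 := hsplit f hf
      have h2 := hsplit f₀ hf₀
      omega
  · -- `Dd D x` empty: `K = 0`
    exfalso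
    apply hne
    obtain ⟨a, ha, b, hb, hab, hcomm⟩ := c.hw
    obtain ⟨g, hg⟩ := c.trans1 ha hx
    refine ⟨g * b * g⁻¹, ?_⟩
    rw [← hg]
    exact Dd_conj h g ⟨hb, fun hh => hab hh.symm, hcomm⟩

/-- `l τ = k (t - 1)` -/
theorem Par.eq_iii (c : Ctx D) (p : Par D K L Lam Mu T Tau) {x : G} (hx : x ∈ D) :
    ∃ T' : ℕ, T = 1 + T' ∧ K * T' = L * Tau := by
  have h := c.ts
  have hsplit : ∀ f ∈ Dd D x,
      T = 1 + ((AdF D x).filter (fun b => b ∈ Dd D f ∧ tw D f x b)).card := by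
    intro f hf
    have hxf : x ∈ Dd D f := Dd_symm hx hf
    have hU : BlF D f x = insert x ((AdF D x).filter (fun b => b ∈ Dd D f ∧ tw D f x b)) := by
      ext y
      simp only [mem_BlF, Finset.mem_insert, Finset.mem_filter, mem_AdF]
      constructor
      · rintro ⟨hy, ht⟩
        by_cases hyx : y = x
        · left; exact hyx
        · right
          exact ⟨⟨hy.1, tw_ncomm h hx hy.1 ht (fun hh => hyx hh.symm)⟩, hy, ht⟩
      · rintro (rfl | ⟨_, hy, ht⟩)
        · exact ⟨hxf, tw_refl h f hx⟩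
        · exact ⟨hy, ht⟩
    have hnot : x ∉ (AdF D x).filter (fun b => b ∈ Dd D f ∧ tw D f x b) := by
      rw [Finset.mem_filter, mem_AdF]
      rintro ⟨h1, _⟩
      exact h1.2 rfl
    have := p.ht f hf.1 x hxf
    rw [hU, Finset.card_insert_of_notMem hnot] at this
    omega
  have hne : (Dd D x).Nonempty := by
    obtain ⟨a, ha, b, hb, hab, hcomm⟩ := c.hw
    obtain ⟨g, hg⟩ := c.trans1 ha hx
    refine ⟨g * b * g⁻¹, ?_⟩
    rw [← hg]
    exact Dd_conj h g ⟨hb, fun hh => hab hh.symm, hcomm⟩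
  obtain ⟨f₀, hf₀⟩ := hne
  refine ⟨((AdF D x).filter (fun b => b ∈ Dd D f₀ ∧ tw D f₀ x b)).card, hsplit f₀ hf₀, ?_⟩
  have hE : ∀ f ∈ DdF D x, ((AdF D x).filter (fun b => b ∈ Dd D f ∧ tw D f x b)).card
      = ((AdF D x).filter (fun b => b ∈ Dd D f₀ ∧ tw D f₀ x b)).card := by
    intro f hf
    rw [mem_DdF] at hf
    have h1 := hsplit f hf
    have h2 := hsplit f₀ hf₀
    omega
  have hM : ∀ b ∈ AdF D x, ((DdF D x).filter (fun f => b ∈ Dd D f ∧ tw D f x b)).card = Tau := by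
    intro b hb
    rw [mem_AdF] at hb
    rw [← p.htau x hx b hb.1 hb.2]
    congr 1
    ext y
    simp only [Finset.mem_filter, mem_DdF, mem_XF]
    constructor
    · rintro ⟨hy, hby, ht⟩
      exact ⟨hy.1, Dd_symm hx hy, hby, ht⟩
    · rintro ⟨hy, hxy, hby, ht⟩
      exact ⟨Dd_symm hy hxy, hby, ht⟩
  have := dcount (DdF D x) (AdF D x) (fun f b => b ∈ Dd D f ∧ tw D f x b)
    ((AdF D x).filter (fun b => b ∈ Dd D f₀ ∧ tw D f₀ x b)).card Tau
    (fun f hf => by convert hE f hf) (fun b hb => by convert hM b hb)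
  rw [p.hk x hx, p.hl x hx] at this
  exact this

end

end Cfsg.Agent.Lib.Helper3.Fs
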