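import Mathlib
import Cfsg.Agent.Lib.Helper3.Fs6

set_option autoImplicit false
set_option maxHeartbeats 4000000
set_option maxRecDepth 100000
set_option linter.unusedVariables false
set_option linter.unusedSectionVars false
set_option linter.style.haveILetI false
set_option linter.deprecated false

/-!
# Fischer's lemma on `O(⟨D_x⟩)`: divisibility by three
-/

namespace Cfsg.Agent.Lib.Helper3.Fs

open Cfsg Cfsg.Agent.Lib.Helper3.TT
open Classical

noncomputable section

universe u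

variable {G : Type u} [Group G] [Fintype G] {D : Set G}

theorem card_filter_univ_eq_ncard (q : G → Prop) [DecidablePred q] :
    (Finset.univ.filter q).card = {a | q a}.ncard := by
  rw [← Set.ncard_coe_finset]
  congr 1
  ext a
  simp

theorem card_DdF_eq (d : G) : (DdF D d).card = (Dd D d).ncard := by
  unfold DdF; rw [card_filter_univ_eq_ncard]; rfl

/-- the seed: two distinct related members of `Dd D x` -/
structure Sd (D : Set G) (x y y' : G) : Prop where
  hx : x ∈ D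
  hy : y ∈ Dd D x
  hy' : y' ∈ Dd D x
  hne : y ≠ y'
  ht : tw D x y y'

variable {K L Lam Mu T Tau : ℕ} {x y y' : G}

theorem Par.T_pow (p : Par D K L Lam Mu T Tau) (c : Ctx D) (s : Sd D x y y') :
    ∃ a : ℕ, T = 3 ^ (a + 1) := by
  have h := c.ts
  obtain ⟨j, hj⟩ := class_card h s.hx s.hy
  have hT : (BlF D x y).card = T := p.ht x s.hx y s.hy
  have hcard : (BlF D x y).card = 3 ^ j := by
    unfold BlF; rw [card_filter_univ_eq_ncard]; exact hj
  have h2 : 1 < (BlF D x y).card := by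
    apply Finset.one_lt_card.mpr
    exact ⟨y, mem_BlF.mpr ⟨s.hy, tw_refl h x s.hy.1⟩, y', mem_BlF.mpr ⟨s.hy', s.ht⟩, s.hne⟩
  cases j with
  | zero => rw [hcard] at h2; simp at h2
  | succ a => exact ⟨a, by rw [← hT, hcard]⟩

theorem Par.exists_tw (p : Par D K L Lam Mu T Tau) (c : Ctx D) (s : Sd D x y y')
    {d u : G} (hd : d ∈ D) (hu : u ∈ Dd D d) : ∃ u' ∈ Dd D d, u' ≠ u ∧ tw D d u u' := by
  obtain ⟨a, ha⟩ := p.T_pow c s
  have hT : (BlF D d u).card = T := p.ht d hd u hu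
  have h2 : 1 < (BlF D d u).card := by
    rw [hT, ha]
    calc 1 < 3 := by norm_num
      _ ≤ 3 ^ (a + 1) := Nat.le_self_pow (by omega) 3
  obtain ⟨u', hu', hne⟩ := Finset.exists_mem_ne h2 u
  rw [mem_BlF] at hu'
  exact ⟨u', hu'.1, hne, hu'.2⟩

theorem Par.exists_mover (p : Par D K L Lam Mu T Tau) (c : Ctx D) (s : Sd D x y y')
    {d a : G} (hd : d ∈ D) (ha : a ∈ Dd D d) : ∃ n ∈ Fd D d, n * a * n⁻¹ ≠ a := by
  have h := c.ts
  obtain ⟨a', ha', hne, ht⟩ := p.exists_tw c s hd ha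
  have hnc := tw_ncomm h ha.1 ha'.1 ht (fun hh => hne hh.symm)
  refine ⟨a * a', ht, ?_⟩
  rw [h.conj_eq ha.1 ha'.1 hnc]
  exact hne

theorem Fd_act_Dd (h : TSet D) {d : G} : ∀ n ∈ Fd D d, ∀ a ∈ Dd D d, n * a * n⁻¹ ∈ Dd D d := by
  intro n hn a ha
  have hnd : n * d = d * n := Hd_comm (Fd_le d hn)
  have := Dd_conj h n ha
  have e : n * d * n⁻¹ = d := by rw [hnd]; group
  rw [e] at this
  exact this

theorem Par.three_dvd_K (p : Par D K L Lam Mu T Tau) (c : Ctx D) (s : Sd D x y y') : 3 ∣ K := by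
  have h := c.ts
  have := three_dvd_of_no_fixed (Fd D x) (Fd_isPGroup x) (Dd D x) (Fd_act_Dd h)
    (fun a ha => p.exists_mover c s s.hx ha)
  rw [← p.hk x s.hx, card_DdF_eq]
  exact this

theorem Par.three_dvd_Lam (p : Par D K L Lam Mu T Tau) (c : Ctx D) (s : Sd D x y y') :
    3 ∣ Lam := by
  have h := c.ts
  have hact : ∀ n ∈ Fd D x, ∀ a ∈ (Dd D x ∩ Dd D y), n * a * n⁻¹ ∈ (Dd D x ∩ Dd D y) := by
    intro n hn a ha
    have h1 : n * a * n⁻¹ ∈ Dd D x := Fd_act_Dd h n hn a ha.1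
    have h2 : n * a * n⁻¹ ∈ {u' | u' ∈ Dd D x ∧ tw D x a u'} := by
      rw [class_eq_orbit h s.hx ha.1]; exact ⟨n, hn, rfl⟩
    have h3 := tw_twins h ha.1 h1 h2.2 s.hy (fun hh => ha.2.2.1 hh.symm) ha.2.2.2.eq
    exact ⟨h1, h1.1, fun hh => h3.2 hh.symm, h3.1⟩
  have := three_dvd_of_no_fixed (Fd D x) (Fd_isPGroup x) (Dd D x ∩ Dd D y) hact
    (fun a ha => p.exists_mover c s s.hx ha.1)
  have e : (LamF D x y).card = (Dd D x ∩ Dd D y).ncard := by
    unfold LamF; rw [card_filter_univ_eq_ncard]; rfl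
  rw [← p.hlam x s.hx y s.hy, e]
  exact this

/-- some member of `D` not commuting with `x` is moved by `y y'` -/
theorem Sd.exists_moved (s : Sd D x y y') (c : Ctx D) :
    ∃ c₀ ∈ D, x * c₀ ≠ c₀ * x ∧ (y * y') * c₀ * (y * y')⁻¹ ≠ c₀ := by
  have h := c.ts
  obtain ⟨e, he, he'⟩ := c.exists_sep s.hy.1 s.hy'.1 s.hne
  have hex : e * x ≠ x * e := sep_ncomm h s.hx s.hy s.hy' s.ht he he'
  refine ⟨e, he.1, fun hh => hex hh.symm, ?_⟩
  intro hfix
  have hnc := tw_ncomm h s.hy.1 s.hy'.1 s.ht s.hne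
  have hcomm : e * (y * y') = (y * y') * e := by
    calc e * (y * y') = ((y * y') * e * (y * y')⁻¹) * (y * y') := by rw [hfix]
      _ = (y * y') * e := by group
  obtain ⟨h1, h2⟩ := cent_prod h s.hy.1 s.hy'.1 he.1 hnc hcomm
  apply he'
  refine ⟨he.1, ?_, h2.symm⟩
  intro hey'
  apply hnc
  rw [← hey']
  exact h1.symm

theorem Par.three_dvd_L (p : Par D K L Lam Mu T Tau) (c : Ctx D) (s : Sd D x y y') : 3 ∣ L := by
  have h := c.ts
  obtain ⟨c₀, hc₀D, hc₀x, hc₀m⟩ := s.exists_moved c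
  have hn₀ : y * y' ∈ Fd D x := s.ht
  have hact : ∀ n ∈ Fd D x, ∀ b ∈ {b | b ∈ D ∧ x * b ≠ b * x},
      n * b * n⁻¹ ∈ {b | b ∈ D ∧ x * b ≠ b * x} := by
    intro n hn b hb
    have hnd : n * x = x * n := Hd_comm (Fd_le x hn)
    have e : n * x * n⁻¹ = x := by rw [hnd]; group
    refine ⟨h.conj n b hb.1, ?_⟩
    intro hc
    apply hb.2
    have hc' : (n * x * n⁻¹) * (n * b * n⁻¹) = (n * b * n⁻¹) * (n * x * n⁻¹) := by
      rw [e]; exact hc
    exact conj_comm_iff.mp hc'
  have hfix : ∀ b ∈ {b | b ∈ D ∧ x * b ≠ b * x}, ∃ n ∈ Fd D x, n * b * n⁻¹ ≠ b := by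
    intro b hb
    obtain ⟨g, hg1, hg2⟩ := c.transN s.hx hc₀D s.hx hb.1 hc₀x hb.2
    refine ⟨g * (y * y') * g⁻¹, ?_, ?_⟩
    · have := Fd_conj h g hn₀
      rw [hg1] at this
      exact this
    · intro hh
      apply hc₀m
      rw [← hg2] at hh
      have e : g * (y * y') * g⁻¹ * (g * c₀ * g⁻¹) * (g * (y * y') * g⁻¹)⁻¹
          = g * ((y * y') * c₀ * (y * y')⁻¹) * g⁻¹ := by group
      rw [e] at hh
      exact mul_left_cancel (mul_right_cancel hh)
  have := three_dvd_of_no_fixed (Fd D x) (Fd_isPGroup x) _ hact hfix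
  have e : (AdF D x).card = {b | b ∈ D ∧ x * b ≠ b * x}.ncard := by
    unfold AdF; rw [card_filter_univ_eq_ncard]
  rw [← p.hl x s.hx, e]
  exact this

theorem card_D_eq (h : TSet D) {x : G} (hx : x ∈ D) :
    D.ncard = 1 + (DdF D x).card + (AdF D x).card := by
  have hU : (Finset.univ.filter (fun a => a ∈ D)) = insert x (DdF D x ∪ AdF D x) := by
    ext a
    simp only [Finset.mem_filter, Finset.mem_univ, true_and, Finset.mem_insert, Finset.mem_union,
      mem_DdF, mem_AdF]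
    constructor
    · intro ha
      by_cases hax : a = x
      · left; exact hax
      · right
        by_cases hc : x * a = a * x
        · left; exact ⟨ha, hax, hc⟩
        · right; exact ⟨ha, hc⟩
    · rintro (hax | ha | ha)
      · rw [hax]; exact hx
      · exact ha.1
      · exact ha.1
  have hdisj : Disjoint (DdF D x) (AdF D x) := by
    rw [Finset.disjoint_left]
    intro a h1 h2
    rw [mem_DdF] at h1; rw [mem_AdF] at h2
    exact h2.2 h1.2.2.eq
  have hnot : x ∉ DdF D x ∪ AdF D x := by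
    rw [Finset.mem_union, mem_DdF, mem_AdF]
    rintro (h1 | h2)
    · exact h1.2.1 rfl
    · exact h2.2 rfl
  have e : D.ncard = (Finset.univ.filter (fun a => a ∈ D)).card := by
    rw [card_filter_univ_eq_ncard]; rfl
  rw [e, hU, Finset.card_insert_of_notMem hnot, Finset.card_union_of_disjoint hdisj]
  omega

theorem Par.Mu_mod (p : Par D K L Lam Mu T Tau) (c : Ctx D) (s : Sd D x y y') : Mu % 3 = 1 := by
  have h := c.ts
  have hK := p.three_dvd_K c s
  have hL := p.three_dvd_L c s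
  have hnc := tw_ncomm h s.hy.1 s.hy'.1 s.ht s.hne
  have hcube : (y * y') ^ 3 = 1 := h.cube s.hy.1 s.hy'.1 hnc
  have hP : IsPGroup 3 (Subgroup.zpowers (y * y')) := by
    rintro ⟨g, hg⟩
    refine ⟨1, ?_⟩
    obtain ⟨k, rfl⟩ := Subgroup.mem_zpowers_iff.mp hg
    apply Subtype.ext
    show ((y * y') ^ k) ^ (3 ^ 1) = 1
    rw [pow_one, ← zpow_natCast, ← zpow_mul, mul_comm, zpow_mul, zpow_natCast, hcube, one_zpow]
  have hmod := card_mod_three (Subgroup.zpowers (y * y')) hP D (fun q _ a ha => h.conj q a ha)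
  have hfixset : {a | a ∈ D ∧ ∀ q ∈ Subgroup.zpowers (y * y'), q * a * q⁻¹ = a}
      = Dd D y ∩ Dd D y' := by
    ext a
    constructor
    · rintro ⟨ha, hfix⟩
      have h1 := hfix (y * y') (Subgroup.mem_zpowers _)
      have hcomm : a * (y * y') = (y * y') * a := by
        calc a * (y * y') = ((y * y') * a * (y * y')⁻¹) * (y * y') := by rw [h1]
          _ = (y * y') * a := by group
      obtain ⟨k1, k2⟩ := cent_prod h s.hy.1 s.hy'.1 ha hnc hcomm
      refine ⟨⟨ha, ?_, k1.symm⟩, ⟨ha, ?_, k2.symm⟩⟩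
      · intro hay
        apply hnc
        rw [← hay]; exact k2
      · intro hay
        apply hnc
        rw [← hay]; exact k1.symm
    · rintro ⟨ha1, ha2⟩
      refine ⟨ha1.1, ?_⟩
      intro q hq
      have hle : Subgroup.zpowers (y * y') ≤ Subgroup.centralizer ({a} : Set G) := by
        rw [Subgroup.zpowers_le, Subgroup.mem_centralizer_iff]
        intro z hz
        rw [Set.mem_singleton_iff] at hz
        rw [hz]
        calc a * (y * y') = (a * y) * y' := by group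
          _ = (y * a) * y' := by rw [ha1.2.2.eq]
          _ = y * (a * y') := by group
          _ = y * (y' * a) := by rw [ha2.2.2.eq]
          _ = y * y' * a := by group
      have := hle hq
      rw [Subgroup.mem_centralizer_iff] at this
      have hqa := this a rfl
      calc q * a * q⁻¹ = (a * q) * q⁻¹ := by rw [hqa]
        _ = a := by group
  rw [hfixset] at hmod
  have e1 : (Dd D y ∩ Dd D y').ncard = Mu := by
    rw [← p.hmu y s.hy.1 y' s.hy'.1 hnc]
    unfold LamF; rw [card_filter_univ_eq_ncard]; rfl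
  have e2 := card_D_eq h s.hx
  rw [p.hk x s.hx, p.hl x s.hx] at e2
  rw [e1, e2] at hmod
  unfold Nat.ModEq at hmod
  omega

theorem Par.K_pos (p : Par D K L Lam Mu T Tau) (s : Sd D x y y') : 0 < K := by
  rw [← p.hk x s.hx]
  exact Finset.card_pos.mpr ⟨y, mem_DdF.mpr s.hy⟩

theorem Par.Tau_not_dvd (p : Par D K L Lam Mu T Tau) (c : Ctx D) (s : Sd D x y y') :
    ¬ 3 ∣ Tau := by
  obtain ⟨E, hE1, hE2, _⟩ := p.eq_ii c s.hx
  obtain ⟨T', hT1, hT2⟩ := p.eq_iii c s.hx
  obtain ⟨a, ha⟩ := p.T_pow c s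
  have hMu := p.Mu_mod c s
  have hKpos := p.K_pos s
  have key : T' * Mu = Tau * E := by
    have : K * (T' * Mu) = K * (Tau * E) := by
      calc K * (T' * Mu) = (K * T') * Mu := by ring
        _ = (L * Tau) * Mu := by rw [hT2]
        _ = Tau * (L * Mu) := by ring
        _ = Tau * (K * E) := by rw [hE2]
        _ = K * (Tau * E) := by ring
    exact Nat.eq_of_mul_eq_mul_left hKpos this
  intro hdvd
  have h3 : 3 ∣ T' * Mu := by rw [key]; exact Dvd.dvd.mul_right hdvd E
  have hT' : T' % 3 = 2 := by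
    have : 3 ∣ T := by rw [ha, pow_succ]; exact Dvd.intro_left _ rfl
    omega
  rcases (Nat.Prime.dvd_mul Nat.prime_three).mp h3 with h4 | h4 <;> omega

end

end Cfsg.Agent.Lib.Helper3.Fs
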