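import Mathlib
import Cfsg.Agent.Lib.Helper3.Fs7

set_option autoImplicit false
set_option maxHeartbeats 4000000
set_option maxRecDepth 100000
set_option linter.unusedVariables false
set_option linter.unusedSectionVars false
set_option linter.style.haveILetI false
set_option linter.deprecated false

/-!
# Fischer's lemma on `O(⟨D_x⟩)`: apexes of a related pair, and `λ = 0`
-/

namespace Cfsg.Agent.Lib.Helper3.Fs

open Cfsg Cfsg.Agent.Lib.Helper3.TT
open Classical

noncomputable section

universe u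

variable {G : Type u} [Group G] [Fintype G] {D : Set G}

theorem comm5 {u a b c : G} (ha : u * a = a * u) (hb : u * b = b * u) (hc : u * c = c * u) :
    u * (a * b * c * b * a) = (a * b * c * b * a) * u := by
  have ha' : Commute u a := ha
  have hb' : Commute u b := hb
  have hc' : Commute u c := hc
  exact ((((ha'.mul_right hb').mul_right hc').mul_right hb').mul_right ha').eq

theorem comm_of_conj {g a b : G} (hg : g * b = b * g)
    (h : (g * a * g⁻¹) * b = b * (g * a * g⁻¹)) : a * b = b * a := by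
  have hb : g * b * g⁻¹ = b := by rw [hg]; group
  have h' : (g * a * g⁻¹) * (g * b * g⁻¹) = (g * b * g⁻¹) * (g * a * g⁻¹) := by
    rw [hb]; exact h
  exact conj_comm_iff.mp h'

theorem inv_pair {a b : G} (ha : a * a = 1) (hb : b * b = 1) : (a * b)⁻¹ = b * a := by
  rw [mul_inv_rev, inv_eq_of_mul_eq_one_right ha, inv_eq_of_mul_eq_one_right hb]

/-- two commuting apexes of a pair of non-commuting members coincide -/
theorem apex_ncomm (c : Ctx D) {u u' d d' : G} (hu : u ∈ D) (hu' : u' ∈ D)
    (hnc : u * u' ≠ u' * u)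
    (hd : d ∈ D) (hud : u ∈ Dd D d) (hu'd : u' ∈ Dd D d) (htd : tw D d u u')
    (hd' : d' ∈ D) (hud' : u ∈ Dd D d') (hu'd' : u' ∈ Dd D d') (htd' : tw D d' u u')
    (hcomm : d * d' = d' * d) : d = d' := by
  have h := c.ts
  by_contra hne
  have huu' : u ≠ u' := fun hh => hnc (by rw [hh])
  obtain ⟨e, he, he'⟩ := c.exists_sep hu hu' huu'
  have hed : e * d ≠ d * e := sep_ncomm h hd hud hu'd htd he he'
  have hed' : e * d' ≠ d' * e := sep_ncomm h hd' hud' hu'd' htd' he he'
  have heD := he.1
  have heu : u * e = e * u := he.2.2.eq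
  have heu' : e * u' ≠ u' * e := by
    intro hc
    apply he'
    refine ⟨heD, ?_, hc.symm⟩
    intro hh
    apply hnc
    rw [← hh]
    exact heu
  have sd := h.sq d hd
  have sd' := h.sq d' hd'
  have se := h.sq e heD
  have su' := h.sq u' hu'
  have b1 : d * e * d = e * d * e := h.braid hd heD (fun hh => hed hh.symm)
  have b2 : d' * e * d' = e * d' * e := h.braid hd' heD (fun hh => hed' hh.symm)
  obtain ⟨es, hes⟩ : ∃ es : G, es = d * d' * e * d' * d := ⟨_, rfl⟩
  have hI1 : e * es = es * e := by rw [hes]; exact word_I1 sd se sd' hcomm b1 b2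
  have hsq : es * es = 1 := by rw [hes]; exact word_sq sd se sd'
  have hI2 : e * es * d * es * e = d' := by rw [hes]; exact word_I2 sd se sd' hcomm b1 b2
  have hesD : es ∈ D := by
    have := h.conj (d * d') e heD
    rw [inv_pair sd sd'] at this
    have e1 : d * d' * e * (d' * d) = es := by rw [hes]; group
    rw [e1] at this
    exact this
  have hesu : u * es = es * u := by
    rw [hes]; exact comm5 hud.2.2.eq.symm hud'.2.2.eq.symm heu
  have hgu' : (d * d') * u' = u' * (d * d') := by
    have h1 : d * u' = u' * d := hu'd.2.2.eq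
    have h2 : d' * u' = u' * d' := hu'd'.2.2.eq
    calc d * d' * u' = d * (d' * u') := by group
      _ = d * (u' * d') := by rw [h2]
      _ = (d * u') * d' := by group
      _ = (u' * d) * d' := by rw [h1]
      _ = u' * (d * d') := by group
  have hesu' : es * u' ≠ u' * es := by
    intro hc
    apply heu'
    have e1 : es = (d * d') * e * (d * d')⁻¹ := by rw [inv_pair sd sd', hes]; group
    rw [e1] at hc
    exact comm_of_conj hgu' hc
  have b3 : e * u' * e = u' * e * u' := h.braid heD hu' heu'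
  have b4 : es * u' * es = u' * es * u' := h.braid hesD hu' hesu'
  have hw1 : u' * (e * es * u' * es * e) = (e * es * u' * es * e) * u' :=
    word_I1 se su' hsq hI1 b3 b4
  obtain ⟨w, hw⟩ : ∃ w : G, w = e * es * u' * es * e := ⟨_, rfl⟩
  have hginv : (e * es)⁻¹ = es * e := inv_pair se hsq
  have hw' : w = (e * es) * u' * (e * es)⁻¹ := by rw [hginv, hw]; group
  have hwD : w ∈ D := by rw [hw']; exact h.conj _ _ hu'
  have hwu' : w * u' = u' * w := by rw [hw]; exact hw1.symm
  have hgu : (e * es) * u = u * (e * es) := by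
    calc e * es * u = e * (es * u) := by group
      _ = e * (u * es) := by rw [hesu]
      _ = (e * u) * es := by group
      _ = (u * e) * es := by rw [heu]
      _ = u * (e * es) := by group
  have hwu : w * u ≠ u * w := by
    intro hc
    rw [hw'] at hc
    have := comm_of_conj hgu hc
    exact hnc this.symm
  have hd_eq : d = (e * es) * d' * (e * es)⁻¹ := by
    rw [hginv, ← hI2]
    have k1 : e * es * e * es = 1 := by
      calc e * es * e * es = e * (es * e) * es := by group
        _ = e * (e * es) * es := by rw [hI1]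
        _ = (e * e) * (es * es) := by group
        _ = 1 := by rw [se, hsq, mul_one]
    have k2 : es * e * es * e = 1 := by
      calc es * e * es * e = (es * e) * (es * e) := by group
        _ = (e * es) * (es * e) := by rw [hI1]
        _ = e * (es * es) * e := by group
        _ = 1 := by rw [hsq, mul_one, se]
    calc d = 1 * d * 1 := by group
      _ = (e * es * e * es) * d * (es * e * es * e) := by rw [k1, k2]
      _ = e * es * (e * es * d * es * e) * (es * e) := by group
  have hwd : d * w = w * d := by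
    have := (conj_comm_iff (g := e * es) (x := d') (y := u')).mpr hu'd'.2.2.eq
    rw [← hd_eq, ← hw'] at this
    exact this
  have hwne : w ≠ u' := by
    intro hh
    rw [hw] at hh
    have k1 : es * u' * es = e * u' * e := by
      calc es * u' * es = (e * e) * es * u' * es * (e * e) := by rw [se, one_mul, mul_one]
        _ = e * (e * es * u' * es * e) * e := by group
        _ = e * u' * e := by rw [hh]
    have k2 : u' * es * u' = u' * e * u' := by rw [← b4, ← b3, k1]
    have k3 : es = e := mul_left_cancel (mul_right_cancel k2)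
    apply hne
    rw [k3] at hI2
    rw [se, one_mul, mul_assoc, se, mul_one] at hI2
    exact hI2
  have hwDd : w ∈ Dd D d := by
    refine ⟨hwD, ?_, hwd⟩
    intro hh
    apply hwu
    rw [hh]
    exact hud.2.2.eq
  have := tw_twins h hu'd hud (tw_symm h hu hu' htd) hwDd hwne hwu'
  exact hwu this.1

theorem XF_line (h : TSet D) {u u' d d' : G} (hd : d ∈ XF D u u') (hd' : d' ∈ XF D u u') :
    d * d' * d ∈ XF D u u' := by
  rw [mem_XF] at hd hd' ⊢
  obtain ⟨hdD, hud, hu'd, htd⟩ := hd
  obtain ⟨hd'D, hud', hu'd', htd'⟩ := hd'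
  have hinv : d⁻¹ = d := h.inv hdD
  have e1 : d * u * d⁻¹ = u := by rw [hud.2.2.eq]; group
  have e2 : d * u' * d⁻¹ = u' := by rw [hu'd.2.2.eq]; group
  have k1 := Dd_conj h d hud'
  have k2 := Dd_conj h d hu'd'
  have k3 := tw_conj h d htd'
  rw [e1] at k1 k3
  rw [e2] at k2 k3
  rw [hinv] at k1 k2 k3
  exact ⟨h.conj_mem hdD hd'D, k1, k2, k3⟩

variable {K L Lam Mu T Tau : ℕ} {x y y' : G}

theorem Par.Tau_eq_one (p : Par D K L Lam Mu T Tau) (c : Ctx D) (s : Sd D x y y') : Tau = 1 := by
  have h := c.ts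
  have hnc := tw_ncomm h s.hy.1 s.hy'.1 s.ht s.hne
  have hX : (XF D y y').card = Tau := p.htau y s.hy.1 y' s.hy'.1 hnc
  have hXD : (↑(XF D y y') : Set G) ⊆ D := fun d hd => (mem_XF.mp (Finset.mem_coe.mp hd)).1
  have hpair : ∀ a ∈ (↑(XF D y y') : Set G), ∀ b ∈ (↑(XF D y y') : Set G),
      a * b = b * a → a = b := by
    intro a ha b hb hab
    have ha' := mem_XF.mp (Finset.mem_coe.mp ha)
    have hb' := mem_XF.mp (Finset.mem_coe.mp hb)
    exact apex_ncomm c s.hy.1 s.hy'.1 hnc ha'.1 ha'.2.1 ha'.2.2.1 ha'.2.2.2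
      hb'.1 hb'.2.1 hb'.2.2.1 hb'.2.2.2 hab
  have hline : ∀ a ∈ (↑(XF D y y') : Set G), ∀ b ∈ (↑(XF D y y') : Set G),
      a * b * a ∈ (↑(XF D y y') : Set G) := by
    intro a ha b hb
    exact Finset.mem_coe.mpr (XF_line h (Finset.mem_coe.mp ha) (Finset.mem_coe.mp hb))
  have hne : (↑(XF D y y') : Set G).Nonempty :=
    ⟨x, Finset.mem_coe.mpr (mem_XF.mpr ⟨s.hx, s.hy, s.hy', s.ht⟩)⟩
  obtain ⟨j, hj⟩ := hts_card h hXD hpair hline hne
  rw [Set.ncard_coe_finset, hX] at hj
  have h3 := p.Tau_not_dvd c s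
  cases j with
  | zero => simpa using hj
  | succ a =>
    exfalso
    apply h3
    rw [hj, pow_succ]
    exact Dvd.intro_left _ rfl

theorem Par.apex_unique (p : Par D K L Lam Mu T Tau) (c : Ctx D) (s : Sd D x y y')
    {u u' d d' : G} (hu : u ∈ D) (hu' : u' ∈ D) (hnc : u * u' ≠ u' * u)
    (hd : d ∈ XF D u u') (hd' : d' ∈ XF D u u') : d = d' := by
  have h1 : (XF D u u').card = 1 := by
    rw [p.htau u hu u' hu' hnc]; exact p.Tau_eq_one c s
  exact Finset.card_le_one.mp (le_of_eq h1) d hd d' hd'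

theorem Par.Lam_eq_zero (p : Par D K L Lam Mu T Tau) (c : Ctx D) (s : Sd D x y y') : Lam = 0 := by
  have h := c.ts
  by_contra hne
  have hlam : (LamF D x y).card = Lam := p.hlam x s.hx y s.hy
  have hpos : 0 < (LamF D x y).card := by rw [hlam]; exact Nat.pos_of_ne_zero hne
  obtain ⟨a, ha⟩ := Finset.card_pos.mp hpos
  rw [mem_LamF] at ha
  obtain ⟨hax, hay⟩ := ha
  obtain ⟨w, hwx, hwa, htw⟩ := p.exists_tw c s s.hx hax
  have k1 := tw_twins h hax hwx htw s.hy (fun hh => hay.2.1 hh.symm) hay.2.2.eq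
  have hwy : w ∈ Dd D y := ⟨hwx.1, fun hh => k1.2 hh.symm, k1.1⟩
  have hxy : x ∈ Dd D y := Dd_symm s.hx s.hy
  obtain ⟨c', hc'y, hc'x, htc⟩ := p.exists_tw c s s.hy.1 hxy
  have k2 := tw_twins h hxy hc'y htc hay hax.2.1 hax.2.2.eq.symm
  have k3 := tw_twins h hxy hc'y htc hwy hwx.2.1 hwx.2.2.eq.symm
  have hncaw : a * w ≠ w * a := tw_ncomm h hax.1 hwx.1 htw (fun hh => hwa hh.symm)
  have ea : c' * a * c'⁻¹ = a := by rw [← k2.1]; group
  have ew : c' * w * c'⁻¹ = w := by rw [← k3.1]; group
  have hx1 : x ∈ XF D a w := mem_XF.mpr ⟨s.hx, hax, hwx, htw⟩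
  have hx2 : c' * x * c'⁻¹ ∈ XF D a w := by
    have m1 := Dd_conj h c' hax
    have m2 := Dd_conj h c' hwx
    have m3 := tw_conj h c' htw
    rw [ea] at m1 m3
    rw [ew] at m2 m3
    exact mem_XF.mpr ⟨h.conj c' x s.hx, m1, m2, m3⟩
  have hfix := p.apex_unique c s hax.1 hwx.1 hncaw hx2 hx1
  have hcomm : x * c' = c' * x := by
    calc x * c' = (c' * x * c'⁻¹) * c' := by rw [hfix]
      _ = c' * x := by group
  exact tw_ncomm h hxy.1 hc'y.1 htc (fun hh => hc'x hh.symm) hcomm

end

end Cfsg.Agent.Lib.Helper3.Fs
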