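import Mathlib

set_option autoImplicit false
set_option maxHeartbeats 4000000
set_option maxRecDepth 100000
set_option linter.unusedVariables false
set_option linter.unusedSectionVars false
set_option linter.style.haveILetI false
set_option linter.deprecated false

/-!
# Fischer's lemma on `O(⟨D_x⟩)`: graphs of Moore type

A regular graph of valency `K` in which adjacent vertices have no common neighbour and distinct
non-adjacent vertices have exactly one: the determinant of `2A + 1`.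
-/

namespace Cfsg.Agent.Lib.Helper3.Fs

theorem moore_det {ι : Type*} [Fintype ι] [DecidableEq ι] (adj : ι → ι → Prop) [DecidableRel adj]
    (K : ℕ) (hK : 1 ≤ K)
    (hsymm : ∀ i j, adj i j → adj j i) (hirr : ∀ i, ¬ adj i i)
    (hdeg : ∀ i, (Finset.univ.filter (fun k => adj i k)).card = K)
    (h0 : ∀ i j, adj i j → (Finset.univ.filter (fun k => adj i k ∧ adj k j)).card = 0)
    (h1 : ∀ i j, i ≠ j → ¬ adj i j →
      (Finset.univ.filter (fun k => adj i k ∧ adj k j)).card = 1) :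
    ∃ z : ℤ, z ^ 2 * (4 * (K : ℤ) - 3) =
      (4 * (K : ℤ) - 3) ^ (Fintype.card ι) * (4 * (K : ℤ) - 3 + 4 * (Fintype.card ι : ℤ)) := by
  obtain ⟨c, hc⟩ : ∃ c : ℤ, c = 4 * (K : ℤ) - 3 := ⟨_, rfl⟩
  rw [← hc]
  let A : Matrix ι ι ℤ := Matrix.of fun i j => if adj i j then 1 else 0
  let J : Matrix ι ι ℤ := Matrix.of fun _ _ => 1
  have hA2 : A * A = (K : ℤ) • (1 : Matrix ι ι ℤ) + (J - 1 - A) := by
    ext i j
    rw [Matrix.mul_apply]
    have hterm : ∀ k, A i k * A k j = if (adj i k ∧ adj k j) then 1 else 0 := by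
      intro k
      simp only [A, Matrix.of_apply]
      by_cases h1 : adj i k <;> by_cases h2 : adj k j <;> simp [h1, h2]
    simp_rw [hterm]
    rw [Finset.sum_boole]
    simp only [Matrix.add_apply, Matrix.sub_apply, Matrix.smul_apply, Matrix.one_apply, J, A,
      Matrix.of_apply, smul_eq_mul]
    by_cases hij : i = j
    · subst hij
      have : (Finset.univ.filter (fun k => adj i k ∧ adj k i))
          = Finset.univ.filter (fun k => adj i k) := by
        ext k
        simp only [Finset.mem_filter, Finset.mem_univ, true_and]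
        exact ⟨fun h => h.1, fun h => ⟨h, hsymm i k h⟩⟩
      rw [this, hdeg i]
      simp [hirr i]
    · by_cases ha : adj i j
      · rw [h0 i j ha]; simp [hij, ha]
      · rw [h1 i j hij ha]; simp [hij, ha]
  let B : Matrix ι ι ℤ := A + A + 1
  have hB2 : B * B = c • (1 : Matrix ι ι ℤ) + (4 : ℤ) • J := by
    have hexp : B * B = (A * A + A * A + A) + (A * A + A * A + A) + (A + A + 1) := by
      show (A + A + 1) * (A + A + 1) = _
      noncomm_ring
    rw [hexp, hA2]
    ext i j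
    simp only [Matrix.add_apply, Matrix.sub_apply, Matrix.smul_apply, Matrix.one_apply,
      smul_eq_mul, hc]
    ring
  refine ⟨B.det, ?_⟩
  have hz : B.det ^ 2 = (c • (1 : Matrix ι ι ℤ) + (4 : ℤ) • J).det := by
    rw [← hB2, Matrix.det_mul, pow_two]
  rw [hz]
  have hc1 : (1 : ℤ) ≤ c := by
    rw [hc]
    have : (1 : ℤ) ≤ K := by exact_mod_cast hK
    linarith
  have hc0 : (c : ℚ) ≠ 0 := by
    have : c ≠ 0 := by omega
    exact_mod_cast this
  apply Int.cast_injective (α := ℚ)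
  push_cast
  have hmap : (c • (1 : Matrix ι ι ℤ) + (4 : ℤ) • J).map (fun x => (x : ℚ)) =
      (c : ℚ) • ((1 : Matrix ι ι ℚ) + Matrix.replicateCol Unit (fun _ => 4 / (c : ℚ)) *
        Matrix.replicateRow Unit (fun _ => (1 : ℚ))) := by
    ext i j
    simp only [Matrix.map_apply, Matrix.add_apply, Matrix.smul_apply, Matrix.one_apply, J,
      Matrix.of_apply, smul_eq_mul, Matrix.mul_apply, Matrix.replicateCol_apply,
      Matrix.replicateRow_apply, Finset.univ_unique, Finset.sum_singleton]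
    by_cases hij : i = j
    · simp [hij]; field_simp
    · simp [hij]; field_simp
  rw [hmap, Matrix.det_smul, Matrix.det_one_add_replicateCol_mul_replicateRow]
  simp only [dotProduct, one_mul, Finset.sum_const, Finset.card_univ, nsmul_eq_mul]
  field_simp

theorem moore_arith (κ : ℕ) (hκ : 2 ≤ κ) (z : ℤ) (N : ℕ) (hN : N = 3 ^ κ * 3 ^ κ + 1)
    (hz : z ^ 2 * (4 * ((3 ^ κ : ℕ) : ℤ) - 3) =
      (4 * ((3 ^ κ : ℕ) : ℤ) - 3) ^ N * (4 * ((3 ^ κ : ℕ) : ℤ) - 3 + 4 * (N : ℤ))) : False := by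
  haveI : Fact (Nat.Prime 3) := ⟨Nat.prime_three⟩
  obtain ⟨K, hK⟩ : ∃ K : ℕ, K = 3 ^ κ := ⟨_, rfl⟩
  rw [← hK] at hz hN
  obtain ⟨j, hj⟩ : ∃ j, κ = j + 2 := ⟨κ - 2, by omega⟩
  have hK9 : K = 9 * 3 ^ j := by rw [hK, hj, pow_add]; ring
  have hpos : 1 ≤ 3 ^ j := Nat.one_le_pow _ _ (by norm_num)
  obtain ⟨m, hm⟩ : ∃ m : ℕ, m = 12 * 3 ^ j - 1 := ⟨_, rfl⟩
  have hm3 : ¬ 3 ∣ m := by rw [hm]; omega
  have hm0 : m ≠ 0 := by rw [hm]; omega
  have hcZ : 4 * (K : ℤ) - 3 = ((3 * m : ℕ) : ℤ) := by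
    have h1 : 3 * m + 3 = 4 * K := by rw [hK9, hm]; omega
    have h2 : ((3 * m + 3 : ℕ) : ℤ) = ((4 * K : ℕ) : ℤ) := by rw [h1]
    push_cast at h2 ⊢
    linarith
  rw [hcZ] at hz
  have hsq : ((3 * m : ℕ) : ℤ) + 4 * (N : ℤ) = (((2 * K + 1) ^ 2 : ℕ) : ℤ) := by
    rw [← hcZ, hN]
    push_cast
    ring
  rw [hsq] at hz
  have hzN : z.natAbs ^ 2 * (3 * m) = (3 * m) ^ N * (2 * K + 1) ^ 2 := by
    have : ((z.natAbs ^ 2 * (3 * m) : ℕ) : ℤ) = (((3 * m) ^ N * (2 * K + 1) ^ 2 : ℕ) : ℤ) := by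
      push_cast
      rw [sq_abs]
      push_cast at hz
      exact hz
    exact_mod_cast this
  have hzn0 : z.natAbs ≠ 0 := by
    intro h0
    rw [h0] at hzN
    have h3m : 3 * m ≠ 0 := by omega
    have : (3 * m) ^ N * (2 * K + 1) ^ 2 ≠ 0 :=
      Nat.mul_ne_zero (pow_ne_zero _ h3m) (pow_ne_zero _ (by omega))
    apply this
    rw [← hzN]
    simp
  have h3m : 3 * m ≠ 0 := by omega
  have hv3m : padicValNat 3 (3 * m) = 1 := by
    rw [padicValNat.mul (by norm_num) hm0, padicValNat_self,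
      padicValNat.eq_zero_of_not_dvd hm3]
  have hval := congrArg (padicValNat 3) hzN
  rw [padicValNat.mul (pow_ne_zero _ hzn0) h3m, padicValNat.pow,
    padicValNat.mul (pow_ne_zero _ h3m) (pow_ne_zero _ (by omega)), padicValNat.pow,
    padicValNat.pow, hv3m] at hval
  -- 2 * v + 1 = N * 1 + 2 * v'
  have hodd : Odd (K * K) := by
    rw [hK]
    exact (Odd.pow (by decide)).mul (Odd.pow (by decide))
  obtain ⟨t, ht⟩ := hodd
  rw [hN, ht] at hval
  omega

end Cfsg.Agent.Lib.Helper3.Fs
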