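import Mathlib
import Cfsg.Agent.Lib.Helper3.TT17
import Cfsg.Agent.S5352
import Cfsg.Agent.S5353

set_option autoImplicit false

/-! Fischer's hypotheses (no solvable normal subgroup, perfect derived group) imply primitivity and
width at least two. -/

namespace Cfsg.Agent.Lib.Helper3.TT

open Cfsg

universe u

variable {G : Type u} [Group G]

/-- a perfect-derived group maps its derived group into every term of the derived series -/
theorem commutator_le_derivedSeries (hperf : ⁅commutator G, commutator G⁆ = commutator G) (n : ℕ) :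
    commutator G ≤ derivedSeries G n := by
  induction n with
  | zero => rw [derivedSeries_zero]; exact le_top
  | succ n ih =>
    rw [derivedSeries_succ, ← hperf]
    exact Subgroup.commutator_mono ih ih

/-- if `G ⧸ L` is solvable and the derived group is perfect then the derived group lies in `L` -/
theorem commutator_le_of_solvable_quotient (hperf : ⁅commutator G, commutator G⁆ = commutator G)
    (L : Subgroup G) [L.Normal] (hs : Group.IsSolvable (G ⧸ L)) : commutator G ≤ L := by
  obtain ⟨n, hn⟩ := (Group.isSolvable_def (G ⧸ L)).mp hs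
  intro x hx
  have h1 : x ∈ derivedSeries G n := commutator_le_derivedSeries hperf n hx
  have h2 : (QuotientGroup.mk' L) x ∈ (derivedSeries G n).map (QuotientGroup.mk' L) :=
    Subgroup.mem_map_of_mem _ h1
  have h3 := map_derivedSeries_le_derivedSeries (QuotientGroup.mk' L) n h2
  rw [hn, Subgroup.mem_bot] at h3
  exact (QuotientGroup.eq_one_iff x).mp h3

/-- a group with a normal `3`-subgroup `T` such that every member of a generating set is congruent
to a fixed element modulo `T` is solvable -/
theorem solvable_of_normal_three [Finite G] {S : Set G} (hS : Subgroup.closure S = ⊤) (T : Subgroup G)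
    [T.Normal] (hT : IsPGroup 3 T) (q : G) (hq : ∀ e ∈ S, e * q ∈ T) : Group.IsSolvable G := by
  haveI : Fact (Nat.Prime 3) := ⟨Nat.prime_three⟩
  haveI : Group.IsNilpotent ↥T := hT.isNilpotent
  haveI : Group.IsSolvable ↥T := inferInstance
  have hle : (⊤ : Subgroup (G ⧸ T)) ≤ Subgroup.zpowers ((QuotientGroup.mk' T) q) := by
    have h1 : (Subgroup.closure S).map (QuotientGroup.mk' T) = ⊤ := by
      rw [hS]; exact Subgroup.map_top_of_surjective _ (QuotientGroup.mk'_surjective T)
    rw [← h1, MonoidHom.map_closure, Subgroup.closure_le]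
    rintro _ ⟨e, he, rfl⟩
    have h2 : (QuotientGroup.mk' T) (e * q) = 1 := (QuotientGroup.eq_one_iff _).mpr (hq e he)
    rw [map_mul] at h2
    have h3 : (QuotientGroup.mk' T) e = ((QuotientGroup.mk' T) q)⁻¹ := eq_inv_of_mul_eq_one_left h2
    rw [h3]
    exact Subgroup.inv_mem _ (Subgroup.mem_zpowers _)
  haveI : Group.IsSolvable (G ⧸ T) := by
    apply isSolvable_of_comm
    intro x y
    obtain ⟨i, hi⟩ := Subgroup.mem_zpowers_iff.mp (hle (Subgroup.mem_top x))
    obtain ⟨j, hj⟩ := Subgroup.mem_zpowers_iff.mp (hle (Subgroup.mem_top y))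
    rw [← hi, ← hj, ← zpow_add, ← zpow_add, add_comm]
  apply solvable_of_ker_le_range T.subtype (QuotientGroup.mk' T)
  rw [QuotientGroup.ker_mk', Subgroup.range_subtype]

/-- Fischer's hypotheses give a primitive 3-transposition group of width at least two. -/
theorem fischer_hyp [Finite G] {D : Set G}
    (hsol : ∀ N : Subgroup G, N.Normal → Group.IsSolvable ↥N → N = ⊥)
    (hperf : ⁅commutator G, commutator G⁆ = commutator G)
    (hD : IsThreeTranspositionClass D) :
    IsThreeTranspositionGroup D ∧ IsPrimitiveUnderConj D ∧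
      ∃ a ∈ D, ∃ b ∈ D, a ≠ b ∧ Commute a b := by
  classical
  have hT := TSet.of_class hD
  have hG : IsThreeTranspositionGroup D := ⟨hD.1, hT.conj, hD.2.2⟩
  obtain ⟨a, ha, -⟩ := hD.2.1
  haveI : Fact (Nat.Prime 2) := ⟨Nat.prime_two⟩
  haveI : Fact (Nat.Prime 3) := ⟨Nat.prime_three⟩
  -- centre and cores trivial
  have hZ : Subgroup.center G = ⊥ :=
    hsol _ inferInstance (isSolvable_of_comm (fun x y => Subtype.ext (Subgroup.mem_center_iff.mp y.2 x.1)))
  have h2b : Cfsg.pCore 2 G = ⊥ := by
    apply hsol _ (Cfsg.Agent.Lib.Helper1.pCore_normal 2)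
    haveI : Group.IsNilpotent ↥(Cfsg.pCore 2 G) :=
      (Cfsg.Agent.Lib.Helper1.pCore_isPGroup (G := G) 2).isNilpotent
    infer_instance
  have h3b : Cfsg.pCore 3 G = ⊥ := by
    apply hsol _ (Cfsg.Agent.Lib.Helper1.pCore_normal 3)
    haveI : Group.IsNilpotent ↥(Cfsg.pCore 3 G) :=
      (Cfsg.Agent.Lib.Helper1.pCore_isPGroup (G := G) 3).isNilpotent
    infer_instance
  have h2 : Cfsg.pCore 2 G ≤ Subgroup.center G := by rw [h2b]; exact bot_le
  have h3 : Cfsg.pCore 3 G ≤ Subgroup.center G := by rw [h3b]; exact bot_le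
  -- two members
  have hD2 : ∃ x ∈ D, ∃ y ∈ D, x ≠ y := by
    by_contra hcon
    push Not at hcon
    have hle : (⊤ : Subgroup G) ≤ Subgroup.zpowers a := by
      rw [← hD.2.2, Subgroup.closure_le]
      intro x hx
      rw [hcon x hx a ha]
      exact Subgroup.mem_zpowers a
    have hac : a ∈ Subgroup.center G := by
      rw [Subgroup.mem_center_iff]
      intro g
      obtain ⟨i, hi⟩ := Subgroup.mem_zpowers_iff.mp (hle (Subgroup.mem_top g))
      rw [← hi]
      exact (Commute.zpow_left (Commute.refl a) i).eq
    rw [hZ, Subgroup.mem_bot] at hac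
    exact hT.ne_one a ha hac
  obtain ⟨L, hLn, hLq, hF, hor⟩ := Cfsg.Agent.S5352.result hD hD2 h2 h3
  haveI := hLn
  -- the commutator subgroup has index at most two
  have hcommD : ∀ b ∈ D, a * b ∈ commutator G := by
    intro b hb
    obtain ⟨g, hg⟩ := class_conj hD ha hb
    have e : a * b = a * g * a⁻¹ * g⁻¹ := by
      rw [← hg, hT.inv ha]; group
    rw [e]
    exact Subgroup.commutator_mem_commutator (Subgroup.mem_top a) (Subgroup.mem_top g)
  have hi : (commutator G).index ≤ 2 := by
    have htop : Subgroup.zpowers a ⊔ commutator G = ⊤ := by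
      rw [eq_top_iff, ← hD.2.2, Subgroup.closure_le]
      intro b hb
      have e : b = a * (a * b) := by rw [← mul_assoc, hT.sq a ha, one_mul]
      rw [e]
      exact Subgroup.mul_mem_sup (Subgroup.mem_zpowers a) (hcommD b hb)
    have h1 : (commutator G).index = (commutator G).relIndex (Subgroup.zpowers a) := by
      rw [← Subgroup.relIndex_top_right, ← htop, Subgroup.relIndex_sup_right]
    have h2' : (commutator G).relIndex (Subgroup.zpowers a) ∣ Nat.card (Subgroup.zpowers a) :=
      Subgroup.relIndex_dvd_card _ _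
    rw [Nat.card_zpowers, hT.orderOf_eq ha] at h2'
    rw [h1]
    exact Nat.le_of_dvd (by norm_num) h2'
  -- `L` has index at most two
  have hLi : L.index ≤ 2 := by
    rcases hor with hLtop | hwid
    · rw [hLtop, Subgroup.index_top]; norm_num
    · by_cases hLtop : L = ⊤
      · rw [hLtop, Subgroup.index_top]; norm_num
      have hnotin : ∀ e ∈ D, e ∉ L := by
        intro e he heL
        apply hLtop
        rw [eq_top_iff, ← hD.2.2, Subgroup.closure_le]
        intro x hx
        obtain ⟨g, hg⟩ := class_conj hD he hx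
        rw [← hg]
        exact hLn.conj_mem e heL g
      set π := QuotientGroup.mk' L with hπ
      have hTq : TSet (π '' D) := by
        refine ⟨?_, ?_, ?_, ?_⟩
        · rintro _ ⟨e, he, rfl⟩
          rw [← map_mul, hT.sq e he, map_one]
        · rintro _ ⟨e, he, rfl⟩ h1
          exact hnotin e he ((QuotientGroup.eq_one_iff e).mp h1)
        · rintro g _ ⟨e, he, rfl⟩
          obtain ⟨g', rfl⟩ := QuotientGroup.mk'_surjective L g
          refine ⟨g' * e * g'⁻¹, hT.conj g' e he, ?_⟩
          rw [map_mul, map_mul, map_inv]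
        · rintro _ ⟨x, hx, rfl⟩ _ ⟨y, hy, rfl⟩
          rcases hT.three x hx y hy with h | h
          · left; rw [← map_mul, ← map_mul, h]
          · right; rw [← map_mul, ← map_pow, h, map_one]
      have hgen : Subgroup.closure (π '' D) = ⊤ := by
        rw [← MonoidHom.map_closure, hD.2.2]
        exact Subgroup.map_top_of_surjective _ (QuotientGroup.mk'_surjective L)
      have hw' : ∀ x ∈ π '' D, ∀ y ∈ π '' D, x * y = y * x → x = y := by
        rintro _ ⟨x, hx, rfl⟩ _ ⟨y, hy, rfl⟩ hxy
        rw [← map_mul, ← map_mul] at hxy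
        have h1 : (y * x)⁻¹ * (x * y) ∈ L := QuotientGroup.eq.mp hxy.symm
        have h2 : x * y * x⁻¹ * y⁻¹ ∈ L := by
          have e : x * y * x⁻¹ * y⁻¹ = (y * x)⁻¹ * (x * y) := by
            rw [hT.inv hx, hT.inv hy, _root_.mul_inv_rev, hT.inv hx, hT.inv hy]
            group
          rw [e]; exact h1
        have h3 := hwid x hx y hy h2
        exact QuotientGroup.eq.mpr h3
      obtain ⟨T, hTn, hTp, hTe⟩ := exists_normal_three hTq hgen hw' (Set.mem_image_of_mem π ha)
      haveI := hTn
      have hsolq : Group.IsSolvable (G ⧸ L) :=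
        solvable_of_normal_three hgen T hTp (π a) hTe
      have hle : commutator G ≤ L := commutator_le_of_solvable_quotient hperf L hsolq
      have hdvd : L.index ∣ (commutator G).index := Subgroup.index_dvd_of_le hle
      have hpos : 0 < (commutator G).index := Nat.pos_of_ne_zero Subgroup.index_ne_zero_of_finite
      exact le_trans (Nat.le_of_dvd hpos hdvd) hi
  have hprim : IsPrimitiveUnderConj D :=
    (Cfsg.Agent.S5353.result hD hD2 h2 h3 L hLq hF).1 hLi
  refine ⟨hG, hprim, ?_⟩
  -- width at least two
  by_contra hcon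
  push Not at hcon
  have hw' : ∀ x ∈ D, ∀ y ∈ D, x * y = y * x → x = y := by
    intro x hx y hy hxy
    by_contra hne
    exact hcon x hx y hy hne hxy
  obtain ⟨T, hTn, hTp, hTe⟩ := exists_normal_three hT hD.2.2 hw' ha
  have hTc : T ≤ Subgroup.center G := le_trans (Cfsg.Agent.Lib.Helper1.le_pCore hTn hTp) h3
  obtain ⟨x, hx, y, hy, hxy⟩ := hD2
  have hall : ∀ e ∈ D, e = a := by
    intro e he
    apply hw' e he a ha
    have hc := Subgroup.mem_center_iff.mp (hTc (hTe e he)) e
    calc e * a = e * (e * (e * a)) := by rw [← mul_assoc e e, hT.sq e he, one_mul]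
      _ = e * ((e * a) * e) := by rw [hc]
      _ = (e * e) * a * e := by group
      _ = a * e := by rw [hT.sq e he, one_mul]
  exact hxy ((hall x hx).trans (hall y hy).symm)

end Cfsg.Agent.Lib.Helper3.TT
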