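import Mathlib
import Cfsg.Agent.Lib.Helper3.Fs8
import Cfsg.Agent.Lib.Helper3.Fs9
import Cfsg.Agent.Lib.Helper3.TT18
import Cfsg.Agent.Lib.Helper2.TTLocB

set_option autoImplicit false
set_option maxHeartbeats 4000000
set_option maxRecDepth 100000
set_option linter.unusedVariables false
set_option linter.unusedSectionVars false
set_option linter.style.haveILetI false
set_option linter.deprecated false

/-!
# Fischer's lemma on `O(⟨D_x⟩)`: the end of the proof
-/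

namespace Cfsg.Agent.Lib.Helper3.Fs

open Cfsg Cfsg.Agent.Lib.Helper3.TT
open Classical

noncomputable section

universe u

variable {G : Type u} [Group G] [Fintype G] {D : Set G}
variable {K L Lam Mu T Tau : ℕ} {x y y' : G}

theorem Par.Dd_ncomm (p : Par D K L Lam Mu T Tau) (c : Ctx D) (s : Sd D x y y')
    {d a b : G} (hd : d ∈ D) (ha : a ∈ Dd D d) (hb : b ∈ Dd D d) (hab : a * b = b * a) :
    a = b := by
  by_contra hne
  have h0 : (LamF D d a).card = 0 := by rw [p.hlam d hd a ha]; exact p.Lam_eq_zero c s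
  have hmem : b ∈ LamF D d a := mem_LamF.mpr ⟨hb, hb.1, fun hh => hne hh.symm, hab⟩
  rw [Finset.card_eq_zero] at h0
  rw [h0] at hmem
  exact Finset.notMem_empty _ hmem

theorem Dd_line (h : TSet D) {d a b : G} (ha : a ∈ Dd D d) (hb : b ∈ Dd D d) :
    a * b * a ∈ Dd D d := by
  have hinv : a⁻¹ = a := h.inv ha.1
  have e1 : a * d * a⁻¹ = d := by rw [← ha.2.2.eq]; group
  have k := Dd_conj h a hb
  rw [e1, hinv] at k
  exact k

theorem Par.K_pow (p : Par D K L Lam Mu T Tau) (c : Ctx D) (s : Sd D x y y') :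
    ∃ κ : ℕ, K = 3 ^ κ := by
  have h := c.ts
  obtain ⟨j, hj⟩ := hts_card h (X := Dd D x) (fun a ha => ha.1)
    (fun a ha b hb hab => p.Dd_ncomm c s s.hx ha hb hab)
    (fun a ha b hb => Dd_line h ha hb) ⟨y, s.hy⟩
  refine ⟨j, ?_⟩
  rw [← p.hk x s.hx, card_DdF_eq]; exact hj

theorem Par.Mu_eq_one (p : Par D K L Lam Mu T Tau) (c : Ctx D) (s : Sd D x y y') : Mu = 1 := by
  have h := c.ts
  have hnc := tw_ncomm h s.hy.1 s.hy'.1 s.ht s.hne
  have hxy : x ∈ Dd D y := Dd_symm s.hx s.hy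
  have hxy' : x ∈ Dd D y' := Dd_symm s.hx s.hy'
  obtain ⟨j, hj⟩ := hts_card h (X := Dd D y ∩ Dd D y') (fun a ha => ha.1.1)
    (fun a ha b hb hab => p.Dd_ncomm c s s.hy.1 ha.1 hb.1 hab)
    (fun a ha b hb => ⟨Dd_line h ha.1 hb.1, Dd_line h ha.2 hb.2⟩) ⟨x, hxy, hxy'⟩
  have e1 : (Dd D y ∩ Dd D y').ncard = Mu := by
    rw [← p.hmu y s.hy.1 y' s.hy'.1 hnc]
    unfold LamF; rw [card_filter_univ_eq_ncard]; rfl
  rw [e1] at hj
  have hmod := p.Mu_mod c s
  cases j with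
  | zero => simpa using hj
  | succ a =>
    exfalso
    rw [hj, pow_succ] at hmod
    omega

theorem Par.L_eq (p : Par D K L Lam Mu T Tau) (c : Ctx D) (s : Sd D x y y') :
    L + K = K * K := by
  obtain ⟨E, hE1, hE2, _⟩ := p.eq_ii c s.hx
  rw [p.Lam_eq_zero c s] at hE1
  rw [p.Mu_eq_one c s, mul_one] at hE2
  have hK : K = E + 1 := by omega
  calc L + K = K * E + K := by rw [hE2]
    _ = K * (E + 1) := by ring
    _ = K * K := by rw [← hK]

theorem Par.card_D (p : Par D K L Lam Mu T Tau) (c : Ctx D) (s : Sd D x y y') :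
    Fintype.card {a : G // a ∈ D} = K * K + 1 := by
  have h1 := card_D_eq c.ts s.hx
  rw [p.hk x s.hx, p.hl x s.hx] at h1
  have h2 := p.L_eq c s
  have h3 : Fintype.card {a : G // a ∈ D} = D.ncard := by
    rw [← Nat.card_eq_fintype_card]; exact Nat.card_coe_set_eq D
  omega

/-- the commuting graph on `D` -/
def gadj (D : Set G) (i j : {a : G // a ∈ D}) : Prop := i.1 ≠ j.1 ∧ i.1 * j.1 = j.1 * i.1

theorem card_gadj (i : {a : G // a ∈ D}) :
    (Finset.univ.filter (fun k => gadj D i k)).card = (DdF D i.1).card := by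
  apply Finset.card_bij (fun k _ => k.1)
  · intro k hk
    rw [Finset.mem_filter] at hk
    rw [mem_DdF]
    exact ⟨k.2, fun hh => hk.2.1 hh.symm, hk.2.2⟩
  · intro a _ b _ hab
    exact Subtype.ext hab
  · intro a ha
    rw [mem_DdF] at ha
    exact ⟨⟨a, ha.1⟩, Finset.mem_filter.mpr ⟨Finset.mem_univ _, fun hh => ha.2.1 hh.symm,
      ha.2.2.eq⟩, rfl⟩

theorem card_gadj2 (i j : {a : G // a ∈ D}) :
    (Finset.univ.filter (fun k => gadj D i k ∧ gadj D k j)).card = (LamF D i.1 j.1).card := by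
  apply Finset.card_bij (fun k _ => k.1)
  · intro k hk
    rw [Finset.mem_filter] at hk
    rw [mem_LamF]
    obtain ⟨_, h1, h2⟩ := hk
    exact ⟨⟨k.2, fun hh => h1.1 hh.symm, h1.2⟩, ⟨k.2, h2.1, h2.2.symm⟩⟩
  · intro a _ b _ hab
    exact Subtype.ext hab
  · intro a ha
    rw [mem_LamF] at ha
    exact ⟨⟨a, ha.1.1⟩, Finset.mem_filter.mpr ⟨Finset.mem_univ _,
      ⟨fun hh => ha.1.2.1 hh.symm, ha.1.2.2.eq⟩, ⟨ha.2.2.1, ha.2.2.2.eq.symm⟩⟩, rfl⟩

theorem Par.K_eq_three (p : Par D K L Lam Mu T Tau) (c : Ctx D) (s : Sd D x y y') : K = 3 := by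
  have h := c.ts
  obtain ⟨κ, hκ⟩ := p.K_pow c s
  have h3 := p.three_dvd_K c s
  have hκ1 : 1 ≤ κ := by
    by_contra hh
    have h0 : κ = 0 := by omega
    rw [h0, pow_zero] at hκ
    rw [hκ] at h3
    omega
  by_contra hK3
  have hκ2 : 2 ≤ κ := by
    by_contra hh
    have h1 : κ = 1 := by omega
    rw [h1, pow_one] at hκ
    exact hK3 hκ
  have hsymm : ∀ i j : {a : G // a ∈ D}, gadj D i j → gadj D j i :=
    fun i j hij => ⟨fun hh => hij.1 hh.symm, hij.2.symm⟩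
  have hirr : ∀ i : {a : G // a ∈ D}, ¬ gadj D i i := fun i hi => hi.1 rfl
  have hdeg : ∀ i : {a : G // a ∈ D},
      (Finset.univ.filter (fun k => gadj D i k)).card = K :=
    fun i => (card_gadj i).trans (p.hk i.1 i.2)
  have h0 : ∀ i j : {a : G // a ∈ D}, gadj D i j →
      (Finset.univ.filter (fun k => gadj D i k ∧ gadj D k j)).card = 0 := by
    intro i j hij
    rw [card_gadj2, p.hlam i.1 i.2 j.1 ⟨j.2, fun hh => hij.1 hh.symm, hij.2⟩]
    exact p.Lam_eq_zero c s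
  have h1 : ∀ i j : {a : G // a ∈ D}, i ≠ j → ¬ gadj D i j →
      (Finset.univ.filter (fun k => gadj D i k ∧ gadj D k j)).card = 1 := by
    intro i j hne hnadj
    rw [card_gadj2, p.hmu i.1 i.2 j.1 j.2
      (fun hc => hnadj ⟨fun hh => hne (Subtype.ext hh), hc⟩)]
    exact p.Mu_eq_one c s
  obtain ⟨z, hz⟩ := moore_det (gadj D) K (p.K_pos s) hsymm hirr hdeg h0 h1
  have hN := p.card_D c s
  subst hκ
  exact moore_arith κ hκ2 z _ hN hz

theorem Par.tl (p : Par D K L Lam Mu T Tau) (c : Ctx D) (s : Sd D x y y') :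
    Cfsg.Agent.Lib.Helper2.TTLoc.TL D := by
  have h := c.ts
  have hK3 := p.K_eq_three c s
  have hcard : ∀ d ∈ D, (DdF D d).card = 3 := fun d hd => by rw [p.hk d hd, hK3]
  refine ⟨h.sq, h.ne_one, h.conj, fun a ha b hb hab => h.braid ha hb hab, ?_, ?_, ?_⟩
  · intro d hd
    have h1 : 1 < (DdF D d).card := by rw [hcard d hd]; norm_num
    obtain ⟨a, ha, b, hb, hab⟩ := Finset.one_lt_card.mp h1
    exact ⟨a, b, mem_DdF.mp ha, mem_DdF.mp hb, hab⟩
  · intro d hd a ha b hb hab hc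
    exact hab (p.Dd_ncomm c s hd ha hb hc.eq)
  · intro d hd g1 hg1 g2 hg2 g3 hg3 h12 h13 h23 g hg
    have hsub : ({g1, g2, g3} : Finset G) ⊆ DdF D d := by
      intro a ha
      simp only [Finset.mem_insert, Finset.mem_singleton] at ha
      rcases ha with rfl | rfl | rfl
      · exact mem_DdF.mpr hg1
      · exact mem_DdF.mpr hg2
      · exact mem_DdF.mpr hg3
    have hc3 : ({g1, g2, g3} : Finset G).card = 3 :=
      Finset.card_eq_three.mpr ⟨g1, g2, g3, h12, h13, h23, rfl⟩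
    have heq := Finset.eq_of_subset_of_card_le hsub (by rw [hcard d hd, hc3])
    have hmem : g ∈ ({g1, g2, g3} : Finset G) := by rw [heq]; exact mem_DdF.mpr hg
    simpa using hmem

theorem Par.not_KP (p : Par D K L Lam Mu T Tau) (c : Ctx D) (s : Sd D x y y') {d : G}
    (hd : d ∈ D) : ¬ Cfsg.Agent.Lib.Helper2.TTLoc.KP D d := by
  rintro ⟨e1, e2, d1, he1, he2, hne, hd1, hd1d, hcomm⟩
  have h := c.ts
  have he1' : e1 ∈ Dd D d := he1
  have he2' : e2 ∈ Dd D d := he2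
  have hd1' : d1 ∈ Dd D e1 := hd1
  have hde1 : d ∈ Dd D e1 := Dd_symm hd he1'
  have hnc : d * d1 ≠ d1 * d := fun hc => hd1d (p.Dd_ncomm c s he1'.1 hde1 hd1' hc).symm
  have hmu : (LamF D d d1).card = 1 := by
    rw [p.hmu d hd d1 hd1'.1 hnc]; exact p.Mu_eq_one c s
  have m1 : e1 ∈ LamF D d d1 := mem_LamF.mpr ⟨he1', Dd_symm he1'.1 hd1'⟩
  have m2 : e2 ∈ LamF D d d1 := by
    refine mem_LamF.mpr ⟨he2', he2'.1, ?_, hcomm⟩
    intro hh
    apply hnc
    rw [← hh]
    exact he2'.2.2.eq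
  exact hne (Finset.card_le_one.mp (le_of_eq hmu) e1 m1 e2 m2)

end

/-- **Fischer**: if `O(⟨D_x⟩)` is not central in `⟨D_x⟩` the group is the symmetric group of
degree five -/
theorem fischer_main {G : Type*} [Group G] [Finite G]
    (hsol : ∀ N : Subgroup G, N.Normal → Group.IsSolvable ↥N → N = ⊥)
    (hperf : ⁅commutator G, commutator G⁆ = commutator G) {D : Set G}
    (hD : Cfsg.IsThreeTranspositionClass D) (x : G) (hx : x ∈ D)
    (hO : ¬ Cfsg.oddCore ↥(Subgroup.closure {y : G | y ∈ D ∧ y ≠ x ∧ Commute x y}) ≤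
      Subgroup.center ↥(Subgroup.closure {y : G | y ∈ D ∧ y ≠ x ∧ Commute x y})) :
    Nonempty (G ≃* Equiv.Perm (Fin 5)) := by
  classical
  letI : Fintype G := Fintype.ofFinite G
  obtain ⟨hG, hprim, hw⟩ := fischer_hyp hsol hperf hD
  have hts := TSet.of_class hD
  have c : Ctx D := ⟨hts, hG, hprim, hw⟩
  obtain ⟨y, hy, y', hy', hne, ht⟩ := seed hts hx hO
  have s : Sd D x y y' := ⟨hx, hy, hy', hne, ht⟩
  have hnc := tw_ncomm hts hy.1 hy'.1 ht hne
  have p := par_exists c hx hy hy.1 hy'.1 hnc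
  have tl := p.tl c s
  have hnK := p.not_KP c s hx
  obtain ⟨B, hB, hdB, ⟨iso⟩⟩ := Cfsg.Agent.Lib.Helper2.TTLoc.s5_of_not_KP tl hx hnK
  have hsub := tl.eq_of_closed_of_not_KP hB hdB hnK
  have hDB : D = B := Set.Subset.antisymm hsub hB.1
  have htop : Subgroup.closure B = ⊤ := by rw [← hDB]; exact hG.2.2
  exact ⟨(Subgroup.topEquiv.symm.trans (MulEquiv.subgroupCongr htop.symm)).trans iso⟩

end Cfsg.Agent.Lib.Helper3.Fs
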