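import Mathlib
import Cfsg.Agent.Lib.Helper3.FullyRam1
import Cfsg.Agent.Lib.Helper6.Auto

set_option autoImplicit false

namespace Cfsg.Agent.Lib.Helper3.FullyRam

open Cfsg Cfsg.Agent.Lib.Helper6 Cfsg.Agent.Lib.Helper3.CentralAction Cfsg.Agent.Lib.Helper3.GoingDown
open scoped ComplexConjugate

section ram2

variable {H : Type*} [Group H] (Z : Subgroup H) [hZ : Z.Normal]

/-- the twisted commutator `g⁻¹ w g w⁻¹` as an element of `Z` -/
def comm' (g : H) (w : Z) : Z :=
  ⟨g⁻¹ * w * g * (w : H)⁻¹, by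
    have h1 : g⁻¹ * w * g ∈ Z := by
      have := hZ.conj_mem w w.2 g⁻¹
      simpa using this
    exact Z.mul_mem h1 (Z.inv_mem w.2)⟩

theorem comm'_eq_iff (g : H) (w z : Z) :
    comm' Z g w = z ↔ (w : H) * g * (w : H)⁻¹ = g * z := by
  constructor
  · intro h
    have h1 := congrArg Subtype.val h
    change g⁻¹ * w * g * (w : H)⁻¹ = z at h1
    rw [← h1]
    group
  · intro h
    apply Subtype.ext
    change g⁻¹ * w * g * (w : H)⁻¹ = z
    have : (z : H) = g⁻¹ * ((w : H) * g * (w : H)⁻¹) := by rw [h]; group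
    rw [this]
    group

variable [Fintype H] [Fintype Z]

omit [Fintype H] in
/-- the fibres of the twisted commutator map all have the same size -/
theorem card_fiber (g : H) (z : Z) [DecidableEq Z] [Decidable (IsConj g (g * z))]
    (hP : IsConj g (g * z) → ∃ w : Z, (w : H) * g * (w : H)⁻¹ = g * z) :
    (Finset.univ.filter (fun w : Z => comm' Z g w = z)).card
      = if IsConj g (g * z) then (Finset.univ.filter (fun w : Z => comm' Z g w = 1)).card
        else 0 := by
  by_cases hc : IsConj g (g * z)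
  · rw [if_pos hc]
    obtain ⟨w₀, hw₀⟩ := hP hc
    symm
    apply Finset.card_bij (fun w _ => w₀ * w)
    · intro w hw
      simp only [Finset.mem_filter, Finset.mem_univ, true_and] at hw ⊢
      rw [comm'_eq_iff] at hw ⊢
      rw [Subgroup.coe_one, mul_one] at hw
      rw [← hw₀, Subgroup.coe_mul]
      calc (w₀ : H) * w * g * ((w₀ : H) * w)⁻¹ = w₀ * ((w : H) * g * (w : H)⁻¹) * (w₀ : H)⁻¹ := by
            group
        _ = _ := by rw [hw]
    · intro a _ b _ hab
      exact mul_left_cancel hab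
    · intro w hw
      simp only [Finset.mem_filter, Finset.mem_univ, true_and] at hw ⊢
      refine ⟨w₀⁻¹ * w, ?_, by group⟩
      rw [comm'_eq_iff] at hw ⊢
      rw [Subgroup.coe_one, mul_one, Subgroup.coe_mul, Subgroup.coe_inv]
      have h1 : g = (w₀ : H)⁻¹ * (g * z) * w₀ := by rw [← hw₀]; group
      calc (w₀ : H)⁻¹ * w * g * ((w₀ : H)⁻¹ * w)⁻¹
          = (w₀ : H)⁻¹ * ((w : H) * g * (w : H)⁻¹) * w₀ := by group
        _ = (w₀ : H)⁻¹ * (g * z) * w₀ := by rw [hw]
        _ = g := h1.symm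
  · rw [if_neg hc, Finset.card_eq_zero, Finset.filter_eq_empty_iff]
    intro w _ hw
    rw [comm'_eq_iff] at hw
    exact hc (isConj_iff.mpr ⟨w, hw⟩)

/-- summing over the twisted commutators -/
theorem sum_comm'_eq (g : H) (F : Z → ℂ) [DecidableEq Z] [∀ z : Z, Decidable (IsConj g (g * z))]
    (hP : ∀ z : Z, IsConj g (g * z) → ∃ w : Z, (w : H) * g * (w : H)⁻¹ = g * z) :
    ∑ w : Z, F (comm' Z g w)
      = ((Finset.univ.filter (fun w : Z => comm' Z g w = 1)).card : ℂ)
          * ∑ z : Z, (if IsConj g (g * z) then F z else 0) := by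
  rw [← Finset.sum_fiberwise Finset.univ (fun w : Z => comm' Z g w) (fun w => F (comm' Z g w)),
    Finset.mul_sum]
  apply Finset.sum_congr rfl
  intro z _
  have h1 : ∑ w ∈ Finset.univ.filter (fun w : Z => comm' Z g w = z), F (comm' Z g w)
      = ((Finset.univ.filter (fun w : Z => comm' Z g w = z)).card : ℂ) * F z := by
    rw [← nsmul_eq_mul, ← Finset.sum_const]
    apply Finset.sum_congr rfl
    intro w hw
    simp only [Finset.mem_filter, Finset.mem_univ, true_and] at hw
    rw [hw]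
  rw [h1, card_fiber Z g z (hP z)]
  split_ifs
  · rfl
  · simp

/-- no element outside `Z` can have all of its `H`-conjugates in its own coset be `Z`-conjugates,
uniformly over the coset, when `χ` is fully ramified over `Z` -/
theorem false_of_coset_conj {χ : H → ℂ} (hχ : Cfsg.IsIrrCharacter H χ) {θ : Z → ℂ}
    (hθ : Cfsg.IsIrrCharacter Z θ) (e : ℕ) (he : e ^ 2 = Z.index)
    (hres : ∀ z : Z, χ z = (e : ℂ) * θ z) (g : H) (hg : g ∉ Z)
    (hP : ∀ (u z : Z), IsConj (g * u) (g * u * z) →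
      ∃ w : Z, (w : H) * (g * u) * (w : H)⁻¹ = g * u * z) : False := by
  classical
  have hZ0 : (Nat.card Z : ℂ) ≠ 0 := by
    have : 0 < Nat.card Z := Nat.card_pos
    exact_mod_cast this.ne'
  have key : ∀ u : Z, ∑ w : Z, θ (comm' Z (g * u) w) = 0 := by
    intro u
    have hgu : g * u ∉ Z := by
      intro h
      apply hg
      have := Z.mul_mem h (Z.inv_mem u.2)
      simpa using this
    rw [sum_comm'_eq Z (g * u) θ (hP u), sum_isConj_eq_zero Z hχ hθ e he hres (g * u) hgu, mul_zero]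
  have hsum : ∑ w : Z, ∑ u : Z, θ (comm' Z (g * u) w) = 0 := by
    rw [Finset.sum_comm]
    exact Finset.sum_eq_zero (fun u _ => key u)
  let σ : Z → Z := fun w => ⟨g⁻¹ * w * g, by
    have := hZ.conj_mem w w.2 g⁻¹
    simpa using this⟩
  have hσ : ∀ w : Z, θ (σ w) = θ w := by
    intro w
    have h1 := invariant_of_ramified Z hχ e he hres g⁻¹ w
    rw [← h1]
    congr 1
    apply Subtype.ext
    simp [σ]
  have hcf := IsIrrCharacter.isClassFunction hθ
  have h1 : ∀ w u : Z, θ (comm' Z (g * u) w) = θ (w⁻¹ * (u⁻¹ * σ w * u)) := by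
    intro w u
    have h2 : comm' Z (g * u) w = u⁻¹ * σ w * u * w⁻¹ := by
      apply Subtype.ext
      simp only [comm', σ, Subgroup.coe_mul, Subgroup.coe_inv]
      group
    rw [h2, ← hcf (u⁻¹ * σ w * u * w⁻¹) w⁻¹]
    congr 1
    group
  have h2 : ∀ w : Z, ∑ u : Z, θ (comm' Z (g * u) w)
      = (Nat.card Z : ℂ) / θ 1 * (θ w * conj (θ w)) := by
    intro w
    simp_rw [h1 w]
    have h3 : ∑ u : Z, θ (w⁻¹ * (u⁻¹ * σ w * u)) = ∑ u : Z, θ (w⁻¹ * (u * σ w * u⁻¹)) := by
      apply Fintype.sum_equiv (Equiv.inv Z)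
      intro u
      simp
    rw [h3, sum_apply_mul_conj_twist hθ w⁻¹ (σ w), hσ w,
      IsCharacter.apply_inv (IsIrrCharacter.isCharacter hθ)]
    ring
  simp_rw [h2] at hsum
  rw [← Finset.mul_sum] at hsum
  have h4 := classInner_isIrrCharacter hθ hθ
  rw [if_pos rfl] at h4
  unfold Cfsg.classInner at h4
  have h5 : ∑ z : Z, θ z * conj (θ z) = (Nat.card Z : ℂ) := by
    field_simp at h4
    exact h4
  rw [h5] at hsum
  have h6 := IsIrrCharacter.apply_one_ne_zero hθ
  have : (Nat.card Z : ℂ) / θ 1 * (Nat.card Z : ℂ) ≠ 0 := by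
    apply mul_ne_zero (div_ne_zero hZ0 h6) hZ0
  exact this hsum

end ram2

end Cfsg.Agent.Lib.Helper3.FullyRam
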