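import Mathlib

set_option autoImplicit false
set_option maxHeartbeats 4000000
set_option maxRecDepth 100000
set_option linter.unusedVariables false
set_option linter.unusedSectionVars false
set_option linter.style.haveILetI false
set_option linter.deprecated false

/-!
# A group of order three acting on a four-point block with two fixed points

Piece (P4) of the S2916 farm-out by helper8: a subgroup of order three which leaves a
four-element set invariant and fixes two of its points fixes all four.
-/

namespace Cfsg.Agent.Lib.Helper3.Fx3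

theorem fixes_of_card_three {G : Type*} [Group G] {Ω : Type*} [DecidableEq Ω] [MulAction G Ω]
    (K : Subgroup G) (hK : Nat.card K = 3) (l : Finset Ω) (hl : l.card = 4)
    (hinv : ∀ k ∈ K, ∀ x ∈ l, k • x ∈ l) (a b : Ω) (hab : a ≠ b) (ha : a ∈ l) (hb : b ∈ l)
    (hKa : ∀ k ∈ K, k • a = a) (hKb : ∀ k ∈ K, k • b = b) :
    ∀ k ∈ K, ∀ x ∈ l, k • x = x := by
  intro k hk x hx
  have hk3 : k ^ 3 = 1 := by
    have h := pow_card_eq_one' (G := K) (x := ⟨k, hk⟩)
    rw [hK] at h
    have h2 := congrArg Subtype.val h
    simpa using h2
  by_cases hxa : x = a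
  · rw [hxa]; exact hKa k hk
  by_cases hxb : x = b
  · rw [hxb]; exact hKb k hk
  have hmem : ∀ y ∈ l, y ≠ a → y ≠ b → (k • y ∈ l ∧ k • y ≠ a ∧ k • y ≠ b) := by
    intro y hy hya hyb
    refine ⟨hinv k hk y hy, ?_, ?_⟩
    · intro h
      apply hya
      have h2 : k • y = k • a := by rw [h, hKa k hk]
      exact MulAction.injective k h2
    · intro h
      apply hyb
      have h2 : k • y = k • b := by rw [h, hKb k hk]
      exact MulAction.injective k h2
  obtain ⟨h1, h1a, h1b⟩ := hmem x hx hxa hxb
  obtain ⟨h2, h2a, h2b⟩ := hmem (k • x) h1 h1a h1b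
  by_contra hne
  have d12 : x ≠ k • x := fun h => hne h.symm
  have d23 : k • x ≠ k • k • x := fun h => hne (MulAction.injective k h).symm
  have d13 : x ≠ k • k • x := by
    intro h
    apply hne
    have h3 : k • x = k • k • k • x := congrArg (fun z : Ω => k • z) h
    have h4 : k • k • k • x = (k ^ 3) • x := by
      rw [pow_succ, pow_succ, pow_one, mul_smul, mul_smul]
    rw [h4, hk3, one_smul] at h3
    exact h3
  have hsub : ({x, k • x, k • k • x, a, b} : Finset Ω) ⊆ l := by
    intro z hz
    simp only [Finset.mem_insert, Finset.mem_singleton] at hz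
    rcases hz with rfl | rfl | rfl | rfl | rfl
    · exact hx
    · exact h1
    · exact h2
    · exact ha
    · exact hb
  have hcard : ({x, k • x, k • k • x, a, b} : Finset Ω).card = 5 := by
    rw [Finset.card_insert_of_notMem, Finset.card_insert_of_notMem,
      Finset.card_insert_of_notMem, Finset.card_insert_of_notMem, Finset.card_singleton]
    · simpa using hab
    · simp only [Finset.mem_insert, Finset.mem_singleton, not_or]
      exact ⟨h2a, h2b⟩
    · simp only [Finset.mem_insert, Finset.mem_singleton, not_or]
      exact ⟨d23, h1a, h1b⟩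
    · simp only [Finset.mem_insert, Finset.mem_singleton, not_or]
      exact ⟨d12, d13, hxa, hxb⟩
  have hle := Finset.card_le_card hsub
  rw [hcard, hl] at hle
  omega

end Cfsg.Agent.Lib.Helper3.Fx3
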