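import Mathlib

/-!
# Farm GH5 (S3106), case (O,O), the involution argument: abelian core.

`A` a finite abelian group, `W ≤ A` with `A / W` and `W` of exponent two, squaring `A → W` with
kernel `W` and `|A| = |W|²`; `α` an involutive automorphism with few fixed points on `W`.
-/

set_option autoImplicit false

namespace Cfsg.Agent.Lib.Helper3.GH5

theorem card_eq_ker_mul_range {X Y : Type*} [Group X] [Group Y] (f : X →* Y) :
    Nat.card X = Nat.card f.ker * Nat.card f.range := by
  rw [← Subgroup.index_ker, Subgroup.card_mul_index]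

theorem abelian_core {A : Type*} [CommGroup A] [Finite A] (W : Subgroup A)
    (hsq : ∀ a : A, a * a ∈ W) (hker : ∀ a : A, a * a = 1 → a ∈ W) (hW2 : ∀ w ∈ W, w * w = 1)
    (hcard : Nat.card A = Nat.card W * Nat.card W)
    (α : A →* A) (hα2 : ∀ a, α (α a) = a)
    (M : Subgroup A) (hM : ∀ a, a ∈ M ↔ a ∈ W ∧ α a = a)
    (hMW : Nat.card M * Nat.card M ≤ Nat.card W)
    (D : Subgroup A) (hD : ∀ a, a ∈ D ↔ a⁻¹ * α a ∈ W) :
    (∀ q : A, α q = q → ∃ x : A, q * (x * α x) ∈ M) ∧ Nat.card W * Nat.card M ≤ Nat.card D ∧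
      (∀ d ∈ D, d * d ∈ M) ∧ (∀ d ∈ D, d * α d ∈ M) := by
  classical
  have hWpos : 0 < Nat.card W := Nat.card_pos
  have hMpos : 0 < Nat.card M := Nat.card_pos
  -- squares of `D` lie in `M`
  have hDsq : ∀ d ∈ D, d * d ∈ M := by
    intro d hd
    rw [hM]
    refine ⟨hsq d, ?_⟩
    have hu := (hD d).mp hd
    have hu2 := hW2 _ hu
    have : α d = d * (d⁻¹ * α d) := by group
    rw [map_mul, this]
    calc d * (d⁻¹ * α d) * (d * (d⁻¹ * α d)) = d * d * ((d⁻¹ * α d) * (d⁻¹ * α d)) := by
          rw [mul_mul_mul_comm]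
      _ = d * d := by rw [hu2, mul_one]
  have hDnu : ∀ d ∈ D, d * α d ∈ M := by
    intro d hd
    rw [hM]
    refine ⟨?_, ?_⟩
    · have hu := (hD d).mp hd
      have : d * α d = (d * d) * (d⁻¹ * α d) := by group
      rw [this]
      exact W.mul_mem (hsq d) hu
    · rw [map_mul, hα2, mul_comm]
  -- `D ≤ W * M` in cardinality, via squaring
  have hI1 : Nat.card D ≤ Nat.card W * Nat.card M := by
    let f : D →* M :=
      { toFun := fun d => ⟨(d : A) * d, hDsq d d.2⟩
        map_one' := by ext; simp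
        map_mul' := fun a b => by
          ext
          show ((a : A) * b) * ((a : A) * b) = (a : A) * a * ((b : A) * b)
          rw [mul_mul_mul_comm] }
    have h1 := card_eq_ker_mul_range f
    have h2 : Nat.card f.ker ≤ Nat.card W := by
      refine Nat.card_le_card_of_injective (fun d : f.ker => (⟨((d : D) : A), ?_⟩ : W)) ?_
      · have := d.2
        rw [MonoidHom.mem_ker] at this
        have h3 := congrArg (fun m : M => (m : A)) this
        exact hker _ h3
      · intro a b hab
        have := congrArg (fun w : W => (w : A)) hab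
        exact Subtype.ext (Subtype.ext this)
    have h3 : Nat.card f.range ≤ Nat.card M := Subgroup.card_le_card_group _
    rw [h1]
    exact Nat.mul_le_mul h2 h3
  -- the norm map to the quotient
  let ν : A →* A := MonoidHom.id A * α
  have hν : ∀ a, ν a = a * α a := fun a => rfl
  have hνfix : ∀ a, α (ν a) = ν a := by
    intro a
    rw [hν, map_mul, hα2, mul_comm]
  have hνD : ∀ a, ν a ∈ D := by
    intro a
    rw [hD, hνfix, inv_mul_cancel]
    exact W.one_mem
  let νb : A →* A ⧸ W := (QuotientGroup.mk' W).comp ν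
  have hkerνb : νb.ker = D := by
    ext a
    rw [MonoidHom.mem_ker, hD]
    show ((ν a : A) : A ⧸ W) = 1 ↔ _
    rw [QuotientGroup.eq_one_iff, hν]
    have h1 : a * α a = (a * a) * (a⁻¹ * α a) := by group
    constructor
    · intro h
      have : a⁻¹ * α a = (a * a)⁻¹ * (a * α a) := by group
      rw [this]
      exact W.mul_mem (W.inv_mem (hsq a)) h
    · intro h
      rw [h1]
      exact W.mul_mem (hsq a) h
  have hI2 : Nat.card A = Nat.card D * Nat.card νb.range := by
    rw [card_eq_ker_mul_range νb, hkerνb]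
  -- squaring on the quotient
  let sq : A →* A := MonoidHom.id A * MonoidHom.id A
  have hsqW : W ≤ sq.ker := by
    intro w hw
    rw [MonoidHom.mem_ker]
    exact hW2 w hw
  let sqb : A ⧸ W →* A := QuotientGroup.lift W sq hsqW
  have hsqb : ∀ a : A, sqb (a : A ⧸ W) = a * a := fun a => rfl
  have hsqb_inj : Function.Injective sqb := by
    rw [injective_iff_map_eq_one]
    intro x hx
    obtain ⟨a, rfl⟩ := QuotientGroup.mk_surjective x
    rw [hsqb] at hx
    exact (QuotientGroup.eq_one_iff a).mpr (hker a hx)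
  let Db : Subgroup (A ⧸ W) := D.map (QuotientGroup.mk' W)
  have hI3 : Nat.card Db ≤ Nat.card M := by
    refine Nat.card_le_card_of_injective (fun x : Db => (⟨sqb (x : A ⧸ W), ?_⟩ : M)) ?_
    · obtain ⟨d, hd, hdx⟩ := x.2
      rw [← hdx]
      exact hDsq d hd
    · intro x y hxy
      have := congrArg (fun m : M => (m : A)) hxy
      exact Subtype.ext (hsqb_inj this)
  have hle : νb.range ≤ Db := by
    rintro _ ⟨a, rfl⟩
    exact ⟨ν a, hνD a, rfl⟩
  -- arithmetic
  have hr : Nat.card M ≤ Nat.card νb.range := by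
    have h1 : Nat.card W * Nat.card W ≤ Nat.card W * Nat.card M * Nat.card νb.range := by
      rw [← hcard, hI2]
      exact Nat.mul_le_mul_right _ hI1
    have h2 : Nat.card W ≤ Nat.card M * Nat.card νb.range := by
      rw [mul_assoc] at h1
      exact Nat.le_of_mul_le_mul_left h1 hWpos
    have h3 : Nat.card M * Nat.card M ≤ Nat.card M * Nat.card νb.range := hMW.trans h2
    exact Nat.le_of_mul_le_mul_left h3 hMpos
  have heq : νb.range = Db := Subgroup.eq_of_le_of_card_ge hle (hI3.trans hr)
  refine ⟨?_, ?_, hDsq, hDnu⟩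
  · intro q hq
    have hqD : q ∈ D := by
      rw [hD, hq, inv_mul_cancel]
      exact W.one_mem
    have hqb : (q : A ⧸ W) ∈ Db := ⟨q, hqD, rfl⟩
    rw [← heq] at hqb
    obtain ⟨x, hx⟩ := hqb
    have hx' : ((ν x : A) : A ⧸ W) = (q : A ⧸ W) := hx
    have hmem : (ν x)⁻¹ * q ∈ W := QuotientGroup.eq.mp hx'
    refine ⟨x⁻¹, ?_⟩
    have h1 : q * (x⁻¹ * α x⁻¹) = (ν x)⁻¹ * q := by
      rw [hν, map_inv]
      rw [mul_comm q, mul_inv]
    rw [h1, hM]
    refine ⟨hmem, ?_⟩
    rw [map_mul, map_inv, hνfix, hq]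
  · -- `|W| |M| ≤ |D|`
    have h1 : Nat.card νb.range ≤ Nat.card M := by rw [heq]; exact hI3
    have h2 : Nat.card W * Nat.card W ≤ Nat.card D * Nat.card M := by
      rw [← hcard, hI2]
      exact Nat.mul_le_mul_left _ h1
    have h3 : Nat.card W * Nat.card M * Nat.card M ≤ Nat.card D * Nat.card M := by
      calc Nat.card W * Nat.card M * Nat.card M = Nat.card W * (Nat.card M * Nat.card M) := by ring
        _ ≤ Nat.card W * Nat.card W := Nat.mul_le_mul_left _ hMW
        _ ≤ _ := h2
    exact Nat.le_of_mul_le_mul_right h3 hMpos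

end Cfsg.Agent.Lib.Helper3.GH5
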