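import Mathlib
import Cfsg.Agent.Lib.Helper3.GH5OOa

/-!
# Farm GH5 (S3106), case (O,O), the involution argument at the group level.

`Q` abelian normal, `W ≤ Q` normal of order `16`, squaring `Q → W` with kernel `W`, `|Q| = |W|²`,
`t ∉ Q` with `t² ∈ Q` and `|C_W(t)| ≤ 4`: then there are `M ≤ H` with `H / M` of exponent two and
order at least `32`.
-/

set_option autoImplicit false

namespace Cfsg.Agent.Lib.Helper3.GH5

theorem exists_section_of_involution {G : Type*} [Group G] [Finite G] (Q W : Subgroup G)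
    [hQn : Q.Normal] (hWQ : W ≤ Q) (hQab : ∀ a ∈ Q, ∀ b ∈ Q, a * b = b * a)
    (hsq : ∀ a ∈ Q, a * a ∈ W) (hker : ∀ a ∈ Q, a * a = 1 → a ∈ W) (hW2 : ∀ w ∈ W, w * w = 1)
    (hcard : Nat.card Q = Nat.card W * Nat.card W) (hW16 : Nat.card W = 16)
    (t : G) (ht : t ∉ Q) (ht2 : t * t ∈ Q)
    (hfix : Nat.card {w : G // w ∈ W ∧ t * w * t⁻¹ = w} ≤ 4) :
    ∃ H M : Subgroup G, M ≤ H ∧ (∀ h ∈ H, ∀ m ∈ M, h * m * h⁻¹ ∈ M) ∧ (∀ h ∈ H, h * h ∈ M) ∧
      32 * Nat.card M ≤ Nat.card H := by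
  classical
  let _ : CommGroup Q := { (inferInstance : Group Q) with
    mul_comm := fun a b => Subtype.ext (hQab a a.2 b b.2) }
  let α : Q →* Q := (MulAut.conjNormal t : Q ≃* Q).toMonoidHom
  have hα : ∀ a : Q, ((α a : Q) : G) = t * a * t⁻¹ := fun a => MulAut.conjNormal_apply t a
  have hα2 : ∀ a : Q, α (α a) = a := by
    intro a
    apply Subtype.ext
    rw [hα, hα]
    have h1 : t * (t * (a : G) * t⁻¹) * t⁻¹ = (t * t) * a * (t * t)⁻¹ := by group
    rw [h1, hQab _ ht2 _ a.2]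
    group
  let W' : Subgroup Q := W.subgroupOf Q
  have hW' : ∀ a : Q, a ∈ W' ↔ (a : G) ∈ W := fun a => Subgroup.mem_subgroupOf
  have hcW' : Nat.card W' = Nat.card W :=
    Nat.card_congr (Subgroup.subgroupOfEquivOfLe hWQ).toEquiv
  let M' : Subgroup Q := W' ⊓ MonoidHom.eqLocus α (MonoidHom.id Q)
  have hM' : ∀ a, a ∈ M' ↔ a ∈ W' ∧ α a = a := by
    intro a
    show a ∈ W' ∧ a ∈ MonoidHom.eqLocus α (MonoidHom.id Q) ↔ _
    rfl
  let δ : Q →* Q := (MonoidHom.id Q)⁻¹ * α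
  have hδ : ∀ a, δ a = a⁻¹ * α a := fun a => rfl
  let D' : Subgroup Q := W'.comap δ
  have hD' : ∀ a, a ∈ D' ↔ a⁻¹ * α a ∈ W' := fun a => Iff.rfl
  -- the fixed points
  have hcM' : Nat.card M' ≤ 4 := by
    refine le_trans (Nat.card_le_card_of_injective
      (fun m : M' => (⟨((m : Q) : G), ?_, ?_⟩ : {w : G // w ∈ W ∧ t * w * t⁻¹ = w})) ?_) hfix
    · exact (hW' _).mp ((hM' _).mp m.2).1
    · have := ((hM' _).mp m.2).2
      rw [← hα, this]
    · intro a b hab
      have := congrArg (fun w : {w : G // w ∈ W ∧ t * w * t⁻¹ = w} => (w : G)) hab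
      exact Subtype.ext (Subtype.ext this)
  have hMW : Nat.card M' * Nat.card M' ≤ Nat.card W' := by
    rw [hcW', hW16]
    calc Nat.card M' * Nat.card M' ≤ 4 * 4 := Nat.mul_le_mul hcM' hcM'
      _ = 16 := by norm_num
  obtain ⟨hex, hcD, hDsq, hDnu⟩ := abelian_core W'
    (fun a => (hW' _).mpr (hsq a a.2))
    (fun a ha => (hW' _).mpr (hker a a.2 (by
      have := congrArg (fun q : Q => (q : G)) ha
      exact this)))
    (fun w hw => Subtype.ext (hW2 w ((hW' _).mp hw)))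
    (by rw [hcW']; exact hcard) α hα2 M' hM' hMW D' hD'
  -- the element `t' = x t` with square in `M`
  let t2 : Q := ⟨t * t, ht2⟩
  have ht2fix : α t2 = t2 := by
    apply Subtype.ext
    rw [hα]
    show t * (t * t) * t⁻¹ = t * t
    group
  obtain ⟨x, hx⟩ := hex t2 ht2fix
  let t' : G := (x : G) * t
  have ht'conj : ∀ a : Q, t' * a * t'⁻¹ = ((α a : Q) : G) := by
    intro a
    rw [hα]
    show (x : G) * t * a * ((x : G) * t)⁻¹ = _
    have h1 : (x : G) * t * a * ((x : G) * t)⁻¹ = x * (t * a * t⁻¹) * (x : G)⁻¹ := by group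
    rw [h1, hQab _ x.2 _ (hQn.conj_mem _ a.2 t)]
    group
  have ht'sq : t' * t' = ((t2 * (x * α x) : Q) : G) := by
    show (x : G) * t * ((x : G) * t) = (t * t) * ((x : G) * ((α x : Q) : G))
    rw [hα]
    have h1 : (x : G) * t * ((x : G) * t) = (x * (t * x * t⁻¹)) * (t * t) := by group
    rw [h1]
    exact hQab _ (Q.mul_mem x.2 (hQn.conj_mem _ x.2 t)) _ ht2
  have ht'Q : t' ∉ Q := by
    intro h
    apply ht
    have : t = (x : G)⁻¹ * t' := by show t = (x : G)⁻¹ * ((x : G) * t); group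
    rw [this]
    exact Q.mul_mem (Q.inv_mem x.2) h
  let DG : Subgroup G := D'.map Q.subtype
  let MG : Subgroup G := M'.map Q.subtype
  have hDG : ∀ g : G, g ∈ DG ↔ ∃ a : Q, a ∈ D' ∧ (a : G) = g := fun g => Iff.rfl
  have hMG : ∀ g : G, g ∈ MG ↔ ∃ a : Q, a ∈ M' ∧ (a : G) = g := fun g => Iff.rfl
  have hM'D' : M' ≤ D' := by
    intro a ha
    rw [hD', ((hM' a).mp ha).2, inv_mul_cancel]
    exact W'.one_mem
  have hMDG : MG ≤ DG := Subgroup.map_mono hM'D'
  have hαD : ∀ a ∈ D', α a ∈ D' := by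
    intro a ha
    rw [hD', hα2]
    have : (α a)⁻¹ * a = (a⁻¹ * α a)⁻¹ := by group
    rw [this]
    exact W'.inv_mem ((hD' a).mp ha)
  -- conjugation by `t'` and its inverse preserve `DG`
  have hconj : ∀ d ∈ DG, t' * d * t'⁻¹ ∈ DG := by
    rintro _ ⟨a, ha, rfl⟩
    exact ⟨α a, hαD a ha, (ht'conj a).symm⟩
  have hconj' : ∀ d ∈ DG, t'⁻¹ * d * t' ∈ DG := by
    rintro _ ⟨a, ha, rfl⟩
    -- `t'⁻¹ a t' = α a`
    have hmem : t'⁻¹ * (a : G) * t' ∈ Q := by
      have := hQn.conj_mem _ a.2 t'⁻¹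
      rwa [inv_inv] at this
    let e : Q := ⟨t'⁻¹ * (a : G) * t', hmem⟩
    have h1 : ((α e : Q) : G) = a := by
      rw [← ht'conj]
      show t' * (t'⁻¹ * (a : G) * t') * t'⁻¹ = a
      group
    have h2 : α e = a := Subtype.ext h1
    have h3 : e = α a := by rw [← h2, hα2]
    refine ⟨α a, hαD a ha, ?_⟩
    rw [← h3]
    rfl
  have ht'sqM : t' * t' ∈ MG := ⟨_, hx, ht'sq.symm⟩
  have ht'sqD : t' * t' ∈ DG := hMDG ht'sqM
  let H : Subgroup G :=
    { carrier := {h | h ∈ DG ∨ t'⁻¹ * h ∈ DG}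
      one_mem' := Or.inl DG.one_mem
      mul_mem' := by
        rintro a b (ha | ha) (hb | hb)
        · exact Or.inl (DG.mul_mem ha hb)
        · right
          have : t'⁻¹ * (a * b) = (t'⁻¹ * a * t') * (t'⁻¹ * b) := by group
          rw [this]
          exact DG.mul_mem (hconj' a ha) hb
        · right
          have : t'⁻¹ * (a * b) = (t'⁻¹ * a) * b := by group
          rw [this]
          exact DG.mul_mem ha hb
        · left
          have : a * b = (t' * t') * (t'⁻¹ * (t'⁻¹ * a) * t') * (t'⁻¹ * b) := by group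
          rw [this]
          exact DG.mul_mem (DG.mul_mem ht'sqD (hconj' _ ha)) hb
      inv_mem' := by
        rintro a (ha | ha)
        · exact Or.inl (DG.inv_mem ha)
        · right
          have : t'⁻¹ * a⁻¹ = (t'⁻¹ * (t'⁻¹ * a)⁻¹ * t') * (t' * t')⁻¹ := by group
          rw [this]
          exact DG.mul_mem (hconj' _ (DG.inv_mem ha)) (DG.inv_mem ht'sqD) }
  have hH : ∀ h : G, h ∈ H ↔ h ∈ DG ∨ t'⁻¹ * h ∈ DG := fun h => Iff.rfl
  have hDGQ : DG ≤ Q := by
    rintro _ ⟨a, _, rfl⟩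
    exact a.2
  have hDH : DG ≤ H := fun d hd => Or.inl hd
  have ht'H : t' ∈ H := Or.inr (by rw [inv_mul_cancel]; exact DG.one_mem)
  refine ⟨H, MG, hMDG.trans hDH, ?_, ?_, ?_⟩
  · -- `M` is normalised
    rintro h hh _ ⟨m, hm, rfl⟩
    show h * (m : G) * h⁻¹ ∈ MG
    rcases hh with hh | hh
    · have : h * (m : G) * h⁻¹ = m := by
        rw [hQab h (hDGQ hh) m m.2]
        group
      rw [this]
      exact ⟨m, hm, rfl⟩
    · have h1 : h * (m : G) * h⁻¹ = t' * ((t'⁻¹ * h) * m * (t'⁻¹ * h)⁻¹) * t'⁻¹ := by group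
      have h2 : (t'⁻¹ * h) * (m : G) * (t'⁻¹ * h)⁻¹ = m := by
        rw [hQab _ (hDGQ hh) m m.2]
        group
      rw [h1, h2, ht'conj, ((hM' m).mp hm).2]
      exact ⟨m, hm, rfl⟩
  · -- squares
    rintro h (hh | hh)
    · obtain ⟨a, ha, rfl⟩ := hh
      exact ⟨a * a, hDsq a ha, rfl⟩
    · obtain ⟨a, ha, hah⟩ := hh
      have hah' : (a : G) = t'⁻¹ * h := hah
      have h1 : h = t' * a := by rw [hah']; group
      have h2 : h * h = (t' * t') * ((t'⁻¹ * a * t') * a) := by rw [h1]; group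
      rw [h2]
      refine MG.mul_mem ht'sqM ?_
      -- `t'⁻¹ a t' = α a`
      have hmem : t'⁻¹ * (a : G) * t' ∈ Q := by
        have := hQn.conj_mem _ a.2 t'⁻¹
        rwa [inv_inv] at this
      let e : Q := ⟨t'⁻¹ * (a : G) * t', hmem⟩
      have h3 : ((α e : Q) : G) = a := by
        rw [← ht'conj]
        show t' * (t'⁻¹ * (a : G) * t') * t'⁻¹ = a
        group
      have h4 : e = α a := by rw [← (Subtype.ext h3 : α e = a), hα2]
      refine ⟨a * α a, hDnu a ha, ?_⟩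
      show (a : G) * ((α a : Q) : G) = t'⁻¹ * (a : G) * t' * a
      rw [← h4]
      exact hQab _ a.2 _ hmem
  · -- cardinalities
    have hcDG : Nat.card DG = Nat.card D' :=
      Subgroup.card_map_of_injective Q.subtype_injective
    have hcMG : Nat.card MG = Nat.card M' :=
      Subgroup.card_map_of_injective Q.subtype_injective
    have hne : DG ≠ H := by
      intro h
      apply ht'Q
      apply hDGQ
      rw [h]
      exact ht'H
    have hdvd := Subgroup.card_dvd_of_le hDH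
    obtain ⟨k, hk⟩ := hdvd
    have hHpos : 0 < Nat.card H := Nat.card_pos
    have hk2 : 2 ≤ k := by
      rcases Nat.lt_or_ge k 2 with h | h
      · exfalso
        interval_cases k
        · rw [mul_zero] at hk; omega
        · rw [mul_one] at hk
          exact hne (Subgroup.eq_of_le_of_card_ge hDH hk.le)
      · exact h
    rw [hcW', hW16] at hcD
    rw [hk, hcDG, hcMG]
    calc 32 * Nat.card M' = 2 * (16 * Nat.card M') := by ring
      _ ≤ 2 * Nat.card D' := Nat.mul_le_mul_left _ hcD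
      _ ≤ k * Nat.card D' := Nat.mul_le_mul_right _ hk2
      _ = Nat.card D' * k := Nat.mul_comm _ _

end Cfsg.Agent.Lib.Helper3.GH5
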