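import Mathlib
import Cfsg.Agent.Lib.Helper4.GH5MODefs
import Cfsg.Agent.Lib.Helper8.GH5Cases

/-!
# Farm GH5 (S3106), case (O,O), module level: the commutator form vanishes.

`V`, `W` both of type O (model data `TypeOData`), `s` nonvanishing: then `c = 0`.
-/

set_option autoImplicit false

namespace Cfsg.Agent.Lib.Helper3.GH5

open Cfsg.Agent.Lib.Helper4.GH5 (TypeOData)
open Cfsg.Agent.Lib.Helper8.GH5Cases (SC)

/-! ### decidable facts about `A₅` acting on five points -/

set_option maxRecDepth 100000 in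
theorem a5_card_point_stab : ∀ i : Fin 5,
    Fintype.card {π : alternatingGroup (Fin 5) // (π : Equiv.Perm (Fin 5)) i = i} = 12 := by
  decide

set_option maxRecDepth 100000 in
theorem a5_card_set_stab : ∀ T : Finset (Fin 5), (T.card = 2 ∨ T.card = 3) →
    Fintype.card {π : alternatingGroup (Fin 5) //
      T.map (π : Equiv.Perm (Fin 5)).toEmbedding = T} ≤ 6 := by
  decide

set_option maxRecDepth 100000 in
theorem a5_pair_stab_invariant : ∀ a b : Fin 5, a ≠ b → ∀ T : Finset (Fin 5),
    (∀ π : Equiv.Perm (Fin 5), Equiv.Perm.sign π = 1 →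
      (π a = a ∧ π b = b ∨ π a = b ∧ π b = a) → T.map π.toEmbedding = T) →
    T = ∅ ∨ T = {a, b} ∨ T = {a, b}ᶜ ∨ T = Finset.univ := by
  decide

set_option maxRecDepth 100000 in
theorem a5_transitive : ∀ a b : Fin 5, ∃ π : Equiv.Perm (Fin 5),
    Equiv.Perm.sign π = 1 ∧ π a = b := by
  decide

theorem card_ne_card_compl (S : Finset (Fin 5)) : S.card ≠ Sᶜ.card := by
  intro h
  have := Finset.card_add_card_compl S
  rw [Fintype.card_fin] at this
  omega

/-! ### consequences of the type O model -/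

section typeO

variable {G U : Type*} [Group G] [AddCommGroup U] {ρ : G →* AddMonoid.End U}

/-- the permutation of the five points induced by `g` -/
def tperm (d : TypeOData ρ) (g : G) : Equiv.Perm (Fin 5) :=
  ((d.φ g : alternatingGroup (Fin 5)) : Equiv.Perm (Fin 5))

theorem tO_perm'_sign (d : TypeOData ρ) (g : G) : Equiv.Perm.sign (tperm d g) = 1 :=
  Equiv.Perm.mem_alternatingGroup.mp (d.φ g).2

theorem tO_exists_perm' (d : TypeOData ρ) (π : Equiv.Perm (Fin 5))
    (hπ : Equiv.Perm.sign π = 1) : ∃ g : G, tperm d g = π := by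
  refine ⟨d.φ.symm ⟨π, Equiv.Perm.mem_alternatingGroup.mpr hπ⟩, ?_⟩
  show ((d.φ (d.φ.symm _) : alternatingGroup (Fin 5)) : Equiv.Perm (Fin 5)) = π
  rw [MulEquiv.apply_symm_apply]

theorem tO_rho_w (d : TypeOData ρ) (g : G) (i : Fin 5) :
    ρ g (d.w i) = d.w (tperm d g i) := d.smul_w g i

theorem tO_rho_sum (d : TypeOData ρ) (g : G) (S : Finset (Fin 5)) :
    ρ g (∑ i ∈ S, d.w i) = ∑ i ∈ S.map (tperm d g).toEmbedding, d.w i := by
  rw [map_sum, Finset.sum_map]
  refine Finset.sum_congr rfl (fun i _ => ?_)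
  exact tO_rho_w d g i

theorem tO_map_eq_of_fixed (d : TypeOData ρ) (g : G) (S : Finset (Fin 5))
    (h : ρ g (∑ i ∈ S, d.w i) = ∑ i ∈ S, d.w i) : S.map (tperm d g).toEmbedding = S := by
  rw [tO_rho_sum d] at h
  rcases d.sum_eq _ _ h with h1 | h1
  · exact h1.symm
  · exfalso
    have h2 := congrArg Finset.card h1
    have h3 := card_ne_card_compl (S.map (tperm d g).toEmbedding)
    rw [Finset.card_map] at h3
    exact h3 h2

theorem tO_w_injective (d : TypeOData ρ) : Function.Injective d.w := by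
  intro i j hij
  have h : ∑ k ∈ ({i} : Finset (Fin 5)), d.w k = ∑ k ∈ ({j} : Finset (Fin 5)), d.w k := by
    rw [Finset.sum_singleton, Finset.sum_singleton, hij]
  rcases d.sum_eq _ _ h with h1 | h1
  · exact (Finset.singleton_injective h1).symm
  · exfalso
    have h2 := congrArg Finset.card h1
    rw [Finset.card_singleton, Finset.card_compl, Finset.card_singleton, Fintype.card_fin] at h2
    omega

theorem tO_w_ne_zero (d : TypeOData ρ) (i : Fin 5) : d.w i ≠ 0 := by
  intro h0
  have h : ∑ k ∈ ({i} : Finset (Fin 5)), d.w k = ∑ k ∈ (∅ : Finset (Fin 5)), d.w k := by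
    rw [Finset.sum_singleton, Finset.sum_empty, h0]
  rcases d.sum_eq _ _ h with h1 | h1
  · have h2 := congrArg Finset.card h1
    simp at h2
  · have h2 := congrArg Finset.card h1
    rw [Finset.card_empty, Finset.card_compl, Finset.card_singleton, Fintype.card_fin] at h2
    omega

theorem tO_w_add_ne_zero (d : TypeOData ρ) {i j : Fin 5} (hij : i ≠ j) :
    d.w i + d.w j ≠ 0 := by
  intro h0
  have h : ∑ k ∈ ({i, j} : Finset (Fin 5)), d.w k = ∑ k ∈ (∅ : Finset (Fin 5)), d.w k := by
    rw [Finset.sum_pair hij, Finset.sum_empty, h0]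
  rcases d.sum_eq _ _ h with h1 | h1
  · have h2 := congrArg Finset.card h1
    rw [Finset.card_empty, Finset.card_pair hij] at h2
    omega
  · have h2 := congrArg Finset.card h1
    rw [Finset.card_empty, Finset.card_compl, Finset.card_pair hij, Fintype.card_fin] at h2
    omega

theorem tO_sum_compl (d : TypeOData ρ) (hU2 : ∀ u : U, u + u = 0) (S : Finset (Fin 5)) :
    ∑ i ∈ Sᶜ, d.w i = ∑ i ∈ S, d.w i := by
  have h1 : ∑ i ∈ S, d.w i + ∑ i ∈ Sᶜ, d.w i = 0 := by
    rw [Finset.sum_add_sum_compl, d.sum_w]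
  have h2 := hU2 (∑ i ∈ S, d.w i)
  calc ∑ i ∈ Sᶜ, d.w i = (∑ i ∈ S, d.w i + ∑ i ∈ S, d.w i) + ∑ i ∈ Sᶜ, d.w i := by
        rw [h2, zero_add]
    _ = ∑ i ∈ S, d.w i + (∑ i ∈ S, d.w i + ∑ i ∈ Sᶜ, d.w i) := by abel
    _ = ∑ i ∈ S, d.w i := by rw [h1, add_zero]

/-- `(c6)`: a nonzero vector fixed by at least seven group elements is one of the `w j`. -/
theorem tO_exists_w_of_fixed (d : TypeOData ρ) (hU2 : ∀ u : U, u + u = 0) (u : U)
    (hu : u ≠ 0) (P : G → Prop) (hP : 7 ≤ Nat.card {g : G // P g})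
    (hfix : ∀ g, P g → ρ g u = u) : ∃ j, u = d.w j := by
  classical
  obtain ⟨T, rfl⟩ := d.span u
  have hinv : ∀ g, P g → T.map (tperm d g).toEmbedding = T :=
    fun g hg => tO_map_eq_of_fixed d g T (hfix g hg)
  have hcard : T.card ≤ 5 := by
    have := Finset.card_le_univ T
    rwa [Fintype.card_fin] at this
  have h23 : ¬ (T.card = 2 ∨ T.card = 3) := by
    intro h
    have h1 := a5_card_set_stab T h
    have h2 : Nat.card {g : G // P g} ≤
        Nat.card {π : alternatingGroup (Fin 5) //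
          T.map (π : Equiv.Perm (Fin 5)).toEmbedding = T} := by
      refine Nat.card_le_card_of_injective
        (fun g => (⟨d.φ g.1, hinv g.1 g.2⟩ : {π : alternatingGroup (Fin 5) //
          T.map (π : Equiv.Perm (Fin 5)).toEmbedding = T})) ?_
      intro a b hab
      have := congrArg (fun x : {π : alternatingGroup (Fin 5) //
          T.map (π : Equiv.Perm (Fin 5)).toEmbedding = T} => (x : alternatingGroup (Fin 5))) hab
      exact Subtype.ext (d.φ.injective this)
    have h3 : Nat.card {π : alternatingGroup (Fin 5) //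
        T.map (π : Equiv.Perm (Fin 5)).toEmbedding = T} = Fintype.card {π : alternatingGroup (Fin 5) //
        T.map (π : Equiv.Perm (Fin 5)).toEmbedding = T} := Nat.card_eq_fintype_card
    rw [h3] at h2
    omega
  have hc : T.card = 0 ∨ T.card = 1 ∨ T.card = 4 ∨ T.card = 5 := by omega
  rcases hc with h | h | h | h
  · exfalso
    apply hu
    rw [Finset.card_eq_zero] at h
    rw [h, Finset.sum_empty]
  · obtain ⟨j, rfl⟩ := Finset.card_eq_one.mp h
    exact ⟨j, Finset.sum_singleton _ _⟩
  · have h' : Tᶜ.card = 1 := by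
      rw [Finset.card_compl, Fintype.card_fin, h]
    obtain ⟨j, hj⟩ := Finset.card_eq_one.mp h'
    refine ⟨j, ?_⟩
    rw [← tO_sum_compl d hU2 T, hj, Finset.sum_singleton]
  · exfalso
    apply hu
    have : T = Finset.univ := by
      apply Finset.eq_univ_of_card
      rw [Fintype.card_fin, h]
    rw [this, d.sum_w]

/-- `(c5)`: a vector fixed by the setwise stabiliser of `{a, b}` is `0` or `w a + w b`. -/
theorem tO_eq_of_fixed_pair_stab (d : TypeOData ρ) (hU2 : ∀ u : U, u + u = 0)
    (a b : Fin 5) (hab : a ≠ b) (u : U)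
    (hfix : ∀ g, (tperm d g a = a ∧ tperm d g b = b ∨ tperm d g a = b ∧ tperm d g b = a) →
      ρ g u = u) : u = 0 ∨ u = d.w a + d.w b := by
  classical
  obtain ⟨T, rfl⟩ := d.span u
  have hinv : ∀ π : Equiv.Perm (Fin 5), Equiv.Perm.sign π = 1 →
      (π a = a ∧ π b = b ∨ π a = b ∧ π b = a) → T.map π.toEmbedding = T := by
    intro π hπ hπab
    obtain ⟨g, rfl⟩ := tO_exists_perm' d π hπ
    exact tO_map_eq_of_fixed d g T (hfix g hπab)
  rcases a5_pair_stab_invariant a b hab T hinv with h | h | h | h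
  · left; rw [h, Finset.sum_empty]
  · right; rw [h, Finset.sum_pair hab]
  · right; rw [h, tO_sum_compl d hU2, Finset.sum_pair hab]
  · left; rw [h, d.sum_w]

theorem tO_card_point_stab (d : TypeOData ρ) (i : Fin 5) :
    Nat.card {g : G // tperm d g i = i} = 12 := by
  rw [← a5_card_point_stab i, ← Nat.card_eq_fintype_card]
  exact Nat.card_congr (d.φ.toEquiv.subtypeEquiv (fun g => Iff.rfl))

end typeO

/-! ### the case (O,O) -/

section OO

variable {G V W : Type*} [Group G] [AddCommGroup V] [AddCommGroup W]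
  {ρV : G →* AddMonoid.End V} {ρW : G →* AddMonoid.End W} {s : V → W} {c : V → V → W}

theorem c_sum_left (h : SC ρV ρW s c) (f : Fin 5 → V) (S : Finset (Fin 5)) (v : V) :
    c (∑ i ∈ S, f i) v = ∑ i ∈ S, c (f i) v := by
  classical
  induction S using Finset.induction_on with
  | empty => rw [Finset.sum_empty, Finset.sum_empty, h.c_zero_left]
  | insert a S ha ih => rw [Finset.sum_insert ha, Finset.sum_insert ha, h.c_add_left, ih]

theorem c_sum_right (h : SC ρV ρW s c) (f : Fin 5 → V) (S : Finset (Fin 5)) (u : V) :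
    c u (∑ i ∈ S, f i) = ∑ i ∈ S, c u (f i) := by
  classical
  induction S using Finset.induction_on with
  | empty => rw [Finset.sum_empty, Finset.sum_empty, h.c_zero_right]
  | insert a S ha ih => rw [Finset.sum_insert ha, Finset.sum_insert ha, h.c_add_right, ih]

/-- **case (O,O), module level**: the commutator form vanishes. -/
theorem c_eq_zero_of_typeO (h : SC ρV ρW s c) (dV : TypeOData ρV) (dW : TypeOData ρW)
    (hs_ne : ∀ v, v ≠ 0 → s v ≠ 0) : ∀ u v, c u v = 0 := by
  classical
  -- step 1: `s (w i)` is one of the `w' j`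
  have h1 : ∀ i, ∃ j, s (dV.w i) = dW.w j := by
    intro i
    refine tO_exists_w_of_fixed dW h.W2 (s (dV.w i)) (hs_ne _ (tO_w_ne_zero dV i))
      (fun g => tperm dV g i = i) ?_ ?_
    · rw [tO_card_point_stab dV]; norm_num
    · intro g hg
      rw [← h.s_equiv, tO_rho_w dV, hg]
  choose σ hσ using h1
  -- step 2: intertwining and bijectivity
  have hint : ∀ g i, σ (tperm dV g i) = tperm dW g (σ i) := by
    intro g i
    apply tO_w_injective dW
    rw [← hσ, ← tO_rho_w dV, h.s_equiv, hσ, tO_rho_w dW]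
  have hsurj : Function.Surjective σ := by
    intro j
    obtain ⟨π, hπ, hπj⟩ := a5_transitive (σ 0) j
    obtain ⟨g, hg⟩ := tO_exists_perm' dW π hπ
    refine ⟨tperm dV g 0, ?_⟩
    rw [hint, hg, hπj]
  have hinj : Function.Injective σ := Finite.injective_iff_surjective.mpr hsurj
  -- step 3: `c (w i) (w j) = 0`
  have h3 : ∀ i j, c (dV.w i) (dV.w j) = 0 := by
    intro i j
    by_cases hij : i = j
    · rw [hij, h.c_self]
    · have hne : s (dV.w i + dV.w j) ≠ 0 := hs_ne _ (tO_w_add_ne_zero dV hij)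
      have hσij : σ i ≠ σ j := fun e => hij (hinj e)
      have h4 := tO_eq_of_fixed_pair_stab dW h.W2 (σ i) (σ j) hσij (s (dV.w i + dV.w j)) (by
        intro g hg
        rw [← h.s_equiv, map_add, tO_rho_w dV, tO_rho_w dV]
        rw [← hint, ← hint] at hg
        rcases hg with ⟨hg1, hg2⟩ | ⟨hg1, hg2⟩
        · rw [hinj hg1, hinj hg2]
        · rw [hinj hg1, hinj hg2, add_comm])
      rcases h4 with h4 | h4
      · exact absurd h4 hne
      · rw [h.s_add, ← hσ, ← hσ] at h4
        have : s (dV.w i) + s (dV.w j) + c (dV.w i) (dV.w j) = s (dV.w i) + s (dV.w j) + 0 := by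
          rw [h4, add_zero]
        exact add_left_cancel this
  -- step 4: bilinearity
  intro u v
  obtain ⟨S, rfl⟩ := dV.span u
  obtain ⟨T, rfl⟩ := dV.span v
  rw [c_sum_left h]
  refine Finset.sum_eq_zero (fun i _ => ?_)
  rw [c_sum_right h]
  exact Finset.sum_eq_zero (fun j _ => h3 i j)

end OO

end Cfsg.Agent.Lib.Helper3.GH5
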