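import Mathlib
import Cfsg.Agent.Lib.Helper3.GH5OOb
import Cfsg.Agent.Lib.Helper3.GH5OOc
import Cfsg.Agent.Lib.Helper6.GH5R2

/-!
# Farm GH5 (S3106), case (O,O): the wrapper through the one-layer dictionary.
-/

set_option autoImplicit false

namespace Cfsg.Agent.Lib.Helper3.GH5

open Cfsg.Agent.Lib.Helper4.GH5 (TypeOData)
open Cfsg.Agent.Lib.Helper8.GH5Cases (SC)

set_option maxRecDepth 100000 in
theorem a5_involution_invariant : ∀ π : Equiv.Perm (Fin 5), Equiv.Perm.sign π = 1 → π ≠ 1 →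
    π * π = 1 →
    Fintype.card {T : Finset (Fin 5) // T.map π.toEmbedding = T ∧ (0 : Fin 5) ∉ T} ≤ 4 := by
  decide

theorem map_compl_of_map_eq (π : Equiv.Perm (Fin 5)) (T : Finset (Fin 5))
    (h : T.map π.toEmbedding = T) : (Tᶜ).map π.toEmbedding = Tᶜ := by
  have key : ∀ y, π y ∈ T ↔ y ∈ T := by
    intro y
    conv_lhs => rw [← h]
    exact Finset.mem_map' π.toEmbedding
  ext x
  rw [Finset.mem_map_equiv, Finset.mem_compl, Finset.mem_compl, ← key (π.symm x),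
    Equiv.apply_symm_apply]

section typeO

variable {G U : Type*} [Group G] [AddCommGroup U] {ρ : G →* AddMonoid.End U}

/-- `(c4)` = M(ii): an involution has at most four fixed vectors on a type O module. -/
theorem tO_card_fixed_involution (d : TypeOData ρ) (hU2 : ∀ u : U, u + u = 0) (g : G)
    (hg1 : g ≠ 1) (hg2 : g * g = 1) : Nat.card {u : U // ρ g u = u} ≤ 4 := by
  classical
  have hπ1 : tperm d g ≠ 1 := by
    intro h
    apply hg1
    apply d.φ.injective
    rw [map_one]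
    exact Subtype.ext h
  have hπ2 : tperm d g * tperm d g = 1 := by
    have : d.φ g * d.φ g = 1 := by rw [← map_mul, hg2, map_one]
    exact congrArg (fun x : alternatingGroup (Fin 5) => (x : Equiv.Perm (Fin 5))) this
  have hE := a5_involution_invariant (tperm d g) (tO_perm'_sign d g) hπ1 hπ2
  rw [← Nat.card_eq_fintype_card] at hE
  refine le_trans (Nat.card_le_card_of_injective
    (fun u : {u : U // ρ g u = u} =>
      (⟨if (0 : Fin 5) ∈ (d.span u.1).choose then ((d.span u.1).choose)ᶜ else (d.span u.1).choose,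
        ?_⟩ : {T : Finset (Fin 5) // T.map (tperm d g).toEmbedding = T ∧ (0 : Fin 5) ∉ T})) ?_) hE
  · have hT := (d.span u.1).choose_spec
    have hfix : ρ g (∑ i ∈ (d.span u.1).choose, d.w i) = ∑ i ∈ (d.span u.1).choose, d.w i := by
      rw [← hT]; exact u.2
    have hinv := tO_map_eq_of_fixed d g _ hfix
    by_cases h0 : (0 : Fin 5) ∈ (d.span u.1).choose
    · rw [if_pos h0]
      refine ⟨?_, ?_⟩
      · exact map_compl_of_map_eq _ _ hinv
      · rw [Finset.mem_compl]; exact fun h => h h0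
    · rw [if_neg h0]
      exact ⟨hinv, h0⟩
  · intro u v huv
    have huv' := congrArg (fun T : {T : Finset (Fin 5) //
      T.map (tperm d g).toEmbedding = T ∧ (0 : Fin 5) ∉ T} => ∑ i ∈ T.1, d.w i) huv
    have key : ∀ x : {u : U // ρ g u = u},
        ∑ i ∈ (if (0 : Fin 5) ∈ (d.span x.1).choose then ((d.span x.1).choose)ᶜ
          else (d.span x.1).choose), d.w i = x.1 := by
      intro x
      have hT := (d.span x.1).choose_spec
      by_cases h0 : (0 : Fin 5) ∈ (d.span x.1).choose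
      · rw [if_pos h0, tO_sum_compl d hU2]; exact hT.symm
      · rw [if_neg h0]; exact hT.symm
    apply Subtype.ext
    rw [← key u, ← key v]
    exact huv'

end typeO

section wrapper

variable {Y : Type*} [Group Y] [Finite Y]

/-- **case (O,O)**: impossible.  The dictionary hypotheses are conjuncts of
`Helper1.GH5U7.exists_layer`. -/
theorem case_O_O_layer (hr : Cfsg.SectionalPRankLE 2 4 Y) (Q W : Subgroup Y) [hQn : Q.Normal]
    [hWn : W.Normal] (hWQ : W ≤ Q) (hc : ∀ w ∈ W, ∀ q ∈ Q, w * q = q * w)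
    (hsq : ∀ q ∈ Q, q * q ∈ W) (hexp : ∀ w ∈ W, w * w = 1) (hcardW : Nat.card W = 16)
    {V Wt : Type*} [AddCommGroup V] [AddCommGroup Wt] [Finite Wt]
    {ρV : (Y ⧸ Q) →* AddMonoid.End V} {ρW : (Y ⧸ Q) →* AddMonoid.End Wt} {s : V → Wt}
    {c : V → V → Wt} (h : SC ρV ρW s c) (dV : TypeOData ρV) (dW : TypeOData ρW)
    (hcardV : Nat.card V = 16)
    (πV : Q → V) (πW : W → Wt) (hπV_surj : Function.Surjective πV)
    (hπV_ker : ∀ a : Q, πV a = 0 ↔ (a : Y) ∈ W) (hπW_inj : Function.Injective πW)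
    (hπW_mul : ∀ a b : W, πW (a * b) = πW a + πW b)
    (hρW : ∀ (y : Y) (w : W) (hw : y * w * y⁻¹ ∈ W),
      ρW (QuotientGroup.mk y) (πW w) = πW ⟨y * w * y⁻¹, hw⟩)
    (hs : ∀ (q : Q) (hq : (q : Y) * q ∈ W), s (πV q) = πW ⟨(q : Y) * q, hq⟩)
    (hcm : ∀ (q q' : Q) (hq : (q : Y) * q' * (q : Y)⁻¹ * (q' : Y)⁻¹ ∈ W),
      c (πV q) (πV q') = πW ⟨(q : Y) * q' * (q : Y)⁻¹ * (q' : Y)⁻¹, hq⟩)
    (hcardQ : Nat.card V * Nat.card W = Nat.card Q) : False := by
  classical
  have hπW1 : πW 1 = 0 := by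
    have := hπW_mul 1 1
    rw [mul_one] at this
    exact add_eq_left.mp this.symm
  have hWc : ∀ w ∈ W, ∀ w' ∈ W, w * w' = w' * w := fun w hw w' hw' => hc w hw w' (hWQ hw')
  -- (R5')
  have hker : ∀ a ∈ Q, a * a = 1 → a ∈ W := by
    intro a ha haa
    by_contra haW
    exact Cfsg.Agent.Lib.Helper6.GH5.false_of_central_E16 hr W hWc hexp hcardW a haW haa
      (fun w hw => (hc w hw a ha).symm)
  have hs_ne : ∀ v, v ≠ 0 → s v ≠ 0 := by
    intro v hv hsv
    obtain ⟨q, rfl⟩ := hπV_surj v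
    have hqW : (q : Y) ∉ W := fun hq => hv ((hπV_ker q).mpr hq)
    have h1 := hs q (hsq q q.2)
    rw [hsv, ← hπW1] at h1
    have h2 := hπW_inj h1
    have h3 : (q : Y) * q = 1 := (congrArg (fun w : W => (w : Y)) h2).symm
    exact hqW (hker q q.2 h3)
  have hc0 := c_eq_zero_of_typeO h dV dW hs_ne
  have hcomm_mem : ∀ q q' : Q, (q : Y) * q' * (q : Y)⁻¹ * (q' : Y)⁻¹ ∈ W := by
    intro q q'
    have e : (q : Y) * q' * (q : Y)⁻¹ * (q' : Y)⁻¹ =
        ((q : Y) * q') * ((q : Y) * q') * ((q' : Y)⁻¹ * ((q : Y)⁻¹ * (q : Y)⁻¹) * (q' : Y)⁻¹⁻¹) *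
          ((q' : Y)⁻¹ * (q' : Y)⁻¹) := by group
    rw [e]
    refine W.mul_mem (W.mul_mem (hsq _ (Q.mul_mem q.2 q'.2)) ?_) (hsq _ (Q.inv_mem q'.2))
    exact hWn.conj_mem _ (hsq _ (Q.inv_mem q.2)) (q' : Y)⁻¹
  have hQab : ∀ a ∈ Q, ∀ b ∈ Q, a * b = b * a := by
    intro a ha b hb
    have h1 := hcm ⟨a, ha⟩ ⟨b, hb⟩ (hcomm_mem ⟨a, ha⟩ ⟨b, hb⟩)
    rw [hc0, ← hπW1] at h1
    have h2 := hπW_inj h1
    have h3 : a * b * a⁻¹ * b⁻¹ = 1 := (congrArg (fun w : W => (w : Y)) h2).symm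
    calc a * b = (a * b * a⁻¹ * b⁻¹) * (b * a) := by group
      _ = b * a := by rw [h3, one_mul]
  have hcard : Nat.card Q = Nat.card W * Nat.card W := by rw [← hcardQ, hcardV, hcardW]
  -- an involution of `Y ⧸ Q`
  obtain ⟨g, hg⟩ := tO_exists_perm' dW (Equiv.swap 0 1 * Equiv.swap 2 3) (by decide)
  have hg1 : g ≠ 1 := by
    rintro rfl
    have h1 : tperm dW 1 = 1 := by
      show ((dW.φ 1 : alternatingGroup (Fin 5)) : Equiv.Perm (Fin 5)) = 1
      rw [map_one]; rfl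
    rw [h1] at hg
    revert hg
    decide
  have hg2 : g * g = 1 := by
    apply dW.φ.injective
    rw [map_one]
    apply Subtype.ext
    show ((dW.φ (g * g) : alternatingGroup (Fin 5)) : Equiv.Perm (Fin 5)) = 1
    rw [map_mul]
    show tperm dW g * tperm dW g = 1
    rw [hg]
    decide
  obtain ⟨t, rfl⟩ := QuotientGroup.mk_surjective g
  have ht : t ∉ Q := fun h => hg1 ((QuotientGroup.eq_one_iff t).mpr h)
  have ht2 : t * t ∈ Q := by
    rw [← QuotientGroup.eq_one_iff, QuotientGroup.mk_mul]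
    exact hg2
  have hfix : Nat.card {w : Y // w ∈ W ∧ t * w * t⁻¹ = w} ≤ 4 := by
    refine le_trans (Nat.card_le_card_of_injective
      (fun w : {w : Y // w ∈ W ∧ t * w * t⁻¹ = w} =>
        (⟨πW ⟨w.1, w.2.1⟩, ?_⟩ : {u : Wt // ρW (QuotientGroup.mk t) u = u})) ?_)
      (tO_card_fixed_involution dW h.W2 _ hg1 hg2)
    · have hw : t * w.1 * t⁻¹ ∈ W := hWn.conj_mem _ w.2.1 t
      rw [hρW t ⟨w.1, w.2.1⟩ hw]
      congr 1
      exact Subtype.ext w.2.2
    · intro a b hab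
      have h1 := congrArg (fun u : {u : Wt // ρW (QuotientGroup.mk t) u = u} => (u : Wt)) hab
      have h2 := hπW_inj h1
      exact Subtype.ext (congrArg (fun w : W => (w : Y)) h2)
  exact Cfsg.Agent.Lib.Helper6.GH5.false_of_exists_sq_section hr
    (exists_section_of_involution Q W hWQ hQab hsq hker hexp hcard hcardW t ht ht2 hfix)

end wrapper

end Cfsg.Agent.Lib.Helper3.GH5
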