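import Mathlib
import Cfsg.Agent.Lib.Helper2.GH5Dict
import Cfsg.Agent.Lib.Helper3.GH5OOd

/-!
# Farm GH5 (S3106): the wrapper `no_OO` in the owner's `Dict` form.
-/

set_option autoImplicit false

namespace Cfsg.Agent.Lib.Helper3.GH5

open Cfsg.Agent.Lib.Helper4.GH5 (TypeOData)
open Cfsg.Agent.Lib.Helper2.GH5 (Dict)

universe u

variable {Y : Type u} [Group Y] [Finite Y] {Q W : Subgroup Y} [hQn : Q.Normal] [hWn : W.Normal]
  {V Wt : Type u} [AddCommGroup V] [AddCommGroup Wt] [Finite V] [Finite Wt]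
  {ρV : (Y ⧸ Q) →* AddMonoid.End V} {ρW : (Y ⧸ Q) →* AddMonoid.End Wt}
  {πV : ↥Q → V} {πW : ↥W → Wt} {s : V → Wt} {c : V → V → Wt}

/-- (OO), statement as posted by the owner (tip 03:08Z). -/
theorem no_OO (d : Dict Q W ρV ρW πV πW s c) (e : Y ⧸ Q ≃* alternatingGroup (Fin 5))
    (hr : Cfsg.SectionalPRankLE 2 4 Y)
    (hcen : ∀ w ∈ W, ∀ q ∈ Q, w * q = q * w) (hWQ : W ≤ Q) (hexp : ∀ w ∈ W, w * w = 1)
    (hsq : ∀ q ∈ Q, q * q ∈ W)
    (hcardV : Nat.card V = 16) (hinjV : Function.Injective ρV)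
    (hcardW : Nat.card Wt = 16) (hinjW : Function.Injective ρW)
    (hsne : ∀ v : V, v ≠ 0 → s v ≠ 0)
    (dV : TypeOData ρV) (dW : TypeOData ρW) : False :=
  case_O_O_layer hr Q W hWQ hcen hsq hexp (by rw [← d.card_Wt, hcardW]) d.sc dV dW hcardV πV πW
    d.πV_surj d.πV_ker d.πW_bij.1 d.πW_mul d.ρW_mk d.s_mk d.c_mk d.card_V

end Cfsg.Agent.Lib.Helper3.GH5
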