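import Mathlib
import Cfsg.Agent.Lib.Helper3.GH7Om4

/-!
# Farm GH7 (S3105), S★a-nonsplit (N2 + N4) in of-form (helper3), part 1: facts on `L` by `decide`, small group lemmas.
-/

set_option autoImplicit false
set_option linter.unusedSectionVars false
set_option linter.unusedVariables false

namespace Cfsg.Agent.Lib.Helper3.GH7N4

open Cfsg.Agent.Lib.Helper2.GH7
open Cfsg.Agent.Lib.Helper3.GH7Om (OddAt)

abbrev V3 := Fin 3 → ZMod 2

theorem D1 : ∀ v : V3, Matrix.mulVec (u4 : Matrix (Fin 3) (Fin 3) (ZMod 2)) v = v → v ≠ 0 → OddAt u4 v := by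
  decide +kernel

theorem D2 : ∀ a : V3, a 2 = 0 → ∃ a'' : V3, Matrix.mulVec (u4 : Matrix (Fin 3) (Fin 3) (ZMod 2)) a'' + a'' = a := by
  decide +kernel

theorem D3 : ∀ v' b : V3, b + (v' + Matrix.mulVec (a12 : Matrix (Fin 3) (Fin 3) (ZMod 2)) v') = 0 →
    Matrix.mulVec (u4 : Matrix (Fin 3) (Fin 3) (ZMod 2)) b + b = 0 := by
  decide +kernel

theorem D4 : ∀ a : V3, a 2 ≠ 0 →
    Matrix.mulVec ((u4 * a12 : L) : Matrix (Fin 3) (Fin 3) (ZMod 2)) a + a ≠ 0 := by
  decide +kernel

theorem a12_ne' : a12 ≠ 1 := by decide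
theorem au_ne : a12 * u4 ≠ 1 := by decide
theorem au_sq : (a12 * u4) * (a12 * u4) = 1 := by decide
theorem u_au : u4 * (a12 * u4 * a12⁻¹) = 1 := by decide

/-- the fourth power of `g w` for a central `w` of order 2 -/
theorem pow4_mul_central {X : Type*} [Group X] (g w : X) (hw : ∀ y : X, y * w = w * y) (hw2 : w * w = 1) :
    ((g * w) * (g * w)) * ((g * w) * (g * w)) = (g * g) * (g * g) := by
  have h1 : (g * w) * (g * w) = g * g := by
    calc (g * w) * (g * w) = g * (w * g) * w := by group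
      _ = g * (g * w) * w := by rw [hw g]
      _ = g * g * (w * w) := by group
      _ = g * g := by rw [hw2, mul_one]
  rw [h1]

end Cfsg.Agent.Lib.Helper3.GH7N4
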