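import Mathlib
import Cfsg.Agent.Lib.Helper3.GH7CE
import Cfsg.Agent.Lib.Helper3.GH7SaS1
import Cfsg.Agent.Lib.Helper1.GH7Sb0

/-!
# Farm GH7 (S3105), tool for S★a (helper3): reduction to an involution lift.

If some `k` over an involution of `L` has `k² ∈ Ω₁(Q)`, then (CE with `A := Ω₁(Q)`) `G` has a normal subgroup `X0` of index 2
with `X0 ⊓ Q = Ω₁(Q)`; `X0` maps onto `L`, and `x ∈ X0` over `u4` has `x⁴ ∈ X0 ⊓ Q = Ω₁(Q)`, so `x⁸ = 1`.
-/

set_option autoImplicit false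
set_option linter.unusedSectionVars false
set_option linter.unusedVariables false

namespace Cfsg.Agent.Lib.Helper3.GH7SaS

open Cfsg.Agent.Lib.Helper2.GH7
open Cfsg.Agent.Lib.Helper3.A8Emb (sqSub)
open Cfsg.Agent.Lib.Helper1.GH7Sb (omega1)

universe u

variable {G : Type u} [Group G] [Finite G] {Q : Subgroup G} [Q.Normal]

/-- a normal subgroup of index 2 of `G` maps onto `L` -/
theorem map_top_of_index_two' (θ : G →* L) (hsurj : Function.Surjective θ) (X0 : Subgroup G) [X0.Normal]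
    (hidx : X0.index = 2) : X0.map θ = ⊤ := by
  rcases map_eq_bot_or_top θ hsurj X0 with h | h
  · exfalso
    have hle : X0 ≤ θ.ker := by
      intro x hx
      rw [MonoidHom.mem_ker]
      have : θ x ∈ X0.map θ := Subgroup.mem_map_of_mem _ hx
      rw [h, Subgroup.mem_bot] at this
      exact this
    have h1 := Subgroup.index_dvd_of_le hle
    rw [hidx, Subgroup.index_ker, MonoidHom.range_eq_top.2 hsurj] at h1
    have h2 : Nat.card (⊤ : Subgroup L) = 168 := by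
      rw [Subgroup.card_top]; exact Cfsg.Agent.Lib.Helper1.Dv.card_SL32
    rw [h2] at h1
    omega
  · exact h

/-- an element over `u4` in a normal subgroup of index 2 -/
theorem exists_u4_lift (θ : G →* L) (hsurj : Function.Surjective θ) (X0 : Subgroup G) [X0.Normal]
    (hidx : X0.index = 2) : ∃ x ∈ X0, θ x = u4 := by
  have h : u4 ∈ X0.map θ := by rw [map_top_of_index_two' θ hsurj X0 hidx]; trivial
  obtain ⟨x, hx, hxu⟩ := Subgroup.mem_map.1 h
  exact ⟨x, hx, hxu⟩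

/-- **reduction**: an involution of `L` lifting to `k` with `k² ∈ Ω₁(Q)` gives `x` over an element of order 4 with `x⁸ = 1` -/
theorem pow8_of_inv_lift (θ : G →* L) (hsurj : Function.Surjective θ) (hker : θ.ker = Q)
    (hcomm : ∀ a ∈ Q, ∀ b ∈ Q, a * b = b * a) (hcard : Nat.card Q = 32) (hΦ : Nat.card (sqSub Q) = 2)
    (k : G) (hk1 : θ k ≠ 1) (hk2 : θ k * θ k = 1) (hk4 : (k * k) * (k * k) = 1) :
    ∃ x : G, orderOf (θ x) = 4 ∧ x ^ 8 = 1 := by
  -- an element of `Q` of order 4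
  obtain ⟨c, hcQ, hc⟩ : ∃ c ∈ Q, c * c ≠ 1 := by
    by_contra hcon
    push Not at hcon
    have : sqSub Q = ⊥ := by
      rw [eq_bot_iff]
      unfold sqSub
      rw [Subgroup.closure_le]
      rintro y ⟨b, hb, rfl⟩
      rw [pow_two, hcon b hb]
      exact Subgroup.one_mem _
    rw [this, Subgroup.card_bot] at hΦ
    omega
  have hO16 := Cfsg.Agent.Lib.Helper1.GH7Sb.card_omega1 hcomm hcard hΦ hcQ hc
  have hkkQ : k * k ∈ Q := by rw [← hker, MonoidHom.mem_ker, map_mul, hk2]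
  obtain ⟨X0, hX0n, hX0i, hX0Q⟩ := Cfsg.Agent.Lib.Helper3.GH7CE.exists_index_two_of_inv θ hsurj hker
    (omega1 Q hcomm) (Cfsg.Agent.Lib.Helper1.GH7Sb.omega1_le hcomm) (by rw [hcard, hO16]) k hk1 hk2
    ⟨hkkQ, hk4⟩
  have := hX0n
  obtain ⟨x, hx, hxu⟩ := exists_u4_lift θ hsurj X0 hX0i
  refine ⟨x, by rw [hxu]; exact u4_order, ?_⟩
  have h1 : x ^ 4 ∈ X0 ⊓ Q := by
    refine Subgroup.mem_inf.2 ⟨Subgroup.pow_mem _ hx 4, ?_⟩
    rw [← hker, MonoidHom.mem_ker, map_pow, hxu, u4_pow4]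
  rw [hX0Q] at h1
  have h8 : x ^ 8 = x ^ 4 * x ^ 4 := by rw [← pow_add]
  rw [h8]
  exact h1.2

end Cfsg.Agent.Lib.Helper3.GH7SaS
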