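import Mathlib
import Cfsg.Agent.Lib.Helper3.GH7N4a
import Cfsg.Agent.Lib.Helper3.GH7SaR

/-!
# Farm GH7 (S3105), S★a-nonsplit in of-form (helper3): `nonsplit_of` from (N1).

`x` over `u4`, `s` over `a12` (after the twist `α`); if no involution lifts to `k` with `k² ∈ Ω₁(Q)`:
`x⁴ = c o0`, `s² = c o2`, `s x s⁻¹ = x⁻¹ q1`, `o0, o2, q1 ∈ Ω₁(Q)`; (N2) `o0 ∈ W`; (A) `φ(q1)₃ = 1`; (N3) `(u-1)φ(o2) = 0`;
(B) `(x·o2) o2⁻¹ = ((x s)·q1⁻¹) q1`; in coordinates `0 = (1 + u4 a12) φ(q1) ≠ 0`.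
-/

set_option autoImplicit false
set_option linter.unusedSectionVars false
set_option linter.unusedVariables false
set_option maxHeartbeats 1000000

namespace Cfsg.Agent.Lib.Helper3.GH7N4

open Cfsg.Agent.Lib.Helper2.GH7
open Cfsg.Agent.Lib.Helper3.A8Emb (sqSub)
open Cfsg.Agent.Lib.Helper1.GH7Sb (omega1)
open Cfsg.Agent.Lib.Helper3.GH7SaS
open Cfsg.Agent.Lib.Helper3.GH7Om

universe u

variable {G : Type u} [Group G] [Finite G] {Q : Subgroup G} [Q.Normal]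

/-- **S★a nonsplit from (N1)** -/
theorem nonsplit_of (θ : G →* L) (hsurj : Function.Surjective θ) (hker : θ.ker = Q)
    (hcomm : ∀ a ∈ Q, ∀ b ∈ Q, a * b = b * a) (hcard : Nat.card Q = 32) (hΦ : Nat.card (sqSub Q) = 2)
    (hfaith : ∀ g : G, (∀ a ∈ Q, g * a * g⁻¹ * a⁻¹ ∈ sqSub Q) → g ∈ Q)
    (c : G) (hcQ : c ∈ Q) (hc : c * c ≠ 1) (hcen : ∀ g : G, g * c = c * g)
    (hN1 : ∀ (α : L ≃* L) (φ : G → (Fin 3 → ZMod 2)),
      (∀ a ∈ omega1 Q hcomm, ∀ b ∈ omega1 Q hcomm, φ (a * b) = φ a + φ b) →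
      (∀ v : Fin 3 → ZMod 2, ∃ o ∈ omega1 Q hcomm, φ o = v) →
      (∀ o ∈ omega1 Q hcomm, φ o = 0 ↔ o ∈ sqSub Q) →
      (∀ g : G, ∀ o ∈ omega1 Q hcomm,
        φ (g * o * g⁻¹) = Matrix.mulVec (α (θ g) : Matrix (Fin 3) (Fin 3) (ZMod 2)) (φ o)) →
      ∀ (g₀ o₀ : G), o₀ ∈ omega1 Q hcomm → φ o₀ ≠ 0 → OddAt (α (θ g₀)) (φ o₀) → g₀ * o₀ = o₀ * g₀ →
        ∃ U' : Subgroup G, U'.Normal ∧ U' ≤ Q ∧ Nat.card U' = 8 ∧ ∀ x ∈ U', x * x = 1)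
    (hns : ¬ ∃ U' : Subgroup G, U'.Normal ∧ U' ≤ Q ∧ Nat.card U' = 8 ∧ ∀ x ∈ U', x * x = 1) :
    ∃ x : G, orderOf (θ x) = 4 ∧ x ^ 8 = 1 := by
  by_contra hgoal
  have hall : ∀ k : G, θ k ≠ 1 → θ k * θ k = 1 → (k * k) * (k * k) ≠ 1 := fun k h1 h2 h4 =>
    hgoal (pow8_of_inv_lift θ hsurj hker hcomm hcard hΦ k h1 h2 h4)
  obtain ⟨α, φ, hadd, hsurjφ, hkerφ, hequiv⟩ :=
    Cfsg.Agent.Lib.Helper1.GH7Sb.exists_coords' θ hsurj hker hcomm hcard hΦ hfaith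
  have hOn : (omega1 Q hcomm).Normal := Cfsg.Agent.Lib.Helper1.GH7Sb.omega1_normal hcomm
  have hOQ : omega1 Q hcomm ≤ Q := Cfsg.Agent.Lib.Helper1.GH7Sb.omega1_le hcomm
  have hN3 := N3_of θ hsurj hker hcomm hcard hΦ hfaith hN1 hns
  -- lifts of involutions
  have hinvol : ∀ (g : G) (t : L), α (θ g) = t → t ≠ 1 → t * t = 1 → θ g ≠ 1 ∧ θ g * θ g = 1 := by
    intro g t hg ht1 ht2
    constructor
    · intro h
      apply ht1
      rw [← hg, h, map_one]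
    · apply α.injective
      rw [map_mul, hg, ht2, map_one]
  -- squares of lifts of involutions lie in `c · Ω₁`
  have hsqmem : ∀ k : G, θ k ≠ 1 → θ k * θ k = 1 → c⁻¹ * (k * k) ∈ omega1 Q hcomm := by
    intro k h1 h2
    have hkkQ : k * k ∈ Q := by rw [← hker, MonoidHom.mem_ker, map_mul, h2]
    rcases Cfsg.Agent.Lib.Helper1.GH7Sb.mem_omega1_or hcomm hΦ hcQ hc hkkQ with h | h
    · exact absurd h.2 (hall k h1 h2)
    · exact h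
  have hinvO : ∀ o ∈ omega1 Q hcomm, o⁻¹ = o := fun o ho => inv_eq_of_mul_eq_one_right ho.2
  have hcinv : ∀ g : G, g * c⁻¹ = c⁻¹ * g := by
    intro g
    have := hcen g
    calc g * c⁻¹ = c⁻¹ * (c * g) * c⁻¹ := by group
      _ = c⁻¹ * (g * c) * c⁻¹ := by rw [this]
      _ = c⁻¹ * g := by group
  -- the elements `x`, `s`
  obtain ⟨x, hx⟩ := hsurj (α.symm u4)
  obtain ⟨s, hs⟩ := hsurj (α.symm a12)
  have hαx : α (θ x) = u4 := by rw [hx, MulEquiv.apply_symm_apply]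
  have hαs : α (θ s) = a12 := by rw [hs, MulEquiv.apply_symm_apply]
  have hαxx : α (θ (x * x)) = z13 := by rw [map_mul, map_mul, hαx, u4_sq]
  have hαsx : α (θ (s * x)) = a12 * u4 := by rw [map_mul, map_mul, hαs, hαx]
  have hαxs : α (θ (x * s)) = u4 * a12 := by rw [map_mul, map_mul, hαs, hαx]
  obtain ⟨hs1, hs2⟩ := hinvol s a12 hαs a12_ne' a12_sq
  obtain ⟨hxx1, hxx2⟩ := hinvol (x * x) z13 hαxx z13_ne z13_sq
  obtain ⟨hsx1, hsx2⟩ := hinvol (s * x) (a12 * u4) hαsx au_ne au_sq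
  -- `o0`, `o2`
  have ho0 : c⁻¹ * ((x * x) * (x * x)) ∈ omega1 Q hcomm := hsqmem (x * x) hxx1 hxx2
  have ho2 : c⁻¹ * (s * s) ∈ omega1 Q hcomm := hsqmem s hs1 hs2
  have hosx : c⁻¹ * ((s * x) * (s * x)) ∈ omega1 Q hcomm := hsqmem (s * x) hsx1 hsx2
  -- `q1 := x * (s x s⁻¹) ∈ Ω₁`
  have hq1Q : x * (s * x * s⁻¹) ∈ Q := by
    rw [← hker, MonoidHom.mem_ker]
    apply α.injective
    have e1 : θ (x * (s * x * s⁻¹)) = θ x * (θ s * θ x * (θ s)⁻¹) := by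
      simp only [map_mul, map_inv]
    have e2 : α (θ x * (θ s * θ x * (θ s)⁻¹)) = α (θ x) * (α (θ s) * α (θ x) * (α (θ s))⁻¹) := by
      simp only [map_mul, map_inv]
    rw [e1, e2, hαx, hαs, u_au, map_one]
  have hq1 : x * (s * x * s⁻¹) ∈ omega1 Q hcomm := by
    -- `c⁻¹ (s x)² = x⁻¹ (q1 o2) x`
    have h1 : c⁻¹ * ((s * x) * (s * x)) = x⁻¹ * ((x * (s * x * s⁻¹)) * (c⁻¹ * (s * s))) * x := by
      symm
      calc x⁻¹ * ((x * (s * x * s⁻¹)) * (c⁻¹ * (s * s))) * x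
          = ((s * x * s⁻¹) * c⁻¹) * (s * s * x) := by group
        _ = (c⁻¹ * (s * x * s⁻¹)) * (s * s * x) := by rw [hcinv]
        _ = c⁻¹ * ((s * x) * (s * x)) := by group
    have h2 : (x * (s * x * s⁻¹)) * (c⁻¹ * (s * s)) ∈ omega1 Q hcomm := by
      have := hOn.conj_mem _ hosx x
      rw [h1] at this
      have e : x * (x⁻¹ * ((x * (s * x * s⁻¹)) * (c⁻¹ * (s * s))) * x) * x⁻¹ =
          (x * (s * x * s⁻¹)) * (c⁻¹ * (s * s)) := by group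
      rwa [e] at this
    have h3 := Subgroup.mul_mem _ h2 (Subgroup.inv_mem _ ho2)
    rwa [mul_inv_cancel_right] at h3
  -- (N2): `o0 ∈ W`
  have ho0fix : x * (c⁻¹ * ((x * x) * (x * x))) * x⁻¹ = c⁻¹ * ((x * x) * (x * x)) := by
    calc x * (c⁻¹ * ((x * x) * (x * x))) * x⁻¹ = (x * c⁻¹) * ((x * x) * (x * x)) * x⁻¹ := by group
      _ = (c⁻¹ * x) * ((x * x) * (x * x)) * x⁻¹ := by rw [hcinv x]
      _ = c⁻¹ * ((x * x) * (x * x)) := by group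
  have ho0W : c⁻¹ * ((x * x) * (x * x)) ∈ sqSub Q := by
    rw [← hkerφ _ ho0]
    by_contra hne
    have hfixv : Matrix.mulVec (u4 : Matrix (Fin 3) (Fin 3) (ZMod 2)) (φ (c⁻¹ * ((x * x) * (x * x)))) =
        φ (c⁻¹ * ((x * x) * (x * x))) := by
      rw [← hαx, ← hequiv x _ ho0, ho0fix]
    have hodd := D1 _ hfixv hne
    rw [← hαx] at hodd
    apply hns
    apply hN1 α φ hadd hsurjφ hkerφ hequiv x _ ho0 hne hodd
    calc x * (c⁻¹ * ((x * x) * (x * x))) = x * (c⁻¹ * ((x * x) * (x * x))) * x⁻¹ * x := by group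
      _ = c⁻¹ * ((x * x) * (x * x)) * x := by rw [ho0fix]
  have ho0c := sqSub_central hΦ _ ho0W
  have hx4 : (x * x) * (x * x) = c * (c⁻¹ * ((x * x) * (x * x))) := by group
  -- `c o0` is central
  have hx4c : ∀ g : G, g * ((x * x) * (x * x)) = ((x * x) * (x * x)) * g := by
    intro g
    rw [hx4]
    calc g * (c * (c⁻¹ * ((x * x) * (x * x)))) = (g * c) * (c⁻¹ * ((x * x) * (x * x))) := by group
      _ = (c * g) * (c⁻¹ * ((x * x) * (x * x))) := by rw [hcen g]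
      _ = c * (g * (c⁻¹ * ((x * x) * (x * x)))) := by group
      _ = c * ((c⁻¹ * ((x * x) * (x * x))) * g) := by rw [ho0c g]
      _ = _ := by group
  -- (A): third coordinate of `φ q1`
  have hA : φ (x * (s * x * s⁻¹)) 2 ≠ 0 := by
    intro h0
    obtain ⟨a'', ha''⟩ := D2 _ h0
    obtain ⟨q'', hq'', hφq''⟩ := hsurjφ a''
    -- `w := (q'' x⁻¹ q''⁻¹)⁻¹ (x⁻¹ q1) = q'' (x q''⁻¹ x⁻¹) q1`
    have hw_eq : (q'' * x⁻¹ * q''⁻¹)⁻¹ * (x⁻¹ * (x * (s * x * s⁻¹))) =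
        q'' * ((x * q''⁻¹ * x⁻¹) * (x * (s * x * s⁻¹))) := by group
    have hcq : x * q''⁻¹ * x⁻¹ ∈ omega1 Q hcomm := hOn.conj_mem _ (Subgroup.inv_mem _ hq'') x
    have hwO : q'' * ((x * q''⁻¹ * x⁻¹) * (x * (s * x * s⁻¹))) ∈ omega1 Q hcomm :=
      Subgroup.mul_mem _ hq'' (Subgroup.mul_mem _ hcq hq1)
    have hwW : q'' * ((x * q''⁻¹ * x⁻¹) * (x * (s * x * s⁻¹))) ∈ sqSub Q := by
      rw [← hkerφ _ hwO, hadd _ hq'' _ (Subgroup.mul_mem _ hcq hq1), hadd _ hcq _ hq1,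
        hequiv x _ (Subgroup.inv_mem _ hq''), hinvO q'' hq'', hφq'', hαx, ← ha'']
      have e : ∀ p r : V3, p + (r + (r + p)) = 0 := by
        intro p r
        rw [← add_assoc r r p, add_self_vec r, zero_add, add_self_vec]
      exact e _ _
    have hwc := sqSub_central hΦ _ hwW
    have hw2 := Cfsg.Agent.Lib.Helper1.GH7Sb.sqSub_sq_eq_one hΦ hwW
    -- `s x s⁻¹ = (q'' x⁻¹ q''⁻¹) w`
    have hxt : s * x * s⁻¹ = (q'' * x⁻¹ * q''⁻¹) *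
        (q'' * ((x * q''⁻¹ * x⁻¹) * (x * (s * x * s⁻¹)))) := by
      rw [← hw_eq]; group
    -- fourth powers
    have h4a : ((s * x * s⁻¹) * (s * x * s⁻¹)) * ((s * x * s⁻¹) * (s * x * s⁻¹)) =
        (x * x) * (x * x) := by
      have : ((s * x * s⁻¹) * (s * x * s⁻¹)) * ((s * x * s⁻¹) * (s * x * s⁻¹)) =
          s * ((x * x) * (x * x)) * s⁻¹ := by group
      rw [this, hx4c s]; group
    have h4b : ((s * x * s⁻¹) * (s * x * s⁻¹)) * ((s * x * s⁻¹) * (s * x * s⁻¹)) =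
        ((x * x) * (x * x))⁻¹ := by
      rw [hxt, pow4_mul_central _ _ hwc hw2]
      have : ((q'' * x⁻¹ * q''⁻¹) * (q'' * x⁻¹ * q''⁻¹)) * ((q'' * x⁻¹ * q''⁻¹) * (q'' * x⁻¹ * q''⁻¹)) =
          q'' * ((x * x) * (x * x))⁻¹ * q''⁻¹ := by group
      rw [this]
      have h5 : q'' * ((x * x) * (x * x))⁻¹ = ((x * x) * (x * x))⁻¹ * q'' := by
        have := hx4c q''
        calc q'' * ((x * x) * (x * x))⁻¹
            = ((x * x) * (x * x))⁻¹ * (((x * x) * (x * x)) * q'') * ((x * x) * (x * x))⁻¹ := by group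
          _ = ((x * x) * (x * x))⁻¹ * (q'' * ((x * x) * (x * x))) * ((x * x) * (x * x))⁻¹ := by rw [this]
          _ = _ := by group
      rw [h5]; group
    -- `(c o0)² = 1`, so `c² = 1`
    have h6 : ((x * x) * (x * x)) * ((x * x) * (x * x)) = 1 := by
      have := h4a.symm.trans h4b
      calc ((x * x) * (x * x)) * ((x * x) * (x * x))
          = ((x * x) * (x * x)) * ((x * x) * (x * x))⁻¹ := by rw [← this]
        _ = 1 := mul_inv_cancel _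
    apply hc
    have ho0sq := Cfsg.Agent.Lib.Helper1.GH7Sb.sqSub_sq_eq_one hΦ ho0W
    rw [hx4] at h6
    have h7 : (c * (c⁻¹ * ((x * x) * (x * x)))) * (c * (c⁻¹ * ((x * x) * (x * x)))) =
        (c * c) * ((c⁻¹ * ((x * x) * (x * x))) * (c⁻¹ * ((x * x) * (x * x)))) := by
      calc (c * (c⁻¹ * ((x * x) * (x * x)))) * (c * (c⁻¹ * ((x * x) * (x * x))))
          = c * ((c⁻¹ * ((x * x) * (x * x))) * c) * (c⁻¹ * ((x * x) * (x * x))) := by group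
        _ = c * (c * (c⁻¹ * ((x * x) * (x * x)))) * (c⁻¹ * ((x * x) * (x * x))) := by rw [hcen]
        _ = _ := by group
    rw [h7, ho0sq, mul_one] at h6
    exact h6
  -- (N3) for `s` and `o2`
  have ho2fix : s * (c⁻¹ * (s * s)) * s⁻¹ = c⁻¹ * (s * s) := by
    calc s * (c⁻¹ * (s * s)) * s⁻¹ = (s * c⁻¹) * (s * s) * s⁻¹ := by group
      _ = (c⁻¹ * s) * (s * s) * s⁻¹ := by rw [hcinv s]
      _ = c⁻¹ * (s * s) := by group
  obtain ⟨o', ho', ho'W⟩ := hN3 s hs1 hs2 _ ho2 ho2fix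
  have hco' : s * o' * s⁻¹ ∈ omega1 Q hcomm := hOn.conj_mem _ ho' s
  have hb : Matrix.mulVec (u4 : Matrix (Fin 3) (Fin 3) (ZMod 2)) (φ (c⁻¹ * (s * s))) + φ (c⁻¹ * (s * s)) = 0 := by
    apply D3 (φ o')
    rw [← hαs, ← hequiv s o' ho', ← hadd o' ho' _ hco', ← hadd _ ho2 _ (Subgroup.mul_mem _ ho' hco'),
      hkerφ _ (Subgroup.mul_mem _ ho2 (Subgroup.mul_mem _ ho' hco'))]
    exact ho'W
  -- (B)
  have hR : ((x * s) * (x * (s * x * s⁻¹))⁻¹ * (x * s)⁻¹) * (x * (s * x * s⁻¹)) =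
      (x * (c⁻¹ * (s * s)) * x⁻¹) * (c⁻¹ * (s * s))⁻¹ := by
    have e1 : ((x * s) * (x * (s * x * s⁻¹))⁻¹ * (x * s)⁻¹) * (x * (s * x * s⁻¹)) =
        x * (s * s) * x⁻¹ * (s * s)⁻¹ := by group
    have e2 : (x * (c⁻¹ * (s * s)) * x⁻¹) * (c⁻¹ * (s * s))⁻¹ =
        (x * c⁻¹) * (s * s) * x⁻¹ * (s * s)⁻¹ * c := by group
    rw [e1, e2, hcinv x]
    have e3 : c⁻¹ * x * (s * s) * x⁻¹ * (s * s)⁻¹ * c = c⁻¹ * ((x * (s * s) * x⁻¹ * (s * s)⁻¹) * c) := by group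
    rw [e3, hcen (x * (s * s) * x⁻¹ * (s * s)⁻¹)]
    group
  have hq1i : (x * (s * x * s⁻¹))⁻¹ ∈ omega1 Q hcomm := Subgroup.inv_mem _ hq1
  have hcq1 : (x * s) * (x * (s * x * s⁻¹))⁻¹ * (x * s)⁻¹ ∈ omega1 Q hcomm := hOn.conj_mem _ hq1i _
  have hco2 : x * (c⁻¹ * (s * s)) * x⁻¹ ∈ omega1 Q hcomm := hOn.conj_mem _ ho2 x
  have hφR := congrArg φ hR
  rw [hadd _ hcq1 _ hq1, hequiv (x * s) _ hq1i, hinvO _ hq1, hαxs,
    hadd _ hco2 _ (Subgroup.inv_mem _ ho2), hequiv x _ ho2, hinvO _ ho2, hαx, hb] at hφR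
  exact D4 _ hA hφR

end Cfsg.Agent.Lib.Helper3.GH7N4
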