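import Mathlib
import Cfsg.Agent.Lib.Helper3.GH7Om3
import Cfsg.Agent.Lib.Helper1.GH7Sb4
import Cfsg.Agent.Lib.Helper7.GH7Sa2

/-!
# Farm GH7 (S3105), unit OMEGA-SPLIT (helper3): `omega_split` VERBATIM.

Assembly: my fixed point argument (`GH7Om1-3`) + helper1's coordinates `exists_coords'` + helper7's frame `Coo`
with `exists_flip` (N1) and `cent_a12` (N3 for a lift of `a12`).
-/

set_option autoImplicit false
set_option linter.unusedSectionVars false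
set_option linter.unusedVariables false
set_option maxHeartbeats 1000000

namespace Cfsg.Agent.Lib.Helper3.GH7Om

open Cfsg.Agent.Lib.Helper2.GH7
open Cfsg.Agent.Lib.Helper3.A8Emb (sqSub)
open Cfsg.Agent.Lib.Helper1.GH7Sb (omega1)
open Cfsg.Agent.Lib.Helper3.GH7SaS

universe u

variable {G : Type u} [Group G] [Finite G] {Q : Subgroup G} [Q.Normal]

/-- (A) for ONE lift `k` of an involution: with (N3) for `k`, it fixes a point of `(Q ∖ Ω₁(Q))/W` -/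
theorem exists_fixed_of_N3k (θ : G →* L) (hker : θ.ker = Q)
    (hcomm : ∀ a ∈ Q, ∀ b ∈ Q, a * b = b * a) (hΦ : Nat.card (sqSub Q) = 2)
    (k : G) (hk2 : θ k * θ k = 1)
    (hN3 : ∀ o ∈ omega1 Q hcomm, k * o * k⁻¹ = o →
      ∃ o' ∈ omega1 Q hcomm, o * (o' * (k * o' * k⁻¹)) ∈ sqSub Q) :
    ∃ x ∈ Q, x * x ≠ 1 ∧ x⁻¹ * (k * x * k⁻¹) ∈ sqSub Q := by
  obtain ⟨c, hcQ, hc⟩ := exists_order_four hΦ
  have hwW : c * c ∈ sqSub Q := sq_mem_sqSub Q c hcQ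
  have hcen := sqSub_central hΦ (c * c) hwW
  have hkkQ : k * k ∈ Q := by rw [← hker, MonoidHom.mem_ker, map_mul, hk2]
  have hdQ : k * c * k⁻¹ ∈ Q := ‹Q.Normal›.conj_mem c hcQ k
  have hciQ : c⁻¹ ∈ Q := Q.inv_mem hcQ
  have hoQ : c⁻¹ * (k * c * k⁻¹) ∈ Q := Q.mul_mem hciQ hdQ
  have hoo : (c⁻¹ * (k * c * k⁻¹)) * (c⁻¹ * (k * c * k⁻¹)) = 1 := by
    have h1 := hcomm (k * c * k⁻¹) hdQ c⁻¹ hciQ
    calc (c⁻¹ * (k * c * k⁻¹)) * (c⁻¹ * (k * c * k⁻¹))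
        = c⁻¹ * ((k * c * k⁻¹) * c⁻¹) * (k * c * k⁻¹) := by group
      _ = c⁻¹ * (c⁻¹ * (k * c * k⁻¹)) * (k * c * k⁻¹) := by rw [h1]
      _ = (c * c)⁻¹ * (k * (c * c) * k⁻¹) := by group
      _ = (c * c)⁻¹ * ((c * c) * k * k⁻¹) := by rw [hcen k]
      _ = 1 := by group
  have hfix : k * (c⁻¹ * (k * c * k⁻¹)) * k⁻¹ = c⁻¹ * (k * c * k⁻¹) := by
    have h1 : (k * k) * c = c * (k * k) := hcomm _ hkkQ c hcQ
    have h2 : k * (c⁻¹ * (k * c * k⁻¹)) * k⁻¹ = (k * c * k⁻¹)⁻¹ * ((k * k) * c * (k * k)⁻¹) := by group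
    have h3 : (k * k) * c * (k * k)⁻¹ = c := by rw [h1]; group
    rw [h2, h3]
    have h4 : (k * c * k⁻¹)⁻¹ * c = (c⁻¹ * (k * c * k⁻¹))⁻¹ := by group
    rw [h4]
    exact inv_eq_of_mul_eq_one_right hoo
  obtain ⟨o', ho', hmem⟩ := hN3 _ ⟨hoQ, hoo⟩ hfix
  have ho'Q : o' ∈ Q := ho'.1
  have heQ : k * o' * k⁻¹ ∈ Q := ‹Q.Normal›.conj_mem o' ho'Q k
  have ho'i : o'⁻¹ = o' := inv_eq_of_mul_eq_one_right ho'.2
  refine ⟨c * o', Q.mul_mem hcQ ho'Q, ?_, ?_⟩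
  · have h1 := hcomm o' ho'Q c hcQ
    have : (c * o') * (c * o') = (c * c) * (o' * o') := by
      calc (c * o') * (c * o') = c * (o' * c) * o' := by group
        _ = c * (c * o') * o' := by rw [h1]
        _ = (c * c) * (o' * o') := by group
    rw [this, ho'.2, mul_one]
    exact hc
  · have h1 : (c * o')⁻¹ * (k * (c * o') * k⁻¹) =
        o'⁻¹ * ((c⁻¹ * (k * c * k⁻¹)) * (k * o' * k⁻¹)) := by group
    have h2 := hcomm o' ho'Q ((c⁻¹ * (k * c * k⁻¹)) * (k * o' * k⁻¹)) (Q.mul_mem hoQ heQ)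
    rw [h1, ho'i, h2]
    have h3 := hcomm (k * o' * k⁻¹) heQ o' ho'Q
    have : (c⁻¹ * (k * c * k⁻¹)) * (k * o' * k⁻¹) * o' =
        (c⁻¹ * (k * c * k⁻¹)) * (o' * (k * o' * k⁻¹)) := by
      rw [mul_assoc, h3]
    rw [this]
    exact hmem

/-- no central element of order 4 and (N3) for one lift of an involution: contradiction -/
theorem false_of_N3k (θ : G →* L) (hsurj : Function.Surjective θ) (hker : θ.ker = Q)
    (hcomm : ∀ a ∈ Q, ∀ b ∈ Q, a * b = b * a) (hcard : Nat.card Q = 32) (hΦ : Nat.card (sqSub Q) = 2)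
    (hS : ∀ c ∈ Q, (∀ g : G, g * c = c * g) → c * c = 1)
    (k : G) (hk1 : θ k ≠ 1) (hk2 : θ k * θ k = 1)
    (hN3 : ∀ o ∈ omega1 Q hcomm, k * o * k⁻¹ = o →
      ∃ o' ∈ omega1 Q hcomm, o * (o' * (k * o' * k⁻¹)) ∈ sqSub Q) : False := by
  obtain ⟨x1, hx1Q, hx1sq, hx1fix⟩ := exists_fixed_of_N3k θ hker hcomm hΦ k hk2 hN3
  have hW : sqSub Q ≤ θ.ker := by rw [hker]; exact Cfsg.Agent.Lib.Helper3.A8Emb.sqSub_le Q
  have hsurj' := lift_surjective θ hsurj (sqSub Q) hW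
  have hK : ∀ z ∈ (QuotientGroup.lift (sqSub Q) θ hW).ker,
      z * (QuotientGroup.mk x1 : G ⧸ sqSub Q) = QuotientGroup.mk x1 * z := by
    intro z hz
    induction z using QuotientGroup.induction_on with
    | H z0 =>
      rw [mem_ker_lift, hker] at hz
      show (QuotientGroup.mk (z0 * x1) : G ⧸ sqSub Q) = QuotientGroup.mk (x1 * z0)
      rw [hcomm z0 hz x1 hx1Q]
  have hκp : (QuotientGroup.mk k : G ⧸ sqSub Q) * QuotientGroup.mk x1 =
      QuotientGroup.mk x1 * QuotientGroup.mk k := by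
    have h1 : (QuotientGroup.mk (x1⁻¹ * (k * x1 * k⁻¹)) : G ⧸ sqSub Q) = 1 :=
      (QuotientGroup.eq_one_iff _).2 hx1fix
    have h2 : (QuotientGroup.mk k : G ⧸ sqSub Q) * QuotientGroup.mk x1 =
        QuotientGroup.mk x1 * QuotientGroup.mk (x1⁻¹ * (k * x1 * k⁻¹)) * QuotientGroup.mk k := by
      rw [← QuotientGroup.mk_mul, ← QuotientGroup.mk_mul, ← QuotientGroup.mk_mul]
      congr 1
      group
    rw [h2, h1, mul_one]
  obtain ⟨p', hp', hp'c⟩ := exists_central (QuotientGroup.lift (sqSub Q) θ hW) hsurj' (pts Q)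
    (pts_ncard hcomm hcard hΦ) (fun e x hx => pts_conj e x hx) (QuotientGroup.mk x1)
    ⟨x1, hx1Q, hx1sq, rfl⟩ hK (QuotientGroup.mk k) hk1 hk2 hκp
  obtain ⟨x', hx'Q, hx'sq, rfl⟩ := hp'
  have hfix' : ∀ g : G, x'⁻¹ * (g * x' * g⁻¹) ∈ sqSub Q := by
    intro g
    have h1 := hp'c (QuotientGroup.mk g)
    rw [← QuotientGroup.eq_one_iff]
    have : (QuotientGroup.mk (x'⁻¹ * (g * x' * g⁻¹)) : G ⧸ sqSub Q) =
        (QuotientGroup.mk x')⁻¹ * ((QuotientGroup.mk g * QuotientGroup.mk x') * (QuotientGroup.mk g)⁻¹) := rfl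
    rw [this, h1]; group
  have hcen := central_of_fixed θ hsurj hker hcomm hΦ x' hx'Q hfix'
  exact hx'sq (hS x' hx'Q hcen)

theorem a12_e2 : Matrix.mulVec (a12 : Matrix (Fin 3) (Fin 3) (ZMod 2)) ![0, 1, 0] + ![0, 1, 0] =
    (![1, 0, 0] : Fin 3 → ZMod 2) := by decide

/-- **OMEGA-SPLIT** (verbatim `Cfsg.Agent.Lib.Helper2.GH7.Stubs.omega_split`) -/
theorem omega_split (θ : G →* L) (hsurj : Function.Surjective θ) (hker : θ.ker = Q)
    (hcomm : ∀ a ∈ Q, ∀ b ∈ Q, a * b = b * a) (hcard : Nat.card Q = 32) (hΦ : Nat.card (sqSub Q) = 2)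
    (hfaith : ∀ g : G, (∀ a ∈ Q, g * a * g⁻¹ * a⁻¹ ∈ sqSub Q) → g ∈ Q)
    (hS : ∀ c ∈ Q, (∀ g : G, g * c = c * g) → c * c = 1) :
    ∃ R : Subgroup G, R.Normal ∧ R ≤ Q ∧ Nat.card R = 8 ∧ (∀ r ∈ R, r * r = 1) ∧ R ⊓ sqSub Q = ⊥ := by
  by_contra hno
  obtain ⟨c, hcQ, hc⟩ := exists_order_four hΦ
  have hwW : c * c ∈ sqSub Q := sq_mem_sqSub Q c hcQ
  have hns : ¬ ∃ R : Subgroup G, R.Normal ∧ R ≤ Q ∧ Nat.card R = 8 ∧ (∀ r ∈ R, r * r = 1) ∧ c * c ∉ R := by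
    rintro ⟨U', hUn, hUQ, hU8, hU2, hw⟩
    apply hno
    refine ⟨U', hUn, hUQ, hU8, hU2, ?_⟩
    rw [eq_bot_iff]
    intro z hz
    obtain ⟨hz1, hz2⟩ := Subgroup.mem_inf.1 hz
    rw [Subgroup.mem_bot]
    rcases mem_of_card_two (sqSub Q) hΦ (c * c) hwW hc z hz2 with h | h
    · exact h
    · exfalso
      rw [h] at hz1
      exact hw hz1
  obtain ⟨α, φ, hadd, hsur, hker0, heqv⟩ :=
    Cfsg.Agent.Lib.Helper1.GH7Sb.exists_coords' θ hsurj hker hcomm hcard hΦ hfaith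
  have hC : Cfsg.Agent.Lib.Helper7.GH7Sa.Coo Q (omega1 Q hcomm) (α.toMonoidHom.comp θ) (c * c) φ :=
    { surj := α.surjective.comp hsurj
      ker := by
        ext g
        rw [MonoidHom.mem_ker, ← hker, MonoidHom.mem_ker]
        show α (θ g) = 1 ↔ θ g = 1
        exact map_eq_one_iff α α.injective
      comm := hcomm
      nO := Cfsg.Agent.Lib.Helper1.GH7Sb.omega1_normal hcomm
      OQ := Cfsg.Agent.Lib.Helper1.GH7Sb.omega1_le hcomm
      Osq := fun o ho => ho.2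
      wO := Cfsg.Agent.Lib.Helper1.GH7Sb.sqSub_le_omega1 hcomm hΦ hwW
      wne := hc
      wcen := fun g => sqSub_central hΦ (c * c) hwW g
      add := hadd
      sur := hsur
      ker0 := by
        intro o ho
        rw [hker0 o ho]
        constructor
        · intro hw
          exact mem_of_card_two (sqSub Q) hΦ (c * c) hwW hc o hw
        · rintro (e | e)
          · rw [e]; exact Subgroup.one_mem _
          · rw [e]; exact hwW
      eqv := heqv }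
  have hflip := hC.exists_flip hns
  obtain ⟨s, hs⟩ := hsurj (α.symm a12)
  have hαs : (α.toMonoidHom.comp θ) s = a12 := by
    show α (θ s) = a12
    rw [hs, MulEquiv.apply_symm_apply]
  have hs1 : θ s ≠ 1 := by
    intro h
    have h1 : α (θ s) = a12 := hαs
    rw [h, map_one] at h1
    exact Cfsg.Agent.Lib.Helper7.GH7Sa.a12_ne h1.symm
  have hs2 : θ s * θ s = 1 := by
    apply α.injective
    have h1 : α (θ s) = a12 := hαs
    rw [map_mul, h1, a12_sq, map_one]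
  have hOn : (omega1 Q hcomm).Normal := Cfsg.Agent.Lib.Helper1.GH7Sb.omega1_normal hcomm
  apply false_of_N3k θ hsurj hker hcomm hcard hΦ hS s hs1 hs2
  intro o ho hfix
  rcases hC.cent_a12 hflip hαs ho hfix with h0 | h0
  · refine ⟨1, Subgroup.one_mem _, ?_⟩
    have hoW : o ∈ sqSub Q := (hker0 o ho).1 h0
    have e : o * (1 * (s * 1 * s⁻¹)) = o := by group
    rw [e]
    exact hoW
  · obtain ⟨o', ho', hφo'⟩ := hsur ![0, 1, 0]
    have hco' : s * o' * s⁻¹ ∈ omega1 Q hcomm := hOn.conj_mem o' ho' s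
    refine ⟨o', ho', ?_⟩
    rw [← hker0 _ (Subgroup.mul_mem _ ho (Subgroup.mul_mem _ ho' hco')),
      hadd o ho _ (Subgroup.mul_mem _ ho' hco'), hadd o' ho' _ hco', heqv s o' ho', hφo', h0]
    have h1 : α (θ s) = a12 := hαs
    rw [h1, add_comm (![0, 1, 0] : Fin 3 → ZMod 2), a12_e2]
    decide

end Cfsg.Agent.Lib.Helper3.GH7Om
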