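import Mathlib
import Cfsg.Agent.Lib.Helper6.GUCDefs
import Cfsg.Agent.Lib.Helper2.GUCC2

set_option autoImplicit false
set_option linter.unusedSectionVars false
set_option linter.unusedVariables false

/-!
Farm GUC (statement S2646), unit D: the adjoint `dag` with respect to the model form.
-/

namespace Cfsg.Agent.Lib.Helper3.GUC

open Matrix Cfsg.Agent.Lib.Helper6.GLC Cfsg.Agent.Lib.Helper6.GUC
open Cfsg.Agent.Lib.Helper2.GUC

universe u

variable {K : Type u} [Field K] (σ : K →+* K) {t : ℕ}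

section D

variable (hσ : ∀ a, σ (σ a) = a) {ε : K} (hε0 : ε ≠ 0) (hε : σ ε = -ε) (d : Fin t → ℕ)

theorem ct_H0inv (hε0 : ε ≠ 0) (hε : σ ε = -ε) : ct σ (H0inv ε d) = H0inv ε d := by
  have h1 : ct σ (H0inv ε d) * H0 ε d = 1 := by
    have := congrArg (ct σ) (H0_mul_H0inv (K := K) d hε0)
    rw [ct_mul, ct_one, H0_herm σ d hε] at this
    exact this
  calc ct σ (H0inv ε d) = ct σ (H0inv ε d) * (H0 ε d * H0inv ε d) := by
        rw [H0_mul_H0inv d hε0, mul_one]
    _ = (ct σ (H0inv ε d) * H0 ε d) * H0inv ε d := by rw [mul_assoc]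
    _ = H0inv ε d := by rw [h1, one_mul]

theorem dag_isInvol (hσ : ∀ a, σ (σ a) = a) (hε0 : ε ≠ 0) (hε : σ ε = -ε) :
    IsInvol (dag σ ε d) := by
  refine ⟨?_, ?_, ?_, ?_⟩
  · intro x y
    unfold dag
    rw [ct_add, mul_add, add_mul]
  · intro x y
    unfold dag
    rw [ct_mul]
    calc H0inv ε d * (ct σ y * ct σ x) * H0 ε d
        = H0inv ε d * ct σ y * (1 : Matrix (Idx d) (Idx d) K) * ct σ x * H0 ε d := by
          rw [mul_one]; simp only [mul_assoc]
      _ = H0inv ε d * ct σ y * (H0 ε d * H0inv ε d) * ct σ x * H0 ε d := by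
          rw [H0_mul_H0inv d hε0]
      _ = H0inv ε d * ct σ y * H0 ε d * (H0inv ε d * ct σ x * H0 ε d) := by
          simp only [mul_assoc]
  · unfold dag
    rw [ct_one, mul_one, H0inv_mul_H0 d hε0]
  · intro x
    unfold dag
    rw [ct_mul, ct_mul, ct_ct σ hσ, H0_herm σ d hε, ct_H0inv σ d hε0 hε]
    calc H0inv ε d * (H0 ε d * (x * H0inv ε d)) * H0 ε d
        = (H0inv ε d * H0 ε d) * x * (H0inv ε d * H0 ε d) := by simp only [mul_assoc]
      _ = x := by rw [H0inv_mul_H0 d hε0, one_mul, mul_one]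

theorem dag_smul (a : K) (x : Matrix (Idx d) (Idx d) K) :
    dag σ ε d (a • x) = σ a • dag σ ε d x := by
  unfold dag
  rw [ct_smul, Matrix.mul_smul, Matrix.smul_mul]

theorem dag_Nil (hε0 : ε ≠ 0) : dag σ ε d (Nil K d) = -Nil K d := by
  unfold dag
  rw [mul_assoc, ct_Nil_mul_H0 σ d, mul_neg, ← mul_assoc, H0inv_mul_H0 d hε0, one_mul]

theorem dag_mem_Rc (hσ : ∀ a, σ (σ a) = a) (hε0 : ε ≠ 0) (hε : σ ε = -ε)
    {x : Matrix (Idx d) (Idx d) K} (hx : x ∈ Rc K d) : dag σ ε d x ∈ Rc K d := by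
  rw [mem_Rc] at hx ⊢
  have hI := dag_isInvol σ d hσ hε0 hε
  have h1 := congrArg (dag σ ε d) hx
  rw [hI.mul, hI.mul, dag_Nil σ d hε0, neg_mul, mul_neg, neg_inj] at h1
  exact h1.symm

theorem dag_toMat (hε0 : ε ≠ 0) (hε : σ ε = -ε) (c : Par d → K) :
    dag σ ε d (toMat d c) = toMat d (cdag σ ε d c) := by
  unfold dag
  rw [mul_assoc, ← H0_mul_toMat_cdag σ d hε0 hε c, ← mul_assoc, H0inv_mul_H0 d hε0, one_mul]

theorem dag_mul_self_iff (hε0 : ε ≠ 0) (x : Matrix (Idx d) (Idx d) K) :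
    dag σ ε d x * x = 1 ↔ ct σ x * H0 ε d * x = H0 ε d := by
  unfold dag
  constructor
  · intro h
    calc ct σ x * H0 ε d * x = (H0 ε d * H0inv ε d) * ct σ x * H0 ε d * x := by
          rw [H0_mul_H0inv d hε0, one_mul]
      _ = H0 ε d * (H0inv ε d * ct σ x * H0 ε d * x) := by simp only [mul_assoc]
      _ = H0 ε d := by rw [h, mul_one]
  · intro h
    calc H0inv ε d * ct σ x * H0 ε d * x = H0inv ε d * (ct σ x * H0 ε d * x) := by
          simp only [mul_assoc]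
      _ = 1 := by rw [h, H0inv_mul_H0 d hε0]

theorem piFun_dag (hε0 : ε ≠ 0) (hε : σ ε = -ε) (hd : ∀ k, 1 ≤ d k) (N : ℕ)
    {x : Matrix (Idx d) (Idx d) K} (hx : x ∈ Rc K d) :
    piFun d hd N (dag σ ε d x) = ctB σ d N (piFun d hd N x) := by
  rw [mem_Rc] at hx
  funext i
  unfold piFun ctB
  have h1 : x = toMat d (params d hd x) := (toMat_params d hd x hx).symm
  have h2 : dag σ ε d x = toMat d (cdag σ ε d (params d hd x)) := by
    conv_lhs => rw [h1]
    exact dag_toMat σ d hε0 hε _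
  rw [h2, params_toMat]
  exact Gbar_cdag σ d hε0 hd _ _

end D

end Cfsg.Agent.Lib.Helper3.GUC
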