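import Mathlib
import Cfsg.Agent.Lib.Helper3.GUCD

set_option autoImplicit false
set_option linter.unusedSectionVars false
set_option linter.unusedVariables false

/-!
Farm GUC (statement S2646), unit E1: the model unitary element (Cayley transform of the nilpotent
matrix `Nil K d`).
-/

namespace Cfsg.Agent.Lib.Helper3.GUC

open Matrix Cfsg.Agent.Lib.Helper6.GLC Cfsg.Agent.Lib.Helper6.GUC

universe u

variable {K : Type u} [Field K] (σ : K →+* K) {t : ℕ}

/-- the powers of `Nil K d` -/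
theorem Nil_pow_apply (d : Fin t → ℕ) (k : ℕ) (x y : Idx d) :
    (Nil K d ^ k) x y = if x.1 = y.1 ∧ (x.2 : ℕ) = (y.2 : ℕ) + k then 1 else 0 := by
  induction k generalizing x y with
  | zero =>
    rw [pow_zero, Matrix.one_apply, add_zero]
    by_cases h : x = y
    · subst h; simp
    · rw [if_neg h, if_neg]
      rintro ⟨h1, h2⟩
      apply h
      obtain ⟨k, i⟩ := x
      obtain ⟨l, j⟩ := y
      simp only at h1
      subst h1
      simp only at h2
      have : i = j := Fin.ext h2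
      rw [this]
  | succ k ih =>
    rw [pow_succ', Nil_mul_apply]
    by_cases h : 1 ≤ (x.2 : ℕ)
    · rw [dif_pos h, ih]
      simp only
      by_cases h2 : x.1 = y.1 ∧ (x.2 : ℕ) = (y.2 : ℕ) + (k + 1)
      · rw [if_pos h2, if_pos]
        exact ⟨h2.1, by omega⟩
      · rw [if_neg h2, if_neg]
        rintro ⟨h3, h4⟩
        exact h2 ⟨h3, by omega⟩
    · rw [dif_neg h, if_neg]
      rintro ⟨_, h4⟩
      omega

theorem Nil_isNilpotent (d : Fin t → ℕ) : IsNilpotent (Nil K d) := by
  refine ⟨Finset.univ.sup d + 1, ?_⟩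
  ext x y
  rw [Nil_pow_apply, Matrix.zero_apply, if_neg]
  rintro ⟨_, h⟩
  have h1 : d x.1 ≤ Finset.univ.sup d := Finset.le_sup (f := d) (Finset.mem_univ x.1)
  have h2 := x.2.isLt
  omega

/-- E1: the Cayley transform `u' = (1 + a N) (1 - σ a N)⁻¹` with `a + σ a = 1` -/
theorem exists_model_unitary (d : Fin t → ℕ) (hσ : ∀ a, σ (σ a) = a) {ε : K} (hε0 : ε ≠ 0)
    (hε : σ ε = -ε) {a : K} (ha : a + σ a = 1) :
    ∃ u' : Matrix (Idx d) (Idx d) K, dag σ ε d u' * u' = 1 ∧
      (∀ x : Matrix (Idx d) (Idx d) K, x * u' = u' * x ↔ x ∈ Rc K d) ∧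
      ∃ w w' : Matrix (Idx d) (Idx d) K, w * w' = 1 ∧ w' * w = 1 ∧ w * Nil K d = Nil K d * w ∧
        u' - 1 = Nil K d * w := by
  have hI := dag_isInvol σ d hσ hε0 hε
  set N : Matrix (Idx d) (Idx d) K := Nil K d with hN
  set P : Matrix (Idx d) (Idx d) K := 1 + a • N with hP
  set Q : Matrix (Idx d) (Idx d) K := 1 - σ a • N with hQ
  -- invertibility of `P` and `Q`
  have hnilQ : IsNilpotent (σ a • N) := by
    obtain ⟨k, hk⟩ := Nil_isNilpotent (K := K) d
    refine ⟨k, ?_⟩
    rw [smul_pow, hk, smul_zero]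
  have hnilP : IsNilpotent (a • N) := by
    obtain ⟨k, hk⟩ := Nil_isNilpotent (K := K) d
    refine ⟨k, ?_⟩
    rw [smul_pow, hk, smul_zero]
  have hQu : IsUnit Q := hnilQ.isUnit_one_sub
  have hPu : IsUnit P := hnilP.isUnit_one_add
  obtain ⟨⟨Q', Qi, hQQi, hQiQ⟩, hQ'⟩ := hQu
  simp only at hQ'
  subst hQ'
  obtain ⟨⟨P', Pi, hPPi, hPiP⟩, hP'⟩ := hPu
  simp only at hP'
  subst hP'
  -- commutation with `N`
  have hPN : P * N = N * P := by
    rw [hP, add_mul, mul_add, one_mul, mul_one, Matrix.smul_mul, Matrix.mul_smul]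
  have hQN : Q * N = N * Q := by
    rw [hQ, sub_mul, mul_sub, one_mul, mul_one, Matrix.smul_mul, Matrix.mul_smul]
  have hPQ : P * Q = Q * P := by
    have h1 : Commute (a • N) (σ a • N) := ((Commute.refl N).smul_left a).smul_right (σ a)
    have h2 : Commute (a • N) Q := (Commute.one_right _).sub_right h1
    exact ((Commute.one_left Q).add_left h2).eq
  -- inverse of a matrix commuting with `y` commutes with `y`
  have inv_comm : ∀ (A Ai y : Matrix (Idx d) (Idx d) K), A * Ai = 1 → Ai * A = 1 →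
      y * A = A * y → y * Ai = Ai * y := by
    intro A Ai y h1 h2 h3
    calc y * Ai = (Ai * A) * y * Ai := by rw [h2, one_mul]
      _ = Ai * (A * y) * Ai := by simp only [mul_assoc]
      _ = Ai * (y * A) * Ai := by rw [h3]
      _ = Ai * y * (A * Ai) := by simp only [mul_assoc]
      _ = Ai * y := by rw [h1, mul_one]
  have hQiN : Qi * N = N * Qi := (inv_comm Q Qi N hQQi hQiQ hQN.symm).symm
  -- the adjoints
  have hdP : dag σ ε d P = Q := by
    rw [hP, hI.add, hI.one, dag_smul, hN, dag_Nil σ d hε0, smul_neg, ← sub_eq_add_neg]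
  have hdQ : dag σ ε d Q = P := by
    rw [hQ, hI.sub, hI.one, dag_smul, hσ, hN, dag_Nil σ d hε0, smul_neg, sub_neg_eq_add]
  have hdQi : dag σ ε d Qi = Pi := by
    have h1 : dag σ ε d Qi * P = 1 := by
      rw [← hdQ, ← hI.mul, hQQi, hI.one]
    calc dag σ ε d Qi = dag σ ε d Qi * (P * Pi) := by rw [hPPi, mul_one]
      _ = (dag σ ε d Qi * P) * Pi := by rw [mul_assoc]
      _ = Pi := by rw [h1, one_mul]
  -- u' - 1 = N Qi
  have hPmQ : P - Q = N := by
    rw [hP, hQ]
    have : (1 + a • N) - (1 - σ a • N) = (a + σ a) • N := by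
      rw [add_smul]; abel
    rw [this, ha, one_smul]
  have hu1 : P * Qi - 1 = N * Qi := by
    calc P * Qi - 1 = P * Qi - Q * Qi := by rw [hQQi]
      _ = (P - Q) * Qi := (sub_mul P Q Qi).symm
      _ = N * Qi := by rw [hPmQ]
  refine ⟨P * Qi, ?_, ?_, Qi, Q, hQiQ, hQQi, hQiN, hu1⟩
  · -- unitarity
    rw [hI.mul, hdP, hdQi]
    calc Pi * Q * (P * Qi) = Pi * (Q * P) * Qi := by simp only [mul_assoc]
      _ = Pi * (P * Q) * Qi := by rw [hPQ]
      _ = (Pi * P) * (Q * Qi) := by simp only [mul_assoc]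
      _ = 1 := by rw [hPiP, hQQi, one_mul]
  · -- the commutant
    intro x
    rw [mem_Rc]
    constructor
    · intro hx
      -- x commutes with u' - 1 = N Qi, with Qi = 1 + σ a (u' - 1), with Q, with N = (u' - 1) Q
      have h1 : x * (N * Qi) = (N * Qi) * x := by
        rw [← hu1, mul_sub, sub_mul, hx, mul_one, one_mul]
      have hQi_eq : Qi = 1 + σ a • (N * Qi) := by
        have : Q * Qi + σ a • (N * Qi) = Qi := by
          rw [hQ, sub_mul, one_mul, Matrix.smul_mul, sub_add_cancel]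
        rw [hQQi] at this
        exact this.symm
      have h2 : x * Qi = Qi * x := by
        rw [hQi_eq, mul_add, add_mul, mul_one, one_mul, Matrix.mul_smul, Matrix.smul_mul, h1]
      have h3 : x * Q = Q * x := inv_comm Qi Q x hQiQ hQQi h2
      have hN_eq : N = (N * Qi) * Q := by
        rw [mul_assoc, hQiQ, mul_one]
      calc x * N = x * ((N * Qi) * Q) := by rw [← hN_eq]
        _ = (x * (N * Qi)) * Q := (mul_assoc x (N * Qi) Q).symm
        _ = (N * Qi) * x * Q := by rw [h1]
        _ = (N * Qi) * (x * Q) := mul_assoc (N * Qi) x Q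
        _ = (N * Qi) * (Q * x) := by rw [h3]
        _ = ((N * Qi) * Q) * x := (mul_assoc (N * Qi) Q x).symm
        _ = N * x := by rw [← hN_eq]
    · intro hx
      have hxP : x * P = P * x := by
        rw [hP, mul_add, add_mul, mul_one, one_mul, Matrix.mul_smul, Matrix.smul_mul, hx]
      have hxQ : x * Q = Q * x := by
        rw [hQ, mul_sub, sub_mul, mul_one, one_mul, Matrix.mul_smul, Matrix.smul_mul, hx]
      have hxQi : x * Qi = Qi * x := inv_comm Q Qi x hQQi hQiQ hxQ
      calc x * (P * Qi) = (x * P) * Qi := (mul_assoc x P Qi).symm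
        _ = (P * x) * Qi := by rw [hxP]
        _ = P * (x * Qi) := mul_assoc P x Qi
        _ = P * (Qi * x) := by rw [hxQi]
        _ = P * Qi * x := (mul_assoc P Qi x).symm

end Cfsg.Agent.Lib.Helper3.GUC
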