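import Mathlib
import Cfsg.Prelude.Def_Blocks
import Cfsg.Prelude.Def_Transfer
import Cfsg.Agent.Lib.Helper6.BlkKer
import Cfsg.Agent.Lib.Helper6.BlkNormalP
import Cfsg.Agent.Lib.Helper6.SecondOrth
import Cfsg.Agent.Lib.Helper6.ClassMult
import Cfsg.Agent.Lib.Helper6.Mult
import Cfsg.Agent.S0189
import Cfsg.Agent.Lib.Helper3.CharQuot
import Cfsg.Agent.Lib.Helper6.BlkCover
import Cfsg.Agent.Lib.Helper6.ClassCount

set_option autoImplicit false
set_option linter.unusedSectionVars false

/-! # Irreducible characters that are nonzero on exactly two conjugacy classes (Gagola) -/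

namespace Cfsg.Agent.Lib.Helper3.Gagola

open Cfsg Cfsg.Agent.Lib.Helper6 Module
open scoped ComplexConjugate

variable {G : Type*} [Group G]

/-- a complex number of norm at most `r` with real part `r` equals `r` -/
theorem eq_of_re_eq_of_norm_le {z : ℂ} {r : ℝ} (h1 : ‖z‖ ≤ r) (h2 : z.re = r) : z = (r : ℂ) := by
  have hr : 0 ≤ r := le_trans (norm_nonneg z) h1
  have h3 : ‖z‖ ^ 2 ≤ r ^ 2 := pow_le_pow_left₀ (norm_nonneg z) h1 2
  rw [← Complex.normSq_eq_norm_sq, Complex.normSq_apply, h2] at h3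
  have h4 : z.im * z.im ≤ 0 := by nlinarith
  have h5 : z.im = 0 := by
    have := mul_self_nonneg z.im
    have h6 : z.im * z.im = 0 := le_antisymm h4 this
    exact mul_self_eq_zero.1 h6
  apply Complex.ext
  · simp [h2]
  · simp [h5]

theorem IsCharacter.norm_apply_le [Finite G] {χ : G → ℂ} (hχ : IsCharacter G χ) (g : G) :
    ‖χ g‖ ≤ (charDegree χ : ℝ) := by
  obtain ⟨n, ρ, rfl⟩ := hχ
  rw [charDegree_character]
  exact norm_character_le ρ g

/-- a group with exactly two conjugacy classes has order two -/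
theorem card_eq_two_of_two_classes [Finite G] (h : ∀ x y : G, x ≠ 1 → y ≠ 1 → IsConj x y)
    (hnt : ∃ x : G, x ≠ 1) : Nat.card G = 2 := by
  classical
  have : Fintype G := Fintype.ofFinite G
  obtain ⟨g, hg⟩ := hnt
  have h1 := card_conj_mul_card_centralizer g
  have h2 : Finset.univ.filter (fun x : G => IsConj g x) = Finset.univ.erase 1 := by
    ext x
    rw [Finset.mem_filter, Finset.mem_erase]
    constructor
    · rintro ⟨_, hx⟩
      refine ⟨?_, Finset.mem_univ _⟩
      rintro rfl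
      exact hg (isConj_one_left.1 hx)
    · rintro ⟨hx, _⟩
      exact ⟨Finset.mem_univ _, h g x hg hx⟩
  rw [h2, Finset.card_erase_of_mem (Finset.mem_univ _), Finset.card_univ,
    ← Nat.card_eq_fintype_card] at h1
  have hpos : 1 < Nat.card G := by
    rw [Nat.card_eq_fintype_card]
    exact Fintype.one_lt_card_iff.2 ⟨g, 1, hg⟩
  have h3 : (Nat.card G - 1) ∣ Nat.card G := Dvd.intro _ h1
  have h4 : (Nat.card G - 1) ∣ 1 := by
    have : (Nat.card G - 1) ∣ Nat.card G - (Nat.card G - 1) := Nat.dvd_sub h3 (dvd_refl _)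
    have e : Nat.card G - (Nat.card G - 1) = 1 := by omega
    rwa [e] at this
  have := Nat.dvd_one.1 h4
  omega

/-- extraction of the second class on which `χ` does not vanish -/
theorem exists_second_class [Finite G] (χ : IrrCharacter G)
    (hχ : Nat.card {C : ConjClasses G // ∃ g ∈ C.carrier, (χ : G → ℂ) g ≠ 0} = 2) :
    ∃ c : G, c ≠ 1 ∧ (χ : G → ℂ) c ≠ 0 ∧ ∀ g, (χ : G → ℂ) g ≠ 0 → g = 1 ∨ IsConj c g := by
  rw [Nat.card_eq_two_iff] at hχ
  obtain ⟨C₁, C₂, hne, huniv⟩ := hχ
  let t₁ : {C : ConjClasses G // ∃ g ∈ C.carrier, (χ : G → ℂ) g ≠ 0} :=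
    ⟨ConjClasses.mk 1, 1, ConjClasses.mem_carrier_mk, IsIrrCharacter.apply_one_ne_zero χ.2⟩
  have key : ∀ t : {C : ConjClasses G // ∃ g ∈ C.carrier, (χ : G → ℂ) g ≠ 0}, t = C₁ ∨ t = C₂ := by
    intro t
    have := Set.mem_univ t
    rw [← huniv] at this
    simpa using this
  obtain ⟨C', hC', hall⟩ : ∃ C' : {C : ConjClasses G // ∃ g ∈ C.carrier, (χ : G → ℂ) g ≠ 0},
      C' ≠ t₁ ∧ ∀ t, t = t₁ ∨ t = C' := by
    rcases key t₁ with h | h
    · refine ⟨C₂, ?_, ?_⟩
      · rw [h]; exact hne.symm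
      · intro t; rw [h]; exact key t
    · refine ⟨C₁, ?_, ?_⟩
      · rw [h]; exact hne
      · intro t; rw [h]; exact (key t).symm
  obtain ⟨c, hc, hcne⟩ := C'.2
  rw [ConjClasses.mem_carrier_iff_mk_eq] at hc
  refine ⟨c, ?_, hcne, ?_⟩
  · rintro rfl
    apply hC'
    exact Subtype.ext hc.symm
  · intro g hg
    let t : {C : ConjClasses G // ∃ g ∈ C.carrier, (χ : G → ℂ) g ≠ 0} :=
      ⟨ConjClasses.mk g, g, ConjClasses.mem_carrier_mk, hg⟩
    rcases hall t with h | h
    · left
      have h1 : ConjClasses.mk g = ConjClasses.mk 1 := congrArg Subtype.val h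
      rw [ConjClasses.mk_eq_mk_iff_isConj] at h1
      exact isConj_one_left.1 h1
    · right
      have h1 : ConjClasses.mk g = C'.1 := congrArg Subtype.val h
      rw [← hc, ConjClasses.mk_eq_mk_iff_isConj] at h1
      exact h1.symm

/-- the numerical and kernel data attached to a character nonzero on exactly two classes -/
structure GData (χ : IrrCharacter G) (c : G) : Prop where
  ne_one : c ≠ 1
  ne_zero : (χ : G → ℂ) c ≠ 0
  supp : ∀ g, (χ : G → ℂ) g ≠ 0 → g = 1 ∨ IsConj c g
  val : ((Subgroup.centralizer ({c} : Set G)).index : ℂ) * (χ : G → ℂ) c = - (χ : G → ℂ) 1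
  card : charDegree (χ : G → ℂ) ^ 2 * ((Subgroup.centralizer ({c} : Set G)).index + 1)
    = Nat.card G * (Subgroup.centralizer ({c} : Set G)).index
  ker : ∀ ψ : IrrCharacter G, ψ ≠ χ → (ψ : G → ℂ) c = (ψ : G → ℂ) 1

theorem apply_eq_of_isConj (χ : IrrCharacter G) {a b : G} (h : IsConj a b) :
    (χ : G → ℂ) a = (χ : G → ℂ) b := by
  obtain ⟨x, hx⟩ := isConj_iff.1 h
  rw [← hx]
  exact (IsIrrCharacter.isClassFunction χ.2 a x).symm

theorem exists_gdata [Finite G] (hG : 2 < Nat.card G) (χ : IrrCharacter G)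
    (hχ : Nat.card {C : ConjClasses G // ∃ g ∈ C.carrier, (χ : G → ℂ) g ≠ 0} = 2) :
    ∃ c : G, GData χ c := by
  classical
  have : Fintype G := Fintype.ofFinite G
  have : Fintype (IrrCharacter G) := Fintype.ofFinite _
  obtain ⟨c, hc1, hc0, hsupp⟩ := exists_second_class χ hχ
  have hGc : (Nat.card G : ℂ) ≠ 0 := card_ne_zero_complex G
  set m : ℕ := (Subgroup.centralizer ({c} : Set G)).index with hm
  have hmcard : (Finset.univ.filter (fun x : G => IsConj c x)).card = m := card_conj_eq_index c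
  have hmpos : 0 < m := Nat.pos_of_ne_zero Subgroup.index_ne_zero_of_finite
  have hmc : (m : ℂ) ≠ 0 := by exact_mod_cast hmpos.ne'
  set d : ℕ := charDegree (χ : G → ℂ) with hd
  have hχ1 : (χ : G → ℂ) 1 = (d : ℂ) :=
    IsCharacter.apply_one_eq_charDegree (IsIrrCharacter.isCharacter χ.2)
  have hdpos : 0 < d := IsIrrCharacter.charDegree_pos χ.2
  -- pointwise description of `χ`
  have hnc1 : ¬ IsConj c 1 := fun h => hc1 (isConj_one_left.1 h)
  have hF : ∀ (F : ℂ → ℂ), F 0 = 0 → ∀ g : G, F ((χ : G → ℂ) g)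
      = (if g = 1 then F ((χ : G → ℂ) 1) else 0) + (if IsConj c g then F ((χ : G → ℂ) c) else 0) := by
    intro F hF0 g
    by_cases hg : g = 1
    · subst hg
      rw [if_pos rfl, if_neg hnc1, add_zero]
    · by_cases hcg : IsConj c g
      · rw [if_neg hg, if_pos hcg, zero_add, apply_eq_of_isConj χ hcg]
      · rw [if_neg hg, if_neg hcg, add_zero]
        have : (χ : G → ℂ) g = 0 := by
          by_contra h0
          rcases hsupp g h0 with h | h
          · exact hg h
          · exact hcg h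
        rw [this, hF0]
  have hsumF : ∀ (F : ℂ → ℂ), F 0 = 0 → ∑ g : G, F ((χ : G → ℂ) g)
      = F ((χ : G → ℂ) 1) + (m : ℂ) * F ((χ : G → ℂ) c) := by
    intro F hF0
    rw [Finset.sum_congr rfl (fun g _ => hF F hF0 g), Finset.sum_add_distrib,
      Finset.sum_ite_eq' Finset.univ (1 : G), if_pos (Finset.mem_univ _), ← Finset.sum_filter,
      Finset.sum_const, hmcard, nsmul_eq_mul]
  -- `χ` is not the trivial character
  let χ₀ : IrrCharacter G := ⟨fun _ => 1, isIrrCharacter_one⟩
  have hne : χ ≠ χ₀ := by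
    intro he
    have hall : ∀ g : G, g = 1 ∨ IsConj c g := by
      intro g
      apply hsupp
      rw [he]
      exact one_ne_zero
    have h2 : Nat.card G = 2 := by
      apply card_eq_two_of_two_classes _ ⟨c, hc1⟩
      intro x y hx hy
      have h1 := (hall x).resolve_left hx
      have h2 := (hall y).resolve_left hy
      exact h1.symm.trans h2
    omega
  -- first relation
  have hrel1 : (χ : G → ℂ) 1 + (m : ℂ) * (χ : G → ℂ) c = 0 := by
    have h1 := classInner_irrCharacter χ χ₀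
    rw [if_neg hne] at h1
    unfold classInner at h1
    have h2 : ∀ g : G, (χ : G → ℂ) g * conj ((χ₀ : G → ℂ) g) = (χ : G → ℂ) g := by
      intro g
      show (χ : G → ℂ) g * conj (1 : ℂ) = _
      rw [map_one, mul_one]
    rw [Finset.sum_congr rfl (fun g _ => h2 g)] at h1
    have h3 := hsumF id rfl
    simp only [id] at h3
    rw [h3] at h1
    rcases mul_eq_zero.1 h1 with h | h
    · exact absurd (inv_eq_zero.1 h) hGc
    · exact h
  have hval : (m : ℂ) * (χ : G → ℂ) c = - (χ : G → ℂ) 1 := by linear_combination hrel1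
  have hχc : (χ : G → ℂ) c = - (d : ℂ) / (m : ℂ) := by
    rw [eq_div_iff hmc, mul_comm, hval, hχ1]
  -- second relation
  have hrel2 : (d : ℂ) ^ 2 * ((m : ℂ) + 1) = (Nat.card G : ℂ) * (m : ℂ) := by
    have h1 := classInner_irrCharacter χ χ
    rw [if_pos rfl] at h1
    unfold classInner at h1
    have h3 := hsumF (fun z => z * conj z) (by simp)
    rw [h3, hχ1, hχc] at h1
    have h4 : conj (-(d : ℂ) / (m : ℂ)) = -(d : ℂ) / (m : ℂ) := by
      rw [map_div₀, map_neg, Complex.conj_natCast, Complex.conj_natCast]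
    rw [h4, Complex.conj_natCast] at h1
    field_simp at h1
    linear_combination h1
  have hcardN : d ^ 2 * (m + 1) = Nat.card G * m := by exact_mod_cast hrel2
  refine ⟨c, hc1, hc0, hsupp, hval, hcardN, ?_⟩
  -- the other characters contain `c` in their kernel
  have hs0 := sum_irr_apply_mul_apply_one c
  rw [if_neg hc1] at hs0
  have hs1 := sum_irr_apply_mul_apply_one (1 : G)
  rw [if_pos rfl] at hs1
  have hdiff : ∑ ψ : IrrCharacter G, ((ψ : G → ℂ) 1 - (ψ : G → ℂ) c) * (ψ : G → ℂ) 1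
      = (Nat.card G : ℂ) := by
    rw [← hs1, ← sub_zero (∑ ψ : IrrCharacter G, (ψ : G → ℂ) 1 * (ψ : G → ℂ) 1), ← hs0,
      ← Finset.sum_sub_distrib]
    apply Finset.sum_congr rfl
    intro ψ _
    ring
  rw [← Finset.add_sum_erase Finset.univ _ (Finset.mem_univ χ)] at hdiff
  have hχterm : ((χ : G → ℂ) 1 - (χ : G → ℂ) c) * (χ : G → ℂ) 1 = (Nat.card G : ℂ) := by
    rw [hχ1, hχc]
    field_simp
    linear_combination hrel2
  rw [hχterm] at hdiff
  have hrest : ∑ ψ ∈ Finset.univ.erase χ, ((ψ : G → ℂ) 1 - (ψ : G → ℂ) c) * (ψ : G → ℂ) 1 = 0 := by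
    linear_combination hdiff
  have hre : ∑ ψ ∈ Finset.univ.erase χ,
      (((ψ : G → ℂ) 1 - (ψ : G → ℂ) c) * (ψ : G → ℂ) 1).re = 0 := by
    rw [← Complex.re_sum, hrest, Complex.zero_re]
  have hterm : ∀ ψ : IrrCharacter G, (((ψ : G → ℂ) 1 - (ψ : G → ℂ) c) * (ψ : G → ℂ) 1).re
      = ((charDegree (ψ : G → ℂ) : ℝ) - ((ψ : G → ℂ) c).re) * (charDegree (ψ : G → ℂ) : ℝ) := by
    intro ψ
    rw [IsCharacter.apply_one_eq_charDegree (IsIrrCharacter.isCharacter ψ.2)]
    simp [Complex.mul_re]
  have hle : ∀ ψ : IrrCharacter G, ((ψ : G → ℂ) c).re ≤ (charDegree (ψ : G → ℂ) : ℝ) := by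
    intro ψ
    exact le_trans (Complex.re_le_norm _)
      (IsCharacter.norm_apply_le (IsIrrCharacter.isCharacter ψ.2) c)
  have hnonneg : ∀ ψ ∈ Finset.univ.erase χ,
      0 ≤ (((ψ : G → ℂ) 1 - (ψ : G → ℂ) c) * (ψ : G → ℂ) 1).re := by
    intro ψ _
    rw [hterm]
    apply mul_nonneg
    · linarith [hle ψ]
    · exact Nat.cast_nonneg _
  rw [Finset.sum_eq_zero_iff_of_nonneg hnonneg] at hre
  intro ψ hψ
  have h1 := hre ψ (Finset.mem_erase.2 ⟨hψ, Finset.mem_univ _⟩)
  rw [hterm] at h1
  have hdψ : (0 : ℝ) < (charDegree (ψ : G → ℂ) : ℝ) := by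
    exact_mod_cast IsIrrCharacter.charDegree_pos ψ.2
  have h2 : ((ψ : G → ℂ) c).re = (charDegree (ψ : G → ℂ) : ℝ) := by
    rcases mul_eq_zero.1 h1 with h | h
    · linarith
    · linarith
  rw [IsCharacter.apply_one_eq_charDegree (IsIrrCharacter.isCharacter ψ.2)]
  have := eq_of_re_eq_of_norm_le (IsCharacter.norm_apply_le (IsIrrCharacter.isCharacter ψ.2) c) h2
  rw [this]
  simp

section Supp

variable [Finite G]

/-- the intersection of the kernels of the irreducible characters other than `χ` -/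
noncomputable def suppSubgroup (χ : IrrCharacter G) : Subgroup G :=
  ⨅ ψ : {ψ : IrrCharacter G // ψ ≠ χ}, charKer (IsIrrCharacter.isCharacter ψ.1.2)

theorem mem_suppSubgroup (χ : IrrCharacter G) (g : G) :
    g ∈ suppSubgroup χ ↔ ∀ ψ : IrrCharacter G, ψ ≠ χ → (ψ : G → ℂ) g = (ψ : G → ℂ) 1 := by
  unfold suppSubgroup
  rw [Subgroup.mem_iInf]
  constructor
  · intro h ψ hψ
    exact (mem_charKer _ g).1 (h ⟨ψ, hψ⟩)
  · intro h ψ
    exact (mem_charKer _ g).2 (h ψ.1 ψ.2)

instance suppSubgroup_normal (χ : IrrCharacter G) : (suppSubgroup χ).Normal := by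
  unfold suppSubgroup
  exact Subgroup.normal_iInf_normal (fun ψ => charKer_normal _)

theorem GData.ne_trivial {χ : IrrCharacter G} {c : G} (h : GData χ c) :
    (⟨fun _ => 1, isIrrCharacter_one⟩ : IrrCharacter G) ≠ χ := by
  intro he
  have h1 := h.val
  rw [← he] at h1
  have h2 : (((Subgroup.centralizer ({c} : Set G)).index + 1 : ℕ) : ℂ) = 0 := by
    push_cast
    have : ((Subgroup.centralizer ({c} : Set G)).index : ℂ) * 1 = -1 := h1
    linear_combination this
  exact_mod_cast h2

theorem GData.mem_supp {χ : IrrCharacter G} {c : G} (h : GData χ c) : c ∈ suppSubgroup χ :=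
  (mem_suppSubgroup χ c).2 h.ker

theorem GData.mem_supp_iff {χ : IrrCharacter G} {c : G} (h : GData χ c) (g : G) :
    g ∈ suppSubgroup χ ↔ (χ : G → ℂ) g ≠ 0 := by
  classical
  have : Fintype G := Fintype.ofFinite G
  have : Fintype (IrrCharacter G) := Fintype.ofFinite _
  constructor
  · intro hg
    by_cases hg1 : g = 1
    · rw [hg1]; exact IsIrrCharacter.apply_one_ne_zero χ.2
    · intro h0
      have hs := sum_irr_apply_mul_apply_one g
      rw [if_neg hg1, ← Finset.add_sum_erase Finset.univ _ (Finset.mem_univ χ), h0, zero_mul,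
        zero_add] at hs
      have h1 : ∀ ψ ∈ Finset.univ.erase χ, (ψ : G → ℂ) g * (ψ : G → ℂ) 1
          = ((charDegree (ψ : G → ℂ) ^ 2 : ℕ) : ℂ) := by
        intro ψ hψ
        rw [(mem_suppSubgroup χ g).1 hg ψ (Finset.ne_of_mem_erase hψ),
          IsCharacter.apply_one_eq_charDegree (IsIrrCharacter.isCharacter ψ.2)]
        push_cast; ring
      rw [Finset.sum_congr rfl h1, ← Nat.cast_sum] at hs
      have hs' : ∑ ψ ∈ Finset.univ.erase χ, charDegree (ψ : G → ℂ) ^ 2 = 0 := by exact_mod_cast hs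
      rw [Finset.sum_eq_zero_iff] at hs'
      have := hs' ⟨fun _ => 1, isIrrCharacter_one⟩
        (Finset.mem_erase.2 ⟨h.ne_trivial, Finset.mem_univ _⟩)
      have hpos := IsIrrCharacter.charDegree_pos (isIrrCharacter_one (G := G))
      have h3 : charDegree (fun _ : G => (1 : ℂ)) = 0 := pow_eq_zero_iff (two_ne_zero) |>.1 this
      omega
  · intro hg
    rcases h.supp g hg with h1 | h1
    · rw [h1]; exact Subgroup.one_mem _
    · obtain ⟨x, hx⟩ := isConj_iff.1 h1
      rw [← hx]
      exact (suppSubgroup_normal χ).conj_mem c h.mem_supp x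

theorem GData.isConj_of_mem {χ : IrrCharacter G} {c : G} (h : GData χ c) {x : G}
    (hx : x ∈ suppSubgroup χ) (hx1 : x ≠ 1) : IsConj c x :=
  (h.supp x ((h.mem_supp_iff x).1 hx)).resolve_left hx1

theorem GData.supp_ne_bot {χ : IrrCharacter G} {c : G} (h : GData χ c) : suppSubgroup χ ≠ ⊥ := by
  intro he
  have := h.mem_supp
  rw [he, Subgroup.mem_bot] at this
  exact h.ne_one this

/-- the support is the unique minimal normal subgroup -/
theorem GData.supp_le {χ : IrrCharacter G} {c : G} (h : GData χ c) (K : Subgroup G) (hK : K.Normal)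
    (hK1 : K ≠ ⊥) : suppSubgroup χ ≤ K := by
  classical
  have : Fintype G := Fintype.ofFinite G
  by_cases hcK : c ∈ K
  · intro x hx
    by_cases hx1 : x = 1
    · rw [hx1]; exact K.one_mem
    · obtain ⟨a, ha⟩ := isConj_iff.1 (h.isConj_of_mem hx hx1)
      rw [← ha]
      exact hK.conj_mem c hcK a
  · exfalso
    -- `χ` vanishes on `K \ 1`
    have hvan : ∀ k : K, k ≠ 1 → (χ : G → ℂ) k = 0 := by
      intro k hk1
      by_contra h0
      have hk : (k : G) ∈ suppSubgroup χ := (h.mem_supp_iff _).2 h0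
      have hk1' : (k : G) ≠ 1 := fun he => hk1 (Subtype.ext he)
      obtain ⟨a, ha⟩ := isConj_iff.1 (h.isConj_of_mem hk hk1').symm
      apply hcK
      rw [← ha]
      exact hK.conj_mem _ k.2 a
    have hsum : ∑ k : K, (χ : G → ℂ) k = (χ : G → ℂ) 1 := by
      rw [Finset.sum_eq_single (1 : K)]
      · rfl
      · intro k _ hk
        exact hvan k hk
      · intro h1
        exact absurd (Finset.mem_univ _) h1
    have hne : ∑ k : K, (χ : G → ℂ) k ≠ 0 := by
      rw [hsum]; exact IsIrrCharacter.apply_one_ne_zero χ.2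
    have hconst := IsIrrCharacter.const_on_normal_of_sum_ne_zero K χ.2 hne
    obtain ⟨k, hkK, hk1⟩ := (Subgroup.ne_bot_iff_exists_ne_one (H := K)).1 hK1 |> fun ⟨k, hk⟩ =>
      (⟨k.1, k.2, fun he => hk (Subtype.ext he)⟩ : ∃ k : G, k ∈ K ∧ k ≠ 1)
    have h1 := hconst ⟨k, hkK⟩
    have h2 := hvan ⟨k, hkK⟩ (fun he => hk1 (congrArg Subtype.val he))
    simp only at h1 h2
    rw [h2] at h1
    exact IsIrrCharacter.apply_one_ne_zero χ.2 h1.symm

theorem GData.exists_conj {χ : IrrCharacter G} {c : G} (h : GData χ c) {x y : G}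
    (hx : x ∈ suppSubgroup χ) (hy : y ∈ suppSubgroup χ) (hx1 : x ≠ 1) (hy1 : y ≠ 1) :
    ∃ g : G, g * x * g⁻¹ = y :=
  isConj_iff.1 ((h.isConj_of_mem hx hx1).symm.trans (h.isConj_of_mem hy hy1))

/-- the support is an elementary abelian `p`-group -/
theorem GData.exists_prime {χ : IrrCharacter G} {c : G} (h : GData χ c) :
    ∃ p : ℕ, p.Prime ∧ IsElementaryAbelian p (suppSubgroup χ) := by
  set N := suppSubgroup χ with hN
  have hnt : Nontrivial N := (Subgroup.nontrivial_iff_ne_bot N).2 h.supp_ne_bot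
  have hcard : Nat.card N ≠ 1 := by
    intro h1
    exact h.supp_ne_bot (Subgroup.card_eq_one.1 h1)
  obtain ⟨p, hp, hpd⟩ := Nat.exists_prime_and_dvd hcard
  have : Fact p.Prime := ⟨hp⟩
  obtain ⟨x, hx⟩ := exists_prime_orderOf_dvd_card' p hpd
  have hx1 : (x : G) ≠ 1 := by
    intro he
    have : x = 1 := Subtype.ext he
    rw [this, orderOf_one] at hx
    exact hp.one_lt.ne hx
  have hxp : (x : G) ^ p = 1 := by
    have := pow_orderOf_eq_one x
    rw [hx] at this
    exact_mod_cast congrArg Subtype.val this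
  have hpow : ∀ a ∈ N, a ^ p = 1 := by
    intro a ha
    by_cases ha1 : a = 1
    · rw [ha1, one_pow]
    · obtain ⟨g, hg⟩ := h.exists_conj x.2 ha hx1 ha1
      rw [← hg, conj_pow, hxp, mul_one, mul_inv_cancel]
  refine ⟨p, hp, ?_, hpow⟩
  -- commutativity
  have hNp : IsPGroup p N := by
    intro a
    refine ⟨1, ?_⟩
    rw [pow_one]
    exact Subtype.ext (hpow a a.2)
  have hcen : Nontrivial (Subgroup.center N) := hNp.center_nontrivial
  obtain ⟨z, hz1⟩ := exists_ne (1 : Subgroup.center N)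
  have hzG : ((z : N) : G) ≠ 1 := by
    intro he
    apply hz1
    exact Subtype.ext (Subtype.ext he)
  have hzc : ∀ n ∈ N, ((z : N) : G) * n = n * ((z : N) : G) := by
    intro n hn
    have := (Subgroup.mem_center_iff.1 z.2) ⟨n, hn⟩
    exact (congrArg Subtype.val this).symm
  constructor
  constructor
  rintro ⟨a, ha⟩ ⟨b, hb⟩
  apply Subtype.ext
  show a * b = b * a
  by_cases ha1 : a = 1
  · rw [ha1, one_mul, mul_one]
  · obtain ⟨g, hg⟩ := h.exists_conj (z : N).2 ha hzG ha1
    have hb' : g⁻¹ * b * g ∈ N := by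
      have := (suppSubgroup_normal χ).conj_mem b hb g⁻¹
      rwa [inv_inv] at this
    have h2 := hzc _ hb'
    rw [← hg]
    calc g * ((z : N) : G) * g⁻¹ * b = g * (((z : N) : G) * (g⁻¹ * b * g)) * g⁻¹ := by group
      _ = g * ((g⁻¹ * b * g) * ((z : N) : G)) * g⁻¹ := by rw [h2]
      _ = b * (g * ((z : N) : G) * g⁻¹) := by group

end Supp

section Numeric

variable [Finite G]

theorem eq_suppSubgroup {χ : IrrCharacter G} {c : G} (h : GData χ c) (N : Subgroup G)
    (hN : ∀ g : G, g ∈ N ↔ (χ : G → ℂ) g ≠ 0) : N = suppSubgroup χ := by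
  ext g
  rw [hN, h.mem_supp_iff]

/-- the support has `m + 1` elements, `m` the size of the nontrivial class -/
theorem GData.card_supp {χ : IrrCharacter G} {c : G} (h : GData χ c) :
    Nat.card (suppSubgroup χ) = (Subgroup.centralizer ({c} : Set G)).index + 1 := by
  classical
  have : Fintype G := Fintype.ofFinite G
  rw [← card_conj_eq_index c, Nat.card_eq_fintype_card, Fintype.card_subtype]
  have h1 : Finset.univ.filter (fun x : G => x ∈ suppSubgroup χ)
      = insert 1 (Finset.univ.filter (fun x : G => IsConj c x)) := by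
    ext x
    rw [Finset.mem_filter, Finset.mem_insert, Finset.mem_filter]
    constructor
    · rintro ⟨_, hx⟩
      by_cases hx1 : x = 1
      · left; exact hx1
      · right; exact ⟨Finset.mem_univ _, h.isConj_of_mem hx hx1⟩
    · rintro (hx | ⟨_, hx⟩)
      · rw [hx]; exact ⟨Finset.mem_univ _, Subgroup.one_mem _⟩
      · refine ⟨Finset.mem_univ _, ?_⟩
        obtain ⟨a, ha⟩ := isConj_iff.1 hx
        rw [← ha]
        exact (suppSubgroup_normal χ).conj_mem c h.mem_supp a
  rw [h1, Finset.card_insert_of_notMem]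
  rw [Finset.mem_filter]
  rintro ⟨_, h2⟩
  exact h.ne_one (isConj_one_left.1 h2)

/-- for primes `q ≠ p` the full `q`-part of `|G|` divides `χ(1)` -/
theorem GData.q_part_dvd {χ : IrrCharacter G} {c : G} (h : GData χ c) {p : ℕ} [Fact p.Prime]
    (hNp : IsPGroup p (suppSubgroup χ)) {q : ℕ} [hq : Fact q.Prime] (hqp : q ≠ p) :
    q ^ (Nat.card G).factorization q ∣ charDegree (χ : G → ℂ) := by
  obtain ⟨Q⟩ : Nonempty (Sylow q G) := inferInstance
  have hvan : ∀ g : G, g ∈ Q → g ≠ 1 → (χ : G → ℂ) g = 0 := by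
    intro g hgQ hg1
    by_contra h0
    have hgN : g ∈ suppSubgroup χ := (h.mem_supp_iff g).2 h0
    obtain ⟨k, hk⟩ := (IsPGroup.iff_orderOf.1 hNp) ⟨g, hgN⟩
    obtain ⟨l, hl⟩ := (IsPGroup.iff_orderOf.1 Q.2) ⟨g, hgQ⟩
    rw [Subgroup.orderOf_mk] at hk hl
    have h1 : Nat.Coprime (p ^ k) (q ^ l) :=
      Nat.Coprime.pow _ _ ((Nat.coprime_primes Fact.out hq.out).2 (Ne.symm hqp))
    rw [← hk, ← hl, Nat.coprime_self] at h1
    exact hg1 (orderOf_eq_one_iff.1 h1)
  obtain ⟨k, hk⟩ := Cfsg.Agent.S0189.result q Q (χ : G → ℂ) (IsIrrCharacter.isCharacter χ.2) hvan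
  rw [IsCharacter.apply_one_eq_charDegree (IsIrrCharacter.isCharacter χ.2), Q.card_eq_multiplicity]
    at hk
  have hk' : charDegree (χ : G → ℂ) = q ^ (Nat.card G).factorization q * k := by exact_mod_cast hk
  exact Dvd.intro _ hk'.symm

/-- the centralizer of `c` has order the full `p`-part of `|G|` -/
theorem GData.card_centralizer {χ : IrrCharacter G} {c : G} (h : GData χ c) {p : ℕ}
    [hp : Fact p.Prime] (hNp : IsPGroup p (suppSubgroup χ)) :
    Nat.card (Subgroup.centralizer ({c} : Set G)) = p ^ (Nat.card G).factorization p := by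
  set m := (Subgroup.centralizer ({c} : Set G)).index with hm
  set n := Nat.card (Subgroup.centralizer ({c} : Set G)) with hn
  set d := charDegree (χ : G → ℂ) with hd
  have hG : Nat.card G = m * n := (Subgroup.index_mul_card _).symm
  have hmpos : 0 < m := Nat.pos_of_ne_zero Subgroup.index_ne_zero_of_finite
  have hnpos : 0 < n := Nat.card_pos
  have hdpos : 0 < d := IsIrrCharacter.charDegree_pos χ.2
  have hcard := h.card
  rw [← hm, ← hd, hG] at hcard
  -- `d^2 (m+1) = n m^2`
  have hrel : d ^ 2 * (m + 1) = n * m ^ 2 := by rw [hcard]; ring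
  -- `m + 1 = p ^ a`
  obtain ⟨a, ha⟩ := hNp.exists_card_eq
  rw [h.card_supp, ← hm] at ha
  have ha0 : a ≠ 0 := by
    rintro rfl
    rw [pow_zero] at ha
    omega
  have hpm : ¬ p ∣ m := by
    intro hpm
    have h1 : p ∣ m + 1 := by rw [ha]; exact dvd_pow_self p ha0
    have h2 : p ∣ 1 := (Nat.dvd_add_right hpm).1 h1
    exact hp.out.one_lt.ne' (Nat.dvd_one.1 h2)
  -- every prime divisor of `n` is `p`
  have hprime : ∀ {q : ℕ}, q.Prime → q ∣ n → q = p := by
    intro q hq hqn
    by_contra hqp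
    have : Fact q.Prime := ⟨hq⟩
    have hdvd := h.q_part_dvd hNp hqp
    rw [← hd] at hdvd
    have f1 : (Nat.card G).factorization q = m.factorization q + n.factorization q := by
      rw [hG, Nat.factorization_mul hmpos.ne' hnpos.ne']; rfl
    have hm1 : (m + 1).factorization q = 0 := by
      rw [ha, Nat.factorization_pow]
      simp only [Finsupp.coe_smul, Pi.smul_apply, smul_eq_mul]
      rw [Nat.factorization_eq_zero_of_not_dvd
        (fun hh => hqp ((Nat.prime_dvd_prime_iff_eq hq hp.out).1 hh)), mul_zero]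
    have f2 : (d ^ 2 * (m + 1)).factorization q = 2 * d.factorization q := by
      rw [Nat.factorization_mul (pow_pos hdpos 2).ne' (Nat.succ_ne_zero m), Nat.factorization_pow]
      simp only [Finsupp.coe_add, Finsupp.coe_smul, Pi.add_apply, Pi.smul_apply, smul_eq_mul]
      rw [hm1, add_zero]
    have f3 : (n * m ^ 2).factorization q = n.factorization q + 2 * m.factorization q := by
      rw [Nat.factorization_mul hnpos.ne' (pow_pos hmpos 2).ne', Nat.factorization_pow]
      simp only [Finsupp.coe_add, Finsupp.coe_smul, Pi.add_apply, Pi.smul_apply, smul_eq_mul]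
    have f4 : (Nat.card G).factorization q ≤ d.factorization q :=
      (hq.pow_dvd_iff_le_factorization hdpos.ne').1 hdvd
    have f5 : 2 * d.factorization q = n.factorization q + 2 * m.factorization q := by
      rw [← f2, ← f3, hrel]
    have f6 : 1 ≤ n.factorization q :=
      (hq.dvd_iff_one_le_factorization hnpos.ne').1 hqn
    omega
  have hnp : n = p ^ n.primeFactorsList.length :=
    Nat.eq_prime_pow_of_unique_prime_dvd hnpos.ne' hprime
  set k := n.primeFactorsList.length with hk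
  have f7 : (Nat.card G).factorization p = k := by
    rw [hG, Nat.factorization_mul hmpos.ne' hnpos.ne']
    simp only [Finsupp.coe_add, Pi.add_apply]
    rw [Nat.factorization_eq_zero_of_not_dvd hpm, zero_add, hnp, hp.out.factorization_pow]
    simp
  rw [f7]
  exact hnp

theorem card_centralizer_eq_of_isConj {a b : G} (h : IsConj a b) :
    Nat.card (Subgroup.centralizer ({b} : Set G)) = Nat.card (Subgroup.centralizer ({a} : Set G)) := by
  classical
  have : Fintype G := Fintype.ofFinite G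
  have h1 := card_conj_mul_card_centralizer a
  have h2 := card_conj_mul_card_centralizer b
  have h3 : Finset.univ.filter (fun x : G => IsConj a x) = Finset.univ.filter (fun x : G => IsConj b x) := by
    ext x
    rw [Finset.mem_filter, Finset.mem_filter]
    exact ⟨fun ⟨h1, h2⟩ => ⟨h1, h.symm.trans h2⟩, fun ⟨h1, h2⟩ => ⟨h1, h.trans h2⟩⟩
  rw [h3] at h1
  have hpos : 0 < (Finset.univ.filter (fun x : G => IsConj b x)).card :=
    Finset.card_pos.2 ⟨b, by rw [Finset.mem_filter]; exact ⟨Finset.mem_univ _, IsConj.refl b⟩⟩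
  exact Nat.eq_of_mul_eq_mul_left hpos (h2.trans h1.symm)

/-- centralizers of nonidentity elements of the support are Sylow `p`-subgroups -/
theorem GData.exists_sylow_centralizer {χ : IrrCharacter G} {c : G} (h : GData χ c) {p : ℕ}
    [hp : Fact p.Prime] (hNp : IsPGroup p (suppSubgroup χ)) {x : G} (hx : x ∈ suppSubgroup χ)
    (hx1 : x ≠ 1) : ∃ P : Sylow p G, Subgroup.centralizer ({x} : Set G) = P := by
  have h1 : Nat.card (Subgroup.centralizer ({x} : Set G)) = p ^ (Nat.card G).factorization p := by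
    rw [card_centralizer_eq_of_isConj (h.isConj_of_mem hx hx1), h.card_centralizer hNp]
  exact ⟨Sylow.ofCard _ h1, (Sylow.coe_ofCard _ h1).symm⟩

end Numeric

section Inertia

variable [Finite G]

/-- the (left) action of `G` on the irreducible characters of a normal subgroup -/
@[reducible] noncomputable def irrAction (N : Subgroup G) (hN : N.Normal) :
    MulAction G (IrrCharacter N) where
  smul g μ := ⟨conjFun N hN (μ : N → ℂ) g⁻¹, IsIrrCharacter.conjFun N hN μ.2 g⁻¹⟩
  one_smul μ := by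
    apply Subtype.ext
    show conjFun N hN (μ : N → ℂ) (1 : G)⁻¹ = (μ : N → ℂ)
    rw [inv_one, conjFun_one]
  mul_smul g h μ := by
    apply Subtype.ext
    show conjFun N hN (μ : N → ℂ) (g * h)⁻¹ = conjFun N hN (conjFun N hN (μ : N → ℂ) h⁻¹) g⁻¹
    rw [conjFun_conjFun, mul_inv_rev]

theorem irrAction_smul (N : Subgroup G) (hN : N.Normal) (g : G) (μ : IrrCharacter N) :
    (((irrAction N hN).smul g μ : IrrCharacter N) : N → ℂ) = conjFun N hN (μ : N → ℂ) g⁻¹ := rfl

/-- the number of irreducible characters of a commutative group -/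
theorem card_irr_of_comm {A : Type*} [Group A] [Finite A] (hA : ∀ a b : A, a * b = b * a) :
    Nat.card (IrrCharacter A) = Nat.card A := by
  rw [card_irrCharacter]
  symm
  apply Nat.card_congr
  refine Equiv.ofBijective ConjClasses.mk ⟨?_, ConjClasses.mk_surjective⟩
  intro a b hab
  rw [ConjClasses.mk_eq_mk_iff_isConj, isConj_iff] at hab
  obtain ⟨x, hx⟩ := hab
  rw [← hx, hA x a, mul_assoc, mul_inv_cancel, mul_one]

theorem GData.apply_ne {χ : IrrCharacter G} {c : G} (h : GData χ c) :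
    (χ : G → ℂ) 1 - (χ : G → ℂ) c ≠ 0 := by
  intro he
  have h1 := h.val
  have h2 : (χ : G → ℂ) c = (χ : G → ℂ) 1 := by linear_combination -he
  rw [h2] at h1
  have h3 : (((Subgroup.centralizer ({c} : Set G)).index + 1 : ℕ) : ℂ) * (χ : G → ℂ) 1 = 0 := by
    push_cast; linear_combination h1
  rcases mul_eq_zero.1 h3 with h4 | h4
  · exact_mod_cast h4
  · exact IsIrrCharacter.apply_one_ne_zero χ.2 h4

/-- every nonprincipal irreducible character of the support is a constituent of `χ` -/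
theorem GData.classInner_restrict_ne_zero {χ : IrrCharacter G} {c : G} (h : GData χ c)
    (N : Subgroup G) [Fintype N] (hN : ∀ g : G, g ∈ N ↔ (χ : G → ℂ) g ≠ 0)
    (μ : IrrCharacter N) (hμ : (μ : N → ℂ) ≠ fun _ => 1) :
    classInner (fun n : N => (χ : G → ℂ) n) (μ : N → ℂ) ≠ 0 := by
  classical
  have hNc : (Nat.card N : ℂ) ≠ 0 := card_ne_zero_complex N
  let μ₀ : IrrCharacter N := ⟨fun _ => 1, isIrrCharacter_one⟩
  have hne : μ ≠ μ₀ := fun he => hμ (congrArg Subtype.val he)
  have h0 : ∑ n : N, (μ : N → ℂ) n = 0 := by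
    have h1 := classInner_irrCharacter μ μ₀
    rw [if_neg hne] at h1
    unfold classInner at h1
    have h2 : ∀ n : N, (μ : N → ℂ) n * (starRingEnd ℂ) ((μ₀ : N → ℂ) n) = (μ : N → ℂ) n := by
      intro n
      show (μ : N → ℂ) n * (starRingEnd ℂ) (1 : ℂ) = _
      rw [map_one, mul_one]
    rw [Finset.sum_congr rfl (fun n _ => h2 n)] at h1
    rcases mul_eq_zero.1 h1 with h3 | h3
    · exact absurd (inv_eq_zero.1 h3) hNc
    · exact h3
  have h0' : ∑ n : N, (starRingEnd ℂ) ((μ : N → ℂ) n) = 0 := by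
    rw [← map_sum, h0, map_zero]
  unfold classInner
  apply mul_ne_zero (inv_ne_zero hNc)
  have hpt : ∀ n : N, (χ : G → ℂ) n * (starRingEnd ℂ) ((μ : N → ℂ) n)
      = (χ : G → ℂ) c * (starRingEnd ℂ) ((μ : N → ℂ) n)
        + (if n = 1 then ((χ : G → ℂ) 1 - (χ : G → ℂ) c) * (starRingEnd ℂ) ((μ : N → ℂ) 1) else 0) := by
    intro n
    by_cases hn : n = 1
    · rw [if_pos hn, hn]
      simp only [Subgroup.coe_one]
      ring
    · rw [if_neg hn, add_zero]
      have hn1 : (n : G) ≠ 1 := fun he => hn (Subtype.ext he)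
      rw [apply_eq_of_isConj χ ((h.supp n ((hN n).1 n.2)).resolve_left hn1)]
  rw [Finset.sum_congr rfl (fun n _ => hpt n), Finset.sum_add_distrib, ← Finset.mul_sum, h0',
    mul_zero, zero_add, Finset.sum_ite_eq' Finset.univ (1 : N), if_pos (Finset.mem_univ _)]
  apply mul_ne_zero h.apply_ne
  rw [Ne, map_eq_zero]
  exact IsIrrCharacter.apply_one_ne_zero μ.2

/-- the stabilizer of a nonprincipal irreducible character of the support has index `m` -/
theorem GData.index_stabilizer {χ : IrrCharacter G} {c : G} (h : GData χ c)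
    (N : Subgroup G) (hNn : N.Normal) (hN : ∀ g : G, g ∈ N ↔ (χ : G → ℂ) g ≠ 0)
    (hcomm : ∀ a b : N, a * b = b * a)
    (μ : IrrCharacter N) (hμ : (μ : N → ℂ) ≠ fun _ => 1) :
    (@MulAction.stabilizer G _ _ (irrAction N hNn) μ).index
      = (Subgroup.centralizer ({c} : Set G)).index := by
  classical
  have : Fintype G := Fintype.ofFinite G
  have : Fintype N := Fintype.ofFinite _
  let _ := irrAction N hNn
  rw [MulAction.index_stabilizer]
  let μ₀ : IrrCharacter N := ⟨fun _ => 1, isIrrCharacter_one⟩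
  have horb : MulAction.orbit G μ = ({μ₀} : Set (IrrCharacter N))ᶜ := by
    ext ν
    rw [Set.mem_compl_iff, Set.mem_singleton_iff, MulAction.mem_orbit_iff]
    constructor
    · rintro ⟨g, rfl⟩ he
      apply hμ
      have h1 : conjFun N hNn (μ : N → ℂ) g⁻¹ = fun _ => 1 := congrArg Subtype.val he
      have h2 : conjFun N hNn (conjFun N hNn (μ : N → ℂ) g⁻¹) g = conjFun N hNn (fun _ => 1) g := by
        rw [h1]
      rw [conjFun_conjFun, inv_mul_cancel, conjFun_one] at h2
      rw [h2]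
      funext n
      rw [conjFun_apply]
    · intro hν
      have hν' : (ν : N → ℂ) ≠ fun _ => 1 := fun he => hν (Subtype.ext he)
      obtain ⟨g, hg⟩ := exists_conjFun_eq_of_constituents N hNn χ.2 μ.2 ν.2
        (h.classInner_restrict_ne_zero N hN μ hμ) (h.classInner_restrict_ne_zero N hN ν hν')
      refine ⟨g⁻¹, ?_⟩
      apply Subtype.ext
      show conjFun N hNn (μ : N → ℂ) g⁻¹⁻¹ = (ν : N → ℂ)
      rw [inv_inv, hg]
  have hcardN : Nat.card N = (Subgroup.centralizer ({c} : Set G)).index + 1 := by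
    rw [eq_suppSubgroup h N hN]; exact h.card_supp
  rw [horb, Set.ncard_compl, Set.ncard_singleton, card_irr_of_comm hcomm, hcardN]
  omega

end Inertia

section Quot

variable [Finite G]

open Cfsg.Agent.Lib.Helper3.CharQuot

/-- the irreducible characters of `G ⧸ N` are the irreducible characters of `G` other than `χ` -/
noncomputable def GData.quotEquiv {χ : IrrCharacter G} {c : G} (h : GData χ c)
    (N : Subgroup G) [hNn : N.Normal] (hN : ∀ g : G, g ∈ N ↔ (χ : G → ℂ) g ≠ 0) :
    IrrCharacter (G ⧸ N) ≃ {ψ : IrrCharacter G // ψ ≠ χ} := by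
  have : Fintype G := Fintype.ofFinite G
  refine Equiv.ofBijective
    (fun β => ⟨⟨fun g => (β : G ⧸ N → ℂ) (QuotientGroup.mk g), IsIrrCharacter.comp_mk N β.2⟩, ?_⟩)
    ⟨?_, ?_⟩
  · intro he
    have hcN : c ∈ N := (hN c).2 h.ne_zero
    have h1 : (χ : G → ℂ) c = (χ : G → ℂ) 1 := by
      rw [← he]
      show (β : G ⧸ N → ℂ) (QuotientGroup.mk c) = (β : G ⧸ N → ℂ) (QuotientGroup.mk 1)
      rw [(QuotientGroup.eq_one_iff c).2 hcN, QuotientGroup.mk_one]
    exact h.apply_ne (by rw [h1, sub_self])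
  · intro β β' he
    apply Subtype.ext
    funext q
    obtain ⟨g, rfl⟩ := QuotientGroup.mk_surjective q
    have := congrArg (fun ψ : {ψ : IrrCharacter G // ψ ≠ χ} => ((ψ : IrrCharacter G) : G → ℂ) g) he
    exact this
  · rintro ⟨ψ, hψ⟩
    have hker : ∀ n ∈ N, (ψ : G → ℂ) n = (ψ : G → ℂ) 1 := by
      intro n hn
      have hn' : n ∈ suppSubgroup χ := by rw [← eq_suppSubgroup h N hN]; exact hn
      exact (mem_suppSubgroup χ n).1 hn' ψ hψ
    obtain ⟨β, hβ, hψβ⟩ := exists_irr_quot N ψ.2 hker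
    refine ⟨⟨β, hβ⟩, ?_⟩
    apply Subtype.ext
    apply Subtype.ext
    exact hψβ.symm

theorem GData.quotEquiv_apply {χ : IrrCharacter G} {c : G} (h : GData χ c)
    (N : Subgroup G) [hNn : N.Normal] (hN : ∀ g : G, g ∈ N ↔ (χ : G → ℂ) g ≠ 0)
    (β : IrrCharacter (G ⧸ N)) (g : G) :
    (((h.quotEquiv N hN β : {ψ : IrrCharacter G // ψ ≠ χ}) : IrrCharacter G) : G → ℂ) g
      = (β : G ⧸ N → ℂ) (QuotientGroup.mk g) := rfl

/-- centralizer orders outside the support are those of the quotient -/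
theorem GData.card_centralizer_quot {χ : IrrCharacter G} {c : G} (h : GData χ c)
    (N : Subgroup G) [hNn : N.Normal] (hN : ∀ g : G, g ∈ N ↔ (χ : G → ℂ) g ≠ 0)
    {x : G} (hx : x ∉ N) :
    Nat.card (Subgroup.centralizer ({x} : Set G))
      = Nat.card (Subgroup.centralizer ({(x : G ⧸ N)} : Set (G ⧸ N))) := by
  classical
  have : Fintype G := Fintype.ofFinite G
  have : Fintype (G ⧸ N) := Fintype.ofFinite _
  have : Fintype (IrrCharacter G) := Fintype.ofFinite _
  have : Fintype (IrrCharacter (G ⧸ N)) := Fintype.ofFinite _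
  have hχx : (χ : G → ℂ) x = 0 := by
    by_contra h0
    exact hx ((hN x).2 h0)
  have h1 := (sum_irr_mul_conj x x).1 (IsConj.refl x)
  have h2 := (sum_irr_mul_conj (x : G ⧸ N) (x : G ⧸ N)).1 (IsConj.refl _)
  rw [← Finset.add_sum_erase Finset.univ _ (Finset.mem_univ χ), hχx, zero_mul, zero_add,
    Finset.sum_subtype (Finset.univ.erase χ) (p := fun ψ => ψ ≠ χ)
      (fun ψ => by simp [Finset.mem_erase])
      (fun ψ => (ψ : G → ℂ) x * (starRingEnd ℂ) ((ψ : G → ℂ) x)),
    ← Equiv.sum_comp (h.quotEquiv N hN)] at h1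
  simp only [h.quotEquiv_apply N hN] at h1
  rw [h2] at h1
  exact_mod_cast h1.symm

end Quot

end Cfsg.Agent.Lib.Helper3.Gagola
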