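import Mathlib
import Cfsg.Agent.Lib.Helper3.Gagola
import Cfsg.Agent.Lib.Helper1.PCore
import Cfsg.Agent.Lib.Helper1.FrobeniusBasic
import Cfsg.Agent.Lib.Helper1.FrobeniusCount
import Cfsg.Agent.Lib.Lead.BaerSuzuki
import Cfsg.Agent.Lib.Helper6.Invariants

/-!
# Characters nonzero on exactly two classes, part 2

The Camina property, and: if the support `N` is the whole `p`-core then `N` is a Sylow
`p`-subgroup and the group is a doubly transitive Frobenius group with kernel `N`.
-/

set_option autoImplicit false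
open Cfsg

namespace Cfsg.Agent.Lib.Helper3.Gagola

open Cfsg.Agent.Lib.Helper6 Cfsg.Agent.Lib.Lead

variable {G : Type*} [Group G] [Finite G]

/-- Camina property: outside the support, a coset of the support lies in one class -/
theorem GData.isConj_mul {χ : IrrCharacter G} {c : G} (h : GData χ c) (N : Subgroup G)
    [hNn : N.Normal] (hN : ∀ g : G, g ∈ N ↔ (χ : G → ℂ) g ≠ 0) {x n : G} (hx : x ∉ N)
    (hn : n ∈ N) : IsConj x (x * n) := by
  classical
  have : Fintype G := Fintype.ofFinite G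
  rw [isConj_iff_forall_irr]
  intro ψ
  by_cases hψ : ψ = χ
  · subst hψ
    have h1 : (ψ : G → ℂ) x = 0 := by
      by_contra h0
      exact hx ((hN x).2 h0)
    have h2 : (ψ : G → ℂ) (x * n) = 0 := by
      by_contra h0
      have h3 := (hN (x * n)).2 h0
      apply hx
      have := N.mul_mem h3 (N.inv_mem hn)
      simpa using this
    rw [h1, h2]
  · obtain ⟨β, hβ⟩ := (h.quotEquiv N hN).surjective ⟨ψ, hψ⟩
    have e1 := h.quotEquiv_apply N hN β x
    have e2 := h.quotEquiv_apply N hN β (x * n)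
    rw [hβ] at e1 e2
    rw [e1, e2]
    rw [QuotientGroup.mk_mul, (QuotientGroup.eq_one_iff n).2 hn, mul_one]

/-- centralizers of nonidentity elements of the support have Sylow order -/
theorem GData.card_centralizer_of_mem {χ : IrrCharacter G} {c : G} (h : GData χ c) {p : ℕ}
    [hp : Fact p.Prime] (N : Subgroup G) (hN : ∀ g : G, g ∈ N ↔ (χ : G → ℂ) g ≠ 0)
    (hNp : IsPGroup p N) {x : G} (hx : x ∈ N) (hx1 : x ≠ 1) :
    Nat.card (Subgroup.centralizer ({x} : Set G)) = p ^ (Nat.card G).factorization p := by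
  have hNeq := eq_suppSubgroup h N hN
  have hNp' : IsPGroup p (suppSubgroup χ) := hNeq ▸ hNp
  have hxS : x ∈ suppSubgroup χ := hNeq ▸ hx
  rw [card_centralizer_eq_of_isConj (h.isConj_of_mem hxS hx1), h.card_centralizer hNp']

theorem GData.isPGroup_centralizer_of_mem {χ : IrrCharacter G} {c : G} (h : GData χ c) {p : ℕ}
    [hp : Fact p.Prime] (N : Subgroup G) (hN : ∀ g : G, g ∈ N ↔ (χ : G → ℂ) g ≠ 0)
    (hNp : IsPGroup p N) {x : G} (hx : x ∈ N) (hx1 : x ≠ 1) :
    IsPGroup p (Subgroup.centralizer ({x} : Set G)) :=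
  IsPGroup.of_card (h.card_centralizer_of_mem N hN hNp hx hx1)

/-- the support is abelian of exponent `p` -/
theorem GData.supp_comm {χ : IrrCharacter G} {c : G} (h : GData χ c) (N : Subgroup G)
    (hN : ∀ g : G, g ∈ N ↔ (χ : G → ℂ) g ≠ 0) {a b : G} (ha : a ∈ N) (hb : b ∈ N) :
    a * b = b * a := by
  have hNeq := eq_suppSubgroup h N hN
  obtain ⟨q, hq, hcomm, -⟩ := h.exists_prime
  rw [← hNeq] at hcomm
  have := hcomm.is_comm.comm ⟨a, ha⟩ ⟨b, hb⟩
  exact congrArg Subtype.val this

theorem GData.supp_pow {χ : IrrCharacter G} {c : G} (h : GData χ c) {p : ℕ}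
    [hp : Fact p.Prime] (N : Subgroup G) (hN : ∀ g : G, g ∈ N ↔ (χ : G → ℂ) g ≠ 0)
    (hNp : IsPGroup p N) {a : G} (ha : a ∈ N) : a ^ p = 1 := by
  have hNeq := eq_suppSubgroup h N hN
  obtain ⟨q, hq, -, hexp⟩ := h.exists_prime
  rw [← hNeq] at hexp
  by_cases ha1 : a = 1
  · rw [ha1, one_pow]
  have hq' := hexp a ha
  have ho : orderOf a = q := by
    have := orderOf_dvd_of_pow_eq_one hq'
    rcases (Nat.dvd_prime hq).1 this with h1 | h1
    · exact absurd (orderOf_eq_one_iff.1 h1) ha1
    · exact h1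
  obtain ⟨k, hk⟩ := hNp ⟨a, ha⟩
  have hk' : a ^ p ^ k = 1 := by
    have := congrArg Subtype.val hk
    simpa using this
  have hdvd : q ∣ p ^ k := ho ▸ orderOf_dvd_of_pow_eq_one hk'
  have hqp : q = p := (Nat.prime_dvd_prime_iff_eq hq hp.out).1 (hq.dvd_of_dvd_pow hdvd)
  rw [← hqp]; exact hq'

/-- if the support is the `p`-core, it is self-centralizing -/
theorem GData.centralizer_le_of_pCore {χ : IrrCharacter G} {c : G} (h : GData χ c) {p : ℕ}
    [hp : Fact p.Prime] (N : Subgroup G) [hNn : N.Normal]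
    (hN : ∀ g : G, g ∈ N ↔ (χ : G → ℂ) g ≠ 0) (hNp : IsPGroup p N)
    (hcore : N = Cfsg.pCore p G) : Subgroup.centralizer (N : Set G) ≤ N := by
  have hcN : c ∈ N := (hN c).2 h.ne_zero
  have hle : Subgroup.centralizer (N : Set G) ≤ Subgroup.centralizer ({c} : Set G) :=
    Subgroup.centralizer_le (Set.singleton_subset_iff.2 hcN)
  have hp' : IsPGroup p (Subgroup.centralizer (N : Set G)) :=
    (h.isPGroup_centralizer_of_mem N hN hNp hcN h.ne_one).to_le hle
  have hnorm : (Subgroup.centralizer (N : Set G)).Normal := inferInstance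
  have := Cfsg.Agent.Lib.Helper1.le_pCore hnorm hp'
  rwa [← hcore] at this

/-- If the support has a complement then it is a Sylow subgroup. -/
theorem GData.card_centralizer_le_of_complement {χ : IrrCharacter G} {c : G} (h : GData χ c)
    (N : Subgroup G) (hN : ∀ g : G, g ∈ N ↔ (χ : G → ℂ) g ≠ 0) (C : Subgroup G)
    (hdisj : N ⊓ C = ⊥) (hcard : Nat.card N * Nat.card C = Nat.card G) :
    Nat.card (Subgroup.centralizer ({c} : Set G)) ≤ Nat.card N := by
  classical
  have : Fintype G := Fintype.ofFinite G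
  have : Fintype C := Fintype.ofFinite C
  have hNeq := eq_suppSubgroup h N hN
  obtain ⟨n, ρ, hirr, hρ⟩ := χ.2
  have h1 := classInner_restrict_one ρ C
  set k := Module.finrank ℂ (fixedSpace ρ C) with hk
  have hd : (χ : G → ℂ) 1 = (charDegree (χ : G → ℂ) : ℂ) :=
    IsCharacter.apply_one_eq_charDegree (IsIrrCharacter.isCharacter χ.2)
  set d := charDegree (χ : G → ℂ) with hd'
  have hsum : ∑ x : C, ρ.character (x : G) * (starRingEnd ℂ) (1 : ℂ) = (d : ℂ) := by
    rw [Finset.sum_eq_single (1 : C)]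
    · rw [hρ]; simp [hd]
    · intro x _ hx1
      have hxN : (x : G) ∉ N := by
        intro hxN
        apply hx1
        have : (x : G) ∈ N ⊓ C := ⟨hxN, x.2⟩
        rw [hdisj, Subgroup.mem_bot] at this
        exact Subtype.ext this
      have : (χ : G → ℂ) (x : G) = 0 := by
        by_contra h0
        exact hxN ((hN _).2 h0)
      rw [hρ, this, zero_mul]
    · intro h0; exact absurd (Finset.mem_univ _) h0
  unfold classInner at h1
  rw [hsum] at h1
  have hCpos : 0 < Nat.card C := Nat.card_pos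
  have hdk : d = Nat.card C * k := by
    have hC0 : (Nat.card C : ℂ) ≠ 0 := by exact_mod_cast hCpos.ne'
    have : (d : ℂ) = (Nat.card C : ℂ) * (k : ℂ) := by
      rw [← h1]; field_simp
    exact_mod_cast this
  have hdpos : 0 < d := IsIrrCharacter.charDegree_pos χ.2
  have hkpos : 0 < k := by
    rcases Nat.eq_zero_or_pos k with h0 | h0
    · rw [h0, mul_zero] at hdk; omega
    · exact h0
  set m := (Subgroup.centralizer ({c} : Set G)).index with hm
  have hNcard : Nat.card N = m + 1 := by rw [hNeq]; exact h.card_supp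
  have hcard2 := h.card
  have hGm : Nat.card (Subgroup.centralizer ({c} : Set G)) * m = Nat.card G :=
    Subgroup.card_mul_index _
  rw [← hd', ← hm, ← hcard, hNcard, hdk] at hcard2
  -- (|C| k)^2 (m+1) = (m+1) |C| m
  have e1 : Nat.card C * k ^ 2 = m := by
    have : (m + 1) * Nat.card C * (Nat.card C * k ^ 2) = (m + 1) * Nat.card C * m := by
      nlinarith [hcard2]
    exact Nat.eq_of_mul_eq_mul_left (by positivity) this
  have e2 : Nat.card (Subgroup.centralizer ({c} : Set G)) * k ^ 2 = m + 1 := by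
    have : Nat.card C * (Nat.card (Subgroup.centralizer ({c} : Set G)) * k ^ 2)
        = Nat.card C * (m + 1) := by
      rw [← hcard, hNcard] at hGm
      nlinarith [hGm, e1]
    exact Nat.eq_of_mul_eq_mul_left hCpos this
  rw [hNcard, ← e2]
  exact Nat.le_mul_of_pos_right _ (by positivity)

/-- a nonidentity element of order prime to `p` centralizes no nonidentity element of the support -/
theorem GData.eq_one_of_commute {χ : IrrCharacter G} {c : G} (h : GData χ c) {p : ℕ}
    [hp : Fact p.Prime] (N : Subgroup G) (hN : ∀ g : G, g ∈ N ↔ (χ : G → ℂ) g ≠ 0)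
    (hNp : IsPGroup p N) {x t : G} (hx : x ∈ N) (ht : ¬ p ∣ orderOf t) (ht1 : t ≠ 1)
    (hcomm : t * x = x * t) : x = 1 := by
  by_contra hx1
  have hP := h.isPGroup_centralizer_of_mem N hN hNp hx hx1
  have htC : t ∈ Subgroup.centralizer ({x} : Set G) :=
    Subgroup.mem_centralizer_singleton_iff.2 hcomm
  obtain ⟨k, hk⟩ := hP ⟨t, htC⟩
  have hk' : t ^ p ^ k = 1 := by
    have := congrArg Subtype.val hk
    simpa using this
  have hdvd := orderOf_dvd_of_pow_eq_one hk'
  obtain ⟨j, -, hj⟩ := (Nat.dvd_prime_pow hp.out).1 hdvd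
  rcases Nat.eq_zero_or_pos j with h0 | h0
  · rw [h0, pow_zero] at hj
    exact ht1 (orderOf_eq_one_iff.1 hj)
  · apply ht
    rw [hj]
    exact dvd_pow_self p h0.ne'

/-- for odd `p`, a self-centralizing support has a complement -/
theorem GData.exists_complement_of_odd {χ : IrrCharacter G} {c : G} (h : GData χ c) {p : ℕ}
    [hp : Fact p.Prime] (N : Subgroup G) [hNn : N.Normal]
    (hN : ∀ g : G, g ∈ N ↔ (χ : G → ℂ) g ≠ 0) (hNp : IsPGroup p N) (hp2 : p ≠ 2)
    (hcent : Subgroup.centralizer (N : Set G) ≤ N) :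
    ∃ C : Subgroup G, N ⊓ C = ⊥ ∧ Nat.card N * Nat.card C = Nat.card G := by
  classical
  have hNeq := eq_suppSubgroup h N hN
  set m := (Subgroup.centralizer ({c} : Set G)).index with hm
  have hNcard : Nat.card N = m + 1 := by rw [hNeq]; exact h.card_supp
  obtain ⟨a, ha⟩ := hNp.exists_card_eq
  have hpodd : Odd p := hp.out.odd_of_ne_two hp2
  have hNodd : Odd (Nat.card N) := by rw [ha]; exact hpodd.pow
  have hmeven : Even m := by
    rw [hNcard] at hNodd
    rcases Nat.even_or_odd m with h1 | h1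
    · exact h1
    · exact absurd (h1.add_odd odd_one) (Nat.not_even_iff_odd.2 hNodd)
  have h2G : 2 ∣ Nat.card G := by
    rw [← Subgroup.card_mul_index (Subgroup.centralizer ({c} : Set G))]
    exact Dvd.dvd.mul_left hmeven.two_dvd _
  have : Fact (Nat.Prime 2) := ⟨Nat.prime_two⟩
  obtain ⟨t, ht⟩ := exists_prime_orderOf_dvd_card' 2 h2G
  have ht1 : t ≠ 1 := by
    intro he; rw [he, orderOf_one] at ht; omega
  have ht2 : t * t = 1 := by
    have := pow_orderOf_eq_one t
    rwa [ht, pow_two] at this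
  have htinv : t⁻¹ = t := inv_eq_of_mul_eq_one_left ht2
  have htp : ¬ p ∣ orderOf t := by
    rw [ht]
    intro hd
    exact hp2 ((Nat.prime_dvd_prime_iff_eq hp.out Nat.prime_two).1 hd)
  have hfpf : N ⊓ Subgroup.centralizer {t} = ⊥ := by
    rw [eq_bot_iff]
    rintro x ⟨hxN, hxC⟩
    rw [Subgroup.mem_bot]
    have := Subgroup.mem_centralizer_singleton_iff.1 hxC
    exact h.eq_one_of_commute N hN hNp hxN htp ht1 this.symm
  obtain ⟨hinv, -⟩ := Cfsg.Agent.Lib.Helper1.fpf_involution_inverts N t ht2 hfpf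
  refine ⟨Subgroup.centralizer {t}, hfpf, ?_⟩
  have hcompl : Subgroup.IsComplement' N (Subgroup.centralizer {t}) := by
    apply Subgroup.isComplement'_of_disjoint_and_mul_eq_univ (disjoint_iff.2 hfpf)
    rw [Set.eq_univ_iff_forall]
    intro g
    -- the conjugate involution
    set t' := g * t * g⁻¹ with ht'
    have hinv' : ∀ k ∈ N, t' * k * t'⁻¹ = k⁻¹ := by
      intro k hk
      have hk' : g⁻¹ * k * g ∈ N := by
        have := hNn.conj_mem k hk g⁻¹
        rwa [inv_inv] at this
      have := hinv _ hk'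
      calc t' * k * t'⁻¹ = g * (t * (g⁻¹ * k * g) * t⁻¹) * g⁻¹ := by rw [ht']; group
        _ = g * (g⁻¹ * k * g)⁻¹ * g⁻¹ := by rw [this]
        _ = k⁻¹ := by group
    have hn0 : t * t' ∈ N := by
      apply hcent
      rw [Subgroup.mem_centralizer_iff]
      intro k hk
      have e1 := hinv' k hk
      have e2 := hinv k⁻¹ (N.inv_mem hk)
      rw [inv_inv] at e2
      -- k * (t t') = (t t') * k
      have : t * t' * k * (t * t')⁻¹ = k := by
        calc t * t' * k * (t * t')⁻¹ = t * (t' * k * t'⁻¹) * t⁻¹ := by group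
          _ = t * k⁻¹ * t⁻¹ := by rw [e1]
          _ = k := e2
      calc k * (t * t') = (t * t' * k * (t * t')⁻¹) * (t * t') := by rw [this]
        _ = t * t' * k := by group
    -- a square root
    obtain ⟨b, hb⟩ := hNodd
    set n := ((t * t')⁻¹) ^ (b + 1) with hn
    have hnN : n ∈ N := N.pow_mem (N.inv_mem hn0) _
    have hnsq : n * n = (t * t')⁻¹ := by
      have hpow : ((t * t')⁻¹) ^ (Nat.card N) = 1 := by
        have h0 := pow_card_eq_one' (G := N) (x := ⟨(t * t')⁻¹, N.inv_mem hn0⟩)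
        have h1 := congrArg Subtype.val h0
        rw [Subgroup.coe_pow, Subgroup.coe_one] at h1
        exact h1
      rw [hn, ← pow_add]
      have : b + 1 + (b + 1) = Nat.card N + 1 := by omega
      rw [this, pow_succ, hpow, one_mul]
    have hnt : n * t * n⁻¹ = t' := by
      have e2 := hinv n⁻¹ (N.inv_mem hnN)
      rw [inv_inv] at e2
      have e3 : n * t = t * n⁻¹ := by
        calc n * t = t * n⁻¹ * t⁻¹ * t := by rw [e2]
          _ = t * n⁻¹ := by group
      calc n * t * n⁻¹ = t * n⁻¹ * n⁻¹ := by rw [e3]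
        _ = t * (n * n)⁻¹ := by group
        _ = t * (t * t') := by rw [hnsq, inv_inv]
        _ = (t * t) * t' := by group
        _ = t' := by rw [ht2, one_mul]
    rw [Set.mem_mul]
    refine ⟨n, hnN, n⁻¹ * g, ?_, by group⟩
    rw [SetLike.mem_coe, Subgroup.mem_centralizer_singleton_iff]
    have e4 : n * t * n⁻¹ = g * t * g⁻¹ := hnt
    calc n⁻¹ * g * t = n⁻¹ * (g * t * g⁻¹) * g := by group
      _ = n⁻¹ * (n * t * n⁻¹) * g := by rw [e4]
      _ = t * (n⁻¹ * g) := by group
  exact hcompl.card_mul_card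

/-- in a finite group, an element mapping a subgroup into itself normalizes it -/
theorem mem_normalizer_of_conj_mem (W : Subgroup G) (x : G) (hx : ∀ z ∈ W, x * z * x⁻¹ ∈ W) :
    x ∈ Subgroup.normalizer (W : Set G) := by
  rw [Subgroup.mem_normalizer_iff]
  intro z
  refine ⟨hx z, fun hz => ?_⟩
  let f : W → W := fun z => ⟨x * z * x⁻¹, hx z z.2⟩
  have hinj : Function.Injective f := by
    intro a b hab
    have : x * (a : G) * x⁻¹ = x * (b : G) * x⁻¹ := congrArg Subtype.val hab
    apply Subtype.ext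
    simpa using this
  obtain ⟨a, ha⟩ := (Finite.injective_iff_surjective.1 hinj) ⟨x * z * x⁻¹, hz⟩
  have : x * (a : G) * x⁻¹ = x * z * x⁻¹ := congrArg Subtype.val ha
  have : (a : G) = z := by simpa using this
  rw [← this]; exact a.2

/-- the case `p = 2`: the support is a Sylow subgroup if it is the `2`-core -/
theorem GData.false_of_two {χ : IrrCharacter G} {c : G} (h : GData χ c) (N : Subgroup G)
    [hNn : N.Normal] (hN : ∀ g : G, g ∈ N ↔ (χ : G → ℂ) g ≠ 0) (hNp : IsPGroup 2 N)
    (hcore : N = Cfsg.pCore 2 G) (hcent : Subgroup.centralizer (N : Set G) ≤ N)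
    (hlt : Nat.card N < Nat.card (Subgroup.centralizer ({c} : Set G))) : False := by
  classical
  have : Fact (Nat.Prime 2) := ⟨Nat.prime_two⟩
  have hcN : c ∈ N := (hN c).2 h.ne_zero
  set P := Subgroup.centralizer ({c} : Set G) with hP
  have hP2 : IsPGroup 2 P := h.isPGroup_centralizer_of_mem N hN hNp hcN h.ne_one
  have hNP : N ≤ P := by
    intro n hn
    rw [hP, Subgroup.mem_centralizer_singleton_iff]
    exact h.supp_comm N hN hn hcN
  have hsq : ∀ a ∈ N, a * a = 1 := by
    intro a ha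
    have := h.supp_pow N hN hNp ha
    rwa [pow_two] at this
  -- Step A
  obtain ⟨y₀, hy₀P, hy₀N⟩ : ∃ y₀ ∈ P, y₀ ∉ N := by
    by_contra hno
    push Not at hno
    have : Nat.card P ≤ Nat.card N := Subgroup.card_le_of_le hno
    omega
  have hex : ∃ j : ℕ, y₀ ^ 2 ^ j ∈ N := by
    obtain ⟨k, hk⟩ := hP2 ⟨y₀, hy₀P⟩
    refine ⟨k, ?_⟩
    have h1 := congrArg Subtype.val hk
    rw [Subgroup.coe_pow, Subgroup.coe_one] at h1
    rw [show y₀ ^ 2 ^ k = 1 from h1]
    exact N.one_mem
  have hj0 : Nat.find hex ≠ 0 := by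
    intro h0
    have := Nat.find_spec hex
    rw [h0, pow_zero, pow_one] at this
    exact hy₀N this
  obtain ⟨j₁, hj₁⟩ := Nat.exists_eq_succ_of_ne_zero hj0
  set x := y₀ ^ 2 ^ j₁ with hx
  have hxN : x ∉ N := by
    intro hxN
    have := Nat.find_min' hex hxN
    omega
  have hxx : x * x ∈ N := by
    have := Nat.find_spec hex
    rw [hj₁, pow_succ, pow_mul] at this
    rwa [pow_two] at this
  have hxP : x ∈ P := P.pow_mem hy₀P _
  set X := N ⊔ Subgroup.zpowers x with hX
  have hXP : X ≤ P := sup_le hNP (Subgroup.zpowers_le.2 hxP)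
  have hX2 : IsPGroup 2 X := hP2.to_le hXP
  -- Step B
  have hex2 : ∃ g : G, ¬ IsPGroup 2 ↥(X ⊔ BaerSuzuki.cj X g) := by
    by_contra hno
    push Not at hno
    obtain ⟨M, hMn, hM2, hXM⟩ := BaerSuzuki.baer_suzuki X hno hX2
    have hM : M ≤ Cfsg.pCore 2 G := Cfsg.Agent.Lib.Helper1.le_pCore hMn hM2
    rw [← hcore] at hM
    apply hxN
    apply hM
    apply hXM
    exact (le_sup_right : Subgroup.zpowers x ≤ X) (Subgroup.mem_zpowers x)
  obtain ⟨g, hg⟩ := hex2
  set y := g * x * g⁻¹ with hy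
  set w := x * y with hw
  have hyy : y * y ∈ N := by
    have := hNn.conj_mem _ hxx g
    have e : g * (x * x) * g⁻¹ = y * y := by rw [hy]; group
    rwa [e] at this
  have hxw : x * w * x⁻¹ * w ∈ N := by
    have e : x * w * x⁻¹ * w = (x * x) * (y * y) := by rw [hw]; group
    rw [e]; exact N.mul_mem hxx hyy
  -- Step C
  have hC : ∀ j : ℕ, w ^ 2 ^ j ∉ N := by
    intro j hj
    apply hg
    have hw1 : w ^ 2 ^ (j + 1) = 1 := by
      rw [pow_succ, pow_mul, pow_two]
      exact hsq _ hj
    have hw2 : IsPGroup 2 (Subgroup.zpowers w) := by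
      have hd := orderOf_dvd_of_pow_eq_one hw1
      obtain ⟨i, -, hi⟩ := (Nat.dvd_prime_pow Nat.prime_two).1 hd
      apply IsPGroup.of_card (n := i)
      rw [Nat.card_zpowers, hi]
    set W := N ⊔ Subgroup.zpowers w with hW
    have hW2 : IsPGroup 2 W := hNp.to_sup_of_normal_left hw2
    have hwW : w ∈ W := (le_sup_right : Subgroup.zpowers w ≤ W) (Subgroup.mem_zpowers w)
    have hxnorm : x ∈ Subgroup.normalizer (W : Set G) := by
      apply mem_normalizer_of_conj_mem
      have hmap : W.map (MulAut.conj x).toMonoidHom ≤ W := by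
        rw [hW, Subgroup.map_sup, MonoidHom.map_zpowers]
        apply sup_le
        · rintro _ ⟨n, hn, rfl⟩
          apply (le_sup_left : N ≤ N ⊔ Subgroup.zpowers w)
          simp only [MulEquiv.coe_toMonoidHom, MulAut.conj_apply]
          exact hNn.conj_mem n hn x
        · rw [Subgroup.zpowers_le]
          simp only [MulEquiv.coe_toMonoidHom, MulAut.conj_apply]
          have e : x * w * x⁻¹ = (x * w * x⁻¹ * w) * w⁻¹ := by group
          rw [e]
          exact (N ⊔ Subgroup.zpowers w).mul_mem ((le_sup_left : N ≤ _) hxw)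
            ((N ⊔ Subgroup.zpowers w).inv_mem
              ((le_sup_right : Subgroup.zpowers w ≤ _) (Subgroup.mem_zpowers w)))
      intro z hz
      have := hmap (Subgroup.mem_map_of_mem _ hz)
      simpa using this
    have hx2 : IsPGroup 2 (Subgroup.zpowers x) := hP2.to_le (Subgroup.zpowers_le.2 hxP)
    have hbig : IsPGroup 2 ↥(W ⊔ Subgroup.zpowers x) :=
      hW2.to_sup_of_normal_left' hx2 (Subgroup.zpowers_le.2 hxnorm)
    apply hbig.to_le
    apply sup_le
    · exact sup_le ((le_sup_left : N ≤ W).trans le_sup_left) le_sup_right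
    · unfold BaerSuzuki.cj
      rw [hX, Subgroup.map_sup, MonoidHom.map_zpowers]
      apply sup_le
      · rintro _ ⟨n, hn, rfl⟩
        apply (le_sup_left : W ≤ W ⊔ Subgroup.zpowers x)
        apply (le_sup_left : N ≤ W)
        simp only [MulEquiv.coe_toMonoidHom, MulAut.conj_apply]
        exact hNn.conj_mem n hn g
      · rw [Subgroup.zpowers_le]
        simp only [MulEquiv.coe_toMonoidHom, MulAut.conj_apply]
        have e : g * x * g⁻¹ = x⁻¹ * w := by rw [hw, hy]; group
        rw [e]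
        exact (W ⊔ Subgroup.zpowers x).mul_mem
          ((W ⊔ Subgroup.zpowers x).inv_mem
            ((le_sup_right : Subgroup.zpowers x ≤ _) (Subgroup.mem_zpowers x)))
          ((le_sup_left : W ≤ _) hwW)
  -- Step D
  have ho0 : orderOf w ≠ 0 := (orderOf_pos w).ne'
  obtain ⟨j, m, hmodd, ho⟩ := Nat.exists_eq_two_pow_mul_odd ho0
  set h' := w ^ 2 ^ j with hh'
  have hh'N : h' ∉ N := hC j
  have hh'1 : h' ≠ 1 := fun he => hh'N (he ▸ N.one_mem)
  have hh'm : h' ^ m = 1 := by
    rw [hh', ← pow_mul, ← ho]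
    exact pow_orderOf_eq_one w
  have hh'2 : ¬ 2 ∣ orderOf h' := by
    intro hd
    have := hd.trans (orderOf_dvd_of_pow_eq_one hh'm)
    exact (Nat.not_even_iff_odd.2 hmodd) (even_iff_two_dvd.2 this)
  have hfree : ∀ a ∈ N, h' * a = a * h' → a = 1 := fun a ha hc =>
    h.eq_one_of_commute N hN hNp ha hh'2 hh'1 hc
  -- Step E
  have hn' : x * h' * x⁻¹ * h' ∈ N := by
    rw [← QuotientGroup.eq_one_iff]
    have e0 : ((x * w * x⁻¹ * w : G) : G ⧸ N) = 1 := (QuotientGroup.eq_one_iff _).2 hxw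
    simp only [QuotientGroup.mk_mul, QuotientGroup.mk_inv] at e0
    have e1 : (x : G ⧸ N) * (w : G ⧸ N) * (x : G ⧸ N)⁻¹ = (w : G ⧸ N)⁻¹ :=
      eq_inv_of_mul_eq_one_left e0
    simp only [QuotientGroup.mk_mul, QuotientGroup.mk_inv, hh', QuotientGroup.mk_pow]
    rw [← conj_pow, e1, inv_pow, inv_mul_cancel]
  set n' := x * h' * x⁻¹ * h' with hn'def
  -- Step F
  let f : N → N := fun a => ⟨h'⁻¹ * a * h' * (a : G)⁻¹,
    N.mul_mem (by
      have := hNn.conj_mem a a.2 h'⁻¹
      rwa [inv_inv] at this) (N.inv_mem a.2)⟩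
  have hfinj : Function.Injective f := by
    intro a b hab
    have e : h'⁻¹ * (a : G) * h' * (a : G)⁻¹ = h'⁻¹ * (b : G) * h' * (b : G)⁻¹ :=
      congrArg Subtype.val hab
    have e2 : h' * ((b : G)⁻¹ * a) = ((b : G)⁻¹ * a) * h' := by
      have e3 : (a : G) * h' * (a : G)⁻¹ = (b : G) * h' * (b : G)⁻¹ := by
        calc (a : G) * h' * (a : G)⁻¹ = h' * (h'⁻¹ * (a : G) * h' * (a : G)⁻¹) := by group
          _ = h' * (h'⁻¹ * (b : G) * h' * (b : G)⁻¹) := by rw [e]
          _ = (b : G) * h' * (b : G)⁻¹ := by group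
      calc h' * ((b : G)⁻¹ * a) = (b : G)⁻¹ * ((b : G) * h' * (b : G)⁻¹) * a := by group
        _ = (b : G)⁻¹ * ((a : G) * h' * (a : G)⁻¹) * a := by rw [e3]
        _ = ((b : G)⁻¹ * a) * h' := by group
    have e4 := hfree _ (N.mul_mem (N.inv_mem b.2) a.2) e2
    apply Subtype.ext
    calc (a : G) = (b : G) * ((b : G)⁻¹ * a) := by group
      _ = b := by rw [e4, mul_one]
  obtain ⟨n, hn⟩ := (Finite.injective_iff_surjective.1 hfinj) ⟨n', hn'⟩
  have hn_eq : h'⁻¹ * (n : G) * h' * (n : G)⁻¹ = n' := congrArg Subtype.val hn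
  set t := (n : G) * x with ht
  have hth : t * h' * t⁻¹ = h'⁻¹ := by
    have hc1 : (n : G) * (h'⁻¹ * (n : G) * h') = (h'⁻¹ * (n : G) * h') * (n : G) := by
      apply h.supp_comm N hN n.2
      have := hNn.conj_mem n n.2 h'⁻¹
      rwa [inv_inv] at this
    have e5 : x * h' * x⁻¹ = n' * h'⁻¹ := by rw [hn'def]; group
    calc t * h' * t⁻¹ = (n : G) * (x * h' * x⁻¹) * (n : G)⁻¹ := by rw [ht]; group
      _ = (n : G) * (n' * h'⁻¹) * (n : G)⁻¹ := by rw [e5]
      _ = (n : G) * ((h'⁻¹ * (n : G) * h' * (n : G)⁻¹) * h'⁻¹) * (n : G)⁻¹ := by rw [hn_eq]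
      _ = ((n : G) * (h'⁻¹ * (n : G) * h')) * (n : G)⁻¹ * h'⁻¹ * (n : G)⁻¹ := by group
      _ = ((h'⁻¹ * (n : G) * h') * (n : G)) * (n : G)⁻¹ * h'⁻¹ * (n : G)⁻¹ := by rw [hc1]
      _ = h'⁻¹ := by group
  -- Step G
  have httN : t * t ∈ N := by
    have e : t * t = (n : G) * (x * (n : G) * x⁻¹) * (x * x) := by rw [ht]; group
    rw [e]
    exact N.mul_mem (N.mul_mem n.2 (hNn.conj_mem n n.2 x)) hxx
  have htt : t * t = 1 := by
    apply hfree _ httN
    have e6 : t * t * h' * (t * t)⁻¹ = h' := by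
      calc t * t * h' * (t * t)⁻¹ = t * (t * h' * t⁻¹) * t⁻¹ := by group
        _ = t * h'⁻¹ * t⁻¹ := by rw [hth]
        _ = (t * h' * t⁻¹)⁻¹ := by group
        _ = h' := by rw [hth, inv_inv]
    calc h' * (t * t) = (t * t * h' * (t * t)⁻¹) * (t * t) := by rw [e6]
      _ = t * t * h' := by group
  have htN : t ∉ N := by
    intro htN
    apply hxN
    have : x = (n : G)⁻¹ * t := by rw [ht]; group
    rw [this]
    exact N.mul_mem (N.inv_mem n.2) htN
  have htinv : t⁻¹ = t := inv_eq_of_mul_eq_one_left htt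
  -- Step H
  apply htN
  apply hcent
  rw [Subgroup.mem_centralizer_iff]
  intro a ha
  obtain ⟨u, hu⟩ := isConj_iff.1 (h.isConj_mul N hN htN ha)
  have e7 : (t * a) * (t * a) = 1 := by
    rw [← hu]
    calc u * t * u⁻¹ * (u * t * u⁻¹) = u * (t * t) * u⁻¹ := by group
      _ = 1 := by rw [htt]; group
  have e8 : a⁻¹ = a := inv_eq_of_mul_eq_one_left (hsq a ha)
  -- a * t = t * a
  have e9 : t * a * t = a⁻¹ := by
    have : t * a * t * a = 1 := by rw [← e7]; group
    exact eq_inv_of_mul_eq_one_left this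
  calc a * t = a⁻¹ * t := by rw [e8]
    _ = t * a * t * t := by rw [e9]
    _ = t * a * (t * t) := by group
    _ = t * a := by rw [htt, mul_one]

/-- if the support is the `p`-core then it is a Sylow `p`-subgroup -/
theorem GData.card_centralizer_eq_of_pCore {χ : IrrCharacter G} {c : G} (h : GData χ c) {p : ℕ}
    [hp : Fact p.Prime] (N : Subgroup G) [hNn : N.Normal]
    (hN : ∀ g : G, g ∈ N ↔ (χ : G → ℂ) g ≠ 0) (hNp : IsPGroup p N)
    (hcore : N = Cfsg.pCore p G) :
    Nat.card (Subgroup.centralizer ({c} : Set G)) = Nat.card N := by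
  have hcN : c ∈ N := (hN c).2 h.ne_zero
  have hcent := h.centralizer_le_of_pCore N hN hNp hcore
  have hNP : N ≤ Subgroup.centralizer ({c} : Set G) := by
    intro n hn
    rw [Subgroup.mem_centralizer_singleton_iff]
    exact h.supp_comm N hN hn hcN
  apply le_antisymm _ (Subgroup.card_le_of_le hNP)
  by_cases hp2 : p = 2
  · subst hp2
    by_contra hlt
    push Not at hlt
    exact h.false_of_two N hN hNp hcore hcent hlt
  · obtain ⟨C, hC1, hC2⟩ := h.exists_complement_of_odd N hN hNp hp2 hcent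
    exact h.card_centralizer_le_of_complement N hN C hC1 hC2

/-- the `2`-transitive Frobenius structure -/
theorem GData.exists_frobenius_of_pCore {χ : IrrCharacter G} {c : G} (h : GData χ c)
    (hG : 2 < Nat.card G) {p : ℕ}
    [hp : Fact p.Prime] (N : Subgroup G) [hNn : N.Normal]
    (hN : ∀ g : G, g ∈ N ↔ (χ : G → ℂ) g ≠ 0) (hNp : IsPGroup p N)
    (hcore : N = Cfsg.pCore p G) :
    ∃ H : Subgroup G, Cfsg.IsFrobeniusComplement H ∧ Cfsg.frobeniusKernel H = (N : Set G) ∧
      Nat.card H + 1 = Nat.card N := by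
  classical
  have hNeq := eq_suppSubgroup h N hN
  have hcN : c ∈ N := (hN c).2 h.ne_zero
  have hPN := h.card_centralizer_eq_of_pCore N hN hNp hcore
  set m := (Subgroup.centralizer ({c} : Set G)).index with hm
  have hNcard : Nat.card N = m + 1 := by rw [hNeq]; exact h.card_supp
  have hGm : Nat.card (Subgroup.centralizer ({c} : Set G)) * m = Nat.card G :=
    Subgroup.card_mul_index _
  rw [hPN] at hGm
  have hNidx : N.index = m := by
    have := Subgroup.card_mul_index N
    rw [← hGm] at this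
    exact Nat.eq_of_mul_eq_mul_left Nat.card_pos this
  have hcop : Nat.Coprime (Nat.card N) N.index := by
    rw [hNidx, hNcard]
    simp
  obtain ⟨H, hH⟩ := Subgroup.exists_right_complement'_of_coprime hcop
  have hHcard : Nat.card H = m := by
    have := hH.card_mul_card
    rw [← hGm] at this
    exact Nat.eq_of_mul_eq_mul_left Nat.card_pos this
  have hN1 : N ≠ ⊥ := by
    intro he
    rw [he, Subgroup.mem_bot] at hcN
    exact h.ne_one hcN
  have hH1 : H ≠ ⊥ := by
    intro he
    rw [he, Subgroup.card_bot] at hHcard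
    rw [hNcard, ← hHcard] at hGm
    omega
  have hdisj : ∀ a : G, a ∈ N → a ∈ H → a = 1 := by
    intro a ha ha'
    have := Subgroup.disjoint_def.1 hH.disjoint ha ha'
    exact this
  have hcentN : ∀ a ∈ N, a ≠ 1 → Subgroup.centralizer ({a} : Set G) = N := by
    intro a ha ha1
    symm
    apply Subgroup.eq_of_le_of_card_ge
    · intro n hn
      rw [Subgroup.mem_centralizer_singleton_iff]
      exact h.supp_comm N hN hn ha
    · rw [h.card_centralizer_of_mem N hN hNp ha ha1, ← hPN,
        h.card_centralizer_of_mem N hN hNp hcN h.ne_one]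
  have hfrob : Cfsg.IsFrobeniusComplement H := by
    rw [Cfsg.Agent.Lib.Helper1.frobenius_iff_fpf N H hH hN1 hH1]
    intro h' hh' hh'1
    rw [eq_bot_iff]
    rintro a ⟨haN, haC⟩
    rw [Subgroup.mem_bot]
    by_contra ha1
    apply hh'1
    apply hdisj h' _ hh'
    rw [← hcentN a haN ha1, Subgroup.mem_centralizer_singleton_iff]
    exact (Subgroup.mem_centralizer_singleton_iff.1 haC).symm
  refine ⟨H, hfrob, ?_, by omega⟩
  symm
  apply Set.eq_of_subset_of_ncard_le
  · intro x hx
    by_cases hx1 : x = 1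
    · exact Or.inl hx1
    · refine Or.inr fun g hxg => hx1 ?_
      rw [Cfsg.Agent.Lib.Helper1.mem_conj_smul_iff] at hxg
      have hxN : g⁻¹ * x * g ∈ N := by
        have := hNn.conj_mem x hx g⁻¹
        rwa [inv_inv] at this
      have := hdisj _ hxN hxg
      calc x = g * (g⁻¹ * x * g) * g⁻¹ := by group
        _ = 1 := by rw [this]; group
  · have h1 := Cfsg.Agent.Lib.Helper1.card_frobeniusKernel hfrob
    rw [Nat.card_coe_set_eq] at h1
    rw [h1, hH.index_eq_card]
    exact (Nat.card_coe_set_eq _).symm.le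
  · exact Set.toFinite _

end Cfsg.Agent.Lib.Helper3.Gagola
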