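import Mathlib
import Cfsg.Agent.Lib.Helper3.GallagherDecomp

set_option autoImplicit false
set_option linter.unusedSectionVars false

namespace Cfsg.Agent.Lib.Helper3.GallagherDecomp

open Cfsg Cfsg.Agent.Lib.Helper6 Cfsg.Agent.Lib.Helper3.GlauCyc
open scoped ComplexConjugate

section norm

/-- the norm of the restriction to a complement-like subgroup `T` of an extension `χh` of a
fully ramified character, under a Frobenius-type action -/
theorem norm_restrict_frob {Γ : Type*} [Group Γ] [Fintype Γ] (G N T : Subgroup Γ)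
    [hG : G.Normal] [hN : N.Normal] [Fintype G] [Fintype N] [Fintype T]
    (hNG : N ≤ G) (hNT : N ≤ T) (hTN : ∀ t ∈ T, t ∈ G → t ∈ N)
    (hfrob : ∀ x : Γ, x ∉ G → ∀ g : Γ, g ∈ G → x * g * x⁻¹ * g⁻¹ ∈ N → g ∈ N)
    {χh : Γ → ℂ} (hχh : Cfsg.IsIrrCharacter Γ χh)
    (hχ : Cfsg.IsIrrCharacter G (fun g : G => χh g))
    (θ : N → ℂ) (hθ : ∑ m : N, θ m * conj (θ m) = (Nat.card N : ℂ)) (c : ℂ)
    (hχN : ∀ m : N, χh m = c * θ m) :
    ∑ t : T, χh t * conj (χh t) = (c * conj c - 1) * (Nat.card N : ℂ) + (Nat.card T : ℂ) := by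
  classical
  have hN0 : (Nat.card N : ℂ) ≠ 0 := by exact_mod_cast Nat.card_pos.ne'
  let F : Γ → ℂ := fun y => χh y * conj (χh y)
  have hF : ∀ x y : Γ, F (x * y * x⁻¹) = F y := by
    intro x y
    simp only [F]
    rw [IsIrrCharacter.isClassFunction hχh y x]
  let B : T → ℂ := fun t => ∑ m : N, F ((m : Γ) * t)
  have hB1 : ∀ t : T, (t : Γ) ∈ N → B t = c * conj c * (Nat.card N : ℂ) := by
    intro t ht
    simp only [B]
    have h1 : ∑ m : N, F ((m : Γ) * t) = ∑ m : N, F (m : Γ) := by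
      rw [← Equiv.sum_comp (Equiv.mulRight (⟨(t : Γ), ht⟩ : N)) (fun m : N => F (m : Γ))]
      apply Finset.sum_congr rfl
      intro m _
      simp only [Equiv.coe_mulRight, Subgroup.coe_mul]
    rw [h1]
    have h2 : ∀ m : N, F (m : Γ) = c * conj c * (θ m * conj (θ m)) := by
      intro m
      simp only [F]
      rw [hχN m, map_mul]
      ring
    rw [Finset.sum_congr rfl (fun m _ => h2 m), ← Finset.mul_sum, hθ]
  have hB2 : ∀ t : T, (t : Γ) ∉ N → B t = (Nat.card N : ℂ) := by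
    intro t ht
    have htG : (t : Γ) ∉ G := fun h => ht (hTN t t.2 h)
    have h1 := sum_coset_frob G N hNG (t : Γ) (hfrob t htG) F hF
    have h2 : ∑ g : G, F ((g : Γ) * t) = (Nat.card G : ℂ) := sum_coset_norm G hχh hχ t
    rw [h2] at h1
    have hG0 : (Nat.card G : ℂ) ≠ 0 := by exact_mod_cast Nat.card_pos.ne'
    have h3 : (Nat.card G : ℂ) * B t = (Nat.card G : ℂ) * (Nat.card N : ℂ) := by
      rw [mul_comm _ (Nat.card N : ℂ)]
      exact h1
    exact mul_left_cancel₀ hG0 h3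
  have hsumB : ∑ t : T, B t = (Nat.card N : ℂ) * ∑ t : T, F t := by
    simp only [B]
    rw [Finset.sum_comm]
    have h1 : ∀ m : N, ∑ t : T, F ((m : Γ) * t) = ∑ t : T, F t := by
      intro m
      rw [← Equiv.sum_comp (Equiv.mulLeft (⟨(m : Γ), hNT m.2⟩ : T)) (fun t : T => F t)]
      apply Finset.sum_congr rfl
      intro t _
      simp only [Equiv.coe_mulLeft, Subgroup.coe_mul]
    rw [Finset.sum_congr rfl (fun m _ => h1 m), Finset.sum_const, Finset.card_univ,
      ← Nat.card_eq_fintype_card, nsmul_eq_mul]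
  have hBval : ∀ t : T, B t = (Nat.card N : ℂ)
      + (c * conj c - 1) * (Nat.card N : ℂ) * (if (t : Γ) ∈ N then 1 else 0) := by
    intro t
    by_cases ht : (t : Γ) ∈ N
    · rw [if_pos ht, hB1 t ht]; ring
    · rw [if_neg ht, hB2 t ht, mul_zero, add_zero]
  have hcount : ∑ t : T, (if (t : Γ) ∈ N then (1 : ℂ) else 0) = (Nat.card N : ℂ) := by
    rw [Finset.sum_boole]
    have h1 : (Finset.univ.filter (fun t : T => (t : Γ) ∈ N)).card = Nat.card N := by
      rw [← Fintype.card_subtype, ← Nat.card_eq_fintype_card]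
      exact Nat.card_congr (Subgroup.subgroupOfEquivOfLe hNT).toEquiv
    rw [h1]
  have h5 : (Nat.card N : ℂ) * ∑ t : T, F t
      = (Nat.card N : ℂ) * ((c * conj c - 1) * (Nat.card N : ℂ) + (Nat.card T : ℂ)) := by
    rw [← hsumB, Finset.sum_congr rfl (fun t _ => hBval t), Finset.sum_add_distrib,
      Finset.sum_const, Finset.card_univ, ← Nat.card_eq_fintype_card, nsmul_eq_mul,
      ← Finset.mul_sum, hcount]
    ring
  exact mul_left_cancel₀ hN0 h5

end norm

end Cfsg.Agent.Lib.Helper3.GallagherDecomp
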