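import Mathlib
import Cfsg.Prelude.Def_Characters
import Cfsg.Agent.Lib.Helper6.GaloisPerm

set_option autoImplicit false

namespace Cfsg.Agent.Lib.Helper3.GaloisFix

open Cfsg.Agent.Lib.Helper6

/-- A self-map of `p`-power order stabilizing a finite set of size prime to `p` has a fixed
point in that set. -/
theorem exists_fixed_of_iterate {α : Type*} (p : ℕ) [hp : Fact p.Prime] (f : α → α) (n : ℕ)
    (B : Set α) [Finite B] (hf : ∀ x ∈ B, f^[p ^ n] x = x)
    (hstab : ∀ x ∈ B, f x ∈ B) (hB : ¬ p ∣ Nat.card B) : ∃ x ∈ B, f x = x := by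
  classical
  have : Fintype B := Fintype.ofFinite B
  let F : Function.End B := fun x => ⟨f x.1, hstab x.1 x.2⟩
  have hF : ∀ (m : ℕ) (x : B), ((F ^ m) x : α) = f^[m] x.1 := by
    intro m
    induction m with
    | zero => intro x; rfl
    | succ m ih =>
      intro x
      rw [pow_succ', Function.iterate_succ_apply']
      change f ((F ^ m) x : α) = _
      rw [ih]
  have hF1 : F ^ p ^ n = 1 := by
    funext x
    apply Subtype.ext
    rw [hF, hf x.1 x.2]
    rfl
  have h1 := Equiv.Perm.card_fixedPoints_modEq (p := p) hF1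
  by_contra hne
  push Not at hne
  have h2 : IsEmpty (Function.fixedPoints F) := by
    constructor
    rintro ⟨x, hx⟩
    apply hne x.1 x.2
    have := congrArg Subtype.val hx
    exact this
  rw [Fintype.card_eq_zero (α := Function.fixedPoints F), Nat.modEq_zero_iff_dvd,
    Fintype.card_eq_nat_card] at h1
  exact hB h1

variable {G : Type*} [Group G] [Fintype G]

/-- A Galois permutation (`χ ↦ χ ∘ (· ^ k)`) of `p`-power order stabilizing a set of irreducible
characters of size prime to `p` fixes one of them. -/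
theorem exists_powIrr_fixed (p : ℕ) [hp : Fact p.Prime] (k e : ℕ)
    (hk : Nat.Coprime k (Nat.card G)) (hke : k ^ (p ^ e) ≡ 1 [MOD Nat.card G])
    (B : Set (Cfsg.IrrCharacter G)) [Finite B] (hstab : ∀ χ ∈ B, powIrr k hk χ ∈ B)
    (hB : ¬ p ∣ Nat.card B) : ∃ χ ∈ B, powIrr k hk χ = χ := by
  classical
  apply exists_fixed_of_iterate p (powIrr k hk) e B _ hstab hB
  intro χ _
  apply Subtype.ext
  funext g
  rw [powIrr_iterate]
  rw [← pow_mod_natCard, hke, pow_mod_natCard, pow_one]

/-- The inner product is invariant under composing both arguments with a coprime power map. -/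
theorem classInner_comp_pow (k : ℕ) (hk : Nat.Coprime k (Nat.card G)) (f h : G → ℂ) :
    Cfsg.classInner (fun x => f (x ^ k)) (fun x => h (x ^ k)) = Cfsg.classInner f h := by
  unfold Cfsg.classInner
  congr 1
  exact Equiv.sum_comp (powCoprime hk.symm) (fun x => f x * (starRingEnd ℂ) (h x))

end Cfsg.Agent.Lib.Helper3.GaloisFix
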