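import Mathlib

set_option autoImplicit false

/-!
# Glauberman's theorem on `C_{Aut K}(S)`: unit A (Sylow helpers and the isolation lemma)

`cj h R` is the conjugate `h R h⁻¹`.  `IsMaxTwo M P` says that `P` is a maximal
2-subgroup of the subgroup `M` (i.e. a Sylow 2-subgroup of `M`).  The main result
`isolated_of_local` is an Alperin-style induction for a single central element `w`
of a Sylow 2-subgroup `T`: if `w` is fixed by the normalizers of all centric, fully
normalized subgroups of `T` containing `w`, then `w` is isolated in `T`.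
-/

namespace Cfsg.Agent.Lib.Helper3.Gl

variable {H : Type*} [Group H]

/-- the conjugate subgroup `h R h⁻¹` -/
def cj (h : H) (R : Subgroup H) : Subgroup H := R.map (MulAut.conj h).toMonoidHom

theorem mem_cj {h x : H} {R : Subgroup H} : x ∈ cj h R ↔ h⁻¹ * x * h ∈ R := by
  unfold cj
  constructor
  · rintro ⟨r, hr, rfl⟩
    have : h⁻¹ * ((MulAut.conj h).toMonoidHom r) * h = r := by
      simp [MulAut.conj_apply, mul_assoc]
    rw [this]; exact hr
  · intro hx
    refine ⟨h⁻¹ * x * h, hx, ?_⟩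
    simp [MulAut.conj_apply, mul_assoc]

theorem conj_mem_cj {h r : H} {R : Subgroup H} (hr : r ∈ R) : h * r * h⁻¹ ∈ cj h R := by
  rw [mem_cj]
  have : h⁻¹ * (h * r * h⁻¹) * h = r := by group
  rw [this]; exact hr

theorem conj_eq_symm {c x y : H} (h : c * x * c⁻¹ = y) : x = c⁻¹ * y * c := by
  rw [← h]; group

theorem cj_one (R : Subgroup H) : cj 1 R = R := by
  ext x; rw [mem_cj]; simp

theorem cj_mul (g h : H) (R : Subgroup H) : cj (g * h) R = cj g (cj h R) := by
  ext x
  rw [mem_cj, mem_cj, mem_cj]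
  have : (g * h)⁻¹ * x * (g * h) = h⁻¹ * (g⁻¹ * x * g) * h := by group
  rw [this]

theorem cj_inv_cj (h : H) (R : Subgroup H) : cj h⁻¹ (cj h R) = R := by
  rw [← cj_mul]; simp [cj_one]

theorem cj_cj_inv (h : H) (R : Subgroup H) : cj h (cj h⁻¹ R) = R := by
  rw [← cj_mul]; simp [cj_one]

theorem cj_mono {h : H} {R Q : Subgroup H} (hRQ : R ≤ Q) : cj h R ≤ cj h Q :=
  Subgroup.map_mono hRQ

theorem cj_le_iff {h : H} {R Q : Subgroup H} : cj h R ≤ Q ↔ ∀ r ∈ R, h * r * h⁻¹ ∈ Q := by
  constructor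
  · intro hle r hr; exact hle (conj_mem_cj hr)
  · intro hall x hx
    rw [mem_cj] at hx
    have := hall _ hx
    have e : h * (h⁻¹ * x * h) * h⁻¹ = x := by group
    rwa [e] at this

theorem card_cj (h : H) (R : Subgroup H) : Nat.card (cj h R) = Nat.card R := by
  unfold cj
  exact Nat.card_congr (R.equivMapOfInjective _ (MulAut.conj h).injective).symm.toEquiv

theorem isPGroup_cj {p : ℕ} {h : H} {R : Subgroup H} (hR : IsPGroup p R) : IsPGroup p (cj h R) :=
  hR.map _

theorem cj_normalizer (h : H) (R : Subgroup H) :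
    cj h (Subgroup.normalizer (R : Set H)) = Subgroup.normalizer ((cj h R : Subgroup H) : Set H) := by
  ext x
  rw [mem_cj, Subgroup.mem_normalizer_iff, Subgroup.mem_normalizer_iff]
  constructor
  · intro hx y
    rw [mem_cj, mem_cj]
    have := hx (h⁻¹ * y * h)
    have e : h⁻¹ * (x * y * x⁻¹) * h = h⁻¹ * x * h * (h⁻¹ * y * h) * (h⁻¹ * x * h)⁻¹ := by group
    rw [e]; exact this
  · intro hx y
    have := hx (h * y * h⁻¹)
    rw [mem_cj, mem_cj] at this
    have e1 : h⁻¹ * (h * y * h⁻¹) * h = y := by group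
    have e2 : h⁻¹ * (x * (h * y * h⁻¹) * x⁻¹) * h = h⁻¹ * x * h * y * (h⁻¹ * x * h)⁻¹ := by group
    rw [e1, e2] at this
    exact this

theorem cj_centralizer (h : H) (R : Subgroup H) :
    cj h (Subgroup.centralizer (R : Set H)) = Subgroup.centralizer ((cj h R : Subgroup H) : Set H) := by
  ext x
  rw [mem_cj, Subgroup.mem_centralizer_iff, Subgroup.mem_centralizer_iff]
  constructor
  · intro hx y hy
    have hy' : h⁻¹ * y * h ∈ R := mem_cj.mp hy
    have := hx _ hy'
    have e : y * x = h * ((h⁻¹ * y * h) * (h⁻¹ * x * h)) * h⁻¹ := by group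
    rw [e, this]; group
  · intro hx y hy
    have := hx _ (conj_mem_cj (h := h) hy)
    have e : y * (h⁻¹ * x * h) = h⁻¹ * ((h * y * h⁻¹) * x) * h := by group
    rw [e, this]; group

theorem mem_normalizer_of_cj_eq {n : H} {F : Subgroup H} (h : cj n F = F) :
    n ∈ Subgroup.normalizer (F : Set H) := by
  rw [Subgroup.mem_normalizer_iff]
  intro y
  constructor
  · intro hy; rw [← h]; exact conj_mem_cj hy
  · intro hy
    rw [← h, mem_cj] at hy
    have e : n⁻¹ * (n * y * n⁻¹) * n = y := by group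
    rwa [e] at hy

theorem cj_eq_of_mem_normalizer {n : H} {F : Subgroup H}
    (h : n ∈ Subgroup.normalizer (F : Set H)) : cj n F = F := by
  ext x
  rw [mem_cj]
  have hn : n⁻¹ ∈ Subgroup.normalizer (F : Set H) := inv_mem h
  rw [Subgroup.mem_normalizer_iff] at hn
  have := hn x
  rw [inv_inv] at this
  exact this.symm

/-- `P` is a maximal 2-subgroup of `M` -/
def IsMaxTwo (M P : Subgroup H) : Prop :=
  IsPGroup 2 P ∧ P ≤ M ∧ ∀ Q : Subgroup H, IsPGroup 2 Q → Q ≤ M → P ≤ Q → Q ≤ P

theorem isMaxTwo_sylow [Finite H] (T : Sylow 2 H) : IsMaxTwo ⊤ (T : Subgroup H) :=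
  ⟨T.isPGroup', le_top, fun Q hQ _ hTQ => (T.is_maximal' hQ hTQ).le⟩

section sylowSub
variable [Finite H]

/-- every 2-subgroup of `M` lies in a maximal one -/
theorem exists_isMaxTwo_ge {M E : Subgroup H} (hE : IsPGroup 2 E) (hEM : E ≤ M) :
    ∃ P : Subgroup H, IsMaxTwo M P ∧ E ≤ P := by
  have : Fact (Nat.Prime 2) := ⟨Nat.prime_two⟩
  have hE' : IsPGroup 2 (E.subgroupOf M) := hE.comap_subtype
  obtain ⟨Q, hQ⟩ := hE'.exists_le_sylow
  refine ⟨(Q : Subgroup M).map M.subtype, ⟨Q.isPGroup'.map _, ?_, ?_⟩, ?_⟩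
  · exact Subgroup.map_subtype_le _
  · intro Q' hQ' hQ'M hle
    have h1 : (Q : Subgroup M) ≤ Q'.subgroupOf M := by
      intro x hx
      rw [Subgroup.mem_subgroupOf]
      exact hle ⟨x, hx, rfl⟩
    have h2 := Q.is_maximal' (hQ'.comap_subtype) h1
    intro x hx
    have hxM : x ∈ M := hQ'M hx
    have hx' : (⟨x, hxM⟩ : M) ∈ Q'.subgroupOf M := by
      rw [Subgroup.mem_subgroupOf]; exact hx
    rw [show Q'.subgroupOf M = (Q : Subgroup M) from h2] at hx'
    exact ⟨⟨x, hxM⟩, hx', rfl⟩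
  · intro x hx
    exact ⟨⟨x, hEM hx⟩, hQ (by rw [Subgroup.mem_subgroupOf]; exact hx), rfl⟩

/-- Sylow conjugacy inside a subgroup `M` -/
theorem exists_conj_le_of_isMaxTwo {M P E : Subgroup H} (hP : IsMaxTwo M P)
    (hE : IsPGroup 2 E) (hEM : E ≤ M) : ∃ m ∈ M, ∀ e ∈ E, m * e * m⁻¹ ∈ P := by
  have : Fact (Nat.Prime 2) := ⟨Nat.prime_two⟩
  obtain ⟨hP2, hPM, hPmax⟩ := hP
  have hP' : IsPGroup 2 (P.subgroupOf M) := hP2.comap_subtype
  obtain ⟨Q0, hQ0⟩ := hP'.exists_le_sylow
  have hQ0P : (Q0 : Subgroup M).map M.subtype ≤ P := by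
    apply hPmax _ (Q0.isPGroup'.map _) (Subgroup.map_subtype_le _)
    intro x hx
    exact ⟨⟨x, hPM hx⟩, hQ0 (by rw [Subgroup.mem_subgroupOf]; exact hx), rfl⟩
  have hE' : IsPGroup 2 (E.subgroupOf M) := hE.comap_subtype
  obtain ⟨Q1, hQ1⟩ := hE'.exists_le_sylow
  obtain ⟨m, hm⟩ := MulAction.exists_smul_eq M Q1 Q0
  refine ⟨m, m.2, ?_⟩
  intro e he
  have he1 : (⟨e, hEM he⟩ : M) ∈ (Q1 : Subgroup M) :=
    hQ1 (by rw [Subgroup.mem_subgroupOf]; exact he)
  have he2 : m * ⟨e, hEM he⟩ * m⁻¹ ∈ (Q0 : Subgroup M) := by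
    rw [← hm, Sylow.coe_subgroup_smul]
    rw [Subgroup.mem_pointwise_smul_iff_inv_smul_mem]
    simp only [MulAut.smul_def, MulAut.conj_inv_apply]
    have e' : m⁻¹ * (m * ⟨e, hEM he⟩ * m⁻¹) * m = ⟨e, hEM he⟩ := by group
    rw [e']; exact he1
  exact hQ0P ⟨_, he2, rfl⟩

/-- a maximal 2-subgroup meets a normal subgroup in a maximal 2-subgroup -/
theorem isMaxTwo_inf_of_normal {N P M : Subgroup H} (hP : IsMaxTwo N P) (hMN : M ≤ N)
    (hnorm : N ≤ Subgroup.normalizer (M : Set H)) : IsMaxTwo M (P ⊓ M) := by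
  refine ⟨hP.1.to_le inf_le_left, inf_le_right, ?_⟩
  intro Q hQ hQM hle
  obtain ⟨QM, hQMmax, hQQM⟩ := exists_isMaxTwo_ge hQ hQM
  obtain ⟨n, hnN, hn⟩ := exists_conj_le_of_isMaxTwo hP hQMmax.1 (hQMmax.2.1.trans hMN)
  have h1 : cj n QM ≤ P ⊓ M := by
    rw [cj_le_iff]
    intro r hr
    refine ⟨hn r hr, ?_⟩
    have hnM := hnorm hnN
    rw [Subgroup.mem_normalizer_iff] at hnM
    exact (hnM r).mp (hQMmax.2.1 hr)
  have h2 : cj n QM ≤ QM := h1.trans (hle.trans hQQM)
  have h3 : cj n QM = QM :=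
    Subgroup.eq_of_le_of_card_ge h2 (card_cj n QM).ge
  intro x hx
  have : x ∈ cj n QM := by rw [h3]; exact hQQM hx
  exact h1 this

end sylowSub


section main
variable [Finite H]

theorem isMaxTwo_cj {M P : Subgroup H} (a : H) (h : IsMaxTwo M P) :
    IsMaxTwo (cj a M) (cj a P) := by
  refine ⟨isPGroup_cj h.1, cj_mono h.2.1, ?_⟩
  intro Q hQ hQM hle
  have h1 : cj a⁻¹ Q ≤ M := by
    have := cj_mono (h := a⁻¹) hQM
    rwa [cj_inv_cj] at this
  have h2 : P ≤ cj a⁻¹ Q := by
    have := cj_mono (h := a⁻¹) hle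
    rwa [cj_inv_cj] at this
  have h3 := h.2.2 _ (isPGroup_cj hQ) h1 h2
  have := cj_mono (h := a) h3
  rwa [cj_cj_inv] at this

/-- `F` is fully normalized in `T` -/
def FN (T F : Subgroup H) : Prop :=
  IsMaxTwo (Subgroup.normalizer (F : Set H)) (T ⊓ Subgroup.normalizer (F : Set H))

theorem exists_FN_conj (T : Sylow 2 H) {R : Subgroup H} (hRT : R ≤ (T : Subgroup H)) :
    ∃ a : H, FN (T : Subgroup H) (cj a R) ∧ cj a R ≤ (T : Subgroup H) ∧
      ∀ y ∈ (T : Subgroup H), y ∈ Subgroup.normalizer (R : Set H) → a * y * a⁻¹ ∈ (T : Subgroup H) := by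
  set N := Subgroup.normalizer (R : Set H) with hN
  have hNT : IsPGroup 2 ((T : Subgroup H) ⊓ N : Subgroup H) := T.isPGroup'.to_le inf_le_left
  obtain ⟨P, hPmax, hle⟩ := exists_isMaxTwo_ge hNT inf_le_right
  obtain ⟨a, -, ha⟩ := exists_conj_le_of_isMaxTwo (isMaxTwo_sylow T) hPmax.1 le_top
  have hRP : R ≤ P := fun r hr => hle ⟨hRT hr, Subgroup.le_normalizer hr⟩
  refine ⟨a, ?_, ?_, ?_⟩
  · unfold FN
    rw [← cj_normalizer]
    have h1 : IsMaxTwo (cj a N) (cj a P) := isMaxTwo_cj a hPmax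
    have h2 : cj a P ≤ (T : Subgroup H) ⊓ cj a N := by
      refine le_inf ?_ (cj_mono hPmax.2.1)
      rw [cj_le_iff]; exact ha
    have h3 : (T : Subgroup H) ⊓ cj a N ≤ cj a P :=
      h1.2.2 _ (T.isPGroup'.to_le inf_le_left) inf_le_right h2
    rw [le_antisymm h3 h2]
    exact h1
  · rw [cj_le_iff]; intro r hr; exact ha r (hRP hr)
  · intro y hyT hyN; exact ha y (hle ⟨hyT, hyN⟩)

theorem exists_transport {T : Sylow 2 H} {F R₁ : Subgroup H} (hF : FN (T : Subgroup H) F) (x : H)
    (hx : cj x R₁ = F) :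
    ∃ b : H, cj b R₁ = F ∧
      ∀ y ∈ (T : Subgroup H), y ∈ Subgroup.normalizer (R₁ : Set H) → b * y * b⁻¹ ∈ (T : Subgroup H) := by
  set E := cj x ((T : Subgroup H) ⊓ Subgroup.normalizer (R₁ : Set H)) with hE
  have hE2 : IsPGroup 2 E := isPGroup_cj (T.isPGroup'.to_le inf_le_left)
  have hEN : E ≤ Subgroup.normalizer (F : Set H) := by
    rw [← hx, ← cj_normalizer]
    exact cj_mono inf_le_right
  obtain ⟨n, hnN, hn⟩ := exists_conj_le_of_isMaxTwo hF hE2 hEN
  refine ⟨n * x, ?_, ?_⟩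
  · rw [cj_mul, hx]; exact cj_eq_of_mem_normalizer hnN
  · intro y hyT hyN
    have h1 : x * y * x⁻¹ ∈ E := conj_mem_cj ⟨hyT, hyN⟩
    have h2 := (hn _ h1).1
    have e : n * x * y * (n * x)⁻¹ = n * (x * y * x⁻¹) * n⁻¹ := by group
    rw [e]; exact h2

theorem exists_mem_normalizer_not_mem' {T : Subgroup H} (hT : IsPGroup 2 T) {R : Subgroup H}
    (hRT : R ≤ T) (hne : R ≠ T) :
    ∃ y ∈ T, y ∈ Subgroup.normalizer (R : Set H) ∧ y ∉ R := by
  have : Fact (Nat.Prime 2) := ⟨Nat.prime_two⟩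
  have hnil : Group.IsNilpotent T := hT.isNilpotent
  have hnc : NormalizerCondition T := Group.normalizerCondition_of_isNilpotent
  have hlt : R.subgroupOf T < ⊤ := by
    rw [lt_top_iff_ne_top]
    intro h
    rw [Subgroup.subgroupOf_eq_top] at h
    exact hne (le_antisymm hRT h)
  have h1 := hnc _ hlt
  obtain ⟨g, hgN, hgP⟩ := SetLike.exists_of_lt h1
  rw [← Subgroup.subgroupOf_normalizer_eq hRT] at hgN
  exact ⟨g, g.2, hgN, hgP⟩

theorem exists_mem_normalizer_not_mem (T : Sylow 2 H) {R : Subgroup H} (hRT : R ≤ (T : Subgroup H))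
    (hne : R ≠ (T : Subgroup H)) :
    ∃ y ∈ (T : Subgroup H), y ∈ Subgroup.normalizer (R : Set H) ∧ y ∉ R :=
  exists_mem_normalizer_not_mem' T.isPGroup' hRT hne

theorem card_lt_of_le_of_not_mem {R Q : Subgroup H} (hRQ : R ≤ Q) {y : H} (hyQ : y ∈ Q)
    (hyR : y ∉ R) : Nat.card R < Nat.card Q := by
  by_contra hcon
  push_neg at hcon
  have := Subgroup.eq_of_le_of_card_ge hRQ hcon
  exact hyR (this ▸ hyQ)

theorem mem_normalizer_of_commute {w : H} {R : Subgroup H} (h : ∀ r ∈ R, r * w = w * r) :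
    w ∈ Subgroup.normalizer (R : Set H) := by
  apply mem_normalizer_of_cj_eq
  ext x
  rw [mem_cj]
  constructor
  · intro hx
    have := h _ hx
    have e : x = w * (w⁻¹ * x * w) * w⁻¹ := by group
    rw [e, ← this]
    have e2 : w⁻¹ * x * w * w * w⁻¹ = w⁻¹ * x * w := by group
    rw [e2]; exact hx
  · intro hx
    have := h _ hx
    have e : w⁻¹ * x * w = w⁻¹ * (x * w) := by group
    rw [e, this]
    have e2 : w⁻¹ * (w * x) = x := by group
    rw [e2]; exact hx

/-- **Isolation lemma.**  A central element `w` of the Sylow 2-subgroup `T` that is fixed by the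
normalizers of all centric fully normalized subgroups of `T` containing it is isolated in `T`. -/
theorem isolated_of_local (T : Sylow 2 H) (w : H) (hwT : w ∈ (T : Subgroup H))
    (hwZ : ∀ t ∈ (T : Subgroup H), t * w = w * t)
    (hloc : ∀ F : Subgroup H, F ≤ (T : Subgroup H) → w ∈ F →
      (∀ t ∈ (T : Subgroup H), (∀ f ∈ F, t * f = f * t) → t ∈ F) →
      FN (T : Subgroup H) F → ∀ n ∈ Subgroup.normalizer (F : Set H), n * w * n⁻¹ = w) :
    ∀ h : H, h * w * h⁻¹ ∈ (T : Subgroup H) → h * w * h⁻¹ = w := by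
  have key : ∀ (d : ℕ) (R : Subgroup H), R ≤ (T : Subgroup H) → w ∈ R →
      Nat.card (T : Subgroup H) - Nat.card R = d →
      ∀ h : H, cj h R ≤ (T : Subgroup H) → h * w * h⁻¹ = w := by
    intro d
    induction d using Nat.strong_induction_on with
    | _ d IH =>
    intro R hRT hwR hd h hh
    -- the induction hypothesis in usable form
    have IH' : ∀ Q : Subgroup H, Q ≤ (T : Subgroup H) → w ∈ Q → Nat.card R < Nat.card Q →
        ∀ g : H, cj g Q ≤ (T : Subgroup H) → g * w * g⁻¹ = w := by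
      intro Q hQT hwQ hlt g hg
      have hQle : Nat.card Q ≤ Nat.card (T : Subgroup H) := Subgroup.card_le_of_le hQT
      exact IH (Nat.card (T : Subgroup H) - Nat.card Q) (by omega) Q hQT hwQ rfl g hg
    -- fixed by the normalizer of a fully normalized subgroup of the same order
    have step4 : ∀ F : Subgroup H, F ≤ (T : Subgroup H) → w ∈ F → FN (T : Subgroup H) F →
        Nat.card F = Nat.card R → ∀ n ∈ Subgroup.normalizer (F : Set H), n * w * n⁻¹ = w := by
      intro F hFT hwF hFN hcard n hn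
      by_cases hcen : ∀ t ∈ (T : Subgroup H), (∀ f ∈ F, t * f = f * t) → t ∈ F
      · exact hloc F hFT hwF hcen hFN n hn
      · push_neg at hcen
        obtain ⟨t, htT, htF, htnF⟩ := hcen
        set C := Subgroup.centralizer (F : Set H) with hC
        have hCN : C ≤ Subgroup.normalizer (F : Set H) := Subgroup.centralizer_le_normalizer _
        have hnormC : Subgroup.normalizer (F : Set H) ≤ Subgroup.normalizer (C : Set H) := by
          intro m hm
          apply mem_normalizer_of_cj_eq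
          rw [hC, cj_centralizer, cj_eq_of_mem_normalizer hm]
        have hmaxC := isMaxTwo_inf_of_normal hFN hCN hnormC
        set CT := (T : Subgroup H) ⊓ C with hCT
        have hE2 : IsPGroup 2 (cj n CT) := isPGroup_cj (T.isPGroup'.to_le inf_le_left)
        have hEC : cj n CT ≤ C := by
          have h1 : cj n CT ≤ cj n C := cj_mono inf_le_right
          rwa [cj_eq_of_mem_normalizer (hnormC hn)] at h1
        obtain ⟨c, hcC, hc⟩ := exists_conj_le_of_isMaxTwo hmaxC hE2 hEC
        have htC : t ∈ C := by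
          rw [hC, Subgroup.mem_centralizer_iff]
          intro f hf; exact (htF f hf).symm
        set Q := F ⊔ CT with hQ
        have hQT : Q ≤ (T : Subgroup H) := sup_le hFT inf_le_left
        have hlt : Nat.card R < Nat.card Q := by
          rw [← hcard]
          exact card_lt_of_le_of_not_mem le_sup_left
            ((le_sup_right : CT ≤ Q) ⟨htT, htC⟩) htnF
        have hcomm : ∀ f ∈ F, c * f * c⁻¹ = f := by
          intro f hf
          rw [hC, Subgroup.mem_centralizer_iff] at hcC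
          have := hcC f hf
          rw [← this]; group
        have hQcn : cj (c * n) Q ≤ (T : Subgroup H) := by
          rw [cj_le_iff]
          have hsub : Q ≤ cj (c * n)⁻¹ (T : Subgroup H) := by
            rw [hQ]
            apply sup_le
            · intro f hf
              rw [mem_cj, inv_inv]
              have h1 : n * f * n⁻¹ ∈ F := by
                rw [Subgroup.mem_normalizer_iff] at hn
                exact (hn f).mp hf
              have e : c * n * f * (c * n)⁻¹ = c * (n * f * n⁻¹) * c⁻¹ := by group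
              rw [e, hcomm _ h1]
              exact hFT h1
            · intro x hx
              rw [mem_cj, inv_inv]
              have h1 : n * x * n⁻¹ ∈ cj n CT := conj_mem_cj hx
              have e : c * n * x * (c * n)⁻¹ = c * (n * x * n⁻¹) * c⁻¹ := by group
              rw [e]
              exact (hc _ h1).1.1
          intro q hq
          have := hsub hq
          rwa [mem_cj, inv_inv] at this
        have h5 := IH' Q hQT (le_sup_left (a := F) hwF) hlt (c * n) hQcn
        have e : c * n * w * (c * n)⁻¹ = c * (n * w * n⁻¹) * c⁻¹ := by group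
        rw [e] at h5
        have h6 : n * w * n⁻¹ = c⁻¹ * w * c := conj_eq_symm h5
        rw [h6]
        exact (conj_eq_symm (hcomm w hwF)).symm
    by_cases hRT' : R = (T : Subgroup H)
    · -- `h` normalizes `T`
      subst hRT'
      have heq : cj h (T : Subgroup H) = (T : Subgroup H) :=
        Subgroup.eq_of_le_of_card_ge hh (card_cj h _).ge
      have hFNT : FN (T : Subgroup H) (T : Subgroup H) := by
        unfold FN
        rw [inf_eq_left.mpr Subgroup.le_normalizer]
        exact ⟨T.isPGroup', Subgroup.le_normalizer,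
          fun Q hQ _ hle => (T.is_maximal' hQ hle).le⟩
      exact hloc _ le_rfl hwT (fun t ht _ => ht) hFNT h (mem_normalizer_of_cj_eq heq)
    · obtain ⟨a, hFNa, haT, ha⟩ := exists_FN_conj T hRT
      set F := cj a R with hF
      -- the normalizer of `R` in `T` is bigger than `R`
      obtain ⟨y, hyT, hyN, hyR⟩ := exists_mem_normalizer_not_mem T hRT hRT'
      set Q := (T : Subgroup H) ⊓ Subgroup.normalizer (R : Set H) with hQ
      have hRQ : R ≤ Q := le_inf hRT Subgroup.le_normalizer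
      have hwQ : w ∈ Q := hRQ hwR
      have hltQ : Nat.card R < Nat.card Q := card_lt_of_le_of_not_mem hRQ ⟨hyT, hyN⟩ hyR
      have haw : a * w * a⁻¹ = w :=
        IH' Q inf_le_left hwQ hltQ a (by rw [cj_le_iff]; intro q hq; exact ha q hq.1 hq.2)
      have hwF : w ∈ F := by
        have := conj_mem_cj (h := a) hwR
        rwa [haw] at this
      -- the same for `cj h R`
      set R₁ := cj h R with hR₁
      have hcardR₁ : Nat.card R₁ = Nat.card R := card_cj h R
      have hR₁ne : R₁ ≠ (T : Subgroup H) := by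
        intro heq
        apply hRT'
        apply Subgroup.eq_of_le_of_card_ge hRT
        rw [← hcardR₁, heq]
      obtain ⟨b, hbF, hb⟩ := exists_transport (R₁ := R₁) hFNa (a * h⁻¹)
        (by rw [hR₁, cj_mul, cj_inv_cj])
      obtain ⟨y₁, hy₁T, hy₁N, hy₁R⟩ := exists_mem_normalizer_not_mem T hh hR₁ne
      set Q₁ := (T : Subgroup H) ⊓ Subgroup.normalizer (R₁ : Set H) with hQ₁
      have hR₁Q₁ : R₁ ≤ Q₁ := le_inf hh Subgroup.le_normalizer
      have hwQ₁ : w ∈ Q₁ :=
        ⟨hwT, mem_normalizer_of_commute (fun r hr => hwZ r (hh hr))⟩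
      have hltQ₁ : Nat.card R < Nat.card Q₁ := by
        rw [← hcardR₁]
        exact card_lt_of_le_of_not_mem hR₁Q₁ ⟨hy₁T, hy₁N⟩ hy₁R
      have hbw : b * w * b⁻¹ = w :=
        IH' Q₁ inf_le_left hwQ₁ hltQ₁ b (by rw [cj_le_iff]; intro q hq; exact hb q hq.1 hq.2)
      have hnF : cj (b * h * a⁻¹) F = F := by
        rw [cj_mul, hF, cj_inv_cj, cj_mul]
        exact hbF
      have hn := step4 F haT hwF hFNa (card_cj a R) _ (mem_normalizer_of_cj_eq hnF)
      have e : h * w * h⁻¹ = b⁻¹ * (b * h * a⁻¹ * (a * w * a⁻¹) * (b * h * a⁻¹)⁻¹) * b := by group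
      rw [e, haw, hn]
      exact (conj_eq_symm hbw).symm
  intro h hh
  set R := Subgroup.zpowers w with hR
  have hRT : R ≤ (T : Subgroup H) := by
    rw [hR, Subgroup.zpowers_le]; exact hwT
  have hcj : cj h R ≤ (T : Subgroup H) := by
    rw [cj_le_iff]
    intro r hr
    obtain ⟨k, rfl⟩ := Subgroup.mem_zpowers_iff.mp hr
    have e : h * w ^ k * h⁻¹ = (h * w * h⁻¹) ^ k := by
      rw [← MulAut.conj_apply, ← MulAut.conj_apply, map_zpow]
    rw [e]
    exact zpow_mem hh k
  exact key _ R hRT (Subgroup.mem_zpowers w) rfl h hcj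

end main

end Cfsg.Agent.Lib.Helper3.Gl
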