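import Mathlib
import Cfsg.Agent.Lib.Helper3.GlA
import Cfsg.Agent.Lib.Helper3.ZStarTwo

set_option autoImplicit false

/-!
# Glauberman's theorem on `C_{Aut K}(S)`: unit B (internal form)

`G = K⟨w⟩` with `K` normal, `O(K) = 1`, `T` a Sylow 2-subgroup of `G` containing `w`, `w`
centralizing `T ∩ K`.  If `w` satisfies the local hypothesis `hyp` on all `K`-centric subgroups
of `T ∩ K`, then `w` centralizes `K`.
-/

namespace Cfsg.Agent.Lib.Helper3.Gl

universe u

variable {G : Type u} [Group G]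

theorem isPGroup_zpowers_of_pow_eq_one {y : G} {j : ℕ} (hy : y ^ (2 ^ j) = 1) :
    IsPGroup 2 (Subgroup.zpowers y) := by
  intro x
  obtain ⟨i, hi⟩ := Subgroup.mem_zpowers_iff.mp x.2
  refine ⟨j, ?_⟩
  apply Subtype.ext
  rw [Subgroup.coe_pow, ← hi, Subgroup.coe_one, ← zpow_natCast, ← zpow_mul, mul_comm, zpow_mul,
    zpow_natCast, hy, one_zpow]

theorem centralizes_of_hyp [Finite G] (K : Subgroup G) [hKn : K.Normal]
    (hO : ∀ N : Subgroup G, N ≤ K → (∀ k ∈ K, ∀ x ∈ N, k * x * k⁻¹ ∈ N) →
      Odd (Nat.card N) → N = ⊥)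
    (w : G) (hG : ∀ g : G, ∃ i : ℤ, g * w ^ i ∈ K)
    (T : Sylow 2 G) (hwT : w ∈ (T : Subgroup G))
    (hwS : ∀ s ∈ (T : Subgroup G), s ∈ K → w * s = s * w)
    (hyp : ∀ D : Subgroup G, D ≤ (T : Subgroup G) ⊓ K →
      (∀ y ∈ K, y ∈ Subgroup.centralizer (D : Set G) → (∃ j : ℕ, y ^ (2 ^ j) = 1) → y ∈ D) →
      ∀ k ∈ K, k ∈ Subgroup.normalizer (D : Set G) →
        k⁻¹ * (w * k * w⁻¹) ∈ (T : Subgroup G) → k⁻¹ * (w * k * w⁻¹) = 1) :
    ∀ k ∈ K, w * k * w⁻¹ = k := by
  have : Fact (Nat.Prime 2) := ⟨Nat.prime_two⟩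
  -- `w` is central in `T`
  have hwZ : ∀ t ∈ (T : Subgroup G), t * w = w * t := by
    intro t ht
    obtain ⟨i, hi⟩ := hG t
    have hs : t * w ^ i ∈ (T : Subgroup G) := mul_mem ht (zpow_mem hwT i)
    have h1 := hwS _ hs hi
    have h2 : w * t * w ^ i = t * w * w ^ i := by
      calc w * t * w ^ i = w * (t * w ^ i) := by group
        _ = t * w ^ i * w := h1
        _ = t * (w ^ i * w) := by group
        _ = t * (w * w ^ i) := by rw [(Commute.zpow_self w i).eq]
        _ = t * w * w ^ i := by group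
    exact (mul_right_cancel h2).symm
  -- the local condition
  have hloc : ∀ F : Subgroup G, F ≤ (T : Subgroup G) → w ∈ F →
      (∀ t ∈ (T : Subgroup G), (∀ f ∈ F, t * f = f * t) → t ∈ F) →
      FN (T : Subgroup G) F → ∀ n ∈ Subgroup.normalizer (F : Set G), n * w * n⁻¹ = w := by
    intro F hFT hwF hcen hFN n hn
    set F₀ := F ⊓ K with hF₀
    have hF₀T : F₀ ≤ (T : Subgroup G) ⊓ K := inf_le_inf_right K hFT
    -- `N(F) ≤ N(F₀)`
    have hNF₀ : ∀ g ∈ Subgroup.normalizer (F : Set G), g ∈ Subgroup.normalizer (F₀ : Set G) := by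
      intro g hg
      rw [Subgroup.mem_normalizer_iff] at hg ⊢
      intro y
      rw [hF₀, Subgroup.mem_inf, Subgroup.mem_inf, hg y]
      constructor
      · rintro ⟨h1, h2⟩; exact ⟨h1, hKn.conj_mem y h2 g⟩
      · rintro ⟨h1, h2⟩
        refine ⟨h1, ?_⟩
        have := hKn.conj_mem _ h2 g⁻¹
        have e : g⁻¹ * (g * y * g⁻¹) * g⁻¹⁻¹ = y := by group
        rwa [e] at this
    -- `w` centralizes `F₀`
    have hwF₀ : ∀ f ∈ F₀, w * f = f * w := fun f hf => hwS f (hFT hf.1) hf.2
    -- `F = F₀ ⊔ ⟨w⟩`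
    have hFsup : F ≤ F₀ ⊔ Subgroup.zpowers w := by
      intro f hf
      obtain ⟨i, hi⟩ := hG f
      have h1 : f * w ^ i ∈ F₀ := ⟨mul_mem hf (zpow_mem hwF i), hi⟩
      have e : f = (f * w ^ i) * (w ^ i)⁻¹ := by group
      rw [e]
      exact mul_mem (Subgroup.mem_sup_left h1)
        (Subgroup.mem_sup_right (inv_mem (Subgroup.zpow_mem_zpowers w i)))
    -- the `K`-centric property of `F₀`
    have hcentric : ∀ y ∈ K, y ∈ Subgroup.centralizer (F₀ : Set G) →
        (∃ j : ℕ, y ^ (2 ^ j) = 1) → y ∈ F₀ := by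
      intro y hyK hyC ⟨j, hj⟩
      set Yh := Subgroup.centralizer (F₀ : Set G) with hYh
      set A := (T : Subgroup G) ⊓ Yh with hA
      -- `A ≤ F`
      have hAF : A ≤ F := by
        intro t ht
        rw [hA, Subgroup.mem_inf] at ht
        apply hcen t ht.1
        have htc : F ≤ Subgroup.centralizer ({t} : Set G) := by
          refine hFsup.trans (sup_le ?_ ?_)
          · intro f hf
            rw [Subgroup.mem_centralizer_iff]
            intro x hx
            rw [Set.mem_singleton_iff] at hx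
            subst hx
            have h2 := ht.2
            rw [hYh, Subgroup.mem_centralizer_iff] at h2
            exact (h2 f hf).symm
          · rw [Subgroup.zpowers_le, Subgroup.mem_centralizer_iff]
            intro x hx
            rw [Set.mem_singleton_iff] at hx
            subst hx
            exact hwZ _ ht.1
        intro f hf
        have := htc hf
        rw [Subgroup.mem_centralizer_iff] at this
        exact this t rfl
      have hwA : w ∈ A := by
        rw [hA, Subgroup.mem_inf]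
        refine ⟨hwT, ?_⟩
        rw [hYh, Subgroup.mem_centralizer_iff]
        intro f hf
        exact (hwF₀ f hf).symm
      have hF₀A : F ≤ F₀ ⊔ A :=
        hFsup.trans (sup_le_sup_left (by rw [Subgroup.zpowers_le]; exact hwA) F₀)
      -- `M = C(F₀) ∩ N(F)`
      set M := Yh ⊓ Subgroup.normalizer (F : Set G) with hM
      have hMN : M ≤ Subgroup.normalizer (F : Set G) := inf_le_right
      have hMnorm : Subgroup.normalizer (F : Set G) ≤ Subgroup.normalizer (M : Set G) := by
        intro g hg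
        apply mem_normalizer_of_cj_eq
        have h1 : cj g Yh = Yh := by
          rw [hYh, cj_centralizer, cj_eq_of_mem_normalizer (hNF₀ g hg)]
        have h2 : cj g (Subgroup.normalizer (F : Set G)) = Subgroup.normalizer (F : Set G) := by
          rw [cj_normalizer, cj_eq_of_mem_normalizer hg]
        ext x
        rw [mem_cj, hM, Subgroup.mem_inf, Subgroup.mem_inf, ← mem_cj, ← mem_cj, h1, h2]
      have hmaxM := isMaxTwo_inf_of_normal hFN hMN hMnorm
      have hAM : ((T : Subgroup G) ⊓ Subgroup.normalizer (F : Set G)) ⊓ M = A := by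
        apply le_antisymm
        · intro x hx
          rw [Subgroup.mem_inf, Subgroup.mem_inf, hM, Subgroup.mem_inf] at hx
          rw [hA, Subgroup.mem_inf]
          exact ⟨hx.1.1, hx.2.1⟩
        · intro x hx
          have hxN : x ∈ Subgroup.normalizer (F : Set G) := Subgroup.le_normalizer (hAF hx)
          rw [hA, Subgroup.mem_inf] at hx
          rw [Subgroup.mem_inf, Subgroup.mem_inf, hM, Subgroup.mem_inf]
          exact ⟨⟨hx.1, hxN⟩, ⟨hx.2, hxN⟩⟩
      rw [hAM] at hmaxM
      -- `A` is a maximal 2-subgroup of `C(F₀)`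
      have hmaxY : IsMaxTwo Yh A := by
        refine ⟨hmaxM.1, inf_le_right, ?_⟩
        intro Q hQ hQY hAQ
        by_contra hcon
        have hne : A ≠ Q := fun h => hcon (h ▸ le_rfl)
        obtain ⟨z, hzQ, hzN, hzA⟩ := exists_mem_normalizer_not_mem' hQ hAQ hne
        -- `z` normalizes `F`
        have hzY : z ∈ Yh := hQY hzQ
        have hzF₀ : cj z F₀ = F₀ := by
          ext x
          rw [mem_cj]
          have hz' := hzY
          rw [hYh, Subgroup.mem_centralizer_iff] at hz'
          constructor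
          · intro hx
            have := hz' _ hx
            have e : x = z * (z⁻¹ * x * z) * z⁻¹ := by group
            rw [e, ← this]
            have e2 : z⁻¹ * x * z * z * z⁻¹ = z⁻¹ * x * z := by group
            rw [e2]; exact hx
          · intro hx
            have := hz' _ hx
            have e : z⁻¹ * x * z = z⁻¹ * (x * z) := by group
            rw [e, this]
            have e2 : z⁻¹ * (z * x) = x := by group
            rw [e2]; exact hx
        have hzAeq : cj z A = A := cj_eq_of_mem_normalizer hzN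
        have hzF : z ∈ Subgroup.normalizer (F : Set G) := by
          apply mem_normalizer_of_cj_eq
          have h1 : cj z F ≤ F := by
            calc cj z F ≤ cj z (F₀ ⊔ A) := cj_mono hF₀A
              _ = cj z F₀ ⊔ cj z A := Subgroup.map_sup _ _ _
              _ = F₀ ⊔ A := by rw [hzF₀, hzAeq]
              _ ≤ F := sup_le inf_le_left hAF
          exact Subgroup.eq_of_le_of_card_ge h1 (card_cj z F).ge
        have hzM : z ∈ M := by rw [hM, Subgroup.mem_inf]; exact ⟨hzY, hzF⟩
        -- `A ⊔ ⟨z⟩` is a 2-subgroup of `M` containing `A`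
        have hQ' : IsPGroup 2 (A ⊔ Subgroup.zpowers z : Subgroup G) :=
          hQ.to_le (sup_le hAQ (by rw [Subgroup.zpowers_le]; exact hzQ))
        have hQ'M : A ⊔ Subgroup.zpowers z ≤ M := by
          apply sup_le
          · intro x hx
            have hxF := hAF hx
            rw [hA, Subgroup.mem_inf] at hx
            rw [hM, Subgroup.mem_inf]
            exact ⟨hx.2, Subgroup.le_normalizer hxF⟩
          · rw [Subgroup.zpowers_le]; exact hzM
        have := hmaxM.2.2 _ hQ' hQ'M le_sup_left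
        exact hzA (this (Subgroup.mem_sup_right (Subgroup.mem_zpowers z)))
      -- conjugate `y` into `A`
      have hE2 : IsPGroup 2 (Subgroup.zpowers y) := isPGroup_zpowers_of_pow_eq_one hj
      have hEY : Subgroup.zpowers y ≤ Yh := by rw [Subgroup.zpowers_le]; exact hyC
      obtain ⟨g, hgY, hg⟩ := exists_conj_le_of_isMaxTwo hmaxY hE2 hEY
      have ht := hg y (Subgroup.mem_zpowers y)
      set t := g * y * g⁻¹ with htdef
      have htK : t ∈ K := hKn.conj_mem y hyK g
      have htF : t ∈ F := hAF ht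
      have htF₀ : t ∈ F₀ := ⟨htF, htK⟩
      -- `g` centralizes `t ∈ F₀`
      have hgt : g⁻¹ * t * g = t := by
        rw [hYh, Subgroup.mem_centralizer_iff] at hgY
        have := hgY t htF₀
        calc g⁻¹ * t * g = g⁻¹ * (t * g) := by group
          _ = g⁻¹ * (g * t) := by rw [this]
          _ = t := by group
      have hyt : y = t := by
        rw [← hgt, htdef]; group
      rw [hyt]; exact htF₀
    -- decompose `n`
    obtain ⟨i, hi⟩ := hG n
    set k := n * w ^ i with hk
    have hkNF : k ∈ Subgroup.normalizer (F : Set G) :=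
      mul_mem hn (Subgroup.le_normalizer (zpow_mem hwF i))
    have hkw : n * w * n⁻¹ = k * w * k⁻¹ := by
      rw [hk]
      have e : n * w ^ i * w * (n * w ^ i)⁻¹ = n * (w ^ i * w * (w ^ i)⁻¹) * n⁻¹ := by group
      rw [e, (Commute.zpow_self w i).eq]
      congr 2; group
    rw [hkw]
    -- apply `hyp` to `k⁻¹`
    have hk'K : k⁻¹ ∈ K := inv_mem hi
    have hk'N : k⁻¹ ∈ Subgroup.normalizer (F₀ : Set G) := inv_mem (hNF₀ k hkNF)
    have hkwF : k * w * k⁻¹ ∈ F := by
      rw [Subgroup.mem_normalizer_iff] at hkNF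
      exact (hkNF w).mp hwF
    have hcross : k⁻¹⁻¹ * (w * k⁻¹ * w⁻¹) = (k * w * k⁻¹) * w⁻¹ := by group
    have hcK : k⁻¹⁻¹ * (w * k⁻¹ * w⁻¹) ∈ K := by
      rw [inv_inv]
      exact mul_mem hi (hKn.conj_mem _ hk'K w)
    have hcT : k⁻¹⁻¹ * (w * k⁻¹ * w⁻¹) ∈ (T : Subgroup G) := by
      rw [hcross]
      exact hFT (mul_mem hkwF (inv_mem hwF))
    have h1 := hyp F₀ hF₀T hcentric k⁻¹ hk'K hk'N hcT
    rw [hcross] at h1
    exact mul_inv_eq_one.mp h1
  -- isolation and the Z*-theorem
  have hiso := isolated_of_local T w hwT hwZ hloc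
  have hz := Cfsg.Agent.Lib.Helper3.ZStarTwo.zstar_two T w hwT hiso
  -- the odd core meets `K` trivially
  haveI hOn : (Cfsg.pPrimeCore 2 G).Normal := Cfsg.Agent.Lib.Helper1.pPrimeCore_normal 2
  have hcop : (Nat.card (Cfsg.pPrimeCore 2 G)).Coprime 2 :=
    Cfsg.Agent.Lib.Helper1.pPrimeCore_card_coprime 2
  have hbot : Cfsg.pPrimeCore 2 G ⊓ K = ⊥ := by
    apply hO _ inf_le_right
    · intro k hk x hx
      rw [Subgroup.mem_inf] at hx ⊢
      exact ⟨hOn.conj_mem x hx.1 k, hKn.conj_mem x hx.2 k⟩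
    · have h1 : Nat.card (Cfsg.pPrimeCore 2 G ⊓ K : Subgroup G) ∣ Nat.card (Cfsg.pPrimeCore 2 G) :=
        Subgroup.card_dvd_of_le inf_le_left
      exact Nat.Coprime.odd_of_right (Nat.Coprime.coprime_dvd_left h1 hcop)
  intro k hk
  have h1 : w * k * w⁻¹ * k⁻¹ ∈ Cfsg.pPrimeCore 2 G ⊓ K := by
    rw [Subgroup.mem_inf]
    exact ⟨hz k, mul_mem (hKn.conj_mem k hk w) (inv_mem hk)⟩
  rw [hbot, Subgroup.mem_bot] at h1
  exact mul_inv_eq_one.mp h1

end Cfsg.Agent.Lib.Helper3.Gl
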