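import Mathlib

set_option autoImplicit false

/-!
# Glauberman's theorem on `C_{Aut K}(S)`: unit C (the transfer homomorphism)

For a `K`-centric subgroup `D ≤ S` (every 2-element of `C_K(D)` lies in `D`) and `k ∈ N_K(D)`, the map
`α ↦ (k⁻¹ α(k))^m` (`m` the odd index of `Z(D)` in `C_K(D)`) is multiplicative on the automorphisms
fixing `S` pointwise, with values in a 2-group; so it kills the odd-order ones and the subgroup they
generate.
-/

namespace Cfsg.Agent.Lib.Helper3.Gl

open scoped IsMulCommutative in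
/-- for a central subgroup `Z`, `g ↦ g ^ Z.index` is multiplicative (transfer). -/
theorem pow_index_mul_of_le_center {G : Type*} [Group G] [Finite G] (Z : Subgroup G)
    (hZ : Z ≤ Subgroup.center G) (a b : G) :
    (a * b) ^ Z.index = a ^ Z.index * b ^ Z.index := by
  let ϕ : Z →* Subgroup.center G := Subgroup.inclusion hZ
  have key : ∀ (g : G) (k : ℕ) (g₀ : G), g₀⁻¹ * g ^ k * g₀ ∈ Z → g₀⁻¹ * g ^ k * g₀ = g ^ k := by
    intro g k g₀ h
    have hc := hZ h
    rw [Subgroup.mem_center_iff] at hc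
    have := hc g₀
    -- g₀ * z = z * g₀ with z = g₀⁻¹ g^k g₀
    have e : g₀ * (g₀⁻¹ * g ^ k * g₀) = g ^ k * g₀ := by group
    rw [e] at this
    exact (mul_right_cancel this).symm
  have h1 := MonoidHom.transfer_eq_pow (A := ↥(Subgroup.center G)) ϕ (a * b) (key (a * b))
  have h2 := MonoidHom.transfer_eq_pow (A := ↥(Subgroup.center G)) ϕ a (key a)
  have h3 := MonoidHom.transfer_eq_pow (A := ↥(Subgroup.center G)) ϕ b (key b)
  have h4 := map_mul (MonoidHom.transfer ϕ) a b
  rw [h1, h2, h3] at h4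
  have := congrArg (fun z : Subgroup.center G => (z : G)) h4
  simpa [ϕ] using this

variable {K : Type*} [Group K]

/-- the "crossed" element `k⁻¹ α(k)` centralizes `D` when `α` fixes `D` pointwise and `k`
normalizes `D`. -/
theorem cross_mem_centralizer {D : Subgroup K} {α : MulAut K} (hα : ∀ d ∈ D, α d = d)
    {k : K} (hk : k ∈ Subgroup.normalizer (D : Set K)) :
    k⁻¹ * α k ∈ Subgroup.centralizer (D : Set K) := by
  rw [Subgroup.mem_centralizer_iff]
  intro d hd
  have hkd : k * d * k⁻¹ ∈ D := by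
    rw [Subgroup.mem_normalizer_iff] at hk
    exact (hk d).mp hd
  have h1 := hα _ hkd
  rw [map_mul, map_mul, map_inv, hα d hd] at h1
  -- h1 : α k * d * (α k)⁻¹ = k * d * k⁻¹
  have h2 : α k * d = k * d * k⁻¹ * α k := by
    rw [← h1]; group
  calc d * (k⁻¹ * α k) = k⁻¹ * (k * d * k⁻¹ * α k) := by group
    _ = k⁻¹ * (α k * d) := by rw [h2]
    _ = k⁻¹ * α k * d := by group

theorem hyp_of_mem_closure [Finite K] (S : Sylow 2 K) (φ : MulAut K)
    (hφ : φ ∈ Subgroup.closure
      {α : MulAut K | (∀ s ∈ (S : Subgroup K), α s = s) ∧ Odd (orderOf α)})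
    (D : Subgroup K) (hDS : D ≤ (S : Subgroup K))
    (hD : ∀ y ∈ Subgroup.centralizer (D : Set K), (∃ j : ℕ, y ^ (2 ^ j) = 1) → y ∈ D)
    (k : K) (hk : k ∈ Subgroup.normalizer (D : Set K))
    (hc : k⁻¹ * φ k ∈ (S : Subgroup K)) : k⁻¹ * φ k = 1 := by
  have : Fact (Nat.Prime 2) := ⟨Nat.prime_two⟩
  set Y := Subgroup.centralizer (D : Set K) with hY
  set Z : Subgroup Y := D.subgroupOf Y with hZ
  have hZc : Z ≤ Subgroup.center Y := by
    intro z hz
    rw [Subgroup.mem_center_iff]
    intro y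
    apply Subtype.ext
    have hy : (y : K) ∈ Subgroup.centralizer (D : Set K) := y.2
    rw [Subgroup.mem_centralizer_iff] at hy
    have := hy (z : K) (Subgroup.mem_subgroupOf.mp hz)
    simpa using this.symm
  set m := Z.index with hm
  -- `m` is odd
  have hmodd : ¬ 2 ∣ m := by
    obtain ⟨P⟩ : Nonempty (Sylow 2 Y) := inferInstance
    have hPZ : (P : Subgroup Y) ≤ Z := by
      intro p hp
      rw [hZ, Subgroup.mem_subgroupOf]
      apply hD _ p.2
      obtain ⟨j, hj⟩ := P.isPGroup' ⟨p, hp⟩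
      refine ⟨j, ?_⟩
      have := congrArg (fun z : P => ((z : Y) : K)) hj
      simpa using this
    intro h2
    exact P.not_dvd_index (h2.trans (Subgroup.index_dvd_of_le hPZ))
  -- every `m`-th power lies in `D`
  have hpowD : ∀ y : Y, ((y : K)) ^ m ∈ D := by
    intro y
    haveI : Z.Normal := by
      constructor
      intro z hz g
      have hc := hZc hz
      rw [Subgroup.mem_center_iff] at hc
      have : g * z * g⁻¹ = z := by rw [hc g]; group
      rw [this]; exact hz
    have := Subgroup.pow_index_mem Z y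
    rw [hZ, Subgroup.mem_subgroupOf] at this
    simpa using this
  -- the value `v α = (k⁻¹ α k)^m`
  have hmul : ∀ α β : MulAut K, (∀ s ∈ (S : Subgroup K), α s = s) →
      (∀ s ∈ (S : Subgroup K), β s = s) →
      (k⁻¹ * (α * β) k) ^ m = (k⁻¹ * α k) ^ m * (k⁻¹ * β k) ^ m := by
    intro α β hα hβ
    have hαD : ∀ d ∈ D, α d = d := fun d hd => hα d (hDS hd)
    have hβD : ∀ d ∈ D, β d = d := fun d hd => hβ d (hDS hd)
    have hcα : k⁻¹ * α k ∈ Y := cross_mem_centralizer hαD hk
    have hcβ : k⁻¹ * β k ∈ Y := cross_mem_centralizer hβD hk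
    -- `α` preserves `Y`
    have hαY : α (k⁻¹ * β k) ∈ Y := by
      rw [hY, Subgroup.mem_centralizer_iff]
      intro d hd
      have h1 : d * (k⁻¹ * β k) = k⁻¹ * β k * d := by
        rw [hY, Subgroup.mem_centralizer_iff] at hcβ
        exact hcβ d hd
      calc d * α (k⁻¹ * β k) = α d * α (k⁻¹ * β k) := by rw [hαD d hd]
        _ = α (d * (k⁻¹ * β k)) := (map_mul α _ _).symm
        _ = α (k⁻¹ * β k * d) := by rw [h1]
        _ = α (k⁻¹ * β k) * α d := map_mul α _ _
        _ = α (k⁻¹ * β k) * d := by rw [hαD d hd]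
    have e1 : k⁻¹ * (α * β) k = (k⁻¹ * α k) * α (k⁻¹ * β k) := by
      rw [MulAut.mul_apply, map_mul, map_inv]; group
    rw [e1]
    have h2 := pow_index_mul_of_le_center Z hZc ⟨_, hcα⟩ ⟨_, hαY⟩
    have h3 := congrArg (fun z : Y => (z : K)) h2
    simp only [Subgroup.coe_mul, Subgroup.coe_pow] at h3
    rw [← hm] at h3
    rw [h3]
    congr 1
    rw [← map_pow]
    exact hα _ (hDS (hpowD ⟨_, hcβ⟩))
  -- closure induction
  have hmain' : ∀ ψ : MulAut K, ψ ∈ Subgroup.closure
      {α : MulAut K | (∀ s ∈ (S : Subgroup K), α s = s) ∧ Odd (orderOf α)} →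
      (∀ s ∈ (S : Subgroup K), ψ s = s) ∧ (k⁻¹ * ψ k) ^ m = 1 := by
    intro ψ hψ
    induction hψ using Subgroup.closure_induction with
    | mem α hα =>
      obtain ⟨hαS, hαodd⟩ := hα
      refine ⟨hαS, ?_⟩
      -- powers
      have hpowS : ∀ i : ℕ, ∀ s ∈ (S : Subgroup K), (α ^ i) s = s := by
        intro i
        induction i with
        | zero => intro s _; simp
        | succ i ih =>
          intro s hs
          rw [pow_succ, MulAut.mul_apply, hαS s hs, ih s hs]
      have hpow : ∀ i : ℕ, (k⁻¹ * (α ^ i) k) ^ m = ((k⁻¹ * α k) ^ m) ^ i := by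
        intro i
        induction i with
        | zero => simp
        | succ i ih =>
          rw [pow_succ, hmul _ _ (hpowS i) hαS, ih, pow_succ]
      have h1 := hpow (orderOf α)
      rw [pow_orderOf_eq_one] at h1
      simp only [MulAut.one_apply, inv_mul_cancel, one_pow] at h1
      -- the value is a 2-element
      have hαD : ∀ d ∈ D, α d = d := fun d hd => hαS d (hDS hd)
      have hcα : k⁻¹ * α k ∈ Y := cross_mem_centralizer hαD hk
      have hvS : (k⁻¹ * α k) ^ m ∈ (S : Subgroup K) := hDS (hpowD ⟨_, hcα⟩)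
      obtain ⟨j, hj⟩ := S.isPGroup' ⟨_, hvS⟩
      have hj' : ((k⁻¹ * α k) ^ m) ^ (2 ^ j) = 1 := by
        have := congrArg (fun z : S => (z : K)) hj
        simpa using this
      have hcop : Nat.Coprime (2 ^ j) (orderOf α) :=
        Nat.Coprime.pow_left j (Nat.coprime_two_left.mpr hαodd)
      have hd1 := orderOf_dvd_of_pow_eq_one hj'
      have hd2 := orderOf_dvd_of_pow_eq_one h1.symm
      have := Nat.eq_one_of_dvd_coprimes hcop hd1 hd2
      exact orderOf_eq_one_iff.mp this
    | one => exact ⟨fun s _ => rfl, by simp⟩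
    | mul α β _ _ ihα ihβ =>
      refine ⟨fun s hs => by rw [MulAut.mul_apply, ihβ.1 s hs, ihα.1 s hs], ?_⟩
      rw [hmul α β ihα.1 ihβ.1, ihα.2, ihβ.2, one_mul]
    | inv α _ ihα =>
      have hinvS : ∀ s ∈ (S : Subgroup K), α⁻¹ s = s := by
        intro s hs
        have := ihα.1 s hs
        rw [MulAut.inv_apply]
        exact (MulEquiv.symm_apply_eq α).mpr this.symm
      refine ⟨hinvS, ?_⟩
      have := hmul α α⁻¹ ihα.1 hinvS
      rw [mul_inv_cancel, ihα.2, one_mul] at this
      simp only [MulAut.one_apply, inv_mul_cancel, one_pow] at this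
      exact this.symm
  -- conclusion
  have hmain := hmain' φ hφ
  obtain ⟨j, hj⟩ := S.isPGroup' ⟨_, hc⟩
  have hj' : (k⁻¹ * φ k) ^ (2 ^ j) = 1 := by
    have := congrArg (fun z : S => (z : K)) hj
    simpa using this
  have hd1 := orderOf_dvd_of_pow_eq_one hj'
  have hd2 := orderOf_dvd_of_pow_eq_one hmain.2
  have hcop : Nat.Coprime (2 ^ j) m :=
    Nat.Coprime.pow_left j ((Nat.Prime.coprime_iff_not_dvd Nat.prime_two).mpr hmodd)
  exact orderOf_eq_one_iff.mp (Nat.eq_one_of_dvd_coprimes hcop hd1 hd2)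

end Cfsg.Agent.Lib.Helper3.Gl
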