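import Mathlib
import Cfsg.Agent.Lib.Helper3.GlB
import Cfsg.Agent.Lib.Helper3.GlC
import Cfsg.Agent.Lib.Helper3.InnerAbelSylow

set_option autoImplicit false

/-!
# Glauberman's theorem on `C_{Aut H}(S)`: unit D (assembly)

If `O(H) = 1` and `S` is a Sylow 2-subgroup of `H`, every element of the subgroup generated by the
odd-order automorphisms of `H` fixing `S` pointwise has odd order.  (Hence `C_{Aut H}(S)` has a
normal 2-complement.)
-/

namespace Cfsg.Agent.Lib.Helper3.Gl

open Cfsg.Agent.Lib.Helper3.InnerAbelSylow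

universe u

variable {H : Type u} [Group H] [Finite H]

/-- the automorphisms fixing `S` pointwise -/
def fixer (S : Subgroup H) : Subgroup (MulAut H) where
  carrier := {β | ∀ x ∈ S, β x = x}
  mul_mem' := by
    intro β γ hβ hγ x hx
    show (β * γ) x = x
    rw [MulAut.mul_apply, hγ x hx, hβ x hx]
  one_mem' := fun x _ => rfl
  inv_mem' := by
    intro β hβ x hx
    show β⁻¹ x = x
    have h0 := hβ x hx
    calc β⁻¹ x = β⁻¹ (β x) := by rw [h0]
      _ = x := by simp

theorem mem_fixer {S : Subgroup H} {β : MulAut H} : β ∈ fixer S ↔ ∀ x ∈ S, β x = x := Iff.rfl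

/-- the subgroup generated by the odd-order automorphisms fixing `S` pointwise -/
def oddGen (S : Subgroup H) : Subgroup (MulAut H) :=
  Subgroup.closure {α : MulAut H | (∀ s ∈ S, α s = s) ∧ Odd (orderOf α)}

theorem oddGen_le_fixer (S : Subgroup H) : oddGen S ≤ fixer S := by
  unfold oddGen
  rw [Subgroup.closure_le]
  intro α hα
  exact hα.1

/-- a 2-element of `oddGen S` is trivial when `O(H) = 1`. -/
theorem eq_one_of_mem_oddGen_of_two_pow
    (hO : ∀ N : Subgroup H, N.Normal → Odd (Nat.card N) → N = ⊥) (S : Sylow 2 H)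
    (w : MulAut H) (hw : w ∈ oddGen (S : Subgroup H)) (a : ℕ) (hwa : orderOf w = 2 ^ a) :
    w = 1 := by
  classical
  have : Fact (Nat.Prime 2) := ⟨Nat.prime_two⟩
  set A := Subgroup.zpowers w with hA
  haveI hfin : Finite (Gam A) := finite_gam A
  have hAcard : Nat.card A = 2 ^ a := by rw [hA, Nat.card_zpowers, hwa]
  have hwfix : ∀ x ∈ (S : Subgroup H), w x = x := oddGen_le_fixer _ hw
  have hfixA : ∀ β ∈ A, ∀ x ∈ (S : Subgroup H), β x = x := by
    have hle : A ≤ fixer (S : Subgroup H) := Subgroup.zpowers_le.mpr hwfix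
    exact fun β hβ => hle hβ
  -- the Sylow 2-subgroup `S ⋊ A`
  obtain ⟨v, hv⟩ := IsPGroup.iff_card.mp S.2
  obtain ⟨S₀, hS₀⟩ : ∃ S₀ : Subgroup (Gam A), S₀ = sylSub A (S : Subgroup H) hfixA := ⟨_, rfl⟩
  have hS₀mem : ∀ γ : Gam A, γ ∈ S₀ ↔ γ.left ∈ (S : Subgroup H) := by
    intro γ; rw [hS₀]; rfl
  have hS₀card : Nat.card S₀ = 2 ^ (v + a) := by
    rw [hS₀, card_sylSub, hv, hAcard, pow_add]
  have hS₀pg : IsPGroup 2 S₀ := IsPGroup.of_card hS₀card
  have hS₀idx : ¬ 2 ∣ S₀.index := by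
    have h1 := S₀.card_mul_index
    rw [hS₀card, SemidirectProduct.card, hAcard, ← (S : Subgroup H).card_mul_index, hv] at h1
    have h2 : S₀.index = (S : Subgroup H).index := by
      have h3 : 2 ^ (v + a) * S₀.index = 2 ^ (v + a) * (S : Subgroup H).index := by
        rw [h1, pow_add]; ring
      exact Nat.eq_of_mul_eq_mul_left (by positivity) h3
    rw [h2]; exact S.not_dvd_index
  obtain ⟨T, hT⟩ : ∃ T : Sylow 2 (Gam A), T = hS₀pg.toSylow hS₀idx := ⟨_, rfl⟩
  have hTcoe : (T : Subgroup (Gam A)) = S₀ := by rw [hT]; exact IsPGroup.toSylow_coe _ _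
  have hTmem : ∀ γ : Gam A, γ ∈ (T : Subgroup (Gam A)) ↔ γ.left ∈ (S : Subgroup H) := by
    intro γ; rw [hTcoe]; exact hS₀mem γ
  -- the normal subgroup `K̂ = H` and the element `ŵ`
  set Kh : Subgroup (Gam A) := (SemidirectProduct.rightHom (φ := A.subtype)).ker with hKh
  haveI hKn : Kh.Normal := by rw [hKh]; infer_instance
  have hKmem : ∀ γ : Gam A, γ ∈ Kh ↔ γ.right = 1 := by
    intro γ; rw [hKh, MonoidHom.mem_ker, SemidirectProduct.rightHom_eq_right]
  have hKinl : ∀ γ : Gam A, γ ∈ Kh → γ = SemidirectProduct.inl γ.left := by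
    intro γ hγ
    apply SemidirectProduct.ext
    · rw [SemidirectProduct.left_inl]
    · rw [SemidirectProduct.right_inl]; exact (hKmem γ).mp hγ
  have hinlK : ∀ x : H, (SemidirectProduct.inl x : Gam A) ∈ Kh := by
    intro x; rw [hKmem, SemidirectProduct.right_inl]
  set w' : ↥A := ⟨w, Subgroup.mem_zpowers w⟩ with hw'
  set wh : Gam A := SemidirectProduct.inr w' with hwh
  have hconj : ∀ x : H, wh * SemidirectProduct.inl x * wh⁻¹ = SemidirectProduct.inl (w x) := by
    intro x
    rw [hwh, ← map_inv, ← SemidirectProduct.inl_aut]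
    rfl
  -- hypotheses of unit B
  have hG : ∀ g : Gam A, ∃ i : ℤ, g * wh ^ i ∈ Kh := by
    intro g
    obtain ⟨j, hj⟩ := Subgroup.mem_zpowers_iff.mp g.right.2
    refine ⟨-j, ?_⟩
    rw [hKmem, SemidirectProduct.mul_right, hwh, ← map_zpow, SemidirectProduct.right_inr]
    apply Subtype.ext
    rw [Subgroup.coe_mul, Subgroup.coe_zpow, Subgroup.coe_one, hw', ← hj]
    simp
  have hwT : wh ∈ (T : Subgroup (Gam A)) := by
    rw [hTmem, hwh, SemidirectProduct.left_inr]; exact Subgroup.one_mem _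
  have hwS : ∀ s ∈ (T : Subgroup (Gam A)), s ∈ Kh → wh * s = s * wh := by
    intro s hsT hsK
    have hs := hKinl s hsK
    have hsl : s.left ∈ (S : Subgroup H) := (hTmem s).mp hsT
    have h1 := hconj s.left
    rw [hwfix _ hsl, ← hs] at h1
    calc wh * s = wh * s * wh⁻¹ * wh := by group
      _ = s * wh := by rw [h1]
  have hOK : ∀ N : Subgroup (Gam A), N ≤ Kh → (∀ k ∈ Kh, ∀ x ∈ N, k * x * k⁻¹ ∈ N) →
      Odd (Nat.card N) → N = ⊥ := by
    intro N hNK hNnorm hNodd
    set N₀ : Subgroup H := N.comap (SemidirectProduct.inl (φ := A.subtype)) with hN₀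
    have hN₀n : N₀.Normal := by
      constructor
      intro x hx h
      rw [hN₀, Subgroup.mem_comap] at hx ⊢
      rw [map_mul, map_mul, map_inv]
      exact hNnorm _ (hinlK h) _ hx
    have hmap : N₀.map (SemidirectProduct.inl (φ := A.subtype)) = N := by
      apply le_antisymm (Subgroup.map_comap_le _ _)
      intro γ hγ
      have h1 := hKinl γ (hNK hγ)
      refine ⟨γ.left, ?_, h1.symm⟩
      show SemidirectProduct.inl γ.left ∈ N
      rw [← h1]; exact hγ
    have hcard : Nat.card N₀ = Nat.card N := by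
      rw [← hmap]
      exact (Subgroup.card_map_of_injective (SemidirectProduct.inl_injective (φ := A.subtype))).symm
    have h0 := hO N₀ hN₀n (hcard ▸ hNodd)
    rw [← hmap, h0, Subgroup.map_bot]
  have hyp : ∀ D : Subgroup (Gam A), D ≤ (T : Subgroup (Gam A)) ⊓ Kh →
      (∀ y ∈ Kh, y ∈ Subgroup.centralizer (D : Set (Gam A)) → (∃ j : ℕ, y ^ (2 ^ j) = 1) → y ∈ D) →
      ∀ k ∈ Kh, k ∈ Subgroup.normalizer (D : Set (Gam A)) →
        k⁻¹ * (wh * k * wh⁻¹) ∈ (T : Subgroup (Gam A)) → k⁻¹ * (wh * k * wh⁻¹) = 1 := by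
    intro D hDTK hDcen k hkK hkN hkT
    set D₀ : Subgroup H := D.comap (SemidirectProduct.inl (φ := A.subtype)) with hD₀
    have hDinl : ∀ d ∈ D, d = SemidirectProduct.inl d.left ∧ d.left ∈ D₀ := by
      intro d hd
      have hdK : d ∈ Kh := (Subgroup.mem_inf.mp (hDTK hd)).2
      have h1 := hKinl d hdK
      refine ⟨h1, ?_⟩
      show SemidirectProduct.inl d.left ∈ D
      rw [← h1]; exact hd
    have hD₀S : D₀ ≤ (S : Subgroup H) := by
      intro x hx
      rw [hD₀, Subgroup.mem_comap] at hx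
      have := (Subgroup.mem_inf.mp (hDTK hx)).1
      rw [hTmem, SemidirectProduct.left_inl] at this
      exact this
    have hD₀cen : ∀ y ∈ Subgroup.centralizer (D₀ : Set H), (∃ j : ℕ, y ^ (2 ^ j) = 1) → y ∈ D₀ := by
      intro y hy ⟨j, hj⟩
      rw [hD₀, Subgroup.mem_comap]
      apply hDcen _ (hinlK y)
      · rw [Subgroup.mem_centralizer_iff]
        intro d hd
        obtain ⟨hd1, hd2⟩ := hDinl d hd
        rw [Subgroup.mem_centralizer_iff] at hy
        have := hy _ hd2
        rw [hd1, ← map_mul, ← map_mul, this]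
      · refine ⟨j, ?_⟩
        rw [← map_pow, hj, map_one]
    have hk1 := hKinl k hkK
    have hkN₀ : k.left ∈ Subgroup.normalizer (D₀ : Set H) := by
      rw [Subgroup.mem_normalizer_iff] at hkN ⊢
      intro x
      rw [hD₀, Subgroup.mem_comap, Subgroup.mem_comap, map_mul, map_mul, map_inv, ← hk1]
      exact hkN _
    have hcross : k⁻¹ * (wh * k * wh⁻¹) = SemidirectProduct.inl (k.left⁻¹ * w k.left) := by
      conv_lhs => rw [hk1]
      rw [hconj, ← map_inv, ← map_mul]
    rw [hcross] at hkT ⊢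
    rw [hTmem, SemidirectProduct.left_inl] at hkT
    have := hyp_of_mem_closure S w hw D₀ hD₀S hD₀cen k.left hkN₀ hkT
    rw [this, map_one]
  have hcent := centralizes_of_hyp Kh hOK wh hG T hwT hwS hyp
  ext x
  have h1 := hcent _ (hinlK x)
  rw [hconj] at h1
  exact SemidirectProduct.inl_injective h1

/-- **Glauberman 1966** (normal 2-complement part): if `O(H) = 1`, every element of the subgroup
generated by the odd-order automorphisms fixing a Sylow 2-subgroup pointwise has odd order. -/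
theorem odd_orderOf_of_mem_closure
    (hO : ∀ N : Subgroup H, N.Normal → Odd (Nat.card N) → N = ⊥) (S : Sylow 2 H) (φ : MulAut H)
    (hφ : φ ∈ Subgroup.closure
      {α : MulAut H | (∀ s ∈ (S : Subgroup H), α s = s) ∧ Odd (orderOf α)}) :
    Odd (orderOf φ) := by
  have hpos : 0 < orderOf φ := orderOf_pos φ
  obtain ⟨a, m, hm, hom⟩ := Nat.exists_eq_two_pow_mul_odd hpos.ne'
  set w := φ ^ m with hw
  have hwmem : w ∈ oddGen (S : Subgroup H) := Subgroup.pow_mem _ hφ m
  have hmpos : 0 < m := hm.pos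
  have hworder : orderOf w = 2 ^ a := by
    rw [hw, orderOf_pow' φ hmpos.ne', hom, Nat.gcd_eq_right (Dvd.intro_left _ rfl),
      Nat.mul_div_cancel _ hmpos]
  have h1 := eq_one_of_mem_oddGen_of_two_pow hO S w hwmem a hworder
  rw [h1, orderOf_one] at hworder
  have ha : a = 0 := by
    by_contra hne
    have : 2 ∣ 2 ^ a := dvd_pow_self 2 hne
    rw [← hworder] at this
    omega
  rw [hom, ha, pow_zero, one_mul]
  exact hm

end Cfsg.Agent.Lib.Helper3.Gl
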