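import Mathlib

/-!
# Simultaneous eigenspaces ("weight spaces") of a commuting family of semisimple operators
-/

set_option autoImplicit false
set_option maxHeartbeats 4000000
set_option maxRecDepth 100000
set_option linter.unusedVariables false
set_option linter.unusedSectionVars false
set_option linter.style.haveILetI false
set_option linter.deprecated false

namespace Cfsg.Agent.Lib.Helper3.Sh

open Module

section semisimple

variable {K : Type*} [Field K] {V : Type*} [AddCommGroup V] [Module K V]

/-- An operator of finite order prime to the characteristic is semisimple. -/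
theorem isSemisimple_of_pow_eq_one (u : Module.End K V) (m : ℕ) (hm : (m : K) ≠ 0)
    (hu : u ^ m = 1) : u.IsSemisimple := by
  have hm0 : m ≠ 0 := by
    rintro rfl
    exact hm (by simp)
  have hsep : (Polynomial.X ^ m - Polynomial.C (1 : K)).Separable :=
    Polynomial.separable_X_pow_sub_C (1 : K) hm one_ne_zero
  refine Module.End.isSemisimple_of_squarefree_aeval_eq_zero hsep.squarefree ?_
  simp [hu]

end semisimple

section weights

variable {K : Type*} [Field K] {V : Type*} [AddCommGroup V] [Module K V] {ι : Type*}

/-- The simultaneous eigenspace of the family `f` for the "character" `χ`. -/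
def wt (f : ι → Module.End K V) (χ : ι → K) : Submodule K V :=
  ⨅ i, (f i).eigenspace (χ i)

theorem mem_wt {f : ι → Module.End K V} {χ : ι → K} {v : V} :
    v ∈ wt f χ ↔ ∀ i, f i v = χ i • v := by
  simp [wt, Module.End.mem_eigenspace_iff]

theorem wt_le_gen (f : ι → Module.End K V) (χ : ι → K) :
    wt f χ ≤ ⨅ i, (f i).maxGenEigenspace (χ i) := by
  refine iInf_mono (fun i => ?_)
  exact Module.End.eigenspace_le_maxGenEigenspace

theorem wt_indep (f : ι → Module.End K V) (hc : ∀ i j, Commute (f i) (f j)) :
    iSupIndep (wt f) := by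
  have h1 := Module.End.independent_iInf_maxGenEigenspace_of_forall_mapsTo f
    (fun i j φ => Module.End.mapsTo_maxGenEigenspace_of_comm (hc j i) φ)
  exact h1.mono (wt_le_gen f)

theorem iSup_wt [IsAlgClosed K] [FiniteDimensional K V] (f : ι → Module.End K V)
    (hc : ∀ i j, Commute (f i) (f j)) (hs : ∀ i, (f i).IsSemisimple) :
    ⨆ χ, wt f χ = ⊤ := by
  have h1 := Module.End.iSup_iInf_maxGenEigenspace_eq_top_of_forall_mapsTo f
    (fun i j φ => Module.End.mapsTo_maxGenEigenspace_of_comm (hc j i) φ)
    (fun i => Module.End.iSup_maxGenEigenspace_eq_top (f i))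
  rw [← h1]
  congr 1
  funext χ
  unfold wt
  congr 1
  funext i
  exact ((hs i).isFinitelySemisimple.maxGenEigenspace_eq_eigenspace (χ i)).symm

/-- A finite sum of vectors from distinct members of an independent family vanishes only if
every summand does. -/
theorem eq_zero_of_sum_eq_zero {κ : Type*} [DecidableEq κ] {P : κ → Submodule K V}
    (hP : iSupIndep P) (s : Finset κ) (v : κ → V) (hv : ∀ i ∈ s, v i ∈ P i)
    (hsum : ∑ i ∈ s, v i = 0) : ∀ i ∈ s, v i = 0 := by
  intro i hi
  have h1 : v i = - ∑ j ∈ s.erase i, v j := by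
    rw [← Finset.add_sum_erase s v hi] at hsum
    exact eq_neg_of_add_eq_zero_left hsum
  have h2 : v i ∈ ⨆ j ∈ (↑(s.erase i) : Set κ), P j := by
    rw [h1]
    refine Submodule.neg_mem _ (Submodule.sum_mem _ (fun j hj => ?_))
    have hj' : j ∈ (↑(s.erase i) : Set κ) := hj
    exact Submodule.mem_iSup_of_mem j (Submodule.mem_iSup_of_mem hj' (hv j (Finset.mem_of_mem_erase hj)))
  have h3 : Disjoint (P i) (⨆ j ∈ (↑(s.erase i) : Set κ), P j) :=
    hP.disjoint_biSup (by simp)
  exact (Submodule.disjoint_def.mp h3) _ (hv i hi) h2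

end weights

end Cfsg.Agent.Lib.Helper3.Sh
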