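import Mathlib
import Cfsg.Agent.Lib.Helper3.ShA

/-!
# The commutant of an operator of prime order without fixed vectors: a lower bound for its
dimension
-/

set_option autoImplicit false
set_option maxHeartbeats 4000000
set_option maxRecDepth 100000
set_option linter.unusedVariables false
set_option linter.unusedSectionVars false
set_option linter.style.haveILetI false
set_option linter.deprecated false

namespace Cfsg.Agent.Lib.Helper3.Sh

open Module

section comb

/-- A counting form of the Cauchy–Schwarz inequality. -/
theorem card_sq_le_mul_card_pairs {ι κ : Type*} [Fintype ι] [DecidableEq κ] (g : ι → κ)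
    (S : Finset κ) (hS : ∀ i, g i ∈ S) :
    (Fintype.card ι) ^ 2 ≤ S.card *
      (Finset.univ.filter (fun ij : ι × ι => g ij.1 = g ij.2)).card := by
  classical
  -- fibre sizes
  let m : κ → ℕ := fun s => (Finset.univ.filter (fun i : ι => g i = s)).card
  have h1 : Fintype.card ι = ∑ s ∈ S, m s := by
    rw [← Finset.card_univ]
    exact Finset.card_eq_sum_card_fiberwise (fun i _ => hS i)
  have h2 : (Finset.univ.filter (fun ij : ι × ι => g ij.1 = g ij.2)).card = ∑ s ∈ S, m s ^ 2 := by
    have h3 : (Finset.univ.filter (fun ij : ι × ι => g ij.1 = g ij.2)).card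
        = ∑ s ∈ S, ((Finset.univ.filter (fun ij : ι × ι => g ij.1 = g ij.2)).filter
            (fun ij => g ij.1 = s)).card :=
      Finset.card_eq_sum_card_fiberwise (f := fun ij : ι × ι => g ij.1) (fun ij _ => hS ij.1)
    rw [h3]
    refine Finset.sum_congr rfl (fun s _ => ?_)
    have h4 : ((Finset.univ.filter (fun ij : ι × ι => g ij.1 = g ij.2)).filter
        (fun ij => g ij.1 = s))
        = (Finset.univ.filter (fun i : ι => g i = s)) ×ˢ (Finset.univ.filter (fun i : ι => g i = s)) := by
      ext ⟨i, j⟩
      simp only [Finset.mem_filter, Finset.mem_univ, true_and, Finset.mem_product]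
      constructor
      · rintro ⟨h, h'⟩
        exact ⟨h', h ▸ h'⟩
      · rintro ⟨h, h'⟩
        exact ⟨h.trans h'.symm, h⟩
    rw [h4, Finset.card_product, sq]
  rw [h1, h2]
  exact sq_sum_le_card_mul_sum_sq

end comb

section commutant

variable {K : Type*} [Field K] {W : Type*} [AddCommGroup W] [Module K W]

/-- The commutant of an operator, as a subspace of the endomorphism algebra. -/
def commutant (X : Module.End K W) : Submodule K (Module.End K W) where
  carrier := {T | T * X = X * T}
  add_mem' := by
    intro a b ha hb
    show (a + b) * X = X * (a + b)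
    rw [add_mul, mul_add, show a * X = X * a from ha, show b * X = X * b from hb]
  zero_mem' := by
    show (0 : Module.End K W) * X = X * 0
    simp
  smul_mem' := by
    intro c a ha
    show (c • a) * X = X * (c • a)
    rw [smul_mul_assoc, mul_smul_comm, show a * X = X * a from ha]

theorem mem_commutant {X T : Module.End K W} : T ∈ commutant X ↔ T * X = X * T := Iff.rfl

variable [IsAlgClosed K] [FiniteDimensional K W]

/-- If `X` has prime order `p` (prime to the characteristic) and no non-zero fixed vector, then
`(dim W)² ≤ (p - 1) · dim C(X)`. -/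
theorem sq_finrank_le_commutant (X : Module.End K W) (p : ℕ) (hp : p.Prime) (hpK : (p : K) ≠ 0)
    (hXp : X ^ p = 1) (hN : ∑ i ∈ Finset.range p, X ^ i = 0) :
    (finrank K W) ^ 2 ≤ (p - 1) * finrank K (commutant X) := by
  classical
  have hss : X.IsSemisimple := isSemisimple_of_pow_eq_one X p hpK hXp
  have htop : ⨆ μ : K, X.eigenspace μ = ⊤ := hss.iSup_eigenspace_eq_top
  have hind : iSupIndep (fun μ : K => X.eigenspace μ) := Module.End.eigenspaces_iSupIndep X
  have hint : DirectSum.IsInternal (fun μ : K => X.eigenspace μ) :=
    DirectSum.isInternal_submodule_of_iSupIndep_of_iSup_eq_top hind htop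
  let b := hint.collectedBasis (fun μ => Module.finBasis K (X.eigenspace μ))
  have hb : ∀ i, X (b i) = i.1 • b i := by
    intro i
    have := hint.collectedBasis_mem (fun μ => Module.finBasis K (X.eigenspace μ)) i
    exact Module.End.mem_eigenspace_iff.mp this
  haveI : Fintype (Σ μ : K, Fin (finrank K (X.eigenspace μ))) :=
    FiniteDimensional.fintypeBasisIndex b
  have hbpow : ∀ (i) (k : ℕ), (X ^ k) (b i) = i.1 ^ k • b i := by
    intro i k
    induction k with
    | zero => simp
    | succ k ih =>
      rw [pow_succ', Module.End.mul_apply, ih, map_smul, hb, smul_smul, pow_succ']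
      ring_nf
  have hroot : ∀ i : (Σ μ : K, Fin (finrank K (X.eigenspace μ))), i.1 ^ p = 1 ∧ i.1 ≠ 1 := by
    intro i
    have hne : b i ≠ 0 := b.ne_zero i
    constructor
    · have h1 := hbpow i p
      rw [hXp, Module.End.one_apply] at h1
      have h2 : (i.1 ^ p - 1) • b i = 0 := by rw [sub_smul, ← h1, one_smul, sub_self]
      rcases smul_eq_zero.mp h2 with h | h
      · exact sub_eq_zero.mp h
      · exact absurd h hne
    · intro h1
      have h2 : (∑ k ∈ Finset.range p, X ^ k) (b i) = 0 := by rw [hN]; rfl
      rw [LinearMap.sum_apply] at h2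
      simp only [hbpow, h1, one_pow, one_smul, Finset.sum_const, Finset.card_range] at h2
      rw [← Nat.cast_smul_eq_nsmul K] at h2
      rcases smul_eq_zero.mp h2 with h | h
      · exact hpK h
      · exact hne h
  -- the set of possible eigenvalues
  let S : Finset K := (Polynomial.nthRootsFinset p (1 : K)).erase 1
  have hScard : S.card ≤ p - 1 := by
    have h1 : (1 : K) ∈ Polynomial.nthRootsFinset p (1 : K) := by
      rw [Polynomial.mem_nthRootsFinset hp.pos]; simp
    rw [Finset.card_erase_of_mem h1]
    have h2 : (Polynomial.nthRootsFinset p (1 : K)).card ≤ p := by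
      classical
      unfold Polynomial.nthRootsFinset
      exact le_trans (Multiset.toFinset_card_le _) (Polynomial.card_nthRoots p (1 : K))
    omega
  have hS : ∀ i : (Σ μ : K, Fin (finrank K (X.eigenspace μ))), i.1 ∈ S := by
    intro i
    rw [Finset.mem_erase, Polynomial.mem_nthRootsFinset hp.pos]
    exact ⟨(hroot i).2, (hroot i).1⟩
  have hcount := card_sq_le_mul_card_pairs
    (fun i : (Σ μ : K, Fin (finrank K (X.eigenspace μ))) => i.1) S hS
  have hdim : finrank K W = Fintype.card (Σ μ : K, Fin (finrank K (X.eigenspace μ))) :=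
    Module.finrank_eq_card_basis b
  -- matrix units
  let E : (Σ μ : K, Fin (finrank K (X.eigenspace μ))) × (Σ μ : K, Fin (finrank K (X.eigenspace μ)))
      → Module.End K W := fun ij => (b.coord ij.1).smulRight (b ij.2)
  have hE : ∀ ij k, E ij (b k) = if k = ij.1 then b ij.2 else 0 := by
    intro ij k
    simp only [E, LinearMap.smulRight_apply, Module.Basis.coord_apply, Module.Basis.repr_self]
    by_cases h : k = ij.1
    · subst h; simp
    · rw [if_neg h, Finsupp.single_eq_of_ne (Ne.symm h)]; simp
  have hElin : LinearIndependent K E := by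
    rw [Fintype.linearIndependent_iff]
    intro c hc ij
    have h1 : (∑ kl, c kl • E kl) (b ij.1) = 0 := by rw [hc]; rfl
    rw [LinearMap.sum_apply] at h1
    simp only [LinearMap.smul_apply, hE] at h1
    have h2 : ∑ kl : _ × _, c kl • (if ij.1 = kl.1 then b kl.2 else 0)
        = ∑ l, c (ij.1, l) • b l := by
      rw [Fintype.sum_prod_type]
      rw [Finset.sum_eq_single ij.1]
      · simp
      · intro k _ hk
        refine Finset.sum_eq_zero (fun l _ => ?_)
        rw [if_neg (Ne.symm hk), smul_zero]
      · intro h; exact absurd (Finset.mem_univ _) h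
    rw [h2] at h1
    have h3 := (Fintype.linearIndependent_iff.mp b.linearIndependent) (fun l => c (ij.1, l)) h1 ij.2
    exact h3
  -- those with equal eigenvalues commute with `X`
  let P := {ij : (Σ μ : K, Fin (finrank K (X.eigenspace μ))) ×
      (Σ μ : K, Fin (finrank K (X.eigenspace μ))) // ij.1.1 = ij.2.1}
  have hEmem : ∀ ij : P, E ij.1 ∈ commutant X := by
    intro ij
    rw [mem_commutant]
    refine b.ext (fun k => ?_)
    rw [Module.End.mul_apply, Module.End.mul_apply, hb, map_smul, hE]
    by_cases h : k = ij.1.1
    · rw [if_pos h, hb, h, ij.2]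
    · rw [if_neg h, smul_zero, map_zero]
  let E' : P → commutant X := fun ij => ⟨E ij.1, hEmem ij⟩
  have hE'lin : LinearIndependent K E' := by
    have h1 : LinearIndependent K (fun ij : P => E ij.1) :=
      hElin.comp (fun ij : P => ij.1) Subtype.val_injective
    exact LinearIndependent.of_comp (commutant X).subtype h1
  have hle : Fintype.card P ≤ finrank K (commutant X) := hE'lin.fintype_card_le_finrank
  have hPcard : Fintype.card P = (Finset.univ.filter (fun ij :
      (Σ μ : K, Fin (finrank K (X.eigenspace μ))) × (Σ μ : K, Fin (finrank K (X.eigenspace μ))) =>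
        ij.1.1 = ij.2.1)).card := by
    rw [Fintype.card_subtype]
  rw [hdim]
  calc _ ≤ S.card * _ := hcount
    _ ≤ (p - 1) * finrank K (commutant X) := by
      rw [← hPcard]
      exact Nat.mul_le_mul hScard hle

end commutant

end Cfsg.Agent.Lib.Helper3.Sh
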