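import Mathlib
import Cfsg.Agent.Lib.Helper3.ShA
import Cfsg.Agent.Lib.Helper3.ShB

/-!
# Shult–Gross, part R: the commutant bound for an operator of arbitrary finite order and orbit
counting for a cyclic `p`-group acting semiregularly away from one point.
-/

set_option autoImplicit false
set_option maxHeartbeats 4000000
set_option maxRecDepth 100000
set_option linter.unusedVariables false
set_option linter.unusedSectionVars false
set_option linter.style.haveILetI false
set_option linter.deprecated false

namespace Cfsg.Agent.Lib.Helper3.Sh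

open Module

section commutantGen

variable {K : Type*} [Field K] {W : Type*} [AddCommGroup W] [Module K W]
variable [IsAlgClosed K] [FiniteDimensional K W]

/-- If `X` has order dividing `p` (any positive integer prime to the characteristic) and no
non-zero fixed vector, then
`(dim W)² ≤ (p - 1) · dim C(X)`. -/
theorem sq_finrank_le_commutant_gen (X : Module.End K W) (p : ℕ) (hp0 : 0 < p) (hpK : (p : K) ≠ 0)
    (hXp : X ^ p = 1) (hN : ∑ i ∈ Finset.range p, X ^ i = 0) :
    (finrank K W) ^ 2 ≤ (p - 1) * finrank K (commutant X) := by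
  classical
  have hss : X.IsSemisimple := isSemisimple_of_pow_eq_one X p hpK hXp
  have htop : ⨆ μ : K, X.eigenspace μ = ⊤ := hss.iSup_eigenspace_eq_top
  have hind : iSupIndep (fun μ : K => X.eigenspace μ) := Module.End.eigenspaces_iSupIndep X
  have hint : DirectSum.IsInternal (fun μ : K => X.eigenspace μ) :=
    DirectSum.isInternal_submodule_of_iSupIndep_of_iSup_eq_top hind htop
  let b := hint.collectedBasis (fun μ => Module.finBasis K (X.eigenspace μ))
  have hb : ∀ i, X (b i) = i.1 • b i := by
    intro i
    have := hint.collectedBasis_mem (fun μ => Module.finBasis K (X.eigenspace μ)) i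
    exact Module.End.mem_eigenspace_iff.mp this
  haveI : Fintype (Σ μ : K, Fin (finrank K (X.eigenspace μ))) :=
    FiniteDimensional.fintypeBasisIndex b
  have hbpow : ∀ (i) (k : ℕ), (X ^ k) (b i) = i.1 ^ k • b i := by
    intro i k
    induction k with
    | zero => simp
    | succ k ih =>
      rw [pow_succ', Module.End.mul_apply, ih, map_smul, hb, smul_smul, pow_succ']
      ring_nf
  have hroot : ∀ i : (Σ μ : K, Fin (finrank K (X.eigenspace μ))), i.1 ^ p = 1 ∧ i.1 ≠ 1 := by
    intro i
    have hne : b i ≠ 0 := b.ne_zero i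
    constructor
    · have h1 := hbpow i p
      rw [hXp, Module.End.one_apply] at h1
      have h2 : (i.1 ^ p - 1) • b i = 0 := by rw [sub_smul, ← h1, one_smul, sub_self]
      rcases smul_eq_zero.mp h2 with h | h
      · exact sub_eq_zero.mp h
      · exact absurd h hne
    · intro h1
      have h2 : (∑ k ∈ Finset.range p, X ^ k) (b i) = 0 := by rw [hN]; rfl
      rw [LinearMap.sum_apply] at h2
      simp only [hbpow, h1, one_pow, one_smul, Finset.sum_const, Finset.card_range] at h2
      rw [← Nat.cast_smul_eq_nsmul K] at h2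
      rcases smul_eq_zero.mp h2 with h | h
      · exact hpK h
      · exact hne h
  -- the set of possible eigenvalues
  let S : Finset K := (Polynomial.nthRootsFinset p (1 : K)).erase 1
  have hScard : S.card ≤ p - 1 := by
    have h1 : (1 : K) ∈ Polynomial.nthRootsFinset p (1 : K) := by
      rw [Polynomial.mem_nthRootsFinset hp0]; simp
    rw [Finset.card_erase_of_mem h1]
    have h2 : (Polynomial.nthRootsFinset p (1 : K)).card ≤ p := by
      classical
      unfold Polynomial.nthRootsFinset
      exact le_trans (Multiset.toFinset_card_le _) (Polynomial.card_nthRoots p (1 : K))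
    omega
  have hS : ∀ i : (Σ μ : K, Fin (finrank K (X.eigenspace μ))), i.1 ∈ S := by
    intro i
    rw [Finset.mem_erase, Polynomial.mem_nthRootsFinset hp0]
    exact ⟨(hroot i).2, (hroot i).1⟩
  have hcount := card_sq_le_mul_card_pairs
    (fun i : (Σ μ : K, Fin (finrank K (X.eigenspace μ))) => i.1) S hS
  have hdim : finrank K W = Fintype.card (Σ μ : K, Fin (finrank K (X.eigenspace μ))) :=
    Module.finrank_eq_card_basis b
  -- matrix units
  let E : (Σ μ : K, Fin (finrank K (X.eigenspace μ))) × (Σ μ : K, Fin (finrank K (X.eigenspace μ)))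
      → Module.End K W := fun ij => (b.coord ij.1).smulRight (b ij.2)
  have hE : ∀ ij k, E ij (b k) = if k = ij.1 then b ij.2 else 0 := by
    intro ij k
    simp only [E, LinearMap.smulRight_apply, Module.Basis.coord_apply, Module.Basis.repr_self]
    by_cases h : k = ij.1
    · subst h; simp
    · rw [if_neg h, Finsupp.single_eq_of_ne (Ne.symm h)]; simp
  have hElin : LinearIndependent K E := by
    rw [Fintype.linearIndependent_iff]
    intro c hc ij
    have h1 : (∑ kl, c kl • E kl) (b ij.1) = 0 := by rw [hc]; rfl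
    rw [LinearMap.sum_apply] at h1
    simp only [LinearMap.smul_apply, hE] at h1
    have h2 : ∑ kl : _ × _, c kl • (if ij.1 = kl.1 then b kl.2 else 0)
        = ∑ l, c (ij.1, l) • b l := by
      rw [Fintype.sum_prod_type]
      rw [Finset.sum_eq_single ij.1]
      · simp
      · intro k _ hk
        refine Finset.sum_eq_zero (fun l _ => ?_)
        rw [if_neg (Ne.symm hk), smul_zero]
      · intro h; exact absurd (Finset.mem_univ _) h
    rw [h2] at h1
    have h3 := (Fintype.linearIndependent_iff.mp b.linearIndependent) (fun l => c (ij.1, l)) h1 ij.2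
    exact h3
  -- those with equal eigenvalues commute with `X`
  let P := {ij : (Σ μ : K, Fin (finrank K (X.eigenspace μ))) ×
      (Σ μ : K, Fin (finrank K (X.eigenspace μ))) // ij.1.1 = ij.2.1}
  have hEmem : ∀ ij : P, E ij.1 ∈ commutant X := by
    intro ij
    rw [mem_commutant]
    refine b.ext (fun k => ?_)
    rw [Module.End.mul_apply, Module.End.mul_apply, hb, map_smul, hE]
    by_cases h : k = ij.1.1
    · rw [if_pos h, hb, h, ij.2]
    · rw [if_neg h, smul_zero, map_zero]
  let E' : P → commutant X := fun ij => ⟨E ij.1, hEmem ij⟩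
  have hE'lin : LinearIndependent K E' := by
    have h1 : LinearIndependent K (fun ij : P => E ij.1) :=
      hElin.comp (fun ij : P => ij.1) Subtype.val_injective
    exact LinearIndependent.of_comp (commutant X).subtype h1
  have hle : Fintype.card P ≤ finrank K (commutant X) := hE'lin.fintype_card_le_finrank
  have hPcard : Fintype.card P = (Finset.univ.filter (fun ij :
      (Σ μ : K, Fin (finrank K (X.eigenspace μ))) × (Σ μ : K, Fin (finrank K (X.eigenspace μ))) =>
        ij.1.1 = ij.2.1)).card := by
    rw [Fintype.card_subtype]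
  rw [hdim]
  calc _ ≤ S.card * _ := hcount
    _ ≤ (p - 1) * finrank K (commutant X) := by
      rw [← hPcard]
      exact Nat.mul_le_mul hScard hle

end commutantGen

/-- Orbit counting for a cyclic group of order `p ^ (N + 1)` whose subgroup of order `p` fixes
exactly one point. -/
theorem orbit_count_pp {ι : Type*} [Finite ι] (π : Equiv.Perm ι) (p N : ℕ) (hp : p.Prime)
    (hπM : π ^ (p ^ (N + 1)) = 1) (c₀ : ι) (hc₀ : π c₀ = c₀)
    (hfix : ∀ c, (π ^ (p ^ N)) c = c → c = c₀) (hne : ∃ c, c ≠ c₀) :
    p ^ (N + 1) * Nat.card (MulAction.orbitRel.Quotient (Subgroup.zpowers π) ι)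
      = Nat.card ι + (p ^ (N + 1) - 1) := by
  classical
  haveI : Fact p.Prime := ⟨hp⟩
  haveI : Fintype ι := Fintype.ofFinite ι
  haveI : Fintype (Subgroup.zpowers π) := Fintype.ofFinite _
  haveI : Fintype (MulAction.orbitRel.Quotient (Subgroup.zpowers π) ι) := Fintype.ofFinite _
  have hB := MulAction.sum_card_fixedBy_eq_card_orbits_mul_card_group (Subgroup.zpowers π) ι
  have hψ1 : π ^ (p ^ N) ≠ 1 := by
    intro h
    obtain ⟨c, hc⟩ := hne
    exact hc (hfix c (by rw [h]; rfl))
  have hord : orderOf π = p ^ (N + 1) := orderOf_eq_prime_pow hψ1 hπM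
  have hcardG : Fintype.card (Subgroup.zpowers π) = p ^ (N + 1) := by
    rw [← Nat.card_eq_fintype_card, Nat.card_zpowers, hord]
  rw [hcardG] at hB
  have h1 : Fintype.card (MulAction.fixedBy ι (1 : Subgroup.zpowers π)) = Nat.card ι := by
    rw [← Nat.card_eq_fintype_card]
    refine Nat.card_congr (Equiv.subtypeUnivEquiv (fun i => ?_))
    show (1 : Subgroup.zpowers π) • i = i
    exact one_smul _ i
  have hψp : (π ^ (p ^ N)) ^ p = 1 := by
    rw [← pow_mul, ← pow_succ]; exact hπM
  have hordψ : orderOf (π ^ (p ^ N)) = p := orderOf_eq_prime hψp hψ1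
  have hpowfix : ∀ (b : Equiv.Perm ι) (c : ι), b c = c → ∀ t : ℕ, (b ^ t) c = c := by
    intro b c hbc t
    induction t with
    | zero => rfl
    | succ t ih => rw [pow_succ, Equiv.Perm.mul_apply, hbc, ih]
  have h2 : ∀ a : Subgroup.zpowers π, a ≠ 1 →
      Fintype.card (MulAction.fixedBy ι a) = 1 := by
    intro a ha
    have ha1 : (a : Equiv.Perm ι) ≠ 1 := fun h => ha (Subtype.ext h)
    obtain ⟨k, hk⟩ := mem_powers_iff_mem_zpowers.mpr a.2
    have hk' : π ^ k = (a : Equiv.Perm ι) := hk
    have hk0 : k ≠ 0 := by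
      intro h0
      apply ha1
      rw [← hk', h0, pow_zero]
    obtain ⟨e, m, hm, hkem⟩ := Nat.exists_eq_pow_mul_and_not_dvd hk0 p hp.ne_one
    have heN : e ≤ N := by
      by_contra hcon
      push Not at hcon
      apply ha1
      rw [← hk', hkem]
      obtain ⟨d, hd⟩ : ∃ d, e = (N + 1) + d := ⟨e - (N + 1), by omega⟩
      rw [hd, pow_add, mul_assoc, pow_mul, hπM, one_pow]
    have hcop : m.Coprime (orderOf (π ^ (p ^ N))) := by
      rw [hordψ]
      exact ((Nat.Prime.coprime_iff_not_dvd hp).mpr hm).symm
    obtain ⟨m', hm'⟩ := exists_pow_eq_self_of_coprime hcop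
    have hψa : (a : Equiv.Perm ι) ^ (p ^ (N - e) * m') = π ^ (p ^ N) := by
      rw [← hk', hkem, ← pow_mul, ← hm', ← pow_mul, ← pow_mul]
      congr 1
      have : p ^ N = p ^ e * p ^ (N - e) := by
        rw [← pow_add]; congr 1; omega
      rw [this]; ring
    rw [Fintype.card_eq_one_iff]
    refine ⟨⟨c₀, ?_⟩, ?_⟩
    · show (a : Equiv.Perm ι) c₀ = c₀
      rw [← hk']
      exact hpowfix π c₀ hc₀ k
    · rintro ⟨c, hc⟩
      apply Subtype.ext
      show c = c₀
      have hc' : (a : Equiv.Perm ι) c = c := hc
      apply hfix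
      rw [← hψa]
      exact hpowfix _ c hc' _
  have hsum : (∑ a : Subgroup.zpowers π, Fintype.card (MulAction.fixedBy ι a))
      = Nat.card ι + (p ^ (N + 1) - 1) := by
    rw [← Finset.add_sum_erase Finset.univ _ (Finset.mem_univ (1 : Subgroup.zpowers π)), h1]
    congr 1
    rw [Finset.sum_congr rfl (fun a ha => h2 a (Finset.ne_of_mem_erase ha)), Finset.sum_const,
      Finset.card_erase_of_mem (Finset.mem_univ _), Finset.card_univ, hcardG, smul_eq_mul, mul_one]
  rw [← hsum, hB, Nat.card_eq_fintype_card, mul_comm]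

end Cfsg.Agent.Lib.Helper3.Sh
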