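import Mathlib
import Cfsg.Agent.Lib.Helper3.ShA
import Cfsg.Agent.Lib.Helper3.ShB
import Cfsg.Agent.Lib.Helper3.ShR

/-!
# Gross, part A: commutant bounds for a semisimple operator in terms of its spectrum, and an
elementary fact on powers of odd numbers which are one less than a power of two.
-/

set_option autoImplicit false
set_option maxHeartbeats 4000000
set_option maxRecDepth 100000
set_option linter.unusedVariables false
set_option linter.unusedSectionVars false
set_option linter.style.haveILetI false
set_option linter.deprecated false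

namespace Cfsg.Agent.Lib.Helper3.Sh

open Module

section commutantSpec

variable {K : Type*} [Field K] {W : Type*} [AddCommGroup W] [Module K W]
variable [IsAlgClosed K] [FiniteDimensional K W]

/-- For `X` of finite order prime to the characteristic: `dim W ≤ dim C(X)`, and if every
eigenvalue of `X` lies in the finite set `S` then `(dim W)² ≤ |S| · dim C(X)`. -/
theorem commutant_bounds (X : Module.End K W) (p : ℕ) (hpK : (p : K) ≠ 0) (hXp : X ^ p = 1) :
    finrank K W ≤ finrank K (commutant X) ∧
    ∀ S : Finset K, (∀ (μ : K) (w : W), w ≠ 0 → X w = μ • w → μ ∈ S) →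
      (finrank K W) ^ 2 ≤ S.card * finrank K (commutant X) := by
  classical
  have hss : X.IsSemisimple := isSemisimple_of_pow_eq_one X p hpK hXp
  have htop : ⨆ μ : K, X.eigenspace μ = ⊤ := hss.iSup_eigenspace_eq_top
  have hind : iSupIndep (fun μ : K => X.eigenspace μ) := Module.End.eigenspaces_iSupIndep X
  have hint : DirectSum.IsInternal (fun μ : K => X.eigenspace μ) :=
    DirectSum.isInternal_submodule_of_iSupIndep_of_iSup_eq_top hind htop
  let b := hint.collectedBasis (fun μ => Module.finBasis K (X.eigenspace μ))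
  have hb : ∀ i, X (b i) = i.1 • b i := by
    intro i
    have := hint.collectedBasis_mem (fun μ => Module.finBasis K (X.eigenspace μ)) i
    exact Module.End.mem_eigenspace_iff.mp this
  haveI : Fintype (Σ μ : K, Fin (finrank K (X.eigenspace μ))) :=
    FiniteDimensional.fintypeBasisIndex b
  have hdim : finrank K W = Fintype.card (Σ μ : K, Fin (finrank K (X.eigenspace μ))) :=
    Module.finrank_eq_card_basis b
  -- matrix units
  let E : (Σ μ : K, Fin (finrank K (X.eigenspace μ))) × (Σ μ : K, Fin (finrank K (X.eigenspace μ)))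
      → Module.End K W := fun ij => (b.coord ij.1).smulRight (b ij.2)
  have hE : ∀ ij k, E ij (b k) = if k = ij.1 then b ij.2 else 0 := by
    intro ij k
    simp only [E, LinearMap.smulRight_apply, Module.Basis.coord_apply, Module.Basis.repr_self]
    by_cases h : k = ij.1
    · subst h; simp
    · rw [if_neg h, Finsupp.single_eq_of_ne (Ne.symm h)]; simp
  have hElin : LinearIndependent K E := by
    rw [Fintype.linearIndependent_iff]
    intro c hc ij
    have h1 : (∑ kl, c kl • E kl) (b ij.1) = 0 := by rw [hc]; rfl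
    rw [LinearMap.sum_apply] at h1
    simp only [LinearMap.smul_apply, hE] at h1
    have h2 : ∑ kl : _ × _, c kl • (if ij.1 = kl.1 then b kl.2 else 0)
        = ∑ l, c (ij.1, l) • b l := by
      rw [Fintype.sum_prod_type]
      rw [Finset.sum_eq_single ij.1]
      · simp
      · intro k _ hk
        refine Finset.sum_eq_zero (fun l _ => ?_)
        rw [if_neg (Ne.symm hk), smul_zero]
      · intro h; exact absurd (Finset.mem_univ _) h
    rw [h2] at h1
    have h3 := (Fintype.linearIndependent_iff.mp b.linearIndependent) (fun l => c (ij.1, l)) h1 ij.2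
    exact h3
  -- those with equal eigenvalues commute with `X`
  let P := {ij : (Σ μ : K, Fin (finrank K (X.eigenspace μ))) ×
      (Σ μ : K, Fin (finrank K (X.eigenspace μ))) // ij.1.1 = ij.2.1}
  have hEmem : ∀ ij : P, E ij.1 ∈ commutant X := by
    intro ij
    rw [mem_commutant]
    refine b.ext (fun k => ?_)
    rw [Module.End.mul_apply, Module.End.mul_apply, hb, map_smul, hE]
    by_cases h : k = ij.1.1
    · rw [if_pos h, hb, h, ij.2]
    · rw [if_neg h, smul_zero, map_zero]
  let E' : P → commutant X := fun ij => ⟨E ij.1, hEmem ij⟩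
  have hE'lin : LinearIndependent K E' := by
    have h1 : LinearIndependent K (fun ij : P => E ij.1) :=
      hElin.comp (fun ij : P => ij.1) Subtype.val_injective
    exact LinearIndependent.of_comp (commutant X).subtype h1
  have hle : Fintype.card P ≤ finrank K (commutant X) := hE'lin.fintype_card_le_finrank
  have hPcard : Fintype.card P = (Finset.univ.filter (fun ij :
      (Σ μ : K, Fin (finrank K (X.eigenspace μ))) × (Σ μ : K, Fin (finrank K (X.eigenspace μ))) =>
        ij.1.1 = ij.2.1)).card := by
    rw [Fintype.card_subtype]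
  constructor
  · -- the diagonal
    have hinj : Function.Injective (fun i : (Σ μ : K, Fin (finrank K (X.eigenspace μ))) =>
        (⟨(i, i), rfl⟩ : P)) := by
      intro i j hij
      have := congrArg (fun x : P => x.1.1) hij
      exact this
    have := Fintype.card_le_of_injective _ hinj
    rw [hdim]
    exact le_trans this hle
  · intro S hS
    have hS' : ∀ i : (Σ μ : K, Fin (finrank K (X.eigenspace μ))), i.1 ∈ S := by
      intro i
      exact hS i.1 (b i) (b.ne_zero i) (hb i)
    have hcount := card_sq_le_mul_card_pairs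
      (fun i : (Σ μ : K, Fin (finrank K (X.eigenspace μ))) => i.1) S hS'
    rw [hdim]
    calc _ ≤ S.card * _ := hcount
      _ ≤ S.card * finrank K (commutant X) := by
        rw [← hPcard]
        exact Nat.mul_le_mul le_rfl hle

end commutantSpec

/-- For odd `b`, `s ^ b + 1 = (s + 1) * q` with `q` odd (here `s` is odd). -/
theorem odd_pow_add_one_factor (s : ℕ) (hs : Odd s) :
    ∀ k : ℕ, ∃ q : ℕ, Odd q ∧ s ^ (2 * k + 1) + 1 = (s + 1) * q := by
  intro k
  induction k with
  | zero => exact ⟨1, odd_one, by ring⟩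
  | succ k ih =>
    obtain ⟨q, hq, hqe⟩ := ih
    obtain ⟨a, ha⟩ := hs
    -- `s ^ (2k+3) + 1 = s² (s^(2k+1) + 1) - (s² - 1) = (s+1) (s² q - (s - 1))`
    have hle : s - 1 ≤ s ^ 2 * q := by
      obtain ⟨c, hc⟩ := hq
      have h1 : 1 ≤ q := by omega
      have h2 : s ≤ s ^ 2 := by nlinarith
      calc s - 1 ≤ s := Nat.sub_le _ _
        _ ≤ s ^ 2 := h2
        _ = s ^ 2 * 1 := by ring
        _ ≤ s ^ 2 * q := Nat.mul_le_mul_left _ h1
    refine ⟨s ^ 2 * q - (s - 1), ?_, ?_⟩
    · have h1 : Odd (s ^ 2 * q) := (Odd.pow ⟨a, ha⟩).mul hq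
      have h2 : Even (s - 1) := ⟨a, by omega⟩
      exact Nat.Odd.sub_even hle h1 h2
    · have h3 : (s + 1) * (s ^ 2 * q - (s - 1)) + (s + 1) * (s - 1) = (s + 1) * (s ^ 2 * q) := by
        rw [← Nat.mul_add, Nat.sub_add_cancel hle]
      have h4 : s ^ (2 * (k + 1) + 1) + 1 + (s + 1) * (s - 1) = (s + 1) * (s ^ 2 * q) := by
        have e1 : s ^ (2 * (k + 1) + 1) = s ^ 2 * s ^ (2 * k + 1) := by
          rw [← pow_add]; congr 1; ring
        have e2 : (s + 1) * (s - 1) + 1 = s ^ 2 := by
          have hs1 : 1 ≤ s := by omega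
          obtain ⟨r, hr⟩ : ∃ r, s = r + 1 := ⟨s - 1, by omega⟩
          rw [hr]; simp only [Nat.add_sub_cancel]; ring
        calc s ^ (2 * (k + 1) + 1) + 1 + (s + 1) * (s - 1)
            = s ^ 2 * s ^ (2 * k + 1) + ((s + 1) * (s - 1) + 1) := by rw [e1]; ring
          _ = s ^ 2 * s ^ (2 * k + 1) + s ^ 2 := by rw [e2]
          _ = s ^ 2 * (s ^ (2 * k + 1) + 1) := by ring
          _ = s ^ 2 * ((s + 1) * q) := by rw [hqe]
          _ = (s + 1) * (s ^ 2 * q) := by ring
      omega

/-- If `s` is odd, `m ≥ 2` and `s ^ b + 1 = 2 ^ m` then `b = 1`. -/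
theorem pow_add_one_eq_two_pow (s b m : ℕ) (hs : Odd s) (hm : 2 ≤ m) (h : s ^ b + 1 = 2 ^ m) :
    b = 1 := by
  rcases Nat.even_or_odd' b with ⟨k, hk | hk⟩
  · -- `b` even: `s ^ b ≡ 1 mod 4`
    exfalso
    obtain ⟨a, ha⟩ := hs
    have h1 : s ^ b % 4 = 1 := by
      rw [hk, pow_mul]
      have h2 : s ^ 2 % 4 = 1 := by
        rw [ha]
        have : (2 * a + 1) ^ 2 = 4 * (a * a + a) + 1 := by ring
        rw [this]; omega
      rw [Nat.pow_mod, h2]; simp
    have h3 : 2 ^ m % 4 = 0 := by
      obtain ⟨c, hc⟩ : ∃ c, m = 2 + c := ⟨m - 2, by omega⟩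
      rw [hc, pow_add]; norm_num
    omega
  · obtain ⟨q, hq, hqe⟩ := odd_pow_add_one_factor s hs k
    rw [← hk, h] at hqe
    have hq2 : q ∣ 2 ^ m := ⟨s + 1, by rw [hqe]; ring⟩
    have hq1 : q = 1 := by
      have hcop : Nat.Coprime q (2 ^ m) := by
        exact Nat.Coprime.pow_right _ hq.coprime_two_right
      exact Nat.Coprime.eq_one_of_dvd hcop hq2
    rw [hq1, mul_one] at hqe
    have hs1 : 1 < s := by
      obtain ⟨a, ha⟩ := hs
      by_contra hcon
      have : s = 1 := by omega
      rw [this, one_pow] at h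
      have h3 : 2 ^ m % 4 = 0 := by
        obtain ⟨c, hc⟩ : ∃ c, m = 2 + c := ⟨m - 2, by omega⟩
        rw [hc, pow_add]; norm_num
      omega
    have : s ^ b = s ^ 1 := by rw [pow_one]; omega
    exact Nat.pow_right_injective hs1 this

end Cfsg.Agent.Lib.Helper3.Sh
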