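import Mathlib

/-!
# Hall–Higman critical case, part 1: Schur's lemma, averaging and Fourier inversion
for an irreducible representation over an algebraically closed field.
-/

namespace Cfsg.Agent.Lib.Helper3.HHB1

open Module

section
variable {K : Type*} [Field K] [IsAlgClosed K] {V : Type*} [AddCommGroup V] [Module K V]
  [FiniteDimensional K V] [Nontrivial V] {H : Type*} [Group H]

/-- Schur's lemma: an endomorphism commuting with an irreducible family is a scalar. -/
theorem schur_scalar (σ : Representation K H V)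
    (hirr : ∀ W : Submodule K V, (∀ h : H, Submodule.map (σ h) W ≤ W) → W = ⊥ ∨ W = ⊤)
    (S : Module.End K V) (hS : ∀ h : H, S * σ h = σ h * S) :
    ∃ μ : K, S = μ • (1 : Module.End K V) := by
  obtain ⟨μ, hμ⟩ := Module.End.exists_eigenvalue S
  refine ⟨μ, ?_⟩
  have hinv : ∀ h : H, Submodule.map (σ h) (Module.End.eigenspace S μ)
      ≤ Module.End.eigenspace S μ := by
    intro h w hw
    obtain ⟨v, hv, rfl⟩ := Submodule.mem_map.mp hw
    rw [Module.End.mem_eigenspace_iff] at hv ⊢
    have := congrArg (fun A : Module.End K V => A v) (hS h)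
    simp only [Module.End.mul_apply] at this
    rw [this, hv, map_smul]
  rcases hirr _ hinv with h0 | h1
  · exact absurd h0 hμ
  · ext v
    have hv : v ∈ Module.End.eigenspace S μ := by rw [h1]; trivial
    rw [Module.End.mem_eigenspace_iff] at hv
    simp [hv]

variable [Fintype H]

theorem avg_comm (σ : Representation K H V) (S : Module.End K V) (g : H) :
    σ g * (∑ h : H, σ h * S * σ h⁻¹) = (∑ h : H, σ h * S * σ h⁻¹) * σ g := by
  rw [Finset.mul_sum, Finset.sum_mul]
  have hinv : σ g⁻¹ * σ g = 1 := by rw [← map_mul, inv_mul_cancel, map_one]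
  refine Fintype.sum_equiv (Equiv.mulLeft g) _ _ (fun h => ?_)
  simp only [Equiv.coe_mulLeft, map_mul, mul_inv_rev, mul_assoc, hinv, mul_one]

theorem avg_scalar (σ : Representation K H V)
    (hirr : ∀ W : Submodule K V, (∀ h : H, Submodule.map (σ h) W ≤ W) → W = ⊥ ∨ W = ⊤)
    (S : Module.End K V) :
    ∃ μ : K, (∑ h : H, σ h * S * σ h⁻¹) = μ • (1 : Module.End K V) ∧
      μ * (finrank K V : K) = (Fintype.card H : K) * LinearMap.trace K V S := by
  obtain ⟨μ, hμ⟩ := schur_scalar σ hirr _ (fun h => (avg_comm σ S h).symm)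
  refine ⟨μ, hμ, ?_⟩
  have h1 := congrArg (LinearMap.trace K V) hμ
  rw [map_sum, map_smul, LinearMap.trace_one, smul_eq_mul] at h1
  rw [← h1]
  have : ∀ h : H, LinearMap.trace K V (σ h * S * σ h⁻¹) = LinearMap.trace K V S := by
    intro h
    rw [LinearMap.trace_mul_comm, ← mul_assoc, ← map_mul, inv_mul_cancel, map_one, one_mul]
  rw [Finset.sum_congr rfl (fun h _ => this h)]
  simp

theorem fourier_rankOne (σ : Representation K H V)
    (hirr : ∀ W : Submodule K V, (∀ h : H, Submodule.map (σ h) W ≤ W) → W = ⊥ ∨ W = ⊤)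
    (φ : Module.Dual K V) (v : V) :
    (finrank K V : K) • (∑ h : H,
        (LinearMap.trace K V ((φ.smulRight v : Module.End K V) * σ h⁻¹)) • σ h)
      = (Fintype.card H : K) • (φ.smulRight v : Module.End K V) := by
  ext w
  obtain ⟨μ, hμ, hμ2⟩ := avg_scalar σ hirr (φ.smulRight w)
  have htr : ∀ h : H,
      LinearMap.trace K V ((φ.smulRight v : Module.End K V) * σ h⁻¹) = φ (σ h⁻¹ v) := by
    intro h
    have : (φ.smulRight v : Module.End K V) * σ h⁻¹ = (φ.comp (σ h⁻¹)).smulRight v := by
      ext z; simp
    rw [this, LinearMap.trace_smulRight]; rfl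
  have h2 := congrArg (fun A : Module.End K V => A v) hμ
  simp only [LinearMap.sum_apply, Module.End.mul_apply, LinearMap.smulRight_apply, map_smul,
    LinearMap.smul_apply, Module.End.one_apply] at h2
  simp only [LinearMap.smul_apply, LinearMap.sum_apply, htr, LinearMap.smulRight_apply]
  rw [h2, smul_smul, mul_comm, hμ2, LinearMap.trace_smulRight, smul_smul]

/-- Fourier inversion for an irreducible representation. -/
theorem fourier (σ : Representation K H V)
    (hirr : ∀ W : Submodule K V, (∀ h : H, Submodule.map (σ h) W ≤ W) → W = ⊥ ∨ W = ⊤)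
    (T : Module.End K V) :
    (finrank K V : K) • (∑ h : H, (LinearMap.trace K V (T * σ h⁻¹)) • σ h)
      = (Fintype.card H : K) • T := by
  classical
  let b := Module.finBasis K V
  let R : Fin (finrank K V) → Module.End K V := fun i => (b.coord i).smulRight (T (b i))
  have hT : T = ∑ i, R i := by
    ext w
    simp only [R, LinearMap.sum_apply, LinearMap.smulRight_apply, Module.Basis.coord_apply]
    have h0 : T w = T (∑ i, (b.repr w) i • b i) := by rw [b.sum_repr]
    rw [h0, map_sum]
    exact Finset.sum_congr rfl (fun i _ => map_smul _ _ _)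
  let Φ : Module.End K V →ₗ[K] Module.End K V :=
    ∑ h : H, ((LinearMap.trace K V).comp (LinearMap.mulRight K (σ h⁻¹))).smulRight (σ h)
  have hΦ : ∀ T' : Module.End K V,
      Φ T' = ∑ h : H, (LinearMap.trace K V (T' * σ h⁻¹)) • σ h := by
    intro T'
    simp [Φ, LinearMap.sum_apply]
  rw [← hΦ]
  calc (finrank K V : K) • Φ T = (finrank K V : K) • Φ (∑ i, R i) := by rw [← hT]
    _ = ∑ i, (finrank K V : K) • Φ (R i) := by rw [map_sum, Finset.smul_sum]
    _ = ∑ i, (Fintype.card H : K) • R i := by
        refine Finset.sum_congr rfl (fun i _ => ?_)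
        rw [hΦ]
        exact fourier_rankOne σ hirr _ _
    _ = (Fintype.card H : K) • T := by rw [← Finset.smul_sum, ← hT]

end

end Cfsg.Agent.Lib.Helper3.HHB1
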