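import Mathlib
import Cfsg.Agent.Lib.Helper3.HHB1

/-!
# Hall–Higman critical case, part 6: an irreducible representation of a finite `q`-group over
an algebraically closed field has `q`-power dimension.
-/

namespace Cfsg.Agent.Lib.Helper3.HHB6

open Module

universe u v w

theorem finrank_sup_of_indep {K : Type*} [Field K] {W : Type*} [AddCommGroup W] [Module K W]
    [FiniteDimensional K W] {ι : Type*} [DecidableEq ι] (F : ι → Submodule K W)
    (hF : iSupIndep F) (S : Finset ι) :
    finrank K (S.sup F : Submodule K W) = ∑ i ∈ S, finrank K (F i) := by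
  induction S using Finset.induction_on with
  | empty => simp
  | insert a S ha ih =>
    rw [Finset.sup_insert, Finset.sum_insert ha, ← ih]
    have hd : Disjoint (F a) (S.sup F) :=
      (hF.supIndep' (insert a S)) (Finset.subset_insert a S) (Finset.mem_insert_self a S) ha
    have h := Submodule.finrank_sup_add_finrank_inf_eq (F a) (S.sup F)
    rw [disjoint_iff.mp hd, finrank_bot, add_zero] at h
    exact h

theorem finrank_map_of_leftInverse {K : Type*} [Field K] {W : Type*} [AddCommGroup W]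
    [Module K W] [FiniteDimensional K W] (f g : Module.End K W) (hgf : g * f = 1)
    (U : Submodule K W) : finrank K (U.map f) = finrank K U := by
  refine le_antisymm (Submodule.finrank_map_le f U) ?_
  have h := Submodule.finrank_map_le g (U.map f)
  have h2 : (U.map f).map g = U := by
    rw [← Submodule.map_comp]
    have : g.comp f = LinearMap.id := hgf
    rw [this, Submodule.map_id]
  rwa [h2] at h

theorem finrank_eq_one_of_scalar {K : Type*} [Field K] {W : Type*} [AddCommGroup W] [Module K W]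
    [Nontrivial W] {H : Type*} [Group H] (σ : Representation K H W)
    (hirr : ∀ U : Submodule K W, (∀ h : H, U.map (σ h) ≤ U) → U = ⊥ ∨ U = ⊤)
    (hsc : ∀ h : H, ∃ μ : K, σ h = μ • (1 : Module.End K W)) : finrank K W = 1 := by
  obtain ⟨w, hw⟩ := exists_ne (0 : W)
  have hinv : ∀ h : H, (K ∙ w).map (σ h) ≤ K ∙ w := by
    intro h z hz
    obtain ⟨z', hz', rfl⟩ := Submodule.mem_map.mp hz
    obtain ⟨μ, hμ⟩ := hsc h
    rw [hμ]
    simp only [LinearMap.smul_apply, Module.End.one_apply]
    exact Submodule.smul_mem _ μ hz'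
  rcases hirr _ hinv with h0 | h1
  · exact absurd (Submodule.span_singleton_eq_bot.mp h0) hw
  · rw [← finrank_top K W, ← h1]
    exact finrank_span_singleton hw

/-- The Clifford step with respect to an element that is central modulo scalars. -/
theorem clifford_step {K : Type*} [Field K] [IsAlgClosed K] {H : Type*} [Group H] [Finite H]
    {W : Type*} [AddCommGroup W] [Module K W] [FiniteDimensional K W] [Nontrivial W]
    (σ : Representation K H W)
    (hirr : ∀ U : Submodule K W, (∀ h : H, U.map (σ h) ≤ U) → U = ⊥ ∨ U = ⊤)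
    (C C' : Module.End K W) (hC' : C' * C = 1) (μ : H → K)
    (hrel0 : ∀ h : H, σ h * C * σ h⁻¹ = μ h • C)
    (hns : ¬ ∃ a : K, C = a • (1 : Module.End K W)) :
    ∃ (T : Subgroup H) (E' : Submodule K W), T ≠ ⊤ ∧ E' ≠ ⊥ ∧
      (∀ t ∈ T, E'.map (σ t) ≤ E') ∧
      (∀ U : Submodule K W, U ≤ E' → (∀ t ∈ T, U.map (σ t) ≤ U) → U = ⊥ ∨ U = E') ∧
      finrank K W = T.index * finrank K E' := by
  classical
  have hσinv : ∀ h : H, σ h⁻¹ * σ h = 1 := fun h => by rw [← map_mul, inv_mul_cancel, map_one]
  have hσinv' : ∀ h : H, σ h * σ h⁻¹ = 1 := fun h => by rw [← map_mul, mul_inv_cancel, map_one]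
  have hC0 : C ≠ 0 := by
    intro h0
    exact hns ⟨0, by rw [h0, zero_smul]⟩
  have hμmul : ∀ a b : H, μ (a * b) = μ a * μ b := by
    intro a b
    have h1 : μ (a * b) • C = (μ a * μ b) • C := by
      rw [← hrel0 (a * b), mul_inv_rev, map_mul, map_mul]
      have : σ a * σ b * C * (σ b⁻¹ * σ a⁻¹) = σ a * (σ b * C * σ b⁻¹) * σ a⁻¹ := by
        simp only [mul_assoc]
      rw [this, hrel0 b, mul_smul_comm, smul_mul_assoc, hrel0 a, smul_smul, mul_comm]
    by_contra hne
    have h2 : (μ (a * b) - μ a * μ b) • C = 0 := by rw [sub_smul, h1, sub_self]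
    rcases smul_eq_zero.mp h2 with h3 | h3
    · exact hne (sub_eq_zero.mp h3)
    · exact hC0 h3
  have hμone : μ 1 = 1 := by
    have h1 : μ 1 • C = (1 : K) • C := by
      rw [← hrel0 1, inv_one, map_one, one_mul, mul_one, one_smul]
    by_contra hne
    have h2 : (μ 1 - 1) • C = 0 := by rw [sub_smul, h1, sub_self]
    rcases smul_eq_zero.mp h2 with h3 | h3
    · exact hne (sub_eq_zero.mp h3)
    · exact hC0 h3
  have hμinv : ∀ a : H, μ a⁻¹ * μ a = 1 := fun a => by rw [← hμmul, inv_mul_cancel, hμone]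
  -- the relation in the form we use
  have hrel : ∀ a : H, C * σ a = μ a⁻¹ • (σ a * C) := by
    intro a
    have h1 := hrel0 a⁻¹
    rw [inv_inv] at h1
    have h2 : σ a * (σ a⁻¹ * C * σ a) = C * σ a := by
      rw [← mul_assoc, ← mul_assoc, hσinv', one_mul]
    rw [← h2, h1, mul_smul_comm]
  let T : Subgroup H :=
    { carrier := {h | μ h = 1}
      one_mem' := hμone
      mul_mem' := by
        intro a b ha hb
        show μ (a * b) = 1
        rw [hμmul, show μ a = 1 from ha, show μ b = 1 from hb, mul_one]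
      inv_mem' := by
        intro a ha
        show μ a⁻¹ = 1
        have := hμinv a
        rwa [show μ a = 1 from ha, mul_one] at this }
  have hTmem : ∀ h : H, h ∈ T ↔ μ h = 1 := fun h => Iff.rfl
  have hTcomm : ∀ t ∈ T, C * σ t = σ t * C := by
    intro t ht
    have h1 : μ t⁻¹ = 1 := (hTmem _).mp (T.inv_mem ht)
    rw [hrel t, h1, one_smul]
  have hTne : T ≠ ⊤ := by
    intro htop
    apply hns
    refine HHB1.schur_scalar σ hirr C (fun h => ?_)
    exact hTcomm h (by rw [htop]; trivial)
  obtain ⟨ν, hν⟩ := Module.End.exists_eigenvalue C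
  have hEne : Module.End.eigenspace C ν ≠ ⊥ := hν
  have hν0 : ν ≠ 0 := by
    intro h0
    obtain ⟨e, he, he0⟩ := Submodule.exists_mem_ne_zero_of_ne_bot hEne
    rw [Module.End.mem_eigenspace_iff, h0, zero_smul] at he
    apply he0
    have : (C' * C) e = 0 := by rw [Module.End.mul_apply, he, map_zero]
    rw [hC'] at this
    simpa using this
  have hTE : ∀ t ∈ T, (Module.End.eigenspace C ν).map (σ t) ≤ Module.End.eigenspace C ν := by
    intro t ht z hz
    obtain ⟨e, he, rfl⟩ := Submodule.mem_map.mp hz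
    rw [Module.End.mem_eigenspace_iff] at he ⊢
    have := congrArg (fun A : Module.End K W => A e) (hTcomm t ht)
    simp only [Module.End.mul_apply] at this
    rw [this, he, map_smul]
  -- minimal T-invariant subspace of the eigenspace
  obtain ⟨E', ⟨hE'ne, hE'le, hE'inv⟩, hE'min⟩ := IsArtinian.set_has_minimal
    {U : Submodule K W | U ≠ ⊥ ∧ U ≤ Module.End.eigenspace C ν ∧ ∀ t ∈ T, U.map (σ t) ≤ U}
    ⟨Module.End.eigenspace C ν, hEne, le_rfl, hTE⟩
  have hE'irr : ∀ U : Submodule K W, U ≤ E' → (∀ t ∈ T, U.map (σ t) ≤ U) → U = ⊥ ∨ U = E' := by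
    intro U hU hUinv
    by_cases hU0 : U = ⊥
    · exact Or.inl hU0
    · right
      by_contra hne
      exact hE'min U ⟨hU0, hU.trans hE'le, hUinv⟩ (lt_of_le_of_ne hU hne)
  refine ⟨T, E', hTne, hE'ne, hE'inv, hE'irr, ?_⟩
  -- the family of translates
  haveI : Fintype (H ⧸ T) := Fintype.ofFinite _
  let F : H ⧸ T → Submodule K W := fun x => E'.map (σ x.out)
  let ev : H ⧸ T → K := fun x => μ (x.out)⁻¹ * ν
  have hev_inj : Function.Injective ev := by
    intro x y hxy
    have h1 : μ (x.out)⁻¹ = μ (y.out)⁻¹ := mul_right_cancel₀ hν0 hxy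
    have h2 : (x.out)⁻¹ * y.out ∈ T := by
      rw [hTmem, hμmul, h1, hμinv]
    have h3 : ((x.out : H) : H ⧸ T) = ((y.out : H) : H ⧸ T) := QuotientGroup.eq.mpr h2
    rwa [QuotientGroup.out_eq', QuotientGroup.out_eq'] at h3
  have hFle : ∀ x, F x ≤ Module.End.eigenspace C (ev x) := by
    intro x z hz
    obtain ⟨e, he, rfl⟩ := Submodule.mem_map.mp hz
    have he' := hE'le he
    rw [Module.End.mem_eigenspace_iff] at he' ⊢
    have := congrArg (fun A : Module.End K W => A e) (hrel x.out)
    simp only [Module.End.mul_apply, LinearMap.smul_apply] at this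
    rw [this, he', map_smul, smul_smul]
  have hindep : iSupIndep F :=
    ((Module.End.eigenspaces_iSupIndep C).comp hev_inj).mono hFle
  have hFinv : ∀ (h : H) (x : H ⧸ T), (F x).map (σ h) ≤ F ((h * x.out : H) : H ⧸ T) := by
    intro h x
    set y : H ⧸ T := ((h * x.out : H) : H ⧸ T) with hy
    have ht : (y.out)⁻¹ * (h * x.out) ∈ T := QuotientGroup.eq.mp (QuotientGroup.out_eq' y)
    have hmul : σ h * σ x.out = σ y.out * σ ((y.out)⁻¹ * (h * x.out)) := by
      rw [← map_mul, ← map_mul, mul_inv_cancel_left]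
    show (E'.map (σ x.out)).map (σ h) ≤ E'.map (σ y.out)
    rw [← Submodule.map_comp]
    have hc : (σ h).comp (σ x.out) = (σ y.out).comp (σ ((y.out)⁻¹ * (h * x.out))) := hmul
    rw [hc, Submodule.map_comp]
    exact Submodule.map_mono (hE'inv _ ht)
  have hsup : (⨆ x, F x) = ⊤ := by
    have hinv : ∀ h : H, (⨆ x, F x).map (σ h) ≤ ⨆ x, F x := by
      intro h
      rw [Submodule.map_iSup]
      exact iSup_le (fun x => le_iSup_of_le _ (hFinv h x))
    rcases hirr _ hinv with h0 | h1
    · exfalso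
      obtain ⟨e, he, he0⟩ := Submodule.exists_mem_ne_zero_of_ne_bot hE'ne
      let x₀ : H ⧸ T := ((1 : H) : H ⧸ T)
      have hmem : σ x₀.out e ∈ (⨆ x, F x) :=
        (le_iSup F x₀) (Submodule.mem_map_of_mem he)
      rw [h0, Submodule.mem_bot] at hmem
      apply he0
      have : (σ (x₀.out)⁻¹ * σ x₀.out) e = 0 := by
        rw [Module.End.mul_apply, hmem, map_zero]
      rw [hσinv] at this
      simpa using this
    · exact h1
  have hfr : ∀ x, finrank K (F x) = finrank K E' := fun x =>
    finrank_map_of_leftInverse (σ x.out) (σ (x.out)⁻¹) (hσinv _) E'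
  have h1 := finrank_sup_of_indep F hindep Finset.univ
  rw [Finset.sup_univ_eq_iSup, hsup, finrank_top] at h1
  rw [h1, Finset.sum_congr rfl (fun x _ => hfr x), Finset.sum_const, Finset.card_univ,
    smul_eq_mul, Subgroup.index_eq_card, Nat.card_eq_fintype_card]

/-- An irreducible representation of a finite `q`-group over an algebraically closed field has
`q`-power dimension. -/
theorem finrank_prime_pow_aux (q : ℕ) [Fact q.Prime] {K : Type w} [Field K] [IsAlgClosed K] :
    ∀ (n : ℕ) (H : Type u) [Group H] [Finite H] (W : Type v) [AddCommGroup W] [Module K W]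
      [FiniteDimensional K W] [Nontrivial W] (σ : Representation K H W),
      Nat.card H = n → IsPGroup q H →
      (∀ U : Submodule K W, (∀ h : H, U.map (σ h) ≤ U) → U = ⊥ ∨ U = ⊤) →
      ∃ b : ℕ, finrank K W = q ^ b := by
  intro n
  induction n using Nat.strong_induction_on with
  | _ n IH =>
  intro H _ _ W _ _ _ _ σ hn hH hirr
  classical
  by_cases hab : ∀ h₁ h₂ : H, σ h₁ * σ h₂ = σ h₂ * σ h₁
  · refine ⟨0, ?_⟩
    rw [pow_zero]
    exact finrank_eq_one_of_scalar σ hirr
      (fun h => HHB1.schur_scalar σ hirr (σ h) (fun h' => hab h h'))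
  · push Not at hab
    obtain ⟨h₁, h₂, h12⟩ := hab
    have hσinv : ∀ h : H, σ h⁻¹ * σ h = 1 := fun h => by
      rw [← map_mul, inv_mul_cancel, map_one]
    have hσinv' : ∀ h : H, σ h * σ h⁻¹ = 1 := fun h => by
      rw [← map_mul, mul_inv_cancel, map_one]
    have h10 : (1 : Module.End K W) ≠ 0 := by
      intro h
      obtain ⟨w, hw⟩ := exists_ne (0 : W)
      apply hw
      have := congrArg (fun A : Module.End K W => A w) h
      simpa using this
    let Z₁ : Subgroup H :=
      { carrier := {h | ∃ μ : K, σ h = μ • (1 : Module.End K W)}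
        one_mem' := ⟨1, by simp⟩
        mul_mem' := by
          rintro a b ⟨μ, hμ⟩ ⟨ν, hν⟩
          exact ⟨μ * ν, by rw [map_mul, hμ, hν, smul_mul_smul_comm, mul_one]⟩
        inv_mem' := by
          rintro a ⟨μ, hμ⟩
          have hμ0 : μ ≠ 0 := by
            rintro rfl
            have := hσinv a
            rw [hμ, zero_smul, mul_zero] at this
            exact h10 this.symm
          refine ⟨μ⁻¹, ?_⟩
          have h1 := hσinv a
          rw [hμ, mul_smul_comm, mul_one] at h1
          calc σ a⁻¹ = μ⁻¹ • (μ • σ a⁻¹) := by rw [smul_smul, inv_mul_cancel₀ hμ0, one_smul]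
            _ = μ⁻¹ • (1 : Module.End K W) := by rw [h1] }
    have hZ₁n : Z₁.Normal := ⟨by
      rintro a ⟨μ, hμ⟩ g
      refine ⟨μ, ?_⟩
      rw [map_mul, map_mul, hμ, mul_smul_comm, mul_one, smul_mul_assoc, hσinv']⟩
    have := hZ₁n
    have hh₁ : h₁ ∉ Z₁ := by
      rintro ⟨μ, hμ⟩
      apply h12
      rw [hμ, smul_mul_assoc, one_mul, mul_smul_comm, mul_one]
    haveI : Nontrivial (H ⧸ Z₁) := by
      refine nontrivial_of_ne ((h₁ : H) : H ⧸ Z₁) 1 ?_
      rw [Ne, QuotientGroup.eq_one_iff]; exact hh₁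
    have hquot : IsPGroup q (H ⧸ Z₁) := hH.to_quotient Z₁
    haveI hcn : Nontrivial (Subgroup.center (H ⧸ Z₁)) := hquot.center_nontrivial
    obtain ⟨cbar, hcbar, hcbar1⟩ := (Subgroup.nontrivial_iff_exists_ne_one _).mp hcn
    obtain ⟨c, rfl⟩ := QuotientGroup.mk_surjective cbar
    have hcZ : c ∉ Z₁ := fun h => hcbar1 ((QuotientGroup.eq_one_iff c).mpr h)
    have hcomm_mem : ∀ h : H, h * c * h⁻¹ * c⁻¹ ∈ Z₁ := by
      intro h
      rw [← QuotientGroup.eq_one_iff]
      have h1 := (Subgroup.mem_center_iff.mp hcbar) ((h : H) : H ⧸ Z₁)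
      simp only [QuotientGroup.mk_mul, QuotientGroup.mk_inv]
      rw [h1]; group
    have hμex : ∀ h : H, ∃ μ : K, σ h * σ c * σ h⁻¹ = μ • σ c := by
      intro h
      obtain ⟨μ, hμ⟩ := hcomm_mem h
      refine ⟨μ, ?_⟩
      calc σ h * σ c * σ h⁻¹ = σ (h * c * h⁻¹) := by rw [map_mul, map_mul]
        _ = σ (h * c * h⁻¹ * c⁻¹ * c) := by rw [inv_mul_cancel_right]
        _ = σ (h * c * h⁻¹ * c⁻¹) * σ c := map_mul _ _ _
        _ = μ • σ c := by rw [hμ, smul_mul_assoc, one_mul]
    choose μ hμ using hμex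
    obtain ⟨T, E', hTne, hE'ne, hE'inv, hE'irr, hfin⟩ :=
      clifford_step σ hirr (σ c) (σ c⁻¹) (hσinv c) μ hμ hcZ
    -- restricted representation
    haveI : Nontrivial E' := Submodule.nontrivial_iff_ne_bot.mpr hE'ne
    let τ : Representation K T E' :=
      { toFun := fun t => (σ t.1).restrict
          (fun e he => hE'inv t.1 t.2 (Submodule.mem_map_of_mem he))
        map_one' := by ext e; simp
        map_mul' := by intro a b; ext e; simp }
    have hτ : ∀ (t : T) (e : E'), ((τ t e : E') : W) = σ t.1 e.1 := fun t e => rfl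
    have hτirr : ∀ U : Submodule K E', (∀ t : T, U.map (τ t) ≤ U) → U = ⊥ ∨ U = ⊤ := by
      intro U hU
      have hle : U.map E'.subtype ≤ E' := Submodule.map_subtype_le E' U
      have hinv : ∀ t ∈ T, (U.map E'.subtype).map (σ t) ≤ U.map E'.subtype := by
        intro t ht z hz
        obtain ⟨z', hz', rfl⟩ := Submodule.mem_map.mp hz
        obtain ⟨e, he, rfl⟩ := Submodule.mem_map.mp hz'
        refine Submodule.mem_map.mpr ⟨τ ⟨t, ht⟩ e, hU ⟨t, ht⟩ (Submodule.mem_map_of_mem he), ?_⟩
        rfl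
      rcases hE'irr _ hle hinv with h0 | h1
      · left
        rw [Submodule.eq_bot_iff]
        intro e he
        have : (e : W) ∈ U.map E'.subtype := Submodule.mem_map.mpr ⟨e, he, rfl⟩
        rw [h0, Submodule.mem_bot] at this
        exact Subtype.ext this
      · right
        rw [Submodule.eq_top_iff']
        intro e
        have : (e : W) ∈ U.map E'.subtype := by rw [h1]; exact e.2
        obtain ⟨e', he', hee'⟩ := Submodule.mem_map.mp this
        have : e' = e := Subtype.ext hee'
        rwa [← this]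
    have hlt : Nat.card T < n := by
      rw [← hn]
      refine lt_of_le_of_ne (Subgroup.card_le_card_group T) (fun h => hTne ?_)
      exact Subgroup.eq_top_of_card_eq T h
    obtain ⟨b', hb'⟩ := IH (Nat.card T) hlt T E' τ rfl (hH.to_subgroup T) hτirr
    obtain ⟨m, hm⟩ := IsPGroup.iff_card.mp hH
    have hdvd : T.index ∣ q ^ m := by rw [← hm]; exact Subgroup.index_dvd_card T
    obtain ⟨a, -, ha⟩ := (Nat.dvd_prime_pow (Fact.out : q.Prime)).mp hdvd
    exact ⟨a + b', by rw [hfin, ha, hb', pow_add]⟩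

theorem finrank_prime_pow (q : ℕ) [Fact q.Prime] {K : Type*} [Field K] [IsAlgClosed K]
    {H : Type*} [Group H] [Finite H] {W : Type*} [AddCommGroup W] [Module K W]
    [FiniteDimensional K W] [Nontrivial W] (σ : Representation K H W) (hH : IsPGroup q H)
    (hirr : ∀ U : Submodule K W, (∀ h : H, U.map (σ h) ≤ U) → U = ⊥ ∨ U = ⊤) :
    ∃ b : ℕ, finrank K W = q ^ b :=
  finrank_prime_pow_aux q (Nat.card H) H W σ rfl hH hirr

end Cfsg.Agent.Lib.Helper3.HHB6
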