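import Mathlib

/-!
# Hall–Higman Theorem B, part 1: basic notions (restricted representations, compatibility of an
operator with an automorphism, the shape of the conclusion).
-/

namespace Cfsg.Agent.Lib.Helper3.HHC1

open Module

universe u v w

section
variable {K : Type*} [Field K] {W : Type*} [AddCommGroup W] [Module K W] {Q : Type*} [Group Q]

/-- The restriction of a representation to an invariant subspace. -/
def resRep (σ : Representation K Q W) (U : Submodule K W) (hU : ∀ g, ∀ w ∈ U, σ g w ∈ U) :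
    Representation K Q U where
  toFun g := (σ g).restrict (hU g)
  map_one' := by ext w; simp
  map_mul' := by intro a b; ext w; simp

theorem resRep_coe (σ : Representation K Q W) (U : Submodule K W)
    (hU : ∀ g, ∀ w ∈ U, σ g w ∈ U) (g : Q) (w : U) :
    ((resRep σ U hU g w : U) : W) = σ g w := rfl

theorem compat_pow (σ : Representation K Q W) (X : Module.End K W) (φ : MulAut Q)
    (h : ∀ g, X * σ g = σ (φ g) * X) (k : ℕ) :
    ∀ g, X ^ k * σ g = σ ((φ ^ k) g) * X ^ k := by
  induction k with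
  | zero => intro g; simp
  | succ k ih =>
    intro g
    rw [pow_succ, mul_assoc, h, ← mul_assoc, ih, mul_assoc, ← pow_succ]
    rfl

theorem compat_inv (σ : Representation K Q W) (X X' : Module.End K W) (hXX' : X * X' = 1)
    (hX'X : X' * X = 1) (φ : MulAut Q) (h : ∀ g, X * σ g = σ (φ g) * X) :
    ∀ g, X' * σ g = σ (φ⁻¹ g) * X' := by
  intro g
  have h1 := h (φ⁻¹ g)
  rw [MulAut.apply_inv_self] at h1
  calc X' * σ g = X' * (σ g * X) * X' := by rw [mul_assoc, mul_assoc, hXX', mul_one]
    _ = X' * (X * σ (φ⁻¹ g)) * X' := by rw [h1]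
    _ = σ (φ⁻¹ g) * X' := by rw [← mul_assoc, hX'X, one_mul]

theorem pow_mul_pow_eq_one (X X' : Module.End K W) (hXX' : X * X' = 1) (hX'X : X' * X = 1)
    (k : ℕ) : X ^ k * X' ^ k = 1 := by
  have hc : Commute X X' := by
    show X * X' = X' * X
    rw [hXX', hX'X]
  rw [← hc.mul_pow, hXX', one_pow]

theorem pow_comm_aut (φ : MulAut Q) (k : ℕ) (g : Q) : (φ ^ k) (φ g) = φ ((φ ^ k) g) := by
  rw [← MulAut.mul_apply, ← MulAut.mul_apply, pow_mul_comm']

theorem pow_comm_aut' (φ : MulAut Q) (k i : ℕ) (g : Q) :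
    (φ ^ k) ((φ ^ i) g) = (φ ^ i) ((φ ^ k) g) := by
  rw [← MulAut.mul_apply, ← MulAut.mul_apply, ← pow_add, ← pow_add, add_comm]

/-- restriction of `(A - 1)^k` -/
theorem restrict_sub_one_pow (A : Module.End K W) (U : Submodule K W) (h : ∀ w ∈ U, A w ∈ U)
    (k : ℕ) : ∀ w : U, ((((A.restrict h : Module.End K U) - 1) ^ k) w : W) = ((A - 1) ^ k) w := by
  induction k with
  | zero => intro w; simp
  | succ k ih =>
    intro w
    rw [pow_succ, Module.End.mul_apply, ih, pow_succ, Module.End.mul_apply]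
    congr 1

theorem restrict_pow_coe (A : Module.End K W) (U : Submodule K W) (h : ∀ w ∈ U, A w ∈ U)
    (k : ℕ) : ∀ w : U, ((((A.restrict h : Module.End K U)) ^ k) w : W) = (A ^ k) w := by
  induction k with
  | zero => intro w; simp
  | succ k ih =>
    intro w
    rw [pow_succ, Module.End.mul_apply, ih, pow_succ, Module.End.mul_apply]
    rfl

theorem sub_one_pow_mem (A : Module.End K W) (U : Submodule K W) (h : ∀ w ∈ U, A w ∈ U)
    (k : ℕ) : ∀ w ∈ U, ((A - 1) ^ k) w ∈ U := by
  induction k with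
  | zero => intro w hw; simpa using hw
  | succ k ih =>
    intro w hw
    rw [pow_succ, Module.End.mul_apply]
    apply ih
    rw [LinearMap.sub_apply, Module.End.one_apply]
    exact U.sub_mem (h w hw) hw

theorem pow_mem (A : Module.End K W) (U : Submodule K W) (h : ∀ w ∈ U, A w ∈ U)
    (k : ℕ) : ∀ w ∈ U, (A ^ k) w ∈ U := by
  induction k with
  | zero => intro w hw; simpa using hw
  | succ k ih =>
    intro w hw
    rw [pow_succ, Module.End.mul_apply]
    exact ih _ (h w hw)

/-- If an invertible operator maps a finite-dimensional subspace into itself, so does its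
inverse. -/
theorem inv_mem_of_mem [FiniteDimensional K W] (X X' : Module.End K W) (hX'X : X' * X = 1)
    (U : Submodule K W) (h : ∀ w ∈ U, X w ∈ U) : ∀ w ∈ U, X' w ∈ U := by
  have hle : U.map X ≤ U := by
    intro w hw
    obtain ⟨v, hv, rfl⟩ := Submodule.mem_map.mp hw
    exact h v hv
  have hinj : Function.Injective X := by
    intro a b hab
    have := congrArg X' hab
    rw [← Module.End.mul_apply, ← Module.End.mul_apply, hX'X] at this
    simpa using this
  have hfr : finrank K (U.map X) = finrank K U := by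
    have e := Submodule.equivMapOfInjective X hinj U
    exact (LinearEquiv.finrank_eq e).symm
  have heq : U.map X = U := Submodule.eq_of_le_of_finrank_eq hle hfr
  intro w hw
  rw [← heq] at hw
  obtain ⟨v, hv, rfl⟩ := Submodule.mem_map.mp hw
  rw [← Module.End.mul_apply, hX'X]
  simpa using hv

end

/-- The shape of the conclusion of Theorem B. -/
def HHConcl {K : Type*} [Field K] {W : Type*} [AddCommGroup W] [Module K W] (p q n : ℕ)
    (X : Module.End K W) (nonab : Prop) : Prop :=
  (X - 1) ^ (p ^ n - 1) ≠ 0 ∨ ∃ n₀ m : ℕ, 1 ≤ n₀ ∧ n₀ ≤ n ∧ 1 ≤ m ∧ p ^ n₀ - 1 = q ^ m ∧ nonab ∧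
    (X - 1) ^ (p ^ (n - n₀) * (p ^ n₀ - 1) - 1) ≠ 0

theorem HHConcl.mono {K : Type*} [Field K] {W : Type*} [AddCommGroup W] [Module K W]
    {p q n : ℕ} {X : Module.End K W} {a b : Prop} (hab : a → b) (h : HHConcl p q n X a) :
    HHConcl p q n X b := by
  rcases h with h | ⟨n₀, m, h1, h2, h3, h4, h5, h6⟩
  · exact Or.inl h
  · exact Or.inr ⟨n₀, m, h1, h2, h3, h4, hab h5, h6⟩

/-- The statement proved by induction. -/
def Good (p q n : ℕ) {K : Type w} [Field K] (Q : Type u) [Group Q] (W : Type v) [AddCommGroup W]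
    [Module K W] (σ : Representation K Q W) (X X' : Module.End K W) (φ : MulAut Q) : Prop :=
  IsPGroup q Q → X * X' = 1 → X' * X = 1 → (∀ g, X * σ g = σ (φ g) * X) →
    X ^ (p ^ (n + 1)) = 1 → (∃ g, σ ((φ ^ (p ^ n)) g) ≠ σ g) →
    HHConcl p q (n + 1) X (¬ ∀ a b : Q, a * b = b * a)

end Cfsg.Agent.Lib.Helper3.HHC1
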