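import Mathlib
import Cfsg.Agent.Lib.Helper3.HHC1

/-!
# Hall–Higman Theorem B, part 4: invariant subspaces with the same (faithful) central character
admit nonzero intertwiners, when all commutators are central and act as non-trivial scalars.
-/

namespace Cfsg.Agent.Lib.Helper3.HHC4

open Module Cfsg.Agent.Lib.Helper3.HHC1

theorem exists_hom_of_central_char {K : Type*} [Field K] {W : Type*} [AddCommGroup W]
    [Module K W] [FiniteDimensional K W] {Q : Type*} [Group Q] [Finite Q]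
    (σ : Representation K Q W)
    (hZ : ∀ z ∈ Subgroup.center Q, ∃ μ : K, σ z = μ • (1 : Module.End K W))
    (hnc : ∀ g, g ∉ Subgroup.center Q →
      ∃ (h : Q) (c : K), c ≠ 1 ∧ σ h * σ g = c • (σ g * σ h))
    (W₁ W₂ : Submodule K W) (h₁ : ∀ g, ∀ w ∈ W₁, σ g w ∈ W₁) (h₂ : ∀ g, ∀ w ∈ W₂, σ g w ∈ W₂)
    (hd₁ : (finrank K W₁ : K) ≠ 0) (hcZ : (Nat.card (Subgroup.center Q) : K) ≠ 0)
    (hW₂ : W₂ ≠ ⊥) :
    ∃ f : W₁ →ₗ[K] W₂, f ≠ 0 ∧ ∀ g w, f (resRep σ W₁ h₁ g w) = resRep σ W₂ h₂ g (f w) := by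
  classical
  haveI : Fintype Q := Fintype.ofFinite Q
  obtain ⟨τ₁, hτ₁⟩ : ∃ τ : Representation K Q W₁, τ = resRep σ W₁ h₁ := ⟨_, rfl⟩
  obtain ⟨τ₂, hτ₂⟩ : ∃ τ : Representation K Q W₂, τ = resRep σ W₂ h₂ := ⟨_, rfl⟩
  rw [← hτ₁, ← hτ₂]
  have hτ₁c : ∀ g (w : W₁), ((τ₁ g w : W₁) : W) = σ g w := by
    intro g w; rw [hτ₁]; rfl
  have hτ₂c : ∀ g (w : W₂), ((τ₂ g w : W₂) : W) = σ g w := by
    intro g w; rw [hτ₂]; rfl
  -- nontriviality of W
  have h10 : (1 : Module.End K W) ≠ 0 := by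
    intro h
    obtain ⟨w, hw, hw0⟩ := Submodule.exists_mem_ne_zero_of_ne_bot hW₂
    apply hw0
    have := congrArg (fun A : Module.End K W => A w) h
    simpa using this
  let χ : Q → K := fun g => LinearMap.trace K W₁ (τ₁ g)
  -- (i) vanishing off the centre
  have hχ0 : ∀ g, g ∉ Subgroup.center Q → χ g = 0 := by
    intro g hg
    obtain ⟨h, c, hc, hrel⟩ := hnc g hg
    have hrel₁ : τ₁ h * τ₁ g = c • (τ₁ g * τ₁ h) := by
      refine LinearMap.ext (fun w => Subtype.ext ?_)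
      have := congrArg (fun A : Module.End K W => A (w : W)) hrel
      simp only [Module.End.mul_apply, LinearMap.smul_apply] at this
      simp only [Module.End.mul_apply, LinearMap.smul_apply, Submodule.coe_smul, hτ₁c]
      exact this
    have e1 : LinearMap.trace K W₁ (τ₁ h * τ₁ g * τ₁ h⁻¹) = χ g := by
      rw [LinearMap.trace_mul_comm, ← mul_assoc, ← map_mul, inv_mul_cancel, map_one, one_mul]
    have e2 : LinearMap.trace K W₁ (τ₁ h * τ₁ g * τ₁ h⁻¹) = c * χ g := by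
      rw [hrel₁, smul_mul_assoc, map_smul, smul_eq_mul, mul_assoc, ← map_mul, mul_inv_cancel,
        map_one, mul_one]
    have e3 : (1 - c) * χ g = 0 := by rw [sub_mul, one_mul, ← e2, e1, sub_self]
    rcases mul_eq_zero.mp e3 with h0 | h0
    · exact absurd (sub_eq_zero.mp h0).symm hc
    · exact h0
  -- (ii) values on the centre
  have hχZ : ∀ z (μ : K), σ z = μ • (1 : Module.End K W) → χ z = μ * (finrank K W₁ : K) := by
    intro z μ hμ
    have : τ₁ z = μ • (1 : Module.End K W₁) := by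
      refine LinearMap.ext (fun w => Subtype.ext ?_)
      simp only [LinearMap.smul_apply, Module.End.one_apply, Submodule.coe_smul, hτ₁c, hμ]
    show LinearMap.trace K W₁ (τ₁ z) = _
    rw [this, map_smul, LinearMap.trace_one, smul_eq_mul]
  -- (iii) the value of the central element
  have hterm : ∀ g, χ g⁻¹ • σ g
      = (if g ∈ Subgroup.center Q then (finrank K W₁ : K) else 0) • (1 : Module.End K W) := by
    intro g
    by_cases hg : g ∈ Subgroup.center Q
    · rw [if_pos hg]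
      obtain ⟨μ, hμ⟩ := hZ g hg
      obtain ⟨μ', hμ'⟩ := hZ g⁻¹ ((Subgroup.center Q).inv_mem hg)
      have hmm : μ' * μ = 1 := by
        have h1 : σ g⁻¹ * σ g = 1 := by rw [← map_mul, inv_mul_cancel, map_one]
        rw [hμ, hμ', smul_mul_smul_comm, mul_one] at h1
        have h2 : (μ' * μ) • (1 : Module.End K W) = (1 : K) • (1 : Module.End K W) := by
          rw [h1, one_smul]
        exact smul_left_injective K h10 h2
      rw [hχZ g⁻¹ μ' hμ', hμ, smul_smul]
      congr 1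
      calc μ' * (finrank K W₁ : K) * μ = (finrank K W₁ : K) * (μ' * μ) := by ring
        _ = (finrank K W₁ : K) := by rw [hmm, mul_one]
    · rw [if_neg hg, zero_smul]
      have : g⁻¹ ∉ Subgroup.center Q := fun h => hg (by simpa using (Subgroup.center Q).inv_mem h)
      rw [hχ0 _ this, zero_smul]
  have hE : ∑ g : Q, χ g⁻¹ • σ g
      = ((finrank K W₁ : K) * (Nat.card (Subgroup.center Q) : K)) • (1 : Module.End K W) := by
    rw [Finset.sum_congr rfl (fun g _ => hterm g), ← Finset.sum_smul]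
    congr 1
    rw [← Finset.sum_filter, Finset.sum_const, nsmul_eq_mul, mul_comm]
    congr 2
    rw [Nat.card_eq_fintype_card, Fintype.card_subtype]
  -- (iv) orthogonality
  by_contra hcon
  push Not at hcon
  apply hW₂
  rw [Submodule.eq_bot_iff]
  intro w₂' hw₂'
  obtain ⟨w₂, rfl⟩ : ∃ w₂ : W₂, (w₂ : W) = w₂' := ⟨⟨w₂', hw₂'⟩, rfl⟩
  let b := Module.finBasis K W₁
  have hχb : ∀ g, χ g = ∑ i, b.coord i (τ₁ g (b i)) := by
    intro g
    show LinearMap.trace K W₁ (τ₁ g) = _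
    rw [LinearMap.trace_eq_matrix_trace K b, Matrix.trace]
    refine Finset.sum_congr rfl (fun i _ => ?_)
    rw [Matrix.diag_apply, LinearMap.toMatrix_apply, Module.Basis.coord_apply]
  have hA0 : ∀ i, ∑ g : Q, b.coord i (τ₁ g⁻¹ (b i)) • τ₂ g w₂ = 0 := by
    intro i
    let A : W₁ →ₗ[K] W₂ := ∑ g : Q, (τ₂ g) ∘ₗ ((b.coord i).smulRight w₂) ∘ₗ (τ₁ g⁻¹)
    have hAapp : ∀ w, A w = ∑ g : Q, b.coord i (τ₁ g⁻¹ w) • τ₂ g w₂ := by
      intro w
      simp [A, LinearMap.sum_apply]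
    have hAeq : ∀ h w, A (τ₁ h w) = τ₂ h (A w) := by
      intro h w
      rw [hAapp, hAapp, map_sum]
      refine (Fintype.sum_equiv (Equiv.mulLeft h) _ _ (fun g' => ?_)).symm
      simp only [Equiv.coe_mulLeft, map_smul]
      rw [← Module.End.mul_apply (τ₁ (h * g')⁻¹), ← map_mul, ← Module.End.mul_apply (τ₂ h),
        ← map_mul, mul_inv_rev, inv_mul_cancel_right]
    have hA : A = 0 := by
      by_contra hne
      obtain ⟨g, w, hgw⟩ := hcon A hne
      exact hgw (hAeq g w)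
    rw [← hAapp, hA]; rfl
  have hsum0 : ∑ g : Q, χ g⁻¹ • τ₂ g w₂ = 0 := by
    have : ∑ i, ∑ g : Q, b.coord i (τ₁ g⁻¹ (b i)) • τ₂ g w₂ = 0 :=
      Finset.sum_eq_zero (fun i _ => hA0 i)
    rw [Finset.sum_comm] at this
    rw [← this]
    refine Finset.sum_congr rfl (fun g _ => ?_)
    rw [hχb, Finset.sum_smul]
  have hsum1 := congrArg (fun A : Module.End K W => A (w₂ : W)) hE
  simp only [LinearMap.sum_apply, LinearMap.smul_apply, Module.End.one_apply] at hsum1
  have hsum2 : ∑ g : Q, χ g⁻¹ • σ g (w₂ : W) = 0 := by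
    have := congrArg Subtype.val hsum0
    simp only [Submodule.coe_sum, Submodule.coe_smul, hτ₂c, Submodule.coe_zero] at this
    exact this
  rw [hsum2] at hsum1
  have hne : (finrank K W₁ : K) * (Nat.card (Subgroup.center Q) : K) ≠ 0 := mul_ne_zero hd₁ hcZ
  exact (smul_eq_zero.mp hsum1.symm).resolve_left hne

end Cfsg.Agent.Lib.Helper3.HHC4
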