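import Mathlib
import Cfsg.Agent.Lib.Helper3.HHC1

/-!
# Hall–Higman Theorem B, part 5: a module irreducible under `Q` and `X`, all of whose simple
`Q`-submodules are linked by intertwiners, is irreducible under `Q` alone.
-/

namespace Cfsg.Agent.Lib.Helper3.HHC5

open Module Cfsg.Agent.Lib.Helper3.HHC1

theorem irr_of_homogeneous {K : Type*} [Field K] [IsAlgClosed K] {W : Type*} [AddCommGroup W]
    [Module K W] [FiniteDimensional K W] [Nontrivial W] {Q : Type*} [Group Q]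
    (σ : Representation K Q W) (X X' : Module.End K W) (hXX' : X * X' = 1) (hX'X : X' * X = 1)
    (φ : MulAut Q) (hcompat : ∀ g, X * σ g = σ (φ g) * X)
    (hirrX : ∀ U : Submodule K W, (∀ g, ∀ w ∈ U, σ g w ∈ U) → (∀ w ∈ U, X w ∈ U) →
      U = ⊥ ∨ U = ⊤)
    (hhom : ∀ (W₁ W₂ : Submodule K W) (h₁ : ∀ g, ∀ w ∈ W₁, σ g w ∈ W₁)
      (h₂ : ∀ g, ∀ w ∈ W₂, σ g w ∈ W₂), W₁ ≠ ⊥ → W₂ ≠ ⊥ →
      (∀ U : Submodule K W, U ≤ W₁ → (∀ g, ∀ w ∈ U, σ g w ∈ U) → U = ⊥ ∨ U = W₁) →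
      ∃ f : W₁ →ₗ[K] W₂, f ≠ 0 ∧ ∀ g w, f (resRep σ W₁ h₁ g w) = resRep σ W₂ h₂ g (f w)) :
    ∀ U : Submodule K W, (∀ g, ∀ w ∈ U, σ g w ∈ U) → U = ⊥ ∨ U = ⊤ := by
  classical
  obtain ⟨W₁, ⟨hW₁ne, hW₁inv⟩, hW₁min⟩ := IsArtinian.set_has_minimal
    {U : Submodule K W | U ≠ ⊥ ∧ ∀ g, ∀ w ∈ U, σ g w ∈ U}
    ⟨⊤, top_ne_bot, fun _ _ _ => trivial⟩
  have hW₁simple : ∀ U : Submodule K W, U ≤ W₁ → (∀ g, ∀ w ∈ U, σ g w ∈ U) →
      U = ⊥ ∨ U = W₁ := by
    intro U hU hUinv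
    by_cases hU0 : U = ⊥
    · exact Or.inl hU0
    · right
      by_contra hne
      exact hW₁min U ⟨hU0, hUinv⟩ (lt_of_le_of_ne hU hne)
  have hXinj : Function.Injective X := by
    intro a b hab
    have := congrArg X' hab
    rw [← Module.End.mul_apply, ← Module.End.mul_apply, hX'X] at this
    simpa using this
  have hX'inj : Function.Injective X' := by
    intro a b hab
    have := congrArg X hab
    rw [← Module.End.mul_apply, ← Module.End.mul_apply, hXX'] at this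
    simpa using this
  have hcompat' := compat_inv σ X X' hXX' hX'X φ hcompat
  have hσX : ∀ g v, σ g (X v) = X (σ (φ⁻¹ g) v) := by
    intro g v
    have h1 := hcompat (φ⁻¹ g)
    rw [MulAut.apply_inv_self] at h1
    have := congrArg (fun A : Module.End K W => A v) h1
    simp only [Module.End.mul_apply] at this
    exact this.symm
  have hX'σ : ∀ g v, X' (σ g v) = σ (φ⁻¹ g) (X' v) := by
    intro g v
    have := congrArg (fun A : Module.End K W => A v) (hcompat' g)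
    simp only [Module.End.mul_apply] at this
    exact this
  have h₂ : ∀ g, ∀ w ∈ W₁.map X, σ g w ∈ W₁.map X := by
    intro g w hw
    obtain ⟨v, hv, rfl⟩ := Submodule.mem_map.mp hw
    rw [hσX]
    exact Submodule.mem_map_of_mem (hW₁inv _ v hv)
  have hW₂ne : W₁.map X ≠ ⊥ := by
    obtain ⟨v, hv, hv0⟩ := Submodule.exists_mem_ne_zero_of_ne_bot hW₁ne
    intro h
    have : X v ∈ W₁.map X := Submodule.mem_map_of_mem hv
    rw [h, Submodule.mem_bot] at this
    exact hv0 (hXinj (by rw [this, map_zero]))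
  obtain ⟨f, hf0, hfeq⟩ := hhom W₁ (W₁.map X) hW₁inv h₂ hW₁ne hW₂ne hW₁simple
  -- a general injectivity principle for intertwiners out of `W₁`
  have hinj_of : ∀ {M : Type _} [AddCommGroup M] [Module K M] (θ : W₁ →ₗ[K] M),
      θ ≠ 0 → (∀ g (w : W₁), θ w = 0 → θ (resRep σ W₁ hW₁inv g w) = 0) →
      Function.Injective θ := by
    intro M _ _ θ hθ0 hθinv
    have hker : (LinearMap.ker θ).map W₁.subtype = ⊥ ∨ (LinearMap.ker θ).map W₁.subtype = W₁ := by
      refine hW₁simple _ (Submodule.map_subtype_le W₁ _) ?_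
      intro g w hw
      obtain ⟨v, hv, rfl⟩ := Submodule.mem_map.mp hw
      refine Submodule.mem_map.mpr ⟨resRep σ W₁ hW₁inv g v, ?_, rfl⟩
      exact LinearMap.mem_ker.mpr (hθinv g v (LinearMap.mem_ker.mp hv))
    rcases hker with h0 | h1
    · rw [← LinearMap.ker_eq_bot, Submodule.eq_bot_iff]
      intro w hw
      have : (w : W) ∈ (LinearMap.ker θ).map W₁.subtype := Submodule.mem_map.mpr ⟨w, hw, rfl⟩
      rw [h0, Submodule.mem_bot] at this
      exact Subtype.ext this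
    · exfalso
      apply hθ0
      refine LinearMap.ext (fun w => ?_)
      have : (w : W) ∈ (LinearMap.ker θ).map W₁.subtype := by rw [h1]; exact w.2
      obtain ⟨v, hv, hvw⟩ := Submodule.mem_map.mp this
      have : v = w := Subtype.ext hvw
      rw [← this]
      exact LinearMap.mem_ker.mp hv
  have hfinj : Function.Injective f := by
    refine hinj_of f hf0 (fun g w hw => ?_)
    rw [hfeq, hw, map_zero]
  -- the twist
  have hTmem : ∀ w : W₁, (X'.comp ((W₁.map X).subtype.comp f)) w ∈ W₁ := by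
    intro w
    obtain ⟨v, hv, hvw⟩ := Submodule.mem_map.mp (f w).2
    show X' ((f w : W₁.map X) : W) ∈ W₁
    rw [← hvw, ← Module.End.mul_apply, hX'X]
    exact hv
  let T : W₁ →ₗ[K] W₁ := LinearMap.codRestrict W₁ (X'.comp ((W₁.map X).subtype.comp f)) hTmem
  have hTcoe : ∀ w : W₁, ((T w : W₁) : W) = X' ((f w : W₁.map X) : W) := fun w => rfl
  have hTinj : Function.Injective T := by
    intro a b hab
    have h1 := congrArg Subtype.val hab
    rw [hTcoe, hTcoe] at h1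
    exact hfinj (Subtype.ext (hX'inj h1))
  have hTsurj : Function.Surjective T := LinearMap.injective_iff_surjective.mp hTinj
  have hTeq : ∀ g w, T (resRep σ W₁ hW₁inv g w) = resRep σ W₁ hW₁inv (φ⁻¹ g) (T w) := by
    intro g w
    apply Subtype.ext
    rw [hTcoe, resRep_coe, hTcoe, hfeq, resRep_coe, hX'σ]
  -- the space of intertwiners
  let HH : Submodule K (W₁ →ₗ[K] W) :=
    { carrier := {θ | ∀ g w, θ (resRep σ W₁ hW₁inv g w) = σ g (θ w)}
      add_mem' := by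
        intro a b ha hb g w
        rw [LinearMap.add_apply, LinearMap.add_apply, ha, hb, map_add]
      zero_mem' := by
        intro g w
        simp
      smul_mem' := by
        intro c a ha g w
        rw [LinearMap.smul_apply, LinearMap.smul_apply, ha, map_smul] }
  have hHHmem : ∀ θ : W₁ →ₗ[K] W, θ ∈ HH ↔ ∀ g w, θ (resRep σ W₁ hW₁inv g w) = σ g (θ w) :=
    fun θ => Iff.rfl
  let ΘL : (W₁ →ₗ[K] W) →ₗ[K] (W₁ →ₗ[K] W) :=
    { toFun := fun θ => X.comp (θ.comp T)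
      map_add' := by intro a b; ext w; simp
      map_smul' := by intro c a; ext w; simp }
  have hΘLapp : ∀ (θ : W₁ →ₗ[K] W) (w : W₁), ΘL θ w = X (θ (T w)) := fun θ w => rfl
  have hΘmem : ∀ θ ∈ HH, ΘL θ ∈ HH := by
    intro θ hθ
    rw [hHHmem] at hθ ⊢
    intro g w
    rw [hΘLapp, hΘLapp, hTeq, hθ, hσX]
  let Θ : Module.End K HH := ΘL.restrict hΘmem
  haveI : Nontrivial HH := by
    have hmem : W₁.subtype ∈ HH := by
      rw [hHHmem]
      intro g w
      rfl
    refine nontrivial_of_ne ⟨W₁.subtype, hmem⟩ 0 ?_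
    intro h
    apply hW₁ne
    rw [Submodule.eq_bot_iff]
    intro w hw
    have h1 := congrArg Subtype.val h
    have h2 := congrArg (fun θ : W₁ →ₗ[K] W => θ ⟨w, hw⟩) h1
    simpa using h2
  obtain ⟨c, hc⟩ := Module.End.exists_eigenvalue Θ
  obtain ⟨θ₀, hθ₀⟩ := hc.exists_hasEigenvector
  have hθ₀ne : (θ₀ : W₁ →ₗ[K] W) ≠ 0 := by
    intro h
    exact hθ₀.2 (Subtype.ext h)
  have hθ₀H := (hHHmem _).mp θ₀.2
  have hΘ₀ : ∀ w : W₁, X ((θ₀ : W₁ →ₗ[K] W) (T w)) = c • (θ₀ : W₁ →ₗ[K] W) w := by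
    intro w
    have h1 := congrArg Subtype.val hθ₀.apply_eq_smul
    have h2 := congrArg (fun θ : W₁ →ₗ[K] W => θ w) h1
    exact h2
  -- the range of the eigenvector
  have hrange : LinearMap.range (θ₀ : W₁ →ₗ[K] W) = ⊤ := by
    have h1 : ∀ g, ∀ w ∈ LinearMap.range (θ₀ : W₁ →ₗ[K] W),
        σ g w ∈ LinearMap.range (θ₀ : W₁ →ₗ[K] W) := by
      rintro g _ ⟨w, rfl⟩
      exact ⟨resRep σ W₁ hW₁inv g w, hθ₀H g w⟩
    have h2 : ∀ w ∈ LinearMap.range (θ₀ : W₁ →ₗ[K] W),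
        X w ∈ LinearMap.range (θ₀ : W₁ →ₗ[K] W) := by
      rintro _ ⟨w, rfl⟩
      obtain ⟨w', rfl⟩ := hTsurj w
      rw [hΘ₀]
      exact Submodule.smul_mem _ _ ⟨w', rfl⟩
    rcases hirrX _ h1 h2 with h0 | h0
    · exfalso
      apply hθ₀ne
      exact LinearMap.range_eq_bot.mp h0
    · exact h0
  have hθ₀inj : Function.Injective (θ₀ : W₁ →ₗ[K] W) := by
    refine hinj_of _ hθ₀ne (fun g w hw => ?_)
    rw [hθ₀H, hw, map_zero]
  have hfr : finrank K W₁ = finrank K W := by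
    rw [← LinearMap.finrank_range_of_inj hθ₀inj, hrange, finrank_top]
  have hW₁top : W₁ = ⊤ := Submodule.eq_top_of_finrank_eq hfr
  intro U hU
  have := hW₁simple U (by rw [hW₁top]; exact le_top) hU
  rwa [hW₁top] at this

end Cfsg.Agent.Lib.Helper3.HHC5
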