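import Mathlib
import Cfsg.Agent.Lib.Helper3.HHB1
import Cfsg.Agent.Lib.Helper3.HHB3
import Cfsg.Agent.Lib.Helper3.HHC1

/-!
# Hall–Higman Theorem B, part 6: Clifford theory with respect to the centre of `Q`.
-/

namespace Cfsg.Agent.Lib.Helper3.HHC6

open Module Cfsg.Agent.Lib.Helper3 Cfsg.Agent.Lib.Helper3.HHC1

/-- A simple invariant subspace gives an irreducible restricted representation. -/
theorem resRep_irr {K : Type*} [Field K] {W : Type*} [AddCommGroup W] [Module K W]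
    {Q : Type*} [Group Q] (σ : Representation K Q W) (W₁ : Submodule K W)
    (h₁ : ∀ g, ∀ w ∈ W₁, σ g w ∈ W₁)
    (hsimple : ∀ U : Submodule K W, U ≤ W₁ → (∀ g, ∀ w ∈ U, σ g w ∈ U) → U = ⊥ ∨ U = W₁) :
    ∀ U' : Submodule K W₁, (∀ g, U'.map (resRep σ W₁ h₁ g) ≤ U') → U' = ⊥ ∨ U' = ⊤ := by
  intro U hU
  have hle : U.map W₁.subtype ≤ W₁ := Submodule.map_subtype_le W₁ U
  have hinv : ∀ g, ∀ w ∈ U.map W₁.subtype, σ g w ∈ U.map W₁.subtype := by
    intro g w hw
    obtain ⟨e, he, rfl⟩ := Submodule.mem_map.mp hw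
    exact Submodule.mem_map.mpr ⟨resRep σ W₁ h₁ g e, hU g (Submodule.mem_map_of_mem he), rfl⟩
  rcases hsimple _ hle hinv with h0 | h1
  · left
    rw [Submodule.eq_bot_iff]
    intro e he
    have : (e : W) ∈ U.map W₁.subtype := Submodule.mem_map.mpr ⟨e, he, rfl⟩
    rw [h0, Submodule.mem_bot] at this
    exact Subtype.ext this
  · right
    rw [Submodule.eq_top_iff']
    intro e
    have : (e : W) ∈ U.map W₁.subtype := by rw [h1]; exact e.2
    obtain ⟨e', he', hee'⟩ := Submodule.mem_map.mp this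
    have : e' = e := Subtype.ext hee'
    rwa [← this]

/-- Existence of a simple invariant subspace. -/
theorem exists_simple {K : Type*} [Field K] {W : Type*} [AddCommGroup W] [Module K W]
    [FiniteDimensional K W] [Nontrivial W] {Q : Type*} [Group Q] (σ : Representation K Q W) :
    ∃ W₁ : Submodule K W, W₁ ≠ ⊥ ∧ (∀ g, ∀ w ∈ W₁, σ g w ∈ W₁) ∧
      ∀ U : Submodule K W, U ≤ W₁ → (∀ g, ∀ w ∈ U, σ g w ∈ U) → U = ⊥ ∨ U = W₁ := by
  obtain ⟨W₁, ⟨hW₁ne, hW₁inv⟩, hW₁min⟩ := IsArtinian.set_has_minimal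
    {U : Submodule K W | U ≠ ⊥ ∧ ∀ g, ∀ w ∈ U, σ g w ∈ U}
    ⟨⊤, top_ne_bot, fun _ _ _ => trivial⟩
  refine ⟨W₁, hW₁ne, hW₁inv, ?_⟩
  intro U hU hUinv
  by_cases hU0 : U = ⊥
  · exact Or.inl hU0
  · right
    by_contra hne
    exact hW₁min U ⟨hU0, hUinv⟩ (lt_of_le_of_ne hU hne)

theorem clifford_weights {K : Type*} [Field K] [IsAlgClosed K] (p : ℕ) [hp : Fact p.Prime]
    [CharP K p] {W : Type*} [AddCommGroup W] [Module K W] [FiniteDimensional K W] [Nontrivial W]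
    {Q : Type*} [Group Q] [Finite Q]
    (σ : Representation K Q W) (X : Module.End K W)
    (φ : MulAut Q) (hcompat : ∀ g, X * σ g = σ (φ g) * X) (N : ℕ) (hφP : φ ^ (p ^ N) = 1)
    (hirrX : ∀ U : Submodule K W, (∀ g, ∀ w ∈ U, σ g w ∈ U) → (∀ w ∈ U, X w ∈ U) →
      U = ⊥ ∨ U = ⊤) :
    ∃ (V₀ : Submodule K W) (j : ℕ), j ≤ N ∧ V₀ ≠ ⊥ ∧ (∀ g, ∀ w ∈ V₀, σ g w ∈ V₀) ∧
      (∀ w ∈ V₀, (X ^ (p ^ j)) w ∈ V₀) ∧
      (∀ z ∈ Subgroup.center Q, ∃ μ : K, ∀ w ∈ V₀, σ z w = μ • w) ∧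
      (j = 0 → V₀ = ⊤) ∧
      (⨆ i : ℕ, V₀.map (X ^ i)) = ⊤ ∧
      (∀ k, 1 ≤ k → ∀ w ∈ V₀, ((X ^ (p ^ j) - 1) ^ (k - 1)) w ≠ 0 →
        (X - 1) ^ (p ^ j * k - 1) ≠ 0) := by
  classical
  -- a simple submodule and its central character
  obtain ⟨W₁, hW₁ne, hW₁inv, hW₁simple⟩ := exists_simple σ
  haveI : Nontrivial W₁ := Submodule.nontrivial_iff_ne_bot.mpr hW₁ne
  have hτirr := resRep_irr σ W₁ hW₁inv hW₁simple
  have hsc : ∀ z : Q, z ∈ Subgroup.center Q → ∃ μ : K, ∀ w ∈ W₁, σ z w = μ • w := by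
    intro z hz
    obtain ⟨μ, hμ⟩ := HHB1.schur_scalar (resRep σ W₁ hW₁inv) hτirr (resRep σ W₁ hW₁inv z)
      (fun g => by rw [← map_mul, ← map_mul, Subgroup.mem_center_iff.mp hz g])
    refine ⟨μ, fun w hw => ?_⟩
    have := congrArg (fun A : Module.End K W₁ => ((A ⟨w, hw⟩ : W₁) : W)) hμ
    simpa [resRep_coe] using this
  let χ' : Q → K := fun g =>
    if h : g ∈ Subgroup.center Q then Classical.choose (hsc g h) else 0
  have hχ' : ∀ z ∈ Subgroup.center Q, ∀ w ∈ W₁, σ z w = χ' z • w := by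
    intro z hz w hw
    simp only [χ', dif_pos hz]
    exact Classical.choose_spec (hsc z hz) w hw
  have hχ'0 : ∀ g, g ∉ Subgroup.center Q → χ' g = 0 := by
    intro g hg
    simp only [χ', dif_neg hg]
  let f : Subgroup.center Q → Module.End K W := fun z => σ z.1
  let wt : (Q → K) → Submodule K W := fun ξ => ⨅ z : Subgroup.center Q,
    Module.End.eigenspace (f z) (ξ z.1)
  have mem_wt : ∀ (ξ : Q → K) (w : W), w ∈ wt ξ ↔ ∀ z ∈ Subgroup.center Q, σ z w = ξ z • w := by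
    intro ξ w
    simp only [wt, f, Submodule.mem_iInf, Module.End.mem_eigenspace_iff, Subtype.forall]
  let Ξ : ℕ → Q → K := fun i g => χ' ((φ ^ i)⁻¹ g)
  have hΞ0 : Ξ 0 = χ' := by
    funext g
    show χ' ((φ ^ 0)⁻¹ g) = χ' g
    rw [pow_zero, inv_one]
    rfl
  have hcenφ : ∀ (a : MulAut Q) (z : Q), z ∈ Subgroup.center Q → a z ∈ Subgroup.center Q := by
    intro a z hz
    rw [Subgroup.mem_center_iff] at hz ⊢
    intro g
    have h1 : g = a (a⁻¹ g) := (MulAut.apply_inv_self _ a g).symm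
    rw [h1, ← map_mul, hz, map_mul]
  have hcenφ' : ∀ (a : MulAut Q) (z : Q), z ∉ Subgroup.center Q → a z ∉ Subgroup.center Q := by
    intro a z hz h
    apply hz
    have := hcenφ a⁻¹ _ h
    rwa [MulAut.inv_apply_self] at this
  have hW₁V₀ : W₁ ≤ wt χ' := by
    intro w hw
    rw [mem_wt]
    exact fun z hz => hχ' z hz w hw
  have hV₀ne : wt χ' ≠ ⊥ := by
    intro h
    apply hW₁ne
    rw [eq_bot_iff, ← h]
    exact hW₁V₀
  have hσwt : ∀ (ξ : Q → K) g, ∀ w ∈ wt ξ, σ g w ∈ wt ξ := by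
    intro ξ g w hw
    rw [mem_wt] at hw ⊢
    intro z hz
    rw [← Module.End.mul_apply, ← map_mul, ← Subgroup.mem_center_iff.mp hz g, map_mul,
      Module.End.mul_apply, hw z hz, map_smul]
  have hXpow : ∀ (i : ℕ) (g : Q) (v : W), σ g ((X ^ i) v) = (X ^ i) (σ ((φ ^ i)⁻¹ g) v) := by
    intro i g v
    have h1 := compat_pow σ X φ hcompat i ((φ ^ i)⁻¹ g)
    rw [MulAut.apply_inv_self] at h1
    have := congrArg (fun A : Module.End K W => A v) h1
    simp only [Module.End.mul_apply] at this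
    exact this.symm
  have hXwt : ∀ i, ∀ w ∈ wt χ', (X ^ i) w ∈ wt (Ξ i) := by
    intro i w hw
    rw [mem_wt] at hw ⊢
    intro z hz
    rw [hXpow, hw _ (hcenφ _ z hz), map_smul]
  -- the period
  have hper : ∃ t, 0 < t ∧ Ξ t = Ξ 0 := by
    refine ⟨p ^ N, pow_pos hp.out.pos N, ?_⟩
    funext g
    simp [Ξ, hφP]
  obtain ⟨t, ht0, htΞ, htmin⟩ : ∃ t, 0 < t ∧ Ξ t = Ξ 0 ∧ ∀ m, 0 < m → m < t → Ξ m ≠ Ξ 0 := by
    refine ⟨Nat.find hper, (Nat.find_spec hper).1, (Nat.find_spec hper).2, ?_⟩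
    intro m hm0 hmt h
    exact Nat.find_min hper hmt ⟨hm0, h⟩
  have hΞadd : ∀ a b, Ξ a = Ξ 0 → Ξ (b + a) = Ξ b := by
    intro a b ha
    funext g
    have h1 : Ξ (b + a) g = Ξ a ((φ ^ b)⁻¹ g) := by
      show χ' ((φ ^ (b + a))⁻¹ g) = χ' ((φ ^ a)⁻¹ ((φ ^ b)⁻¹ g))
      rw [pow_add, mul_inv_rev, MulAut.mul_apply]
    rw [h1, ha, hΞ0]
  have hΞsub : ∀ a b, a ≤ b → Ξ a = Ξ b → Ξ (b - a) = Ξ 0 := by
    intro a b hab h
    funext g
    have h1 := congrFun h ((φ ^ a) g)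
    have h2 : Ξ a ((φ ^ a) g) = χ' g := by
      show χ' ((φ ^ a)⁻¹ ((φ ^ a) g)) = χ' g
      rw [MulAut.inv_apply_self]
    have h3 : Ξ b ((φ ^ a) g) = Ξ (b - a) g := by
      show χ' ((φ ^ b)⁻¹ ((φ ^ a) g)) = χ' ((φ ^ (b - a))⁻¹ g)
      rw [← MulAut.mul_apply, ← pow_mul_pow_sub φ hab, mul_inv_rev, inv_mul_cancel_right]
    rw [hΞ0, ← h3, ← h1, h2]
  have ht_dvd : t ∣ p ^ N := by
    have hk : ∀ k r, Ξ (k * t + r) = Ξ r := by
      intro k
      induction k with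
      | zero => intro r; simp
      | succ k ih =>
        intro r
        have : (k + 1) * t + r = (k * t + r) + t := by ring
        rw [this, hΞadd t _ htΞ, ih]
    have h1 : Ξ (p ^ N % t) = Ξ 0 := by
      have h2 := hk (p ^ N / t) (p ^ N % t)
      rw [Nat.div_add_mod'] at h2
      rw [← h2]
      funext g
      simp [Ξ, hφP]
    apply Nat.dvd_of_mod_eq_zero
    by_contra hne
    exact htmin _ (Nat.pos_of_ne_zero hne) (Nat.mod_lt _ ht0) h1
  obtain ⟨j, hjN, htj⟩ := (Nat.dvd_prime_pow hp.out).mp ht_dvd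
  have hinjΞ : ∀ a b, a < t → b < t → Ξ a = Ξ b → a = b := by
    have key : ∀ a b, a ≤ b → b < t → Ξ a = Ξ b → a = b := by
      intro a b hab hb h
      by_contra hne
      have hlt : a < b := lt_of_le_of_ne hab hne
      exact htmin (b - a) (Nat.sub_pos_of_lt hlt) (lt_of_le_of_lt (Nat.sub_le b a) hb)
        (hΞsub a b hab h)
    intro a b ha hb h
    rcases le_total a b with hab | hab
    · exact key a b hab hb h
    · exact (key b a hab ha h.symm).symm
  have hVle : ∀ i, (wt χ').map (X ^ i) ≤ wt (Ξ i) := by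
    intro i w hw
    obtain ⟨v, hv, rfl⟩ := Submodule.mem_map.mp hw
    exact hXwt i v hv
  have hXt : ∀ w ∈ wt χ', (X ^ t) w ∈ wt χ' := by
    intro w hw
    have := hXwt t w hw
    rwa [htΞ, hΞ0] at this
  -- the sum of the translates is everything
  have hVσ : ∀ (i : ℕ) g, ∀ w ∈ (wt χ').map (X ^ i), σ g w ∈ (wt χ').map (X ^ i) := by
    intro i g w hw
    obtain ⟨v, hv, rfl⟩ := Submodule.mem_map.mp hw
    rw [hXpow]
    exact Submodule.mem_map_of_mem (hσwt _ _ v hv)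
  have hV0 : (wt χ').map (X ^ 0) = wt χ' := by
    rw [pow_zero]
    exact Submodule.map_id _
  have hStop : (⨆ i : Fin t, (wt χ').map (X ^ (i : ℕ))) = ⊤ := by
    have h1 : ∀ g, ∀ w ∈ (⨆ i : Fin t, (wt χ').map (X ^ (i : ℕ))),
        σ g w ∈ (⨆ i : Fin t, (wt χ').map (X ^ (i : ℕ))) := by
      intro g w hw
      have hle : (⨆ i : Fin t, (wt χ').map (X ^ (i : ℕ))).map (σ g)
          ≤ ⨆ i : Fin t, (wt χ').map (X ^ (i : ℕ)) := by
        rw [Submodule.map_iSup]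
        refine iSup_le (fun i => le_iSup_of_le i ?_)
        intro w hw
        obtain ⟨v, hv, rfl⟩ := Submodule.mem_map.mp hw
        exact hVσ i g v hv
      exact hle (Submodule.mem_map_of_mem hw)
    have h2 : ∀ w ∈ (⨆ i : Fin t, (wt χ').map (X ^ (i : ℕ))),
        X w ∈ (⨆ i : Fin t, (wt χ').map (X ^ (i : ℕ))) := by
      intro w hw
      have hle : (⨆ i : Fin t, (wt χ').map (X ^ (i : ℕ))).map X
          ≤ ⨆ i : Fin t, (wt χ').map (X ^ (i : ℕ)) := by
        rw [Submodule.map_iSup]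
        refine iSup_le (fun i => ?_)
        intro w hw
        obtain ⟨v, hv, rfl⟩ := Submodule.mem_map.mp hw
        obtain ⟨u, hu, rfl⟩ := Submodule.mem_map.mp hv
        rw [← Module.End.mul_apply, ← pow_succ']
        by_cases hi : (i : ℕ) + 1 < t
        · exact Submodule.mem_iSup_of_mem (⟨(i : ℕ) + 1, hi⟩ : Fin t)
            (Submodule.mem_map_of_mem hu)
        · have hit : (i : ℕ) + 1 = t := by
            have := i.2
            omega
          rw [hit]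
          refine Submodule.mem_iSup_of_mem (⟨0, ht0⟩ : Fin t) ?_
          show (X ^ t) u ∈ (wt χ').map (X ^ 0)
          rw [hV0]
          exact hXt u hu
      exact hle (Submodule.mem_map_of_mem hw)
    rcases hirrX _ h1 h2 with h0 | h0
    · exfalso
      apply hV₀ne
      rw [eq_bot_iff, ← h0]
      refine le_trans (le_of_eq hV0.symm) ?_
      exact le_iSup (fun i : Fin t => (wt χ').map (X ^ (i : ℕ))) ⟨0, ht0⟩
    · exact h0
  -- independence
  have hind : iSupIndep (fun i : Fin t => (wt χ').map (X ^ (i : ℕ))) := by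
    have hmaps : ∀ (z₁ z₂ : Subgroup.center Q) (μ : K),
        Set.MapsTo (f z₁) ((f z₂).maxGenEigenspace μ) ((f z₂).maxGenEigenspace μ) := by
      intro z₁ z₂ μ
      apply Module.End.mapsTo_maxGenEigenspace_of_comm
      show σ z₂.1 * σ z₁.1 = σ z₁.1 * σ z₂.1
      rw [← map_mul, ← map_mul, Subgroup.mem_center_iff.mp z₁.2 z₂.1]
    have ind := Module.End.independent_iInf_maxGenEigenspace_of_forall_mapsTo f hmaps
    have hinj : Function.Injective
        (fun (i : Fin t) => (fun z : Subgroup.center Q => Ξ (i : ℕ) z.1)) := by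
      intro a b hab
      apply Fin.ext
      apply hinjΞ _ _ a.2 b.2
      funext g
      by_cases hg : g ∈ Subgroup.center Q
      · exact congrFun hab ⟨g, hg⟩
      · show χ' ((φ ^ (a : ℕ))⁻¹ g) = χ' ((φ ^ (b : ℕ))⁻¹ g)
        rw [hχ'0 _ (hcenφ' _ g hg), hχ'0 _ (hcenφ' _ g hg)]
    refine (ind.comp hinj).mono (fun i => ?_)
    refine le_trans (hVle i) ?_
    exact le_iInf (fun z => (iInf_le _ z).trans Module.End.eigenspace_le_maxGenEigenspace)
  subst htj
  refine ⟨wt χ', j, hjN, hV₀ne, hσwt χ', hXt, ?_, ?_, ?_, ?_⟩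
  · intro z hz
    exact ⟨χ' z, fun w hw => (mem_wt χ' w).mp hw z hz⟩
  · intro hj0
    rw [hj0, pow_zero] at hXt
    have hX1 : ∀ w ∈ wt χ', X w ∈ wt χ' := by
      intro w hw
      have := hXt w hw
      rwa [pow_one] at this
    rcases hirrX _ (hσwt χ') hX1 with h0 | h0
    · exact absurd h0 hV₀ne
    · exact h0
  · rw [eq_top_iff, ← hStop]
    exact iSup_le (fun i => le_iSup (fun i : ℕ => (wt χ').map (X ^ i)) (i : ℕ))
  · intro k hk w hw hne hzero
    obtain ⟨k', rfl⟩ : ∃ k', k = k' + 1 := ⟨k - 1, by omega⟩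
    simp only [Nat.add_sub_cancel] at hne
    obtain ⟨t', ht'⟩ : ∃ t', p ^ j = t' + 1 := ⟨p ^ j - 1, by omega⟩
    have hexp : p ^ j * (k' + 1) - 1 = (p ^ j - 1) + p ^ j * k' := by
      rw [Nat.mul_succ]
      omega
    have hid : (X - 1) ^ (p ^ j * (k' + 1) - 1)
        = (∑ i ∈ Finset.range (p ^ j), X ^ i) * (X ^ (p ^ j) - 1) ^ k' := by
      rw [hexp, pow_add, pow_mul, HHB3.alg_sub_one_pow (K := K) p j X,
        HHB3.alg_geom_sum_eq_pow (K := K) p j X]
    have hw'' : ((X ^ (p ^ j) - 1) ^ k') w ∈ wt χ' := sub_one_pow_mem _ _ hXt k' w hw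
    have h1 := congrArg (fun A : Module.End K W => A w) hzero
    simp only [hid, Module.End.mul_apply, LinearMap.sum_apply, LinearMap.zero_apply] at h1
    have h1' : ∑ i ∈ Finset.range (t' + 1), (X ^ i) (((X ^ (p ^ j) - 1) ^ k') w) = 0 := by
      rw [← ht']; exact h1
    rw [Finset.sum_range_succ', pow_zero, Module.End.one_apply] at h1'
    have h2 : ((X ^ (p ^ j) - 1) ^ k') w
        = -∑ i ∈ Finset.range t', (X ^ (i + 1)) (((X ^ (p ^ j) - 1) ^ k') w) :=
      eq_neg_of_add_eq_zero_right h1'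
    have hdis := hind ⟨0, ht0⟩
    rw [Submodule.disjoint_def] at hdis
    apply hne
    apply hdis
    · show ((X ^ (p ^ j) - 1) ^ k') w ∈ (wt χ').map (X ^ 0)
      rw [hV0]
      exact hw''
    · rw [h2]
      refine Submodule.neg_mem _ (Submodule.sum_mem _ (fun i hi => ?_))
      have hi' : i + 1 < p ^ j := by
        have := Finset.mem_range.mp hi
        omega
      have hne' : (⟨i + 1, hi'⟩ : Fin (p ^ j)) ≠ ⟨0, ht0⟩ := by
        intro h
        have := congrArg Fin.val h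
        simp at this
      exact Submodule.mem_iSup_of_mem (⟨i + 1, hi'⟩ : Fin (p ^ j))
        (Submodule.mem_iSup_of_mem hne' (Submodule.mem_map_of_mem hw''))

end Cfsg.Agent.Lib.Helper3.HHC6
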