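import Mathlib

/-!
# Shult-type theorem, part C: orbit counting and the fixed space of a monomial operator.
-/

set_option autoImplicit false
set_option maxHeartbeats 4000000
set_option maxRecDepth 100000
set_option linter.unusedVariables false
set_option linter.unusedSectionVars false
set_option linter.style.haveILetI false
set_option linter.deprecated false

namespace Cfsg.Agent.Lib.Helper3.Sh

open Module

/-- Orbit counting for a permutation of prime order. -/
theorem orbit_count {ι : Type*} [Finite ι] (π : Equiv.Perm ι) (p : ℕ) (hp : p.Prime)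
    (hπp : π ^ p = 1) (hπ1 : π ≠ 1) :
    p * Nat.card (MulAction.orbitRel.Quotient (Subgroup.zpowers π) ι)
      = Nat.card ι + (p - 1) * Nat.card {i : ι // π i = i} := by
  classical
  haveI : Fact p.Prime := ⟨hp⟩
  haveI : Fintype ι := Fintype.ofFinite ι
  haveI : Fintype (Subgroup.zpowers π) := Fintype.ofFinite _
  haveI : Fintype (MulAction.orbitRel.Quotient (Subgroup.zpowers π) ι) := Fintype.ofFinite _
  have hB := MulAction.sum_card_fixedBy_eq_card_orbits_mul_card_group (Subgroup.zpowers π) ι
  have hord : orderOf π = p := orderOf_eq_prime hπp hπ1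
  have hcardG : Fintype.card (Subgroup.zpowers π) = p := by
    rw [← Nat.card_eq_fintype_card, Nat.card_zpowers, hord]
  rw [hcardG] at hB
  have h1 : Fintype.card (MulAction.fixedBy ι (1 : Subgroup.zpowers π)) = Nat.card ι := by
    rw [← Nat.card_eq_fintype_card]
    refine Nat.card_congr (Equiv.subtypeUnivEquiv (fun i => ?_))
    show (1 : Subgroup.zpowers π) • i = i
    exact one_smul _ i
  have h2 : ∀ a : Subgroup.zpowers π, a ≠ 1 →
      Fintype.card (MulAction.fixedBy ι a) = Nat.card {i : ι // π i = i} := by
    intro a ha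
    rw [← Nat.card_eq_fintype_card]
    have ha1 : (a : Equiv.Perm ι) ≠ 1 := fun h => ha (Subtype.ext h)
    obtain ⟨k, hk⟩ := Subgroup.mem_zpowers_iff.mp a.2
    have hap : (a : Equiv.Perm ι) ^ p = 1 := by
      rw [← hk, ← zpow_natCast, ← zpow_mul, mul_comm, zpow_mul, zpow_natCast, hπp, one_zpow]
    have horda : orderOf (a : Equiv.Perm ι) = p := orderOf_eq_prime hap ha1
    have hle : Subgroup.zpowers (a : Equiv.Perm ι) ≤ Subgroup.zpowers π :=
      Subgroup.zpowers_le.mpr a.2
    have heq : Subgroup.zpowers (a : Equiv.Perm ι) = Subgroup.zpowers π := by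
      apply Subgroup.eq_of_le_of_card_ge hle
      rw [Nat.card_zpowers, Nat.card_zpowers, hord, horda]
    have hπmem : π ∈ Subgroup.zpowers (a : Equiv.Perm ι) := by
      rw [heq]; exact Subgroup.mem_zpowers π
    obtain ⟨m, hm⟩ := Subgroup.mem_zpowers_iff.mp hπmem
    refine Nat.card_congr (Equiv.subtypeEquivRight (fun i => ?_))
    show a • i = i ↔ π i = i
    constructor
    · intro h
      have h' : (a : Equiv.Perm ι) i = i := h
      rw [← hm]
      exact Equiv.Perm.zpow_apply_eq_self_of_apply_eq_self h' m
    · intro h
      show (a : Equiv.Perm ι) i = i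
      rw [← hk]
      exact Equiv.Perm.zpow_apply_eq_self_of_apply_eq_self h k
  have hsum : (∑ a : Subgroup.zpowers π, Fintype.card (MulAction.fixedBy ι a))
      = Nat.card ι + (p - 1) * Nat.card {i : ι // π i = i} := by
    rw [← Finset.add_sum_erase Finset.univ _ (Finset.mem_univ (1 : Subgroup.zpowers π)), h1]
    congr 1
    rw [Finset.sum_congr rfl (fun a ha => h2 a (Finset.ne_of_mem_erase ha)), Finset.sum_const,
      Finset.card_erase_of_mem (Finset.mem_univ _), Finset.card_univ, hcardG, smul_eq_mul]
  rw [← hsum, hB, Nat.card_eq_fintype_card, mul_comm]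

/-- The fixed space of a monomial operator of finite invertible order has dimension at most
the number of orbits of the underlying permutation. -/
theorem finrank_fixed_le_orbits {K : Type*} [Field K] {V : Type*} [AddCommGroup V] [Module K V]
    [FiniteDimensional K V] {ι : Type*} [Finite ι] (u : ι → V)
    (hu : Submodule.span K (Set.range u) = ⊤) (π : Equiv.Perm ι) (A : Module.End K V)
    (hA : ∀ i, ∃ c : K, c ≠ 0 ∧ A (u i) = c • u (π i)) (p : ℕ) (hpK : (p : K) ≠ 0)
    (hAp : A ^ p = 1) :
    finrank K (LinearMap.ker (A - 1))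
      ≤ Nat.card (MulAction.orbitRel.Quotient (Subgroup.zpowers π) ι) := by
  classical
  haveI : Fintype (MulAction.orbitRel.Quotient (Subgroup.zpowers π) ι) := Fintype.ofFinite _
  obtain ⟨P, hPdef⟩ : ∃ P : Module.End K V, P = ∑ k ∈ Finset.range p, A ^ k := ⟨_, rfl⟩
  have hPA : P * A = P := by
    have h1 : P * A = ∑ k ∈ Finset.range p, A ^ (k + 1) := by
      rw [hPdef, Finset.sum_mul]
      exact Finset.sum_congr rfl (fun k _ => (pow_succ A k).symm)
    have h2 : (∑ k ∈ Finset.range p, A ^ (k + 1)) + 1 = P + 1 := by
      have := Finset.sum_range_succ' (fun k => A ^ k) p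
      simp only [pow_zero] at this
      rw [← this, Finset.sum_range_succ, hAp, hPdef]
    rw [h1]
    exact add_right_cancel h2
  -- the lines
  have hline : ∀ i, Submodule.span K {P (u (π i))} = Submodule.span K {P (u i)} := by
    intro i
    obtain ⟨c, hc, hci⟩ := hA i
    have h1 : P (u (π i)) = c⁻¹ • P (u i) := by
      have h2 : P (A (u i)) = P (u i) := by rw [← Module.End.mul_apply, hPA]
      rw [hci, map_smul] at h2
      rw [← h2, smul_smul, inv_mul_cancel₀ hc, one_smul]
    rw [h1]
    exact Submodule.span_singleton_smul_eq (IsUnit.mk0 _ (inv_ne_zero hc)) _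
  let S : Subgroup (Equiv.Perm ι) :=
    { carrier := {a | ∀ i, Submodule.span K {P (u (a i))} = Submodule.span K {P (u i)}}
      one_mem' := fun i => rfl
      mul_mem' := by
        intro a b ha hb i
        show Submodule.span K {P (u (a (b i)))} = _
        rw [ha (b i), hb i]
      inv_mem' := by
        intro a ha i
        have := ha (a⁻¹ i)
        have h2 : a (a⁻¹ i) = i := by
          rw [← Equiv.Perm.mul_apply, mul_inv_cancel]; rfl
        rw [h2] at this
        exact this.symm }
  have hS : Subgroup.zpowers π ≤ S := Subgroup.zpowers_le.mpr hline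
  have hrep : ∀ i, Submodule.span K {P (u i)}
      = Submodule.span K {P (u (Quotient.out (Quotient.mk'' i :
          MulAction.orbitRel.Quotient (Subgroup.zpowers π) ι)))} := by
    intro i
    have h1 : (Quotient.mk'' (Quotient.out (Quotient.mk'' i :
          MulAction.orbitRel.Quotient (Subgroup.zpowers π) ι)) :
          MulAction.orbitRel.Quotient (Subgroup.zpowers π) ι) = Quotient.mk'' i :=
      Quotient.out_eq' _
    have h2 := Quotient.exact' h1
    rw [MulAction.orbitRel_apply] at h2
    obtain ⟨a, ha⟩ := h2
    have h3 := hS a.2 i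
    have h4 : (a : Equiv.Perm ι) i = Quotient.out (Quotient.mk'' i :
          MulAction.orbitRel.Quotient (Subgroup.zpowers π) ι) := ha
    rw [h4] at h3
    exact h3.symm
  have hker : LinearMap.ker (A - 1) ≤ Submodule.span K (Set.range
      (fun o : MulAction.orbitRel.Quotient (Subgroup.zpowers π) ι => P (u (Quotient.out o)))) := by
    intro T hT
    rw [LinearMap.mem_ker, LinearMap.sub_apply, Module.End.one_apply, sub_eq_zero] at hT
    have hpow : ∀ k : ℕ, (A ^ k) T = T := by
      intro k
      induction k with
      | zero => rfl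
      | succ k ih => rw [pow_succ, Module.End.mul_apply, hT, ih]
    have hPT : P T = (p : K) • T := by
      rw [hPdef, LinearMap.sum_apply]
      simp only [hpow, Finset.sum_const, Finset.card_range]
      rw [Nat.cast_smul_eq_nsmul]
    have hT' : T = (p : K)⁻¹ • P T := by
      rw [hPT, smul_smul, inv_mul_cancel₀ hpK, one_smul]
    rw [hT']
    refine Submodule.smul_mem _ _ ?_
    have hmem : P T ∈ Submodule.map P (Submodule.span K (Set.range u)) :=
      Submodule.mem_map_of_mem (by rw [hu]; trivial)
    rw [Submodule.map_span] at hmem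
    refine (Submodule.span_le.mpr ?_) hmem
    rintro _ ⟨_, ⟨i, rfl⟩, rfl⟩
    have h1 : P (u i) ∈ Submodule.span K {P (u i)} := Submodule.mem_span_singleton_self _
    rw [hrep i] at h1
    refine (Submodule.span_mono ?_) h1
    rintro _ rfl
    exact ⟨_, rfl⟩
  calc finrank K (LinearMap.ker (A - 1))
      ≤ finrank K (Submodule.span K (Set.range
        (fun o : MulAction.orbitRel.Quotient (Subgroup.zpowers π) ι => P (u (Quotient.out o))))) :=
        Submodule.finrank_mono hker
    _ ≤ Fintype.card (MulAction.orbitRel.Quotient (Subgroup.zpowers π) ι) :=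
        finrank_range_le_card _
    _ = Nat.card (MulAction.orbitRel.Quotient (Subgroup.zpowers π) ι) :=
        Nat.card_eq_fintype_card.symm

end Cfsg.Agent.Lib.Helper3.Sh
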