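import Mathlib
import Cfsg.Agent.Lib.Helper3.HHC1
import Cfsg.Agent.Lib.Helper3.HHB1
import Cfsg.Agent.Lib.Helper3.ShA

/-!
# Shult-type theorem, part E: the centre acts by scalars; counting the quotient by the centre.
-/

set_option autoImplicit false
set_option maxHeartbeats 4000000
set_option maxRecDepth 100000
set_option linter.unusedVariables false
set_option linter.unusedSectionVars false
set_option linter.style.haveILetI false
set_option linter.deprecated false

namespace Cfsg.Agent.Lib.Helper3.Sh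

open Module Cfsg.Agent.Lib.Helper3.HHC1

/-- In an `(σ, X)`-irreducible configuration with `X` of prime order without fixed vectors, the
centre of `Q` acts by scalars. -/
theorem center_scalar {K : Type*} [Field K] [IsAlgClosed K] {Q : Type*} [Group Q] [Finite Q]
    {W : Type*} [AddCommGroup W] [Module K W] [FiniteDimensional K W] [Nontrivial W]
    (σ : Representation K Q W) (X X' : Module.End K W) (hXX' : X * X' = 1) (hX'X : X' * X = 1)
    (φ : MulAut Q) (hcompat : ∀ g, X * σ g = σ (φ g) * X) (p : ℕ) (hp : p.Prime)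
    (hXP : X ^ p = 1) (hNX : ∑ i ∈ Finset.range p, X ^ i = 0) (hφP : φ ^ p = 1)
    (hcardK : (Nat.card Q : K) ≠ 0)
    (hirrX : ∀ U : Submodule K W, (∀ g, ∀ w ∈ U, σ g w ∈ U) → (∀ w ∈ U, X w ∈ U) →
      U = ⊥ ∨ U = ⊤) :
    ∀ z ∈ Subgroup.center Q, ∃ μ : K, σ z = μ • (1 : Module.End K W) := by
  classical
  obtain ⟨f, hfdef⟩ : ∃ f : Q → Module.End K W,
      f = fun g => if g ∈ Subgroup.center Q then σ g else 1 := ⟨_, rfl⟩
  have hfZ : ∀ g ∈ Subgroup.center Q, f g = σ g := by
    intro g hg; rw [hfdef]; exact if_pos hg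
  have hfnZ : ∀ g, g ∉ Subgroup.center Q → f g = 1 := by
    intro g hg; rw [hfdef]; exact if_neg hg
  have hcenφ : ∀ (ψ : MulAut Q) (g : Q), g ∈ Subgroup.center Q ↔ ψ g ∈ Subgroup.center Q := by
    intro ψ g
    constructor
    · intro hg
      rw [Subgroup.mem_center_iff] at hg ⊢
      intro h
      have h2 := congrArg ψ (hg (ψ⁻¹ h))
      rw [map_mul, map_mul, MulAut.apply_inv_self] at h2
      exact h2
    · intro hg
      rw [Subgroup.mem_center_iff] at hg ⊢
      intro h
      have := hg (ψ h)
      rw [← map_mul, ← map_mul] at this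
      exact ψ.injective this
  have hfc : ∀ i j, Commute (f i) (f j) := by
    intro i j
    by_cases hi : i ∈ Subgroup.center Q
    · by_cases hj : j ∈ Subgroup.center Q
      · rw [hfZ i hi, hfZ j hj]
        show σ i * σ j = σ j * σ i
        rw [← map_mul, ← map_mul, (Subgroup.mem_center_iff.mp hi j)]
      · rw [hfnZ j hj]; exact Commute.one_right _
    · rw [hfnZ i hi]; exact Commute.one_left _
  have hfs : ∀ i, (f i).IsSemisimple := by
    intro i
    refine isSemisimple_of_pow_eq_one (f i) (Nat.card Q) hcardK ?_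
    by_cases hi : i ∈ Subgroup.center Q
    · rw [hfZ i hi, ← map_pow, pow_card_eq_one', map_one]
    · rw [hfnZ i hi, one_pow]
  have hfcompat : ∀ (k : ℕ) (h : Q), X ^ k * f h = f ((φ ^ k) h) * X ^ k := by
    intro k h
    by_cases hh : h ∈ Subgroup.center Q
    · rw [hfZ h hh, hfZ _ ((hcenφ (φ ^ k) h).mp hh)]
      exact compat_pow σ X φ hcompat k h
    · rw [hfnZ h hh, hfnZ _ (fun hc => hh ((hcenφ (φ ^ k) h).mpr hc)), mul_one, one_mul]
  have hfσ : ∀ g h, σ g * f h = f h * σ g := by
    intro g h
    by_cases hh : h ∈ Subgroup.center Q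
    · rw [hfZ h hh, ← map_mul, ← map_mul, (Subgroup.mem_center_iff.mp hh g)]
    · rw [hfnZ h hh, mul_one, one_mul]
  have hsup := iSup_wt f hfc hfs
  have hindep := wt_indep f hfc
  obtain ⟨χ, hχ⟩ : ∃ χ, wt f χ ≠ ⊥ := by
    by_contra hcon
    push Not at hcon
    obtain ⟨w, hw⟩ := exists_ne (0 : W)
    have h1 : w ∈ (⨆ χ, wt f χ) := by rw [hsup]; trivial
    simp only [hcon, iSup_bot, Submodule.mem_bot] at h1
    exact hw h1
  have hXwt : ∀ (k : ℕ) (χ' : Q → K) (w : W), w ∈ wt f χ' →
      (X ^ k) w ∈ wt f (fun g => χ' ((φ ^ k)⁻¹ g)) := by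
    intro k χ' w hw
    rw [mem_wt] at hw ⊢
    intro g
    have h1 := hfcompat k ((φ ^ k)⁻¹ g)
    rw [MulAut.apply_inv_self] at h1
    calc f g ((X ^ k) w) = (f g * X ^ k) w := rfl
      _ = (X ^ k * f ((φ ^ k)⁻¹ g)) w := by rw [h1]
      _ = (X ^ k) (f ((φ ^ k)⁻¹ g) w) := rfl
      _ = χ' ((φ ^ k)⁻¹ g) • (X ^ k) w := by rw [hw, map_smul]
  let St : Subgroup (MulAut Q) :=
    { carrier := {ψ | ∀ g, χ (ψ g) = χ g}
      one_mem' := fun g => rfl
      mul_mem' := by
        intro a b ha hb g
        show χ (a (b g)) = χ g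
        rw [ha, hb]
      inv_mem' := by
        intro a ha g
        have := ha (a⁻¹ g)
        rw [MulAut.apply_inv_self] at this
        exact this.symm }
  by_cases hst : φ ∈ St
  · -- the weight space is invariant, hence everything
    have hinv : φ⁻¹ ∈ St := St.inv_mem hst
    have hXU : ∀ w ∈ wt f χ, X w ∈ wt f χ := by
      intro w hw
      have h1 := hXwt 1 χ w hw
      have h2 : (fun g => χ ((φ ^ 1)⁻¹ g)) = χ := by
        funext g
        rw [pow_one]
        exact hinv g
      rw [h2, pow_one] at h1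
      exact h1
    have hσU : ∀ g, ∀ w ∈ wt f χ, σ g w ∈ wt f χ := by
      intro g w hw
      rw [mem_wt] at hw ⊢
      intro h
      calc f h (σ g w) = (f h * σ g) w := rfl
        _ = (σ g * f h) w := by rw [hfσ]
        _ = σ g (f h w) := rfl
        _ = χ h • σ g w := by rw [hw, map_smul]
    rcases hirrX _ hσU hXU with h | h
    · exact absurd h hχ
    · intro z hz
      refine ⟨χ z, LinearMap.ext (fun w => ?_)⟩
      have hw : w ∈ wt f χ := by rw [h]; trivial
      rw [mem_wt] at hw
      have := hw z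
      rw [hfZ z hz] at this
      rw [this]; rfl
  · -- the weights `χ ∘ φ^{-k}` are pairwise distinct: contradiction
    exfalso
    have hinj : Function.Injective (fun k : Fin p => (fun g => χ ((φ ^ (k : ℕ))⁻¹ g))) := by
      intro i j hij
      by_contra hne
      have key : ∀ a b : ℕ, a < b → b < p →
          (fun g => χ ((φ ^ a)⁻¹ g)) = (fun g => χ ((φ ^ b)⁻¹ g)) → False := by
        intro a b hab hbp heq
        have hmem : φ ^ (b - a) ∈ St := by
          intro g
          have h1 : χ ((φ ^ a)⁻¹ ((φ ^ b) g)) = χ ((φ ^ b)⁻¹ ((φ ^ b) g)) :=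
            congrFun heq ((φ ^ b) g)
          rw [MulAut.inv_apply_self] at h1
          have h2 : (φ ^ a)⁻¹ ((φ ^ b) g) = (φ ^ (b - a)) g := by
            have h3 : φ ^ b = φ ^ a * φ ^ (b - a) := by
              rw [← pow_add]; congr 1; omega
            rw [h3, MulAut.mul_apply, MulAut.inv_apply_self]
          rw [h2] at h1
          exact h1
        have hcop : (b - a).Coprime (orderOf φ) := by
          have hdvd : orderOf φ ∣ p := orderOf_dvd_of_pow_eq_one hφP
          rcases (Nat.dvd_prime hp).mp hdvd with h1 | h1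
          · rw [h1]; exact Nat.coprime_one_right _
          · rw [h1]
            exact ((Nat.Prime.coprime_iff_not_dvd hp).mpr
              (Nat.not_dvd_of_pos_of_lt (by omega) (by omega))).symm
        obtain ⟨m, hm⟩ := exists_pow_eq_self_of_coprime hcop
        apply hst
        rw [← hm]
        exact St.pow_mem hmem m
      rcases Nat.lt_or_ge (i : ℕ) (j : ℕ) with h | h
      · exact key i j h j.2 hij
      · have h' : (j : ℕ) < i := lt_of_le_of_ne h (fun hc => hne (Fin.ext hc.symm))
        exact key j i h' i.2 hij.symm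
    have hindep' : iSupIndep (fun k : Fin p => wt f (fun g => χ ((φ ^ (k : ℕ))⁻¹ g))) :=
      hindep.comp hinj
    obtain ⟨w, hw, hw0⟩ := Submodule.exists_mem_ne_zero_of_ne_bot hχ
    have hsum : ∑ k : Fin p, (X ^ (k : ℕ)) w = 0 := by
      rw [Fin.sum_univ_eq_sum_range (fun k => (X ^ k) w) p, ← LinearMap.sum_apply, hNX]; rfl
    have hp0 : 0 < p := hp.pos
    have h0 := eq_zero_of_sum_eq_zero hindep' Finset.univ (fun k : Fin p => (X ^ (k : ℕ)) w)
      (fun k _ => hXwt k χ w hw) hsum ⟨0, hp0⟩ (Finset.mem_univ _)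
    simp only [pow_zero] at h0
    exact hw0 h0

/-- Counting the quotient by the centre for a faithful-on-`Q/Z` irreducible representation. -/
theorem quot_center_count {K : Type*} [Field K] [IsAlgClosed K] {Q : Type*} [Group Q] [Finite Q]
    {W : Type*} [AddCommGroup W] [Module K W] [FiniteDimensional K W] [Nontrivial W]
    (σ : Representation K Q W)
    (hirr : ∀ U : Submodule K W, (∀ g, Submodule.map (σ g) U ≤ U) → U = ⊥ ∨ U = ⊤)
    (hZsc : ∀ z ∈ Subgroup.center Q, ∃ μ : K, σ z = μ • (1 : Module.End K W))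
    (hnc : ∀ g, g ∉ Subgroup.center Q →
      ∃ (h : Q) (c : K), c ≠ 1 ∧ σ h * σ g = c • (σ g * σ h))
    (hnK : (finrank K W : K) ≠ 0) (hcardK : (Nat.card Q : K) ≠ 0) :
    (∀ g : Q, ∃ μ : K, μ ≠ 0 ∧
      σ g = μ • σ (Quotient.out (g : Q ⧸ Subgroup.center Q))) ∧
    Submodule.span K (Set.range (fun c : Q ⧸ Subgroup.center Q => σ (Quotient.out c))) = ⊤ ∧
    Nat.card (Q ⧸ Subgroup.center Q) = (finrank K W) ^ 2 := by
  classical
  haveI : Fintype Q := Fintype.ofFinite Q
  haveI : Fintype (Q ⧸ Subgroup.center Q) := Fintype.ofFinite _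
  obtain ⟨w0, hw0⟩ := exists_ne (0 : W)
  have hσne : ∀ g : Q, σ g ≠ 0 := by
    intro g h0
    have h1 : σ g⁻¹ * σ g = 1 := by rw [← map_mul, inv_mul_cancel, map_one]
    rw [h0, mul_zero] at h1
    have := congrArg (fun A : Module.End K W => A w0) h1
    simp only [LinearMap.zero_apply, Module.End.one_apply] at this
    exact hw0 this.symm
  have hout : ∀ g : Q, ∃ μ : K, μ ≠ 0 ∧
      σ g = μ • σ (Quotient.out (g : Q ⧸ Subgroup.center Q)) := by
    intro g
    have h1 : ((Quotient.out (g : Q ⧸ Subgroup.center Q) : Q) : Q ⧸ Subgroup.center Q) = g :=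
      QuotientGroup.out_eq' _
    have h2 : (Quotient.out (g : Q ⧸ Subgroup.center Q))⁻¹ * g ∈ Subgroup.center Q :=
      QuotientGroup.eq.mp h1
    obtain ⟨μ, hμ⟩ := hZsc _ h2
    have h3 : σ g = μ • σ (Quotient.out (g : Q ⧸ Subgroup.center Q)) := by
      have h4 : g = Quotient.out (g : Q ⧸ Subgroup.center Q)
          * ((Quotient.out (g : Q ⧸ Subgroup.center Q))⁻¹ * g) := by group
      conv_lhs => rw [h4]
      rw [map_mul, hμ, mul_smul_comm, mul_one]
    refine ⟨μ, ?_, h3⟩
    intro hμ0
    rw [hμ0, zero_smul] at h3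
    exact hσne g h3
  have hspan : Submodule.span K
      (Set.range (fun c : Q ⧸ Subgroup.center Q => σ (Quotient.out c))) = ⊤ := by
    rw [eq_top_iff]
    intro T _
    have hF := HHB1.fourier σ hirr T
    have hcardK' : (Fintype.card Q : K) ≠ 0 := by
      rw [← Nat.card_eq_fintype_card]; exact hcardK
    have hT : T = (Fintype.card Q : K)⁻¹ • ((finrank K W : K) •
        (∑ h : Q, (LinearMap.trace K W (T * σ h⁻¹)) • σ h)) := by
      rw [hF, smul_smul, inv_mul_cancel₀ hcardK', one_smul]
    rw [hT]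
    refine Submodule.smul_mem _ _ (Submodule.smul_mem _ _ (Submodule.sum_mem _ (fun h _ => ?_)))
    refine Submodule.smul_mem _ _ ?_
    obtain ⟨μ, _, hμ⟩ := hout h
    rw [hμ]
    exact Submodule.smul_mem _ _ (Submodule.subset_span ⟨_, rfl⟩)
  have htr0 : ∀ g, g ∉ Subgroup.center Q → LinearMap.trace K W (σ g) = 0 := by
    intro g hg
    obtain ⟨h, c, hc, hrel⟩ := hnc g hg
    have h1 : LinearMap.trace K W (σ h * σ g) = c * LinearMap.trace K W (σ g * σ h) := by
      rw [hrel, map_smul, smul_eq_mul]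
    have h2 : LinearMap.trace K W (σ h * σ g) = LinearMap.trace K W (σ g * σ h) :=
      LinearMap.trace_mul_comm K _ _
    -- conjugate instead
    have h3 : σ h * σ g * σ h⁻¹ = c • σ g := by
      rw [hrel, smul_mul_assoc, mul_assoc, ← map_mul, mul_inv_cancel, map_one, mul_one]
    have h4 : LinearMap.trace K W (σ h * σ g * σ h⁻¹) = LinearMap.trace K W (σ g) := by
      rw [LinearMap.trace_mul_comm, ← mul_assoc, ← map_mul, inv_mul_cancel, map_one, one_mul]
    rw [h3, map_smul, smul_eq_mul] at h4
    have h5 : (c - 1) * LinearMap.trace K W (σ g) = 0 := by rw [sub_mul, h4, one_mul, sub_self]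
    rcases mul_eq_zero.mp h5 with h6 | h6
    · exact absurd (sub_eq_zero.mp h6) hc
    · exact h6
  have hlin : LinearIndependent K (fun c : Q ⧸ Subgroup.center Q => σ (Quotient.out c)) := by
    rw [Fintype.linearIndependent_iff]
    intro a ha d
    have h1 : σ (Quotient.out d)⁻¹ * (∑ c, a c • σ (Quotient.out c)) = 0 := by
      rw [ha, mul_zero]
    rw [Finset.mul_sum] at h1
    have h2 := congrArg (LinearMap.trace K W) h1
    rw [map_sum, map_zero] at h2
    rw [Finset.sum_eq_single d] at h2
    · rw [mul_smul_comm, ← map_mul, inv_mul_cancel, map_one, map_smul, smul_eq_mul] at h2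
      have h3 : LinearMap.trace K W (1 : Module.End K W) = (finrank K W : K) :=
        LinearMap.trace_one K W
      rw [h3] at h2
      rcases mul_eq_zero.mp h2 with h | h
      · exact h
      · exact absurd h hnK
    · intro c _ hcd
      rw [mul_smul_comm, ← map_mul, map_smul]
      have h3 : (Quotient.out d)⁻¹ * Quotient.out c ∉ Subgroup.center Q := by
        intro hmem
        apply hcd
        have h4 : ((Quotient.out d : Q) : Q ⧸ Subgroup.center Q) = (Quotient.out c : Q) :=
          QuotientGroup.eq.mpr hmem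
        rw [QuotientGroup.out_eq', QuotientGroup.out_eq'] at h4
        exact h4.symm
      rw [htr0 _ h3, smul_zero]
    · intro hd
      exact absurd (Finset.mem_univ d) hd
  refine ⟨hout, hspan, ?_⟩
  have hfr : finrank K (Module.End K W) = finrank K W * finrank K W :=
    Module.finrank_linearMap K K W W
  apply le_antisymm
  · rw [Nat.card_eq_fintype_card, sq, ← hfr]
    exact hlin.fintype_card_le_finrank
  · rw [sq, ← hfr, Nat.card_eq_fintype_card]
    have h1 : finrank K (Module.End K W) = finrank K (Submodule.span K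
        (Set.range (fun c : Q ⧸ Subgroup.center Q => σ (Quotient.out c)))) := by
      rw [hspan, finrank_top]
    rw [h1]
    exact finrank_range_le_card _

end Cfsg.Agent.Lib.Helper3.Sh
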