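import Mathlib
import Cfsg.Agent.Lib.Helper3.HHB6
import Cfsg.Agent.Lib.Helper3.HHC1
import Cfsg.Agent.Lib.Helper3.HHC4
import Cfsg.Agent.Lib.Helper3.HHC5
import Cfsg.Agent.Lib.Helper3.HHC6
import Cfsg.Agent.Lib.Helper3.ShA
import Cfsg.Agent.Lib.Helper3.ShB
import Cfsg.Agent.Lib.Helper3.ShC
import Cfsg.Agent.Lib.Helper3.ShE
import Cfsg.Agent.Lib.Helper3.ShR
import Cfsg.Agent.Lib.Helper3.GrA

/-!
# Gross, part B: the bottom configuration for the prime two.  A faithful `s`-group (`s` odd) of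
class at most two with scalar centre, normalised by an operator of order `2 ^ (N + 1)` without
fixed vectors whose involution acts without fixed points on the central quotient, is abelian
unless `s + 1 = 2 ^ (N + 1)` and the central quotient has order `s ^ 2`.
-/

set_option autoImplicit false
set_option maxHeartbeats 4000000
set_option maxRecDepth 100000
set_option linter.unusedVariables false
set_option linter.unusedSectionVars false
set_option linter.style.haveILetI false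
set_option linter.deprecated false

namespace Cfsg.Agent.Lib.Helper3.Sh

open Module Cfsg.Agent.Lib.Helper3 Cfsg.Agent.Lib.Helper3.HHC1

/-- The numerical data of the bottom configuration, for an arbitrary prime `p`. -/
theorem bot_count (p s : ℕ) [hp : Fact p.Prime] [hs : Fact s.Prime] (hps : p ≠ s)
    {K : Type*} [Field K] [IsAlgClosed K] (hpK : (p : K) ≠ 0) (hsK : (s : K) ≠ 0)
    {R : Type*} [Group R] [Finite R] {W : Type*} [AddCommGroup W] [Module K W]
    [FiniteDimensional K W] [Nontrivial W]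
    (σ : Representation K R W) (X X' : Module.End K W) (φ : MulAut R) (hR : IsPGroup s R)
    (hXX' : X * X' = 1) (hX'X : X' * X = 1) (hcompat : ∀ g, X * σ g = σ (φ g) * X)
    (N : ℕ) (hXP : X ^ (p ^ (N + 1)) = 1)
    (hfaith : Function.Injective σ)
    (hirrX : ∀ U : Submodule K W, (∀ g, ∀ w ∈ U, σ g w ∈ U) → (∀ w ∈ U, X w ∈ U) →
      U = ⊥ ∨ U = ⊤)
    (hZsc : ∀ z ∈ Subgroup.center R, ∃ μ : K, σ z = μ • (1 : Module.End K W))
    (hcl2 : ∀ a b : R, a * b * a⁻¹ * b⁻¹ ∈ Subgroup.center R)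
    (hfpf : ∀ g : R, g⁻¹ * (φ ^ (p ^ N)) g ∈ Subgroup.center R → g ∈ Subgroup.center R)
    (hab : ¬ ∀ a b : R, a * b = b * a) :
    ∃ n b k : ℕ, finrank K W = n ∧ n = s ^ b ∧ Nat.card (R ⧸ Subgroup.center R) = n ^ 2 ∧
      p ^ (N + 1) * k = n ^ 2 + (p ^ (N + 1) - 1) ∧ finrank K (commutant X) ≤ k ∧
      (n = 1 → False) := by
  classical
  have hp1 : 1 < p := hp.out.one_lt
  obtain ⟨M, hM⟩ : ∃ M, M = p ^ (N + 1) := ⟨_, rfl⟩
  rw [← hM] at hXP
  have hM0 : 0 < M := by rw [hM]; exact pow_pos hp.out.pos _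
  have hMK : (M : K) ≠ 0 := by rw [hM, Nat.cast_pow]; exact pow_ne_zero _ hpK
  have hφP : φ ^ M = 1 := by
    ext g
    apply hfaith
    have h1 := compat_pow σ X φ hcompat M g
    rw [hXP, one_mul, mul_one] at h1
    rw [← h1]; rfl
  obtain ⟨m, hm⟩ := IsPGroup.iff_card.mp hR
  haveI : Fintype R := Fintype.ofFinite R
  have hcardK' : (Nat.card R : K) ≠ 0 := by
    rw [hm, Nat.cast_pow]
    exact pow_ne_zero _ hsK
  have hσφ : ∀ g, σ (φ g) = X * σ g * X' := by
    intro g; rw [hcompat, mul_assoc, hXX', mul_one]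
  have hnc : ∀ g, g ∉ Subgroup.center R →
      ∃ (h : R) (c : K), c ≠ 1 ∧ σ h * σ g = c • (σ g * σ h) := by
    intro g hg
    rw [Subgroup.mem_center_iff] at hg
    push Not at hg
    obtain ⟨h, hh⟩ := hg
    have hrel : h * g = (h * g * h⁻¹ * g⁻¹) * (g * h) := by group
    have hz1 : h * g * h⁻¹ * g⁻¹ ≠ 1 := by
      intro h1
      apply hh
      rw [hrel, h1, one_mul]
    have hzcen : h * g * h⁻¹ * g⁻¹ ∈ Subgroup.center R := hcl2 h g
    obtain ⟨c, hc⟩ := hZsc _ hzcen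
    refine ⟨h, c, ?_, ?_⟩
    · intro hc1
      apply hz1
      apply hfaith
      rw [hc, hc1, one_smul, map_one]
    · rw [← map_mul, hrel, map_mul, hc, smul_mul_assoc, one_mul, map_mul]
  have hcZK : (Nat.card (Subgroup.center R) : K) ≠ 0 := by
    obtain ⟨a, ha⟩ := IsPGroup.iff_card.mp (hR.to_subgroup (Subgroup.center R))
    rw [ha, Nat.cast_pow]
    exact pow_ne_zero _ hsK
  have hhom : ∀ (W₁ W₂ : Submodule K W) (h₁ : ∀ g, ∀ w ∈ W₁, σ g w ∈ W₁)
      (h₂ : ∀ g, ∀ w ∈ W₂, σ g w ∈ W₂), W₁ ≠ ⊥ → W₂ ≠ ⊥ →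
      (∀ U : Submodule K W, U ≤ W₁ → (∀ g, ∀ w ∈ U, σ g w ∈ U) → U = ⊥ ∨ U = W₁) →
      ∃ f : W₁ →ₗ[K] W₂, f ≠ 0 ∧
        ∀ g w, f (resRep σ W₁ h₁ g w) = resRep σ W₂ h₂ g (f w) := by
    intro W₁ W₂ h₁ h₂ hW₁ne hW₂ne hW₁simple
    haveI : Nontrivial W₁ := Submodule.nontrivial_iff_ne_bot.mpr hW₁ne
    obtain ⟨b, hb⟩ := HHB6.finrank_prime_pow s (resRep σ W₁ h₁) hR
      (HHC6.resRep_irr σ W₁ h₁ hW₁simple)
    have hd₁ : (finrank K W₁ : K) ≠ 0 := by
      rw [hb, Nat.cast_pow]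
      exact pow_ne_zero _ hsK
    exact HHC4.exists_hom_of_central_char σ hZsc hnc W₁ W₂ h₁ h₂ hd₁ hcZK hW₂ne
  have hirrQ := HHC5.irr_of_homogeneous σ X X' hXX' hX'X φ hcompat hirrX hhom
  have hirrQ' : ∀ U : Submodule K W, (∀ g, Submodule.map (σ g) U ≤ U) → U = ⊥ ∨ U = ⊤ :=
    fun U hU => hirrQ U (fun g w hw => hU g (Submodule.mem_map_of_mem hw))
  obtain ⟨b, hb⟩ := HHB6.finrank_prime_pow s σ hR hirrQ'
  have hnK : (finrank K W : K) ≠ 0 := by
    rw [hb, Nat.cast_pow]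
    exact pow_ne_zero _ hsK
  obtain ⟨hout, hspan, hcount⟩ := quot_center_count σ hirrQ' hZsc hnc hnK hcardK'
  -- the induced permutation of `R ⧸ Z(R)`
  have hcenφ : ∀ (ψ : MulAut R) (g : R), g ∈ Subgroup.center R → ψ g ∈ Subgroup.center R := by
    intro ψ g hg
    rw [Subgroup.mem_center_iff] at hg ⊢
    intro h
    have h2 := congrArg ψ (hg (ψ⁻¹ h))
    rw [map_mul, map_mul, MulAut.apply_inv_self] at h2
    exact h2
  have hmap : (Subgroup.center R).map (φ : R →* R) = Subgroup.center R := by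
    ext h
    rw [Subgroup.mem_map]
    constructor
    · rintro ⟨g, hg, rfl⟩
      exact hcenφ φ g hg
    · intro hh
      exact ⟨φ⁻¹ h, hcenφ φ⁻¹ h hh, MulAut.apply_inv_self _ φ h⟩
  obtain ⟨φ', hφ'def⟩ : ∃ φ' : MulAut (R ⧸ Subgroup.center R),
      φ' = QuotientGroup.congr (Subgroup.center R) (Subgroup.center R) φ hmap := ⟨_, rfl⟩
  have hφ' : ∀ g : R, φ' (g : R ⧸ Subgroup.center R) = ((φ g : R) : R ⧸ Subgroup.center R) := by
    intro g; rw [hφ'def]; exact QuotientGroup.congr_mk _ _ _ _ g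
  obtain ⟨π, hπdef⟩ : ∃ π : Equiv.Perm (R ⧸ Subgroup.center R), π = φ'.toEquiv := ⟨_, rfl⟩
  have hπ : ∀ g : R, π (g : R ⧸ Subgroup.center R) = ((φ g : R) : R ⧸ Subgroup.center R) := by
    intro g; rw [hπdef]; exact hφ' g
  have hπpow : ∀ (k : ℕ) (g : R),
      (π ^ k) (g : R ⧸ Subgroup.center R) = (((φ ^ k) g : R) : R ⧸ Subgroup.center R) := by
    intro k
    induction k with
    | zero => intro g; rfl
    | succ k ih =>
      intro g
      rw [pow_succ', Equiv.Perm.mul_apply, ih, hπ, pow_succ', MulAut.mul_apply]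
  have hπM : π ^ M = 1 := by
    ext c
    refine QuotientGroup.induction_on c (fun g => ?_)
    rw [hπpow, hφP]; rfl
  have hfixpt : ∀ c : R ⧸ Subgroup.center R, (π ^ (p ^ N)) c = c → c = 1 := by
    intro c
    refine QuotientGroup.induction_on c (fun g => ?_)
    intro hc
    rw [hπpow] at hc
    have hz : g⁻¹ * (φ ^ (p ^ N)) g ∈ Subgroup.center R := QuotientGroup.eq.mp hc.symm
    exact (QuotientGroup.eq_one_iff g).mpr (hfpf g hz)
  have hne : ∃ c : R ⧸ Subgroup.center R, c ≠ 1 := by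
    by_contra hcon
    push Not at hcon
    apply hab
    intro a b'
    have := hcon (b' : R ⧸ Subgroup.center R)
    have h1 : b' ∈ Subgroup.center R := (QuotientGroup.eq_one_iff b').mp this
    exact Subgroup.mem_center_iff.mp h1 a
  have hπ1 : π (1 : R ⧸ Subgroup.center R) = 1 := by
    have := hπ (1 : R)
    rw [map_one] at this
    exact this
  rw [hM] at hπM
  have horb := orbit_count_pp π p N hp.out hπM 1 hπ1 hfixpt hne
  rw [← hM, hcount] at horb
  -- the operator `T ↦ X T X'`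
  obtain ⟨A, hAdef⟩ : ∃ A : Module.End K (Module.End K W),
      A = (LinearMap.mulLeft K X).comp (LinearMap.mulRight K X') := ⟨_, rfl⟩
  have hAapp : ∀ T, A T = X * (T * X') := by
    intro T; rw [hAdef]; rfl
  have hX'P : X' ^ M = 1 := by
    have := pow_mul_pow_eq_one X X' hXX' hX'X M
    rwa [hXP, one_mul] at this
  have hApow : ∀ (k : ℕ) T, (A ^ k) T = X ^ k * (T * X' ^ k) := by
    intro k
    induction k with
    | zero => intro T; simp
    | succ k ih =>
      intro T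
      rw [pow_succ', Module.End.mul_apply, ih, hAapp, pow_succ', pow_succ]
      noncomm_ring
  have hAp : A ^ M = 1 := by
    ext T : 1
    rw [hApow, hXP, hX'P, one_mul, mul_one]; rfl
  have hAu : ∀ c : R ⧸ Subgroup.center R, ∃ a : K, a ≠ 0 ∧
      A (σ (Quotient.out c)) = a • σ (Quotient.out (π c)) := by
    intro c
    obtain ⟨μ, hμ0, hμ⟩ := hout (φ (Quotient.out c))
    refine ⟨μ, hμ0, ?_⟩
    rw [hAapp, ← mul_assoc, ← hσφ, hμ]
    congr 2
    rw [← hπ, QuotientGroup.out_eq']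
  have hdim := finrank_fixed_le_orbits (fun c : R ⧸ Subgroup.center R => σ (Quotient.out c))
    hspan π A hAu M hMK hAp
  have hcomm_le : commutant X ≤ LinearMap.ker (A - 1) := by
    intro T hT
    rw [mem_commutant] at hT
    rw [LinearMap.mem_ker, LinearMap.sub_apply, Module.End.one_apply, hAapp, ← mul_assoc, ← hT,
      mul_assoc, hXX', mul_one, sub_self]
  have hdim2 : finrank K (commutant X) ≤ finrank K (LinearMap.ker (A - 1)) :=
    Submodule.finrank_mono hcomm_le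
  refine ⟨finrank K W, b, _, rfl, hb, hcount, ?_, le_trans hdim2 hdim, ?_⟩
  · rw [← hM]; exact horb
  · intro hn1'
    apply hab
    intro a b'
    apply hfaith
    rw [map_mul, map_mul]
    have hsc : ∀ g : R, ∃ μ : K, σ g = μ • (1 : Module.End K W) := by
      intro g
      have hfr : finrank K W = 1 := hn1'
      obtain ⟨w0, hw0⟩ := exists_ne (0 : W)
      obtain ⟨μ, hμ⟩ := (finrank_eq_one_iff_of_nonzero' w0 hw0).mp hfr (σ g w0)
      refine ⟨μ, LinearMap.ext (fun w => ?_)⟩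
      obtain ⟨c, hc⟩ := (finrank_eq_one_iff_of_nonzero' w0 hw0).mp hfr w
      rw [← hc, map_smul, ← hμ, LinearMap.smul_apply, Module.End.one_apply, smul_comm]
    obtain ⟨μa, hμa⟩ := hsc a
    obtain ⟨μb, hμb⟩ := hsc b'
    rw [hμa, hμb, smul_mul_smul_comm, smul_mul_smul_comm, mul_comm]

/-- The bottom configuration for the prime two. -/
theorem bot_lemma_two (s : ℕ) [hs : Fact s.Prime] (hs2 : s ≠ 2)
    {K : Type*} [Field K] [IsAlgClosed K] (h2K : ((2 : ℕ) : K) ≠ 0) (hsK : (s : K) ≠ 0)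
    {R : Type*} [Group R] [Finite R] {W : Type*} [AddCommGroup W] [Module K W]
    [FiniteDimensional K W] [Nontrivial W]
    (σ : Representation K R W) (X X' : Module.End K W) (φ : MulAut R) (hR : IsPGroup s R)
    (hXX' : X * X' = 1) (hX'X : X' * X = 1) (hcompat : ∀ g, X * σ g = σ (φ g) * X)
    (N : ℕ) (hXP : X ^ (2 ^ (N + 1)) = 1)
    (hNX : ∑ i ∈ Finset.range (2 ^ (N + 1)), X ^ i = 0)
    (hfaith : Function.Injective σ)
    (hirrX : ∀ U : Submodule K W, (∀ g, ∀ w ∈ U, σ g w ∈ U) → (∀ w ∈ U, X w ∈ U) →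
      U = ⊥ ∨ U = ⊤)
    (hZsc : ∀ z ∈ Subgroup.center R, ∃ μ : K, σ z = μ • (1 : Module.End K W))
    (hcl2 : ∀ a b : R, a * b * a⁻¹ * b⁻¹ ∈ Subgroup.center R)
    (hfpf : ∀ g : R, g⁻¹ * (φ ^ (2 ^ N)) g ∈ Subgroup.center R → g ∈ Subgroup.center R) :
    (∀ a b : R, a * b = b * a) ∨
      (s + 1 = 2 ^ (N + 1) ∧ Nat.card (R ⧸ Subgroup.center R) = s ^ 2) := by
  classical
  by_cases hab : ∀ a b : R, a * b = b * a
  · exact Or.inl hab
  right
  haveI : Fact (Nat.Prime 2) := ⟨Nat.prime_two⟩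
  obtain ⟨n, b, k, hn, hb, hcount, horb, hdk, hn1⟩ :=
    bot_count 2 s (Ne.symm hs2) h2K hsK σ X X' φ hR hXX' hX'X hcompat N hXP hfaith hirrX
      hZsc hcl2 hfpf hab
  obtain ⟨d, hd⟩ : ∃ d, d = finrank K (commutant X) := ⟨_, rfl⟩
  rw [← hd] at hdk
  have hM0' : 0 < 2 ^ (N + 1) := pow_pos (by norm_num) _
  have hMK' : ((2 ^ (N + 1) : ℕ) : K) ≠ 0 := by
    rw [Nat.cast_pow]; exact pow_ne_zero _ h2K
  have hsq := sq_finrank_le_commutant_gen X (2 ^ (N + 1)) hM0' hMK' hXP hNX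
  have hnd := (commutant_bounds X (2 ^ (N + 1)) hMK' hXP).1
  rw [hn, ← hd] at hsq hnd
  obtain ⟨M, hM⟩ : ∃ M, M = 2 ^ (N + 1) := ⟨_, rfl⟩
  rw [← hM] at horb hsq
  have hM2 : 2 ≤ M := by
    rw [hM, pow_succ]
    have : 1 ≤ 2 ^ N := Nat.one_le_two_pow
    omega
  obtain ⟨M', hM'⟩ : ∃ M', M = M' + 1 := ⟨M - 1, by omega⟩
  have hM'1 : M - 1 = M' := by omega
  rw [hM'1] at horb hsq
  have hnpos : 1 ≤ n := by
    rw [hb]; exact Nat.one_le_pow _ _ hs.out.pos
  have hn2 : 2 ≤ n := by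
    by_contra hcon
    exact hn1 (by omega)
  -- `n ≤ M'`
  have h1 : M * n ^ 2 ≤ M' * (n ^ 2 + M') := by
    calc M * n ^ 2 ≤ M * (M' * d) := Nat.mul_le_mul_left _ hsq
      _ = M' * (M * d) := by ring
      _ ≤ M' * (M * k) := Nat.mul_le_mul_left _ (Nat.mul_le_mul_left _ hdk)
      _ = M' * (n ^ 2 + M') := by rw [horb]
  have h2 : n ^ 2 ≤ M' ^ 2 := by
    have : (M' + 1) * n ^ 2 ≤ M' * n ^ 2 + M' * M' := by
      calc (M' + 1) * n ^ 2 = M * n ^ 2 := by rw [hM']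
        _ ≤ M' * (n ^ 2 + M') := h1
        _ = M' * n ^ 2 + M' * M' := by ring
    nlinarith
  have h3 : n ≤ M' := by
    by_contra hcon
    push Not at hcon
    have : M' ^ 2 < n ^ 2 := Nat.pow_lt_pow_left hcon (by norm_num)
    omega
  -- `M ≤ n + 1`
  have h4 : M * n ≤ n ^ 2 + M' := by
    calc M * n ≤ M * k := Nat.mul_le_mul_left _ (le_trans hnd hdk)
      _ = n ^ 2 + M' := horb
  have h5 : M ≤ n + 1 := by
    by_contra hcon
    push Not at hcon
    -- `M ≥ n + 2`, so `M n ≥ n² + 2n > n² + M'`?  use `M (n - 1) ≤ (n - 1)(n + 1)`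
    obtain ⟨n', hn'⟩ : ∃ n', n = n' + 2 := ⟨n - 2, by omega⟩
    rw [hM', hn'] at h4
    rw [hM', hn'] at hcon
    nlinarith
  have h6 : n + 1 = M := by omega
  have hsodd : Odd s := by
    rcases hs.out.eq_two_or_odd' with h | h
    · exact absurd h hs2
    · exact h
  have hb1 : b = 1 := by
    apply pow_add_one_eq_two_pow s b (N + 1) hsodd
    · by_contra hcon
      have hN0 : N = 0 := by omega
      rw [hN0] at hM
      norm_num at hM
      omega
    · rw [← hb, h6, hM]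
  rw [hb1, pow_one] at hb
  refine ⟨?_, ?_⟩
  · rw [← hb, h6, hM]
  · rw [hcount, hb]

end Cfsg.Agent.Lib.Helper3.Sh
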