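import Mathlib
import Cfsg.Agent.Lib.Helper3.ShA

/-!
# Shult-type theorem, part G: weights of a normal subgroup acting commutatively, and their
permutation by operators normalising the representation.
-/

set_option autoImplicit false
set_option maxHeartbeats 4000000
set_option maxRecDepth 100000
set_option linter.unusedVariables false
set_option linter.unusedSectionVars false
set_option linter.style.haveILetI false
set_option linter.deprecated false

namespace Cfsg.Agent.Lib.Helper3.Sh

open Module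

section fam

variable {K : Type*} [Field K] {G : Type*} [Group G] {W : Type*} [AddCommGroup W] [Module K W]

/-- The family of operators `ρ g` for `g ∈ N`, extended by `1` outside `N`. -/
noncomputable def fam (ρ : Representation K G W) (N : Subgroup G) : G → Module.End K W :=
  fun g => by classical exact if g ∈ N then ρ g else 1

theorem fam_of_mem (ρ : Representation K G W) (N : Subgroup G) {g : G} (hg : g ∈ N) :
    fam ρ N g = ρ g := by
  classical
  unfold fam
  exact if_pos hg

theorem fam_of_not_mem (ρ : Representation K G W) (N : Subgroup G) {g : G} (hg : g ∉ N) :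
    fam ρ N g = 1 := by
  classical
  unfold fam
  exact if_neg hg

theorem fam_commute (ρ : Representation K G W) (N : Subgroup G)
    (hc : ∀ a ∈ N, ∀ b ∈ N, ρ a * ρ b = ρ b * ρ a) (i j : G) :
    Commute (fam ρ N i) (fam ρ N j) := by
  by_cases hi : i ∈ N
  · by_cases hj : j ∈ N
    · rw [fam_of_mem ρ N hi, fam_of_mem ρ N hj]
      exact hc i hi j hj
    · rw [fam_of_not_mem ρ N hj]; exact Commute.one_right _
  · rw [fam_of_not_mem ρ N hi]; exact Commute.one_left _

theorem fam_semisimple [Finite G] (ρ : Representation K G W) (N : Subgroup G)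
    (hN : (Nat.card N : K) ≠ 0) (i : G) : (fam ρ N i).IsSemisimple := by
  refine isSemisimple_of_pow_eq_one (fam ρ N i) (Nat.card N) hN ?_
  by_cases hi : i ∈ N
  · rw [fam_of_mem ρ N hi, ← map_pow]
    have h1 : (⟨i, hi⟩ : N) ^ Nat.card N = 1 := pow_card_eq_one'
    have h2 : i ^ Nat.card N = 1 := by
      have h3 : (((⟨i, hi⟩ : N) ^ Nat.card N : N) : G) = ((1 : N) : G) := congrArg Subtype.val h1
      rw [Subgroup.coe_pow, Subgroup.coe_one] at h3
      exact h3
    rw [h2, map_one]
  · rw [fam_of_not_mem ρ N hi, one_pow]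

/-- Transport of a "character" by an automorphism. -/
def tw (a : MulAut G) (χ : G → K) : G → K := fun g => χ (a⁻¹ g)

theorem tw_apply (a : MulAut G) (χ : G → K) (g : G) : tw a χ g = χ (a⁻¹ g) := rfl

theorem tw_one (χ : G → K) : tw (1 : MulAut G) χ = χ := by
  funext g
  rw [tw_apply, inv_one]; rfl

theorem tw_mul (a b : MulAut G) (χ : G → K) : tw (a * b) χ = tw a (tw b χ) := by
  funext g
  rw [tw_apply, tw_apply, tw_apply, mul_inv_rev, MulAut.mul_apply]

theorem tw_pow_eq (a : MulAut G) (χ : G → K) (h : tw a χ = χ) (k : ℕ) : tw (a ^ k) χ = χ := by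
  induction k with
  | zero => rw [pow_zero, tw_one]
  | succ k ih => rw [pow_succ, tw_mul, h, ih]

/-- The stabiliser of a character. -/
def stab (χ : G → K) : Subgroup (MulAut G) where
  carrier := {a | tw a χ = χ}
  one_mem' := tw_one χ
  mul_mem' := by
    intro a b ha hb
    show tw (a * b) χ = χ
    rw [tw_mul, show tw b χ = χ from hb, show tw a χ = χ from ha]
  inv_mem' := by
    intro a ha
    show tw a⁻¹ χ = χ
    have h1 : tw a χ = χ := ha
    have h2 : tw (a⁻¹ * a) χ = χ := by rw [inv_mul_cancel, tw_one]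
    rw [tw_mul, h1] at h2
    exact h2

theorem mem_stab {χ : G → K} {a : MulAut G} : a ∈ stab χ ↔ tw a χ = χ := Iff.rfl

/-- An operator that intertwines `ρ` with its twist by an automorphism preserving `N` maps
weight spaces to weight spaces. -/
theorem map_wt (ρ : Representation K G W) (N : Subgroup G) (a : MulAut G) (X : Module.End K W)
    (hX : ∀ g, X * ρ g = ρ (a g) * X) (hN : ∀ g, g ∈ N ↔ a g ∈ N) (χ : G → K) (v : W)
    (hv : v ∈ wt (fam ρ N) χ) : X v ∈ wt (fam ρ N) (tw a χ) := by
  rw [mem_wt] at hv ⊢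
  intro g
  have hfc : X * fam ρ N (a⁻¹ g) = fam ρ N g * X := by
    by_cases hg : g ∈ N
    · have hg' : a⁻¹ g ∈ N := by
        rw [hN, MulAut.apply_inv_self]; exact hg
      rw [fam_of_mem ρ N hg, fam_of_mem ρ N hg', hX, MulAut.apply_inv_self]
    · have hg' : a⁻¹ g ∉ N := by
        rw [hN, MulAut.apply_inv_self]; exact hg
      rw [fam_of_not_mem ρ N hg, fam_of_not_mem ρ N hg', mul_one, one_mul]
  calc fam ρ N g (X v) = (fam ρ N g * X) v := rfl
    _ = (X * fam ρ N (a⁻¹ g)) v := by rw [hfc]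
    _ = X (fam ρ N (a⁻¹ g) v) := rfl
    _ = tw a χ g • X v := by rw [hv, map_smul]; rfl

/-- Operators commuting with all `ρ n`, `n ∈ N`, preserve weight spaces. -/
theorem map_wt_of_commute (ρ : Representation K G W) (N : Subgroup G) (X : Module.End K W)
    (hX : ∀ g ∈ N, X * ρ g = ρ g * X) (χ : G → K) (v : W)
    (hv : v ∈ wt (fam ρ N) χ) : X v ∈ wt (fam ρ N) χ := by
  rw [mem_wt] at hv ⊢
  intro g
  have hfc : X * fam ρ N g = fam ρ N g * X := by
    by_cases hg : g ∈ N
    · rw [fam_of_mem ρ N hg, hX g hg]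
    · rw [fam_of_not_mem ρ N hg, mul_one, one_mul]
  calc fam ρ N g (X v) = (fam ρ N g * X) v := rfl
    _ = (X * fam ρ N g) v := by rw [hfc]
    _ = X (fam ρ N g v) := rfl
    _ = χ g • X v := by rw [hv, map_smul]

end fam

section iso

variable {K : Type*} [Field K] {W : Type*} [AddCommGroup W] [Module K W] {ι : Type*}

/-- A vector of weight `χ` that is a sum of vectors of other weights vanishes. -/
theorem wt_isolated (f : ι → Module.End K W) (hc : ∀ i j, Commute (f i) (f j)) (χ : ι → K)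
    (v : W) (hv : v ∈ wt f χ) (hrest : v ∈ ⨆ ν ∈ {ν : ι → K | ν ≠ χ}, wt f ν) : v = 0 := by
  have h1 := wt_indep f hc
  have h2 : Disjoint (wt f χ) (⨆ ν ∈ {ν : ι → K | ν ≠ χ}, wt f ν) :=
    h1.disjoint_biSup (by simp)
  exact (Submodule.disjoint_def.mp h2) v hv hrest

theorem mem_rest (f : ι → Module.End K W) (χ ν : ι → K) (hν : ν ≠ χ) (v : W) (hv : v ∈ wt f ν) :
    v ∈ ⨆ ν ∈ {ν : ι → K | ν ≠ χ}, wt f ν :=
  Submodule.mem_iSup_of_mem ν (Submodule.mem_iSup_of_mem hν hv)

/-- Two operators agreeing on all weight spaces are equal. -/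
theorem ext_wt [IsAlgClosed K] [FiniteDimensional K W] (f : ι → Module.End K W)
    (hc : ∀ i j, Commute (f i) (f j)) (hs : ∀ i, (f i).IsSemisimple) (A B : Module.End K W)
    (h : ∀ χ, ∀ v ∈ wt f χ, A v = B v) : A = B := by
  have hsup := iSup_wt f hc hs
  have hle : (⊤ : Submodule K W) ≤ LinearMap.ker (A - B) := by
    rw [← hsup]
    refine iSup_le (fun χ v hv => ?_)
    rw [LinearMap.mem_ker, LinearMap.sub_apply, h χ v hv, sub_self]
  ext w
  have := hle (Submodule.mem_top : w ∈ ⊤)
  rw [LinearMap.mem_ker, LinearMap.sub_apply] at this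
  exact sub_eq_zero.mp this

end iso

section chi

variable {K : Type*} [Field K] {G : Type*} [Group G] {W : Type*} [AddCommGroup W] [Module K W]

theorem chi_mul (ρ : Representation K G W) (N : Subgroup G) (χ : G → K) (v : W)
    (hv : v ∈ wt (fam ρ N) χ) (hv0 : v ≠ 0) (a b : G) (ha : a ∈ N) (hb : b ∈ N) :
    χ (a * b) = χ a * χ b := by
  rw [mem_wt] at hv
  have h1 := hv (a * b)
  rw [fam_of_mem ρ N (N.mul_mem ha hb), map_mul, Module.End.mul_apply] at h1
  have h2 := hv a
  have h3 := hv b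
  rw [fam_of_mem ρ N ha] at h2
  rw [fam_of_mem ρ N hb] at h3
  rw [h3, map_smul, h2, smul_smul] at h1
  have h4 : (χ b * χ a - χ (a * b)) • v = 0 := by rw [sub_smul, h1, sub_self]
  rcases smul_eq_zero.mp h4 with h | h
  · rw [← sub_eq_zero.mp h, mul_comm]
  · exact absurd h hv0

theorem chi_one (ρ : Representation K G W) (N : Subgroup G) (χ : G → K) (v : W)
    (hv : v ∈ wt (fam ρ N) χ) (hv0 : v ≠ 0) : χ 1 = 1 := by
  rw [mem_wt] at hv
  have h1 := hv 1
  rw [fam_of_mem ρ N N.one_mem, map_one, Module.End.one_apply] at h1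
  have h4 : (1 - χ 1) • v = 0 := by rw [sub_smul, one_smul, ← h1, sub_self]
  rcases smul_eq_zero.mp h4 with h | h
  · exact (sub_eq_zero.mp h).symm
  · exact absurd h hv0

theorem chi_apply (ρ : Representation K G W) (N : Subgroup G) (χ : G → K) (v : W)
    (hv : v ∈ wt (fam ρ N) χ) (a : G) (ha : a ∈ N) : ρ a v = χ a • v := by
  rw [mem_wt] at hv
  have h1 := hv a
  rwa [fam_of_mem ρ N ha] at h1

theorem chi_pow (ρ : Representation K G W) (N : Subgroup G) (χ : G → K) (v : W)
    (hv : v ∈ wt (fam ρ N) χ) (hv0 : v ≠ 0) (a : G) (ha : a ∈ N) (k : ℕ) :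
    χ (a ^ k) = χ a ^ k := by
  induction k with
  | zero => rw [pow_zero, pow_zero]; exact chi_one ρ N χ v hv hv0
  | succ k ih =>
    rw [pow_succ, pow_succ, chi_mul ρ N χ v hv hv0 _ _ (N.pow_mem ha k) ha, ih]

theorem chi_inv (ρ : Representation K G W) (N : Subgroup G) (χ : G → K) (v : W)
    (hv : v ∈ wt (fam ρ N) χ) (hv0 : v ≠ 0) (a : G) (ha : a ∈ N) :
    χ a⁻¹ * χ a = 1 := by
  rw [← chi_mul ρ N χ v hv hv0 _ _ (N.inv_mem ha) ha, inv_mul_cancel]
  exact chi_one ρ N χ v hv hv0

/-- A root of unity of two coprime orders is `1`. -/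
theorem eq_one_of_pow_coprime (x : K) (m n : ℕ) (hmn : Nat.Coprime m n) (hm : x ^ m = 1)
    (hn : x ^ n = 1) : x = 1 := by
  have h1 : orderOf x ∣ m := orderOf_dvd_of_pow_eq_one hm
  have h2 : orderOf x ∣ n := orderOf_dvd_of_pow_eq_one hn
  have h3 : orderOf x ∣ Nat.gcd m n := Nat.dvd_gcd h1 h2
  rw [hmn, Nat.dvd_one] at h3
  exact orderOf_eq_one_iff.mp h3

end chi

end Cfsg.Agent.Lib.Helper3.Sh
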