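import Mathlib
import Cfsg.Agent.Lib.Helper3.HHC1
import Cfsg.Agent.Lib.Helper3.ShA
import Cfsg.Agent.Lib.Helper3.ShG

/-!
# Gross, part C: an abelian subgroup normalised by an operator of order `p ^ (n + 1)` without
fixed vectors is centralised (in the representation) by the subgroup of order `p`.
-/

set_option autoImplicit false
set_option maxHeartbeats 4000000
set_option maxRecDepth 100000
set_option linter.unusedVariables false
set_option linter.unusedSectionVars false
set_option linter.style.haveILetI false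
set_option linter.deprecated false

namespace Cfsg.Agent.Lib.Helper3.Sh

open Module Cfsg.Agent.Lib.Helper3 Cfsg.Agent.Lib.Helper3.HHC1

theorem abelian_fixed (p : ℕ) [hp : Fact p.Prime] {K : Type*} [Field K] [IsAlgClosed K]
    {W : Type*} [AddCommGroup W] [Module K W] [FiniteDimensional K W]
    {L : Type*} [Group L] [Finite L] (ρ : Representation K L W) (X : Module.End K W)
    (φ : MulAut L) (hcompat : ∀ g, X * ρ g = ρ (φ g) * X) (n : ℕ)
    (hXP : X ^ (p ^ (n + 1)) = 1) (hNX : ∑ i ∈ Finset.range (p ^ (n + 1)), X ^ i = 0)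
    (A₀ : Subgroup L) (hA : ∀ a ∈ A₀, ∀ b ∈ A₀, ρ a * ρ b = ρ b * ρ a)
    (hφA : ∀ g, g ∈ A₀ ↔ φ g ∈ A₀) (hcard : (Nat.card A₀ : K) ≠ 0) :
    ∀ a ∈ A₀, ρ ((φ ^ (p ^ n)) a) = ρ a := by
  classical
  obtain ⟨M, hM⟩ : ∃ M, M = p ^ (n + 1) := ⟨_, rfl⟩
  rw [← hM] at hXP hNX
  have hM0 : 0 < M := by rw [hM]; exact pow_pos hp.out.pos _
  have hc := fam_commute ρ A₀ hA
  have hs := fam_semisimple ρ A₀ hcard
  have hφApow : ∀ (k : ℕ) (g : L), g ∈ A₀ ↔ (φ ^ k) g ∈ A₀ := by
    intro k
    induction k with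
    | zero => intro g; rfl
    | succ k ih =>
      intro g
      rw [pow_succ', MulAut.mul_apply, ← hφA, ← ih]
  have hXi : ∀ (i : ℕ) (χ : L → K) (v : W), v ∈ wt (fam ρ A₀) χ →
      (X ^ i) v ∈ wt (fam ρ A₀) (tw (φ ^ i) χ) := by
    intro i χ v hv
    exact map_wt ρ A₀ (φ ^ i) (X ^ i) (compat_pow ρ X φ hcompat i) (hφApow i) χ v hv
  have hdiff : ∀ (χ ν : L → K) (v : W), v ∈ wt (fam ρ A₀) χ → v ∈ wt (fam ρ A₀) ν → v ≠ 0 →
      χ = ν := by
    intro χ ν v h1 h2 hv0
    by_contra hne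
    exact hv0 (wt_isolated (fam ρ A₀) hc ν v h2 (mem_rest (fam ρ A₀) ν χ hne v h1))
  -- the key claim
  have key : ∀ (χ : L → K) (v : W), v ∈ wt (fam ρ A₀) χ → v ≠ 0 → tw (φ ^ (p ^ n)) χ = χ := by
    intro χ v hv hv0
    by_contra hne
    have hstabM : φ ^ M ∈ stab χ := by
      rw [mem_stab]
      have h1 := hXi M χ v hv
      rw [hXP, Module.End.one_apply] at h1
      exact hdiff _ _ v h1 hv hv0
    -- no `0 < d < M` stabilises
    have hnostab : ∀ d, 0 < d → d < M → φ ^ d ∉ stab χ := by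
      intro d hd0 hdM hd
      have hg : φ ^ (Nat.gcd d M) ∈ stab χ := by
        have h1 : (φ ^ (Nat.gcd d M : ℕ) : MulAut L)
            = (φ ^ d) ^ (Nat.gcdA d M) * (φ ^ M) ^ (Nat.gcdB d M) := by
          rw [← zpow_natCast φ (Nat.gcd d M), Nat.gcd_eq_gcd_ab, zpow_add, zpow_mul, zpow_mul,
            zpow_natCast, zpow_natCast]
        rw [h1]
        exact mul_mem (zpow_mem hd _) (zpow_mem hstabM _)
      have hdvd : Nat.gcd d M ∣ p ^ (n + 1) := by rw [← hM]; exact Nat.gcd_dvd_right d M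
      obtain ⟨e, he, hge⟩ := (Nat.dvd_prime_pow hp.out).mp hdvd
      have hen : e ≤ n := by
        by_contra hcon
        have he' : e = n + 1 := by omega
        rw [he', ← hM] at hge
        have : M ∣ d := by rw [← hge]; exact Nat.gcd_dvd_left d M
        have := Nat.le_of_dvd hd0 this
        omega
      apply hne
      have h2 : φ ^ (p ^ n) = (φ ^ (Nat.gcd d M)) ^ (p ^ (n - e)) := by
        rw [hge, ← pow_mul, ← pow_add]
        congr 2
        omega
      rw [h2]
      exact tw_pow_eq _ χ (mem_stab.mp hg) _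
    have hinj : Function.Injective (fun i : Fin M => tw (φ ^ (i : ℕ)) χ) := by
      have key2 : ∀ a b : ℕ, a ≤ b → b < M → tw (φ ^ a) χ = tw (φ ^ b) χ → a = b := by
        intro a b hab hb h
        by_contra hne'
        have hlt : a < b := lt_of_le_of_ne hab hne'
        apply hnostab (b - a) (Nat.sub_pos_of_lt hlt) (lt_of_le_of_lt (Nat.sub_le b a) hb)
        rw [mem_stab]
        have h3 : φ ^ b = φ ^ a * φ ^ (b - a) := by
          rw [← pow_add]; congr 1; omega
        rw [h3, tw_mul] at h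
        -- apply the inverse twist
        have h4 := congrArg (tw (φ ^ a)⁻¹) h
        rw [← tw_mul, ← tw_mul, inv_mul_cancel, tw_one] at h4
        exact h4.symm
      intro a b hab
      apply Fin.ext
      rcases le_total (a : ℕ) (b : ℕ) with h | h
      · exact key2 a b h b.2 hab
      · exact (key2 b a h a.2 hab.symm).symm
    have hind := (wt_indep (fam ρ A₀) hc).comp hinj
    have hsum : ∑ k : Fin M, (X ^ (k : ℕ)) v = 0 := by
      rw [Fin.sum_univ_eq_sum_range (fun k => (X ^ k) v) M, ← LinearMap.sum_apply, hNX]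
      rfl
    have h0 := eq_zero_of_sum_eq_zero hind Finset.univ
      (fun k : Fin M => (X ^ (k : ℕ)) v)
      (fun k _ => hXi k χ v hv) hsum ⟨0, hM0⟩ (Finset.mem_univ _)
    simp only [pow_zero] at h0
    exact hv0 h0
  intro a ha
  refine ext_wt (fam ρ A₀) hc hs _ _ (fun χ v hv => ?_)
  by_cases hv0 : v = 0
  · rw [hv0, map_zero, map_zero]
  have ha' : (φ ^ (p ^ n)) a ∈ A₀ := (hφApow _ a).mp ha
  rw [chi_apply ρ A₀ χ v hv _ ha', chi_apply ρ A₀ χ v hv a ha]
  have h1 := congrFun (key χ v hv hv0) ((φ ^ (p ^ n)) a)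
  rw [tw_apply, MulAut.inv_apply_self] at h1
  rw [h1]

end Cfsg.Agent.Lib.Helper3.Sh
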