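import Mathlib

/-!
# Gross, part D: orbit counting for a cyclic `p`-group; the bound in terms of the fixed points of
the subgroup of order `p`, and the case of equality.
-/

set_option autoImplicit false
set_option maxHeartbeats 4000000
set_option maxRecDepth 100000
set_option linter.unusedVariables false
set_option linter.unusedSectionVars false
set_option linter.style.haveILetI false
set_option linter.deprecated false

namespace Cfsg.Agent.Lib.Helper3.Sh

theorem orbit_count_le {ι : Type*} [Finite ι] (π : Equiv.Perm ι) (p N : ℕ) (hp : p.Prime)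
    (hπM : π ^ (p ^ (N + 1)) = 1) (hψ1 : π ^ (p ^ N) ≠ 1) :
    p ^ (N + 1) * Nat.card (MulAction.orbitRel.Quotient (Subgroup.zpowers π) ι)
      ≤ Nat.card ι + (p ^ (N + 1) - 1) * Nat.card {c : ι // (π ^ (p ^ N)) c = c} ∧
    (p ^ (N + 1) * Nat.card (MulAction.orbitRel.Quotient (Subgroup.zpowers π) ι)
      = Nat.card ι + (p ^ (N + 1) - 1) * Nat.card {c : ι // (π ^ (p ^ N)) c = c} →
      ∀ c, (π ^ (p ^ N)) c = c → π c = c) := by
  classical
  haveI : Fact p.Prime := ⟨hp⟩
  haveI : Fintype ι := Fintype.ofFinite ι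
  haveI : Fintype (Subgroup.zpowers π) := Fintype.ofFinite _
  haveI : Fintype (MulAction.orbitRel.Quotient (Subgroup.zpowers π) ι) := Fintype.ofFinite _
  have hB := MulAction.sum_card_fixedBy_eq_card_orbits_mul_card_group (Subgroup.zpowers π) ι
  have hord : orderOf π = p ^ (N + 1) := orderOf_eq_prime_pow hψ1 hπM
  have hcardG : Fintype.card (Subgroup.zpowers π) = p ^ (N + 1) := by
    rw [← Nat.card_eq_fintype_card, Nat.card_zpowers, hord]
  rw [hcardG] at hB
  have h1 : Fintype.card (MulAction.fixedBy ι (1 : Subgroup.zpowers π)) = Nat.card ι := by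
    rw [← Nat.card_eq_fintype_card]
    refine Nat.card_congr (Equiv.subtypeUnivEquiv (fun i => ?_))
    show (1 : Subgroup.zpowers π) • i = i
    exact one_smul _ i
  have hψp : (π ^ (p ^ N)) ^ p = 1 := by
    rw [← pow_mul, ← pow_succ]; exact hπM
  have hordψ : orderOf (π ^ (p ^ N)) = p := orderOf_eq_prime hψp hψ1
  have hpowfix : ∀ (b : Equiv.Perm ι) (c : ι), b c = c → ∀ t : ℕ, (b ^ t) c = c := by
    intro b c hbc t
    induction t with
    | zero => rfl
    | succ t ih => rw [pow_succ, Equiv.Perm.mul_apply, hbc, ih]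
  obtain ⟨f, hf⟩ : ∃ f, f = Nat.card {c : ι // (π ^ (p ^ N)) c = c} := ⟨_, rfl⟩
  rw [← hf]
  -- fixed points of a nontrivial element are fixed by `ψ`
  have hsub : ∀ a : Subgroup.zpowers π, a ≠ 1 → ∀ c : ι, (a : Equiv.Perm ι) c = c →
      (π ^ (p ^ N)) c = c := by
    intro a ha c hc
    have ha1 : (a : Equiv.Perm ι) ≠ 1 := fun h => ha (Subtype.ext h)
    obtain ⟨k, hk⟩ := mem_powers_iff_mem_zpowers.mpr a.2
    have hk' : π ^ k = (a : Equiv.Perm ι) := hk
    have hk0 : k ≠ 0 := by
      intro h0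
      apply ha1
      rw [← hk', h0, pow_zero]
    obtain ⟨e, m, hm, hkem⟩ := Nat.exists_eq_pow_mul_and_not_dvd hk0 p hp.ne_one
    have heN : e ≤ N := by
      by_contra hcon
      push Not at hcon
      apply ha1
      rw [← hk', hkem]
      obtain ⟨d, hd⟩ : ∃ d, e = (N + 1) + d := ⟨e - (N + 1), by omega⟩
      rw [hd, pow_add, mul_assoc, pow_mul, hπM, one_pow]
    have hcop : m.Coprime (orderOf (π ^ (p ^ N))) := by
      rw [hordψ]
      exact ((Nat.Prime.coprime_iff_not_dvd hp).mpr hm).symm
    obtain ⟨m', hm'⟩ := exists_pow_eq_self_of_coprime hcop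
    have hψa : (a : Equiv.Perm ι) ^ (p ^ (N - e) * m') = π ^ (p ^ N) := by
      rw [← hk', hkem, ← pow_mul, ← hm', ← pow_mul, ← pow_mul]
      congr 1
      have : p ^ N = p ^ e * p ^ (N - e) := by
        rw [← pow_add]; congr 1; omega
      rw [this]; ring
    rw [← hψa]
    exact hpowfix _ c hc _
  have hle : ∀ a : Subgroup.zpowers π, a ≠ 1 → Fintype.card (MulAction.fixedBy ι a) ≤ f := by
    intro a ha
    rw [hf, Nat.card_eq_fintype_card]
    refine Fintype.card_le_of_injective
      (fun c : MulAction.fixedBy ι a => (⟨c.1, hsub a ha c.1 c.2⟩ : {c : ι // (π ^ (p ^ N)) c = c}))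
      ?_
    intro c d hcd
    apply Subtype.ext
    exact congrArg (fun x : {c : ι // (π ^ (p ^ N)) c = c} => x.1) hcd
  have hsumeq : (∑ a : Subgroup.zpowers π, Fintype.card (MulAction.fixedBy ι a))
      = Nat.card ι + ∑ a ∈ Finset.univ.erase (1 : Subgroup.zpowers π),
          Fintype.card (MulAction.fixedBy ι a) := by
    rw [← Finset.add_sum_erase Finset.univ _ (Finset.mem_univ (1 : Subgroup.zpowers π)), h1]
  have hcarde : (Finset.univ.erase (1 : Subgroup.zpowers π)).card = p ^ (N + 1) - 1 := by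
    rw [Finset.card_erase_of_mem (Finset.mem_univ _), Finset.card_univ, hcardG]
  have hsumle : ∑ a ∈ Finset.univ.erase (1 : Subgroup.zpowers π),
      Fintype.card (MulAction.fixedBy ι a) ≤ (p ^ (N + 1) - 1) * f := by
    calc _ ≤ ∑ _a ∈ Finset.univ.erase (1 : Subgroup.zpowers π), f :=
          Finset.sum_le_sum (fun a ha => hle a (Finset.ne_of_mem_erase ha))
      _ = (p ^ (N + 1) - 1) * f := by
          rw [Finset.sum_const, hcarde, smul_eq_mul]
  have hB' : p ^ (N + 1) * Nat.card (MulAction.orbitRel.Quotient (Subgroup.zpowers π) ι)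
      = Nat.card ι + ∑ a ∈ Finset.univ.erase (1 : Subgroup.zpowers π),
          Fintype.card (MulAction.fixedBy ι a) := by
    rw [← hsumeq, hB, Nat.card_eq_fintype_card, mul_comm]
  constructor
  · rw [hB']
    exact Nat.add_le_add_left hsumle _
  · intro heq c hc
    rw [hB'] at heq
    have hsumeq' : ∑ a ∈ Finset.univ.erase (1 : Subgroup.zpowers π),
        Fintype.card (MulAction.fixedBy ι a)
        = ∑ _a ∈ Finset.univ.erase (1 : Subgroup.zpowers π), f := by
      rw [Finset.sum_const, hcarde, smul_eq_mul]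
      omega
    have hall : ∀ a ∈ Finset.univ.erase (1 : Subgroup.zpowers π),
        Fintype.card (MulAction.fixedBy ι a) = f := by
      have := (Finset.sum_eq_sum_iff_of_le
        (fun a ha => hle a (Finset.ne_of_mem_erase ha))).mp hsumeq'
      exact this
    have hπ1 : (⟨π, Subgroup.mem_zpowers π⟩ : Subgroup.zpowers π) ≠ 1 := by
      intro h
      apply hψ1
      have : π = 1 := congrArg Subtype.val h
      rw [this, one_pow]
    have hcardπ := hall ⟨π, Subgroup.mem_zpowers π⟩
      (Finset.mem_erase.mpr ⟨hπ1, Finset.mem_univ _⟩)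
    -- the injection `fixedBy π → Fix ψ` is a bijection
    have hinj : Function.Injective
        (fun c : MulAction.fixedBy ι (⟨π, Subgroup.mem_zpowers π⟩ : Subgroup.zpowers π) =>
          (⟨c.1, hsub _ hπ1 c.1 c.2⟩ : {c : ι // (π ^ (p ^ N)) c = c})) := by
      intro c d hcd
      apply Subtype.ext
      exact congrArg (fun x : {c : ι // (π ^ (p ^ N)) c = c} => x.1) hcd
    have hbij := (Fintype.bijective_iff_injective_and_card _).mpr
      ⟨hinj, by rw [hcardπ, hf, Nat.card_eq_fintype_card]⟩
    obtain ⟨c', hc'⟩ := hbij.2 ⟨c, hc⟩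
    have h2 : c'.1 = c := congrArg Subtype.val hc'
    have h3 : π c'.1 = c'.1 := c'.2
    rw [← h2]
    exact h3

end Cfsg.Agent.Lib.Helper3.Sh
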