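import Mathlib
import Cfsg.Agent.Lib.Helper3.HHC1
import Cfsg.Agent.Lib.Helper3.ShA
import Cfsg.Agent.Lib.Helper8.FP4a

/-!
# Gross, part E: the second level.  An operator `X` of order `2 ^ (m + 1)` which is trivial on
the fixed space of its involution and satisfies a quadratic equation on the other eigenspace;
the reduction steps for the statement that the involution centralises a normalised `s`-group.
-/

set_option autoImplicit false
set_option maxHeartbeats 4000000
set_option maxRecDepth 100000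
set_option linter.unusedVariables false
set_option linter.unusedSectionVars false
set_option linter.style.haveILetI false
set_option linter.deprecated false

namespace Cfsg.Agent.Lib.Helper3.Sh

open Module Cfsg.Agent.Lib.Helper3.HHC1 Cfsg.Agent.Lib.Helper8.FP4

universe u v w

/-- The statement proved by induction at the second level. -/
def L2Good (s m : ℕ) {K : Type w} [Field K] (t d : K) (Q : Type u) [Group Q] (W : Type v)
    [AddCommGroup W] [Module K W] (σ : Representation K Q W) (X X' : Module.End K W)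
    (φ : MulAut Q) : Prop :=
  IsPGroup s Q → X * X' = 1 → X' * X = 1 → (∀ g, X * σ g = σ (φ g) * X) →
    X ^ (2 ^ (m + 1)) = 1 → (X - 1) * (X ^ (2 ^ m) + 1) = 0 →
    (X * X - t • X + d • 1) * (X ^ (2 ^ m) - 1) = 0 → ∀ g, σ ((φ ^ (2 ^ m)) g) = σ g

/-- Step A: pass to the quotient by the kernel of the representation. -/
theorem l2_stepA (s m : ℕ) {K : Type w} [Field K] (t d : K) {Q : Type u} [Group Q] [Finite Q]
    {W : Type v} [AddCommGroup W] [Module K W] (σ : Representation K Q W)
    (X X' : Module.End K W) (φ : MulAut Q)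
    (IH : ∀ (Q' : Type u) [Group Q'] [Finite Q'] (σ' : Representation K Q' W) (φ' : MulAut Q'),
      Nat.card Q' < Nat.card Q → L2Good s m t d Q' W σ' X X' φ')
    (hnf : ¬ Function.Injective σ) : L2Good s m t d Q W σ X X' φ := by
  intro hQ hXX' hX'X hcompat hXP hI1 hI2
  have hNmem : ∀ g, g ∈ σ.ker ↔ σ g = 1 := fun g => MonoidHom.mem_ker
  have hNne : σ.ker ≠ ⊥ := by
    intro hbot
    apply hnf
    intro a b hab
    have : a⁻¹ * b ∈ σ.ker := by
      rw [hNmem, map_mul, ← hab, ← map_mul, inv_mul_cancel, map_one]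
    rw [hbot, Subgroup.mem_bot] at this
    exact inv_mul_eq_one.mp this
  have hσφ : ∀ g, σ (φ g) = X * σ g * X' := by
    intro g; rw [hcompat, mul_assoc, hXX', mul_one]
  have hinv : Inv φ σ.ker := by
    intro g hg
    rw [hNmem] at hg ⊢
    rw [hσφ, hg, mul_one, hXX']
  obtain ⟨σ', hσ'def⟩ : ∃ σ' : Representation K (Q ⧸ σ.ker) W,
      σ' = QuotientGroup.lift σ.ker σ le_rfl := ⟨_, rfl⟩
  obtain ⟨φ', hφ'def⟩ : ∃ φ' : MulAut (Q ⧸ σ.ker), φ' = quotAut φ σ.ker hinv := ⟨_, rfl⟩
  have hσ' : ∀ g : Q, σ' (g : Q ⧸ σ.ker) = σ g := by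
    intro g; rw [hσ'def]; exact QuotientGroup.lift_mk _ _ g
  have hφ' : ∀ g : Q, φ' (g : Q ⧸ σ.ker) = ((φ g : Q) : Q ⧸ σ.ker) := by
    intro g; rw [hφ'def]; exact quotAut_mk φ σ.ker hinv g
  have hcard : Nat.card (Q ⧸ σ.ker) < Nat.card Q := by
    have h1 := Subgroup.card_eq_card_quotient_mul_card_subgroup σ.ker
    have h2 : 1 < Nat.card σ.ker := (Subgroup.one_lt_card_iff_ne_bot _).mpr hNne
    have h3 : 0 < Nat.card (Q ⧸ σ.ker) := Nat.card_pos
    nlinarith
  have hcompat' : ∀ g, X * σ' g = σ' (φ' g) * X := by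
    intro g
    refine QuotientGroup.induction_on g (fun g => ?_)
    rw [hφ', hσ', hσ']; exact hcompat g
  have hres := IH (Q ⧸ σ.ker) σ' φ' hcard (hQ.to_quotient σ.ker) hXX' hX'X hcompat' hXP hI1 hI2
  intro g
  have := hres (g : Q ⧸ σ.ker)
  rw [hφ'def, quotAut_pow_mk, hσ', hσ'] at this
  exact this

/-- Step B: pass to an invariant subgroup. -/
theorem l2_stepB (s m : ℕ) {K : Type w} [Field K] (t d : K) {Q : Type u} [Group Q] [Finite Q]
    {W : Type v} [AddCommGroup W] [Module K W] (σ : Representation K Q W)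
    (X X' : Module.End K W) (φ : MulAut Q)
    (IH : ∀ (Q' : Type u) [Group Q'] [Finite Q'] (σ' : Representation K Q' W) (φ' : MulAut Q'),
      Nat.card Q' < Nat.card Q → L2Good s m t d Q' W σ' X X' φ')
    (Q₁ : Subgroup Q) (hne : Q₁ ≠ ⊤) (hφ : ∀ g ∈ Q₁, φ g ∈ Q₁)
    (hnt : ∃ g ∈ Q₁, σ ((φ ^ (2 ^ m)) g) ≠ σ g) : L2Good s m t d Q W σ X X' φ := by
  intro hQ hXX' hX'X hcompat hXP hI1 hI2
  exfalso
  have hinv : Inv φ Q₁ := hφ
  obtain ⟨φ₁, hφ₁def⟩ : ∃ φ₁ : MulAut Q₁, φ₁ = restrictAut φ Q₁ hinv := ⟨_, rfl⟩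
  have hφ₁ : ∀ g : Q₁, ((φ₁ g : Q₁) : Q) = φ g := by
    intro g; rw [hφ₁def]; exact restrictAut_apply_coe φ Q₁ hinv g
  have hcard : Nat.card Q₁ < Nat.card Q :=
    lt_of_le_of_ne (Subgroup.card_le_card_group Q₁) (fun h => hne (Subgroup.eq_top_of_card_eq Q₁ h))
  have hcompat' : ∀ g : Q₁, X * (σ.comp Q₁.subtype) g = (σ.comp Q₁.subtype) (φ₁ g) * X := by
    intro g
    show X * σ g.1 = σ (φ₁ g).1 * X
    rw [hφ₁]; exact hcompat g.1
  have hres := IH Q₁ (σ.comp Q₁.subtype) φ₁ hcard (hQ.to_subgroup Q₁) hXX' hX'X hcompat' hXP hI1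
    hI2
  obtain ⟨g, hg, hne'⟩ := hnt
  apply hne'
  have := hres ⟨g, hg⟩
  have h2 : σ ((((φ₁ ^ (2 ^ m)) ⟨g, hg⟩ : Q₁) : Q)) = σ g := this
  rw [hφ₁def, restrictAut_pow_apply_coe] at h2
  exact h2

/-- Step C: pass to an invariant subspace. -/
theorem l2_stepC (s m : ℕ) {K : Type w} [Field K] (t d : K) {Q : Type u} [Group Q] {W : Type v}
    [AddCommGroup W] [Module K W] [FiniteDimensional K W] (σ : Representation K Q W)
    (X X' : Module.End K W) (φ : MulAut Q)
    (IH : ∀ (W' : Type v) [AddCommGroup W'] [Module K W'] [FiniteDimensional K W']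
      (σ' : Representation K Q W') (X₁ X₁' : Module.End K W'),
      finrank K W' < finrank K W → L2Good s m t d Q W' σ' X₁ X₁' φ)
    (U : Submodule K W) (hU : U ≠ ⊤) (hσU : ∀ g, ∀ w ∈ U, σ g w ∈ U) (hXU : ∀ w ∈ U, X w ∈ U)
    (hX'U : ∀ w ∈ U, X' w ∈ U)
    (hnt : ∃ g, ∃ w ∈ U, σ ((φ ^ (2 ^ m)) g) w ≠ σ g w) : L2Good s m t d Q W σ X X' φ := by
  intro hQ hXX' hX'X hcompat hXP hI1 hI2
  exfalso
  have hlt : finrank K U < finrank K W := Submodule.finrank_lt hU
  have h1 : (X.restrict hXU : Module.End K U) * X'.restrict hX'U = 1 := by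
    refine LinearMap.ext (fun w => Subtype.ext ?_)
    show X (X' (w : W)) = (w : W)
    rw [← Module.End.mul_apply, hXX']; rfl
  have h2 : (X'.restrict hX'U : Module.End K U) * X.restrict hXU = 1 := by
    refine LinearMap.ext (fun w => Subtype.ext ?_)
    show X' (X (w : W)) = (w : W)
    rw [← Module.End.mul_apply, hX'X]; rfl
  have h3 : ∀ g, (X.restrict hXU : Module.End K U) * resRep σ U hσU g
      = resRep σ U hσU (φ g) * X.restrict hXU := by
    intro g
    refine LinearMap.ext (fun w => Subtype.ext ?_)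
    show X (σ g (w : W)) = σ (φ g) (X (w : W))
    have := congrArg (fun A : Module.End K W => A (w : W)) (hcompat g)
    simpa using this
  have h4 : (X.restrict hXU : Module.End K U) ^ (2 ^ (m + 1)) = 1 := by
    refine LinearMap.ext (fun w => Subtype.ext ?_)
    rw [restrict_pow_coe, hXP]; rfl
  have h5 : ((X.restrict hXU : Module.End K U) - 1) * ((X.restrict hXU) ^ (2 ^ m) + 1) = 0 := by
    refine LinearMap.ext (fun w => Subtype.ext ?_)
    have e := congrArg (fun A : Module.End K W => A (w : W)) hI1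
    simp only [Module.End.mul_apply, LinearMap.add_apply, LinearMap.sub_apply,
      Module.End.one_apply, LinearMap.zero_apply, map_add, map_sub] at e
    simp only [Module.End.mul_apply, LinearMap.add_apply, LinearMap.sub_apply,
      Module.End.one_apply, LinearMap.zero_apply, map_add, map_sub, Submodule.coe_add,
      Submodule.coe_sub, Submodule.coe_zero, LinearMap.restrict_coe_apply, restrict_pow_coe]
    exact e
  have h6 : ((X.restrict hXU : Module.End K U) * (X.restrict hXU) - t • (X.restrict hXU) + d • 1)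
      * ((X.restrict hXU) ^ (2 ^ m) - 1) = 0 := by
    refine LinearMap.ext (fun w => Subtype.ext ?_)
    have e := congrArg (fun A : Module.End K W => A (w : W)) hI2
    simp only [Module.End.mul_apply, LinearMap.add_apply, LinearMap.sub_apply,
      Module.End.one_apply, LinearMap.zero_apply, map_add, map_sub, LinearMap.smul_apply] at e
    simp only [Module.End.mul_apply, LinearMap.add_apply, LinearMap.sub_apply,
      Module.End.one_apply, LinearMap.zero_apply, map_add, map_sub, Submodule.coe_add,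
      Submodule.coe_sub, Submodule.coe_zero, LinearMap.restrict_coe_apply, restrict_pow_coe,
      LinearMap.smul_apply, Submodule.coe_smul]
    exact e
  have hres := IH U (resRep σ U hσU) (X.restrict hXU) (X'.restrict hX'U) hlt hQ h1 h2 h3 h4 h5 h6
  obtain ⟨g, w, hw, hne⟩ := hnt
  apply hne
  have := congrArg (fun A : Module.End K U => ((A ⟨w, hw⟩ : U) : W)) (hres g)
  exact this

/-- An eigenvector of `X ^ t` in a subspace whose first `t` translates are independent yields
eigenvectors of `X` for all `t`-th roots of the eigenvalue. -/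
theorem eig_of_pow_eig {K : Type*} [Field K] {W : Type*} [AddCommGroup W] [Module K W]
    (X : Module.End K W) (t : ℕ) (ht : 0 < t) (V₀ : Submodule K W)
    (hind : iSupIndep (fun i : Fin t => V₀.map (X ^ (i : ℕ)))) (v : W) (hv : v ∈ V₀) (hv0 : v ≠ 0)
    (κ η : K) (hη : η ^ t = κ) (hη0 : η ≠ 0) (hY : (X ^ t) v = κ • v) :
    ∃ w, w ≠ 0 ∧ X w = η • w := by
  classical
  obtain ⟨a, ha⟩ : ∃ a : ℕ → W, ∀ i, a i = (η⁻¹) ^ i • (X ^ i) v := ⟨_, fun i => rfl⟩
  have hXa : ∀ i, X (a i) = η • a (i + 1) := by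
    intro i
    have e1 : η * (η⁻¹) ^ (i + 1) = (η⁻¹) ^ i := by
      rw [pow_succ, mul_comm, mul_assoc, inv_mul_cancel₀ hη0, mul_one]
    rw [ha, ha, map_smul, smul_smul, e1, pow_succ' X i, Module.End.mul_apply]
  have hat : a t = a 0 := by
    rw [ha, ha, hY, smul_smul, inv_pow, hη]
    have hκ0 : κ ≠ 0 := by rw [← hη]; exact pow_ne_zero _ hη0
    rw [inv_mul_cancel₀ hκ0, pow_zero, pow_zero, one_smul, one_smul, Module.End.one_apply]
  refine ⟨∑ i ∈ Finset.range t, a i, ?_, ?_⟩
  · intro h0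
    have hsum : ∑ k : Fin t, a (k : ℕ) = 0 := by
      rw [Fin.sum_univ_eq_sum_range a t]; exact h0
    have h1 := eq_zero_of_sum_eq_zero hind Finset.univ (fun k : Fin t => a (k : ℕ))
      (fun k _ => by
        rw [ha]
        exact Submodule.smul_mem _ _ (Submodule.mem_map_of_mem hv)) hsum ⟨0, ht⟩
      (Finset.mem_univ _)
    have h2 : a 0 = 0 := h1
    rw [ha, pow_zero, pow_zero, one_smul, Module.End.one_apply] at h2
    exact hv0 h2
  · rw [map_sum, Finset.smul_sum]
    rw [Finset.sum_congr rfl (fun i _ => hXa i), ← Finset.smul_sum, ← Finset.smul_sum]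
    congr 1
    have h1 := Finset.sum_range_succ' a t
    have h2 := Finset.sum_range_succ a t
    rw [h1, hat] at h2
    exact add_right_cancel h2

end Cfsg.Agent.Lib.Helper3.Sh
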