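import Mathlib
import Cfsg.Agent.Lib.Helper3.HHC1

/-!
# Hall–Higman Theorem B, part 2: a `p`-automorphism acting minimally on a `q`-group.
-/

namespace Cfsg.Agent.Lib.Helper3.HHC2

open Cfsg.Agent.Lib.Helper3
open scoped commutatorElement

variable {Q : Type*} [Group Q] [Finite Q]

/-- If `ψ` (of order dividing `p`) fixes all `g⁻¹ ψ(g)` in a `q`-group then `ψ = 1`. -/
theorem aut_fix_of_fix_comm (p q : ℕ) [hp : Fact p.Prime] [hq : Fact q.Prime] (hpq : p ≠ q)
    (hQ : IsPGroup q Q) (ψ : MulAut Q) (hψ : ψ ^ p = 1)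
    (h : ∀ g, ψ (g⁻¹ * ψ g) = g⁻¹ * ψ g) : ∀ g, ψ g = g := by
  intro g
  obtain ⟨c, hc⟩ : ∃ c, c = g⁻¹ * ψ g := ⟨_, rfl⟩
  have hψg : ψ g = g * c := by rw [hc, mul_inv_cancel_left]
  have hψc : ψ c = c := by rw [hc]; exact h g
  have hpow : ∀ i : ℕ, (ψ ^ i) g = g * c ^ i := by
    intro i
    induction i with
    | zero => simp
    | succ i ih =>
      rw [pow_succ', MulAut.mul_apply, ih, map_mul, map_pow, hψg, hψc, mul_assoc, ← pow_succ']
  have h1 : g * c ^ p = g := by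
    rw [← hpow p, hψ]; rfl
  have hcp : c ^ p = 1 := by
    have := mul_left_cancel (a := g) (b := c ^ p) (c := 1) (by rw [h1, mul_one])
    exact this
  obtain ⟨a, ha⟩ := hQ c
  have hcop : Nat.Coprime p (q ^ a) :=
    Nat.Coprime.pow_right a ((Nat.coprime_primes hp.out hq.out).mpr hpq)
  have h3 := pow_gcd_eq_one.mpr ⟨hcp, ha⟩
  rw [hcop.gcd_eq_one, pow_one] at h3
  rw [hψg, h3, mul_one]

/-- The structure forced by minimality. -/
theorem minimal_structure (p q : ℕ) [hp : Fact p.Prime] [hq : Fact q.Prime] (hpq : p ≠ q)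
    (hQ : IsPGroup q Q) (φ : MulAut Q) (k : ℕ) (hψp : (φ ^ k) ^ p = 1)
    (hmin : ∀ Q₁ : Subgroup Q, Q₁ ≠ ⊤ → (∀ g ∈ Q₁, φ g ∈ Q₁) → ∀ g ∈ Q₁, (φ ^ k) g = g)
    (hnt : ∃ g, (φ ^ k) g ≠ g) :
    (∀ d, (φ ^ k) d = d → ∀ g, d * g = g * d) ∧
    (Subgroup.closure {c : Q | ∃ g, c = g⁻¹ * (φ ^ k) g} = ⊤) ∧
    (∀ a b : Q, (φ ^ k) (a * b * a⁻¹ * b⁻¹) = a * b * a⁻¹ * b⁻¹) := by
  obtain ⟨ψ, hψ⟩ : ∃ ψ : MulAut Q, ψ = φ ^ k := ⟨_, rfl⟩
  rw [← hψ] at hψp hmin hnt ⊢
  have hcomm : ∀ g, ψ (φ g) = φ (ψ g) := by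
    intro g; rw [hψ]; exact HHC1.pow_comm_aut φ k g
  haveI : Group.IsNilpotent Q := hQ.isNilpotent
  -- the fixed-point subgroup
  let D : Subgroup Q :=
    { carrier := {g | ψ g = g}
      one_mem' := map_one ψ
      mul_mem' := by
        intro a b ha hb
        show ψ (a * b) = a * b
        rw [map_mul, show ψ a = a from ha, show ψ b = b from hb]
      inv_mem' := by
        intro a ha
        show ψ a⁻¹ = a⁻¹
        rw [map_inv, show ψ a = a from ha] }
  have hDmem : ∀ g, g ∈ D ↔ ψ g = g := fun g => Iff.rfl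
  have hDφ : ∀ g, g ∈ D ↔ φ g ∈ D := by
    intro g
    rw [hDmem, hDmem, hcomm]
    constructor
    · intro h; rw [h]
    · intro h; exact φ.injective h
  have hDne : D ≠ ⊤ := by
    intro htop
    obtain ⟨g, hg⟩ := hnt
    exact hg ((hDmem g).mp (by rw [htop]; trivial))
  -- the normalizer is invariant
  have hNφ : ∀ g ∈ Subgroup.normalizer (D : Set Q), φ g ∈ Subgroup.normalizer (D : Set Q) := by
    intro g hg
    rw [Subgroup.mem_normalizer_iff] at hg ⊢
    intro h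
    have e1 : φ g * h * (φ g)⁻¹ = φ (g * φ⁻¹ h * g⁻¹) := by
      rw [map_mul, map_mul, map_inv, MulAut.apply_inv_self]
    rw [e1, ← hDφ, ← hg, hDφ (φ⁻¹ h), MulAut.apply_inv_self]
  have hDN : D < Subgroup.normalizer (D : Set Q) :=
    Group.normalizerCondition_of_isNilpotent D (lt_top_iff_ne_top.mpr hDne)
  have hNtop : Subgroup.normalizer (D : Set Q) = ⊤ := by
    by_contra hne
    have h1 := hmin _ hne hNφ
    have h2 : Subgroup.normalizer (D : Set Q) ≤ D := fun g hg => (hDmem g).mpr (h1 g hg)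
    exact absurd hDN (not_lt_of_ge h2)
  have hDnormal : ∀ d ∈ D, ∀ g : Q, g * d * g⁻¹ ∈ D := by
    intro d hd g
    have hg : g ∈ Subgroup.normalizer (D : Set Q) := by rw [hNtop]; trivial
    exact (Subgroup.mem_normalizer_iff.mp hg d).mp hd
  -- generators commute with D
  have hcD : ∀ d ∈ D, ∀ g : Q, (g⁻¹ * ψ g) * d = d * (g⁻¹ * ψ g) := by
    intro d hd g
    have h1 := (hDmem _).mp (hDnormal d hd g)
    rw [map_mul, map_mul, map_inv, (hDmem d).mp hd] at h1
    have h2 : ψ g * d = g * d * g⁻¹ * ψ g := mul_inv_eq_iff_eq_mul.mp h1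
    rw [mul_assoc, h2]
    group
  -- the commutator closure
  have hS : Subgroup.closure {c : Q | ∃ g, c = g⁻¹ * ψ g} = ⊤ := by
    by_contra hne
    have hinv : ∀ g ∈ Subgroup.closure {c : Q | ∃ g, c = g⁻¹ * ψ g},
        φ g ∈ Subgroup.closure {c : Q | ∃ g, c = g⁻¹ * ψ g} := by
      intro g hg
      have h1 : (Subgroup.closure {c : Q | ∃ g, c = g⁻¹ * ψ g}).map (φ : Q →* Q)
          ≤ Subgroup.closure {c : Q | ∃ g, c = g⁻¹ * ψ g} := by
        rw [MonoidHom.map_closure, Subgroup.closure_le]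
        rintro _ ⟨c, ⟨g', rfl⟩, rfl⟩
        apply Subgroup.subset_closure
        refine ⟨φ g', ?_⟩
        show φ (g'⁻¹ * ψ g') = (φ g')⁻¹ * ψ (φ g')
        rw [map_mul, map_inv, hcomm]
      exact h1 (Subgroup.mem_map_of_mem _ hg)
    have h2 := hmin _ hne hinv
    have h3 : ∀ g, ψ (g⁻¹ * ψ g) = g⁻¹ * ψ g :=
      fun g => h2 _ (Subgroup.subset_closure ⟨g, rfl⟩)
    obtain ⟨g, hg⟩ := hnt
    exact hg (aut_fix_of_fix_comm p q hpq hQ ψ hψp h3 g)
  refine ⟨?_, hS, ?_⟩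
  · intro d hd g
    have hle : Subgroup.closure {c : Q | ∃ g, c = g⁻¹ * ψ g} ≤ Subgroup.centralizer {d} := by
      rw [Subgroup.closure_le]
      rintro _ ⟨g', rfl⟩
      rw [SetLike.mem_coe, Subgroup.mem_centralizer_iff]
      intro h hh
      rw [Set.mem_singleton_iff.mp hh]
      exact (hcD d ((hDmem d).mpr hd) g').symm
    have hg : g ∈ Subgroup.centralizer {d} := hle (by rw [hS]; trivial)
    exact Subgroup.mem_centralizer_iff.mp hg d rfl
  · intro a b
    haveI : Nontrivial Q := by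
      obtain ⟨g, hg⟩ := hnt
      refine ⟨⟨ψ g, g, hg⟩⟩
    have hlt : commutator Q < ⊤ := Group.IsSolvable.commutator_lt_top_of_nontrivial Q
    have hinv : ∀ g ∈ commutator Q, φ g ∈ commutator Q := by
      intro g hg
      have hchar : (commutator Q).Characteristic := inferInstance
      have := hchar.fixed φ
      rw [← this] at hg
      exact hg
    have h1 := hmin _ (ne_of_lt hlt) hinv
    apply h1
    have : a * b * a⁻¹ * b⁻¹ = ⁅a, b⁆ := (commutatorElement_def a b).symm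
    rw [this, commutator_def]
    exact Subgroup.commutator_mem_commutator (Subgroup.mem_top a) (Subgroup.mem_top b)

end Cfsg.Agent.Lib.Helper3.HHC2
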