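import Mathlib
import Cfsg.Agent.Lib.Helper3.HHC1
import Cfsg.Agent.Lib.Helper3.HHC2
import Cfsg.Agent.Lib.Helper3.ShU

/-!
# Shult–Gross, part X: the minimal configuration is irreducible.
-/

set_option autoImplicit false
set_option maxHeartbeats 4000000
set_option maxRecDepth 100000
set_option linter.unusedVariables false
set_option linter.unusedSectionVars false
set_option linter.style.haveILetI false
set_option linter.deprecated false

namespace Cfsg.Agent.Lib.Helper3.Sh

open Module Cfsg.Agent.Lib.Helper3 Cfsg.Agent.Lib.Helper3.HHC1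

/-- In a minimal counterexample, the fixed points of `ψ = φ ^ (p ^ n)` are central, commutators
are fixed by `ψ`, and the module is irreducible under `Q` and `X`. -/
theorem pp_min_irr (p s n : ℕ) [hp : Fact p.Prime] [hs : Fact s.Prime] (hps : p ≠ s)
    {K : Type*} [Field K] (hsK : (s : K) ≠ 0) {Q : Type*} [Group Q]
    [Finite Q] {W : Type*} [AddCommGroup W] [Module K W] [FiniteDimensional K W]
    (σ : Representation K Q W) (X X' : Module.End K W) (φ : MulAut Q)
    (hfaith : Function.Injective σ)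
    (hminQ : ∀ Q₁ : Subgroup Q, Q₁ ≠ ⊤ → (∀ g ∈ Q₁, φ g ∈ Q₁) →
      ∀ g ∈ Q₁, σ ((φ ^ (p ^ n)) g) = σ g)
    (hminW : ∀ U : Submodule K W, U ≠ ⊤ → (∀ g, ∀ w ∈ U, σ g w ∈ U) → (∀ w ∈ U, X w ∈ U) →
      (∀ w ∈ U, X' w ∈ U) → ∀ g, ∀ w ∈ U, σ ((φ ^ (p ^ n)) g) w = σ g w)
    (hQ : IsPGroup s Q) (hXX' : X * X' = 1) (hX'X : X' * X = 1)
    (hcompat : ∀ g, X * σ g = σ (φ g) * X) (hXP : X ^ (p ^ (n + 1)) = 1)
    (hNT : ∃ g, σ ((φ ^ (p ^ n)) g) ≠ σ g) :
    φ ^ (p ^ (n + 1)) = 1 ∧ Nontrivial W ∧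
    (∀ d, (φ ^ (p ^ n)) d = d → ∀ g, d * g = g * d) ∧
    (∀ a b : Q, (φ ^ (p ^ n)) (a * b * a⁻¹ * b⁻¹) = a * b * a⁻¹ * b⁻¹) ∧
    (∀ U : Submodule K W, (∀ g, ∀ w ∈ U, σ g w ∈ U) → (∀ w ∈ U, X w ∈ U) →
      U = ⊥ ∨ U = ⊤) := by
  classical
  have hφP : φ ^ (p ^ (n + 1)) = 1 := by
    ext g
    apply hfaith
    have h1 := compat_pow σ X φ hcompat (p ^ (n + 1)) g
    rw [hXP, one_mul, mul_one] at h1
    rw [← h1]; rfl
  have hψp : (φ ^ (p ^ n)) ^ p = 1 := by
    rw [← pow_mul, ← pow_succ]; exact hφP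
  have hmin' : ∀ Q₁ : Subgroup Q, Q₁ ≠ ⊤ → (∀ g ∈ Q₁, φ g ∈ Q₁) →
      ∀ g ∈ Q₁, (φ ^ (p ^ n)) g = g := by
    intro Q₁ h1 h2 g hg
    exact hfaith (hminQ Q₁ h1 h2 g hg)
  have hnt' : ∃ g, (φ ^ (p ^ n)) g ≠ g := by
    obtain ⟨g, hg⟩ := hNT
    refine ⟨g, fun h => hg ?_⟩
    rw [h]
  obtain ⟨hDcen, hgen, hcommfix⟩ :=
    HHC2.minimal_structure p s hps hQ φ (p ^ n) hψp hmin' hnt'
  have hntW : Nontrivial W := by
    obtain ⟨g, hg⟩ := hNT
    by_contra hnon
    rw [not_nontrivial_iff_subsingleton] at hnon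
    apply hg
    ext w
    exact Subsingleton.elim _ _
  haveI := hntW
  obtain ⟨m, hm⟩ := IsPGroup.iff_card.mp hQ
  haveI : Fintype Q := Fintype.ofFinite Q
  have hcardK' : (Nat.card Q : K) ≠ 0 := by
    rw [hm, Nat.cast_pow]
    exact pow_ne_zero _ hsK
  have hcardK : (Fintype.card Q : K) ≠ 0 := by
    rw [← Nat.card_eq_fintype_card]; exact hcardK'
  have hfixer : ∀ U : Submodule K W, (∀ g, ∀ w ∈ U, σ ((φ ^ (p ^ n)) g) w = σ g w) →
      ∀ g, ∀ w ∈ U, σ g w = w := by
    intro U hU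
    let Fx : Subgroup Q :=
      { carrier := {g | ∀ w ∈ U, σ g w = w}
        one_mem' := by intro w _; simp
        mul_mem' := by
          intro a b ha hb w hw
          rw [map_mul, Module.End.mul_apply, hb w hw, ha w hw]
        inv_mem' := by
          intro a ha w hw
          have h1 := ha w hw
          have h2 : σ a⁻¹ (σ a w) = w := by
            rw [← Module.End.mul_apply, ← map_mul, inv_mul_cancel, map_one]; rfl
          rwa [h1] at h2 }
    have hle : Subgroup.closure {c : Q | ∃ g, c = g⁻¹ * (φ ^ (p ^ n)) g} ≤ Fx := by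
      rw [Subgroup.closure_le]
      rintro _ ⟨g, rfl⟩ w hw
      show σ (g⁻¹ * (φ ^ (p ^ n)) g) w = w
      rw [map_mul, Module.End.mul_apply, hU g w hw, ← Module.End.mul_apply, ← map_mul,
        inv_mul_cancel, map_one]; rfl
    intro g w hw
    have : g ∈ Fx := hle (by rw [hgen]; trivial)
    exact this w hw
  obtain ⟨e, hedef⟩ : ∃ e : Module.End K W, e = (Fintype.card Q : K)⁻¹ • ∑ g : Q, σ g :=
    ⟨_, rfl⟩
  have hσe : ∀ h, σ h * e = e := by
    intro h
    rw [hedef, mul_smul_comm, Finset.mul_sum]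
    congr 1
    refine Fintype.sum_equiv (Equiv.mulLeft h) _ _ (fun g => ?_)
    rw [← map_mul]; rfl
  have heσ : ∀ h, e * σ h = e := by
    intro h
    rw [hedef, smul_mul_assoc, Finset.sum_mul]
    congr 1
    refine Fintype.sum_equiv (Equiv.mulRight h) _ _ (fun g => ?_)
    rw [← map_mul]; rfl
  have hee : e * e = e := by
    calc e * e = ((Fintype.card Q : K)⁻¹ • ∑ g : Q, σ g) * e := by rw [← hedef]
      _ = (Fintype.card Q : K)⁻¹ • ∑ g : Q, σ g * e := by rw [smul_mul_assoc, Finset.sum_mul]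
      _ = (Fintype.card Q : K)⁻¹ • ∑ _g : Q, e := by simp only [hσe]
      _ = e := by
        rw [Finset.sum_const, Finset.card_univ, ← Nat.cast_smul_eq_nsmul K, smul_smul,
          inv_mul_cancel₀ hcardK, one_smul]
  have hXe : X * e = e * X := by
    rw [hedef, mul_smul_comm, smul_mul_assoc, Finset.mul_sum, Finset.sum_mul]
    congr 1
    rw [Finset.sum_congr rfl (fun g _ => hcompat g)]
    exact Fintype.sum_equiv φ.toEquiv _ _ (fun g => rfl)
  have hX'e : X' * e = e * X' := by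
    calc X' * e = X' * (e * X) * X' := by rw [mul_assoc, mul_assoc, hXX', mul_one]
      _ = X' * (X * e) * X' := by rw [hXe]
      _ = e * X' := by rw [← mul_assoc, hX'X, one_mul]
  have hefix : ∀ w, (∀ g, σ g w = w) → e w = w := by
    intro w hw
    rw [hedef]
    simp only [LinearMap.smul_apply, LinearMap.sum_apply, hw, Finset.sum_const, Finset.card_univ]
    rw [← Nat.cast_smul_eq_nsmul K, smul_smul, inv_mul_cancel₀ hcardK, one_smul]
  refine ⟨hφP, hntW, hDcen, hcommfix, ?_⟩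
  intro U hσU hXU
  by_cases hUtop : U = ⊤
  · exact Or.inr hUtop
  left
  have hX'U := inv_mem_of_mem X X' hX'X U hXU
  have hUfix := hfixer U (hminW U hUtop hσU hXU hX'U)
  have hker_σ : ∀ g, ∀ w ∈ LinearMap.ker e, σ g w ∈ LinearMap.ker e := by
    intro g w hw
    rw [LinearMap.mem_ker] at hw ⊢
    rw [← Module.End.mul_apply, heσ, hw]
  have hker_X : ∀ w ∈ LinearMap.ker e, X w ∈ LinearMap.ker e := by
    intro w hw
    rw [LinearMap.mem_ker] at hw ⊢
    rw [← Module.End.mul_apply, ← hXe, Module.End.mul_apply, hw, map_zero]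
  have hker_X' : ∀ w ∈ LinearMap.ker e, X' w ∈ LinearMap.ker e := by
    intro w hw
    rw [LinearMap.mem_ker] at hw ⊢
    rw [← Module.End.mul_apply, ← hX'e, Module.End.mul_apply, hw, map_zero]
  by_cases hktop : LinearMap.ker e = ⊤
  · rw [Submodule.eq_bot_iff]
    intro w hw
    have h1 := hefix w (fun g => hUfix g w hw)
    have h2 : e w = 0 := LinearMap.mem_ker.mp (by rw [hktop]; trivial)
    rw [← h1, h2]
  · exfalso
    have hkfix := hfixer _ (hminW _ hktop hker_σ hker_X hker_X')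
    have hkbot : ∀ w ∈ LinearMap.ker e, w = 0 := by
      intro w hw
      have h1 := hefix w (fun g => hkfix g w hw)
      rw [← h1]
      exact LinearMap.mem_ker.mp hw
    have he1 : ∀ w, e w = w := by
      intro w
      have : e w - w ∈ LinearMap.ker e := by
        rw [LinearMap.mem_ker, map_sub, ← Module.End.mul_apply, hee, sub_self]
      exact sub_eq_zero.mp (hkbot _ this)
    obtain ⟨g, hg⟩ := hNT
    apply hg
    have hall : ∀ g', σ g' = 1 := by
      intro g'
      ext w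
      have := congrArg (fun A : Module.End K W => A w) (hσe g')
      simp only [Module.End.mul_apply, he1] at this
      simpa using this
    rw [hall, hall]

end Cfsg.Agent.Lib.Helper3.Sh
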