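import Mathlib

/-!
# Shult–Gross, part T: the arithmetic of the exceptional case `p ^ (N + 1) = 2 ^ b + 1`.
-/

set_option autoImplicit false
set_option maxHeartbeats 4000000
set_option maxRecDepth 100000
set_option linter.unusedVariables false
set_option linter.unusedSectionVars false
set_option linter.style.haveILetI false
set_option linter.deprecated false

namespace Cfsg.Agent.Lib.Helper3.Sh

/-- If `p ^ (N + 1) = 2 ^ b + 1` with `p` odd and `p ^ (N + 1 + j)` divides `2 ^ D - 1` with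
`D ≥ 1`, then `D ≥ 2 b p ^ j`. -/
theorem ar_bound (p : ℕ) [hp : Fact p.Prime] (hp2 : p ≠ 2) (b N j D : ℕ)
    (hpb : p ^ (N + 1) = 2 ^ b + 1) (hD : 1 ≤ D) (hdiv : p ^ (N + 1 + j) ∣ 2 ^ D - 1) :
    2 * b * p ^ j ≤ D := by
  have hpodd : Odd p := by
    rcases hp.out.eq_two_or_odd' with h | h
    · exact absurd h hp2
    · exact h
  have hp3 : 3 ≤ p := by
    have h1 := hp.out.two_le
    omega
  have hM3 : 3 ≤ p ^ (N + 1) := le_trans hp3 (Nat.le_self_pow (by omega) p)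
  have hb1 : 1 ≤ b := by
    by_contra h
    have h0 : b = 0 := by omega
    rw [h0] at hpb
    simp at hpb
    omega
  obtain ⟨M, hM⟩ : ∃ M, M = p ^ (N + 1) := ⟨_, rfl⟩
  rw [← hM] at hpb hM3
  obtain ⟨t, ht⟩ : ∃ t, 2 ^ b = t + 1 := ⟨2 ^ b - 1, by have := Nat.one_le_two_pow (n := b); omega⟩
  have h2b : 2 ^ (2 * b) - 1 = (2 ^ b - 1) * M := by
    rw [hpb, two_mul, pow_add, ht]
    have h1 : (t + 1) * (t + 1) = t * (t + 1 + 1) + 1 := by ring
    rw [h1]
    simp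
  have hMdivD : M ∣ 2 ^ D - 1 := by
    rw [hM]
    exact dvd_trans (pow_dvd_pow p (by omega)) hdiv
  have hMdiv2b : M ∣ 2 ^ (2 * b) - 1 := by rw [h2b]; exact dvd_mul_left _ _
  have hg : M ∣ 2 ^ (Nat.gcd D (2 * b)) - 1 := by
    rw [← Nat.pow_sub_one_gcd_pow_sub_one]
    exact Nat.dvd_gcd hMdivD hMdiv2b
  have h2bD : 2 * b ∣ D := by
    obtain ⟨g, hgdef⟩ : ∃ g, g = Nat.gcd D (2 * b) := ⟨_, rfl⟩
    rw [← hgdef] at hg
    have hgdvd : g ∣ 2 * b := by rw [hgdef]; exact Nat.gcd_dvd_right _ _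
    have hgpos : 0 < g := by rw [hgdef]; exact Nat.gcd_pos_of_pos_left _ (by omega)
    by_cases hg2b : g = 2 * b
    · rw [← hg2b, hgdef]; exact Nat.gcd_dvd_left _ _
    · exfalso
      obtain ⟨c, hc⟩ := hgdvd
      have hc2 : 2 ≤ c := by
        rcases c with _ | _ | c
        · omega
        · omega
        · omega
      have hgb : g ≤ b := by nlinarith
      have h1 : 2 ^ g ≤ 2 ^ b := Nat.pow_le_pow_right (by norm_num) hgb
      have h2 : 2 ^ 1 ≤ 2 ^ g := Nat.pow_le_pow_right (by norm_num) hgpos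
      have h3 : 0 < 2 ^ g - 1 := by omega
      have h4 := Nat.le_of_dvd h3 hg
      omega
  obtain ⟨e, he⟩ := h2bD
  have he0 : e ≠ 0 := by
    rintro rfl
    omega
  have hx : 2 ^ D - 1 = (2 ^ (2 * b)) ^ e - 1 ^ e := by rw [he, pow_mul, one_pow]
  have h1lt : 1 < 2 ^ (2 * b) := Nat.one_lt_two_pow (by omega)
  have hpM : p ∣ M := by rw [hM]; exact dvd_pow_self p (by omega)
  have hpd : p ∣ 2 ^ (2 * b) - 1 := dvd_trans hpM hMdiv2b
  have hpn2 : ¬ p ∣ 2 := by
    intro h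
    have := Nat.le_of_dvd (by norm_num) h
    omega
  have hpnd : ¬ p ∣ 2 ^ (2 * b) := by
    intro h
    exact hpn2 (hp.out.dvd_of_dvd_pow h)
  have hlte := padicValNat.pow_sub_pow hpodd h1lt hpd hpnd he0
  have hnd : ¬ p ∣ 2 ^ b - 1 := by
    intro h
    apply hpn2
    have h5 : 2 ^ b - 1 = M - 2 := by omega
    rw [h5] at h
    have h6 : p ∣ M - (M - 2) := Nat.dvd_sub hpM h
    have h7 : M - (M - 2) = 2 := by omega
    rwa [h7] at h6
  have hv2b : padicValNat p (2 ^ (2 * b) - 1) = N + 1 := by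
    rw [h2b, padicValNat.mul (by omega) (by omega), hM, padicValNat.prime_pow,
      padicValNat.eq_zero_of_not_dvd hnd, zero_add]
  have hDne : 2 ^ D - 1 ≠ 0 := by
    have : 2 ^ 1 ≤ 2 ^ D := Nat.pow_le_pow_right (by norm_num) hD
    omega
  have hle : N + 1 + j ≤ padicValNat p (2 ^ D - 1) := (padicValNat_dvd_iff_le hDne).mp hdiv
  rw [hx, hlte, hv2b] at hle
  have hj : j ≤ padicValNat p e := by omega
  have hpj : p ^ j ∣ e := (padicValNat_dvd_iff_le he0).mpr hj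
  have h8 := Nat.le_of_dvd (Nat.pos_of_ne_zero he0) hpj
  rw [he]
  exact Nat.mul_le_mul_left _ h8

end Cfsg.Agent.Lib.Helper3.Sh
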