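import Mathlib
import Cfsg.Agent.Lib.Helper3.HHC1
import Cfsg.Agent.Lib.Helper3.ShR
import Cfsg.Agent.Lib.Helper3.ShT
import Cfsg.Agent.Lib.Helper3.ShV
import Cfsg.Agent.Lib.Helper8.FP4a

/-!
# Shult–Gross, part Z: spreading triviality from a weight space, and the contradiction in the
exceptional case `p ^ (N + 1) = 2 ^ b + 1`.
-/

set_option autoImplicit false
set_option maxHeartbeats 4000000
set_option maxRecDepth 100000
set_option linter.unusedVariables false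
set_option linter.unusedSectionVars false
set_option linter.style.haveILetI false
set_option linter.deprecated false

namespace Cfsg.Agent.Lib.Helper3.Sh

open Module Cfsg.Agent.Lib.Helper3 Cfsg.Agent.Lib.Helper3.HHC1 Cfsg.Agent.Lib.Helper8.FP4

/-- If a power of `φ` acts trivially on the image of `Q` in `GL(V₀)` and the translates of `V₀`
span, it acts trivially on the image of `Q`. -/
theorem pp_spread {K : Type*} [Field K] {W : Type*} [AddCommGroup W] [Module K W]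
    {Q : Type*} [Group Q] (σ : Representation K Q W) (X : Module.End K W) (φ : MulAut Q)
    (hcompat : ∀ g, X * σ g = σ (φ g) * X) (t m : ℕ) (V₀ : Submodule K W)
    (hsup : (⨆ i : Fin t, V₀.map (X ^ (i : ℕ))) = ⊤)
    (h : ∀ g, ∀ w ∈ V₀, σ ((φ ^ m) g) w = σ g w) : ∀ g, σ ((φ ^ m) g) = σ g := by
  have hXpow : ∀ (i : ℕ) (g : Q) (v : W), σ g ((X ^ i) v) = (X ^ i) (σ ((φ ^ i)⁻¹ g) v) := by
    intro i g v
    have h1 := compat_pow σ X φ hcompat i ((φ ^ i)⁻¹ g)
    rw [MulAut.apply_inv_self] at h1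
    have := congrArg (fun A : Module.End K W => A v) h1
    simp only [Module.End.mul_apply] at this
    exact this.symm
  intro g
  refine end_ext_of_iSup _ hsup _ _ (fun i w hw => ?_)
  obtain ⟨v, hv, rfl⟩ := Submodule.mem_map.mp hw
  rw [hXpow, hXpow, pow_inv_comm_aut, h _ v hv]

theorem pp_exceptional (p : ℕ) [hp : Fact p.Prime] (hp2 : p ≠ 2) {K : Type*} [Field K]
    {Q : Type*} [Group Q] [Finite Q] {W : Type*} [AddCommGroup W] [Module K W]
    (σ : Representation K Q W) (X X' : Module.End K W) (hXX' : X * X' = 1) (hX'X : X' * X = 1)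
    (φ : MulAut Q) (hcompat : ∀ g, X * σ g = σ (φ g) * X)
    (hfaith : Function.Injective σ) (hQ : IsPGroup 2 Q) (hfpf : ∀ g, φ g = g → g = 1)
    (j N : ℕ) (hj : 1 ≤ j) (hφP : φ ^ (p ^ (j + N + 1)) = 1)
    (χ : Q → K) (V₀ : Submodule K W) (hV₀ne : V₀ ≠ ⊥)
    (hper : ∀ g, χ ((φ ^ (p ^ j))⁻¹ g) = χ g)
    (hsup : (⨆ i : Fin (p ^ j), V₀.map (X ^ (i : ℕ))) = ⊤)
    (hVwt : ∀ (i : ℕ), ∀ w ∈ V₀.map (X ^ i), ∀ z ∈ Subgroup.center Q,
      σ z w = χ ((φ ^ i)⁻¹ z) • w)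
    (hcenfix : ∀ z ∈ Subgroup.center Q, (φ ^ (p ^ (j + N))) z = z)
    (hDcen : ∀ d, (φ ^ (p ^ (j + N))) d = d → ∀ g, d * g = g * d)
    (hcommfix : ∀ a b : Q, (φ ^ (p ^ (j + N))) (a * b * a⁻¹ * b⁻¹) = a * b * a⁻¹ * b⁻¹)
    (hnt : ∃ g, (φ ^ (p ^ (j + N))) g ≠ g)
    (b : ℕ) (Z₀ : Subgroup Q) (hpb : p ^ (N + 1) = 2 ^ b + 1) (hidx : Z₀.index = (2 ^ b) ^ 2)
    (hZ₀ : ∀ g ∈ Z₀, ∀ h, ∀ w ∈ V₀, σ (g * h * g⁻¹ * h⁻¹) w = w) : False := by
  classical
  haveI : Fact (Nat.Prime 2) := ⟨Nat.prime_two⟩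
  obtain ⟨ψ, hψdef⟩ : ∃ ψ : MulAut Q, ψ = φ ^ (p ^ (j + N)) := ⟨_, rfl⟩
  rw [← hψdef] at hcenfix hDcen hcommfix hnt
  have hψp : ψ ^ p = 1 := by
    rw [hψdef, ← pow_mul, ← pow_succ]; exact hφP
  have hp3 : 3 ≤ p := by
    have h1 := hp.out.two_le
    omega
  obtain ⟨t', ht'⟩ : ∃ t', p ^ j = t' + 1 := ⟨p ^ j - 1, by
    have : 0 < p ^ j := pow_pos hp.out.pos _
    omega⟩
  have hcomm_cen : ∀ g h : Q, g * h * g⁻¹ * h⁻¹ ∈ Subgroup.center Q := by
    intro g h
    exact Subgroup.mem_center_iff.mpr (fun g' => (hDcen _ (hcommfix g h) g').symm)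
  have hXpow : ∀ (i : ℕ) (g : Q) (v : W), σ g ((X ^ i) v) = (X ^ i) (σ ((φ ^ i)⁻¹ g) v) := by
    intro i g v
    have h1 := compat_pow σ X φ hcompat i ((φ ^ i)⁻¹ g)
    rw [MulAut.apply_inv_self] at h1
    have := congrArg (fun A : Module.End K W => A v) h1
    simp only [Module.End.mul_apply] at this
    exact this.symm
  have hV0 : V₀.map (X ^ 0) = V₀ := by
    rw [pow_zero]
    exact Submodule.map_id _
  have hV₀wt : ∀ w ∈ V₀, ∀ z ∈ Subgroup.center Q, σ z w = χ z • w := by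
    intro w hw z hz
    have := hVwt 0 w (by rw [hV0]; exact hw) z hz
    simpa using this
  obtain ⟨w₀, hw₀, hw₀0⟩ := Submodule.exists_mem_ne_zero_of_ne_bot hV₀ne
  have hχmul : ∀ z ∈ Subgroup.center Q, ∀ z' ∈ Subgroup.center Q, χ (z * z') = χ z * χ z' := by
    intro z hz z' hz'
    have h1 := hV₀wt w₀ hw₀ (z * z') (mul_mem hz hz')
    rw [map_mul, Module.End.mul_apply, hV₀wt w₀ hw₀ z' hz', map_smul, hV₀wt w₀ hw₀ z hz,
      smul_smul] at h1
    have h2 : (χ z' * χ z - χ (z * z')) • w₀ = 0 := by rw [sub_smul, h1, sub_self]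
    rcases smul_eq_zero.mp h2 with h | h
    · rw [mul_comm]; exact (sub_eq_zero.mp h).symm
    · exact absurd h hw₀0
  have hχone : χ 1 = 1 := by
    have h1 := hV₀wt w₀ hw₀ 1 (one_mem _)
    rw [map_one, Module.End.one_apply] at h1
    have h2 : (1 - χ 1) • w₀ = 0 := by rw [sub_smul, one_smul, ← h1, sub_self]
    rcases smul_eq_zero.mp h2 with h | h
    · exact (sub_eq_zero.mp h).symm
    · exact absurd h hw₀0
  -- the product of the conjugate weights
  obtain ⟨Pr, hPrdef⟩ : ∃ Pr : Q → K,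
      Pr = fun z => ∏ i ∈ Finset.range (p ^ j), χ ((φ ^ i)⁻¹ z) := ⟨_, rfl⟩
  have hPr : ∀ z, Pr z = ∏ i ∈ Finset.range (p ^ j), χ ((φ ^ i)⁻¹ z) := by
    intro z; rw [hPrdef]
  have hPrmul : ∀ z ∈ Subgroup.center Q, ∀ z' ∈ Subgroup.center Q, Pr (z * z') = Pr z * Pr z' := by
    intro z hz z' hz'
    rw [hPr, hPr, hPr, ← Finset.prod_mul_distrib]
    refine Finset.prod_congr rfl (fun i _ => ?_)
    rw [map_mul, hχmul _ (center_aut_mem _ z hz) _ (center_aut_mem _ z' hz')]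
  have hProne : Pr 1 = 1 := by
    rw [hPr]
    refine Finset.prod_eq_one (fun i _ => ?_)
    rw [map_one, hχone]
  have hPrφ : ∀ z, Pr (φ z) = Pr z := by
    intro z
    rw [hPr, hPr, ht', Finset.prod_range_succ', Finset.prod_range_succ]
    congr 1
    · refine Finset.prod_congr rfl (fun i _ => ?_)
      rw [pow_succ', mul_inv_rev, MulAut.mul_apply, MulAut.inv_apply_self]
    · have h1 := hper (φ z)
      rw [ht', pow_succ', mul_inv_rev, MulAut.mul_apply, MulAut.inv_apply_self] at h1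
      rw [h1]
      simp
  have hinvcen : Inv φ (Subgroup.center Q) := fun z hz => center_aut_mem φ z hz
  have hprod : ∀ z ∈ Subgroup.center Q, Pr z = 1 := by
    intro z hz
    have hfpfZ := Fpf.restrict (σ := φ) hfpf (Subgroup.center Q) hinvcen
    obtain ⟨x, hx⟩ := Fpf.surj hfpfZ ⟨z, hz⟩
    have hx' : (x : Q)⁻¹ * φ (x : Q) = z := by
      have := congrArg Subtype.val hx
      simpa [restrictAut_apply_coe] using this
    rw [← hx', hPrmul _ (inv_mem x.2) _ (hinvcen _ x.2), hPrφ, ← hPrmul _ (inv_mem x.2) _ x.2,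
      inv_mul_cancel, hProne]
  have hXinj : ∀ (i : ℕ) (v : W), (X ^ i) v = 0 → v = 0 := by
    intro i v hv
    have h1 : X' ^ i * X ^ i = 1 := pow_mul_pow_eq_one X' X hX'X hXX' i
    have h2 : (X' ^ i) ((X ^ i) v) = v := by
      rw [← Module.End.mul_apply, h1]; rfl
    rw [hv, map_zero] at h2
    exact h2.symm
  -- the conjugates of `Z₀`
  obtain ⟨Zf, hZfdef⟩ : ∃ Zf : ℕ → Subgroup Q,
      Zf = fun i => Z₀.map ((φ ^ i : MulAut Q) : Q →* Q) := ⟨_, rfl⟩
  have hZfmem : ∀ (i : ℕ) (g : Q), g ∈ Zf i ↔ ∃ g₀ ∈ Z₀, (φ ^ i) g₀ = g := by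
    intro i g
    rw [hZfdef]
    exact Subgroup.mem_map
  have hZfidx : ∀ i, (Zf i).index = (2 ^ b) ^ 2 := by
    intro i
    rw [hZfdef]
    show (Z₀.map ((φ ^ i : MulAut Q) : Q →* Q)).index = _
    rw [Subgroup.index_map_equiv, hidx]
  have hZfact : ∀ (i : ℕ), ∀ g ∈ Zf i, ∀ h, ∀ w ∈ V₀.map (X ^ i),
      σ (g * h * g⁻¹ * h⁻¹) w = w := by
    intro i g hg h w hw
    obtain ⟨g₀, hg₀, rfl⟩ := (hZfmem i g).mp hg
    obtain ⟨v, hv, rfl⟩ := Submodule.mem_map.mp hw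
    rw [hXpow]
    have h1 : (φ ^ i)⁻¹ ((φ ^ i) g₀ * h * ((φ ^ i) g₀)⁻¹ * h⁻¹)
        = g₀ * ((φ ^ i)⁻¹ h) * g₀⁻¹ * ((φ ^ i)⁻¹ h)⁻¹ := by
      simp only [map_mul, map_inv, MulAut.inv_apply_self]
    rw [h1, hZ₀ g₀ hg₀ _ v hv]
  -- the intersection of the conjugates other than `Z₀` is the centre
  have hinter : (⨅ k : Fin t', Zf ((k : ℕ) + 1)) ≤ Subgroup.center Q := by
    intro g hg
    rw [Subgroup.mem_iInf] at hg
    rw [Subgroup.mem_center_iff]
    intro h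
    have hccen := hcomm_cen g h
    have hone : ∀ i ∈ Finset.range (p ^ j), i ≠ 0 → χ ((φ ^ i)⁻¹ (g * h * g⁻¹ * h⁻¹)) = 1 := by
      intro i hi hi0
      obtain ⟨k, hk⟩ : ∃ k, i = k + 1 := ⟨i - 1, by omega⟩
      have hkt : k < t' := by
        have := Finset.mem_range.mp hi
        omega
      have hmemk := hg ⟨k, hkt⟩
      have hw : (X ^ i) w₀ ∈ V₀.map (X ^ i) := Submodule.mem_map_of_mem hw₀
      have h1 := hZfact i g (by rw [hk]; exact hmemk) h _ hw
      rw [hVwt i _ hw _ hccen] at h1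
      have h2 : (χ ((φ ^ i)⁻¹ (g * h * g⁻¹ * h⁻¹)) - 1) • (X ^ i) w₀ = 0 := by
        rw [sub_smul, h1, one_smul, sub_self]
      rcases smul_eq_zero.mp h2 with h3 | h3
      · exact sub_eq_zero.mp h3
      · exact absurd (hXinj i w₀ h3) hw₀0
    have hpr := hprod _ hccen
    rw [hPr, Finset.prod_eq_single 0 hone (fun h0 => absurd (Finset.mem_range.mpr
      (pow_pos hp.out.pos j)) h0)] at hpr
    have hall : ∀ i ∈ Finset.range (p ^ j), χ ((φ ^ i)⁻¹ (g * h * g⁻¹ * h⁻¹)) = 1 := by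
      intro i hi
      by_cases hi0 : i = 0
      · rw [hi0]; exact hpr
      · exact hone i hi hi0
    have hσc : σ (g * h * g⁻¹ * h⁻¹) = 1 := by
      refine end_ext_of_iSup _ hsup _ _ (fun i w hw => ?_)
      rw [hVwt i w hw _ hccen, hall i (Finset.mem_range.mpr i.2), one_smul]
      rfl
    have hc1 : g * h * g⁻¹ * h⁻¹ = 1 := hfaith (by rw [hσc, map_one])
    have hrel : g * h = (g * h * g⁻¹ * h⁻¹) * (h * g) := by group
    rw [hrel, hc1, one_mul]
  -- the index of the centre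
  have hidx1 : (⨅ k : Fin t', Zf ((k : ℕ) + 1)).index ≤ ((2 ^ b) ^ 2) ^ t' := by
    refine le_trans (Subgroup.index_iInf_le _) ?_
    have h1 : ∏ k : Fin t', (Zf ((k : ℕ) + 1)).index = ∏ _k : Fin t', (2 ^ b) ^ 2 :=
      Finset.prod_congr rfl (fun k _ => hZfidx ((k : ℕ) + 1))
    rw [h1, Finset.prod_const, Finset.card_univ, Fintype.card_fin]
  have hidx2 : (Subgroup.center Q).index ≤ ((2 ^ b) ^ 2) ^ t' := by
    refine le_trans (Nat.le_of_dvd ?_ (Subgroup.index_dvd_of_le hinter)) hidx1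
    exact Nat.pos_of_ne_zero (Subgroup.index_ne_zero_of_finite)
  obtain ⟨D, hD⟩ := hQ.index (Subgroup.center Q)
  have hD1 : 1 ≤ D := by
    by_contra hcon
    have hD0 : D = 0 := by omega
    rw [hD0, pow_zero, Subgroup.index_eq_one] at hD
    obtain ⟨g, hg⟩ := hnt
    exact hg (hcenfix g (by rw [hD]; trivial))
  have hDle : D ≤ 2 * b * t' := by
    rw [hD, ← pow_mul, ← pow_mul] at hidx2
    have := (Nat.pow_le_pow_iff_right (by norm_num : 1 < 2)).mp hidx2
    calc D ≤ b * (2 * t') := this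
      _ = 2 * b * t' := by ring
  -- the action on `Q ⧸ Z(Q)`
  have hmap : (Subgroup.center Q).map (φ : Q →* Q) = Subgroup.center Q := by
    ext h
    rw [Subgroup.mem_map]
    constructor
    · rintro ⟨g, hg, rfl⟩
      exact center_aut_mem φ g hg
    · intro hh
      exact ⟨φ⁻¹ h, center_aut_mem φ⁻¹ h hh, MulAut.apply_inv_self _ φ h⟩
  obtain ⟨φ', hφ'def⟩ : ∃ φ' : MulAut (Q ⧸ Subgroup.center Q),
      φ' = QuotientGroup.congr (Subgroup.center Q) (Subgroup.center Q) φ hmap := ⟨_, rfl⟩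
  have hφ' : ∀ g : Q, φ' (g : Q ⧸ Subgroup.center Q) = ((φ g : Q) : Q ⧸ Subgroup.center Q) := by
    intro g; rw [hφ'def]; exact QuotientGroup.congr_mk _ _ _ _ g
  obtain ⟨π, hπdef⟩ : ∃ π : Equiv.Perm (Q ⧸ Subgroup.center Q), π = φ'.toEquiv := ⟨_, rfl⟩
  have hπ : ∀ g : Q, π (g : Q ⧸ Subgroup.center Q) = ((φ g : Q) : Q ⧸ Subgroup.center Q) := by
    intro g; rw [hπdef]; exact hφ' g
  have hπpow : ∀ (k : ℕ) (g : Q),
      (π ^ k) (g : Q ⧸ Subgroup.center Q) = (((φ ^ k) g : Q) : Q ⧸ Subgroup.center Q) := by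
    intro k
    induction k with
    | zero => intro g; rfl
    | succ k ih =>
      intro g
      rw [pow_succ', Equiv.Perm.mul_apply, ih, hπ, pow_succ', MulAut.mul_apply]
  have hπM : π ^ (p ^ (j + N + 1)) = 1 := by
    ext c
    refine QuotientGroup.induction_on c (fun g => ?_)
    rw [hπpow, hφP]; rfl
  have hfixpt : ∀ c : Q ⧸ Subgroup.center Q, (π ^ (p ^ (j + N))) c = c → c = 1 := by
    intro c
    refine QuotientGroup.induction_on c (fun g => ?_)
    intro hc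
    rw [hπpow, ← hψdef] at hc
    have hz : g⁻¹ * ψ g ∈ Subgroup.center Q := QuotientGroup.eq.mp hc.symm
    have hzfix := hcenfix _ hz
    have hpow : ∀ k : ℕ, (ψ ^ k) g = g * (g⁻¹ * ψ g) ^ k := by
      intro k
      induction k with
      | zero => simp
      | succ k ih =>
        rw [pow_succ', MulAut.mul_apply, ih, map_mul, map_pow, hzfix, pow_succ', ← mul_assoc,
          mul_inv_cancel_left]
    have h1 := hpow p
    rw [hψp] at h1
    have h2 : (g⁻¹ * ψ g) ^ p = 1 := by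
      have h3 : g = g * (g⁻¹ * ψ g) ^ p := h1
      exact (mul_eq_left.mp h3.symm)
    have h3 : g⁻¹ * ψ g = 1 := by
      obtain ⟨k, hk⟩ := hQ (g⁻¹ * ψ g)
      have hcop : Nat.Coprime p (2 ^ k) :=
        Nat.Coprime.pow_right _ ((Nat.coprime_primes hp.out Nat.prime_two).mpr hp2)
      have := (pow_gcd_eq_one (a := g⁻¹ * ψ g) (m := p) (n := 2 ^ k)).mpr ⟨h2, hk⟩
      rwa [hcop, pow_one] at this
    have h4 : ψ g = g := by
      have := congrArg (fun t => g * t) h3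
      simpa using this
    have h5 : g ∈ Subgroup.center Q :=
      Subgroup.mem_center_iff.mpr (fun g' => (hDcen g h4 g').symm)
    exact (QuotientGroup.eq_one_iff g).mpr h5
  have hne : ∃ c : Q ⧸ Subgroup.center Q, c ≠ 1 := by
    by_contra hcon
    push Not at hcon
    obtain ⟨g, hg⟩ := hnt
    apply hg
    exact hcenfix g ((QuotientGroup.eq_one_iff g).mp (hcon g))
  have hπ1 : π (1 : Q ⧸ Subgroup.center Q) = 1 := by
    have := hπ (1 : Q)
    rw [map_one] at this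
    exact this
  have horb := orbit_count_pp π p (j + N) hp.out hπM 1 hπ1 hfixpt hne
  rw [← Subgroup.index_eq_card, hD] at horb
  have hdiv : p ^ (N + 1 + j) ∣ 2 ^ D - 1 := by
    have he : N + 1 + j = j + N + 1 := by omega
    rw [he]
    obtain ⟨k, hk⟩ : ∃ k, k = Nat.card (MulAction.orbitRel.Quotient (Subgroup.zpowers π)
      (Q ⧸ Subgroup.center Q)) := ⟨_, rfl⟩
    rw [← hk] at horb
    have hM0 : 0 < p ^ (j + N + 1) := pow_pos hp.out.pos _
    have h2D : 0 < 2 ^ D := pow_pos (by norm_num) _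
    have hk0 : 0 < k := by
      rcases Nat.eq_zero_or_pos k with h | h
      · rw [h, mul_zero] at horb
        omega
      · exact h
    refine ⟨k - 1, ?_⟩
    obtain ⟨k', hk'⟩ : ∃ k', k = k' + 1 := ⟨k - 1, by omega⟩
    rw [hk'] at horb ⊢
    simp only [Nat.add_sub_cancel]
    rw [mul_add, mul_one] at horb
    omega
  have hbound := ar_bound p hp2 b N j D hpb hD1 hdiv
  have hb1 : 1 ≤ b := by
    by_contra hcon
    have hb0 : b = 0 := by omega
    rw [hb0] at hpb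
    have h3 : 3 ≤ p ^ (N + 1) := le_trans hp3 (Nat.le_self_pow (by omega) p)
    simp at hpb
    omega
  rw [ht'] at hbound
  have : 2 * b * (t' + 1) ≤ 2 * b * t' := le_trans hbound hDle
  nlinarith

end Cfsg.Agent.Lib.Helper3.Sh
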