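import Mathlib
import Cfsg.Agent.Lib.Helper3.HHC1
import Cfsg.Agent.Lib.Helper3.ShV
import Cfsg.Agent.Lib.Helper3.ShX
import Cfsg.Agent.Lib.Helper3.ShZ
import Cfsg.Agent.Lib.Helper3.GrA
import Cfsg.Agent.Lib.Helper3.GrB
import Cfsg.Agent.Lib.Helper3.GrE

/-!
# Gross, part F: the second level, minimal configuration and main induction.
-/

set_option autoImplicit false
set_option maxHeartbeats 4000000
set_option maxRecDepth 100000
set_option linter.unusedVariables false
set_option linter.unusedSectionVars false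
set_option linter.style.haveILetI false
set_option linter.deprecated false

namespace Cfsg.Agent.Lib.Helper3.Sh

open Module Cfsg.Agent.Lib.Helper3 Cfsg.Agent.Lib.Helper3.HHC1

universe u v w

theorem eig_pow_apply {K : Type*} [Field K] {W : Type*} [AddCommGroup W] [Module K W]
    (X : Module.End K W) (η : K) (w : W) (h : X w = η • w) (k : ℕ) : (X ^ k) w = η ^ k • w := by
  induction k with
  | zero => simp
  | succ k ih => rw [pow_succ' X k, Module.End.mul_apply, ih, map_smul, h, smul_smul, pow_succ]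

/-- The minimal configuration at the second level. -/
theorem l2_stepD (s m : ℕ) [hs : Fact s.Prime] (hs2 : s ≠ 2) (hm : 1 ≤ m)
    (hexc : ¬ (m = 1 ∧ s = 3)) {K : Type w} [Field K] [IsAlgClosed K]
    (h2K : ((2 : ℕ) : K) ≠ 0) (hsK : (s : K) ≠ 0) (t d : K) {Q : Type u} [Group Q]
    [Finite Q] {W : Type v} [AddCommGroup W] [Module K W] [FiniteDimensional K W]
    (σ : Representation K Q W) (X X' : Module.End K W) (φ : MulAut Q)
    (hfaith : Function.Injective σ)
    (hminQ : ∀ Q₁ : Subgroup Q, Q₁ ≠ ⊤ → (∀ g ∈ Q₁, φ g ∈ Q₁) →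
      ∀ g ∈ Q₁, σ ((φ ^ (2 ^ m)) g) = σ g)
    (hminW : ∀ U : Submodule K W, U ≠ ⊤ → (∀ g, ∀ w ∈ U, σ g w ∈ U) → (∀ w ∈ U, X w ∈ U) →
      (∀ w ∈ U, X' w ∈ U) → ∀ g, ∀ w ∈ U, σ ((φ ^ (2 ^ m)) g) w = σ g w) :
    L2Good s m t d Q W σ X X' φ := by
  intro hQ hXX' hX'X hcompat hXP hI1 hI2
  by_contra hNT
  push Not at hNT
  classical
  haveI : Fact (Nat.Prime 2) := ⟨Nat.prime_two⟩
  have h2K' : (2 : K) ≠ 0 := by exact_mod_cast h2K
  obtain ⟨hφP, hntW, hDcen, hcommfix, hirrX⟩ := pp_min_irr 2 s m (Ne.symm hs2) hsK σ X X' φ hfaith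
    hminQ hminW hQ hXX' hX'X hcompat hXP hNT
  haveI := hntW
  obtain ⟨χ, V₀, j, hj, hV₀ne, hmem, hσV, hXV, hper, hind, hsup⟩ :=
    pp_clifford 2 σ X φ hcompat (m + 1) hφP hirrX
  -- eigenvalues of `X`
  have E1 : ∀ (η : K) (w : W), w ≠ 0 → X w = η • w →
      (η - 1) * (η ^ (2 ^ m) + 1) = 0 ∧ (η * η - t * η + d) * (η ^ (2 ^ m) - 1) = 0 := by
    intro η w hw0 hw
    have hpw := eig_pow_apply X η w hw
    constructor
    · have e := congrArg (fun A : Module.End K W => A w) hI1
      simp only [Module.End.mul_apply, LinearMap.add_apply, LinearMap.sub_apply,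
        Module.End.one_apply, LinearMap.zero_apply, map_add, map_sub, hpw, map_smul, hw] at e
      have e2 : ((η - 1) * (η ^ (2 ^ m) + 1)) • w = 0 := by
        rw [← e]; module
      rcases smul_eq_zero.mp e2 with h | h
      · exact h
      · exact absurd h hw0
    · have e := congrArg (fun A : Module.End K W => A w) hI2
      simp only [Module.End.mul_apply, LinearMap.add_apply, LinearMap.sub_apply,
        Module.End.one_apply, LinearMap.zero_apply, map_add, map_sub, hpw, map_smul, hw,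
        LinearMap.smul_apply] at e
      have e2 : ((η * η - t * η + d) * (η ^ (2 ^ m) - 1)) • w = 0 := by
        rw [← e]; module
      rcases smul_eq_zero.mp e2 with h | h
      · exact h
      · exact absurd h hw0
  have hpoweven : Even (2 ^ m) := by
    obtain ⟨m', rfl⟩ : ∃ m', m = m' + 1 := ⟨m - 1, by omega⟩
    rw [pow_succ]; exact even_two.mul_left _
  have E2 : ∀ w : W, w ≠ 0 → X w = (-1 : K) • w → False := by
    intro w hw0 hw
    have h1 := (E1 (-1) w hw0 hw).1
    rw [hpoweven.neg_one_pow] at h1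
    have h2 : (-1 - 1 : K) * (1 + 1) = -(2 * 2) := by ring
    rw [h2, neg_eq_zero] at h1
    rcases mul_eq_zero.mp h1 with h | h <;> exact h2K' h
  have E3 : ∀ (η : K) (w : W), w ≠ 0 → X w = η • w → η = 1 ∨ η * η - t * η + d = 0 := by
    intro η w hw0 hw
    obtain ⟨h1, h2⟩ := E1 η w hw0 hw
    rcases mul_eq_zero.mp h1 with h | h
    · left; exact sub_eq_zero.mp h
    · right
      rcases mul_eq_zero.mp h2 with h' | h'
      · exact h'
      · exfalso
        have h3 : η ^ (2 ^ m) = -1 := eq_neg_of_add_eq_zero_left h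
        rw [h3] at h'
        have h4 : (-1 - 1 : K) = -2 := by ring
        rw [h4, neg_eq_zero] at h'
        exact h2K' h'
  rcases Nat.eq_zero_or_pos j with hj0 | hjpos
  · -- the centre acts by scalars
    subst hj0
    have hV₀top : V₀ = ⊤ := by
      rw [eq_top_iff, ← hsup]
      refine iSup_le (fun i => ?_)
      have hi : (i : ℕ) = 0 := by
        have := i.2
        simp only [pow_zero] at this
        omega
      rw [hi, pow_zero]
      exact le_of_eq (Submodule.map_id _)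
    have hZsc : ∀ z ∈ Subgroup.center Q, ∃ μ : K, σ z = μ • (1 : Module.End K W) := by
      intro z hz
      refine ⟨χ z, LinearMap.ext (fun w => ?_)⟩
      have hw : w ∈ V₀ := by rw [hV₀top]; trivial
      rw [(hmem w).mp hw z hz]; rfl
    have hcenfix : ∀ z ∈ Subgroup.center Q, φ z = z := by
      intro z hz
      apply hfaith
      obtain ⟨μ, hμ⟩ := hZsc z hz
      have h1 : σ (φ z) = X * σ z * X' := by rw [hcompat, mul_assoc, hXX', mul_one]
      rw [h1, hμ, mul_smul_comm, mul_one, smul_mul_assoc, hXX']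
    have hcenfixpow : ∀ (k : ℕ), ∀ z ∈ Subgroup.center Q, (φ ^ k) z = z := by
      intro k
      induction k with
      | zero => intro z _; rfl
      | succ k ih =>
        intro z hz
        rw [pow_succ', MulAut.mul_apply, ih z hz, hcenfix z hz]
    have hcl2 : ∀ a b : Q, a * b * a⁻¹ * b⁻¹ ∈ Subgroup.center Q := by
      intro a b
      exact Subgroup.mem_center_iff.mpr (fun g => (hDcen _ (hcommfix a b) g).symm)
    have hττ : ∀ g, (φ ^ (2 ^ m)) ((φ ^ (2 ^ m)) g) = g := by
      intro g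
      rw [← MulAut.mul_apply, ← pow_add, ← two_mul, ← pow_succ', hφP]; rfl
    have hodd : ∀ z : Q, z * z = 1 → z = 1 := by
      intro z hz
      obtain ⟨k, hk⟩ := (IsPGroup.iff_orderOf.mp hQ) z
      have h1 : orderOf z ∣ 2 := orderOf_dvd_of_pow_eq_one (by rw [pow_two]; exact hz)
      have h2 : orderOf z ∣ s ^ k := by rw [hk]
      have hcop : Nat.Coprime 2 (s ^ k) := by
        apply Nat.Coprime.pow_right
        exact (Nat.coprime_primes Nat.prime_two hs.out).mpr (Ne.symm hs2)
      have h3 : orderOf z ∣ 1 := by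
        have := Nat.dvd_gcd h1 h2
        rwa [hcop] at this
      exact orderOf_eq_one_iff.mp (Nat.dvd_one.mp h3)
    have hfpf : ∀ g : Q, g⁻¹ * (φ ^ (2 ^ m)) g ∈ Subgroup.center Q → g ∈ Subgroup.center Q := by
      intro g hg
      have hzfix := hcenfixpow (2 ^ m) _ hg
      have h1 : (φ ^ (2 ^ m)) g = g * (g⁻¹ * (φ ^ (2 ^ m)) g) := by group
      have h2 := hττ g
      rw [h1, map_mul, hzfix] at h2
      -- `τ g * z = g` and `τ g = g z`, so `z z = 1`
      have h3 : (g⁻¹ * (φ ^ (2 ^ m)) g) * (g⁻¹ * (φ ^ (2 ^ m)) g) = 1 := by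
        calc (g⁻¹ * (φ ^ (2 ^ m)) g) * (g⁻¹ * (φ ^ (2 ^ m)) g)
            = g⁻¹ * ((φ ^ (2 ^ m)) g * (g⁻¹ * (φ ^ (2 ^ m)) g)) := by group
          _ = g⁻¹ * g := by rw [h2]
          _ = 1 := inv_mul_cancel g
      have h4 := hodd _ h3
      have h5 : (φ ^ (2 ^ m)) g = g := by
        rw [h1, h4, mul_one]
      exact Subgroup.mem_center_iff.mpr (fun g' => (hDcen g h5 g').symm)
    have hab : ¬ ∀ a b : Q, a * b = b * a := by
      intro hab
      obtain ⟨g, hg⟩ := hNT
      apply hg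
      have hgc : g ∈ Subgroup.center Q := Subgroup.mem_center_iff.mpr (fun h => hab h g)
      rw [hcenfixpow _ g hgc]
    obtain ⟨n, b, k, hn, hb, hcount, horb, hdk, hn1⟩ :=
      bot_count 2 s (Ne.symm hs2) h2K hsK σ X X' φ hQ hXX' hX'X hcompat m hXP hfaith hirrX
        hZsc hcl2 hfpf hab
    -- the spectrum
    obtain ⟨δ, hδ⟩ := IsAlgClosed.exists_pow_nat_eq (t * t - 4 * d) (n := 2) (by norm_num)
    have hS : ∀ (μ : K) (w : W), w ≠ 0 → X w = μ • w →
        μ ∈ ({1, (t + δ) / 2, (t - δ) / 2} : Finset K) := by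
      intro μ w hw0 hw
      rcases E3 μ w hw0 hw with h | h
      · rw [h]; simp
      · have h1 : (μ - (t + δ) / 2) * (μ - (t - δ) / 2) = 0 := by
          have h4 : (4 : K) ≠ 0 := by
            have : (4 : K) = 2 * 2 := by norm_num
            rw [this]; exact mul_ne_zero h2K' h2K'
          have : (μ - (t + δ) / 2) * (μ - (t - δ) / 2)
              = μ * μ - t * μ + (t * t - δ ^ 2) / 4 := by
            field_simp
            ring
          rw [this, hδ]
          have : (t * t - (t * t - 4 * d)) / 4 = d := by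
            field_simp
            ring
          rw [this]; exact h
        rcases mul_eq_zero.mp h1 with h2 | h2
        · rw [sub_eq_zero.mp h2]; simp
        · rw [sub_eq_zero.mp h2]; simp
    have hMK' : ((2 ^ (m + 1) : ℕ) : K) ≠ 0 := by
      rw [Nat.cast_pow]; exact pow_ne_zero _ h2K
    have hsq := (commutant_bounds X (2 ^ (m + 1)) hMK' hXP).2 _ hS
    rw [hn] at hsq
    have hcard3 : ({1, (t + δ) / 2, (t - δ) / 2} : Finset K).card ≤ 3 := Finset.card_le_three
    have hsq2 : n ^ 2 ≤ 3 * k := by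
      calc n ^ 2 ≤ _ := hsq
        _ ≤ 3 * k := Nat.mul_le_mul hcard3 hdk
    -- arithmetic
    have hs3 : 3 ≤ s := by
      have := hs.out.two_le
      omega
    have hb0 : b ≠ 0 := by
      intro h0
      rw [h0, pow_zero] at hb
      exact hn1 hb
    have hn3 : 3 ≤ n := by
      rw [hb]
      calc 3 ≤ s := hs3
        _ = s ^ 1 := (pow_one s).symm
        _ ≤ s ^ b := Nat.pow_le_pow_right (by omega) (by omega)
    obtain ⟨m', rfl⟩ : ∃ m', m = m' + 1 := ⟨m - 1, by omega⟩
    obtain ⟨M, hM⟩ : ∃ M, M = 2 ^ m' := ⟨_, rfl⟩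
    have hM1 : 1 ≤ M := by rw [hM]; exact Nat.one_le_two_pow
    have hpowM : 2 ^ (m' + 1 + 1) = 4 * M := by rw [hM]; ring
    rw [hpowM] at horb
    have horb' : 4 * M * k + 1 = n ^ 2 + 4 * M := by omega
    have hM1' : M = 1 := by
      by_contra hne
      have hM2 : 2 ≤ M := by omega
      have hn9 : 9 ≤ n ^ 2 := by nlinarith
      have hk2 : 2 ≤ k := by
        by_contra hk
        have hk1 : k ≤ 1 := by omega
        have : M * k ≤ M * 1 := Nat.mul_le_mul_left _ hk1
        nlinarith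
      obtain ⟨k', rfl⟩ : ∃ k', k = k' + 2 := ⟨k - 2, by omega⟩
      obtain ⟨M'', rfl⟩ : ∃ M'', M = M'' + 2 := ⟨M - 2, by omega⟩
      have h7 : 4 * (M'' + 2) * (k' + 2) + 1 ≤ 3 * (k' + 2) + 4 * (M'' + 2) := by omega
      nlinarith [Nat.zero_le (M'' * k')]
    have hm'0 : m' = 0 := by
      rw [hM1'] at hM
      by_contra hne
      have : 2 ≤ 2 ^ m' := by
        calc 2 = 2 ^ 1 := by norm_num
          _ ≤ 2 ^ m' := Nat.pow_le_pow_right (by norm_num) (by omega)
      omega
    rw [hM1'] at horb'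
    have hn3' : n = 3 := by
      by_contra hne
      have h4 : 4 ≤ n := by omega
      nlinarith
    apply hexc
    refine ⟨by omega, ?_⟩
    rw [hn3'] at hb
    have h1 : s ∣ 3 := by
      rw [hb]; exact dvd_pow_self s hb0
    exact ((Nat.prime_dvd_prime_iff_eq hs.out Nat.prime_three).mp h1)
  · -- a proper orbit of weights
    obtain ⟨j', rfl⟩ : ∃ j', j = j' + 1 := ⟨j - 1, by omega⟩
    have hteven : Even (2 ^ (j' + 1)) := by
      rw [pow_succ]; exact even_two.mul_left _
    have htpos : 0 < 2 ^ (j' + 1) := pow_pos (by norm_num) _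
    have h12 : X' ^ (2 ^ (j' + 1)) * X ^ (2 ^ (j' + 1)) = 1 := pow_mul_pow_eq_one X' X hX'X hXX' _
    -- roots of an eigenvalue of `Y` on `V₀`
    have keyroot : ∀ (κ : K) (v : W), v ∈ V₀ → v ≠ 0 → (X ^ (2 ^ (j' + 1))) v = κ • v →
        κ ≠ 0 ∧ ∀ η : K, η ^ (2 ^ (j' + 1)) = κ → t = 0 ∧ d = -(η * η) := by
      intro κ v hv hv0 hY
      have hκ0 : κ ≠ 0 := by
        intro h0
        rw [h0, zero_smul] at hY
        apply hv0
        have := congrArg (fun A : Module.End K W => A v) h12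
        simp only [Module.End.mul_apply, hY, map_zero, Module.End.one_apply] at this
        exact this.symm
      refine ⟨hκ0, ?_⟩
      intro η hη
      have hη0 : η ≠ 0 := by
        intro h0
        rw [h0, zero_pow (by omega)] at hη
        exact hκ0 hη.symm
      have hη' : (-η) ^ (2 ^ (j' + 1)) = κ := by rw [hteven.neg_pow, hη]
      obtain ⟨w₁, hw₁0, hw₁⟩ := eig_of_pow_eig X _ htpos V₀ hind v hv hv0 κ η hη hη0 hY
      obtain ⟨w₂, hw₂0, hw₂⟩ := eig_of_pow_eig X _ htpos V₀ hind v hv hv0 κ (-η) hη'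
        (neg_ne_zero.mpr hη0) hY
      have hη1 : η ≠ 1 := by
        intro h1
        rw [h1] at hw₂
        exact E2 w₂ hw₂0 hw₂
      have hη1' : -η ≠ 1 := by
        intro h1
        have : η = -1 := by rw [← h1]; ring
        rw [this] at hw₁
        exact E2 w₁ hw₁0 hw₁
      have q1 : η * η - t * η + d = 0 := by
        rcases E3 η w₁ hw₁0 hw₁ with h | h
        · exact absurd h hη1
        · exact h
      have q2 : -η * -η - t * -η + d = 0 := by
        rcases E3 (-η) w₂ hw₂0 hw₂ with h | h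
        · exact absurd h hη1'
        · exact h
      have ht0 : t = 0 := by
        have h3 : 2 * (t * η) = 0 := by
          have : 2 * (t * η) = (-η * -η - t * -η + d) - (η * η - t * η + d) := by ring
          rw [this, q1, q2, sub_zero]
        rcases mul_eq_zero.mp h3 with h | h
        · exact absurd h h2K'
        · rcases mul_eq_zero.mp h with h' | h'
          · exact h'
          · exact absurd h' hη0
      refine ⟨ht0, ?_⟩
      rw [ht0] at q1
      have : d = -(η * η) := by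
        have h5 : η * η + d = 0 := by rw [← q1]; ring
        exact eq_neg_of_add_eq_zero_right h5
      exact this
    -- an eigenvector of `Y` on `V₀`
    haveI : Nontrivial V₀ := Submodule.nontrivial_iff_ne_bot.mpr hV₀ne
    obtain ⟨Yr, hYr⟩ : ∃ Yr : Module.End K V₀, Yr = (X ^ (2 ^ (j' + 1))).restrict hXV := ⟨_, rfl⟩
    have hYrapp : ∀ v : V₀, ((Yr v : V₀) : W) = (X ^ (2 ^ (j' + 1))) (v : W) := by
      intro v; rw [hYr]; rfl
    have heigV : ∀ (κ : K) (v : V₀), v ≠ 0 → Yr v = κ • v →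
        κ ≠ 0 ∧ ∀ η : K, η ^ (2 ^ (j' + 1)) = κ → t = 0 ∧ d = -(η * η) := by
      intro κ v hv0 hv
      apply keyroot κ (v : W) v.2 (fun h => hv0 (Subtype.ext h))
      rw [← hYrapp, hv]; rfl
    obtain ⟨κ, hκ⟩ := Module.End.exists_eigenvalue Yr
    obtain ⟨v, hv⟩ := hκ.exists_hasEigenvector
    have hv0 : v ≠ 0 := hv.2
    have hvY : Yr v = κ • v := Module.End.mem_eigenspace_iff.mp hv.1
    obtain ⟨hκ0, hroots⟩ := heigV κ v hv0 hvY
    obtain ⟨η₀, hη₀⟩ := IsAlgClosed.exists_pow_nat_eq κ htpos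
    obtain ⟨ht0, hd⟩ := hroots η₀ hη₀
    have hη₀0 : η₀ ≠ 0 := by
      intro h0
      rw [h0, zero_pow (by omega)] at hη₀
      exact hκ0 hη₀.symm
    -- `j = 1`
    have hj'0 : j' = 0 := by
      by_contra hne
      obtain ⟨j'', rfl⟩ : ∃ j'', j' = j'' + 1 := ⟨j' - 1, by omega⟩
      obtain ⟨ι, hι⟩ := IsAlgClosed.exists_pow_nat_eq (-1 : K) (n := 2) (by norm_num)
      have hιpow : ι ^ (2 ^ (j'' + 1 + 1)) = 1 := by
        have : (2 : ℕ) ^ (j'' + 1 + 1) = 2 * (2 * 2 ^ j'') := by ring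
        rw [this, pow_mul, hι, pow_mul]
        norm_num
      have h1 : (ι * η₀) ^ (2 ^ (j'' + 1 + 1)) = κ := by
        rw [mul_pow, hιpow, one_mul, hη₀]
      obtain ⟨_, hd'⟩ := hroots (ι * η₀) h1
      have h2 : ι * η₀ * (ι * η₀) = -(η₀ * η₀) := by
        have : ι * η₀ * (ι * η₀) = ι ^ 2 * (η₀ * η₀) := by ring
        rw [this, hι]; ring
      rw [h2, neg_neg] at hd'
      rw [hd'] at hd
      have h3 : 2 * (η₀ * η₀) = 0 := by
        have : 2 * (η₀ * η₀) = η₀ * η₀ + η₀ * η₀ := by ring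
        rw [this]
        nth_rewrite 1 [hd]
        ring
      rcases mul_eq_zero.mp h3 with h | h
      · exact h2K' h
      · rcases mul_eq_zero.mp h with h' | h' <;> exact hη₀0 h'
    subst hj'0
    -- `Y` is the scalar `κ` on `V₀`
    have hκd : κ = -d := by
      have : η₀ ^ (2 ^ (0 + 1)) = η₀ * η₀ := by norm_num; ring
      rw [← hη₀, this, hd, neg_neg]
    have hYrpow : Yr ^ (2 ^ m) = 1 := by
      refine LinearMap.ext (fun w => Subtype.ext ?_)
      rw [hYr, restrict_pow_coe, ← pow_mul]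
      have : 2 ^ (0 + 1) * 2 ^ m = 2 ^ (m + 1) := by ring
      rw [this, hXP]; rfl
    have hpK : ((2 ^ m : ℕ) : K) ≠ 0 := by
      rw [Nat.cast_pow]; exact pow_ne_zero _ h2K
    have hss : Yr.IsSemisimple := isSemisimple_of_pow_eq_one Yr (2 ^ m) hpK hYrpow
    have htop : ⨆ μ : K, Yr.eigenspace μ = ⊤ := hss.iSup_eigenspace_eq_top
    have hYsc : ∀ v : V₀, Yr v = κ • v := by
      have hle : (⊤ : Submodule K V₀) ≤ Yr.eigenspace κ := by
        rw [← htop]
        refine iSup_le (fun μ => ?_)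
        by_cases hμ : μ = κ
        · rw [hμ]
        · intro v hv
          by_contra hnot
          have hv0 : v ≠ 0 := by
            intro h0
            apply hnot
            rw [h0]
            exact Submodule.zero_mem _
          have hvY : Yr v = μ • v := Module.End.mem_eigenspace_iff.mp hv
          obtain ⟨hμ0, hr⟩ := heigV μ v hv0 hvY
          obtain ⟨η, hη⟩ := IsAlgClosed.exists_pow_nat_eq μ htpos
          obtain ⟨_, hd2⟩ := hr η hη
          apply hμ
          have : η ^ (2 ^ (0 + 1)) = η * η := by norm_num; ring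
          rw [← hη, this, hκd, hd2, neg_neg]
      intro v
      exact Module.End.mem_eigenspace_iff.mp (hle Submodule.mem_top)
    have h2step : ∀ g, ∀ w ∈ V₀, σ ((φ ^ 2) g) w = σ g w := by
      intro g w hw
      have h1 := compat_pow σ X φ hcompat 2 g
      have h2 := congrArg (fun A : Module.End K W => A w) h1
      simp only [Module.End.mul_apply] at h2
      have e1 : (X ^ 2) (σ g w) = κ • σ g w := by
        have := congrArg Subtype.val (hYsc ⟨σ g w, hσV g w hw⟩)
        rw [hYrapp] at this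
        simpa using this
      have e2 : (X ^ 2) w = κ • w := by
        have := congrArg Subtype.val (hYsc ⟨w, hw⟩)
        rw [hYrapp] at this
        simpa using this
      rw [e1, e2, map_smul] at h2
      exact (smul_right_injective W hκ0 h2).symm
    have hkstep : ∀ (k : ℕ) g, ∀ w ∈ V₀, σ (((φ ^ 2) ^ k) g) w = σ g w := by
      intro k
      induction k with
      | zero => intro g w _; rfl
      | succ k ih =>
        intro g w hw
        rw [pow_succ', MulAut.mul_apply, h2step _ w hw, ih g w hw]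
    have hτV : ∀ g, ∀ w ∈ V₀, σ ((φ ^ (2 ^ m)) g) w = σ g w := by
      intro g w hw
      obtain ⟨m', rfl⟩ : ∃ m', m = m' + 1 := ⟨m - 1, by omega⟩
      have h1 : φ ^ (2 ^ (m' + 1)) = (φ ^ 2) ^ (2 ^ m') := by
        rw [← pow_mul, pow_succ']
      rw [h1]
      exact hkstep _ g w hw
    have hall := pp_spread σ X φ hcompat (2 ^ (0 + 1)) (2 ^ m) V₀ hsup hτV
    obtain ⟨g, hg⟩ := hNT
    exact hg (hall g)

/-- The main induction at the second level. -/
theorem l2_main (s m : ℕ) [Fact s.Prime] (hs2 : s ≠ 2) (hm : 1 ≤ m) (hexc : ¬ (m = 1 ∧ s = 3))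
    {K : Type w} [Field K] [IsAlgClosed K] (h2K : ((2 : ℕ) : K) ≠ 0) (hsK : (s : K) ≠ 0)
    (t d : K) :
    ∀ (M : ℕ) (Q : Type u) [Group Q] [Finite Q] (W : Type v) [AddCommGroup W] [Module K W]
      [FiniteDimensional K W] (σ : Representation K Q W) (X X' : Module.End K W)
      (φ : MulAut Q), Nat.card Q + finrank K W = M → L2Good s m t d Q W σ X X' φ := by
  intro M
  induction M using Nat.strong_induction_on with
  | _ M IHM =>
  intro Q _ _ W _ _ _ σ X X' φ hM
  by_cases hfaith : Function.Injective σ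
  swap
  · exact l2_stepA s m t d σ X X' φ
      (fun Q' _ _ σ' φ' hlt => IHM (Nat.card Q' + finrank K W) (by omega) Q' W σ' X X' φ' rfl)
      hfaith
  by_cases hminQ : ∃ Q₁ : Subgroup Q, Q₁ ≠ ⊤ ∧ (∀ g ∈ Q₁, φ g ∈ Q₁) ∧
      ∃ g ∈ Q₁, σ ((φ ^ (2 ^ m)) g) ≠ σ g
  · obtain ⟨Q₁, h1, h2, h3⟩ := hminQ
    exact l2_stepB s m t d σ X X' φ
      (fun Q' _ _ σ' φ' hlt => IHM (Nat.card Q' + finrank K W) (by omega) Q' W σ' X X' φ' rfl)
      Q₁ h1 h2 h3
  by_cases hminW : ∃ U : Submodule K W, U ≠ ⊤ ∧ (∀ g, ∀ w ∈ U, σ g w ∈ U) ∧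
      (∀ w ∈ U, X w ∈ U) ∧ (∀ w ∈ U, X' w ∈ U) ∧
      ∃ g, ∃ w ∈ U, σ ((φ ^ (2 ^ m)) g) w ≠ σ g w
  · obtain ⟨U, h1, h2, h3, h4, h5⟩ := hminW
    exact l2_stepC s m t d σ X X' φ
      (fun W' _ _ _ σ' X₁ X₁' hlt =>
        IHM (Nat.card Q + finrank K W') (by omega) Q W' σ' X₁ X₁' φ rfl)
      U h1 h2 h3 h4 h5
  push Not at hminQ hminW
  exact l2_stepD s m hs2 hm hexc h2K hsK t d σ X X' φ hfaith hminQ hminW

end Cfsg.Agent.Lib.Helper3.Sh
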