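import Mathlib
import Cfsg.Agent.Lib.Helper3.HHB6
import Cfsg.Agent.Lib.Helper3.HHC1
import Cfsg.Agent.Lib.Helper3.HHC2
import Cfsg.Agent.Lib.Helper3.HHC4
import Cfsg.Agent.Lib.Helper3.HHC5
import Cfsg.Agent.Lib.Helper3.HHC6
import Cfsg.Agent.Lib.Helper3.ShA
import Cfsg.Agent.Lib.Helper3.ShB
import Cfsg.Agent.Lib.Helper3.ShC
import Cfsg.Agent.Lib.Helper3.ShD
import Cfsg.Agent.Lib.Helper3.ShE

/-!
# Shult-type theorem, part F: the minimal configuration and the main induction for the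
non-modular Hall–Higman lemma (prime order, no fixed vectors).
-/

set_option autoImplicit false
set_option maxHeartbeats 4000000
set_option maxRecDepth 100000
set_option linter.unusedVariables false
set_option linter.unusedSectionVars false
set_option linter.style.haveILetI false
set_option linter.deprecated false

namespace Cfsg.Agent.Lib.Helper3.Sh

open Module Cfsg.Agent.Lib.Helper3 Cfsg.Agent.Lib.Helper3.HHC1

universe u v w

/-- The minimal configuration. -/
theorem nm_stepD (p s : ℕ) [hp : Fact p.Prime] [hs : Fact s.Prime] (hps : p ≠ s)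
    (hex : ∀ m : ℕ, p ≠ s ^ m + 1) {K : Type w}
    [Field K] [IsAlgClosed K] (hpK : (p : K) ≠ 0) (hsK : (s : K) ≠ 0) {Q : Type u} [Group Q]
    [Finite Q] {W : Type v}
    [AddCommGroup W] [Module K W] [FiniteDimensional K W] (σ : Representation K Q W)
    (X X' : Module.End K W) (φ : MulAut Q)
    (hfaith : Function.Injective σ)
    (hminQ : ∀ Q₁ : Subgroup Q, Q₁ ≠ ⊤ → (∀ g ∈ Q₁, φ g ∈ Q₁) → ∀ g ∈ Q₁, σ (φ g) = σ g)
    (hminW : ∀ U : Submodule K W, U ≠ ⊤ → (∀ g, ∀ w ∈ U, σ g w ∈ U) → (∀ w ∈ U, X w ∈ U) →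
      (∀ w ∈ U, X' w ∈ U) → ∀ g, ∀ w ∈ U, σ (φ g) w = σ g w) :
    NMGood p s Q W σ X X' φ := by
  intro hQ hXX' hX'X hcompat hXP hNX
  by_contra hNT
  push Not at hNT
  classical
  have hp1 : 1 < p := hp.out.one_lt
  have hφP : φ ^ p = 1 := by
    ext g
    apply hfaith
    have h1 := compat_pow σ X φ hcompat p g
    rw [hXP, one_mul, mul_one] at h1
    rw [← h1]; rfl
  have hmin' : ∀ Q₁ : Subgroup Q, Q₁ ≠ ⊤ → (∀ g ∈ Q₁, φ g ∈ Q₁) →
      ∀ g ∈ Q₁, (φ ^ 1) g = g := by
    intro Q₁ h1 h2 g hg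
    rw [pow_one]
    exact hfaith (hminQ Q₁ h1 h2 g hg)
  have hnt' : ∃ g, (φ ^ 1) g ≠ g := by
    obtain ⟨g, hg⟩ := hNT
    refine ⟨g, fun h => hg ?_⟩
    rw [pow_one] at h
    rw [h]
  obtain ⟨hDcen, hgen, hcommfix⟩ :=
    HHC2.minimal_structure p s hps hQ φ 1 (by rw [pow_one]; exact hφP) hmin' hnt'
  simp only [pow_one] at hDcen hgen hcommfix
  haveI : Nontrivial W := by
    obtain ⟨g, hg⟩ := hNT
    by_contra hnon
    rw [not_nontrivial_iff_subsingleton] at hnon
    apply hg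
    ext w
    exact Subsingleton.elim _ _
  obtain ⟨m, hm⟩ := IsPGroup.iff_card.mp hQ
  haveI : Fintype Q := Fintype.ofFinite Q
  have hcardK' : (Nat.card Q : K) ≠ 0 := by
    rw [hm, Nat.cast_pow]
    exact pow_ne_zero _ hsK
  have hcardK : (Fintype.card Q : K) ≠ 0 := by
    rw [← Nat.card_eq_fintype_card]; exact hcardK'
  -- if `φ` acts trivially on the image of `Q` in `GL(U)` then `Q` acts trivially on `U`
  have hfixer : ∀ U : Submodule K W, (∀ g, ∀ w ∈ U, σ (φ g) w = σ g w) →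
      ∀ g, ∀ w ∈ U, σ g w = w := by
    intro U hU
    let Fx : Subgroup Q :=
      { carrier := {g | ∀ w ∈ U, σ g w = w}
        one_mem' := by intro w _; simp
        mul_mem' := by
          intro a b ha hb w hw
          rw [map_mul, Module.End.mul_apply, hb w hw, ha w hw]
        inv_mem' := by
          intro a ha w hw
          have h1 := ha w hw
          have h2 : σ a⁻¹ (σ a w) = w := by
            rw [← Module.End.mul_apply, ← map_mul, inv_mul_cancel, map_one]; rfl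
          rwa [h1] at h2 }
    have hle : Subgroup.closure {c : Q | ∃ g, c = g⁻¹ * φ g} ≤ Fx := by
      rw [Subgroup.closure_le]
      rintro _ ⟨g, rfl⟩ w hw
      show σ (g⁻¹ * φ g) w = w
      rw [map_mul, Module.End.mul_apply, hU g w hw, ← Module.End.mul_apply, ← map_mul,
        inv_mul_cancel, map_one]; rfl
    intro g w hw
    have : g ∈ Fx := hle (by rw [hgen]; trivial)
    exact this w hw
  -- the averaging idempotent
  obtain ⟨e, hedef⟩ : ∃ e : Module.End K W, e = (Fintype.card Q : K)⁻¹ • ∑ g : Q, σ g :=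
    ⟨_, rfl⟩
  have hσe : ∀ h, σ h * e = e := by
    intro h
    rw [hedef, mul_smul_comm, Finset.mul_sum]
    congr 1
    refine Fintype.sum_equiv (Equiv.mulLeft h) _ _ (fun g => ?_)
    rw [← map_mul]; rfl
  have heσ : ∀ h, e * σ h = e := by
    intro h
    rw [hedef, smul_mul_assoc, Finset.sum_mul]
    congr 1
    refine Fintype.sum_equiv (Equiv.mulRight h) _ _ (fun g => ?_)
    rw [← map_mul]; rfl
  have hee : e * e = e := by
    calc e * e = ((Fintype.card Q : K)⁻¹ • ∑ g : Q, σ g) * e := by rw [← hedef]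
      _ = (Fintype.card Q : K)⁻¹ • ∑ g : Q, σ g * e := by rw [smul_mul_assoc, Finset.sum_mul]
      _ = (Fintype.card Q : K)⁻¹ • ∑ _g : Q, e := by simp only [hσe]
      _ = e := by
        rw [Finset.sum_const, Finset.card_univ, ← Nat.cast_smul_eq_nsmul K, smul_smul,
          inv_mul_cancel₀ hcardK, one_smul]
  have hXe : X * e = e * X := by
    rw [hedef, mul_smul_comm, smul_mul_assoc, Finset.mul_sum, Finset.sum_mul]
    congr 1
    rw [Finset.sum_congr rfl (fun g _ => hcompat g)]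
    exact Fintype.sum_equiv φ.toEquiv _ _ (fun g => rfl)
  have hX'e : X' * e = e * X' := by
    calc X' * e = X' * (e * X) * X' := by rw [mul_assoc, mul_assoc, hXX', mul_one]
      _ = X' * (X * e) * X' := by rw [hXe]
      _ = e * X' := by rw [← mul_assoc, hX'X, one_mul]
  have hefix : ∀ w, (∀ g, σ g w = w) → e w = w := by
    intro w hw
    rw [hedef]
    simp only [LinearMap.smul_apply, LinearMap.sum_apply, hw, Finset.sum_const, Finset.card_univ]
    rw [← Nat.cast_smul_eq_nsmul K, smul_smul, inv_mul_cancel₀ hcardK, one_smul]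
  -- irreducibility
  have hirrX : ∀ U : Submodule K W, (∀ g, ∀ w ∈ U, σ g w ∈ U) → (∀ w ∈ U, X w ∈ U) →
      U = ⊥ ∨ U = ⊤ := by
    intro U hσU hXU
    by_cases hUtop : U = ⊤
    · exact Or.inr hUtop
    left
    have hX'U := inv_mem_of_mem X X' hX'X U hXU
    have hUfix := hfixer U (hminW U hUtop hσU hXU hX'U)
    have hker_σ : ∀ g, ∀ w ∈ LinearMap.ker e, σ g w ∈ LinearMap.ker e := by
      intro g w hw
      rw [LinearMap.mem_ker] at hw ⊢
      rw [← Module.End.mul_apply, heσ, hw]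
    have hker_X : ∀ w ∈ LinearMap.ker e, X w ∈ LinearMap.ker e := by
      intro w hw
      rw [LinearMap.mem_ker] at hw ⊢
      rw [← Module.End.mul_apply, ← hXe, Module.End.mul_apply, hw, map_zero]
    have hker_X' : ∀ w ∈ LinearMap.ker e, X' w ∈ LinearMap.ker e := by
      intro w hw
      rw [LinearMap.mem_ker] at hw ⊢
      rw [← Module.End.mul_apply, ← hX'e, Module.End.mul_apply, hw, map_zero]
    by_cases hktop : LinearMap.ker e = ⊤
    · rw [Submodule.eq_bot_iff]
      intro w hw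
      have h1 := hefix w (fun g => hUfix g w hw)
      have h2 : e w = 0 := LinearMap.mem_ker.mp (by rw [hktop]; trivial)
      rw [← h1, h2]
    · exfalso
      have hkfix := hfixer _ (hminW _ hktop hker_σ hker_X hker_X')
      have hkbot : ∀ w ∈ LinearMap.ker e, w = 0 := by
        intro w hw
        have h1 := hefix w (fun g => hkfix g w hw)
        rw [← h1]
        exact LinearMap.mem_ker.mp hw
      have he1 : ∀ w, e w = w := by
        intro w
        have : e w - w ∈ LinearMap.ker e := by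
          rw [LinearMap.mem_ker, map_sub, ← Module.End.mul_apply, hee, sub_self]
        exact sub_eq_zero.mp (hkbot _ this)
      obtain ⟨g, hg⟩ := hNT
      apply hg
      have hall : ∀ g', σ g' = 1 := by
        intro g'
        ext w
        have := congrArg (fun A : Module.End K W => A w) (hσe g')
        simp only [Module.End.mul_apply, he1] at this
        simpa using this
      rw [hall, hall]
  -- the centre acts by scalars and is fixed by `φ`
  have hZsc := center_scalar σ X X' hXX' hX'X φ hcompat p hp.out hXP hNX hφP hcardK' hirrX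
  have hσφ : ∀ g, σ (φ g) = X * σ g * X' := by
    intro g; rw [hcompat, mul_assoc, hXX', mul_one]
  have hZfix : ∀ z ∈ Subgroup.center Q, φ z = z := by
    intro z hz
    apply hfaith
    obtain ⟨μ, hμ⟩ := hZsc z hz
    rw [hσφ, hμ, mul_smul_comm, mul_one, smul_mul_assoc, hXX']
  have hnonab : ¬ ∀ a b : Q, a * b = b * a := by
    intro hab
    obtain ⟨g, hg⟩ := hNT
    apply hg
    rw [hZfix g (Subgroup.mem_center_iff.mpr (fun h => hab h g))]
  have hnc : ∀ g, g ∉ Subgroup.center Q →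
      ∃ (h : Q) (c : K), c ≠ 1 ∧ σ h * σ g = c • (σ g * σ h) := by
    intro g hg
    rw [Subgroup.mem_center_iff] at hg
    push Not at hg
    obtain ⟨h, hh⟩ := hg
    have hrel : h * g = (h * g * h⁻¹ * g⁻¹) * (g * h) := by group
    have hz1 : h * g * h⁻¹ * g⁻¹ ≠ 1 := by
      intro h1
      apply hh
      rw [hrel, h1, one_mul]
    have hzfix : φ (h * g * h⁻¹ * g⁻¹) = h * g * h⁻¹ * g⁻¹ := hcommfix h g
    have hzcen : h * g * h⁻¹ * g⁻¹ ∈ Subgroup.center Q :=
      Subgroup.mem_center_iff.mpr (fun g' => (hDcen _ hzfix g').symm)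
    obtain ⟨c, hc⟩ := hZsc _ hzcen
    refine ⟨h, c, ?_, ?_⟩
    · intro hc1
      apply hz1
      apply hfaith
      rw [hc, hc1, one_smul, map_one]
    · rw [← map_mul, hrel, map_mul, hc, smul_mul_assoc, one_mul, map_mul]
  have hcZK : (Nat.card (Subgroup.center Q) : K) ≠ 0 := by
    obtain ⟨a, ha⟩ := IsPGroup.iff_card.mp (hQ.to_subgroup (Subgroup.center Q))
    rw [ha, Nat.cast_pow]
    exact pow_ne_zero _ hsK
  have hhom : ∀ (W₁ W₂ : Submodule K W) (h₁ : ∀ g, ∀ w ∈ W₁, σ g w ∈ W₁)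
      (h₂ : ∀ g, ∀ w ∈ W₂, σ g w ∈ W₂), W₁ ≠ ⊥ → W₂ ≠ ⊥ →
      (∀ U : Submodule K W, U ≤ W₁ → (∀ g, ∀ w ∈ U, σ g w ∈ U) → U = ⊥ ∨ U = W₁) →
      ∃ f : W₁ →ₗ[K] W₂, f ≠ 0 ∧
        ∀ g w, f (resRep σ W₁ h₁ g w) = resRep σ W₂ h₂ g (f w) := by
    intro W₁ W₂ h₁ h₂ hW₁ne hW₂ne hW₁simple
    haveI : Nontrivial W₁ := Submodule.nontrivial_iff_ne_bot.mpr hW₁ne
    obtain ⟨b, hb⟩ := HHB6.finrank_prime_pow s (resRep σ W₁ h₁) hQ
      (HHC6.resRep_irr σ W₁ h₁ hW₁simple)
    have hd₁ : (finrank K W₁ : K) ≠ 0 := by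
      rw [hb, Nat.cast_pow]
      exact pow_ne_zero _ hsK
    exact HHC4.exists_hom_of_central_char σ hZsc hnc W₁ W₂ h₁ h₂ hd₁ hcZK hW₂ne
  have hirrQ := HHC5.irr_of_homogeneous σ X X' hXX' hX'X φ hcompat hirrX hhom
  have hirrQ' : ∀ U : Submodule K W, (∀ g, Submodule.map (σ g) U ≤ U) → U = ⊥ ∨ U = ⊤ :=
    fun U hU => hirrQ U (fun g w hw => hU g (Submodule.mem_map_of_mem hw))
  obtain ⟨b, hb⟩ := HHB6.finrank_prime_pow s σ hQ hirrQ'
  have hnK : (finrank K W : K) ≠ 0 := by
    rw [hb, Nat.cast_pow]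
    exact pow_ne_zero _ hsK
  obtain ⟨hout, hspan, hcount⟩ := quot_center_count σ hirrQ' hZsc hnc hnK hcardK'
  -- the induced permutation of `Q ⧸ Z(Q)`
  have hmap : (Subgroup.center Q).map (φ : Q →* Q) = Subgroup.center Q := by
    ext h
    rw [Subgroup.mem_map]
    constructor
    · rintro ⟨g, hg, rfl⟩
      show φ g ∈ Subgroup.center Q
      rw [hZfix g hg]; exact hg
    · intro hh
      exact ⟨h, hh, hZfix h hh⟩
  obtain ⟨φ', hφ'def⟩ : ∃ φ' : MulAut (Q ⧸ Subgroup.center Q),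
      φ' = QuotientGroup.congr (Subgroup.center Q) (Subgroup.center Q) φ hmap := ⟨_, rfl⟩
  have hφ' : ∀ g : Q, φ' (g : Q ⧸ Subgroup.center Q) = ((φ g : Q) : Q ⧸ Subgroup.center Q) := by
    intro g; rw [hφ'def]; exact QuotientGroup.congr_mk _ _ _ _ g
  obtain ⟨π, hπdef⟩ : ∃ π : Equiv.Perm (Q ⧸ Subgroup.center Q), π = φ'.toEquiv := ⟨_, rfl⟩
  have hπ : ∀ g : Q, π (g : Q ⧸ Subgroup.center Q) = ((φ g : Q) : Q ⧸ Subgroup.center Q) := by
    intro g; rw [hπdef]; exact hφ' g
  have hπpow : ∀ (k : ℕ) (g : Q),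
      (π ^ k) (g : Q ⧸ Subgroup.center Q) = (((φ ^ k) g : Q) : Q ⧸ Subgroup.center Q) := by
    intro k
    induction k with
    | zero => intro g; rfl
    | succ k ih =>
      intro g
      rw [pow_succ', Equiv.Perm.mul_apply, ih, hπ, pow_succ', MulAut.mul_apply]
  have hπp : π ^ p = 1 := by
    ext c
    refine QuotientGroup.induction_on c (fun g => ?_)
    rw [hπpow, hφP]; rfl
  -- the only fixed point
  have hfixpt : ∀ c : Q ⧸ Subgroup.center Q, π c = c → c = 1 := by
    intro c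
    refine QuotientGroup.induction_on c (fun g => ?_)
    intro hc
    rw [hπ] at hc
    have hz : g⁻¹ * φ g ∈ Subgroup.center Q := QuotientGroup.eq.mp hc.symm
    have hzfix := hZfix _ hz
    have hpow : ∀ k : ℕ, (φ ^ k) g = g * (g⁻¹ * φ g) ^ k := by
      intro k
      induction k with
      | zero => simp
      | succ k ih =>
        rw [pow_succ', MulAut.mul_apply, ih, map_mul, map_pow, hzfix, pow_succ', ← mul_assoc,
          mul_inv_cancel_left]
    have h1 := hpow p
    rw [hφP] at h1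
    have h2 : (g⁻¹ * φ g) ^ p = 1 := by
      have h3 : g = g * (g⁻¹ * φ g) ^ p := h1
      exact (mul_eq_left.mp h3.symm)
    have h3 : g⁻¹ * φ g = 1 := by
      obtain ⟨k, hk⟩ := hQ (g⁻¹ * φ g)
      have hcop : Nat.Coprime p (s ^ k) :=
        Nat.Coprime.pow_right _ ((Nat.coprime_primes hp.out hs.out).mpr hps)
      have := (pow_gcd_eq_one (a := g⁻¹ * φ g) (m := p) (n := s ^ k)).mpr ⟨h2, hk⟩
      rwa [hcop, pow_one] at this
    have h4 : φ g = g := by
      have := congrArg (fun t => g * t) h3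
      simpa using this
    have h5 : g ∈ Subgroup.center Q :=
      Subgroup.mem_center_iff.mpr (fun g' => (hDcen g h4 g').symm)
    exact (QuotientGroup.eq_one_iff g).mpr h5
  have hπ1 : π ≠ 1 := by
    intro h1
    apply hnonab
    have hall : ∀ g : Q, g ∈ Subgroup.center Q := by
      intro g
      have := hfixpt (g : Q ⧸ Subgroup.center Q) (by rw [h1]; rfl)
      exact (QuotientGroup.eq_one_iff g).mp this
    intro a b
    exact (Subgroup.mem_center_iff.mp (hall b) a)
  have hfixcard : Nat.card {c : Q ⧸ Subgroup.center Q // π c = c} = 1 := by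
    rw [Nat.card_eq_one_iff_unique]
    refine ⟨⟨fun a b => Subtype.ext ?_⟩, ⟨⟨1, ?_⟩⟩⟩
    · rw [hfixpt a.1 a.2, hfixpt b.1 b.2]
    · have := hπ (1 : Q)
      rw [map_one] at this
      exact this
  have horb := orbit_count π p hp.out hπp hπ1
  rw [hfixcard, mul_one, hcount] at horb
  -- the operator `T ↦ X T X'`
  obtain ⟨A, hAdef⟩ : ∃ A : Module.End K (Module.End K W),
      A = (LinearMap.mulLeft K X).comp (LinearMap.mulRight K X') := ⟨_, rfl⟩
  have hAapp : ∀ T, A T = X * (T * X') := by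
    intro T; rw [hAdef]; rfl
  have hX'P : X' ^ p = 1 := by
    have := pow_mul_pow_eq_one X X' hXX' hX'X p
    rwa [hXP, one_mul] at this
  have hApow : ∀ (k : ℕ) T, (A ^ k) T = X ^ k * (T * X' ^ k) := by
    intro k
    induction k with
    | zero => intro T; simp
    | succ k ih =>
      intro T
      rw [pow_succ', Module.End.mul_apply, ih, hAapp, pow_succ', pow_succ]
      noncomm_ring
  have hAp : A ^ p = 1 := by
    ext T : 1
    rw [hApow, hXP, hX'P, one_mul, mul_one]; rfl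
  have hAu : ∀ c : Q ⧸ Subgroup.center Q, ∃ a : K, a ≠ 0 ∧
      A (σ (Quotient.out c)) = a • σ (Quotient.out (π c)) := by
    intro c
    obtain ⟨μ, hμ0, hμ⟩ := hout (φ (Quotient.out c))
    refine ⟨μ, hμ0, ?_⟩
    rw [hAapp, ← mul_assoc, ← hσφ, hμ]
    congr 2
    rw [← hπ, QuotientGroup.out_eq']
  have hdim := finrank_fixed_le_orbits (fun c : Q ⧸ Subgroup.center Q => σ (Quotient.out c))
    hspan π A hAu p hpK hAp
  have hcomm_le : commutant X ≤ LinearMap.ker (A - 1) := by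
    intro T hT
    rw [mem_commutant] at hT
    rw [LinearMap.mem_ker, LinearMap.sub_apply, Module.End.one_apply, hAapp, ← mul_assoc, ← hT,
      mul_assoc, hXX', mul_one, sub_self]
  have hdim2 : finrank K (commutant X) ≤ finrank K (LinearMap.ker (A - 1)) :=
    Submodule.finrank_mono hcomm_le
  have hsq := sq_finrank_le_commutant X p hp.out hpK hXP hNX
  -- arithmetic
  set n := finrank K W with hn
  set k := Nat.card (MulAction.orbitRel.Quotient (Subgroup.zpowers π) (Q ⧸ Subgroup.center Q))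
    with hk
  set d := finrank K (commutant X) with hd
  have hdk : d ≤ k := le_trans hdim2 hdim
  have hn1 : 1 ≤ n := by
    rw [hb]; exact Nat.one_le_pow _ _ hs.out.pos
  -- `p * n^2 ≤ (p-1) * (n^2 + p - 1)`
  have h1 : p * n ^ 2 ≤ (p - 1) * (n ^ 2 + (p - 1)) := by
    calc p * n ^ 2 ≤ p * ((p - 1) * d) := Nat.mul_le_mul_left _ hsq
      _ = (p - 1) * (p * d) := by ring
      _ ≤ (p - 1) * (p * k) := Nat.mul_le_mul_left _ (Nat.mul_le_mul_left _ hdk)
      _ = (p - 1) * (n ^ 2 + (p - 1)) := by rw [horb]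
  obtain ⟨p', hp'⟩ : ∃ p', p = p' + 1 := ⟨p - 1, by omega⟩
  have hp'1 : p - 1 = p' := by omega
  rw [hp'1] at h1 horb
  have h2 : n ^ 2 ≤ p' ^ 2 := by
    have : (p' + 1) * n ^ 2 ≤ p' * n ^ 2 + p' * p' := by
      calc (p' + 1) * n ^ 2 = p * n ^ 2 := by rw [hp']
        _ ≤ p' * (n ^ 2 + p') := h1
        _ = p' * n ^ 2 + p' * p' := by ring
    nlinarith
  have h3 : n ≤ p' := by
    by_contra hcon
    push Not at hcon
    have : p' ^ 2 < n ^ 2 := Nat.pow_lt_pow_left hcon (by norm_num)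
    omega
  -- `p ∣ n^2 - 1`
  have h4 : p ∣ (n - 1) * (n + 1) := by
    have h5 : (n - 1) * (n + 1) + (p' + 1) = n ^ 2 + p' := by
      obtain ⟨n', hn'⟩ : ∃ n', n = n' + 1 := ⟨n - 1, by omega⟩
      rw [hn']
      simp only [Nat.add_sub_cancel]
      ring
    have h6 : p ∣ (n - 1) * (n + 1) + (p' + 1) := by
      rw [h5, ← horb]; exact Dvd.intro _ rfl
    have h7 : p ∣ p' + 1 := by rw [← hp']
    exact (Nat.dvd_add_left h7).mp h6
  rcases (Nat.Prime.dvd_mul hp.out).mp h4 with h5 | h5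
  · rcases Nat.eq_zero_or_pos (n - 1) with h6 | h6
    · -- `n = 1`: `Q` is abelian
      have hn1' : n = 1 := by omega
      apply hnonab
      intro a b'
      apply hfaith
      rw [map_mul, map_mul]
      have hsc : ∀ g : Q, ∃ μ : K, σ g = μ • (1 : Module.End K W) := by
        intro g
        have hfr : finrank K W = 1 := hn1'
        obtain ⟨w0, hw0⟩ := exists_ne (0 : W)
        obtain ⟨μ, hμ⟩ := (finrank_eq_one_iff_of_nonzero' w0 hw0).mp hfr (σ g w0)
        refine ⟨μ, LinearMap.ext (fun w => ?_)⟩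
        obtain ⟨c, hc⟩ := (finrank_eq_one_iff_of_nonzero' w0 hw0).mp hfr w
        rw [← hc, map_smul, ← hμ, LinearMap.smul_apply, Module.End.one_apply, smul_comm]
      obtain ⟨μa, hμa⟩ := hsc a
      obtain ⟨μb, hμb⟩ := hsc b'
      rw [hμa, hμb, smul_mul_smul_comm, smul_mul_smul_comm, mul_comm]
    · have := Nat.le_of_dvd h6 h5
      omega
  · have h6 := Nat.le_of_dvd (by omega) h5
    have h7 : p = n + 1 := by omega
    exact hex b (by rw [h7, hb])

/-- The main induction. -/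
theorem nm_main (p s : ℕ) [Fact p.Prime] [Fact s.Prime] (hps : p ≠ s)
    (hex : ∀ m : ℕ, p ≠ s ^ m + 1) {K : Type w} [Field K] [IsAlgClosed K] (hpK : (p : K) ≠ 0)
    (hsK : (s : K) ≠ 0) :
    ∀ (M : ℕ) (Q : Type u) [Group Q] [Finite Q] (W : Type v) [AddCommGroup W] [Module K W]
      [FiniteDimensional K W] (σ : Representation K Q W) (X X' : Module.End K W)
      (φ : MulAut Q), Nat.card Q + finrank K W = M → NMGood p s Q W σ X X' φ := by
  intro M
  induction M using Nat.strong_induction_on with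
  | _ M IHM =>
  intro Q _ _ W _ _ _ σ X X' φ hM
  by_cases hfaith : Function.Injective σ
  swap
  · exact nm_stepA p s σ X X' φ
      (fun Q' _ _ σ' φ' hlt => IHM (Nat.card Q' + finrank K W) (by omega) Q' W σ' X X' φ' rfl)
      hfaith
  by_cases hminQ : ∃ Q₁ : Subgroup Q, Q₁ ≠ ⊤ ∧ (∀ g ∈ Q₁, φ g ∈ Q₁) ∧
      ∃ g ∈ Q₁, σ (φ g) ≠ σ g
  · obtain ⟨Q₁, h1, h2, h3⟩ := hminQ
    exact nm_stepB p s σ X X' φ
      (fun Q' _ _ σ' φ' hlt => IHM (Nat.card Q' + finrank K W) (by omega) Q' W σ' X X' φ' rfl)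
      Q₁ h1 h2 h3
  by_cases hminW : ∃ U : Submodule K W, U ≠ ⊤ ∧ (∀ g, ∀ w ∈ U, σ g w ∈ U) ∧
      (∀ w ∈ U, X w ∈ U) ∧ (∀ w ∈ U, X' w ∈ U) ∧
      ∃ g, ∃ w ∈ U, σ (φ g) w ≠ σ g w
  · obtain ⟨U, h1, h2, h3, h4, h5⟩ := hminW
    exact nm_stepC p s σ X X' φ
      (fun W' _ _ _ σ' X₁ X₁' hlt =>
        IHM (Nat.card Q + finrank K W') (by omega) Q W' σ' X₁ X₁' φ rfl)
      U h1 h2 h3 h4 h5
  push Not at hminQ hminW
  exact nm_stepD p s hps hex hpK hsK σ X X' φ hfaith hminQ hminW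

end Cfsg.Agent.Lib.Helper3.Sh
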