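import Mathlib
import Cfsg.Agent.Lib.Helper8.FP4a
import Cfsg.Agent.Lib.Helper6.WdA

/-!
# Shult-type theorem, part H: a pair of automorphisms generating an image of `S₃`.
Lifting fixed points, and the "three kernels" lemma.
-/

set_option autoImplicit false
set_option maxHeartbeats 4000000
set_option maxRecDepth 100000
set_option linter.unusedVariables false
set_option linter.unusedSectionVars false
set_option linter.style.haveILetI false
set_option linter.deprecated false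

namespace Cfsg.Agent.Lib.Helper3.Sh

open Cfsg.Agent.Lib.Helper8.FP4 Cfsg.Agent.Lib.Helper6.Wd

variable {G : Type*} [Group G]

/-- `s` and `r` satisfy the relations of `S₃`. -/
structure Aut3 (s r : MulAut G) : Prop where
  s3 : s ^ 3 = 1
  r2 : r ^ 2 = 1
  rs : r * s = s ^ 2 * r

namespace Aut3

variable {s r : MulAut G}

theorem s3_apply (h : Aut3 s r) (g : G) : s (s (s g)) = g := by
  have h1 : s ^ 3 = s * (s * s) := by rw [pow_succ, pow_two, mul_assoc]
  have := congrArg (fun a : MulAut G => a g) h.s3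
  rw [h1] at this
  simpa only [MulAut.mul_apply, MulAut.one_apply] using this

theorem r2_apply (h : Aut3 s r) (g : G) : r (r g) = g := by
  have := congrArg (fun a : MulAut G => a g) h.r2
  rw [pow_two] at this
  simpa only [MulAut.mul_apply, MulAut.one_apply] using this

theorem rs_apply (h : Aut3 s r) (g : G) : r (s g) = s (s (r g)) := by
  have := congrArg (fun a : MulAut G => a g) h.rs
  rw [pow_two] at this
  simpa only [MulAut.mul_apply] using this

theorem sr_apply (h : Aut3 s r) (g : G) : s (r g) = r (s (s g)) := by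
  rw [h.rs_apply (s g), h.rs_apply g, h.s3_apply]

theorem s2_apply (h : Aut3 s r) (g : G) : (s ^ 2) g = s (s g) := by
  rw [pow_two]; rfl

theorem inv_r_fix (h : Aut3 s r) : Inv r (fix s) := by
  intro x hx
  rw [mem_fix] at hx ⊢
  rw [h.sr_apply, hx, hx]

end Aut3

theorem not_dvd_card_of_coprime [Finite G] (hcop : (Nat.card G).Coprime 6) (H : Subgroup G)
    (p : ℕ) (hp : p ∣ 6) (hp1 : p ≠ 1) : ¬ p ∣ Nat.card H := by
  intro hd
  have h1 : p ∣ Nat.card G := dvd_trans hd (Subgroup.card_subgroup_dvd_card H)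
  have h2 : p ∣ Nat.gcd (Nat.card G) 6 := Nat.dvd_gcd h1 hp
  rw [hcop, Nat.dvd_one] at h2
  exact hp1 h2

/-- Lifting a common fixed point through an invariant subgroup. -/
theorem lift2 [Finite G] {s r : MulAut G} (h : Aut3 s r) (hcop : (Nat.card G).Coprime 6)
    (hfpf : ∀ g, s g = g → r g = g → g = 1) (N : Subgroup G) (hsN : Inv s N) (hrN : Inv r N)
    (g : G) (h1 : g⁻¹ * s g ∈ N) (h2 : g⁻¹ * r g ∈ N) : g ∈ N := by
  have h3N : ¬ 3 ∣ Nat.card N := not_dvd_card_of_coprime hcop N 3 (by norm_num) (by norm_num)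
  obtain ⟨n, hn, hfix⟩ := exists_fixed_in_coset (p := 3) s h.s3 N hsN h3N g h1
  have hg1 : (g * n)⁻¹ * r (g * n) ∈ N := by
    have : (g * n)⁻¹ * r (g * n) = n⁻¹ * (g⁻¹ * r g) * r n := by rw [map_mul]; group
    rw [this]
    exact N.mul_mem (N.mul_mem (N.inv_mem hn) h2) (hrN n hn)
  have hInvF := h.inv_r_fix
  have hInvNF : Inv (restrictAut r (fix s) hInvF) (N.subgroupOf (fix s)) := by
    intro x hx
    rw [Subgroup.mem_subgroupOf] at hx ⊢
    rw [restrictAut_apply_coe]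
    exact hrN _ hx
  have h2N : ¬ 2 ∣ Nat.card (N.subgroupOf (fix s)) := by
    intro hd
    have h1 : 2 ∣ Nat.card G :=
      dvd_trans (dvd_trans hd (Subgroup.card_subgroup_dvd_card _))
        (Subgroup.card_subgroup_dvd_card (fix s))
    have h2 : 2 ∣ Nat.gcd (Nat.card G) 6 := Nat.dvd_gcd h1 (by norm_num)
    rw [hcop] at h2
    norm_num at h2
  have hx : (⟨g * n, hfix⟩ : fix s)⁻¹ * restrictAut r (fix s) hInvF ⟨g * n, hfix⟩
      ∈ N.subgroupOf (fix s) := by
    rw [Subgroup.mem_subgroupOf]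
    exact hg1
  obtain ⟨m, hm, hfix2⟩ := exists_fixed_in_coset (p := 2) (restrictAut r (fix s) hInvF)
    (restrictAut_pow_eq_one r (fix s) hInvF 2 h.r2) (N.subgroupOf (fix s)) hInvNF h2N
    ⟨g * n, hfix⟩ hx
  have hy1 : s ((g * n) * (m : G)) = (g * n) * (m : G) := by
    rw [map_mul, hfix, show s (m : G) = m from m.2]
  have hy2 : r ((g * n) * (m : G)) = (g * n) * (m : G) := by
    have := congrArg Subtype.val hfix2
    exact this
  have hy := hfpf _ hy1 hy2
  have hmN : (m : G) ∈ N := hm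
  have : g = (m : G)⁻¹ * n⁻¹ := by
    have h5 : g * n * (m : G) * ((m : G)⁻¹ * n⁻¹) = g := by group
    rw [hy, one_mul] at h5
    exact h5.symm
  rw [this]
  exact N.mul_mem (N.inv_mem hmN) (N.inv_mem hn)

/-- The fixed points of `s` commute with each other. -/
theorem fix_s_comm [Finite G] {s r : MulAut G} (h : Aut3 s r)
    (hfpf : ∀ g, s g = g → r g = g → g = 1) (a b : G) (ha : s a = a) (hb : s b = b) :
    a * b = b * a := by
  have hInvF := h.inv_r_fix
  have hF : Fpf (restrictAut r (fix s) hInvF) := by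
    intro x hx
    have h1 : r (x : G) = x := congrArg Subtype.val hx
    have h2 : s (x : G) = x := x.2
    exact Subtype.ext (hfpf _ h2 h1)
  have := hF.comm_of_sq (restrictAut_pow_eq_one r (fix s) hInvF 2 h.r2)
    (⟨a, ha⟩ : fix s) ⟨b, hb⟩
  exact congrArg Subtype.val this

/-- The three kernels lemma, faithful form. -/
theorem IIa0 [Finite G] {s r : MulAut G} (h : Aut3 s r) (hcop : (Nat.card G).Coprime 6)
    (hfpf : ∀ g, s g = g → r g = g → g = 1) (K₀ : Subgroup G) [hK₀ : K₀.Normal]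
    (h1 : ∀ g, g⁻¹ * r g ∈ K₀)
    (h2 : ∀ x ∈ K₀, s x ∈ K₀ → s (s x) ∈ K₀ → x = 1) : ∀ a b : G, a * b = b * a := by
  -- (1) `s` is fixed-point-free
  have hsfpf : Fpf s := by
    intro g hg
    have hx : g⁻¹ * r g ∈ K₀ := h1 g
    have hsx : s (g⁻¹ * r g) = g⁻¹ * r g := by
      rw [map_mul, map_inv, hg, h.sr_apply, hg, hg]
    have hx1 := h2 _ hx (by rw [hsx]; exact hx) (by rw [hsx, hsx]; exact hx)
    have hrg : r g = g := by
      have := congrArg (fun t => g * t) hx1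
      simpa using this
    exact hfpf g hg hrg
  -- (2) the norm is trivial
  have hN : ∀ x, x * s x * s (s x) = 1 := by
    intro x
    obtain ⟨y, rfl⟩ := hsfpf.surj x
    simp only [map_mul, map_inv]
    rw [h.s3_apply y]
    group
  -- (3) `x` commutes with `s x`
  have hcomm : ∀ x, x * s x = s x * x := by
    intro x
    have e1 : s (s x) = (x * s x)⁻¹ := eq_inv_of_mul_eq_one_right (hN x)
    have e2 : s (s x) * (s x * x) = 1 := by
      have h3 := hN x⁻¹
      simp only [map_inv] at h3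
      calc s (s x) * (s x * x) = (x⁻¹ * (s x)⁻¹ * (s (s x))⁻¹)⁻¹ := by group
        _ = 1 := by rw [h3, inv_one]
    rw [e1] at e2
    exact inv_mul_eq_one.mp e2
  have hrK : Inv r K₀ := by
    intro x hx
    have : r x = x * (x⁻¹ * r x) := by group
    rw [this]
    exact K₀.mul_mem hx (h1 x)
  have hsmk : ∀ d, r d = d → ((s (s d) : G) : G ⧸ K₀) = ((s d : G) : G ⧸ K₀) := by
    intro d hd
    have h3 := h1 (s d)
    rw [h.rs_apply, hd] at h3
    exact (QuotientGroup.eq.mpr h3).symm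
  have hD : ∀ d, r d = d → ((d : G) : G ⧸ K₀) * ((s d : G) : G ⧸ K₀) ^ 2 = 1 := by
    intro d hd
    have h3 : ((d * s d * s (s d) : G) : G ⧸ K₀) = 1 := by rw [hN d]; rfl
    rw [QuotientGroup.mk_mul, QuotientGroup.mk_mul, hsmk d hd] at h3
    rw [pow_two, ← mul_assoc]
    exact h3
  have h2K : ¬ 2 ∣ Nat.card K₀ := not_dvd_card_of_coprime hcop K₀ 2 (by norm_num) (by norm_num)
  have hsurj : ∀ g : G, ∃ d, r d = d ∧ ((d : G) : G ⧸ K₀) = ((g : G) : G ⧸ K₀) := by
    intro g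
    obtain ⟨n, hn, hfix⟩ := exists_fixed_in_coset (p := 2) r h.r2 K₀ hrK h2K g (h1 g)
    refine ⟨g * n, hfix, ?_⟩
    rw [QuotientGroup.mk_mul, (QuotientGroup.eq_one_iff n).mpr hn, mul_one]
  -- (6) injectivity of `ψ` on the fixed points of `r`
  have hinj : ∀ d, r d = d → ((s d : G) : G ⧸ K₀) = 1 → d = 1 := by
    intro d hd hψ
    have h3 := hD d hd
    rw [hψ, one_pow, mul_one] at h3
    have h4 : ((s (s d) : G) : G ⧸ K₀) = 1 := by rw [hsmk d hd, hψ]
    exact h2 d ((QuotientGroup.eq_one_iff d).mp h3) ((QuotientGroup.eq_one_iff _).mp hψ)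
      ((QuotientGroup.eq_one_iff _).mp h4)
  -- (7) the star relation
  have hstar : ∀ d e, r d = d → r e = e →
      (((s d : G) : G ⧸ K₀) * ((s e : G) : G ⧸ K₀)) ^ 2
        = ((s e : G) : G ⧸ K₀) ^ 2 * ((s d : G) : G ⧸ K₀) ^ 2 := by
    intro d e hd he
    have hde : r (d * e) = d * e := by rw [map_mul, hd, he]
    have h3 := hD (d * e) hde
    rw [map_mul, QuotientGroup.mk_mul, QuotientGroup.mk_mul] at h3
    have h4 : ((d : G) : G ⧸ K₀) = (((s d : G) : G ⧸ K₀) ^ 2)⁻¹ :=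
      eq_inv_of_mul_eq_one_left (hD d hd)
    have h5 : ((e : G) : G ⧸ K₀) = (((s e : G) : G ⧸ K₀) ^ 2)⁻¹ :=
      eq_inv_of_mul_eq_one_left (hD e he)
    rw [h4, h5] at h3
    -- (p²)⁻¹ (q²)⁻¹ (pq)² = 1
    have h6 : (((s d : G) : G ⧸ K₀) * ((s e : G) : G ⧸ K₀)) ^ 2
        = ((((s d : G) : G ⧸ K₀) ^ 2)⁻¹ * (((s e : G) : G ⧸ K₀) ^ 2)⁻¹)⁻¹ :=
      eq_inv_of_mul_eq_one_right h3
    rw [h6, mul_inv_rev, inv_inv, inv_inv]
  have hcoprime : ∀ (x : G ⧸ K₀) (n : ℕ), n ∣ 6 → n.Coprime (orderOf x) := by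
    intro x n hn
    have h3 : orderOf x ∣ Nat.card G :=
      dvd_trans (orderOf_dvd_natCard x) (Subgroup.card_quotient_dvd_card K₀)
    exact Nat.Coprime.symm (Nat.Coprime.coprime_dvd_left h3
      (Nat.Coprime.coprime_dvd_right hn hcop))
  have hψcomm : ∀ d e, r d = d → r e = e →
      ((s d : G) : G ⧸ K₀) * ((s e : G) : G ⧸ K₀)
        = ((s e : G) : G ⧸ K₀) * ((s d : G) : G ⧸ K₀) := by
    intro d e hd he
    have hei : r e⁻¹ = e⁻¹ := by rw [map_inv, he]
    have hed : r (e⁻¹ * d) = e⁻¹ * d := by rw [map_mul, hei, hd]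
    have s1 := hstar e⁻¹ d hei hd
    have s2 := hstar (e⁻¹ * d) e hed he
    rw [map_mul, map_inv, QuotientGroup.mk_mul, QuotientGroup.mk_inv] at s2
    rw [map_inv, QuotientGroup.mk_inv] at s1
    set p := ((s d : G) : G ⧸ K₀) with hp
    set q := ((s e : G) : G ⧸ K₀) with hq
    -- s1 : (q⁻¹ p)² = p² (q⁻¹)² ; s2 : (q⁻¹ p q)² = q² (q⁻¹ p)²
    have h3 : q⁻¹ * p ^ 2 * q = q ^ 2 * (p ^ 2 * (q⁻¹) ^ 2) := by
      rw [← s1, ← s2, pow_two, pow_two]
      group
    have h4 : Commute (q ^ 3) (p ^ 2) := by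
      show q ^ 3 * p ^ 2 = p ^ 2 * q ^ 3
      have : p ^ 2 * q ^ 3 = q * (q⁻¹ * p ^ 2 * q) * q ^ 2 := by group
      rw [this, h3]
      group
    obtain ⟨m, hm⟩ := exists_pow_eq_self_of_coprime (hcoprime q 3 (by norm_num))
    obtain ⟨m', hm'⟩ := exists_pow_eq_self_of_coprime (hcoprime p 2 (by norm_num))
    have h5 : Commute ((q ^ 3) ^ m) ((p ^ 2) ^ m') := (h4.pow_left m).pow_right m'
    rw [hm, hm'] at h5
    exact h5.eq.symm
  -- (8) the fixed points of `r` commute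
  have hDcomm : ∀ d e, r d = d → r e = e → d * e * d⁻¹ * e⁻¹ = 1 := by
    intro d e hd he
    apply hinj
    · rw [map_mul, map_mul, map_mul, map_inv, map_inv, hd, he]
    · rw [map_mul, map_mul, map_mul, map_inv, map_inv, QuotientGroup.mk_mul,
        QuotientGroup.mk_mul, QuotientGroup.mk_mul, QuotientGroup.mk_inv, QuotientGroup.mk_inv,
        hψcomm d e hd he]
      group
  -- (9) conclusion
  have hcommK : ∀ a b : G, a * b * a⁻¹ * b⁻¹ ∈ K₀ := by
    intro a b
    obtain ⟨d, hd, hda⟩ := hsurj a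
    obtain ⟨e, he, heb⟩ := hsurj b
    rw [← QuotientGroup.eq_one_iff, QuotientGroup.mk_mul, QuotientGroup.mk_mul,
      QuotientGroup.mk_mul, QuotientGroup.mk_inv, QuotientGroup.mk_inv, ← hda, ← heb,
      ← QuotientGroup.mk_inv, ← QuotientGroup.mk_inv, ← QuotientGroup.mk_mul,
      ← QuotientGroup.mk_mul, ← QuotientGroup.mk_mul, hDcomm d e hd he]
    rfl
  intro a b
  have h3 := hcommK a b
  have h4 := hcommK (s a) (s b)
  have h5 := hcommK (s (s a)) (s (s b))
  have h6 : s (a * b * a⁻¹ * b⁻¹) = s a * s b * (s a)⁻¹ * (s b)⁻¹ := by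
    rw [map_mul, map_mul, map_mul, map_inv, map_inv]
  have h7 : s (s (a * b * a⁻¹ * b⁻¹)) = s (s a) * s (s b) * (s (s a))⁻¹ * (s (s b))⁻¹ := by
    rw [h6, map_mul, map_mul, map_mul, map_inv, map_inv]
  have h8 := h2 _ h3 (by rw [h6]; exact h4) (by rw [h7]; exact h5)
  calc a * b = (a * b * a⁻¹ * b⁻¹) * (b * a) := by group
    _ = b * a := by rw [h8, one_mul]

end Cfsg.Agent.Lib.Helper3.Sh
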