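import Mathlib
import Cfsg.Agent.Lib.Helper8.FP4a
import Cfsg.Agent.Lib.Helper8.FP4b
import Cfsg.Agent.Lib.Helper6.WdA
import Cfsg.Agent.Lib.Helper3.ShH

/-!
# Shult-type theorem, part I: restriction/quotient of an `S₃`-pair, the three kernels lemma in
general form, invariant Sylow subgroups and a transfer lemma.
-/

set_option autoImplicit false
set_option maxHeartbeats 4000000
set_option maxRecDepth 100000
set_option linter.unusedVariables false
set_option linter.unusedSectionVars false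
set_option linter.style.haveILetI false
set_option linter.deprecated false

namespace Cfsg.Agent.Lib.Helper3.Sh

open Cfsg.Agent.Lib.Helper8.FP4 Cfsg.Agent.Lib.Helper6.Wd
open scoped Pointwise

variable {G : Type*} [Group G]

theorem Aut3.restrict [Finite G] {s r : MulAut G} (h : Aut3 s r) (H : Subgroup G)
    (hs : Inv s H) (hr : Inv r H) : Aut3 (restrictAut s H hs) (restrictAut r H hr) where
  s3 := restrictAut_pow_eq_one s H hs 3 h.s3
  r2 := restrictAut_pow_eq_one r H hr 2 h.r2
  rs := by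
    ext x
    show (((restrictAut r H hr) ((restrictAut s H hs) x) : H) : G)
      = ((((restrictAut s H hs) ^ 2) ((restrictAut r H hr) x) : H) : G)
    rw [restrictAut_pow_apply_coe, restrictAut_apply_coe, restrictAut_apply_coe,
      restrictAut_apply_coe, h.rs_apply, h.s2_apply]

theorem Aut3.quot [Finite G] {s r : MulAut G} (h : Aut3 s r) (N : Subgroup G) [N.Normal]
    (hs : Inv s N) (hr : Inv r N) : Aut3 (quotAut s N hs) (quotAut r N hr) where
  s3 := quotAut_pow_eq_one s N hs 3 h.s3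
  r2 := quotAut_pow_eq_one r N hr 2 h.r2
  rs := by
    ext x
    refine QuotientGroup.induction_on x (fun g => ?_)
    show (quotAut r N hr) ((quotAut s N hs) (g : G ⧸ N))
      = ((quotAut s N hs) ^ 2) ((quotAut r N hr) (g : G ⧸ N))
    rw [quotAut_mk, quotAut_mk, quotAut_mk, quotAut_pow_mk, h.rs_apply, h.s2_apply]

/-- The three kernels lemma, general form. -/
theorem IIa [Finite G] {s r : MulAut G} (h : Aut3 s r) (hcop : (Nat.card G).Coprime 6)
    (hfpf : ∀ g, s g = g → r g = g → g = 1) (K₀ : Subgroup G) [hK₀ : K₀.Normal]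
    (h1 : ∀ g, g⁻¹ * r g ∈ K₀) : ∀ a b : G, a * b * a⁻¹ * b⁻¹ ∈ K₀ := by
  have hrK : Inv r K₀ := by
    intro x hx
    have : r x = x * (x⁻¹ * r x) := by group
    rw [this]
    exact K₀.mul_mem hx (h1 x)
  let N : Subgroup G :=
    { carrier := {x | x ∈ K₀ ∧ s x ∈ K₀ ∧ s (s x) ∈ K₀}
      one_mem' := by
        refine ⟨K₀.one_mem, ?_, ?_⟩
        · rw [map_one]; exact K₀.one_mem
        · rw [map_one, map_one]; exact K₀.one_mem
      mul_mem' := by
        intro a b ha hb
        refine ⟨K₀.mul_mem ha.1 hb.1, ?_, ?_⟩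
        · rw [map_mul]; exact K₀.mul_mem ha.2.1 hb.2.1
        · rw [map_mul, map_mul]; exact K₀.mul_mem ha.2.2 hb.2.2
      inv_mem' := by
        intro a ha
        refine ⟨K₀.inv_mem ha.1, ?_, ?_⟩
        · rw [map_inv]; exact K₀.inv_mem ha.2.1
        · rw [map_inv, map_inv]; exact K₀.inv_mem ha.2.2 }
  have hNmem : ∀ x, x ∈ N ↔ x ∈ K₀ ∧ s x ∈ K₀ ∧ s (s x) ∈ K₀ := fun x => Iff.rfl
  haveI hNn : N.Normal := by
    refine ⟨fun x hx g => ?_⟩
    rw [hNmem] at hx ⊢
    refine ⟨hK₀.conj_mem x hx.1 g, ?_, ?_⟩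
    · rw [map_mul, map_mul, map_inv]; exact hK₀.conj_mem _ hx.2.1 _
    · rw [map_mul, map_mul, map_inv, map_mul, map_mul, map_inv]
      exact hK₀.conj_mem _ hx.2.2 _
  have hsN : Inv s N := by
    intro x hx
    rw [hNmem] at hx ⊢
    refine ⟨hx.2.1, hx.2.2, ?_⟩
    rw [h.s3_apply]; exact hx.1
  have hrN : Inv r N := by
    intro x hx
    rw [hNmem] at hx ⊢
    refine ⟨hrK x hx.1, ?_, ?_⟩
    · rw [h.sr_apply]; exact hrK _ hx.2.2
    · rw [h.sr_apply, h.sr_apply, h.s3_apply]
      exact hrK _ hx.2.1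
  have hNK : N ≤ K₀ := fun x hx => hx.1
  have h3 := h.quot N hsN hrN
  have hcop' : (Nat.card (G ⧸ N)).Coprime 6 :=
    Nat.Coprime.coprime_dvd_left (Subgroup.card_quotient_dvd_card N) hcop
  have hfpf' : ∀ x : G ⧸ N, quotAut s N hsN x = x → quotAut r N hrN x = x → x = 1 := by
    intro x
    refine QuotientGroup.induction_on x (fun g => ?_)
    intro hs hr
    rw [quotAut_mk] at hs hr
    have e1 : g⁻¹ * s g ∈ N := QuotientGroup.eq.mp hs.symm
    have e2 : g⁻¹ * r g ∈ N := QuotientGroup.eq.mp hr.symm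
    exact (QuotientGroup.eq_one_iff g).mpr (lift2 h hcop hfpf N hsN hrN g e1 e2)
  have hmemK : ∀ g : G, ((g : G) : G ⧸ N) ∈ K₀.map (QuotientGroup.mk' N) → g ∈ K₀ := by
    intro g hg
    obtain ⟨k, hk, hkg⟩ := Subgroup.mem_map.mp hg
    have h4 : k⁻¹ * g ∈ N := QuotientGroup.eq.mp hkg
    have : g = k * (k⁻¹ * g) := by group
    rw [this]
    exact K₀.mul_mem hk (hNK h4)
  haveI hKn : (K₀.map (QuotientGroup.mk' N)).Normal :=
    hK₀.map _ (QuotientGroup.mk'_surjective N)
  have h1' : ∀ x : G ⧸ N, x⁻¹ * quotAut r N hrN x ∈ K₀.map (QuotientGroup.mk' N) := by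
    intro x
    refine QuotientGroup.induction_on x (fun g => ?_)
    rw [quotAut_mk]
    exact Subgroup.mem_map.mpr ⟨g⁻¹ * r g, h1 g, rfl⟩
  have h2' : ∀ x ∈ K₀.map (QuotientGroup.mk' N), quotAut s N hsN x ∈ K₀.map (QuotientGroup.mk' N) →
      quotAut s N hsN (quotAut s N hsN x) ∈ K₀.map (QuotientGroup.mk' N) → x = 1 := by
    intro x
    refine QuotientGroup.induction_on x (fun g => ?_)
    intro e1 e2 e3
    rw [quotAut_mk] at e2 e3
    rw [quotAut_mk] at e3
    exact (QuotientGroup.eq_one_iff g).mpr ⟨hmemK g e1, hmemK _ e2, hmemK _ e3⟩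
  have hcomm := IIa0 h3 hcop' hfpf' (K₀.map (QuotientGroup.mk' N)) h1' h2'
  intro a b
  apply hNK
  rw [← QuotientGroup.eq_one_iff]
  have := hcomm (a : G ⧸ N) (b : G ⧸ N)
  rw [QuotientGroup.mk_mul, QuotientGroup.mk_mul, QuotientGroup.mk_mul, QuotientGroup.mk_inv,
    QuotientGroup.mk_inv, this]
  group

/-- Compatibility of the two actions on Sylow subgroups. -/
theorem aut_smul_conj_smul {p : ℕ} [Fact p.Prime] (a : MulAut G) (x : G) (P : Sylow p G) :
    a • (x • P) = (a x) • (a • P) := by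
  apply Sylow.ext
  ext y
  rw [mem_aut_smul_sylow, mem_conj_sylow, mem_conj_sylow, mem_aut_smul_sylow]
  have : a⁻¹ ((a x)⁻¹ * y * a x) = x⁻¹ * a⁻¹ y * x := by
    rw [map_mul, map_mul, map_inv, MulAut.inv_apply_self]
  rw [this]

theorem inv_of_smul_eq {p : ℕ} [Fact p.Prime] (a : MulAut G) (P : Sylow p G) (h : a • P = P) :
    Inv a (P : Subgroup G) := by
  intro x hx
  have h1 : a x ∈ ((a • P : Sylow p G) : Subgroup G) := by
    rw [mem_aut_smul_sylow, MulAut.inv_apply_self]; exact hx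
  rwa [h] at h1

/-- Sylow subgroups invariant under an automorphism of order 3 are conjugate under its fixed
points. -/
theorem exists_fixed_conj [Finite G] {s : MulAut G} (hs3 : s ^ 3 = 1)
    (hcop : (Nat.card G).Coprime 6) {p : ℕ} [Fact p.Prime] (P Q : Sylow p G) (hP : s • P = P)
    (hQ : s • Q = Q) : ∃ c : G, s c = c ∧ c • P = Q := by
  obtain ⟨g, hg⟩ := MulAction.exists_smul_eq G P Q
  have hInvN : Inv s (Subgroup.normalizer (P : Set G)) := by
    intro x hx
    rw [← Sylow.smul_eq_iff_mem_normalizer] at hx ⊢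
    have := aut_smul_conj_smul s x P
    rw [hx, hP] at this
    exact this.symm
  have hmem : g⁻¹ * s g ∈ (Subgroup.normalizer (P : Set G)) := by
    rw [← Sylow.smul_eq_iff_mem_normalizer, mul_smul]
    have h1 := aut_smul_conj_smul s g P
    rw [hg, hQ, hP] at h1
    rw [← h1, ← hg, inv_smul_smul]
  have h3N : ¬ 3 ∣ Nat.card (Subgroup.normalizer (P : Set G)) :=
    not_dvd_card_of_coprime hcop _ 3 (by norm_num) (by norm_num)
  obtain ⟨n, hn, hfix⟩ := exists_fixed_in_coset (p := 3) s hs3 _ hInvN h3N g hmem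
  refine ⟨g * n, hfix, ?_⟩
  rw [mul_smul, Sylow.smul_eq_iff_mem_normalizer.mpr hn, hg]

/-- Existence of a Sylow subgroup invariant under both automorphisms. -/
theorem exists_inv_sylow3 [Finite G] {s r : MulAut G} (h : Aut3 s r)
    (hcop : (Nat.card G).Coprime 6) (p : ℕ) [Fact p.Prime] :
    ∃ P : Sylow p G, Inv s (P : Subgroup G) ∧ Inv r (P : Subgroup G) := by
  classical
  haveI : Fintype (Sylow p G) := Fintype.ofFinite _
  have hcardS : Nat.card (Sylow p G) ∣ Nat.card G := by
    obtain ⟨P₀⟩ : Nonempty (Sylow p G) := inferInstance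
    exact dvd_trans (Sylow.card_dvd_index P₀) (Subgroup.index_dvd_card _)
  -- Step 1: an `s`-invariant Sylow subgroup
  obtain ⟨P₁, hP₁⟩ : ∃ P₁ : Sylow p G, s • P₁ = P₁ := by
    let f : Function.End (Sylow p G) := fun P => s • P
    have hfpow : ∀ k : ℕ, ∀ P, (f ^ k) P = (s ^ k) • P := by
      intro k
      induction k with
      | zero => intro P; rw [pow_zero, pow_zero, one_smul]; rfl
      | succ k ih =>
        intro P
        rw [pow_succ', pow_succ', mul_smul, ← ih]; rfl
    have hf3 : f ^ 3 ^ 1 = 1 := by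
      funext P
      rw [pow_one, hfpow, h.s3, one_smul]; rfl
    have hmod := Equiv.Perm.card_fixedPoints_modEq (f := f) (p := 3) (n := 1) hf3
    have hne : Nonempty (Function.fixedPoints f) := by
      by_contra hcon
      rw [not_nonempty_iff] at hcon
      have h0 : Fintype.card (Function.fixedPoints f) = 0 := Fintype.card_eq_zero
      rw [h0] at hmod
      have h3 : 3 ∣ Nat.card (Sylow p G) := by
        rw [Nat.card_eq_fintype_card]
        exact (Nat.modEq_zero_iff_dvd).mp hmod
      have h4 : 3 ∣ Nat.gcd (Nat.card G) 6 := Nat.dvd_gcd (dvd_trans h3 hcardS) (by norm_num)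
      rw [hcop] at h4
      norm_num at h4
    obtain ⟨⟨P, hP⟩⟩ := hne
    exact ⟨P, hP⟩
  -- Step 2: the set of `s`-invariant Sylow subgroups has odd cardinality
  have hsr : ∀ P : Sylow p G, s • (r • P) = r • (s • (s • P)) := by
    intro P
    rw [← mul_smul, ← mul_smul, ← mul_smul]
    congr 1
    ext g
    simp only [MulAut.mul_apply]
    exact h.sr_apply g
  let Ω := {P : Sylow p G // s • P = P}
  haveI : Fintype Ω := Fintype.ofFinite _
  have hΩorb : ∀ P : Sylow p G, s • P = P ↔ P ∈ MulAction.orbit (fix s) P₁ := by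
    intro P
    rw [MulAction.mem_orbit_iff]
    constructor
    · intro hP
      obtain ⟨c, hc, hcP⟩ := exists_fixed_conj h.s3 hcop P₁ P hP₁ hP
      exact ⟨⟨c, hc⟩, hcP⟩
    · rintro ⟨c, rfl⟩
      have h1 := aut_smul_conj_smul s (c : G) P₁
      rw [hP₁, show s (c : G) = c from c.2] at h1
      exact h1
  have hΩodd : ¬ 2 ∣ Fintype.card Ω := by
    haveI : Fintype (MulAction.orbit (fix s) P₁) := Fintype.ofFinite _
    haveI : Fintype (fix s) := Fintype.ofFinite _
    haveI : Fintype (MulAction.stabilizer (fix s) P₁) := Fintype.ofFinite _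
    have h1 : Fintype.card Ω = Fintype.card (MulAction.orbit (fix s) P₁) :=
      Fintype.card_congr (Equiv.subtypeEquivRight hΩorb)
    have h2 := MulAction.card_orbit_mul_card_stabilizer_eq_card_group (fix s) P₁
    intro hd
    rw [h1] at hd
    have h3 : 2 ∣ Fintype.card (fix s) := by rw [← h2]; exact Dvd.dvd.mul_right hd _
    rw [← Nat.card_eq_fintype_card] at h3
    exact not_dvd_card_of_coprime hcop (fix s) 2 (by norm_num) (by norm_num) h3
  -- Step 3: an `r`-fixed point
  let f : Function.End Ω := fun P => ⟨r • P.1, by rw [hsr, P.2, P.2]⟩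
  have hf2 : f ^ 2 ^ 1 = 1 := by
    funext P
    apply Subtype.ext
    rw [pow_one, pow_two]
    show r • (r • P.1) = P.1
    rw [← mul_smul, ← pow_two, h.r2, one_smul]
  have hmod := Equiv.Perm.card_fixedPoints_modEq (f := f) (p := 2) (n := 1) hf2
  have hne : Nonempty (Function.fixedPoints f) := by
    by_contra hcon
    rw [not_nonempty_iff] at hcon
    have h0 : Fintype.card (Function.fixedPoints f) = 0 := Fintype.card_eq_zero
    rw [h0] at hmod
    exact hΩodd ((Nat.modEq_zero_iff_dvd).mp hmod)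
  obtain ⟨⟨P, hP⟩⟩ := hne
  have hrP : r • P.1 = P.1 := congrArg Subtype.val hP
  exact ⟨P.1, inv_of_smul_eq s P.1 P.2, inv_of_smul_eq r P.1 hrP⟩

/-- A transfer lemma: a central element of the derived subgroup lying in an abelian Sylow subgroup
is trivial. -/
theorem eq_one_of_mem_center_commutator_sylow [Finite G] {p : ℕ} [Fact p.Prime] (P : Sylow p G)
    (hP : ∀ a ∈ (P : Subgroup G), ∀ b ∈ (P : Subgroup G), a * b = b * a) (z : G)
    (hzP : z ∈ (P : Subgroup G)) (hzZ : z ∈ Subgroup.center G) (hzC : z ∈ commutator G) :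
    z = 1 := by
  letI : CommGroup (P : Subgroup G) :=
    { (inferInstance : Group (P : Subgroup G)) with
      mul_comm := fun a b => Subtype.ext (hP a a.2 b b.2) }
  have key : ∀ (k : ℕ) (g₀ : G), g₀⁻¹ * z ^ k * g₀ ∈ (P : Subgroup G) →
      g₀⁻¹ * z ^ k * g₀ = z ^ k := by
    intro k g₀ _
    have hc : z ^ k ∈ Subgroup.center G := Subgroup.pow_mem _ hzZ k
    rw [Subgroup.mem_center_iff] at hc
    rw [mul_assoc, ← hc g₀, inv_mul_cancel_left]
  have h1 := MonoidHom.transfer_eq_pow (MonoidHom.id (P : Subgroup G)) z key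
  have h2 : MonoidHom.transfer (MonoidHom.id (P : Subgroup G)) z = 1 := by
    have hle := Abelianization.commutator_subset_ker
      (MonoidHom.transfer (MonoidHom.id (P : Subgroup G)))
    exact MonoidHom.mem_ker.mp (hle hzC)
  rw [h2] at h1
  have h3 : z ^ (P : Subgroup G).index = 1 := by
    have := congrArg Subtype.val h1
    simpa using this.symm
  obtain ⟨k, hk⟩ := P.2 ⟨z, hzP⟩
  have h4 : z ^ p ^ k = 1 := by
    have := congrArg Subtype.val hk
    simpa using this
  have hcop : Nat.Coprime ((P : Subgroup G).index) (p ^ k) := by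
    apply Nat.Coprime.pow_right
    exact (Nat.Prime.coprime_iff_not_dvd (Fact.out)).mpr P.not_dvd_index |>.symm
  have := (pow_gcd_eq_one (a := z) (m := (P : Subgroup G).index) (n := p ^ k)).mpr ⟨h3, h4⟩
  rwa [hcop, pow_one] at this

end Cfsg.Agent.Lib.Helper3.Sh
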