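import Mathlib
import Cfsg.Agent.Lib.Helper3.ShG
import Cfsg.Agent.Lib.Helper3.ShI

/-!
# Shult-type theorem, part J: the standing linear hypothesis (`S₃` acting on a group and,
compatibly, on a module without common fixed vectors), and its basic consequences.
-/

set_option autoImplicit false
set_option maxHeartbeats 4000000
set_option maxRecDepth 100000
set_option linter.unusedVariables false
set_option linter.unusedSectionVars false
set_option linter.style.haveILetI false
set_option linter.deprecated false

namespace Cfsg.Agent.Lib.Helper3.Sh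

open Module Cfsg.Agent.Lib.Helper8.FP4 Cfsg.Agent.Lib.Helper6.Wd

variable {K : Type*} [Field K] {G : Type*} [Group G] {W : Type*} [AddCommGroup W] [Module K W]

/-- The standing linear hypothesis. -/
structure Hyp3 (ρ : Representation K G W) (S R : Module.End K W) (s r : MulAut G) : Prop where
  aut : Aut3 s r
  S3 : S * S * S = 1
  R2 : R * R = 1
  RS : R * S = S * S * R
  cS : ∀ g, S * ρ g = ρ (s g) * S
  cR : ∀ g, R * ρ g = ρ (r g) * R
  fpf : ∀ g, s g = g → r g = g → g = 1
  A0 : (1 + S + S * S) * (1 + R) = 0

namespace Hyp3

variable {ρ : Representation K G W} {S R : Module.End K W} {s r : MulAut G}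

theorem SR (h : Hyp3 ρ S R s r) : S * R = R * (S * S) := by
  have h1 : R * (S * S) = S * S * (S * S) * R := by
    rw [← mul_assoc, h.RS, mul_assoc, h.RS, ← mul_assoc]
  have h2 : S * S * (S * S) = S := by
    calc S * S * (S * S) = (S * S * S) * S := by noncomm_ring
      _ = S := by rw [h.S3, one_mul]
  rw [h1, h2]

theorem E_mul_S (h : Hyp3 ρ S R s r) : (1 + S + S * S) * S = 1 + S + S * S := by
  calc (1 + S + S * S) * S = S + S * S + S * S * S := by noncomm_ring
    _ = 1 + S + S * S := by rw [h.S3]; abel

theorem S_mul_E (h : Hyp3 ρ S R s r) : S * (1 + S + S * S) = 1 + S + S * S := by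
  calc S * (1 + S + S * S) = S + S * S + S * S * S := by noncomm_ring
    _ = 1 + S + S * S := by rw [h.S3]; abel

theorem S3_apply (h : Hyp3 ρ S R s r) (v : W) : S (S (S v)) = v := by
  have := congrArg (fun A : Module.End K W => A v) h.S3
  simpa only [Module.End.mul_apply, Module.End.one_apply] using this

theorem R2_apply (h : Hyp3 ρ S R s r) (v : W) : R (R v) = v := by
  have := congrArg (fun A : Module.End K W => A v) h.R2
  simpa only [Module.End.mul_apply, Module.End.one_apply] using this

theorem RS_apply (h : Hyp3 ρ S R s r) (v : W) : R (S v) = S (S (R v)) := by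
  have := congrArg (fun A : Module.End K W => A v) h.RS
  simpa only [Module.End.mul_apply] using this

theorem SR_apply (h : Hyp3 ρ S R s r) (v : W) : S (R v) = R (S (S v)) := by
  have := congrArg (fun A : Module.End K W => A v) h.SR
  simpa only [Module.End.mul_apply] using this

theorem A0_apply (h : Hyp3 ρ S R s r) (v : W) :
    v + S v + S (S v) + (R v + S (R v) + S (S (R v))) = 0 := by
  have := congrArg (fun A : Module.End K W => A v) h.A0
  simp only [Module.End.mul_apply, LinearMap.add_apply, Module.End.one_apply,
    LinearMap.zero_apply, map_add] at this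
  rw [← this]

theorem cS_apply (h : Hyp3 ρ S R s r) (g : G) (v : W) : S (ρ g v) = ρ (s g) (S v) := by
  have := congrArg (fun A : Module.End K W => A v) (h.cS g)
  simpa only [Module.End.mul_apply] using this

theorem cR_apply (h : Hyp3 ρ S R s r) (g : G) (v : W) : R (ρ g v) = ρ (r g) (R v) := by
  have := congrArg (fun A : Module.End K W => A v) (h.cR g)
  simpa only [Module.End.mul_apply] using this

/-- Replacing the reflection `r` by the reflection `s² r`. -/
theorem twist (h : Hyp3 ρ S R s r) : Hyp3 ρ S (S * S * R) s (s ^ 2 * r) where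
  aut :=
    { s3 := h.aut.s3
      r2 := by
        ext g
        rw [pow_two, pow_two]
        simp only [MulAut.mul_apply, MulAut.one_apply]
        rw [h.aut.rs_apply, h.aut.rs_apply, h.aut.r2_apply, h.aut.s3_apply, h.aut.s3_apply]
      rs := by
        ext g
        rw [pow_two]
        simp only [MulAut.mul_apply]
        rw [h.aut.rs_apply] }
  S3 := h.S3
  R2 := by
    calc S * S * R * (S * S * R) = S * S * (R * (S * S)) * R := by noncomm_ring
      _ = S * S * (S * R) * R := by rw [← h.SR]
      _ = (S * S * S) * (R * R) := by noncomm_ring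
      _ = 1 := by rw [h.S3, h.R2, one_mul]
  RS := by
    calc S * S * R * S = S * S * (R * S) := by noncomm_ring
      _ = S * S * (S * S * R) := by rw [h.RS]
  cS := h.cS
  cR := by
    intro g
    calc S * S * R * ρ g = S * S * (R * ρ g) := by noncomm_ring
      _ = S * S * (ρ (r g) * R) := by rw [h.cR]
      _ = S * (S * ρ (r g)) * R := by noncomm_ring
      _ = S * (ρ (s (r g)) * S) * R := by rw [h.cS]
      _ = (S * ρ (s (r g))) * S * R := by noncomm_ring
      _ = ρ (s (s (r g))) * S * S * R := by rw [h.cS]
      _ = ρ ((s ^ 2 * r) g) * (S * S * R) := by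
        rw [pow_two]
        simp only [MulAut.mul_apply]
        noncomm_ring
  fpf := by
    intro g hs hr
    rw [pow_two] at hr
    simp only [MulAut.mul_apply] at hr
    have h1 : r g = g := by
      have h2 := congrArg s hr
      rw [h.aut.s3_apply, hs] at h2
      exact h2
    exact h.fpf g hs h1
  A0 := by
    calc (1 + S + S * S) * (1 + S * S * R)
        = (1 + S + S * S) + ((1 + S + S * S) * S) * S * R := by noncomm_ring
      _ = (1 + S + S * S) + (1 + S + S * S) * R := by rw [h.E_mul_S, h.E_mul_S]
      _ = (1 + S + S * S) * (1 + R) := by noncomm_ring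
      _ = 0 := h.A0

end Hyp3

/-- Automorphisms preserve the centre. -/
theorem center_aut (ψ : MulAut G) (g : G) : g ∈ Subgroup.center G ↔ ψ g ∈ Subgroup.center G := by
  constructor
  · intro hg
    rw [Subgroup.mem_center_iff] at hg ⊢
    intro h
    have h2 := congrArg ψ (hg (ψ⁻¹ h))
    rw [map_mul, map_mul, MulAut.apply_inv_self] at h2
    exact h2
  · intro hg
    rw [Subgroup.mem_center_iff] at hg ⊢
    intro h
    have := hg (ψ h)
    rw [← map_mul, ← map_mul] at this
    exact ψ.injective this

theorem tw_apply_self (a : MulAut G) (χ : G → K) (h : tw a χ = χ) (g : G) : χ (a g) = χ g := by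
  have := congrFun h (a g)
  rw [tw_apply, MulAut.inv_apply_self] at this
  exact this.symm

end Cfsg.Agent.Lib.Helper3.Sh
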