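import Mathlib
import Cfsg.Agent.Lib.Helper3.HHC1
import Cfsg.Agent.Lib.Helper3.ShF
import Cfsg.Agent.Lib.Helper3.ShJ

/-!
# Shult-type theorem, part K: the four cases for a weight of the centre of a `t`-group.
-/

set_option autoImplicit false
set_option maxHeartbeats 4000000
set_option maxRecDepth 100000
set_option linter.unusedVariables false
set_option linter.unusedSectionVars false
set_option linter.style.haveILetI false
set_option linter.deprecated false

namespace Cfsg.Agent.Lib.Helper3.Sh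

open Module Cfsg.Agent.Lib.Helper8.FP4 Cfsg.Agent.Lib.Helper6.Wd Cfsg.Agent.Lib.Helper3.HHC1

universe u v w

section cases

variable {K : Type w} [Field K] {T : Type u} [Group T] {W : Type v} [AddCommGroup W]
  [Module K W] {ρ : Representation K T W} {S R : Module.End K W} {s r : MulAut T}

theorem center_rho_comm (ρ : Representation K T W) :
    ∀ a ∈ Subgroup.center T, ∀ b ∈ Subgroup.center T, ρ a * ρ b = ρ b * ρ a := by
  intro a ha b hb
  rw [← map_mul, ← map_mul, (Subgroup.mem_center_iff.mp ha b)]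

theorem tw_s3 (h : Aut3 s r) (χ : T → K) : tw s (tw s (tw s χ)) = χ := by
  rw [← tw_mul, ← tw_mul]
  have : s * s * s = s ^ 3 := by rw [pow_succ, pow_two]
  rw [this, h.s3, tw_one]

theorem tw_ss_ne (h : Aut3 s r) (χ : T → K) (hs : tw s χ ≠ χ) : tw s (tw s χ) ≠ χ := by
  intro h1
  apply hs
  have h2 := congrArg (tw s) h1
  rw [tw_s3 h] at h2
  exact h2.symm

theorem S_mem_wt (H : Hyp3 ρ S R s r) (χ : T → K) (v : W)
    (hv : v ∈ wt (fam ρ (Subgroup.center T)) χ) :
    S v ∈ wt (fam ρ (Subgroup.center T)) (tw s χ) :=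
  map_wt ρ _ s S H.cS (center_aut s) χ v hv

theorem R_mem_wt (H : Hyp3 ρ S R s r) (χ : T → K) (v : W)
    (hv : v ∈ wt (fam ρ (Subgroup.center T)) χ) :
    R v ∈ wt (fam ρ (Subgroup.center T)) (tw r χ) :=
  map_wt ρ _ r R H.cR (center_aut r) χ v hv

theorem rho_mem_wt (ρ : Representation K T W) (χ : T → K) (g : T) (v : W)
    (hv : v ∈ wt (fam ρ (Subgroup.center T)) χ) :
    ρ g v ∈ wt (fam ρ (Subgroup.center T)) χ := by
  refine map_wt_of_commute ρ _ (ρ g) (fun z hz => ?_) χ v hv
  rw [← map_mul, ← map_mul, (Subgroup.mem_center_iff.mp hz g)]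

/-- Case II.b: a regular orbit of weights is impossible. -/
theorem tl2_caseIIb (H : Hyp3 ρ S R s r) (χ : T → K) (hs : tw s χ ≠ χ) (hr0 : tw r χ ≠ χ)
    (hr1 : tw r χ ≠ tw s χ) (hr2 : tw r χ ≠ tw s (tw s χ)) (v : W)
    (hv : v ∈ wt (fam ρ (Subgroup.center T)) χ) : v = 0 := by
  have hc := fam_commute ρ (Subgroup.center T) (center_rho_comm ρ)
  have h0 := H.A0_apply v
  have e1 := S_mem_wt H χ v hv
  have e2 := S_mem_wt H _ _ e1
  have e3 := R_mem_wt H χ v hv
  have e4 := S_mem_wt H _ _ e3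
  have e5 := S_mem_wt H _ _ e4
  have n2 : tw s (tw s χ) ≠ χ := tw_ss_ne H.aut χ hs
  have n4 : tw s (tw r χ) ≠ χ := by
    intro h1
    apply hr2
    have h2 : tw s (tw s (tw s (tw r χ))) = tw s (tw s χ) :=
      congrArg (fun ψ => tw s (tw s ψ)) h1
    rw [tw_s3 H.aut] at h2
    exact h2
  have n5 : tw s (tw s (tw r χ)) ≠ χ := by
    intro h1
    apply hr1
    have h2 := congrArg (tw s) h1
    rw [tw_s3 H.aut] at h2
    exact h2
  have hv' : v = -(S v + S (S v) + (R v + S (R v) + S (S (R v)))) := by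
    rw [eq_neg_iff_add_eq_zero, ← h0]; abel
  refine wt_isolated _ hc χ v hv ?_
  rw [hv']
  refine Submodule.neg_mem _ (Submodule.add_mem _ (Submodule.add_mem _ ?_ ?_)
    (Submodule.add_mem _ (Submodule.add_mem _ ?_ ?_) ?_))
  · exact mem_rest _ χ _ hs _ e1
  · exact mem_rest _ χ _ n2 _ e2
  · exact mem_rest _ χ _ hr0 _ e3
  · exact mem_rest _ χ _ n4 _ e4
  · exact mem_rest _ χ _ n5 _ e5

theorem coprime_six_of_pgroup [Finite T] (t : ℕ) [ht : Fact t.Prime] (ht5 : 5 ≤ t)
    (hT : IsPGroup t T) : (Nat.card T).Coprime 6 := by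
  obtain ⟨k, hk⟩ := IsPGroup.iff_card.mp hT
  rw [hk]
  apply Nat.Coprime.pow_left
  rw [Nat.Prime.coprime_iff_not_dvd ht.out]
  intro hd
  have h6 : t ≤ 6 := Nat.le_of_dvd (by norm_num) hd
  have hp := ht.out
  interval_cases t
  · norm_num at hd
  · norm_num at hp

/-- Case II.a: the weight is fixed by the reflection `r` but not by `s`. -/
theorem tl2_caseIIa [Finite T] (t : ℕ) [ht : Fact t.Prime] (ht5 : 5 ≤ t) (hT : IsPGroup t T)
    (h2K : (2 : K) ≠ 0) (H : Hyp3 ρ S R s r) (χ : T → K) (hs : tw s χ ≠ χ) (hr : tw r χ = χ)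
    (v : W) (hv : v ∈ wt (fam ρ (Subgroup.center T)) χ) (a b : T) :
    ρ a (ρ b v) = ρ b (ρ a v) := by
  have hc := fam_commute ρ (Subgroup.center T) (center_rho_comm ρ)
  have n2 : tw s (tw s χ) ≠ χ := tw_ss_ne H.aut χ hs
  -- (a) `R` acts as `-1` on the weight space
  have hRneg : ∀ u ∈ wt (fam ρ (Subgroup.center T)) χ, R u = -u := by
    intro u hu
    have hRu : R u ∈ wt (fam ρ (Subgroup.center T)) χ := by
      have := R_mem_wt H χ u hu
      rwa [hr] at this
    have hy : u + R u ∈ wt (fam ρ (Subgroup.center T)) χ := Submodule.add_mem _ hu hRu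
    have hRy : R (u + R u) = u + R u := by rw [map_add, H.R2_apply, add_comm]
    have h0 := H.A0_apply (u + R u)
    rw [hRy] at h0
    have h1 : (2 : K) • ((u + R u) + S (u + R u) + S (S (u + R u))) = 0 := by
      rw [two_smul]; exact h0
    have h3 : (u + R u) + S (u + R u) + S (S (u + R u)) = 0 := by
      rcases smul_eq_zero.mp h1 with h | h
      · exact absurd h h2K
      · exact h
    have e1 := S_mem_wt H χ _ hy
    have e2 := S_mem_wt H _ _ e1
    have hy0 : u + R u = 0 := by
      refine wt_isolated _ hc χ _ hy ?_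
      have : u + R u = -(S (u + R u) + S (S (u + R u))) := by
        rw [eq_neg_iff_add_eq_zero, ← h3]; abel
      rw [this]
      exact Submodule.neg_mem _ (Submodule.add_mem _ (mem_rest _ χ _ hs _ e1)
        (mem_rest _ χ _ n2 _ e2))
    exact (eq_neg_of_add_eq_zero_right hy0)
  -- (b) the kernel on the weight space
  let K₀ : Subgroup T :=
    { carrier := {g | ∀ u ∈ wt (fam ρ (Subgroup.center T)) χ, ρ g u = u}
      one_mem' := by intro u _; rw [map_one]; rfl
      mul_mem' := by
        intro x y hx hy u hu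
        rw [map_mul, Module.End.mul_apply, hy u hu, hx u hu]
      inv_mem' := by
        intro x hx u hu
        have h1 : ρ x⁻¹ (ρ x u) = u := by
          rw [← Module.End.mul_apply, ← map_mul, inv_mul_cancel, map_one]; rfl
        rw [hx u hu] at h1
        exact h1 }
  have hK₀mem : ∀ g, g ∈ K₀ ↔ ∀ u ∈ wt (fam ρ (Subgroup.center T)) χ, ρ g u = u :=
    fun g => Iff.rfl
  haveI hK₀n : K₀.Normal := by
    refine ⟨fun g hg x => ?_⟩
    rw [hK₀mem] at hg ⊢
    intro u hu
    rw [map_mul, map_mul, Module.End.mul_apply, Module.End.mul_apply,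
      hg _ (rho_mem_wt ρ χ x⁻¹ u hu), ← Module.End.mul_apply, ← map_mul, mul_inv_cancel, map_one]
    rfl
  have h1 : ∀ g, g⁻¹ * r g ∈ K₀ := by
    intro g
    rw [hK₀mem]
    intro u hu
    have e1 : ρ (r g) u = ρ g u := by
      have h3 := H.cR_apply g (R u)
      rw [H.R2_apply] at h3
      rw [← h3, hRneg u hu, map_neg, map_neg, hRneg _ (rho_mem_wt ρ χ g u hu), neg_neg]
    rw [map_mul, Module.End.mul_apply, e1, ← Module.End.mul_apply, ← map_mul, inv_mul_cancel,
      map_one]
    rfl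
  have hcop := coprime_six_of_pgroup t ht5 hT
  have hcomm := IIa H.aut hcop H.fpf K₀ h1 a b
  rw [hK₀mem] at hcomm
  have h3 := hcomm _ (rho_mem_wt ρ χ (b * a) v hv)
  rw [← Module.End.mul_apply, ← map_mul] at h3
  have h4 : a * b * a⁻¹ * b⁻¹ * (b * a) = a * b := by group
  rw [h4, map_mul, map_mul] at h3
  exact h3

/-- Case I.b: the weight is fixed by `s` but not by `r`. -/
theorem tl2_caseIb [Finite T] [IsAlgClosed K] [FiniteDimensional K W] (t : ℕ) [ht : Fact t.Prime]
    (ht5 : 5 ≤ t) (hT : IsPGroup t T) (htK : (t : K) ≠ 0)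
    (h3K : (3 : K) ≠ 0) (H : Hyp3 ρ S R s r) (χ : T → K) (hs : tw s χ = χ) (hr : tw r χ ≠ χ)
    (v : W) (hv : v ∈ wt (fam ρ (Subgroup.center T)) χ) (a b : T) :
    ρ a (ρ b v) = ρ b (ρ a v) := by
  have hc := fam_commute ρ (Subgroup.center T) (center_rho_comm ρ)
  have hSW : ∀ u ∈ wt (fam ρ (Subgroup.center T)) χ, S u ∈ wt (fam ρ (Subgroup.center T)) χ := by
    intro u hu
    have := S_mem_wt H χ u hu
    rwa [hs] at this
  have hSSW : ∀ u ∈ wt (fam ρ (Subgroup.center T)) χ,
      (S * S) u ∈ wt (fam ρ (Subgroup.center T)) χ := fun u hu => hSW _ (hSW u hu)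
  have hρW : ∀ g, ∀ u ∈ wt (fam ρ (Subgroup.center T)) χ,
      ρ g u ∈ wt (fam ρ (Subgroup.center T)) χ := fun g u hu => rho_mem_wt ρ χ g u hu
  -- (a) no fixed vectors of `S`
  have hnofix : ∀ u ∈ wt (fam ρ (Subgroup.center T)) χ, S u = u → u = 0 := by
    intro u hu hSu
    have h0 := H.A0_apply u
    have hSR : S (R u) = R u := by rw [H.SR_apply, hSu, hSu]
    rw [hSu, hSu, hSR, hSR] at h0
    have h1 : (3 : K) • (u + R u) = 0 := by
      have : (3 : K) • (u + R u) = u + u + u + (R u + R u + R u) := by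
        rw [show (3 : K) = 1 + 1 + 1 by norm_num, add_smul, add_smul, one_smul]; abel
      rw [this]; exact h0
    have h3 : u + R u = 0 := by
      rcases smul_eq_zero.mp h1 with h | h
      · exact absurd h h3K
      · exact h
    refine wt_isolated _ hc χ u hu ?_
    have : u = -(R u) := eq_neg_of_add_eq_zero_left h3
    rw [this]
    exact Submodule.neg_mem _ (mem_rest _ χ _ hr _ (R_mem_wt H χ u hu))
  -- (b) the norm vanishes
  have hnorm : ∀ u ∈ wt (fam ρ (Subgroup.center T)) χ, u + S u + S (S u) = 0 := by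
    intro u hu
    apply hnofix _ (Submodule.add_mem _ (Submodule.add_mem _ hu (hSW u hu)) (hSW _ (hSW u hu)))
    rw [map_add, map_add, H.S3_apply]; abel
  -- (c) non-modular Hall–Higman
  haveI : Fact (Nat.Prime 3) := ⟨Nat.prime_three⟩
  have h3t : (3 : ℕ) ≠ t := by omega
  have hex : ∀ m : ℕ, (3 : ℕ) ≠ t ^ m + 1 := by
    intro m hm
    rcases Nat.eq_zero_or_pos m with h | h
    · rw [h, pow_zero] at hm; omega
    · have : t ≤ t ^ m := by
        calc t = t ^ 1 := (pow_one t).symm
          _ ≤ t ^ m := Nat.pow_le_pow_right (by omega) h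
      omega
  have h3K' : ((3 : ℕ) : K) ≠ 0 := by exact_mod_cast h3K
  have hNM := nm_main 3 t h3t hex h3K' htK _ T (wt (fam ρ (Subgroup.center T)) χ)
    (resRep ρ _ hρW) (S.restrict hSW) ((S * S).restrict hSSW) s rfl
  have g1 : (S.restrict hSW : Module.End K (wt (fam ρ (Subgroup.center T)) χ))
      * (S * S).restrict hSSW = 1 := by
    refine LinearMap.ext (fun w => Subtype.ext ?_)
    show S ((S * S) (w : W)) = (w : W)
    rw [Module.End.mul_apply, H.S3_apply]
  have g2 : ((S * S).restrict hSSW : Module.End K (wt (fam ρ (Subgroup.center T)) χ))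
      * S.restrict hSW = 1 := by
    refine LinearMap.ext (fun w => Subtype.ext ?_)
    show (S * S) (S (w : W)) = (w : W)
    rw [Module.End.mul_apply, H.S3_apply]
  have g3 : ∀ g, (S.restrict hSW : Module.End K (wt (fam ρ (Subgroup.center T)) χ))
      * resRep ρ _ hρW g = resRep ρ _ hρW (s g) * S.restrict hSW := by
    intro g
    refine LinearMap.ext (fun w => Subtype.ext ?_)
    show S (ρ g (w : W)) = ρ (s g) (S (w : W))
    exact H.cS_apply g w
  have g4 : (S.restrict hSW : Module.End K (wt (fam ρ (Subgroup.center T)) χ)) ^ 3 = 1 := by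
    refine LinearMap.ext (fun w => Subtype.ext ?_)
    rw [restrict_pow_coe]
    have : S ^ 3 = S * S * S := by rw [pow_succ, pow_two]
    rw [this, H.S3]; rfl
  have g5 : (∑ i ∈ Finset.range 3,
      (S.restrict hSW : Module.End K (wt (fam ρ (Subgroup.center T)) χ)) ^ i) = 0 := by
    refine LinearMap.ext (fun w => Subtype.ext ?_)
    rw [Finset.sum_range_succ, Finset.sum_range_succ, Finset.sum_range_one]
    simp only [LinearMap.add_apply, Submodule.coe_add, restrict_pow_coe, pow_zero, pow_one,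
      Module.End.one_apply, LinearMap.zero_apply, Submodule.coe_zero]
    have := hnorm (w : W) w.2
    rw [pow_two, Module.End.mul_apply]
    exact this
  have hfix := hNM hT g1 g2 g3 g4 g5
  have hfix' : ∀ g, ∀ u ∈ wt (fam ρ (Subgroup.center T)) χ, ρ (s g) u = ρ g u := by
    intro g u hu
    have := congrArg (fun A : Module.End K (wt (fam ρ (Subgroup.center T)) χ) =>
      ((A ⟨u, hu⟩ : wt (fam ρ (Subgroup.center T)) χ) : W)) (hfix g)
    exact this
  -- (d) the kernel on the weight space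
  let NW : Subgroup T :=
    { carrier := {g | ∀ u ∈ wt (fam ρ (Subgroup.center T)) χ, ρ g u = u}
      one_mem' := by intro u _; rw [map_one]; rfl
      mul_mem' := by
        intro x y hx hy u hu
        rw [map_mul, Module.End.mul_apply, hy u hu, hx u hu]
      inv_mem' := by
        intro x hx u hu
        have h1 : ρ x⁻¹ (ρ x u) = u := by
          rw [← Module.End.mul_apply, ← map_mul, inv_mul_cancel, map_one]; rfl
        rw [hx u hu] at h1
        exact h1 }
  have hNWmem : ∀ g, g ∈ NW ↔ ∀ u ∈ wt (fam ρ (Subgroup.center T)) χ, ρ g u = u :=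
    fun g => Iff.rfl
  have hInv : Inv s NW := by
    intro g hg
    rw [hNWmem] at hg ⊢
    intro u hu
    rw [hfix' g u hu, hg u hu]
  have hmem : ∀ g, g⁻¹ * s g ∈ NW := by
    intro g
    rw [hNWmem]
    intro u hu
    rw [map_mul, Module.End.mul_apply, hfix' g u hu, ← Module.End.mul_apply, ← map_mul,
      inv_mul_cancel, map_one]
    rfl
  have hcop := coprime_six_of_pgroup t ht5 hT
  have h3N : ¬ 3 ∣ Nat.card NW := not_dvd_card_of_coprime hcop NW 3 (by norm_num) (by norm_num)
  obtain ⟨na, hna, hfa⟩ := exists_fixed_in_coset (p := 3) s H.aut.s3 NW hInv h3N a (hmem a)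
  obtain ⟨nb, hnb, hfb⟩ := exists_fixed_in_coset (p := 3) s H.aut.s3 NW hInv h3N b (hmem b)
  have hcomm := fix_s_comm H.aut H.fpf (a * na) (b * nb) hfa hfb
  have ea : ∀ u ∈ wt (fam ρ (Subgroup.center T)) χ, ρ (a * na) u = ρ a u := by
    intro u hu
    rw [map_mul, Module.End.mul_apply, hna u hu]
  have eb : ∀ u ∈ wt (fam ρ (Subgroup.center T)) χ, ρ (b * nb) u = ρ b u := by
    intro u hu
    rw [map_mul, Module.End.mul_apply, hnb u hu]
  calc ρ a (ρ b v) = ρ (a * na) (ρ (b * nb) v) := by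
        rw [eb v hv, ea _ (hρW b v hv)]
    _ = ρ ((a * na) * (b * nb)) v := by
        rw [map_mul ρ (a * na) (b * nb), Module.End.mul_apply]
    _ = ρ ((b * nb) * (a * na)) v := by rw [hcomm]
    _ = ρ (b * nb) (ρ (a * na) v) := by
        rw [map_mul ρ (b * nb) (a * na), Module.End.mul_apply]
    _ = ρ b (ρ a v) := by rw [ea v hv, eb _ (hρW a v hv)]

end cases

end Cfsg.Agent.Lib.Helper3.Sh
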