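import Mathlib
import Cfsg.Agent.Lib.Helper3.HHC1
import Cfsg.Agent.Lib.Helper3.ShK

/-!
# Shult-type theorem, part L: a `t`-group with a fixed-point-free action of `S₃` acts as an
abelian group on every module on which `S₃` has no fixed vectors (`TL2`).
-/

set_option autoImplicit false
set_option maxHeartbeats 4000000
set_option maxRecDepth 100000
set_option linter.unusedVariables false
set_option linter.unusedSectionVars false
set_option linter.style.haveILetI false
set_option linter.deprecated false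

namespace Cfsg.Agent.Lib.Helper3.Sh

open Module Cfsg.Agent.Lib.Helper8.FP4 Cfsg.Agent.Lib.Helper6.Wd Cfsg.Agent.Lib.Helper3.HHC1

universe u v w

section

variable {K : Type w} [Field K] {T : Type u} [Group T] {W : Type v} [AddCommGroup W]
  [Module K W] {ρ : Representation K T W} {S R : Module.End K W} {s r : MulAut T}

/-- Case I.a: an invariant weight is trivial. -/
theorem tl2_caseIa [Finite T] (t : ℕ) [ht : Fact t.Prime] (ht5 : 5 ≤ t) (hT : IsPGroup t T)
    (H : Hyp3 ρ S R s r) (χ : T → K) (hs : tw s χ = χ) (hr : tw r χ = χ) (v : W)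
    (hv : v ∈ wt (fam ρ (Subgroup.center T)) χ) (hv0 : v ≠ 0) :
    ∀ z ∈ Subgroup.center T, χ z = 1 := by
  intro z hz
  have hsz : s z ∈ Subgroup.center T := (center_aut s z).mp hz
  have hssz : s (s z) ∈ Subgroup.center T := (center_aut s _).mp hsz
  have hy : z * s z * s (s z) ∈ Subgroup.center T :=
    Subgroup.mul_mem _ (Subgroup.mul_mem _ hz hsz) hssz
  have hry : r (z * s z * s (s z)) ∈ Subgroup.center T := (center_aut r _).mp hy
  have hcomm : ∀ x ∈ Subgroup.center T, ∀ y : T, x * y = y * x :=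
    fun x hx y => ((Subgroup.mem_center_iff.mp hx) y).symm
  have hsy : s (z * s z * s (s z)) = z * s z * s (s z) := by
    rw [map_mul, map_mul, H.aut.s3_apply, ← hcomm z hz (s z * s (s z)), ← mul_assoc]
  have hχy : χ (z * s z * s (s z)) = χ z ^ 3 := by
    rw [chi_mul ρ _ χ v hv hv0 _ _ (Subgroup.mul_mem _ hz hsz) hssz,
      chi_mul ρ _ χ v hv hv0 _ _ hz hsz, tw_apply_self s χ hs, tw_apply_self s χ hs,
      tw_apply_self s χ hs]
    ring
  have hy1 : (z * s z * s (s z)) * r (z * s z * s (s z)) = 1 := by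
    apply H.fpf
    · rw [map_mul, hsy, H.aut.sr_apply, hsy, hsy]
    · rw [map_mul, H.aut.r2_apply, hcomm _ hry]
  have h6 : χ z ^ 6 = 1 := by
    have h1 := chi_mul ρ _ χ v hv hv0 _ _ hy hry
    rw [hy1, chi_one ρ _ χ v hv hv0, tw_apply_self r χ hr, hχy] at h1
    rw [h1]; ring
  obtain ⟨k, hk⟩ := hT z
  have htk : χ z ^ (t ^ k) = 1 := by
    rw [← chi_pow ρ _ χ v hv hv0 z hz, hk, chi_one ρ _ χ v hv hv0]
  have hcop : Nat.Coprime 6 (t ^ k) := by
    apply Nat.Coprime.pow_right
    rw [Nat.coprime_comm, Nat.Prime.coprime_iff_not_dvd ht.out]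
    intro hd
    have h6' : t ≤ 6 := Nat.le_of_dvd (by norm_num) hd
    have hp := ht.out
    interval_cases t
    · norm_num at hd
    · norm_num at hp
  exact eq_one_of_pow_coprime (χ z) 6 (t ^ k) hcop h6 htk

/-- The inductive step: passing to the quotient by the centre, acting on its fixed space. -/
theorem tl2_quot [Finite T] (t : ℕ) [ht : Fact t.Prime] (ht5 : 5 ≤ t)
    (IH : ∀ (T' : Type u) [Group T'] [Finite T'] (W' : Type v) [AddCommGroup W'] [Module K W']
      [FiniteDimensional K W'] (ρ' : Representation K T' W') (S' R' : Module.End K W')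
      (s' r' : MulAut T'), Nat.card T' < Nat.card T → IsPGroup t T' → Hyp3 ρ' S' R' s' r' →
      ∀ a b : T', ρ' a * ρ' b = ρ' b * ρ' a)
    [FiniteDimensional K W] (hT : IsPGroup t T) (H : Hyp3 ρ S R s r) (v : W)
    (hv : ∀ z ∈ Subgroup.center T, ρ z v = v) (a b : T) : ρ a (ρ b v) = ρ b (ρ a v) := by
  rcases subsingleton_or_nontrivial T with hsub | hnt
  · rw [Subsingleton.elim a b]
  haveI := hnt
  have hZnt : Nontrivial (Subgroup.center T) := hT.center_nontrivial
  have hZne : Subgroup.center T ≠ ⊥ := (Subgroup.nontrivial_iff_ne_bot _).mp hZnt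
  let W₁ : Submodule K W :=
    { carrier := {w | ∀ z ∈ Subgroup.center T, ρ z w = w}
      add_mem' := by
        intro x y hx hy z hz
        rw [map_add, hx z hz, hy z hz]
      zero_mem' := by intro z _; rw [map_zero]
      smul_mem' := by
        intro c x hx z hz
        rw [map_smul, hx z hz] }
  have hW₁mem : ∀ w, w ∈ W₁ ↔ ∀ z ∈ Subgroup.center T, ρ z w = w := fun w => Iff.rfl
  have hρW₁ : ∀ g, ∀ w ∈ W₁, ρ g w ∈ W₁ := by
    intro g w hw
    rw [hW₁mem] at hw ⊢
    intro z hz
    have hcomm : z * g = g * z := ((Subgroup.mem_center_iff.mp hz) g).symm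
    calc ρ z (ρ g w) = ρ (z * g) w := by rw [map_mul]; rfl
      _ = ρ (g * z) w := by rw [hcomm]
      _ = ρ g (ρ z w) := by rw [map_mul]; rfl
      _ = ρ g w := by rw [hw z hz]
  have hSW₁ : ∀ w ∈ W₁, S w ∈ W₁ := by
    intro w hw
    rw [hW₁mem] at hw ⊢
    intro z hz
    have hz' : s⁻¹ z ∈ Subgroup.center T := by
      rw [center_aut s, MulAut.apply_inv_self]; exact hz
    have h1 := H.cS_apply (s⁻¹ z) w
    rw [MulAut.apply_inv_self, hw _ hz'] at h1
    exact h1.symm
  have hRW₁ : ∀ w ∈ W₁, R w ∈ W₁ := by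
    intro w hw
    rw [hW₁mem] at hw ⊢
    intro z hz
    have hz' : r⁻¹ z ∈ Subgroup.center T := by
      rw [center_aut r, MulAut.apply_inv_self]; exact hz
    have h1 := H.cR_apply (r⁻¹ z) w
    rw [MulAut.apply_inv_self, hw _ hz'] at h1
    exact h1.symm
  have hker : Subgroup.center T ≤ (resRep ρ W₁ hρW₁).ker := by
    intro z hz
    rw [MonoidHom.mem_ker]
    refine LinearMap.ext (fun w => Subtype.ext ?_)
    rw [resRep_coe]
    exact w.2 z hz
  obtain ⟨ρq, hρq⟩ : ∃ ρq : Representation K (T ⧸ Subgroup.center T) W₁,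
      ρq = QuotientGroup.lift (Subgroup.center T) (resRep ρ W₁ hρW₁) hker := ⟨_, rfl⟩
  have hρq_mk : ∀ g : T, ρq (g : T ⧸ Subgroup.center T) = resRep ρ W₁ hρW₁ g := by
    intro g; rw [hρq]; exact QuotientGroup.lift_mk _ _ g
  have hInvs : Inv s (Subgroup.center T) := fun z hz => (center_aut s z).mp hz
  have hInvr : Inv r (Subgroup.center T) := fun z hz => (center_aut r z).mp hz
  have hcop := coprime_six_of_pgroup t ht5 hT
  have H' : Hyp3 ρq (S.restrict hSW₁) (R.restrict hRW₁)
      (quotAut s (Subgroup.center T) hInvs) (quotAut r (Subgroup.center T) hInvr) :=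
    { aut := H.aut.quot _ hInvs hInvr
      S3 := by
        refine LinearMap.ext (fun w => Subtype.ext ?_)
        show S (S (S (w : W))) = (w : W)
        exact H.S3_apply _
      R2 := by
        refine LinearMap.ext (fun w => Subtype.ext ?_)
        show R (R (w : W)) = (w : W)
        exact H.R2_apply _
      RS := by
        refine LinearMap.ext (fun w => Subtype.ext ?_)
        show R (S (w : W)) = S (S (R (w : W)))
        exact H.RS_apply _
      cS := by
        intro x
        refine QuotientGroup.induction_on x (fun g => ?_)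
        rw [quotAut_mk, hρq_mk, hρq_mk]
        refine LinearMap.ext (fun w => Subtype.ext ?_)
        show S (ρ g (w : W)) = ρ (s g) (S (w : W))
        exact H.cS_apply g _
      cR := by
        intro x
        refine QuotientGroup.induction_on x (fun g => ?_)
        rw [quotAut_mk, hρq_mk, hρq_mk]
        refine LinearMap.ext (fun w => Subtype.ext ?_)
        show R (ρ g (w : W)) = ρ (r g) (R (w : W))
        exact H.cR_apply g _
      fpf := by
        intro x
        refine QuotientGroup.induction_on x (fun g => ?_)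
        intro hs hr
        rw [quotAut_mk] at hs hr
        have e1 : g⁻¹ * s g ∈ Subgroup.center T := QuotientGroup.eq.mp hs.symm
        have e2 : g⁻¹ * r g ∈ Subgroup.center T := QuotientGroup.eq.mp hr.symm
        exact (QuotientGroup.eq_one_iff g).mpr
          (lift2 H.aut hcop H.fpf _ hInvs hInvr g e1 e2)
      A0 := by
        refine LinearMap.ext (fun w => Subtype.ext ?_)
        have h0 := H.A0_apply (w : W)
        simp only [Module.End.mul_apply, LinearMap.add_apply, Module.End.one_apply,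
          LinearMap.zero_apply, map_add, Submodule.coe_add, LinearMap.restrict_coe_apply,
          Submodule.coe_zero]
        rw [← h0] }
  have hcard : Nat.card (T ⧸ Subgroup.center T) < Nat.card T := by
    have h1 := Subgroup.card_eq_card_quotient_mul_card_subgroup (Subgroup.center T)
    have h2 : 1 < Nat.card (Subgroup.center T) := (Subgroup.one_lt_card_iff_ne_bot _).mpr hZne
    have h3 : 0 < Nat.card (T ⧸ Subgroup.center T) := Nat.card_pos
    nlinarith
  have hres := IH (T ⧸ Subgroup.center T) W₁ ρq (S.restrict hSW₁) (R.restrict hRW₁) _ _ hcard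
    (hT.to_quotient _) H' (a : T ⧸ Subgroup.center T) (b : T ⧸ Subgroup.center T)
  rw [hρq_mk, hρq_mk] at hres
  have := congrArg (fun A : Module.End K W₁ => ((A ⟨v, hv⟩ : W₁) : W)) hres
  exact this

end

/-- **TL2**: the image of the `t`-group is commutative. -/
theorem TL2 (t : ℕ) [ht : Fact t.Prime] (ht5 : 5 ≤ t) {K : Type w} [Field K] [IsAlgClosed K]
    (htK : (t : K) ≠ 0) (h2K : (2 : K) ≠ 0) (h3K : (3 : K) ≠ 0) :
    ∀ (n : ℕ) (T : Type u) [Group T] [Finite T] (W : Type v) [AddCommGroup W] [Module K W]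
      [FiniteDimensional K W] (ρ : Representation K T W) (S R : Module.End K W)
      (s r : MulAut T), Nat.card T = n → IsPGroup t T → Hyp3 ρ S R s r →
      ∀ a b : T, ρ a * ρ b = ρ b * ρ a := by
  intro n
  induction n using Nat.strong_induction_on with
  | _ n IH =>
  intro T _ _ W _ _ _ ρ S R s r hn hT H a b
  have hc := fam_commute ρ (Subgroup.center T) (center_rho_comm ρ)
  have hcardN : (Nat.card (Subgroup.center T) : K) ≠ 0 := by
    obtain ⟨k, hk⟩ := IsPGroup.iff_card.mp (hT.to_subgroup (Subgroup.center T))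
    rw [hk, Nat.cast_pow]
    exact pow_ne_zero _ htK
  have hs := fam_semisimple ρ (Subgroup.center T) hcardN
  refine ext_wt (fam ρ (Subgroup.center T)) hc hs _ _ (fun χ v hv => ?_)
  show ρ a (ρ b v) = ρ b (ρ a v)
  by_cases hv0 : v = 0
  · rw [hv0, map_zero, map_zero, map_zero]
  by_cases hsχ : tw s χ = χ
  · by_cases hrχ : tw r χ = χ
    · have hz := tl2_caseIa t ht5 hT H χ hsχ hrχ v hv hv0
      have hv1 : ∀ z ∈ Subgroup.center T, ρ z v = v := by
        intro z hz'
        rw [chi_apply ρ _ χ v hv z hz', hz z hz', one_smul]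
      exact tl2_quot t ht5
        (fun T' _ _ W' _ _ _ ρ' S' R' s' r' hlt hT' H' =>
          IH (Nat.card T') (by omega) T' W' ρ' S' R' s' r' rfl hT' H') hT H v hv1 a b
    · exact tl2_caseIb t ht5 hT htK h3K H χ hsχ hrχ v hv a b
  · by_cases h0 : tw r χ = χ
    · exact tl2_caseIIa t ht5 hT h2K H χ hsχ h0 v hv a b
    by_cases h1 : tw r χ = tw s χ
    · have e : tw (s ^ 2 * r) χ = χ := by
        rw [tw_mul, h1, pow_two, tw_mul, tw_s3 H.aut]
      exact tl2_caseIIa t ht5 hT h2K H.twist χ hsχ e v hv a b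
    by_cases h2 : tw r χ = tw s (tw s χ)
    · have e : tw (s ^ 2 * (s ^ 2 * r)) χ = χ := by
        rw [tw_mul, tw_mul, h2, pow_two, tw_mul, tw_mul, tw_s3 H.aut, tw_s3 H.aut]
      exact tl2_caseIIa t ht5 hT h2K H.twist.twist χ hsχ e v hv a b
    · exact absurd (tl2_caseIIb H χ hsχ h0 h1 h2 v hv) hv0

end Cfsg.Agent.Lib.Helper3.Sh
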