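import Mathlib
import Cfsg.Agent.Lib.Helper3.ShK

/-!
# Shult-type theorem, part M: an abelian normal `t`-subgroup `Q` and elements fixed by `s`.
-/

set_option autoImplicit false
set_option maxHeartbeats 4000000
set_option maxRecDepth 100000
set_option linter.unusedVariables false
set_option linter.unusedSectionVars false
set_option linter.style.haveILetI false
set_option linter.deprecated false

namespace Cfsg.Agent.Lib.Helper3.Sh

open Module Cfsg.Agent.Lib.Helper8.FP4 Cfsg.Agent.Lib.Helper6.Wd Cfsg.Agent.Lib.Helper3.HHC1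

universe u v w

section parts

variable {G : Type u} [Group G] {s r : MulAut G}

/-- If `z` commutes with the `s`-fixed elements of the abelian `s`-invariant subgroup `A` and
with all `y⁻¹ s(y)`, `y ∈ A`, then it commutes with every element of `A` of order prime to 3. -/
theorem comm_of_parts (h : Aut3 s r) (A : Subgroup G)
    (hAc : ∀ a ∈ A, ∀ b ∈ A, a * b = b * a) (hsA : Inv s A) (x : G) (hx : x ∈ A)
    (hx3 : Nat.Coprime 3 (orderOf x)) (z : G)
    (h0 : ∀ n ∈ A, s n = n → z * n = n * z)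
    (h1 : ∀ y ∈ A, z * (y⁻¹ * s y) = (y⁻¹ * s y) * z) : z * x = x * z := by
  have hsx : s x ∈ A := hsA x hx
  have hssx : s (s x) ∈ A := hsA _ hsx
  have hn : s (x * s x * s (s x)) = x * s x * s (s x) := by
    rw [map_mul, map_mul, h.s3_apply, hAc _ (A.mul_mem hsx hssx) x hx, mul_assoc]
  have c0 : Commute z (x * s x * s (s x)) := h0 _ (A.mul_mem (A.mul_mem hx hsx) hssx) hn
  have c1 : Commute z (x⁻¹ * s x) := h1 x hx
  have c2 : Commute z ((s (s x))⁻¹ * x) := by
    have := h1 (s (s x)) hssx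
    rw [h.s3_apply] at this
    exact this
  have hcube : x ^ 3 = (x * s x * s (s x)) * (x⁻¹ * s x)⁻¹ * ((s (s x))⁻¹ * x) := by
    have e1 : s (s x) * (s x)⁻¹ = (s x)⁻¹ * s (s x) := hAc _ hssx _ (A.inv_mem hsx)
    have e2 : s (s x) * x = x * s (s x) := hAc _ hssx _ hx
    calc x ^ 3 = x * x * x := by rw [pow_succ, pow_two]
      _ = x * (x * s (s x)) * (s (s x))⁻¹ * x := by group
      _ = x * (s (s x) * x) * (s (s x))⁻¹ * x := by rw [e2]
      _ = x * s x * ((s x)⁻¹ * s (s x)) * x * (s (s x))⁻¹ * x := by group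
      _ = x * s x * (s (s x) * (s x)⁻¹) * x * (s (s x))⁻¹ * x := by rw [e1]
      _ = (x * s x * s (s x)) * (x⁻¹ * s x)⁻¹ * ((s (s x))⁻¹ * x) := by group
  have c3 : Commute z (x ^ 3) := by
    rw [hcube]
    exact (c0.mul_right c1.inv_right).mul_right c2
  obtain ⟨m, hm⟩ := exists_pow_eq_self_of_coprime hx3
  have c4 : Commute z ((x ^ 3) ^ m) := c3.pow_right m
  rw [hm] at c4
  exact c4.eq

theorem coprime_three_orderOf [Finite G] (hcop : (Nat.card G).Coprime 6) (x : G) :
    Nat.Coprime 3 (orderOf x) := by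
  have h3 : orderOf x ∣ Nat.card G := orderOf_dvd_natCard x
  exact Nat.Coprime.symm (Nat.Coprime.coprime_dvd_left h3
    (Nat.Coprime.coprime_dvd_right (by norm_num : 3 ∣ 6) hcop))

end parts

section case0

variable {K : Type w} [Field K] {G : Type u} [Group G] {W : Type v} [AddCommGroup W]
  [Module K W] {ρ : Representation K G W} {S R : Module.End K W} {s r : MulAut G}

theorem conj_compat (ρ : Representation K G W) (x g : G) :
    ρ x * ρ g = ρ (MulAut.conj x g) * ρ x := by
  rw [MulAut.conj_apply, ← map_mul, ← map_mul, inv_mul_cancel_right]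

theorem normal_conj_iff (Q : Subgroup G) [hQ : Q.Normal] (x g : G) :
    g ∈ Q ↔ MulAut.conj x g ∈ Q := by
  rw [MulAut.conj_apply]
  constructor
  · intro hg; exact hQ.conj_mem g hg x
  · intro hg
    have := hQ.conj_mem _ hg x⁻¹
    have e : x⁻¹ * (x * g * x⁻¹) * x⁻¹⁻¹ = g := by group
    rwa [e] at this

theorem rho_conj_mem_wt (ρ : Representation K G W) (Q : Subgroup G) [Q.Normal] (x : G)
    (χ : G → K) (v : W) (hv : v ∈ wt (fam ρ Q) χ) :
    ρ x v ∈ wt (fam ρ Q) (tw (MulAut.conj x) χ) :=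
  map_wt ρ Q (MulAut.conj x) (ρ x) (conj_compat ρ x) (normal_conj_iff Q x) χ v hv

theorem S_mem_wtQ (H : Hyp3 ρ S R s r) (Q : Subgroup G) (hsQ : Inv s Q) [Finite G] (χ : G → K)
    (v : W) (hv : v ∈ wt (fam ρ Q) χ) : S v ∈ wt (fam ρ Q) (tw s χ) := by
  refine map_wt ρ Q s S H.cS (fun g => ?_) χ v hv
  exact (Inv.apply_mem_iff hsQ g).symm

theorem rho_ne_zero (ρ : Representation K G W) (x : G) (v : W) (hv : v ≠ 0) : ρ x v ≠ 0 := by
  intro h0
  apply hv
  have : ρ x⁻¹ (ρ x v) = v := by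
    rw [← Module.End.mul_apply, ← map_mul, inv_mul_cancel, map_one]; rfl
  rw [← this, h0, map_zero]

theorem s_conj_comm (x : G) (hx : s x = x) : s * MulAut.conj x = MulAut.conj x * s := by
  ext g
  simp only [MulAut.mul_apply, MulAut.conj_apply]
  rw [map_mul, map_mul, map_inv, hx]

/-- An `s`-fixed element `q` of `Q` acting nontrivially on a weight space forces the weight
to be `s`-invariant. -/
theorem tw_s_eq_of_fixed [Finite G] (H : Hyp3 ρ S R s r)
    (hσ : ∀ g, s g = g → ∀ v, S v = v → ρ g v = v) (Q : Subgroup G)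
    (hQc : ∀ a ∈ Q, ∀ b ∈ Q, ρ a * ρ b = ρ b * ρ a) (hsQ : Inv s Q) (χ : G → K) (v : W)
    (hv : v ∈ wt (fam ρ Q) χ) (hv0 : v ≠ 0) (q : G) (hq : q ∈ Q) (hsq : s q = q)
    (hχq : χ q ≠ 1) : tw s χ = χ := by
  by_contra hne
  have hc := fam_commute ρ Q hQc
  have e1 := S_mem_wtQ H Q hsQ χ v hv
  have e2 := S_mem_wtQ H Q hsQ _ _ e1
  have hSw : S (v + S v + S (S v)) = v + S v + S (S v) := by
    rw [map_add, map_add, H.S3_apply]; abel
  have h1 := hσ q hsq _ hSw
  have hqS : ∀ u, ρ q (S u) = S (ρ q u) := by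
    intro u
    have := H.cS_apply q u
    rw [hsq] at this
    exact this.symm
  rw [map_add, map_add, hqS, hqS, hqS, chi_apply ρ Q χ v hv q hq, map_smul, map_smul] at h1
  have h2 : (χ q - 1) • (v + S v + S (S v)) = 0 := by
    rw [sub_smul, one_smul, smul_add, smul_add, h1, sub_self]
  have h3 : v + S v + S (S v) = 0 := by
    rcases smul_eq_zero.mp h2 with h | h
    · exact absurd (sub_eq_zero.mp h) hχq
    · exact h
  apply hv0
  refine wt_isolated _ hc χ v hv ?_
  have : v = -(S v + S (S v)) := by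
    rw [eq_neg_iff_add_eq_zero, ← h3]; abel
  rw [this]
  exact Submodule.neg_mem _ (Submodule.add_mem _ (mem_rest _ χ _ hne _ e1)
    (mem_rest _ χ _ (tw_ss_ne H.aut χ hne) _ e2))

/-- An `s`-fixed element of order prime to 3 commutes with `q⁻¹ s(q)` for `q ∈ Q`. -/
theorem tlab_case0_aux [Finite G] [IsAlgClosed K] [FiniteDimensional K W]
    (H : Hyp3 ρ S R s r) (hρ : Function.Injective ρ)
    (hσ : ∀ g, s g = g → ∀ v, S v = v → ρ g v = v) (Q : Subgroup G) [hQn : Q.Normal]
    (hQc : ∀ a ∈ Q, ∀ b ∈ Q, a * b = b * a) (hsQ : Inv s Q) (hcardQ : (Nat.card Q : K) ≠ 0)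
    (x : G) (hx : s x = x) (hx3 : Nat.Coprime 3 (orderOf x)) (q' : G) (hq' : q' ∈ Q) :
    x * (q'⁻¹ * s q') = (q'⁻¹ * s q') * x := by
  have hQc' : ∀ a ∈ Q, ∀ b ∈ Q, ρ a * ρ b = ρ b * ρ a := by
    intro a ha b hb
    rw [← map_mul, ← map_mul, hQc a ha b hb]
  have hc := fam_commute ρ Q hQc'
  have hs := fam_semisimple ρ Q hcardQ
  have hy : q'⁻¹ * s q' ∈ Q := Q.mul_mem (Q.inv_mem hq') (hsQ q' hq')
  apply hρ
  rw [map_mul ρ x (q'⁻¹ * s q'), map_mul ρ (q'⁻¹ * s q') x]
  refine ext_wt (fam ρ Q) hc hs _ _ (fun χ v hv => ?_)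
  show ρ x (ρ (q'⁻¹ * s q') v) = ρ (q'⁻¹ * s q') (ρ x v)
  by_cases hv0 : v = 0
  · rw [hv0, map_zero, map_zero, map_zero]
  have hxv := rho_conj_mem_wt ρ Q x χ v hv
  have hxv0 := rho_ne_zero ρ x v hv0
  have hχy : ∀ (χ' : G → K) (v' : W), v' ∈ wt (fam ρ Q) χ' → v' ≠ 0 → tw s χ' = χ' →
      χ' (q'⁻¹ * s q') = 1 := by
    intro χ' v' hv' hv'0 hs'
    rw [chi_mul ρ Q χ' v' hv' hv'0 _ _ (Q.inv_mem hq') (hsQ q' hq'), tw_apply_self s χ' hs',
      chi_inv ρ Q χ' v' hv' hv'0 q' hq']
  by_cases hsχ : tw s χ = χ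
  · have hsχx : tw s (tw (MulAut.conj x) χ) = tw (MulAut.conj x) χ := by
      rw [← tw_mul, s_conj_comm x hx, tw_mul, hsχ]
    rw [chi_apply ρ Q χ v hv _ hy, hχy χ v hv hv0 hsχ, one_smul,
      chi_apply ρ Q _ _ hxv _ hy, hχy _ _ hxv hxv0 hsχx, one_smul]
  · -- `ρ x v = v`
    have e1 := S_mem_wtQ H Q hsQ χ v hv
    have e2 := S_mem_wtQ H Q hsQ _ _ e1
    have n2 := tw_ss_ne H.aut χ hsχ
    have hSw : S (v + S v + S (S v)) = v + S v + S (S v) := by
      rw [map_add, map_add, H.S3_apply]; abel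
    have h1 := hσ x hx _ hSw
    have hxS : ∀ u, ρ x (S u) = S (ρ x u) := by
      intro u
      have := H.cS_apply x u
      rw [hx] at this
      exact this.symm
    rw [map_add, map_add, hxS, hxS, hxS] at h1
    have hfix : ρ x v = v := by
      by_cases hχx : tw (MulAut.conj x) χ = χ
      · rw [hχx] at hxv
        have hu : ρ x v - v ∈ wt (fam ρ Q) χ := Submodule.sub_mem _ hxv hv
        have h3 : (ρ x v - v) + S (ρ x v - v) + S (S (ρ x v - v)) = 0 := by
          rw [map_sub, map_sub]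
          have : ρ x v - v + (S (ρ x v) - S v) + (S (S (ρ x v)) - S (S v))
              = (ρ x v + S (ρ x v) + S (S (ρ x v))) - (v + S v + S (S v)) := by abel
          rw [this, h1, sub_self]
        have f1 := S_mem_wtQ H Q hsQ χ _ hu
        have f2 := S_mem_wtQ H Q hsQ _ _ f1
        have hu0 : ρ x v - v = 0 := by
          refine wt_isolated _ hc χ _ hu ?_
          have : ρ x v - v = -(S (ρ x v - v) + S (S (ρ x v - v))) := by
            rw [eq_neg_iff_add_eq_zero, ← h3]; abel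
          rw [this]
          exact Submodule.neg_mem _ (Submodule.add_mem _ (mem_rest _ χ _ hsχ _ f1)
            (mem_rest _ χ _ n2 _ f2))
        exact sub_eq_zero.mp hu0
      · exfalso
        apply hv0
        have g1 := S_mem_wtQ H Q hsQ _ _ hxv
        have g2 := S_mem_wtQ H Q hsQ _ _ g1
        -- the weights `s^i x χ` differ from `χ`
        have hstab : ∀ a : MulAut G, Commute a (MulAut.conj x) → a ^ 3 = 1 →
            tw a (tw (MulAut.conj x) χ) ≠ χ := by
          intro a hcomm ha3 hcon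
          apply hχx
          have hmem : a * MulAut.conj x ∈ stab χ := by
            rw [mem_stab, tw_mul]; exact hcon
          have h3 : (a * MulAut.conj x) ^ 3 ∈ stab χ := Subgroup.pow_mem _ hmem 3
          rw [hcomm.mul_pow, ha3, one_mul, ← map_pow] at h3
          obtain ⟨m, hm⟩ := exists_pow_eq_self_of_coprime hx3
          have h4 : (MulAut.conj (x ^ 3)) ^ m ∈ stab χ := Subgroup.pow_mem _ h3 m
          rw [← map_pow, hm] at h4
          exact h4
        have m1 : tw s (tw (MulAut.conj x) χ) ≠ χ :=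
          hstab s (s_conj_comm x hx) H.aut.s3
        have m2 : tw s (tw s (tw (MulAut.conj x) χ)) ≠ χ := by
          rw [← tw_mul]
          refine hstab (s * s) ?_ ?_
          · exact (show Commute s (MulAut.conj x) from s_conj_comm x hx).mul_left
              (s_conj_comm x hx)
          · have : (s * s) ^ 3 = (s ^ 3) ^ 2 := by rw [← pow_two, ← pow_mul, ← pow_mul]
            rw [this, H.aut.s3, one_pow]
        refine wt_isolated _ hc χ v hv ?_
        have : v = ρ x v + S (ρ x v) + S (S (ρ x v)) - (S v + S (S v)) := by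
          rw [h1]; abel
        rw [this]
        refine Submodule.sub_mem _ (Submodule.add_mem _ (Submodule.add_mem _ ?_ ?_) ?_)
          (Submodule.add_mem _ ?_ ?_)
        · exact mem_rest _ χ _ hχx _ hxv
        · exact mem_rest _ χ _ m1 _ g1
        · exact mem_rest _ χ _ m2 _ g2
        · exact mem_rest _ χ _ hsχ _ e1
        · exact mem_rest _ χ _ n2 _ e2
    rw [hfix, chi_apply ρ Q χ v hv _ hy, map_smul, hfix]

/-- Case 0: an `s`-fixed element of order prime to 3 centralises `Q`. -/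
theorem tlab_case0 [Finite G] [IsAlgClosed K] [FiniteDimensional K W]
    (H : Hyp3 ρ S R s r) (hρ : Function.Injective ρ) (hcop : (Nat.card G).Coprime 6)
    (hσ : ∀ g, s g = g → ∀ v, S v = v → ρ g v = v) (Q : Subgroup G) [hQn : Q.Normal]
    (hQc : ∀ a ∈ Q, ∀ b ∈ Q, a * b = b * a) (hsQ : Inv s Q) (hcardQ : (Nat.card Q : K) ≠ 0)
    (x : G) (hx : s x = x) (q : G) (hq : q ∈ Q) : x * q = q * x := by
  refine comm_of_parts H.aut Q hQc hsQ q hq (coprime_three_orderOf hcop q) x ?_ ?_
  · intro n _ hn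
    exact fix_s_comm H.aut H.fpf x n hx hn
  · intro y hy
    exact tlab_case0_aux H hρ hσ Q hQc hsQ hcardQ x hx (coprime_three_orderOf hcop x) y hy

end case0

end Cfsg.Agent.Lib.Helper3.Sh
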