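import Mathlib
import Cfsg.Agent.Lib.Helper3.ShM
import Cfsg.Agent.Lib.Helper6.WdD

/-!
# Shult-type theorem, part N: an abelian normal subgroup `Q` and an abelian subgroup of coprime
order: they commute.
-/

set_option autoImplicit false
set_option maxHeartbeats 4000000
set_option maxRecDepth 100000
set_option linter.unusedVariables false
set_option linter.unusedSectionVars false
set_option linter.style.haveILetI false
set_option linter.deprecated false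

namespace Cfsg.Agent.Lib.Helper3.Sh

open Module Cfsg.Agent.Lib.Helper8.FP4 Cfsg.Agent.Lib.Helper6.Wd Cfsg.Agent.Lib.Helper3.HHC1

universe u v w

section nmker

variable {U Y : Type*} [CommGroup U] [Group Y] [Fintype Y]

theorem nmHom_act (act : Y →* MulAut U) (y : Y) (x : U) :
    nmHom act (act y x) = nmHom act x := by
  rw [nmHom_apply, nmHom_apply]
  apply Fintype.prod_equiv (Equiv.mulRight y)
  intro k
  change act k (act y x) = act (k * y) x
  rw [map_mul, MulAut.mul_apply]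

theorem comm_mem_nmker (act : Y →* MulAut U) (y : Y) (x : U) :
    nmHom act (x⁻¹ * act y x) = 1 := by
  rw [map_mul, map_inv, nmHom_act, inv_mul_cancel]

theorem nmker_fixed_eq_one [Finite U] (act : Y →* MulAut U)
    (hcop : (Fintype.card Y).Coprime (Nat.card U)) (x : U) (hx : nmHom act x = 1)
    (hfix : ∀ y, act y x = x) : x = 1 := by
  have h1 := nmHom_of_fixed act x hfix
  rw [hx] at h1
  have d1 : orderOf x ∣ Fintype.card Y := orderOf_dvd_of_pow_eq_one h1.symm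
  have d2 : orderOf x ∣ Nat.card U := orderOf_dvd_natCard x
  have d3 := Nat.dvd_gcd d1 d2
  rw [Nat.Coprime.gcd_eq_one hcop] at d3
  exact orderOf_eq_one_iff.mp (Nat.dvd_one.mp d3)

theorem nmHom_compat (act : Y →* MulAut U) (dU : MulAut U) (dY : MulAut Y)
    (hcompat : ∀ y x, dU (act y x) = act (dY y) (dU x)) (x : U) :
    nmHom act (dU x) = dU (nmHom act x) := by
  rw [nmHom_apply, nmHom_apply, map_prod]
  symm
  apply Fintype.prod_equiv dY.toEquiv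
  intro k
  exact hcompat k x

end nmker

section dsub

variable {G : Type u} [Group G]

/-- the subgroup `{y⁻¹ s(y)}` of a commutative `s`-invariant subgroup. -/
def dsub (s : MulAut G) (U : Subgroup G) (hUc : ∀ a ∈ U, ∀ b ∈ U, a * b = b * a)
    (hsU : Inv s U) : Subgroup G where
  carrier := {x | ∃ y ∈ U, x = y⁻¹ * s y}
  one_mem' := ⟨1, U.one_mem, by rw [map_one, inv_one, one_mul]⟩
  mul_mem' := by
    rintro a b ⟨y, hy, rfl⟩ ⟨z, hz, rfl⟩
    refine ⟨y * z, U.mul_mem hy hz, ?_⟩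
    rw [map_mul, mul_inv_rev]
    have e : s y * z⁻¹ = z⁻¹ * s y := hUc _ (hsU y hy) _ (U.inv_mem hz)
    have e2 : y⁻¹ * z⁻¹ = z⁻¹ * y⁻¹ := hUc _ (U.inv_mem hy) _ (U.inv_mem hz)
    calc y⁻¹ * s y * (z⁻¹ * s z) = y⁻¹ * (s y * z⁻¹) * s z := by group
      _ = y⁻¹ * (z⁻¹ * s y) * s z := by rw [e]
      _ = (y⁻¹ * z⁻¹) * (s y * s z) := by group
      _ = z⁻¹ * y⁻¹ * (s y * s z) := by rw [e2]
  inv_mem' := by
    rintro a ⟨y, hy, rfl⟩
    refine ⟨y⁻¹, U.inv_mem hy, ?_⟩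
    rw [map_inv, inv_inv, mul_inv_rev, inv_inv]
    exact hUc _ (U.inv_mem (hsU y hy)) _ hy

theorem mem_dsub (s : MulAut G) (U : Subgroup G) (hUc : ∀ a ∈ U, ∀ b ∈ U, a * b = b * a)
    (hsU : Inv s U) (x : G) : x ∈ dsub s U hUc hsU ↔ ∃ y ∈ U, x = y⁻¹ * s y := Iff.rfl

theorem dsub_le (s : MulAut G) (U : Subgroup G) (hUc : ∀ a ∈ U, ∀ b ∈ U, a * b = b * a)
    (hsU : Inv s U) : dsub s U hUc hsU ≤ U := by
  rintro x ⟨y, hy, rfl⟩
  exact U.mul_mem (U.inv_mem hy) (hsU y hy)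

theorem dsub_inv (s : MulAut G) (U : Subgroup G) (hUc : ∀ a ∈ U, ∀ b ∈ U, a * b = b * a)
    (hsU : Inv s U) : Inv s (dsub s U hUc hsU) := by
  rintro x ⟨y, hy, rfl⟩
  exact ⟨s y, hsU y hy, by rw [map_mul, map_inv]⟩

theorem dsub_fpf [Finite G] {s r : MulAut G} (h : Aut3 s r) (hcop : (Nat.card G).Coprime 6)
    (U : Subgroup G) (hUc : ∀ a ∈ U, ∀ b ∈ U, a * b = b * a)
    (hsU : Inv s U) (x : G) (hx : x ∈ dsub s U hUc hsU) (hfix : s x = x) : x = 1 := by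
  obtain ⟨y, hy, rfl⟩ := hx
  have h1 : (y⁻¹ * s y) * s (y⁻¹ * s y) * s (s (y⁻¹ * s y)) = 1 := by
    simp only [map_mul, map_inv]
    rw [h.s3_apply]
    group
  rw [hfix, hfix] at h1
  have h3 : (y⁻¹ * s y) ^ 3 = 1 := by
    rw [pow_succ, pow_two]; exact h1
  have d1 : orderOf (y⁻¹ * s y) ∣ 3 := orderOf_dvd_of_pow_eq_one h3
  have hc3 := coprime_three_orderOf hcop (y⁻¹ * s y)
  have d3 := Nat.dvd_gcd d1 (dvd_refl _)
  rw [Nat.Coprime.gcd_eq_one hc3] at d3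
  exact orderOf_eq_one_iff.mp (Nat.dvd_one.mp d3)

end dsub

section case1

variable {K : Type w} [Field K] {G : Type u} [Group G] {W : Type v} [AddCommGroup W]
  [Module K W] {ρ : Representation K G W} {S R : Module.End K W} {s r : MulAut G}

/-- Case 1: an abelian `s`-invariant subgroup `Y` on which `s` is fixed point free, of order
prime to `|Q|`, centralises `Q`. -/
theorem tlab_case1 [Finite G] [IsAlgClosed K] [FiniteDimensional K W]
    (H : Hyp3 ρ S R s r) (hρ : Function.Injective ρ) (hcop : (Nat.card G).Coprime 6)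
    (hσ : ∀ g, s g = g → ∀ v, S v = v → ρ g v = v) (Q : Subgroup G) [hQn : Q.Normal]
    (hQc : ∀ a ∈ Q, ∀ b ∈ Q, a * b = b * a) (hsQ : Inv s Q) (hcardQ : (Nat.card Q : K) ≠ 0)
    (Y : Subgroup G) (hYc : ∀ a ∈ Y, ∀ b ∈ Y, a * b = b * a) (hsY : Inv s Y)
    (hYfpf : ∀ y ∈ Y, s y = y → y = 1) (hcopYQ : (Nat.card Y).Coprime (Nat.card Q)) :
    ∀ y ∈ Y, ∀ q ∈ Q, y * q = q * y := by
  classical
  haveI : Fact (Nat.Prime 3) := ⟨by norm_num⟩
  intro y hy q hq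
  have hQc' : ∀ a ∈ Q, ∀ b ∈ Q, ρ a * ρ b = ρ b * ρ a := by
    intro a ha b hb
    rw [← map_mul, ← map_mul, hQc a ha b hb]
  have hc := fam_commute ρ Q hQc'
  have hs := fam_semisimple ρ Q hcardQ
  letI : CommGroup ↥Q :=
    { (inferInstance : Group ↥Q) with
      mul_comm := fun a b => Subtype.ext (hQc a a.2 b b.2) }
  haveI : Fintype ↥Y := Fintype.ofFinite _
  obtain ⟨act, hact⟩ : ∃ act : ↥Y →* MulAut ↥Q, ∀ (k : ↥Y) (x : ↥Q),
      ((act k x : ↥Q) : G) = k * x * (k : G)⁻¹ :=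
    ⟨cj Y Q (fun k _ x hx => hQn.conj_mem x hx k), fun k x => rfl⟩
  obtain ⟨dQ, hdQ⟩ : ∃ dQ : MulAut ↥Q, ∀ x : ↥Q, ((dQ x : ↥Q) : G) = s x :=
    ⟨restrictAut s Q hsQ, fun x => rfl⟩
  obtain ⟨dY, hdY⟩ : ∃ dY : MulAut ↥Y, ∀ x : ↥Y, ((dY x : ↥Y) : G) = s x :=
    ⟨restrictAut s Y hsY, fun x => rfl⟩
  have hcompat : ∀ k x, dQ (act k x) = act (dY k) (dQ x) := by
    intro k x
    apply Subtype.ext
    rw [hdQ, hact, hact, hdY, hdQ, map_mul, map_mul, map_inv]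
  obtain ⟨Q₂, memQ₂⟩ : ∃ Q₂ : Subgroup G, ∀ g : G, g ∈ Q₂ ↔
      ∃ hg : g ∈ Q, nmHom act ⟨g, hg⟩ = 1 := by
    refine ⟨(nmHom act).ker.map Q.subtype, fun g => ?_⟩
    constructor
    · rintro ⟨x, hx, rfl⟩
      exact ⟨x.2, MonoidHom.mem_ker.mp hx⟩
    · rintro ⟨hg, h1⟩
      exact ⟨⟨g, hg⟩, MonoidHom.mem_ker.mpr h1, rfl⟩
  have hQ₂le : Q₂ ≤ Q := by
    intro g hg
    obtain ⟨h1, -⟩ := (memQ₂ g).mp hg
    exact h1
  -- Claim A
  have hA : ∀ q₀ ∈ Q₂, s q₀ = q₀ → q₀ = 1 := by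
    intro q₀ hq₀ hsq₀
    obtain ⟨hq₀Q, hnm⟩ := (memQ₂ q₀).mp hq₀
    apply hρ
    rw [map_one]
    refine ext_wt (fam ρ Q) hc hs _ _ (fun χ v hv => ?_)
    rw [Module.End.one_apply]
    by_cases hv0 : v = 0
    · rw [hv0, map_zero]
    rw [chi_apply ρ Q χ v hv q₀ hq₀Q]
    suffices hχ : χ q₀ = 1 by rw [hχ, one_smul]
    by_contra hχ
    have hsχ : tw s χ = χ := tw_s_eq_of_fixed H hσ Q hQc' hsQ χ v hv hv0 q₀ hq₀Q hsq₀ hχ
    obtain ⟨StG, hStG⟩ : ∃ StG : Subgroup G, ∀ g, g ∈ StG ↔ MulAut.conj g ∈ stab χ ∧ g ∈ Y :=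
      ⟨(stab χ).comap (MulAut.conj : G →* MulAut G) ⊓ Y, fun g => Iff.rfl⟩
    have hsSt : Inv s StG := by
      intro n hn
      rw [hStG] at hn ⊢
      refine ⟨?_, hsY n hn.2⟩
      have h1 : MulAut.conj (s n) = s * MulAut.conj n * s⁻¹ := by
        ext g
        simp only [MulAut.mul_apply, MulAut.conj_apply, map_mul, map_inv,
          MulAut.apply_inv_self]
      rw [h1]
      exact (stab χ).mul_mem ((stab χ).mul_mem (mem_stab.mpr hsχ) hn.1)
        ((stab χ).inv_mem (mem_stab.mpr hsχ))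
    have h3St : ¬ 3 ∣ Nat.card StG :=
      not_dvd_card_of_coprime hcop StG 3 (by norm_num) (by norm_num)
    have hdich : ∀ k ∈ Y, k ∉ StG → χ (k * q₀ * k⁻¹) = 1 := by
      intro k hk hkSt
      by_contra hne
      apply hkSt
      have hw := rho_conj_mem_wt ρ Q k⁻¹ χ v hv
      have hw0 := rho_ne_zero ρ k⁻¹ v hv0
      have hψq : tw (MulAut.conj k⁻¹) χ q₀ = χ (k * q₀ * k⁻¹) := by
        rw [tw_apply, ← map_inv, inv_inv, MulAut.conj_apply]
      have hsψ : tw s (tw (MulAut.conj k⁻¹) χ) = tw (MulAut.conj k⁻¹) χ :=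
        tw_s_eq_of_fixed H hσ Q hQc' hsQ _ _ hw hw0 q₀ hq₀Q hsq₀ (by rw [hψq]; exact hne)
      have h1 : MulAut.conj k * s * MulAut.conj k⁻¹ ∈ stab χ := by
        rw [mem_stab, tw_mul, tw_mul, hsψ, ← tw_mul, ← map_mul, mul_inv_cancel, map_one, tw_one]
      have h2 : MulAut.conj k * s * MulAut.conj k⁻¹ = MulAut.conj (k * (s k)⁻¹) * s := by
        ext g
        simp only [MulAut.mul_apply, MulAut.conj_apply, MulAut.conj_inv_apply, map_mul, map_inv,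
          mul_inv_rev, inv_inv, mul_assoc]
      rw [h2] at h1
      have h3 : MulAut.conj (k * (s k)⁻¹) ∈ stab χ := by
        have := (stab χ).mul_mem h1 ((stab χ).inv_mem (mem_stab.mpr hsχ))
        rwa [mul_inv_cancel_right] at this
      have h4 : k⁻¹ * s k ∈ StG := by
        have hmem : k * (s k)⁻¹ ∈ StG :=
          (hStG _).mpr ⟨h3, Y.mul_mem hk (Y.inv_mem (hsY k hk))⟩
        have := StG.inv_mem hmem
        rw [mul_inv_rev, inv_inv] at this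
        rwa [hYc _ (hsY k hk) _ (Y.inv_mem hk)] at this
      obtain ⟨n, hn, hfix⟩ := exists_fixed_in_coset (p := 3) s H.aut.s3 StG hsSt h3St k h4
      have hkn : k * n = 1 := hYfpf _ (Y.mul_mem hk ((hStG n).mp hn).2) hfix
      have : k = n⁻¹ := eq_inv_of_mul_eq_one_left hkn
      rw [this]
      exact StG.inv_mem hn
    have hstabval : ∀ k ∈ StG, χ (k * q₀ * k⁻¹) = χ q₀ := by
      intro k hk
      have h1 : MulAut.conj k ∈ stab χ := ((hStG k).mp hk).1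
      have := tw_apply_self (MulAut.conj k) χ (mem_stab.mp h1) q₀
      rwa [MulAut.conj_apply] at this
    obtain ⟨χQ, hχQ⟩ : ∃ χQ : ↥Q →* K, ∀ x : ↥Q, χQ x = χ (x : G) :=
      ⟨{ toFun := fun x => χ (x : G)
         map_one' := chi_one ρ Q χ v hv hv0
         map_mul' := fun a b => chi_mul ρ Q χ v hv hv0 a b a.2 b.2 }, fun x => rfl⟩
    have hprod : χQ (nmHom act ⟨q₀, hq₀Q⟩) = ∏ k : ↥Y, χ ((k : G) * q₀ * (k : G)⁻¹) := by
      rw [nmHom_apply, map_prod]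
      refine Finset.prod_congr rfl (fun k _ => ?_)
      rw [hχQ, hact]
    rw [hnm, map_one] at hprod
    have hprod2 : ∏ k : ↥Y, χ ((k : G) * q₀ * (k : G)⁻¹) =
        ∏ k : ↥Y, (if (k : G) ∈ StG then χ q₀ else 1) := by
      refine Finset.prod_congr rfl (fun k _ => ?_)
      split_ifs with hk
      · exact hstabval k hk
      · exact hdich k k.2 hk
    rw [hprod2, Finset.prod_ite, Finset.prod_const, Finset.prod_const_one, mul_one] at hprod
    have hcard : (Finset.univ.filter (fun k : ↥Y => (k : G) ∈ StG)).card =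
        Nat.card (StG.subgroupOf Y) := by
      rw [← Fintype.card_subtype, ← Nat.card_eq_fintype_card]
      rfl
    rw [hcard] at hprod
    have hdvd : Nat.card (StG.subgroupOf Y) ∣ Nat.card Y := Subgroup.card_subgroup_dvd_card _
    have hq₀pow : q₀ ^ Nat.card Q = 1 :=
      orderOf_dvd_iff_pow_eq_one.mp (Subgroup.orderOf_dvd_natCard Q hq₀Q)
    have hχpow : χ q₀ ^ Nat.card Q = 1 := by
      rw [← chi_pow ρ Q χ v hv hv0 q₀ hq₀Q, hq₀pow, chi_one ρ Q χ v hv hv0]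
    exact hχ (eq_one_of_pow_coprime (χ q₀) _ _ (Nat.Coprime.coprime_dvd_left hdvd hcopYQ)
      hprod.symm hχpow)
  -- Frobenius
  have hcent : ∀ y ∈ Y, ∀ x ∈ Q₂, y * x = x * y := by
    refine frobU (p := 3) s H.aut.s3 Q₂ Y ?_ hsY ?_ ?_ ?_ ?_ hA
    · intro x hx
      obtain ⟨hxQ, h1⟩ := (memQ₂ x).mp hx
      refine (memQ₂ _).mpr ⟨hsQ x hxQ, ?_⟩
      have e : (⟨s x, hsQ x hxQ⟩ : ↥Q) = dQ ⟨x, hxQ⟩ := Subtype.ext (hdQ ⟨x, hxQ⟩).symm
      rw [e, nmHom_compat act dQ dY hcompat, h1, map_one]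
    · intro a ha b hb
      exact hQc a (hQ₂le ha) b (hQ₂le hb)
    · intro k hk x hx
      obtain ⟨hxQ, h1⟩ := (memQ₂ x).mp hx
      refine (memQ₂ _).mpr ⟨hQn.conj_mem x hxQ k, ?_⟩
      have e : (⟨k * x * k⁻¹, hQn.conj_mem x hxQ k⟩ : ↥Q) = act ⟨k, hk⟩ ⟨x, hxQ⟩ :=
        Subtype.ext (hact ⟨k, hk⟩ ⟨x, hxQ⟩).symm
      rw [e, nmHom_act, h1]
    · intro k hk i hi0 hi3 hfix
      interval_cases i
      · rw [pow_one] at hfix
        exact hYfpf k hk hfix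
      · rw [H.aut.s2_apply] at hfix
        have h2 : s k = k := by
          have := congrArg s hfix
          rw [H.aut.s3_apply] at this
          exact this.symm
        exact hYfpf k hk h2
    · exact Nat.Coprime.coprime_dvd_right (Subgroup.card_dvd_of_le hQ₂le) hcopYQ
  -- conclusion
  have hc1 : nmHom act ((⟨q, hq⟩ : ↥Q)⁻¹ * act ⟨y, hy⟩ ⟨q, hq⟩) = 1 := comm_mem_nmker act _ _
  obtain ⟨c, hcdef⟩ : ∃ c : ↥Q, c = (⟨q, hq⟩ : ↥Q)⁻¹ * act ⟨y, hy⟩ ⟨q, hq⟩ := ⟨_, rfl⟩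
  rw [← hcdef] at hc1
  have hcQ₂ : (c : G) ∈ Q₂ := (memQ₂ _).mpr ⟨c.2, hc1⟩
  have hcfix : ∀ k : ↥Y, act k c = c := by
    intro k
    apply Subtype.ext
    rw [hact, hcent k k.2 c hcQ₂, mul_inv_cancel_right]
  have hcop' : (Fintype.card ↥Y).Coprime (Nat.card ↥Q) := by
    rw [← Nat.card_eq_fintype_card]
    exact hcopYQ
  have hc0 : c = 1 := nmker_fixed_eq_one act hcop' c hc1 hcfix
  have h7 := congrArg Subtype.val hc0
  rw [hcdef, Subgroup.coe_mul, Subgroup.coe_inv, hact] at h7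
  change q⁻¹ * (y * q * y⁻¹) = 1 at h7
  calc y * q = q * (q⁻¹ * (y * q * y⁻¹)) * y := by group
    _ = q * y := by rw [h7, mul_one]

/-- **TL-ab**: a normal abelian `s`-invariant subgroup `Q` commutes with every abelian
`s`-invariant subgroup of order prime to `|Q|`. -/
theorem TLab [Finite G] [IsAlgClosed K] [FiniteDimensional K W]
    (H : Hyp3 ρ S R s r) (hρ : Function.Injective ρ) (hcop : (Nat.card G).Coprime 6)
    (hσ : ∀ g, s g = g → ∀ v, S v = v → ρ g v = v) (Q : Subgroup G) [hQn : Q.Normal]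
    (hQc : ∀ a ∈ Q, ∀ b ∈ Q, a * b = b * a) (hsQ : Inv s Q) (hcardQ : (Nat.card Q : K) ≠ 0)
    (U : Subgroup G) (hUc : ∀ a ∈ U, ∀ b ∈ U, a * b = b * a) (hsU : Inv s U)
    (hcopUQ : (Nat.card U).Coprime (Nat.card Q)) :
    ∀ q ∈ Q, ∀ x ∈ U, q * x = x * q := by
  intro q hq x hx
  refine comm_of_parts H.aut U hUc hsU x hx (coprime_three_orderOf hcop x) q ?_ ?_
  · intro n _ hn
    exact (tlab_case0 H hρ hcop hσ Q hQc hsQ hcardQ n hn q hq).symm
  · intro y hy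
    have hY := tlab_case1 H hρ hcop hσ Q hQc hsQ hcardQ (dsub s U hUc hsU)
      (fun a ha b hb => hUc a (dsub_le s U hUc hsU ha) b (dsub_le s U hUc hsU hb))
      (dsub_inv s U hUc hsU) (fun z hz hfix => dsub_fpf H.aut hcop U hUc hsU z hz hfix)
      (Nat.Coprime.coprime_dvd_left (Subgroup.card_dvd_of_le (dsub_le s U hUc hsU)) hcopUQ)
    exact (hY _ ⟨y, hy, rfl⟩ q hq).symm

end case1

end Cfsg.Agent.Lib.Helper3.Sh
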