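import Mathlib
import Cfsg.Agent.Lib.Helper3.ShN
import Cfsg.Agent.Lib.Helper3.ShL

/-!
# Shult-type theorem, part O: a group with nilpotent derived group acting faithfully and
"irreducibly" (linear version) is abelian.
-/

set_option autoImplicit false
set_option maxHeartbeats 4000000
set_option maxRecDepth 100000
set_option linter.unusedVariables false
set_option linter.unusedSectionVars false
set_option linter.style.haveILetI false
set_option linter.deprecated false

namespace Cfsg.Agent.Lib.Helper3.Sh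

open Module Cfsg.Agent.Lib.Helper8.FP4 Cfsg.Agent.Lib.Helper6.Wd Cfsg.Agent.Lib.Helper3.HHC1

universe u v w

section basechange

/-- Base change of endomorphisms to an extension field, via matrices. -/
noncomputable def bcEnd (F K : Type*) [Field F] [Field K] [Algebra F K] (V : Type*)
    [AddCommGroup V] [Module F V] [FiniteDimensional F V] :
    Module.End F V →+* Module.End K (Fin (finrank F V) → K) :=
  ((Matrix.toLinAlgEquiv' (R := K) (n := Fin (finrank F V))).toRingEquiv.toRingHom).comp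
    (((algebraMap F K).mapMatrix).comp
      ((LinearMap.toMatrixAlgEquiv (Module.finBasis F V)).toRingEquiv.toRingHom))

theorem bcEnd_injective (F K : Type*) [Field F] [Field K] [Algebra F K] (V : Type*)
    [AddCommGroup V] [Module F V] [FiniteDimensional F V] :
    Function.Injective (bcEnd F K V) := by
  unfold bcEnd
  rw [RingHom.coe_comp, RingHom.coe_comp]
  refine Function.Injective.comp ?_ (Function.Injective.comp ?_ ?_)
  · exact (Matrix.toLinAlgEquiv' (R := K) (n := Fin (finrank F V))).toRingEquiv.injective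
  · intro A B h
    exact Matrix.map_injective (algebraMap F K).injective h
  · exact (LinearMap.toMatrixAlgEquiv (Module.finBasis F V)).toRingEquiv.injective

end basechange

section hyp

variable {K : Type*} [Field K] {G : Type*} [Group G] {W : Type*} [AddCommGroup W] [Module K W]
  {ρ : Representation K G W} {S R : Module.End K W} {s r : MulAut G}

theorem Hyp3.restrict [Finite G] (H : Hyp3 ρ S R s r) (N : Subgroup G) (hs : Inv s N)
    (hr : Inv r N) :
    Hyp3 (ρ.comp N.subtype) S R (restrictAut s N hs) (restrictAut r N hr) where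
  aut := H.aut.restrict N hs hr
  S3 := H.S3
  R2 := H.R2
  RS := H.RS
  cS := fun g => H.cS (g : G)
  cR := fun g => H.cR (g : G)
  fpf := fun g h1 h2 => Subtype.ext (H.fpf (g : G) (congrArg Subtype.val h1)
    (congrArg Subtype.val h2))
  A0 := H.A0

theorem Hyp3.map {K' : Type*} [Field K'] {W' : Type*} [AddCommGroup W'] [Module K' W']
    (H : Hyp3 ρ S R s r) (φ : Module.End K W →+* Module.End K' W') :
    Hyp3 ((φ : Module.End K W →* Module.End K' W').comp ρ) (φ S) (φ R) s r where
  aut := H.aut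
  S3 := by rw [← map_mul, ← map_mul, H.S3, map_one]
  R2 := by rw [← map_mul, H.R2, map_one]
  RS := by rw [← map_mul, H.RS, map_mul, map_mul]
  cS := by
    intro g
    show φ S * φ (ρ g) = φ (ρ (s g)) * φ S
    rw [← map_mul, H.cS, map_mul]
  cR := by
    intro g
    show φ R * φ (ρ g) = φ (ρ (r g)) * φ R
    rw [← map_mul, H.cR, map_mul]
  fpf := H.fpf
  A0 := by
    have := congrArg φ H.A0
    simpa only [map_mul, map_add, map_one, map_zero] using this

end hyp

section small

theorem five_le_of_prime_dvd {n p : ℕ} (hp : p.Prime) (hdvd : p ∣ n) (hcop : n.Coprime 6) :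
    5 ≤ p := by
  have h2 : p ≠ 2 := by
    rintro rfl
    have := Nat.dvd_gcd hdvd (by norm_num : 2 ∣ 6)
    rw [Nat.Coprime.gcd_eq_one hcop] at this
    exact absurd this (by norm_num)
  have h3 : p ≠ 3 := by
    rintro rfl
    have := Nat.dvd_gcd hdvd (by norm_num : 3 ∣ 6)
    rw [Nat.Coprime.gcd_eq_one hcop] at this
    exact absurd this (by norm_num)
  have h4 : p ≠ 4 := by
    rintro rfl
    norm_num at hp
  have := hp.two_le
  omega

variable {H : Type*} [Group H]

theorem eq_one_of_pgroup_of_not_dvd [Finite H] {p : ℕ} (hp : p.Prime) (U : Subgroup H)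
    (hU : IsPGroup p U) (N : Subgroup H) (hN : ¬ p ∣ Nat.card N) (x : H) (hxU : x ∈ U)
    (hxN : x ∈ N) : x = 1 := by
  obtain ⟨k, hk⟩ := hU ⟨x, hxU⟩
  have hk' : x ^ (p ^ k) = 1 := by
    have := congrArg Subtype.val hk
    simpa using this
  have d1 : orderOf x ∣ p ^ k := orderOf_dvd_of_pow_eq_one hk'
  have d2 : orderOf x ∣ Nat.card N := Subgroup.orderOf_dvd_natCard N hxN
  have hc : (p ^ k).Coprime (Nat.card N) :=
    Nat.Coprime.pow_left k ((Nat.Prime.coprime_iff_not_dvd hp).mpr hN)
  have d3 := Nat.dvd_gcd d1 d2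
  rw [Nat.Coprime.gcd_eq_one hc] at d3
  exact orderOf_eq_one_iff.mp (Nat.dvd_one.mp d3)

theorem normal_pgroup_le_sylow [Finite H] {t : ℕ} [Fact t.Prime] (Q : Subgroup H)
    [hQ : Q.Normal] (hQt : IsPGroup t Q) (U : Sylow t H) : Q ≤ (U : Subgroup H) := by
  obtain ⟨U', hU'⟩ := hQt.exists_le_sylow
  obtain ⟨g, hg⟩ := MulAction.exists_smul_eq H U' U
  intro x hx
  rw [← hg, mem_conj_sylow]
  apply hU'
  have := hQ.conj_mem x hx g⁻¹
  rwa [inv_inv] at this

/-- A subgroup containing a Sylow `p`-subgroup for every prime `p` is the whole group. -/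
theorem top_of_sylows [Finite H] (N : Subgroup H)
    (h : ∀ (p : ℕ) [Fact p.Prime], ∃ P : Sylow p H, (P : Subgroup H) ≤ N) : N = ⊤ := by
  apply Subgroup.eq_top_of_le_card
  apply Nat.le_of_dvd Nat.card_pos
  rw [← Nat.factorization_prime_le_iff_dvd Nat.card_pos.ne' Nat.card_pos.ne']
  intro p hp
  have := Fact.mk hp
  obtain ⟨P, hP⟩ := h p
  have h1 : Nat.card P = p ^ (Nat.card H).factorization p := P.card_eq_multiplicity
  have h2 : Nat.card P ∣ Nat.card N := Subgroup.card_dvd_of_le hP
  rw [h1] at h2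
  exact (hp.pow_dvd_iff_le_factorization Nat.card_pos.ne').mp h2

/-- The normal Sylow subgroups of the nilpotent derived group. -/
theorem exists_Op_commutator [Finite H] (hnil : Group.IsNilpotent ↥(commutator H)) (t : ℕ)
    [Fact t.Prime] : ∃ Q : Subgroup H, (∀ ψ : MulAut H, Inv ψ Q) ∧ IsPGroup t Q ∧
      Q ≤ commutator H ∧ (Q = ⊥ → ¬ t ∣ Nat.card (commutator H)) := by
  haveI := hnil
  obtain ⟨P⟩ : Nonempty (Sylow t ↥(commutator H)) := inferInstance
  have hPn : (P : Subgroup ↥(commutator H)).Normal := inferInstance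
  haveI hPc : (P : Subgroup ↥(commutator H)).Characteristic := P.characteristic_of_normal hPn
  refine ⟨(P : Subgroup ↥(commutator H)).map (commutator H).subtype, ?_, ?_, ?_, ?_⟩
  · intro ψ x hx
    obtain ⟨y, hy, rfl⟩ := hx
    have hψD : Inv ψ (commutator H) := inv_of_char (commutator H) ψ
    have h1 : Inv (restrictAut ψ (commutator H) hψD) (P : Subgroup ↥(commutator H)) :=
      inv_of_char _ _
    exact ⟨restrictAut ψ (commutator H) hψD y, h1 y hy, rfl⟩
  · exact P.isPGroup'.map _
  · exact Subgroup.map_subtype_le _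
  · intro hbot hdvd
    have h1 : (P : Subgroup ↥(commutator H)) = ⊥ :=
      (Subgroup.map_eq_bot_iff_of_injective _ (commutator H).subtype_injective).mp hbot
    exact P.ne_bot_of_dvd_card hdvd h1

theorem normal_of_forall_inv (Q : Subgroup H) (h : ∀ ψ : MulAut H, Inv ψ Q) : Q.Normal := by
  refine ⟨fun x hx g => ?_⟩
  have := h (MulAut.conj g) x hx
  rwa [MulAut.conj_apply] at this

end small

section KL

variable {K : Type w} [Field K] [IsAlgClosed K] {H : Type u} [Group H] [Finite H]
  {W : Type v} [AddCommGroup W] [Module K W] [FiniteDimensional K W]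
  {ρ : Representation K H W} {S R : Module.End K W} {s r : MulAut H}

/-- invariant `u`-subgroups, `u` not the characteristic, are abelian -/
theorem comm_of_TL2 (ℓ : ℕ) (hK : ∀ t : ℕ, t.Prime → t ≠ ℓ → (t : K) ≠ 0) (h2ℓ : ℓ ≠ 2)
    (h3ℓ : ℓ ≠ 3) (hyp : Hyp3 ρ S R s r) (hρ : Function.Injective ρ)
    (hcop : (Nat.card H).Coprime 6) (p : ℕ) [hp : Fact p.Prime] (hpℓ : p ≠ ℓ)
    (U : Subgroup H) (hU : IsPGroup p U) (hsU : Inv s U) (hrU : Inv r U) :
    ∀ a ∈ U, ∀ b ∈ U, a * b = b * a := by
  intro a ha b hb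
  by_cases hdvd : p ∣ Nat.card H
  · have hp5 : 5 ≤ p := five_le_of_prime_dvd hp.out hdvd hcop
    have key := TL2 p hp5 (hK p hp.out hpℓ) (hK 2 Nat.prime_two (Ne.symm h2ℓ))
      (hK 3 Nat.prime_three (Ne.symm h3ℓ)) (Nat.card ↥U) ↥U W (ρ.comp U.subtype) S R
      (restrictAut s U hsU) (restrictAut r U hrU) rfl hU (hyp.restrict U hsU hrU)
      ⟨a, ha⟩ ⟨b, hb⟩
    apply hρ
    rw [map_mul, map_mul]
    exact key
  · have h1 : (Nat.card (⊤ : Subgroup H)) = Nat.card H := Subgroup.card_top
    have ha1 : a = 1 := eq_one_of_pgroup_of_not_dvd hp.out U hU ⊤ (by rw [h1]; exact hdvd) a ha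
      (Subgroup.mem_top a)
    rw [ha1, one_mul, mul_one]

theorem KLK (ℓ : ℕ) [hℓp : Fact ℓ.Prime] (hK : ∀ t : ℕ, t.Prime → t ≠ ℓ → (t : K) ≠ 0)
    (h2ℓ : ℓ ≠ 2) (h3ℓ : ℓ ≠ 3) (hyp : Hyp3 ρ S R s r) (hρ : Function.Injective ρ)
    (hcop : (Nat.card H).Coprime 6)
    (hσ : ∀ g, s g = g → ∀ v, S v = v → ρ g v = v)
    (hnil : Group.IsNilpotent ↥(commutator H))
    (hℓ : ∀ L : Subgroup H, L.Normal → Inv s L → Inv r L → IsPGroup ℓ L → L = ⊥) :
    ∀ a b : H, a * b = b * a := by
  classical
  -- `ℓ` does not divide the order of the derived group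
  have hℓD : ¬ ℓ ∣ Nat.card (commutator H) := by
    obtain ⟨Q, hQinv, hQp, hQle, hQbot⟩ := exists_Op_commutator hnil ℓ
    exact hQbot (hℓ Q (normal_of_forall_inv Q hQinv) (hQinv s) (hQinv r) hQp)
  -- invariant Sylow subgroups are abelian
  have hUcomm : ∀ (p : ℕ) [Fact p.Prime] (U : Sylow p H), Inv s (U : Subgroup H) →
      Inv r (U : Subgroup H) → ∀ a ∈ (U : Subgroup H), ∀ b ∈ (U : Subgroup H),
      a * b = b * a := by
    intro p hp U hsU hrU a ha b hb
    by_cases hpℓ : p = ℓ
    · subst hpℓ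
      have hcU : a * b * a⁻¹ * b⁻¹ ∈ (U : Subgroup H) :=
        Subgroup.mul_mem _ (Subgroup.mul_mem _ (Subgroup.mul_mem _ ha hb)
          (Subgroup.inv_mem _ ha)) (Subgroup.inv_mem _ hb)
      have hcD : a * b * a⁻¹ * b⁻¹ ∈ commutator H := by
        rw [commutator_def]
        exact Subgroup.commutator_mem_commutator (Subgroup.mem_top a) (Subgroup.mem_top b)
      have h1 := eq_one_of_pgroup_of_not_dvd hp.out (U : Subgroup H) U.isPGroup'
        (commutator H) hℓD _ hcU hcD
      calc a * b = (a * b * a⁻¹ * b⁻¹) * (b * a) := by group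
        _ = b * a := by rw [h1, one_mul]
    · exact comm_of_TL2 ℓ hK h2ℓ h3ℓ hyp hρ hcop p hpℓ (U : Subgroup H) U.isPGroup' hsU hrU
        a ha b hb
  -- the normal Sylow subgroups of the derived group are trivial
  have hQtriv : ∀ (t : ℕ) [Fact t.Prime] (Q : Subgroup H), (∀ ψ : MulAut H, Inv ψ Q) →
      IsPGroup t Q → Q ≤ commutator H → Q = ⊥ := by
    intro t ht Q hQinv hQp hQle
    haveI hQn : Q.Normal := normal_of_forall_inv Q hQinv
    by_cases htℓ : t = ℓ
    · subst htℓ
      exact hℓ Q hQn (hQinv s) (hQinv r) hQp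
    have hQc : ∀ a ∈ Q, ∀ b ∈ Q, a * b = b * a :=
      comm_of_TL2 ℓ hK h2ℓ h3ℓ hyp hρ hcop t htℓ Q hQp (hQinv s) (hQinv r)
    obtain ⟨k, hk⟩ := IsPGroup.iff_card.mp hQp
    have hcardQ : (Nat.card Q : K) ≠ 0 := by
      rw [hk, Nat.cast_pow]
      exact pow_ne_zero _ (hK t ht.out htℓ)
    have hcent : Subgroup.centralizer (Q : Set H) = ⊤ := by
      apply top_of_sylows
      intro p hp
      obtain ⟨U, hsU, hrU⟩ := exists_inv_sylow3 hyp.aut hcop p
      refine ⟨U, ?_⟩
      intro x hx
      rw [Subgroup.mem_centralizer_iff]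
      intro q hq
      have hUc := hUcomm p U hsU hrU
      by_cases hpt : p = t
      · subst hpt
        exact hUc q (normal_pgroup_le_sylow Q hQp U hq) x hx
      · have hcopUQ : (Nat.card (U : Subgroup H)).Coprime (Nat.card Q) := by
          rw [hk, U.card_eq_multiplicity]
          exact Nat.Coprime.pow _ _ ((Nat.coprime_primes hp.out ht.out).mpr hpt)
        exact TLab hyp hρ hcop hσ Q hQc (hQinv s) hcardQ (U : Subgroup H) hUc hsU hcopUQ
          q hq x hx
    obtain ⟨Ut, hsUt, hrUt⟩ := exists_inv_sylow3 hyp.aut hcop t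
    rw [eq_bot_iff]
    intro z hz
    rw [Subgroup.mem_bot]
    refine eq_one_of_mem_center_commutator_sylow Ut (hUcomm t Ut hsUt hrUt) z
      (normal_pgroup_le_sylow Q hQp Ut hz) ?_ (hQle hz)
    rw [Subgroup.mem_center_iff]
    intro g
    have hg : g ∈ Subgroup.centralizer (Q : Set H) := by rw [hcent]; exact Subgroup.mem_top g
    exact (Subgroup.mem_centralizer_iff.mp hg z hz).symm
  -- the derived group is trivial
  have hD1 : Nat.card (commutator H) = 1 := by
    by_contra hne
    obtain ⟨t, ht, hdvd⟩ := Nat.exists_prime_and_dvd hne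
    haveI := Fact.mk ht
    obtain ⟨Q, hQinv, hQp, hQle, hQbot⟩ := exists_Op_commutator hnil t
    exact hQbot (hQtriv t Q hQinv hQp hQle) hdvd
  have hDbot : commutator H = ⊥ := Subgroup.eq_bot_of_card_eq _ hD1
  intro a b
  have hcD : a * b * a⁻¹ * b⁻¹ ∈ commutator H := by
    rw [commutator_def]
    exact Subgroup.commutator_mem_commutator (Subgroup.mem_top a) (Subgroup.mem_top b)
  rw [hDbot, Subgroup.mem_bot] at hcD
  calc a * b = (a * b * a⁻¹ * b⁻¹) * (b * a) := by group
    _ = b * a := by rw [hcD, one_mul]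

end KL

section KLF

variable {F : Type w} [Field F] {H : Type u} [Group H] [Finite H]
  {V : Type v} [AddCommGroup V] [Module F V] [FiniteDimensional F V]
  {ρ : Representation F H V} {S R : Module.End F V} {s r : MulAut H}

/-- The version over an arbitrary field of characteristic `ℓ`. -/
theorem KLF (ℓ : ℕ) [hℓp : Fact ℓ.Prime] [CharP F ℓ] (h2ℓ : ℓ ≠ 2) (h3ℓ : ℓ ≠ 3)
    (hyp : Hyp3 ρ S R s r) (hρ : Function.Injective ρ) (hcop : (Nat.card H).Coprime 6)
    (hσ : ∀ g, s g = g → ρ g * (1 + S + S * S) = 1 + S + S * S)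
    (hnil : Group.IsNilpotent ↥(commutator H))
    (hℓ : ∀ L : Subgroup H, L.Normal → Inv s L → Inv r L → IsPGroup ℓ L → L = ⊥) :
    ∀ a b : H, a * b = b * a := by
  obtain ⟨φ, hφ⟩ : ∃ φ : Module.End F V →+* Module.End (AlgebraicClosure F)
      (Fin (finrank F V) → AlgebraicClosure F), Function.Injective φ :=
    ⟨bcEnd F (AlgebraicClosure F) V, bcEnd_injective F (AlgebraicClosure F) V⟩
  have hK : ∀ t : ℕ, t.Prime → t ≠ ℓ → ((t : ℕ) : AlgebraicClosure F) ≠ 0 := by
    intro t ht htℓ h0
    have h1 : ((t : ℕ) : AlgebraicClosure F) = algebraMap F (AlgebraicClosure F) (t : F) :=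
      (map_natCast _ t).symm
    rw [h1, map_eq_zero] at h0
    have h2 := (CharP.cast_eq_zero_iff F ℓ t).mp h0
    exact htℓ ((Nat.prime_dvd_prime_iff_eq hℓp.out ht).mp h2).symm
  have hyp' := hyp.map φ
  have h3K : (3 : AlgebraicClosure F) ≠ 0 := by
    have := hK 3 Nat.prime_three (Ne.symm h3ℓ)
    exact_mod_cast this
  refine KLK ℓ hK h2ℓ h3ℓ hyp' ?_ hcop ?_ hnil hℓ
  · intro a b hab
    exact hρ (hφ hab)
  · intro g hg v hv
    have h1 := congrArg φ (hσ g hg)
    rw [map_mul, map_add, map_add, map_one, map_mul] at h1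
    have h2 := congrArg (fun A => A v) h1
    simp only [Module.End.mul_apply, LinearMap.add_apply, Module.End.one_apply, hv] at h2
    have h3 : (3 : AlgebraicClosure F) • (φ (ρ g)) v = (3 : AlgebraicClosure F) • v := by
      have e : v + v + v = (3 : AlgebraicClosure F) • v := by
        rw [show (3 : AlgebraicClosure F) = 1 + 1 + 1 by norm_num, add_smul, add_smul, one_smul]
      rw [← map_smul, ← e]
      exact h2
    exact smul_right_injective _ h3K h3

end KLF

end Cfsg.Agent.Lib.Helper3.Sh
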