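import Mathlib
import Cfsg.Agent.Lib.Helper3.ShO
import Cfsg.Agent.Lib.Helper3.GrF

/-!
# Gross, part G: the second level for a group acting on an elementary abelian group.
-/

set_option autoImplicit false
set_option maxHeartbeats 4000000
set_option maxRecDepth 100000
set_option linter.unusedVariables false
set_option linter.unusedSectionVars false
set_option linter.style.haveILetI false
set_option linter.deprecated false

namespace Cfsg.Agent.Lib.Helper3.Sh

open Module Cfsg.Agent.Lib.Helper3.HHC1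

universe u v

theorem bcEnd_smul (F K : Type*) [Field F] [Field K] [Algebra F K] (V : Type*)
    [AddCommGroup V] [Module F V] [FiniteDimensional F V] (c : F) (T : Module.End F V) :
    bcEnd F K V (c • T) = (algebraMap F K c) • bcEnd F K V T := by
  unfold bcEnd
  show (Matrix.toLinAlgEquiv' (R := K) (n := Fin (finrank F V)))
      (((LinearMap.toMatrixAlgEquiv (Module.finBasis F V)) (c • T)).map (algebraMap F K))
    = (algebraMap F K c) • (Matrix.toLinAlgEquiv' (R := K) (n := Fin (finrank F V)))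
      (((LinearMap.toMatrixAlgEquiv (Module.finBasis F V)) T).map (algebraMap F K))
  rw [map_smul, Matrix.map_smul' _ _ _ (fun a b => map_mul (algebraMap F K) a b), map_smul]

theorem l2_act (m : ℕ) (hm : 1 ≤ m) (ℓ : ℕ) [hℓp : Fact ℓ.Prime] (hℓ2 : ℓ ≠ 2)
    (s : ℕ) [hs : Fact s.Prime] (hs2 : s ≠ 2) (hsℓ : s ≠ ℓ) (hexc : ¬ (m = 1 ∧ s = 3))
    {Q : Type u} [Group Q] [Finite Q] (hQ : IsPGroup s Q) {A : Type v} [CommGroup A] [Finite A]
    (hexp : ∀ a : A, a ^ ℓ = 1)
    (φ : MulAut Q) (act : Q →* MulAut A) (sA : MulAut A) (hsAP : sA ^ (2 ^ (m + 1)) = 1)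
    (hcs : ∀ h a, sA (act h a) = act (φ h) (sA a))
    (hfix : ∀ a, (sA ^ (2 ^ m)) a = a → sA a = a)
    (hcard : Nat.card {a : A // (sA ^ (2 ^ m)) a = a⁻¹} = ℓ ^ 2) :
    ∀ (g : Q) (a : A), act ((φ ^ (2 ^ m)) g) a = act g a := by
  classical
  have instMod : Module (ZMod ℓ) (Additive A) := AddCommGroup.zmodModule (n := ℓ) (by
    intro x
    obtain ⟨a, rfl⟩ := Additive.ofMul.surjective x
    rw [← ofMul_pow, hexp a, ofMul_one])
  haveI : Finite (Additive A) := inferInstanceAs (Finite A)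
  haveI : FiniteDimensional (ZMod ℓ) (Additive A) := Module.Finite.of_finite
  obtain ⟨lin, hlin⟩ : ∃ lin : (A →* A) → Module.End (ZMod ℓ) (Additive A),
      ∀ φ a, lin φ (Additive.ofMul a) = Additive.ofMul (φ a) :=
    ⟨fun φ => (MonoidHom.toAdditive φ).toZModLinearMap ℓ, fun φ a => rfl⟩
  have hext : ∀ X Y : Module.End (ZMod ℓ) (Additive A),
      (∀ a : A, X (Additive.ofMul a) = Y (Additive.ofMul a)) → X = Y := by
    intro X Y h
    refine LinearMap.ext (fun x => ?_)
    obtain ⟨a, rfl⟩ := Additive.ofMul.surjective x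
    exact h a
  obtain ⟨ρ, hρa⟩ : ∃ ρ : Representation (ZMod ℓ) Q (Additive A),
      ∀ h a, ρ h (Additive.ofMul a) = Additive.ofMul (act h a) := by
    refine ⟨{ toFun := fun h => lin (act h).toMonoidHom
              map_one' := ?_
              map_mul' := ?_ }, fun h a => hlin _ a⟩
    · apply hext
      intro a
      rw [hlin, map_one]
      rfl
    · intro g h
      apply hext
      intro a
      rw [hlin, Module.End.mul_apply, hlin, hlin, map_mul]
      rfl
  obtain ⟨S, hS⟩ : ∃ S : Module.End (ZMod ℓ) (Additive A),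
      ∀ a, S (Additive.ofMul a) = Additive.ofMul (sA a) :=
    ⟨lin sA.toMonoidHom, fun a => hlin _ a⟩
  obtain ⟨S', hS'⟩ : ∃ S' : Module.End (ZMod ℓ) (Additive A),
      ∀ a, S' (Additive.ofMul a) = Additive.ofMul (sA⁻¹ a) :=
    ⟨lin (sA⁻¹).toMonoidHom, fun a => hlin _ a⟩
  have hSS' : S * S' = 1 := by
    apply hext; intro a
    rw [Module.End.mul_apply, hS', hS, MulAut.apply_inv_self]; rfl
  have hS'S : S' * S = 1 := by
    apply hext; intro a
    rw [Module.End.mul_apply, hS, hS', MulAut.inv_apply_self]; rfl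
  have hSpow : ∀ (k : ℕ) (a : A), (S ^ k) (Additive.ofMul a) = Additive.ofMul ((sA ^ k) a) := by
    intro k
    induction k with
    | zero => intro a; rfl
    | succ k ih =>
      intro a
      rw [pow_succ', Module.End.mul_apply, ih, hS, pow_succ', MulAut.mul_apply]
  have hSP : S ^ (2 ^ (m + 1)) = 1 := by
    apply hext; intro a
    rw [hSpow, hsAP]; rfl
  have hcS : ∀ g, S * ρ g = ρ (φ g) * S := by
    intro g
    apply hext; intro a
    rw [Module.End.mul_apply, Module.End.mul_apply, hρa, hS, hS, hρa, hcs]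
  obtain ⟨τ, hτdef⟩ : ∃ τ : MulAut A, τ = sA ^ (2 ^ m) := ⟨_, rfl⟩
  rw [← hτdef] at hfix hcard
  obtain ⟨T, hTdef⟩ : ∃ T : Module.End (ZMod ℓ) (Additive A), T = S ^ (2 ^ m) := ⟨_, rfl⟩
  have hT : ∀ a, T (Additive.ofMul a) = Additive.ofMul (τ a) := by
    intro a; rw [hTdef, hτdef]; exact hSpow _ a
  have hττ : ∀ a, τ (τ a) = a := by
    intro a
    rw [hτdef, ← MulAut.mul_apply, ← pow_add, ← two_mul, ← pow_succ', hsAP]; rfl
  have hST : S * T = T * S := by
    rw [hTdef]; exact (Commute.pow_right (Commute.refl S) _).eq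
  -- the first identity
  have hI1 : (S - 1) * (T + 1) = 0 := by
    apply hext; intro a
    have hb : τ (τ a * a) = τ a * a := by rw [map_mul, hττ, mul_comm]
    have h1 := hfix _ hb
    have h2 : (T + 1) (Additive.ofMul a) = Additive.ofMul (τ a * a) := by
      rw [LinearMap.add_apply, hT, Module.End.one_apply, ofMul_mul]
    rw [Module.End.mul_apply, h2, LinearMap.sub_apply, hS, h1, Module.End.one_apply, sub_self]
    rfl
  -- the range of `T - 1`
  have h2ne : (2 : ZMod ℓ) ≠ 0 := by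
    intro h0
    have h1 : ((2 : ℕ) : ZMod ℓ) = 0 := by exact_mod_cast h0
    have h2 := (CharP.cast_eq_zero_iff (ZMod ℓ) ℓ 2).mp h1
    exact hℓ2 ((Nat.prime_dvd_prime_iff_eq hℓp.out Nat.prime_two).mp h2)
  obtain ⟨U, hUdef⟩ : ∃ U : Submodule (ZMod ℓ) (Additive A), U = LinearMap.range (T - 1) :=
    ⟨_, rfl⟩
  have hUmem : ∀ x : Additive A, x ∈ U ↔ τ (Additive.toMul x) = (Additive.toMul x)⁻¹ := by
    intro x
    rw [hUdef, LinearMap.mem_range]
    constructor
    · rintro ⟨y, rfl⟩
      obtain ⟨a, rfl⟩ := Additive.ofMul.surjective y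
      rw [LinearMap.sub_apply, hT, Module.End.one_apply, ← ofMul_div, toMul_ofMul, map_div, hττ,
        inv_div]
    · intro hx
      obtain ⟨b, rfl⟩ := Additive.ofMul.surjective x
      rw [toMul_ofMul] at hx
      refine ⟨(-2 : ZMod ℓ)⁻¹ • Additive.ofMul b, ?_⟩
      have h1 : (T - 1) (Additive.ofMul b) = (-2 : ZMod ℓ) • Additive.ofMul b := by
        rw [LinearMap.sub_apply, hT, hx, Module.End.one_apply, ofMul_inv, neg_smul, two_smul]
        abel
      rw [map_smul, h1, smul_smul, inv_mul_cancel₀ (neg_ne_zero.mpr h2ne), one_smul]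
  have hcardU : Nat.card U = ℓ ^ 2 := by
    rw [← hcard]
    refine Nat.card_congr (Equiv.subtypeEquiv (Additive.toMul : Additive A ≃ A) (fun x => ?_))
    exact hUmem x
  have hfrU : finrank (ZMod ℓ) U = 2 := by
    have h1 := Module.natCard_eq_pow_finrank (K := ZMod ℓ) (V := U)
    rw [hcardU, Nat.card_zmod] at h1
    exact (Nat.pow_right_injective hℓp.out.two_le h1).symm
  have hSU : ∀ x ∈ U, S x ∈ U := by
    intro x hx
    rw [hUdef, LinearMap.mem_range] at hx ⊢
    obtain ⟨y, rfl⟩ := hx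
    refine ⟨S y, ?_⟩
    rw [LinearMap.sub_apply, LinearMap.sub_apply, Module.End.one_apply, Module.End.one_apply,
      map_sub, ← Module.End.mul_apply, ← Module.End.mul_apply, hST]
  obtain ⟨Su, hSu⟩ : ∃ Su : Module.End (ZMod ℓ) U, Su = S.restrict hSU := ⟨_, rfl⟩
  have hSuapp : ∀ u : U, ((Su u : U) : Additive A) = S (u : Additive A) := by
    intro u; rw [hSu]; rfl
  have hmonic : Su.charpoly.Monic := LinearMap.charpoly_monic Su
  have hdeg : Su.charpoly.natDegree = 2 := by rw [LinearMap.charpoly_natDegree, hfrU]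
  have hCH := LinearMap.aeval_self_charpoly Su
  obtain ⟨c0, hc0⟩ : ∃ c0 : ZMod ℓ, c0 = Su.charpoly.coeff 0 := ⟨_, rfl⟩
  obtain ⟨c1, hc1⟩ : ∃ c1 : ZMod ℓ, c1 = Su.charpoly.coeff 1 := ⟨_, rfl⟩
  have hquad : Su * Su + c1 • Su + c0 • 1 = 0 := by
    have h1 := hmonic.as_sum
    rw [hdeg, Finset.sum_range_succ, Finset.sum_range_one, ← hc0, ← hc1] at h1
    rw [h1] at hCH
    simp only [map_add, map_mul, map_pow, Polynomial.aeval_X, Polynomial.aeval_C, pow_zero,
      pow_one, mul_one] at hCH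
    rw [← hCH, pow_two, Algebra.algebraMap_eq_smul_one, Algebra.algebraMap_eq_smul_one,
      smul_mul_assoc, one_mul]
    abel
  have hI2 : (S * S - (-c1) • S + c0 • 1) * (T - 1) = 0 := by
    refine LinearMap.ext (fun x => ?_)
    have hu : (T - 1) x ∈ U := by rw [hUdef]; exact LinearMap.mem_range_self _ x
    have h1 := congrArg (fun B : Module.End (ZMod ℓ) U => ((B ⟨(T - 1) x, hu⟩ : U) : Additive A))
      hquad
    simp only [LinearMap.add_apply, Module.End.mul_apply, LinearMap.smul_apply,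
      Module.End.one_apply, Submodule.coe_add, Submodule.coe_smul, hSuapp, LinearMap.zero_apply,
      Submodule.coe_zero] at h1
    rw [Module.End.mul_apply, LinearMap.add_apply, LinearMap.sub_apply, Module.End.mul_apply,
      LinearMap.smul_apply, LinearMap.smul_apply, Module.End.one_apply, LinearMap.zero_apply,
      neg_smul, sub_neg_eq_add]
    exact h1
  -- base change
  obtain ⟨bc, hbc, hbcs⟩ : ∃ bc : Module.End (ZMod ℓ) (Additive A) →+*
      Module.End (AlgebraicClosure (ZMod ℓ))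
        (Fin (finrank (ZMod ℓ) (Additive A)) → AlgebraicClosure (ZMod ℓ)),
      Function.Injective bc ∧ ∀ (c : ZMod ℓ) B, bc (c • B)
        = (algebraMap (ZMod ℓ) (AlgebraicClosure (ZMod ℓ)) c) • bc B :=
    ⟨bcEnd (ZMod ℓ) (AlgebraicClosure (ZMod ℓ)) (Additive A),
      bcEnd_injective (ZMod ℓ) (AlgebraicClosure (ZMod ℓ)) (Additive A),
      bcEnd_smul (ZMod ℓ) (AlgebraicClosure (ZMod ℓ)) (Additive A)⟩
  have hK : ∀ r : ℕ, r.Prime → r ≠ ℓ → ((r : ℕ) : AlgebraicClosure (ZMod ℓ)) ≠ 0 := by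
    intro r hr hrℓ h0
    have h1 : ((r : ℕ) : AlgebraicClosure (ZMod ℓ))
        = algebraMap (ZMod ℓ) (AlgebraicClosure (ZMod ℓ)) (r : ZMod ℓ) :=
      (map_natCast _ r).symm
    rw [h1, map_eq_zero] at h0
    have h2 := (CharP.cast_eq_zero_iff (ZMod ℓ) ℓ r).mp h0
    exact hrℓ ((Nat.prime_dvd_prime_iff_eq hℓp.out hr).mp h2).symm
  obtain ⟨σ', hσ'⟩ : ∃ σ' : Representation (AlgebraicClosure (ZMod ℓ)) Q
      (Fin (finrank (ZMod ℓ) (Additive A)) → AlgebraicClosure (ZMod ℓ)),
      ∀ g, σ' g = bc (ρ g) :=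
    ⟨(bc : Module.End (ZMod ℓ) (Additive A) →* _).comp ρ, fun g => rfl⟩
  have hgood := l2_main s m hs2 hm hexc (hK 2 Nat.prime_two (Ne.symm hℓ2)) (hK s hs.out hsℓ)
    (algebraMap (ZMod ℓ) (AlgebraicClosure (ZMod ℓ)) (-c1))
    (algebraMap (ZMod ℓ) (AlgebraicClosure (ZMod ℓ)) c0) _ Q _ σ' (bc S) (bc S') φ rfl
  have hres := hgood hQ (by rw [← map_mul, hSS', map_one]) (by rw [← map_mul, hS'S, map_one])
    (by intro g; rw [hσ', hσ', ← map_mul, hcS, map_mul])
    (by rw [← map_pow, hSP, map_one])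
    (by
      have := congrArg bc hI1
      rw [hTdef] at this
      simpa only [map_mul, map_sub, map_add, map_pow, map_one, map_zero] using this)
    (by
      have := congrArg bc hI2
      rw [hTdef] at this
      simpa only [map_mul, map_sub, map_add, map_pow, map_one, map_zero, hbcs] using this)
  intro g a
  have h1 := hres g
  rw [hσ', hσ'] at h1
  have h2 := hbc h1
  have h3 := congrArg (fun B : Module.End (ZMod ℓ) (Additive A) => B (Additive.ofMul a)) h2
  simp only [hρa] at h3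
  exact Additive.ofMul.injective h3

end Cfsg.Agent.Lib.Helper3.Sh
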