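import Mathlib
import Cfsg.Agent.Lib.Helper3.HHB6
import Cfsg.Agent.Lib.Helper3.HHC1
import Cfsg.Agent.Lib.Helper3.HHC4
import Cfsg.Agent.Lib.Helper3.HHC5
import Cfsg.Agent.Lib.Helper3.HHC6
import Cfsg.Agent.Lib.Helper3.ShA
import Cfsg.Agent.Lib.Helper3.ShB
import Cfsg.Agent.Lib.Helper3.ShC
import Cfsg.Agent.Lib.Helper3.ShE
import Cfsg.Agent.Lib.Helper3.ShR

/-!
# Gross, part H: the core of the bottom configuration (dimension, order of the central quotient and
the comparison of the commutant with the orbits on the central quotient), and the splitting of an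
abelian group of odd order under an involution.
-/

set_option autoImplicit false
set_option maxHeartbeats 4000000
set_option maxRecDepth 100000
set_option linter.unusedVariables false
set_option linter.unusedSectionVars false
set_option linter.style.haveILetI false
set_option linter.deprecated false

namespace Cfsg.Agent.Lib.Helper3.Sh

open Module Cfsg.Agent.Lib.Helper3 Cfsg.Agent.Lib.Helper3.HHC1

theorem bot_core (p s : ℕ) [hp : Fact p.Prime] [hs : Fact s.Prime]
    {K : Type*} [Field K] [IsAlgClosed K] (hpK : (p : K) ≠ 0) (hsK : (s : K) ≠ 0)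
    {R : Type*} [Group R] [Finite R] {W : Type*} [AddCommGroup W] [Module K W]
    [FiniteDimensional K W] [Nontrivial W]
    (σ : Representation K R W) (X X' : Module.End K W) (φ : MulAut R) (hR : IsPGroup s R)
    (hXX' : X * X' = 1) (hX'X : X' * X = 1) (hcompat : ∀ g, X * σ g = σ (φ g) * X)
    (N : ℕ) (hXP : X ^ (p ^ (N + 1)) = 1)
    (hfaith : Function.Injective σ)
    (hirrX : ∀ U : Submodule K W, (∀ g, ∀ w ∈ U, σ g w ∈ U) → (∀ w ∈ U, X w ∈ U) →
      U = ⊥ ∨ U = ⊤)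
    (hZsc : ∀ z ∈ Subgroup.center R, ∃ μ : K, σ z = μ • (1 : Module.End K W))
    (hcl2 : ∀ a b : R, a * b * a⁻¹ * b⁻¹ ∈ Subgroup.center R) :
    ∃ (b : ℕ) (π : Equiv.Perm (R ⧸ Subgroup.center R)), finrank K W = s ^ b ∧
      Nat.card (R ⧸ Subgroup.center R) = (finrank K W) ^ 2 ∧
      (∀ g : R, π (g : R ⧸ Subgroup.center R) = ((φ g : R) : R ⧸ Subgroup.center R)) ∧
      finrank K (commutant X) ≤
        Nat.card (MulAction.orbitRel.Quotient (Subgroup.zpowers π) (R ⧸ Subgroup.center R)) := by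
  classical
  have hp1 : 1 < p := hp.out.one_lt
  obtain ⟨M, hM⟩ : ∃ M, M = p ^ (N + 1) := ⟨_, rfl⟩
  rw [← hM] at hXP
  have hM0 : 0 < M := by rw [hM]; exact pow_pos hp.out.pos _
  have hMK : (M : K) ≠ 0 := by rw [hM, Nat.cast_pow]; exact pow_ne_zero _ hpK
  have hφP : φ ^ M = 1 := by
    ext g
    apply hfaith
    have h1 := compat_pow σ X φ hcompat M g
    rw [hXP, one_mul, mul_one] at h1
    rw [← h1]; rfl
  obtain ⟨m, hm⟩ := IsPGroup.iff_card.mp hR
  haveI : Fintype R := Fintype.ofFinite R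
  have hcardK' : (Nat.card R : K) ≠ 0 := by
    rw [hm, Nat.cast_pow]
    exact pow_ne_zero _ hsK
  have hσφ : ∀ g, σ (φ g) = X * σ g * X' := by
    intro g; rw [hcompat, mul_assoc, hXX', mul_one]
  have hnc : ∀ g, g ∉ Subgroup.center R →
      ∃ (h : R) (c : K), c ≠ 1 ∧ σ h * σ g = c • (σ g * σ h) := by
    intro g hg
    rw [Subgroup.mem_center_iff] at hg
    push Not at hg
    obtain ⟨h, hh⟩ := hg
    have hrel : h * g = (h * g * h⁻¹ * g⁻¹) * (g * h) := by group
    have hz1 : h * g * h⁻¹ * g⁻¹ ≠ 1 := by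
      intro h1
      apply hh
      rw [hrel, h1, one_mul]
    have hzcen : h * g * h⁻¹ * g⁻¹ ∈ Subgroup.center R := hcl2 h g
    obtain ⟨c, hc⟩ := hZsc _ hzcen
    refine ⟨h, c, ?_, ?_⟩
    · intro hc1
      apply hz1
      apply hfaith
      rw [hc, hc1, one_smul, map_one]
    · rw [← map_mul, hrel, map_mul, hc, smul_mul_assoc, one_mul, map_mul]
  have hcZK : (Nat.card (Subgroup.center R) : K) ≠ 0 := by
    obtain ⟨a, ha⟩ := IsPGroup.iff_card.mp (hR.to_subgroup (Subgroup.center R))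
    rw [ha, Nat.cast_pow]
    exact pow_ne_zero _ hsK
  have hhom : ∀ (W₁ W₂ : Submodule K W) (h₁ : ∀ g, ∀ w ∈ W₁, σ g w ∈ W₁)
      (h₂ : ∀ g, ∀ w ∈ W₂, σ g w ∈ W₂), W₁ ≠ ⊥ → W₂ ≠ ⊥ →
      (∀ U : Submodule K W, U ≤ W₁ → (∀ g, ∀ w ∈ U, σ g w ∈ U) → U = ⊥ ∨ U = W₁) →
      ∃ f : W₁ →ₗ[K] W₂, f ≠ 0 ∧
        ∀ g w, f (resRep σ W₁ h₁ g w) = resRep σ W₂ h₂ g (f w) := by
    intro W₁ W₂ h₁ h₂ hW₁ne hW₂ne hW₁simple
    haveI : Nontrivial W₁ := Submodule.nontrivial_iff_ne_bot.mpr hW₁ne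
    obtain ⟨b, hb⟩ := HHB6.finrank_prime_pow s (resRep σ W₁ h₁) hR
      (HHC6.resRep_irr σ W₁ h₁ hW₁simple)
    have hd₁ : (finrank K W₁ : K) ≠ 0 := by
      rw [hb, Nat.cast_pow]
      exact pow_ne_zero _ hsK
    exact HHC4.exists_hom_of_central_char σ hZsc hnc W₁ W₂ h₁ h₂ hd₁ hcZK hW₂ne
  have hirrQ := HHC5.irr_of_homogeneous σ X X' hXX' hX'X φ hcompat hirrX hhom
  have hirrQ' : ∀ U : Submodule K W, (∀ g, Submodule.map (σ g) U ≤ U) → U = ⊥ ∨ U = ⊤ :=
    fun U hU => hirrQ U (fun g w hw => hU g (Submodule.mem_map_of_mem hw))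
  obtain ⟨b, hb⟩ := HHB6.finrank_prime_pow s σ hR hirrQ'
  have hnK : (finrank K W : K) ≠ 0 := by
    rw [hb, Nat.cast_pow]
    exact pow_ne_zero _ hsK
  obtain ⟨hout, hspan, hcount⟩ := quot_center_count σ hirrQ' hZsc hnc hnK hcardK'
  -- the induced permutation of `R ⧸ Z(R)`
  have hcenφ : ∀ (ψ : MulAut R) (g : R), g ∈ Subgroup.center R → ψ g ∈ Subgroup.center R := by
    intro ψ g hg
    rw [Subgroup.mem_center_iff] at hg ⊢
    intro h
    have h2 := congrArg ψ (hg (ψ⁻¹ h))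
    rw [map_mul, map_mul, MulAut.apply_inv_self] at h2
    exact h2
  have hmap : (Subgroup.center R).map (φ : R →* R) = Subgroup.center R := by
    ext h
    rw [Subgroup.mem_map]
    constructor
    · rintro ⟨g, hg, rfl⟩
      exact hcenφ φ g hg
    · intro hh
      exact ⟨φ⁻¹ h, hcenφ φ⁻¹ h hh, MulAut.apply_inv_self _ φ h⟩
  obtain ⟨φ', hφ'def⟩ : ∃ φ' : MulAut (R ⧸ Subgroup.center R),
      φ' = QuotientGroup.congr (Subgroup.center R) (Subgroup.center R) φ hmap := ⟨_, rfl⟩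
  have hφ' : ∀ g : R, φ' (g : R ⧸ Subgroup.center R) = ((φ g : R) : R ⧸ Subgroup.center R) := by
    intro g; rw [hφ'def]; exact QuotientGroup.congr_mk _ _ _ _ g
  obtain ⟨π, hπdef⟩ : ∃ π : Equiv.Perm (R ⧸ Subgroup.center R), π = φ'.toEquiv := ⟨_, rfl⟩
  have hπ : ∀ g : R, π (g : R ⧸ Subgroup.center R) = ((φ g : R) : R ⧸ Subgroup.center R) := by
    intro g; rw [hπdef]; exact hφ' g
  have hπpow : ∀ (k : ℕ) (g : R),
      (π ^ k) (g : R ⧸ Subgroup.center R) = (((φ ^ k) g : R) : R ⧸ Subgroup.center R) := by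
    intro k
    induction k with
    | zero => intro g; rfl
    | succ k ih =>
      intro g
      rw [pow_succ', Equiv.Perm.mul_apply, ih, hπ, pow_succ', MulAut.mul_apply]
  -- the operator `T ↦ X T X'`
  obtain ⟨A, hAdef⟩ : ∃ A : Module.End K (Module.End K W),
      A = (LinearMap.mulLeft K X).comp (LinearMap.mulRight K X') := ⟨_, rfl⟩
  have hAapp : ∀ T, A T = X * (T * X') := by
    intro T; rw [hAdef]; rfl
  have hX'P : X' ^ M = 1 := by
    have := pow_mul_pow_eq_one X X' hXX' hX'X M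
    rwa [hXP, one_mul] at this
  have hApow : ∀ (k : ℕ) T, (A ^ k) T = X ^ k * (T * X' ^ k) := by
    intro k
    induction k with
    | zero => intro T; simp
    | succ k ih =>
      intro T
      rw [pow_succ', Module.End.mul_apply, ih, hAapp, pow_succ', pow_succ]
      noncomm_ring
  have hAp : A ^ M = 1 := by
    ext T : 1
    rw [hApow, hXP, hX'P, one_mul, mul_one]; rfl
  have hAu : ∀ c : R ⧸ Subgroup.center R, ∃ a : K, a ≠ 0 ∧
      A (σ (Quotient.out c)) = a • σ (Quotient.out (π c)) := by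
    intro c
    obtain ⟨μ, hμ0, hμ⟩ := hout (φ (Quotient.out c))
    refine ⟨μ, hμ0, ?_⟩
    rw [hAapp, ← mul_assoc, ← hσφ, hμ]
    congr 2
    rw [← hπ, QuotientGroup.out_eq']
  have hdim := finrank_fixed_le_orbits (fun c : R ⧸ Subgroup.center R => σ (Quotient.out c))
    hspan π A hAu M hMK hAp
  have hcomm_le : commutant X ≤ LinearMap.ker (A - 1) := by
    intro T hT
    rw [mem_commutant] at hT
    rw [LinearMap.mem_ker, LinearMap.sub_apply, Module.End.one_apply, hAapp, ← mul_assoc, ← hT,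
      mul_assoc, hXX', mul_one, sub_self]
  have hdim2 : finrank K (commutant X) ≤ finrank K (LinearMap.ker (A - 1)) :=
    Submodule.finrank_mono hcomm_le
  exact ⟨b, π, hb, hcount, hπ, le_trans hdim2 hdim⟩

/-- An abelian group of odd order with an involutory automorphism is the product of the fixed
points and the inverted elements. -/
theorem card_fix_mul_card_inv {A : Type*} [CommGroup A] [Finite A] (hodd : Odd (Nat.card A))
    (τ : MulAut A) (hτ : ∀ a, τ (τ a) = a) :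
    Nat.card A = Nat.card {a : A // τ a = a} * Nat.card {a : A // τ a = a⁻¹} := by
  classical
  have hsq : ∀ c : A, c * c = 1 → c = 1 := by
    intro c hc
    have h1 : orderOf c ∣ 2 := orderOf_dvd_of_pow_eq_one (by rw [pow_two]; exact hc)
    have h2 : orderOf c ∣ Nat.card A := orderOf_dvd_natCard c
    have hcop : Nat.Coprime 2 (Nat.card A) := (Nat.coprime_two_left).mpr hodd
    have h3 : orderOf c ∣ 1 := by
      have := Nat.dvd_gcd h1 h2
      rwa [hcop] at this
    exact orderOf_eq_one_iff.mp (Nat.dvd_one.mp h3)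
  have h1 : Nat.card A ≤ Nat.card ({a : A // τ a = a} × {a : A // τ a = a⁻¹}) := by
    refine Nat.card_le_card_of_injective
      (fun a : A => ((⟨a * τ a, by rw [map_mul, hτ, mul_comm]⟩ : {a : A // τ a = a}),
        (⟨a * (τ a)⁻¹, by rw [map_mul, map_inv, hτ, mul_inv_rev, inv_inv]⟩ :
          {a : A // τ a = a⁻¹}))) ?_
    intro a b hab
    have e1 : a * τ a = b * τ b := congrArg (fun x => (x.1 : A)) hab
    have e2 : a * (τ a)⁻¹ = b * (τ b)⁻¹ := congrArg (fun x => (x.2 : A)) hab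
    have e3 : (a * b⁻¹) * (a * b⁻¹) = 1 := by
      have : (a * b⁻¹) * (a * b⁻¹) = (a * τ a) * (a * (τ a)⁻¹) * ((b * τ b) * (b * (τ b)⁻¹))⁻¹ := by
        rw [mul_inv_rev, mul_inv_rev, mul_inv_rev, inv_inv]
        have ha : (a * τ a) * (a * (τ a)⁻¹) = a * a := by
          rw [mul_mul_mul_comm, mul_inv_cancel, mul_one]
        have hb : (τ b * b⁻¹) * ((τ b)⁻¹ * b⁻¹) = b⁻¹ * b⁻¹ := by
          rw [mul_mul_mul_comm, mul_inv_cancel, one_mul]
        rw [ha, hb]
        rw [mul_mul_mul_comm]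
      rw [this, e1, e2, mul_inv_cancel]
    have := hsq _ e3
    exact mul_inv_eq_one.mp this
  have h2 : Nat.card ({a : A // τ a = a} × {a : A // τ a = a⁻¹}) ≤ Nat.card A := by
    refine Nat.card_le_card_of_injective
      (fun x : {a : A // τ a = a} × {a : A // τ a = a⁻¹} => (x.1 : A) * (x.2 : A)) ?_
    rintro ⟨⟨u, hu⟩, ⟨v, hv⟩⟩ ⟨⟨u', hu'⟩, ⟨v', hv'⟩⟩ h
    have h' : u * v = u' * v' := h
    -- `c = u'⁻¹ u = v' v⁻¹` is fixed and inverted
    have hc1 : u'⁻¹ * u = v' * v⁻¹ := by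
      rw [inv_mul_eq_iff_eq_mul, ← mul_assoc, ← h', mul_assoc, mul_inv_cancel, mul_one]
    have hcfix : τ (u'⁻¹ * u) = u'⁻¹ * u := by rw [map_mul, map_inv, hu, hu']
    have hcinv : τ (u'⁻¹ * u) = (u'⁻¹ * u)⁻¹ := by
      rw [hc1, map_mul, map_inv, hv, hv', mul_inv_rev, inv_inv, mul_comm]
    have hcc : (u'⁻¹ * u) * (u'⁻¹ * u) = 1 := by
      have : (u'⁻¹ * u)⁻¹ = u'⁻¹ * u := by rw [← hcinv, hcfix]
      nth_rewrite 1 [← this]
      exact inv_mul_cancel _
    have hc := hsq _ hcc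
    have huu : u = u' := by
      have := inv_mul_eq_one.mp hc
      exact this.symm
    have hvv : v = v' := by
      rw [huu] at h'
      exact mul_left_cancel h'
    subst huu; subst hvv
    rfl
  rw [← Nat.card_prod]
  exact le_antisymm h1 h2

end Cfsg.Agent.Lib.Helper3.Sh
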