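import Mathlib
import Cfsg.Agent.Lib.Helper3.HHC1

/-!
# Gross, part I: a minimal subspace invariant under a representation and a normalising operator,
with the restricted data.
-/

set_option autoImplicit false
set_option maxHeartbeats 4000000
set_option maxRecDepth 100000
set_option linter.unusedVariables false
set_option linter.unusedSectionVars false
set_option linter.style.haveILetI false
set_option linter.deprecated false

namespace Cfsg.Agent.Lib.Helper3.Sh

open Module Cfsg.Agent.Lib.Helper3 Cfsg.Agent.Lib.Helper3.HHC1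

theorem min_sub_data {K : Type*} [Field K] {W : Type*} [AddCommGroup W] [Module K W]
    [FiniteDimensional K W] [Nontrivial W] {G : Type*} [Group G]
    (σ : Representation K G W) (X X' : Module.End K W) (φ : MulAut G)
    (hXX' : X * X' = 1) (hX'X : X' * X = 1) (hcompat : ∀ g, X * σ g = σ (φ g) * X)
    (M : ℕ) (hXM : X ^ M = 1) (hNX : ∑ i ∈ Finset.range M, X ^ i = 0) :
    ∃ (U : Submodule K W) (hσU : ∀ g, ∀ w ∈ U, σ g w ∈ U) (hXU : ∀ w ∈ U, X w ∈ U)
      (hX'U : ∀ w ∈ U, X' w ∈ U), U ≠ ⊥ ∧
      (X.restrict hXU : Module.End K U) * X'.restrict hX'U = 1 ∧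
      (X'.restrict hX'U : Module.End K U) * X.restrict hXU = 1 ∧
      (∀ g, (X.restrict hXU : Module.End K U) * resRep σ U hσU g
        = resRep σ U hσU (φ g) * X.restrict hXU) ∧
      (X.restrict hXU : Module.End K U) ^ M = 1 ∧
      ∑ i ∈ Finset.range M, (X.restrict hXU : Module.End K U) ^ i = 0 ∧
      (∀ U' : Submodule K U, (∀ g, ∀ w ∈ U', resRep σ U hσU g w ∈ U') →
        (∀ w ∈ U', (X.restrict hXU : Module.End K U) w ∈ U') → U' = ⊥ ∨ U' = ⊤) := by
  classical
  obtain ⟨U, ⟨hUne, hσU, hXU⟩, hUmin⟩ := IsArtinian.set_has_minimal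
    {U : Submodule K W | U ≠ ⊥ ∧ (∀ g, ∀ w ∈ U, σ g w ∈ U) ∧ ∀ w ∈ U, X w ∈ U}
    ⟨⊤, top_ne_bot, fun _ _ _ => trivial, fun _ _ => trivial⟩
  have hX'U := inv_mem_of_mem X X' hX'X U hXU
  refine ⟨U, hσU, hXU, hX'U, hUne, ?_, ?_, ?_, ?_, ?_, ?_⟩
  · refine LinearMap.ext (fun w => Subtype.ext ?_)
    show X (X' (w : W)) = (w : W)
    rw [← Module.End.mul_apply, hXX']; rfl
  · refine LinearMap.ext (fun w => Subtype.ext ?_)
    show X' (X (w : W)) = (w : W)
    rw [← Module.End.mul_apply, hX'X]; rfl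
  · intro g
    refine LinearMap.ext (fun w => Subtype.ext ?_)
    show X (σ g (w : W)) = σ (φ g) (X (w : W))
    have := congrArg (fun A : Module.End K W => A (w : W)) (hcompat g)
    simpa using this
  · refine LinearMap.ext (fun w => Subtype.ext ?_)
    rw [restrict_pow_coe, hXM]; rfl
  · refine LinearMap.ext (fun w => Subtype.ext ?_)
    rw [LinearMap.sum_apply]
    have h6 : ((∑ i ∈ Finset.range M, ((X.restrict hXU : Module.End K U) ^ i) w : U) : W)
        = ∑ i ∈ Finset.range M, (X ^ i) (w : W) := by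
      rw [Submodule.coe_sum]
      exact Finset.sum_congr rfl (fun i _ => restrict_pow_coe X U hXU i w)
    rw [h6, ← LinearMap.sum_apply, hNX]; rfl
  · intro U' h1 h2
    have hle : U'.map U.subtype ≤ U := Submodule.map_subtype_le U U'
    have hinv1 : ∀ g, ∀ w ∈ U'.map U.subtype, σ g w ∈ U'.map U.subtype := by
      intro g w hw
      obtain ⟨e, he, rfl⟩ := Submodule.mem_map.mp hw
      exact Submodule.mem_map.mpr ⟨resRep σ U hσU g e, h1 g e he, rfl⟩
    have hinv2 : ∀ w ∈ U'.map U.subtype, X w ∈ U'.map U.subtype := by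
      intro w hw
      obtain ⟨e, he, rfl⟩ := Submodule.mem_map.mp hw
      exact Submodule.mem_map.mpr ⟨(X.restrict hXU) e, h2 e he, rfl⟩
    by_cases h0 : U'.map U.subtype = ⊥
    · left
      rw [Submodule.eq_bot_iff]
      intro e he
      have : (e : W) ∈ U'.map U.subtype := Submodule.mem_map.mpr ⟨e, he, rfl⟩
      rw [h0, Submodule.mem_bot] at this
      exact Subtype.ext this
    · right
      have heq : U'.map U.subtype = U := by
        by_contra hne
        exact hUmin _ ⟨h0, hinv1, hinv2⟩ (lt_of_le_of_ne hle hne)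
      rw [Submodule.eq_top_iff']
      intro e
      have : (e : W) ∈ U'.map U.subtype := by rw [heq]; exact e.2
      obtain ⟨e', he', hee'⟩ := Submodule.mem_map.mp this
      have : e' = e := Subtype.ext hee'
      rwa [← this]

end Cfsg.Agent.Lib.Helper3.Sh
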