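import Mathlib
import Cfsg.Agent.Lib.Helper3.HHC1
import Cfsg.Agent.Lib.Helper3.ShV
import Cfsg.Agent.Lib.Helper3.GrB
import Cfsg.Agent.Lib.Helper3.GrC
import Cfsg.Agent.Lib.Helper3.GrI
import Cfsg.Agent.Lib.Helper8.FP4a
import Cfsg.Agent.Lib.Helper6.WdA

/-!
# Gross, part J: a faithful `s`-group of class at most two with scalar centre, normalised by an
operator of order `2 ^ (n + 1)` without fixed vectors.  First stage: the preimage of the inverted
part of the central quotient.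
-/

set_option autoImplicit false
set_option maxHeartbeats 4000000
set_option maxRecDepth 100000
set_option linter.unusedVariables false
set_option linter.unusedSectionVars false
set_option linter.style.haveILetI false
set_option linter.deprecated false

namespace Cfsg.Agent.Lib.Helper3.Sh

open Module Cfsg.Agent.Lib.Helper3 Cfsg.Agent.Lib.Helper3.HHC1 Cfsg.Agent.Lib.Helper8.FP4
  Cfsg.Agent.Lib.Helper6.Wd

theorem ti_basic (s n : ℕ) [hs : Fact s.Prime] (hs2 : s ≠ 2)
    {K : Type*} [Field K] [IsAlgClosed K] (hsK : (s : K) ≠ 0)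
    {T : Type*} [Group T] [Finite T] (hT : IsPGroup s T)
    {W : Type*} [AddCommGroup W] [Module K W] [FiniteDimensional K W]
    (σ : Representation K T W) (X : Module.End K W) (φ : MulAut T)
    (hcompat : ∀ g, X * σ g = σ (φ g) * X) (hXP : X ^ (2 ^ (n + 1)) = 1)
    (hNX : ∑ i ∈ Finset.range (2 ^ (n + 1)), X ^ i = 0) (hfaith : Function.Injective σ)
    (hcl2 : ∀ a b : T, a * b * a⁻¹ * b⁻¹ ∈ Subgroup.center T) :
    φ ^ (2 ^ (n + 1)) = 1 ∧ (∀ z ∈ Subgroup.center T, (φ ^ (2 ^ n)) z = z) ∧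
    (∀ c : T, c * c = 1 → c = 1) ∧
    (∀ g : T, g * g ∈ Subgroup.center T → g ∈ Subgroup.center T) ∧
    (∀ x y : T ⧸ Subgroup.center T, x * y = y * x) ∧
    (∀ A₀ : Subgroup T, (∀ a ∈ A₀, ∀ b ∈ A₀, a * b = b * a) → Inv φ A₀ →
      ∀ a ∈ A₀, (φ ^ (2 ^ n)) a = a) := by
  classical
  haveI : Fact (Nat.Prime 2) := ⟨Nat.prime_two⟩
  have hφP : φ ^ (2 ^ (n + 1)) = 1 := by
    ext g
    apply hfaith
    have h1 := compat_pow σ X φ hcompat (2 ^ (n + 1)) g
    rw [hXP, one_mul, mul_one] at h1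
    rw [← h1]; rfl
  have hsodd : Odd s := by
    rcases hs.out.eq_two_or_odd' with h | h
    · exact absurd h hs2
    · exact h
  have habfix : ∀ A₀ : Subgroup T, (∀ a ∈ A₀, ∀ b ∈ A₀, a * b = b * a) → Inv φ A₀ →
      ∀ a ∈ A₀, (φ ^ (2 ^ n)) a = a := by
    intro A₀ hab hinv a ha
    apply hfaith
    refine abelian_fixed 2 σ X φ hcompat n hXP hNX A₀ ?_ ?_ ?_ a ha
    · intro a ha b hb
      rw [← map_mul, ← map_mul, hab a ha b hb]
    · intro g
      exact (Inv.apply_mem_iff hinv g).symm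
    · obtain ⟨k, hk⟩ := IsPGroup.iff_card.mp (hT.to_subgroup A₀)
      rw [hk, Nat.cast_pow]
      exact pow_ne_zero _ hsK
  have hodd1 : ∀ c : T, c * c = 1 → c = 1 := by
    intro z hz
    obtain ⟨k, hk⟩ := (IsPGroup.iff_orderOf.mp hT) z
    have h1 : orderOf z ∣ 2 := orderOf_dvd_of_pow_eq_one (by rw [pow_two]; exact hz)
    have h2 : orderOf z ∣ s ^ k := by rw [hk]
    have hcop : Nat.Coprime 2 (s ^ k) := by
      apply Nat.Coprime.pow_right
      exact (Nat.coprime_primes Nat.prime_two hs.out).mpr (Ne.symm hs2)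
    have h3 : orderOf z ∣ 1 := by
      have := Nat.dvd_gcd h1 h2
      rwa [hcop] at this
    exact orderOf_eq_one_iff.mp (Nat.dvd_one.mp h3)
  refine ⟨hφP, ?_, hodd1, ?_, ?_, habfix⟩
  · intro z hz
    refine habfix (Subgroup.center T) ?_ ?_ z hz
    · intro a ha b _
      exact (Subgroup.mem_center_iff.mp ha b).symm
    · intro g hg
      exact center_aut_mem φ g hg
  · intro g hg
    obtain ⟨k, hk⟩ := (IsPGroup.iff_orderOf.mp hT) g
    obtain ⟨a, ha⟩ : Odd (orderOf g) := by rw [hk]; exact hsodd.pow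
    have h1 : (g * g) ^ (a + 1) = g := by
      rw [← pow_two, ← pow_mul]
      have : 2 * (a + 1) = orderOf g + 1 := by omega
      rw [this, pow_succ, pow_orderOf_eq_one, one_mul]
    rw [← h1]
    exact Subgroup.pow_mem _ hg _
  · intro x y
    refine QuotientGroup.induction_on x (fun a => ?_)
    refine QuotientGroup.induction_on y (fun b => ?_)
    have h1 : a * b = (a * b * a⁻¹ * b⁻¹) * (b * a) := by group
    rw [← QuotientGroup.mk_mul, ← QuotientGroup.mk_mul, h1, QuotientGroup.mk_mul,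
      (QuotientGroup.eq_one_iff _).mpr (hcl2 a b), one_mul]

theorem ti_rstage (s n : ℕ) [hs : Fact s.Prime] (hs2 : s ≠ 2)
    {K : Type*} [Field K] [IsAlgClosed K] (h2K : ((2 : ℕ) : K) ≠ 0) (hsK : (s : K) ≠ 0)
    {T : Type*} [Group T] [Finite T] (hT : IsPGroup s T)
    {W : Type*} [AddCommGroup W] [Module K W] [FiniteDimensional K W] [Nontrivial W]
    (σ : Representation K T W) (X X' : Module.End K W) (φ : MulAut T)
    (hXX' : X * X' = 1) (hX'X : X' * X = 1)
    (hcompat : ∀ g, X * σ g = σ (φ g) * X) (hXP : X ^ (2 ^ (n + 1)) = 1)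
    (hNX : ∑ i ∈ Finset.range (2 ^ (n + 1)), X ^ i = 0) (hfaith : Function.Injective σ)
    (hZsc : ∀ z ∈ Subgroup.center T, ∃ μ : K, σ z = μ • (1 : Module.End K W))
    (hcl2 : ∀ a b : T, a * b * a⁻¹ * b⁻¹ ∈ Subgroup.center T)
    (τb : MulAut (T ⧸ Subgroup.center T))
    (hτb : ∀ g : T, τb (g : T ⧸ Subgroup.center T)
      = (((φ ^ (2 ^ n)) g : T) : T ⧸ Subgroup.center T)) :
    (∀ t : T, (φ ^ (2 ^ n)) t = t) ∨
      (s + 1 = 2 ^ (n + 1) ∧
        Nat.card {ω : T ⧸ Subgroup.center T // τb ω = ω⁻¹} = s ^ 2) := by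
  classical
  obtain ⟨hφP, hcenfix, hodd1, hsqrt, hcommΩ, habfix⟩ :=
    ti_basic s n hs2 hsK hT σ X φ hcompat hXP hNX hfaith hcl2
  obtain ⟨τ, hτdef⟩ : ∃ τ : MulAut T, τ = φ ^ (2 ^ n) := ⟨_, rfl⟩
  rw [← hτdef] at hcenfix hτb habfix ⊢
  have hττ : ∀ g, τ (τ g) = g := by
    intro g
    rw [hτdef, ← MulAut.mul_apply, ← pow_add, ← two_mul, ← pow_succ', hφP]; rfl
  have hτφ : ∀ g, τ (φ g) = φ (τ g) := by
    intro g; rw [hτdef]; exact pow_comm_aut φ _ g
  -- the inverted part of the central quotient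
  obtain ⟨Ωm, hΩm⟩ : ∃ Ωm : Subgroup (T ⧸ Subgroup.center T), ∀ ω, ω ∈ Ωm ↔ τb ω = ω⁻¹ :=
    ⟨{ carrier := {ω | τb ω = ω⁻¹}
       one_mem' := by show τb 1 = 1⁻¹; rw [map_one, inv_one]
       mul_mem' := by
         intro a b ha hb
         show τb (a * b) = (a * b)⁻¹
         rw [map_mul, show τb a = a⁻¹ from ha, show τb b = b⁻¹ from hb, mul_inv_rev]
         exact hcommΩ _ _
       inv_mem' := by
         intro a ha
         show τb a⁻¹ = a⁻¹⁻¹
         rw [map_inv, show τb a = a⁻¹ from ha] }, fun ω => Iff.rfl⟩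
  obtain ⟨Rt, hRtdef⟩ : ∃ Rt : Subgroup T, Rt = Ωm.comap (QuotientGroup.mk' (Subgroup.center T)) :=
    ⟨_, rfl⟩
  have hmemΩ : ∀ g : T, g ∈ Rt ↔ (g : T ⧸ Subgroup.center T) ∈ Ωm := by
    intro g
    rw [hRtdef, Subgroup.mem_comap]
    rfl
  have hRtmem : ∀ g : T, g ∈ Rt ↔ g * τ g ∈ Subgroup.center T := by
    intro g
    rw [hmemΩ, hΩm]
    show τb (g : T ⧸ Subgroup.center T) = (g : T ⧸ Subgroup.center T)⁻¹ ↔ _
    rw [hτb, ← QuotientGroup.eq_one_iff, QuotientGroup.mk_mul]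
    constructor
    · intro h; rw [h, mul_inv_cancel]
    · intro h; exact (eq_inv_of_mul_eq_one_right h)
  have hRtφ : Inv φ Rt := by
    intro g hg
    rw [hRtmem] at hg ⊢
    rw [hτφ, ← map_mul]
    exact center_aut_mem φ _ hg
  have hZleR : ∀ z ∈ Subgroup.center T, z ∈ Rt := by
    intro z hz
    rw [hRtmem, hcenfix z hz]
    exact mul_mem hz hz
  obtain ⟨φR, hφRdef⟩ : ∃ φR : MulAut Rt, φR = restrictAut φ Rt hRtφ := ⟨_, rfl⟩
  have hφR : ∀ g : Rt, ((φR g : Rt) : T) = φ g := by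
    intro g; rw [hφRdef]; exact restrictAut_apply_coe φ Rt hRtφ g
  have hφRpow : ∀ (k : ℕ) (g : Rt), (((φR ^ k) g : Rt) : T) = (φ ^ k) g := by
    intro k g; rw [hφRdef]; exact restrictAut_pow_apply_coe φ Rt hRtφ k g
  -- the centre of `Rt` lies in the centre of `T`
  have hZR : ∀ z : Rt, z ∈ Subgroup.center Rt → (z : T) ∈ Subgroup.center T := by
    intro z hz
    have hA : ∀ a ∈ (Subgroup.center Rt).map Rt.subtype,
        ∀ b ∈ (Subgroup.center Rt).map Rt.subtype, a * b = b * a := by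
      rintro _ ⟨a, ha, rfl⟩ _ ⟨b, hb, rfl⟩
      have := Subgroup.mem_center_iff.mp ha b
      exact (congrArg Subtype.val this).symm
    have hAinv : Inv φ ((Subgroup.center Rt).map Rt.subtype) := by
      rintro _ ⟨a, ha, rfl⟩
      exact ⟨φR a, center_aut_mem φR a ha, hφR a⟩
    have hfix := habfix _ hA hAinv (z : T) ⟨z, hz, rfl⟩
    have hz2 := (hRtmem z).mp z.2
    rw [hfix] at hz2
    exact hsqrt _ hz2
  have hRZ : ∀ z : Rt, (z : T) ∈ Subgroup.center T → z ∈ Subgroup.center Rt := by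
    intro z hz
    rw [Subgroup.mem_center_iff]
    intro g
    apply Subtype.ext
    exact Subgroup.mem_center_iff.mp hz g
  -- the restricted configuration
  have hcompatR : ∀ g : Rt, X * (σ.comp Rt.subtype) g = (σ.comp Rt.subtype) (φR g) * X := by
    intro g
    show X * σ g.1 = σ (φR g).1 * X
    rw [hφR]; exact hcompat g.1
  obtain ⟨U, hσU, hXU, hX'U, hUne, d1, d2, d3, d4, d5, hirr⟩ :=
    min_sub_data (σ.comp Rt.subtype) X X' φR hXX' hX'X hcompatR (2 ^ (n + 1)) hXP hNX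
  haveI : Nontrivial U := Submodule.nontrivial_iff_ne_bot.mpr hUne
  obtain ⟨u₀, hu₀⟩ := exists_ne (0 : U)
  have hscal1 : ∀ z ∈ Subgroup.center T, (∀ u : U, σ z (u : W) = (u : W)) → z = 1 := by
    intro z hz hu
    obtain ⟨μ, hμ⟩ := hZsc z hz
    apply hfaith
    rw [map_one, hμ]
    have h1 := hu u₀
    rw [hμ, LinearMap.smul_apply, Module.End.one_apply] at h1
    have h2 : (μ - 1) • (u₀ : W) = 0 := by rw [sub_smul, h1, one_smul, sub_self]
    rcases smul_eq_zero.mp h2 with h | h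
    · rw [sub_eq_zero.mp h, one_smul]
    · exact absurd (Subtype.ext h) hu₀
  have hUapp : ∀ (g : Rt) (u : U), ((resRep (σ.comp Rt.subtype) U hσU g u : U) : W)
      = σ (g : T) (u : W) := fun g u => rfl
  have hfaithU : Function.Injective (resRep (σ.comp Rt.subtype) U hσU) := by
    rw [injective_iff_map_eq_one]
    intro k hk
    have hktriv : ∀ u : U, σ (k : T) (u : W) = (u : W) := by
      intro u
      rw [← hUapp, hk]; rfl
    have hkcen : k ∈ Subgroup.center Rt := by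
      rw [Subgroup.mem_center_iff]
      intro g
      have hc : ((g * k * g⁻¹ * k⁻¹ : Rt) : T) ∈ Subgroup.center T := hcl2 _ _
      have hkinv : resRep (σ.comp Rt.subtype) U hσU k⁻¹ = 1 := by
        have := map_mul (resRep (σ.comp Rt.subtype) U hσU) k⁻¹ k
        rw [inv_mul_cancel, map_one, hk, mul_one] at this
        exact this.symm
      have hc1 : ((g * k * g⁻¹ * k⁻¹ : Rt) : T) = 1 := by
        apply hscal1 _ hc
        intro u
        rw [← hUapp, map_mul, map_mul, map_mul, hk, hkinv, mul_one, mul_one, ← map_mul,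
          mul_inv_cancel, map_one]
        rfl
      have hc2 : g * k * g⁻¹ * k⁻¹ = 1 := Subtype.ext hc1
      calc g * k = (g * k * g⁻¹ * k⁻¹) * (k * g) := by group
        _ = k * g := by rw [hc2, one_mul]
    have := hscal1 _ (hZR k hkcen) hktriv
    exact Subtype.ext this
  have hZscU : ∀ z ∈ Subgroup.center Rt,
      ∃ μ : K, resRep (σ.comp Rt.subtype) U hσU z = μ • (1 : Module.End K U) := by
    intro z hz
    obtain ⟨μ, hμ⟩ := hZsc _ (hZR z hz)
    refine ⟨μ, LinearMap.ext (fun u => Subtype.ext ?_)⟩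
    rw [hUapp, hμ]; rfl
  have hcl2R : ∀ a b : Rt, a * b * a⁻¹ * b⁻¹ ∈ Subgroup.center Rt := by
    intro a b
    exact hRZ _ (hcl2 _ _)
  have hfpfR : ∀ g : Rt, g⁻¹ * (φR ^ (2 ^ n)) g ∈ Subgroup.center Rt → g ∈ Subgroup.center Rt := by
    intro g hg
    have h1 := hZR _ hg
    have h2 : ((g⁻¹ * (φR ^ (2 ^ n)) g : Rt) : T) = (g : T)⁻¹ * τ g := by
      rw [Subgroup.coe_mul, Subgroup.coe_inv, hφRpow, hτdef]
    rw [h2] at h1
    have h3 := (hRtmem g).mp g.2
    have h4 : (g : T) * g = ((g : T) * τ g) * ((g : T)⁻¹ * τ g)⁻¹ := by group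
    apply hRZ
    apply hsqrt
    rw [h4]
    exact mul_mem h3 (inv_mem h1)
  rcases bot_lemma_two s hs2 h2K hsK (resRep (σ.comp Rt.subtype) U hσU) _ _ φR
    (hT.to_subgroup Rt) d1 d2 d3 n d4 d5 hfaithU hirr hZscU hcl2R hfpfR with hab | ⟨hs1, hcard⟩
  · left
    intro t
    have hcR : t⁻¹ * τ t ∈ Rt := by
      rw [hRtmem, map_mul, map_inv, hττ]
      have : t⁻¹ * τ t * ((τ t)⁻¹ * t) = 1 := by group
      rw [this]; exact Subgroup.one_mem _
    have hcZ : t⁻¹ * τ t ∈ Subgroup.center T := by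
      apply hZR ⟨_, hcR⟩
      rw [Subgroup.mem_center_iff]
      intro g
      exact hab g _
    have h1 := hcenfix _ hcZ
    rw [map_mul, map_inv, hττ] at h1
    have h2 : (t⁻¹ * τ t) * (t⁻¹ * τ t) = 1 := by
      nth_rewrite 1 [← h1]
      group
    have h3 := hodd1 _ h2
    exact (inv_mul_eq_one.mp h3).symm
  · right
    refine ⟨hs1, ?_⟩
    rw [← hcard]
    -- the isomorphism of `Rt / Z(Rt)` with the inverted part
    obtain ⟨f, hf⟩ : ∃ f : Rt →* Ωm, ∀ r : Rt,
        ((f r : Ωm) : T ⧸ Subgroup.center T) = ((r : T) : T ⧸ Subgroup.center T) :=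
      ⟨((QuotientGroup.mk' (Subgroup.center T)).comp Rt.subtype).codRestrict Ωm
        (fun r => (hmemΩ r).mp r.2), fun r => rfl⟩
    have hsurj : Function.Surjective f := by
      rintro ⟨ω, hω⟩
      obtain ⟨g, rfl⟩ := QuotientGroup.mk_surjective ω
      have hg : g ∈ Rt := (hmemΩ g).mpr hω
      exact ⟨⟨g, hg⟩, Subtype.ext (hf _)⟩
    have hker : f.ker = Subgroup.center Rt := by
      ext r
      rw [MonoidHom.mem_ker]
      constructor
      · intro h
        apply hRZ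
        have := congrArg Subtype.val h
        rw [hf] at this
        exact (QuotientGroup.eq_one_iff _).mp this
      · intro h
        apply Subtype.ext
        rw [hf]
        exact (QuotientGroup.eq_one_iff _).mpr (hZR r h)
    have e1 := QuotientGroup.quotientKerEquivOfSurjective f hsurj
    have e2 := QuotientGroup.quotientMulEquivOfEq hker
    have h1 : Nat.card (Rt ⧸ Subgroup.center Rt) = Nat.card Ωm :=
      Nat.card_congr (e2.symm.trans e1).toEquiv
    rw [h1]
    exact Nat.card_congr (Equiv.subtypeEquivRight (fun ω => (hΩm ω).symm))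

end Cfsg.Agent.Lib.Helper3.Sh
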