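import Mathlib
import Cfsg.Agent.Lib.Helper3.GrD
import Cfsg.Agent.Lib.Helper3.GrH
import Cfsg.Agent.Lib.Helper3.GrJ

/-!
# Gross, part K: second stage (the whole group on a minimal invariant subspace) and the
resulting structure statement.
-/

set_option autoImplicit false
set_option maxHeartbeats 4000000
set_option maxRecDepth 100000
set_option linter.unusedVariables false
set_option linter.unusedSectionVars false
set_option linter.style.haveILetI false
set_option linter.deprecated false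

namespace Cfsg.Agent.Lib.Helper3.Sh

open Module Cfsg.Agent.Lib.Helper3 Cfsg.Agent.Lib.Helper3.HHC1 Cfsg.Agent.Lib.Helper8.FP4
  Cfsg.Agent.Lib.Helper6.Wd

theorem ti_tstage (s n : ℕ) [hs : Fact s.Prime] (hs2 : s ≠ 2)
    {K : Type*} [Field K] [IsAlgClosed K] (h2K : ((2 : ℕ) : K) ≠ 0) (hsK : (s : K) ≠ 0)
    {T : Type*} [Group T] [Finite T] (hT : IsPGroup s T)
    {W : Type*} [AddCommGroup W] [Module K W] [FiniteDimensional K W] [Nontrivial W]
    (σ : Representation K T W) (X X' : Module.End K W) (φ : MulAut T)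
    (hXX' : X * X' = 1) (hX'X : X' * X = 1)
    (hcompat : ∀ g, X * σ g = σ (φ g) * X) (hXP : X ^ (2 ^ (n + 1)) = 1)
    (hNX : ∑ i ∈ Finset.range (2 ^ (n + 1)), X ^ i = 0) (hfaith : Function.Injective σ)
    (hZsc : ∀ z ∈ Subgroup.center T, ∃ μ : K, σ z = μ • (1 : Module.End K W))
    (hcl2 : ∀ a b : T, a * b * a⁻¹ * b⁻¹ ∈ Subgroup.center T)
    (τb φb : MulAut (T ⧸ Subgroup.center T))
    (hτb : ∀ g : T, τb (g : T ⧸ Subgroup.center T)
      = (((φ ^ (2 ^ n)) g : T) : T ⧸ Subgroup.center T))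
    (hφb : ∀ g : T, φb (g : T ⧸ Subgroup.center T) = ((φ g : T) : T ⧸ Subgroup.center T))
    (hs1 : s + 1 = 2 ^ (n + 1))
    (hcard : Nat.card {ω : T ⧸ Subgroup.center T // τb ω = ω⁻¹} = s ^ 2) :
    ∀ ω : T ⧸ Subgroup.center T, τb ω = ω → φb ω = ω := by
  classical
  haveI : Fact (Nat.Prime 2) := ⟨Nat.prime_two⟩
  obtain ⟨hφP, hcenfix, hodd1, hsqrt, hcommΩ, habfix⟩ :=
    ti_basic s n hs2 hsK hT σ X φ hcompat hXP hNX hfaith hcl2
  have hττ : ∀ g, (φ ^ (2 ^ n)) ((φ ^ (2 ^ n)) g) = g := by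
    intro g
    rw [← MulAut.mul_apply, ← pow_add, ← two_mul, ← pow_succ', hφP]; rfl
  obtain ⟨U, hσU, hXU, hX'U, hUne, d1, d2, d3, d4, d5, hirr⟩ :=
    min_sub_data σ X X' φ hXX' hX'X hcompat (2 ^ (n + 1)) hXP hNX
  haveI : Nontrivial U := Submodule.nontrivial_iff_ne_bot.mpr hUne
  obtain ⟨u₀, hu₀⟩ := exists_ne (0 : U)
  have hscal1 : ∀ z ∈ Subgroup.center T, (∀ u : U, σ z (u : W) = (u : W)) → z = 1 := by
    intro z hz hu
    obtain ⟨μ, hμ⟩ := hZsc z hz
    apply hfaith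
    rw [map_one, hμ]
    have h1 := hu u₀
    rw [hμ, LinearMap.smul_apply, Module.End.one_apply] at h1
    have h2 : (μ - 1) • (u₀ : W) = 0 := by rw [sub_smul, h1, one_smul, sub_self]
    rcases smul_eq_zero.mp h2 with h | h
    · rw [sub_eq_zero.mp h, one_smul]
    · exact absurd (Subtype.ext h) hu₀
  have hUapp : ∀ (g : T) (u : U), ((resRep σ U hσU g u : U) : W) = σ g (u : W) := fun g u => rfl
  have hfaithU : Function.Injective (resRep σ U hσU) := by
    rw [injective_iff_map_eq_one]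
    intro k hk
    have hktriv : ∀ u : U, σ k (u : W) = (u : W) := by
      intro u
      rw [← hUapp, hk]; rfl
    have hkinv : resRep σ U hσU k⁻¹ = 1 := by
      have := map_mul (resRep σ U hσU) k⁻¹ k
      rw [inv_mul_cancel, map_one, hk, mul_one] at this
      exact this.symm
    have hkcen : k ∈ Subgroup.center T := by
      rw [Subgroup.mem_center_iff]
      intro g
      have hc1 : g * k * g⁻¹ * k⁻¹ = 1 := by
        apply hscal1 _ (hcl2 g k)
        intro u
        rw [← hUapp, map_mul, map_mul, map_mul, hk, hkinv, mul_one, mul_one, ← map_mul,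
          mul_inv_cancel, map_one]
        rfl
      calc g * k = (g * k * g⁻¹ * k⁻¹) * (k * g) := by group
        _ = k * g := by rw [hc1, one_mul]
    exact hscal1 k hkcen hktriv
  have hZscU : ∀ z ∈ Subgroup.center T,
      ∃ μ : K, resRep σ U hσU z = μ • (1 : Module.End K U) := by
    intro z hz
    obtain ⟨μ, hμ⟩ := hZsc z hz
    refine ⟨μ, LinearMap.ext (fun u => Subtype.ext ?_)⟩
    rw [hUapp, hμ]; rfl
  obtain ⟨b, π, hfr, hcount, hπ, hdk⟩ := bot_core 2 s h2K hsK (resRep σ U hσU) _ _ φ hT d1 d2 d3 n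
    d4 hfaithU hirr hZscU hcl2
  have hM0 : 0 < 2 ^ (n + 1) := pow_pos (by norm_num) _
  have hMK : ((2 ^ (n + 1) : ℕ) : K) ≠ 0 := by
    rw [Nat.cast_pow]; exact pow_ne_zero _ h2K
  have hsq := sq_finrank_le_commutant_gen (X.restrict hXU) (2 ^ (n + 1)) hM0 hMK d4 d5
  have hπpow : ∀ (k : ℕ) (g : T),
      (π ^ k) (g : T ⧸ Subgroup.center T) = (((φ ^ k) g : T) : T ⧸ Subgroup.center T) := by
    intro k
    induction k with
    | zero => intro g; rfl
    | succ k ih =>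
      intro g
      rw [pow_succ', Equiv.Perm.mul_apply, ih, hπ, pow_succ', MulAut.mul_apply]
  have hπφ : ∀ ω, π ω = φb ω := by
    intro ω
    refine QuotientGroup.induction_on ω (fun g => ?_)
    rw [hπ, hφb]
  have hπτ : ∀ ω, (π ^ (2 ^ n)) ω = τb ω := by
    intro ω
    refine QuotientGroup.induction_on ω (fun g => ?_)
    rw [hπpow, hτb]
  have hπM : π ^ (2 ^ (n + 1)) = 1 := by
    ext c
    refine QuotientGroup.induction_on c (fun g => ?_)
    rw [hπpow, hφP]; rfl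
  have hs3 : 3 ≤ s := by
    have := hs.out.two_le
    omega
  have hΩodd : ∀ ω : T ⧸ Subgroup.center T, ω * ω = 1 → ω = 1 := by
    intro ω
    refine QuotientGroup.induction_on ω (fun g => ?_)
    intro h
    rw [← QuotientGroup.mk_mul, QuotientGroup.eq_one_iff] at h
    exact (QuotientGroup.eq_one_iff _).mpr (hsqrt g h)
  have hψ1 : π ^ (2 ^ n) ≠ 1 := by
    intro h1
    have hall : ∀ ω : {ω : T ⧸ Subgroup.center T // τb ω = ω⁻¹}, ω = ⟨1, by rw [map_one, inv_one]⟩ := by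
      rintro ⟨ω, hω⟩
      apply Subtype.ext
      show ω = 1
      have h2 : τb ω = ω := by rw [← hπτ, h1]; rfl
      have h3 : ω = ω⁻¹ := h2.symm.trans hω
      apply hΩodd
      have h4 := inv_mul_cancel ω
      rwa [← h3] at h4
    have hc1 : Nat.card {ω : T ⧸ Subgroup.center T // τb ω = ω⁻¹} = 1 := by
      rw [Nat.card_eq_one_iff_unique]
      exact ⟨⟨fun a b => by rw [hall a, hall b]⟩, ⟨⟨1, by rw [map_one, inv_one]⟩⟩⟩
    rw [hc1] at hcard
    have : 9 ≤ s ^ 2 := by nlinarith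
    omega
  obtain ⟨hle, heq_imp⟩ := orbit_count_le π 2 n Nat.prime_two hπM hψ1
  -- splitting of the central quotient
  have hΩcardodd : Odd (Nat.card (T ⧸ Subgroup.center T)) := by
    obtain ⟨a, ha⟩ := IsPGroup.iff_card.mp (hT.to_quotient (Subgroup.center T))
    rw [ha]
    have hsodd : Odd s := by
      rcases hs.out.eq_two_or_odd' with h | h
      · exact absurd h hs2
      · exact h
    exact hsodd.pow
  have hτbτb : ∀ ω, τb (τb ω) = ω := by
    intro ω
    refine QuotientGroup.induction_on ω (fun g => ?_)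
    rw [hτb, hτb, hττ]
  letI instC : CommGroup (T ⧸ Subgroup.center T) :=
    { (inferInstance : Group (T ⧸ Subgroup.center T)) with mul_comm := hcommΩ }
  have hsplit := card_fix_mul_card_inv (A := T ⧸ Subgroup.center T) hΩcardodd τb hτbτb
  have hfixcard : Nat.card {c : T ⧸ Subgroup.center T // (π ^ (2 ^ n)) c = c}
      = Nat.card {a : T ⧸ Subgroup.center T // τb a = a} :=
    Nat.card_congr (Equiv.subtypeEquivRight (fun ω => by rw [hπτ ω]))
  -- arithmetic
  obtain ⟨f, hf⟩ : ∃ f, f = Nat.card {a : T ⧸ Subgroup.center T // τb a = a} := ⟨_, rfl⟩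
  obtain ⟨k, hk⟩ : ∃ k, k = Nat.card (MulAction.orbitRel.Quotient (Subgroup.zpowers π)
    (T ⧸ Subgroup.center T)) := ⟨_, rfl⟩
  obtain ⟨d, hd⟩ : ∃ d, d = finrank K (commutant (X.restrict hXU : Module.End K U)) := ⟨_, rfl⟩
  obtain ⟨n', hn'⟩ : ∃ n', n' = finrank K U := ⟨_, rfl⟩
  obtain ⟨Ωc, hΩc⟩ : ∃ Ωc, Ωc = Nat.card (T ⧸ Subgroup.center T) := ⟨_, rfl⟩
  have hcardI : Nat.card {a : T ⧸ Subgroup.center T // τb a = a⁻¹} = s ^ 2 := hcard
  rw [hfixcard, ← hf, ← hk, ← hΩc, ← hs1] at hle heq_imp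
  rw [← hΩc, ← hf, hcardI] at hsplit
  rw [← hΩc, ← hn'] at hcount
  rw [← hn', ← hd, ← hs1] at hsq
  rw [← hk, ← hd] at hdk
  have hs1' : s + 1 - 1 = s := by omega
  rw [hs1'] at hle heq_imp hsq
  have h1 : f * s ^ 2 ≤ s * k := by
    calc f * s ^ 2 = n' ^ 2 := by rw [← hsplit, hcount]
      _ ≤ s * d := hsq
      _ ≤ s * k := Nat.mul_le_mul_left _ hdk
  have h2 : f * s ≤ k := by
    have : s * (f * s) ≤ s * k := by
      calc s * (f * s) = f * s ^ 2 := by ring
        _ ≤ s * k := h1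
    exact Nat.le_of_mul_le_mul_left this (by omega)
  have h3 : (s + 1) * k = Ωc + s * f := by
    apply le_antisymm hle
    calc Ωc + s * f = (s + 1) * (f * s) := by rw [hsplit]; ring
      _ ≤ (s + 1) * k := Nat.mul_le_mul_left _ h2
  intro ω hω
  rw [← hπφ]
  apply heq_imp h3
  rw [hπτ]
  exact hω

theorem ti_main (s n : ℕ) [hs : Fact s.Prime] (hs2 : s ≠ 2)
    {K : Type*} [Field K] [IsAlgClosed K] (h2K : ((2 : ℕ) : K) ≠ 0) (hsK : (s : K) ≠ 0)
    {T : Type*} [Group T] [Finite T] (hT : IsPGroup s T)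
    {W : Type*} [AddCommGroup W] [Module K W] [FiniteDimensional K W] [Nontrivial W]
    (σ : Representation K T W) (X X' : Module.End K W) (φ : MulAut T)
    (hXX' : X * X' = 1) (hX'X : X' * X = 1)
    (hcompat : ∀ g, X * σ g = σ (φ g) * X) (hXP : X ^ (2 ^ (n + 1)) = 1)
    (hNX : ∑ i ∈ Finset.range (2 ^ (n + 1)), X ^ i = 0) (hfaith : Function.Injective σ)
    (hZsc : ∀ z ∈ Subgroup.center T, ∃ μ : K, σ z = μ • (1 : Module.End K W))
    (hcl2 : ∀ a b : T, a * b * a⁻¹ * b⁻¹ ∈ Subgroup.center T)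
    (φb : MulAut (T ⧸ Subgroup.center T))
    (hφb : ∀ g : T, φb (g : T ⧸ Subgroup.center T) = ((φ g : T) : T ⧸ Subgroup.center T)) :
    (∀ t : T, (φ ^ (2 ^ n)) t = t) ∨
      (s + 1 = 2 ^ (n + 1) ∧
        (∀ ω : T ⧸ Subgroup.center T, (φb ^ (2 ^ n)) ω = ω → φb ω = ω) ∧
        Nat.card {ω : T ⧸ Subgroup.center T // (φb ^ (2 ^ n)) ω = ω⁻¹} = s ^ 2) := by
  have hφbpow : ∀ (k : ℕ) (g : T),
      (φb ^ k) (g : T ⧸ Subgroup.center T) = (((φ ^ k) g : T) : T ⧸ Subgroup.center T) := by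
    intro k
    induction k with
    | zero => intro g; rfl
    | succ k ih =>
      intro g
      rw [pow_succ', MulAut.mul_apply, ih, hφb, pow_succ', MulAut.mul_apply]
  rcases ti_rstage s n hs2 h2K hsK hT σ X X' φ hXX' hX'X hcompat hXP hNX hfaith hZsc hcl2
    (φb ^ (2 ^ n)) (hφbpow _) with h | ⟨hs1, hcard⟩
  · exact Or.inl h
  · right
    exact ⟨hs1, ti_tstage s n hs2 h2K hsK hT σ X X' φ hXX' hX'X hcompat hXP hNX hfaith hZsc hcl2
      (φb ^ (2 ^ n)) φb (hφbpow _) hφb hs1 hcard, hcard⟩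

end Cfsg.Agent.Lib.Helper3.Sh
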