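import Mathlib
import Cfsg.Agent.Lib.Helper3.HHC1
import Cfsg.Agent.Lib.Helper8.FP4a
import Cfsg.Agent.Lib.Helper6.WdA

/-!
# Gross, part L: irreducibility from a normal subgroup of order prime to the characteristic which
acts trivially on every proper invariant subspace.
-/

set_option autoImplicit false
set_option maxHeartbeats 4000000
set_option maxRecDepth 100000
set_option linter.unusedVariables false
set_option linter.unusedSectionVars false
set_option linter.style.haveILetI false
set_option linter.deprecated false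

namespace Cfsg.Agent.Lib.Helper3.Sh

open Module Cfsg.Agent.Lib.Helper3 Cfsg.Agent.Lib.Helper3.HHC1 Cfsg.Agent.Lib.Helper8.FP4
  Cfsg.Agent.Lib.Helper6.Wd

theorem irr_of_avg {K : Type*} [Field K] {L : Type*} [Group L] [Finite L] {W : Type*}
    [AddCommGroup W] [Module K W] [FiniteDimensional K W]
    (ρ : Representation K L W) (X X' : Module.End K W) (φ : MulAut L)
    (hXX' : X * X' = 1) (hX'X : X' * X = 1) (hcompat : ∀ g, X * ρ g = ρ (φ g) * X)
    (N₀ : Subgroup L) [hN₀n : N₀.Normal] (hφN : Inv φ N₀) (hcardK : (Nat.card N₀ : K) ≠ 0)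
    (hprop : ∀ U : Submodule K W, U ≠ ⊤ → (∀ g, ∀ w ∈ U, ρ g w ∈ U) → (∀ w ∈ U, X w ∈ U) →
      (∀ w ∈ U, X' w ∈ U) → ∀ c ∈ N₀, ∀ w ∈ U, ρ c w = w)
    (hnt : ∃ c ∈ N₀, ρ c ≠ 1) :
    ∀ U : Submodule K W, (∀ g, ∀ w ∈ U, ρ g w ∈ U) → (∀ w ∈ U, X w ∈ U) → U = ⊥ ∨ U = ⊤ := by
  classical
  haveI : Fintype N₀ := Fintype.ofFinite N₀
  have hcardK' : (Fintype.card N₀ : K) ≠ 0 := by
    rw [← Nat.card_eq_fintype_card]; exact hcardK
  obtain ⟨e, hedef⟩ : ∃ e : Module.End K W, e = (Fintype.card N₀ : K)⁻¹ • ∑ c : N₀, ρ (c : L) :=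
    ⟨_, rfl⟩
  have hσe : ∀ h ∈ N₀, ρ h * e = e := by
    intro h hh
    rw [hedef, mul_smul_comm, Finset.mul_sum]
    congr 1
    refine Fintype.sum_equiv (Equiv.mulLeft (⟨h, hh⟩ : N₀)) _ _ (fun g => ?_)
    rw [← map_mul]; rfl
  have hge : ∀ g : L, ρ g * e = e * ρ g := by
    intro g
    rw [hedef, mul_smul_comm, smul_mul_assoc, Finset.mul_sum, Finset.sum_mul]
    congr 1
    refine Fintype.sum_equiv (MulAut.conjNormal g : MulAut N₀).toEquiv _ _ (fun c => ?_)
    show ρ g * ρ (c : L) = ρ ((MulAut.conjNormal g c : N₀) : L) * ρ g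
    rw [MulAut.conjNormal_apply, ← map_mul, ← map_mul, inv_mul_cancel_right]
  have hXe : X * e = e * X := by
    rw [hedef, mul_smul_comm, smul_mul_assoc, Finset.mul_sum, Finset.sum_mul]
    congr 1
    refine Fintype.sum_equiv (restrictAut φ N₀ hφN).toEquiv _ _ (fun c => ?_)
    show X * ρ (c : L) = ρ ((restrictAut φ N₀ hφN c : N₀) : L) * X
    rw [restrictAut_apply_coe, hcompat]
  have hX'e : X' * e = e * X' := by
    calc X' * e = X' * (e * X) * X' := by rw [mul_assoc, mul_assoc, hXX', mul_one]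
      _ = X' * (X * e) * X' := by rw [hXe]
      _ = e * X' := by rw [← mul_assoc, hX'X, one_mul]
  have hee : e * e = e := by
    calc e * e = ((Fintype.card N₀ : K)⁻¹ • ∑ c : N₀, ρ (c : L)) * e := by rw [← hedef]
      _ = (Fintype.card N₀ : K)⁻¹ • ∑ c : N₀, ρ (c : L) * e := by
          rw [smul_mul_assoc, Finset.sum_mul]
      _ = (Fintype.card N₀ : K)⁻¹ • ∑ _c : N₀, e := by
          congr 1
          exact Finset.sum_congr rfl (fun (c : N₀) _ => hσe (c : L) c.2)
      _ = e := by
        rw [Finset.sum_const, Finset.card_univ, ← Nat.cast_smul_eq_nsmul K, smul_smul,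
          inv_mul_cancel₀ hcardK', one_smul]
  have hefix : ∀ w, (∀ c ∈ N₀, ρ c w = w) → e w = w := by
    intro w hw
    rw [hedef]
    simp only [LinearMap.smul_apply, LinearMap.sum_apply]
    rw [Finset.sum_congr rfl (fun (c : N₀) _ => hw (c : L) c.2), Finset.sum_const, Finset.card_univ,
      ← Nat.cast_smul_eq_nsmul K, smul_smul, inv_mul_cancel₀ hcardK', one_smul]
  intro U hσU hXU
  by_cases hUtop : U = ⊤
  · exact Or.inr hUtop
  left
  have hX'U := inv_mem_of_mem X X' hX'X U hXU
  have hUfix := hprop U hUtop hσU hXU hX'U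
  have hker_σ : ∀ g, ∀ w ∈ LinearMap.ker e, ρ g w ∈ LinearMap.ker e := by
    intro g w hw
    rw [LinearMap.mem_ker] at hw ⊢
    rw [← Module.End.mul_apply, ← hge, Module.End.mul_apply, hw, map_zero]
  have hker_X : ∀ w ∈ LinearMap.ker e, X w ∈ LinearMap.ker e := by
    intro w hw
    rw [LinearMap.mem_ker] at hw ⊢
    rw [← Module.End.mul_apply, ← hXe, Module.End.mul_apply, hw, map_zero]
  have hker_X' : ∀ w ∈ LinearMap.ker e, X' w ∈ LinearMap.ker e := by
    intro w hw
    rw [LinearMap.mem_ker] at hw ⊢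
    rw [← Module.End.mul_apply, ← hX'e, Module.End.mul_apply, hw, map_zero]
  by_cases hktop : LinearMap.ker e = ⊤
  · rw [Submodule.eq_bot_iff]
    intro w hw
    have h1 := hefix w (fun c hc => hUfix c hc w hw)
    have h2 : e w = 0 := LinearMap.mem_ker.mp (by rw [hktop]; trivial)
    rw [← h1, h2]
  · exfalso
    have hkfix := hprop _ hktop hker_σ hker_X hker_X'
    have hkbot : ∀ w ∈ LinearMap.ker e, w = 0 := by
      intro w hw
      have h1 := hefix w (fun c hc => hkfix c hc w hw)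
      rw [← h1]
      exact LinearMap.mem_ker.mp hw
    have he1 : ∀ w, e w = w := by
      intro w
      have : e w - w ∈ LinearMap.ker e := by
        rw [LinearMap.mem_ker, map_sub, ← Module.End.mul_apply, hee, sub_self]
      exact sub_eq_zero.mp (hkbot _ this)
    obtain ⟨c, hc, hne⟩ := hnt
    apply hne
    ext w
    have := congrArg (fun A : Module.End K W => A w) (hσe c hc)
    simp only [Module.End.mul_apply, he1] at this
    simpa using this

end Cfsg.Agent.Lib.Helper3.Sh
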