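import Mathlib
import Cfsg.Agent.Lib.Helper3.HHC1
import Cfsg.Agent.Lib.Helper8.FP4a
import Cfsg.Agent.Lib.Helper6.WdA

/-!
# Gross, part M: the stacked configuration (a normal `s₁`-subgroup `T` and an `s₂`-subgroup `Q₂`
of a group `L` acting on a module with an operator of order `2 ^ (n + 1)` without fixed vectors),
the statement proved by induction, and the reductions to quotients, subgroups and subspaces.
-/

set_option autoImplicit false
set_option maxHeartbeats 4000000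
set_option maxRecDepth 100000
set_option linter.unusedVariables false
set_option linter.unusedSectionVars false
set_option linter.style.haveILetI false
set_option linter.deprecated false

namespace Cfsg.Agent.Lib.Helper3.Sh

open Module Cfsg.Agent.Lib.Helper3 Cfsg.Agent.Lib.Helper3.HHC1 Cfsg.Agent.Lib.Helper8.FP4
  Cfsg.Agent.Lib.Helper6.Wd

universe u v w

structure STCfg (s₁ s₂ n : ℕ) {K : Type w} [Field K] {L : Type u} [Group L] {W : Type v}
    [AddCommGroup W] [Module K W] (ρ : Representation K L W) (X X' : Module.End K W)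
    (φ : MulAut L) (T Q₂ : Subgroup L) : Prop where
  hTn : T.Normal
  hT : IsPGroup s₁ T
  hQ : IsPGroup s₂ Q₂
  hφT : Inv φ T
  hφQ : Inv φ Q₂
  hXX' : X * X' = 1
  hX'X : X' * X = 1
  hcompat : ∀ g, X * ρ g = ρ (φ g) * X
  hXP : X ^ (2 ^ (n + 1)) = 1
  hNX : ∑ i ∈ Finset.range (2 ^ (n + 1)), X ^ i = 0

/-- The statement proved by induction. -/
def STGood (s₁ s₂ n : ℕ) {K : Type w} [Field K] {L : Type u} [Group L] {W : Type v}
    [AddCommGroup W] [Module K W] (ρ : Representation K L W) (X X' : Module.End K W)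
    (φ : MulAut L) (T Q₂ : Subgroup L) : Prop :=
  STCfg s₁ s₂ n ρ X X' φ T Q₂ →
    ∀ x ∈ Q₂, (φ ^ (2 ^ n)) x = x⁻¹ → ∀ t ∈ T, ρ x * ρ t = ρ t * ρ x

/-- Restriction of the configuration to an invariant subspace. -/
theorem STCfg.restrict {s₁ s₂ n : ℕ} {K : Type w} [Field K] {L : Type u} [Group L] {W : Type v}
    [AddCommGroup W] [Module K W] {ρ : Representation K L W} {X X' : Module.End K W}
    {φ : MulAut L} {T Q₂ : Subgroup L} (H : STCfg s₁ s₂ n ρ X X' φ T Q₂)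
    (U : Submodule K W) (hσU : ∀ g, ∀ w ∈ U, ρ g w ∈ U) (hXU : ∀ w ∈ U, X w ∈ U)
    (hX'U : ∀ w ∈ U, X' w ∈ U) :
    STCfg s₁ s₂ n (resRep ρ U hσU) (X.restrict hXU) (X'.restrict hX'U) φ T Q₂ where
  hTn := H.hTn
  hT := H.hT
  hQ := H.hQ
  hφT := H.hφT
  hφQ := H.hφQ
  hXX' := by
    refine LinearMap.ext (fun w => Subtype.ext ?_)
    show X (X' (w : W)) = (w : W)
    rw [← Module.End.mul_apply, H.hXX']; rfl
  hX'X := by
    refine LinearMap.ext (fun w => Subtype.ext ?_)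
    show X' (X (w : W)) = (w : W)
    rw [← Module.End.mul_apply, H.hX'X]; rfl
  hcompat := by
    intro g
    refine LinearMap.ext (fun w => Subtype.ext ?_)
    show X (ρ g (w : W)) = ρ (φ g) (X (w : W))
    have := congrArg (fun A : Module.End K W => A (w : W)) (H.hcompat g)
    simpa using this
  hXP := by
    refine LinearMap.ext (fun w => Subtype.ext ?_)
    rw [restrict_pow_coe, H.hXP]; rfl
  hNX := by
    refine LinearMap.ext (fun w => Subtype.ext ?_)
    rw [LinearMap.sum_apply]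
    have h6 : ((∑ i ∈ Finset.range (2 ^ (n + 1)), ((X.restrict hXU : Module.End K U) ^ i) w : U) : W)
        = ∑ i ∈ Finset.range (2 ^ (n + 1)), (X ^ i) (w : W) := by
      rw [Submodule.coe_sum]
      exact Finset.sum_congr rfl (fun i _ => restrict_pow_coe X U hXU i w)
    rw [h6, ← LinearMap.sum_apply, H.hNX]; rfl

/-- Step A: pass to the quotient by the kernel of the representation. -/
theorem st_stepA (s₁ s₂ n : ℕ) {K : Type w} [Field K] {L : Type u} [Group L] [Finite L]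
    {W : Type v} [AddCommGroup W] [Module K W] (ρ : Representation K L W)
    (X X' : Module.End K W) (φ : MulAut L) (T Q₂ : Subgroup L)
    (IH : ∀ (L' : Type u) [Group L'] [Finite L'] (ρ' : Representation K L' W) (φ' : MulAut L')
      (T' Q' : Subgroup L'), Nat.card L' < Nat.card L → STGood s₁ s₂ n ρ' X X' φ' T' Q')
    (hnf : ¬ Function.Injective ρ) : STGood s₁ s₂ n ρ X X' φ T Q₂ := by
  intro H x hx hxinv t ht
  have hNmem : ∀ g, g ∈ ρ.ker ↔ ρ g = 1 := fun g => MonoidHom.mem_ker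
  have hNne : ρ.ker ≠ ⊥ := by
    intro hbot
    apply hnf
    intro a b hab
    have : a⁻¹ * b ∈ ρ.ker := by
      rw [hNmem, map_mul, ← hab, ← map_mul, inv_mul_cancel, map_one]
    rw [hbot, Subgroup.mem_bot] at this
    exact inv_mul_eq_one.mp this
  have hσφ : ∀ g, ρ (φ g) = X * ρ g * X' := by
    intro g; rw [H.hcompat, mul_assoc, H.hXX', mul_one]
  have hinv : Inv φ ρ.ker := by
    intro g hg
    rw [hNmem] at hg ⊢
    rw [hσφ, hg, mul_one, H.hXX']
  obtain ⟨ρ', hρ'def⟩ : ∃ ρ' : Representation K (L ⧸ ρ.ker) W,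
      ρ' = QuotientGroup.lift ρ.ker ρ le_rfl := ⟨_, rfl⟩
  obtain ⟨φ', hφ'def⟩ : ∃ φ' : MulAut (L ⧸ ρ.ker), φ' = quotAut φ ρ.ker hinv := ⟨_, rfl⟩
  have hρ' : ∀ g : L, ρ' (g : L ⧸ ρ.ker) = ρ g := by
    intro g; rw [hρ'def]; exact QuotientGroup.lift_mk _ _ g
  have hφ' : ∀ g : L, φ' (g : L ⧸ ρ.ker) = ((φ g : L) : L ⧸ ρ.ker) := by
    intro g; rw [hφ'def]; exact quotAut_mk φ ρ.ker hinv g
  have hcard : Nat.card (L ⧸ ρ.ker) < Nat.card L := by
    have h1 := Subgroup.card_eq_card_quotient_mul_card_subgroup ρ.ker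
    have h2 : 1 < Nat.card ρ.ker := (Subgroup.one_lt_card_iff_ne_bot _).mpr hNne
    have h3 : 0 < Nat.card (L ⧸ ρ.ker) := Nat.card_pos
    nlinarith
  have hcfg : STCfg s₁ s₂ n ρ' X X' φ' (T.map (QuotientGroup.mk' ρ.ker))
      (Q₂.map (QuotientGroup.mk' ρ.ker)) :=
    { hTn := H.hTn.map _ (QuotientGroup.mk'_surjective _)
      hT := H.hT.map _
      hQ := H.hQ.map _
      hφT := by
        rintro _ ⟨g, hg, rfl⟩
        exact ⟨φ g, H.hφT g hg, (hφ' g).symm⟩
      hφQ := by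
        rintro _ ⟨g, hg, rfl⟩
        exact ⟨φ g, H.hφQ g hg, (hφ' g).symm⟩
      hXX' := H.hXX'
      hX'X := H.hX'X
      hcompat := by
        intro g
        refine QuotientGroup.induction_on g (fun g => ?_)
        rw [hφ', hρ', hρ']; exact H.hcompat g
      hXP := H.hXP
      hNX := H.hNX }
  have hres := IH (L ⧸ ρ.ker) ρ' φ' _ _ hcard hcfg (x : L ⧸ ρ.ker) ⟨x, hx, rfl⟩ (by
    rw [hφ'def, quotAut_pow_mk, hxinv]; rfl) (t : L ⧸ ρ.ker) ⟨t, ht, rfl⟩
  rw [hρ', hρ'] at hres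
  exact hres

/-- Passing to an invariant subgroup. -/
theorem st_sub (s₁ s₂ n : ℕ) {K : Type w} [Field K] {L : Type u} [Group L] [Finite L]
    {W : Type v} [AddCommGroup W] [Module K W] (ρ : Representation K L W)
    (X X' : Module.End K W) (φ : MulAut L) (T Q₂ : Subgroup L)
    (H : STCfg s₁ s₂ n ρ X X' φ T Q₂)
    (IH : ∀ (L' : Type u) [Group L'] [Finite L'] (ρ' : Representation K L' W) (φ' : MulAut L')
      (T' Q' : Subgroup L'), Nat.card L' < Nat.card L → STGood s₁ s₂ n ρ' X X' φ' T' Q')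
    (L₁ : Subgroup L) (hne : L₁ ≠ ⊤) (hφL : Inv φ L₁) (T₁ Q₁ : Subgroup L) (hT₁L : T₁ ≤ L₁)
    (hQ₁L : Q₁ ≤ L₁) (hnorm : ∀ g ∈ L₁, ∀ t ∈ T₁, g * t * g⁻¹ ∈ T₁) (hT₁ : IsPGroup s₁ T₁)
    (hQ₁ : IsPGroup s₂ Q₁) (hφT₁ : Inv φ T₁) (hφQ₁ : Inv φ Q₁) :
    ∀ x ∈ Q₁, (φ ^ (2 ^ n)) x = x⁻¹ → ∀ t ∈ T₁, ρ x * ρ t = ρ t * ρ x := by
  intro x hx hxinv t ht
  obtain ⟨φ₁, hφ₁def⟩ : ∃ φ₁ : MulAut L₁, φ₁ = restrictAut φ L₁ hφL := ⟨_, rfl⟩
  have hφ₁ : ∀ g : L₁, ((φ₁ g : L₁) : L) = φ g := by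
    intro g; rw [hφ₁def]; exact restrictAut_apply_coe φ L₁ hφL g
  have hcard : Nat.card L₁ < Nat.card L :=
    lt_of_le_of_ne (Subgroup.card_le_card_group L₁) (fun h => hne (Subgroup.eq_top_of_card_eq L₁ h))
  have hcfg : STCfg s₁ s₂ n (ρ.comp L₁.subtype) X X' φ₁ (T₁.subgroupOf L₁) (Q₁.subgroupOf L₁) :=
    { hTn := by
        refine ⟨fun a ha g => ?_⟩
        rw [Subgroup.mem_subgroupOf] at ha ⊢
        exact hnorm g g.2 a ha
      hT := hT₁.comap_subtype
      hQ := hQ₁.comap_subtype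
      hφT := by
        intro g hg
        rw [Subgroup.mem_subgroupOf] at hg ⊢
        rw [hφ₁]; exact hφT₁ _ hg
      hφQ := by
        intro g hg
        rw [Subgroup.mem_subgroupOf] at hg ⊢
        rw [hφ₁]; exact hφQ₁ _ hg
      hXX' := H.hXX'
      hX'X := H.hX'X
      hcompat := by
        intro g
        show X * ρ g.1 = ρ (φ₁ g).1 * X
        rw [hφ₁]; exact H.hcompat g.1
      hXP := H.hXP
      hNX := H.hNX }
  have hres := IH L₁ (ρ.comp L₁.subtype) φ₁ _ _ hcard hcfg ⟨x, hQ₁L hx⟩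
    (by rw [Subgroup.mem_subgroupOf]; exact hx)
    (by
      apply Subtype.ext
      rw [hφ₁def, restrictAut_pow_apply_coe]
      exact hxinv) ⟨t, hT₁L ht⟩ (by rw [Subgroup.mem_subgroupOf]; exact ht)
  exact hres

end Cfsg.Agent.Lib.Helper3.Sh
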