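import Mathlib
import Cfsg.Agent.Lib.Helper3.ShV
import Cfsg.Agent.Lib.Helper8.FP4a
import Cfsg.Agent.Lib.Helper6.WdA
import Cfsg.Agent.Lib.Helper6.WdB

/-!
# Gross, part N: elementary group-theoretic lemmas for the stacked configuration.
-/

set_option autoImplicit false
set_option maxHeartbeats 4000000
set_option maxRecDepth 100000
set_option linter.unusedVariables false
set_option linter.unusedSectionVars false
set_option linter.style.haveILetI false
set_option linter.deprecated false

namespace Cfsg.Agent.Lib.Helper3.Sh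

open Cfsg.Agent.Lib.Helper8.FP4 Cfsg.Agent.Lib.Helper6.Wd

variable {L : Type*} [Group L]

/-- An element of odd order inverted by `τ` commutes with a `τ`-fixed element whose conjugate is
also `τ`-fixed. -/
theorem comm_of_inverted (τ : MulAut L) (x y : L) (hx : τ x = x⁻¹) (hy : τ y = y)
    (hxy : τ (x * y * x⁻¹) = x * y * x⁻¹) (k : ℕ) (hk : x ^ (2 * k + 1) = 1) : x * y = y * x := by
  rw [map_mul, map_mul, map_inv, hx, hy, inv_inv] at hxy
  have h2 : Commute (x ^ 2) y := by
    show x ^ 2 * y = y * x ^ 2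
    calc x ^ 2 * y = x * (x * y * x⁻¹) * x := by rw [pow_two]; group
      _ = x * (x⁻¹ * y * x) * x := by rw [hxy]
      _ = y * x ^ 2 := by rw [pow_two]; group
  have h3 : x = (x ^ 2) ^ (k + 1) := by
    rw [← pow_mul]
    have : 2 * (k + 1) = (2 * k + 1) + 1 := by ring
    rw [this, pow_succ, hk, one_mul]
  have h4 : Commute ((x ^ 2) ^ (k + 1)) y := h2.pow_left _
  rw [← h3] at h4
  exact h4

/-- Coprime action: if `x` (of `s₂`-power order) conjugates `t` to `c * t` with `c` of `s₁`-power
order commuting with `x`, then `c = 1`. -/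
theorem eq_one_of_coprime_conj (s₁ s₂ : ℕ) [h₁ : Fact s₁.Prime] [h₂ : Fact s₂.Prime]
    (h12 : s₁ ≠ s₂) (x t c : L) (a b : ℕ) (hc : c ^ (s₁ ^ a) = 1) (hx : x ^ (s₂ ^ b) = 1)
    (hconj : x * t * x⁻¹ = c * t) (hcomm : x * c = c * x) : c = 1 := by
  have hpow : ∀ k : ℕ, x ^ k * t * (x ^ k)⁻¹ = c ^ k * t := by
    intro k
    induction k with
    | zero => simp
    | succ k ih =>
      have hcx : Commute x (c ^ k) := (show Commute x c from hcomm).pow_right k
      calc x ^ (k + 1) * t * (x ^ (k + 1))⁻¹ = x * (x ^ k * t * (x ^ k)⁻¹) * x⁻¹ := by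
            rw [pow_succ']; group
        _ = x * (c ^ k * t) * x⁻¹ := by rw [ih]
        _ = (x * c ^ k) * t * x⁻¹ := by group
        _ = (c ^ k * x) * t * x⁻¹ := by rw [hcx.eq]
        _ = c ^ k * (x * t * x⁻¹) := by group
        _ = c ^ k * (c * t) := by rw [hconj]
        _ = c ^ (k + 1) * t := by rw [pow_succ]; group
  have h1 := hpow (s₂ ^ b)
  rw [hx, one_mul, inv_one, mul_one] at h1
  have h2 : c ^ (s₂ ^ b) = 1 := by
    have h3 : c ^ (s₂ ^ b) * t = 1 * t := by rw [one_mul, ← h1]
    exact mul_right_cancel h3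
  have d1 : orderOf c ∣ s₁ ^ a := orderOf_dvd_of_pow_eq_one hc
  have d2 : orderOf c ∣ s₂ ^ b := orderOf_dvd_of_pow_eq_one h2
  have hcop : Nat.Coprime (s₁ ^ a) (s₂ ^ b) :=
    Nat.Coprime.pow _ _ ((Nat.coprime_primes h₁.out h₂.out).mpr h12)
  have d3 : orderOf c ∣ 1 := by
    have := Nat.dvd_gcd d1 d2
    rwa [hcop] at this
  exact orderOf_eq_one_iff.mp (Nat.dvd_one.mp d3)

/-- An element of both `s₁`-power and `s₂`-power order is trivial. -/
theorem eq_one_of_two_primes (s₁ s₂ : ℕ) [h₁ : Fact s₁.Prime] [h₂ : Fact s₂.Prime]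
    (h12 : s₁ ≠ s₂) (c : L) (a b : ℕ) (hc : c ^ (s₁ ^ a) = 1) (hc' : c ^ (s₂ ^ b) = 1) : c = 1 := by
  have d1 : orderOf c ∣ s₁ ^ a := orderOf_dvd_of_pow_eq_one hc
  have d2 : orderOf c ∣ s₂ ^ b := orderOf_dvd_of_pow_eq_one hc'
  have hcop : Nat.Coprime (s₁ ^ a) (s₂ ^ b) :=
    Nat.Coprime.pow _ _ ((Nat.coprime_primes h₁.out h₂.out).mpr h12)
  have d3 : orderOf c ∣ 1 := by
    have := Nat.dvd_gcd d1 d2
    rwa [hcop] at this
  exact orderOf_eq_one_iff.mp (Nat.dvd_one.mp d3)

/-- The centraliser of a normal subgroup, as a normal subgroup. -/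
theorem exists_centralizer_normal (P : Subgroup L) [hP : P.Normal] :
    ∃ C : Subgroup L, C.Normal ∧ ∀ g, g ∈ C ↔ ∀ p ∈ P, g * p = p * g := by
  refine ⟨{ carrier := {g | ∀ p ∈ P, g * p = p * g}
            one_mem' := by intro p _; simp
            mul_mem' := by
              intro a b ha hb p hp
              calc a * b * p = a * (b * p) := by group
                _ = a * (p * b) := by rw [hb p hp]
                _ = (a * p) * b := by group
                _ = (p * a) * b := by rw [ha p hp]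
                _ = p * (a * b) := by group
            inv_mem' := by
              intro a ha p hp
              have := ha p hp
              calc a⁻¹ * p = a⁻¹ * (p * a) * a⁻¹ := by group
                _ = a⁻¹ * (a * p) * a⁻¹ := by rw [this]
                _ = p * a⁻¹ := by group }, ⟨fun g hg h => ?_⟩, fun g => Iff.rfl⟩
  intro p hp
  have hp' : h⁻¹ * p * h ∈ P := by
    have := hP.conj_mem p hp h⁻¹
    rwa [inv_inv] at this
  have := hg _ hp'
  calc h * g * h⁻¹ * p = h * (g * (h⁻¹ * p * h)) * h⁻¹ := by group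
    _ = h * ((h⁻¹ * p * h) * g) * h⁻¹ := by rw [this]
    _ = p * (h * g * h⁻¹) := by group

section charsub

variable [Finite L] (T : Subgroup L) [hTn : T.Normal]

/-- The image in `L` of a subgroup of `T` invariant under all automorphisms of `T` is normal in `L`
and invariant under every automorphism of `L` preserving `T`. -/
theorem char_map_normal (P' : Subgroup T) (hchar : ∀ α : MulAut T, ∀ p ∈ P', α p ∈ P') :
    (P'.map T.subtype).Normal := by
  refine ⟨fun x hx g => ?_⟩
  obtain ⟨p, hp, rfl⟩ := hx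
  refine ⟨MulAut.conjNormal g p, hchar _ p hp, ?_⟩
  exact MulAut.conjNormal_apply g p

theorem char_map_inv (P' : Subgroup T) (hchar : ∀ α : MulAut T, ∀ p ∈ P', α p ∈ P')
    (φ : MulAut L) (hφT : Inv φ T) : Inv φ (P'.map T.subtype) := by
  rintro _ ⟨p, hp, rfl⟩
  exact ⟨restrictAut φ T hφT p, hchar _ p hp, restrictAut_apply_coe φ T hφT p⟩

theorem char_map_ne (P' : Subgroup T) (hne : P' ≠ ⊤) : P'.map T.subtype ≠ T := by
  intro h
  apply hne
  rw [eq_top_iff]
  intro t _
  have : (t : L) ∈ P'.map T.subtype := by rw [h]; exact t.2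
  obtain ⟨p, hp, hpt⟩ := this
  have : p = t := Subtype.ext hpt
  rwa [← this]

end charsub

/-- Invariance of closures. -/
theorem inv_closure (φ : MulAut L) (S : Set L) (hS : ∀ x ∈ S, φ x ∈ S) :
    Inv φ (Subgroup.closure S) := by
  intro g hg
  have h1 : (Subgroup.closure S).map (φ : L →* L) ≤ Subgroup.closure S := by
    rw [MonoidHom.map_closure, Subgroup.closure_le]
    rintro _ ⟨x, hx, rfl⟩
    exact Subgroup.subset_closure (hS x hx)
  exact h1 ⟨g, hg, rfl⟩

theorem inv_normalClosure (φ : MulAut L) (S : Set L) (hS : ∀ x ∈ S, φ x ∈ S) :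
    Inv φ (Subgroup.normalClosure S) := by
  intro g hg
  have h1 : (Subgroup.normalClosure S).map (φ : L →* L) ≤ Subgroup.normalClosure S := by
    refine le_trans (Subgroup.map_normalClosure_le S _) (Subgroup.normalClosure_mono ?_)
    rintro _ ⟨x, hx, rfl⟩
    exact hS x hx
  exact h1 ⟨g, hg, rfl⟩

theorem inv_sup (φ : MulAut L) (A B : Subgroup L) (hA : Inv φ A) (hB : Inv φ B) :
    Inv φ (A ⊔ B) := by
  intro g hg
  have h1 : (A ⊔ B).map (φ : L →* L) ≤ A ⊔ B := by
    rw [Subgroup.map_sup]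
    refine sup_le ?_ ?_
    · refine le_trans ?_ le_sup_left
      rintro _ ⟨x, hx, rfl⟩
      exact hA x hx
    · refine le_trans ?_ le_sup_right
      rintro _ ⟨x, hx, rfl⟩
      exact hB x hx
  exact h1 ⟨g, hg, rfl⟩

/-- The map from automorphisms to automorphisms of the quotient by a subgroup invariant under all
automorphisms. -/
theorem exists_quotAutHom [Finite L] (N : Subgroup L) [N.Normal] (hN : ∀ α : MulAut L, Inv α N) :
    ∃ F : MulAut L →* MulAut (L ⧸ N), ∀ (α : MulAut L) (g : L),
      F α (g : L ⧸ N) = ((α g : L) : L ⧸ N) := by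
  refine ⟨{ toFun := fun α => quotAut α N (hN α)
            map_one' := ?_
            map_mul' := ?_ }, fun α g => quotAut_mk α N (hN α) g⟩
  · ext c
    refine QuotientGroup.induction_on c (fun g => ?_)
    rw [quotAut_mk]; rfl
  · intro α β
    ext c
    refine QuotientGroup.induction_on c (fun g => ?_)
    rw [quotAut_mk, MulAut.mul_apply, MulAut.mul_apply, quotAut_mk, quotAut_mk]

end Cfsg.Agent.Lib.Helper3.Sh
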