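import Mathlib
import Cfsg.Agent.Lib.Helper3.GrC
import Cfsg.Agent.Lib.Helper3.GrL
import Cfsg.Agent.Lib.Helper3.GrM
import Cfsg.Agent.Lib.Helper3.GrN

/-!
# Gross, part O: structure of a minimal counterexample to the stacked statement.
-/

set_option autoImplicit false
set_option maxHeartbeats 4000000
set_option maxRecDepth 100000
set_option linter.unusedVariables false
set_option linter.unusedSectionVars false
set_option linter.style.haveILetI false
set_option linter.deprecated false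

namespace Cfsg.Agent.Lib.Helper3.Sh

open Module Cfsg.Agent.Lib.Helper3 Cfsg.Agent.Lib.Helper3.HHC1 Cfsg.Agent.Lib.Helper8.FP4
  Cfsg.Agent.Lib.Helper6.Wd

universe u v w

theorem st_struct (s₁ s₂ n : ℕ) [h₁ : Fact s₁.Prime] [h₂ : Fact s₂.Prime] (h12 : s₁ ≠ s₂)
    (hs₂2 : s₂ ≠ 2) {K : Type w} [Field K] [IsAlgClosed K] (hs₁K : (s₁ : K) ≠ 0)
    {L : Type u} [Group L] [Finite L] {W : Type v} [AddCommGroup W] [Module K W]
    [FiniteDimensional K W] (ρ : Representation K L W) (X X' : Module.End K W) (φ : MulAut L)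
    (T Q₂ : Subgroup L) (H : STCfg s₁ s₂ n ρ X X' φ T Q₂) (hfaith : Function.Injective ρ)
    (IHL : ∀ (L' : Type u) [Group L'] [Finite L'] (ρ' : Representation K L' W) (φ' : MulAut L')
      (T' Q' : Subgroup L'), Nat.card L' < Nat.card L → STGood s₁ s₂ n ρ' X X' φ' T' Q')
    (IHW : ∀ (n' : ℕ) (W' : Type v) [AddCommGroup W'] [Module K W'] [FiniteDimensional K W']
      (ρ' : Representation K L W') (Y Y' : Module.End K W') (φ' : MulAut L),
      finrank K W' < finrank K W → STGood s₁ s₂ n' ρ' Y Y' φ' T Q₂)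
    (x₀ t₀ : L) (hx₀ : x₀ ∈ Q₂) (hx₀inv : (φ ^ (2 ^ n)) x₀ = x₀⁻¹) (ht₀ : t₀ ∈ T)
    (hne₀ : ρ x₀ * ρ t₀ ≠ ρ t₀ * ρ x₀) :
    φ ^ (2 ^ (n + 1)) = 1 ∧
    (∀ U : Submodule K W, (∀ g, ∀ w ∈ U, ρ g w ∈ U) → (∀ w ∈ U, X w ∈ U) → U = ⊥ ∨ U = ⊤) ∧
    (∀ P : Subgroup L, P ≤ T → P.Normal → Inv φ P → P ≠ T → ∀ p ∈ P, ∀ g : L, g * p = p * g) ∧
    (∀ z ∈ T, (∀ t ∈ T, t * z = z * t) → (φ ^ (2 ^ n)) z = z) ∧
    (∀ z ∈ T, (∀ t ∈ T, t * z = z * t) → ∀ g : L, g * z = z * g) := by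
  classical
  haveI : Fact (Nat.Prime 2) := ⟨Nat.prime_two⟩
  haveI := H.hTn
  have hφP : φ ^ (2 ^ (n + 1)) = 1 := by
    ext g
    apply hfaith
    have h1 := compat_pow ρ X φ H.hcompat (2 ^ (n + 1)) g
    rw [H.hXP, one_mul, mul_one] at h1
    rw [← h1]; rfl
  obtain ⟨τ, hτdef⟩ : ∃ τ : MulAut L, τ = φ ^ (2 ^ n) := ⟨_, rfl⟩
  rw [← hτdef] at hx₀inv ⊢
  have hτφ : ∀ g, τ (φ g) = φ (τ g) := by
    intro g; rw [hτdef]; exact pow_comm_aut φ _ g
  have hτT : Inv τ T := by rw [hτdef]; exact H.hφT.pow _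
  have hcomm_of : ∀ a b : L, ρ a * ρ b = ρ b * ρ a → a * b = b * a := by
    intro a b h
    apply hfaith
    rw [map_mul, map_mul, h]
  have hs₂odd : Odd s₂ := by
    rcases h₂.out.eq_two_or_odd' with h | h
    · exact absurd h hs₂2
    · exact h
  have hoddQ : ∀ x ∈ Q₂, ∃ k : ℕ, x ^ (2 * k + 1) = 1 := by
    intro x hx
    obtain ⟨b, hb⟩ := (IsPGroup.iff_orderOf.mp H.hQ) ⟨x, hx⟩
    obtain ⟨k, hk⟩ : Odd (s₂ ^ b) := hs₂odd.pow
    refine ⟨k, ?_⟩
    rw [← hk, ← hb]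
    have := pow_orderOf_eq_one (⟨x, hx⟩ : Q₂)
    have h2 := congrArg Subtype.val this
    simpa using h2
  have hpowT : ∀ t ∈ T, ∃ a : ℕ, t ^ (s₁ ^ a) = 1 := by
    intro t ht
    obtain ⟨a, ha⟩ := H.hT ⟨t, ht⟩
    refine ⟨a, ?_⟩
    have h2 := congrArg Subtype.val ha
    simpa using h2
  have hpowQ : ∀ x ∈ Q₂, ∃ b : ℕ, x ^ (s₂ ^ b) = 1 := by
    intro x hx
    obtain ⟨a, ha⟩ := H.hQ ⟨x, hx⟩
    refine ⟨a, ?_⟩
    have h2 := congrArg Subtype.val ha
    simpa using h2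
  -- the inverted elements
  obtain ⟨I, hI⟩ : ∃ I : Set L, ∀ x, x ∈ I ↔ x ∈ Q₂ ∧ τ x = x⁻¹ :=
    ⟨{x | x ∈ Q₂ ∧ τ x = x⁻¹}, fun x => Iff.rfl⟩
  have hIφ : ∀ x ∈ I, φ x ∈ I := by
    intro x hx
    rw [hI] at hx ⊢
    exact ⟨H.hφQ x hx.1, by rw [hτφ, hx.2, map_inv]⟩
  have hx₀I : x₀ ∈ I := (hI x₀).mpr ⟨hx₀, hx₀inv⟩
  have hIQ : Subgroup.closure I ≤ Q₂ := by
    rw [Subgroup.closure_le]
    intro x hx
    exact ((hI x).mp hx).1
  -- `L = T ⊔ ⟨I⟩`
  have hsup : T ⊔ Subgroup.closure I = ⊤ := by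
    by_contra hne
    have hres := st_sub s₁ s₂ n ρ X X' φ T Q₂ H IHL (T ⊔ Subgroup.closure I) hne
      (inv_sup φ _ _ H.hφT (inv_closure φ I hIφ)) T (Subgroup.closure I) le_sup_left le_sup_right
      (fun g _ t ht => H.hTn.conj_mem t ht g) H.hT (H.hQ.to_le hIQ) H.hφT (inv_closure φ I hIφ)
      x₀ (Subgroup.subset_closure hx₀I) (by rw [← hτdef]; exact hx₀inv) t₀ ht₀
    exact hne₀ hres
  -- irreducibility
  obtain ⟨S₀, hS₀⟩ : ∃ S₀ : Set L, ∀ c, c ∈ S₀ ↔ ∃ x t, x ∈ I ∧ t ∈ T ∧ c = x * t * x⁻¹ * t⁻¹ :=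
    ⟨{c | ∃ x t, x ∈ I ∧ t ∈ T ∧ c = x * t * x⁻¹ * t⁻¹}, fun c => Iff.rfl⟩
  have hS₀T : S₀ ⊆ T := by
    intro c hc
    obtain ⟨x, t, hx, ht, rfl⟩ := (hS₀ c).mp hc
    exact T.mul_mem (H.hTn.conj_mem t ht x) (T.inv_mem ht)
  have hN₀T : Subgroup.normalClosure S₀ ≤ T := Subgroup.normalClosure_le_normal hS₀T
  have hS₀φ : ∀ c ∈ S₀, φ c ∈ S₀ := by
    intro c hc
    obtain ⟨x, t, hx, ht, rfl⟩ := (hS₀ c).mp hc
    rw [hS₀]
    refine ⟨φ x, φ t, hIφ x hx, H.hφT t ht, ?_⟩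
    rw [map_mul, map_mul, map_mul, map_inv, map_inv]
  have hirrX : ∀ U : Submodule K W, (∀ g, ∀ w ∈ U, ρ g w ∈ U) → (∀ w ∈ U, X w ∈ U) →
      U = ⊥ ∨ U = ⊤ := by
    refine irr_of_avg ρ X X' φ H.hXX' H.hX'X H.hcompat (Subgroup.normalClosure S₀)
      (inv_normalClosure φ S₀ hS₀φ) ?_ ?_ ?_
    · obtain ⟨k, hk⟩ := IsPGroup.iff_card.mp (H.hT.to_le hN₀T)
      rw [hk, Nat.cast_pow]
      exact pow_ne_zero _ hs₁K
    · intro U hUtop hσU hXU hX'U
      have hlt : finrank K U < finrank K W := Submodule.finrank_lt hUtop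
      have hres := IHW n U (resRep ρ U hσU) (X.restrict hXU) (X'.restrict hX'U) φ hlt
        (H.restrict U hσU hXU hX'U)
      have hcomU : ∀ x ∈ I, ∀ t ∈ T, ∀ w ∈ U, ρ x (ρ t w) = ρ t (ρ x w) := by
        intro x hx t ht w hw
        have hxI := (hI x).mp hx
        have h1 := hres x hxI.1 (by rw [← hτdef]; exact hxI.2) t ht
        have := congrArg (fun A : Module.End K U => ((A ⟨w, hw⟩ : U) : W)) h1
        exact this
      obtain ⟨Fx, hFxn, hFx⟩ : ∃ Fx : Subgroup L, Fx.Normal ∧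
          ∀ g, g ∈ Fx ↔ ∀ w ∈ U, ρ g w = w := by
        refine ⟨{ carrier := {g | ∀ w ∈ U, ρ g w = w}
                  one_mem' := by intro w _; simp
                  mul_mem' := by
                    intro a b ha hb w hw
                    rw [map_mul, Module.End.mul_apply, hb w hw, ha w hw]
                  inv_mem' := by
                    intro a ha w hw
                    have h1 := ha w hw
                    have h2 : ρ a⁻¹ (ρ a w) = w := by
                      rw [← Module.End.mul_apply, ← map_mul, inv_mul_cancel, map_one]; rfl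
                    rwa [h1] at h2 }, ⟨fun g hg h => ?_⟩, fun g => Iff.rfl⟩
        intro w hw
        show ρ (h * g * h⁻¹) w = w
        rw [map_mul, map_mul, Module.End.mul_apply, Module.End.mul_apply,
          hg _ (hσU h⁻¹ w hw), ← Module.End.mul_apply, ← map_mul, mul_inv_cancel, map_one]
        rfl
      haveI := hFxn
      have hS₀Fx : S₀ ⊆ Fx := by
        intro c hc
        obtain ⟨x, t, hx, ht, rfl⟩ := (hS₀ c).mp hc
        show x * t * x⁻¹ * t⁻¹ ∈ Fx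
        rw [hFx]
        intro w hw
        have hu : ρ x⁻¹ (ρ t⁻¹ w) ∈ U := hσU _ _ (hσU _ _ hw)
        have h1 := hcomU x hx t ht _ hu
        rw [map_mul, map_mul, map_mul, Module.End.mul_apply, Module.End.mul_apply,
          Module.End.mul_apply, h1, ← Module.End.mul_apply (ρ x), ← map_mul, mul_inv_cancel,
          map_one, Module.End.one_apply, ← Module.End.mul_apply, ← map_mul, mul_inv_cancel,
          map_one]
        rfl
      have hle : Subgroup.normalClosure S₀ ≤ Fx := Subgroup.normalClosure_le_normal hS₀Fx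
      intro c hc w hw
      exact (hFx c).mp (hle hc) w hw
    · refine ⟨x₀ * t₀ * x₀⁻¹ * t₀⁻¹, Subgroup.subset_normalClosure
        ((hS₀ _).mpr ⟨x₀, t₀, hx₀I, ht₀, rfl⟩), ?_⟩
      intro h1
      apply hne₀
      have h2 : x₀ * t₀ = (x₀ * t₀ * x₀⁻¹ * t₀⁻¹) * (t₀ * x₀) := by group
      rw [← map_mul, h2, map_mul, h1, one_mul, map_mul]
  -- the centre of `T`
  have hτZ : ∀ z ∈ T, (∀ t ∈ T, t * z = z * t) → τ z = z := by
    intro z hz hzc
    obtain ⟨Zt, hZt⟩ : ∃ Zt : Subgroup L, ∀ g, g ∈ Zt ↔ g ∈ T ∧ ∀ t ∈ T, t * g = g * t := by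
      refine ⟨(Subgroup.center T).map T.subtype, fun g => ?_⟩
      constructor
      · rintro ⟨c, hc, rfl⟩
        refine ⟨c.2, fun t ht => ?_⟩
        have := Subgroup.mem_center_iff.mp hc ⟨t, ht⟩
        exact congrArg Subtype.val this
      · rintro ⟨hg, hgc⟩
        refine Subgroup.mem_map.mpr ⟨⟨g, hg⟩, ?_, rfl⟩
        rw [Subgroup.mem_center_iff]
        intro t
        exact Subtype.ext (hgc t t.2)
    have hZtφ : Inv φ Zt := by
      intro g hg
      rw [hZt] at hg ⊢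
      refine ⟨H.hφT g hg.1, fun t ht => ?_⟩
      have ht' : φ⁻¹ t ∈ T := by
        rw [← Inv.apply_mem_iff H.hφT, MulAut.apply_inv_self]; exact ht
      have := congrArg φ (hg.2 _ ht')
      rw [map_mul, map_mul, MulAut.apply_inv_self] at this
      exact this
    apply hfaith
    rw [hτdef]
    refine abelian_fixed 2 ρ X φ H.hcompat n H.hXP H.hNX Zt ?_ ?_ ?_ z ((hZt z).mpr ⟨hz, hzc⟩)
    · intro a ha b hb
      rw [← map_mul, ← map_mul, ((hZt b).mp hb).2 a ((hZt a).mp ha).1]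
    · intro g
      exact (Inv.apply_mem_iff hZtφ g).symm
    · have hle : Zt ≤ T := fun g hg => ((hZt g).mp hg).1
      obtain ⟨k, hk⟩ := IsPGroup.iff_card.mp (H.hT.to_le hle)
      rw [hk, Nat.cast_pow]
      exact pow_ne_zero _ hs₁K
  have hIcent : ∀ x ∈ I, ∀ z ∈ T, (∀ t ∈ T, t * z = z * t) → x * z = z * x := by
    intro x hx z hz hzc
    have hxI := (hI x).mp hx
    obtain ⟨k, hk⟩ := hoddQ x hxI.1
    have hconjT : x * z * x⁻¹ ∈ T := H.hTn.conj_mem z hz x
    have hconjc : ∀ t ∈ T, t * (x * z * x⁻¹) = (x * z * x⁻¹) * t := by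
      intro t ht
      have ht' : x⁻¹ * t * x ∈ T := by
        have := H.hTn.conj_mem t ht x⁻¹
        rwa [inv_inv] at this
      have := hzc _ ht'
      calc t * (x * z * x⁻¹) = x * ((x⁻¹ * t * x) * z) * x⁻¹ := by group
        _ = x * (z * (x⁻¹ * t * x)) * x⁻¹ := by rw [this]
        _ = (x * z * x⁻¹) * t := by group
    exact comm_of_inverted τ x z hxI.2 (hτZ z hz hzc) (hτZ _ hconjT hconjc) k hk
  have hgen_central : ∀ P : Subgroup L, P.Normal → (∀ x ∈ I, ∀ p ∈ P, x * p = p * x) →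
      (∀ t ∈ T, ∀ p ∈ P, t * p = p * t) → ∀ p ∈ P, ∀ g : L, g * p = p * g := by
    intro P hPn hPI hPT p hp g
    haveI := hPn
    obtain ⟨C, hCn, hC⟩ := exists_centralizer_normal P
    have h1 : T ⊔ Subgroup.closure I ≤ C := by
      refine sup_le ?_ ?_
      · intro t ht
        rw [hC]
        exact hPT t ht
      · rw [Subgroup.closure_le]
        intro x hx
        show x ∈ C
        rw [hC]
        exact hPI x hx
    have hg : g ∈ C := h1 (by rw [hsup]; trivial)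
    exact (hC g).mp hg p hp
  have hZcentral : ∀ z ∈ T, (∀ t ∈ T, t * z = z * t) → ∀ g : L, g * z = z * g := by
    intro z hz hzc g
    obtain ⟨C, hC⟩ : ∃ C : Subgroup L, ∀ g, g ∈ C ↔ g * z = z * g :=
      ⟨Subgroup.centralizer {z}, fun g => by
        rw [Subgroup.mem_centralizer_iff]
        constructor
        · intro h; exact (h z rfl).symm
        · intro h y hy
          rw [Set.mem_singleton_iff.mp hy]; exact h.symm⟩
    have h1 : T ⊔ Subgroup.closure I ≤ C := by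
      refine sup_le ?_ ?_
      · intro t ht
        rw [hC]
        exact hzc t ht
      · rw [Subgroup.closure_le]
        intro x hx
        show x ∈ C
        rw [hC]
        exact hIcent x hx z hz hzc
    have hg : g ∈ C := h1 (by rw [hsup]; trivial)
    exact (hC g).mp hg
  -- proper normal invariant subgroups of `T` are centralised by the inverted elements
  have hS5a : ∀ P : Subgroup L, P ≤ T → P.Normal → Inv φ P → P ≠ T →
      ∀ x ∈ I, ∀ p ∈ P, x * p = p * x := by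
    intro P hPT hPn hPφ hPne x hx p hp
    haveI := hPn
    have hxI := (hI x).mp hx
    have hL₂ : P ⊔ Q₂ ≠ ⊤ := by
      intro htop
      apply hPne
      apply le_antisymm hPT
      intro t ht
      have ht' : t ∈ P ⊔ Q₂ := by rw [htop]; trivial
      obtain ⟨y, hy, q, hq, hyq⟩ := Subgroup.mem_sup_of_normal_left.mp ht'
      have hqT : q ∈ T := by
        have : q = y⁻¹ * t := by rw [← hyq]; group
        rw [this]
        exact T.mul_mem (T.inv_mem (hPT hy)) ht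
      obtain ⟨a, ha⟩ := hpowT q hqT
      obtain ⟨b, hb⟩ := hpowQ q hq
      have hq1 := eq_one_of_two_primes s₁ s₂ h12 q a b ha hb
      rw [hq1, mul_one] at hyq
      rw [← hyq]; exact hy
    have hres := st_sub s₁ s₂ n ρ X X' φ T Q₂ H IHL (P ⊔ Q₂) hL₂
      (inv_sup φ _ _ hPφ H.hφQ) P Q₂ le_sup_left le_sup_right
      (fun g _ t ht => hPn.conj_mem t ht g) (H.hT.to_le hPT) H.hQ hPφ H.hφQ
      x hxI.1 (by rw [← hτdef]; exact hxI.2) p hp
    exact hcomm_of _ _ hres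
  -- `T` lies in the normal closure of the inverted elements
  have hTN : T ≤ Subgroup.normalClosure I := by
    by_contra hnot
    have hPne : T ⊓ Subgroup.normalClosure I ≠ T := by
      intro h
      apply hnot
      rw [← h]
      exact inf_le_right
    have hPn : (T ⊓ Subgroup.normalClosure I).Normal := inferInstance
    have hPφ : Inv φ (T ⊓ Subgroup.normalClosure I) :=
      Inv.inf' H.hφT (inv_normalClosure φ I hIφ)
    have hcen := hS5a _ inf_le_left hPn hPφ hPne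
    -- `x₀` centralises `t₀`
    have hx₀N : x₀ ∈ Subgroup.normalClosure I := Subgroup.subset_normalClosure hx₀I
    have hcT : x₀ * t₀ * x₀⁻¹ * t₀⁻¹ ∈ T :=
      T.mul_mem (H.hTn.conj_mem t₀ ht₀ x₀) (T.inv_mem ht₀)
    have hcN : x₀ * t₀ * x₀⁻¹ * t₀⁻¹ ∈ Subgroup.normalClosure I := by
      have h1 : t₀ * x₀⁻¹ * t₀⁻¹ ∈ Subgroup.normalClosure I :=
        (inferInstance : (Subgroup.normalClosure I).Normal).conj_mem _
          ((Subgroup.normalClosure I).inv_mem hx₀N) t₀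
      have h2 : x₀ * t₀ * x₀⁻¹ * t₀⁻¹ = x₀ * (t₀ * x₀⁻¹ * t₀⁻¹) := by group
      rw [h2]
      exact (Subgroup.normalClosure I).mul_mem hx₀N h1
    have hcomm := hcen x₀ hx₀I _ ⟨hcT, hcN⟩
    obtain ⟨a, ha⟩ := hpowT _ hcT
    obtain ⟨b, hb⟩ := hpowQ x₀ hx₀
    have hc1 := eq_one_of_coprime_conj s₁ s₂ h12 x₀ t₀ (x₀ * t₀ * x₀⁻¹ * t₀⁻¹) a b ha hb
      (by group) hcomm
    apply hne₀
    have h2 : x₀ * t₀ = (x₀ * t₀ * x₀⁻¹ * t₀⁻¹) * (t₀ * x₀) := by group
    rw [← map_mul, h2, hc1, one_mul, map_mul]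
  have hcentral : ∀ P : Subgroup L, P ≤ T → P.Normal → Inv φ P → P ≠ T →
      ∀ p ∈ P, ∀ g : L, g * p = p * g := by
    intro P hPT hPn hPφ hPne
    have hcen := hS5a P hPT hPn hPφ hPne
    refine hgen_central P hPn hcen ?_
    haveI := hPn
    obtain ⟨C, hCn, hC⟩ := exists_centralizer_normal P
    haveI := hCn
    have hIC : I ⊆ C := by
      intro x hx
      show x ∈ C
      rw [hC]
      exact hcen x hx
    have hNC : Subgroup.normalClosure I ≤ C := Subgroup.normalClosure_le_normal hIC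
    intro t ht p hp
    exact (hC t).mp (hNC (hTN ht)) p hp
  exact ⟨hφP, hirrX, hcentral, hτZ, hZcentral⟩

end Cfsg.Agent.Lib.Helper3.Sh
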