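import Mathlib
import Cfsg.Agent.Lib.Helper3.HHC1
import Cfsg.Agent.Lib.Helper3.ShA

/-!
# Shult–Gross, part Y: the configuration induced on a weight space of the centre.
-/

set_option autoImplicit false
set_option maxHeartbeats 4000000
set_option maxRecDepth 100000
set_option linter.unusedVariables false
set_option linter.unusedSectionVars false
set_option linter.style.haveILetI false
set_option linter.deprecated false

namespace Cfsg.Agent.Lib.Helper3.Sh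

open Module Cfsg.Agent.Lib.Helper3 Cfsg.Agent.Lib.Helper3.HHC1

/-- Splitting a geometric sum. -/
theorem geom_split {R : Type*} [Ring R] (x : R) (a b : ℕ) :
    ∑ k ∈ Finset.range (a * b), x ^ k
      = (∑ r ∈ Finset.range a, x ^ r) * ∑ i ∈ Finset.range b, (x ^ a) ^ i := by
  induction b with
  | zero => simp
  | succ b ih =>
    rw [Nat.mul_succ, Finset.sum_range_add, ih, Finset.sum_range_succ, mul_add]
    congr 1
    rw [Finset.sum_mul]
    refine Finset.sum_congr rfl (fun r _ => ?_)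
    rw [← pow_mul, ← pow_add, add_comm]

theorem pp_bottom_data {K : Type*} [Field K] (p : ℕ) [hp : Fact p.Prime]
    {W : Type*} [AddCommGroup W] [Module K W] [FiniteDimensional K W]
    {Q : Type*} [Group Q]
    (σ : Representation K Q W) (X X' : Module.End K W) (hXX' : X * X' = 1) (hX'X : X' * X = 1)
    (φ : MulAut Q) (hcompat : ∀ g, X * σ g = σ (φ g) * X) (j N : ℕ)
    (hXP : X ^ (p ^ (j + (N + 1))) = 1)
    (hNX : ∑ i ∈ Finset.range (p ^ (j + (N + 1))), X ^ i = 0)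
    (hirrX : ∀ U : Submodule K W, (∀ g, ∀ w ∈ U, σ g w ∈ U) → (∀ w ∈ U, X w ∈ U) →
      U = ⊥ ∨ U = ⊤)
    (V₀ : Submodule K W) (hσV : ∀ g, ∀ w ∈ V₀, σ g w ∈ V₀)
    (hXV : ∀ w ∈ V₀, (X ^ (p ^ j)) w ∈ V₀) (hX'V : ∀ w ∈ V₀, (X' ^ (p ^ j)) w ∈ V₀)
    (hind : iSupIndep (fun i : Fin (p ^ j) => V₀.map (X ^ (i : ℕ)))) :
    (((X ^ (p ^ j)).restrict hXV : Module.End K V₀) * (X' ^ (p ^ j)).restrict hX'V = 1) ∧
    (((X' ^ (p ^ j)).restrict hX'V : Module.End K V₀) * (X ^ (p ^ j)).restrict hXV = 1) ∧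
    (∀ g, ((X ^ (p ^ j)).restrict hXV : Module.End K V₀) * resRep σ V₀ hσV g
      = resRep σ V₀ hσV ((φ ^ (p ^ j)) g) * (X ^ (p ^ j)).restrict hXV) ∧
    (((X ^ (p ^ j)).restrict hXV : Module.End K V₀) ^ (p ^ (N + 1)) = 1) ∧
    (∑ i ∈ Finset.range (p ^ (N + 1)), ((X ^ (p ^ j)).restrict hXV : Module.End K V₀) ^ i = 0) ∧
    (∀ U : Submodule K V₀, (∀ g, ∀ w ∈ U, resRep σ V₀ hσV g w ∈ U) →
      (∀ w ∈ U, ((X ^ (p ^ j)).restrict hXV : Module.End K V₀) w ∈ U) → U = ⊥ ∨ U = ⊤) := by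
  classical
  have hp0 : 0 < p ^ j := pow_pos hp.out.pos _
  have h11 : X ^ (p ^ j) * X' ^ (p ^ j) = 1 := pow_mul_pow_eq_one X X' hXX' hX'X _
  have h12 : X' ^ (p ^ j) * X ^ (p ^ j) = 1 := pow_mul_pow_eq_one X' X hX'X hXX' _
  have hXpow : ∀ (i : ℕ) (g : Q) (v : W), σ g ((X ^ i) v) = (X ^ i) (σ ((φ ^ i)⁻¹ g) v) := by
    intro i g v
    have h1 := compat_pow σ X φ hcompat i ((φ ^ i)⁻¹ g)
    rw [MulAut.apply_inv_self] at h1
    have := congrArg (fun A : Module.End K W => A v) h1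
    simp only [Module.End.mul_apply] at this
    exact this.symm
  have hV0 : V₀.map (X ^ 0) = V₀ := by
    rw [pow_zero]
    exact Submodule.map_id _
  refine ⟨?_, ?_, ?_, ?_, ?_, ?_⟩
  · refine LinearMap.ext (fun w => Subtype.ext ?_)
    show (X ^ (p ^ j)) ((X' ^ (p ^ j)) (w : W)) = (w : W)
    rw [← Module.End.mul_apply, h11]; rfl
  · refine LinearMap.ext (fun w => Subtype.ext ?_)
    show (X' ^ (p ^ j)) ((X ^ (p ^ j)) (w : W)) = (w : W)
    rw [← Module.End.mul_apply, h12]; rfl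
  · intro g
    refine LinearMap.ext (fun w => Subtype.ext ?_)
    show (X ^ (p ^ j)) (σ g (w : W)) = σ ((φ ^ (p ^ j)) g) ((X ^ (p ^ j)) (w : W))
    have := congrArg (fun A : Module.End K W => A (w : W)) (compat_pow σ X φ hcompat (p ^ j) g)
    simpa using this
  · refine LinearMap.ext (fun w => Subtype.ext ?_)
    rw [restrict_pow_coe, ← pow_mul, ← pow_add, hXP]; rfl
  · refine LinearMap.ext (fun w => ?_)
    rw [LinearMap.sum_apply, LinearMap.zero_apply]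
    obtain ⟨u, hu⟩ : ∃ u : V₀, u = ∑ i ∈ Finset.range (p ^ (N + 1)),
        (((X ^ (p ^ j)).restrict hXV : Module.End K V₀) ^ i) w := ⟨_, rfl⟩
    rw [← hu]
    have hucoe : (u : W) = (∑ i ∈ Finset.range (p ^ (N + 1)), (X ^ (p ^ j)) ^ i) (w : W) := by
      rw [hu, Submodule.coe_sum, LinearMap.sum_apply]
      exact Finset.sum_congr rfl (fun i _ => restrict_pow_coe _ V₀ hXV i w)
    have hsplit := geom_split X (p ^ j) (p ^ (N + 1))
    rw [← pow_add, hNX] at hsplit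
    have h0 : (∑ r ∈ Finset.range (p ^ j), X ^ r) (u : W) = 0 := by
      rw [hucoe, ← Module.End.mul_apply, ← hsplit]; rfl
    rw [LinearMap.sum_apply] at h0
    have hsum : ∑ r : Fin (p ^ j), (X ^ (r : ℕ)) (u : W) = 0 := by
      rw [Fin.sum_univ_eq_sum_range (fun r => (X ^ r) (u : W)) (p ^ j)]
      exact h0
    have h1 := eq_zero_of_sum_eq_zero hind Finset.univ
      (fun r : Fin (p ^ j) => (X ^ (r : ℕ)) (u : W))
      (fun r _ => Submodule.mem_map_of_mem u.2) hsum ⟨0, hp0⟩ (Finset.mem_univ _)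
    simp only [pow_zero, Module.End.one_apply] at h1
    exact Subtype.ext h1
  · intro U hτU hYU
    obtain ⟨U₀, hU₀def⟩ : ∃ U₀ : Submodule K W, U₀ = U.map V₀.subtype := ⟨_, rfl⟩
    have hU₀mem : ∀ w : W, w ∈ U₀ ↔ ∃ hw : w ∈ V₀, (⟨w, hw⟩ : V₀) ∈ U := by
      intro w
      rw [hU₀def, Submodule.mem_map]
      constructor
      · rintro ⟨y, hy, rfl⟩
        exact ⟨y.2, hy⟩
      · rintro ⟨hw, hy⟩
        exact ⟨⟨w, hw⟩, hy, rfl⟩
    have hU₀le : U₀ ≤ V₀ := by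
      intro w hw
      obtain ⟨hw', _⟩ := (hU₀mem w).mp hw
      exact hw'
    have hσU₀ : ∀ g, ∀ w ∈ U₀, σ g w ∈ U₀ := by
      intro g w hw
      obtain ⟨hw', hy⟩ := (hU₀mem w).mp hw
      rw [hU₀mem]
      exact ⟨hσV g w hw', hτU g _ hy⟩
    have hXU₀ : ∀ w ∈ U₀, (X ^ (p ^ j)) w ∈ U₀ := by
      intro w hw
      obtain ⟨hw', hy⟩ := (hU₀mem w).mp hw
      rw [hU₀mem]
      exact ⟨hXV w hw', hYU _ hy⟩
    have hU₀0 : U₀.map (X ^ 0) = U₀ := by
      rw [pow_zero]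
      exact Submodule.map_id _
    have h1 : ∀ g, ∀ w ∈ (⨆ i : Fin (p ^ j), U₀.map (X ^ (i : ℕ))),
        σ g w ∈ (⨆ i : Fin (p ^ j), U₀.map (X ^ (i : ℕ))) := by
      intro g w hw
      have hle : (⨆ i : Fin (p ^ j), U₀.map (X ^ (i : ℕ))).map (σ g)
          ≤ ⨆ i : Fin (p ^ j), U₀.map (X ^ (i : ℕ)) := by
        rw [Submodule.map_iSup]
        refine iSup_le (fun i => le_iSup_of_le i ?_)
        intro w hw
        obtain ⟨v, hv, rfl⟩ := Submodule.mem_map.mp hw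
        obtain ⟨u, hu, rfl⟩ := Submodule.mem_map.mp hv
        rw [hXpow]
        exact Submodule.mem_map_of_mem (hσU₀ _ u hu)
      exact hle (Submodule.mem_map_of_mem hw)
    have h2 : ∀ w ∈ (⨆ i : Fin (p ^ j), U₀.map (X ^ (i : ℕ))),
        X w ∈ (⨆ i : Fin (p ^ j), U₀.map (X ^ (i : ℕ))) := by
      intro w hw
      have hle : (⨆ i : Fin (p ^ j), U₀.map (X ^ (i : ℕ))).map X
          ≤ ⨆ i : Fin (p ^ j), U₀.map (X ^ (i : ℕ)) := by
        rw [Submodule.map_iSup]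
        refine iSup_le (fun i => ?_)
        intro w hw
        obtain ⟨v, hv, rfl⟩ := Submodule.mem_map.mp hw
        obtain ⟨u, hu, rfl⟩ := Submodule.mem_map.mp hv
        rw [← Module.End.mul_apply, ← pow_succ']
        by_cases hi : (i : ℕ) + 1 < p ^ j
        · exact Submodule.mem_iSup_of_mem (⟨(i : ℕ) + 1, hi⟩ : Fin (p ^ j))
            (Submodule.mem_map_of_mem hu)
        · have hit : (i : ℕ) + 1 = p ^ j := by
            have := i.2
            omega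
          rw [hit]
          refine Submodule.mem_iSup_of_mem (⟨0, hp0⟩ : Fin (p ^ j)) ?_
          show (X ^ (p ^ j)) u ∈ U₀.map (X ^ 0)
          rw [hU₀0]
          exact hXU₀ u hu
      exact hle (Submodule.mem_map_of_mem hw)
    rcases hirrX _ h1 h2 with h0 | h0
    · left
      have hU₀bot : U₀ = ⊥ := by
        rw [eq_bot_iff, ← h0]
        refine le_trans (le_of_eq hU₀0.symm) ?_
        exact le_iSup (fun i : Fin (p ^ j) => U₀.map (X ^ (i : ℕ))) ⟨0, hp0⟩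
      rw [Submodule.eq_bot_iff]
      intro y hy
      have : (y : W) ∈ U₀ := (hU₀mem _).mpr ⟨y.2, hy⟩
      rw [hU₀bot, Submodule.mem_bot] at this
      exact Subtype.ext this
    · right
      rw [Submodule.eq_top_iff']
      intro y
      have hy : (y : W) ∈ (⨆ i : Fin (p ^ j), U₀.map (X ^ (i : ℕ))) := by rw [h0]; trivial
      rw [iSup_split_single _ (⟨0, hp0⟩ : Fin (p ^ j))] at hy
      obtain ⟨a₀, ha₀, b₀, hb₀, hab⟩ := Submodule.mem_sup.mp hy
      have ha₀' : a₀ ∈ U₀ := by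
        have : a₀ ∈ U₀.map (X ^ 0) := ha₀
        rwa [hU₀0] at this
      have hb₀' : b₀ ∈ ⨆ (i : Fin (p ^ j)) (_ : i ≠ ⟨0, hp0⟩), V₀.map (X ^ (i : ℕ)) := by
        have hmono : (⨆ (i : Fin (p ^ j)) (_ : i ≠ ⟨0, hp0⟩), U₀.map (X ^ (i : ℕ)))
            ≤ ⨆ (i : Fin (p ^ j)) (_ : i ≠ ⟨0, hp0⟩), V₀.map (X ^ (i : ℕ)) :=
          iSup₂_mono (fun i _ => Submodule.map_mono hU₀le)
        exact hmono hb₀
      have hb₀'' : b₀ ∈ V₀.map (X ^ ((⟨0, hp0⟩ : Fin (p ^ j)) : ℕ)) := by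
        show b₀ ∈ V₀.map (X ^ 0)
        rw [hV0]
        have : b₀ = (y : W) - a₀ := by rw [← hab]; abel
        rw [this]
        exact V₀.sub_mem y.2 (hU₀le ha₀')
      have hb0 : b₀ = 0 := Submodule.disjoint_def.mp (hind ⟨0, hp0⟩) b₀ hb₀'' hb₀'
      rw [hb0, add_zero] at hab
      obtain ⟨hw', hyU⟩ := (hU₀mem a₀).mp ha₀'
      have : (⟨a₀, hw'⟩ : V₀) = y := Subtype.ext hab
      rwa [this] at hyU

end Cfsg.Agent.Lib.Helper3.Sh
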