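import Mathlib
import Cfsg.Agent.Lib.Helper3.ShV
import Cfsg.Agent.Lib.Helper3.ShY
import Cfsg.Agent.Lib.Helper3.GrM

/-!
# Gross, part P: in a minimal counterexample to the stacked statement the centre acts by scalars
(Clifford descent).
-/

set_option autoImplicit false
set_option maxHeartbeats 4000000
set_option maxRecDepth 100000
set_option linter.unusedVariables false
set_option linter.unusedSectionVars false
set_option linter.style.haveILetI false
set_option linter.deprecated false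

namespace Cfsg.Agent.Lib.Helper3.Sh

open Module Cfsg.Agent.Lib.Helper3 Cfsg.Agent.Lib.Helper3.HHC1 Cfsg.Agent.Lib.Helper8.FP4
  Cfsg.Agent.Lib.Helper6.Wd

universe u v w

theorem st_center_scalar (s₁ s₂ n : ℕ) {K : Type w} [Field K] [IsAlgClosed K]
    {L : Type u} [Group L] [Finite L] {W : Type v} [AddCommGroup W] [Module K W]
    [FiniteDimensional K W] (ρ : Representation K L W) (X X' : Module.End K W) (φ : MulAut L)
    (T Q₂ : Subgroup L) (H : STCfg s₁ s₂ n ρ X X' φ T Q₂) (hfaith : Function.Injective ρ)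
    (IHW : ∀ (n' : ℕ) (W' : Type v) [AddCommGroup W'] [Module K W'] [FiniteDimensional K W']
      (ρ' : Representation K L W') (Y Y' : Module.End K W') (φ' : MulAut L),
      finrank K W' < finrank K W → STGood s₁ s₂ n' ρ' Y Y' φ' T Q₂)
    (x₀ t₀ : L) (hx₀ : x₀ ∈ Q₂) (hx₀inv : (φ ^ (2 ^ n)) x₀ = x₀⁻¹) (ht₀ : t₀ ∈ T)
    (hne₀ : ρ x₀ * ρ t₀ ≠ ρ t₀ * ρ x₀)
    (hirrX : ∀ U : Submodule K W, (∀ g, ∀ w ∈ U, ρ g w ∈ U) → (∀ w ∈ U, X w ∈ U) →
      U = ⊥ ∨ U = ⊤) :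
    ∀ z ∈ Subgroup.center L, ∃ μ : K, ρ z = μ • (1 : Module.End K W) := by
  classical
  haveI : Fact (Nat.Prime 2) := ⟨Nat.prime_two⟩
  have hntW : Nontrivial W := by
    by_contra hnon
    rw [not_nontrivial_iff_subsingleton] at hnon
    apply hne₀
    ext w
    exact Subsingleton.elim _ _
  haveI := hntW
  obtain ⟨χ, V₀, j, hjn, hV₀ne, hmem, hσV, hXV, hper, hind, hsup, hVwt, hcenfix⟩ :=
    pp_clifford2 2 ρ X φ H.hcompat n H.hXP H.hNX hfaith hirrX
  rcases Nat.eq_zero_or_pos j with hj0 | hjpos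
  · subst hj0
    have hV₀top : V₀ = ⊤ := by
      rw [eq_top_iff, ← hsup]
      refine iSup_le (fun i => ?_)
      have hi : (i : ℕ) = 0 := by
        have := i.2
        simp only [pow_zero] at this
        omega
      rw [hi, pow_zero]
      exact le_of_eq (Submodule.map_id _)
    intro z hz
    refine ⟨χ z, LinearMap.ext (fun w => ?_)⟩
    have hw : w ∈ V₀ := by rw [hV₀top]; trivial
    rw [(hmem w).mp hw z hz]; rfl
  · exfalso
    obtain ⟨N, hN⟩ : ∃ N, n = j + N := ⟨n - j, by omega⟩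
    subst hN
    have h12 : X' ^ (2 ^ j) * X ^ (2 ^ j) = 1 := pow_mul_pow_eq_one X' X H.hX'X H.hXX' _
    have hX'V := inv_mem_of_mem (X ^ (2 ^ j)) (X' ^ (2 ^ j)) h12 V₀ hXV
    have hXP' : X ^ (2 ^ (j + (N + 1))) = 1 := H.hXP
    have hNX' : ∑ i ∈ Finset.range (2 ^ (j + (N + 1))), X ^ i = 0 := H.hNX
    obtain ⟨hYY', hY'Y, hcompatY, hYP, hNY, hirrY⟩ := pp_bottom_data 2 ρ X X' H.hXX' H.hX'X φ
      H.hcompat j N hXP' hNX' hirrX V₀ hσV hXV hX'V hind
    -- `V₀` is proper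
    have hXsurj : ∀ w : W, ∃ v, X v = w := by
      intro w
      refine ⟨X' w, ?_⟩
      rw [← Module.End.mul_apply, H.hXX']; rfl
    have hV₀top : V₀ ≠ ⊤ := by
      intro htop
      have h2 : 1 < 2 ^ j := Nat.one_lt_two_pow (by omega)
      have h0 : 0 < 2 ^ j := by omega
      have hdis := hind.pairwiseDisjoint (i := (⟨0, h0⟩ : Fin (2 ^ j))) (j := ⟨1, h2⟩)
        (by intro h; have := congrArg Fin.val h; simp at this)
      have e0 : V₀.map (X ^ ((⟨0, h0⟩ : Fin (2 ^ j)) : ℕ)) = ⊤ := by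
        show V₀.map (X ^ 0) = ⊤
        rw [pow_zero, htop]
        exact Submodule.map_id _
      have e1 : V₀.map (X ^ ((⟨1, h2⟩ : Fin (2 ^ j)) : ℕ)) = ⊤ := by
        show V₀.map (X ^ 1) = ⊤
        rw [pow_one, htop, eq_top_iff]
        intro w _
        obtain ⟨v, hv⟩ := hXsurj w
        exact ⟨v, trivial, hv⟩
      have hdis' : Disjoint (V₀.map (X ^ ((⟨0, h0⟩ : Fin (2 ^ j)) : ℕ)))
          (V₀.map (X ^ ((⟨1, h2⟩ : Fin (2 ^ j)) : ℕ))) := hdis
      rw [e0, e1, disjoint_self] at hdis'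
      exact top_ne_bot hdis'
    have hlt : finrank K V₀ < finrank K W := Submodule.finrank_lt hV₀top
    have hcfgV : STCfg s₁ s₂ N (resRep ρ V₀ hσV) ((X ^ (2 ^ j)).restrict hXV)
        ((X' ^ (2 ^ j)).restrict hX'V) (φ ^ (2 ^ j)) T Q₂ :=
      { hTn := H.hTn
        hT := H.hT
        hQ := H.hQ
        hφT := H.hφT.pow _
        hφQ := H.hφQ.pow _
        hXX' := hYY'
        hX'X := hY'Y
        hcompat := hcompatY
        hXP := hYP
        hNX := hNY }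
    have hresV := IHW N V₀ (resRep ρ V₀ hσV) _ _ (φ ^ (2 ^ j)) hlt hcfgV
    have hψeq : (φ ^ (2 ^ j)) ^ (2 ^ N) = φ ^ (2 ^ (j + N)) := by
      rw [← pow_mul, ← pow_add]
    rw [hψeq] at hresV
    have hXpow : ∀ (i : ℕ) (g : L) (v : W), ρ g ((X ^ i) v) = (X ^ i) (ρ ((φ ^ i)⁻¹ g) v) := by
      intro i g v
      have h1 := compat_pow ρ X φ H.hcompat i ((φ ^ i)⁻¹ g)
      rw [MulAut.apply_inv_self] at h1
      have := congrArg (fun A : Module.End K W => A v) h1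
      simp only [Module.End.mul_apply] at this
      exact this.symm
    apply hne₀
    refine end_ext_of_iSup _ hsup _ _ (fun i w hw => ?_)
    obtain ⟨v, hv, rfl⟩ := Submodule.mem_map.mp hw
    have hxQ : (φ ^ (i : ℕ))⁻¹ x₀ ∈ Q₂ := by
      rw [← Inv.apply_mem_iff (H.hφQ.pow (i : ℕ)), MulAut.apply_inv_self]; exact hx₀
    have htT : (φ ^ (i : ℕ))⁻¹ t₀ ∈ T := by
      rw [← Inv.apply_mem_iff (H.hφT.pow (i : ℕ)), MulAut.apply_inv_self]; exact ht₀
    have hxinv : (φ ^ (2 ^ (j + N))) ((φ ^ (i : ℕ))⁻¹ x₀) = ((φ ^ (i : ℕ))⁻¹ x₀)⁻¹ := by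
      rw [← pow_inv_comm_aut, hx₀inv, map_inv]
    have h1 := hresV _ hxQ hxinv _ htT
    have h2 := congrArg (fun A : Module.End K V₀ => ((A ⟨v, hv⟩ : V₀) : W)) h1
    have h3 : ρ ((φ ^ (i : ℕ))⁻¹ x₀) (ρ ((φ ^ (i : ℕ))⁻¹ t₀) v)
        = ρ ((φ ^ (i : ℕ))⁻¹ t₀) (ρ ((φ ^ (i : ℕ))⁻¹ x₀) v) := h2
    rw [Module.End.mul_apply, Module.End.mul_apply, hXpow, hXpow, hXpow, hXpow, h3]

end Cfsg.Agent.Lib.Helper3.Sh
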