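import Mathlib
import Cfsg.Agent.Lib.Helper3.GrN

/-!
# Gross, part Q: a normal `p`-subgroup all of whose proper characteristic subgroups are central has
class at most two and central quotient of exponent `p`.
-/

set_option autoImplicit false
set_option maxHeartbeats 4000000
set_option maxRecDepth 100000
set_option linter.unusedVariables false
set_option linter.unusedSectionVars false
set_option linter.style.haveILetI false
set_option linter.deprecated false

namespace Cfsg.Agent.Lib.Helper3.Sh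

open Cfsg.Agent.Lib.Helper8.FP4 Cfsg.Agent.Lib.Helper6.Wd

theorem st_T_struct (s₁ : ℕ) [h₁ : Fact s₁.Prime] {L : Type*} [Group L] [Finite L]
    (T : Subgroup L) [hTn : T.Normal] (hT : IsPGroup s₁ T) (φ : MulAut L) (hφT : Inv φ T)
    (hcentral : ∀ P : Subgroup L, P ≤ T → P.Normal → Inv φ P → P ≠ T →
      ∀ p ∈ P, ∀ g : L, g * p = p * g)
    (hnab : Subgroup.center T ≠ ⊤) :
    (∀ a b : T, a * b * a⁻¹ * b⁻¹ ∈ Subgroup.center T) ∧
      (∀ ω : T ⧸ Subgroup.center T, ω ^ s₁ = 1) := by
  classical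
  have hsub : ∀ P' : Subgroup T, (∀ α : MulAut T, ∀ p ∈ P', α p ∈ P') → P' ≠ ⊤ →
      P' ≤ Subgroup.center T := by
    intro P' hchar hne p hp
    have h := hcentral (P'.map T.subtype) (Subgroup.map_subtype_le P') (char_map_normal T P' hchar)
      (char_map_inv T P' hchar φ hφT) (char_map_ne T P' hne) (p : L) ⟨p, hp, rfl⟩
    rw [Subgroup.mem_center_iff]
    intro g
    exact Subtype.ext (h g)
  haveI : Nontrivial T := by
    by_contra hnon
    rw [not_nontrivial_iff_subsingleton] at hnon
    apply hnab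
    rw [eq_top_iff]
    intro t _
    rw [Subsingleton.elim t 1]
    exact Subgroup.one_mem _
  haveI : Group.IsNilpotent T := hT.isNilpotent
  have hcomm_ne : commutator T ≠ ⊤ := (IsSolvable.commutator_lt_top_of_nontrivial T).ne
  have hcl2 : ∀ a b : T, a * b * a⁻¹ * b⁻¹ ∈ Subgroup.center T := by
    intro a b
    apply hsub (commutator T) (fun α p hp => inv_of_char (commutator T) α p hp) hcomm_ne
    rw [commutator_def]
    have := Subgroup.commutator_mem_commutator (Subgroup.mem_top a) (Subgroup.mem_top b)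
    rwa [commutatorElement_def] at this
  refine ⟨hcl2, ?_⟩
  have hcommΩ : ∀ x y : T ⧸ Subgroup.center T, x * y = y * x := by
    intro x y
    refine QuotientGroup.induction_on x (fun a => ?_)
    refine QuotientGroup.induction_on y (fun b => ?_)
    have h1 : a * b = (a * b * a⁻¹ * b⁻¹) * (b * a) := by group
    rw [← QuotientGroup.mk_mul, ← QuotientGroup.mk_mul, h1, QuotientGroup.mk_mul,
      (QuotientGroup.eq_one_iff _).mpr (hcl2 a b), one_mul]
  obtain ⟨Ωs, hΩs⟩ : ∃ Ωs : Subgroup (T ⧸ Subgroup.center T), ∀ ω, ω ∈ Ωs ↔ ω ^ s₁ = 1 :=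
    ⟨{ carrier := {ω | ω ^ s₁ = 1}
       one_mem' := one_pow _
       mul_mem' := by
         intro a b ha hb
         show (a * b) ^ s₁ = 1
         rw [(show Commute a b from hcommΩ a b).mul_pow, show a ^ s₁ = 1 from ha,
           show b ^ s₁ = 1 from hb, one_mul]
       inv_mem' := by
         intro a ha
         show a⁻¹ ^ s₁ = 1
         rw [inv_pow, show a ^ s₁ = 1 from ha, inv_one] }, fun ω => Iff.rfl⟩
  obtain ⟨P₂, hP₂def⟩ : ∃ P₂ : Subgroup T,
      P₂ = Ωs.comap (QuotientGroup.mk' (Subgroup.center T)) := ⟨_, rfl⟩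
  have hP₂mem : ∀ t : T, t ∈ P₂ ↔ t ^ s₁ ∈ Subgroup.center T := by
    intro t
    rw [hP₂def, Subgroup.mem_comap, hΩs]
    show (t : T ⧸ Subgroup.center T) ^ s₁ = 1 ↔ _
    rw [← QuotientGroup.mk_pow, QuotientGroup.eq_one_iff]
  have hP₂char : ∀ α : MulAut T, ∀ p ∈ P₂, α p ∈ P₂ := by
    intro α p hp
    rw [hP₂mem] at hp ⊢
    rw [← map_pow]
    exact center_aut_mem α _ hp
  have hP₂top : P₂ = ⊤ := by
    by_contra hne
    have hle := hsub P₂ hP₂char hne
    -- an element of `P₂` outside the centre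
    obtain ⟨t, ht⟩ : ∃ t : T, t ∉ Subgroup.center T := by
      by_contra hall
      push Not at hall
      apply hnab
      rw [eq_top_iff]
      intro t _
      exact hall t
    have hex : ∃ k : ℕ, t ^ (s₁ ^ k) ∈ Subgroup.center T := by
      obtain ⟨a, ha⟩ := hT t
      exact ⟨a, by rw [ha]; exact Subgroup.one_mem _⟩
    have hk0 : Nat.find hex ≠ 0 := by
      intro h0
      have := Nat.find_spec hex
      rw [h0, pow_zero, pow_one] at this
      exact ht this
    obtain ⟨k', hk'⟩ : ∃ k', Nat.find hex = k' + 1 := ⟨Nat.find hex - 1, by omega⟩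
    have h1 : t ^ (s₁ ^ k') ∉ Subgroup.center T := Nat.find_min hex (by omega)
    have h2 : t ^ (s₁ ^ k') ∈ P₂ := by
      rw [hP₂mem, ← pow_mul, ← pow_succ, ← hk']
      exact Nat.find_spec hex
    exact h1 (hle h2)
  intro ω
  refine QuotientGroup.induction_on ω (fun t => ?_)
  have ht : t ∈ P₂ := by rw [hP₂top]; trivial
  rw [hP₂mem] at ht
  rw [← QuotientGroup.mk_pow]
  exact (QuotientGroup.eq_one_iff _).mpr ht

end Cfsg.Agent.Lib.Helper3.Sh
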