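import Mathlib
import Cfsg.Agent.Lib.Helper3.GrG
import Cfsg.Agent.Lib.Helper3.GrK
import Cfsg.Agent.Lib.Helper3.GrO
import Cfsg.Agent.Lib.Helper3.GrP
import Cfsg.Agent.Lib.Helper3.GrQ

/-!
# Gross, part R: the minimal configuration of the stacked statement, and the main induction.
-/

set_option autoImplicit false
set_option maxHeartbeats 4000000
set_option maxRecDepth 100000
set_option linter.unusedVariables false
set_option linter.unusedSectionVars false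
set_option linter.style.haveILetI false
set_option linter.deprecated false

namespace Cfsg.Agent.Lib.Helper3.Sh

open Module Cfsg.Agent.Lib.Helper3 Cfsg.Agent.Lib.Helper3.HHC1 Cfsg.Agent.Lib.Helper8.FP4
  Cfsg.Agent.Lib.Helper6.Wd

universe u v w

theorem st_stepD (s₁ s₂ n : ℕ) [h₁ : Fact s₁.Prime] [h₂ : Fact s₂.Prime] (h12 : s₁ ≠ s₂)
    (hs₁2 : s₁ ≠ 2) (hs₂2 : s₂ ≠ 2) {K : Type w} [Field K] [IsAlgClosed K]
    (h2K : ((2 : ℕ) : K) ≠ 0) (hs₁K : (s₁ : K) ≠ 0)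
    {L : Type u} [Group L] [Finite L] {W : Type v} [AddCommGroup W] [Module K W]
    [FiniteDimensional K W] (ρ : Representation K L W) (X X' : Module.End K W) (φ : MulAut L)
    (T Q₂ : Subgroup L) (hfaith : Function.Injective ρ)
    (IHL : ∀ (L' : Type u) [Group L'] [Finite L'] (ρ' : Representation K L' W) (φ' : MulAut L')
      (T' Q' : Subgroup L'), Nat.card L' < Nat.card L → STGood s₁ s₂ n ρ' X X' φ' T' Q')
    (IHW : ∀ (n' : ℕ) (W' : Type v) [AddCommGroup W'] [Module K W'] [FiniteDimensional K W']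
      (ρ' : Representation K L W') (Y Y' : Module.End K W') (φ' : MulAut L),
      finrank K W' < finrank K W → STGood s₁ s₂ n' ρ' Y Y' φ' T Q₂) :
    STGood s₁ s₂ n ρ X X' φ T Q₂ := by
  intro H x₀ hx₀ hx₀inv t₀ ht₀
  by_contra hne₀
  classical
  haveI := H.hTn
  obtain ⟨hφP, hirrX, hcentral, hτZ, hZcentral⟩ := st_struct s₁ s₂ n h12 hs₂2 hs₁K ρ X X' φ T Q₂ H
    hfaith IHL IHW x₀ t₀ hx₀ hx₀inv ht₀ hne₀
  have hZL := st_center_scalar s₁ s₂ n ρ X X' φ T Q₂ H hfaith IHW x₀ t₀ hx₀ hx₀inv ht₀ hne₀ hirrX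
  have hntW : Nontrivial W := by
    by_contra hnon
    rw [not_nontrivial_iff_subsingleton] at hnon
    apply hne₀
    ext w
    exact Subsingleton.elim _ _
  haveI := hntW
  have hcomm_of : ∀ a b : L, a * b = b * a → ρ a * ρ b = ρ b * ρ a := by
    intro a b h
    rw [← map_mul, ← map_mul, h]
  have hs₂odd : Odd s₂ := by
    rcases h₂.out.eq_two_or_odd' with h | h
    · exact absurd h hs₂2
    · exact h
  obtain ⟨k₀, hk₀⟩ : ∃ k : ℕ, x₀ ^ (2 * k + 1) = 1 := by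
    obtain ⟨b, hb⟩ := (IsPGroup.iff_orderOf.mp H.hQ) ⟨x₀, hx₀⟩
    obtain ⟨k, hk⟩ : Odd (s₂ ^ b) := hs₂odd.pow
    refine ⟨k, ?_⟩
    rw [← hk, ← hb]
    have := pow_orderOf_eq_one (⟨x₀, hx₀⟩ : Q₂)
    have h2 := congrArg Subtype.val this
    simpa using h2
  -- the involution acts non-trivially on `T`
  have hτnt : ¬ ∀ t ∈ T, (φ ^ (2 ^ n)) t = t := by
    intro hall
    apply hne₀
    apply hcomm_of
    exact comm_of_inverted (φ ^ (2 ^ n)) x₀ t₀ hx₀inv (hall t₀ ht₀)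
      (hall _ (H.hTn.conj_mem t₀ ht₀ x₀)) k₀ hk₀
  have hnab : Subgroup.center T ≠ ⊤ := by
    intro htop
    apply hτnt
    intro t ht
    apply hτZ t ht
    intro t' ht'
    have hc : (⟨t, ht⟩ : T) ∈ Subgroup.center T := by rw [htop]; trivial
    have := Subgroup.mem_center_iff.mp hc ⟨t', ht'⟩
    exact congrArg Subtype.val this
  obtain ⟨hcl2T, hexpΩ⟩ := st_T_struct s₁ T H.hT φ H.hφT hcentral hnab
  -- the configuration on `T`
  obtain ⟨φT, hφTdef⟩ : ∃ φT : MulAut T, φT = restrictAut φ T H.hφT := ⟨_, rfl⟩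
  have hφT : ∀ g : T, ((φT g : T) : L) = φ g := by
    intro g; rw [hφTdef]; exact restrictAut_apply_coe φ T H.hφT g
  have hφTpow : ∀ (k : ℕ) (g : T), (((φT ^ k) g : T) : L) = (φ ^ k) g := by
    intro k g; rw [hφTdef]; exact restrictAut_pow_apply_coe φ T H.hφT k g
  have hfaithT : Function.Injective (ρ.comp T.subtype) := by
    intro a b hab
    exact Subtype.ext (hfaith hab)
  have hcompatT : ∀ g : T, X * (ρ.comp T.subtype) g = (ρ.comp T.subtype) (φT g) * X := by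
    intro g
    show X * ρ g.1 = ρ (φT g).1 * X
    rw [hφT]; exact H.hcompat g.1
  have hcenTL : ∀ z : T, z ∈ Subgroup.center T → ∀ g : L, g * (z : L) = (z : L) * g := by
    intro z hz
    apply hZcentral (z : L) z.2
    intro t ht
    have := Subgroup.mem_center_iff.mp hz ⟨t, ht⟩
    exact congrArg Subtype.val this
  have hZscT : ∀ z ∈ Subgroup.center T,
      ∃ μ : K, (ρ.comp T.subtype) z = μ • (1 : Module.End K W) := by
    intro z hz
    exact hZL (z : L) (Subgroup.mem_center_iff.mpr (hcenTL z hz))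
  obtain ⟨F, hF⟩ := exists_quotAutHom (Subgroup.center T)
    (fun α z hz => center_aut_mem α z hz)
  rcases ti_main s₁ n hs₁2 h2K hs₁K H.hT (ρ.comp T.subtype) X X' φT H.hXX' H.hX'X hcompatT H.hXP
    H.hNX hfaithT hZscT hcl2T (F φT) (hF φT) with htriv | ⟨hs1, hfixb, hcardb⟩
  · apply hτnt
    intro t ht
    have := congrArg Subtype.val (htriv ⟨t, ht⟩)
    rw [hφTpow] at this
    exact this
  · -- the second level
    have hs₁3 : 3 ≤ s₁ := by
      have := h₁.out.two_le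
      omega
    have hn1 : 1 ≤ n := by
      by_contra hcon
      have hn0 : n = 0 := by omega
      rw [hn0] at hs1
      norm_num at hs1
      omega
    have hexc : ¬ (n = 1 ∧ s₂ = 3) := by
      rintro ⟨hn1', hs₂3⟩
      rw [hn1'] at hs1
      norm_num at hs1
      omega
    have hcommΩ : ∀ x y : T ⧸ Subgroup.center T, x * y = y * x := by
      intro x y
      refine QuotientGroup.induction_on x (fun a => ?_)
      refine QuotientGroup.induction_on y (fun b => ?_)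
      have h1 : a * b = (a * b * a⁻¹ * b⁻¹) * (b * a) := by group
      rw [← QuotientGroup.mk_mul, ← QuotientGroup.mk_mul, h1, QuotientGroup.mk_mul,
        (QuotientGroup.eq_one_iff _).mpr (hcl2T a b), one_mul]
    letI instC : CommGroup (T ⧸ Subgroup.center T) :=
      { (inferInstance : Group (T ⧸ Subgroup.center T)) with mul_comm := hcommΩ }
    obtain ⟨φQ, hφQdef⟩ : ∃ φQ : MulAut Q₂, φQ = restrictAut φ Q₂ H.hφQ := ⟨_, rfl⟩
    have hφQ : ∀ g : Q₂, ((φQ g : Q₂) : L) = φ g := by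
      intro g; rw [hφQdef]; exact restrictAut_apply_coe φ Q₂ H.hφQ g
    have hφQpow : ∀ (k : ℕ) (g : Q₂), (((φQ ^ k) g : Q₂) : L) = (φ ^ k) g := by
      intro k g; rw [hφQdef]; exact restrictAut_pow_apply_coe φ Q₂ H.hφQ k g
    obtain ⟨act₀, hact₀⟩ : ∃ act₀ : Q₂ →* MulAut T,
        ∀ (q : Q₂) (t : T), ((act₀ q t : T) : L) = q * t * (q : L)⁻¹ :=
      ⟨cj Q₂ T (fun k _ x hx => H.hTn.conj_mem x hx k), fun q t => cj_apply Q₂ T _ q t⟩
    obtain ⟨act, hact⟩ : ∃ act : Q₂ →* MulAut (T ⧸ Subgroup.center T),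
        ∀ (q : Q₂) (t : T), act q (t : T ⧸ Subgroup.center T)
          = ((act₀ q t : T) : T ⧸ Subgroup.center T) :=
      ⟨F.comp act₀, fun q t => hF (act₀ q) t⟩
    have hsAP : (F φT) ^ (2 ^ (n + 1)) = 1 := by
      rw [← map_pow, hφTdef, restrictAut_pow_eq_one φ T H.hφT _ hφP, map_one]
    have hcs : ∀ (q : Q₂) (a : T ⧸ Subgroup.center T),
        (F φT) (act q a) = act (φQ q) ((F φT) a) := by
      intro q a
      refine QuotientGroup.induction_on a (fun t => ?_)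
      rw [hact, hF, hF, hact]
      congr 1
      apply Subtype.ext
      rw [hφT, hact₀, hact₀, hφQ, hφT, map_mul, map_mul, map_inv]
    have key := l2_act n hn1 s₁ hs₁2 s₂ hs₂2 (Ne.symm h12) hexc H.hQ hexpΩ φQ act (F φT) hsAP
      hcs hfixb hcardb
    -- `x₀` acts trivially on the central quotient of `T`
    have hginv : (φQ ^ (2 ^ n)) ⟨x₀, hx₀⟩ = (⟨x₀, hx₀⟩ : Q₂)⁻¹ := by
      apply Subtype.ext
      rw [hφQpow, Subgroup.coe_inv]
      exact hx₀inv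
    have hact2 : act ⟨x₀, hx₀⟩ * act ⟨x₀, hx₀⟩ = 1 := by
      have h1 : act (⟨x₀, hx₀⟩ : Q₂)⁻¹ = act ⟨x₀, hx₀⟩ := by
        ext a
        rw [← hginv]
        exact key _ a
      calc act ⟨x₀, hx₀⟩ * act ⟨x₀, hx₀⟩ = act (⟨x₀, hx₀⟩ : Q₂)⁻¹ * act ⟨x₀, hx₀⟩ := by rw [h1]
        _ = 1 := by rw [← map_mul, inv_mul_cancel, map_one]
    have hact1 : act ⟨x₀, hx₀⟩ = 1 := by
      have h1 : (act ⟨x₀, hx₀⟩) ^ (2 * k₀ + 1) = 1 := by
        rw [← map_pow]
        have : (⟨x₀, hx₀⟩ : Q₂) ^ (2 * k₀ + 1) = 1 := by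
          apply Subtype.ext
          rw [Subgroup.coe_pow]
          exact hk₀
        rw [this, map_one]
      rw [pow_succ, pow_mul, pow_two, hact2, one_pow, one_mul] at h1
      exact h1
    have h3 := hact ⟨x₀, hx₀⟩ ⟨t₀, ht₀⟩
    rw [hact1, MulAut.one_apply] at h3
    have h4 : (⟨t₀, ht₀⟩ : T)⁻¹ * act₀ ⟨x₀, hx₀⟩ ⟨t₀, ht₀⟩ ∈ Subgroup.center T :=
      QuotientGroup.eq.mp h3
    have h5 := hcenTL _ h4
    have hcval : (((⟨t₀, ht₀⟩ : T)⁻¹ * act₀ ⟨x₀, hx₀⟩ ⟨t₀, ht₀⟩ : T) : L)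
        = t₀⁻¹ * (x₀ * t₀ * x₀⁻¹) := by
      rw [Subgroup.coe_mul, Subgroup.coe_inv, hact₀]
    rw [hcval] at h5
    have hcT : t₀⁻¹ * (x₀ * t₀ * x₀⁻¹) ∈ T :=
      T.mul_mem (T.inv_mem ht₀) (H.hTn.conj_mem t₀ ht₀ x₀)
    obtain ⟨a, ha⟩ : ∃ a : ℕ, (t₀⁻¹ * (x₀ * t₀ * x₀⁻¹)) ^ (s₁ ^ a) = 1 := by
      obtain ⟨a, ha⟩ := H.hT ⟨_, hcT⟩
      refine ⟨a, ?_⟩
      have h2 := congrArg Subtype.val ha
      simpa using h2
    obtain ⟨b, hb⟩ : ∃ b : ℕ, x₀ ^ (s₂ ^ b) = 1 := by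
      obtain ⟨b, hb⟩ := H.hQ ⟨x₀, hx₀⟩
      refine ⟨b, ?_⟩
      have h2 := congrArg Subtype.val hb
      simpa using h2
    have hconj : x₀ * t₀ * x₀⁻¹ = (t₀⁻¹ * (x₀ * t₀ * x₀⁻¹)) * t₀ := by
      rw [← h5 t₀]; group
    have hc1 := eq_one_of_coprime_conj s₁ s₂ h12 x₀ t₀ _ a b ha hb hconj (h5 x₀)
    apply hne₀
    apply hcomm_of
    have h6 : x₀ * t₀ * x₀⁻¹ = t₀ := by
      rw [hconj, hc1, one_mul]
    calc x₀ * t₀ = (x₀ * t₀ * x₀⁻¹) * x₀ := by group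
      _ = t₀ * x₀ := by rw [h6]

/-- The stacked statement. -/
theorem st_main (s₁ s₂ : ℕ) [Fact s₁.Prime] [Fact s₂.Prime] (h12 : s₁ ≠ s₂)
    (hs₁2 : s₁ ≠ 2) (hs₂2 : s₂ ≠ 2) {K : Type w} [Field K] [IsAlgClosed K]
    (h2K : ((2 : ℕ) : K) ≠ 0) (hs₁K : (s₁ : K) ≠ 0) :
    ∀ (M : ℕ) (n : ℕ) (L : Type u) [Group L] [Finite L] (W : Type v) [AddCommGroup W] [Module K W]
      [FiniteDimensional K W] (ρ : Representation K L W) (X X' : Module.End K W)
      (φ : MulAut L) (T Q₂ : Subgroup L), Nat.card L + finrank K W = M →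
      STGood s₁ s₂ n ρ X X' φ T Q₂ := by
  intro M
  induction M using Nat.strong_induction_on with
  | _ M IHM =>
  intro n L _ _ W _ _ _ ρ X X' φ T Q₂ hM
  by_cases hfaith : Function.Injective ρ
  swap
  · exact st_stepA s₁ s₂ n ρ X X' φ T Q₂
      (fun L' _ _ ρ' φ' T' Q' hlt =>
        IHM (Nat.card L' + finrank K W) (by omega) n L' W ρ' X X' φ' T' Q' rfl) hfaith
  exact st_stepD s₁ s₂ n h12 hs₁2 hs₂2 h2K hs₁K ρ X X' φ T Q₂ hfaith
    (fun L' _ _ ρ' φ' T' Q' hlt =>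
      IHM (Nat.card L' + finrank K W) (by omega) n L' W ρ' X X' φ' T' Q' rfl)
    (fun n' W' _ _ _ ρ' Y Y' φ' hlt =>
      IHM (Nat.card L + finrank K W') (by omega) n' L W' ρ' Y Y' φ' T Q₂ rfl)

end Cfsg.Agent.Lib.Helper3.Sh
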