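import Mathlib
import Cfsg.Agent.Lib.Helper3.HHC1
import Cfsg.Agent.Lib.Helper3.ShU
import Cfsg.Agent.Lib.Helper3.ShV
import Cfsg.Agent.Lib.Helper3.ShX
import Cfsg.Agent.Lib.Helper3.ShY
import Cfsg.Agent.Lib.Helper3.ShZ
import Cfsg.Agent.Lib.Helper3.GrB
import Cfsg.Agent.Lib.Helper8.FP4a
import Cfsg.Agent.Lib.Helper6.WdA

/-!
# Gross, part S: the non-exceptional Hall–Higman type lemma for operators of order a power of two
(the analogue of parts W and 2A of the odd case).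
-/

set_option autoImplicit false
set_option maxHeartbeats 4000000
set_option maxRecDepth 100000
set_option linter.unusedVariables false
set_option linter.unusedSectionVars false
set_option linter.style.haveILetI false
set_option linter.deprecated false

namespace Cfsg.Agent.Lib.Helper3.Sh

open Module Cfsg.Agent.Lib.Helper3 Cfsg.Agent.Lib.Helper3.HHC1 Cfsg.Agent.Lib.Helper8.FP4

universe u v w

theorem bot2_two (s : ℕ) [hs : Fact s.Prime] (hs2 : s ≠ 2)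
    {K : Type*} [Field K] [IsAlgClosed K] (h2K : ((2 : ℕ) : K) ≠ 0) (hsK : (s : K) ≠ 0)
    {Q : Type*} [Group Q] [Finite Q] {V : Type*} [AddCommGroup V] [Module K V]
    [FiniteDimensional K V] [Nontrivial V]
    (τ : Representation K Q V) (Y Y' : Module.End K V) (φ : MulAut Q) (hQ : IsPGroup s Q)
    (hYY' : Y * Y' = 1) (hY'Y : Y' * Y = 1) (hcompat : ∀ g, Y * τ g = τ (φ g) * Y)
    (N : ℕ) (hYP : Y ^ (2 ^ (N + 1)) = 1)
    (hNY : ∑ i ∈ Finset.range (2 ^ (N + 1)), Y ^ i = 0)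
    (hφP : φ ^ (2 ^ (N + 1)) = 1)
    (hirrY : ∀ U : Submodule K V, (∀ g, ∀ w ∈ U, τ g w ∈ U) → (∀ w ∈ U, Y w ∈ U) →
      U = ⊥ ∨ U = ⊤)
    (hZsc : ∀ z ∈ Subgroup.center Q, ∃ μ : K, τ z = μ • (1 : Module.End K V))
    (hfixcen : ∀ d, (φ ^ (2 ^ N)) d = d → d ∈ Subgroup.center Q)
    (hcomm : ∀ a b : Q, (φ ^ (2 ^ N)) (a * b * a⁻¹ * b⁻¹) = a * b * a⁻¹ * b⁻¹) :
    (∀ g, τ ((φ ^ (2 ^ N)) g) = τ g) ∨ s + 1 = 2 ^ (N + 1) := by
  haveI hp : Fact (Nat.Prime 2) := ⟨Nat.prime_two⟩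
  classical
  obtain ⟨ψ, hψdef⟩ : ∃ ψ : MulAut Q, ψ = φ ^ (2 ^ N) := ⟨_, rfl⟩
  rw [← hψdef] at hfixcen hcomm
  have hψp : ψ ^ 2 = 1 := by
    rw [hψdef, ← pow_mul, ← pow_succ]; exact hφP
  have hKmem : ∀ g, g ∈ τ.ker ↔ τ g = 1 := fun g => MonoidHom.mem_ker
  have hτφ : ∀ g, τ (φ g) = Y * τ g * Y' := by
    intro g; rw [hcompat, mul_assoc, hYY', mul_one]
  have hinv : Inv φ τ.ker := by
    intro g hg
    rw [hKmem] at hg ⊢
    rw [hτφ, hg, mul_one, hYY']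
  have hinvψ : Inv ψ τ.ker := by rw [hψdef]; exact hinv.pow _
  obtain ⟨τ', hτ'def⟩ : ∃ τ' : Representation K (Q ⧸ τ.ker) V,
      τ' = QuotientGroup.lift τ.ker τ le_rfl := ⟨_, rfl⟩
  obtain ⟨φ', hφ'def⟩ : ∃ φ' : MulAut (Q ⧸ τ.ker), φ' = quotAut φ τ.ker hinv := ⟨_, rfl⟩
  have hτ' : ∀ g : Q, τ' (g : Q ⧸ τ.ker) = τ g := by
    intro g; rw [hτ'def]; exact QuotientGroup.lift_mk _ _ g
  have hφ' : ∀ g : Q, φ' (g : Q ⧸ τ.ker) = ((φ g : Q) : Q ⧸ τ.ker) := by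
    intro g; rw [hφ'def]; exact quotAut_mk φ τ.ker hinv g
  have hφ'pow : ∀ (k : ℕ) (g : Q),
      (φ' ^ k) (g : Q ⧸ τ.ker) = (((φ ^ k) g : Q) : Q ⧸ τ.ker) := by
    intro k g; rw [hφ'def]; exact quotAut_pow_mk φ τ.ker hinv k g
  have hfaith' : Function.Injective τ' := by
    intro a b
    refine QuotientGroup.induction_on a (fun a => ?_)
    refine QuotientGroup.induction_on b (fun b => ?_)
    intro hab
    rw [hτ', hτ'] at hab
    apply QuotientGroup.eq.mpr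
    rw [hKmem, map_mul, ← hab, ← map_mul, inv_mul_cancel, map_one]
  have hcompat' : ∀ g, Y * τ' g = τ' (φ' g) * Y := by
    intro g
    refine QuotientGroup.induction_on g (fun g => ?_)
    rw [hφ', hτ', hτ']; exact hcompat g
  have hirrY' : ∀ U : Submodule K V, (∀ g, ∀ w ∈ U, τ' g w ∈ U) → (∀ w ∈ U, Y w ∈ U) →
      U = ⊥ ∨ U = ⊤ := by
    intro U h1 h2
    refine hirrY U (fun g w hw => ?_) h2
    have := h1 (g : Q ⧸ τ.ker) w hw
    rwa [hτ'] at this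
  have hR : IsPGroup s (Q ⧸ τ.ker) := hQ.to_quotient _
  obtain ⟨χ, V₀, j, _, _, _, _, _, _, _, _, _, hcenfix'⟩ :=
    pp_clifford2 2 τ' Y φ' hcompat' N hYP hNY hfaith' hirrY'
  have hnotdvd : ∀ H : Subgroup Q, ¬ 2 ∣ Nat.card H := by
    intro H hdvd
    obtain ⟨a, ha⟩ := IsPGroup.iff_card.mp (hQ.to_subgroup H)
    rw [ha] at hdvd
    have := (Nat.prime_dvd_prime_iff_eq Nat.prime_two hs.out).mp (Nat.prime_two.dvd_of_dvd_pow hdvd)
    exact hs2 this.symm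
  have hlift : ∀ g : Q, (g : Q ⧸ τ.ker) ∈ Subgroup.center (Q ⧸ τ.ker) →
      ∃ k ∈ τ.ker, g * k ∈ Subgroup.center Q := by
    intro g hg
    have h1 := hcenfix' _ hg
    rw [hφ'pow, ← hψdef] at h1
    have h2 : g⁻¹ * ψ g ∈ τ.ker := QuotientGroup.eq.mp h1.symm
    obtain ⟨k, hk, hfix⟩ := Cfsg.Agent.Lib.Helper6.Wd.exists_fixed_in_coset ψ hψp τ.ker hinvψ
      (hnotdvd _) g h2
    exact ⟨k, hk, hfixcen _ hfix⟩
  have hZsc' : ∀ z ∈ Subgroup.center (Q ⧸ τ.ker), ∃ μ : K, τ' z = μ • (1 : Module.End K V) := by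
    intro z
    refine QuotientGroup.induction_on z (fun g => ?_)
    intro hg
    obtain ⟨k, hk, hgk⟩ := hlift g hg
    obtain ⟨μ, hμ⟩ := hZsc _ hgk
    refine ⟨μ, ?_⟩
    rw [hτ', ← hμ, map_mul, (hKmem k).mp hk, mul_one]
  have hcenmap : ∀ z ∈ Subgroup.center Q, (z : Q ⧸ τ.ker) ∈ Subgroup.center (Q ⧸ τ.ker) := by
    intro z hz
    rw [Subgroup.mem_center_iff]
    intro h
    refine QuotientGroup.induction_on h (fun h => ?_)
    rw [← QuotientGroup.mk_mul, ← QuotientGroup.mk_mul, Subgroup.mem_center_iff.mp hz h]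
  have hcl2' : ∀ a b : Q ⧸ τ.ker, a * b * a⁻¹ * b⁻¹ ∈ Subgroup.center (Q ⧸ τ.ker) := by
    intro a b
    refine QuotientGroup.induction_on a (fun a => ?_)
    refine QuotientGroup.induction_on b (fun b => ?_)
    have := hcenmap _ (hfixcen _ (hcomm a b))
    simpa using this
  obtain ⟨Zt, hZtdef⟩ : ∃ Zt : Subgroup Q,
      Zt = (Subgroup.center (Q ⧸ τ.ker)).comap (QuotientGroup.mk' τ.ker) := ⟨_, rfl⟩
  have hZtmem : ∀ g : Q, g ∈ Zt ↔ (g : Q ⧸ τ.ker) ∈ Subgroup.center (Q ⧸ τ.ker) := by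
    intro g; rw [hZtdef, Subgroup.mem_comap]; rfl
  have hZtinv : Inv ψ Zt := by
    intro g hg
    rw [hZtmem] at hg ⊢
    have := center_aut_mem (φ' ^ (2 ^ N)) _ hg
    rwa [hφ'pow, ← hψdef] at this
  have hfpf' : ∀ g : Q ⧸ τ.ker, g⁻¹ * (φ' ^ (2 ^ N)) g ∈ Subgroup.center (Q ⧸ τ.ker) →
      g ∈ Subgroup.center (Q ⧸ τ.ker) := by
    intro g
    refine QuotientGroup.induction_on g (fun g => ?_)
    intro hg
    rw [hφ'pow, ← hψdef] at hg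
    have h2 : g⁻¹ * ψ g ∈ Zt := by
      rw [hZtmem]
      simpa using hg
    obtain ⟨m, hm, hfix⟩ := Cfsg.Agent.Lib.Helper6.Wd.exists_fixed_in_coset ψ hψp Zt hZtinv
      (hnotdvd _) g h2
    have h3 := hcenmap _ (hfixcen _ hfix)
    have h4 : (m : Q ⧸ τ.ker) ∈ Subgroup.center (Q ⧸ τ.ker) := (hZtmem m).mp hm
    have h5 : (g : Q ⧸ τ.ker) = ((g * m : Q) : Q ⧸ τ.ker) * (m : Q ⧸ τ.ker)⁻¹ := by
      rw [QuotientGroup.mk_mul, mul_inv_cancel_right]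
    rw [h5]
    exact mul_mem h3 (inv_mem h4)
  rcases bot_lemma_two s hs2 h2K hsK τ' Y Y' φ' hR hYY' hY'Y hcompat' N hYP hNY hfaith' hirrY'
    hZsc' hcl2' hfpf' with hab | ⟨hnum, hcard⟩
  · left
    intro g
    have hg : (g : Q ⧸ τ.ker) ∈ Subgroup.center (Q ⧸ τ.ker) :=
      Subgroup.mem_center_iff.mpr (fun h => hab h _)
    have h1 := hcenfix' _ hg
    rw [hφ'pow] at h1
    rw [← hτ', h1, hτ']
  · right
    exact hnum

/-- The minimal configuration. -/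
theorem pp_stepD_two (s n : ℕ) [hs : Fact s.Prime] (hs2 : s ≠ 2)
    (hexc : ∀ m, 2 ≤ m → m ≤ n → s + 1 ≠ 2 ^ m) {K : Type w}
    [Field K] [IsAlgClosed K] (h2K : ((2 : ℕ) : K) ≠ 0) (hsK : (s : K) ≠ 0) {Q : Type u} [Group Q]
    [Finite Q] {W : Type v}
    [AddCommGroup W] [Module K W] [FiniteDimensional K W] (σ : Representation K Q W)
    (X X' : Module.End K W) (φ : MulAut Q)
    (hfaith : Function.Injective σ)
    (hminQ : ∀ Q₁ : Subgroup Q, Q₁ ≠ ⊤ → (∀ g ∈ Q₁, φ g ∈ Q₁) →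
      ∀ g ∈ Q₁, σ ((φ ^ (2 ^ n)) g) = σ g)
    (hminW : ∀ U : Submodule K W, U ≠ ⊤ → (∀ g, ∀ w ∈ U, σ g w ∈ U) → (∀ w ∈ U, X w ∈ U) →
      (∀ w ∈ U, X' w ∈ U) → ∀ g, ∀ w ∈ U, σ ((φ ^ (2 ^ n)) g) w = σ g w) :
    PPGood 2 s n Q W σ X X' φ := by
  intro hQ hXX' hX'X hcompat hXP hNX hfpf
  by_contra hNT
  push Not at hNT
  classical
  haveI hp : Fact (Nat.Prime 2) := ⟨Nat.prime_two⟩
  obtain ⟨hφP, hntW, hDcen, hcommfix, hirrX⟩ := pp_min_irr 2 s n (Ne.symm hs2) hsK σ X X' φ hfaith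
    hminQ hminW hQ hXX' hX'X hcompat hXP hNT
  haveI := hntW
  obtain ⟨χ, V₀, j, hjn, hV₀ne, hmem, hσV, hXV, hper, hind, hsup, hVwt, hcenfix⟩ :=
    pp_clifford2 2 σ X φ hcompat n hXP hNX hfaith hirrX
  have hnt' : ∃ g, (φ ^ (2 ^ n)) g ≠ g := by
    obtain ⟨g, hg⟩ := hNT
    refine ⟨g, fun h => hg ?_⟩
    rw [h]
  have hj0 : j ≠ 0 := by
    intro h0
    subst h0
    have hZtriv : ∀ z ∈ Subgroup.center Q, z = 1 := by
      intro z hz
      apply hfpf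
      apply hfaith
      refine end_ext_of_iSup _ hsup _ _ (fun i w hw => ?_)
      rw [hVwt i w hw _ (center_aut_mem φ z hz), hVwt i w hw z hz]
      have h1 := hper ((φ ^ (i : ℕ))⁻¹ (φ z))
      simp only [pow_zero, pow_one] at h1
      rw [← h1]
      congr 2
      have h2 := pow_inv_comm_aut φ i 1 z
      rw [pow_one] at h2
      rw [h2, MulAut.inv_apply_self]
    obtain ⟨g, hg⟩ := hnt'
    apply hg
    by_cases hQt : Nontrivial Q
    · exfalso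
      haveI := hQt
      haveI : Nontrivial (Subgroup.center Q) := IsPGroup.center_nontrivial hQ
      obtain ⟨z, hz⟩ := exists_ne (1 : Subgroup.center Q)
      apply hz
      exact Subtype.ext (hZtriv z.1 z.2)
    · rw [not_nontrivial_iff_subsingleton] at hQt
      exact Subsingleton.elim _ _
  obtain ⟨N, hN⟩ : ∃ N, n = j + N := ⟨n - j, by omega⟩
  subst hN
  have h12 : X' ^ (2 ^ j) * X ^ (2 ^ j) = 1 := pow_mul_pow_eq_one X' X hX'X hXX' _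
  have hX'V := inv_mem_of_mem (X ^ (2 ^ j)) (X' ^ (2 ^ j)) h12 V₀ hXV
  have hXP' : X ^ (2 ^ (j + (N + 1))) = 1 := hXP
  have hNX' : ∑ i ∈ Finset.range (2 ^ (j + (N + 1))), X ^ i = 0 := hNX
  obtain ⟨hYY', hY'Y, hcompatY, hYP, hNY, hirrY⟩ := pp_bottom_data 2 σ X X' hXX' hX'X φ hcompat
    j N hXP' hNX' hirrX V₀ hσV hXV hX'V hind
  haveI : Nontrivial V₀ := Submodule.nontrivial_iff_ne_bot.mpr hV₀ne
  have hφ₁P : (φ ^ (2 ^ j)) ^ (2 ^ (N + 1)) = 1 := by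
    rw [← pow_mul, ← pow_add]; exact hφP
  have hψeq : (φ ^ (2 ^ j)) ^ (2 ^ N) = φ ^ (2 ^ (j + N)) := by
    rw [← pow_mul, ← pow_add]
  have hZscY : ∀ z ∈ Subgroup.center Q,
      ∃ μ : K, resRep σ V₀ hσV z = μ • (1 : Module.End K V₀) := by
    intro z hz
    refine ⟨χ z, LinearMap.ext (fun w => Subtype.ext ?_)⟩
    show σ z (w : W) = χ z • (w : W)
    exact (hmem _).mp w.2 z hz
  have hfixcen : ∀ d, ((φ ^ (2 ^ j)) ^ (2 ^ N)) d = d → d ∈ Subgroup.center Q := by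
    intro d hd
    rw [hψeq] at hd
    exact Subgroup.mem_center_iff.mpr (fun g => (hDcen d hd g).symm)
  have hcommY : ∀ a b : Q,
      ((φ ^ (2 ^ j)) ^ (2 ^ N)) (a * b * a⁻¹ * b⁻¹) = a * b * a⁻¹ * b⁻¹ := by
    intro a b
    rw [hψeq]
    exact hcommfix a b
  rcases bot2_two s hs2 h2K hsK (resRep σ V₀ hσV) _ _ (φ ^ (2 ^ j)) hQ hYY' hY'Y hcompatY N
    hYP hNY hφ₁P hirrY hZscY hfixcen hcommY with htriv | hnum
  · have h1 : ∀ g, ∀ w ∈ V₀, σ ((φ ^ (2 ^ (j + N))) g) w = σ g w := by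
      intro g w hw
      have h2 := htriv g
      rw [hψeq] at h2
      have := congrArg (fun A : Module.End K V₀ => ((A ⟨w, hw⟩ : V₀) : W)) h2
      exact this
    have h2 := pp_spread σ X φ hcompat (2 ^ j) (2 ^ (j + N)) V₀ hsup h1
    obtain ⟨g, hg⟩ := hNT
    exact hg (h2 g)
  · refine hexc (N + 1) ?_ (by omega) hnum
    by_contra hlt
    have hN0 : N = 0 := by omega
    subst hN0
    have hs3 : 2 ≤ s := hs.out.two_le
    simp at hnum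
    omega

/-- The main induction. -/
theorem pp_main_two (s n : ℕ) [Fact s.Prime] (hs2 : s ≠ 2)
    (hexc : ∀ m, 2 ≤ m → m ≤ n → s + 1 ≠ 2 ^ m)
    {K : Type w} [Field K] [IsAlgClosed K] (h2K : ((2 : ℕ) : K) ≠ 0)
    (hsK : (s : K) ≠ 0) :
    ∀ (M : ℕ) (Q : Type u) [Group Q] [Finite Q] (W : Type v) [AddCommGroup W] [Module K W]
      [FiniteDimensional K W] (σ : Representation K Q W) (X X' : Module.End K W)
      (φ : MulAut Q), Nat.card Q + finrank K W = M → PPGood 2 s n Q W σ X X' φ := by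
  intro M
  induction M using Nat.strong_induction_on with
  | _ M IHM =>
  intro Q _ _ W _ _ _ σ X X' φ hM
  by_cases hfaith : Function.Injective σ
  swap
  · exact pp_stepA 2 s n σ X X' φ
      (fun Q' _ _ σ' φ' hlt => IHM (Nat.card Q' + finrank K W) (by omega) Q' W σ' X X' φ' rfl)
      hfaith
  by_cases hminQ : ∃ Q₁ : Subgroup Q, Q₁ ≠ ⊤ ∧ (∀ g ∈ Q₁, φ g ∈ Q₁) ∧
      ∃ g ∈ Q₁, σ ((φ ^ (2 ^ n)) g) ≠ σ g
  · obtain ⟨Q₁, h1, h2, h3⟩ := hminQ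
    exact pp_stepB 2 s n σ X X' φ
      (fun Q' _ _ σ' φ' hlt => IHM (Nat.card Q' + finrank K W) (by omega) Q' W σ' X X' φ' rfl)
      Q₁ h1 h2 h3
  by_cases hminW : ∃ U : Submodule K W, U ≠ ⊤ ∧ (∀ g, ∀ w ∈ U, σ g w ∈ U) ∧
      (∀ w ∈ U, X w ∈ U) ∧ (∀ w ∈ U, X' w ∈ U) ∧
      ∃ g, ∃ w ∈ U, σ ((φ ^ (2 ^ n)) g) w ≠ σ g w
  · obtain ⟨U, h1, h2, h3, h4, h5⟩ := hminW
    exact pp_stepC 2 s n σ X X' φ
      (fun W' _ _ _ σ' X₁ X₁' hlt =>
        IHM (Nat.card Q + finrank K W') (by omega) Q W' σ' X₁ X₁' φ rfl)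
      U h1 h2 h3 h4 h5
  push Not at hminQ hminW
  exact pp_stepD_two s n hs2 hexc h2K hsK σ X X' φ hfaith hminQ hminW

end Cfsg.Agent.Lib.Helper3.Sh
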