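import Mathlib
import Cfsg.Agent.Lib.Helper8.FP4a
import Cfsg.Agent.Lib.Helper6.WdA
import Cfsg.Agent.Lib.Helper6.WdB

/-!
# Shult–Gross, part 2B: the subgroup `[G, x]` for an automorphism `x`, and generalities.
-/

set_option autoImplicit false
set_option maxHeartbeats 4000000
set_option maxRecDepth 100000
set_option linter.unusedVariables false
set_option linter.unusedSectionVars false
set_option linter.style.haveILetI false
set_option linter.deprecated false

namespace Cfsg.Agent.Lib.Helper3.Sh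

open Cfsg.Agent.Lib.Helper8.FP4 Cfsg.Agent.Lib.Helper6.Wd

variable {G : Type*} [Group G]

/-- The subgroup `[G, x]` generated by the elements `g⁻¹ x(g)`. -/
def cx (x : MulAut G) : Subgroup G := Subgroup.closure {c : G | ∃ g, c = g⁻¹ * x g}

theorem mem_cx_gen (x : MulAut G) (g : G) : g⁻¹ * x g ∈ cx x :=
  Subgroup.subset_closure ⟨g, rfl⟩

theorem cx_le {x : MulAut G} {N : Subgroup G} (h : ∀ g, g⁻¹ * x g ∈ N) : cx x ≤ N := by
  unfold cx
  rw [Subgroup.closure_le]
  rintro _ ⟨g, rfl⟩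
  exact h g

theorem cx_normal (x : MulAut G) : (cx x).Normal := by
  refine ⟨fun c hc h => ?_⟩
  have hle : (cx x).map (MulAut.conj h).toMonoidHom ≤ cx x := by
    unfold cx
    rw [MonoidHom.map_closure, Subgroup.closure_le]
    rintro _ ⟨_, ⟨g, rfl⟩, rfl⟩
    have e : (MulAut.conj h).toMonoidHom (g⁻¹ * x g)
        = ((g * h⁻¹)⁻¹ * x (g * h⁻¹)) * ((h⁻¹)⁻¹ * x (h⁻¹))⁻¹ := by
      show h * (g⁻¹ * x g) * h⁻¹ = _
      simp only [map_mul, map_inv]
      group
    rw [e]
    exact Subgroup.mul_mem _ (Subgroup.subset_closure ⟨_, rfl⟩)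
      (Subgroup.inv_mem _ (Subgroup.subset_closure ⟨_, rfl⟩))
  have := hle ⟨c, hc, rfl⟩
  exact this

theorem cx_inv (x s : MulAut G) (h : ∀ g, s (x g) = x (s g)) : Inv s (cx x) := by
  intro c hc
  have hle : (cx x).map s.toMonoidHom ≤ cx x := by
    unfold cx
    rw [MonoidHom.map_closure, Subgroup.closure_le]
    rintro _ ⟨_, ⟨g, rfl⟩, rfl⟩
    have e : s.toMonoidHom (g⁻¹ * x g) = (s g)⁻¹ * x (s g) := by
      show s (g⁻¹ * x g) = _
      rw [map_mul, map_inv, h]
    rw [e]
    exact Subgroup.subset_closure ⟨_, rfl⟩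
  exact hle ⟨c, hc, rfl⟩

/-- Powers of an automorphism commute. -/
theorem pow_apply_comm (s : MulAut G) (k : ℕ) (g : G) : s ((s ^ k) g) = (s ^ k) (s g) := by
  rw [← MulAut.mul_apply, ← MulAut.mul_apply, ← pow_succ', ← pow_succ]

theorem cx_map_le [Finite G] (x : MulAut G) (M : Subgroup G) [M.Normal] (hM : Inv x M) :
    (cx x).map (QuotientGroup.mk' M) ≤ cx (quotAut x M hM) := by
  unfold cx
  rw [MonoidHom.map_closure, Subgroup.closure_le]
  rintro _ ⟨_, ⟨g, rfl⟩, rfl⟩
  refine Subgroup.subset_closure ⟨(g : G ⧸ M), ?_⟩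
  rw [quotAut_mk]
  rfl

/-- A fixed-point-free automorphism of `p`-power order acts on a group of order prime to `p`. -/
theorem not_dvd_card_of_fpf [Finite G] (p : ℕ) [hp : Fact p.Prime] (s : MulAut G) (k : ℕ)
    (hs : s ^ (p ^ k) = 1) (hfpf : ∀ g, s g = g → g = 1) : ¬ p ∣ Nat.card G := by
  have hP : IsPGroup p ↥(Subgroup.zpowers s) := by
    intro a
    obtain ⟨m, hm⟩ := Subgroup.mem_zpowers_iff.mp a.2
    refine ⟨k, Subtype.ext ?_⟩
    show (a : MulAut G) ^ (p ^ k) = 1
    rw [← hm, ← zpow_natCast, ← zpow_mul, mul_comm, zpow_mul, zpow_natCast, hs, one_zpow]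
  have hmod := hP.card_modEq_card_fixedPoints G
  have hfix : MulAction.fixedPoints ↥(Subgroup.zpowers s) G = {1} := by
    ext g
    rw [MulAction.mem_fixedPoints, Set.mem_singleton_iff]
    constructor
    · intro hg
      apply hfpf g
      exact hg ⟨s, Subgroup.mem_zpowers s⟩
    · intro hg b
      rw [hg]
      exact map_one (b : MulAut G)
  rw [hfix] at hmod
  have h1 : Nat.card ({1} : Set G) = 1 := by simp
  rw [h1] at hmod
  intro hd
  have h0 : Nat.card G ≡ 0 [MOD p] := (Nat.modEq_zero_iff_dvd).mpr hd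
  have h2 := h0.symm.trans hmod
  unfold Nat.ModEq at h2
  rw [Nat.zero_mod, Nat.mod_eq_of_lt hp.out.one_lt] at h2
  exact absurd h2 (by norm_num)

/-- The Sylow subgroups of a nilpotent subgroup `M` are invariant under all automorphisms
leaving `M` invariant. -/
theorem inv_sylow_of_nilpotent [Finite G] (M : Subgroup G) (hnil : Group.IsNilpotent ↥M)
    (t : ℕ) [Fact t.Prime] (P : Sylow t ↥M) (ψ : MulAut G) (hψ : Inv ψ M) :
    Inv ψ ((P : Subgroup ↥M).map M.subtype) := by
  haveI := hnil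
  have hPn : (P : Subgroup ↥M).Normal := inferInstance
  haveI hPc : (P : Subgroup ↥M).Characteristic := P.characteristic_of_normal hPn
  intro x hx
  obtain ⟨y, hy, rfl⟩ := hx
  have h1 : Inv (restrictAut ψ M hψ) (P : Subgroup ↥M) := inv_of_char _ _
  exact ⟨restrictAut ψ M hψ y, h1 y hy, rfl⟩

/-- If `x` fixes `[G, x]` pointwise, has order dividing `p` and `p ∤ |G|`, then `x = 1`. -/
theorem eq_one_of_fix_cx [Finite G] (p : ℕ) [hp : Fact p.Prime] (x : MulAut G) (hxp : x ^ p = 1)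
    (hpG : ¬ p ∣ Nat.card G) (hfix : ∀ m ∈ cx x, x m = m) : ∀ g, x g = g := by
  intro g
  have hc : x (g⁻¹ * x g) = g⁻¹ * x g := hfix _ (mem_cx_gen x g)
  have hpow : ∀ k : ℕ, (x ^ k) g = g * (g⁻¹ * x g) ^ k := by
    intro k
    induction k with
    | zero => simp
    | succ k ih =>
      rw [pow_succ', MulAut.mul_apply, ih, map_mul, map_pow, hc, pow_succ', ← mul_assoc,
        mul_inv_cancel_left]
  have h1 := hpow p
  rw [hxp] at h1
  have h2 : (g⁻¹ * x g) ^ p = 1 := by
    have h3 : g = g * (g⁻¹ * x g) ^ p := h1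
    exact (mul_eq_left.mp h3.symm)
  have h3 : g⁻¹ * x g = 1 := by
    have d1 : orderOf (g⁻¹ * x g) ∣ p := orderOf_dvd_of_pow_eq_one h2
    have d2 : orderOf (g⁻¹ * x g) ∣ Nat.card G := orderOf_dvd_natCard _
    rcases (Nat.dvd_prime hp.out).mp d1 with h | h
    · exact orderOf_eq_one_iff.mp h
    · rw [h] at d2
      exact absurd d2 hpG
  have := congrArg (fun t => g * t) h3
  simpa using this

end Cfsg.Agent.Lib.Helper3.Sh
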