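import Mathlib
import Cfsg.Agent.Lib.Helper3.GrS
import Cfsg.Agent.Lib.Helper3.GrR
import Cfsg.Agent.Lib.Helper3.SgB
import Cfsg.Agent.Lib.Helper3.ShO
import Cfsg.Agent.Lib.Helper6.WdD

/-!
# Gross, part T: linearisation of an action on an elementary abelian group, and the two
consequences of the module-theoretic lemmas for groups acting on elementary abelian groups.
-/

set_option autoImplicit false
set_option maxHeartbeats 4000000
set_option maxRecDepth 100000
set_option linter.unusedVariables false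
set_option linter.unusedSectionVars false
set_option linter.style.haveILetI false
set_option linter.deprecated false

namespace Cfsg.Agent.Lib.Helper3.Sh

open Module Cfsg.Agent.Lib.Helper3 Cfsg.Agent.Lib.Helper3.HHC1 Cfsg.Agent.Lib.Helper8.FP4
  Cfsg.Agent.Lib.Helper6.Wd

universe u v w

theorem algClosure_natCast_ne_zero (ℓ : ℕ) [hℓp : Fact ℓ.Prime] (r : ℕ) (hr : r.Prime)
    (hrℓ : r ≠ ℓ) : ((r : ℕ) : AlgebraicClosure (ZMod ℓ)) ≠ 0 := by
  intro h0
  have h1 : ((r : ℕ) : AlgebraicClosure (ZMod ℓ))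
      = algebraMap (ZMod ℓ) (AlgebraicClosure (ZMod ℓ)) (r : ZMod ℓ) :=
    (map_natCast _ r).symm
  rw [h1, map_eq_zero] at h0
  have h2 := (CharP.cast_eq_zero_iff (ZMod ℓ) ℓ r).mp h0
  exact hrℓ ((Nat.prime_dvd_prime_iff_eq hℓp.out hr).mp h2).symm

/-- Linearisation: an action on an elementary abelian `ℓ`-group, together with a compatible
fixed-point-free automorphism, gives a representation over the algebraic closure of the prime
field together with a compatible operator without fixed vectors. -/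
theorem linearise_act (ℓ : ℕ) [hℓp : Fact ℓ.Prime] {Q : Type u} [Group Q] {A : Type v}
    [CommGroup A] [Finite A] (hexp : ∀ a : A, a ^ ℓ = 1) (s : MulAut Q)
    (act : Q →* MulAut A) (sA : MulAut A) (M : ℕ) (hsAP : sA ^ M = 1)
    (hfpfA : ∀ a, sA a = a → a = 1) (hcs : ∀ h a, sA (act h a) = act (s h) (sA a)) :
    ∃ (d : ℕ) (σ' : Representation (AlgebraicClosure (ZMod ℓ)) Q
        (Fin d → AlgebraicClosure (ZMod ℓ)))
      (X X' : Module.End (AlgebraicClosure (ZMod ℓ)) (Fin d → AlgebraicClosure (ZMod ℓ))),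
      X * X' = 1 ∧ X' * X = 1 ∧ (∀ g, X * σ' g = σ' (s g) * X) ∧ X ^ M = 1 ∧
      (∑ i ∈ Finset.range M, X ^ i = 0) ∧ (∀ g h, σ' g = σ' h → act g = act h) := by
  classical
  have instMod : Module (ZMod ℓ) (Additive A) := AddCommGroup.zmodModule (n := ℓ) (by
    intro x
    obtain ⟨a, rfl⟩ := Additive.ofMul.surjective x
    rw [← ofMul_pow, hexp a, ofMul_one])
  haveI : Finite (Additive A) := inferInstanceAs (Finite A)
  haveI : FiniteDimensional (ZMod ℓ) (Additive A) := Module.Finite.of_finite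
  obtain ⟨lin, hlin⟩ : ∃ lin : (A →* A) → Module.End (ZMod ℓ) (Additive A),
      ∀ φ a, lin φ (Additive.ofMul a) = Additive.ofMul (φ a) :=
    ⟨fun φ => (MonoidHom.toAdditive φ).toZModLinearMap ℓ, fun φ a => rfl⟩
  have hext : ∀ X Y : Module.End (ZMod ℓ) (Additive A),
      (∀ a : A, X (Additive.ofMul a) = Y (Additive.ofMul a)) → X = Y := by
    intro X Y h
    refine LinearMap.ext (fun x => ?_)
    obtain ⟨a, rfl⟩ := Additive.ofMul.surjective x
    exact h a
  obtain ⟨ρ, hρa⟩ : ∃ ρ : Representation (ZMod ℓ) Q (Additive A),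
      ∀ h a, ρ h (Additive.ofMul a) = Additive.ofMul (act h a) := by
    refine ⟨{ toFun := fun h => lin (act h).toMonoidHom
              map_one' := ?_
              map_mul' := ?_ }, fun h a => hlin _ a⟩
    · apply hext
      intro a
      rw [hlin, map_one]
      rfl
    · intro g h
      apply hext
      intro a
      rw [hlin, Module.End.mul_apply, hlin, hlin, map_mul]
      rfl
  obtain ⟨S, hS⟩ : ∃ S : Module.End (ZMod ℓ) (Additive A),
      ∀ a, S (Additive.ofMul a) = Additive.ofMul (sA a) :=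
    ⟨lin sA.toMonoidHom, fun a => hlin _ a⟩
  obtain ⟨S', hS'⟩ : ∃ S' : Module.End (ZMod ℓ) (Additive A),
      ∀ a, S' (Additive.ofMul a) = Additive.ofMul (sA⁻¹ a) :=
    ⟨lin (sA⁻¹).toMonoidHom, fun a => hlin _ a⟩
  have hSS' : S * S' = 1 := by
    apply hext; intro a
    rw [Module.End.mul_apply, hS', hS, MulAut.apply_inv_self]; rfl
  have hS'S : S' * S = 1 := by
    apply hext; intro a
    rw [Module.End.mul_apply, hS, hS', MulAut.inv_apply_self]; rfl
  have hSpow : ∀ (k : ℕ) (a : A), (S ^ k) (Additive.ofMul a) = Additive.ofMul ((sA ^ k) a) := by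
    intro k
    induction k with
    | zero => intro a; rfl
    | succ k ih =>
      intro a
      rw [pow_succ', Module.End.mul_apply, ih, hS, pow_succ', MulAut.mul_apply]
  have hSP : S ^ M = 1 := by
    apply hext; intro a
    rw [hSpow, hsAP]; rfl
  have hNS : ∑ i ∈ Finset.range M, S ^ i = 0 := by
    apply hext; intro a
    rw [LinearMap.sum_apply, LinearMap.zero_apply]
    have h1 : ∑ i ∈ Finset.range M, (S ^ i) (Additive.ofMul a)
        = Additive.ofMul (∏ i ∈ Finset.range M, (sA ^ i) a) := by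
      rw [ofMul_prod]
      exact Finset.sum_congr rfl (fun i _ => hSpow i a)
    rw [h1, hfpfA _ (trace_range_fixed sA hsAP a)]
    rfl
  have hcS : ∀ g, S * ρ g = ρ (s g) * S := by
    intro g
    apply hext; intro a
    rw [Module.End.mul_apply, Module.End.mul_apply, hρa, hS, hS, hρa, hcs]
  have hρ : ∀ g h, ρ g = ρ h → act g = act h := by
    intro g h hgh
    ext a
    have := congrArg (fun X : Module.End (ZMod ℓ) (Additive A) => X (Additive.ofMul a)) hgh
    simp only [hρa] at this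
    exact Additive.ofMul.injective this
  -- base change
  obtain ⟨φ, hφ⟩ : ∃ φ : Module.End (ZMod ℓ) (Additive A) →+*
      Module.End (AlgebraicClosure (ZMod ℓ))
        (Fin (finrank (ZMod ℓ) (Additive A)) → AlgebraicClosure (ZMod ℓ)),
      Function.Injective φ :=
    ⟨bcEnd (ZMod ℓ) (AlgebraicClosure (ZMod ℓ)) (Additive A),
      bcEnd_injective (ZMod ℓ) (AlgebraicClosure (ZMod ℓ)) (Additive A)⟩
  obtain ⟨σ', hσ'⟩ : ∃ σ' : Representation (AlgebraicClosure (ZMod ℓ)) Q
      (Fin (finrank (ZMod ℓ) (Additive A)) → AlgebraicClosure (ZMod ℓ)),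
      ∀ g, σ' g = φ (ρ g) :=
    ⟨(φ : Module.End (ZMod ℓ) (Additive A) →* _).comp ρ, fun g => rfl⟩
  refine ⟨_, σ', φ S, φ S', ?_, ?_, ?_, ?_, ?_, ?_⟩
  · rw [← map_mul, hSS', map_one]
  · rw [← map_mul, hS'S, map_one]
  · intro g; rw [hσ', hσ', ← map_mul, hcS, map_mul]
  · rw [← map_pow, hSP, map_one]
  · have := congrArg φ hNS
    rw [map_sum, map_zero] at this
    rw [← this]
    exact Finset.sum_congr rfl (fun i _ => (map_pow φ S i).symm)
  · intro g h hgh
    rw [hσ', hσ'] at hgh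
    exact hρ g h (hφ hgh)

/-- A `t`-group acting faithfully on an elementary abelian `ℓ`-group, compatibly with
fixed-point-free automorphisms of order `2 ^ (n + 1)`, is centralised by the involution, outside
the exceptional cases. -/
theorem sg_pp_act_two (n : ℕ) (ℓ : ℕ) [hℓp : Fact ℓ.Prime]
    (hℓ2 : ℓ ≠ 2) (t : ℕ) [ht : Fact t.Prime] (ht2 : t ≠ 2) (htℓ : t ≠ ℓ)
    (hexc : ∀ m, 2 ≤ m → m ≤ n → t + 1 ≠ 2 ^ m)
    {Q : Type u} [Group Q] [Finite Q] (hQ : IsPGroup t Q) {A : Type v} [CommGroup A] [Finite A]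
    (hexp : ∀ a : A, a ^ ℓ = 1)
    (s : MulAut Q) (hfpf : ∀ g, s g = g → g = 1)
    (act : Q →* MulAut A) (hact : Function.Injective act)
    (sA : MulAut A) (hsAP : sA ^ (2 ^ (n + 1)) = 1) (hfpfA : ∀ a, sA a = a → a = 1)
    (hcs : ∀ h a, sA (act h a) = act (s h) (sA a)) :
    ∀ g : Q, (s ^ (2 ^ n)) g = g := by
  obtain ⟨d, σ', X, X', hXX', hX'X, hcompat, hXP, hNX, hinj⟩ :=
    linearise_act ℓ hexp s act sA (2 ^ (n + 1)) hsAP hfpfA hcs
  have hgood := pp_main_two t n ht2 hexc
    (algClosure_natCast_ne_zero ℓ 2 Nat.prime_two (Ne.symm hℓ2))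
    (algClosure_natCast_ne_zero ℓ t ht.out htℓ) _ Q _ σ' X X' s rfl
  have hres := hgood hQ hXX' hX'X hcompat hXP hNX hfpf
  intro g
  exact hact (hinj _ _ (hres g))

/-- The stacked lemma for group actions: in a group acting faithfully on an elementary abelian
`ℓ`-group, compatibly with fixed-point-free automorphisms of order `2 ^ (n + 1)`, the elements of
an invariant `u`-subgroup inverted by the involution centralise every invariant normal
`t`-subgroup (`t ≠ u`, `t ≠ ℓ`). -/
theorem st_act (n : ℕ) (ℓ : ℕ) [hℓp : Fact ℓ.Prime] (hℓ2 : ℓ ≠ 2)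
    (t u : ℕ) [ht : Fact t.Prime] [hu : Fact u.Prime] (htu : t ≠ u) (ht2 : t ≠ 2) (hu2 : u ≠ 2)
    (htℓ : t ≠ ℓ)
    {H : Type u} [Group H] [Finite H] {A : Type v} [CommGroup A] [Finite A]
    (hexp : ∀ a : A, a ^ ℓ = 1)
    (s : MulAut H) (act : H →* MulAut A) (hact : Function.Injective act)
    (sA : MulAut A) (hsAP : sA ^ (2 ^ (n + 1)) = 1) (hfpfA : ∀ a, sA a = a → a = 1)
    (hcs : ∀ h a, sA (act h a) = act (s h) (sA a))
    (T Q₂ : Subgroup H) (hTn : T.Normal) (hT : IsPGroup t T) (hQ : IsPGroup u Q₂)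
    (hsT : Inv s T) (hsQ : Inv s Q₂) :
    ∀ x ∈ Q₂, (s ^ (2 ^ n)) x = x⁻¹ → ∀ y ∈ T, x * y = y * x := by
  obtain ⟨d, σ', X, X', hXX', hX'X, hcompat, hXP, hNX, hinj⟩ :=
    linearise_act ℓ hexp s act sA (2 ^ (n + 1)) hsAP hfpfA hcs
  have hgood := st_main t u htu ht2 hu2
    (algClosure_natCast_ne_zero ℓ 2 Nat.prime_two (Ne.symm hℓ2))
    (algClosure_natCast_ne_zero ℓ t ht.out htℓ) _ n H _ σ' X X' s T Q₂ rfl
  have hcfg : STCfg t u n σ' X X' s T Q₂ :=
    { hTn := hTn
      hT := hT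
      hQ := hQ
      hφT := hsT
      hφQ := hsQ
      hXX' := hXX'
      hX'X := hX'X
      hcompat := hcompat
      hXP := hXP
      hNX := hNX }
  intro x hx hxinv y hy
  have h1 := hgood hcfg x hx hxinv y hy
  rw [← map_mul, ← map_mul] at h1
  exact hact (hinj _ _ h1)

end Cfsg.Agent.Lib.Helper3.Sh
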