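import Mathlib
import Cfsg.Agent.Lib.Helper3.HHC1
import Cfsg.Agent.Lib.Helper3.ShS
import Cfsg.Agent.Lib.Helper3.ShV
import Cfsg.Agent.Lib.Helper8.FP4a
import Cfsg.Agent.Lib.Helper6.WdA

/-!
# Shult–Gross, part W: the bottom configuration for a representation which need not be faithful.
-/

set_option autoImplicit false
set_option maxHeartbeats 4000000
set_option maxRecDepth 100000
set_option linter.unusedVariables false
set_option linter.unusedSectionVars false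
set_option linter.style.haveILetI false
set_option linter.deprecated false

namespace Cfsg.Agent.Lib.Helper3.Sh

open Module Cfsg.Agent.Lib.Helper3 Cfsg.Agent.Lib.Helper3.HHC1 Cfsg.Agent.Lib.Helper8.FP4

theorem bot2 (p s : ℕ) [hp : Fact p.Prime] [hs : Fact s.Prime] (hps : p ≠ s) (hp2 : p ≠ 2)
    {K : Type*} [Field K] [IsAlgClosed K] (hpK : (p : K) ≠ 0) (hsK : (s : K) ≠ 0)
    {Q : Type*} [Group Q] [Finite Q] {V : Type*} [AddCommGroup V] [Module K V]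
    [FiniteDimensional K V] [Nontrivial V]
    (τ : Representation K Q V) (Y Y' : Module.End K V) (φ : MulAut Q) (hQ : IsPGroup s Q)
    (hYY' : Y * Y' = 1) (hY'Y : Y' * Y = 1) (hcompat : ∀ g, Y * τ g = τ (φ g) * Y)
    (N : ℕ) (hYP : Y ^ (p ^ (N + 1)) = 1)
    (hNY : ∑ i ∈ Finset.range (p ^ (N + 1)), Y ^ i = 0)
    (hφP : φ ^ (p ^ (N + 1)) = 1)
    (hirrY : ∀ U : Submodule K V, (∀ g, ∀ w ∈ U, τ g w ∈ U) → (∀ w ∈ U, Y w ∈ U) →
      U = ⊥ ∨ U = ⊤)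
    (hZsc : ∀ z ∈ Subgroup.center Q, ∃ μ : K, τ z = μ • (1 : Module.End K V))
    (hfixcen : ∀ d, (φ ^ (p ^ N)) d = d → d ∈ Subgroup.center Q)
    (hcomm : ∀ a b : Q, (φ ^ (p ^ N)) (a * b * a⁻¹ * b⁻¹) = a * b * a⁻¹ * b⁻¹) :
    (∀ g, τ ((φ ^ (p ^ N)) g) = τ g) ∨
      (s = 2 ∧ ∃ (b : ℕ) (Z₀ : Subgroup Q), p ^ (N + 1) = 2 ^ b + 1 ∧
        Z₀.index = (2 ^ b) ^ 2 ∧ ∀ g ∈ Z₀, ∀ h, τ (g * h * g⁻¹ * h⁻¹) = 1) := by
  classical
  obtain ⟨ψ, hψdef⟩ : ∃ ψ : MulAut Q, ψ = φ ^ (p ^ N) := ⟨_, rfl⟩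
  rw [← hψdef] at hfixcen hcomm
  have hψp : ψ ^ p = 1 := by
    rw [hψdef, ← pow_mul, ← pow_succ]; exact hφP
  have hKmem : ∀ g, g ∈ τ.ker ↔ τ g = 1 := fun g => MonoidHom.mem_ker
  have hτφ : ∀ g, τ (φ g) = Y * τ g * Y' := by
    intro g; rw [hcompat, mul_assoc, hYY', mul_one]
  have hinv : Inv φ τ.ker := by
    intro g hg
    rw [hKmem] at hg ⊢
    rw [hτφ, hg, mul_one, hYY']
  have hinvψ : Inv ψ τ.ker := by rw [hψdef]; exact hinv.pow _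
  obtain ⟨τ', hτ'def⟩ : ∃ τ' : Representation K (Q ⧸ τ.ker) V,
      τ' = QuotientGroup.lift τ.ker τ le_rfl := ⟨_, rfl⟩
  obtain ⟨φ', hφ'def⟩ : ∃ φ' : MulAut (Q ⧸ τ.ker), φ' = quotAut φ τ.ker hinv := ⟨_, rfl⟩
  have hτ' : ∀ g : Q, τ' (g : Q ⧸ τ.ker) = τ g := by
    intro g; rw [hτ'def]; exact QuotientGroup.lift_mk _ _ g
  have hφ' : ∀ g : Q, φ' (g : Q ⧸ τ.ker) = ((φ g : Q) : Q ⧸ τ.ker) := by
    intro g; rw [hφ'def]; exact quotAut_mk φ τ.ker hinv g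
  have hφ'pow : ∀ (k : ℕ) (g : Q),
      (φ' ^ k) (g : Q ⧸ τ.ker) = (((φ ^ k) g : Q) : Q ⧸ τ.ker) := by
    intro k g; rw [hφ'def]; exact quotAut_pow_mk φ τ.ker hinv k g
  have hfaith' : Function.Injective τ' := by
    intro a b
    refine QuotientGroup.induction_on a (fun a => ?_)
    refine QuotientGroup.induction_on b (fun b => ?_)
    intro hab
    rw [hτ', hτ'] at hab
    apply QuotientGroup.eq.mpr
    rw [hKmem, map_mul, ← hab, ← map_mul, inv_mul_cancel, map_one]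
  have hcompat' : ∀ g, Y * τ' g = τ' (φ' g) * Y := by
    intro g
    refine QuotientGroup.induction_on g (fun g => ?_)
    rw [hφ', hτ', hτ']; exact hcompat g
  have hirrY' : ∀ U : Submodule K V, (∀ g, ∀ w ∈ U, τ' g w ∈ U) → (∀ w ∈ U, Y w ∈ U) →
      U = ⊥ ∨ U = ⊤ := by
    intro U h1 h2
    refine hirrY U (fun g w hw => ?_) h2
    have := h1 (g : Q ⧸ τ.ker) w hw
    rwa [hτ'] at this
  have hR : IsPGroup s (Q ⧸ τ.ker) := hQ.to_quotient _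
  obtain ⟨χ, V₀, j, _, _, _, _, _, _, _, _, _, hcenfix'⟩ :=
    pp_clifford2 p τ' Y φ' hcompat' N hYP hNY hfaith' hirrY'
  have hnotdvd : ∀ H : Subgroup Q, ¬ p ∣ Nat.card H := by
    intro H hdvd
    obtain ⟨a, ha⟩ := IsPGroup.iff_card.mp (hQ.to_subgroup H)
    rw [ha] at hdvd
    have := (Nat.prime_dvd_prime_iff_eq hp.out hs.out).mp (hp.out.dvd_of_dvd_pow hdvd)
    exact hps this
  have hlift : ∀ g : Q, (g : Q ⧸ τ.ker) ∈ Subgroup.center (Q ⧸ τ.ker) →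
      ∃ k ∈ τ.ker, g * k ∈ Subgroup.center Q := by
    intro g hg
    have h1 := hcenfix' _ hg
    rw [hφ'pow, ← hψdef] at h1
    have h2 : g⁻¹ * ψ g ∈ τ.ker := QuotientGroup.eq.mp h1.symm
    obtain ⟨k, hk, hfix⟩ := Cfsg.Agent.Lib.Helper6.Wd.exists_fixed_in_coset ψ hψp τ.ker hinvψ
      (hnotdvd _) g h2
    exact ⟨k, hk, hfixcen _ hfix⟩
  have hZsc' : ∀ z ∈ Subgroup.center (Q ⧸ τ.ker), ∃ μ : K, τ' z = μ • (1 : Module.End K V) := by
    intro z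
    refine QuotientGroup.induction_on z (fun g => ?_)
    intro hg
    obtain ⟨k, hk, hgk⟩ := hlift g hg
    obtain ⟨μ, hμ⟩ := hZsc _ hgk
    refine ⟨μ, ?_⟩
    rw [hτ', ← hμ, map_mul, (hKmem k).mp hk, mul_one]
  have hcenmap : ∀ z ∈ Subgroup.center Q, (z : Q ⧸ τ.ker) ∈ Subgroup.center (Q ⧸ τ.ker) := by
    intro z hz
    rw [Subgroup.mem_center_iff]
    intro h
    refine QuotientGroup.induction_on h (fun h => ?_)
    rw [← QuotientGroup.mk_mul, ← QuotientGroup.mk_mul, Subgroup.mem_center_iff.mp hz h]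
  have hcl2' : ∀ a b : Q ⧸ τ.ker, a * b * a⁻¹ * b⁻¹ ∈ Subgroup.center (Q ⧸ τ.ker) := by
    intro a b
    refine QuotientGroup.induction_on a (fun a => ?_)
    refine QuotientGroup.induction_on b (fun b => ?_)
    have := hcenmap _ (hfixcen _ (hcomm a b))
    simpa using this
  obtain ⟨Zt, hZtdef⟩ : ∃ Zt : Subgroup Q,
      Zt = (Subgroup.center (Q ⧸ τ.ker)).comap (QuotientGroup.mk' τ.ker) := ⟨_, rfl⟩
  have hZtmem : ∀ g : Q, g ∈ Zt ↔ (g : Q ⧸ τ.ker) ∈ Subgroup.center (Q ⧸ τ.ker) := by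
    intro g; rw [hZtdef, Subgroup.mem_comap]; rfl
  have hZtinv : Inv ψ Zt := by
    intro g hg
    rw [hZtmem] at hg ⊢
    have := center_aut_mem (φ' ^ (p ^ N)) _ hg
    rwa [hφ'pow, ← hψdef] at this
  have hfpf' : ∀ g : Q ⧸ τ.ker, g⁻¹ * (φ' ^ (p ^ N)) g ∈ Subgroup.center (Q ⧸ τ.ker) →
      g ∈ Subgroup.center (Q ⧸ τ.ker) := by
    intro g
    refine QuotientGroup.induction_on g (fun g => ?_)
    intro hg
    rw [hφ'pow, ← hψdef] at hg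
    have h2 : g⁻¹ * ψ g ∈ Zt := by
      rw [hZtmem]
      simpa using hg
    obtain ⟨m, hm, hfix⟩ := Cfsg.Agent.Lib.Helper6.Wd.exists_fixed_in_coset ψ hψp Zt hZtinv
      (hnotdvd _) g h2
    have h3 := hcenmap _ (hfixcen _ hfix)
    have h4 : (m : Q ⧸ τ.ker) ∈ Subgroup.center (Q ⧸ τ.ker) := (hZtmem m).mp hm
    have h5 : (g : Q ⧸ τ.ker) = ((g * m : Q) : Q ⧸ τ.ker) * (m : Q ⧸ τ.ker)⁻¹ := by
      rw [QuotientGroup.mk_mul, mul_inv_cancel_right]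
    rw [h5]
    exact mul_mem h3 (inv_mem h4)
  rcases bot_lemma p s hps hp2 hpK hsK τ' Y Y' φ' hR hYY' hY'Y hcompat' N hYP hNY hfaith' hirrY'
    hZsc' hcl2' hfpf' with hab | ⟨hs2, b, hpb, hcard⟩
  · left
    intro g
    have hg : (g : Q ⧸ τ.ker) ∈ Subgroup.center (Q ⧸ τ.ker) :=
      Subgroup.mem_center_iff.mpr (fun h => hab h _)
    have h1 := hcenfix' _ hg
    rw [hφ'pow] at h1
    rw [← hτ', h1, hτ']
  · right
    refine ⟨hs2, b, Zt, hpb, ?_, ?_⟩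
    · rw [hZtdef, Subgroup.index_comap_of_surjective _ (QuotientGroup.mk'_surjective _),
        Subgroup.index_eq_card, hcard]
    · intro g hg h
      have hg' : (g : Q ⧸ τ.ker) ∈ Subgroup.center (Q ⧸ τ.ker) := (hZtmem g).mp hg
      rw [← hKmem, ← QuotientGroup.eq_one_iff]
      have h1 := Subgroup.mem_center_iff.mp hg' (h : Q ⧸ τ.ker)
      rw [QuotientGroup.mk_mul, QuotientGroup.mk_mul, QuotientGroup.mk_mul, QuotientGroup.mk_inv,
        QuotientGroup.mk_inv, ← h1, mul_inv_cancel_right, mul_inv_cancel]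

end Cfsg.Agent.Lib.Helper3.Sh
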