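import Mathlib
import Cfsg.Agent.Lib.Helper3.HHC1
import Cfsg.Agent.Lib.Helper3.ShU
import Cfsg.Agent.Lib.Helper3.ShV
import Cfsg.Agent.Lib.Helper3.ShW
import Cfsg.Agent.Lib.Helper3.ShX
import Cfsg.Agent.Lib.Helper3.ShY
import Cfsg.Agent.Lib.Helper3.ShZ

/-!
# Shult–Gross, part 2A: the minimal configuration and the main induction for the non-modular
Hall–Higman lemma (prime power order, no fixed vectors, fixed-point-free action on the `s`-group).
-/

set_option autoImplicit false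
set_option maxHeartbeats 4000000
set_option maxRecDepth 100000
set_option linter.unusedVariables false
set_option linter.unusedSectionVars false
set_option linter.style.haveILetI false
set_option linter.deprecated false

namespace Cfsg.Agent.Lib.Helper3.Sh

open Module Cfsg.Agent.Lib.Helper3 Cfsg.Agent.Lib.Helper3.HHC1

universe u v w

/-- The minimal configuration. -/
theorem pp_stepD (p s n : ℕ) [hp : Fact p.Prime] [hs : Fact s.Prime] (hps : p ≠ s)
    (hp2 : p ≠ 2) {K : Type w}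
    [Field K] [IsAlgClosed K] (hpK : (p : K) ≠ 0) (hsK : (s : K) ≠ 0) {Q : Type u} [Group Q]
    [Finite Q] {W : Type v}
    [AddCommGroup W] [Module K W] [FiniteDimensional K W] (σ : Representation K Q W)
    (X X' : Module.End K W) (φ : MulAut Q)
    (hfaith : Function.Injective σ)
    (hminQ : ∀ Q₁ : Subgroup Q, Q₁ ≠ ⊤ → (∀ g ∈ Q₁, φ g ∈ Q₁) →
      ∀ g ∈ Q₁, σ ((φ ^ (p ^ n)) g) = σ g)
    (hminW : ∀ U : Submodule K W, U ≠ ⊤ → (∀ g, ∀ w ∈ U, σ g w ∈ U) → (∀ w ∈ U, X w ∈ U) →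
      (∀ w ∈ U, X' w ∈ U) → ∀ g, ∀ w ∈ U, σ ((φ ^ (p ^ n)) g) w = σ g w) :
    PPGood p s n Q W σ X X' φ := by
  intro hQ hXX' hX'X hcompat hXP hNX hfpf
  by_contra hNT
  push Not at hNT
  classical
  obtain ⟨hφP, hntW, hDcen, hcommfix, hirrX⟩ := pp_min_irr p s n hps hsK σ X X' φ hfaith hminQ
    hminW hQ hXX' hX'X hcompat hXP hNT
  haveI := hntW
  obtain ⟨χ, V₀, j, hjn, hV₀ne, hmem, hσV, hXV, hper, hind, hsup, hVwt, hcenfix⟩ :=
    pp_clifford2 p σ X φ hcompat n hXP hNX hfaith hirrX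
  have hnt' : ∃ g, (φ ^ (p ^ n)) g ≠ g := by
    obtain ⟨g, hg⟩ := hNT
    refine ⟨g, fun h => hg ?_⟩
    rw [h]
  have hj0 : j ≠ 0 := by
    intro h0
    subst h0
    have hZtriv : ∀ z ∈ Subgroup.center Q, z = 1 := by
      intro z hz
      apply hfpf
      apply hfaith
      refine end_ext_of_iSup _ hsup _ _ (fun i w hw => ?_)
      rw [hVwt i w hw _ (center_aut_mem φ z hz), hVwt i w hw z hz]
      have h1 := hper ((φ ^ (i : ℕ))⁻¹ (φ z))
      simp only [pow_zero, pow_one] at h1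
      rw [← h1]
      congr 2
      have h2 := pow_inv_comm_aut φ i 1 z
      rw [pow_one] at h2
      rw [h2, MulAut.inv_apply_self]
    obtain ⟨g, hg⟩ := hnt'
    apply hg
    by_cases hQt : Nontrivial Q
    · exfalso
      haveI := hQt
      haveI : Nontrivial (Subgroup.center Q) := IsPGroup.center_nontrivial hQ
      obtain ⟨z, hz⟩ := exists_ne (1 : Subgroup.center Q)
      apply hz
      exact Subtype.ext (hZtriv z.1 z.2)
    · rw [not_nontrivial_iff_subsingleton] at hQt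
      exact Subsingleton.elim _ _
  obtain ⟨N, hN⟩ : ∃ N, n = j + N := ⟨n - j, by omega⟩
  subst hN
  have h12 : X' ^ (p ^ j) * X ^ (p ^ j) = 1 := pow_mul_pow_eq_one X' X hX'X hXX' _
  have hX'V := inv_mem_of_mem (X ^ (p ^ j)) (X' ^ (p ^ j)) h12 V₀ hXV
  have hXP' : X ^ (p ^ (j + (N + 1))) = 1 := hXP
  have hNX' : ∑ i ∈ Finset.range (p ^ (j + (N + 1))), X ^ i = 0 := hNX
  obtain ⟨hYY', hY'Y, hcompatY, hYP, hNY, hirrY⟩ := pp_bottom_data p σ X X' hXX' hX'X φ hcompat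
    j N hXP' hNX' hirrX V₀ hσV hXV hX'V hind
  haveI : Nontrivial V₀ := Submodule.nontrivial_iff_ne_bot.mpr hV₀ne
  have hφ₁P : (φ ^ (p ^ j)) ^ (p ^ (N + 1)) = 1 := by
    rw [← pow_mul, ← pow_add]; exact hφP
  have hψeq : (φ ^ (p ^ j)) ^ (p ^ N) = φ ^ (p ^ (j + N)) := by
    rw [← pow_mul, ← pow_add]
  have hZscY : ∀ z ∈ Subgroup.center Q,
      ∃ μ : K, resRep σ V₀ hσV z = μ • (1 : Module.End K V₀) := by
    intro z hz
    refine ⟨χ z, LinearMap.ext (fun w => Subtype.ext ?_)⟩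
    show σ z (w : W) = χ z • (w : W)
    exact (hmem _).mp w.2 z hz
  have hfixcen : ∀ d, ((φ ^ (p ^ j)) ^ (p ^ N)) d = d → d ∈ Subgroup.center Q := by
    intro d hd
    rw [hψeq] at hd
    exact Subgroup.mem_center_iff.mpr (fun g => (hDcen d hd g).symm)
  have hcommY : ∀ a b : Q,
      ((φ ^ (p ^ j)) ^ (p ^ N)) (a * b * a⁻¹ * b⁻¹) = a * b * a⁻¹ * b⁻¹ := by
    intro a b
    rw [hψeq]
    exact hcommfix a b
  rcases bot2 p s hps hp2 hpK hsK (resRep σ V₀ hσV) _ _ (φ ^ (p ^ j)) hQ hYY' hY'Y hcompatY N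
    hYP hNY hφ₁P hirrY hZscY hfixcen hcommY with htriv | ⟨hs2, b, Z₀, hpb, hidx, hZ₀⟩
  · have h1 : ∀ g, ∀ w ∈ V₀, σ ((φ ^ (p ^ (j + N))) g) w = σ g w := by
      intro g w hw
      have h2 := htriv g
      rw [hψeq] at h2
      have := congrArg (fun A : Module.End K V₀ => ((A ⟨w, hw⟩ : V₀) : W)) h2
      exact this
    have h2 := pp_spread σ X φ hcompat (p ^ j) (p ^ (j + N)) V₀ hsup h1
    obtain ⟨g, hg⟩ := hNT
    exact hg (h2 g)
  · subst hs2
    refine pp_exceptional p hp2 σ X X' hXX' hX'X φ hcompat hfaith hQ hfpf j N (by omega) hφP χ V₀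
      hV₀ne hper hsup hVwt hcenfix hDcen hcommfix hnt' b Z₀ hpb hidx ?_
    intro g hg h w hw
    have := congrArg (fun A : Module.End K V₀ => ((A ⟨w, hw⟩ : V₀) : W)) (hZ₀ g hg h)
    exact this

/-- The main induction. -/
theorem pp_main (p s n : ℕ) [Fact p.Prime] [Fact s.Prime] (hps : p ≠ s) (hp2 : p ≠ 2)
    {K : Type w} [Field K] [IsAlgClosed K] (hpK : (p : K) ≠ 0)
    (hsK : (s : K) ≠ 0) :
    ∀ (M : ℕ) (Q : Type u) [Group Q] [Finite Q] (W : Type v) [AddCommGroup W] [Module K W]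
      [FiniteDimensional K W] (σ : Representation K Q W) (X X' : Module.End K W)
      (φ : MulAut Q), Nat.card Q + finrank K W = M → PPGood p s n Q W σ X X' φ := by
  intro M
  induction M using Nat.strong_induction_on with
  | _ M IHM =>
  intro Q _ _ W _ _ _ σ X X' φ hM
  by_cases hfaith : Function.Injective σ
  swap
  · exact pp_stepA p s n σ X X' φ
      (fun Q' _ _ σ' φ' hlt => IHM (Nat.card Q' + finrank K W) (by omega) Q' W σ' X X' φ' rfl)
      hfaith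
  by_cases hminQ : ∃ Q₁ : Subgroup Q, Q₁ ≠ ⊤ ∧ (∀ g ∈ Q₁, φ g ∈ Q₁) ∧
      ∃ g ∈ Q₁, σ ((φ ^ (p ^ n)) g) ≠ σ g
  · obtain ⟨Q₁, h1, h2, h3⟩ := hminQ
    exact pp_stepB p s n σ X X' φ
      (fun Q' _ _ σ' φ' hlt => IHM (Nat.card Q' + finrank K W) (by omega) Q' W σ' X X' φ' rfl)
      Q₁ h1 h2 h3
  by_cases hminW : ∃ U : Submodule K W, U ≠ ⊤ ∧ (∀ g, ∀ w ∈ U, σ g w ∈ U) ∧
      (∀ w ∈ U, X w ∈ U) ∧ (∀ w ∈ U, X' w ∈ U) ∧
      ∃ g, ∃ w ∈ U, σ ((φ ^ (p ^ n)) g) w ≠ σ g w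
  · obtain ⟨U, h1, h2, h3, h4, h5⟩ := hminW
    exact pp_stepC p s n σ X X' φ
      (fun W' _ _ _ σ' X₁ X₁' hlt =>
        IHM (Nat.card Q + finrank K W') (by omega) Q W' σ' X₁ X₁' φ rfl)
      U h1 h2 h3 h4 h5
  push Not at hminQ hminW
  exact pp_stepD p s n hps hp2 hpK hsK σ X X' φ hfaith hminQ hminW

end Cfsg.Agent.Lib.Helper3.Sh
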