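import Mathlib
import Cfsg.Agent.Lib.Helper3.SgA
import Cfsg.Agent.Lib.Helper3.SgB
import Cfsg.Agent.Lib.Helper3.ShO
import Cfsg.Agent.Lib.Helper6.WdD

/-!
# Shult–Gross, part 2C: a `t`-group acting faithfully on an elementary abelian `ℓ`-group,
compatibly with fixed-point-free automorphisms of order `p ^ (n + 1)`, is centralised by the
subgroup of order `p`.
-/

set_option autoImplicit false
set_option maxHeartbeats 4000000
set_option maxRecDepth 100000
set_option linter.unusedVariables false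
set_option linter.unusedSectionVars false
set_option linter.style.haveILetI false
set_option linter.deprecated false

namespace Cfsg.Agent.Lib.Helper3.Sh

open Module Cfsg.Agent.Lib.Helper8.FP4 Cfsg.Agent.Lib.Helper6.Wd Cfsg.Agent.Lib.Helper3.HHC1

universe u v

theorem sg_pp_act (p : ℕ) [hp : Fact p.Prime] (hp2 : p ≠ 2) (n : ℕ) (ℓ : ℕ) [hℓp : Fact ℓ.Prime]
    (hpℓ : p ≠ ℓ) (t : ℕ) [ht : Fact t.Prime] (hpt : p ≠ t) (htℓ : t ≠ ℓ)
    {Q : Type u} [Group Q] [Finite Q] (hQ : IsPGroup t Q) {A : Type v} [CommGroup A] [Finite A]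
    (hexp : ∀ a : A, a ^ ℓ = 1)
    (s : MulAut Q) (hfpf : ∀ g, s g = g → g = 1)
    (act : Q →* MulAut A) (hact : Function.Injective act)
    (sA : MulAut A) (hsAP : sA ^ (p ^ (n + 1)) = 1) (hfpfA : ∀ a, sA a = a → a = 1)
    (hcs : ∀ h a, sA (act h a) = act (s h) (sA a)) :
    ∀ g : Q, (s ^ (p ^ n)) g = g := by
  classical
  have instMod : Module (ZMod ℓ) (Additive A) := AddCommGroup.zmodModule (n := ℓ) (by
    intro x
    obtain ⟨a, rfl⟩ := Additive.ofMul.surjective x
    rw [← ofMul_pow, hexp a, ofMul_one])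
  haveI : Finite (Additive A) := inferInstanceAs (Finite A)
  haveI : FiniteDimensional (ZMod ℓ) (Additive A) := Module.Finite.of_finite
  obtain ⟨lin, hlin⟩ : ∃ lin : (A →* A) → Module.End (ZMod ℓ) (Additive A),
      ∀ φ a, lin φ (Additive.ofMul a) = Additive.ofMul (φ a) :=
    ⟨fun φ => (MonoidHom.toAdditive φ).toZModLinearMap ℓ, fun φ a => rfl⟩
  have hext : ∀ X Y : Module.End (ZMod ℓ) (Additive A),
      (∀ a : A, X (Additive.ofMul a) = Y (Additive.ofMul a)) → X = Y := by
    intro X Y h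
    refine LinearMap.ext (fun x => ?_)
    obtain ⟨a, rfl⟩ := Additive.ofMul.surjective x
    exact h a
  obtain ⟨ρ, hρa⟩ : ∃ ρ : Representation (ZMod ℓ) Q (Additive A),
      ∀ h a, ρ h (Additive.ofMul a) = Additive.ofMul (act h a) := by
    refine ⟨{ toFun := fun h => lin (act h).toMonoidHom
              map_one' := ?_
              map_mul' := ?_ }, fun h a => hlin _ a⟩
    · apply hext
      intro a
      rw [hlin, map_one]
      rfl
    · intro g h
      apply hext
      intro a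
      rw [hlin, Module.End.mul_apply, hlin, hlin, map_mul]
      rfl
  obtain ⟨S, hS⟩ : ∃ S : Module.End (ZMod ℓ) (Additive A),
      ∀ a, S (Additive.ofMul a) = Additive.ofMul (sA a) :=
    ⟨lin sA.toMonoidHom, fun a => hlin _ a⟩
  obtain ⟨S', hS'⟩ : ∃ S' : Module.End (ZMod ℓ) (Additive A),
      ∀ a, S' (Additive.ofMul a) = Additive.ofMul (sA⁻¹ a) :=
    ⟨lin (sA⁻¹).toMonoidHom, fun a => hlin _ a⟩
  have hSS' : S * S' = 1 := by
    apply hext; intro a
    rw [Module.End.mul_apply, hS', hS, MulAut.apply_inv_self]; rfl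
  have hS'S : S' * S = 1 := by
    apply hext; intro a
    rw [Module.End.mul_apply, hS, hS', MulAut.inv_apply_self]; rfl
  have hSpow : ∀ (k : ℕ) (a : A), (S ^ k) (Additive.ofMul a) = Additive.ofMul ((sA ^ k) a) := by
    intro k
    induction k with
    | zero => intro a; rfl
    | succ k ih =>
      intro a
      rw [pow_succ', Module.End.mul_apply, ih, hS, pow_succ', MulAut.mul_apply]
  have hSP : S ^ (p ^ (n + 1)) = 1 := by
    apply hext; intro a
    rw [hSpow, hsAP]; rfl
  have hNS : ∑ i ∈ Finset.range (p ^ (n + 1)), S ^ i = 0 := by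
    apply hext; intro a
    rw [LinearMap.sum_apply, LinearMap.zero_apply]
    have h1 : ∑ i ∈ Finset.range (p ^ (n + 1)), (S ^ i) (Additive.ofMul a)
        = Additive.ofMul (∏ i ∈ Finset.range (p ^ (n + 1)), (sA ^ i) a) := by
      rw [ofMul_prod]
      exact Finset.sum_congr rfl (fun i _ => hSpow i a)
    rw [h1, hfpfA _ (trace_range_fixed sA hsAP a)]
    rfl
  have hcS : ∀ g, S * ρ g = ρ (s g) * S := by
    intro g
    apply hext; intro a
    rw [Module.End.mul_apply, Module.End.mul_apply, hρa, hS, hS, hρa, hcs]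
  have hρ : Function.Injective ρ := by
    intro g h hgh
    apply hact
    ext a
    have := congrArg (fun X : Module.End (ZMod ℓ) (Additive A) => X (Additive.ofMul a)) hgh
    simp only [hρa] at this
    exact Additive.ofMul.injective this
  -- base change
  obtain ⟨φ, hφ⟩ : ∃ φ : Module.End (ZMod ℓ) (Additive A) →+*
      Module.End (AlgebraicClosure (ZMod ℓ))
        (Fin (finrank (ZMod ℓ) (Additive A)) → AlgebraicClosure (ZMod ℓ)),
      Function.Injective φ :=
    ⟨bcEnd (ZMod ℓ) (AlgebraicClosure (ZMod ℓ)) (Additive A),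
      bcEnd_injective (ZMod ℓ) (AlgebraicClosure (ZMod ℓ)) (Additive A)⟩
  have hK : ∀ r : ℕ, r.Prime → r ≠ ℓ → ((r : ℕ) : AlgebraicClosure (ZMod ℓ)) ≠ 0 := by
    intro r hr hrℓ h0
    have h1 : ((r : ℕ) : AlgebraicClosure (ZMod ℓ))
        = algebraMap (ZMod ℓ) (AlgebraicClosure (ZMod ℓ)) (r : ZMod ℓ) :=
      (map_natCast _ r).symm
    rw [h1, map_eq_zero] at h0
    have h2 := (CharP.cast_eq_zero_iff (ZMod ℓ) ℓ r).mp h0
    exact hrℓ ((Nat.prime_dvd_prime_iff_eq hℓp.out hr).mp h2).symm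
  obtain ⟨σ', hσ'⟩ : ∃ σ' : Representation (AlgebraicClosure (ZMod ℓ)) Q
      (Fin (finrank (ZMod ℓ) (Additive A)) → AlgebraicClosure (ZMod ℓ)),
      ∀ g, σ' g = φ (ρ g) :=
    ⟨(φ : Module.End (ZMod ℓ) (Additive A) →* _).comp ρ, fun g => rfl⟩
  have hgood := pp_main p t n hpt hp2 (hK p hp.out hpℓ) (hK t ht.out htℓ) _ Q _ σ' (φ S) (φ S') s rfl
  have hres := hgood hQ (by rw [← map_mul, hSS', map_one]) (by rw [← map_mul, hS'S, map_one])
    (by intro g; rw [hσ', hσ', ← map_mul, hcS, map_mul])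
    (by rw [← map_pow, hSP, map_one])
    (by
      have := congrArg φ hNS
      rw [map_sum, map_zero] at this
      rw [← this]
      exact Finset.sum_congr rfl (fun i _ => (map_pow φ S i).symm))
    hfpf
  intro g
  have h1 := hres g
  rw [hσ', hσ'] at h1
  exact hρ (hφ h1)

end Cfsg.Agent.Lib.Helper3.Sh
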