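import Mathlib
import Cfsg.Agent.Lib.Helper3.SgB
import Cfsg.Agent.Lib.Helper3.SgC
import Cfsg.Agent.Lib.Helper3.ShO

/-!
# Shult–Gross, part 2D: the key lemma.  If `H` admits a fixed-point-free automorphism `s` of order
`p ^ (n + 1)`, `[H, s ^ (p ^ n)]` is nilpotent, and `H` acts faithfully and irreducibly on an
elementary abelian group compatibly with `s`, then `s ^ (p ^ n)` is trivial on `H`.
-/

set_option autoImplicit false
set_option maxHeartbeats 4000000
set_option maxRecDepth 100000
set_option linter.unusedVariables false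
set_option linter.unusedSectionVars false
set_option linter.style.haveILetI false
set_option linter.deprecated false

namespace Cfsg.Agent.Lib.Helper3.Sh

open Module Cfsg.Agent.Lib.Helper8.FP4 Cfsg.Agent.Lib.Helper6.Wd Cfsg.Agent.Lib.Helper3.HHC1

universe u v

theorem sgKLG (p : ℕ) [hp : Fact p.Prime] (hp2 : p ≠ 2) (n : ℕ) (ℓ : ℕ) [hℓp : Fact ℓ.Prime]
    {H : Type u} [Group H] [Finite H] {A : Type v} [CommGroup A] [Finite A] [Nontrivial A]
    (hexp : ∀ a : A, a ^ ℓ = 1)
    (s : MulAut H) (hsP : s ^ (p ^ (n + 1)) = 1) (hfpf : ∀ g, s g = g → g = 1)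
    (act : H →* MulAut A) (hact : Function.Injective act)
    (sA : MulAut A) (hsAP : sA ^ (p ^ (n + 1)) = 1) (hfpfA : ∀ a, sA a = a → a = 1)
    (hcs : ∀ h a, sA (act h a) = act (s h) (sA a))
    (hnil : Group.IsNilpotent ↥(cx (s ^ (p ^ n))))
    (hirr : ∀ B : Subgroup A, (∀ h, ∀ b ∈ B, act h b ∈ B) → Inv sA B → B = ⊥ ∨ B = ⊤) :
    ∀ h : H, (s ^ (p ^ n)) h = h := by
  classical
  obtain ⟨x, hxdef⟩ : ∃ x : MulAut H, x = s ^ (p ^ n) := ⟨_, rfl⟩
  have hxapp : ∀ g : H, x g = (s ^ (p ^ n)) g := fun g => by rw [hxdef]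
  rw [← hxdef] at hnil ⊢
  have hxp : x ^ p = 1 := by
    rw [hxdef, ← pow_mul, ← pow_succ]; exact hsP
  have hxs : ∀ g, s (x g) = x (s g) := by
    intro g; rw [hxdef]; exact pow_apply_comm s _ g
  have hpH : ¬ p ∣ Nat.card H := not_dvd_card_of_fpf p s (n + 1) hsP hfpf
  have hpA : ¬ p ∣ Nat.card A := not_dvd_card_of_fpf p sA (n + 1) hsAP hfpfA
  have hℓA : ℓ ∣ Nat.card A := by
    obtain ⟨a, ha⟩ := exists_ne (1 : A)
    have d1 : orderOf a ∣ ℓ := orderOf_dvd_of_pow_eq_one (hexp a)
    rcases (Nat.dvd_prime hℓp.out).mp d1 with h1 | h1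
    · exact absurd (orderOf_eq_one_iff.mp h1) ha
    · rw [← h1]; exact orderOf_dvd_natCard a
  have hpℓ : p ≠ ℓ := by
    rintro rfl
    exact hpA hℓA
  have hMn : (cx x).Normal := cx_normal x
  have hMs : Inv s (cx x) := cx_inv x s hxs
  have hMx : Inv x (cx x) := cx_inv x x (fun g => rfl)
  have hℓtriv : ∀ L : Subgroup H, L.Normal → Inv s L → IsPGroup ℓ L → L = ⊥ := by
    intro L hLn hsL hLp
    obtain ⟨B, hB⟩ : ∃ B : Subgroup A, ∀ a, a ∈ B ↔ ∀ x ∈ L, act x a = a :=
      ⟨{ carrier := {a | ∀ x ∈ L, act x a = a}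
         mul_mem' := by
           intro a b ha hb x hx
           rw [map_mul, ha x hx, hb x hx]
         one_mem' := by intro x _; rw [map_one]
         inv_mem' := by
           intro a ha x hx
           rw [map_inv, ha x hx] }, fun a => Iff.rfl⟩
    have hB1 : ∀ h, ∀ b ∈ B, act h b ∈ B := by
      intro h b hb
      rw [hB] at hb ⊢
      intro x hx
      have hx' : h⁻¹ * x * h ∈ L := by
        have := hLn.conj_mem x hx h⁻¹
        rwa [inv_inv] at this
      have e : x * h = h * (h⁻¹ * x * h) := by group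
      calc act x (act h b) = act (x * h) b := by rw [map_mul]; rfl
        _ = act (h * (h⁻¹ * x * h)) b := by rw [e]
        _ = act h (act (h⁻¹ * x * h) b) := by rw [map_mul]; rfl
        _ = act h b := by rw [hb _ hx']
    have hB2 : Inv sA B := by
      intro b hb
      rw [hB] at hb ⊢
      intro x hx
      have hx' : s⁻¹ x ∈ L := by
        rw [← Inv.apply_mem_iff hsL, MulAut.apply_inv_self]; exact hx
      have := hcs (s⁻¹ x) b
      rw [MulAut.apply_inv_self, hb _ hx'] at this
      exact this.symm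
    have hBne : B ≠ ⊥ := by
      letI : MulAction ↥L A := MulAction.compHom A (act.comp L.subtype)
      have h1 : (1 : A) ∈ MulAction.fixedPoints ↥L A := by
        intro x
        show act (x : H) 1 = 1
        rw [map_one]
      obtain ⟨b, hb, hb1⟩ := hLp.exists_fixed_point_of_prime_dvd_card_of_fixed_point A hℓA h1
      intro hbot
      apply hb1
      have hbB : b ∈ B := by
        rw [hB]
        intro x hx
        exact hb ⟨x, hx⟩
      rw [hbot, Subgroup.mem_bot] at hbB
      exact hbB.symm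
    rcases hirr B hB1 hB2 with h | h
    · exact absurd h hBne
    · rw [eq_bot_iff]
      intro x hx
      rw [Subgroup.mem_bot]
      apply hact
      rw [map_one]
      ext a
      have ha : a ∈ B := by rw [h]; exact Subgroup.mem_top a
      rw [hB] at ha
      rw [ha x hx]
      rfl
  apply eq_one_of_fix_cx p x hxp hpH
  haveI := hnil
  obtain ⟨x', hx'def⟩ : ∃ x' : MulAut ↥(cx x), x' = restrictAut x (cx x) hMx := ⟨_, rfl⟩
  obtain ⟨s', hs'def⟩ : ∃ s' : MulAut ↥(cx x), s' = restrictAut s (cx x) hMs := ⟨_, rfl⟩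
  have hx' : ∀ m : ↥(cx x), ((x' m : ↥(cx x)) : H) = x m := by
    intro m; rw [hx'def]; exact restrictAut_apply_coe x (cx x) hMx m
  have hs' : ∀ m : ↥(cx x), ((s' m : ↥(cx x)) : H) = s m := by
    intro m; rw [hs'def]; exact restrictAut_apply_coe s (cx x) hMs m
  have hs'pow : ∀ (k : ℕ) (m : ↥(cx x)), (((s' ^ k) m : ↥(cx x)) : H) = (s ^ k) m := by
    intro k m; rw [hs'def]; exact restrictAut_pow_apply_coe s (cx x) hMs k m
  have hfpf' : Fpf s' := by
    rw [hs'def]; exact Fpf.restrict hfpf (cx x) hMs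
  have htop : fix x' = ⊤ := by
    apply top_of_sylows
    intro t ht
    obtain ⟨P⟩ : Nonempty (Sylow t ↥(cx x)) := inferInstance
    refine ⟨P, ?_⟩
    obtain ⟨P₀, hP₀⟩ : ∃ P₀ : Subgroup ↥(cx x), P₀ = (P : Subgroup ↥(cx x)) := ⟨_, rfl⟩
    rw [← hP₀]
    have hP₀p : IsPGroup t ↥P₀ := by rw [hP₀]; exact P.isPGroup'
    have hQinv : ∀ ψ : MulAut H, Inv ψ (cx x) → Inv ψ (P₀.map (cx x).subtype) := by
      intro ψ hψ
      rw [hP₀]
      exact inv_sylow_of_nilpotent (cx x) hnil t P ψ hψ
    intro m hm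
    rw [mem_fix]
    by_cases htℓ : t = ℓ
    · subst htℓ
      have hQn : (P₀.map (cx x).subtype).Normal := by
        refine ⟨fun y hy g => ?_⟩
        have := hQinv (MulAut.conj g) (fun z hz => hMn.conj_mem z hz g) y hy
        rwa [MulAut.conj_apply] at this
      have hQbot := hℓtriv _ hQn (hQinv s hMs) (hP₀p.map _)
      have hPbot : P₀ = ⊥ :=
        (Subgroup.map_eq_bot_iff_of_injective _ (cx x).subtype_injective).mp hQbot
      have hm1 : m = 1 := by
        rw [hPbot] at hm
        exact Subgroup.mem_bot.mp hm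
      rw [hm1, map_one]
    · by_cases htp : t = p
      · subst htp
        have hcardtop : ¬ t ∣ Nat.card (⊤ : Subgroup ↥(cx x)) := by
          rw [Subgroup.card_top]
          intro hd
          exact hpH (dvd_trans hd (Subgroup.card_subgroup_dvd_card (cx x)))
        have hm1 : m = 1 := eq_one_of_pgroup_of_not_dvd ht.out P₀ hP₀p ⊤ hcardtop m hm
          (Subgroup.mem_top m)
        rw [hm1, map_one]
      · have hPn : (P : Subgroup ↥(cx x)).Normal := inferInstance
        haveI hPc : (P : Subgroup ↥(cx x)).Characteristic := P.characteristic_of_normal hPn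
        have hs'P : Inv s' P₀ := by
          rw [hP₀]; exact inv_of_char _ _
        have hfpf'' : Fpf (restrictAut s' P₀ hs'P) := Fpf.restrict hfpf' P₀ hs'P
        have hinj : Function.Injective ((act.comp (cx x).subtype).comp P₀.subtype) := by
          intro a b hab
          exact Subtype.ext (Subtype.ext (hact hab))
        have hcompat : ∀ (h : ↥P₀) (a : A),
            sA (((act.comp (cx x).subtype).comp P₀.subtype) h a)
              = ((act.comp (cx x).subtype).comp P₀.subtype) ((restrictAut s' P₀ hs'P) h) (sA a) := by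
          intro h a
          show sA (act (((h : ↥(cx x)) : H)) a)
            = act ((((restrictAut s' P₀ hs'P h : ↥P₀) : ↥(cx x)) : H)) (sA a)
          rw [restrictAut_apply_coe, hs', hcs]
        have key := sg_pp_act p hp2 n ℓ hpℓ t (Ne.symm htp) htℓ hP₀p hexp
          (restrictAut s' P₀ hs'P) hfpf'' ((act.comp (cx x).subtype).comp P₀.subtype) hinj sA hsAP
          hfpfA hcompat ⟨m, hm⟩
        have h1 := congrArg (fun y : ↥P₀ => (y : ↥(cx x))) key
        simp only [restrictAut_pow_apply_coe] at h1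
        apply Subtype.ext
        rw [hx', hxapp, ← hs'pow, h1]
  intro m hm
  have h1 : (⟨m, hm⟩ : ↥(cx x)) ∈ fix x' := by rw [htop]; trivial
  rw [mem_fix] at h1
  have h2 := congrArg Subtype.val h1
  rw [hx'] at h2
  exact h2

end Cfsg.Agent.Lib.Helper3.Sh
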