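import Mathlib
import Cfsg.Agent.Lib.Helper3.ShO

/-!
# Shult-type theorem, part P: the group-action version of the key lemma.
-/

set_option autoImplicit false
set_option maxHeartbeats 4000000
set_option maxRecDepth 100000
set_option linter.unusedVariables false
set_option linter.unusedSectionVars false
set_option linter.style.haveILetI false
set_option linter.deprecated false

namespace Cfsg.Agent.Lib.Helper3.Sh

open Module Cfsg.Agent.Lib.Helper8.FP4 Cfsg.Agent.Lib.Helper6.Wd Cfsg.Agent.Lib.Helper3.HHC1

universe u v w

/-- A group `H` with `S₃`-action without common fixed points, nilpotent derived group, acting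
faithfully and irreducibly (in the `S₃`-equivariant sense) on an elementary abelian `ℓ`-group,
is abelian. -/
theorem KLG (ℓ : ℕ) [hℓp : Fact ℓ.Prime] (h2ℓ : ℓ ≠ 2) (h3ℓ : ℓ ≠ 3)
    {H : Type u} [Group H] [Finite H] {A : Type v} [CommGroup A] [Finite A] [Nontrivial A]
    (hexp : ∀ a : A, a ^ ℓ = 1)
    (s r : MulAut H) (haut : Aut3 s r) (hcop : (Nat.card H).Coprime 6)
    (hfpf : ∀ g, s g = g → r g = g → g = 1)
    (act : H →* MulAut A) (hact : Function.Injective act)
    (sA rA : MulAut A) (hautA : Aut3 sA rA)
    (hcs : ∀ h a, sA (act h a) = act (s h) (sA a))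
    (hcr : ∀ h a, rA (act h a) = act (r h) (rA a))
    (hA0 : ∀ a, a * sA a * sA (sA a) * (rA a * sA (rA a) * sA (sA (rA a))) = 1)
    (hσ : ∀ h, s h = h → ∀ a, sA a = a → act h a = a)
    (hnil : Group.IsNilpotent ↥(commutator H))
    (hirr : ∀ B : Subgroup A, (∀ h, ∀ b ∈ B, act h b ∈ B) → Inv sA B → Inv rA B →
      B = ⊥ ∨ B = ⊤) :
    ∀ a b : H, a * b = b * a := by
  classical
  have instMod : Module (ZMod ℓ) (Additive A) := AddCommGroup.zmodModule (n := ℓ) (by
    intro x
    obtain ⟨a, rfl⟩ := Additive.ofMul.surjective x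
    rw [← ofMul_pow, hexp a, ofMul_one])
  haveI : Finite (Additive A) := inferInstanceAs (Finite A)
  haveI : FiniteDimensional (ZMod ℓ) (Additive A) := Module.Finite.of_finite
  obtain ⟨lin, hlin⟩ : ∃ lin : (A →* A) → Module.End (ZMod ℓ) (Additive A),
      ∀ φ a, lin φ (Additive.ofMul a) = Additive.ofMul (φ a) :=
    ⟨fun φ => (MonoidHom.toAdditive φ).toZModLinearMap ℓ, fun φ a => rfl⟩
  have hext : ∀ X Y : Module.End (ZMod ℓ) (Additive A),
      (∀ a : A, X (Additive.ofMul a) = Y (Additive.ofMul a)) → X = Y := by
    intro X Y h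
    refine LinearMap.ext (fun x => ?_)
    obtain ⟨a, rfl⟩ := Additive.ofMul.surjective x
    exact h a
  obtain ⟨ρ, hρa⟩ : ∃ ρ : Representation (ZMod ℓ) H (Additive A),
      ∀ h a, ρ h (Additive.ofMul a) = Additive.ofMul (act h a) := by
    refine ⟨{ toFun := fun h => lin (act h).toMonoidHom
              map_one' := ?_
              map_mul' := ?_ }, fun h a => hlin _ a⟩
    · apply hext
      intro a
      rw [hlin, map_one]
      rfl
    · intro g h
      apply hext
      intro a
      rw [hlin, Module.End.mul_apply, hlin, hlin, map_mul]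
      rfl
  obtain ⟨S, hS⟩ : ∃ S : Module.End (ZMod ℓ) (Additive A),
      ∀ a, S (Additive.ofMul a) = Additive.ofMul (sA a) :=
    ⟨lin sA.toMonoidHom, fun a => hlin _ a⟩
  obtain ⟨R, hR⟩ : ∃ R : Module.End (ZMod ℓ) (Additive A),
      ∀ a, R (Additive.ofMul a) = Additive.ofMul (rA a) :=
    ⟨lin rA.toMonoidHom, fun a => hlin _ a⟩
  have key0 : ∀ a : A, (Additive.ofMul a) + S (Additive.ofMul a) + S (S (Additive.ofMul a)) +
      (R (Additive.ofMul a) + S (R (Additive.ofMul a)) + S (S (R (Additive.ofMul a)))) = 0 := by
    intro a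
    rw [hS, hS, hR, hS, hS]
    exact congrArg Additive.ofMul (hA0 a)
  have hyp : Hyp3 ρ S R s r :=
    { aut := haut
      S3 := by
        apply hext; intro a
        rw [Module.End.mul_apply, Module.End.mul_apply, hS, hS, hS, hautA.s3_apply]; rfl
      R2 := by
        apply hext; intro a
        rw [Module.End.mul_apply, hR, hR, hautA.r2_apply]; rfl
      RS := by
        apply hext; intro a
        rw [Module.End.mul_apply, Module.End.mul_apply, Module.End.mul_apply, hS, hR, hR, hS, hS,
          hautA.rs_apply]
      cS := by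
        intro g
        apply hext; intro a
        rw [Module.End.mul_apply, Module.End.mul_apply, hρa, hS, hS, hρa, hcs]
      cR := by
        intro g
        apply hext; intro a
        rw [Module.End.mul_apply, Module.End.mul_apply, hρa, hR, hR, hρa, hcr]
      fpf := hfpf
      A0 := by
        apply hext; intro a
        have := key0 a
        simp only [Module.End.mul_apply, LinearMap.add_apply, Module.End.one_apply,
          LinearMap.zero_apply, map_add]
        rw [← this] }
  have hρ : Function.Injective ρ := by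
    intro g h hgh
    apply hact
    ext a
    have := congrArg (fun X : Module.End (ZMod ℓ) (Additive A) => X (Additive.ofMul a)) hgh
    simp only [hρa] at this
    exact Additive.ofMul.injective this
  have hσ' : ∀ g, s g = g → ρ g * (1 + S + S * S) = 1 + S + S * S := by
    intro g hg
    apply hext; intro a
    have hw : sA (a * sA a * sA (sA a)) = a * sA a * sA (sA a) := by
      rw [map_mul, map_mul, hautA.s3_apply, mul_comm (sA a * sA (sA a)) a, mul_assoc]
    have e : (1 + S + S * S) (Additive.ofMul a) = Additive.ofMul (a * sA a * sA (sA a)) := by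
      simp only [Module.End.mul_apply, LinearMap.add_apply, Module.End.one_apply, hS]
      rfl
    rw [Module.End.mul_apply, e, hρa, hσ g hg _ hw]
  have hℓ : ∀ L : Subgroup H, L.Normal → Inv s L → Inv r L → IsPGroup ℓ L → L = ⊥ := by
    intro L hLn hsL hrL hLp
    obtain ⟨B, hB⟩ : ∃ B : Subgroup A, ∀ a, a ∈ B ↔ ∀ x ∈ L, act x a = a :=
      ⟨{ carrier := {a | ∀ x ∈ L, act x a = a}
         mul_mem' := by
           intro a b ha hb x hx
           rw [map_mul, ha x hx, hb x hx]
         one_mem' := by intro x _; rw [map_one]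
         inv_mem' := by
           intro a ha x hx
           rw [map_inv, ha x hx] }, fun a => Iff.rfl⟩
    have hB1 : ∀ h, ∀ b ∈ B, act h b ∈ B := by
      intro h b hb
      rw [hB] at hb ⊢
      intro x hx
      have hx' : h⁻¹ * x * h ∈ L := by
        have := hLn.conj_mem x hx h⁻¹
        rwa [inv_inv] at this
      have e : x * h = h * (h⁻¹ * x * h) := by group
      calc act x (act h b) = act (x * h) b := by rw [map_mul]; rfl
        _ = act (h * (h⁻¹ * x * h)) b := by rw [e]
        _ = act h (act (h⁻¹ * x * h) b) := by rw [map_mul]; rfl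
        _ = act h b := by rw [hb _ hx']
    have hB2 : Inv sA B := by
      intro b hb
      rw [hB] at hb ⊢
      intro x hx
      have hx' : s⁻¹ x ∈ L := by
        rw [← Inv.apply_mem_iff hsL, MulAut.apply_inv_self]; exact hx
      have := hcs (s⁻¹ x) b
      rw [MulAut.apply_inv_self, hb _ hx'] at this
      exact this.symm
    have hB3 : Inv rA B := by
      intro b hb
      rw [hB] at hb ⊢
      intro x hx
      have hx' : r⁻¹ x ∈ L := by
        rw [← Inv.apply_mem_iff hrL, MulAut.apply_inv_self]; exact hx
      have := hcr (r⁻¹ x) b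
      rw [MulAut.apply_inv_self, hb _ hx'] at this
      exact this.symm
    have hdvd : ℓ ∣ Nat.card A := by
      obtain ⟨a, ha⟩ := exists_ne (1 : A)
      have d1 : orderOf a ∣ ℓ := orderOf_dvd_of_pow_eq_one (hexp a)
      rcases (Nat.dvd_prime hℓp.out).mp d1 with h1 | h1
      · exact absurd (orderOf_eq_one_iff.mp h1) ha
      · rw [← h1]; exact orderOf_dvd_natCard a
    have hBne : B ≠ ⊥ := by
      letI : MulAction ↥L A := MulAction.compHom A (act.comp L.subtype)
      have h1 : (1 : A) ∈ MulAction.fixedPoints ↥L A := by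
        intro x
        show act (x : H) 1 = 1
        rw [map_one]
      obtain ⟨b, hb, hb1⟩ := hLp.exists_fixed_point_of_prime_dvd_card_of_fixed_point A hdvd h1
      intro hbot
      apply hb1
      have hbB : b ∈ B := by
        rw [hB]
        intro x hx
        exact hb ⟨x, hx⟩
      rw [hbot, Subgroup.mem_bot] at hbB
      exact hbB.symm
    rcases hirr B hB1 hB2 hB3 with h | h
    · exact absurd h hBne
    · rw [eq_bot_iff]
      intro x hx
      rw [Subgroup.mem_bot]
      apply hact
      rw [map_one]
      ext a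
      have ha : a ∈ B := by rw [h]; exact Subgroup.mem_top a
      rw [hB] at ha
      rw [ha x hx]
      rfl
  exact KLF ℓ h2ℓ h3ℓ hyp hρ hcop hσ' hnil hℓ

end Cfsg.Agent.Lib.Helper3.Sh
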