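import Mathlib
import Cfsg.Agent.Lib.Helper3.ShP

/-!
# Shult-type theorem, part Q: the main induction.
-/

set_option autoImplicit false
set_option maxHeartbeats 4000000
set_option maxRecDepth 100000
set_option linter.unusedVariables false
set_option linter.unusedSectionVars false
set_option linter.style.haveILetI false
set_option linter.deprecated false

namespace Cfsg.Agent.Lib.Helper3.Sh

open Module Cfsg.Agent.Lib.Helper8.FP4 Cfsg.Agent.Lib.Helper6.Wd Cfsg.Agent.Lib.Helper3.HHC1

universe u v w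

section six

variable {A : Type*} [CommGroup A] {sA rA : MulAut A}

theorem six_fixed_s (h : Aut3 sA rA) (a : A) :
    sA (a * sA a * sA (sA a) * (rA a * sA (rA a) * sA (sA (rA a)))) =
      a * sA a * sA (sA a) * (rA a * sA (rA a) * sA (sA (rA a))) := by
  simp only [map_mul, h.s3_apply]
  simp only [mul_comm, mul_left_comm, mul_assoc]

theorem six_fixed_r (h : Aut3 sA rA) (a : A) :
    rA (a * sA a * sA (sA a) * (rA a * sA (rA a) * sA (sA (rA a)))) =
      a * sA a * sA (sA a) * (rA a * sA (rA a) * sA (sA (rA a))) := by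
  have e1 : rA (sA a) = sA (sA (rA a)) := h.rs_apply a
  have e2 : rA (sA (sA a)) = sA (rA a) := by
    rw [h.rs_apply, h.rs_apply, h.s3_apply]
  have e3 : rA (rA a) = a := h.r2_apply a
  have e4 : rA (sA (rA a)) = sA (sA a) := by
    rw [h.rs_apply, h.r2_apply]
  have e5 : rA (sA (sA (rA a))) = sA a := by
    rw [h.rs_apply, h.rs_apply, h.s3_apply, h.r2_apply]
  simp only [map_mul, e1, e2, e3, e4, e5]
  simp only [mul_comm, mul_left_comm, mul_assoc]

end six

section minimal

variable {G : Type u} [Group G] [Finite G] {s r : MulAut G}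

/-- normal, invariant, nontrivial -/
def NIN (s r : MulAut G) (N : Subgroup G) : Prop := N.Normal ∧ Inv s N ∧ Inv r N ∧ N ≠ ⊥

theorem exists_min_NIN [Nontrivial G] (s r : MulAut G) :
    ∃ V : Subgroup G, NIN s r V ∧ ∀ N, NIN s r N → N ≤ V → N = V := by
  have h0 : ∃ N, NIN s r N :=
    ⟨⊤, inferInstance, fun x _ => Subgroup.mem_top _, fun x _ => Subgroup.mem_top _, top_ne_bot⟩
  obtain ⟨V, hV⟩ := exists_minimal_of_wellFoundedLT (NIN s r) h0
  exact ⟨V, hV.1, fun N hN hle => le_antisymm hle (hV.2 hN hle)⟩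

theorem inv_commutator {ψ : MulAut G} (V : Subgroup G) (h : Inv ψ V) : Inv ψ ⁅V, V⁆ := by
  intro x hx
  have h1 : (⁅V, V⁆).map ψ.toMonoidHom ≤ ⁅V, V⁆ := by
    rw [Subgroup.map_commutator]
    have h2 : V.map ψ.toMonoidHom ≤ V := by
      rintro _ ⟨y, hy, rfl⟩
      exact h y hy
    exact Subgroup.commutator_mono h2 h2
  exact h1 ⟨x, hx, rfl⟩

theorem min_comm [Group.IsSolvable G] (V : Subgroup G) (hV : NIN s r V)
    (hmin : ∀ N, NIN s r N → N ≤ V → N = V) : ∀ a ∈ V, ∀ b ∈ V, a * b = b * a := by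
  haveI := hV.1
  have hle : ⁅V, V⁆ ≤ V := Subgroup.commutator_le_right V V
  have hlt : ⁅V, V⁆ < V := IsSolvable.commutator_lt_of_ne_bot hV.2.2.2
  have hbot : ⁅V, V⁆ = ⊥ := by
    by_contra hne
    have hN : NIN s r ⁅V, V⁆ :=
      ⟨inferInstance, inv_commutator V hV.2.1, inv_commutator V hV.2.2.1, hne⟩
    have := hmin _ hN hle
    exact absurd this (ne_of_lt hlt)
  have hcent := Subgroup.commutator_eq_bot_iff_le_centralizer.mp hbot
  intro a ha b hb
  exact Subgroup.mem_centralizer_iff.mp (hcent hb) a ha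

theorem min_exp (V : Subgroup G) (hV : NIN s r V)
    (hmin : ∀ N, NIN s r N → N ≤ V → N = V) (hVc : ∀ a ∈ V, ∀ b ∈ V, a * b = b * a) :
    ∃ ℓ : ℕ, ℓ.Prime ∧ ℓ ∣ Nat.card V ∧ ∀ v ∈ V, v ^ ℓ = 1 := by
  haveI hVn := hV.1
  have hcard : Nat.card V ≠ 1 := fun h => hV.2.2.2 (Subgroup.eq_bot_of_card_eq _ h)
  obtain ⟨ℓ, hℓ, hdvd⟩ := Nat.exists_prime_and_dvd hcard
  haveI := Fact.mk hℓ
  refine ⟨ℓ, hℓ, hdvd, ?_⟩
  obtain ⟨N, hN⟩ : ∃ N : Subgroup G, ∀ v, v ∈ N ↔ v ∈ V ∧ v ^ ℓ = 1 :=
    ⟨{ carrier := {v | v ∈ V ∧ v ^ ℓ = 1}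
       mul_mem' := by
         rintro a b ⟨ha, ha1⟩ ⟨hb, hb1⟩
         refine ⟨V.mul_mem ha hb, ?_⟩
         rw [(show Commute a b from hVc a ha b hb).mul_pow, ha1, hb1, one_mul]
       one_mem' := ⟨V.one_mem, one_pow _⟩
       inv_mem' := by
         rintro a ⟨ha, ha1⟩
         exact ⟨V.inv_mem ha, by rw [inv_pow, ha1, inv_one]⟩ }, fun v => Iff.rfl⟩
  have hNV : N ≤ V := fun v hv => ((hN v).mp hv).1
  have hNN : NIN s r N := by
    refine ⟨⟨fun x hx g => ?_⟩, ?_, ?_, ?_⟩
    · rw [hN] at hx ⊢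
      refine ⟨hVn.conj_mem x hx.1 g, ?_⟩
      rw [conj_pow, hx.2, mul_one, mul_inv_cancel]
    · intro x hx
      rw [hN] at hx ⊢
      exact ⟨hV.2.1 x hx.1, by rw [← map_pow, hx.2, map_one]⟩
    · intro x hx
      rw [hN] at hx ⊢
      exact ⟨hV.2.2.1 x hx.1, by rw [← map_pow, hx.2, map_one]⟩
    · obtain ⟨x, hx⟩ := exists_prime_orderOf_dvd_card' (G := ↥V) ℓ hdvd
      intro hbot
      have hxN : (x : G) ∈ N := by
        rw [hN]
        refine ⟨x.2, ?_⟩
        have := pow_orderOf_eq_one x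
        rw [hx] at this
        have h2 := congrArg Subtype.val this
        simpa using h2
      rw [hbot, Subgroup.mem_bot] at hxN
      have hx1 : x = 1 := Subtype.ext hxN
      rw [hx1, orderOf_one] at hx
      exact hℓ.one_lt.ne hx
  have := hmin N hNN hNV
  intro v hv
  rw [← this] at hv
  exact ((hN v).mp hv).2

theorem quot_P3 (haut : Aut3 s r) (hcop : (Nat.card G).Coprime 6)
    (hfpf : ∀ g, s g = g → r g = g → g = 1) (N : Subgroup G) [N.Normal] (hs : Inv s N)
    (hr : Inv r N) :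
    Aut3 (quotAut s N hs) (quotAut r N hr) ∧ (Nat.card (G ⧸ N)).Coprime 6 ∧
      (∀ x : G ⧸ N, quotAut s N hs x = x → quotAut r N hr x = x → x = 1) := by
  refine ⟨haut.quot N hs hr, ?_, ?_⟩
  · exact Nat.Coprime.coprime_dvd_left (Subgroup.card_quotient_dvd_card N) hcop
  · intro x
    refine QuotientGroup.induction_on x (fun g => ?_)
    intro h1 h2
    rw [quotAut_mk] at h1 h2
    have e1 : g⁻¹ * s g ∈ N := QuotientGroup.eq.mp h1.symm
    have e2 : g⁻¹ * r g ∈ N := QuotientGroup.eq.mp h2.symm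
    exact (QuotientGroup.eq_one_iff g).mpr (lift2 haut hcop hfpf N hs hr g e1 e2)

/-- The derived group centralises a minimal normal invariant subgroup, provided the derived
group of the quotient by the centraliser is nilpotent. -/
theorem key_step (haut : Aut3 s r) (hcop : (Nat.card G).Coprime 6)
    (hfpf : ∀ g, s g = g → r g = g → g = 1)
    (V : Subgroup G) [hVn : V.Normal] (hsV : Inv s V) (hrV : Inv r V) (hVne : V ≠ ⊥)
    (hmin : ∀ N : Subgroup G, NIN s r N → N ≤ V → N = V)
    (hVc : ∀ a ∈ V, ∀ b ∈ V, a * b = b * a) (ℓ : ℕ) [hℓp : Fact ℓ.Prime]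
    (hℓ : ℓ ∣ Nat.card V) (hexp : ∀ v ∈ V, v ^ ℓ = 1)
    (C : Subgroup G) [hCn : C.Normal] (hC : ∀ g, g ∈ C ↔ ∀ v ∈ V, g * v * g⁻¹ = v)
    (hsC : Inv s C) (hrC : Inv r C)
    (hnil : Group.IsNilpotent ↥(commutator (G ⧸ C))) :
    ∀ a b : G, a * b * a⁻¹ * b⁻¹ ∈ C := by
  classical
  haveI : Fact (Nat.Prime 3) := ⟨by norm_num⟩
  letI : CommGroup ↥V :=
    { (inferInstance : Group ↥V) with
      mul_comm := fun a b => Subtype.ext (hVc a a.2 b b.2) }
  haveI : Nontrivial ↥V := (Subgroup.nontrivial_iff_ne_bot V).mpr hVne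
  obtain ⟨act₀, hact₀⟩ : ∃ act₀ : G →* MulAut ↥V,
      ∀ g (v : ↥V), ((act₀ g v : ↥V) : G) = g * v * g⁻¹ :=
    ⟨MulAut.conjNormal, fun g v => MulAut.conjNormal_apply g v⟩
  have hker : C ≤ act₀.ker := by
    intro g hg
    rw [MonoidHom.mem_ker]
    ext v
    rw [hact₀]
    exact (hC g).mp hg v v.2
  obtain ⟨act, hact⟩ : ∃ act : G ⧸ C →* MulAut ↥V, ∀ g : G, act (g : G ⧸ C) = act₀ g :=
    ⟨QuotientGroup.lift C act₀ hker, fun g => QuotientGroup.lift_mk _ _ g⟩
  have hinj : Function.Injective act := by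
    rw [injective_iff_map_eq_one]
    intro x
    refine QuotientGroup.induction_on x (fun g => ?_)
    intro hg
    rw [hact] at hg
    rw [QuotientGroup.eq_one_iff, hC]
    intro v hv
    have := congrArg (fun φ : MulAut ↥V => ((φ ⟨v, hv⟩ : ↥V) : G)) hg
    simp only [hact₀, MulAut.one_apply] at this
    exact this
  obtain ⟨sA, rA, hautA, hsA, hrA⟩ : ∃ sA rA : MulAut ↥V, Aut3 sA rA ∧
      (∀ v : ↥V, ((sA v : ↥V) : G) = s v) ∧ (∀ v : ↥V, ((rA v : ↥V) : G) = r v) :=
    ⟨restrictAut s V hsV, restrictAut r V hrV, haut.restrict V hsV hrV, fun v => rfl,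
      fun v => rfl⟩
  obtain ⟨hautq, hcopq, hfpfq⟩ := quot_P3 haut hcop hfpf C hsC hrC
  have h3C : ¬ 3 ∣ Nat.card C := not_dvd_card_of_coprime hcop C 3 (by norm_num) (by norm_num)
  have hℓG : ℓ ∣ Nat.card G := dvd_trans hℓ (Subgroup.card_subgroup_dvd_card V)
  have hℓ5 : 5 ≤ ℓ := five_le_of_prime_dvd hℓp.out hℓG hcop
  have hab : ∀ x y : G ⧸ C, x * y = y * x := by
    refine KLG ℓ (by omega) (by omega) (A := ↥V) ?_ (quotAut s C hsC) (quotAut r C hrC) hautq
      hcopq hfpfq act hinj sA rA hautA ?_ ?_ ?_ ?_ hnil ?_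
    · intro a
      apply Subtype.ext
      have := hexp a a.2
      simpa using this
    · intro h a
      refine QuotientGroup.induction_on h (fun g => ?_)
      rw [quotAut_mk, hact, hact]
      apply Subtype.ext
      rw [hsA, hact₀, hact₀, hsA, map_mul, map_mul, map_inv]
    · intro h a
      refine QuotientGroup.induction_on h (fun g => ?_)
      rw [quotAut_mk, hact, hact]
      apply Subtype.ext
      rw [hrA, hact₀, hact₀, hrA, map_mul, map_mul, map_inv]
    · intro a
      have h1 := six_fixed_s hautA a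
      have h2 := six_fixed_r hautA a
      have h3 := hfpf _ (by rw [← hsA, h1]) (by rw [← hrA, h2])
      exact Subtype.ext h3
    · intro h
      refine QuotientGroup.induction_on h (fun g => ?_)
      intro hfix a ha
      rw [quotAut_mk] at hfix
      have hg : g⁻¹ * s g ∈ C := QuotientGroup.eq.mp hfix.symm
      obtain ⟨n, hn, hfixn⟩ := exists_fixed_in_coset (p := 3) s haut.s3 C hsC h3C g hg
      rw [hact]
      apply Subtype.ext
      rw [hact₀]
      have hsa : s (a : G) = a := by rw [← hsA, ha]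
      have h1 : (g * n) * (a : G) = a * (g * n) := fix_s_comm haut hfpf _ _ hfixn hsa
      have h2 : n * (a : G) * n⁻¹ = a := (hC n).mp hn a a.2
      calc g * (a : G) * g⁻¹ = g * (n * a * n⁻¹) * g⁻¹ := by rw [h2]
        _ = ((g * n) * a) * (g * n)⁻¹ := by group
        _ = (a : G) := by rw [h1, mul_inv_cancel_right]
    · intro B hB1 hB2 hB3
      by_cases hBbot : B = ⊥
      · exact Or.inl hBbot
      right
      have hN : NIN s r (B.map V.subtype) := by
        refine ⟨⟨fun x hx g => ?_⟩, ?_, ?_, ?_⟩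
        · obtain ⟨b, hb, rfl⟩ := hx
          refine ⟨act₀ g b, ?_, ?_⟩
          · have := hB1 (g : G ⧸ C) b hb
            rw [hact] at this
            exact this
          · exact hact₀ g b
        · rintro _ ⟨b, hb, rfl⟩
          exact ⟨sA b, hB2 b hb, hsA b⟩
        · rintro _ ⟨b, hb, rfl⟩
          exact ⟨rA b, hB3 b hb, hrA b⟩
        · intro h
          exact hBbot ((Subgroup.map_eq_bot_iff_of_injective _ V.subtype_injective).mp h)
      have hle : B.map V.subtype ≤ V := Subgroup.map_subtype_le _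
      have heq := hmin _ hN hle
      rw [eq_top_iff]
      intro v _
      have hv : (v : G) ∈ B.map V.subtype := by rw [heq]; exact v.2
      obtain ⟨b, hb, hbv⟩ := hv
      have : b = v := Subtype.ext hbv
      rw [← this]; exact hb
  intro a b
  rw [← QuotientGroup.eq_one_iff]
  have e : ((a * b * a⁻¹ * b⁻¹ : G) : G ⧸ C) =
      (a : G ⧸ C) * (b : G ⧸ C) * (a : G ⧸ C)⁻¹ * (b : G ⧸ C)⁻¹ := rfl
  rw [e, hab (a : G ⧸ C) (b : G ⧸ C)]
  group

end minimal

section main

theorem shult_main : ∀ (n : ℕ) (G : Type u) [Group G] [Finite G] [Group.IsSolvable G]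
    (s r : MulAut G), Nat.card G = n → (Nat.card G).Coprime 6 → Aut3 s r →
    (∀ g, s g = g → r g = g → g = 1) → Group.IsNilpotent ↥(commutator G) := by
  intro n
  induction n using Nat.strong_induction_on with
  | _ n IH =>
    intro G _ _ _ s r hn hcop haut hfpf
    rcases subsingleton_or_nontrivial G with hsub | hnt
    · infer_instance
    obtain ⟨V, hV, hmin⟩ := exists_min_NIN s r
    haveI hVn : V.Normal := hV.1
    have hsV := hV.2.1
    have hrV := hV.2.2.1
    have hVne := hV.2.2.2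
    have hVc := min_comm V hV hmin
    obtain ⟨ℓ, hℓ, hℓdvd, hexp⟩ := min_exp V hV hmin hVc
    haveI := Fact.mk hℓ
    -- the quotient by `V`
    obtain ⟨hautV, hcopV, hfpfV⟩ := quot_P3 haut hcop hfpf V hsV hrV
    have hltV : Nat.card (G ⧸ V) < n := by rw [← hn]; exact card_quot_lt' V hVne
    have hnilV : Group.IsNilpotent ↥(commutator (G ⧸ V)) :=
      IH _ hltV (G ⧸ V) (quotAut s V hsV) (quotAut r V hrV) rfl hcopV hautV hfpfV
    -- the centraliser of `V`
    obtain ⟨C, hCn, hC⟩ : ∃ C : Subgroup G, C.Normal ∧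
        ∀ g, g ∈ C ↔ ∀ v ∈ V, g * v * g⁻¹ = v := by
      refine ⟨(MulAut.conjNormal : G →* MulAut ↥V).ker, inferInstance, fun g => ?_⟩
      rw [MonoidHom.mem_ker]
      constructor
      · intro h v hv
        have := congrArg (fun φ : MulAut ↥V => ((φ ⟨v, hv⟩ : ↥V) : G)) h
        simpa using this
      · intro h
        ext v
        rw [MulAut.conjNormal_apply]
        exact h v v.2
    haveI := hCn
    have hinvC : ∀ ψ : MulAut G, Inv ψ V → Inv ψ C := by
      intro ψ hψ g hg
      rw [hC] at hg ⊢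
      intro v hv
      have hv' : ψ⁻¹ v ∈ V := by
        rw [← Inv.apply_mem_iff hψ, MulAut.apply_inv_self]; exact hv
      have := congrArg ψ (hg _ hv')
      rw [map_mul, map_mul, map_inv, MulAut.apply_inv_self] at this
      exact this
    have hsC := hinvC s hsV
    have hrC := hinvC r hrV
    have hVC : V ≤ C := by
      intro g hg
      rw [hC]
      intro v hv
      rw [hVc g hg v hv, mul_inv_cancel_right]
    have hCne : C ≠ ⊥ := by
      intro h
      rw [h, le_bot_iff] at hVC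
      exact hVne hVC
    obtain ⟨hautC, hcopC, hfpfC⟩ := quot_P3 haut hcop hfpf C hsC hrC
    have hltC : Nat.card (G ⧸ C) < n := by rw [← hn]; exact card_quot_lt' C hCne
    have hnilC : Group.IsNilpotent ↥(commutator (G ⧸ C)) :=
      IH _ hltC (G ⧸ C) (quotAut s C hsC) (quotAut r C hrC) rfl hcopC hautC hfpfC
    have hkey := key_step haut hcop hfpf V hsV hrV hVne hmin hVc ℓ hℓdvd hexp C hC hsC hrC hnilC
    have hcomC : commutator G ≤ C := by
      rw [commutator_def, Subgroup.commutator_le]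
      intro a _ b _
      rw [commutatorElement_def]
      exact hkey a b
    -- conclusion
    have hmapc : ∀ x ∈ commutator G, ((x : G) : G ⧸ V) ∈ commutator (G ⧸ V) := by
      intro x hx
      have h1 : (commutator G).map (QuotientGroup.mk' V) ≤ commutator (G ⧸ V) := by
        rw [commutator_def, commutator_def, Subgroup.map_commutator]
        exact Subgroup.commutator_mono le_top le_top
      exact h1 ⟨x, hx, rfl⟩
    obtain ⟨f, hf⟩ : ∃ f : ↥(commutator G) →* ↥(commutator (G ⧸ V)),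
        ∀ x, ((f x : ↥(commutator (G ⧸ V))) : G ⧸ V) = ((x : G) : G ⧸ V) :=
      ⟨((QuotientGroup.mk' V).comp (commutator G).subtype).codRestrict _
        (fun x => hmapc x x.2), fun x => rfl⟩
    haveI := hnilV
    refine Subgroup.isNilpotent_of_ker_le_center f ?_
    intro x hx
    rw [MonoidHom.mem_ker] at hx
    have hxV : (x : G) ∈ V := by
      have := congrArg Subtype.val hx
      rw [hf] at this
      exact (QuotientGroup.eq_one_iff _).mp this
    rw [Subgroup.mem_center_iff]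
    intro y
    apply Subtype.ext
    have hyC : (y : G) ∈ C := hcomC y.2
    have := (hC y).mp hyC x hxV
    show (y : G) * x = x * y
    calc (y : G) * x = (y * x * (y : G)⁻¹) * y := by group
      _ = x * y := by rw [this]

end main

end Cfsg.Agent.Lib.Helper3.Sh
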