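import Mathlib
import Cfsg.Agent.Lib.Helper3.SgB
import Cfsg.Agent.Lib.Helper3.SgE
import Cfsg.Agent.Lib.Helper3.GrU
import Cfsg.Agent.Lib.Helper3.ShQ

/-!
# Gross, part V: if `s` is a fixed-point-free automorphism of order dividing `2 ^ (n + 1)` of a
finite solvable group `G` and no prime `t` satisfies `t + 1 = 2 ^ m` with `2 ≤ m ≤ n`, then
`[G, s ^ (2 ^ n)]` is nilpotent.  In particular this holds for `n = 1`.
-/

set_option autoImplicit false
set_option maxHeartbeats 4000000
set_option maxRecDepth 100000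
set_option linter.unusedVariables false
set_option linter.unusedSectionVars false
set_option linter.style.haveILetI false
set_option linter.deprecated false

namespace Cfsg.Agent.Lib.Helper3.Sh

open Module Cfsg.Agent.Lib.Helper8.FP4 Cfsg.Agent.Lib.Helper6.Wd Cfsg.Agent.Lib.Helper3.HHC1

universe u v

section step

variable {G : Type u} [Group G] [Finite G]

theorem sg_key_step_two (n : ℕ)
    (hexc : ∀ t : ℕ, t.Prime → ∀ m, 2 ≤ m → m ≤ n → t + 1 ≠ 2 ^ m) (s : MulAut G)
    (hsP : s ^ (2 ^ (n + 1)) = 1) (hfpf : ∀ g, s g = g → g = 1)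
    (V : Subgroup G) [hVn : V.Normal] (hsV : Inv s V) (hVne : V ≠ ⊥)
    (hmin : ∀ N : Subgroup G, NIN s s N → N ≤ V → N = V)
    (hVc : ∀ a ∈ V, ∀ b ∈ V, a * b = b * a) (ℓ : ℕ) [hℓp : Fact ℓ.Prime]
    (hexp : ∀ v ∈ V, v ^ ℓ = 1)
    (C : Subgroup G) [hCn : C.Normal] (hC : ∀ g, g ∈ C ↔ ∀ v ∈ V, g * v * g⁻¹ = v)
    (hsC : Inv s C)
    (hnil : Group.IsNilpotent ↥(cx ((quotAut s C hsC) ^ (2 ^ n)))) :
    ∀ g : G, g⁻¹ * (s ^ (2 ^ n)) g ∈ C := by
  classical
  letI : CommGroup ↥V :=
    { (inferInstance : Group ↥V) with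
      mul_comm := fun a b => Subtype.ext (hVc a a.2 b b.2) }
  haveI : Nontrivial ↥V := (Subgroup.nontrivial_iff_ne_bot V).mpr hVne
  obtain ⟨act₀, hact₀⟩ : ∃ act₀ : G →* MulAut ↥V,
      ∀ g (v : ↥V), ((act₀ g v : ↥V) : G) = g * v * g⁻¹ :=
    ⟨MulAut.conjNormal, fun g v => MulAut.conjNormal_apply g v⟩
  have hker : C ≤ act₀.ker := by
    intro g hg
    rw [MonoidHom.mem_ker]
    ext v
    rw [hact₀]
    exact (hC g).mp hg v v.2
  obtain ⟨act, hact⟩ : ∃ act : G ⧸ C →* MulAut ↥V, ∀ g : G, act (g : G ⧸ C) = act₀ g :=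
    ⟨QuotientGroup.lift C act₀ hker, fun g => QuotientGroup.lift_mk _ _ g⟩
  have hinj : Function.Injective act := by
    rw [injective_iff_map_eq_one]
    intro x
    refine QuotientGroup.induction_on x (fun g => ?_)
    intro hg
    rw [hact] at hg
    rw [QuotientGroup.eq_one_iff, hC]
    intro v hv
    have := congrArg (fun φ : MulAut ↥V => ((φ ⟨v, hv⟩ : ↥V) : G)) hg
    simp only [hact₀, MulAut.one_apply] at this
    exact this
  obtain ⟨sA, hsAdef, hsA⟩ : ∃ sA : MulAut ↥V, sA = restrictAut s V hsV ∧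
      (∀ v : ↥V, ((sA v : ↥V) : G) = s v) :=
    ⟨restrictAut s V hsV, rfl, fun v => rfl⟩
  have hsAP : sA ^ (2 ^ (n + 1)) = 1 := by
    rw [hsAdef]; exact restrictAut_pow_eq_one s V hsV _ hsP
  have hfpfA : ∀ a, sA a = a → a = 1 := by
    rw [hsAdef]; exact Fpf.restrict hfpf V hsV
  have hsPC : (quotAut s C hsC) ^ (2 ^ (n + 1)) = 1 := quotAut_pow_eq_one s C hsC _ hsP
  have hfpfC : ∀ g, quotAut s C hsC g = g → g = 1 := Fpf.quot hfpf C hsC
  have hkey : ∀ h : G ⧸ C, ((quotAut s C hsC) ^ (2 ^ n)) h = h := by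
    refine sgKLG_two n hexc ℓ (A := ↥V) ?_ (quotAut s C hsC) hsPC hfpfC act hinj sA hsAP hfpfA ?_
      hnil ?_
    · intro a
      apply Subtype.ext
      have := hexp a a.2
      simpa using this
    · intro h a
      refine QuotientGroup.induction_on h (fun g => ?_)
      rw [quotAut_mk, hact, hact]
      apply Subtype.ext
      rw [hsA, hact₀, hact₀, hsA, map_mul, map_mul, map_inv]
    · intro B hB1 hB2
      by_cases hBbot : B = ⊥
      · exact Or.inl hBbot
      right
      have hinvB : Inv s (B.map V.subtype) := by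
        rintro _ ⟨b, hb, rfl⟩
        exact ⟨sA b, hB2 b hb, hsA b⟩
      have hN : NIN s s (B.map V.subtype) := by
        refine ⟨⟨fun x hx g => ?_⟩, hinvB, hinvB, ?_⟩
        · obtain ⟨b, hb, rfl⟩ := hx
          refine ⟨act₀ g b, ?_, ?_⟩
          · have := hB1 (g : G ⧸ C) b hb
            rw [hact] at this
            exact this
          · exact hact₀ g b
        · intro h
          exact hBbot ((Subgroup.map_eq_bot_iff_of_injective _ V.subtype_injective).mp h)
      have hle : B.map V.subtype ≤ V := Subgroup.map_subtype_le _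
      have heq := hmin _ hN hle
      rw [eq_top_iff]
      intro v _
      have hv : (v : G) ∈ B.map V.subtype := by rw [heq]; exact v.2
      obtain ⟨b, hb, hbv⟩ := hv
      have : b = v := Subtype.ext hbv
      rw [← this]; exact hb
  intro g
  have := hkey (g : G ⧸ C)
  rw [quotAut_pow_mk] at this
  exact QuotientGroup.eq.mp this.symm

end step

theorem sg_key_two (n : ℕ) (hexc : ∀ t : ℕ, t.Prime → ∀ m, 2 ≤ m → m ≤ n → t + 1 ≠ 2 ^ m) :
    ∀ (m : ℕ) (G : Type u) [Group G] [Finite G] [Group.IsSolvable G] (s : MulAut G),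
      Nat.card G = m → s ^ (2 ^ (n + 1)) = 1 → (∀ g, s g = g → g = 1) →
      Group.IsNilpotent ↥(cx (s ^ (2 ^ n))) := by
  intro m
  induction m using Nat.strong_induction_on with
  | _ m IH =>
    intro G _ _ _ s hm hsP hfpf
    rcases subsingleton_or_nontrivial G with hsub | hnt
    · infer_instance
    obtain ⟨V, hV, hmin⟩ := exists_min_NIN s s
    haveI hVn : V.Normal := hV.1
    have hsV := hV.2.1
    have hVne := hV.2.2.2
    have hVc := min_comm V hV hmin
    obtain ⟨ℓ, hℓ, hℓdvd, hexp⟩ := min_exp V hV hmin hVc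
    haveI := Fact.mk hℓ
    -- the quotient by `V`
    have hfpfV : ∀ g, quotAut s V hsV g = g → g = 1 := Fpf.quot hfpf V hsV
    have hsPV : (quotAut s V hsV) ^ (2 ^ (n + 1)) = 1 := quotAut_pow_eq_one s V hsV _ hsP
    have hltV : Nat.card (G ⧸ V) < m := by rw [← hm]; exact card_quot_lt' V hVne
    have hnilV : Group.IsNilpotent ↥(cx ((quotAut s V hsV) ^ (2 ^ n))) :=
      IH _ hltV (G ⧸ V) (quotAut s V hsV) rfl hsPV hfpfV
    -- the centraliser of `V`
    obtain ⟨C, hCn, hC⟩ : ∃ C : Subgroup G, C.Normal ∧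
        ∀ g, g ∈ C ↔ ∀ v ∈ V, g * v * g⁻¹ = v := by
      refine ⟨(MulAut.conjNormal : G →* MulAut ↥V).ker, inferInstance, fun g => ?_⟩
      rw [MonoidHom.mem_ker]
      constructor
      · intro h v hv
        have := congrArg (fun φ : MulAut ↥V => ((φ ⟨v, hv⟩ : ↥V) : G)) h
        simpa using this
      · intro h
        ext v
        rw [MulAut.conjNormal_apply]
        exact h v v.2
    haveI := hCn
    have hsC : Inv s C := by
      intro g hg
      rw [hC] at hg ⊢
      intro v hv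
      have hv' : s⁻¹ v ∈ V := by
        rw [← Inv.apply_mem_iff hsV, MulAut.apply_inv_self]; exact hv
      have := congrArg s (hg _ hv')
      rw [map_mul, map_mul, map_inv, MulAut.apply_inv_self] at this
      exact this
    have hVC : V ≤ C := by
      intro g hg
      rw [hC]
      intro v hv
      rw [hVc g hg v hv, mul_inv_cancel_right]
    have hCne : C ≠ ⊥ := by
      intro h
      rw [h, le_bot_iff] at hVC
      exact hVne hVC
    have hfpfC : ∀ g, quotAut s C hsC g = g → g = 1 := Fpf.quot hfpf C hsC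
    have hsPC : (quotAut s C hsC) ^ (2 ^ (n + 1)) = 1 := quotAut_pow_eq_one s C hsC _ hsP
    have hltC : Nat.card (G ⧸ C) < m := by rw [← hm]; exact card_quot_lt' C hCne
    have hnilC : Group.IsNilpotent ↥(cx ((quotAut s C hsC) ^ (2 ^ n))) :=
      IH _ hltC (G ⧸ C) (quotAut s C hsC) rfl hsPC hfpfC
    have hkey := sg_key_step_two n hexc s hsP hfpf V hsV hVne hmin hVc ℓ hexp C hC hsC hnilC
    have hxC : cx (s ^ (2 ^ n)) ≤ C := cx_le hkey
    -- conclusion
    have hmapc : ∀ y ∈ cx (s ^ (2 ^ n)),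
        ((y : G) : G ⧸ V) ∈ cx ((quotAut s V hsV) ^ (2 ^ n)) := by
      intro y hy
      have h1 := cx_map_le' (s ^ (2 ^ n)) V ((quotAut s V hsV) ^ (2 ^ n))
        (fun g => quotAut_pow_mk s V hsV (2 ^ n) g)
      exact h1 ⟨y, hy, rfl⟩
    obtain ⟨f, hf⟩ : ∃ f : ↥(cx (s ^ (2 ^ n))) →* ↥(cx ((quotAut s V hsV) ^ (2 ^ n))),
        ∀ y, ((f y : ↥(cx ((quotAut s V hsV) ^ (2 ^ n)))) : G ⧸ V) = ((y : G) : G ⧸ V) :=
      ⟨((QuotientGroup.mk' V).comp (cx (s ^ (2 ^ n))).subtype).codRestrict _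
        (fun y => hmapc y y.2), fun y => rfl⟩
    haveI := hnilV
    refine Subgroup.isNilpotent_of_ker_le_center f ?_
    intro y hy
    rw [MonoidHom.mem_ker] at hy
    have hyV : (y : G) ∈ V := by
      have := congrArg Subtype.val hy
      rw [hf] at this
      exact (QuotientGroup.eq_one_iff _).mp this
    rw [Subgroup.mem_center_iff]
    intro z
    apply Subtype.ext
    have hzC : (z : G) ∈ C := hxC z.2
    have := (hC z).mp hzC y hyV
    show (z : G) * y = y * z
    calc (z : G) * y = (z * y * (z : G)⁻¹) * z := by group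
      _ = y * z := by rw [this]


/-- The case of an automorphism of order dividing four. -/
theorem sg_key_four (G : Type u) [Group G] [Finite G] [Group.IsSolvable G] (s : MulAut G)
    (hs4 : s ^ 4 = 1) (hfpf : ∀ g, s g = g → g = 1) : Group.IsNilpotent ↥(cx (s ^ 2)) := by
  have h := sg_key_two 1 (fun t _ m h1 h2 => by omega) (Nat.card G) G s rfl (by simpa using hs4) hfpf
  simpa using h

end Cfsg.Agent.Lib.Helper3.Sh
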