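import Mathlib
import Cfsg.Agent.Lib.Helper3.GrN
import Cfsg.Agent.Lib.Helper6.WdB

/-!
# Gross, part W: general lemmas on finite groups used in the key lemma for the prime two
(normal closures of sets of `u`-elements, groups generated by normal subgroups of prime power
order).
-/

set_option autoImplicit false
set_option maxHeartbeats 4000000
set_option maxRecDepth 100000
set_option linter.unusedVariables false
set_option linter.unusedSectionVars false
set_option linter.style.haveILetI false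
set_option linter.deprecated false

namespace Cfsg.Agent.Lib.Helper3.Sh

open Cfsg.Agent.Lib.Helper8.FP4 Cfsg.Agent.Lib.Helper6.Wd

universe u v w

/-- A normal Sylow subgroup contains every element of prime power order. -/
theorem mem_normal_sylow {G : Type*} [Group G] [Finite G] (u : ℕ) [hu : Fact u.Prime]
    (P : Sylow u G) (hP : (P : Subgroup G).Normal) (x : G) (k : ℕ) (hx : x ^ (u ^ k) = 1) :
    x ∈ (P : Subgroup G) := by
  have hz : IsPGroup u ↥(Subgroup.zpowers x) := by
    obtain ⟨j, _, hj⟩ := (Nat.dvd_prime_pow hu.out).mp (orderOf_dvd_of_pow_eq_one hx)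
    apply IsPGroup.of_card (n := j)
    rw [Nat.card_zpowers, hj]
  obtain ⟨Q, hQ⟩ := hz.exists_le_sylow
  obtain ⟨g, hg⟩ := MulAction.exists_smul_eq G P Q
  haveI := hP
  rw [Sylow.smul_eq_of_normal] at hg
  rw [hg]
  exact hQ (Subgroup.mem_zpowers x)

/-- The normal closure of a set of `u`-elements is a `u`-group as soon as a `u`-power of each of
its elements is central in it. -/
theorem isPGroup_normalClosure {H : Type*} [Group H] [Finite H] (u : ℕ) [hu : Fact u.Prime]
    (I : Set H) (hI : ∀ x ∈ I, ∃ k : ℕ, x ^ (u ^ k) = 1)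
    (hc : ∀ y ∈ Subgroup.normalClosure I, ∃ a : ℕ, ∀ z ∈ Subgroup.normalClosure I,
      y ^ (u ^ a) * z = z * y ^ (u ^ a)) :
    IsPGroup u ↥(Subgroup.normalClosure I) := by
  obtain ⟨N, hNdef⟩ : ∃ N : Subgroup H, N = Subgroup.normalClosure I := ⟨_, rfl⟩
  rw [← hNdef] at hc ⊢
  haveI hNn : N.Normal := by rw [hNdef]; exact Subgroup.normalClosure_normal
  have hq : IsPGroup u (↥N ⧸ Subgroup.center ↥N) := by
    intro c
    refine QuotientGroup.induction_on c (fun y => ?_)
    obtain ⟨a, ha⟩ := hc y y.2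
    refine ⟨a, ?_⟩
    rw [← QuotientGroup.mk_pow, QuotientGroup.eq_one_iff, Subgroup.mem_center_iff]
    intro z
    apply Subtype.ext
    exact (ha z z.2).symm
  haveI : Group.IsNilpotent (↥N ⧸ Subgroup.center ↥N) := hq.isNilpotent
  have hnil : Group.IsNilpotent ↥N := Group.of_quotient_center_nilpotent inferInstance
  haveI := hnil
  obtain ⟨P⟩ : Nonempty (Sylow u ↥N) := inferInstance
  have hPn : (P : Subgroup ↥N).Normal := inferInstance
  have hchar : ∀ α : MulAut ↥N, ∀ p ∈ (P : Subgroup ↥N), α p ∈ (P : Subgroup ↥N) := by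
    haveI hPc : (P : Subgroup ↥N).Characteristic := P.characteristic_of_normal hPn
    exact fun α => inv_of_char _ α
  have hQn : ((P : Subgroup ↥N).map N.subtype).Normal := char_map_normal N _ hchar
  have hIP : I ⊆ (((P : Subgroup ↥N).map N.subtype : Subgroup H) : Set H) := by
    intro x hx
    have hxN : x ∈ N := by rw [hNdef]; exact Subgroup.subset_normalClosure hx
    obtain ⟨k, hk⟩ := hI x hx
    have h1 : (⟨x, hxN⟩ : ↥N) ∈ (P : Subgroup ↥N) :=
      mem_normal_sylow u P hPn _ k (Subtype.ext (by simpa using hk))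
    exact ⟨_, h1, rfl⟩
  have hle : N ≤ (P : Subgroup ↥N).map N.subtype := by
    have h1 : Subgroup.normalClosure I ≤ (P : Subgroup ↥N).map N.subtype :=
      Subgroup.normalClosure_le_normal hIP
    exact hNdef.le.trans h1
  exact (P.isPGroup'.map N.subtype).to_le hle

/-- If `M / F` is nilpotent, then every element of the normal closure of a set of `u`-elements of
`M` has a `u`-power in `F`. -/
theorem pow_mem_of_lcs_le {H : Type*} [Group H] [Finite H] (u : ℕ) [hu : Fact u.Prime]
    (M F : Subgroup H) [hMn : M.Normal] [hFn : F.Normal]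
    (hMF : ∃ k : ℕ, M.lowerCentralSeries k ≤ F) (I : Set H) (hIM : ∀ x ∈ I, x ∈ M)
    (hI : ∀ x ∈ I, ∃ k : ℕ, x ^ (u ^ k) = 1) :
    ∀ y ∈ Subgroup.normalClosure I, ∃ a : ℕ, y ^ (u ^ a) ∈ F := by
  obtain ⟨Mb, hMbdef⟩ : ∃ Mb : Subgroup (H ⧸ F), Mb = M.map (QuotientGroup.mk' F) := ⟨_, rfl⟩
  haveI hMbn : Mb.Normal := by
    rw [hMbdef]; exact hMn.map _ (QuotientGroup.mk'_surjective _)
  have hnil : Group.IsNilpotent ↥Mb := by
    rw [Subgroup.isNilpotent_iff_lowerCentralSeries]
    obtain ⟨k, hk⟩ := hMF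
    refine ⟨k, ?_⟩
    rw [hMbdef, ← Subgroup.map_lowerCentralSeries, eq_bot_iff]
    rintro _ ⟨g, hg, rfl⟩
    rw [Subgroup.mem_bot]
    exact (QuotientGroup.eq_one_iff g).mpr (hk hg)
  haveI := hnil
  obtain ⟨P⟩ : Nonempty (Sylow u ↥Mb) := inferInstance
  have hPn : (P : Subgroup ↥Mb).Normal := inferInstance
  have hchar : ∀ α : MulAut ↥Mb, ∀ p ∈ (P : Subgroup ↥Mb), α p ∈ (P : Subgroup ↥Mb) := by
    haveI hPc : (P : Subgroup ↥Mb).Characteristic := P.characteristic_of_normal hPn
    exact fun α => inv_of_char _ α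
  have hQn : ((P : Subgroup ↥Mb).map Mb.subtype).Normal := char_map_normal Mb _ hchar
  have hUn : (((P : Subgroup ↥Mb).map Mb.subtype).comap (QuotientGroup.mk' F)).Normal :=
    hQn.comap _
  have hIU : I ⊆ ((((P : Subgroup ↥Mb).map Mb.subtype).comap (QuotientGroup.mk' F) :
      Subgroup H) : Set H) := by
    intro x hx
    have hxM : (x : H ⧸ F) ∈ Mb := by rw [hMbdef]; exact ⟨x, hIM x hx, rfl⟩
    obtain ⟨k, hk⟩ := hI x hx
    have h1 : (⟨(x : H ⧸ F), hxM⟩ : ↥Mb) ∈ (P : Subgroup ↥Mb) := by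
      refine mem_normal_sylow u P hPn _ k (Subtype.ext ?_)
      show ((x : H ⧸ F)) ^ (u ^ k) = 1
      rw [← QuotientGroup.mk_pow, hk]
      rfl
    exact ⟨_, h1, rfl⟩
  have hle := Subgroup.normalClosure_le_normal hIU
  intro y hy
  obtain ⟨m, hm, hmy⟩ := hle hy
  obtain ⟨a, ha⟩ := P.isPGroup' ⟨m, hm⟩
  refine ⟨a, ?_⟩
  have h1 : ((m : ↥Mb) : H ⧸ F) ^ (u ^ a) = 1 := by
    have := congrArg (fun z : ↥(P : Subgroup ↥Mb) => (((z : ↥Mb)) : H ⧸ F)) ha
    simpa using this
  have h2 : ((m : ↥Mb) : H ⧸ F) = (y : H ⧸ F) := hmy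
  rw [h2, ← QuotientGroup.mk_pow] at h1
  exact (QuotientGroup.eq_one_iff _).mp h1

/-- A subgroup containing a Sylow `t`-subgroup for every prime `t ≠ u` has `u`-power index. -/
theorem index_eq_prime_pow {G : Type*} [Group G] [Finite G] (C : Subgroup G) (u : ℕ)
    (h : ∀ t : ℕ, ∀ [ht : Fact t.Prime], t ≠ u → ∃ P : Sylow t G, (P : Subgroup G) ≤ C) :
    ∃ c : ℕ, C.index = u ^ c := by
  refine ⟨_, Nat.eq_prime_pow_of_unique_prime_dvd Subgroup.index_ne_zero_of_finite ?_⟩
  intro d hd hdvd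
  by_contra hne
  haveI := Fact.mk hd
  obtain ⟨P, hP⟩ := h d hne
  have h1 : C.index ∣ (P : Subgroup G).index := Subgroup.index_dvd_of_le hP
  exact P.not_dvd_index (hdvd.trans h1)

/-- A subgroup of a group generated by normal subgroups of prime power orders is nilpotent. -/
theorem nilpotent_of_le_iSup_pgroups {H : Type*} [Group H] [Finite H] (Nf : ℕ → Subgroup H)
    (hn : ∀ u, (Nf u).Normal) (hp : ∀ u, u.Prime → IsPGroup u ↥(Nf u))
    (h0 : ∀ u, ¬ u.Prime → Nf u = ⊥) (M : Subgroup H) (hM : M ≤ ⨆ u, Nf u) :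
    Group.IsNilpotent ↥M := by
  classical
  have hbig : ∀ u, Nat.card H < u → Nf u = ⊥ := by
    intro u hu
    by_cases hup : u.Prime
    · haveI := Fact.mk hup
      obtain ⟨a, ha⟩ := IsPGroup.iff_card.mp (hp u hup)
      have hdvd : Nat.card ↥(Nf u) ∣ Nat.card H := Subgroup.card_subgroup_dvd_card _
      have hle : Nat.card ↥(Nf u) ≤ Nat.card H := Nat.le_of_dvd Nat.card_pos hdvd
      rcases a with _ | a
      · rw [pow_zero] at ha
        exact Subgroup.card_eq_one.mp ha
      · exfalso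
        rw [ha] at hle
        have h1 : u ^ 1 ≤ u ^ (a + 1) := Nat.pow_le_pow_right hup.pos (by omega)
        rw [pow_one] at h1
        omega
    · exact h0 u hup
  have hsup : (⨆ u, Nf u) = ⨆ i : Fin (Nat.card H + 1), Nf i := by
    apply le_antisymm
    · apply iSup_le
      intro u
      by_cases hu : u < Nat.card H + 1
      · exact le_iSup (fun i : Fin (Nat.card H + 1) => Nf i) ⟨u, hu⟩
      · rw [hbig u (by omega)]; exact bot_le
    · apply iSup_le
      intro i
      exact le_iSup Nf i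
  have hcomm : Pairwise fun i j : Fin (Nat.card H + 1) =>
      ∀ x y : H, x ∈ Nf i → y ∈ Nf j → Commute x y := by
    intro i j hij x y hx hy
    by_cases hi : (i : ℕ).Prime
    · by_cases hj : (j : ℕ).Prime
      · have hne : (i : ℕ) ≠ j := fun h => hij (Fin.ext h)
        haveI := Fact.mk hi
        haveI := Fact.mk hj
        have hdis : Disjoint (Nf i) (Nf j) :=
          IsPGroup.disjoint_of_ne i j hne _ _ (hp i hi) (hp j hj)
        exact Subgroup.commute_of_normal_of_disjoint _ _ (hn i) (hn j) hdis x y hx hy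
      · rw [h0 j hj, Subgroup.mem_bot] at hy
        rw [hy]; exact Commute.one_right x
    · rw [h0 i hi, Subgroup.mem_bot] at hx
      rw [hx]; exact Commute.one_left y
  haveI hnili : ∀ i : Fin (Nat.card H + 1), Group.IsNilpotent ↥(Nf i) := by
    intro i
    by_cases hi : (i : ℕ).Prime
    · haveI := Fact.mk hi
      exact (hp i hi).isNilpotent
    · haveI : Subsingleton ↥(Nf i) := by
        rw [h0 i hi]; infer_instance
      infer_instance
  have hpi : Group.IsNilpotent (∀ i : Fin (Nat.card H + 1), ↥(Nf i)) := inferInstance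
  obtain ⟨f, hf⟩ : ∃ f : (∀ i : Fin (Nat.card H + 1), ↥(Nf i)) →* H,
      f.range = ⨆ i : Fin (Nat.card H + 1), Nf i :=
    ⟨Subgroup.noncommPiCoprod hcomm, Subgroup.noncommPiCoprod_range⟩
  haveI : Group.IsNilpotent ↥f.range :=
    nilpotent_of_surjective f.rangeRestrict f.rangeRestrict_surjective
  have hMr : M ≤ f.range := by rw [hf, ← hsup]; exact hM
  obtain ⟨k, hk⟩ := (Subgroup.isNilpotent_iff_lowerCentralSeries f.range).mp inferInstance
  refine Subgroup.isNilpotent_of_lowerCentralSeries_eq_bot (n := k) ?_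
  rw [eq_bot_iff, ← hk]
  exact Subgroup.lowerCentralSeries_mono k hMr

end Cfsg.Agent.Lib.Helper3.Sh
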