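import Mathlib
import Cfsg.Agent.Lib.Helper3.SgB
import Cfsg.Agent.Lib.Helper3.GrT
import Cfsg.Agent.Lib.Helper3.GrW
import Cfsg.Agent.Lib.Helper3.ShO
import Cfsg.Agent.Lib.Helper8.FP4b
import Cfsg.Agent.Lib.Helper6.WdC

/-!
# Gross, part X: the key lemma for the prime two.  If `H` admits a fixed-point-free automorphism
`s` of order `2 ^ (n + 1)`, acts faithfully and irreducibly on an elementary abelian group
compatibly with `s`, and `[H, s ^ (2 ^ n)]` is nilpotent modulo a nilpotent normal invariant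
subgroup, then `[H, s ^ (2 ^ n)]` is nilpotent.
-/

set_option autoImplicit false
set_option maxHeartbeats 4000000
set_option maxRecDepth 100000
set_option linter.unusedVariables false
set_option linter.unusedSectionVars false
set_option linter.style.haveILetI false
set_option linter.deprecated false

namespace Cfsg.Agent.Lib.Helper3.Sh

open Module Cfsg.Agent.Lib.Helper8.FP4 Cfsg.Agent.Lib.Helper6.Wd Cfsg.Agent.Lib.Helper3.HHC1

universe u v

/-- A normal invariant `ℓ`-subgroup of a group acting faithfully and irreducibly on an elementary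
abelian `ℓ`-group is trivial. -/
theorem ell_core_trivial (ℓ : ℕ) [hℓp : Fact ℓ.Prime]
    {H : Type u} [Group H] [Finite H] {A : Type v} [CommGroup A] [Finite A] [Nontrivial A]
    (hexp : ∀ a : A, a ^ ℓ = 1)
    (s : MulAut H) (act : H →* MulAut A) (hact : Function.Injective act)
    (sA : MulAut A) (hcs : ∀ h a, sA (act h a) = act (s h) (sA a))
    (hirr : ∀ B : Subgroup A, (∀ h, ∀ b ∈ B, act h b ∈ B) → Inv sA B → B = ⊥ ∨ B = ⊤) :
    ∀ L : Subgroup H, L.Normal → Inv s L → IsPGroup ℓ L → L = ⊥ := by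
  classical
  have hℓA : ℓ ∣ Nat.card A := by
    obtain ⟨a, ha⟩ := exists_ne (1 : A)
    have d1 : orderOf a ∣ ℓ := orderOf_dvd_of_pow_eq_one (hexp a)
    rcases (Nat.dvd_prime hℓp.out).mp d1 with h1 | h1
    · exact absurd (orderOf_eq_one_iff.mp h1) ha
    · rw [← h1]; exact orderOf_dvd_natCard a
  intro L hLn hsL hLp
  obtain ⟨B, hB⟩ : ∃ B : Subgroup A, ∀ a, a ∈ B ↔ ∀ x ∈ L, act x a = a :=
    ⟨{ carrier := {a | ∀ x ∈ L, act x a = a}
       mul_mem' := by
         intro a b ha hb x hx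
         rw [map_mul, ha x hx, hb x hx]
       one_mem' := by intro x _; rw [map_one]
       inv_mem' := by
         intro a ha x hx
         rw [map_inv, ha x hx] }, fun a => Iff.rfl⟩
  have hB1 : ∀ h, ∀ b ∈ B, act h b ∈ B := by
    intro h b hb
    rw [hB] at hb ⊢
    intro x hx
    have hx' : h⁻¹ * x * h ∈ L := by
      have := hLn.conj_mem x hx h⁻¹
      rwa [inv_inv] at this
    have e : x * h = h * (h⁻¹ * x * h) := by group
    calc act x (act h b) = act (x * h) b := by rw [map_mul]; rfl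
      _ = act (h * (h⁻¹ * x * h)) b := by rw [e]
      _ = act h (act (h⁻¹ * x * h) b) := by rw [map_mul]; rfl
      _ = act h b := by rw [hb _ hx']
  have hB2 : Inv sA B := by
    intro b hb
    rw [hB] at hb ⊢
    intro x hx
    have hx' : s⁻¹ x ∈ L := by
      rw [← Inv.apply_mem_iff hsL, MulAut.apply_inv_self]; exact hx
    have := hcs (s⁻¹ x) b
    rw [MulAut.apply_inv_self, hb _ hx'] at this
    exact this.symm
  have hBne : B ≠ ⊥ := by
    letI : MulAction ↥L A := MulAction.compHom A (act.comp L.subtype)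
    have h1 : (1 : A) ∈ MulAction.fixedPoints ↥L A := by
      intro x
      show act (x : H) 1 = 1
      rw [map_one]
    obtain ⟨b, hb, hb1⟩ := hLp.exists_fixed_point_of_prime_dvd_card_of_fixed_point A hℓA h1
    intro hbot
    apply hb1
    have hbB : b ∈ B := by
      rw [hB]
      intro x hx
      exact hb ⟨x, hx⟩
    rw [hbot, Subgroup.mem_bot] at hbB
    exact hbB.symm
  rcases hirr B hB1 hB2 with h | h
  · exact absurd h hBne
  · rw [eq_bot_iff]
    intro x hx
    rw [Subgroup.mem_bot]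
    apply hact
    rw [map_one]
    ext a
    have ha : a ∈ B := by rw [h]; exact Subgroup.mem_top a
    rw [hB] at ha
    rw [ha x hx]
    rfl

theorem sgKL2 (n : ℕ) (ℓ : ℕ) [hℓp : Fact ℓ.Prime]
    {H : Type u} [Group H] [Finite H] {A : Type v} [CommGroup A] [Finite A] [Nontrivial A]
    (hexp : ∀ a : A, a ^ ℓ = 1)
    (s : MulAut H) (hsP : s ^ (2 ^ (n + 1)) = 1) (hfpf : ∀ g, s g = g → g = 1)
    (act : H →* MulAut A) (hact : Function.Injective act)
    (sA : MulAut A) (hsAP : sA ^ (2 ^ (n + 1)) = 1) (hfpfA : ∀ a, sA a = a → a = 1)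
    (hcs : ∀ h a, sA (act h a) = act (s h) (sA a))
    (hirr : ∀ B : Subgroup A, (∀ h, ∀ b ∈ B, act h b ∈ B) → Inv sA B → B = ⊥ ∨ B = ⊤)
    (F : Subgroup H) (hFn : F.Normal) (hsF : Inv s F) (hFnil : Group.IsNilpotent ↥F)
    (hMF : ∃ k : ℕ, (cx (s ^ (2 ^ n))).lowerCentralSeries k ≤ F) :
    Group.IsNilpotent ↥(cx (s ^ (2 ^ n))) := by
  classical
  haveI h2 : Fact (Nat.Prime 2) := ⟨Nat.prime_two⟩
  obtain ⟨τ, hτdef⟩ : ∃ τ : MulAut H, τ = s ^ (2 ^ n) := ⟨_, rfl⟩
  rw [← hτdef] at hMF ⊢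
  have hττ : τ * τ = 1 := by
    rw [hτdef, ← pow_add, ← two_mul, ← pow_succ']; exact hsP
  have hτ2 : ∀ g, τ (τ g) = g := by
    intro g
    have := congrArg (fun a : MulAut H => a g) hττ
    simpa using this
  have h2H : ¬ 2 ∣ Nat.card H := not_dvd_card_of_fpf 2 s (n + 1) hsP hfpf
  have h2A : ¬ 2 ∣ Nat.card A := not_dvd_card_of_fpf 2 sA (n + 1) hsAP hfpfA
  have hℓA : ℓ ∣ Nat.card A := by
    obtain ⟨a, ha⟩ := exists_ne (1 : A)
    have d1 : orderOf a ∣ ℓ := orderOf_dvd_of_pow_eq_one (hexp a)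
    rcases (Nat.dvd_prime hℓp.out).mp d1 with h1 | h1
    · exact absurd (orderOf_eq_one_iff.mp h1) ha
    · rw [← h1]; exact orderOf_dvd_natCard a
  have hℓ2 : ℓ ≠ 2 := by
    rintro rfl
    exact h2A hℓA
  haveI hMn : (cx τ).Normal := cx_normal τ
  haveI := hFn
  have hℓtriv := ell_core_trivial ℓ hexp s act hact sA hcs hirr
  have hcardtop : ¬ 2 ∣ Nat.card (⊤ : Subgroup H) := by
    rw [Subgroup.card_top]; exact h2H
  -- Sylow subgroups of `F`
  have hTinv : ∀ (t : ℕ) [Fact t.Prime] (P : Sylow t ↥F) (ψ : MulAut H), Inv ψ F →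
      Inv ψ ((P : Subgroup ↥F).map F.subtype) :=
    fun t _ P ψ hψ => inv_sylow_of_nilpotent F hFnil t P ψ hψ
  have hTn : ∀ (t : ℕ) [Fact t.Prime] (P : Sylow t ↥F),
      ((P : Subgroup ↥F).map F.subtype).Normal := by
    intro t _ P
    refine ⟨fun y hy g => ?_⟩
    have := hTinv t P (MulAut.conj g) (fun z hz => hFn.conj_mem z hz g) y hy
    rwa [MulAut.conj_apply] at this
  -- the main construction, prime by prime
  have key : ∀ u : ℕ, ∃ N : Subgroup H, N.Normal ∧ (u.Prime → IsPGroup u ↥N) ∧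
      (¬ u.Prime → N = ⊥) ∧
      (∀ [Fact u.Prime], ∃ P : Sylow u H, ∀ x ∈ (P : Subgroup H), x⁻¹ * τ x ∈ N) := by
    intro u
    by_cases hu : u.Prime
    swap
    · refine ⟨⊥, inferInstance, fun h => absurd h hu, fun _ => rfl, ?_⟩
      intro hf
      exact absurd hf.out hu
    haveI hfu := Fact.mk hu
    obtain ⟨P, hPs⟩ : ∃ P : Sylow u H, Inv s (P : Subgroup H) := Fpf.exists_inv_sylow hfpf u
    have hPτ : Inv τ (P : Subgroup H) := by rw [hτdef]; exact hPs.pow _
    obtain ⟨I, hIdef⟩ : ∃ I : Set H, I = {y | ∃ x ∈ (P : Subgroup H), y = x⁻¹ * τ x} := ⟨_, rfl⟩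
    have hIP : ∀ y ∈ I, y ∈ (P : Subgroup H) ∧ τ y = y⁻¹ := by
      intro y hy
      rw [hIdef] at hy
      obtain ⟨x, hx, rfl⟩ := hy
      refine ⟨mul_mem (inv_mem hx) (hPτ x hx), ?_⟩
      rw [map_mul, map_inv, hτ2, mul_inv_rev, inv_inv]
    have hIu : ∀ y ∈ I, ∃ k : ℕ, y ^ (u ^ k) = 1 := fun y hy =>
      pow_of_mem_pgroup P.isPGroup' (hIP y hy).1
    have hIM : ∀ y ∈ I, y ∈ cx τ := by
      intro y hy
      rw [hIdef] at hy
      obtain ⟨x, hx, rfl⟩ := hy
      exact mem_cx_gen τ x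
    obtain ⟨N, hNdef⟩ : ∃ N : Subgroup H, N = Subgroup.normalClosure I := ⟨_, rfl⟩
    haveI hNn : N.Normal := by rw [hNdef]; exact Subgroup.normalClosure_normal
    -- `N` centralises the Sylow `t`-subgroups of `F` for `t ≠ u`
    have hK3 : ∀ (t : ℕ) [Fact t.Prime], t ≠ u → ∀ (T : Sylow t ↥F), ∀ x ∈ N,
        ∀ y ∈ (T : Subgroup ↥F).map F.subtype, x * y = y * x := by
      intro t ht htu T
      haveI hTnorm := hTn t T
      obtain ⟨C, hCn, hC⟩ := exists_centralizer_normal ((T : Subgroup ↥F).map F.subtype)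
      have hTp : IsPGroup t ↥((T : Subgroup ↥F).map F.subtype) := T.isPGroup'.map _
      have hIC : I ⊆ (C : Set H) := by
        intro y₀ hy₀
        rw [SetLike.mem_coe, hC]
        intro p hp
        by_cases ht2 : t = 2
        · have hp1 : p = 1 := by
            subst ht2
            exact eq_one_of_pgroup_of_not_dvd Nat.prime_two _ hTp ⊤ hcardtop p hp
              (Subgroup.mem_top p)
          rw [hp1, mul_one, one_mul]
        by_cases htℓ : t = ℓ
        · have hbot : (T : Subgroup ↥F).map F.subtype = ⊥ := by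
            subst htℓ
            exact hℓtriv _ hTnorm (hTinv t T s hsF) hTp
          rw [hbot, Subgroup.mem_bot] at hp
          rw [hp, mul_one, one_mul]
        by_cases hu2 : u = 2
        · have hy1 : y₀ = 1 := by
            subst hu2
            exact eq_one_of_pgroup_of_not_dvd Nat.prime_two _ P.isPGroup' ⊤ hcardtop y₀
              (hIP y₀ hy₀).1 (Subgroup.mem_top y₀)
          rw [hy1, mul_one, one_mul]
        have hinv : (s ^ (2 ^ n)) y₀ = y₀⁻¹ := by rw [← hτdef]; exact (hIP y₀ hy₀).2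
        exact st_act n ℓ hℓ2 t u htu ht2 hu2 htℓ hexp s act hact sA hsAP hfpfA hcs
          ((T : Subgroup ↥F).map F.subtype) (P : Subgroup H) hTnorm hTp P.isPGroup'
          (hTinv t T s hsF) hPs y₀ (hIP y₀ hy₀).1 hinv p hp
      have hle : N ≤ C := by
        rw [hNdef]; exact Subgroup.normalClosure_le_normal hIC
      intro x hx y hy
      exact (hC x).mp (hle hx) y hy
    -- powers in `F`
    have hpowF : ∀ y ∈ N, ∃ a : ℕ, y ^ (u ^ a) ∈ F := by
      rw [hNdef]
      exact pow_mem_of_lcs_le u (cx τ) F hMF I hIM hIu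
    -- the centraliser of `N`
    obtain ⟨CN, hCNn, hCN⟩ := exists_centralizer_normal N
    obtain ⟨C', hC'def⟩ : ∃ C' : Subgroup ↥F, C' = CN.subgroupOf F := ⟨_, rfl⟩
    haveI hC'n : C'.Normal := by rw [hC'def]; exact hCNn.subgroupOf F
    have hC'mem : ∀ f : ↥F, f ∈ C' ↔ (f : H) ∈ CN := by
      intro f; rw [hC'def]; exact Subgroup.mem_subgroupOf
    obtain ⟨c, hc⟩ : ∃ c : ℕ, C'.index = u ^ c := by
      apply index_eq_prime_pow C' u
      intro t ht htu
      obtain ⟨T⟩ : Nonempty (Sylow t ↥F) := inferInstance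
      refine ⟨T, fun f hf => ?_⟩
      rw [hC'mem, hCN]
      intro x hx
      exact (hK3 t htu T x hx (f : H) ⟨f, hf, rfl⟩).symm
    have hcen : ∀ y ∈ Subgroup.normalClosure I, ∃ a : ℕ, ∀ z ∈ Subgroup.normalClosure I,
        y ^ (u ^ a) * z = z * y ^ (u ^ a) := by
      rw [← hNdef]
      intro y hy
      obtain ⟨a, ha⟩ := hpowF y hy
      refine ⟨a + c, fun z hz => ?_⟩
      have h1 : (⟨y ^ (u ^ a), ha⟩ : ↥F) ^ C'.index ∈ C' := Subgroup.pow_index_mem C' _
      rw [hC'mem, hc] at h1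
      have h2 : y ^ (u ^ (a + c)) ∈ CN := by
        rw [pow_add, pow_mul]
        simpa using h1
      exact (hCN _).mp h2 z hz
    have hNp : IsPGroup u ↥N := by
      rw [hNdef]
      exact isPGroup_normalClosure u I hIu hcen
    refine ⟨N, hNn, fun _ => hNp, fun h => absurd hu h, ?_⟩
    intro _
    refine ⟨P, fun x hx => ?_⟩
    rw [hNdef]
    apply Subgroup.subset_normalClosure
    rw [hIdef]
    exact ⟨x, hx, rfl⟩
  choose Nf hNn hNp hN0 hNP using key
  haveI : ∀ u, (Nf u).Normal := hNn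
  haveI hNtn : (⨆ u, Nf u).Normal := inferInstance
  obtain ⟨R, hR⟩ : ∃ R : Subgroup H, ∀ h, h ∈ R ↔ h⁻¹ * τ h ∈ ⨆ u, Nf u :=
    ⟨{ carrier := {h | h⁻¹ * τ h ∈ ⨆ u, Nf u}
       one_mem' := by
         show (1 : H)⁻¹ * τ 1 ∈ ⨆ u, Nf u
         rw [map_one, inv_one, one_mul]; exact one_mem _
       mul_mem' := by
         intro a b ha hb
         show (a * b)⁻¹ * τ (a * b) ∈ ⨆ u, Nf u
         have e : (a * b)⁻¹ * τ (a * b) = (b⁻¹ * (a⁻¹ * τ a) * b⁻¹⁻¹) * (b⁻¹ * τ b) := by
           rw [map_mul]; group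
         rw [e]
         exact mul_mem (hNtn.conj_mem _ ha b⁻¹) hb
       inv_mem' := by
         intro a ha
         show (a⁻¹)⁻¹ * τ a⁻¹ ∈ ⨆ u, Nf u
         have e : (a⁻¹)⁻¹ * τ a⁻¹ = a * (a⁻¹ * τ a)⁻¹ * a⁻¹ := by
           rw [map_inv]; group
         rw [e]
         exact hNtn.conj_mem _ (inv_mem ha) a }, fun h => Iff.rfl⟩
  have hRtop : R = ⊤ := by
    apply top_of_sylows
    intro u hu
    obtain ⟨P, hP⟩ := hNP u
    refine ⟨P, fun x hx => ?_⟩
    rw [hR]
    exact (le_iSup Nf u) (hP x hx)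
  have hMle : cx τ ≤ ⨆ u, Nf u := by
    apply cx_le
    intro g
    rw [← hR, hRtop]
    exact Subgroup.mem_top g
  exact nilpotent_of_le_iSup_pgroups Nf hNn hNp hN0 (cx τ) hMle

end Cfsg.Agent.Lib.Helper3.Sh
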