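import Mathlib
import Cfsg.Agent.Lib.Helper3.SgB
import Cfsg.Agent.Lib.Helper3.GrV
import Cfsg.Agent.Lib.Helper3.GrY

/-!
# Gross, part Z: the chain of normal subgroups with nilpotent factors, of length `2 k - 2`, for a
fixed-point-free automorphism of order dividing `2 ^ k` (`k ≥ 2`) of a finite solvable group.
-/

set_option autoImplicit false
set_option maxHeartbeats 4000000
set_option maxRecDepth 100000
set_option linter.unusedVariables false
set_option linter.unusedSectionVars false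
set_option linter.style.haveILetI false
set_option linter.deprecated false

namespace Cfsg.Agent.Lib.Helper3.Sh

open Cfsg.Agent.Lib.Helper8.FP4 Cfsg.Agent.Lib.Helper6.Wd

universe u

theorem gross_chain : ∀ (k : ℕ), 2 ≤ k →
    ∀ (G : Type u) [Group G] [Finite G] [Group.IsSolvable G] (s : MulAut G),
      s ^ (2 ^ k) = 1 → (∀ g, s g = g → g = 1) →
      ∃ F : ℕ → Subgroup G, F 0 = ⊥ ∧ F (2 * k - 2) = ⊤ ∧ Monotone F ∧ (∀ i, (F i).Normal) ∧
        ∀ i, i < 2 * k - 2 → ∃ j : ℕ, (F (i + 1)).lowerCentralSeries j ≤ F i := by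
  intro k hk
  induction k, hk using Nat.le_induction with
  | base =>
    intro G _ _ _ s hs hfpf
    have hs4 : s ^ 4 = 1 := by simpa using hs
    have hnil : Group.IsNilpotent ↥(cx (s ^ 2)) := sg_key_four G s hs4 hfpf
    have hxs : ∀ g, s ((s ^ 2) g) = (s ^ 2) (s g) := fun g => pow_apply_comm s _ g
    haveI hMn : (cx (s ^ 2)).Normal := cx_normal _
    have hMs : Inv s (cx (s ^ 2)) := cx_inv _ s hxs
    have hfpfM : Fpf (quotAut s (cx (s ^ 2)) hMs) := Fpf.quot hfpf _ hMs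
    have hsM : (quotAut s (cx (s ^ 2)) hMs) ^ 2 = 1 := by
      ext c
      refine QuotientGroup.induction_on c (fun g => ?_)
      rw [quotAut_pow_mk]
      show (((s ^ 2) g : G) : G ⧸ cx (s ^ 2)) = (g : G ⧸ cx (s ^ 2))
      exact (QuotientGroup.eq.mpr (mem_cx_gen (s ^ 2) g)).symm
    have hab : ∀ x y : G ⧸ cx (s ^ 2), x * y = y * x := fun x y => hfpfM.comm_of_sq hsM x y
    obtain ⟨F, hF0, hF1, hF2⟩ : ∃ F : ℕ → Subgroup G, F 0 = ⊥ ∧ F 1 = cx (s ^ 2) ∧
        ∀ j, F (j + 2) = ⊤ :=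
      ⟨fun i => Nat.casesOn i ⊥ (fun j => Nat.casesOn j (cx (s ^ 2)) (fun _ => ⊤)),
        rfl, rfl, fun j => rfl⟩
    refine ⟨F, hF0, hF2 0, ?_, ?_, ?_⟩
    · apply monotone_nat_of_le_succ
      intro i
      rcases i with _ | _ | j
      · rw [hF0]; exact bot_le
      · rw [hF2 0]; exact le_top
      · rw [hF2 j, hF2 (j + 1)]
    · intro i
      rcases i with _ | _ | j
      · rw [hF0]; infer_instance
      · rw [hF1]; infer_instance
      · rw [hF2]; infer_instance
    · intro i hi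
      rcases i with _ | _ | j
      · rw [hF1, hF0]
        obtain ⟨j, hj⟩ := (Subgroup.isNilpotent_iff_lowerCentralSeries _).mp hnil
        exact ⟨j, le_of_eq hj⟩
      · refine ⟨1, ?_⟩
        rw [hF2 0, hF1, Subgroup.lowerCentralSeries_succ, Subgroup.lowerCentralSeries_zero,
          Subgroup.commutator_le]
        intro a _ b _
        rw [← QuotientGroup.eq_one_iff, commutatorElement_def, QuotientGroup.mk_mul,
          QuotientGroup.mk_mul, QuotientGroup.mk_mul, QuotientGroup.mk_inv, QuotientGroup.mk_inv,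
          hab (a : G ⧸ cx (s ^ 2)) b, mul_inv_cancel_right, mul_inv_cancel]
      · omega
  | succ k hk ih =>
    intro G _ _ _ s hs hfpf
    obtain ⟨F₁, hF₁n, hF₁s, hF₁le, hF₁nil, hF₁k⟩ := gross_key k (Nat.card G) G s rfl hs hfpf
    have hxs : ∀ g, s ((s ^ (2 ^ k)) g) = (s ^ (2 ^ k)) (s g) := fun g => pow_apply_comm s _ g
    haveI hMn : (cx (s ^ (2 ^ k))).Normal := cx_normal _
    have hMs : Inv s (cx (s ^ (2 ^ k))) := cx_inv _ s hxs
    have hfpfM : ∀ g, quotAut s (cx (s ^ (2 ^ k))) hMs g = g → g = 1 := Fpf.quot hfpf _ hMs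
    have hsM : (quotAut s (cx (s ^ (2 ^ k))) hMs) ^ (2 ^ k) = 1 := by
      ext c
      refine QuotientGroup.induction_on c (fun g => ?_)
      rw [quotAut_pow_mk]
      show (((s ^ (2 ^ k)) g : G) : G ⧸ cx (s ^ (2 ^ k))) = (g : G ⧸ cx (s ^ (2 ^ k)))
      exact (QuotientGroup.eq.mpr (mem_cx_gen (s ^ (2 ^ k)) g)).symm
    obtain ⟨F', hF0, hFn, hFmono, hFnorm, hFstep⟩ :=
      ih (G ⧸ cx (s ^ (2 ^ k))) (quotAut s (cx (s ^ (2 ^ k))) hMs) hsM hfpfM
    obtain ⟨F, hFz, hFo, hFs⟩ : ∃ F : ℕ → Subgroup G, F 0 = ⊥ ∧ F 1 = F₁ ∧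
        ∀ j, F (j + 2) = (F' j).comap (QuotientGroup.mk' (cx (s ^ (2 ^ k)))) :=
      ⟨fun i => Nat.casesOn i ⊥ (fun j => Nat.casesOn j F₁
        (fun j => (F' j).comap (QuotientGroup.mk' (cx (s ^ (2 ^ k)))))),
        rfl, rfl, fun j => rfl⟩
    have hF2 : F 2 = cx (s ^ (2 ^ k)) := by
      rw [hFs 0, hF0, MonoidHom.comap_bot, QuotientGroup.ker_mk']
    have hidx : 2 * (k + 1) - 2 = (2 * k - 2) + 2 := by omega
    refine ⟨F, hFz, ?_, ?_, ?_, ?_⟩
    · rw [hidx, hFs, hFn, Subgroup.comap_top]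
    · apply monotone_nat_of_le_succ
      intro i
      rcases i with _ | _ | j
      · rw [hFz]; exact bot_le
      · rw [hFo, hF2]; exact hF₁le
      · rw [hFs, hFs]
        exact Subgroup.comap_mono (hFmono (Nat.le_succ j))
    · intro i
      rcases i with _ | _ | j
      · rw [hFz]; infer_instance
      · rw [hFo]; exact hF₁n
      · rw [hFs]
        exact (hFnorm j).comap _
    · intro i hi
      rcases i with _ | _ | j
      · rw [hFo, hFz]
        obtain ⟨j, hj⟩ := (Subgroup.isNilpotent_iff_lowerCentralSeries _).mp hF₁nil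
        exact ⟨j, le_of_eq hj⟩
      · rw [hF2, hFo]
        exact hF₁k
      · obtain ⟨m, hm⟩ := hFstep j (by omega)
        refine ⟨m, ?_⟩
        rw [hFs (j + 1), hFs j, ← Subgroup.map_le_iff_le_comap, Subgroup.map_lowerCentralSeries,
          Subgroup.map_comap_eq_self_of_surjective (QuotientGroup.mk'_surjective _)]
        exact hm

end Cfsg.Agent.Lib.Helper3.Sh
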