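import Mathlib

/-!
# Hall–Higman critical case, part 2: sums over a free cyclic action.
-/

namespace Cfsg.Agent.Lib.Helper3.HHB2

theorem free_cyclic_sum {Y : Type*} [DecidableEq Y] {R : Type*} [Semiring R] {M : Type*}
    [AddCommMonoid M] [Module R M]
    (σ : Equiv.Perm Y) (P : ℕ) (hP0 : 0 < P) (hP : σ ^ P = 1)
    (c : Module.End R M) (F : Y → M) (hF : ∀ y, F (σ y) = c (F y)) :
    ∀ S : Finset Y, (∀ y ∈ S, σ y ∈ S) → (∀ i, 0 < i → i < P → ∀ y ∈ S, (σ ^ i) y ≠ y) →
      ∃ T' : M, ∑ y ∈ S, F y = ∑ i ∈ Finset.range P, (c ^ i) T' := by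
  intro S
  refine Finset.strongInductionOn (p := fun S => (∀ y ∈ S, σ y ∈ S) →
    (∀ i, 0 < i → i < P → ∀ y ∈ S, (σ ^ i) y ≠ y) →
      ∃ T' : M, ∑ y ∈ S, F y = ∑ i ∈ Finset.range P, (c ^ i) T') S ?_
  intro S ih hinv hfree
  rcases S.eq_empty_or_nonempty with rfl | ⟨y₀, hy₀⟩
  · exact ⟨0, by simp⟩
  · have hpow_mem : ∀ i : ℕ, (σ ^ i) y₀ ∈ S := by
      intro i
      induction i with
      | zero => simpa using hy₀
      | succ i ihi => rw [pow_succ', Equiv.Perm.mul_apply]; exact hinv _ ihi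
    have hFpow : ∀ (i : ℕ) (y : Y), F ((σ ^ i) y) = (c ^ i) (F y) := by
      intro i
      induction i with
      | zero => intro y; simp
      | succ i ihi =>
        intro y
        rw [pow_succ', Equiv.Perm.mul_apply, hF, ihi, pow_succ', Module.End.mul_apply]
    have key : ∀ i j : ℕ, i ≤ j → j < P → (σ ^ i) y₀ = (σ ^ j) y₀ → i = j := by
      intro i j hij hj h
      by_contra hne
      have hlt : i < j := lt_of_le_of_ne hij hne
      have h1 : (σ ^ (j - i)) ((σ ^ i) y₀) = (σ ^ i) y₀ := by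
        rw [← Equiv.Perm.mul_apply, ← pow_add, Nat.sub_add_cancel hij, ← h]
      exact hfree (j - i) (Nat.sub_pos_of_lt hlt) (lt_of_le_of_lt (Nat.sub_le j i) hj) _
        (hpow_mem i) h1
    have hinj : ∀ i ∈ Finset.range P, ∀ j ∈ Finset.range P,
        (σ ^ i) y₀ = (σ ^ j) y₀ → i = j := by
      intro i hi j hj h
      rw [Finset.mem_range] at hi hj
      rcases le_total i j with hij | hij
      · exact key i j hij hj h
      · exact (key j i hij hi h.symm).symm
    let O : Finset Y := (Finset.range P).image (fun i => (σ ^ i) y₀)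
    have hOS : O ⊆ S := by
      intro y hy
      obtain ⟨i, -, rfl⟩ := Finset.mem_image.mp hy
      exact hpow_mem i
    have hy₀O : y₀ ∈ O := Finset.mem_image.mpr ⟨0, Finset.mem_range.mpr hP0, by simp⟩
    have hσinv : (σ ^ (P - 1)) * σ = 1 := by
      rw [← pow_succ, Nat.sub_add_cancel hP0, hP]
    have hOinv : ∀ y, σ y ∈ O → y ∈ O := by
      intro y hy
      obtain ⟨i, hi, hiy⟩ := Finset.mem_image.mp hy
      have hi' := Finset.mem_range.mp hi
      rcases Nat.eq_zero_or_pos i with rfl | hipos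
      · simp only [pow_zero, Equiv.Perm.one_apply] at hiy
        refine Finset.mem_image.mpr
          ⟨P - 1, Finset.mem_range.mpr (Nat.sub_lt hP0 Nat.one_pos), ?_⟩
        show (σ ^ (P - 1)) y₀ = y
        rw [hiy, ← Equiv.Perm.mul_apply, hσinv, Equiv.Perm.one_apply]
      · refine Finset.mem_image.mpr
          ⟨i - 1, Finset.mem_range.mpr (lt_of_le_of_lt (Nat.sub_le i 1) hi'), ?_⟩
        show (σ ^ (i - 1)) y₀ = y
        apply σ.injective
        rw [← hiy, ← Equiv.Perm.mul_apply, ← pow_succ', Nat.sub_add_cancel hipos]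
    have hSO : ∀ y ∈ S \ O, σ y ∈ S \ O := by
      intro y hy
      rw [Finset.mem_sdiff] at hy ⊢
      exact ⟨hinv y hy.1, fun h => hy.2 (hOinv y h)⟩
    have hfree' : ∀ i, 0 < i → i < P → ∀ y ∈ S \ O, (σ ^ i) y ≠ y :=
      fun i h0 h1 y hy => hfree i h0 h1 y (Finset.mem_sdiff.mp hy).1
    obtain ⟨T₁, hT₁⟩ := ih (S \ O) (Finset.sdiff_ssubset hOS ⟨y₀, hy₀O⟩) hSO hfree'
    refine ⟨T₁ + F y₀, ?_⟩
    rw [← Finset.sum_sdiff hOS, hT₁]
    have hO : ∑ y ∈ O, F y = ∑ i ∈ Finset.range P, F ((σ ^ i) y₀) :=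
      Finset.sum_image (by
        intro i hi j hj h
        exact hinj i (by simpa using hi) j (by simpa using hj) h)
    rw [hO]
    simp only [hFpow, map_add, Finset.sum_add_distrib]

end Cfsg.Agent.Lib.Helper3.HHB2
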