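import Mathlib
import Cfsg.Agent.Lib.Helper3.HHB1
import Cfsg.Agent.Lib.Helper3.HHB2

/-!
# Hall–Higman critical case, part 4: the structure of the commutant of `ρ x`.
-/

namespace Cfsg.Agent.Lib.Helper3.HHB4

open Module

/-- A `q`-element of `⟨x⟩ Z(G)` (with `x` a `p`-element) is central. -/
theorem mem_center_of_mem_sup {G : Type*} [Group G] (p q : ℕ) [Fact p.Prime] [Fact q.Prime]
    (hpq : p ≠ q) (x g : G) (k a : ℕ) (hxk : x ^ (p ^ k) = 1) (hga : g ^ (q ^ a) = 1)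
    (hg : g ∈ Subgroup.zpowers x ⊔ Subgroup.center G) : g ∈ Subgroup.center G := by
  have hmem : g ∈ ((Subgroup.zpowers x ⊔ Subgroup.center G : Subgroup G) : Set G) := hg
  rw [Subgroup.mul_normal] at hmem
  obtain ⟨y, hy, z, hz, rfl⟩ := Set.mem_mul.mp hmem
  obtain ⟨j, rfl⟩ := Subgroup.mem_zpowers_iff.mp hy
  let f := QuotientGroup.mk' (Subgroup.center G)
  have hfz : f z = 1 := (QuotientGroup.eq_one_iff z).mpr hz
  have h1 : (f (x ^ j * z)) ^ (q ^ a) = 1 := by rw [← map_pow, hga, map_one]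
  have h2 : (f (x ^ j * z)) ^ (p ^ k) = 1 := by
    rw [map_mul, hfz, mul_one, ← map_pow]
    have : (x ^ j) ^ (p ^ k) = 1 := by
      rw [← zpow_natCast, ← zpow_mul, mul_comm, zpow_mul, zpow_natCast, hxk, one_zpow]
    rw [this, map_one]
  have hcop : Nat.Coprime (q ^ a) (p ^ k) :=
    Nat.Coprime.pow _ _ ((Nat.coprime_primes (Fact.out) (Fact.out)).mpr (Ne.symm hpq))
  have h3 := pow_gcd_eq_one.mpr ⟨h1, h2⟩
  rw [hcop.gcd_eq_one, pow_one] at h3
  exact (QuotientGroup.eq_one_iff _).mp h3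

theorem key_decomp {G : Type*} [Group G] [Finite G] (p q : ℕ) [Fact p.Prime] [Fact q.Prime]
    (hpq : p ≠ q) (Q : Subgroup G) [Q.Normal] (hQ : IsPGroup q Q) (x : G)
    (hx : IsPGroup p (Subgroup.zpowers x))
    (hC : ∀ y ∈ Subgroup.zpowers x, y ≠ 1 →
      Subgroup.centralizer ({y} : Set G) = Subgroup.zpowers x ⊔ Subgroup.center G)
    {K : Type*} [Field K] [IsAlgClosed K] [CharP K p] {V : Type*} [AddCommGroup V] [Module K V]
    [FiniteDimensional K V] [Nontrivial V] (ρ : Representation K G V)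
    (hirr : ∀ W : Submodule K V, (∀ g ∈ Q, Submodule.map (ρ g) W ≤ W) → W = ⊥ ∨ W = ⊤)
    (T : Module.End K V) (hT : T * ρ x = ρ x * T) :
    ∃ (lam : K) (T' : Module.End K V), T = lam • (1 : Module.End K V) +
      ∑ i ∈ Finset.range (orderOf x),
        ((LinearMap.mulLeft K (ρ x) * LinearMap.mulRight K (ρ x⁻¹)) ^ i) T' := by
  classical
  haveI : Fintype G := Fintype.ofFinite G
  haveI : Fintype Q := Fintype.ofFinite Q
  let σ : Representation K Q V := ρ.comp Q.subtype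
  have hσ : ∀ h : Q, σ h = ρ h.1 := fun h => rfl
  have hirrσ : ∀ W : Submodule K V, (∀ h : Q, Submodule.map (σ h) W ≤ W) → W = ⊥ ∨ W = ⊤ :=
    fun W hW => hirr W (fun g hg => hW ⟨g, hg⟩)
  have hp : p.Prime := Fact.out
  have hq : q.Prime := Fact.out
  have hqK : (q : K) ≠ 0 := by
    intro h
    exact hpq ((Nat.prime_dvd_prime_iff_eq hp hq).mp ((CharP.cast_eq_zero_iff K p q).mp h))
  obtain ⟨m, hm⟩ := IsPGroup.iff_card.mp hQ
  have hcardK : (Fintype.card Q : K) ≠ 0 := by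
    rw [← Nat.card_eq_fintype_card, hm, Nat.cast_pow]
    exact pow_ne_zero _ hqK
  have hF := HHB1.fourier σ hirrσ T
  obtain ⟨κ, hκ⟩ : ∃ κ : K, κ = (Fintype.card Q : K)⁻¹ * (finrank K V : K) := ⟨_, rfl⟩
  have hT1 : T = κ • ∑ h : Q, (LinearMap.trace K V (T * σ h⁻¹)) • σ h := by
    rw [hκ, ← smul_smul, hF, smul_smul, inv_mul_cancel₀ hcardK, one_smul]
  let a : G → K := fun g => κ * LinearMap.trace K V (T * ρ g⁻¹)
  let F : G → Module.End K V := fun g => a g • ρ g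
  have hTsum : T = ∑ h : Q, F h.1 := by
    conv_lhs => rw [hT1]
    rw [Finset.smul_sum]
    refine Finset.sum_congr rfl (fun h _ => ?_)
    rw [smul_smul]
    rfl
  let Qf : Finset G := Finset.univ.filter (· ∈ Q)
  have hsum2 : ∑ h : Q, F h.1 = ∑ g ∈ Qf, F g :=
    (Finset.sum_subtype Qf (by intro g; simp [Qf]) F).symm
  have hsplit := Finset.sum_filter_add_sum_filter_not Qf (· ∈ Subgroup.center G) F
  -- central part
  have hschur : ∀ g ∈ Subgroup.center G, ∃ μ : K, ρ g = μ • (1 : Module.End K V) := by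
    intro g hg
    refine HHB1.schur_scalar σ hirrσ (ρ g) (fun h => ?_)
    rw [hσ, ← map_mul, ← map_mul, Subgroup.mem_center_iff.mp hg h.1]
  have hZsum : ∃ lam : K,
      ∑ g ∈ Qf.filter (· ∈ Subgroup.center G), F g = lam • (1 : Module.End K V) := by
    have hmem : ∑ g ∈ Qf.filter (· ∈ Subgroup.center G), F g
        ∈ Submodule.span K {(1 : Module.End K V)} := by
      refine Submodule.sum_mem _ (fun g hg => ?_)
      obtain ⟨μ, hμ⟩ := hschur g (Finset.mem_filter.mp hg).2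
      show a g • ρ g ∈ _
      rw [hμ, smul_smul]
      exact Submodule.smul_mem _ _ (Submodule.mem_span_singleton_self _)
    obtain ⟨lam, hlam⟩ := Submodule.mem_span_singleton.mp hmem
    exact ⟨lam, hlam.symm⟩
  -- noncentral part
  let perm : Equiv.Perm G := MulAut.toPerm G (MulAut.conj x)
  have hperm_pow : ∀ (i : ℕ) (g : G), (perm ^ i) g = x ^ i * g * (x ^ i)⁻¹ := by
    intro i g
    have : perm ^ i = MulAut.toPerm G (MulAut.conj (x ^ i)) := by
      rw [map_pow, map_pow]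
    rw [this]; rfl
  have hxinv : ρ x⁻¹ * ρ x = 1 := by rw [← map_mul, inv_mul_cancel, map_one]
  have hcapp : ∀ S : Module.End K V,
      (LinearMap.mulLeft K (ρ x) * LinearMap.mulRight K (ρ x⁻¹)) S = ρ x * S * ρ x⁻¹ := by
    intro S
    rw [Module.End.mul_apply, LinearMap.mulRight_apply, LinearMap.mulLeft_apply, mul_assoc]
  have hFperm : ∀ g, F (perm g)
      = (LinearMap.mulLeft K (ρ x) * LinearMap.mulRight K (ρ x⁻¹)) (F g) := by
    intro g
    have hpg : perm g = x * g * x⁻¹ := rfl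
    rw [hpg, hcapp]
    show a (x * g * x⁻¹) • ρ (x * g * x⁻¹) = ρ x * (a g • ρ g) * ρ x⁻¹
    have ha : a (x * g * x⁻¹) = a g := by
      show κ * LinearMap.trace K V (T * ρ (x * g * x⁻¹)⁻¹)
        = κ * LinearMap.trace K V (T * ρ g⁻¹)
      congr 1
      have e1 : (x * g * x⁻¹)⁻¹ = x * g⁻¹ * x⁻¹ := by group
      rw [e1, map_mul ρ, map_mul ρ]
      have e2 : T * (ρ x * ρ g⁻¹ * ρ x⁻¹) = ρ x * (T * ρ g⁻¹ * ρ x⁻¹) := by
        calc T * (ρ x * ρ g⁻¹ * ρ x⁻¹) = (T * ρ x) * ρ g⁻¹ * ρ x⁻¹ := by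
              simp only [mul_assoc]
          _ = (ρ x * T) * ρ g⁻¹ * ρ x⁻¹ := by rw [hT]
          _ = ρ x * (T * ρ g⁻¹ * ρ x⁻¹) := by simp only [mul_assoc]
      rw [e2, LinearMap.trace_mul_comm, mul_assoc, hxinv, mul_one]
    rw [ha, map_mul, map_mul, mul_smul_comm, smul_mul_assoc]
  have hpermP : perm ^ orderOf x = 1 := by
    ext g
    rw [hperm_pow, pow_orderOf_eq_one]
    simp
  have hSinv : ∀ g ∈ Qf.filter (fun g => ¬ g ∈ Subgroup.center G),
      perm g ∈ Qf.filter (fun g => ¬ g ∈ Subgroup.center G) := by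
    intro g hg
    simp only [Qf, Finset.mem_filter, Finset.mem_univ, true_and] at hg ⊢
    have hpg : perm g = x * g * x⁻¹ := rfl
    rw [hpg]
    refine ⟨‹Q.Normal›.conj_mem g hg.1 x, fun hc => hg.2 ?_⟩
    have h1 := (inferInstance : (Subgroup.center G).Normal).conj_mem _ hc x⁻¹
    have e : x⁻¹ * (x * g * x⁻¹) * x⁻¹⁻¹ = g := by group
    rwa [e] at h1
  have hfree : ∀ i, 0 < i → i < orderOf x →
      ∀ g ∈ Qf.filter (fun g => ¬ g ∈ Subgroup.center G), (perm ^ i) g ≠ g := by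
    intro i hi0 hiP g hg hfix
    simp only [Qf, Finset.mem_filter, Finset.mem_univ, true_and] at hg
    rw [hperm_pow] at hfix
    have hy1 : x ^ i ≠ 1 := pow_ne_one_of_lt_orderOf (Nat.pos_iff_ne_zero.mp hi0) hiP
    have hymem : x ^ i ∈ Subgroup.zpowers x := Subgroup.npow_mem_zpowers x i
    have hcen : g ∈ Subgroup.centralizer ({x ^ i} : Set G) := by
      rw [Subgroup.mem_centralizer_iff]
      intro h hh
      rw [Set.mem_singleton_iff.mp hh]
      exact mul_inv_eq_iff_eq_mul.mp hfix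
    rw [hC _ hymem hy1] at hcen
    obtain ⟨a', ha'⟩ := hQ ⟨g, hg.1⟩
    have hga : g ^ (q ^ a') = 1 := by
      have := congrArg Subtype.val ha'
      simpa using this
    obtain ⟨k, hk⟩ := hx ⟨x, Subgroup.mem_zpowers x⟩
    have hxk : x ^ (p ^ k) = 1 := by
      have := congrArg Subtype.val hk
      simpa using this
    exact hg.2 (mem_center_of_mem_sup p q hpq x g k a' hxk hga hcen)
  obtain ⟨T', hT'⟩ := HHB2.free_cyclic_sum perm (orderOf x) (orderOf_pos x) hpermP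
    (LinearMap.mulLeft K (ρ x) * LinearMap.mulRight K (ρ x⁻¹)) F hFperm _ hSinv hfree
  obtain ⟨lam, hlam⟩ := hZsum
  refine ⟨lam, T', ?_⟩
  calc T = ∑ h : Q, F h.1 := hTsum
    _ = ∑ g ∈ Qf, F g := hsum2
    _ = ∑ g ∈ Qf.filter (· ∈ Subgroup.center G), F g
        + ∑ g ∈ Qf.filter (fun g => ¬ g ∈ Subgroup.center G), F g := hsplit.symm
    _ = _ := by rw [hlam, hT']

end Cfsg.Agent.Lib.Helper3.HHB4
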