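import Mathlib

/-!
# Hall–Higman critical case, part 5: a nilpotent endomorphism whose commutant is scalar
modulo its image is a single Jordan block.
-/

namespace Cfsg.Agent.Lib.Helper3.HHB5

open Module

theorem finrank_eq_of_commutant {K : Type*} [Field K] {V : Type*} [AddCommGroup V] [Module K V]
    [FiniteDimensional K V]
    (u : Module.End K V) (t : ℕ) (hs : u ^ (t + 1) = 0) (hs1 : u ^ t ≠ 0)
    (hcomm : ∀ S : Module.End K V, S * u = u * S →
      ∃ (lam : K) (Z : Module.End K V), S = lam • (1 : Module.End K V) + u * Z) :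
    Module.finrank K V = t + 1 := by
  obtain ⟨v, hv⟩ : ∃ v, (u ^ t) v ≠ 0 := by
    by_contra h
    push Not at h
    exact hs1 (LinearMap.ext (fun v => by simpa using h v))
  obtain ⟨φ₀, hφ₀⟩ : ∃ φ : Module.Dual K V, φ ((u ^ t) v) ≠ 0 := by
    by_contra h
    push Not at h
    exact hv ((Module.forall_dual_apply_eq_zero_iff K _).mp h)
  let φ : Module.Dual K V := (φ₀ ((u ^ t) v))⁻¹ • φ₀
  have hφ : φ ((u ^ t) v) = 1 := by
    simp only [φ, LinearMap.smul_apply, smul_eq_mul]
    exact inv_mul_cancel₀ hφ₀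
  let S : Module.End K V :=
    ∑ i ∈ Finset.range (t + 1), (φ.comp (u ^ (t - i))).smulRight ((u ^ i) v)
  have hSapp : ∀ w, S w = ∑ i ∈ Finset.range (t + 1), φ ((u ^ (t - i)) w) • (u ^ i) v := by
    intro w; simp [S, LinearMap.sum_apply]
  have hupow : ∀ (k : ℕ) (w : V), (u ^ (k + 1)) w = u ((u ^ k) w) := by
    intro k w; rw [pow_succ', Module.End.mul_apply]
  have hupow' : ∀ (k : ℕ) (w : V), (u ^ (k + 1)) w = (u ^ k) (u w) := by
    intro k w; rw [pow_succ, Module.End.mul_apply]
  have hzero : ∀ w, (u ^ (t + 1)) w = 0 := by intro w; rw [hs]; rfl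
  have hSu : S * u = u * S := by
    ext w
    rw [Module.End.mul_apply, Module.End.mul_apply, hSapp, hSapp, map_sum]
    rw [Finset.sum_range_succ', Finset.sum_range_succ]
    have e1 : φ ((u ^ (t - 0)) (u w)) = 0 := by
      rw [Nat.sub_zero, ← hupow', hzero, map_zero]
    have e2 : u (φ ((u ^ (t - t)) w) • (u ^ t) v) = 0 := by
      rw [map_smul, ← hupow, hzero, smul_zero]
    rw [e1, e2, zero_smul, add_zero, add_zero]
    refine Finset.sum_congr rfl (fun i hi => ?_)
    have hi' := Finset.mem_range.mp hi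
    have e3 : (u ^ (t - (i + 1))) (u w) = (u ^ (t - i)) w := by
      rw [← hupow']
      have : t - (i + 1) + 1 = t - i := by omega
      rw [this]
    rw [e3, map_smul, ← hupow]
  obtain ⟨lam, Z, hSZ⟩ := hcomm S hSu
  let r : V → V := fun w => ∑ i ∈ Finset.range t, φ ((u ^ (t - (i + 1))) w) • (u ^ i) v
  have hur : ∀ w, u (r w) = ∑ i ∈ Finset.range t, φ ((u ^ (t - (i + 1))) w) • (u ^ (i + 1)) v := by
    intro w
    show u (∑ i ∈ Finset.range t, φ ((u ^ (t - (i + 1))) w) • (u ^ i) v) = _
    rw [map_sum]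
    refine Finset.sum_congr rfl (fun i _ => ?_)
    rw [map_smul, ← hupow]
  have hSw : ∀ w, S w = φ ((u ^ t) w) • v + u (r w) := by
    intro w
    rw [hSapp, Finset.sum_range_succ', hur, add_comm]
    simp
  have hSw2 : ∀ w, S w = lam • w + u (Z w) := by
    intro w; rw [hSZ]; simp
  have hvnot : ∀ z, u z ≠ v := by
    intro z hz
    apply hv
    rw [← hz, ← hupow', hzero]
  have hlam : lam = 1 := by
    by_contra hne
    have h1 := (hSw v).symm.trans (hSw2 v)
    rw [hφ, one_smul] at h1
    have h2 : (1 - lam) • v = u (Z v - r v) := by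
      rw [map_sub, sub_smul, one_smul, sub_eq_sub_iff_add_eq_add, h1, add_comm]
    have hne' : (1 - lam) ≠ 0 := sub_ne_zero.mpr (Ne.symm hne)
    apply hvnot ((1 - lam)⁻¹ • (Z v - r v))
    rw [map_smul, ← h2, smul_smul, inv_mul_cancel₀ hne', one_smul]
  have hdec : ∀ w, w = φ ((u ^ t) w) • v + u (r w - Z w) := by
    intro w
    have h1 := (hSw w).symm.trans (hSw2 w)
    rw [hlam, one_smul] at h1
    rw [map_sub, ← add_sub_assoc, h1, add_sub_cancel_right]
  let L : Submodule K V := Submodule.span K (Set.range (fun i : Fin (t + 1) => (u ^ (i : ℕ)) v))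
  have hLmem : ∀ k : ℕ, (u ^ k) v ∈ L := by
    intro k
    by_cases hk : k < t + 1
    · exact Submodule.subset_span ⟨⟨k, hk⟩, rfl⟩
    · have : u ^ k = 0 := pow_eq_zero_of_le (not_lt.mp hk) hs
      rw [this]; exact L.zero_mem
  have hstep : ∀ (k : ℕ) (w : V), ∃ l ∈ L, ∃ z, w = l + (u ^ k) z := by
    intro k
    induction k with
    | zero => intro w; exact ⟨0, L.zero_mem, w, by simp⟩
    | succ k ih =>
      intro w
      obtain ⟨l, hl, z, hz⟩ := ih w
      refine ⟨l + φ ((u ^ t) z) • (u ^ k) v, L.add_mem hl (L.smul_mem _ (hLmem k)),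
        r z - Z z, ?_⟩
      have hz2 := hdec z
      rw [hupow', add_assoc, ← map_smul, ← map_add, ← hz2]
      exact hz
  have hLtop : L = ⊤ := by
    rw [eq_top_iff]
    intro w _
    obtain ⟨l, hl, z, hz⟩ := hstep (t + 1) w
    rw [hzero, add_zero] at hz
    rw [hz]; exact hl
  have hle : finrank K V ≤ t + 1 := by
    have h1 : finrank K L ≤ t + 1 := by
      have := finrank_range_le_card (R := K) (fun i : Fin (t + 1) => (u ^ (i : ℕ)) v)
      rw [Fintype.card_fin] at this
      exact this
    have h2 : finrank K V = finrank K L := by rw [hLtop, finrank_top]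
    omega
  have hge : t + 1 ≤ finrank K V := by
    by_contra hlt
    have hlt' : finrank K V ≤ t := by omega
    have hch : LinearMap.charpoly u = Polynomial.X ^ finrank K V :=
      ((LinearMap.charpoly_nilpotent_tfae u).out 0 1).mp (show IsNilpotent u from ⟨t + 1, hs⟩)
    have h0 := LinearMap.aeval_self_charpoly u
    rw [hch, map_pow, Polynomial.aeval_X] at h0
    exact hs1 (pow_eq_zero_of_le hlt' h0)
  omega

end Cfsg.Agent.Lib.Helper3.HHB5
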