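import Mathlib
import Cfsg.Agent.Lib.Helper3.HHB3

/-!
# Hall–Higman critical case, part 7: the norm map on endomorphisms.
-/

namespace Cfsg.Agent.Lib.Helper3.HHB7

open Module

theorem norm_left_div {K : Type*} [Field K] (p : ℕ) [Fact p.Prime] [CharP K p] (n : ℕ)
    {V : Type*} [AddCommGroup V] [Module K V]
    (X X' : Module.End K V) (hXX' : X * X' = 1) (hX'X : X' * X = 1) (s : ℕ)
    (hs : (X - 1) ^ s = 0) (hsP : s < p ^ n) (T' : Module.End K V) :
    ∃ Z' : Module.End K V,
      ∑ i ∈ Finset.range (p ^ n), ((LinearMap.mulLeft K X * LinearMap.mulRight K X') ^ i) T'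
        = (X - 1) ^ (p ^ n - s) * Z' := by
  have hαβ : Commute (LinearMap.mulLeft K X) (LinearMap.mulRight K X') :=
    LinearMap.commute_mulLeft_right _ _
  have hα1 : ∀ (k : ℕ) (S : Module.End K V),
      ((LinearMap.mulLeft K X - 1) ^ k) S = (X - 1) ^ k * S := by
    intro k
    induction k with
    | zero => intro S; simp
    | succ k ih =>
      intro S
      rw [pow_succ, Module.End.mul_apply, ih, pow_succ, mul_assoc]
      congr 1 <;> simp [sub_mul]
  have hβ1 : ∀ (k : ℕ) (S : Module.End K V),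
      ((LinearMap.mulRight K X' - 1) ^ k) S = S * (X' - 1) ^ k := by
    intro k
    induction k with
    | zero => intro S; simp
    | succ k ih =>
      intro S
      rw [pow_succ, Module.End.mul_apply, ih, pow_succ', ← mul_assoc]
      congr 1 <;> simp [mul_sub]
  have hu' : (X' - 1) ^ s = 0 := by
    have e : X' - 1 = (-X') * (X - 1) := by
      rw [mul_sub, mul_one, neg_mul, hX'X]; abel
    have h1 : Commute X' X := by
      show X' * X = X * X'
      rw [hX'X, hXX']
    have hc : Commute (-X') (X - 1) := (h1.sub_right (Commute.one_right _)).neg_left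
    rw [e, hc.mul_pow, hs, mul_zero]
  have hβs : (LinearMap.mulRight K X' - 1) ^ s = 0 := by
    refine LinearMap.ext (fun S => ?_)
    rw [hβ1, hu', mul_zero]; rfl
  obtain ⟨Z, hZ⟩ := HHB3.geom_sum_left_div (K := K) p n (LinearMap.mulLeft K X)
    (LinearMap.mulRight K X') hαβ s hβs hsP
  refine ⟨Z T', ?_⟩
  have h2 := congrArg (fun A : Module.End K (Module.End K V) => A T') hZ
  simp only [LinearMap.sum_apply] at h2
  rw [h2, Module.End.mul_apply, hα1]

theorem no_decomp {K : Type*} [Field K] {A : Type*} [Ring A] [Algebra K A] (u Z : A) (lam : K)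
    (s k : ℕ) (hs1 : 1 ≤ s) (hs : u ^ s = 0) (hmin : u ^ (s - 1) ≠ 0) (hk : 1 ≤ k)
    (h : u = lam • (1 : A) + u ^ k * Z) : lam = 0 := by
  by_contra hne
  have h1 : u ^ (s - 1) * u = 0 := by rw [← pow_succ, Nat.sub_add_cancel hs1, hs]
  have h2 : u ^ (s - 1) * (lam • (1 : A) + u ^ k * Z) = 0 := by rw [← h]; exact h1
  rw [mul_add, mul_smul_comm, mul_one, ← mul_assoc, ← pow_add,
    pow_eq_zero_of_le (by omega : s ≤ s - 1 + k) hs, zero_mul, add_zero] at h2
  exact hmin ((smul_eq_zero.mp h2).resolve_left hne)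

theorem no_decomp2 {A : Type*} [Ring A] (u Z : A) (s k : ℕ) (hs2 : 2 ≤ s) (hs : u ^ s = 0)
    (hmin : u ^ (s - 1) ≠ 0) (hk : 2 ≤ k) (h : u = u ^ k * Z) : False := by
  apply hmin
  have h1 : u ^ (s - 1) = u ^ (s - 2) * u := by
    rw [← pow_succ]; congr 1; omega
  have h2 : u ^ (s - 2) * u = u ^ (s - 2) * (u ^ k * Z) := by rw [← h]
  rw [h1, h2, ← mul_assoc, ← pow_add, pow_eq_zero_of_le (by omega : s ≤ s - 2 + k) hs, zero_mul]

end Cfsg.Agent.Lib.Helper3.HHB7
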