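import Mathlib
import Cfsg.Agent.Lib.Helper3.HHB1
import Cfsg.Agent.Lib.Helper3.HHB2
import Cfsg.Agent.Lib.Helper3.HHB3
import Cfsg.Agent.Lib.Helper3.HHB5
import Cfsg.Agent.Lib.Helper3.HHB6
import Cfsg.Agent.Lib.Helper3.HHB7

/-!
# Hall–Higman Theorem B, part 3: the critical case in "automorphism" form.
-/

namespace Cfsg.Agent.Lib.Helper3.HHC3

open Module

theorem key_decomp_aut {Q : Type*} [Group Q] [Finite Q] (p q : ℕ) [Fact p.Prime] [Fact q.Prime]
    (hpq : p ≠ q) (hQ : IsPGroup q Q)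
    {K : Type*} [Field K] [IsAlgClosed K] [CharP K p] {W : Type*} [AddCommGroup W] [Module K W]
    [FiniteDimensional K W] [Nontrivial W] (σ : Representation K Q W)
    (hirr : ∀ U : Submodule K W, (∀ g, Submodule.map (σ g) U ≤ U) → U = ⊥ ∨ U = ⊤)
    (X X' : Module.End K W) (hXX' : X * X' = 1) (hX'X : X' * X = 1) (φ : MulAut Q)
    (hcompat : ∀ g, X * σ g = σ (φ g) * X) (P : ℕ) (hP0 : 0 < P) (hφP : φ ^ P = 1)
    (hfree : ∀ i, 0 < i → i < P → ∀ g, (φ ^ i) g = g → ∃ μ : K, σ g = μ • (1 : Module.End K W))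
    (T : Module.End K W) (hT : T * X = X * T) :
    ∃ (lam : K) (T' : Module.End K W), T = lam • (1 : Module.End K W) +
      ∑ i ∈ Finset.range P, ((LinearMap.mulLeft K X * LinearMap.mulRight K X') ^ i) T' := by
  classical
  haveI : Fintype Q := Fintype.ofFinite Q
  have hp : p.Prime := Fact.out
  have hq : q.Prime := Fact.out
  have hqK : (q : K) ≠ 0 := by
    intro h
    exact hpq ((Nat.prime_dvd_prime_iff_eq hp hq).mp ((CharP.cast_eq_zero_iff K p q).mp h))
  obtain ⟨m, hm⟩ := IsPGroup.iff_card.mp hQ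
  have hcardK : (Fintype.card Q : K) ≠ 0 := by
    rw [← Nat.card_eq_fintype_card, hm, Nat.cast_pow]
    exact pow_ne_zero _ hqK
  have hF := HHB1.fourier σ hirr T
  obtain ⟨κ, hκ⟩ : ∃ κ : K, κ = (Fintype.card Q : K)⁻¹ * (finrank K W : K) := ⟨_, rfl⟩
  have hT1 : T = κ • ∑ h : Q, (LinearMap.trace K W (T * σ h⁻¹)) • σ h := by
    rw [hκ, ← smul_smul, hF, smul_smul, inv_mul_cancel₀ hcardK, one_smul]
  let a : Q → K := fun g => κ * LinearMap.trace K W (T * σ g⁻¹)
  let F : Q → Module.End K W := fun g => a g • σ g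
  have hTsum : T = ∑ g : Q, F g := by
    conv_lhs => rw [hT1]
    rw [Finset.smul_sum]
    refine Finset.sum_congr rfl (fun h _ => ?_)
    rw [smul_smul]
  have hsplit := Finset.sum_filter_add_sum_filter_not (Finset.univ : Finset Q)
    (fun g => ∃ μ : K, σ g = μ • (1 : Module.End K W)) F
  have hZsum : ∃ lam : K,
      ∑ g ∈ (Finset.univ : Finset Q).filter (fun g => ∃ μ : K, σ g = μ • (1 : Module.End K W)),
        F g = lam • (1 : Module.End K W) := by
    have hmem : ∑ g ∈ (Finset.univ : Finset Q).filter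
        (fun g => ∃ μ : K, σ g = μ • (1 : Module.End K W)), F g
        ∈ Submodule.span K {(1 : Module.End K W)} := by
      refine Submodule.sum_mem _ (fun g hg => ?_)
      obtain ⟨μ, hμ⟩ := (Finset.mem_filter.mp hg).2
      show a g • σ g ∈ _
      rw [hμ, smul_smul]
      exact Submodule.smul_mem _ _ (Submodule.mem_span_singleton_self _)
    obtain ⟨lam, hlam⟩ := Submodule.mem_span_singleton.mp hmem
    exact ⟨lam, hlam.symm⟩
  let perm : Equiv.Perm Q := MulAut.toPerm Q φ
  have hperm_pow : ∀ (i : ℕ) (g : Q), (perm ^ i) g = (φ ^ i) g := by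
    intro i g
    have : perm ^ i = MulAut.toPerm Q (φ ^ i) := by rw [map_pow]
    rw [this]; rfl
  have hσφ : ∀ g, σ (φ g) = X * σ g * X' := by
    intro g
    rw [hcompat, mul_assoc, hXX', mul_one]
  have hcapp : ∀ S : Module.End K W,
      (LinearMap.mulLeft K X * LinearMap.mulRight K X') S = X * S * X' := by
    intro S
    rw [Module.End.mul_apply, LinearMap.mulRight_apply, LinearMap.mulLeft_apply, mul_assoc]
  have hFperm : ∀ g, F (perm g) = (LinearMap.mulLeft K X * LinearMap.mulRight K X') (F g) := by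
    intro g
    have hpg : perm g = φ g := rfl
    rw [hpg, hcapp]
    show a (φ g) • σ (φ g) = X * (a g • σ g) * X'
    have ha : a (φ g) = a g := by
      show κ * LinearMap.trace K W (T * σ (φ g)⁻¹) = κ * LinearMap.trace K W (T * σ g⁻¹)
      congr 1
      rw [← map_inv, hσφ]
      have e2 : T * (X * σ g⁻¹ * X') = X * (T * σ g⁻¹ * X') := by
        calc T * (X * σ g⁻¹ * X') = (T * X) * σ g⁻¹ * X' := by simp only [mul_assoc]
          _ = (X * T) * σ g⁻¹ * X' := by rw [hT]
          _ = X * (T * σ g⁻¹ * X') := by simp only [mul_assoc]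
      rw [e2, LinearMap.trace_mul_comm, mul_assoc, hX'X, mul_one]
    rw [ha, hσφ, mul_smul_comm, smul_mul_assoc]
  have hpermP : perm ^ P = 1 := by
    ext g
    rw [hperm_pow, hφP]
    rfl
  have hSinv : ∀ g ∈ (Finset.univ : Finset Q).filter
      (fun g => ¬ ∃ μ : K, σ g = μ • (1 : Module.End K W)),
      perm g ∈ (Finset.univ : Finset Q).filter
        (fun g => ¬ ∃ μ : K, σ g = μ • (1 : Module.End K W)) := by
    intro g hg
    simp only [Finset.mem_filter, Finset.mem_univ, true_and] at hg ⊢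
    rintro ⟨μ, hμ⟩
    apply hg
    refine ⟨μ, ?_⟩
    have hpg : perm g = φ g := rfl
    rw [hpg, hσφ] at hμ
    calc σ g = X' * (X * σ g * X') * X := by
          rw [mul_assoc, mul_assoc, hX'X, mul_one, ← mul_assoc, hX'X, one_mul]
      _ = X' * (μ • (1 : Module.End K W)) * X := by rw [hμ]
      _ = μ • (1 : Module.End K W) := by
          rw [mul_smul_comm, mul_one, smul_mul_assoc, hX'X]
  have hfree' : ∀ i, 0 < i → i < P →
      ∀ g ∈ (Finset.univ : Finset Q).filter
        (fun g => ¬ ∃ μ : K, σ g = μ • (1 : Module.End K W)), (perm ^ i) g ≠ g := by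
    intro i hi0 hiP g hg hfix
    simp only [Finset.mem_filter, Finset.mem_univ, true_and] at hg
    rw [hperm_pow] at hfix
    exact hg (hfree i hi0 hiP g hfix)
  obtain ⟨T', hT'⟩ := HHB2.free_cyclic_sum perm P hP0 hpermP
    (LinearMap.mulLeft K X * LinearMap.mulRight K X') F hFperm _ hSinv hfree'
  obtain ⟨lam, hlam⟩ := hZsum
  refine ⟨lam, T', ?_⟩
  calc T = ∑ g : Q, F g := hTsum
    _ = _ := hsplit.symm
    _ = _ := by rw [hlam, hT']

/-- The critical case. -/
theorem crit {Q : Type*} [Group Q] [Finite Q] (p q : ℕ) [Fact p.Prime] [Fact q.Prime]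
    (hpq : p ≠ q) (hQ : IsPGroup q Q)
    {K : Type*} [Field K] [IsAlgClosed K] [CharP K p] {W : Type*} [AddCommGroup W] [Module K W]
    [FiniteDimensional K W] [Nontrivial W] (σ : Representation K Q W)
    (hirr : ∀ U : Submodule K W, (∀ g, Submodule.map (σ g) U ≤ U) → U = ⊥ ∨ U = ⊤)
    (X X' : Module.End K W) (hXX' : X * X' = 1) (hX'X : X' * X = 1) (φ : MulAut Q)
    (hcompat : ∀ g, X * σ g = σ (φ g) * X) (n : ℕ) (hφP : φ ^ (p ^ n) = 1)
    (hfree : ∀ i, 0 < i → i < p ^ n → ∀ g, (φ ^ i) g = g →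
      ∃ μ : K, σ g = μ • (1 : Module.End K W))
    (s : ℕ) (hs : (X - 1) ^ s = 0) (hmin : ∀ k < s, (X - 1) ^ k ≠ 0) :
    (p ^ n - 1 ≤ s ∨ X = 1) ∧ (s = p ^ n - 1 → ∃ b : ℕ, p ^ n - 1 = q ^ b) := by
  have hP0 : 0 < p ^ n := pow_pos (Fact.out : p.Prime).pos n
  have h10 : (1 : Module.End K W) ≠ 0 := by
    intro h
    obtain ⟨w, hw⟩ := exists_ne (0 : W)
    apply hw
    have := congrArg (fun A : Module.End K W => A w) h
    simpa using this
  have hs0 : s ≠ 0 := by
    rintro rfl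
    rw [pow_zero] at hs
    exact h10 hs
  have hs1 : 1 ≤ s := Nat.pos_of_ne_zero hs0
  have hucomm : (X - 1) * X = X * (X - 1) := by
    rw [sub_mul, mul_sub, one_mul, mul_one]
  have hdecomp := key_decomp_aut p q hpq hQ σ hirr X X' hXX' hX'X φ hcompat (p ^ n) hP0 hφP hfree
  have hN : s < p ^ n → ∀ T' : Module.End K W, ∃ Z' : Module.End K W,
      ∑ i ∈ Finset.range (p ^ n),
        ((LinearMap.mulLeft K X * LinearMap.mulRight K X') ^ i) T'
        = (X - 1) ^ (p ^ n - s) * Z' :=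
    fun hlt T' => HHB7.norm_left_div (K := K) p n X X' hXX' hX'X s hs hlt T'
  constructor
  · by_contra hcon
    push Not at hcon
    obtain ⟨hlt, hX1⟩ := hcon
    have hlt' : s < p ^ n := by omega
    obtain ⟨lam, T', hT'⟩ := hdecomp (X - 1) hucomm
    obtain ⟨Z', hZ'⟩ := hN hlt' T'
    rw [hZ'] at hT'
    have hlam : lam = 0 :=
      HHB7.no_decomp (X - 1) Z' lam s (p ^ n - s) hs1 hs (hmin (s - 1) (by omega)) (by omega) hT'
    rw [hlam, zero_smul, zero_add] at hT'
    rcases Nat.lt_or_ge s 2 with h2 | h2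
    · have hs_one : s = 1 := by omega
      apply hX1
      rw [hs_one, pow_one] at hs
      exact sub_eq_zero.mp hs
    · exact HHB7.no_decomp2 (X - 1) Z' s (p ^ n - s) h2 hs (hmin (s - 1) (by omega)) (by omega) hT'
  · intro hsP1
    have hlt' : s < p ^ n := by omega
    have hPs : p ^ n - s = 1 := by omega
    have hcomm : ∀ S : Module.End K W, S * (X - 1) = (X - 1) * S →
        ∃ (lam : K) (Z : Module.End K W), S = lam • (1 : Module.End K W) + (X - 1) * Z := by
      intro S hS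
      have hS' : S * X = X * S := by
        have h1 : S * (X - 1) + S = (X - 1) * S + S := by rw [hS]
        rw [mul_sub, sub_mul, mul_one, one_mul, sub_add_cancel, sub_add_cancel] at h1
        exact h1
      obtain ⟨lam, T', hT'⟩ := hdecomp S hS'
      obtain ⟨Z', hZ'⟩ := hN hlt' T'
      rw [hPs, pow_one] at hZ'
      exact ⟨lam, Z', by rw [← hZ']; exact hT'⟩
    obtain ⟨t, ht⟩ : ∃ t, s = t + 1 := ⟨s - 1, by omega⟩
    have hfin : Module.finrank K W = s := by
      rw [ht]
      exact HHB5.finrank_eq_of_commutant (X - 1) t (by rw [← ht]; exact hs)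
        (hmin t (by omega)) hcomm
    obtain ⟨b, hb⟩ := HHB6.finrank_prime_pow q σ hQ hirr
    exact ⟨b, by rw [← hsP1, ← hfin, hb]⟩

end Cfsg.Agent.Lib.Helper3.HHC3
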