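import Mathlib
import Cfsg.Agent.Lib.Helper3.HHC1

/-!
# Hall–Higman Theorem B, part 7: the three reduction steps (faithful action, minimal `Q`,
minimal `W`).
-/

namespace Cfsg.Agent.Lib.Helper3.HHC7

open Module Cfsg.Agent.Lib.Helper3.HHC1

universe u v w

/-- Step A: pass to the quotient by the kernel of the representation. -/
theorem stepA (p q n : ℕ) {K : Type w} [Field K] {Q : Type u} [Group Q] [Finite Q] {W : Type v}
    [AddCommGroup W] [Module K W] (σ : Representation K Q W) (X X' : Module.End K W)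
    (φ : MulAut Q)
    (IH : ∀ (Q' : Type u) [Group Q'] [Finite Q'] (σ' : Representation K Q' W) (φ' : MulAut Q'),
      Nat.card Q' < Nat.card Q → Good p q n Q' W σ' X X' φ')
    (hnf : ¬ Function.Injective σ) : Good p q n Q W σ X X' φ := by
  intro hQ hXX' hX'X hcompat hXP hNT
  have hNmem : ∀ g, g ∈ σ.ker ↔ σ g = 1 := fun g => MonoidHom.mem_ker
  have hNne : σ.ker ≠ ⊥ := by
    intro hbot
    apply hnf
    intro a b hab
    have : a⁻¹ * b ∈ σ.ker := by
      rw [hNmem, map_mul, ← hab, ← map_mul, inv_mul_cancel, map_one]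
    rw [hbot, Subgroup.mem_bot] at this
    exact inv_mul_eq_one.mp this
  have hσφ : ∀ g, σ (φ g) = X * σ g * X' := by
    intro g; rw [hcompat, mul_assoc, hXX', mul_one]
  have hmap : σ.ker.map (φ : Q →* Q) = σ.ker := by
    ext h
    rw [Subgroup.mem_map, hNmem]
    constructor
    · rintro ⟨g, hg, rfl⟩
      rw [hNmem] at hg
      show σ (φ g) = 1
      rw [hσφ, hg, mul_one, hXX']
    · intro hh
      refine ⟨φ⁻¹ h, ?_, MulAut.apply_inv_self _ φ h⟩
      rw [hNmem]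
      have h1 := hσφ (φ⁻¹ h)
      rw [MulAut.apply_inv_self, hh] at h1
      have h2 : X' * (X * σ (φ⁻¹ h) * X') * X = σ (φ⁻¹ h) := by
        rw [mul_assoc, mul_assoc, hX'X, mul_one, ← mul_assoc, hX'X, one_mul]
      rw [← h2, ← h1, mul_one, hX'X]
  obtain ⟨σ', hσ'def⟩ : ∃ σ' : Representation K (Q ⧸ σ.ker) W,
      σ' = QuotientGroup.lift σ.ker σ le_rfl := ⟨_, rfl⟩
  obtain ⟨φ', hφ'def⟩ : ∃ φ' : MulAut (Q ⧸ σ.ker),
      φ' = QuotientGroup.congr σ.ker σ.ker φ hmap := ⟨_, rfl⟩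
  have hσ' : ∀ g : Q, σ' (g : Q ⧸ σ.ker) = σ g := by
    intro g; rw [hσ'def]; exact QuotientGroup.lift_mk _ _ g
  have hφ' : ∀ g : Q, φ' (g : Q ⧸ σ.ker) = ((φ g : Q) : Q ⧸ σ.ker) := by
    intro g; rw [hφ'def]; exact QuotientGroup.congr_mk _ _ _ _ g
  have hφ'pow : ∀ (k : ℕ) (g : Q),
      (φ' ^ k) (g : Q ⧸ σ.ker) = (((φ ^ k) g : Q) : Q ⧸ σ.ker) := by
    intro k
    induction k with
    | zero => intro g; rfl
    | succ k ih =>
      intro g
      rw [pow_succ', MulAut.mul_apply, ih, hφ', pow_succ', MulAut.mul_apply]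
  have hcard : Nat.card (Q ⧸ σ.ker) < Nat.card Q := by
    have h1 := Subgroup.card_eq_card_quotient_mul_card_subgroup σ.ker
    have h2 : 1 < Nat.card σ.ker := (Subgroup.one_lt_card_iff_ne_bot _).mpr hNne
    have h3 : 0 < Nat.card (Q ⧸ σ.ker) := Nat.card_pos
    nlinarith
  have hcompat' : ∀ g, X * σ' g = σ' (φ' g) * X := by
    intro g
    refine QuotientGroup.induction_on g (fun g => ?_)
    rw [hφ', hσ', hσ']; exact hcompat g
  have hNT' : ∃ g, σ' ((φ' ^ (p ^ n)) g) ≠ σ' g := by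
    obtain ⟨g, hg⟩ := hNT
    exact ⟨(g : Q ⧸ σ.ker), by rw [hφ'pow, hσ', hσ']; exact hg⟩
  have hres := IH (Q ⧸ σ.ker) σ' φ' hcard (hQ.to_quotient σ.ker) hXX' hX'X hcompat' hXP hNT'
  refine hres.mono (fun hnab hab => hnab ?_)
  intro a b
  refine QuotientGroup.induction_on a (fun a => ?_)
  refine QuotientGroup.induction_on b (fun b => ?_)
  rw [← QuotientGroup.mk_mul, ← QuotientGroup.mk_mul, hab]

/-- Step B: pass to an invariant subgroup. -/
theorem stepB (p q n : ℕ) {K : Type w} [Field K] {Q : Type u} [Group Q] [Finite Q] {W : Type v}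
    [AddCommGroup W] [Module K W] (σ : Representation K Q W) (X X' : Module.End K W)
    (φ : MulAut Q)
    (IH : ∀ (Q' : Type u) [Group Q'] [Finite Q'] (σ' : Representation K Q' W) (φ' : MulAut Q'),
      Nat.card Q' < Nat.card Q → Good p q n Q' W σ' X X' φ')
    (Q₁ : Subgroup Q) (hne : Q₁ ≠ ⊤) (hφ : ∀ g ∈ Q₁, φ g ∈ Q₁)
    (hnt : ∃ g ∈ Q₁, σ ((φ ^ (p ^ n)) g) ≠ σ g) : Good p q n Q W σ X X' φ := by
  intro hQ hXX' hX'X hcompat hXP _
  have hmap : Q₁.map (φ : Q →* Q) = Q₁ := by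
    apply Subgroup.eq_of_le_of_card_ge
    · rintro _ ⟨g, hg, rfl⟩
      exact hφ g hg
    · exact le_of_eq (Subgroup.card_map_of_injective φ.injective).symm
  obtain ⟨φ₁, hφ₁def⟩ : ∃ φ₁ : MulAut Q₁,
      φ₁ = (φ.subgroupMap Q₁).trans (MulEquiv.subgroupCongr hmap) := ⟨_, rfl⟩
  have hφ₁ : ∀ g : Q₁, ((φ₁ g : Q₁) : Q) = φ g := by
    intro g; rw [hφ₁def]; rfl
  have hφ₁pow : ∀ (k : ℕ) (g : Q₁), (((φ₁ ^ k) g : Q₁) : Q) = (φ ^ k) g := by
    intro k
    induction k with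
    | zero => intro g; rfl
    | succ k ih =>
      intro g
      rw [pow_succ', MulAut.mul_apply, hφ₁, ih, pow_succ', MulAut.mul_apply]
  have hcard : Nat.card Q₁ < Nat.card Q :=
    lt_of_le_of_ne (Subgroup.card_le_card_group Q₁) (fun h => hne (Subgroup.eq_top_of_card_eq Q₁ h))
  have hcompat' : ∀ g : Q₁, X * (σ.comp Q₁.subtype) g = (σ.comp Q₁.subtype) (φ₁ g) * X := by
    intro g
    show X * σ g.1 = σ (φ₁ g).1 * X
    rw [hφ₁]; exact hcompat g.1
  have hNT' : ∃ g : Q₁, (σ.comp Q₁.subtype) ((φ₁ ^ (p ^ n)) g) ≠ (σ.comp Q₁.subtype) g := by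
    obtain ⟨g, hg, hne'⟩ := hnt
    refine ⟨⟨g, hg⟩, ?_⟩
    show σ (((φ₁ ^ (p ^ n)) ⟨g, hg⟩ : Q₁) : Q) ≠ σ g
    rw [hφ₁pow]; exact hne'
  have hres := IH Q₁ (σ.comp Q₁.subtype) φ₁ hcard (hQ.to_subgroup Q₁) hXX' hX'X hcompat' hXP hNT'
  exact hres.mono (fun hnab hab => hnab (fun a b => Subtype.ext (hab a b)))

/-- Step C: pass to an invariant subspace. -/
theorem stepC (p q n : ℕ) {K : Type w} [Field K] {Q : Type u} [Group Q] {W : Type v}
    [AddCommGroup W] [Module K W] [FiniteDimensional K W] (σ : Representation K Q W)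
    (X X' : Module.End K W) (φ : MulAut Q)
    (IH : ∀ (W' : Type v) [AddCommGroup W'] [Module K W'] [FiniteDimensional K W']
      (σ' : Representation K Q W') (X₁ X₁' : Module.End K W'),
      finrank K W' < finrank K W → Good p q n Q W' σ' X₁ X₁' φ)
    (U : Submodule K W) (hU : U ≠ ⊤) (hσU : ∀ g, ∀ w ∈ U, σ g w ∈ U) (hXU : ∀ w ∈ U, X w ∈ U)
    (hX'U : ∀ w ∈ U, X' w ∈ U)
    (hnt : ∃ g, ∃ w ∈ U, σ ((φ ^ (p ^ n)) g) w ≠ σ g w) : Good p q n Q W σ X X' φ := by
  intro hQ hXX' hX'X hcompat hXP _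
  have hlt : finrank K U < finrank K W := Submodule.finrank_lt hU
  have h1 : (X.restrict hXU : Module.End K U) * X'.restrict hX'U = 1 := by
    refine LinearMap.ext (fun w => Subtype.ext ?_)
    show X (X' (w : W)) = (w : W)
    rw [← Module.End.mul_apply, hXX']; rfl
  have h2 : (X'.restrict hX'U : Module.End K U) * X.restrict hXU = 1 := by
    refine LinearMap.ext (fun w => Subtype.ext ?_)
    show X' (X (w : W)) = (w : W)
    rw [← Module.End.mul_apply, hX'X]; rfl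
  have h3 : ∀ g, (X.restrict hXU : Module.End K U) * resRep σ U hσU g
      = resRep σ U hσU (φ g) * X.restrict hXU := by
    intro g
    refine LinearMap.ext (fun w => Subtype.ext ?_)
    show X (σ g (w : W)) = σ (φ g) (X (w : W))
    have := congrArg (fun A : Module.End K W => A (w : W)) (hcompat g)
    simpa using this
  have h4 : (X.restrict hXU : Module.End K U) ^ (p ^ (n + 1)) = 1 := by
    refine LinearMap.ext (fun w => Subtype.ext ?_)
    rw [restrict_pow_coe, hXP]; rfl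
  have h5 : ∃ g, resRep σ U hσU ((φ ^ (p ^ n)) g) ≠ resRep σ U hσU g := by
    obtain ⟨g, w, hw, hne⟩ := hnt
    refine ⟨g, fun h => hne ?_⟩
    have := congrArg (fun A : Module.End K U => ((A ⟨w, hw⟩ : U) : W)) h
    exact this
  have hres := IH U (resRep σ U hσU) (X.restrict hXU) (X'.restrict hX'U) hlt hQ h1 h2 h3 h4 h5
  have htr : ∀ k, ((X.restrict hXU : Module.End K U) - 1) ^ k ≠ 0 → (X - 1) ^ k ≠ 0 := by
    intro k hk h0
    apply hk
    refine LinearMap.ext (fun w => Subtype.ext ?_)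
    rw [restrict_sub_one_pow, h0]; rfl
  rcases hres with h | ⟨n₀, m, e1, e2, e3, e4, e5, e6⟩
  · exact Or.inl (htr _ h)
  · exact Or.inr ⟨n₀, m, e1, e2, e3, e4, e5, htr _ e6⟩

end Cfsg.Agent.Lib.Helper3.HHC7
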