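import Mathlib
import Cfsg.Agent.Lib.Helper1.HH2
import Cfsg.Agent.Lib.Helper3.HHB3
import Cfsg.Agent.Lib.Helper3.HHB6
import Cfsg.Agent.Lib.Helper3.HHC1
import Cfsg.Agent.Lib.Helper3.HHC2
import Cfsg.Agent.Lib.Helper3.HHC3
import Cfsg.Agent.Lib.Helper3.HHC4
import Cfsg.Agent.Lib.Helper3.HHC5
import Cfsg.Agent.Lib.Helper3.HHC6
import Cfsg.Agent.Lib.Helper3.HHC7

/-!
# Hall–Higman Theorem B, part 8: the minimal configuration and the main induction.
-/

namespace Cfsg.Agent.Lib.Helper3.HHC8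

open Module Cfsg.Agent.Lib.Helper3 Cfsg.Agent.Lib.Helper3.HHC1

universe u v w

theorem zpow_fix {Q : Type*} [Group Q] (a : MulAut Q) (g : Q) (h : a g = g) (k : ℤ) :
    (a ^ k) g = g := by
  let S : Subgroup (MulAut Q) :=
    { carrier := {b | b g = g}
      one_mem' := rfl
      mul_mem' := by
        intro b c hb hc
        show (b * c) g = g
        rw [MulAut.mul_apply, show c g = g from hc, show b g = g from hb]
      inv_mem' := by
        intro b hb
        show b⁻¹ g = g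
        have : b⁻¹ (b g) = g := MulAut.inv_apply_self _ b g
        rwa [show b g = g from hb] at this }
  have : a ^ k ∈ S := S.zpow_mem h k
  exact this

theorem pow_fix_all {Q : Type*} [Group Q] (a : MulAut Q) (h : ∀ g, a g = g) (k : ℕ) (g : Q) :
    (a ^ k) g = g := by
  have : a = 1 := by
    ext g'
    exact h g'
  rw [this, one_pow]; rfl

/-- The minimal configuration. -/
theorem stepD (p q : ℕ) [hp : Fact p.Prime] [hq : Fact q.Prime] (hpq : p ≠ q) {K : Type w}
    [Field K] [IsAlgClosed K] [CharP K p] (n : ℕ) {Q : Type u} [Group Q] [Finite Q] {W : Type v}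
    [AddCommGroup W] [Module K W] [FiniteDimensional K W] (σ : Representation K Q W)
    (X X' : Module.End K W) (φ : MulAut Q)
    (IHn : ∀ n' < n, ∀ (W' : Type v) [AddCommGroup W'] [Module K W'] [FiniteDimensional K W']
      (σ' : Representation K Q W') (X₁ X₁' : Module.End K W') (φ' : MulAut Q),
      Good p q n' Q W' σ' X₁ X₁' φ')
    (hfaith : Function.Injective σ)
    (hminQ : ∀ Q₁ : Subgroup Q, Q₁ ≠ ⊤ → (∀ g ∈ Q₁, φ g ∈ Q₁) →
      ∀ g ∈ Q₁, σ ((φ ^ (p ^ n)) g) = σ g)
    (hminW : ∀ U : Submodule K W, U ≠ ⊤ → (∀ g, ∀ w ∈ U, σ g w ∈ U) → (∀ w ∈ U, X w ∈ U) →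
      (∀ w ∈ U, X' w ∈ U) → ∀ g, ∀ w ∈ U, σ ((φ ^ (p ^ n)) g) w = σ g w) :
    Good p q n Q W σ X X' φ := by
  intro hQ hXX' hX'X hcompat hXP hNT
  classical
  have hp1 : 1 < p := hp.out.one_lt
  -- `φ` has order dividing `p ^ (n+1)`
  have hφP : φ ^ (p ^ (n + 1)) = 1 := by
    ext g
    apply hfaith
    have h1 := compat_pow σ X φ hcompat (p ^ (n + 1)) g
    rw [hXP, one_mul, mul_one] at h1
    rw [← h1]; rfl
  have hψp : (φ ^ (p ^ n)) ^ p = 1 := by rw [← pow_mul, ← pow_succ, hφP]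
  have hmin' : ∀ Q₁ : Subgroup Q, Q₁ ≠ ⊤ → (∀ g ∈ Q₁, φ g ∈ Q₁) →
      ∀ g ∈ Q₁, (φ ^ (p ^ n)) g = g :=
    fun Q₁ h1 h2 g hg => hfaith (hminQ Q₁ h1 h2 g hg)
  have hnt' : ∃ g, (φ ^ (p ^ n)) g ≠ g := by
    obtain ⟨g, hg⟩ := hNT
    exact ⟨g, fun h => hg (by rw [h])⟩
  obtain ⟨hDcen, hgen, hcommfix⟩ :=
    HHC2.minimal_structure p q hpq hQ φ (p ^ n) hψp hmin' hnt'
  haveI : Nontrivial W := by
    obtain ⟨g, hg⟩ := hNT
    by_contra hnon
    rw [not_nontrivial_iff_subsingleton] at hnon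
    apply hg
    ext w
    exact Subsingleton.elim _ _
  have hqK : (q : K) ≠ 0 := by
    intro h
    exact hpq ((Nat.prime_dvd_prime_iff_eq hp.out hq.out).mp
      ((CharP.cast_eq_zero_iff K p q).mp h))
  obtain ⟨m, hm⟩ := IsPGroup.iff_card.mp hQ
  haveI : Fintype Q := Fintype.ofFinite Q
  have hcardK : (Fintype.card Q : K) ≠ 0 := by
    rw [← Nat.card_eq_fintype_card, hm, Nat.cast_pow]
    exact pow_ne_zero _ hqK
  -- if `ψ` acts trivially on the image of `Q` in `GL(U)` then `Q` acts trivially on `U`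
  have hfixer : ∀ U : Submodule K W, (∀ g, ∀ w ∈ U, σ ((φ ^ (p ^ n)) g) w = σ g w) →
      ∀ g, ∀ w ∈ U, σ g w = w := by
    intro U hU
    let Fx : Subgroup Q :=
      { carrier := {g | ∀ w ∈ U, σ g w = w}
        one_mem' := by intro w _; simp
        mul_mem' := by
          intro a b ha hb w hw
          rw [map_mul, Module.End.mul_apply, hb w hw, ha w hw]
        inv_mem' := by
          intro a ha w hw
          have h1 := ha w hw
          have h2 : σ a⁻¹ (σ a w) = w := by
            rw [← Module.End.mul_apply, ← map_mul, inv_mul_cancel, map_one]; rfl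
          rwa [h1] at h2 }
    have hle : Subgroup.closure {c : Q | ∃ g, c = g⁻¹ * (φ ^ (p ^ n)) g} ≤ Fx := by
      rw [Subgroup.closure_le]
      rintro _ ⟨g, rfl⟩ w hw
      show σ (g⁻¹ * (φ ^ (p ^ n)) g) w = w
      rw [map_mul, Module.End.mul_apply, hU g w hw, ← Module.End.mul_apply, ← map_mul,
        inv_mul_cancel, map_one]; rfl
    intro g w hw
    have : g ∈ Fx := hle (by rw [hgen]; trivial)
    exact this w hw
  -- the averaging idempotent
  obtain ⟨e, hedef⟩ : ∃ e : Module.End K W, e = (Fintype.card Q : K)⁻¹ • ∑ g : Q, σ g :=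
    ⟨_, rfl⟩
  have hσe : ∀ h, σ h * e = e := by
    intro h
    rw [hedef, mul_smul_comm, Finset.mul_sum]
    congr 1
    refine Fintype.sum_equiv (Equiv.mulLeft h) _ _ (fun g => ?_)
    rw [← map_mul]; rfl
  have heσ : ∀ h, e * σ h = e := by
    intro h
    rw [hedef, smul_mul_assoc, Finset.sum_mul]
    congr 1
    refine Fintype.sum_equiv (Equiv.mulRight h) _ _ (fun g => ?_)
    rw [← map_mul]; rfl
  have hee : e * e = e := by
    calc e * e = ((Fintype.card Q : K)⁻¹ • ∑ g : Q, σ g) * e := by rw [← hedef]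
      _ = (Fintype.card Q : K)⁻¹ • ∑ g : Q, σ g * e := by rw [smul_mul_assoc, Finset.sum_mul]
      _ = (Fintype.card Q : K)⁻¹ • ∑ _g : Q, e := by simp only [hσe]
      _ = e := by
        rw [Finset.sum_const, Finset.card_univ, ← Nat.cast_smul_eq_nsmul K, smul_smul,
          inv_mul_cancel₀ hcardK, one_smul]
  have hXe : X * e = e * X := by
    rw [hedef, mul_smul_comm, smul_mul_assoc, Finset.mul_sum, Finset.sum_mul]
    congr 1
    rw [Finset.sum_congr rfl (fun g _ => hcompat g)]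
    exact Fintype.sum_equiv φ.toEquiv _ _ (fun g => rfl)
  have hX'e : X' * e = e * X' := by
    calc X' * e = X' * (e * X) * X' := by rw [mul_assoc, mul_assoc, hXX', mul_one]
      _ = X' * (X * e) * X' := by rw [hXe]
      _ = e * X' := by rw [← mul_assoc, hX'X, one_mul]
  have hefix : ∀ w, (∀ g, σ g w = w) → e w = w := by
    intro w hw
    rw [hedef]
    simp only [LinearMap.smul_apply, LinearMap.sum_apply, hw, Finset.sum_const, Finset.card_univ]
    rw [← Nat.cast_smul_eq_nsmul K, smul_smul, inv_mul_cancel₀ hcardK, one_smul]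
  -- irreducibility
  have hirrX : ∀ U : Submodule K W, (∀ g, ∀ w ∈ U, σ g w ∈ U) → (∀ w ∈ U, X w ∈ U) →
      U = ⊥ ∨ U = ⊤ := by
    intro U hσU hXU
    by_cases hUtop : U = ⊤
    · exact Or.inr hUtop
    left
    have hX'U := inv_mem_of_mem X X' hX'X U hXU
    have hUfix := hfixer U (hminW U hUtop hσU hXU hX'U)
    have hker_σ : ∀ g, ∀ w ∈ LinearMap.ker e, σ g w ∈ LinearMap.ker e := by
      intro g w hw
      rw [LinearMap.mem_ker] at hw ⊢
      rw [← Module.End.mul_apply, heσ, hw]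
    have hker_X : ∀ w ∈ LinearMap.ker e, X w ∈ LinearMap.ker e := by
      intro w hw
      rw [LinearMap.mem_ker] at hw ⊢
      rw [← Module.End.mul_apply, ← hXe, Module.End.mul_apply, hw, map_zero]
    have hker_X' : ∀ w ∈ LinearMap.ker e, X' w ∈ LinearMap.ker e := by
      intro w hw
      rw [LinearMap.mem_ker] at hw ⊢
      rw [← Module.End.mul_apply, ← hX'e, Module.End.mul_apply, hw, map_zero]
    by_cases hktop : LinearMap.ker e = ⊤
    · rw [Submodule.eq_bot_iff]
      intro w hw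
      have h1 := hefix w (fun g => hUfix g w hw)
      have h2 : e w = 0 := LinearMap.mem_ker.mp (by rw [hktop]; trivial)
      rw [← h1, h2]
    · exfalso
      have hkfix := hfixer _ (hminW _ hktop hker_σ hker_X hker_X')
      have hkbot : ∀ w ∈ LinearMap.ker e, w = 0 := by
        intro w hw
        have h1 := hefix w (fun g => hkfix g w hw)
        rw [← h1]
        exact LinearMap.mem_ker.mp hw
      have he1 : ∀ w, e w = w := by
        intro w
        have : e w - w ∈ LinearMap.ker e := by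
          rw [LinearMap.mem_ker, map_sub, ← Module.End.mul_apply, hee, sub_self]
        exact sub_eq_zero.mp (hkbot _ this)
      obtain ⟨g, hg⟩ := hNT
      apply hg
      have hall : ∀ g', σ g' = 1 := by
        intro g'
        ext w
        have := congrArg (fun A : Module.End K W => A w) (hσe g')
        simp only [Module.End.mul_apply, he1] at this
        simpa using this
      rw [hall, hall]
  -- Clifford theory
  obtain ⟨V₀, j, hjN, hV₀ne, hV₀σ, hV₀X, hV₀Z, hj0, hVsup, htransfer⟩ :=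
    HHC6.clifford_weights p σ X φ hcompat (n + 1) hφP hirrX
  rcases Nat.eq_zero_or_pos j with hj | hjpos
  · -- the critical case
    have hV₀top := hj0 hj
    have hZsc : ∀ z ∈ Subgroup.center Q, ∃ μ : K, σ z = μ • (1 : Module.End K W) := by
      intro z hz
      obtain ⟨μ, hμ⟩ := hV₀Z z hz
      refine ⟨μ, LinearMap.ext (fun w => ?_)⟩
      have := hμ w (by rw [hV₀top]; trivial)
      simpa using this
    have hφid_absurd : (∀ g, φ g = g) → False := by
      intro h1
      obtain ⟨g, hg⟩ := hnt'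
      exact hg (pow_fix_all φ h1 _ g)
    have hX1ne : X ≠ 1 := by
      intro hX1
      apply hφid_absurd
      intro g
      apply hfaith
      have := hcompat g
      rw [hX1, one_mul, mul_one] at this
      exact this.symm
    have hnonab : ¬ ∀ a b : Q, a * b = b * a := by
      intro hab
      apply hφid_absurd
      intro g
      apply hfaith
      obtain ⟨μ, hμ⟩ := hZsc g (Subgroup.mem_center_iff.mpr (fun h => hab h g))
      have h1 := hcompat g
      rw [hμ, mul_smul_comm, mul_one] at h1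
      have h2 : σ (φ g) = μ • (1 : Module.End K W) := by
        calc σ (φ g) = σ (φ g) * X * X' := by rw [mul_assoc, hXX', mul_one]
          _ = (μ • X) * X' := by rw [h1]
          _ = μ • (1 : Module.End K W) := by rw [smul_mul_assoc, hXX']
      rw [h2, hμ]
    have hnc : ∀ g, g ∉ Subgroup.center Q →
        ∃ (h : Q) (c : K), c ≠ 1 ∧ σ h * σ g = c • (σ g * σ h) := by
      intro g hg
      rw [Subgroup.mem_center_iff] at hg
      push Not at hg
      obtain ⟨h, hh⟩ := hg
      have hrel : h * g = (h * g * h⁻¹ * g⁻¹) * (g * h) := by group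
      have hz1 : h * g * h⁻¹ * g⁻¹ ≠ 1 := by
        intro h1
        apply hh
        rw [hrel, h1, one_mul]
      have hzfix : (φ ^ (p ^ n)) (h * g * h⁻¹ * g⁻¹) = h * g * h⁻¹ * g⁻¹ := hcommfix h g
      have hzcen : h * g * h⁻¹ * g⁻¹ ∈ Subgroup.center Q :=
        Subgroup.mem_center_iff.mpr (fun g' => (hDcen _ hzfix g').symm)
      obtain ⟨c, hc⟩ := hZsc _ hzcen
      refine ⟨h, c, ?_, ?_⟩
      · intro hc1
        apply hz1
        apply hfaith
        rw [hc, hc1, one_smul, map_one]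
      · rw [← map_mul, hrel, map_mul, hc, smul_mul_assoc, one_mul, map_mul]
    have hcZK : (Nat.card (Subgroup.center Q) : K) ≠ 0 := by
      obtain ⟨a, ha⟩ := IsPGroup.iff_card.mp (hQ.to_subgroup (Subgroup.center Q))
      rw [ha, Nat.cast_pow]
      exact pow_ne_zero _ hqK
    have hhom : ∀ (W₁ W₂ : Submodule K W) (h₁ : ∀ g, ∀ w ∈ W₁, σ g w ∈ W₁)
        (h₂ : ∀ g, ∀ w ∈ W₂, σ g w ∈ W₂), W₁ ≠ ⊥ → W₂ ≠ ⊥ →
        (∀ U : Submodule K W, U ≤ W₁ → (∀ g, ∀ w ∈ U, σ g w ∈ U) → U = ⊥ ∨ U = W₁) →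
        ∃ f : W₁ →ₗ[K] W₂, f ≠ 0 ∧
          ∀ g w, f (resRep σ W₁ h₁ g w) = resRep σ W₂ h₂ g (f w) := by
      intro W₁ W₂ h₁ h₂ hW₁ne hW₂ne hW₁simple
      haveI : Nontrivial W₁ := Submodule.nontrivial_iff_ne_bot.mpr hW₁ne
      obtain ⟨b, hb⟩ := HHB6.finrank_prime_pow q (resRep σ W₁ h₁) hQ
        (HHC6.resRep_irr σ W₁ h₁ hW₁simple)
      have hd₁ : (finrank K W₁ : K) ≠ 0 := by
        rw [hb, Nat.cast_pow]
        exact pow_ne_zero _ hqK
      exact HHC4.exists_hom_of_central_char σ hZsc hnc W₁ W₂ h₁ h₂ hd₁ hcZK hW₂ne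
    have hirrQ := HHC5.irr_of_homogeneous σ X X' hXX' hX'X φ hcompat hirrX hhom
    have hirrQ' : ∀ U : Submodule K W, (∀ g, Submodule.map (σ g) U ≤ U) → U = ⊥ ∨ U = ⊤ :=
      fun U hU => hirrQ U (fun g w hw => hU g (Submodule.mem_map_of_mem hw))
    have hfree : ∀ i, 0 < i → i < p ^ (n + 1) → ∀ g, (φ ^ i) g = g →
        ∃ μ : K, σ g = μ • (1 : Module.End K W) := by
      intro i hi0 hiP g hfix
      have hmem := Cfsg.Agent.Lib.Helper1.HH.pow_pow_mem_zpowers hp.out φ n hφP i hi0 hiP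
      obtain ⟨k, hk⟩ := Subgroup.mem_zpowers_iff.mp hmem
      have hψfix : (φ ^ (p ^ n)) g = g := by
        rw [← hk]
        exact zpow_fix _ g hfix k
      exact hZsc g (Subgroup.mem_center_iff.mpr (fun g' => (hDcen g hψfix g').symm))
    have huP : (X - 1) ^ (p ^ (n + 1)) = 0 := by
      rw [HHB3.alg_sub_one_pow (K := K) p (n + 1) X, hXP, sub_self]
    have hex : ∃ s, (X - 1) ^ s = 0 := ⟨_, huP⟩
    obtain ⟨s, hs, hsmin⟩ : ∃ s, (X - 1) ^ s = 0 ∧ ∀ k < s, (X - 1) ^ k ≠ 0 :=
      ⟨Nat.find hex, Nat.find_spec hex, fun k hk => Nat.find_min hex hk⟩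
    have hsP : s ≤ p ^ (n + 1) := by
      by_contra h
      push Not at h
      exact hsmin _ h huP
    obtain ⟨hc1, hc2⟩ := HHC3.crit p q hpq hQ σ hirrQ' X X' hXX' hX'X φ hcompat (n + 1) hφP
      hfree s hs hsmin
    have hP2 : 2 ≤ p ^ (n + 1) := by
      calc 2 ≤ p := hp1
        _ = p ^ 1 := (pow_one p).symm
        _ ≤ p ^ (n + 1) := Nat.pow_le_pow_right hp.out.pos (by omega)
    rcases hc1 with hc1 | hc1
    swap
    · exact absurd hc1 hX1ne
    rcases Nat.lt_or_ge s (p ^ (n + 1)) with hlt | hge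
    · have hsP1 : s = p ^ (n + 1) - 1 := by omega
      obtain ⟨b, hb⟩ := hc2 hsP1
      have hb1 : 1 ≤ b := by
        by_contra hb0
        have hb0' : b = 0 := by omega
        rw [hb0', pow_zero] at hb
        have hs1 : s = 1 := by omega
        rw [hs1, pow_one] at hs
        exact hX1ne (sub_eq_zero.mp hs)
      right
      refine ⟨n + 1, b, by omega, le_rfl, hb1, hb, hnonab, ?_⟩
      rw [Nat.sub_self, pow_zero, one_mul]
      exact hsmin _ (by omega)
    · left
      have : s = p ^ (n + 1) := le_antisymm hsP hge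
      exact hsmin _ (by omega)
  · rcases Nat.lt_or_ge n j with hnj | hnj
    · -- the regular case
      have hjn : j = n + 1 := by omega
      rw [hjn] at htransfer
      left
      obtain ⟨w, hw, hw0⟩ := Submodule.exists_mem_ne_zero_of_ne_bot hV₀ne
      have := htransfer 1 le_rfl w hw (by simpa using hw0)
      simpa using this
    · -- induction on `n`
      have hV₀X' : ∀ w ∈ V₀, (X' ^ (p ^ j)) w ∈ V₀ :=
        inv_mem_of_mem (X ^ (p ^ j)) (X' ^ (p ^ j)) (pow_mul_pow_eq_one X' X hX'X hXX' _) V₀ hV₀X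
      have hpjn : p ^ j * p ^ (n - j + 1) = p ^ (n + 1) := by
        rw [← pow_add]
        congr 1
        omega
      have g1 : ((X ^ (p ^ j)).restrict hV₀X : Module.End K V₀) * (X' ^ (p ^ j)).restrict hV₀X'
          = 1 := by
        refine LinearMap.ext (fun w => Subtype.ext ?_)
        show (X ^ (p ^ j)) ((X' ^ (p ^ j)) (w : W)) = (w : W)
        rw [← Module.End.mul_apply, pow_mul_pow_eq_one X X' hXX' hX'X]; rfl
      have g2 : ((X' ^ (p ^ j)).restrict hV₀X' : Module.End K V₀) * (X ^ (p ^ j)).restrict hV₀X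
          = 1 := by
        refine LinearMap.ext (fun w => Subtype.ext ?_)
        show (X' ^ (p ^ j)) ((X ^ (p ^ j)) (w : W)) = (w : W)
        rw [← Module.End.mul_apply, pow_mul_pow_eq_one X' X hX'X hXX']; rfl
      have g3 : ∀ g, ((X ^ (p ^ j)).restrict hV₀X : Module.End K V₀) * resRep σ V₀ hV₀σ g
          = resRep σ V₀ hV₀σ ((φ ^ (p ^ j)) g) * (X ^ (p ^ j)).restrict hV₀X := by
        intro g
        refine LinearMap.ext (fun w => Subtype.ext ?_)
        show (X ^ (p ^ j)) (σ g (w : W)) = σ ((φ ^ (p ^ j)) g) ((X ^ (p ^ j)) (w : W))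
        have := congrArg (fun A : Module.End K W => A (w : W)) (compat_pow σ X φ hcompat (p ^ j) g)
        simpa using this
      have g4 : ((X ^ (p ^ j)).restrict hV₀X : Module.End K V₀) ^ (p ^ (n - j + 1)) = 1 := by
        refine LinearMap.ext (fun w => Subtype.ext ?_)
        rw [restrict_pow_coe, ← pow_mul, hpjn, hXP]; rfl
      have hψeq : (φ ^ (p ^ j)) ^ (p ^ (n - j)) = φ ^ (p ^ n) := by
        rw [← pow_mul, ← pow_add]
        congr 2
        omega
      have g5 : ∃ g, resRep σ V₀ hV₀σ (((φ ^ (p ^ j)) ^ (p ^ (n - j))) g)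
          ≠ resRep σ V₀ hV₀σ g := by
        rw [hψeq]
        by_contra hcon
        push Not at hcon
        have hV₀eq : ∀ g, ∀ w ∈ V₀, σ ((φ ^ (p ^ n)) g) w = σ g w := by
          intro g w hw
          have := congrArg (fun A : Module.End K V₀ => ((A ⟨w, hw⟩ : V₀) : W)) (hcon g)
          exact this
        have hall : ∀ (i : ℕ) g, ∀ v ∈ V₀.map (X ^ i), σ ((φ ^ (p ^ n)) g) v = σ g v := by
          intro i g v hv
          obtain ⟨w, hw, rfl⟩ := Submodule.mem_map.mp hv
          have hXpow : ∀ (g' : Q), σ g' ((X ^ i) w) = (X ^ i) (σ ((φ ^ i)⁻¹ g') w) := by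
            intro g'
            have h1 := compat_pow σ X φ hcompat i ((φ ^ i)⁻¹ g')
            rw [MulAut.apply_inv_self] at h1
            have := congrArg (fun A : Module.End K W => A w) h1
            simp only [Module.End.mul_apply] at this
            exact this.symm
          rw [hXpow, hXpow]
          have hcomm : (φ ^ i)⁻¹ ((φ ^ (p ^ n)) g) = (φ ^ (p ^ n)) ((φ ^ i)⁻¹ g) := by
            have h2 := pow_comm_aut' φ i (p ^ n) ((φ ^ i)⁻¹ g)
            rw [MulAut.apply_inv_self] at h2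
            rw [← h2, MulAut.inv_apply_self]
          rw [hcomm, hV₀eq _ w hw]
        obtain ⟨g, hg⟩ := hNT
        apply hg
        have hle : (⊤ : Submodule K W)
            ≤ LinearMap.ker (σ ((φ ^ (p ^ n)) g) - σ g) := by
          rw [← hVsup]
          refine iSup_le (fun i v hv => ?_)
          rw [LinearMap.mem_ker, LinearMap.sub_apply, hall i g v hv, sub_self]
        ext w
        have := hle (Submodule.mem_top : w ∈ ⊤)
        rw [LinearMap.mem_ker, LinearMap.sub_apply] at this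
        exact sub_eq_zero.mp this
      have hres := IHn (n - j) (by omega) V₀ (resRep σ V₀ hV₀σ) ((X ^ (p ^ j)).restrict hV₀X)
        ((X' ^ (p ^ j)).restrict hV₀X') (φ ^ (p ^ j)) hQ g1 g2 g3 g4 g5
      have htr : ∀ k, 1 ≤ k →
          (((X ^ (p ^ j)).restrict hV₀X : Module.End K V₀) - 1) ^ (k - 1) ≠ 0 →
          (X - 1) ^ (p ^ j * k - 1) ≠ 0 := by
        intro k hk hne
        have : ∃ w : V₀, ((((X ^ (p ^ j)).restrict hV₀X : Module.End K V₀) - 1) ^ (k - 1)) w
            ≠ 0 := by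
          by_contra hcon
          push Not at hcon
          exact hne (LinearMap.ext hcon)
        obtain ⟨w, hw⟩ := this
        apply htransfer k hk (w : W) w.2
        rw [← restrict_sub_one_pow (X ^ (p ^ j)) V₀ hV₀X (k - 1) w]
        intro h0
        exact hw (Subtype.ext h0)
      rcases hres with h | ⟨n₀, m, e1, e2, e3, e4, e5, e6⟩
      · left
        have := htr (p ^ (n - j + 1)) (Nat.one_le_two_pow.trans
          (Nat.pow_le_pow_left hp1 _)) h
        rwa [hpjn] at this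
      · right
        refine ⟨n₀, m, e1, by omega, e3, e4, e5, ?_⟩
        have hk1 : 1 ≤ p ^ (n - j + 1 - n₀) * (p ^ n₀ - 1) := by
          have h1 : 1 ≤ p ^ (n - j + 1 - n₀) := Nat.one_le_pow _ _ hp.out.pos
          have h2 : 1 < p ^ n₀ := Nat.one_lt_pow (by omega) hp1
          have h3 : 1 ≤ p ^ n₀ - 1 := by omega
          exact Nat.mul_le_mul h1 h3
        have := htr _ hk1 e6
        have hexp : p ^ j * (p ^ (n - j + 1 - n₀) * (p ^ n₀ - 1))
            = p ^ (n + 1 - n₀) * (p ^ n₀ - 1) := by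
          rw [← mul_assoc, ← pow_add]
          congr 2
          omega
        rwa [hexp] at this

/-- The main induction. -/
theorem main (p q : ℕ) [Fact p.Prime] [Fact q.Prime] (hpq : p ≠ q) {K : Type w} [Field K]
    [IsAlgClosed K] [CharP K p] :
    ∀ (n M : ℕ) (Q : Type u) [Group Q] [Finite Q] (W : Type v) [AddCommGroup W] [Module K W]
      [FiniteDimensional K W] (σ : Representation K Q W) (X X' : Module.End K W)
      (φ : MulAut Q), Nat.card Q + finrank K W = M → Good p q n Q W σ X X' φ := by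
  intro n
  induction n using Nat.strong_induction_on with
  | _ n IHn =>
  intro M
  induction M using Nat.strong_induction_on with
  | _ M IHM =>
  intro Q _ _ W _ _ _ σ X X' φ hM
  by_cases hfaith : Function.Injective σ
  swap
  · exact HHC7.stepA p q n σ X X' φ
      (fun Q' _ _ σ' φ' hlt => IHM (Nat.card Q' + finrank K W) (by omega) Q' W σ' X X' φ' rfl)
      hfaith
  by_cases hminQ : ∃ Q₁ : Subgroup Q, Q₁ ≠ ⊤ ∧ (∀ g ∈ Q₁, φ g ∈ Q₁) ∧
      ∃ g ∈ Q₁, σ ((φ ^ (p ^ n)) g) ≠ σ g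
  · obtain ⟨Q₁, h1, h2, h3⟩ := hminQ
    exact HHC7.stepB p q n σ X X' φ
      (fun Q' _ _ σ' φ' hlt => IHM (Nat.card Q' + finrank K W) (by omega) Q' W σ' X X' φ' rfl)
      Q₁ h1 h2 h3
  by_cases hminW : ∃ U : Submodule K W, U ≠ ⊤ ∧ (∀ g, ∀ w ∈ U, σ g w ∈ U) ∧
      (∀ w ∈ U, X w ∈ U) ∧ (∀ w ∈ U, X' w ∈ U) ∧
      ∃ g, ∃ w ∈ U, σ ((φ ^ (p ^ n)) g) w ≠ σ g w
  · obtain ⟨U, h1, h2, h3, h4, h5⟩ := hminW
    exact HHC7.stepC p q n σ X X' φ
      (fun W' _ _ _ σ' X₁ X₁' hlt =>
        IHM (Nat.card Q + finrank K W') (by omega) Q W' σ' X₁ X₁' φ rfl)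
      U h1 h2 h3 h4 h5
  push Not at hminQ hminW
  exact stepD p q hpq n σ X X' φ
    (fun n' hn' W' _ _ _ σ' X₁ X₁' φ' => IHn n' hn' _ Q W' σ' X₁ X₁' φ' rfl)
    hfaith hminQ hminW

end Cfsg.Agent.Lib.Helper3.HHC8
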