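import Mathlib

/-!
# A model of the wreath product `C_p ≀ C_p`

`WrModel p` is the semidirect product of the functions `ZMod p → ZMod p` by the cyclic shift.
We verify the list of properties used to recognise `C_p ≀ C_p`.
-/

namespace Cfsg.Agent.Lib.Helper3.HHD1

/-- The cyclic shift by `j` on functions `ZMod p → ZMod p`, multiplicatively. -/
def shiftAut (p : ℕ) (j : ZMod p) : MulAut (Multiplicative (ZMod p → ZMod p)) where
  toFun f := Multiplicative.ofAdd (fun i => Multiplicative.toAdd f (i - j))
  invFun f := Multiplicative.ofAdd (fun i => Multiplicative.toAdd f (i + j))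
  left_inv f := by
    apply Multiplicative.toAdd.injective
    funext i
    show Multiplicative.toAdd f (i + j - j) = Multiplicative.toAdd f i
    rw [add_sub_cancel_right]
  right_inv f := by
    apply Multiplicative.toAdd.injective
    funext i
    show Multiplicative.toAdd f (i - j + j) = Multiplicative.toAdd f i
    rw [sub_add_cancel]
  map_mul' f g := rfl

theorem shiftAut_apply (p : ℕ) (j : ZMod p) (f : Multiplicative (ZMod p → ZMod p)) (i : ZMod p) :
    Multiplicative.toAdd (shiftAut p j f) i = Multiplicative.toAdd f (i - j) := rfl

/-- The shift action as a homomorphism. -/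
def shiftHom (p : ℕ) : Multiplicative (ZMod p) →* MulAut (Multiplicative (ZMod p → ZMod p)) where
  toFun j := shiftAut p (Multiplicative.toAdd j)
  map_one' := by
    apply MulEquiv.ext
    intro f
    apply Multiplicative.toAdd.injective
    funext i
    show Multiplicative.toAdd f (i - 0) = Multiplicative.toAdd f i
    rw [sub_zero]
  map_mul' a b := by
    apply MulEquiv.ext
    intro f
    apply Multiplicative.toAdd.injective
    funext i
    show Multiplicative.toAdd f (i - (Multiplicative.toAdd a + Multiplicative.toAdd b)) =
      Multiplicative.toAdd f (i - Multiplicative.toAdd a - Multiplicative.toAdd b)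
    rw [sub_add_eq_sub_sub]

theorem shiftHom_apply (p : ℕ) (j : Multiplicative (ZMod p))
    (f : Multiplicative (ZMod p → ZMod p)) (i : ZMod p) :
    Multiplicative.toAdd (shiftHom p j f) i =
      Multiplicative.toAdd f (i - Multiplicative.toAdd j) := rfl

/-- The model of `C_p ≀ C_p`. -/
abbrev WrModel (p : ℕ) : Type :=
  Multiplicative (ZMod p → ZMod p) ⋊[shiftHom p] Multiplicative (ZMod p)

theorem wrModel_finite (p : ℕ) [hp : Fact p.Prime] : Finite (WrModel p) :=
  Finite.of_equiv _ (SemidirectProduct.equivProd
    (φ := shiftHom p)).symm

theorem wrModel_card (p : ℕ) [hp : Fact p.Prime] : Nat.card (WrModel p) = p ^ (p + 1) := by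
  rw [SemidirectProduct.card]
  have h1 : Nat.card (Multiplicative (ZMod p → ZMod p)) = p ^ p := by
    have : Nat.card (Multiplicative (ZMod p → ZMod p)) = Nat.card (ZMod p → ZMod p) :=
      Nat.card_congr Multiplicative.toAdd
    rw [this, Nat.card_fun, Nat.card_zmod]
  have h2 : Nat.card (Multiplicative (ZMod p)) = p := by
    have : Nat.card (Multiplicative (ZMod p)) = Nat.card (ZMod p) :=
      Nat.card_congr Multiplicative.toAdd
    rw [this, Nat.card_zmod]
  rw [h1, h2, pow_succ]

theorem wrModel_isPGroup (p : ℕ) [hp : Fact p.Prime] : IsPGroup p (WrModel p) :=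
  IsPGroup.of_card (wrModel_card p)

theorem pow_p_eq_one (p : ℕ) [hp : Fact p.Prime] (f : Multiplicative (ZMod p → ZMod p)) :
    f ^ p = 1 := by
  apply Multiplicative.toAdd.injective
  rw [toAdd_pow, toAdd_one]
  funext i
  simp

theorem const_of_shift_invariant (p : ℕ) [hp : Fact p.Prime] (f : ZMod p → ZMod p)
    (h : ∀ i, f (i - 1) = f i) : ∀ i, f i = f 0 := by
  have h1 : ∀ n : ℕ, f (n : ZMod p) = f 0 := by
    intro n
    induction n with
    | zero => simp
    | succ n ih =>
      have := h ((n : ZMod p) + 1)
      rw [add_sub_cancel_right] at this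
      rw [Nat.cast_succ, ← this, ih]
  intro i
  have := h1 i.val
  rwa [ZMod.natCast_zmod_val] at this

theorem wrModel_props (p : ℕ) [hp : Fact p.Prime] :
    ∃ (B : Subgroup (WrModel p)) (t : WrModel p), B.Normal ∧ IsMulCommutative B ∧
      (∀ b ∈ B, b ^ p = 1) ∧ Nat.card B = p ^ p ∧ orderOf t = p ∧ t ∉ B ∧
      Nat.card (WrModel p) = p ^ (p + 1) ∧
      Nat.card ↥(B ⊓ Subgroup.centralizer ({t} : Set (WrModel p))) = p := by
  obtain ⟨B, hB⟩ : ∃ B : Subgroup (WrModel p),
      B = (SemidirectProduct.rightHom : WrModel p →* Multiplicative (ZMod p)).ker := ⟨_, rfl⟩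
  obtain ⟨t, ht⟩ : ∃ t : WrModel p,
      t = SemidirectProduct.inr (Multiplicative.ofAdd (1 : ZMod p)) := ⟨_, rfl⟩
  have hBmem : ∀ b : WrModel p, b ∈ B ↔ b.right = 1 := by
    intro b
    rw [hB, MonoidHom.mem_ker]
    rfl
  have hBinl : ∀ b ∈ B, b = SemidirectProduct.inl b.left := by
    intro b hb
    apply SemidirectProduct.ext
    · simp
    · rw [(hBmem b).mp hb]; simp
  have h1ne : (Multiplicative.ofAdd (1 : ZMod p)) ≠ 1 := by
    intro h
    have : (1 : ZMod p) = 0 := by
      have := congrArg Multiplicative.toAdd h
      simpa using this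
    exact one_ne_zero this
  refine ⟨B, t, ?_, ?_, ?_, ?_, ?_, ?_, wrModel_card p, ?_⟩
  · rw [hB]; infer_instance
  · refine ⟨⟨fun a b => Subtype.ext ?_⟩⟩
    show (a : WrModel p) * b = b * a
    rw [hBinl a a.2, hBinl b b.2, ← map_mul, ← map_mul, mul_comm]
  · intro b hb
    rw [hBinl b hb, ← map_pow, pow_p_eq_one, map_one]
  · have : B = (SemidirectProduct.inl : _ →* WrModel p).range := by
      rw [hB, SemidirectProduct.range_inl_eq_ker_rightHom]
    rw [this]
    have e := (MonoidHom.ofInjective (SemidirectProduct.inl_injective
      (φ := shiftHom p))).toEquiv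
    rw [← Nat.card_congr e]
    have : Nat.card (Multiplicative (ZMod p → ZMod p)) = Nat.card (ZMod p → ZMod p) :=
      Nat.card_congr Multiplicative.toAdd
    rw [this, Nat.card_fun, Nat.card_zmod]
  · rw [ht, orderOf_injective _ SemidirectProduct.inr_injective, orderOf_ofAdd_eq_addOrderOf,
      ZMod.addOrderOf_one]
  · rw [hBmem, ht]
    simpa using h1ne
  · -- the centralizer of `t` in `B` is the group of constant functions
    have hcomm : ∀ f : Multiplicative (ZMod p → ZMod p),
        (t * SemidirectProduct.inl f = SemidirectProduct.inl f * t) ↔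
          ∀ i, Multiplicative.toAdd f (i - 1) = Multiplicative.toAdd f i := by
      intro f
      constructor
      · intro h i
        have h1 := congrArg SemidirectProduct.left h
        rw [SemidirectProduct.mul_left, SemidirectProduct.mul_left, ht] at h1
        simp only [SemidirectProduct.left_inr, SemidirectProduct.right_inr,
          SemidirectProduct.left_inl, SemidirectProduct.right_inl, one_mul, map_one,
          MulAut.one_apply, mul_one] at h1
        have h2 := congrFun (congrArg Multiplicative.toAdd h1) i
        rw [shiftHom_apply] at h2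
        simpa using h2
      · intro h
        apply SemidirectProduct.ext
        · rw [SemidirectProduct.mul_left, SemidirectProduct.mul_left, ht]
          simp only [SemidirectProduct.left_inr, SemidirectProduct.right_inr,
            SemidirectProduct.left_inl, SemidirectProduct.right_inl, one_mul, map_one,
            MulAut.one_apply, mul_one]
          apply Multiplicative.toAdd.injective
          funext i
          rw [shiftHom_apply]
          simpa using h i
        · rw [SemidirectProduct.mul_right, SemidirectProduct.mul_right, ht]
          simp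
    have hmemC : ∀ f : Multiplicative (ZMod p → ZMod p),
        SemidirectProduct.inl f ∈ B ⊓ Subgroup.centralizer ({t} : Set (WrModel p)) ↔
          ∀ i, Multiplicative.toAdd f (i - 1) = Multiplicative.toAdd f i := by
      intro f
      rw [Subgroup.mem_inf, Subgroup.mem_centralizer_iff, ← hcomm]
      constructor
      · rintro ⟨-, h⟩
        exact h t rfl
      · intro h
        refine ⟨(hBmem _).mpr (by simp), ?_⟩
        intro y hy
        rw [Set.mem_singleton_iff] at hy
        rw [hy]; exact h
    have hconst : ∀ c : ZMod p, SemidirectProduct.inl (Multiplicative.ofAdd (fun _ : ZMod p => c)) ∈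
        B ⊓ Subgroup.centralizer ({t} : Set (WrModel p)) := by
      intro c
      rw [hmemC]
      intro i
      rfl
    have hbij : Function.Bijective (fun c : ZMod p =>
        (⟨SemidirectProduct.inl (Multiplicative.ofAdd (fun _ : ZMod p => c)), hconst c⟩ :
          ↥(B ⊓ Subgroup.centralizer ({t} : Set (WrModel p))))) := by
      constructor
      · intro c d h
        have h1 : SemidirectProduct.inl (φ := shiftHom p)
            (Multiplicative.ofAdd (fun _ : ZMod p => c)) =
            SemidirectProduct.inl (Multiplicative.ofAdd (fun _ : ZMod p => d)) :=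
          congrArg Subtype.val h
        have h2 := SemidirectProduct.inl_injective h1
        have h3 := congrFun (congrArg Multiplicative.toAdd h2) 0
        simpa using h3
      · rintro ⟨w, hw⟩
        have hwB : w ∈ B := (Subgroup.mem_inf.mp hw).1
        have hw' := hw
        rw [hBinl w hwB, hmemC] at hw'
        have hc := const_of_shift_invariant p (Multiplicative.toAdd w.left) hw'
        refine ⟨Multiplicative.toAdd w.left 0, ?_⟩
        apply Subtype.ext
        show SemidirectProduct.inl _ = w
        rw [hBinl w hwB]
        congr 1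
        apply Multiplicative.toAdd.injective
        funext i
        exact (hc i).symm
    rw [← Nat.card_congr (Equiv.ofBijective _ hbij), Nat.card_zmod]

end Cfsg.Agent.Lib.Helper3.HHD1
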