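import Cfsg.Agent.Lib.Helper3.HHD1
import Cfsg.Agent.Lib.Helper3.HHB3

/-!
# Embedding `C_p ≀ C_p` from a nonvanishing norm

If `A` is a normal elementary abelian `p`-subgroup of `X`, `t ^ p = 1`, `v ∈ A` and
`(v * t) ^ p ≠ 1`, then `WrModel p` embeds in `X`.
-/

namespace Cfsg.Agent.Lib.Helper3.HHD2

open Cfsg.Agent.Lib.Helper3.HHD1
open scoped IsMulCommutative

variable {X : Type*} [Group X]

theorem pow_mod_of_pow_eq_one {t : X} {p : ℕ} (ht : t ^ p = 1) (n : ℕ) : t ^ (n % p) = t ^ n := by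
  conv_rhs => rw [← Nat.div_add_mod n p, pow_add, pow_mul, ht, one_pow, one_mul]

/-- `(v t)^k = (∏_{i<k} t^i v t^{-i}) t^k` for `v` in a normal abelian subgroup. -/
theorem mul_pow_eq_prod_conj (A : Subgroup X) [A.Normal] [IsMulCommutative A] (t : X) (v : A)
    (k : ℕ) : ((v : X) * t) ^ k =
      ((∏ i ∈ Finset.range k, MulAut.conjNormal (t ^ i) v : A) : X) * t ^ k := by
  induction k with
  | zero => simp
  | succ k ih =>
    rw [pow_succ, ih, Finset.prod_range_succ, Subgroup.coe_mul, MulAut.conjNormal_apply, pow_succ]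
    group

theorem exists_injective_of_norm_ne_one (p : ℕ) [hp : Fact p.Prime]
    (A : Subgroup X) [hAn : A.Normal] (hAc : ∀ a ∈ A, ∀ b ∈ A, a * b = b * a)
    (hAp : ∀ a ∈ A, a ^ p = 1) (t v : X) (ht : t ^ p = 1) (hv : v ∈ A)
    (hN : (v * t) ^ p ≠ 1) :
    ∃ ψ : WrModel p →* X, Function.Injective ψ := by
  haveI : Fact (1 < p) := ⟨hp.out.one_lt⟩
  haveI : IsMulCommutative A := ⟨⟨fun a b => Subtype.ext (hAc a a.2 b b.2)⟩⟩
  have instMod : Module (ZMod p) (Additive A) := AddCommGroup.zmodModule (n := p) (by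
    intro x
    obtain ⟨a, rfl⟩ := Additive.ofMul.surjective x
    have ha : a ^ p = 1 := Subtype.ext (by simpa using hAp a a.2)
    rw [← ofMul_pow, ha, ofMul_one])
  obtain ⟨tp, htp⟩ : ∃ tp : ZMod p → X, ∀ i, tp i = t ^ i.val := ⟨_, fun _ => rfl⟩
  have tp_add : ∀ i j, tp (i + j) = tp i * tp j := by
    intro i j
    rw [htp, htp, htp, ZMod.val_add, pow_mod_of_pow_eq_one ht, pow_add]
  have tp_zero : tp 0 = 1 := by rw [htp, ZMod.val_zero, pow_zero]
  have tp_one : tp 1 = t := by rw [htp, ZMod.val_one, pow_one]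
  have tp_nsmul : ∀ (n : ℕ) (i : ZMod p), tp (n • i) = (tp i) ^ n := by
    intro n i
    induction n with
    | zero => rw [zero_nsmul, tp_zero, pow_zero]
    | succ n ih => rw [succ_nsmul, tp_add, ih, pow_succ]
  obtain ⟨vv, hvv⟩ : ∃ vv : ZMod p → Additive A,
      ∀ i, vv i = Additive.ofMul (MulAut.conjNormal (tp i) ⟨v, hv⟩) := ⟨_, fun _ => rfl⟩
  obtain ⟨Φ, hΦ⟩ : ∃ Φ : (ZMod p → ZMod p) →ₗ[ZMod p] Additive A,
      Φ = Fintype.linearCombination (ZMod p) vv := ⟨_, rfl⟩
  have hΦa : ∀ f : ZMod p → ZMod p, Φ f = ∑ i, f i • vv i := by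
    intro f; rw [hΦ, Fintype.linearCombination_apply]
  -- compatibility with the shift
  have hshift : ∀ (j : ZMod p) (f : ZMod p → ZMod p),
      Φ (fun i => f (i - j)) =
        Additive.ofMul (MulAut.conjNormal (tp j) (Additive.toMul (Φ f))) := by
    intro j f
    obtain ⟨cj, hcj⟩ : ∃ cj : Additive A →+ Additive A,
        ∀ x, cj x = Additive.ofMul (MulAut.conjNormal (tp j) (Additive.toMul x)) :=
      ⟨MonoidHom.toAdditive (MulAut.conjNormal (tp j) : A ≃* A).toMonoidHom, fun _ => rfl⟩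
    rw [← hcj, hΦa, hΦa, map_sum]
    have h1 : ∀ i, cj (f i • vv i) = f i • vv (i + j) := by
      intro i
      rw [ZMod.map_smul, hcj, hvv, hvv, toMul_ofMul, add_comm i j, tp_add, map_mul,
        MulAut.mul_apply]
    rw [Finset.sum_congr rfl (fun i _ => h1 i)]
    rw [← Equiv.sum_comp (Equiv.addRight j) (fun i => f (i - j) • vv i)]
    apply Finset.sum_congr rfl
    intro i _
    show f (i + j - j) • vv (i + j) = _
    rw [add_sub_cancel_right]
  -- the norm is nonzero
  have hnorm : Φ (fun _ => 1) ≠ 0 := by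
    intro h0
    apply hN
    have h1 := mul_pow_eq_prod_conj A t ⟨v, hv⟩ p
    rw [ht, mul_one] at h1
    rw [show v * t = ((⟨v, hv⟩ : A) : X) * t from rfl, h1]
    have h2 : (∏ i ∈ Finset.range p, MulAut.conjNormal (t ^ i) (⟨v, hv⟩ : A)) =
        ∏ i : ZMod p, MulAut.conjNormal (tp i) (⟨v, hv⟩ : A) := by
      apply Finset.prod_nbij' (fun k : ℕ => (k : ZMod p)) (fun i : ZMod p => i.val)
      · intro a _; exact Finset.mem_univ _
      · intro a _; exact Finset.mem_range.mpr (ZMod.val_lt a)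
      · intro a ha; exact ZMod.val_natCast_of_lt (Finset.mem_range.mp ha)
      · intro a _; exact ZMod.natCast_zmod_val a
      · intro a ha
        rw [htp, ZMod.val_natCast_of_lt (Finset.mem_range.mp ha)]
    rw [h2]
    rw [hΦa] at h0
    have h3 : (∑ i : ZMod p, (1 : ZMod p) • vv i) =
        Additive.ofMul (∏ i : ZMod p, MulAut.conjNormal (tp i) (⟨v, hv⟩ : A)) := by
      rw [ofMul_prod]
      apply Finset.sum_congr rfl
      intro i _
      rw [one_smul, hvv]
    rw [h3] at h0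
    have h4 : (∏ i : ZMod p, MulAut.conjNormal (tp i) (⟨v, hv⟩ : A)) = 1 := by
      have := congrArg Additive.toMul h0
      simpa using this
    rw [h4]; rfl
  -- independence
  have hind : ∀ f : ZMod p → ZMod p, Φ f = 0 → f = 0 := by
    obtain ⟨σ, hσ⟩ : ∃ σ : Module.End (ZMod p) (ZMod p → ZMod p),
        σ = LinearMap.funLeft (ZMod p) (ZMod p) (fun i : ZMod p => i - 1) := ⟨_, rfl⟩
    have hσa : ∀ f : ZMod p → ZMod p, σ f = fun i => f (i - 1) := by
      intro f; funext i; rw [hσ, LinearMap.funLeft_apply]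
    have hσΦ : ∀ f : ZMod p → ZMod p, Φ f = 0 → Φ (σ f) = 0 := by
      intro f hf
      rw [hσa, hshift 1 f, hf, toMul_zero, map_one, ofMul_one]
    have hσk : ∀ (k : ℕ) (f : ZMod p → ZMod p) (i : ZMod p), (σ ^ k) f i = f (i - k) := by
      intro k
      induction k with
      | zero => intro f i; simp
      | succ k ih =>
        intro f i
        rw [pow_succ, Module.End.mul_apply, ih, hσa, Nat.cast_succ, sub_add_eq_sub_sub]
    have hσp : σ ^ p = 1 := by
      apply LinearMap.ext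
      intro f
      funext i
      rw [hσk, CharP.cast_eq_zero, sub_zero, Module.End.one_apply]
    obtain ⟨Δ, hΔ⟩ : ∃ Δ : Module.End (ZMod p) (ZMod p → ZMod p), Δ = σ - 1 := ⟨_, rfl⟩
    have hΔp : Δ ^ p = 0 := by
      have := Cfsg.Agent.Lib.Helper3.HHB3.alg_sub_one_pow (K := ZMod p) p 1 σ
      rw [pow_one] at this
      rw [hΔ, this, hσp, sub_self]
    have hΔa : ∀ g : ZMod p → ZMod p, Δ g = σ g - g := by
      intro g; rw [hΔ, LinearMap.sub_apply, Module.End.one_apply]
    have hΔΦ : ∀ (k : ℕ) (f : ZMod p → ZMod p), Φ f = 0 → Φ ((Δ ^ k) f) = 0 := by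
      intro k
      induction k with
      | zero => intro f hf; simpa using hf
      | succ k ih =>
        intro f hf
        rw [pow_succ', Module.End.mul_apply, hΔa, map_sub, hσΦ _ (ih f hf), ih f hf, sub_zero]
    intro f hf
    by_contra hne
    have hex : ∃ k, (Δ ^ k) f = 0 := ⟨p, by rw [hΔp]; rfl⟩
    classical
    obtain ⟨k₀, hk₀⟩ : ∃ k₀, k₀ = Nat.find hex := ⟨_, rfl⟩
    have hk₀s : (Δ ^ k₀) f = 0 := by rw [hk₀]; exact Nat.find_spec hex
    have hk₀0 : k₀ ≠ 0 := by
      intro h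
      rw [h, pow_zero, Module.End.one_apply] at hk₀s
      exact hne hk₀s
    obtain ⟨k, hk⟩ : ∃ k, k₀ = k + 1 := Nat.exists_eq_succ_of_ne_zero hk₀0
    obtain ⟨g, hg⟩ : ∃ g, g = (Δ ^ k) f := ⟨_, rfl⟩
    have hg0 : g ≠ 0 := by
      rw [hg]
      have : k < Nat.find hex := by rw [← hk₀, hk]; exact Nat.lt_succ_self k
      exact Nat.find_min hex this
    have hΔg : Δ g = 0 := by
      rw [hg, ← Module.End.mul_apply, ← pow_succ', ← hk]; exact hk₀s
    have hσg : σ g = g := by
      rw [hΔa] at hΔg; exact sub_eq_zero.mp hΔg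
    have hgi : ∀ i, g (i - 1) = g i := by
      intro i
      have := congrFun hσg i
      rwa [hσa] at this
    have hconst := const_of_shift_invariant p g hgi
    have hg00 : g 0 ≠ 0 := by
      intro h
      apply hg0
      funext i
      rw [hconst i, h]; rfl
    have hΦg : Φ g = 0 := by rw [hg]; exact hΔΦ k f hf
    have hone : (fun _ : ZMod p => (1 : ZMod p)) = (g 0)⁻¹ • g := by
      funext i
      rw [Pi.smul_apply, smul_eq_mul, hconst i, inv_mul_cancel₀ hg00]
    apply hnorm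
    rw [hone, map_smul, hΦg, smul_zero]
  -- the two homomorphisms
  obtain ⟨f₁, hf₁⟩ : ∃ f₁ : Multiplicative (ZMod p → ZMod p) →* X,
      ∀ f : Multiplicative (ZMod p → ZMod p),
        f₁ f = ((Additive.toMul (Φ (Multiplicative.toAdd f)) : A) : X) :=
    ⟨A.subtype.comp (AddMonoidHom.toMultiplicativeLeft Φ.toAddMonoidHom), fun _ => rfl⟩
  obtain ⟨f₂, hf₂⟩ : ∃ f₂ : Multiplicative (ZMod p) →* X,
      ∀ j, f₂ j = tp (Multiplicative.toAdd j) :=
    ⟨{ toFun := fun j => tp (Multiplicative.toAdd j)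
       map_one' := tp_zero
       map_mul' := fun a b => tp_add _ _ }, fun _ => rfl⟩
  have hcompat : ∀ j : Multiplicative (ZMod p),
      f₁.comp (MulEquiv.toMonoidHom (shiftHom p j)) =
        (MulEquiv.toMonoidHom (MulAut.conj (f₂ j))).comp f₁ := by
    intro j
    apply MonoidHom.ext
    intro f
    show f₁ (shiftHom p j f) = f₂ j * f₁ f * (f₂ j)⁻¹
    rw [hf₁, hf₁, hf₂]
    have : Multiplicative.toAdd (shiftHom p j f) =
        fun i => Multiplicative.toAdd f (i - Multiplicative.toAdd j) := rfl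
    rw [this, hshift, toMul_ofMul, MulAut.conjNormal_apply]
  refine ⟨SemidirectProduct.lift f₁ f₂ hcompat, ?_⟩
  rw [injective_iff_map_eq_one]
  intro w hw
  rw [← SemidirectProduct.inl_left_mul_inr_right w, map_mul, SemidirectProduct.lift_inl,
    SemidirectProduct.lift_inr] at hw
  have hmemA : f₂ w.right ∈ A := by
    have h1 : f₂ w.right = (f₁ w.left)⁻¹ := eq_inv_of_mul_eq_one_right hw
    rw [h1, hf₁]
    exact A.inv_mem (Subtype.property _)
  have hj : Multiplicative.toAdd w.right = 0 := by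
    by_contra hj
    obtain ⟨j, hjd⟩ : ∃ j, j = Multiplicative.toAdd w.right := ⟨_, rfl⟩
    rw [← hjd] at hj
    rw [hf₂, ← hjd] at hmemA
    have h1 : (1 : ZMod p) = (j⁻¹).val • j := by
      rw [nsmul_eq_mul, ZMod.natCast_zmod_val, inv_mul_cancel₀ hj]
    have htA : t ∈ A := by
      rw [← tp_one, h1, tp_nsmul]
      exact A.pow_mem hmemA _
    have hc : Commute v t := hAc v hv t htA
    apply hN
    rw [hc.mul_pow, hAp v hv, ht, one_mul]
  have hwr : w.right = 1 := by
    have := congrArg Multiplicative.ofAdd hj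
    simpa using this
  rw [hwr, map_one, mul_one, hf₁] at hw
  have h2 : Additive.toMul (Φ (Multiplicative.toAdd w.left)) = 1 := Subtype.ext hw
  have h3 : Φ (Multiplicative.toAdd w.left) = 0 := by
    have := congrArg Additive.ofMul h2
    simpa using this
  have h4 := hind _ h3
  have hwl : w.left = 1 := by
    have := congrArg Multiplicative.ofAdd h4
    simpa using this
  apply SemidirectProduct.ext
  · rw [hwl]; rfl
  · rw [hwr]; rfl

end Cfsg.Agent.Lib.Helper3.HHD2
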