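import Cfsg.Agent.Lib.Helper3.HHD2
import Cfsg.Agent.Lib.Helper3.HHC10
import Cfsg.Agent.Lib.Helper1.PConstrainedOfPSolvable
import Cfsg.Agent.Lib.Helper2.Involves
import Cfsg.Agent.Lib.Lead.Fus11

/-!
# `C_p ≀ C_p` is involved in a group with a self-centralizing elementary abelian `O_p`
of index divisible by `p` (`p` odd, not a Fermat prime).
-/

namespace Cfsg.Agent.Lib.Helper3.HHD3

open Cfsg Cfsg.Agent.Lib.Helper3.HHD1 Cfsg.Agent.Lib.Helper3.HHD2 Cfsg.Agent.Lib.Helper2.Inv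
open scoped IsMulCommutative

theorem conj_eq_of_commute {L : Type*} [Group L] (g w : L) (h : Commute g w) :
    ∀ r ∈ Subgroup.zpowers w, g * r * g⁻¹ = r := by
  intro r hr
  obtain ⟨k, rfl⟩ := Subgroup.mem_zpowers_iff.mp hr
  have : Commute g (w ^ k) := h.zpow_right k
  rw [this.eq, mul_inv_cancel_right]

theorem mem_normalizer_zpowers_of_commute {L : Type*} [Group L] (g w : L) (h : Commute g w) :
    g ∈ Subgroup.normalizer ((Subgroup.zpowers w : Subgroup L) : Set L) := by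
  rw [Subgroup.mem_normalizer_iff]
  intro r
  constructor
  · intro hr
    rw [conj_eq_of_commute g w h r hr]; exact hr
  · intro hr
    have h2 := conj_eq_of_commute g⁻¹ w h.inv_left _ hr
    have h3 : g⁻¹ * (g * r * g⁻¹) * g⁻¹⁻¹ = r := by group
    rw [h3] at h2
    rw [h2]; exact hr

theorem involves_wr_of_selfCentralizing {L : Type*} [Group L] [Finite L] (p : ℕ)
    [hp : Fact p.Prime] (hp2 : p ≠ 2) (hnf : ¬ ∃ k : ℕ, p = 2 ^ k + 1)
    (V : Subgroup L) [hVn : V.Normal] (hVc : ∀ a ∈ V, ∀ b ∈ V, a * b = b * a)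
    (hVp : ∀ a ∈ V, a ^ p = 1) (hcent : Subgroup.centralizer (V : Set L) ≤ V)
    (hOp : ∀ N : Subgroup L, N.Normal → IsPGroup p N → N ≤ V)
    (hsol : IsPSolvable p L) (hdvd : p ∣ V.index) : Involves (WrModel p) L := by
  haveI : IsMulCommutative V := ⟨⟨fun a b => Subtype.ext (hVc a a.2 b b.2)⟩⟩
  have instMod : Module (ZMod p) (Additive V) := AddCommGroup.zmodModule (n := p) (by
    intro x
    obtain ⟨a, rfl⟩ := Additive.ofMul.surjective x
    have ha : a ^ p = 1 := Subtype.ext (by simpa using hVp a a.2)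
    rw [← ofMul_pow, ha, ofMul_one])
  -- the representation
  obtain ⟨ρ, hρ⟩ : ∃ ρ : L →* (Additive V ≃ₗ[ZMod p] Additive V), ∀ (g : L) (a : Additive V),
      ρ g a = Additive.ofMul (MulAut.conjNormal g (Additive.toMul a)) := by
    refine ⟨{ toFun := fun g => (MulEquiv.toAdditive (MulAut.conjNormal g : V ≃* V)).toLinearEquiv
                (fun c x => ZMod.map_smul _ c x)
              map_one' := ?_
              map_mul' := ?_ }, fun _ _ => rfl⟩
    · apply LinearEquiv.ext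
      intro a
      show Additive.ofMul (MulAut.conjNormal (1 : L) (Additive.toMul a)) = a
      rw [map_one]; rfl
    · intro g h
      apply LinearEquiv.ext
      intro a
      show Additive.ofMul (MulAut.conjNormal (g * h) (Additive.toMul a)) =
        Additive.ofMul (MulAut.conjNormal g (Additive.toMul
          (Additive.ofMul (MulAut.conjNormal h (Additive.toMul a)))))
      rw [map_mul]; rfl
  have hker1 : ∀ g, ρ g = 1 → g ∈ V := by
    intro g hg
    apply hcent
    rw [Subgroup.mem_centralizer_iff]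
    intro a ha
    have h1 := hρ g (Additive.ofMul ⟨a, ha⟩)
    rw [hg] at h1
    have h2 : (⟨a, ha⟩ : V) = MulAut.conjNormal g ⟨a, ha⟩ := by
      have := congrArg Additive.toMul h1
      simpa using this
    have h3 := congrArg Subtype.val h2
    rw [MulAut.conjNormal_apply] at h3
    simp only at h3
    calc a * g = g * a * g⁻¹ * g := by rw [← h3]
      _ = g * a := by group
  have hker2 : ∀ g ∈ V, ρ g = 1 := by
    intro g hg
    apply LinearEquiv.ext
    intro a
    rw [hρ]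
    have : MulAut.conjNormal g (Additive.toMul a) = Additive.toMul a := by
      apply Subtype.ext
      rw [MulAut.conjNormal_apply, hVc g hg _ (Additive.toMul a).2, mul_inv_cancel_right]
    rw [this]; rfl
  obtain ⟨H, hH⟩ : ∃ H, H = ρ.range := ⟨_, rfl⟩
  have hρH : ∀ g, ρ g ∈ H := by intro g; rw [hH]; exact ⟨g, rfl⟩
  obtain ⟨ρr, hρr⟩ : ∃ ρr : L →* H, ∀ g, ((ρr g : H) : Additive V ≃ₗ[ZMod p] Additive V) = ρ g :=
    ⟨ρ.codRestrict H hρH, fun _ => rfl⟩
  have hρrs : Function.Surjective ρr := by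
    rintro ⟨h, hh⟩
    rw [hH] at hh
    obtain ⟨g, rfl⟩ := hh
    exact ⟨g, Subtype.ext (hρr g)⟩
  haveI : Finite H := Finite.of_surjective ρr hρrs
  have hsolH : IsPSolvable p H :=
    Cfsg.Agent.Lib.Helper1.isPSolvable_of_surjective p ρr hρrs hsol
  have hOpH : pCore p H = ⊥ := by
    haveI := (Cfsg.Agent.Lib.Helper2.pCore_mem (G := H) p).1
    have hNV : (pCore p H).comap ρr ≤ V := by
      apply hOp _ inferInstance
      rintro ⟨m, hm⟩
      obtain ⟨k, hk⟩ := (Cfsg.Agent.Lib.Helper2.pCore_isPGroup (G := H) p) ⟨ρr m, hm⟩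
      have h1 : (ρr m) ^ (p ^ k) = 1 := by
        have := congrArg Subtype.val hk
        simpa using this
      have h2 : ρ (m ^ (p ^ k)) = 1 := by
        rw [← hρr, map_pow, h1]; rfl
      have h3 := hVp _ (hker1 _ h2)
      refine ⟨k + 1, Subtype.ext ?_⟩
      show m ^ (p ^ (k + 1)) = 1
      rw [pow_succ, pow_mul, h3]
    rw [eq_bot_iff]
    intro h hh
    obtain ⟨n, rfl⟩ := hρrs h
    have hn : n ∈ V := hNV hh
    rw [Subgroup.mem_bot]
    apply Subtype.ext
    rw [hρr, hker2 n hn]; rfl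
  have hkerV : ρ.ker = V :=
    le_antisymm (fun g hg => hker1 g (MonoidHom.mem_ker.mp hg))
      (fun g hg => MonoidHom.mem_ker.mpr (hker2 g hg))
  have hcardH : p ∣ Nat.card H := by
    rw [hH, ← Subgroup.index_ker, hkerV]; exact hdvd
  obtain ⟨x, hx⟩ := exists_prime_orderOf_dvd_card' (G := H) p hcardH
  obtain ⟨g, hg⟩ := hρrs x
  have hgo : orderOf (ρ g) = p := by
    rw [← hρr, hg, Subgroup.orderOf_coe, hx]
  have key := Cfsg.Agent.Lib.Helper3.HHC10.theoremB_concrete (F := ZMod p) (p := p) H hsolH hOpH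
    (ρ g) (hρH g) 0 (by rw [hgo]; simp)
  have hne : ((ρ g : Module.End (ZMod p) (Additive V)) - 1) ^ (p - 1) ≠ 0 := by
    rcases key with h | ⟨q, n₀, m, hq, h1, h2, h3, h4, -, -⟩
    · simpa using h
    · exfalso
      have hn₀ : n₀ = 1 := by omega
      rw [hn₀, pow_one] at h4
      have hodd : Odd p := hp.out.odd_of_ne_two hp2
      have h2dvd : 2 ∣ q ^ m := by
        rw [← h4]
        obtain ⟨k, hk⟩ := hodd
        omega
      have hq2 : q = 2 :=
        ((Nat.prime_dvd_prime_iff_eq Nat.prime_two hq).mp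
          (Nat.Prime.dvd_of_dvd_pow Nat.prime_two h2dvd)).symm
      apply hnf
      refine ⟨m, ?_⟩
      rw [← hq2, ← h4]
      have := hp.out.one_lt
      omega
  have hgeom := Cfsg.Agent.Lib.Helper3.HHB3.alg_geom_sum_eq_pow (K := ZMod p) p 1
    (ρ g : Module.End (ZMod p) (Additive V))
  rw [pow_one] at hgeom
  obtain ⟨a, ha⟩ : ∃ a : Additive V,
      (∑ i ∈ Finset.range p, (ρ g : Module.End (ZMod p) (Additive V)) ^ i) a ≠ 0 := by
    by_contra hcon
    push Not at hcon
    apply hne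
    rw [← hgeom]
    exact LinearMap.ext hcon
  have hpow : ∀ (i : ℕ) (b : Additive V), ((ρ g : Module.End (ZMod p) (Additive V)) ^ i) b =
      Additive.ofMul (MulAut.conjNormal (g ^ i) (Additive.toMul b)) := by
    intro i b
    have h1 : ((ρ g : Module.End (ZMod p) (Additive V)) ^ i) =
        ((ρ (g ^ i) : Additive V ≃ₗ[ZMod p] Additive V) : Module.End (ZMod p) (Additive V)) := by
      rw [map_pow]
      exact (map_pow (LinearEquiv.automorphismGroup.toLinearMapMonoidHom
        (R := ZMod p) (M := Additive V)) (ρ g) i).symm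
    rw [h1]
    exact hρ (g ^ i) b
  -- the norm homomorphism
  obtain ⟨nrm, hnrm⟩ : ∃ nrm : V →* V,
      ∀ b, nrm b = ∏ i ∈ Finset.range p, MulAut.conjNormal (g ^ i) b :=
    ⟨∏ i ∈ Finset.range p, (MulAut.conjNormal (g ^ i) : V ≃* V).toMonoidHom,
      fun b => MonoidHom.finset_prod_apply _ _ b⟩
  obtain ⟨v₀, hv₀⟩ : ∃ v₀ : V, nrm v₀ ≠ 1 := by
    refine ⟨Additive.toMul a, ?_⟩
    intro h
    apply ha
    rw [LinearMap.sum_apply]
    rw [Finset.sum_congr rfl (fun i _ => hpow i a), ← ofMul_prod, ← hnrm, h, ofMul_one]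
  have hformula : ∀ u : V, ((u : L) * g) ^ p = (nrm u : L) * g ^ p := by
    intro u
    rw [mul_pow_eq_prod_conj V g u p, hnrm]
  obtain ⟨w, hw⟩ : ∃ w, w = g ^ p := ⟨_, rfl⟩
  have hwV : w ∈ V := by
    apply hker1
    have h1 := pow_orderOf_eq_one (ρ g)
    rw [hgo] at h1
    rw [hw, map_pow, h1]
  by_cases hcase : ∃ u : V, nrm u = (⟨w, hwV⟩ : V)⁻¹
  · -- split case
    obtain ⟨u, hu⟩ := hcase
    obtain ⟨t₀, ht₀⟩ : ∃ t₀, t₀ = (u : L) * g := ⟨_, rfl⟩
    have ht₀p : t₀ ^ p = 1 := by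
      rw [ht₀, hformula, hu, ← hw]
      show (w⁻¹ : L) * w = 1
      rw [inv_mul_cancel]
    have hN : ((v₀ : L) * t₀) ^ p ≠ 1 := by
      have h1 : (v₀ : L) * t₀ = ((v₀ * u : V) : L) * g := by
        rw [ht₀, Subgroup.coe_mul, mul_assoc]
      rw [h1, hformula, map_mul, hu, ← hw]
      intro h
      apply hv₀
      apply Subtype.ext
      have h2 : ((nrm v₀ * (⟨w, hwV⟩ : V)⁻¹ : V) : L) * w = (nrm v₀ : L) := by
        show (nrm v₀ : L) * w⁻¹ * w = _
        rw [inv_mul_cancel_right]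
      rw [← h2, h]; rfl
    obtain ⟨ψ, hψ⟩ := exists_injective_of_norm_ne_one p V hVc hVp t₀ (v₀ : L) ht₀p v₀.2 hN
    exact Cfsg.Agent.Lib.Lead.Fus.involves_of_injective_hom ψ hψ involves_refl
  · -- non-split case
    push Not at hcase
    obtain ⟨w', hw'⟩ : ∃ w' : V, w' = ⟨w, hwV⟩ := ⟨_, rfl⟩
    rw [← hw'] at hcase
    have hw'c : (w' : L) = w := by rw [hw']
    have hw1 : w' ≠ 1 := by
      intro h
      apply hcase 1
      rw [map_one, h, inv_one]
    have hw'p : w' ^ p = 1 := Subtype.ext (by simpa using hVp w' w'.2)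
    have how' : orderOf w' = p := orderOf_eq_prime hw'p hw1
    obtain ⟨v₁, hv₁⟩ : ∃ v₁ : V, nrm v₁ ∉ Subgroup.zpowers w' := by
      by_contra hall
      push Not at hall
      have hcardZ : Nat.card (Subgroup.zpowers w') = p := by rw [Nat.card_zpowers, how']
      obtain ⟨z₀, hz₀⟩ : ∃ z₀ : Subgroup.zpowers w', z₀ = ⟨nrm v₀, hall v₀⟩ := ⟨_, rfl⟩
      have hz₀1 : z₀ ≠ 1 := by
        intro h
        apply hv₀
        have := congrArg Subtype.val h
        rw [hz₀] at this
        exact this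
      have htop := zpowers_eq_top_of_prime_card hcardZ hz₀1
      have hmem : (⟨w'⁻¹, (Subgroup.zpowers w').inv_mem (Subgroup.mem_zpowers w')⟩ :
          Subgroup.zpowers w') ∈ Subgroup.zpowers z₀ := by rw [htop]; trivial
      obtain ⟨k, hk⟩ := Subgroup.mem_zpowers_iff.mp hmem
      have hk' : (nrm v₀) ^ k = w'⁻¹ := by
        have := congrArg Subtype.val hk
        rw [Subgroup.coe_zpow, hz₀] at this
        exact this
      apply hcase (v₀ ^ k)
      rw [map_zpow, hk']
    have hN₁ : ((v₁ : L) * g) ^ p ∉ Subgroup.zpowers w := by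
      rw [hformula, ← hw]
      intro h
      apply hv₁
      have h2 : (nrm v₁ : L) ∈ Subgroup.zpowers w := by
        have := (Subgroup.zpowers w).mul_mem h ((Subgroup.zpowers w).inv_mem
          (Subgroup.mem_zpowers w))
        rwa [mul_inv_cancel_right] at this
      obtain ⟨k, hk⟩ := Subgroup.mem_zpowers_iff.mp h2
      rw [Subgroup.mem_zpowers_iff]
      refine ⟨k, Subtype.ext ?_⟩
      rw [Subgroup.coe_zpow, hw'c, hk]
    obtain ⟨R, hR⟩ : ∃ R, R = Subgroup.zpowers w := ⟨_, rfl⟩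
    obtain ⟨K, hK⟩ : ∃ K, K = Subgroup.normalizer (R : Set L) := ⟨_, rfl⟩
    haveI hRK : (R.subgroupOf K).Normal := by rw [hK]; exact Subgroup.normal_in_normalizer
    have hgK : g ∈ K := by
      rw [hK, hR]
      apply mem_normalizer_zpowers_of_commute
      rw [hw]; exact Commute.self_pow g p
    have hVK : ∀ b ∈ V, b ∈ K := by
      intro b hb
      rw [hK, hR]
      apply mem_normalizer_zpowers_of_commute
      exact hVc b hb w hwV
    obtain ⟨π, hπ⟩ : ∃ π : K →* K ⧸ R.subgroupOf K, π = QuotientGroup.mk' (R.subgroupOf K) :=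
      ⟨_, rfl⟩
    have hπs : Function.Surjective π := by rw [hπ]; exact QuotientGroup.mk'_surjective _
    have hπ1 : ∀ k : K, π k = 1 ↔ (k : L) ∈ R := by
      intro k
      rw [hπ]
      show ((k : K) : K ⧸ R.subgroupOf K) = 1 ↔ _
      rw [QuotientGroup.eq_one_iff, Subgroup.mem_subgroupOf]
    obtain ⟨A, hA⟩ : ∃ A, A = (V.subgroupOf K).map π := ⟨_, rfl⟩
    haveI hAn : A.Normal := by
      rw [hA]; exact Subgroup.Normal.map inferInstance _ hπs
    have hAc : ∀ a ∈ A, ∀ b ∈ A, a * b = b * a := by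
      rw [hA]
      rintro _ ⟨a, ha, rfl⟩ _ ⟨b, hb, rfl⟩
      rw [← map_mul, ← map_mul]
      congr 1
      exact Subtype.ext (hVc a (Subgroup.mem_subgroupOf.mp ha) b (Subgroup.mem_subgroupOf.mp hb))
    have hAp : ∀ a ∈ A, a ^ p = 1 := by
      rw [hA]
      rintro _ ⟨a, ha, rfl⟩
      rw [← map_pow]
      have : a ^ p = 1 := Subtype.ext (by simpa using hVp a (Subgroup.mem_subgroupOf.mp ha))
      rw [this, map_one]
    have htp : (π ⟨g, hgK⟩) ^ p = 1 := by
      rw [← map_pow, hπ1]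
      show g ^ p ∈ R
      rw [hR, ← hw]; exact Subgroup.mem_zpowers w
    have hvA : π ⟨v₁, hVK _ v₁.2⟩ ∈ A := by
      rw [hA]
      exact ⟨_, Subgroup.mem_subgroupOf.mpr v₁.2, rfl⟩
    have hN : (π ⟨v₁, hVK _ v₁.2⟩ * π ⟨g, hgK⟩) ^ p ≠ 1 := by
      rw [← map_mul, ← map_pow, Ne, hπ1]
      show ¬ ((v₁ : L) * g) ^ p ∈ R
      rw [hR]; exact hN₁
    obtain ⟨ψ, hψ⟩ := exists_injective_of_norm_ne_one p A hAc hAp _ _ htp hvA hN
    have h1 : Involves (WrModel p) (K ⧸ R.subgroupOf K) :=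
      Cfsg.Agent.Lib.Lead.Fus.involves_of_injective_hom ψ hψ involves_refl
    have h2 : Involves (K ⧸ R.subgroupOf K) L := ⟨K, R, hRK, ⟨MulEquiv.refl _⟩⟩
    exact involves_trans h1 h2

end Cfsg.Agent.Lib.Helper3.HHD3
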