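import Cfsg.Agent.Lib.Helper3.HHD3
import Cfsg.Agent.Lib.Helper3.UpperPSeries
import Cfsg.Agent.Lib.Helper1.FrattiniP
import Cfsg.Agent.Lib.Helper1.StableQuad4
import Cfsg.Agent.Lib.Helper1.PSolvSub
import Cfsg.Agent.Lib.Helper1.PLengthOne
import Cfsg.Agent.S4218

/-!
# `C_p ≀ C_p` is involved in a `p`-soluble group of `p`-length at least two
(`p` odd, not a Fermat prime).
-/

namespace Cfsg.Agent.Lib.Helper3.HHD4

open Cfsg Cfsg.Agent.Lib.Helper3.HHD1 Cfsg.Agent.Lib.Helper3.HHD3 Cfsg.Agent.Lib.Helper2.Inv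
open scoped commutatorElement

theorem involves_wr_of_pPrimeCore_bot {G : Type*} [Group G] [Finite G] (p : ℕ)
    [hp : Fact p.Prime] (hp2 : p ≠ 2) (hnf : ¬ ∃ k : ℕ, p = 2 ^ k + 1)
    (hsol : IsPSolvable p G) (hbot : pPrimeCore p G = ⊥) (hdvd : p ∣ (pCore p G).index) :
    Involves (WrModel p) G := by
  have hc0 : Subgroup.centralizer (pCore p G : Set G) ≤ pCore p G :=
    Cfsg.Agent.Lib.Helper1.centralizer_pCore_le_of_isPSolvable hbot
      (Cfsg.Agent.Lib.Helper1.PSolvSub.isPSolvable_subgroup hsol _)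
  obtain ⟨P₁, hP₁⟩ : ∃ P₁, P₁ = pCore p G := ⟨_, rfl⟩
  rw [← hP₁] at hdvd hc0
  haveI hPn : P₁.Normal := by rw [hP₁]; exact (Cfsg.Agent.Lib.Helper2.pCore_mem p).1
  have hPp : IsPGroup p P₁ := by rw [hP₁]; exact Cfsg.Agent.Lib.Helper2.pCore_isPGroup p
  obtain ⟨Φ, hΦ⟩ : ∃ Φ, Φ = (frattini ↥P₁).map P₁.subtype := ⟨_, rfl⟩
  haveI hΦn : Φ.Normal := by rw [hΦ]; infer_instance
  have hΦP : Φ ≤ P₁ := by rw [hΦ]; exact Subgroup.map_subtype_le _
  have hcommΦ : ∀ a ∈ P₁, ∀ b ∈ P₁, a * b * a⁻¹ * b⁻¹ ∈ Φ := by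
    intro a ha b hb
    rw [hΦ]
    have h2 : ⁅(⟨a, ha⟩ : P₁), ⟨b, hb⟩⁆ ∈ commutator ↥P₁ :=
      Subgroup.commutator_mem_commutator (Subgroup.mem_top _) (Subgroup.mem_top _)
    have h3 := Cfsg.Agent.Lib.Helper1.commutator_le_frattini_of_isPGroup p hPp h2
    exact ⟨_, h3, by simp [commutatorElement_def]⟩
  have hpowΦ : ∀ a ∈ P₁, a ^ p ∈ Φ := by
    intro a ha
    rw [hΦ]
    exact ⟨_, Cfsg.Agent.Lib.Helper1.pow_prime_mem_frattini_of_isPGroup p hPp ⟨a, ha⟩, by simp⟩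
  obtain ⟨π, hπ⟩ : ∃ π : G →* G ⧸ Φ, π = QuotientGroup.mk' Φ := ⟨_, rfl⟩
  have hπs : Function.Surjective π := by rw [hπ]; exact QuotientGroup.mk'_surjective Φ
  have hπ1 : ∀ g, π g = 1 ↔ g ∈ Φ := by
    intro g; rw [hπ]; exact QuotientGroup.eq_one_iff g
  have hπker : π.ker = Φ := by rw [hπ]; exact QuotientGroup.ker_mk' Φ
  have hker : sectionKernel P₁ Φ ≤ P₁ := by
    haveI : (P₁.map (QuotientGroup.mk' Φ)).Normal :=
      Subgroup.Normal.map inferInstance _ (QuotientGroup.mk'_surjective Φ)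
    haveI hsn : (sectionKernel P₁ Φ).Normal := by unfold sectionKernel; infer_instance
    have h1 : IsPGroup p (sectionKernel P₁ Φ) := by
      subst hΦ
      exact Cfsg.Agent.Lib.Helper1.StableQuad.isPGroup_sectionKernel_frattini P₁ hPp hc0
    exact (Cfsg.Agent.Lib.Helper2.le_pCore h1).trans_eq hP₁.symm
  obtain ⟨V, hV⟩ : ∃ V, V = P₁.map π := ⟨_, rfl⟩
  haveI hVn : V.Normal := by rw [hV]; exact Subgroup.Normal.map hPn π hπs
  have hVc : ∀ a ∈ V, ∀ b ∈ V, a * b = b * a := by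
    rw [hV]
    rintro _ ⟨a, ha, rfl⟩ _ ⟨b, hb, rfl⟩
    rw [← map_mul, ← map_mul]
    have h1 : π ((a * b)⁻¹ * (b * a)) = 1 := by
      rw [hπ1]
      have := hcommΦ b⁻¹ (P₁.inv_mem hb) a⁻¹ (P₁.inv_mem ha)
      have e : (a * b)⁻¹ * (b * a) = b⁻¹ * a⁻¹ * b⁻¹⁻¹ * a⁻¹⁻¹ := by group
      rw [e]; exact this
    rw [map_mul, map_inv, inv_mul_eq_one] at h1
    exact h1
  have hVp : ∀ a ∈ V, a ^ p = 1 := by
    rw [hV]
    rintro _ ⟨a, ha, rfl⟩
    rw [← map_pow, hπ1]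
    exact hpowΦ a ha
  have hcent : Subgroup.centralizer (V : Set (G ⧸ Φ)) ≤ V := by
    intro c hc'
    obtain ⟨g, rfl⟩ := hπs c
    have hg : g ∈ sectionKernel P₁ Φ := by
      unfold sectionKernel
      rw [Subgroup.mem_comap]
      rw [hV, hπ] at hc'
      exact hc'
    rw [hV]
    exact Subgroup.mem_map_of_mem _ (hker hg)
  have hOp : ∀ N : Subgroup (G ⧸ Φ), N.Normal → IsPGroup p N → N ≤ V := by
    intro N hN hNp
    haveI hMn : (N.comap π).Normal := hN.comap π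
    have hMp : IsPGroup p (N.comap π) := by
      rintro ⟨m, hm⟩
      obtain ⟨k, hk⟩ := hNp ⟨π m, hm⟩
      have h1 : π (m ^ p ^ k) = 1 := by
        have := congrArg Subtype.val hk
        rw [map_pow]
        simpa using this
      have h2 : m ^ p ^ k ∈ P₁ := hΦP ((hπ1 _).mp h1)
      obtain ⟨j, hj⟩ := hPp ⟨m ^ p ^ k, h2⟩
      have h3 : (m ^ p ^ k) ^ p ^ j = 1 := by
        have := congrArg Subtype.val hj
        simpa using this
      refine ⟨k + j, Subtype.ext ?_⟩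
      show m ^ p ^ (k + j) = 1
      rw [pow_add, pow_mul, h3]
    have hMle : N.comap π ≤ P₁ :=
      (Cfsg.Agent.Lib.Helper2.le_pCore hMp).trans_eq hP₁.symm
    intro n hn
    obtain ⟨m, rfl⟩ := hπs n
    rw [hV]
    exact Subgroup.mem_map_of_mem _ (hMle hn)
  have hsolL : IsPSolvable p (G ⧸ Φ) := Cfsg.Agent.S4218.isPSolvable_quotient p Φ hsol
  have hdvdL : p ∣ V.index := by
    rw [hV, Subgroup.index_map_eq P₁ hπs (by rw [hπker]; exact hΦP)]
    exact hdvd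
  have h1 := involves_wr_of_selfCentralizing p hp2 hnf V hVc hVp hcent hOp hsolL hdvdL
  exact involves_of_quotient Φ h1

theorem involves_wr_of_not_pLengthLE_one {G : Type*} [Group G] [Finite G] (p : ℕ)
    [hp : Fact p.Prime] (hp2 : p ≠ 2) (hnf : ¬ ∃ k : ℕ, p = 2 ^ k + 1)
    (hsol : IsPSolvable p G) (hlen : ¬ PLengthLE p 1 G) : Involves (WrModel p) G := by
  have hidx : p ∣ (pPrimePCore p G).index := by
    by_contra h
    apply hlen
    apply Cfsg.Agent.Lib.Helper3.pLengthLE_one_of_index_coprime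
    exact ((Nat.Prime.coprime_iff_not_dvd hp.out).mpr h).symm
  haveI := Cfsg.Agent.Lib.Helper1.pPrimeCore_normal (G := G) p
  have hbot : pPrimeCore p (G ⧸ pPrimeCore p G) = ⊥ :=
    Cfsg.Agent.Lib.Helper1.pPrimeCore_quotient_eq_bot (G := G) p
  have hsolQ : IsPSolvable p (G ⧸ pPrimeCore p G) :=
    Cfsg.Agent.S4218.isPSolvable_quotient p (pPrimeCore p G) hsol
  have hidx' : p ∣ (pCore p (G ⧸ pPrimeCore p G)).index := by
    have : (pPrimePCore p G).index = (pCore p (G ⧸ pPrimeCore p G)).index := by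
      unfold pPrimePCore
      exact Subgroup.index_comap_of_surjective _ (QuotientGroup.mk'_surjective _)
    rwa [this] at hidx
  have h1 := involves_wr_of_pPrimeCore_bot p hp2 hnf hsolQ hbot hidx'
  exact involves_of_quotient _ h1

end Cfsg.Agent.Lib.Helper3.HHD4
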