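import Mathlib

/-!
# HIG farm, unit U0: the `SL₂(K)` block (characteristic 2)

Elements `u a`, `l a`, `w c`, `d c`, `y c`, `x0` of `Matrix.SpecialLinearGroup (Fin 2) K`, the matrix
identities used in the proof of Higman's lemma (S3050), generation of `SL₂(K)` by the `u a`, `l a`, and
conjugacy of every element of order `3` to `x0 = u 1 * l 1` (for `K` finite of characteristic `2`).
-/

namespace Cfsg.Agent.Lib.Helper3.HIG

open Matrix

variable {K : Type*} [Field K]

/-- `[[1,a],[0,1]]`. -/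
def u (a : K) : Matrix.SpecialLinearGroup (Fin 2) K :=
  ⟨!![1, a; 0, 1], by simp [Matrix.det_fin_two]⟩

/-- `[[1,0],[a,1]]`. -/
def l (a : K) : Matrix.SpecialLinearGroup (Fin 2) K :=
  ⟨!![1, 0; a, 1], by simp [Matrix.det_fin_two]⟩

/-- `w c = u c * l c⁻¹ * u c`; in characteristic `2` and for `c ≠ 0` this is `[[0,c],[c⁻¹,0]]`. -/
def w (c : K) : Matrix.SpecialLinearGroup (Fin 2) K := u c * l c⁻¹ * u c

/-- `d c = w c * w 1`; in characteristic `2` and for `c ≠ 0` this is `diag (c, c⁻¹)`. -/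
def d (c : K) : Matrix.SpecialLinearGroup (Fin 2) K := w c * w 1

/-- `y c = u c * l c⁻¹`; for `c ≠ 0` (characteristic 2) this is `[[0,c],[c⁻¹,1]]`, of order `3`. -/
def y (c : K) : Matrix.SpecialLinearGroup (Fin 2) K := u c * l c⁻¹

/-- `x0 = u 1 * l 1 = [[0,1],[1,1]]` (characteristic 2). -/
def x0 : Matrix.SpecialLinearGroup (Fin 2) K := u 1 * l 1

@[simp] theorem u_coe (a : K) : ((u a : Matrix.SpecialLinearGroup (Fin 2) K) : Matrix (Fin 2) (Fin 2) K)
    = !![1, a; 0, 1] := rfl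

@[simp] theorem l_coe (a : K) : ((l a : Matrix.SpecialLinearGroup (Fin 2) K) : Matrix (Fin 2) (Fin 2) K)
    = !![1, 0; a, 1] := rfl

theorem u_mul (a b : K) : u a * u b = u (a + b) := by
  apply Matrix.SpecialLinearGroup.ext
  intro i j
  fin_cases i <;> fin_cases j <;> simp [Matrix.mul_apply, Fin.sum_univ_two, add_comm]

theorem l_mul (a b : K) : l a * l b = l (a + b) := by
  apply Matrix.SpecialLinearGroup.ext
  intro i j
  fin_cases i <;> fin_cases j <;> simp [Matrix.mul_apply, Fin.sum_univ_two, add_comm]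

theorem u_zero : u (0 : K) = 1 := by
  apply Matrix.SpecialLinearGroup.ext
  intro i j
  fin_cases i <;> fin_cases j <;> simp

theorem l_zero : l (0 : K) = 1 := by
  apply Matrix.SpecialLinearGroup.ext
  intro i j
  fin_cases i <;> fin_cases j <;> simp

theorem u_inv (a : K) : (u a)⁻¹ = u (-a) := by
  rw [inv_eq_iff_mul_eq_one, u_mul, add_neg_cancel, u_zero]

theorem l_inv (a : K) : (l a)⁻¹ = l (-a) := by
  rw [inv_eq_iff_mul_eq_one, l_mul, add_neg_cancel, l_zero]

theorem u_injective : Function.Injective (u : K → Matrix.SpecialLinearGroup (Fin 2) K) := by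
  intro a b h
  have := congrArg (fun g : Matrix.SpecialLinearGroup (Fin 2) K => (g : Matrix (Fin 2) (Fin 2) K) 0 1) h
  simpa using this

theorem l_injective : Function.Injective (l : K → Matrix.SpecialLinearGroup (Fin 2) K) := by
  intro a b h
  have := congrArg (fun g : Matrix.SpecialLinearGroup (Fin 2) K => (g : Matrix (Fin 2) (Fin 2) K) 1 0) h
  simpa using this

/-! ### Generation of `SL₂(K)` by the `u a`, `l a` (any field) -/

theorem det_entries (g : Matrix.SpecialLinearGroup (Fin 2) K) :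
    (g : Matrix (Fin 2) (Fin 2) K) 0 0 * (g : Matrix (Fin 2) (Fin 2) K) 1 1 -
      (g : Matrix (Fin 2) (Fin 2) K) 0 1 * (g : Matrix (Fin 2) (Fin 2) K) 1 0 = 1 := by
  have := g.det_coe
  rwa [Matrix.det_fin_two] at this

/-- If the lower left entry `c` of `g` is nonzero then `g = u ((a-1)/c) * l c * u ((d-1)/c)`. -/
theorem eq_u_l_u (g : Matrix.SpecialLinearGroup (Fin 2) K)
    (hc : (g : Matrix (Fin 2) (Fin 2) K) 1 0 ≠ 0) :
    g = u (((g : Matrix (Fin 2) (Fin 2) K) 0 0 - 1) / (g : Matrix (Fin 2) (Fin 2) K) 1 0) *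
        l ((g : Matrix (Fin 2) (Fin 2) K) 1 0) *
        u (((g : Matrix (Fin 2) (Fin 2) K) 1 1 - 1) / (g : Matrix (Fin 2) (Fin 2) K) 1 0) := by
  have hdet := det_entries g
  apply Matrix.SpecialLinearGroup.ext
  intro i j
  fin_cases i <;> fin_cases j <;>
    simp [Matrix.SpecialLinearGroup.coe_mul, Matrix.mul_apply, Fin.sum_univ_two]
  · field_simp
    ring
  · field_simp
    linear_combination (-1 : K) * hdet
  · field_simp
    ring

theorem closure_u_l :
    Subgroup.closure (Set.range (u : K → Matrix.SpecialLinearGroup (Fin 2) K) ∪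
      Set.range (l : K → Matrix.SpecialLinearGroup (Fin 2) K)) = ⊤ := by
  rw [eq_top_iff]
  intro g _
  set S := Subgroup.closure (Set.range (u : K → Matrix.SpecialLinearGroup (Fin 2) K) ∪
      Set.range (l : K → Matrix.SpecialLinearGroup (Fin 2) K)) with hS
  have hu : ∀ a : K, u a ∈ S := fun a => Subgroup.subset_closure (Or.inl ⟨a, rfl⟩)
  have hl : ∀ a : K, l a ∈ S := fun a => Subgroup.subset_closure (Or.inr ⟨a, rfl⟩)
  have key : ∀ g : Matrix.SpecialLinearGroup (Fin 2) K,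
      (g : Matrix (Fin 2) (Fin 2) K) 1 0 ≠ 0 → g ∈ S := by
    intro g hc
    rw [eq_u_l_u g hc]
    exact S.mul_mem (S.mul_mem (hu _) (hl _)) (hu _)
  by_cases hc : (g : Matrix (Fin 2) (Fin 2) K) 1 0 = 0
  · have hdet := det_entries g
    have ha : (g : Matrix (Fin 2) (Fin 2) K) 0 0 ≠ 0 := by
      intro h0
      rw [h0, hc] at hdet
      simp at hdet
    have h1 : l 1 * g ∈ S := by
      apply key
      simp [Matrix.SpecialLinearGroup.coe_mul, Matrix.mul_apply, Fin.sum_univ_two, hc, ha]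
    have : g = (l 1)⁻¹ * (l 1 * g) := by group
    rw [this]
    exact S.mul_mem (S.inv_mem (hl 1)) h1
  · exact key g hc

/-- Two homomorphisms out of `SL₂(K)` that agree on all `u a`, `l a` are equal. -/
theorem monoidHom_ext_u_l {M : Type*} [Monoid M]
    (f g : Matrix.SpecialLinearGroup (Fin 2) K →* M)
    (hu : ∀ a, f (u a) = g (u a)) (hl : ∀ a, f (l a) = g (l a)) : f = g := by
  have h : Set.EqOn f g (Set.range (u : K → Matrix.SpecialLinearGroup (Fin 2) K) ∪
      Set.range (l : K → Matrix.SpecialLinearGroup (Fin 2) K)) := by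
    rintro x (⟨a, rfl⟩ | ⟨a, rfl⟩)
    · exact hu a
    · exact hl a
  exact MonoidHom.eq_of_eqOn_dense closure_u_l h

/-- Induction principle: a property of elements of `SL₂(K)` that holds for `1`, all `u a`, `l a` and is
closed under products holds everywhere. -/
theorem induction_u_l {p : Matrix.SpecialLinearGroup (Fin 2) K → Prop}
    (hu : ∀ a, p (u a)) (hl : ∀ a, p (l a))
    (hmul : ∀ g h, p g → p h → p (g * h)) (g : Matrix.SpecialLinearGroup (Fin 2) K) : p g := by
  have key : ∀ g : Matrix.SpecialLinearGroup (Fin 2) K,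
      (g : Matrix (Fin 2) (Fin 2) K) 1 0 ≠ 0 → p g := by
    intro g hc
    rw [eq_u_l_u g hc]
    exact hmul _ _ (hmul _ _ (hu _) (hl _)) (hu _)
  by_cases hc : (g : Matrix (Fin 2) (Fin 2) K) 1 0 = 0
  · have hdet := det_entries g
    have ha : (g : Matrix (Fin 2) (Fin 2) K) 0 0 ≠ 0 := by
      intro h0
      rw [h0, hc] at hdet
      simp at hdet
    have h1' : p (l 1 * g) := by
      apply key
      simp [Matrix.SpecialLinearGroup.coe_mul, Matrix.mul_apply, Fin.sum_univ_two, hc, ha]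
    have : g = l (-1) * (l 1 * g) := by
      rw [← mul_assoc, l_mul]; simp [l_zero]
    rw [this]
    exact hmul _ _ (hl _) h1'
  · exact key g hc

section CharTwo

variable [CharP K 2]

theorem two_eq_zero' : (2 : K) = 0 := CharTwo.two_eq_zero

theorem u_sq (a : K) : u a * u a = 1 := by
  rw [u_mul, CharTwo.add_self_eq_zero, u_zero]

theorem l_sq (a : K) : l a * l a = 1 := by
  rw [l_mul, CharTwo.add_self_eq_zero, l_zero]

theorem u_inv' (a : K) : (u a)⁻¹ = u a := by
  rw [inv_eq_iff_mul_eq_one, u_sq]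

theorem l_inv' (a : K) : (l a)⁻¹ = l a := by
  rw [inv_eq_iff_mul_eq_one, l_sq]

theorem w_coe {c : K} (hc : c ≠ 0) :
    ((w c : Matrix.SpecialLinearGroup (Fin 2) K) : Matrix (Fin 2) (Fin 2) K) = !![0, c; c⁻¹, 0] := by
  have h2 : (2 : K) = 0 := CharTwo.two_eq_zero
  ext i j
  fin_cases i <;> fin_cases j <;>
    simp [w, Matrix.mul_apply, Fin.sum_univ_two, hc]
  all_goals linear_combination h2

theorem y_coe {c : K} (hc : c ≠ 0) :
    ((y c : Matrix.SpecialLinearGroup (Fin 2) K) : Matrix (Fin 2) (Fin 2) K) = !![0, c; c⁻¹, 1] := by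
  have h2 : (2 : K) = 0 := CharTwo.two_eq_zero
  ext i j
  fin_cases i <;> fin_cases j <;>
    simp [y, Matrix.mul_apply, Fin.sum_univ_two, hc]
  linear_combination h2

theorem x0_coe : ((x0 : Matrix.SpecialLinearGroup (Fin 2) K) : Matrix (Fin 2) (Fin 2) K)
    = !![0, 1; 1, 1] := by
  have h2 : (2 : K) = 0 := CharTwo.two_eq_zero
  ext i j
  fin_cases i <;> fin_cases j <;>
    simp [x0, Matrix.mul_apply, Fin.sum_univ_two]
  linear_combination h2

omit [CharP K 2] in
theorem y_one : y (1 : K) = x0 := by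
  simp [y, x0]

theorem w_one_coe : ((w (1:K) : Matrix.SpecialLinearGroup (Fin 2) K) : Matrix (Fin 2) (Fin 2) K)
    = !![0, 1; 1, 0] := by
  rw [w_coe one_ne_zero]; simp

theorem d_coe {c : K} (hc : c ≠ 0) :
    ((d c : Matrix.SpecialLinearGroup (Fin 2) K) : Matrix (Fin 2) (Fin 2) K) = !![c, 0; 0, c⁻¹] := by
  ext i j
  fin_cases i <;> fin_cases j <;>
    simp [d, Matrix.SpecialLinearGroup.coe_mul, w_coe hc, w_one_coe, Matrix.mul_apply, Fin.sum_univ_two]

theorem w_sq {c : K} (hc : c ≠ 0) : w c * w c = 1 := by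
  apply Matrix.SpecialLinearGroup.ext
  intro i j
  fin_cases i <;> fin_cases j <;>
    simp [Matrix.SpecialLinearGroup.coe_mul, w_coe hc, Matrix.mul_apply, Fin.sum_univ_two, hc]

theorem w_inv {c : K} (hc : c ≠ 0) : (w c)⁻¹ = w c := by
  rw [inv_eq_iff_mul_eq_one, w_sq hc]

/-- `w 1 * u a * w 1 = l a`. -/
theorem w_one_conj_u (a : K) : w 1 * u a * w 1 = l a := by
  apply Matrix.SpecialLinearGroup.ext
  intro i j
  fin_cases i <;> fin_cases j <;>
    simp [Matrix.SpecialLinearGroup.coe_mul, w_one_coe, Matrix.mul_apply, Fin.sum_univ_two]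

/-- `w 1 * l a * w 1 = u a`. -/
theorem w_one_conj_l (a : K) : w 1 * l a * w 1 = u a := by
  apply Matrix.SpecialLinearGroup.ext
  intro i j
  fin_cases i <;> fin_cases j <;>
    simp [Matrix.SpecialLinearGroup.coe_mul, w_one_coe, Matrix.mul_apply, Fin.sum_univ_two]

theorem d_mul {c m : K} (hc : c ≠ 0) (hm : m ≠ 0) : d (c * m) = d c * d m := by
  apply Matrix.SpecialLinearGroup.ext
  intro i j
  fin_cases i <;> fin_cases j <;>
    simp [Matrix.SpecialLinearGroup.coe_mul, d_coe hc, d_coe hm, d_coe (mul_ne_zero hc hm),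
      Matrix.mul_apply, Fin.sum_univ_two, mul_comm]

theorem d_one : d (1 : K) = 1 := by
  apply Matrix.SpecialLinearGroup.ext
  intro i j
  fin_cases i <;> fin_cases j <;> simp [d_coe (one_ne_zero : (1:K) ≠ 0)]

theorem d_inv {c : K} (hc : c ≠ 0) : (d c)⁻¹ = d c⁻¹ := by
  rw [inv_eq_iff_mul_eq_one, ← d_mul hc (inv_ne_zero hc), mul_inv_cancel₀ hc, d_one]

/-- `d c * u a * (d c)⁻¹ = u (c^2 * a)`. -/
theorem d_conj_u {c : K} (hc : c ≠ 0) (a : K) : d c * u a * (d c)⁻¹ = u (c ^ 2 * a) := by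
  rw [d_inv hc]
  apply Matrix.SpecialLinearGroup.ext
  intro i j
  fin_cases i <;> fin_cases j <;>
    simp [Matrix.SpecialLinearGroup.coe_mul, d_coe hc, d_coe (inv_ne_zero hc),
      Matrix.mul_apply, Fin.sum_univ_two, hc]
  ring

/-- `d c * l a * (d c)⁻¹ = l (c⁻¹^2 * a)`. -/
theorem d_conj_l {c : K} (hc : c ≠ 0) (a : K) : d c * l a * (d c)⁻¹ = l (c⁻¹ ^ 2 * a) := by
  rw [d_inv hc]
  apply Matrix.SpecialLinearGroup.ext
  intro i j
  fin_cases i <;> fin_cases j <;>
    simp [Matrix.SpecialLinearGroup.coe_mul, d_coe hc, d_coe (inv_ne_zero hc),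
      Matrix.mul_apply, Fin.sum_univ_two, hc]
  ring

/-- (S0a) `w c * l 1 * w c = u (c^2)`. -/
theorem w_conj_l_one {c : K} (hc : c ≠ 0) : w c * l 1 * w c = u (c ^ 2) := by
  apply Matrix.SpecialLinearGroup.ext
  intro i j
  fin_cases i <;> fin_cases j <;>
    simp [Matrix.SpecialLinearGroup.coe_mul, w_coe hc, Matrix.mul_apply, Fin.sum_univ_two, hc]
  ring

/-- (S0b) `w c * u 1 * w c = l (c⁻¹^2)`. -/
theorem w_conj_u_one {c : K} (hc : c ≠ 0) : w c * u 1 * w c = l (c⁻¹ ^ 2) := by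
  apply Matrix.SpecialLinearGroup.ext
  intro i j
  fin_cases i <;> fin_cases j <;>
    simp [Matrix.SpecialLinearGroup.coe_mul, w_coe hc, Matrix.mul_apply, Fin.sum_univ_two, hc]
  ring

/-- general version: `w c * l a * w c = u (c^2 * a)`. -/
theorem w_conj_l {c : K} (hc : c ≠ 0) (a : K) : w c * l a * w c = u (c ^ 2 * a) := by
  apply Matrix.SpecialLinearGroup.ext
  intro i j
  fin_cases i <;> fin_cases j <;>
    simp [Matrix.SpecialLinearGroup.coe_mul, w_coe hc, Matrix.mul_apply, Fin.sum_univ_two, hc]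
  ring

/-- general version: `w c * u a * w c = l (c⁻¹^2 * a)`. -/
theorem w_conj_u {c : K} (hc : c ≠ 0) (a : K) : w c * u a * w c = l (c⁻¹ ^ 2 * a) := by
  apply Matrix.SpecialLinearGroup.ext
  intro i j
  fin_cases i <;> fin_cases j <;>
    simp [Matrix.SpecialLinearGroup.coe_mul, w_coe hc, Matrix.mul_apply, Fin.sum_univ_two, hc]
  ring

/-- `y c = d m * x0 * (d m)⁻¹` when `m^2 = c`, `m ≠ 0`. -/
theorem y_eq_conj {c m : K} (hm : m ≠ 0) (hmc : m ^ 2 = c) : y c = d m * x0 * (d m)⁻¹ := by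
  have hc : c ≠ 0 := by rw [← hmc]; exact pow_ne_zero 2 hm
  rw [d_inv hm]
  apply Matrix.SpecialLinearGroup.ext
  intro i j
  subst hmc
  fin_cases i <;> fin_cases j <;>
    simp [Matrix.SpecialLinearGroup.coe_mul, y_coe hc, x0_coe, d_coe hm, d_coe (inv_ne_zero hm),
      Matrix.mul_apply, Fin.sum_univ_two, hm]
  all_goals ring

/-- `y c` satisfies `X^2 + X + 1 = 0` as a matrix. -/
theorem y_poly {c : K} (hc : c ≠ 0) :
    ((y c : Matrix.SpecialLinearGroup (Fin 2) K) : Matrix (Fin 2) (Fin 2) K) *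
      ((y c : Matrix.SpecialLinearGroup (Fin 2) K) : Matrix (Fin 2) (Fin 2) K) +
      ((y c : Matrix.SpecialLinearGroup (Fin 2) K) : Matrix (Fin 2) (Fin 2) K) + 1 = 0 := by
  have h2 : (2 : K) = 0 := CharTwo.two_eq_zero
  rw [y_coe hc]
  ext i j
  fin_cases i <;> fin_cases j <;>
    simp [hc]
  all_goals (first | exact CharTwo.add_self_eq_zero _ | linear_combination 2 * h2)

theorem y_pow_three {c : K} (hc : c ≠ 0) : y c ^ 3 = 1 := by
  have h2 : (2 : K) = 0 := CharTwo.two_eq_zero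
  apply Matrix.SpecialLinearGroup.ext
  intro i j
  rw [pow_succ, pow_two]
  fin_cases i <;> fin_cases j <;>
    simp [Matrix.SpecialLinearGroup.coe_mul, y_coe hc, Matrix.mul_apply, Fin.sum_univ_two, hc]
  all_goals (first | exact CharTwo.add_self_eq_zero _ | linear_combination 2 * h2)

theorem x0_pow_three : (x0 : Matrix.SpecialLinearGroup (Fin 2) K) ^ 3 = 1 := by
  rw [← y_one]; exact y_pow_three one_ne_zero

theorem x0_ne_one : (x0 : Matrix.SpecialLinearGroup (Fin 2) K) ≠ 1 := by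
  intro h
  have := congrArg (fun g : Matrix.SpecialLinearGroup (Fin 2) K => (g : Matrix (Fin 2) (Fin 2) K) 0 1) h
  simp [x0_coe] at this

theorem orderOf_x0 : orderOf (x0 : Matrix.SpecialLinearGroup (Fin 2) K) = 3 := by
  have : Fact (Nat.Prime 3) := ⟨by norm_num⟩
  exact orderOf_eq_prime x0_pow_three x0_ne_one

omit [CharP K 2] in
/-- `w 1 = u 1 * l 1 * u 1` (by definition), `w c * w 1 = d c` (by definition). -/
theorem w_def (c : K) : w c = u c * l c⁻¹ * u c := rfl

omit [CharP K 2] in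
theorem d_def (c : K) : d c = w c * w 1 := rfl

end CharTwo

end Cfsg.Agent.Lib.Helper3.HIG
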