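import Mathlib
import Cfsg.Agent.Lib.Helper3.FZ4
import Cfsg.Agent.Lib.Helper1.CoprimeAut
open Pointwise

set_option autoImplicit false

/-!
# Iterated commutators with an automorphism (part 1)

The semidirect product `G ⋊ ⟨α⟩`, the subgroups `{x | x.left ∈ N}` for `⟨α⟩`-invariant `N`,
and the basic identities.
-/

namespace Cfsg.Agent.Lib.Helper3.IC

open Cfsg.Agent.Lib.Helper1 Cfsg.Agent.Lib.Helper3.FZ SemidirectProduct

universe u

variable {G : Type u} [Group G]

/-- The commutator map `c ↦ c · α(c)⁻¹`. -/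
def cm (α : MulAut G) (c : G) : G := c * (α c)⁻¹

/-- The semidirect product of `G` with the cyclic group generated by `α`. -/
abbrev Gam (α : MulAut G) : Type u :=
  G ⋊[(Subgroup.zpowers α).subtype] (Subgroup.zpowers α)

/-- The generator `α` as an element of `⟨α⟩`. -/
def az (α : MulAut G) : Subgroup.zpowers α := ⟨α, Subgroup.mem_zpowers α⟩

/-- The element of the semidirect product acting as `α`. -/
def aa (α : MulAut G) : Gam α := inr (az α)

theorem gam_finite [Finite G] (α : MulAut G) : Finite (Gam α) := by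
  haveI : Finite (MulAut G) := MulEquiv.finite_left
  exact Finite.of_equiv (G × Subgroup.zpowers α) equivProd.symm

theorem commute_of_mem_zpowers {α w : MulAut G} (hw : w ∈ Subgroup.zpowers α) (c : G) :
    w (α c) = α (w c) := by
  obtain ⟨i, rfl⟩ := Subgroup.mem_zpowers_iff.mp hw
  have h := ((Commute.refl α).zpow_left i).eq
  have h2 := congrArg (fun f : MulAut G => f c) h
  simpa [MulAut.mul_apply] using h2

theorem cm_comm {α w : MulAut G} (hw : w ∈ Subgroup.zpowers α) (c : G) :
    w (cm α c) = cm α (w c) := by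
  unfold cm
  rw [map_mul, map_inv, commute_of_mem_zpowers hw]

theorem cm_iter_comm {α w : MulAut G} (hw : w ∈ Subgroup.zpowers α) (k : ℕ) (c : G) :
    w ((cm α)^[k] c) = (cm α)^[k] (w c) := by
  induction k with
  | zero => rfl
  | succ k ih =>
    rw [Function.iterate_succ_apply', Function.iterate_succ_apply', cm_comm hw, ih]

theorem closure_invariant {S : Set G} (w : MulAut G) (h : ∀ s ∈ S, w s ∈ S) :
    ∀ x ∈ Subgroup.closure S, w x ∈ Subgroup.closure S := by
  intro x hx
  have h1 : (Subgroup.closure S).map w.toMonoidHom ≤ Subgroup.closure S := by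
    rw [MonoidHom.map_closure]
    apply Subgroup.closure_mono
    rintro _ ⟨s, hs, rfl⟩
    exact h s hs
  exact h1 (Subgroup.mem_map_of_mem _ hx)

/-- For a `⟨α⟩`-invariant subgroup `N` of `G`, the elements with left component in `N`. -/
def leftSub (α : MulAut G) (N : Subgroup G)
    (hN : ∀ w ∈ Subgroup.zpowers α, ∀ x ∈ N, w x ∈ N) : Subgroup (Gam α) where
  carrier := {x | x.left ∈ N}
  mul_mem' := by
    intro x y hx hy
    rw [Set.mem_setOf_eq] at hx hy ⊢
    rw [mul_left]
    exact N.mul_mem hx (hN _ x.right.2 _ hy)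
  one_mem' := N.one_mem
  inv_mem' := by
    intro x hx
    rw [Set.mem_setOf_eq] at hx ⊢
    rw [inv_left]
    exact hN _ (x.right⁻¹).2 _ (N.inv_mem hx)

theorem mem_leftSub {α : MulAut G} {N : Subgroup G}
    {hN : ∀ w ∈ Subgroup.zpowers α, ∀ x ∈ N, w x ∈ N} {x : Gam α} :
    x ∈ leftSub α N hN ↔ x.left ∈ N := Iff.rfl

theorem inr_mem_zpowers_aa (α : MulAut G) (w : Subgroup.zpowers α) :
    (inr w : Gam α) ∈ Subgroup.zpowers (aa α) := by
  obtain ⟨i, hi⟩ := Subgroup.mem_zpowers_iff.mp w.2
  rw [Subgroup.mem_zpowers_iff]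
  refine ⟨i, ?_⟩
  unfold aa
  rw [← map_zpow]
  congr 1
  apply Subtype.ext
  rw [Subgroup.coe_zpow]
  exact hi

theorem exists_inr_of_mem_zpowers_aa (α : MulAut G) {b : Gam α}
    (hb : b ∈ Subgroup.zpowers (aa α)) : ∃ w : Subgroup.zpowers α, b = inr w := by
  obtain ⟨i, rfl⟩ := Subgroup.mem_zpowers_iff.mp hb
  exact ⟨az α ^ i, by unfold aa; rw [map_zpow]⟩

theorem aa_left (α : MulAut G) : (aa α).left = 1 := rfl

/-- `inl (α c) = a · inl c · a⁻¹`. -/
theorem inl_apply (α : MulAut G) (c : G) :
    (inl (α c) : Gam α) = aa α * inl c * (aa α)⁻¹ := by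
  have h := inl_aut (φ := (Subgroup.zpowers α).subtype) (az α) c
  unfold aa
  rw [map_inv] at h
  exact h

theorem inl_apply_mem (α : MulAut G) (w : Subgroup.zpowers α) (c : G) :
    (inl ((w : MulAut G) c) : Gam α) = inr w * inl c * (inr w)⁻¹ := by
  have h := inl_aut (φ := (Subgroup.zpowers α).subtype) w c
  rw [map_inv] at h
  exact h

/-- `inl (cm α u) = [inl u, a]`. -/
theorem inl_cm (α : MulAut G) (u : G) :
    (inl (cm α u) : Gam α) = inl u * aa α * (inl u)⁻¹ * (aa α)⁻¹ := by
  unfold cm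
  rw [map_mul, map_inv, inl_apply]
  group

/-- The left component of a conjugate of an element of `⟨a⟩`. -/
theorem conj_inr_left (α : MulAut G) (x : Gam α) (w : Subgroup.zpowers α) :
    (x * inr w * x⁻¹).left = x.left * ((w : MulAut G) x.left)⁻¹ := by
  have hx : x = inl x.left * inr x.right := (inl_left_mul_inr_right x).symm
  have hcomm : (inr x.right : Gam α) * inr w * (inr x.right)⁻¹ = inr w := by
    rw [← map_mul, ← map_inv, ← map_mul]
    congr 1
    have hc : x.right * w = w * x.right := (Subgroup.zpowers_isMulCommutative α).is_comm.comm x.right w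
    rw [hc, mul_assoc, mul_inv_cancel, mul_one]
  have e : ∀ p q r : Gam α, p * q * r * (p * q)⁻¹ = p * (q * r * q⁻¹) * p⁻¹ := by
    intro p q r; group
  have e2 : ∀ p r : Gam α, p * r * p⁻¹ = p * (r * p⁻¹ * r⁻¹) * r := by
    intro p r; group
  have h1 : x * inr w * x⁻¹ = inl (x.left * ((w : MulAut G) x.left)⁻¹) * inr w := by
    rw [map_mul, map_inv, inl_apply_mem]
    conv_lhs => rw [hx]
    rw [e, hcomm, e2]
    group
  rw [h1, mul_left, left_inl, left_inr, map_one, mul_one]

end Cfsg.Agent.Lib.Helper3.IC
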