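import Mathlib
import Cfsg.Agent.Lib.Helper3.IC1
open Pointwise

set_option autoImplicit false

/-!
# Iterated commutators with an automorphism (part 2)

If `[G, α] = G` then the `k`-fold commutators `[g, α, …, α]` generate `G`.
-/

namespace Cfsg.Agent.Lib.Helper3.IC

open Cfsg.Agent.Lib.Helper1 Cfsg.Agent.Lib.Helper3.FZ SemidirectProduct

universe u

variable {G : Type u} [Group G]

/-- The subgroup generated by the `k`-fold commutators. -/
def KK (α : MulAut G) (k : ℕ) : Subgroup G := Subgroup.closure (Set.range ((cm α)^[k]))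

theorem KK_invariant (α : MulAut G) (k : ℕ) :
    ∀ w ∈ Subgroup.zpowers α, ∀ x ∈ KK α k, w x ∈ KK α k := by
  intro w hw
  apply closure_invariant
  rintro _ ⟨c, rfl⟩
  exact ⟨w c, (cm_iter_comm hw k c).symm⟩

theorem mul_inv_apply_mem [Finite G] (α : MulAut G) (H : Subgroup G)
    (hH : ∀ w ∈ Subgroup.zpowers α, ∀ x ∈ H, w x ∈ H) :
    ∀ w ∈ Subgroup.zpowers α, ∀ g ∈ H, g * (w g)⁻¹ ∈ Subgroup.closure (cm α '' (H : Set G)) := by
  intro w hw g hg
  haveI : Finite (MulAut G) := MulEquiv.finite_left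
  have hfin : IsOfFinOrder α := isOfFinOrder_of_finite α
  rw [← hfin.mem_powers_iff_mem_zpowers] at hw
  obtain ⟨n, rfl⟩ := (Submonoid.mem_powers_iff _ _).mp hw
  induction n with
  | zero => simp
  | succ n ih =>
    have hn : (α ^ n) ∈ Subgroup.zpowers α := Subgroup.pow_mem _ (Subgroup.mem_zpowers α) n
    have h1 : (α ^ (n + 1)) g = α ((α ^ n) g) := by rw [pow_succ', MulAut.mul_apply]
    have h2 : g * ((α ^ (n + 1)) g)⁻¹ = (g * ((α ^ n) g)⁻¹) * cm α ((α ^ n) g) := by
      rw [h1]; unfold cm; group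
    rw [h2]
    have hmem : (α ^ n) ∈ Submonoid.powers α := ⟨n, rfl⟩
    exact Subgroup.mul_mem _ (ih hmem)
      (Subgroup.subset_closure ⟨(α ^ n) g, hH _ hn _ hg, rfl⟩)

theorem coe_cm_restrict [Finite G] (α : MulAut G) (H : Subgroup G) (hH : ∀ x ∈ H, α x ∈ H)
    (x : H) : ((cm (restrictAut α H hH) x : H) : G) = cm α (x : G) := by
  unfold cm
  rw [Subgroup.coe_mul, Subgroup.coe_inv, restrictAut_apply]

theorem coe_cm_iter_restrict [Finite G] (α : MulAut G) (H : Subgroup G) (hH : ∀ x ∈ H, α x ∈ H)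
    (k : ℕ) (x : H) :
    (((cm (restrictAut α H hH))^[k] x : H) : G) = (cm α)^[k] (x : G) := by
  induction k with
  | zero => rfl
  | succ k ih =>
    rw [Function.iterate_succ_apply', Function.iterate_succ_apply', coe_cm_restrict, ih]

/-- Proper subgroups of `G ⋊ ⟨α⟩` generated by their conjugates of `⟨a⟩` lie over the `k`-fold
commutator subgroup (by induction). -/
theorem hs_le_leftSub [Finite G] (α : MulAut G) (k : ℕ)
    (ih : ∀ (H : Type u) [Group H] [Finite H], Nat.card H < Nat.card G → ∀ β : MulAut H,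
      Subgroup.closure (Set.range (cm β)) = ⊤ → Subgroup.closure (Set.range ((cm β)^[k])) = ⊤)
    (X : Subgroup (Gam α)) (hX : X ∈ HS (Subgroup.zpowers (aa α))) :
    X ≤ leftSub α (KK α k) (KK_invariant α k) := by
  have hinr : ∀ w : Subgroup.zpowers α, (inr w : Gam α) ∈ X :=
    fun w => hX.1 (inr_mem_zpowers_aa α w)
  set GX : Subgroup G := X.comap inl with hGX
  have hGXinv : ∀ w ∈ Subgroup.zpowers α, ∀ x ∈ GX, w x ∈ GX := by
    intro w hw x hx
    show inl (w x) ∈ X
    rw [inl_apply_mem α ⟨w, hw⟩ x]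
    exact X.mul_mem (X.mul_mem (hinr _) hx) (X.inv_mem (hinr _))
  have hleft : ∀ x ∈ X, x.left ∈ GX := by
    intro x hx
    show inl x.left ∈ X
    have h1 : (inl x.left : Gam α) = x * (inr x.right)⁻¹ := by
      rw [eq_mul_inv_iff_mul_eq, inl_left_mul_inr_right]
    rw [h1]
    exact X.mul_mem hx (X.inv_mem (hinr _))
  set N : Subgroup G := Subgroup.closure (cm α '' (GX : Set G)) with hN
  have hNinv : ∀ w ∈ Subgroup.zpowers α, ∀ x ∈ N, w x ∈ N := by
    intro w hw
    apply closure_invariant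
    rintro _ ⟨g, hg, rfl⟩
    exact ⟨w g, hGXinv w hw g hg, (cm_comm hw g).symm⟩
  have hXN : X ≤ leftSub α N hNinv := by
    have hnc : Subgroup.normalClosure
        (((Subgroup.zpowers (aa α)).subgroupOf X : Subgroup ↥X) : Set ↥X) = ⊤ := hX.2.2
    have h1 : Subgroup.normalClosure
        (((Subgroup.zpowers (aa α)).subgroupOf X : Subgroup ↥X) : Set ↥X) ≤
        (leftSub α N hNinv).subgroupOf X := by
      unfold Subgroup.normalClosure
      rw [Subgroup.closure_le]
      intro y hy
      rw [Group.mem_conjugatesOfSet_iff] at hy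
      obtain ⟨b, hb, hby⟩ := hy
      rw [isConj_iff] at hby
      obtain ⟨c, rfl⟩ := hby
      obtain ⟨w, hw⟩ := exists_inr_of_mem_zpowers_aa α (Subgroup.mem_subgroupOf.mp hb)
      show ((c * b * c⁻¹ : ↥X) : Gam α).left ∈ N
      rw [Subgroup.coe_mul, Subgroup.coe_mul, Subgroup.coe_inv, hw, conj_inr_left]
      exact mul_inv_apply_mem α GX hGXinv w w.2 _ (hleft _ c.2)
    rw [hnc, top_le_iff, Subgroup.subgroupOf_eq_top] at h1
    exact h1
  have hGXN : GX ≤ N := by
    intro g hg
    have h1 := hXN (show (inl g : Gam α) ∈ X from hg)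
    rwa [mem_leftSub, left_inl] at h1
  have hα : ∀ x ∈ GX, α x ∈ GX := fun x hx => hGXinv α (Subgroup.mem_zpowers α) x hx
  have hβ : Subgroup.closure (Set.range (cm (restrictAut α GX hα))) = ⊤ := by
    have hmap : (Subgroup.closure (Set.range (cm (restrictAut α GX hα)))).map
        GX.subtype = N := by
      rw [MonoidHom.map_closure]
      congr 1
      ext y
      constructor
      · rintro ⟨_, ⟨x, rfl⟩, rfl⟩
        exact ⟨x, x.2, (coe_cm_restrict α GX hα x).symm⟩
      · rintro ⟨g, hg, rfl⟩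
        exact ⟨cm (restrictAut α GX hα) ⟨g, hg⟩, ⟨⟨g, hg⟩, rfl⟩,
          coe_cm_restrict α GX hα ⟨g, hg⟩⟩
    rw [eq_top_iff]
    intro x _
    have hx : (x : G) ∈ N := hGXN x.2
    rw [← hmap] at hx
    obtain ⟨y, hy, hyx⟩ := hx
    have : y = x := Subtype.ext hyx
    rwa [← this]
  have hGXt : GX ≠ ⊤ := by
    intro h
    apply hX.2.1
    rw [eq_top_iff]
    intro x _
    rw [← inl_left_mul_inr_right x]
    have h1 : x.left ∈ GX := by rw [h]; trivial
    exact X.mul_mem h1 (hinr _)
  have hcard : Nat.card GX < Nat.card G := by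
    have h1 := card_lt_of_lt' (lt_top_iff_ne_top.mpr hGXt)
    rwa [Subgroup.card_top] at h1
  have h2 := ih GX hcard (restrictAut α GX hα) hβ
  have hGXK : GX ≤ KK α k := by
    intro g hg
    have h3 : (⟨g, hg⟩ : GX) ∈
        Subgroup.closure (Set.range ((cm (restrictAut α GX hα))^[k])) := by
      rw [h2]; trivial
    have h4 := Subgroup.mem_map_of_mem GX.subtype h3
    rw [MonoidHom.map_closure] at h4
    refine Subgroup.closure_mono ?_ h4
    rintro _ ⟨_, ⟨x, rfl⟩, rfl⟩
    exact ⟨x, (coe_cm_iter_restrict α GX hα k x).symm⟩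
  exact fun x hx => hGXK (hleft x hx)

/-- The sequence `b₀ = c`, `b_{j+1} = b_j a b_j⁻¹`. -/
def bseq (α : MulAut G) (c : G) : ℕ → Gam α
  | 0 => inl c
  | (j + 1) => bseq α c j * aa α * (bseq α c j)⁻¹

theorem inl_iter (α : MulAut G) (c : G) (j : ℕ) :
    (inl ((cm α)^[j + 1] c) : Gam α) = bseq α c (j + 1) * (aa α)⁻¹ := by
  induction j with
  | zero =>
    show (inl (cm α c) : Gam α) = inl c * aa α * (inl c)⁻¹ * (aa α)⁻¹
    exact inl_cm α c
  | succ j ih =>
    rw [Function.iterate_succ_apply', inl_cm, ih]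
    show _ = bseq α c (j + 1) * aa α * (bseq α c (j + 1))⁻¹ * (aa α)⁻¹
    group

theorem normalClosure_zpowers_aa (α : MulAut G)
    (hα : Subgroup.closure (Set.range (cm α)) = ⊤) :
    Subgroup.normalClosure ((Subgroup.zpowers (aa α) : Subgroup (Gam α)) : Set (Gam α)) = ⊤ := by
  set Nc := Subgroup.normalClosure ((Subgroup.zpowers (aa α) : Subgroup (Gam α)) : Set (Gam α))
    with hNc
  have ha : aa α ∈ Nc := Subgroup.subset_normalClosure (Subgroup.mem_zpowers (aa α))
  have h1 : Subgroup.closure (Set.range (cm α)) ≤ Nc.comap inl := by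
    rw [Subgroup.closure_le]
    rintro _ ⟨c, rfl⟩
    show (inl (cm α c) : Gam α) ∈ Nc
    rw [inl_cm]
    exact Nc.mul_mem (Subgroup.normalClosure_normal.conj_mem _ ha _) (Nc.inv_mem ha)
  rw [hα] at h1
  rw [eq_top_iff]
  intro x _
  rw [← inl_left_mul_inr_right x]
  exact Nc.mul_mem (h1 (Subgroup.mem_top x.left))
    (Subgroup.le_normalClosure (inr_mem_zpowers_aa α x.right))

theorem main_aux : ∀ n : ℕ, ∀ (G : Type u) [Group G] [Finite G], Nat.card G = n →
    ∀ α : MulAut G, Subgroup.closure (Set.range (cm α)) = ⊤ →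
    ∀ k : ℕ, Subgroup.closure (Set.range ((cm α)^[k])) = ⊤ := by
  intro n
  induction n using Nat.strong_induction_on with
  | _ n ih =>
    intro G _ _ hn α hα k
    by_contra hK
    have hk : k ≠ 0 := by
      rintro rfl
      apply hK
      simp
    obtain ⟨j, rfl⟩ := Nat.exists_eq_succ_of_ne_zero hk
    haveI : Finite (Gam α) := gam_finite α
    have hncl := normalClosure_zpowers_aa α hα
    have hA₀H : Subgroup.zpowers (aa α) ≤ leftSub α (KK α (j + 1)) (KK_invariant α (j + 1)) := by
      rw [Subgroup.zpowers_le, mem_leftSub, aa_left]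
      exact Subgroup.one_mem _
    have hHk : leftSub α (KK α (j + 1)) (KK_invariant α (j + 1)) ≠ ⊤ := by
      intro h
      apply hK
      rw [eq_top_iff]
      intro g _
      have h1 : (inl g : Gam α) ∈ leftSub α (KK α (j + 1)) (KK_invariant α (j + 1)) := by
        rw [h]; trivial
      rwa [mem_leftSub, left_inl] at h1
    have hA₀t : Subgroup.zpowers (aa α) ≠ ⊤ := fun h => hHk (top_le_iff.mp (h ▸ hA₀H))
    have ih' : ∀ (H : Type u) [Group H] [Finite H], Nat.card H < Nat.card G → ∀ β : MulAut H,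
        Subgroup.closure (Set.range (cm β)) = ⊤ →
        Subgroup.closure (Set.range ((cm β)^[j + 1])) = ⊤ :=
      fun H _ _ hlt β hβ => ih (Nat.card H) (hn ▸ hlt) H rfl β hβ (j + 1)
    rcases flavell (Subgroup.zpowers (aa α)) hncl hA₀t with h | ⟨M, ⟨hM, hAM⟩, hMu⟩
    · apply hHk
      rw [eq_top_iff, ← h]
      exact sSup_le (fun X hX => hs_le_leftSub α (j + 1) ih' X hX)
    · obtain ⟨W, hW, hHW⟩ := (eq_top_or_exists_le_coatom _).resolve_left hHk
      have hWM : W = M := hMu W ⟨hW, hA₀H.trans hHW⟩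
      have hMn : Subgroup.normalizer ((M : Subgroup (Gam α)) : Set (Gam α)) = M :=
        (hM.le_iff_eq (normalizer_ne_top (normalClosure_eq_top_of_le hncl hAM) hM.1)).mp
          Subgroup.le_normalizer
      have desc : ∀ b : Gam α, b * aa α * b⁻¹ ∈ M → b ∈ M := by
        intro b hb
        have h1 : aa α ∈ MulAut.conj b⁻¹ • M := by
          rw [mem_conj_smul_iff, inv_inv]; exact hb
        have h2 : MulAut.conj b⁻¹ • M = M :=
          hMu _ ⟨isCoatom_conj_smul b⁻¹ hM, Subgroup.zpowers_le.mpr h1⟩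
        have h3 := mem_normalizer_of_conj_smul_eq h2
        rw [hMn] at h3
        simpa using M.inv_mem h3
      have hdown : ∀ (c : G) (i : ℕ), bseq α c i ∈ M → bseq α c 0 ∈ M := by
        intro c i
        induction i with
        | zero => exact id
        | succ i ihi =>
          intro h
          exact ihi (desc _ h)
      have haM : aa α ∈ M := hAM (Subgroup.mem_zpowers (aa α))
      have hinl : ∀ c : G, (inl c : Gam α) ∈ M := by
        intro c
        apply hdown c (j + 1)
        have h1 : bseq α c (j + 1) = inl ((cm α)^[j + 1] c) * aa α := by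
          rw [inl_iter]; group
        rw [h1, ← hWM]
        apply hHW
        rw [mem_leftSub, mul_left, left_inl, aa_left, map_one, mul_one]
        exact Subgroup.subset_closure ⟨c, rfl⟩
      apply hM.1
      rw [eq_top_iff]
      intro x _
      rw [← inl_left_mul_inr_right x]
      exact M.mul_mem (hinl _) (hAM (inr_mem_zpowers_aa α x.right))

theorem iterated_commutators_generate {G : Type u} [Group G] [Finite G] (α : MulAut G)
    (hG : Subgroup.closure (Set.range (fun c : G => c * (α c)⁻¹)) = ⊤) (k : ℕ) :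
    Subgroup.closure (Set.range ((fun c : G => c * (α c)⁻¹)^[k])) = ⊤ :=
  main_aux _ G rfl α hG k

end Cfsg.Agent.Lib.Helper3.IC
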