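import Mathlib
import Cfsg.Agent.Lib.Helper3.DG1
import Cfsg.Agent.Lib.Helper6.IndFunMore
import Cfsg.Agent.Lib.Helper6.CenterIndex
import Cfsg.Agent.Lib.Helper6.BlkCover3

set_option autoImplicit false
set_option maxHeartbeats 4000000
set_option maxRecDepth 100000
set_option linter.unusedSectionVars false
set_option linter.unusedVariables false
set_option linter.style.haveILetI false

/-! Isaacs--Passman: groups whose irreducible characters have degree at most `b` have an
abelian subgroup of index at most `(b!)^2`.  Part 1: basic lemmas. -/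

namespace Cfsg.Agent.Lib.Helper3.IP

open Cfsg Cfsg.Agent.Lib.Helper6
open scoped ComplexConjugate

/-- all irreducible character degrees are at most `b` -/
def BoundedBy (G : Type*) [Group G] (b : ℕ) : Prop :=
  ∀ χ : Cfsg.IrrCharacter G, Cfsg.charDegree (χ : G → ℂ) ≤ b

theorem BoundedBy.mono {G : Type*} [Group G] {b c : ℕ} (h : BoundedBy G b) (hbc : b ≤ c) :
    BoundedBy G c := fun χ => (h χ).trans hbc

theorem BoundedBy.one_le {G : Type*} [Group G] {b : ℕ} (h : BoundedBy G b) : 1 ≤ b := by
  have h1 := h ⟨fun _ => (1 : ℂ), isIrrCharacter_one⟩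
  have : Cfsg.charDegree (fun _ : G => (1 : ℂ)) = 1 := by
    simp [Cfsg.charDegree]
  simpa [this] using h1

/-- the degree of a constituent of a restriction is at most the degree -/
theorem charDegree_le_of_restrict {G : Type*} [Group G] [Fintype G] (H : Subgroup G) [Fintype H]
    (χ : Cfsg.IrrCharacter G) (φ : Cfsg.IrrCharacter H)
    (hc : Cfsg.classInner (fun h : H => (χ : G → ℂ) h) (φ : H → ℂ) ≠ 0) :
    Cfsg.charDegree (φ : H → ℂ) ≤ Cfsg.charDegree (χ : G → ℂ) := by
  have hres : Cfsg.IsCharacter H (fun h : H => (χ : G → ℂ) h) :=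
    IsCharacter.restrict H (IsIrrCharacter.isCharacter χ.2)
  have h1 := IsCharacter.charDegree_le hres φ.2 hc
  exact h1

theorem BoundedBy.subgroup {G : Type*} [Group G] [Finite G] {b : ℕ} (h : BoundedBy G b)
    (H : Subgroup G) : BoundedBy H b := by
  classical
  have : Fintype G := Fintype.ofFinite G
  have : Fintype H := Fintype.ofFinite H
  intro φ
  obtain ⟨χ, hχ⟩ := exists_irr_over H φ
  exact (charDegree_le_of_restrict H χ φ hχ).trans (h χ)

theorem BoundedBy.quotient {G : Type*} [Group G] [Finite G] {b : ℕ} (h : BoundedBy G b)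
    (K : Subgroup G) [K.Normal] : BoundedBy (G ⧸ K) b := by
  intro β
  obtain ⟨χ, _, hdeg⟩ := Cfsg.Agent.Lib.Helper3.CD.exists_inflation K β
  rw [← hdeg]
  exact h χ

/-- Lemma A (i): if `φ ∈ Irr(H)` has the maximal degree, every irreducible character over it
extends it -/
theorem restrict_eq_of_max {G : Type*} [Group G] [Fintype G] (H : Subgroup G) [Fintype H]
    (φ : Cfsg.IrrCharacter H) (hb : BoundedBy G (Cfsg.charDegree (φ : H → ℂ)))
    (χ : Cfsg.IrrCharacter G)
    (hc : Cfsg.classInner (fun h : H => (χ : G → ℂ) h) (φ : H → ℂ) ≠ 0) :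
    (fun h : H => (χ : G → ℂ) h) = (φ : H → ℂ) := by
  have hres : Cfsg.IsCharacter H (fun h : H => (χ : G → ℂ) h) :=
    IsCharacter.restrict H (IsIrrCharacter.isCharacter χ.2)
  apply IsCharacter.eq_of_constituent_of_apply_one_eq hres φ.2 hc
  have h1 := charDegree_le_of_restrict H χ φ hc
  have h2 := hb χ
  have h3 : Cfsg.charDegree (χ : G → ℂ) = Cfsg.charDegree (φ : H → ℂ) := le_antisymm h2 h1
  have e1 := IsCharacter.apply_one_eq_charDegree (IsIrrCharacter.isCharacter χ.2)
  have e2 := IsCharacter.apply_one_eq_charDegree (IsIrrCharacter.isCharacter φ.2)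
  show (χ : G → ℂ) ((1 : H) : G) = (φ : H → ℂ) 1
  rw [e2, ← h3, ← e1]
  rfl

/-- Lemma E: an irreducible character vanishing off a subgroup `K` has `|X : K| ≤ χ(1)^2` -/
theorem index_le_of_vanish {X : Type*} [Group X] [Fintype X] (K : Subgroup X) (φ : X → ℂ)
    (hφ : Cfsg.IsIrrCharacter X φ) (hv : ∀ x : X, x ∉ K → φ x = 0) :
    K.index ≤ Cfsg.charDegree φ ^ 2 := by
  classical
  have : Fintype K := Fintype.ofFinite K
  have hnorm : Cfsg.classInner φ φ = 1 := by
    rw [classInner_isIrrCharacter hφ hφ, if_pos rfl]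
  have hX : (Nat.card X : ℂ) ≠ 0 := card_ne_zero_complex X
  have hsum : ∑ x : X, φ x * conj (φ x) = (Nat.card X : ℂ) := by
    unfold Cfsg.classInner at hnorm
    field_simp at hnorm
    exact hnorm
  have hbound : ∀ x : X, Complex.normSq (φ x) ≤ (Cfsg.charDegree φ : ℝ) ^ 2 := by
    intro x
    obtain ⟨n, ρ, hρ, rfl⟩ := hφ
    have h1 := norm_character_le ρ x
    rw [charDegree_character]
    rw [Complex.normSq_eq_norm_sq]
    have h0 : 0 ≤ ‖ρ.character x‖ := norm_nonneg _
    nlinarith [h1, h0]
  have hsumR : ∑ x : X, Complex.normSq (φ x) = (Nat.card X : ℝ) := by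
    have h2 : ((∑ x : X, Complex.normSq (φ x) : ℝ) : ℂ) = (Nat.card X : ℂ) := by
      rw [← hsum]
      push_cast
      apply Finset.sum_congr rfl
      intro x _
      rw [Complex.mul_conj]
    exact_mod_cast h2
  have hle : ∑ x : X, Complex.normSq (φ x) ≤ (Nat.card K : ℝ) * (Cfsg.charDegree φ : ℝ) ^ 2 := by
    have h3 : ∑ x : X, Complex.normSq (φ x)
        ≤ ∑ x : X, (if x ∈ K then (Cfsg.charDegree φ : ℝ) ^ 2 else 0) := by
      apply Finset.sum_le_sum
      intro x _
      by_cases hx : x ∈ K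
      · rw [if_pos hx]; exact hbound x
      · rw [if_neg hx, hv x hx]; simp
    refine h3.trans (le_of_eq ?_)
    rw [← Finset.sum_filter, Finset.sum_const, nsmul_eq_mul]
    congr 1
    have : (Finset.univ.filter (fun x : X => x ∈ K)).card = Nat.card K := by
      rw [Nat.card_eq_fintype_card, ← Fintype.card_subtype]
    exact_mod_cast this
  rw [hsumR] at hle
  have hcard : Nat.card X = Nat.card K * K.index := (Subgroup.card_mul_index K).symm
  have hK0 : 0 < Nat.card K := Nat.card_pos
  have h4 : (Nat.card K * K.index : ℕ) ≤ Nat.card K * Cfsg.charDegree φ ^ 2 := by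
    have : ((Nat.card K * K.index : ℕ) : ℝ) ≤ ((Nat.card K * Cfsg.charDegree φ ^ 2 : ℕ) : ℝ) := by
      rw [← hcard]
      push_cast
      exact hle
    exact_mod_cast this
  exact Nat.le_of_mul_le_mul_left h4 hK0

end Cfsg.Agent.Lib.Helper3.IP
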