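import Mathlib
import Cfsg.Agent.Lib.Helper3.IP1
import Cfsg.Agent.Lib.Helper3.ClassNumber

set_option autoImplicit false
set_option maxHeartbeats 4000000
set_option maxRecDepth 100000
set_option linter.unusedSectionVars false
set_option linter.unusedVariables false
set_option linter.style.haveILetI false

/-! Isaacs--Passman, part 2: vanishing off the core, halving on normal subgroups with
nonabelian quotient, small conjugacy classes. -/

namespace Cfsg.Agent.Lib.Helper3.IP

open Cfsg Cfsg.Agent.Lib.Helper6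
open scoped ComplexConjugate

/-- Lemma A (ii): if `φ ∈ Irr(H)` has the maximal degree and `φ h ≠ 0` then every conjugate of
`h` lies in `H` -/
theorem conj_mem_of_ne_zero {G : Type*} [Group G] [Fintype G] (H : Subgroup G) [Fintype H]
    (φ : Cfsg.IrrCharacter H) (hb : BoundedBy G (Cfsg.charDegree (φ : H → ℂ)))
    (h : H) (hne : (φ : H → ℂ) h ≠ 0) (t : G) : t⁻¹ * (h : G) * t ∈ H := by
  classical
  have : Fintype (Cfsg.IrrCharacter G) := Fintype.ofFinite _
  set ψ := Cfsg.indFun H (φ : H → ℂ) with hψ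
  have hψc : Cfsg.IsCharacter G ψ := IsCharacter.indFun H (IsIrrCharacter.isCharacter φ.2)
  obtain ⟨m, hm, hmi⟩ := IsCharacter.exists_mult hψc
  have hres : ∀ θ : Cfsg.IrrCharacter G, m θ ≠ 0 →
      (fun h : H => (θ : G → ℂ) h) = (φ : H → ℂ) := by
    intro θ hθ
    apply restrict_eq_of_max H φ hb θ
    have h1 : Cfsg.classInner ψ (θ : G → ℂ) ≠ 0 := by
      rw [hmi θ]; exact_mod_cast hθ
    rw [hψ, Cfsg.Agent.S0146.result H (φ : H → ℂ) (θ : G → ℂ)
      (IsIrrCharacter.isClassFunction θ.2)] at h1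
    intro h0
    apply h1
    rw [← classInner_conj_symm, h0, map_zero]
  have hval : ∀ k : H, ψ k = (∑ θ, (m θ : ℂ)) * (φ : H → ℂ) k := by
    intro k
    rw [apply_eq_sum_mult hm, Finset.sum_mul]
    apply Finset.sum_congr rfl
    intro θ _
    by_cases hθ : m θ = 0
    · rw [hθ]; simp
    · have := congrFun (hres θ hθ) k
      rw [this]
  have hsum : (∑ θ, (m θ : ℂ)) = (H.index : ℂ) := by
    have h1 := hval 1
    have h2 : ψ ((1 : H) : G) = (H.index : ℂ) * (φ : H → ℂ) 1 := by
      rw [hψ]; exact indFun_one H _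
    rw [h2] at h1
    exact (mul_right_cancel₀ (IsIrrCharacter.apply_one_ne_zero φ.2) h1).symm
  obtain ⟨χ₀, hχ₀⟩ := exists_irr_over H φ
  have hχ₀r := restrict_eq_of_max H φ hb χ₀ hχ₀
  have hterm : ∀ x : G, Cfsg.extendByZero H (φ : H → ℂ) (x⁻¹ * (h : G) * x)
      = if x⁻¹ * (h : G) * x ∈ H then (φ : H → ℂ) h else 0 := by
    intro x
    split_ifs with hx
    · rw [extendByZero_of_mem H _ hx]
      have e1 := congrFun hχ₀r ⟨x⁻¹ * (h : G) * x, hx⟩
      have e2 := congrFun hχ₀r h
      simp only at e1 e2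
      rw [← e1, ← e2]
      have := IsIrrCharacter.isClassFunction χ₀.2 (h : G) x⁻¹
      rw [inv_inv] at this
      exact this
    · exact extendByZero_of_not_mem H _ hx
  have hind : ψ h = (Nat.card H : ℂ)⁻¹ *
      (((Finset.univ.filter (fun x : G => x⁻¹ * (h : G) * x ∈ H)).card : ℂ)
        * (φ : H → ℂ) h) := by
    rw [hψ]; unfold Cfsg.indFun
    congr 1
    rw [Finset.sum_congr rfl (fun x _ => hterm x), ← Finset.sum_filter, Finset.sum_const,
      nsmul_eq_mul]
  rw [hval h, hsum] at hind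
  have hH : (Nat.card H : ℂ) ≠ 0 := card_ne_zero_complex H
  have hcard : ((Finset.univ.filter (fun x : G => x⁻¹ * (h : G) * x ∈ H)).card : ℂ)
      = (Nat.card H : ℂ) * (H.index : ℂ) := by
    have h3 : (H.index : ℂ) * (φ : H → ℂ) h
        = ((Nat.card H : ℂ)⁻¹ *
          ((Finset.univ.filter (fun x : G => x⁻¹ * (h : G) * x ∈ H)).card : ℂ))
          * (φ : H → ℂ) h := by
      rw [hind]; ring
    have h4 := mul_right_cancel₀ hne h3
    rw [h4]; field_simp
  have hcardN : (Finset.univ.filter (fun x : G => x⁻¹ * (h : G) * x ∈ H)).card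
      = (Finset.univ : Finset G).card := by
    have h5 : ((Finset.univ.filter (fun x : G => x⁻¹ * (h : G) * x ∈ H)).card : ℂ)
        = ((Nat.card H * H.index : ℕ) : ℂ) := by
      rw [hcard]; push_cast; ring
    have h6 : (Finset.univ.filter (fun x : G => x⁻¹ * (h : G) * x ∈ H)).card
        = Nat.card H * H.index := by exact_mod_cast h5
    rw [h6, Subgroup.card_mul_index, Nat.card_eq_fintype_card]; rfl
  exact (Finset.card_filter_eq_iff).mp hcardN t (Finset.mem_univ t)

/-- Lemma B: a normal subgroup with nonabelian quotient has degrees at most `b / 2` -/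
theorem BoundedBy.normal_half {G : Type*} [Group G] [Finite G] {b : ℕ} (h : BoundedBy G b)
    (K : Subgroup G) [hK : K.Normal] (hna : ∃ a c : G, a * c * a⁻¹ * c⁻¹ ∉ K) :
    BoundedBy K (b / 2) := by
  classical
  have : Fintype G := Fintype.ofFinite G
  have : Fintype K := Fintype.ofFinite K
  intro ψ
  by_contra hlt
  push Not at hlt
  set d := Cfsg.charDegree (ψ : K → ℂ) with hd
  have hbd : b < d * 2 := (Nat.div_lt_iff_lt_mul (by norm_num)).mp hlt
  obtain ⟨χ, hχ⟩ := exists_irr_over K ψ
  have h887 := Cfsg.Agent.S0887.result K (χ : G → ℂ) χ.2 (ψ : K → ℂ) ψ.2 hχ _ _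
    (IsCharacter.apply_one_eq_charDegree (IsIrrCharacter.isCharacter χ.2))
    (IsCharacter.apply_one_eq_charDegree (IsIrrCharacter.isCharacter ψ.2))
  obtain ⟨h1, _⟩ := h887
  have hcpos : 0 < Cfsg.charDegree (χ : G → ℂ) := IsIrrCharacter.charDegree_pos χ.2
  have hcb := h χ
  have hcd : Cfsg.charDegree (χ : G → ℂ) = d := by
    obtain ⟨e, he⟩ := h1
    rw [← hd] at he
    rcases Nat.lt_or_ge e 2 with h2 | h2
    · interval_cases e
      · rw [he] at hcpos; simp at hcpos
      · rw [he, mul_one]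
    · exfalso
      have : d * 2 ≤ d * e := Nat.mul_le_mul_left d h2
      omega
  have hres : Cfsg.IsCharacter K (fun k : K => (χ : G → ℂ) k) :=
    IsCharacter.restrict K (IsIrrCharacter.isCharacter χ.2)
  have hreq : (fun k : K => (χ : G → ℂ) k) = (ψ : K → ℂ) := by
    apply IsCharacter.eq_of_constituent_of_apply_one_eq hres ψ.2 hχ
    have e1 := IsCharacter.apply_one_eq_charDegree (IsIrrCharacter.isCharacter χ.2)
    have e2 := IsCharacter.apply_one_eq_charDegree (IsIrrCharacter.isCharacter ψ.2)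
    show (χ : G → ℂ) ((1 : K) : G) = (ψ : K → ℂ) 1
    rw [e2, ← hd, ← hcd, ← e1]
    rfl
  have hirrK : Cfsg.IsIrrCharacter K (fun k : K => (χ : G → ℂ) k) := by
    rw [hreq]; exact ψ.2
  -- all irreducible characters of the quotient are linear
  have hlin : ∀ β : Cfsg.IrrCharacter (G ⧸ K), Cfsg.charDegree (β : G ⧸ K → ℂ) = 1 := by
    intro β
    obtain ⟨χβ, hχβ, hχβdeg⟩ := Cfsg.Agent.Lib.Helper3.CD.exists_inflation K β
    have hβN : ∀ n : K, (χβ : G → ℂ) n = (χβ : G → ℂ) 1 := by
      intro n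
      rw [hχβ]
      simp only
      have : (QuotientGroup.mk (n : G) : G ⧸ K) = QuotientGroup.mk (1 : G) := by
        rw [QuotientGroup.mk_one]
        exact (QuotientGroup.eq_one_iff _).mpr n.2
      rw [this]
    have hmul := Cfsg.Agent.Lib.Helper3.GallagherMul.isIrrCharacter_mul K (χ : G → ℂ) χ.2 hirrK
      (χβ : G → ℂ) χβ.2 hβN
    have hdeg : Cfsg.charDegree ((χβ : G → ℂ) * (χ : G → ℂ))
        = Cfsg.charDegree (χβ : G → ℂ) * Cfsg.charDegree (χ : G → ℂ) := by
      have h1 := IsCharacter.apply_one_eq_charDegree (IsIrrCharacter.isCharacter hmul)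
      rw [Pi.mul_apply, IsCharacter.apply_one_eq_charDegree (IsIrrCharacter.isCharacter χβ.2),
        IsCharacter.apply_one_eq_charDegree (IsIrrCharacter.isCharacter χ.2)] at h1
      exact_mod_cast h1.symm
    have hle := h ⟨_, hmul⟩
    simp only at hle
    rw [hdeg, hχβdeg, hcd] at hle
    have hβpos : 0 < Cfsg.charDegree (β : G ⧸ K → ℂ) := IsIrrCharacter.charDegree_pos β.2
    have hdpos : 0 < d := by rw [← hcd]; exact hcpos
    rcases Nat.lt_or_ge (Cfsg.charDegree (β : G ⧸ K → ℂ)) 2 with h2 | h2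
    · omega
    · exfalso
      have : 2 * d ≤ Cfsg.charDegree (β : G ⧸ K → ℂ) * d := Nat.mul_le_mul_right d h2
      omega
  have hcomm := Cfsg.Agent.Lib.Helper3.CD.comm_of_all_linear hlin
  obtain ⟨a, c, hac⟩ := hna
  apply hac
  rw [← QuotientGroup.eq_one_iff]
  rw [QuotientGroup.mk_mul, QuotientGroup.mk_mul, QuotientGroup.mk_mul, QuotientGroup.mk_inv,
    QuotientGroup.mk_inv, hcomm (QuotientGroup.mk a) (QuotientGroup.mk c)]
  group

/-- Lemma F: a nontrivial group has a nonidentity element with class size at most `b^2` -/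
theorem exists_small_class {X : Type*} [Group X] [Finite X] [Nontrivial X] {b : ℕ}
    (h : BoundedBy X b) :
    ∃ x : X, x ≠ 1 ∧ (Subgroup.centralizer ({x} : Set X)).index ≤ b ^ 2 := by
  classical
  have : Fintype X := Fintype.ofFinite X
  have : Fintype (Cfsg.IrrCharacter X) := Fintype.ofFinite _
  by_contra hno
  push Not at hno
  set k := Nat.card (ConjClasses X) with hk
  set n := Nat.card X with hn
  have hn1 : 1 < n := by rw [hn]; exact Finite.one_lt_card
  -- the class-number identity
  have hcls : k * n = ∑ x : X, Nat.card (Subgroup.centralizer ({x} : Set X)) := by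
    rw [hk, hn, card_conjClasses_mul_card_eq_sum]
    apply Finset.sum_congr rfl
    intro x _
    exact card_commute_eq_card_centralizer x
  -- each nonidentity centralizer is small
  have hsmall : ∀ x : X, x ≠ 1 →
      (b ^ 2 + 1) * Nat.card (Subgroup.centralizer ({x} : Set X)) ≤ n := by
    intro x hx
    have h1 := hno x hx
    have h2 := Subgroup.card_mul_index (Subgroup.centralizer ({x} : Set X))
    rw [← hn] at h2
    calc (b ^ 2 + 1) * Nat.card (Subgroup.centralizer ({x} : Set X))
        ≤ (Subgroup.centralizer ({x} : Set X)).index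
          * Nat.card (Subgroup.centralizer ({x} : Set X)) := Nat.mul_le_mul_right _ h1
      _ = n := by rw [mul_comm]; exact h2
  have hone : Nat.card (Subgroup.centralizer ({(1 : X)} : Set X)) = n := by
    have : Subgroup.centralizer ({(1 : X)} : Set X) = ⊤ := by
      ext y
      simp [Subgroup.mem_centralizer_iff]
    rw [this, Subgroup.card_top]
  have hineq1 : (b ^ 2 + 1) * (k * n) ≤ (b ^ 2 + 1) * n + (n - 1) * n := by
    rw [hcls, Finset.mul_sum]
    rw [← Finset.add_sum_erase Finset.univ _ (Finset.mem_univ (1 : X)), hone]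
    apply Nat.add_le_add_left
    calc ∑ x ∈ Finset.univ.erase (1 : X),
          (b ^ 2 + 1) * Nat.card (Subgroup.centralizer ({x} : Set X))
        ≤ ∑ x ∈ Finset.univ.erase (1 : X), n := by
          apply Finset.sum_le_sum
          intro x hx
          exact hsmall x (Finset.ne_of_mem_erase hx)
      _ = (n - 1) * n := by
          rw [Finset.sum_const, Finset.card_erase_of_mem (Finset.mem_univ _), Finset.card_univ,
            smul_eq_mul, hn, Nat.card_eq_fintype_card]
  have hineq2 : (b ^ 2 + 1) * k ≤ b ^ 2 + n := by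
    have hn0 : 0 < n := by omega
    have : ((b ^ 2 + 1) * k) * n ≤ (b ^ 2 + n) * n := by
      have e : (b ^ 2 + 1) * n + (n - 1) * n = (b ^ 2 + n) * n := by
        have : n - 1 + 1 = n := Nat.sub_add_cancel hn0
        nlinarith
      rw [← e, mul_assoc]
      exact hineq1
    exact Nat.le_of_mul_le_mul_right this hn0
  -- the degree equation
  have hkirr : Nat.card (Cfsg.IrrCharacter X) = k := by
    rw [hk]; exact Cfsg.Agent.Lib.Helper6.card_irrCharacter
  have hdeg : ∑ χ : Cfsg.IrrCharacter X, Cfsg.charDegree (χ : X → ℂ) ^ 2 = n := by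
    have h1 := sum_sq_degree (G := X)
    have h2 : ((∑ χ : Cfsg.IrrCharacter X, Cfsg.charDegree (χ : X → ℂ) ^ 2 : ℕ) : ℂ)
        = (n : ℂ) := by
      rw [hn, ← h1]
      push_cast
      apply Finset.sum_congr rfl
      intro χ _
      rw [IsCharacter.apply_one_eq_charDegree (IsIrrCharacter.isCharacter χ.2)]
    exact_mod_cast h2
  set χ₁ : Cfsg.IrrCharacter X := ⟨fun _ => (1 : ℂ), isIrrCharacter_one⟩ with hχ₁
  have hχ₁deg : Cfsg.charDegree (χ₁ : X → ℂ) = 1 := by
    simp [hχ₁, Cfsg.charDegree]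
  have hineq3 : n ≤ 1 + (k - 1) * b ^ 2 := by
    rw [← hdeg, ← Finset.add_sum_erase Finset.univ _ (Finset.mem_univ χ₁), hχ₁deg]
    simp only [one_pow]
    apply Nat.add_le_add_left
    calc ∑ χ ∈ Finset.univ.erase χ₁, Cfsg.charDegree (χ : X → ℂ) ^ 2
        ≤ ∑ χ ∈ Finset.univ.erase χ₁, b ^ 2 := by
          apply Finset.sum_le_sum
          intro χ _
          exact Nat.pow_le_pow_left (h χ) 2
      _ = (k - 1) * b ^ 2 := by
          rw [Finset.sum_const, Finset.card_erase_of_mem (Finset.mem_univ _), Finset.card_univ,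
            smul_eq_mul, ← hkirr, Nat.card_eq_fintype_card]
  have hk0 : 0 < k := by
    rw [hk]; exact Nat.card_pos
  have hkk : k - 1 + 1 = k := Nat.sub_add_cancel hk0
  obtain ⟨j, hj⟩ : ∃ j, k = j + 1 := ⟨k - 1, hkk.symm⟩
  rw [hj] at hineq2 hineq3
  simp only [Nat.add_sub_cancel] at hineq3
  have hj0 : j = 0 := by nlinarith
  rw [hj0] at hineq3
  omega

end Cfsg.Agent.Lib.Helper3.IP
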