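import Mathlib
import Cfsg.Agent.Lib.Helper3.IP2
import Cfsg.Agent.Lib.Helper3.GlauCyc3

set_option autoImplicit false
set_option maxHeartbeats 4000000
set_option maxRecDepth 100000
set_option linter.unusedSectionVars false
set_option linter.unusedVariables false
set_option linter.style.haveILetI false

/-! Isaacs--Passman, part 3: a nonabelian simple group has an irreducible character of degree
at least `5`; groups with all degrees at most `4` are solvable. -/

namespace Cfsg.Agent.Lib.Helper3.IP

open Cfsg Cfsg.Agent.Lib.Helper6 Module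
open scoped ComplexConjugate

/-- eigenvalue data of a representation at an involution -/
theorem involution_data {G : Type*} [Group G] [Finite G] {V : Type*} [AddCommGroup V]
    [Module ℂ V] [FiniteDimensional ℂ V] (ρ : Representation ℂ G V) (t : G)
    (ht : orderOf t = 2) :
    ∃ m : ℕ, m ≤ finrank ℂ V ∧ ρ.character t = (finrank ℂ V : ℂ) - 2 * (m : ℂ) ∧
      LinearMap.det (ρ t) = (-1 : ℂ) ^ m ∧ (m = 0 → ρ t = LinearMap.id) ∧
      (m = finrank ℂ V → ρ t = - LinearMap.id) := by
  classical
  obtain ⟨ι, _, bas, μ, h, hμ⟩ := exists_eigenbasis_rep ρ t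
  rw [ht] at hμ
  have hμ' : ∀ i, μ i = 1 ∨ μ i = -1 := fun i => sq_eq_one_iff.mp (hμ i)
  have hcard : finrank ℂ V = Fintype.card ι := Module.finrank_eq_card_basis bas
  refine ⟨(Finset.univ.filter (fun i => μ i = -1)).card, ?_, ?_, ?_, ?_, ?_⟩
  · rw [hcard]; exact Finset.card_le_univ _
  · unfold Representation.character
    rw [trace_eq_sum_of_eigenbasis bas μ _ h, hcard]
    have e : ∀ i, μ i = 1 - 2 * (if μ i = -1 then (1 : ℂ) else 0) := by
      intro i
      rcases hμ' i with h1 | h1
      · have : ¬ μ i = -1 := by rw [h1]; norm_num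
        rw [if_neg this, h1]; ring
      · rw [if_pos h1, h1]; ring
    rw [Finset.sum_congr rfl (fun i _ => e i), Finset.sum_sub_distrib, ← Finset.mul_sum,
      Finset.sum_boole]
    simp
  · rw [Cfsg.Agent.Lib.Helper3.GlauCyc.det_eq_prod_of_eigenbasis bas μ (ρ t) h]
    have e : ∀ i, μ i = if μ i = -1 then (-1 : ℂ) else 1 := by
      intro i
      rcases hμ' i with h1 | h1
      · have : ¬ μ i = -1 := by rw [h1]; norm_num
        rw [if_neg this, h1]
      · rw [if_pos h1, h1]
    rw [Finset.prod_congr rfl (fun i _ => e i), Finset.prod_ite]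
    simp
  · intro hm
    have hall : ∀ i, μ i = 1 := by
      intro i
      rcases hμ' i with h1 | h1
      · exact h1
      · exfalso
        have : i ∈ Finset.univ.filter (fun i => μ i = -1) := by simp [h1]
        rw [Finset.card_eq_zero.mp hm] at this
        simp at this
    apply bas.ext
    intro i
    rw [h i, hall i, one_smul]; rfl
  · intro hm
    have hall : ∀ i, μ i = -1 := by
      intro i
      have hu : Finset.univ.filter (fun i => μ i = -1) = Finset.univ := by
        apply Finset.eq_univ_of_card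
        rw [hm, hcard]
      have : i ∈ Finset.univ.filter (fun i => μ i = -1) := by rw [hu]; exact Finset.mem_univ i
      simpa using this
    apply bas.ext
    intro i
    rw [h i, hall i]; simp

/-- the sum of the squares of the degrees -/
theorem sum_sq_charDegree {X : Type*} [Group X] [Fintype X] [Fintype (Cfsg.IrrCharacter X)] :
    ∑ χ : Cfsg.IrrCharacter X, Cfsg.charDegree (χ : X → ℂ) ^ 2 = Nat.card X := by
  have h1 := sum_sq_degree (G := X)
  have h2 : ((∑ χ : Cfsg.IrrCharacter X, Cfsg.charDegree (χ : X → ℂ) ^ 2 : ℕ) : ℂ)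
      = (Nat.card X : ℂ) := by
    rw [← h1]
    push_cast
    apply Finset.sum_congr rfl
    intro χ _
    rw [IsCharacter.apply_one_eq_charDegree (IsIrrCharacter.isCharacter χ.2)]
  exact_mod_cast h2

/-- Lemma S: a nonabelian simple group has an irreducible character of degree at least 5 -/
theorem not_boundedBy_four_of_simple {T : Type*} [Group T] [Finite T] [IsSimpleGroup T]
    (hna : ∃ a c : T, a * c ≠ c * a) : ¬ BoundedBy T 4 := by
  classical
  intro hb
  have : Fintype T := Fintype.ofFinite T
  have : Fintype (Cfsg.IrrCharacter T) := Fintype.ofFinite _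
  have hperf : commutator T = ⊤ := by
    rcases (Subgroup.Normal.eq_bot_or_eq_top (inferInstance : (commutator T).Normal)) with h | h
    · exfalso
      obtain ⟨a, c, hac⟩ := hna
      have h1 := Cfsg.Agent.Lib.Helper3.CD.comm_mem_commutator a c
      rw [h, Subgroup.mem_bot] at h1
      apply hac
      calc a * c = (a * c * a⁻¹ * c⁻¹) * (c * a) := by group
        _ = c * a := by rw [h1, one_mul]
    · exact h
  have hcenter : Subgroup.center T = ⊥ := by
    rcases (Subgroup.Normal.eq_bot_or_eq_top (inferInstance : (Subgroup.center T).Normal))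
      with h | h
    · exact h
    · exfalso
      obtain ⟨a, c, hac⟩ := hna
      apply hac
      have h1 : a ∈ Subgroup.center T := by rw [h]; trivial
      exact (Subgroup.mem_center_iff.mp h1 c).symm
  have hhom : ∀ f : T →* ℂˣ, ∀ g, f g = 1 := by
    intro f g
    have h1 : commutator T ≤ f.ker := Abelianization.commutator_subset_ker f
    rw [hperf] at h1
    exact MonoidHom.mem_ker.mp (h1 (Subgroup.mem_top g))
  set χ₁ : Cfsg.IrrCharacter T := ⟨fun _ => (1 : ℂ), isIrrCharacter_one⟩ with hχ₁
  have hχ₁deg : Cfsg.charDegree (χ₁ : T → ℂ) = 1 := by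
    simp [hχ₁, Cfsg.charDegree]
  have hlin : ∀ χ : Cfsg.IrrCharacter T, Cfsg.charDegree (χ : T → ℂ) = 1 → χ = χ₁ := by
    intro χ hχ
    have hc := IsIrrCharacter.isCharacter χ.2
    have h1 : (χ : T → ℂ) 1 = 1 := by
      rw [IsCharacter.apply_one_eq_charDegree hc, hχ]; simp
    apply Subtype.ext
    funext g
    have h2 := hhom (linearCharHom hc h1) g
    have h3 := linearCharHom_apply hc h1 g
    rw [h2] at h3
    rw [← h3]; simp [hχ₁]
  -- analysis at an involution
  have key : ∀ t : T, orderOf t = 2 → ∀ χ : Cfsg.IrrCharacter T,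
      Cfsg.charDegree (χ : T → ℂ) ≠ 1 →
      (χ : T → ℂ) 1 * (χ : T → ℂ) t = -3 ∨ (χ : T → ℂ) 1 * (χ : T → ℂ) t = 0 := by
    intro t ht χ hχ1
    obtain ⟨n, ρ, hρ, hρχ⟩ := χ.2
    haveI := hρ
    have hfr : finrank ℂ (Fin n → ℂ) = n := by simp
    have hn : Cfsg.charDegree (χ : T → ℂ) = n := by
      rw [← hρχ, charDegree_character, hfr]
    have hn4 : n ≤ 4 := hn ▸ hb χ
    have hn1 : n ≠ 1 := hn ▸ hχ1
    have hn0 : 0 < n := hn ▸ IsIrrCharacter.charDegree_pos χ.2
    have hfaith : ∀ g : T, ρ g = 1 → g = 1 := by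
      rcases Subgroup.Normal.eq_bot_or_eq_top
        (inferInstance : (MonoidHom.ker (ρ : T →* Module.End ℂ (Fin n → ℂ))).Normal) with h | h
      · intro g hg
        have : g ∈ MonoidHom.ker (ρ : T →* Module.End ℂ (Fin n → ℂ)) := MonoidHom.mem_ker.mpr hg
        rw [h] at this
        exact Subgroup.mem_bot.mp this
      · exfalso
        have hall : ∀ g, (χ : T → ℂ) g = (n : ℂ) := by
          intro g
          have : g ∈ MonoidHom.ker (ρ : T →* Module.End ℂ (Fin n → ℂ)) := by rw [h]; trivial
          have hg : ρ g = 1 := MonoidHom.mem_ker.mp this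
          rw [← hρχ]
          unfold Representation.character
          rw [hg, LinearMap.trace_one, hfr]
        have horth : Cfsg.classInner (χ : T → ℂ) (χ₁ : T → ℂ) = 0 := by
          rw [classInner_isIrrCharacter χ.2 χ₁.2, if_neg]
          intro heq
          apply hχ1
          have : χ = χ₁ := Subtype.ext heq
          rw [this, hχ₁deg]
        unfold Cfsg.classInner at horth
        have hs : ∑ g : T, (χ : T → ℂ) g * conj ((χ₁ : T → ℂ) g) = (Nat.card T : ℂ) * n := by
          rw [Finset.sum_congr rfl (fun g _ => by rw [hall g])]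
          simp [hχ₁, Finset.sum_const, Nat.card_eq_fintype_card]
        rw [hs] at horth
        have hT : (Nat.card T : ℂ) ≠ 0 := card_ne_zero_complex T
        have hnC : (n : ℂ) ≠ 0 := by exact_mod_cast hn0.ne'
        field_simp at horth
        exact hnC horth
    obtain ⟨m, hm_le, htr, hdet, hm0, hmn⟩ := involution_data ρ t ht
    rw [hfr] at hm_le htr hmn
    have hdet1 : LinearMap.det (ρ t) = 1 := by
      have h1 := hhom (Cfsg.Agent.Lib.Helper3.DetChar.detHom ρ) t
      have h2 := Cfsg.Agent.Lib.Helper3.DetChar.detHom_apply ρ t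
      rw [h1] at h2
      rw [← h2]; simp
    rw [hdet1] at hdet
    have hmeven : Even m := by
      rcases Nat.even_or_odd m with h | h
      · exact h
      · exfalso
        rw [h.neg_one_pow] at hdet
        norm_num at hdet
    have ht1 : t ≠ 1 := by
      intro h; rw [h, orderOf_one] at ht; norm_num at ht
    have hm0' : m ≠ 0 := by
      intro h
      exact ht1 (hfaith t (hm0 h))
    have hmn' : m ≠ n := by
      intro h
      have hρt := hmn h
      apply ht1
      have hc : t ∈ Subgroup.center T := by
        rw [Subgroup.mem_center_iff]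
        intro g
        have h1 : ρ (g * t) = ρ (t * g) := by
          rw [map_mul, map_mul, hρt]
          ext v
          simp
        have h2 : ρ ((g * t) * (t * g)⁻¹) = 1 := by
          rw [map_mul, h1, ← map_mul, mul_inv_cancel, map_one]
        have h3 := hfaith _ h2
        exact mul_inv_eq_one.mp h3
      rw [hcenter] at hc
      exact Subgroup.mem_bot.mp hc
    have hχt : (χ : T → ℂ) t = (n : ℂ) - 2 * (m : ℂ) := by rw [← hρχ]; exact htr
    have hχ1' : (χ : T → ℂ) 1 = (n : ℂ) := by
      rw [IsCharacter.apply_one_eq_charDegree (IsIrrCharacter.isCharacter χ.2), hn]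
    rw [hχt, hχ1']
    obtain ⟨r, hr⟩ := hmeven
    have hmlt : m < n := lt_of_le_of_ne hm_le hmn'
    interval_cases n
    · exact absurd rfl hn1
    · exfalso; omega
    · have : m = 2 := by omega
      left; rw [this]; norm_num
    · have : m = 2 := by omega
      right; rw [this]; norm_num
  -- the order is even
  have hdeg := sum_sq_charDegree (X := T)
  have hsplit : Nat.card T = 1 + ∑ χ ∈ Finset.univ.erase χ₁, Cfsg.charDegree (χ : T → ℂ) ^ 2 := by
    rw [← hdeg, ← Finset.add_sum_erase Finset.univ _ (Finset.mem_univ χ₁), hχ₁deg]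
    simp
  have heven : 2 ∣ Nat.card T := by
    by_contra hodd
    have h3 : ∀ χ ∈ Finset.univ.erase χ₁, Cfsg.charDegree (χ : T → ℂ) = 3 := by
      intro χ hχ
      have hne : χ ≠ χ₁ := Finset.ne_of_mem_erase hχ
      have h1 : Cfsg.charDegree (χ : T → ℂ) ≠ 1 := fun h => hne (hlin χ h)
      have h4 := hb χ
      have h0 := IsIrrCharacter.charDegree_pos χ.2
      have hd := IsIrrCharacter.charDegree_dvd_card χ.2
      have h2 : ¬ 2 ∣ Cfsg.charDegree (χ : T → ℂ) := fun h => hodd (h.trans hd)
      interval_cases (Cfsg.charDegree (χ : T → ℂ))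
      · exact absurd rfl h1
      · exact absurd (dvd_refl 2) h2
      · rfl
      · exfalso; exact h2 ⟨2, rfl⟩
    obtain ⟨χ₀, hχ₀⟩ := Cfsg.Agent.Lib.Helper3.CD.exists_nonlinear hna
    have hχ₀m : χ₀ ∈ Finset.univ.erase χ₁ := by
      rw [Finset.mem_erase]
      refine ⟨?_, Finset.mem_univ _⟩
      intro h; rw [h, hχ₁deg] at hχ₀; exact hχ₀ rfl
    have h3dvd : 3 ∣ Nat.card T := by
      have := IsIrrCharacter.charDegree_dvd_card χ₀.2
      rwa [h3 χ₀ hχ₀m] at this
    rw [Finset.sum_congr rfl (fun χ hχ => by rw [h3 χ hχ])] at hsplit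
    rw [Finset.sum_const, smul_eq_mul] at hsplit
    omega
  haveI : Fact (Nat.Prime 2) := ⟨Nat.prime_two⟩
  obtain ⟨t, ht⟩ := exists_prime_orderOf_dvd_card' 2 heven
  -- column orthogonality
  have hreg := leftRegular_character_eq_sum (G := T)
  have hreg_t := congrFun hreg t
  rw [leftRegular_character] at hreg_t
  have ht1 : t ≠ 1 := by
    intro h; rw [h, orderOf_one] at ht; norm_num at ht
  rw [if_neg ht1, Finset.sum_apply] at hreg_t
  simp only [Pi.smul_apply, smul_eq_mul] at hreg_t
  rw [← Finset.add_sum_erase Finset.univ _ (Finset.mem_univ χ₁)] at hreg_t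
  have hterm : ∀ χ ∈ Finset.univ.erase χ₁, (χ : T → ℂ) 1 * (χ : T → ℂ) t
      = -3 * ((if (χ : T → ℂ) 1 * (χ : T → ℂ) t = -3 then 1 else 0 : ℕ) : ℂ) := by
    intro χ hχ
    have hne : χ ≠ χ₁ := Finset.ne_of_mem_erase hχ
    have h1 : Cfsg.charDegree (χ : T → ℂ) ≠ 1 := fun h => hne (hlin χ h)
    rcases key t ht χ h1 with h | h
    · rw [if_pos h, h]; simp
    · have : ¬ ((χ : T → ℂ) 1 * (χ : T → ℂ) t = -3) := by rw [h]; norm_num
      rw [if_neg this, h]; simp
  rw [Finset.sum_congr rfl hterm, ← Finset.mul_sum, ← Nat.cast_sum] at hreg_t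
  have h1 : ((χ₁ : T → ℂ) 1 * (χ₁ : T → ℂ) t) = 1 := by simp [hχ₁]
  rw [h1] at hreg_t
  set N := ∑ χ ∈ Finset.univ.erase χ₁,
    (if (χ : T → ℂ) 1 * (χ : T → ℂ) t = -3 then 1 else 0 : ℕ) with hN
  have h2 : ((3 * N : ℕ) : ℂ) = ((1 : ℕ) : ℂ) := by
    push_cast
    linear_combination hreg_t
  have h3 : 3 * N = 1 := by exact_mod_cast h2
  omega

/-- groups all of whose irreducible characters have degree at most `4` are solvable -/
theorem solvable_of_boundedBy_four.{u} : ∀ (n : ℕ) (X : Type u) [Group X] [Finite X],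
    Nat.card X = n → BoundedBy X 4 → Group.IsSolvable X := by
  intro n
  induction n using Nat.strong_induction_on with
  | _ n ih =>
    intro X _ _ hn hb
    by_cases hcomm : ∀ a c : X, a * c = c * a
    · exact Group.isSolvable_of_comm hcomm
    · push Not at hcomm
      by_cases hN : ∃ N : Subgroup X, N.Normal ∧ N ≠ ⊥ ∧ N ≠ ⊤
      · obtain ⟨N, hNn, hNb, hNt⟩ := hN
        haveI := hNn
        have h1 : Nat.card N < n := by
          rw [← hn]
          rw [← Subgroup.card_mul_index N]
          have hidx1 : N.index ≠ 1 := fun h => hNt (Subgroup.index_eq_one.mp h)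
          have hidx0 : N.index ≠ 0 := Subgroup.index_ne_zero_of_finite
          have hN0 : 0 < Nat.card N := Nat.card_pos
          have : 2 ≤ N.index := by omega
          nlinarith
        have h2 : Nat.card (X ⧸ N) < n := by
          rw [← hn, ← Subgroup.index_eq_card, ← Subgroup.card_mul_index N]
          have hN1 : 1 < Nat.card N := by
            rw [Subgroup.one_lt_card_iff_ne_bot]; exact hNb
          have hidx : 0 < N.index := Nat.pos_of_ne_zero Subgroup.index_ne_zero_of_finite
          nlinarith
        haveI s1 : Group.IsSolvable N := ih _ h1 N rfl (hb.subgroup N)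
        haveI s2 : Group.IsSolvable (X ⧸ N) := ih _ h2 (X ⧸ N) rfl (hb.quotient N)
        apply Group.isSolvable_of_ker_le_range N.subtype (QuotientGroup.mk' N)
        rw [QuotientGroup.ker_mk', Subgroup.range_subtype]
      · exfalso
        push Not at hN
        haveI : Nontrivial X := by
          obtain ⟨a, c, hac⟩ := hcomm
          refine ⟨a, 1, ?_⟩
          rintro rfl
          simp at hac
        haveI : IsSimpleGroup X := by
          refine ⟨?_⟩
          intro N hNn
          by_cases hNb : N = ⊥
          · exact Or.inl hNb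
          · exact Or.inr (hN N hNn hNb)
        exact not_boundedBy_four_of_simple hcomm hb

end Cfsg.Agent.Lib.Helper3.IP
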