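import Mathlib
import Cfsg.Agent.Lib.Helper3.IP3

set_option autoImplicit false
set_option maxHeartbeats 4000000
set_option maxRecDepth 100000
set_option linter.unusedSectionVars false
set_option linter.unusedVariables false
set_option linter.style.haveILetI false

/-! Isaacs--Passman, part 4: arithmetic, transfer to subgroups, the nonsolvable case. -/

namespace Cfsg.Agent.Lib.Helper3.IP

open Cfsg Cfsg.Agent.Lib.Helper6 Module
open scoped ComplexConjugate Nat

theorem num1 (b : ℕ) (hb : 1 ≤ b) : b ^ 2 * ((b - 1)!) ^ 2 = (b !) ^ 2 := by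
  rw [← Nat.mul_factorial_pred (by omega : b ≠ 0)]
  ring

theorem num2 (b : ℕ) (hb : 1 ≤ b) : b * ((b - 1)!) ^ 2 ≤ (b !) ^ 2 := by
  rw [← num1 b hb]
  have : b ≤ b ^ 2 := by nlinarith
  exact Nat.mul_le_mul_right _ this

theorem num3 (b : ℕ) (hb : 5 ≤ b) : b ^ 4 * ((b / 2)!) ^ 2 ≤ (b !) ^ 2 := by
  obtain ⟨c, rfl⟩ : ∃ c, b = c + 3 := ⟨b - 3, by omega⟩
  have h1 : (c + 3) / 2 ≤ c := by omega
  have h2 : ((c + 3) / 2)! ≤ c ! := Nat.factorial_le h1
  have h3 : (c + 3)! = (c + 3) * ((c + 2) * ((c + 1) * c !)) := by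
    rw [Nat.factorial_succ, Nat.factorial_succ, Nat.factorial_succ]
  have h4 : (c + 3) ^ 2 * ((c + 3) / 2)! ≤ (c + 3)! := by
    rw [h3]
    have hc : 2 ≤ c := by omega
    have h5 : c + 3 ≤ (c + 2) * (c + 1) := by nlinarith
    calc (c + 3) ^ 2 * ((c + 3) / 2)! ≤ (c + 3) ^ 2 * c ! := Nat.mul_le_mul_left _ h2
      _ = (c + 3) * ((c + 3) * c !) := by ring
      _ ≤ (c + 3) * (((c + 2) * (c + 1)) * c !) :=
          Nat.mul_le_mul_left _ (Nat.mul_le_mul_right _ h5)
      _ = (c + 3) * ((c + 2) * ((c + 1) * c !)) := by ring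
  calc (c + 3) ^ 4 * (((c + 3) / 2)!) ^ 2 = ((c + 3) ^ 2 * ((c + 3) / 2)!) ^ 2 := by ring
    _ ≤ ((c + 3)!) ^ 2 := Nat.pow_le_pow_left h4 2

theorem num4 (b : ℕ) (hb : 3 ≤ b) : b ^ 3 * ((b / 2)!) ^ 2 ≤ (b !) ^ 2 := by
  rcases Nat.lt_or_ge b 5 with h | h
  · interval_cases b
    · norm_num [Nat.factorial]
    · norm_num [Nat.factorial]
  · refine le_trans ?_ (num3 b h)
    apply Nat.mul_le_mul_right
    exact Nat.pow_le_pow_right (by omega) (by norm_num)

/-- the conclusion -/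
def Goal (G : Type*) [Group G] (b : ℕ) : Prop :=
  ∃ A : Subgroup G, (∀ x ∈ A, ∀ y ∈ A, x * y = y * x) ∧ A.index ≤ (b !) ^ 2

/-- transfer an abelian subgroup of a subgroup -/
theorem goal_of_subgroup {G : Type*} [Group G] [Finite G] (H : Subgroup G) (c b : ℕ)
    (hH : ∃ A : Subgroup H, (∀ x ∈ A, ∀ y ∈ A, x * y = y * x) ∧ A.index ≤ (c !) ^ 2)
    (hidx : H.index * (c !) ^ 2 ≤ (b !) ^ 2) : Goal G b := by
  obtain ⟨A, hA, hAi⟩ := hH
  refine ⟨A.map H.subtype, ?_, ?_⟩
  · rintro x ⟨a, ha, rfl⟩ y ⟨a', ha', rfl⟩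
    have := hA a ha a' ha'
    have h2 := congrArg (Subtype.val) this
    simpa using h2
  · rw [Subgroup.index_map_subtype]
    calc A.index * H.index ≤ (c !) ^ 2 * H.index := Nat.mul_le_mul_right _ hAi
      _ = H.index * (c !) ^ 2 := Nat.mul_comm _ _
      _ ≤ (b !) ^ 2 := hidx

/-- a group with abelian derived subgroup is solvable -/
theorem solvable_of_commutator_comm {Q : Type*} [Group Q]
    (h : ∀ a ∈ commutator Q, ∀ c ∈ commutator Q, a * c = c * a) : Group.IsSolvable Q := by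
  haveI s1 : Group.IsSolvable (commutator Q) := by
    apply Group.isSolvable_of_comm
    intro a c
    apply Subtype.ext
    exact h a a.2 c c.2
  haveI s2 : Group.IsSolvable (Q ⧸ commutator Q) := by
    apply Group.isSolvable_of_comm
    intro a c
    obtain ⟨a, rfl⟩ := QuotientGroup.mk_surjective a
    obtain ⟨c, rfl⟩ := QuotientGroup.mk_surjective c
    rw [← QuotientGroup.mk_mul, ← QuotientGroup.mk_mul, QuotientGroup.eq]
    have h1 := Cfsg.Agent.Lib.Helper3.CD.comm_mem_commutator c⁻¹ a⁻¹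
    have h2 : (a * c)⁻¹ * (c * a) = c⁻¹ * a⁻¹ * c⁻¹⁻¹ * a⁻¹⁻¹ := by group
    rw [h2]; exact h1
  apply Group.isSolvable_of_ker_le_range (commutator Q).subtype (QuotientGroup.mk' (commutator Q))
  rw [QuotientGroup.ker_mk', Subgroup.range_subtype]

/-- sum over the group of a function vanishing off a subgroup -/
theorem sum_eq_sum_subgroup {G : Type*} [Group G] [Fintype G] (H : Subgroup G) [Fintype H]
    (f : G → ℂ) (hf : ∀ g, g ∉ H → f g = 0) : ∑ g : G, f g = ∑ h : H, f h := by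
  classical
  rw [← Finset.sum_filter_of_ne (p := fun g => g ∈ H)]
  · rw [Finset.sum_subtype (Finset.univ.filter (fun g => g ∈ H)) (p := fun g => g ∈ H)]
    intro x
    simp
  · intro g _ hg
    by_contra h
    exact hg (hf g h)

end Cfsg.Agent.Lib.Helper3.IP
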