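import Mathlib
import Cfsg.Agent.Lib.Helper3.IP4

set_option autoImplicit false
set_option maxHeartbeats 4000000
set_option maxRecDepth 100000
set_option linter.unusedSectionVars false
set_option linter.unusedVariables false
set_option linter.style.haveILetI false

/-! Isaacs--Passman, part 5: the case of a nonsolvable minimal nonabelian quotient. -/

namespace Cfsg.Agent.Lib.Helper3.IP

open Cfsg Cfsg.Agent.Lib.Helper6 Module
open scoped ComplexConjugate Nat

theorem case_nonsolvable {G : Type*} [Group G] [Finite G] {b : ℕ} (hb : BoundedBy G b)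
    (hIH : ∀ H : Subgroup G, H ≠ ⊤ → ∀ c, BoundedBy H c →
      ∃ A : Subgroup H, (∀ x ∈ A, ∀ y ∈ A, x * y = y * x) ∧ A.index ≤ (c !) ^ 2)
    (K : Subgroup G) [hK : K.Normal]
    (hmin : ∀ L : Subgroup (G ⧸ K), L.Normal → L ≠ ⊥ → commutator (G ⧸ K) ≤ L)
    (hna : ∃ a c : G, a * c * a⁻¹ * c⁻¹ ∉ K)
    (hns : ¬ Group.IsSolvable (G ⧸ K)) : Goal G b := by
  classical
  have : Fintype G := Fintype.ofFinite G
  have hbQ : BoundedBy (G ⧸ K) b := hb.quotient K
  have hb5 : 5 ≤ b := by
    by_contra h
    push Not at h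
    exact hns (solvable_of_boundedBy_four _ (G ⧸ K) rfl (hbQ.mono (by omega)))
  haveI : Nontrivial (G ⧸ K) := by
    by_contra h
    rw [not_nontrivial_iff_subsingleton] at h
    apply hns
    apply Group.isSolvable_of_comm
    intro a c; exact Subsingleton.elim _ _
  have hNna : ¬ ∀ a ∈ commutator (G ⧸ K), ∀ c ∈ commutator (G ⧸ K), a * c = c * a :=
    fun h => hns (solvable_of_commutator_comm h)
  have hCN : Subgroup.centralizer
      ((commutator (G ⧸ K) : Subgroup (G ⧸ K)) : Set (G ⧸ K)) = ⊥ := by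
    by_contra h
    have hle := hmin _ Subgroup.normal_centralizer h
    apply hNna
    intro a ha c hc
    have := (Subgroup.mem_centralizer_iff.mp (hle ha)) c hc
    exact this.symm
  obtain ⟨x, hx1, hxi⟩ := exists_small_class hbQ
  set M : Subgroup G :=
    (Subgroup.centralizer ({x} : Set (G ⧸ K))).comap (QuotientGroup.mk' K) with hM
  have hMidx : M.index ≤ b ^ 2 := by
    rw [hM, Subgroup.index_comap_of_surjective _ (QuotientGroup.mk'_surjective K)]; exact hxi
  have hKM : K ≤ M := by
    intro k hk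
    rw [hM, Subgroup.mem_comap]
    have : QuotientGroup.mk' K k = 1 := (QuotientGroup.eq_one_iff k).mpr hk
    rw [this]; exact one_mem _
  have hMtop : M ≠ ⊤ := by
    intro hMt
    have hxc : x ∈ Subgroup.center (G ⧸ K) := by
      rw [Subgroup.mem_center_iff]
      intro q
      obtain ⟨g, rfl⟩ := QuotientGroup.mk_surjective q
      have hg : g ∈ M := by rw [hMt]; trivial
      rw [hM, Subgroup.mem_comap, Subgroup.mem_centralizer_iff] at hg
      exact (hg x (Set.mem_singleton x)).symm
    have hcb : Subgroup.center (G ⧸ K) ≠ ⊥ := by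
      intro h
      rw [h] at hxc
      exact hx1 (Subgroup.mem_bot.mp hxc)
    have hle := hmin _ inferInstance hcb
    apply hNna
    intro a ha c hc
    exact ((Subgroup.mem_center_iff.mp (hle ha)) c).symm
  have hcore : ∀ h : G, (∀ t : G, t⁻¹ * h * t ∈ M) → h ∈ K := by
    intro h hh
    by_contra hhK
    have hh1 : (QuotientGroup.mk h : G ⧸ K) ≠ 1 :=
      fun e => hhK ((QuotientGroup.eq_one_iff h).mp e)
    have hLle : Subgroup.normalClosure ({(QuotientGroup.mk h : G ⧸ K)} : Set (G ⧸ K))
        ≤ Subgroup.centralizer ({x} : Set (G ⧸ K)) := by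
      unfold Subgroup.normalClosure
      rw [Subgroup.closure_le]
      intro y hy
      rw [Group.mem_conjugatesOfSet_iff] at hy
      obtain ⟨a, ha, hay⟩ := hy
      rw [Set.mem_singleton_iff] at ha
      subst ha
      rw [isConj_iff] at hay
      obtain ⟨q, hq⟩ := hay
      obtain ⟨t, rfl⟩ := QuotientGroup.mk_surjective q
      have h1 := hh t⁻¹
      rw [inv_inv, hM, Subgroup.mem_comap] at h1
      rw [← hq]
      simpa using h1
    have hLb : Subgroup.normalClosure ({(QuotientGroup.mk h : G ⧸ K)} : Set (G ⧸ K)) ≠ ⊥ := by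
      intro e
      have h1 : (QuotientGroup.mk h : G ⧸ K)
          ∈ Subgroup.normalClosure ({(QuotientGroup.mk h : G ⧸ K)} : Set (G ⧸ K)) :=
        Subgroup.subset_normalClosure (Set.mem_singleton _)
      rw [e] at h1
      exact hh1 (Subgroup.mem_bot.mp h1)
    have hNle := (hmin _ Subgroup.normalClosure_normal hLb).trans hLle
    have hxC : x ∈ Subgroup.centralizer
        ((commutator (G ⧸ K) : Subgroup (G ⧸ K)) : Set (G ⧸ K)) := by
      rw [Subgroup.mem_centralizer_iff]
      intro n hn
      exact (Subgroup.mem_centralizer_iff.mp (hNle hn) x (Set.mem_singleton x)).symm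
    rw [hCN] at hxC
    exact hx1 (Subgroup.mem_bot.mp hxC)
  have : Fintype M := Fintype.ofFinite M
  by_cases hM' : BoundedBy M (b - 1)
  · apply goal_of_subgroup M (b - 1) b (hIH M hMtop _ hM')
    calc M.index * ((b - 1)!) ^ 2 ≤ b ^ 2 * ((b - 1)!) ^ 2 := Nat.mul_le_mul_right _ hMidx
      _ = (b !) ^ 2 := num1 b (by omega)
  · unfold BoundedBy at hM'
    push Not at hM'
    obtain ⟨ph, hph⟩ := hM'
    have hphb : Cfsg.charDegree (ph : M → ℂ) = b := le_antisymm (hb.subgroup M ph) (by omega)
    have hbph : BoundedBy G (Cfsg.charDegree (ph : M → ℂ)) := by rw [hphb]; exact hb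
    have hvan : ∀ y : M, y ∉ K.subgroupOf M → (ph : M → ℂ) y = 0 := by
      intro y hy
      by_contra hne
      apply hy
      rw [Subgroup.mem_subgroupOf]
      exact hcore y (fun t => conj_mem_of_ne_zero M ph hbph y hne t)
    have hrel := index_le_of_vanish (K.subgroupOf M) (ph : M → ℂ) ph.2 hvan
    rw [hphb] at hrel
    have hKidx : K.index ≤ b ^ 4 := by
      have h1 : K.relIndex M * M.index = K.index := Subgroup.relIndex_mul_index hKM
      rw [← h1]
      have h2 : K.relIndex M = (K.subgroupOf M).index := rfl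
      rw [h2]
      calc (K.subgroupOf M).index * M.index ≤ b ^ 2 * b ^ 2 := Nat.mul_le_mul hrel hMidx
        _ = b ^ 4 := by ring
    have hKb : BoundedBy K (b / 2) := hb.normal_half K hna
    have hKtop : K ≠ ⊤ := by
      intro h
      obtain ⟨a, c, hac⟩ := hna
      apply hac
      rw [h]; trivial
    apply goal_of_subgroup K (b / 2) b (hIH K hKtop _ hKb)
    calc K.index * ((b / 2)!) ^ 2 ≤ b ^ 4 * ((b / 2)!) ^ 2 := Nat.mul_le_mul_right _ hKidx
      _ ≤ (b !) ^ 2 := num3 b hb5

end Cfsg.Agent.Lib.Helper3.IP
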