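import Mathlib
import Cfsg.Agent.Lib.Helper3.IP4
import Cfsg.Agent.Lib.Helper3.IP2
import Cfsg.Agent.Lib.Helper3.CD1
import Cfsg.Agent.Lib.Helper3.CD3
import Cfsg.Agent.Lib.Helper3.CharQuot
import Cfsg.Agent.Lib.Helper3.Dade5
import Cfsg.Agent.Lib.Helper6.CenterIndex
import Cfsg.Agent.Lib.Helper6.BlkCover3

set_option autoImplicit false
set_option maxHeartbeats 4000000
set_option maxRecDepth 100000
set_option linter.unusedSectionVars false
set_option linter.unusedVariables false
set_option linter.style.haveILetI false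

/-! Isaacs--Passman, part 6: the case of a minimal nonabelian quotient of prime power order. -/

namespace Cfsg.Agent.Lib.Helper3.IP

open Cfsg Cfsg.Agent.Lib.Helper6 Module
open scoped ComplexConjugate Nat

/-- central elements act on an irreducible character through a scalar of norm one -/
theorem central_data {Q : Type*} [Group Q] [Finite Q] {χ : Q → ℂ}
    (hχ : Cfsg.IsIrrCharacter Q χ) {z : Q} (hz : z ∈ Subgroup.center Q) :
    ∃ c : ℂ, conj c * c = 1 ∧ ∀ q : Q, χ (z * q) = c * χ q := by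
  classical
  have : Fintype Q := Fintype.ofFinite Q
  obtain ⟨n, ρ, hρ, rfl⟩ := hχ
  haveI := hρ
  obtain ⟨c, hc, hcc⟩ := exists_scalar_of_mem_center ρ hz
  refine ⟨c, hcc, fun q => ?_⟩
  unfold Representation.character
  rw [map_mul, hc]
  have : (c • (LinearMap.id : (Fin n → ℂ) →ₗ[ℂ] (Fin n → ℂ))) * ρ q = c • ρ q := by
    ext v
    simp
  rw [this, map_smul]
  rfl

/-- the norm of a character value at a central element -/
theorem normSq_center {Q : Type*} [Group Q] [Finite Q] {χ : Q → ℂ}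
    (hχ : Cfsg.IsIrrCharacter Q χ) {z : Q} (hz : z ∈ Subgroup.center Q) :
    χ z * conj (χ z) = ((Cfsg.charDegree χ : ℕ) : ℂ) ^ 2 := by
  obtain ⟨c, hcc, hc⟩ := central_data hχ hz
  have h1 := hc 1
  rw [mul_one, IsCharacter.apply_one_eq_charDegree (IsIrrCharacter.isCharacter hχ)] at h1
  rw [h1, map_mul, Complex.conj_natCast]
  calc c * (Cfsg.charDegree χ : ℂ) * (conj c * (Cfsg.charDegree χ : ℂ))
      = (conj c * c) * (Cfsg.charDegree χ : ℂ) ^ 2 := by ring
    _ = (Cfsg.charDegree χ : ℂ) ^ 2 := by rw [hcc, one_mul]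

/-- an irreducible character vanishing off a subgroup on which it has constant norm -/
theorem index_eq_of_vanish {Q : Type*} [Group Q] [Finite Q] (H : Subgroup Q) {χ : Q → ℂ}
    (hχ : Cfsg.IsIrrCharacter Q χ) (hv : ∀ q : Q, q ∉ H → χ q = 0)
    (hn : ∀ q : Q, q ∈ H → χ q * conj (χ q) = ((Cfsg.charDegree χ : ℕ) : ℂ) ^ 2) :
    H.index = Cfsg.charDegree χ ^ 2 := by
  classical
  have : Fintype Q := Fintype.ofFinite Q
  have : Fintype H := Fintype.ofFinite H
  have h1 := classInner_isIrrCharacter hχ hχ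
  rw [if_pos rfl] at h1
  unfold Cfsg.classInner at h1
  have h2 : ∑ g : Q, χ g * conj (χ g) = ∑ h : H, χ h * conj (χ (h : Q)) := by
    apply sum_eq_sum_subgroup H (fun g => χ g * conj (χ g))
    intro g hg
    simp only [hv g hg, zero_mul]
  have h3 : ∑ h : H, χ h * conj (χ (h : Q))
      = (Nat.card H : ℂ) * ((Cfsg.charDegree χ : ℕ) : ℂ) ^ 2 := by
    rw [Finset.sum_congr rfl (fun (h : H) _ => hn (h : Q) h.2)]
    rw [Finset.sum_const, Finset.card_univ, nsmul_eq_mul, Nat.card_eq_fintype_card]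
  rw [h2, h3] at h1
  have hQ : (Nat.card Q : ℂ) ≠ 0 := by
    have : Nat.card Q ≠ 0 := Nat.card_pos.ne'
    exact_mod_cast this
  have h4 : (Nat.card H : ℂ) * ((Cfsg.charDegree χ : ℕ) : ℂ) ^ 2 = (Nat.card Q : ℂ) := by
    field_simp at h1
    exact h1
  have h5 : Nat.card H * Cfsg.charDegree χ ^ 2 = Nat.card Q := by exact_mod_cast h4
  have h6 : H.index * Nat.card H = Nat.card Q := Subgroup.index_mul_card H
  have hH : 0 < Nat.card H := Nat.card_pos
  have : Nat.card H * Cfsg.charDegree χ ^ 2 = Nat.card H * H.index := by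
    rw [h5, ← h6, mul_comm]
  exact (Nat.eq_of_mul_eq_mul_left hH this).symm

/-- in a group in which every nontrivial normal subgroup contains the (central) commutator
subgroup, the nonlinear irreducible characters vanish off the centre -/
theorem vanish_off_center {Q : Type*} [Group Q] [Finite Q]
    (hZ : commutator Q ≤ Subgroup.center Q)
    (hmin : ∀ L : Subgroup Q, L.Normal → L ≠ ⊥ → commutator Q ≤ L)
    {χ : Q → ℂ} (hχ : Cfsg.IsIrrCharacter Q χ) (hd : Cfsg.charDegree χ ≠ 1) :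
    ∀ q : Q, q ∉ Subgroup.center Q → χ q = 0 := by
  classical
  have hχc := IsIrrCharacter.isCharacter hχ
  have hfaith : ∀ x : Q, χ x = χ 1 → x = 1 := by
    obtain ⟨K', hK'n, hK'⟩ := CharQuot.exists_kernel hχc
    have hK'b : K' = ⊥ := by
      by_contra hne
      have hle := hmin K' hK'n hne
      have hker : ∀ x ∈ commutator Q, χ x = χ 1 := fun x hx => (hK' x).mp (hle hx)
      obtain ⟨β, hβ, hχβ⟩ := CharQuot.exists_irr_quot (commutator Q) hχ hker
      have hab : ∀ a c : Q ⧸ commutator Q, a * c = c * a := by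
        intro a c
        obtain ⟨a, rfl⟩ := QuotientGroup.mk_surjective a
        obtain ⟨c, rfl⟩ := QuotientGroup.mk_surjective c
        rw [← QuotientGroup.mk_mul, ← QuotientGroup.mk_mul, QuotientGroup.eq]
        have := CD.comm_mem_commutator c⁻¹ a⁻¹
        simpa [mul_assoc] using this
      have hβ1 := Dade.apply_one_eq_one_of_comm hab hβ
      have hχ1 : χ 1 = 1 := by
        rw [hχβ]
        simpa using hβ1
      rw [IsCharacter.apply_one_eq_charDegree hχc] at hχ1
      apply hd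
      exact_mod_cast hχ1
    intro x hx
    have : x ∈ K' := (hK' x).mpr hx
    rw [hK'b] at this
    exact Subgroup.mem_bot.mp this
  intro q hq
  rw [Subgroup.mem_center_iff] at hq
  push Not at hq
  obtain ⟨y, hy⟩ := hq
  have hz'c : y * q * y⁻¹ * q⁻¹ ∈ Subgroup.center Q := hZ (CD.comm_mem_commutator y q)
  obtain ⟨c, hcc, hc⟩ := central_data hχ hz'c
  have hz'1 : y * q * y⁻¹ * q⁻¹ ≠ 1 := by
    intro h
    apply hy
    have : y * q * y⁻¹ * q⁻¹ * (q * y) = 1 * (q * y) := by rw [h]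
    rw [one_mul] at this
    rw [← this]
    group
  have h1 := hc q
  have h2 : y * q * y⁻¹ * q⁻¹ * q = y * q * y⁻¹ := by group
  rw [h2, IsIrrCharacter.isClassFunction hχ q y] at h1
  by_contra hne
  have hc1 : c = 1 := by
    have : (1 : ℂ) * χ q = c * χ q := by rw [one_mul]; exact h1
    exact (mul_right_cancel₀ hne this).symm
  have h3 := hc 1
  rw [hc1, one_mul, mul_one] at h3
  exact hz'1 (hfaith _ h3)

theorem case_pgroup {G : Type*} [Group G] [Finite G] {b : ℕ} (hb : BoundedBy G b)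
    (hIH : ∀ H : Subgroup G, H ≠ ⊤ → ∀ c, BoundedBy H c →
      ∃ A : Subgroup H, (∀ x ∈ A, ∀ y ∈ A, x * y = y * x) ∧ A.index ≤ (c !) ^ 2)
    (K : Subgroup G) [hK : K.Normal]
    (hmin : ∀ L : Subgroup (G ⧸ K), L.Normal → L ≠ ⊥ → commutator (G ⧸ K) ≤ L)
    (hQG : ∃ x y : G ⧸ K, x * y ≠ y * x)
    (p : ℕ) (hp : p.Prime) (hQ : IsPGroup p (G ⧸ K)) : Goal G b := by
  classical
  have : Fintype G := Fintype.ofFinite G
  haveI : Fact p.Prime := ⟨hp⟩
  have hb1 : 1 ≤ b := hb.one_le
  haveI : Nontrivial (G ⧸ K) := by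
    obtain ⟨x, y, hxy⟩ := hQG
    by_contra h
    rw [not_nontrivial_iff_subsingleton] at h
    exact hxy (Subsingleton.elim _ _)
  have hcb : Subgroup.center (G ⧸ K) ≠ ⊥ := by
    have := hQ.center_nontrivial
    intro h
    rw [h] at this
    exact not_nontrivial _ this
  have hZ : commutator (G ⧸ K) ≤ Subgroup.center (G ⧸ K) := hmin _ inferInstance hcb
  obtain ⟨χb, hd⟩ := CD.exists_nonlinear hQG
  have hv := vanish_off_center hZ hmin χb.2 hd
  have hidxQ := index_eq_of_vanish (Subgroup.center (G ⧸ K)) χb.2 hv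
    (fun q hq => normSq_center χb.2 hq)
  have hdb : Cfsg.charDegree (χb : G ⧸ K → ℂ) ≤ b := hb.quotient K χb
  have hd0 : 0 < Cfsg.charDegree (χb : G ⧸ K → ℂ) := IsIrrCharacter.charDegree_pos χb.2
  set d := Cfsg.charDegree (χb : G ⧸ K → ℂ) with hdd
  set Z : Subgroup G := (Subgroup.center (G ⧸ K)).comap (QuotientGroup.mk' K) with hZdef
  have hZidx : Z.index = d ^ 2 := by
    rw [hZdef, Subgroup.index_comap_of_surjective _ (QuotientGroup.mk'_surjective K)]
    exact hidxQ
  have hZtop : Z ≠ ⊤ := by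
    intro hZt
    obtain ⟨x, y, hxy⟩ := hQG
    apply hxy
    obtain ⟨g, rfl⟩ := QuotientGroup.mk_surjective y
    have hg : g ∈ Z := by rw [hZt]; trivial
    rw [hZdef, Subgroup.mem_comap] at hg
    exact Subgroup.mem_center_iff.mp hg x
  have : Fintype Z := Fintype.ofFinite Z
  by_cases hZ' : BoundedBy Z (b - 1)
  · apply goal_of_subgroup Z (b - 1) b (hIH Z hZtop _ hZ')
    rw [hZidx]
    calc d ^ 2 * ((b - 1)!) ^ 2 ≤ b ^ 2 * ((b - 1)!) ^ 2 :=
          Nat.mul_le_mul_right _ (Nat.pow_le_pow_left hdb 2)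
      _ = (b !) ^ 2 := num1 b hb1
  · exfalso
    unfold BoundedBy at hZ'
    push Not at hZ'
    obtain ⟨ph, hph⟩ := hZ'
    have hphb : Cfsg.charDegree (ph : Z → ℂ) = b := le_antisymm (hb.subgroup Z ph) (by omega)
    have hbph : BoundedBy G (Cfsg.charDegree (ph : Z → ℂ)) := by rw [hphb]; exact hb
    obtain ⟨χ', hχ'⟩ := exists_irr_over Z ph
    have hres := restrict_eq_of_max Z ph hbph χ' hχ'
    obtain ⟨χ, hχe, hχd⟩ := CD.exists_inflation K χb
    have hψc : Cfsg.IsCharacter G ((χ' : G → ℂ) * (χ : G → ℂ)) :=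
      IsCharacter.mul (IsIrrCharacter.isCharacter χ'.2) (IsIrrCharacter.isCharacter χ.2)
    have hχv : ∀ g : G, g ∉ Z → (χ : G → ℂ) g = 0 := by
      intro g hg
      rw [hχe]
      apply hv
      intro h
      apply hg
      rw [hZdef, Subgroup.mem_comap]
      exact h
    have hχn : ∀ z : Z, (χ : G → ℂ) z * conj ((χ : G → ℂ) z) = ((d : ℕ) : ℂ) ^ 2 := by
      intro z
      have hz : (z : G) ∈ (Subgroup.center (G ⧸ K)).comap (QuotientGroup.mk' K) := z.2
      rw [Subgroup.mem_comap] at hz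
      rw [hχe]
      exact normSq_center χb.2 hz
    have hinner : Cfsg.classInner ((χ' : G → ℂ) * (χ : G → ℂ)) ((χ' : G → ℂ) * (χ : G → ℂ)) = 1 := by
      unfold Cfsg.classInner
      have h2 : ∑ g : G, ((χ' : G → ℂ) * (χ : G → ℂ)) g * conj (((χ' : G → ℂ) * (χ : G → ℂ)) g)
          = ∑ z : Z, ((χ' : G → ℂ) * (χ : G → ℂ)) z
              * conj (((χ' : G → ℂ) * (χ : G → ℂ)) (z : G)) := by
        apply sum_eq_sum_subgroup Z
          (fun g => ((χ' : G → ℂ) * (χ : G → ℂ)) g * conj (((χ' : G → ℂ) * (χ : G → ℂ)) g))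
        intro g hg
        simp only [Pi.mul_apply, hχv g hg, mul_zero, zero_mul]
      have h3 : ∀ z : Z, ((χ' : G → ℂ) * (χ : G → ℂ)) z
              * conj (((χ' : G → ℂ) * (χ : G → ℂ)) (z : G))
            = ((d : ℕ) : ℂ) ^ 2 * ((ph : Z → ℂ) z * conj ((ph : Z → ℂ) z)) := by
        intro z
        have e1 : (χ' : G → ℂ) z = (ph : Z → ℂ) z := congrFun hres z
        simp only [Pi.mul_apply, map_mul]
        rw [e1, ← hχn z]
        ring
      have h4 := classInner_isIrrCharacter ph.2 ph.2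
      rw [if_pos rfl] at h4
      unfold Cfsg.classInner at h4
      have hZc : (Nat.card Z : ℂ) ≠ 0 := by
        have : Nat.card Z ≠ 0 := Nat.card_pos.ne'
        exact_mod_cast this
      have h5 : ∑ z : Z, (ph : Z → ℂ) z * conj ((ph : Z → ℂ) z) = (Nat.card Z : ℂ) := by
        field_simp at h4
        exact h4
      rw [h2, Finset.sum_congr rfl (fun z _ => h3 z), ← Finset.mul_sum, h5]
      have h6 : Z.index * Nat.card Z = Nat.card G := Subgroup.index_mul_card Z
      rw [hZidx] at h6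
      have h7 : (Nat.card G : ℂ) = ((d : ℕ) : ℂ) ^ 2 * (Nat.card Z : ℂ) := by
        rw [← h6]; push_cast; ring
      rw [h7]
      have hdc : ((d : ℕ) : ℂ) ≠ 0 := by
        have : d ≠ 0 := hd0.ne'
        exact_mod_cast this
      field_simp
    have hirr := isIrrCharacter_of_classInner_self_eq_one hψc hinner
    have hdeg : Cfsg.charDegree ((χ' : G → ℂ) * (χ : G → ℂ)) = b * d := by
      have h1 := IsCharacter.apply_one_eq_charDegree hψc
      have e1 : (χ' : G → ℂ) 1 = (ph : Z → ℂ) 1 := congrFun hres 1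
      rw [Pi.mul_apply, e1, IsCharacter.apply_one_eq_charDegree (IsIrrCharacter.isCharacter ph.2),
        IsCharacter.apply_one_eq_charDegree (IsIrrCharacter.isCharacter χ.2), hphb, hχd] at h1
      have : ((b * d : ℕ) : ℂ) = (Cfsg.charDegree ((χ' : G → ℂ) * (χ : G → ℂ)) : ℂ) := by
        rw [← h1]; push_cast; ring
      exact_mod_cast this.symm
    have hle := hb ⟨_, hirr⟩
    simp only at hle
    rw [hdeg] at hle
    have hd2 : 2 ≤ d := by omega
    nlinarith

end Cfsg.Agent.Lib.Helper3.IP
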