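import Mathlib
import Cfsg.Agent.Lib.Helper3.IP4
import Cfsg.Agent.Lib.Helper3.IP2
import Cfsg.Agent.Lib.Helper3.CD1
import Cfsg.Agent.Lib.Helper3.CD2
import Cfsg.Agent.Lib.Helper3.CD3
import Cfsg.Agent.Lib.Helper3.CD4
import Cfsg.Agent.Lib.Helper3.DG1
import Cfsg.Agent.Lib.Helper6.BlkCover3
import Cfsg.Agent.Lib.Helper6.Multiplicity
import Cfsg.Agent.Lib.Helper6.Norm

set_option autoImplicit false
set_option maxHeartbeats 4000000
set_option maxRecDepth 100000
set_option linter.unusedSectionVars false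
set_option linter.unusedVariables false
set_option linter.style.haveILetI false

/-! Isaacs--Passman, part 7: the case of a minimal nonabelian quotient of Frobenius type. -/

namespace Cfsg.Agent.Lib.Helper3.IP

open Cfsg Cfsg.Agent.Lib.Helper6 Cfsg.Agent.Lib.Helper3.CD Module
open scoped ComplexConjugate Nat

/-- an irreducible character of maximal degree of a normal subgroup is invariant -/
theorem invariant_of_max {G : Type*} [Group G] [Fintype G] (N : Subgroup G) [hN : N.Normal]
    [Fintype N] (ph : Cfsg.IrrCharacter N) (hb : BoundedBy G (Cfsg.charDegree (ph : N → ℂ)))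
    (g : G) (n : N) :
    (ph : N → ℂ) ⟨g * n * g⁻¹, hN.conj_mem n n.2 g⟩ = (ph : N → ℂ) n := by
  classical
  obtain ⟨χ, hχ⟩ := exists_irr_over N ph
  have hres := restrict_eq_of_max N ph hb χ hχ
  have h1 := congrFun hres ⟨g * n * g⁻¹, hN.conj_mem n n.2 g⟩
  have h2 := congrFun hres n
  simp only at h1 h2
  rw [← h1, ← h2]
  exact IsIrrCharacter.isClassFunction χ.2 n g

/-- the characters of maximal degree of the preimage of the Frobenius kernel vanish off `K` -/
theorem vanish_off_K {G : Type*} [Group G] [Fintype G] (K : Subgroup G) [hK : K.Normal]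
    (M : Subgroup (G ⧸ K)) [hM : M.Normal] [Fintype ↥(preN K M)]
    (hMab : ∀ a ∈ M, ∀ c ∈ M, a * c = c * a) (hMtop : M ≠ ⊤)
    (hfpf : ∀ q : G ⧸ K, q ∉ M → ∀ x ∈ M, q * x = x * q → x = 1)
    (ψ : Cfsg.IrrCharacter ↥(preN K M))
    (hb : BoundedBy G (Cfsg.charDegree (ψ : ↥(preN K M) → ℂ)))
    (n : ↥(preN K M)) (hne : (ψ : ↥(preN K M) → ℂ) n ≠ 0) : (n : G) ∈ K := by
  classical
  have hN : (preN K M).Normal := inferInstance
  have hinv := invariant_of_max (preN K M) ψ hb
  have hMab' : ∀ a c : M, a * c = c * a := by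
    intro a c
    apply Subtype.ext
    simp only [Subgroup.coe_mul]
    exact hMab a a.2 c c.2
  have hfeq : ∀ (f : ↥M →* ℂˣ) (g : G),
      f (projM K M ⟨g * n * g⁻¹, hN.conj_mem n n.2 g⟩) = f (projM K M n) := by
    intro f g
    have hdeg : Cfsg.charDegree (twistF K M f (ψ : ↥(preN K M) → ℂ))
        = Cfsg.charDegree (ψ : ↥(preN K M) → ℂ) := by
      unfold Cfsg.charDegree
      rw [twistF_one]
    have hb' : BoundedBy G (Cfsg.charDegree
        ((⟨twistF K M f (ψ : ↥(preN K M) → ℂ), twistF_irr K M f ψ.2⟩ :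
          Cfsg.IrrCharacter ↥(preN K M)) : ↥(preN K M) → ℂ)) := by
      simp only
      rw [hdeg]; exact hb
    have h1 := invariant_of_max (preN K M) ⟨twistF K M f (ψ : ↥(preN K M) → ℂ),
      twistF_irr K M f ψ.2⟩ hb' g n
    simp only at h1
    unfold twistF at h1
    rw [hinv g n] at h1
    have h2 := mul_right_cancel₀ hne h1
    exact Units.ext h2
  have hproj : ∀ g : G, projM K M ⟨g * n * g⁻¹, hN.conj_mem n n.2 g⟩ = projM K M n := by
    intro g
    by_contra hne'
    have ha : projM K M ⟨g * n * g⁻¹, hN.conj_mem n n.2 g⟩ * (projM K M n)⁻¹ ≠ 1 := by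
      intro h
      apply hne'
      exact mul_inv_eq_one.mp h
    obtain ⟨f, hf⟩ := exists_hom_ne_one_of_comm hMab' ha
    apply hf
    rw [map_mul, map_inv, hfeq f g]
    exact mul_inv_cancel _
  obtain ⟨q, hq⟩ : ∃ q : G ⧸ K, q ∉ M := by
    by_contra h
    push Not at h
    exact hMtop ((Subgroup.eq_top_iff' M).mpr h)
  obtain ⟨g, rfl⟩ := QuotientGroup.mk_surjective q
  have hnM : (QuotientGroup.mk (n : G) : G ⧸ K) ∈ M := n.2
  have hcomm : (QuotientGroup.mk g : G ⧸ K) * QuotientGroup.mk (n : G)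
      = QuotientGroup.mk (n : G) * QuotientGroup.mk g := by
    have h1 := projM_conj K M g n
    rw [hproj g] at h1
    have h2 := congrArg (fun x : ↥M => (x : G ⧸ K)) h1
    simp only [MulAut.conjNormal_apply, projM_coe] at h2
    calc (QuotientGroup.mk g : G ⧸ K) * QuotientGroup.mk (n : G)
        = (QuotientGroup.mk g * QuotientGroup.mk (n : G) * (QuotientGroup.mk g)⁻¹)
            * QuotientGroup.mk g := by group
      _ = QuotientGroup.mk (n : G) * QuotientGroup.mk g := by rw [← h2]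
  have h1 := hfpf _ hq _ hnM hcomm
  exact (QuotientGroup.eq_one_iff _).mp h1

/-- the restriction of an irreducible character to a subgroup off which it vanishes -/
theorem restrict_norm {X : Type*} [Group X] [Fintype X] (K' : Subgroup X) [Fintype K']
    [Fintype (Cfsg.IrrCharacter K')]
    (ψ : X → ℂ) (hψ : Cfsg.IsIrrCharacter X ψ) (hv : ∀ x : X, x ∉ K' → ψ x = 0) :
    ∃ m : Cfsg.IrrCharacter K' → ℕ, ∑ θ, m θ * m θ = K'.index ∧
      ∑ θ, m θ * Cfsg.charDegree (θ : K' → ℂ) = Cfsg.charDegree ψ := by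
  classical
  have hres : Cfsg.IsCharacter K' (fun k : K' => ψ k) :=
    IsCharacter.restrict K' (IsIrrCharacter.isCharacter hψ)
  obtain ⟨m, hm, -⟩ := IsCharacter.exists_mult hres
  refine ⟨m, ?_, ?_⟩
  · have h1 := classInner_sum_irr m m
    rw [← hm] at h1
    have h2 := classInner_isIrrCharacter hψ hψ
    rw [if_pos rfl] at h2
    unfold Cfsg.classInner at h1 h2
    have h3 : ∑ g : X, ψ g * conj (ψ g) = ∑ k : K', ψ k * conj (ψ (k : X)) := by
      apply sum_eq_sum_subgroup K' (fun g => ψ g * conj (ψ g))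
      intro g hg
      simp only [hv g hg, zero_mul]
    rw [h3] at h2
    have hXc : (Nat.card X : ℂ) ≠ 0 := by
      have : Nat.card X ≠ 0 := Nat.card_pos.ne'
      exact_mod_cast this
    have hKc : (Nat.card K' : ℂ) ≠ 0 := by
      have : Nat.card K' ≠ 0 := Nat.card_pos.ne'
      exact_mod_cast this
    have h4 : ∑ k : K', ψ k * conj (ψ (k : X)) = (Nat.card X : ℂ) := by
      field_simp at h2
      exact h2
    rw [h4] at h1
    have h5 : K'.index * Nat.card K' = Nat.card X := Subgroup.index_mul_card K'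
    have h6 : ((K'.index : ℕ) : ℂ) = ((∑ θ, m θ * m θ : ℕ) : ℂ) := by
      rw [← h1, ← h5]
      push_cast
      field_simp
    exact_mod_cast h6.symm
  · have h1 := apply_eq_sum_mult hm 1
    have h2 : ψ ((1 : K') : X) = ψ 1 := rfl
    rw [h2, IsCharacter.apply_one_eq_charDegree (IsIrrCharacter.isCharacter hψ)] at h1
    have h3 : ∑ θ : Cfsg.IrrCharacter K', (m θ : ℂ) * (θ : K' → ℂ) 1
        = ((∑ θ, m θ * Cfsg.charDegree (θ : K' → ℂ) : ℕ) : ℂ) := by
      push_cast
      apply Finset.sum_congr rfl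
      intro θ _
      rw [IsCharacter.apply_one_eq_charDegree (IsIrrCharacter.isCharacter θ.2)]
    rw [h3] at h1
    exact_mod_cast h1.symm

theorem no_three {ι : Type*} [Fintype ι] (m d : ι → ℕ) (hd : ∀ i, 1 ≤ d i)
    (h1 : ∑ i, m i * m i = 3) (h2 : ∑ i, m i * d i = 2) : False := by
  classical
  have hS : ∑ i, m i ≤ 2 := by
    rw [← h2]
    apply Finset.sum_le_sum
    intro i _
    exact Nat.le_mul_of_pos_right _ (hd i)
  have hle : ∑ i, m i * m i ≤ (∑ i, m i) * (∑ i, m i) := by
    rw [Finset.sum_mul]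
    apply Finset.sum_le_sum
    intro i _
    apply Nat.mul_le_mul_left
    exact Finset.single_le_sum (f := m) (fun j _ => Nat.zero_le _) (Finset.mem_univ i)
  have hpar : (∑ i, m i * m i) % 2 = (∑ i, m i) % 2 := by
    rw [Finset.sum_nat_mod, Finset.sum_nat_mod Finset.univ 2 m]
    congr 1
    apply Finset.sum_congr rfl
    intro i _
    rcases Nat.mod_two_eq_zero_or_one (m i) with h | h <;> simp [Nat.mul_mod, h]
  rw [h1] at hle hpar
  have : ∑ i, m i = 0 ∨ ∑ i, m i = 1 ∨ ∑ i, m i = 2 := by omega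
  rcases this with h | h | h <;> rw [h] at hle hpar <;> omega

theorem case_frobenius {G : Type*} [Group G] [Finite G] {b : ℕ} (hb : BoundedBy G b)
    (hIH : ∀ H : Subgroup G, H ≠ ⊤ → ∀ c, BoundedBy H c →
      ∃ A : Subgroup H, (∀ x ∈ A, ∀ y ∈ A, x * y = y * x) ∧ A.index ≤ (c !) ^ 2)
    (K : Subgroup G) [hK : K.Normal] (M : Subgroup (G ⧸ K)) [hM : M.Normal]
    (hna : ∃ a c : G, a * c * a⁻¹ * c⁻¹ ∉ K)
    (hMab : ∀ a ∈ M, ∀ c ∈ M, a * c = c * a)
    (hMne : M ≠ ⊥) (hMtop : M ≠ ⊤)
    (p : ℕ) (hp : p.Prime) (hMp : IsPGroup p M) (hpi : ¬ p ∣ M.index)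
    (hfpf : ∀ q : G ⧸ K, q ∉ M → ∀ x ∈ M, q * x = x * q → x = 1) : Goal G b := by
  classical
  have : Fintype G := Fintype.ofFinite G
  have : Fintype ↥(preN K M) := Fintype.ofFinite _
  have : Fintype ↥(K.subgroupOf (preN K M)) := Fintype.ofFinite _
  have : Fintype (Cfsg.IrrCharacter ↥(K.subgroupOf (preN K M))) := Fintype.ofFinite _
  haveI : Fact p.Prime := ⟨hp⟩
  have hb1 : 1 ≤ b := hb.one_le
  have hf : M.index ≤ b := by
    obtain ⟨χ₀, hχ₀⟩ := (DG.frob_case K M hMab p hp hMp hMne hfpf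
      ⟨fun _ => (1 : ℂ), isIrrCharacter_one⟩).1
    have := hb χ₀
    rwa [hχ₀] at this
  have hNidx : (preN K M).index = M.index := index_preN K M
  have hMi1 : M.index ≠ 1 := fun h => hMtop (Subgroup.index_eq_one.mp h)
  have hNtop : preN K M ≠ ⊤ := by
    intro h
    apply hMi1
    rw [← hNidx, h, Subgroup.index_top]
  by_cases hN' : BoundedBy ↥(preN K M) (b - 1)
  · apply goal_of_subgroup (preN K M) (b - 1) b (hIH _ hNtop _ hN')
    rw [hNidx]
    calc M.index * ((b - 1)!) ^ 2 ≤ b * ((b - 1)!) ^ 2 := Nat.mul_le_mul_right _ hf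
      _ ≤ (b !) ^ 2 := num2 b hb1
  · unfold BoundedBy at hN'
    push Not at hN'
    obtain ⟨ψ, hψ⟩ := hN'
    have hψb : Cfsg.charDegree (ψ : ↥(preN K M) → ℂ) = b :=
      le_antisymm (hb.subgroup _ ψ) (by omega)
    have hbψ : BoundedBy G (Cfsg.charDegree (ψ : ↥(preN K M) → ℂ)) := by rw [hψb]; exact hb
    have hvan : ∀ y : ↥(preN K M), y ∉ K.subgroupOf (preN K M) →
        (ψ : ↥(preN K M) → ℂ) y = 0 := by
      intro y hy
      by_contra hne
      apply hy
      rw [Subgroup.mem_subgroupOf]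
      exact vanish_off_K K M hMab hMtop hfpf ψ hbψ y hne
    have hrel := index_le_of_vanish (K.subgroupOf (preN K M)) (ψ : ↥(preN K M) → ℂ) ψ.2 hvan
    rw [hψb, relIndex_preN K M] at hrel
    have hKN : K ≤ preN K M := by
      intro k hk
      rw [Subgroup.mem_comap]
      have : QuotientGroup.mk' K k = 1 := (QuotientGroup.eq_one_iff k).mpr hk
      rw [this]; exact one_mem _
    have hKidx : K.index ≤ b ^ 3 := by
      have h1 : K.relIndex (preN K M) * (preN K M).index = K.index :=
        Subgroup.relIndex_mul_index hKN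
      rw [← h1]
      have h2 : K.relIndex (preN K M) = (K.subgroupOf (preN K M)).index := rfl
      rw [h2, relIndex_preN K M, hNidx]
      calc Nat.card M * M.index ≤ b ^ 2 * b := Nat.mul_le_mul hrel hf
        _ = b ^ 3 := by ring
    have hb3 : 3 ≤ b := by
      by_contra hlt
      push Not at hlt
      have hMi0 : M.index ≠ 0 := Subgroup.index_ne_zero_of_finite
      have hMi2 : M.index = 2 := by omega
      have hb2 : b = 2 := by omega
      have hp2 : p ≠ 2 := by
        intro h
        apply hpi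
        rw [h, hMi2]
      obtain ⟨k, hk⟩ := IsPGroup.iff_card.mp hMp
      have hk0 : k ≠ 0 := by
        intro h
        rw [h, pow_zero] at hk
        apply hMne
        exact (Subgroup.card_eq_one).mp hk
      have hp3 : 3 ≤ p := by
        have := hp.two_le
        omega
      have hcard3 : Nat.card M = 3 := by
        rw [hb2] at hrel
        have h1 : 3 ^ k ≤ p ^ k := Nat.pow_le_pow_left hp3 k
        have hk1 : k = 1 := by
          by_contra hk1
          have hk2 : 2 ≤ k := by omega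
          have : 3 ^ 2 ≤ 3 ^ k := Nat.pow_le_pow_right (by norm_num) hk2
          omega
        rw [hk1, pow_one] at hk
        rw [hk] at hrel ⊢
        have : p ≠ 4 := by
          intro h
          rw [h] at hp
          norm_num at hp
        omega
      obtain ⟨m, hm1, hm2⟩ := restrict_norm (K.subgroupOf (preN K M))
        (ψ : ↥(preN K M) → ℂ) ψ.2 hvan
      rw [relIndex_preN K M, hcard3] at hm1
      rw [hψb, hb2] at hm2
      exact no_three m (fun θ => Cfsg.charDegree (θ : ↥(K.subgroupOf (preN K M)) → ℂ))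
        (fun θ => IsIrrCharacter.charDegree_pos θ.2) hm1 hm2
    have hKb : BoundedBy K (b / 2) := hb.normal_half K hna
    have hKtop : K ≠ ⊤ := by
      intro h
      obtain ⟨a, c, hac⟩ := hna
      apply hac
      rw [h]; trivial
    apply goal_of_subgroup K (b / 2) b (hIH K hKtop _ hKb)
    calc K.index * ((b / 2)!) ^ 2 ≤ b ^ 3 * ((b / 2)!) ^ 2 := Nat.mul_le_mul_right _ hKidx
      _ ≤ (b !) ^ 2 := num4 b hb3

end Cfsg.Agent.Lib.Helper3.IP
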