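import Mathlib
import Cfsg.Agent.Lib.Helper3.IP5
import Cfsg.Agent.Lib.Helper3.IP6
import Cfsg.Agent.Lib.Helper3.IP7

set_option autoImplicit false
set_option maxHeartbeats 4000000
set_option maxRecDepth 100000
set_option linter.unusedSectionVars false
set_option linter.unusedVariables false
set_option linter.style.haveILetI false

/-! Isaacs--Passman, part 8: a finite group all of whose irreducible characters have degree at
most `b` has an abelian subgroup of index at most `(b!)^2`. -/

namespace Cfsg.Agent.Lib.Helper3.IP

open Cfsg Cfsg.Agent.Lib.Helper6 Module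
open scoped ComplexConjugate Nat

theorem main.{u} : ∀ (n : ℕ) (G : Type u) [Group G] [Finite G],
    Nat.card G = n → ∀ b : ℕ, BoundedBy G b → Goal G b := by
  intro n
  induction n using Nat.strong_induction_on with
  | _ n ih =>
    intro G _ _ hn b hb
    by_cases hcomm : ∀ a c : G, a * c = c * a
    · refine ⟨⊤, fun x _ y _ => hcomm x y, ?_⟩
      rw [Subgroup.index_top]
      exact Nat.one_le_pow _ _ (Nat.factorial_pos b)
    · push Not at hcomm
      have hIH : ∀ H : Subgroup G, H ≠ ⊤ → ∀ c, BoundedBy H c →
          ∃ A : Subgroup H, (∀ x ∈ A, ∀ y ∈ A, x * y = y * x) ∧ A.index ≤ (c !) ^ 2 := by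
        intro H hH c hc
        have h1 : Nat.card H < n := by
          rw [← hn, ← Subgroup.card_mul_index H]
          have hidx1 : H.index ≠ 1 := fun h => hH (Subgroup.index_eq_one.mp h)
          have hidx0 : H.index ≠ 0 := Subgroup.index_ne_zero_of_finite
          have hH0 : 0 < Nat.card H := Nat.card_pos
          have : 2 ≤ H.index := by omega
          nlinarith
        exact ih _ h1 H rfl c hc
      obtain ⟨K, hKn, hmin, hQG, hne⟩ := DG.exists_good_quotient hcomm
      haveI := hKn
      have hna : ∃ a c : G, a * c * a⁻¹ * c⁻¹ ∉ K := by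
        obtain ⟨x, y, hxy⟩ := hQG
        obtain ⟨a, rfl⟩ := QuotientGroup.mk_surjective x
        obtain ⟨c, rfl⟩ := QuotientGroup.mk_surjective y
        refine ⟨a, c, fun h => hxy ?_⟩
        have h1 : (QuotientGroup.mk (a * c * a⁻¹ * c⁻¹) : G ⧸ K) = 1 :=
          (QuotientGroup.eq_one_iff _).mpr h
        simp only [QuotientGroup.mk_mul, QuotientGroup.mk_inv] at h1
        calc (QuotientGroup.mk a : G ⧸ K) * QuotientGroup.mk c
            = ((QuotientGroup.mk a : G ⧸ K) * QuotientGroup.mk c * (QuotientGroup.mk a)⁻¹
                * (QuotientGroup.mk c)⁻¹) * (QuotientGroup.mk c * QuotientGroup.mk a) := by group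
          _ = QuotientGroup.mk c * QuotientGroup.mk a := by rw [h1, one_mul]
      by_cases hsol : Group.IsSolvable (G ⧸ K)
      · rcases CD.structure_thm hsol hmin hne with ⟨p, hp, hQ⟩ | ⟨p, hp, hMp, hpi, hfpf⟩
        · exact case_pgroup hb hIH K hmin hQG p hp hQ
        · have hMab := CD.commutator_comm hsol hmin
          have hMtop : commutator (G ⧸ K) ≠ ⊤ := by
            haveI := hsol
            haveI : Nontrivial (G ⧸ K) := by
              obtain ⟨x, y, hxy⟩ := hQG
              by_contra h
              rw [not_nontrivial_iff_subsingleton] at h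
              exact hxy (Subsingleton.elim _ _)
            exact (Group.IsSolvable.commutator_lt_top_of_nontrivial (G ⧸ K)).ne
          exact case_frobenius hb hIH K (commutator (G ⧸ K)) hna hMab hne hMtop p hp hMp hpi
            (fun q hq x hx h => hfpf q hq x hx h.symm)
      · exact case_nonsolvable hb hIH K hmin hna hsol

/-- Isaacs--Passman -/
theorem exists_abelian_index_le {G : Type*} [Group G] [Finite G] {b : ℕ}
    (hb : ∀ χ : Cfsg.IrrCharacter G, Cfsg.charDegree (χ : G → ℂ) ≤ b) :
    ∃ A : Subgroup G, (∀ x ∈ A, ∀ y ∈ A, x * y = y * x) ∧ A.index ≤ (Nat.factorial b) ^ 2 :=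
  main _ G rfl b hb

end Cfsg.Agent.Lib.Helper3.IP
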