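import Mathlib
import Cfsg.Agent.Lib.Helper6.IndFun
import Cfsg.Agent.Lib.Helper6.IndFunTI

/-!
# Mackey's formula for a product decomposition `G = X H`
-/

set_option autoImplicit false

namespace Cfsg.Agent.Lib.Helper3.IndMax

open Cfsg Cfsg.Agent.Lib.Helper6

variable {G : Type*} [Group G] [Fintype G]

/-- the function on `H ⊓ X` (as a subgroup of `X`) obtained from a function on `H` -/
def resSub (H X : Subgroup G) (ϑ : H → ℂ) : H.subgroupOf X → ℂ :=
  fun y => ϑ ⟨y.1.1, Subgroup.mem_subgroupOf.1 y.2⟩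

theorem prodEquiv_aux (H X : Subgroup G) (y s : X) (h t : H)
    (hst : (y : G) * (h : G) = (s : G) * (t : G)) :
    ((s⁻¹ * y : X) : G) = (t : G) * (h : G)⁻¹ := by
  push_cast
  rw [eq_mul_inv_iff_mul_eq]
  calc (s : G)⁻¹ * (y : G) * (h : G) = (s : G)⁻¹ * ((y : G) * (h : G)) := by group
    _ = (s : G)⁻¹ * ((s : G) * (t : G)) := by rw [hst]
    _ = (t : G) := by group

/-- the bijection `G × (H ⊓ X) ≃ X × H` attached to a choice of factorisations -/
noncomputable def prodEquiv (H X : Subgroup G) (σ : G → X) (τ : G → H)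
    (hστ : ∀ g, g = (σ g : G) * (τ g : G)) : G × H.subgroupOf X ≃ X × H where
  toFun := fun gk => (σ gk.1 * gk.2.1,
    ⟨gk.2.1.1, Subgroup.mem_subgroupOf.1 gk.2.2⟩⁻¹ * τ gk.1)
  invFun := fun yh => ((yh.1 : G) * (yh.2 : G),
    ⟨(σ ((yh.1 : G) * (yh.2 : G)))⁻¹ * yh.1, by
      rw [Subgroup.mem_subgroupOf]
      rw [prodEquiv_aux H X yh.1 (σ ((yh.1 : G) * (yh.2 : G))) yh.2
        (τ ((yh.1 : G) * (yh.2 : G))) (hστ _)]
      exact H.mul_mem (τ _).2 (H.inv_mem yh.2.2)⟩)
  left_inv := by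
    rintro ⟨g, k⟩
    have h0 : ((σ g * k.1 : X) : G) * ((⟨k.1.1, Subgroup.mem_subgroupOf.1 k.2⟩⁻¹ * τ g : H) : G)
        = g := by
      push_cast
      have := hστ g
      calc (σ g : G) * (k.1 : G) * ((k.1 : G)⁻¹ * (τ g : G))
          = (σ g : G) * (τ g : G) := by group
        _ = g := this.symm
    apply Prod.ext
    · exact h0
    · apply Subtype.ext
      show (σ (((σ g * k.1 : X) : G) *
        ((⟨k.1.1, Subgroup.mem_subgroupOf.1 k.2⟩⁻¹ * τ g : H) : G)))⁻¹ * (σ g * k.1) = k.1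
      rw [h0]
      group
  right_inv := by
    rintro ⟨y, h⟩
    apply Prod.ext
    · show σ ((y : G) * (h : G)) * ((σ ((y : G) * (h : G)))⁻¹ * y) = y
      group
    · apply Subtype.ext
      have h1 := hστ ((y : G) * (h : G))
      have h2 := prodEquiv_aux H X y (σ ((y : G) * (h : G))) h (τ ((y : G) * (h : G))) h1
      show (((⟨(((σ ((y : G) * (h : G)))⁻¹ * y : X) : G), _⟩ : H)⁻¹ * τ ((y : G) * (h : G)) : H) : G)
        = (h : G)
      push_cast at h2 ⊢
      rw [h2]
      group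

theorem mackey_prod (H X : Subgroup G) [Fintype X] [Fintype H] [Fintype (H.subgroupOf X)]
    (hprod : ∀ g : G, ∃ x ∈ X, ∃ h ∈ H, g = x * h) (ϑ : H → ℂ)
    (hϑ : IsClassFunction H ϑ) (x : X) :
    indFun H ϑ (x : G) = indFun (H.subgroupOf X) (resSub H X ϑ) x := by
  classical
  choose σ0 hσ0 τ0 hτ0 hστ0 using hprod
  let σ : G → X := fun g => ⟨σ0 g, hσ0 g⟩
  let τ : G → H := fun g => ⟨τ0 g, hτ0 g⟩
  have hστ : ∀ g, g = (σ g : G) * (τ g : G) := hστ0
  let E := prodEquiv H X σ τ hστ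
  -- the function being summed
  let F : G → ℂ := fun g => extendByZero H ϑ (g⁻¹ * (x : G) * g)
  have hFH : ∀ (g : G) (h : H), F (g * (h : G)) = F g := by
    intro g h
    show extendByZero H ϑ ((g * (h : G))⁻¹ * (x : G) * (g * (h : G)))
      = extendByZero H ϑ (g⁻¹ * (x : G) * g)
    have e1 : (g * (h : G))⁻¹ * (x : G) * (g * (h : G))
        = (h : G)⁻¹ * (g⁻¹ * (x : G) * g) * (h : G) := by group
    rw [e1]
    by_cases hm : g⁻¹ * (x : G) * g ∈ H
    · have hm' : (h : G)⁻¹ * (g⁻¹ * (x : G) * g) * (h : G) ∈ H :=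
        H.mul_mem (H.mul_mem (H.inv_mem h.2) hm) h.2
      rw [extendByZero_of_mem H ϑ hm, extendByZero_of_mem H ϑ hm']
      have := hϑ ⟨g⁻¹ * (x : G) * g, hm⟩ h⁻¹
      rw [← this]
      congr 1
      apply Subtype.ext
      push_cast
      rw [inv_inv]
    · have hm' : (h : G)⁻¹ * (g⁻¹ * (x : G) * g) * (h : G) ∉ H := by
        intro hc
        apply hm
        have : g⁻¹ * (x : G) * g
            = (h : G) * ((h : G)⁻¹ * (g⁻¹ * (x : G) * g) * (h : G)) * (h : G)⁻¹ := by group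
        rw [this]
        exact H.mul_mem (H.mul_mem h.2 hc) (H.inv_mem h.2)
      rw [extendByZero_of_not_mem H ϑ hm, extendByZero_of_not_mem H ϑ hm']
  -- relation between the two extensions by zero
  have hext : ∀ y : X, extendByZero (H.subgroupOf X) (resSub H X ϑ) (y⁻¹ * x * y)
      = F (y : G) := by
    intro y
    show _ = extendByZero H ϑ ((y : G)⁻¹ * (x : G) * (y : G))
    by_cases hm : (y : G)⁻¹ * (x : G) * (y : G) ∈ H
    · have hm' : y⁻¹ * x * y ∈ H.subgroupOf X := by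
        rw [Subgroup.mem_subgroupOf]
        push_cast
        exact hm
      rw [extendByZero_of_mem _ _ hm', extendByZero_of_mem H ϑ hm]
      unfold resSub
      congr 1
    · have hm' : y⁻¹ * x * y ∉ H.subgroupOf X := by
        rw [Subgroup.mem_subgroupOf]
        push_cast
        exact hm
      rw [extendByZero_of_not_mem _ _ hm', extendByZero_of_not_mem H ϑ hm]
  -- double counting
  have hsum1 : ∑ p : G × H.subgroupOf X, F p.1 = ∑ q : X × H, F (q.1 : G) := by
    apply Fintype.sum_equiv E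
    rintro ⟨g, k⟩
    show F g = F ((σ g * k.1 : X) : G)
    have : ((σ g * k.1 : X) : G)
        = g * (((τ g)⁻¹ * ⟨k.1.1, Subgroup.mem_subgroupOf.1 k.2⟩ : H) : G) := by
      push_cast
      have := hστ g
      calc (σ g : G) * (k.1 : G) = ((σ g : G) * (τ g : G)) * ((τ g : G)⁻¹ * (k.1 : G)) := by
            group
        _ = g * ((τ g : G)⁻¹ * (k.1 : G)) := by rw [← this]
    rw [this, hFH]
  have hsum2 : ∑ p : G × H.subgroupOf X, F p.1 = (Fintype.card (H.subgroupOf X) : ℂ) * ∑ g, F g := by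
    rw [Fintype.sum_prod_type]
    simp only [Finset.sum_const, Finset.card_univ, nsmul_eq_mul]
    rw [Finset.mul_sum]
  have hsum3 : ∑ q : X × H, F (q.1 : G) = (Fintype.card H : ℂ) * ∑ y : X, F (y : G) := by
    rw [Fintype.sum_prod_type]
    simp only [Finset.sum_const, Finset.card_univ, nsmul_eq_mul]
    rw [Finset.mul_sum]
  have hcH : (Nat.card H : ℂ) ≠ 0 := card_ne_zero_complex H
  have hcK : (Nat.card (H.subgroupOf X) : ℂ) ≠ 0 := card_ne_zero_complex _
  unfold indFun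
  have hs : ∑ y : X, extendByZero (H.subgroupOf X) (resSub H X ϑ) (y⁻¹ * x * y)
      = ∑ y : X, F (y : G) := Finset.sum_congr rfl (fun y _ => hext y)
  rw [hs]
  show (Nat.card H : ℂ)⁻¹ * ∑ g, F g = _
  rw [Nat.card_eq_fintype_card, Nat.card_eq_fintype_card] at *
  have key : (Fintype.card (H.subgroupOf X) : ℂ) * ∑ g, F g
      = (Fintype.card H : ℂ) * ∑ y : X, F (y : G) := by
    rw [← hsum2, hsum1, hsum3]
  field_simp
  linear_combination key

end Cfsg.Agent.Lib.Helper3.IndMax
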