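import Mathlib
import Cfsg.Agent.Lib.Helper3.IndMax1
import Cfsg.Agent.Lib.Helper6.Orthogonality
import Cfsg.Agent.Lib.Helper6.Auto
import Cfsg.Agent.Lib.Helper6.Constituent
import Cfsg.Agent.Lib.Helper8.RG3
import Cfsg.Agent.S0146

/-!
# Characters induced from a maximal subgroup: norm computations
-/

set_option autoImplicit false

namespace Cfsg.Agent.Lib.Helper3.IndMax

open Cfsg Cfsg.Agent.Lib.Helper6
open scoped ComplexConjugate

/-- sum of squared absolute values of an irreducible character -/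
theorem sum_normSq_irr {N : Type*} [Group N] [Fintype N] {ψ : N → ℂ}
    (hψ : IsIrrCharacter N ψ) : ∑ n : N, Complex.normSq (ψ n) = (Fintype.card N : ℝ) := by
  have h1 := classInner_isIrrCharacter hψ hψ
  rw [if_pos rfl] at h1
  unfold classInner at h1
  have hc : (Nat.card N : ℂ) ≠ 0 := card_ne_zero_complex N
  rw [inv_mul_eq_iff_eq_mul₀ hc, mul_one, Nat.card_eq_fintype_card] at h1
  have h2 : ∑ n : N, ψ n * conj (ψ n) = ((∑ n : N, Complex.normSq (ψ n) : ℝ) : ℂ) := by
    rw [Complex.ofReal_sum]
    apply Finset.sum_congr rfl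
    intro n _
    rw [Complex.mul_conj]
  rw [h2] at h1
  exact_mod_cast h1

theorem norm_lemma {N : Type*} [Group N] [Fintype N] (Q : Subgroup N) [Fintype Q]
    (ψ : N → ℂ) (hψ : IsIrrCharacter N ψ) (η : Q → ℂ) (hη : IsIrrCharacter Q η) (e : ℕ)
    (hinner : classInner η (fun y : Q => ψ y) = e)
    (hcard : Fintype.card N = e * e * Fintype.card Q) :
    (∀ y : Q, ψ y = e * η y) ∧ (∀ n : N, n ∉ Q → ψ n = 0) := by
  classical
  have hAN := sum_normSq_irr hψ
  have hAη := sum_normSq_irr hη
  have hcQ : (Nat.card Q : ℂ) ≠ 0 := card_ne_zero_complex Q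
  -- the inner product as a sum
  have sI : ∑ y : Q, η y * conj (ψ y) = (Fintype.card Q : ℂ) * e := by
    unfold classInner at hinner
    rw [inv_mul_eq_iff_eq_mul₀ hcQ, Nat.card_eq_fintype_card] at hinner
    exact hinner
  have sI' : ∑ y : Q, ψ y * conj (η y) = (Fintype.card Q : ℂ) * e := by
    have := congrArg conj sI
    rw [map_sum, map_mul, Complex.conj_natCast, Complex.conj_natCast] at this
    rw [← this]
    apply Finset.sum_congr rfl
    intro y _
    rw [map_mul, Complex.conj_conj, mul_comm]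
  have sη : ∑ y : Q, η y * conj (η y) = (Fintype.card Q : ℂ) := by
    have h2 : ∑ y : Q, η y * conj (η y) = ((∑ y : Q, Complex.normSq (η y) : ℝ) : ℂ) := by
      rw [Complex.ofReal_sum]
      apply Finset.sum_congr rfl
      intro n _
      rw [Complex.mul_conj]
    rw [h2, hAη]
    simp
  -- expansion of the defect
  have hD : ∑ y : Q, (ψ y - e * η y) * conj (ψ y - e * η y)
      = ∑ y : Q, ψ y * conj (ψ y) - (e : ℂ) * e * (Fintype.card Q : ℂ) := by
    have hexp : ∀ y : Q, (ψ y - e * η y) * conj (ψ y - e * η y)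
        = ψ y * conj (ψ y) - e * (ψ y * conj (η y)) - e * (η y * conj (ψ y))
          + e * e * (η y * conj (η y)) := by
      intro y
      rw [map_sub, map_mul, Complex.conj_natCast]
      ring
    simp_rw [hexp]
    rw [Finset.sum_add_distrib, Finset.sum_sub_distrib, Finset.sum_sub_distrib,
      ← Finset.mul_sum, ← Finset.mul_sum, ← Finset.mul_sum, sI, sI', sη]
    ring
  -- pass to the reals
  have hDr : ∑ y : Q, Complex.normSq (ψ y - e * η y)
      = ∑ y : Q, Complex.normSq (ψ y) - (e : ℝ) * e * (Fintype.card Q : ℝ) := by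
    have h1 : ∑ y : Q, (ψ y - e * η y) * conj (ψ y - e * η y)
        = ((∑ y : Q, Complex.normSq (ψ y - e * η y) : ℝ) : ℂ) := by
      rw [Complex.ofReal_sum]
      apply Finset.sum_congr rfl
      intro n _
      rw [Complex.mul_conj]
    have h2 : ∑ y : Q, ψ y * conj (ψ y) = ((∑ y : Q, Complex.normSq (ψ y) : ℝ) : ℂ) := by
      rw [Complex.ofReal_sum]
      apply Finset.sum_congr rfl
      intro n _
      rw [Complex.mul_conj]
    rw [h1, h2] at hD
    exact_mod_cast hD
  -- split the sum over N
  have hsplit : ∑ n : N, Complex.normSq (ψ n)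
      = ∑ y : Q, Complex.normSq (ψ y)
        + ∑ n ∈ Finset.univ.filter (fun n : N => n ∉ Q), Complex.normSq (ψ n) := by
    rw [← Finset.sum_filter_add_sum_filter_not Finset.univ (fun n : N => n ∈ Q)]
    congr 1
    exact Finset.sum_subtype (Finset.univ.filter (fun n : N => n ∈ Q)) (by simp)
      (fun n => Complex.normSq (ψ n))
  have hcardr : (Fintype.card N : ℝ) = (e : ℝ) * e * (Fintype.card Q : ℝ) := by
    exact_mod_cast hcard
  have hT0 : 0 ≤ ∑ y : Q, Complex.normSq (ψ y - e * η y) :=
    Finset.sum_nonneg (fun y _ => Complex.normSq_nonneg _)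
  have hR0 : 0 ≤ ∑ n ∈ Finset.univ.filter (fun n : N => n ∉ Q), Complex.normSq (ψ n) :=
    Finset.sum_nonneg (fun y _ => Complex.normSq_nonneg _)
  have hT : ∑ y : Q, Complex.normSq (ψ y - e * η y) = 0 := by linarith
  have hR : ∑ n ∈ Finset.univ.filter (fun n : N => n ∉ Q), Complex.normSq (ψ n) = 0 := by
    linarith
  constructor
  · intro y
    have := (Finset.sum_eq_zero_iff_of_nonneg (fun y _ => Complex.normSq_nonneg _)).1 hT y
      (Finset.mem_univ y)
    rw [Complex.normSq_eq_zero, sub_eq_zero] at this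
    exact this
  · intro n hn
    have := (Finset.sum_eq_zero_iff_of_nonneg (fun y _ => Complex.normSq_nonneg _)).1 hR n
      (by simp [hn])
    rwa [Complex.normSq_eq_zero] at this

end Cfsg.Agent.Lib.Helper3.IndMax
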