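import Mathlib
import Cfsg.Agent.Lib.Helper3.IndMax2
import Cfsg.Agent.S0887

/-!
# Characters induced from a maximal subgroup: the key computations
-/

set_option autoImplicit false

namespace Cfsg.Agent.Lib.Helper3.IndMax

open Cfsg Cfsg.Agent.Lib.Helper6
open scoped ComplexConjugate

variable {G : Type*} [Group G] [Fintype G]

section setting

variable (H L : Subgroup G) (hLH : L ≤ H) (ϑ : H → ℂ) (hϑ : IsIrrCharacter H ϑ)
  (hϑL : IsIrrCharacter L (fun x : L => ϑ ⟨x, hLH x.2⟩))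

include hϑ hϑL in
theorem irr_res {X : Subgroup G} (hXH : X ≤ H) (hLX : L ≤ X) :
    IsIrrCharacter X (fun x : X => ϑ ⟨x, hXH x.2⟩) := by
  classical
  haveI : Fintype X := Fintype.ofFinite X
  haveI : Fintype L := Fintype.ofFinite L
  exact Cfsg.Agent.Lib.Helper8.RelGlau.isIrrCharacter_of_comp (Subgroup.inclusion hLX)
    (IsCharacter.comp (Subgroup.inclusion hXH) (IsIrrCharacter.isCharacter hϑ)) hϑL

include hϑ hϑL in
theorem irr_resSub {N : Subgroup G} (hLN : L ≤ N) :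
    IsIrrCharacter (H.subgroupOf N) (resSub H N ϑ) := by
  classical
  haveI : Fintype (H.subgroupOf N) := Fintype.ofFinite _
  haveI : Fintype L := Fintype.ofFinite L
  let g : H.subgroupOf N →* H :=
    (N.subtype.comp (H.subgroupOf N).subtype).codRestrict H
      (fun y => Subgroup.mem_subgroupOf.1 y.2)
  let f : L →* H.subgroupOf N :=
    (Subgroup.inclusion hLN).codRestrict (H.subgroupOf N)
      (fun l => Subgroup.mem_subgroupOf.2 (hLH l.2))
  have hchar : IsCharacter (H.subgroupOf N) (resSub H N ϑ) :=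
    IsCharacter.comp g (IsIrrCharacter.isCharacter hϑ)
  exact Cfsg.Agent.Lib.Helper8.RelGlau.isIrrCharacter_of_comp f hchar hϑL

include hϑ hϑL in
theorem sq_eq_index (K M : Subgroup G) (hKH : K ≤ H) (hKM : K ≤ M) (hinf : H ⊓ M ≤ K)
    (hLK : L ≤ K) (hprod : ∀ g : G, ∃ x ∈ M, ∃ h ∈ H, g = x * h)
    (φ' : K → ℂ) (f : ℕ) (hφ' : IsIrrCharacter K φ')
    (hKhom : (fun k : K => indFun H ϑ k) = (f : ℂ) • φ')
    (ψ : M → ℂ) (e : ℕ) (hψ : IsIrrCharacter M ψ)
    (hMhom : (fun m : M => indFun H ϑ m) = (e : ℂ) • ψ) :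
    e * e = H.index ∧ ψ 1 = e * ϑ 1 := by
  classical
  haveI : Fintype H := Fintype.ofFinite H
  haveI : Fintype K := Fintype.ofFinite K
  haveI : Fintype M := Fintype.ofFinite M
  haveI : Fintype (H.subgroupOf M) := Fintype.ofFinite _
  have hϑ1 : ϑ 1 ≠ 0 := IsIrrCharacter.apply_one_ne_zero hϑ
  have hχ1 : indFun H ϑ 1 = (H.index : ℂ) * ϑ 1 := indFun_one H ϑ
  have hidx : (H.index : ℂ) ≠ 0 := by
    have : H.index ≠ 0 := Subgroup.index_ne_zero_of_finite
    exact_mod_cast this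
  have hχ1ne : indFun H ϑ 1 ≠ 0 := by rw [hχ1]; exact mul_ne_zero hidx hϑ1
  have heψ : indFun H ϑ 1 = e * ψ 1 := by
    have := congrFun hMhom 1
    simpa using this
  have he0 : (e : ℂ) ≠ 0 := by
    intro h
    rw [h, zero_mul] at heψ
    exact hχ1ne heψ
  have hmack : indFun (H.subgroupOf M) (resSub H M ϑ) = (e : ℂ) • ψ := by
    funext m
    rw [← mackey_prod H M hprod ϑ (IsIrrCharacter.isClassFunction hϑ) m]
    exact congrFun hMhom m
  have hfrob := Cfsg.Agent.S0146.result (H.subgroupOf M) (resSub H M ϑ) ψ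
    (IsIrrCharacter.isClassFunction hψ)
  rw [hmack, classInner_smul_left, classInner_isIrrCharacter hψ hψ, if_pos rfl, mul_one] at hfrob
  let α : K ≃* H.subgroupOf M :=
    { toFun := fun k => ⟨⟨k, hKM k.2⟩, Subgroup.mem_subgroupOf.2 (hKH k.2)⟩
      invFun := fun y => ⟨y.1.1, hinf ⟨Subgroup.mem_subgroupOf.1 y.2, y.1.2⟩⟩
      left_inv := fun k => rfl
      right_inv := fun y => rfl
      map_mul' := fun a b => rfl }
  have htr := classInner_comp_mulEquiv α (resSub H M ϑ) (fun h : H.subgroupOf M => ψ h)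
  have h1 : (fun k : K => resSub H M ϑ (α k)) = fun k : K => ϑ ⟨k, hKH k.2⟩ := rfl
  have h2 : (fun k : K => ψ ((α k : H.subgroupOf M) : M)) = ((f : ℂ) / (e : ℂ)) • φ' := by
    funext k
    have a := congrFun hMhom ⟨k, hKM k.2⟩
    have b := congrFun hKhom k
    simp only [Pi.smul_apply, smul_eq_mul] at a b ⊢
    have hk : ψ ((α k : H.subgroupOf M) : M) = ψ ⟨k, hKM k.2⟩ := rfl
    rw [hk]
    have : (e : ℂ) * ψ ⟨k, hKM k.2⟩ = (f : ℂ) * φ' k := by rw [← a, ← b]
    field_simp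
    linear_combination this
  have hφirr : IsIrrCharacter K (fun k : K => ϑ ⟨k, hKH k.2⟩) := irr_res H L hLH ϑ hϑ hϑL hKH hLK
  rw [← htr, h1, h2, classInner_smul_right, classInner_isIrrCharacter hφirr hφ'] at hfrob
  have hconj : conj ((f : ℂ) / (e : ℂ)) = (f : ℂ) / (e : ℂ) := by
    rw [map_div₀, Complex.conj_natCast, Complex.conj_natCast]
  rw [hconj] at hfrob
  by_cases heq : (fun k : K => ϑ ⟨k, hKH k.2⟩) = φ'
  · rw [if_pos heq, mul_one] at hfrob
    have hef : (e : ℂ) * e = f := by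
      field_simp at hfrob
      linear_combination hfrob
    have hf : (f : ℂ) = H.index := by
      have b := congrFun hKhom 1
      simp only [Pi.smul_apply, smul_eq_mul] at b
      have hφ1 : φ' 1 = ϑ 1 := by rw [← heq]; rfl
      have b' : indFun H ϑ 1 = (f : ℂ) * ϑ 1 := by rw [← hφ1]; simpa using b
      rw [hχ1] at b'
      exact (mul_right_cancel₀ hϑ1 b').symm
    constructor
    · have : ((e * e : ℕ) : ℂ) = (H.index : ℂ) := by push_cast; rw [hef, hf]
      exact_mod_cast this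
    · have h3 : (e : ℂ) * ψ 1 = (e : ℂ) * (e * ϑ 1) := by
        rw [← heψ, hχ1, ← hf, ← hef]; ring
      exact mul_left_cancel₀ he0 h3
  · rw [if_neg heq, mul_zero] at hfrob
    exact absurd hfrob he0

include hϑ hϑL in
theorem inf_le_normalCore (hL : L.Normal) (N : Subgroup G) (hN : N.Normal) (hLN : L ≤ N)
    (hprod : ∀ g : G, ∃ x ∈ N, ∃ h ∈ H, g = x * h)
    (ψ' : N → ℂ) (e : ℕ) (hψ' : IsIrrCharacter N ψ')
    (hNhom : (fun n : N => indFun H ϑ n) = (e : ℂ) • ψ')
    (he : e * e = H.index) : N ⊓ H ≤ H.normalCore := by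
  classical
  haveI : Fintype H := Fintype.ofFinite H
  haveI : Fintype N := Fintype.ofFinite N
  haveI : Fintype (H.subgroupOf N) := Fintype.ofFinite _
  have hidx : H.index ≠ 0 := Subgroup.index_ne_zero_of_finite
  have he0 : e ≠ 0 := by
    intro h
    rw [h] at he
    exact hidx he.symm
  have he0' : (e : ℂ) ≠ 0 := by exact_mod_cast he0
  have hmack : indFun (H.subgroupOf N) (resSub H N ϑ) = (e : ℂ) • ψ' := by
    funext m
    rw [← mackey_prod H N hprod ϑ (IsIrrCharacter.isClassFunction hϑ) m]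
    exact congrFun hNhom m
  have hfrob := Cfsg.Agent.S0146.result (H.subgroupOf N) (resSub H N ϑ) ψ'
    (IsIrrCharacter.isClassFunction hψ')
  rw [hmack, classInner_smul_left, classInner_isIrrCharacter hψ' hψ', if_pos rfl, mul_one]
    at hfrob
  -- cardinalities
  have hcard : Fintype.card N = e * e * Fintype.card (H.subgroupOf N) := by
    choose σ0 hσ0 τ0 hτ0 hστ0 using hprod
    have hE := Fintype.card_congr (prodEquiv H N (fun g => ⟨σ0 g, hσ0 g⟩)
      (fun g => ⟨τ0 g, hτ0 g⟩) hστ0)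
    rw [Fintype.card_prod, Fintype.card_prod] at hE
    have h1 : Fintype.card G = H.index * Fintype.card H := by
      rw [← Nat.card_eq_fintype_card, ← Nat.card_eq_fintype_card, mul_comm]
      exact (Subgroup.card_mul_index H).symm
    rw [h1, ← he] at hE
    have hH0 : 0 < Fintype.card H := Fintype.card_pos
    nlinarith [hE]
  obtain ⟨hval, hvan⟩ := norm_lemma (H.subgroupOf N) ψ' hψ' (resSub H N ϑ)
    (irr_resSub H L hLH ϑ hϑ hϑL hLN) e hfrob.symm hcard
  -- values of χ on N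
  have hχvan : ∀ x : G, x ∈ N → x ∉ H → indFun H ϑ x = 0 := by
    intro x hxN hxH
    have a := congrFun hNhom ⟨x, hxN⟩
    simp only [Pi.smul_apply, smul_eq_mul] at a
    have b := hvan ⟨x, hxN⟩ (by rw [Subgroup.mem_subgroupOf]; exact hxH)
    rw [b, mul_zero] at a
    exact a
  have hχval : ∀ x : G, x ∈ N → ∀ hxH : x ∈ H, indFun H ϑ x = e * e * ϑ ⟨x, hxH⟩ := by
    intro x hxN hxH
    have a := congrFun hNhom ⟨x, hxN⟩
    simp only [Pi.smul_apply, smul_eq_mul] at a
    have b := hval ⟨⟨x, hxN⟩, by rw [Subgroup.mem_subgroupOf]; exact hxH⟩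
    have b' : ψ' ⟨x, hxN⟩ = e * ϑ ⟨x, hxH⟩ := b
    rw [b'] at a
    rw [a]; ring
  have hcf := indFun_isClassFunction H ϑ
  -- the main claim
  intro x hx
  have hxN : x ∈ N := hx.1
  have hxH : x ∈ H := hx.2
  intro g
  by_contra hgx
  -- the subgroup W
  let Hg : Subgroup G := H.map (MulAut.conj g⁻¹).toMonoidHom
  have hHg : ∀ y : G, y ∈ Hg ↔ g * y * g⁻¹ ∈ H := by
    intro y
    show y ∈ H.map (MulAut.conj g⁻¹).toMonoidHom ↔ _
    rw [Subgroup.mem_map_equiv]
    simp [MulAut.conj_symm_apply]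
  have hQH : N ⊓ H ≤ H := inf_le_right
  have hWH : N ⊓ H ⊓ Hg ≤ H := inf_le_left.trans inf_le_right
  have hLQ : L ≤ N ⊓ H := le_inf hLN hLH
  have hLW : L ≤ N ⊓ H ⊓ Hg := by
    refine le_inf hLQ ?_
    intro l hl
    rw [hHg]
    exact hLH (hL.conj_mem l hl g)
  have hirrQ := irr_res H L hLH ϑ hϑ hϑL hQH hLQ
  have hirrW := irr_res H L hLH ϑ hϑ hϑL hWH hLW
  haveI : Fintype (N ⊓ H : Subgroup G) := Fintype.ofFinite _
  haveI : Fintype (N ⊓ H ⊓ Hg : Subgroup G) := Fintype.ofFinite _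
  have hsQ := sum_normSq_irr hirrQ
  have hsW := sum_normSq_irr hirrW
  -- vanishing of ϑ on Q \ W
  have hϑvan : ∀ y : G, y ∈ N → ∀ hyH : y ∈ H, y ∉ Hg → ϑ ⟨y, hyH⟩ = 0 := by
    intro y hyN hyH hyg
    rw [hHg] at hyg
    have h1 : indFun H ϑ (g * y * g⁻¹) = 0 := hχvan _ (hN.conj_mem y hyN g) hyg
    rw [hcf y g] at h1
    rw [hχval y hyN hyH] at h1
    have : (e : ℂ) * e ≠ 0 := mul_ne_zero he0' he0'
    exact (mul_eq_zero.1 h1).resolve_left this
  let F : G → ℝ := fun y => if h : y ∈ H then Complex.normSq (ϑ ⟨y, h⟩) else 0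
  have hFQ : ∑ y : (N ⊓ H : Subgroup G), Complex.normSq (ϑ ⟨y, hQH y.2⟩)
      = ∑ y ∈ Finset.univ.filter (fun y : G => y ∈ N ⊓ H), F y := by
    rw [Finset.sum_subtype (p := fun y : G => y ∈ N ⊓ H)
      (Finset.univ.filter (fun y : G => y ∈ N ⊓ H)) (fun y => by simp) F]
    apply Finset.sum_congr rfl
    intro y _
    show _ = if h : (y : G) ∈ H then Complex.normSq (ϑ ⟨y, h⟩) else 0
    rw [dif_pos (hQH y.2)]
  have hFW : ∑ y : (N ⊓ H ⊓ Hg : Subgroup G), Complex.normSq (ϑ ⟨y, hWH y.2⟩)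
      = ∑ y ∈ Finset.univ.filter (fun y : G => y ∈ N ⊓ H ⊓ Hg), F y := by
    rw [Finset.sum_subtype (p := fun y : G => y ∈ N ⊓ H ⊓ Hg)
      (Finset.univ.filter (fun y : G => y ∈ N ⊓ H ⊓ Hg)) (fun y => by simp) F]
    apply Finset.sum_congr rfl
    intro y _
    show _ = if h : (y : G) ∈ H then Complex.normSq (ϑ ⟨y, h⟩) else 0
    rw [dif_pos (hWH y.2)]
  have hFeq : ∑ y ∈ Finset.univ.filter (fun y : G => y ∈ N ⊓ H ⊓ Hg), F y
      = ∑ y ∈ Finset.univ.filter (fun y : G => y ∈ N ⊓ H), F y := by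
    apply Finset.sum_subset
    · intro y hy
      simp only [Finset.mem_filter, Finset.mem_univ, true_and] at hy ⊢
      exact hy.1
    · intro y hy hy'
      simp only [Finset.mem_filter, Finset.mem_univ, true_and] at hy hy'
      have hyg : y ∉ Hg := fun h => hy' ⟨hy, h⟩
      have hyH : y ∈ H := hy.2
      have hyN : y ∈ N := hy.1
      show (if h : y ∈ H then Complex.normSq (ϑ ⟨y, h⟩) else 0) = 0
      rw [dif_pos hyH, hϑvan y hyN hyH hyg, map_zero]
  have hcardeq : Fintype.card (N ⊓ H ⊓ Hg : Subgroup G) = Fintype.card (N ⊓ H : Subgroup G) := by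
    have : (Fintype.card (N ⊓ H ⊓ Hg : Subgroup G) : ℝ) = Fintype.card (N ⊓ H : Subgroup G) := by
      rw [← hsQ, ← hsW, hFQ, hFW, hFeq]
    exact_mod_cast this
  have hWQ : N ⊓ H ⊓ Hg = N ⊓ H := by
    apply Subgroup.eq_of_le_of_card_ge inf_le_left
    rw [Nat.card_eq_fintype_card, Nat.card_eq_fintype_card, hcardeq]
  have : x ∈ Hg := by
    have : x ∈ N ⊓ H ⊓ Hg := by rw [hWQ]; exact hx
    exact this.2
  rw [hHg] at this
  exact hgx this

end setting

/-- the multiplicities agree when the index is coprime -/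
theorem mult_eq (χ : G → ℂ) (hχ1 : χ 1 ≠ 0) (M N : Subgroup G) [hM : M.Normal] (hMN : M ≤ N)
    (ψ : M → ℂ) (e : ℕ) (hψ : IsIrrCharacter M ψ) (hMhom : (fun m : M => χ m) = (e : ℂ) • ψ)
    (ψ' : N → ℂ) (e' : ℕ) (hψ' : IsIrrCharacter N ψ')
    (hNhom : (fun n : N => χ n) = (e' : ℂ) • ψ')
    (hcop : Nat.Coprime (M.relIndex N) (e * e)) : e' = e := by
  classical
  haveI : Fintype N := Fintype.ofFinite N
  haveI : Fintype M := Fintype.ofFinite M
  haveI : Fintype (M.subgroupOf N) := Fintype.ofFinite _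
  have h1 : χ 1 = e * ψ 1 := by
    have := congrFun hMhom 1
    simpa using this
  have h1' : χ 1 = e' * ψ' 1 := by
    have := congrFun hNhom 1
    simpa using this
  have he0 : (e : ℂ) ≠ 0 := by
    intro h; rw [h, zero_mul] at h1; exact hχ1 h1
  have he0' : (e' : ℂ) ≠ 0 := by
    intro h; rw [h, zero_mul] at h1'; exact hχ1 h1'
  let α : M.subgroupOf N ≃* M := Subgroup.subgroupOfEquivOfLe hMN
  have hϑ' : IsIrrCharacter (M.subgroupOf N) (fun y => ψ (α y)) :=
    IsIrrCharacter.comp_mulEquiv α hψ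
  have hrel : (fun y : M.subgroupOf N => ψ' y) = ((e : ℂ) / (e' : ℂ)) • (fun y => ψ (α y)) := by
    funext y
    have a := congrFun hMhom (α y)
    have b := congrFun hNhom (y : N)
    simp only [Pi.smul_apply, smul_eq_mul] at a b ⊢
    have hy : ((α y : M) : G) = ((y : N) : G) := rfl
    rw [hy] at a
    have : (e' : ℂ) * ψ' y = (e : ℂ) * ψ (α y) := by rw [← a, ← b]
    field_simp
    linear_combination this
  have hcon : classInner (fun y : M.subgroupOf N => ψ' y) (fun y => ψ (α y)) ≠ 0 := by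
    rw [hrel, classInner_smul_left, classInner_isIrrCharacter hϑ' hϑ', if_pos rfl, mul_one]
    exact div_ne_zero he0 he0'
  have hc := IsCharacter.apply_one_eq_charDegree (IsIrrCharacter.isCharacter hψ')
  have hd := IsCharacter.apply_one_eq_charDegree (IsIrrCharacter.isCharacter hψ)
  have hd' : (fun y : M.subgroupOf N => ψ (α y)) 1 = (charDegree ψ : ℂ) := by
    show ψ (α 1) = _
    rw [map_one]; exact hd
  obtain ⟨hdvd, hdvd2⟩ := Cfsg.Agent.S0887.result (M.subgroupOf N) ψ' hψ' _ hϑ' hcon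
    (charDegree ψ') (charDegree ψ) hc hd'
  have hd0 : charDegree ψ ≠ 0 := (IsIrrCharacter.charDegree_pos hψ).ne'
  obtain ⟨t, ht⟩ := hdvd
  have htdiv : charDegree ψ' / charDegree ψ = t := by
    rw [ht]; exact Nat.mul_div_cancel_left t (Nat.pos_of_ne_zero hd0)
  rw [htdiv] at hdvd2
  have hnat : e' * charDegree ψ' = e * charDegree ψ := by
    have : ((e' * charDegree ψ' : ℕ) : ℂ) = ((e * charDegree ψ : ℕ) : ℂ) := by
      push_cast
      rw [← hc, ← hd, ← h1, ← h1']
    exact_mod_cast this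
  rw [ht] at hnat
  have het : e' * t = e := by
    have : charDegree ψ * (e' * t) = charDegree ψ * e := by
      rw [mul_comm (charDegree ψ) e, ← hnat]; ring
    exact Nat.eq_of_mul_eq_mul_left (Nat.pos_of_ne_zero hd0) this
  have ht1 : t = 1 := by
    have hte : t ∣ e * e := Dvd.dvd.mul_right ⟨e', by rw [← het]; ring⟩ e
    have : t ∣ Nat.gcd (M.relIndex N) (e * e) := Nat.dvd_gcd hdvd2 hte
    rw [hcop] at this
    exact Nat.dvd_one.1 this
  rw [ht1, mul_one] at het
  exact het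

end Cfsg.Agent.Lib.Helper3.IndMax
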