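import Mathlib
import Cfsg.Agent.Lib.Helper7.PCore
import Cfsg.Agent.Lib.Helper1.ThreeSolvable
import Cfsg.Agent.S0587

/-!
# Maximal subgroups of groups with solvable quotient: the group theory
-/

set_option autoImplicit false

namespace Cfsg.Agent.Lib.Helper3.IndMax

open Cfsg

universe u

/-- the core-free case -/
theorem gt_corefree {X : Type u} [Group X] [Finite X] [Group.IsSolvable X] (U : Subgroup X)
    (hU : IsCoatom U) (hcore : U.normalCore = ⊥) :
    ∃ V : Subgroup X, V.Normal ∧ V ⊓ U = ⊥ ∧ (∀ g : X, ∃ v ∈ V, ∃ u ∈ U, g = v * u) ∧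
      (U.index.Prime ∨ ∃ N : Subgroup X, N.Normal ∧ V ≤ N ∧ V ≠ N ∧
        Nat.Coprime (V.relIndex N) U.index) := by
  classical
  have : Nontrivial X := by
    by_contra hnt
    rw [not_nontrivial_iff_subsingleton] at hnt
    exact hU.1 (Subsingleton.elim _ _)
  obtain ⟨p, hp, hpc⟩ := Cfsg.Agent.Lib.Helper1.exists_pCore_ne_bot_of_solvable X
  have : Fact p.Prime := ⟨hp⟩
  obtain ⟨-, hcompl, -, -, hq⟩ := Cfsg.Agent.S0587.result p hpc U hU hcore
  set V := pCore p X with hV
  have hVn : V.Normal := Cfsg.Agent.Lib.Helper7.pCore_normal p X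
  have hVp : IsPGroup p V := Cfsg.Agent.Lib.Helper7.pCore_isPGroup p X
  have hdisj : V ⊓ U = ⊥ := hcompl.disjoint.eq_bot
  have hidx : U.index = Nat.card V := hcompl.index_eq_card
  have hprod : ∀ g : X, ∃ v ∈ V, ∃ u ∈ U, g = v * u := by
    intro g
    obtain ⟨⟨v, u⟩, hvu, -⟩ := (Subgroup.isComplement'_def.1 hcompl).existsUnique g
    exact ⟨v.1, v.2, u.1, u.2, hvu.symm⟩
  refine ⟨V, hVn, hdisj, hprod, ?_⟩
  obtain ⟨k, hk⟩ := hVp.exists_card_eq
  by_cases hUbot : U = ⊥
  · left
    rw [hUbot, Subgroup.index_bot]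
    -- every subgroup is trivial or everything
    have hsimple : ∀ Y : Subgroup X, Y ≠ ⊥ → Y = ⊤ := by
      intro Y hY
      rw [hUbot] at hU
      exact hU.2 Y (bot_lt_iff_ne_bot.2 hY)
    have hcard1 : 1 < Nat.card X := Finite.one_lt_card
    obtain ⟨r, hr, hrdvd⟩ := Nat.exists_prime_and_dvd (by omega : Nat.card X ≠ 1)
    have : Fact r.Prime := ⟨hr⟩
    obtain ⟨x, hx⟩ := exists_prime_orderOf_dvd_card' r hrdvd
    have hx1 : x ≠ 1 := by
      intro h
      rw [h, orderOf_one] at hx
      exact hr.one_lt.ne hx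
    have hz : Subgroup.zpowers x = ⊤ := by
      apply hsimple
      intro h
      apply hx1
      have : x ∈ Subgroup.zpowers x := Subgroup.mem_zpowers x
      rw [h] at this
      exact Subgroup.mem_bot.1 this
    have : Nat.card X = r := by
      rw [← hx, ← Nat.card_zpowers, hz, Subgroup.card_top]
    rw [this]
    exact hr
  · right
    have : Nontrivial U := by
      rw [Subgroup.nontrivial_iff_ne_bot]
      exact hUbot
    have : Group.IsSolvable U := inferInstance
    obtain ⟨q, hqp, hqc⟩ := Cfsg.Agent.Lib.Helper1.exists_pCore_ne_bot_of_solvable U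
    have : Fact q.Prime := ⟨hqp⟩
    obtain ⟨-, hqne⟩ := hq q hqc
    set R : Subgroup X := (pCore q U).map U.subtype with hR
    have hRU : R ≤ U := by
      rintro _ ⟨r, -, rfl⟩
      exact r.2
    have hRq : IsPGroup q R := (Cfsg.Agent.Lib.Helper7.pCore_isPGroup q U).map U.subtype
    have hRne : R ≠ ⊥ := by
      intro h
      apply hqc
      rw [eq_bot_iff]
      intro r hr
      have : (r : X) ∈ R := ⟨r, hr, rfl⟩
      rw [h, Subgroup.mem_bot] at this
      rw [Subgroup.mem_bot]
      exact Subtype.ext this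
    have hRnorm : ∀ u ∈ U, ∀ r ∈ R, u * r * u⁻¹ ∈ R := by
      rintro u hu _ ⟨r, hr, rfl⟩
      have hn : (pCore q U).Normal := Cfsg.Agent.Lib.Helper7.pCore_normal q U
      exact ⟨⟨u, hu⟩ * r * ⟨u, hu⟩⁻¹, hn.conj_mem r hr ⟨u, hu⟩, rfl⟩
    refine ⟨V ⊔ R, ?_, le_sup_left, ?_, ?_⟩
    · -- normality
      constructor
      intro n hn g
      obtain ⟨v, hv, u, hu, rfl⟩ := hprod g
      have h1 : u * n * u⁻¹ ∈ V ⊔ R := by
        have hmap : (V ⊔ R).map (MulAut.conj u).toMonoidHom ≤ V ⊔ R := by
          rw [Subgroup.map_sup]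
          apply sup_le_sup
          · rintro _ ⟨w, hw, rfl⟩
            exact hVn.conj_mem w hw u
          · rintro _ ⟨w, hw, rfl⟩
            exact hRnorm u hu w hw
        exact hmap ⟨n, hn, rfl⟩
      have hvS : v ∈ V ⊔ R := Subgroup.mem_sup_left hv
      have : v * u * n * (v * u)⁻¹ = v * (u * n * u⁻¹) * v⁻¹ := by group
      rw [this]
      exact (V ⊔ R).mul_mem ((V ⊔ R).mul_mem hvS h1) ((V ⊔ R).inv_mem hvS)
    · intro h
      apply hRne
      have : R ≤ V ⊓ U := le_inf (by rw [h]; exact le_sup_right) hRU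
      rw [hdisj] at this
      exact eq_bot_iff.2 this
    · have := hVn
      rw [Subgroup.relIndex_sup_left, hidx, hk]
      have h1 : V.relIndex R ∣ Nat.card R := Subgroup.relIndex_dvd_card V R
      obtain ⟨j, hj⟩ := hRq.exists_card_eq
      rw [hj] at h1
      obtain ⟨i, -, hi⟩ := (Nat.dvd_prime_pow hqp).1 h1
      rw [hi]
      apply Nat.Coprime.pow
      rw [Nat.coprime_primes hqp hp]
      exact hqne

/-- the general case: pull back from the quotient by the core -/
theorem gt_main {G : Type u} [Group G] [Finite G] (L H : Subgroup G) [hL : L.Normal] (hLH : L ≤ H)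
    (hmax : IsCoatom H) (hsolv : Group.IsSolvable (G ⧸ L)) :
    ∃ M : Subgroup G, M.Normal ∧ H.normalCore ≤ M ∧ H ⊓ M ≤ H.normalCore ∧
      (∀ g : G, ∃ m ∈ M, ∃ h ∈ H, g = m * h) ∧
      (H.index.Prime ∨ ∃ N : Subgroup G, N.Normal ∧ M ≤ N ∧ M ≠ N ∧
        Nat.Coprime (M.relIndex N) H.index) := by
  classical
  set K := H.normalCore with hK
  have hKn : K.Normal := Subgroup.normalCore_normal H
  have hKH : K ≤ H := Subgroup.normalCore_le H
  have hLK : L ≤ K := Subgroup.normal_le_normalCore.2 hLH
  let π : G →* G ⧸ K := QuotientGroup.mk' K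
  have hπs : Function.Surjective π := QuotientGroup.mk'_surjective K
  have hker : π.ker = K := QuotientGroup.ker_mk' K
  -- solvability of the quotient
  have : Group.IsSolvable (G ⧸ K) := by
    have hsurj : Function.Surjective (QuotientGroup.map L K (MonoidHom.id G) hLK) := by
      intro x
      obtain ⟨g, rfl⟩ := QuotientGroup.mk_surjective x
      exact ⟨QuotientGroup.mk g, rfl⟩
    exact Group.isSolvable_of_surjective hsurj
  set U := H.map π with hUdef
  have hcomap : U.comap π = H := by
    rw [hUdef, Subgroup.comap_map_eq, hker, sup_eq_left.2 hKH]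
  have hUco : IsCoatom U := by
    constructor
    · intro h
      apply hmax.1
      rw [← hcomap, h, Subgroup.comap_top]
    · intro Y hY
      have h1 : H < Y.comap π := by
        rw [← hcomap]
        refine lt_of_le_of_ne (Subgroup.comap_mono hY.le) ?_
        intro h
        have := congrArg (Subgroup.map π) h
        rw [Subgroup.map_comap_eq_self_of_surjective hπs,
          Subgroup.map_comap_eq_self_of_surjective hπs] at this
        exact hY.ne this
      have h2 := hmax.2 _ h1
      have := congrArg (Subgroup.map π) h2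
      rw [Subgroup.map_comap_eq_self_of_surjective hπs, Subgroup.map_top_of_surjective π hπs]
        at this
      exact this
  have hUcore : U.normalCore = ⊥ := by
    rw [eq_bot_iff]
    intro y hy
    obtain ⟨x, rfl⟩ := hπs y
    have hx : x ∈ K := by
      intro g
      have h1 : π g * π x * (π g)⁻¹ ∈ U := hy (π g)
      have h2 : π (g * x * g⁻¹) ∈ U := by rw [map_mul, map_mul, map_inv]; exact h1
      have h3 : g * x * g⁻¹ ∈ U.comap π := h2
      rw [hcomap] at h3
      exact h3
    rw [Subgroup.mem_bot]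
    have hx' : x ∈ π.ker := by rw [hker]; exact hx
    exact hx'
  obtain ⟨V, hVn, hdisj, hprodV, hcase⟩ := gt_corefree U hUco hUcore
  refine ⟨V.comap π, hVn.comap π, ?_, ?_, ?_, ?_⟩
  · have := Subgroup.ker_le_comap π V
    rwa [hker] at this
  · intro x hx
    have h1 : π x ∈ V ⊓ U := ⟨hx.2, ⟨x, hx.1, rfl⟩⟩
    rw [hdisj, Subgroup.mem_bot] at h1
    have : x ∈ π.ker := h1
    rw [hker] at this
    exact this
  · intro g
    obtain ⟨v, hv, u, hu, hg⟩ := hprodV (π g)
    obtain ⟨h, hh, rfl⟩ := hu
    refine ⟨g * h⁻¹, ?_, h, hh, by group⟩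
    show π (g * h⁻¹) ∈ V
    rw [map_mul, map_inv, hg]
    simpa using hv
  · have hidx : U.index = H.index := Subgroup.index_map_eq H hπs (by rw [hker]; exact hKH)
    rcases hcase with hpr | ⟨N, hNn, hVN, hne, hcop⟩
    · left
      rw [← hidx]
      exact hpr
    · right
      refine ⟨N.comap π, hNn.comap π, Subgroup.comap_mono hVN, ?_, ?_⟩
      · intro h
        apply hne
        have := congrArg (Subgroup.map π) h
        rw [Subgroup.map_comap_eq_self_of_surjective hπs,
          Subgroup.map_comap_eq_self_of_surjective hπs] at this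
        exact this
      · rw [Subgroup.relIndex_comap, Subgroup.map_comap_eq_self_of_surjective hπs, ← hidx]
        exact hcop

end Cfsg.Agent.Lib.Helper3.IndMax
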