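import Mathlib
import Cfsg.Prelude.Def_Characters
import Cfsg.Agent.Lib.Helper6.CliffordCorr
import Cfsg.Agent.S4448
import Cfsg.Agent.S4449

set_option autoImplicit false

namespace Cfsg.Agent.Lib.Helper3.InvOver

open Cfsg.Agent.Lib.Helper6

universe u

/-- if every element of a finite group is killed by `n`, coprime to `c`, then the order of the
group is coprime to `c`. -/
theorem card_coprime_of_forall_pow {H : Type*} [Group H] [Finite H] {n c : ℕ}
    (h : ∀ x : H, x ^ n = 1) (hc : n.Coprime c) : (Nat.card H).Coprime c := by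
  apply Nat.coprime_of_dvd
  intro p hp hpH hpc
  have : Fact p.Prime := ⟨hp⟩
  obtain ⟨x, hx⟩ := exists_prime_orderOf_dvd_card' p hpH
  have h1 : p ∣ n := by
    rw [← hx]
    exact orderOf_dvd_of_pow_eq_one (h x)
  have h2 : p ∣ Nat.gcd n c := Nat.dvd_gcd h1 hpc
  rw [hc] at h2
  exact hp.one_lt.ne' (Nat.dvd_one.mp h2)

/-- **The normal Hall case.** If `G ⊴ Q` has order coprime to its index, `N ≤ G` is normal in
`Q`, and `Q/G` or `G/N` is solvable, every `Q`-invariant irreducible character of `N` lies under a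
`Q`-invariant irreducible character of `G`. -/
theorem exists_invariant_over_of_hall {Q : Type u} [Group Q] [Finite Q] (G N : Subgroup Q)
    [hG : G.Normal] [hN : N.Normal] (hNG : N ≤ G) [Fintype N]
    (hcop : (Nat.card G).Coprime G.index)
    (hsolv : Group.IsSolvable (Q ⧸ G) ∨ Group.IsSolvable (G ⧸ N.subgroupOf G))
    (θ : N → ℂ) (hθ : Cfsg.IsIrrCharacter N θ)
    (hinv : ∀ (x : Q) (n : N), θ ⟨x * n * x⁻¹, hN.conj_mem (n : Q) n.2 x⟩ = θ n) :
    ∃ χ : G → ℂ, Cfsg.IsIrrCharacter G χ ∧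
      Cfsg.classInner (fun n : N => χ ⟨n, hNG n.2⟩) θ ≠ 0 ∧
      ∀ (x : Q) (g : G), χ ⟨x * g * x⁻¹, hG.conj_mem (g : Q) g.2 x⟩ = χ g := by
  classical
  have : Fintype Q := Fintype.ofFinite Q
  have : Fintype G := Fintype.ofFinite G
  obtain ⟨S, hS⟩ := Subgroup.exists_right_complement'_of_coprime hcop
  have hcardS : G.index = Nat.card S := hS.symm.index_eq_card
  have hnorm : ∀ s ∈ S, ∀ g ∈ G, s * g * s⁻¹ ∈ G := fun s _ g hg => hG.conj_mem g hg s
  have hNS : ∀ s ∈ S, ∀ n ∈ N, s * n * s⁻¹ ∈ N := fun s _ n hn => hN.conj_mem n hn s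
  have hinvS : ∀ s ∈ S, ∀ g g' : N, (g' : Q) = s * g * s⁻¹ → θ g' = θ g := by
    intro s _ g g' hg'
    rw [← hinv s g]
    congr 1
    exact Subtype.ext hg'
  -- the S-invariant character
  have key : ∃ χ : Cfsg.IrrCharacter G,
      Cfsg.classInner (fun n : N => (χ : G → ℂ) ⟨n, hNG n.2⟩) θ ≠ 0 ∧
      (∀ s ∈ S, ∀ g g' : G, (g' : Q) = s * g * s⁻¹ → (χ : G → ℂ) g' = (χ : G → ℂ) g) := by
    rcases hsolv with hsolv | hsolv
    · -- S is solvable
      have hSsolv : Group.IsSolvable S := by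
        let f : S →* Q ⧸ G := (QuotientGroup.mk' G).comp S.subtype
        have hf : Function.Injective f := by
          rw [injective_iff_map_eq_one]
          intro s hs
          have h1 : (s : Q) ∈ G := by
            have : QuotientGroup.mk' G (s : Q) = 1 := hs
            exact (QuotientGroup.eq_one_iff _).mp this
          have h2 : (s : Q) ∈ G ⊓ S := ⟨h1, s.2⟩
          rw [hS.disjoint.eq_bot, Subgroup.mem_bot] at h2
          exact Subtype.ext h2
        exact Group.isSolvable_of_isSolvable_injective hf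
      have hcop' : (Nat.card G).Coprime (Nat.card S) := by
        rw [← hcardS]; exact hcop
      exact Cfsg.Agent.S4449.result G S N hnorm hNG
        (fun g _ n hn => hN.conj_mem n hn g) hNS hcop' hSsolv ⟨θ, hθ⟩ hinvS
    · have hNn : (N.subgroupOf G).Normal := hN.subgroupOf G
      have hcop' : (N.relIndex G).Coprime (Nat.card S) := by
        rw [← hcardS]
        exact Nat.Coprime.coprime_dvd_left (Subgroup.index_dvd_card _) hcop
      exact Cfsg.Agent.S4448.result G S N hnorm hNG hNS hcop' hsolv ⟨θ, hθ⟩ hinvS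
  obtain ⟨χ, hχover, hχS⟩ := key
  refine ⟨χ, χ.2, hχover, ?_⟩
  intro x g
  obtain ⟨⟨⟨h, hh⟩, ⟨s, hs⟩⟩, hx⟩ := hS.2 x
  have hx' : x = h * s := hx.symm
  subst hx'
  have hcf := IsIrrCharacter.isClassFunction χ.2
  have h1 := hχS s hs g ⟨s * g * s⁻¹, hG.conj_mem g g.2 s⟩ rfl
  have h2 := hcf ⟨s * g * s⁻¹, hG.conj_mem g g.2 s⟩ ⟨h, hh⟩
  rw [← h1, ← h2]
  refine congrArg _ ?_
  apply Subtype.ext
  simp only [Subgroup.coe_mul, Subgroup.coe_inv, mul_inv_rev]
  group

end Cfsg.Agent.Lib.Helper3.InvOver
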