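import Mathlib
import Cfsg.Prelude.Def_Characters
import Cfsg.Agent.Lib.Helper3.LinExt

set_option autoImplicit false

namespace Cfsg.Agent.Lib.Helper3.InvOver

open Cfsg.Agent.Lib.Helper6

universe u

/-- **Invariant canonical extension of a linear character of coprime order.** -/
theorem exists_invariant_extension {Γ : Type u} [Group Γ] [Finite Γ] (G N : Subgroup Γ)
    [hG : G.Normal] [hN : N.Normal] (hNG : N ≤ G) (lam : N →* ℂˣ)
    (hinv : ∀ (x : Γ) (n : N), lam ⟨x * n * x⁻¹, hN.conj_mem (n : Γ) n.2 x⟩ = lam n)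
    (hcop : (N.relIndex G).Coprime (orderOf lam)) :
    ∃ μ : G →* ℂˣ, (∀ n : N, μ ⟨n, hNG n.2⟩ = lam n) ∧
      ∀ (x : Γ) (g : G), μ ⟨x * g * x⁻¹, hG.conj_mem (g : Γ) g.2 x⟩ = μ g := by
  classical
  have hN' : (N.subgroupOf G).Normal := hN.subgroupOf G
  let e : (N.subgroupOf G) ≃* N := Subgroup.subgroupOfEquivOfLe hNG
  have he : ∀ n' : N.subgroupOf G, ((e n' : N) : Γ) = ((n' : G) : Γ) := fun n' => rfl
  set f : (N.subgroupOf G) →* ℂˣ := lam.comp e.toMonoidHom with hf
  have hfapp : ∀ n', f n' = lam (e n') := fun n' => rfl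
  have hfo : orderOf f ∣ orderOf lam := by
    apply orderOf_dvd_of_pow_eq_one
    ext n'
    rw [MonoidHom.pow_apply, hfapp, ← MonoidHom.pow_apply, pow_orderOf_eq_one]
    rfl
  have hfinv : ∀ (g : G) (n : N.subgroupOf G),
      f ⟨g * n * g⁻¹, hN'.conj_mem (n : G) n.2 g⟩ = f n := by
    intro g n
    rw [hfapp, hfapp, ← hinv (g : Γ) (e n)]
    congr 1
  have hcop' : Nat.Coprime (N.subgroupOf G).index (orderOf f) :=
    Nat.Coprime.coprime_dvd_right hfo hcop
  obtain ⟨μ, hμext, hμord, hμuniq⟩ :=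
    Cfsg.Agent.Lib.Helper3.LinExt.exists_hom_extension (N.subgroupOf G) f hfinv hcop'
  refine ⟨μ, ?_, ?_⟩
  · intro n
    have h1 := hμext ⟨⟨n, hNG n.2⟩, by rw [Subgroup.mem_subgroupOf]; exact n.2⟩
    rw [hfapp] at h1
    have h2 : e ⟨⟨n, hNG n.2⟩, by rw [Subgroup.mem_subgroupOf]; exact n.2⟩ = n :=
      Subtype.ext rfl
    rw [h2] at h1
    exact h1
  · intro x g
    let cx : G →* G := (MulAut.conjNormal x : MulAut G).toMonoidHom
    have hcx : ∀ g : G, cx g = ⟨x * g * x⁻¹, hG.conj_mem (g : Γ) g.2 x⟩ := by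
      intro g
      apply Subtype.ext
      exact MulAut.conjNormal_apply x g
    set μ' : G →* ℂˣ := μ.comp cx with hμ'
    have hμ'app : ∀ g, μ' g = μ (cx g) := fun g => rfl
    have h1 : ∀ n : N.subgroupOf G, μ' n = f n := by
      intro n
      have hmem : cx (n : G) ∈ N.subgroupOf G := by
        rw [Subgroup.mem_subgroupOf, hcx]
        exact hN.conj_mem _ (Subgroup.mem_subgroupOf.mp n.2) x
      have h2 := hμext ⟨cx (n : G), hmem⟩
      rw [hμ'app]
      simp only at h2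
      rw [h2, hfapp, hfapp, ← hinv x (e n)]
      congr 1
    have h2 : orderOf μ' ∣ orderOf μ := by
      apply orderOf_dvd_of_pow_eq_one
      ext g
      rw [MonoidHom.pow_apply, hμ'app, ← MonoidHom.pow_apply, pow_orderOf_eq_one]
      rfl
    have h3 : Nat.Coprime (N.subgroupOf G).index (orderOf μ') := by
      apply Nat.Coprime.coprime_dvd_right h2
      rw [hμord]
      exact hcop'
    have h4 := hμuniq μ' h1 h3
    have h5 : μ' g = μ g := by rw [h4]
    rw [← h5, hμ'app, hcx]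

end Cfsg.Agent.Lib.Helper3.InvOver
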