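import Mathlib
import Cfsg.Prelude.Def_Characters
import Cfsg.Agent.Lib.Helper3.InvOver1
import Cfsg.Agent.Lib.Helper3.CharTriple2
import Cfsg.Agent.Lib.Helper6.Mult

set_option autoImplicit false

namespace Cfsg.Agent.Lib.Helper3.InvOver

open Cfsg.Agent.Lib.Helper6

universe u

/-- **Invariant character over an invariant linear character of order prime to `|Γ : G|`.** -/
theorem exists_invariant_over_of_coprime_order {Γ : Type u} [Group Γ] [Finite Γ]
    (G N : Subgroup Γ) [hG : G.Normal] [hN : N.Normal] (hNG : N ≤ G) (lam : N →* ℂˣ)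
    (hinv : ∀ (x : Γ) (n : N), lam ⟨x * n * x⁻¹, hN.conj_mem (n : Γ) n.2 x⟩ = lam n)
    (hcop : (G.index).Coprime (N.relIndex G)) (hcop2 : (G.index).Coprime (orderOf lam))
    (hsolv : Group.IsSolvable (Γ ⧸ G) ∨ Group.IsSolvable (G ⧸ N.subgroupOf G)) :
    ∃ β : G → ℂ, Cfsg.IsIrrCharacter G β ∧
      (∀ n : N, β ⟨n, hNG n.2⟩ = β 1 * ((lam n : ℂˣ) : ℂ)) ∧
      ∀ (x : Γ) (g : G), β ⟨x * g * x⁻¹, hG.conj_mem (g : Γ) g.2 x⟩ = β g := by
  classical
  set K : Subgroup Γ := lam.ker.map N.subtype with hK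
  have hmemK : ∀ y : Γ, y ∈ K ↔ ∃ h : y ∈ N, lam ⟨y, h⟩ = 1 := by
    intro y
    constructor
    · rintro ⟨n, hn, rfl⟩
      exact ⟨n.2, hn⟩
    · rintro ⟨h, h1⟩
      exact ⟨⟨y, h⟩, h1, rfl⟩
  have hKN : K ≤ N := fun y hy => ((hmemK y).mp hy).1
  have hKn : K.Normal := by
    constructor
    intro y hy x
    obtain ⟨h, h1⟩ := (hmemK y).mp hy
    rw [hmemK]
    refine ⟨hN.conj_mem y h x, ?_⟩
    rw [hinv x ⟨y, h⟩]
    exact h1
  set q : Γ →* Γ ⧸ K := QuotientGroup.mk' K with hqdef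
  have hq : Function.Surjective q := QuotientGroup.mk'_surjective K
  have hkerq : q.ker = K := QuotientGroup.ker_mk' K
  set Gb : Subgroup (Γ ⧸ K) := G.map q with hGbdef
  set Nb : Subgroup (Γ ⧸ K) := N.map q with hNbdef
  have hGb : Gb.Normal := hG.map q hq
  have hNb : Nb.Normal := hN.map q hq
  have hNGb : Nb ≤ Gb := Subgroup.map_mono hNG
  have hidx : Gb.index = G.index :=
    Subgroup.index_map_eq G hq (by rw [hkerq]; exact hKN.trans hNG)
  have hN' : (N.subgroupOf G).Normal := hN.subgroupOf G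
  have hpow : ∀ y : Gb, y ^ (N.relIndex G * orderOf lam) = 1 := by
    rintro ⟨_, g, hg, rfl⟩
    apply Subtype.ext
    rw [Subgroup.coe_pow, Subgroup.coe_one]
    change q g ^ (N.relIndex G * orderOf lam) = 1
    rw [← map_pow, ← MonoidHom.mem_ker, hkerq, hmemK]
    have h1 : (⟨g, hg⟩ : G) ^ (N.relIndex G) ∈ N.subgroupOf G :=
      Subgroup.pow_index_mem (N.subgroupOf G) ⟨g, hg⟩
    rw [Subgroup.mem_subgroupOf] at h1
    have h1' : g ^ (N.relIndex G) ∈ N := h1
    have h2 : g ^ (N.relIndex G * orderOf lam) ∈ N := by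
      rw [pow_mul]
      exact N.pow_mem h1' _
    refine ⟨h2, ?_⟩
    have h3 : (⟨g ^ (N.relIndex G * orderOf lam), h2⟩ : N)
        = (⟨g ^ (N.relIndex G), h1'⟩ : N) ^ (orderOf lam) := by
      apply Subtype.ext
      change g ^ (N.relIndex G * orderOf lam) = (g ^ (N.relIndex G)) ^ (orderOf lam)
      rw [pow_mul]
    rw [h3, map_pow, ← MonoidHom.pow_apply, pow_orderOf_eq_one]
    rfl
  have hcopb : (Nat.card Gb).Coprime Gb.index := by
    rw [hidx]
    exact card_coprime_of_forall_pow hpow (Nat.Coprime.mul_left hcop.symm hcop2.symm)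
  have hsolvb : Group.IsSolvable ((Γ ⧸ K) ⧸ Gb) ∨ Group.IsSolvable (Gb ⧸ Nb.subgroupOf Gb) := by
    rcases hsolv with h | h
    · left
      let E := QuotientGroup.quotientQuotientEquivQuotient K G (hKN.trans hNG)
      exact Group.isSolvable_of_isSolvable_injective (f := E.toMonoidHom) E.injective
    · right
      have hNb' : (Nb.subgroupOf Gb).Normal := hNb.subgroupOf Gb
      let φ : G →* Gb := q.subgroupMap G
      have hle : N.subgroupOf G ≤ (Nb.subgroupOf Gb).comap φ := by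
        intro g hg
        rw [Subgroup.mem_comap, Subgroup.mem_subgroupOf]
        exact ⟨g, Subgroup.mem_subgroupOf.mp hg, rfl⟩
      exact Group.isSolvable_of_surjective (f := QuotientGroup.map _ _ φ hle)
        (QuotientGroup.map_surjective_of_surjective _ _ φ
          ((QuotientGroup.mk_surjective).comp (q.subgroupMap_surjective G)) hle)
  -- the linear character of the image of N
  let φN : N →* Nb := q.subgroupMap N
  have hφN : Function.Surjective φN := q.subgroupMap_surjective N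
  have hφNcoe : ∀ n : N, ((φN n : Nb) : Γ ⧸ K) = q n := fun n => rfl
  have hkerle : φN.ker ≤ lam.ker := by
    intro n hn
    have h1 : q (n : Γ) = 1 := congrArg Subtype.val (MonoidHom.mem_ker.mp hn)
    have h2 : (n : Γ) ∈ K := by rw [← hkerq]; exact h1
    obtain ⟨h, h3⟩ := (hmemK _).mp h2
    exact h3
  let lamb : Nb →* ℂˣ := MonoidHom.liftOfSurjective φN hφN ⟨lam, hkerle⟩
  have hlamb : ∀ n : N, lamb (φN n) = lam n := fun n =>
    MonoidHom.liftOfRightInverse_comp_apply _ _ _ ⟨lam, hkerle⟩ n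
  set θb : Nb → ℂ := fun n => ((lamb n : ℂˣ) : ℂ) with hθbdef
  have hθb : Cfsg.IsIrrCharacter Nb θb := isIrrCharacter_of_hom lamb
  have hθinv : ∀ (y : Γ ⧸ K) (n : Nb),
      θb ⟨y * n * y⁻¹, hNb.conj_mem (n : Γ ⧸ K) n.2 y⟩ = θb n := by
    intro y n
    obtain ⟨x, rfl⟩ := hq y
    obtain ⟨n, rfl⟩ := hφN n
    have h1 : (⟨q x * (φN n : Γ ⧸ K) * (q x)⁻¹,
        hNb.conj_mem ((φN n : Nb) : Γ ⧸ K) (φN n).2 (q x)⟩ : Nb)
        = φN ⟨x * n * x⁻¹, hN.conj_mem (n : Γ) n.2 x⟩ := by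
      apply Subtype.ext
      change q x * q n * (q x)⁻¹ = q (x * n * x⁻¹)
      simp only [map_mul, map_inv]
    rw [h1]
    change ((lamb _ : ℂˣ) : ℂ) = ((lamb _ : ℂˣ) : ℂ)
    rw [hlamb, hlamb, hinv]
  have : Fintype Nb := Fintype.ofFinite Nb
  obtain ⟨χb, hχb, hover, hχinv⟩ :=
    exists_invariant_over_of_hall Gb Nb hNGb hcopb hsolvb θb hθb hθinv
  let φG : G →* Gb := q.subgroupMap G
  have hφG : Function.Surjective φG := q.subgroupMap_surjective G
  have hφGcoe : ∀ g : G, ((φG g : Gb) : Γ ⧸ K) = q g := fun g => rfl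
  have : Fintype Gb := Fintype.ofFinite Gb
  have : Fintype (Γ ⧸ K) := Fintype.ofFinite _
  have hres := restrict_eq_smul_of_invariant_of_le Nb hNb Gb hNGb hχb hθb
    (fun t _ => funext (fun n => hθinv t n)) hover
  set c := Cfsg.classInner (fun n : Nb => χb ⟨n, hNGb n.2⟩) θb with hc
  set β : G → ℂ := fun g => χb (φG g) with hβdef
  have hβN : ∀ n : N, β ⟨n, hNG n.2⟩ = c * ((lam n : ℂˣ) : ℂ) := by
    intro n
    have h1 := congrFun hres (φN n)
    simp only [Pi.smul_apply, smul_eq_mul] at h1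
    have h2 : φG ⟨n, hNG n.2⟩ = ⟨φN n, hNGb (φN n).2⟩ := Subtype.ext rfl
    change χb (φG ⟨n, hNG n.2⟩) = _
    rw [h2, h1]
    change c * ((lamb (φN n) : ℂˣ) : ℂ) = _
    rw [hlamb]
  have hβ1 : β 1 = c := by
    have h1 := hβN 1
    rw [map_one, Units.val_one, mul_one] at h1
    rw [← h1]
    congr 1
  refine ⟨β, Cfsg.Agent.Lib.Helper3.CharTriple.isIrrCharacter_comp_surjective φG hφG hχb, ?_, ?_⟩
  · intro n
    rw [hβ1]
    exact hβN n
  · intro x g
    change χb (φG _) = χb (φG g)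
    rw [← hχinv (q x) (φG g)]
    refine congrArg χb ?_
    apply Subtype.ext
    change q (x * g * x⁻¹) = q x * q g * (q x)⁻¹
    simp only [map_mul, map_inv]

end Cfsg.Agent.Lib.Helper3.InvOver
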