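import Mathlib
import Cfsg.Prelude.Def_Characters
import Cfsg.Agent.Lib.Helper3.InvOver2
import Cfsg.Agent.Lib.Helper3.InvOver3
import Cfsg.Agent.Lib.Helper3.DetChar

set_option autoImplicit false

namespace Cfsg.Agent.Lib.Helper3.InvOver

open Cfsg.Agent.Lib.Helper6

universe u

/-- split a positive integer according to two coprime moduli -/
theorem exists_coprime_split (c m : ℕ) (hcm : c.Coprime m) (o : ℕ) : 0 < o →
    ∃ o₁ o₂ : ℕ, o = o₁ * o₂ ∧ o₁.Coprime o₂ ∧ o₁.Coprime m ∧ o₂.Coprime c := by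
  induction o using Nat.recOnPosPrimePosCoprime with
  | prime_pow p n hp hn =>
    intro _
    by_cases hpm : p ∣ m
    · refine ⟨1, p ^ n, (one_mul _).symm, Nat.coprime_one_left _, Nat.coprime_one_left _, ?_⟩
      apply Nat.Coprime.pow_left
      rw [Nat.Prime.coprime_iff_not_dvd hp]
      intro hpc
      have h2 : p ∣ Nat.gcd c m := Nat.dvd_gcd hpc hpm
      rw [hcm] at h2
      exact hp.one_lt.ne' (Nat.dvd_one.mp h2)
    · refine ⟨p ^ n, 1, (mul_one _).symm, Nat.coprime_one_right _, ?_, Nat.coprime_one_left _⟩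
      apply Nat.Coprime.pow_left
      rw [Nat.Prime.coprime_iff_not_dvd hp]
      exact hpm
  | zero => intro h; exact absurd h (lt_irrefl 0)
  | one => intro _; exact ⟨1, 1, rfl, Nat.coprime_one_left _, Nat.coprime_one_left _,
      Nat.coprime_one_left _⟩
  | coprime a b ha hb hab iha ihb =>
    intro _
    obtain ⟨a₁, a₂, rfl, ha12, ha1, ha2⟩ := iha (by omega)
    obtain ⟨b₁, b₂, rfl, hb12, hb1, hb2⟩ := ihb (by omega)
    refine ⟨a₁ * b₁, a₂ * b₂, by ring, ?_, Nat.Coprime.mul_left ha1 hb1,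
      Nat.Coprime.mul_left ha2 hb2⟩
    have h1 : a₁.Coprime b₂ :=
      Nat.Coprime.coprime_dvd_left (Dvd.intro _ rfl)
        (Nat.Coprime.coprime_dvd_right (Dvd.intro_left _ rfl) hab)
    have h2 : b₁.Coprime a₂ :=
      Nat.Coprime.coprime_dvd_left (Dvd.intro _ rfl)
        (Nat.Coprime.coprime_dvd_right (Dvd.intro_left _ rfl) hab.symm)
    exact Nat.Coprime.mul_left (Nat.Coprime.mul_right ha12 h1) (Nat.Coprime.mul_right h2 hb12)

/-- **The linear case.** An invariant linear character of `N` lies under an invariant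
irreducible character of `G`, when `|Γ : G|` is coprime to `|G : N|` and `Γ/G` or `G/N` is
solvable. -/
theorem exists_invariant_over_linear {Γ : Type u} [Group Γ] [Finite Γ]
    (G N : Subgroup Γ) [hG : G.Normal] [hN : N.Normal] (hNG : N ≤ G) (lam : N →* ℂˣ)
    (hinv : ∀ (x : Γ) (n : N), lam ⟨x * n * x⁻¹, hN.conj_mem (n : Γ) n.2 x⟩ = lam n)
    (hcop : (G.index).Coprime (N.relIndex G))
    (hsolv : Group.IsSolvable (Γ ⧸ G) ∨ Group.IsSolvable (G ⧸ N.subgroupOf G)) :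
    ∃ β : G → ℂ, Cfsg.IsIrrCharacter G β ∧
      (∀ n : N, β ⟨n, hNG n.2⟩ = β 1 * ((lam n : ℂˣ) : ℂ)) ∧
      ∀ (x : Γ) (g : G), β ⟨x * g * x⁻¹, hG.conj_mem (g : Γ) g.2 x⟩ = β g := by
  classical
  have hfin : lam ^ (Nat.card N) = 1 := by
    ext n
    rw [MonoidHom.pow_apply, ← map_pow, pow_card_eq_one', map_one]
    rfl
  have ho : 0 < orderOf lam := by
    apply orderOf_pos_iff.mpr
    exact isOfFinOrder_iff_pow_eq_one.mpr ⟨Nat.card N, Nat.card_pos, hfin⟩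
  obtain ⟨o₁, o₂, ho12, hc12, hc1, hc2⟩ :=
    exists_coprime_split G.index (N.relIndex G) hcop (orderOf lam) ho
  have hbez : IsCoprime (o₁ : ℤ) (o₂ : ℤ) := Nat.isCoprime_iff_coprime.mpr hc12
  obtain ⟨u, v, huv⟩ := hbez
  set lam₁ : N →* ℂˣ := lam ^ (v * o₂) with hlam₁
  set lam₂ : N →* ℂˣ := lam ^ (u * o₁) with hlam₂
  have hpt : ∀ n : N, (lam n) ^ ((o₁ : ℤ) * o₂) = 1 := by
    intro n
    have h1 : ((o₁ : ℤ) * o₂) = ((orderOf lam : ℕ) : ℤ) := by rw [ho12]; push_cast; rfl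
    rw [h1, zpow_natCast, ← MonoidHom.pow_apply, pow_orderOf_eq_one]
    rfl
  have hmul : lam₁ * lam₂ = lam := by
    ext n
    rw [hlam₁, hlam₂, MonoidHom.mul_apply, MonoidHom.zpow_apply, MonoidHom.zpow_apply, ← zpow_add,
      add_comm, huv, zpow_one]
  have ho1 : orderOf lam₁ ∣ o₁ := by
    apply orderOf_dvd_of_pow_eq_one
    ext n
    rw [hlam₁, MonoidHom.pow_apply, MonoidHom.zpow_apply, ← zpow_natCast, ← zpow_mul]
    have : v * (o₂ : ℤ) * (o₁ : ℤ) = ((o₁ : ℤ) * o₂) * v := by ring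
    rw [this, zpow_mul, hpt, one_zpow]
    rfl
  have ho2 : orderOf lam₂ ∣ o₂ := by
    apply orderOf_dvd_of_pow_eq_one
    ext n
    rw [hlam₂, MonoidHom.pow_apply, MonoidHom.zpow_apply, ← zpow_natCast, ← zpow_mul]
    have : u * (o₁ : ℤ) * (o₂ : ℤ) = ((o₁ : ℤ) * o₂) * u := by ring
    rw [this, zpow_mul, hpt, one_zpow]
    rfl
  have hinvz : ∀ (z : ℤ) (x : Γ) (n : N),
      (lam ^ z) ⟨x * n * x⁻¹, hN.conj_mem (n : Γ) n.2 x⟩ = (lam ^ z) n := by
    intro z x n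
    rw [MonoidHom.zpow_apply, MonoidHom.zpow_apply, hinv]
  obtain ⟨μ, hμext, hμinv⟩ := exists_invariant_extension G N hNG lam₁ (hinvz _)
    (Nat.Coprime.coprime_dvd_right ho1 hc1.symm)
  obtain ⟨β₂, hβ₂, hβ₂N, hβ₂inv⟩ := exists_invariant_over_of_coprime_order G N hNG lam₂ (hinvz _)
    hcop (Nat.Coprime.coprime_dvd_right ho2 hc2.symm) hsolv
  refine ⟨fun g => ((μ g : ℂˣ) : ℂ) * β₂ g,
    Cfsg.Agent.Lib.Helper3.DetChar.isIrrCharacter_hom_mul μ hβ₂, ?_, ?_⟩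
  · intro n
    simp only
    rw [hμext, hβ₂N, map_one, Units.val_one, one_mul, ← hmul, MonoidHom.mul_apply, Units.val_mul]
    ring
  · intro x g
    simp only
    rw [hμinv, hβ₂inv]

end Cfsg.Agent.Lib.Helper3.InvOver
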