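import Mathlib
import Cfsg.Prelude.Def_Characters
import Cfsg.Agent.Lib.Helper3.InvOver4
import Cfsg.Agent.Lib.Helper3.CharTriple6

set_option autoImplicit false

namespace Cfsg.Agent.Lib.Helper3.InvOver

open Cfsg.Agent.Lib.Helper6 Cfsg.Agent.Lib.Helper3.CharTriple

universe u

theorem isSolvable_quotient_of_comap {A B : Type*} [Group A] [Group B] (f : A →* B)
    (L : Subgroup A) [L.Normal] (M : Subgroup B) [M.Normal] (h1 : L ≤ M.comap f)
    (h2 : M.comap f ≤ L) [Group.IsSolvable (B ⧸ M)] : Group.IsSolvable (A ⧸ L) := by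
  have hinj : Function.Injective (QuotientGroup.map L M f h1) := by
    rw [injective_iff_map_eq_one]
    intro x
    induction x using QuotientGroup.induction_on with
    | H a =>
      intro hx
      rw [QuotientGroup.map_mk] at hx
      have h3 : f a ∈ M := (QuotientGroup.eq_one_iff _).mp hx
      exact (QuotientGroup.eq_one_iff a).mpr (h2 h3)
  exact Group.isSolvable_of_isSolvable_injective hinj

/-- **Isaacs-type theorem on invariant constituents over coprime layers.** -/
theorem exists_invariant_over {Γ : Type u} [Group Γ] [Finite Γ]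
    (G N : Subgroup Γ) [hG : G.Normal] [hN : N.Normal] (hNG : N ≤ G)
    (hcop : (G.index).Coprime (N.relIndex G))
    (hsolv : Group.IsSolvable (Γ ⧸ G) ∨ Group.IsSolvable (G ⧸ N.subgroupOf G))
    (θ : N → ℂ) (hθ : Cfsg.IsIrrCharacter N θ)
    (hinv : ∀ (x : Γ) (n : N), θ ⟨x * n * x⁻¹, hN.conj_mem (n : Γ) n.2 x⟩ = θ n) :
    ∃ (χ : G → ℂ) (c : ℂ), Cfsg.IsIrrCharacter G χ ∧ c ≠ 0 ∧
      (∀ n : N, χ ⟨n, hNG n.2⟩ = c * θ n) ∧
      ∀ (x : Γ) (g : G), χ ⟨x * g * x⁻¹, hG.conj_mem (g : Γ) g.2 x⟩ = χ g := by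
  classical
  obtain ⟨d, ρ, hρirr, rfl⟩ := hθ
  have hπ : Function.Surjective (pr1 N ρ (Nat.card N)) :=
    pr1_surjective N ρ _ (character_conjNormal N ρ hinv)
  have hGh : (pre N ρ G).Normal := hG.comap _
  have hNh : (preN N ρ).Normal := hN.comap _
  have hle : preN N ρ ≤ pre N ρ G := Subgroup.comap_mono hNG
  have hlaminv : ∀ (γ : Gam N ρ (Nat.card N)) (a : preN N ρ),
      lamHom N ρ ⟨γ * a * γ⁻¹, hNh.conj_mem (a : Gam N ρ (Nat.card N)) a.2 γ⟩ = lamHom N ρ a := by
    intro γ a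
    apply Units.ext
    rw [lamHom_apply, lamHom_apply, zOf_conj]
  have hcop' : ((pre N ρ G).index).Coprime ((preN N ρ).relIndex (pre N ρ G)) := by
    rw [Subgroup.index_comap_of_surjective G hπ, Subgroup.relIndex_comap,
      Subgroup.map_comap_eq_self_of_surjective hπ]
    exact hcop
  have hsolv' : Group.IsSolvable (Gam N ρ (Nat.card N) ⧸ pre N ρ G) ∨
      Group.IsSolvable (pre N ρ G ⧸ (preN N ρ).subgroupOf (pre N ρ G)) := by
    rcases hsolv with h | h
    · left
      exact isSolvable_quotient_of_comap (pr1 N ρ (Nat.card N)) (pre N ρ G) G le_rfl le_rfl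
    · right
      have : (N.subgroupOf G).Normal := hN.subgroupOf G
      have : ((preN N ρ).subgroupOf (pre N ρ G)).Normal := hNh.subgroupOf _
      exact isSolvable_quotient_of_comap ((pr1 N ρ (Nat.card N)).subgroupComap G)
        ((preN N ρ).subgroupOf (pre N ρ G)) (N.subgroupOf G) (fun x hx => hx) (fun x hx => hx)
  obtain ⟨β, hβ, hβA, hβinv⟩ := exists_invariant_over_linear (pre N ρ G) (preN N ρ) hle
    (lamHom N ρ) hlaminv hcop' hsolv'
  obtain ⟨χ, hχ, hχN, hχinv⟩ := exists_invariant_over_of_lam N ρ hinv G hNG β hβ hβA hβinv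
  refine ⟨χ, β 1, hχ, ?_, hχN, hχinv⟩
  rw [IsCharacter.apply_one_eq_charDegree (IsIrrCharacter.isCharacter hβ)]
  have := IsIrrCharacter.charDegree_pos hβ
  exact_mod_cast this.ne'

end Cfsg.Agent.Lib.Helper3.InvOver
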