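import Mathlib

set_option autoImplicit false
open Pointwise

namespace Cfsg.Agent.Lib.Helper3

theorem mem_zpowers_conj_iff' {G : Type*} [Group G] (g x u : G) :
    u ∈ Subgroup.zpowers (g * x * g⁻¹) ↔ g⁻¹ * u * g ∈ Subgroup.zpowers x := by
  constructor
  · rintro ⟨k, rfl⟩
    refine ⟨k, ?_⟩
    simp only
    rw [conj_zpow]; group
  · rintro ⟨k, hk⟩
    refine ⟨k, ?_⟩
    simp only at hk ⊢
    rw [conj_zpow, hk]; group

/-- In a finite group, `g` normalizes `⟨x⟩` as soon as `g x g⁻¹ ∈ ⟨x⟩`. -/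
theorem mem_normalizer_zpowers_iff {G : Type*} [Group G] [Finite G] (g x : G) :
    g ∈ Subgroup.normalizer ((Subgroup.zpowers x : Subgroup G) : Set G) ↔
      g * x * g⁻¹ ∈ Subgroup.zpowers x := by
  constructor
  · intro hg
    exact (Subgroup.mem_normalizer_iff.1 hg x).1 (Subgroup.mem_zpowers x)
  · intro hg
    have hle : Subgroup.zpowers (g * x * g⁻¹) ≤ Subgroup.zpowers x := by
      rw [Subgroup.zpowers_le]; exact hg
    have hcard : Nat.card (Subgroup.zpowers x) ≤ Nat.card (Subgroup.zpowers (g * x * g⁻¹)) := by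
      rw [Nat.card_zpowers, Nat.card_zpowers]
      have := (MulAut.conj g).orderOf_eq x
      rw [MulAut.conj_apply] at this
      rw [this]
    have heq := Subgroup.eq_of_le_of_card_ge hle hcard
    rw [Subgroup.mem_normalizer_iff]
    intro h
    have : g⁻¹ * (g * h * g⁻¹) * g = h := by group
    conv_rhs => rw [← heq, mem_zpowers_conj_iff', this]

/-- If two coprime powers of `g` lie in a subgroup, so does `g`. -/
theorem mem_of_pow_mem_of_pow_mem_coprime {G : Type*} [Group G] (H : Subgroup G) (g : G)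
    (a b : ℕ) (hab : a.Coprime b) (ha : g ^ a ∈ H) (hb : g ^ b ∈ H) : g ∈ H := by
  have h1 : ((Nat.gcd a b : ℕ) : ℤ) = a * Nat.gcdA a b + b * Nat.gcdB a b := Nat.gcd_eq_gcd_ab a b
  rw [hab] at h1
  have h2 : g = (g ^ a) ^ (Nat.gcdA a b) * (g ^ b) ^ (Nat.gcdB a b) := by
    rw [← zpow_natCast g a, ← zpow_natCast g b, ← zpow_mul, ← zpow_mul, ← zpow_add, ← h1]
    simp
  rw [h2]
  exact H.mul_mem (H.zpow_mem ha _) (H.zpow_mem hb _)

/-- An element normalizing `⟨x⟩` whose order is coprime to `φ(|x|)` centralizes `x`. -/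
theorem commute_of_mem_normalizer_zpowers_of_coprime_totient {G : Type*} [Group G] [Finite G]
    (x u : G) (hu : u ∈ Subgroup.normalizer ((Subgroup.zpowers x : Subgroup G) : Set G))
    (hcop : (orderOf u).Coprime (Nat.totient (orderOf x))) : u * x = x * u := by
  set H := Subgroup.zpowers x with hH
  set a : MulAut H := H.normalizerMonoidHom ⟨u, hu⟩ with ha
  have h1 : orderOf a ∣ orderOf u := by
    have := orderOf_map_dvd H.normalizerMonoidHom (⟨u, hu⟩ : Subgroup.normalizer (H : Set G))
    rwa [Subgroup.orderOf_mk] at this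
  have h2 : orderOf a ∣ Nat.totient (orderOf x) := by
    have h3 : Nat.card (MulAut H) = Nat.totient (Nat.card H) := IsCyclic.card_mulAut H
    rw [hH, Nat.card_zpowers] at h3
    rw [← h3]
    exact orderOf_dvd_natCard a
  have h4 : orderOf a = 1 := Nat.eq_one_of_dvd_coprimes hcop h1 h2
  have h5 : a = 1 := orderOf_eq_one_iff.1 h4
  have h6 : (⟨u, hu⟩ : Subgroup.normalizer (H : Set G)) ∈ H.normalizerMonoidHom.ker := h5
  rw [Subgroup.normalizerMonoidHom_ker, Subgroup.mem_subgroupOf] at h6
  have h7 := Subgroup.mem_centralizer_iff.1 h6 x (Subgroup.mem_zpowers x)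
  exact h7.symm

/-- An odd-order element normalizing `⟨x⟩`, `x` a 2-element, centralizes `x`. -/
theorem commute_of_mem_normalizer_zpowers_of_odd {G : Type*} [Group G] [Finite G]
    (x u : G) (k : ℕ) (hx : orderOf x = 2 ^ k)
    (hu : u ∈ Subgroup.normalizer ((Subgroup.zpowers x : Subgroup G) : Set G))
    (hodd : Odd (orderOf u)) : u * x = x * u := by
  apply commute_of_mem_normalizer_zpowers_of_coprime_totient x u hu
  rw [hx]
  cases k with
  | zero => simp
  | succ k =>
    rw [Nat.totient_prime_pow Nat.prime_two (Nat.succ_pos k)]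
    simp only [Nat.reduceSub, mul_one]
    apply Nat.Coprime.pow_right
    exact Nat.coprime_two_right.2 hodd

end Cfsg.Agent.Lib.Helper3
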