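import Mathlib
import Cfsg.Prelude.Def_Characters
import Cfsg.Prelude.Def_Blocks
import Cfsg.Prelude.Def_Local
import Cfsg.Agent.Lib.Helper3.ConjCover
import Cfsg.Agent.Lib.Helper6.CliffordStab
import Cfsg.Agent.Lib.Helper6.Ito
import Cfsg.Agent.Lib.Helper6.SecondOrth
import Cfsg.Agent.Lib.Helper6.QuotChar
import Cfsg.Agent.Lib.Helper6.BlkCover3
import Cfsg.Agent.Lib.Helper1.PConstrainedOfPSolvable
import Cfsg.Agent.Lib.Helper1.PLengthOne
import Cfsg.Agent.Lib.Helper7.PCore
import Cfsg.Agent.S4218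
import Cfsg.Agent.S0187
import Cfsg.Agent.Lib.Helper6.CliffordDeg

set_option autoImplicit false

namespace Cfsg.Agent.Lib.Helper3.ItoConv

open Cfsg.Agent.Lib.Helper6 Cfsg.Agent.Lib.Helper3

universe u

/-- `|K : K ∩ T|` divides `|G : T|` when `K` is normal. -/
theorem relIndex_dvd_index_of_normal_right {G : Type*} [Group G] [Finite G] (T K : Subgroup G)
    [K.Normal] : T.relIndex K ∣ T.index := by
  have h1 : T.relIndex (T ⊔ K) = T.relIndex K := by
    have e1 : Nat.card ↥(T ⊔ K) = Nat.card T * T.relIndex (T ⊔ K) := by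
      rw [← Subgroup.relIndex_bot_left, ← Subgroup.relIndex_bot_left,
        Subgroup.relIndex_mul_relIndex _ _ _ bot_le le_sup_left]
    have e2 : Nat.card ↥(T ⊔ K) = Nat.card K * K.relIndex T := by
      rw [← Subgroup.relIndex_sup_right T K, ← Subgroup.relIndex_bot_left,
        ← Subgroup.relIndex_bot_left, Subgroup.relIndex_mul_relIndex _ _ _ bot_le le_sup_right]
    have e3 : Nat.card T = Nat.card ↥(T ⊓ K) * K.relIndex T := by
      rw [← Subgroup.inf_relIndex_left T K, ← Subgroup.relIndex_bot_left,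
        ← Subgroup.relIndex_bot_left, Subgroup.relIndex_mul_relIndex _ _ _ bot_le inf_le_left]
    have e4 : Nat.card K = Nat.card ↥(T ⊓ K) * T.relIndex K := by
      rw [← Subgroup.inf_relIndex_right T K, ← Subgroup.relIndex_bot_left,
        ← Subgroup.relIndex_bot_left, Subgroup.relIndex_mul_relIndex _ _ _ bot_le inf_le_right]
    have hpos : 0 < Nat.card ↥(T ⊓ K) * K.relIndex T := by
      rw [← e3]; exact Nat.card_pos
    have h5 := e1.symm.trans e2
    rw [e3, e4] at h5
    have : Nat.card ↥(T ⊓ K) * K.relIndex T * T.relIndex (T ⊔ K)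
        = Nat.card ↥(T ⊓ K) * K.relIndex T * T.relIndex K := by
      rw [h5]; ring
    exact Nat.eq_of_mul_eq_mul_left hpos this
  rw [← h1]
  exact Subgroup.relIndex_dvd_index_of_le le_sup_left

/-- Clifford: the index of the inertia group of a constituent divides the degree. -/
theorem inertia_index_dvd_charDegree {G : Type*} [Group G] [Fintype G] (N : Subgroup G)
    [Fintype N] (hN : N.Normal) (χ : Cfsg.IrrCharacter G) (θ : Cfsg.IrrCharacter N)
    (hc : Cfsg.classInner (fun n : N => (χ : G → ℂ) n) (θ : N → ℂ) ≠ 0) :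
    (inertia N hN (θ : N → ℂ)).index ∣ Cfsg.charDegree (χ : G → ℂ) := by
  classical
  set T := inertia N hN (θ : N → ℂ) with hT
  have : Fintype T := Fintype.ofFinite T
  have hNT : N ≤ T := le_inertia N hN (IsIrrCharacter.isClassFunction θ.2)
  obtain ⟨ψ, -, hψ⟩ := exists_indFun_eq_of_stab N hN T hNT θ (fun g h => h) χ hc
  have h1 : (χ : G → ℂ) 1 = (T.index : ℂ) * (ψ : T → ℂ) 1 := by
    rw [← hψ, indFun_one]
  rw [IsCharacter.apply_one_eq_charDegree (IsIrrCharacter.isCharacter χ.2),
    IsCharacter.apply_one_eq_charDegree (IsIrrCharacter.isCharacter ψ.2)] at h1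
  have h2 : Cfsg.charDegree (χ : G → ℂ) = T.index * Cfsg.charDegree (ψ : T → ℂ) := by
    exact_mod_cast h1
  exact Dvd.intro _ h2.symm

/-- A `p`-group acting by conjugation on a normal `p'`-subgroup and fixing all of its conjugacy
classes centralizes it. -/
theorem commute_of_conj_class_fixed {G : Type*} [Group G] [Finite G] (p : ℕ) [Fact p.Prime]
    (P M : Subgroup G) (hP : IsPGroup p P) (hM : (Nat.card M).Coprime p)
    (hnorm : ∀ x ∈ P, ∀ m ∈ M, x * m * x⁻¹ ∈ M)
    (h : ∀ x ∈ P, ∀ m ∈ M, ∃ c ∈ M, x * m * x⁻¹ = c * m * c⁻¹) :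
    ∀ x ∈ P, ∀ m ∈ M, x * m = m * x := by
  classical
  set T : Subgroup M := (Subgroup.centralizer (P : Set G)).subgroupOf M with hTdef
  have hT : T = ⊤ := by
    apply eq_top_of_conj_cover
    intro y
    let aM : MulAction M G := MulAction.compHom G ((MulAut.conj : G →* MulAut G).comp M.subtype)
    let aP : MulAction P G := MulAction.compHom G ((MulAut.conj : G →* MulAut G).comp P.subtype)
    have haM : ∀ (c : M) (g : G), c • g = (c : G) * g * (c : G)⁻¹ := fun _ _ => rfl
    have haP : ∀ (x : P) (g : G), x • g = (x : G) * g * (x : G)⁻¹ := fun _ _ => rfl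
    set X : Set G := MulAction.orbit M (y : G) with hX
    have hXcard : Nat.card X ∣ Nat.card M := by
      rw [hX, Nat.card_coe_set_eq, ← MulAction.index_stabilizer]
      exact Subgroup.index_dvd_card _
    let S : SubMulAction P G :=
      { carrier := X
        smul_mem' := by
          rintro x z ⟨c, rfl⟩
          obtain ⟨c', hc'M, hc'⟩ := h x x.2 y y.2
          have hc'' : (x : G) * c * (x : G)⁻¹ ∈ M := hnorm x x.2 c c.2
          refine ⟨⟨(x : G) * c * (x : G)⁻¹, hc''⟩ * ⟨c', hc'M⟩, ?_⟩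
          change (⟨(x : G) * c * (x : G)⁻¹, hc''⟩ * ⟨c', hc'M⟩ : M) • (y : G) = x • (c • (y : G))
          rw [haM, haP, haM]
          simp only [Subgroup.coe_mul]
          have : (x : G) * ((c : G) * (y : G) * (c : G)⁻¹) * (x : G)⁻¹
              = ((x : G) * c * (x : G)⁻¹) * ((x : G) * y * (x : G)⁻¹) * ((x : G) * c * (x : G)⁻¹)⁻¹ := by
            group
          rw [this, hc']
          group }
    have hScard : ¬ p ∣ Nat.card S := by
      intro hdvd
      have h1 : Nat.card S = Nat.card X := rfl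
      rw [h1] at hdvd
      have h2 := dvd_trans hdvd hXcard
      have h3 := Nat.Coprime.eq_one_of_dvd hM.symm h2
      exact (Fact.out : p.Prime).one_lt.ne' h3
    obtain ⟨⟨z, hz⟩, hfix⟩ := hP.nonempty_fixed_point_of_prime_not_dvd_card S hScard
    obtain ⟨c, hc⟩ := hz
    have hcz : (c : G) * y * (c : G)⁻¹ = z := hc
    refine ⟨c⁻¹, ?_⟩
    rw [hTdef, Subgroup.mem_subgroupOf]
    simp only [Subgroup.coe_mul, Subgroup.coe_inv, inv_inv]
    rw [hcz, Subgroup.mem_centralizer_iff]
    intro x hx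
    have h1 := hfix ⟨x, hx⟩
    have h2 : (⟨x, hx⟩ : P) • z = z := congrArg Subtype.val h1
    rw [haP] at h2
    simp only at h2
    calc x * z = x * z * x⁻¹ * x := by group
      _ = z * x := by rw [h2]
  intro x hx m hm
  have h1 : (⟨m, hm⟩ : M) ∈ T := by rw [hT]; exact Subgroup.mem_top _
  rw [hTdef, Subgroup.mem_subgroupOf, Subgroup.mem_centralizer_iff] at h1
  exact h1 x hx

/-- A Sylow `p`-subgroup normalized by a normal subgroup `K` containing it is normal. -/
theorem sylow_normal_of_le_normalizer {G : Type*} [Group G] [Finite G] (p : ℕ) [Fact p.Prime]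
    (P : Sylow p G) (K : Subgroup G) [hK : K.Normal] (hPK : (P : Subgroup G) ≤ K)
    (hKN : K ≤ Subgroup.normalizer ((P : Subgroup G) : Set G)) : (P : Subgroup G).Normal := by
  rw [← Subgroup.normalizer_eq_top_iff, eq_top_iff]
  intro g _
  refine (Sylow.smul_eq_iff_mem_normalizer (g := g) (P := P)).mp ?_
  set Q : Sylow p G := g • P with hQ
  have hQK : (Q : Subgroup G) ≤ K := by
    intro x hx
    rw [hQ, Sylow.coe_subgroup_smul, Subgroup.mem_pointwise_smul_iff_inv_smul_mem] at hx
    have h1 := hPK hx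
    have h2 := hK.conj_mem _ h1 g
    simp only [MulAut.smul_def, MulAut.conj_inv_apply] at h2
    have : g * (g⁻¹ * x * g) * g⁻¹ = x := by group
    rwa [this] at h2
  have hQN : (Q : Subgroup G) ≤ Subgroup.normalizer ((P : Subgroup G) : Set G) := hQK.trans hKN
  have hsup : IsPGroup p ((Q : Subgroup G) ⊔ (P : Subgroup G) : Subgroup G) :=
    IsPGroup.to_sup_of_normal_right' Q.2 P.2 hQN
  have h3 : ((Q : Subgroup G) ⊔ (P : Subgroup G) : Subgroup G) = P := P.3 hsup le_sup_right
  have h4 : (Q : Subgroup G) ≤ P := by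
    rw [← h3]; exact le_sup_left
  exact Sylow.ext (Q.3 P.2 h4).symm

/-- Inflation preserves degrees. -/
theorem exists_inflation {G : Type*} [Group G] [Finite G] (M : Subgroup G) [M.Normal]
    (β : Cfsg.IrrCharacter (G ⧸ M)) : ∃ χ : Cfsg.IrrCharacter G,
      Cfsg.charDegree (χ : G → ℂ) = Cfsg.charDegree (β : G ⧸ M → ℂ) := by
  have : Fintype G := Fintype.ofFinite G
  refine ⟨⟨fun g => (β : G ⧸ M → ℂ) (QuotientGroup.mk g), IsIrrCharacter.comp_mk M β.2⟩, ?_⟩
  unfold Cfsg.charDegree
  simp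

/-- The quotient step: `P M` is normal. -/
theorem sup_normal_of_step {G : Type u} [Group G] [Finite G] (p : ℕ) [Fact p.Prime]
    (ih : ∀ (G' : Type u) [Group G'] [Finite G'], Nat.card G' < Nat.card G →
      Cfsg.IsPSolvable p G' → (∀ χ : Cfsg.IrrCharacter G', ¬ p ∣ Cfsg.charDegree (χ : G' → ℂ)) →
      ∀ P : Sylow p G', (P : Subgroup G').Normal)
    (hG : Cfsg.IsPSolvable p G)
    (hdeg : ∀ χ : Cfsg.IrrCharacter G, ¬ p ∣ Cfsg.charDegree (χ : G → ℂ))
    (M : Subgroup G) [hMn : M.Normal] (hM1 : M ≠ ⊥) (P : Sylow p G) :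
    ((P : Subgroup G) ⊔ M).Normal := by
  have hlt : Nat.card (G ⧸ M) < Nat.card G := by
    have h1 := Subgroup.card_eq_card_quotient_mul_card_subgroup M
    have h2 : 1 < Nat.card ↥M := (Subgroup.one_lt_card_iff_ne_bot M).2 hM1
    have h3 : 0 < Nat.card (G ⧸ M) := Nat.card_pos
    rw [h1]
    nlinarith
  have hsurj : Function.Surjective (QuotientGroup.mk' M) := QuotientGroup.mk'_surjective M
  have hq : Cfsg.IsPSolvable p (G ⧸ M) :=
    Cfsg.Agent.Lib.Helper1.isPSolvable_of_surjective p (QuotientGroup.mk' M) hsurj hG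
  have hdegq : ∀ β : Cfsg.IrrCharacter (G ⧸ M), ¬ p ∣ Cfsg.charDegree (β : G ⧸ M → ℂ) := by
    intro β
    obtain ⟨χ, hχ⟩ := exists_inflation M β
    rw [← hχ]
    exact hdeg χ
  have hQ := ih (G ⧸ M) hlt hq hdegq (P.mapSurjective hsurj)
  rw [Sylow.coe_mapSurjective] at hQ
  have h1 := hQ.comap (QuotientGroup.mk' M)
  rw [Subgroup.comap_map_eq, QuotientGroup.ker_mk'] at h1
  exact h1

/-- The `p'`-case: if `M` is a normal `p'`-subgroup, `P M` is normal and no irreducible degree
is divisible by `p`, then `P` is normal. -/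
theorem sylow_normal_of_coprime_normal {G : Type*} [Group G] [Finite G] (p : ℕ) [hp : Fact p.Prime]
    (hdeg : ∀ χ : Cfsg.IrrCharacter G, ¬ p ∣ Cfsg.charDegree (χ : G → ℂ))
    (M : Subgroup G) [hMn : M.Normal] (hMc : (Nat.card M).Coprime p) (P : Sylow p G)
    (hK : ((P : Subgroup G) ⊔ M).Normal) : (P : Subgroup G).Normal := by
  classical
  have : Fintype G := Fintype.ofFinite G
  have : Fintype M := Fintype.ofFinite M
  set K : Subgroup G := (P : Subgroup G) ⊔ M with hKdef
  have hinert : ∀ θ : Cfsg.IrrCharacter M, K ≤ inertia M hMn (θ : M → ℂ) := by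
    intro θ
    obtain ⟨χ, hχ⟩ := exists_irr_over M θ
    set T := inertia M hMn (θ : M → ℂ) with hT
    have hMT : M ≤ T := le_inertia M hMn (IsIrrCharacter.isClassFunction θ.2)
    have h1 : T.index ∣ Cfsg.charDegree (χ : G → ℂ) := inertia_index_dvd_charDegree M hMn χ θ hχ
    have h1' : ¬ p ∣ T.index := fun h => hdeg χ (dvd_trans h h1)
    have h2 : T.relIndex K ∣ T.index := relIndex_dvd_index_of_normal_right T K
    have h3 : T.relIndex K ∣ M.relIndex K := Subgroup.relIndex_dvd_of_le_left K hMT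
    have h4 : M.relIndex K = M.relIndex (P : Subgroup G) := Subgroup.relIndex_sup_right _ M
    have h5 : M.relIndex (P : Subgroup G) ∣ Nat.card (P : Subgroup G) :=
      Subgroup.relIndex_dvd_card _ _
    obtain ⟨k, hk⟩ := IsPGroup.iff_card.mp P.2
    rw [h4] at h3
    have h6 : T.relIndex K ∣ p ^ k := hk ▸ dvd_trans h3 h5
    obtain ⟨j, -, hj⟩ := (Nat.dvd_prime_pow hp.out).mp h6
    rcases Nat.eq_zero_or_pos j with rfl | hjpos
    · rw [pow_zero] at hj
      exact Subgroup.relIndex_eq_one.mp hj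
    · exfalso
      apply h1'
      refine dvd_trans ?_ h2
      rw [hj]
      exact dvd_pow_self p hjpos.ne'
  have hPK : (P : Subgroup G) ≤ K := le_sup_left
  have hconj : ∀ x ∈ (P : Subgroup G), ∀ m ∈ M, ∃ c ∈ M, x * m * x⁻¹ = c * m * c⁻¹ := by
    intro x hx m hm
    have hmem : x * m * x⁻¹ ∈ M := hMn.conj_mem m hm x
    have h1 : IsConj (⟨m, hm⟩ : M) ⟨x * m * x⁻¹, hmem⟩ := by
      rw [isConj_iff_forall_irr]
      intro θ
      have h2 : conjFun M hMn (θ : M → ℂ) x = (θ : M → ℂ) := hinert θ (hPK hx)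
      have h3 := congrFun h2 ⟨m, hm⟩
      rw [conjFun_apply] at h3
      exact h3.symm
    obtain ⟨c, hc⟩ := isConj_iff.mp h1
    refine ⟨c, c.2, ?_⟩
    have := congrArg Subtype.val hc
    simpa using this.symm
  have hcomm := commute_of_conj_class_fixed p (P : Subgroup G) M P.2 hMc
    (fun x _ m hm => hMn.conj_mem m hm x) hconj
  have hKN : K ≤ Subgroup.normalizer ((P : Subgroup G) : Set G) := by
    apply sup_le Subgroup.le_normalizer
    refine le_trans ?_ (Subgroup.centralizer_le_normalizer ((P : Subgroup G) : Set G))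
    intro m hm
    rw [Subgroup.mem_centralizer_iff]
    intro x hx
    exact hcomm x hx m hm
  exact sylow_normal_of_le_normalizer p P K hPK hKN

/-- In a `p`-solvable group no irreducible character degree of which is divisible by `p`, the
Sylow `p`-subgroups are normal. -/
theorem sylow_normal_aux (p : ℕ) [hp : Fact p.Prime] : ∀ (n : ℕ) (G : Type u) [Group G] [Finite G],
    Nat.card G = n → Cfsg.IsPSolvable p G →
    (∀ χ : Cfsg.IrrCharacter G, ¬ p ∣ Cfsg.charDegree (χ : G → ℂ)) →
    ∀ P : Sylow p G, (P : Subgroup G).Normal := by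
  intro n
  induction n using Nat.strong_induction_on with
  | _ n ih =>
    intro G _ _ hn hG hdeg P
    have ih' : ∀ (G' : Type u) [Group G'] [Finite G'], Nat.card G' < Nat.card G →
        Cfsg.IsPSolvable p G' →
        (∀ χ : Cfsg.IrrCharacter G', ¬ p ∣ Cfsg.charDegree (χ : G' → ℂ)) →
        ∀ P : Sylow p G', (P : Subgroup G').Normal := by
      intro G' _ _ hlt hG' hdeg'
      exact ih (Nat.card G') (hn ▸ hlt) G' rfl hG' hdeg'
    by_cases hK : Cfsg.pPrimeCore p G = ⊥
    · by_cases hR : Cfsg.pCore p G = ⊥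
      · -- the group is trivial
        have htriv : ∀ γ : G, γ = 1 := by
          intro γ
          have hx1 : γ ∈ Cfsg.pCore p G := by
            apply Cfsg.Agent.S4218.HH p hG hK γ
            intro y hy
            rw [hR, Subgroup.mem_bot] at hy
            rw [hy]
            simp
          rwa [hR, Subgroup.mem_bot] at hx1
        constructor
        intro x hx g
        rw [htriv g]
        simpa using hx
      · have : (Cfsg.pCore p G).Normal := Cfsg.Agent.Lib.Helper7.pCore_normal p G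
        have hsup := sup_normal_of_step p ih' hG hdeg (Cfsg.pCore p G) hR P
        have hpg : IsPGroup p ((P : Subgroup G) ⊔ Cfsg.pCore p G : Subgroup G) :=
          IsPGroup.to_sup_of_normal_right P.2 (Cfsg.Agent.Lib.Helper7.pCore_isPGroup p G)
        have heq : ((P : Subgroup G) ⊔ Cfsg.pCore p G : Subgroup G) = P := P.3 hpg le_sup_left
        rw [heq] at hsup
        exact hsup
    · have : (Cfsg.pPrimeCore p G).Normal := Cfsg.pPrimeCore_normal p G
      have hsup := sup_normal_of_step p ih' hG hdeg (Cfsg.pPrimeCore p G) hK P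
      exact sylow_normal_of_coprime_normal p hdeg (Cfsg.pPrimeCore p G)
        (Cfsg.Agent.Lib.Helper1.pPrimeCore_card_coprime p) P hsup

/-- Ito: a normal abelian subgroup of index prime to `p` forces all degrees prime to `p`. -/
theorem not_dvd_charDegree_of_normal_abelian {G : Type*} [Group G] [Finite G] (p : ℕ)
    (A : Subgroup G) (hA : A.Normal) (hcomm : ∀ a ∈ A, ∀ b ∈ A, a * b = b * a)
    (hidx : ¬ p ∣ A.index) (χ : Cfsg.IrrCharacter G) : ¬ p ∣ Cfsg.charDegree (χ : G → ℂ) := by
  obtain ⟨d, hd, hdvd⟩ := ito_aux (Nat.card G) G rfl A hA hcomm (χ : G → ℂ) χ.2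
  have h1 := IsCharacter.apply_one_eq_charDegree (IsIrrCharacter.isCharacter χ.2)
  rw [hd] at h1
  have h2 : d = Cfsg.charDegree (χ : G → ℂ) := by exact_mod_cast h1
  rw [← h2]
  exact fun h => hidx (dvd_trans h hdvd)

/-- If no degree is divisible by `p`, a normal Sylow `p`-subgroup is abelian. -/
theorem sylow_comm_of_normal {G : Type*} [Group G] [Finite G] (p : ℕ) [hp : Fact p.Prime]
    (hdeg : ∀ χ : Cfsg.IrrCharacter G, ¬ p ∣ Cfsg.charDegree (χ : G → ℂ)) (P : Sylow p G)
    (hPn : (P : Subgroup G).Normal) : ∀ x ∈ (P : Subgroup G), ∀ y ∈ (P : Subgroup G), x * y = y * x := by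
  classical
  have : Fintype G := Fintype.ofFinite G
  have : Fintype (P : Subgroup G) := Fintype.ofFinite _
  have hall : ∀ θ : Cfsg.IrrCharacter (P : Subgroup G), (θ : ↥(P : Subgroup G) → ℂ) 1 = 1 := by
    intro θ
    obtain ⟨χ, hχ⟩ := exists_irr_over (P : Subgroup G) θ
    have h1 := charDegree_dvd_of_constituent (P : Subgroup G) hPn χ θ hχ
    have h2 := IsIrrCharacter.charDegree_dvd_card θ.2
    obtain ⟨k, hk⟩ := IsPGroup.iff_card.mp P.2
    rw [hk] at h2
    obtain ⟨j, -, hj⟩ := (Nat.dvd_prime_pow hp.out).mp h2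
    rw [IsCharacter.apply_one_eq_charDegree (IsIrrCharacter.isCharacter θ.2)]
    rcases Nat.eq_zero_or_pos j with rfl | hjpos
    · rw [hj]; simp
    · exfalso
      apply hdeg χ
      refine dvd_trans ?_ h1
      rw [hj]
      exact dvd_pow_self p hjpos.ne'
  have hc := (Cfsg.Agent.S0187.result (G := (P : Subgroup G))).mpr hall
  intro x hx y hy
  have := hc ⟨x, hx⟩ ⟨y, hy⟩
  exact congrArg Subtype.val this

/-- **Ito's theorem for `p`-solvable groups.** -/
theorem sylow_normal_comm_iff {G : Type u} [Group G] [Finite G] (p : ℕ) [hp : Fact p.Prime]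
    (hsolv : Cfsg.IsPSolvable p G) (P : Sylow p G) :
    ((P : Subgroup G).Normal ∧ ∀ x ∈ (P : Subgroup G), ∀ y ∈ (P : Subgroup G), x * y = y * x) ↔
      ∀ χ : Cfsg.IrrCharacter G, ¬ p ∣ Cfsg.charDegree (χ : G → ℂ) := by
  constructor
  · rintro ⟨hn, hc⟩ χ
    exact not_dvd_charDegree_of_normal_abelian p (P : Subgroup G) hn hc P.not_dvd_index χ
  · intro hdeg
    have hn := sylow_normal_aux p (Nat.card G) G rfl hsolv hdeg P
    exact ⟨hn, sylow_comm_of_normal p hdeg P hn⟩

end Cfsg.Agent.Lib.Helper3.ItoConv
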