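import Mathlib
import Cfsg.Agent.Lib.Lead.SylowCount

/-! Groups of order dividing 175560: basic facts on Sylow 19-subgroups, for the reduction of
"order 175560 => simple or normal Sylow 19". -/

set_option autoImplicit false
set_option maxHeartbeats 4000000
set_option maxRecDepth 100000
set_option linter.unusedVariables false
set_option linter.unusedSectionVars false
set_option linter.style.haveILetI false
set_option linter.deprecated false

universe u

namespace Cfsg.Agent.Lib.Helper3.J1Red

open Cfsg.Agent.Lib.Lead.SylowCount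

local instance fact19 : Fact (Nat.Prime 19) := ⟨by norm_num⟩

/-- all Sylow 19-subgroups are normal -/
def NS (K : Type u) [Group K] : Prop := ∀ P : Sylow 19 K, (P : Subgroup K).Normal

/-- the induction hypothesis -/
def IHyp (H : Type u) [Group H] : Prop :=
  ∀ (K : Type u) [Group K] [Finite K], Nat.card K ∣ Nat.card H → Nat.card K < Nat.card H → NS K

variable {H : Type u} [Group H] [Finite H]

lemma card_sylow19 (hdiv : Nat.card H ∣ 175560) (P : Sylow 19 H) :
    Nat.card (P : Subgroup H) = 1 ∨ Nat.card (P : Subgroup H) = 19 := by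
  obtain ⟨k, hk⟩ := (P.isPGroup').exists_card_eq
  have h1 : 19 ^ k ∣ 175560 := by
    rw [← hk]; exact (Subgroup.card_subgroup_dvd_card _).trans hdiv
  have hk1 : k ≤ 1 := by
    by_contra hcon
    have h2 : 19 ^ 2 ∣ 19 ^ k := pow_dvd_pow 19 (by omega)
    have h3 := h2.trans h1
    norm_num at h3
  interval_cases k
  · left; rw [hk, pow_zero]
  · right; rw [hk, pow_one]

lemma card_sylow19' (hdiv : Nat.card H ∣ 175560) (h19 : 19 ∣ Nat.card H) (P : Sylow 19 H) :
    Nat.card (P : Subgroup H) = 19 := by
  rcases card_sylow19 hdiv P with h | h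
  · have h1 := P.dvd_card_of_dvd_card h19
    rw [h] at h1
    norm_num at h1
  · exact h

lemma ns_of_not_dvd (hdiv : Nat.card H ∣ 175560) (h19 : ¬ 19 ∣ Nat.card H) : NS H := by
  intro P
  rcases card_sylow19 hdiv P with h | h
  · have : (P : Subgroup H) = ⊥ := Subgroup.card_eq_one.mp h
    rw [this]; infer_instance
  · exfalso
    apply h19
    rw [← h]; exact Subgroup.card_subgroup_dvd_card _

/-- a normal subgroup of order 19 is the unique Sylow 19-subgroup -/
lemma ns_of_normal_card (A : Subgroup H) [hA : A.Normal] (hcard : Nat.card A = 19)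
    (hP : ∀ P : Sylow 19 H, Nat.card (P : Subgroup H) = 19) : NS H := by
  intro P
  have hpg : IsPGroup 19 A := IsPGroup.of_card (n := 1) (by rw [hcard, pow_one])
  obtain ⟨P₀, hP₀⟩ := hpg.exists_le_sylow
  have hAP₀ : A = (P₀ : Subgroup H) :=
    Subgroup.eq_of_le_of_card_ge hP₀ (by rw [hcard, hP P₀])
  obtain ⟨g, hg⟩ := MulAction.exists_smul_eq H P₀ P
  haveI : (P₀ : Subgroup H).Normal := hAP₀ ▸ hA
  have h1 : g • P₀ = P₀ := Sylow.smul_eq_of_normal
  rw [h1] at hg
  rw [← hg]
  infer_instance

/-- the Sylow 19-subgroup of a normal subgroup `M`, if normal in `M`, is normal in `H` -/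
lemma normal_map_of_ns (M : Subgroup H) [M.Normal] (hM : NS M) (Q : Sylow 19 M) :
    ((Q : Subgroup M).map M.subtype).Normal := by
  haveI : (Q : Subgroup M).Characteristic := Sylow.characteristic_of_normal Q (hM Q)
  infer_instance

lemma card_lt_of_ne_top (M : Subgroup H) (hM : M ≠ ⊤) : Nat.card M < Nat.card H := by
  rcases lt_or_ge (Nat.card M) (Nat.card H) with h | h
  · exact h
  · exact absurd (Subgroup.eq_top_of_le_card M h) hM

/-- Case: the proper normal subgroup `M` has order divisible by 19. -/
lemma ns_of_normal_dvd (hdiv : Nat.card H ∣ 175560) (IH : IHyp H) (M : Subgroup H) [M.Normal]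
    (hMtop : M ≠ ⊤) (h19 : 19 ∣ Nat.card M) : NS H := by
  have hMdvd : Nat.card M ∣ Nat.card H := Subgroup.card_subgroup_dvd_card M
  have hNS : NS M := IH M hMdvd (card_lt_of_ne_top M hMtop)
  obtain Q : Sylow 19 M := default
  haveI := normal_map_of_ns M hNS Q
  have hQcard : Nat.card ((Q : Subgroup M).map M.subtype) = 19 := by
    rw [Subgroup.card_map_of_injective (Subgroup.subtype_injective _)]
    exact card_sylow19' (hMdvd.trans hdiv) h19 Q
  exact ns_of_normal_card _ hQcard (card_sylow19' hdiv (h19.trans hMdvd))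

end Cfsg.Agent.Lib.Helper3.J1Red
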