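import Mathlib
import Cfsg.Agent.Lib.Helper3.J1Red1

/-! The inductive step for groups of order dividing 175560. -/

set_option autoImplicit false
set_option maxHeartbeats 4000000
set_option maxRecDepth 100000
set_option linter.unusedVariables false
set_option linter.unusedSectionVars false
set_option linter.style.haveILetI false
set_option linter.deprecated false

universe u

namespace Cfsg.Agent.Lib.Helper3.J1Red

open Cfsg.Agent.Lib.Lead.SylowCount

local instance fact19' : Fact (Nat.Prime 19) := ⟨by norm_num⟩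

variable {H : Type u} [Group H] [Finite H]

/-- Lemma B: a nontrivial normal subgroup `N` of order prime to 19: either the Sylow
19-subgroups are normal or `N` has index 19. -/
lemma ns_or_index (hdiv : Nat.card H ∣ 175560) (IH : IHyp H) (h19H : 19 ∣ Nat.card H)
    (N : Subgroup H) [N.Normal] (hNbot : N ≠ ⊥) (h19 : ¬ 19 ∣ Nat.card N) :
    NS H ∨ Nat.card H = 19 * Nat.card N := by
  have hcardQ : Nat.card H = Nat.card (H ⧸ N) * Nat.card N :=
    Subgroup.card_eq_card_quotient_mul_card_subgroup N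
  have hNpos : 0 < Nat.card N := Nat.card_pos
  have hN1 : 1 < Nat.card N := by
    rcases Nat.lt_or_ge 1 (Nat.card N) with h | h
    · exact h
    · exact absurd (Subgroup.card_eq_one.mp (by omega)) hNbot
  have hQdvd : Nat.card (H ⧸ N) ∣ Nat.card H := Dvd.intro _ hcardQ.symm
  have hQpos : 0 < Nat.card (H ⧸ N) := Nat.card_pos
  have hQlt : Nat.card (H ⧸ N) < Nat.card H := by
    rw [hcardQ]; nlinarith
  have hNSQ : NS (H ⧸ N) := IH (H ⧸ N) hQdvd hQlt
  have h19Q : 19 ∣ Nat.card (H ⧸ N) := by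
    rw [hcardQ] at h19H
    rcases (Nat.Prime.dvd_mul (by norm_num : Nat.Prime 19)).mp h19H with h | h
    · exact h
    · exact absurd h h19
  obtain S : Sylow 19 (H ⧸ N) := default
  have hScard : Nat.card (S : Subgroup (H ⧸ N)) = 19 :=
    card_sylow19' (hQdvd.trans hdiv) h19Q S
  haveI hSn : (S : Subgroup (H ⧸ N)).Normal := hNSQ S
  -- the preimage of `S`
  haveI hMn : ((S : Subgroup (H ⧸ N)).comap (QuotientGroup.mk' N)).Normal :=
    Subgroup.Normal.comap hSn _
  by_cases hMtop : (S : Subgroup (H ⧸ N)).comap (QuotientGroup.mk' N) = ⊤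
  · right
    have hStop : (S : Subgroup (H ⧸ N)) = ⊤ := by
      apply Subgroup.comap_injective (QuotientGroup.mk'_surjective N)
      rw [hMtop, Subgroup.comap_top]
    have h1 : Nat.card (H ⧸ N) = 19 := by
      rw [← hScard, hStop, Subgroup.card_top]
    rw [hcardQ, h1]
  · left
    have h19M : 19 ∣ Nat.card ((S : Subgroup (H ⧸ N)).comap (QuotientGroup.mk' N)) := by
      have h2 := Subgroup.card_map_dvd (H := (S : Subgroup (H ⧸ N)).comap (QuotientGroup.mk' N))
        (QuotientGroup.mk' N)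
      rw [Subgroup.map_comap_eq_self_of_surjective (QuotientGroup.mk'_surjective N), hScard] at h2
      exact h2
    exact ns_of_normal_dvd hdiv IH _ hMtop h19M

/-- Lemma D: order `19 * r ^ a`. -/
lemma ns_of_card_eq (hdiv : Nat.card H ∣ 175560) {r a : ℕ} (hr : r.Prime)
    (hcard : Nat.card H = 19 * r ^ a) : NS H := by
  have h19H : 19 ∣ Nat.card H := Dvd.intro _ hcard.symm
  obtain P₀ : Sylow 19 H := default
  have hP₀ := card_sylow19' hdiv h19H P₀
  have hidx : (P₀ : Subgroup H).index = r ^ a := by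
    have h1 := Subgroup.card_mul_index (P₀ : Subgroup H)
    rw [hP₀, hcard] at h1
    exact Nat.eq_of_mul_eq_mul_left (by norm_num) h1
  have hn_dvd : Nat.card (Sylow 19 H) ∣ r ^ a := by
    rw [← hidx]; exact P₀.card_dvd_index
  have hra : r ^ a ∣ 9240 := by
    have h1 : 19 * r ^ a ∣ 19 * 9240 := by rw [← hcard]; exact hdiv
    exact (Nat.mul_dvd_mul_iff_left (by norm_num)).mp h1
  have hn_mod : Nat.card (Sylow 19 H) % 19 = 1 := by
    have h1 := card_sylow_modEq_one 19 H
    unfold Nat.ModEq at h1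
    omega
  have key : ∀ n ∈ Nat.divisors 9240, n % 19 = 1 →
      n = 1 ∨ (2 ∣ n ∧ 5 ∣ n) ∨ (7 ∣ n ∧ 11 ∣ n) ∨ (2 ∣ n ∧ 3 ∣ n) := by
    decide +kernel
  have hne : ∀ p q : ℕ, p.Prime → q.Prime → p ≠ q → p ∣ Nat.card (Sylow 19 H) →
      q ∣ Nat.card (Sylow 19 H) → False := by
    intro p q hp hq hpq h1 h2
    have h3 := (Nat.prime_dvd_prime_iff_eq hp hr).mp (hp.dvd_of_dvd_pow (h1.trans hn_dvd))
    have h4 := (Nat.prime_dvd_prime_iff_eq hq hr).mp (hq.dvd_of_dvd_pow (h2.trans hn_dvd))
    exact hpq (h3.trans h4.symm)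
  have hn1 : Nat.card (Sylow 19 H) = 1 := by
    rcases key _ (Nat.mem_divisors.mpr ⟨hn_dvd.trans hra, by norm_num⟩) hn_mod with
      h | ⟨h1, h2⟩ | ⟨h1, h2⟩ | ⟨h1, h2⟩
    · exact h
    · exact (hne 2 5 (by norm_num) (by norm_num) (by norm_num) h1 h2).elim
    · exact (hne 7 11 (by norm_num) (by norm_num) (by norm_num) h1 h2).elim
    · exact (hne 2 3 (by norm_num) (by norm_num) (by norm_num) h1 h2).elim
  intro P
  exact normal_of_card_sylow_eq_one 19 hn1 P

/-- Frattini: if `N` is normal of index 19, the normalizer of a Sylow `r`-subgroup (`r ≠ 19`)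
has order divisible by 19. -/
lemma dvd_card_normalizer (N : Subgroup H) [N.Normal] (hidx : Nat.card H = 19 * Nat.card N)
    {r : ℕ} [hr : Fact r.Prime] (hr19 : r ≠ 19) (R : Sylow r H) :
    19 ∣ Nat.card (Subgroup.normalizer ((R : Subgroup H) : Set H)) := by
  have hcardQ : Nat.card H = Nat.card (H ⧸ N) * Nat.card N :=
    Subgroup.card_eq_card_quotient_mul_card_subgroup N
  have hNpos : 0 < Nat.card N := Nat.card_pos
  have hQ19 : Nat.card (H ⧸ N) = 19 := by
    rw [hidx] at hcardQ
    exact (Nat.eq_of_mul_eq_mul_right hNpos hcardQ).symm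
  have hRN : (R : Subgroup H) ≤ N := by
    intro x hx
    rw [← QuotientGroup.eq_one_iff]
    have h1 : orderOf ((QuotientGroup.mk' N) x) ∣ orderOf x := orderOf_map_dvd _ x
    have h2 : orderOf x ∣ Nat.card (R : Subgroup H) := Subgroup.orderOf_dvd_natCard _ hx
    obtain ⟨a, ha⟩ := (R.isPGroup').exists_card_eq
    rw [ha] at h2
    have h3 : orderOf ((QuotientGroup.mk' N) x) ∣ 19 := by
      rw [← hQ19]; exact orderOf_dvd_natCard _
    have h4 : Nat.Coprime 19 (r ^ a) :=
      Nat.Coprime.pow_right a ((Nat.coprime_primes (by norm_num) hr.out).mpr (Ne.symm hr19))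
    have h5 : orderOf ((QuotientGroup.mk' N) x) = 1 :=
      Nat.eq_one_of_dvd_coprimes h4 h3 (h1.trans h2)
    exact orderOf_eq_one_iff.mp h5
  have hF : Subgroup.normalizer ((R : Subgroup H) : Set H) ⊔ N = ⊤ :=
    Sylow.normalizer_sup_eq_top' R hRN
  have h6 := Subgroup.card_map_dvd (H := Subgroup.normalizer ((R : Subgroup H) : Set H))
    (QuotientGroup.mk' N)
  have h7 : (Subgroup.normalizer ((R : Subgroup H) : Set H)).map (QuotientGroup.mk' N) = ⊤ := by
    have h8 : (Subgroup.normalizer ((R : Subgroup H) : Set H) ⊔ N).map (QuotientGroup.mk' N) =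
        ⊤ := by
      rw [hF, ← MonoidHom.range_eq_map]
      exact MonoidHom.range_eq_top.mpr (QuotientGroup.mk'_surjective N)
    rw [Subgroup.map_sup] at h8
    have h9 : N.map (QuotientGroup.mk' N) = ⊥ := by
      apply (Subgroup.map_eq_bot_iff _).mpr
      rw [QuotientGroup.ker_mk']
    rw [h9, sup_bot_eq] at h8
    exact h8
  rw [h7, Subgroup.card_top, hQ19] at h6
  exact h6

/-- two subgroups normalizing each other with trivial intersection commute elementwise -/
lemma commute_of_normalize {A B : Subgroup H} (hAB : A ≤ Subgroup.normalizer (B : Set H))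
    (hBA : B ≤ Subgroup.normalizer (A : Set H)) (hdisj : A ⊓ B = ⊥) {a b : H} (ha : a ∈ A)
    (hb : b ∈ B) : a * b = b * a := by
  have h1 : a * b * a⁻¹ * b⁻¹ ∈ A ⊓ B := by
    constructor
    · have h2 : b * a⁻¹ * b⁻¹ ∈ A :=
        (Subgroup.mem_normalizer_iff.mp (hBA hb) a⁻¹).mp (A.inv_mem ha)
      have h3 : a * b * a⁻¹ * b⁻¹ = a * (b * a⁻¹ * b⁻¹) := by group
      rw [h3]; exact A.mul_mem ha h2
    · have h2 : a * b * a⁻¹ ∈ B := (Subgroup.mem_normalizer_iff.mp (hAB ha) b).mp hb
      exact B.mul_mem h2 (B.inv_mem hb)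
  rw [hdisj, Subgroup.mem_bot] at h1
  have h4 : a * b = (a * b * a⁻¹ * b⁻¹) * (b * a) := by group
  rw [h4, h1, one_mul]

end Cfsg.Agent.Lib.Helper3.J1Red
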