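import Mathlib
import Cfsg.Agent.Lib.Helper7.Small2

/-! Tools for element-count exclusions of orders of simple groups. -/

set_option autoImplicit false
set_option maxHeartbeats 4000000
set_option maxRecDepth 100000
set_option linter.unusedVariables false
set_option linter.unusedSectionVars false
set_option linter.style.haveILetI false
set_option linter.deprecated false

namespace Cfsg.Agent.Lib.Helper3.OrdTools

open Cfsg.Agent.Lib.Lead Cfsg.Agent.Lib.Lead.SmallSimple Cfsg.Agent.Lib.Lead.SmallSimple2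
  Cfsg.Agent.Lib.Lead.SylowCount Cfsg.Agent.Lib.Lead.PrimeDegree
  Cfsg.Agent.Lib.Helper7.CountTools Cfsg.Agent.Lib.Helper7.SylPar

lemma mem_divisors_div {n p d : ℕ} (hp : p.Prime) (hd : d ∈ n.divisors) (hmod : d % p = 1)
    (hpn : p ∣ n) : d ∈ (n / p).divisors := by
  have hn0 : n ≠ 0 := (Nat.mem_divisors.mp hd).2
  have hdn : d ∣ n := (Nat.mem_divisors.mp hd).1
  obtain ⟨c, hc⟩ := hpn
  have hc0 : c ≠ 0 := by
    intro h0; rw [h0, mul_zero] at hc; exact hn0 hc
  have hdiv : n / p = c := by rw [hc]; exact Nat.mul_div_cancel_left c hp.pos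
  rw [hdiv]
  refine Nat.mem_divisors.mpr ⟨?_, hc0⟩
  have hcop : Nat.Coprime d p := by
    rw [Nat.coprime_comm, Nat.Prime.coprime_iff_not_dvd hp]
    intro hpd
    have := Nat.mod_eq_zero_of_dvd hpd
    omega
  rw [hc] at hdn
  exact hcop.dvd_of_dvd_mul_left hdn

variable {G : Type*} [Group G] [Finite G]

/-- an element of odd prime order `q` centralizing a Sylow `p`-subgroup of order `p`: its number
of fixed Sylow `p`-subgroups is `1` modulo `p`, `d` modulo `q` and less than `d` -/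
lemma parA_false [IsSimpleGroup G] {p d m q : ℕ} [hp : Fact p.Prime] (hq : q.Prime)
    (hd : Nat.card (Sylow p G) = d) (hd1 : d ≠ 1)
    (hC : ∀ P : Sylow p G, Nat.card (Subgroup.centralizer ((P : Subgroup G) : Set G)) = p * m)
    (hqm : q ∣ m) (hf : ∀ f < d, f % p = 1 → f % q ≠ d % q) : False := by
  haveI : Fact q.Prime := ⟨hq⟩
  obtain P : Sylow p G := default
  have hne1 : Nat.card (Sylow p G) ≠ 1 := by rw [hd]; exact hd1
  obtain ⟨w, hw⟩ := exists_prime_orderOf_dvd_card' (G := Subgroup.centralizer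
    ((P : Subgroup G) : Set G)) q (by rw [hC P]; exact Dvd.dvd.mul_left hqm p)
  have hw' : orderOf (w : G) = q := by rw [Subgroup.orderOf_coe]; exact hw
  have hw1 : (w : G) ≠ 1 := by
    intro h1; rw [h1, orderOf_one] at hw'; exact hq.one_lt.ne hw'
  have hwq : (w : G) ^ q = 1 := by rw [← hw']; exact pow_orderOf_eq_one _
  have hxC : ∀ y ∈ (P : Subgroup G), y * (w : G) = (w : G) * y :=
    Subgroup.mem_centralizer_iff.mp w.2
  have hf1 := fix_modEq_one P (v := (w : G)) hxC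
  have hf3 := fix_lt p hne1 hw1
  have hf2 := fix_modEq_prime (α := Sylow p G) q (w : G) 1 (by rw [pow_one]; exact hwq)
  rw [hd] at hf2 hf3
  have hfp : Nat.card (MulAction.fixedBy (Sylow p G) (w : G)) % p = 1 := by
    unfold Nat.ModEq at hf1; rw [hf1]; exact Nat.mod_eq_of_lt hp.out.one_lt
  exact hf _ hf3 hfp hf2

/-- if `q` divides `|C(P)|` for a Sylow `p`-subgroup then `p` divides `|C(Q)|` for the Sylow
`q`-subgroups -/
lemma swap_false {p q m m' : ℕ} [Fact p.Prime] [Fact q.Prime]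
    (hcp : ∀ P : Sylow p G, Nat.card P = p) (hcq : ∀ Q : Sylow q G, Nat.card Q = q)
    (hCp : ∀ P : Sylow p G, Nat.card (Subgroup.centralizer ((P : Subgroup G) : Set G)) = p * m)
    (hqm : q ∣ m)
    (hCq : ∀ Q : Sylow q G, Nat.card (Subgroup.centralizer ((Q : Subgroup G) : Set G)) = q * m')
    (hn : ¬ p ∣ q * m') : False := by
  obtain P : Sylow p G := default
  obtain ⟨Q, hQ⟩ := dvd_card_centralizer_swap (q := q) hcq hcp P
    (by rw [hCp P]; exact Dvd.dvd.mul_left hqm p)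
  rw [hCq Q] at hQ
  exact hn hQ

/-- the set of elements whose order is divisible by `p` -/
def SS (p : ℕ) [Fact p.Prime] (m : ℕ) : Set G := ⋃ P : Sylow p G, Ysing P m

lemma SS_ncard {p : ℕ} [Fact p.Prime] (hc : ∀ P : Sylow p G, Nat.card P = p) {m : ℕ}
    (hC : ∀ P : Sylow p G, Nat.card (Subgroup.centralizer ((P : Subgroup G) : Set G)) = p * m)
    (hm : ¬ p ∣ m) : (SS p m : Set G).ncard = Nat.card (Sylow p G) * (p * m - m) :=
  ncard_iUnion_Ysing hc hC hm

lemma SS_order {p : ℕ} [Fact p.Prime] (hc : ∀ P : Sylow p G, Nat.card P = p) {m : ℕ}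
    (hC : ∀ P : Sylow p G, Nat.card (Subgroup.centralizer ((P : Subgroup G) : Set G)) = p * m) :
    ∀ y ∈ (SS p m : Set G), p ∣ orderOf y ∧ orderOf y ∣ p * m := by
  intro y hy
  obtain ⟨P, hyP⟩ := Set.mem_iUnion.mp hy
  exact ⟨prime_dvd_orderOf_of_mem_Ysing P (hc P) (hC P) hyP,
    orderOf_dvd_of_mem_Ysing P (hC P) hyP⟩

lemma SS_disjoint {p q : ℕ} [Fact p.Prime] [Fact q.Prime]
    (hcp : ∀ P : Sylow p G, Nat.card P = p) (hcq : ∀ Q : Sylow q G, Nat.card Q = q) {m m' : ℕ}
    (hCp : ∀ P : Sylow p G, Nat.card (Subgroup.centralizer ((P : Subgroup G) : Set G)) = p * m)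
    (hCq : ∀ Q : Sylow q G, Nat.card (Subgroup.centralizer ((Q : Subgroup G) : Set G)) = q * m')
    (hn : ¬ q ∣ p * m) : Disjoint (SS p m : Set G) (SS q m') :=
  Set.disjoint_left.mpr (fun y hyp hyq =>
    hn (dvd_trans (SS_order hcq hCq y hyq).1 (SS_order hcp hCp y hyp).2))

lemma ncard_three_le (A B C : Set G) (hAB : Disjoint A B) (hAC : Disjoint A C)
    (hBC : Disjoint B C) : A.ncard + B.ncard + C.ncard ≤ Nat.card G := by
  have d2 : Disjoint (A ∪ B) C := Set.disjoint_union_left.mpr ⟨hAC, hBC⟩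
  have h1 : (A ∪ B ∪ C).ncard = A.ncard + B.ncard + C.ncard := by
    rw [Set.ncard_union_eq d2, Set.ncard_union_eq hAB]
  rw [← h1, ← Set.ncard_univ]
  exact Set.ncard_le_ncard (Set.subset_univ _)

lemma ncard_four_le (A B C D : Set G) (hAB : Disjoint A B) (hAC : Disjoint A C)
    (hBC : Disjoint B C) (hAD : Disjoint A D) (hBD : Disjoint B D) (hCD : Disjoint C D) :
    A.ncard + B.ncard + C.ncard + D.ncard ≤ Nat.card G := by
  have d2 : Disjoint (A ∪ B) C := Set.disjoint_union_left.mpr ⟨hAC, hBC⟩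
  have d3 : Disjoint (A ∪ B ∪ C) D :=
    Set.disjoint_union_left.mpr ⟨Set.disjoint_union_left.mpr ⟨hAD, hBD⟩, hCD⟩
  have h1 : (A ∪ B ∪ C ∪ D).ncard = A.ncard + B.ncard + C.ncard + D.ncard := by
    rw [Set.ncard_union_eq d3, Set.ncard_union_eq d2, Set.ncard_union_eq hAB]
  rw [← h1, ← Set.ncard_univ]
  exact Set.ncard_le_ncard (Set.subset_univ _)

end Cfsg.Agent.Lib.Helper3.OrdTools
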