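import Mathlib
import Cfsg.Agent.Lib.Helper3.OrdTools3

/-! No simple group of order 15960 = 2^3 * 3 * 5 * 7 * 19. -/

set_option autoImplicit false
set_option maxHeartbeats 4000000
set_option maxRecDepth 100000
set_option linter.unusedVariables false
set_option linter.unusedSectionVars false
set_option linter.style.haveILetI false
set_option linter.deprecated false

namespace Cfsg.Agent.Lib.Helper3.Ord15960

open Cfsg.Agent.Lib.Lead Cfsg.Agent.Lib.Lead.SmallSimple Cfsg.Agent.Lib.Lead.SmallSimple2
  Cfsg.Agent.Lib.Helper7.Small

theorem not_simple {G : Type*} [Group G] [Finite G] [IsSimpleGroup G]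
    (h : Nat.card G = 15960) : False := by
  have hG : ¬ IsMulCommutative G := not_comm_of_not_prime (by rw [h]; norm_num)
  exact kill_par hG (p := 19) (by norm_num) h (by norm_num) (by norm_num) (by norm_num)
    (by decide +kernel)

end Cfsg.Agent.Lib.Helper3.Ord15960
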