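import Mathlib
import Cfsg.Agent.Lib.Helper3.OrdTools3

/-! No simple group of order 17556 = 2^2 * 3 * 7 * 11 * 19: element count. -/

set_option autoImplicit false
set_option maxHeartbeats 4000000
set_option maxRecDepth 100000
set_option linter.unusedVariables false
set_option linter.unusedSectionVars false
set_option linter.style.haveILetI false
set_option linter.deprecated false

namespace Cfsg.Agent.Lib.Helper3.Ord17556

open Cfsg.Agent.Lib.Lead Cfsg.Agent.Lib.Lead.SmallSimple Cfsg.Agent.Lib.Lead.SmallSimple2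
  Cfsg.Agent.Lib.Lead.SylowCount Cfsg.Agent.Lib.Lead.PrimeDegree
  Cfsg.Agent.Lib.Helper7.CountTools Cfsg.Agent.Lib.Helper7.SylPar Cfsg.Agent.Lib.Helper7.Small
  Cfsg.Agent.Lib.Helper3.OrdTools

theorem not_simple {G : Type*} [Group G] [Finite G] [IsSimpleGroup G]
    (h : Nat.card G = 17556) : False := by
  have hG : ¬ IsMulCommutative G := not_comm_of_not_prime (by rw [h]; norm_num)
  haveI f19 : Fact (Nat.Prime 19) := ⟨by norm_num⟩
  haveI f11 : Fact (Nat.Prime 11) := ⟨by norm_num⟩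
  haveI f7 : Fact (Nat.Prime 7) := ⟨by norm_num⟩
  -- the prime 19
  obtain ⟨d19, hd_mem, k19, hk_mem, hmod, hne1, hfac, hk, hk1, hd19, hc19, hC19, hN19, hpm19⟩ :=
    data_p1 hG (p := 19) (by norm_num) h (by norm_num) (by norm_num)
  have key19 : ∀ d ∈ Nat.divisors (17556 / 19), (d % 19 = 1 ∧ d ≠ 1) →
      ∀ k ∈ Nat.divisors (17556 / (d * 19)), (k ∣ 19 - 1 ∧ k ≠ 1) →
        (d = 77 ∧ (17556 / (d * 19) / k = 2 ∨ 17556 / (d * 19) / k = 4 ∨
          17556 / (d * 19) / k = 6)) := by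
    decide +kernel
  obtain ⟨rfl, hm19⟩ := key19 d19 (mem_divisors_div (by norm_num) hd_mem hmod (by norm_num))
    ⟨hmod, hne1⟩ k19 hk_mem ⟨hk, hk1⟩
  obtain ⟨m19, hm19def⟩ : ∃ m19, m19 = 17556 / (77 * 19) / k19 := ⟨_, rfl⟩
  rw [← hm19def] at hC19 hpm19 hm19
  clear hd_mem hk_mem hmod hne1 hfac hk hk1
  -- the prime 11
  obtain ⟨d11, hd_mem, k11, hk_mem, hmod, hne1, hfac, hk, hk1, hd11, hc11, hC11, hN11, hpm11⟩ :=
    data_p1 hG (p := 11) (by norm_num) h (by norm_num) (by norm_num)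
  have key11 : ∀ d ∈ Nat.divisors (17556 / 11), (d % 11 = 1 ∧ d ≠ 1) →
      ∀ k ∈ Nat.divisors (17556 / (d * 11)), (k ∣ 11 - 1 ∧ k ≠ 1) →
        (d = 133 ∧ 17556 / (d * 11) / k = 6) := by
    decide +kernel
  obtain ⟨rfl, hm11⟩ := key11 d11 (mem_divisors_div (by norm_num) hd_mem hmod (by norm_num))
    ⟨hmod, hne1⟩ k11 hk_mem ⟨hk, hk1⟩
  rw [hm11] at hC11 hpm11
  clear hd_mem hk_mem hmod hne1 hfac hk hk1
  -- the prime 7
  obtain ⟨d7, hd_mem, k7, hk_mem, hmod, hne1, hfac, hk, hk1, hd7, hc7, hC7, hN7, hpm7⟩ :=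
    data_p1 hG (p := 7) (by norm_num) h (by norm_num) (by norm_num)
  have key7 : ∀ d ∈ Nat.divisors (17556 / 7), (d % 7 = 1 ∧ d ≠ 1) →
      ∀ k ∈ Nat.divisors (17556 / (d * 7)), (k ∣ 7 - 1 ∧ k ≠ 1) →
        (19 ∣ 17556 / (d * 7) / k) ∨ (11 ∣ 17556 / (d * 7) / k) ∨
          (d = 1254 ∧ 17556 / (d * 7) / k = 1) := by
    decide +kernel
  rcases key7 d7 (mem_divisors_div (by norm_num) hd_mem hmod (by norm_num)) ⟨hmod, hne1⟩ k7
    hk_mem ⟨hk, hk1⟩ with h19 | h11 | ⟨rfl, hm7⟩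
  · refine swap_false hc7 hc19 hC7 h19 hC19 ?_
    rcases hm19 with e | e | e <;> rw [e] <;> norm_num
  · exact swap_false hc7 hc11 hC7 h11 hC11 (by norm_num)
  rw [hm7] at hC7 hpm7
  -- counting
  have c19 := SS_ncard hc19 hC19 hpm19
  have c11 := SS_ncard hc11 hC11 hpm11
  have c7 := SS_ncard hc7 hC7 hpm7
  rw [hd19] at c19
  rw [hd11] at c11
  rw [hd7] at c7
  have d1 : Disjoint (SS 19 m19 : Set G) (SS 11 6) :=
    SS_disjoint hc19 hc11 hC19 hC11 (by rcases hm19 with e | e | e <;> rw [e] <;> norm_num)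
  have d2 : Disjoint (SS 19 m19 : Set G) (SS 7 1) :=
    SS_disjoint hc19 hc7 hC19 hC7 (by rcases hm19 with e | e | e <;> rw [e] <;> norm_num)
  have d3 : Disjoint (SS 11 6 : Set G) (SS 7 1) :=
    SS_disjoint hc11 hc7 hC11 hC7 (by norm_num)
  have hle := ncard_three_le _ _ _ d1 d2 d3
  rw [c19, c11, c7, h] at hle
  rcases hm19 with e | e | e <;> rw [e] at hle <;> omega

end Cfsg.Agent.Lib.Helper3.Ord17556
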