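import Mathlib
import Cfsg.Agent.Lib.Helper3.OrdTools3

/-! No simple group of order 58520 = 2^3 * 5 * 7 * 11 * 19: element count. -/

set_option autoImplicit false
set_option maxHeartbeats 4000000
set_option maxRecDepth 100000
set_option linter.unusedVariables false
set_option linter.unusedSectionVars false
set_option linter.style.haveILetI false
set_option linter.deprecated false

namespace Cfsg.Agent.Lib.Helper3.Ord58520

open Cfsg.Agent.Lib.Lead Cfsg.Agent.Lib.Lead.SmallSimple Cfsg.Agent.Lib.Lead.SmallSimple2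
  Cfsg.Agent.Lib.Lead.SylowCount Cfsg.Agent.Lib.Lead.PrimeDegree
  Cfsg.Agent.Lib.Helper7.CountTools Cfsg.Agent.Lib.Helper7.SylPar Cfsg.Agent.Lib.Helper7.Small
  Cfsg.Agent.Lib.Helper3.OrdTools

theorem not_simple {G : Type*} [Group G] [Finite G] [IsSimpleGroup G]
    (h : Nat.card G = 58520) : False := by
  have hG : ¬ IsMulCommutative G := not_comm_of_not_prime (by rw [h]; norm_num)
  haveI f19 : Fact (Nat.Prime 19) := ⟨by norm_num⟩
  haveI f11 : Fact (Nat.Prime 11) := ⟨by norm_num⟩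
  haveI f7 : Fact (Nat.Prime 7) := ⟨by norm_num⟩
  haveI f5 : Fact (Nat.Prime 5) := ⟨by norm_num⟩
  -- the prime 19
  obtain ⟨d19, hd_mem, k19, hk_mem, hmod, hne1, hfac, hk, hk1, hd19, hc19, hC19, hN19, hpm19⟩ :=
    data_p1 hG (p := 19) (by norm_num) h (by norm_num) (by norm_num)
  have key19 : ∀ d ∈ Nat.divisors (58520 / 19), (d % 19 = 1 ∧ d ≠ 1) →
      ∀ k ∈ Nat.divisors (58520 / (d * 19)), (k ∣ 19 - 1 ∧ k ≠ 1) →
        (d = 20 ∧ 7 ∣ 58520 / (d * 19) / k) ∨ (d = 77 ∧ 5 ∣ 58520 / (d * 19) / k) ∨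
          (d = 1540 ∧ 58520 / (d * 19) / k = 1) := by
    decide +kernel
  rcases key19 d19 (mem_divisors_div (by norm_num) hd_mem hmod (by norm_num)) ⟨hmod, hne1⟩ k19 hk_mem ⟨hk, hk1⟩ with
    ⟨rfl, h7⟩ | ⟨rfl, h5⟩ | ⟨rfl, hm19⟩
  · exact parA_false (p := 19) (q := 7) (by norm_num) hd19 (by norm_num) hC19 h7 (by decide)
  · exact parA_false (p := 19) (q := 5) (by norm_num) hd19 (by norm_num) hC19 h5 (by decide)
  rw [hm19] at hC19 hpm19
  clear hd_mem hk_mem hmod hne1 hfac hk hk1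
  -- the prime 11
  obtain ⟨d11, hd_mem, k11, hk_mem, hmod, hne1, hfac, hk, hk1, hd11, hc11, hC11, hN11, hpm11⟩ :=
    data_p1 hG (p := 11) (by norm_num) h (by norm_num) (by norm_num)
  have key11 : ∀ d ∈ Nat.divisors (58520 / 11), (d % 11 = 1 ∧ d ≠ 1) →
      ∀ k ∈ Nat.divisors (58520 / (d * 11)), (k ∣ 11 - 1 ∧ k ≠ 1) →
        (19 ∣ 58520 / (d * 11) / k) ∨ (d = 133 ∧ (58520 / (d * 11) / k = 20 ∨
          58520 / (d * 11) / k = 8 ∨ 58520 / (d * 11) / k = 4)) := by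
    decide +kernel
  rcases key11 d11 (mem_divisors_div (by norm_num) hd_mem hmod (by norm_num)) ⟨hmod, hne1⟩ k11 hk_mem ⟨hk, hk1⟩ with h19 | ⟨rfl, hm11⟩
  · exact swap_false hc11 hc19 hC11 h19 hC19 (by norm_num)
  obtain ⟨m11, hm11def⟩ : ∃ m11, m11 = 58520 / (133 * 11) / k11 := ⟨_, rfl⟩
  rw [← hm11def] at hC11 hpm11 hm11
  clear hd_mem hk_mem hmod hne1 hfac hk hk1
  -- the prime 7
  obtain ⟨d7, hd_mem, k7, hk_mem, hmod, hne1, hfac, hk, hk1, hd7, hc7, hC7, hN7, hpm7⟩ :=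
    data_p1 hG (p := 7) (by norm_num) h (by norm_num) (by norm_num)
  have key7 : ∀ d ∈ Nat.divisors (58520 / 7), (d % 7 = 1 ∧ d ≠ 1 ∧ 2 * 58520 ∣ d.factorial) →
      ∀ k ∈ Nat.divisors (58520 / (d * 7)), (k ∣ 7 - 1 ∧ k ≠ 1) →
        (19 ∣ 58520 / (d * 7) / k) ∨ (11 ∣ 58520 / (d * 7) / k) ∨
          (d = 4180 ∧ 58520 / (d * 7) / k = 1) := by
    decide +kernel
  rcases key7 d7 (mem_divisors_div (by norm_num) hd_mem hmod (by norm_num)) ⟨hmod, hne1, hfac⟩ k7 hk_mem ⟨hk, hk1⟩ with h19 | h11 | ⟨rfl, hm7⟩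
  · exact swap_false hc7 hc19 hC7 h19 hC19 (by norm_num)
  · refine swap_false hc7 hc11 hC7 h11 hC11 ?_
    rcases hm11 with e | e | e <;> rw [e] <;> norm_num
  rw [hm7] at hC7 hpm7
  clear hd_mem hk_mem hmod hne1 hfac hk hk1
  -- counting
  have c19 := SS_ncard hc19 hC19 hpm19
  have c11 := SS_ncard hc11 hC11 hpm11
  have c7 := SS_ncard hc7 hC7 hpm7
  rw [hd19] at c19
  rw [hd11] at c11
  rw [hd7] at c7
  have d1 : Disjoint (SS 19 1 : Set G) (SS 11 m11) :=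
    SS_disjoint hc19 hc11 hC19 hC11 (by norm_num)
  have d2 : Disjoint (SS 19 1 : Set G) (SS 7 1) :=
    SS_disjoint hc19 hc7 hC19 hC7 (by norm_num)
  have d3 : Disjoint (SS 11 m11 : Set G) (SS 7 1) :=
    SS_disjoint hc11 hc7 hC11 hC7 (by rcases hm11 with e | e | e <;> rw [e] <;> norm_num)
  by_cases h20 : m11 = 20
  · have hle := ncard_three_le _ _ _ d1 d2 d3
    rw [c19, c11, c7, h, h20] at hle
    omega
  have hm11' : m11 = 8 ∨ m11 = 4 := by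
    rcases hm11 with e | e | e
    · exact absurd e h20
    · exact Or.inl e
    · exact Or.inr e
  -- the prime 5
  obtain ⟨d5, hd_mem, k5, hk_mem, hmod, hne1, hfac, hk, hk1, hd5, hc5, hC5, hN5, hpm5⟩ :=
    data_p1 hG (p := 5) (by norm_num) h (by norm_num) (by norm_num)
  have key5 : ∀ d ∈ Nat.divisors (58520 / 5), (d % 5 = 1 ∧ d ≠ 1 ∧ 2 * 58520 ∣ d.factorial) →
      ∀ k ∈ Nat.divisors (58520 / (d * 5)), (k ∣ 5 - 1 ∧ k ≠ 1) →
        (7 ∣ 58520 / (d * 5) / k) ∨ (11 ∣ 58520 / (d * 5) / k) ∨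
          (d = 2926 ∧ (58520 / (d * 5) / k = 1 ∨ 58520 / (d * 5) / k = 2)) := by
    decide +kernel
  rcases key5 d5 (mem_divisors_div (by norm_num) hd_mem hmod (by norm_num)) ⟨hmod, hne1, hfac⟩ k5 hk_mem ⟨hk, hk1⟩ with h7 | h11 | ⟨rfl, hm5⟩
  · exact swap_false hc5 hc7 hC5 h7 hC7 (by norm_num)
  · refine swap_false hc5 hc11 hC5 h11 hC11 ?_
    rcases hm11' with e | e <;> rw [e] <;> norm_num
  obtain ⟨m5, hm5def⟩ : ∃ m5, m5 = 58520 / (2926 * 5) / k5 := ⟨_, rfl⟩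
  rw [← hm5def] at hC5 hpm5 hm5
  have c5 := SS_ncard hc5 hC5 hpm5
  rw [hd5] at c5
  have d4 : Disjoint (SS 19 1 : Set G) (SS 5 m5) :=
    SS_disjoint hc19 hc5 hC19 hC5 (by norm_num)
  have d5 : Disjoint (SS 11 m11 : Set G) (SS 5 m5) :=
    SS_disjoint hc11 hc5 hC11 hC5 (by rcases hm11' with e | e <;> rw [e] <;> norm_num)
  have d6 : Disjoint (SS 7 1 : Set G) (SS 5 m5) :=
    SS_disjoint hc7 hc5 hC7 hC5 (by norm_num)
  have hle := ncard_four_le _ _ _ _ d1 d2 d3 d4 d5 d6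
  rw [c19, c11, c7, c5, h] at hle
  rcases hm11' with e | e <;> rcases hm5 with e' | e' <;> rw [e, e'] at hle <;> omega

end Cfsg.Agent.Lib.Helper3.Ord58520
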