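import Mathlib
import Cfsg.Agent.Lib.Helper3.OrdTools3

/-! No simple group of order 7980 = 2^2 * 3 * 5 * 7 * 19: element count. -/

set_option autoImplicit false
set_option maxHeartbeats 4000000
set_option maxRecDepth 100000
set_option linter.unusedVariables false
set_option linter.unusedSectionVars false
set_option linter.style.haveILetI false
set_option linter.deprecated false

namespace Cfsg.Agent.Lib.Helper3.Ord7980

open Cfsg.Agent.Lib.Lead Cfsg.Agent.Lib.Lead.SmallSimple Cfsg.Agent.Lib.Lead.SmallSimple2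
  Cfsg.Agent.Lib.Lead.SylowCount Cfsg.Agent.Lib.Lead.PrimeDegree
  Cfsg.Agent.Lib.Helper7.CountTools Cfsg.Agent.Lib.Helper7.SylPar Cfsg.Agent.Lib.Helper7.Small
  Cfsg.Agent.Lib.Helper3.OrdTools

theorem not_simple {G : Type*} [Group G] [Finite G] [IsSimpleGroup G]
    (h : Nat.card G = 7980) : False := by
  have hG : ¬ IsMulCommutative G := not_comm_of_not_prime (by rw [h]; norm_num)
  haveI f19 : Fact (Nat.Prime 19) := ⟨by norm_num⟩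
  haveI f7 : Fact (Nat.Prime 7) := ⟨by norm_num⟩
  haveI f5 : Fact (Nat.Prime 5) := ⟨by norm_num⟩
  -- the prime 19
  obtain ⟨d19, hd_mem, k19, hk_mem, hmod, hne1, hfac, hk, hk1, hd19, hc19, hC19, hN19, hpm19⟩ :=
    data_p1 hG (p := 19) (by norm_num) h (by norm_num) (by norm_num)
  have key19 : ∀ d ∈ Nat.divisors 7980, (d % 19 = 1 ∧ d ≠ 1) →
      ∀ k ∈ Nat.divisors (7980 / (d * 19)), (k ∣ 19 - 1 ∧ k ≠ 1) →
        (d = 20 ∧ 7 ∣ 7980 / (d * 19) / k) ∨ (d = 210 ∧ 7980 / (d * 19) / k = 1) := by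
    decide +kernel
  rcases key19 d19 hd_mem ⟨hmod, hne1⟩ k19 hk_mem ⟨hk, hk1⟩ with ⟨rfl, h7⟩ | ⟨rfl, hm19⟩
  · exact parA_false (p := 19) (q := 7) (by norm_num) hd19 (by norm_num) hC19 h7 (by decide)
  rw [hm19] at hC19 hpm19
  clear hd_mem hk_mem hmod hne1 hfac hk hk1
  -- the prime 5
  obtain ⟨d5, hd_mem, k5, hk_mem, hmod, hne1, hfac, hk, hk1, hd5, hc5, hC5, hN5, hpm5⟩ :=
    data_p1 hG (p := 5) (by norm_num) h (by norm_num) (by norm_num)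
  have key5 : ∀ d ∈ Nat.divisors 7980, (d % 5 = 1 ∧ d ≠ 1 ∧ 2 * 7980 ∣ d.factorial) →
      ∀ k ∈ Nat.divisors (7980 / (d * 5)), (k ∣ 5 - 1 ∧ k ≠ 1) →
        (19 ∣ 7980 / (d * 5) / k) ∨ (d = 266 ∧ 7980 / (d * 5) / k = 3) := by
    decide +kernel
  rcases key5 d5 hd_mem ⟨hmod, hne1, hfac⟩ k5 hk_mem ⟨hk, hk1⟩ with h19 | ⟨rfl, hm5⟩
  · exact swap_false hc5 hc19 hC5 h19 hC19 (by norm_num)
  rw [hm5] at hC5 hpm5
  clear hd_mem hk_mem hmod hne1 hfac hk hk1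
  -- the prime 7
  obtain ⟨d7, hd_mem, k7, hk_mem, hmod, hne1, hfac, hk, hk1, hd7, hc7, hC7, hN7, hpm7⟩ :=
    data_p1 hG (p := 7) (by norm_num) h (by norm_num) (by norm_num)
  have key7 : ∀ d ∈ Nat.divisors 7980, (d % 7 = 1 ∧ d ≠ 1) →
      ∀ k ∈ Nat.divisors (7980 / (d * 7)), (k ∣ 7 - 1 ∧ k ≠ 1) →
        (19 ∣ 7980 / (d * 7) / k) ∨ (5 ∣ 7980 / (d * 7) / k) ∨
          (d = 190 ∧ 1 ≤ 7980 / (d * 7) / k ∧ 7980 / (d * 7) / k ≤ 3) := by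
    decide +kernel
  rcases key7 d7 hd_mem ⟨hmod, hne1⟩ k7 hk_mem ⟨hk, hk1⟩ with h19 | h5 | ⟨rfl, hm7a, hm7b⟩
  · exact swap_false hc7 hc19 hC7 h19 hC19 (by norm_num)
  · exact swap_false hc7 hc5 hC7 h5 hC5 (by norm_num)
  obtain ⟨m7, hm7def⟩ : ∃ m7, m7 = 7980 / (190 * 7) / k7 := ⟨_, rfl⟩
  rw [← hm7def] at hC7 hpm7 hm7a hm7b
  -- counting
  have c19 := SS_ncard hc19 hC19 hpm19
  have c5 := SS_ncard hc5 hC5 hpm5
  have c7 := SS_ncard hc7 hC7 hpm7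
  rw [hd19] at c19
  rw [hd5] at c5
  rw [hd7] at c7
  have d1 : Disjoint (SS 19 1 : Set G) (SS 5 3) :=
    SS_disjoint hc19 hc5 hC19 hC5 (by norm_num)
  have d2 : Disjoint (SS 19 1 : Set G) (SS 7 m7) :=
    SS_disjoint hc19 hc7 hC19 hC7 (by norm_num)
  have d3 : Disjoint (SS 5 3 : Set G) (SS 7 m7) :=
    SS_disjoint hc5 hc7 hC5 hC7 (by norm_num)
  have hle := ncard_three_le _ _ _ d1 d2 d3
  rw [c19, c5, c7, h] at hle
  have h7 : 190 * 6 ≤ 190 * (7 * m7 - m7) := by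
    apply Nat.mul_le_mul_left
    omega
  omega

end Cfsg.Agent.Lib.Helper3.Ord7980
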