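import Mathlib
import Cfsg.Agent.Lib.Helper3.OrdTools3

/-! No simple group of order 87780 = 2^2 * 3 * 5 * 7 * 11 * 19: element count. -/

set_option autoImplicit false
set_option maxHeartbeats 4000000
set_option maxRecDepth 100000
set_option linter.unusedVariables false
set_option linter.unusedSectionVars false
set_option linter.style.haveILetI false
set_option linter.deprecated false

namespace Cfsg.Agent.Lib.Helper3.Ord87780

open Cfsg.Agent.Lib.Lead Cfsg.Agent.Lib.Lead.SmallSimple Cfsg.Agent.Lib.Lead.SmallSimple2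
  Cfsg.Agent.Lib.Lead.SylowCount Cfsg.Agent.Lib.Lead.PrimeDegree
  Cfsg.Agent.Lib.Helper7.CountTools Cfsg.Agent.Lib.Helper7.SylPar Cfsg.Agent.Lib.Helper7.Small
  Cfsg.Agent.Lib.Helper3.OrdTools

theorem not_simple {G : Type*} [Group G] [Finite G] [IsSimpleGroup G]
    (h : Nat.card G = 87780) : False := by
  have hG : ¬ IsMulCommutative G := not_comm_of_not_prime (by rw [h]; norm_num)
  haveI f19 : Fact (Nat.Prime 19) := ⟨by norm_num⟩
  haveI f11 : Fact (Nat.Prime 11) := ⟨by norm_num⟩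
  haveI f7 : Fact (Nat.Prime 7) := ⟨by norm_num⟩
  haveI f5 : Fact (Nat.Prime 5) := ⟨by norm_num⟩
  -- the prime 19
  obtain ⟨d19, hd_mem, k19, hk_mem, hmod, hne1, hfac, hk, hk1, hd19, hc19, hC19, hN19, hpm19⟩ :=
    data_p1 hG (p := 19) (by norm_num) h (by norm_num) (by norm_num)
  have key19 : ∀ d ∈ Nat.divisors (87780 / 19), (d % 19 = 1 ∧ d ≠ 1) →
      ∀ k ∈ Nat.divisors (87780 / (d * 19)), (k ∣ 19 - 1 ∧ k ≠ 1) →
        (d = 20 ∧ 7 ∣ 87780 / (d * 19) / k) ∨ (d = 77 ∧ 5 ∣ 87780 / (d * 19) / k) ∨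
          (d = 210 ∧ 87780 / (d * 19) / k = 11) ∨ (d = 1540 ∧ 87780 / (d * 19) / k = 1) := by
    decide +kernel
  have hS19 : ∃ m19 : ℕ, (∀ P : Sylow 19 G,
      Nat.card (Subgroup.centralizer ((P : Subgroup G) : Set G)) = 19 * m19) ∧
      (m19 = 11 ∨ m19 = 1) ∧ 27720 ≤ (SS 19 m19 : Set G).ncard := by
    rcases key19 d19 (mem_divisors_div (by norm_num) hd_mem hmod (by norm_num)) ⟨hmod, hne1⟩ k19 hk_mem ⟨hk, hk1⟩ with
      ⟨rfl, h7⟩ | ⟨rfl, h5⟩ | ⟨rfl, hm19⟩ | ⟨rfl, hm19⟩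
    · exact (parA_false (p := 19) (q := 7) (by norm_num) hd19 (by norm_num) hC19 h7
        (by decide)).elim
    · exact (parA_false (p := 19) (q := 5) (by norm_num) hd19 (by norm_num) hC19 h5
        (by decide)).elim
    · rw [hm19] at hC19 hpm19
      refine ⟨11, hC19, Or.inl rfl, ?_⟩
      rw [SS_ncard hc19 hC19 hpm19, hd19]
      norm_num
    · rw [hm19] at hC19 hpm19
      refine ⟨1, hC19, Or.inr rfl, ?_⟩
      rw [SS_ncard hc19 hC19 hpm19, hd19]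
  obtain ⟨m19, hC19', hm19, c19⟩ := hS19
  clear hd_mem hk_mem hmod hne1 hfac hk hk1
  -- the prime 11
  obtain ⟨d11, hd_mem, k11, hk_mem, hmod, hne1, hfac, hk, hk1, hd11, hc11, hC11, hN11, hpm11⟩ :=
    data_p1 hG (p := 11) (by norm_num) h (by norm_num) (by norm_num)
  have key11 : ∀ d ∈ Nat.divisors (87780 / 11), (d % 11 = 1 ∧ d ≠ 1) →
      ∀ k ∈ Nat.divisors (87780 / (d * 11)), (k ∣ 11 - 1 ∧ k ≠ 1) →
        (d = 12 ∧ 7 ∣ 87780 / (d * 11) / k) ∨ ¬ (7 ∣ 87780 / (d * 11) / k) := by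
    decide +kernel
  have hS11 : ∃ m11 : ℕ, (∀ P : Sylow 11 G,
      Nat.card (Subgroup.centralizer ((P : Subgroup G) : Set G)) = 11 * m11) ∧ ¬ 7 ∣ m11 := by
    rcases key11 d11 (mem_divisors_div (by norm_num) hd_mem hmod (by norm_num)) ⟨hmod, hne1⟩ k11 hk_mem ⟨hk, hk1⟩ with ⟨rfl, h7⟩ | h7
    · exact (parA_false (p := 11) (q := 7) (by norm_num) hd11 (by norm_num) hC11 h7
        (by decide)).elim
    · exact ⟨_, hC11, h7⟩
  obtain ⟨m11, hC11', hm11⟩ := hS11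
  clear hd_mem hk_mem hmod hne1 hfac hk hk1
  -- the prime 5
  obtain ⟨d5, hd_mem, k5, hk_mem, hmod, hne1, hfac, hk, hk1, hd5, hc5, hC5, hN5, hpm5⟩ :=
    data_p1 hG (p := 5) (by norm_num) h (by norm_num) (by norm_num)
  have key5 : ∀ d ∈ Nat.divisors (87780 / 5), (d % 5 = 1 ∧ d ≠ 1 ∧ 19 ≤ d) →
      ∀ k ∈ Nat.divisors (87780 / (d * 5)), (k ∣ 5 - 1 ∧ k ≠ 1) →
        (19 ∣ 87780 / (d * 5) / k) ∨ (d = 266 ∧ 87780 / (d * 5) / k = 33) ∨
          (d = 2926 ∧ 87780 / (d * 5) / k = 3) := by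
    decide +kernel
  have hS5 : ∃ m5 : ℕ, (∀ P : Sylow 5 G,
      Nat.card (Subgroup.centralizer ((P : Subgroup G) : Set G)) = 5 * m5) ∧
      (m5 = 33 ∨ m5 = 3) ∧ (SS 5 m5 : Set G).ncard = 35112 := by
    have h19le : 19 ≤ d5 :=
      (Nat.Prime.dvd_factorial (by norm_num : Nat.Prime 19)).mp
        (dvd_trans (by norm_num : 19 ∣ 2 * 87780) hfac)
    rcases key5 d5 (mem_divisors_div (by norm_num) hd_mem hmod (by norm_num)) ⟨hmod, hne1, h19le⟩ k5 hk_mem ⟨hk, hk1⟩ with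
      h19 | ⟨rfl, hm5⟩ | ⟨rfl, hm5⟩
    · exfalso
      refine swap_false hc5 hc19 hC5 h19 hC19' ?_
      rcases hm19 with e | e <;> rw [e] <;> norm_num
    · rw [hm5] at hC5 hpm5
      refine ⟨33, hC5, Or.inl rfl, ?_⟩
      rw [SS_ncard hc5 hC5 hpm5, hd5]
    · rw [hm5] at hC5 hpm5
      refine ⟨3, hC5, Or.inr rfl, ?_⟩
      rw [SS_ncard hc5 hC5 hpm5, hd5]
  obtain ⟨m5, hC5', hm5, c5⟩ := hS5
  clear hd_mem hk_mem hmod hne1 hfac hk hk1
  -- the prime 7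
  obtain ⟨d7, hd_mem, k7, hk_mem, hmod, hne1, hfac, hk, hk1, hd7, hc7, hC7, hN7, hpm7⟩ :=
    data_p1 hG (p := 7) (by norm_num) h (by norm_num) (by norm_num)
  have key7 : ∀ d ∈ Nat.divisors (87780 / 7), (d % 7 = 1 ∧ d ≠ 1 ∧ 19 ≤ d) →
      ∀ k ∈ Nat.divisors (87780 / (d * 7)), (k ∣ 7 - 1 ∧ k ≠ 1) →
        (19 ∣ 87780 / (d * 7) / k) ∨ (11 ∣ 87780 / (d * 7) / k) ∨
          (5 ∣ 87780 / (d * 7) / k) ∨ (d = 4180 ∧ 87780 / (d * 7) / k = 1) := by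
    decide +kernel
  have h19le : 19 ≤ d7 :=
    (Nat.Prime.dvd_factorial (by norm_num : Nat.Prime 19)).mp
      (dvd_trans (by norm_num : 19 ∣ 2 * 87780) hfac)
  rcases key7 d7 (mem_divisors_div (by norm_num) hd_mem hmod (by norm_num)) ⟨hmod, hne1, h19le⟩ k7 hk_mem ⟨hk, hk1⟩ with
    h19 | h11 | h5 | ⟨rfl, hm7⟩
  · refine swap_false hc7 hc19 hC7 h19 hC19' ?_
    rcases hm19 with e | e <;> rw [e] <;> norm_num
  · refine swap_false hc7 hc11 hC7 h11 hC11' ?_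
    intro h7
    rcases (Nat.Prime.dvd_mul (by norm_num : Nat.Prime 7)).mp h7 with h8 | h8
    · norm_num at h8
    · exact hm11 h8
  · refine swap_false hc7 hc5 hC7 h5 hC5' ?_
    rcases hm5 with e | e <;> rw [e] <;> norm_num
  rw [hm7] at hC7 hpm7
  -- counting
  have c7 := SS_ncard hc7 hC7 hpm7
  rw [hd7] at c7
  have d1 : Disjoint (SS 5 m5 : Set G) (SS 7 1) :=
    SS_disjoint hc5 hc7 hC5' hC7 (by rcases hm5 with e | e <;> rw [e] <;> norm_num)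
  have d2 : Disjoint (SS 5 m5 : Set G) (SS 19 m19) :=
    SS_disjoint hc5 hc19 hC5' hC19' (by rcases hm5 with e | e <;> rw [e] <;> norm_num)
  have d3 : Disjoint (SS 7 1 : Set G) (SS 19 m19) :=
    SS_disjoint hc7 hc19 hC7 hC19' (by norm_num)
  have hle := ncard_three_le _ _ _ d1 d2 d3
  rw [c5, c7, h] at hle
  omega

end Cfsg.Agent.Lib.Helper3.Ord87780
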