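import Mathlib
import Cfsg.Agent.Lib.Helper3.Ord7980
import Cfsg.Agent.Lib.Helper3.Ord15960
import Cfsg.Agent.Lib.Helper3.Ord17556
import Cfsg.Agent.Lib.Helper3.Ord35112
import Cfsg.Agent.Lib.Helper3.Ord58520
import Cfsg.Agent.Lib.Helper3.Ord87780

/-! No nonabelian simple group has order `19 * d` for a proper divisor `d` of `9240`. -/

set_option autoImplicit false
set_option maxHeartbeats 4000000
set_option maxRecDepth 100000
set_option linter.unusedVariables false
set_option linter.unusedSectionVars false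
set_option linter.style.haveILetI false
set_option linter.deprecated false

namespace Cfsg.Agent.Lib.Helper3.J1Table

open Cfsg.Agent.Lib.Helper7.Small

theorem table {H : Type*} [Group H] [Finite H] [IsSimpleGroup H] (hH : ¬ IsMulCommutative H)
    {d : ℕ} (hd : d ∈ Nat.divisors 9240) (hd' : d ≠ 9240) (hn : Nat.card H = 19 * d) :
    False := by
  have key : ∀ d ∈ Nat.divisors 9240, d = 1 ∨ d = 2 ∨ d = 3 ∨ d = 4 ∨ d = 5 ∨ d = 6 ∨ d = 7 ∨ d = 8 ∨ d = 10 ∨ d = 11 ∨ d = 12 ∨
      d = 14 ∨ d = 15 ∨ d = 20 ∨ d = 21 ∨ d = 22 ∨ d = 24 ∨ d = 28 ∨ d = 30 ∨ d = 33 ∨ d = 35 ∨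
      d = 40 ∨ d = 42 ∨ d = 44 ∨ d = 55 ∨ d = 56 ∨ d = 60 ∨ d = 66 ∨ d = 70 ∨ d = 77 ∨ d = 84 ∨
      d = 88 ∨ d = 105 ∨ d = 110 ∨ d = 120 ∨ d = 132 ∨ d = 140 ∨ d = 154 ∨ d = 165 ∨ d = 168 ∨ d
      = 210 ∨ d = 220 ∨ d = 231 ∨ d = 264 ∨ d = 280 ∨ d = 308 ∨ d = 330 ∨ d = 385 ∨ d = 420 ∨ d
      = 440 ∨ d = 462 ∨ d = 616 ∨ d = 660 ∨ d = 770 ∨ d = 840 ∨ d = 924 ∨ d = 1155 ∨ d = 1320 ∨
      d = 1540 ∨ d = 1848 ∨ d = 2310 ∨ d = 3080 ∨ d = 4620 ∨ d = 9240 := by
    decide +kernel
  rcases key d hd with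
    rfl | rfl | rfl | rfl | rfl | rfl | rfl | rfl | rfl | rfl | rfl | rfl | rfl | rfl | rfl |
    rfl | rfl | rfl | rfl | rfl | rfl | rfl | rfl | rfl | rfl | rfl | rfl | rfl | rfl | rfl |
    rfl | rfl | rfl | rfl | rfl | rfl | rfl | rfl | rfl | rfl | rfl | rfl | rfl | rfl | rfl |
    rfl | rfl | rfl | rfl | rfl | rfl | rfl | rfl | rfl | rfl | rfl | rfl | rfl | rfl | rfl |
    rfl | rfl | rfl | rfl
  · exact kill_pp hH (p := 19) (k := 1) (by norm_num) (hn.trans (by norm_num : (19 * 1 : ℕ) = 19 ^ 1))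
  · exact kill_pq hH (p := 2) (q := 19) (a := 1) (b := 1) (by norm_num) (by norm_num) (hn.trans (by norm_num : (19 * 2 : ℕ) = 2 ^ 1 * 19 ^ 1))
  · exact kill_pq hH (p := 3) (q := 19) (a := 1) (b := 1) (by norm_num) (by norm_num) (hn.trans (by norm_num : (19 * 3 : ℕ) = 3 ^ 1 * 19 ^ 1))
  · exact kill_pq hH (p := 2) (q := 19) (a := 2) (b := 1) (by norm_num) (by norm_num) (hn.trans (by norm_num : (19 * 4 : ℕ) = 2 ^ 2 * 19 ^ 1))
  · exact kill_pq hH (p := 5) (q := 19) (a := 1) (b := 1) (by norm_num) (by norm_num) (hn.trans (by norm_num : (19 * 5 : ℕ) = 5 ^ 1 * 19 ^ 1))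
  · exact kill_two_odd (hn.trans (by norm_num : (19 * 6 : ℕ) = 114)) (by norm_num) (by norm_num)
  · exact kill_pq hH (p := 7) (q := 19) (a := 1) (b := 1) (by norm_num) (by norm_num) (hn.trans (by norm_num : (19 * 7 : ℕ) = 7 ^ 1 * 19 ^ 1))
  · exact kill_pq hH (p := 2) (q := 19) (a := 3) (b := 1) (by norm_num) (by norm_num) (hn.trans (by norm_num : (19 * 8 : ℕ) = 2 ^ 3 * 19 ^ 1))
  · exact kill_two_odd (hn.trans (by norm_num : (19 * 10 : ℕ) = 190)) (by norm_num) (by norm_num)
  · exact kill_pq hH (p := 11) (q := 19) (a := 1) (b := 1) (by norm_num) (by norm_num) (hn.trans (by norm_num : (19 * 11 : ℕ) = 11 ^ 1 * 19 ^ 1))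
  · exact kill_sylow hH (p := 19) (q := 2) (by norm_num) (hn.trans (by norm_num : (19 * 12 : ℕ) = 228)) (by norm_num) (by norm_num) (by norm_num) (by norm_num) (by decide +kernel)
  · exact kill_two_odd (hn.trans (by norm_num : (19 * 14 : ℕ) = 266)) (by norm_num) (by norm_num)
  · exact kill_sylow hH (p := 19) (q := 3) (by norm_num) (hn.trans (by norm_num : (19 * 15 : ℕ) = 285)) (by norm_num) (by norm_num) (by norm_num) (by norm_num) (by decide +kernel)
  · exact kill_par hH (p := 19) (by norm_num) (hn.trans (by norm_num : (19 * 20 : ℕ) = 380)) (by norm_num) (by norm_num) (by norm_num) (by decide +kernel)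
  · exact kill_sylow hH (p := 19) (q := 3) (by norm_num) (hn.trans (by norm_num : (19 * 21 : ℕ) = 399)) (by norm_num) (by norm_num) (by norm_num) (by norm_num) (by decide +kernel)
  · exact kill_two_odd (hn.trans (by norm_num : (19 * 22 : ℕ) = 418)) (by norm_num) (by norm_num)
  · exact kill_sylow hH (p := 19) (q := 2) (by norm_num) (hn.trans (by norm_num : (19 * 24 : ℕ) = 456)) (by norm_num) (by norm_num) (by norm_num) (by norm_num) (by decide +kernel)
  · exact kill_sylow hH (p := 19) (q := 2) (by norm_num) (hn.trans (by norm_num : (19 * 28 : ℕ) = 532)) (by norm_num) (by norm_num) (by norm_num) (by norm_num) (by decide +kernel)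
  · exact kill_two_odd (hn.trans (by norm_num : (19 * 30 : ℕ) = 570)) (by norm_num) (by norm_num)
  · exact kill_sylow hH (p := 19) (q := 3) (by norm_num) (hn.trans (by norm_num : (19 * 33 : ℕ) = 627)) (by norm_num) (by norm_num) (by norm_num) (by norm_num) (by decide +kernel)
  · exact kill_sylow hH (p := 19) (q := 5) (by norm_num) (hn.trans (by norm_num : (19 * 35 : ℕ) = 665)) (by norm_num) (by norm_num) (by norm_num) (by norm_num) (by decide +kernel)
  · exact kill_par hH (p := 19) (by norm_num) (hn.trans (by norm_num : (19 * 40 : ℕ) = 760)) (by norm_num) (by norm_num) (by norm_num) (by decide +kernel)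
  · exact kill_two_odd (hn.trans (by norm_num : (19 * 42 : ℕ) = 798)) (by norm_num) (by norm_num)
  · exact kill_sylow hH (p := 19) (q := 2) (by norm_num) (hn.trans (by norm_num : (19 * 44 : ℕ) = 836)) (by norm_num) (by norm_num) (by norm_num) (by norm_num) (by decide +kernel)
  · exact kill_sylow hH (p := 19) (q := 5) (by norm_num) (hn.trans (by norm_num : (19 * 55 : ℕ) = 1045)) (by norm_num) (by norm_num) (by norm_num) (by norm_num) (by decide +kernel)
  · exact kill_sylow hH (p := 19) (q := 2) (by norm_num) (hn.trans (by norm_num : (19 * 56 : ℕ) = 1064)) (by norm_num) (by norm_num) (by norm_num) (by norm_num) (by decide +kernel)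
  · exact kill_par hH (p := 5) (by norm_num) (hn.trans (by norm_num : (19 * 60 : ℕ) = 1140)) (by norm_num) (by norm_num) (by norm_num) (by decide +kernel)
  · exact kill_two_odd (hn.trans (by norm_num : (19 * 66 : ℕ) = 1254)) (by norm_num) (by norm_num)
  · exact kill_two_odd (hn.trans (by norm_num : (19 * 70 : ℕ) = 1330)) (by norm_num) (by norm_num)
  · exact kill_sylow hH (p := 7) (q := 11) (by norm_num) (hn.trans (by norm_num : (19 * 77 : ℕ) = 1463)) (by norm_num) (by norm_num) (by norm_num) (by norm_num) (by decide +kernel)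
  · exact kill_sylow hH (p := 19) (q := 2) (by norm_num) (hn.trans (by norm_num : (19 * 84 : ℕ) = 1596)) (by norm_num) (by norm_num) (by norm_num) (by norm_num) (by decide +kernel)
  · exact kill_sylow hH (p := 19) (q := 2) (by norm_num) (hn.trans (by norm_num : (19 * 88 : ℕ) = 1672)) (by norm_num) (by norm_num) (by norm_num) (by norm_num) (by decide +kernel)
  · exact kill_sylow hH (p := 19) (q := 3) (by norm_num) (hn.trans (by norm_num : (19 * 105 : ℕ) = 1995)) (by norm_num) (by norm_num) (by norm_num) (by norm_num) (by decide +kernel)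
  · exact kill_two_odd (hn.trans (by norm_num : (19 * 110 : ℕ) = 2090)) (by norm_num) (by norm_num)
  · exact kill_par hH (p := 19) (by norm_num) (hn.trans (by norm_num : (19 * 120 : ℕ) = 2280)) (by norm_num) (by norm_num) (by norm_num) (by decide +kernel)
  · exact kill_sylow hH (p := 19) (q := 2) (by norm_num) (hn.trans (by norm_num : (19 * 132 : ℕ) = 2508)) (by norm_num) (by norm_num) (by norm_num) (by norm_num) (by decide +kernel)
  · exact kill_par hH (p := 19) (by norm_num) (hn.trans (by norm_num : (19 * 140 : ℕ) = 2660)) (by norm_num) (by norm_num) (by norm_num) (by decide +kernel)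
  · exact kill_two_odd (hn.trans (by norm_num : (19 * 154 : ℕ) = 2926)) (by norm_num) (by norm_num)
  · exact kill_sylow hH (p := 19) (q := 3) (by norm_num) (hn.trans (by norm_num : (19 * 165 : ℕ) = 3135)) (by norm_num) (by norm_num) (by norm_num) (by norm_num) (by decide +kernel)
  · exact kill_sylow hH (p := 19) (q := 2) (by norm_num) (hn.trans (by norm_num : (19 * 168 : ℕ) = 3192)) (by norm_num) (by norm_num) (by norm_num) (by norm_num) (by decide +kernel)
  · exact kill_two_odd (hn.trans (by norm_num : (19 * 210 : ℕ) = 3990)) (by norm_num) (by norm_num)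
  · exact kill_sylow hH (p := 11) (q := 2) (by norm_num) (hn.trans (by norm_num : (19 * 220 : ℕ) = 4180)) (by norm_num) (by norm_num) (by norm_num) (by norm_num) (by decide +kernel)
  · exact kill_par hH (p := 11) (by norm_num) (hn.trans (by norm_num : (19 * 231 : ℕ) = 4389)) (by norm_num) (by norm_num) (by norm_num) (by decide +kernel)
  · exact kill_sylow hH (p := 19) (q := 2) (by norm_num) (hn.trans (by norm_num : (19 * 264 : ℕ) = 5016)) (by norm_num) (by norm_num) (by norm_num) (by norm_num) (by decide +kernel)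
  · exact kill_par hH (p := 19) (by norm_num) (hn.trans (by norm_num : (19 * 280 : ℕ) = 5320)) (by norm_num) (by norm_num) (by norm_num) (by decide +kernel)
  · exact kill_par hH (p := 7) (by norm_num) (hn.trans (by norm_num : (19 * 308 : ℕ) = 5852)) (by norm_num) (by norm_num) (by norm_num) (by decide +kernel)
  · exact kill_two_odd (hn.trans (by norm_num : (19 * 330 : ℕ) = 6270)) (by norm_num) (by norm_num)
  · exact kill_sylow hH (p := 7) (q := 5) (by norm_num) (hn.trans (by norm_num : (19 * 385 : ℕ) = 7315)) (by norm_num) (by norm_num) (by norm_num) (by norm_num) (by decide +kernel)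
  · exact Cfsg.Agent.Lib.Helper3.Ord7980.not_simple (hn.trans (by norm_num : (19 * 420 : ℕ) = 7980))
  · exact kill_par hH (p := 19) (by norm_num) (hn.trans (by norm_num : (19 * 440 : ℕ) = 8360)) (by norm_num) (by norm_num) (by norm_num) (by decide +kernel)
  · exact kill_two_odd (hn.trans (by norm_num : (19 * 462 : ℕ) = 8778)) (by norm_num) (by norm_num)
  · exact kill_par hH (p := 7) (by norm_num) (hn.trans (by norm_num : (19 * 616 : ℕ) = 11704)) (by norm_num) (by norm_num) (by norm_num) (by decide +kernel)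
  · exact kill_sylow hH (p := 11) (q := 2) (by norm_num) (hn.trans (by norm_num : (19 * 660 : ℕ) = 12540)) (by norm_num) (by norm_num) (by norm_num) (by norm_num) (by decide +kernel)
  · exact kill_two_odd (hn.trans (by norm_num : (19 * 770 : ℕ) = 14630)) (by norm_num) (by norm_num)
  · exact Cfsg.Agent.Lib.Helper3.Ord15960.not_simple (hn.trans (by norm_num : (19 * 840 : ℕ) = 15960))
  · exact Cfsg.Agent.Lib.Helper3.Ord17556.not_simple (hn.trans (by norm_num : (19 * 924 : ℕ) = 17556))
  · exact kill_par hH (p := 19) (by norm_num) (hn.trans (by norm_num : (19 * 1155 : ℕ) = 21945)) (by norm_num) (by norm_num) (by norm_num) (by decide +kernel)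
  · exact kill_par hH (p := 19) (by norm_num) (hn.trans (by norm_num : (19 * 1320 : ℕ) = 25080)) (by norm_num) (by norm_num) (by norm_num) (by decide +kernel)
  · exact kill_par hH (p := 19) (by norm_num) (hn.trans (by norm_num : (19 * 1540 : ℕ) = 29260)) (by norm_num) (by norm_num) (by norm_num) (by decide +kernel)
  · exact Cfsg.Agent.Lib.Helper3.Ord35112.not_simple (hn.trans (by norm_num : (19 * 1848 : ℕ) = 35112))
  · exact kill_two_odd (hn.trans (by norm_num : (19 * 2310 : ℕ) = 43890)) (by norm_num) (by norm_num)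
  · exact Cfsg.Agent.Lib.Helper3.Ord58520.not_simple (hn.trans (by norm_num : (19 * 3080 : ℕ) = 58520))
  · exact Cfsg.Agent.Lib.Helper3.Ord87780.not_simple (hn.trans (by norm_num : (19 * 4620 : ℕ) = 87780))
  · exact absurd rfl hd'

end Cfsg.Agent.Lib.Helper3.J1Table
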