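import Mathlib
import Cfsg.Agent.Lib.Helper3.J1Red2
import Cfsg.Agent.Lib.Helper3.J1Table

/-! The inductive step and the claim for groups of order dividing 175560. -/

set_option autoImplicit false
set_option maxHeartbeats 4000000
set_option maxRecDepth 100000
set_option linter.unusedVariables false
set_option linter.unusedSectionVars false
set_option linter.style.haveILetI false
set_option linter.deprecated false

universe u

namespace Cfsg.Agent.Lib.Helper3.J1Red

open Cfsg.Agent.Lib.Lead.SylowCount

local instance fact19'' : Fact (Nat.Prime 19) := ⟨by norm_num⟩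

variable {H : Type u} [Group H] [Finite H]

/-- Hard case, one prime: some Sylow `r`-subgroup centralizes `P`. -/
lemma ns_or_centralizes (hdiv : Nat.card H ∣ 175560) (IH : IHyp H) (N : Subgroup H) [N.Normal]
    (hidx : Nat.card H = 19 * Nat.card N) (P : Sylow 19 H) {r : ℕ} [hr : Fact r.Prime]
    (hr19 : r ≠ 19) :
    NS H ∨ ∃ R : Sylow r H,
      (R : Subgroup H) ≤ Subgroup.centralizer ((P : Subgroup H) : Set H) := by
  have h19H : 19 ∣ Nat.card H := Dvd.intro _ hidx.symm
  have hPcard := card_sylow19' hdiv h19H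
  obtain R₀ : Sylow r H := default
  by_cases hR : (R₀ : Subgroup H) = ⊥
  · right
    exact ⟨R₀, by rw [hR]; exact bot_le⟩
  obtain ⟨a, ha⟩ := (R₀.isPGroup').exists_card_eq
  have hcop : Nat.Coprime 19 (r ^ a) :=
    Nat.Coprime.pow_right a ((Nat.coprime_primes (by norm_num) hr.out).mpr (Ne.symm hr19))
  have h19R : ¬ 19 ∣ Nat.card (R₀ : Subgroup H) := by
    rw [ha]
    intro h
    have h1 := Nat.Coprime.eq_one_of_dvd hcop h
    norm_num at h1
  by_cases hL : Subgroup.normalizer ((R₀ : Subgroup H) : Set H) = ⊤
  · haveI : (R₀ : Subgroup H).Normal := Subgroup.normalizer_eq_top_iff.mp hL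
    left
    rcases ns_or_index hdiv IH h19H (R₀ : Subgroup H) hR h19R with h | h
    · exact h
    · rw [ha] at h
      exact ns_of_card_eq hdiv hr.out h
  · right
    have h19L := dvd_card_normalizer N hidx hr19 R₀
    have hLdvd : Nat.card (Subgroup.normalizer ((R₀ : Subgroup H) : Set H)) ∣ Nat.card H :=
      Subgroup.card_subgroup_dvd_card _
    have hNSL : NS (Subgroup.normalizer ((R₀ : Subgroup H) : Set H)) :=
      IH _ hLdvd (card_lt_of_ne_top _ hL)
    obtain P₁ : Sylow 19 (Subgroup.normalizer ((R₀ : Subgroup H) : Set H)) := default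
    have hP₁n := hNSL P₁
    have hP₁card := card_sylow19' (hLdvd.trans hdiv) h19L P₁
    obtain ⟨A, hAdef⟩ : ∃ A : Subgroup H, A = (P₁ : Subgroup
      (Subgroup.normalizer ((R₀ : Subgroup H) : Set H))).map
        (Subgroup.normalizer ((R₀ : Subgroup H) : Set H)).subtype := ⟨_, rfl⟩
    have hAcard : Nat.card A = 19 := by
      rw [hAdef, Subgroup.card_map_of_injective (Subgroup.subtype_injective _)]
      exact hP₁card
    have hLA : Subgroup.normalizer ((R₀ : Subgroup H) : Set H) ≤
        Subgroup.normalizer (A : Set H) := by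
      have h1 := Subgroup.le_normalizer_map (H := (P₁ : Subgroup
        (Subgroup.normalizer ((R₀ : Subgroup H) : Set H))))
        (Subgroup.normalizer ((R₀ : Subgroup H) : Set H)).subtype
      rw [Subgroup.normalizer_eq_top_iff.mpr hP₁n, ← MonoidHom.range_eq_map,
        Subgroup.range_subtype, ← hAdef] at h1
      exact h1
    have hAL : A ≤ Subgroup.normalizer ((R₀ : Subgroup H) : Set H) := by
      rw [hAdef]; exact Subgroup.map_subtype_le _
    have hRL : (R₀ : Subgroup H) ≤ Subgroup.normalizer ((R₀ : Subgroup H) : Set H) :=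
      Subgroup.le_normalizer
    have hdisj : A ⊓ (R₀ : Subgroup H) = ⊥ :=
      Subgroup.inf_eq_bot_of_coprime (by rw [hAcard, ha]; exact hcop)
    have hcomm : ∀ x ∈ A, ∀ y ∈ (R₀ : Subgroup H), x * y = y * x := fun x hx y hy =>
      commute_of_normalize hAL (hRL.trans hLA) hdisj hx hy
    obtain ⟨S₁, hS₁⟩ := (IsPGroup.of_card (n := 1) (by rw [hAcard, pow_one]) :
      IsPGroup 19 A).exists_le_sylow
    have hAS₁ : A = (S₁ : Subgroup H) :=
      Subgroup.eq_of_le_of_card_ge hS₁ (by rw [hAcard, hPcard S₁])
    obtain ⟨g, hg⟩ := MulAction.exists_smul_eq H S₁ P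
    refine ⟨g • R₀, ?_⟩
    intro x hx
    rw [Sylow.coe_subgroup_smul, Subgroup.mem_smul_pointwise_iff_exists] at hx
    obtain ⟨b, hb, rfl⟩ := hx
    rw [Subgroup.mem_centralizer_iff]
    intro y hy
    have hy' : y ∈ (P : Subgroup H) := hy
    rw [← hg, Sylow.coe_subgroup_smul, Subgroup.mem_smul_pointwise_iff_exists] at hy'
    obtain ⟨c, hc, rfl⟩ := hy'
    have hcA : c ∈ A := by rw [hAS₁]; exact hc
    have h2 := hcomm c hcA b hb
    simp only [MulAut.smul_def, MulAut.conj_apply]
    calc g * c * g⁻¹ * (g * b * g⁻¹) = g * (c * b) * g⁻¹ := by group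
      _ = g * (b * c) * g⁻¹ := by rw [h2]
      _ = g * b * g⁻¹ * (g * c * g⁻¹) := by group

/-- Hard case: a normal subgroup of index 19. -/
lemma ns_of_index (hdiv : Nat.card H ∣ 175560) (IH : IHyp H) (N : Subgroup H) [N.Normal]
    (hidx : Nat.card H = 19 * Nat.card N) : NS H := by
  by_contra hns
  have h19H : 19 ∣ Nat.card H := Dvd.intro _ hidx.symm
  have hPcard := card_sylow19' hdiv h19H
  obtain P : Sylow 19 H := default
  have hall : ∀ r : ℕ, r.Prime → r ^ (Nat.card H).factorization r ∣
      Nat.card (Subgroup.centralizer ((P : Subgroup H) : Set H)) := by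
    intro r hr
    haveI : Fact r.Prime := ⟨hr⟩
    by_cases h19 : r = 19
    · subst h19
      have hPC : (P : Subgroup H) ≤ Subgroup.centralizer ((P : Subgroup H) : Set H) := by
        intro x hx
        rw [Subgroup.mem_centralizer_iff]
        intro y hy
        exact commute_of_card_prime (P : Subgroup H) (hPcard P) hy hx
      rw [← P.card_eq_multiplicity]
      exact Subgroup.card_dvd_of_le hPC
    · rcases ns_or_centralizes hdiv IH N hidx P h19 with h | ⟨R, hR⟩
      · exact absurd h hns
      · rw [← R.card_eq_multiplicity]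
        exact Subgroup.card_dvd_of_le hR
  have hH0 : Nat.card H ≠ 0 := Nat.card_pos.ne'
  have hC0 : Nat.card (Subgroup.centralizer ((P : Subgroup H) : Set H)) ≠ 0 := Nat.card_pos.ne'
  have hdvd : Nat.card H ∣ Nat.card (Subgroup.centralizer ((P : Subgroup H) : Set H)) :=
    (Nat.factorization_prime_le_iff_dvd hH0 hC0).mp
      (fun r hr => (hr.pow_dvd_iff_le_factorization hC0).mp (hall r hr))
  have hCtop : Subgroup.centralizer ((P : Subgroup H) : Set H) = ⊤ :=
    Subgroup.eq_top_of_le_card _ (Nat.le_of_dvd Nat.card_pos hdvd)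
  apply hns
  have hNtop : Subgroup.normalizer ((P : Subgroup H) : Set H) = ⊤ := by
    apply top_le_iff.mp
    rw [← hCtop]
    exact Subgroup.centralizer_le_normalizer _
  haveI : (P : Subgroup H).Normal := Subgroup.normalizer_eq_top_iff.mp hNtop
  exact ns_of_normal_card (P : Subgroup H) (hPcard P) hPcard

/-- The inductive step. -/
theorem step (hdiv : Nat.card H ∣ 175560) (IH : IHyp H) : IsSimpleGroup H ∨ NS H := by
  by_cases h19H : 19 ∣ Nat.card H
  swap
  · right; exact ns_of_not_dvd hdiv h19H
  by_cases hs : IsSimpleGroup H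
  · left; exact hs
  right
  haveI : Nontrivial H := by
    apply (Finite.one_lt_card_iff_nontrivial).mp
    have := Nat.le_of_dvd Nat.card_pos h19H
    omega
  obtain ⟨N, hNn, hNbot, hNtop⟩ : ∃ N : Subgroup H, N.Normal ∧ N ≠ ⊥ ∧ N ≠ ⊤ := by
    by_contra hcon
    push_neg at hcon
    apply hs
    exact { exists_pair_ne := exists_pair_ne H
            eq_bot_or_eq_top_of_normal := fun N hN => by
              by_cases h : N = ⊥
              · left; exact h
              · right; exact hcon N hN h }
  haveI := hNn
  by_cases h19N : 19 ∣ Nat.card N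
  · exact ns_of_normal_dvd hdiv IH N hNtop h19N
  · rcases ns_or_index hdiv IH h19H N hNbot h19N with h | h
    · exact h
    · exact ns_of_index hdiv IH N h

/-- Every group whose order is a proper divisor of 175560 has a normal Sylow 19-subgroup. -/
theorem claim : ∀ n : ℕ, ∀ (K : Type u) [Group K] [Finite K], Nat.card K = n → n ∣ 175560 →
    n ≠ 175560 → NS K := by
  intro n
  induction n using Nat.strong_induction_on with
  | _ n ih =>
    intro K _ _ hK hdvd hne
    have hdvdK : Nat.card K ∣ 175560 := by rw [hK]; exact hdvd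
    have IH : IHyp K := by
      intro K' _ _ hd hlt
      rw [hK] at hd hlt
      refine ih (Nat.card K') hlt K' rfl (hd.trans hdvd) ?_
      intro h
      rw [h] at hlt
      have := Nat.le_of_dvd (by norm_num) hdvd
      omega
    rcases step hdvdK IH with hs | h
    · by_cases h19 : 19 ∣ Nat.card K
      swap
      · exact ns_of_not_dvd hdvdK h19
      by_cases hc : IsMulCommutative K
      · intro P
        refine ⟨fun x hx g => ?_⟩
        have h1 : g * x = x * g := hc.is_comm.comm g x
        rw [h1, mul_assoc, mul_inv_cancel, mul_one]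
        exact hx
      · exfalso
        obtain ⟨d, hd⟩ := h19
        have hd9240 : d ∣ 9240 := by
          have h1 : 19 * d ∣ 19 * 9240 := by rw [← hd]; exact hdvdK
          exact (Nat.mul_dvd_mul_iff_left (by norm_num)).mp h1
        have hdne : d ≠ 9240 := by
          intro h
          apply hne
          rw [← hK, hd, h]
        haveI := hs
        exact Cfsg.Agent.Lib.Helper3.J1Table.table hc
          (Nat.mem_divisors.mpr ⟨hd9240, by norm_num⟩) hdne hd
    · exact h

end Cfsg.Agent.Lib.Helper3.J1Red
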