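import Mathlib
import Cfsg.Prelude.Def_Transfer
import Cfsg.Agent.S3277
import Cfsg.Agent.Lib.Lead.ConjCount

set_option autoImplicit false
set_option maxHeartbeats 4000000
set_option maxRecDepth 100000
set_option linter.unusedVariables false
set_option linter.unusedSectionVars false
set_option linter.style.longLine false
set_option linter.style.haveILetI false
set_option linter.deprecated false

/-!
# A group with a self-centralizing four-group and order divisible by five is `A₅`
-/

namespace Cfsg.Agent.Lib.Helper3.J2S5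

variable {X : Type*} [Group X]

/-- an involution acting without fixed points on an odd normal subgroup inverts it -/
theorem inverts_of_fpf [Finite X] (N : Subgroup X) [N.Normal] (v : X) (hv2 : v * v = 1)
    (hfpf : ∀ n ∈ N, n * v = v * n → n = 1) : ∀ n ∈ N, v * n * v⁻¹ = n⁻¹ := by
  classical
  let ψ : ↥N → ↥N := fun n => ⟨(n : X)⁻¹ * (v * n * v⁻¹),
    N.mul_mem (N.inv_mem n.2) (Subgroup.Normal.conj_mem inferInstance _ n.2 v)⟩
  have hinj : Function.Injective ψ := by
    intro n m hnm
    have h1 : (n : X)⁻¹ * (v * n * v⁻¹) = (m : X)⁻¹ * (v * m * v⁻¹) := congrArg Subtype.val hnm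
    have h2 : ((m : X) * (n : X)⁻¹) * v = v * ((m : X) * (n : X)⁻¹) := by
      have h3 : (n : X)⁻¹ * v * n = (m : X)⁻¹ * v * m := by
        calc (n : X)⁻¹ * v * n = ((n : X)⁻¹ * (v * n * v⁻¹)) * v := by group
          _ = ((m : X)⁻¹ * (v * m * v⁻¹)) * v := by rw [h1]
          _ = (m : X)⁻¹ * v * m := by group
      calc ((m : X) * (n : X)⁻¹) * v = m * ((n : X)⁻¹ * v * n) * (n : X)⁻¹ := by group
        _ = m * ((m : X)⁻¹ * v * m) * (n : X)⁻¹ := by rw [h3]
        _ = v * ((m : X) * (n : X)⁻¹) := by group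
    have h4 := hfpf _ (N.mul_mem m.2 (N.inv_mem n.2)) h2
    apply Subtype.ext
    exact (mul_inv_eq_one.mp h4).symm
  have hsurj : Function.Surjective ψ := Finite.injective_iff_surjective.mp hinj
  intro n hn
  obtain ⟨m, hm⟩ := hsurj ⟨n, hn⟩
  have h1 : (m : X)⁻¹ * (v * m * v⁻¹) = n := congrArg Subtype.val hm
  have hv : v⁻¹ = v := inv_eq_of_mul_eq_one_left hv2
  rw [← h1]
  calc v * ((m : X)⁻¹ * (v * m * v⁻¹)) * v⁻¹ = (v * (m : X)⁻¹ * v⁻¹) * ((v * v) * m * (v⁻¹ * v⁻¹)) := by
        group
    _ = (v * (m : X)⁻¹ * v⁻¹) * m := by rw [hv2, hv, hv2, one_mul, mul_one]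
    _ = ((m : X)⁻¹ * (v * m * v⁻¹))⁻¹ := by group

theorem fourgroup_A5 [Finite X] (V : Subgroup X) (hV : Nat.card V = 4)
    (hV2 : ∀ v ∈ V, v * v = 1)
    (hC : ∀ v ∈ V, v ≠ 1 → ∀ x : X, x * v = v * x → x ∈ V)
    (h5 : 5 ∣ Nat.card X) : Nonempty (X ≃* alternatingGroup (Fin 5)) := by
  classical
  haveI : Fact (Nat.Prime 2) := ⟨Nat.prime_two⟩
  -- `V` is abelian
  have hVab : ∀ a ∈ V, ∀ b ∈ V, a * b = b * a := by
    intro a ha b hb
    have h1 := hV2 a ha
    have h2 := hV2 b hb
    have h3 := hV2 (a * b) (V.mul_mem ha hb)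
    calc a * b = a * (a * b * (a * b)) * b := by rw [h3, mul_one]
      _ = (a * a) * (b * a) * (b * b) := by group
      _ = b * a := by rw [h1, h2, one_mul, mul_one]
  -- two distinct nonidentity elements
  have hex : ∃ v₁ ∈ V, ∃ v₂ ∈ V, v₁ ≠ 1 ∧ v₂ ≠ 1 ∧ v₁ ≠ v₂ := by
    by_contra hcon
    push Not at hcon
    have hle : Nat.card V ≤ 2 := by
      by_cases h1 : ∃ v₁ ∈ V, v₁ ≠ 1
      · obtain ⟨v₁, hv₁, hv₁1⟩ := h1
        have hsub : ∀ x : ↥V, x = 1 ∨ x = ⟨v₁, hv₁⟩ := by
          intro x
          by_cases hx1 : (x : X) = 1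
          · left; exact Subtype.ext hx1
          · right
            apply Subtype.ext
            by_contra hne
            exact hne (hcon v₁ hv₁ x x.2 hv₁1 hx1).symm
        have : Nat.card ↥V ≤ Nat.card (Fin 2) := by
          apply Nat.card_le_card_of_injective (fun x : ↥V => if x = 1 then (0 : Fin 2) else 1)
          intro x y hxy
          rcases hsub x with hx | hx <;> rcases hsub y with hy | hy
          · rw [hx, hy]
          · by_cases hy1 : y = 1
            · rw [hx, hy1]
            · simp only [hx, if_true, if_neg hy1] at hxy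
              exact absurd hxy (by decide)
          · by_cases hx1 : x = 1
            · rw [hx1, hy]
            · simp only [hy, if_true, if_neg hx1] at hxy
              exact absurd hxy (by decide)
          · rw [hx, hy]
        simpa using this
      · push Not at h1
        have : Nat.card ↥V ≤ 1 := by
          rw [Finite.card_le_one_iff_subsingleton]
          exact ⟨fun a b => Subtype.ext ((h1 a a.2).trans (h1 b b.2).symm)⟩
        omega
    omega
  obtain ⟨v₁, hv₁, v₂, hv₂, hv₁1, hv₂1, hv12⟩ := hex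
  have hv₁inv : v₁⁻¹ = v₁ := inv_eq_of_mul_eq_one_left (hV2 v₁ hv₁)
  have hv₂inv : v₂⁻¹ = v₂ := inv_eq_of_mul_eq_one_left (hV2 v₂ hv₂)
  have hv₃ : v₁ * v₂ ∈ V := V.mul_mem hv₁ hv₂
  have hv₃1 : v₁ * v₂ ≠ 1 := by
    intro h1
    apply hv12
    have h2 : v₁ = v₂⁻¹ := eq_inv_of_mul_eq_one_left h1
    rw [h2, hv₂inv]
  have hord : orderOf v₁ = 2 := by
    apply orderOf_eq_prime
    · rw [pow_two]; exact hV2 v₁ hv₁
    · exact hv₁1
  have hcent : ∀ x : X, x ∈ Subgroup.centralizer ({v₁} : Set X) ↔ x ∈ V := by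
    intro x
    rw [Subgroup.mem_centralizer_singleton_iff]
    constructor
    · intro hx
      exact hC v₁ hv₁ hv₁1 x hx
    · intro hx
      exact hVab x hx v₁ hv₁
  have hceq : Subgroup.centralizer ({v₁} : Set X) = V := Subgroup.ext hcent
  have hC4 : Nat.card ↥(Subgroup.centralizer ({v₁} : Set X)) = 4 := by rw [hceq]; exact hV
  have hCe : ∀ c ∈ Subgroup.centralizer ({v₁} : Set X), c ^ 2 = 1 := by
    intro c hc
    rw [pow_two]
    exact hV2 c ((hcent c).mp hc)
  have hXpos : 0 < Nat.card X := Nat.card_pos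
  refine Cfsg.Agent.S3277.result v₁ hord hC4 hCe ?_ ?_
  · -- no normal 2-complement
    rintro ⟨P, N, hNn, hcompl⟩
    haveI := hNn
    have hcard : Nat.card N * Nat.card (P : Subgroup X) = Nat.card X := hcompl.card_mul
    have hidx : Nat.card (P : Subgroup X) * (P : Subgroup X).index = Nat.card X :=
      (P : Subgroup X).card_mul_index
    have hPpos : 0 < Nat.card (P : Subgroup X) := Nat.card_pos
    have hNidx : Nat.card N = (P : Subgroup X).index := by
      have h1 : Nat.card (P : Subgroup X) * Nat.card N = Nat.card (P : Subgroup X) * (P : Subgroup X).index := by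
        rw [hidx, mul_comm]; exact hcard
      exact Nat.eq_of_mul_eq_mul_left hPpos h1
    have hNodd : ¬ 2 ∣ Nat.card N := by
      rw [hNidx]
      exact P.not_dvd_index
    have hN2 : ∀ n ∈ N, n * n = 1 → n = 1 := by
      intro n hn hn2
      have h1 : orderOf n ∣ 2 := orderOf_dvd_of_pow_eq_one (by rw [pow_two]; exact hn2)
      have h2 : orderOf (⟨n, hn⟩ : ↥N) ∣ Nat.card N := orderOf_dvd_natCard _
      have h3 : orderOf (⟨n, hn⟩ : ↥N) = orderOf n := Subgroup.orderOf_mk n hn
      rw [h3] at h2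
      have h4 : orderOf n = 1 ∨ orderOf n = 2 := (Nat.dvd_prime Nat.prime_two).mp h1
      rcases h4 with h4 | h4
      · exact orderOf_eq_one_iff.mp h4
      · rw [h4] at h2
        exact absurd h2 hNodd
    have hfpf : ∀ v ∈ V, v ≠ 1 → ∀ n ∈ N, n * v = v * n → n = 1 := by
      intro v hv hv1 n hn hnv
      exact hN2 n hn (hV2 n (hC v hv hv1 n hnv))
    have hinv₁ := inverts_of_fpf N v₁ (hV2 v₁ hv₁) (hfpf v₁ hv₁ hv₁1)
    have hinv₂ := inverts_of_fpf N v₂ (hV2 v₂ hv₂) (hfpf v₂ hv₂ hv₂1)
    have hinv₃ := inverts_of_fpf N (v₁ * v₂) (hV2 _ hv₃) (hfpf _ hv₃ hv₃1)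
    have hNbot : ∀ n ∈ N, n = 1 := by
      intro n hn
      apply hN2 n hn
      have h1 := hinv₃ n hn
      have h2 : v₁ * v₂ * n * (v₁ * v₂)⁻¹ = v₁ * (v₂ * n * v₂⁻¹) * v₁⁻¹ := by group
      rw [h2, hinv₂ n hn, hinv₁ n⁻¹ (N.inv_mem hn), inv_inv] at h1
      calc n * n = n * n⁻¹ := by rw [← h1]
        _ = 1 := mul_inv_cancel n
    have hN1 : Nat.card N = 1 := by
      rw [Nat.card_eq_one_iff_unique]
      exact ⟨⟨fun a b => Subtype.ext ((hNbot a a.2).trans (hNbot b b.2).symm)⟩, ⟨1⟩⟩
    rw [hN1, one_mul] at hcard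
    obtain ⟨k, hk⟩ := P.2.exists_card_eq
    rw [← hcard, hk] at h5
    have h6 : 5 ∣ 2 := (Nat.Prime.dvd_of_dvd_pow (by norm_num) h5)
    omega
  · -- no small normal elementary abelian subgroup
    intro E hEn hEel
    haveI := hEn
    have hmain : 1 < Nat.card E → Nat.card E ≤ 4 → False := by
      intro hE1 hE4
      obtain ⟨hEc, hE2⟩ := hEel
      have hEab : ∀ a ∈ E, ∀ b ∈ E, a * b = b * a := fun a ha b hb =>
        congrArg Subtype.val (hEc.is_comm.comm ⟨a, ha⟩ ⟨b, hb⟩)
      obtain ⟨a, ha, ha1⟩ : ∃ a ∈ E, a ≠ 1 := by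
        by_contra hcon
        push Not at hcon
        have : Nat.card ↥E ≤ 1 := by
          rw [Finite.card_le_one_iff_subsingleton]
          exact ⟨fun x y => Subtype.ext ((hcon x x.2).trans (hcon y y.2).symm)⟩
        omega
      have ha2 : a * a = 1 := by rw [← pow_two]; exact hE2 a ha
      have hainv : a⁻¹ = a := inv_eq_of_mul_eq_one_left ha2
      have hconj : v₁ * a * v₁⁻¹ ∈ E := hEn.conj_mem a ha v₁
      -- a nonidentity element of `E` commuting with `v₁`
      obtain ⟨b, hbE, hb1, hbv⟩ : ∃ b ∈ E, b ≠ 1 ∧ b * v₁ = v₁ * b := by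
        by_cases hfix : v₁ * a * v₁⁻¹ = a
        · refine ⟨a, ha, ha1, ?_⟩
          calc a * v₁ = (v₁ * a * v₁⁻¹) * v₁ := by rw [hfix]
            _ = v₁ * a := by group
        · obtain ⟨c, hcdef⟩ : ∃ c : X, c = v₁ * a * v₁⁻¹ := ⟨_, rfl⟩
          have hcE : c ∈ E := by rw [hcdef]; exact hconj
          have hvc : v₁ * c * v₁⁻¹ = a := by
            rw [hcdef]
            calc v₁ * (v₁ * a * v₁⁻¹) * v₁⁻¹ = (v₁ * v₁) * a * (v₁ * v₁)⁻¹ := by group
              _ = a := by rw [hV2 v₁ hv₁]; group
          refine ⟨a * c, E.mul_mem ha hcE, ?_, ?_⟩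
          · intro h1
            apply hfix
            have h2 : c = a⁻¹ := eq_inv_of_mul_eq_one_right h1
            rw [← hcdef, h2, hainv]
          · have h1 : v₁ * (a * c) * v₁⁻¹ = a * c := by
              calc v₁ * (a * c) * v₁⁻¹ = (v₁ * a * v₁⁻¹) * (v₁ * c * v₁⁻¹) := by group
                _ = c * a := by rw [← hcdef, hvc]
                _ = a * c := hEab c hcE a ha
            calc a * c * v₁ = (v₁ * (a * c) * v₁⁻¹) * v₁ := by rw [h1]
              _ = v₁ * (a * c) := by group
      have hbV : b ∈ V := hC v₁ hv₁ hv₁1 b hbv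
      have hcc := Cfsg.Agent.Lib.Lead.card_conj_mul_card_centralizer b
      have hcle : Subgroup.centralizer ({b} : Set X) ≤ V := by
        intro x hx
        rw [Subgroup.mem_centralizer_singleton_iff] at hx
        exact hC b hbV hb1 x hx
      have hd4 : Nat.card ↥(Subgroup.centralizer ({b} : Set X)) ∣ 4 := by
        rw [← hV]
        exact Subgroup.card_dvd_of_le hcle
      have hc3 : Nat.card {c : X // IsConj b c} ≤ 3 := by
        have hmem : ∀ c : {c : X // IsConj b c}, c.1 ∈ E := by
          intro c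
          obtain ⟨g, hg⟩ := isConj_iff.mp c.2
          rw [← hg]
          exact hEn.conj_mem b hbE g
        have hne1 : ∀ c : {c : X // IsConj b c}, c.1 ≠ 1 := by
          intro c h2
          obtain ⟨g, hg⟩ := isConj_iff.mp c.2
          rw [h2] at hg
          apply hb1
          calc b = g⁻¹ * (g * b * g⁻¹) * g := by group
            _ = 1 := by rw [hg]; group
        have h1 : Nat.card (Option {c : X // IsConj b c}) ≤ Nat.card ↥E := by
          apply Nat.card_le_card_of_injective
            (fun o : Option {c : X // IsConj b c} =>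
              o.elim (1 : ↥E) (fun c => (⟨c.1, hmem c⟩ : ↥E)))
          intro o o' hoo
          cases o with
          | none =>
            cases o' with
            | none => rfl
            | some c' =>
              exfalso
              have h2 : (1 : X) = c'.1 := congrArg Subtype.val hoo
              exact hne1 c' h2.symm
          | some c =>
            cases o' with
            | none =>
              exfalso
              have h2 : c.1 = (1 : X) := congrArg Subtype.val hoo
              exact hne1 c h2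
            | some c' =>
              have h2 : c.1 = c'.1 := congrArg (fun e : ↥E => (e : X)) hoo
              rw [Subtype.ext h2]
        rw [Finite.card_option] at h1
        omega
      have hcpos : 0 < Nat.card {c : X // IsConj b c} :=
        Nat.card_pos_iff.mpr ⟨⟨⟨b, IsConj.refl b⟩⟩, inferInstance⟩
      rw [← hcc] at h5
      rcases (Nat.Prime.dvd_mul (by norm_num : Nat.Prime 5)).mp h5 with h6 | h6
      · have := Nat.le_of_dvd hcpos h6
        omega
      · have h7 := h6.trans hd4
        omega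
    constructor
    · intro h2
      exact hmain (by omega) (by omega)
    · intro h4
      exact hmain (by omega) (by omega)

end Cfsg.Agent.Lib.Helper3.J2S5
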