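import Mathlib
import Cfsg.Prelude.Def_Transfer
import Cfsg.Agent.Lib.Helper1.AbelianSylow

set_option autoImplicit false
set_option maxHeartbeats 4000000
set_option maxRecDepth 100000
set_option linter.unusedVariables false
set_option linter.unusedSectionVars false
set_option linter.style.longLine false
set_option linter.style.haveILetI false
set_option linter.deprecated false

/-!
# A central extension of `A₅` by a group of order five splits
-/

namespace Cfsg.Agent.Lib.Helper3.J2S5

open scoped commutatorElement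

theorem card_A5 : Nat.card (alternatingGroup (Fin 5)) = 60 := by
  rw [Nat.card_eq_fintype_card]
  rfl

theorem central5_split {X : Type*} [Group X] [Finite X] (f : X) (hf : orderOf f = 5)
    (hfc : ∀ x : X, x * f = f * x) (N : Subgroup X) [N.Normal] (hN : N = Subgroup.zpowers f)
    (hq : Nonempty (X ⧸ N ≃* alternatingGroup (Fin 5))) :
    Nonempty (↥(commutator X) ≃* alternatingGroup (Fin 5)) ∧
      Subgroup.zpowers f ⊓ commutator X = ⊥ ∧ Subgroup.zpowers f ⊔ commutator X = ⊤ := by
  classical
  haveI : Fact (Nat.Prime 5) := ⟨by norm_num⟩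
  obtain ⟨e⟩ := hq
  -- the order of `X`
  have hNcard : Nat.card N = 5 := by
    rw [hN, Nat.card_zpowers, hf]
  have hQcard : Nat.card (X ⧸ N) = 60 := by
    rw [Nat.card_congr e.toEquiv]
    exact card_A5
  have hXcard : Nat.card X = 300 := by
    have h1 := Subgroup.card_eq_card_quotient_mul_card_subgroup N
    rw [h1, hNcard, hQcard]
  -- a Sylow 5-subgroup has order 25
  obtain ⟨P⟩ : Nonempty (Sylow 5 X) := inferInstance
  have hPcard : Nat.card (P : Subgroup X) = 5 ^ 2 := by
    obtain ⟨k, hk⟩ := P.2.exists_card_eq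
    have h1 : 5 ^ 2 ∣ Nat.card (P : Subgroup X) :=
      P.pow_dvd_card_of_pow_dvd_card (by rw [hXcard]; norm_num)
    have h2 : Nat.card (P : Subgroup X) ∣ 300 := by
      rw [← hXcard]
      exact Subgroup.card_subgroup_dvd_card _
    rw [hk] at h1 h2 ⊢
    have hk2 : 2 ≤ k := by
      by_contra hlt
      have hk1 : k ≤ 1 := by omega
      have h3 : 5 ^ k ≤ 5 ^ 1 := Nat.pow_le_pow_right (by norm_num) hk1
      have h4 := Nat.le_of_dvd (by positivity) h1
      omega
    have hk3 : k ≤ 2 := by
      by_contra hgt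
      have hk3 : 3 ≤ k := by omega
      have h3 : 5 ^ 3 ∣ 5 ^ k := pow_dvd_pow 5 hk3
      have h4 := h3.trans h2
      omega
    have : k = 2 := by omega
    rw [this]
  have hPab : ∀ a b : ↥(P : Subgroup X), a * b = b * a :=
    IsPGroup.commutative_of_card_eq_prime_sq hPcard
  have hc : IsMulCommutative (P : Subgroup X) := ⟨⟨hPab⟩⟩
  -- `zpowers f` is a normal 5-subgroup
  have hzn : (Subgroup.zpowers f).Normal := by rw [← hN]; infer_instance
  have hzp : IsPGroup 5 (Subgroup.zpowers f) := by
    apply IsPGroup.of_card (n := 1)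
    rw [Nat.card_zpowers, hf, pow_one]
  have hzP : Subgroup.zpowers f ≤ (P : Subgroup X) := hzp.le_sylow_of_normal P
  have hzc : Subgroup.zpowers f ≤
      Subgroup.centralizer (Subgroup.normalizer ((P : Subgroup X) : Set X) : Set X) := by
    rw [Subgroup.zpowers_le]
    rw [Subgroup.mem_centralizer_iff]
    intro x _
    exact hfc x
  obtain ⟨h1, -⟩ := Cfsg.Agent.Lib.Helper1.abelian_sylow_decomposition P hc
  have hinf : Subgroup.zpowers f ⊓ commutator X = ⊥ := by
    rw [eq_bot_iff]
    intro y hy
    rw [← h1]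
    exact ⟨⟨hzP hy.1, hzc hy.1⟩, ⟨hy.2, hzP hy.1⟩⟩
  -- the commutator subgroup maps onto the quotient
  have hperf : commutator (alternatingGroup (Fin 5)) = ⊤ :=
    commutator_alternatingGroup_eq_top (by simp)
  have hperfQ : commutator (X ⧸ N) = ⊤ := by
    have h2 : (commutator (X ⧸ N)).map (e : X ⧸ N →* alternatingGroup (Fin 5)) =
        commutator (alternatingGroup (Fin 5)) := by
      rw [commutator_def, commutator_def, Subgroup.map_commutator,
        Subgroup.map_top_of_surjective _ e.surjective]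
    rw [hperf] at h2
    rw [eq_top_iff]
    intro x _
    have h3 : e x ∈ (commutator (X ⧸ N)).map (e : X ⧸ N →* alternatingGroup (Fin 5)) := by
      rw [h2]; exact Subgroup.mem_top _
    obtain ⟨y, hy, hyx⟩ := Subgroup.mem_map.mp h3
    have : y = x := e.injective hyx
    rw [← this]
    exact hy
  have hmap : (commutator X).map (QuotientGroup.mk' N) = ⊤ := by
    rw [← hperfQ, commutator_def, commutator_def, Subgroup.map_commutator,
      Subgroup.map_top_of_surjective _ (QuotientGroup.mk'_surjective N)]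
  let θ : ↥(commutator X) →* X ⧸ N := (QuotientGroup.mk' N).comp (commutator X).subtype
  have hθinj : Function.Injective θ := by
    rw [injective_iff_map_eq_one]
    intro x hx
    have h2 : ((x : X) : X ⧸ N) = 1 := hx
    have h3 : (x : X) ∈ N := (QuotientGroup.eq_one_iff _).mp h2
    rw [hN] at h3
    have h4 : (x : X) ∈ Subgroup.zpowers f ⊓ commutator X := ⟨h3, x.2⟩
    rw [hinf, Subgroup.mem_bot] at h4
    exact Subtype.ext h4
  have hθsurj : Function.Surjective θ := by
    intro q
    have h2 : q ∈ (commutator X).map (QuotientGroup.mk' N) := by rw [hmap]; exact Subgroup.mem_top _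
    obtain ⟨c, hc, hcq⟩ := Subgroup.mem_map.mp h2
    exact ⟨⟨c, hc⟩, hcq⟩
  refine ⟨⟨(MulEquiv.ofBijective θ ⟨hθinj, hθsurj⟩).trans e⟩, hinf, ?_⟩
  rw [eq_top_iff]
  intro x _
  obtain ⟨c, hc⟩ := hθsurj (x : X ⧸ N)
  have h2 : ((c : X) : X ⧸ N) = (x : X ⧸ N) := hc
  have h3 : (c : X)⁻¹ * x ∈ N := QuotientGroup.eq.mp h2
  rw [hN] at h3
  have h4 : x = (c : X) * ((c : X)⁻¹ * x) := by group
  rw [h4, sup_comm]
  exact Subgroup.mul_mem_sup c.2 h3

end Cfsg.Agent.Lib.Helper3.J2S5
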