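import Mathlib
import Cfsg.Prelude.Def_MonsterType
import Cfsg.Prelude.Def_Transfer
import Cfsg.Agent.Lib.Helper7.OmA5
import Cfsg.Agent.Lib.Helper2.Co1UG
import Cfsg.Agent.Lib.Helper2.Co1UE
import Cfsg.Agent.Lib.Helper2.UF
import Cfsg.Agent.Lib.Helper4.Sixty5
import Cfsg.Agent.Lib.Helper4.Simple60

/-!
# Unit TYPE of the farm J2S (S5403, owner helper9)

The Hall–Janko-type hypothesis for a central quotient `C ⧸ N` from data in `C`: the abstract form of the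
bookkeeping of `Lib/Helper9/Co1g.lean`.
-/

set_option autoImplicit false
set_option linter.style.haveILetI false

namespace Cfsg.Agent.Lib.Helper3.J2STYPE

open Cfsg

section generic

variable {C : Type*} [Group C] (N : Subgroup C) [N.Normal] (t : C)

/-- the map from the centraliser of `t` to the centraliser of the image of `t` in `C ⧸ N` -/
def fD : ↥(Subgroup.centralizer ({t} : Set C)) →*
    ↥(Subgroup.centralizer ({(QuotientGroup.mk t : C ⧸ N)} : Set (C ⧸ N))) :=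
  ((QuotientGroup.mk' N).comp (Subgroup.subtype _)).codRestrict _ (by
    intro g
    rw [Subgroup.mem_centralizer_iff]
    intro h hh
    rw [Set.mem_singleton_iff] at hh
    subst hh
    have h1 := Subgroup.mem_centralizer_iff.mp g.2 t (Set.mem_singleton _)
    show (QuotientGroup.mk (t * g.1) : C ⧸ N) = QuotientGroup.mk (g.1 * t)
    rw [h1])

theorem fD_val (g : ↥(Subgroup.centralizer ({t} : Set C))) :
    (fD N t g).1 = QuotientGroup.mk g.1 := rfl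

theorem mem_centralizer_of_conj (g0 : C) (h : g0 * t * g0⁻¹ * t⁻¹ = 1) :
    g0 ∈ Subgroup.centralizer ({t} : Set C) := by
  rw [Subgroup.mem_centralizer_iff]
  intro x hx
  rw [Set.mem_singleton_iff] at hx
  subst hx
  have h6 : g0 * x * g0⁻¹ = x := by
    have := congrArg (· * x) h
    simpa [mul_assoc] using this
  calc x * g0 = g0 * x * g0⁻¹ * g0 := by rw [h6]
    _ = g0 * x := by group

theorem lift_mem (hconj : ∀ g : C, ∀ c ∈ N, g * t * g⁻¹ = c * t → c = 1) (g0 : C)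
    (hy : (QuotientGroup.mk g0 : C ⧸ N) ∈
      Subgroup.centralizer ({(QuotientGroup.mk t : C ⧸ N)} : Set (C ⧸ N))) :
    g0 ∈ Subgroup.centralizer ({t} : Set C) := by
  have hy' := Subgroup.mem_centralizer_iff.mp hy _ (Set.mem_singleton _)
  have h2 : ((g0 * t * g0⁻¹ * t⁻¹ : C) : C ⧸ N) = 1 := by
    rw [QuotientGroup.mk_mul, QuotientGroup.mk_mul, QuotientGroup.mk_mul, QuotientGroup.mk_inv,
      QuotientGroup.mk_inv, ← hy']
    group
  have h3 : g0 * t * g0⁻¹ * t⁻¹ ∈ N := (QuotientGroup.eq_one_iff _).mp h2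
  have h4 : g0 * t * g0⁻¹ * t⁻¹ = 1 := hconj g0 _ h3 (by group)
  exact mem_centralizer_of_conj t g0 h4

theorem fD_surjective (hconj : ∀ g : C, ∀ c ∈ N, g * t * g⁻¹ = c * t → c = 1) :
    Function.Surjective (fD N t) := by
  intro y
  obtain ⟨g0, hg0⟩ := QuotientGroup.mk_surjective y.1
  have h5 : g0 ∈ Subgroup.centralizer ({t} : Set C) := by
    apply lift_mem N t hconj g0
    rw [hg0]
    exact y.2
  exact ⟨⟨g0, h5⟩, Subtype.ext hg0⟩

theorem fD_eq_one_iff (g : ↥(Subgroup.centralizer ({t} : Set C))) :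
    fD N t g = 1 ↔ g.1 ∈ N := by
  rw [Subtype.ext_iff, fD_val]
  exact QuotientGroup.eq_one_iff _

theorem fD_eq_iff (a b : ↥(Subgroup.centralizer ({t} : Set C))) :
    fD N t a = fD N t b ↔ a.1 * b.1⁻¹ ∈ N := by
  have h : fD N t a = fD N t b ↔ fD N t (a * b⁻¹) = 1 := by
    rw [map_mul, map_inv, mul_inv_eq_one]
  rw [h, fD_eq_one_iff]
  rfl

theorem fD_ker : (fD N t).ker = N.subgroupOf (Subgroup.centralizer ({t} : Set C)) := by
  ext g
  rw [MonoidHom.mem_ker, fD_eq_one_iff, Subgroup.mem_subgroupOf]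

theorem card_D [Finite C] (hNc : N ≤ Subgroup.center C)
    (hconj : ∀ g : C, ∀ c ∈ N, g * t * g⁻¹ = c * t → c = 1) :
    Nat.card ↥(Subgroup.centralizer ({t} : Set C)) =
      Nat.card ↥(Subgroup.centralizer ({(QuotientGroup.mk t : C ⧸ N)} : Set (C ⧸ N))) *
        Nat.card N := by
  have hND : N ≤ Subgroup.centralizer ({t} : Set C) :=
    hNc.trans (Subgroup.center_le_centralizer _)
  have h1 := Subgroup.card_eq_card_quotient_mul_card_subgroup (fD N t).ker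
  have h2 : Nat.card (↥(Subgroup.centralizer ({t} : Set C)) ⧸ (fD N t).ker) =
      Nat.card ↥(Subgroup.centralizer ({(QuotientGroup.mk t : C ⧸ N)} : Set (C ⧸ N))) :=
    Nat.card_congr (QuotientGroup.quotientKerEquivOfSurjective (fD N t)
      (fD_surjective N t hconj)).toEquiv
  have h3 : Nat.card ↥(fD N t).ker = Nat.card N := by
    rw [fD_ker]
    exact Nat.card_congr (Subgroup.subgroupOfEquivOfLe hND).toEquiv
  rw [h1, h2, h3]

variable (Q2 : Subgroup C)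

/-- the image of `Q2` -/
def QQ : Subgroup ↥(Subgroup.centralizer ({(QuotientGroup.mk t : C ⧸ N)} : Set (C ⧸ N))) :=
  (Q2.subgroupOf (Subgroup.centralizer ({t} : Set C))).map (fD N t)

theorem subgroupOf_normal
    (hQ2n : ∀ g ∈ Subgroup.centralizer ({t} : Set C), ∀ q ∈ Q2, g * q * g⁻¹ ∈ Q2) :
    (Q2.subgroupOf (Subgroup.centralizer ({t} : Set C))).Normal :=
  ⟨fun q hq g => by
    rw [Subgroup.mem_subgroupOf] at hq ⊢
    exact hQ2n g.1 g.2 q.1 hq⟩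

theorem QQ_normal (hconj : ∀ g : C, ∀ c ∈ N, g * t * g⁻¹ = c * t → c = 1)
    (hQ2n : ∀ g ∈ Subgroup.centralizer ({t} : Set C), ∀ q ∈ Q2, g * q * g⁻¹ ∈ Q2) :
    (QQ N t Q2).Normal :=
  Subgroup.Normal.map (subgroupOf_normal t Q2 hQ2n) (fD N t) (fD_surjective N t hconj)

theorem mem_QQ_iff (hNc : N ≤ Subgroup.center C)
    (hQ2D : Q2 ≤ Subgroup.centralizer ({t} : Set C))
    (x : ↥(Subgroup.centralizer ({t} : Set C))) :
    fD N t x ∈ QQ N t Q2 ↔ x.1 ∈ Q2 ⊔ N := by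
  have hND : N ≤ Subgroup.centralizer ({t} : Set C) :=
    hNc.trans (Subgroup.center_le_centralizer _)
  constructor
  · rintro ⟨q, hq, hqx⟩
    rw [fD_eq_iff] at hqx
    have h1 : x.1 = (q.1 * x.1⁻¹)⁻¹ * q.1 := by group
    rw [h1, sup_comm]
    exact Subgroup.mul_mem_sup (inv_mem hqx) (Subgroup.mem_subgroupOf.mp hq)
  · intro hx
    have hle : Q2 ⊔ N ≤ ((QQ N t Q2).comap (fD N t)).map (Subgroup.subtype _) := by
      apply sup_le
      · intro y hy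
        exact ⟨⟨y, hQ2D hy⟩, ⟨⟨y, hQ2D hy⟩, hy, rfl⟩, rfl⟩
      · intro y hy
        refine ⟨⟨y, hND hy⟩, ?_, rfl⟩
        show fD N t ⟨y, hND hy⟩ ∈ QQ N t Q2
        rw [(fD_eq_one_iff N t ⟨y, hND hy⟩).mpr hy]
        exact Subgroup.one_mem _
    obtain ⟨y, hy, hyx⟩ := hle hx
    have : y = x := Subtype.ext hyx
    rw [← this]
    exact hy

/-- the restriction of the map to `Q2` -/
def fQ : ↥(Q2.subgroupOf (Subgroup.centralizer ({t} : Set C))) →* ↥(QQ N t Q2) :=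
  (fD N t).subgroupMap (Q2.subgroupOf (Subgroup.centralizer ({t} : Set C)))

theorem fQ_surjective : Function.Surjective (fQ N t Q2) :=
  (fD N t).subgroupMap_surjective _

theorem fQ_val (x : ↥(Q2.subgroupOf (Subgroup.centralizer ({t} : Set C)))) :
    (fQ N t Q2 x).1 = fD N t x.1 := rfl

theorem fQ_eq_one_iff' (x : ↥(Q2.subgroupOf (Subgroup.centralizer ({t} : Set C)))) :
    fQ N t Q2 x = 1 ↔ x.1.1 ∈ N := by
  rw [Subtype.ext_iff, fQ_val]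
  exact fD_eq_one_iff N t x.1

end generic

section main

variable {C : Type*} [Group C] [Finite C] (N : Subgroup C) [N.Normal]
    (hNc : N ≤ Subgroup.center C) (hNcard : Nat.card N = 10)
    (n : C) (hnN : n ∈ N) (hn1 : n ≠ 1)
    (t : C) (htt : t * t = 1) (htN : t ∉ N)
    (hconj : ∀ g : C, ∀ c ∈ N, g * t * g⁻¹ = c * t → c = 1)
    (hD : Nat.card ↥(Subgroup.centralizer ({t} : Set C)) = 19200)
    (Q2 : Subgroup C) (hQ2D : Q2 ≤ Subgroup.centralizer ({t} : Set C))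
    (hQ2n : ∀ g ∈ Subgroup.centralizer ({t} : Set C), ∀ q ∈ Q2, g * q * g⁻¹ ∈ Q2)
    (hQ2card : Nat.card Q2 = 64) (hnQ : n ∈ Q2)
    (hQN : ∀ x ∈ Q2, x ∈ N → x = 1 ∨ x = n)

include hNc hNcard hconj hD in
theorem card_Cz :
    Nat.card ↥(Subgroup.centralizer ({(QuotientGroup.mk t : C ⧸ N)} : Set (C ⧸ N))) = 1920 := by
  have h := card_D N t hNc hconj
  rw [hD, hNcard] at h
  omega

/-- the element `n` of `Q2` -/
def nQ : ↥(Q2.subgroupOf (Subgroup.centralizer ({t} : Set C))) :=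
  ⟨⟨n, hQ2D hnQ⟩, hnQ⟩

omit [Finite C] in
include hnN hQN in
theorem fQ_eq_one_iff (x : ↥(Q2.subgroupOf (Subgroup.centralizer ({t} : Set C)))) :
    fQ N t Q2 x = 1 ↔ x = 1 ∨ x = nQ n t Q2 hQ2D hnQ := by
  rw [fQ_eq_one_iff']
  constructor
  · intro h
    rcases hQN x.1.1 x.2 h with h1 | h1
    · left; exact Subtype.ext (Subtype.ext h1)
    · right; exact Subtype.ext (Subtype.ext h1)
  · rintro (h | h)
    · rw [h]; exact N.one_mem
    · rw [h]; exact hnN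

omit [Finite C] in
include hnN hQN hn1 hQ2card hQ2D hnQ in
theorem card_QQ : Nat.card ↥(QQ N t Q2) = 2 ^ 5 := by
  have h1 := Subgroup.card_eq_card_quotient_mul_card_subgroup (fQ N t Q2).ker
  have h2 : Nat.card (↥(Q2.subgroupOf (Subgroup.centralizer ({t} : Set C))) ⧸ (fQ N t Q2).ker) =
      Nat.card ↥(QQ N t Q2) :=
    Nat.card_congr (QuotientGroup.quotientKerEquivOfSurjective (fQ N t Q2)
      (fQ_surjective N t Q2)).toEquiv
  have h3 : Nat.card ↥(Q2.subgroupOf (Subgroup.centralizer ({t} : Set C))) = 64 := by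
    rw [← hQ2card]
    exact Nat.card_congr (Subgroup.subgroupOfEquivOfLe hQ2D).toEquiv
  have h4 : Nat.card ↥(fQ N t Q2).ker = 2 := by
    rw [Nat.card_eq_two_iff]
    refine ⟨⟨1, (fQ N t Q2).ker.one_mem⟩, ⟨nQ n t Q2 hQ2D hnQ,
      (MonoidHom.mem_ker).mpr ((fQ_eq_one_iff N n hnN t Q2 hQ2D hnQ hQN _).mpr (Or.inr rfl))⟩,
      ?_, ?_⟩
    · intro h
      have h5 := congrArg (fun y => y.1.1.1) h
      exact hn1 h5.symm
    · ext x
      simp only [Set.mem_insert_iff, Set.mem_singleton_iff, Set.mem_univ, iff_true]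
      rcases (fQ_eq_one_iff N n hnN t Q2 hQ2D hnQ hQN x.1).mp (MonoidHom.mem_ker.mp x.2) with h | h
      · left; exact Subtype.ext h
      · right; exact Subtype.ext h
  rw [h2, h3, h4] at h1
  omega

variable (d : C) (hdQ : d ∈ Q2) (hd1 : d ≠ 1) (hdn : d ≠ n)
    (hdc : ∀ x ∈ Q2, x * d = d * x)
    (hcomm : ∀ x ∈ Q2, ∀ y ∈ Q2, x * y = y * x ∨ x * y = d * (y * x))
    (hsq : ∀ x ∈ Q2, x * x = 1 ∨ x * x = d)
    (hcen : ∀ x ∈ Q2, (∀ y ∈ Q2, x * y = y * x) → x = 1 ∨ x = n ∨ x = d ∨ x = n * d)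
    (hna : ∃ x ∈ Q2, ∃ y ∈ Q2, x * y ≠ y * x)

/-- the element `d` of `Q2` -/
def dQ : ↥(Q2.subgroupOf (Subgroup.centralizer ({t} : Set C))) :=
  ⟨⟨d, hQ2D hdQ⟩, hdQ⟩

include hnN hQN hn1 hQ2card hQ2D hnQ hdQ hd1 hdn hdc hcomm hsq hcen hna in
theorem QQ_extraspecial : IsExtraspecial 2 ↥(QQ N t Q2) := by
  have hker := fQ_eq_one_iff N n hnN t Q2 hQ2D hnQ hQN
  have hfd : fQ N t Q2 (dQ t Q2 hQ2D d hdQ) ≠ 1 := by
    intro h
    rcases (hker _).mp h with h1 | h1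
    · exact hd1 (congrArg (fun y => y.1.1) h1)
    · exact hdn (congrArg (fun y => y.1.1) h1)
  apply Cfsg.Agent.Lib.Helper2.Co1UE.extraspecial_of_cover (fQ N t Q2) (fQ_surjective N t Q2)
    (nQ n t Q2 hQ2D hnQ) (dQ t Q2 hQ2D d hdQ) hker hfd
  · intro x
    exact Subtype.ext (Subtype.ext (hdc x.1.1 x.2))
  · intro x y
    rcases hcomm x.1.1 x.2 y.1.1 y.2 with h | h
    · left; exact Subtype.ext (Subtype.ext h)
    · right; exact Subtype.ext (Subtype.ext h)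
  · intro x
    rcases hsq x.1.1 x.2 with h | h
    · left; exact Subtype.ext (Subtype.ext h)
    · right; exact Subtype.ext (Subtype.ext h)
  · intro x H
    have H' : ∀ y ∈ Q2, x.1.1 * y = y * x.1.1 := by
      intro y hy
      rcases H ⟨⟨y, hQ2D hy⟩, hy⟩ with h | h
      · exact congrArg (fun y => y.1.1) h
      · have h1 : x.1.1 * y = n * (y * x.1.1) := congrArg (fun y => y.1.1) h
        rcases hcomm x.1.1 x.2 y hy with h2 | h2
        · exact h2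
        · exfalso
          rw [h1] at h2
          exact hdn (mul_right_cancel h2).symm
    have hn : fQ N t Q2 (nQ n t Q2 hQ2D hnQ) = 1 := (hker _).mpr (Or.inr rfl)
    rcases hcen x.1.1 x.2 H' with h | h | h | h
    · left
      exact (hker x).mpr (Or.inl (Subtype.ext (Subtype.ext h)))
    · left
      exact (hker x).mpr (Or.inr (Subtype.ext (Subtype.ext h)))
    · right
      exact congrArg (fQ N t Q2) (Subtype.ext (Subtype.ext h))
    · right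
      have : x = nQ n t Q2 hQ2D hnQ * dQ t Q2 hQ2D d hdQ := Subtype.ext (Subtype.ext h)
      rw [this, map_mul, hn, one_mul]
  · obtain ⟨x, hx, y, hy, hxy⟩ := hna
    refine ⟨⟨⟨x, hQ2D hx⟩, hx⟩, ⟨⟨y, hQ2D hy⟩, hy⟩, ?_⟩
    intro h
    have h1 : x * y = d * (y * x) := by
      rcases hcomm x hx y hy with h2 | h2
      · exact absurd h2 hxy
      · exact h2
    have h2 : (⟨⟨x, hQ2D hx⟩, hx⟩ * ⟨⟨y, hQ2D hy⟩, hy⟩ :
        ↥(Q2.subgroupOf (Subgroup.centralizer ({t} : Set C)))) =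
        dQ t Q2 hQ2D d hdQ * (⟨⟨y, hQ2D hy⟩, hy⟩ * ⟨⟨x, hQ2D hx⟩, hx⟩) :=
      Subtype.ext (Subtype.ext h1)
    rw [h2, map_mul] at h
    exact hfd (mul_eq_right.mp h)
  · exact card_QQ N n hnN hn1 t Q2 hQ2D hQ2card hnQ hQN

include hNc hNcard hconj hD hnN hQN hn1 hQ2card hQ2D hnQ in
theorem card_quot :
    Nat.card (↥(Subgroup.centralizer ({(QuotientGroup.mk t : C ⧸ N)} : Set (C ⧸ N))) ⧸
      QQ N t Q2) = 60 := by
  have h1 := Subgroup.card_eq_card_quotient_mul_card_subgroup (QQ N t Q2)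
  rw [card_Cz N hNc hNcard t hconj hD, card_QQ N n hnN hn1 t Q2 hQ2D hQ2card hnQ hQN] at h1
  omega

omit [Finite C] in
include hNc hQ2D in
theorem mk_fD_eq_one_iff [(QQ N t Q2).Normal] (x : ↥(Subgroup.centralizer ({t} : Set C))) :
    (QuotientGroup.mk (fD N t x) :
      ↥(Subgroup.centralizer ({(QuotientGroup.mk t : C ⧸ N)} : Set (C ⧸ N))) ⧸ QQ N t Q2) = 1 ↔
    x.1 ∈ Q2 ⊔ N := by
  rw [QuotientGroup.eq_one_iff, mem_QQ_iff N t Q2 hNc hQ2D]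

variable (b g : C) (hbD : b ∈ Subgroup.centralizer ({t} : Set C))
    (hgD : g ∈ Subgroup.centralizer ({t} : Set C))
    (hb5 : b ^ 5 ∈ Q2 ⊔ N) (hbne : b ∉ Q2 ⊔ N)
    (hgb : ∀ k : ℕ, k < 5 → g * b * g⁻¹ * (b ^ k)⁻¹ ∉ Q2 ⊔ N)

include hNc hNcard hconj hD hnN hQN hn1 hQ2card hQ2D hnQ hbD hgD hb5 hbne hgb in
theorem quot_simple [(QQ N t Q2).Normal] :
    IsSimpleGroup (↥(Subgroup.centralizer ({(QuotientGroup.mk t : C ⧸ N)} : Set (C ⧸ N))) ⧸
      QQ N t Q2) := by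
  haveI : Fact (Nat.Prime 5) := ⟨by norm_num⟩
  have h60 := card_quot N hNc hNcard n hnN hn1 t hconj hD Q2 hQ2D hQ2card hnQ hQN
  have hone := mk_fD_eq_one_iff N hNc t Q2 hQ2D
  set β : ↥(Subgroup.centralizer ({(QuotientGroup.mk t : C ⧸ N)} : Set (C ⧸ N))) ⧸ QQ N t Q2 :=
    QuotientGroup.mk (fD N t ⟨b, hbD⟩) with hβ
  set γ : ↥(Subgroup.centralizer ({(QuotientGroup.mk t : C ⧸ N)} : Set (C ⧸ N))) ⧸ QQ N t Q2 :=
    QuotientGroup.mk (fD N t ⟨g, hgD⟩) with hγ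
  have hβ5 : β ^ 5 = 1 := by
    have h1 : β ^ 5 = QuotientGroup.mk (fD N t (⟨b, hbD⟩ ^ 5)) := by
      rw [map_pow]
      rfl
    rw [h1, hone]
    exact hb5
  have hβ1 : β ≠ 1 := by
    intro h
    rw [hβ, hone] at h
    exact hbne h
  have hord : orderOf β = 5 := orderOf_eq_prime hβ5 hβ1
  have hcardP0 : Nat.card ↥(Subgroup.zpowers β) = 5 := by
    rw [Nat.card_zpowers, hord]
  have hP0 : IsPGroup 5 ↥(Subgroup.zpowers β) := IsPGroup.of_card (n := 1) (by rw [hcardP0]; norm_num)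
  obtain ⟨P, hP⟩ := IsPGroup.exists_le_sylow hP0
  have hcardP : Nat.card ↥P.toSubgroup = 5 := by
    have := Cfsg.Agent.Lib.Helper4.sylow_card_of_eq 5 1 12 (by rw [h60]; norm_num) (by norm_num) P
    simpa using this
  have hPeq : Subgroup.zpowers β = P.toSubgroup :=
    Subgroup.eq_of_le_of_card_ge hP (by rw [hcardP, hcardP0])
  apply Cfsg.Agent.Lib.Helper4.Sixty.isSimpleGroup_of_card_sixty h60 P
  intro hnorm
  have h1 : γ * β * γ⁻¹ ∈ P.toSubgroup :=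
    hnorm.conj_mem β (by rw [← hPeq]; exact Subgroup.mem_zpowers β) γ
  rw [← hPeq] at h1
  obtain ⟨k, hk⟩ := Subgroup.mem_zpowers_iff.mp h1
  have hk0 : 0 ≤ k % 5 := Int.emod_nonneg _ (by norm_num)
  have hk5 : k % 5 < 5 := Int.emod_lt_of_pos _ (by norm_num)
  have hm : ((k % 5).toNat : ℤ) = k % 5 := Int.toNat_of_nonneg hk0
  have hm5 : (k % 5).toNat < 5 := by omega
  have h2 : β ^ (k % 5).toNat = γ * β * γ⁻¹ := by
    rw [← zpow_natCast, hm, ← hk]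
    have := zpow_mod_orderOf β k
    rw [hord] at this
    exact this
  apply hgb _ hm5
  have h3 : (QuotientGroup.mk (fD N t (⟨g, hgD⟩ * ⟨b, hbD⟩ * ⟨g, hgD⟩⁻¹ *
      (⟨b, hbD⟩ ^ (k % 5).toNat)⁻¹)) :
      ↥(Subgroup.centralizer ({(QuotientGroup.mk t : C ⧸ N)} : Set (C ⧸ N))) ⧸ QQ N t Q2) = 1 := by
    rw [map_mul, map_mul, map_mul, map_inv, map_inv, map_pow]
    show γ * β * γ⁻¹ * (β ^ (k % 5).toNat)⁻¹ = 1
    rw [h2, mul_inv_cancel]
  exact (hone _).mp h3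

include hNc hNcard hconj hD hnN hQN hn1 hQ2card hQ2D hnQ hbD hgD hb5 hbne hgb in
theorem quot_iso [(QQ N t Q2).Normal] :
    Nonempty ((↥(Subgroup.centralizer ({(QuotientGroup.mk t : C ⧸ N)} : Set (C ⧸ N))) ⧸
      QQ N t Q2) ≃* ↥(Cfsg.Omega (ZMod 2) (Cfsg.quadFormMinus 1 (ZMod 2) 1 1))) := by
  have h60 := card_quot N hNc hNcard n hnN hn1 t hconj hD Q2 hQ2D hQ2card hnQ hQN
  haveI := quot_simple N hNc hNcard n hnN hn1 t hconj hD Q2 hQ2D hQ2card hnQ hQN b g hbD hgD hb5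
    hbne hgb
  obtain ⟨e1⟩ := Cfsg.Agent.Lib.Helper4.simple_sixty_iso h60
  obtain ⟨e2⟩ := Cfsg.Agent.Lib.Helper7.OmA5.omegaM4_equiv
  exact ⟨e1.trans e2.symm⟩

include hNc hNcard hconj hD hnN hQN hn1 hQ2card hQ2D hnQ in
theorem quot_not_pGroup [(QQ N t Q2).Normal] :
    ¬ IsPGroup 2 (↥(Subgroup.centralizer ({(QuotientGroup.mk t : C ⧸ N)} : Set (C ⧸ N))) ⧸
      QQ N t Q2) := by
  intro h
  have h60 := card_quot N hNc hNcard n hnN hn1 t hconj hD Q2 hQ2D hQ2card hnQ hQN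
  obtain ⟨m, hm⟩ := IsPGroup.iff_card.mp h
  rw [h60] at hm
  have h3 : 3 ∣ 2 ^ m := by
    rw [← hm]
    norm_num
  have := Nat.Prime.dvd_of_dvd_pow Nat.prime_three h3
  omega

variable (x q : C) (hxD : x ∈ Subgroup.centralizer ({t} : Set C)) (hqQ : q ∈ Q2)
    (hxq : ∀ q' ∈ Q2, ∀ c ∈ N, x * q * x⁻¹ ≠ c * (q' * q * q'⁻¹))

include hNc hNcard hconj hD hnN hQN hn1 hQ2card hQ2D hnQ hbD hgD hb5 hbne hgb hxD hqQ hxq in
theorem gfs_eq [(QQ N t Q2).Normal] :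
    Cfsg.generalizedFittingSubgroup
      ↥(Subgroup.centralizer ({(QuotientGroup.mk t : C ⧸ N)} : Set (C ⧸ N))) = QQ N t Q2 := by
  apply Cfsg.Agent.Lib.Helper2.UFUnit.UF (QQ N t Q2)
    (IsPGroup.of_card (card_QQ N n hnN hn1 t Q2 hQ2D hQ2card hnQ hQN))
    (quot_simple N hNc hNcard n hnN hn1 t hconj hD Q2 hQ2D hQ2card hnQ hQN b g hbD hgD hb5
      hbne hgb)
    (quot_not_pGroup N hNc hNcard n hnN hn1 t hconj hD Q2 hQ2D hQ2card hnQ hQN)
    (fD N t ⟨x, hxD⟩) (fD N t ⟨q, hQ2D hqQ⟩) ⟨⟨q, hQ2D hqQ⟩, hqQ, rfl⟩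
  rintro q' ⟨y, hy, rfl⟩ h
  rw [← map_mul, ← map_inv, ← map_mul, ← map_mul, ← map_inv, ← map_mul, fD_eq_iff] at h
  exact hxq y.1 hy _ h (by
    show x * q * x⁻¹ = x * q * x⁻¹ * (y.1 * q * y.1⁻¹)⁻¹ * (y.1 * q * y.1⁻¹)
    group)

variable (u : C) (huQ : u * t * u⁻¹ ∈ Q2) (hut : ∀ c ∈ N, u * t * u⁻¹ ≠ c * t)

omit [Finite C] in
include hQ2D huQ hut in
theorem fusion : ∃ g : C ⧸ N,
    (∃ hq : g * (QuotientGroup.mk t : C ⧸ N) * g⁻¹ ∈
        Subgroup.centralizer ({(QuotientGroup.mk t : C ⧸ N)} : Set (C ⧸ N)),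
      (⟨g * (QuotientGroup.mk t : C ⧸ N) * g⁻¹, hq⟩ :
        Subgroup.centralizer ({(QuotientGroup.mk t : C ⧸ N)} : Set (C ⧸ N))) ∈ QQ N t Q2) ∧
    g * (QuotientGroup.mk t : C ⧸ N) * g⁻¹ ≠ QuotientGroup.mk t := by
  refine ⟨QuotientGroup.mk u, ⟨(fD N t ⟨u * t * u⁻¹, hQ2D huQ⟩).2, ?_⟩, ?_⟩
  · exact ⟨⟨u * t * u⁻¹, hQ2D huQ⟩, huQ, rfl⟩
  · intro h
    have h1 : ((u * t * u⁻¹ * t⁻¹ : C) : C ⧸ N) = 1 := by
      rw [QuotientGroup.mk_mul, QuotientGroup.mk_mul, QuotientGroup.mk_mul, QuotientGroup.mk_inv,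
        QuotientGroup.mk_inv, h, mul_inv_cancel]
    have h2 : u * t * u⁻¹ * t⁻¹ ∈ N := (QuotientGroup.eq_one_iff _).mp h1
    exact hut _ h2 (by group)

omit [Finite C] in
include htt htN in
theorem order_z : orderOf (QuotientGroup.mk t : C ⧸ N) = 2 := by
  apply orderOf_eq_prime
  · rw [pow_two]
    show (QuotientGroup.mk (t * t) : C ⧸ N) = 1
    rw [htt]
    rfl
  · intro h
    exact htN ((QuotientGroup.eq_one_iff t).mp h)

end main

/-- Unit TYPE, verbatim as in `Lib/Helper9/J2SStubs.lean`. -/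
theorem j2type_of_data {C : Type} [Group C] [Finite C] (N : Subgroup C) [N.Normal]
    (hNc : N ≤ Subgroup.center C) (hNcard : Nat.card N = 10)
    (n : C) (hnN : n ∈ N) (hn1 : n ≠ 1)
    (t : C) (htt : t * t = 1) (htN : t ∉ N)
    (hconj : ∀ g : C, ∀ c ∈ N, g * t * g⁻¹ = c * t → c = 1)
    (hD : Nat.card ↥(Subgroup.centralizer ({t} : Set C)) = 19200)
    (Q2 : Subgroup C) (hQ2D : Q2 ≤ Subgroup.centralizer ({t} : Set C))
    (hQ2n : ∀ g ∈ Subgroup.centralizer ({t} : Set C), ∀ q ∈ Q2, g * q * g⁻¹ ∈ Q2)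
    (hQ2card : Nat.card Q2 = 64) (hnQ : n ∈ Q2)
    (hQN : ∀ x ∈ Q2, x ∈ N → x = 1 ∨ x = n)
    (d : C) (hdQ : d ∈ Q2) (hd1 : d ≠ 1) (hdn : d ≠ n)
    (hdc : ∀ x ∈ Q2, x * d = d * x)
    (hcomm : ∀ x ∈ Q2, ∀ y ∈ Q2, x * y = y * x ∨ x * y = d * (y * x))
    (hsq : ∀ x ∈ Q2, x * x = 1 ∨ x * x = d)
    (hcen : ∀ x ∈ Q2, (∀ y ∈ Q2, x * y = y * x) → x = 1 ∨ x = n ∨ x = d ∨ x = n * d)
    (hna : ∃ x ∈ Q2, ∃ y ∈ Q2, x * y ≠ y * x)
    (b g : C) (hbD : b ∈ Subgroup.centralizer ({t} : Set C))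
    (hgD : g ∈ Subgroup.centralizer ({t} : Set C))
    (hb5 : b ^ 5 ∈ Q2 ⊔ N) (hbne : b ∉ Q2 ⊔ N)
    (hgb : ∀ k : ℕ, k < 5 → g * b * g⁻¹ * (b ^ k)⁻¹ ∉ Q2 ⊔ N)
    (x q : C) (hxD : x ∈ Subgroup.centralizer ({t} : Set C)) (hqQ : q ∈ Q2)
    (hxq : ∀ q' ∈ Q2, ∀ c ∈ N, x * q * x⁻¹ ≠ c * (q' * q * q'⁻¹))
    (u : C) (huQ : u * t * u⁻¹ ∈ Q2) (hut : ∀ c ∈ N, u * t * u⁻¹ ≠ c * t) :
    orderOf (QuotientGroup.mk t : C ⧸ N) = 2 ∧
    Nat.card ↥(Subgroup.centralizer ({(QuotientGroup.mk t : C ⧸ N)} : Set (C ⧸ N))) = 1920 ∧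
    (∀ y ∈ Subgroup.centralizer ({(QuotientGroup.mk t : C ⧸ N)} : Set (C ⧸ N)),
      ∃ g ∈ Subgroup.centralizer ({t} : Set C), (QuotientGroup.mk g : C ⧸ N) = y) ∧
    ∃ (Q : Subgroup (Subgroup.centralizer ({(QuotientGroup.mk t : C ⧸ N)} : Set (C ⧸ N))))
      (_ : Q.Normal),
      Cfsg.generalizedFittingSubgroup
        (Subgroup.centralizer ({(QuotientGroup.mk t : C ⧸ N)} : Set (C ⧸ N))) = Q ∧
      Cfsg.IsExtraspecial 2 Q ∧ Nat.card Q = 2 ^ 5 ∧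
      Nonempty ((Subgroup.centralizer ({(QuotientGroup.mk t : C ⧸ N)} : Set (C ⧸ N))) ⧸ Q ≃*
        Cfsg.Omega (ZMod 2) (Cfsg.quadFormMinus 1 (ZMod 2) 1 1)) ∧
      ∃ g : C ⧸ N,
        (∃ hq : g * (QuotientGroup.mk t : C ⧸ N) * g⁻¹ ∈
            Subgroup.centralizer ({(QuotientGroup.mk t : C ⧸ N)} : Set (C ⧸ N)),
          (⟨g * (QuotientGroup.mk t : C ⧸ N) * g⁻¹, hq⟩ :
            Subgroup.centralizer ({(QuotientGroup.mk t : C ⧸ N)} : Set (C ⧸ N))) ∈ Q) ∧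
        g * (QuotientGroup.mk t : C ⧸ N) * g⁻¹ ≠ QuotientGroup.mk t := by
  haveI hQn : (QQ N t Q2).Normal := QQ_normal N t Q2 hconj hQ2n
  refine ⟨order_z N t htt htN, card_Cz N hNc hNcard t hconj hD, ?_, QQ N t Q2, hQn,
    gfs_eq N hNc hNcard n hnN hn1 t hconj hD Q2 hQ2D hQ2card hnQ hQN b g hbD hgD hb5 hbne hgb
      x q hxD hqQ hxq,
    QQ_extraspecial N n hnN hn1 t Q2 hQ2D hQ2card hnQ hQN d hdQ hd1 hdn hdc hcomm hsq hcen hna,
    card_QQ N n hnN hn1 t Q2 hQ2D hQ2card hnQ hQN,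
    quot_iso N hNc hNcard n hnN hn1 t hconj hD Q2 hQ2D hQ2card hnQ hQN b g hbD hgD hb5 hbne hgb,
    fusion N t Q2 hQ2D u huQ hut⟩
  intro y hy
  obtain ⟨w, hw⟩ := fD_surjective N t hconj ⟨y, hy⟩
  exact ⟨w.1, w.2, congrArg Subtype.val hw⟩

end Cfsg.Agent.Lib.Helper3.J2STYPE
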