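import Mathlib
import Cfsg.Prelude.Def_JComponents

/-! Generic lemmas for the `J(T)`-component analysis: one-sided normalisation predicate,
centraliser of a section, exponent-two subgroups. -/
set_option autoImplicit false
open scoped commutatorElement

namespace Cfsg.Agent.Lib.Helper3.JC
variable {G : Type*} [Group G]

/-- `L` normalises `X` (one-sided form). -/
def Nz (L X : Subgroup G) : Prop := ∀ l ∈ L, ∀ x ∈ X, l * x * l⁻¹ ∈ X

theorem nz_of_le_normalizer {L X : Subgroup G} (h : L ≤ Subgroup.normalizer (X : Set G)) :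
    Nz L X := by
  intro l hl x hx
  exact (Subgroup.mem_normalizer_iff.1 (h hl) x).1 hx

theorem Nz.inv_conj {L X : Subgroup G} (h : Nz L X) {l x : G} (hl : l ∈ L) (hx : x ∈ X) :
    l⁻¹ * x * l ∈ X := by
  have := h l⁻¹ (inv_mem hl) x hx
  simpa using this

theorem Nz.le_normalizer {L X : Subgroup G} (h : Nz L X) :
    L ≤ Subgroup.normalizer (X : Set G) := by
  intro l hl
  rw [Subgroup.mem_normalizer_iff]
  intro x
  constructor
  · exact h l hl x
  · intro hx
    have := h.inv_conj hl hx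
    simpa [mul_assoc] using this

theorem Nz.mono {L L' X : Subgroup G} (h : Nz L X) (hL : L' ≤ L) : Nz L' X :=
  fun l hl x hx => h l (hL hl) x hx

theorem Nz.sup_left {A B X : Subgroup G} (h1 : Nz A X) (h2 : Nz B X) : Nz (A ⊔ B) X :=
  nz_of_le_normalizer (sup_le h1.le_normalizer h2.le_normalizer)

theorem nz_self (X : Subgroup G) : Nz X X :=
  fun l hl x hx => mul_mem (mul_mem hl hx) (inv_mem hl)

theorem Nz.inf {L X Y : Subgroup G} (h1 : Nz L X) (h2 : Nz L Y) : Nz L (X ⊓ Y) :=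
  fun l hl x hx => ⟨h1 l hl x hx.1, h2 l hl x hx.2⟩

theorem Nz.centralizer {L X : Subgroup G} (h : Nz L X) :
    Nz L (Subgroup.centralizer (X : Set G)) := by
  intro l hl c hc
  rw [Subgroup.mem_centralizer_iff] at hc ⊢
  intro x hx
  have h1 := hc (l⁻¹ * x * l) (h.inv_conj hl hx)
  have h2 : x * (l * c * l⁻¹) = l * ((l⁻¹ * x * l) * c) * l⁻¹ := by group
  rw [h2, h1]; group

theorem Nz.map_le {L X : Subgroup G} (h : Nz L X) {l : G} (hl : l ∈ L) :
    X.map (MulAut.conj l).toMonoidHom ≤ X := by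
  rintro _ ⟨x, hx, rfl⟩
  exact h l hl x hx

theorem nz_of_map_le {L X : Subgroup G}
    (h : ∀ l ∈ L, X.map (MulAut.conj l).toMonoidHom ≤ X) : Nz L X :=
  fun l hl x hx => h l hl ⟨x, hx, rfl⟩

theorem Nz.commutator {L X Y : Subgroup G} (h1 : Nz L X) (h2 : Nz L Y) : Nz L ⁅X, Y⁆ := by
  apply nz_of_map_le
  intro l hl
  rw [Subgroup.map_commutator]
  exact Subgroup.commutator_mono (h1.map_le hl) (h2.map_le hl)

theorem Nz.sup_right {L X Y : Subgroup G} (h1 : Nz L X) (h2 : Nz L Y) : Nz L (X ⊔ Y) := by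
  apply nz_of_map_le
  intro l hl
  rw [Subgroup.map_sup]
  exact sup_le_sup (h1.map_le hl) (h2.map_le hl)

/-- The elements of `L` acting trivially on the section `X / R`. -/
def centMod (L X R : Subgroup G) (hX : Nz L X) (hR : Nz L R) : Subgroup G where
  carrier := {g | g ∈ L ∧ ∀ x ∈ X, ⁅x, g⁆ ∈ R}
  one_mem' := ⟨L.one_mem, fun x _ => by
    have : ⁅x, (1 : G)⁆ = 1 := by rw [commutatorElement_def]; group
    rw [this]; exact R.one_mem⟩
  mul_mem' := by
    rintro g h ⟨hg, hg'⟩ ⟨hh, hh'⟩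
    refine ⟨mul_mem hg hh, fun x hx => ?_⟩
    have e : ⁅x, g * h⁆ = ⁅x, g⁆ * (g * ⁅x, h⁆ * g⁻¹) := by
      simp only [commutatorElement_def]; group
    rw [e]
    exact mul_mem (hg' x hx) (hR g hg _ (hh' x hx))
  inv_mem' := by
    rintro g ⟨hg, hg'⟩
    refine ⟨inv_mem hg, fun x hx => ?_⟩
    have e : ⁅x, g⁻¹⁆ = g⁻¹ * (⁅x, g⁆)⁻¹ * g := by
      simp only [commutatorElement_def]; group
    rw [e]
    exact hR.inv_conj hg (inv_mem (hg' x hx))

theorem mem_centMod {L X R : Subgroup G} {hX : Nz L X} {hR : Nz L R} {g : G} :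
    g ∈ centMod L X R hX hR ↔ g ∈ L ∧ ∀ x ∈ X, ⁅x, g⁆ ∈ R := Iff.rfl

theorem centMod_le {L X R : Subgroup G} (hX : Nz L X) (hR : Nz L R) :
    centMod L X R hX hR ≤ L := fun _ hg => hg.1

theorem nz_centMod {L X R : Subgroup G} (hX : Nz L X) (hR : Nz L R) :
    Nz L (centMod L X R hX hR) := by
  rintro l hl g ⟨hg, hg'⟩
  refine ⟨mul_mem (mul_mem hl hg) (inv_mem hl), fun x hx => ?_⟩
  have e : ⁅x, l * g * l⁻¹⁆ = l * ⁅l⁻¹ * x * l, g⁆ * l⁻¹ := by
    simp only [commutatorElement_def]; group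
  rw [e]
  exact hR l hl _ (hg' _ (hX.inv_conj hl hx))

theorem commutator_le_centMod {L X R : Subgroup G} (hX : Nz L X) (hR : Nz L R)
    {A B : Subgroup G} (hA : A ≤ L) (hB : B ≤ centMod L X R hX hR) :
    ⁅A, B⁆ ≤ centMod L X R hX hR := by
  rw [Subgroup.commutator_le]
  intro a ha b hb
  rw [commutatorElement_def]
  have h1 : a * b * a⁻¹ ∈ centMod L X R hX hR := nz_centMod hX hR a (hA ha) b (hB hb)
  exact mul_mem h1 (inv_mem (hB hb))

/-! ### Exponent two -/

theorem comm_of_sq {A : Subgroup G} (hA : ∀ a ∈ A, a * a = 1) {a b : G} (ha : a ∈ A)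
    (hb : b ∈ A) : a * b = b * a := by
  have h1 := hA a ha
  have h2 := hA b hb
  have h3 := hA (a * b) (mul_mem ha hb)
  have h4 : (a * b) * (b * a) = 1 := by
    calc (a * b) * (b * a) = a * (b * b) * a := by group
      _ = 1 := by rw [h2, mul_one, h1]
  exact mul_left_cancel (h3.trans h4.symm)

theorem inv_eq_self_of_sq {a : G} (h : a * a = 1) : a⁻¹ = a :=
  inv_eq_of_mul_eq_one_left h

theorem isElementaryAbelian_of_sq {A : Subgroup G} (hA : ∀ a ∈ A, a * a = 1) :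
    Cfsg.IsElementaryAbelian 2 A :=
  ⟨⟨⟨fun a b => Subtype.ext (comm_of_sq hA a.2 b.2)⟩⟩, fun a ha => by rw [pow_two]; exact hA a ha⟩

theorem sq_of_isElementaryAbelian {A : Subgroup G} (hA : Cfsg.IsElementaryAbelian 2 A) :
    ∀ a ∈ A, a * a = 1 :=
  fun a ha => by rw [← pow_two]; exact hA.2 a ha

theorem sq_sup {A B : Subgroup G} (hA : ∀ a ∈ A, a * a = 1) (hB : ∀ b ∈ B, b * b = 1)
    (hAB : ∀ a ∈ A, ∀ b ∈ B, a * b = b * a) : ∀ x ∈ A ⊔ B, x * x = 1 := by
  have hBc : B ≤ Subgroup.centralizer (A : Set G) := by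
    intro b hb
    rw [Subgroup.mem_centralizer_iff]
    intro a ha
    exact hAB a ha b hb
  have hBn : B ≤ Subgroup.normalizer (A : Set G) :=
    hBc.trans (Subgroup.centralizer_le_normalizer _)
  intro x hx
  have hx' : x ∈ ((A ⊔ B : Subgroup G) : Set G) := hx
  rw [Subgroup.coe_mul_of_right_le_normalizer_left A B hBn] at hx'
  obtain ⟨a, ha, b, hb, rfl⟩ := hx'
  have h1 := hAB a ha b hb
  calc a * b * (a * b) = a * (b * a) * b := by group
    _ = a * (a * b) * b := by rw [h1]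
    _ = (a * a) * (b * b) := by group
    _ = 1 := by rw [hA a ha, hB b hb, mul_one]

theorem two_mul_card_le_of_lt [Finite G] {B B' : Subgroup G} (h : B < B') :
    2 * Nat.card B ≤ Nat.card B' := by
  obtain ⟨k, hk⟩ := Subgroup.card_dvd_of_le h.le
  have hpos : 0 < Nat.card B' := Nat.card_pos
  have hk1 : k ≠ 1 := by
    rintro rfl
    rw [mul_one] at hk
    exact h.ne (Subgroup.eq_of_le_of_card_ge h.le hk.le)
  have hk0 : k ≠ 0 := by
    rintro rfl
    rw [mul_zero] at hk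
    omega
  have h2 : 2 ≤ k := by omega
  rw [hk]
  nlinarith

theorem isKleinFour_of_card_sq {W : Subgroup G} (hc : Nat.card W = 4)
    (hs : ∀ w ∈ W, w * w = 1) : IsKleinFour W := by
  refine ⟨hc, ?_⟩
  have h1 : Monoid.exponent W ∣ 2 := Monoid.exponent_dvd_of_forall_pow_eq_one (fun g => by
    apply Subtype.ext
    rw [pow_two]
    exact hs g g.2)
  rcases (Nat.dvd_prime Nat.prime_two).1 h1 with h | h
  · exfalso
    rw [Monoid.exp_eq_one_iff] at h
    have := Nat.card_of_subsingleton (1 : W)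
    omega
  · exact h

/-- Powers of a product `k * j` where `j` normalises `K`. -/
theorem pow_mul_mem {K : Subgroup G} {k j : G} (hk : k ∈ K)
    (hj : ∀ n : ℕ, ∀ x ∈ K, j ^ n * x * (j ^ n)⁻¹ ∈ K) (n : ℕ) :
    ∃ k' ∈ K, (k * j) ^ n = k' * j ^ n := by
  induction n with
  | zero => exact ⟨1, one_mem _, by simp⟩
  | succ n ih =>
    obtain ⟨k', hk', h⟩ := ih
    refine ⟨k' * (j ^ n * k * (j ^ n)⁻¹), mul_mem hk' (hj n k hk), ?_⟩
    rw [pow_succ, h, pow_succ]; group

end Cfsg.Agent.Lib.Helper3.JC
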