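import Cfsg.Agent.Lib.Helper3.NG1

set_option autoImplicit false

namespace Cfsg.Agent.Lib.Helper3.NG

open Cfsg Cfsg.Agent.Lib.Helper7

variable {G : Type*} [Group G]

theorem zpowers_elts {u : G} (hu2 : u * u = 1) {x : G} (hx : x ∈ Subgroup.zpowers u) :
    x = 1 ∨ x = u := by
  obtain ⟨k, rfl⟩ := Subgroup.mem_zpowers_iff.mp hx
  have h2 : u ^ (2 : ℤ) = 1 := by
    rw [zpow_ofNat, pow_two]; exact hu2
  rcases Int.even_or_odd' k with ⟨m, rfl | rfl⟩
  · left
    rw [zpow_mul, h2, one_zpow]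
  · right
    rw [zpow_add, zpow_mul, h2, one_zpow, one_mul, zpow_one]

theorem comm_of_mem_normalizer_zpowers {u : G} (hu2 : u * u = 1) (hu1 : u ≠ 1) {g : G}
    (hg : g ∈ Subgroup.normalizer (Subgroup.zpowers u : Set G)) : g * u = u * g := by
  have h := (Subgroup.mem_normalizer_iff.mp hg u).mp (Subgroup.mem_zpowers u)
  rcases zpowers_elts hu2 h with h1 | h1
  · exfalso
    apply hu1
    have : u = g⁻¹ * (g * u * g⁻¹) * g := by group
    rw [this, h1]; group
  · calc g * u = (g * u * g⁻¹) * g := by group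
      _ = u * g := by rw [h1]

theorem centralizer_le_normalizer_zpowers {u g : G} (hg : g * u = u * g) :
    g ∈ Subgroup.normalizer (Subgroup.zpowers u : Set G) := by
  apply Subgroup.centralizer_le_normalizer
  rw [Subgroup.mem_centralizer_iff]
  intro x hx
  exact (zpowers_comm hg hx).symm

theorem four_elts {U : Subgroup G} [IsKleinFour ↥U] {a b : G} (ha : a ∈ U) (hb : b ∈ U)
    (ha1 : a ≠ 1) (hb1 : b ≠ 1) (hab : a ≠ b) :
    ∀ v ∈ U, v = 1 ∨ v = a ∨ v = b ∨ v = a * b := by
  intro v hv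
  by_cases h1 : v = 1
  · left; exact h1
  by_cases h2 : v = a
  · right; left; exact h2
  by_cases h3 : v = b
  · right; right; left; exact h3
  right; right; right
  have := IsKleinFour.eq_mul_of_ne_all (G := ↥U) (x := ⟨a, ha⟩) (y := ⟨b, hb⟩) (z := ⟨v, hv⟩)
    (fun h => ha1 (congrArg Subtype.val h)) (fun h => hb1 (congrArg Subtype.val h))
    (fun h => hab (congrArg Subtype.val h)) (fun h => h1 (congrArg Subtype.val h))
    (fun h => h2 (congrArg Subtype.val h)) (fun h => h3 (congrArg Subtype.val h))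
  exact congrArg Subtype.val this

theorem four_comm {U : Subgroup G} [IsKleinFour ↥U] {a b : G} (ha : a ∈ U) (hb : b ∈ U) :
    a * b = b * a := by
  have := (IsKleinFour.isMulCommutative (G := ↥U)).is_comm.comm ⟨a, ha⟩ ⟨b, hb⟩
  exact congrArg Subtype.val this

theorem four_sq {U : Subgroup G} [IsKleinFour ↥U] {a : G} (ha : a ∈ U) : a * a = 1 := by
  have := IsKleinFour.mul_self (⟨a, ha⟩ : ↥U)
  exact congrArg Subtype.val this

end Cfsg.Agent.Lib.Helper3.NG
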