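import Mathlib
import Cfsg.Prelude.Def_JComponents
import Cfsg.Agent.Lib.Helper3.JC1
import Cfsg.Agent.Lib.Helper3.NG2
import Cfsg.Agent.Lib.Helper7.PCoreSub
import Cfsg.Agent.Lib.Helper1.OmegaCenter

/-! Structure of a `J(T)`-component `K`: `Q = O₂(K)`, `U = Ω₁(Z(Q))`, `W = [U, K]`,
an element `y` of order three acting fixed-point-freely on `W`. -/
set_option autoImplicit false
open scoped commutatorElement
open Cfsg

namespace Cfsg.Agent.Lib.Helper3.JC
variable {G : Type*} [Group G]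

theorem pCoreOf_le (K : Subgroup G) : pCoreOf 2 K ≤ K :=
  Cfsg.Agent.Lib.Helper7.pCoreIn_le 2 K

theorem pCoreOf_isPGroup (K : Subgroup G) : IsPGroup 2 ↥(pCoreOf 2 K) :=
  Cfsg.Agent.Lib.Helper7.pCoreIn_isPGroup 2 K

theorem nz_self_pCoreOf (K : Subgroup G) : Nz K (pCoreOf 2 K) :=
  nz_of_le_normalizer (Cfsg.Agent.Lib.Helper7.le_normalizer_pCoreIn 2 K)

theorem nz_pCoreOf {N K : Subgroup G} (h : Nz N K) : Nz N (pCoreOf 2 K) := by
  intro n hn q hq
  have hE : (pCoreOf 2 K).map (MulAut.conj n).toMonoidHom ≤ pCoreOf 2 K := by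
    apply Cfsg.Agent.Lib.Helper7.le_pCoreIn (p := 2)
    · rintro _ ⟨x, hx, rfl⟩
      exact h n hn x (pCoreOf_le K hx)
    · exact (pCoreOf_isPGroup K).map _
    · apply Nz.le_normalizer
      rintro k hk _ ⟨x, hx, rfl⟩
      refine ⟨(n⁻¹ * k * n) * x * (n⁻¹ * k * n)⁻¹,
        nz_self_pCoreOf K _ (h.inv_conj hn hk) x hx, ?_⟩
      show n * ((n⁻¹ * k * n) * x * (n⁻¹ * k * n)⁻¹) * n⁻¹ = k * (n * x * n⁻¹) * k⁻¹
      group
  exact hE ⟨q, hq, rfl⟩

theorem nz_omegaCenterOf {N X : Subgroup G} (h : Nz N X) : Nz N (omegaCenterOf X) := by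
  apply nz_of_map_le
  intro n hn
  unfold omegaCenterOf omegaOne
  rw [MonoidHom.map_closure]
  apply Subgroup.closure_mono
  rintro _ ⟨x, ⟨hx, hx2⟩, rfl⟩
  refine ⟨(h.inf h.centralizer) n hn x hx, ?_⟩
  show (n * x * n⁻¹) ^ 2 = 1
  rw [conj_pow, hx2]; group

theorem omegaCenterOf_le (X : Subgroup G) :
    omegaCenterOf X ≤ X ⊓ Subgroup.centralizer (X : Set G) :=
  Cfsg.Agent.Lib.Helper1.omegaOne_le 2 _

theorem omegaCenterOf_sq (X : Subgroup G) : ∀ u ∈ omegaCenterOf X, u * u = 1 :=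
  sq_of_isElementaryAbelian (Cfsg.Agent.Lib.Helper1.isElementaryAbelian_omegaOne_center 2 X)

theorem mem_omegaCenterOf {X : Subgroup G} {x : G} (hx : x ∈ X) (hc : ∀ y ∈ X, y * x = x * y)
    (h2 : x * x = 1) : x ∈ omegaCenterOf X :=
  Subgroup.subset_closure ⟨⟨hx, Subgroup.mem_centralizer_iff.2 hc⟩, by rw [pow_two]; exact h2⟩

theorem relIndex_three_dichotomy {Q X K : Subgroup G} (hQX : Q ≤ X) (hXK : X ≤ K)
    (h3 : Q.relIndex K = 3) : X ≤ Q ∨ K ≤ X := by
  have hm := Subgroup.relIndex_mul_relIndex Q X K hQX hXK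
  rw [h3] at hm
  have hd : X.relIndex K ∣ 3 := Dvd.intro_left _ hm
  rcases (Nat.dvd_prime Nat.prime_three).1 hd with h1 | h1
  · right; exact Subgroup.relIndex_eq_one.1 h1
  · left
    rw [h1] at hm
    have : Q.relIndex X = 1 := by omega
    exact Subgroup.relIndex_eq_one.1 this

/-- If `y³ = 1` and `y²` centralises `u`, then `y` centralises `u`. -/
theorem comm_of_sq_comm {y u : G} (hy3 : y ^ 3 = 1) (h2 : y * y * u * (y * y)⁻¹ = u) :
    y * u = u * y := by
  have hy4 : y = (y * y) * (y * y) := by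
    have h4 : y ^ 4 = y := by rw [pow_succ, hy3, one_mul]
    calc y = y ^ 4 := h4.symm
      _ = (y * y) * (y * y) := by rw [show (4 : ℕ) = 2 + 2 from rfl, pow_add, pow_two]
  have h3 : (y * y) * u = u * (y * y) := mul_inv_eq_iff_eq_mul.1 h2
  calc y * u = (y * y) * (y * y) * u := by rw [← hy4]
    _ = (y * y) * ((y * y) * u) := by group
    _ = (y * y) * (u * (y * y)) := by rw [h3]
    _ = ((y * y) * u) * (y * y) := by group
    _ = u * (y * y) * (y * y) := by rw [h3]
    _ = u * ((y * y) * (y * y)) := by group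
    _ = u * y := by rw [← hy4]

/-- Hypotheses on the `J`-component `K` and the `2`-group `J`. -/
structure KData (K J : Subgroup G) : Prop where
  comm : ⁅K, J⁆ = K
  idx : (pCoreOf 2 K).relIndex K = 3
  wcard : Nat.card ↥(wOf K) = 4
  wsq : ∀ w ∈ wOf K, w * w = 1
  jp : IsPGroup 2 ↥J

namespace KData
variable {K J : Subgroup G} (h : KData K J)
include h

theorem nzJK : Nz J K := by
  have := Subgroup.normalizer_commutator_ge_right K J
  rw [h.comm] at this
  exact nz_of_le_normalizer this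

theorem nzLK : Nz (K ⊔ J) K := (nz_self K).sup_left h.nzJK

theorem nzLQ : Nz (K ⊔ J) (pCoreOf 2 K) := nz_pCoreOf h.nzLK

theorem nzLU : Nz (K ⊔ J) (omegaCenterOf (pCoreOf 2 K)) := nz_omegaCenterOf h.nzLQ

theorem nzLW : Nz (K ⊔ J) (wOf K) := by
  unfold wOf; exact h.nzLU.commutator h.nzLK

theorem W_le_U : wOf K ≤ omegaCenterOf (pCoreOf 2 K) := by
  unfold wOf
  rw [Subgroup.commutator_le]
  intro u hu k hk
  rw [commutatorElement_def]
  have e : u * k * u⁻¹ * k⁻¹ = u * (k * u⁻¹ * k⁻¹) := by group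
  rw [e]
  exact mul_mem hu (h.nzLU k ((le_sup_left : K ≤ K ⊔ J) hk) _ (inv_mem hu))

omit h in
theorem U_le_Q : omegaCenterOf (pCoreOf 2 K) ≤ pCoreOf 2 K :=
  (omegaCenterOf_le _).trans inf_le_left

theorem W_le_Q : wOf K ≤ pCoreOf 2 K := h.W_le_U.trans U_le_Q

theorem W_le_K : wOf K ≤ K := h.W_le_Q.trans (pCoreOf_le K)

theorem Q_comm_U {q u : G} (hq : q ∈ pCoreOf 2 K) (hu : u ∈ omegaCenterOf (pCoreOf 2 K)) :
    q * u = u * q := by
  have : u ∈ Subgroup.centralizer ((pCoreOf 2 K : Subgroup G) : Set G) :=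
    (omegaCenterOf_le _ hu).2
  exact Subgroup.mem_centralizer_iff.1 this q hq

theorem Q_comm_W {q w : G} (hq : q ∈ pCoreOf 2 K) (hw : w ∈ wOf K) : q * w = w * q :=
  h.Q_comm_U hq (h.W_le_U hw)

theorem W_ne_bot : wOf K ≠ ⊥ := by
  intro hb
  have := h.wcard
  rw [hb] at this
  simp at this

theorem kleinW : IsKleinFour ↥(wOf K) := isKleinFour_of_card_sq h.wcard h.wsq

theorem card_K : Nat.card K = Nat.card (pCoreOf 2 K) * 3 := by
  have := Subgroup.relIndex_mul_relIndex ⊥ (pCoreOf 2 K) K bot_le (pCoreOf_le K)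
  rw [Subgroup.relIndex_bot_left, Subgroup.relIndex_bot_left, h.idx] at this
  exact this.symm

theorem exists_y [Finite G] : ∃ y ∈ K, y ^ 3 = 1 ∧ y ∉ pCoreOf 2 K := by
  haveI : Fact (Nat.Prime 3) := ⟨Nat.prime_three⟩
  haveI : Fact (Nat.Prime 2) := ⟨Nat.prime_two⟩
  have hdvd : 3 ∣ Nat.card K := by rw [h.card_K]; exact Dvd.intro_left _ rfl
  obtain ⟨x, hx⟩ := exists_prime_orderOf_dvd_card' 3 hdvd
  have h3 : orderOf (x : G) = 3 := by rw [Subgroup.orderOf_coe]; exact hx
  refine ⟨x, x.2, by rw [← h3]; exact pow_orderOf_eq_one _, ?_⟩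
  intro hxQ
  obtain ⟨k, hk⟩ := (IsPGroup.iff_orderOf.1 (pCoreOf_isPGroup K)) ⟨x, hxQ⟩
  have h3' : orderOf (⟨(x : G), hxQ⟩ : ↥(pCoreOf 2 K)) = 3 := by
    rw [← Subgroup.orderOf_coe]; exact h3
  rw [h3'] at hk
  rcases k with _ | k
  · simp at hk
  · rw [pow_succ] at hk; omega

theorem sup_zpowers_eq {y : G} (hy : y ∈ K) (hyQ : y ∉ pCoreOf 2 K) :
    pCoreOf 2 K ⊔ Subgroup.zpowers y = K := by
  have hle : pCoreOf 2 K ⊔ Subgroup.zpowers y ≤ K :=
    sup_le (pCoreOf_le K) (by rw [Subgroup.zpowers_le]; exact hy)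
  rcases relIndex_three_dichotomy le_sup_left hle h.idx with h1 | h1
  · exfalso
    exact hyQ (h1 ((le_sup_right : Subgroup.zpowers y ≤ pCoreOf 2 K ⊔ Subgroup.zpowers y)
      (Subgroup.mem_zpowers y)))
  · exact le_antisymm hle h1

/-- An element of order three outside `Q` does not centralise `W`. -/
theorem not_cent_W {y : G} (hy : y ∈ K) (hy3 : y ^ 3 = 1) (hyQ : y ∉ pCoreOf 2 K)
    (hc : ∀ w ∈ wOf K, y * w = w * y) : False := by
  have hU : ∀ u ∈ omegaCenterOf (pCoreOf 2 K), y * u = u * y := by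
    intro u hu
    have htW : ⁅y, u⁆ ∈ wOf K := by
      have e : ⁅y, u⁆ = (⁅u, y⁆)⁻¹ := by rw [commutatorElement_inv]
      rw [e]; exact inv_mem (Subgroup.commutator_mem_commutator hu hy)
    set t := ⁅y, u⁆ with ht
    have h1 : y * u * y⁻¹ = t * u := by rw [ht, commutatorElement_def]; group
    have htt : t * t = 1 := h.wsq t htW
    have hyt : y * t * y⁻¹ = t := by rw [hc t htW]; group
    apply comm_of_sq_comm hy3
    calc y * y * u * (y * y)⁻¹ = y * (y * u * y⁻¹) * y⁻¹ := by group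
      _ = y * (t * u) * y⁻¹ := by rw [h1]
      _ = (y * t * y⁻¹) * (y * u * y⁻¹) := by group
      _ = t * (t * u) := by rw [hyt, h1]
      _ = (t * t) * u := by group
      _ = u := by rw [htt, one_mul]
  have hKc : K ≤ Subgroup.centralizer (omegaCenterOf (pCoreOf 2 K) : Set G) := by
    have hsup : pCoreOf 2 K ⊔ Subgroup.zpowers y ≤
        Subgroup.centralizer (omegaCenterOf (pCoreOf 2 K) : Set G) := ?_
    · exact (h.sup_zpowers_eq hy hyQ).symm.le.trans hsup
    apply sup_le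
    · intro q hq
      rw [Subgroup.mem_centralizer_iff]
      intro u hu
      exact (h.Q_comm_U hq hu).symm
    · rw [Subgroup.zpowers_le, Subgroup.mem_centralizer_iff]
      intro u hu
      exact (hU u hu).symm
  have hb : wOf K = ⊥ := by
    unfold wOf
    rw [Subgroup.commutator_eq_bot_iff_le_centralizer, Subgroup.le_centralizer_iff]
    exact hKc
  exact h.W_ne_bot hb

/-- An element of order three outside `Q` acts fixed-point-freely on `W`. -/
theorem fix_W {y : G} (hy : y ∈ K) (hy3 : y ^ 3 = 1) (hyQ : y ∉ pCoreOf 2 K) {w : G}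
    (hw : w ∈ wOf K) (hfix : y * w * y⁻¹ = w) : w = 1 := by
  by_contra hw1
  have := h.kleinW
  have ho : orderOf w = 2 := orderOf_eq_prime (by rw [pow_two]; exact h.wsq w hw) hw1
  have hlt : Subgroup.zpowers w < wOf K := by
    refine lt_of_le_of_ne (by rw [Subgroup.zpowers_le]; exact hw) ?_
    intro he
    have := Nat.card_zpowers w
    rw [he, h.wcard, ho] at this
    omega
  obtain ⟨b, hbW, hbn⟩ := SetLike.exists_of_lt hlt
  have hb1 : b ≠ 1 := fun e => hbn (e ▸ one_mem _)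
  have hbw : w ≠ b := fun e => hbn (e ▸ Subgroup.mem_zpowers w)
  have hall := NG.four_elts hw hbW hw1 hb1 hbw
  have hyL : y ∈ K ⊔ J := (le_sup_left : K ≤ K ⊔ J) hy
  have hyw : y * w = w * y := by
    have := hfix
    rw [mul_inv_eq_iff_eq_mul] at this
    exact this
  have hcase := hall (y * b * y⁻¹) (h.nzLW y hyL b hbW)
  have hfinish : y * b = b * y → False := by
    intro hyb
    apply h.not_cent_W hy hy3 hyQ
    intro v hv
    rcases hall v hv with rfl | rfl | rfl | rfl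
    · simp
    · exact hyw
    · exact hyb
    · calc y * (w * b) = (y * w) * b := by group
        _ = w * (y * b) := by rw [hyw]; group
        _ = w * b * y := by rw [hyb]; group
  rcases hcase with h1 | h1 | h1 | h1
  · apply hb1
    have : b = y⁻¹ * (y * b * y⁻¹) * y := by group
    rw [this, h1]; group
  · apply hbw
    have e1 : y * b * y⁻¹ = y * w * y⁻¹ := h1.trans hfix.symm
    have e2 := mul_right_cancel e1
    exact (mul_left_cancel e2).symm
  · apply hfinish
    rw [mul_inv_eq_iff_eq_mul] at h1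
    exact h1
  · have h2 : y * y * b * (y * y)⁻¹ = b := by
      calc y * y * b * (y * y)⁻¹ = y * (y * b * y⁻¹) * y⁻¹ := by group
        _ = y * (w * b) * y⁻¹ := by rw [h1]
        _ = (y * w * y⁻¹) * (y * b * y⁻¹) := by group
        _ = w * (w * b) := by rw [hfix, h1]
        _ = (w * w) * b := by group
        _ = b := by rw [h.wsq w hw, one_mul]
    have hyb := comm_of_sq_comm hy3 h2
    have : y * b * y⁻¹ = b := by rw [hyb]; group
    rw [this] at h1
    apply hw1
    have : w * b = 1 * b := by rw [one_mul]; exact h1.symm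
    exact mul_right_cancel this

theorem K_inf_cent_le_Q [Finite G] :
    K ⊓ Subgroup.centralizer (wOf K : Set G) ≤ pCoreOf 2 K := by
  obtain ⟨y, hy, hy3, hyQ⟩ := h.exists_y
  have hQX : pCoreOf 2 K ≤ K ⊓ Subgroup.centralizer (wOf K : Set G) :=
    le_inf (pCoreOf_le K) (fun q hq => Subgroup.mem_centralizer_iff.2
      (fun w hw => (h.Q_comm_W hq hw).symm))
  rcases relIndex_three_dichotomy hQX inf_le_left h.idx with h1 | h1
  · exact h1
  · exfalso
    have hyc : y ∈ Subgroup.centralizer ((wOf K : Subgroup G) : Set G) := (h1 hy).2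
    rw [Subgroup.mem_centralizer_iff] at hyc
    exact h.not_cent_W hy hy3 hyQ (fun w hw => (hyc w hw).symm)

end KData

end Cfsg.Agent.Lib.Helper3.JC
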