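import Mathlib
import Cfsg.Prelude.Def_JComponents
import Cfsg.Agent.Lib.Helper3.JC2
import Cfsg.Agent.Lib.Helper1.Nilpotent
import Cfsg.Agent.Lib.Helper1.ThompsonRelative

/-! `J(T)`-components: the subgroup `D = C_L(W)`, a Sylow 2-subgroup `S` of `L = K J`. -/
set_option autoImplicit false
open scoped commutatorElement
open Cfsg

namespace Cfsg.Agent.Lib.Helper3.JC
variable {G : Type*} [Group G]

/-- `D = C_L(W)` for `L = K ⊔ J`. -/
def dOf (K J : Subgroup G) : Subgroup G := (K ⊔ J) ⊓ Subgroup.centralizer (wOf K : Set G)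

/-- `K`-data plus a Sylow 2-subgroup `S` of `L = K ⊔ J` with `J(S) = J`. -/
structure SData (K J S : Subgroup G) : Prop where
  kd : KData K J
  syl : IsSylowTwoIn S (K ⊔ J)
  JS : thompsonSubgroupOf 2 S = J

namespace SData
variable {K J S : Subgroup G} (h : SData K J S)
include h

theorem J_le_S : J ≤ S := by
  rw [← h.JS]; exact Cfsg.Agent.Lib.Helper1.thompsonSubgroupOf_le_self 2 S

theorem nzLD : Nz (K ⊔ J) (dOf K J) := by
  unfold dOf
  exact (nz_self (K ⊔ J)).inf h.kd.nzLW.centralizer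

theorem mem_D_iff {x : G} (hx : x ∈ K ⊔ J) : x ∈ dOf K J ↔ ∀ w ∈ wOf K, x * w = w * x := by
  unfold dOf
  constructor
  · intro hxD w hw
    have : x ∈ Subgroup.centralizer ((wOf K : Subgroup G) : Set G) := hxD.2
    exact (Subgroup.mem_centralizer_iff.1 this w hw).symm
  · intro hc
    exact ⟨hx, Subgroup.mem_centralizer_iff.2 (fun w hw => (hc w hw).symm)⟩

theorem Q_le_D : pCoreOf 2 K ≤ dOf K J := by
  intro q hq
  rw [h.mem_D_iff ((le_sup_left : K ≤ K ⊔ J) (pCoreOf_le K hq))]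
  intro w hw
  exact h.kd.Q_comm_W hq hw

theorem W_le_D : wOf K ≤ dOf K J := h.kd.W_le_Q.trans h.Q_le_D

theorem D_pgroup [Finite G] : IsPGroup 2 ↥(dOf K J) := by
  haveI : Fact (Nat.Prime 2) := ⟨Nat.prime_two⟩
  rintro ⟨d, hd⟩
  have hdL : d ∈ ((K ⊔ J : Subgroup G) : Set G) := hd.1
  rw [Subgroup.coe_mul_of_right_le_normalizer_left K J h.kd.nzJK.le_normalizer] at hdL
  obtain ⟨k, hk, j, hj, rfl⟩ := hdL
  obtain ⟨a, ha⟩ := (IsPGroup.iff_orderOf.1 h.kd.jp) ⟨j, hj⟩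
  have hj1 : j ^ (2 ^ a) = 1 := by
    have := pow_orderOf_eq_one (⟨j, hj⟩ : ↥J)
    rw [ha] at this
    have h2 := congrArg Subtype.val this
    simpa using h2
  obtain ⟨k', hk', hpow⟩ := pow_mul_mem hk
    (fun n x hx => h.kd.nzJK (j ^ n) (pow_mem hj n) x hx) (2 ^ a)
  rw [hj1, mul_one] at hpow
  have hk'D : k' ∈ dOf K J := by rw [← hpow]; exact pow_mem hd _
  have hk'Q : k' ∈ pCoreOf 2 K := h.kd.K_inf_cent_le_Q ⟨hk', hk'D.2⟩
  obtain ⟨b, hb⟩ := (pCoreOf_isPGroup K) ⟨k', hk'Q⟩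
  have hb' : k' ^ (2 ^ b) = 1 := by
    have h2 := congrArg Subtype.val hb
    simpa using h2
  refine ⟨a + b, ?_⟩
  apply Subtype.ext
  show (k * j) ^ (2 ^ (a + b)) = 1
  rw [pow_add, pow_mul, hpow, hb']

theorem D_le_S [Finite G] : dOf K J ≤ S := by
  haveI : Fact (Nat.Prime 2) := ⟨Nat.prime_two⟩
  have hSn : S ≤ Subgroup.normalizer (dOf K J : Set G) := (h.nzLD.mono h.syl.1).le_normalizer
  have hP : IsPGroup 2 ↥(dOf K J ⊔ S) :=
    IsPGroup.to_sup_of_normal_left' h.D_pgroup h.syl.2.1 hSn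
  have hPL : dOf K J ⊔ S ≤ K ⊔ J := sup_le inf_le_left h.syl.1
  have hm := Subgroup.relIndex_mul_relIndex S (dOf K J ⊔ S) (K ⊔ J) le_sup_right hPL
  have hodd : Odd (S.relIndex (dOf K J ⊔ S)) := by
    have := h.syl.2.2
    rw [← hm] at this
    exact (Nat.odd_mul.1 this).1
  obtain ⟨n, hn⟩ := (IsPGroup.iff_card.1 hP)
  have hdvd : S.relIndex (dOf K J ⊔ S) ∣ 2 ^ n := hn ▸ Subgroup.relIndex_dvd_card _ _
  obtain ⟨m, -, hm'⟩ := (Nat.dvd_prime_pow Nat.prime_two).1 hdvd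
  have h1 : S.relIndex (dOf K J ⊔ S) = 1 := by
    rcases m with _ | m
    · simpa using hm'
    · exfalso
      rw [hm', pow_succ] at hodd
      exact (Nat.not_even_iff_odd.2 hodd) (even_two.mul_left _)
  exact le_sup_left.trans (Subgroup.relIndex_eq_one.1 h1)

theorem W_le_S [Finite G] : wOf K ≤ S := h.W_le_D.trans h.D_le_S

theorem exists_w1 [Finite G] : ∃ w₁ ∈ wOf K, w₁ ≠ 1 ∧ ∀ s ∈ S, s * w₁ = w₁ * s := by
  haveI : Fact (Nat.Prime 2) := ⟨Nat.prime_two⟩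
  have hWS : wOf K ≤ S := h.W_le_S
  haveI : Group.IsNilpotent ↥S := h.syl.2.1.isNilpotent
  haveI : ((wOf K).subgroupOf S).Normal :=
    (Subgroup.normal_subgroupOf_iff_le_normalizer hWS).2 ((h.kd.nzLW.mono h.syl.1).le_normalizer)
  have hne : (wOf K).subgroupOf S ≠ ⊥ := by
    intro hb
    rw [Subgroup.subgroupOf_eq_bot] at hb
    exact h.kd.W_ne_bot (disjoint_self.1 (hb.mono_right hWS))
  have hne2 := Cfsg.Agent.Lib.Helper1.normal_inf_center_ne_bot _ hne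
  obtain ⟨a, ha1⟩ := (Subgroup.ne_bot_iff_exists_ne_one).1 hne2
  have ha2 := a.2
  refine ⟨((a : ↥S) : G), Subgroup.mem_subgroupOf.1 ha2.1, ?_, ?_⟩
  · intro h1
    apply ha1
    apply Subtype.ext
    apply Subtype.ext
    exact h1
  · intro s hs
    have := Subgroup.mem_center_iff.1 ha2.2 ⟨s, hs⟩
    exact congrArg Subtype.val this

/-- A pair of generators of `W`, the first centralised by `S`. -/
theorem exists_w1_w2 [Finite G] : ∃ w₁ ∈ wOf K, ∃ w₂ ∈ wOf K, w₁ ≠ 1 ∧ w₂ ≠ 1 ∧ w₁ ≠ w₂ ∧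
    (∀ s ∈ S, s * w₁ = w₁ * s) ∧ ∀ v ∈ wOf K, v = 1 ∨ v = w₁ ∨ v = w₂ ∨ v = w₁ * w₂ := by
  obtain ⟨w, hw, hw1, hc⟩ := h.exists_w1
  have := h.kd.kleinW
  have ho : orderOf w = 2 := orderOf_eq_prime (by rw [pow_two]; exact h.kd.wsq w hw) hw1
  have hlt : Subgroup.zpowers w < wOf K := by
    refine lt_of_le_of_ne (by rw [Subgroup.zpowers_le]; exact hw) ?_
    intro he
    have := Nat.card_zpowers w
    rw [he, h.kd.wcard, ho] at this
    omega
  obtain ⟨b, hbW, hbn⟩ := SetLike.exists_of_lt hlt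
  have hb1 : b ≠ 1 := fun e => hbn (e ▸ one_mem _)
  have hbw : w ≠ b := fun e => hbn (e ▸ Subgroup.mem_zpowers w)
  exact ⟨w, hw, b, hbW, hw1, hb1, hbw, hc, NG.four_elts hw hbW hw1 hb1 hbw⟩

theorem mul_mem_D [Finite G] {a b : G} (ha : a ∈ S) (hb : b ∈ S) (haD : a ∉ dOf K J)
    (hbD : b ∉ dOf K J) : a * b ∈ dOf K J := by
  obtain ⟨w₁, hw₁, w₂, hw₂, hw₁1, hw₂1, hne, hc, hall⟩ := h.exists_w1_w2
  have cent : ∀ s ∈ K ⊔ J, s * w₁ = w₁ * s → s * w₂ = w₂ * s → s ∈ dOf K J := by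
    intro s hs h1 h2
    rw [h.mem_D_iff hs]
    intro v hv
    rcases hall v hv with rfl | rfl | rfl | rfl
    · simp
    · exact h1
    · exact h2
    · calc s * (w₁ * w₂) = (s * w₁) * w₂ := by group
        _ = w₁ * (s * w₂) := by rw [h1]; group
        _ = w₁ * w₂ * s := by rw [h2]; group
  have key : ∀ s ∈ S, s ∉ dOf K J → s * w₂ * s⁻¹ = w₁ * w₂ := by
    intro s hs hsD
    have hsL := h.syl.1 hs
    have hsw₁ : s * w₁ * s⁻¹ = w₁ := by rw [hc s hs]; group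
    rcases hall _ (h.kd.nzLW s hsL w₂ hw₂) with h1 | h1 | h1 | h1
    · exfalso
      apply hw₂1
      have : w₂ = s⁻¹ * (s * w₂ * s⁻¹) * s := by group
      rw [this, h1]; group
    · exfalso
      apply hne
      have e1 : s * w₂ * s⁻¹ = s * w₁ * s⁻¹ := h1.trans hsw₁.symm
      have e2 := mul_right_cancel e1
      exact (mul_left_cancel e2).symm
    · exfalso
      apply hsD
      apply cent s hsL (hc s hs)
      rw [mul_inv_eq_iff_eq_mul] at h1
      exact h1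
    · exact h1
  have haL := h.syl.1 ha
  have hbL := h.syl.1 hb
  apply cent (a * b) (mul_mem haL hbL) (hc _ (mul_mem ha hb))
  have e : (a * b) * w₂ * (a * b)⁻¹ = w₂ := by
    calc (a * b) * w₂ * (a * b)⁻¹ = a * (b * w₂ * b⁻¹) * a⁻¹ := by group
      _ = a * (w₁ * w₂) * a⁻¹ := by rw [key b hb hbD]
      _ = (a * w₁ * a⁻¹) * (a * w₂ * a⁻¹) := by group
      _ = w₁ * (w₁ * w₂) := by
          rw [key a ha haD]
          have : a * w₁ * a⁻¹ = w₁ := by rw [hc a ha]; group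
          rw [this]
      _ = (w₁ * w₁) * w₂ := by group
      _ = w₂ := by rw [h.kd.wsq w₁ hw₁, one_mul]
  rw [mul_inv_eq_iff_eq_mul] at e
  exact e

theorem J_not_le_D [Finite G] : ¬ J ≤ dOf K J := by
  intro hJD
  have hK : K ≤ dOf K J := by
    have h1 : ⁅K, J⁆ ≤ dOf K J := by
      rw [Subgroup.commutator_le]
      intro k hk j hj
      rw [commutatorElement_def]
      have h2 : k * j * k⁻¹ ∈ dOf K J :=
        h.nzLD k ((le_sup_left : K ≤ K ⊔ J) hk) j (hJD hj)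
      exact mul_mem h2 (inv_mem (hJD hj))
    rwa [h.kd.comm] at h1
  obtain ⟨y, hy, hy3, hyQ⟩ := h.kd.exists_y
  have hyc := (h.mem_D_iff ((le_sup_left : K ≤ K ⊔ J) hy)).1 (hK hy)
  exact h.kd.not_cent_W hy hy3 hyQ hyc

/-- `S` normalises `J`. -/
theorem nzSJ : Nz S J := by
  have h1 := Cfsg.Agent.Lib.Helper1.normalizer_le_normalizer_thompsonSubgroupOf (p := 2)
    (S := S) (T := S) (Cfsg.Agent.Lib.Helper1.thompsonSubgroupOf_le_self 2 S) le_rfl
  rw [h.JS] at h1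
  exact nz_of_le_normalizer (Subgroup.le_normalizer.trans h1)

end SData

end Cfsg.Agent.Lib.Helper3.JC
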