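import Mathlib
import Cfsg.Prelude.Def_JComponents
import Cfsg.Agent.Lib.Helper3.JC3
import Cfsg.Agent.Lib.Helper1.ThompsonBasic

/-! `J(T)`-components: Thompson replacement inside `D = C_L(W)`, the first claim
`|Z₀ ∩ W| = 2`, and the `L`-invariant subgroup `M`. -/
set_option autoImplicit false
open scoped commutatorElement
open Cfsg Cfsg.Agent.Lib.Helper1

namespace Cfsg.Agent.Lib.Helper3.JC
variable {G : Type*} [Group G]

theorem maxElAbIn_sq {S A : Subgroup G} (hA : A ∈ maxElAbIn 2 S) : ∀ a ∈ A, a * a = 1 :=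
  sq_of_isElementaryAbelian hA.2.1

theorem maxElAbIn_card_le {S A B : Subgroup G} (hA : A ∈ maxElAbIn 2 S) (hBS : B ≤ S)
    (hB : ∀ b ∈ B, b * b = 1) : Nat.card B ≤ Nat.card A :=
  hA.2.2 B hBS (isElementaryAbelian_of_sq hB)

theorem mem_maxElAbIn_of_card {S A B : Subgroup G} (hA : A ∈ maxElAbIn 2 S) (hBS : B ≤ S)
    (hB : ∀ b ∈ B, b * b = 1) (hc : Nat.card A ≤ Nat.card B) : B ∈ maxElAbIn 2 S :=
  ⟨hBS, isElementaryAbelian_of_sq hB, fun C hCS hC => (hA.2.2 C hCS hC).trans hc⟩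

theorem maxElAbIn_absorb [Finite G] {S A B : Subgroup G} (hA : A ∈ maxElAbIn 2 S) (hBS : B ≤ S)
    (hB : ∀ b ∈ B, b * b = 1) (hAB : ∀ a ∈ A, ∀ b ∈ B, a * b = b * a) : B ≤ A := by
  have hsq := sq_sup (maxElAbIn_sq hA) hB hAB
  have hc := maxElAbIn_card_le hA (sup_le hA.1 hBS) hsq
  have he := Subgroup.eq_of_le_of_card_ge (le_sup_left : A ≤ A ⊔ B) hc
  calc B ≤ A ⊔ B := le_sup_right
    _ = A := he.symm

theorem exists_maxElAbIn [Finite G] (S : Subgroup G) : ∃ A, A ∈ maxElAbIn 2 S := by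
  obtain ⟨A, hA⟩ := exists_mem_maxElementaryAbelianSubgroups (G := ↥S) 2
  exact ⟨_, map_subtype_mem_maxElAbIn hA⟩

/-- The intersection of the maximal elementary abelian subgroups of `S` inside `D`. -/
def mOf (K J S : Subgroup G) : Subgroup G := sInf {A | A ∈ maxElAbIn 2 S ∧ A ≤ dOf K J}

namespace SData
variable {K J S : Subgroup G} (h : SData K J S)
include h

theorem J_eq_sSup : J = sSup (maxElAbIn 2 S) := by
  have := thompsonSubgroupOf_eq_sSup 2 S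
  rw [h.JS] at this
  exact this

theorem le_J {A : Subgroup G} (hA : A ∈ maxElAbIn 2 S) : A ≤ J := by
  have := le_thompsonSubgroupOf_of_mem hA
  rw [h.JS] at this
  exact this

theorem D_comm_W {d w : G} (hd : d ∈ dOf K J) (hw : w ∈ wOf K) : d * w = w * d :=
  (h.mem_D_iff hd.1).1 hd w hw

theorem W_le_of_le_D [Finite G] {A : Subgroup G} (hA : A ∈ maxElAbIn 2 S)
    (hAD : A ≤ dOf K J) : wOf K ≤ A :=
  maxElAbIn_absorb hA h.W_le_S h.kd.wsq (fun _ ha _ hw => h.D_comm_W (hAD ha) hw)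

theorem Z0_le [Finite G] {A : Subgroup G} (hA : A ∈ maxElAbIn 2 S) : omegaCenterOf J ≤ A := by
  apply maxElAbIn_absorb hA
  · exact ((omegaCenterOf_le J).trans inf_le_left).trans h.J_le_S
  · exact omegaCenterOf_sq J
  · intro a ha z hz
    have : z ∈ Subgroup.centralizer ((J : Subgroup G) : Set G) := (omegaCenterOf_le J hz).2
    exact Subgroup.mem_centralizer_iff.1 this a (h.le_J hA ha)

/-- Thompson replacement. -/
theorem star_mem [Finite G] {A : Subgroup G} (hA : A ∈ maxElAbIn 2 S) (hAD : ¬ A ≤ dOf K J) :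
    (A ⊓ dOf K J) ⊔ wOf K ∈ maxElAbIn 2 S := by
  obtain ⟨a, haA, haD⟩ := SetLike.not_le_iff_exists.1 hAD
  have hAsq := maxElAbIn_sq hA
  have haS := hA.1 haA
  have haL := h.syl.1 haS
  have hsq : ∀ x ∈ (A ⊓ dOf K J) ⊔ wOf K, x * x = 1 :=
    sq_sup (fun x hx => hAsq x hx.1) h.kd.wsq (fun x hx w hw => h.D_comm_W hx.2 hw)
  have hle : (A ⊓ dOf K J) ⊔ wOf K ≤ S := sup_le (inf_le_left.trans hA.1) h.W_le_S
  apply mem_maxElAbIn_of_card hA hle hsq
  have hidx : (dOf K J).relIndex A = 2 := by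
    rw [Subgroup.relIndex_eq_two_iff]
    refine ⟨a, haA, fun b hb => ?_⟩
    by_cases hbD : b ∈ dOf K J
    · right
      refine ⟨hbD, fun hba => haD ?_⟩
      have e : a = b⁻¹ * (b * a) := by group
      rw [e]; exact mul_mem (inv_mem hbD) hba
    · left
      exact ⟨h.mul_mem_D (hA.1 hb) haS hbD haD, hbD⟩
  have hcard : Nat.card A = Nat.card ↥(A ⊓ dOf K J) * 2 := by
    have := Subgroup.relIndex_mul_relIndex ⊥ (A ⊓ dOf K J) A bot_le inf_le_left
    rw [Subgroup.relIndex_bot_left, Subgroup.relIndex_bot_left, Subgroup.inf_relIndex_left,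
      hidx] at this
    exact this.symm
  have hex : ∃ w ∈ wOf K, a * w ≠ w * a := by
    by_contra hne
    push Not at hne
    exact haD ((h.mem_D_iff haL).2 hne)
  obtain ⟨w, hw, hwa⟩ := hex
  have hwA : w ∉ A := fun hwA => hwa (comm_of_sq hAsq haA hwA)
  have hlt : A ⊓ dOf K J < (A ⊓ dOf K J) ⊔ wOf K := by
    refine lt_of_le_of_ne le_sup_left ?_
    intro he
    apply hwA
    have hw' : w ∈ (A ⊓ dOf K J) ⊔ wOf K := (le_sup_right : wOf K ≤ _) hw
    exact (he.symm.le hw').1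
  have := two_mul_card_le_of_lt hlt
  rw [hcard]; omega

theorem star_le_D {A : Subgroup G} : (A ⊓ dOf K J) ⊔ wOf K ≤ dOf K J :=
  sup_le inf_le_right h.W_le_D

theorem exists_not_le_D [Finite G] : ∃ A ∈ maxElAbIn 2 S, ¬ A ≤ dOf K J := by
  by_contra hne
  push Not at hne
  apply h.J_not_le_D
  calc J = sSup (maxElAbIn 2 S) := h.J_eq_sSup
    _ ≤ dOf K J := sSup_le hne

theorem W_le_J [Finite G] : wOf K ≤ J := by
  obtain ⟨A, hA, hAD⟩ := h.exists_not_le_D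
  exact (le_sup_right : wOf K ≤ (A ⊓ dOf K J) ⊔ wOf K).trans (h.le_J (h.star_mem hA hAD))

/-- First claim: `|Z₀ ∩ W| = 2`. -/
theorem card_Z0_inf_W [Finite G] : Nat.card ↥(omegaCenterOf J ⊓ wOf K) = 2 := by
  obtain ⟨w₁, hw₁, hw₁1, hc⟩ := h.exists_w1
  have hw₁Z : w₁ ∈ omegaCenterOf J :=
    mem_omegaCenterOf (h.W_le_J hw₁) (fun y hy => hc y (h.J_le_S hy)) (h.kd.wsq w₁ hw₁)
  have hne_bot : omegaCenterOf J ⊓ wOf K ≠ ⊥ := by
    intro hb
    have : w₁ ∈ omegaCenterOf J ⊓ wOf K := ⟨hw₁Z, hw₁⟩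
    rw [hb, Subgroup.mem_bot] at this
    exact hw₁1 this
  have hne_W : omegaCenterOf J ⊓ wOf K ≠ wOf K := by
    intro he
    apply h.J_not_le_D
    intro j hj
    rw [h.mem_D_iff ((le_sup_right : J ≤ K ⊔ J) hj)]
    intro w hw
    have hwZ : w ∈ omegaCenterOf J := (he.symm.le hw).1
    have : w ∈ Subgroup.centralizer ((J : Subgroup G) : Set G) := (omegaCenterOf_le J hwZ).2
    exact Subgroup.mem_centralizer_iff.1 this j hj
  have hdvd : Nat.card ↥(omegaCenterOf J ⊓ wOf K) ∣ 2 ^ 2 := by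
    have : Nat.card ↥(omegaCenterOf J ⊓ wOf K) ∣ Nat.card ↥(wOf K) :=
      Subgroup.card_dvd_of_le inf_le_right
    rw [h.kd.wcard] at this
    exact this
  have h1 : Nat.card ↥(omegaCenterOf J ⊓ wOf K) ≠ 1 := by
    intro h1; exact hne_bot (Subgroup.card_eq_one.1 h1)
  have h4 : Nat.card ↥(omegaCenterOf J ⊓ wOf K) ≠ 4 := by
    intro h4
    apply hne_W
    exact Subgroup.eq_of_le_of_card_ge inf_le_right (by rw [h4, h.kd.wcard])
  obtain ⟨m, hm, hm'⟩ := (Nat.dvd_prime_pow Nat.prime_two).1 hdvd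
  interval_cases m
  · exact absurd hm' h1
  · exact hm'
  · exact absurd hm' h4

theorem M_le {A : Subgroup G} (hA : A ∈ maxElAbIn 2 S) (hAD : A ≤ dOf K J) : mOf K J S ≤ A :=
  sInf_le ⟨hA, hAD⟩

theorem M_le_star [Finite G] {A : Subgroup G} (hA : A ∈ maxElAbIn 2 S) (hAD : ¬ A ≤ dOf K J) :
    mOf K J S ≤ (A ⊓ dOf K J) ⊔ wOf K :=
  h.M_le (h.star_mem hA hAD) h.star_le_D

theorem M_sq [Finite G] : ∀ m ∈ mOf K J S, m * m = 1 := by
  obtain ⟨A, hA, hAD⟩ := h.exists_not_le_D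
  intro m hm
  exact maxElAbIn_sq (h.star_mem hA hAD) m (h.M_le_star hA hAD hm)

theorem M_le_D [Finite G] : mOf K J S ≤ dOf K J := by
  obtain ⟨A, hA, hAD⟩ := h.exists_not_le_D
  exact (h.M_le_star hA hAD).trans h.star_le_D

theorem Z0_le_M [Finite G] : omegaCenterOf J ≤ mOf K J S :=
  le_sInf (fun _ hA => h.Z0_le hA.1)

theorem W_le_M [Finite G] : wOf K ≤ mOf K J S :=
  le_sInf (fun _ hA => h.W_le_of_le_D hA.1 hA.2)

theorem nzLM [Finite G] : Nz (K ⊔ J) (mOf K J S) := by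
  intro l hl m hm
  unfold mOf
  rw [Subgroup.mem_sInf]
  rintro A ⟨hA, hAD⟩
  have hA'D : A.map (MulAut.conj l⁻¹).toMonoidHom ≤ dOf K J := by
    rintro _ ⟨a, ha, rfl⟩
    exact h.nzLD l⁻¹ (inv_mem hl) a (hAD ha)
  have hA' := conj_mem_maxElAbIn hA l⁻¹ (hA'D.trans h.D_le_S)
  obtain ⟨a, ha, hae⟩ := h.M_le hA' hA'D hm
  have hae' : l⁻¹ * a * l⁻¹⁻¹ = m := hae
  have e : l * m * l⁻¹ = a := by rw [← hae']; group
  rw [e]; exact ha

theorem J_le_centMod [Finite G] :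
    J ≤ centMod (K ⊔ J) (mOf K J S) (wOf K) h.nzLM h.kd.nzLW := by
  have hle : sSup (maxElAbIn 2 S) ≤ centMod (K ⊔ J) (mOf K J S) (wOf K) h.nzLM h.kd.nzLW := by
    apply sSup_le
    intro A hA a ha
    have haL : a ∈ K ⊔ J := h.syl.1 (hA.1 ha)
    refine ⟨haL, fun m hm => ?_⟩
    by_cases hAD : A ≤ dOf K J
    · have hmA := h.M_le hA hAD hm
      have e : ⁅m, a⁆ = 1 := by
        rw [commutatorElement_eq_one_iff_mul_comm]
        exact comm_of_sq (maxElAbIn_sq hA) hmA ha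
      rw [e]; exact one_mem _
    · have hm' := h.M_le_star hA hAD hm
      have hWn : wOf K ≤ Subgroup.normalizer ((A ⊓ dOf K J : Subgroup G) : Set G) := by
        refine le_trans ?_ (Subgroup.centralizer_le_normalizer _)
        intro w hw
        rw [Subgroup.mem_centralizer_iff]
        intro x hx
        exact h.D_comm_W hx.2 hw
      have hm'' : m ∈ (((A ⊓ dOf K J) ⊔ wOf K : Subgroup G) : Set G) := hm'
      rw [Subgroup.coe_mul_of_right_le_normalizer_left _ _ hWn] at hm''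
      obtain ⟨b, hb, w, hw, rfl⟩ := hm''
      have hab : b⁻¹ * a⁻¹ = a⁻¹ * b⁻¹ :=
        comm_of_sq (maxElAbIn_sq hA) (inv_mem hb.1) (inv_mem ha)
      have e : ⁅b * w, a⁆ = b * ⁅w, a⁆ * b⁻¹ := by
        calc ⁅b * w, a⁆ = b * w * a * w⁻¹ * (b⁻¹ * a⁻¹) := by
              rw [commutatorElement_def]; group
          _ = b * w * a * w⁻¹ * (a⁻¹ * b⁻¹) := by rw [hab]
          _ = b * ⁅w, a⁆ * b⁻¹ := by rw [commutatorElement_def]; group
      rw [e]
      have hbL : b ∈ K ⊔ J := h.syl.1 (hA.1 hb.1)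
      apply h.kd.nzLW b hbL
      rw [commutatorElement_def]
      have e2 : w * a * w⁻¹ * a⁻¹ = w * (a * w⁻¹ * a⁻¹) := by group
      rw [e2]; exact mul_mem hw (h.kd.nzLW a haL _ (inv_mem hw))
  calc J = sSup (maxElAbIn 2 S) := h.J_eq_sSup
    _ ≤ _ := hle

theorem L_le_centMod [Finite G] :
    K ⊔ J ≤ centMod (K ⊔ J) (mOf K J S) (wOf K) h.nzLM h.kd.nzLW := by
  refine sup_le ?_ h.J_le_centMod
  have := commutator_le_centMod h.nzLM h.kd.nzLW (A := K) (B := J) le_sup_left h.J_le_centMod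
  rwa [h.kd.comm] at this

theorem comm_mem_W [Finite G] {m g : G} (hm : m ∈ mOf K J S) (hg : g ∈ K ⊔ J) :
    ⁅m, g⁆ ∈ wOf K :=
  (h.L_le_centMod hg).2 m hm

end SData

end Cfsg.Agent.Lib.Helper3.JC
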