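import Mathlib
import Cfsg.Prelude.Def_JComponents
import Cfsg.Agent.Lib.Helper3.JC4

/-! `J(T)`-components: the decomposition `Z₀ = (Z₀ ∩ Z(L)) (Z₀ ∩ W)`. -/
set_option autoImplicit false
open scoped commutatorElement
open Cfsg Cfsg.Agent.Lib.Helper1

namespace Cfsg.Agent.Lib.Helper3.JC
variable {G : Type*} [Group G]

theorem mem_centralizer_sup {A B : Subgroup G} {c : G} (hA : ∀ a ∈ A, a * c = c * a)
    (hB : ∀ b ∈ B, b * c = c * b) : c ∈ Subgroup.centralizer ((A ⊔ B : Subgroup G) : Set G) := by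
  have hle : A ⊔ B ≤ Subgroup.centralizer {c} := by
    apply sup_le
    · intro a ha; exact Subgroup.mem_centralizer_singleton_iff.mpr (hA a ha)
    · intro b hb; exact Subgroup.mem_centralizer_singleton_iff.mpr (hB b hb)
  rw [Subgroup.mem_centralizer_iff]
  intro m hm
  exact Subgroup.mem_centralizer_singleton_iff.mp (hle hm)

theorem exists_isSylowTwoIn [Finite G] {J L : Subgroup G} (hJL : J ≤ L) (hJ : IsPGroup 2 ↥J) :
    ∃ S, IsSylowTwoIn S L ∧ J ≤ S := by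
  haveI : Fact (Nat.Prime 2) := ⟨Nat.prime_two⟩
  have h1 : IsPGroup 2 ↥(J.subgroupOf L) := hJ.comap_subtype
  obtain ⟨P, hP⟩ := h1.exists_le_sylow
  refine ⟨(P : Subgroup ↥L).map L.subtype, ⟨Subgroup.map_subtype_le _, P.2.map _, ?_⟩, ?_⟩
  · have e : ((P : Subgroup ↥L).map L.subtype).relIndex L = (P : Subgroup ↥L).index := by
      unfold Subgroup.relIndex
      rw [← Subgroup.comap_subtype, Subgroup.comap_map_eq_self_of_injective L.subtype_injective]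
    rw [e]
    have := P.not_dvd_index
    exact Nat.odd_iff.2 (Nat.two_dvd_ne_zero.1 this)
  · intro j hj
    exact ⟨⟨j, hJL hj⟩, hP (Subgroup.mem_subgroupOf.2 hj), rfl⟩

/-- `R = C_Q(Z₀ W)`. -/
def rOf (K J : Subgroup G) : Subgroup G :=
  pCoreOf 2 K ⊓ Subgroup.centralizer ((omegaCenterOf J ⊔ wOf K : Subgroup G) : Set G)

namespace SData
variable {K J S : Subgroup G} (h : SData K J S)
include h

theorem nzLM1 [Finite G] : Nz (K ⊔ J) (omegaCenterOf J ⊔ wOf K) := by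
  apply nz_of_map_le
  intro l hl
  rw [Subgroup.map_sup]
  apply sup_le
  · rintro _ ⟨z, hz, rfl⟩
    show l * z * l⁻¹ ∈ omegaCenterOf J ⊔ wOf K
    have hzM := h.Z0_le_M hz
    have hc : ⁅z, l⁆ ∈ wOf K := h.comm_mem_W hzM hl
    have e : l * z * l⁻¹ = (⁅z, l⁆)⁻¹ * z := by rw [commutatorElement_def]; group
    rw [e]
    exact mul_mem ((le_sup_right : wOf K ≤ omegaCenterOf J ⊔ wOf K) (inv_mem hc))
      ((le_sup_left : omegaCenterOf J ≤ omegaCenterOf J ⊔ wOf K) hz)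
  · exact (h.kd.nzLW.map_le hl).trans le_sup_right

theorem nzLR [Finite G] : Nz (K ⊔ J) (rOf K J) := by
  unfold rOf
  exact h.kd.nzLQ.inf h.nzLM1.centralizer

theorem J_le_centModQ [Finite G] :
    J ≤ centMod (K ⊔ J) (pCoreOf 2 K) (rOf K J) h.kd.nzLQ h.nzLR := by
  intro j hj
  have hjL : j ∈ K ⊔ J := (le_sup_right : J ≤ K ⊔ J) hj
  refine ⟨hjL, fun q hq => ?_⟩
  have h1 : ⁅q, j⁆ ∈ pCoreOf 2 K := by
    rw [commutatorElement_def]
    have e : q * j * q⁻¹ * j⁻¹ = q * (j * q⁻¹ * j⁻¹) := by group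
    rw [e]; exact mul_mem hq (h.kd.nzLQ j hjL _ (inv_mem hq))
  have hqS : q ∈ S := h.D_le_S (h.Q_le_D hq)
  have h2 : ⁅q, j⁆ ∈ J := by
    rw [commutatorElement_def]
    exact mul_mem (h.nzSJ q hqS j hj) (inv_mem hj)
  refine ⟨h1, ?_⟩
  apply mem_centralizer_sup
  · intro z hz
    have : z ∈ Subgroup.centralizer ((J : Subgroup G) : Set G) := (omegaCenterOf_le J hz).2
    exact (Subgroup.mem_centralizer_iff.1 this _ h2).symm
  · intro w hw
    exact (h.kd.Q_comm_W h1 hw).symm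

theorem comm_mem_R [Finite G] {q k : G} (hq : q ∈ pCoreOf 2 K) (hk : k ∈ K) :
    ⁅q, k⁆ ∈ rOf K J := by
  have h1 := commutator_le_centMod h.kd.nzLQ h.nzLR (A := K) (B := J) le_sup_left
    h.J_le_centModQ
  rw [h.kd.comm] at h1
  exact (h1 hk).2 q hq

/-- Second claim, elementwise. -/
theorem split [Finite G] {z : G} (hz : z ∈ omegaCenterOf J) :
    z ∈ (omegaCenterOf J ⊓ ((K ⊔ J) ⊓ Subgroup.centralizer ((K ⊔ J : Subgroup G) : Set G))) ⊔
      (omegaCenterOf J ⊓ wOf K) := by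
  obtain ⟨y, hy, hy3, hyQ⟩ := h.kd.exists_y
  have hyL : y ∈ K ⊔ J := (le_sup_left : K ≤ K ⊔ J) hy
  have hzM := h.Z0_le_M hz
  have hMsq := h.M_sq
  have hML : mOf K J S ≤ K ⊔ J := h.M_le_D.trans inf_le_left
  obtain ⟨z₁, hz₁⟩ : ∃ z₁, z₁ = y * z * y⁻¹ := ⟨_, rfl⟩
  obtain ⟨z₂, hz₂⟩ : ∃ z₂, z₂ = y * z₁ * y⁻¹ := ⟨_, rfl⟩
  have hz₁M : z₁ ∈ mOf K J S := by rw [hz₁]; exact h.nzLM y hyL z hzM
  have hz₂M : z₂ ∈ mOf K J S := by rw [hz₂]; exact h.nzLM y hyL z₁ hz₁M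
  have hz₃ : y * z₂ * y⁻¹ = z := by
    have hyyy : y * y * y = 1 := by rw [← hy3]; simp [pow_succ]
    have e : y * z₂ * y⁻¹ = (y * y * y) * z * (y * y * y)⁻¹ := by rw [hz₂, hz₁]; group
    rw [e, hyyy]; group
  obtain ⟨w, hw⟩ : ∃ w, w = z₁ * z₂ := ⟨_, rfl⟩
  obtain ⟨c, hc⟩ : ∃ c, c = z * w := ⟨_, rfl⟩
  have hwM : w ∈ mOf K J S := by rw [hw]; exact mul_mem hz₁M hz₂M
  have hcM : c ∈ mOf K J S := by rw [hc]; exact mul_mem hzM hwM
  have hzcw : z = c * w := by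
    have e : c * w = z * (w * w) := by rw [hc]; group
    rw [e, hMsq w hwM, mul_one]
  -- `w ∈ W`
  have hwW : w ∈ wOf K := by
    have h1 : ⁅z₁, y⁆ ∈ wOf K := h.comm_mem_W hz₁M hyL
    have hz₁inv : z₁⁻¹ = z₁ := inv_eq_self_of_sq (hMsq z₁ hz₁M)
    have e1 : w = z₁ * (⁅z₁, y⁆)⁻¹ * z₁ := by
      rw [hw, hz₂, commutatorElement_def]; group
    have e2 : z₁ * (⁅z₁, y⁆)⁻¹ * z₁ = z₁ * (⁅z₁, y⁆)⁻¹ * z₁⁻¹ := by rw [hz₁inv]
    rw [e1, e2]
    exact h.kd.nzLW z₁ (hML hz₁M) _ (inv_mem h1)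
  -- `y` centralises `c`
  have hyc : y * c * y⁻¹ = c := by
    have e : y * c * y⁻¹ = (y * z * y⁻¹) * ((y * z₁ * y⁻¹) * (y * z₂ * y⁻¹)) := by
      rw [hc, hw]; group
    rw [e, ← hz₁, ← hz₂, hz₃]
    have hcomm : z₂ * z = z * z₂ := comm_of_sq hMsq hz₂M hzM
    have hcomm1 : z₁ * z = z * z₁ := comm_of_sq hMsq hz₁M hzM
    calc z₁ * (z₂ * z) = z₁ * (z * z₂) := by rw [hcomm]
      _ = (z₁ * z) * z₂ := by group
      _ = (z * z₁) * z₂ := by rw [hcomm1]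
      _ = c := by rw [hc, hw]; group
  have hcM1 : c ∈ omegaCenterOf J ⊔ wOf K := by
    rw [hc]
    exact mul_mem ((le_sup_left : omegaCenterOf J ≤ omegaCenterOf J ⊔ wOf K) hz)
      ((le_sup_right : wOf K ≤ omegaCenterOf J ⊔ wOf K) hwW)
  -- `c` commutes with `Q`
  have hcQ : ∀ q ∈ pCoreOf 2 K, q * c = c * q := by
    intro q hq
    have hqL : q ∈ K ⊔ J := (le_sup_left : K ≤ K ⊔ J) (pCoreOf_le K hq)
    obtain ⟨t, ht⟩ : ∃ t, t = ⁅c, q⁆ := ⟨_, rfl⟩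
    have htW : t ∈ wOf K := by rw [ht]; exact h.comm_mem_W hcM hqL
    obtain ⟨r, hrdef⟩ : ∃ r, r = ⁅y, q⁆ := ⟨_, rfl⟩
    have hr : r ∈ rOf K J := by
      have h1 : ⁅q, y⁆ ∈ rOf K J := h.comm_mem_R hq hy
      have e : r = (⁅q, y⁆)⁻¹ := by rw [hrdef, commutatorElement_inv]
      rw [e]; exact inv_mem h1
    have hrQ : r ∈ pCoreOf 2 K := hr.1
    have hrc : r * c = c * r := by
      have h1 : r ∈ Subgroup.centralizer ((omegaCenterOf J ⊔ wOf K : Subgroup G) : Set G) := hr.2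
      exact (Subgroup.mem_centralizer_iff.1 h1 c hcM1).symm
    have hyq : y * q * y⁻¹ = r * q := by rw [hrdef, commutatorElement_def]; group
    have hyt : y * t * y⁻¹ = t := by
      have e1 : y * t * y⁻¹ = ⁅y * c * y⁻¹, y * q * y⁻¹⁆ := by
        rw [ht]; simp only [commutatorElement_def]; group
      rw [e1, hyc, hyq]
      have e2 : ⁅c, r * q⁆ = r * t * r⁻¹ := by
        calc ⁅c, r * q⁆ = (c * r) * q * c⁻¹ * q⁻¹ * r⁻¹ := by
              rw [commutatorElement_def]; group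
          _ = (r * c) * q * c⁻¹ * q⁻¹ * r⁻¹ := by rw [hrc]
          _ = r * t * r⁻¹ := by rw [ht, commutatorElement_def]; group
      rw [e2, h.kd.Q_comm_W hrQ htW]; group
    have ht1 : t = 1 := h.kd.fix_W hy hy3 hyQ htW hyt
    rw [ht] at ht1
    exact (commutatorElement_eq_one_iff_mul_comm.1 ht1).symm
  have hyc' : y * c = c * y := by
    have := hyc
    rw [mul_inv_eq_iff_eq_mul] at this
    exact this
  -- `c` commutes with `K`
  have hcK : ∀ k ∈ K, k * c = c * k := by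
    have hle : pCoreOf 2 K ⊔ Subgroup.zpowers y ≤ Subgroup.centralizer {c} := by
      apply sup_le
      · intro q hq; exact Subgroup.mem_centralizer_singleton_iff.mpr (hcQ q hq)
      · rw [Subgroup.zpowers_le]; exact Subgroup.mem_centralizer_singleton_iff.mpr hyc'
    intro k hk
    have hk' : k ∈ pCoreOf 2 K ⊔ Subgroup.zpowers y := (h.kd.sup_zpowers_eq hy hyQ).symm.le hk
    exact Subgroup.mem_centralizer_singleton_iff.mp (hle hk')
  -- `c` commutes with `J`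
  have hcJ : ∀ j ∈ J, j * c = c * j := by
    intro j hj
    have hjL : j ∈ K ⊔ J := (le_sup_right : J ≤ K ⊔ J) hj
    obtain ⟨t, ht⟩ : ∃ t, t = ⁅j, c⁆ := ⟨_, rfl⟩
    have htW : t ∈ wOf K := by
      have h1 : ⁅c, j⁆ ∈ wOf K := h.comm_mem_W hcM hjL
      have e : t = (⁅c, j⁆)⁻¹ := by rw [ht, commutatorElement_inv]
      rw [e]; exact inv_mem h1
    have hy'K : j⁻¹ * y * j ∈ K := h.kd.nzJK.inv_conj hj hy
    have hcy' : (j⁻¹ * y * j) * c = c * (j⁻¹ * y * j) := hcK _ hy'K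
    have h2 : (j * c * j⁻¹) * y = y * (j * c * j⁻¹) := by
      calc (j * c * j⁻¹) * y = j * (c * (j⁻¹ * y * j)) * j⁻¹ := by group
        _ = j * ((j⁻¹ * y * j) * c) * j⁻¹ := by rw [hcy']
        _ = y * (j * c * j⁻¹) := by group
    have hycinv : y * c⁻¹ * y⁻¹ = c⁻¹ := by
      have e : y * c⁻¹ * y⁻¹ = (y * c * y⁻¹)⁻¹ := by group
      rw [e, hyc]
    have hyt : y * t * y⁻¹ = t := by
      calc y * t * y⁻¹ = (y * (j * c * j⁻¹)) * (c⁻¹ * y⁻¹) := by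
            rw [ht, commutatorElement_def]; group
        _ = ((j * c * j⁻¹) * y) * (c⁻¹ * y⁻¹) := by rw [h2]
        _ = (j * c * j⁻¹) * (y * c⁻¹ * y⁻¹) := by group
        _ = (j * c * j⁻¹) * c⁻¹ := by rw [hycinv]
        _ = t := by rw [ht, commutatorElement_def]
    have ht1 : t = 1 := h.kd.fix_W hy hy3 hyQ htW hyt
    rw [ht] at ht1
    exact commutatorElement_eq_one_iff_mul_comm.1 ht1
  have hzJ : z ∈ J := ((omegaCenterOf_le J).trans inf_le_left) hz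
  have hcJmem : c ∈ J := by rw [hc]; exact mul_mem hzJ (h.W_le_J hwW)
  have hcZ : c ∈ omegaCenterOf J := mem_omegaCenterOf hcJmem hcJ (hMsq c hcM)
  have hwZ : w ∈ omegaCenterOf J := by
    have e : w = c⁻¹ * z := by
      have : c⁻¹ * z = c⁻¹ * (c * w) := by rw [← hzcw]
      rw [this]; group
    rw [e]; exact mul_mem (inv_mem hcZ) hz
  have hcCL : c ∈ Subgroup.centralizer ((K ⊔ J : Subgroup G) : Set G) :=
    mem_centralizer_sup hcK hcJ
  rw [hzcw]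
  exact mul_mem
    ((le_sup_left : _ ≤ (omegaCenterOf J ⊓ ((K ⊔ J) ⊓
      Subgroup.centralizer ((K ⊔ J : Subgroup G) : Set G))) ⊔ (omegaCenterOf J ⊓ wOf K))
      ⟨hcZ, (le_sup_right : J ≤ K ⊔ J) hcJmem, hcCL⟩)
    ((le_sup_right : _ ≤ (omegaCenterOf J ⊓ ((K ⊔ J) ⊓
      Subgroup.centralizer ((K ⊔ J : Subgroup G) : Set G))) ⊔ (omegaCenterOf J ⊓ wOf K))
      ⟨hwZ, hwW⟩)

end SData

end Cfsg.Agent.Lib.Helper3.JC
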