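import Mathlib
import Cfsg.Agent.Lib.Helper9.JRDefs
import Cfsg.Agent.Lib.Helper1.JRKabs

/-!
# Farm JR (S3206), unit K: the key lemma on 2-automorphisms centralizing an abelian Sylow 2-subgroup.
-/

set_option autoImplicit false

namespace Cfsg.Agent.Lib.Helper3.JRK

open Cfsg.Agent.Lib.Helper9.JRDefs
open Cfsg.Agent.Lib.Helper1.JRKabs

variable {G : Type*} [Group G]

/-- conjugation by `a x` is `a * conj x * a⁻¹` -/
theorem conj_apply_aut (a : MulAut G) (x : G) : MulAut.conj (a x) = a * MulAut.conj x * a⁻¹ := by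
  ext y
  simp only [MulAut.conj_apply, MulAut.mul_apply, map_mul, map_inv, MulAut.apply_inv_self]

/-- The hom `G ⋊ A → Aut G`, `(g, a) ↦ conj g * a`. -/
noncomputable def Theta (A : Subgroup (MulAut G)) : G ⋊[A.subtype] A →* MulAut G :=
  SemidirectProduct.lift (MulAut.conj : G →* MulAut G) A.subtype (by
    intro a
    ext x y
    simp only [MonoidHom.comp_apply, MulEquiv.coe_toMonoidHom, MulAut.conj_apply,
      MulAut.mul_apply, map_mul, map_inv, MulAut.apply_inv_self])

theorem Theta_inl (A : Subgroup (MulAut G)) (g : G) :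
    Theta A (SemidirectProduct.inl g) = MulAut.conj g := by
  simp [Theta]

theorem Theta_inr (A : Subgroup (MulAut G)) (a : A) :
    Theta A (SemidirectProduct.inr a) = (a : MulAut G) := by
  simp [Theta]

theorem conj_inl (A : Subgroup (MulAut G)) (h : G ⋊[A.subtype] A) (x : G) :
    h * SemidirectProduct.inl x * h⁻¹ = SemidirectProduct.inl (Theta A h x) := by
  rw [← SemidirectProduct.inl_left_mul_inr_right h]
  rw [map_mul, Theta_inl, Theta_inr, MulAut.mul_apply, MulAut.conj_apply]
  have h1 := SemidirectProduct.inl_aut (φ := A.subtype) h.right x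
  simp only [map_mul, map_inv, mul_inv_rev]
  have h2 : (SemidirectProduct.inl (((h.right : A) : MulAut G) x) : G ⋊[A.subtype] A) =
      SemidirectProduct.inr h.right * SemidirectProduct.inl x * (SemidirectProduct.inr h.right)⁻¹ := by
    rw [← map_inv]
    exact h1
  rw [h2]
  group


/-- `T₀ = {(s, a) | s ∈ S}` when `A` fixes `S` elementwise. -/
def T0 (A : Subgroup (MulAut G)) (S : Subgroup G) (hfix : ∀ a ∈ A, ∀ s ∈ S, a s = s) :
    Subgroup (G ⋊[A.subtype] A) where
  carrier := {h | h.left ∈ S}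
  one_mem' := S.one_mem
  mul_mem' := by
    intro x y hx hy
    show (x * y).left ∈ S
    rw [SemidirectProduct.mul_left]
    have : (A.subtype x.right) y.left = y.left := hfix _ x.right.2 _ hy
    rw [this]
    exact S.mul_mem hx hy
  inv_mem' := by
    intro x hx
    show (x⁻¹).left ∈ S
    rw [SemidirectProduct.inv_left]
    have : (A.subtype x.right⁻¹) x.left⁻¹ = x.left⁻¹ :=
      hfix _ (x.right⁻¹).2 _ (S.inv_mem hx)
    rw [this]
    exact S.inv_mem hx

theorem mem_T0 (A : Subgroup (MulAut G)) (S : Subgroup G) (hfix : ∀ a ∈ A, ∀ s ∈ S, a s = s)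
    (h : G ⋊[A.subtype] A) : h ∈ T0 A S hfix ↔ h.left ∈ S := Iff.rfl

theorem card_T0 (A : Subgroup (MulAut G)) (S : Subgroup G) (hfix : ∀ a ∈ A, ∀ s ∈ S, a s = s) :
    Nat.card ↥(T0 A S hfix) = Nat.card ↥S * Nat.card ↥A := by
  rw [← Nat.card_prod]
  apply Nat.card_congr
  exact
    { toFun := fun h => (⟨h.1.left, h.2⟩, h.1.right)
      invFun := fun p => ⟨⟨p.1.1, p.2⟩, p.1.2⟩
      left_inv := fun h => rfl
      right_inv := fun p => rfl }

theorem T0_comm (A : Subgroup (MulAut G)) (S : Subgroup G) (hfix : ∀ a ∈ A, ∀ s ∈ S, a s = s)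
    (hS : ∀ a ∈ S, ∀ b ∈ S, a * b = b * a) (hA : ∀ a ∈ A, ∀ b ∈ A, a * b = b * a)
    (x y : G ⋊[A.subtype] A) (hx : x ∈ T0 A S hfix) (hy : y ∈ T0 A S hfix) : x * y = y * x := by
  refine SemidirectProduct.ext ?_ ?_
  · rw [SemidirectProduct.mul_left, SemidirectProduct.mul_left]
    have h1 : (A.subtype x.right) y.left = y.left := hfix _ x.right.2 _ hy
    have h2 : (A.subtype y.right) x.left = x.left := hfix _ y.right.2 _ hx
    rw [h1, h2]
    exact hS _ hx _ hy
  · rw [SemidirectProduct.mul_right, SemidirectProduct.mul_right]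
    apply Subtype.ext
    show ((x.right : MulAut G)) * (y.right : MulAut G) = (y.right : MulAut G) * (x.right : MulAut G)
    exact hA _ x.right.2 _ y.right.2


theorem commutator_eq_range_inl (A : Subgroup (MulAut G)) (hperf : commutator G = ⊤)
    (hA : ∀ a ∈ A, ∀ b ∈ A, a * b = b * a) :
    commutator (G ⋊[A.subtype] A) = (SemidirectProduct.inl : G →* G ⋊[A.subtype] A).range := by
  apply le_antisymm
  · rw [commutator_def, Subgroup.commutator_le]
    intro x _ y _
    rw [SemidirectProduct.range_inl_eq_ker_rightHom, MonoidHom.mem_ker, map_commutatorElement,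
      commutatorElement_eq_one_iff_mul_comm]
    apply Subtype.ext
    exact hA _ (SemidirectProduct.rightHom x).2 _ (SemidirectProduct.rightHom y).2
  · rw [MonoidHom.range_eq_map, ← hperf, commutator_def, Subgroup.map_commutator]
    exact Subgroup.commutator_mono le_top le_top

theorem index_T0 [Finite G] (A : Subgroup (MulAut G)) (S : Subgroup G)
    (hfix : ∀ a ∈ A, ∀ s ∈ S, a s = s) : (T0 A S hfix).index = S.index := by
  have h1 := (T0 A S hfix).index_mul_card
  have h2 := S.index_mul_card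
  rw [card_T0, SemidirectProduct.card, ← h2] at h1
  have hpos : 0 < Nat.card ↥S * Nat.card ↥A := Nat.mul_pos Nat.card_pos Nat.card_pos
  have : (T0 A S hfix).index * (Nat.card ↥S * Nat.card ↥A) = S.index * (Nat.card ↥S * Nat.card ↥A) := by
    rw [h1]; ring
  exact Nat.eq_of_mul_eq_mul_right hpos this


theorem K [Finite G] (hperf : commutator G = ⊤) (S : Sylow 2 G)
    (hc : ∀ a ∈ S, ∀ b ∈ S, a * b = b * a) (φ : G ≃* G) (k : ℕ) (hφ : φ ^ (2 ^ k) = 1)
    (hfix : ∀ s ∈ S, φ s = s) :
    ∃ s0 ∈ S, ∀ n ∈ Subgroup.normalizer ((S : Subgroup G) : Set G), ∃ μ : G ≃* G,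
      (∀ s ∈ S, μ s = n * s * n⁻¹) ∧
        μ * (MulAut.conj s0 * φ) = (MulAut.conj s0 * φ) * μ := by
  have : Fact (Nat.Prime 2) := ⟨Nat.prime_two⟩
  -- the cyclic group generated by `φ`
  set A : Subgroup (MulAut G) := Subgroup.zpowers (φ : MulAut G) with hA
  have hAcomm : ∀ a ∈ A, ∀ b ∈ A, a * b = b * a := by
    intro a ha b hb
    obtain ⟨i, rfl⟩ := Subgroup.mem_zpowers_iff.mp ha
    obtain ⟨j, rfl⟩ := Subgroup.mem_zpowers_iff.mp hb
    exact (Commute.zpow_zpow_self _ _ _).eq
  have hAfix : ∀ a ∈ A, ∀ s ∈ (S : Subgroup G), a s = s := by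
    intro a ha s hs
    -- the stabilizer of `s` is a subgroup containing `φ`
    let St : Subgroup (MulAut G) :=
      { carrier := {a | a s = s}
        one_mem' := rfl
        mul_mem' := by
          intro a b ha hb
          show (a * b) s = s
          rw [MulAut.mul_apply, hb, ha]
        inv_mem' := by
          intro a ha
          show a⁻¹ s = s
          have : a⁻¹ (a s) = s := MulAut.inv_apply_self _ _ _
          rwa [ha] at this }
    have hle : A ≤ St := by
      rw [hA, Subgroup.zpowers_le]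
      exact hfix s hs
    exact hle ha
  have hφA : (φ : MulAut G) ∈ A := Subgroup.mem_zpowers _
  have hfinA : Finite ↥A := inferInstance
  have hfinH : Finite (G ⋊[A.subtype] A) :=
    Finite.of_equiv (G × ↥A) SemidirectProduct.equivProd.symm
  -- the semidirect product
  set T₀ := T0 A (S : Subgroup G) hAfix with hT₀
  have hcardA : ∃ j, Nat.card ↥A = 2 ^ j := by
    rw [hA, Nat.card_zpowers]
    have hd : orderOf (φ : MulAut G) ∣ 2 ^ k := orderOf_dvd_of_pow_eq_one hφ
    obtain ⟨j, _, hj⟩ := (Nat.dvd_prime_pow Nat.prime_two).mp hd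
    exact ⟨j, hj⟩
  have hT₀p : IsPGroup 2 ↥T₀ := by
    obtain ⟨j, hj⟩ := hcardA
    obtain ⟨i, hi⟩ := S.2.exists_card_eq
    apply IsPGroup.of_card (n := i + j)
    rw [card_T0, hj, pow_add]
    congr 1
  have hT₀i : ¬ 2 ∣ T₀.index := by
    rw [index_T0]
    exact S.not_dvd_index
  set T : Sylow 2 (G ⋊[A.subtype] A) := hT₀p.toSylow hT₀i with hT
  have hmemT : ∀ h : G ⋊[A.subtype] A, h ∈ T ↔ h.left ∈ (S : Subgroup G) := by
    intro h
    rw [hT, IsPGroup.mem_toSylow]
    exact Iff.rfl
  have hTcomm : ∀ a ∈ T, ∀ b ∈ T, a * b = b * a := by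
    intro a ha b hb
    exact T0_comm A (S : Subgroup G) hAfix hc hAcomm a b ((hmemT a).mp ha) ((hmemT b).mp hb)
  set G0 : Subgroup (G ⋊[A.subtype] A) := (SemidirectProduct.inl : G →* G ⋊[A.subtype] A).range with hG0
  have hcomm : commutator (G ⋊[A.subtype] A) = G0 := commutator_eq_range_inl A hperf hAcomm
  obtain ⟨hK1, hK2⟩ := Kabs G0 hcomm T hTcomm
  -- decompose `f = inr φ`
  set f : G ⋊[A.subtype] A := SemidirectProduct.inr ⟨φ, hφA⟩ with hf
  have hfT : f ∈ T := by
    rw [hmemT]
    show (1 : G) ∈ (S : Subgroup G)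
    exact one_mem _
  obtain ⟨b, hbT, s, hsT, hsG0, hfbs, hbN⟩ := hK1 f hfT
  obtain ⟨s', hs'⟩ := hsG0
  have hs'S : s' ∈ (S : Subgroup G) := by
    have := (hmemT s).mp hsT
    rw [← hs'] at this
    exact this
  have hΘb : Theta A b = MulAut.conj s'⁻¹ * φ := by
    have h1 : f = s * b := by rw [hfbs]; exact hTcomm b hbT s hsT
    have h2 : b = s⁻¹ * f := by rw [h1]; group
    rw [h2, map_mul, map_inv, ← hs', Theta_inl, hf, Theta_inr, map_inv]
  refine ⟨s'⁻¹, inv_mem hs'S, ?_⟩
  intro n hn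
  -- `inl n` normalizes `T ⊓ G0`
  have hnN : (SemidirectProduct.inl n : G ⋊[A.subtype] A) ∈
      Subgroup.normalizer (((T : Subgroup (G ⋊[A.subtype] A)) ⊓ G0 : Subgroup _) : Set _) := by
    rw [Subgroup.mem_normalizer_iff]
    intro h
    constructor
    · rintro ⟨h1, ⟨x, rfl⟩⟩
      have hx : x ∈ (S : Subgroup G) := (hmemT _).mp h1
      have hconj : (SemidirectProduct.inl n : G ⋊[A.subtype] A) * SemidirectProduct.inl x *
          (SemidirectProduct.inl n)⁻¹ = SemidirectProduct.inl (n * x * n⁻¹) := by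
        simp only [map_mul, map_inv]
      rw [hconj]
      refine ⟨?_, ⟨_, rfl⟩⟩
      show SemidirectProduct.inl (n * x * n⁻¹) ∈ T
      rw [hmemT]
      exact (Subgroup.mem_normalizer_iff.mp hn x).mp hx
    · rintro ⟨h1, ⟨y, hy⟩⟩
      have hh : h = SemidirectProduct.inl (n⁻¹ * y * n) := by
        have : h = (SemidirectProduct.inl n : G ⋊[A.subtype] A)⁻¹ *
            (SemidirectProduct.inl n * h * (SemidirectProduct.inl n)⁻¹) * SemidirectProduct.inl n := by
          group
        rw [this, ← hy]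
        simp only [map_mul, map_inv]
      have hyS : y ∈ (S : Subgroup G) := by
        have := (hmemT _).mp h1
        rw [← hy] at this
        exact this
      rw [hh]
      refine ⟨?_, ⟨_, rfl⟩⟩
      show SemidirectProduct.inl (n⁻¹ * y * n) ∈ T
      rw [hmemT]
      have := (Subgroup.mem_normalizer_iff.mp hn (n⁻¹ * y * n)).mpr (by
        have e : n * (n⁻¹ * y * n) * n⁻¹ = y := by group
        rw [e]; exact hyS)
      exact this
  obtain ⟨d, hd1, hd2⟩ := hK2 _ hnN
  set m : G ⋊[A.subtype] A := d * SemidirectProduct.inl n with hm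
  have hmb : m * b = b * m := hbN m hd2
  refine ⟨Theta A m, ?_, ?_⟩
  · intro x hx
    apply SemidirectProduct.inl_injective (φ := A.subtype)
    rw [← conj_inl A m x, hm]
    have hnx : n * x * n⁻¹ ∈ (S : Subgroup G) := (Subgroup.mem_normalizer_iff.mp hn x).mp hx
    have hdc := hd1 (SemidirectProduct.inl (n * x * n⁻¹)) ((hmemT _).mpr hnx) ⟨_, rfl⟩
    calc d * SemidirectProduct.inl n * SemidirectProduct.inl x * (d * SemidirectProduct.inl n)⁻¹
        = d * SemidirectProduct.inl (n * x * n⁻¹) * d⁻¹ := by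
          simp only [map_mul, map_inv]; group
      _ = SemidirectProduct.inl (n * x * n⁻¹) * d * d⁻¹ := by rw [hdc]
      _ = SemidirectProduct.inl (n * x * n⁻¹) := by group
  · rw [← hΘb, ← map_mul, ← map_mul, hmb]

end Cfsg.Agent.Lib.Helper3.JRK
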