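import Mathlib
import Cfsg.Agent.Lib.Helper5.AutPSL2.Main
import Cfsg.Agent.Lib.Helper5.PSL2KleinClasses
import Cfsg.Agent.Lib.Helper9.JRP2c

/-!
# Farm JR (S3206), hedge for sub-unit P2b: an element of `GL₂(F)` whose conjugation action on `PSL₂(F)`
fixes the standard commuting involutions `mk qi`, `mk qj` acts as conjugation by an element of the
four-group they generate.
-/

set_option autoImplicit false

namespace Cfsg.Agent.Lib.Helper3.JRP2b

open Matrix Cfsg.Agent.Lib.Helper5.SL2Cyclic Cfsg.Agent.Lib.Helper5.SL2Quat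
  Cfsg.Agent.Lib.Helper5.SL2Four Cfsg.Agent.Lib.Helper5.PSL2Pairs
  Cfsg.Agent.Lib.Helper5.PSL2KleinClasses Cfsg.Agent.Lib.Helper5.AutPSL2

variable {F : Type*} [Field F]

local notation "SL2" => Matrix.SpecialLinearGroup (Fin 2) F
local notation "PSL2" => Matrix.ProjectiveSpecialLinearGroup (Fin 2) F

/-- from `cG A (mk g) = mk g` to a matrix relation `g * A = ± A * g` -/
theorem rel_of_fix (h2 : (2 : F) ≠ 0) (A : GL (Fin 2) F) (g : SL2)
    (h : cG F A (QuotientGroup.mk g) = (QuotientGroup.mk g : PSL2)) :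
    (g : Matrix (Fin 2) (Fin 2) F) * (A : Matrix (Fin 2) (Fin 2) F) =
        (A : Matrix (Fin 2) (Fin 2) F) * g ∨
      -((g : Matrix (Fin 2) (Fin 2) F) * (A : Matrix (Fin 2) (Fin 2) F)) =
        (A : Matrix (Fin 2) (Fin 2) F) * g := by
  have h' : (QuotientGroup.mk (glConj F A g) : PSL2) = QuotientGroup.mk g := h
  rw [mk_eq_mk_iff h2] at h'
  have hm := glConj_mul_eq A g
  rcases h' with h' | h'
  · left
    rw [← hm, ← h']
  · right
    rw [← hm]
    have : ((glConj F A g : SL2) : Matrix (Fin 2) (Fin 2) F) = -(g : Matrix (Fin 2) (Fin 2) F) := by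
      have h3 : (g : Matrix (Fin 2) (Fin 2) F) =
          ((glConj F A g : SL2) : Matrix (Fin 2) (Fin 2) F) * (-1) := by
        conv_lhs => rw [h']
        rfl
      rw [h3]
      simp
    rw [this, Matrix.neg_mul]


/-- entries of `qi * M = ε M * qi` and `qj * M = ε' M * qj` -/
theorem entries_qi_pos (M : Matrix (Fin 2) (Fin 2) F)
    (h : (qi F : Matrix (Fin 2) (Fin 2) F) * M = M * (qi F : Matrix (Fin 2) (Fin 2) F)) :
    M 1 0 = -M 0 1 ∧ M 1 1 = M 0 0 := by
  have h00 := congrFun (congrFun h 0) 0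
  have h01 := congrFun (congrFun h 0) 1
  simp only [qi_val, Matrix.mul_apply, Fin.sum_univ_two, Matrix.of_apply, Matrix.cons_val_zero,
    Matrix.cons_val_one, Matrix.cons_val', Matrix.cons_val_fin_one] at h00 h01
  constructor
  · linear_combination h00
  · linear_combination h01

theorem entries_qi_neg (M : Matrix (Fin 2) (Fin 2) F)
    (h : -((qi F : Matrix (Fin 2) (Fin 2) F) * M) = M * (qi F : Matrix (Fin 2) (Fin 2) F)) :
    M 1 0 = M 0 1 ∧ M 1 1 = -M 0 0 := by
  have h00 := congrFun (congrFun h 0) 0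
  have h01 := congrFun (congrFun h 0) 1
  simp only [qi_val, Matrix.neg_apply, Matrix.mul_apply, Fin.sum_univ_two, Matrix.of_apply,
    Matrix.cons_val_zero, Matrix.cons_val_one, Matrix.cons_val', Matrix.cons_val_fin_one] at h00 h01
  constructor
  · linear_combination -h00
  · linear_combination -h01

theorem entries_qj_pos (p r : F) (hpr : p ^ 2 + r ^ 2 = -1) (M : Matrix (Fin 2) (Fin 2) F)
    (h : (qj p r hpr : Matrix (Fin 2) (Fin 2) F) * M = M * (qj p r hpr : Matrix (Fin 2) (Fin 2) F)) :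
    r * M 1 0 = M 0 1 * r ∧ p * M 0 1 + r * M 1 1 = M 0 0 * r - M 0 1 * p := by
  have h00 := congrFun (congrFun h 0) 0
  have h01 := congrFun (congrFun h 0) 1
  simp only [qj_val, Matrix.mul_apply, Fin.sum_univ_two, Matrix.of_apply, Matrix.cons_val_zero,
    Matrix.cons_val_one, Matrix.cons_val', Matrix.cons_val_fin_one] at h00 h01
  constructor
  · linear_combination h00
  · linear_combination h01

theorem entries_qj_neg (p r : F) (hpr : p ^ 2 + r ^ 2 = -1) (M : Matrix (Fin 2) (Fin 2) F)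
    (h : -((qj p r hpr : Matrix (Fin 2) (Fin 2) F) * M) =
      M * (qj p r hpr : Matrix (Fin 2) (Fin 2) F)) :
    -(p * M 0 0 + r * M 1 0) = M 0 0 * p + M 0 1 * r ∧
      -(p * M 0 1 + r * M 1 1) = M 0 0 * r - M 0 1 * p := by
  have h00 := congrFun (congrFun h 0) 0
  have h01 := congrFun (congrFun h 0) 1
  simp only [qj_val, Matrix.neg_apply, Matrix.mul_apply, Fin.sum_univ_two, Matrix.of_apply,
    Matrix.cons_val_zero, Matrix.cons_val_one, Matrix.cons_val', Matrix.cons_val_fin_one] at h00 h01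
  constructor
  · linear_combination h00
  · linear_combination h01


/-- a scalar multiple of an element `e` of `SL₂` acts on `PSL₂` as conjugation by `mk e` -/
theorem cG_eq_conj_of_smul (A : GL (Fin 2) F) (e : SL2) (u : F)
    (h : (A : Matrix (Fin 2) (Fin 2) F) = u • (e : Matrix (Fin 2) (Fin 2) F)) (x : PSL2) :
    cG F A x = (QuotientGroup.mk e : PSL2) * x * (QuotientGroup.mk e : PSL2)⁻¹ := by
  obtain ⟨g, rfl⟩ := pr_surjective x
  rw [cG_pr]
  have hg : glConj F A g = e * g * e⁻¹ := by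
    apply glConj_eq_of_mul_eq
    have hs : e * g * e⁻¹ * e = e * g := by group
    have hs' := congrArg (fun y : SL2 => (y : Matrix (Fin 2) (Fin 2) F)) hs
    simp only [Matrix.SpecialLinearGroup.coe_mul] at hs'
    rw [h, Matrix.smul_mul, Matrix.mul_smul]
    congr 1
    rw [Matrix.SpecialLinearGroup.coe_mul, Matrix.SpecialLinearGroup.coe_mul]
    exact hs'.symm
  rw [hg]
  show (QuotientGroup.mk (e * g * e⁻¹) : PSL2) = QuotientGroup.mk e * QuotientGroup.mk g * (QuotientGroup.mk e)⁻¹
  rfl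

/-- the shape of `A` -/
theorem shape (h2 : (2 : F) ≠ 0) (p r : F) (hpr : p ^ 2 + r ^ 2 = -1) (A : GL (Fin 2) F)
    (hi : cG F A (QuotientGroup.mk (qi F)) = (QuotientGroup.mk (qi F) : PSL2))
    (hj : cG F A (QuotientGroup.mk (qj p r hpr)) = (QuotientGroup.mk (qj p r hpr) : PSL2)) :
    ∃ (u : F) (e : SL2), (e = 1 ∨ e = qi F ∨ e = qj p r hpr ∨ e = qi F * qj p r hpr) ∧
      (A : Matrix (Fin 2) (Fin 2) F) = u • (e : Matrix (Fin 2) (Fin 2) F) := by
  set M : Matrix (Fin 2) (Fin 2) F := (A : Matrix (Fin 2) (Fin 2) F) with hM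
  rcases rel_of_fix h2 A (qi F) hi with h1 | h1 <;> rcases rel_of_fix h2 A (qj p r hpr) hj with h3 | h3
  · -- (+,+): scalar
    obtain ⟨e1, e2⟩ := entries_qi_pos M h1
    obtain ⟨e3, e4⟩ := entries_qj_pos p r hpr M h3
    have hbr : M 0 1 * r = 0 := by
      have : (2 : F) * (M 0 1 * r) = 0 := by rw [e1] at e3; linear_combination -e3
      rcases mul_eq_zero.mp this with h | h
      · exact (h2 h).elim
      · exact h
    have hbp : M 0 1 * p = 0 := by
      have : (2 : F) * (M 0 1 * p) = 0 := by rw [e2] at e4; linear_combination e4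
      rcases mul_eq_zero.mp this with h | h
      · exact (h2 h).elim
      · exact h
    have hb : M 0 1 = 0 := by linear_combination (M 0 1) * hpr - p * hbp - r * hbr
    refine ⟨M 0 0, 1, Or.inl rfl, ?_⟩
    ext i j
    fin_cases i <;> fin_cases j <;> simp [e1, e2, hb]
  · -- (+,-): multiple of qi
    obtain ⟨e1, e2⟩ := entries_qi_pos M h1
    obtain ⟨e3, e4⟩ := entries_qj_neg p r hpr M h3
    have hap : M 0 0 * p = 0 := by
      have : (2 : F) * (M 0 0 * p) = 0 := by rw [e1] at e3; linear_combination -e3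
      rcases mul_eq_zero.mp this with h | h
      · exact (h2 h).elim
      · exact h
    have har : M 0 0 * r = 0 := by
      have : (2 : F) * (M 0 0 * r) = 0 := by rw [e2] at e4; linear_combination -e4
      rcases mul_eq_zero.mp this with h | h
      · exact (h2 h).elim
      · exact h
    have ha : M 0 0 = 0 := by linear_combination (M 0 0) * hpr - p * hap - r * har
    refine ⟨M 0 1, qi F, Or.inr (Or.inl rfl), ?_⟩
    ext i j
    fin_cases i <;> fin_cases j <;> simp [qi_val, e1, e2, ha]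
  · -- (-,+): multiple of qj
    obtain ⟨e1, e2⟩ := entries_qi_neg M h1
    obtain ⟨e3, e4⟩ := entries_qj_pos p r hpr M h3
    have hrel : M 0 0 * r = M 0 1 * p := by
      have : (2 : F) * (M 0 0 * r - M 0 1 * p) = 0 := by rw [e2] at e4; linear_combination -e4
      rcases mul_eq_zero.mp this with h | h
      · exact (h2 h).elim
      · linear_combination h
    refine ⟨-(M 0 0 * p + M 0 1 * r), qj p r hpr, Or.inr (Or.inr (Or.inl rfl)), ?_⟩
    ext i j
    fin_cases i <;> fin_cases j <;> simp [qj_val, e1, e2]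
    · linear_combination (M 0 0) * hpr - r * hrel
    · linear_combination (M 0 1) * hpr + p * hrel
    · linear_combination (M 0 1) * hpr + p * hrel
    · linear_combination (M 0 0) * hpr - r * hrel
  · -- (-,-): multiple of qi * qj
    obtain ⟨e1, e2⟩ := entries_qi_neg M h1
    obtain ⟨e3, e4⟩ := entries_qj_neg p r hpr M h3
    have hrel : M 0 0 * p + M 0 1 * r = 0 := by
      have : (2 : F) * (M 0 0 * p + M 0 1 * r) = 0 := by rw [e1] at e3; linear_combination -e3
      rcases mul_eq_zero.mp this with h | h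
      · exact (h2 h).elim
      · exact h
    refine ⟨-(M 0 0 * r - M 0 1 * p), qi F * qj p r hpr, Or.inr (Or.inr (Or.inr rfl)), ?_⟩
    have hv : ((qi F * qj p r hpr : SL2) : Matrix (Fin 2) (Fin 2) F) = !![r, -p; -p, -r] :=
      qi_mul_qj_val p r hpr
    rw [hv]
    ext i j
    fin_cases i <;> fin_cases j <;> simp [e1, e2]
    · linear_combination (M 0 0) * hpr - p * hrel
    · linear_combination (M 0 1) * hpr - r * hrel
    · linear_combination (M 0 1) * hpr - r * hrel
    · linear_combination (M 0 0) * hpr - p * hrel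


/-- **P2b**: if `cG A` fixes `mk qi` and `mk qj`, it is conjugation by an element of any subgroup
containing these two involutions. -/
theorem P2b (h2 : (2 : F) ≠ 0) (p r : F) (hpr : p ^ 2 + r ^ 2 = -1) (A : GL (Fin 2) F)
    (hi : cG F A (QuotientGroup.mk (qi F)) = (QuotientGroup.mk (qi F) : PSL2))
    (hj : cG F A (QuotientGroup.mk (qj p r hpr)) = (QuotientGroup.mk (qj p r hpr) : PSL2))
    (V : Subgroup PSL2) (hVi : (QuotientGroup.mk (qi F) : PSL2) ∈ V)
    (hVj : (QuotientGroup.mk (qj p r hpr) : PSL2) ∈ V) :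
    ∃ v ∈ V, ∀ x : PSL2, cG F A x = v * x * v⁻¹ := by
  obtain ⟨u, e, he, hA⟩ := shape h2 p r hpr A hi hj
  refine ⟨QuotientGroup.mk e, ?_, cG_eq_conj_of_smul A e u hA⟩
  rcases he with rfl | rfl | rfl | rfl
  · exact V.one_mem
  · exact hVi
  · exact hVj
  · exact V.mul_mem hVi hVj


/-- `P2b` in the form required by `Helper9.JRP2c.P2_of` -/
theorem p2bStatement (F : Type*) [Field F] : Cfsg.Agent.Lib.Helper9.JRP2c.P2bStatement F := by
  intro h2 p r hpr A hi hj
  apply P2b h2 p r hpr A hi hj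
  · rw [Cfsg.Agent.Lib.Helper5.PairOrbits.mem_kvP]
    right; left; rfl
  · rw [Cfsg.Agent.Lib.Helper5.PairOrbits.mem_kvP]
    right; right; left; rfl

end Cfsg.Agent.Lib.Helper3.JRP2b
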