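import Mathlib
import Cfsg.Agent.Lib.Helper9.JRDefs
import Cfsg.Agent.Lib.Helper9.JRP2c
import Cfsg.Agent.Lib.Helper2.JRP2a
import Cfsg.Agent.Lib.Helper3.JRP2b

/-!
# Farm JR (S3206), unit P2 (assembly of P2a, P2b, P2c).
-/

set_option autoImplicit false

namespace Cfsg.Agent.Lib.Helper3.JRP2

open Cfsg.Agent.Lib.Helper9.JRDefs

variable {F : Type*} [Field F] [Fintype F] {N : Type*} [Group N]

theorem P2 (hq : Fintype.card F % 8 = 3 ∨ Fintype.card F % 8 = 5) (e : N ≃* PSL2 F)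
    (V : Sylow 2 N) (α : N ≃* N) (k : ℕ) (hα : α ^ (2 ^ k) = 1) (hfix : ∀ v ∈ V, α v = v) :
    ∃ v ∈ V, ∀ x : N, α x = v * x * v⁻¹ :=
  Cfsg.Agent.Lib.Helper9.JRP2c.P2_of hq
    (fun α' k' h' => Cfsg.Agent.Lib.Helper2.JRP2a.P2a hq α' k' h')
    (Cfsg.Agent.Lib.Helper3.JRP2b.p2bStatement F) e V α k hα hfix

end Cfsg.Agent.Lib.Helper3.JRP2
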