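import Mathlib
import Cfsg.Agent.Lib.Helper6.KHom1
import Cfsg.Agent.Lib.Helper6.KHom2
import Cfsg.Agent.Lib.Helper4.KHomB

set_option autoImplicit false
set_option maxHeartbeats 4000000
set_option maxRecDepth 100000
set_option linter.unusedVariables false
set_option linter.unusedSectionVars false
set_option linter.style.longLine false
set_option linter.unusedSimpArgs false
set_option linter.deprecated false
set_option linter.style.haveILetI false

/-! # Livingstone–Wagner (b), piece D: the even case gives all swaps -/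

namespace Cfsg.Agent.Lib.Helper3.KHom

open MulAction SubMulAction Cfsg.Agent.Lib.Helper8.Mil Cfsg.Agent.Lib.Helper6.KHom

variable {α : Type*} [Fintype α] [DecidableEq α] (G : Subgroup (Equiv.Perm α))

/-- the stabilizer of a point outside `Γ0` in the pointwise stabilizer of `Γ0` -/
theorem stab_eq_subgroupOf (Γ0 : Finset α) (x' : ofFixingSubgroup G (Γ0 : Set α)) :
    stabilizer (fixingSubgroup G (Γ0 : Set α)) x' =
      (fixingSubgroup G ((insert (x' : α) Γ0 : Finset α) : Set α)).subgroupOf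
        (fixingSubgroup G (Γ0 : Set α)) := by
  ext m
  rw [mem_stabilizer_iff, Subgroup.mem_subgroupOf, mem_fixingSubgroup_iff]
  constructor
  · intro hm y hy
    rw [Finset.mem_coe, Finset.mem_insert] at hy
    rcases hy with rfl | hy
    · exact congrArg Subtype.val hm
    · exact (mem_fixingSubgroup_iff G).mp m.2 y (Finset.mem_coe.mpr hy)
  · intro hm
    apply Subtype.ext
    exact hm _ (Finset.mem_coe.mpr (Finset.mem_insert_self _ _))

theorem inf_stab_eq_subgroupOf (Γ0 : Finset α) (x' y' : ofFixingSubgroup G (Γ0 : Set α)) :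
    (stabilizer (fixingSubgroup G (Γ0 : Set α)) x' ⊓
      stabilizer (fixingSubgroup G (Γ0 : Set α)) y' : Subgroup (fixingSubgroup G (Γ0 : Set α))) =
      (fixingSubgroup G ((insert (x' : α) (insert (y' : α) Γ0) : Finset α) : Set α)).subgroupOf
        (fixingSubgroup G (Γ0 : Set α)) := by
  ext m
  rw [Subgroup.mem_inf, mem_stabilizer_iff, mem_stabilizer_iff, Subgroup.mem_subgroupOf,
    mem_fixingSubgroup_iff]
  constructor
  · rintro ⟨hmx, hmy⟩ z hz
    rw [Finset.mem_coe, Finset.mem_insert, Finset.mem_insert] at hz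
    rcases hz with rfl | rfl | hz
    · exact congrArg Subtype.val hmx
    · exact congrArg Subtype.val hmy
    · exact (mem_fixingSubgroup_iff G).mp m.2 z (Finset.mem_coe.mpr hz)
  · intro hm
    constructor
    · apply Subtype.ext
      exact hm _ (Finset.mem_coe.mpr (Finset.mem_insert_self _ _))
    · apply Subtype.ext
      exact hm _ (Finset.mem_coe.mpr (Finset.mem_insert_of_mem (Finset.mem_insert_self _ _)))

theorem card_subgroupOf_fix (Γ0 Γ1 : Finset α) (hsub : Γ0 ⊆ Γ1) :
    Nat.card ((fixingSubgroup G (Γ1 : Set α)).subgroupOf (fixingSubgroup G (Γ0 : Set α))) =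
      Nat.card (fixingSubgroup G (Γ1 : Set α)) := by
  have hle : fixingSubgroup G (Γ1 : Set α) ≤ fixingSubgroup G (Γ0 : Set α) := by
    intro g hg
    rw [mem_fixingSubgroup_iff] at hg ⊢
    intro y hy
    exact hg y (Finset.mem_coe.mpr (hsub (Finset.mem_coe.mp hy)))
  exact Nat.card_congr (Subgroup.subgroupOfEquivOfLe hle).toEquiv

/-- D+: a single base set `Γ0`; uses only the pair `(x, y)` for the lower bound. -/
theorem swap_of_even_at (a : ℕ) (Γ0 : Finset α) (x y : α) (hx : x ∉ Γ0) (hy : y ∉ Γ0) (hxy : x ≠ y)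
    (h2 : ∀ z w : α, z ∉ Γ0 → w ∉ Γ0 → z ≠ w → ¬ 2 ^ (a + 1) ∣ Nat.card (fixingSubgroup G ((insert z (insert w Γ0) : Finset α) : Set α)))
    (h1 : ∀ z : α, z ∉ Γ0 → 2 ^ (a + 1) ∣ Nat.card (fixingSubgroup G ((insert z Γ0 : Finset α) : Set α)))
    (h2' : 2 ^ a ∣ Nat.card (fixingSubgroup G ((insert x (insert y Γ0) : Finset α) : Set α))) :
    ∃ u : G, (∀ z ∈ Γ0, u • z = z) ∧ u • x = y ∧ u • y = x := by
  classical
  have hnm : ∀ z' : ofFixingSubgroup G (Γ0 : Set α), (z' : α) ∉ Γ0 :=
    fun z' h => z'.2 (Finset.mem_coe.mpr h)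
  have h2s : ∀ z' w' : ofFixingSubgroup G (Γ0 : Set α), z' ≠ w' →
      ¬ 2 ^ (a + 1) ∣ Nat.card (stabilizer (fixingSubgroup G (Γ0 : Set α)) z' ⊓
        stabilizer (fixingSubgroup G (Γ0 : Set α)) w' :
          Subgroup (fixingSubgroup G (Γ0 : Set α))) := by
    intro z' w' hzw
    rw [inf_stab_eq_subgroupOf, card_subgroupOf_fix G Γ0 _
      (fun t ht => Finset.mem_insert_of_mem (Finset.mem_insert_of_mem ht))]
    exact h2 _ _ (hnm z') (hnm w') (fun h => hzw (Subtype.ext h))
  have h1s : ∀ z' : ofFixingSubgroup G (Γ0 : Set α),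
      2 ^ (a + 1) ∣ Nat.card (stabilizer (fixingSubgroup G (Γ0 : Set α)) z') := by
    intro z'
    rw [stab_eq_subgroupOf, card_subgroupOf_fix G Γ0 _
      (fun t ht => Finset.mem_insert_of_mem ht)]
    exact h1 _ (hnm z')
  set x' : ofFixingSubgroup G (Γ0 : Set α) := ⟨x, fun h => hx (Finset.mem_coe.mp h)⟩ with hx'
  set y' : ofFixingSubgroup G (Γ0 : Set α) := ⟨y, fun h => hy (Finset.mem_coe.mp h)⟩ with hy'
  have hxy' : x' ≠ y' := fun h => hxy (congrArg Subtype.val h)
  have h2's : 2 ^ a ∣ Nat.card (stabilizer (fixingSubgroup G (Γ0 : Set α)) x' ⊓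
        stabilizer (fixingSubgroup G (Γ0 : Set α)) y' :
          Subgroup (fixingSubgroup G (Γ0 : Set α))) := by
    rw [inf_stab_eq_subgroupOf, card_subgroupOf_fix G Γ0 _
      (fun t ht => Finset.mem_insert_of_mem (Finset.mem_insert_of_mem ht))]
    exact h2'
  obtain ⟨u, hux, huy⟩ :=
    Cfsg.Agent.Lib.Helper4.KHom.swap_of_two_part' a h2s h1s x' y' hxy' h2's
  refine ⟨(u : G), ?_, ?_, ?_⟩
  · intro z hz
    exact (mem_fixingSubgroup_iff G).mp u.2 z (Finset.mem_coe.mpr hz)
  · exact congrArg Subtype.val hux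
  · exact congrArg Subtype.val huy

theorem hasSwaps_of_even {k : ℕ} (hk : 2 ≤ k) (a : ℕ)
    (hκ : ∀ Δ : Finset α, Δ.card = k → 2 ^ a ∣ Nat.card (fixingSubgroup G (Δ : Set α)) ∧ ¬ 2 ^ (a + 1) ∣ Nat.card (fixingSubgroup G (Δ : Set α)))
    (hl : ∀ Γ : Finset α, Γ.card = k - 1 → 2 ^ (a + 1) ∣ Nat.card (fixingSubgroup G (Γ : Set α))) : HasSwaps G k := by
  classical
  intro Γ0 hΓ0 x y hx hy hxy
  -- cardinalities of the enlarged sets
  have hc1 : ∀ z : α, z ∉ Γ0 → (insert z Γ0).card = k - 1 := by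
    intro z hz
    rw [Finset.card_insert_of_notMem hz]; omega
  have hc2 : ∀ z w : α, z ∉ Γ0 → w ∉ Γ0 → z ≠ w → (insert z (insert w Γ0)).card = k := by
    intro z w hz hw hzw
    have hzw' : z ∉ insert w Γ0 := by
      intro h
      rcases Finset.mem_insert.mp h with h | h
      · exact hzw h
      · exact hz h
    rw [Finset.card_insert_of_notMem hzw', Finset.card_insert_of_notMem hw]; omega
  exact swap_of_even_at G a Γ0 x y hx hy hxy
    (fun z w hz hw hzw => (hκ _ (hc2 z w hz hw hzw)).2)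
    (fun z hz => hl _ (hc1 z hz))
    (hκ _ (hc2 x y hx hy hxy)).1

end Cfsg.Agent.Lib.Helper3.KHom
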