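import Mathlib
import Cfsg.Agent.Lib.Helper6.KHom1
import Cfsg.Agent.Lib.Helper6.KHom2
import Cfsg.Agent.Lib.Helper1.Wl18
import Cfsg.Agent.Lib.Helper4.KHomE

set_option autoImplicit false
set_option maxHeartbeats 4000000
set_option maxRecDepth 100000
set_option linter.unusedVariables false
set_option linter.unusedSectionVars false
set_option linter.style.longLine false
set_option linter.unusedSimpArgs false
set_option linter.deprecated false
set_option linter.style.haveILetI false

/-! # Livingstone–Wagner (b), piece F3: the case `|F| = k + 6` is impossible -/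

namespace Cfsg.Agent.Lib.Helper3.KHom

open MulAction SubMulAction Cfsg.Agent.Lib.Helper8.Mil Cfsg.Agent.Lib.Helper6.KHom
open scoped Nat

/-- The `k ≥ 7` half of F3; does not use homogeneity. -/
theorem k6_false_of_seven_le {β : Type*} [Fintype β] [DecidableEq β] (Y : Subgroup (Equiv.Perm β)) {k : ℕ} (hk : 7 ≤ k) (hcard : Fintype.card β = k + 6)
    (ht : IsMultiplyPretransitive Y β (k - 1)) (hrig : ∀ Γ : Finset β, Γ.card = k - 1 → fixingSubgroup Y (Γ : Set β) = ⊥) : False := by
  classical
  -- a sharply 6-transitive group of degree 13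
  obtain ⟨Λ, hΛ⟩ := Cfsg.Agent.Lib.Helper1.Wl.exists_finset_card (α := β) (j := k - 7)
    (by omega)
  haveI hfin : Finite (Λ : Set β) := Finset.finite_toSet Λ |>.to_subtype
  haveI : Fintype (ofFixingSubgroup Y (Λ : Set β)) := Fintype.ofFinite _
  have hc : Fintype.card (ofFixingSubgroup Y (Λ : Set β)) = 13 := by
    rw [← Nat.card_eq_fintype_card, Cfsg.Agent.Lib.Helper1.Wl.natCard_ofFixingSubgroup, hΛ,
      hcard]
    omega
  have h6 : IsMultiplyPretransitive (fixingSubgroup Y (Λ : Set β))
      (ofFixingSubgroup Y (Λ : Set β)) 6 := by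
    haveI := ht
    exact SubMulAction.ofFixingSubgroup.isMultiplyPretransitive (n := k - 1) Y (Λ : Set β)
      (by rw [Set.ncard_coe_finset, hΛ]; omega)
  refine Cfsg.Agent.Lib.Helper4.KHom.no_sharp_13 hc h6 ?_
  intro g s hs hg
  -- six fixed points outside Λ
  obtain ⟨s', hs's, hs'⟩ := Finset.exists_subset_card_eq hs
  set P : Finset β := s'.map ⟨Subtype.val, Subtype.val_injective⟩ with hP
  have hPcard : P.card = 6 := by rw [hP, Finset.card_map, hs']
  have hdisj : Disjoint Λ P := by
    rw [Finset.disjoint_right]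
    intro y hy
    rw [hP, Finset.mem_map] at hy
    obtain ⟨z, _, rfl⟩ := hy
    exact Cfsg.Agent.Lib.Helper1.Wl.val_notMem Y Λ z
  have hfix : ∀ x ∈ P, (g : Y) • x = x := by
    intro x hx
    rw [hP, Finset.mem_map] at hx
    obtain ⟨z, hz, rfl⟩ := hx
    exact congrArg Subtype.val (hg z (hs's hz))
  obtain ⟨hcard', hmem⟩ := Cfsg.Agent.Lib.Helper1.Wl.transfer_fix Y Λ g P hdisj hfix
  have hcard'' : (Λ ∪ P).card = k - 1 := by rw [hcard', hΛ, hPcard]; omega
  rw [hrig _ hcard''] at hmem
  exact Subtype.ext (Subgroup.mem_bot.mp hmem)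

theorem k6_false {β : Type*} [Fintype β] [DecidableEq β] (Y : Subgroup (Equiv.Perm β)) {k : ℕ} (hk : 5 ≤ k) (hcard : Fintype.card β = k + 6)
    (ht : IsMultiplyPretransitive Y β (k - 1)) (hh : IsPretransitive Y (Set.powersetCard β k))
    (hrig : ∀ Γ : Finset β, Γ.card = k - 1 → fixingSubgroup Y (Γ : Set β) = ⊥) : False := by
  classical
  rcases Nat.lt_or_ge k 7 with hk7 | hk7
  · -- k = 5 or k = 6: order computation
    obtain ⟨s, hs⟩ := Cfsg.Agent.Lib.Helper1.Wl.exists_finset_card (α := β) (j := k - 1)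
      (by omega)
    obtain ⟨s', hs'⟩ := Cfsg.Agent.Lib.Helper1.Wl.exists_finset_card (α := β) (j := k)
      (by omega)
    have h1 := Cfsg.Agent.Lib.Helper1.Wl.card_mul_factorial Y ht s hs
    rw [hrig s hs, Subgroup.card_bot, mul_one, hcard] at h1
    have h2 := Cfsg.Agent.Lib.Helper1.Wl.card_eq_choose_mul Y hh s' hs'
    rw [hcard] at h2
    have hk56 : k = 5 ∨ k = 6 := by omega
    rcases hk56 with rfl | rfl
    · have e1 : (5 + 6 - (5 - 1))! = 5040 := by decide
      have e2 : (5 + 6)! = 39916800 := by decide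
      have e3 : (5 + 6).choose 5 = 462 := by decide
      rw [e1, e2] at h1
      rw [e3] at h2
      omega
    · have e1 : (6 + 6 - (6 - 1))! = 5040 := by decide
      have e2 : (6 + 6)! = 479001600 := by decide
      have e3 : (6 + 6).choose 6 = 924 := by decide
      rw [e1, e2] at h1
      rw [e3] at h2
      omega
  · exact k6_false_of_seven_le Y hk7 hcard ht hrig

end Cfsg.Agent.Lib.Helper3.KHom
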