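import Cfsg.Agent.Lib.Helper3.KW1

set_option autoImplicit false

open scoped Pointwise

namespace Cfsg.Agent.Lib.Helper3.KW

universe u

variable {G : Type u} [Group G]

open Cfsg.Agent.Lib.Helper1 Cfsg.Agent.Lib.Helper7

/-! ### relative versions -/

theorem card_subgroupOf_of_le {A L : Subgroup G} (h : A ≤ L) :
    Nat.card (A.subgroupOf L) = Nat.card A :=
  Nat.card_congr (Subgroup.subgroupOfEquivOfLe h).toEquiv

theorem permute_in [Finite G] (L H K A₀ B₀ : Subgroup G) (hLs : Group.IsSolvable L) (hHL : H ≤ L)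
    (hKL : K ≤ L) (hHK : ∀ g ∈ L, ∃ h ∈ H, ∃ k ∈ K, g = h * k)
    (hA : A₀ ≤ H) (hAn : H ≤ Subgroup.normalizer (A₀ : Set G))
    (hB : B₀ ≤ K) (hBn : K ≤ Subgroup.normalizer (B₀ : Set G))
    (hAh : (Nat.card A₀).Coprime (A₀.relIndex L)) (hBh : (Nat.card B₀).Coprime (B₀.relIndex L)) :
    ∃ S : Subgroup G, (S : Set G) = (A₀ : Set G) * (B₀ : Set G) := by
  have := hLs
  have hA' : A₀.subgroupOf L ≤ H.subgroupOf L := fun x hx => hA hx
  have hB' : B₀.subgroupOf L ≤ K.subgroupOf L := fun x hx => hB hx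
  have hAn' : ((A₀.subgroupOf L).subgroupOf (H.subgroupOf L)).Normal := by
    rw [Subgroup.normal_subgroupOf_iff_le_normalizer hA']
    intro x hx
    rw [Subgroup.mem_normalizer_iff]
    intro y
    exact Subgroup.mem_normalizer_iff.mp (hAn hx) y.1
  have hBn' : ((B₀.subgroupOf L).subgroupOf (K.subgroupOf L)).Normal := by
    rw [Subgroup.normal_subgroupOf_iff_le_normalizer hB']
    intro x hx
    rw [Subgroup.mem_normalizer_iff]
    intro y
    exact Subgroup.mem_normalizer_iff.mp (hBn hx) y.1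
  have hHK' : ∀ g : L, ∃ h ∈ H.subgroupOf L, ∃ k ∈ K.subgroupOf L, g = h * k := by
    rintro ⟨g, hg⟩
    obtain ⟨h, hh, k, hk, rfl⟩ := hHK g hg
    exact ⟨⟨h, hHL hh⟩, hh, ⟨k, hKL hk⟩, hk, rfl⟩
  have hAh' : (Nat.card (A₀.subgroupOf L)).Coprime (A₀.subgroupOf L).index := by
    rw [card_subgroupOf_of_le (hA.trans hHL)]; exact hAh
  have hBh' : (Nat.card (B₀.subgroupOf L)).Coprime (B₀.subgroupOf L).index := by
    rw [card_subgroupOf_of_le (hB.trans hKL)]; exact hBh
  obtain ⟨S', hS'⟩ := hall_factors_permute (H.subgroupOf L) (K.subgroupOf L) (A₀.subgroupOf L)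
    (B₀.subgroupOf L) hHK' hA' hAn' hB' hBn' hAh' hBh' 1 1
  simp only [map_one, one_smul] at hS'
  refine ⟨S'.map L.subtype, ?_⟩
  ext x
  constructor
  · rintro ⟨y, hy, rfl⟩
    have hy' : y ∈ (S' : Set L) := hy
    rw [hS'] at hy'
    obtain ⟨a, ha, b, hb, rfl⟩ := Set.mem_mul.mp hy'
    exact Set.mem_mul.mpr ⟨a.1, ha, b.1, hb, rfl⟩
  · intro hx
    obtain ⟨a, ha, b, hb, rfl⟩ := Set.mem_mul.mp hx
    have haL : a ∈ L := hHL (hA ha)
    have hbL : b ∈ L := hKL (hB hb)
    have hmem : (⟨a, haL⟩ * ⟨b, hbL⟩ : L) ∈ (S' : Set L) := by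
      rw [hS']
      exact Set.mul_mem_mul (show (⟨a, haL⟩ : L) ∈ A₀.subgroupOf L from ha)
        (show (⟨b, hbL⟩ : L) ∈ B₀.subgroupOf L from hb)
    exact ⟨⟨a, haL⟩ * ⟨b, hbL⟩, hmem, rfl⟩

theorem exists_conj_le_in [Finite G] {p : ℕ} [hp : Fact p.Prime] (N S X : Subgroup G) (hSN : S ≤ N)
    (hS : IsPGroup p S) (hidx : ¬ p ∣ S.relIndex N) (hXN : X ≤ N) (hX : IsPGroup p X) :
    ∃ n ∈ N, X ≤ MulAut.conj n • S := by
  have hS' : IsPGroup p (S.subgroupOf N) := hS.comap_subtype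
  have hX' : IsPGroup p (X.subgroupOf N) := hX.comap_subtype
  obtain ⟨S₀, hS₀⟩ : ∃ S₀ : Sylow p N, (S₀ : Subgroup N) = S.subgroupOf N :=
    ⟨hS'.toSylow hidx, IsPGroup.toSylow_coe hS' hidx⟩
  obtain ⟨T, hT⟩ := hX'.exists_le_sylow
  obtain ⟨c, hc⟩ := MulAction.exists_smul_eq N S₀ T
  refine ⟨c, c.2, ?_⟩
  have h1 : X.subgroupOf N ≤ MulAut.conj c • (S.subgroupOf N) := by
    have : (T : Subgroup N) = MulAut.conj c • ((S₀ : Sylow p N) : Subgroup N) := by
      rw [← hc, Sylow.coe_subgroup_smul]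
    rw [this, hS₀] at hT
    exact hT
  have h2 := Subgroup.map_mono (f := N.subtype) h1
  rw [map_subtype_conj_smul, Subgroup.subgroupOf_map_subtype, Subgroup.subgroupOf_map_subtype,
    inf_of_le_left hXN, inf_of_le_left hSN] at h2
  exact h2

theorem exists_pCoreIn_ne_bot [Finite G] (K : Subgroup G) (hK : Group.IsSolvable K) (hne : K ≠ ⊥) :
    ∃ ℓ : ℕ, ℓ.Prime ∧ pCoreIn ℓ K ≠ ⊥ := by
  have := hK
  haveI : Nontrivial K := (Subgroup.nontrivial_iff_ne_bot K).mpr hne
  obtain ⟨ℓ, hℓ, h⟩ := exists_pCore_ne_bot_of_solvable K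
  exact ⟨ℓ, hℓ, (pCoreIn_ne_bot_iff ℓ K).mpr h⟩

/-- an element of a group with a normal Hall subgroup whose order is prime to the index
lies in that subgroup -/
theorem mem_of_normal_hall [Finite G] {N A : Subgroup G} (hAN : A ≤ N)
    (hnorm : N ≤ Subgroup.normalizer (A : Set G)) {x : G} (hxN : x ∈ N)
    (hx : (orderOf x).Coprime (A.relIndex N)) : x ∈ A := by
  haveI : (A.subgroupOf N).Normal := (Subgroup.normal_subgroupOf_iff_le_normalizer hAN).mpr hnorm
  have h1 : (⟨x, hxN⟩ : N) ^ (A.subgroupOf N).index ∈ A.subgroupOf N :=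
    Subgroup.pow_index_mem (A.subgroupOf N) ⟨x, hxN⟩
  have h2 : x ^ (A.relIndex N) ∈ A := by
    have := h1
    rw [Subgroup.mem_subgroupOf] at this
    simpa [Subgroup.relIndex] using this
  by_cases h1' : orderOf x = 1
  · rw [orderOf_eq_one_iff] at h1'; rw [h1']; exact A.one_mem
  have hpos : 0 < orderOf x := orderOf_pos x
  obtain ⟨m, -, hm⟩ := Nat.exists_mul_mod_eq_one_of_coprime hx.symm (by omega)
  have h3 : (x ^ (A.relIndex N)) ^ m ∈ A := A.pow_mem h2 m
  rw [← pow_mul, ← pow_mod_orderOf, hm, pow_one] at h3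
  exact h3

theorem normal_complement_rel [Finite G] (C H : Subgroup G) (hHC : H ≤ C)
    (hnil : Group.IsNilpotent H)
    (hnot : ∀ (p : ℕ) [Fact p.Prime], ¬ IsPGroup p H)
    (hnorm : ∀ (p : ℕ) [Fact p.Prime], p ∣ Nat.card H →
      Subgroup.normalizer (sy H p : Set G) ⊓ C ≤ H) :
    ∃ K : Subgroup G, K ≤ C ∧ C ≤ Subgroup.normalizer (K : Set G) ∧ K ⊓ H = ⊥ ∧
      Nat.card K * Nat.card H = Nat.card C ∧ (Nat.card K).Coprime (Nat.card H) := by
  have hnil' : Group.IsNilpotent (H.subgroupOf C) := nil_subgroupOf hnil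
  have hcardH : Nat.card (H.subgroupOf C) = Nat.card H := card_subgroupOf_of_le hHC
  have hN' : ∀ p : ℕ, p.Prime → p ∣ Nat.card (H.subgroupOf C) →
      ∀ P : Sylow p (H.subgroupOf C), Subgroup.normalizer
        (((P : Subgroup (H.subgroupOf C)).map (H.subgroupOf C).subtype : Subgroup C) : Set C)
        = H.subgroupOf C := by
    intro p hp hpd P
    haveI := Fact.mk hp
    rw [hcardH] at hpd
    have := hnil'
    have hn : ((default : Sylow p (H.subgroupOf C)) : Subgroup (H.subgroupOf C)).Normal :=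
      inferInstance
    haveI : Unique (Sylow p (H.subgroupOf C)) := Sylow.unique_of_normal default hn
    have hPd : P = default := Subsingleton.elim _ _
    have h1 : ((P : Subgroup (H.subgroupOf C)).map (H.subgroupOf C).subtype : Subgroup C)
        = (sy H p).subgroupOf C := by
      rw [hPd]
      show sy (H.subgroupOf C) p = (sy H p).subgroupOf C
      ext z
      rw [Subgroup.mem_subgroupOf, mem_sy_iff hnil, mem_sy_iff hnil', Subgroup.mem_subgroupOf]
      constructor
      · rintro ⟨h2, k, hk⟩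
        refine ⟨h2, k, ?_⟩
        have := congrArg Subtype.val hk
        simpa using this
      · rintro ⟨h2, k, hk⟩
        exact ⟨h2, k, Subtype.ext (by simpa using hk)⟩
    rw [h1, ← Subgroup.subgroupOf_normalizer_eq ((sy_le H p).trans hHC)]
    ext z
    rw [Subgroup.mem_subgroupOf, Subgroup.mem_subgroupOf]
    constructor
    · intro hz
      exact hnorm p hpd ⟨hz, z.2⟩
    · intro hz
      exact le_normalizer_sy hnil p hz
  have key : ∃ N : Subgroup C, N.Normal ∧ Subgroup.IsComplement' N (H.subgroupOf C) := by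
    apply normal_complement_of_sylow_normalizers_eq
    · intro p hp P hP
      have := Fact.mk hp
      apply hnot p
      intro ⟨h, hh⟩
      have hmem : (⟨h, hHC hh⟩ : C) ∈ (P : Subgroup C) := by rw [hP]; exact hh
      obtain ⟨k, hk⟩ := P.isPGroup' ⟨⟨h, hHC hh⟩, hmem⟩
      refine ⟨k, ?_⟩
      have := congrArg (fun z : (P : Subgroup C) => ((z : C) : G)) hk
      exact Subtype.ext (by simpa using this)
    · exact hN'
  obtain ⟨N, hN, hcomp⟩ := key
  have hcop : (Nat.card N).Coprime (Nat.card (H.subgroupOf C)) := by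
    apply Nat.coprime_of_dvd
    intro t ht htN htH
    haveI := Fact.mk ht
    obtain ⟨S, hS⟩ := sylow_of_normalizer_le (H.subgroupOf C) (default : Sylow t (H.subgroupOf C))
      (hN' t ht htH default).le
    have h1 : Nat.card (S : Subgroup C) = t ^ (Nat.card C).factorization t :=
      S.card_eq_multiplicity
    rw [hS, Subgroup.card_map_of_injective (Subgroup.subtype_injective _),
      (default : Sylow t (H.subgroupOf C)).card_eq_multiplicity] at h1
    have h2 := Nat.pow_right_injective ht.two_le h1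
    have h3 := hcomp.card_mul
    rw [← h3, Nat.factorization_mul Nat.card_pos.ne' Nat.card_pos.ne'] at h2
    simp only [Finsupp.coe_add, Pi.add_apply] at h2
    have h4 : (Nat.card N).factorization t = 0 := by omega
    rcases (Nat.factorization_eq_zero_iff _ _).mp h4 with h5 | h5 | h5
    · exact h5 ht
    · exact h5 htN
    · exact Nat.card_pos.ne' h5
  refine ⟨N.map C.subtype, Subgroup.map_subtype_le _, ?_, ?_, ?_, ?_⟩
  · apply le_normalizer_of_forall_conj_mem
    rintro c hc x ⟨n, hn, rfl⟩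
    exact ⟨⟨c, hc⟩ * n * ⟨c, hc⟩⁻¹, hN.conj_mem n hn ⟨c, hc⟩, rfl⟩
  · rw [eq_bot_iff]
    rintro x ⟨⟨n, hn, rfl⟩, hxH⟩
    have hmem : n ∈ N ⊓ H.subgroupOf C := ⟨hn, hxH⟩
    rw [hcomp.disjoint.eq_bot] at hmem
    rw [Subgroup.mem_bot] at hmem ⊢
    rw [hmem]; rfl
  · rw [Subgroup.card_map_of_injective C.subtype_injective, ← hcardH]
    exact hcomp.card_mul
  · rw [Subgroup.card_map_of_injective C.subtype_injective, ← hcardH]
    exact hcop

end Cfsg.Agent.Lib.Helper3.KW
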