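import Cfsg.Agent.Lib.Helper3.KW1b
import Cfsg.Agent.S0143

set_option autoImplicit false

open scoped Pointwise

namespace Cfsg.Agent.Lib.Helper3.KW

universe u

open Cfsg.Agent.Lib.Helper1 Cfsg.Agent.Lib.Helper7

/-- a minimal counterexample to the coprime Kegel–Wielandt theorem -/
structure Ctx (G : Type u) [Group G] [Finite G] (A B : Subgroup G) : Prop where
  nilA : Group.IsNilpotent A
  nilB : Group.IsNilpotent B
  cop : (Nat.card A).Coprime (Nat.card B)
  fact : ∀ g : G, ∃ a ∈ A, ∃ b ∈ B, g = a * b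
  ih : ∀ (H : Type u) [Group H] [Finite H], Nat.card H < Nat.card G →
    ∀ (A' B' : Subgroup H), Group.IsNilpotent A' → Group.IsNilpotent B' →
      (Nat.card A').Coprime (Nat.card B') → (∀ g : H, ∃ a ∈ A', ∃ b ∈ B', g = a * b) →
      Group.IsSolvable H
  nsolv : ¬ Group.IsSolvable G

variable {G : Type u} [Group G] [Finite G]

theorem card_lt_of_ne_top {L : Subgroup G} (hL : L ≠ ⊤) : Nat.card L < Nat.card G := by
  apply lt_of_le_of_ne (Subgroup.card_le_card_group L)
  intro h; exact hL ((Subgroup.card_eq_iff_eq_top L).mp h)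

theorem card_subgroupOf_dvd' (A L : Subgroup G) : Nat.card (A.subgroupOf L) ∣ Nat.card A := by
  have : A.subgroupOf L = (A ⊓ L).subgroupOf L := (Subgroup.inf_subgroupOf_right A L).symm
  rw [this, card_subgroupOf_of_le inf_le_right]
  exact Subgroup.card_dvd_of_le inf_le_left

namespace Ctx

variable {A B : Subgroup G}

theorem symm (h : Ctx G A B) : Ctx G B A where
  nilA := h.nilB
  nilB := h.nilA
  cop := h.cop.symm
  fact := fun g => by
    obtain ⟨a, ha, b, hb, hg⟩ := h.fact g⁻¹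
    refine ⟨b⁻¹, B.inv_mem hb, a⁻¹, A.inv_mem ha, ?_⟩
    rw [← mul_inv_rev, ← hg, inv_inv]
  ih := h.ih
  nsolv := h.nsolv

theorem conj_right (h : Ctx G A B) (x : G) : Ctx G A (MulAut.conj x • B) where
  nilA := h.nilA
  nilB := nil_conj h.nilB x
  cop := by rw [card_conj]; exact h.cop
  fact := fun g => by
    obtain ⟨a₀, ha₀, b₀, hb₀, hx⟩ := h.fact x
    obtain ⟨a, ha, b, hb, hg⟩ := h.fact (a₀⁻¹ * g * a₀)
    refine ⟨a₀ * a * a₀⁻¹, A.mul_mem (A.mul_mem ha₀ ha) (A.inv_mem ha₀), a₀ * b * a₀⁻¹, ?_, ?_⟩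
    · rw [mem_conj, hx]
      have : (a₀ * b₀)⁻¹ * (a₀ * b * a₀⁻¹) * (a₀ * b₀) = b₀⁻¹ * b * b₀ := by group
      rw [this]
      exact B.mul_mem (B.mul_mem (B.inv_mem hb₀) hb) hb₀
    · calc g = a₀ * (a₀⁻¹ * g * a₀) * a₀⁻¹ := by group
        _ = a₀ * (a * b) * a₀⁻¹ := by rw [hg]
        _ = _ := by group
  ih := h.ih
  nsolv := h.nsolv

theorem solvable_of_fac (h : Ctx G A B) {L : Subgroup G} (hL : L ≠ ⊤) (hf : Fac A B L) :
    Group.IsSolvable L := by
  apply h.ih L (card_lt_of_ne_top hL) (A.subgroupOf L) (B.subgroupOf L) (nil_subgroupOf h.nilA)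
    (nil_subgroupOf h.nilB)
  · exact Nat.Coprime.coprime_dvd_left (card_subgroupOf_dvd' A L)
      (Nat.Coprime.coprime_dvd_right (card_subgroupOf_dvd' B L) h.cop)
  · rintro ⟨g, hg⟩
    obtain ⟨a, ha, b, hb, rfl⟩ := h.fact g
    exact ⟨⟨a, hf.left ha hb hg⟩, ha, ⟨b, hf.right ha hb hg⟩, hb, rfl⟩

theorem normal_eq (h : Ctx G A B) (M : Subgroup G) (hM : M.Normal) : M = ⊥ ∨ M = ⊤ := by
  by_contra hcon
  push Not at hcon
  obtain ⟨hb, ht⟩ := hcon
  have hfM : Fac A B M :=
    Fac.of_normal h.cop fac_top le_top (Subgroup.normalizer_eq_top_iff.mpr hM).ge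
  haveI : Group.IsSolvable M := h.solvable_of_fac ht hfM
  haveI : Group.IsSolvable (G ⧸ M) := by
    apply h.ih (G ⧸ M) ?_ (A.map (QuotientGroup.mk' M)) (B.map (QuotientGroup.mk' M)) ?_ ?_ ?_ ?_
    · have h1 := Subgroup.card_eq_card_quotient_mul_card_subgroup M
      have h2 : 1 < Nat.card M := (Subgroup.one_lt_card_iff_ne_bot M).mpr hb
      have h3 : 0 < Nat.card (G ⧸ M) := Nat.card_pos
      nlinarith
    · exact @Group.nilpotent_of_surjective _ _ _ _ h.nilA ((QuotientGroup.mk' M).subgroupMap A)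
        ((QuotientGroup.mk' M).subgroupMap_surjective A)
    · exact @Group.nilpotent_of_surjective _ _ _ _ h.nilB ((QuotientGroup.mk' M).subgroupMap B)
        ((QuotientGroup.mk' M).subgroupMap_surjective B)
    · exact Nat.Coprime.coprime_dvd_left (Subgroup.card_map_dvd A _)
        (Nat.Coprime.coprime_dvd_right (Subgroup.card_map_dvd B _) h.cop)
    · intro g
      obtain ⟨g, rfl⟩ := QuotientGroup.mk_surjective g
      obtain ⟨a, ha, b, hb, rfl⟩ := h.fact g
      exact ⟨QuotientGroup.mk' M a, Subgroup.mem_map_of_mem _ ha, QuotientGroup.mk' M b,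
        Subgroup.mem_map_of_mem _ hb, rfl⟩
  exact h.nsolv (Group.isSolvable_of_ker_le_range M.subtype (QuotientGroup.mk' M) (by simp))

theorem nontrivial (h : Ctx G A B) : Nontrivial G := by
  by_contra hn
  rw [not_nontrivial_iff_subsingleton] at hn
  exact h.nsolv inferInstance

theorem simple (h : Ctx G A B) : IsSimpleGroup G :=
  { toNontrivial := h.nontrivial, eq_bot_or_eq_top_of_normal := h.normal_eq }

theorem center_eq_bot (h : Ctx G A B) : Subgroup.center G = ⊥ := by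
  rcases h.normal_eq (Subgroup.center G) inferInstance with h1 | h1
  · exact h1
  · exfalso
    apply h.nsolv
    apply isSolvable_of_comm
    intro a b
    have : b ∈ Subgroup.center G := by rw [h1]; exact Subgroup.mem_top b
    exact (Subgroup.mem_center_iff.mp this a)

theorem eq_one_of_centralizer_eq_top (h : Ctx G A B) {y : G}
    (hy : Subgroup.centralizer ({y} : Set G) = ⊤) : y = 1 := by
  have : y ∈ Subgroup.center G := by
    rw [Subgroup.mem_center_iff]
    intro g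
    have hg : g ∈ Subgroup.centralizer ({y} : Set G) := by rw [hy]; exact Subgroup.mem_top g
    exact (Subgroup.mem_centralizer_iff.mp hg y rfl).symm
  rw [h.center_eq_bot, Subgroup.mem_bot] at this
  exact this

theorem inf_eq_bot (h : Ctx G A B) : A ⊓ B = ⊥ := by
  have h1 : Nat.card (A ⊓ B : Subgroup G) ∣ Nat.card A := Subgroup.card_dvd_of_le inf_le_left
  have h2 : Nat.card (A ⊓ B : Subgroup G) ∣ Nat.card B := Subgroup.card_dvd_of_le inf_le_right
  exact Subgroup.card_eq_one.mp (Nat.eq_one_of_dvd_coprimes h.cop h1 h2)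

theorem card_eq (h : Ctx G A B) : Nat.card G = Nat.card A * Nat.card B := by
  have := card_mul_card_inf_eq_of_mul_eq A B h.fact
  rw [h.inf_eq_bot, Subgroup.card_bot, mul_one] at this
  exact this

theorem uniq (h : Ctx G A B) {a a' b b' : G} (ha : a ∈ A) (ha' : a' ∈ A) (hb : b ∈ B)
    (hb' : b' ∈ B) (he : a * b = a' * b') : a = a' ∧ b = b' := by
  have h1 : a'⁻¹ * a = b' * b⁻¹ := by
    calc a'⁻¹ * a = a'⁻¹ * (a * b) * b⁻¹ := by group
      _ = a'⁻¹ * (a' * b') * b⁻¹ := by rw [he]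
      _ = _ := by group
  have h2 : a'⁻¹ * a ∈ A ⊓ B :=
    ⟨A.mul_mem (A.inv_mem ha') ha, by rw [h1]; exact B.mul_mem hb' (B.inv_mem hb)⟩
  rw [h.inf_eq_bot, Subgroup.mem_bot, inv_mul_eq_one] at h2
  refine ⟨h2.symm, ?_⟩
  rw [← h2] at he
  exact mul_left_cancel he

theorem fac_of_exists (h : Ctx G A B) {L : Subgroup G}
    (hL : ∀ g ∈ L, ∃ a ∈ A, ∃ b ∈ B, a ∈ L ∧ b ∈ L ∧ g = a * b) : Fac A B L := by
  intro a ha b hb hab
  obtain ⟨a', ha', b', hb', haL, hbL, he⟩ := hL _ hab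
  obtain ⟨h1, -⟩ := h.uniq ha ha' hb hb' he
  rw [h1]; exact haL

theorem index_left (h : Ctx G A B) : A.index = Nat.card B := by
  have h1 := A.card_mul_index
  rw [h.card_eq] at h1
  exact Nat.eq_of_mul_eq_mul_left Nat.card_pos h1

theorem not_dvd_index_left (h : Ctx G A B) {r : ℕ} (hr : r.Prime) (hrA : r ∣ Nat.card A) :
    ¬ r ∣ A.index := by
  rw [h.index_left]
  intro hrB
  exact hr.ne_one (Nat.eq_one_of_dvd_coprimes h.cop hrA hrB)

theorem not_dvd_right (h : Ctx G A B) {r : ℕ} (hr : r.Prime) (hrA : r ∣ Nat.card A) :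
    ¬ r ∣ Nat.card B := fun hrB => hr.ne_one (Nat.eq_one_of_dvd_coprimes h.cop hrA hrB)

theorem ne_top_left (h : Ctx G A B) : A ≠ ⊤ := by
  intro hA
  have := h.nilA
  have hs : Group.IsSolvable A := inferInstance
  exact h.nsolv (solvable_of_surjective (f := A.subtype)
    (by intro g; exact ⟨⟨g, hA ▸ Subgroup.mem_top g⟩, rfl⟩))

theorem ne_bot_left (h : Ctx G A B) : A ≠ ⊥ := by
  intro hA
  apply h.symm.ne_top_left
  rw [eq_top_iff]
  intro g _
  obtain ⟨a, ha, b, hb, rfl⟩ := h.fact g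
  rw [hA, Subgroup.mem_bot] at ha
  rw [ha, one_mul]; exact hb

theorem not_isPGroup_left (h : Ctx G A B) (p : ℕ) [hp : Fact p.Prime] : ¬ IsPGroup p A := by
  intro hA
  haveI := h.simple
  have := h.nilB
  haveI : Nontrivial B := (Subgroup.nontrivial_iff_ne_bot B).mpr h.symm.ne_bot_left
  obtain ⟨z, hz, hz1⟩ : ∃ z : B, z ∈ Subgroup.center B ∧ z ≠ 1 := by
    have hc := Group.IsNilpotent.center_ne_bot (G := B)
    obtain ⟨⟨z, hz⟩, hz1⟩ := (Subgroup.ne_bot_iff_exists_ne_one).mp hc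
    exact ⟨z, hz, fun h0 => hz1 (Subtype.ext h0)⟩
  have hBle : B ≤ Subgroup.centralizer ({(z : G)} : Set G) := by
    intro b hb
    rw [Subgroup.mem_centralizer_iff]
    intro y hy
    rw [Set.mem_singleton_iff] at hy
    rw [hy]
    have := Subgroup.mem_center_iff.mp hz ⟨b, hb⟩
    exact (congrArg Subtype.val this).symm
  obtain ⟨n, hn⟩ := IsPGroup.iff_card.mp hA
  have hidx : (Subgroup.centralizer ({(z : G)} : Set G)).index ∣ p ^ n := by
    rw [← hn, ← h.symm.index_left]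
    exact Subgroup.index_dvd_of_le hBle
  obtain ⟨k, -, hk⟩ := (Nat.dvd_prime_pow hp.out).mp hidx
  have hz1' : (z : G) ≠ 1 := fun h0 => hz1 (Subtype.ext h0)
  have hprime := Cfsg.Agent.S0143.result p k hp.out (z : G) hz1' hk
  haveI := Fact.mk hprime
  haveI hc : IsCyclic G := isCyclic_of_prime_card rfl
  obtain ⟨g, hg⟩ := IsCyclic.exists_generator (α := G)
  apply h.nsolv
  refine isSolvable_of_comm (fun a b => ?_)
  obtain ⟨m, rfl⟩ := Subgroup.mem_zpowers_iff.mp (hg a)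
  obtain ⟨n, rfl⟩ := Subgroup.mem_zpowers_iff.mp (hg b)
  rw [← zpow_add, ← zpow_add, add_comm]

theorem exists_other_prime_left (h : Ctx G A B) (s : ℕ) :
    ∃ t : ℕ, t.Prime ∧ t ≠ s ∧ t ∣ Nat.card A := by
  by_contra hcon
  push Not at hcon
  have hall : ∀ {d : ℕ}, d.Prime → d ∣ Nat.card A → d = s := fun hd hdv => by
    by_contra hne; exact hcon _ hd hne hdv
  have hcard := Nat.eq_prime_pow_of_unique_prime_dvd (Nat.card_pos.ne') hall
  by_cases hs : s.Prime
  · haveI := Fact.mk hs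
    exact h.not_isPGroup_left s (IsPGroup.of_card hcard)
  · have h1 : Nat.card A = 1 := by
      by_contra h1
      obtain ⟨q, hq, hqd⟩ := Nat.exists_prime_and_dvd h1
      exact hs (hall hq hqd ▸ hq)
    exact h.ne_bot_left (Subgroup.card_eq_one.mp h1)

theorem exists_prime_dvd_left (h : Ctx G A B) : ∃ t : ℕ, t.Prime ∧ t ∣ Nat.card A := by
  obtain ⟨t, ht, -, htA⟩ := h.exists_other_prime_left 0
  exact ⟨t, ht, htA⟩

theorem sy_ne_left (h : Ctx G A B) (r : ℕ) [Fact r.Prime] : sy A r ≠ A := by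
  intro he
  apply h.not_isPGroup_left r
  have := sy_isPGroup A r
  rw [he] at this
  exact this

theorem permute (h : Ctx G A B) {L : Subgroup G} (hL : L ≠ ⊤) (hf : Fac A B L) {A₀ : Subgroup G}
    (hA₀ : A₀ ≤ A ⊓ L) (hA₀n : A ⊓ L ≤ Subgroup.normalizer (A₀ : Set G))
    (hAh : (Nat.card A₀).Coprime (A₀.relIndex L)) {t : ℕ} [ht : Fact t.Prime]
    (htB : t ∣ Nat.card B) (hBt : sy B t ≤ L) :
    ∃ S : Subgroup G, (S : Set G) = (A₀ : Set G) * (sy B t : Set G) :=
  permute_in L (A ⊓ L) (B ⊓ L) A₀ (sy B t) (h.solvable_of_fac hL hf) inf_le_right inf_le_right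
    (fun g hg => by
      obtain ⟨a, ha, b, hb, rfl⟩ := h.fact g
      exact ⟨a, ⟨ha, hf.left ha hb hg⟩, b, ⟨hb, hf.right ha hb hg⟩, rfl⟩)
    hA₀ hA₀n (le_inf (sy_le B t) hBt) (inf_le_left.trans (le_normalizer_sy h.nilB t)) hAh
    (coprime_card_sy_relIndex B L (h.symm.not_dvd_index_left ht.out htB) hBt)

theorem F1 (h : Ctx G A B) {A₀ : Subgroup G} (hn : A ≤ Subgroup.normalizer (A₀ : Set G))
    (hne : A₀ ≠ ⊥) : A₀ ⊔ B = ⊤ := by
  have hM : (Subgroup.normalClosure (A₀ : Set G)).Normal := Subgroup.normalClosure_normal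
  have hMne : Subgroup.normalClosure (A₀ : Set G) ≠ ⊥ := by
    intro hb
    apply hne
    rw [eq_bot_iff, ← hb]
    exact Subgroup.le_normalClosure
  have hMtop := (h.normal_eq _ hM).resolve_left hMne
  rw [eq_top_iff, ← hMtop]
  show Subgroup.closure (Group.conjugatesOfSet (A₀ : Set G)) ≤ _
  rw [Subgroup.closure_le]
  intro x hx
  obtain ⟨y, hy, hconj⟩ := Group.mem_conjugatesOfSet_iff.mp hx
  obtain ⟨g, rfl⟩ := isConj_iff.mp hconj
  obtain ⟨b, hb, a, ha, hg⟩ := h.symm.fact g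
  have he : g * y * g⁻¹ = b * (a * y * a⁻¹) * b⁻¹ := by rw [hg]; group
  rw [SetLike.mem_coe, he]
  have h1 : a * y * a⁻¹ ∈ A₀ := conj_mem_of_mem_normalizer (hn ha) hy
  exact (A₀ ⊔ B).mul_mem ((A₀ ⊔ B).mul_mem (Subgroup.mem_sup_right hb) (Subgroup.mem_sup_left h1))
    (Subgroup.inv_mem _ (Subgroup.mem_sup_right hb))

theorem F2 (h : Ctx G A B) {r t : ℕ} [hr : Fact r.Prime] [ht : Fact t.Prime]
    (hrA : r ∣ Nat.card A) (htB : t ∣ Nat.card B) : sy A r ⊔ sy B t = ⊤ := by
  obtain ⟨J, hJ⟩ : ∃ J, J = sy A r ⊔ sy B t := ⟨_, rfl⟩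
  rw [← hJ]
  have hJne : J ≠ ⊥ := by
    intro hb
    apply sy_ne_bot hrA
    rw [eq_bot_iff, ← hb, hJ]; exact le_sup_left
  by_cases hL : Subgroup.normalizer (J : Set G) = ⊤
  · exact (h.normal_eq J (Subgroup.normalizer_eq_top_iff.mp hL)).resolve_left hJne
  exfalso
  have hAn : ((sy A r).subgroupOf A).Normal :=
    (Subgroup.normal_subgroupOf_iff_le_normalizer (sy_le A r)).mpr (le_normalizer_sy h.nilA r)
  have hBn : ((sy B t).subgroupOf B).Normal :=
    (Subgroup.normal_subgroupOf_iff_le_normalizer (sy_le B t)).mpr (le_normalizer_sy h.nilB t)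
  have hfacL : Fac A B (Subgroup.normalizer (J : Set G)) := by
    apply h.fac_of_exists
    intro g hg
    rw [hJ] at hg ⊢
    obtain ⟨a, ha, b, hb, he⟩ := factorization_normalizer_join A B (sy A r) (sy B t) h.fact
      (sy_le A r) hAn (sy_le B t) hBn g hg
    exact ⟨a, ha.2, b, hb.2, ha.1, hb.1, he⟩
  have hJL : J ≤ Subgroup.normalizer (J : Set G) := Subgroup.le_normalizer
  have hArL : sy A r ≤ Subgroup.normalizer (J : Set G) := (hJ ▸ le_sup_left).trans hJL
  have hBtL : sy B t ≤ Subgroup.normalizer (J : Set G) := (hJ ▸ le_sup_right).trans hJL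
  obtain ⟨S, hS⟩ := h.permute hL hfacL (A₀ := sy A r) (le_inf (sy_le A r) hArL)
    (inf_le_left.trans (le_normalizer_sy h.nilA r))
    (coprime_card_sy_relIndex A _ (h.not_dvd_index_left hr.out hrA) hArL) htB hBtL
  have hScard : Nat.card S < Nat.card G := by
    have h1 : Nat.card S ≤ Nat.card (sy A r) * Nat.card (sy B t) := by
      have := Set.natCard_mul_le (s := (sy A r : Set G)) (t := (sy B t : Set G))
      rw [← hS] at this
      exact this
    have h2 : Nat.card (sy A r) < Nat.card A := by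
      apply lt_of_le_of_ne (Subgroup.card_le_of_le (sy_le A r))
      intro heq
      exact h.sy_ne_left r (Subgroup.eq_of_le_of_card_ge (sy_le A r) heq.ge)
    have h3 : Nat.card (sy B t) ≤ Nat.card B := Subgroup.card_le_of_le (sy_le B t)
    have h4 : 0 < Nat.card (sy B t) := Nat.card_pos
    rw [h.card_eq]
    calc Nat.card S ≤ Nat.card (sy A r) * Nat.card (sy B t) := h1
      _ < Nat.card A * Nat.card (sy B t) := Nat.mul_lt_mul_of_pos_right h2 h4
      _ ≤ Nat.card A * Nat.card B := Nat.mul_le_mul_left _ h3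
  have hkey : ∀ x : G, ∃ S' : Subgroup G, S' ≠ ⊤ ∧
      (S' : Set G) = (sy A r : Set G) * ((MulAut.conj x • sy B t : Subgroup G) : Set G) := by
    intro x
    obtain ⟨a, ha, b, hb, rfl⟩ := h.fact x
    refine ⟨MulAut.conj a • S, ?_, ?_⟩
    · intro htop
      have h1 : Nat.card (MulAut.conj a • S : Subgroup G) = Nat.card G := by
        rw [htop]; exact Subgroup.card_top
      rw [card_conj] at h1
      omega
    · rw [conj_smul_coe_mul a (sy A r) (sy B t) S hS,
        conj_smul_eq_of_mem_normalizer (le_normalizer_sy h.nilA r ha), map_mul, mul_smul,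
        conj_smul_eq_of_mem_normalizer (le_normalizer_sy h.nilB t hb)]
  obtain ⟨N, hN, hNt, hle⟩ := kegel_lemma (sy A r) (sy B t) hkey
  rcases h.normal_eq N hN with h1 | h1
  · rcases hle with h2 | h2
    · exact sy_ne_bot hrA (eq_bot_iff.mpr (h1 ▸ h2))
    · exact sy_ne_bot htB (eq_bot_iff.mpr (h1 ▸ h2))
  · exact hNt h1

theorem F3 (h : Ctx G A B) {r s : ℕ} [Fact r.Prime] [Fact s.Prime] (hrA : r ∣ Nat.card A)
    {U : Subgroup G} (hU : U ≤ sy B s) (hne : U ≠ ⊥)
    (hn : sy A r ≤ Subgroup.normalizer (U : Set G)) : False := by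
  obtain ⟨t, ht, hts, htB⟩ := h.symm.exists_other_prime_left s
  haveI := Fact.mk ht
  have hBt : sy B t ≤ Subgroup.normalizer (U : Set G) := by
    apply le_normalizer_of_forall_conj_mem
    intro c hc x hx
    have h1 := sy_commute h.nilB hts hc (hU hx)
    have h2 : c * x * c⁻¹ = x := by rw [h1]; group
    rw [h2]; exact hx
  have htop : Subgroup.normalizer (U : Set G) = ⊤ := by
    rw [eq_top_iff, ← h.F2 hrA htB]
    exact sup_le hn hBt
  have hUn : U.Normal := Subgroup.normalizer_eq_top_iff.mp htop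
  rcases h.normal_eq U hUn with h1 | h1
  · exact hne h1
  · exact h.symm.ne_top_left (eq_top_iff.mpr (h1 ▸ hU.trans (sy_le B s)))

end Ctx

end Cfsg.Agent.Lib.Helper3.KW
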