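import Cfsg.Agent.Lib.Helper3.KW2

set_option autoImplicit false

open scoped Pointwise

namespace Cfsg.Agent.Lib.Helper3.KW

universe u

open Cfsg.Agent.Lib.Helper1 Cfsg.Agent.Lib.Helper7

variable {G : Type u} [Group G] [Finite G]

theorem mem_centralizer_singleton {y d : G} :
    d ∈ Subgroup.centralizer ({y} : Set G) ↔ y * d = d * y := by
  rw [Subgroup.mem_centralizer_iff]
  constructor
  · intro h; exact h y rfl
  · intro h z hz; rw [Set.mem_singleton_iff] at hz; rw [hz]; exact h

namespace Ctx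

variable {A B : Subgroup G}

/-- if `D` together with each Sylow subgroup of `B` generates `G`, no nontrivial element of `B`
centralizes `D` -/
theorem centralizer_inf_right_eq_bot (h : Ctx G A B) {D : Subgroup G}
    (hD : ∀ (t : ℕ) [Fact t.Prime], t ∣ Nat.card B → D ⊔ sy B t = ⊤) :
    Subgroup.centralizer (D : Set G) ⊓ B = ⊥ := by
  by_contra hne
  obtain ⟨y, hy, hyp⟩ := exists_prime_order_mem _ hne
  obtain ⟨hyC, hyB⟩ := hy
  haveI := Fact.mk hyp
  have hyq : y ∈ sy B (orderOf y) := mem_sy_of_pow h.nilB hyB (pow_orderOf_eq_one y)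
  obtain ⟨t, ht, htq, htB⟩ := h.symm.exists_other_prime_left (orderOf y)
  haveI := Fact.mk ht
  have htop : Subgroup.centralizer ({y} : Set G) = ⊤ := by
    rw [eq_top_iff, ← hD t htB]
    apply sup_le
    · intro d hd
      rw [mem_centralizer_singleton]
      exact (Subgroup.mem_centralizer_iff.mp hyC d hd).symm
    · intro d hd
      rw [mem_centralizer_singleton]
      exact (sy_commute h.nilB htq hd hyq).symm
  have hy1 := h.eq_one_of_centralizer_eq_top htop
  rw [hy1, orderOf_one] at hyp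
  exact Nat.not_prime_one hyp

theorem le_left_of_fac (h : Ctx G A B) {C : Subgroup G} (hf : Fac A B C) (hCB : C ⊓ B = ⊥) :
    C ≤ A := by
  intro g hg
  obtain ⟨a, ha, b, hb, rfl⟩ := h.fact g
  have hbC := hf.right ha hb hg
  have hmem : b ∈ C ⊓ B := ⟨hbC, hb⟩
  rw [hCB, Subgroup.mem_bot] at hmem
  rw [hmem, mul_one]; exact ha

theorem centralizer_sy_le (h : Ctx G A B) {p : ℕ} [Fact p.Prime] (hpA : p ∣ Nat.card A) :
    Subgroup.centralizer (sy A p : Set G) ≤ A := by
  apply h.le_left_of_fac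
  · apply Fac.of_normal h.cop (L := Subgroup.normalizer (sy A p : Set G))
      (fac_of_le_left (le_normalizer_sy h.nilA p))
    · exact Subgroup.centralizer_le_normalizer _
    · apply le_normalizer_of_forall_conj_mem
      intro n hn c hc
      exact conj_mem_centralizer_of_mem_normalizer hn hc
  · exact h.centralizer_inf_right_eq_bot (fun t _ htB => h.F2 hpA htB)

theorem normalizer_sy_le (h : Ctx G A B) {p : ℕ} [Fact p.Prime] (hpA : p ∣ Nat.card A) :
    Subgroup.normalizer (sy A p : Set G) ≤ Subgroup.normalizer (A : Set G) := by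
  apply le_normalizer_of_forall_conj_mem
  intro g hg
  have hD : A ⊓ MulAut.conj g⁻¹ • A = A := by
    apply eq_of_forall_sy_le inf_le_left
    intro r _ x hx
    refine Subgroup.mem_inf.mpr ⟨sy_le A r hx, ?_⟩
    rw [mem_conj, inv_inv]
    by_cases hrp : r = p
    · subst hrp
      exact sy_le A r (conj_mem_of_mem_normalizer hg hx)
    · have hxC : x ∈ Subgroup.centralizer (sy A p : Set G) := by
        rw [Subgroup.mem_centralizer_iff]
        intro z hz
        exact (sy_commute h.nilA hrp hx hz).symm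
      exact h.centralizer_sy_le hpA (conj_mem_centralizer_of_mem_normalizer hg hxC)
  intro x hx
  have hx' : x ∈ A ⊓ MulAut.conj g⁻¹ • A := by rw [hD]; exact hx
  have h2 := (Subgroup.mem_inf.mp hx').2
  rw [mem_conj, inv_inv] at h2
  exact h2

theorem normalizer_sy_eq (h : Ctx G A B) {p : ℕ} [Fact p.Prime] (hpA : p ∣ Nat.card A) :
    Subgroup.normalizer (sy A p : Set G) = Subgroup.normalizer (A : Set G) :=
  le_antisymm (h.normalizer_sy_le hpA) (normalizer_le_normalizer_sy h.nilA p)

theorem fusion (h : Ctx G A B) {p : ℕ} [Fact p.Prime] {u g : G}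
    (hu : u ∈ sy A p) (hgu : g * u * g⁻¹ ∈ sy A p) :
    ∃ n ∈ Subgroup.normalizer (A : Set G), n * u * n⁻¹ = g * u * g⁻¹ := by
  obtain ⟨s, hs, hsp, hsA⟩ := h.exists_other_prime_left p
  haveI := Fact.mk hs
  obtain ⟨S, hS⟩ := exists_sylow_eq_sy A (h.not_dvd_index_left hs hsA)
  have hSC : (S : Subgroup G) ≤ Subgroup.centralizer ({g * u * g⁻¹} : Set G) := by
    rw [hS]
    intro y hy
    rw [mem_centralizer_singleton]
    exact (sy_commute h.nilA hsp hy hgu).symm
  have hXC : MulAut.conj g • sy A s ≤ Subgroup.centralizer ({g * u * g⁻¹} : Set G) := by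
    intro x hx
    rw [mem_conj] at hx
    have hc := sy_commute h.nilA hsp hx hu
    rw [mem_centralizer_singleton]
    calc g * u * g⁻¹ * x = g * (u * (g⁻¹ * x * g)) * g⁻¹ := by group
      _ = g * ((g⁻¹ * x * g) * u) * g⁻¹ := by rw [hc]
      _ = x * (g * u * g⁻¹) := by group
  have hX : IsPGroup s (MulAut.conj g • sy A s : Subgroup G) :=
    (sy_isPGroup A s).of_equiv (Subgroup.equivSMul (MulAut.conj g) (sy A s))
  obtain ⟨c, hcC, hle⟩ := sylow_dominance_in _ S hSC _ hXC hX
  rw [hS] at hle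
  refine ⟨c⁻¹ * g, ?_, ?_⟩
  · rw [← h.normalizer_sy_eq hsA]
    apply Subgroup.mem_normalizer_fintype
    intro y hy
    have h1 : g * y * g⁻¹ ∈ MulAut.conj g • sy A s := by
      have : g⁻¹ * (g * y * g⁻¹) * g = y := by group
      rw [mem_conj, this]; exact hy
    have h2 := hle h1
    rw [mem_conj] at h2
    have : c⁻¹ * g * y * (c⁻¹ * g)⁻¹ = c⁻¹ * (g * y * g⁻¹) * c := by group
    rw [SetLike.mem_coe, this]; exact h2
  · have hcv : g * u * g⁻¹ * c = c * (g * u * g⁻¹) := mem_centralizer_singleton.mp hcC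
    calc c⁻¹ * g * u * (c⁻¹ * g)⁻¹ = c⁻¹ * (g * u * g⁻¹ * c) := by group
      _ = c⁻¹ * (c * (g * u * g⁻¹)) := by rw [hcv]
      _ = g * u * g⁻¹ := by group

theorem exists_central_in (h : Ctx G A B) {p : ℕ} [Fact p.Prime] {F : Subgroup G}
    (hF : F ≤ sy A p) (hFne : F ≠ ⊥) (hn : sy A p ≤ Subgroup.normalizer (F : Set G)) :
    ∃ a ∈ F, orderOf a = p ∧ A ≤ Subgroup.centralizer ({a} : Set G) := by
  obtain ⟨a, haF, hao, hcent⟩ :=
    exists_orderOf_eq_prime_centralized (sy A p) F (sy_isPGroup A p) hF hn hFne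
  refine ⟨a, haF, hao, ?_⟩
  have hD : A ⊓ Subgroup.centralizer ({a} : Set G) = A := by
    apply eq_of_forall_sy_le inf_le_left
    intro r _ x hx
    refine Subgroup.mem_inf.mpr ⟨sy_le A r hx, ?_⟩
    by_cases hrp : r = p
    · subst hrp; exact hcent hx
    · rw [mem_centralizer_singleton]
      exact (sy_commute h.nilA hrp hx (hF haF)).symm
  rw [← hD]; exact inf_le_right

end Ctx

end Cfsg.Agent.Lib.Helper3.KW
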