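import Cfsg.Agent.Lib.Helper3.KW3

set_option autoImplicit false

open scoped Pointwise

namespace Cfsg.Agent.Lib.Helper3.KW

universe u

open Cfsg.Agent.Lib.Helper1 Cfsg.Agent.Lib.Helper7

variable {G : Type u} [Group G] [Finite G]

theorem le_centralizer_zpowers (a : G) :
    Subgroup.centralizer ({a} : Set G) ≤ Subgroup.centralizer (Subgroup.zpowers a : Set G) := by
  intro d hd
  rw [Subgroup.mem_centralizer_iff]
  intro z hz
  obtain ⟨n, rfl⟩ := Subgroup.mem_zpowers_iff.mp hz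
  have hc : Commute a d := mem_centralizer_singleton.mp hd
  exact (hc.zpow_left n).eq

namespace Ctx

variable {A B : Subgroup G}

theorem card_of_fac (h : Ctx G A B) {L : Subgroup G} (hf : Fac A B L) :
    Nat.card L = Nat.card (A ⊓ L : Subgroup G) * Nat.card (B ⊓ L : Subgroup G) := by
  rw [← Nat.card_prod]
  symm
  apply Nat.card_congr
  refine Equiv.ofBijective (fun x => ⟨x.1.1 * x.2.1,
    L.mul_mem (Subgroup.mem_inf.mp x.1.2).2 (Subgroup.mem_inf.mp x.2.2).2⟩) ⟨?_, ?_⟩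
  · rintro ⟨⟨a, ha⟩, ⟨b, hb⟩⟩ ⟨⟨a', ha'⟩, ⟨b', hb'⟩⟩ he
    have he' : a * b = a' * b' := congrArg Subtype.val he
    obtain ⟨h1, h2⟩ := h.uniq (Subgroup.mem_inf.mp ha).1 (Subgroup.mem_inf.mp ha').1
      (Subgroup.mem_inf.mp hb).1 (Subgroup.mem_inf.mp hb').1 he'
    subst h1; subst h2; rfl
  · rintro ⟨g, hg⟩
    obtain ⟨a, ha, b, hb, rfl⟩ := h.fact g
    exact ⟨⟨⟨a, Subgroup.mem_inf.mpr ⟨ha, hf.left ha hb hg⟩⟩,
      ⟨b, Subgroup.mem_inf.mpr ⟨hb, hf.right ha hb hg⟩⟩⟩, rfl⟩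

theorem relIndex_inf_of_fac (h : Ctx G A B) {L : Subgroup G} (hf : Fac A B L) :
    (A ⊓ L).relIndex L = Nat.card (B ⊓ L : Subgroup G) := by
  have h1 := ((A ⊓ L).subgroupOf L).card_mul_index
  rw [card_subgroupOf_of_le inf_le_right, h.card_of_fac hf] at h1
  exact Nat.eq_of_mul_eq_mul_left Nat.card_pos h1

theorem coprime_inf_relIndex (h : Ctx G A B) {L : Subgroup G} (hf : Fac A B L) :
    (Nat.card (A ⊓ L : Subgroup G)).Coprime ((A ⊓ L).relIndex L) := by
  rw [h.relIndex_inf_of_fac hf]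
  exact Nat.Coprime.coprime_dvd_left (Subgroup.card_dvd_of_le inf_le_left)
    (Nat.Coprime.coprime_dvd_right (Subgroup.card_dvd_of_le inf_le_left) h.cop)

theorem le_left_of_pgroup_fac (h : Ctx G A B) {ℓ : ℕ} [Fact ℓ.Prime] {F : Subgroup G}
    (hfF : Fac A B F) (hF : IsPGroup ℓ F) (hℓ : ¬ ℓ ∣ Nat.card B) : F ≤ A := by
  intro g hg
  obtain ⟨a, ha, b, hb, rfl⟩ := h.fact g
  have hb1 := eq_one_of_isPGroup_of_not_dvd hF hℓ (hfF.right ha hb hg) hb
  rw [hb1, mul_one]; exact ha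

theorem le_right_of_pgroup_fac (h : Ctx G A B) {ℓ : ℕ} [Fact ℓ.Prime] {F : Subgroup G}
    (hfF : Fac A B F) (hF : IsPGroup ℓ F) (hℓ : ¬ ℓ ∣ Nat.card A) : F ≤ B := by
  intro g hg
  obtain ⟨a, ha, b, hb, rfl⟩ := h.fact g
  have ha1 := eq_one_of_isPGroup_of_not_dvd hF hℓ (hfF.left ha hb hg) ha
  rw [ha1, one_mul]; exact hb

/-- the normalizer of a subgroup of `B` normalized by some full Sylow subgroup of `B` and
centralized by the others contains `B` -/
theorem le_normalizer_of_le_sy (h : Ctx G A B) {t : ℕ} [Fact t.Prime] {F : Subgroup G}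
    (hF : F ≤ sy B t) (hn : sy B t ≤ Subgroup.normalizer (F : Set G)) :
    B ≤ Subgroup.normalizer (F : Set G) := by
  have hD : B ⊓ Subgroup.normalizer (F : Set G) = B := by
    apply eq_of_forall_sy_le inf_le_left
    intro q _ x hx
    refine Subgroup.mem_inf.mpr ⟨sy_le B q hx, ?_⟩
    by_cases hqt : q = t
    · subst hqt; exact hn hx
    · have hc : x ∈ Subgroup.centralizer (F : Set G) := by
        rw [Subgroup.mem_centralizer_iff]
        intro z hz
        exact (sy_commute h.nilB hqt hx (hF hz)).symm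
      exact Subgroup.centralizer_le_normalizer _ hc
  rw [← hD]; exact inf_le_right

theorem central_join (h : Ctx G A B) {a : G} (haA : a ∈ A)
    (hcent : A ≤ Subgroup.centralizer ({a} : Set G)) (ha1 : a ≠ 1)
    {t : ℕ} [ht : Fact t.Prime] (htB : t ∣ Nat.card B) :
    Subgroup.zpowers a ⊔ sy B t = ⊤ := by
  have hZA : Subgroup.zpowers a ≤ A := (Subgroup.zpowers_le).mpr haA
  have hZn : A ≤ Subgroup.normalizer (Subgroup.zpowers a : Set G) :=
    (hcent.trans (le_centralizer_zpowers a)).trans (Subgroup.centralizer_le_normalizer _)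
  have hZne : Subgroup.zpowers a ≠ ⊥ := by
    intro hb
    exact ha1 (Subgroup.zpowers_eq_bot.mp hb)
  obtain ⟨J, hJ⟩ : ∃ J, J = Subgroup.zpowers a ⊔ sy B t := ⟨_, rfl⟩
  rw [← hJ]
  have hJne : J ≠ ⊥ := by
    intro hb
    apply hZne
    rw [eq_bot_iff, ← hb, hJ]; exact le_sup_left
  by_cases hL : Subgroup.normalizer (J : Set G) = ⊤
  · exact (h.normal_eq J (Subgroup.normalizer_eq_top_iff.mp hL)).resolve_left hJne
  exfalso
  have hAn : ((Subgroup.zpowers a).subgroupOf A).Normal :=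
    (Subgroup.normal_subgroupOf_iff_le_normalizer hZA).mpr hZn
  have hBn : ((sy B t).subgroupOf B).Normal :=
    (Subgroup.normal_subgroupOf_iff_le_normalizer (sy_le B t)).mpr (le_normalizer_sy h.nilB t)
  have hfacL : Fac A B (Subgroup.normalizer (J : Set G)) := by
    apply h.fac_of_exists
    intro g hg
    rw [hJ] at hg ⊢
    obtain ⟨a', ha', b', hb', he⟩ := factorization_normalizer_join A B (Subgroup.zpowers a)
      (sy B t) h.fact hZA hAn (sy_le B t) hBn g hg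
    exact ⟨a', ha'.2, b', hb'.2, ha'.1, hb'.1, he⟩
  have hJL : J ≤ Subgroup.normalizer (J : Set G) := Subgroup.le_normalizer
  have haL : a ∈ Subgroup.normalizer (J : Set G) :=
    hJL (hJ ▸ Subgroup.mem_sup_left (Subgroup.mem_zpowers a))
  have hBtL : sy B t ≤ Subgroup.normalizer (J : Set G) := (hJ ▸ le_sup_right).trans hJL
  obtain ⟨K, hK⟩ := h.permute hL hfacL (A₀ := A ⊓ Subgroup.normalizer (J : Set G)) le_rfl
    Subgroup.le_normalizer (h.coprime_inf_relIndex hfacL) htB hBtL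
  have hAK : A ⊓ Subgroup.normalizer (J : Set G) ≤ K := le_of_coe_eq_mul_left hK
  have hBK : sy B t ≤ K := le_of_coe_eq_mul_right hK
  have hKL : K ≤ Subgroup.normalizer (J : Set G) := by
    intro x hx
    have hx' : x ∈ (K : Set G) := hx
    rw [hK] at hx'
    obtain ⟨u, hu, v, hv, rfl⟩ := Set.mem_mul.mp hx'
    exact Subgroup.mul_mem _ (Subgroup.mem_inf.mp hu).2 (hBtL hv)
  have hKne : K ≠ ⊥ := by
    intro hb
    exact sy_ne_bot htB (eq_bot_iff.mpr (hb ▸ hBK))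
  have hLs : Group.IsSolvable (Subgroup.normalizer (J : Set G)) := h.solvable_of_fac hL hfacL
  have hKs : Group.IsSolvable K := isSolvable_of_le' hKL
  have hKmem : ∀ g ∈ K, ∃ u ∈ A ⊓ Subgroup.normalizer (J : Set G), ∃ v ∈ sy B t, g = u * v := by
    intro g hg
    have hg' : g ∈ (K : Set G) := hg
    rw [hK] at hg'
    obtain ⟨u, hu, v, hv, rfl⟩ := Set.mem_mul.mp hg'
    exact ⟨u, hu, v, hv, rfl⟩
  have hfacK : Fac A B K := by
    apply h.fac_of_exists
    intro g hg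
    obtain ⟨u, hu, v, hv, rfl⟩ := hKmem g hg
    exact ⟨u, (Subgroup.mem_inf.mp hu).1, v, sy_le B t hv, hAK hu, hBK hv, rfl⟩
  have hKB : K ⊓ B ≤ sy B t := by
    intro g hg
    obtain ⟨u, hu, v, hv, he⟩ := hKmem g (Subgroup.mem_inf.mp hg).1
    have he' : (1 : G) * g = u * v := by rw [one_mul]; exact he
    obtain ⟨-, h2⟩ := h.uniq A.one_mem (Subgroup.mem_inf.mp hu).1 (Subgroup.mem_inf.mp hg).2
      (sy_le B t hv) he'
    rw [h2]; exact hv
  obtain ⟨ℓ, hℓ, hFne⟩ := exists_pCoreIn_ne_bot K hKs hKne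
  haveI := Fact.mk hℓ
  have hFK : pCoreIn ℓ K ≤ K := pCoreIn_le ℓ K
  have hKF : K ≤ Subgroup.normalizer (pCoreIn ℓ K : Set G) := le_normalizer_pCoreIn ℓ K
  have hFp : IsPGroup ℓ (pCoreIn ℓ K) := pCoreIn_isPGroup ℓ K
  have hfacF : Fac A B (pCoreIn ℓ K) := Fac.of_normal h.cop hfacK hFK hKF
  by_cases hℓB : ℓ ∣ Nat.card B
  · have hFB : pCoreIn ℓ K ≤ B := h.le_right_of_pgroup_fac hfacF hFp (h.symm.not_dvd_right hℓ hℓB)
    have hFt : pCoreIn ℓ K ≤ sy B t := (le_inf hFK hFB).trans hKB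
    have hBn' : B ≤ Subgroup.normalizer (pCoreIn ℓ K : Set G) :=
      h.le_normalizer_of_le_sy hFt (hBK.trans hKF)
    have haK : a ∈ K := hAK (Subgroup.mem_inf.mpr ⟨haA, haL⟩)
    have htop : Subgroup.normalizer (pCoreIn ℓ K : Set G) = ⊤ := by
      rw [eq_top_iff, ← h.F1 hZn hZne]
      exact sup_le ((Subgroup.zpowers_le).mpr (hKF haK)) hBn'
    rcases h.normal_eq _ (Subgroup.normalizer_eq_top_iff.mp htop) with h1 | h1
    · exact hFne h1
    · exact h.symm.ne_top_left (eq_top_iff.mpr (h1 ▸ hFt.trans (sy_le B t)))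
  · have hFA : pCoreIn ℓ K ≤ A := h.le_left_of_pgroup_fac hfacF hFp hℓB
    exact h.symm.F3 htB (le_sy_of_isPGroup h.nilA hFA hFp) hFne (hBK.trans hKF)

theorem centralizer_central_le (h : Ctx G A B) {a : G} (haA : a ∈ A)
    (hcent : A ≤ Subgroup.centralizer ({a} : Set G)) (ha1 : a ≠ 1) :
    Subgroup.centralizer ({a} : Set G) ≤ A := by
  apply h.le_left_of_fac (fac_of_le_left hcent)
  have h1 := h.centralizer_inf_right_eq_bot (D := Subgroup.zpowers a)
    (fun t _ htB => h.central_join haA hcent ha1 htB)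
  rw [eq_bot_iff, ← h1]
  exact inf_le_inf_right _ (le_centralizer_zpowers a)

/-- a proper subgroup containing `A` normalizes `A` -/
theorem overgroup (h : Ctx G A B) {L : Subgroup G} (hAL : A ≤ L) (hL : L ≠ ⊤) :
    L ≤ Subgroup.normalizer (A : Set G) := by
  have hfacL : Fac A B L := fac_of_le_left hAL
  have hLs : Group.IsSolvable L := h.solvable_of_fac hL hfacL
  have hLne : L ≠ ⊥ := by
    intro hb
    exact h.ne_bot_left (eq_bot_iff.mpr (hb ▸ hAL))
  obtain ⟨ℓ, hℓ, hFne⟩ := exists_pCoreIn_ne_bot L hLs hLne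
  haveI := Fact.mk hℓ
  have hFL : pCoreIn ℓ L ≤ L := pCoreIn_le ℓ L
  have hLF : L ≤ Subgroup.normalizer (pCoreIn ℓ L : Set G) := le_normalizer_pCoreIn ℓ L
  have hFp : IsPGroup ℓ (pCoreIn ℓ L) := pCoreIn_isPGroup ℓ L
  have hfacF : Fac A B (pCoreIn ℓ L) := Fac.of_normal h.cop hfacL hFL hLF
  by_cases hℓB : ℓ ∣ Nat.card B
  · exfalso
    have hFB : pCoreIn ℓ L ≤ B := h.le_right_of_pgroup_fac hfacF hFp (h.symm.not_dvd_right hℓ hℓB)
    obtain ⟨r, hr, hrA⟩ := h.exists_prime_dvd_left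
    haveI := Fact.mk hr
    exact h.F3 hrA (le_sy_of_isPGroup h.nilB hFB hFp) hFne (((sy_le A r).trans hAL).trans hLF)
  · have hFA : pCoreIn ℓ L ≤ A := h.le_left_of_pgroup_fac hfacF hFp hℓB
    have hFsy : pCoreIn ℓ L ≤ sy A ℓ := le_sy_of_isPGroup h.nilA hFA hFp
    obtain ⟨a, haF, hao, hcent⟩ := h.exists_central_in hFsy hFne (((sy_le A ℓ).trans hAL).trans hLF)
    have ha1 : a ≠ 1 := by
      intro h1
      rw [h1, orderOf_one] at hao
      exact hℓ.ne_one hao.symm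
    have haA : a ∈ A := hFA haF
    have hCA := h.centralizer_central_le haA hcent ha1
    intro g hg
    obtain ⟨a', ha', b', hb', rfl⟩ := h.fact g
    have hb'L : b' ∈ L := hfacL.right ha' hb' hg
    have hconj : b' * a * b'⁻¹ ∈ sy A ℓ := hFsy (conj_mem_of_mem_normalizer (hLF hb'L) haF)
    obtain ⟨n, hn, he⟩ := h.fusion (hFsy haF) hconj
    have hcen : n⁻¹ * b' ∈ Subgroup.centralizer ({a} : Set G) := by
      rw [mem_centralizer_singleton]
      calc a * (n⁻¹ * b') = n⁻¹ * (n * a * n⁻¹) * b' := by group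
        _ = n⁻¹ * (b' * a * b'⁻¹) * b' := by rw [he]
        _ = n⁻¹ * b' * a := by group
    have hb'N : b' ∈ Subgroup.normalizer (A : Set G) := by
      have : b' = n * (n⁻¹ * b') := by group
      rw [this]
      exact Subgroup.mul_mem _ hn (Subgroup.le_normalizer (hCA hcen))
    exact Subgroup.mul_mem _ (Subgroup.le_normalizer ha') hb'N

theorem normalizer_ne_top (h : Ctx G A B) : Subgroup.normalizer (A : Set G) ≠ ⊤ := by
  intro htop
  rcases h.normal_eq A (Subgroup.normalizer_eq_top_iff.mp htop) with h1 | h1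
  · exact h.ne_bot_left h1
  · exact h.ne_top_left h1

end Ctx

end Cfsg.Agent.Lib.Helper3.KW
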