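import Cfsg.Agent.Lib.Helper3.KW4

set_option autoImplicit false

open scoped Pointwise

namespace Cfsg.Agent.Lib.Helper3.KW

universe u

open Cfsg.Agent.Lib.Helper1 Cfsg.Agent.Lib.Helper7

variable {G : Type u} [Group G] [Finite G]

namespace Ctx

variable {A B : Subgroup G}

/-- for a proper factorized subgroup `L` containing a Sylow subgroup `B_t` of `B`, some
nontrivial subgroup of `B_t` is normalized by `A ⊓ L` and by `B` -/
theorem core_of_product (h : Ctx G A B) {L : Subgroup G} (hL : L ≠ ⊤) (hfacL : Fac A B L)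
    {t : ℕ} [ht : Fact t.Prime] (htB : t ∣ Nat.card B) (hBtL : sy B t ≤ L) :
    ∃ F : Subgroup G, F ≠ ⊥ ∧ F ≤ sy B t ∧ A ⊓ L ≤ Subgroup.normalizer (F : Set G) ∧
      B ≤ Subgroup.normalizer (F : Set G) := by
  obtain ⟨K, hK⟩ := h.permute hL hfacL (A₀ := A ⊓ L) le_rfl
    Subgroup.le_normalizer (h.coprime_inf_relIndex hfacL) htB hBtL
  have hAK : A ⊓ L ≤ K := le_of_coe_eq_mul_left hK
  have hBK : sy B t ≤ K := le_of_coe_eq_mul_right hK
  have hKL : K ≤ L := by
    intro x hx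
    have hx' : x ∈ (K : Set G) := hx
    rw [hK] at hx'
    obtain ⟨u, hu, v, hv, rfl⟩ := Set.mem_mul.mp hx'
    exact Subgroup.mul_mem _ (Subgroup.mem_inf.mp hu).2 (hBtL hv)
  have hKne : K ≠ ⊥ := by
    intro hb
    exact sy_ne_bot htB (eq_bot_iff.mpr (hb ▸ hBK))
  have hLs : Group.IsSolvable L := h.solvable_of_fac hL hfacL
  have hKs : Group.IsSolvable K := isSolvable_of_le' hKL
  have hKmem : ∀ g ∈ K, ∃ u ∈ A ⊓ L, ∃ v ∈ sy B t, g = u * v := by
    intro g hg
    have hg' : g ∈ (K : Set G) := hg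
    rw [hK] at hg'
    obtain ⟨u, hu, v, hv, rfl⟩ := Set.mem_mul.mp hg'
    exact ⟨u, hu, v, hv, rfl⟩
  have hfacK : Fac A B K := by
    apply h.fac_of_exists
    intro g hg
    obtain ⟨u, hu, v, hv, rfl⟩ := hKmem g hg
    exact ⟨u, (Subgroup.mem_inf.mp hu).1, v, sy_le B t hv, hAK hu, hBK hv, rfl⟩
  have hKB : K ⊓ B ≤ sy B t := by
    intro g hg
    obtain ⟨u, hu, v, hv, he⟩ := hKmem g (Subgroup.mem_inf.mp hg).1
    have he' : (1 : G) * g = u * v := by rw [one_mul]; exact he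
    obtain ⟨-, h2⟩ := h.uniq A.one_mem (Subgroup.mem_inf.mp hu).1 (Subgroup.mem_inf.mp hg).2
      (sy_le B t hv) he'
    rw [h2]; exact hv
  obtain ⟨ℓ, hℓ, hFne⟩ := exists_pCoreIn_ne_bot K hKs hKne
  haveI := Fact.mk hℓ
  have hFK : pCoreIn ℓ K ≤ K := pCoreIn_le ℓ K
  have hKF : K ≤ Subgroup.normalizer (pCoreIn ℓ K : Set G) := le_normalizer_pCoreIn ℓ K
  have hFp : IsPGroup ℓ (pCoreIn ℓ K) := pCoreIn_isPGroup ℓ K
  have hfacF : Fac A B (pCoreIn ℓ K) := Fac.of_normal h.cop hfacK hFK hKF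
  by_cases hℓB : ℓ ∣ Nat.card B
  · have hFB : pCoreIn ℓ K ≤ B := h.le_right_of_pgroup_fac hfacF hFp (h.symm.not_dvd_right hℓ hℓB)
    have hFt : pCoreIn ℓ K ≤ sy B t := (le_inf hFK hFB).trans hKB
    exact ⟨pCoreIn ℓ K, hFne, hFt, hAK.trans hKF, h.le_normalizer_of_le_sy hFt (hBK.trans hKF)⟩
  · exfalso
    have hFA : pCoreIn ℓ K ≤ A := h.le_left_of_pgroup_fac hfacF hFp hℓB
    exact h.symm.F3 htB (le_sy_of_isPGroup h.nilA hFA hFp) hFne (hBK.trans hKF)

theorem normalizer_ne_top_of_le_sy (h : Ctx G A B) {t : ℕ} [Fact t.Prime] {F : Subgroup G}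
    (hF : F ≤ sy B t) (hne : F ≠ ⊥) : Subgroup.normalizer (F : Set G) ≠ ⊤ := by
  intro htop
  rcases h.normal_eq F (Subgroup.normalizer_eq_top_iff.mp htop) with h1 | h1
  · exact hne h1
  · exact h.symm.ne_top_left (eq_top_iff.mpr (h1 ▸ hF.trans (sy_le B t)))

theorem fac_centralizer_of_mem_Y (h : Ctx G A B) {y : G} (hyB : y ∈ B)
    (hyN : y ∈ Subgroup.normalizer (A : Set G)) :
    Fac A B (Subgroup.centralizer ({y} : Set G)) := by
  intro a ha b hb hab
  rw [mem_centralizer_singleton] at hab ⊢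
  have he : (y * a * y⁻¹) * (y * b * y⁻¹) = a * b := by
    calc (y * a * y⁻¹) * (y * b * y⁻¹) = y * (a * b) * y⁻¹ := by group
      _ = a * b * y * y⁻¹ := by rw [hab]
      _ = a * b := by group
  obtain ⟨h1, -⟩ := h.uniq (conj_mem_of_mem_normalizer hyN ha) ha
    (B.mul_mem (B.mul_mem hyB hb) (B.inv_mem hyB)) hb he
  calc y * a = (y * a * y⁻¹) * y := by group
    _ = a * y := by rw [h1]

theorem inf_centralizer_le_of_mem_Y (h : Ctx G A B) {y : G} (hyB : y ∈ B)
    (hyN : y ∈ Subgroup.normalizer (A : Set G)) (hyq : (orderOf y).Prime) :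
    A ⊓ Subgroup.centralizer ({y} : Set G) ≤ Subgroup.normalizer (B : Set G) := by
  have hfacC := h.fac_centralizer_of_mem_Y hyB hyN
  have hC : Subgroup.centralizer ({y} : Set G) ≠ ⊤ := by
    intro htop
    have hy1 := h.eq_one_of_centralizer_eq_top htop
    rw [hy1, orderOf_one] at hyq
    exact Nat.not_prime_one hyq
  haveI := Fact.mk hyq
  have hyq' : y ∈ sy B (orderOf y) := mem_sy_of_pow h.nilB hyB (pow_orderOf_eq_one y)
  obtain ⟨s, hs, hsq, hsB⟩ := h.symm.exists_other_prime_left (orderOf y)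
  haveI := Fact.mk hs
  have hBsC : sy B s ≤ Subgroup.centralizer ({y} : Set G) := by
    intro d hd
    rw [mem_centralizer_singleton]
    exact (sy_commute h.nilB hsq hd hyq').symm
  obtain ⟨F, hFne, hFs, hAF, hBF⟩ := h.core_of_product hC hfacC hsB hBsC
  have hNF := h.normalizer_ne_top_of_le_sy hFs hFne
  exact hAF.trans (h.symm.overgroup hBF hNF)

theorem centralizer_le_of_mem_X (h : Ctx G A B) {x : G} (hxA : x ∈ A)
    (hxN : x ∈ Subgroup.normalizer (B : Set G)) (hxp : (orderOf x).Prime) :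
    Subgroup.centralizer ({x} : Set G) ≤ Subgroup.normalizer (A : Set G) := by
  intro g hg
  obtain ⟨b, hb, a, ha, rfl⟩ := h.symm.fact g
  have hfac := h.symm.fac_centralizer_of_mem_Y hxA hxN
  have hbC := hfac.left hb ha hg
  have hbN := h.symm.inf_centralizer_le_of_mem_Y hxA hxN hxp (Subgroup.mem_inf.mpr ⟨hb, hbC⟩)
  exact Subgroup.mul_mem _ hbN (Subgroup.le_normalizer ha)

theorem relIndex_normalizer (h : Ctx G A B) :
    A.relIndex (Subgroup.normalizer (A : Set G)) =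
      Nat.card (B ⊓ Subgroup.normalizer (A : Set G) : Subgroup G) := by
  rw [← h.relIndex_inf_of_fac (fac_of_le_left Subgroup.le_normalizer), Subgroup.inf_relIndex_right]

/-- an element of `N_G(A)` of order prime to `|B|` lies in `A` -/
theorem mem_of_mem_normalizer_of_coprime (h : Ctx G A B) {x : G}
    (hxN : x ∈ Subgroup.normalizer (A : Set G)) (hx : (orderOf x).Coprime (Nat.card B)) :
    x ∈ A := by
  apply mem_of_normal_hall Subgroup.le_normalizer le_rfl hxN
  rw [h.relIndex_normalizer]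
  exact Nat.Coprime.coprime_dvd_right (Subgroup.card_dvd_of_le inf_le_left) hx

end Ctx

end Cfsg.Agent.Lib.Helper3.KW
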