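import Cfsg.Agent.Lib.Helper3.KW5

set_option autoImplicit false

open scoped Pointwise

namespace Cfsg.Agent.Lib.Helper3.KW

universe u

open Cfsg.Agent.Lib.Helper1 Cfsg.Agent.Lib.Helper7

theorem orderOf_conj' {G : Type u} [Group G] (m v : G) : orderOf (m * v * m⁻¹) = orderOf v := by
  rw [orderOf_eq_orderOf_iff]
  intro n
  rw [conj_pow, conj_eq_one_iff]

theorem orderOf_conj'' {G : Type u} [Group G] (m v : G) : orderOf (m⁻¹ * v * m) = orderOf v := by
  have := orderOf_conj' m⁻¹ v
  rwa [inv_inv] at this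

variable {G : Type u} [Group G] [Finite G]

theorem conj_mem_centralizer_singleton' {n c v : G}
    (hc : c ∈ Subgroup.centralizer ({v} : Set G)) :
    n⁻¹ * c * n ∈ Subgroup.centralizer ({n⁻¹ * v * n} : Set G) := by
  rw [mem_centralizer_singleton] at hc ⊢
  calc n⁻¹ * v * n * (n⁻¹ * c * n) = n⁻¹ * (v * c) * n := by group
    _ = n⁻¹ * (c * v) * n := by rw [hc]
    _ = n⁻¹ * c * n * (n⁻¹ * v * n) := by group

namespace Ctx

variable {A B : Subgroup G}

theorem star (h : Ctx G A B) {v : G} (hvA : v ∈ A) (hvp : (orderOf v).Prime) :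
    Subgroup.centralizer ({v} : Set G) ≤ Subgroup.normalizer (A : Set G) := by
  obtain ⟨p, hp⟩ : ∃ p, p = orderOf v := ⟨_, rfl⟩
  rw [← hp] at hvp
  haveI := Fact.mk hvp
  have hvpow : v ^ p = 1 := by rw [hp]; exact pow_orderOf_eq_one v
  have hv1 : v ≠ 1 := by
    intro h1; rw [h1, orderOf_one] at hp; exact hvp.ne_one hp
  have hvsy : v ∈ sy A p := mem_sy_of_pow h.nilA hvA hvpow
  have hpA : p ∣ Nat.card A := by rw [hp]; exact Subgroup.orderOf_dvd_natCard A hvA
  by_cases hcase : Subgroup.centralizer ({v} : Set G) ⊓ Subgroup.normalizer (A : Set G) ≤ A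
  · -- Case 2: normal complement
    obtain ⟨Av, hAv⟩ : ∃ Av, Av = A ⊓ Subgroup.centralizer ({v} : Set G) := ⟨_, rfl⟩
    have hAvA : Av ≤ A := hAv ▸ inf_le_left
    have hAvC : Av ≤ Subgroup.centralizer ({v} : Set G) := hAv ▸ inf_le_right
    have hnilAv : Group.IsNilpotent Av := nil_of_le h.nilA hAvA
    have hvAv : v ∈ Av := by
      rw [hAv]; exact Subgroup.mem_inf.mpr ⟨hvA, mem_centralizer_singleton.mpr rfl⟩
    have hsyAv : ∀ (r : ℕ) [Fact r.Prime], r ≠ p → sy A r ≤ Av := by
      intro r _ hrp x hx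
      rw [hAv]
      refine Subgroup.mem_inf.mpr ⟨sy_le A r hx, ?_⟩
      rw [mem_centralizer_singleton]
      exact (sy_commute h.nilA hrp hx hvsy).symm
    have hnot : ∀ (p' : ℕ) [Fact p'.Prime], ¬ IsPGroup p' Av := by
      intro p' _ hP
      obtain ⟨r, hr, hrp', hrA⟩ := h.exists_other_prime_left p'
      haveI := Fact.mk hr
      by_cases hrp : r = p
      · have h1 : IsPGroup p' (Subgroup.zpowers v) := hP.to_le ((Subgroup.zpowers_le).mpr hvAv)
        have h2 : IsPGroup p (Subgroup.zpowers v) := by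
          apply IsPGroup.of_card (n := 1); rw [Nat.card_zpowers, ← hp, pow_one]
        have hd := IsPGroup.disjoint_of_ne p p' (hrp ▸ hrp') _ _ h2 h1
        rw [disjoint_self] at hd
        exact hv1 (Subgroup.zpowers_eq_bot.mp hd)
      · have h1 : IsPGroup p' (sy A r) := hP.to_le (hsyAv r hrp)
        have hd := IsPGroup.disjoint_of_ne r p' hrp' _ _ (sy_isPGroup A r) h1
        rw [disjoint_self] at hd
        exact sy_ne_bot hrA hd
    have hnorm : ∀ (r : ℕ) [Fact r.Prime], r ∣ Nat.card Av →
        Subgroup.normalizer (sy Av r : Set G) ⊓ Subgroup.centralizer ({v} : Set G) ≤ Av := by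
      intro r hrf hrAv g hg
      obtain ⟨hgn, hgC⟩ := Subgroup.mem_inf.mp hg
      have hrA : r ∣ Nat.card A := hrAv.trans (Subgroup.card_dvd_of_le hAvA)
      suffices hgN : g ∈ Subgroup.normalizer (A : Set G) by
        have h1 := hcase (Subgroup.mem_inf.mpr ⟨hgC, hgN⟩)
        rw [hAv]; exact Subgroup.mem_inf.mpr ⟨h1, hgC⟩
      obtain ⟨a, haS, hao, hcent⟩ := h.exists_central_in (F := sy A r) le_rfl (sy_ne_bot hrA)
        Subgroup.le_normalizer
      have ha1 : a ≠ 1 := by
        intro h1
        rw [h1, orderOf_one] at hao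
        exact hrf.out.ne_one hao.symm
      have haA : a ∈ A := sy_le A r haS
      have haAv : a ∈ sy Av r := by
        rw [sy_of_le h.nilA hAvA, hAv]
        refine Subgroup.mem_inf.mpr ⟨Subgroup.mem_inf.mpr ⟨haA, ?_⟩, haS⟩
        rw [mem_centralizer_singleton]
        exact (mem_centralizer_singleton.mp (hcent hvA)).symm
      have hconj : g * a * g⁻¹ ∈ sy A r := by
        have h1 := conj_mem_of_mem_normalizer hgn haAv
        rw [sy_of_le h.nilA hAvA] at h1
        exact (Subgroup.mem_inf.mp h1).2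
      obtain ⟨n, hn, he⟩ := h.fusion haS hconj
      have hcen : n⁻¹ * g ∈ Subgroup.centralizer ({a} : Set G) := by
        rw [mem_centralizer_singleton]
        calc a * (n⁻¹ * g) = n⁻¹ * (n * a * n⁻¹) * g := by group
          _ = n⁻¹ * (g * a * g⁻¹) * g := by rw [he]
          _ = n⁻¹ * g * a := by group
      have hCA := h.centralizer_central_le haA hcent ha1
      have hge : g = n * (n⁻¹ * g) := by group
      rw [hge]
      exact Subgroup.mul_mem _ hn (Subgroup.le_normalizer (hCA hcen))
    obtain ⟨K, hKC, hCK, hKAv, hcard, hcop⟩ :=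
      normal_complement_rel (Subgroup.centralizer ({v} : Set G)) Av hAvC hnilAv hnot hnorm
    by_cases hK : K = ⊥
    · rw [hK, Subgroup.card_bot, one_mul] at hcard
      have heq : Av = Subgroup.centralizer ({v} : Set G) :=
        Subgroup.eq_of_le_of_card_ge hAvC hcard.ge
      rw [← heq]
      exact hAvA.trans Subgroup.le_normalizer
    · exfalso
      have hKprimes : ∀ t : ℕ, t.Prime → t ∣ Nat.card K → t ∣ Nat.card B := by
        intro t ht htK
        haveI := Fact.mk ht
        have htAv : ¬ t ∣ Nat.card Av := fun h' =>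
          ht.ne_one (Nat.eq_one_of_dvd_coprimes hcop htK h')
        have htA : ¬ t ∣ Nat.card A := by
          intro htA
          apply htAv
          by_cases htp : t = p
          · rw [htp, hp]; exact Subgroup.orderOf_dvd_natCard Av hvAv
          · have h1 : Nat.card (sy A t) ∣ Nat.card Av := Subgroup.card_dvd_of_le (hsyAv t htp)
            have h2 : t ∣ Nat.card (sy A t) := by
              rw [card_sy]
              exact dvd_pow_self _ (Nat.Prime.factorization_pos_of_dvd ht Nat.card_pos.ne' htA).ne'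
            exact h2.trans h1
        have h1 : t ∣ Nat.card G := htK.trans (Subgroup.card_subgroup_dvd_card K)
        rw [h.card_eq] at h1
        exact (ht.dvd_mul.mp h1).resolve_left htA
      obtain ⟨x, hx⟩ := nilpotent_hall_dominance B K h.nilB
        (by rw [h.symm.index_left]; exact h.cop.symm) hKprimes
      have h' := h.conj_right x
      have hnilK : Group.IsNilpotent K := nil_of_le h'.nilB hx
      obtain ⟨t, ht, htK⟩ := Nat.exists_prime_and_dvd (fun h1 => hK (Subgroup.card_eq_one.mp h1))
      haveI := Fact.mk ht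
      have hTne : sy K t ≠ ⊥ := sy_ne_bot htK
      have hTle : sy K t ≤ sy (MulAut.conj x • B) t :=
        le_sy_of_isPGroup h'.nilB ((sy_le K t).trans hx) (sy_isPGroup K t)
      obtain ⟨r, hr, hrp, hrA⟩ := h.exists_other_prime_left p
      haveI := Fact.mk hr
      have hn : sy A r ≤ Subgroup.normalizer (sy K t : Set G) :=
        ((hsyAv r hrp).trans hAvC).trans (hCK.trans (normalizer_le_normalizer_sy hnilK t))
      exact h'.F3 hrA hTle hTne hn
  · -- Case 1: an element of `C ⊓ N` outside `A`
    rw [SetLike.not_le_iff_exists] at hcase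
    obtain ⟨g, hg, hgA⟩ := hcase
    obtain ⟨hgC, hgN⟩ := Subgroup.mem_inf.mp hg
    obtain ⟨q, hq, hqg, hqA⟩ : ∃ q : ℕ, q.Prime ∧ q ∣ orderOf g ∧ ¬ q ∣ Nat.card A := by
      by_contra hcon
      push Not at hcon
      apply hgA
      apply h.mem_of_mem_normalizer_of_coprime hgN
      apply Nat.coprime_of_dvd
      intro k hk hk1 hk2
      exact h.not_dvd_right hk (hcon k hk hk1) hk2
    haveI := Fact.mk hq
    have hqB : q ∣ Nat.card B := by
      have h1 : q ∣ Nat.card G := hqg.trans (orderOf_dvd_natCard g)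
      rw [h.card_eq] at h1
      exact (hq.dvd_mul.mp h1).resolve_left hqA
    obtain ⟨y', hy'⟩ : ∃ y', y' = g ^ (orderOf g / q) := ⟨_, rfl⟩
    have hy'o : orderOf y' = q := by
      rw [hy']; exact orderOf_pow_orderOf_div (orderOf_pos g).ne' hqg
    have hy'C : y' ∈ Subgroup.centralizer ({v} : Set G) := by
      rw [hy']; exact Subgroup.pow_mem _ hgC _
    have hy'N : y' ∈ Subgroup.normalizer (A : Set G) := by
      rw [hy']; exact Subgroup.pow_mem _ hgN _
    have hnilY : Group.IsNilpotent (B ⊓ Subgroup.normalizer (A : Set G) : Subgroup G) :=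
      nil_of_le h.nilB inf_le_left
    have hSN : sy (B ⊓ Subgroup.normalizer (A : Set G)) q ≤ Subgroup.normalizer (A : Set G) :=
      (sy_le _ q).trans inf_le_right
    have hidx : ¬ q ∣ (sy (B ⊓ Subgroup.normalizer (A : Set G)) q).relIndex
        (Subgroup.normalizer (A : Set G)) := by
      intro hdvd
      have h1 : (sy (B ⊓ Subgroup.normalizer (A : Set G)) q).relIndex
          (Subgroup.normalizer (A : Set G)) *
          Nat.card (sy (B ⊓ Subgroup.normalizer (A : Set G)) q) =
          Nat.card (Subgroup.normalizer (A : Set G)) := by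
        have h0 := ((sy (B ⊓ Subgroup.normalizer (A : Set G)) q).subgroupOf
          (Subgroup.normalizer (A : Set G))).index_mul_card
        rwa [card_subgroupOf_of_le hSN] at h0
      have h2 : Nat.card (Subgroup.normalizer (A : Set G)) =
          Nat.card A * Nat.card (B ⊓ Subgroup.normalizer (A : Set G) : Subgroup G) := by
        have h0 := h.card_of_fac (fac_of_le_left (B := B) (Subgroup.le_normalizer (H := A)))
        rwa [inf_of_le_left Subgroup.le_normalizer] at h0
      rw [card_sy] at h1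
      have h3 : q ^ ((Nat.card (B ⊓ Subgroup.normalizer (A : Set G) : Subgroup G)).factorization q
          + 1) ∣ Nat.card A * Nat.card (B ⊓ Subgroup.normalizer (A : Set G) : Subgroup G) := by
        rw [← h2, ← h1, pow_succ']
        exact mul_dvd_mul_right hdvd _
      have h4 : (q ^ ((Nat.card (B ⊓ Subgroup.normalizer (A : Set G) : Subgroup G)).factorization q
          + 1)).Coprime (Nat.card A) :=
        Nat.Coprime.pow_left _ ((Nat.Prime.coprime_iff_not_dvd hq).mpr hqA)
      exact Nat.pow_succ_factorization_not_dvd Nat.card_pos.ne' hq (h4.dvd_of_dvd_mul_left h3)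
    have hXN : Subgroup.zpowers y' ≤ Subgroup.normalizer (A : Set G) :=
      (Subgroup.zpowers_le).mpr hy'N
    have hX : IsPGroup q (Subgroup.zpowers y') := by
      apply IsPGroup.of_card (n := 1)
      rw [Nat.card_zpowers, hy'o, pow_one]
    obtain ⟨n, hnN, hle⟩ := exists_conj_le_in (Subgroup.normalizer (A : Set G))
      (sy (B ⊓ Subgroup.normalizer (A : Set G)) q) (Subgroup.zpowers y') hSN (sy_isPGroup _ q)
      hidx hXN hX
    have hy'n : n⁻¹ * y' * n ∈ sy (B ⊓ Subgroup.normalizer (A : Set G)) q :=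
      mem_conj.mp (hle (Subgroup.mem_zpowers y'))
    have hyY : n⁻¹ * y' * n ∈ B ⊓ Subgroup.normalizer (A : Set G) := sy_le _ q hy'n
    have hyB : n⁻¹ * y' * n ∈ B := (Subgroup.mem_inf.mp hyY).1
    have hyN : n⁻¹ * y' * n ∈ Subgroup.normalizer (A : Set G) := (Subgroup.mem_inf.mp hyY).2
    have hyo : (orderOf (n⁻¹ * y' * n)).Prime := by
      rw [orderOf_conj'', hy'o]; exact hq
    have hv'A : n⁻¹ * v * n ∈ A := by
      have h0 := conj_mem_of_mem_normalizer (Subgroup.inv_mem _ hnN) hvA
      rwa [inv_inv] at h0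
    have hv'o : (orderOf (n⁻¹ * v * n)).Prime := by
      rw [orderOf_conj'', ← hp]; exact hvp
    have hv'C : n⁻¹ * v * n ∈ Subgroup.centralizer ({n⁻¹ * y' * n} : Set G) := by
      have hvC : v ∈ Subgroup.centralizer ({y'} : Set G) := by
        rw [mem_centralizer_singleton]
        exact (mem_centralizer_singleton.mp hy'C).symm
      exact conj_mem_centralizer_singleton' hvC
    have hv'N' : n⁻¹ * v * n ∈ Subgroup.normalizer (B : Set G) :=
      h.inf_centralizer_le_of_mem_Y hyB hyN hyo (Subgroup.mem_inf.mpr ⟨hv'A, hv'C⟩)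
    have hCv' := h.centralizer_le_of_mem_X hv'A hv'N' hv'o
    intro c hc
    have h2 := hCv' (conj_mem_centralizer_singleton' (n := n) hc)
    have hce : c = n * (n⁻¹ * c * n) * n⁻¹ := by group
    rw [hce]
    exact Subgroup.mul_mem _ (Subgroup.mul_mem _ hnN h2) (Subgroup.inv_mem _ hnN)

theorem TI (h : Ctx G A B) {g u : G} (hu : u ∈ A) (hug : g⁻¹ * u * g ∈ A)
    (hup : (orderOf u).Prime) : g ∈ Subgroup.normalizer (A : Set G) := by
  haveI := Fact.mk hup
  have hu' : g⁻¹ * u * g ∈ sy A (orderOf u) := by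
    apply mem_sy_of_pow h.nilA hug
    have h1 : (g⁻¹ * u * g) ^ orderOf u = g⁻¹ * u ^ orderOf u * g := by
      have h0 := conj_pow (a := g⁻¹) (b := u) (i := orderOf u)
      rwa [inv_inv] at h0
    rw [h1, pow_orderOf_eq_one]; group
  have hconj : g * (g⁻¹ * u * g) * g⁻¹ ∈ sy A (orderOf u) := by
    have h1 : g * (g⁻¹ * u * g) * g⁻¹ = u := by group
    rw [h1]; exact mem_sy_of_pow h.nilA hu (pow_orderOf_eq_one u)
  obtain ⟨n, hn, he⟩ := h.fusion hu' hconj
  have hu'o : (orderOf (g⁻¹ * u * g)).Prime := by rw [orderOf_conj'']; exact hup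
  have hstar := h.star hug hu'o
  have hcen : g⁻¹ * n ∈ Subgroup.centralizer ({g⁻¹ * u * g} : Set G) := by
    rw [mem_centralizer_singleton]
    calc g⁻¹ * u * g * (g⁻¹ * n) = g⁻¹ * (g * (g⁻¹ * u * g) * g⁻¹) * n := by group
      _ = g⁻¹ * (n * (g⁻¹ * u * g) * n⁻¹) * n := by rw [he]
      _ = g⁻¹ * n * (g⁻¹ * u * g) := by group
  have h1 := hstar hcen
  have hge : g = n * (g⁻¹ * n)⁻¹ := by group
  rw [hge]
  exact Subgroup.mul_mem _ hn (Subgroup.inv_mem _ h1)

theorem card_lt (h : Ctx G A B) : Nat.card A < Nat.card B := by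
  obtain ⟨g, hg⟩ : ∃ g, g ∉ Subgroup.normalizer (A : Set G) := by
    by_contra hcon
    push Not at hcon
    exact h.normalizer_ne_top (eq_top_iff.mpr (fun x _ => hcon x))
  have hTI : A ⊓ MulAut.conj g • A = ⊥ := by
    by_contra hne
    obtain ⟨u, hu, hup⟩ := exists_prime_order_mem _ hne
    obtain ⟨huA, hug⟩ := Subgroup.mem_inf.mp hu
    rw [mem_conj] at hug
    exact hg (h.TI huA hug hup)
  have hinj : Function.Injective (fun o : Option A => match o with
      | none => ((1 : G) : G ⧸ Subgroup.normalizer (A : Set G))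
      | some a => ((a.1 * g : G) : G ⧸ Subgroup.normalizer (A : Set G))) := by
    have hmiss : ∀ a : A, a.1 * g ∉ Subgroup.normalizer (A : Set G) := by
      intro a ha
      apply hg
      have hge : g = a.1⁻¹ * (a.1 * g) := by group
      rw [hge]
      exact Subgroup.mul_mem _ (Subgroup.inv_mem _ (Subgroup.le_normalizer a.2)) ha
    intro o1 o2 he
    match o1, o2, he with
    | none, none, _ => rfl
    | none, some a, he =>
      exfalso
      have h1 := QuotientGroup.eq.mp he
      rw [inv_one, one_mul] at h1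
      exact hmiss a h1
    | some a, none, he =>
      exfalso
      have h1 := QuotientGroup.eq.mp he.symm
      rw [inv_one, one_mul] at h1
      exact hmiss a h1
    | some a, some a', he =>
      have h1 := QuotientGroup.eq.mp he
      have h2 : (a.1 * g)⁻¹ * (a'.1 * g) = g⁻¹ * (a.1⁻¹ * a'.1) * g := by group
      rw [h2] at h1
      have hzA : a.1⁻¹ * a'.1 ∈ A := A.mul_mem (A.inv_mem a.2) a'.2
      have h3 : g⁻¹ * (a.1⁻¹ * a'.1) * g ∈ A := by
        apply h.mem_of_mem_normalizer_of_coprime h1
        rw [orderOf_conj'']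
        exact Nat.Coprime.coprime_dvd_left (Subgroup.orderOf_dvd_natCard A hzA) h.cop
      have h4 : a.1⁻¹ * a'.1 ∈ A ⊓ MulAut.conj g • A :=
        Subgroup.mem_inf.mpr ⟨hzA, mem_conj.mpr h3⟩
      rw [hTI, Subgroup.mem_bot, inv_mul_eq_one] at h4
      exact congrArg some (Subtype.ext h4)
  have h1 := Nat.card_le_card_of_injective _ hinj
  rw [Finite.card_option] at h1
  have h2 : Nat.card (G ⧸ Subgroup.normalizer (A : Set G)) ∣ Nat.card B := by
    have h3 := (Subgroup.normalizer (A : Set G)).index_mul_card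
    have h4 : Nat.card (Subgroup.normalizer (A : Set G)) =
        Nat.card A * Nat.card (B ⊓ Subgroup.normalizer (A : Set G) : Subgroup G) := by
      have h0 := h.card_of_fac (fac_of_le_left (B := B) (Subgroup.le_normalizer (H := A)))
      rwa [inf_of_le_left Subgroup.le_normalizer] at h0
    rw [h4, h.card_eq] at h3
    have h5 : (Subgroup.normalizer (A : Set G)).index *
        Nat.card (B ⊓ Subgroup.normalizer (A : Set G) : Subgroup G) = Nat.card B := by
      apply Nat.eq_of_mul_eq_mul_left (Nat.card_pos (α := A))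
      rw [← h3]; ring
    exact Dvd.intro _ h5
  have h6 := Nat.le_of_dvd Nat.card_pos h2
  omega

theorem false (h : Ctx G A B) : False := by
  have h1 := h.card_lt
  have h2 := h.symm.card_lt
  omega

end Ctx

/-- Wielandt: a finite group which is the product of two nilpotent subgroups of coprime orders is
solvable -/
theorem coprime_solvable_aux : ∀ (n : ℕ) (G : Type u) [Group G] [Finite G], Nat.card G = n →
    ∀ (A B : Subgroup G), Group.IsNilpotent A → Group.IsNilpotent B →
      (Nat.card A).Coprime (Nat.card B) → (∀ g : G, ∃ a ∈ A, ∃ b ∈ B, g = a * b) →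
      Group.IsSolvable G := by
  intro n
  induction n using Nat.strong_induction_on with
  | _ n ih =>
    intro G _ _ hn A B hA hB hcop hfact
    by_contra hns
    exact Ctx.false (A := A) (B := B) ⟨hA, hB, hcop, hfact,
      fun H _ _ hlt A' B' hA' hB' hc hf => ih (Nat.card H) (hn ▸ hlt) H rfl A' B' hA' hB' hc hf,
      hns⟩

theorem coprime_solvable {G : Type u} [Group G] [Finite G] (A B : Subgroup G)
    (hA : Group.IsNilpotent A) (hB : Group.IsNilpotent B)
    (hcop : (Nat.card A).Coprime (Nat.card B)) (hfact : ∀ g : G, ∃ a ∈ A, ∃ b ∈ B, g = a * b) :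
    Group.IsSolvable G :=
  coprime_solvable_aux _ G rfl A B hA hB hcop hfact

end Cfsg.Agent.Lib.Helper3.KW
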