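import Cfsg.Agent.Lib.Helper3.KW6
import Cfsg.Agent.Lib.Helper3.TW1

set_option autoImplicit false

open scoped Pointwise

namespace Cfsg.Agent.Lib.Helper3.KW

universe u

open Cfsg Cfsg.Agent.Lib.Helper1 Cfsg.Agent.Lib.Helper7

section Perm

variable {G : Type u} [Group G]

/-- every conjugate of `Q` permutes with every conjugate of `P` -/
def Perm (P Q : Subgroup G) : Prop :=
  ∀ x y : G, ∀ u ∈ P, ∀ v ∈ Q, ∃ u' ∈ P, ∃ v' ∈ Q,
    (y * v * y⁻¹) * (x * u * x⁻¹) = (x * u' * x⁻¹) * (y * v' * y⁻¹)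

theorem Perm.symm {P Q : Subgroup G} (h : Perm P Q) : Perm Q P := by
  intro x y u hu v hv
  obtain ⟨a, ha, b, hb, he⟩ := h y x v⁻¹ (P.inv_mem hv) u⁻¹ (Q.inv_mem hu)
  refine ⟨b⁻¹, Q.inv_mem hb, a⁻¹, P.inv_mem ha, ?_⟩
  calc (y * v * y⁻¹) * (x * u * x⁻¹) = ((x * u⁻¹ * x⁻¹) * (y * v⁻¹ * y⁻¹))⁻¹ := by group
    _ = ((y * a * y⁻¹) * (x * b * x⁻¹))⁻¹ := by rw [he]
    _ = (x * b⁻¹ * x⁻¹) * (y * a⁻¹ * y⁻¹) := by group

theorem Perm.exists_subgroup {P Q : Subgroup G} (h : Perm P Q) (x y : G) :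
    ∃ S : Subgroup G, (S : Set G) =
      ((MulAut.conj x • P : Subgroup G) : Set G) * ((MulAut.conj y • Q : Subgroup G) : Set G) := by
  let S : Subgroup G :=
    { carrier := {z | ∃ u ∈ P, ∃ v ∈ Q, z = (x * u * x⁻¹) * (y * v * y⁻¹)}
      one_mem' := ⟨1, P.one_mem, 1, Q.one_mem, by group⟩
      mul_mem' := by
        rintro _ _ ⟨u₁, hu₁, v₁, hv₁, rfl⟩ ⟨u₂, hu₂, v₂, hv₂, rfl⟩
        obtain ⟨u', hu', v', hv', he⟩ := h x y u₂ hu₂ v₁ hv₁
        refine ⟨u₁ * u', P.mul_mem hu₁ hu', v' * v₂, Q.mul_mem hv' hv₂, ?_⟩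
        calc x * u₁ * x⁻¹ * (y * v₁ * y⁻¹) * (x * u₂ * x⁻¹ * (y * v₂ * y⁻¹))
            = x * u₁ * x⁻¹ * ((y * v₁ * y⁻¹) * (x * u₂ * x⁻¹)) * (y * v₂ * y⁻¹) := by group
          _ = x * u₁ * x⁻¹ * ((x * u' * x⁻¹) * (y * v' * y⁻¹)) * (y * v₂ * y⁻¹) := by rw [he]
          _ = x * (u₁ * u') * x⁻¹ * (y * (v' * v₂) * y⁻¹) := by group
      inv_mem' := by
        rintro _ ⟨u, hu, v, hv, rfl⟩
        obtain ⟨u', hu', v', hv', he⟩ := h x y u⁻¹ (P.inv_mem hu) v⁻¹ (Q.inv_mem hv)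
        refine ⟨u', hu', v', hv', ?_⟩
        rw [← he]; group }
  refine ⟨S, ?_⟩
  ext z
  constructor
  · rintro ⟨u, hu, v, hv, rfl⟩
    refine Set.mul_mem_mul ?_ ?_
    · rw [SetLike.mem_coe, mem_conj]
      have : x⁻¹ * (x * u * x⁻¹) * x = u := by group
      rw [this]; exact hu
    · rw [SetLike.mem_coe, mem_conj]
      have : y⁻¹ * (y * v * y⁻¹) * y = v := by group
      rw [this]; exact hv
  · intro hz
    obtain ⟨a, ha, b, hb, rfl⟩ := Set.mem_mul.mp hz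
    rw [SetLike.mem_coe, mem_conj] at ha hb
    refine ⟨x⁻¹ * a * x, ha, y⁻¹ * b * y, hb, ?_⟩
    group

theorem isPGroup_of_coe_eq_mul [Finite G] {p : ℕ} [hp : Fact p.Prime] {S P' Q' : Subgroup G}
    (hS : (S : Set G) = (P' : Set G) * (Q' : Set G)) (hP : IsPGroup p P') (hQ : IsPGroup p Q') :
    IsPGroup p S := by
  have hPS : P' ≤ S := le_of_coe_eq_mul_left hS
  have hQS : Q' ≤ S := le_of_coe_eq_mul_right hS
  have hfact : ∀ g : S, ∃ a ∈ P'.subgroupOf S, ∃ b ∈ Q'.subgroupOf S, g = a * b := by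
    rintro ⟨g, hg⟩
    have hg' : g ∈ (S : Set G) := hg
    rw [hS] at hg'
    obtain ⟨a, ha, b, hb, rfl⟩ := Set.mem_mul.mp hg'
    exact ⟨⟨a, hPS ha⟩, ha, ⟨b, hQS hb⟩, hb, rfl⟩
  have h1 := card_mul_card_inf_eq_of_mul_eq (P'.subgroupOf S) (Q'.subgroupOf S) hfact
  rw [card_subgroupOf_of_le hPS, card_subgroupOf_of_le hQS] at h1
  obtain ⟨a, ha⟩ := IsPGroup.iff_card.mp hP
  obtain ⟨b, hb⟩ := IsPGroup.iff_card.mp hQ
  have h2 : Nat.card S ∣ p ^ (a + b) := by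
    rw [pow_add, ← ha, ← hb, ← h1]
    exact dvd_mul_right _ _
  obtain ⟨c, -, hc⟩ := (Nat.dvd_prime_pow hp.out).mp h2
  exact IsPGroup.of_card hc

theorem pCoreIn_eq_bot_of_normal [Finite G] {p : ℕ} (hO : pCore p G = ⊥) {V : Subgroup G}
    (hV : V.Normal) : pCoreIn p V = ⊥ := by
  rw [eq_bot_iff, ← hO]
  apply Cfsg.Agent.Lib.Helper7.le_pCore _ (pCoreIn_isPGroup p V)
  rw [← Subgroup.normalizer_eq_top_iff, eq_top_iff]
  refine le_trans ?_ (TW.normalizer_le_normalizer_pCoreIn p V)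
  rw [Subgroup.normalizer_eq_top_iff.mpr hV]

theorem eq_bot_of_pgroup_normal_in [Finite G] {p : ℕ} (hO : pCore p G = ⊥) {V E : Subgroup G}
    (hV : V.Normal) (hEV : E ≤ V) (hE : IsPGroup p E)
    (hn : V ≤ Subgroup.normalizer (E : Set G)) : E = ⊥ := by
  rw [eq_bot_iff, ← pCoreIn_eq_bot_of_normal hO hV]
  exact le_pCoreIn hEV hE hn

end Perm

theorem kegel_step (p : ℕ) [Fact p.Prime] {G : Type u} [Group G] [Finite G]
    (ih : ∀ (H : Type u) [Group H] [Finite H], Nat.card H < Nat.card G →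
      ∀ (P Q : Subgroup H), IsPGroup p P → IsPGroup p Q → Perm P Q →
        ∀ u ∈ P, ∀ v ∈ Q, u * v * u⁻¹ * v⁻¹ ∈ pCore p H)
    (hO : pCore p G = ⊥) {P Q : Subgroup G} (hP : IsPGroup p P) (hQ : IsPGroup p Q)
    (hperm : Perm P Q) {N : Subgroup G} (hN : N.Normal) (hNt : N ≠ ⊤) (hPN : P ≤ N) :
    ∀ u ∈ P, ∀ v ∈ Q, u * v = v * u := by
  obtain ⟨V, hVdef⟩ : ∃ V, V = Subgroup.normalClosure (P : Set G) := ⟨_, rfl⟩
  have hVn : V.Normal := hVdef ▸ Subgroup.normalClosure_normal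
  have hVN : V ≤ N := by
    rw [hVdef]; exact Subgroup.normalClosure_le_normal hPN
  have hVt : V ≠ ⊤ := fun h => hNt (eq_top_iff.mpr (h ▸ hVN))
  have hPV : P ≤ V := hVdef ▸ Subgroup.le_normalClosure
  have hOV : pCoreIn p V = ⊥ := pCoreIn_eq_bot_of_normal hO hVn
  -- Claim A
  have hA : ∀ x : G, ∀ u ∈ P, ∀ w ∈ Q, w ∈ V → (x * u * x⁻¹) * w = w * (x * u * x⁻¹) := by
    intro x u hu w hw hwV
    have hPx : IsPGroup p (MulAut.conj x • P : Subgroup G) :=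
      hP.of_equiv (Subgroup.equivSMul (MulAut.conj x) P)
    have hperm' : Perm ((MulAut.conj x • P : Subgroup G).subgroupOf V)
        ((Q ⊓ V).subgroupOf V) := by
      intro a b u₁ hu₁ w₁ hw₁
      rw [Subgroup.mem_subgroupOf, mem_conj] at hu₁
      rw [Subgroup.mem_subgroupOf] at hw₁
      obtain ⟨u', hu', w', hw', he⟩ := hperm (a.1 * x) b.1 _ hu₁ w₁.1 (Subgroup.mem_inf.mp hw₁).1
      have h1 : a.1 * x * u' * (a.1 * x)⁻¹ ∈ V := hVn.conj_mem _ (hPV hu') _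
      have h2 : a.1 * x * (x⁻¹ * u₁.1 * x) * (a.1 * x)⁻¹ ∈ V := by
        have : a.1 * x * (x⁻¹ * u₁.1 * x) * (a.1 * x)⁻¹ = a.1 * u₁.1 * a.1⁻¹ := by group
        rw [this]
        exact V.mul_mem (V.mul_mem a.2 u₁.2) (V.inv_mem a.2)
      have h3 : b.1 * w₁.1 * b.1⁻¹ ∈ V := V.mul_mem (V.mul_mem b.2 w₁.2) (V.inv_mem b.2)
      have h4 : b.1 * w' * b.1⁻¹ ∈ V := by
        have : b.1 * w' * b.1⁻¹ = (a.1 * x * u' * (a.1 * x)⁻¹)⁻¹ *
            ((b.1 * w₁.1 * b.1⁻¹) * (a.1 * x * (x⁻¹ * u₁.1 * x) * (a.1 * x)⁻¹)) := by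
          rw [he]; group
        rw [this]
        exact V.mul_mem (V.inv_mem h1) (V.mul_mem h3 h2)
      have hw'V : w' ∈ V := by
        have : w' = b.1⁻¹ * (b.1 * w' * b.1⁻¹) * b.1 := by group
        rw [this]
        exact V.mul_mem (V.mul_mem (V.inv_mem b.2) h4) b.2
      have hxu'V : x * u' * x⁻¹ ∈ V := hVn.conj_mem _ (hPV hu') _
      refine ⟨⟨x * u' * x⁻¹, hxu'V⟩, ?_, ⟨w', hw'V⟩, ?_, ?_⟩
      · rw [Subgroup.mem_subgroupOf, mem_conj]
        have : x⁻¹ * (x * u' * x⁻¹) * x = u' := by group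
        show x⁻¹ * (x * u' * x⁻¹) * x ∈ P
        rw [this]; exact hu'
      · rw [Subgroup.mem_subgroupOf]
        exact Subgroup.mem_inf.mpr ⟨hw', hw'V⟩
      · apply Subtype.ext
        show b.1 * w₁.1 * b.1⁻¹ * (a.1 * u₁.1 * a.1⁻¹) =
          a.1 * (x * u' * x⁻¹) * a.1⁻¹ * (b.1 * w' * b.1⁻¹)
        calc b.1 * w₁.1 * b.1⁻¹ * (a.1 * u₁.1 * a.1⁻¹)
            = b.1 * w₁.1 * b.1⁻¹ * (a.1 * x * (x⁻¹ * u₁.1 * x) * (a.1 * x)⁻¹) := by group
          _ = a.1 * x * u' * (a.1 * x)⁻¹ * (b.1 * w' * b.1⁻¹) := he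
          _ = a.1 * (x * u' * x⁻¹) * a.1⁻¹ * (b.1 * w' * b.1⁻¹) := by group
    have hxuV : x * u * x⁻¹ ∈ V := hVn.conj_mem _ (hPV hu) _
    have hmem := ih V (card_lt_of_ne_top hVt) ((MulAut.conj x • P : Subgroup G).subgroupOf V)
      ((Q ⊓ V).subgroupOf V) hPx.comap_subtype
      (hQ.to_le inf_le_left).comap_subtype hperm' ⟨x * u * x⁻¹, hxuV⟩
      (by
        rw [Subgroup.mem_subgroupOf, mem_conj]
        have : x⁻¹ * (x * u * x⁻¹) * x = u := by group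
        show x⁻¹ * (x * u * x⁻¹) * x ∈ P
        rw [this]; exact hu)
      ⟨w, hwV⟩ (by rw [Subgroup.mem_subgroupOf]; exact Subgroup.mem_inf.mpr ⟨hw, hwV⟩)
    have hcV : (x * u * x⁻¹) * w * (x * u * x⁻¹)⁻¹ * w⁻¹ ∈ V :=
      V.mul_mem (V.mul_mem (V.mul_mem hxuV hwV) (V.inv_mem hxuV)) (V.inv_mem hwV)
    have hc : (x * u * x⁻¹) * w * (x * u * x⁻¹)⁻¹ * w⁻¹ ∈ pCoreIn p V :=
      (mem_pCoreIn_iff hcV).mpr hmem
    rw [hOV, Subgroup.mem_bot] at hc
    calc (x * u * x⁻¹) * w = ((x * u * x⁻¹) * w * (x * u * x⁻¹)⁻¹ * w⁻¹) * (w * (x * u * x⁻¹)) := by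
          group
      _ = w * (x * u * x⁻¹) := by rw [hc, one_mul]
  -- Q ⊓ V = ⊥
  have hQV : Q ⊓ V = ⊥ := by
    apply eq_bot_of_pgroup_normal_in hO hVn inf_le_right (hQ.to_le inf_le_left)
    apply le_normalizer_of_forall_conj_mem
    intro c hc w hw
    obtain ⟨hwQ, hwV⟩ := Subgroup.mem_inf.mp hw
    have hVle : V ≤ Subgroup.centralizer ({w} : Set G) := by
      rw [hVdef]
      show Subgroup.closure (Group.conjugatesOfSet (P : Set G)) ≤ _
      rw [Subgroup.closure_le]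
      intro z hz
      obtain ⟨u, hu, hconj⟩ := Group.mem_conjugatesOfSet_iff.mp hz
      obtain ⟨g, rfl⟩ := isConj_iff.mp hconj
      rw [SetLike.mem_coe, mem_centralizer_singleton]
      exact (hA g u hu w hwQ hwV).symm
    have h1 := mem_centralizer_singleton.mp (hVle hc)
    have h2 : c * w * c⁻¹ = w := by rw [← h1]; group
    rw [h2]; exact hw
  have hQV' : ∀ y : G, ∀ v ∈ Q, y * v * y⁻¹ ∈ V → v = 1 := by
    intro y v hv hyv
    have hvV : v ∈ V := by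
      have h1 := hVn.conj_mem _ hyv y⁻¹
      have h2 : y⁻¹ * (y * v * y⁻¹) * y⁻¹⁻¹ = v := by group
      rwa [h2] at h1
    have : v ∈ Q ⊓ V := Subgroup.mem_inf.mpr ⟨hv, hvV⟩
    rwa [hQV, Subgroup.mem_bot] at this
  -- Claim B
  have hB : ∀ y : G, ∀ v ∈ Q, ∀ u ∈ P, (y * v * y⁻¹) * u * (y * v * y⁻¹)⁻¹ ∈ P := by
    intro y v hv u hu
    obtain ⟨u', hu', v', hv', he⟩ := hperm 1 y u hu v hv
    simp only [one_mul, inv_one, mul_one] at he
    have h1 : y * (v' * v⁻¹) * y⁻¹ ∈ V := by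
      have : y * (v' * v⁻¹) * y⁻¹ = u'⁻¹ * ((y * v * y⁻¹) * u * (y * v * y⁻¹)⁻¹) := by
        have h0 : (y * v * y⁻¹) * u * (y * v * y⁻¹)⁻¹ = u' * (y * v' * y⁻¹) * (y * v * y⁻¹)⁻¹ := by
          rw [he]
        rw [h0]; group
      rw [this]
      exact V.mul_mem (V.inv_mem (hPV hu')) (hVn.conj_mem _ (hPV hu) _)
    have h2 := hQV' y _ (Q.mul_mem hv' (Q.inv_mem hv)) h1
    have h3 : v' = v := by
      rw [mul_inv_eq_one] at h2; exact h2
    rw [h3] at he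
    have h4 : (y * v * y⁻¹) * u * (y * v * y⁻¹)⁻¹ = u' := by
      rw [he]; group
    rw [h4]; exact hu'
  -- Claim C
  obtain ⟨W, hWdef⟩ : ∃ W, W = Subgroup.normalClosure (Q : Set G) := ⟨_, rfl⟩
  have hWn : W.Normal := hWdef ▸ Subgroup.normalClosure_normal
  have hQW : Q ≤ W := hWdef ▸ Subgroup.le_normalClosure
  have hWP : W ≤ Subgroup.normalizer (P : Set G) := by
    rw [hWdef]
    show Subgroup.closure (Group.conjugatesOfSet (Q : Set G)) ≤ _
    rw [Subgroup.closure_le]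
    intro z hz
    obtain ⟨v, hv, hconj⟩ := Group.mem_conjugatesOfSet_iff.mp hz
    obtain ⟨y, rfl⟩ := isConj_iff.mp hconj
    rw [SetLike.mem_coe]
    apply Subgroup.mem_normalizer_fintype
    intro u hu
    exact hB y v hv u hu
  have hPW : P ⊓ W = ⊥ := by
    apply eq_bot_of_pgroup_normal_in hO hWn inf_le_right (hP.to_le inf_le_left)
    apply le_normalizer_of_forall_conj_mem
    intro c hc e he
    obtain ⟨heP, heW⟩ := Subgroup.mem_inf.mp he
    exact Subgroup.mem_inf.mpr ⟨conj_mem_of_mem_normalizer (hWP hc) heP, hWn.conj_mem _ heW _⟩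
  intro u hu v hv
  have hcW : u * v * u⁻¹ * v⁻¹ ∈ W := W.mul_mem (hWn.conj_mem _ (hQW hv) _) (W.inv_mem (hQW hv))
  have hcP : u * v * u⁻¹ * v⁻¹ ∈ P := by
    have : u * v * u⁻¹ * v⁻¹ = u * (v * u⁻¹ * v⁻¹) := by group
    rw [this]
    exact P.mul_mem hu (conj_mem_of_mem_normalizer (hWP (hQW hv)) (P.inv_mem hu))
  have hc : u * v * u⁻¹ * v⁻¹ ∈ P ⊓ W := Subgroup.mem_inf.mpr ⟨hcP, hcW⟩
  rw [hPW, Subgroup.mem_bot] at hc
  calc u * v = (u * v * u⁻¹ * v⁻¹) * (v * u) := by group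
    _ = v * u := by rw [hc, one_mul]

theorem kegel_comm_aux (p : ℕ) [hp : Fact p.Prime] : ∀ (n : ℕ) (G : Type u) [Group G] [Finite G],
    Nat.card G = n → ∀ (P Q : Subgroup G), IsPGroup p P → IsPGroup p Q → Perm P Q →
    ∀ u ∈ P, ∀ v ∈ Q, u * v * u⁻¹ * v⁻¹ ∈ pCore p G := by
  intro n
  induction n using Nat.strong_induction_on with
  | _ n ih =>
    intro G _ _ hn P Q hP hQ hperm
    have ih' : ∀ (H : Type u) [Group H] [Finite H], Nat.card H < Nat.card G →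
        ∀ (P Q : Subgroup H), IsPGroup p P → IsPGroup p Q → Perm P Q →
        ∀ u ∈ P, ∀ v ∈ Q, u * v * u⁻¹ * v⁻¹ ∈ pCore p H :=
      fun H _ _ hlt P' Q' hP' hQ' hperm' => ih (Nat.card H) (hn ▸ hlt) H rfl P' Q' hP' hQ' hperm'
    by_cases hO : pCore p G = ⊥
    · by_cases hG : IsPGroup p G
      · intro u _ v _
        have htop : (⊤ : Subgroup G) ≤ pCore p G :=
          Cfsg.Agent.Lib.Helper7.le_pCore inferInstance (hG.to_subgroup ⊤)
        exact htop (Subgroup.mem_top _)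
      · have hne : ∀ S : Subgroup G, IsPGroup p S → S ≠ ⊤ := by
          intro S hS htop
          apply hG
          intro g
          obtain ⟨k, hk⟩ := hS ⟨g, htop ▸ Subgroup.mem_top g⟩
          exact ⟨k, by simpa using congrArg Subtype.val hk⟩
        have hkey : ∀ x : G, ∃ S : Subgroup G, S ≠ ⊤ ∧
            (S : Set G) = (P : Set G) * ((MulAut.conj x • Q : Subgroup G) : Set G) := by
          intro x
          obtain ⟨S, hS⟩ := hperm.exists_subgroup 1 x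
          rw [map_one, one_smul] at hS
          have hQx : IsPGroup p (MulAut.conj x • Q : Subgroup G) :=
            hQ.of_equiv (Subgroup.equivSMul (MulAut.conj x) Q)
          exact ⟨S, hne S (isPGroup_of_coe_eq_mul hS hP hQx), hS⟩
        obtain ⟨N, hN, hNt, hle⟩ := kegel_lemma P Q hkey
        intro u hu v hv
        have hcomm : u * v = v * u := by
          rcases hle with h1 | h1
          · exact kegel_step p ih' hO hP hQ hperm hN hNt h1 u hu v hv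
          · exact (kegel_step p ih' hO hQ hP hperm.symm hN hNt h1 v hv u hu).symm
        have : u * v * u⁻¹ * v⁻¹ = 1 := by rw [hcomm]; group
        rw [this]; exact Subgroup.one_mem _
    · -- quotient by the p-core
      intro u hu v hv
      have hlt : Nat.card (G ⧸ pCore p G) < Nat.card G := by
        have h1 := Subgroup.card_eq_card_quotient_mul_card_subgroup (pCore p G)
        have h2 : 1 < Nat.card (pCore p G) := (Subgroup.one_lt_card_iff_ne_bot _).mpr hO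
        have h3 : 0 < Nat.card (G ⧸ pCore p G) := Nat.card_pos
        nlinarith
      have hperm' : Perm (P.map (QuotientGroup.mk' (pCore p G)))
          (Q.map (QuotientGroup.mk' (pCore p G))) := by
        intro x y u₁ hu₁ v₁ hv₁
        obtain ⟨x, rfl⟩ := QuotientGroup.mk'_surjective (pCore p G) x
        obtain ⟨y, rfl⟩ := QuotientGroup.mk'_surjective (pCore p G) y
        obtain ⟨u₀, hu₀, rfl⟩ := Subgroup.mem_map.mp hu₁
        obtain ⟨v₀, hv₀, rfl⟩ := Subgroup.mem_map.mp hv₁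
        obtain ⟨u', hu', v', hv', he⟩ := hperm x y u₀ hu₀ v₀ hv₀
        refine ⟨_, Subgroup.mem_map_of_mem _ hu', _, Subgroup.mem_map_of_mem _ hv', ?_⟩
        have := congrArg (QuotientGroup.mk' (pCore p G)) he
        simp only [map_mul, map_inv] at this
        exact this
      have hmem := ih' (G ⧸ pCore p G) hlt _ _ (hP.map _) (hQ.map _) hperm' _
        (Subgroup.mem_map_of_mem _ hu) _ (Subgroup.mem_map_of_mem _ hv)
      have hRn : ((pCore p (G ⧸ pCore p G)).comap (QuotientGroup.mk' (pCore p G))).Normal :=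
        Subgroup.Normal.comap inferInstance _
      have hRp : IsPGroup p ((pCore p (G ⧸ pCore p G)).comap (QuotientGroup.mk' (pCore p G))) := by
        apply (Cfsg.Agent.Lib.Helper7.pCore_isPGroup p _).comap_of_ker_isPGroup
        rw [QuotientGroup.ker_mk']
        exact Cfsg.Agent.Lib.Helper7.pCore_isPGroup p G
      apply Cfsg.Agent.Lib.Helper7.le_pCore hRn hRp
      rw [Subgroup.mem_comap]
      simp only [map_mul, map_inv]
      exact hmem

theorem kegel_comm {G : Type u} [Group G] [Finite G] (p : ℕ) [Fact p.Prime] (P Q : Subgroup G)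
    (hP : IsPGroup p P) (hQ : IsPGroup p Q) (hperm : Perm P Q) :
    ∀ u ∈ P, ∀ v ∈ Q, u * v * u⁻¹ * v⁻¹ ∈ pCore p G :=
  kegel_comm_aux p _ G rfl P Q hP hQ hperm

end Cfsg.Agent.Lib.Helper3.KW
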