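import Cfsg.Agent.Lib.Helper3.KW7

set_option autoImplicit false

open scoped Pointwise

namespace Cfsg.Agent.Lib.Helper3.KW

universe u

open Cfsg Cfsg.Agent.Lib.Helper1 Cfsg.Agent.Lib.Helper7

variable {G : Type u} [Group G] [Finite G]

theorem map_sylow_eq_sy {A : Subgroup G} (hA : Group.IsNilpotent A) {p : ℕ} [Fact p.Prime]
    (P : Sylow p A) : (P : Subgroup A).map A.subtype = sy A p := by
  have := hA
  have hn : ((default : Sylow p A) : Subgroup A).Normal := inferInstance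
  haveI : Unique (Sylow p A) := Sylow.unique_of_normal default hn
  have hP : P = default := Subsingleton.elim _ _
  rw [hP]; rfl

theorem perm_of_exists_subgroup {P Q : Subgroup G}
    (h : ∀ x y : G, ∃ S : Subgroup G, (S : Set G) =
      ((MulAut.conj x • P : Subgroup G) : Set G) * ((MulAut.conj y • Q : Subgroup G) : Set G)) :
    Perm P Q := by
  intro x y u hu v hv
  obtain ⟨S, hS⟩ := h x y
  have h1 : x * u * x⁻¹ ∈ S := by
    apply le_of_coe_eq_mul_left hS
    rw [mem_conj]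
    have : x⁻¹ * (x * u * x⁻¹) * x = u := by group
    rw [this]; exact hu
  have h2 : y * v * y⁻¹ ∈ S := by
    apply le_of_coe_eq_mul_right hS
    rw [mem_conj]
    have : y⁻¹ * (y * v * y⁻¹) * y = v := by group
    rw [this]; exact hv
  have h3 : (y * v * y⁻¹) * (x * u * x⁻¹) ∈ (S : Set G) := S.mul_mem h2 h1
  rw [hS] at h3
  obtain ⟨a, ha, b, hb, he⟩ := Set.mem_mul.mp h3
  rw [SetLike.mem_coe, mem_conj] at ha hb
  refine ⟨x⁻¹ * a * x, ha, y⁻¹ * b * y, hb, ?_⟩
  rw [← he]; group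

/-- a minimal counterexample to the Kegel–Wielandt theorem -/
structure Ctx2 (G : Type u) [Group G] [Finite G] (A B : Subgroup G) : Prop where
  nilA : Group.IsNilpotent A
  nilB : Group.IsNilpotent B
  fact : ∀ g : G, ∃ a ∈ A, ∃ b ∈ B, g = a * b
  ih : ∀ (H : Type u) [Group H] [Finite H], Nat.card H < Nat.card G →
    ∀ (A' B' : Subgroup H), Group.IsNilpotent A' → Group.IsNilpotent B' →
      (∀ g : H, ∃ a ∈ A', ∃ b ∈ B', g = a * b) → Group.IsSolvable H
  nsolv : ¬ Group.IsSolvable G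

namespace Ctx2

variable {A B : Subgroup G}

theorem fact' (h : Ctx2 G A B) (g : G) : ∃ b ∈ B, ∃ a ∈ A, g = b * a := by
  obtain ⟨a, ha, b, hb, hg⟩ := h.fact g⁻¹
  refine ⟨b⁻¹, B.inv_mem hb, a⁻¹, A.inv_mem ha, ?_⟩
  rw [← mul_inv_rev, ← hg, inv_inv]

theorem quot_solvable (h : Ctx2 G A B) (M : Subgroup G) [hM : M.Normal] (hb : M ≠ ⊥) :
    Group.IsSolvable (G ⧸ M) := by
  apply h.ih (G ⧸ M) ?_ (A.map (QuotientGroup.mk' M)) (B.map (QuotientGroup.mk' M)) ?_ ?_ ?_
  · have h1 := Subgroup.card_eq_card_quotient_mul_card_subgroup M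
    have h2 : 1 < Nat.card M := (Subgroup.one_lt_card_iff_ne_bot M).mpr hb
    have h3 : 0 < Nat.card (G ⧸ M) := Nat.card_pos
    nlinarith
  · exact @Group.nilpotent_of_surjective _ _ _ _ h.nilA ((QuotientGroup.mk' M).subgroupMap A)
      ((QuotientGroup.mk' M).subgroupMap_surjective A)
  · exact @Group.nilpotent_of_surjective _ _ _ _ h.nilB ((QuotientGroup.mk' M).subgroupMap B)
      ((QuotientGroup.mk' M).subgroupMap_surjective B)
  · intro g
    obtain ⟨g, rfl⟩ := QuotientGroup.mk_surjective g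
    obtain ⟨a, ha, b, hb, rfl⟩ := h.fact g
    exact ⟨QuotientGroup.mk' M a, Subgroup.mem_map_of_mem _ ha, QuotientGroup.mk' M b,
      Subgroup.mem_map_of_mem _ hb, rfl⟩

theorem eq_bot_of_solvable_normal (h : Ctx2 G A B) (M : Subgroup G) [hM : M.Normal]
    (hMs : Group.IsSolvable M) : M = ⊥ := by
  by_contra hb
  haveI := h.quot_solvable M hb
  exact h.nsolv (Group.isSolvable_of_ker_le_range M.subtype (QuotientGroup.mk' M) (by simp))

theorem false (h : Ctx2 G A B) : False := by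
  by_cases hcop : (Nat.card A).Coprime (Nat.card B)
  · exact h.nsolv (coprime_solvable A B h.nilA h.nilB hcop h.fact)
  obtain ⟨p, hp, hpA, hpB⟩ := Nat.Prime.not_coprime_iff_dvd.mp hcop
  haveI := Fact.mk hp
  have hPne : sy A p ≠ ⊥ := sy_ne_bot hpA
  have hQne : sy B p ≠ ⊥ := sy_ne_bot hpB
  -- the product of the Sylow subgroups is a subgroup
  obtain ⟨T, hT⟩ : ∃ T : Subgroup G, (T : Set G) = (sy A p : Set G) * (sy B p : Set G) := by
    obtain ⟨P', Q', R, hR⟩ := factorization_sylow_product A B h.fact p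
    rw [map_sylow_eq_sy h.nilA, map_sylow_eq_sy h.nilB] at hR
    exact ⟨R, hR⟩
  have hperm : Perm (sy A p) (sy B p) := by
    apply perm_of_exists_subgroup
    intro x y
    obtain ⟨a, ha, b, hb, hg⟩ := h.fact (x⁻¹ * y)
    have hgh : MulAut.conj (x⁻¹ * y) • sy B p = MulAut.conj a • sy B p := by
      rw [hg, map_mul, mul_smul, conj_smul_eq_of_mem_normalizer (le_normalizer_sy h.nilB p hb)]
    refine ⟨MulAut.conj (x * a) • T, ?_⟩
    rw [conj_smul_coe_mul (x * a) (sy A p) (sy B p) T hT]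
    have h1 : MulAut.conj (x * a) • sy A p = MulAut.conj x • sy A p := by
      rw [map_mul, mul_smul, conj_smul_eq_of_mem_normalizer (le_normalizer_sy h.nilA p ha)]
    have h2 : MulAut.conj (x * a) • sy B p = MulAut.conj y • sy B p := by
      rw [map_mul, mul_smul, ← hgh, smul_smul, ← map_mul, mul_inv_cancel_left]
    rw [h1, h2]
  -- the p-core is trivial
  have hO : pCore p G = ⊥ := by
    apply h.eq_bot_of_solvable_normal
    have hfin : Finite (pCore p G) := inferInstance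
    have hnil : Group.IsNilpotent (pCore p G) :=
      (Cfsg.Agent.Lib.Helper7.pCore_isPGroup p G).isNilpotent
    infer_instance
  have hcomm0 : ∀ u ∈ sy A p, ∀ v ∈ sy B p, u * v = v * u := by
    intro u hu v hv
    have h1 := kegel_comm p (sy A p) (sy B p) (sy_isPGroup A p) (sy_isPGroup B p) hperm u hu v hv
    rw [hO, Subgroup.mem_bot] at h1
    calc u * v = (u * v * u⁻¹ * v⁻¹) * (v * u) := by group
      _ = v * u := by rw [h1, one_mul]
  have hcomm : ∀ x y : G, ∀ u ∈ sy A p, ∀ v ∈ sy B p,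
      (x * u * x⁻¹) * (y * v * y⁻¹) = (y * v * y⁻¹) * (x * u * x⁻¹) := by
    intro x y u hu v hv
    obtain ⟨b, hb, a, ha, hg⟩ := h.fact' (y⁻¹ * x)
    have hx : x = y * (b * a) := by rw [← hg]; group
    have hu2 : a * u * a⁻¹ ∈ sy A p := conj_mem_of_mem_normalizer (le_normalizer_sy h.nilA p ha) hu
    have hv2 : b⁻¹ * v * b⁻¹⁻¹ ∈ sy B p :=
      conj_mem_of_mem_normalizer (le_normalizer_sy h.nilB p (B.inv_mem hb)) hv
    have hc := hcomm0 _ hu2 _ hv2
    calc (x * u * x⁻¹) * (y * v * y⁻¹)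
        = (y * b) * ((a * u * a⁻¹) * (b⁻¹ * v * b⁻¹⁻¹)) * (y * b)⁻¹ := by rw [hx]; group
      _ = (y * b) * ((b⁻¹ * v * b⁻¹⁻¹) * (a * u * a⁻¹)) * (y * b)⁻¹ := by rw [hc]
      _ = (y * v * y⁻¹) * (x * u * x⁻¹) := by rw [hx]; group
  obtain ⟨V, hVdef⟩ : ∃ V, V = Subgroup.normalClosure (sy A p : Set G) := ⟨_, rfl⟩
  obtain ⟨W, hWdef⟩ : ∃ W, W = Subgroup.normalClosure (sy B p : Set G) := ⟨_, rfl⟩
  haveI hVn : V.Normal := hVdef ▸ Subgroup.normalClosure_normal
  haveI hWn : W.Normal := hWdef ▸ Subgroup.normalClosure_normal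
  have hPV : sy A p ≤ V := hVdef ▸ Subgroup.le_normalClosure
  have hQW : sy B p ≤ W := hWdef ▸ Subgroup.le_normalClosure
  have hVne : V ≠ ⊥ := fun hb => hPne (eq_bot_iff.mpr (hb ▸ hPV))
  have hWne : W ≠ ⊥ := fun hb => hQne (eq_bot_iff.mpr (hb ▸ hQW))
  -- V and W commute
  have hVW1 : ∀ y : G, ∀ v ∈ sy B p, V ≤ Subgroup.centralizer ({y * v * y⁻¹} : Set G) := by
    intro y v hv
    rw [hVdef]
    show Subgroup.closure (Group.conjugatesOfSet (sy A p : Set G)) ≤ _
    rw [Subgroup.closure_le]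
    intro z hz
    obtain ⟨u, hu, hconj⟩ := Group.mem_conjugatesOfSet_iff.mp hz
    obtain ⟨x, rfl⟩ := isConj_iff.mp hconj
    rw [SetLike.mem_coe, mem_centralizer_singleton]
    exact (hcomm x y u hu v hv).symm
  have hVW : ∀ c ∈ V, ∀ d ∈ W, c * d = d * c := by
    intro c hc d hd
    have hWle : W ≤ Subgroup.centralizer ({c} : Set G) := by
      rw [hWdef]
      show Subgroup.closure (Group.conjugatesOfSet (sy B p : Set G)) ≤ _
      rw [Subgroup.closure_le]
      intro z hz
      obtain ⟨v, hv, hconj⟩ := Group.mem_conjugatesOfSet_iff.mp hz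
      obtain ⟨y, rfl⟩ := isConj_iff.mp hconj
      rw [SetLike.mem_coe, mem_centralizer_singleton]
      exact (mem_centralizer_singleton.mp (hVW1 y v hv hc)).symm
    exact mem_centralizer_singleton.mp (hWle hd)
  have hinf : V ⊓ W = ⊥ := by
    apply h.eq_bot_of_solvable_normal
    apply isSolvable_of_comm
    intro a b
    exact Subtype.ext (hVW a.1 (Subgroup.mem_inf.mp a.2).1 b.1 (Subgroup.mem_inf.mp b.2).2)
  haveI := h.quot_solvable V hVne
  haveI := h.quot_solvable W hWne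
  have hinj : Function.Injective ((QuotientGroup.mk' V).prod (QuotientGroup.mk' W)) := by
    rw [← MonoidHom.ker_eq_bot_iff, MonoidHom.ker_prod, QuotientGroup.ker_mk', QuotientGroup.ker_mk',
      hinf]
  exact h.nsolv (solvable_of_solvable_injective hinj)

end Ctx2

theorem nilpotent_product_solvable_aux : ∀ (n : ℕ) (G : Type u) [Group G] [Finite G],
    Nat.card G = n → ∀ (A B : Subgroup G), Group.IsNilpotent A → Group.IsNilpotent B →
      (∀ g : G, ∃ a ∈ A, ∃ b ∈ B, g = a * b) → Group.IsSolvable G := by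
  intro n
  induction n using Nat.strong_induction_on with
  | _ n ih =>
    intro G _ _ hn A B hA hB hfact
    by_contra hns
    exact Ctx2.false (A := A) (B := B) ⟨hA, hB, hfact,
      fun H _ _ hlt A' B' hA' hB' hf => ih (Nat.card H) (hn ▸ hlt) H rfl A' B' hA' hB' hf, hns⟩

/-- Kegel–Wielandt: a finite product of two nilpotent subgroups is solvable -/
theorem nilpotent_product_solvable {G : Type u} [Group G] [Finite G] (A B : Subgroup G)
    (hA : Group.IsNilpotent A) (hB : Group.IsNilpotent B)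
    (hfact : ∀ g : G, ∃ a ∈ A, ∃ b ∈ B, g = a * b) : Group.IsSolvable G :=
  nilpotent_product_solvable_aux _ G rfl A B hA hB hfact

end Cfsg.Agent.Lib.Helper3.KW
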