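import Cfsg.Agent.Lib.Helper3.KW8

set_option autoImplicit false

open scoped Pointwise

namespace Cfsg.Agent.Lib.Helper3.KW

universe u

open Cfsg Cfsg.Agent.Lib.Helper1 Cfsg.Agent.Lib.Helper7

section

variable {G : Type u} [Group G] [Finite G]

theorem coprime_card_sy_index {A : Subgroup G} {m : ℕ} (hidx : A.index = m)
    (hcop : (Nat.card A).Coprime m) (p : ℕ) [hp : Fact p.Prime] :
    (Nat.card (sy A p)).Coprime (sy A p).index := by
  by_cases hpA : p ∣ Nat.card A
  · have hpidx : ¬ p ∣ A.index := by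
      rw [hidx]
      intro hpm
      exact hp.out.ne_one (Nat.eq_one_of_dvd_coprimes hcop hpA hpm)
    obtain ⟨S, hS⟩ := exists_sylow_eq_sy A hpidx
    rw [card_sy]
    apply Nat.Coprime.pow_left
    rw [Nat.Prime.coprime_iff_not_dvd hp.out, ← hS]
    exact S.not_dvd_index
  · have h0 : (Nat.card A).factorization p = 0 := Nat.factorization_eq_zero_of_not_dvd hpA
    rw [card_sy, h0, pow_zero]
    exact Nat.coprime_one_left _

/-- S0563, second half -/
theorem sylow_factors_permute (A B : Subgroup G) (hA : Group.IsNilpotent A)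
    (hB : Group.IsNilpotent B) (hcop : (Nat.card A).Coprime (Nat.card B))
    (hAB : ∀ g : G, ∃ a ∈ A, ∃ b ∈ B, g = a * b) (p q : ℕ) [Fact p.Prime] [Fact q.Prime]
    (P : Sylow p A) (Q : Sylow q B) :
    ∃ S : Subgroup G, (S : Set G) = (((P : Subgroup A).map A.subtype : Subgroup G) : Set G) *
      (((Q : Subgroup B).map B.subtype : Subgroup G) : Set G) := by
  haveI : Group.IsSolvable G := coprime_solvable A B hA hB hcop hAB
  rw [map_sylow_eq_sy hA, map_sylow_eq_sy hB]
  have hAn : ((sy A p).subgroupOf A).Normal :=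
    (Subgroup.normal_subgroupOf_iff_le_normalizer (sy_le A p)).mpr (le_normalizer_sy hA p)
  have hBn : ((sy B q).subgroupOf B).Normal :=
    (Subgroup.normal_subgroupOf_iff_le_normalizer (sy_le B q)).mpr (le_normalizer_sy hB q)
  have hinf : A ⊓ B = ⊥ := by
    have h1 : Nat.card (A ⊓ B : Subgroup G) ∣ Nat.card A := Subgroup.card_dvd_of_le inf_le_left
    have h2 : Nat.card (A ⊓ B : Subgroup G) ∣ Nat.card B := Subgroup.card_dvd_of_le inf_le_right
    exact Subgroup.card_eq_one.mp (Nat.eq_one_of_dvd_coprimes hcop h1 h2)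
  have hcard : Nat.card G = Nat.card A * Nat.card B := by
    have := card_mul_card_inf_eq_of_mul_eq A B hAB
    rw [hinf, Subgroup.card_bot, mul_one] at this
    exact this
  have hidxA : A.index = Nat.card B := by
    have h1 := A.card_mul_index
    rw [hcard] at h1
    exact Nat.eq_of_mul_eq_mul_left Nat.card_pos h1
  have hidxB : B.index = Nat.card A := by
    have h1 := B.card_mul_index
    rw [hcard, mul_comm (Nat.card A)] at h1
    exact Nat.eq_of_mul_eq_mul_left Nat.card_pos h1
  obtain ⟨S, hS⟩ := hall_factors_permute A B (sy A p) (sy B q) hAB (sy_le A p) hAn (sy_le B q) hBn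
    (coprime_card_sy_index hidxA hcop p) (coprime_card_sy_index hidxB hcop.symm q) 1 1
  simp only [map_one, one_smul] at hS
  exact ⟨S, hS⟩

/-- if `G = MA = BA` with `M` a `p`-group then `A` contains the Sylow `q`-subgroups of the
nilpotent group `B` for `q ≠ p` -/
theorem sy_le_of_index_pow {p : ℕ} [hp : Fact p.Prime] {A B M : Subgroup G}
    (hB : Group.IsNilpotent B) (hBA : ∀ g : G, ∃ b ∈ B, ∃ a ∈ A, g = b * a) (hM : IsPGroup p M)
    (hMA : ∀ g : G, ∃ m ∈ M, ∃ a ∈ A, g = m * a) {q : ℕ} [hq : Fact q.Prime] (hqp : q ≠ p) :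
    sy B q ≤ A := by
  have h1 : A.relIndex M = A.index := relIndex_eq_index_of_mul_eq M A hMA
  have h2 : A.relIndex B = A.index := relIndex_eq_index_of_mul_eq B A hBA
  obtain ⟨k, hk⟩ := IsPGroup.iff_card.mp hM
  have h3 : A.index ∣ p ^ k := by
    rw [← h1, ← hk]; exact Subgroup.relIndex_dvd_card A M
  obtain ⟨j, -, hj⟩ := (Nat.dvd_prime_pow hp.out).mp h3
  have h4 : Nat.card (A ⊓ B : Subgroup G) * p ^ j = Nat.card B := by
    have h5 := ((A ⊓ B).subgroupOf B).card_mul_index
    rw [card_subgroupOf_of_le inf_le_right] at h5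
    have h6 : ((A ⊓ B).subgroupOf B).index = A.relIndex B := Subgroup.inf_relIndex_right A B
    rw [h6, h2, hj] at h5
    exact h5
  have h7 : (Nat.card B).factorization q = (Nat.card (A ⊓ B : Subgroup G)).factorization q := by
    have h8 : (p ^ j).factorization q = 0 := by
      apply Nat.factorization_eq_zero_of_not_dvd
      intro h
      exact hqp ((Nat.prime_dvd_prime_iff_eq hq.out hp.out).mp (hq.out.dvd_of_dvd_pow h))
    rw [← h4, Nat.factorization_mul Nat.card_pos.ne' (pow_ne_zero _ hp.out.ne_zero),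
      Finsupp.add_apply, h8, add_zero]
  have h9 : sy (A ⊓ B) q = sy B q := by
    have hle : sy (A ⊓ B) q ≤ sy B q := by
      rw [sy_of_le hB inf_le_right]; exact inf_le_right
    apply Subgroup.eq_of_le_of_card_ge hle
    rw [card_sy, card_sy, h7]
  rw [← h9]
  exact (sy_le _ q).trans inf_le_left

end

theorem quot_step {G : Type u} [Group G] [Finite G]
    (ih : ∀ (H : Type u) [Group H] [Finite H], Nat.card H < Nat.card G →
      ∀ (A B : Subgroup H), Group.IsNilpotent A → Group.IsNilpotent B →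
      (∀ g : H, ∃ a ∈ A, ∃ b ∈ B, g = a * b) → (A ≠ ⊤ ∨ B ≠ ⊤) →
      ∃ N : Subgroup H, N.Normal ∧ N ≠ ⊤ ∧ (A ≤ N ∨ B ≤ N))
    (A B : Subgroup G) (hA : Group.IsNilpotent A) (hB : Group.IsNilpotent B)
    (hfact : ∀ g : G, ∃ a ∈ A, ∃ b ∈ B, g = a * b) (K : Subgroup G) [hKn : K.Normal] (hK : K ≠ ⊥)
    (hAK : ¬ ∀ g : G, ∃ a ∈ A, ∃ k ∈ K, g = a * k) :
    ∃ N : Subgroup G, N.Normal ∧ N ≠ ⊤ ∧ (A ≤ N ∨ B ≤ N) := by
  have hlt : Nat.card (G ⧸ K) < Nat.card G := by
    have h1 := Subgroup.card_eq_card_quotient_mul_card_subgroup K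
    have h2 : 1 < Nat.card K := (Subgroup.one_lt_card_iff_ne_bot K).mpr hK
    have h3 : 0 < Nat.card (G ⧸ K) := Nat.card_pos
    nlinarith
  have hAtop : A.map (QuotientGroup.mk' K) ≠ ⊤ := by
    intro htop
    apply hAK
    intro g
    have hg : QuotientGroup.mk' K g ∈ A.map (QuotientGroup.mk' K) := by
      rw [htop]; exact Subgroup.mem_top _
    obtain ⟨a, ha, he⟩ := Subgroup.mem_map.mp hg
    have h1 : a⁻¹ * g ∈ K := QuotientGroup.eq.mp he
    exact ⟨a, ha, a⁻¹ * g, h1, by group⟩
  obtain ⟨N, hN, hNt, hle⟩ := ih (G ⧸ K) hlt (A.map (QuotientGroup.mk' K))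
    (B.map (QuotientGroup.mk' K))
    (@Group.nilpotent_of_surjective _ _ _ _ hA ((QuotientGroup.mk' K).subgroupMap A)
      ((QuotientGroup.mk' K).subgroupMap_surjective A))
    (@Group.nilpotent_of_surjective _ _ _ _ hB ((QuotientGroup.mk' K).subgroupMap B)
      ((QuotientGroup.mk' K).subgroupMap_surjective B))
    (by
      intro g
      obtain ⟨g, rfl⟩ := QuotientGroup.mk_surjective g
      obtain ⟨a, ha, b, hb, rfl⟩ := hfact g
      exact ⟨QuotientGroup.mk' K a, Subgroup.mem_map_of_mem _ ha, QuotientGroup.mk' K b,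
        Subgroup.mem_map_of_mem _ hb, rfl⟩)
    (Or.inl hAtop)
  refine ⟨N.comap (QuotientGroup.mk' K), Subgroup.Normal.comap hN _, ?_, ?_⟩
  · intro htop
    apply hNt
    rw [eq_top_iff]
    intro x _
    obtain ⟨x, rfl⟩ := QuotientGroup.mk_surjective x
    have : x ∈ N.comap (QuotientGroup.mk' K) := by rw [htop]; exact Subgroup.mem_top _
    exact this
  · rcases hle with h1 | h1
    · left
      intro a ha
      exact h1 (Subgroup.mem_map_of_mem _ ha)
    · right
      intro b hb
      exact h1 (Subgroup.mem_map_of_mem _ hb)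

theorem fact_swap {G : Type u} [Group G] {A B : Subgroup G}
    (h : ∀ g : G, ∃ a ∈ A, ∃ b ∈ B, g = a * b) (g : G) : ∃ b ∈ B, ∃ a ∈ A, g = b * a := by
  obtain ⟨a, ha, b, hb, hg⟩ := h g⁻¹
  refine ⟨b⁻¹, B.inv_mem hb, a⁻¹, A.inv_mem ha, ?_⟩
  rw [← mul_inv_rev, ← hg, inv_inv]

theorem kegel_proper_normal_aux : ∀ (n : ℕ) (G : Type u) [Group G] [Finite G], Nat.card G = n →
    ∀ (A B : Subgroup G), Group.IsNilpotent A → Group.IsNilpotent B →
    (∀ g : G, ∃ a ∈ A, ∃ b ∈ B, g = a * b) → (A ≠ ⊤ ∨ B ≠ ⊤) →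
    ∃ N : Subgroup G, N.Normal ∧ N ≠ ⊤ ∧ (A ≤ N ∨ B ≤ N) := by
  intro n
  induction n using Nat.strong_induction_on with
  | _ n ih =>
    intro G _ _ hn A B hA hB hfact hproper
    have ih' : ∀ (H : Type u) [Group H] [Finite H], Nat.card H < Nat.card G →
        ∀ (A B : Subgroup H), Group.IsNilpotent A → Group.IsNilpotent B →
        (∀ g : H, ∃ a ∈ A, ∃ b ∈ B, g = a * b) → (A ≠ ⊤ ∨ B ≠ ⊤) →
        ∃ N : Subgroup H, N.Normal ∧ N ≠ ⊤ ∧ (A ≤ N ∨ B ≤ N) :=
      fun H _ _ hlt A' B' hA' hB' hf hp => ih (Nat.card H) (hn ▸ hlt) H rfl A' B' hA' hB' hf hp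
    haveI hsolv : Group.IsSolvable G := nilpotent_product_solvable A B hA hB hfact
    have hfact' := fact_swap hfact
    haveI hnt : Nontrivial G := by
      have key : ∀ C : Subgroup G, C ≠ ⊤ → Nontrivial G := by
        intro C hC
        obtain ⟨g, hg⟩ : ∃ g, g ∉ C := by
          by_contra hcon
          push Not at hcon
          exact hC (eq_top_iff.mpr fun x _ => hcon x)
        exact ⟨⟨g, 1, fun h => hg (h ▸ C.one_mem)⟩⟩
      rcases hproper with h | h
      · exact key A h
      · exact key B h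
    by_cases hred : ∃ K : Subgroup G, K.Normal ∧ K ≠ ⊥ ∧
        ((¬ ∀ g : G, ∃ a ∈ A, ∃ k ∈ K, g = a * k) ∨ (¬ ∀ g : G, ∃ b ∈ B, ∃ k ∈ K, g = b * k))
    · obtain ⟨K, hKn, hK, h1 | h1⟩ := hred
      · haveI := hKn
        exact quot_step ih' A B hA hB hfact K hK h1
      · haveI := hKn
        obtain ⟨N, hN, hNt, hle⟩ := quot_step ih' B A hB hA hfact' K hK h1
        exact ⟨N, hN, hNt, hle.symm⟩
    · push Not at hred
      obtain ⟨p, hp, hM⟩ := exists_pCore_ne_bot_of_solvable G
      haveI := Fact.mk hp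
      have hMp : IsPGroup p (pCore p G) := Cfsg.Agent.Lib.Helper7.pCore_isPGroup p G
      obtain ⟨hAM, hBM⟩ := hred (pCore p G) inferInstance hM
      have hMA := fact_swap hAM
      have hMB := fact_swap hBM
      -- Sylow subgroups for q ≠ p coincide and are trivial
      have hq : ∀ (q : ℕ) [Fact q.Prime], q ≠ p → sy A q = ⊥ ∧ sy B q = ⊥ := by
        intro q _ hqp
        have h1 : sy B q ≤ sy A q :=
          le_sy_of_isPGroup hA (sy_le_of_index_pow hB hfact' hMp hMA hqp) (sy_isPGroup B q)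
        have h2 : sy A q ≤ sy B q :=
          le_sy_of_isPGroup hB (sy_le_of_index_pow hA hfact hMp hMB hqp) (sy_isPGroup A q)
        have heq : sy A q = sy B q := le_antisymm h2 h1
        have hn : (sy A q).Normal := by
          rw [← Subgroup.normalizer_eq_top_iff, eq_top_iff]
          intro g _
          obtain ⟨a, ha, b, hb, rfl⟩ := hfact g
          refine Subgroup.mul_mem _ (le_normalizer_sy hA q ha) ?_
          rw [heq]
          exact le_normalizer_sy hB q hb
        by_contra hne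
        have hne' : sy A q ≠ ⊥ := by
          intro h0
          apply hne
          exact ⟨h0, heq ▸ h0⟩
        obtain ⟨h3, h4⟩ := hred (sy A q) hn hne'
        have hAtop : A = ⊤ := by
          rw [eq_top_iff]
          intro g _
          obtain ⟨a, ha, k, hk, rfl⟩ := h3 g
          exact A.mul_mem ha (sy_le A q hk)
        have hBtop : B = ⊤ := by
          rw [eq_top_iff]
          intro g _
          obtain ⟨b, hb, k, hk, rfl⟩ := h4 g
          exact B.mul_mem hb (sy_le B q (heq ▸ hk))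
        rcases hproper with h | h
        · exact h hAtop
        · exact h hBtop
      have hAp : IsPGroup p A := by
        have h1 : sy A p = A := by
          apply eq_of_forall_sy_le (sy_le A p)
          intro q _
          by_cases hqp : q = p
          · subst hqp; exact le_rfl
          · rw [(hq q hqp).1]; exact bot_le
        have h2 := sy_isPGroup A p
        rw [h1] at h2
        exact h2
      have hBp : IsPGroup p B := by
        have h1 : sy B p = B := by
          apply eq_of_forall_sy_le (sy_le B p)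
          intro q _
          by_cases hqp : q = p
          · subst hqp; exact le_rfl
          · rw [(hq q hqp).2]; exact bot_le
        have h2 := sy_isPGroup B p
        rw [h1] at h2
        exact h2
      have hGp : IsPGroup p G := by
        obtain ⟨a, ha⟩ := IsPGroup.iff_card.mp hAp
        obtain ⟨b, hb⟩ := IsPGroup.iff_card.mp hBp
        have h1 := card_mul_card_inf_eq_of_mul_eq A B hfact
        have h2 : Nat.card G ∣ p ^ (a + b) := by
          rw [pow_add, ← ha, ← hb, ← h1]
          exact dvd_mul_right _ _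
        obtain ⟨c, -, hc⟩ := (Nat.dvd_prime_pow hp).mp h2
        exact IsPGroup.of_card hc
      haveI hnil : Group.IsNilpotent G := hGp.isNilpotent
      have hnc : NormalizerCondition G := normalizerCondition_of_isNilpotent
      rcases hproper with h | h
      · obtain ⟨N, hN, hAN⟩ := (eq_top_or_exists_le_coatom A).resolve_left h
        exact ⟨N, Subgroup.NormalizerCondition.normal_of_coatom N hnc hN, hN.1, Or.inl hAN⟩
      · obtain ⟨N, hN, hBN⟩ := (eq_top_or_exists_le_coatom B).resolve_left h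
        exact ⟨N, Subgroup.NormalizerCondition.normal_of_coatom N hnc hN, hN.1, Or.inr hBN⟩

/-- S0565 -/
theorem kegel_proper_normal {G : Type u} [Group G] [Finite G] (A B : Subgroup G)
    (hA : Group.IsNilpotent A) (hB : Group.IsNilpotent B)
    (hfact : ∀ g : G, ∃ a ∈ A, ∃ b ∈ B, g = a * b) (hproper : A ≠ ⊤ ∨ B ≠ ⊤) :
    ∃ N : Subgroup G, N.Normal ∧ N ≠ ⊤ ∧ (A ≤ N ∨ B ≤ N) :=
  kegel_proper_normal_aux _ G rfl A B hA hB hfact hproper

end Cfsg.Agent.Lib.Helper3.KW
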