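import Mathlib
import Cfsg.Agent.Lib.Helper3.CharQuot
import Cfsg.Agent.Lib.Helper6.BlkVanish
import Cfsg.Agent.Lib.Helper6.BlkIdem
import Cfsg.Agent.Lib.Helper6.BlkDefect
import Cfsg.Agent.Lib.Helper6.FongHt1
import Cfsg.Agent.Lib.Helper6.Linear
import Cfsg.Agent.Lib.Helper8.GlauP10
import Cfsg.Agent.Lib.Helper8.McK1
import Cfsg.Agent.Lib.Helper7.GC2
import Cfsg.Agent.Lib.Helper1.Tate2
import Cfsg.Agent.Lib.Helper1.FrattiniP
import Cfsg.Agent.Lib.Helper1.NormalPComplement
import Cfsg.Agent.Lib.Helper2.SylowNormal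

/-! The intersection of the kernels of the irreducible characters of `p'`-degree (S4591). -/

set_option autoImplicit false

namespace Cfsg.Agent.Lib.Helper3.KerPPrime

open Cfsg Cfsg.Agent.Lib.Helper6
open scoped ComplexConjugate

/-- if the trivial character of a normal subgroup is a constituent of the restriction of an
irreducible character, the normal subgroup lies in the kernel -/
theorem apply_eq_of_trivial_constituent {H : Type*} [Group H] [Fintype H] (A : Subgroup H)
    [Fintype A] (hA : A.Normal) {β : H → ℂ} (hβ : IsIrrCharacter H β)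
    (h : classInner (fun a : A => β a) (fun _ => (1 : ℂ)) ≠ 0) (a : H) (ha : a ∈ A) :
    β a = β 1 := by
  classical
  haveI : Fintype (IrrCharacter ↥A) := Fintype.ofFinite _
  obtain ⟨θ₀, hθ₀⟩ : ∃ θ₀ : IrrCharacter ↥A, (θ₀ : A → ℂ) = fun _ => (1 : ℂ) :=
    ⟨⟨fun _ => 1, isIrrCharacter_one⟩, rfl⟩
  have hcf : IsClassFunction ↥A (fun a : A => β a) := by
    intro g k
    have := IsIrrCharacter.isClassFunction hβ (g : H) (k : H)
    simpa using this
  have hexp := classFunction_eq_sum (fun a : A => β a) hcf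
  have hzero : ∀ θ : IrrCharacter ↥A, θ ≠ θ₀ →
      classInner (fun a : A => β a) (θ : A → ℂ) = 0 := by
    intro θ hne
    by_contra hc
    have h' : classInner (fun a : A => β a) (θ₀ : A → ℂ) ≠ 0 := by rw [hθ₀]; exact h
    obtain ⟨g, hg⟩ := exists_conjFun_eq_of_constituents A hA hβ θ₀.2 θ.2 h' hc
    apply hne
    apply Subtype.ext
    rw [hg]
    funext n
    rw [conjFun_apply, hθ₀]
  have hval : ∀ x : A, β x = classInner (fun a : A => β a) (fun _ => (1 : ℂ)) := by
    intro x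
    have h1 := congrFun hexp x
    rw [Finset.sum_apply, Finset.sum_eq_single θ₀] at h1
    · rw [h1, hθ₀]; simp
    · intro θ _ hne
      rw [hzero θ hne]; simp
    · intro hn; exact absurd (Finset.mem_univ _) hn
  have h1 := hval ⟨a, ha⟩
  have h2 := hval 1
  rw [Subgroup.coe_one] at h2
  simp only at h1
  rw [h1, h2]

/-- a normal subgroup on which a Sylow `p`-subgroup acts without fixed points lies in the kernel
of every irreducible character of `p'`-degree -/
theorem apply_eq_of_fpf {G : Type*} [Group G] [Fintype G] (p : ℕ) [hp : Fact p.Prime]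
    (P : Sylow p G) (N : Subgroup G) [Fintype N] [hN : N.Normal]
    (hfpf : N ⊓ Subgroup.centralizer ((P : Subgroup G) : Set G) = ⊥)
    {χ : G → ℂ} (hχ : IsIrrCharacter G χ) (hdeg : ¬ p ∣ charDegree χ) (n : G) (hn : n ∈ N) :
    χ n = χ 1 := by
  classical
  obtain ⟨M, hM⟩ := exists_isPModular p
  have hnorm : ∀ s ∈ (P : Subgroup G), ∀ g ∈ N, s * g * s⁻¹ ∈ N :=
    fun s _ g hg => hN.conj_mem g hg s
  letI act : MulAction ↥(P : Subgroup G) ↥N :=
    MulAction.compHom ↥N (Cfsg.Agent.Lib.Helper8.GlauP.conjHom N (P : Subgroup G) hnorm)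
  have hsmul : ∀ (s : ↥(P : Subgroup G)) (x : ↥N),
      ((s • x : ↥N) : G) = (s : G) * (x : G) * (s : G)⁻¹ := by
    intro s x
    exact Cfsg.Agent.Lib.Helper8.GlauP.conjHom_apply N (P : Subgroup G) hnorm s x
  have hχc := IsIrrCharacter.isCharacter hχ
  have hcl := IsIrrCharacter.isClassFunction hχ
  have hkey := Cfsg.Agent.Lib.Helper8.GlauP.memLocalIdeal_sum_sub hM
    (S := ↥(P : Subgroup G)) (X := ↥N) P.2 (fun x : N => χ x)
    (fun s x => by
      show χ ((s • x : ↥N) : G) = χ x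
      rw [hsmul]; exact hcl x s)
    (fun x => memLocalRing_of_isIntegral hM (IsCharacter.isIntegral_apply hχc x))
  have hfixsum : ∀ [DecidablePred fun x : ↥N => x ∈ MulAction.fixedPoints ↥(P : Subgroup G) ↥N],
      (∑ x ∈ Finset.univ.filter
        (fun x : ↥N => x ∈ MulAction.fixedPoints ↥(P : Subgroup G) ↥N), χ x) = χ 1 := by
    intro inst
    have hfix : Finset.univ.filter
        (fun x : ↥N => x ∈ MulAction.fixedPoints ↥(P : Subgroup G) ↥N) = {1} := by
      ext x
      simp only [Finset.mem_filter, Finset.mem_univ, true_and, Finset.mem_singleton,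
        MulAction.mem_fixedPoints]
      constructor
      · intro hx
        have hxc : (x : G) ∈ N ⊓ Subgroup.centralizer ((P : Subgroup G) : Set G) := by
          refine Subgroup.mem_inf.mpr ⟨x.2, ?_⟩
          rw [Subgroup.mem_centralizer_iff]
          intro s hs
          have h1 := congrArg Subtype.val (hx ⟨s, hs⟩)
          rw [hsmul] at h1
          have h2 : s * (x : G) * s⁻¹ = (x : G) := h1
          calc s * (x : G) = s * (x : G) * s⁻¹ * s := by group
            _ = (x : G) * s := by rw [h2]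
        rw [hfpf, Subgroup.mem_bot] at hxc
        exact Subtype.ext hxc
      · rintro rfl s
        apply Subtype.ext
        rw [hsmul]; simp
    rw [hfix, Finset.sum_singleton, Subgroup.coe_one]
  rw [hfixsum] at hkey
  have hsum : (∑ x : ↥N, χ x) ≠ 0 := by
    intro h0
    rw [h0, zero_sub] at hkey
    have h2 := MemLocalIdeal.neg hkey
    rw [neg_neg, IsCharacter.apply_one_eq_charDegree hχc] at h2
    exact hdeg ((memLocalIdeal_natCast_iff hM _).mp h2)
  have hinner : classInner (fun a : N => χ a) (fun _ => (1 : ℂ)) ≠ 0 := by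
    unfold classInner
    simp only [map_one, mul_one]
    exact mul_ne_zero (inv_ne_zero (by exact_mod_cast Nat.card_pos.ne')) hsum
  exact apply_eq_of_trivial_constituent N hN hχ hinner n hn

/-- a normal subgroup contained in the derived subgroup of a `p`-subgroup lies in the kernel of
every irreducible character of `p'`-degree -/
theorem apply_eq_of_le_commutator {H : Type*} [Group H] [Fintype H] (p : ℕ) [hp : Fact p.Prime]
    (Q : Subgroup H) (hQ : IsPGroup p Q) (A : Subgroup H) (hA : A.Normal) (hAQ : A ≤ ⁅Q, Q⁆)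
    {β : H → ℂ} (hβ : IsIrrCharacter H β) (hdeg : ¬ p ∣ charDegree β) (a : H) (ha : a ∈ A) :
    β a = β 1 := by
  classical
  haveI : Fintype ↥Q := Fintype.ofFinite _
  haveI : Fintype ↥A := Fintype.ofFinite _
  haveI : Fintype (IrrCharacter ↥Q) := Fintype.ofFinite _
  have hβc := IsIrrCharacter.isCharacter hβ
  have hres : IsCharacter ↥Q (fun q : Q => β q) := IsCharacter.restrict Q hβc
  obtain ⟨m, hm, hmi⟩ := IsCharacter.exists_mult hres
  have hex : ∃ lam : IrrCharacter ↥Q, m lam ≠ 0 ∧ (lam : Q → ℂ) 1 = 1 := by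
    by_contra hno
    push Not at hno
    apply hdeg
    have h1 := apply_eq_sum_mult hm 1
    have h2 : ∀ θ : IrrCharacter ↥Q, ((m θ : ℕ) : ℂ) * (θ : Q → ℂ) 1
        = ((m θ * charDegree (θ : Q → ℂ) : ℕ) : ℂ) := by
      intro θ
      rw [IsCharacter.apply_one_eq_charDegree (IsIrrCharacter.isCharacter θ.2)]
      push_cast
      rfl
    rw [Finset.sum_congr rfl (fun θ _ => h2 θ), ← Nat.cast_sum] at h1
    have h0 : β ((1 : ↥Q) : H) = (charDegree β : ℂ) := by
      rw [Subgroup.coe_one]; exact IsCharacter.apply_one_eq_charDegree hβc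
    rw [h0] at h1
    have h3 : charDegree β = ∑ θ : IrrCharacter ↥Q, m θ * charDegree (θ : Q → ℂ) := by
      exact_mod_cast h1
    rw [h3]
    apply Finset.dvd_sum
    intro θ _
    by_cases h0 : m θ = 0
    · rw [h0, zero_mul]; exact dvd_zero p
    · apply Dvd.dvd.mul_left
      have hd1 : charDegree (θ : Q → ℂ) ≠ 1 := by
        intro h1'
        apply hno θ h0
        rw [IsCharacter.apply_one_eq_charDegree (IsIrrCharacter.isCharacter θ.2), h1']; simp
      obtain ⟨k, hk⟩ := IsPGroup.iff_card.mp hQ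
      have hdv := IsIrrCharacter.charDegree_dvd_card θ.2
      rw [hk] at hdv
      obtain ⟨j, -, hj⟩ := (Nat.dvd_prime_pow hp.out).mp hdv
      rw [hj] at hd1 ⊢
      cases j with
      | zero => exact absurd (pow_zero p) hd1
      | succ j => exact dvd_pow_self p (Nat.succ_ne_zero j)
  obtain ⟨lam, hlam0, hlam1⟩ := hex
  have hlamc := IsIrrCharacter.isCharacter lam.2
  have hQQ : ⁅Q, Q⁆ ≤ Q := Subgroup.commutator_le.mpr (fun g₁ h₁ g₂ h₂ => by
    rw [commutatorElement_def]
    exact Q.mul_mem (Q.mul_mem (Q.mul_mem h₁ h₂) (Q.inv_mem h₁)) (Q.inv_mem h₂))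
  have hAQ' : A ≤ Q := hAQ.trans hQQ
  have htriv : ∀ x : A, (lam : Q → ℂ) ⟨x, hAQ' x.2⟩ = 1 := by
    intro x
    have hx : (x : H) ∈ ⁅Q, Q⁆ := hAQ x.2
    rw [← Subgroup.map_subtype_commutator] at hx
    obtain ⟨y, hy, hyx⟩ := hx
    have hy' : y = ⟨x, hAQ' x.2⟩ := Subtype.ext hyx
    rw [← hy']
    have hker := Abelianization.commutator_subset_ker (linearCharHom hlamc hlam1) hy
    rw [MonoidHom.mem_ker] at hker
    have h5 := congrArg (fun u : ℂˣ => (u : ℂ)) hker
    simpa [linearCharHom_apply] using h5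
  have h1 : classInner (fun s : Q => β s) (lam : Q → ℂ) ≠ 0 := by
    rw [hmi lam]; exact_mod_cast hlam0
  have h2 : classInner (fun l : A => (lam : Q → ℂ) ⟨l, hAQ' l.2⟩)
      ((⟨fun _ => 1, isIrrCharacter_one⟩ : IrrCharacter ↥A) : A → ℂ) ≠ 0 := by
    have h6 : (fun l : A => (lam : Q → ℂ) ⟨l, hAQ' l.2⟩) = fun _ => (1 : ℂ) := funext htriv
    rw [h6]
    have h7 := classInner_irrCharacter (⟨fun _ => 1, isIrrCharacter_one⟩ : IrrCharacter ↥A)
      ⟨fun _ => 1, isIrrCharacter_one⟩
    rw [if_pos rfl] at h7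
    rw [h7]; exact one_ne_zero
  have h3 := constituent_trans A Q hAQ' hβc lam ⟨fun _ => 1, isIrrCharacter_one⟩ h1 h2
  exact apply_eq_of_trivial_constituent A hA hβ h3 a ha

/-- the normal core of `N P'` lies in the kernel of every irreducible character of `p'`-degree -/
theorem core_le {G : Type*} [Group G] [Finite G] (p : ℕ) [Fact p.Prime] (P : Sylow p G)
    (N : Subgroup G) [hN : N.Normal]
    (hfpf : N ⊓ Subgroup.centralizer ((P : Subgroup G) : Set G) = ⊥)
    (χ : IrrCharacter G) (hdeg : ¬ p ∣ charDegree (χ : G → ℂ)) (x : G)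
    (hx : x ∈ (N ⊔ ⁅(P : Subgroup G), (P : Subgroup G)⁆).normalCore) :
    (χ : G → ℂ) x = (χ : G → ℂ) 1 := by
  classical
  haveI : Fintype G := Fintype.ofFinite G
  haveI : Fintype ↥N := Fintype.ofFinite _
  haveI : Fintype (G ⧸ N) := Fintype.ofFinite _
  have hker : ∀ n ∈ N, (χ : G → ℂ) n = (χ : G → ℂ) 1 :=
    fun n hn => apply_eq_of_fpf p P N hfpf χ.2 hdeg n hn
  obtain ⟨β, hβ, hχβ⟩ := CharQuot.exists_irr_quot N χ.2 hker
  have hβ1 : β 1 = (χ : G → ℂ) 1 := by rw [hχβ]; rfl
  have hdegβ : ¬ p ∣ charDegree β := by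
    have h1 : charDegree β = charDegree (χ : G → ℂ) := by unfold charDegree; rw [hβ1]
    rwa [h1]
  obtain ⟨L, hL⟩ : ∃ L : Subgroup G,
      L = (N ⊔ ⁅(P : Subgroup G), (P : Subgroup G)⁆).normalCore := ⟨_, rfl⟩
  have hLn : L.Normal := by rw [hL]; exact Subgroup.normalCore_normal _
  have hA : (L.map (QuotientGroup.mk' N)).Normal := hLn.map _ (QuotientGroup.mk'_surjective N)
  have hQ : IsPGroup p ((P : Subgroup G).map (QuotientGroup.mk' N)) := P.2.map _
  have hAQ : L.map (QuotientGroup.mk' N) ≤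
      ⁅(P : Subgroup G).map (QuotientGroup.mk' N), (P : Subgroup G).map (QuotientGroup.mk' N)⁆ := by
    rw [← Subgroup.map_commutator]
    have h1 : L.map (QuotientGroup.mk' N) ≤
        (N ⊔ ⁅(P : Subgroup G), (P : Subgroup G)⁆).map (QuotientGroup.mk' N) := by
      rw [hL]; exact Subgroup.map_mono (Subgroup.normalCore_le _)
    rw [Subgroup.map_sup, QuotientGroup.map_mk'_self, bot_sup_eq] at h1
    exact h1
  have h2 := apply_eq_of_le_commutator p _ hQ _ hA hAQ hβ hdegβ (QuotientGroup.mk x)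
    ⟨x, by rw [hL]; exact hx, rfl⟩
  rw [hχβ]
  exact h2

/-- an element of a Sylow `p`-subgroup lying in the kernel of all irreducible characters of
`p'`-degree lies in the derived subgroup of the Sylow subgroup -/
theorem mem_commutator_of_kernel {G : Type*} [Group G] [Finite G] (p : ℕ) [hp : Fact p.Prime]
    (P : Sylow p G) (y : G) (hyP : y ∈ (P : Subgroup G))
    (hy : ∀ χ : IrrCharacter G, ¬ p ∣ charDegree (χ : G → ℂ) →
      (χ : G → ℂ) y = (χ : G → ℂ) 1) :
    y ∈ ⁅(P : Subgroup G), (P : Subgroup G)⁆ := by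
  classical
  haveI : Fintype G := Fintype.ofFinite G
  haveI : Fintype ↥(P : Subgroup G) := Fintype.ofFinite _
  haveI : Fintype (IrrCharacter G) := Fintype.ofFinite _
  by_contra hn
  have hn' : (⟨y, hyP⟩ : ↥(P : Subgroup G)) ∉ commutator ↥(P : Subgroup G) := by
    intro h
    apply hn
    rw [← Subgroup.map_subtype_commutator]
    exact ⟨_, h, rfl⟩
  obtain ⟨lam, hlam⟩ := Cfsg.Agent.Lib.Helper7.GC.exists_linear_ne_one hn'
  have hlamirr : IsIrrCharacter ↥(P : Subgroup G) (fun g => (lam g : ℂ)) :=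
    isIrrCharacter_of_hom lam
  have hA : IsCharacter G (indFun (P : Subgroup G) (fun g => (lam g : ℂ))) :=
    IsCharacter.indFun _ (IsIrrCharacter.isCharacter hlamirr)
  obtain ⟨m, hm, hmi⟩ := IsCharacter.exists_mult hA
  have hA1 : indFun (P : Subgroup G) (fun g => (lam g : ℂ)) 1
      = (((P : Subgroup G).index : ℕ) : ℂ) := by
    rw [indFun_one]; simp
  have hex : ∃ χ : IrrCharacter G, m χ ≠ 0 ∧ ¬ p ∣ charDegree (χ : G → ℂ) := by
    by_contra hno
    push Not at hno
    apply P.not_dvd_index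
    have h1 := apply_eq_sum_mult hm 1
    rw [hA1] at h1
    have h2 : ∀ χ : IrrCharacter G, ((m χ : ℕ) : ℂ) * (χ : G → ℂ) 1
        = ((m χ * charDegree (χ : G → ℂ) : ℕ) : ℂ) := by
      intro χ
      rw [IsCharacter.apply_one_eq_charDegree (IsIrrCharacter.isCharacter χ.2)]
      push_cast
      rfl
    rw [Finset.sum_congr rfl (fun χ _ => h2 χ), ← Nat.cast_sum] at h1
    have h3 : (P : Subgroup G).index = ∑ χ : IrrCharacter G, m χ * charDegree (χ : G → ℂ) := by
      exact_mod_cast h1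
    rw [h3]
    apply Finset.dvd_sum
    intro χ _
    by_cases h0 : m χ = 0
    · rw [h0, zero_mul]; exact dvd_zero p
    · exact Dvd.dvd.mul_left (hno χ h0) _
  obtain ⟨χ, hmχ, hdχ⟩ := hex
  have hin : classInner (fun g : ↥(P : Subgroup G) => (lam g : ℂ))
      (fun h : ↥(P : Subgroup G) => (χ : G → ℂ) h) ≠ 0 := by
    rw [← Cfsg.Agent.Lib.Helper8.McK.classInner_indFun_irr, hmi χ]; exact_mod_cast hmχ
  obtain ⟨K, hKn, β, hK, hβ, hχβ, -, -⟩ := CharQuot.exists_kernel_deflation χ.2
  have hyK : y ∈ K := (hK y).mpr (hy χ hdχ)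
  have hshift : ∀ x : G, (χ : G → ℂ) (x * y) = (χ : G → ℂ) x := by
    intro x
    rw [hχβ]
    show β (QuotientGroup.mk (x * y)) = β (QuotientGroup.mk x)
    congr 1
    rw [QuotientGroup.mk_mul, (QuotientGroup.eq_one_iff y).mpr hyK, mul_one]
  obtain ⟨S, hS⟩ : ∃ S : ℂ, S = ∑ g : ↥(P : Subgroup G), (lam g : ℂ) * conj ((χ : G → ℂ) g) :=
    ⟨_, rfl⟩
  have hS0 : S ≠ 0 := by
    intro h0
    apply hin
    unfold classInner
    rw [← hS, h0, mul_zero]
  have hS2 : S = (lam ⟨y, hyP⟩ : ℂ) * S := by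
    have h10 : ∑ g : ↥(P : Subgroup G), (lam g : ℂ) * conj ((χ : G → ℂ) g) =
        (lam ⟨y, hyP⟩ : ℂ) * ∑ g : ↥(P : Subgroup G), (lam g : ℂ) * conj ((χ : G → ℂ) g) := by
      conv_lhs => rw [← Equiv.sum_comp (Equiv.mulRight (⟨y, hyP⟩ : ↥(P : Subgroup G)))]
      rw [Finset.mul_sum]
      apply Finset.sum_congr rfl
      intro g _
      simp only [Equiv.coe_mulRight, map_mul, Units.val_mul, Subgroup.coe_mul]
      rw [hshift]; ring
    rw [← hS] at h10
    exact h10
  have h8 : (lam ⟨y, hyP⟩ : ℂ) = 1 := by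
    have h9 : (lam ⟨y, hyP⟩ : ℂ) * S = 1 * S := by rw [one_mul, ← hS2]
    exact mul_right_cancel₀ hS0 h9
  exact hlam (Units.ext h8)

/-- an element of order prime to `p` centralizing a Sylow `p`-subgroup and lying in the kernel of
all irreducible characters of `p'`-degree is trivial -/
theorem eq_one_of_centralizer {G : Type*} [Group G] [Finite G] (p : ℕ) [hp : Fact p.Prime]
    (P : Sylow p G) (c : G) (hcC : c ∈ Subgroup.centralizer ((P : Subgroup G) : Set G))
    (hcop : (orderOf c).Coprime p)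
    (hc : ∀ χ : IrrCharacter G, ¬ p ∣ charDegree (χ : G → ℂ) →
      (χ : G → ℂ) c = (χ : G → ℂ) 1) : c = 1 := by
  classical
  haveI : Fintype G := Fintype.ofFinite G
  haveI : Fintype ↥(P : Subgroup G) := Fintype.ofFinite _
  haveI : Fintype (IrrCharacter G) := Fintype.ofFinite _
  obtain ⟨M, hM⟩ := exists_isPModular p
  by_contra hne
  have hA : IsCharacter G (indFun (P : Subgroup G) (fun _ => (1 : ℂ))) :=
    IsCharacter.indFun _ isCharacter_one
  obtain ⟨m, hm, -⟩ := IsCharacter.exists_mult hA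
  have hA1 : indFun (P : Subgroup G) (fun _ => (1 : ℂ)) 1
      = (((P : Subgroup G).index : ℕ) : ℂ) := by
    rw [indFun_one]; simp
  have hAc : indFun (P : Subgroup G) (fun _ => (1 : ℂ)) c = 0 := by
    unfold indFun
    have h0 : ∀ x : G, extendByZero (P : Subgroup G) (fun _ => (1 : ℂ)) (x⁻¹ * c * x) = 0 := by
      intro x
      unfold extendByZero
      rw [Function.extend_apply']
      · rfl
      · rintro ⟨a, ha⟩
        apply hne
        have hord : orderOf (x⁻¹ * c * x) = orderOf c := by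
          have h1 := MulEquiv.orderOf_eq (MulAut.conj x⁻¹) c
          simpa [MulAut.conj_apply] using h1
        obtain ⟨k, hk⟩ := P.2 a
        have h1 : (x⁻¹ * c * x) ^ p ^ k = 1 := by
          rw [← ha]
          have h2 := congrArg Subtype.val hk
          simpa using h2
        have h2 : orderOf c ∣ p ^ k := by rw [← hord]; exact orderOf_dvd_of_pow_eq_one h1
        have h3 : orderOf c = 1 := Nat.Coprime.eq_one_of_dvd (hcop.pow_right k) h2
        exact orderOf_eq_one_iff.mp h3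
    simp [h0]
  have hidx : ¬ p ∣ (Subgroup.centralizer ({c} : Set G)).index := by
    intro h
    apply P.not_dvd_index
    refine h.trans (Subgroup.index_dvd_of_le ?_)
    intro s hs
    rw [Subgroup.mem_centralizer_iff]
    intro h' hh
    rw [Set.mem_singleton_iff] at hh
    rw [hh]
    exact ((Subgroup.mem_centralizer_iff.mp hcC) s hs).symm
  have hterm : ∀ χ : IrrCharacter G,
      MemLocalIdeal M ((m χ : ℂ) * ((χ : G → ℂ) 1 - (χ : G → ℂ) c)) := by
    intro χ
    by_cases hd : p ∣ charDegree (χ : G → ℂ)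
    · apply MemLocalIdeal.mul_left hM (memLocalRing_natCast hM _)
      have h1 : MemLocalIdeal M ((χ : G → ℂ) 1) := by
        rw [IsCharacter.apply_one_eq_charDegree (IsIrrCharacter.isCharacter χ.2)]
        exact (memLocalIdeal_natCast_iff hM _).mpr hd
      apply MemLocalIdeal.sub hM h1
      have hidx0 : ((Subgroup.centralizer ({c} : Set G)).index : ℂ) ≠ 0 := by
        have : (Subgroup.centralizer ({c} : Set G)).index ≠ 0 := Subgroup.index_ne_zero_of_finite
        exact_mod_cast this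
      have h2 : (χ : G → ℂ) c = centralChar (χ : G → ℂ) c * (χ : G → ℂ) 1 *
          ((Subgroup.centralizer ({c} : Set G)).index : ℂ)⁻¹ := by
        unfold centralChar
        have := IsIrrCharacter.apply_one_ne_zero χ.2
        field_simp
      rw [h2]
      apply MemLocalIdeal.mul_right hM _ (memLocalRing_inv_natCast hM hidx)
      exact MemLocalIdeal.mul_left hM
        (memLocalRing_of_isIntegral hM (IsIrrCharacter.isIntegral_centralChar' χ.2 c)) h1
    · rw [hc χ hd, sub_self, mul_zero]; exact memLocalIdeal_zero hM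
  have h1 := apply_eq_sum_mult hm 1
  have h2 := apply_eq_sum_mult hm c
  rw [hA1] at h1
  rw [hAc] at h2
  have h3 : (((P : Subgroup G).index : ℕ) : ℂ)
      = ∑ χ : IrrCharacter G, (m χ : ℂ) * ((χ : G → ℂ) 1 - (χ : G → ℂ) c) := by
    simp only [mul_sub, Finset.sum_sub_distrib]
    rw [← h1, ← h2, sub_zero]
  have h4 : MemLocalIdeal M (((P : Subgroup G).index : ℕ) : ℂ) := by
    rw [h3]; exact MemLocalIdeal.sum hM _ _ (fun χ _ => hterm χ)
  exact P.not_dvd_index ((memLocalIdeal_natCast_iff hM _).mp h4)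

/-- the kernel subgroup -/
theorem exists_kernel {G : Type*} [Group G] [Finite G] (p : ℕ) :
    ∃ K : Subgroup G, K.Normal ∧ ∀ x, x ∈ K ↔ ∀ χ : IrrCharacter G,
      ¬ p ∣ charDegree (χ : G → ℂ) → (χ : G → ℂ) x = (χ : G → ℂ) 1 := by
  classical
  choose Kf hKfn hKf using fun χ : IrrCharacter G =>
    CharQuot.exists_kernel (IsIrrCharacter.isCharacter χ.2)
  refine ⟨⨅ χ : {χ : IrrCharacter G // ¬ p ∣ charDegree (χ : G → ℂ)}, Kf χ.1,
    Subgroup.normal_iInf_normal (fun χ => hKfn χ.1), ?_⟩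
  intro x
  rw [Subgroup.mem_iInf]
  constructor
  · intro h χ hχ; exact (hKf χ x).mp (h ⟨χ, hχ⟩)
  · intro h χ; exact (hKf χ.1 x).mpr (h χ.1 χ.2)

/-- the kernel lies in `N P'` -/
theorem kernel_le {G : Type*} [Group G] [Finite G] (p : ℕ) [hp : Fact p.Prime] (P : Sylow p G)
    (N : Subgroup G)
    (hmax : ∀ L : Subgroup G, L.Normal →
      L ⊓ Subgroup.centralizer ((P : Subgroup G) : Set G) = ⊥ → L ≤ N)
    (K : Subgroup G) [hKn : K.Normal]
    (hK : ∀ x ∈ K, ∀ χ : IrrCharacter G, ¬ p ∣ charDegree (χ : G → ℂ) →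
      (χ : G → ℂ) x = (χ : G → ℂ) 1) :
    K ≤ N ⊔ ⁅(P : Subgroup G), (P : Subgroup G)⁆ := by
  classical
  have hC : K ⊓ (P : Subgroup G) ≤ ⁅(P : Subgroup G), (P : Subgroup G)⁆ := by
    intro y hy
    obtain ⟨hyK, hyP⟩ := Subgroup.mem_inf.mp hy
    exact mem_commutator_of_kernel p P y hyP (hK y hyK)
  have hR : K ⊓ (P : Subgroup G) ≤
      (frattini ↥(P : Subgroup G)).map (P : Subgroup G).subtype := by
    intro g hg
    have h1 := hC hg
    rw [← Subgroup.map_subtype_commutator] at h1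
    exact Subgroup.map_mono
      (Cfsg.Agent.Lib.Helper1.commutator_le_frattini_of_isPGroup p P.isPGroup') h1
  have htate : HasNormalPComplement p ↥K := Cfsg.Agent.Lib.Helper1.Tate.tate P K hR
  obtain ⟨Q, hQ⟩ := Cfsg.Agent.Lib.Helper2.exists_sylow_eq_inf_normal P K
  obtain ⟨M₁, hM₁n, hM₁c⟩ := (Cfsg.Agent.Lib.Helper1.hasNormalPComplement_iff Q).mp htate
  have hM₁n' : M₁.Normal := hM₁n
  have hmem : ∀ x : ↥K, x ∈ M₁ ↔ (orderOf x).Coprime p :=
    Cfsg.Agent.Lib.Helper1.mem_normal_complement_iff Q M₁ hM₁c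
  obtain ⟨M, hMdef⟩ : ∃ M : Subgroup G, M = M₁.map K.subtype := ⟨_, rfl⟩
  have hMmem : ∀ x : G, x ∈ M ↔ x ∈ K ∧ (orderOf x).Coprime p := by
    intro x
    rw [hMdef]
    constructor
    · rintro ⟨y, hy, rfl⟩
      refine ⟨y.2, ?_⟩
      have h1 := (hmem y).mp hy
      rw [← Subgroup.orderOf_coe] at h1
      exact h1
    · rintro ⟨hxK, hx⟩
      refine ⟨⟨x, hxK⟩, (hmem _).mpr ?_, rfl⟩
      rw [← Subgroup.orderOf_coe]; exact hx
  have hMn : M.Normal := by
    constructor
    intro x hx g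
    rw [hMmem] at hx ⊢
    refine ⟨hKn.conj_mem x hx.1 g, ?_⟩
    have h1 : orderOf (g * x * g⁻¹) = orderOf x := by
      have h2 := MulEquiv.orderOf_eq (MulAut.conj g) x
      simpa [MulAut.conj_apply] using h2
    rw [h1]; exact hx.2
  have hMC : M ⊓ Subgroup.centralizer ((P : Subgroup G) : Set G) = ⊥ := by
    rw [eq_bot_iff]
    intro c hc
    obtain ⟨hcM, hcC⟩ := Subgroup.mem_inf.mp hc
    obtain ⟨hcK, hcop⟩ := (hMmem c).mp hcM
    rw [Subgroup.mem_bot]
    exact eq_one_of_centralizer p P c hcC hcop (hK c hcK)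
  have hMN : M ≤ N := hmax M hMn hMC
  have hKsup : K ≤ M ⊔ (K ⊓ (P : Subgroup G)) := by
    have h1 : M₁ ⊔ (Q : Subgroup ↥K) = ⊤ := hM₁c.sup_eq_top
    have h2 := congrArg (Subgroup.map K.subtype) h1
    rw [Subgroup.map_sup, hQ, Subgroup.subgroupOf_map_subtype, ← hMdef,
      ← MonoidHom.range_eq_map, Subgroup.range_subtype] at h2
    intro k hk
    rw [← h2] at hk
    refine (sup_le_sup_left ?_ M) hk
    intro z hz
    exact Subgroup.mem_inf.mpr ⟨(Subgroup.mem_inf.mp hz).2,
      (Subgroup.mem_inf.mp (Subgroup.mem_inf.mp hz).1).1⟩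
  exact hKsup.trans (sup_le (hMN.trans le_sup_left) (hC.trans le_sup_right))

/-- **S4591.** -/
theorem main {G : Type*} [Group G] [Finite G] (p : ℕ) [Fact p.Prime] (P : Sylow p G)
    (N : Subgroup G) [N.Normal]
    (hN : N ⊓ Subgroup.centralizer ((P : Subgroup G) : Set G) = ⊥)
    (hmax : ∀ L : Subgroup G, L.Normal →
      L ⊓ Subgroup.centralizer ((P : Subgroup G) : Set G) = ⊥ → L ≤ N) :
    {g : G | ∀ χ : Cfsg.IrrCharacter G, ¬ p ∣ Cfsg.charDegree (χ : G → ℂ) →
      (χ : G → ℂ) g = (χ : G → ℂ) 1} =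
      ((N ⊔ ⁅(P : Subgroup G), (P : Subgroup G)⁆).normalCore : Set G) := by
  ext g
  simp only [Set.mem_setOf_eq, SetLike.mem_coe]
  constructor
  · intro hg
    obtain ⟨K, hKn, hK⟩ := exists_kernel (G := G) p
    haveI := hKn
    have h1 : K ≤ N ⊔ ⁅(P : Subgroup G), (P : Subgroup G)⁆ :=
      kernel_le p P N hmax K (fun x hx => (hK x).mp hx)
    exact (Subgroup.normal_le_normalCore.mpr h1) ((hK g).mpr hg)
  · intro hg χ hχ
    exact core_le p P N hN χ hχ g hg

end Cfsg.Agent.Lib.Helper3.KerPPrime
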