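import Mathlib
import Cfsg.Prelude.Def_Transfer
import Cfsg.Agent.Lib.Helper8.L34Defs

/-!
# Farm L34 (S3154), unit UB2: the normalizer of `A2` in `SL₃(F)`, `|F| = 4`.
-/

set_option autoImplicit false

namespace Cfsg.Agent.Lib.Helper3.L34UB2

open Matrix
open Cfsg.Agent.Lib.Helper8.L34

variable {F : Type*} [Field F]

theorem pow_three_eq_one [Fintype F] (hF : Fintype.card F = 4) (d : F) (hd : d ≠ 0) : d ^ 3 = 1 := by
  have := FiniteField.pow_card_sub_one_eq_one d hd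
  rwa [hF] at this

/-- the scalar matrix `d`, `d ^ 3 = 1`, as an element of `SL₃(F)` -/
def scal (d : F) (hd : d ^ 3 = 1) : SpecialLinearGroup (Fin 3) F :=
  ⟨!![d, 0, 0; 0, d, 0; 0, 0, d], by
    rw [Matrix.det_fin_three]
    simp
    linear_combination hd⟩

theorem scal_mem_center (d : F) (hd : d ^ 3 = 1) :
    scal d hd ∈ Subgroup.center (SpecialLinearGroup (Fin 3) F) := by
  rw [Matrix.SpecialLinearGroup.mem_center_iff]
  refine ⟨d, by simpa using hd, ?_⟩
  ext i j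
  fin_cases i <;> fin_cases j <;> simp [scal, Matrix.scalar_apply]

/-- the first column of an element normalizing `A2` is `(d, 0, 0)` -/
theorem first_col (g : SpecialLinearGroup (Fin 3) F)
    (hg : g ∈ Subgroup.normalizer (A2 F : Set (SpecialLinearGroup (Fin 3) F))) :
    g 1 0 = 0 ∧ g 2 0 = 0 := by
  have hx : hS (1 : F) 0 0 ∈ A2 F := ⟨1, 0, rfl⟩
  have hconj : g * hS (1 : F) 0 0 * g⁻¹ ∈ A2 F := (Subgroup.mem_normalizer_iff.mp hg _).mp hx
  obtain ⟨a0, c0, hac⟩ := hconj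
  have hmul : g * hS (1 : F) 0 0 = hS a0 0 c0 * g := by rw [← hac]; group
  have hM : (g : Matrix (Fin 3) (Fin 3) F) * ((hS (1 : F) 0 0 : SpecialLinearGroup (Fin 3) F) : Matrix (Fin 3) (Fin 3) F)
      = ((hS a0 0 c0 : SpecialLinearGroup (Fin 3) F) : Matrix (Fin 3) (Fin 3) F) * (g : Matrix (Fin 3) (Fin 3) F) := by
    rw [← Matrix.SpecialLinearGroup.coe_mul, ← Matrix.SpecialLinearGroup.coe_mul, hmul]
  rw [hS_coe, hS_coe] at hM
  constructor
  · have := congrFun (congrFun hM 1) 1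
    simpa [Matrix.mul_apply, Fin.sum_univ_succ] using this
  · have := congrFun (congrFun hM 2) 1
    simpa [Matrix.mul_apply, Fin.sum_univ_succ] using this

/-- Unit UB2 of farm L34. -/
theorem UB2_normalizer_A2 [Fintype F] (hF : Fintype.card F = 4) :
    ∀ g ∈ Subgroup.normalizer (A2 F : Set (SpecialLinearGroup (Fin 3) F)),
      ∃ a ∈ A2 F, ∃ l ∈ L2 F, ∃ z ∈ Subgroup.center (SpecialLinearGroup (Fin 3) F), g = a * l * z := by
  intro g hg
  obtain ⟨h10, h20⟩ := first_col g hg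
  have hdet : g 0 0 * (g 1 1 * g 2 2 - g 1 2 * g 2 1) = 1 := by
    have := g.2
    rw [Matrix.det_fin_three] at this
    have h10' : (g : Matrix (Fin 3) (Fin 3) F) 1 0 = 0 := h10
    have h20' : (g : Matrix (Fin 3) (Fin 3) F) 2 0 = 0 := h20
    rw [h10', h20'] at this
    linear_combination this
  set d := g 0 0 with hd
  have hd0 : d ≠ 0 := by
    intro h0
    rw [h0, zero_mul] at hdet
    exact zero_ne_one hdet
  have hd3 : d ^ 3 = 1 := pow_three_eq_one hF d hd0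
  -- the Levi part
  have hBdet : (d⁻¹ • !![g 1 1, g 1 2; g 2 1, g 2 2] : Matrix (Fin 2) (Fin 2) F).det = 1 := by
    rw [Matrix.det_fin_two]
    simp
    field_simp
    linear_combination (d ^ 2) * hdet - (g 1 1 * g 2 2 - g 1 2 * g 2 1) * hd3
  let B : SpecialLinearGroup (Fin 2) F := ⟨d⁻¹ • !![g 1 1, g 1 2; g 2 1, g 2 2], hBdet⟩
  have hB00 : B 0 0 = d⁻¹ * g 1 1 := by simp [B]
  have hB01 : B 0 1 = d⁻¹ * g 1 2 := by simp [B]
  have hB10 : B 1 0 = d⁻¹ * g 2 1 := by simp [B]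
  have hB11 : B 1 1 = d⁻¹ * g 2 2 := by simp [B]
  refine ⟨hS (d * (g 0 1 * g 2 2 - g 0 2 * g 2 1)) 0 (d * (g 0 2 * g 1 1 - g 0 1 * g 1 2)), ⟨_, _, rfl⟩,
    emb2 B, ⟨B, rfl⟩, scal d hd3, scal_mem_center d hd3, ?_⟩
  apply Subtype.ext
  rw [Matrix.SpecialLinearGroup.coe_mul, Matrix.SpecialLinearGroup.coe_mul, hS_coe, emb2_coe, hB00, hB01, hB10, hB11]
  show (g : Matrix (Fin 3) (Fin 3) F) = _ * _ * !![d, 0, 0; 0, d, 0; 0, 0, d]
  ext i j
  fin_cases i <;> fin_cases j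
  · simp [Matrix.mul_apply, Fin.sum_univ_succ]; exact hd
  · simp [Matrix.mul_apply, Fin.sum_univ_succ]
    field_simp
    linear_combination (-(g 0 1)) * hdet
  · simp [Matrix.mul_apply, Fin.sum_univ_succ]
    field_simp
    linear_combination (-(g 0 2)) * hdet
  · simp [Matrix.mul_apply, Fin.sum_univ_succ]; exact h10
  · simp [Matrix.mul_apply, Fin.sum_univ_succ]
    field_simp
  · simp [Matrix.mul_apply, Fin.sum_univ_succ]
    field_simp
  · simp [Matrix.mul_apply, Fin.sum_univ_succ]; exact h20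
  · simp [Matrix.mul_apply, Fin.sum_univ_succ]
    field_simp
  · simp [Matrix.mul_apply, Fin.sum_univ_succ]
    field_simp

end Cfsg.Agent.Lib.Helper3.L34UB2
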