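import Mathlib
import Cfsg.Prelude.Def_Transfer
import Cfsg.Agent.Lib.Helper8.L34Defs

/-!
# Farm L34 (S3154), unit UF: transport of `Facts` along an isomorphism, to an arbitrary Sylow 2-subgroup.
-/

set_option autoImplicit false

namespace Cfsg.Agent.Lib.Helper3.L34UF

open Cfsg.Agent.Lib.Helper9.JRDefs (IsSylowIn)
open Cfsg.Agent.Lib.Helper8.L34

section transport
variable {P Q : Type*} [Group P] [Group Q] {F : Type*} [Field F]

/-- `Facts` is invariant under mapping along an isomorphism. -/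
theorem facts_map (χ : P ≃* Q) (A' B' : Subgroup P) (h : Facts F A' B') :
    Facts F (A'.map χ.toMonoidHom) (B'.map χ.toMonoidHom) := by
  have hinj : Function.Injective χ.toMonoidHom := χ.injective
  have hnorm : ∀ K : Subgroup P, (Subgroup.normalizer (K : Set P)).map χ.toMonoidHom =
      Subgroup.normalizer ((K.map χ.toMonoidHom : Subgroup Q) : Set Q) :=
    fun K => Subgroup.map_equiv_normalizer_eq K χ
  refine ⟨?_, ?_, ?_⟩
  · rintro x ⟨x0, hx0, rfl⟩ y ⟨y0, hy0, rfl⟩ hx1 hy1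
    have hx01 : x0 ≠ 1 := by
      rintro rfl; exact hx1 (map_one _)
    have hy01 : y0 ≠ 1 := by
      rintro rfl; exact hy1 (map_one _)
    obtain ⟨n, hn, hnxy⟩ := h.trans x0 hx0 y0 hy0 hx01 hy01
    refine ⟨χ.toMonoidHom n, ?_, ?_⟩
    · rw [← hnorm]; exact Subgroup.mem_map_of_mem _ hn
    · rw [← map_inv, ← map_mul, ← map_mul, hnxy]
  · intro z hz hzc
    rw [← Subgroup.map_sup] at hz hzc
    obtain ⟨z0, hz0, rfl⟩ := hz
    have hz0c : ∀ w ∈ A' ⊔ B', z0 * w = w * z0 := by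
      intro w hw
      apply hinj
      rw [map_mul, map_mul]
      exact hzc _ (Subgroup.mem_map_of_mem _ hw)
    have := h.center z0 hz0 hz0c
    exact ⟨Subgroup.mem_map_of_mem _ this.1, Subgroup.mem_map_of_mem _ this.2⟩
  · obtain ⟨C0, D0, hC0N, hC0A, hsup, ⟨e⟩, hD0B, hD0le, hD0p, hD0i⟩ := h.compl
    refine ⟨C0.map χ.toMonoidHom, D0.map χ.toMonoidHom, ?_, ?_, ?_, ?_, ?_, ?_, ?_, ?_⟩
    · rw [← hnorm]; exact Subgroup.map_mono hC0N
    · rw [← Subgroup.map_inf _ _ _ hinj, hC0A, Subgroup.map_bot]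
    · rw [← Subgroup.map_sup, hsup, hnorm]
    · exact ⟨(χ.subgroupMap C0).symm.trans e⟩
    · exact Subgroup.map_mono hD0B
    · exact Subgroup.map_mono hD0le
    · exact hD0p.map _
    · rw [Subgroup.relIndex_map_map_of_injective _ _ hinj]; exact hD0i

theorem map_map_symm (ψ : Q ≃* P) (A : Subgroup Q) :
    (A.map ψ.toMonoidHom).map ψ.symm.toMonoidHom = A := by
  ext x
  constructor
  · rintro ⟨y, ⟨z, hz, rfl⟩, rfl⟩
    simpa using hz
  · intro hx
    exact ⟨ψ x, ⟨x, hx, rfl⟩, by simp⟩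

end transport

/-- Unit UF of farm L34. -/
theorem UF_facts_of_iso {P Q : Type*} [Group P] [Group Q] [Finite P] {F : Type*} [Field F]
    (Ub B1 B2 : Subgroup P)
    (hUcard : ∀ T : Sylow 2 P, Nat.card ↥(T : Subgroup P) = Nat.card ↥Ub) (hUp : IsPGroup 2 ↥Ub)
    (hcl : ∀ A : Subgroup P, A ≤ Ub → (∀ a ∈ A, a ^ 2 = 1) → Nat.card ↥A = 16 → A = B1 ∨ A = B2)
    (h12 : Facts F B1 B2) (h21 : Facts F B2 B1)
    (φ : Q ≃* P) (T : Sylow 2 Q) (A B : Subgroup Q) (hAB : A ≠ B) (hAT : A ≤ T) (hBT : B ≤ T)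
    (hA2 : ∀ a ∈ A, a ^ 2 = 1) (hB2 : ∀ b ∈ B, b ^ 2 = 1)
    (hAc : Nat.card ↥A = 16) (hBc : Nat.card ↥B = 16) : Facts F A B := by
  have : Fact (Nat.Prime 2) := ⟨Nat.prime_two⟩
  -- `Ub` is a Sylow 2-subgroup
  obtain ⟨S0, hS0⟩ := hUp.exists_le_sylow
  have hUS : Ub = (S0 : Subgroup P) :=
    Subgroup.eq_of_le_of_card_ge hS0 (le_of_eq (hUcard S0))
  -- transport `T`
  let T' : Sylow 2 P := T.comapOfInjective φ.symm.toMonoidHom φ.symm.injective
    (by
      intro x _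
      exact ⟨φ x, by simp⟩)
  have hT' : ∀ x : P, x ∈ T' ↔ φ.symm x ∈ T := by
    intro x
    exact Iff.rfl
  obtain ⟨g, hg⟩ := MulAction.exists_smul_eq P T' S0
  have hgmem : ∀ x ∈ T', g * x * g⁻¹ ∈ S0 := by
    intro x hx
    rw [← hg]
    show g * x * g⁻¹ ∈ ((g • T' : Sylow 2 P) : Subgroup P)
    rw [Sylow.coe_subgroup_smul]
    exact ⟨x, hx, rfl⟩
  -- the corrected isomorphism
  let ψ : Q ≃* P := φ.trans (MulAut.conj g)
  have hψ : ∀ q : Q, ψ q = g * φ q * g⁻¹ := fun q => rfl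
  have hTU : ∀ q ∈ T, ψ q ∈ Ub := by
    intro q hq
    rw [hUS, hψ]
    apply hgmem
    rw [hT']
    simpa using hq
  have hmapA : A.map ψ.toMonoidHom = B1 ∨ A.map ψ.toMonoidHom = B2 := by
    apply hcl
    · rintro _ ⟨q, hq, rfl⟩
      exact hTU q (hAT hq)
    · rintro _ ⟨q, hq, rfl⟩
      show ψ q ^ 2 = 1
      rw [← map_pow, hA2 q hq, map_one]
    · rw [← hAc]
      exact Nat.card_congr (ψ.subgroupMap A).toEquiv.symm
  have hmapB : B.map ψ.toMonoidHom = B1 ∨ B.map ψ.toMonoidHom = B2 := by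
    apply hcl
    · rintro _ ⟨q, hq, rfl⟩
      exact hTU q (hBT hq)
    · rintro _ ⟨q, hq, rfl⟩
      show ψ q ^ 2 = 1
      rw [← map_pow, hB2 q hq, map_one]
    · rw [← hBc]
      exact Nat.card_congr (ψ.subgroupMap B).toEquiv.symm
  have hne : A.map ψ.toMonoidHom ≠ B.map ψ.toMonoidHom := by
    intro h
    apply hAB
    rw [← map_map_symm ψ A, ← map_map_symm ψ B, h]
  have hA : A = (A.map ψ.toMonoidHom).map ψ.symm.toMonoidHom := (map_map_symm ψ A).symm
  have hB : B = (B.map ψ.toMonoidHom).map ψ.symm.toMonoidHom := (map_map_symm ψ B).symm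
  rcases hmapA with h1 | h1 <;> rcases hmapB with h2 | h2
  · exact absurd (h1.trans h2.symm) hne
  · rw [hA, hB, h1, h2]
    exact facts_map ψ.symm B1 B2 h12
  · rw [hA, hB, h1, h2]
    exact facts_map ψ.symm B2 B1 h21
  · exact absurd (h1.trans h2.symm) hne

end Cfsg.Agent.Lib.Helper3.L34UF
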