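import Mathlib
import Cfsg.Agent.Lib.Helper1.LBALAct
import Cfsg.Agent.Lib.Helper1.PLengthOne
import Cfsg.Agent.Lib.Helper3.UpperPSeries
import Cfsg.Agent.Lib.Helper3.GlD

set_option autoImplicit false

/-!
# Farm LBAL (S1301): unit `Tmain` (Theorem T), via Glauberman's normal 2-complement theorem
`Cfsg.Agent.Lib.Helper3.Gl.odd_orderOf_of_mem_closure`.
-/

namespace Cfsg.Agent.Lib.Helper3.LBAL

open Cfsg Cfsg.Agent.Lib.Helper1.LBAL Cfsg.Agent.Lib.Helper3.Gl

universe u v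

/-- in a nilpotent group, `R ≤ [R, ⊤]` forces `R = ⊥`. -/
theorem eq_bot_of_le_commutator_top {P : Type*} [Group P] [hP : Group.IsNilpotent P]
    (R : Subgroup P) (h : R ≤ ⁅R, (⊤ : Subgroup P)⁆) : R = ⊥ := by
  have key : ∀ n : ℕ, R ≤ (⊤ : Subgroup P).lowerCentralSeries n := by
    intro n
    induction n with
    | zero => rw [Subgroup.lowerCentralSeries_zero]; exact le_top
    | succ n ih =>
      calc R ≤ ⁅R, (⊤ : Subgroup P)⁆ := h
        _ ≤ ⁅(⊤ : Subgroup P).lowerCentralSeries n, (⊤ : Subgroup P)⁆ :=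
          Subgroup.commutator_mono ih le_rfl
        _ = (⊤ : Subgroup P).lowerCentralSeries (n + 1) := rfl
  obtain ⟨n, hn⟩ := Subgroup.nilpotent_iff_lowerCentralSeries.mp hP
  rw [eq_bot_iff, ← hn]
  exact key n

/-- `oddGen S` is normalized by `fixer S`. -/
theorem conj_mem_oddGen {H : Type u} [Group H] (S : Subgroup H) {c n : MulAut H}
    (hc : c ∈ fixer S) (hn : n ∈ oddGen S) : c * n * c⁻¹ ∈ oddGen S := by
  have hle : (oddGen S).map (MulAut.conj c).toMonoidHom ≤ oddGen S := by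
    unfold oddGen
    rw [MonoidHom.map_closure, Subgroup.closure_le]
    rintro _ ⟨α, ⟨hα1, hα2⟩, rfl⟩
    apply Subgroup.subset_closure
    refine ⟨?_, ?_⟩
    · intro s hs
      have hcinv : c⁻¹ ∈ fixer S := inv_mem hc
      show (c * α * c⁻¹) s = s
      rw [MulAut.mul_apply, MulAut.mul_apply, hcinv s hs, hα1 s hs, hc s hs]
    · have : orderOf ((MulAut.conj c).toMonoidHom α) = orderOf α :=
        MulEquiv.orderOf_eq (MulAut.conj c) α
      rw [this]; exact hα2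
  have := hle ⟨n, hn, rfl⟩
  simpa [MulAut.conj_apply] using this

/-- Tmain: Theorem T. -/
theorem Tmain {D : Type v} [Group D] (Q : Subgroup D) (hQ : IsPGroup 2 ↥Q)
    (hQD : Q ≤ ⁅Q, (⊤ : Subgroup D)⁆) {H : Type u} [Group H] [Finite H]
    (φ : D →* MulAut H) (S : Sylow 2 H) (hfix : ∀ d : D, ∀ s ∈ S, φ d s = s) : TStmt φ Q := by
  classical
  have : Fact (Nat.Prime 2) := ⟨Nat.prime_two⟩
  set O := Cfsg.oddCore H with hOdef
  haveI hOn : O.Normal := Cfsg.Agent.Lib.Helper1.pPrimeCore_normal 2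
  have hinv : ∀ d : D, ∀ n ∈ O, φ d n ∈ O := by
    intro d n hn
    have h1 := Cfsg.Agent.Lib.Helper3.pPrimeCore_map_equiv 2 (φ d)
    have h2 : φ d n ∈ (Cfsg.pPrimeCore 2 H).map (φ d).toMonoidHom := ⟨n, hn, rfl⟩
    rw [h1] at h2
    exact h2
  set φb := quotAct φ O hinv with hφb
  set Sb : Sylow 2 (H ⧸ O) := S.mapSurjective (QuotientGroup.mk'_surjective O) with hSb
  have hfixb : ∀ d : D, ∀ s ∈ (Sb : Subgroup (H ⧸ O)), φb d s = s := by
    intro d s hs
    rw [hSb, Sylow.coe_mapSurjective] at hs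
    obtain ⟨s0, hs0, rfl⟩ := hs
    show quotAct φ O hinv d ((s0 : H) : H ⧸ O) = _
    rw [quotAct_mk, hfix d s0 hs0]
    rfl
  have hOb : ∀ N : Subgroup (H ⧸ O), N.Normal → Odd (Nat.card N) → N = ⊥ := by
    intro N hN hodd
    have h1 : N ≤ Cfsg.pPrimeCore 2 (H ⧸ O) :=
      Cfsg.Agent.Lib.Helper1.le_pPrimeCore hN (Nat.Coprime.symm (Nat.coprime_two_left.mpr hodd))
    have h2 : Cfsg.pPrimeCore 2 (H ⧸ O) = ⊥ := Cfsg.Agent.Lib.Helper1.pPrimeCore_quotient_eq_bot 2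
    rw [h2] at h1
    exact eq_bot_iff.mpr h1
  -- the 2-group `fixer / oddGen`
  set Cb := fixer (Sb : Subgroup (H ⧸ O)) with hCb
  set Nb := oddGen (Sb : Subgroup (H ⧸ O)) with hNb
  set N' : Subgroup Cb := Nb.subgroupOf Cb with hN'
  haveI hN'n : N'.Normal := by
    constructor
    intro n hn c
    rw [hN', Subgroup.mem_subgroupOf] at hn ⊢
    have := conj_mem_oddGen (Sb : Subgroup (H ⧸ O)) c.2 hn
    simpa using this
  have hP2 : IsPGroup 2 (Cb ⧸ N') := by
    intro x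
    induction x using QuotientGroup.induction_on with
    | H c =>
      have hpos : 0 < orderOf (c : MulAut (H ⧸ O)) := orderOf_pos _
      obtain ⟨a, m, hm, hom⟩ := Nat.exists_eq_two_pow_mul_odd hpos.ne'
      refine ⟨a, ?_⟩
      rw [← QuotientGroup.mk_pow, QuotientGroup.eq_one_iff, hN', Subgroup.mem_subgroupOf]
      apply Subgroup.subset_closure
      refine ⟨?_, ?_⟩
      · intro s hs
        have : (c ^ 2 ^ a : Cb) ∈ (⊤ : Subgroup Cb) := trivial
        exact (c ^ 2 ^ a).2 s hs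
      · rw [Subgroup.coe_pow, orderOf_pow' _ (pow_ne_zero a two_ne_zero), hom,
          Nat.gcd_eq_right (Dvd.intro _ rfl), Nat.mul_div_cancel_left _ (pow_pos two_pos a)]
        exact hm
  haveI : Finite (Cb ⧸ N') := inferInstance
  haveI hPnil : Group.IsNilpotent (Cb ⧸ N') := hP2.isNilpotent
  have hmem : ∀ d : D, φb d ∈ Cb := fun d => hfixb d
  set ψ : D →* Cb ⧸ N' := (QuotientGroup.mk' N').comp (φb.codRestrict Cb hmem) with hψ
  have hR : Q.map ψ ≤ ⁅Q.map ψ, (⊤ : Subgroup (Cb ⧸ N'))⁆ := by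
    calc Q.map ψ ≤ (⁅Q, (⊤ : Subgroup D)⁆).map ψ := Subgroup.map_mono hQD
      _ = ⁅Q.map ψ, (⊤ : Subgroup D).map ψ⁆ := Subgroup.map_commutator _ _ _
      _ ≤ ⁅Q.map ψ, (⊤ : Subgroup (Cb ⧸ N'))⁆ := Subgroup.commutator_mono le_rfl le_top
  have hRbot := eq_bot_of_le_commutator_top _ hR
  intro q hq h
  have h1 : ψ q = 1 := by
    have : ψ q ∈ Q.map ψ := ⟨q, hq, rfl⟩
    rw [hRbot, Subgroup.mem_bot] at this
    exact this
  have h2 : φb q ∈ Nb := by
    rw [hψ, MonoidHom.comp_apply, QuotientGroup.mk'_apply, QuotientGroup.eq_one_iff, hN',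
      Subgroup.mem_subgroupOf] at h1
    exact h1
  have hodd := odd_orderOf_of_mem_closure hOb Sb (φb q) h2
  obtain ⟨j, hj⟩ := hQ ⟨q, hq⟩
  have hqj : q ^ 2 ^ j = 1 := by
    have := congrArg Subtype.val hj
    simpa using this
  have hφj : (φb q) ^ 2 ^ j = 1 := by rw [← map_pow, hqj, map_one]
  have hd1 := orderOf_dvd_of_pow_eq_one hφj
  have h3 : orderOf (φb q) = 1 := by
    have hcop : Nat.Coprime (orderOf (φb q)) (2 ^ j) :=
      Nat.Coprime.pow_right j (Nat.coprime_two_right.mpr hodd)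
    exact Nat.Coprime.eq_one_of_dvd hcop hd1
  have h4 : φb q = 1 := orderOf_eq_one_iff.mp h3
  have h5 : φb q ((h : H) : H ⧸ O) = ((h : H) : H ⧸ O) := by rw [h4]; rfl
  rw [hφb, quotAct_mk] at h5
  have h6 := QuotientGroup.eq.mp h5.symm
  exact h6

end Cfsg.Agent.Lib.Helper3.LBAL
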