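import Mathlib

/-!
# Linear p-groups: derived length bound (part 1)

Basic lemmas on derived series, sub- and quotient representations.
-/

set_option autoImplicit false

namespace Cfsg.Agent.Lib.Helper3.LinP1

section Derived

variable {G : Type*} [Group G]

theorem derivedSeries_le_ker_of_eq_bot {H : Type*} [Group H] (f : G →* H) (k : ℕ)
    (h : derivedSeries H k = ⊥) : derivedSeries G k ≤ f.ker := by
  intro x hx
  have h1 : f x ∈ (derivedSeries G k).map f := Subgroup.mem_map_of_mem f hx
  have h2 := map_derivedSeries_le_derivedSeries f k h1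
  rw [h] at h2
  exact MonoidHom.mem_ker.mpr (Subgroup.mem_bot.mp h2)

theorem derivedSeries_succ_le_map_subtype (M : Subgroup G) (hM : commutator G ≤ M) (j : ℕ) :
    derivedSeries G (j + 1) ≤ (derivedSeries M j).map M.subtype := by
  induction j with
  | zero =>
    rw [derivedSeries_succ, derivedSeries_zero, derivedSeries_zero, ← MonoidHom.range_eq_map,
      Subgroup.range_subtype]
    exact hM
  | succ j ih =>
    rw [derivedSeries_succ, derivedSeries_succ (G := M), Subgroup.map_commutator]
    exact Subgroup.commutator_mono ih ih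

theorem derivedSeries_succ_eq_bot_of_le (M : Subgroup G) (hM : commutator G ≤ M) (j : ℕ)
    (h : derivedSeries M j = ⊥) : derivedSeries G (j + 1) = ⊥ := by
  have := derivedSeries_succ_le_map_subtype M hM j
  rw [h, Subgroup.map_bot] at this
  exact eq_bot_iff.mpr this

theorem derivedSeries_eq_bot_mono {j k : ℕ} (hjk : j ≤ k) (h : derivedSeries G j = ⊥) :
    derivedSeries G k = ⊥ := by
  have := derivedSeries_antitone (G := G) hjk
  rw [h] at this
  exact eq_bot_iff.mpr this

theorem derivedSeries_one_eq_bot_of_comm (h : ∀ x y : G, x * y = y * x) :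
    derivedSeries G 1 = ⊥ := by
  rw [derivedSeries_succ, derivedSeries_zero, eq_bot_iff, Subgroup.commutator_le]
  intro x _ y _
  rw [Subgroup.mem_bot, commutatorElement_def, h x y]
  group

end Derived

section Rep

variable {K : Type*} [Field K] {V : Type*} [AddCommGroup V] [Module K V]
variable {G : Type*} [Group G]

/-- `W` is invariant under the representation `ρ`. -/
def IsInv (ρ : G →* Module.End K V) (W : Submodule K V) : Prop :=
  ∀ g : G, ∀ w ∈ W, ρ g w ∈ W

/-- The subrepresentation on an invariant subspace. -/
def subRep (ρ : G →* Module.End K V) (W : Submodule K V) (hW : IsInv ρ W) :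
    G →* Module.End K W where
  toFun g := (ρ g).restrict (hW g)
  map_one' := by
    ext w
    simp
  map_mul' g h := by
    ext w
    simp

@[simp] theorem subRep_apply (ρ : G →* Module.End K V) (W : Submodule K V) (hW : IsInv ρ W)
    (g : G) (w : W) : ((subRep ρ W hW g) w : V) = ρ g w := rfl

/-- The quotient representation on `V ⧸ W`. -/
def quotRep (ρ : G →* Module.End K V) (W : Submodule K V) (hW : IsInv ρ W) :
    G →* Module.End K (V ⧸ W) where
  toFun g := W.mapQ W (ρ g) (fun w hw => hW g w hw)
  map_one' := by
    ext w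
    simp
  map_mul' g h := by
    ext w
    simp

@[simp] theorem quotRep_apply (ρ : G →* Module.End K V) (W : Submodule K V) (hW : IsInv ρ W)
    (g : G) (v : V) : (quotRep ρ W hW g) (Submodule.Quotient.mk v) = Submodule.Quotient.mk (ρ g v) :=
  rfl

theorem mem_ker_subRep (ρ : G →* Module.End K V) (W : Submodule K V) (hW : IsInv ρ W) (g : G) :
    g ∈ (subRep ρ W hW).ker ↔ ∀ w ∈ W, ρ g w = w := by
  rw [MonoidHom.mem_ker]
  constructor
  · intro h w hw
    have := congrArg (fun f : Module.End K W => ((f ⟨w, hw⟩ : W) : V)) h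
    simpa using this
  · intro h
    ext w
    simpa using h w.1 w.2

theorem mem_ker_quotRep (ρ : G →* Module.End K V) (W : Submodule K V) (hW : IsInv ρ W) (g : G) :
    g ∈ (quotRep ρ W hW).ker ↔ ∀ v : V, ρ g v - v ∈ W := by
  rw [MonoidHom.mem_ker]
  constructor
  · intro h v
    have := congrArg (fun f : Module.End K (V ⧸ W) => f (Submodule.Quotient.mk v)) h
    simp only [quotRep_apply, Module.End.one_apply] at this
    exact (Submodule.Quotient.eq W).mp this
  · intro h
    ext v
    simp only [LinearMap.coe_comp, Function.comp_apply, Submodule.mkQ_apply, quotRep_apply,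
      Module.End.one_apply]
    exact (Submodule.Quotient.eq W).mpr (h v)

theorem rep_injective_apply (ρ : G →* Module.End K V) (g : G) : Function.Injective (ρ g) := by
  intro x y hxy
  have h1 : ρ g⁻¹ (ρ g x) = ρ g⁻¹ (ρ g y) := by rw [hxy]
  have h2 : ∀ v, ρ g⁻¹ (ρ g v) = v := by
    intro v
    have : (ρ g⁻¹ * ρ g) v = v := by
      rw [← map_mul, inv_mul_cancel, map_one]
      rfl
    exact this
  rwa [h2, h2] at h1

theorem rep_mul_apply (ρ : G →* Module.End K V) (g h : G) (v : V) :
    ρ (g * h) v = ρ g (ρ h v) := by
  rw [map_mul]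
  rfl

theorem rep_one_apply (ρ : G →* Module.End K V) (v : V) : ρ 1 v = v := by
  rw [map_one]
  rfl

end Rep

end Cfsg.Agent.Lib.Helper3.LinP1
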