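import Cfsg.Agent.Lib.Helper3.LinP9

/-!
# Linear p-groups (part 10): the sharper bound `⌊log_p d⌋ + 1` in coprime characteristic
-/

set_option autoImplicit false

namespace Cfsg.Agent.Lib.Helper3.LinP10

open Cfsg.Agent.Lib.Helper3.LinP1 Cfsg.Agent.Lib.Helper3.LinP2 Cfsg.Agent.Lib.Helper3.LinP3
  Cfsg.Agent.Lib.Helper3.LinP6 Cfsg.Agent.Lib.Helper3.LinP7 Cfsg.Agent.Lib.Helper3.LinP8
  Cfsg.Agent.Lib.Helper3.LinP9

universe u v w

section Grp

variable {G : Type*} [Group G]

theorem exists_second_center_pow (p : ℕ) [Fact p.Prime] [Finite G] (hG : IsPGroup p G)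
    (hnc : ¬ ∀ x y : G, x * y = y * x) :
    ∃ a : G, a ∉ Subgroup.center G ∧ (∀ g : G, g * a * g⁻¹ * a⁻¹ ∈ Subgroup.center G) ∧
      a ^ p ∈ Subgroup.center G := by
  have hZ : Subgroup.center G ≠ ⊤ := by
    intro h
    apply hnc
    intro x y
    have hy : y ∈ Subgroup.center G := by rw [h]; trivial
    exact Subgroup.mem_center_iff.mp hy x
  have hQ : IsPGroup p (G ⧸ Subgroup.center G) := hG.to_quotient _
  have : Nontrivial (G ⧸ Subgroup.center G) := by
    by_contra hnt
    rw [not_nontrivial_iff_subsingleton] at hnt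
    apply hZ
    rw [eq_top_iff]
    intro x _
    have : (x : G ⧸ Subgroup.center G) = 1 := Subsingleton.elim _ _
    exact (QuotientGroup.eq_one_iff x).mp this
  have := hQ.center_nontrivial
  have hcard : p ∣ Nat.card (Subgroup.center (G ⧸ Subgroup.center G)) :=
    (hQ.to_subgroup _).card_eq_or_dvd.resolve_left (Finite.one_lt_card).ne'
  obtain ⟨zc, hzc⟩ := exists_prime_orderOf_dvd_card' p hcard
  have hzord : orderOf (zc : G ⧸ Subgroup.center G) = p := by rw [Subgroup.orderOf_coe, hzc]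
  obtain ⟨a, ha⟩ := QuotientGroup.mk_surjective (zc : G ⧸ Subgroup.center G)
  refine ⟨a, ?_, ?_, ?_⟩
  · intro haZ
    have h1 : (zc : G ⧸ Subgroup.center G) = 1 := by
      rw [← ha]
      exact (QuotientGroup.eq_one_iff a).mpr haZ
    rw [h1, orderOf_one] at hzord
    exact (Fact.out : p.Prime).one_lt.ne hzord
  · intro g
    rw [← QuotientGroup.eq_one_iff]
    have h1 := Subgroup.mem_center_iff.mp zc.2 (g : G ⧸ Subgroup.center G)
    rw [QuotientGroup.mk_mul, QuotientGroup.mk_mul, QuotientGroup.mk_mul, ha, h1,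
      QuotientGroup.mk_inv, QuotientGroup.mk_inv, ha]
    group
  · rw [← QuotientGroup.eq_one_iff, QuotientGroup.mk_pow, ha, ← hzord]
    exact pow_orderOf_eq_one _

theorem comm_pow_eq_one_of_pow_mem_center (a g : G) (p : ℕ)
    (hz : g * a * g⁻¹ * a⁻¹ ∈ Subgroup.center G) (hap : a ^ p ∈ Subgroup.center G) :
    (g * a * g⁻¹ * a⁻¹) ^ p = 1 := by
  set z := g * a * g⁻¹ * a⁻¹ with hzdef
  have hcomm : Commute z a := (Subgroup.mem_center_iff.mp hz a).symm
  have e1 : g * a * g⁻¹ = z * a := by rw [hzdef]; group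
  have e2 : (g * a * g⁻¹) ^ p = g * a ^ p * g⁻¹ := conj_pow
  have e3 : g * a ^ p * g⁻¹ = a ^ p := by
    rw [Subgroup.mem_center_iff.mp hap g]
    group
  have e4 : (z * a) ^ p = z ^ p * a ^ p := hcomm.mul_pow p
  rw [e1, e4, e3] at e2
  exact mul_eq_right.mp e2

end Grp

section Main

variable (p : ℕ) [Fact p.Prime] (K : Type w) [Field K] [IsAlgClosed K]

theorem irreducible_step_p (d : ℕ) {G : Type u} [Group G] [Finite G] (hG : IsPGroup p G)
    {V : Type v} [AddCommGroup V] [Module K V] [FiniteDimensional K V] [Nontrivial V]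
    (hd : Module.finrank K V = d) (ρ : G →* Module.End K V) (hρ : Function.Injective ρ)
    (hnc : ¬ ∀ x y : G, x * y = y * x)
    (hirr : ∀ W : Submodule K V, IsInv ρ W → W ≠ ⊥ → W = ⊤)
    (IH' : ∀ d' < d, ∀ (H : Type u) [Group H] [Finite H], IsPGroup p H →
      ∀ (V' : Type v) [AddCommGroup V'] [Module K V'] [FiniteDimensional K V'],
      Module.finrank K V' = d' →
      ∀ σ : H →* Module.End K V', derivedSeries H (Nat.log p d' + 1) ≤ σ.ker) :
    derivedSeries G (Nat.log p d + 1) = ⊥ := by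
  classical
  have hp1 : 1 < p := (Fact.out : p.Prime).one_lt
  obtain ⟨a, haZ, ha, hap⟩ := exists_second_center_pow p hG hnc
  set M : Subgroup G := (commHom a ha).ker with hM
  have hMcomm : commutator G ≤ M := by
    rw [hM, commutator_def, Subgroup.commutator_le]
    intro x _ y _
    rw [MonoidHom.mem_ker, map_commutatorElement, commutatorElement_eq_one_iff_mul_comm]
    apply Subtype.ext
    exact (Subgroup.mem_center_iff.mp (commHom a ha y).2 (commHom a ha x).1)
  have hMmem : ∀ g, g ∈ M ↔ g * a = a * g := mem_ker_commHom a ha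
  obtain ⟨μ, hμ⟩ := Module.End.exists_eigenvalue (ρ a)
  set U := Module.End.eigenspace (ρ a) μ with hU
  have hUbot : U ≠ ⊥ := hμ
  have hμ0 : μ ≠ 0 := by
    intro h0
    obtain ⟨u, hu⟩ := hμ.exists_hasEigenvector
    have h1 : ρ a u = μ • u := Module.End.mem_eigenspace_iff.mp hu.1
    rw [h0, zero_smul] at h1
    have := rep_injective_apply ρ a (h1.trans (map_zero _).symm)
    exact hu.2 this
  have hsc := central_scalar ρ hirr
  let Ug : G → Submodule K V := fun g => U.map (ρ g)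
  have hUg_inv : ∀ g, IsInv (ρ.comp M.subtype) (Ug g) := by
    intro g m w hw
    obtain ⟨u, hu, rfl⟩ := Submodule.mem_map.mp hw
    refine Submodule.mem_map.mpr ⟨ρ (g⁻¹ * m * g) u, ?_, ?_⟩
    · have hm' : g⁻¹ * (m : G) * g ∈ M := by
        have := (inferInstance : M.Normal).conj_mem (m : G) m.2 g⁻¹
        simpa using this
      have hc := (hMmem _).mp hm'
      rw [hU, Module.End.mem_eigenspace_iff, ← rep_mul_apply, ← hc, rep_mul_apply,
        Module.End.mem_eigenspace_iff.mp hu, map_smul]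
    · show ρ g (ρ (g⁻¹ * m * g) u) = ρ (m : G) (ρ g u)
      rw [← rep_mul_apply, ← rep_mul_apply]
      congr 2
      group
  have hsup_inv : IsInv ρ (⨆ g, Ug g) := by
    intro h w hw
    have h1 : ρ h w ∈ (⨆ g, Ug g).map (ρ h) := Submodule.mem_map_of_mem hw
    rw [Submodule.map_iSup] at h1
    refine (iSup_le ?_ : (⨆ g, (Ug g).map (ρ h)) ≤ ⨆ g, Ug g) h1
    intro g
    refine le_trans ?_ (le_iSup Ug (h * g))
    rintro x ⟨y, ⟨u, hu, rfl⟩, rfl⟩
    exact ⟨u, hu, rep_mul_apply ρ h g u⟩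
  have hsup_top : ⨆ g, Ug g = ⊤ := by
    refine hirr _ hsup_inv ?_
    intro h
    apply hUbot
    rw [eq_bot_iff, ← h]
    refine le_trans ?_ (le_iSup Ug 1)
    intro u hu
    exact ⟨u, hu, rep_one_apply ρ u⟩
  have hex : ∃ g0, g0 ∉ M := by
    by_contra h
    push Not at h
    apply haZ
    rw [Subgroup.mem_center_iff]
    intro g
    exact (hMmem g).mp (h g)
  obtain ⟨g0, hg0⟩ := hex
  obtain ⟨c, hc⟩ := hsc _ (ha g0)
  have hc1 : c ≠ 1 := by
    intro h1
    apply hg0
    rw [hMmem]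
    have h2 : ρ (g0 * a * g0⁻¹ * a⁻¹) = ρ 1 := by
      ext v
      rw [hc, h1, one_smul, rep_one_apply]
    have h3 := hρ h2
    calc g0 * a = (g0 * a * g0⁻¹ * a⁻¹) * (a * g0) := by group
      _ = a * g0 := by rw [h3, one_mul]
  obtain ⟨v0, hv0⟩ := exists_ne (0 : V)
  have hcp : c ^ p = 1 := by
    have h1 := comm_pow_eq_one_of_pow_mem_center a g0 p (ha g0) hap
    have h2 := pow_apply_of_scalar (ρ (g0 * a * g0⁻¹ * a⁻¹)) c hc p v0
    rw [← map_pow, h1, rep_one_apply] at h2
    have h3 : c ^ p • v0 = (1 : K) • v0 := by rw [one_smul, ← h2]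
    exact smul_left_injective K hv0 h3
  have hc0 : c ≠ 0 := by
    intro h0
    rw [h0, zero_pow (Fact.out : p.Prime).ne_zero] at hcp
    exact zero_ne_one hcp
  have hcinv_ord : orderOf c⁻¹ = p := by
    apply orderOf_eq_prime
    · rw [inv_pow, hcp, inv_one]
    · intro h
      exact hc1 (inv_eq_one.mp h)
  -- eigenvalues
  have hlaminj : Function.Injective (fun i : Fin p => (c⁻¹) ^ (i : ℕ) * μ) := by
    intro i j hij
    simp only at hij
    have h1 : (c⁻¹) ^ (i : ℕ) = (c⁻¹) ^ (j : ℕ) := mul_right_cancel₀ hμ0 hij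
    have hi : (i : ℕ) ∈ Set.Iio (orderOf c⁻¹) := by rw [hcinv_ord]; exact i.2
    have hj : (j : ℕ) ∈ Set.Iio (orderOf c⁻¹) := by rw [hcinv_ord]; exact j.2
    exact Fin.ext (pow_injOn_Iio_orderOf hi hj h1)
  have hfr : ∀ g, Module.finrank K (Ug g) = Module.finrank K U := fun g =>
    (LinearEquiv.finrank_eq
      (Submodule.equivMapOfInjective (ρ g) (rep_injective_apply ρ g) U)).symm
  have hUle : ∀ i : Fin p, Ug (g0 ^ (i : ℕ)) ≤
      Module.End.eigenspace (ρ a) ((c⁻¹) ^ (i : ℕ) * μ) := by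
    intro i w hw
    obtain ⟨u, hu, rfl⟩ := Submodule.mem_map.mp hw
    rw [Module.End.mem_eigenspace_iff]
    have hu' : ρ a u = μ • u := Module.End.mem_eigenspace_iff.mp hu
    have hzi : g0 ^ (i : ℕ) * a * (g0 ^ (i : ℕ))⁻¹ * a⁻¹ = (g0 * a * g0⁻¹ * a⁻¹) ^ (i : ℕ) := by
      have := map_pow (commHom a ha) g0 (i : ℕ)
      exact congrArg Subtype.val this
    have h4 : ρ (g0 ^ (i : ℕ) * a) u = μ • ρ (g0 ^ (i : ℕ)) u := by
      rw [rep_mul_apply, hu', map_smul]
    have h5 : ρ (g0 ^ (i : ℕ) * a) u = c ^ (i : ℕ) • ρ a (ρ (g0 ^ (i : ℕ)) u) := by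
      have : g0 ^ (i : ℕ) * a =
          (g0 ^ (i : ℕ) * a * (g0 ^ (i : ℕ))⁻¹ * a⁻¹) * (a * g0 ^ (i : ℕ)) := by group
      rw [this, hzi, rep_mul_apply, map_pow, pow_apply_of_scalar _ c hc, rep_mul_apply]
    rw [h4] at h5
    have h6 : ρ a (ρ (g0 ^ (i : ℕ)) u) = (c ^ (i : ℕ))⁻¹ • (μ • ρ (g0 ^ (i : ℕ)) u) := by
      rw [h5, smul_smul, inv_mul_cancel₀ (pow_ne_zero _ hc0), one_smul]
    rw [h6, smul_smul, inv_pow]
  have hpU : p * Module.finrank K U ≤ d := by
    have hindep := (Module.End.eigenspaces_iSupIndep (ρ a)).comp hlaminj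
    have hsum := sum_finrank_le_of_iSupIndep _ hindep Finset.univ
    have hle : Module.finrank K ↥(Finset.univ.sup
        ((ρ a).eigenspace ∘ fun i : Fin p => (c⁻¹) ^ (i : ℕ) * μ)) ≤ d := by
      rw [← hd]
      exact Submodule.finrank_le _
    have hlow : p * Module.finrank K U ≤ ∑ i : Fin p, Module.finrank K
        ↥(((ρ a).eigenspace ∘ fun i : Fin p => (c⁻¹) ^ (i : ℕ) * μ) i) := by
      have := Finset.sum_le_sum (s := Finset.univ) (fun (i : Fin p) _ =>
        (hfr (g0 ^ (i : ℕ))).symm.le.trans (Submodule.finrank_mono (hUle i)))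
      simpa using this
    omega
  have hUpos : 1 ≤ Module.finrank K U := Submodule.one_le_finrank_iff.mpr hUbot
  have hdp : p ≤ d := by nlinarith
  have hker : ∀ g, derivedSeries M (Nat.log p d) ≤
      (subRep (ρ.comp M.subtype) (Ug g) (hUg_inv g)).ker := by
    intro g
    have hlt : Module.finrank K (Ug g) < d := by
      rw [hfr]
      nlinarith
    have h1 := IH' _ hlt M (hG.to_subgroup M) (Ug g) rfl
      (subRep (ρ.comp M.subtype) (Ug g) (hUg_inv g))
    refine le_trans (derivedSeries_antitone M ?_) h1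
    rw [hfr]
    have h3 : Module.finrank K U ≤ d / p := by
      rw [Nat.le_div_iff_mul_le (by omega), mul_comm]
      exact hpU
    have h4 := Nat.log_mono_right (b := p) h3
    rw [Nat.log_div_base] at h4
    have h5 : 0 < Nat.log p d := Nat.log_pos hp1 hdp
    omega
  have hMbot : derivedSeries M (Nat.log p d) = ⊥ := by
    rw [eq_bot_iff]
    intro m hm
    rw [Subgroup.mem_bot]
    have hfix : ∀ g, ∀ w ∈ Ug g, ρ (m : G) w = w := fun g =>
      (mem_ker_subRep _ _ _ m).mp (hker g hm)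
    have h0 : (⊤ : Submodule K V) ≤ LinearMap.ker (ρ (m : G) - 1) := by
      rw [← hsup_top]
      apply iSup_le
      intro g w hw
      rw [LinearMap.mem_ker, LinearMap.sub_apply, hfix g w hw]
      simp
    have h1 : ρ (m : G) = 1 := by
      ext v
      have := h0 (Submodule.mem_top : v ∈ ⊤)
      rw [LinearMap.mem_ker, LinearMap.sub_apply, sub_eq_zero] at this
      exact this
    apply Subtype.ext
    apply hρ
    rw [h1, Subgroup.coe_one, map_one]
  exact derivedSeries_succ_eq_bot_of_le M hMcomm _ hMbot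

theorem derivedSeries_eq_bot_of_faithful_rep_p (hpK : (p : K) ≠ 0) :
    ∀ (d : ℕ) (G : Type u) [Group G] [Finite G], IsPGroup p G →
    ∀ (V : Type v) [AddCommGroup V] [Module K V] [FiniteDimensional K V],
    Module.finrank K V = d →
    ∀ ρ : G →* Module.End K V, Function.Injective ρ →
      derivedSeries G (Nat.log p d + 1) = ⊥ := by
  intro d
  induction d using Nat.strong_induction_on with
  | _ d IH =>
  intro G _ _ hG V _ _ _ hd ρ hρ
  have IH' : ∀ d' < d, ∀ (H : Type u) [Group H] [Finite H], IsPGroup p H →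
      ∀ (V' : Type v) [AddCommGroup V'] [Module K V'] [FiniteDimensional K V'],
      Module.finrank K V' = d' →
      ∀ σ : H →* Module.End K V', derivedSeries H (Nat.log p d' + 1) ≤ σ.ker := by
    intro d' hd' H _ _ hH V' _ _ _ hV' σ
    exact nonfaithful_of_faithful p _ hH σ
      (fun τ hτ => IH d' hd' _ (hH.to_quotient _) V' hV' τ hτ)
  by_cases hcomm : ∀ x y : G, x * y = y * x
  · exact derivedSeries_eq_bot_mono (by omega) (derivedSeries_one_eq_bot_of_comm hcomm)
  by_cases hred : ∃ W : Submodule K V, IsInv ρ W ∧ W ≠ ⊥ ∧ W ≠ ⊤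
  · obtain ⟨W, hW, hWb, hWt⟩ := hred
    have hlt1 : Module.finrank K W < d := hd ▸ Submodule.finrank_lt hWt
    have hpos1 : 1 ≤ Module.finrank K W := Submodule.one_le_finrank_iff.mpr hWb
    have hsum := Submodule.finrank_quotient_add_finrank W
    have hlt2 : Module.finrank K (V ⧸ W) < d := by omega
    have h1 := IH' _ hlt1 G hG W rfl (subRep ρ W hW)
    have h2 := IH' _ hlt2 G hG (V ⧸ W) rfl (quotRep ρ W hW)
    have h3 : derivedSeries G (Nat.log p d + 1) ≤
        (subRep ρ W hW).ker ⊓ (quotRep ρ W hW).ker := by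
      refine le_inf (le_trans (derivedSeries_antitone G ?_) h1)
        (le_trans (derivedSeries_antitone G ?_) h2)
      · exact Nat.succ_le_succ (Nat.log_mono_right hlt1.le)
      · exact Nat.succ_le_succ (Nat.log_mono_right hlt2.le)
    rw [ker_sub_inf_ker_quot_eq_bot p hpK hG ρ hρ W hW] at h3
    exact eq_bot_iff.mpr h3
  · push Not at hred
    have : Nontrivial V := by
      by_contra hnt
      rw [not_nontrivial_iff_subsingleton] at hnt
      apply hcomm
      intro x y
      apply hρ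
      ext v
      exact Subsingleton.elim _ _
    exact irreducible_step_p p K d hG hd ρ hρ hcomm hred IH'

end Main

end Cfsg.Agent.Lib.Helper3.LinP10
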