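import Cfsg.Agent.Lib.Helper3.LinP10
import Cfsg.Agent.Lib.Helper4.SylSym1

/-!
# Linear p-groups (part 11): wreath products acting linearly; embedding into `GL_n`
-/

set_option autoImplicit false

namespace Cfsg.Agent.Lib.Helper3.LinP11

open Cfsg.Agent.Lib.Helper3.LinP1 Cfsg.Agent.Lib.Helper3.LinP6

section Wreath

variable {D Q : Type*} [Group D] [Group Q] {F U : Type*} [Field F] [AddCommGroup U] [Module F U]

/-- The induced action of a regular wreath product on functions `Q → U`. -/
def wreathRep (τ : D →* Module.End F U) :
    RegularWreathProduct D Q →* Module.End F (Q → U) where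
  toFun a := LinearMap.pi (fun x => (τ (a.left x)).comp (LinearMap.proj (a.right⁻¹ * x)))
  map_one' := by
    refine LinearMap.ext fun f => funext fun x => ?_
    simp
  map_mul' a b := by
    refine LinearMap.ext fun f => funext fun x => ?_
    simp [RegularWreathProduct.mul_left, mul_assoc]

theorem wreathRep_apply (τ : D →* Module.End F U) (a : RegularWreathProduct D Q) (f : Q → U)
    (x : Q) : wreathRep τ a f x = τ (a.left x) (f (a.right⁻¹ * x)) := rfl

theorem wreathRep_injective [Nontrivial U] (τ : D →* Module.End F U)
    (hτ : Function.Injective τ) : Function.Injective (wreathRep (Q := Q) τ) := by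
  classical
  rw [injective_iff_map_eq_one]
  intro a ha
  have key : ∀ (f : Q → U) (x : Q), τ (a.left x) (f (a.right⁻¹ * x)) = f x := by
    intro f x
    rw [← wreathRep_apply, ha]
    rfl
  have hr : a.right = 1 := by
    by_contra hne
    obtain ⟨u, hu⟩ := exists_ne (0 : U)
    have h1 := key (fun y => if y = 1 then u else 0) a.right
    simp only [inv_mul_cancel, if_true, if_neg hne] at h1
    exact hu (rep_injective_apply τ _ (h1.trans (map_zero _).symm))
  have hl : ∀ x, a.left x = 1 := by
    intro x
    apply hτ
    rw [map_one]
    refine LinearMap.ext fun u => ?_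
    have h1 := key (fun _ => u) x
    simpa using h1
  apply RegularWreathProduct.ext
  · funext x
    exact hl x
  · exact hr

end Wreath

section Embed

variable {X : Type*} [Group X] {F : Type*} [Field F] {V : Type*} [AddCommGroup V] [Module F V]

/-- Extend a representation by a trivial summand. -/
def padRep (τ : X →* Module.End F V) (W : Type*) [AddCommGroup W] [Module F W] :
    X →* Module.End F (V × W) where
  toFun x := (τ x).prodMap LinearMap.id
  map_one' := by
    refine LinearMap.ext fun v => Prod.ext ?_ ?_
    · simp
    · simp
  map_mul' x y := by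
    refine LinearMap.ext fun v => Prod.ext ?_ ?_
    · simp
    · simp

theorem padRep_injective (τ : X →* Module.End F V) (hτ : Function.Injective τ) (W : Type*)
    [AddCommGroup W] [Module F W] : Function.Injective (padRep τ W) := by
  intro x y hxy
  apply hτ
  refine LinearMap.ext fun v => ?_
  have h2 := congrArg (fun f : Module.End F (V × W) => (f (v, 0)).1) hxy
  simpa [padRep] using h2

theorem exists_injective_to_GL [FiniteDimensional F V] (τ : X →* Module.End F V)
    (hτ : Function.Injective τ) (n : ℕ) (hn : Module.finrank F V ≤ n) :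
    ∃ j : X →* Matrix.GeneralLinearGroup (Fin n) F, Function.Injective j := by
  classical
  have hfr : Module.finrank F (V × (Fin (n - Module.finrank F V) → F)) =
      Module.finrank F (Fin n → F) := by
    rw [Module.finrank_prod, Module.finrank_fin_fun, Module.finrank_fin_fun]
    omega
  let e : (V × (Fin (n - Module.finrank F V) → F)) ≃ₗ[F] (Fin n → F) :=
    LinearEquiv.ofFinrankEq _ _ hfr
  let c1 : Module.End F (V × (Fin (n - Module.finrank F V) → F)) →* Module.End F (Fin n → F) :=
    ((e.conjAlgEquiv F : Module.End F (V × (Fin (n - Module.finrank F V) → F)) ≃ₐ[F]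
      Module.End F (Fin n → F)) : _ →* _)
  let c2 : Module.End F (Fin n → F) →* Matrix (Fin n) (Fin n) F :=
    ((LinearMap.toMatrixAlgEquiv' : Module.End F (Fin n → F) ≃ₐ[F] Matrix (Fin n) (Fin n) F) :
      _ →* _)
  have hc1 : Function.Injective c1 := (e.conjAlgEquiv F).injective
  have hc2 : Function.Injective c2 :=
    (LinearMap.toMatrixAlgEquiv' : Module.End F (Fin n → F) ≃ₐ[F] Matrix (Fin n) (Fin n) F).injective
  let σ : X →* Matrix (Fin n) (Fin n) F := c2.comp (c1.comp (padRep τ _))
  have hσ : Function.Injective σ := hc2.comp (hc1.comp (padRep_injective τ hτ _))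
  refine ⟨σ.toHomUnits, ?_⟩
  intro x y hxy
  apply hσ
  have := congrArg Units.val hxy
  simpa using this

end Embed

end Cfsg.Agent.Lib.Helper3.LinP11
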