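import Cfsg.Agent.Lib.Helper3.LinP11

/-!
# Linear p-groups (part 12): Sylow subgroups of `GL_n(q)` in cross characteristic
-/

set_option autoImplicit false

namespace Cfsg.Agent.Lib.Helper3.LinP12

open Cfsg.Agent.Lib.Helper3.LinP1 Cfsg.Agent.Lib.Helper3.LinP2 Cfsg.Agent.Lib.Helper3.LinP3
  Cfsg.Agent.Lib.Helper3.LinP6 Cfsg.Agent.Lib.Helper3.LinP7 Cfsg.Agent.Lib.Helper3.LinP8
  Cfsg.Agent.Lib.Helper3.LinP9 Cfsg.Agent.Lib.Helper3.LinP10 Cfsg.Agent.Lib.Helper3.LinP11

universe u

section Upper

theorem orderOf_card_pos {F : Type*} [Field F] [Fintype F] (p : ℕ) [Fact p.Prime]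
    (hpq : ¬ p ∣ Fintype.card F) : 0 < orderOf ((Fintype.card F : ℕ) : ZMod p) := by
  have hq0 : ((Fintype.card F : ℕ) : ZMod p) ≠ 0 := by
    intro h
    exact hpq ((ZMod.natCast_eq_zero_iff _ _).mp h)
  rw [orderOf_pos_iff, isOfFinOrder_iff_pow_eq_one]
  exact ⟨p - 1, Nat.sub_pos_of_lt (Fact.out : p.Prime).one_lt, ZMod.pow_card_sub_one_eq_one hq0⟩

theorem cross_char_derivedSeries_p {F : Type*} [Field F] [Fintype F] (p : ℕ) [Fact p.Prime]
    (hpq : ¬ p ∣ Fintype.card F) {P : Type*} [Group P] [Finite P] (hP : IsPGroup p P) (n : ℕ)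
    (ι : P →* Matrix.GeneralLinearGroup (Fin n) F) (hι : Function.Injective ι) :
    derivedSeries P (Nat.log p (n / orderOf ((Fintype.card F : ℕ) : ZMod p)) + 1) = ⊥ := by
  set e := orderOf ((Fintype.card F : ℕ) : ZMod p) with he
  have hpF := natCast_ne_zero_of_not_dvd_card p hpq
  have hpL : (p : AlgebraicClosure F) ≠ 0 := by
    intro h
    apply hpF
    apply (algebraMap F (AlgebraicClosure F)).injective
    rw [map_natCast, h, map_zero]
  have : NeZero (Nat.card P : AlgebraicClosure F) := by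
    obtain ⟨a, ha⟩ := IsPGroup.iff_card.mp hP
    rw [ha, Nat.cast_pow]
    exact ⟨pow_ne_zero _ hpL⟩
  have hepos : 0 < e := orderOf_card_pos p hpq
  set ρ := (glToEnd F (AlgebraicClosure F) n).comp ι with hρ
  have hρinj : Function.Injective ρ := (glToEnd_injective F (AlgebraicClosure F) n).comp hι
  rw [eq_bot_iff]
  intro g hg
  rw [Subgroup.mem_bot]
  apply hρinj
  rw [map_one]
  have hfix : ∀ W, IsIrr ρ W → ∀ w ∈ W, ρ g w = w := by
    intro W hW
    by_cases hker : (subRep ρ W hW.1).ker = ⊤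
    · have hgk : g ∈ (subRep ρ W hW.1).ker := by rw [hker]; trivial
      exact (mem_ker_subRep ρ W hW.1 g).mp hgk
    · have h1 := mul_finrank_le_of_irr p hP n ι W hW hker
      have h2 : Module.finrank (AlgebraicClosure F) W ≤ n / e := by
        rw [Nat.le_div_iff_mul_le hepos, mul_comm]
        exact h1
      have h3 : derivedSeries P (Nat.log p (Module.finrank (AlgebraicClosure F) W) + 1) ≤
          (subRep ρ W hW.1).ker :=
        nonfaithful_of_faithful p _ hP (subRep ρ W hW.1)
          (fun τ hτ => derivedSeries_eq_bot_of_faithful_rep_p p (AlgebraicClosure F) hpL _ _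
            (hP.to_quotient _) W rfl τ hτ)
      have h4 : g ∈ (subRep ρ W hW.1).ker :=
        h3 (derivedSeries_antitone P (Nat.succ_le_succ (Nat.log_mono_right h2)) hg)
      exact (mem_ker_subRep ρ W hW.1 g).mp h4
  have htop : IsInv ρ (⊤ : Submodule (AlgebraicClosure F) (Fin n → AlgebraicClosure F)) :=
    fun _ _ _ => trivial
  refine LinearMap.ext fun v => ?_
  exact fixes_of_fixes_irr ρ g hfix _ ⊤ htop rfl v trivial

end Upper

section Lower

variable {F : Type u} [Field F] [Fintype F] (p : ℕ) [Fact p.Prime]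

theorem exists_order_p_in_GL (hpq : ¬ p ∣ Fintype.card F) :
    ∃ c : Matrix.GeneralLinearGroup (Fin (orderOf ((Fintype.card F : ℕ) : ZMod p))) F,
      orderOf c = p := by
  set e := orderOf ((Fintype.card F : ℕ) : ZMod p) with he
  have hepos : 0 < e := orderOf_card_pos p hpq
  have hdvd : p ∣ Nat.card (Matrix.GeneralLinearGroup (Fin e) F) := by
    rw [Matrix.card_GL_field]
    refine dvd_trans ?_ (Finset.dvd_prod_of_mem _ (Finset.mem_univ (⟨0, hepos⟩ : Fin e)))
    simp only [pow_zero]
    have h1 : ((Fintype.card F : ℕ) : ZMod p) ^ e = 1 := pow_orderOf_eq_one _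
    have h2 : ((1 : ℕ) : ZMod p) = ((Fintype.card F ^ e : ℕ) : ZMod p) := by
      rw [Nat.cast_pow, h1, Nat.cast_one]
    have h3 := (ZMod.natCast_eq_natCast_iff _ _ _).mp h2
    exact (Nat.modEq_iff_dvd' (Nat.one_le_pow _ _ Fintype.card_pos)).mp h3
  exact exists_prime_orderOf_dvd_card' p hdvd

theorem tower (hpq : ¬ p ∣ Fintype.card F) (k : ℕ) :
    ∃ (X : Type u) (_ : Group X), Finite X ∧ IsPGroup p X ∧ derivedSeries X k ≠ ⊥ ∧
      ∃ j : X →* Matrix.GeneralLinearGroup
        (Fin (orderOf ((Fintype.card F : ℕ) : ZMod p) * p ^ k)) F, Function.Injective j := by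
  set e := orderOf ((Fintype.card F : ℕ) : ZMod p) with he
  have hepos : 0 < e := orderOf_card_pos p hpq
  have hp1 : 1 < p := (Fact.out : p.Prime).one_lt
  induction k with
  | zero =>
    obtain ⟨c, hc⟩ := exists_order_p_in_GL p hpq
    have hcard : Nat.card (Subgroup.zpowers c) = p := by rw [Nat.card_zpowers, hc]
    have hpX : IsPGroup p (Subgroup.zpowers c) := IsPGroup.of_card (n := 1) (by rw [hcard, pow_one])
    have hnt : Nontrivial (Subgroup.zpowers c) := by
      rw [← Finite.one_lt_card_iff_nontrivial, hcard]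
      exact hp1
    refine ⟨Subgroup.zpowers c, inferInstance, inferInstance, hpX, ?_, ?_⟩
    · rw [derivedSeries_zero]
      have := Subgroup.nontrivial_iff.mpr hnt
      exact top_ne_bot
    · exact exists_injective_to_GL ((glToEnd F F e).comp (Subgroup.zpowers c).subtype)
        ((glToEnd_injective F F e).comp (Subgroup.zpowers c).subtype_injective) _
        (by rw [Module.finrank_fin_fun]; simp)
  | succ k ih =>
    obtain ⟨X, hXg, hXf, hpX, hD, j, hj⟩ := ih
    have hQcard : Nat.card (ULift.{u} (Multiplicative (ZMod p))) = p := by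
      rw [Nat.card_congr Equiv.ulift, Nat.card_congr Multiplicative.toAdd, Nat.card_zmod]
    have hmpos : 0 < e * p ^ k := Nat.mul_pos hepos (pow_pos (by omega) k)
    have : Nonempty (Fin (e * p ^ k)) := ⟨⟨0, hmpos⟩⟩
    refine ⟨RegularWreathProduct X (ULift.{u} (Multiplicative (ZMod p))), inferInstance,
      inferInstance, ?_, ?_, ?_⟩
    · obtain ⟨a, ha⟩ := IsPGroup.iff_card.mp hpX
      refine IsPGroup.of_card (n := a * p + 1) ?_
      rw [RegularWreathProduct.card, hQcard, ha, ← pow_mul, pow_succ]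
    · refine Cfsg.Agent.Lib.Helper4.SylSym.derivedSeries_wreath_ne_bot
        (ULift.up (Multiplicative.ofAdd (1 : ZMod p))) ?_ k hD
      intro h
      have h1 : Multiplicative.ofAdd (1 : ZMod p) = 1 := congrArg ULift.down h
      have h2 : (1 : ZMod p) = 0 := by
        have := congrArg Multiplicative.toAdd h1
        simpa using this
      exact one_ne_zero h2
    · have hτ : Function.Injective (wreathRep (Q := ULift.{u} (Multiplicative (ZMod p)))
          ((glToEnd F F (e * p ^ k)).comp j)) :=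
        wreathRep_injective _ ((glToEnd_injective F F _).comp hj)
      refine exists_injective_to_GL _ hτ _ ?_
      have : Fintype (ULift.{u} (Multiplicative (ZMod p))) := Fintype.ofFinite _
      rw [Module.finrank_pi_fintype]
      simp only [Module.finrank_fin_fun, Finset.sum_const, Finset.card_univ, smul_eq_mul]
      rw [← Nat.card_eq_fintype_card, hQcard, pow_succ]
      exact le_of_eq (by ring)

theorem sylow_derivedSeries_ne_bot (hpq : ¬ p ∣ Fintype.card F) (n : ℕ)
    (hn : orderOf ((Fintype.card F : ℕ) : ZMod p) ≤ n)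
    (P : Sylow p (Matrix.GeneralLinearGroup (Fin n) F)) :
    derivedSeries ↥(P : Subgroup (Matrix.GeneralLinearGroup (Fin n) F))
      (Nat.log p (n / orderOf ((Fintype.card F : ℕ) : ZMod p))) ≠ ⊥ := by
  set e := orderOf ((Fintype.card F : ℕ) : ZMod p) with he
  have hepos : 0 < e := orderOf_card_pos p hpq
  set k := Nat.log p (n / e) with hk
  have hdivpos : n / e ≠ 0 := (Nat.div_pos hn hepos).ne'
  have h1 : p ^ k ≤ n / e := Nat.pow_log_le_self p hdivpos
  have h2 : e * p ^ k ≤ n := by
    rw [mul_comm]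
    exact (Nat.le_div_iff_mul_le hepos).mp h1
  obtain ⟨X, hXg, hXf, hpX, hD, j, hj⟩ := tower p hpq k
  obtain ⟨j', hj'⟩ := exists_injective_to_GL ((glToEnd F F _).comp j)
    ((glToEnd_injective F F _).comp hj) n (by rw [Module.finrank_fin_fun]; exact h2)
  have hpr : IsPGroup p j'.range := hpX.of_surjective j'.rangeRestrict j'.rangeRestrict_surjective
  obtain ⟨Q, hQ⟩ := hpr.exists_le_sylow
  let f : X →* ↥(Q : Subgroup (Matrix.GeneralLinearGroup (Fin n) F)) :=
    j'.codRestrict (Q : Subgroup (Matrix.GeneralLinearGroup (Fin n) F)) (fun x => hQ ⟨x, rfl⟩)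
  have hf : Function.Injective f := by
    intro x y hxy
    apply hj'
    exact congrArg Subtype.val hxy
  let g : X →* ↥(P : Subgroup (Matrix.GeneralLinearGroup (Fin n) F)) :=
    (Sylow.equiv Q P).toMonoidHom.comp f
  have hg : Function.Injective g := (Sylow.equiv Q P).injective.comp hf
  intro hbot
  have h3 := derivedSeries_le_ker_of_eq_bot g k hbot
  rw [(MonoidHom.ker_eq_bot_iff g).mpr hg] at h3
  exact hD (eq_bot_iff.mpr h3)

end Lower

end Cfsg.Agent.Lib.Helper3.LinP12
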