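import Cfsg.Agent.Lib.Helper3.LinP1

/-!
# Linear p-groups: derived length bound (part 2): coprime characteristic, algebraically closed
-/

set_option autoImplicit false

namespace Cfsg.Agent.Lib.Helper3.LinP2

open Cfsg.Agent.Lib.Helper3.LinP1

section Red

variable {K : Type*} [Field K] {V : Type*} [AddCommGroup V] [Module K V]
variable {G : Type*} [Group G]

theorem one_add_sq_zero_pow (N : Module.End K V) (hN : N * N = 0) (m : ℕ) :
    (1 + N) ^ m = 1 + (m : K) • N := by
  induction m with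
  | zero => simp
  | succ m ih =>
    rw [pow_succ, ih, mul_add, mul_one, add_mul, one_mul, smul_mul_assoc, hN, smul_zero, add_zero,
      Nat.cast_succ, add_smul, one_smul]
    abel

theorem ker_sub_inf_ker_quot_eq_bot (p : ℕ) [Fact p.Prime] (hpK : (p : K) ≠ 0)
    (hG : IsPGroup p G) (ρ : G →* Module.End K V) (hρ : Function.Injective ρ)
    (W : Submodule K V) (hW : IsInv ρ W) :
    (subRep ρ W hW).ker ⊓ (quotRep ρ W hW).ker = ⊥ := by
  rw [eq_bot_iff]
  intro g hg
  rw [Subgroup.mem_inf, mem_ker_subRep, mem_ker_quotRep] at hg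
  obtain ⟨h1, h2⟩ := hg
  rw [Subgroup.mem_bot]
  set N : Module.End K V := ρ g - 1 with hNdef
  have hNN : N * N = 0 := by
    ext v
    have hv : N v ∈ W := by
      simpa [hNdef] using h2 v
    have h3 := h1 (N v) hv
    simp only [Module.End.mul_apply, LinearMap.zero_apply]
    have h4 : N (N v) = ρ g (N v) - N v := by
      rw [hNdef]
      simp
    rw [h4, h3, sub_self]
  have hρg : ρ g = 1 + N := by rw [hNdef]; abel
  obtain ⟨j, hj⟩ := hG g
  have h3 : (1 : Module.End K V) = 1 + ((p ^ j : ℕ) : K) • N := by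
    rw [← one_add_sq_zero_pow N hNN, ← hρg, ← map_pow, hj, map_one]
  have h4 : ((p ^ j : ℕ) : K) • N = 0 := by
    have := h3.symm
    rwa [add_eq_left] at this
  have h5 : N = 0 := by
    rcases smul_eq_zero.mp h4 with h | h
    · exfalso
      rw [Nat.cast_pow] at h
      exact hpK (pow_eq_zero_iff (n := j) (by
        rintro rfl
        simp at h) |>.mp h)
    · exact h
  apply hρ
  rw [hρg, h5, add_zero, map_one]

end Red

section Grp

variable {G : Type*} [Group G]

theorem exists_second_center (p : ℕ) [Fact p.Prime] [Finite G] (hG : IsPGroup p G)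
    (hnc : ¬ ∀ x y : G, x * y = y * x) :
    ∃ a : G, a ∉ Subgroup.center G ∧ ∀ g : G, g * a * g⁻¹ * a⁻¹ ∈ Subgroup.center G := by
  have hZ : Subgroup.center G ≠ ⊤ := by
    intro h
    apply hnc
    intro x y
    have hy : y ∈ Subgroup.center G := by rw [h]; trivial
    exact Subgroup.mem_center_iff.mp hy x
  have hQ : IsPGroup p (G ⧸ Subgroup.center G) := hG.to_quotient _
  haveI : Nontrivial (G ⧸ Subgroup.center G) := by
    by_contra hnt
    rw [not_nontrivial_iff_subsingleton] at hnt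
    apply hZ
    rw [eq_top_iff]
    intro x _
    have : (x : G ⧸ Subgroup.center G) = 1 := Subsingleton.elim _ _
    exact (QuotientGroup.eq_one_iff x).mp this
  haveI := hQ.center_nontrivial
  obtain ⟨⟨xbar, hxbar⟩, hne⟩ := exists_ne (1 : Subgroup.center (G ⧸ Subgroup.center G))
  obtain ⟨a, rfl⟩ := QuotientGroup.mk_surjective xbar
  refine ⟨a, ?_, ?_⟩
  · intro ha
    apply hne
    apply Subtype.ext
    exact (QuotientGroup.eq_one_iff a).mpr ha
  · intro g
    rw [← QuotientGroup.eq_one_iff]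
    have h1 := Subgroup.mem_center_iff.mp hxbar (g : G ⧸ Subgroup.center G)
    rw [QuotientGroup.mk_mul, QuotientGroup.mk_mul, QuotientGroup.mk_mul, h1, QuotientGroup.mk_inv,
      QuotientGroup.mk_inv]
    group

/-- For `a` in the second centre, the commutator map `g ↦ [g, a]` as a homomorphism
into the centre. -/
def commHom (a : G) (ha : ∀ g : G, g * a * g⁻¹ * a⁻¹ ∈ Subgroup.center G) :
    G →* Subgroup.center G where
  toFun g := ⟨g * a * g⁻¹ * a⁻¹, ha g⟩
  map_one' := by
    apply Subtype.ext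
    simp
  map_mul' g h := by
    apply Subtype.ext
    have hz := Subgroup.mem_center_iff.mp (ha h)
    show g * h * a * (g * h)⁻¹ * a⁻¹ = (g * a * g⁻¹ * a⁻¹) * (h * a * h⁻¹ * a⁻¹)
    calc g * h * a * (g * h)⁻¹ * a⁻¹
        = g * (h * a * h⁻¹ * a⁻¹) * (a * g⁻¹ * a⁻¹) := by group
      _ = (h * a * h⁻¹ * a⁻¹) * g * (a * g⁻¹ * a⁻¹) := by rw [hz g]
      _ = (h * a * h⁻¹ * a⁻¹) * (g * a * g⁻¹ * a⁻¹) := by group
      _ = (g * a * g⁻¹ * a⁻¹) * (h * a * h⁻¹ * a⁻¹) := (hz _).symm

theorem mem_ker_commHom (a : G) (ha : ∀ g : G, g * a * g⁻¹ * a⁻¹ ∈ Subgroup.center G) (g : G) :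
    g ∈ (commHom a ha).ker ↔ g * a = a * g := by
  rw [MonoidHom.mem_ker]
  constructor
  · intro h
    have h1 : g * a * g⁻¹ * a⁻¹ = 1 := congrArg Subtype.val h
    calc g * a = (g * a * g⁻¹ * a⁻¹) * (a * g) := by group
      _ = a * g := by rw [h1, one_mul]
  · intro h
    apply Subtype.ext
    show g * a * g⁻¹ * a⁻¹ = 1
    rw [h]
    group

theorem nonfaithful_of_faithful {K : Type*} [Field K] (p : ℕ) (k : ℕ) {H : Type*} [Group H]
    [Finite H] (hH : IsPGroup p H) {V' : Type*} [AddCommGroup V'] [Module K V']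
    (σ : H →* Module.End K V')
    (hfaith : ∀ τ : (H ⧸ σ.ker) →* Module.End K V', Function.Injective τ →
      derivedSeries (H ⧸ σ.ker) k = ⊥) :
    derivedSeries H k ≤ σ.ker := by
  have hinj : Function.Injective (QuotientGroup.lift σ.ker σ le_rfl) := by
    rw [injective_iff_map_eq_one]
    intro x hx
    obtain ⟨h, rfl⟩ := QuotientGroup.mk_surjective x
    rw [QuotientGroup.lift_mk] at hx
    exact (QuotientGroup.eq_one_iff h).mpr (MonoidHom.mem_ker.mpr hx)
  have := derivedSeries_le_ker_of_eq_bot (QuotientGroup.mk' σ.ker) k (hfaith _ hinj)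
  rwa [QuotientGroup.ker_mk'] at this

end Grp

end Cfsg.Agent.Lib.Helper3.LinP2
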