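import Cfsg.Agent.Lib.Helper3.LinP2

/-!
# Linear p-groups: derived length bound (part 3): the main induction in coprime characteristic
-/

set_option autoImplicit false

namespace Cfsg.Agent.Lib.Helper3.LinP3

open Cfsg.Agent.Lib.Helper3.LinP1 Cfsg.Agent.Lib.Helper3.LinP2

universe u v w

section Schur

variable {K : Type*} [Field K] [IsAlgClosed K] {V : Type*} [AddCommGroup V] [Module K V]
variable {G : Type*} [Group G]

theorem central_scalar [FiniteDimensional K V] [Nontrivial V] (ρ : G →* Module.End K V)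
    (hirr : ∀ W : Submodule K V, IsInv ρ W → W ≠ ⊥ → W = ⊤) (z : G)
    (hz : z ∈ Subgroup.center G) : ∃ c : K, ∀ v, ρ z v = c • v := by
  obtain ⟨c, hc⟩ := Module.End.exists_eigenvalue (ρ z)
  refine ⟨c, ?_⟩
  have hinv : IsInv ρ (Module.End.eigenspace (ρ z) c) := by
    intro g w hw
    rw [Module.End.mem_eigenspace_iff] at hw ⊢
    rw [← rep_mul_apply, ← Subgroup.mem_center_iff.mp hz g, rep_mul_apply, hw, map_smul]
  have htop := hirr _ hinv hc
  intro v
  have : v ∈ Module.End.eigenspace (ρ z) c := by rw [htop]; trivial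
  exact Module.End.mem_eigenspace_iff.mp this

end Schur

section Main

variable (p : ℕ) [Fact p.Prime] (K : Type w) [Field K] [IsAlgClosed K]

theorem irreducible_step (d : ℕ) {G : Type u} [Group G] [Finite G] (hG : IsPGroup p G)
    {V : Type v} [AddCommGroup V] [Module K V] [FiniteDimensional K V] [Nontrivial V]
    (hd : Module.finrank K V = d) (ρ : G →* Module.End K V) (hρ : Function.Injective ρ)
    (hnc : ¬ ∀ x y : G, x * y = y * x)
    (hirr : ∀ W : Submodule K V, IsInv ρ W → W ≠ ⊥ → W = ⊤)
    (IH' : ∀ d' < d, ∀ (H : Type u) [Group H] [Finite H], IsPGroup p H →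
      ∀ (V' : Type v) [AddCommGroup V'] [Module K V'] [FiniteDimensional K V'],
      Module.finrank K V' = d' →
      ∀ σ : H →* Module.End K V', derivedSeries H (Nat.log 2 d' + 1) ≤ σ.ker) :
    derivedSeries G (Nat.log 2 d + 1) = ⊥ := by
  obtain ⟨a, haZ, ha⟩ := exists_second_center p hG hnc
  set M : Subgroup G := (commHom a ha).ker with hM
  have hMcomm : commutator G ≤ M := by
    rw [hM, commutator_def, Subgroup.commutator_le]
    intro x _ y _
    rw [MonoidHom.mem_ker, map_commutatorElement, commutatorElement_eq_one_iff_mul_comm]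
    apply Subtype.ext
    exact (Subgroup.mem_center_iff.mp (commHom a ha y).2 (commHom a ha x).1)
  have hMmem : ∀ g, g ∈ M ↔ g * a = a * g := mem_ker_commHom a ha
  obtain ⟨μ, hμ⟩ := Module.End.exists_eigenvalue (ρ a)
  set U := Module.End.eigenspace (ρ a) μ with hU
  have hUbot : U ≠ ⊥ := hμ
  have hμ0 : μ ≠ 0 := by
    intro h0
    obtain ⟨u, hu⟩ := hμ.exists_hasEigenvector
    have h1 : ρ a u = μ • u := Module.End.mem_eigenspace_iff.mp hu.1
    rw [h0, zero_smul] at h1
    have := rep_injective_apply ρ a (h1.trans (map_zero _).symm)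
    exact hu.2 this
  have hsc := central_scalar ρ hirr
  let Ug : G → Submodule K V := fun g => U.map (ρ g)
  have hUg_inv : ∀ g, IsInv (ρ.comp M.subtype) (Ug g) := by
    intro g m w hw
    obtain ⟨u, hu, rfl⟩ := Submodule.mem_map.mp hw
    refine Submodule.mem_map.mpr ⟨ρ (g⁻¹ * m * g) u, ?_, ?_⟩
    · have hm' : g⁻¹ * (m : G) * g ∈ M := by
        have := (inferInstance : M.Normal).conj_mem (m : G) m.2 g⁻¹
        simpa using this
      have hc := (hMmem _).mp hm'
      rw [hU, Module.End.mem_eigenspace_iff, ← rep_mul_apply, ← hc, rep_mul_apply,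
        Module.End.mem_eigenspace_iff.mp hu, map_smul]
    · show ρ g (ρ (g⁻¹ * m * g) u) = ρ (m : G) (ρ g u)
      rw [← rep_mul_apply, ← rep_mul_apply]
      congr 2
      group
  have hsup_inv : IsInv ρ (⨆ g, Ug g) := by
    intro h w hw
    have h1 : ρ h w ∈ (⨆ g, Ug g).map (ρ h) := Submodule.mem_map_of_mem hw
    rw [Submodule.map_iSup] at h1
    refine (iSup_le ?_ : (⨆ g, (Ug g).map (ρ h)) ≤ ⨆ g, Ug g) h1
    intro g
    refine le_trans ?_ (le_iSup Ug (h * g))
    rintro x ⟨y, ⟨u, hu, rfl⟩, rfl⟩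
    exact ⟨u, hu, rep_mul_apply ρ h g u⟩
  have hsup_top : ⨆ g, Ug g = ⊤ := by
    refine hirr _ hsup_inv ?_
    intro h
    apply hUbot
    rw [eq_bot_iff, ← h]
    refine le_trans ?_ (le_iSup Ug 1)
    intro u hu
    exact ⟨u, hu, rep_one_apply ρ u⟩
  have hex : ∃ g0, g0 ∉ M := by
    by_contra h
    push Not at h
    apply haZ
    rw [Subgroup.mem_center_iff]
    intro g
    exact (hMmem g).mp (h g)
  obtain ⟨g0, hg0⟩ := hex
  have hdisj : Disjoint U (Ug g0) := by
    rw [Submodule.disjoint_def]
    intro w hwU hwg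
    obtain ⟨u, hu, rfl⟩ := hwg
    obtain ⟨c, hc⟩ := hsc _ (ha g0)
    have hc1 : c ≠ 1 := by
      intro h1
      apply hg0
      rw [hMmem]
      have h2 : ρ (g0 * a * g0⁻¹ * a⁻¹) = ρ 1 := by
        ext v
        rw [hc, h1, one_smul, rep_one_apply]
      have h3 := hρ h2
      calc g0 * a = (g0 * a * g0⁻¹ * a⁻¹) * (a * g0) := by group
        _ = a * g0 := by rw [h3, one_mul]
    have hu' : ρ a u = μ • u := Module.End.mem_eigenspace_iff.mp hu
    have hw' : ρ a (ρ g0 u) = μ • ρ g0 u := Module.End.mem_eigenspace_iff.mp hwU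
    have h4 : ρ (g0 * a) u = μ • ρ g0 u := by
      rw [rep_mul_apply, hu', map_smul]
    have h5 : ρ (g0 * a) u = c • (μ • ρ g0 u) := by
      have : g0 * a = (g0 * a * g0⁻¹ * a⁻¹) * (a * g0) := by group
      rw [this, rep_mul_apply, hc, rep_mul_apply, hw']
    rw [h4] at h5
    have h6 : ((1 - c) * μ) • ρ g0 u = 0 := by
      rw [mul_smul, sub_smul, one_smul, ← h5, sub_self]
    rcases smul_eq_zero.mp h6 with h | h
    · exfalso
      rcases mul_eq_zero.mp h with h | h
      · exact hc1 (sub_eq_zero.mp h).symm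
      · exact hμ0 h
    · exact h
  have hfr : ∀ g, Module.finrank K (Ug g) = Module.finrank K U := fun g =>
    (LinearEquiv.finrank_eq
      (Submodule.equivMapOfInjective (ρ g) (rep_injective_apply ρ g) U)).symm
  have h2U : 2 * Module.finrank K U ≤ d := by
    have := Submodule.finrank_add_finrank_le_of_disjoint hdisj
    rw [hfr g0, hd] at this
    omega
  have hUpos : 1 ≤ Module.finrank K U := Submodule.one_le_finrank_iff.mpr hUbot
  have hd2 : 2 ≤ d := by omega
  have hker : ∀ g, derivedSeries M (Nat.log 2 d) ≤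
      (subRep (ρ.comp M.subtype) (Ug g) (hUg_inv g)).ker := by
    intro g
    have hlt : Module.finrank K (Ug g) < d := by rw [hfr]; omega
    have h1 := IH' _ hlt M (hG.to_subgroup M) (Ug g) rfl
      (subRep (ρ.comp M.subtype) (Ug g) (hUg_inv g))
    refine le_trans (derivedSeries_antitone M ?_) h1
    rw [hfr]
    have h3 : Module.finrank K U ≤ d / 2 := by omega
    have h4 := Nat.log_mono_right (b := 2) h3
    rw [Nat.log_div_base] at h4
    have h5 : 0 < Nat.log 2 d := Nat.log_pos (by norm_num) hd2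
    omega
  have hMbot : derivedSeries M (Nat.log 2 d) = ⊥ := by
    rw [eq_bot_iff]
    intro m hm
    rw [Subgroup.mem_bot]
    have hfix : ∀ g, ∀ w ∈ Ug g, ρ (m : G) w = w := fun g =>
      (mem_ker_subRep _ _ _ m).mp (hker g hm)
    have h0 : (⊤ : Submodule K V) ≤ LinearMap.ker (ρ (m : G) - 1) := by
      rw [← hsup_top]
      apply iSup_le
      intro g w hw
      rw [LinearMap.mem_ker, LinearMap.sub_apply, hfix g w hw]
      simp
    have h1 : ρ (m : G) = 1 := by
      ext v
      have := h0 (Submodule.mem_top : v ∈ ⊤)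
      rw [LinearMap.mem_ker, LinearMap.sub_apply, sub_eq_zero] at this
      exact this
    apply Subtype.ext
    apply hρ
    rw [h1, Subgroup.coe_one, map_one]
  exact derivedSeries_succ_eq_bot_of_le M hMcomm _ hMbot

theorem derivedSeries_eq_bot_of_faithful_rep (hpK : (p : K) ≠ 0) :
    ∀ (d : ℕ) (G : Type u) [Group G] [Finite G], IsPGroup p G →
    ∀ (V : Type v) [AddCommGroup V] [Module K V] [FiniteDimensional K V],
    Module.finrank K V = d →
    ∀ ρ : G →* Module.End K V, Function.Injective ρ →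
      derivedSeries G (Nat.log 2 d + 1) = ⊥ := by
  intro d
  induction d using Nat.strong_induction_on with
  | _ d IH =>
  intro G _ _ hG V _ _ _ hd ρ hρ
  have IH' : ∀ d' < d, ∀ (H : Type u) [Group H] [Finite H], IsPGroup p H →
      ∀ (V' : Type v) [AddCommGroup V'] [Module K V'] [FiniteDimensional K V'],
      Module.finrank K V' = d' →
      ∀ σ : H →* Module.End K V', derivedSeries H (Nat.log 2 d' + 1) ≤ σ.ker := by
    intro d' hd' H _ _ hH V' _ _ _ hV' σ
    exact nonfaithful_of_faithful p _ hH σ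
      (fun τ hτ => IH d' hd' _ (hH.to_quotient _) V' hV' τ hτ)
  by_cases hcomm : ∀ x y : G, x * y = y * x
  · exact derivedSeries_eq_bot_mono (by omega) (derivedSeries_one_eq_bot_of_comm hcomm)
  by_cases hred : ∃ W : Submodule K V, IsInv ρ W ∧ W ≠ ⊥ ∧ W ≠ ⊤
  · obtain ⟨W, hW, hWb, hWt⟩ := hred
    have hlt1 : Module.finrank K W < d := hd ▸ Submodule.finrank_lt hWt
    have hpos1 : 1 ≤ Module.finrank K W := Submodule.one_le_finrank_iff.mpr hWb
    have hsum := Submodule.finrank_quotient_add_finrank W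
    have hlt2 : Module.finrank K (V ⧸ W) < d := by omega
    have h1 := IH' _ hlt1 G hG W rfl (subRep ρ W hW)
    have h2 := IH' _ hlt2 G hG (V ⧸ W) rfl (quotRep ρ W hW)
    have h3 : derivedSeries G (Nat.log 2 d + 1) ≤
        (subRep ρ W hW).ker ⊓ (quotRep ρ W hW).ker := by
      refine le_inf (le_trans (derivedSeries_antitone G ?_) h1)
        (le_trans (derivedSeries_antitone G ?_) h2)
      · exact Nat.succ_le_succ (Nat.log_mono_right hlt1.le)
      · exact Nat.succ_le_succ (Nat.log_mono_right hlt2.le)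
    rw [ker_sub_inf_ker_quot_eq_bot p hpK hG ρ hρ W hW] at h3
    exact eq_bot_iff.mpr h3
  · push Not at hred
    have : Nontrivial V := by
      by_contra hnt
      rw [not_nontrivial_iff_subsingleton] at hnt
      apply hcomm
      intro x y
      apply hρ
      ext v
      exact Subsingleton.elim _ _
    exact irreducible_step p K d hG hd ρ hρ hcomm hred IH'

end Main

end Cfsg.Agent.Lib.Helper3.LinP3
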