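import Cfsg.Agent.Lib.Helper3.LinP2

/-!
# Linear p-groups: derived length bound (part 4): the defining characteristic
-/

set_option autoImplicit false

namespace Cfsg.Agent.Lib.Helper3.LinP4

open Cfsg.Agent.Lib.Helper3.LinP1 Cfsg.Agent.Lib.Helper3.LinP2

universe u v w

section Fixed

variable (p : ℕ) [Fact p.Prime] (K : Type w) [Field K] [CharP K p]

/-- The stabiliser of a vector. -/
def vecStab {G : Type*} [Group G] {V : Type*} [AddCommGroup V] [Module K V]
    (ρ : G →* Module.End K V) (w : V) : Subgroup G where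
  carrier := {h | ρ h w = w}
  mul_mem' := by
    intro a b ha hb
    simp only [Set.mem_setOf_eq] at ha hb ⊢
    rw [rep_mul_apply, hb, ha]
  one_mem' := rep_one_apply ρ w
  inv_mem' := by
    intro a ha
    simp only [Set.mem_setOf_eq] at ha ⊢
    conv_lhs => rw [← ha]
    rw [← rep_mul_apply, inv_mul_cancel, rep_one_apply]

theorem mem_vecStab {G : Type*} [Group G] {V : Type*} [AddCommGroup V] [Module K V]
    (ρ : G →* Module.End K V) (w : V) (h : G) : h ∈ vecStab K ρ w ↔ ρ h w = w := Iff.rfl

/-- The fixed space of a subgroup. -/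
def fixedSpace {G : Type*} [Group G] {V : Type*} [AddCommGroup V] [Module K V]
    (ρ : G →* Module.End K V) (M : Subgroup G) : Submodule K V where
  carrier := {v | ∀ m ∈ M, ρ m v = v}
  add_mem' := by
    intro a b ha hb m hm
    rw [map_add, ha m hm, hb m hm]
  zero_mem' := by
    intro m _
    exact map_zero _
  smul_mem' := by
    intro c v hv m hm
    rw [map_smul, hv m hm]

theorem mem_fixedSpace {G : Type*} [Group G] {V : Type*} [AddCommGroup V] [Module K V]
    (ρ : G →* Module.End K V) (M : Subgroup G) (v : V) :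
    v ∈ fixedSpace K ρ M ↔ ∀ m ∈ M, ρ m v = v := Iff.rfl

theorem fixedSpace_isInv {G : Type*} [Group G] {V : Type*} [AddCommGroup V] [Module K V]
    (ρ : G →* Module.End K V) (M : Subgroup G) [hM : M.Normal] : IsInv ρ (fixedSpace K ρ M) := by
  intro g w hw m hm
  have h1 : g⁻¹ * m * g ∈ M := by
    have := hM.conj_mem m hm g⁻¹
    simpa using this
  have h2 := hw _ h1
  calc ρ m (ρ g w) = ρ g (ρ (g⁻¹ * m * g) w) := by
        rw [← rep_mul_apply, ← rep_mul_apply]
        congr 2
        group
    _ = ρ g w := by rw [h2]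

theorem exists_fixed_of_pow_eq_one {W : Type*} [AddCommGroup W] [Module K W] [Nontrivial W]
    (T : Module.End K W) (j : ℕ) (hT : T ^ (p ^ j) = 1) : ∃ w : W, w ≠ 0 ∧ T w = w := by
  haveI : CharP (Module.End K W) p :=
    charP_of_injective_algebraMap (algebraMap K (Module.End K W)).injective p
  have h1 : (T - 1) ^ (p ^ j) = 0 := by
    rw [sub_pow_char_pow_of_commute p j (Commute.one_right T), hT, one_pow, sub_self]
  have h2 : ¬ Function.Injective ⇑(T - 1 : Module.End K W) := by
    intro hinj
    have h3 : Function.Injective ⇑((T - 1 : Module.End K W) ^ (p ^ j)) := by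
      have : ∀ n : ℕ, Function.Injective ⇑((T - 1 : Module.End K W) ^ n) := by
        intro n
        induction n with
        | zero =>
          rw [pow_zero]
          exact fun x y h => h
        | succ n ih =>
          rw [pow_succ]
          exact fun x y h => hinj (ih h)
      exact this _
    rw [h1] at h3
    obtain ⟨x, hx⟩ := exists_ne (0 : W)
    exact hx (h3 (by simp))
  rw [← LinearMap.ker_eq_bot, Submodule.eq_bot_iff] at h2
  push Not at h2
  obtain ⟨w, hw, hw0⟩ := h2
  refine ⟨w, hw0, ?_⟩
  rw [LinearMap.mem_ker, LinearMap.sub_apply, sub_eq_zero] at hw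
  exact hw

theorem exists_fixed_vector :
    ∀ (n : ℕ) (G : Type u) [Group G] [Finite G], IsPGroup p G → Nat.card G = n →
    ∀ (V : Type v) [AddCommGroup V] [Module K V] [Nontrivial V] (ρ : G →* Module.End K V),
    ∃ v : V, v ≠ 0 ∧ ∀ g, ρ g v = v := by
  intro n
  induction n using Nat.strong_induction_on with
  | _ n IH =>
  intro G _ _ hG hn V _ _ _ ρ
  rcases eq_top_or_exists_le_coatom (⊥ : Subgroup G) with htop | ⟨M, hM, -⟩
  · obtain ⟨v, hv⟩ := exists_ne (0 : V)
    refine ⟨v, hv, fun g => ?_⟩
    have : g = 1 := by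
      have : g ∈ (⊥ : Subgroup G) := by rw [htop]; trivial
      exact Subgroup.mem_bot.mp this
    rw [this, rep_one_apply]
  · have : Group.IsNilpotent G := hG.isNilpotent
    have hMn : M.Normal :=
      Subgroup.NormalizerCondition.normal_of_coatom M Group.normalizerCondition_of_isNilpotent hM
    have hlt : Nat.card M < n := by
      have h1 : Nat.card M ≠ Nat.card G := fun h => hM.1 ((Subgroup.card_eq_iff_eq_top M).mp h)
      have h2 : Nat.card M ≤ Nat.card G := Subgroup.card_le_card_group M
      omega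
    obtain ⟨v0, hv0, hv0fix⟩ := IH _ hlt M (hG.to_subgroup M) rfl V (ρ.comp M.subtype)
    have hWinv := fixedSpace_isInv K ρ M
    have hv0W : v0 ∈ fixedSpace K ρ M := fun m hm => hv0fix ⟨m, hm⟩
    have : Nontrivial (fixedSpace K ρ M) := ⟨⟨⟨v0, hv0W⟩, 0, fun h => hv0 (congrArg Subtype.val h)⟩⟩
    have hex : ∃ g, g ∉ M := by
      by_contra h
      push Not at h
      exact hM.1 (eq_top_iff.mpr fun x _ => h x)
    obtain ⟨g, hg⟩ := hex
    obtain ⟨j, hj⟩ := hG g
    have hT : (subRep ρ _ hWinv g) ^ (p ^ j) = 1 := by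
      rw [← map_pow, hj, map_one]
    obtain ⟨w, hw0, hw⟩ := exists_fixed_of_pow_eq_one p K _ j hT
    refine ⟨(w : V), fun h => hw0 (Subtype.ext h), ?_⟩
    have hgw : ρ g (w : V) = w := by
      have := congrArg Subtype.val hw
      simpa using this
    have hle : M ≤ vecStab K ρ (w : V) := fun m hm => w.2 m hm
    have hlt' : M < vecStab K ρ (w : V) := lt_of_le_of_ne hle (fun h => hg (h ▸ hgw))
    have := hM.2 _ hlt'
    intro h
    have hh : h ∈ vecStab K ρ (w : V) := by rw [this]; trivial
    exact hh

end Fixed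

end Cfsg.Agent.Lib.Helper3.LinP4
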