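import Cfsg.Agent.Lib.Helper3.LinP4

/-!
# Linear p-groups: derived length bound (part 5): defining characteristic, main induction
-/

set_option autoImplicit false

namespace Cfsg.Agent.Lib.Helper3.LinP5

open Cfsg.Agent.Lib.Helper3.LinP1 Cfsg.Agent.Lib.Helper3.LinP2 Cfsg.Agent.Lib.Helper3.LinP4

universe u v w

section Flag

variable (p : ℕ) [Fact p.Prime] (K : Type w) [Field K] [CharP K p]

theorem exists_inv_finrank {G : Type u} [Group G] [Finite G] (hG : IsPGroup p G)
    {V : Type v} [AddCommGroup V] [Module K V] [FiniteDimensional K V]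
    (ρ : G →* Module.End K V) :
    ∀ j ≤ Module.finrank K V, ∃ W : Submodule K V, IsInv ρ W ∧ Module.finrank K W = j := by
  intro j
  induction j with
  | zero =>
    intro _
    refine ⟨⊥, ?_, finrank_bot K V⟩
    intro g w hw
    rw [Submodule.mem_bot] at hw ⊢
    rw [hw, map_zero]
  | succ j ih =>
    intro hj
    obtain ⟨W, hW, hWj⟩ := ih (by omega)
    have hsum := Submodule.finrank_quotient_add_finrank W
    have hpos : 0 < Module.finrank K (V ⧸ W) := by omega
    have : Nontrivial (V ⧸ W) := Module.nontrivial_of_finrank_pos (R := K) hpos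
    obtain ⟨vbar, hvbar, hfix⟩ := exists_fixed_vector p K _ G hG rfl (V ⧸ W) (quotRep ρ W hW)
    obtain ⟨v, rfl⟩ := Submodule.Quotient.mk_surjective W vbar
    have hvW : v ∉ W := fun h => hvbar ((Submodule.Quotient.mk_eq_zero W).mpr h)
    have hv0 : v ≠ 0 := fun h => hvW (h ▸ W.zero_mem)
    have hfix' : ∀ g, ρ g v - v ∈ W := by
      intro g
      have := hfix g
      rw [quotRep_apply] at this
      exact (Submodule.Quotient.eq W).mp this
    refine ⟨W ⊔ K ∙ v, ?_, ?_⟩
    · intro g x hx
      obtain ⟨w, hw, y, hy, rfl⟩ := Submodule.mem_sup.mp hx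
      obtain ⟨c, rfl⟩ := Submodule.mem_span_singleton.mp hy
      rw [map_add, map_smul]
      have h1 : ρ g v = (ρ g v - v) + v := by abel
      rw [h1, smul_add, ← add_assoc]
      refine Submodule.add_mem _ (Submodule.mem_sup_left ?_)
        (Submodule.mem_sup_right (Submodule.smul_mem _ _ (Submodule.mem_span_singleton_self v)))
      exact W.add_mem (hW g w hw) (W.smul_mem c (hfix' g))
    · have h1 := Submodule.finrank_sup_add_finrank_inf_eq W (K ∙ v)
      have h2 : W ⊓ K ∙ v = ⊥ :=
        disjoint_iff.mp ((Submodule.disjoint_span_singleton' hv0).mpr hvW)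
      rw [h2, finrank_bot, finrank_span_singleton hv0, hWj] at h1
      omega

end Flag

section Main

variable (p : ℕ) [Fact p.Prime] (K : Type w) [Field K] [CharP K p]

theorem comm_of_mem_kers {G : Type*} [Group G] {V : Type*} [AddCommGroup V] [Module K V]
    (ρ : G →* Module.End K V) (hρ : Function.Injective ρ) (U : Submodule K V) (hU : IsInv ρ U)
    (x y : G) (hx : x ∈ (subRep ρ U hU).ker ⊓ (quotRep ρ U hU).ker)
    (hy : y ∈ (subRep ρ U hU).ker ⊓ (quotRep ρ U hU).ker) : x * y = y * x := by
  rw [Subgroup.mem_inf, mem_ker_subRep, mem_ker_quotRep] at hx hy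
  have key : ∀ a b : G, (∀ w ∈ U, ρ a w = w) → (∀ v : V, ρ b v - v ∈ U) →
      ∀ v, ρ a (ρ b v) = ρ b v + ρ a v - v := by
    intro a b ha hb v
    have h1 : ρ b v = (ρ b v - v) + v := by abel
    conv_lhs => rw [h1, map_add, ha _ (hb v)]
    abel
  apply hρ
  ext v
  rw [rep_mul_apply, rep_mul_apply, key x y hx.1 hy.2, key y x hy.1 hx.2]
  abel

theorem derivedSeries_eq_bot_of_faithful_rep_charP :
    ∀ (d : ℕ) (G : Type u) [Group G] [Finite G], IsPGroup p G →
    ∀ (V : Type v) [AddCommGroup V] [Module K V] [FiniteDimensional K V],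
    Module.finrank K V = d →
    ∀ ρ : G →* Module.End K V, Function.Injective ρ →
      derivedSeries G (Nat.clog 2 d) = ⊥ := by
  intro d
  induction d using Nat.strong_induction_on with
  | _ d IH =>
  intro G _ _ hG V _ _ _ hd ρ hρ
  have IH' : ∀ d' < d, ∀ (H : Type u) [Group H] [Finite H], IsPGroup p H →
      ∀ (V' : Type v) [AddCommGroup V'] [Module K V'] [FiniteDimensional K V'],
      Module.finrank K V' = d' →
      ∀ σ : H →* Module.End K V', derivedSeries H (Nat.clog 2 d') ≤ σ.ker := by
    intro d' hd' H _ _ hH V' _ _ _ hV' σ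
    exact nonfaithful_of_faithful p _ hH σ
      (fun τ hτ => IH d' hd' _ (hH.to_quotient _) V' hV' τ hτ)
  by_cases hd2 : 2 ≤ d
  · obtain ⟨U, hU, hUd⟩ := exists_inv_finrank p K hG ρ (d / 2) (by omega)
    have hsum := Submodule.finrank_quotient_add_finrank U
    have hlt1 : Module.finrank K U < d := by omega
    have hlt2 : Module.finrank K (V ⧸ U) < d := by omega
    have h1 := IH' _ hlt1 G hG U rfl (subRep ρ U hU)
    have h2 := IH' _ hlt2 G hG (V ⧸ U) rfl (quotRep ρ U hU)
    have hclog := Nat.clog_of_two_le (b := 2) (by norm_num) hd2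
    have h3 : derivedSeries G (Nat.clog 2 ((d + 2 - 1) / 2)) ≤
        (subRep ρ U hU).ker ⊓ (quotRep ρ U hU).ker := by
      refine le_inf (le_trans (derivedSeries_antitone G ?_) h1)
        (le_trans (derivedSeries_antitone G ?_) h2)
      · exact Nat.clog_mono_right 2 (by omega)
      · exact Nat.clog_mono_right 2 (by omega)
    rw [hclog, derivedSeries_succ, eq_bot_iff, Subgroup.commutator_le]
    intro x hx y hy
    rw [Subgroup.mem_bot, commutatorElement_eq_one_iff_mul_comm]
    exact comm_of_mem_kers K ρ hρ U hU x y (h3 hx) (h3 hy)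
  · -- d ≤ 1: G is trivial
    have hsub : Subsingleton G := by
      refine ⟨fun x y => hρ ?_⟩
      by_cases hV : Nontrivial V
      · obtain ⟨v, hv0, hv⟩ := exists_fixed_vector p K _ G hG rfl V ρ
        have hd1 : Module.finrank K V = 1 := by
          have := Module.finrank_pos (R := K) (M := V)
          omega
        have hspan := (finrank_eq_one_iff_of_nonzero' v hv0).mp hd1
        ext w
        obtain ⟨c, rfl⟩ := hspan w
        rw [map_smul, map_smul, hv, hv]
      · rw [not_nontrivial_iff_subsingleton] at hV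
        ext w
        exact Subsingleton.elim _ _
    have : Subsingleton (Subgroup G) := Subgroup.subsingleton_iff.mpr hsub
    exact Subsingleton.elim _ _

theorem clog_two_le_log_two_succ (d : ℕ) : Nat.clog 2 d ≤ Nat.log 2 d + 1 :=
  Nat.clog_le_of_le_pow (Nat.lt_pow_succ_log_self (by norm_num) d).le

end Main

end Cfsg.Agent.Lib.Helper3.LinP5
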