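import Cfsg.Agent.Lib.Helper3.LinP3
import Cfsg.Agent.Lib.Helper3.LinP5

/-!
# Linear p-groups: derived length bound (part 6): matrix groups over arbitrary fields
-/

set_option autoImplicit false

namespace Cfsg.Agent.Lib.Helper3.LinP6

open Cfsg.Agent.Lib.Helper3.LinP1 Cfsg.Agent.Lib.Helper3.LinP2 Cfsg.Agent.Lib.Helper3.LinP3
  Cfsg.Agent.Lib.Helper3.LinP5

/-- A matrix group over `F` acting on column vectors over an extension `L`. -/
noncomputable def glToEnd (F L : Type*) [Field F] [Field L] [Algebra F L] (n : ℕ) :
    Matrix.GeneralLinearGroup (Fin n) F →* Module.End L (Fin n → L) where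
  toFun g := Matrix.toLin' ((g : Matrix (Fin n) (Fin n) F).map (algebraMap F L))
  map_one' := by
    simp [Matrix.map_one]
    rfl
  map_mul' g h := by
    rw [Units.val_mul, Matrix.map_mul, Matrix.toLin'_mul, Module.End.mul_eq_comp]

theorem glToEnd_injective (F L : Type*) [Field F] [Field L] [Algebra F L] (n : ℕ) :
    Function.Injective (glToEnd F L n) := by
  intro g h hgh
  have h1 : (g : Matrix (Fin n) (Fin n) F).map (algebraMap F L) =
      (h : Matrix (Fin n) (Fin n) F).map (algebraMap F L) := Matrix.toLin'.injective hgh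
  exact Units.ext (Matrix.map_injective (algebraMap F L).injective h1)

theorem linear_p_group_derivedSeries {P : Type*} [Group P] [Finite P] (p : ℕ) [Fact p.Prime]
    (hP : IsPGroup p P) (F : Type*) [Field F] (n : ℕ)
    (ρ : P →* Matrix.GeneralLinearGroup (Fin n) F) (hρ : Function.Injective ρ) :
    derivedSeries P (Nat.log 2 n + 1) = ⊥ := by
  by_cases hpF : (p : F) = 0
  · have : CharP F p := by
      apply ringChar.of_eq
      have h1 : ringChar F ∣ p := (ringChar.spec F p).mp hpF
      rcases (Nat.dvd_prime (Fact.out : p.Prime)).mp h1 with h | h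
      · exact absurd h (CharP.ringChar_ne_one)
      · exact h
    have h2 := derivedSeries_eq_bot_of_faithful_rep_charP p F n P hP (Fin n → F)
      (Module.finrank_fin_fun F) ((glToEnd F F n).comp ρ)
      ((glToEnd_injective F F n).comp hρ)
    exact derivedSeries_eq_bot_mono (clog_two_le_log_two_succ n) h2
  · have hpL : (p : AlgebraicClosure F) ≠ 0 := by
      intro h
      apply hpF
      apply (algebraMap F (AlgebraicClosure F)).injective
      rw [map_natCast, h, map_zero]
    exact derivedSeries_eq_bot_of_faithful_rep p (AlgebraicClosure F) hpL n P hP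
      (Fin n → AlgebraicClosure F) (Module.finrank_fin_fun _)
      ((glToEnd F (AlgebraicClosure F) n).comp ρ)
      ((glToEnd_injective F (AlgebraicClosure F) n).comp hρ)

end Cfsg.Agent.Lib.Helper3.LinP6
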