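import Cfsg.Agent.Lib.Helper3.LinP3

/-!
# Linear p-groups (part 7): complete reducibility and irreducible constituents
-/

set_option autoImplicit false

namespace Cfsg.Agent.Lib.Helper3.LinP7

open Cfsg.Agent.Lib.Helper3.LinP1 Cfsg.Agent.Lib.Helper3.LinP2 Cfsg.Agent.Lib.Helper3.LinP3

variable {K : Type*} [Field K] {V : Type*} [AddCommGroup V] [Module K V]
variable {G : Type*} [Group G]

/-- Maschke: invariant complements. -/
theorem exists_inv_compl [Finite G] [NeZero (Nat.card G : K)] (ρ : G →* Module.End K V)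
    (W : Submodule K V) (hW : IsInv ρ W) :
    ∃ C : Submodule K V, IsInv ρ C ∧ W ⊓ C = ⊥ ∧ W ⊔ C = ⊤ := by
  let σ : Subrepresentation (show Representation K G V from ρ) :=
    ⟨W, fun g v hv => hW g v hv⟩
  obtain ⟨τ, hτ⟩ := exists_isCompl σ
  refine ⟨τ.toSubmodule, fun g v hv => τ.apply_mem_toSubmodule g hv, ?_, ?_⟩
  · exact congrArg Subrepresentation.toSubmodule hτ.inf_eq_bot
  · exact congrArg Subrepresentation.toSubmodule hτ.sup_eq_top

/-- `W` is an irreducible invariant subspace. -/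
def IsIrr (ρ : G →* Module.End K V) (W : Submodule K V) : Prop :=
  IsInv ρ W ∧ W ≠ ⊥ ∧ ∀ W' : Submodule K V, IsInv ρ W' → W' ≤ W → W' ≠ ⊥ → W' = W

theorem exists_isIrr_le [FiniteDimensional K V] (ρ : G →* Module.End K V) (X : Submodule K V)
    (hX : IsInv ρ X) (hX0 : X ≠ ⊥) : ∃ W, IsIrr ρ W ∧ W ≤ X := by
  classical
  have hex : ∃ m, ∃ W : Submodule K V, IsInv ρ W ∧ W ≠ ⊥ ∧ W ≤ X ∧ Module.finrank K W = m :=
    ⟨_, X, hX, hX0, le_rfl, rfl⟩
  obtain ⟨W, hW, hW0, hWX, hWm⟩ := Nat.find_spec hex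
  refine ⟨W, ⟨hW, hW0, ?_⟩, hWX⟩
  intro W' hW' hle hW'0
  have hmin := Nat.find_min' hex ⟨W', hW', hW'0, hle.trans hWX, rfl⟩
  rw [← hWm] at hmin
  exact Submodule.eq_of_le_of_finrank_le hle hmin

theorem fixes_of_fixes_irr [Finite G] [NeZero (Nat.card G : K)] [FiniteDimensional K V]
    (ρ : G →* Module.End K V) (g : G)
    (hg : ∀ W, IsIrr ρ W → ∀ w ∈ W, ρ g w = w) :
    ∀ (m : ℕ) (X : Submodule K V), IsInv ρ X → Module.finrank K X = m →
      ∀ x ∈ X, ρ g x = x := by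
  intro m
  induction m using Nat.strong_induction_on with
  | _ m IH =>
  intro X hX hXm x hx
  by_cases hX0 : X = ⊥
  · rw [hX0, Submodule.mem_bot] at hx
    rw [hx, map_zero]
  · obtain ⟨W, hWirr, hWX⟩ := exists_isIrr_le ρ X hX hX0
    obtain ⟨C, hC, hinf, hsup⟩ := exists_inv_compl ρ W hWirr.1
    have hXC : IsInv ρ (X ⊓ C) := fun h v hv => ⟨hX h v hv.1, hC h v hv.2⟩
    have hdisj : Disjoint W (X ⊓ C) := by
      rw [disjoint_iff, eq_bot_iff, ← hinf]
      exact inf_le_inf_left _ inf_le_right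
    have hlt : Module.finrank K ↥(X ⊓ C) < m := by
      have h1 : Module.finrank K ↥(W ⊔ X ⊓ C) ≤ Module.finrank K X :=
        Submodule.finrank_mono (sup_le hWX inf_le_left)
      have h2 := Submodule.finrank_sup_add_finrank_inf_eq W (X ⊓ C)
      rw [disjoint_iff.mp hdisj, finrank_bot] at h2
      have h3 : 1 ≤ Module.finrank K W := Submodule.one_le_finrank_iff.mpr hWirr.2.1
      omega
    have hxtop : x ∈ W ⊔ C := by rw [hsup]; trivial
    obtain ⟨w, hw, c, hc, rfl⟩ := Submodule.mem_sup.mp hxtop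
    have hcX : c ∈ X := by
      have : c = (w + c) - w := by abel
      rw [this]
      exact X.sub_mem hx (hWX hw)
    rw [map_add, hg W hWirr w hw, IH _ hlt (X ⊓ C) hXC rfl c ⟨hcX, hc⟩]

end Cfsg.Agent.Lib.Helper3.LinP7
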