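import Cfsg.Agent.Lib.Helper3.LinP6
import Cfsg.Agent.Lib.Helper3.LinP7

/-!
# Linear p-groups (part 8): Galois conjugates of irreducible constituents over finite fields
-/

set_option autoImplicit false

namespace Cfsg.Agent.Lib.Helper3.LinP8

open Cfsg.Agent.Lib.Helper3.LinP1 Cfsg.Agent.Lib.Helper3.LinP2 Cfsg.Agent.Lib.Helper3.LinP3
  Cfsg.Agent.Lib.Helper3.LinP6 Cfsg.Agent.Lib.Helper3.LinP7

section Semilinear

variable {F L : Type*} [Field F] [Field L] [Algebra F L] {n : ℕ}

/-- Coordinatewise application of a field automorphism. -/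
def coordMap (τ : L ≃ₐ[F] L) : (Fin n → L) →+ (Fin n → L) where
  toFun v := fun i => τ (v i)
  map_zero' := by
    ext i
    simp
  map_add' a b := by
    ext i
    simp

theorem coordMap_apply (τ : L ≃ₐ[F] L) (v : Fin n → L) (i : Fin n) :
    coordMap τ v i = τ (v i) := rfl

theorem coordMap_smul (τ : L ≃ₐ[F] L) (c : L) (v : Fin n → L) :
    coordMap τ (c • v) = τ c • coordMap τ v := by
  ext i
  simp [coordMap_apply]

theorem coordMap_injective (τ : L ≃ₐ[F] L) : Function.Injective (coordMap (n := n) τ) := by
  intro a b hab
  ext i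
  have := congrFun hab i
  rw [coordMap_apply, coordMap_apply] at this
  exact τ.injective this

theorem coordMap_glToEnd (τ : L ≃ₐ[F] L) (g : Matrix.GeneralLinearGroup (Fin n) F)
    (v : Fin n → L) :
    coordMap τ (glToEnd F L n g v) = glToEnd F L n g (coordMap τ v) := by
  ext i
  simp only [glToEnd, MonoidHom.coe_mk, OneHom.coe_mk, coordMap_apply, Matrix.toLin'_apply,
    Matrix.mulVec, dotProduct, Matrix.map_apply, map_sum, map_mul, AlgEquiv.commutes]

theorem finrank_le_eigenspace [Module.Finite L (Fin n → L)] (τ : L ≃ₐ[F] L)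
    (g : Matrix.GeneralLinearGroup (Fin n) F) (ζ : L)
    (W : Submodule L (Fin n → L)) (hW : W ≤ Module.End.eigenspace (glToEnd F L n g) ζ) :
    Module.finrank L W ≤ Module.finrank L (Module.End.eigenspace (glToEnd F L n g) (τ ζ)) := by
  let j : W →+ Module.End.eigenspace (glToEnd F L n g) (τ ζ) :=
    { toFun := fun w => ⟨coordMap τ (w : Fin n → L), by
        rw [Module.End.mem_eigenspace_iff, ← coordMap_glToEnd,
          Module.End.mem_eigenspace_iff.mp (hW w.2), coordMap_smul]⟩
      map_zero' := by
        apply Subtype.ext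
        simp
      map_add' := fun a b => by
        apply Subtype.ext
        simp }
  have hj : Function.Injective j := by
    intro a b hab
    apply Subtype.ext
    exact coordMap_injective τ (congrArg Subtype.val hab)
  have hrank := rank_le_of_injective_injective (R := L) (R' := L) (fun r => τ.symm r) j
    (fun r hr => by simpa using hr) hj
    (fun r m => by
      apply Subtype.ext
      show coordMap τ ((τ.symm r) • (m : Fin n → L)) = r • coordMap τ (m : Fin n → L)
      rw [coordMap_smul, AlgEquiv.apply_symm_apply])
  exact Cardinal.toNat_le_toNat hrank (Module.rank_lt_aleph0 L _)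

end Semilinear

section Indep

theorem sum_finrank_le_of_iSupIndep {ι : Type*} [DecidableEq ι] {K V : Type*} [Field K]
    [AddCommGroup V] [Module K V] [FiniteDimensional K V] (E : ι → Submodule K V)
    (hE : iSupIndep E) (s : Finset ι) :
    ∑ i ∈ s, Module.finrank K (E i) ≤ Module.finrank K ↥(s.sup E) := by
  induction s using Finset.induction_on with
  | empty => simp
  | insert a s ha ih =>
    rw [Finset.sum_insert ha, Finset.sup_insert]
    have hdisj : Disjoint (E a) (s.sup E) := by
      refine (hE a).mono_right ?_
      apply Finset.sup_le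
      intro j hj
      have hja : j ≠ a := fun h => ha (h ▸ hj)
      exact le_iSup₂_of_le j hja le_rfl
    have h2 := Submodule.finrank_sup_add_finrank_inf_eq (E a) (s.sup E)
    rw [disjoint_iff.mp hdisj, finrank_bot] at h2
    omega

theorem lift_ker_injective {H M : Type*} [Group H] [Monoid M] (σ : H →* M) :
    Function.Injective (QuotientGroup.lift σ.ker σ le_rfl) := by
  rw [injective_iff_map_eq_one]
  intro x hx
  obtain ⟨h, rfl⟩ := QuotientGroup.mk_surjective x
  rw [QuotientGroup.lift_mk] at hx
  exact (QuotientGroup.eq_one_iff h).mpr (MonoidHom.mem_ker.mpr hx)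

end Indep

end Cfsg.Agent.Lib.Helper3.LinP8
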