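import Cfsg.Agent.Lib.Helper3.LinP8

/-!
# Linear p-groups (part 9): cross characteristic subgroups of `GL_n(q)`
-/

set_option autoImplicit false

namespace Cfsg.Agent.Lib.Helper3.LinP9

open Cfsg.Agent.Lib.Helper3.LinP1 Cfsg.Agent.Lib.Helper3.LinP2 Cfsg.Agent.Lib.Helper3.LinP3
  Cfsg.Agent.Lib.Helper3.LinP6 Cfsg.Agent.Lib.Helper3.LinP7 Cfsg.Agent.Lib.Helper3.LinP8

section Frob

variable {F : Type*} [Field F] [Fintype F] {L : Type*} [Field L] [Algebra F L]
  [Algebra.IsAlgebraic F L]

theorem frob_pow_apply (i : ℕ) (x : L) :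
    ((FiniteField.frobeniusAlgEquivOfAlgebraic F L) ^ i) x = x ^ (Fintype.card F ^ i) := by
  induction i generalizing x with
  | zero => simp
  | succ i ih =>
    rw [pow_succ, AlgEquiv.mul_apply, ih, FiniteField.coe_frobeniusAlgEquivOfAlgebraic, ← pow_mul,
      pow_succ, mul_comm]

end Frob

section Scalar

variable {K : Type*} [Field K] {V : Type*} [AddCommGroup V] [Module K V]

theorem pow_apply_of_scalar (f : Module.End K V) (c : K) (hf : ∀ v, f v = c • v) (k : ℕ) (v : V) :
    (f ^ k) v = c ^ k • v := by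
  induction k generalizing v with
  | zero => simp
  | succ k ih =>
    rw [pow_succ, Module.End.mul_apply, hf, map_smul, ih, smul_smul, pow_succ, mul_comm]

end Scalar

section Main

variable {F : Type*} [Field F] [Fintype F] {L : Type*} [Field L] [Algebra F L] [IsAlgClosed L]
  [Algebra.IsAlgebraic F L]

theorem mul_finrank_le_of_irr (p : ℕ) [Fact p.Prime] {P : Type*} [Group P] [Finite P]
    (hP : IsPGroup p P) (n : ℕ) (ι : P →* Matrix.GeneralLinearGroup (Fin n) F)
    (W : Submodule L (Fin n → L)) (hW : IsIrr ((glToEnd F L n).comp ι) W)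
    (hnt : (subRep ((glToEnd F L n).comp ι) W hW.1).ker ≠ ⊤) :
    orderOf ((Fintype.card F : ℕ) : ZMod p) * Module.finrank L W ≤ n := by
  classical
  set ρ := (glToEnd F L n).comp ι with hρdef
  set ρW := subRep ρ W hW.1 with hρW
  set ρbar := QuotientGroup.lift ρW.ker ρW le_rfl with hρbar
  have hinj : Function.Injective ρbar := lift_ker_injective ρW
  have hQ : IsPGroup p (P ⧸ ρW.ker) := hP.to_quotient _
  have : Nontrivial (P ⧸ ρW.ker) := by
    by_contra hnt'
    rw [not_nontrivial_iff_subsingleton] at hnt'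
    apply hnt
    rw [eq_top_iff]
    intro x _
    have : (x : P ⧸ ρW.ker) = 1 := Subsingleton.elim _ _
    exact (QuotientGroup.eq_one_iff x).mp this
  have := hQ.center_nontrivial
  have hcard : p ∣ Nat.card (Subgroup.center (P ⧸ ρW.ker)) :=
    (hQ.to_subgroup _).card_eq_or_dvd.resolve_left (Finite.one_lt_card).ne'
  obtain ⟨zc, hzc⟩ := exists_prime_orderOf_dvd_card' p hcard
  have hzord : orderOf (zc : P ⧸ ρW.ker) = p := by rw [Subgroup.orderOf_coe, hzc]
  obtain ⟨z, hz⟩ := QuotientGroup.mk_surjective (zc : P ⧸ ρW.ker)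
  have : Nontrivial W := (Submodule.nontrivial_iff_ne_bot).mpr hW.2.1
  -- irreducibility of the lifted representation
  have hirr' : ∀ W'' : Submodule L W, IsInv ρbar W'' → W'' ≠ ⊥ → W'' = ⊤ := by
    intro W'' hW'' hW''0
    have hinv : IsInv ρ (W''.map W.subtype) := by
      rintro g v ⟨w, hw, rfl⟩
      refine ⟨ρW g w, ?_, rfl⟩
      have := hW'' (g : P ⧸ ρW.ker) w hw
      rwa [hρbar, QuotientGroup.lift_mk] at this
    have hle : W''.map W.subtype ≤ W := by
      rintro v ⟨w, -, rfl⟩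
      exact w.2
    have hne : W''.map W.subtype ≠ ⊥ := by
      obtain ⟨w, hw, hw0⟩ := (Submodule.ne_bot_iff _).mp hW''0
      intro h
      have : (w : Fin n → L) ∈ W''.map W.subtype := ⟨w, hw, rfl⟩
      rw [h, Submodule.mem_bot] at this
      exact hw0 (Subtype.ext this)
    have heq := hW.2.2 _ hinv hle hne
    rw [eq_top_iff]
    intro w _
    have hw : (w : Fin n → L) ∈ W''.map W.subtype := by rw [heq]; exact w.2
    obtain ⟨w', hw', hww'⟩ := hw
    have : w' = w := Subtype.ext hww'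
    rwa [this] at hw'
  obtain ⟨ζ, hζ⟩ := central_scalar ρbar hirr' (zc : P ⧸ ρW.ker) zc.2
  -- ζ has order p
  obtain ⟨w0, hw0⟩ := exists_ne (0 : W)
  have hζp : ζ ^ p = 1 := by
    have h1 : (ρbar (zc : P ⧸ ρW.ker)) ^ p = 1 := by
      rw [← map_pow, ← hzord, pow_orderOf_eq_one, map_one]
    have h2 := pow_apply_of_scalar _ ζ hζ p w0
    rw [h1, Module.End.one_apply] at h2
    have h3 : ζ ^ p • w0 = (1 : L) • w0 := by rw [one_smul, ← h2]
    exact smul_left_injective L hw0 h3
  have hζ1 : ζ ≠ 1 := by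
    intro h1
    have h2 : ρbar (zc : P ⧸ ρW.ker) = ρbar 1 := by
      ext w
      rw [hζ, h1, one_smul, map_one, Module.End.one_apply]
    have h3 := hinj h2
    rw [h3, orderOf_one] at hzord
    exact (Fact.out : p.Prime).one_lt.ne hzord
  have hζord : orderOf ζ = p := orderOf_eq_prime hζp hζ1
  -- W lies in the ζ-eigenspace of ρ z
  have hWeig : W ≤ Module.End.eigenspace (glToEnd F L n (ι z)) ζ := by
    intro w hw
    rw [Module.End.mem_eigenspace_iff]
    have h1 := hζ ⟨w, hw⟩
    rw [← hz, hρbar, QuotientGroup.lift_mk] at h1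
    have h2 := congrArg Subtype.val h1
    simpa [hρW, hρdef] using h2
  set e := orderOf ((Fintype.card F : ℕ) : ZMod p) with he
  have hfin : ∀ i : Fin e, Module.finrank L W ≤
      Module.finrank L (Module.End.eigenspace (glToEnd F L n (ι z))
        (ζ ^ (Fintype.card F ^ (i : ℕ)))) := by
    intro i
    have := finrank_le_eigenspace ((FiniteField.frobeniusAlgEquivOfAlgebraic F L) ^ (i : ℕ))
      (ι z) ζ W hWeig
    rwa [frob_pow_apply] at this
  have hinjE : Function.Injective (fun i : Fin e => ζ ^ (Fintype.card F ^ (i : ℕ))) := by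
    intro i j hij
    simp only at hij
    have hζ0 : ζ ≠ 0 := by
      intro h0
      rw [h0, zero_pow (Fact.out : p.Prime).ne_zero] at hζp
      exact zero_ne_one hζp
    have hu : orderOf (Units.mk0 ζ hζ0) = p := by
      rw [← orderOf_units, Units.val_mk0, hζord]
    have hij' : (Units.mk0 ζ hζ0) ^ (Fintype.card F ^ (i : ℕ)) =
        (Units.mk0 ζ hζ0) ^ (Fintype.card F ^ (j : ℕ)) := by
      apply Units.ext
      rw [Units.val_pow_eq_pow_val, Units.val_pow_eq_pow_val, Units.val_mk0]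
      exact hij
    rw [pow_eq_pow_iff_modEq, hu, ← ZMod.natCast_eq_natCast_iff, Nat.cast_pow,
      Nat.cast_pow] at hij'
    have hij := hij'
    have := pow_injOn_Iio_orderOf (x := ((Fintype.card F : ℕ) : ZMod p))
      (Set.mem_Iio.mpr i.2) (Set.mem_Iio.mpr j.2) hij
    exact Fin.ext this
  have hindep := (Module.End.eigenspaces_iSupIndep (glToEnd F L n (ι z))).comp hinjE
  have hsum := sum_finrank_le_of_iSupIndep _ hindep Finset.univ
  have hle : Module.finrank L ↥(Finset.univ.sup
      ((glToEnd F L n (ι z)).eigenspace ∘ fun i : Fin e => ζ ^ (Fintype.card F ^ (i : ℕ)))) ≤ n := by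
    have := Submodule.finrank_le (Finset.univ.sup
      ((glToEnd F L n (ι z)).eigenspace ∘ fun i : Fin e => ζ ^ (Fintype.card F ^ (i : ℕ))))
    rwa [Module.finrank_fin_fun] at this
  have hlow : e * Module.finrank L W ≤ ∑ i : Fin e, Module.finrank L
      ↥(((glToEnd F L n (ι z)).eigenspace ∘ fun i : Fin e => ζ ^ (Fintype.card F ^ (i : ℕ))) i) := by
    have := Finset.sum_le_sum (s := Finset.univ) (fun (i : Fin e) _ => hfin i)
    simpa using this
  omega

end Main

end Cfsg.Agent.Lib.Helper3.LinP9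

namespace Cfsg.Agent.Lib.Helper3.LinP9

open Cfsg.Agent.Lib.Helper3.LinP1 Cfsg.Agent.Lib.Helper3.LinP2 Cfsg.Agent.Lib.Helper3.LinP3
  Cfsg.Agent.Lib.Helper3.LinP6 Cfsg.Agent.Lib.Helper3.LinP7 Cfsg.Agent.Lib.Helper3.LinP8

theorem natCast_ne_zero_of_not_dvd_card {F : Type*} [Field F] [Fintype F] (p : ℕ) [Fact p.Prime]
    (hpq : ¬ p ∣ Fintype.card F) : (p : F) ≠ 0 := by
  intro h0
  obtain ⟨ℓ, hℓ⟩ := CharP.exists F
  obtain ⟨m, hℓp, hm⟩ := FiniteField.card F ℓ
  have h1 : ℓ ∣ p := (CharP.cast_eq_zero_iff F ℓ p).mp h0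
  have h2 : ℓ = p := ((Nat.prime_dvd_prime_iff_eq hℓp (Fact.out : p.Prime)).mp h1)
  apply hpq
  rw [hm, h2]
  exact dvd_pow_self p m.ne_zero

theorem cross_char_derivedSeries {F : Type*} [Field F] [Fintype F] (p : ℕ) [Fact p.Prime]
    (hpq : ¬ p ∣ Fintype.card F) {P : Type*} [Group P] [Finite P] (hP : IsPGroup p P) (n : ℕ)
    (ι : P →* Matrix.GeneralLinearGroup (Fin n) F) (hι : Function.Injective ι) :
    derivedSeries P (Nat.log 2 (n / orderOf ((Fintype.card F : ℕ) : ZMod p)) + 1) = ⊥ := by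
  set e := orderOf ((Fintype.card F : ℕ) : ZMod p) with he
  have hpF := natCast_ne_zero_of_not_dvd_card p hpq
  have hpL : (p : AlgebraicClosure F) ≠ 0 := by
    intro h
    apply hpF
    apply (algebraMap F (AlgebraicClosure F)).injective
    rw [map_natCast, h, map_zero]
  have : NeZero (Nat.card P : AlgebraicClosure F) := by
    obtain ⟨a, ha⟩ := IsPGroup.iff_card.mp hP
    rw [ha, Nat.cast_pow]
    exact ⟨pow_ne_zero _ hpL⟩
  have hepos : 0 < e := by
    have hq0 : ((Fintype.card F : ℕ) : ZMod p) ≠ 0 := by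
      intro h
      exact hpq ((ZMod.natCast_eq_zero_iff _ _).mp h)
    rw [he, orderOf_pos_iff, isOfFinOrder_iff_pow_eq_one]
    exact ⟨p - 1, Nat.sub_pos_of_lt (Fact.out : p.Prime).one_lt, ZMod.pow_card_sub_one_eq_one hq0⟩
  set ρ := (glToEnd F (AlgebraicClosure F) n).comp ι with hρ
  have hρinj : Function.Injective ρ := (glToEnd_injective F (AlgebraicClosure F) n).comp hι
  rw [eq_bot_iff]
  intro g hg
  rw [Subgroup.mem_bot]
  apply hρinj
  rw [map_one]
  have hfix : ∀ W, IsIrr ρ W → ∀ w ∈ W, ρ g w = w := by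
    intro W hW
    by_cases hker : (subRep ρ W hW.1).ker = ⊤
    · have hgk : g ∈ (subRep ρ W hW.1).ker := by rw [hker]; trivial
      exact (mem_ker_subRep ρ W hW.1 g).mp hgk
    · have h1 := mul_finrank_le_of_irr p hP n ι W hW hker
      have h2 : Module.finrank (AlgebraicClosure F) W ≤ n / e := by
        rw [Nat.le_div_iff_mul_le hepos, mul_comm]
        exact h1
      have h3 : derivedSeries P (Nat.log 2 (Module.finrank (AlgebraicClosure F) W) + 1) ≤
          (subRep ρ W hW.1).ker :=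
        nonfaithful_of_faithful p _ hP (subRep ρ W hW.1)
          (fun τ hτ => derivedSeries_eq_bot_of_faithful_rep p (AlgebraicClosure F) hpL _ _
            (hP.to_quotient _) W rfl τ hτ)
      have h4 : g ∈ (subRep ρ W hW.1).ker :=
        h3 (derivedSeries_antitone P (Nat.succ_le_succ (Nat.log_mono_right h2)) hg)
      exact (mem_ker_subRep ρ W hW.1 g).mp h4
  have htop : IsInv ρ (⊤ : Submodule (AlgebraicClosure F) (Fin n → AlgebraicClosure F)) :=
    fun _ _ _ => trivial
  refine LinearMap.ext fun v => ?_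
  exact fixes_of_fixes_irr ρ g hfix _ ⊤ htop rfl v trivial

end Cfsg.Agent.Lib.Helper3.LinP9
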