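import Mathlib

/-! Generic lemmas for S2490 (a group of order 7920 with disconnected prime graph is simple):
conjugation action of a subgroup on a subgroup it normalizes; a `q`-subgroup `Q` normalizing a
`p`-subgroup `V` with `|Q| ∤ |V| - 1` yields an element of order `p q`; fixed points of an element
of prime order on a normalized subgroup; `N/C` for a cyclic normal subgroup; Frattini. -/

set_option autoImplicit false
set_option maxHeartbeats 4000000
set_option maxRecDepth 100000
set_option linter.unusedVariables false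
set_option linter.unusedSectionVars false
set_option linter.style.haveILetI false
set_option linter.deprecated false

namespace Cfsg.Agent.Lib.Helper3.M11Red

open Subgroup

variable {G : Type*} [Group G]

/-- conjugation action of a subgroup `Q` normalizing `V` on `V` -/
@[reducible] def conjAct (V Q : Subgroup G) (hQV : Q ≤ normalizer (V : Set G)) :
    MulAction Q V :=
  { smul := fun x v => ⟨(x : G) * v * (x : G)⁻¹,
      (mem_normalizer_iff.mp (hQV x.2) v).mp v.2⟩
    one_smul := fun v => Subtype.ext (by
      show ((1 : Q) : G) * v * ((1 : Q) : G)⁻¹ = v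
      simp)
    mul_smul := fun x y v => Subtype.ext (by
      show ((x * y : Q) : G) * v * ((x * y : Q) : G)⁻¹ =
        (x : G) * ((y : G) * v * (y : G)⁻¹) * (x : G)⁻¹
      simp [mul_assoc]) }

lemma conjAct_coe (V Q : Subgroup G) (hQV : Q ≤ normalizer (V : Set G)) (x : Q) (v : V) :
    (((conjAct V Q hQV).toSMul.smul x v : V) : G) = (x : G) * v * (x : G)⁻¹ := rfl

/-- an element of order divisible by `q` has a power of order `q` -/
lemma exists_pow_orderOf_eq [Finite G] {q : ℕ} (x : G) (hq : q ∣ orderOf x) :
    ∃ k : ℕ, orderOf (x ^ k) = q :=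
  ⟨orderOf x / q, orderOf_pow_orderOf_div (orderOf_pos x).ne' hq⟩

/-- a nontrivial element of a `q`-subgroup has order divisible by `q` -/
lemma dvd_orderOf_of_mem [Finite G] {q : ℕ} [hq : Fact q.Prime] {Q : Subgroup G}
    (hQ : IsPGroup q Q) {x : G} (hx : x ∈ Q) (hx1 : x ≠ 1) : q ∣ orderOf x := by
  obtain ⟨k, hk⟩ := hQ ⟨x, hx⟩
  have h1 : x ^ (q ^ k) = 1 := by
    have := congrArg Subtype.val hk
    simpa using this
  have h2 : orderOf x ∣ q ^ k := orderOf_dvd_of_pow_eq_one h1
  obtain ⟨a, ha, ha'⟩ := (Nat.dvd_prime_pow hq.out).mp h2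
  rcases Nat.eq_zero_or_pos a with h0 | h0
  · exfalso
    rw [h0, pow_zero] at ha'
    exact hx1 (orderOf_eq_one_iff.mp ha')
  · rw [ha']
    exact dvd_pow_self q h0.ne'

/-- commuting nontrivial elements of a `p`-subgroup and a `q`-subgroup give an element of
order `p q` -/
lemma exists_orderOf_of_commute [Finite G] {p q : ℕ} [hp : Fact p.Prime] [hq : Fact q.Prime]
    (hpq : p ≠ q) {V Q : Subgroup G} (hV : IsPGroup p V) (hQ : IsPGroup q Q) {v x : G}
    (hv : v ∈ V) (hx : x ∈ Q) (hv1 : v ≠ 1) (hx1 : x ≠ 1) (hc : x * v = v * x) :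
    ∃ g : G, orderOf g = p * q := by
  obtain ⟨i, hi⟩ := exists_pow_orderOf_eq v (dvd_orderOf_of_mem hV hv hv1)
  obtain ⟨j, hj⟩ := exists_pow_orderOf_eq x (dvd_orderOf_of_mem hQ hx hx1)
  have hcomm : Commute (v ^ i) (x ^ j) := by
    have h0 : Commute v x := hc.symm
    exact h0.pow_pow i j
  refine ⟨v ^ i * x ^ j, ?_⟩
  rw [hcomm.orderOf_mul_eq_mul_orderOf_of_coprime, hi, hj]
  rw [hi, hj]
  exact (Nat.coprime_primes hp.out hq.out).mpr hpq

/-- **free action count**: a `q`-subgroup `Q` normalizing a `p`-subgroup `V` with `|Q|` not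
dividing `|V| - 1` produces an element of order `p q`. -/
theorem exists_orderOf_eq_mul [Finite G] {p q : ℕ} [hp : Fact p.Prime] [hq : Fact q.Prime]
    (hpq : p ≠ q) (V Q : Subgroup G) (hQV : Q ≤ normalizer (V : Set G)) (hV : IsPGroup p V)
    (hQ : IsPGroup q Q) (h : ¬ Nat.card Q ∣ Nat.card V - 1) : ∃ g : G, orderOf g = p * q := by
  classical
  by_contra hno
  have key : ∀ x ∈ Q, x ≠ 1 → ∀ v ∈ V, x * v = v * x → v = 1 := by
    intro x hx hx1 v hv hc
    by_contra hv1
    exact hno (exists_orderOf_of_commute hpq hV hQ hv hx hv1 hx1 hc)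
  letI act : MulAction Q V := conjAct V Q hQV
  haveI : Fintype Q := Fintype.ofFinite _
  haveI : Fintype V := Fintype.ofFinite _
  haveI : Fintype (Quotient (MulAction.orbitRel Q V)) := Fintype.ofFinite _
  haveI : ∀ x : Q, Fintype (MulAction.fixedBy V x) := fun x => Fintype.ofFinite _
  have hB := MulAction.sum_card_fixedBy_eq_card_orbits_mul_card_group Q V
  have h1 : Fintype.card (MulAction.fixedBy V (1 : Q)) = Fintype.card V := by
    apply Fintype.card_of_subtype Finset.univ
    intro v
    simp [MulAction.mem_fixedBy]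
  have h2 : ∀ x ∈ (Finset.univ : Finset Q).erase 1,
      Fintype.card (MulAction.fixedBy V x) = 1 := by
    intro x hx
    have hx1 : x ≠ 1 := (Finset.mem_erase.mp hx).1
    have hx1' : (x : G) ≠ 1 := fun h => hx1 (Subtype.ext h)
    apply Fintype.card_eq_one_iff.mpr
    refine ⟨⟨1, ?_⟩, ?_⟩
    · rw [MulAction.mem_fixedBy]
      apply Subtype.ext
      show (x : G) * ((1 : V) : G) * (x : G)⁻¹ = ((1 : V) : G)
      simp
    · rintro ⟨v, hv⟩
      apply Subtype.ext
      apply Subtype.ext
      rw [MulAction.mem_fixedBy] at hv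
      have hv' : (x : G) * v * (x : G)⁻¹ = v := congrArg Subtype.val hv
      have hc : (x : G) * v = v * x := by
        have : (x : G) * v * (x : G)⁻¹ * x = v * x := by rw [hv']
        simpa [mul_assoc] using this
      exact key x x.2 hx1' v v.2 hc
  rw [← Finset.add_sum_erase _ _ (Finset.mem_univ (1 : Q)), h1, Finset.sum_congr rfl h2,
    Finset.sum_const, Finset.card_erase_of_mem (Finset.mem_univ _), Finset.card_univ,
    smul_eq_mul, mul_one] at hB
  apply h
  rw [Nat.card_eq_fintype_card, Nat.card_eq_fintype_card]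
  obtain ⟨t, ht⟩ : ∃ t, t = Fintype.card (Quotient (MulAction.orbitRel Q V)) * Fintype.card Q :=
    ⟨_, rfl⟩
  have hdt : Fintype.card Q ∣ t := ht ▸ Dvd.intro_left _ rfl
  rw [← ht] at hB
  have hQpos : 0 < Fintype.card Q := Fintype.card_pos
  have hVpos : 0 < Fintype.card V := Fintype.card_pos
  have h3 : Fintype.card V - 1 = t - Fintype.card Q := by omega
  rw [h3]
  exact Nat.dvd_sub hdt dvd_rfl

/-- the same with `Q` given by a prime power dividing the order of the normalizer -/
theorem exists_orderOf_of_dvd_normalizer [Finite G] {p q : ℕ} [hp : Fact p.Prime]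
    [hq : Fact q.Prime] (hpq : p ≠ q) (V : Subgroup G) (hV : IsPGroup p V) (a : ℕ)
    (hdvd : q ^ a ∣ Nat.card (normalizer (V : Set G))) (h : ¬ q ^ a ∣ Nat.card V - 1) :
    ∃ g : G, orderOf g = p * q := by
  obtain ⟨K, hK⟩ := Sylow.exists_subgroup_card_pow_prime q hdvd
  have hK' : Nat.card (K.map (normalizer (V : Set G)).subtype) = q ^ a := by
    rw [Subgroup.card_map_of_injective (Subgroup.subtype_injective _), hK]
  refine exists_orderOf_eq_mul hpq V (K.map (normalizer (V : Set G)).subtype) ?_ hV
    (IsPGroup.of_card hK') (by rw [hK']; exact h)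
  intro x hx
  obtain ⟨y, -, rfl⟩ := Subgroup.mem_map.mp hx
  exact y.2

/-- fixed points of an element of prime order `q` acting by conjugation on a subgroup it
normalizes -/
theorem card_modEq_card_inf_centralizer [Finite G] {q : ℕ} [hq : Fact q.Prime] (K : Subgroup G)
    (x : G) (hx : orderOf x = q) (hxK : x ∈ normalizer (K : Set G)) :
    Nat.card K ≡ Nat.card (K ⊓ centralizer ({x} : Set G) : Subgroup G) [MOD q] := by
  classical
  have hQK : zpowers x ≤ normalizer (K : Set G) := (zpowers_le).mpr hxK
  have hQ : IsPGroup q (zpowers x) := IsPGroup.of_card (n := 1) (by rw [Nat.card_zpowers, hx, pow_one])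
  letI act : MulAction (zpowers x) K := conjAct K (zpowers x) hQK
  have h1 := hQ.card_modEq_card_fixedPoints K
  have h2 : Nat.card (MulAction.fixedPoints (zpowers x) K) =
      Nat.card (K ⊓ centralizer ({x} : Set G) : Subgroup G) := by
    apply Nat.card_congr
    refine ⟨fun v => ⟨(v : K), ?_⟩, fun g => ⟨⟨(g : G), (Subgroup.mem_inf.mp g.2).1⟩, ?_⟩, ?_, ?_⟩
    · refine Subgroup.mem_inf.mpr ⟨(v : K).2, ?_⟩
      rw [mem_centralizer_iff]
      intro y hy
      rw [Set.mem_singleton_iff] at hy
      subst hy
      have hv := v.2 ⟨y, mem_zpowers y⟩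
      have hv' : (y : G) * ((v : K) : G) * (y : G)⁻¹ = ((v : K) : G) := congrArg Subtype.val hv
      have : (y : G) * ((v : K) : G) * (y : G)⁻¹ * y = ((v : K) : G) * y := by rw [hv']
      simpa [mul_assoc] using this
    · intro y
      obtain ⟨k, hk⟩ := mem_zpowers_iff.mp y.2
      apply Subtype.ext
      have hc : Commute x (g : G) := by
        have := (Subgroup.mem_inf.mp g.2).2
        rw [mem_centralizer_iff] at this
        exact this x (Set.mem_singleton x)
      have hc' : Commute (y : G) (g : G) := by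
        rw [← hk]; exact hc.zpow_left k
      show (y : G) * (g : G) * (y : G)⁻¹ = (g : G)
      rw [hc'.eq, mul_inv_cancel_right]
    · intro v; rfl
    · intro g; rfl
  rw [h2] at h1
  exact h1

/-- an element of prime order `q` normalizing `K` with `|K| ≢ 1 mod q` commutes with a
nontrivial element of `K`. -/
theorem exists_commuting [Finite G] {q : ℕ} [hq : Fact q.Prime] (K : Subgroup G)
    (x : G) (hx : orderOf x = q) (hxK : x ∈ normalizer (K : Set G))
    (hmod : Nat.card K % q ≠ 1) : ∃ c ∈ K, c ≠ 1 ∧ x * c = c * x := by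
  by_contra hno
  push Not at hno
  have h1 := card_modEq_card_inf_centralizer K x hx hxK
  have h2 : (K ⊓ centralizer ({x} : Set G) : Subgroup G) = ⊥ := by
    rw [eq_bot_iff]
    intro c hc
    rw [mem_bot]
    by_contra hc1
    have hcx : c * x = x * c := by
      have := (Subgroup.mem_inf.mp hc).2
      rw [mem_centralizer_iff] at this
      exact (this x (Set.mem_singleton x)).symm
    exact hno c (Subgroup.mem_inf.mp hc).1 hc1 hcx.symm
  rw [h2, Subgroup.card_bot] at h1
  unfold Nat.ModEq at h1
  rw [h1, Nat.mod_eq_of_lt hq.out.one_lt] at hmod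
  exact hmod rfl

/-- **N/C** for a cyclic normal subgroup -/
theorem index_centralizer_dvd_totient [Finite G] (N : Subgroup G) [hN : N.Normal]
    (hc : IsCyclic N) :
    (centralizer (N : Set G)).index ∣ Nat.totient (Nat.card N) := by
  have key := card_dvd_of_injective _ (QuotientGroup.kerLift_injective N.normalizerMonoidHom)
  rw [normalizerMonoidHom_ker, ← index, ← relIndex] at key
  rw [IsCyclic.card_mulAut] at key
  have h1 : normalizer (N : Set G) = ⊤ := normalizer_eq_top N
  rw [h1, relIndex_top_right] at key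
  exact key

/-- **Frattini**: for a Sylow subgroup `S` of a normal subgroup `N`, the index of `N` divides
the order of the normalizer of `S` in `G`. -/
theorem index_dvd_card_normalizer [Finite G] (N : Subgroup G) [hN : N.Normal] {p : ℕ}
    [Fact p.Prime] (S : Sylow p N) :
    N.index ∣ Nat.card (normalizer ((((S : Subgroup N).map N.subtype : Subgroup G)) : Set G)) := by
  have hF := Sylow.normalizer_sup_eq_top S
  have h6 := Subgroup.card_map_dvd
    (H := normalizer ((((S : Subgroup N).map N.subtype : Subgroup G)) : Set G))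
    (QuotientGroup.mk' N)
  have h7 : (normalizer ((((S : Subgroup N).map N.subtype : Subgroup G)) : Set G)).map
      (QuotientGroup.mk' N) = ⊤ := by
    have h8 : (normalizer ((((S : Subgroup N).map N.subtype : Subgroup G)) : Set G) ⊔ N).map
        (QuotientGroup.mk' N) = ⊤ := by
      rw [hF, ← MonoidHom.range_eq_map]
      exact MonoidHom.range_eq_top.mpr (QuotientGroup.mk'_surjective N)
    rw [Subgroup.map_sup] at h8
    have h9 : N.map (QuotientGroup.mk' N) = ⊥ := by
      apply (Subgroup.map_eq_bot_iff _).mpr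
      rw [QuotientGroup.ker_mk']
    rw [h9, sup_bot_eq] at h8
    exact h8
  rw [h7, Subgroup.card_top, ← Subgroup.index_eq_card] at h6
  exact h6

end Cfsg.Agent.Lib.Helper3.M11Red
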