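import Mathlib
import Cfsg.Agent.S0496
import Cfsg.Agent.Lib.Helper2.OrdZ
import Cfsg.Agent.Lib.Helper2.OrdZ2
import Cfsg.Agent.Lib.Helper7.Small1

/-! Orders of nonabelian simple groups dividing `7920` properly are `60`, `360`, `660`
(used for S2490). -/

set_option autoImplicit false
set_option maxHeartbeats 4000000
set_option maxRecDepth 100000
set_option linter.unusedVariables false
set_option linter.unusedSectionVars false
set_option linter.style.haveILetI false
set_option linter.deprecated false

namespace Cfsg.Agent.Lib.Helper3.M11Tab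

open Cfsg.Agent.Lib.Helper2.Ord Cfsg.Agent.Lib.Helper7.Small

/-- there is no simple group of order `1980` -/
theorem ns_1980 {G : Type*} [Group G] [Finite G] [IsSimpleGroup G]
    (hG : ¬ IsMulCommutative G) (hn : Nat.card G = 1980) : False := by
  obtain ⟨dk, hdk, h⟩ := cases_p1 hG (p := 11) (by norm_num) (by norm_num) hn (by norm_num)
    (by norm_num) (fun _ _ _ => True) (fun _ _ _ _ => trivial) [(45, 2)] (by decide +kernel)
  simp only [List.mem_singleton] at hdk
  subst hdk
  have h' : SD G 1980 11 45 2 2 := h
  exact h'.not_zstar2 hG (by norm_num) (by norm_num)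
    (by
      intro f h1 h2 h3
      interval_cases f <;> simp_all)

/-- a nonabelian simple group whose order divides `7920` properly has order `60`, `360`
or `660`. -/
theorem simple_order {K : Type*} [Group K] [Finite K] [IsSimpleGroup K]
    (hK : ¬ IsMulCommutative K) (hd : Nat.card K ∣ 7920) (hne : Nat.card K ≠ 7920) :
    Nat.card K = 60 ∨ Nat.card K = 360 ∨ Nat.card K = 660 := by
  have key : ∀ d ∈ Nat.divisors 7920, d ≤ 1092 ∨ d = 1320 ∨ d = 1584 ∨ d = 1980 ∨ d = 2640 ∨
      d = 3960 ∨ d = 7920 := by
    decide +kernel
  have hmem : Nat.card K ∈ Nat.divisors 7920 := Nat.mem_divisors.mpr ⟨hd, by norm_num⟩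
  rcases key _ hmem with h | h | h | h | h | h | h
  · rcases Cfsg.Agent.S0496.result hK h with e | e | e | e | e | e
    · exact Or.inl e
    · exfalso; rw [e] at hd; norm_num at hd
    · exact Or.inr (Or.inl e)
    · exfalso; rw [e] at hd; norm_num at hd
    · exact Or.inr (Or.inr e)
    · exfalso; rw [e] at hd; norm_num at hd
  · exact (kill_par hK (p := 11) (by norm_num) h (by norm_num) (by norm_num) (by norm_num)
      (by decide +kernel)).elim
  · exact (kill_par hK (p := 11) (by norm_num) h (by norm_num) (by norm_num) (by norm_num)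
      (by decide +kernel)).elim
  · exact (ns_1980 hK h).elim
  · exact (kill_par hK (p := 11) (by norm_num) h (by norm_num) (by norm_num) (by norm_num)
      (by decide +kernel)).elim
  · exact (ns_3960 hK h).elim
  · exact (hne h).elim

end Cfsg.Agent.Lib.Helper3.M11Tab
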