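import Mathlib
import Cfsg.Agent.Lib.Helper3.M11Tab
import Cfsg.Agent.Lib.Lead.SmallSimple2

/-! Structure of a normal subgroup of minimal order in a group of order 7920 (for S2490):
it is an elementary abelian `p`-group or has order `60`, `360` or `660`. -/

set_option autoImplicit false
set_option maxHeartbeats 4000000
set_option maxRecDepth 100000
set_option linter.unusedVariables false
set_option linter.unusedSectionVars false
set_option linter.style.haveILetI false
set_option linter.deprecated false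

namespace Cfsg.Agent.Lib.Helper3.M11Red

open Subgroup

universe u

/-- the quotient by a maximal proper normal subgroup is simple -/
lemma isSimpleGroup_quotient {K : Type u} [Group K] (M : Subgroup K) [hMn : M.Normal]
    (hM : M ≠ ⊤) (hmax : ∀ L : Subgroup K, L.Normal → M ≤ L → L = M ∨ L = ⊤) :
    IsSimpleGroup (K ⧸ M) := by
  haveI : Nontrivial (K ⧸ M) := by
    obtain ⟨x, hx⟩ : ∃ x, x ∉ M := by
      by_contra h
      push Not at h
      exact hM (eq_top_iff.mpr fun x _ => h x)
    exact ⟨⟨(x : K ⧸ M), 1, fun h => hx ((QuotientGroup.eq_one_iff x).mp h)⟩⟩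
  refine { exists_pair_ne := exists_pair_ne _, eq_bot_or_eq_top_of_normal := ?_ }
  intro L hL
  have hsurj := QuotientGroup.mk'_surjective M
  have h1 : (L.comap (QuotientGroup.mk' M)).Normal := hL.comap _
  have h2 : M ≤ L.comap (QuotientGroup.mk' M) := by
    intro x hx
    rw [Subgroup.mem_comap]
    have : (QuotientGroup.mk' M) x = 1 := (QuotientGroup.eq_one_iff x).mpr hx
    rw [this]
    exact L.one_mem
  have h3 : (L.comap (QuotientGroup.mk' M)).map (QuotientGroup.mk' M) = L :=
    Subgroup.map_comap_eq_self_of_surjective hsurj L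
  rcases hmax _ h1 h2 with h | h
  · left
    rw [← h3, h]
    exact QuotientGroup.map_mk'_self M
  · right
    rw [← h3, h]
    exact Subgroup.map_top_of_surjective _ hsurj

/-- a nontrivial finite group has a maximal proper normal subgroup -/
lemma exists_max_normal {K : Type u} [Group K] [Finite K] [Nontrivial K] :
    ∃ M : Subgroup K, M.Normal ∧ M ≠ ⊤ ∧
      ∀ L : Subgroup K, L.Normal → M ≤ L → L = M ∨ L = ⊤ := by
  classical
  haveI : Nonempty {M : Subgroup K // M.Normal ∧ M ≠ ⊤} :=
    ⟨⟨⊥, inferInstance, bot_ne_top⟩⟩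
  obtain ⟨M, hM⟩ := Finite.exists_max (fun M : {M : Subgroup K // M.Normal ∧ M ≠ ⊤} =>
    Nat.card M.1)
  refine ⟨M.1, M.2.1, M.2.2, fun L hL hML => ?_⟩
  by_cases hLt : L = ⊤
  · right; exact hLt
  · left
    have := hM ⟨L, hL, hLt⟩
    exact (Subgroup.eq_of_le_of_card_ge hML this).symm

/-- a finite group with a nontrivial proper normal subgroup has a nontrivial normal subgroup
of minimal order, which is proper -/
lemma exists_min_normal {G : Type u} [Group G] [Finite G]
    (h : ∃ N : Subgroup G, N.Normal ∧ N ≠ ⊥ ∧ N ≠ ⊤) :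
    ∃ N : Subgroup G, N.Normal ∧ N ≠ ⊥ ∧ N ≠ ⊤ ∧
      ∀ K : Subgroup G, K.Normal → K ≠ ⊥ → Nat.card N ≤ Nat.card K := by
  classical
  obtain ⟨N₀, hN₀n, hN₀b, hN₀t⟩ := h
  haveI : Nonempty {M : Subgroup G // M.Normal ∧ M ≠ ⊥} := ⟨⟨N₀, hN₀n, hN₀b⟩⟩
  obtain ⟨N, hN⟩ := Finite.exists_min (fun M : {M : Subgroup G // M.Normal ∧ M ≠ ⊥} =>
    Nat.card M.1)
  refine ⟨N.1, N.2.1, N.2.2, ?_, fun K hK hKb => hN ⟨K, hK, hKb⟩⟩
  intro htop
  have h1 := hN ⟨N₀, hN₀n, hN₀b⟩
  simp only [htop] at h1
  exact hN₀t ((Subgroup.eq_of_le_of_card_ge le_top h1))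

variable {G : Type u} [Group G] [Finite G]

theorem min_normal_structure (hord : Nat.card G = 7920) (N : Subgroup G) [hN : N.Normal]
    (hNbot : N ≠ ⊥) (hNtop : N ≠ ⊤)
    (hmin : ∀ K : Subgroup G, K.Normal → K ≤ N → K = ⊥ ∨ K = N) :
    (∃ p : ℕ, p.Prime ∧ (∀ x ∈ N, x ^ p = 1) ∧ (∀ x ∈ N, ∀ y ∈ N, x * y = y * x)) ∨
    (Nat.card N = 60 ∨ Nat.card N = 360 ∨ Nat.card N = 660) := by
  haveI : Nontrivial N := (Subgroup.nontrivial_iff_ne_bot N).mpr hNbot
  obtain ⟨M, hMn, hMtop, hMmax⟩ := exists_max_normal (K := N)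
  haveI := hMn
  haveI hQs : IsSimpleGroup (N ⧸ M) := isSimpleGroup_quotient M hMtop hMmax
  obtain ⟨M', hM'⟩ : ∃ M' : Subgroup G, M' = M.map N.subtype := ⟨_, rfl⟩
  have hM'N : M' ≤ N := by rw [hM']; exact Subgroup.map_subtype_le M
  have hmem : ∀ (x : G) (hx : x ∈ N), (⟨x, hx⟩ : N) ∈ M → x ∈ M' := by
    intro x hx h
    rw [hM']
    exact Subgroup.mem_map.mpr ⟨⟨x, hx⟩, h, rfl⟩
  have hmem' : ∀ (x : G) (hx : x ∈ N), x ∈ M' → (⟨x, hx⟩ : N) ∈ M := by
    intro x hx h
    rw [hM'] at h
    obtain ⟨y, hy, hyx⟩ := Subgroup.mem_map.mp h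
    have : y = ⟨x, hx⟩ := Subtype.ext hyx
    rw [← this]
    exact hy
  have hmemN : ∀ m : N, m ∈ M → (m : G) ∈ M' := fun m hm => hmem m.1 m.2 hm
  have hM'ne : M' ≠ N := by
    intro h
    apply hMtop
    rw [eq_top_iff]
    intro x _
    have hx : (x : G) ∈ M' := by rw [h]; exact x.2
    exact hmem' x x.2 hx
  have hcore : M'.normalCore = ⊥ := by
    rcases hmin M'.normalCore inferInstance ((normalCore_le M').trans hM'N) with h | h
    · exact h
    · exfalso
      apply hM'ne
      exact le_antisymm hM'N (h ▸ normalCore_le M')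
  have hcore' : ∀ x : G, (∀ b : G, b * x * b⁻¹ ∈ M') → x = 1 := by
    intro x hx
    have h1 : x ∈ M'.normalCore := hx
    rw [hcore] at h1
    exact Subgroup.mem_bot.mp h1
  have hcardNdvd : Nat.card N ∣ 7920 := hord ▸ Subgroup.card_subgroup_dvd_card N
  have hcardNlt : Nat.card N < 7920 := by
    by_contra hge
    push Not at hge
    apply hNtop
    exact Subgroup.eq_of_le_of_card_ge le_top (by rw [Subgroup.card_top, hord]; exact hge)
  by_cases hQc : IsMulCommutative (N ⧸ M)
  · left
    have hprime : (Nat.card (N ⧸ M)).Prime :=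
      Cfsg.Agent.Lib.Lead.SmallSimple2.prime_card_of_comm hQc
    refine ⟨Nat.card (N ⧸ M), hprime, ?_, ?_⟩
    · intro x hx
      apply hcore'
      intro b
      have hb : b * x * b⁻¹ ∈ N := hN.conj_mem x hx b
      have h1 : ((⟨b * x * b⁻¹, hb⟩ : N) : N ⧸ M) ^ Nat.card (N ⧸ M) = 1 := pow_card_eq_one'
      have h2 : (⟨b * x * b⁻¹, hb⟩ : N) ^ Nat.card (N ⧸ M) ∈ M := by
        rw [← QuotientGroup.eq_one_iff]
        exact h1
      have h3 : (b * x * b⁻¹) ^ Nat.card (N ⧸ M) ∈ M' := by
        have h4 := hmem _ (N.pow_mem hb _) (by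
          have : (⟨(b * x * b⁻¹) ^ Nat.card (N ⧸ M), N.pow_mem hb _⟩ : N) =
              (⟨b * x * b⁻¹, hb⟩ : N) ^ Nat.card (N ⧸ M) := Subtype.ext (by simp)
          rw [this]
          exact h2)
        exact h4
      rw [conj_pow] at h3
      exact h3
    · intro x hx y hy
      have hcomm : x * y * x⁻¹ * y⁻¹ = 1 := by
        apply hcore'
        intro b
        have hbx : b * x * b⁻¹ ∈ N := hN.conj_mem x hx b
        have hby : b * y * b⁻¹ ∈ N := hN.conj_mem y hy b
        obtain ⟨a, ha⟩ : ∃ a : N, a = ⟨b * x * b⁻¹, hbx⟩ := ⟨_, rfl⟩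
        obtain ⟨c, hc'⟩ : ∃ c : N, c = ⟨b * y * b⁻¹, hby⟩ := ⟨_, rfl⟩
        have h1 : a * c * a⁻¹ * c⁻¹ ∈ M := by
          rw [← QuotientGroup.eq_one_iff]
          have hc := hQc.is_comm.comm (a : N ⧸ M) (c : N ⧸ M)
          rw [QuotientGroup.mk_mul, QuotientGroup.mk_mul, QuotientGroup.mk_mul,
            QuotientGroup.mk_inv, QuotientGroup.mk_inv, hc]
          group
        have h2 := hmemN _ h1
        have h3 : b * (x * y * x⁻¹ * y⁻¹) * b⁻¹ = ((a * c * a⁻¹ * c⁻¹ : N) : G) := by
          rw [ha, hc']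
          push_cast
          group
        rw [h3]
        exact h2
      have h4 : x * y = (x * y * x⁻¹ * y⁻¹) * (y * x) := by group
      rw [h4, hcomm, one_mul]
  · right
    have hQdvd : Nat.card (N ⧸ M) ∣ 7920 :=
      (Subgroup.card_quotient_dvd_card M).trans hcardNdvd
    have hQne : Nat.card (N ⧸ M) ≠ 7920 := by
      have := Nat.le_of_dvd Nat.card_pos (Subgroup.card_quotient_dvd_card M)
      omega
    have htab := Cfsg.Agent.Lib.Helper3.M11Tab.simple_order hQc hQdvd hQne
    have hcardeq : Nat.card N = Nat.card (N ⧸ M) * Nat.card M :=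
      Subgroup.card_eq_card_quotient_mul_card_subgroup M
    by_cases hMbot : M = ⊥
    · have h1 : Nat.card M = 1 := by rw [hMbot]; exact Subgroup.card_bot
      rw [h1, mul_one] at hcardeq
      rw [hcardeq]
      exact htab
    · exfalso
      -- some conjugate of `M` differs from `M`
      have hex : ∃ g : G, M.map (MulAut.conjNormal g : N ≃* N).toMonoidHom ≠ M := by
        by_contra hall
        push Not at hall
        have hnorm : M'.Normal := by
          constructor
          intro x hx g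
          rw [hM'] at hx
          obtain ⟨m, hm, rfl⟩ := Subgroup.mem_map.mp hx
          have h1 : (MulAut.conjNormal g : N ≃* N) m ∈
              M.map (MulAut.conjNormal g : N ≃* N).toMonoidHom :=
            Subgroup.mem_map.mpr ⟨m, hm, rfl⟩
          rw [hall g] at h1
          have h2 := hmemN _ h1
          rw [MulAut.conjNormal_apply] at h2
          exact h2
        rcases hmin M' hnorm hM'N with h | h
        · apply hMbot
          rw [eq_bot_iff]
          intro m hm
          have : (m : G) ∈ M' := hmem _ m.2 hm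
          rw [h, Subgroup.mem_bot] at this
          rw [Subgroup.mem_bot]
          exact Subtype.ext this
        · exact hM'ne h
      obtain ⟨g, hg⟩ := hex
      obtain ⟨M₂, hM₂⟩ : ∃ M₂ : Subgroup N,
          M₂ = M.map (MulAut.conjNormal g : N ≃* N).toMonoidHom := ⟨_, rfl⟩
      rw [← hM₂] at hg
      haveI hM₂n : M₂.Normal := by
        rw [hM₂]
        exact Subgroup.Normal.map hMn _ (MulEquiv.surjective _)
      have hcard₂ : Nat.card M₂ = Nat.card M := by
        rw [hM₂]
        exact Subgroup.card_map_of_injective (MulEquiv.injective _)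
      have hnle : ¬ M₂ ≤ M := by
        intro hle
        exact hg (Subgroup.eq_of_le_of_card_ge hle (le_of_eq hcard₂.symm))
      have hsup : M ⊔ M₂ = ⊤ := by
        rcases hMmax (M ⊔ M₂) inferInstance le_sup_left with h | h
        · exfalso
          apply hnle
          rw [← h]
          exact le_sup_right
        · exact h
      have e1 : M.relIndex M₂ = M.index := by
        have := relIndex_sup_left (K := M) (H := M₂)
        rw [hsup, relIndex_top_right] at this
        exact this.symm
      have e2 : (M ⊓ M₂).relIndex M₂ = M.relIndex M₂ := inf_relIndex_right M M₂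
      have e3 : (M ⊓ M₂).relIndex M₂ * M₂.index = (M ⊓ M₂).index :=
        relIndex_mul_index inf_le_right
      have e4 : M₂.index = M.index := by
        have h1 := M₂.card_mul_index
        have h2 := M.card_mul_index
        rw [hcard₂, ← h2] at h1
        exact Nat.eq_of_mul_eq_mul_left Nat.card_pos h1
      have e5 : M.index = Nat.card (N ⧸ M) := Subgroup.index_eq_card M
      have e6 : (M ⊓ M₂).index ∣ Nat.card N := Subgroup.index_dvd_card _
      rw [← e3, e2, e1, e4, e5] at e6
      have e7 := e6.trans hcardNdvd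
      rcases htab with h | h | h <;> rw [h] at e7 <;> norm_num at e7

end Cfsg.Agent.Lib.Helper3.M11Red
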