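import Mathlib
import Cfsg.Agent.Lib.Helper3.M11Red1
import Cfsg.Agent.Lib.Helper3.M11Red2
import Cfsg.Agent.Lib.Lead.SylowCount

/-! S2490: the edges of the prime graph of a nonsimple group of order 7920. -/

set_option autoImplicit false
set_option maxHeartbeats 4000000
set_option maxRecDepth 100000
set_option linter.unusedVariables false
set_option linter.unusedSectionVars false
set_option linter.style.haveILetI false
set_option linter.deprecated false

namespace Cfsg.Agent.Lib.Helper3.M11Red

open Subgroup Cfsg.Agent.Lib.Lead.SylowCount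

universe u

/-- `E G a b`: there is an element of order `a b` -/
def E (G : Type u) [Group G] (a b : ℕ) : Prop := ∃ g : G, orderOf g = a * b

lemma E.symm {G : Type u} [Group G] {a b : ℕ} (h : E G a b) : E G b a := by
  obtain ⟨g, hg⟩ := h
  exact ⟨g, by rw [hg, mul_comm]⟩

/-- the four primes -/
def S4 (s : ℕ) : Prop := s = 2 ∨ s = 3 ∨ s = 5 ∨ s = 11

/-- a connected set of edges on `{2, 3, 5, 11}` -/
def Conn (G : Type u) [Group G] : Prop :=
  (∃ r, S4 r ∧ (r ≠ 2 → E G r 2) ∧ (r ≠ 3 → E G r 3) ∧ (r ≠ 5 → E G r 5) ∧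
    (r ≠ 11 → E G r 11)) ∨
  (E G 11 2 ∧ E G 11 3 ∧ (E G 5 2 ∨ E G 5 3 ∨ E G 5 11))

lemma prime_dvd_7920 {r : ℕ} (hr : r.Prime) (h : r ∣ 7920) : S4 r := by
  have e : (7920 : ℕ) = 2 ^ 4 * 3 ^ 2 * 5 * 11 := by norm_num
  rw [e] at h
  unfold S4
  rcases (Nat.Prime.dvd_mul hr).mp h with h1 | h1
  · rcases (Nat.Prime.dvd_mul hr).mp h1 with h2 | h2
    · rcases (Nat.Prime.dvd_mul hr).mp h2 with h3 | h3
      · left
        exact (Nat.prime_dvd_prime_iff_eq hr Nat.prime_two).mp (hr.dvd_of_dvd_pow h3)
      · right; left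
        exact (Nat.prime_dvd_prime_iff_eq hr Nat.prime_three).mp (hr.dvd_of_dvd_pow h3)
    · right; right; left
      exact (Nat.prime_dvd_prime_iff_eq hr (by norm_num)).mp h2
  · right; right; right
    exact (Nat.prime_dvd_prime_iff_eq hr (by norm_num)).mp h1

variable {G : Type u} [Group G] [Finite G]

/-- a disconnected prime graph contradicts a connected set of edges -/
theorem false_of_conn (hord : Nat.card G = 7920)
    (hdisc : ∃ A : Set ℕ, (∃ a ∈ A, a.Prime ∧ a ∣ Nat.card G) ∧
      (∃ b ∉ A, b.Prime ∧ b ∣ Nat.card G) ∧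
      ∀ a ∈ A, ∀ b ∉ A, a.Prime → b.Prime → a ∣ Nat.card G → b ∣ Nat.card G →
        ¬ ∃ g : G, orderOf g = a * b)
    (hc : Conn G) : False := by
  obtain ⟨A, ⟨a, haA, hap, had⟩, ⟨b, hbA, hbp, hbd⟩, hno⟩ := hdisc
  rw [hord] at had hbd
  have ha4 := prime_dvd_7920 hap had
  have hb4 := prime_dvd_7920 hbp hbd
  have hS4 : ∀ s, S4 s → s.Prime ∧ s ∣ Nat.card G := by
    rintro s (rfl | rfl | rfl | rfl) <;> rw [hord] <;> constructor <;> norm_num
  have same : ∀ s t, S4 s → S4 t → E G s t → (s ∈ A ↔ t ∈ A) := by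
    intro s t hs ht he
    constructor
    · intro hsA
      by_contra htA
      exact hno s hsA t htA (hS4 s hs).1 (hS4 t ht).1 (hS4 s hs).2 (hS4 t ht).2 he
    · intro htA
      by_contra hsA
      exact hno t htA s hsA (hS4 t ht).1 (hS4 s hs).1 (hS4 t ht).2 (hS4 s hs).2 he.symm
  have h2 : S4 2 := Or.inl rfl
  have h3 : S4 3 := Or.inr (Or.inl rfl)
  have h5 : S4 5 := Or.inr (Or.inr (Or.inl rfl))
  have h11 : S4 11 := Or.inr (Or.inr (Or.inr rfl))
  rcases hc with ⟨r, hr4, e2, e3, e5, e11⟩ | ⟨e1, e2, e3⟩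
  · have all : ∀ s, S4 s → (r ∈ A ↔ s ∈ A) := by
      rintro s (rfl | rfl | rfl | rfl)
      · by_cases h : r = 2
        · rw [h]
        · exact same r 2 hr4 h2 (e2 h)
      · by_cases h : r = 3
        · rw [h]
        · exact same r 3 hr4 h3 (e3 h)
      · by_cases h : r = 5
        · rw [h]
        · exact same r 5 hr4 h5 (e5 h)
      · by_cases h : r = 11
        · rw [h]
        · exact same r 11 hr4 h11 (e11 h)
    exact hbA ((all b hb4).mp ((all a ha4).mpr haA))
  · have i2 := same 11 2 h11 h2 e1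
    have i3 := same 11 3 h11 h3 e2
    have i5 : (11 ∈ A ↔ 5 ∈ A) := by
      rcases e3 with e | e | e
      · exact i2.trans (same 5 2 h5 h2 e).symm
      · exact i3.trans (same 5 3 h5 h3 e).symm
      · exact (same 5 11 h5 h11 e).symm
    have all : ∀ s, S4 s → (11 ∈ A ↔ s ∈ A) := by
      rintro s (rfl | rfl | rfl | rfl)
      · exact i2
      · exact i3
      · exact i5
      · exact Iff.rfl
    exact hbA ((all b hb4).mp ((all a ha4).mpr haA))

/-- an edge from a normal `p`-subgroup -/
lemma edge_of_normal (hord : Nat.card G = 7920) {p q : ℕ} [Fact p.Prime] [Fact q.Prime]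
    (hpq : p ≠ q) (N : Subgroup G) [N.Normal] (hN : IsPGroup p N) (a : ℕ)
    (hdvd : q ^ a ∣ 7920) (h : ¬ q ^ a ∣ Nat.card N - 1) : E G p q := by
  apply exists_orderOf_of_dvd_normalizer hpq N hN a ?_ h
  rw [normalizer_eq_top N, Subgroup.card_top, hord]
  exact hdvd

/-- star at `p` from a small normal `p`-subgroup -/
lemma star_of_card (hord : Nat.card G = 7920) (N : Subgroup G) [N.Normal] {p : ℕ}
    [hp : Fact p.Prime] (hNp : IsPGroup p N) (hp4 : S4 p)
    (h2 : p ≠ 2 → ¬ 2 ^ 4 ∣ Nat.card N - 1) (h3 : p ≠ 3 → ¬ 3 ^ 2 ∣ Nat.card N - 1)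
    (h5 : p ≠ 5 → ¬ 5 ^ 1 ∣ Nat.card N - 1) (h11 : p ≠ 11 → ¬ 11 ^ 1 ∣ Nat.card N - 1) :
    Conn G := by
  haveI : Fact (Nat.Prime 2) := ⟨by norm_num⟩
  haveI : Fact (Nat.Prime 3) := ⟨by norm_num⟩
  haveI : Fact (Nat.Prime 5) := ⟨by norm_num⟩
  haveI : Fact (Nat.Prime 11) := ⟨by norm_num⟩
  left
  refine ⟨p, hp4, fun h => ?_, fun h => ?_, fun h => ?_, fun h => ?_⟩
  · exact edge_of_normal hord h N hNp 4 (by norm_num) (h2 h)
  · exact edge_of_normal hord h N hNp 2 (by norm_num) (h3 h)
  · exact edge_of_normal hord h N hNp 1 (by norm_num) (h5 h)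
  · exact edge_of_normal hord h N hNp 1 (by norm_num) (h11 h)

/-- an edge `p - q` from a Sylow `p`-subgroup of a normal subgroup whose index is divisible
by `q ^ a` -/
lemma edge_of_sylow (N : Subgroup G) [N.Normal] {p q : ℕ} [Fact p.Prime] [Fact q.Prime]
    (hpq : p ≠ q) (a : ℕ) (hidx : q ^ a ∣ N.index) (S : Sylow p N)
    (h : ¬ q ^ a ∣ Nat.card S - 1) : E G p q := by
  have hV : IsPGroup p ((S : Subgroup N).map N.subtype) := S.2.map _
  have hcard : Nat.card ((S : Subgroup N).map N.subtype) = Nat.card S :=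
    Subgroup.card_map_of_injective (Subgroup.subtype_injective _)
  apply exists_orderOf_of_dvd_normalizer hpq _ hV a
  · exact hidx.trans (index_dvd_card_normalizer N S)
  · rw [hcard]
    exact h

/-- the case of a normal subgroup of order `11` -/
lemma case11 (hord : Nat.card G = 7920) (N : Subgroup G) [hN : N.Normal]
    (hcard : Nat.card N = 11) : Conn G := by
  haveI : Fact (Nat.Prime 2) := ⟨by norm_num⟩
  haveI : Fact (Nat.Prime 3) := ⟨by norm_num⟩
  haveI : Fact (Nat.Prime 5) := ⟨by norm_num⟩
  haveI : Fact (Nat.Prime 11) := ⟨by norm_num⟩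
  have hNp : IsPGroup 11 N := IsPGroup.of_card (n := 1) (by rw [hcard]; norm_num)
  right
  refine ⟨edge_of_normal hord (by norm_num) N hNp 4 (by norm_num) (by rw [hcard]; norm_num),
    edge_of_normal hord (by norm_num) N hNp 2 (by norm_num) (by rw [hcard]; norm_num), ?_⟩
  haveI hcyc : IsCyclic N := isCyclic_of_prime_card (p := 11) hcard
  have hidx := index_centralizer_dvd_totient N hcyc
  rw [hcard, Nat.totient_prime (by norm_num)] at hidx
  obtain ⟨C, hC⟩ : ∃ C : Subgroup G, C = centralizer (N : Set G) := ⟨_, rfl⟩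
  rw [← hC] at hidx
  haveI hCn : C.Normal := by rw [hC]; infer_instance
  have hCcard : Nat.card C * C.index = 7920 := by rw [C.card_mul_index, hord]
  obtain ⟨x, hx⟩ := exists_prime_orderOf_dvd_card' (G := G) 5 (by rw [hord]; norm_num)
  by_cases h5 : 5 ∣ Nat.card C
  · right; right
    obtain ⟨c, hcC, hc'⟩ : ∃ c : G, c ∈ C ∧ orderOf c = 5 := by
      obtain ⟨c, hc⟩ := exists_prime_orderOf_dvd_card' (G := C) 5 h5
      exact ⟨(c : G), c.2, by rw [Subgroup.orderOf_coe]; exact hc⟩
    obtain ⟨u, hu⟩ := exists_prime_orderOf_dvd_card' (G := N) 11 (by rw [hcard])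
    have hcomm : Commute c (u : G) := by
      rw [hC, mem_centralizer_iff] at hcC
      exact (hcC u u.2).symm
    refine ⟨c * (u : G), ?_⟩
    have hu' : orderOf (u : G) = 11 := by rw [Subgroup.orderOf_coe]; exact hu
    rw [hcomm.orderOf_mul_eq_mul_orderOf_of_coprime (by rw [hc', hu']; norm_num), hc', hu']
  · have hidx' : C.index = 5 ∨ C.index = 10 := by
      have hle : C.index ≤ 10 := Nat.le_of_dvd (by norm_num) hidx
      have hpos : 0 < C.index := Nat.pos_of_ne_zero (Subgroup.index_ne_zero_of_finite)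
      interval_cases hi : C.index
      · exfalso; apply h5; exact ⟨1584, by omega⟩
      · exfalso; apply h5; exact ⟨792, by omega⟩
      · exfalso; norm_num at hidx
      · exfalso; norm_num at hidx
      · left; rfl
      · exfalso; norm_num at hidx
      · exfalso; norm_num at hidx
      · exfalso; norm_num at hidx
      · exfalso; norm_num at hidx
      · right; rfl
    have hCc : Nat.card C = 1584 ∨ Nat.card C = 792 := by
      rcases hidx' with h | h <;> rw [h] at hCcard
      · left; omega
      · right; omega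
    have hmod : Nat.card C % 5 ≠ 1 := by
      rcases hCc with h | h <;> rw [h] <;> norm_num
    obtain ⟨c, hcC, hc1, hcx⟩ := exists_commuting C x hx
      (by rw [normalizer_eq_top C]; exact mem_top x) hmod
    have hne1 : orderOf c ≠ 1 := fun h => hc1 (orderOf_eq_one_iff.mp h)
    have hr : (orderOf c).minFac.Prime := Nat.minFac_prime hne1
    have hrd : (orderOf c).minFac ∣ orderOf c := Nat.minFac_dvd _
    have hrC : (orderOf c).minFac ∣ Nat.card C :=
      hrd.trans (Subgroup.orderOf_dvd_natCard C hcC)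
    have hr4 : S4 (orderOf c).minFac :=
      prime_dvd_7920 hr (hrC.trans (Dvd.intro _ hCcard))
    obtain ⟨k, hk⟩ := exists_pow_orderOf_eq c hrd
    have hcomm : Commute x (c ^ k) := by
      have h0 : Commute x c := hcx
      exact h0.pow_right k
    have hr5 : (orderOf c).minFac ≠ 5 := fun h => h5 (h ▸ hrC)
    have hedge : E G 5 (orderOf c).minFac := by
      refine ⟨x * c ^ k, ?_⟩
      rw [hcomm.orderOf_mul_eq_mul_orderOf_of_coprime, hx, hk]
      rw [hx, hk]
      exact (Nat.coprime_primes (by norm_num) hr).mpr (Ne.symm hr5)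
    rcases hr4 with h | h | h | h
    · left; rw [h] at hedge; exact hedge
    · right; left; rw [h] at hedge; exact hedge
    · exact absurd h hr5
    · right; right; rw [h] at hedge; exact hedge

/-- the case of an abelian normal subgroup of order `16` of minimal order -/
lemma case16 (hord : Nat.card G = 7920) (N : Subgroup G) [hN : N.Normal]
    (hcard : Nat.card N = 16) (hab : ∀ x ∈ N, ∀ y ∈ N, x * y = y * x)
    (hminc : ∀ K : Subgroup G, K.Normal → K ≠ ⊥ → 16 ≤ Nat.card K) : Conn G := by
  haveI : Fact (Nat.Prime 2) := ⟨by norm_num⟩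
  haveI : Fact (Nat.Prime 3) := ⟨by norm_num⟩
  haveI : Fact (Nat.Prime 5) := ⟨by norm_num⟩
  haveI : Fact (Nat.Prime 11) := ⟨by norm_num⟩
  obtain ⟨P⟩ : Nonempty (Sylow 11 G) := inferInstance
  have hPcard : Nat.card P = 11 :=
    card_sylow_of_card_eq 11 720 (by rw [hord]) (by norm_num) P
  -- `N` centralizes `P`
  have hstep : ∀ z ∈ (P : Subgroup G), N ≤ centralizer ({z} : Set G) := by
    intro z hz
    by_cases hz1 : z = 1
    · intro n _
      rw [mem_centralizer_iff]
      intro y hy
      rw [Set.mem_singleton_iff] at hy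
      rw [hy, hz1, one_mul, mul_one]
    · have hoz : orderOf z = 11 := by
        have h1 : orderOf z ∣ 11 := by
          have := Subgroup.orderOf_dvd_natCard _ hz
          rwa [hPcard] at this
        rcases (Nat.dvd_prime (by norm_num)).mp h1 with h | h
        · exact absurd (orderOf_eq_one_iff.mp h) hz1
        · exact h
      have hmod := card_modEq_card_inf_centralizer N z hoz
        (by rw [normalizer_eq_top N]; exact mem_top z)
      have hdvd : Nat.card (N ⊓ centralizer ({z} : Set G) : Subgroup G) ∣ 16 := by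
        rw [← hcard]; exact Subgroup.card_dvd_of_le inf_le_left
      rw [hcard] at hmod
      have h16 : Nat.card (N ⊓ centralizer ({z} : Set G) : Subgroup G) = 16 := by
        have hle := Nat.le_of_dvd (by norm_num) hdvd
        unfold Nat.ModEq at hmod
        interval_cases Nat.card (N ⊓ centralizer ({z} : Set G) : Subgroup G) <;> omega
      have heq : N ⊓ centralizer ({z} : Set G) = N :=
        Subgroup.eq_of_le_of_card_ge inf_le_left (by rw [h16, hcard])
      rw [← heq]
      exact inf_le_right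
  have hNP : N ≤ centralizer ((P : Subgroup G) : Set G) := by
    intro n hn
    rw [mem_centralizer_iff]
    intro z hz
    have h1 := hstep z hz hn
    rw [mem_centralizer_iff] at h1
    exact h1 z (Set.mem_singleton z)
  have hPN : (P : Subgroup G) ≤ centralizer (N : Set G) := by
    intro z hz
    rw [mem_centralizer_iff]
    intro n hn
    have h1 := hNP hn
    rw [mem_centralizer_iff] at h1
    exact (h1 z hz).symm
  have hNN : N ≤ centralizer (N : Set G) := by
    intro x hx
    rw [mem_centralizer_iff]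
    intro y hy
    exact hab y hy x hx
  have hNnorm : N ≤ normalizer ((P : Subgroup G) : Set G) :=
    hNP.trans (centralizer_le_normalizer _)
  have hPnorm : (P : Subgroup G) ≤ normalizer ((P : Subgroup G) : Set G) := le_normalizer
  have h176 : 176 ∣ Nat.card (normalizer ((P : Subgroup G) : Set G)) := by
    have h1 : 16 ∣ Nat.card (normalizer ((P : Subgroup G) : Set G)) := by
      rw [← hcard]; exact Subgroup.card_dvd_of_le hNnorm
    have h2 : 11 ∣ Nat.card (normalizer ((P : Subgroup G) : Set G)) := by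
      have := Subgroup.card_dvd_of_le hPnorm
      rwa [hPcard] at this
    exact Nat.Coprime.mul_dvd_of_dvd_of_dvd (by norm_num : Nat.Coprime 16 11) h1 h2
  have hn11 : Nat.card (Sylow 11 G) = (normalizer ((P : Subgroup G) : Set G)).index :=
    P.card_eq_index_normalizer
  have hmod11 : Nat.card (Sylow 11 G) ≡ 1 [MOD 11] := card_sylow_modEq_one 11 G
  have hmul := (normalizer ((P : Subgroup G) : Set G)).card_mul_index
  rw [hord, ← hn11] at hmul
  obtain ⟨j, hj⟩ := h176
  have hcases : Nat.card (Sylow 11 G) = 1 ∨ Nat.card (Sylow 11 G) = 45 := by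
    rw [hj] at hmul
    have h45 : j * Nat.card (Sylow 11 G) = 45 := by
      have : 176 * (j * Nat.card (Sylow 11 G)) = 176 * 45 := by rw [← mul_assoc, hmul]
      exact Nat.eq_of_mul_eq_mul_left (by norm_num) this
    have hd : Nat.card (Sylow 11 G) ∣ 45 := Dvd.intro_left _ h45
    have hle := Nat.le_of_dvd (by norm_num) hd
    unfold Nat.ModEq at hmod11
    interval_cases Nat.card (Sylow 11 G) <;> omega
  rcases hcases with h1 | h45
  · exfalso
    have hPn := normal_of_card_sylow_eq_one 11 h1 P
    have hPb : (P : Subgroup G) ≠ ⊥ := by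
      intro h
      rw [h, Subgroup.card_bot] at hPcard
      norm_num at hPcard
    have := hminc P hPn hPb
    rw [hPcard] at this
    norm_num at this
  · have hNPcard : Nat.card (normalizer ((P : Subgroup G) : Set G)) = 176 := by
      rw [h45] at hmul
      omega
    have hsup : N ⊔ (P : Subgroup G) = normalizer ((P : Subgroup G) : Set G) := by
      apply Subgroup.eq_of_le_of_card_ge (sup_le hNnorm hPnorm)
      rw [hNPcard]
      have h1 : 16 ∣ Nat.card (N ⊔ (P : Subgroup G) : Subgroup G) := by
        rw [← hcard]; exact Subgroup.card_dvd_of_le le_sup_left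
      have h2 : 11 ∣ Nat.card (N ⊔ (P : Subgroup G) : Subgroup G) := by
        have := Subgroup.card_dvd_of_le (le_sup_right : (P : Subgroup G) ≤ N ⊔ (P : Subgroup G))
        rwa [hPcard] at this
      have h3 := Nat.Coprime.mul_dvd_of_dvd_of_dvd (by norm_num : Nat.Coprime 16 11) h1 h2
      exact Nat.le_of_dvd Nat.card_pos h3
    have hle : normalizer ((P : Subgroup G) : Set G) ≤ centralizer (N : Set G) := by
      rw [← hsup]
      exact sup_le hNN hPN
    have hF : normalizer ((P : Subgroup G) : Set G) ⊔ centralizer (N : Set G) = ⊤ :=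
      Sylow.normalizer_sup_eq_top' (N := centralizer (N : Set G)) P hPN
    rw [sup_eq_right.mpr hle] at hF
    -- `N` is central
    have hcentral : ∀ x : G, ∀ v ∈ N, x * v = v * x := by
      intro x v hv
      have hx : x ∈ centralizer (N : Set G) := by rw [hF]; exact mem_top x
      rw [mem_centralizer_iff] at hx
      exact (hx v hv).symm
    obtain ⟨v, hv⟩ := exists_prime_orderOf_dvd_card' (G := N) 2 (by rw [hcard]; norm_num)
    have hv' : orderOf (v : G) = 2 := by rw [Subgroup.orderOf_coe]; exact hv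
    have hedge : ∀ q : ℕ, q.Prime → q ≠ 2 → q ∣ 7920 → E G 2 q := by
      intro q hq hq2 hqd
      haveI : Fact q.Prime := ⟨hq⟩
      obtain ⟨x, hx⟩ := exists_prime_orderOf_dvd_card' (G := G) q (by rw [hord]; exact hqd)
      have hcomm : Commute (v : G) x := (hcentral x v v.2).symm
      refine ⟨(v : G) * x, ?_⟩
      rw [hcomm.orderOf_mul_eq_mul_orderOf_of_coprime, hv', hx]
      rw [hv', hx]
      exact (Nat.coprime_primes Nat.prime_two hq).mpr (Ne.symm hq2)
    left
    refine ⟨2, Or.inl rfl, fun h => absurd rfl h, fun _ => ?_, fun _ => ?_, fun _ => ?_⟩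
    · exact hedge 3 (by norm_num) (by norm_num) (by norm_num)
    · exact hedge 5 (by norm_num) (by norm_num) (by norm_num)
    · exact hedge 11 (by norm_num) (by norm_num) (by norm_num)

end Cfsg.Agent.Lib.Helper3.M11Red
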