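import Mathlib
import Cfsg.Agent.Lib.Helper3.M11Red3

/-! S2490: a nonsimple group of order 7920 has a connected prime graph. -/

set_option autoImplicit false
set_option maxHeartbeats 4000000
set_option maxRecDepth 100000
set_option linter.unusedVariables false
set_option linter.unusedSectionVars false
set_option linter.style.haveILetI false
set_option linter.deprecated false

namespace Cfsg.Agent.Lib.Helper3.M11Red

open Subgroup Cfsg.Agent.Lib.Lead.SylowCount

universe u

variable {G : Type u} [Group G] [Finite G]

/-- normal subgroups of order `60` or `360` -/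
lemma case_small (hord : Nat.card G = 7920) (N : Subgroup G) [hN : N.Normal]
    (h : Nat.card N = 60 ∨ Nat.card N = 360) : Conn G := by
  haveI : Fact (Nat.Prime 2) := ⟨by norm_num⟩
  haveI : Fact (Nat.Prime 3) := ⟨by norm_num⟩
  haveI : Fact (Nat.Prime 5) := ⟨by norm_num⟩
  haveI : Fact (Nat.Prime 11) := ⟨by norm_num⟩
  have hidx : 11 ^ 1 ∣ N.index := by
    have := N.card_mul_index
    rw [hord] at this
    rcases h with h | h <;> rw [h] at this
    · exact ⟨12, by omega⟩
    · exact ⟨2, by omega⟩
  left
  refine ⟨11, Or.inr (Or.inr (Or.inr rfl)), fun _ => ?_, fun _ => ?_, fun _ => ?_,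
    fun h => absurd rfl h⟩
  · obtain ⟨S⟩ : Nonempty (Sylow 2 N) := inferInstance
    have hS : Nat.card S = 4 ∨ Nat.card S = 8 := by
      rcases h with h | h
      · left; exact card_sylow_of_card_eq_pow 2 2 15 (by rw [h]; norm_num) (by norm_num) S
      · right; exact card_sylow_of_card_eq_pow 2 3 45 (by rw [h]; norm_num) (by norm_num) S
    exact (edge_of_sylow (p := 2) (q := 11) N (by norm_num) 1 hidx S
      (by rcases hS with e | e <;> rw [e] <;> norm_num)).symm
  · obtain ⟨S⟩ : Nonempty (Sylow 3 N) := inferInstance
    have hS : Nat.card S = 3 ∨ Nat.card S = 9 := by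
      rcases h with h | h
      · left; exact card_sylow_of_card_eq 3 20 (by rw [h]) (by norm_num) S
      · right; exact card_sylow_of_card_eq_pow 3 2 40 (by rw [h]; norm_num) (by norm_num) S
    exact (edge_of_sylow (p := 3) (q := 11) N (by norm_num) 1 hidx S
      (by rcases hS with e | e <;> rw [e] <;> norm_num)).symm
  · obtain ⟨S⟩ : Nonempty (Sylow 5 N) := inferInstance
    have hS : Nat.card S = 5 := by
      rcases h with h | h
      · exact card_sylow_of_card_eq 5 12 (by rw [h]) (by norm_num) S
      · exact card_sylow_of_card_eq 5 72 (by rw [h]) (by norm_num) S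
    exact (edge_of_sylow (p := 5) (q := 11) N (by norm_num) 1 hidx S
      (by rw [hS]; norm_num)).symm

/-- a normal subgroup of order `660` -/
lemma case660 (hord : Nat.card G = 7920) (N : Subgroup G) [hN : N.Normal]
    (h : Nat.card N = 660) : Conn G := by
  haveI : Fact (Nat.Prime 2) := ⟨by norm_num⟩
  haveI : Fact (Nat.Prime 3) := ⟨by norm_num⟩
  haveI : Fact (Nat.Prime 5) := ⟨by norm_num⟩
  haveI : Fact (Nat.Prime 11) := ⟨by norm_num⟩
  have hidx : N.index = 12 := by
    have := N.card_mul_index
    rw [hord, h] at this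
    omega
  right
  obtain ⟨S11⟩ : Nonempty (Sylow 11 N) := inferInstance
  obtain ⟨S5⟩ : Nonempty (Sylow 5 N) := inferInstance
  have h11 : Nat.card S11 = 11 := card_sylow_of_card_eq 11 60 (by rw [h]) (by norm_num) S11
  have h5 : Nat.card S5 = 5 := card_sylow_of_card_eq 5 132 (by rw [h]) (by norm_num) S5
  refine ⟨edge_of_sylow (p := 11) (q := 2) N (by norm_num) 2 (by rw [hidx]; norm_num) S11
      (by rw [h11]; norm_num),
    edge_of_sylow (p := 11) (q := 3) N (by norm_num) 1 (by rw [hidx]; norm_num) S11
      (by rw [h11]; norm_num),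
    Or.inr (Or.inl (edge_of_sylow (p := 5) (q := 3) N (by norm_num) 1
      (by rw [hidx]; norm_num) S5 (by rw [h5]; norm_num)))⟩

/-- an elementary abelian normal subgroup of minimal order -/
lemma case_pgroup (hord : Nat.card G = 7920) (N : Subgroup G) [hN : N.Normal] (hNbot : N ≠ ⊥)
    (hminc : ∀ K : Subgroup G, K.Normal → K ≠ ⊥ → Nat.card N ≤ Nat.card K) {p : ℕ}
    (hp : p.Prime) (hpow : ∀ x ∈ N, x ^ p = 1) (hab : ∀ x ∈ N, ∀ y ∈ N, x * y = y * x) :
    Conn G := by
  haveI : Fact p.Prime := ⟨hp⟩
  have hNp : IsPGroup p N := by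
    intro x
    refine ⟨1, ?_⟩
    rw [pow_one]
    exact Subtype.ext (by simpa using hpow x x.2)
  obtain ⟨k, hk⟩ := hNp.exists_card_eq
  have hdvd : p ^ k ∣ 7920 := by
    rw [← hk, ← hord]
    exact Subgroup.card_subgroup_dvd_card N
  have hk0 : k ≠ 0 := by
    intro h0
    rw [h0, pow_zero] at hk
    exact hNbot (Subgroup.card_eq_one.mp hk)
  have hp4 : S4 p := prime_dvd_7920 hp ((dvd_pow_self p hk0).trans hdvd)
  have hk13 : k < 13 := by
    by_contra hge
    push Not at hge
    have h1 : 2 ^ 13 ≤ p ^ k :=
      calc 2 ^ 13 ≤ 2 ^ k := Nat.pow_le_pow_right (by norm_num) hge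
        _ ≤ p ^ k := Nat.pow_le_pow_left hp.two_le k
    have h2 := Nat.le_of_dvd (by norm_num) hdvd
    norm_num at h1
    omega
  rcases hp4 with rfl | rfl | rfl | rfl
  · interval_cases k
    · exact absurd rfl hk0
    · exact star_of_card hord N hNp (Or.inl rfl) (fun h => absurd rfl h)
        (fun _ => by rw [hk]; norm_num) (fun _ => by rw [hk]; norm_num)
        (fun _ => by rw [hk]; norm_num)
    · exact star_of_card hord N hNp (Or.inl rfl) (fun h => absurd rfl h)
        (fun _ => by rw [hk]; norm_num) (fun _ => by rw [hk]; norm_num)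
        (fun _ => by rw [hk]; norm_num)
    · exact star_of_card hord N hNp (Or.inl rfl) (fun h => absurd rfl h)
        (fun _ => by rw [hk]; norm_num) (fun _ => by rw [hk]; norm_num)
        (fun _ => by rw [hk]; norm_num)
    · refine case16 hord N (by rw [hk]; norm_num) hab (fun K hK hKb => ?_)
      have := hminc K hK hKb
      rw [hk] at this
      norm_num at this
      exact this
    all_goals (exfalso; norm_num at hdvd)
  · interval_cases k
    · exact absurd rfl hk0
    · exact star_of_card hord N hNp (Or.inr (Or.inl rfl)) (fun _ => by rw [hk]; norm_num)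
        (fun h => absurd rfl h) (fun _ => by rw [hk]; norm_num)
        (fun _ => by rw [hk]; norm_num)
    · exact star_of_card hord N hNp (Or.inr (Or.inl rfl)) (fun _ => by rw [hk]; norm_num)
        (fun h => absurd rfl h) (fun _ => by rw [hk]; norm_num)
        (fun _ => by rw [hk]; norm_num)
    all_goals (exfalso; norm_num at hdvd)
  · interval_cases k
    · exact absurd rfl hk0
    · exact star_of_card hord N hNp (Or.inr (Or.inr (Or.inl rfl)))
        (fun _ => by rw [hk]; norm_num) (fun _ => by rw [hk]; norm_num)
        (fun h => absurd rfl h) (fun _ => by rw [hk]; norm_num)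
    all_goals (exfalso; norm_num at hdvd)
  · interval_cases k
    · exact absurd rfl hk0
    · exact case11 hord N (by rw [hk]; norm_num)
    all_goals (exfalso; norm_num at hdvd)

/-- **S2490, main step**: a nonsimple group of order `7920` has a connected prime graph. -/
theorem conn_of_not_simple (hord : Nat.card G = 7920) (hns : ¬ IsSimpleGroup G) : Conn G := by
  haveI : Nontrivial G := by
    apply (Finite.one_lt_card_iff_nontrivial).mp
    rw [hord]
    norm_num
  have hex : ∃ N : Subgroup G, N.Normal ∧ N ≠ ⊥ ∧ N ≠ ⊤ := by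
    by_contra hcon
    push Not at hcon
    apply hns
    exact { exists_pair_ne := exists_pair_ne G
            eq_bot_or_eq_top_of_normal := fun N hN => by
              by_cases h : N = ⊥
              · left; exact h
              · right; exact hcon N hN h }
  obtain ⟨N, hNn, hNbot, hNtop, hminc⟩ := exists_min_normal hex
  haveI := hNn
  have hmin : ∀ K : Subgroup G, K.Normal → K ≤ N → K = ⊥ ∨ K = N := by
    intro K hK hKN
    by_cases hKb : K = ⊥
    · left; exact hKb
    · right; exact Subgroup.eq_of_le_of_card_ge hKN (hminc K hK hKb)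
  rcases min_normal_structure hord N hNbot hNtop hmin with ⟨p, hp, hpow, hab⟩ | h | h | h
  · exact case_pgroup hord N hNbot hminc hp hpow hab
  · exact case_small hord N (Or.inl h)
  · exact case_small hord N (Or.inr h)
  · exact case660 hord N h

end Cfsg.Agent.Lib.Helper3.M11Red
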