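import Mathlib
import Cfsg.Prelude.Def_Solvable
import Cfsg.Agent.Lib.Helper1.PCore
import Cfsg.Agent.Lib.Helper1.ThompsonPQ

/-!
# S5006 unit A1 (RAD)

If `D` is a radical `p`-subgroup (`O_p(N_G(D)) = D`), `x` a `p'`-element of `C_G(D)`, `H` a subgroup
containing `D` and `C_G(D)`, and `R` a `p`-subgroup normal in `H`, then `x` centralizes `R`
(Thompson's `P × Q` lemma).
-/

set_option autoImplicit false
set_option maxHeartbeats 4000000
set_option linter.unusedVariables false
set_option linter.unusedSectionVars false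
set_option linter.style.longLine false

namespace Cfsg.Agent.Lib.Helper3.M24A

open Cfsg.Agent.Lib.Helper1

variable {G : Type*} [Group G]

/-- a `p`-subgroup `T` of `G` which is normal in `N` lies in `O_p(N)` (image in `G`). -/
theorem le_map_pCore_of_normal (p : ℕ) {N T : Subgroup G} (hT : IsPGroup p T) (hTN : T ≤ N)
    (hNT : N ≤ Subgroup.normalizer (T : Set G)) :
    T ≤ (Cfsg.pCore p ↥N).map N.subtype := by
  have hn : (T.subgroupOf N).Normal :=
    (Subgroup.normal_subgroupOf_iff_le_normalizer hTN).2 hNT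
  have h1 : T.subgroupOf N ≤ Cfsg.pCore p ↥N := le_pCore hn hT.comap_subtype
  intro x hx
  exact ⟨⟨x, hTN hx⟩, h1 (Subgroup.mem_subgroupOf.2 hx), rfl⟩

/-- `O_p(C)` (image in `G`) is a `p`-group. -/
theorem map_pCore_isPGroup (p : ℕ) [Fact p.Prime] [Finite G] (C : Subgroup G) :
    IsPGroup p ((Cfsg.pCore p ↥C).map C.subtype) :=
  (pCore_isPGroup (G := ↥C) p).map C.subtype

theorem map_pCore_le (p : ℕ) (C : Subgroup G) : (Cfsg.pCore p ↥C).map C.subtype ≤ C := by
  rintro _ ⟨y, -, rfl⟩
  exact y.2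

/-- conjugating `O_p(C)` by an element normalizing `C` stays inside `O_p(C)`. -/
theorem conj_mem_map_pCore (p : ℕ) [Fact p.Prime] [Finite G] (C : Subgroup G) (n : G)
    (hn : n ∈ Subgroup.normalizer (C : Set G)) (k : G)
    (hk : k ∈ (Cfsg.pCore p ↥C).map C.subtype) :
    n * k * n⁻¹ ∈ (Cfsg.pCore p ↥C).map C.subtype := by
  classical
  set K : Subgroup G := (Cfsg.pCore p ↥C).map C.subtype with hK
  have hKC : K ≤ C := map_pCore_le p C
  have hKp : IsPGroup p K := map_pCore_isPGroup p C
  -- `K` is normal in `C`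
  have hKn : C ≤ Subgroup.normalizer (K : Set G) := by
    intro c hc
    rw [Subgroup.mem_normalizer_iff]
    have hnorm : (Cfsg.pCore p ↥C).Normal := pCore_normal p
    intro g
    constructor
    · rintro ⟨y, hy, rfl⟩
      refine ⟨⟨c, hc⟩ * y * ⟨c, hc⟩⁻¹, hnorm.conj_mem y hy ⟨c, hc⟩, ?_⟩
      simp
    · rintro ⟨y, hy, hyg⟩
      refine ⟨⟨c, hc⟩⁻¹ * y * ⟨c, hc⟩, ?_, ?_⟩
      · have := hnorm.conj_mem y hy (⟨c, hc⟩⁻¹)
        simpa using this
      · have : (C.subtype y) = c * g * c⁻¹ := hyg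
        simp only [map_mul, map_inv, Subgroup.subtype_apply] at this ⊢
        simp only [Subgroup.subtype_apply] at hyg
        rw [hyg]; group
  -- the conjugate subgroup
  let T : Subgroup G := K.map (MulAut.conj n).toMonoidHom
  have hTp : IsPGroup p T := hKp.map _
  have hTC : T ≤ C := by
    rintro _ ⟨y, hy, rfl⟩
    have := (Subgroup.mem_normalizer_iff.mp hn y).mp (hKC hy)
    simpa using this
  have hCT : C ≤ Subgroup.normalizer (T : Set G) := by
    intro c hc
    rw [Subgroup.mem_normalizer_iff]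
    -- `n⁻¹ c n ∈ C`
    have hc' : n⁻¹ * c * n ∈ C := by
      have := (Subgroup.mem_normalizer_iff.mp (Subgroup.inv_mem _ hn) c).mp hc
      simpa using this
    have hc'' : n⁻¹ * c⁻¹ * n ∈ C := by
      have := C.inv_mem hc'
      simpa [mul_assoc] using this
    intro g
    constructor
    · rintro ⟨y, hy, rfl⟩
      refine ⟨(n⁻¹ * c * n) * y * (n⁻¹ * c * n)⁻¹, ?_, ?_⟩
      · exact (Subgroup.mem_normalizer_iff.mp (hKn hc') y).mp hy
      · simp only [MulEquiv.coe_toMonoidHom, MulAut.conj_apply]; group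
    · rintro ⟨y, hy, hyg⟩
      refine ⟨(n⁻¹ * c * n)⁻¹ * y * (n⁻¹ * c * n), ?_, ?_⟩
      · have := (Subgroup.mem_normalizer_iff.mp (hKn (C.inv_mem hc')) y).mp hy
        simpa using this
      · simp only [MulEquiv.coe_toMonoidHom, MulAut.conj_apply] at hyg ⊢
        have h2 : n * y * n⁻¹ = c * g * c⁻¹ := hyg
        have h3 : g = c⁻¹ * (n * y * n⁻¹) * c := by rw [h2]; group
        rw [h3]; group
  have hT : T ≤ K := le_map_pCore_of_normal p hTp hTC hCT
  exact hT ⟨k, hk, by simp⟩

/-- **A1 (RAD)**. -/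
theorem rad_centralizes [Finite G] (p : ℕ) [Fact p.Prime] (D H R : Subgroup G)
    (hD : IsPGroup p D)
    (hrad : (Cfsg.pCore p ↥(Subgroup.normalizer (D : Set G))).map
      (Subgroup.normalizer (D : Set G)).subtype = D)
    (hDH : D ≤ H) (hCH : Subgroup.centralizer (D : Set G) ≤ H)
    (hR : IsPGroup p R) (hRn : H ≤ Subgroup.normalizer (R : Set G))
    (x : G) (hxD : x ∈ Subgroup.centralizer (D : Set G)) (hx : (orderOf x).Coprime p) :
    x ∈ Subgroup.centralizer (R : Set G) := by
  classical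
  set C : Subgroup G := Subgroup.centralizer (D : Set G) with hC
  set N : Subgroup G := Subgroup.normalizer (D : Set G) with hN
  have hCN : C ≤ N := Subgroup.centralizer_le_normalizer _
  -- `N` normalizes `C`
  have hNC : N ≤ Subgroup.normalizer (C : Set G) := by
    intro n hn
    rw [Subgroup.mem_normalizer_iff]
    have key : ∀ m : G, m ∈ N → ∀ c : G, c ∈ C → m * c * m⁻¹ ∈ C := by
      intro m hm c hc
      rw [hC, Subgroup.mem_centralizer_iff]
      intro d hd
      have hd' : m⁻¹ * d * m ∈ D := by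
        have := (Subgroup.mem_normalizer_iff.mp (Subgroup.inv_mem _ hm) d).mp hd
        simpa using this
      have hcomm := (Subgroup.mem_centralizer_iff.mp hc) (m⁻¹ * d * m) hd'
      calc d * (m * c * m⁻¹) = m * ((m⁻¹ * d * m) * c) * m⁻¹ := by group
        _ = m * (c * (m⁻¹ * d * m)) * m⁻¹ := by rw [hcomm]
        _ = m * c * m⁻¹ * d := by group
    intro g
    constructor
    · intro hg; exact key n hn g hg
    · intro hg
      have := key n⁻¹ (N.inv_mem hn) _ hg
      simpa [mul_assoc] using this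
  -- `K = O_p(C)`
  set K : Subgroup G := (Cfsg.pCore p ↥C).map C.subtype with hK
  have hKp : IsPGroup p K := map_pCore_isPGroup p C
  have hKC : K ≤ C := map_pCore_le p C
  have hNK : N ≤ Subgroup.normalizer (K : Set G) := by
    intro n hn
    rw [Subgroup.mem_normalizer_iff]
    intro g
    constructor
    · intro hg; exact conj_mem_map_pCore p C n (hNC hn) g hg
    · intro hg
      have h1 := conj_mem_map_pCore p C n⁻¹ (hNC (N.inv_mem hn)) _ hg
      have h2 : n⁻¹ * (n * g * n⁻¹) * n⁻¹⁻¹ = g := by group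
      rw [h2] at h1
      exact h1
  have hKD : K ≤ D := by
    have := le_map_pCore_of_normal p hKp (hKC.trans hCN) hNK
    rwa [hrad] at this
  -- `Y = R ⊓ C` is a normal `p`-subgroup of `C`
  have hYK : R ⊓ C ≤ K := by
    apply le_map_pCore_of_normal p (hR.to_le inf_le_left) inf_le_right
    intro c hc
    rw [Subgroup.mem_normalizer_iff]
    have hcR := hRn (hCH hc)
    have hcC : c ∈ Subgroup.normalizer (C : Set G) := hNC (hCN hc)
    intro g
    simp only [Subgroup.mem_inf]
    rw [← Subgroup.mem_normalizer_iff.mp hcR g, ← Subgroup.mem_normalizer_iff.mp hcC g]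
  -- Thompson
  have hxz : Subgroup.zpowers x ≤ C := by
    rw [Subgroup.zpowers_le]; exact hxD
  have hPQ : D ≤ Subgroup.centralizer ((Subgroup.zpowers x : Subgroup G) : Set G) := by
    rw [Subgroup.le_centralizer_iff]; exact hxz
  have hQc : (Nat.card (Subgroup.zpowers x)).Coprime p := by
    rw [Nat.card_zpowers]; exact hx
  have hPU : D ≤ Subgroup.normalizer (R : Set G) := hDH.trans hRn
  have hQU : Subgroup.zpowers x ≤ Subgroup.normalizer (R : Set G) :=
    hxz.trans (hCH.trans hRn)
  have hCC : R ⊓ Subgroup.centralizer (D : Set G) ≤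
      Subgroup.centralizer ((Subgroup.zpowers x : Subgroup G) : Set G) :=
    (hYK.trans hKD).trans hPQ
  have := thompson_PxQ p D (Subgroup.zpowers x) R hD hQc hR hPQ hPU hQU hCC
  exact this (Subgroup.mem_zpowers x)

/-- **A1**, verbatim shape of helper2's stub `a1_rad_centralizes` (`p = 2`). -/
theorem a1_rad_centralizes {G : Type*} [Group G] [Finite G]
    (D : Subgroup G) (hD2 : IsPGroup 2 D)
    (hrad : (Cfsg.pCore 2 (Subgroup.normalizer (D : Set G))).map
      (Subgroup.normalizer (D : Set G)).subtype = D)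
    (x : G) (hxC : x ∈ Subgroup.centralizer (D : Set G)) (hx2 : ¬ 2 ∣ orderOf x)
    (H R : Subgroup G) (hDH : D ≤ H) (hCH : Subgroup.centralizer (D : Set G) ≤ H)
    (hRn : H ≤ Subgroup.normalizer (R : Set G)) (hR2 : IsPGroup 2 R) :
    x ∈ Subgroup.centralizer (R : Set G) := by
  haveI : Fact (Nat.Prime 2) := ⟨Nat.prime_two⟩
  refine rad_centralizes 2 D H R hD2 hrad hDH hCH hR2 hRn x hxC ?_
  exact (Nat.coprime_comm.mp ((Nat.Prime.coprime_iff_not_dvd Nat.prime_two).2 hx2))

end Cfsg.Agent.Lib.Helper3.M24A
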