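import Mathlib
import Cfsg.Agent.Lib.Helper3.FT1
import Cfsg.Agent.Lib.Helper6.Multiplicity
import Cfsg.Agent.Lib.Helper6.BlkCover
import Cfsg.Agent.Lib.Helper6.Taketa
import Cfsg.Agent.Lib.Helper6.Linear
import Cfsg.Agent.Lib.Helper6.Ito
import Cfsg.Agent.Lib.Helper6.CharBasic
import Cfsg.Agent.Lib.Helper6.CliffordCorr
import Cfsg.Agent.Lib.Helper6.BlkVanish

set_option autoImplicit false
set_option linter.unusedSectionVars false
set_option linter.style.haveILetI false

/-! General character-theoretic lemmas used for faithful characters whose values on `p`-singular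
elements are roots of unity. -/

namespace Cfsg.Agent.Lib.Helper3.RU
open Cfsg Cfsg.Agent.Lib.Helper6
open scoped ComplexConjugate

section gen
variable {G : Type*} [Group G] [Fintype G]

/-- self inner product via multiplicities -/
theorem classInner_self_eq_sum_sq [Fintype (IrrCharacter G)] {ψ : G → ℂ}
    {m : IrrCharacter G → ℕ} (hm : ψ = ∑ θ, m θ • (θ : G → ℂ))
    (hmi : ∀ θ : IrrCharacter G, classInner ψ (θ : G → ℂ) = m θ) :
    classInner ψ ψ = ∑ θ, ((m θ : ℂ)) ^ 2 := by
  have h1 : classInner ψ ψ = classInner (∑ θ, m θ • (θ : G → ℂ)) ψ :=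
    congrArg (fun f => classInner f ψ) hm
  rw [h1, classInner_sum_left]
  apply Finset.sum_congr rfl
  intro θ _
  have h2 : (m θ • (θ : G → ℂ)) = ((m θ : ℂ)) • (θ : G → ℂ) := by
    rw [Nat.cast_smul_eq_nsmul]
  rw [h2, classInner_smul_left, ← classInner_conj_symm, hmi θ, Complex.conj_natCast]
  ring

/-- irreducible characters of commutative groups are linear -/
theorem irr_apply_one_of_comm (hG : ∀ a b : G, a * b = b * a) {φ : G → ℂ}
    (hφ : IsIrrCharacter G φ) : φ 1 = 1 := by
  obtain ⟨n, ρ, hirr, rfl⟩ := hφ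
  have := hirr
  have h := finrank_eq_one_of_comm hG ρ
  rw [Representation.char_one, h]
  simp

/-- for a commutative group, the norm square sum of a character is at least `|G| χ(1)` -/
theorem card_mul_degree_le_of_comm (hG : ∀ a b : G, a * b = b * a) {ψ : G → ℂ}
    (hψ : IsCharacter G ψ) :
    (Nat.card G : ℝ) * (charDegree ψ : ℝ) ≤ ∑ g : G, Complex.normSq (ψ g) := by
  classical
  have : Fintype (IrrCharacter G) := Fintype.ofFinite _
  obtain ⟨m, hm, hmi⟩ := IsCharacter.exists_mult hψ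
  have h1 := apply_eq_sum_mult hm 1
  have h2 : ψ 1 = ∑ θ : IrrCharacter G, (m θ : ℂ) := by
    rw [h1]
    apply Finset.sum_congr rfl
    intro θ _
    rw [irr_apply_one_of_comm hG θ.2, mul_one]
  rw [IsCharacter.apply_one_eq_charDegree hψ] at h2
  have h3 : charDegree ψ = ∑ θ : IrrCharacter G, m θ := by exact_mod_cast h2
  have h4 := classInner_self_eq_sum_sq hm hmi
  rw [FT.classInner_self_eq] at h4
  have h5 : (Nat.card G : ℝ)⁻¹ * ∑ g : G, Complex.normSq (ψ g)
      = ((∑ θ : IrrCharacter G, (m θ) ^ 2 : ℕ) : ℝ) := by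
    have : ((∑ θ : IrrCharacter G, (m θ) ^ 2 : ℕ) : ℂ) = ∑ θ : IrrCharacter G, ((m θ : ℂ)) ^ 2 := by
      push_cast; rfl
    rw [← this] at h4
    exact_mod_cast h4
  have hcard : (0 : ℝ) < Nat.card G := by
    have : 0 < Nat.card G := Nat.card_pos
    exact_mod_cast this
  have h6 : ∑ g : G, Complex.normSq (ψ g)
      = (Nat.card G : ℝ) * ((∑ θ : IrrCharacter G, (m θ) ^ 2 : ℕ) : ℝ) := by
    rw [← h5]; field_simp
  rw [h6, h3]
  apply mul_le_mul_of_nonneg_left _ hcard.le
  have : ∑ θ : IrrCharacter G, m θ ≤ ∑ θ : IrrCharacter G, (m θ) ^ 2 := by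
    apply Finset.sum_le_sum
    intro θ _
    nlinarith [Nat.zero_le (m θ)]
  exact_mod_cast this

/-- version for a commutative subgroup -/
theorem card_mul_degree_le_of_comm_subgroup (H : Subgroup G) [Fintype H]
    (hH : ∀ a ∈ H, ∀ b ∈ H, a * b = b * a) {ψ : G → ℂ} (hψ : IsCharacter G ψ) :
    (Nat.card H : ℝ) * (charDegree ψ : ℝ) ≤ ∑ x : H, Complex.normSq (ψ x) := by
  have h1 := card_mul_degree_le_of_comm (G := H)
    (fun a b => Subtype.ext (hH a a.2 b b.2)) (IsCharacter.restrict H hψ)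
  have h2 : charDegree (fun h : H => ψ h) = charDegree ψ := by
    unfold charDegree
    rfl
  rw [h2] at h1
  exact h1

/-- the sum over a subgroup is at most the sum over the group -/
theorem sum_subgroup_le (H : Subgroup G) [Fintype H] (F : G → ℝ) (hF : ∀ g, 0 ≤ F g) :
    ∑ x : H, F x ≤ ∑ g : G, F g := by
  classical
  have h1 : ∑ x : H, F x = ∑ g ∈ Finset.univ.filter (· ∈ H), F g := by
    exact (Finset.sum_subtype (p := fun g => g ∈ H) (Finset.univ.filter (· ∈ H)) (by simp) F).symm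
  rw [h1]
  exact Finset.sum_le_sum_of_subset_of_nonneg (Finset.filter_subset _ _) (fun g _ _ => hF g)

/-- an element where a character has maximal absolute value acts as a scalar -/
theorem apply_comm_of_normSq_eq {χ : G → ℂ} (hχ : IsCharacter G χ) {x : G}
    (hx : Complex.normSq (χ x) = Complex.normSq (χ 1)) (g : G) :
    χ (g * x * g⁻¹ * x⁻¹) = χ 1 := by
  obtain ⟨n, ρ, rfl⟩ := hχ
  have h1 : ρ.character 1 = (Module.finrank ℂ (Fin n → ℂ) : ℂ) := Representation.char_one ρ
  have hx' : ‖ρ.character x‖ = (Module.finrank ℂ (Fin n → ℂ) : ℝ) := by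
    have h2 : ‖ρ.character x‖ ^ 2 = ‖ρ.character 1‖ ^ 2 := by
      rw [← Complex.normSq_eq_norm_sq, ← Complex.normSq_eq_norm_sq, hx]
    have h3 : ‖ρ.character x‖ = ‖ρ.character 1‖ :=
      (sq_eq_sq₀ (norm_nonneg _) (norm_nonneg _)).mp h2
    rw [h3, h1]; simp
  obtain ⟨ω, hω⟩ := (norm_character_eq_iff ρ x).mp hx'
  have hk : ρ (g * x * g⁻¹ * x⁻¹) = LinearMap.id := by
    have hcomm : ρ g * ρ x = ρ x * ρ g := by
      rw [hω]
      ext v
      simp
    have : ρ (g * x * g⁻¹ * x⁻¹) = ρ (x * g * g⁻¹ * x⁻¹) := by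
      rw [map_mul, map_mul, map_mul, hcomm, ← map_mul, ← map_mul, ← map_mul]
    rw [this]
    have : x * g * g⁻¹ * x⁻¹ = 1 := by group
    rw [this, map_one]; rfl
  rw [h1]
  exact (character_eq_finrank_iff ρ (g * x * g⁻¹ * x⁻¹)).mpr hk

/-- a central element has maximal absolute value under an irreducible character -/
theorem normSq_of_central {χ : G → ℂ} (hχ : IsIrrCharacter G χ) {z : G}
    (hz : ∀ h : G, z * h = h * z) : Complex.normSq (χ z) = Complex.normSq (χ 1) := by
  classical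
  have h1 := IsIrrCharacter.apply_central_mul hχ hz z⁻¹
  rw [mul_inv_cancel] at h1
  have h0 := IsIrrCharacter.apply_one_ne_zero hχ
  have hinv : χ z⁻¹ = conj (χ z) := by
    obtain ⟨n, ρ, -, rfl⟩ := hχ
    exact character_inv ρ z
  rw [hinv, Complex.mul_conj] at h1
  obtain ⟨d, hd⟩ := IsCharacter.apply_one_eq_natCast (IsIrrCharacter.isCharacter hχ)
  rw [hd] at h1 h0 ⊢
  have h2 : ((Complex.normSq (χ z) : ℝ) : ℂ) = ((d : ℂ)) * d := by
    field_simp at h1
    rw [← h1]; ring
  rw [Complex.normSq_natCast]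
  have : ((Complex.normSq (χ z) : ℝ) : ℂ) = (((d : ℝ) * d : ℝ) : ℂ) := by
    rw [h2]; push_cast; ring
  exact_mod_cast this

end gen

end Cfsg.Agent.Lib.Helper3.RU
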