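import Mathlib
import Cfsg.Agent.Lib.Helper3.RU1
import Cfsg.Agent.Lib.Helper6.BlkIdem
import Cfsg.Agent.Lib.Helper6.DegreeDvd
import Cfsg.Agent.Lib.Helper6.Regular
import Cfsg.Agent.Lib.Helper6.Constituent
import Cfsg.Agent.Lib.Helper6.RepBasic
import Cfsg.Agent.Lib.Helper6.BlkDefect

/-!
# S5006 unit A3 (lemma L)

For an irreducible character `χ` of `p`-defect zero and an element `g` of prime order `q ≠ p` with
`p ^ k ∣ |C_G(g)|`, the multiplicities of the linear characters of `⟨g⟩` in `χ|⟨g⟩` are pairwise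
congruent modulo `p ^ k`; consequently (when `q ∤ χ(1)`) the sum of `|χ|²` over the elements of
order `q` is at least `p ^ (2k)` times their number.
-/

set_option autoImplicit false
set_option maxHeartbeats 4000000
set_option linter.unusedVariables false
set_option linter.unusedSectionVars false
set_option linter.style.longLine false
set_option linter.unusedDecidableInType false
set_option linter.style.haveILetI false

namespace Cfsg.Agent.Lib.Helper3.M24A

open Cfsg Cfsg.Agent.Lib.Helper6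
open scoped ComplexConjugate

/-- **A3b** (combinatorics), verbatim shape of helper2's stub. -/
theorem a3b_comb (n : ℕ) (m : Fin n → ℤ) (d : ℤ) (hdiv : ∀ r s, d ∣ m r - m s)
    (hne : ∃ r s, m r ≠ m s) :
    ((n : ℤ) - 1) * d ^ 2 ≤ (n : ℤ) * ∑ r, m r ^ 2 - (∑ r, m r) ^ 2 := by
  classical
  obtain ⟨r0, s0, h0⟩ := hne
  obtain ⟨c, hc⟩ : ∃ c, c = m r0 := ⟨_, rfl⟩
  obtain ⟨u, hu⟩ : ∃ u : Fin n → ℤ, ∀ i, m i = u i + c := ⟨fun i => m i - c, fun i => by ring⟩
  have h1 : ∑ r, m r = ∑ r, u r + n * c := by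
    rw [Finset.sum_congr rfl (fun i _ => hu i), Finset.sum_add_distrib]
    simp
  have h2 : ∑ r, m r ^ 2 = ∑ r, u r ^ 2 + 2 * c * ∑ r, u r + n * c ^ 2 := by
    have : ∀ i ∈ (Finset.univ : Finset (Fin n)), m i ^ 2 = u i ^ 2 + 2 * c * u i + c ^ 2 := by
      intro i _
      rw [hu i]; ring
    rw [Finset.sum_congr rfl this, Finset.sum_add_distrib, Finset.sum_add_distrib,
      ← Finset.mul_sum]
    simp
  have hur0 : u r0 = 0 := by
    have := hu r0
    linarith
  have hus0 : u s0 ≠ 0 := by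
    intro h
    apply h0
    rw [hu r0, hu s0, h, hur0]
  have hd : ∀ i, d ∣ u i := by
    intro i
    have := hdiv i r0
    rw [hu i, hu r0, hur0] at this
    simpa using this
  set Z : Finset (Fin n) := Finset.univ.filter (fun i => u i ≠ 0) with hZ
  have hsumZ : ∑ i ∈ Z, u i = ∑ i, u i := Finset.sum_filter_ne_zero (s := Finset.univ)
  have hsqZ : ∑ i ∈ Z, u i ^ 2 = ∑ i, u i ^ 2 := by
    apply Finset.sum_filter_of_ne
    intro x _ hx h
    apply hx
    rw [h]; ring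
  have hCS : (∑ i ∈ Z, u i) ^ 2 ≤ (Z.card : ℤ) * ∑ i ∈ Z, u i ^ 2 := sq_sum_le_card_mul_sum_sq
  have hlow : (Z.card : ℤ) * d ^ 2 ≤ ∑ i ∈ Z, u i ^ 2 := by
    have := Finset.card_nsmul_le_sum Z (fun i => u i ^ 2) (d ^ 2) (by
      intro i hi
      have hi0 : u i ≠ 0 := (Finset.mem_filter.1 hi).2
      obtain ⟨t, ht⟩ := hd i
      have ht0 : t ≠ 0 := by
        rintro rfl
        apply hi0
        rw [ht]; ring
      have ht1 : 0 < t ^ 2 := by positivity
      have ht2 : 1 ≤ t ^ 2 := by linarith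
      rw [ht]
      nlinarith [sq_nonneg d])
    simpa [nsmul_eq_mul] using this
  have hz1 : (1 : ℤ) ≤ Z.card := by
    have : 0 < Z.card := Finset.card_pos.2 ⟨s0, Finset.mem_filter.2 ⟨Finset.mem_univ _, hus0⟩⟩
    exact_mod_cast this
  have hz2 : (Z.card : ℤ) ≤ n - 1 := by
    have : Z.card < (Finset.univ : Finset (Fin n)).card :=
      Finset.card_lt_card ⟨Finset.subset_univ _, fun h => by
        have := h (Finset.mem_univ r0)
        exact (Finset.mem_filter.1 this).2 hur0⟩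
    rw [Finset.card_univ, Fintype.card_fin] at this
    have h' : (Z.card : ℤ) < n := by exact_mod_cast this
    linarith
  rw [hsumZ, hsqZ] at hCS
  rw [hsqZ] at hlow
  rw [h1, h2]
  set S := ∑ i, u i ^ 2 with hS
  set T := ∑ i, u i with hT
  set z : ℤ := (Z.card : ℤ) with hz
  have hp1 : 0 ≤ ((n : ℤ) - z) * (S - z * d ^ 2) := by
    apply mul_nonneg <;> linarith
  have hp2 : 0 ≤ (z - 1) * ((n : ℤ) - 1 - z) * d ^ 2 := by
    apply mul_nonneg
    · apply mul_nonneg <;> linarith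
    · exact sq_nonneg d
  nlinarith [hp1, hp2, hCS]

section integrality

variable {G : Type*} [Group G] [Fintype G]

/-- For `χ` of `p`-defect zero and `p ^ k ∣ |C_G(h)|`, `|G|_{p'} · χ(h) / p ^ k` is an algebraic
integer. -/
theorem isIntegral_ordCompl_mul_apply_div (p k : ℕ) [Fact p.Prime] (χ : IrrCharacter G)
    (hdef : (charDegree (χ : G → ℂ)).factorization p = (Nat.card G).factorization p)
    (h : G) (hC : p ^ k ∣ Nat.card (Subgroup.centralizer ({h} : Set G))) :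
    IsIntegral ℤ (((Nat.card G / p ^ (Nat.card G).factorization p : ℕ) : ℂ)
      * (χ : G → ℂ) h / (p : ℂ) ^ k) := by
  have hp := (Fact.out : p.Prime)
  obtain ⟨a, ha⟩ : ∃ a, a = (Nat.card G).factorization p := ⟨_, rfl⟩
  rw [← ha]
  have hGe : p ^ a * (Nat.card G / p ^ a) = Nat.card G := by
    rw [ha]; exact Nat.ordProj_mul_ordCompl_eq_self (Nat.card G) p
  obtain ⟨n0, hn0⟩ : ∃ n0, n0 = Nat.card G / p ^ a := ⟨_, rfl⟩
  rw [← hn0] at hGe ⊢
  obtain ⟨deg, hdeg⟩ : ∃ deg, deg = charDegree (χ : G → ℂ) := ⟨_, rfl⟩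
  have hde : p ^ a * (deg / p ^ a) = deg := by
    rw [ha, hdeg, ← hdef]; exact Nat.ordProj_mul_ordCompl_eq_self _ p
  obtain ⟨d0, hd0⟩ : ∃ d0, d0 = deg / p ^ a := ⟨_, rfl⟩
  rw [← hd0] at hde
  obtain ⟨c, hc⟩ := hC
  have hidx := Subgroup.index_mul_card (Subgroup.centralizer ({h} : Set G))
  have hω := IsIrrCharacter.isIntegral_centralChar' χ.2 h
  unfold centralChar at hω
  rw [IsCharacter.apply_one_eq_charDegree (IsIrrCharacter.isCharacter χ.2), ← hdeg] at hω
  have hdegpos : 0 < deg := by rw [hdeg]; exact IsIrrCharacter.charDegree_pos χ.2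
  have hd0pos : d0 ≠ 0 := by
    rintro rfl
    rw [mul_zero] at hde
    omega
  have hp0 : (p : ℂ) ≠ 0 := by exact_mod_cast hp.ne_zero
  have hd0' : (d0 : ℂ) ≠ 0 := by exact_mod_cast hd0pos
  have hGe' : (p : ℂ) ^ a * n0 = (Nat.card G : ℂ) := by exact_mod_cast hGe
  have hde' : (p : ℂ) ^ a * d0 = (deg : ℂ) := by exact_mod_cast hde
  have hc' : (Nat.card (Subgroup.centralizer ({h} : Set G)) : ℂ) = (p : ℂ) ^ k * c := by
    exact_mod_cast hc
  have hidx' : ((Subgroup.centralizer ({h} : Set G)).index : ℂ)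
      * (Nat.card (Subgroup.centralizer ({h} : Set G)) : ℂ) = (Nat.card G : ℂ) := by
    exact_mod_cast hidx
  have E : ((Subgroup.centralizer ({h} : Set G)).index : ℂ) * ((p : ℂ) ^ k * c)
      = (p : ℂ) ^ a * n0 := by
    rw [← hc', hidx', hGe']
  have key : ((n0 : ℂ) * (χ : G → ℂ) h / (p : ℂ) ^ k)
      = ((c : ℂ) * (d0 : ℂ)) * (((Subgroup.centralizer ({h} : Set G)).index : ℂ)
        * (χ : G → ℂ) h / (deg : ℂ)) := by
    rw [← hde']
    field_simp
    linear_combination (-((χ : G → ℂ) h)) * E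
  rw [key]
  exact IsIntegral.mul (IsIntegral.mul (isIntegral_natCast _) (isIntegral_natCast _)) hω

end integrality

section mult

variable {G : Type*} [Group G] [Fintype G]

/-- centralizers of two generators of the same cyclic group coincide -/
theorem centralizer_singleton_eq_of_zpowers_eq {x g : G}
    (h : Subgroup.zpowers x = Subgroup.zpowers g) :
    Subgroup.centralizer ({x} : Set G) = Subgroup.centralizer ({g} : Set G) := by
  have key : ∀ {a b : G}, b ∈ Subgroup.zpowers a →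
      Subgroup.centralizer ({a} : Set G) ≤ Subgroup.centralizer ({b} : Set G) := by
    intro a b hb y hy
    rw [Subgroup.mem_centralizer_iff] at hy ⊢
    intro z hz
    rw [Set.mem_singleton_iff] at hz
    subst hz
    obtain ⟨i, rfl⟩ := Subgroup.mem_zpowers_iff.1 hb
    have hcomm : Commute a y := hy a rfl
    exact (hcomm.zpow_left i).eq
  apply le_antisymm
  · exact key (h ▸ Subgroup.mem_zpowers g)
  · exact key (h.symm ▸ Subgroup.mem_zpowers x)

/-- a nontrivial element of a cyclic group of prime order generates it -/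
theorem zpowers_eq_of_mem_of_ne_one {q : ℕ} (hq : q.Prime) {g x : G} (hg : orderOf g = q)
    (hx : x ∈ Subgroup.zpowers g) (hx1 : x ≠ 1) :
    Subgroup.zpowers x = Subgroup.zpowers g := by
  apply Subgroup.eq_of_le_of_card_ge (Subgroup.zpowers_le.2 hx)
  rw [Nat.card_zpowers, Nat.card_zpowers, hg]
  obtain ⟨i, rfl⟩ := Subgroup.mem_zpowers_iff.1 hx
  have hdvd : orderOf (g ^ i) ∣ q := by
    apply orderOf_dvd_of_pow_eq_one
    rw [← zpow_natCast, ← zpow_mul, mul_comm, zpow_mul, zpow_natCast, ← hg, pow_orderOf_eq_one,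
      one_zpow]
  rcases (Nat.dvd_prime hq).1 hdvd with h | h
  · exact absurd (orderOf_eq_one_iff.1 h) hx1
  · rw [h]

/-- sum over a cyclic subgroup as a sum over exponents -/
theorem sum_zpowers_eq_sum_range (g : G) [Fintype ↥(Subgroup.zpowers g)] (F : G → ℝ) :
    ∑ x : Subgroup.zpowers g, F x = ∑ j ∈ Finset.range (orderOf g), F (g ^ j) := by
  rw [← Fin.sum_univ_eq_sum_range (fun j => F (g ^ j)) (orderOf g),
    ← Equiv.sum_comp (finEquivZPowers (isOfFinOrder_of_finite g))]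
  apply Finset.sum_congr rfl
  intro i _
  rw [finEquivZPowers_apply]

/-- **A3a** (multiplicities of the restriction to `⟨g⟩`), verbatim shape of helper2's stub. -/
theorem a3a_mult {G : Type*} [Group G] [Fintype G] (p q k : ℕ) [Fact p.Prime] [Fact q.Prime]
    (hpq : p ≠ q) (χ : Cfsg.IrrCharacter G)
    (hdef : (Cfsg.charDegree (χ : G → ℂ)).factorization p = (Nat.card G).factorization p)
    (g : G) (hg : orderOf g = q)
    (hC : p ^ k ∣ Nat.card (Subgroup.centralizer ({g} : Set G))) :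
    ∃ m : Fin q → ℤ, (∑ r, m r = (Cfsg.charDegree (χ : G → ℂ) : ℤ)) ∧
      (∑ j ∈ Finset.range q, ‖(χ : G → ℂ) (g ^ j)‖ ^ 2 = (q : ℝ) * ∑ r, ((m r : ℤ) : ℝ) ^ 2) ∧
      ∀ r s, (p : ℤ) ^ k ∣ m r - m s := by
  classical
  have hp := (Fact.out : p.Prime)
  have hq := (Fact.out : q.Prime)
  have hcardH : Nat.card (Subgroup.zpowers g) = q := by rw [Nat.card_zpowers, hg]
  haveI : Fintype (IrrCharacter (Subgroup.zpowers g)) := Fintype.ofFinite _
  have hcomm : ∀ a b : Subgroup.zpowers g, a * b = b * a := by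
    intro a b
    obtain ⟨a, ha⟩ := a
    obtain ⟨b, hb⟩ := b
    obtain ⟨i, rfl⟩ := Subgroup.mem_zpowers_iff.1 ha
    obtain ⟨j, rfl⟩ := Subgroup.mem_zpowers_iff.1 hb
    apply Subtype.ext
    show g ^ i * g ^ j = g ^ j * g ^ i
    rw [← zpow_add, ← zpow_add, add_comm]
  obtain ⟨φ, hφdef⟩ : ∃ φ : Subgroup.zpowers g → ℂ,
      φ = fun h : Subgroup.zpowers g => (χ : G → ℂ) h := ⟨_, rfl⟩
  have hφx : ∀ x : Subgroup.zpowers g, φ x = (χ : G → ℂ) x := fun x => by rw [hφdef]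
  have hφ : IsCharacter (Subgroup.zpowers g) φ := by
    rw [hφdef]
    exact IsCharacter.restrict _ (IsIrrCharacter.isCharacter χ.2)
  obtain ⟨mult, hm, hmi⟩ := IsCharacter.exists_mult hφ
  have hlin : ∀ θ : IrrCharacter (Subgroup.zpowers g), (θ : Subgroup.zpowers g → ℂ) 1 = 1 :=
    fun θ => RU.irr_apply_one_of_comm hcomm θ.2
  have hcardIrr : Fintype.card (IrrCharacter (Subgroup.zpowers g)) = q := by
    have h := sum_sq_degree (G := Subgroup.zpowers g)
    simp only [hlin, one_pow, Finset.sum_const, Finset.card_univ, nsmul_eq_mul, mul_one] at h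
    rw [hcardH] at h
    exact_mod_cast h
  have hq0 : (q : ℂ) ≠ 0 := by exact_mod_cast hq.ne_zero
  have hsum : ∀ θ : IrrCharacter (Subgroup.zpowers g),
      ∑ x : Subgroup.zpowers g, φ x * conj ((θ : Subgroup.zpowers g → ℂ) x)
        = (q : ℂ) * mult θ := by
    intro θ
    have h := hmi θ
    unfold classInner at h
    rw [hcardH] at h
    rw [← h]
    field_simp
  have hdiff : ∀ θ θ' : IrrCharacter (Subgroup.zpowers g),
      (q : ℂ) * ((mult θ : ℂ) - mult θ')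
        = ∑ x : Subgroup.zpowers g, φ x * (conj ((θ : Subgroup.zpowers g → ℂ) x)
            - conj ((θ' : Subgroup.zpowers g → ℂ) x)) := by
    intro θ θ'
    rw [mul_sub, ← hsum θ, ← hsum θ', ← Finset.sum_sub_distrib]
    apply Finset.sum_congr rfl
    intro x _
    ring
  obtain ⟨n0, hn0⟩ : ∃ n0 : ℕ, n0 = Nat.card G / p ^ (Nat.card G).factorization p := ⟨_, rfl⟩
  have hint : ∀ θ θ' : IrrCharacter (Subgroup.zpowers g),
      IsIntegral ℤ ((n0 : ℂ) * ((q : ℂ) * ((mult θ : ℂ) - mult θ')) / (p : ℂ) ^ k) := by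
    intro θ θ'
    rw [hdiff θ θ', Finset.mul_sum, Finset.sum_div]
    apply IsIntegral.sum
    intro x _
    by_cases hx1 : x = 1
    · subst hx1
      rw [hlin θ, hlin θ']
      simp only [sub_self, mul_zero, zero_div]
      exact isIntegral_zero
    · have hxx : (x : G) ≠ 1 := fun h => hx1 (Subtype.ext h)
      have hzx : Subgroup.zpowers (x : G) = Subgroup.zpowers g :=
        zpowers_eq_of_mem_of_ne_one hq hg x.2 hxx
      have hCx : p ^ k ∣ Nat.card (Subgroup.centralizer ({(x : G)} : Set G)) := by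
        rw [centralizer_singleton_eq_of_zpowers_eq hzx]
        exact hC
      have h1 := isIntegral_ordCompl_mul_apply_div p k χ hdef (x : G) hCx
      rw [← hn0] at h1
      have h2 : IsIntegral ℤ (conj ((θ : Subgroup.zpowers g → ℂ) x)
          - conj ((θ' : Subgroup.zpowers g → ℂ) x)) :=
        IsIntegral.sub
          (isIntegral_conj (IsCharacter.isIntegral_apply (IsIrrCharacter.isCharacter θ.2) x))
          (isIntegral_conj (IsCharacter.isIntegral_apply (IsIrrCharacter.isCharacter θ'.2) x))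
      have h3 : (n0 : ℂ) * (φ x * (conj ((θ : Subgroup.zpowers g → ℂ) x)
          - conj ((θ' : Subgroup.zpowers g → ℂ) x))) / (p : ℂ) ^ k
          = ((n0 : ℂ) * (χ : G → ℂ) x / (p : ℂ) ^ k) * (conj ((θ : Subgroup.zpowers g → ℂ) x)
          - conj ((θ' : Subgroup.zpowers g → ℂ) x)) := by
        rw [hφx]; ring
      rw [h3]
      exact IsIntegral.mul h1 h2
  have hdvd : ∀ θ θ' : IrrCharacter (Subgroup.zpowers g),
      (p : ℤ) ^ k ∣ (mult θ : ℤ) - mult θ' := by
    intro θ θ'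
    have h := hint θ θ'
    have hrat : ((n0 : ℂ) * ((q : ℂ) * ((mult θ : ℂ) - mult θ')) / (p : ℂ) ^ k)
        = (((n0 : ℚ) * ((q : ℚ) * ((mult θ : ℚ) - mult θ')) / (p : ℚ) ^ k : ℚ) : ℂ) := by
      push_cast; rfl
    rw [hrat] at h
    obtain ⟨N, hN⟩ := int_of_isIntegral_ratCast h
    have hpk : ((p : ℚ) ^ k) ≠ 0 := by
      have : (p : ℚ) ≠ 0 := by exact_mod_cast hp.ne_zero
      positivity
    have h2 : (n0 : ℚ) * ((q : ℚ) * ((mult θ : ℚ) - mult θ')) = (p : ℚ) ^ k * N := by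
      rw [hN]; field_simp
    have h3 : (((n0 * q : ℕ) : ℤ)) * ((mult θ : ℤ) - mult θ') = (p : ℤ) ^ k * N := by
      have : (((n0 * q : ℕ) : ℤ) : ℚ) * (((mult θ : ℤ) : ℚ) - ((mult θ' : ℤ) : ℚ))
          = ((p : ℤ) : ℚ) ^ k * N := by
        push_cast
        rw [← h2]; ring
      exact_mod_cast this
    have hcop : IsCoprime ((p : ℤ) ^ k) (((n0 * q : ℕ) : ℤ)) := by
      have : Nat.Coprime (p ^ k) (n0 * q) := by
        apply Nat.Coprime.pow_left
        apply Nat.Coprime.mul_right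
        · rw [hn0]; exact Nat.coprime_ordCompl hp Nat.card_pos.ne'
        · exact (Nat.coprime_primes hp hq).2 hpq
      have := Nat.isCoprime_iff_coprime.2 this
      exact_mod_cast this
    exact hcop.dvd_of_dvd_mul_left ⟨N, h3⟩
  have hdegsum : (∑ θ : IrrCharacter (Subgroup.zpowers g), (mult θ : ℤ))
      = (charDegree (χ : G → ℂ) : ℤ) := by
    have h1 := apply_eq_sum_mult hm 1
    simp only [hlin, mul_one] at h1
    have h2 : φ 1 = (charDegree (χ : G → ℂ) : ℂ) := by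
      rw [hφx]
      exact IsCharacter.apply_one_eq_charDegree (IsIrrCharacter.isCharacter χ.2)
    rw [h2] at h1
    exact_mod_cast h1.symm
  have hparseval : ∑ j ∈ Finset.range q, ‖(χ : G → ℂ) (g ^ j)‖ ^ 2
      = (q : ℝ) * ∑ θ : IrrCharacter (Subgroup.zpowers g), ((mult θ : ℕ) : ℝ) ^ 2 := by
    have h4 := RU.classInner_self_eq_sum_sq hm hmi
    rw [FT.classInner_self_eq, hcardH] at h4
    have h5 : (q : ℝ)⁻¹ * ∑ x : Subgroup.zpowers g, Complex.normSq (φ x)
        = ∑ θ : IrrCharacter (Subgroup.zpowers g), ((mult θ : ℕ) : ℝ) ^ 2 := by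
      have : ((∑ θ : IrrCharacter (Subgroup.zpowers g), ((mult θ : ℕ) : ℝ) ^ 2 : ℝ) : ℂ)
          = ∑ θ : IrrCharacter (Subgroup.zpowers g), ((mult θ : ℂ)) ^ 2 := by
        push_cast; rfl
      rw [← this] at h4
      exact_mod_cast h4
    have hq0' : (q : ℝ) ≠ 0 := by exact_mod_cast hq.ne_zero
    have h6 : ∑ x : Subgroup.zpowers g, Complex.normSq (φ x)
        = (q : ℝ) * ∑ θ : IrrCharacter (Subgroup.zpowers g), ((mult θ : ℕ) : ℝ) ^ 2 := by
      rw [← h5]; field_simp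
    rw [← h6]
    have h7 := sum_zpowers_eq_sum_range g (fun y => ‖(χ : G → ℂ) y‖ ^ 2)
    rw [hg] at h7
    rw [← h7]
    apply Finset.sum_congr rfl
    intro x _
    rw [hφx, Complex.normSq_eq_norm_sq]
  let e : IrrCharacter (Subgroup.zpowers g) ≃ Fin q := Fintype.equivFinOfCardEq hcardIrr
  refine ⟨fun r => (mult (e.symm r) : ℤ), ?_, ?_, ?_⟩
  · exact (Equiv.sum_comp e.symm (fun θ => (mult θ : ℤ))).trans hdegsum
  · rw [hparseval]
    congr 1
    have := Equiv.sum_comp e.symm (fun θ => ((mult θ : ℕ) : ℝ) ^ 2)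
    rw [← this]
    apply Finset.sum_congr rfl
    intro r _
    push_cast
    rfl
  · intro r s
    exact hdvd _ _

end mult

section glob

/-- local form of lemma **L**: for `g` of prime order `q`, `q ∤ χ(1)`, `χ` of `p`-defect zero,
`p ^ k ∣ |C(g)|`: `∑_{j=1}^{q-1} |χ(g^j)|² ≥ (q-1) p^{2k}`. -/
theorem a3_local {G : Type*} [Group G] [Fintype G] (p q k : ℕ) [Fact p.Prime] [Fact q.Prime]
    (hpq : p ≠ q) (χ : Cfsg.IrrCharacter G)
    (hdef : (Cfsg.charDegree (χ : G → ℂ)).factorization p = (Nat.card G).factorization p)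
    (hq : ¬ q ∣ Cfsg.charDegree (χ : G → ℂ))
    (g : G) (hg : orderOf g = q)
    (hC : p ^ k ∣ Nat.card (Subgroup.centralizer ({g} : Set G))) :
    ((q : ℝ) - 1) * (p : ℝ) ^ (2 * k)
      ≤ ∑ j ∈ Finset.Ico 1 q, ‖(χ : G → ℂ) (g ^ j)‖ ^ 2 := by
  have hqp := (Fact.out : q.Prime)
  obtain ⟨m, hm1, hm2, hm3⟩ := a3a_mult p q k hpq χ hdef g hg hC
  have hne : ∃ r s, m r ≠ m s := by
    by_contra hcon
    push Not at hcon
    have h1 : ∑ r, m r = q * m ⟨0, hqp.pos⟩ := by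
      rw [Finset.sum_congr rfl (fun r _ => hcon r ⟨0, hqp.pos⟩)]
      simp
    rw [hm1] at h1
    exact hq (Int.natCast_dvd_natCast.1 ⟨_, h1⟩)
  have hb := a3b_comb q m ((p : ℤ) ^ k) hm3 hne
  rw [hm1] at hb
  have hbR : ((q : ℝ) - 1) * ((p : ℝ) ^ k) ^ 2
      ≤ (q : ℝ) * ∑ r, ((m r : ℤ) : ℝ) ^ 2 - ((Cfsg.charDegree (χ : G → ℂ) : ℕ) : ℝ) ^ 2 := by
    exact_mod_cast hb
  rw [← hm2] at hbR
  have hsplit : ∑ j ∈ Finset.range q, ‖(χ : G → ℂ) (g ^ j)‖ ^ 2
      = ‖(χ : G → ℂ) (g ^ 0)‖ ^ 2 + ∑ j ∈ Finset.Ico 1 q, ‖(χ : G → ℂ) (g ^ j)‖ ^ 2 := by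
    rw [Finset.range_eq_Ico, Finset.sum_eq_sum_Ico_succ_bot hqp.pos]
  have hF0 : ‖(χ : G → ℂ) (g ^ 0)‖ ^ 2 = ((Cfsg.charDegree (χ : G → ℂ) : ℕ) : ℝ) ^ 2 := by
    rw [pow_zero, IsCharacter.apply_one_eq_charDegree (IsIrrCharacter.isCharacter χ.2)]
    simp
  rw [hsplit, hF0] at hbR
  rw [pow_mul']
  linarith

open Classical in
/-- **A3c** (global bound), verbatim shape of helper2's stub. -/
theorem a3c_sum_ge {G : Type*} [Group G] [Fintype G] (p q k : ℕ) [Fact p.Prime] [Fact q.Prime]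
    (hpq : p ≠ q) (χ : Cfsg.IrrCharacter G)
    (hdef : (Cfsg.charDegree (χ : G → ℂ)).factorization p = (Nat.card G).factorization p)
    (hq : ¬ q ∣ Cfsg.charDegree (χ : G → ℂ))
    (hC : ∀ g : G, orderOf g = q → p ^ k ∣ Nat.card (Subgroup.centralizer ({g} : Set G))) :
    ((p : ℝ) ^ (2 * k)) * ((Finset.univ.filter (fun g : G => orderOf g = q)).card : ℝ)
      ≤ ∑ g ∈ Finset.univ.filter (fun g : G => orderOf g = q), ‖(χ : G → ℂ) g‖ ^ 2 := by
  have hqp := (Fact.out : q.Prime)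
  set S := Finset.univ.filter (fun g : G => orderOf g = q) with hS
  have hperm : ∀ j ∈ Finset.Ico 1 q,
      ∑ g ∈ S, ‖(χ : G → ℂ) (g ^ j)‖ ^ 2 = ∑ g ∈ S, ‖(χ : G → ℂ) g‖ ^ 2 := by
    intro j hj
    obtain ⟨hj1, hjq⟩ := Finset.mem_Ico.1 hj
    have hcop : Nat.Coprime q j := by
      rw [Nat.Prime.coprime_iff_not_dvd hqp]
      intro h
      have := Nat.le_of_dvd (by omega) h
      omega
    obtain ⟨j', -, hj'⟩ := Nat.exists_mul_mod_eq_one_of_coprime hcop.symm hqp.one_lt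
    have hcop' : Nat.Coprime q j' := by
      rw [Nat.Prime.coprime_iff_not_dvd hqp]
      intro h
      have h0 : j * j' % q = 0 := Nat.mod_eq_zero_of_dvd (Dvd.dvd.mul_left h j)
      omega
    have hord : ∀ x ∈ S, orderOf x = q := fun x hx => (Finset.mem_filter.1 hx).2
    have hi : ∀ x ∈ S, x ^ j ∈ S := by
      intro x hx
      refine Finset.mem_filter.2 ⟨Finset.mem_univ _, ?_⟩
      rw [Nat.Coprime.orderOf_pow (by rw [hord x hx]; exact hcop), hord x hx]
    have hi' : ∀ x ∈ S, x ^ j' ∈ S := by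
      intro x hx
      refine Finset.mem_filter.2 ⟨Finset.mem_univ _, ?_⟩
      rw [Nat.Coprime.orderOf_pow (by rw [hord x hx]; exact hcop'), hord x hx]
    refine Finset.sum_bij' (s := S) (t := S) (f := fun x => ‖(χ : G → ℂ) (x ^ j)‖ ^ 2)
      (g := fun x => ‖(χ : G → ℂ) x‖ ^ 2) (fun x _ => x ^ j) (fun x _ => x ^ j') hi hi' ?_ ?_ ?_
    · intro x hx
      show (x ^ j) ^ j' = x
      rw [← pow_mul, ← pow_mod_orderOf, hord x hx, hj', pow_one]
    · intro x hx
      show (x ^ j') ^ j = x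
      rw [← pow_mul, mul_comm, ← pow_mod_orderOf, hord x hx, hj', pow_one]
    · intro x hx
      rfl
  have hq1 : (1 : ℝ) < q := by exact_mod_cast hqp.one_lt
  have hsum : ((q : ℝ) - 1) * ∑ g ∈ S, ‖(χ : G → ℂ) g‖ ^ 2
      = ∑ g ∈ S, ∑ j ∈ Finset.Ico 1 q, ‖(χ : G → ℂ) (g ^ j)‖ ^ 2 := by
    rw [Finset.sum_comm, Finset.sum_congr rfl hperm, Finset.sum_const, Nat.card_Ico,
      nsmul_eq_mul, Nat.cast_sub hqp.one_le]
    simp
  have hlow : ∑ g ∈ S, ((q : ℝ) - 1) * (p : ℝ) ^ (2 * k)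
      ≤ ∑ g ∈ S, ∑ j ∈ Finset.Ico 1 q, ‖(χ : G → ℂ) (g ^ j)‖ ^ 2 := by
    apply Finset.sum_le_sum
    intro g hgS
    have hg : orderOf g = q := (Finset.mem_filter.1 hgS).2
    exact a3_local p q k hpq χ hdef hq g hg (hC g hg)
  rw [Finset.sum_const, nsmul_eq_mul, ← hsum] at hlow
  have h2 : ((q : ℝ) - 1) * ((p : ℝ) ^ (2 * k) * (S.card : ℝ))
      ≤ ((q : ℝ) - 1) * ∑ g ∈ S, ‖(χ : G → ℂ) g‖ ^ 2 := by
    calc ((q : ℝ) - 1) * ((p : ℝ) ^ (2 * k) * (S.card : ℝ))
        = (S.card : ℝ) * (((q : ℝ) - 1) * (p : ℝ) ^ (2 * k)) := by ring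
      _ ≤ _ := hlow
  exact le_of_mul_le_mul_left h2 (by linarith)

/-- `Nat.card`-subtype variant of **A3c**. -/
theorem a3c_sum_ge' {G : Type*} [Group G] [Fintype G] (p q k : ℕ) [Fact p.Prime] [Fact q.Prime]
    (hpq : p ≠ q) (χ : Cfsg.IrrCharacter G)
    (hdef : (Cfsg.charDegree (χ : G → ℂ)).factorization p = (Nat.card G).factorization p)
    (hq : ¬ q ∣ Cfsg.charDegree (χ : G → ℂ))
    (hC : ∀ g : G, orderOf g = q → p ^ k ∣ Nat.card (Subgroup.centralizer ({g} : Set G))) :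
    ((p : ℝ) ^ (2 * k)) * (Nat.card {x : G // orderOf x = q} : ℝ)
      ≤ ∑ g : {x : G // orderOf x = q}, ‖(χ : G → ℂ) g‖ ^ 2 := by
  classical
  have h := a3c_sum_ge p q k hpq χ hdef hq hC
  have h1 : Nat.card {x : G // orderOf x = q}
      = (Finset.univ.filter (fun g : G => orderOf g = q)).card := by
    rw [Nat.card_eq_fintype_card, Fintype.card_subtype]
  have h2 : ∑ g : {x : G // orderOf x = q}, ‖(χ : G → ℂ) g‖ ^ 2
      = ∑ g ∈ Finset.univ.filter (fun g : G => orderOf g = q), ‖(χ : G → ℂ) g‖ ^ 2 := by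
    rw [Finset.sum_subtype (Finset.univ.filter (fun g : G => orderOf g = q))
      (p := fun g => orderOf g = q) (by simp) (fun g => ‖(χ : G → ℂ) g‖ ^ 2)]
  rw [h1, h2]
  convert h using 3

end glob

end Cfsg.Agent.Lib.Helper3.M24A
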