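import Cfsg.Agent.Lib.Helper5.MCLDefs

/-!
# Farm MCL (S3008(b)), unit U1a: the structural steps (1)-(5) of the replacement theorem,
and `repl_normalizer`.
-/

set_option autoImplicit false

namespace Cfsg.Agent.Lib.Helper3.MCL

open Cfsg Cfsg.Agent.Lib.Helper7 Cfsg.Agent.Lib.Helper5.MCL
open scoped Pointwise

section general

variable {G : Type*} [Group G]

theorem cj_eq_of_comm {g : G} {H : Subgroup G} (h : ∀ x ∈ H, g * x = x * g) : cj g H = H := by
  ext x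
  rw [mem_cj]
  constructor
  · intro hx
    have h1 := h _ hx
    have h2 : x = g⁻¹ * x * g := by
      calc x = (g * (g⁻¹ * x * g)) * g⁻¹ := by group
        _ = ((g⁻¹ * x * g) * g) * g⁻¹ := by rw [h1]
        _ = g⁻¹ * x * g := by group
    rw [h2]; exact hx
  · intro hx
    have h1 := h _ hx
    have : g⁻¹ * x * g = x := by
      calc g⁻¹ * x * g = g⁻¹ * (x * g) := by group
        _ = g⁻¹ * (g * x) := by rw [h1]
        _ = x := by group
    rw [this]; exact hx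

theorem cj_eq_of_le_abelian {A X : Subgroup G} (hAc : A ≤ Cz A) {a : G} (ha : a ∈ A)
    (hX : X ≤ A) : cj a X = X := by
  apply cj_eq_of_comm
  intro x hx
  exact ((Subgroup.mem_centralizer_iff.mp (hAc ha)) x (hX hx)).symm

/-- the join of two commuting subgroups is their product set -/
theorem exists_mul_of_comm {H K : Subgroup G} (h : H ≤ Cz K) {x : G} (hx : x ∈ H ⊔ K) :
    ∃ a ∈ H, ∃ b ∈ K, a * b = x := by
  have hc : ∀ a ∈ H, ∀ b ∈ K, b * a = a * b := fun a ha b hb =>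
    (Subgroup.mem_centralizer_iff.mp (h ha)) b hb
  let S : Subgroup G :=
    { carrier := {x | ∃ a ∈ H, ∃ b ∈ K, a * b = x}
      one_mem' := ⟨1, H.one_mem, 1, K.one_mem, mul_one 1⟩
      mul_mem' := by
        rintro _ _ ⟨a1, ha1, b1, hb1, rfl⟩ ⟨a2, ha2, b2, hb2, rfl⟩
        refine ⟨a1 * a2, H.mul_mem ha1 ha2, b1 * b2, K.mul_mem hb1 hb2, ?_⟩
        calc a1 * a2 * (b1 * b2) = a1 * (a2 * b1) * b2 := by group
          _ = a1 * (b1 * a2) * b2 := by rw [hc a2 ha2 b1 hb1]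
          _ = a1 * b1 * (a2 * b2) := by group
      inv_mem' := by
        rintro _ ⟨a, ha, b, hb, rfl⟩
        refine ⟨a⁻¹, H.inv_mem ha, b⁻¹, K.inv_mem hb, ?_⟩
        rw [mul_inv_rev]
        exact (hc a⁻¹ (H.inv_mem ha) b⁻¹ (K.inv_mem hb)).symm }
  have hle : H ⊔ K ≤ S := by
    apply sup_le
    · intro a ha
      exact ⟨a, ha, 1, K.one_mem, mul_one a⟩
    · intro b hb
      exact ⟨1, H.one_mem, b, hb, one_mul b⟩
  exact hle hx

end general

variable {G : Type*} [Group G] [Finite G]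

theorem mem_iSup_of_mem {ι : Type*} [Finite ι] [Nonempty ι] (f : ι → Subgroup G)
    (h : ∀ i, Mem (f i)) : Mem (⨆ i, f i) := by
  classical
  haveI := Fintype.ofFinite ι
  rw [← Finset.sup_univ_eq_iSup, ← Finset.sup'_eq_sup Finset.univ_nonempty]
  exact Finset.sup'_induction _ _ (fun a ha b hb => ha.sup hb) (fun i _ => h i)

variable {Z A : Subgroup G}

theorem mem_Mof (hZ : MaxAb Z) : Mem (Mof Z A) := by
  unfold Mof
  exact mem_iSup_of_mem _ (fun a => (mem_cj_iff _ _).mpr hZ.1.1)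

theorem Mof_le_cz_Dof (hZ : MaxAb Z) : Mof Z A ≤ Cz (Dof Z A) := by
  unfold Mof
  apply iSup_le
  intro a
  have hab : cj (a : G) Z ≤ Cz (cj (a : G) Z) := ((abMem_cj_iff _ _).mpr hZ.1).2
  exact hab.trans (cz_anti (Dof_le_cj a.2))

/-- step (1): `D = Z(M) = M ∩ C(M)` -/
theorem step1 (hZ : MaxAb Z) : Dof Z A = Mof Z A ⊓ Cz (Mof Z A) := by
  have hM : Mem (Mof Z A) := mem_Mof hZ
  apply le_antisymm
  · apply le_inf
    · exact (Dof_le Z A).trans (le_Mof Z A)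
    · exact le_cz_comm (Mof_le_cz_Dof hZ)
  · have hab : AbMem (Mof Z A ⊓ Cz (Mof Z A)) :=
      ⟨hM.inf hM.cz, inf_le_right.trans (cz_anti inf_le_left)⟩
    unfold Dof
    apply le_iInf
    intro a
    apply (hZ.cj (a : G)).le_of_comm hab
    exact inf_le_right.trans (cz_anti (cj_le_Mof a.2))

theorem abMem_Dof (hZ : MaxAb Z) : AbMem (Dof Z A) := by
  rw [step1 hZ]
  have hM : Mem (Mof Z A) := mem_Mof hZ
  exact ⟨hM.inf hM.cz, inf_le_right.trans (cz_anti inf_le_left)⟩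

/-- step (2): `A ∩ Z ≤ D` -/
theorem step2 (hA : A ∈ maxAbelianSubgroups G) : A ⊓ Z ≤ Dof Z A := by
  have hAc : A ≤ Cz A := Subgroup.le_centralizer_iff_isMulCommutative.mpr hA.1
  unfold Dof
  apply le_iInf
  intro a
  have h1 : cj (a : G) (A ⊓ Z) = A ⊓ Z := cj_eq_of_le_abelian hAc a.2 inf_le_left
  rw [← h1]
  exact cj_mono inf_le_right

/-- step (3): `A ∩ C(Z) = A ∩ C(M)` -/
theorem step3 (hA : A ∈ maxAbelianSubgroups G) : A ⊓ Cz Z = A ⊓ Cz (Mof Z A) := by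
  have hAc : A ≤ Cz A := Subgroup.le_centralizer_iff_isMulCommutative.mpr hA.1
  apply le_antisymm
  · apply le_inf inf_le_left
    apply le_cz_comm
    unfold Mof
    apply iSup_le
    intro a
    apply le_cz_comm
    rw [cz_cj]
    have h1 : cj (a : G) (A ⊓ Cz Z) = A ⊓ Cz Z := cj_eq_of_le_abelian hAc a.2 inf_le_left
    rw [← h1]
    exact cj_mono inf_le_right
  · exact inf_le_inf_left _ (cz_anti (le_Mof Z A))

/-- `C(D) = M C(M)` -/
theorem cz_Dof (hZ : MaxAb Z) : Cz (Dof Z A) = Mof Z A ⊔ Cz (Mof Z A) := by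
  have hM : Mem (Mof Z A) := mem_Mof hZ
  rw [step1 hZ, hM.cz_inf hM.cz, hM.cz_cz, sup_comm]

/-- step (5), the key step: `A ∩ C(D) ≤ (A ∩ M)(A ∩ C(Z))` -/
theorem step5 (hZ : MaxAb Z) (hA : A ∈ maxAbelianSubgroups G) :
    A ⊓ Cz (Dof Z A) ≤ (A ⊓ Mof Z A) ⊔ (A ⊓ Cz Z) := by
  have hAc : A ≤ Cz A := Subgroup.le_centralizer_iff_isMulCommutative.mpr hA.1
  have hM : Mem (Mof Z A) := mem_Mof hZ
  have hI : Mem (Cz (Mof Z A)) := hM.cz
  have hB : (Cz Z ⊓ A) ⊔ Cz (Cz Z) ∈ maxAbelianSubgroups G := clA_maxAbelian hZ.1.cl hA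
  rw [hZ.1.1.cz_cz] at hB
  have hBc : Cz ((Cz Z ⊓ A) ⊔ Z) = (Cz Z ⊓ A) ⊔ Z := maxAbelian_centralizer_eq _ hB
  have hA0I : A ⊓ Cz Z ≤ Cz (Mof Z A) := by rw [step3 hA]; exact inf_le_right
  intro c hc
  obtain ⟨hcA, hcR⟩ := Subgroup.mem_inf.mp hc
  rw [cz_Dof hZ] at hcR
  obtain ⟨m, hm, i, hi, rfl⟩ := hM.exists_mul hI hcR
  have hiB : i ∈ (Cz Z ⊓ A) ⊔ Z := by
    rw [← hBc, cz_sup]
    refine Subgroup.mem_inf.mpr ⟨?_, ?_⟩
    · rw [Subgroup.mem_centralizer_iff]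
      intro x hx
      have hxA : x ∈ A := (Subgroup.mem_inf.mp hx).2
      have hxI : x ∈ Cz (Mof Z A) :=
        hA0I (Subgroup.mem_inf.mpr ⟨hxA, (Subgroup.mem_inf.mp hx).1⟩)
      have h1 : m * x = x * m := (Subgroup.mem_centralizer_iff.mp hxI) m hm
      have h2 : (m * i) * x = x * (m * i) :=
        (Subgroup.mem_centralizer_iff.mp (hAc hxA)) (m * i) hcA
      calc x * i = m⁻¹ * (m * x) * i := by group
        _ = m⁻¹ * (x * m) * i := by rw [h1]
        _ = m⁻¹ * (x * (m * i)) := by group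
        _ = m⁻¹ * ((m * i) * x) := by rw [h2]
        _ = i * x := by group
    · exact cz_anti (le_Mof Z A) hi
  obtain ⟨e, he, z1, hz1, hez⟩ := exists_mul_of_comm (H := Cz Z ⊓ A) (K := Z) inf_le_left hiB
  have heA : e ∈ A := (Subgroup.mem_inf.mp he).2
  have heQ : e ∈ Cz Z := (Subgroup.mem_inf.mp he).1
  have hz1M : z1 ∈ Mof Z A := le_Mof Z A hz1
  have hez_comm : z1 * e = e * z1 := (Subgroup.mem_centralizer_iff.mp heQ) z1 hz1
  have hc_eq : m * i = (m * z1) * e := by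
    rw [← hez, mul_assoc m z1 e, hez_comm]
  have h1 : m * z1 ∈ A ⊓ Mof Z A := by
    refine Subgroup.mem_inf.mpr ⟨?_, mul_mem hm hz1M⟩
    have : m * z1 = (m * i) * e⁻¹ := by rw [hc_eq]; group
    rw [this]; exact mul_mem hcA (inv_mem heA)
  rw [hc_eq]
  exact mul_mem (Subgroup.mem_sup_left h1)
    (Subgroup.mem_sup_right (Subgroup.mem_inf.mpr ⟨heA, heQ⟩))

/-- `A` normalizes the replacement (statement verbatim from `MCLStubs.repl_normalizer`). -/
theorem repl_normalizer {Z A : Subgroup G} (hA : A ∈ maxAbelianSubgroups G) :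
    A ≤ Subgroup.normalizer ((Zr Z A : Subgroup G) : Set G) := by
  have hAc : A ≤ Cz A := Subgroup.le_centralizer_iff_isMulCommutative.mpr hA.1
  intro a ha
  rw [mem_normalizer_iff_cj]
  unfold Zr
  rw [cj_sup, cj_Dof ha, cj_eq_of_le_abelian hAc ha inf_le_left]

end Cfsg.Agent.Lib.Helper3.MCL
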