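import Mathlib

/-!
# Farm MCL (S3008(b)), unit U2: fixed points of a `p`-group on a section.
-/

set_option autoImplicit false

namespace Cfsg.Agent.Lib.Helper3.MCL

/-- In a finite `s`-group, a normal subgroup `T` not contained in `Z'` has an element outside
`Z'` all of whose commutators lie in `Z'`. -/
theorem exists_central_mod_normal {S : Type*} [Group S] [Finite S] {s : ℕ} [Fact s.Prime]
    (hS : IsPGroup s S) (T Z' : Subgroup S) [hT : T.Normal] (hne : ¬ T ≤ Z') :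
    ∃ z ∈ T, z ∉ Z' ∧ ∀ g : S, z⁻¹ * g * z * g⁻¹ ∈ Z' := by
  classical
  have hnil : Group.IsNilpotent S := hS.isNilpotent
  obtain ⟨n, hn⟩ := Group.IsNilpotent.nilpotent (G := S)
  have hex : ∃ n, ¬ (Subgroup.upperCentralSeries S n ⊓ T ≤ Z') :=
    ⟨n, by rw [hn, top_inf_eq]; exact hne⟩
  have hspec := Nat.find_spec hex
  rcases hk : Nat.find hex with _ | j
  · rw [hk] at hspec
    exfalso
    apply hspec
    rw [Subgroup.upperCentralSeries_zero, bot_inf_eq]
    exact bot_le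
  · rw [hk] at hspec
    have hj : Subgroup.upperCentralSeries S j ⊓ T ≤ Z' := by
      by_contra hcon
      exact Nat.find_min hex (m := j) (by rw [hk]; exact Nat.lt_succ_self j) hcon
    obtain ⟨z, hz, hzZ⟩ := SetLike.not_le_iff_exists.mp hspec
    obtain ⟨hz1, hz2⟩ := Subgroup.mem_inf.mp hz
    refine ⟨z, hz2, hzZ, fun g => hj (Subgroup.mem_inf.mpr ⟨?_, ?_⟩)⟩
    · have h0 := Subgroup.mem_upperCentralSeries_succ_iff.mp (inv_mem hz1) g
      rwa [commutatorElement_def, inv_inv] at h0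
    · have h1 : g * z * g⁻¹ ∈ T := hT.conj_mem _ hz2 g
      have h2 := T.mul_mem (inv_mem hz2) h1
      have e : z⁻¹ * g * z * g⁻¹ = z⁻¹ * (g * z * g⁻¹) := by group
      rw [e]; exact h2

variable {G : Type*} [Group G] [Finite G]

/-- **U2** (statement verbatim from `MCLStubs.exists_fixed_mod`). -/
theorem exists_fixed_mod {p : ℕ} [Fact p.Prime] (hG : IsPGroup p G) {D M T : Subgroup G}
    (hMT : M ≤ T) (hTM : T ≤ Subgroup.normalizer (M : Set G))
    (hne : ¬ M ≤ D) :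
    ∃ m ∈ M, m ∉ D ∧ ∀ t ∈ T, m⁻¹ * (t⁻¹ * m * t) ∈ D := by
  have hTp : IsPGroup p T := hG.to_subgroup T
  have hn : (M.subgroupOf T).Normal := (Subgroup.normal_subgroupOf_iff_le_normalizer hMT).mpr hTM
  have hne' : ¬ M.subgroupOf T ≤ D.subgroupOf T := by
    intro hle
    apply hne
    intro m hm
    have h1 : (⟨m, hMT hm⟩ : T) ∈ M.subgroupOf T := Subgroup.mem_subgroupOf.mpr hm
    exact Subgroup.mem_subgroupOf.mp (hle h1)
  obtain ⟨z, hzM, hzD, hz⟩ := exists_central_mod_normal hTp (M.subgroupOf T) (D.subgroupOf T) hne'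
  refine ⟨(z : G), Subgroup.mem_subgroupOf.mp hzM, fun h => hzD (Subgroup.mem_subgroupOf.mpr h), ?_⟩
  intro t ht
  have h1 := hz (⟨t, ht⟩ : T)⁻¹
  have h2 := Subgroup.mem_subgroupOf.mp h1
  have e : ((z⁻¹ * (⟨t, ht⟩ : T)⁻¹ * z * (⟨t, ht⟩ : T)⁻¹⁻¹ : T) : G) =
      (z : G)⁻¹ * (t⁻¹ * z * t) := by
    simp only [Subgroup.coe_mul, Subgroup.coe_inv, inv_inv]
    group
  rw [e] at h2
  exact h2

end Cfsg.Agent.Lib.Helper3.MCL
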