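import Mathlib
import Cfsg.Prelude
import Cfsg.Agent.Lib.Helper3.MNUDefs

set_option autoImplicit false
set_option linter.unusedSectionVars false
set_option linter.unusedVariables false

/-!
# Farm MNU: S2334 + S2335 (Landazuri-Seitz bounds for `SU_n(q)`), STUBS

All statements below are `sorry` stubs (this file is imported by no statement).  Copy the statement of
your unit VERBATIM into your own file `Cfsg/Agent/Lib/<You>/MNU<unit>.lean`, namespace
`Cfsg.Agent.Lib.<You>.MNU`, `import Cfsg.Agent.Lib.Helper3.MNUDefs` (NOT this file), develop against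
the stubs of the other units if you need them, and post a DONE tip with the import path.

Notation: `K` field with `q ^ 2` elements (`hK`), `σ = HermBridge.sigma hK` (`x ↦ x ^ q`,
`sigma_apply`, `sigma_sigma`, `sigma_ne_id`), `ct σ M` conjugate transpose (helper6 `GUCDefs`:
`ct_mul`, `ct_add`, `ct_ct`, ...), `IsHerm σ X : ct σ X = X`, `Herm σ m` the additive group of
hermitian matrices, `hq σ B x = x† B x`, `outer σ v w = v† w`, `orbSL / orbGL σ B` the congruence
orbits `{g† B g}`, `eB σ ρ ψ u B` the projector, `Adm σ ε v X : X - X† = ε⁻¹ v† v`.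

## The mathematics

Model of the unitary space of dimension `2m` (resp. `2m+1`): basis `e_1..e_m, f_1..f_m (, w)` with
Gram matrix `Gm = [[0, ε], [-ε, 0]]` (resp. `diag([[0, ε], [-ε, 0]], 1)`), `σ ε = -ε`, `ε ≠ 0`
(hermitian!).  Isometries `y† Gm y = Gm`:
* `uM X = [[1, X], [0, 1]]` for `X` hermitian; `uM (X + Y) = uM X * uM Y`.
* `lev g = diag (g, g^{-†})` (`det = det g / σ (det g)`), `lev g * uM X * (lev g)⁻¹ = uM (g X g†)`.
  Odd case: `lev g = diag (g, g^{-†}, σ (det g) / det g)`, determinant one for every `g ∈ GL_m`.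
* odd case: `xM v X = [[1, X, ε⁻¹ v†], [0, 1, 0], [0, v, 1]]` (blocks `m, m, 1`; `v` a row vector) is an
  isometry iff `Adm σ ε v X`, and `xM v X * xM w Y = xM (v + w) (X + Y + ε⁻¹ v† w)`, `xM 0 X = uM X`.
`helper8`'s `GUCE2.exists_T` + `conj_unitary_iff` carry the model into `Cfsg.SU n K q` (identity Gram
matrix): `y ↦ T y T⁻¹` where `T† T = Gm`.

Representation theory (`ρ` irreducible of degree `≥ 2` of `SU_n(q)`): `ρ ∘ u` is not trivial (else
`ker ρ ⊇ u(Herm)` is a non-central normal subgroup, so `= ⊤` by helper5's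
`HermSimple.normal_le_center_or_eq_top`, and `ρ` is trivial of degree `≥ 2`, not irreducible).
`V = ⊕_B e_B V` over the characters `X ↦ ψ (tr (B X))` of `u(Herm)`, `B` hermitian
(`ψ 1 ≠ 1`); some `B ≠ 0` has `e_B ≠ 0`; conjugation by `lev g` maps `e_B V` onto
`e_{g† B g} V`-ish, so `dim V ≥ |orbit of B| * dim e_B V`.
ORBIT BOUND (double counting, as helper6 `WlB.orbit_bound`): WLOG `c = B 0 0 ≠ 0` (`c ∈ F_q`).
Count pairs `(X, x)`, `X` in the orbit, `x ∈ K^m`, `hq X x = c`.  For fixed `X = g† B g`: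
`x ↦ g x` reduces to `X = B`, and for a fixed tail the first coordinate `a` of `x` is a root of
`c T^(q+1) + β T^q + β' T + γ` (degree `q + 1`): at most `(q+1) q^(2m-2)` solutions.  For fixed
`x ≠ 0`: pick `h` in the group with `h e_0 = x`; the `q^(2m-2)` shears `s_u = 1 + e_0 u†` (`u 0 = 0`)
give pairwise different `X_u = h^{-†} s_u† B s_u h⁻¹` (row `0` of `s_u† B s_u` is `row_0 B + c u†`)
with `hq X_u x = hq B e_0 = c`.  Hence `(q^(2m) - 1) q^(2m-2) ≤ |orbit| (q+1) q^(2m-2)`.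
ODD CASE, the factor `q`: let `e = e_B ≠ 0`, `v0` with `c0 = hq B (σ ∘ v0) ≠ 0`, `θ + σ θ = 1`,
`X1 = (ε⁻¹ θ) • v0† v0` (`Adm v0 X1`), `Z = {u Y}`, `E = {xx (t • v0) (t^2 • X1 + Y) : σ t = t, Y herm}`
(an abelian subgroup), `r_s = xx ((s ω) • v0) (N(s ω) • X1)` with `σ ω ≠ ω`.  All `xx` commute with
all `u Y`, hence with `e`; `r * x * r⁻¹ = x * u (ε⁻¹ (w† v - v† w))` for `x = xx v _`, `r = xx w _`, and
`tr (B * ε⁻¹ (w† v - v† w)) = t s κ` with `κ = ε⁻¹ c0 (σ ω - ω) ∈ F_q^*` for `v = t v0`, `w = s ω v0`.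
So for `x ∈ E \ Z` (`t ≠ 0`) and `s = (t κ)⁻¹`: `tr (ρ x e) = ψ 1 * tr (ρ x e)`, i.e. `= 0`
(`heis_mult`), and `x ∉ Z` for `t ≠ 0` (else `u H = 1` with `ψ (tr (B H)) ≠ 1`, contradicting `e ≠ 0`),
so `|E| ≥ q |Z|`.
-/

namespace Cfsg.Agent.Lib.Helper3.MNUStub

open Matrix Cfsg.Agent.Lib.Helper6.GUC Cfsg.Agent.Lib.Helper5 Cfsg.Agent.Lib.Helper3.MNU

/-! ## Unit A: finite field facts and character sums -/
section unitA
variable {K : Type*} [Field K] [Fintype K] [DecidableEq K] {q : ℕ} (hK : Fintype.card K = q ^ 2)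

/-- (A) a character of `K` that is nontrivial on the fixed field: `AddChar.mulShift` of any
nontrivial character. -/
theorem exists_psi (K : Type*) [Field K] [Fintype K] : ∃ ψ : AddChar K ℂ, ψ 1 ≠ 1 := by
  sorry

/-- (A) `= Helper5 HermTv.exists_trace_zero`. -/
theorem exists_eps : ∃ ε : K, ε ≠ 0 ∧ HermBridge.sigma hK ε = -ε := by
  sorry

/-- (A) from `sigma_ne_id`. -/
theorem exists_not_fixed : ∃ ω : K, HermBridge.sigma hK ω ≠ ω := by
  sorry

/-- (A) `= HermWitt.exists_trace`. -/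
theorem exists_trace_one : ∃ θ : K, θ + HermBridge.sigma hK θ = 1 := by
  sorry

/-- (A) the fixed field has `q` elements (roots of `T^q - T`; helper5 may have it already). -/
theorem card_fixed : Nat.card {t : K // HermBridge.sigma hK t = t} = q := by
  sorry

/-- (A) the hermitian value is in the fixed field. -/
theorem hq_fixed {m : ℕ} (B : Matrix (Fin m) (Fin m) K) (hB : IsHerm (HermBridge.sigma hK) B) (x : Fin m → K) :
    HermBridge.sigma hK (hq (HermBridge.sigma hK) B x) = hq (HermBridge.sigma hK) B x := by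
  sorry

/-- (A) `hq (g† B g) x = hq B (g x)`. -/
theorem hq_cong {m : ℕ} (B g : Matrix (Fin m) (Fin m) K) (x : Fin m → K) :
    hq (HermBridge.sigma hK) (ct (HermBridge.sigma hK) g * B * g) x = hq (HermBridge.sigma hK) B (g *ᵥ x) := by
  sorry

/-- (A) a nonzero hermitian matrix has a nonzero value: `B i i ≠ 0` gives `x = e_i`; otherwise
`B i j ≠ 0`, `x = e_i + a e_j` has value `a B i j + σ (a B i j)` and the trace is onto. -/
theorem exists_hq_ne_zero {m : ℕ} (B : Matrix (Fin m) (Fin m) K) (hB : IsHerm (HermBridge.sigma hK) B)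
    (hB0 : B ≠ 0) : ∃ x : Fin m → K, hq (HermBridge.sigma hK) B x ≠ 0 := by
  sorry

/-- (A) orthogonality: for `X ≠ 0` hermitian, `B ↦ ψ (tr (B X))` is a nontrivial character of
`Herm` (some hermitian `B` has `tr (B X) = 1`), so the sum vanishes
(`AddChar.sum_eq_zero_of_ne_one`); compare helper6 `WlA.sum_sym_psi_zero`. -/
theorem sum_chi_zero (ψ : AddChar K ℂ) (hψ : ψ 1 ≠ 1) {m : ℕ} (X : Matrix (Fin m) (Fin m) K)
    (hX : IsHerm (HermBridge.sigma hK) X) (hX0 : X ≠ 0) :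
    ∑ B : Herm (HermBridge.sigma hK) m, ψ (Matrix.trace ((B : Matrix (Fin m) (Fin m) K) * X)) = 0 := by
  sorry

end unitA

/-! ## Unit O: the orbit bound -/
section unitO
variable {K : Type*} [Field K] [Fintype K] [DecidableEq K] {q : ℕ} (hK : Fintype.card K = q ^ 2)

/-- (O) the orbit bound for `SL_m`, `m ≥ 2` (transitivity: `Lead.LS1.trans_vec`). -/
theorem orbit_bound_SL {m : ℕ} (hm : 2 ≤ m) (B : Matrix (Fin m) (Fin m) K)
    (hB : IsHerm (HermBridge.sigma hK) B) (hB0 : B ≠ 0) :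
    q ^ (2 * m) - 1 ≤ (q + 1) * (orbSL (HermBridge.sigma hK) B).card := by
  sorry

/-- (O) the orbit bound for `GL_m`, `m ≥ 1` (transitivity: helper6 `Wl.exists_gl_mulVec`). -/
theorem orbit_bound_GL {m : ℕ} (hm : 1 ≤ m) (B : Matrix (Fin m) (Fin m) K)
    (hB : IsHerm (HermBridge.sigma hK) B) (hB0 : B ≠ 0) :
    q ^ (2 * m) - 1 ≤ (q + 1) * (orbGL (HermBridge.sigma hK) B).card := by
  sorry

end unitO

/-! ## Unit P: the projectors `eB` (port of helper6 `WlC`, generic group) -/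
section unitP
variable {K : Type*} [Field K] [Fintype K] [DecidableEq K] {q : ℕ} (hK : Fintype.card K = q ^ 2)
variable {G : Type*} [Group G] {V : Type*} [AddCommGroup V] [Module ℂ V] [FiniteDimensional ℂ V]
variable (ρ : Representation ℂ G V) (ψ : AddChar K ℂ) {m : ℕ} (u : Matrix (Fin m) (Fin m) K → G)
  (hu : ∀ X Y, IsHerm (HermBridge.sigma hK) X → IsHerm (HermBridge.sigma hK) Y → u (X + Y) = u X * u Y)

include hu in
theorem rho_mul_eB (X0 B : Matrix (Fin m) (Fin m) K) (hX0 : IsHerm (HermBridge.sigma hK) X0) :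
    ρ (u X0) * eB (HermBridge.sigma hK) ρ ψ u B = ψ (Matrix.trace (B * X0)) • eB (HermBridge.sigma hK) ρ ψ u B := by
  sorry

include hu in
theorem eB_mul_rho (X0 B : Matrix (Fin m) (Fin m) K) (hX0 : IsHerm (HermBridge.sigma hK) X0) :
    eB (HermBridge.sigma hK) ρ ψ u B * ρ (u X0) = ψ (Matrix.trace (B * X0)) • eB (HermBridge.sigma hK) ρ ψ u B := by
  sorry

include hu in
theorem eB_idem (B : Matrix (Fin m) (Fin m) K) : IsIdempotentElem (eB (HermBridge.sigma hK) ρ ψ u B) := by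
  sorry

include hu in
theorem sum_eB (hψ : ψ 1 ≠ 1) : ∑ B : Herm (HermBridge.sigma hK) m,
    eB (HermBridge.sigma hK) ρ ψ u (B : Matrix (Fin m) (Fin m) K) = 1 := by
  sorry

include hu in
/-- an element commuting with all `u X` commutes with the projectors -/
theorem eB_comm (a : G) (ha : ∀ X, IsHerm (HermBridge.sigma hK) X → a * u X = u X * a)
    (B : Matrix (Fin m) (Fin m) K) :
    ρ a * eB (HermBridge.sigma hK) ρ ψ u B = eB (HermBridge.sigma hK) ρ ψ u B * ρ a := by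
  sorry

include hu in
/-- the projectors of congruent matrices have the same trace (`g` invertible with inverse `gi`) -/
theorem trace_eB_cong (a : G) (g gi : Matrix (Fin m) (Fin m) K) (h1 : g * gi = 1) (h2 : gi * g = 1)
    (ha : ∀ X, IsHerm (HermBridge.sigma hK) X → a * u X * a⁻¹ = u (g * X * ct (HermBridge.sigma hK) g))
    (B : Matrix (Fin m) (Fin m) K) :
    LinearMap.trace ℂ V (eB (HermBridge.sigma hK) ρ ψ u (ct (HermBridge.sigma hK) g * B * g)) =
      LinearMap.trace ℂ V (eB (HermBridge.sigma hK) ρ ψ u B) := by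
  sorry

include hu in
/-- if `ρ ∘ u` is not trivial, some `B ≠ 0` has a nonzero projector -/
theorem exists_B_ne_zero (hψ : ψ 1 ≠ 1) (hnt : ∃ X, IsHerm (HermBridge.sigma hK) X ∧ ρ (u X) ≠ 1) :
    ∃ B : Matrix (Fin m) (Fin m) K, IsHerm (HermBridge.sigma hK) B ∧ B ≠ 0 ∧ eB (HermBridge.sigma hK) ρ ψ u B ≠ 0 := by
  sorry

/-- the trace of an idempotent is a natural number, positive if the idempotent is not zero
(`LinearMap.IsProj.trace` / `finrank` of the range) -/
theorem trace_idem_nat (e : Module.End ℂ V) (he : IsIdempotentElem e) :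
    ∃ r : ℕ, LinearMap.trace ℂ V e = (r : ℂ) ∧ (e ≠ 0 → 1 ≤ r) := by
  sorry

include hu in
/-- dimension count: a set `S` of hermitian matrices whose projectors all have trace `r` -/
theorem finrank_ge (hψ : ψ 1 ≠ 1) (S : Finset (Matrix (Fin m) (Fin m) K)) (r : ℕ)
    (hS : ∀ B ∈ S, IsHerm (HermBridge.sigma hK) B ∧ LinearMap.trace ℂ V (eB (HermBridge.sigma hK) ρ ψ u B) = (r : ℂ)) :
    S.card * r ≤ Module.finrank ℂ V := by
  sorry

end unitP

/-! ## Unit CE: the even core -/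
section unitCE
variable {K : Type*} [Field K] [Fintype K] [DecidableEq K] {q : ℕ} (hK : Fintype.card K = q ^ 2)
variable {G : Type*} [Group G] {V : Type*} [AddCommGroup V] [Module ℂ V] [FiniteDimensional ℂ V]

/-- (CE) from units A, O, P. -/
theorem core_even (ρ : Representation ℂ G V) (m : ℕ) (hm : 2 ≤ m)
    (u : Matrix (Fin m) (Fin m) K → G)
    (hu : ∀ X Y, IsHerm (HermBridge.sigma hK) X → IsHerm (HermBridge.sigma hK) Y → u (X + Y) = u X * u Y)
    (hconj : ∀ g : Matrix.SpecialLinearGroup (Fin m) K, ∃ a : G, ∀ X, IsHerm (HermBridge.sigma hK) X →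
      a * u X * a⁻¹ = u ((g : Matrix (Fin m) (Fin m) K) * X * ct (HermBridge.sigma hK) (g : Matrix (Fin m) (Fin m) K)))
    (hnt : ∃ X, IsHerm (HermBridge.sigma hK) X ∧ ρ (u X) ≠ 1) :
    q ^ (2 * m) - 1 ≤ (q + 1) * Module.finrank ℂ V := by
  sorry

end unitCE

/-! ## Unit H: the abstract Heisenberg multiplicity lemma -/
section unitH
variable {G : Type*} [Group G] [Finite G] {V : Type*} [AddCommGroup V] [Module ℂ V]
  [FiniteDimensional ℂ V]

/-- (H) `E` an abelian subgroup, `Z ≤ E` acting on `e V` by the scalars `χ`, and the character of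
`E` on `e V` vanishes outside `Z`: then `|E : Z|` divides `dim e V`; in particular
`|E| ≤ |Z| * dim e V`.  Proof: for `λ : AddChar (Additive E) ℂ` put
`f_λ = |E|⁻¹ ∑_{x ∈ E} λ(x)⁻¹ ρ x`; `∑_λ f_λ = 1` (`AddChar.sum_apply_eq_ite`), `f_λ e` is an idempotent,
`tr (f_λ e) = |E|⁻¹ ∑_{z ∈ Z} λ(z)⁻¹ χ z tr e ∈ {0, |Z| tr e / |E|}` (orthogonality on `Z`), all natural
numbers with sum `tr e > 0`; so some `tr (f_λ e) = |Z| tr e / |E| ≥ 1`. -/
theorem heis_mult (ρ : Representation ℂ G V) (E Z : Subgroup G) (hZE : Z ≤ E)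
    (hE : ∀ a ∈ E, ∀ b ∈ E, a * b = b * a)
    (e : Module.End ℂ V) (he : IsIdempotentElem e) (he0 : e ≠ 0)
    (hcomm : ∀ a ∈ E, ρ a * e = e * ρ a)
    (χ : G → ℂ) (hχ : ∀ z ∈ Z, ρ z * e = χ z • e)
    (hvan : ∀ a ∈ E, a ∉ Z → LinearMap.trace ℂ V (ρ a * e) = 0) :
    ∃ r : ℕ, LinearMap.trace ℂ V e = (r : ℂ) ∧ Nat.card E ≤ Nat.card Z * r := by
  sorry

end unitH

/-! ## Unit CO: the odd core -/
section unitCO
variable {K : Type*} [Field K] [Fintype K] [DecidableEq K] {q : ℕ} (hK : Fintype.card K = q ^ 2)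
variable {G : Type*} [Group G] [Finite G] {V : Type*} [AddCommGroup V] [Module ℂ V]
  [FiniteDimensional ℂ V]

/-- (CO) from units A, O, P, H; see the file header. -/
theorem core_odd (ρ : Representation ℂ G V) (m : ℕ) (hm : 1 ≤ m) (ε : K) (hε0 : ε ≠ 0)
    (hε : HermBridge.sigma hK ε = -ε)
    (u : Matrix (Fin m) (Fin m) K → G)
    (hu : ∀ X Y, IsHerm (HermBridge.sigma hK) X → IsHerm (HermBridge.sigma hK) Y → u (X + Y) = u X * u Y)
    (hconj : ∀ g : GL (Fin m) K, ∃ a : G, ∀ X, IsHerm (HermBridge.sigma hK) X →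
      a * u X * a⁻¹ = u ((g : Matrix (Fin m) (Fin m) K) * X * ct (HermBridge.sigma hK) (g : Matrix (Fin m) (Fin m) K)))
    (xx : (Fin m → K) → Matrix (Fin m) (Fin m) K → G)
    (hxx0 : ∀ X, IsHerm (HermBridge.sigma hK) X → xx 0 X = u X)
    (hxx : ∀ v w X Y, Adm (HermBridge.sigma hK) ε v X → Adm (HermBridge.sigma hK) ε w Y →
      xx v X * xx w Y = xx (v + w) (X + Y + ε⁻¹ • outer (HermBridge.sigma hK) v w))
    (hnt : ∃ X, IsHerm (HermBridge.sigma hK) X ∧ ρ (u X) ≠ 1) :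
    q * (q ^ (2 * m) - 1) ≤ (q + 1) * Module.finrank ℂ V := by
  sorry

end unitCO

/-! ## Unit M0: transport of a model into `Cfsg.SU n K q` -/
section unitM0
variable {K : Type*} [Field K] [Fintype K] [DecidableEq K] {q : ℕ} (hK : Fintype.card K = q ^ 2)

/-- (M0) `Ψ y = T * reindex e e y * T⁻¹` with `T† T = reindex e e Gm` (helper8
`GUCE2.exists_T`, `conj_unitary_iff`; `mem_SU_iff`, `UnitConj.mem_GU_iff_cT`); junk value `1` when `y`
is not an isometry. -/
theorem exists_transport {ι : Type} [Fintype ι] [DecidableEq ι] (n : ℕ) (e : ι ≃ Fin n)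
    (Gm : Matrix ι ι K) (hG : ct (HermBridge.sigma hK) Gm = Gm) (hdet : Gm.det ≠ 0) :
    ∃ Ψ : Matrix ι ι K → ↥(Cfsg.SU n K q),
      (∀ y y', IsIso (HermBridge.sigma hK) Gm y → IsIso (HermBridge.sigma hK) Gm y' → Ψ (y * y') = Ψ y * Ψ y') ∧
      (∀ y y', IsIso (HermBridge.sigma hK) Gm y → IsIso (HermBridge.sigma hK) Gm y' → Ψ y = Ψ y' → y = y') := by
  sorry

end unitM0

/-! ## Units ME, MO: the models -/
section unitM
variable {K : Type*} [Field K] [Fintype K] [DecidableEq K] {q : ℕ} (hK : Fintype.card K = q ^ 2)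

/-- (ME) the even model inside `SU_{m+m}`: index type `Fin m ⊕ Fin m`, `e = finSumFinEquiv`,
`Gm = fromBlocks 0 (ε • 1) (-ε • 1) 0`, `u X = Ψ (fromBlocks 1 X 0 1)`,
`a = Ψ (fromBlocks g 0 0 (ct σ g⁻¹))`. -/
theorem exists_even_data (m : ℕ) (hm : 1 ≤ m) :
    ∃ u : Matrix (Fin m) (Fin m) K → ↥(Cfsg.SU (m + m) K q),
      (∀ X Y, IsHerm (HermBridge.sigma hK) X → IsHerm (HermBridge.sigma hK) Y → u (X + Y) = u X * u Y) ∧
      (∀ g : Matrix.SpecialLinearGroup (Fin m) K, ∃ a : ↥(Cfsg.SU (m + m) K q),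
        ∀ X, IsHerm (HermBridge.sigma hK) X → a * u X * a⁻¹ =
          u ((g : Matrix (Fin m) (Fin m) K) * X * ct (HermBridge.sigma hK) (g : Matrix (Fin m) (Fin m) K))) ∧
      (∀ X Y, IsHerm (HermBridge.sigma hK) X → IsHerm (HermBridge.sigma hK) Y → u X = u Y → X = Y) := by
  sorry

/-- (MO) the odd model inside `SU_{2m+1}`: index type `(Fin m ⊕ Fin m) ⊕ Unit`,
`Gm = fromBlocks (fromBlocks 0 (ε • 1) (-ε • 1) 0) 0 0 1`, see the file header. -/
theorem exists_odd_data (m : ℕ) (hm : 1 ≤ m) :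
    ∃ (ε : K) (u : Matrix (Fin m) (Fin m) K → ↥(Cfsg.SU (2 * m + 1) K q))
      (xx : (Fin m → K) → Matrix (Fin m) (Fin m) K → ↥(Cfsg.SU (2 * m + 1) K q)),
      ε ≠ 0 ∧ HermBridge.sigma hK ε = -ε ∧
      (∀ X Y, IsHerm (HermBridge.sigma hK) X → IsHerm (HermBridge.sigma hK) Y → u (X + Y) = u X * u Y) ∧
      (∀ g : GL (Fin m) K, ∃ a : ↥(Cfsg.SU (2 * m + 1) K q),
        ∀ X, IsHerm (HermBridge.sigma hK) X → a * u X * a⁻¹ =
          u ((g : Matrix (Fin m) (Fin m) K) * X * ct (HermBridge.sigma hK) (g : Matrix (Fin m) (Fin m) K))) ∧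
      (∀ X, IsHerm (HermBridge.sigma hK) X → xx 0 X = u X) ∧
      (∀ v w X Y, Adm (HermBridge.sigma hK) ε v X → Adm (HermBridge.sigma hK) ε w Y →
        xx v X * xx w Y = xx (v + w) (X + Y + ε⁻¹ • outer (HermBridge.sigma hK) v w)) ∧
      (∀ X Y, IsHerm (HermBridge.sigma hK) X → IsHerm (HermBridge.sigma hK) Y → u X = u Y → X = Y) := by
  sorry

end unitM

/-! ## Unit Z: assembly -/
section unitZ
variable {K : Type*} [Field K] [Fintype K] [DecidableEq K] {q : ℕ} (hK : Fintype.card K = q ^ 2)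

/-- (Z) `ρ ∘ u` is not trivial for an irreducible `ρ` of degree `≥ 2`: helper5
`HermSimple.normal_le_center_or_eq_top` applied to `MonoidHom.ker ρ`; `u X0` is not central for
`X0 = 1`-ish because some `g` moves it (orbit bound `> 1`, or an explicit transvection) and `u` is
injective; helper6 `Wl.not_irreducible_of_trivial`. -/
theorem su_even_bound (m : ℕ) (hm : 2 ≤ m) (k : ℕ)
    (ρ : Representation ℂ ↥(Cfsg.SU (m + m) K q) (Fin k → ℂ)) (hirr : ρ.IsIrreducible) (hk : 2 ≤ k) :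
    (q ^ (m + m) - 1) / (q + 1) ≤ k := by
  sorry

theorem su_odd_bound (m : ℕ) (hm : 1 ≤ m) (h32 : ¬ (m = 1 ∧ q = 2)) (k : ℕ)
    (ρ : Representation ℂ ↥(Cfsg.SU (2 * m + 1) K q) (Fin k → ℂ)) (hirr : ρ.IsIrreducible)
    (hk : 2 ≤ k) :
    (q ^ (2 * m + 1) - q) / (q + 1) ≤ k := by
  sorry

end unitZ

end Cfsg.Agent.Lib.Helper3.MNUStub
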