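import Mathlib
import Cfsg.Agent.Lib.Helper3.MSDefs
import Cfsg.Agent.Lib.Helper7.MSE4
import Cfsg.Agent.Lib.Helper1.MSC1
import Cfsg.Agent.Lib.Helper1.MSF1
import Cfsg.Agent.Lib.Helper9.MSG11

set_option autoImplicit false
set_option maxHeartbeats 4000000
set_option linter.unusedVariables false
set_option linter.unusedSectionVars false
set_option linter.style.longLine false
set_option linter.style.haveILetI false

namespace Cfsg.Agent.Lib.Helper3.MS

universe u v

variable {p q : ℕ} {H : Type u} [Group H] {V : Type v} [AddCommGroup V] [DistribMulAction H V]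

/-- There is no minimal counterexample to MS. -/
theorem MinCE.false (h : MinCE p q H V) : False := by
  haveI : Fact p.Prime := ⟨h.hp⟩
  haveI := h.finH
  let P : Sylow p H := default
  have hn : ∀ A : Subgroup ↥(P : Subgroup H), A.Normal → IsMulCommutative A → IsCyclic A :=
    fun A hA hc => h.sylow_normal_abelian_cyclic P A hA hc
  rcases pgroup_cls p P.isPGroup' hn with hc | ⟨hp2, a, b, k, j, hd⟩
  · exact h.cyclic_false P hc
  · exact h.maxclass_false hp2 P a b k j hd

end Cfsg.Agent.Lib.Helper3.MS
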