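import Mathlib
import Cfsg.Agent.Lib.Helper3.MSDefs
import Cfsg.Agent.Lib.Helper3.MSM
import Cfsg.Agent.Lib.Helper4.MSI1
import Cfsg.Agent.Lib.Helper4.MSI2
import Cfsg.Agent.Lib.Helper4.MSI3
import Cfsg.Agent.Lib.Helper4.MSI4
import Cfsg.Agent.Lib.Helper4.MSI5
import Cfsg.Agent.Lib.Helper4.MSI6

set_option autoImplicit false
set_option maxHeartbeats 4000000
set_option linter.unusedVariables false
set_option linter.unusedSectionVars false
set_option linter.style.longLine false
set_option linter.style.haveILetI false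

namespace Cfsg.Agent.Lib.Helper3.MS

universe u v

variable {p q : ℕ} {H : Type u} [Group H] {V : Type v} [AddCommGroup V] [DistribMulAction H V]

theorem h3_kerSub_eq_bot (h : Hyp p q H V) : kerSub H V = ⊥ := by
  rw [eq_bot_iff]
  intro x hx
  exact Subgroup.mem_bot.mpr (h.faithful x hx)

theorem h3_toHypNF (h : Hyp p q H V) : HypNF p q H V where
  hp := h.hp
  hq := h.hq
  finH := h.finH
  finV := h.finV
  cardV := h.cardV
  copNF := by
    rw [h3_kerSub_eq_bot h, Subgroup.index_bot]
    exact h.cop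
  orb := h.orb

theorem h3_solvable_of_quot_bot {G : Type*} [Group G] (K : Subgroup G) [K.Normal] (hk : K = ⊥)
    (hs : Group.IsSolvable (G ⧸ K)) : Group.IsSolvable G := by
  have hinj : Function.Injective (QuotientGroup.mk' K) := by
    rw [← MonoidHom.ker_eq_bot_iff, QuotientGroup.ker_mk', hk]
  exact Group.isSolvable_of_isSolvable_injective hinj

theorem h3_card_lt_of_ne_top [Finite V] (W : AddSubgroup V) (hW : W ≠ ⊤) : Nat.card W < Nat.card V := by
  have h1 : Nat.card W ≤ Nat.card V := AddSubgroup.card_le_card_addGroup W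
  rcases Nat.lt_or_ge (Nat.card W) (Nat.card V) with h | h
  · exact h
  · exact absurd ((AddSubgroup.card_eq_iff_eq_top W).mp (le_antisymm h1 h)) hW

theorem h3_card_quot_lt_of_ne_bot [Finite V] (W : AddSubgroup V) (hW : W ≠ ⊥) :
    Nat.card (V ⧸ W) < Nat.card V := by
  have h1 : Nat.card V = Nat.card (V ⧸ W) * Nat.card W := AddSubgroup.card_eq_card_quotient_mul_card_addSubgroup W
  have h2 : 1 < Nat.card W := by
    rw [Finite.one_lt_card_iff_nontrivial]
    exact (AddSubgroup.nontrivial_iff_ne_bot W).mpr hW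
  have h3 : 0 < Nat.card (V ⧸ W) := Nat.card_pos
  nlinarith

theorem solvable_of_HypNF (p q : ℕ) :
    ∀ (n : ℕ) (H : Type u) [Group H] (V : Type v) [AddCommGroup V] [DistribMulAction H V],
      HypNF p q H V → (kerSub H V).index + Nat.card V = n → Group.IsSolvable (H ⧸ kerSub H V) := by
  intro n
  induction n using Nat.strong_induction_on with
  | _ n ih =>
  intro H _ V _ _ h hn
  by_contra hns
  letI act : DistribMulAction (H ⧸ kerSub H V) V :=
    quotGroupAction (kerSub H V) (fun k hk v => hk v)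
  have hHyp : Hyp p q (H ⧸ kerSub H V) V := h.quotKer
  haveI := hHyp.finH
  haveI := hHyp.finV
  have hcardH : Nat.card (H ⧸ kerSub H V) = (kerSub H V).index := rfl
  have hmin : MinCE p q (H ⧸ kerSub H V) V := by
    refine { toHyp := hHyp, notSolv := hns, normalSolv := ?_, irred := ?_ }
    · intro N hN hNtop
      have hN' : Hyp p q ↥N V := hHyp.of_normal N hN
      have hk : kerSub ↥N V = ⊥ := h3_kerSub_eq_bot hN'
      have hlt : (kerSub ↥N V).index + Nat.card V < n := by
        rw [hk, Subgroup.index_bot, ← hn, ← hcardH]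
        have h1 : Nat.card N ≤ Nat.card (H ⧸ kerSub H V) := Subgroup.card_le_card_group N
        have h2 : Nat.card N ≠ Nat.card (H ⧸ kerSub H V) := fun he =>
          hNtop ((Subgroup.card_eq_iff_eq_top N).mp he)
        omega
      have hs := ih _ hlt ↥N V (h3_toHypNF hN') rfl
      exact h3_solvable_of_quot_bot _ hk hs
    · intro W hW
      by_contra hcon
      push Not at hcon
      obtain ⟨hbot, htop⟩ := hcon
      have h1 := hHyp.sub W hW
      have h2 := hHyp.quot W hW
      have hi1 : (@kerSub (H ⧸ kerSub H V) _ ↥W _ (subAction W hW)).index ≤ Nat.card (H ⧸ kerSub H V) :=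
        Nat.le_of_dvd Nat.card_pos (Subgroup.index_dvd_card _)
      have hi2 : (@kerSub (H ⧸ kerSub H V) _ (V ⧸ W) _ (quotAction W hW)).index ≤ Nat.card (H ⧸ kerSub H V) :=
        Nat.le_of_dvd Nat.card_pos (Subgroup.index_dvd_card _)
      have hw1 := h3_card_lt_of_ne_top W htop
      have hw2 := h3_card_quot_lt_of_ne_bot W hbot
      have s1 := @ih _ (by rw [← hn, ← hcardH]; omega) (H ⧸ kerSub H V) _ ↥W _ (subAction W hW) h1 rfl
      have s2 := @ih _ (by rw [← hn, ← hcardH]; omega) (H ⧸ kerSub H V) _ (V ⧸ W) _ (quotAction W hW) h2 rfl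
      exact hns (solvable_of_inf_eq_bot _ _ (hHyp.ker_inf_ker W hW) s1 s2)
  exact hmin.false

end Cfsg.Agent.Lib.Helper3.MS
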