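import Mathlib
import Cfsg.Agent.Lib.Helper6.StSLDefs
import Cfsg.Agent.Lib.Helper8.StLiftA

set_option autoImplicit false

/-!
Farm MSL (statement S2086), unit 0: central extensions and the commutator of lifts; the elements
`c_{ijl}(t,u)` for a group with Steinberg generators of type `A`.
-/

namespace Cfsg.Agent.Lib.Helper3.MSL

open Cfsg.Agent.Lib.Helper6.StSL Cfsg.Agent.Lib.Helper8.StLift

variable {I : Type*} [DecidableEq I] [Fintype I] {K : Type*} [Field K] {G : Type*} [Group G]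
  {Γ : Type*} [Group Γ]

/-- a central extension `σ : Γ → G` -/
structure CExt (G : Type*) [Group G] (Γ : Type*) [Group Γ] where
  σ : Γ →* G
  hc : σ.ker ≤ Subgroup.center Γ
  surj : Function.Surjective σ

namespace CExt

variable (L : CExt G Γ)

/-- the commutator of (any) lifts of `a` and `b` -/
noncomputable def F (a b : G) : Γ :=
  Function.surjInv L.surj a * Function.surjInv L.surj b * (Function.surjInv L.surj a)⁻¹ *
    (Function.surjInv L.surj b)⁻¹

theorem F_eq {a b : G} {a' b' : Γ} (ha : L.σ a' = a) (hb : L.σ b' = b) :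
    a' * b' * a'⁻¹ * b'⁻¹ = L.F a b := by
  unfold F
  apply comm_lift_indep L.σ L.hc
  · rw [ha, Function.surjInv_eq L.surj]
  · rw [hb, Function.surjInv_eq L.surj]

theorem σ_F (a b : G) : L.σ (L.F a b) = a * b * a⁻¹ * b⁻¹ := by
  unfold F
  rw [map_mul, map_mul, map_mul, map_inv, map_inv, Function.surjInv_eq L.surj,
    Function.surjInv_eq L.surj]

theorem F_mem_center {a b : G} (h : a * b = b * a) : L.F a b ∈ Subgroup.center Γ := by
  apply L.hc
  rw [MonoidHom.mem_ker, σ_F, h]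
  group

theorem F_symm (a b : G) : L.F b a = (L.F a b)⁻¹ := by
  obtain ⟨a', ha⟩ := L.surj a
  obtain ⟨b', hb⟩ := L.surj b
  rw [← L.F_eq hb ha, ← L.F_eq ha hb]
  group

theorem F_one_left (b : G) : L.F 1 b = 1 := by
  obtain ⟨b', hb⟩ := L.surj b
  rw [← L.F_eq (map_one L.σ) hb]
  group

theorem F_one_right (a : G) : L.F a 1 = 1 := by
  obtain ⟨a', ha⟩ := L.surj a
  rw [← L.F_eq ha (map_one L.σ)]
  group

/-- conjugation by `g'` -/
theorem F_conj (g' : Γ) (a b : G) :
    L.F (L.σ g' * a * (L.σ g')⁻¹) (L.σ g' * b * (L.σ g')⁻¹) = g' * L.F a b * g'⁻¹ := by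
  obtain ⟨a', ha⟩ := L.surj a
  obtain ⟨b', hb⟩ := L.surj b
  have h1 : L.σ (g' * a' * g'⁻¹) = L.σ g' * a * (L.σ g')⁻¹ := by
    rw [map_mul, map_mul, map_inv, ha]
  have h2 : L.σ (g' * b' * g'⁻¹) = L.σ g' * b * (L.σ g')⁻¹ := by
    rw [map_mul, map_mul, map_inv, hb]
  rw [← L.F_eq h1 h2, ← L.F_eq ha hb]
  group

/-- on commuting pairs `F` is invariant under conjugation -/
theorem F_conj_comm {a b : G} (h : a * b = b * a) (g : G) :
    L.F (g * a * g⁻¹) (g * b * g⁻¹) = L.F a b := by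
  obtain ⟨g', rfl⟩ := L.surj g
  rw [F_conj]
  have hz := Subgroup.mem_center_iff.1 (L.F_mem_center h) g'
  rw [hz, mul_inv_cancel_right]

/-- general product rule on the left: `[a a', b] = a [a', b] a⁻¹ [a, b]` -/
theorem F_mul_left' (x : Γ) (a a' b : G) (hx : L.σ x = a) :
    L.F (a * a') b = x * L.F a' b * x⁻¹ * L.F a b := by
  obtain ⟨x', hx'⟩ := L.surj a'
  obtain ⟨y, hy⟩ := L.surj b
  have h1 : L.σ (x * x') = a * a' := by rw [map_mul, hx, hx']
  rw [← L.F_eq h1 hy, ← L.F_eq hx' hy, ← L.F_eq hx hy]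
  group

/-- general product rule on the right: `[a, b b'] = [a, b] b [a, b'] b⁻¹` -/
theorem F_mul_right' (y : Γ) (a b b' : G) (hy : L.σ y = b) :
    L.F a (b * b') = L.F a b * (y * L.F a b' * y⁻¹) := by
  obtain ⟨y', hy'⟩ := L.surj b'
  obtain ⟨x, hx⟩ := L.surj a
  have h1 : L.σ (y * y') = b * b' := by rw [map_mul, hy, hy']
  rw [← L.F_eq hx h1, ← L.F_eq hx hy', ← L.F_eq hx hy]
  group

theorem F_mul_left {a a' b : G} (h : a' * b = b * a') : L.F (a * a') b = L.F a b * L.F a' b := by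
  obtain ⟨x, hx⟩ := L.surj a
  rw [L.F_mul_left' x a a' b hx]
  have hz := Subgroup.mem_center_iff.1 (L.F_mem_center h)
  rw [hz x, mul_inv_cancel_right, hz (L.F a b)]

theorem F_mul_right {a b b' : G} (h : a * b' = b' * a) : L.F a (b * b') = L.F a b * L.F a b' := by
  obtain ⟨y, hy⟩ := L.surj b
  rw [L.F_mul_right' y a b b' hy]
  have hz := Subgroup.mem_center_iff.1 (L.F_mem_center h)
  rw [hz y, mul_inv_cancel_right]

/-- all lifts of `a` and `b` commute -/
def LC (a b : G) : Prop := L.F a b = 1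

theorem LC_iff (a b : G) :
    L.LC a b ↔ ∀ a' b' : Γ, L.σ a' = a → L.σ b' = b → a' * b' = b' * a' := by
  unfold LC
  constructor
  · intro h a' b' ha hb
    have := L.F_eq ha hb
    rw [h] at this
    calc a' * b' = (a' * b' * a'⁻¹ * b'⁻¹) * b' * a' := by group
      _ = b' * a' := by rw [this, one_mul]
  · intro h
    obtain ⟨a', ha⟩ := L.surj a
    obtain ⟨b', hb⟩ := L.surj b
    rw [← L.F_eq ha hb, h a' b' ha hb]
    group

theorem LC.symm {a b : G} (h : L.LC a b) : L.LC b a := by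
  unfold LC at h ⊢
  rw [F_symm, h, inv_one]

/-- if `a` commutes with `b` and `c` in `G` then every lift of `a` commutes with every lift of
`[b, c]` -/
theorem LC_comm {a b c : G} (hab : a * b = b * a) (hac : a * c = c * a) :
    L.LC a (b * c * b⁻¹ * c⁻¹) := by
  rw [LC_iff]
  intro a' d ha hd
  obtain ⟨b', hb⟩ := L.surj b
  obtain ⟨c', hc'⟩ := L.surj c
  -- it is enough to treat the lift `[b', c']`
  have hbc : L.σ (b' * c' * b'⁻¹ * c'⁻¹) = L.σ d := by
    rw [map_mul, map_mul, map_mul, map_inv, map_inv, hb, hc', hd]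
  have key : a' * (b' * c' * b'⁻¹ * c'⁻¹) = (b' * c' * b'⁻¹ * c'⁻¹) * a' := by
    have hb1 : L.σ (a' * b' * a'⁻¹) = L.σ b' := by
      rw [map_mul, map_mul, map_inv, ha, hb, hab, mul_inv_cancel_right]
    have hc1 : L.σ (a' * c' * a'⁻¹) = L.σ c' := by
      rw [map_mul, map_mul, map_inv, ha, hc', hac, mul_inv_cancel_right]
    have e1 := comm_lift_indep L.σ L.hc hb1 hc1
    have e2 : a' * (b' * c' * b'⁻¹ * c'⁻¹) * a'⁻¹
        = (a' * b' * a'⁻¹) * (a' * c' * a'⁻¹) * (a' * b' * a'⁻¹)⁻¹ * (a' * c' * a'⁻¹)⁻¹ := by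
      group
    rw [e1] at e2
    calc a' * (b' * c' * b'⁻¹ * c'⁻¹) = (a' * (b' * c' * b'⁻¹ * c'⁻¹) * a'⁻¹) * a' := by group
      _ = (b' * c' * b'⁻¹ * c'⁻¹) * a' := by rw [e2]
  exact (commute_lift_indep L.σ L.hc hbc key.symm).symm

/-- lifts of `a` commute with `L.F b c` -/
theorem F_commute_of_LC {a b c : G} (h : L.LC a (b * c * b⁻¹ * c⁻¹)) (a' : Γ) (ha : L.σ a' = a) :
    a' * L.F b c = L.F b c * a' :=
  (L.LC_iff _ _).1 h a' (L.F b c) ha (L.σ_F b c)

end CExt

variable (S : StA I K G) (L : CExt G Γ)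

/-- Step A: every pair of commuting root elements lifts to commuting elements -/
def HA : Prop := ∀ i j k l : I, i ≠ j → k ≠ l → i ≠ l → j ≠ k → ∀ t u : K,
  L.LC (S.x i j t) (S.x k l u)

/-- `c_{ijl}(t, u) = [lift of x_ij(t), lift of x_jl(u)]`, a lift of `x_il(t u)` -/
noncomputable def c (i j l : I) (t u : K) : Γ := L.F (S.x i j t) (S.x j l u)

theorem σ_c {i j l : I} (hij : i ≠ j) (hjl : j ≠ l) (hil : i ≠ l) (t u : K) :
    L.σ (c S L i j l t u) = S.x i l (t * u) := by
  unfold c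
  rw [L.σ_F, S.comm_eq i j l hij hjl hil]

/-- biadditivity of `c` -/
theorem c_add_left (hA : HA S L) {i j l : I} (hij : i ≠ j) (hjl : j ≠ l) (hil : i ≠ l)
    (t t' u : K) : c S L i j l (t + t') u = c S L i j l t u * c S L i j l t' u := by
  obtain ⟨x, hx⟩ := L.surj (S.x i j t)
  have h1 : c S L i j l (t + t') u
      = x * c S L i j l t' u * x⁻¹ * c S L i j l t u := by
    unfold c
    rw [← S.x_add i j hij t t']
    exact L.F_mul_left' x _ _ _ hx
  -- the lift `x` of `x_ij(t)` commutes with the lift `c(t',u)` of `x_il(t'u)`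
  have h2 : x * c S L i j l t' u = c S L i j l t' u * x :=
    (L.LC_iff _ _).1 (hA i j i l hij hil hil hij.symm t (t' * u)) x _ hx
      (σ_c S L hij hjl hil t' u)
  have h3 : c S L i j l t' u * c S L i j l t u = c S L i j l t u * c S L i j l t' u :=
    (L.LC_iff _ _).1 (hA i l i l hil hil hil hil.symm (t' * u) (t * u)) _ _
      (σ_c S L hij hjl hil t' u) (σ_c S L hij hjl hil t u)
  rw [h1, h2, mul_inv_cancel_right, h3]

theorem c_add_right (hA : HA S L) {i j l : I} (hij : i ≠ j) (hjl : j ≠ l) (hil : i ≠ l)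
    (t u u' : K) : c S L i j l t (u + u') = c S L i j l t u * c S L i j l t u' := by
  obtain ⟨y, hy⟩ := L.surj (S.x j l u)
  have h1 : c S L i j l t (u + u')
      = c S L i j l t u * (y * c S L i j l t u' * y⁻¹) := by
    unfold c
    rw [← S.x_add j l hjl u u']
    exact L.F_mul_right' y _ _ _ hy
  have h2 : y * c S L i j l t u' = c S L i j l t u' * y :=
    (L.LC_iff _ _).1 (hA j l i l hjl hil hjl hil.symm u (t * u')) y _ hy
      (σ_c S L hij hjl hil t u')
  rw [h1, h2, mul_inv_cancel_right]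

/-- Step C: `c_{ijl}(t, u)` depends only on `t u` -/
def HC : Prop := ∀ i j l : I, i ≠ j → j ≠ l → i ≠ l → ∀ t u : K,
  c S L i j l t u = c S L i j l (t * u) 1

/-- independence of the middle index -/
def HM : Prop := ∀ i j j' l : I, i ≠ j → j ≠ l → i ≠ j' → j' ≠ l → i ≠ l → ∀ t : K,
  c S L i j l t 1 = c S L i j' l t 1

end Cfsg.Agent.Lib.Helper3.MSL
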