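import Mathlib
import Cfsg.Agent.Lib.Helper3.MSL0

set_option autoImplicit false

/-!
Farm MSL (statement S2086), unit C4: for at least four indices the lift `c_{ijl}(t,u)` depends only
on `t u` and not on the middle index (a Hall-Witt type computation with three lifts).
-/

namespace Cfsg.Agent.Lib.Helper3.MSL

open Cfsg.Agent.Lib.Helper6.StSL

variable {I : Type*} [DecidableEq I] [Fintype I] {K : Type*} [Field K] {G : Type*} [Group G]
  {Γ : Type*} [Group Γ]

/-- the group computation: `P = [u,v]`, `Q = [v,w]`, `T = [P,w]`, `T' = [u,Q]` -/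
theorem hw_core (u v w P Q T T' : Γ) (hP : u * v = P * v * u) (hQ : v * w = Q * w * v)
    (hT : P * w = T * w * P) (hT' : u * Q = T' * Q * u) (huw : u * w = w * u)
    (hPQ : P * Q = Q * P) (hTQ : T * Q = Q * T) : T' = T := by
  have e1 : u * (v * w) = T' * Q * w * P * v * u := by
    calc u * (v * w) = u * (Q * w * v) := by rw [hQ]
      _ = (u * Q) * w * v := by group
      _ = T' * Q * u * w * v := by rw [hT']
      _ = T' * Q * (u * w) * v := by group
      _ = T' * Q * (w * u) * v := by rw [huw]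
      _ = T' * Q * w * (u * v) := by group
      _ = T' * Q * w * (P * v * u) := by rw [hP]
      _ = T' * Q * w * P * v * u := by group
  have e2 : u * (v * w) = Q * T * w * P * v * u := by
    calc u * (v * w) = (u * v) * w := by group
      _ = P * v * u * w := by rw [hP]
      _ = P * v * (u * w) := by group
      _ = P * v * (w * u) := by rw [huw]
      _ = P * (v * w) * u := by group
      _ = P * (Q * w * v) * u := by rw [hQ]
      _ = (P * Q) * w * v * u := by group
      _ = (Q * P) * w * v * u := by rw [hPQ]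
      _ = Q * (P * w) * v * u := by group
      _ = Q * (T * w * P) * v * u := by rw [hT]
      _ = Q * T * w * P * v * u := by group
  rw [e1] at e2
  have e3 : T' * Q = Q * T := by
    calc T' * Q = T' * Q * w * P * v * u * (w * P * v * u)⁻¹ := by group
      _ = Q * T * w * P * v * u * (w * P * v * u)⁻¹ := by rw [e2]
      _ = Q * T := by group
  rw [← hTQ] at e3
  exact mul_right_cancel e3

variable (S : StA I K G) (L : CExt G Γ)

theorem hall_witt (hA : HA S L) {h i j k : I} (hhi : h ≠ i) (hhj : h ≠ j) (hhk : h ≠ k)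
    (hij : i ≠ j) (hik : i ≠ k) (hjk : j ≠ k) (a b : K) :
    c S L h j k a b = c S L h i k 1 (a * b) := by
  obtain ⟨u, hu⟩ := L.surj (S.x h i 1)
  obtain ⟨v, hv⟩ := L.surj (S.x i j a)
  obtain ⟨w, hw⟩ := L.surj (S.x j k b)
  set P : Γ := u * v * u⁻¹ * v⁻¹ with hPdef
  set Q : Γ := v * w * v⁻¹ * w⁻¹ with hQdef
  have hσP : L.σ P = S.x h j a := by
    rw [hPdef, map_mul, map_mul, map_mul, map_inv, map_inv, hu, hv, S.comm_eq h i j hhi hij hhj,
      one_mul]
  have hσQ : L.σ Q = S.x i k (a * b) := by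
    rw [hQdef, map_mul, map_mul, map_mul, map_inv, map_inv, hv, hw, S.comm_eq i j k hij hjk hik]
  have hT : P * w * P⁻¹ * w⁻¹ = c S L h j k a b := L.F_eq hσP hw
  have hT' : u * Q * u⁻¹ * Q⁻¹ = c S L h i k 1 (a * b) := L.F_eq hu hσQ
  have hσT : L.σ (c S L h j k a b) = S.x h k (a * b) := σ_c S L hhj hjk hhk a b
  symm
  apply hw_core u v w P Q (c S L h j k a b) (c S L h i k 1 (a * b))
  · rw [hPdef]; group
  · rw [hQdef]; group
  · rw [← hT]; group
  · rw [← hT']; group
  · exact (L.LC_iff _ _).1 (hA h i j k hhi hjk hhk hij 1 b) u w hu hw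
  · exact (L.LC_iff _ _).1 (hA h j i k hhj hik hhk hij.symm a (a * b)) P Q hσP hσQ
  · exact (L.LC_iff _ _).1 (hA h k i k hhk hik hhk hik.symm (a * b) (a * b)) _ Q hσT hσQ

/-- a fourth index -/
theorem exists_fourth (h4 : 4 ≤ Fintype.card I) (i j l : I) : ∃ m : I, m ≠ i ∧ m ≠ j ∧ m ≠ l := by
  by_contra hcon
  have hcon : ∀ m : I, m ≠ i → m ≠ j → m = l := by
    intro m h1 h2
    by_contra h3
    exact hcon ⟨m, h1, h2, h3⟩
  have hsub : (Finset.univ : Finset I) ⊆ {i, j, l} := by
    intro m _
    simp only [Finset.mem_insert, Finset.mem_singleton]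
    by_cases h1 : m = i
    · exact Or.inl h1
    · by_cases h2 : m = j
      · exact Or.inr (Or.inl h2)
      · exact Or.inr (Or.inr (hcon m h1 h2))
  have h1 := Finset.card_le_card hsub
  have h2 : ({i, j, l} : Finset I).card ≤ 3 := Finset.card_le_three
  rw [Finset.card_univ] at h1
  omega

theorem hC_of_four (h4 : 4 ≤ Fintype.card I) (hA : HA S L) : HC S L := by
  intro i j l hij hjl hil t u
  obtain ⟨m, hmi, hmj, hml⟩ := exists_fourth h4 i j l
  rw [hall_witt S L hA hmi.symm hij hil hmj hml hjl t u,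
    hall_witt S L hA hmi.symm hij hil hmj hml hjl (t * u) 1, mul_one]

theorem hM_of_four (h4 : 4 ≤ Fintype.card I) (hA : HA S L) : HM S L := by
  intro i j j' l hij hjl hij' hj'l hil t
  by_cases hjj : j = j'
  · subst hjj; rfl
  · rw [hall_witt S L hA hij' hij hil (Ne.symm hjj) hj'l hjl t 1, mul_one,
      hC_of_four S L h4 hA i j' l hij' hj'l hil 1 t, one_mul]

end Cfsg.Agent.Lib.Helper3.MSL
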