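import Mathlib
import Cfsg.Agent.Lib.Helper3.MSLC4

set_option autoImplicit false

/-!
Farm MSL (statement S2086), unit A1: commuting root elements lift to commuting elements, the cases
settled by writing one of the two as a commutator (no torus).
-/

namespace Cfsg.Agent.Lib.Helper3.MSL

open Cfsg.Agent.Lib.Helper6.StSL

variable {I : Type*} [DecidableEq I] [Fintype I] {K : Type*} [Field K] {G : Type*} [Group G]
  {Γ : Type*} [Group Γ] (S : StA I K G) (L : CExt G Γ)

/-- the common pattern: `x_kl(u) = [x_km(u), x_ml(1)]` and `x_ij(t)` commutes with both factors -/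
theorem lc_of_mid {i j k l m : I} (hij : i ≠ j) (hkm : k ≠ m) (hml : m ≠ l) (hkl : k ≠ l)
    (him : i ≠ m) (hjk : j ≠ k) (hil : i ≠ l) (hjm : j ≠ m) (t u : K) :
    L.LC (S.x i j t) (S.x k l u) := by
  have h := L.LC_comm (a := S.x i j t) (b := S.x k m u) (c := S.x m l 1)
    (S.comm_ne i j k m hij hkm him hjk t u) (S.comm_ne i j m l hij hml hil hjm t 1)
  rwa [S.comm_eq k m l hkm hml hkl, mul_one] at h

/-- a fifth index -/
theorem exists_fifth (h5 : 5 ≤ Fintype.card I) (i j k l : I) :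
    ∃ m : I, m ≠ i ∧ m ≠ j ∧ m ≠ k ∧ m ≠ l := by
  by_contra hcon
  have hcon : ∀ m : I, m ≠ i → m ≠ j → m ≠ k → m = l := by
    intro m h1 h2 h3
    by_contra h4
    exact hcon ⟨m, h1, h2, h3, h4⟩
  have hsub : (Finset.univ : Finset I) ⊆ {i, j, k, l} := by
    intro m _
    simp only [Finset.mem_insert, Finset.mem_singleton]
    by_cases h1 : m = i
    · exact Or.inl h1
    · by_cases h2 : m = j
      · exact Or.inr (Or.inl h2)
      · by_cases h3 : m = k
        · exact Or.inr (Or.inr (Or.inl h3))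
        · exact Or.inr (Or.inr (Or.inr (hcon m h1 h2 h3)))
  have h1 := Finset.card_le_card hsub
  have h2 : ({i, j, k, l} : Finset I).card ≤ 4 := Finset.card_le_four
  rw [Finset.card_univ] at h1
  omega

/-- a third index -/
theorem exists_third' (h3 : 3 ≤ Fintype.card I) (i j : I) : ∃ m : I, m ≠ i ∧ m ≠ j := by
  by_contra hcon
  have hcon : ∀ m : I, m ≠ i → m = j := by
    intro m h1
    by_contra h2
    exact hcon ⟨m, h1, h2⟩
  have hsub : (Finset.univ : Finset I) ⊆ {i, j} := by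
    intro m _
    simp only [Finset.mem_insert, Finset.mem_singleton]
    by_cases h1 : m = i
    · exact Or.inl h1
    · exact Or.inr (hcon m h1)
  have h1 := Finset.card_le_card hsub
  have h2 : ({i, j} : Finset I).card ≤ 2 := Finset.card_le_two
  rw [Finset.card_univ] at h1
  omega

theorem ha_same (h3 : 3 ≤ Fintype.card I) {i j : I} (hij : i ≠ j) (t u : K) :
    L.LC (S.x i j t) (S.x i j u) := by
  obtain ⟨m, hmi, hmj⟩ := exists_third' h3 i j
  exact lc_of_mid S L hij hmi.symm hmj hij hmi.symm hij.symm hij hmj.symm t u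

theorem ha_row (h4 : 4 ≤ Fintype.card I) {i j l : I} (hij : i ≠ j) (hil : i ≠ l) (hjl : j ≠ l)
    (t u : K) : L.LC (S.x i j t) (S.x i l u) := by
  obtain ⟨m, hmi, hmj, hml⟩ := exists_fourth h4 i j l
  exact lc_of_mid S L hij hmi.symm hml hil hmi.symm hij.symm hil hmj.symm t u

theorem ha_col (h4 : 4 ≤ Fintype.card I) {i k j : I} (hij : i ≠ j) (hkj : k ≠ j) (hik : i ≠ k)
    (t u : K) : L.LC (S.x i j t) (S.x k j u) := by
  obtain ⟨m, hmi, hmj, hmk⟩ := exists_fourth h4 i j k
  exact lc_of_mid S L hij hmk.symm hmj hkj hmi.symm hkj.symm hij hmj.symm t u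

theorem ha_four (h5 : 5 ≤ Fintype.card I) {i j k l : I} (hij : i ≠ j) (hkl : k ≠ l) (hik : i ≠ k)
    (hil : i ≠ l) (hjk : j ≠ k) (hjl : j ≠ l) (t u : K) : L.LC (S.x i j t) (S.x k l u) := by
  obtain ⟨m, hmi, hmj, hmk, hml⟩ := exists_fifth h5 i j k l
  exact lc_of_mid S L hij hmk.symm hml hkl hmi.symm hjk hil hmj.symm t u

/-- assembling Step A from its four cases -/
theorem hA_of_parts (h3 : 3 ≤ Fintype.card I)
    (hrow : ∀ i j l : I, i ≠ j → i ≠ l → j ≠ l → ∀ t u : K, L.LC (S.x i j t) (S.x i l u))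
    (hcol : ∀ i k j : I, i ≠ j → k ≠ j → i ≠ k → ∀ t u : K, L.LC (S.x i j t) (S.x k j u))
    (hfour : ∀ i j k l : I, i ≠ j → k ≠ l → i ≠ k → i ≠ l → j ≠ k → j ≠ l → ∀ t u : K,
      L.LC (S.x i j t) (S.x k l u)) : HA S L := by
  intro i j k l hij hkl hil hjk t u
  by_cases hik : i = k
  · subst hik
    by_cases hjl : j = l
    · subst hjl
      exact ha_same S L h3 hij t u
    · exact hrow i j l hij hil hjl t u
  · by_cases hjl : j = l
    · subst hjl
      exact hcol i k j hij hkl hik t u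
    · exact hfour i j k l hij hkl hik hil hjk hjl t u

end Cfsg.Agent.Lib.Helper3.MSL
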