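import Mathlib
import Cfsg.Agent.Lib.Helper3.MSLA1
import Cfsg.Agent.Lib.Helper1.StSLH1

set_option autoImplicit false

/-!
Farm MSL (statement S2086), unit A2: commuting root elements lift to commuting elements, the cases
settled by the action of the torus on biadditive central maps.
-/

namespace Cfsg.Agent.Lib.Helper3.MSL

open Cfsg.Agent.Lib.Helper6.StSL

variable {I : Type*} [DecidableEq I] [Fintype I] {K : Type*} [Field K] {G : Type*} [Group G]
  {Γ : Type*} [Group Γ] (S : StA I K G) (L : CExt G Γ)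

/-- torus invariance of `F` on commuting root elements -/
theorem F_torus (h3 : 3 ≤ Fintype.card I) {i j k l : I} (hij : i ≠ j) (hkl : k ≠ l) (hil : i ≠ l)
    (hjk : j ≠ k) {p q : I} (hpq : p ≠ q) {s : K} (hs : s ≠ 0) (t u : K) :
    L.F (S.x i j (chi p q s i * (chi p q s j)⁻¹ * t)) (S.x k l (chi p q s k * (chi p q s l)⁻¹ * u))
      = L.F (S.x i j t) (S.x k l u) := by
  rw [← Cfsg.Agent.Lib.Helper1.StSL.h_conj S h3 hpq hs hij t,
    ← Cfsg.Agent.Lib.Helper1.StSL.h_conj S h3 hpq hs hkl u]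
  exact L.F_conj_comm (S.comm_ne i j k l hij hkl hil hjk t u) (S.h p q s)

/-- a biadditive map into a group which is invariant under `t ↦ μ t` (`μ ≠ 1`) is trivial -/
theorem biadd_kill {A : Type*} [Group A] (f : K → K → A)
    (hl : ∀ t t' u, f (t + t') u = f t u * f t' u)
    (μ : K) (hμ : μ ≠ 1) (hinv : ∀ t u, f (μ * t) u = f t u) : ∀ t u, f t u = 1 := by
  have h0 : ∀ u, f 0 u = 1 := by
    intro u
    have := hl 0 0 u
    rw [add_zero] at this
    exact (mul_eq_left.1 this.symm)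
  have hneg : ∀ t u, f (-t) u = (f t u)⁻¹ := by
    intro t u
    rw [eq_inv_iff_mul_eq_one, ← hl, neg_add_cancel, h0]
  intro t u
  have hμ' : μ - 1 ≠ 0 := sub_ne_zero.2 hμ
  have key : f ((μ - 1) * (t / (μ - 1))) u = 1 := by
    have : (μ - 1) * (t / (μ - 1)) = μ * (t / (μ - 1)) + -(t / (μ - 1)) := by ring
    rw [this, hl, hinv, hneg, mul_inv_cancel]
  rwa [mul_div_cancel₀ _ hμ'] at key

theorem chi_left (p q : I) (s : K) : chi p q s p = s := by simp [chi]

theorem chi_right {p q : I} (hpq : p ≠ q) (s : K) : chi p q s q = s⁻¹ := by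
  simp [chi, hpq.symm]

theorem chi_of_ne {p q m : I} (hmp : m ≠ p) (hmq : m ≠ q) (s : K) : chi p q s m = 1 := by
  simp [chi, hmp, hmq]

/-- additivity in the first variable of `F` on commuting root elements -/
theorem F_root_add_left {i j k l : I} (hij : i ≠ j) (hkl : k ≠ l) (hil : i ≠ l) (hjk : j ≠ k)
    (t t' u : K) :
    L.F (S.x i j (t + t')) (S.x k l u) = L.F (S.x i j t) (S.x k l u) * L.F (S.x i j t') (S.x k l u) := by
  rw [← S.x_add i j hij t t']
  exact L.F_mul_left (S.comm_ne i j k l hij hkl hil hjk t' u)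

theorem ha_row_torus (h3 : 3 ≤ Fintype.card I) {s : K} (hs : s ≠ 0) (hs3 : s ^ 3 ≠ 1) {i j l : I}
    (hij : i ≠ j) (hil : i ≠ l) (hjl : j ≠ l) (t u : K) : L.LC (S.x i j t) (S.x i l u) := by
  -- (p,q) = (j,l): f(s⁻¹ t, s u) = f(t,u); (p,q) = (i,j): f(s² t, s u) = f(t,u)
  have e1 : ∀ t u : K, L.F (S.x i j (s⁻¹ * t)) (S.x i l (s * u)) = L.F (S.x i j t) (S.x i l u) := by
    intro t u
    have h := F_torus S L h3 hij hil hil hij.symm hjl hs t u
    rw [chi_of_ne hij hil, chi_left, chi_right hjl, one_mul, inv_inv, one_mul] at h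
    exact h
  have e2 : ∀ t u : K, L.F (S.x i j (s ^ 2 * t)) (S.x i l (s * u)) = L.F (S.x i j t) (S.x i l u) := by
    intro t u
    have h := F_torus S L h3 hij hil hil hij.symm hij hs t u
    rw [chi_left, chi_right hij, chi_of_ne hil.symm hjl.symm, inv_inv, inv_one, mul_one] at h
    rw [pow_two]
    exact h
  have e3 : ∀ t u : K, L.F (S.x i j (s ^ 3 * t)) (S.x i l u) = L.F (S.x i j t) (S.x i l u) := by
    intro t u
    have a1 : s ^ 2 * (s * t) = s ^ 3 * t := by ring
    have a2 : s * (s⁻¹ * u) = u := by rw [← mul_assoc, mul_inv_cancel₀ hs, one_mul]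
    have a3 : s⁻¹ * (s * t) = t := by rw [← mul_assoc, inv_mul_cancel₀ hs, one_mul]
    have h1 := e2 (s * t) (s⁻¹ * u)
    have h2 := e1 (s * t) (s⁻¹ * u)
    rw [a1, a2] at h1
    rw [a3, a2] at h2
    exact h1.trans h2.symm
  exact biadd_kill (fun t u => L.F (S.x i j t) (S.x i l u))
    (fun t t' u => F_root_add_left S L hij hil hil hij.symm t t' u) (s ^ 3) hs3 e3 t u

theorem ha_col_torus (h3 : 3 ≤ Fintype.card I) {s : K} (hs : s ≠ 0) (hs3 : s ^ 3 ≠ 1) {i k j : I}
    (hij : i ≠ j) (hkj : k ≠ j) (hik : i ≠ k) (t u : K) : L.LC (S.x i j t) (S.x k j u) := by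
  -- (p,q) = (i,k): f(s t, s⁻¹ u) = f(t,u); (p,q) = (i,j): f(s² t, s u) = f(t,u)
  have e1 : ∀ t u : K, L.F (S.x i j (s * t)) (S.x k j (s⁻¹ * u)) = L.F (S.x i j t) (S.x k j u) := by
    intro t u
    have h := F_torus S L h3 hij hkj hij hkj.symm hik hs t u
    rw [chi_left, chi_of_ne hij.symm hkj.symm, chi_right hik, inv_one, mul_one, mul_one] at h
    exact h
  have e2 : ∀ t u : K, L.F (S.x i j (s ^ 2 * t)) (S.x k j (s * u)) = L.F (S.x i j t) (S.x k j u) := by
    intro t u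
    have h := F_torus S L h3 hij hkj hij hkj.symm hij hs t u
    rw [chi_left, chi_right hij, chi_of_ne hik.symm hkj, inv_inv, one_mul] at h
    rw [pow_two]
    exact h
  have e3 : ∀ t u : K, L.F (S.x i j (s ^ 3 * t)) (S.x k j u) = L.F (S.x i j t) (S.x k j u) := by
    intro t u
    have a1 : s ^ 2 * (s * t) = s ^ 3 * t := by ring
    have a2 : s * (s⁻¹ * u) = u := by rw [← mul_assoc, mul_inv_cancel₀ hs, one_mul]
    have h1 := e2 (s * t) (s⁻¹ * u)
    rw [a1, a2] at h1
    exact h1.trans (e1 t u)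
  exact biadd_kill (fun t u => L.F (S.x i j t) (S.x k j u))
    (fun t t' u => F_root_add_left S L hij hkj hij hkj.symm t t' u) (s ^ 3) hs3 e3 t u

theorem ha_four_torus (h3 : 3 ≤ Fintype.card I) {s : K} (hs : s ≠ 0) (hs2 : s ^ 2 ≠ 1)
    {i j k l : I} (hij : i ≠ j) (hkl : k ≠ l) (hik : i ≠ k) (hil : i ≠ l) (hjk : j ≠ k)
    (hjl : j ≠ l) (t u : K) : L.LC (S.x i j t) (S.x k l u) := by
  have e1 : ∀ t u : K, L.F (S.x i j (s ^ 2 * t)) (S.x k l u) = L.F (S.x i j t) (S.x k l u) := by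
    intro t u
    have h := F_torus S L h3 hij hkl hil hjk hij hs t u
    rw [chi_left, chi_right hij, chi_of_ne hik.symm hjk.symm, chi_of_ne hil.symm hjl.symm, inv_inv,
      inv_one, mul_one, one_mul] at h
    rw [pow_two]
    exact h
  exact biadd_kill (fun t u => L.F (S.x i j t) (S.x k l u))
    (fun t t' u => F_root_add_left S L hij hkl hil hjk t t' u) (s ^ 2) hs2 e1 t u

end Cfsg.Agent.Lib.Helper3.MSL
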