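import Mathlib
import Cfsg.Agent.Lib.Helper3.MSLA2

set_option autoImplicit false

/-!
Farm MSL (statement S2086), unit C3: the lift `c_{ijl}(t,u)` depends only on `t u`, by the action of
the torus (needed for three indices).
-/

namespace Cfsg.Agent.Lib.Helper3.MSL

open Cfsg.Agent.Lib.Helper6.StSL

variable {I : Type*} [DecidableEq I] [Fintype I] {K : Type*} [Field K] {G : Type*} [Group G]
  {Γ : Type*} [Group Γ] (S : StA I K G) (L : CExt G Γ)

/-- conjugation of `c` by a lift of `h_ij(s) h_il(s)` -/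
theorem c_conj_torus (h3 : 3 ≤ Fintype.card I) {s : K} (hs : s ≠ 0) {i j l : I}
    (hij : i ≠ j) (hjl : j ≠ l) (hil : i ≠ l) (g' : Γ) (hg : L.σ g' = S.h i j s * S.h i l s)
    (t u : K) : g' * c S L i j l t u * g'⁻¹ = c S L i j l (s ^ 3 * t) u := by
  unfold c
  rw [← L.F_conj g' (S.x i j t) (S.x j l u), hg]
  have e1 : S.h i j s * S.h i l s * S.x i j t * (S.h i j s * S.h i l s)⁻¹ = S.x i j (s ^ 3 * t) := by
    have a1 := Cfsg.Agent.Lib.Helper1.StSL.h_conj S h3 hil hs hij t
    have a2 := Cfsg.Agent.Lib.Helper1.StSL.h_conj S h3 hij hs hij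
      (chi i l s i * (chi i l s j)⁻¹ * t)
    rw [chi_left, chi_of_ne hij.symm hjl, inv_one, mul_one] at a1
    rw [chi_left, chi_of_ne hij.symm hjl, inv_one, mul_one, chi_left, chi_right hij, inv_inv] at a2
    calc S.h i j s * S.h i l s * S.x i j t * (S.h i j s * S.h i l s)⁻¹
        = S.h i j s * (S.h i l s * S.x i j t * (S.h i l s)⁻¹) * (S.h i j s)⁻¹ := by group
      _ = S.x i j (s * s * (s * t)) := by rw [a1, a2]
      _ = S.x i j (s ^ 3 * t) := by congr 1; ring
  have e2 : S.h i j s * S.h i l s * S.x j l u * (S.h i j s * S.h i l s)⁻¹ = S.x j l u := by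
    have a1 := Cfsg.Agent.Lib.Helper1.StSL.h_conj S h3 hil hs hjl u
    have a2 := Cfsg.Agent.Lib.Helper1.StSL.h_conj S h3 hij hs hjl
      (chi i l s j * (chi i l s l)⁻¹ * u)
    rw [chi_of_ne hij.symm hjl, chi_right hil, inv_inv, one_mul] at a1
    rw [chi_of_ne hij.symm hjl, chi_right hil, inv_inv, one_mul, chi_right hij,
      chi_of_ne hil.symm hjl.symm, inv_one, mul_one] at a2
    calc S.h i j s * S.h i l s * S.x j l u * (S.h i j s * S.h i l s)⁻¹
        = S.h i j s * (S.h i l s * S.x j l u * (S.h i l s)⁻¹) * (S.h i j s)⁻¹ := by group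
      _ = S.x j l (s⁻¹ * (s * u)) := by rw [a1, a2]
      _ = S.x j l u := by rw [← mul_assoc, inv_mul_cancel₀ hs, one_mul]
  rw [e1, e2]

theorem hC_of_torus (h3 : 3 ≤ Fintype.card I) (hA : HA S L) {s : K} (hs : s ≠ 0)
    (hs3 : s ^ 3 ≠ 1) : HC S L := by
  intro i j l hij hjl hil t u
  -- d(t,u) := c(t,u) c(tu,1)⁻¹ is central, biadditive in t and invariant under t ↦ s³ t
  have hker : ∀ t u : K, c S L i j l t u * (c S L i j l (t * u) 1)⁻¹ ∈ Subgroup.center Γ := by
    intro t u
    apply L.hc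
    rw [MonoidHom.mem_ker, map_mul, map_inv, σ_c S L hij hjl hil, σ_c S L hij hjl hil, mul_one,
      mul_inv_cancel]
  obtain ⟨g', hg⟩ := L.surj (S.h i j s * S.h i l s)
  have hinv : ∀ t u : K, c S L i j l (s ^ 3 * t) u * (c S L i j l (s ^ 3 * t * u) 1)⁻¹
      = c S L i j l t u * (c S L i j l (t * u) 1)⁻¹ := by
    intro t u
    have e1 := c_conj_torus S L h3 hs hij hjl hil g' hg t u
    have e2 := c_conj_torus S L h3 hs hij hjl hil g' hg (t * u) 1
    rw [← mul_assoc] at e2
    rw [← e1, ← e2]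
    have hz := Subgroup.mem_center_iff.1 (hker t u) g'
    calc g' * c S L i j l t u * g'⁻¹ * (g' * c S L i j l (t * u) 1 * g'⁻¹)⁻¹
        = g' * (c S L i j l t u * (c S L i j l (t * u) 1)⁻¹) * g'⁻¹ := by group
      _ = c S L i j l t u * (c S L i j l (t * u) 1)⁻¹ := by rw [hz, mul_inv_cancel_right]
  have hadd : ∀ t t' u : K, c S L i j l (t + t') u * (c S L i j l ((t + t') * u) 1)⁻¹
      = c S L i j l t u * (c S L i j l (t * u) 1)⁻¹
        * (c S L i j l t' u * (c S L i j l (t' * u) 1)⁻¹) := by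
    intro t t' u
    rw [add_mul, c_add_left S L hA hij hjl hil, c_add_left S L hA hij hjl hil]
    have hz := Subgroup.mem_center_iff.1 (hker t' u)
    -- c(t,u) c(t',u) (c(tu,1) c(t'u,1))⁻¹ = c(t,u) [c(t',u) c(t'u,1)⁻¹] c(tu,1)⁻¹
    calc c S L i j l t u * c S L i j l t' u * (c S L i j l (t * u) 1 * c S L i j l (t' * u) 1)⁻¹
        = c S L i j l t u * ((c S L i j l t' u * (c S L i j l (t' * u) 1)⁻¹)
            * (c S L i j l (t * u) 1)⁻¹) := by group
      _ = c S L i j l t u * ((c S L i j l (t * u) 1)⁻¹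
            * (c S L i j l t' u * (c S L i j l (t' * u) 1)⁻¹)) := by rw [hz]
      _ = _ := by group
  have key := biadd_kill (fun t u => c S L i j l t u * (c S L i j l (t * u) 1)⁻¹) hadd (s ^ 3) hs3
    hinv t u
  exact mul_inv_eq_one.1 key

theorem hM_of_three (h3 : Fintype.card I = 3) : HM S L := by
  intro i j j' l hij hjl hij' hj'l hil t
  have hjj : j = j' := by
    by_contra hne
    have hsub : ({i, j, j', l} : Finset I) ⊆ Finset.univ := Finset.subset_univ _
    have h1 := Finset.card_le_card hsub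
    have h2 : ({i, j, j', l} : Finset I).card = 4 := by
      rw [Finset.card_insert_of_notMem, Finset.card_insert_of_notMem, Finset.card_insert_of_notMem,
        Finset.card_singleton]
      · simpa using hj'l
      · simp only [Finset.mem_insert, Finset.mem_singleton, not_or]
        exact ⟨hne, hjl⟩
      · simp only [Finset.mem_insert, Finset.mem_singleton, not_or]
        exact ⟨hij, hij', hil⟩
    rw [Finset.card_univ, h3, h2] at h1
    omega
  subst hjj
  rfl

end Cfsg.Agent.Lib.Helper3.MSL
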