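import Mathlib
import Cfsg.Prelude.Def_KGroupFacts
import Cfsg.Agent.Lib.Helper6.StSLDefs
import Cfsg.Agent.Lib.Helper2.StSLW
import Cfsg.Agent.Lib.Helper1.StSLH1
import Cfsg.Agent.Lib.Helper8.StLiftA

set_option autoImplicit false

/-!
Farm MSL (statement S2086): STUBS. Steinberg generators of type `A` lift along central extensions.
The real files: `Lib/Helper3/MSL0.lean` (unit 0, namespace `Cfsg.Agent.Lib.Helper3.MSL`) and the
units of the other seats. Every `sorry` below is a unit of the farm.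
-/

namespace Cfsg.Agent.Lib.Helper3.MSLStub

open Cfsg.Agent.Lib.Helper6.StSL

universe u

variable {I : Type*} [DecidableEq I] [Fintype I] {K : Type*} [Field K] {G : Type*} [Group G]
  {Γ : Type*} [Group Γ]

/-! ## Unit 0 (helper3): central extensions, the commutator of lifts -/

/-- a central extension `σ : Γ → G` -/
structure CExt (G : Type*) [Group G] (Γ : Type*) [Group Γ] where
  σ : Γ →* G
  hc : σ.ker ≤ Subgroup.center Γ
  surj : Function.Surjective σ

namespace CExt

variable (L : CExt G Γ)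

/-- the commutator of (any) lifts of `a` and `b` -/
noncomputable def F (a b : G) : Γ :=
  Function.surjInv L.surj a * Function.surjInv L.surj b * (Function.surjInv L.surj a)⁻¹ *
    (Function.surjInv L.surj b)⁻¹

theorem F_eq {a b : G} {a' b' : Γ} (ha : L.σ a' = a) (hb : L.σ b' = b) :
    a' * b' * a'⁻¹ * b'⁻¹ = L.F a b := sorry

theorem σ_F (a b : G) : L.σ (L.F a b) = a * b * a⁻¹ * b⁻¹ := sorry

theorem F_mem_center {a b : G} (h : a * b = b * a) : L.F a b ∈ Subgroup.center Γ := sorry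

theorem F_symm (a b : G) : L.F b a = (L.F a b)⁻¹ := sorry

theorem F_one_left (b : G) : L.F 1 b = 1 := sorry

theorem F_one_right (a : G) : L.F a 1 = 1 := sorry

/-- conjugation by `g'` -/
theorem F_conj (g' : Γ) (a b : G) :
    L.F (L.σ g' * a * (L.σ g')⁻¹) (L.σ g' * b * (L.σ g')⁻¹) = g' * L.F a b * g'⁻¹ := sorry

/-- on commuting pairs `F` is invariant under conjugation -/
theorem F_conj_comm {a b : G} (h : a * b = b * a) (g : G) :
    L.F (g * a * g⁻¹) (g * b * g⁻¹) = L.F a b := sorry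

/-- general product rule on the left: `[a a', b] = a [a', b] a⁻¹ [a, b]` -/
theorem F_mul_left' (x : Γ) (a a' b : G) (hx : L.σ x = a) :
    L.F (a * a') b = x * L.F a' b * x⁻¹ * L.F a b := sorry

/-- general product rule on the right: `[a, b b'] = [a, b] b [a, b'] b⁻¹` -/
theorem F_mul_right' (y : Γ) (a b b' : G) (hy : L.σ y = b) :
    L.F a (b * b') = L.F a b * (y * L.F a b' * y⁻¹) := sorry

theorem F_mul_left {a a' b : G} (h : a' * b = b * a') : L.F (a * a') b = L.F a b * L.F a' b := sorry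

theorem F_mul_right {a b b' : G} (h : a * b' = b' * a) : L.F a (b * b') = L.F a b * L.F a b' := sorry

/-- all lifts of `a` and `b` commute -/
def LC (a b : G) : Prop := L.F a b = 1

theorem LC_iff (a b : G) :
    L.LC a b ↔ ∀ a' b' : Γ, L.σ a' = a → L.σ b' = b → a' * b' = b' * a' := sorry

theorem LC.symm {a b : G} (h : L.LC a b) : L.LC b a := sorry

/-- if `a` commutes with `b` and `c` in `G` then every lift of `a` commutes with every lift of `[b, c]` -/
theorem LC_comm {a b c : G} (hab : a * b = b * a) (hac : a * c = c * a) :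
    L.LC a (b * c * b⁻¹ * c⁻¹) := sorry

/-- lifts of `a` commute with `L.F b c` -/
theorem F_commute_of_LC {a b c : G} (h : L.LC a (b * c * b⁻¹ * c⁻¹)) (a' : Γ) (ha : L.σ a' = a) :
    a' * L.F b c = L.F b c * a' := sorry

end CExt

variable (S : StA I K G) (L : CExt G Γ)

/-- Step A: every pair of commuting root elements lifts to commuting elements -/
def HA : Prop := ∀ i j k l : I, i ≠ j → k ≠ l → i ≠ l → j ≠ k → ∀ t u : K,
  L.LC (S.x i j t) (S.x k l u)

/-- `c_{ijl}(t, u) = [lift of x_ij(t), lift of x_jl(u)]`, a lift of `x_il(t u)` -/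
noncomputable def c (i j l : I) (t u : K) : Γ := L.F (S.x i j t) (S.x j l u)

theorem σ_c {i j l : I} (hij : i ≠ j) (hjl : j ≠ l) (hil : i ≠ l) (t u : K) :
    L.σ (c S L i j l t u) = S.x i l (t * u) := sorry

/-- biadditivity of `c` (unit 0) -/
theorem c_add_left (hA : HA S L) {i j l : I} (hij : i ≠ j) (hjl : j ≠ l) (hil : i ≠ l)
    (t t' u : K) : c S L i j l (t + t') u = c S L i j l t u * c S L i j l t' u := sorry

theorem c_add_right (hA : HA S L) {i j l : I} (hij : i ≠ j) (hjl : j ≠ l) (hil : i ≠ l)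
    (t u u' : K) : c S L i j l t (u + u') = c S L i j l t u * c S L i j l t u' := sorry

/-- Step C: `c_{ijl}(t, u)` depends only on `t u` -/
def HC : Prop := ∀ i j l : I, i ≠ j → j ≠ l → i ≠ l → ∀ t u : K,
  c S L i j l t u = c S L i j l (t * u) 1

/-- independence of the middle index -/
def HM : Prop := ∀ i j j' l : I, i ≠ j → j ≠ l → i ≠ j' → j' ≠ l → i ≠ l → ∀ t : K,
  c S L i j l t 1 = c S L i j' l t 1

/-
SKETCHES (all verified on paper by helper3; [a,b] means a * b * a⁻¹ * b⁻¹, as in `StA.comm_eq`).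

A1. `LC_comm` with x_kl(u) = [x_km(u), x_ml(1)] (`S.comm_eq k m l`), `m` a further index
    (`Helper2.StSL.exists_third`, or `Finset.exists_mem_notMem_of_card_lt_card` for 4 / 5 indices):
    x_ij(t) commutes in G with x_km(u) and x_ml(1) by `S.comm_ne` in each of the four cases
    (same: k = i, l = j, m ∉ {i,j}; row: k = i, m ∉ {i,j,l}; col: l = j, m ∉ {i,j,k}; four: m fifth).
A2. `F_torus` = `F_conj_comm` with g = S.h p q s + `Helper1.StSL.h_conj` twice. Then
    f(t,u) := L.F (S.x i j t) (S.x k l u) is biadditive (`F_mul_left`, `F_mul_right`, `S.x_add`,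
    `S.comm_ne`), and:
    row (i,j),(i,l): (p,q) = (j,l) gives f(s⁻¹t, su) = f(t,u), (p,q) = (i,j) gives f(s²t, su) = f(t,u);
      hence f(s³t, u) = f(t,u), so f((s³-1)t, u) = 1, so f = 1 (cf. `Helper8.StLift.biadd_trivial_of_right`).
    col (i,j),(k,j): (p,q) = (i,k) gives f(st, s⁻¹u) = f(t,u), (p,q) = (i,j) gives f(s²t, su) = f(t,u);
      hence again f(s³t, u) = f(t,u).
    four (i,j),(k,l): (p,q) = (i,j) gives f(s²t, u) = f(t,u).
A4. w := S.w i k 1 * S.w j l 1. By `Helper2.StSL.w_conj` (twice each): w x_ij(v) w⁻¹ = x_kl(v) and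
    w x_kl(v) w⁻¹ = x_ij(v) (coefficients: x_ij(v) -> x_il(-v) -> x_kl(v); x_kl(v) -> x_kj(v) -> x_ij(v)).
    `F_conj_comm` + `F_symm`: f(v,v') = f(v',v)⁻¹, so f(1,1)² = 1; f(1,1)³ = f(1+1+1, 1) = f(0,1) = 1;
    so f(1,1) = 1 and f(±1,±1) = 1, f(0,_) = f(_,0) = 1 by biadditivity.
C4. hall_witt: u, v, w lifts of x_hi(1), x_ij(a), x_jk(b); P := [u,v] (lift of x_hj(a)), Q := [v,w] (lift of
    x_ik(ab)), T := [P,w] = c h j k a b, T' := [u,Q] = c h i k 1 (ab) (`F_eq`). By HA: uw = wu, PQ = QP,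
    TQ = QT. Then u(vw) = uQwv = T'Quwv = T'Qwuv = T'QwPvu and (uv)w = Pvuw = Pvwu = PQwvu = QPwvu = QTwPvu,
    so T'Q = QT = TQ and T' = T.
    hC_of_four: m a fourth index: c i j l t u = c i m l 1 (tu) = c i j l (tu) 1 (hall_witt twice).
    hM_of_four: j ≠ j': c i j l t 1 = c i j' l 1 t (hall_witt) = c i j' l t 1 (hC for i j' l).
C3. d(t,u) := c i j l t u * (c i j l (t*u) 1)⁻¹ lies in the kernel (`σ_c`), hence is central; it is biadditive
    (`c_add_left`, `c_add_right`); g := S.h i j s * S.h i l s conjugates x_ij(t) to x_ij(s³t) and fixes x_jl(u)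
    (`h_conj`), so by `F_conj` with a lift g' of g: g' c(t,u) g'⁻¹ = c(s³t,u), g' c(tu,1) g'⁻¹ = c(s³tu,1) and
    d(s³t,u) = g' d(t,u) g'⁻¹ = d(t,u). Hence d = 1.
    hM_of_three: j, j' ∉ {i,l} and card I = 3 force j = j'.
B.  y i l t := c i m l t 1 with m = a chosen third index (i ≠ l), := 1 for i = l. x_add = `c_add_left`; comm_ne = HA
    (`LC_iff`, the y are lifts by `σ_c`); comm_eq: [y_ij(t), y_jl(u)] = c i j l t u (`F_eq`) = c i j l (tu) 1 (HC)
    = c i m l (tu) 1 (HM). π := S.π.comp L.σ.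
F.  G = SL_n(F) with the tautological StA (x i j t = the transvection, π = id; relations as in
    `Helper4.StSL.h4_f_rels`); L := ⟨σ, hc, hsurj⟩; HA / HC / HM from the units according to n and q:
      n ≥ 5: A1 + C4;  n = 4: A1 (row, col) + A2 four (q ≥ 4: ∃ s ≠ 0, s² ≠ 1) or A4 (q = 3) + C4;
      n = 3: A2 row/col (q ∉ {2,4}: ∃ s ≠ 0, s³ ≠ 1; take a generator of the cyclic unit group) + four is vacuous
             + C3.
    S' from B; `PresentedGroup.toGroup` gives St_n -> Γ; compose with the inverse of the isomorphism of S2401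
    (`Cfsg.Agent.S2401.result`, or `Helper4.StSL.main_of` as in S2401.lean); σ ∘ τ = id on the generators.
    sl_perfect = `Cfsg.Agent.Lib.Helper4.SLnGen.SL_commutator_eq_top`. sl_trivial_multiplier: the identity is a
    stem extension with trivial kernel; for a stem extension σ take τ; Γ = τ(SL) ker σ, so [Γ,Γ] ≤ τ(SL), and
    ker σ ≤ [Γ,Γ] meets τ(SL) trivially (cf. `Helper8.StSl.schur_of_ker`).
P.  sl_two_perfect = `Cfsg.Agent.Lib.Helper5.SL2Perfect.commutator_eq_top`; center_sl_equiv from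
    `Matrix.SpecialLinearGroup.center_equiv_rootsOfUnity` + cyclic of order gcd(n, q-1);
    psl_multiplier_of_sl from S3958 (`Cfsg.Agent.S3958.result`, helper7) applied to SL -> PSL = SL / centre;
    S2086.lean: n = 2 from S2117 (`Cfsg.Agent.S2117.result`), n ≥ 3 from sl_trivial_multiplier.
-/

/-! ## Unit A1: Step A by commutators (`LC_comm`), no torus -/

theorem ha_same (h3 : 3 ≤ Fintype.card I) {i j : I} (hij : i ≠ j) (t u : K) :
    L.LC (S.x i j t) (S.x i j u) := sorry

theorem ha_row (h4 : 4 ≤ Fintype.card I) {i j l : I} (hij : i ≠ j) (hil : i ≠ l) (hjl : j ≠ l)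
    (t u : K) : L.LC (S.x i j t) (S.x i l u) := sorry

theorem ha_col (h4 : 4 ≤ Fintype.card I) {i k j : I} (hij : i ≠ j) (hkj : k ≠ j) (hik : i ≠ k)
    (t u : K) : L.LC (S.x i j t) (S.x k j u) := sorry

theorem ha_four (h5 : 5 ≤ Fintype.card I) {i j k l : I} (hij : i ≠ j) (hkl : k ≠ l) (hik : i ≠ k)
    (hil : i ≠ l) (hjk : j ≠ k) (hjl : j ≠ l) (t u : K) : L.LC (S.x i j t) (S.x k l u) := sorry

/-- assembling Step A from its four cases -/
theorem hA_of_parts (h3 : 3 ≤ Fintype.card I)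
    (hrow : ∀ i j l : I, i ≠ j → i ≠ l → j ≠ l → ∀ t u : K, L.LC (S.x i j t) (S.x i l u))
    (hcol : ∀ i k j : I, i ≠ j → k ≠ j → i ≠ k → ∀ t u : K, L.LC (S.x i j t) (S.x k j u))
    (hfour : ∀ i j k l : I, i ≠ j → k ≠ l → i ≠ k → i ≠ l → j ≠ k → j ≠ l → ∀ t u : K,
      L.LC (S.x i j t) (S.x k l u)) : HA S L := sorry

/-! ## Unit A2: Step A by the torus (`h_conj`) -/

/-- torus invariance of `F` on commuting root elements -/
theorem F_torus (h3 : 3 ≤ Fintype.card I) {i j k l : I} (hij : i ≠ j) (hkl : k ≠ l) (hil : i ≠ l)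
    (hjk : j ≠ k) {p q : I} (hpq : p ≠ q) {s : K} (hs : s ≠ 0) (t u : K) :
    L.F (S.x i j (chi p q s i * (chi p q s j)⁻¹ * t)) (S.x k l (chi p q s k * (chi p q s l)⁻¹ * u))
      = L.F (S.x i j t) (S.x k l u) := sorry

theorem ha_row_torus (h3 : 3 ≤ Fintype.card I) {s : K} (hs : s ≠ 0) (hs3 : s ^ 3 ≠ 1) {i j l : I}
    (hij : i ≠ j) (hil : i ≠ l) (hjl : j ≠ l) (t u : K) : L.LC (S.x i j t) (S.x i l u) := sorry

theorem ha_col_torus (h3 : 3 ≤ Fintype.card I) {s : K} (hs : s ≠ 0) (hs3 : s ^ 3 ≠ 1) {i k j : I}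
    (hij : i ≠ j) (hkj : k ≠ j) (hik : i ≠ k) (t u : K) : L.LC (S.x i j t) (S.x k j u) := sorry

theorem ha_four_torus (h3 : 3 ≤ Fintype.card I) {s : K} (hs : s ≠ 0) (hs2 : s ^ 2 ≠ 1)
    {i j k l : I} (hij : i ≠ j) (hkl : k ≠ l) (hik : i ≠ k) (hil : i ≠ l) (hjk : j ≠ k)
    (hjl : j ≠ l) (t u : K) : L.LC (S.x i j t) (S.x k l u) := sorry

/-! ## Unit A4: Step A for four distinct indices over the field with three elements (`w_conj`) -/

theorem ha_four_swap (h3 : 3 ≤ Fintype.card I) (hK : ∀ t : K, t = 0 ∨ t = 1 ∨ t = -1)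
    (h3K : (3 : K) = 0) {i j k l : I} (hij : i ≠ j) (hkl : k ≠ l) (hik : i ≠ k) (hil : i ≠ l)
    (hjk : j ≠ k) (hjl : j ≠ l) (t u : K) : L.LC (S.x i j t) (S.x k l u) := sorry

/-! ## Unit C4: Step C for `4 ≤ card I` (Hall-Witt) -/

theorem hall_witt (hA : HA S L) {h i j k : I} (hhi : h ≠ i) (hhj : h ≠ j) (hhk : h ≠ k)
    (hij : i ≠ j) (hik : i ≠ k) (hjk : j ≠ k) (a b : K) :
    c S L h j k a b = c S L h i k 1 (a * b) := sorry

theorem hC_of_four (h4 : 4 ≤ Fintype.card I) (hA : HA S L) : HC S L := sorry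

theorem hM_of_four (h4 : 4 ≤ Fintype.card I) (hA : HA S L) : HM S L := sorry

/-! ## Unit C3: Step C by the torus (needed for `card I = 3`) -/

theorem hC_of_torus (h3 : 3 ≤ Fintype.card I) (hA : HA S L) {s : K} (hs : s ≠ 0)
    (hs3 : s ^ 3 ≠ 1) : HC S L := sorry

theorem hM_of_three (h3 : Fintype.card I = 3) : HM S L := sorry

/-! ## Unit B: the lifted Steinberg generators -/

theorem exists_stA (h3 : 3 ≤ Fintype.card I) (hA : HA S L) (hC : HC S L) (hM : HM S L) :
    ∃ S' : StA I K Γ, (∀ i j : I, i ≠ j → ∀ t : K, L.σ (S'.x i j t) = S.x i j t) ∧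
      S'.π = S.π.comp L.σ := sorry

/-! ## Unit F: the special linear group -/

/-- the central extensions of `SL_n(F)` split -/
theorem exists_section {F : Type u} [Field F] [Fintype F] (n : ℕ) (h3 : 3 ≤ n)
    (hexc : (n, Fintype.card F) ∉ ({(3, 2), (3, 4), (4, 2)} : Set (ℕ × ℕ)))
    (Γ : Type u) [Group Γ] (σ : Γ →* Matrix.SpecialLinearGroup (Fin n) F)
    (hsurj : Function.Surjective σ) (hc : σ.ker ≤ Subgroup.center Γ) :
    ∃ τ : Matrix.SpecialLinearGroup (Fin n) F →* Γ, σ.comp τ = MonoidHom.id _ := sorry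

theorem sl_perfect {F : Type u} [Field F] [Fintype F] (n : ℕ) (h3 : 3 ≤ n) :
    commutator (Matrix.SpecialLinearGroup (Fin n) F) = ⊤ := sorry

theorem sl_trivial_multiplier {F : Type u} [Field F] [Fintype F] (n : ℕ) (h3 : 3 ≤ n)
    (hexc : (n, Fintype.card F) ∉ ({(3, 2), (3, 4), (4, 2)} : Set (ℕ × ℕ))) :
    Cfsg.HasCyclicSchurMultiplier (Matrix.SpecialLinearGroup (Fin n) F) 1 := sorry

/-! ## Unit P: the projective special linear group (statement S2086) -/

theorem sl_two_perfect {F : Type u} [Field F] [Fintype F] (h4 : 4 ≤ Fintype.card F) :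
    commutator (Matrix.SpecialLinearGroup (Fin 2) F) = ⊤ := sorry

/-- the centre of `SL_n(q)` is cyclic of order `gcd(n, q - 1)` -/
theorem center_sl_equiv {F : Type u} [Field F] [Fintype F] (n : ℕ) (hn : 1 ≤ n) :
    Nonempty (Subgroup.center (Matrix.SpecialLinearGroup (Fin n) F) ≃*
      Multiplicative (ZMod (Nat.gcd n (Fintype.card F - 1)))) := sorry

/-- from the special to the projective special linear group -/
theorem psl_multiplier_of_sl {F : Type u} [Field F] [Fintype F] (n : ℕ) (hn : 2 ≤ n)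
    (hperf : commutator (Matrix.SpecialLinearGroup (Fin n) F) = ⊤)
    (hmult : Cfsg.HasCyclicSchurMultiplier (Matrix.SpecialLinearGroup (Fin n) F) 1) :
    Cfsg.HasCyclicSchurMultiplier (Matrix.ProjectiveSpecialLinearGroup (Fin n) F)
      (Nat.gcd n (Fintype.card F - 1)) := sorry

end Cfsg.Agent.Lib.Helper3.MSLStub
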