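import Mathlib
import Cfsg.Agent.Lib.Helper3.MSDefs
import Cfsg.Agent.Lib.Helper3.MSI7

set_option autoImplicit false
set_option maxHeartbeats 4000000
set_option linter.unusedVariables false
set_option linter.unusedSectionVars false
set_option linter.style.longLine false
set_option linter.style.haveILetI false

namespace Cfsg.Agent.Lib.Helper3.MS

universe u v

variable {p q : ℕ} {H : Type u} [Group H] {V : Type v} [AddCommGroup V] [DistribMulAction H V]

/-- **MS**: a `q'`-group acting faithfully on a finite abelian `q`-group with all orbits of `p`-power size is solvable. -/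
theorem MS_main {H : Type u} [Group H] [Finite H] {V : Type v} [AddCommGroup V] [Finite V]
    [DistribMulAction H V] (p q : ℕ) (hp : p.Prime) (hq : q.Prime) (hV : ∃ n, Nat.card V = q ^ n)
    (hcop : (Nat.card H).Coprime q) (hfaith : ∀ x : H, (∀ v : V, x • v = v) → x = 1)
    (horb : ∀ v : V, ∃ a, (MulAction.stabilizer H v).index = p ^ a) : Group.IsSolvable H := by
  have h : Hyp p q H V :=
    { hp := hp, hq := hq, finH := inferInstance, finV := inferInstance, cardV := hV, cop := hcop,
      faithful := hfaith, orb := horb }
  have hk := h3_kerSub_eq_bot h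
  have hs := solvable_of_HypNF p q _ H V (h3_toHypNF h) rfl
  exact h3_solvable_of_quot_bot _ hk hs

end Cfsg.Agent.Lib.Helper3.MS
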