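import Mathlib
import Cfsg.Prelude
import Cfsg.Agent.Lib.Helper5.TvGL
import Cfsg.Agent.Lib.Helper5.SLNormalized
import Cfsg.Agent.Lib.Helper5.SLSubspaceMax
import Cfsg.Agent.Lib.Helper5.LinDecompForm
import Cfsg.Agent.Lib.Helper5.TensorSub
import Cfsg.Agent.S0248
import Cfsg.Agent.S0249

set_option autoImplicit false
set_option maxHeartbeats 4000000
set_option maxRecDepth 100000
set_option linter.unusedVariables false
set_option linter.unusedSectionVars false
set_option linter.style.haveILetI false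
set_option linter.deprecated false

/-! Properness of the members of the geometric classes in the special linear group, and the
maximality trick. -/

namespace Cfsg.Agent.Lib.Helper3.MaxC

open Matrix Cfsg Cfsg.Geo
open Cfsg.Agent.Lib.Helper5.TvGL

section trick
variable {G : Type*} [Group G]

theorem eq_inf_of_le {S H X : Subgroup G} (hH : IsMaximalIn S H) (hle : H ≤ X) (hX : ¬ S ≤ X) :
    H = X ⊓ S := by
  rcases hH.2 (X ⊓ S) (le_inf hle hH.1.le) inf_le_right with h | h
  · exact h.symm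
  · exact absurd (inf_eq_right.1 h) hX

theorem false_of_between {S H X : Subgroup G} (hH : IsMaximalIn S H) (hle : H ≤ X)
    (h : ∃ K : Subgroup G, X ⊓ S < K ∧ K < S) : False := by
  obtain ⟨K, h1, h2⟩ := h
  have hHX : H ≤ X ⊓ S := le_inf hle hH.1.le
  rcases hH.2 K (hHX.trans h1.le) h2.le with h | h
  · rw [h] at h1
    exact absurd hHX (not_le_of_gt h1)
  · exact h2.ne h

end trick

variable {F : Type*} [Field F] {n : ℕ}

theorem mem_SL_iff (g : GL (Fin n) F) :
    g ∈ specialLinear (Fin n) F ↔ (g : Matrix (Fin n) (Fin n) F).det = 1 :=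
  Cfsg.Agent.Lib.Helper5.SLSubspaceMax.mem_specialLinear_iff g

theorem exists_tv' (φ v : Fin n → F) (h : φ ⬝ᵥ v = 0) :
    ∃ g : GL (Fin n) F, g ∈ specialLinear (Fin n) F ∧
      ∀ x, (g : Matrix (Fin n) (Fin n) F) *ᵥ x = x + (φ ⬝ᵥ x) • v := by
  have hdet := det_tvMat φ v h
  have hunit : IsUnit (tvMat φ v).det := by rw [hdet]; exact isUnit_one
  refine ⟨Matrix.GeneralLinearGroup.mk'' (tvMat φ v) hunit, ?_, ?_⟩
  · rw [mem_SL_iff]
    exact hdet
  · intro x
    show tvMat φ v *ᵥ x = _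
    rw [tvMat_mulVec]

theorem not_le_stab (W : Submodule F (Fin n → F)) (h0 : W ≠ ⊥) (h1 : W ≠ ⊤) :
    ¬ specialLinear (Fin n) F ≤ subspaceStabilizer W := by
  intro hle
  obtain ⟨g, hg, hg'⟩ := exists_sl_not_stab W h0 h1
  exact hg' (hle hg)

theorem exists_not_mem_span_pair (hn : 3 ≤ n) (v w : Fin n → F) :
    ∃ z : Fin n → F, z ∉ Submodule.span F ({v, w} : Set (Fin n → F)) := by
  classical
  by_contra hcon
  push Not at hcon
  have htop : Submodule.span F ({v, w} : Set (Fin n → F)) = ⊤ := eq_top_iff.2 fun x _ => hcon x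
  have h1 : Module.finrank F (Submodule.span F
      ((({v, w} : Finset (Fin n → F)) : Set (Fin n → F)))) ≤ 2 :=
    (finrank_span_finset_le_card _).trans Finset.card_le_two
  rw [Finset.coe_pair, htop, finrank_top, Module.finrank_fin_fun] at h1
  omega

section decomp
open Cfsg.Agent.Lib.Helper5.LinDecompForm

theorem not_le_decomp {t m : ℕ} {D : Fin t → Submodule F (Fin n → F)}
    (hD : IsMDecomposition m D) :
    ¬ specialLinear (Fin n) F ≤ decompositionStabilizer D := by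
  classical
  intro hle
  have ht := hD.two_le
  have hm := hD.pos
  set a0 : Fin t × Fin m := (⟨0, by omega⟩, ⟨0, hm⟩) with ha0
  set a1 : Fin t × Fin m := (⟨1, by omega⟩, ⟨0, hm⟩) with ha1
  have hne : a0.1 ≠ a1.1 := by simp [ha0, ha1, Fin.ext_iff]
  have hne' : a0 ≠ a1 := fun h => hne (congrArg Prod.fst h)
  have hxS : bas hD a0 ∉ Submodule.span F {bas hD a1} := by
    intro hmem
    obtain ⟨c, hc⟩ := Submodule.mem_span_singleton.1 hmem
    have h1 := congrArg (fun y => (bas hD).repr y a0) hc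
    simp only [map_smul, Finsupp.smul_apply, Module.Basis.repr_self, smul_eq_mul,
      Finsupp.single_apply, if_neg hne'.symm, if_pos rfl, mul_zero] at h1
    exact zero_ne_one h1
  obtain ⟨g, hgSL, -, hg⟩ := exists_tv (Submodule.span F {bas hD a1}) (bas hD a0) (bas hD a1) hxS
    (Submodule.mem_span_singleton_self _)
  refine not_stab_of_image hD g (bas_mem hD a0) (a := a0) (a' := a1) hne ?_ ?_ (hle hgSL)
  · rw [hg]
    simp only [map_add, Finsupp.add_apply, Module.Basis.repr_self, Finsupp.single_apply,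
      if_neg hne'.symm, if_pos rfl, add_zero]
    exact one_ne_zero
  · rw [hg]
    simp only [map_add, Finsupp.add_apply, Module.Basis.repr_self, Finsupp.single_apply,
      if_neg hne', if_pos rfl, zero_add]
    exact one_ne_zero

end decomp

theorem not_le_fieldNormalizer (hn : 3 ≤ n) {r : ℕ} (hr : 2 ≤ r)
    {K : Subalgebra F (Matrix (Fin n) (Fin n) F)} (hK : IsFieldSubalgebra r K) :
    ¬ specialLinear (Fin n) F ≤ subalgebraNormalizer K := by
  intro hle
  obtain ⟨k, hkK, hk⟩ : ∃ k ∈ K, ¬ ∃ c : F, k = c • (1 : Matrix (Fin n) (Fin n) F) := by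
    by_contra hcon
    push Not at hcon
    have h1 : Module.finrank F K ≤ 1 := by
      apply finrank_le_one (⟨1, K.one_mem⟩ : K)
      intro w
      obtain ⟨c, hc⟩ := hcon w.1 w.2
      exact ⟨c, Subtype.ext (by simpa using hc.symm)⟩
    rw [hK.finrank_eq] at h1
    omega
  obtain ⟨v, hv⟩ : ∃ v : Fin n → F, k *ᵥ v ∉ Submodule.span F ({v} : Set (Fin n → F)) := by
    by_contra hcon
    push Not at hcon
    exact hk (Cfsg.Agent.Lib.Helper5.SLNormalized.scalar_of_forall_mem_span (by omega) k hcon)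
  have hv0 : v ≠ 0 := by
    rintro rfl
    apply hv
    rw [Matrix.mulVec_zero]; exact Submodule.zero_mem _
  obtain ⟨z, hz⟩ := exists_not_mem_span_pair hn v (k *ᵥ v)
  have hvS : v ∈ Submodule.span F ({v, k *ᵥ v} : Set (Fin n → F)) :=
    Submodule.subset_span (by simp)
  have hwS : k *ᵥ v ∈ Submodule.span F ({v, k *ᵥ v} : Set (Fin n → F)) :=
    Submodule.subset_span (by simp)
  obtain ⟨φ, hφ1, hφ2⟩ := exists_dual _ z hz
  obtain ⟨g, hgSL, hg⟩ := exists_tv' φ v (hφ1 v hvS)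
  have hgN := hle hgSL
  have hk' : (g : Matrix (Fin n) (Fin n) F) * k * ((g⁻¹ : GL (Fin n) F) : Matrix (Fin n) (Fin n) F) ∈ K :=
    (hgN k).1 hkK
  have hgv : (g : Matrix (Fin n) (Fin n) F) *ᵥ v = v := by
    rw [hg, hφ1 v hvS, zero_smul, add_zero]
  have hgw : (g : Matrix (Fin n) (Fin n) F) *ᵥ (k *ᵥ v) = k *ᵥ v := by
    rw [hg, hφ1 _ hwS, zero_smul, add_zero]
  have hginv : ∀ x, ((g⁻¹ : GL (Fin n) F) : Matrix (Fin n) (Fin n) F) *ᵥ
      ((g : Matrix (Fin n) (Fin n) F) *ᵥ x) = x := by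
    intro x
    rw [Matrix.mulVec_mulVec, ← Units.val_mul, inv_mul_cancel, Units.val_one, Matrix.one_mulVec]
  have hginvv : ((g⁻¹ : GL (Fin n) F) : Matrix (Fin n) (Fin n) F) *ᵥ v = v := by
    conv_lhs => rw [← hgv]
    exact hginv v
  have h1 : ((g : Matrix (Fin n) (Fin n) F) * k *
      ((g⁻¹ : GL (Fin n) F) : Matrix (Fin n) (Fin n) F) - k) *ᵥ v = 0 := by
    rw [Matrix.sub_mulVec, ← Matrix.mulVec_mulVec, ← Matrix.mulVec_mulVec, hginvv, hgw, sub_self]
  have hzero : ∀ A ∈ K, ∀ x : Fin n → F, x ≠ 0 → A *ᵥ x = 0 → A = 0 := by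
    intro A hA x hx hAx
    by_contra hA0
    obtain ⟨B, hB, hAB⟩ := hK.inv A hA hA0
    have hBA : B * A = 1 := by rw [← hK.comm A hA B hB, hAB]
    apply hx
    calc x = (B * A) *ᵥ x := by rw [hBA, Matrix.one_mulVec]
      _ = 0 := by rw [← Matrix.mulVec_mulVec, hAx, Matrix.mulVec_zero]
  have hkk : (g : Matrix (Fin n) (Fin n) F) * k *
      ((g⁻¹ : GL (Fin n) F) : Matrix (Fin n) (Fin n) F) = k :=
    sub_eq_zero.1 (hzero _ (K.sub_mem hk' hkK) v hv0 h1)
  have hcomm : (g : Matrix (Fin n) (Fin n) F) * k = k * (g : Matrix (Fin n) (Fin n) F) := by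
    calc (g : Matrix (Fin n) (Fin n) F) * k
        = (g : Matrix (Fin n) (Fin n) F) * k *
          (((g⁻¹ : GL (Fin n) F) : Matrix (Fin n) (Fin n) F) * (g : Matrix (Fin n) (Fin n) F)) := by
          rw [← Units.val_mul, inv_mul_cancel, Units.val_one, mul_one]
      _ = (g : Matrix (Fin n) (Fin n) F) * k *
          ((g⁻¹ : GL (Fin n) F) : Matrix (Fin n) (Fin n) F) * (g : Matrix (Fin n) (Fin n) F) := by
          rw [mul_assoc, mul_assoc, mul_assoc]
      _ = k * (g : Matrix (Fin n) (Fin n) F) := by rw [hkk]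
  have h2 : (g : Matrix (Fin n) (Fin n) F) *ᵥ (k *ᵥ z) = k *ᵥ z + k *ᵥ v := by
    rw [Matrix.mulVec_mulVec, hcomm, ← Matrix.mulVec_mulVec, hg z, hφ2, one_smul, Matrix.mulVec_add]
  rw [hg (k *ᵥ z)] at h2
  have h3 : k *ᵥ v = (φ ⬝ᵥ (k *ᵥ z)) • v := (add_left_cancel h2).symm
  apply hv
  rw [h3]
  exact Submodule.smul_mem _ _ (Submodule.mem_span_singleton_self v)

end Cfsg.Agent.Lib.Helper3.MaxC
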