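import Mathlib
import Cfsg.Prelude

set_option autoImplicit false
set_option maxHeartbeats 4000000
set_option maxRecDepth 100000
set_option linter.unusedVariables false
set_option linter.unusedSectionVars false
set_option linter.style.haveILetI false
set_option linter.deprecated false

/-! The field with four elements and the companion matrix of `x^3 + x + 1`: the computations behind
the fact that the normaliser of a cubic extension field in `SL_3(4)` lies in a subfield group. -/

namespace Cfsg.Agent.Lib.Helper3.MaxC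

open Matrix

section four
variable {F : Type*} [Field F] [Fintype F] (hq : Fintype.card F = 4)

include hq in
theorem two_eq_zero_of_card_four : (2 : F) = 0 := by
  have hc0 : (Fintype.card F : F) = 0 := Nat.cast_card_eq_zero F
  have h4 : (4 : F) = 0 := by rw [hq] at hc0; exact_mod_cast hc0
  have : (2 : F) * 2 = 0 := by linear_combination h4
  exact mul_self_eq_zero.mp this

include hq in
theorem pow_four_eq (x : F) : x ^ 4 = x := by
  have := FiniteField.pow_card x
  rwa [hq] at this

include hq in
theorem cube_eq_one_of_ne {x : F} (hx : x ≠ 0) : x ^ 3 = 1 := by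
  have := FiniteField.pow_card_sub_one_eq_one x hx
  rw [hq] at this
  exact this

include hq in
theorem tri_four (x : F) : x = 0 ∨ x = 1 ∨ x ^ 2 + x + 1 = 0 := by
  have h : x * ((x - 1) * (x ^ 2 + x + 1)) = 0 := by linear_combination pow_four_eq hq x
  rcases mul_eq_zero.mp h with h | h
  · exact Or.inl h
  · rcases mul_eq_zero.mp h with h | h
    · exact Or.inr (Or.inl (by linear_combination h))
    · exact Or.inr (Or.inr h)

include hq in
theorem no_root_four (x : F) : x ^ 3 + x + 1 ≠ 0 := by
  have h2 := two_eq_zero_of_card_four hq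
  intro h
  rcases tri_four hq x with rfl | rfl | hx
  · simp at h
  · have : (1 : F) = 0 := by linear_combination h - h2
    exact one_ne_zero this
  · have hx0 : x = 0 := by linear_combination h - x * hx + hx - h2
    rw [hx0] at hx
    simp at hx

include hq in
theorem f4_claim (a b c : F)
    (hN : a ^ 3 + b ^ 3 + c ^ 3 + a * b ^ 2 + a * c ^ 2 + b * c ^ 2 + a * b * c = 1) :
    ∃ s : F, s ≠ 0 ∧ (a = 0 ∨ a = s) ∧ (b = 0 ∨ b = s) ∧ (c = 0 ∨ c = s) := by
  have h2 := two_eq_zero_of_card_four hq
  have key : ∀ u v : F, u ≠ 0 → v ≠ 0 → u * v ^ 2 = 1 → u = v := by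
    intro u v hu hv h1
    have hv3 := cube_eq_one_of_ne hq hv
    calc u = u * v ^ 3 := by rw [hv3, mul_one]
      _ = (u * v ^ 2) * v := by ring
      _ = v := by rw [h1, one_mul]
  by_cases ha : a = 0
  · subst ha
    by_cases hb : b = 0
    · subst hb
      by_cases hc : c = 0
      · subst hc
        exfalso
        simp at hN
      · exact ⟨c, hc, Or.inl rfl, Or.inl rfl, Or.inr rfl⟩
    · by_cases hc : c = 0
      · subst hc
        exact ⟨b, hb, Or.inl rfl, Or.inr rfl, Or.inl rfl⟩
      · have hb3 := cube_eq_one_of_ne hq hb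
        have hc3 := cube_eq_one_of_ne hq hc
        have h1 : b * c ^ 2 = 1 := by linear_combination hN - hb3 - hc3 - h2
        exact ⟨c, hc, Or.inl rfl, Or.inr (key b c hb hc h1), Or.inr rfl⟩
  · have ha3 := cube_eq_one_of_ne hq ha
    by_cases hb : b = 0
    · subst hb
      by_cases hc : c = 0
      · subst hc
        exact ⟨a, ha, Or.inr rfl, Or.inl rfl, Or.inl rfl⟩
      · have hc3 := cube_eq_one_of_ne hq hc
        have h1 : a * c ^ 2 = 1 := by linear_combination hN - ha3 - hc3 - h2
        exact ⟨c, hc, Or.inr (key a c ha hc h1), Or.inl rfl, Or.inr rfl⟩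
    · have hb3 := cube_eq_one_of_ne hq hb
      by_cases hc : c = 0
      · subst hc
        have h1 : a * b ^ 2 = 1 := by linear_combination hN - ha3 - hb3 - h2
        exact ⟨b, hb, Or.inr (key a b ha hb h1), Or.inr rfl, Or.inl rfl⟩
      · have hc3 := cube_eq_one_of_ne hq hc
        have hS : a * b ^ 2 + a * c ^ 2 + b * c ^ 2 + a * b * c = 0 := by
          linear_combination hN - ha3 - hb3 - hc3 - h2
        have e1 : a * c ^ 2 = (a * b ^ 2) * (b * c ^ 2) := by
          linear_combination (-(a * c ^ 2)) * hb3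
        have e2 : a * b * c = (a * b ^ 2) * (b * c ^ 2) ^ 2 := by
          linear_combination (-(a * b * c ^ 4)) * hb3 - (a * b) * c * hc3
        have hS' : a * b ^ 2 + (a * b ^ 2) * (b * c ^ 2) + b * c ^ 2 +
            (a * b ^ 2) * (b * c ^ 2) ^ 2 = 0 := by
          rw [← e1, ← e2]
          linear_combination hS
        rcases tri_four hq (b * c ^ 2) with h0 | h1 | hy
        · exact absurd h0 (mul_ne_zero hb (pow_ne_zero 2 hc))
        · rw [h1] at hS'
          have hx1 : a * b ^ 2 = 1 := by linear_combination hS' - (a * b ^ 2) * h2 - h2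
          have hab := key a b ha hb hx1
          have hbc := key b c hb hc h1
          exact ⟨c, hc, Or.inr (hab.trans hbc), Or.inr hbc, Or.inr rfl⟩
        · have hy0 : b * c ^ 2 = 0 := by linear_combination hS' - (a * b ^ 2) * hy
          exact absurd hy0 (mul_ne_zero hb (pow_ne_zero 2 hc))

end four

section concrete
variable {F : Type*} [Field F]

/-- the companion matrix of `x^3 + x + 1` -/
def Cm : Matrix (Fin 3) (Fin 3) F := !![0, 0, 1; 1, 0, 1; 0, 1, 0]

/-- the Frobenius map of the field with eight elements in the power basis -/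
def Phi : Matrix (Fin 3) (Fin 3) F := !![1, 0, 0; 0, 0, 1; 0, 1, 1]

/-- the square of the Frobenius map -/
def Phi2 : Matrix (Fin 3) (Fin 3) F := !![1, 0, 0; 0, 1, 1; 0, 1, 0]

/-- multiplication by `a + b θ + c θ^2` in the power basis -/
def Mw (a b c : F) : Matrix (Fin 3) (Fin 3) F := !![a, c, b; b, a + c, b + c; c, b, a + c]

variable (h2 : (2 : F) = 0)

include h2 in
theorem Phi_mul_Phi2 : (Phi : Matrix (Fin 3) (Fin 3) F) * Phi2 = 1 := by
  ext i j
  fin_cases i <;> fin_cases j <;>
    simp [Phi, Phi2, Matrix.mul_apply, Fin.sum_univ_three] <;> linear_combination h2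

include h2 in
theorem Phi2_mul_Phi : (Phi2 : Matrix (Fin 3) (Fin 3) F) * Phi = 1 := by
  ext i j
  fin_cases i <;> fin_cases j <;>
    simp [Phi, Phi2, Matrix.mul_apply, Fin.sum_univ_three] <;> linear_combination h2

include h2 in
theorem Phi2_conj : (Phi2 : Matrix (Fin 3) (Fin 3) F) * (Cm * Cm) = Cm * Phi2 := by
  ext i j
  fin_cases i <;> fin_cases j <;>
    simp [Phi2, Cm, Matrix.mul_apply, Fin.sum_univ_three] <;> linear_combination h2

include h2 in
theorem Phi_conj :
    (Phi : Matrix (Fin 3) (Fin 3) F) * ((Cm * Cm) * (Cm * Cm)) = Cm * Phi := by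
  ext i j
  fin_cases i <;> fin_cases j <;>
    simp [Phi, Cm, Matrix.mul_apply, Fin.sum_univ_three] <;> linear_combination h2

include h2 in
theorem det_Phi : (Phi : Matrix (Fin 3) (Fin 3) F).det = 1 := by
  rw [Matrix.det_fin_three]
  simp [Phi]
  linear_combination -h2

include h2 in
theorem det_Phi2 : (Phi2 : Matrix (Fin 3) (Fin 3) F).det = 1 := by
  rw [Matrix.det_fin_three]
  simp [Phi2]
  linear_combination -h2

theorem eq_Mw_of_commute (G : Matrix (Fin 3) (Fin 3) F) (h : G * Cm = Cm * G) :
    G = Mw (G 0 0) (G 1 0) (G 2 0) := by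
  have e := fun i j => congrFun (congrFun h i) j
  have e00 := e 0 0
  have e10 := e 1 0
  have e20 := e 2 0
  have e01 := e 0 1
  have e11 := e 1 1
  have e21 := e 2 1
  simp [Cm, Matrix.mul_apply, Fin.sum_univ_three] at e00 e10 e20 e01 e11 e21
  ext i j
  fin_cases i <;> fin_cases j <;> simp [Mw] <;> simp_all <;> ring

include h2 in
theorem det_Mw (a b c : F) :
    (Mw a b c).det = a ^ 3 + b ^ 3 + c ^ 3 + a * b ^ 2 + a * c ^ 2 + b * c ^ 2 + a * b * c := by
  rw [Matrix.det_fin_three]
  simp [Mw]
  linear_combination (a ^ 2 * c - a * b ^ 2 - 2 * a * b * c - b * c ^ 2) * h2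

theorem Mw_smul (s a b c : F) : Mw (s * a) (s * b) (s * c) = s • Mw a b c := by
  ext i j
  fin_cases i <;> fin_cases j <;> simp [Mw] <;> ring

end concrete

end Cfsg.Agent.Lib.Helper3.MaxC
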