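import Mathlib
import Cfsg.Prelude
import Cfsg.Agent.Lib.Helper3.MaxC1
import Cfsg.Agent.Lib.Helper3.MaxC10
import Cfsg.Agent.Lib.Helper2.SsfA
import Cfsg.Agent.Lib.Helper2.SsfH

set_option autoImplicit false
set_option maxHeartbeats 4000000
set_option maxRecDepth 100000
set_option linter.unusedVariables false
set_option linter.unusedSectionVars false
set_option linter.style.haveILetI false
set_option linter.deprecated false

/-! Over the field with four elements the normaliser of a cubic extension field in `SL_3` lies in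
a subfield group. -/

namespace Cfsg.Agent.Lib.Helper3.MaxC

open Matrix Cfsg Cfsg.Geo Module
open Cfsg.Agent.Lib.Helper2.Ssf

section sub2
variable {F : Type*} [Field F]

/-- the subfield with two elements in characteristic two -/
def sub2 (h2 : (2 : F) = 0) : Subfield F where
  carrier := {a | a ^ 2 = a}
  mul_mem' := fun {a b} (ha : a ^ 2 = a) (hb : b ^ 2 = b) => by
    show (a * b) ^ 2 = a * b
    rw [mul_pow, ha, hb]
  one_mem' := one_pow 2
  add_mem' := fun {a b} (ha : a ^ 2 = a) (hb : b ^ 2 = b) => by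
    show (a + b) ^ 2 = a + b
    linear_combination ha + hb + a * b * h2
  zero_mem' := by
    show (0 : F) ^ 2 = 0
    ring
  neg_mem' := fun {a} (ha : a ^ 2 = a) => by
    show (-a) ^ 2 = -a
    linear_combination ha + a * h2
  inv_mem' := fun a (ha : a ^ 2 = a) => by
    show (a⁻¹) ^ 2 = a⁻¹
    rw [inv_pow, ha]

theorem mem_sub2 (h2 : (2 : F) = 0) (a : F) : a ∈ sub2 h2 ↔ a = 0 ∨ a = 1 := by
  show a ^ 2 = a ↔ _
  constructor
  · intro h
    have h1 : a * (a - 1) = 0 := by linear_combination h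
    rcases mul_eq_zero.mp h1 with h | h
    · exact Or.inl h
    · exact Or.inr (by linear_combination h)
  · rintro (rfl | rfl) <;> simp

theorem card_sub2 (h2 : (2 : F) = 0) : Nat.card (sub2 h2) = 2 := by
  rw [Nat.card_eq_two_iff]
  refine ⟨⟨0, (sub2 h2).zero_mem⟩, ⟨1, (sub2 h2).one_mem⟩, ?_, ?_⟩
  · intro h
    have := congrArg Subtype.val h
    exact zero_ne_one this
  · ext x
    simp only [Set.mem_insert_iff, Set.mem_singleton_iff, Set.mem_univ, iff_true]
    rcases (mem_sub2 h2 x.1).1 x.2 with h | h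
    · left; exact Subtype.ext h
    · right; exact Subtype.ext h

theorem isRat_Phi (h2 : (2 : F) = 0) : IsRatM (sub2 h2) (Phi : Matrix (Fin 3) (Fin 3) F) := by
  intro i j
  rw [mem_sub2]
  fin_cases i <;> fin_cases j <;> simp [Phi]

theorem isRat_Phi2 (h2 : (2 : F) = 0) : IsRatM (sub2 h2) (Phi2 : Matrix (Fin 3) (Fin 3) F) := by
  intro i j
  rw [mem_sub2]
  fin_cases i <;> fin_cases j <;> simp [Phi2]

theorem isRat_Mw (F₀ : Subfield F) {a b c : F} (ha : a ∈ F₀) (hb : b ∈ F₀) (hc : c ∈ F₀) :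
    IsRatM F₀ (Mw a b c) := by
  intro i j
  fin_cases i <;> fin_cases j <;> simp [Mw] <;>
    first | assumption | exact F₀.add_mem ha hc | exact F₀.add_mem hb hc

end sub2

section aux
variable {F : Type*} [Field F] [Fintype F] (hq : Fintype.card F = 4)

include hq in
/-- a root of `x^3 + x + 1` in an extension of the field with four elements satisfies no
quadratic relation -/
theorem no_quad_aux {L : Type*} [Field L] [Algebra F L] (T : L) (hT : T ^ 3 = T + 1)
    (a b c : F)
    (h : algebraMap F L a + algebraMap F L b * T + algebraMap F L c * T ^ 2 = 0) :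
    a = 0 ∧ b = 0 ∧ c = 0 := by
  have h2 := two_eq_zero_of_card_four hq
  have inj : Function.Injective (algebraMap F L) := (algebraMap F L).injective
  have h2L : (2 : L) = 0 := by
    rw [← map_ofNat (algebraMap F L) 2, h2, map_zero]
  -- `T` is not in the ground field
  have hroot : ∀ s : F, algebraMap F L s = T → False := by
    intro s hs
    have h1 : algebraMap F L (s ^ 3 + s + 1) = 0 := by
      rw [map_add, map_add, map_pow, map_one, hs]
      linear_combination hT + (T + 1) * h2L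
    have h3 : s ^ 3 + s + 1 = 0 := inj (by rw [h1, map_zero])
    exact no_root_four hq s h3
  have hc : c = 0 := by
    by_contra hc
    have hγδ : algebraMap F L (b ^ 2 - a * c - c ^ 2) * T = algebraMap F L (c ^ 2 - a * b) := by
      simp only [map_sub, map_mul, map_pow]
      linear_combination (algebraMap F L c) ^ 2 * hT -
        (algebraMap F L c * T - algebraMap F L b) * h
    by_cases hγ0 : b ^ 2 - a * c - c ^ 2 = 0
    · rw [hγ0, map_zero, zero_mul] at hγδ
      have hδ0 : c ^ 2 - a * b = 0 := inj (by rw [← hγδ, map_zero])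
      have hb3 : b ^ 3 = c ^ 3 + b * c ^ 2 := by linear_combination b * hγ0 - c * hδ0
      have hsum : b ^ 3 + b * c ^ 2 + c ^ 3 = 0 := by
        linear_combination hb3 + (c ^ 3 + b * c ^ 2) * h2
      have hr : (b * c⁻¹) ^ 3 + b * c⁻¹ + 1 = (b ^ 3 + b * c ^ 2 + c ^ 3) * (c⁻¹) ^ 3 := by
        field_simp
      rw [hsum, zero_mul] at hr
      exact no_root_four hq _ hr
    · have hγL : algebraMap F L (b ^ 2 - a * c - c ^ 2) ≠ 0 := fun h0 =>
        hγ0 (inj (by rw [h0, map_zero]))
      apply hroot ((c ^ 2 - a * b) * (b ^ 2 - a * c - c ^ 2)⁻¹)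
      rw [map_mul, map_inv₀, ← hγδ]
      field_simp
  subst hc
  rw [map_zero, zero_mul, add_zero] at h
  have hb : b = 0 := by
    by_contra hb
    have hbL : algebraMap F L b ≠ 0 := fun h0 => hb (inj (by rw [h0, map_zero]))
    apply hroot (-a * b⁻¹)
    rw [map_mul, map_inv₀, map_neg]
    field_simp
    linear_combination -h
  subst hb
  rw [map_zero, zero_mul, add_zero] at h
  exact ⟨inj (by rw [h, map_zero]), rfl, rfl⟩

include hq in
/-- the conjugates of a root of `x^3 + x + 1` -/
theorem roots_aux {L : Type*} [Field L] [Algebra F L] (T Y : L) (hT : T ^ 3 = T + 1)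
    (hY : Y ^ 3 = Y + 1) : Y = T ∨ Y = T ^ 2 ∨ Y = T ^ 4 := by
  have h2 := two_eq_zero_of_card_four hq
  have h2L : (2 : L) = 0 := by
    rw [← map_ofNat (algebraMap F L) 2, h2, map_zero]
  have hprod : (Y + T) * (Y + T ^ 2) * (Y + T ^ 4) = 0 := by
    linear_combination hY + (T * Y ^ 2 + (T ^ 3 + T ^ 2 + T + 3) * Y + (T ^ 4 + T ^ 2 + T + 1)) * hT +
      ((T ^ 2 + T) * Y ^ 2 + (T ^ 2 + 2 * T + 2) * Y + T ^ 2 + T + 1) * h2L
  rcases mul_eq_zero.mp hprod with h | h
  · rcases mul_eq_zero.mp h with h | h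
    · left
      linear_combination h - T * h2L
    · right; left
      linear_combination h - T ^ 2 * h2L
  · right; right
    linear_combination h - T ^ 4 * h2L

include hq in
/-- a matrix conjugating the companion matrix to one of its Frobenius conjugates, of
determinant one, is rational up to a scalar -/
theorem rat_of_conj (G C' Ψ Ψi : Matrix (Fin 3) (Fin 3) F) (hGC : G * Cm = C' * G)
    (hΨ : Ψ * C' = Cm * Ψ) (hΨi : Ψi * Ψ = 1) (hdΨ : Ψ.det = 1)
    (hrat : IsRatM (sub2 (two_eq_zero_of_card_four hq)) Ψi) (hdet : G.det = 1) :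
    ∃ s : F, s ≠ 0 ∧ IsRatM (sub2 (two_eq_zero_of_card_four hq)) (s⁻¹ • G) := by
  have h2 := two_eq_zero_of_card_four hq
  set F₀ := sub2 h2 with hF₀
  have hcomm : (Ψ * G) * Cm = Cm * (Ψ * G) := by
    rw [Matrix.mul_assoc, hGC, ← Matrix.mul_assoc, hΨ, Matrix.mul_assoc]
  have hMw := eq_Mw_of_commute (Ψ * G) hcomm
  set a := (Ψ * G) 0 0 with ha
  set b := (Ψ * G) 1 0 with hb
  set c := (Ψ * G) 2 0 with hc
  have hdet' : (Mw a b c).det = 1 := by
    rw [← hMw, Matrix.det_mul, hdΨ, hdet, one_mul]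
  rw [det_Mw h2] at hdet'
  obtain ⟨s, hs, has, hbs, hcs⟩ := f4_claim hq a b c hdet'
  have hsplit : ∀ x : F, (x = 0 ∨ x = s) → ∃ x' : F, x' ∈ F₀ ∧ x = s * x' := by
    rintro x (rfl | rfl)
    · exact ⟨0, F₀.zero_mem, by ring⟩
    · exact ⟨1, F₀.one_mem, by ring⟩
  obtain ⟨a', ha', haa⟩ := hsplit a has
  obtain ⟨b', hb', hbb⟩ := hsplit b hbs
  obtain ⟨c', hc', hcc⟩ := hsplit c hcs
  refine ⟨s, hs, ?_⟩
  have hG : G = Ψi * (Ψ * G) := by
    rw [← Matrix.mul_assoc, hΨi, Matrix.one_mul]
  have hG' : s⁻¹ • G = Ψi * Mw a' b' c' := by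
    rw [hG, hMw, haa, hbb, hcc, Mw_smul, Matrix.mul_smul, smul_smul, inv_mul_cancel₀ hs, one_smul]
  rw [hG']
  exact IsRatM.mul hrat (isRat_Mw F₀ ha' hb' hc')

end aux

end Cfsg.Agent.Lib.Helper3.MaxC
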