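import Mathlib
import Cfsg.Prelude
import Cfsg.Agent.Lib.Helper3.MaxC1
import Cfsg.Agent.Lib.Helper3.MaxC10
import Cfsg.Agent.Lib.Helper3.MaxC11
import Cfsg.Agent.Lib.Helper2.SsfA
import Cfsg.Agent.Lib.Helper2.SsfH

set_option autoImplicit false
set_option maxHeartbeats 4000000
set_option maxRecDepth 100000
set_option linter.unusedVariables false
set_option linter.unusedSectionVars false
set_option linter.style.haveILetI false
set_option linter.deprecated false

/-! Over the field with four elements the normaliser of a cubic extension field in `SL_3` lies in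
a subfield group: the main statement. -/

namespace Cfsg.Agent.Lib.Helper3.MaxC

open Matrix Cfsg Cfsg.Geo Module
open Cfsg.Agent.Lib.Helper2.Ssf

/-- a field with 64 elements contains a root of `x^3 + x + 1` -/
theorem exists_theta_of_card {L : Type*} [Field L] [Fintype L] (hc : Fintype.card L = 64)
    (h2 : (2 : L) = 0) : ∃ T : L, T ^ 3 = T + 1 := by
  classical
  have hcu : Fintype.card Lˣ = 63 := by rw [Fintype.card_units, hc]
  haveI : Fact (Nat.Prime 7) := ⟨by norm_num⟩
  obtain ⟨u, hu⟩ := exists_prime_orderOf_dvd_card 7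
    (by rw [hcu]; norm_num : 7 ∣ Fintype.card Lˣ)
  have hu7 : (u : L) ^ 7 = 1 := by
    have h1 := pow_orderOf_eq_one u
    rw [hu] at h1
    have h := congrArg Units.val h1
    simpa using h
  have hu1 : (u : L) ≠ 1 := by
    intro h
    have h1 : u = 1 := Units.ext h
    rw [h1, orderOf_one] at hu
    omega
  set x : L := (u : L) with hx
  have hsum : (x - 1) * ((x ^ 3 + x + 1) * (x ^ 3 + x ^ 2 + 1)) = 0 := by
    linear_combination hu7 + (x - 1) * x ^ 3 * h2
  rcases mul_eq_zero.mp hsum with h | h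
  · exact absurd (by linear_combination h) hu1
  · rcases mul_eq_zero.mp h with h | h
    · exact ⟨x, by linear_combination h - (x + 1) * h2⟩
    · exact ⟨x ^ 3, by linear_combination x ^ 2 * hu7 - h + x ^ 2 * h2⟩

variable {F : Type*} [Field F] [Fintype F]

theorem field_four (hq : Fintype.card F = 4)
    (K : Subalgebra F (Matrix (Fin 3) (Fin 3) F)) (hK : IsFieldSubalgebra 3 K) :
    ∃ (F₀ : Subfield F) (P : GL (Fin 3) F), Fintype.card F = Nat.card F₀ ^ 2 ∧
      subalgebraNormalizer K ⊓ specialLinear (Fin 3) F ≤ subfieldSubgroup F₀ P := by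
  classical
  have h2 := two_eq_zero_of_card_four hq
  have hfld : IsField ↥K := by
    refine ⟨?_, ?_, ?_⟩
    · haveI : Nontrivial ↥K := by
        apply (Module.finrank_pos_iff (R := F)).mp
        rw [hK.finrank_eq]
        norm_num
      exact exists_pair_ne ↥K
    · intro x y
      exact Subtype.ext (hK.comm x.1 x.2 y.1 y.2)
    · intro a ha
      have ha' : a.1 ≠ 0 := fun h => ha (Subtype.ext h)
      obtain ⟨y, hy, hay⟩ := hK.inv a.1 a.2 ha'
      exact ⟨⟨y, hy⟩, Subtype.ext hay⟩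
  letI : Field ↥K := hfld.toField
  haveI : Fintype ↥K := Fintype.ofFinite _
  have hcardK : Fintype.card ↥K = 64 := by
    rw [Module.card_eq_pow_finrank (K := F) (V := ↥K), hq, hK.finrank_eq]
    norm_num
  have h2K : (2 : ↥K) = 0 := by
    rw [← map_ofNat (algebraMap F ↥K) 2, h2, map_zero]
  obtain ⟨T, hT⟩ := exists_theta_of_card hcardK h2K
  set θ : Matrix (Fin 3) (Fin 3) F := (T : Matrix (Fin 3) (Fin 3) F) with hθdef
  have hθK : θ ∈ K := T.2
  have hθ : θ ^ 3 = θ + 1 := congrArg Subtype.val hT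
  have hθ3' : θ * θ * θ = θ + 1 := by
    rw [← hθ, pow_succ, pow_two]
  -- invertibility inside `K`
  have hzero : ∀ A ∈ K, ∀ x : Fin 3 → F, x ≠ 0 → A *ᵥ x = 0 → A = 0 := by
    intro A hA x hx hAx
    by_contra hA0
    obtain ⟨B, hB, hAB⟩ := hK.inv A hA hA0
    have hBA : B * A = 1 := by rw [← hK.comm A hA B hB, hAB]
    apply hx
    calc x = (B * A) *ᵥ x := by rw [hBA, Matrix.one_mulVec]
      _ = B *ᵥ (A *ᵥ x) := by rw [Matrix.mulVec_mulVec]
      _ = 0 := by rw [hAx, Matrix.mulVec_zero]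
  -- no quadratic relation
  have hnq : ∀ a b c : F, a • (1 : Matrix (Fin 3) (Fin 3) F) + b • θ + c • (θ * θ) = 0 →
      a = 0 ∧ b = 0 ∧ c = 0 := by
    intro a b c h
    apply no_quad_aux hq T hT a b c
    apply Subtype.ext
    show algebraMap F (Matrix (Fin 3) (Fin 3) F) a + algebraMap F (Matrix (Fin 3) (Fin 3) F) b * θ +
      algebraMap F (Matrix (Fin 3) (Fin 3) F) c * θ ^ 2 = 0
    rw [Algebra.algebraMap_eq_smul_one, Algebra.algebraMap_eq_smul_one,
      Algebra.algebraMap_eq_smul_one, smul_mul_assoc, smul_mul_assoc, one_mul, one_mul, pow_two]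
    exact h
  -- the cyclic basis
  set v : Fin 3 → F := Pi.single 0 1 with hv
  have hv0 : v ≠ 0 := by
    intro h
    have := congrFun h 0
    simp [hv] at this
  set c1 : Fin 3 → F := θ *ᵥ v with hc1
  set c2 : Fin 3 → F := θ *ᵥ c1 with hc2
  set Pm : Matrix (Fin 3) (Fin 3) F := Matrix.of fun i j => ![v, c1, c2] j i with hPm
  have hmulVec : ∀ x : Fin 3 → F,
      Pm *ᵥ x = (x 0 • (1 : Matrix (Fin 3) (Fin 3) F) + x 1 • θ + x 2 • (θ * θ)) *ᵥ v := by
    intro x
    rw [Matrix.add_mulVec, Matrix.add_mulVec, Matrix.smul_mulVec, Matrix.smul_mulVec,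
      Matrix.smul_mulVec, Matrix.one_mulVec, ← Matrix.mulVec_mulVec]
    ext i
    simp [hPm, Matrix.mulVec, dotProduct, Fin.sum_univ_three, ← hc1, ← hc2]
    ring
  have hdetP : Pm.det ≠ 0 := by
    intro hdet
    obtain ⟨x, hx0, hx⟩ := Matrix.exists_mulVec_eq_zero_iff.2 hdet
    rw [hmulVec] at hx
    have hk : x 0 • (1 : Matrix (Fin 3) (Fin 3) F) + x 1 • θ + x 2 • (θ * θ) ∈ K :=
      K.add_mem (K.add_mem (K.smul_mem K.one_mem _) (K.smul_mem hθK _))
        (K.smul_mem (K.mul_mem hθK hθK) _)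
    have hk0 := hzero _ hk v hv0 hx
    obtain ⟨h0, h1, h2'⟩ := hnq _ _ _ hk0
    apply hx0
    ext i
    fin_cases i
    · exact h0
    · exact h1
    · exact h2'
  set P : GL (Fin 3) F := Matrix.GeneralLinearGroup.mkOfDetNeZero Pm hdetP with hP
  have hPval : (P : Matrix (Fin 3) (Fin 3) F) = Pm := rfl
  set Pi' : Matrix (Fin 3) (Fin 3) F := ((P⁻¹ : GL (Fin 3) F) : Matrix (Fin 3) (Fin 3) F) with hPi'
  have hPiPm : Pi' * Pm = 1 := by
    rw [← hPval, hPi', ← Units.val_mul, inv_mul_cancel, Units.val_one]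
  have hPmPi : Pm * Pi' = 1 := by
    rw [← hPval, hPi', ← Units.val_mul, mul_inv_cancel, Units.val_one]
  have hθP : θ * Pm = Pm * Cm := by
    have hx : ∀ x : Fin 3 → F, (θ * Pm) *ᵥ x = (Pm * Cm) *ᵥ x := by
      intro x
      rw [← Matrix.mulVec_mulVec, ← Matrix.mulVec_mulVec, hmulVec, hmulVec, Matrix.mulVec_mulVec]
      congr 1
      have e0 : (Cm *ᵥ x) 0 = x 2 := by
        simp [Cm, Matrix.mulVec, dotProduct, Fin.sum_univ_three]
      have e1 : (Cm *ᵥ x) 1 = x 0 + x 2 := by
        simp [Cm, Matrix.mulVec, dotProduct, Fin.sum_univ_three]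
      have e2 : (Cm *ᵥ x) 2 = x 1 := by
        simp [Cm, Matrix.mulVec, dotProduct, Fin.sum_univ_three]
      rw [e0, e1, e2, Matrix.mul_add, Matrix.mul_add, Matrix.mul_smul, Matrix.mul_smul,
        Matrix.mul_smul, Matrix.mul_one, ← Matrix.mul_assoc, hθ3']
      module
    ext i j
    have := congrFun (hx (Pi.single j 1)) i
    rw [Matrix.mulVec_single_one, Matrix.mulVec_single_one] at this
    exact this
  have hθ2P : θ ^ 2 * Pm = Pm * (Cm * Cm) := by
    rw [pow_two, Matrix.mul_assoc, hθP, ← Matrix.mul_assoc, hθP, Matrix.mul_assoc]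
  have hθ4P : θ ^ 4 * Pm = Pm * ((Cm * Cm) * (Cm * Cm)) := by
    have : θ ^ 4 = θ ^ 2 * θ ^ 2 := by rw [← pow_add]
    rw [this, Matrix.mul_assoc, hθ2P, ← Matrix.mul_assoc, hθ2P, Matrix.mul_assoc]
  refine ⟨sub2 h2, P, ?_, ?_⟩
  · rw [card_sub2, hq]
    norm_num
  · intro g hg
    obtain ⟨hgN, hgS⟩ := hg
    set gm : Matrix (Fin 3) (Fin 3) F := (g : Matrix (Fin 3) (Fin 3) F) with hgm
    set gi : Matrix (Fin 3) (Fin 3) F := ((g⁻¹ : GL (Fin 3) F) : Matrix (Fin 3) (Fin 3) F)
      with hgi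
    have hgigm : gi * gm = 1 := by
      rw [hgi, hgm, ← Units.val_mul, inv_mul_cancel, Units.val_one]
    have hgmgi : gm * gi = 1 := by
      rw [hgi, hgm, ← Units.val_mul, mul_inv_cancel, Units.val_one]
    have hgN' : ∀ k : Matrix (Fin 3) (Fin 3) F, k ∈ K ↔ gm * k * gi ∈ K := hgN
    set y : Matrix (Fin 3) (Fin 3) F := gm * θ * gi with hy
    have hyK : y ∈ K := (hgN' θ).1 hθK
    have e1 : y * y = gm * (θ * θ) * gi := by
      calc y * y = gm * θ * (gi * gm) * θ * gi := by
            rw [hy]; simp only [Matrix.mul_assoc]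
        _ = gm * (θ * θ) * gi := by rw [hgigm, Matrix.mul_one, Matrix.mul_assoc gm θ θ]
    have e2 : y * y * y = gm * (θ * θ * θ) * gi := by
      rw [e1]
      calc gm * (θ * θ) * gi * y = gm * (θ * θ) * (gi * gm) * θ * gi := by
            rw [hy]; simp only [Matrix.mul_assoc]
        _ = gm * (θ * θ * θ) * gi := by
            rw [hgigm, Matrix.mul_one, Matrix.mul_assoc gm (θ * θ) θ]
    have hy3 : y * y * y = y + 1 := by
      rw [e2, hθ3', Matrix.mul_add, Matrix.add_mul, Matrix.mul_one, hgmgi]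
    have hgy : gm * θ = y * gm := by
      rw [hy, Matrix.mul_assoc, hgigm, Matrix.mul_one]
    set Y : ↥K := ⟨y, hyK⟩ with hYdef
    have hY : Y ^ 3 = Y + 1 := by
      apply Subtype.ext
      show y ^ 3 = y + 1
      rw [pow_succ, pow_two]
      exact hy3
    set G : Matrix (Fin 3) (Fin 3) F := Pi' * gm * Pm with hG
    have hGC : ∀ (y' C' : Matrix (Fin 3) (Fin 3) F), gm * θ = y' * gm → y' * Pm = Pm * C' →
        G * Cm = C' * G := by
      intro y' C' h1 h2
      calc G * Cm = Pi' * gm * (Pm * Cm) := by rw [hG]; simp only [Matrix.mul_assoc]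
        _ = Pi' * (gm * θ) * Pm := by rw [← hθP]; simp only [Matrix.mul_assoc]
        _ = Pi' * (y' * Pm) * (Pi' * gm * Pm) := by
            rw [h1]
            have : Pi' * (y' * Pm) * (Pi' * gm * Pm) =
                Pi' * y' * (Pm * Pi') * gm * Pm := by simp only [Matrix.mul_assoc]
            rw [this, hPmPi, Matrix.mul_one]
            simp only [Matrix.mul_assoc]
        _ = C' * G := by
            rw [h2, ← Matrix.mul_assoc Pi' Pm C', hPiPm, Matrix.one_mul]
    have hdetG : G.det = 1 := by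
      have hdg : gm.det = 1 := (mem_SL_iff g).1 hgS
      have hdP : Pi'.det * Pm.det = 1 := by rw [← Matrix.det_mul, hPiPm, Matrix.det_one]
      rw [hG, Matrix.det_mul, Matrix.det_mul, hdg, mul_one, hdP]
    have hfin : ∃ s : F, s ≠ 0 ∧ IsRatM (sub2 h2) (s⁻¹ • G) := by
      rcases roots_aux hq T Y hT hY with h | h | h
      · have hyθ : y = θ := congrArg Subtype.val h
        refine rat_of_conj hq G Cm 1 1 (hGC y Cm hgy (by rw [hyθ]; exact hθP)) ?_ ?_ ?_ ?_ hdetG
        · rw [Matrix.one_mul, Matrix.mul_one]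
        · rw [Matrix.one_mul]
        · exact Matrix.det_one
        · exact isRatM_one
      · have hyθ : y = θ ^ 2 := congrArg Subtype.val h
        exact rat_of_conj hq G (Cm * Cm) Phi2 Phi (hGC y _ hgy (by rw [hyθ]; exact hθ2P))
          (Phi2_conj h2) (Phi_mul_Phi2 h2) (det_Phi2 h2) (isRat_Phi h2) hdetG
      · have hyθ : y = θ ^ 4 := congrArg Subtype.val h
        exact rat_of_conj hq G ((Cm * Cm) * (Cm * Cm)) Phi Phi2
          (hGC y _ hgy (by rw [hyθ]; exact hθ4P))
          (Phi_conj h2) (Phi2_mul_Phi h2) (det_Phi h2) (isRat_Phi2 h2) hdetG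
    obtain ⟨s, hs, hrat⟩ := hfin
    rw [subfieldSubgroup_eq_map' (sub2 h2) P, Subgroup.mem_map]
    refine ⟨P⁻¹ * g * P, ?_, ?_⟩
    · rw [mem_subfield_iff']
      refine ⟨s⁻¹, inv_ne_zero hs, fun i j => ?_⟩
      have h1 := hrat i j
      rw [Matrix.smul_apply, smul_eq_mul] at h1
      have h3 : ((P⁻¹ * g * P : GL (Fin 3) F) : Matrix (Fin 3) (Fin 3) F) = G := by
        rw [Units.val_mul, Units.val_mul]
        rfl
      rw [show (P⁻¹ * g * P : GL (Fin 3) F).1 = G from h3]
      exact h1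
    · show (MulAut.conj P) (P⁻¹ * g * P) = g
      rw [MulAut.conj_apply]
      group

end Cfsg.Agent.Lib.Helper3.MaxC
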