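import Mathlib
import Cfsg.Prelude
import Cfsg.Agent.Lib.Helper3.MaxC1
import Cfsg.Agent.Lib.Helper5.LinDecompForm

set_option autoImplicit false
set_option maxHeartbeats 4000000
set_option maxRecDepth 100000
set_option linter.unusedVariables false
set_option linter.unusedSectionVars false
set_option linter.style.haveILetI false
set_option linter.deprecated false

/-! Over the field with three elements the stabiliser of a decomposition into two planes, inside
the special linear group, preserves a symplectic form up to scalars. -/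

namespace Cfsg.Agent.Lib.Helper3.MaxC

open Matrix Cfsg Cfsg.Geo Module
open Cfsg.Agent.Lib.Helper5.LinDecompForm

section blocks
variable {F : Type*} [Field F]

/-- index bijection for two blocks of size two -/
def e22 : Fin 2 ⊕ Fin 2 ≃ Fin 2 × Fin 2 where
  toFun := Sum.elim (fun k => (0, k)) (fun k => (1, k))
  invFun := fun a => if a.1 = 0 then Sum.inl a.2 else Sum.inr a.2
  left_inv := by rintro (k | k) <;> simp
  right_inv := by
    rintro ⟨i, k⟩
    fin_cases i <;> simp

theorem det_diag_blocks (M : Matrix (Fin 2 × Fin 2) (Fin 2 × Fin 2) F)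
    (h01 : ∀ k l, M (0, k) (1, l) = 0) (h10 : ∀ k l, M (1, k) (0, l) = 0) :
    M.det = (M (0, 0) (0, 0) * M (0, 1) (0, 1) - M (0, 0) (0, 1) * M (0, 1) (0, 0)) *
      (M (1, 0) (1, 0) * M (1, 1) (1, 1) - M (1, 0) (1, 1) * M (1, 1) (1, 0)) := by
  rw [← det_submatrix_equiv_self e22 M, ← fromBlocks_toBlocks (M.submatrix e22 e22)]
  have h12 : (M.submatrix e22 e22).toBlocks₁₂ = 0 := by
    ext k l
    exact h01 k l
  have h21 : (M.submatrix e22 e22).toBlocks₂₁ = 0 := by
    ext k l
    exact h10 k l
  rw [h12, h21, det_fromBlocks_zero₂₁, det_fin_two, det_fin_two]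
  rfl

theorem det_anti_blocks (M : Matrix (Fin 2 × Fin 2) (Fin 2 × Fin 2) F)
    (h00 : ∀ k l, M (0, k) (0, l) = 0) (h11 : ∀ k l, M (1, k) (1, l) = 0) :
    M.det = (M (0, 0) (1, 0) * M (0, 1) (1, 1) - M (0, 0) (1, 1) * M (0, 1) (1, 0)) *
      (M (1, 0) (0, 0) * M (1, 1) (0, 1) - M (1, 0) (0, 1) * M (1, 1) (0, 0)) := by
  rw [← det_submatrix_equiv_self e22 M, ← fromBlocks_toBlocks (M.submatrix e22 e22)]
  have h1 : (M.submatrix e22 e22).toBlocks₁₁ = 0 := by
    ext k l
    exact h00 k l
  have h2 : (M.submatrix e22 e22).toBlocks₂₂ = 0 := by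
    ext k l
    exact h11 k l
  rw [h1, h2]
  set B := (M.submatrix e22 e22).toBlocks₁₂ with hB
  set C := (M.submatrix e22 e22).toBlocks₂₁ with hC
  have hsw : (fromBlocks (0 : Matrix (Fin 2) (Fin 2) F) B C 0).submatrix id
      (Equiv.sumComm (Fin 2) (Fin 2)) = fromBlocks B 0 0 C := by
    ext i j
    rcases i with i | i <;> rcases j with j | j <;> rfl
  have h3 := det_permute' (Equiv.sumComm (Fin 2) (Fin 2))
    (fromBlocks (0 : Matrix (Fin 2) (Fin 2) F) B C 0)
  rw [hsw, det_fromBlocks_zero₂₁] at h3
  have hsign : Equiv.Perm.sign (Equiv.sumComm (Fin 2) (Fin 2)) = 1 := by decide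
  rw [hsign] at h3
  simp only [Units.val_one, Int.cast_one, one_mul] at h3
  rw [← h3, det_fin_two, det_fin_two]
  rfl

end blocks

section planes
variable {F : Type*} [Field F] {n : ℕ} {D : Fin 2 → Submodule F (Fin n → F)}
  (hD : IsMDecomposition 2 D)

/-- the alternating form adapted to a decomposition into two planes -/
noncomputable def altForm (x y : Fin n → F) : F :=
  ((bas hD).repr x (0, 0) * (bas hD).repr y (0, 1) -
    (bas hD).repr x (0, 1) * (bas hD).repr y (0, 0)) +
  ((bas hD).repr x (1, 0) * (bas hD).repr y (1, 1) -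
    (bas hD).repr x (1, 1) * (bas hD).repr y (1, 0))

theorem altForm_symplectic : IsSymplecticForm (altForm hD) := by
  have hskew : ∀ v w, altForm hD v w = - altForm hD w v := by
    intro v w
    unfold altForm
    ring
  refine ⟨⟨?_, ?_, ?_, ?_⟩, hskew, ?_, ?_⟩
  · intro x y v
    unfold altForm
    simp only [map_add, Finsupp.add_apply]
    ring
  · intro c x v
    unfold altForm
    simp only [map_smul, Finsupp.smul_apply, smul_eq_mul]
    ring
  · intro v x y
    unfold altForm
    simp only [map_add, Finsupp.add_apply]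
    ring
  · intro c v x
    unfold altForm
    simp only [map_smul, Finsupp.smul_apply, smul_eq_mul]
    ring
  · intro v
    unfold altForm
    ring
  · intro v hv
    have h1 : (bas hD).repr v ≠ 0 := fun h => hv ((bas hD).repr.map_eq_zero_iff.1 h)
    obtain ⟨a, ha⟩ : ∃ a, (bas hD).repr v a ≠ 0 := by
      by_contra hcon
      push Not at hcon
      exact h1 (Finsupp.ext hcon)
    have key : ∃ x, altForm hD x v ≠ 0 := by
      obtain ⟨i, k⟩ := a
      fin_cases i <;> fin_cases k
      · refine ⟨bas hD (0, 1), ?_⟩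
        unfold altForm
        simp only [Module.Basis.repr_self, Finsupp.single_apply]
        simpa using ha
      · refine ⟨bas hD (0, 0), ?_⟩
        unfold altForm
        simp only [Module.Basis.repr_self, Finsupp.single_apply]
        simpa using ha
      · refine ⟨bas hD (1, 1), ?_⟩
        unfold altForm
        simp only [Module.Basis.repr_self, Finsupp.single_apply]
        simpa using ha
      · refine ⟨bas hD (1, 0), ?_⟩
        unfold altForm
        simp only [Module.Basis.repr_self, Finsupp.single_apply]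
        simpa using ha
    obtain ⟨x, hx⟩ := key
    refine ⟨⟨x, hx⟩, ⟨x, ?_⟩⟩
    rw [hskew]
    exact neg_ne_zero.mpr hx

include hD in
theorem planes_three [Fintype F] (hq : Fintype.card F = 3) :
    ∃ f : (Fin n → F) → (Fin n → F) → F, IsSymplecticForm f ∧
      decompositionStabilizer D ⊓ specialLinear (Fin n) F ≤ similarityGroup f := by
  classical
  refine ⟨altForm hD, altForm_symplectic hD, ?_⟩
  intro g hg
  obtain ⟨hgD, hgS⟩ := hg
  have hsq : ∀ d : F, d ≠ 0 → d * d = 1 := by
    intro d hd
    have := FiniteField.pow_card_sub_one_eq_one d hd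
    rw [hq] at this
    rw [← pow_two]
    exact this
  set b := bas hD with hb
  set M := LinearMap.toMatrix b b (Matrix.toLin' (g : Matrix (Fin n) (Fin n) F)) with hM
  have hdet : M.det = 1 := by
    rw [hM, LinearMap.det_toMatrix, LinearMap.det_toLin']
    exact (mem_SL_iff g).1 hgS
  have hrepr : ∀ (x : Fin n → F) (a : Fin 2 × Fin 2),
      b.repr ((g : Matrix (Fin n) (Fin n) F) *ᵥ x) a =
        M a (0, 0) * b.repr x (0, 0) + M a (0, 1) * b.repr x (0, 1) +
          (M a (1, 0) * b.repr x (1, 0) + M a (1, 1) * b.repr x (1, 1)) := by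
    intro x a
    have h1 := LinearMap.toMatrix_mulVec_repr b b
      (Matrix.toLin' (g : Matrix (Fin n) (Fin n) F)) x
    rw [Matrix.toLin'_apply] at h1
    have h2 := congrFun h1 a
    rw [← h2, Matrix.mulVec, dotProduct, Fintype.sum_prod_type, Fin.sum_univ_two,
      Fin.sum_univ_two, Fin.sum_univ_two]
  obtain ⟨σ, hσ⟩ := hgD
  have hmap : ∀ i, ∀ x ∈ D i, (g : Matrix (Fin n) (Fin n) F) *ᵥ x ∈ D (σ i) := by
    intro i x hx
    rw [← hσ i]
    exact ⟨x, hx, by rw [Matrix.toLin'_apply]⟩
  have hMzero : ∀ (i j : Fin 2) (k l : Fin 2), j ≠ σ i → M (j, l) (i, k) = 0 := by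
    intro i j k l hj
    rw [hM, LinearMap.toMatrix_apply, Matrix.toLin'_apply]
    exact repr_of_mem hD (hmap i _ (bas_mem hD (i, k))) (j, l) hj
  have hfin : ∃ d : F, d ≠ 0 ∧ ∀ x y, altForm hD ((g : Matrix (Fin n) (Fin n) F) *ᵥ x)
      ((g : Matrix (Fin n) (Fin n) F) *ᵥ y) = d * altForm hD x y := by
    by_cases h0 : σ 0 = 0
    · have h1 : σ 1 = 1 := by
        have hne : σ 1 ≠ σ 0 := fun h => by
          have := σ.injective h
          exact absurd this (by decide)
        rw [h0] at hne
        omega
      have z01 : ∀ k l, M (0, k) (1, l) = 0 := fun k l =>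
        hMzero 1 0 l k (by rw [h1]; decide)
      have z10 : ∀ k l, M (1, k) (0, l) = 0 := fun k l =>
        hMzero 0 1 l k (by rw [h0]; decide)
      have hd := det_diag_blocks M z01 z10
      rw [hdet] at hd
      set dA := M (0, 0) (0, 0) * M (0, 1) (0, 1) - M (0, 0) (0, 1) * M (0, 1) (0, 0) with hdA
      set dB := M (1, 0) (1, 0) * M (1, 1) (1, 1) - M (1, 0) (1, 1) * M (1, 1) (1, 0) with hdB
      have hB0 : dB ≠ 0 := by
        intro h
        rw [h, mul_zero] at hd
        exact one_ne_zero hd
      have hAB : dA = dB := by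
        calc dA = dA * (dB * dB) := by rw [hsq dB hB0, mul_one]
          _ = (dA * dB) * dB := by ring
          _ = dB := by rw [← hd, one_mul]
      refine ⟨dB, hB0, fun x y => ?_⟩
      unfold altForm
      rw [← hb, hrepr x, hrepr x, hrepr x, hrepr x, hrepr y, hrepr y, hrepr y, hrepr y]
      simp only [z01, z10, zero_mul, add_zero, zero_add]
      rw [← hAB, hdA]
      have e : dB = M (1, 0) (1, 0) * M (1, 1) (1, 1) - M (1, 0) (1, 1) * M (1, 1) (1, 0) := hdB
      have e' : dA = dB := hAB
      rw [hdA, hdB] at e'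
      linear_combination (b.repr x (1, 0) * b.repr y (1, 1) -
        b.repr x (1, 1) * b.repr y (1, 0)) * (-e')
    · have h0' : σ 0 = 1 := by omega
      have h1 : σ 1 = 0 := by
        have hne : σ 1 ≠ σ 0 := fun h => by
          have := σ.injective h
          exact absurd this (by decide)
        rw [h0'] at hne
        omega
      have z00 : ∀ k l, M (0, k) (0, l) = 0 := fun k l =>
        hMzero 0 0 l k (by rw [h0']; decide)
      have z11 : ∀ k l, M (1, k) (1, l) = 0 := fun k l =>
        hMzero 1 1 l k (by rw [h1]; decide)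
      have hd := det_anti_blocks M z00 z11
      rw [hdet] at hd
      set dB := M (0, 0) (1, 0) * M (0, 1) (1, 1) - M (0, 0) (1, 1) * M (0, 1) (1, 0) with hdB
      set dC := M (1, 0) (0, 0) * M (1, 1) (0, 1) - M (1, 0) (0, 1) * M (1, 1) (0, 0) with hdC
      have hC0 : dC ≠ 0 := by
        intro h
        rw [h, mul_zero] at hd
        exact one_ne_zero hd
      have hBC : dB = dC := by
        calc dB = dB * (dC * dC) := by rw [hsq dC hC0, mul_one]
          _ = (dB * dC) * dC := by ring
          _ = dC := by rw [← hd, one_mul]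
      refine ⟨dC, hC0, fun x y => ?_⟩
      unfold altForm
      rw [← hb, hrepr x, hrepr x, hrepr x, hrepr x, hrepr y, hrepr y, hrepr y, hrepr y]
      simp only [z00, z11, zero_mul, add_zero, zero_add]
      have e' : dB = dC := hBC
      rw [hdB, hdC] at e'
      rw [hdC]
      linear_combination (b.repr x (1, 0) * b.repr y (1, 1) -
        b.repr x (1, 1) * b.repr y (1, 0)) * e'
  obtain ⟨d, hd0, hd⟩ := hfin
  exact ⟨Units.mk0 d hd0, fun u v => by rw [Units.val_mk0]; exact hd u v⟩

end planes

end Cfsg.Agent.Lib.Helper3.MaxC
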