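import Mathlib
import Cfsg.Prelude
import Cfsg.Agent.Lib.Helper3.MaxC1
import Cfsg.Agent.Lib.Helper5.LinDecompForm

set_option autoImplicit false
set_option maxHeartbeats 4000000
set_option maxRecDepth 100000
set_option linter.unusedVariables false
set_option linter.unusedSectionVars false
set_option linter.style.haveILetI false
set_option linter.deprecated false

/-! Over the field with five elements the stabiliser of a decomposition of a four-dimensional
space into lines is not maximal in the special linear group: it preserves the set of sixty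
"stabiliser states", which is also preserved by a Hadamard matrix. -/

namespace Cfsg.Agent.Lib.Helper3.MaxC

open Matrix Cfsg Cfsg.Geo Module
open Cfsg.Agent.Lib.Helper5.LinDecompForm

section mod5

/-- number of non-zero coordinates -/
def wt5 (v : Fin 4 → ZMod 5) : ℕ := (Finset.univ.filter (fun i => v i ≠ 0)).card

/-- product of the coordinates -/
def pr5 (v : Fin 4 → ZMod 5) : ZMod 5 := ∏ i, v i

/-- membership in the set of sixty points (as vectors) -/
def S5b (v : Fin 4 → ZMod 5) : Bool :=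
  decide (wt5 v = 1) || decide (wt5 v = 2) ||
    (decide (wt5 v = 4) && (decide (pr5 v = 1) || decide (pr5 v = 4)))

/-- a Hadamard matrix -/
def H4 : Matrix (Fin 4) (Fin 4) (ZMod 5) := !![1, 1, 1, 1; 1, 4, 1, 4; 1, 1, 4, 4; 1, 4, 4, 1]

theorem h4_inv' : ∀ a b c d : ZMod 5, S5b (H4 *ᵥ ![a, b, c, d]) = S5b ![a, b, c, d] := by
  decide

theorem h4_inv (v : Fin 4 → ZMod 5) : S5b (H4 *ᵥ v) = S5b v := by
  have hv : v = ![v 0, v 1, v 2, v 3] := by
    ext i
    fin_cases i <;> rfl
  rw [hv]
  exact h4_inv' _ _ _ _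

theorem h4_det : H4.det = 1 := by
  rw [Matrix.det_succ_row_zero]
  simp [Fin.sum_univ_succ, Matrix.det_fin_three, H4, Fin.succAbove]
  decide

theorem mul_ne5 : ∀ a v : ZMod 5, a ≠ 0 → (a * v ≠ 0 ↔ v ≠ 0) := by decide

theorem sq_one5 : ∀ z : ZMod 5, z ^ 2 = 1 → z = 1 ∨ z = 4 := by decide

theorem four_mul5 : ∀ p : ZMod 5, (decide (4 * p = 1) || decide (4 * p = 4)) =
    (decide (p = 1) || decide (p = 4)) := by decide

theorem wt5_monomial (σ : Equiv.Perm (Fin 4)) (a v w : Fin 4 → ZMod 5) (ha : ∀ i, a i ≠ 0)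
    (hw : ∀ i, w (σ i) = a i * v i) : wt5 w = wt5 v := by
  unfold wt5
  rw [Finset.card_filter, Finset.card_filter, ← Equiv.sum_comp σ]
  refine Finset.sum_congr rfl fun i _ => ?_
  rw [hw i]
  exact if_congr (mul_ne5 (a i) (v i) (ha i)) rfl rfl

theorem pr5_monomial (σ : Equiv.Perm (Fin 4)) (a v w : Fin 4 → ZMod 5)
    (hw : ∀ i, w (σ i) = a i * v i) : pr5 w = (∏ i, a i) * pr5 v := by
  unfold pr5
  rw [← Equiv.prod_comp σ w, ← Finset.prod_mul_distrib]
  exact Finset.prod_congr rfl fun i _ => hw i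

theorem S5b_monomial (σ : Equiv.Perm (Fin 4)) (a v w : Fin 4 → ZMod 5) (ha : ∀ i, a i ≠ 0)
    (hpr : (∏ i, a i) ^ 2 = 1) (hw : ∀ i, w (σ i) = a i * v i) : S5b w = S5b v := by
  unfold S5b
  rw [wt5_monomial σ a v w ha hw, pr5_monomial σ a v w hw]
  rcases sq_one5 _ hpr with h | h <;> rw [h]
  · rw [one_mul]
  · rw [four_mul5]

end mod5

section abstract5
variable {F : Type*} [Field F] [Fintype F] {n : ℕ} {D : Fin 4 → Submodule F (Fin n → F)}
  (hD : IsMDecomposition 1 D) (hq : Fintype.card F = 5)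

/-- the field with five elements -/
noncomputable def psi5 : F ≃+* ZMod 5 := (ZMod.ringEquivOfPrime F (by norm_num) hq).symm

/-- the adapted basis, indexed by the four lines -/
noncomputable def b4 : Module.Basis (Fin 4) F (Fin n → F) :=
  (bas hD).reindex (Equiv.prodUnique (Fin 4) (Fin 1))

theorem b4_apply (i : Fin 4) : b4 hD i = bas hD (i, 0) := by
  unfold b4
  rw [Module.Basis.reindex_apply]
  rfl

theorem b4_repr (x : Fin n → F) (i : Fin 4) : (b4 hD).repr x i = (bas hD).repr x (i, 0) := by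
  unfold b4
  rw [Module.Basis.repr_reindex_apply]
  rfl

theorem b4_mem (i : Fin 4) : b4 hD i ∈ D i := by
  rw [b4_apply]
  exact bas_mem hD (i, 0)

theorem b4_repr_of_mem {x : Fin n → F} {j : Fin 4} (hx : x ∈ D j) (i : Fin 4) (hi : i ≠ j) :
    (b4 hD).repr x i = 0 := by
  rw [b4_repr]
  exact repr_of_mem hD hx (i, 0) hi

/-- coordinates modulo five -/
noncomputable def cvec (x : Fin n → F) : Fin 4 → ZMod 5 :=
  fun i => psi5 hq ((b4 hD).repr x i)

/-- the stabiliser of the set of sixty points in the special linear group -/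
noncomputable def K60 : Subgroup (GL (Fin n) F) where
  carrier := {g | g ∈ specialLinear (Fin n) F ∧
    ∀ x, S5b (cvec hD hq ((g : Matrix (Fin n) (Fin n) F) *ᵥ x)) = S5b (cvec hD hq x)}
  mul_mem' := by
    rintro a b ⟨ha1, ha2⟩ ⟨hb1, hb2⟩
    refine ⟨mul_mem ha1 hb1, fun x => ?_⟩
    rw [Units.val_mul, ← Matrix.mulVec_mulVec, ha2, hb2]
  one_mem' := ⟨one_mem _, fun x => by rw [Units.val_one, Matrix.one_mulVec]⟩
  inv_mem' := by
    rintro a ⟨ha1, ha2⟩
    refine ⟨inv_mem ha1, fun x => ?_⟩
    have h := ha2 (((a⁻¹ : GL (Fin n) F) : Matrix (Fin n) (Fin n) F) *ᵥ x)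
    rw [Matrix.mulVec_mulVec, ← Units.val_mul, mul_inv_cancel, Units.val_one,
      Matrix.one_mulVec] at h
    exact h.symm

theorem stab_le_K60 :
    decompositionStabilizer D ⊓ specialLinear (Fin n) F ≤ K60 hD hq := by
  classical
  intro g hg
  obtain ⟨hgD, hgS⟩ := hg
  refine ⟨hgS, fun x => ?_⟩
  set b := b4 hD with hb
  set M := LinearMap.toMatrix b b (Matrix.toLin' (g : Matrix (Fin n) (Fin n) F)) with hM
  have hdet : M.det = 1 := by
    rw [hM, LinearMap.det_toMatrix, LinearMap.det_toLin']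
    exact (mem_SL_iff g).1 hgS
  obtain ⟨σ, hσ⟩ := hgD
  have hmap : ∀ i, ∀ x ∈ D i, (g : Matrix (Fin n) (Fin n) F) *ᵥ x ∈ D (σ i) := by
    intro i x hx
    rw [← hσ i]
    exact ⟨x, hx, by rw [Matrix.toLin'_apply]⟩
  have hMzero : ∀ i j : Fin 4, j ≠ σ i → M j i = 0 := by
    intro i j hj
    rw [hM, LinearMap.toMatrix_apply, Matrix.toLin'_apply]
    exact b4_repr_of_mem hD (hmap i _ (b4_mem hD i)) j hj
  set α : Fin 4 → F := fun i => M (σ i) i with hα
  have hrepr : ∀ (x : Fin n → F) (i : Fin 4),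
      b.repr ((g : Matrix (Fin n) (Fin n) F) *ᵥ x) (σ i) = α i * b.repr x i := by
    intro x i
    have h1 := LinearMap.toMatrix_mulVec_repr b b
      (Matrix.toLin' (g : Matrix (Fin n) (Fin n) F)) x
    rw [Matrix.toLin'_apply] at h1
    have h2 := congrFun h1 (σ i)
    rw [← h2, Matrix.mulVec, dotProduct, Finset.sum_eq_single i]
    · intro i' _ hi'
      rw [← hM, hMzero i' (σ i) (fun h => hi' (σ.injective h).symm), zero_mul]
    · intro h
      exact absurd (Finset.mem_univ i) h
  have hMMt : M * Mᵀ = Matrix.diagonal (fun j => (α (σ.symm j)) ^ 2) := by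
    ext j k
    rw [Matrix.mul_apply, Matrix.diagonal_apply]
    rw [Finset.sum_eq_single (σ.symm j)]
    · rw [Matrix.transpose_apply]
      by_cases hjk : j = k
      · subst hjk
        rw [if_pos rfl, hα]
        simp only [Equiv.apply_symm_apply]
        ring
      · rw [if_neg hjk, hMzero (σ.symm j) k (by rw [Equiv.apply_symm_apply]; exact Ne.symm hjk),
          mul_zero]
    · intro i _ hi
      rw [hMzero i j (fun h => hi (by rw [h, Equiv.symm_apply_apply])), zero_mul]
    · intro h
      exact absurd (Finset.mem_univ _) h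
  have hprod : (∏ i, α i) ^ 2 = 1 := by
    have h1 := congrArg Matrix.det hMMt
    rw [Matrix.det_mul, Matrix.det_transpose, hdet, one_mul, Matrix.det_diagonal] at h1
    rw [← Finset.prod_pow, ← Equiv.prod_comp σ.symm (fun i => α i ^ 2)]
    exact h1.symm
  have hα0 : ∀ i, α i ≠ 0 := by
    intro i h0
    have h1 : ∏ i, α i = 0 := Finset.prod_eq_zero (Finset.mem_univ i) h0
    rw [h1] at hprod
    simp at hprod
  refine S5b_monomial σ (fun i => psi5 hq (α i)) (cvec hD hq x) _ ?_ ?_ ?_
  · intro i h0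
    exact hα0 i ((map_eq_zero_iff (psi5 hq) (psi5 hq).injective).1 h0)
  · rw [← map_prod, ← map_pow, hprod, map_one]
  · intro i
    unfold cvec
    rw [← hb, hrepr x i, map_mul]

/-- the Hadamard element -/
theorem exists_hadamard :
    ∃ g : GL (Fin n) F, g ∈ K60 hD hq ∧ g ∉ decompositionStabilizer D := by
  classical
  set b := b4 hD with hb
  set ψ := psi5 hq with hψ
  set HF : Matrix (Fin 4) (Fin 4) F := H4.map ψ.symm with hHF
  set L : (Fin n → F) →ₗ[F] (Fin n → F) := Matrix.toLin b b HF with hL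
  have hdetL : LinearMap.det L = 1 := by
    rw [← LinearMap.det_toMatrix b, hL, LinearMap.toMatrix_toLin, hHF]
    have h1 : (H4.map ψ.symm) = (ψ.symm : ZMod 5 →+* F).mapMatrix H4 := rfl
    rw [h1, ← RingHom.map_det, h4_det, map_one]
  set A : Matrix (Fin n) (Fin n) F := LinearMap.toMatrix' L with hA
  have hdetA : A.det = 1 := by rw [hA, LinearMap.det_toMatrix', hdetL]
  have hAx : ∀ x, A *ᵥ x = L x := by
    intro x
    rw [hA, ← Matrix.toLin'_apply, Matrix.toLin'_toMatrix']
  have hrepr : ∀ x i, b.repr (L x) i = (HF *ᵥ (fun j => b.repr x j)) i := by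
    intro x i
    have h1 := LinearMap.toMatrix_mulVec_repr b b L x
    rw [hL, LinearMap.toMatrix_toLin] at h1
    rw [hL]
    exact (congrFun h1 i).symm
  set g : GL (Fin n) F := Matrix.GeneralLinearGroup.mk'' A (by rw [hdetA]; exact isUnit_one)
    with hg
  have hgval : (g : Matrix (Fin n) (Fin n) F) = A := rfl
  refine ⟨g, ⟨?_, ?_⟩, ?_⟩
  · rw [mem_SL_iff, hgval, hdetA]
  · intro x
    rw [hgval, hAx, ← h4_inv (cvec hD hq x)]
    congr 1
    ext i
    unfold cvec
    rw [← hb, hrepr x i, Matrix.mulVec, dotProduct, Matrix.mulVec, dotProduct, map_sum]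
    refine Finset.sum_congr rfl fun j _ => ?_
    rw [map_mul, hHF, Matrix.map_apply]
    show ψ (ψ.symm (H4 i j)) * _ = _
    rw [RingEquiv.apply_symm_apply]
  · have h00 : ∀ i : Fin 4, b.repr ((g : Matrix (Fin n) (Fin n) F) *ᵥ b 0) i = 1 := by
      intro i
      rw [hgval, hAx, hrepr, Matrix.mulVec, dotProduct, Finset.sum_eq_single 0]
      · rw [Module.Basis.repr_self, Finsupp.single_eq_same, mul_one, hHF, Matrix.map_apply]
        have : H4 i 0 = 1 := by fin_cases i <;> rfl
        rw [this, map_one]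
      · intro j _ hj
        rw [Module.Basis.repr_self, Finsupp.single_eq_of_ne hj, mul_zero]
      · intro h
        exact absurd (Finset.mem_univ _) h
    refine not_stab_of_image hD g (bas_mem hD ((0 : Fin 4), (0 : Fin 1)))
      (a := ((0 : Fin 4), (0 : Fin 1))) (a' := ((1 : Fin 4), (0 : Fin 1))) (by decide) ?_ ?_
    · rw [← b4_apply, ← b4_repr, ← hb, h00]
      exact one_ne_zero
    · rw [← b4_apply, ← b4_repr, ← hb, h00]
      exact one_ne_zero

/-- a transvection outside the stabiliser of the sixty points -/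
theorem exists_not_K60 :
    ∃ g : GL (Fin n) F, g ∈ specialLinear (Fin n) F ∧ g ∉ K60 hD hq := by
  classical
  set b := b4 hD with hb
  have hφ : b.coord 1 (b 0) = 0 := by
    rw [Module.Basis.coord_apply, Module.Basis.repr_self, Finsupp.single_eq_of_ne]
    decide
  have hne : 1 + b.coord 1 (b 0) ≠ 0 := by
    rw [hφ, add_zero]; exact one_ne_zero
  refine ⟨rk1 (b.coord 1) (b 0) hne, ?_, ?_⟩
  · rw [mem_SL_iff, det_rk1, hφ, add_zero]
  · rintro ⟨-, h⟩
    have h1 := h (b 1 + b 2)
    rw [rk1_mulVec] at h1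
    have e1 : cvec hD hq (b 1 + b 2 + (b.coord 1 (b 1 + b 2)) • b 0) = ![1, 1, 1, 0] := by
      ext i
      unfold cvec
      rw [← hb]
      simp only [map_add, map_smul, Module.Basis.coord_apply, Module.Basis.repr_self,
        Finsupp.add_apply, Finsupp.smul_apply, smul_eq_mul]
      fin_cases i <;> simp [Finsupp.single_apply]
    have e2 : cvec hD hq (b 1 + b 2) = ![0, 1, 1, 0] := by
      ext i
      unfold cvec
      rw [← hb]
      simp only [map_add, Module.Basis.repr_self, Finsupp.add_apply]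
      fin_cases i <;> simp [Finsupp.single_apply]
    rw [e1, e2] at h1
    revert h1
    decide

include hD hq in
theorem lines_five_not_max :
    ∃ K : Subgroup (GL (Fin n) F),
      decompositionStabilizer D ⊓ specialLinear (Fin n) F < K ∧
        K < specialLinear (Fin n) F := by
  refine ⟨K60 hD hq, ?_, ?_⟩
  · refine lt_of_le_of_ne (stab_le_K60 hD hq) ?_
    intro heq
    obtain ⟨g, hg1, hg2⟩ := exists_hadamard hD hq
    rw [← heq] at hg1
    exact hg2 hg1.1
  · refine lt_of_le_of_ne (fun g hg => hg.1) ?_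
    intro heq
    obtain ⟨g, hg1, hg2⟩ := exists_not_K60 hD hq
    rw [← heq] at hg1
    exact hg2 hg1

end abstract5

end Cfsg.Agent.Lib.Helper3.MaxC
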