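import Mathlib
import Cfsg.Prelude
import Cfsg.Agent.Lib.Helper3.MaxC1

set_option autoImplicit false
set_option maxHeartbeats 4000000
set_option maxRecDepth 100000
set_option linter.unusedVariables false
set_option linter.unusedSectionVars false
set_option linter.style.haveILetI false
set_option linter.deprecated false

/-! Properness, continued: tensor products, subfield groups, normalisers of symplectic-type
groups, similarity groups. -/

namespace Cfsg.Agent.Lib.Helper3.MaxC

open Matrix Cfsg Cfsg.Geo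
open Cfsg.Agent.Lib.Helper5.TvGL

variable {F : Type*} [Field F] {n : ℕ}

instance specialLinear_normal : (specialLinear (Fin n) F).Normal := by
  unfold specialLinear
  infer_instance

section tensor
open Kronecker Cfsg.Agent.Lib.Helper5.TensorSub

theorem not_le_tensor {n₁ n₂ : ℕ} (h1 : 2 ≤ n₁) (h2 : 2 ≤ n₂) (e : Fin n ≃ Fin n₁ × Fin n₂)
    (P : GL (Fin n) F) :
    ¬ specialLinear (Fin n) F ≤ tensorProductSubgroup n₁ n₂ e P := by
  classical
  intro hle
  set p0 : Fin n₁ := ⟨0, by omega⟩ with hp0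
  set p1 : Fin n₁ := ⟨1, by omega⟩ with hp1
  set q0 : Fin n₂ := ⟨0, by omega⟩ with hq0
  set q1 : Fin n₂ := ⟨1, by omega⟩ with hq1
  have hp : p0 ≠ p1 := by simp [hp0, hp1, Fin.ext_iff]
  have hq : q0 ≠ q1 := by simp [hq0, hq1, Fin.ext_iff]
  have hne : ((p0, q0) : Fin n₁ × Fin n₂) ≠ (p1, q1) := fun h => hp (congrArg Prod.fst h)
  have hdetT : (Matrix.transvection ((p0, q0) : Fin n₁ × Fin n₂) (p1, q1) (1 : F)).det = 1 :=
    Matrix.det_transvection_of_ne _ _ hne 1
  set x : GL (Fin n₁ × Fin n₂) F := Matrix.GeneralLinearGroup.mk''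
    (Matrix.transvection ((p0, q0) : Fin n₁ × Fin n₂) (p1, q1) (1 : F))
    (by rw [hdetT]; exact isUnit_one) with hx
  have hxc : (x : Matrix (Fin n₁ × Fin n₂) (Fin n₁ × Fin n₂) F) =
      Matrix.transvection ((p0, q0) : Fin n₁ × Fin n₂) (p1, q1) (1 : F) := rfl
  have hxSL : Phi e P x ∈ specialLinear (Fin n) F := by
    rw [mem_SL_iff, coe_Phi, Matrix.det_mul, Matrix.det_mul, Matrix.det_submatrix_equiv_self,
      mul_right_comm, ← Matrix.det_mul, ← Units.val_mul, mul_inv_cancel, Units.val_one,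
      Matrix.det_one, one_mul, hxc, hdetT]
  obtain ⟨a, b, hab⟩ := (mem_tensor e P _).1 (hle hxSL)
  have hxab : x = kron a b := (Phi e P).injective hab
  have hT : Matrix.transvection ((p0, q0) : Fin n₁ × Fin n₂) (p1, q1) (1 : F) =
      (a : Matrix (Fin n₁) (Fin n₁) F) ⊗ₖ (b : Matrix (Fin n₂) (Fin n₂) F) := by
    rw [← hxc, hxab, coe_kron]
  have e1 := congrFun (congrFun hT (p0, q0)) (p0, q0)
  have e2 := congrFun (congrFun hT (p0, q0)) (p1, q1)
  have e3 := congrFun (congrFun hT (p0, q0)) (p0, q1)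
  simp only [Matrix.transvection, Matrix.add_apply, Matrix.one_apply, Matrix.single_apply,
    Matrix.kroneckerMap_apply, Prod.mk.injEq, hp, hq, hp.symm, hq.symm, and_false, false_and,
    and_self, if_true, if_false, true_and, and_true, add_zero, zero_add] at e1 e2 e3
  have : (1 : F) = 0 := by
    calc (1 : F) = ((a : Matrix (Fin n₁) (Fin n₁) F) p0 p0 * (b : Matrix (Fin n₂) (Fin n₂) F) q0 q0) *
          ((a : Matrix (Fin n₁) (Fin n₁) F) p0 p1 * (b : Matrix (Fin n₂) (Fin n₂) F) q0 q1) := by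
          rw [← e1, ← e2, one_mul]
      _ = ((a : Matrix (Fin n₁) (Fin n₁) F) p0 p0 * (b : Matrix (Fin n₂) (Fin n₂) F) q0 q1) *
          ((a : Matrix (Fin n₁) (Fin n₁) F) p0 p1 * (b : Matrix (Fin n₂) (Fin n₂) F) q0 q0) := by ring
      _ = 0 := by rw [← e3, zero_mul]
  exact one_ne_zero this

end tensor

theorem not_le_subfield (hn : 2 ≤ n) (F₀ : Subfield F) (hF₀ : F₀ ≠ ⊤) (P : GL (Fin n) F) :
    ¬ specialLinear (Fin n) F ≤ subfieldSubgroup F₀ P := by
  classical
  intro hle
  obtain ⟨a, ha⟩ : ∃ a : F, a ∉ F₀ := by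
    by_contra hcon
    push Not at hcon
    exact hF₀ (eq_top_iff.2 fun x _ => hcon x)
  set i0 : Fin n := ⟨0, by omega⟩ with hi0
  set i1 : Fin n := ⟨1, by omega⟩ with hi1
  have hne : i0 ≠ i1 := by simp [hi0, hi1, Fin.ext_iff]
  have hdetT : (Matrix.transvection i0 i1 a).det = 1 := Matrix.det_transvection_of_ne _ _ hne a
  set x : GL (Fin n) F := Matrix.GeneralLinearGroup.mk'' (Matrix.transvection i0 i1 a)
    (by rw [hdetT]; exact isUnit_one) with hx
  have hxc : (x : Matrix (Fin n) (Fin n) F) = Matrix.transvection i0 i1 a := rfl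
  have hxSL : x ∈ specialLinear (Fin n) F := by rw [mem_SL_iff, hxc, hdetT]
  have hy : P * x * P⁻¹ ∈ specialLinear (Fin n) F :=
    specialLinear_normal.conj_mem x hxSL P
  obtain ⟨u, hu, hux⟩ := hle hy
  have hux' : u = x := by
    have h1 : P * u * P⁻¹ = P * x * P⁻¹ := hux
    have h2 := mul_right_cancel h1
    exact mul_left_cancel h2
  rw [hux'] at hu
  obtain ⟨y, ⟨y₀, rfl⟩, z, hz, hyz⟩ := Subgroup.mem_sup_of_normal_right.1 hu
  obtain ⟨c, hc⟩ := (mem_scalars_iff z).1 hz
  have hmat : Matrix.transvection i0 i1 a =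
      ((Matrix.GeneralLinearGroup.map (F₀.subtype : F₀ →+* F) y₀ : GL (Fin n) F) :
        Matrix (Fin n) (Fin n) F) * ((c : F) • (1 : Matrix (Fin n) (Fin n) F)) := by
    rw [← hxc, ← hyz, Units.val_mul, hc]
  have e1 := congrFun (congrFun hmat i0) i0
  have e2 := congrFun (congrFun hmat i0) i1
  simp only [Matrix.transvection, Matrix.add_apply, Matrix.one_apply, Matrix.single_apply,
    Matrix.mul_smul, Matrix.mul_one, Matrix.smul_apply, smul_eq_mul, hne, hne.symm, and_false,
    false_and, and_self, if_true, if_false, add_zero, zero_add] at e1 e2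
  have hy00 : ((Matrix.GeneralLinearGroup.map (F₀.subtype : F₀ →+* F) y₀ : GL (Fin n) F) :
      Matrix (Fin n) (Fin n) F) i0 i0 ∈ F₀ := by
    show F₀.subtype _ ∈ F₀
    exact Subtype.prop _
  have hy01 : ((Matrix.GeneralLinearGroup.map (F₀.subtype : F₀ →+* F) y₀ : GL (Fin n) F) :
      Matrix (Fin n) (Fin n) F) i0 i1 ∈ F₀ := by
    show F₀.subtype _ ∈ F₀
    exact Subtype.prop _
  have hcF : (c : F) ∈ F₀ := by
    have h00 : ((Matrix.GeneralLinearGroup.map (F₀.subtype : F₀ →+* F) y₀ : GL (Fin n) F) :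
      Matrix (Fin n) (Fin n) F) i0 i0 ≠ 0 := by
      intro h0
      rw [h0, mul_zero] at e1
      exact one_ne_zero e1
    have : (c : F) = (((Matrix.GeneralLinearGroup.map (F₀.subtype : F₀ →+* F) y₀ : GL (Fin n) F) :
      Matrix (Fin n) (Fin n) F) i0 i0)⁻¹ := by
      exact eq_inv_of_mul_eq_one_left e1.symm
    rw [this]
    exact F₀.inv_mem hy00
  apply ha
  rw [e2]
  exact F₀.mul_mem hcF hy01

theorem transvection_pow {ι : Type*} [Fintype ι] [DecidableEq ι] {R : Type*} [CommRing R]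
    (i j : ι) (hij : i ≠ j) (k : ℕ) :
    (Matrix.transvection i j (1 : R)) ^ k = Matrix.transvection i j (k : R) := by
  induction k with
  | zero => simp [Matrix.transvection_zero]
  | succ k ih =>
    rw [pow_succ, ih, Matrix.transvection_mul_transvection_same i j hij, Nat.cast_succ]

theorem not_le_class6 [Fintype F] (hn : 3 ≤ n) {r : ℕ} {R : Subgroup (GL (Fin n) F)}
    (hR : IsLinearSymplecticTypeData r R) :
    ¬ specialLinear (Fin n) F ≤ subgroupNormalizer R := by
  classical
  intro hle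
  set i0 : Fin n := ⟨0, by omega⟩ with hi0
  set i1 : Fin n := ⟨1, by omega⟩ with hi1
  have hne : i0 ≠ i1 := by simp [hi0, hi1, Fin.ext_iff]
  have hG : ∀ s : Matrix.SpecialLinearGroup (Fin n) F, ∀ g ∈ R,
      (Matrix.SpecialLinearGroup.toGL s) * g * (Matrix.SpecialLinearGroup.toGL s)⁻¹ ∈ R := by
    intro s g hg
    have hs : Matrix.SpecialLinearGroup.toGL s ∈ specialLinear (Fin n) F := by
      rw [mem_SL_iff]
      exact s.2
    have := hle hs
    exact (Subgroup.mem_normalizer_iff.1 this g).1 hg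
  rcases Cfsg.Agent.Lib.Helper5.SLNormalized.main (n := n) (F := F) (by omega)
    (Cfsg.Agent.S0249.result n hn) (Cfsg.Agent.S0248.result n hn) R hG with h | h
  · obtain ⟨c, hc⟩ := hR.absIrred.2 (Matrix.single i0 i1 (1 : F)) (by
      rintro s ⟨g, hg, rfl⟩
      obtain ⟨c, hc⟩ := h g hg
      show Matrix.single i0 i1 (1 : F) * (g : Matrix (Fin n) (Fin n) F) =
        (g : Matrix (Fin n) (Fin n) F) * Matrix.single i0 i1 (1 : F)
      rw [hc, Matrix.mul_smul, Matrix.smul_mul, Matrix.mul_one, Matrix.one_mul])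
    have := congrFun (congrFun hc i0) i1
    simp [Matrix.single_apply, hne] at this
  · obtain ⟨p, e, hrp, hmin, -⟩ := hR.field
    obtain ⟨hp, hchar, -⟩ := hmin
    have hdetT : (Matrix.transvection i0 i1 (1 : F)).det = 1 :=
      Matrix.det_transvection_of_ne _ _ hne 1
    set s : Matrix.SpecialLinearGroup (Fin n) F := ⟨Matrix.transvection i0 i1 (1 : F), hdetT⟩ with hs
    have hsR : Matrix.SpecialLinearGroup.toGL s ∈ R := h ⟨s, rfl⟩
    obtain ⟨k, hk⟩ := hR.symplecticType.pGroup ⟨_, hsR⟩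
    have hk' : (Matrix.SpecialLinearGroup.toGL s) ^ (r ^ k) = 1 := by
      have := congrArg Subtype.val hk
      simpa using this
    have hcoe : ((Matrix.SpecialLinearGroup.toGL s : GL (Fin n) F) : Matrix (Fin n) (Fin n) F) =
        Matrix.transvection i0 i1 (1 : F) := rfl
    have hk'' : (Matrix.transvection i0 i1 (1 : F)) ^ (r ^ k) = 1 := by
      have h5 := congrArg (fun g : GL (Fin n) F => (g : Matrix (Fin n) (Fin n) F)) hk'
      simp only [Units.val_pow_eq_pow_val, Units.val_one] at h5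
      rw [hcoe] at h5
      exact h5
    rw [transvection_pow i0 i1 hne] at hk''
    have h6 := congrFun (congrFun hk'' i0) i1
    simp only [Matrix.transvection, Matrix.add_apply, Matrix.one_apply, Matrix.single_apply,
      hne, and_self, if_true, if_false, zero_add] at h6
    have hdvd : p ∣ r ^ k := by
      haveI := hchar
      have h0 : ((r ^ k : ℕ) : F) = 0 := h6
      exact (CharP.cast_eq_zero_iff F p _).1 h0
    have hpr : p ∣ r := hp.dvd_of_dvd_pow hdvd
    exact hrp ((Nat.prime_dvd_prime_iff_eq hp hR.symplecticType.prime).1 hpr).symm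

theorem not_le_similarity (hn : 3 ≤ n) (f : (Fin n → F) → (Fin n → F) → F)
    (hadd : ∀ x y v, f (x + y) v = f x v + f y v)
    (hsmul : ∀ (c : F) (x v : Fin n → F), f (c • x) v = c * f x v)
    (hnd : IsNondegenerateForm f) :
    ¬ specialLinear (Fin n) F ≤ similarityGroup f := by
  classical
  intro hle
  set v₀ : Fin n → F := Pi.single ⟨0, by omega⟩ 1 with hv₀def
  have hv₀ : v₀ ≠ 0 := by
    intro h0
    have := congrFun h0 ⟨0, by omega⟩
    rw [hv₀def, Pi.single_eq_same, Pi.zero_apply] at this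
    exact one_ne_zero this
  obtain ⟨w, hw⟩ := (hnd v₀ hv₀).1
  obtain ⟨u', hu'⟩ := exists_not_mem_span_pair hn v₀ w
  have hvS : v₀ ∈ Submodule.span F ({v₀, w} : Set (Fin n → F)) := Submodule.subset_span (by simp)
  have hwS : w ∈ Submodule.span F ({v₀, w} : Set (Fin n → F)) := Submodule.subset_span (by simp)
  set u := u' + (-(f u' v₀ / f w v₀)) • w with hu
  have hfu : f u v₀ = 0 := by
    rw [hu, hadd, hsmul]
    field_simp
    ring
  have huS : u ∉ Submodule.span F ({v₀, w} : Set (Fin n → F)) := by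
    intro h
    apply hu'
    have h1 := Submodule.sub_mem _ h (Submodule.smul_mem _ (-(f u' v₀ / f w v₀)) hwS)
    rw [hu, add_sub_cancel_right] at h1
    exact h1
  obtain ⟨g, hgSL, hgfix, hgu⟩ := exists_tv _ u w huS hwS
  obtain ⟨c, hc⟩ := hle hgSL
  have h2 := hc u v₀
  rw [hgu, hgfix v₀ hvS, hadd, hfu, zero_add, mul_zero] at h2
  exact hw h2

theorem not_le_quadSimilarity (hn : 3 ≤ n) (Q : (Fin n → F) → F)
    (hQ : IsNondegenerateQuadraticForm Q) :
    ¬ specialLinear (Fin n) F ≤ quadSimilarityGroup Q := by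
  intro hle
  refine not_le_similarity hn (QuadraticMap.polar Q) hQ.polar_bilinear.add_left
    hQ.polar_bilinear.smul_left hQ.nondegenerate ?_
  intro g hg
  obtain ⟨c, hc⟩ := hle hg
  refine ⟨c, fun u v => ?_⟩
  unfold QuadraticMap.polar
  rw [← Matrix.mulVec_add, hc, hc, hc]
  ring

theorem subfield_ne_top [Fintype F] (F₀ : Subfield F) {r : ℕ} (hr : r.Prime)
    (hcard : Fintype.card F = Nat.card F₀ ^ r) : F₀ ≠ ⊤ := by
  rintro rfl
  have h1 : Nat.card (⊤ : Subfield F) = Fintype.card F := by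
    rw [← Nat.card_eq_fintype_card]
    exact Nat.card_congr (Subfield.topEquiv (K := F)).toEquiv
  rw [h1] at hcard
  have h2 : 1 < Fintype.card F := Fintype.one_lt_card
  have h3 : (Fintype.card F) ^ 1 = (Fintype.card F) ^ r := by rw [pow_one]; exact hcard
  have := Nat.pow_right_injective h2 h3
  exact hr.one_lt.ne this

end Cfsg.Agent.Lib.Helper3.MaxC
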