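import Mathlib
import Cfsg.Prelude

set_option autoImplicit false
set_option maxHeartbeats 4000000
set_option maxRecDepth 100000
set_option linter.unusedVariables false
set_option linter.unusedSectionVars false
set_option linter.style.haveILetI false
set_option linter.deprecated false

/-! An irreducible representation of a finite `r`-group over a field containing enough roots
of unity has dimension a power of `r`. -/

namespace Cfsg.Agent.Lib.Helper3.MaxC

open Module Polynomial

universe u

section pow
variable {F : Type u} [Field F]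

/-- irreducibility of a representation given as a monoid homomorphism into the endomorphisms -/
def RepIrr {G V : Type*} [Group G] [AddCommGroup V] [Module F V] (ρ : G →* Module.End F V) : Prop :=
  ∀ W : Submodule F V, (∀ g : G, ∀ x ∈ W, ρ g x ∈ W) → W = ⊥ ∨ W = ⊤

theorem exists_eigen {V : Type*} [AddCommGroup V] [Module F V] [FiniteDimensional F V] [Nontrivial V]
    {E : ℕ} (hE : 0 < E) {ζ : F} (hζ : IsPrimitiveRoot ζ E) (a : Module.End F V) (ha : a ^ E = 1) :
    ∃ μ : F, a.HasEigenvalue μ := by
  have h1 : Polynomial.aeval a (X ^ E - C (1 : F) : F[X]) = 0 := by simp [ha]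
  have hdvd := minpoly.dvd F a h1
  have hne : (X ^ E - C (1 : F) : F[X]) ≠ 0 := (monic_X_pow_sub_C 1 hE.ne').ne_zero
  have hs := (X_pow_sub_one_splits hζ).of_dvd hne hdvd
  have hint : IsIntegral F a := Algebra.IsIntegral.isIntegral a
  obtain ⟨μ, hμ⟩ := hs.exists_eval_eq_zero (minpoly.degree_pos hint).ne'
  exact ⟨μ, Module.End.hasEigenvalue_of_isRoot hμ⟩

theorem finrank_eq_card_mul {V : Type*} [AddCommGroup V] [Module F V] [FiniteDimensional F V]
    {ι : Type*} [Fintype ι] (A : ι → Submodule F V) (hind : iSupIndep A) (htop : iSup A = ⊤)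
    (m : ℕ) (hm : ∀ i, finrank F (A i) = m) :
    finrank F V = Fintype.card ι * m := by
  classical
  have hint : DirectSum.IsInternal A :=
    DirectSum.isInternal_submodule_of_iSupIndep_of_iSup_eq_top hind htop
  have e := LinearEquiv.ofBijective (DirectSum.coeLinearMap A) hint
  rw [← e.finrank_eq, Module.finrank_directSum]
  simp [hm]

theorem map_eigenspace {V : Type*} [AddCommGroup V] [Module F V] (a u u' : Module.End F V)
    (huu' : u * u' = 1) (hu'u : u' * u = 1) (c : F) (hc : c ≠ 0)
    (h : u * a = c • (a * u)) (μ : F) :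
    (Module.End.eigenspace a μ).map u = Module.End.eigenspace a (c⁻¹ * μ) := by
  apply le_antisymm
  · rintro y ⟨x, hx, rfl⟩
    rw [SetLike.mem_coe, Module.End.mem_eigenspace_iff] at hx
    rw [Module.End.mem_eigenspace_iff]
    have h1 : c • a (u x) = u (a x) := by
      have := LinearMap.congr_fun h x
      simp only [Module.End.mul_apply, LinearMap.smul_apply] at this
      exact this.symm
    rw [hx, map_smul] at h1
    calc a (u x) = c⁻¹ • (c • a (u x)) := by rw [smul_smul, inv_mul_cancel₀ hc, one_smul]
      _ = (c⁻¹ * μ) • u x := by rw [h1, smul_smul]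
  · intro y hy
    rw [Module.End.mem_eigenspace_iff] at hy
    refine ⟨u' y, ?_, ?_⟩
    · rw [SetLike.mem_coe, Module.End.mem_eigenspace_iff]
      have h2 : a * u' = c • (u' * a) := by
        calc a * u' = (u' * u) * (a * u') := by rw [hu'u, one_mul]
          _ = u' * (u * a) * u' := by simp only [mul_assoc]
          _ = u' * (c • (a * u)) * u' := by rw [h]
          _ = c • (u' * a * (u * u')) := by
            simp only [mul_smul_comm, smul_mul_assoc, mul_assoc]
          _ = c • (u' * a) := by rw [huu', mul_one]
      have := LinearMap.congr_fun h2 y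
      simp only [Module.End.mul_apply, LinearMap.smul_apply] at this
      rw [this, hy, map_smul, smul_smul, mul_inv_cancel_left₀ hc]
    · have := LinearMap.congr_fun huu' y
      simpa using this

theorem one_ne_zero_end {V : Type*} [AddCommGroup V] [Module F V] [Nontrivial V] :
    (1 : Module.End F V) ≠ 0 := by
  intro h
  obtain ⟨x, hx⟩ := exists_ne (0 : V)
  apply hx
  have := LinearMap.congr_fun h x
  simpa using this

theorem finrank_pow_aux (r : ℕ) [hr : Fact r.Prime] (E : ℕ) (hE : 0 < E) (ζ : F)
    (hζ : IsPrimitiveRoot ζ E) :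
    ∀ (d : ℕ) (G : Type u) [Group G] [Finite G] (V : Type u) [AddCommGroup V] [Module F V]
      [FiniteDimensional F V] (ρ : G →* Module.End F V), IsPGroup r G → (∀ g : G, g ^ E = 1) →
      Nontrivial V → RepIrr ρ → finrank F V = d → ∃ k, d = r ^ k := by
  intro d
  induction d using Nat.strong_induction_on with
  | _ d ih =>
  intro G _ _ V _ _ _ ρ hG hexp hnt hirr hd
  classical
  have h10 : (1 : Module.End F V) ≠ 0 := one_ne_zero_end
  have hinv1 : ∀ g : G, ρ g * ρ g⁻¹ = 1 := fun g => by rw [← map_mul, mul_inv_cancel, map_one]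
  have hinv2 : ∀ g : G, ρ g⁻¹ * ρ g = 1 := fun g => by rw [← map_mul, inv_mul_cancel, map_one]
  have hinj : ∀ g : G, Function.Injective (ρ g) := by
    intro g x y hxy
    have := congrArg (ρ g⁻¹) hxy
    rw [← Module.End.mul_apply, ← Module.End.mul_apply, hinv2] at this
    simpa using this
  by_cases hsc : ∀ g : G, ∃ c : F, ρ g = c • (1 : Module.End F V)
  · -- all scalar: dimension one
    obtain ⟨x, hx⟩ := exists_ne (0 : V)
    rcases hirr (Submodule.span F {x}) (by
      intro g y hy
      obtain ⟨c, hc⟩ := hsc g
      rw [hc]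
      exact Submodule.smul_mem _ c hy) with h | h
    · exfalso
      apply hx
      have : x ∈ Submodule.span F {x} := Submodule.mem_span_singleton_self x
      rw [h] at this
      exact (Submodule.mem_bot F).1 this
    · refine ⟨0, ?_⟩
      rw [pow_zero, ← hd, ← finrank_top F V, ← h, finrank_span_singleton hx]
  · -- the subgroup acting by scalars
    let S : Subgroup G :=
      { carrier := {g | ∃ c : F, ρ g = c • (1 : Module.End F V)}
        mul_mem' := by
          rintro g h ⟨c, hc⟩ ⟨c', hc'⟩
          refine ⟨c * c', ?_⟩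
          rw [map_mul, hc, hc', smul_mul_smul_comm, mul_one]
        one_mem' := ⟨1, by rw [map_one, one_smul]⟩
        inv_mem' := by
          rintro g ⟨c, hc⟩
          have hc0 : c ≠ 0 := by
            rintro rfl
            rw [zero_smul] at hc
            have := hinv1 g
            rw [hc, zero_mul] at this
            exact h10 this.symm
          refine ⟨c⁻¹, ?_⟩
          have h1 := hinv1 g
          rw [hc, smul_mul_assoc, one_mul] at h1
          rw [← h1, smul_smul, inv_mul_cancel₀ hc0, one_smul] }
    have hSmem : ∀ g : G, g ∈ S ↔ ∃ c : F, ρ g = c • (1 : Module.End F V) := fun g => Iff.rfl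
    haveI hSn : S.Normal := by
      refine ⟨fun g hg h => ?_⟩
      obtain ⟨c, hc⟩ := (hSmem g).1 hg
      rw [hSmem]
      refine ⟨c, ?_⟩
      rw [map_mul, map_mul, hc, mul_smul_comm, mul_one, smul_mul_assoc, hinv1]
    have hSne : S ≠ ⊤ := by
      intro h
      apply hsc
      intro g
      exact (hSmem g).1 (h ▸ Subgroup.mem_top g)
    haveI : Nontrivial (G ⧸ S) := QuotientGroup.nontrivial_iff.2 hSne
    have hQ : IsPGroup r (G ⧸ S) := hG.to_quotient S
    haveI := hQ.center_nontrivial
    obtain ⟨⟨z, hzc⟩, hz1⟩ := exists_ne (1 : Subgroup.center (G ⧸ S))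
    obtain ⟨a₀, rfl⟩ := QuotientGroup.mk_surjective z
    have ha₀S : a₀ ∉ S := by
      intro h
      apply hz1
      apply Subtype.ext
      exact (QuotientGroup.eq_one_iff a₀).2 h
    set a : Module.End F V := ρ a₀ with ha
    have hcomm : ∀ g : G, ∃ c : F, c ≠ 0 ∧ ρ g * a = c • (a * ρ g) := by
      intro g
      have h1 := Subgroup.mem_center_iff.1 hzc (g : G ⧸ S)
      -- ↑g * ↑a₀ = ↑a₀ * ↑g
      have h2 : ((a₀ * g : G) : G ⧸ S) = ((g * a₀ : G) : G ⧸ S) := by
        rw [QuotientGroup.mk_mul, QuotientGroup.mk_mul]
        exact h1.symm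
      have h3 : (a₀ * g)⁻¹ * (g * a₀) ∈ S := QuotientGroup.eq.1 h2
      obtain ⟨c, hc⟩ := (hSmem _).1 h3
      have h4 : ρ (g * a₀) = ρ (a₀ * g) * ρ ((a₀ * g)⁻¹ * (g * a₀)) := by
        rw [← map_mul, mul_inv_cancel_left]
      rw [hc, mul_smul_comm, mul_one, map_mul, map_mul] at h4
      refine ⟨c, ?_, h4⟩
      rintro rfl
      rw [zero_smul] at h4
      have h5 : (1 : Module.End F V) = ρ g⁻¹ * (ρ g * ρ a₀) * ρ a₀⁻¹ := by
        rw [← mul_assoc, hinv2, one_mul, hinv1]
      rw [h4, mul_zero, zero_mul] at h5
      exact h10 h5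
    have haE : a ^ E = 1 := by rw [ha, ← map_pow, hexp, map_one]
    obtain ⟨μ₀, hμ₀⟩ := exists_eigen hE hζ a haE
    obtain ⟨x₀, hx₀⟩ := hμ₀.exists_hasEigenvector
    set U₀ : Submodule F V := Module.End.eigenspace a μ₀ with hU₀def
    have hU₀bot : U₀ ≠ ⊥ := by
      intro h
      have : x₀ ∈ U₀ := hx₀.1
      rw [h] at this
      exact hx₀.2 ((Submodule.mem_bot F).1 this)
    have hU₀top : U₀ ≠ ⊤ := by
      intro h
      apply ha₀S
      rw [hSmem]
      refine ⟨μ₀, ?_⟩
      apply LinearMap.ext
      intro x
      have : x ∈ U₀ := h ▸ Submodule.mem_top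
      rw [hU₀def, Module.End.mem_eigenspace_iff] at this
      rw [← ha, this]
      simp
    -- the action on subspaces
    letI act : MulAction G (Submodule F V) :=
      { smul := fun g W => W.map (ρ g)
        one_smul := fun W => by
          show W.map (ρ 1) = W
          rw [map_one]
          exact Submodule.map_id W
        mul_smul := fun g h W => by
          show W.map (ρ (g * h)) = (W.map (ρ h)).map (ρ g)
          rw [map_mul, ← Submodule.map_comp]
          rfl }
    have hsmul : ∀ (g : G) (W : Submodule F V), g • W = W.map (ρ g) := fun g W => rfl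
    -- every member of the orbit is an eigenspace
    have horb : ∀ N ∈ MulAction.orbit G U₀, ∃ κ : F, N = Module.End.eigenspace a κ := by
      rintro N ⟨g, rfl⟩
      obtain ⟨c, hc0, hc⟩ := hcomm g
      exact ⟨c⁻¹ * μ₀, map_eigenspace a (ρ g) (ρ g⁻¹) (hinv1 g) (hinv2 g) c hc0 hc μ₀⟩
    haveI hfin : Finite (MulAction.orbit G U₀) := by
      have : (MulAction.orbit G U₀) = Set.range (fun g : G => g • U₀) := rfl
      rw [this]
      exact (Set.finite_range _).to_subtype
    haveI : Fintype (MulAction.orbit G U₀) := Fintype.ofFinite _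
    choose κ hκ using fun i : MulAction.orbit G U₀ => horb i.1 i.2
    choose γ hγ using fun i : MulAction.orbit G U₀ => MulAction.mem_orbit_iff.1 i.2
    have hκinj : Function.Injective κ := by
      intro i j hij
      apply Subtype.ext
      rw [hκ i, hκ j, hij]
    have hindA : iSupIndep (fun i : MulAction.orbit G U₀ => (i : Submodule F V)) := by
      have h1 := (Module.End.eigenspaces_iSupIndep a).comp hκinj
      have h2 : (fun i : MulAction.orbit G U₀ => (i : Submodule F V)) =
          (Module.End.eigenspace a) ∘ κ := by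
        funext i
        exact hκ i
      rw [h2]
      exact h1
    have hfr : ∀ (g : G) (W : Submodule F V), finrank F (W.map (ρ g)) = finrank F W := by
      intro g W
      exact (LinearEquiv.finrank_eq (Submodule.equivMapOfInjective (ρ g) (hinj g) W)).symm
    have hfrA : ∀ i : MulAction.orbit G U₀, finrank F (i : Submodule F V) = finrank F U₀ := by
      intro i
      rw [← hγ i, hsmul, hfr]
    -- a general engine: for `U ≤ U₀` invariant under the stabiliser and non-zero,
    -- the translates span everything
    have engine : ∀ U : Submodule F V, U ≤ U₀ → U ≠ ⊥ →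
        (∀ t ∈ MulAction.stabilizer G U₀, U.map (ρ t) ≤ U) →
        finrank F V = Fintype.card (MulAction.orbit G U₀) * finrank F U := by
      intro U hUle hUbot hUinv
      set B : MulAction.orbit G U₀ → Submodule F V := fun i => U.map (ρ (γ i)) with hB
      have hBle : ∀ i, B i ≤ (i : Submodule F V) := by
        intro i
        rw [hB]
        simp only
        conv_rhs => rw [← hγ i, hsmul]
        exact Submodule.map_mono hUle
      have hindB : iSupIndep B := hindA.mono hBle
      have htopB : iSup B = ⊤ := by
        rcases hirr (iSup B) (by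
          intro g x hx
          have h1 : (iSup B).map (ρ g) ≤ iSup B := by
            rw [Submodule.map_iSup]
            apply iSup_le
            intro i
            have hmem : (g * γ i) • U₀ ∈ MulAction.orbit G U₀ := MulAction.mem_orbit _ _
            set j : MulAction.orbit G U₀ := ⟨(g * γ i) • U₀, hmem⟩ with hj
            have ht : (γ j)⁻¹ * (g * γ i) ∈ MulAction.stabilizer G U₀ := by
              rw [MulAction.mem_stabilizer_iff, mul_smul, inv_smul_eq_iff, hγ j]
            have h2 : (B i).map (ρ g) = (U.map (ρ ((γ j)⁻¹ * (g * γ i)))).map (ρ (γ j)) := by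
              rw [hB]
              simp only
              rw [← Submodule.map_comp, ← Submodule.map_comp]
              congr 1
              show (ρ g) * (ρ (γ i)) = (ρ (γ j)) * (ρ ((γ j)⁻¹ * (g * γ i)))
              rw [← map_mul, ← map_mul, mul_inv_cancel_left]
            rw [h2]
            exact (Submodule.map_mono (hUinv _ ht)).trans (le_iSup B j)
          exact h1 ⟨x, hx, rfl⟩) with h | h
        · exfalso
          obtain ⟨y, hy, hy0⟩ := (Submodule.ne_bot_iff U).1 hUbot
          have hmem0 : U₀ ∈ MulAction.orbit G U₀ := MulAction.mem_orbit_self _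
          have h1 : ρ (γ ⟨U₀, hmem0⟩) y ∈ iSup B :=
            (le_iSup B ⟨U₀, hmem0⟩) ⟨y, hy, rfl⟩
          rw [h] at h1
          have h2 := (Submodule.mem_bot F).1 h1
          apply hy0
          apply hinj (γ ⟨U₀, hmem0⟩)
          rw [h2, map_zero]
        · exact h
      exact finrank_eq_card_mul B hindB htopB (finrank F U) (fun i => hfr _ _)
    have hdim := engine U₀ le_rfl hU₀bot (by
      intro t ht
      rw [MulAction.mem_stabilizer_iff, hsmul] at ht
      rw [ht])
    -- the cardinality of the orbit
    obtain ⟨j, hj⟩ := hG.index (MulAction.stabilizer G U₀)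
    have hcard : Fintype.card (MulAction.orbit G U₀) = r ^ j := by
      rw [← hj, MulAction.index_stabilizer, ← Nat.card_coe_set_eq, Nat.card_eq_fintype_card]
    have hcardpos : 0 < Fintype.card (MulAction.orbit G U₀) := by
      rw [hcard]
      exact pow_pos hr.out.pos j
    -- the stabiliser acts irreducibly on `U₀`
    set T : Subgroup G := MulAction.stabilizer G U₀ with hT
    have hTinv : ∀ t ∈ T, ∀ x ∈ U₀, ρ t x ∈ U₀ := by
      intro t ht x hx
      rw [hT, MulAction.mem_stabilizer_iff, hsmul] at ht
      rw [← ht]
      exact ⟨x, hx, rfl⟩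
    let ρ' : T →* Module.End F U₀ :=
      { toFun := fun t => (ρ t.1).restrict (hTinv t.1 t.2)
        map_one' := by
          apply LinearMap.ext
          intro x
          apply Subtype.ext
          simp
        map_mul' := by
          intro s t
          apply LinearMap.ext
          intro x
          apply Subtype.ext
          simp }
    have hρ' : ∀ (t : T) (x : U₀), ((ρ' t x : U₀) : V) = ρ t.1 x.1 := fun t x => rfl
    have hirr' : RepIrr ρ' := by
      intro W' hW'
      by_cases hW'bot : W' = ⊥
      · left; exact hW'bot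
      right
      set U : Submodule F V := W'.map U₀.subtype with hU
      have hUle : U ≤ U₀ := by
        rintro y ⟨w, hw, rfl⟩
        exact w.2
      have hUbot : U ≠ ⊥ := by
        intro h
        apply hW'bot
        rw [eq_bot_iff]
        intro w hw
        have : (w : V) ∈ U := ⟨w, hw, rfl⟩
        rw [h] at this
        rw [Submodule.mem_bot]
        exact Subtype.ext ((Submodule.mem_bot F).1 this)
      have hUinv : ∀ t ∈ MulAction.stabilizer G U₀, U.map (ρ t) ≤ U := by
        rintro t ht y ⟨y', ⟨w, hw, rfl⟩, rfl⟩
        exact ⟨ρ' ⟨t, ht⟩ w, hW' ⟨t, ht⟩ w hw, rfl⟩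
      have h1 := engine U hUle hUbot hUinv
      rw [hdim] at h1
      have h2 : finrank F U₀ = finrank F U := Nat.eq_of_mul_eq_mul_left hcardpos h1
      have h3 : U = U₀ := Submodule.eq_of_le_of_finrank_eq hUle h2.symm
      apply Submodule.map_injective_of_injective U₀.subtype_injective
      rw [Submodule.map_subtype_top]
      exact h3
    have hlt : finrank F U₀ < d := by
      rw [← hd]
      exact Submodule.finrank_lt hU₀top
    haveI : Nontrivial U₀ := Submodule.nontrivial_iff_ne_bot.2 hU₀bot
    obtain ⟨k, hk⟩ := ih (finrank F U₀) hlt T U₀ ρ' (hG.to_subgroup T)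
      (fun t => Subtype.ext (by simpa using hexp t.1)) inferInstance hirr' rfl
    refine ⟨j + k, ?_⟩
    rw [← hd, hdim, hcard, hk, pow_add]

end pow

end Cfsg.Agent.Lib.Helper3.MaxC
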