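import Mathlib
import Cfsg.Prelude
import Cfsg.Agent.Lib.Helper3.MaxC3

set_option autoImplicit false
set_option maxHeartbeats 4000000
set_option maxRecDepth 100000
set_option linter.unusedVariables false
set_option linter.unusedSectionVars false
set_option linter.style.haveILetI false
set_option linter.deprecated false

/-! Parameters of the members of the geometric classes. -/

namespace Cfsg.Agent.Lib.Helper3.MaxC

open Matrix Cfsg Cfsg.Geo Module

universe u

variable {F : Type u} [Field F] {n : ℕ}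

/-- the natural representation of a subgroup of the general linear group -/
noncomputable def natRep (R : Subgroup (GL (Fin n) F)) : R →* Module.End F (Fin n → F) where
  toFun g := Matrix.toLin' (g.1 : Matrix (Fin n) (Fin n) F)
  map_one' := by
    show Matrix.toLin' ((1 : GL (Fin n) F) : Matrix (Fin n) (Fin n) F) = 1
    rw [Units.val_one, Matrix.toLin'_one]
    rfl
  map_mul' := by
    intro g h
    show Matrix.toLin' ((g.1 * h.1 : GL (Fin n) F) : Matrix (Fin n) (Fin n) F) = _
    rw [Units.val_mul, Matrix.toLin'_mul]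
    rfl

theorem natRep_apply (R : Subgroup (GL (Fin n) F)) (g : R) (x : Fin n → F) :
    natRep R g x = (g.1 : Matrix (Fin n) (Fin n) F) *ᵥ x := rfl

theorem pow_of_class6 [Fintype F] (hn : 3 ≤ n) {r : ℕ} {R : Subgroup (GL (Fin n) F)}
    (hR : IsLinearSymplecticTypeData r R) : ∃ k, n = r ^ k := by
  classical
  haveI hrf : Fact r.Prime := ⟨hR.symplecticType.prime⟩
  obtain ⟨p, e, hrp, hmin, hcases⟩ := hR.field
  -- the exponent equals the order of the centre
  have hE : Monoid.exponent R = Nat.card (Subgroup.center R) := by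
    rw [hR.symplecticType.exponent_eq]
    rcases hcases with ⟨hodd, -, hZ, -⟩ | ⟨rfl, -, hZ, -⟩ | ⟨-, -, hcard, -⟩
    · rw [hZ]
      have : Nat.gcd 2 r = 1 := Nat.coprime_two_left.2 hodd
      rw [this, mul_one]
    · rw [hZ]
      rfl
    · rw [Fintype.card_fin] at hcard
      omega
  have hEpos : 0 < Monoid.exponent R := by
    rw [hR.symplecticType.exponent_eq]
    exact Nat.mul_pos hrf.out.pos (Nat.gcd_pos_of_pos_left _ (by norm_num))
  -- a generator of the centre
  have hcyc : IsCyclic (Subgroup.center R) :=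
    hR.symplecticType.cyclic_of_characteristic (Subgroup.center R) inferInstance inferInstance
  obtain ⟨z₀, hz₀⟩ := IsCyclic.exists_ofOrder_eq_natCard (α := Subgroup.center R)
  -- it is a scalar
  obtain ⟨c, hc⟩ := hR.absIrred.2 ((z₀.1.1 : GL (Fin n) F) : Matrix (Fin n) (Fin n) F) (by
    rintro s ⟨g, hg, rfl⟩
    have h1 := Subgroup.mem_center_iff.1 z₀.2 ⟨g, hg⟩
    have h2 := congrArg (fun x : R => ((x.1 : GL (Fin n) F) : Matrix (Fin n) (Fin n) F)) h1
    simp only [Subgroup.coe_mul, Units.val_mul] at h2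
    exact h2.symm)
  have hpow : ∀ k : ℕ, z₀ ^ k = 1 ↔ c ^ k = 1 := by
    intro k
    have h1 : z₀ ^ k = 1 ↔ ((z₀.1.1 : GL (Fin n) F) : Matrix (Fin n) (Fin n) F) ^ k = 1 := by
      constructor
      · intro h
        have h2 := congrArg (fun x : Subgroup.center R =>
          ((x.1.1 : GL (Fin n) F) : Matrix (Fin n) (Fin n) F)) h
        simpa using h2
      · intro h
        apply Subtype.ext
        apply Subtype.ext
        apply Units.ext
        simpa using h
    rw [h1, hc, smul_pow, one_pow]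
    constructor
    · intro h
      have := congrFun (congrFun h ⟨0, by omega⟩) ⟨0, by omega⟩
      simpa using this
    · intro h
      rw [h, one_smul]
  have hord : orderOf c = Monoid.exponent R := by
    rw [hE, ← hz₀]
    exact (orderOf_eq_orderOf_iff.2 hpow).symm
  have hζ : IsPrimitiveRoot c (Monoid.exponent R) := hord ▸ IsPrimitiveRoot.orderOf c
  haveI : Nonempty (Fin n) := ⟨⟨0, by omega⟩⟩
  have hirr : RepIrr (natRep R) := by
    intro W hW
    apply hR.absIrred.1 W
    rintro s ⟨g, hg, rfl⟩ y ⟨x, hx, rfl⟩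
    exact hW ⟨g, hg⟩ x hx
  have := finrank_pow_aux r (Monoid.exponent R) hEpos c hζ n R (Fin n → F) (natRep R)
    hR.symplecticType.pGroup (fun g => Monoid.pow_exponent_eq_one g) inferInstance hirr
    (Module.finrank_fin_fun F)
  exact this

theorem minimal_dvd {r p e : ℕ} (hr : r.Prime) (hp : p.Prime) (hrp : r ≠ p) (he : 0 < e)
    (h1 : r ∣ p ^ e - 1) (h2 : ∀ d : ℕ, 0 < d → d < e → ¬ r ∣ p ^ d - 1) : e ∣ r - 1 := by
  haveI : Fact r.Prime := ⟨hr⟩
  have hconv : ∀ d : ℕ, r ∣ p ^ d - 1 ↔ ((p : ZMod r)) ^ d = 1 := by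
    intro d
    have hpos : 1 ≤ p ^ d := Nat.one_le_pow _ _ hp.pos
    rw [← ZMod.natCast_eq_zero_iff, Nat.cast_sub hpos, Nat.cast_pow, Nat.cast_one, sub_eq_zero]
  have hp0 : (p : ZMod r) ≠ 0 := by
    rw [Ne, ZMod.natCast_eq_zero_iff]
    intro h
    exact hrp ((Nat.prime_dvd_prime_iff_eq hr hp).1 h)
  have hord : orderOf (p : ZMod r) = e := by
    rw [orderOf_eq_iff he]
    refine ⟨(hconv e).1 h1, fun m hm hm0 h => h2 m hm0 hm ((hconv m).2 h)⟩
  rw [← hord]
  exact orderOf_dvd_of_pow_eq_one (ZMod.pow_card_sub_one_eq_one hp0)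

/-- the numerical data of a class-6 member in dimension at least three -/
theorem class6_params [Fintype F] (hn : 3 ≤ n) {r : ℕ} {R : Subgroup (GL (Fin n) F)}
    (hR : IsLinearSymplecticTypeData r R) :
    ∃ p e k : ℕ, p.Prime ∧ CharP F p ∧ Fintype.card F = p ^ e ∧ n = r ^ k ∧ r.Prime ∧ r ≠ p ∧
      ((Odd r ∧ Odd e ∧ e ∣ r - 1 ∧ r ∣ p ^ e - 1 ∧ ∀ d : ℕ, 0 < d → d < e → ¬ r ∣ p ^ d - 1) ∨
        (r = 2 ∧ e = 1 ∧ p % 4 = 1)) := by
  obtain ⟨k, hk⟩ := pow_of_class6 hn hR
  obtain ⟨p, e, hrp, ⟨hp, hchar, hcard, hdvd, hmin⟩, hcases⟩ := hR.field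
  refine ⟨p, e, k, hp, hchar, hcard, hk, hR.symplecticType.prime, hrp, ?_⟩
  rcases hcases with ⟨hodd, hoe, hZ, -⟩ | ⟨rfl, rfl, hZ, -⟩ | ⟨-, -, hcard2, -⟩
  · left
    rw [hZ] at hdvd hmin
    exact ⟨hodd, hoe, minimal_dvd hR.symplecticType.prime hp hrp hoe.pos hdvd hmin, hdvd, hmin⟩
  · right
    rw [hZ, pow_one] at hdvd
    have := hp.two_le
    refine ⟨rfl, rfl, ?_⟩
    omega
  · rw [Fintype.card_fin] at hcard2
    omega

end Cfsg.Agent.Lib.Helper3.MaxC
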