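import Mathlib
import Cfsg.Prelude
import Cfsg.Agent.Lib.Helper3.MaxC2

set_option autoImplicit false
set_option maxHeartbeats 4000000
set_option maxRecDepth 100000
set_option linter.unusedVariables false
set_option linter.unusedSectionVars false
set_option linter.style.haveILetI false
set_option linter.deprecated false

/-! Properness of the stabilisers of tensor decompositions with equal factors; degrees of field
subalgebras. -/

namespace Cfsg.Agent.Lib.Helper3.MaxC

open Matrix Cfsg Cfsg.Geo Module

variable {F : Type*} [Field F] {n : ℕ}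

section wreath
variable {m t : ℕ}

/-- a pure vector: a product of one function per tensor factor -/
def IsPureVec (v : (Fin t → Fin m) → F) : Prop :=
  ∃ a : Fin t → Fin m → F, ∀ y, v y = ∏ i, a i (y i)

/-- the matrix maps pure vectors to pure vectors -/
def PresPure (g : Matrix (Fin t → Fin m) (Fin t → Fin m) F) : Prop :=
  ∀ v, IsPureVec v → IsPureVec (g *ᵥ v)

theorem presPure_one : PresPure (1 : Matrix (Fin t → Fin m) (Fin t → Fin m) F) := by
  intro v hv
  rwa [Matrix.one_mulVec]

theorem presPure_mul {g h : Matrix (Fin t → Fin m) (Fin t → Fin m) F} (hg : PresPure g)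
    (hh : PresPure h) : PresPure (g * h) := by
  intro v hv
  rw [← Matrix.mulVec_mulVec]
  exact hg _ (hh _ hv)

theorem presPure_pow {g : Matrix (Fin t → Fin m) (Fin t → Fin m) F} (hg : PresPure g) (k : ℕ) :
    PresPure (g ^ k) := by
  induction k with
  | zero => rw [pow_zero]; exact presPure_one
  | succ k ih => rw [pow_succ]; exact presPure_mul ih hg

theorem presPure_of_pureTensor (g : GL (Fin t → Fin m) F) (hg : IsPureTensor m t g) :
    PresPure (g : Matrix (Fin t → Fin m) (Fin t → Fin m) F) := by
  classical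
  obtain ⟨gs, hgs⟩ := hg
  rintro v ⟨a, ha⟩
  refine ⟨fun i => (gs i : Matrix (Fin m) (Fin m) F) *ᵥ a i, fun x => ?_⟩
  simp only [Matrix.mulVec, dotProduct]
  rw [Finset.prod_univ_sum, Fintype.piFinset_univ]
  refine Finset.sum_congr rfl fun y _ => ?_
  rw [hgs, ha, ← Finset.prod_mul_distrib]

theorem presPure_of_factorPerm (g : GL (Fin t → Fin m) F) (hg : IsFactorPermutation m t g) :
    PresPure (g : Matrix (Fin t → Fin m) (Fin t → Fin m) F) := by
  classical
  obtain ⟨σ, hσ⟩ := hg
  rintro v ⟨a, ha⟩
  refine ⟨fun j => a (σ.symm j), fun x => ?_⟩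
  have h1 : ((g : Matrix (Fin t → Fin m) (Fin t → Fin m) F) *ᵥ v) x = v (x ∘ σ) := by
    simp only [Matrix.mulVec, dotProduct]
    rw [Finset.sum_eq_single (x ∘ σ)]
    · rw [hσ, if_pos rfl, one_mul]
    · intro y _ hy
      rw [hσ, if_neg hy, zero_mul]
    · intro h
      exact absurd (Finset.mem_univ _) h
  rw [h1, ha]
  rw [← Equiv.prod_comp σ (fun j => a (σ.symm j) (x j))]
  refine Finset.prod_congr rfl fun i _ => ?_
  simp

theorem presPure_of_mem_standard [Fintype F] (g : GL (Fin t → Fin m) F)
    (hg : g ∈ tensorWreathStandard m t F) :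
    PresPure (g : Matrix (Fin t → Fin m) (Fin t → Fin m) F) := by
  classical
  unfold tensorWreathStandard at hg
  induction hg using Subgroup.closure_induction with
  | mem x hx =>
    rcases hx with hx | hx
    · exact presPure_of_pureTensor x hx
    · exact presPure_of_factorPerm x hx
  | one => rw [Units.val_one]; exact presPure_one
  | mul x y _ _ hx hy => rw [Units.val_mul]; exact presPure_mul hx hy
  | inv x _ hx =>
    have h1 : x⁻¹ = x ^ (orderOf x - 1) := by
      apply inv_eq_of_mul_eq_one_right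
      rw [← pow_succ', Nat.sub_add_cancel (orderOf_pos x), pow_orderOf_eq_one]
    rw [h1, Units.val_pow_eq_pow_val]
    exact presPure_pow hx _

theorem not_presPure_transvection (hm : 2 ≤ m) (ht : 2 ≤ t) :
    ¬ PresPure (Matrix.transvection (fun _ : Fin t => (⟨0, by omega⟩ : Fin m))
      (fun _ : Fin t => (⟨1, by omega⟩ : Fin m)) (1 : F)) := by
  classical
  intro hP
  set k0 : Fin m := ⟨0, by omega⟩ with hk0
  set k1 : Fin m := ⟨1, by omega⟩ with hk1
  have hk : k0 ≠ k1 := by simp [hk0, hk1, Fin.ext_iff]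
  set c0 : Fin t → Fin m := fun _ => k0 with hc0
  set c1 : Fin t → Fin m := fun _ => k1 with hc1
  set i₀ : Fin t := ⟨0, by omega⟩ with hi₀
  set i₁ : Fin t := ⟨1, by omega⟩ with hi₁
  have hi : i₀ ≠ i₁ := by simp [hi₀, hi₁, Fin.ext_iff]
  have hc : c0 ≠ c1 := fun h => hk (congrFun h i₀)
  -- the vector e_{c1} is pure
  have hpure : IsPureVec (Pi.single c1 (1 : F) : (Fin t → Fin m) → F) := by
    refine ⟨fun _ => Pi.single k1 1, fun y => ?_⟩
    simp only [Pi.single_apply]
    rw [Finset.prod_boole]
    congr 1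
    simp only [Finset.mem_univ, forall_true_left, eq_iff_iff]
    exact ⟨fun h i => congrFun h i, fun h => funext h⟩
  obtain ⟨a, ha⟩ := hP _ hpure
  have hw : ∀ y, (Matrix.transvection c0 c1 (1 : F) *ᵥ (Pi.single c1 (1 : F))) y =
      (if y = c1 then 1 else 0) + (if y = c0 then 1 else 0) := by
    intro y
    rw [Matrix.mulVec_single_one, Matrix.col_apply]
    simp only [Matrix.transvection, Matrix.add_apply, Matrix.one_apply, Matrix.single_apply,
      and_true]
    by_cases h0 : y = c0
    · subst h0
      simp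
    · have h1 : ¬ c0 = y := fun h => h0 h.symm
      simp [h0, h1]
  set y₁ : Fin t → Fin m := Function.update c0 i₀ k1 with hy₁
  set y₂ : Fin t → Fin m := Function.update c1 i₀ k0 with hy₂
  have hy₁0 : y₁ ≠ c0 := fun h => hk (by
    have := congrFun h i₀
    rw [hy₁, Function.update_self] at this
    exact this.symm)
  have hy₁1 : y₁ ≠ c1 := fun h => hk (by
    have := congrFun h i₁
    rw [hy₁, Function.update_of_ne hi.symm] at this
    exact this)
  have hy₂0 : y₂ ≠ c0 := fun h => hk (by
    have := congrFun h i₁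
    rw [hy₂, Function.update_of_ne hi.symm] at this
    exact this.symm)
  have e0 := ha c0
  have e1 := ha c1
  have e2 := ha y₁
  have e3 := ha y₂
  rw [hw] at e0 e1 e2 e3
  rw [if_neg hc, if_pos rfl, zero_add] at e0
  rw [if_pos rfl, if_neg hc.symm, add_zero] at e1
  rw [if_neg hy₁1, if_neg hy₁0, add_zero] at e2
  have key : (∏ i, a i (y₁ i)) * (∏ i, a i (y₂ i)) = (∏ i, a i (c0 i)) * (∏ i, a i (c1 i)) := by
    rw [← Finset.prod_mul_distrib, ← Finset.prod_mul_distrib]
    refine Finset.prod_congr rfl fun i _ => ?_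
    by_cases h : i = i₀
    · subst h
      rw [hy₁, hy₂, Function.update_self, Function.update_self, mul_comm]
    · rw [hy₁, hy₂, Function.update_of_ne h, Function.update_of_ne h]
  rw [← e0, ← e1, ← e2, zero_mul, one_mul] at key
  exact zero_ne_one key

theorem not_le_wreath [Fintype F] (hm : 2 ≤ m) (ht : 2 ≤ t) (e : Fin n ≃ (Fin t → Fin m))
    (P : GL (Fin n) F) :
    ¬ specialLinear (Fin n) F ≤ tensorWreathSubgroup m t e P := by
  classical
  intro hle
  set c0 : Fin t → Fin m := fun _ => (⟨0, by omega⟩ : Fin m) with hc0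
  set c1 : Fin t → Fin m := fun _ => (⟨1, by omega⟩ : Fin m) with hc1
  have hc : c0 ≠ c1 := fun h => by
    have := congrFun h ⟨0, by omega⟩
    simp [hc0, hc1, Fin.ext_iff] at this
  have hdetT : (Matrix.transvection c0 c1 (1 : F)).det = 1 :=
    Matrix.det_transvection_of_ne _ _ hc 1
  set x : GL (Fin t → Fin m) F := Matrix.GeneralLinearGroup.mk'' (Matrix.transvection c0 c1 (1 : F))
    (by rw [hdetT]; exact isUnit_one) with hx
  have hxc : (x : Matrix (Fin t → Fin m) (Fin t → Fin m) F) = Matrix.transvection c0 c1 (1 : F) := rfl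
  have hx1 : glReindex e.symm x ∈ specialLinear (Fin n) F := by
    rw [mem_SL_iff]
    show (Matrix.reindexAlgEquiv F F e.symm (x : Matrix (Fin t → Fin m) (Fin t → Fin m) F)).det = 1
    rw [Matrix.det_reindexAlgEquiv, hxc, hdetT]
  have hx2 : P * glReindex e.symm x * P⁻¹ ∈ specialLinear (Fin n) F :=
    specialLinear_normal.conj_mem _ hx1 P
  obtain ⟨u, ⟨y, hy, rfl⟩, hu⟩ := hle hx2
  have h1 : P * (glReindex e.symm y) * P⁻¹ = P * glReindex e.symm x * P⁻¹ := hu
  have h2 : glReindex e.symm y = glReindex e.symm x := mul_left_cancel (mul_right_cancel h1)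
  have h3 : y = x := (glReindex (F := F) e.symm).injective h2
  rw [h3] at hy
  have h4 := presPure_of_mem_standard x hy
  rw [hxc] at h4
  exact not_presPure_transvection hm ht h4

end wreath

section fielddeg

/-- the degree of a field acting on `F^n` divides `n` -/
theorem finrank_dvd_of_algHom {L : Type*} [Field L] [Algebra F L]
    (ι : L →ₐ[F] Matrix (Fin n) (Fin n) F) (hpos : 0 < finrank F L) : finrank F L ∣ n := by
  letI modL : Module L (Fin n → F) := Module.compHom (Fin n → F)
    ((((Matrix.toLinAlgEquiv' : Matrix (Fin n) (Fin n) F ≃ₐ[F] Module.End F (Fin n → F)) :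
      Matrix (Fin n) (Fin n) F →ₐ[F] Module.End F (Fin n → F)).comp ι) :
        L →+* Module.End F (Fin n → F))
  have hsmul : ∀ (l : L) (x : Fin n → F), l • x = (ι l) *ᵥ x := fun l x => rfl
  haveI : IsScalarTower F L (Fin n → F) := by
    refine ⟨fun c l x => ?_⟩
    rw [hsmul, hsmul, map_smul, Matrix.smul_mulVec]
  haveI : FiniteDimensional F L := Module.finite_of_finrank_pos hpos
  haveI : FiniteDimensional L (Fin n → F) :=
    Module.Finite.of_restrictScalars_finite F L (Fin n → F)
  have hmul : finrank F L * finrank L (Fin n → F) = n := by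
    rw [Module.finrank_mul_finrank F L (Fin n → F)]
    simp
  exact ⟨_, hmul.symm⟩

theorem dvd_of_fieldSubalgebra {r : ℕ} (hr : 0 < r) {K : Subalgebra F (Matrix (Fin n) (Fin n) F)}
    (hK : IsFieldSubalgebra r K) : r ∣ n := by
  classical
  have hfld : IsField ↥K := by
    refine ⟨?_, ?_, ?_⟩
    · haveI : Nontrivial ↥K := by
        apply (Module.finrank_pos_iff (R := F)).mp
        rw [hK.finrank_eq]
        exact hr
      exact exists_pair_ne ↥K
    · intro x y
      exact Subtype.ext (hK.comm x.1 x.2 y.1 y.2)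
    · intro a ha
      have ha' : a.1 ≠ 0 := fun h => ha (Subtype.ext h)
      obtain ⟨y, hy, hay⟩ := hK.inv a.1 a.2 ha'
      exact ⟨⟨y, hy⟩, Subtype.ext hay⟩
  letI : Field ↥K := hfld.toField
  have hfr : Module.finrank F ↥K = r := hK.finrank_eq
  have h := finrank_dvd_of_algHom (F := F) (L := ↥K) (n := n) K.val (by rw [hfr]; exact hr)
  rwa [hfr] at h

end fielddeg

end Cfsg.Agent.Lib.Helper3.MaxC
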