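import Mathlib
import Cfsg.Prelude
import Cfsg.Agent.Lib.Helper3.MaxC4
import Cfsg.Agent.Lib.Helper3.MaxC5
import Cfsg.Agent.Lib.Helper5.TensorTwoF2
import Cfsg.Agent.Lib.Helper8.AschZ1

set_option autoImplicit false
set_option maxHeartbeats 4000000
set_option maxRecDepth 100000
set_option linter.unusedVariables false
set_option linter.unusedSectionVars false
set_option linter.style.haveILetI false
set_option linter.deprecated false

/-! The possible types of a maximal subgroup of the special linear group, with their parameters. -/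

namespace Cfsg.Agent.Lib.Helper3.MaxC

open Matrix Cfsg Cfsg.Geo Module

universe u

variable {F : Type u} [Field F] {n : ℕ}

section small
open Cfsg.Agent.Lib.Helper5.LinDecompForm

theorem decomp_small_between [Fintype F] {t : ℕ} (m : ℕ) (D : Fin t → Submodule F (Fin n → F))
    (hD : IsMDecomposition m D)
    (h : (m = 1 ∧ (((Fintype.card F = 2 ∨ Fintype.card F = 4) ∧ 4 ≤ t) ∨
      (Fintype.card F = 3 ∧ 5 ≤ t))) ∨ (m = 2 ∧ Fintype.card F = 2)) :
    ∃ K : Subgroup (GL (Fin n) F),
      decompositionStabilizer D ⊓ specialLinear (Fin n) F < K ∧ K < specialLinear (Fin n) F := by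
  have hs1 : ∀ a b : F, (a + b) ^ 1 = a ^ 1 + b ^ 1 := fun a b => by ring
  have hss1 : ∀ c : F, (c ^ 1) ^ 1 = c := fun c => by ring
  have hc0 : (Fintype.card F : F) = 0 := Nat.cast_card_eq_zero F
  rcases h with ⟨rfl, hq⟩ | ⟨rfl, hq⟩
  · rcases hq with ⟨hq' | hq', ht⟩ | ⟨hq', ht⟩
    · -- two elements
      have h2 : (2 : F) = 0 := by rw [hq'] at hc0; exact_mod_cast hc0
      have hnorm : ∀ c : F, c ≠ 0 → c * c ^ 1 = 1 := by
        intro c hc
        have := FiniteField.pow_card_sub_one_eq_one c hc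
        rw [hq'] at this
        have h1 : c = 1 := by simpa using this
        rw [h1]; ring
      exact not_maximal_of_form hD 1 one_ne_zero hs1
        (fun g hg => stab_preserves hD 1 one_ne_zero hs1 g hg
          (block_one hD 1 one_ne_zero hs1 hnorm g hg))
        (wit_one_char2 hD 1 one_ne_zero hs1 h2 hss1 ht)
    · -- four elements
      have h4 : (4 : F) = 0 := by rw [hq'] at hc0; exact_mod_cast hc0
      have h2 : (2 : F) = 0 := by
        have : (2 : F) * 2 = 0 := by linear_combination h4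
        exact mul_self_eq_zero.mp this
      have hs2 : ∀ a b : F, (a + b) ^ 2 = a ^ 2 + b ^ 2 := by
        intro a b
        linear_combination a * b * h2
      have hss2 : ∀ c : F, (c ^ 2) ^ 2 = c := by
        intro c
        have := FiniteField.pow_card c
        rw [hq'] at this
        rw [← pow_mul]
        exact this
      have hnorm : ∀ c : F, c ≠ 0 → c * c ^ 2 = 1 := by
        intro c hc
        have := FiniteField.pow_card_sub_one_eq_one c hc
        rw [hq'] at this
        linear_combination this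
      exact not_maximal_of_form hD 2 two_ne_zero hs2
        (fun g hg => stab_preserves hD 2 two_ne_zero hs2 g hg
          (block_one hD 2 two_ne_zero hs2 hnorm g hg))
        (wit_one_char2 hD 2 two_ne_zero hs2 h2 hss2 ht)
    · -- three elements
      have h3 : (3 : F) = 0 := by rw [hq'] at hc0; exact_mod_cast hc0
      have hnorm : ∀ c : F, c ≠ 0 → c * c ^ 1 = 1 := by
        intro c hc
        have := FiniteField.pow_card_sub_one_eq_one c hc
        rw [hq'] at this
        linear_combination this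
      exact not_maximal_of_form hD 1 one_ne_zero hs1
        (fun g hg => stab_preserves hD 1 one_ne_zero hs1 g hg
          (block_one hD 1 one_ne_zero hs1 hnorm g hg))
        (wit_one_char3 hD 1 one_ne_zero hs1 h3 hss1 ht)
  · exact not_maximal_of_form hD 1 one_ne_zero hs1
      (fun g hg => stab_preserves hD 1 one_ne_zero hs1 g hg (block_two hD hq g hg))
      (wit_two hD hq)

end small

/-- the possible types of a maximal subgroup of the special linear group -/
theorem cases_of_max [Fintype F] (hn : 3 ≤ n) (H : Subgroup (GL (Fin n) F))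
    (hH : IsMaximalIn (specialLinear (Fin n) F) H) :
    (∃ W : Submodule F (Fin n → F), W ≠ ⊥ ∧ W ≠ ⊤ ∧
      H = subspaceStabilizer W ⊓ specialLinear (Fin n) F) ∨
    (∃ (t m : ℕ) (D : Fin t → Submodule F (Fin n → F)), IsMDecomposition m D ∧ t * m = n ∧
      ¬ (m = 1 ∧ (((Fintype.card F = 2 ∨ Fintype.card F = 4) ∧ 4 ≤ t) ∨
        (Fintype.card F = 3 ∧ 5 ≤ t))) ∧ ¬ (m = 2 ∧ Fintype.card F = 2) ∧
      H = decompositionStabilizer D ⊓ specialLinear (Fin n) F) ∨
    (∃ (r : ℕ) (K : Subalgebra F (Matrix (Fin n) (Fin n) F)), r.Prime ∧ r ∣ n ∧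
      IsFieldSubalgebra r K ∧ H = subalgebraNormalizer K ⊓ specialLinear (Fin n) F) ∨
    (∃ (n₁ n₂ : ℕ) (e : Fin n ≃ Fin n₁ × Fin n₂) (P : GL (Fin n) F), 2 ≤ n₁ ∧ n₁ < n₂ ∧
      n₁ * n₂ = n ∧ ¬ (n₁ = 2 ∧ Fintype.card F = 2) ∧
      H = tensorProductSubgroup n₁ n₂ e P ⊓ specialLinear (Fin n) F) ∨
    (∃ (F₀ : Subfield F) (r : ℕ) (P : GL (Fin n) F), r.Prime ∧
      Fintype.card F = Nat.card F₀ ^ r ∧ H = subfieldSubgroup F₀ P ⊓ specialLinear (Fin n) F) ∨
    (∃ (r : ℕ) (R : Subgroup (GL (Fin n) F)), IsLinearSymplecticTypeData r R ∧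
      (∃ p e k : ℕ, p.Prime ∧ CharP F p ∧ Fintype.card F = p ^ e ∧ n = r ^ k ∧ r.Prime ∧ r ≠ p ∧
        ((Odd r ∧ Odd e ∧ e ∣ r - 1 ∧ r ∣ p ^ e - 1 ∧
            ∀ d : ℕ, 0 < d → d < e → ¬ r ∣ p ^ d - 1) ∨ (r = 2 ∧ e = 1 ∧ p % 4 = 1))) ∧
      H = subgroupNormalizer R ⊓ specialLinear (Fin n) F) ∨
    (∃ (m t : ℕ) (e : Fin n ≃ (Fin t → Fin m)) (P : GL (Fin n) F), 3 ≤ m ∧ 2 ≤ t ∧ m ^ t = n ∧
      H = tensorWreathSubgroup m t e P ⊓ specialLinear (Fin n) F) ∨
    (∃ f : (Fin n → F) → (Fin n → F) → F, IsSymplecticForm f ∧ Even n ∧ 4 ≤ n ∧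
      H = similarityGroup f ⊓ specialLinear (Fin n) F) ∨
    (∃ (σ : F ≃+* F) (f : (Fin n → F) → (Fin n → F) → F), IsUnitaryForm σ f ∧
      H = similarityGroup f ⊓ specialLinear (Fin n) F) ∨
    (∃ Q : (Fin n → F) → F, IsNondegenerateQuadraticForm Q ∧ Odd (Fintype.card F) ∧
      H = quadSimilarityGroup Q ⊓ specialLinear (Fin n) F) ∨
    InLinearResidualClass H := by
  classical
  rcases Cfsg.Agent.Lib.Helper8.Asch.main hn H with ⟨M, hM, hle⟩ | hres
  swap
  · iterate 10 right
    exact hres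
  rcases hM with ⟨W, h0, h1, rfl⟩ | ⟨W, U, h0, hWU, -, rfl⟩ | ⟨W, U, h0, hinf, hsup, hlt, rfl⟩ |
    ⟨t, m, D, hD, rfl⟩ | ⟨r, K, hr, hK, rfl⟩ | ⟨n₁, n₂, e, P, h1, h2, rfl⟩ |
    ⟨F₀, r, P, hr, hcard, rfl⟩ | ⟨r, R, hR, rfl⟩ | ⟨m, t, e, P, hm, ht, rfl⟩ |
    ⟨f, hf, hev, h4, rfl⟩ | ⟨σ, f, hf, -, rfl⟩ | ⟨Q, hQ, hodd, -, rfl⟩
  · left
    exact ⟨W, h0, h1, eq_inf_of_le hH hle (not_le_stab W h0 h1)⟩
  · left
    have h1 : W ≠ ⊤ := fun h => by
      rw [h] at hWU
      exact not_top_lt hWU
    exact ⟨W, h0, h1, eq_inf_of_le hH (hle.trans inf_le_left) (not_le_stab W h0 h1)⟩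
  · left
    have h1 : W ≠ ⊤ := fun h => by
      rw [h, finrank_top] at hlt
      exact absurd (Submodule.finrank_le U) (not_le_of_gt hlt)
    exact ⟨W, h0, h1, eq_inf_of_le hH (hle.trans inf_le_left) (not_le_stab W h0 h1)⟩
  · right; left
    have hcard := Cfsg.Agent.Lib.Helper5.LinDecompForm.card_eq hD
    refine ⟨t, m, D, hD, hcard, ?_, ?_, eq_inf_of_le hH hle (not_le_decomp hD)⟩
    · intro h
      exact false_of_between hH hle (decomp_small_between m D hD (Or.inl h))
    · intro h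
      exact false_of_between hH hle (decomp_small_between m D hD (Or.inr h))
  · right; right; left
    exact ⟨r, K, hr, dvd_of_fieldSubalgebra hr.pos hK, hK,
      eq_inf_of_le hH hle (not_le_fieldNormalizer hn hr.two_le hK)⟩
  · right; right; right; left
    have hcard : n₁ * n₂ = n := by
      have := Fintype.card_congr e
      rw [Fintype.card_fin, Fintype.card_prod, Fintype.card_fin, Fintype.card_fin] at this
      exact this.symm
    refine ⟨n₁, n₂, e, P, h1, h2, hcard, ?_,
      eq_inf_of_le hH hle (not_le_tensor h1 (by omega) e P)⟩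
    rintro ⟨rfl, hq⟩
    exact false_of_between hH hle
      (Cfsg.Agent.Lib.Helper5.TensorTwoF2.not_maximal hq (by omega) e P)
  · iterate 4 right
    left
    exact ⟨F₀, r, P, hr, hcard,
      eq_inf_of_le hH hle (not_le_subfield (by omega) F₀ (subfield_ne_top F₀ hr hcard) P)⟩
  · iterate 5 right
    left
    exact ⟨r, R, hR, class6_params hn hR, eq_inf_of_le hH hle (not_le_class6 hn hR)⟩
  · iterate 6 right
    left
    have hcard : m ^ t = n := by
      have := Fintype.card_congr e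
      rw [Fintype.card_fin, Fintype.card_fun, Fintype.card_fin, Fintype.card_fin] at this
      exact this.symm
    exact ⟨m, t, e, P, hm, ht, hcard,
      eq_inf_of_le hH hle (not_le_wreath (by omega) ht e P)⟩
  · iterate 7 right
    left
    exact ⟨f, hf, hev, h4, eq_inf_of_le hH hle
      (not_le_similarity hn f hf.bilinear.add_left hf.bilinear.smul_left hf.nondegenerate)⟩
  · iterate 8 right
    left
    exact ⟨σ, f, hf, eq_inf_of_le hH hle
      (not_le_similarity hn f hf.add_left hf.smul_left hf.nondegenerate)⟩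
  · iterate 9 right
    left
    exact ⟨Q, hQ, hodd, eq_inf_of_le hH hle (not_le_quadSimilarity hn Q hQ)⟩

end Cfsg.Agent.Lib.Helper3.MaxC
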