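import Mathlib

set_option autoImplicit false
set_option maxHeartbeats 4000000
set_option maxRecDepth 100000
set_option linter.unusedVariables false
set_option linter.unusedSectionVars false
set_option linter.style.haveILetI false
set_option linter.deprecated false

/-! Arithmetic used for the lists of maximal subgroups in small dimensions. -/

namespace Cfsg.Agent.Lib.Helper3.MaxC

theorem nine_le_pow {m t : ℕ} (hm : 3 ≤ m) (ht : 2 ≤ t) : 9 ≤ m ^ t := by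
  calc 9 = 3 ^ 2 := by norm_num
    _ ≤ m ^ 2 := Nat.pow_le_pow_left hm 2
    _ ≤ m ^ t := Nat.pow_le_pow_right (by omega) ht

theorem pow_eq_nine {m t : ℕ} (hm : 3 ≤ m) (ht : 2 ≤ t) (h : m ^ t = 9) : m = 3 ∧ t = 2 := by
  have h1 : m ^ 2 ≤ m ^ t := Nat.pow_le_pow_right (by omega) ht
  have hm3 : m ≤ 3 := by
    by_contra hcon
    have : 4 ≤ m := by omega
    have : 4 ^ 2 ≤ m ^ 2 := Nat.pow_le_pow_left this 2
    omega
  have hm' : m = 3 := by omega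
  subst hm'
  refine ⟨rfl, ?_⟩
  by_contra hcon
  have : 3 ≤ t := by omega
  have : 3 ^ 3 ≤ 3 ^ t := Nat.pow_le_pow_right (by norm_num) this
  omega

theorem prime_eq_of_dvd_pow {r k q : ℕ} (hr : r.Prime) (hq : q.Prime) (h : q ∣ r ^ k) : q = r :=
  (Nat.prime_dvd_prime_iff_eq hq hr).1 (hq.dvd_of_dvd_pow h)

theorem dvd_pow_sub_one_iff {r p d : ℕ} (hp : 0 < p) :
    r ∣ p ^ d - 1 ↔ (p % r) ^ d % r = 1 % r := by
  have hpos : 1 ≤ p ^ d := Nat.one_le_pow _ _ hp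
  rw [← Nat.modEq_iff_dvd' hpos, ← Nat.pow_mod]
  unfold Nat.ModEq
  exact eq_comm

theorem c6_arith_3 {p e : ℕ} (hp : p.Prime) (hoe : Odd e) (hdiv : e ∣ 3 - 1)
    (h1 : 3 ∣ p ^ e - 1) : e = 1 ∧ p % 3 = 1 := by
  have he : e = 1 := by
    have : e ≤ 2 := Nat.le_of_dvd (by norm_num) hdiv
    obtain ⟨j, rfl⟩ := hoe
    omega
  subst he
  rw [pow_one] at h1
  have := hp.two_le
  exact ⟨rfl, by omega⟩

theorem c6_arith_5 {p e : ℕ} (hp : p.Prime) (hoe : Odd e) (hdiv : e ∣ 5 - 1)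
    (h1 : 5 ∣ p ^ e - 1) : e = 1 ∧ p % 5 = 1 := by
  have he : e = 1 := by
    have : e ≤ 4 := Nat.le_of_dvd (by norm_num) hdiv
    obtain ⟨j, rfl⟩ := hoe
    have hj : j ≤ 1 := by omega
    interval_cases j
    · rfl
    · omega
  subst he
  rw [pow_one] at h1
  have := hp.two_le
  exact ⟨rfl, by omega⟩

theorem c6_arith_7 {p e : ℕ} (hp : p.Prime) (hoe : Odd e) (hdiv : e ∣ 7 - 1)
    (h1 : 7 ∣ p ^ e - 1) (hmin : ∀ d : ℕ, 0 < d → d < e → ¬ 7 ∣ p ^ d - 1) :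
    (e = 1 ∧ p % 7 = 1) ∨ (e = 3 ∧ (p % 7 = 2 ∨ p % 7 = 4)) := by
  have he : e = 1 ∨ e = 3 := by
    have : e ≤ 6 := Nat.le_of_dvd (by norm_num) hdiv
    obtain ⟨j, rfl⟩ := hoe
    have hj : j ≤ 2 := by omega
    interval_cases j
    · left; rfl
    · right; rfl
    · omega
  have h2 := hp.two_le
  rcases he with rfl | rfl
  · left
    rw [pow_one] at h1
    exact ⟨rfl, by omega⟩
  · right
    refine ⟨rfl, ?_⟩
    have hm1 := hmin 1 (by norm_num) (by norm_num)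
    rw [dvd_pow_sub_one_iff hp.pos] at h1 hm1
    have hx : p % 7 < 7 := Nat.mod_lt _ (by norm_num)
    generalize p % 7 = x at *
    interval_cases x <;> simp_all

theorem c6_arith_11 {p e : ℕ} (hp : p.Prime) (hoe : Odd e) (hdiv : e ∣ 11 - 1)
    (h1 : 11 ∣ p ^ e - 1) (hmin : ∀ d : ℕ, 0 < d → d < e → ¬ 11 ∣ p ^ d - 1) :
    (e = 1 ∧ p % 11 = 1) ∨
      (e = 5 ∧ (p % 11 = 3 ∨ p % 11 = 4 ∨ p % 11 = 5 ∨ p % 11 = 9)) := by
  have he : e = 1 ∨ e = 5 := by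
    have : e ≤ 10 := Nat.le_of_dvd (by norm_num) hdiv
    obtain ⟨j, rfl⟩ := hoe
    have hj : j ≤ 4 := by omega
    interval_cases j
    · left; rfl
    · omega
    · right; rfl
    · omega
    · omega
  have h2 := hp.two_le
  rcases he with rfl | rfl
  · left
    rw [pow_one] at h1
    exact ⟨rfl, by omega⟩
  · right
    refine ⟨rfl, ?_⟩
    have hm1 := hmin 1 (by norm_num) (by norm_num)
    rw [dvd_pow_sub_one_iff hp.pos] at h1 hm1
    have hx : p % 11 < 11 := Nat.mod_lt _ (by norm_num)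
    generalize p % 11 = x at *
    interval_cases x <;> simp_all

theorem card_ge_five {q t : ℕ} (hq : 1 < q) (ht : 5 ≤ t)
    (h : ¬ (1 = 1 ∧ (((q = 2 ∨ q = 4) ∧ 4 ≤ t) ∨ (q = 3 ∧ 5 ≤ t)))) : 5 ≤ q := by
  by_contra hcon
  apply h
  refine ⟨rfl, ?_⟩
  have : q = 2 ∨ q = 3 ∨ q = 4 := by omega
  rcases this with h | h | h
  · left; exact ⟨Or.inl h, by omega⟩
  · right; exact ⟨h, ht⟩
  · left; exact ⟨Or.inr h, by omega⟩

end Cfsg.Agent.Lib.Helper3.MaxC
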