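import Mathlib

set_option autoImplicit false
set_option maxHeartbeats 4000000
set_option maxRecDepth 100000
set_option linter.unusedVariables false

/-! More arithmetic for the lists of maximal subgroups in small dimensions. -/

namespace Cfsg.Agent.Lib.Helper3.MaxC

theorem wreath_arith {m t n : ℕ} (hm : 3 ≤ m) (ht : 2 ≤ t) (h : m ^ t = n) (hn : n ≤ 12) :
    n = 9 ∧ m = 3 ∧ t = 2 := by
  have h1 : m ^ 2 ≤ m ^ t := Nat.pow_le_pow_right (by omega) ht
  have hm3 : m ≤ 3 := by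
    by_contra hcon
    have : 4 ≤ m := by omega
    have : 4 ^ 2 ≤ m ^ 2 := Nat.pow_le_pow_left this 2
    omega
  have hm' : m = 3 := by omega
  subst hm'
  have ht2 : t = 2 := by
    by_contra hcon
    have : 3 ≤ t := by omega
    have : 3 ^ 3 ≤ 3 ^ t := Nat.pow_le_pow_right (by norm_num) this
    omega
  subst ht2
  refine ⟨?_, rfl, rfl⟩
  rw [← h]
  norm_num

theorem three_le_card {q : ℕ} (hq : 1 < q) (h : ¬ (2 = 2 ∧ q = 2)) : 3 ≤ q := by
  by_contra hcon
  exact h ⟨rfl, by omega⟩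

theorem prime_pow_absurd {r k a b : ℕ} (hr : r.Prime) (ha : a.Prime) (hb : b.Prime) (hab : a ≠ b)
    (h1 : a ∣ r ^ k) (h2 : b ∣ r ^ k) : False := by
  have e1 := (Nat.prime_dvd_prime_iff_eq ha hr).1 (ha.dvd_of_dvd_pow h1)
  have e2 := (Nat.prime_dvd_prime_iff_eq hb hr).1 (hb.dvd_of_dvd_pow h2)
  exact hab (e1.trans e2.symm)

end Cfsg.Agent.Lib.Helper3.MaxC
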