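import Mathlib
import Cfsg.Prelude
import Cfsg.Agent.Lib.Helper3.MaxC2
import Cfsg.Agent.Lib.Helper5.LinDecompForm

set_option autoImplicit false
set_option maxHeartbeats 4000000
set_option maxRecDepth 100000
set_option linter.unusedVariables false
set_option linter.unusedSectionVars false
set_option linter.style.haveILetI false
set_option linter.deprecated false

/-! Decompositions into lines over the fields with at most four elements: the stabiliser lies in
a subspace stabiliser, an orthogonal or a unitary similarity group. -/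

namespace Cfsg.Agent.Lib.Helper3.MaxC

open Matrix Cfsg Cfsg.Geo Module
open Cfsg.Agent.Lib.Helper5.LinDecompForm

variable {F : Type*} [Field F] {n : ℕ}

section lines
variable {t m : ℕ} {D : Fin t → Submodule F (Fin n → F)} (hD : IsMDecomposition m D) (s : ℕ)

theorem form_bas_left (a : Fin t × Fin m) (y : Fin n → F) :
    form hD s (bas hD a) y = ((bas hD).repr y (tau a)) ^ s := by
  classical
  unfold form
  rw [Finset.sum_eq_single a]
  · rw [Module.Basis.repr_self, Finsupp.single_eq_same, one_mul]
  · intro b _ hb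
    rw [Module.Basis.repr_self, Finsupp.single_apply, if_neg (fun h => hb h.symm), zero_mul]
  · intro h
    exact absurd (Finset.mem_univ a) h

variable (hs0 : s ≠ 0) (hs : ∀ a b : F, (a + b) ^ s = a ^ s + b ^ s)

theorem form_nondeg_left (v : Fin n → F) (hv : v ≠ 0) : ∃ x, form hD s x v ≠ 0 := by
  have h1 : (bas hD).repr v ≠ 0 := fun h => hv ((bas hD).repr.map_eq_zero_iff.1 h)
  obtain ⟨a, ha⟩ : ∃ a, (bas hD).repr v a ≠ 0 := by
    by_contra hcon
    push Not at hcon
    exact h1 (Finsupp.ext hcon)
  refine ⟨bas hD (tau a), ?_⟩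
  rw [form_bas_left, tau_tau]
  exact pow_ne_zero s ha

include hs0 hs in
theorem form_nondeg (hss : ∀ c : F, (c ^ s) ^ s = c) : IsNondegenerateForm (form hD s) := by
  intro v hv
  obtain ⟨x, hx⟩ := form_nondeg_left hD s v hv
  refine ⟨⟨x, hx⟩, ⟨x, ?_⟩⟩
  rw [← form_conj hD s hs0 hs hss x v]
  exact pow_ne_zero s hx

end lines

section main
variable [Fintype F] {t : ℕ} {D : Fin t → Submodule F (Fin n → F)} (hD : IsMDecomposition 1 D)

theorem tau_one (a : Fin t × Fin 1) : tau a = a := by
  unfold tau
  ext
  · rfl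
  · simp [Subsingleton.elim (Fin.rev a.2) a.2]

include hD in
/-- two elements: the sum of the basis vectors is fixed -/
theorem lines_two (hn : 2 ≤ n) (hq : Fintype.card F = 2) :
    ∃ W : Submodule F (Fin n → F), W ≠ ⊥ ∧ W ≠ ⊤ ∧
      decompositionStabilizer D ≤ subspaceStabilizer W := by
  classical
  have hs1 : ∀ a b : F, (a + b) ^ 1 = a ^ 1 + b ^ 1 := fun a b => by ring
  have hss1 : ∀ c : F, (c ^ 1) ^ 1 = c := fun c => by ring
  have h01 : ∀ c : F, c = 0 ∨ c = 1 := fun c => eq_zero_or_one hq c
  have hnorm : ∀ c : F, c ≠ 0 → c * c ^ 1 = 1 := by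
    intro c hc
    rcases h01 c with h | h
    · exact absurd h hc
    · rw [h]; ring
  have hpres : ∀ g ∈ decompositionStabilizer D, ∀ x y : Fin n → F,
      form hD 1 ((g : Matrix (Fin n) (Fin n) F) *ᵥ x) ((g : Matrix (Fin n) (Fin n) F) *ᵥ y) =
        form hD 1 x y := fun g hg =>
    stab_preserves hD 1 one_ne_zero hs1 g hg (block_one hD 1 one_ne_zero hs1 hnorm g hg)
  have hnd := form_nondeg hD 1 one_ne_zero hs1 hss1
  set u : Fin n → F := ∑ a, bas hD a with hu
  have hrepr : ∀ a, (bas hD).repr u a = 1 := by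
    intro a
    rw [hu, map_sum, Finsupp.finset_sum_apply, Finset.sum_eq_single a]
    · rw [Module.Basis.repr_self, Finsupp.single_eq_same]
    · intro b _ hb
      rw [Module.Basis.repr_self, Finsupp.single_apply, if_neg hb]
    · intro h
      exact absurd (Finset.mem_univ a) h
  have hkey : ∀ x : Fin n → F, form hD 1 x u = form hD 1 x x := by
    intro x
    unfold form
    refine Finset.sum_congr rfl fun a _ => ?_
    rw [hrepr, tau_one, pow_one, pow_one, mul_one]
    rcases h01 ((bas hD).repr x a) with h | h <;> rw [h] <;> ring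
  have hfix : ∀ g ∈ decompositionStabilizer D, (g : Matrix (Fin n) (Fin n) F) *ᵥ u = u := by
    intro g hg
    by_contra hne
    have hne' : (g : Matrix (Fin n) (Fin n) F) *ᵥ u - u ≠ 0 := sub_ne_zero.2 hne
    obtain ⟨x, hx⟩ := (hnd _ hne').1
    apply hx
    have hginv : g⁻¹ ∈ decompositionStabilizer D := inv_mem hg
    have hxg : (g : Matrix (Fin n) (Fin n) F) *ᵥ
        (((g⁻¹ : GL (Fin n) F) : Matrix (Fin n) (Fin n) F) *ᵥ x) = x := by
      rw [Matrix.mulVec_mulVec, ← Units.val_mul, mul_inv_cancel, Units.val_one, Matrix.one_mulVec]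
    have e1 : form hD 1 x ((g : Matrix (Fin n) (Fin n) F) *ᵥ u) = form hD 1 x u := by
      calc form hD 1 x ((g : Matrix (Fin n) (Fin n) F) *ᵥ u)
          = form hD 1 ((g : Matrix (Fin n) (Fin n) F) *ᵥ
              (((g⁻¹ : GL (Fin n) F) : Matrix (Fin n) (Fin n) F) *ᵥ x))
              ((g : Matrix (Fin n) (Fin n) F) *ᵥ u) := by rw [hxg]
        _ = form hD 1 (((g⁻¹ : GL (Fin n) F) : Matrix (Fin n) (Fin n) F) *ᵥ x) u := hpres g hg _ _
        _ = form hD 1 (((g⁻¹ : GL (Fin n) F) : Matrix (Fin n) (Fin n) F) *ᵥ x)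
              (((g⁻¹ : GL (Fin n) F) : Matrix (Fin n) (Fin n) F) *ᵥ x) := hkey _
        _ = form hD 1 x x := hpres _ hginv _ _
        _ = form hD 1 x u := (hkey x).symm
    have e2 : form hD 1 x ((g : Matrix (Fin n) (Fin n) F) *ᵥ u - u) =
        form hD 1 x ((g : Matrix (Fin n) (Fin n) F) *ᵥ u) - form hD 1 x u := by
      have := form_add_right hD 1 hs1 x ((g : Matrix (Fin n) (Fin n) F) *ᵥ u - u) u
      rw [sub_add_cancel] at this
      rw [this]
      ring
    rw [e2, e1, sub_self]
  have hcard := card_eq hD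
  have hu0 : u ≠ 0 := by
    intro h0
    have a0 : Fin t × Fin 1 := (⟨0, by omega⟩, 0)
    have := hrepr a0
    rw [h0, map_zero, Finsupp.zero_apply] at this
    exact zero_ne_one this
  refine ⟨Submodule.span F {u}, ?_, ?_, ?_⟩
  · intro h
    have : u ∈ Submodule.span F {u} := Submodule.mem_span_singleton_self u
    rw [h] at this
    exact hu0 ((Submodule.mem_bot F).1 this)
  · intro h
    have h1 : finrank F (Submodule.span F {u}) = 1 := finrank_span_singleton hu0
    rw [h, finrank_top, Module.finrank_fin_fun] at h1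
    omega
  · intro g hg
    apply Cfsg.Agent.Lib.Helper5.TvGL.mem_stab_of_fix
    intro x hx
    obtain ⟨c, rfl⟩ := Submodule.mem_span_singleton.1 hx
    rw [Matrix.mulVec_smul, hfix g hg]

include hD in
/-- three elements: the stabiliser preserves the sum of squares -/
theorem lines_three (hq : Fintype.card F = 3) :
    ∃ Q : (Fin n → F) → F, IsNondegenerateQuadraticForm Q ∧
      decompositionStabilizer D ≤ quadSimilarityGroup Q := by
  classical
  have hs1 : ∀ a b : F, (a + b) ^ 1 = a ^ 1 + b ^ 1 := fun a b => by ring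
  have hss1 : ∀ c : F, (c ^ 1) ^ 1 = c := fun c => by ring
  have hc0 : (Fintype.card F : F) = 0 := Nat.cast_card_eq_zero F
  have h3 : (3 : F) = 0 := by rw [hq] at hc0; exact_mod_cast hc0
  have h2 : (2 : F) ≠ 0 := by
    intro h
    have : (1 : F) = 0 := by linear_combination h3 - h
    exact one_ne_zero this
  have hnorm : ∀ c : F, c ≠ 0 → c * c ^ 1 = 1 := by
    intro c hc
    have := FiniteField.pow_card_sub_one_eq_one c hc
    rw [hq] at this
    linear_combination this
  have hpres : ∀ g ∈ decompositionStabilizer D, ∀ x y : Fin n → F,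
      form hD 1 ((g : Matrix (Fin n) (Fin n) F) *ᵥ x) ((g : Matrix (Fin n) (Fin n) F) *ᵥ y) =
        form hD 1 x y := fun g hg =>
    stab_preserves hD 1 one_ne_zero hs1 g hg (block_one hD 1 one_ne_zero hs1 hnorm g hg)
  have hnd := form_nondeg hD 1 one_ne_zero hs1 hss1
  have hsymm : ∀ x y : Fin n → F, form hD 1 x y = form hD 1 y x := by
    intro x y
    have := form_conj hD 1 one_ne_zero hs1 hss1 x y
    rwa [pow_one] at this
  have hpolar : ∀ x y : Fin n → F,
      QuadraticMap.polar (fun v => form hD 1 v v) x y = 2 * form hD 1 x y := by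
    intro x y
    unfold QuadraticMap.polar
    simp only [form_add_left, form_add_right hD 1 hs1]
    rw [hsymm y x]
    ring
  refine ⟨fun v => form hD 1 v v, ⟨?_, ⟨?_, ?_, ?_, ?_⟩, ?_⟩, ?_⟩
  · intro c v
    simp only [form_smul_left, form_smul_right]
    ring
  · intro x y v
    rw [hpolar, hpolar, hpolar, form_add_left]
    ring
  · intro c x v
    rw [hpolar, hpolar, form_smul_left]
    ring
  · intro v x y
    rw [hpolar, hpolar, hpolar, form_add_right hD 1 hs1]
    ring
  · intro c v x
    rw [hpolar, hpolar, form_smul_right]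
    ring
  · intro v hv
    obtain ⟨⟨x, hx⟩, ⟨y, hy⟩⟩ := hnd v hv
    refine ⟨⟨x, ?_⟩, ⟨y, ?_⟩⟩
    · rw [hpolar]
      exact mul_ne_zero h2 hx
    · rw [hpolar]
      exact mul_ne_zero h2 hy
  · intro g hg
    refine ⟨1, fun v => ?_⟩
    simp only [Units.val_one, one_mul]
    exact hpres g hg v v

include hD in
/-- four elements: the stabiliser preserves a unitary form -/
theorem lines_four (hq : Fintype.card F = 4) :
    ∃ (σ : F ≃+* F) (f : (Fin n → F) → (Fin n → F) → F), IsUnitaryForm σ f ∧
      decompositionStabilizer D ≤ similarityGroup f := by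
  classical
  have hc0 : (Fintype.card F : F) = 0 := Nat.cast_card_eq_zero F
  have h4 : (4 : F) = 0 := by rw [hq] at hc0; exact_mod_cast hc0
  have h2 : (2 : F) = 0 := by
    have : (2 : F) * 2 = 0 := by linear_combination h4
    exact mul_self_eq_zero.mp this
  have hs2 : ∀ a b : F, (a + b) ^ 2 = a ^ 2 + b ^ 2 := by
    intro a b
    linear_combination a * b * h2
  have hss2 : ∀ c : F, (c ^ 2) ^ 2 = c := by
    intro c
    have := FiniteField.pow_card c
    rw [hq] at this
    rw [← pow_mul]
    exact this
  have hnorm : ∀ c : F, c ≠ 0 → c * c ^ 2 = 1 := by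
    intro c hc
    have := FiniteField.pow_card_sub_one_eq_one c hc
    rw [hq] at this
    linear_combination this
  have hpres : ∀ g ∈ decompositionStabilizer D, ∀ x y : Fin n → F,
      form hD 2 ((g : Matrix (Fin n) (Fin n) F) *ᵥ x) ((g : Matrix (Fin n) (Fin n) F) *ᵥ y) =
        form hD 2 x y := fun g hg =>
    stab_preserves hD 2 two_ne_zero hs2 g hg (block_one hD 2 two_ne_zero hs2 hnorm g hg)
  have hnd := form_nondeg hD 2 two_ne_zero hs2 hss2
  let σ : F ≃+* F :=
    { toFun := fun x => x ^ 2
      invFun := fun x => x ^ 2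
      left_inv := hss2
      right_inv := hss2
      map_mul' := fun a b => mul_pow a b 2
      map_add' := hs2 }
  have hσ : ∀ a : F, σ a = a ^ 2 := fun a => rfl
  refine ⟨σ, form hD 2, ⟨?_, ?_, ?_, ?_, ?_, hnd⟩, ?_⟩
  · intro hrefl
    -- some element is not fixed by squaring
    have hall : ∀ a : F, a ^ 2 = a := by
      intro a
      have := congrArg (fun e : F ≃+* F => e a) hrefl
      simpa [hσ] using this
    -- then every element is 0 or 1
    have h01 : ∀ a : F, a = 0 ∨ a = 1 := by
      intro a
      have : a * (a - 1) = 0 := by linear_combination hall a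
      rcases mul_eq_zero.1 this with h | h
      · left; exact h
      · right; exact sub_eq_zero.1 h
    have hle : Fintype.card F ≤ 2 := by
      have : (Finset.univ : Finset F) ⊆ {0, 1} := by
        intro a _
        rcases h01 a with h | h <;> simp [h]
      calc Fintype.card F = (Finset.univ : Finset F).card := rfl
        _ ≤ ({0, 1} : Finset F).card := Finset.card_le_card this
        _ ≤ 2 := Finset.card_le_two
    omega
  · intro a
    rw [hσ, hσ]
    exact hss2 a
  · intro x y v
    exact form_add_left hD 2 x y v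
  · intro c x v
    exact form_smul_left hD 2 c x v
  · intro v w
    rw [hσ]
    exact (form_conj hD 2 two_ne_zero hs2 hss2 w v).symm
  · intro g hg
    refine ⟨1, fun u v => ?_⟩
    simp only [Units.val_one, one_mul]
    exact hpres g hg u v

end main

end Cfsg.Agent.Lib.Helper3.MaxC
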