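import Mathlib
import Cfsg.Prelude
import Cfsg.Agent.Lib.Helper3.MaxC1
import Cfsg.Agent.Lib.Helper3.AschB3
import Cfsg.Agent.Lib.Helper5.SUTransv
import Cfsg.Agent.Lib.Helper5.HermSimple
import Cfsg.Agent.Lib.Helper5.SUCentres

set_option autoImplicit false
set_option maxHeartbeats 4000000
set_option maxRecDepth 100000
set_option linter.unusedVariables false
set_option linter.unusedSectionVars false
set_option linter.style.haveILetI false
set_option linter.deprecated false

/-! The special unitary group inside the general linear group: transvections, transitivity on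
isotropic vectors, perfectness. -/

namespace Cfsg.Agent.Lib.Helper3.MaxU

open Matrix Cfsg Cfsg.Geo
open Cfsg.Agent.Lib.Helper5.Herm Cfsg.Agent.Lib.Helper5.HermTv Cfsg.Agent.Lib.Helper5.HermSU
  Cfsg.Agent.Lib.Helper5.HermGen Cfsg.Agent.Lib.Helper5.SUCentres
  Cfsg.Agent.Lib.Helper5.HermSimple Cfsg.Agent.Lib.Helper5.SUTransv
  Cfsg.Agent.Lib.Helper5.HermCount
open scoped commutatorElement

/-- the special unitary group inside the general linear group -/
abbrev SUg (n : ℕ) (F : Type*) [Field F] (q : ℕ) : Subgroup (GL (Fin n) F) :=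
  Cfsg.GU n F q ⊓ specialLinear (Fin n) F

variable {F : Type*} [Field F] [Fintype F] {q : ℕ} (hF : Fintype.card F = q ^ 2) {n : ℕ}

include hF in
/-- the unitary transvection with isotropic centre -/
theorem exists_tv (v : Fin n → F) (hv : hermForm n F q v v = 0) (c : F) (hc : c ^ q = -c) :
    ∃ g : GL (Fin n) F, g ∈ SUg n F q ∧
      ∀ x, (g : Matrix (Fin n) (Fin n) F) *ᵥ x = x + (c * hermForm n F q x v) • v := by
  have hc' : QCond n q v c := (qcond_iso n hv c).mpr hc
  refine ⟨((qtv hF n v c hc' : ↥(Cfsg.GU n F q)) : GL (Fin n) F), ?_, ?_⟩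
  · rw [mem_SU_iff]
    refine ⟨(qtv hF n v c hc').2, ?_⟩
    show (unitaryTransvection n q v c).det = 1
    rw [det_tv, hv, mul_zero, add_zero]
  · intro x
    exact gact_qtv hF n v c hc' x

include hF in
theorem exists_move (hn : 3 ≤ n) (v v' : Fin n → F) (hv0 : v ≠ 0) (hv0' : v' ≠ 0)
    (hv : hermForm n F q v v = 0) (hv' : hermForm n F q v' v' = 0) :
    ∃ g : GL (Fin n) F, g ∈ SUg n F q ∧ (g : Matrix (Fin n) (Fin n) F) *ᵥ v = v' := by
  obtain ⟨A, hA⟩ := exists_SU_move hF n hn v v' hv0 hv0' hv hv'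
  refine ⟨((toGU n A : ↥(Cfsg.GU n F q)) : GL (Fin n) F), ?_, hA⟩
  rw [mem_SU_iff]
  exact ⟨(toGU n A).2, det_toGU n A⟩

include hF in
theorem exists_c : ∃ c : F, c ≠ 0 ∧ c ^ q = -c := exists_trace_zero hF

include hF in
theorem singular_smul (a : F) {v : Fin n → F} (hv : hermForm n F q v v = 0) :
    hermForm n F q (a • v) (a • v) = 0 := by
  rw [hermForm_smul_left, hermForm_smul_right, hv, mul_zero, mul_zero]

include hF in
theorem singular_add {u v : Fin n → F} (hu : hermForm n F q u u = 0)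
    (hv : hermForm n F q v v = 0) (huv : hermForm n F q u v = 0) :
    hermForm n F q (u + v) (u + v) = 0 := by
  have hvu : hermForm n F q v u = 0 := by
    rw [← hermForm_conj hF, huv, zero_pow (q_ne_zero hF)]
  rw [hermForm_add_left, hermForm_add_right hF, hermForm_add_right hF, hu, hv, huv, hvu]
  ring

include hF in
/-- every vector is a sum of three isotropic vectors -/
theorem exists_singular_decomp (hn : 2 ≤ n) (x : Fin n → F) :
    ∃ s₁ s₂ s₃ : Fin n → F, hermForm n F q s₁ s₁ = 0 ∧ hermForm n F q s₂ s₂ = 0 ∧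
      hermForm n F q s₃ s₃ = 0 ∧ x = s₁ + s₂ + s₃ := by
  obtain ⟨e, f, he, hf, hef⟩ := exists_hyp_pair hF n hn
  obtain ⟨s, a, b, hs, hx⟩ := iso_decomp hF n e f he hf hef x
  exact ⟨s, a • e, b • f, hs, singular_smul hF a he, singular_smul hF b hf, hx⟩

include hF in
/-- a subgroup containing all commutators of the special unitary group contains it -/
theorem le_of_commutators (hn : 3 ≤ n) (h32 : ¬ (n = 3 ∧ q = 2)) (K : Subgroup (GL (Fin n) F))
    (h : ∀ g₁ ∈ SUg n F q, ∀ g₂ ∈ SUg n F q, ⁅g₁, g₂⁆ ∈ K) : SUg n F q ≤ K := by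
  set φ : ↥(Cfsg.SU n F q) →* GL (Fin n) F := (Cfsg.GU n F q).subtype.comp (toGU n) with hφ
  have hmem : ∀ A : ↥(Cfsg.SU n F q), φ A ∈ SUg n F q := by
    intro A
    rw [mem_SU_iff]
    exact ⟨(toGU n A).2, det_toGU n A⟩
  have hperf := perfect hF n hn h32
  have htop : (⊤ : Subgroup ↥(Cfsg.SU n F q)) ≤ K.comap φ := by
    rw [← hperf, commutator_eq_closure, Subgroup.closure_le]
    rintro _ ⟨a, b, rfl⟩
    show φ ⁅a, b⁆ ∈ K
    rw [map_commutatorElement]
    exact h _ (hmem a) _ (hmem b)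
  intro g hg
  rw [mem_SU_iff] at hg
  obtain ⟨A, hA⟩ := exists_toGU_eq n ⟨g, hg.1⟩ hg.2
  have : φ A = g := by
    show ((toGU n A : ↥(Cfsg.GU n F q)) : GL (Fin n) F) = g
    rw [hA]
  rw [← this]
  exact htop (Subgroup.mem_top A)

include hF in
/-- a maximal subgroup together with the scalars is still proper -/
theorem sup_scalars_ne (hn : 3 ≤ n) (h32 : ¬ (n = 3 ∧ q = 2)) (H : Subgroup (GL (Fin n) F))
    (hH : IsMaximalIn (SUg n F q) H) :
    H ⊔ (scalars (Fin n) F ⊓ SUg n F q) ≠ SUg n F q := by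
  intro heq
  have hle : SUg n F q ≤ H := by
    apply le_of_commutators hF hn h32
    intro g₁ hg₁ g₂ hg₂
    have hsub : SUg n F q ≤ H ⊔ scalars (Fin n) F := by
      rw [← heq]
      exact sup_le_sup_left inf_le_left H
    obtain ⟨y₁, hy₁, z₁, hz₁, rfl⟩ := Subgroup.mem_sup_of_normal_right.1 (hsub hg₁)
    obtain ⟨y₂, hy₂, z₂, hz₂, rfl⟩ := Subgroup.mem_sup_of_normal_right.1 (hsub hg₂)
    have e1 : y₁ * z₁ = z₁ * y₁ := (Cfsg.Agent.Lib.Helper3.AschB.scalars_central z₁ y₁ hz₁).symm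
    have e2 : y₂ * z₂ = z₂ * y₂ := (Cfsg.Agent.Lib.Helper3.AschB.scalars_central z₂ y₂ hz₂).symm
    rw [e1, e2, Cfsg.Agent.Lib.Helper3.AschB.commElem_central_left y₁ _ z₁
      (fun g => Cfsg.Agent.Lib.Helper3.AschB.scalars_central z₁ g hz₁),
      Cfsg.Agent.Lib.Helper3.AschB.commElem_central_right y₁ y₂ z₂
      (fun g => Cfsg.Agent.Lib.Helper3.AschB.scalars_central z₂ g hz₂)]
    rw [commutatorElement_def]
    exact H.mul_mem (H.mul_mem (H.mul_mem hy₁ hy₂) (H.inv_mem hy₁)) (H.inv_mem hy₂)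
  exact absurd hle (not_le_of_gt hH.1)

include hF in
/-- the norm is onto the fixed field -/
theorem exists_norm (d : F) (hd : d ^ q = d) : ∃ l : F, l ^ (q + 1) = d := by
  by_cases hd0 : d = 0
  · exact ⟨0, by rw [hd0, zero_pow (Nat.succ_ne_zero q)]⟩
  · exact exists_norm_eq hF d hd0 hd

end Cfsg.Agent.Lib.Helper3.MaxU
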