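import Mathlib
import Cfsg.Prelude
import Cfsg.Agent.Lib.Helper3.MaxU1

set_option autoImplicit false
set_option maxHeartbeats 4000000
set_option maxRecDepth 100000
set_option linter.unusedVariables false
set_option linter.unusedSectionVars false
set_option linter.style.haveILetI false
set_option linter.deprecated false

/-! Matrices having all isotropic vectors as eigenvectors; irreducibility of the special unitary
group; it normalises no proper extension field. -/

namespace Cfsg.Agent.Lib.Helper3.MaxU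

open Matrix Cfsg Cfsg.Geo
open Cfsg.Agent.Lib.Helper5.Herm Cfsg.Agent.Lib.Helper5.HermTv Cfsg.Agent.Lib.Helper5.HermSU
  Cfsg.Agent.Lib.Helper5.HermGen Cfsg.Agent.Lib.Helper5.SUCentres
  Cfsg.Agent.Lib.Helper5.HermSimple Cfsg.Agent.Lib.Helper5.SUTransv
  Cfsg.Agent.Lib.Helper5.HermCount Cfsg.Agent.Lib.Helper5.HermEich

variable {F : Type*} [Field F] [Fintype F] {q : ℕ} (hF : Fintype.card F = q ^ 2) {n : ℕ}

include hF in
theorem eig_eq_of_nonorth (A : Matrix (Fin n) (Fin n) F)
    (hg : ∀ u : Fin n → F, u ≠ 0 → hermForm n F q u u = 0 → ∃ a : F, A *ᵥ u = a • u)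
    (u v : Fin n → F) (hu : hermForm n F q u u = 0) (hv : hermForm n F q v v = 0)
    (huv : hermForm n F q u v ≠ 0) (a b : F) (ha : A *ᵥ u = a • u)
    (hb : A *ᵥ v = b • v) : a = b := by
  obtain ⟨c, hc0, hc⟩ := exists_trace_zero hF
  set θ : F := hermForm n F q u v with hθ
  have hvu : hermForm n F q v u = θ ^ q := by rw [hθ, hermForm_conj hF]
  have hθq : θ ^ q ≠ 0 := pow_ne_zero _ huv
  set c' : F := c / θ ^ q with hc'
  have hc'q : c' ^ q = -c / θ := by rw [hc', div_pow, pow_q_pow_q hF, hc]
  have hc'0 : c' ≠ 0 := div_ne_zero hc0 hθq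
  set p : Fin n → F := u + c' • v with hp
  have hpp : hermForm n F q p p = 0 := by
    simp only [hp, hermForm_add_left, hermForm_add_right hF, hermForm_smul_left,
      hermForm_smul_right, hu, hv, hvu, ← hθ, hc'q]
    rw [hc']
    field_simp
    ring
  have hpu : hermForm n F q p u = c := by
    simp only [hp, hermForm_add_left, hermForm_smul_left, hu, hvu]
    rw [hc']
    field_simp
    ring
  have hp0 : p ≠ 0 := by
    intro h
    rw [h, hermForm_zero_left] at hpu
    exact hc0 hpu.symm
  obtain ⟨d, hd⟩ := hg p hp0 hpp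
  rw [hp, Matrix.mulVec_add, Matrix.mulVec_smul, ha, hb] at hd
  have e1 := congrArg (fun z => hermForm n F q z v) hd
  have e2 := congrArg (fun z => hermForm n F q z u) hd
  simp only [hermForm_add_left, hermForm_smul_left, hu, hv, hvu, ← hθ] at e1 e2
  have had : a = d := by
    have : (a - d) * θ = 0 := by linear_combination e1
    rcases mul_eq_zero.mp this with h | h
    · exact sub_eq_zero.mp h
    · exact absurd h huv
  have hbd : b = d := by
    have : (b - d) * (c' * θ ^ q) = 0 := by linear_combination e2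
    rcases mul_eq_zero.mp this with h | h
    · exact sub_eq_zero.mp h
    · exact absurd h (mul_ne_zero hc'0 hθq)
  rw [had, hbd]

include hF in
theorem eig_eq (A : Matrix (Fin n) (Fin n) F)
    (hg : ∀ u : Fin n → F, u ≠ 0 → hermForm n F q u u = 0 → ∃ a : F, A *ᵥ u = a • u)
    (u v : Fin n → F) (hu0 : u ≠ 0) (hv0 : v ≠ 0) (hu : hermForm n F q u u = 0)
    (hv : hermForm n F q v v = 0) (a b : F) (ha : A *ᵥ u = a • u)
    (hb : A *ᵥ v = b • v) : a = b := by
  by_cases huv : hermForm n F q u v = 0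
  · obtain ⟨w, hw, huw, hvw⟩ := exists_cross hF n u v hu0 hv0 hu hv huv
    have hw0 : w ≠ 0 := by
      rintro rfl
      exact huw (hermForm_zero_right hF n u)
    obtain ⟨d, hd⟩ := hg w hw0 hw
    rw [eig_eq_of_nonorth hF A hg u w hu hw huw a d ha hd,
      eig_eq_of_nonorth hF A hg v w hv hw hvw b d hb hd]
  · exact eig_eq_of_nonorth hF A hg u v hu hv huv a b ha hb

include hF in
/-- a matrix having every isotropic vector as an eigenvector is a scalar -/
theorem scalar_of_eig (hn : 2 ≤ n) (A : Matrix (Fin n) (Fin n) F)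
    (hg : ∀ u : Fin n → F, u ≠ 0 → hermForm n F q u u = 0 → ∃ a : F, A *ᵥ u = a • u) :
    ∃ a : F, A = a • (1 : Matrix (Fin n) (Fin n) F) := by
  obtain ⟨e, f, he, hf, hef⟩ := exists_hyp_pair hF n hn
  have he0 : e ≠ 0 := by
    rintro rfl
    rw [hermForm_zero_left] at hef
    exact zero_ne_one hef
  obtain ⟨a, ha⟩ := hg e he0 he
  have hall : ∀ u : Fin n → F, hermForm n F q u u = 0 → A *ᵥ u = a • u := by
    intro u hu
    by_cases hu0 : u = 0
    · rw [hu0, smul_zero, Matrix.mulVec_zero]
    · obtain ⟨b, hb⟩ := hg u hu0 hu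
      rw [hb, eig_eq hF A hg e u he0 hu0 he hu a b ha hb]
  refine ⟨a, ?_⟩
  apply Matrix.toLin'.injective
  apply LinearMap.ext
  intro x
  obtain ⟨s, c, d, hs, rfl⟩ := iso_decomp hF n e f he hf hef x
  rw [Matrix.toLin'_apply, Matrix.toLin'_apply, Matrix.mulVec_add, Matrix.mulVec_add,
    Matrix.mulVec_smul, Matrix.mulVec_smul, hall s hs, hall e he, hall f hf,
    Matrix.smul_mulVec, Matrix.one_mulVec]
  module

include hF in
/-- a vector not orthogonal to a given non-zero isotropic vector -/
theorem exists_nonorth (v : Fin n → F) (hv0 : v ≠ 0) (hv : hermForm n F q v v = 0) :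
    ∃ f : Fin n → F, hermForm n F q f f = 0 ∧ hermForm n F q f v = 1 ∧
      hermForm n F q v f = 1 := by
  obtain ⟨f, hf, hvf⟩ := exists_partner hF n v hv0 hv
  exact ⟨f, hf, herm_fe hF hvf, hvf⟩

include hF in
/-- a matrix commuting with the special unitary group is a scalar -/
theorem scalar_of_commute (hn : 2 ≤ n) (A : Matrix (Fin n) (Fin n) F)
    (hA : ∀ g ∈ SUg n F q, A * (g : Matrix (Fin n) (Fin n) F) =
      (g : Matrix (Fin n) (Fin n) F) * A) :
    ∃ a : F, A = a • (1 : Matrix (Fin n) (Fin n) F) := by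
  apply scalar_of_eig hF hn
  intro u hu0 hu
  obtain ⟨c, hc0, hc⟩ := exists_c hF
  obtain ⟨g, hg, hgx⟩ := exists_tv hF u hu c hc
  obtain ⟨f, hf, hfu, huf⟩ := exists_nonorth hF u hu0 hu
  have h1 := congrArg (fun M : Matrix (Fin n) (Fin n) F => M *ᵥ f) (hA g hg)
  simp only [← Matrix.mulVec_mulVec] at h1
  rw [hgx, hgx, Matrix.mulVec_add, Matrix.mulVec_smul, hfu, mul_one] at h1
  have h2 : c • (A *ᵥ u) = (c * hermForm n F q (A *ᵥ f) u) • u := add_left_cancel h1
  refine ⟨hermForm n F q (A *ᵥ f) u, ?_⟩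
  have h3 : c⁻¹ • (c • (A *ᵥ u)) = c⁻¹ • ((c * hermForm n F q (A *ᵥ f) u) • u) := by rw [h2]
  rw [smul_smul, smul_smul, inv_mul_cancel₀ hc0, one_smul, ← mul_assoc, inv_mul_cancel₀ hc0,
    one_mul] at h3
  exact h3

include hF in
theorem herm_eq_zero_of_forall (x : Fin n → F) (h : ∀ y, hermForm n F q x y = 0) : x = 0 := by
  funext i
  have := h (Pi.single i 1)
  rw [hermForm_single_right n q (q_ne_zero hF)] at this
  exact this

include hF in
/-- the special unitary group is irreducible -/
theorem not_le_stab (hn : 3 ≤ n) (W : Submodule F (Fin n → F)) (h0 : W ≠ ⊥) (h1 : W ≠ ⊤) :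
    ¬ SUg n F q ≤ subspaceStabilizer W := by
  intro hle
  -- step 1
  have step1 : ∀ v : Fin n → F, hermForm n F q v v = 0 →
      v ∈ W ∨ ∀ x ∈ W, hermForm n F q x v = 0 := by
    intro v hv
    by_contra hcon
    push Not at hcon
    obtain ⟨hvW, x, hxW, hxv⟩ := hcon
    obtain ⟨c, hc0, hc⟩ := exists_c hF
    obtain ⟨g, hg, hgx⟩ := exists_tv hF v hv c hc
    have hgW : (g : Matrix (Fin n) (Fin n) F) *ᵥ x ∈ W := ((hle hg) x).1 hxW
    rw [hgx] at hgW
    have h2 : (c * hermForm n F q x v) • v ∈ W := by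
      have := W.sub_mem hgW hxW
      rwa [add_sub_cancel_left] at this
    have h3 : (c * hermForm n F q x v) ≠ 0 := mul_ne_zero hc0 hxv
    have h4 := W.smul_mem (c * hermForm n F q x v)⁻¹ h2
    rw [smul_smul, inv_mul_cancel₀ h3, one_smul] at h4
    exact hvW h4
  by_cases hA : ∀ v : Fin n → F, hermForm n F q v v = 0 → v ∈ W
  · apply h1
    rw [eq_top_iff]
    intro x _
    obtain ⟨s₁, s₂, s₃, hs₁, hs₂, hs₃, rfl⟩ := exists_singular_decomp hF (by omega) x
    exact W.add_mem (W.add_mem (hA _ hs₁) (hA _ hs₂)) (hA _ hs₃)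
  · push Not at hA
    obtain ⟨u, hu, huW⟩ := hA
    have huperp : ∀ x ∈ W, hermForm n F q x u = 0 := (step1 u hu).resolve_left huW
    have hB : ∀ w : Fin n → F, hermForm n F q w w = 0 → ∀ x ∈ W, hermForm n F q x w = 0 := by
      intro w hw
      by_contra hcon
      push Not at hcon
      obtain ⟨x, hxW, hxw⟩ := hcon
      have hwW : w ∈ W := by
        rcases step1 w hw with h | h
        · exact h
        · exact absurd (h x hxW) hxw
      have hwu : hermForm n F q w u = 0 := huperp w hwW
      have huw : hermForm n F q u w = 0 := herm_symm_zero hF n hwu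
      have hs : hermForm n F q (u + w) (u + w) = 0 := singular_add hF hu hw huw
      rcases step1 (u + w) hs with h | h
      · apply huW
        have := W.sub_mem h hwW
        rwa [add_sub_cancel_right] at this
      · have := h x hxW
        rw [hermForm_add_right hF, huperp x hxW, zero_add] at this
        exact hxw this
    apply h0
    rw [eq_bot_iff]
    intro x hx
    rw [Submodule.mem_bot]
    apply herm_eq_zero_of_forall hF
    intro y
    obtain ⟨s₁, s₂, s₃, hs₁, hs₂, hs₃, rfl⟩ := exists_singular_decomp hF (by omega) y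
    rw [hermForm_add_right hF, hermForm_add_right hF, hB s₁ hs₁ x hx, hB s₂ hs₂ x hx,
      hB s₃ hs₃ x hx]
    ring

include hF in
/-- the special unitary group normalises no proper extension field -/
theorem not_le_fieldNormalizer (hn : 3 ≤ n) {r : ℕ} (hr : 2 ≤ r)
    {K : Subalgebra F (Matrix (Fin n) (Fin n) F)} (hK : IsFieldSubalgebra r K) :
    ¬ SUg n F q ≤ subalgebraNormalizer K := by
  intro hle
  have hzero : ∀ A ∈ K, ∀ x : Fin n → F, x ≠ 0 → A *ᵥ x = 0 → A = 0 := by
    intro A hA x hx hAx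
    by_contra hA0
    obtain ⟨B, hB, hAB⟩ := hK.inv A hA hA0
    have hBA : B * A = 1 := by rw [← hK.comm A hA B hB, hAB]
    apply hx
    calc x = (B * A) *ᵥ x := by rw [hBA, Matrix.one_mulVec]
      _ = 0 := by rw [← Matrix.mulVec_mulVec, hAx, Matrix.mulVec_zero]
  have hscal : ∀ k ∈ K, ∃ a : F, k = a • (1 : Matrix (Fin n) (Fin n) F) := by
    intro k hkK
    apply scalar_of_eig hF (by omega)
    intro v hv0 hv
    obtain ⟨c, hc0, hc⟩ := exists_c hF
    obtain ⟨g, hg, hgx⟩ := exists_tv hF v hv c hc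
    obtain ⟨f, hf, hfv, hvf⟩ := exists_nonorth hF v hv0 hv
    have hgN := hle hg
    have hk' : (g : Matrix (Fin n) (Fin n) F) * k *
        ((g⁻¹ : GL (Fin n) F) : Matrix (Fin n) (Fin n) F) ∈ K := (hgN k).1 hkK
    have hgv : (g : Matrix (Fin n) (Fin n) F) *ᵥ v = v := by
      rw [hgx, hv, mul_zero, zero_smul, add_zero]
    have hginv : ∀ x, ((g⁻¹ : GL (Fin n) F) : Matrix (Fin n) (Fin n) F) *ᵥ
        ((g : Matrix (Fin n) (Fin n) F) *ᵥ x) = x := by
      intro x
      rw [Matrix.mulVec_mulVec, ← Units.val_mul, inv_mul_cancel, Units.val_one,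
        Matrix.one_mulVec]
    have hginvv : ((g⁻¹ : GL (Fin n) F) : Matrix (Fin n) (Fin n) F) *ᵥ v = v := by
      conv_lhs => rw [← hgv]
      exact hginv v
    set lam : F := c * hermForm n F q (k *ᵥ v) v with hlam
    have hκ : ((g : Matrix (Fin n) (Fin n) F) * k *
        ((g⁻¹ : GL (Fin n) F) : Matrix (Fin n) (Fin n) F) - k -
        lam • (1 : Matrix (Fin n) (Fin n) F)) = 0 := by
      apply hzero _ _ v hv0
      · rw [Matrix.sub_mulVec, Matrix.sub_mulVec, ← Matrix.mulVec_mulVec,
          ← Matrix.mulVec_mulVec, hginvv, hgx, Matrix.smul_mulVec, Matrix.one_mulVec]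
        abel
      · refine K.sub_mem (K.sub_mem hk' hkK) ?_
        rw [← Algebra.algebraMap_eq_smul_one]
        exact K.algebraMap_mem lam
    have hconj : (g : Matrix (Fin n) (Fin n) F) * k *
        ((g⁻¹ : GL (Fin n) F) : Matrix (Fin n) (Fin n) F) =
        k + lam • (1 : Matrix (Fin n) (Fin n) F) := by
      have := sub_eq_zero.1 hκ
      rw [sub_eq_iff_eq_add] at this
      rw [this]
      abel
    have hcomm : (g : Matrix (Fin n) (Fin n) F) * k =
        (k + lam • (1 : Matrix (Fin n) (Fin n) F)) * (g : Matrix (Fin n) (Fin n) F) := by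
      calc (g : Matrix (Fin n) (Fin n) F) * k
          = (g : Matrix (Fin n) (Fin n) F) * k *
            (((g⁻¹ : GL (Fin n) F) : Matrix (Fin n) (Fin n) F) *
              (g : Matrix (Fin n) (Fin n) F)) := by
            rw [← Units.val_mul, inv_mul_cancel, Units.val_one, mul_one]
        _ = (g : Matrix (Fin n) (Fin n) F) * k *
            ((g⁻¹ : GL (Fin n) F) : Matrix (Fin n) (Fin n) F) *
              (g : Matrix (Fin n) (Fin n) F) := by
            rw [mul_assoc, mul_assoc, mul_assoc]
        _ = _ := by rw [hconj]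
    -- evaluate at a vector orthogonal to v outside its span
    have key : ∀ z : Fin n → F, (k *ᵥ z) + (c * hermForm n F q (k *ᵥ z) v) • v =
        k *ᵥ z + lam • z + (c * hermForm n F q z v) • (k *ᵥ v) +
          (c * hermForm n F q z v * lam) • v := by
      intro z
      have h1 := congrArg (fun M : Matrix (Fin n) (Fin n) F => M *ᵥ z) hcomm
      simp only [← Matrix.mulVec_mulVec] at h1
      rw [hgx, hgx, Matrix.add_mulVec, Matrix.smul_mulVec, Matrix.one_mulVec,
        Matrix.mulVec_add, Matrix.mulVec_smul] at h1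
      rw [h1]
      module
    have hlam0 : lam = 0 := by
      by_contra hne
      obtain ⟨y, hy⟩ := MaxC.exists_not_mem_span_pair hn v f
      set z : Fin n → F := y + (-(hermForm n F q y v)) • f with hz
      have hzv : hermForm n F q z v = 0 := by
        rw [hz, hermForm_add_left, hermForm_smul_left, hfv]
        ring
      have hkz := key z
      rw [hzv, mul_zero, zero_smul, zero_mul, zero_smul, add_zero, add_zero] at hkz
      have h5 : lam • z = (c * hermForm n F q (k *ᵥ z) v) • v := (add_left_cancel hkz).symm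
      have h6 : z = (lam⁻¹ * (c * hermForm n F q (k *ᵥ z) v)) • v := by
        rw [← smul_smul, ← h5, smul_smul, inv_mul_cancel₀ hne, one_smul]
      apply hy
      have hvS : v ∈ Submodule.span F ({v, f} : Set (Fin n → F)) := Submodule.subset_span (by simp)
      have hfS : f ∈ Submodule.span F ({v, f} : Set (Fin n → F)) := Submodule.subset_span (by simp)
      have : y = z + (hermForm n F q y v) • f := by rw [hz]; module
      rw [this, h6]
      exact Submodule.add_mem _ (Submodule.smul_mem _ _ hvS) (Submodule.smul_mem _ _ hfS)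
    have hkf := key f
    rw [hlam0, hfv, mul_one, zero_smul, add_zero, mul_zero, zero_smul, add_zero] at hkf
    have h7 : (c * hermForm n F q (k *ᵥ f) v) • v = c • (k *ᵥ v) := add_left_cancel hkf
    refine ⟨hermForm n F q (k *ᵥ f) v, ?_⟩
    have h8 : c⁻¹ • (c • (k *ᵥ v)) = c⁻¹ • ((c * hermForm n F q (k *ᵥ f) v) • v) := by rw [h7]
    rw [smul_smul, smul_smul, inv_mul_cancel₀ hc0, one_smul, ← mul_assoc, inv_mul_cancel₀ hc0,
      one_mul] at h8
    exact h8
  have h1 : Module.finrank F K ≤ 1 := by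
    apply finrank_le_one (⟨1, K.one_mem⟩ : K)
    intro w
    obtain ⟨c, hc⟩ := hscal w.1 w.2
    exact ⟨c, Subtype.ext (by simpa using hc.symm)⟩
  rw [hK.finrank_eq] at h1
  omega

end Cfsg.Agent.Lib.Helper3.MaxU
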