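import Mathlib
import Cfsg.Prelude
import Cfsg.Agent.Lib.Helper3.MaxU2

set_option autoImplicit false
set_option maxHeartbeats 4000000
set_option maxRecDepth 100000
set_option linter.unusedVariables false
set_option linter.unusedSectionVars false
set_option linter.style.haveILetI false
set_option linter.deprecated false

/-! The special unitary group stabilises no decomposition compatible with the form. -/

namespace Cfsg.Agent.Lib.Helper3.MaxU

open Matrix Cfsg Cfsg.Geo Module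
open Cfsg.Agent.Lib.Helper5.Herm Cfsg.Agent.Lib.Helper5.HermTv Cfsg.Agent.Lib.Helper5.HermSU
  Cfsg.Agent.Lib.Helper5.HermGen Cfsg.Agent.Lib.Helper5.SUCentres
  Cfsg.Agent.Lib.Helper5.HermSimple Cfsg.Agent.Lib.Helper5.SUTransv
  Cfsg.Agent.Lib.Helper5.HermCount Cfsg.Agent.Lib.Helper5.HermEich
  Cfsg.Agent.Lib.Helper5.HermBridge

variable {F : Type*} [Field F] [Fintype F] {q : ℕ} (hF : Fintype.card F = q ^ 2) {n : ℕ}

omit [Fintype F] in
theorem le_biSup_ne {t : ℕ} (D : Fin t → Submodule F (Fin n → F)) (i j : Fin t) (h : j ≠ i) :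
    D j ≤ ⨆ k, ⨆ (_ : k ≠ i), D k :=
  le_iSup₂_of_le (f := fun k (_ : k ≠ i) => D k) j h le_rfl

omit [Fintype F] in
theorem not_mem_of_add3 {t m : ℕ} {D : Fin t → Submodule F (Fin n → F)}
    (hD : IsMDecomposition m D) {i i' : Fin t} (hii' : i ≠ i') {u w r : Fin n → F}
    (hu : u ∈ D i) (hw : w ∈ D i') (hu0 : u ≠ 0) (hw0 : w ≠ 0)
    (hr : r ∈ ⨆ k, ⨆ (_ : k ≠ i ∧ k ≠ i'), D k) (j : Fin t) : u + w + r ∉ D j := by
  intro hmem
  have hle1 : (⨆ k, ⨆ (_ : k ≠ i ∧ k ≠ i'), D k) ≤ ⨆ k, ⨆ (_ : k ≠ i), D k :=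
    iSup_le fun k => iSup_le fun hk => le_biSup_ne D i k hk.1
  have hle2 : (⨆ k, ⨆ (_ : k ≠ i ∧ k ≠ i'), D k) ≤ ⨆ k, ⨆ (_ : k ≠ i'), D k :=
    iSup_le fun k => iSup_le fun hk => le_biSup_ne D i' k hk.2
  have hr1 : r ∈ ⨆ k, ⨆ (_ : k ≠ i), D k := hle1 hr
  have hr2 : r ∈ ⨆ k, ⨆ (_ : k ≠ i'), D k := hle2 hr
  by_cases hj : j = i
  · -- then j ≠ i'
    have hji' : j ≠ i' := fun h => hii' (hj.symm.trans h)
    have h1 : u + w + r ∈ ⨆ k, ⨆ (_ : k ≠ i'), D k := le_biSup_ne D i' j hji' hmem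
    have h2 : u ∈ ⨆ k, ⨆ (_ : k ≠ i'), D k := le_biSup_ne D i' i hii' hu
    have h3 : w ∈ ⨆ k, ⨆ (_ : k ≠ i'), D k := by
      have : w = (u + w + r) - u - r := by abel
      rw [this]
      exact Submodule.sub_mem _ (Submodule.sub_mem _ h1 h2) hr2
    exact hw0 (Submodule.disjoint_def.1 (hD.indep i') w hw h3)
  · have h1 : u + w + r ∈ ⨆ k, ⨆ (_ : k ≠ i), D k := le_biSup_ne D i j hj hmem
    have h2 : w ∈ ⨆ k, ⨆ (_ : k ≠ i), D k := le_biSup_ne D i i' hii'.symm hw
    have h3 : u ∈ ⨆ k, ⨆ (_ : k ≠ i), D k := by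
      have : u = (u + w + r) - w - r := by abel
      rw [this]
      exact Submodule.sub_mem _ (Submodule.sub_mem _ h1 h2) hr1
    exact hu0 (Submodule.disjoint_def.1 (hD.indep i) u hu h3)

omit [Fintype F] in
theorem stab_map_mem {t : ℕ} {D : Fin t → Submodule F (Fin n → F)} (g : GL (Fin n) F)
    (hg : g ∈ decompositionStabilizer D) {i : Fin t} {x : Fin n → F} (hx : x ∈ D i) :
    ∃ j, (g : Matrix (Fin n) (Fin n) F) *ᵥ x ∈ D j := by
  obtain ⟨σ, hσ⟩ := hg
  refine ⟨σ i, ?_⟩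
  rw [← hσ i]
  exact ⟨x, hx, Matrix.toLin'_apply _ _⟩

omit [Fintype F] in
/-- a non-zero vector of a subspace of dimension at least two in the kernel of a functional -/
theorem exists_ker (W : Submodule F (Fin n → F)) (h2 : 2 ≤ finrank F W)
    (φ : (Fin n → F) →ₗ[F] F) : ∃ z ∈ W, z ≠ 0 ∧ φ z = 0 := by
  set ψ : W →ₗ[F] F := φ.domRestrict W with hψ
  have h1 := LinearMap.finrank_range_add_finrank_ker ψ
  have h3 : finrank F (LinearMap.range ψ) ≤ 1 := by
    have := Submodule.finrank_le (LinearMap.range ψ)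
    rwa [finrank_self] at this
  have h4 : 0 < finrank F (LinearMap.ker ψ) := by omega
  have h5 : LinearMap.ker ψ ≠ ⊥ := by
    intro h
    rw [h, finrank_bot] at h4
    omega
  obtain ⟨z, hzk, hz⟩ := Submodule.exists_mem_ne_zero_of_ne_bot h5
  refine ⟨(z : Fin n → F), z.2, ?_, ?_⟩
  · intro h
    apply hz
    apply Subtype.ext
    exact h
  · rw [LinearMap.mem_ker] at hzk
    exact hzk

include hF in
/-- an anisotropic vector in a non-degenerate subspace -/
theorem exists_aniso (W : Submodule F (Fin n → F)) (hW0 : W ≠ ⊥)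
    (hW : IsNondegenerateOn (hermForm n F q) W) :
    ∃ x ∈ W, hermForm n F q x x ≠ 0 := by
  obtain ⟨x, hxW, hx0⟩ := Submodule.exists_mem_ne_zero_of_ne_bot hW0
  obtain ⟨y, hyW, hyx⟩ := (hW x hxW hx0).1
  by_cases hxx : hermForm n F q x x = 0
  swap
  · exact ⟨x, hxW, hxx⟩
  by_cases hyy : hermForm n F q y y = 0
  swap
  · exact ⟨y, hyW, hyy⟩
  obtain ⟨μ, hμ⟩ := exists_trace_eq hF (1 : F) (one_pow q)
  set θ : F := hermForm n F q y x with hθ
  have hxy : hermForm n F q x y = θ ^ q := by rw [hθ, hermForm_conj hF]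
  set c : F := μ / θ with hc
  refine ⟨c • y + x, W.add_mem (W.smul_mem _ hyW) hxW, ?_⟩
  have hcq : c ^ q = μ ^ q / θ ^ q := by rw [hc, div_pow]
  have hθq : θ ^ q ≠ 0 := pow_ne_zero _ hyx
  have e1 : c * θ = μ := by rw [hc]; field_simp
  have e2 : c ^ q * θ ^ q = μ ^ q := by rw [hcq]; field_simp
  have : hermForm n F q (c • y + x) (c • y + x) = 1 := by
    simp only [hermForm_add_left, hermForm_add_right hF, hermForm_smul_left,
      hermForm_smul_right, hxx, hyy, hxy, ← hθ]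
    linear_combination e1 + e2 + hμ
  rw [this]
  exact one_ne_zero

include hF in
theorem herm_self_fix (x : Fin n → F) : (hermForm n F q x x) ^ q = hermForm n F q x x :=
  herm_self_fixed hF n x

include hF in
/-- scaling an anisotropic vector to a prescribed negative norm -/
theorem exists_scale_neg {a b : F} (ha : a ^ q = a) (hb : b ^ q = b) (hb0 : b ≠ 0) :
    ∃ α : F, a + α ^ (q + 1) * b = 0 := by
  obtain ⟨α, hα⟩ := exists_norm hF (-a / b) (by rw [div_pow, pow_q_neg hF, ha, hb])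
  refine ⟨α, ?_⟩
  rw [hα]
  field_simp
  ring

include hF in
theorem herm_smul_smul (α β : F) (x y : Fin n → F) :
    hermForm n F q (α • x) (β • y) = α * β ^ q * hermForm n F q x y := by
  rw [hermForm_smul_left, hermForm_smul_right]
  ring

include hF in
/-- the special unitary group stabilises no non-degenerate decomposition -/
theorem not_le_decomp_nondeg (hn : 4 ≤ n) {t m : ℕ} {D : Fin t → Submodule F (Fin n → F)}
    (hD : IsNondegenerateMDecomposition (hermForm n F q) m D) :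
    ¬ SUg n F q ≤ decompositionStabilizer D := by
  classical
  intro hle
  have ht := hD.decomp.two_le
  have hm := hD.decomp.pos
  have hcard : t * m = n := Cfsg.Agent.Lib.Helper5.LinDecompForm.card_eq hD.decomp
  have hne : ∀ i, D i ≠ ⊥ := by
    intro i h
    have := hD.decomp.finrank_eq i
    rw [h, finrank_bot] at this
    omega
  have horth : ∀ i j, i ≠ j → ∀ x ∈ D i, ∀ y ∈ D j, hermForm n F q x y = 0 :=
    fun i j hij x hx y hy => hD.orthogonal i j hij x hx y hy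
  obtain ⟨c, hc0, hc⟩ := exists_c hF
  by_cases ht4 : 4 ≤ t
  · set i₀ : Fin t := ⟨0, by omega⟩ with hi₀
    set i₁ : Fin t := ⟨1, by omega⟩ with hi₁
    set i₂ : Fin t := ⟨2, by omega⟩ with hi₂
    set i₃ : Fin t := ⟨3, by omega⟩ with hi₃
    have h01 : i₀ ≠ i₁ := by simp [hi₀, hi₁, Fin.ext_iff]
    have h02 : i₀ ≠ i₂ := by simp [hi₀, hi₂, Fin.ext_iff]
    have h03 : i₀ ≠ i₃ := by simp [hi₀, hi₃, Fin.ext_iff]
    have h12 : i₁ ≠ i₂ := by simp [hi₁, hi₂, Fin.ext_iff]
    have h13 : i₁ ≠ i₃ := by simp [hi₁, hi₃, Fin.ext_iff]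
    have h23 : i₂ ≠ i₃ := by simp [hi₂, hi₃, Fin.ext_iff]
    obtain ⟨b₀, hb₀, hν₀⟩ := exists_aniso hF (D i₀) (hne i₀) (hD.nondegenerate i₀)
    obtain ⟨b₁, hb₁, hν₁⟩ := exists_aniso hF (D i₁) (hne i₁) (hD.nondegenerate i₁)
    obtain ⟨b₂, hb₂, hν₂⟩ := exists_aniso hF (D i₂) (hne i₂) (hD.nondegenerate i₂)
    obtain ⟨b₃, hb₃, hν₃⟩ := exists_aniso hF (D i₃) (hne i₃) (hD.nondegenerate i₃)
    obtain ⟨α, hα⟩ := exists_scale_neg hF (herm_self_fix hF b₀) (herm_self_fix hF b₁) hν₁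
    obtain ⟨β, hβ⟩ := exists_scale_neg hF (herm_self_fix hF b₂) (herm_self_fix hF b₃) hν₃
    have hα0 : α ≠ 0 := by
      rintro rfl
      rw [zero_pow (Nat.succ_ne_zero q), zero_mul, add_zero] at hα
      exact hν₀ hα
    set v : Fin n → F := b₀ + α • b₁ + b₂ + β • b₃ with hv
    have hvv : hermForm n F q v v = 0 := by
      simp only [hv, hermForm_add_left, hermForm_add_right hF, hermForm_smul_left,
        hermForm_smul_right, horth i₀ i₁ h01 b₀ hb₀ b₁ hb₁, horth i₀ i₂ h02 b₀ hb₀ b₂ hb₂,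
        horth i₀ i₃ h03 b₀ hb₀ b₃ hb₃, horth i₁ i₀ h01.symm b₁ hb₁ b₀ hb₀,
        horth i₁ i₂ h12 b₁ hb₁ b₂ hb₂, horth i₁ i₃ h13 b₁ hb₁ b₃ hb₃,
        horth i₂ i₀ h02.symm b₂ hb₂ b₀ hb₀, horth i₂ i₁ h12.symm b₂ hb₂ b₁ hb₁,
        horth i₂ i₃ h23 b₂ hb₂ b₃ hb₃, horth i₃ i₀ h03.symm b₃ hb₃ b₀ hb₀,
        horth i₃ i₁ h13.symm b₃ hb₃ b₁ hb₁, horth i₃ i₂ h23.symm b₃ hb₃ b₂ hb₂]
      have e1 : α * (α ^ q * hermForm n F q b₁ b₁) = α ^ (q + 1) * hermForm n F q b₁ b₁ := by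
        ring
      have e2 : β * (β ^ q * hermForm n F q b₃ b₃) = β ^ (q + 1) * hermForm n F q b₃ b₃ := by
        ring
      linear_combination hα + hβ
    have hb₀v : hermForm n F q b₀ v = hermForm n F q b₀ b₀ := by
      simp only [hv, hermForm_add_right hF, hermForm_smul_right,
        horth i₀ i₁ h01 b₀ hb₀ b₁ hb₁, horth i₀ i₂ h02 b₀ hb₀ b₂ hb₂,
        horth i₀ i₃ h03 b₀ hb₀ b₃ hb₃]
      ring
    obtain ⟨g, hg, hgx⟩ := exists_tv hF v hvv c hc
    obtain ⟨j, hj⟩ := stab_map_mem g (hle hg) hb₀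
    rw [hgx, hb₀v] at hj
    set lam : F := c * hermForm n F q b₀ b₀ with hlam
    have hlam0 : lam ≠ 0 := mul_ne_zero hc0 hν₀
    have hb₂0 : b₂ ≠ 0 := fun h => hν₂ (by rw [h, hermForm_zero_left])
    have hb₁0 : b₁ ≠ 0 := fun h => hν₁ (by rw [h, hermForm_zero_left])
    have hrew : b₀ + lam • v = (lam * α) • b₁ + lam • b₂ + ((1 + lam) • b₀ + (lam * β) • b₃) := by
      rw [hv]
      module
    rw [hrew] at hj
    refine not_mem_of_add3 hD.decomp h12 ((D i₁).smul_mem _ hb₁) ((D i₂).smul_mem _ hb₂)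
      (smul_ne_zero (mul_ne_zero hlam0 hα0) hb₁0) (smul_ne_zero hlam0 hb₂0) ?_ j hj
    refine Submodule.add_mem _ ?_ ?_
    · exact Submodule.mem_iSup_of_mem i₀ (Submodule.mem_iSup_of_mem ⟨h01, h02⟩
        ((D i₀).smul_mem _ hb₀))
    · exact Submodule.mem_iSup_of_mem i₃ (Submodule.mem_iSup_of_mem ⟨h13.symm, h23.symm⟩
        ((D i₃).smul_mem _ hb₃))
  · have hm2 : 2 ≤ m := by
      by_contra hcon
      have : m = 1 := by omega
      subst this
      omega
    set i₀ : Fin t := ⟨0, by omega⟩ with hi₀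
    set i₁ : Fin t := ⟨1, by omega⟩ with hi₁
    have h01 : i₀ ≠ i₁ := by simp [hi₀, hi₁, Fin.ext_iff]
    obtain ⟨b₀, hb₀, hν₀⟩ := exists_aniso hF (D i₀) (hne i₀) (hD.nondegenerate i₀)
    obtain ⟨b₁, hb₁, hν₁⟩ := exists_aniso hF (D i₁) (hne i₁) (hD.nondegenerate i₁)
    obtain ⟨α, hα⟩ := exists_scale_neg hF (herm_self_fix hF b₀) (herm_self_fix hF b₁) hν₁
    have hα0 : α ≠ 0 := by
      rintro rfl
      rw [zero_pow (Nat.succ_ne_zero q), zero_mul, add_zero] at hα
      exact hν₀ hα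
    obtain ⟨z, hzD, hz0, hzb⟩ := exists_ker (D i₀)
      (by rw [hD.decomp.finrank_eq]; exact hm2) (hermSesq hF n b₀)
    rw [hermSesq_apply] at hzb
    set v : Fin n → F := b₀ + α • b₁ with hv
    have hvv : hermForm n F q v v = 0 := by
      simp only [hv, hermForm_add_left, hermForm_add_right hF, hermForm_smul_left,
        hermForm_smul_right, horth i₀ i₁ h01 b₀ hb₀ b₁ hb₁, horth i₁ i₀ h01.symm b₁ hb₁ b₀ hb₀]
      linear_combination hα
    set x : Fin n → F := b₀ + z with hx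
    have hxD : x ∈ D i₀ := (D i₀).add_mem hb₀ hzD
    have hxv : hermForm n F q x v = hermForm n F q b₀ b₀ := by
      simp only [hx, hv, hermForm_add_left, hermForm_add_right hF, hermForm_smul_right,
        horth i₀ i₁ h01 b₀ hb₀ b₁ hb₁, horth i₀ i₁ h01 z hzD b₁ hb₁, hzb]
      ring
    obtain ⟨g, hg, hgx⟩ := exists_tv hF v hvv c hc
    obtain ⟨j, hj⟩ := stab_map_mem g (hle hg) hxD
    rw [hgx, hxv] at hj
    set lam : F := c * hermForm n F q b₀ b₀ with hlam
    have hlam0 : lam ≠ 0 := mul_ne_zero hc0 hν₀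
    have hb₁0 : b₁ ≠ 0 := fun h => hν₁ (by rw [h, hermForm_zero_left])
    have hrew : x + lam • v = ((1 + lam) • b₀ + z) + (lam * α) • b₁ + 0 := by
      rw [hx, hv]
      module
    rw [hrew] at hj
    refine not_mem_of_add3 hD.decomp h01 ((D i₀).add_mem ((D i₀).smul_mem _ hb₀) hzD)
      ((D i₁).smul_mem _ hb₁) ?_ (smul_ne_zero (mul_ne_zero hlam0 hα0) hb₁0)
      (Submodule.zero_mem _) j hj
    intro h0
    have h1 := congrArg (fun y => hermForm n F q y b₀) h0
    simp only [hermForm_add_left, hermForm_smul_left, hzb, hermForm_zero_left, add_zero] at h1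
    have h2 : (1 + lam) = 0 := by
      rcases mul_eq_zero.mp h1 with h | h
      · exact h
      · exact absurd h hν₀
    rw [h2, zero_smul, zero_add] at h0
    exact hz0 h0

include hF in
/-- the special unitary group stabilises no pair of complementary totally singular subspaces -/
theorem not_le_decomp_ts (hn : 4 ≤ n) {k : ℕ} {D : Fin 2 → Submodule F (Fin n → F)}
    (hD : IsMDecomposition k D) (hts : ∀ i, IsTotallySingularFor (hermForm n F q) (D i)) :
    ¬ SUg n F q ≤ decompositionStabilizer D := by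
  classical
  intro hle
  have hcard : 2 * k = n := Cfsg.Agent.Lib.Helper5.LinDecompForm.card_eq hD
  have hk2 : 2 ≤ k := by omega
  obtain ⟨c, hc0, hc⟩ := exists_c hF
  have hne : D 1 ≠ ⊥ := by
    intro h
    have := hD.finrank_eq 1
    rw [h, finrank_bot] at this
    omega
  obtain ⟨w, hwD, hw0⟩ := Submodule.exists_mem_ne_zero_of_ne_bot hne
  obtain ⟨u, huD, hu0, huw⟩ := exists_ker (D 0) (by rw [hD.finrank_eq]; exact hk2)
    (hermSesq hF n w)
  rw [hermSesq_apply] at huw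
  -- a vector of `D 0` not orthogonal to `w`
  obtain ⟨x, hxD, hxw⟩ : ∃ x ∈ D 0, hermForm n F q x w ≠ 0 := by
    by_contra hcon
    push Not at hcon
    have hker : iSup D ≤ LinearMap.ker (hermSesq hF n w) := by
      apply iSup_le
      intro i y hy
      rw [LinearMap.mem_ker, hermSesq_apply]
      fin_cases i
      · exact hcon y hy
      · exact hts 1 y hy w hwD
    rw [hD.iSup_eq_top] at hker
    apply hw0
    apply herm_eq_zero_of_forall hF
    intro y
    have h1 : y ∈ LinearMap.ker (hermSesq hF n w) := hker Submodule.mem_top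
    rw [LinearMap.mem_ker, hermSesq_apply] at h1
    exact herm_symm_zero hF n h1
  set v : Fin n → F := u + w with hv
  have hvv : hermForm n F q v v = 0 :=
    singular_add hF (hts 0 u huD u huD) (hts 1 w hwD w hwD) huw
  have hxv : hermForm n F q x v = hermForm n F q x w := by
    rw [hv, hermForm_add_right hF, hts 0 x hxD u huD, zero_add]
  obtain ⟨g, hg, hgx⟩ := exists_tv hF v hvv c hc
  obtain ⟨j, hj⟩ := stab_map_mem g (hle hg) hxD
  rw [hgx, hxv] at hj
  set lam : F := c * hermForm n F q x w with hlam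
  have hlam0 : lam ≠ 0 := mul_ne_zero hc0 hxw
  have hrew : x + lam • v = (x + lam • u) + lam • w + 0 := by
    rw [hv]
    module
  rw [hrew] at hj
  have h01 : (0 : Fin 2) ≠ 1 := by decide
  refine not_mem_of_add3 hD h01 ((D 0).add_mem hxD ((D 0).smul_mem _ huD))
    ((D 1).smul_mem _ hwD) ?_ (smul_ne_zero hlam0 hw0) (Submodule.zero_mem _) j hj
  intro h0
  have h1 := congrArg (fun y => hermForm n F q y w) h0
  simp only [hermForm_add_left, hermForm_smul_left, huw, hermForm_zero_left, mul_zero,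
    add_zero] at h1
  exact hxw h1

end Cfsg.Agent.Lib.Helper3.MaxU
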