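import Mathlib
import Cfsg.Prelude
import Cfsg.Agent.Lib.Helper3.MaxU3
import Cfsg.Agent.Lib.Helper3.MaxC2

set_option autoImplicit false
set_option maxHeartbeats 4000000
set_option maxRecDepth 100000
set_option linter.unusedVariables false
set_option linter.unusedSectionVars false
set_option linter.style.haveILetI false
set_option linter.deprecated false

/-! The special unitary group lies in no subfield group and preserves no tensor decomposition. -/

namespace Cfsg.Agent.Lib.Helper3.MaxU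

open Matrix Cfsg Cfsg.Geo Module
open Cfsg.Agent.Lib.Helper5.Herm Cfsg.Agent.Lib.Helper5.HermTv Cfsg.Agent.Lib.Helper5.HermSU
  Cfsg.Agent.Lib.Helper5.HermGen Cfsg.Agent.Lib.Helper5.SUCentres
  Cfsg.Agent.Lib.Helper5.HermSimple Cfsg.Agent.Lib.Helper5.SUTransv
  Cfsg.Agent.Lib.Helper5.HermCount Cfsg.Agent.Lib.Helper5.HermEich
  Cfsg.Agent.Lib.Helper5.HermBridge

variable {F : Type*} [Field F] [Fintype F] {q : ℕ} (hF : Fintype.card F = q ^ 2) {n : ℕ}

section subfield

omit [Fintype F] in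
/-- two independent vectors have a non-zero minor -/
theorem exists_minor_ne_zero (x y : Fin n → F)
    (h : ∀ a b : F, a • x + b • y = 0 → a = 0 ∧ b = 0) :
    ∃ i j, x i * y j - x j * y i ≠ 0 := by
  have hx0 : x ≠ 0 := by
    intro hx
    have := (h 1 0 (by rw [hx]; simp)).1
    exact one_ne_zero this
  obtain ⟨i, hi⟩ : ∃ i, x i ≠ 0 := by
    by_contra hcon
    push Not at hcon
    exact hx0 (funext hcon)
  by_contra hcon
  push Not at hcon
  have h1 : (-(y i / x i)) • x + (1 : F) • y = 0 := by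
    funext j
    have := hcon i j
    simp only [Pi.add_apply, Pi.smul_apply, smul_eq_mul, Pi.zero_apply]
    field_simp
    linear_combination this
  exact one_ne_zero (h _ _ h1).2

omit [Fintype F] in
/-- a transvection in a subfield group has a rational centre -/
theorem rational_of_tv (hn : 3 ≤ n) (F₀ : Subfield F) (Y : Matrix (Fin n) (Fin n) F)
    (hY : ∀ i j, Y i j ∈ F₀) (ζ : F) (hζ : ζ ≠ 0) (w ψ : Fin n → F) (hw : w ≠ 0) (hψ : ψ ≠ 0)
    (hψw : ψ ⬝ᵥ w = 0)
    (hM : ∀ a b, ζ * Y a b = (if a = b then 1 else 0) + w a * ψ b) :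
    ∃ μ : F, μ ≠ 0 ∧ ∀ i, μ * w i ∈ F₀ := by
  classical
  -- indices i ≠ k with w i * ψ k ≠ 0
  obtain ⟨i, k, hik, hwψ⟩ : ∃ i k, i ≠ k ∧ w i * ψ k ≠ 0 := by
    by_contra hcon
    push Not at hcon
    obtain ⟨i₀, hi₀⟩ : ∃ i, w i ≠ 0 := by
      by_contra h
      push Not at h
      exact hw (funext h)
    have h1 : ∀ k, k ≠ i₀ → ψ k = 0 := by
      intro k hk
      rcases mul_eq_zero.mp (hcon i₀ k hk.symm) with h | h
      · exact absurd h hi₀
      · exact h
    have h2 : ψ i₀ ≠ 0 := by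
      intro h
      apply hψ
      funext k
      by_cases hk : k = i₀
      · rw [hk, h]; rfl
      · rw [h1 k hk]; rfl
    have h3 : ψ ⬝ᵥ w = ψ i₀ * w i₀ := by
      unfold dotProduct
      rw [Finset.sum_eq_single i₀]
      · intro b _ hb
        rw [h1 b hb, zero_mul]
      · intro h
        exact absurd (Finset.mem_univ _) h
    rw [h3] at hψw
    exact mul_ne_zero h2 hi₀ hψw
  obtain ⟨j, hji, hjk⟩ : ∃ j : Fin n, j ≠ i ∧ j ≠ k := by
    have : ∃ j : ℕ, j < 3 ∧ j ≠ (i : ℕ) ∧ j ≠ (k : ℕ) := by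
      by_cases h0 : (0 ≠ (i : ℕ) ∧ 0 ≠ (k : ℕ))
      · exact ⟨0, by omega, h0.1, h0.2⟩
      by_cases h1 : (1 ≠ (i : ℕ) ∧ 1 ≠ (k : ℕ))
      · exact ⟨1, by omega, h1.1, h1.2⟩
      have : (i : ℕ) ≠ (k : ℕ) := fun h => hik (Fin.ext h)
      exact ⟨2, by omega, by omega, by omega⟩
    obtain ⟨j, hj3, hj1, hj2⟩ := this
    exact ⟨⟨j, by omega⟩, fun h => hj1 (congrArg Fin.val h), fun h => hj2 (congrArg Fin.val h)⟩
  have eij := hM i j
  have ejk := hM j k
  have eik := hM i k
  have ejj := hM j j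
  rw [if_neg hji.symm, zero_add] at eij
  rw [if_neg hjk, zero_add] at ejk
  rw [if_neg hik, zero_add] at eik
  rw [if_pos rfl] at ejj
  have hYik : Y i k ≠ 0 := by
    intro h
    rw [h, mul_zero] at eik
    exact hwψ eik.symm
  have hrel : ζ * (Y i k * Y j j - Y i j * Y j k) = Y i k := by
    have h1 : (ζ * Y i j) * (ζ * Y j k) = (ζ * Y i k) * (ζ * Y j j - 1) := by
      rw [eij, ejk, eik, ejj]
      ring
    have h2 : ζ * (ζ * (Y i k * Y j j - Y i j * Y j k) - Y i k) = 0 := by linear_combination -h1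
    rcases mul_eq_zero.mp h2 with h | h
    · exact absurd h hζ
    · exact sub_eq_zero.mp h
  have hβ : Y i k * Y j j - Y i j * Y j k ≠ 0 := by
    intro h
    rw [h, mul_zero] at hrel
    exact hYik hrel.symm
  have hζF : ζ ∈ F₀ := by
    have : ζ = Y i k / (Y i k * Y j j - Y i j * Y j k) := by
      rw [eq_div_iff hβ]
      exact hrel
    rw [this]
    exact F₀.div_mem (hY i k) (F₀.sub_mem (F₀.mul_mem (hY i k) (hY j j))
      (F₀.mul_mem (hY i j) (hY j k)))
  have hψk : ψ k ≠ 0 := right_ne_zero_of_mul hwψ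
  refine ⟨ψ k, hψk, fun a => ?_⟩
  have := hM a k
  have h1 : ψ k * w a = ζ * Y a k - (if a = k then 1 else 0) := by
    rw [this]
    ring
  rw [h1]
  refine F₀.sub_mem (F₀.mul_mem hζF (hY a k)) ?_
  split_ifs
  · exact F₀.one_mem
  · exact F₀.zero_mem

include hF in
/-- the special unitary group lies in no subfield group -/
theorem not_le_subfield (hn : 4 ≤ n) (F₀ : Subfield F) (hF₀ : F₀ ≠ ⊤) (P : GL (Fin n) F) :
    ¬ SUg n F q ≤ subfieldSubgroup F₀ P := by
  classical
  intro hle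
  set Pinv : Matrix (Fin n) (Fin n) F := ((P⁻¹ : GL (Fin n) F) : Matrix (Fin n) (Fin n) F) with hPi
  have hPiP : ∀ x, Pinv *ᵥ ((P : Matrix (Fin n) (Fin n) F) *ᵥ x) = x := by
    intro x
    rw [Matrix.mulVec_mulVec, hPi, ← Units.val_mul, inv_mul_cancel, Units.val_one,
      Matrix.one_mulVec]
  have hPPi : ∀ x, (P : Matrix (Fin n) (Fin n) F) *ᵥ (Pinv *ᵥ x) = x := by
    intro x
    rw [Matrix.mulVec_mulVec, hPi, ← Units.val_mul, mul_inv_cancel, Units.val_one,
      Matrix.one_mulVec]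
  obtain ⟨c, hc0, hc⟩ := exists_c hF
  -- every isotropic vector is rational up to a scalar
  have hrat : ∀ v : Fin n → F, v ≠ 0 → hermForm n F q v v = 0 →
      ∃ μ : F, μ ≠ 0 ∧ ∀ i, μ * (Pinv *ᵥ v) i ∈ F₀ := by
    intro v hv0 hv
    obtain ⟨g, hg, hgx⟩ := exists_tv hF v hv c hc
    obtain ⟨u, hu, hug⟩ := hle hg
    obtain ⟨y, ⟨y₀, rfl⟩, z, hz, hyz⟩ := Subgroup.mem_sup_of_normal_right.1 hu
    obtain ⟨ζ, hζ⟩ := (mem_scalars_iff z).1 hz
    have hug' : P * u * P⁻¹ = g := hug
    set Y : Matrix (Fin n) (Fin n) F :=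
      ((Matrix.GeneralLinearGroup.map (F₀.subtype : F₀ →+* F) y₀ : GL (Fin n) F) :
        Matrix (Fin n) (Fin n) F) with hYdef
    have hY : ∀ i j, Y i j ∈ F₀ := by
      intro i j
      show F₀.subtype _ ∈ F₀
      exact Subtype.prop _
    have hu_mat : (u : Matrix (Fin n) (Fin n) F) = (ζ : F) • Y := by
      rw [← hyz, Units.val_mul, hζ, Matrix.mul_smul, Matrix.mul_one]
    have hgmat : (g : Matrix (Fin n) (Fin n) F) =
        (P : Matrix (Fin n) (Fin n) F) * (u : Matrix (Fin n) (Fin n) F) * Pinv := by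
      rw [← hug']
      rfl
    set w : Fin n → F := Pinv *ᵥ v with hw
    set ψ : Fin n → F := fun b =>
      c * hermForm n F q ((P : Matrix (Fin n) (Fin n) F) *ᵥ (Pi.single b 1)) v with hψ
    have hux : ∀ x, (u : Matrix (Fin n) (Fin n) F) *ᵥ x =
        x + (c * hermForm n F q ((P : Matrix (Fin n) (Fin n) F) *ᵥ x) v) • w := by
      intro x
      have h1 := hgx ((P : Matrix (Fin n) (Fin n) F) *ᵥ x)
      rw [hgmat, ← Matrix.mulVec_mulVec, ← Matrix.mulVec_mulVec, hPiP] at h1
      have h2 := congrArg (fun y => Pinv *ᵥ y) h1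
      simp only [hPiP, Matrix.mulVec_add, Matrix.mulVec_smul] at h2
      exact h2
    have hM : ∀ a b, (ζ : F) * Y a b = (if a = b then 1 else 0) + w a * ψ b := by
      intro a b
      have h1 := congrFun (hux (Pi.single b 1)) a
      rw [hu_mat, Matrix.smul_mulVec, Matrix.mulVec_single_one] at h1
      simp only [Pi.smul_apply, Matrix.col_apply, smul_eq_mul, Pi.add_apply, Pi.single_apply] at h1
      rw [h1]
      simp only [hψ, eq_comm]
      ring
    have hw0 : w ≠ 0 := by
      intro h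
      apply hv0
      rw [← hPPi v, ← hw, h, Matrix.mulVec_zero]
    -- linearity in the first argument
    have hlin : ∀ x : Fin n → F, ∑ b, x b * ψ b =
        c * hermForm n F q ((P : Matrix (Fin n) (Fin n) F) *ᵥ x) v := by
      intro x
      have h1 : x = ∑ b, x b • (Pi.single b (1 : F) : Fin n → F) := by
        funext a
        simp [Finset.sum_apply, Pi.single_apply]
      have h2 : (hermSesq hF n v) ((Matrix.toLin' (P : Matrix (Fin n) (Fin n) F)) x) =
          ∑ b, x b • (hermSesq hF n v) ((Matrix.toLin' (P : Matrix (Fin n) (Fin n) F))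
            (Pi.single b 1)) := by
        conv_lhs => rw [h1]
        rw [map_sum, map_sum]
        refine Finset.sum_congr rfl fun b _ => ?_
        rw [map_smul, map_smul]
      simp only [hermSesq_apply, Matrix.toLin'_apply, smul_eq_mul] at h2
      rw [h2, Finset.mul_sum]
      refine Finset.sum_congr rfl fun b _ => ?_
      simp only [hψ]
      ring
    have hψ0 : ψ ≠ 0 := by
      intro h
      obtain ⟨f, -, hfv, -⟩ := exists_nonorth hF v hv0 hv
      have h1 := hlin (Pinv *ᵥ f)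
      rw [hPPi, hfv, mul_one] at h1
      apply hc0
      rw [← h1]
      apply Finset.sum_eq_zero
      intro b _
      rw [h]
      simp
    have hψw : ψ ⬝ᵥ w = 0 := by
      have h1 := hlin w
      rw [hw, hPPi, hv, mul_zero] at h1
      unfold dotProduct
      rw [← h1]
      refine Finset.sum_congr rfl fun b _ => ?_
      rw [mul_comm]
    exact rational_of_tv (by omega) F₀ Y hY (ζ : F) ζ.ne_zero w ψ hw0 hψ0 hψw hM
  -- two orthogonal isotropic vectors
  obtain ⟨ω, hω⟩ := exists_norm hF (-1 : F) (pow_q_neg_one hF)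
  have hq0 := q_ne_zero hF
  set j₀ : Fin n := ⟨0, by omega⟩ with hj₀
  set j₁ : Fin n := ⟨1, by omega⟩ with hj₁
  set j₂ : Fin n := ⟨2, by omega⟩ with hj₂
  set j₃ : Fin n := ⟨3, by omega⟩ with hj₃
  have h01 : j₀ ≠ j₁ := by simp [hj₀, hj₁, Fin.ext_iff]
  have h02 : j₀ ≠ j₂ := by simp [hj₀, hj₂, Fin.ext_iff]
  have h03 : j₀ ≠ j₃ := by simp [hj₀, hj₃, Fin.ext_iff]
  have h12 : j₁ ≠ j₂ := by simp [hj₁, hj₂, Fin.ext_iff]
  have h13 : j₁ ≠ j₃ := by simp [hj₁, hj₃, Fin.ext_iff]
  have h23 : j₂ ≠ j₃ := by simp [hj₂, hj₃, Fin.ext_iff]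
  set u : Fin n → F := Pi.single j₀ 1 + ω • Pi.single j₁ 1 with hu
  set w : Fin n → F := Pi.single j₂ 1 + ω • Pi.single j₃ 1 with hw
  have hωω : ω * ω ^ q = -1 := by rw [← hω]; ring
  have huu : hermForm n F q u u = 0 := by
    simp only [hu, hermForm_add_left, hermForm_add_right hF, hermForm_smul_left,
      hermForm_smul_right, herm_single_single n _ _ hq0, ↓reduceIte, if_neg h01,
      if_neg h01.symm]
    linear_combination hωω
  have hww : hermForm n F q w w = 0 := by
    simp only [hw, hermForm_add_left, hermForm_add_right hF, hermForm_smul_left,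
      hermForm_smul_right, herm_single_single n _ _ hq0, ↓reduceIte, if_neg h23,
      if_neg h23.symm]
    linear_combination hωω
  have huw : hermForm n F q u w = 0 := by
    simp only [hu, hw, hermForm_add_left, hermForm_add_right hF, hermForm_smul_left,
      hermForm_smul_right, herm_single_single n _ _ hq0, if_neg h02, if_neg h03, if_neg h12,
      if_neg h13]
    ring
  have hu0 : u ≠ 0 := by
    intro h
    have := congrFun h j₀
    simp [hu, Pi.single_apply, h01] at this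
  have hw0 : w ≠ 0 := by
    intro h
    have := congrFun h j₂
    simp [hw, Pi.single_apply, h23] at this
  obtain ⟨μu, hμu0, hμu⟩ := hrat u hu0 huu
  obtain ⟨μw, hμw0, hμw⟩ := hrat w hw0 hww
  obtain ⟨a, ha⟩ : ∃ a : F, a ∉ F₀ := by
    by_contra hcon
    push Not at hcon
    exact hF₀ (eq_top_iff.2 fun x _ => hcon x)
  set u₀ : Fin n → F := μu • (Pinv *ᵥ u) with hu₀
  set w₀ : Fin n → F := μw • (Pinv *ᵥ w) with hw₀
  have hu₀F : ∀ i, u₀ i ∈ F₀ := fun i => hμu i
  have hw₀F : ∀ i, w₀ i ∈ F₀ := fun i => hμw i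
  -- independence
  have hind : ∀ s t : F, s • u₀ + t • w₀ = 0 → s = 0 ∧ t = 0 := by
    intro s t hst
    have h1 : (s * μu) • u + (t * μw) • w = 0 := by
      have h2 := congrArg (fun y => (P : Matrix (Fin n) (Fin n) F) *ᵥ y) hst
      simp only [hu₀, hw₀, Matrix.mulVec_add, Matrix.mulVec_smul, hPPi, Matrix.mulVec_zero,
        smul_smul] at h2
      exact h2
    have e0 := congrFun h1 j₀
    have e2 := congrFun h1 j₂
    simp only [hu, hw, Pi.add_apply, Pi.smul_apply, Pi.single_apply, smul_eq_mul, Pi.zero_apply,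
      ↓reduceIte, if_neg h01, if_neg h02, if_neg h03, if_neg h01.symm, if_neg h02.symm,
      if_neg h03.symm, if_neg h12, if_neg h12.symm, if_neg h23, if_neg h23.symm, if_neg h13,
      if_neg h13.symm, mul_zero, mul_one, add_zero, zero_add] at e0 e2
    constructor
    · rcases mul_eq_zero.mp e0 with h | h
      · exact h
      · exact absurd h hμu0
    · rcases mul_eq_zero.mp e2 with h | h
      · exact h
      · exact absurd h hμw0
  obtain ⟨i, j, hδ⟩ := exists_minor_ne_zero u₀ w₀ hind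
  -- the isotropic vector `u₀ + a w₀` in the original coordinates
  set y : Fin n → F := μu • u + (a * μw) • w with hy
  have hyy : hermForm n F q y y = 0 := by
    apply singular_add hF (singular_smul hF _ huu) (singular_smul hF _ hww)
    rw [herm_smul_smul hF, huw, mul_zero]
  have hPy : Pinv *ᵥ y = u₀ + a • w₀ := by
    rw [hy, hu₀, hw₀, Matrix.mulVec_add, Matrix.mulVec_smul, Matrix.mulVec_smul, smul_smul]
  have hy0 : y ≠ 0 := by
    intro h
    have h1 : Pinv *ᵥ y = 0 := by rw [h, Matrix.mulVec_zero]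
    rw [hPy] at h1
    have := hind 1 a (by rw [one_smul]; exact h1)
    exact one_ne_zero this.1
  obtain ⟨μ, hμ0, hμ⟩ := hrat y hy0 hyy
  rw [hPy] at hμ
  have hi := hμ i
  have hj := hμ j
  simp only [Pi.add_apply, Pi.smul_apply, smul_eq_mul] at hi hj
  set δ : F := u₀ i * w₀ j - u₀ j * w₀ i with hδdef
  have hδF : δ ∈ F₀ := F₀.sub_mem (F₀.mul_mem (hu₀F i) (hw₀F j)) (F₀.mul_mem (hu₀F j) (hw₀F i))
  have h1 : μ * δ ∈ F₀ := by
    have : μ * δ = μ * (u₀ i + a * w₀ i) * w₀ j - μ * (u₀ j + a * w₀ j) * w₀ i := by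
      rw [hδdef]; ring
    rw [this]
    exact F₀.sub_mem (F₀.mul_mem hi (hw₀F j)) (F₀.mul_mem hj (hw₀F i))
  have h2 : μ * a * δ ∈ F₀ := by
    have : μ * a * δ = u₀ i * (μ * (u₀ j + a * w₀ j)) - u₀ j * (μ * (u₀ i + a * w₀ i)) := by
      rw [hδdef]; ring
    rw [this]
    exact F₀.sub_mem (F₀.mul_mem (hu₀F i) hj) (F₀.mul_mem (hu₀F j) hi)
  apply ha
  have hμδ : μ * δ ≠ 0 := mul_ne_zero hμ0 hδ
  have : a = (μ * a * δ) / (μ * δ) := by
    field_simp
  rw [this]
  exact F₀.div_mem h2 h1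

end subfield

section tensor
open Kronecker Cfsg.Agent.Lib.Helper5.TensorSub

variable {n₁ n₂ : ℕ}

/-- a pure tensor -/
def pt (x : Fin n₁ → F) (y : Fin n₂ → F) : Fin n₁ × Fin n₂ → F := fun p => x p.1 * y p.2

omit [Fintype F] in
theorem kron_mulVec_pt (a : Matrix (Fin n₁) (Fin n₁) F) (b : Matrix (Fin n₂) (Fin n₂) F)
    (x : Fin n₁ → F) (y : Fin n₂ → F) : (a ⊗ₖ b) *ᵥ pt x y = pt (a *ᵥ x) (b *ᵥ y) := by
  funext p
  obtain ⟨i, k⟩ := p
  simp only [Matrix.mulVec, dotProduct, pt, Matrix.kroneckerMap_apply]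
  rw [Fintype.sum_prod_type, Finset.sum_mul_sum]
  refine Finset.sum_congr rfl fun j _ => Finset.sum_congr rfl fun l _ => ?_
  ring

/-- the linear map `y ↦ x ⊗ y` -/
def ptL (x : Fin n₁ → F) : (Fin n₂ → F) →ₗ[F] (Fin n₁ × Fin n₂ → F) where
  toFun y := pt x y
  map_add' y y' := by funext p; simp [pt, mul_add]
  map_smul' c y := by funext p; simp [pt]; ring

/-- the linear map `x ↦ x ⊗ y` -/
def ptR (y : Fin n₂ → F) : (Fin n₁ → F) →ₗ[F] (Fin n₁ × Fin n₂ → F) where
  toFun x := pt x y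
  map_add' x x' := by funext p; simp [pt, add_mul]
  map_smul' c x := by funext p; simp [pt]; ring

omit [Fintype F] in
theorem exists_ker_top {m : ℕ} (hm : 2 ≤ m) (φ : (Fin m → F) →ₗ[F] F) :
    ∃ z : Fin m → F, z ≠ 0 ∧ φ z = 0 := by
  obtain ⟨z, -, hz0, hz⟩ := exists_ker (⊤ : Submodule F (Fin m → F))
    (by rw [finrank_top, Module.finrank_fin_fun]; exact hm) φ
  exact ⟨z, hz0, hz⟩

omit [Fintype F] in
/-- a Kronecker product is not a transvection -/
theorem kron_ne_tv (h1 : 2 ≤ n₁) (h2 : 2 ≤ n₂) (a : Matrix (Fin n₁) (Fin n₁) F)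
    (b : Matrix (Fin n₂) (Fin n₂) F) (ψ : (Fin n₁ × Fin n₂ → F) →ₗ[F] F)
    (w : Fin n₁ × Fin n₂ → F) (h : ∀ v, (a ⊗ₖ b) *ᵥ v = v + ψ v • w) :
    w = 0 ∨ ψ = 0 := by
  classical
  -- `a` is a scalar
  have ha : ∃ α : F, a = α • (1 : Matrix (Fin n₁) (Fin n₁) F) := by
    apply Cfsg.Agent.Lib.Helper5.SLNormalized.scalar_of_forall_mem_span (by omega)
    intro x
    by_cases hx : x = 0
    · rw [hx, Matrix.mulVec_zero]
      exact Submodule.zero_mem _
    obtain ⟨y, hy0, hy⟩ := exists_ker_top h2 (ψ.comp (ptL x))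
    have h3 : pt (a *ᵥ x) (b *ᵥ y) = pt x y := by
      rw [← kron_mulVec_pt, h]
      have : ψ (pt x y) = 0 := hy
      rw [this, zero_smul, add_zero]
    obtain ⟨k₀, hk₀⟩ : ∃ k, y k ≠ 0 := by
      by_contra hc
      push Not at hc
      exact hy0 (funext hc)
    obtain ⟨i₀, hi₀⟩ : ∃ i, x i ≠ 0 := by
      by_contra hc
      push Not at hc
      exact hx (funext hc)
    have hb0 : (b *ᵥ y) k₀ ≠ 0 := by
      intro hb
      have := congrFun h3 (i₀, k₀)
      simp only [pt] at this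
      rw [hb, mul_zero] at this
      exact mul_ne_zero hi₀ hk₀ this.symm
    rw [Submodule.mem_span_singleton]
    refine ⟨y k₀ / (b *ᵥ y) k₀, ?_⟩
    funext i
    have := congrFun h3 (i, k₀)
    simp only [pt] at this
    simp only [Pi.smul_apply, smul_eq_mul]
    field_simp
    linear_combination -this
  have hb : ∃ β : F, b = β • (1 : Matrix (Fin n₂) (Fin n₂) F) := by
    apply Cfsg.Agent.Lib.Helper5.SLNormalized.scalar_of_forall_mem_span (by omega)
    intro y
    by_cases hy : y = 0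
    · rw [hy, Matrix.mulVec_zero]
      exact Submodule.zero_mem _
    obtain ⟨x, hx0, hx⟩ := exists_ker_top h1 (ψ.comp (ptR y))
    have h3 : pt (a *ᵥ x) (b *ᵥ y) = pt x y := by
      rw [← kron_mulVec_pt, h]
      have : ψ (pt x y) = 0 := hx
      rw [this, zero_smul, add_zero]
    obtain ⟨k₀, hk₀⟩ : ∃ k, y k ≠ 0 := by
      by_contra hc
      push Not at hc
      exact hy (funext hc)
    obtain ⟨i₀, hi₀⟩ : ∃ i, x i ≠ 0 := by
      by_contra hc
      push Not at hc
      exact hx0 (funext hc)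
    have ha0 : (a *ᵥ x) i₀ ≠ 0 := by
      intro hb
      have := congrFun h3 (i₀, k₀)
      simp only [pt] at this
      rw [hb, zero_mul] at this
      exact mul_ne_zero hi₀ hk₀ this.symm
    rw [Submodule.mem_span_singleton]
    refine ⟨x i₀ / (a *ᵥ x) i₀, ?_⟩
    funext k
    have := congrFun h3 (i₀, k)
    simp only [pt] at this
    simp only [Pi.smul_apply, smul_eq_mul]
    field_simp
    linear_combination -this
  obtain ⟨α, rfl⟩ := ha
  obtain ⟨β, rfl⟩ := hb
  have hab : ∀ v : Fin n₁ × Fin n₂ → F, (α * β - 1) • v = ψ v • w := by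
    intro v
    have h3 := h v
    rw [Matrix.smul_kronecker, Matrix.kronecker_smul, Matrix.one_kronecker_one, smul_smul,
      Matrix.smul_mulVec, Matrix.one_mulVec] at h3
    rw [sub_smul, one_smul, h3]
    abel
  by_cases hw : w = 0
  · exact Or.inl hw
  right
  obtain ⟨ps, hps⟩ : ∃ p, w p ≠ 0 := by
    by_contra hc
    push Not at hc
    exact hw (funext hc)
  have hψ1 : ∀ p, p ≠ ps → ψ (Pi.single p 1) = 0 := by
    intro p hp
    have := congrFun (hab (Pi.single p 1)) ps
    simp only [Pi.smul_apply, smul_eq_mul, Pi.single_apply, if_neg hp.symm, mul_zero] at this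
    rcases mul_eq_zero.mp this.symm with h | h
    · exact h
    · exact absurd h hps
  obtain ⟨p', hp'⟩ : ∃ p : Fin n₁ × Fin n₂, p ≠ ps := by
    by_cases h0 : ps.1 = ⟨0, by omega⟩
    · refine ⟨(⟨1, by omega⟩, ps.2), fun h => ?_⟩
      have := congrArg Prod.fst h
      rw [h0] at this
      simp [Fin.ext_iff] at this
    · exact ⟨(⟨0, by omega⟩, ps.2), fun h => h0 (congrArg Prod.fst h).symm⟩
  have hκ : α * β - 1 = 0 := by
    have := congrFun (hab (Pi.single p' 1)) p'
    simp only [Pi.smul_apply, smul_eq_mul, Pi.single_apply, ↓reduceIte, mul_one] at this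
    rw [this, hψ1 p' hp', zero_mul]
  have hψ2 : ψ (Pi.single ps 1) = 0 := by
    have := congrFun (hab (Pi.single ps 1)) ps
    rw [hκ] at this
    simp only [Pi.smul_apply, smul_eq_mul, zero_mul] at this
    rcases mul_eq_zero.mp this.symm with h | h
    · exact h
    · exact absurd h hps
  apply LinearMap.pi_ext'
  intro p
  apply LinearMap.ext_ring
  simp only [LinearMap.coe_comp, LinearMap.coe_single, Function.comp_apply, LinearMap.zero_comp,
    LinearMap.zero_apply]
  by_cases hp : p = ps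
  · rw [hp]; exact hψ2
  · exact hψ1 p hp

include hF in
/-- the special unitary group preserves no tensor decomposition -/
theorem not_le_tensor (hn : 2 ≤ n) (h1 : 2 ≤ n₁) (h2 : 2 ≤ n₂) (e : Fin n ≃ Fin n₁ × Fin n₂)
    (P : GL (Fin n) F) : ¬ SUg n F q ≤ tensorProductSubgroup n₁ n₂ e P := by
  classical
  intro hle
  set Pinv : Matrix (Fin n) (Fin n) F := ((P⁻¹ : GL (Fin n) F) : Matrix (Fin n) (Fin n) F) with hPi
  have hPiP : ∀ x, Pinv *ᵥ ((P : Matrix (Fin n) (Fin n) F) *ᵥ x) = x := by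
    intro x
    rw [Matrix.mulVec_mulVec, hPi, ← Units.val_mul, inv_mul_cancel, Units.val_one,
      Matrix.one_mulVec]
  have hPPi : ∀ x, (P : Matrix (Fin n) (Fin n) F) *ᵥ (Pinv *ᵥ x) = x := by
    intro x
    rw [Matrix.mulVec_mulVec, hPi, ← Units.val_mul, mul_inv_cancel, Units.val_one,
      Matrix.one_mulVec]
  obtain ⟨c, hc0, hc⟩ := exists_c hF
  obtain ⟨v, f, hv, hf, hvf⟩ := exists_hyp_pair hF n hn
  have hfv : hermForm n F q f v = 1 := herm_fe hF hvf
  have hv0 : v ≠ 0 := by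
    rintro rfl
    rw [hermForm_zero_left] at hvf
    exact zero_ne_one hvf
  obtain ⟨g, hg, hgx⟩ := exists_tv hF v hv c hc
  obtain ⟨a, b, hab⟩ := (mem_tensor e P g).1 (hle hg)
  set ψ : (Fin n₁ × Fin n₂ → F) →ₗ[F] F :=
    c • ((hermSesq hF n v).comp ((Matrix.toLin' (P : Matrix (Fin n) (Fin n) F)).comp
      (LinearMap.funLeft F F e))) with hψ
  have hψv : ∀ v', ψ v' = c * hermForm n F q ((P : Matrix (Fin n) (Fin n) F) *ᵥ (v' ∘ e)) v := by
    intro v'
    simp only [hψ, LinearMap.smul_apply, LinearMap.coe_comp, Function.comp_apply,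
      hermSesq_apply, Matrix.toLin'_apply, smul_eq_mul]
    rfl
  set w : Fin n₁ × Fin n₂ → F := (Pinv *ᵥ v) ∘ e.symm with hw
  have key : ∀ v', ((a : Matrix (Fin n₁) (Fin n₁) F) ⊗ₖ (b : Matrix (Fin n₂) (Fin n₂) F)) *ᵥ v' =
      v' + ψ v' • w := by
    intro v'
    have h3 := Phi_mulVec e P (kron a b) v'
    rw [← hab, hgx, coe_kron] at h3
    have h4 := congrArg (fun y => Pinv *ᵥ y) h3
    simp only [hPiP, Matrix.mulVec_add, Matrix.mulVec_smul] at h4
    funext p
    have h5 := congrFun h4 (e.symm p)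
    simp only [Function.comp_apply, Equiv.apply_symm_apply, Pi.add_apply, Pi.smul_apply,
      smul_eq_mul] at h5
    rw [← h5]
    simp only [Pi.add_apply, Pi.smul_apply, smul_eq_mul, hψv, hw, Function.comp_apply]
  rcases kron_ne_tv h1 h2 _ _ ψ w key with h | h
  · apply hv0
    have h3 : Pinv *ᵥ v = 0 := by
      funext i
      have := congrFun h (e i)
      simp only [hw, Function.comp_apply, Equiv.symm_apply_apply] at this
      exact this
    rw [← hPPi v, h3, Matrix.mulVec_zero]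
  · have h3 := hψv ((Pinv *ᵥ f) ∘ e.symm)
    rw [h, LinearMap.zero_apply] at h3
    have h4 : ((Pinv *ᵥ f) ∘ e.symm) ∘ e = Pinv *ᵥ f := by
      funext i
      simp
    rw [h4, hPPi, hfv, mul_one] at h3
    exact hc0 h3.symm

end tensor

end Cfsg.Agent.Lib.Helper3.MaxU
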