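import Mathlib
import Cfsg.Prelude
import Cfsg.Agent.Lib.Helper3.MaxU4
import Cfsg.Agent.Lib.Helper3.MaxC4
import Cfsg.Agent.Lib.Helper8.AschA1
import Cfsg.Agent.Lib.Helper8.AschM2
import Cfsg.Agent.Lib.Helper8.Ext1

set_option autoImplicit false
set_option maxHeartbeats 4000000
set_option maxRecDepth 100000
set_option linter.unusedVariables false
set_option linter.unusedSectionVars false
set_option linter.style.haveILetI false
set_option linter.deprecated false

/-! Groups of symplectic type: class two, Burnside, and the order formula. -/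

namespace Cfsg.Agent.Lib.Helper3.MaxU

open Matrix Cfsg Cfsg.Geo Module
open scoped commutatorElement

section classtwo
variable {G : Type*} [Group G]

/-- multiplicativity of the commutator with an element of the second centre -/
theorem comm_mul_of_central (g h a : G) (hz : ⁅h, a⁆ ∈ Subgroup.center G) :
    ⁅g * h, a⁆ = ⁅g, a⁆ * ⁅h, a⁆ := by
  have hza : h * a * h⁻¹ = ⁅h, a⁆ * a := by
    rw [commutatorElement_def]; group
  have hcz : ∀ x : G, x * ⁅h, a⁆ = ⁅h, a⁆ * x := fun x =>
    (Subgroup.mem_center_iff.1 hz x)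
  calc ⁅g * h, a⁆ = g * (h * a * h⁻¹) * g⁻¹ * a⁻¹ := by
        rw [commutatorElement_def]; group
    _ = g * (⁅h, a⁆ * a) * g⁻¹ * a⁻¹ := by rw [hza]
    _ = (g * ⁅h, a⁆) * a * g⁻¹ * a⁻¹ := by group
    _ = (⁅h, a⁆ * g) * a * g⁻¹ * a⁻¹ := by rw [hcz g]
    _ = ⁅h, a⁆ * (g * a * g⁻¹ * a⁻¹) := by group
    _ = ⁅h, a⁆ * ⁅g, a⁆ := by rw [commutatorElement_def g a]
    _ = ⁅g, a⁆ * ⁅h, a⁆ := (hcz _).symm

/-- a finite `r`-group whose characteristic abelian subgroups are cyclic and whose centre has the
order of the exponent has class at most two -/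
theorem commutator_mem_center [Finite G] {r : ℕ} [hr : Fact r.Prime] (hG : IsPGroup r G)
    (hcyc : ∀ A : Subgroup G, A.Characteristic → IsMulCommutative A → IsCyclic A)
    (E : ℕ) (hE : ∀ g : G, g ^ E = 1) (hZ : Nat.card (Subgroup.center G) = E) (hE0 : 0 < E)
    (x y : G) : ⁅x, y⁆ ∈ Subgroup.center G := by
  classical
  set Z : Subgroup G := Subgroup.center G with hZdef
  set Z₂ : Subgroup G := Subgroup.upperCentralSeriesStep Z with hZ₂
  set C : Subgroup G := Subgroup.centralizer (Z₂ : Set G) with hC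
  set A : Subgroup G := Z₂ ⊓ C with hA
  haveI : Z₂.Characteristic := by rw [hZ₂]; infer_instance
  haveI : C.Characteristic := by rw [hC]; infer_instance
  haveI hAchar : A.Characteristic := by rw [hA]; infer_instance
  have hZZ₂ : Z ≤ Z₂ := by
    intro z hz
    rw [hZ₂, Subgroup.mem_upperCentralSeriesStep]
    intro g
    have : ⁅z, g⁆ = 1 := by
      rw [commutatorElement_eq_one_iff_mul_comm]
      exact ((Subgroup.mem_center_iff.1 hz) g).symm
    rw [this]
    exact Z.one_mem
  have hZC : Z ≤ C := by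
    intro z hz
    rw [hC, Subgroup.mem_centralizer_iff]
    intro h _
    exact (Subgroup.mem_center_iff.1 hz) h
  have hZA : Z ≤ A := le_inf hZZ₂ hZC
  have hAcomm : IsMulCommutative A := by
    refine ⟨⟨fun a b => ?_⟩⟩
    apply Subtype.ext
    have hb : (b : G) ∈ C := b.2.2
    rw [hC, Subgroup.mem_centralizer_iff] at hb
    show (a : G) * (b : G) = (b : G) * (a : G)
    exact (hb a a.2.1)
  have hAcyc : IsCyclic A := hcyc A hAchar hAcomm
  have hAcard : Nat.card A ∣ E := by
    rw [← IsCyclic.exponent_eq_card]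
    apply Monoid.exponent_dvd_of_forall_pow_eq_one
    intro a
    apply Subtype.ext
    rw [Subgroup.coe_pow, hE]
    rfl
  have hAZ : A = Z := by
    symm
    apply Subgroup.eq_of_le_of_card_ge hZA
    rw [hZ]
    exact Nat.le_of_dvd hE0 hAcard
  -- the centraliser of the second centre is the centre
  have hCZ : C ≤ Z := by
    by_contra hcon
    haveI hCn : C.Normal := inferInstance
    set Cbar : Subgroup (G ⧸ Z) := C.map (QuotientGroup.mk' Z) with hCbar
    haveI : Cbar.Normal := by
      rw [hCbar]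
      exact Subgroup.Normal.map hCn _ (QuotientGroup.mk'_surjective Z)
    have hCbar0 : Cbar ≠ ⊥ := by
      intro h
      apply hcon
      intro c hc
      have : QuotientGroup.mk' Z c ∈ Cbar := Subgroup.mem_map_of_mem _ hc
      rw [h, Subgroup.mem_bot] at this
      exact (QuotientGroup.eq_one_iff c).1 this
    have hQ : IsPGroup r (G ⧸ Z) := hG.to_quotient Z
    obtain ⟨xb, hxb, hxbc, hxb1⟩ :=
      Cfsg.Agent.Lib.Helper8.Ext.normal_inf_center hQ Cbar hCbar0
    obtain ⟨c, hc, rfl⟩ := hxb
    have hcZ₂ : c ∈ Z₂ := by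
      rw [hZ₂, Subgroup.upperCentralSeriesStep_eq_comap_center]
      exact hxbc
    have hcA : c ∈ A := ⟨hcZ₂, hc⟩
    rw [hAZ] at hcA
    exact hxb1 ((QuotientGroup.eq_one_iff c).2 hcA)
  apply hCZ
  rw [hC, Subgroup.mem_centralizer_iff]
  intro a ha
  have ha' : a ∈ Subgroup.upperCentralSeriesStep Z := ha
  rw [Subgroup.mem_upperCentralSeriesStep] at ha'
  have hmem : ∀ g : G, ⁅g, a⁆ ∈ Z := by
    intro g
    rw [← commutatorElement_inv]
    exact Z.inv_mem (ha' g)
  let χ : G →* Z :=
    { toFun := fun g => ⟨⁅g, a⁆, hmem g⟩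
      map_one' := by
        apply Subtype.ext
        show ⁅(1 : G), a⁆ = 1
        rw [commutatorElement_one_left]
      map_mul' := by
        intro g h
        apply Subtype.ext
        show ⁅g * h, a⁆ = ⁅g, a⁆ * ⁅h, a⁆
        exact comm_mul_of_central g h a (hmem h) }
  have h1 : χ ⁅x, y⁆ = 1 := by
    rw [map_commutatorElement, commutatorElement_eq_one_iff_mul_comm]
    apply Subtype.ext
    exact (Subgroup.mem_center_iff.1 (χ y).2) (χ x)
  have h2 : ⁅⁅x, y⁆, a⁆ = 1 := congrArg Subtype.val h1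
  rw [commutatorElement_eq_one_iff_mul_comm] at h2
  exact h2.symm

end classtwo

section burnside
open Cfsg.Agent.Lib.Helper8.Asch

variable {F : Type*} [Field F] {n : ℕ}

/-- Burnside: an absolutely irreducible matrix group spans the matrix algebra -/
theorem span_of_absIrred (hn : 1 ≤ n) (R : Subgroup (GL (Fin n) F))
    (hirr : ActsAbsolutelyIrreducibly (matrixSet R)) :
    Submodule.span F (mset R) = ⊤ := by
  classical
  set A : Subalgebra F (Module.End F (Fin n → F)) := algOf (HV R) with hA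
  haveI : Nonempty (Fin n) := ⟨⟨0, by omega⟩⟩
  haveI : Nontrivial (Fin n → F) := inferInstance
  have hmemA : ∀ g ∈ R, Matrix.toLin' (g : Matrix (Fin n) (Fin n) F) ∈ A := by
    intro g hg
    rw [← toV_val]
    exact mem_algOf (mem_HV hg)
  have hsimple : ∀ N : Submodule A (Fin n → F), N = ⊥ ∨ N = ⊤ := by
    intro N
    set W : Submodule F (Fin n → F) := N.restrictScalars F with hW
    have hWinv : ∀ s ∈ matrixSet R, W.map (Matrix.toLin' s) ≤ W := by
      rintro s ⟨g, hg, rfl⟩ y ⟨x, hx, rfl⟩
      have hx' : x ∈ N := hx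
      have : (⟨Matrix.toLin' (g : Matrix (Fin n) (Fin n) F), hmemA g hg⟩ : A) • x ∈ N :=
        N.smul_mem _ hx'
      exact this
    rcases hirr.1 W hWinv with h | h
    · left
      exact (Submodule.restrictScalars_eq_bot_iff F A _).1 h
    · right
      exact (Submodule.restrictScalars_eq_top_iff F A _).1 h
  haveI : Nontrivial (Submodule A (Fin n → F)) := ⟨⟨⊥, ⊤, bot_ne_top⟩⟩
  haveI : IsSimpleOrder (Submodule A (Fin n → F)) := { eq_bot_or_eq_top := hsimple }
  haveI : IsSimpleModule A (Fin n → F) := { }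
  have hD : ∀ δ : Module.End A (Fin n → F), ∃ c : F, ∀ s, δ s = c • s := by
    intro δ
    set δF : Module.End F (Fin n → F) := δ.restrictScalars F with hδF
    obtain ⟨c, hc⟩ := hirr.2 (LinearMap.toMatrix' δF) (by
      rintro s ⟨g, hg, rfl⟩
      apply Matrix.toLin'.injective
      rw [Matrix.toLin'_mul, Matrix.toLin'_mul, Matrix.toLin'_toMatrix']
      apply LinearMap.ext
      intro x
      show δ (Matrix.toLin' (g : Matrix (Fin n) (Fin n) F) x) =
        Matrix.toLin' (g : Matrix (Fin n) (Fin n) F) (δ x)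
      have := δ.map_smul (⟨Matrix.toLin' (g : Matrix (Fin n) (Fin n) F), hmemA g hg⟩ : A) x
      exact this)
    refine ⟨c, fun s => ?_⟩
    have h1 : δF = c • (1 : Module.End F (Fin n → F)) := by
      apply (LinearMap.toMatrix' : _ ≃ₗ[F] Matrix (Fin n) (Fin n) F).injective
      rw [hc, map_smul]
      congr 1
      exact (LinearMap.toMatrix'_one).symm
    have h2 := LinearMap.congr_fun h1 s
    exact h2
  rw [eq_top_iff]
  intro M _
  rw [← mem_algOf_HV_iff]
  obtain ⟨a, ha⟩ := burnside (F := F) (R := A) (S := Fin n → F) hD (Matrix.toLin' M)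
  have : (a : Module.End F (Fin n → F)) = Matrix.toLin' M := by
    apply LinearMap.ext
    intro s
    exact ha s
  rw [← this]
  exact a.2

end burnside

section card
open Cfsg.Agent.Lib.Helper8.Asch

variable {F : Type*} [Field F] [Fintype F] {n : ℕ}

/-- the order of an absolutely irreducible group of symplectic type with large centre -/
theorem card_of_symplecticType (hn : 1 ≤ n) {r : ℕ} {R : Subgroup (GL (Fin n) F)}
    (hR : IsSymplecticTypeGroup r R) (hirr : ActsAbsolutelyIrreducibly (matrixSet R))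
    (hZ : Nat.card (Subgroup.center R) = r * Nat.gcd 2 r) :
    Nat.card R = Nat.card (Subgroup.center R) * n ^ 2 := by
  classical
  haveI : Fact r.Prime := ⟨hR.prime⟩
  haveI : Nonempty (Fin n) := ⟨⟨0, by omega⟩⟩
  haveI : Finite R := inferInstance
  have hE0 : 0 < r * Nat.gcd 2 r :=
    Nat.mul_pos hR.prime.pos (Nat.gcd_pos_of_pos_left _ (by norm_num))
  have hcomm : ∀ x y : R, ⁅x, y⁆ ∈ Subgroup.center R :=
    commutator_mem_center hR.pGroup hR.cyclic_of_characteristic (r * Nat.gcd 2 r)
      (fun g => by rw [← hR.exponent_eq]; exact Monoid.pow_exponent_eq_one g) hZ hE0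
  have hCl2 : Cl2 R := by
    refine ⟨inferInstance, span_of_absIrred hn R hirr, ?_⟩
    intro x hx y hy
    have h1 := hcomm ⟨x, hx⟩ ⟨y, hy⟩
    obtain ⟨c, hc⟩ := hirr.2 ((⁅x, y⁆ : GL (Fin n) F) : Matrix (Fin n) (Fin n) F) (by
      rintro s ⟨g, hg, rfl⟩
      have h2 := Subgroup.mem_center_iff.1 h1 ⟨g, hg⟩
      have h3 := congrArg (fun z : R => ((z.1 : GL (Fin n) F) : Matrix (Fin n) (Fin n) F)) h2
      simp only [Subgroup.coe_mul, Units.val_mul] at h3
      exact h3.symm)
    have hc0 : c ≠ 0 := by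
      intro h0
      rw [h0, zero_smul] at hc
      have : (1 : Matrix (Fin n) (Fin n) F) = 0 := by
        rw [← Units.inv_mul ⁅x, y⁆, hc, mul_zero]
      exact one_ne_zero this
    exact ⟨Units.mk0 c hc0, hc⟩
  rw [card_N hCl2, card_center hCl2, Fintype.card_fin]

end card

end Cfsg.Agent.Lib.Helper3.MaxU
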