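import Mathlib
import Cfsg.Prelude
import Cfsg.Agent.Lib.Helper3.MaxU5
import Cfsg.Agent.Lib.Helper3.MaxC7

set_option autoImplicit false
set_option maxHeartbeats 4000000
set_option maxRecDepth 100000
set_option linter.unusedVariables false
set_option linter.unusedSectionVars false
set_option linter.style.haveILetI false
set_option linter.deprecated false

/-! Normalisers of groups of symplectic type in the unitary case: properness and parameters. -/

namespace Cfsg.Agent.Lib.Helper3.MaxU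

open Matrix Cfsg Cfsg.Geo Module
open Cfsg.Agent.Lib.Helper5.Herm Cfsg.Agent.Lib.Helper5.HermTv Cfsg.Agent.Lib.Helper5.HermSU
  Cfsg.Agent.Lib.Helper5.HermGen Cfsg.Agent.Lib.Helper5.SUCentres
  Cfsg.Agent.Lib.Helper5.HermSimple Cfsg.Agent.Lib.Helper5.SUTransv
  Cfsg.Agent.Lib.Helper5.HermCount Cfsg.Agent.Lib.Helper5.HermEich
  Cfsg.Agent.Lib.Helper5.HermBridge
open scoped commutatorElement

variable {F : Type*} [Field F] [Fintype F] {q : ℕ} (hF : Fintype.card F = q ^ 2) {n : ℕ}

include hF in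
/-- an invertible matrix commuting with the special unitary group is a scalar -/
theorem mem_scalars_of_commute (hn : 2 ≤ n) (x : GL (Fin n) F)
    (hx : ∀ s ∈ SUg n F q, x * s = s * x) : x ∈ scalars (Fin n) F := by
  obtain ⟨a, ha⟩ := scalar_of_commute hF hn (x : Matrix (Fin n) (Fin n) F) (by
    intro g hg
    have := congrArg (fun y : GL (Fin n) F => (y : Matrix (Fin n) (Fin n) F)) (hx g hg)
    simpa using this)
  have ha0 : a ≠ 0 := by
    intro h0
    rw [h0, zero_smul] at ha
    have h1mat : (1 : Matrix (Fin n) (Fin n) F) = 0 := by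
      rw [← Units.inv_mul x, ha, mul_zero]
    haveI : Nonempty (Fin n) := ⟨⟨0, by omega⟩⟩
    exact one_ne_zero h1mat
  rw [mem_scalars_iff]
  exact ⟨Units.mk0 a ha0, ha⟩

include hF in
/-- powers of a unitary transvection -/
theorem tv_pow (v : Fin n → F) (hv : hermForm n F q v v = 0) (c : F) (g : GL (Fin n) F)
    (hgx : ∀ x, (g : Matrix (Fin n) (Fin n) F) *ᵥ x = x + (c * hermForm n F q x v) • v)
    (m : ℕ) (x : Fin n → F) :
    ((g ^ m : GL (Fin n) F) : Matrix (Fin n) (Fin n) F) *ᵥ x =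
      x + ((m : F) * c * hermForm n F q x v) • v := by
  induction m generalizing x with
  | zero => simp
  | succ m ih =>
    rw [pow_succ, Units.val_mul, ← Matrix.mulVec_mulVec, hgx, Matrix.mulVec_add,
      Matrix.mulVec_smul, ih, ih, hv, mul_zero, zero_smul, add_zero, Nat.cast_succ]
    module

include hF in
/-- the special unitary group normalises no absolutely irreducible group of symplectic type
lying in the similarity group -/
theorem not_le_class6 (hn : 3 ≤ n) (h32 : ¬ (n = 3 ∧ q = 2)) {r p : ℕ}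
    {R : Subgroup (GL (Fin n) F)} (hR : IsSymplecticTypeGroup r R)
    (hirr : ActsAbsolutelyIrreducibly (matrixSet R))
    (hsim : R ≤ similarityGroup (hermForm n F q)) (hp : p.Prime) (hchar : CharP F p)
    (hrp : r ≠ p) : ¬ SUg n F q ≤ subgroupNormalizer R := by
  classical
  intro hle
  have hnorm : ∀ s ∈ SUg n F q, ∀ g ∈ R, s * g * s⁻¹ ∈ R := by
    intro s hs g hg
    exact (Subgroup.mem_normalizer_iff.1 (hle hs) g).1 hg
  -- `R` normalises the special unitary group
  have hRS : ∀ g ∈ R, ∀ s ∈ SUg n F q, g * s * g⁻¹ ∈ SUg n F q := by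
    intro g hg s hs
    refine ⟨?_, MaxC.specialLinear_normal.conj_mem s hs.2 g⟩
    obtain ⟨c, hc⟩ := hsim hg
    intro u v
    have hsU : s ∈ Cfsg.GU n F q := hs.1
    set u' := ((g⁻¹ : GL (Fin n) F) : Matrix (Fin n) (Fin n) F) *ᵥ u with hu'
    set v' := ((g⁻¹ : GL (Fin n) F) : Matrix (Fin n) (Fin n) F) *ᵥ v with hv'
    have hgu : (g : Matrix (Fin n) (Fin n) F) *ᵥ u' = u := by
      rw [hu', Matrix.mulVec_mulVec, ← Units.val_mul, mul_inv_cancel, Units.val_one,
        Matrix.one_mulVec]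
    have hgv : (g : Matrix (Fin n) (Fin n) F) *ᵥ v' = v := by
      rw [hv', Matrix.mulVec_mulVec, ← Units.val_mul, mul_inv_cancel, Units.val_one,
        Matrix.one_mulVec]
    show hermForm n F q (((g * s * g⁻¹ : GL (Fin n) F) : Matrix (Fin n) (Fin n) F) *ᵥ u)
      (((g * s * g⁻¹ : GL (Fin n) F) : Matrix (Fin n) (Fin n) F) *ᵥ v) = hermForm n F q u v
    have hsU' : hermForm n F q ((s : Matrix (Fin n) (Fin n) F) *ᵥ u')
        ((s : Matrix (Fin n) (Fin n) F) *ᵥ v') = hermForm n F q u' v' := hsU u' v'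
    rw [Units.val_mul, Units.val_mul, ← Matrix.mulVec_mulVec, ← Matrix.mulVec_mulVec,
      ← Matrix.mulVec_mulVec, ← Matrix.mulVec_mulVec, ← hu', ← hv', hc, hsU', ← hc,
      hgu, hgv]
  set N : Subgroup (GL (Fin n) F) := R ⊓ SUg n F q with hN
  have hcommN : ∀ g ∈ R, ∀ s ∈ SUg n F q, ⁅g, s⁆ ∈ N := by
    intro g hg s hs
    constructor
    · have : ⁅g, s⁆ = g * (s * g⁻¹ * s⁻¹) := by rw [commutatorElement_def]; group
      rw [this]
      exact R.mul_mem hg (hnorm s hs _ (R.inv_mem hg))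
    · have : ⁅g, s⁆ = (g * s * g⁻¹) * s⁻¹ := by rw [commutatorElement_def]
      rw [this]
      exact (SUg n F q).mul_mem (hRS g hg s hs) ((SUg n F q).inv_mem hs)
  set φ : ↥(Cfsg.SU n F q) →* GL (Fin n) F := (Cfsg.GU n F q).subtype.comp (toGU n) with hφ
  have hmem : ∀ A : ↥(Cfsg.SU n F q), φ A ∈ SUg n F q := by
    intro A
    rw [mem_SU_iff]
    exact ⟨(toGU n A).2, det_toGU n A⟩
  have hsurj : ∀ s ∈ SUg n F q, ∃ A, φ A = s := by
    intro s hs
    rw [mem_SU_iff] at hs
    obtain ⟨A, hA⟩ := exists_toGU_eq n ⟨s, hs.1⟩ hs.2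
    refine ⟨A, ?_⟩
    show ((toGU n A : ↥(Cfsg.GU n F q)) : GL (Fin n) F) = s
    rw [hA]
  have hinj : Function.Injective φ := by
    intro A B hAB
    apply toGU_injective n
    exact Subtype.ext hAB
  set N' : Subgroup ↥(Cfsg.SU n F q) := N.comap φ with hN'
  haveI : N'.Normal := by
    refine ⟨fun B hB A => ?_⟩
    show φ (A * B * A⁻¹) ∈ N
    rw [map_mul, map_mul, map_inv]
    have hB' : φ B ∈ N := hB
    exact ⟨hnorm _ (hmem A) _ hB'.1,
      (SUg n F q).mul_mem ((SUg n F q).mul_mem (hmem A) hB'.2) ((SUg n F q).inv_mem (hmem A))⟩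
  obtain ⟨c, hc0, hc⟩ := exists_c hF
  obtain ⟨v, f, hv, hf, hvf⟩ := exists_hyp_pair hF n (by omega)
  have hfv : hermForm n F q f v = 1 := herm_fe hF hvf
  have hv0 : v ≠ 0 := by
    rintro rfl
    rw [hermForm_zero_left] at hvf
    exact zero_ne_one hvf
  rcases normal_le_center_or_eq_top hF n hn h32 N' with hcen | htop
  swap
  · -- the special unitary group would be an `r`-group
    obtain ⟨g, hg, hgx⟩ := exists_tv hF v hv c hc
    obtain ⟨A, hA⟩ := hsurj g hg
    have hAN : A ∈ N' := by rw [htop]; exact Subgroup.mem_top A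
    have hgR : g ∈ R := by
      rw [← hA]
      exact hAN.1
    obtain ⟨k, hk⟩ := hR.pGroup ⟨g, hgR⟩
    have hk' : g ^ (r ^ k) = 1 := by
      have := congrArg Subtype.val hk
      simpa using this
    have h1 := tv_pow hF v hv c g hgx (r ^ k) f
    rw [hk', Units.val_one, Matrix.one_mulVec, hfv, mul_one] at h1
    have h2 : (((r ^ k : ℕ) : F) * c) • v = 0 := by
      have := h1.symm
      rwa [add_eq_left] at this
    rcases smul_eq_zero.mp h2 with h3 | h3
    · rcases mul_eq_zero.mp h3 with h4 | h4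
      · have hdvd : p ∣ r ^ k := by
          haveI := hchar
          exact (CharP.cast_eq_zero_iff F p _).1 h4
        exact hrp ((Nat.prime_dvd_prime_iff_eq hp hR.prime).1 (hp.dvd_of_dvd_pow hdvd)).symm
      · exact hc0 h4
    · exact hv0 h3
  · -- elements of `N` are scalars
    have hNscal : ∀ x ∈ N, x ∈ scalars (Fin n) F := by
      intro x hx
      apply mem_scalars_of_commute hF (by omega)
      intro s hs
      obtain ⟨B, hB⟩ := hsurj x hx.2
      obtain ⟨A, hA⟩ := hsurj s hs
      have hBN : B ∈ N' := by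
        show φ B ∈ N
        rw [hB]
        exact hx
      have h1 := Subgroup.mem_center_iff.1 (hcen hBN) A
      rw [← hA, ← hB, ← map_mul, ← map_mul, h1]
    -- every element of `R` centralises the special unitary group
    have hRscal : ∀ g ∈ R, g ∈ scalars (Fin n) F := by
      intro g hg
      apply mem_scalars_of_commute hF (by omega)
      have hK : SUg n F q ≤ Subgroup.centralizer ({g} : Set (GL (Fin n) F)) := by
        apply le_of_commutators hF hn h32
        intro s₁ hs₁ s₂ hs₂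
        rw [Subgroup.mem_centralizer_iff]
        intro h hh
        rw [Set.mem_singleton_iff] at hh
        subst hh
        have ha := hNscal _ (hcommN h hg s₁ hs₁)
        have hb := hNscal _ (hcommN h hg s₂ hs₂)
        exact Cfsg.Agent.Lib.Helper3.AschB.conj_commElem_of_central h s₁ s₂ ⁅h, s₁⁆ ⁅h, s₂⁆
          (fun y => Cfsg.Agent.Lib.Helper3.AschB.scalars_central _ y ha)
          (fun y => Cfsg.Agent.Lib.Helper3.AschB.scalars_central _ y hb)
          (by rw [commutatorElement_def]; group) (by rw [commutatorElement_def]; group)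
      intro s hs
      have := hK hs
      rw [Subgroup.mem_centralizer_iff] at this
      exact this g (Set.mem_singleton g)
    -- scalars do not act irreducibly
    set i₀ : Fin n := ⟨0, by omega⟩ with hi₀
    set i₁ : Fin n := ⟨1, by omega⟩ with hi₁
    have h01 : i₀ ≠ i₁ := by simp [hi₀, hi₁, Fin.ext_iff]
    set W : Submodule F (Fin n → F) := Submodule.span F {Pi.single i₀ (1 : F)} with hW
    have hWinv : ∀ s ∈ matrixSet R, W.map (Matrix.toLin' s) ≤ W := by
      rintro s ⟨g, hg, rfl⟩ y ⟨x, hx, rfl⟩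
      obtain ⟨a, ha⟩ := (mem_scalars_iff g).1 (hRscal g hg)
      show Matrix.toLin' (g : Matrix (Fin n) (Fin n) F) x ∈ W
      rw [Matrix.toLin'_apply, ha, Matrix.smul_mulVec, Matrix.one_mulVec]
      exact W.smul_mem _ hx
    rcases hirr.1 W hWinv with h | h
    · have : (Pi.single i₀ (1 : F) : Fin n → F) ∈ W := Submodule.mem_span_singleton_self _
      rw [h, Submodule.mem_bot] at this
      have := congrFun this i₀
      simp at this
    · have : (Pi.single i₁ (1 : F) : Fin n → F) ∈ W := by rw [h]; exact Submodule.mem_top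
      rw [hW, Submodule.mem_span_singleton] at this
      obtain ⟨a, ha⟩ := this
      have e1 := congrFun ha i₁
      have e0 := congrFun ha i₀
      simp only [Pi.smul_apply, Pi.single_apply, smul_eq_mul, if_neg h01, if_neg h01.symm,
        ↓reduceIte, mul_one, mul_zero] at e0 e1
      exact zero_ne_one e1

theorem sq_eq_prime_pow {p q e : ℕ} (hp : p.Prime) (h : q ^ 2 = p ^ e) :
    ∃ j, e = 2 * j ∧ q = p ^ j := by
  have hq : q ∣ p ^ e := by
    rw [← h]
    exact dvd_pow_self q two_ne_zero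
  obtain ⟨j, -, rfl⟩ := (Nat.dvd_prime_pow hp).1 hq
  refine ⟨j, ?_, rfl⟩
  rw [← pow_mul] at h
  have := Nat.pow_right_injective hp.two_le h
  omega

include hF in
/-- the numerical data of a class-6 member in the unitary case -/
theorem class6_params (hn : 1 ≤ n) {r p e k : ℕ} {R : Subgroup (GL (Fin n) F)}
    (hR : IsSymplecticTypeGroup r R) (hirr : ActsAbsolutelyIrreducibly (matrixSet R))
    (hrp : r ≠ p) (hmin : IsMinimalFieldFor (Nat.card (Subgroup.center R)) p e F)
    (hcase : (Odd r ∧ Nat.card (Subgroup.center R) = r ∧ 1 ≤ k ∧ Nat.card R = r ^ (1 + 2 * k)) ∨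
      (r = 2 ∧ e = 2 ∧ Nat.card (Subgroup.center R) = 4 ∧ Nat.card R = 2 ^ (2 + 2 * k))) :
    n = r ^ k ∧ p.Prime ∧ CharP F p ∧
      ((Odd r ∧ Nat.card (Subgroup.center R) = r ∧ Nat.card R = r ^ (1 + 2 * k) ∧
          (∃ j, e = 2 * j ∧ q = p ^ j ∧ 0 < j) ∧ e ∣ r - 1 ∧ r ∣ p ^ e - 1 ∧
          ∀ d : ℕ, 0 < d → d < e → ¬ r ∣ p ^ d - 1) ∨
        (r = 2 ∧ q = p ∧ p % 4 = 3 ∧ Nat.card (Subgroup.center R) = 4 ∧
          Nat.card R = 2 ^ (2 + 2 * k))) := by
  obtain ⟨hp, hchar, hcard, hdvd, hminimal⟩ := hmin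
  have hqe : q ^ 2 = p ^ e := by rw [← hF, hcard]
  obtain ⟨j, hej, hqj⟩ := sq_eq_prime_pow hp hqe
  have hq1 : 1 < q := by
    have h1 : 1 < Fintype.card F := Fintype.one_lt_card
    rw [hF] at h1
    by_contra hcon
    have : q ≤ 1 := by omega
    have : q ^ 2 ≤ 1 ^ 2 := Nat.pow_le_pow_left this 2
    omega
  have hj0 : 0 < j := by
    rcases Nat.eq_zero_or_pos j with h | h
    · rw [h, pow_zero] at hqj
      omega
    · exact h
  rcases hcase with ⟨hodd, hZ, hk, hRc⟩ | ⟨rfl, rfl, hZ, hRc⟩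
  · have hgcd : Nat.gcd 2 r = 1 := Nat.coprime_two_left.2 hodd
    have hcardR := card_of_symplecticType hn hR hirr (by rw [hZ, hgcd, mul_one])
    rw [hZ, hRc] at hcardR
    have h1 : (r ^ k) ^ 2 = n ^ 2 := by
      have h2 : r * (r ^ k) ^ 2 = r * n ^ 2 := by
        rw [← hcardR]
        ring
      exact Nat.eq_of_mul_eq_mul_left hR.prime.pos h2
    have hnk : n = r ^ k := (Nat.pow_left_injective (by norm_num : 2 ≠ 0) h1).symm
    refine ⟨hnk, hp, hchar, Or.inl ⟨hodd, hZ, hRc, ⟨j, hej, hqj, hj0⟩, ?_, ?_, ?_⟩⟩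
    · rw [hZ] at hdvd hminimal
      exact MaxC.minimal_dvd hR.prime hp hrp (by omega) hdvd hminimal
    · rw [hZ] at hdvd; exact hdvd
    · rw [hZ] at hminimal; exact hminimal
  · have hcardR := card_of_symplecticType hn hR hirr (by rw [hZ]; rfl)
    rw [hZ, hRc] at hcardR
    have h1 : (2 ^ k) ^ 2 = n ^ 2 := by
      have h2 : 4 * (2 ^ k) ^ 2 = 4 * n ^ 2 := by
        rw [← hcardR]
        ring
      exact Nat.eq_of_mul_eq_mul_left (by norm_num) h2
    have hnk : n = 2 ^ k := (Nat.pow_left_injective (by norm_num : 2 ≠ 0) h1).symm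
    have hj1 : j = 1 := by omega
    subst hj1
    rw [pow_one] at hqj
    refine ⟨hnk, hp, hchar, Or.inr ⟨rfl, hqj, ?_, hZ, hRc⟩⟩
    rw [hZ] at hminimal
    have h3 := hminimal 1 (by norm_num) (by norm_num)
    rw [pow_one] at h3
    have hp2 : p ≠ 2 := fun h => hrp h.symm
    have hodd : p % 2 = 1 := by
      rcases hp.eq_two_or_odd with h | h
      · exact absurd h hp2
      · exact h
    have := hp.two_le
    omega

include hF in
/-- an element of the similarity group of order prime to `q - 1` is an isometry -/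
theorem le_GU_of_coprime (hn : 1 ≤ n) {R : Subgroup (GL (Fin n) F)} {m : ℕ}
    (hRm : ∀ g ∈ R, g ^ m = 1) (hcop : Nat.Coprime m (q - 1))
    (hsim : R ≤ similarityGroup (hermForm n F q)) : R ≤ Cfsg.GU n F q := by
  intro g hg
  obtain ⟨c, hc⟩ := hsim hg
  have hq0 := q_ne_zero hF
  set e₀ : Fin n → F := Pi.single ⟨0, by omega⟩ 1 with he₀
  have hee : hermForm n F q e₀ e₀ = 1 := by
    rw [he₀, herm_single_single n _ _ hq0, if_pos rfl]
  have hpow : ∀ k : ℕ, ∀ u v, hermForm n F q
      (((g ^ k : GL (Fin n) F) : Matrix (Fin n) (Fin n) F) *ᵥ u)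
      (((g ^ k : GL (Fin n) F) : Matrix (Fin n) (Fin n) F) *ᵥ v) =
      (c : F) ^ k * hermForm n F q u v := by
    intro k
    induction k with
    | zero => intro u v; simp
    | succ k ih =>
      intro u v
      rw [pow_succ, Units.val_mul, ← Matrix.mulVec_mulVec, ← Matrix.mulVec_mulVec, ih, hc,
        pow_succ]
      ring
  have hcm : (c : F) ^ m = 1 := by
    have := hpow m e₀ e₀
    rw [hRm g hg, Units.val_one, Matrix.one_mulVec, hee, mul_one] at this
    exact this.symm
  have hcq : (c : F) ^ q = (c : F) := by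
    have h1 := hc e₀ e₀
    rw [hee, mul_one] at h1
    rw [← h1]
    exact herm_self_fixed hF n _
  have hcq1 : (c : F) ^ (q - 1) = 1 := by
    have hc0 : (c : F) ≠ 0 := c.ne_zero
    have h2 : (c : F) ^ (q - 1) * (c : F) = (c : F) := by
      rw [← pow_succ, Nat.sub_add_cancel (Nat.one_le_iff_ne_zero.2 hq0), hcq]
    exact mul_right_cancel₀ hc0 (by rw [h2, one_mul])
  have hc1 : (c : F) = 1 := by
    have := (pow_gcd_eq_one (a := (c : F)) (m := m) (n := q - 1)).2 ⟨hcm, hcq1⟩
    rw [Nat.Coprime] at hcop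
    rwa [hcop, pow_one] at this
  intro u v
  have := hc u v
  rw [hc1, one_mul] at this
  exact this

end Cfsg.Agent.Lib.Helper3.MaxU
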