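import Mathlib
import Cfsg.Prelude
import Cfsg.Agent.Lib.Helper3.MaxU6
import Cfsg.Agent.Lib.Helper3.MaxC5

set_option autoImplicit false
set_option maxHeartbeats 4000000
set_option maxRecDepth 100000
set_option linter.unusedVariables false
set_option linter.unusedSectionVars false
set_option linter.style.haveILetI false
set_option linter.deprecated false

/-! The special unitary group preserves no decomposition of the form as a tensor square. -/

namespace Cfsg.Agent.Lib.Helper3.MaxU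

open Matrix Cfsg Cfsg.Geo Module
open Cfsg.Agent.Lib.Helper5.Herm Cfsg.Agent.Lib.Helper5.HermTv Cfsg.Agent.Lib.Helper5.HermSU
  Cfsg.Agent.Lib.Helper5.HermGen Cfsg.Agent.Lib.Helper5.SUCentres
  Cfsg.Agent.Lib.Helper5.HermSimple Cfsg.Agent.Lib.Helper5.SUTransv
  Cfsg.Agent.Lib.Helper5.HermCount Cfsg.Agent.Lib.Helper5.HermEich
  Cfsg.Agent.Lib.Helper5.HermBridge
open Cfsg.Agent.Lib.Helper3.MaxC (IsPureVec PresPure presPure_of_mem_standard)

variable {F : Type*} [Field F] [Fintype F] {q : ℕ} (hF : Fintype.card F = q ^ 2) {n : ℕ}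

section abstractform
variable {k : ℕ} {f₁ : (Fin k → F) → (Fin k → F) → F} (hf₁ : IsUnitaryFormPow q f₁)

include hf₁ in
omit [Fintype F] in
theorem uf_zero_left (y : Fin k → F) : f₁ 0 y = 0 := by
  have := hf₁.smul_left 0 0 y
  rwa [zero_smul, zero_mul] at this

include hf₁ in
omit [Fintype F] in
theorem uf_sum_left {ι : Type*} (s : Finset ι) (c : ι → F) (v : ι → Fin k → F) (y : Fin k → F) :
    f₁ (∑ i ∈ s, c i • v i) y = ∑ i ∈ s, c i * f₁ (v i) y := by
  classical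
  induction s using Finset.induction_on with
  | empty => simp [uf_zero_left hf₁]
  | insert a s ha ih =>
    rw [Finset.sum_insert ha, Finset.sum_insert ha, hf₁.add_left, hf₁.smul_left, ih]

include hF hf₁ in
theorem uf_expand (x y : Fin k → F) :
    f₁ x y = ∑ a, ∑ b, x a * gramMatrix f₁ a b * (y b) ^ q := by
  have hx : x = ∑ a, x a • (Pi.single a (1 : F) : Fin k → F) := by
    funext a
    simp [Finset.sum_apply, Pi.single_apply]
  have hy : y = ∑ b, y b • (Pi.single b (1 : F) : Fin k → F) := by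
    funext a
    simp [Finset.sum_apply, Pi.single_apply]
  conv_lhs => rw [hx]
  rw [uf_sum_left hf₁]
  refine Finset.sum_congr rfl fun a _ => ?_
  have h1 : f₁ (Pi.single a 1) y = ∑ b, gramMatrix f₁ a b * (y b) ^ q := by
    rw [hf₁.herm (Pi.single a 1) y]
    conv_lhs => rw [hy]
    rw [uf_sum_left hf₁, pow_q_sum hF]
    refine Finset.sum_congr rfl fun b _ => ?_
    rw [mul_pow, ← hf₁.herm]
    unfold gramMatrix
    ring
  rw [h1, Finset.mul_sum]
  refine Finset.sum_congr rfl fun b _ => ?_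
  ring

include hF hf₁ in
theorem uf_smul_right (c : F) (x y : Fin k → F) : f₁ x (c • y) = c ^ q * f₁ x y := by
  rw [hf₁.herm x (c • y), hf₁.smul_left, mul_pow, ← hf₁.herm]

include hF hf₁ in
theorem uf_add_right (x y y' : Fin k → F) : f₁ x (y + y') = f₁ x y + f₁ x y' := by
  rw [hf₁.herm x (y + y'), hf₁.add_left, pow_q_add hF, ← hf₁.herm, ← hf₁.herm]

include hF hf₁ in
theorem uf_self_fixed (x : Fin k → F) : (f₁ x x) ^ q = f₁ x x := (hf₁.herm x x).symm

include hF hf₁ in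
/-- a non-zero isotropic vector for an abstract unitary form in dimension at least two -/
theorem uf_exists_iso (hk : 2 ≤ k) : ∃ x : Fin k → F, x ≠ 0 ∧ f₁ x x = 0 := by
  classical
  set x₀ : Fin k → F := Pi.single ⟨0, by omega⟩ 1 with hx₀
  have hx₀0 : x₀ ≠ 0 := by
    intro h
    have := congrFun h ⟨0, by omega⟩
    simp [hx₀] at this
  by_cases h0 : f₁ x₀ x₀ = 0
  · exact ⟨x₀, hx₀0, h0⟩
  -- a non-zero vector orthogonal to x₀
  let φ : (Fin k → F) →ₗ[F] F :=
    { toFun := fun y => f₁ y x₀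
      map_add' := fun y y' => hf₁.add_left y y' x₀
      map_smul' := fun c y => hf₁.smul_left c y x₀ }
  obtain ⟨y, hy0, hy⟩ := exists_ker_top hk φ
  have hyx : f₁ y x₀ = 0 := hy
  have hxy : f₁ x₀ y = 0 := by rw [hf₁.herm, hyx, zero_pow (q_ne_zero hF)]
  by_cases h1 : f₁ y y = 0
  · exact ⟨y, hy0, h1⟩
  obtain ⟨α, hα⟩ := exists_scale_neg hF (uf_self_fixed hF hf₁ x₀) (uf_self_fixed hF hf₁ y) h1
  refine ⟨x₀ + α • y, ?_, ?_⟩
  · intro h
    have h2 := congrArg (fun z => f₁ z x₀) h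
    simp only [hf₁.add_left, hf₁.smul_left, hyx, mul_zero, add_zero, uf_zero_left hf₁] at h2
    exact h0 h2
  · rw [hf₁.add_left, uf_add_right hF hf₁, uf_add_right hF hf₁, hf₁.smul_left, hf₁.smul_left,
      uf_smul_right hF hf₁, uf_smul_right hF hf₁, hxy, hyx]
    linear_combination hα

end abstractform

section wreath
variable {k : ℕ}

/-- the pure tensor of two vectors, indexed by functions on `Fin 2` -/
def pt2 (x y : Fin k → F) : (Fin 2 → Fin k) → F := fun a => x (a 0) * y (a 1)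

omit [Fintype F] in
theorem sum_fin_two_arrow (g : (Fin 2 → Fin k) → F) :
    ∑ a, g a = ∑ α, ∑ β, g ![α, β] := by
  rw [← Fintype.sum_prod_type']
  exact Fintype.sum_equiv (finTwoArrowEquiv (Fin k)) _ _ (fun a => by
    simp only [finTwoArrowEquiv_apply]
    congr 1
    funext i
    fin_cases i <;> rfl)

include hF in
/-- the value of the form on pure tensors -/
theorem form_pt2 {f₁ : (Fin k → F) → (Fin k → F) → F} (hf₁ : IsUnitaryFormPow q f₁)
    (e : Fin n ≃ (Fin 2 → Fin k)) (P : GL (Fin n) F) (c : F)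
    (hc : ∀ x y : (Fin 2 → Fin k) → F,
      hermForm n F q ((P : Matrix (Fin n) (Fin n) F) *ᵥ (x ∘ e))
        ((P : Matrix (Fin n) (Fin n) F) *ᵥ (y ∘ e)) =
        c * ∑ a, ∑ b, x a * (∏ i, gramMatrix f₁ (a i) (b i)) * (y b) ^ q)
    (x₀ x₁ y₀ y₁ : Fin k → F) :
    hermForm n F q ((P : Matrix (Fin n) (Fin n) F) *ᵥ (pt2 x₀ x₁ ∘ e))
      ((P : Matrix (Fin n) (Fin n) F) *ᵥ (pt2 y₀ y₁ ∘ e)) = c * (f₁ x₀ y₀ * f₁ x₁ y₁) := by
  rw [hc, uf_expand hF hf₁ x₀ y₀, uf_expand hF hf₁ x₁ y₁]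
  congr 1
  rw [sum_fin_two_arrow]
  simp_rw [sum_fin_two_arrow (fun b => _)]
  simp only [pt2, Fin.prod_univ_two, Matrix.cons_val_zero, Matrix.cons_val_one]
  rw [Finset.sum_mul_sum]
  refine Finset.sum_congr rfl fun α _ => Finset.sum_congr rfl fun α' _ => ?_
  rw [Finset.sum_mul_sum]
  refine Finset.sum_congr rfl fun β _ => Finset.sum_congr rfl fun β' _ => ?_
  ring

include hF in
/-- the special unitary group preserves no decomposition of the form as a tensor square -/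
theorem not_le_wreath_two (hk : 2 ≤ k) (e : Fin n ≃ (Fin 2 → Fin k)) (P : GL (Fin n) F)
    (f₁ : (Fin k → F) → (Fin k → F) → F) (hf₁ : IsUnitaryFormPow q f₁)
    (hT : IsTensorPowerFormStructure (fun x : F => x ^ q) (hermForm n F q) f₁ e P) :
    ¬ SUg n F q ≤ tensorWreathSubgroup k 2 e P := by
  classical
  intro hle
  obtain ⟨c, hc0, hc⟩ := hT
  set Pinv : Matrix (Fin n) (Fin n) F :=
    ((P⁻¹ : GL (Fin n) F) : Matrix (Fin n) (Fin n) F) with hPinv
  have hPiP : ∀ x, Pinv *ᵥ ((P : Matrix (Fin n) (Fin n) F) *ᵥ x) = x := by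
    intro x
    rw [Matrix.mulVec_mulVec, hPinv, ← Units.val_mul, inv_mul_cancel, Units.val_one,
      Matrix.one_mulVec]
  obtain ⟨x₁, hx₁0, hx₁⟩ := uf_exists_iso hF hf₁ hk
  obtain ⟨z₁, hz₁⟩ := (hf₁.nondegenerate x₁ hx₁0).1
  obtain ⟨c', hc'0, hc'⟩ := exists_c hF
  set X : (Fin 2 → Fin k) → F := pt2 x₁ x₁ with hX
  set Z : (Fin 2 → Fin k) → F := pt2 z₁ z₁ with hZ
  set v : Fin n → F := (P : Matrix (Fin n) (Fin n) F) *ᵥ (X ∘ e) with hv
  have hvv : hermForm n F q v v = 0 := by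
    rw [hv, hX, form_pt2 hF hf₁ e P c hc, hx₁]
    ring
  have hZv : hermForm n F q ((P : Matrix (Fin n) (Fin n) F) *ᵥ (Z ∘ e)) v =
      c * (f₁ z₁ x₁ * f₁ z₁ x₁) := by
    rw [hv, hX, hZ, form_pt2 hF hf₁ e P c hc]
  obtain ⟨g, hg, hgx⟩ := exists_tv hF v hvv c' hc'
  obtain ⟨u, ⟨y, hy, rfl⟩, hu⟩ := hle hg
  have hmat : (g : Matrix (Fin n) (Fin n) F) =
      (P : Matrix (Fin n) (Fin n) F) * (y : Matrix (Fin 2 → Fin k) (Fin 2 → Fin k) F).submatrix e e *
        Pinv := by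
    rw [← hu]
    rfl
  have hyZ : (y : Matrix (Fin 2 → Fin k) (Fin 2 → Fin k) F) *ᵥ Z =
      Z + (c' * (c * (f₁ z₁ x₁ * f₁ z₁ x₁))) • X := by
    have h1 := hgx ((P : Matrix (Fin n) (Fin n) F) *ᵥ (Z ∘ e))
    have hZe : (Z ∘ ⇑e) ∘ ⇑e.symm = Z := by
      funext a
      simp
    rw [hZv, hmat, ← Matrix.mulVec_mulVec, ← Matrix.mulVec_mulVec, hPiP,
      Matrix.submatrix_mulVec_equiv, hZe] at h1
    have h2 := congrArg (fun w => Pinv *ᵥ w) h1
    simp only [hPiP, Matrix.mulVec_add, Matrix.mulVec_smul, hv] at h2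
    funext a
    have h3 := congrFun h2 (e.symm a)
    simp only [Function.comp_apply, Equiv.apply_symm_apply, Pi.add_apply, Pi.smul_apply,
      Equiv.symm_symm] at h3
    simpa using h3
  have hpureZ : IsPureVec Z := by
    refine ⟨fun _ => z₁, fun a => ?_⟩
    rw [hZ, pt2, Fin.prod_univ_two]
  obtain ⟨a, ha⟩ := presPure_of_mem_standard y hy Z hpureZ
  rw [hyZ] at ha
  set lam : F := c' * (c * (f₁ z₁ x₁ * f₁ z₁ x₁)) with hlam
  have hlam0 : lam ≠ 0 := mul_ne_zero hc'0 (mul_ne_zero hc0 (mul_ne_zero hz₁ hz₁))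
  -- independence of z₁ and x₁
  have hind : ∀ s t : F, s • z₁ + t • x₁ = 0 → s = 0 ∧ t = 0 := by
    intro s t hst
    have h1 := congrArg (fun w => f₁ w x₁) hst
    simp only [hf₁.add_left, hf₁.smul_left, hx₁, mul_zero, add_zero, uf_zero_left hf₁] at h1
    have hs : s = 0 := by
      rcases mul_eq_zero.mp h1 with h | h
      · exact h
      · exact absurd h hz₁
    rw [hs, zero_smul, zero_add] at hst
    refine ⟨hs, ?_⟩
    rcases smul_eq_zero.mp hst with h | h
    · exact h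
    · exact absurd h hx₁0
  obtain ⟨α, β, hδ⟩ := exists_minor_ne_zero z₁ x₁ hind
  have e1 := ha ![α, α]
  have e2 := ha ![β, β]
  have e3 := ha ![α, β]
  have e4 := ha ![β, α]
  simp only [Pi.add_apply, Pi.smul_apply, smul_eq_mul, hZ, hX, pt2, Fin.prod_univ_two,
    Matrix.cons_val_zero, Matrix.cons_val_one] at e1 e2 e3 e4
  have key : lam * (z₁ α * x₁ β - z₁ β * x₁ α) ^ 2 = 0 := by
    have h5 : (a 0 α * a 1 α) * (a 0 β * a 1 β) = (a 0 α * a 1 β) * (a 0 β * a 1 α) := by ring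
    rw [← e1, ← e2, ← e3, ← e4] at h5
    linear_combination h5
  rcases mul_eq_zero.mp key with h | h
  · exact hlam0 h
  · exact hδ (pow_eq_zero_iff (two_ne_zero) |>.1 h)

end wreath

end Cfsg.Agent.Lib.Helper3.MaxU
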