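import Mathlib
import Cfsg.Prelude
import Cfsg.Agent.Lib.Helper3.MaxU1
import Cfsg.Agent.Lib.Helper3.MaxU2
import Cfsg.Agent.Lib.Helper3.MaxU3
import Cfsg.Agent.Lib.Helper3.MaxU4
import Cfsg.Agent.Lib.Helper3.MaxU6
import Cfsg.Agent.Lib.Helper3.MaxU7
import Cfsg.Agent.Lib.Helper3.MaxC7
import Cfsg.Agent.Lib.Helper5.SUTwoWreath
import Cfsg.Agent.Lib.Helper5.TensorSUFrame

set_option autoImplicit false
set_option maxHeartbeats 4000000
set_option maxRecDepth 100000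
set_option linter.unusedVariables false
set_option linter.unusedSectionVars false
set_option linter.style.haveILetI false
set_option linter.deprecated false

/-! The possible types of a maximal subgroup of the special unitary group, with their parameters. -/

namespace Cfsg.Agent.Lib.Helper3.MaxU

open Matrix Cfsg Cfsg.Geo Module
open Cfsg.Agent.Lib.Helper5.Herm Cfsg.Agent.Lib.Helper5.HermTv

variable {F : Type*} [Field F] [Fintype F] {q : ℕ} (hF : Fintype.card F = q ^ 2) {n : ℕ}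

include hF in
/-- the possible types of a maximal subgroup of the special unitary group -/
theorem cases_of_max (hn : 4 ≤ n) (H : Subgroup (GL (Fin n) F))
    (hH : IsMaximalIn (SUg n F q) H)
    (hA : (∃ M : Subgroup (GL (Fin n) F), InUnitaryClass n F q M ∧ H ≤ M) ∨
      InUnitaryResidualClass H) :
    (∃ W : Submodule F (Fin n → F), W ≠ ⊥ ∧ IsTotallySingularFor (hermForm n F q) W ∧
      H = subspaceStabilizer W ⊓ SUg n F q) ∨
    (∃ W : Submodule F (Fin n → F), W ≠ ⊥ ∧ IsNondegenerateOn (hermForm n F q) W ∧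
      2 * Module.finrank F W < n ∧ H = subspaceStabilizer W ⊓ SUg n F q) ∨
    (∃ (t k : ℕ) (D : Fin t → Submodule F (Fin n → F)),
      IsNondegenerateMDecomposition (hermForm n F q) k D ∧ t * k = n ∧ ¬ (k = 2 ∧ q = 2) ∧
      H = decompositionStabilizer D ⊓ SUg n F q) ∨
    (∃ (k : ℕ) (D : Fin 2 → Submodule F (Fin n → F)), 2 * k = n ∧ IsMDecomposition k D ∧
      (∀ i, IsTotallySingularFor (hermForm n F q) (D i)) ∧
      H = decompositionStabilizer D ⊓ SUg n F q) ∨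
    (∃ (F₀ : Subfield F) (r : ℕ) (P : GL (Fin n) F), r.Prime ∧ Odd r ∧
      Fintype.card F = Nat.card F₀ ^ r ∧ IsFormRationalStructure (hermForm n F q) F₀ 1 P ∧
      H = subfieldSubgroup F₀ P ⊓ SUg n F q) ∨
    (∃ (F₀ : Subfield F) (P : GL (Fin n) F), Odd q ∧ Fintype.card F = Nat.card F₀ ^ 2 ∧
      IsFormRationalStructure (hermForm n F q) F₀ 1 P ∧
      H = subfieldSubgroup F₀ P ⊓ SUg n F q) ∨
    (∃ (F₀ : Subfield F) (P : GL (Fin n) F) (ζ : F), Even n ∧
      Fintype.card F = Nat.card F₀ ^ 2 ∧ ζ ≠ 0 ∧ ζ + ζ ^ q = 0 ∧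
      IsFormRationalStructure (hermForm n F q) F₀ ζ P ∧
      (∀ u : Fin n → F, (∀ i, u i ∈ F₀) →
        hermForm n F q ((P : Matrix (Fin n) (Fin n) F) *ᵥ u)
          ((P : Matrix (Fin n) (Fin n) F) *ᵥ u) = 0) ∧
      H = subfieldSubgroup F₀ P ⊓ SUg n F q) ∨
    (∃ (r : ℕ) (R : Subgroup (GL (Fin n) F)) (p e k : ℕ), IsSymplecticTypeGroup r R ∧
      ActsAbsolutelyIrreducibly (matrixSet R) ∧ R ≤ similarityGroup (hermForm n F q) ∧ r ≠ p ∧
      (n = r ^ k ∧ p.Prime ∧ CharP F p ∧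
        ((Odd r ∧ Nat.card (Subgroup.center R) = r ∧ Nat.card R = r ^ (1 + 2 * k) ∧
            (∃ j, e = 2 * j ∧ q = p ^ j ∧ 0 < j) ∧ e ∣ r - 1 ∧ r ∣ p ^ e - 1 ∧
            ∀ d : ℕ, 0 < d → d < e → ¬ r ∣ p ^ d - 1) ∨
          (r = 2 ∧ q = p ∧ p % 4 = 3 ∧ Nat.card (Subgroup.center R) = 4 ∧
            Nat.card R = 2 ^ (2 + 2 * k)))) ∧
      H = subgroupNormalizer R ⊓ SUg n F q) ∨
    (∃ (r : ℕ) (K : Subalgebra F (Matrix (Fin n) (Fin n) F)), r.Prime ∧ Odd r ∧ r ∣ n ∧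
      IsFieldSubalgebra r K ∧ IsAdjointClosedFor (hermForm n F q) K ∧
      H = subalgebraNormalizer K ⊓ SUg n F q) ∨
    (∃ (n₁ n₂ : ℕ) (e : Fin n ≃ Fin n₁ × Fin n₂) (P : GL (Fin n) F)
      (f₁ : (Fin n₁ → F) → (Fin n₁ → F) → F) (f₂ : (Fin n₂ → F) → (Fin n₂ → F) → F),
      2 ≤ n₁ ∧ n₁ < n₂ ∧ n₁ * n₂ = n ∧ ¬ (n₁ = 2 ∧ q = 2) ∧ IsUnitaryFormPow q f₁ ∧
      IsUnitaryFormPow q f₂ ∧
      IsTensorFormStructure (fun x : F => x ^ q) (hermForm n F q) f₁ f₂ e P ∧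
      H = tensorProductSubgroup n₁ n₂ e P ⊓ SUg n F q) ∨
    (∃ (k t : ℕ) (e : Fin n ≃ (Fin t → Fin k)) (P : GL (Fin n) F)
      (f₁ : (Fin k → F) → (Fin k → F) → F), 3 ≤ k ∧ 2 ≤ t ∧ k ^ t = n ∧ ¬ (q = 2 ∧ k = 3) ∧
      IsUnitaryFormPow q f₁ ∧
      IsTensorPowerFormStructure (fun x : F => x ^ q) (hermForm n F q) f₁ e P ∧
      H ≤ tensorWreathSubgroup k t e P ∧
      (t = 2 → H = tensorWreathSubgroup k t e P ⊓ SUg n F q)) ∨
    InUnitaryResidualClass H := by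
  classical
  have hq0 := q_ne_zero hF
  rcases hA with ⟨M, hM, hle⟩ | hres
  swap
  · iterate 11 right
    exact hres
  rcases hM with (⟨W, h0, hts, rfl⟩ | ⟨W, h0, hnd, hlt, rfl⟩ | ⟨t, k, D, hD, rfl⟩ |
    ⟨k, D, h2k, hD, hts, rfl⟩ | ⟨F₀, r, P, hr, hodd, hcard, hrat, rfl⟩ |
    ⟨F₀, P, hodd, hcard, hrat, rfl⟩ | ⟨F₀, P, ζ, hev, hcard, hζ0, hζ, hrat, hiso, rfl⟩ |
    ⟨r, R, p, e, k, hR, hirr, hsim, hrp, hmin, hcase, rfl⟩) |
    ⟨r, K, hr, hodd, hK, hadj, rfl⟩ | ⟨n₁, n₂, e, P, f₁, f₂, h1, h2, hf₁, hf₂, hT, rfl⟩ |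
    ⟨k, t, e, P, f₁, hk, ht, hqk, hf₁, hT, rfl⟩
  · left
    have h1 : W ≠ ⊤ := by
      rintro rfl
      have := hts (Pi.single ⟨0, by omega⟩ 1) Submodule.mem_top
        (Pi.single ⟨0, by omega⟩ 1) Submodule.mem_top
      rw [herm_single_single n _ _ hq0, if_pos rfl] at this
      exact one_ne_zero this
    exact ⟨W, h0, hts, MaxC.eq_inf_of_le hH (hle.trans inf_le_left)
      (not_le_stab hF (by omega) W h0 h1)⟩
  · right; left
    have h1 : W ≠ ⊤ := by
      rintro rfl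
      rw [finrank_top, Module.finrank_fin_fun] at hlt
      omega
    exact ⟨W, h0, hnd, hlt, MaxC.eq_inf_of_le hH (hle.trans inf_le_left)
      (not_le_stab hF (by omega) W h0 h1)⟩
  · right; right; left
    have hcard : t * k = n := Cfsg.Agent.Lib.Helper5.LinDecompForm.card_eq hD.decomp
    refine ⟨t, k, D, hD, hcard, ?_, MaxC.eq_inf_of_le hH (hle.trans inf_le_left)
      (not_le_decomp_nondeg hF hn hD)⟩
    rintro ⟨rfl, rfl⟩
    exact MaxC.false_of_between hH (hle.trans inf_le_left)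
      (Cfsg.Agent.Lib.Helper5.SUTwoWreath.not_maximal hF hD)
  · iterate 3 right
    left
    exact ⟨k, D, h2k, hD, hts, MaxC.eq_inf_of_le hH (hle.trans inf_le_left)
      (not_le_decomp_ts hF hn hD hts)⟩
  · iterate 4 right
    left
    exact ⟨F₀, r, P, hr, hodd, hcard, hrat, MaxC.eq_inf_of_le hH (hle.trans inf_le_left)
      (not_le_subfield hF hn F₀ (MaxC.subfield_ne_top F₀ hr hcard) P)⟩
  · iterate 5 right
    left
    exact ⟨F₀, P, hodd, hcard, hrat, MaxC.eq_inf_of_le hH (hle.trans inf_le_left)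
      (not_le_subfield hF hn F₀ (MaxC.subfield_ne_top F₀ Nat.prime_two hcard) P)⟩
  · iterate 6 right
    left
    exact ⟨F₀, P, ζ, hev, hcard, hζ0, hζ, hrat, hiso,
      MaxC.eq_inf_of_le hH (hle.trans inf_le_left)
      (not_le_subfield hF hn F₀ (MaxC.subfield_ne_top F₀ Nat.prime_two hcard) P)⟩
  · iterate 7 right
    left
    have hpar := class6_params hF (by omega) hR hirr hrp hmin hcase
    exact ⟨r, R, p, e, k, hR, hirr, hsim, hrp, hpar,
      MaxC.eq_inf_of_le hH (hle.trans inf_le_left)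
      (not_le_class6 hF (by omega) (by omega) hR hirr hsim hmin.1 hmin.2.1 hrp)⟩
  · iterate 8 right
    left
    exact ⟨r, K, hr, hodd, MaxC.dvd_of_fieldSubalgebra hr.pos hK, hK, hadj,
      MaxC.eq_inf_of_le hH (hle.trans inf_le_left)
      (not_le_fieldNormalizer hF (by omega) hr.two_le hK)⟩
  · iterate 9 right
    left
    have hcard : n₁ * n₂ = n := by
      have := Fintype.card_congr e
      rw [Fintype.card_fin, Fintype.card_prod, Fintype.card_fin, Fintype.card_fin] at this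
      exact this.symm
    refine ⟨n₁, n₂, e, P, f₁, f₂, h1, h2, hcard, ?_, hf₁, hf₂, hT,
      MaxC.eq_inf_of_le hH (hle.trans inf_le_left)
      (not_le_tensor hF (by omega) h1 (by omega) e P)⟩
    rintro ⟨rfl, rfl⟩
    exact MaxC.false_of_between hH (hle.trans inf_le_left)
      (Cfsg.Agent.Lib.Helper5.TensorSUFrame.not_maximal hF e P hf₁ hf₂ (by omega) hT)
  · iterate 10 right
    left
    have hcard : k ^ t = n := by
      have := Fintype.card_congr e
      rw [Fintype.card_fin, Fintype.card_fun, Fintype.card_fin, Fintype.card_fin] at this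
      exact this.symm
    refine ⟨k, t, e, P, f₁, hk, ht, hcard, hqk, hf₁, hT, hle.trans inf_le_left, ?_⟩
    intro h2
    subst h2
    exact MaxC.eq_inf_of_le hH (hle.trans inf_le_left)
      (not_le_wreath_two hF (by omega) e P f₁ hf₁ hT)

end Cfsg.Agent.Lib.Helper3.MaxU
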