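import Mathlib
import Cfsg.Prelude
import Cfsg.Agent.Lib.Helper3.MaxU8

set_option autoImplicit false
set_option maxHeartbeats 4000000
set_option maxRecDepth 100000
set_option linter.unusedVariables false
set_option linter.unusedSectionVars false
set_option linter.style.haveILetI false
set_option linter.deprecated false

/-! Arithmetic for the lists of maximal subgroups of the special unitary groups in small
dimensions. -/

namespace Cfsg.Agent.Lib.Helper3.MaxU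

open Matrix Cfsg Cfsg.Geo Module

section card
variable {F : Type*} [Field F] [Fintype F] {q : ℕ} (hF : Fintype.card F = q ^ 2)

include hF in
theorem one_lt_q : 1 < q := by
  have h1 : 1 < Fintype.card F := Fintype.one_lt_card
  rw [hF] at h1
  by_contra hcon
  have h2 : q ≤ 1 := by omega
  have h3 : q ^ 2 ≤ 1 ^ 2 := Nat.pow_le_pow_left h2 2
  omega

end card

theorem pow_eq_self {r k : ℕ} (hr : 2 ≤ r) (h : r = r ^ k) : k = 1 := by
  have h1 : r ^ 1 = r ^ k := by rw [pow_one]; exact h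
  exact (Nat.pow_right_injective hr h1).symm

theorem fac7 {t k : ℕ} (ht : 2 ≤ t) (hk : 0 < k) (h : t * k = 7) : t = 7 ∧ k = 1 := by
  have htle : t ≤ 7 := Nat.le_of_dvd (by norm_num) ⟨k, h.symm⟩
  interval_cases t <;> omega

theorem fac11 {t k : ℕ} (ht : 2 ≤ t) (hk : 0 < k) (h : t * k = 11) : t = 11 ∧ k = 1 := by
  have htle : t ≤ 11 := Nat.le_of_dvd (by norm_num) ⟨k, h.symm⟩
  interval_cases t <;> omega

theorem fac9 {t k : ℕ} (ht : 2 ≤ t) (hk : 0 < k) (h : t * k = 9) :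
    (t = 9 ∧ k = 1) ∨ (t = 3 ∧ k = 3) := by
  have htle : t ≤ 9 := Nat.le_of_dvd (by norm_num) ⟨k, h.symm⟩
  interval_cases t <;> omega

theorem fac8 {t k : ℕ} (ht : 2 ≤ t) (hk : 0 < k) (h : t * k = 8) :
    (t = 8 ∧ k = 1) ∨ (t = 4 ∧ k = 2) ∨ (t = 2 ∧ k = 4) := by
  have htle : t ≤ 8 := Nat.le_of_dvd (by norm_num) ⟨k, h.symm⟩
  interval_cases t <;> omega

theorem fac10 {t k : ℕ} (ht : 2 ≤ t) (hk : 0 < k) (h : t * k = 10) :
    (t = 10 ∧ k = 1) ∨ (t = 5 ∧ k = 2) ∨ (t = 2 ∧ k = 5) := by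
  have htle : t ≤ 10 := Nat.le_of_dvd (by norm_num) ⟨k, h.symm⟩
  interval_cases t <;> omega

theorem fac12 {t k : ℕ} (ht : 2 ≤ t) (hk : 0 < k) (h : t * k = 12) :
    (t = 12 ∧ k = 1) ∨ (t = 6 ∧ k = 2) ∨ (t = 4 ∧ k = 3) ∨ (t = 3 ∧ k = 4) ∨
      (t = 2 ∧ k = 6) := by
  have htle : t ≤ 12 := Nat.le_of_dvd (by norm_num) ⟨k, h.symm⟩
  interval_cases t <;> omega

theorem fac6 {t k : ℕ} (ht : 2 ≤ t) (hk : 0 < k) (h : t * k = 6) :
    (t = 6 ∧ k = 1) ∨ (t = 3 ∧ k = 2) ∨ (t = 2 ∧ k = 3) := by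
  have htle : t ≤ 6 := Nat.le_of_dvd (by norm_num) ⟨k, h.symm⟩
  interval_cases t <;> omega

theorem fac5 {t k : ℕ} (ht : 2 ≤ t) (hk : 0 < k) (h : t * k = 5) : t = 5 ∧ k = 1 := by
  have htle : t ≤ 5 := Nat.le_of_dvd (by norm_num) ⟨k, h.symm⟩
  interval_cases t <;> omega

theorem fac4 {t k : ℕ} (ht : 2 ≤ t) (hk : 0 < k) (h : t * k = 4) :
    (t = 4 ∧ k = 1) ∨ (t = 2 ∧ k = 2) := by
  have htle : t ≤ 4 := Nat.le_of_dvd (by norm_num) ⟨k, h.symm⟩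
  interval_cases t <;> omega

theorem ten7 {a b : ℕ} (h1 : 2 ≤ a) (h2 : a < b) (h : a * b = 7) : False := by
  have hle : a ≤ 7 := Nat.le_of_dvd (by norm_num) ⟨b, h.symm⟩
  interval_cases a <;> omega

theorem ten11 {a b : ℕ} (h1 : 2 ≤ a) (h2 : a < b) (h : a * b = 11) : False := by
  have hle : a ≤ 11 := Nat.le_of_dvd (by norm_num) ⟨b, h.symm⟩
  interval_cases a <;> omega

theorem ten9 {a b : ℕ} (h1 : 2 ≤ a) (h2 : a < b) (h : a * b = 9) : False := by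
  have hle : a ≤ 9 := Nat.le_of_dvd (by norm_num) ⟨b, h.symm⟩
  interval_cases a <;> omega

theorem ten5 {a b : ℕ} (h1 : 2 ≤ a) (h2 : a < b) (h : a * b = 5) : False := by
  have hle : a ≤ 5 := Nat.le_of_dvd (by norm_num) ⟨b, h.symm⟩
  interval_cases a <;> omega

theorem ten4 {a b : ℕ} (h1 : 2 ≤ a) (h2 : a < b) (h : a * b = 4) : False := by
  have hle : a ≤ 4 := Nat.le_of_dvd (by norm_num) ⟨b, h.symm⟩
  interval_cases a <;> omega

theorem ten6 {a b : ℕ} (h1 : 2 ≤ a) (h2 : a < b) (h : a * b = 6) : a = 2 ∧ b = 3 := by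
  have hle : a ≤ 6 := Nat.le_of_dvd (by norm_num) ⟨b, h.symm⟩
  interval_cases a <;> omega

theorem ten8 {a b : ℕ} (h1 : 2 ≤ a) (h2 : a < b) (h : a * b = 8) : a = 2 ∧ b = 4 := by
  have hle : a ≤ 8 := Nat.le_of_dvd (by norm_num) ⟨b, h.symm⟩
  interval_cases a <;> omega

theorem ten10 {a b : ℕ} (h1 : 2 ≤ a) (h2 : a < b) (h : a * b = 10) : a = 2 ∧ b = 5 := by
  have hle : a ≤ 10 := Nat.le_of_dvd (by norm_num) ⟨b, h.symm⟩
  interval_cases a <;> omega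

theorem ten12 {a b : ℕ} (h1 : 2 ≤ a) (h2 : a < b) (h : a * b = 12) :
    (a = 2 ∧ b = 6) ∨ (a = 3 ∧ b = 4) := by
  have hle : a ≤ 12 := Nat.le_of_dvd (by norm_num) ⟨b, h.symm⟩
  interval_cases a <;> omega

theorem c6u_arith_3 {p e : ℕ} (hp : p.Prime) (hev : ∃ j, e = 2 * j ∧ 0 < j) (hdiv : e ∣ 3 - 1)
    (h1 : 3 ∣ p ^ e - 1) (hmin : ∀ d : ℕ, 0 < d → d < e → ¬ 3 ∣ p ^ d - 1) :
    e = 2 ∧ p % 3 = 2 := by
  obtain ⟨j, rfl, hj0⟩ := hev
  have hle : 2 * j ≤ 2 := Nat.le_of_dvd (by norm_num) hdiv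
  have hj : j = 1 := by omega
  subst hj
  refine ⟨rfl, ?_⟩
  have hx : p % 3 < 3 := Nat.mod_lt _ (by norm_num)
  have hm1 := hmin 1 (by norm_num) (by norm_num)
  rw [MaxC.dvd_pow_sub_one_iff hp.pos] at h1 hm1
  generalize p % 3 = x at *
  interval_cases x <;> simp_all

theorem c6u_arith_5 {p e : ℕ} (hp : p.Prime) (hev : ∃ j, e = 2 * j ∧ 0 < j) (hdiv : e ∣ 5 - 1)
    (h1 : 5 ∣ p ^ e - 1) (hmin : ∀ d : ℕ, 0 < d → d < e → ¬ 5 ∣ p ^ d - 1) :
    (e = 2 ∧ p % 5 = 4) ∨ (e = 4 ∧ (p % 5 = 2 ∨ p % 5 = 3)) := by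
  obtain ⟨j, rfl, hj0⟩ := hev
  have hle : 2 * j ≤ 4 := Nat.le_of_dvd (by norm_num) hdiv
  have hj : j ≤ 2 := by omega
  have hx : p % 5 < 5 := Nat.mod_lt _ (by norm_num)
  interval_cases j
  · left
    refine ⟨rfl, ?_⟩
    have hm1 := hmin 1 (by norm_num) (by norm_num)
    rw [MaxC.dvd_pow_sub_one_iff hp.pos] at h1 hm1
    generalize p % 5 = x at *
    interval_cases x <;> simp_all
  · right
    refine ⟨rfl, ?_⟩
    have hm1 := hmin 1 (by norm_num) (by norm_num)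
    have hm2 := hmin 2 (by norm_num) (by norm_num)
    rw [MaxC.dvd_pow_sub_one_iff hp.pos] at h1 hm1 hm2
    generalize p % 5 = x at *
    interval_cases x <;> simp_all

theorem c6u_arith_7 {p e : ℕ} (hp : p.Prime) (hev : ∃ j, e = 2 * j ∧ 0 < j) (hdiv : e ∣ 7 - 1)
    (h1 : 7 ∣ p ^ e - 1) (hmin : ∀ d : ℕ, 0 < d → d < e → ¬ 7 ∣ p ^ d - 1) :
    (e = 2 ∧ p % 7 = 6) ∨ (e = 6 ∧ (p % 7 = 3 ∨ p % 7 = 5)) := by
  obtain ⟨j, rfl, hj0⟩ := hev
  have hle : 2 * j ≤ 6 := Nat.le_of_dvd (by norm_num) hdiv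
  have hj : j ≤ 3 := by omega
  have hx : p % 7 < 7 := Nat.mod_lt _ (by norm_num)
  interval_cases j
  · left
    refine ⟨rfl, ?_⟩
    have hm1 := hmin 1 (by norm_num) (by norm_num)
    rw [MaxC.dvd_pow_sub_one_iff hp.pos] at h1 hm1
    generalize p % 7 = x at *
    interval_cases x <;> simp_all
  · exfalso
    norm_num at hdiv
  · right
    refine ⟨rfl, ?_⟩
    have hm1 := hmin 1 (by norm_num) (by norm_num)
    have hm2 := hmin 2 (by norm_num) (by norm_num)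
    have hm3 := hmin 3 (by norm_num) (by norm_num)
    rw [MaxC.dvd_pow_sub_one_iff hp.pos] at h1 hm1 hm2 hm3
    generalize p % 7 = x at *
    interval_cases x <;> simp_all

theorem c6u_arith_11 {p e : ℕ} (hp : p.Prime) (hev : ∃ j, e = 2 * j ∧ 0 < j)
    (hdiv : e ∣ 11 - 1) (h1 : 11 ∣ p ^ e - 1)
    (hmin : ∀ d : ℕ, 0 < d → d < e → ¬ 11 ∣ p ^ d - 1) :
    (e = 2 ∧ p % 11 = 10) ∨
      (e = 10 ∧ (p % 11 = 2 ∨ p % 11 = 6 ∨ p % 11 = 7 ∨ p % 11 = 8)) := by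
  obtain ⟨j, rfl, hj0⟩ := hev
  have hle : 2 * j ≤ 10 := Nat.le_of_dvd (by norm_num) hdiv
  have hj : j ≤ 5 := by omega
  have hx : p % 11 < 11 := Nat.mod_lt _ (by norm_num)
  interval_cases j
  · left
    refine ⟨rfl, ?_⟩
    have hm1 := hmin 1 (by norm_num) (by norm_num)
    rw [MaxC.dvd_pow_sub_one_iff hp.pos] at h1 hm1
    generalize p % 11 = x at *
    interval_cases x <;> simp_all
  · exfalso
    norm_num at hdiv
  · exfalso
    norm_num at hdiv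
  · exfalso
    norm_num at hdiv
  · right
    refine ⟨rfl, ?_⟩
    have hm1 := hmin 1 (by norm_num) (by norm_num)
    have hm2 := hmin 2 (by norm_num) (by norm_num)
    have hm5 := hmin 5 (by norm_num) (by norm_num)
    rw [MaxC.dvd_pow_sub_one_iff hp.pos] at h1 hm1 hm2 hm5
    generalize p % 11 = x at *
    interval_cases x <;> simp_all

end Cfsg.Agent.Lib.Helper3.MaxU
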