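import Mathlib
import Cfsg.Prelude
import Cfsg.Agent.Lib.Helper3.MaxU8
import Cfsg.Agent.Lib.Helper3.MaxU9
import Cfsg.Agent.Lib.Helper3.MaxC8

set_option autoImplicit false
set_option maxHeartbeats 4000000
set_option maxRecDepth 100000
set_option linter.unusedVariables false
set_option linter.unusedSectionVars false
set_option linter.style.haveILetI false
set_option linter.deprecated false

/-! The maximal subgroups of the special unitary groups in dimensions 7, 11 and 9. -/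

namespace Cfsg.Agent.Lib.Helper3.MaxU

open Matrix Cfsg Cfsg.Geo Module

theorem row7 {F : Type*} [Field F] [Fintype F] (q : ℕ) (hF : Fintype.card F = q ^ 2) (H : Subgroup (Matrix.GeneralLinearGroup (Fin 7) F)) (hH : Cfsg.Geo.IsMaximalIn (Cfsg.GU 7 F q ⊓ Cfsg.Geo.specialLinear (Fin 7) F) H)
    (hA : (∃ M : Subgroup (Matrix.GeneralLinearGroup (Fin 7) F), Cfsg.Geo.InUnitaryClass 7 F q M ∧ H ≤ M) ∨ Cfsg.Geo.InUnitaryResidualClass H) :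
    (∃ W : Submodule F (Fin 7 → F), W ≠ ⊥ ∧ Cfsg.Geo.IsTotallySingularFor (Cfsg.hermForm 7 F q) W ∧ H = Cfsg.Geo.subspaceStabilizer W ⊓ (Cfsg.GU 7 F q ⊓ Cfsg.Geo.specialLinear (Fin 7) F)) ∨
    (∃ W : Submodule F (Fin 7 → F), W ≠ ⊥ ∧ Cfsg.Geo.IsNondegenerateOn (Cfsg.hermForm 7 F q) W ∧ 2 * Module.finrank F W < 7 ∧ H = Cfsg.Geo.subspaceStabilizer W ⊓ (Cfsg.GU 7 F q ⊓ Cfsg.Geo.specialLinear (Fin 7) F)) ∨
    (∃ D : Fin 7 → Submodule F (Fin 7 → F), Cfsg.Geo.IsNondegenerateMDecomposition (Cfsg.hermForm 7 F q) 1 D ∧ H = Cfsg.Geo.decompositionStabilizer D ⊓ (Cfsg.GU 7 F q ⊓ Cfsg.Geo.specialLinear (Fin 7) F)) ∨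
    (∃ K : Subalgebra F (Matrix (Fin 7) (Fin 7) F), Cfsg.Geo.IsFieldSubalgebra 7 K ∧ Cfsg.Geo.IsAdjointClosedFor (Cfsg.hermForm 7 F q) K ∧ H = Cfsg.Geo.subalgebraNormalizer K ⊓ (Cfsg.GU 7 F q ⊓ Cfsg.Geo.specialLinear (Fin 7) F)) ∨
    (∃ (F₀ : Subfield F) (r : ℕ) (P : Matrix.GeneralLinearGroup (Fin 7) F), r.Prime ∧ Odd r ∧ Fintype.card F = Nat.card F₀ ^ r ∧ Cfsg.Geo.IsFormRationalStructure (Cfsg.hermForm 7 F q) F₀ 1 P ∧ H = Cfsg.Geo.subfieldSubgroup F₀ P ⊓ (Cfsg.GU 7 F q ⊓ Cfsg.Geo.specialLinear (Fin 7) F)) ∨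
    (Odd q ∧ ∃ (F₀ : Subfield F) (P : Matrix.GeneralLinearGroup (Fin 7) F), Fintype.card F = Nat.card F₀ ^ 2 ∧ Cfsg.Geo.IsFormRationalStructure (Cfsg.hermForm 7 F q) F₀ 1 P ∧ H = Cfsg.Geo.subfieldSubgroup F₀ P ⊓ (Cfsg.GU 7 F q ⊓ Cfsg.Geo.specialLinear (Fin 7) F)) ∨
    (∃ (p : ℕ) (R : Subgroup (Matrix.GeneralLinearGroup (Fin 7) F)), p.Prime ∧ CharP F p ∧ ((q = p ∧ p % 7 = 6) ∨ (q = p ^ 3 ∧ (p % 7 = 3 ∨ p % 7 = 5))) ∧ Cfsg.Geo.IsSymplecticTypeGroup 7 R ∧ Cfsg.Geo.ActsAbsolutelyIrreducibly (Cfsg.Geo.matrixSet R) ∧ R ≤ Cfsg.Geo.similarityGroup (Cfsg.hermForm 7 F q) ∧ Nat.card R = 343 ∧ Nat.card (Subgroup.center R) = 7 ∧ H = Cfsg.Geo.subgroupNormalizer R ⊓ (Cfsg.GU 7 F q ⊓ Cfsg.Geo.specialLinear (Fin 7) F)) ∨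
    Cfsg.Geo.InUnitaryResidualClass H := by
  classical
  have hq1 : 1 < q := one_lt_q hF
  rcases cases_of_max hF (by norm_num) H hH hA with
    ⟨W, h0, hts, hW⟩ | ⟨W, h0, hnd, hlt, hW⟩ | ⟨t, k, D, hD, htk, hs, hHD⟩ |
    ⟨k, D, h2k, hD, hts, hHD⟩ | ⟨F₀, r, P, hr, hodd, hcard, hrat, hHS⟩ |
    ⟨F₀, P, hodd, hcard, hrat, hHS⟩ | ⟨F₀, P, ζ, hev, hcard, hζ0, hζ, hrat, hiso, hHS⟩ |
    ⟨r, R, p, e, k, hR, hirr, hsim, hrp, ⟨hnk, hp, hchar, hcase⟩, hHR⟩ |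
    ⟨r, K, hr, hodd, hrn, hK, hadj, hHK⟩ |
    ⟨n₁, n₂, e, P, f₁, f₂, h1, h2, h12, hs, hf₁, hf₂, hT, hHT⟩ |
    ⟨k, t, e, P, f₁, hk, ht, hkt, hqk, hf₁, hT, hHle, hHW⟩ | hres
  · exact Or.inl ⟨W, h0, hts, hW⟩
  · exact Or.inr (Or.inl ⟨W, h0, hnd, hlt, hW⟩)
  · obtain ⟨rfl, rfl⟩ := fac7 hD.decomp.two_le hD.decomp.pos htk
    iterate 2 right
    left
    exact ⟨D, hD, hHD⟩
  · exfalso
    omega
  ·
    iterate 4 right
    left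
    exact ⟨F₀, r, P, hr, hodd, hcard, hrat, hHS⟩
  ·
    iterate 5 right
    left
    exact ⟨hodd, F₀, P, hcard, hrat, hHS⟩
  · exfalso
    rcases hev with ⟨j, hj⟩
    omega
  · have hr7 : r = 7 := by
      have h7 : (7 : ℕ) ∣ r ^ k := by rw [← hnk]
      exact (MaxC.prime_eq_of_dvd_pow hR.prime (by norm_num) h7).symm
    subst hr7
    have hk1 : k = 1 := pow_eq_self (by norm_num) hnk
    subst hk1
    rcases hcase with ⟨-, hZ, hRc, hev, hdiv, hd1, hmin⟩ | ⟨h2, -⟩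
    · iterate 6 right
      left
      refine ⟨p, R, hp, hchar, ?_, hR, hirr, hsim, hRc.trans (by norm_num), hZ, hHR⟩
      obtain ⟨j, hej, hqj, hj0⟩ := hev
      rcases c6u_arith_7 hp ⟨j, hej, hj0⟩ hdiv hd1 hmin with ⟨he, hp7⟩ | ⟨he, hp7⟩
      · left
        have hj1 : j = 1 := by omega
        subst hj1
        rw [pow_one] at hqj
        exact ⟨hqj, hp7⟩
      · right
        have hj3 : j = 3 := by omega
        subst hj3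
        exact ⟨hqj, hp7⟩
    · omega
  · have hr7 : r = 7 := (Nat.prime_dvd_prime_iff_eq hr (by norm_num)).1 hrn
    subst hr7
    iterate 3 right
    left
    exact ⟨K, hK, hadj, hHK⟩
  · exfalso
    exact ten7 h1 h2 h12
  · exfalso
    have h9 := MaxC.nine_le_pow hk ht
    omega
  · iterate 7 right
    exact hres

theorem row11 {F : Type*} [Field F] [Fintype F] (q : ℕ) (hF : Fintype.card F = q ^ 2) (H : Subgroup (Matrix.GeneralLinearGroup (Fin 11) F)) (hH : Cfsg.Geo.IsMaximalIn (Cfsg.GU 11 F q ⊓ Cfsg.Geo.specialLinear (Fin 11) F) H)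
    (hA : (∃ M : Subgroup (Matrix.GeneralLinearGroup (Fin 11) F), Cfsg.Geo.InUnitaryClass 11 F q M ∧ H ≤ M) ∨ Cfsg.Geo.InUnitaryResidualClass H) :
    (∃ W : Submodule F (Fin 11 → F), W ≠ ⊥ ∧ Cfsg.Geo.IsTotallySingularFor (Cfsg.hermForm 11 F q) W ∧ H = Cfsg.Geo.subspaceStabilizer W ⊓ (Cfsg.GU 11 F q ⊓ Cfsg.Geo.specialLinear (Fin 11) F)) ∨
    (∃ W : Submodule F (Fin 11 → F), W ≠ ⊥ ∧ Cfsg.Geo.IsNondegenerateOn (Cfsg.hermForm 11 F q) W ∧ 2 * Module.finrank F W < 11 ∧ H = Cfsg.Geo.subspaceStabilizer W ⊓ (Cfsg.GU 11 F q ⊓ Cfsg.Geo.specialLinear (Fin 11) F)) ∨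
    (∃ D : Fin 11 → Submodule F (Fin 11 → F), Cfsg.Geo.IsNondegenerateMDecomposition (Cfsg.hermForm 11 F q) 1 D ∧ H = Cfsg.Geo.decompositionStabilizer D ⊓ (Cfsg.GU 11 F q ⊓ Cfsg.Geo.specialLinear (Fin 11) F)) ∨
    (∃ K : Subalgebra F (Matrix (Fin 11) (Fin 11) F), Cfsg.Geo.IsFieldSubalgebra 11 K ∧ Cfsg.Geo.IsAdjointClosedFor (Cfsg.hermForm 11 F q) K ∧ H = Cfsg.Geo.subalgebraNormalizer K ⊓ (Cfsg.GU 11 F q ⊓ Cfsg.Geo.specialLinear (Fin 11) F)) ∨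
    (∃ (F₀ : Subfield F) (r : ℕ) (P : Matrix.GeneralLinearGroup (Fin 11) F), r.Prime ∧ Odd r ∧ Fintype.card F = Nat.card F₀ ^ r ∧ Cfsg.Geo.IsFormRationalStructure (Cfsg.hermForm 11 F q) F₀ 1 P ∧ H = Cfsg.Geo.subfieldSubgroup F₀ P ⊓ (Cfsg.GU 11 F q ⊓ Cfsg.Geo.specialLinear (Fin 11) F)) ∨
    (Odd q ∧ ∃ (F₀ : Subfield F) (P : Matrix.GeneralLinearGroup (Fin 11) F), Fintype.card F = Nat.card F₀ ^ 2 ∧ Cfsg.Geo.IsFormRationalStructure (Cfsg.hermForm 11 F q) F₀ 1 P ∧ H = Cfsg.Geo.subfieldSubgroup F₀ P ⊓ (Cfsg.GU 11 F q ⊓ Cfsg.Geo.specialLinear (Fin 11) F)) ∨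
    (∃ (p : ℕ) (R : Subgroup (Matrix.GeneralLinearGroup (Fin 11) F)), p.Prime ∧ CharP F p ∧ ((q = p ∧ p % 11 = 10) ∨ (q = p ^ 5 ∧ (p % 11 = 2 ∨ p % 11 = 6 ∨ p % 11 = 7 ∨ p % 11 = 8))) ∧ Cfsg.Geo.IsSymplecticTypeGroup 11 R ∧ Cfsg.Geo.ActsAbsolutelyIrreducibly (Cfsg.Geo.matrixSet R) ∧ R ≤ Cfsg.GU 11 F q ∧ Nat.card R = 1331 ∧ Nat.card (Subgroup.center R) = 11 ∧ H = Cfsg.Geo.subgroupNormalizer R ⊓ (Cfsg.GU 11 F q ⊓ Cfsg.Geo.specialLinear (Fin 11) F)) ∨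
    Cfsg.Geo.InUnitaryResidualClass H := by
  classical
  have hq1 : 1 < q := one_lt_q hF
  rcases cases_of_max hF (by norm_num) H hH hA with
    ⟨W, h0, hts, hW⟩ | ⟨W, h0, hnd, hlt, hW⟩ | ⟨t, k, D, hD, htk, hs, hHD⟩ |
    ⟨k, D, h2k, hD, hts, hHD⟩ | ⟨F₀, r, P, hr, hodd, hcard, hrat, hHS⟩ |
    ⟨F₀, P, hodd, hcard, hrat, hHS⟩ | ⟨F₀, P, ζ, hev, hcard, hζ0, hζ, hrat, hiso, hHS⟩ |
    ⟨r, R, p, e, k, hR, hirr, hsim, hrp, ⟨hnk, hp, hchar, hcase⟩, hHR⟩ |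
    ⟨r, K, hr, hodd, hrn, hK, hadj, hHK⟩ |
    ⟨n₁, n₂, e, P, f₁, f₂, h1, h2, h12, hs, hf₁, hf₂, hT, hHT⟩ |
    ⟨k, t, e, P, f₁, hk, ht, hkt, hqk, hf₁, hT, hHle, hHW⟩ | hres
  · exact Or.inl ⟨W, h0, hts, hW⟩
  · exact Or.inr (Or.inl ⟨W, h0, hnd, hlt, hW⟩)
  · obtain ⟨rfl, rfl⟩ := fac11 hD.decomp.two_le hD.decomp.pos htk
    iterate 2 right
    left
    exact ⟨D, hD, hHD⟩
  · exfalso
    omega
  ·
    iterate 4 right
    left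
    exact ⟨F₀, r, P, hr, hodd, hcard, hrat, hHS⟩
  ·
    iterate 5 right
    left
    exact ⟨hodd, F₀, P, hcard, hrat, hHS⟩
  · exfalso
    rcases hev with ⟨j, hj⟩
    omega
  · have hr7 : r = 11 := by
      have h7 : (11 : ℕ) ∣ r ^ k := by rw [← hnk]
      exact (MaxC.prime_eq_of_dvd_pow hR.prime (by norm_num) h7).symm
    subst hr7
    have hk1 : k = 1 := pow_eq_self (by norm_num) hnk
    subst hk1
    rcases hcase with ⟨-, hZ, hRc, hev, hdiv, hd1, hmin⟩ | ⟨h2, -⟩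
    · iterate 6 right
      left
      obtain ⟨j, hej, hqj, hj0⟩ := hev
      have hexp : ∀ g ∈ R, g ^ 11 = 1 := by
        intro g hg
        have h1 := Monoid.pow_exponent_eq_one (⟨g, hg⟩ : R)
        have h11 : Nat.gcd 2 11 = 1 := by norm_num
        rw [hR.exponent_eq, h11, mul_one] at h1
        have h2 := congrArg Subtype.val h1
        simpa using h2
      have hcop : Nat.Coprime 11 (q - 1) := by
        rw [Nat.Prime.coprime_iff_not_dvd (by norm_num)]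
        intro hdvd
        rw [hqj] at hdvd
        exact hmin j hj0 (by omega) hdvd
      have hGU : R ≤ Cfsg.GU 11 F q := le_GU_of_coprime hF (by norm_num) hexp hcop hsim
      refine ⟨p, R, hp, hchar, ?_, hR, hirr, hGU, hRc.trans (by norm_num), hZ, hHR⟩
      rcases c6u_arith_11 hp ⟨j, hej, hj0⟩ hdiv hd1 hmin with ⟨he, hp7⟩ | ⟨he, hp7⟩
      · left
        have hj1 : j = 1 := by omega
        subst hj1
        rw [pow_one] at hqj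
        exact ⟨hqj, hp7⟩
      · right
        have hj3 : j = 5 := by omega
        subst hj3
        exact ⟨hqj, hp7⟩
    · omega
  · have hr7 : r = 11 := (Nat.prime_dvd_prime_iff_eq hr (by norm_num)).1 hrn
    subst hr7
    iterate 3 right
    left
    exact ⟨K, hK, hadj, hHK⟩
  · exfalso
    exact ten11 h1 h2 h12
  · exfalso
    have h9 := (MaxC.wreath_arith hk ht hkt (by norm_num)).1
    omega
  · iterate 7 right
    exact hres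

theorem row9 {F : Type*} [Field F] [Fintype F] (q : ℕ) (hF : Fintype.card F = q ^ 2) (H : Subgroup (Matrix.GeneralLinearGroup (Fin 9) F)) (hH : Cfsg.Geo.IsMaximalIn (Cfsg.GU 9 F q ⊓ Cfsg.Geo.specialLinear (Fin 9) F) H)
    (hA : (∃ M : Subgroup (Matrix.GeneralLinearGroup (Fin 9) F), Cfsg.Geo.InUnitaryClass 9 F q M ∧ H ≤ M) ∨ Cfsg.Geo.InUnitaryResidualClass H) :
    (∃ W : Submodule F (Fin 9 → F), W ≠ ⊥ ∧ Cfsg.Geo.IsTotallySingularFor (Cfsg.hermForm 9 F q) W ∧ H = Cfsg.Geo.subspaceStabilizer W ⊓ (Cfsg.GU 9 F q ⊓ Cfsg.Geo.specialLinear (Fin 9) F)) ∨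
    (∃ W : Submodule F (Fin 9 → F), W ≠ ⊥ ∧ Cfsg.Geo.IsNondegenerateOn (Cfsg.hermForm 9 F q) W ∧ 2 * Module.finrank F W < 9 ∧ H = Cfsg.Geo.subspaceStabilizer W ⊓ (Cfsg.GU 9 F q ⊓ Cfsg.Geo.specialLinear (Fin 9) F)) ∨
    (∃ D : Fin 9 → Submodule F (Fin 9 → F), Cfsg.Geo.IsNondegenerateMDecomposition (Cfsg.hermForm 9 F q) 1 D ∧ H = Cfsg.Geo.decompositionStabilizer D ⊓ (Cfsg.GU 9 F q ⊓ Cfsg.Geo.specialLinear (Fin 9) F)) ∨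
    (∃ D : Fin 3 → Submodule F (Fin 9 → F), Cfsg.Geo.IsNondegenerateMDecomposition (Cfsg.hermForm 9 F q) 3 D ∧ H = Cfsg.Geo.decompositionStabilizer D ⊓ (Cfsg.GU 9 F q ⊓ Cfsg.Geo.specialLinear (Fin 9) F)) ∨
    (∃ K : Subalgebra F (Matrix (Fin 9) (Fin 9) F), Cfsg.Geo.IsFieldSubalgebra 3 K ∧ Cfsg.Geo.IsAdjointClosedFor (Cfsg.hermForm 9 F q) K ∧ H = Cfsg.Geo.subalgebraNormalizer K ⊓ (Cfsg.GU 9 F q ⊓ Cfsg.Geo.specialLinear (Fin 9) F)) ∨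
    (∃ (F₀ : Subfield F) (r : ℕ) (P : Matrix.GeneralLinearGroup (Fin 9) F), r.Prime ∧ Odd r ∧ Fintype.card F = Nat.card F₀ ^ r ∧ Cfsg.Geo.IsFormRationalStructure (Cfsg.hermForm 9 F q) F₀ 1 P ∧ H = Cfsg.Geo.subfieldSubgroup F₀ P ⊓ (Cfsg.GU 9 F q ⊓ Cfsg.Geo.specialLinear (Fin 9) F)) ∨
    (Odd q ∧ ∃ (F₀ : Subfield F) (P : Matrix.GeneralLinearGroup (Fin 9) F), Fintype.card F = Nat.card F₀ ^ 2 ∧ Cfsg.Geo.IsFormRationalStructure (Cfsg.hermForm 9 F q) F₀ 1 P ∧ H = Cfsg.Geo.subfieldSubgroup F₀ P ⊓ (Cfsg.GU 9 F q ⊓ Cfsg.Geo.specialLinear (Fin 9) F)) ∨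
    (∃ (p : ℕ) (R : Subgroup (Matrix.GeneralLinearGroup (Fin 9) F)), p.Prime ∧ q = p ∧ p % 3 = 2 ∧ Cfsg.Geo.IsSymplecticTypeGroup 3 R ∧ Cfsg.Geo.ActsAbsolutelyIrreducibly (Cfsg.Geo.matrixSet R) ∧ R ≤ Cfsg.Geo.similarityGroup (Cfsg.hermForm 9 F q) ∧ Nat.card R = 243 ∧ Nat.card (Subgroup.center R) = 3 ∧ H = Cfsg.Geo.subgroupNormalizer R ⊓ (Cfsg.GU 9 F q ⊓ Cfsg.Geo.specialLinear (Fin 9) F)) ∨
    (3 ≤ q ∧ ∃ (e : Fin 9 ≃ (Fin 2 → Fin 3)) (P : Matrix.GeneralLinearGroup (Fin 9) F) (f₁ : (Fin 3 → F) → (Fin 3 → F) → F), Cfsg.Geo.IsUnitaryFormPow q f₁ ∧ Cfsg.Geo.IsTensorPowerFormStructure (fun x : F => x ^ q) (Cfsg.hermForm 9 F q) f₁ e P ∧ H = Cfsg.Geo.tensorWreathSubgroup 3 2 e P ⊓ (Cfsg.GU 9 F q ⊓ Cfsg.Geo.specialLinear (Fin 9) F)) ∨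
    Cfsg.Geo.InUnitaryResidualClass H := by
  classical
  have hq1 : 1 < q := one_lt_q hF
  rcases cases_of_max hF (by norm_num) H hH hA with
    ⟨W, h0, hts, hW⟩ | ⟨W, h0, hnd, hlt, hW⟩ | ⟨t, k, D, hD, htk, hs, hHD⟩ |
    ⟨k, D, h2k, hD, hts, hHD⟩ | ⟨F₀, r, P, hr, hodd, hcard, hrat, hHS⟩ |
    ⟨F₀, P, hodd, hcard, hrat, hHS⟩ | ⟨F₀, P, ζ, hev, hcard, hζ0, hζ, hrat, hiso, hHS⟩ |
    ⟨r, R, p, e, k, hR, hirr, hsim, hrp, ⟨hnk, hp, hchar, hcase⟩, hHR⟩ |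
    ⟨r, K, hr, hodd, hrn, hK, hadj, hHK⟩ |
    ⟨n₁, n₂, e, P, f₁, f₂, h1, h2, h12, hs, hf₁, hf₂, hT, hHT⟩ |
    ⟨k, t, e, P, f₁, hk, ht, hkt, hqk, hf₁, hT, hHle, hHW⟩ | hres
  · exact Or.inl ⟨W, h0, hts, hW⟩
  · exact Or.inr (Or.inl ⟨W, h0, hnd, hlt, hW⟩)
  · rcases fac9 hD.decomp.two_le hD.decomp.pos htk with ⟨rfl, rfl⟩ | ⟨rfl, rfl⟩
    · iterate 2 right
      left
      exact ⟨D, hD, hHD⟩
    · iterate 3 right
      left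
      exact ⟨D, hD, hHD⟩
  · exfalso
    omega
  ·
    iterate 5 right
    left
    exact ⟨F₀, r, P, hr, hodd, hcard, hrat, hHS⟩
  ·
    iterate 6 right
    left
    exact ⟨hodd, F₀, P, hcard, hrat, hHS⟩
  · exfalso
    rcases hev with ⟨j, hj⟩
    omega
  · have hr3 : r = 3 := by
      have h3 : (3 : ℕ) ∣ r ^ k := by
        rw [← hnk]
        norm_num
      exact (MaxC.prime_eq_of_dvd_pow hR.prime (by norm_num) h3).symm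
    subst hr3
    have hk2 : k = 2 := by
      have h1 : 3 ^ 2 = 3 ^ k := by omega
      exact (Nat.pow_right_injective (by norm_num : 2 ≤ 3) h1).symm
    subst hk2
    rcases hcase with ⟨-, hZ, hRc, hev, hdiv, hd1, hmin⟩ | ⟨h2, -⟩
    · iterate 7 right
      left
      obtain ⟨j, hej, hqj, hj0⟩ := hev
      obtain ⟨he, hp3⟩ := c6u_arith_3 hp ⟨j, hej, hj0⟩ hdiv hd1 hmin
      have hj1 : j = 1 := by omega
      subst hj1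
      rw [pow_one] at hqj
      exact ⟨p, R, hp, hqj, hp3, hR, hirr, hsim, hRc.trans (by norm_num), hZ, hHR⟩
    · omega
  · have hr3 : r = 3 := by
      have h9 : (9 : ℕ) = 3 ^ 2 := by norm_num
      rw [h9] at hrn
      exact MaxC.prime_eq_of_dvd_pow (by norm_num) hr hrn
    subst hr3
    iterate 4 right
    left
    exact ⟨K, hK, hadj, hHK⟩
  · exfalso
    exact ten9 h1 h2 h12
  · obtain ⟨rfl, rfl⟩ := MaxC.pow_eq_nine hk ht hkt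
    iterate 8 right
    left
    exact ⟨by omega, e, P, f₁, hf₁, hT, hHW rfl⟩
  · iterate 9 right
    exact hres

end Cfsg.Agent.Lib.Helper3.MaxU
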