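import Mathlib

set_option autoImplicit false
set_option maxHeartbeats 4000000
set_option maxRecDepth 100000
set_option linter.unusedVariables false
set_option linter.unusedSectionVars false
set_option linter.style.haveILetI false
set_option linter.deprecated false

/-! A concrete model of the field with nine elements, and the set of sixty "stabiliser states"
in the four-dimensional space over it: invariance under a Hadamard matrix. -/

namespace Cfsg.Agent.Lib.Helper3.MaxU

open Matrix

/-- the field with nine elements: the Gaussian integers modulo three -/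
abbrev K9 := QuadraticAlgebra (ZMod 3) (-1) 0

/-- number of non-zero coordinates -/
def wt9 (v : Fin 4 → K9) : ℕ := (Finset.univ.filter (fun i => v i ≠ 0)).card

/-- fourth power -/
def p4 (x : K9) : K9 := (x * x) * (x * x)

/-- the non-zero coordinates have the same fourth power -/
def same4 (v : Fin 4 → K9) : Bool :=
  decide (∀ i j : Fin 4, v i ≠ 0 → v j ≠ 0 → p4 (v i) = p4 (v j))

/-- product of the coordinates -/
def pr9 (v : Fin 4 → K9) : K9 := (v 0 * v 1) * (v 2 * v 3)

/-- membership in the set of sixty points (as vectors) -/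
def S9 (v : Fin 4 → K9) : Bool :=
  decide (wt9 v = 1) || (decide (wt9 v = 2) && same4 v) ||
    (decide (wt9 v = 4) && same4 v && decide (pr9 v * pr9 v = 1))

/-- the action of a Hadamard matrix -/
def had9 (v : Fin 4 → K9) : Fin 4 → K9 :=
  ![v 0 + v 1 + v 2 + v 3, v 0 - v 1 + v 2 - v 3, v 0 + v 1 - v 2 - v 3, v 0 - v 1 - v 2 + v 3]

theorem h9_inv' : ∀ a1 a2 b1 b2 c1 c2 d1 d2 : ZMod 3,
    S9 (had9 ![⟨a1, a2⟩, ⟨b1, b2⟩, ⟨c1, c2⟩, ⟨d1, d2⟩]) =
      S9 ![⟨a1, a2⟩, ⟨b1, b2⟩, ⟨c1, c2⟩, ⟨d1, d2⟩] := by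
  decide +kernel

theorem wt3_false' : ∀ a1 a2 b1 b2 : ZMod 3, (⟨a1, a2⟩ : K9) ≠ 0 → (⟨b1, b2⟩ : K9) ≠ 0 →
    S9 ![⟨a1, a2⟩, ⟨b1, b2⟩, 1, 0] = false := by
  decide +kernel

theorem s9_1010 : S9 ![1, 0, 1, 0] = true := by
  decide +kernel

end Cfsg.Agent.Lib.Helper3.MaxU
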