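import Mathlib
import Cfsg.Prelude
import Cfsg.Agent.Lib.Helper3.MaxU12a
import Cfsg.Agent.Lib.Helper3.MaxU8
import Cfsg.Agent.Lib.Helper3.MaxC14
import Cfsg.Agent.Lib.Helper5.HermPerp

set_option autoImplicit false
set_option maxHeartbeats 4000000
set_option maxRecDepth 100000
set_option linter.unusedVariables false
set_option linter.unusedSectionVars false
set_option linter.style.haveILetI false
set_option linter.deprecated false

/-! Over the field with nine elements the stabiliser of an orthogonal frame of the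
four-dimensional unitary space is not maximal in the special unitary group: it preserves the set
of sixty "stabiliser states", which is also preserved by a Hadamard matrix. -/

namespace Cfsg.Agent.Lib.Helper3.MaxU

open Matrix Cfsg Cfsg.Geo Module
open Cfsg.Agent.Lib.Helper5.Herm Cfsg.Agent.Lib.Helper5.HermPerp

section model

instance fact9 : Fact (∀ r : ZMod 3, r ^ 2 ≠ -1 + 0 * r) := ⟨by decide⟩

instance fintypeK9 : Fintype K9 :=
  Fintype.ofEquiv (ZMod 3 × ZMod 3) (QuadraticAlgebra.equivProd (-1 : ZMod 3) 0).symm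

theorem card_K9 : Fintype.card K9 = 9 := by
  rw [Fintype.card_congr (QuadraticAlgebra.equivProd (-1 : ZMod 3) 0), Fintype.card_prod,
    ZMod.card]

theorem h9_inv (v : Fin 4 → K9) : S9 (had9 v) = S9 v := by
  have hv : v = ![⟨(v 0).re, (v 0).im⟩, ⟨(v 1).re, (v 1).im⟩, ⟨(v 2).re, (v 2).im⟩,
      ⟨(v 3).re, (v 3).im⟩] := by
    funext i
    fin_cases i <;> rfl
  rw [hv]
  exact h9_inv' _ _ _ _ _ _ _ _

theorem wt3_false (a b : K9) (ha : a ≠ 0) (hb : b ≠ 0) : S9 ![a, b, 1, 0] = false :=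
  wt3_false' a.re a.im b.re b.im ha hb

theorem p4_mul (a x : K9) : p4 (a * x) = p4 a * p4 x := by
  unfold p4
  ring

theorem p4_ne_zero {a : K9} (ha : p4 a = 1) : a ≠ 0 := by
  intro h
  rw [h] at ha
  unfold p4 at ha
  rw [mul_zero, mul_zero] at ha
  exact zero_ne_one ha

theorem wt9_monomial (σ : Equiv.Perm (Fin 4)) (a v w : Fin 4 → K9) (ha : ∀ i, a i ≠ 0)
    (hw : ∀ i, w (σ i) = a i * v i) : wt9 w = wt9 v := by
  unfold wt9
  rw [Finset.card_filter, Finset.card_filter, ← Equiv.sum_comp σ]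
  refine Finset.sum_congr rfl fun i _ => ?_
  rw [hw i]
  refine if_congr ?_ rfl rfl
  rw [ne_eq, ne_eq, mul_eq_zero, not_or]
  exact ⟨fun h => h.2, fun h => ⟨ha i, h⟩⟩

theorem same4_monomial (σ : Equiv.Perm (Fin 4)) (a v w : Fin 4 → K9) (ha : ∀ i, p4 (a i) = 1)
    (hw : ∀ i, w (σ i) = a i * v i) : same4 w = same4 v := by
  unfold same4
  have hne : ∀ i, w (σ i) ≠ 0 ↔ v i ≠ 0 := by
    intro i
    rw [hw i, ne_eq, ne_eq, mul_eq_zero, not_or]
    exact ⟨fun h => h.2, fun h => ⟨p4_ne_zero (ha i), h⟩⟩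
  have hp : ∀ i, p4 (w (σ i)) = p4 (v i) := by
    intro i
    rw [hw i, p4_mul, ha i, one_mul]
  apply decide_eq_decide.2
  constructor
  · intro h i j hi hj
    rw [← hp i, ← hp j]
    exact h (σ i) (σ j) ((hne i).2 hi) ((hne j).2 hj)
  · intro h i j hi hj
    have hi' := hne (σ.symm i)
    have hj' := hne (σ.symm j)
    rw [Equiv.apply_symm_apply] at hi' hj'
    have := h (σ.symm i) (σ.symm j) (hi'.1 hi) (hj'.1 hj)
    rw [← hp, ← hp, Equiv.apply_symm_apply, Equiv.apply_symm_apply] at this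
    exact this

theorem pr9_eq (v : Fin 4 → K9) : pr9 v = ∏ i, v i := by
  unfold pr9
  rw [Fin.prod_univ_four]
  ring

theorem pr9_monomial (σ : Equiv.Perm (Fin 4)) (a v w : Fin 4 → K9)
    (hw : ∀ i, w (σ i) = a i * v i) : pr9 w = (∏ i, a i) * pr9 v := by
  rw [pr9_eq, pr9_eq, ← Equiv.prod_comp σ w, ← Finset.prod_mul_distrib]
  exact Finset.prod_congr rfl fun i _ => hw i

theorem S9_monomial (σ : Equiv.Perm (Fin 4)) (a v w : Fin 4 → K9) (ha : ∀ i, p4 (a i) = 1)
    (hpr : (∏ i, a i) * (∏ i, a i) = 1) (hw : ∀ i, w (σ i) = a i * v i) : S9 w = S9 v := by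
  unfold S9
  have h1 : pr9 w * pr9 w = pr9 v * pr9 v := by
    rw [pr9_monomial σ a v w hw]
    calc (∏ i, a i) * pr9 v * ((∏ i, a i) * pr9 v)
        = ((∏ i, a i) * (∏ i, a i)) * (pr9 v * pr9 v) := by ring
      _ = pr9 v * pr9 v := by rw [hpr, one_mul]
  rw [wt9_monomial σ a v w (fun i => p4_ne_zero (ha i)) hw, same4_monomial σ a v w ha hw, h1]

end model

section frame
variable {F : Type*} [Field F] [Fintype F] {q : ℕ} (hF : Fintype.card F = q ^ 2)
  {D : Fin 4 → Submodule F (Fin 4 → F)}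

include hF in
theorem exists_orthonormal_frame (hD : IsNondegenerateMDecomposition (hermForm 4 F q) 1 D) :
    ∃ b : Module.Basis (Fin 4) F (Fin 4 → F), (∀ i, b i ∈ D i) ∧
      ∀ i j, hermForm 4 F q (b i) (b j) = if i = j then 1 else 0 := by
  classical
  set b0 := MaxC.b4 hD.decomp with hb0
  have hmem : ∀ i, b0 i ∈ D i := MaxC.b4_mem hD.decomp
  have hd : ∀ i, hermForm 4 F q (b0 i) (b0 i) ≠ 0 := by
    intro i
    obtain ⟨⟨x, hx, hx0⟩, -⟩ := hD.nondegenerate i (b0 i) (hmem i) (b0.ne_zero i)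
    have hxc : x = (b0.repr x i) • b0 i := by
      conv_lhs => rw [← b0.sum_repr x]
      rw [Finset.sum_eq_single i]
      · intro j _ hj
        rw [MaxC.b4_repr_of_mem hD.decomp hx j hj, zero_smul]
      · intro h
        exact absurd (Finset.mem_univ i) h
    intro h0
    apply hx0
    rw [hxc, hermForm_smul_left, h0, mul_zero]
  choose l hl using fun i => exists_norm hF (hermForm 4 F q (b0 i) (b0 i)) (herm_self_fix hF _)
  have hl0 : ∀ i, l i ≠ 0 := by
    intro i h0
    have := hl i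
    rw [h0, zero_pow (Nat.succ_ne_zero q)] at this
    exact hd i this.symm
  set w : Fin 4 → Fˣ := fun i => Units.mk0 (l i)⁻¹ (inv_ne_zero (hl0 i)) with hw
  refine ⟨b0.unitsSMul w, ?_, ?_⟩
  · intro i
    rw [Module.Basis.unitsSMul_apply]
    exact Submodule.smul_mem _ _ (hmem i)
  · intro i j
    rw [Module.Basis.unitsSMul_apply, Module.Basis.unitsSMul_apply, Units.smul_def,
      Units.smul_def, herm_smul_smul hF]
    by_cases hij : i = j
    · subst hij
      rw [if_pos rfl]
      simp only [hw, Units.val_mk0]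
      rw [← hl i, inv_pow, pow_succ]
      have := hl0 i
      field_simp
    · rw [if_neg hij, hD.orthogonal i j hij _ (hmem i) _ (hmem j), mul_zero]

variable (b : Module.Basis (Fin 4) F (Fin 4 → F))
  (hb : ∀ i j, hermForm 4 F q (b i) (b j) = if i = j then 1 else 0)

include hF hb in
theorem repr_eq_herm (x : Fin 4 → F) (i : Fin 4) : b.repr x i = hermForm 4 F q x (b i) := by
  classical
  conv_rhs => rw [← b.sum_repr x]
  rw [hermForm_sum_left hF]
  simp_rw [hermForm_smul_left, hb]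
  simp

include hF hb in
theorem herm_coord (x y : Fin 4 → F) :
    hermForm 4 F q x y = ∑ i, b.repr x i * (b.repr y i) ^ q := by
  have h := hermForm_sum_orthonormal hF (fun i => b i) hb (fun i => b.repr x i)
    (fun i => b.repr y i)
  rw [b.sum_repr, b.sum_repr] at h
  rw [h]
  rfl

include hF hb in
theorem repr_of_mem_frame (hD : IsNondegenerateMDecomposition (hermForm 4 F q) 1 D)
    (hmem : ∀ i, b i ∈ D i) {x : Fin 4 → F} {j : Fin 4} (hx : x ∈ D j) (i : Fin 4)
    (hi : i ≠ j) : b.repr x i = 0 := by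
  rw [repr_eq_herm hF b hb]
  exact hD.orthogonal j i (Ne.symm hi) x hx (b i) (hmem i)

variable (ψ : F ≃+* K9)

/-- coordinates in the model field -/
noncomputable def cvec9 (x : Fin 4 → F) : Fin 4 → K9 := fun i => ψ (b.repr x i)

/-- the stabiliser of the set of sixty points in the special unitary group -/
noncomputable def KS9 (q : ℕ) : Subgroup (GL (Fin 4) F) where
  carrier := {g | g ∈ SUg 4 F q ∧
    ∀ x, S9 (cvec9 b ψ ((g : Matrix (Fin 4) (Fin 4) F) *ᵥ x)) = S9 (cvec9 b ψ x)}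
  mul_mem' := by
    rintro a c ⟨ha1, ha2⟩ ⟨hc1, hc2⟩
    refine ⟨mul_mem ha1 hc1, fun x => ?_⟩
    rw [Units.val_mul, ← Matrix.mulVec_mulVec, ha2, hc2]
  one_mem' := ⟨one_mem _, fun x => by rw [Units.val_one, Matrix.one_mulVec]⟩
  inv_mem' := by
    rintro a ⟨ha1, ha2⟩
    refine ⟨inv_mem ha1, fun x => ?_⟩
    have h := ha2 (((a⁻¹ : GL (Fin 4) F) : Matrix (Fin 4) (Fin 4) F) *ᵥ x)
    rw [Matrix.mulVec_mulVec, ← Units.val_mul, mul_inv_cancel, Units.val_one,
      Matrix.one_mulVec] at h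
    exact h.symm

include hF hb in
theorem stab_le_KS9 (hq3 : q = 3) (hD : IsNondegenerateMDecomposition (hermForm 4 F q) 1 D)
    (hmem : ∀ i, b i ∈ D i) :
    decompositionStabilizer D ⊓ SUg 4 F q ≤ KS9 b ψ q := by
  classical
  intro g hg
  obtain ⟨hgD, hgS⟩ := hg
  refine ⟨hgS, fun x => ?_⟩
  have hgU : ∀ u v, hermForm 4 F q ((g : Matrix (Fin 4) (Fin 4) F) *ᵥ u)
      ((g : Matrix (Fin 4) (Fin 4) F) *ᵥ v) = hermForm 4 F q u v := hgS.1
  set M := LinearMap.toMatrix b b (Matrix.toLin' (g : Matrix (Fin 4) (Fin 4) F)) with hM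
  have hdet : M.det = 1 := by
    rw [hM, LinearMap.det_toMatrix, LinearMap.det_toLin']
    exact (Cfsg.Agent.Lib.Helper5.LinDecompForm.mem_SL_iff g).1 hgS.2
  obtain ⟨σ, hσ⟩ := hgD
  have hmap : ∀ i, ∀ x ∈ D i, (g : Matrix (Fin 4) (Fin 4) F) *ᵥ x ∈ D (σ i) := by
    intro i x hx
    rw [← hσ i]
    exact ⟨x, hx, by rw [Matrix.toLin'_apply]⟩
  have hMzero : ∀ i j : Fin 4, j ≠ σ i → M j i = 0 := by
    intro i j hj
    rw [hM, LinearMap.toMatrix_apply, Matrix.toLin'_apply]
    exact repr_of_mem_frame hF b hb hD hmem (hmap i _ (hmem i)) j hj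
  set α : Fin 4 → F := fun i => M (σ i) i with hα
  have hrepr : ∀ (x : Fin 4 → F) (i : Fin 4),
      b.repr ((g : Matrix (Fin 4) (Fin 4) F) *ᵥ x) (σ i) = α i * b.repr x i := by
    intro x i
    have h1 := LinearMap.toMatrix_mulVec_repr b b
      (Matrix.toLin' (g : Matrix (Fin 4) (Fin 4) F)) x
    rw [Matrix.toLin'_apply] at h1
    have h2 := congrFun h1 (σ i)
    rw [← h2, Matrix.mulVec, dotProduct, Finset.sum_eq_single i]
    · intro i' _ hi'
      rw [← hM, hMzero i' (σ i) (fun h => hi' (σ.injective h).symm), zero_mul]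
    · intro h
      exact absurd (Finset.mem_univ i) h
  have hMMt : M * Mᵀ = Matrix.diagonal (fun j => (α (σ.symm j)) ^ 2) := by
    ext j k
    rw [Matrix.mul_apply, Matrix.diagonal_apply]
    rw [Finset.sum_eq_single (σ.symm j)]
    · rw [Matrix.transpose_apply]
      by_cases hjk : j = k
      · subst hjk
        rw [if_pos rfl, hα]
        simp only [Equiv.apply_symm_apply]
        ring
      · rw [if_neg hjk, hMzero (σ.symm j) k (by rw [Equiv.apply_symm_apply]; exact Ne.symm hjk),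
          mul_zero]
    · intro i _ hi
      rw [hMzero i j (fun h => hi (by rw [h, Equiv.symm_apply_apply])), zero_mul]
    · intro h
      exact absurd (Finset.mem_univ _) h
  have hprod : (∏ i, α i) ^ 2 = 1 := by
    have h1 := congrArg Matrix.det hMMt
    rw [Matrix.det_mul, Matrix.det_transpose, hdet, one_mul, Matrix.det_diagonal] at h1
    rw [← Finset.prod_pow, ← Equiv.prod_comp σ.symm (fun i => α i ^ 2)]
    exact h1.symm
  have hα4 : ∀ i, α i ^ 4 = 1 := by
    intro i
    have h1 := hgU (b i) (b i)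
    rw [herm_coord hF b hb, hb i i, if_pos rfl] at h1
    rw [Finset.sum_eq_single (σ i)] at h1
    · have h2 := hrepr (b i) i
      rw [b.repr_self, Finsupp.single_eq_same, mul_one] at h2
      rw [h2, hq3] at h1
      rw [← h1]
      ring
    · intro j _ hj
      have : b.repr ((g : Matrix (Fin 4) (Fin 4) F) *ᵥ b i) j = 0 :=
        repr_of_mem_frame hF b hb hD hmem (hmap i _ (hmem i)) j hj
      rw [this, zero_mul]
    · intro h
      exact absurd (Finset.mem_univ _) h
  refine S9_monomial σ (fun i => ψ (α i)) (cvec9 b ψ x) _ ?_ ?_ ?_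
  · intro i
    unfold p4
    rw [← map_mul, ← map_mul]
    have : α i * α i * (α i * α i) = α i ^ 4 := by ring
    rw [this, hα4 i, map_one]
  · rw [← map_prod, ← map_mul, ← pow_two, hprod, map_one]
  · intro i
    unfold cvec9
    rw [hrepr x i, map_mul]


/-- a Hadamard matrix -/
def HF4 (F : Type*) [Field F] : Matrix (Fin 4) (Fin 4) F :=
  !![1, 1, 1, 1; 1, -1, 1, -1; 1, 1, -1, -1; 1, -1, -1, 1]

theorem hf4_det (h3 : (3 : F) = 0) : (HF4 F).det = 1 := by
  rw [Matrix.det_succ_row_zero]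
  simp [Fin.sum_univ_succ, Matrix.det_fin_three, HF4, Fin.succAbove]
  linear_combination (5 : F) * h3

theorem hf4_mulVec (c : Fin 4 → F) : HF4 F *ᵥ c =
    ![c 0 + c 1 + c 2 + c 3, c 0 - c 1 + c 2 - c 3, c 0 + c 1 - c 2 - c 3,
      c 0 - c 1 - c 2 + c 3] := by
  funext i
  fin_cases i <;> simp [HF4, Matrix.mulVec, dotProduct, Fin.sum_univ_four] <;> ring

include hF hb in
/-- the Hadamard element -/
theorem exists_hadamard9 (hq3 : q = 3) (h3 : (3 : F) = 0)
    (hD : IsNondegenerateMDecomposition (hermForm 4 F q) 1 D) (hmem : ∀ i, b i ∈ D i) :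
    ∃ g : GL (Fin 4) F, g ∈ KS9 b ψ q ∧ g ∉ decompositionStabilizer D := by
  classical
  set L : (Fin 4 → F) →ₗ[F] (Fin 4 → F) := Matrix.toLin b b (HF4 F) with hL
  have hdetL : LinearMap.det L = 1 := by
    rw [← LinearMap.det_toMatrix b, hL, LinearMap.toMatrix_toLin, hf4_det h3]
  set A : Matrix (Fin 4) (Fin 4) F := LinearMap.toMatrix' L with hA
  have hdetA : A.det = 1 := by rw [hA, LinearMap.det_toMatrix', hdetL]
  have hAx : ∀ x, A *ᵥ x = L x := by
    intro x
    rw [hA, ← Matrix.toLin'_apply, Matrix.toLin'_toMatrix']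
  have hrepr : ∀ x i, b.repr (L x) i = (HF4 F *ᵥ (fun j => b.repr x j)) i := by
    intro x i
    have h1 := LinearMap.toMatrix_mulVec_repr b b L x
    rw [hL, LinearMap.toMatrix_toLin] at h1
    rw [hL]
    exact (congrFun h1 i).symm
  have hr0 : ∀ x, b.repr (L x) 0 = b.repr x 0 + b.repr x 1 + b.repr x 2 + b.repr x 3 := by
    intro x
    rw [hrepr, hf4_mulVec]
    rfl
  have hr1 : ∀ x, b.repr (L x) 1 = b.repr x 0 - b.repr x 1 + b.repr x 2 - b.repr x 3 := by
    intro x
    rw [hrepr, hf4_mulVec]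
    rfl
  have hr2 : ∀ x, b.repr (L x) 2 = b.repr x 0 + b.repr x 1 - b.repr x 2 - b.repr x 3 := by
    intro x
    rw [hrepr, hf4_mulVec]
    rfl
  have hr3 : ∀ x, b.repr (L x) 3 = b.repr x 0 - b.repr x 1 - b.repr x 2 + b.repr x 3 := by
    intro x
    rw [hrepr, hf4_mulVec]
    rfl
  set g : GL (Fin 4) F := Matrix.GeneralLinearGroup.mk'' A (by rw [hdetA]; exact isUnit_one)
    with hg
  have hgval : (g : Matrix (Fin 4) (Fin 4) F) = A := rfl
  have hgU : g ∈ Cfsg.GU 4 F q := by
    intro u v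
    show hermForm 4 F q (A *ᵥ u) (A *ᵥ v) = hermForm 4 F q u v
    rw [hAx, hAx, herm_coord hF b hb, herm_coord hF b hb u v, Fin.sum_univ_four,
      Fin.sum_univ_four, hr0, hr1, hr2, hr3, hr0, hr1, hr2, hr3]
    simp only [pow_q_add hF, pow_q_sub hF]
    linear_combination (b.repr u 0 * (b.repr v 0) ^ q + b.repr u 1 * (b.repr v 1) ^ q +
      b.repr u 2 * (b.repr v 2) ^ q + b.repr u 3 * (b.repr v 3) ^ q) * h3
  have hgSL : g ∈ specialLinear (Fin 4) F := by
    rw [Cfsg.Agent.Lib.Helper5.LinDecompForm.mem_SL_iff, hgval, hdetA]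
  refine ⟨g, ⟨⟨hgU, hgSL⟩, ?_⟩, ?_⟩
  · intro x
    rw [hgval, hAx, ← h9_inv (cvec9 b ψ x)]
    congr 1
    funext i
    unfold cvec9 had9
    fin_cases i
    · show ψ (b.repr (L x) 0) = _
      rw [hr0]
      simp [map_add]
    · show ψ (b.repr (L x) 1) = _
      rw [hr1]
      simp [map_add, map_sub]
    · show ψ (b.repr (L x) 2) = _
      rw [hr2]
      simp [map_add, map_sub]
    · show ψ (b.repr (L x) 3) = _
      rw [hr3]
      simp [map_add, map_sub]
  · intro hstab
    obtain ⟨j, hj⟩ := stab_map_mem g hstab (hmem 0)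
    rw [hgval, hAx] at hj
    have h0 : b.repr (L (b 0)) 0 = 1 := by
      rw [hr0]
      simp [Finsupp.single_apply]
    have h1 : b.repr (L (b 0)) 1 = 1 := by
      rw [hr1]
      simp [Finsupp.single_apply]
    by_cases hj0 : j = 0
    · have := repr_of_mem_frame hF b hb hD hmem hj 1 (by rw [hj0]; decide)
      rw [h1] at this
      exact one_ne_zero this
    · have := repr_of_mem_frame hF b hb hD hmem hj 0 (fun h => hj0 h.symm)
      rw [h0] at this
      exact one_ne_zero this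

include hF hb in
/-- a transvection outside the stabiliser of the sixty points -/
theorem exists_not_KS9 (hq3 : q = 3) (h3 : (3 : F) = 0) :
    ∃ g : GL (Fin 4) F, g ∈ SUg 4 F q ∧ g ∉ KS9 b ψ q := by
  classical
  obtain ⟨ε, hε⟩ := exists_norm hF (-1 : F) (pow_q_neg_one hF)
  obtain ⟨c, hc0, hc⟩ := exists_c hF
  have hε0 : ε ≠ 0 := by
    intro h
    rw [h, zero_pow (Nat.succ_ne_zero q)] at hε
    exact one_ne_zero (neg_eq_zero.1 hε.symm)
  set u : Fin 4 → F := b 0 + ε • b 1 with hu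
  have hru : ∀ i, b.repr u i = if i = 0 then 1 else if i = 1 then ε else 0 := by
    intro i
    rw [hu]
    simp only [map_add, map_smul, Module.Basis.repr_self, Finsupp.add_apply, Finsupp.smul_apply,
      smul_eq_mul, Finsupp.single_apply]
    fin_cases i <;> simp
  have huu : hermForm 4 F q u u = 0 := by
    rw [herm_coord hF b hb, Fin.sum_univ_four, hru, hru, hru, hru]
    simp
    rw [← pow_succ', hε]
    ring
  obtain ⟨g, hgS, hgx⟩ := exists_tv hF u huu c hc
  refine ⟨g, hgS, ?_⟩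
  rintro ⟨-, h⟩
  have h1 := h (b 0 + b 2)
  have hxu : hermForm 4 F q (b 0 + b 2) u = 1 := by
    have hq0 : q ≠ 0 := by omega
    rw [herm_coord hF b hb, Fin.sum_univ_four, hru, hru, hru, hru]
    simp [hq0]
  rw [hgx, hxu, mul_one] at h1
  have hc1 : 1 + c ≠ 0 := by
    intro h0
    have hcm : c = -1 := by linear_combination h0
    rw [hcm, pow_q_neg_one hF, neg_neg] at hc
    have h2 : (2 : F) = 0 := by linear_combination -hc
    have : (1 : F) = 0 := by linear_combination h3 - h2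
    exact one_ne_zero this
  have e1 : cvec9 b ψ (b 0 + b 2 + c • u) = ![ψ (1 + c), ψ (c * ε), 1, 0] := by
    funext i
    unfold cvec9
    rw [map_add, map_smul, Finsupp.add_apply, Finsupp.smul_apply, hru, smul_eq_mul]
    simp only [map_add, Module.Basis.repr_self, Finsupp.add_apply, Finsupp.single_apply]
    fin_cases i <;> simp
  have e2 : cvec9 b ψ (b 0 + b 2) = ![1, 0, 1, 0] := by
    funext i
    unfold cvec9
    simp only [map_add, Module.Basis.repr_self, Finsupp.add_apply, Finsupp.single_apply]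
    fin_cases i <;> simp
  rw [e1, e2, s9_1010, wt3_false] at h1
  · exact Bool.false_ne_true h1
  · exact fun h0 => hc1 ((map_eq_zero_iff ψ ψ.injective).1 h0)
  · exact fun h0 => mul_ne_zero hc0 hε0 ((map_eq_zero_iff ψ ψ.injective).1 h0)

include hF in
theorem frame_three_not_max (hq3 : q = 3)
    (hD : IsNondegenerateMDecomposition (hermForm 4 F q) 1 D) :
    ∃ K : Subgroup (GL (Fin 4) F),
      decompositionStabilizer D ⊓ SUg 4 F q < K ∧ K < SUg 4 F q := by
  classical
  obtain ⟨b, hmem, hb⟩ := exists_orthonormal_frame hF hD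
  have h9 : Fintype.card F = 9 := by rw [hF, hq3]; norm_num
  obtain ⟨p, j, hp, hchar, hpj⟩ := exists_char_pow hF
  have hp3 : p = 3 := by
    have h1 : p ∣ 3 := by
      have : p ∣ p ^ j := dvd_pow_self p (by
        intro hj0
        rw [hj0, pow_zero] at hpj
        omega)
      rw [← hpj, hq3] at this
      exact this
    exact (Nat.prime_dvd_prime_iff_eq hp Nat.prime_three).1 h1
  subst hp3
  have h3 : (3 : F) = 0 := by
    have := CharP.cast_eq_zero F 3
    exact_mod_cast this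
  set ψ : F ≃+* K9 := FiniteField.ringEquivOfCardEq (h9.trans card_K9.symm) with hψ
  refine ⟨KS9 b ψ q, ?_, ?_⟩
  · refine lt_of_le_of_ne (stab_le_KS9 hF b hb ψ hq3 hD hmem) ?_
    intro heq
    obtain ⟨g, hg1, hg2⟩ := exists_hadamard9 hF b hb ψ hq3 h3 hD hmem
    rw [← heq] at hg1
    exact hg2 hg1.1
  · refine lt_of_le_of_ne (fun g hg => hg.1) ?_
    intro heq
    obtain ⟨g, hg1, hg2⟩ := exists_not_KS9 hF b hb ψ hq3 h3
    rw [← heq] at hg1
    exact hg2 hg1

end frame

end Cfsg.Agent.Lib.Helper3.MaxU
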