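import Mathlib
import Cfsg.Prelude
import Cfsg.Agent.Lib.Helper3.MaxU8
import Cfsg.Agent.Lib.Helper3.MaxC13
import Cfsg.Agent.Lib.Helper5.HermPerp
import Cfsg.Agent.Lib.Helper5.SUPairMax

set_option autoImplicit false
set_option maxHeartbeats 4000000
set_option maxRecDepth 100000
set_option linter.unusedVariables false
set_option linter.unusedSectionVars false
set_option linter.style.haveILetI false
set_option linter.deprecated false

/-! In the four-dimensional unitary space over the field with four or nine elements the stabiliser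
of a pair of complementary totally singular planes is not maximal in the special unitary group: it
preserves an alternating bilinear form up to scalars. -/

namespace Cfsg.Agent.Lib.Helper3.MaxU

open Matrix Cfsg Cfsg.Geo Module
open Cfsg.Agent.Lib.Helper5.Herm Cfsg.Agent.Lib.Helper5.HermPerp
open Cfsg.Agent.Lib.Helper5.LinDecompForm

section pair
variable {F : Type*} [Field F] [Fintype F] {q : ℕ} (hF : Fintype.card F = q ^ 2)
  {D : Fin 2 → Submodule F (Fin 4 → F)}

theorem fin2_cases (i : Fin 2) : i = 0 ∨ i = 1 := by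
  revert i
  decide

include hF in
theorem exists_hyp_basis (hD : IsMDecomposition 2 D)
    (hts : ∀ i, IsTotallySingularFor (hermForm 4 F q) (D i)) :
    ∃ b : Module.Basis (Fin 2 × Fin 2) F (Fin 4 → F), (∀ a, b a ∈ D a.1) ∧
      ∀ a c, hermForm 4 F q (b a) (b c) = if a.1 ≠ c.1 ∧ a.2 = c.2 then 1 else 0 := by
  classical
  obtain ⟨bU, bW, hUW⟩ := Cfsg.Agent.Lib.Helper5.SUPairMax.exists_dual_bases hF hD hts
  let β : ∀ i : Fin 2, Module.Basis (Fin 2) F (D i) := fun i =>
    Fin.cases (motive := fun i => Module.Basis (Fin 2) F (D i)) bU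
      (fun j => Fin.cases (motive := fun j => Module.Basis (Fin 2) F (D j.succ)) bW
        (fun j' => j'.elim0) j) i
  have hβ0 : β 0 = bU := rfl
  have hβ1 : β 1 = bW := rfl
  set b := ((isInternal hD).collectedBasis β).reindex (Equiv.sigmaEquivProd (Fin 2) (Fin 2))
    with hbdef
  have hbv : ∀ i k, b (i, k) = (β i k : Fin 4 → F) := by
    intro i k
    rw [hbdef, Module.Basis.reindex_apply, (isInternal hD).collectedBasis_coe β]
    rfl
  have hmem : ∀ a, b a ∈ D a.1 := by
    rintro ⟨i, k⟩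
    rw [hbv]
    exact (β i k).2
  refine ⟨b, hmem, ?_⟩
  rintro ⟨i, k⟩ ⟨j, l⟩
  rcases fin2_cases i with rfl | rfl <;> rcases fin2_cases j with rfl | rfl
  · rw [if_neg (fun h => h.1 rfl)]
    exact hts 0 _ (hmem (0, k)) _ (hmem (0, l))
  · rw [hbv, hbv, hβ0, hβ1, hUW]
    by_cases hkl : k = l
    · rw [if_pos hkl, if_pos ⟨by simp, hkl⟩]
    · rw [if_neg hkl, if_neg (fun h => hkl h.2)]
  · rw [← hermForm_conj hF, hbv, hbv, hβ0, hβ1, hUW]
    by_cases hkl : l = k
    · rw [if_pos hkl, if_pos ⟨by simp, hkl.symm⟩, one_pow]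
    · rw [if_neg hkl, if_neg (fun h => hkl h.2.symm), zero_pow (q_ne_zero hF)]
  · rw [if_neg (fun h => h.1 rfl)]
    exact hts 1 _ (hmem (1, k)) _ (hmem (1, l))

variable (b : Module.Basis (Fin 2 × Fin 2) F (Fin 4 → F))
  (hb : ∀ a c, hermForm 4 F q (b a) (b c) = if a.1 ≠ c.1 ∧ a.2 = c.2 then 1 else 0)

/-- the index in the other block -/
def sw (a : Fin 2 × Fin 2) : Fin 2 × Fin 2 := (1 - a.1, a.2)

theorem sw_sw (a : Fin 2 × Fin 2) : sw (sw a) = a := by
  obtain ⟨i, k⟩ := a
  rcases fin2_cases i with rfl | rfl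
  · exact Prod.ext (by show (1 : Fin 2) - (1 - 0) = 0; decide) rfl
  · exact Prod.ext (by show (1 : Fin 2) - (1 - 1) = 1; decide) rfl

include hF hb in
theorem herm_basis (x : Fin 4 → F) (a : Fin 2 × Fin 2) :
    hermForm 4 F q x (b a) = b.repr x (sw a) := by
  classical
  conv_lhs => rw [← b.sum_repr x]
  rw [hermForm_sum_left hF]
  simp_rw [hermForm_smul_left, hb]
  rw [Fintype.sum_prod_type, Fin.sum_univ_two, Fin.sum_univ_two, Fin.sum_univ_two]
  obtain ⟨i, k⟩ := a
  rcases fin2_cases i with rfl | rfl <;> rcases fin2_cases k with rfl | rfl <;> simp [sw]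

include hF hb in
theorem herm_coord2 (x y : Fin 4 → F) :
    hermForm 4 F q x y = b.repr x (0, 0) * (b.repr y (1, 0)) ^ q +
      b.repr x (0, 1) * (b.repr y (1, 1)) ^ q + b.repr x (1, 0) * (b.repr y (0, 0)) ^ q +
      b.repr x (1, 1) * (b.repr y (0, 1)) ^ q := by
  classical
  conv_lhs => rw [← b.sum_repr y]
  rw [hermForm_sum_right hF]
  simp_rw [hermForm_smul_right, herm_basis hF b hb]
  rw [Fintype.sum_prod_type, Fin.sum_univ_two, Fin.sum_univ_two, Fin.sum_univ_two]
  simp only [sw]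
  have e0 : (1 : Fin 2) - 0 = 1 := by decide
  have e1 : (1 : Fin 2) - 1 = 0 := by decide
  rw [e0, e1]
  ring

include hF hb in
theorem repr_of_mem_pair (hts : ∀ i, IsTotallySingularFor (hermForm 4 F q) (D i))
    (hmem : ∀ a, b a ∈ D a.1) {x : Fin 4 → F} {j : Fin 2} (hx : x ∈ D j) (a : Fin 2 × Fin 2)
    (ha : a.1 ≠ j) : b.repr x a = 0 := by
  have h1 := herm_basis hF b hb x (sw a)
  rw [sw_sw] at h1
  rw [← h1]
  have h2 : (sw a).1 = j := by
    obtain ⟨i, k⟩ := a
    simp only [sw]
    simp only at ha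
    rcases fin2_cases i with rfl | rfl <;> rcases fin2_cases j with rfl | rfl
    · exact absurd rfl ha
    · decide
    · decide
    · exact absurd rfl ha
  have h3 := hmem (sw a)
  rw [h2] at h3
  exact hts j x hx _ h3

/-- the alternating form adapted to the pair of planes -/
noncomputable def omg (x y : Fin 4 → F) : F :=
  (b.repr x (0, 0) * b.repr y (0, 1) - b.repr x (0, 1) * b.repr y (0, 0)) -
  (b.repr x (1, 0) * b.repr y (1, 1) - b.repr x (1, 1) * b.repr y (1, 0))

include hF in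
theorem sq_one_of_fixed (hq : q = 2 ∨ q = 3) (d : F) (hd0 : d ≠ 0) (hd : d ^ q = d) :
    d * d = 1 := by
  rcases hq with rfl | rfl
  · have h1 : d * (d - 1) = 0 := by linear_combination hd
    rcases mul_eq_zero.1 h1 with h | h
    · exact absurd h hd0
    · have : d = 1 := by linear_combination h
      rw [this, one_mul]
  · have h1 : d * (d * d - 1) = 0 := by linear_combination hd
    rcases mul_eq_zero.1 h1 with h | h
    · exact absurd h hd0
    · linear_combination h

include hF in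
theorem det_rel (hq : q = 2 ∨ q = 3) (A00 A01 A10 A11 B00 B01 B10 B11 : F)
    (E00 : A00 * B00 ^ q + A10 * B10 ^ q = 1) (E01 : A00 * B01 ^ q + A10 * B11 ^ q = 0)
    (E10 : A01 * B00 ^ q + A11 * B10 ^ q = 0) (E11 : A01 * B01 ^ q + A11 * B11 ^ q = 1)
    (hd : (A00 * A11 - A01 * A10) * (B00 * B11 - B01 * B10) = 1) :
    A00 * A11 - A01 * A10 = B00 * B11 - B01 * B10 ∧ B00 * B11 - B01 * B10 ≠ 0 := by
  set dA := A00 * A11 - A01 * A10 with hdA
  set dB := B00 * B11 - B01 * B10 with hdB
  have hB0 : dB ≠ 0 := by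
    intro h
    rw [h, mul_zero] at hd
    exact zero_ne_one hd
  have hconj : dB ^ q = B00 ^ q * B11 ^ q - B01 ^ q * B10 ^ q := by
    rw [hdB, pow_q_sub hF, mul_pow, mul_pow]
  have h1 : dA * dB ^ q = 1 := by
    rw [hconj, hdA]
    linear_combination (A01 * B01 ^ q + A11 * B11 ^ q) * E00 + E11 -
      (A01 * B00 ^ q + A11 * B10 ^ q) * E01
  have h2 : dB ^ q = dB := by
    calc dB ^ q = (dA * dB) * dB ^ q := by rw [hd, one_mul]
      _ = dB * (dA * dB ^ q) := by ring
      _ = dB := by rw [h1, mul_one]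
  have h3 := sq_one_of_fixed hF hq dB hB0 h2
  refine ⟨?_, hB0⟩
  calc dA = dA * (dB * dB) := by rw [h3, mul_one]
    _ = (dA * dB) * dB := by ring
    _ = dB := by rw [hd, one_mul]

include hF hb in
theorem stab_le_sim (hq : q = 2 ∨ q = 3) (hD : IsMDecomposition 2 D)
    (hts : ∀ i, IsTotallySingularFor (hermForm 4 F q) (D i)) (hmem : ∀ a, b a ∈ D a.1) :
    decompositionStabilizer D ⊓ SUg 4 F q ≤ similarityGroup (omg b) := by
  classical
  intro g hg
  obtain ⟨hgD, hgS⟩ := hg
  have hgU : ∀ u v, hermForm 4 F q ((g : Matrix (Fin 4) (Fin 4) F) *ᵥ u)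
      ((g : Matrix (Fin 4) (Fin 4) F) *ᵥ v) = hermForm 4 F q u v := hgS.1
  set M := LinearMap.toMatrix b b (Matrix.toLin' (g : Matrix (Fin 4) (Fin 4) F)) with hM
  have hdet : M.det = 1 := by
    rw [hM, LinearMap.det_toMatrix, LinearMap.det_toLin']
    exact (mem_SL_iff g).1 hgS.2
  have hrepr : ∀ (x : Fin 4 → F) (a : Fin 2 × Fin 2),
      b.repr ((g : Matrix (Fin 4) (Fin 4) F) *ᵥ x) a =
        M a (0, 0) * b.repr x (0, 0) + M a (0, 1) * b.repr x (0, 1) +
          (M a (1, 0) * b.repr x (1, 0) + M a (1, 1) * b.repr x (1, 1)) := by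
    intro x a
    have h1 := LinearMap.toMatrix_mulVec_repr b b
      (Matrix.toLin' (g : Matrix (Fin 4) (Fin 4) F)) x
    rw [Matrix.toLin'_apply] at h1
    have h2 := congrFun h1 a
    rw [← h2, Matrix.mulVec, dotProduct, Fintype.sum_prod_type, Fin.sum_univ_two,
      Fin.sum_univ_two, Fin.sum_univ_two]
  have hcol : ∀ a c, b.repr ((g : Matrix (Fin 4) (Fin 4) F) *ᵥ b c) a = M a c := by
    intro a c
    rw [hM, LinearMap.toMatrix_apply, Matrix.toLin'_apply]
  obtain ⟨σ, hσ⟩ := hgD
  have hmap : ∀ i, ∀ x ∈ D i, (g : Matrix (Fin 4) (Fin 4) F) *ᵥ x ∈ D (σ i) := by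
    intro i x hx
    rw [← hσ i]
    exact ⟨x, hx, by rw [Matrix.toLin'_apply]⟩
  have hMzero : ∀ (i j : Fin 2) (k l : Fin 2), j ≠ σ i → M (j, l) (i, k) = 0 := by
    intro i j k l hj
    rw [← hcol]
    exact repr_of_mem_pair hF b hb hts hmem (hmap i _ (hmem (i, k))) (j, l) hj
  have huni : ∀ c c' : Fin 2 × Fin 2,
      M (0, 0) c * (M (1, 0) c') ^ q + M (0, 1) c * (M (1, 1) c') ^ q +
        M (1, 0) c * (M (0, 0) c') ^ q + M (1, 1) c * (M (0, 1) c') ^ q =
        if c.1 ≠ c'.1 ∧ c.2 = c'.2 then 1 else 0 := by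
    intro c c'
    have h1 := hgU (b c) (b c')
    rw [herm_coord2 hF b hb, hcol, hcol, hcol, hcol, hcol, hcol, hcol, hcol, hb] at h1
    exact h1
  have hfin : ∃ d : F, d ≠ 0 ∧ ∀ x y, omg b ((g : Matrix (Fin 4) (Fin 4) F) *ᵥ x)
      ((g : Matrix (Fin 4) (Fin 4) F) *ᵥ y) = d * omg b x y := by
    by_cases h0 : σ 0 = 0
    · have h1 : σ 1 = 1 := by
        have hne : σ 1 ≠ σ 0 := fun h => by
          have := σ.injective h
          exact absurd this (by decide)
        rw [h0] at hne
        omega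
      have z01 : ∀ k l, M (0, k) (1, l) = 0 := fun k l =>
        hMzero 1 0 l k (by rw [h1]; decide)
      have z10 : ∀ k l, M (1, k) (0, l) = 0 := fun k l =>
        hMzero 0 1 l k (by rw [h0]; decide)
      have hd := MaxC.det_diag_blocks M z01 z10
      rw [hdet] at hd
      have E00 := huni (0, 0) (1, 0)
      have E01 := huni (0, 0) (1, 1)
      have E10 := huni (0, 1) (1, 0)
      have E11 := huni (0, 1) (1, 1)
      rw [if_pos ⟨by decide, rfl⟩] at E00 E11
      rw [if_neg (fun h => absurd h.2 (by decide))] at E01 E10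
      simp only [z10, zero_mul, add_zero] at E00 E01 E10 E11
      obtain ⟨hAB, hB0⟩ := det_rel hF hq _ _ _ _ _ _ _ _ E00 E01 E10 E11 hd.symm
      refine ⟨_, hB0, fun x y => ?_⟩
      unfold omg
      rw [hrepr x, hrepr x, hrepr x, hrepr x, hrepr y, hrepr y, hrepr y, hrepr y]
      simp only [z01, z10, zero_mul, add_zero, zero_add]
      linear_combination (b.repr x (0, 0) * b.repr y (0, 1) -
        b.repr x (0, 1) * b.repr y (0, 0)) * hAB
    · have h0' : σ 0 = 1 := by omega
      have h1 : σ 1 = 0 := by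
        have hne : σ 1 ≠ σ 0 := fun h => by
          have := σ.injective h
          exact absurd this (by decide)
        rw [h0'] at hne
        omega
      have z00 : ∀ k l, M (0, k) (0, l) = 0 := fun k l =>
        hMzero 0 0 l k (by rw [h0']; decide)
      have z11 : ∀ k l, M (1, k) (1, l) = 0 := fun k l =>
        hMzero 1 1 l k (by rw [h1]; decide)
      have hd := MaxC.det_anti_blocks M z00 z11
      rw [hdet] at hd
      have E00 := huni (0, 0) (1, 0)
      have E01 := huni (0, 0) (1, 1)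
      have E10 := huni (0, 1) (1, 0)
      have E11 := huni (0, 1) (1, 1)
      rw [if_pos ⟨by decide, rfl⟩] at E00 E11
      rw [if_neg (fun h => absurd h.2 (by decide))] at E01 E10
      simp only [z00, zero_mul, zero_add] at E00 E01 E10 E11
      have hd' : (M (1, 0) (0, 0) * M (1, 1) (0, 1) - M (1, 0) (0, 1) * M (1, 1) (0, 0)) *
          (M (0, 0) (1, 0) * M (0, 1) (1, 1) - M (0, 0) (1, 1) * M (0, 1) (1, 0)) = 1 := by
        rw [mul_comm]
        exact hd.symm
      obtain ⟨hCB, hB0⟩ := det_rel hF hq _ _ _ _ _ _ _ _ E00 E01 E10 E11 hd'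
      refine ⟨-(M (0, 0) (1, 0) * M (0, 1) (1, 1) - M (0, 0) (1, 1) * M (0, 1) (1, 0)),
        neg_ne_zero.2 hB0, fun x y => ?_⟩
      unfold omg
      rw [hrepr x, hrepr x, hrepr x, hrepr x, hrepr y, hrepr y, hrepr y, hrepr y]
      simp only [z00, z11, zero_mul, add_zero, zero_add]
      linear_combination (-(b.repr x (0, 0) * b.repr y (0, 1) -
        b.repr x (0, 1) * b.repr y (0, 0))) * hCB
  obtain ⟨d, hd0, hd⟩ := hfin
  exact ⟨Units.mk0 d hd0, fun u v => by rw [Units.val_mk0]; exact hd u v⟩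

include hF hb in
/-- a transvection preserving the alternating form and moving the two planes -/
theorem exists_sim_not_stab (hts : ∀ i, IsTotallySingularFor (hermForm 4 F q) (D i))
    (hmem : ∀ a, b a ∈ D a.1) :
    ∃ g : GL (Fin 4) F, g ∈ similarityGroup (omg b) ⊓ SUg 4 F q ∧
      g ∉ decompositionStabilizer D := by
  classical
  obtain ⟨c, hc0, hc⟩ := exists_c hF
  have hq0 : q ≠ 0 := q_ne_zero hF
  set u : Fin 4 → F := b (0, 0) - b (1, 1) with hu
  have hru : ∀ a, b.repr u a = if a = (0, 0) then 1 else if a = (1, 1) then -1 else 0 := by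
    intro a
    rw [hu]
    simp only [map_sub, Module.Basis.repr_self, Finsupp.sub_apply, Finsupp.single_apply]
    obtain ⟨i, k⟩ := a
    rcases fin2_cases i with rfl | rfl <;> rcases fin2_cases k with rfl | rfl <;> simp
  have hxu : ∀ x, hermForm 4 F q x u = b.repr x (1, 0) - b.repr x (0, 1) := by
    intro x
    rw [herm_coord2 hF b hb, hru, hru, hru, hru]
    simp [hq0, pow_q_neg_one hF]
    ring
  have huu : hermForm 4 F q u u = 0 := by
    rw [hxu, hru, hru]
    simp
  obtain ⟨g, hgS, hgx⟩ := exists_tv hF u huu c hc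
  have hT : ∀ x a, b.repr ((g : Matrix (Fin 4) (Fin 4) F) *ᵥ x) a =
      b.repr x a + c * (b.repr x (1, 0) - b.repr x (0, 1)) * b.repr u a := by
    intro x a
    rw [hgx, hxu]
    simp only [map_add, map_smul, Finsupp.add_apply, Finsupp.smul_apply, smul_eq_mul]
  refine ⟨g, ⟨⟨1, fun x y => ?_⟩, hgS⟩, ?_⟩
  · unfold omg
    rw [hT x, hT x, hT x, hT x, hT y, hT y, hT y, hT y, hru, hru, hru, hru]
    simp
    ring
  · intro hstab
    obtain ⟨j, hj⟩ := stab_map_mem g hstab (hmem (0, 1))
    have h0 : b.repr ((g : Matrix (Fin 4) (Fin 4) F) *ᵥ b (0, 1)) (0, 1) = 1 := by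
      rw [hT, hru]
      simp
    have h1 : b.repr ((g : Matrix (Fin 4) (Fin 4) F) *ᵥ b (0, 1)) (1, 1) = c := by
      rw [hT, hru]
      simp
    rcases fin2_cases j with rfl | rfl
    · have := repr_of_mem_pair hF b hb hts hmem hj (1, 1) (by decide)
      rw [h1] at this
      exact hc0 this
    · have := repr_of_mem_pair hF b hb hts hmem hj (0, 1) (by decide)
      rw [h0] at this
      exact one_ne_zero this

include hF hb in
/-- a transvection not preserving the alternating form up to scalars -/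
theorem exists_not_sim :
    ∃ g : GL (Fin 4) F, g ∈ SUg 4 F q ∧ g ∉ similarityGroup (omg b) := by
  classical
  obtain ⟨c, hc0, hc⟩ := exists_c hF
  have hq0 : q ≠ 0 := q_ne_zero hF
  set u : Fin 4 → F := b (0, 0) with hu
  have hru : ∀ a, b.repr u a = if a = (0, 0) then 1 else 0 := by
    intro a
    rw [hu, Module.Basis.repr_self, Finsupp.single_apply]
    by_cases h : a = (0, 0)
    · rw [if_pos h, if_pos h.symm]
    · rw [if_neg h, if_neg (fun h' => h h'.symm)]
  have hxu : ∀ x, hermForm 4 F q x u = b.repr x (1, 0) := by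
    intro x
    rw [herm_coord2 hF b hb, hru, hru, hru, hru]
    simp [hq0]
  have huu : hermForm 4 F q u u = 0 := by
    rw [hxu, hru]
    simp
  obtain ⟨g, hgS, hgx⟩ := exists_tv hF u huu c hc
  have hT : ∀ x a, b.repr ((g : Matrix (Fin 4) (Fin 4) F) *ᵥ x) a =
      b.repr x a + c * b.repr x (1, 0) * b.repr u a := by
    intro x a
    rw [hgx, hxu]
    simp only [map_add, map_smul, Finsupp.add_apply, Finsupp.smul_apply, smul_eq_mul]
  refine ⟨g, hgS, ?_⟩
  rintro ⟨d, hd⟩
  have h1 := hd (b (0, 0)) (b (0, 1))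
  have h2 := hd (b (1, 0)) (b (0, 1))
  unfold omg at h1 h2
  simp only [hT, hru, Module.Basis.repr_self, Finsupp.single_apply] at h1 h2
  simp at h1 h2
  exact hc0 h2

include hF in
theorem ts_pair_small_not_max (hq : q = 2 ∨ q = 3) (hD : IsMDecomposition 2 D)
    (hts : ∀ i, IsTotallySingularFor (hermForm 4 F q) (D i)) :
    ∃ K : Subgroup (GL (Fin 4) F),
      decompositionStabilizer D ⊓ SUg 4 F q < K ∧ K < SUg 4 F q := by
  classical
  obtain ⟨b, hmem, hb⟩ := exists_hyp_basis hF hD hts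
  refine ⟨similarityGroup (omg b) ⊓ SUg 4 F q, ?_, ?_⟩
  · refine lt_of_le_of_ne (le_inf (stab_le_sim hF b hb hq hD hts hmem) inf_le_right) ?_
    intro heq
    obtain ⟨g, hg1, hg2⟩ := exists_sim_not_stab hF b hb hts hmem
    rw [← heq] at hg1
    exact hg2 hg1.1
  · refine lt_of_le_of_ne inf_le_right ?_
    intro heq
    obtain ⟨g, hg1, hg2⟩ := exists_not_sim hF b hb
    rw [← heq] at hg1
    exact hg2 hg1.1

end pair

end Cfsg.Agent.Lib.Helper3.MaxU
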