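import Mathlib
import Cfsg.Prelude
import Cfsg.Agent.Lib.Helper3.MaxU8
import Cfsg.Agent.Lib.Helper3.MaxU9
import Cfsg.Agent.Lib.Helper3.MaxU12
import Cfsg.Agent.Lib.Helper3.MaxU13
import Cfsg.Agent.Lib.Helper3.MaxC8

set_option autoImplicit false
set_option maxHeartbeats 4000000
set_option maxRecDepth 100000
set_option linter.unusedVariables false
set_option linter.unusedSectionVars false
set_option linter.style.haveILetI false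
set_option linter.deprecated false

/-! The maximal subgroups of the special unitary group in dimension 4. -/

namespace Cfsg.Agent.Lib.Helper3.MaxU

open Matrix Cfsg Cfsg.Geo Module

theorem row4 {F : Type*} [Field F] [Fintype F] (q : ℕ) (hF : Fintype.card F = q ^ 2) (H : Subgroup (Matrix.GeneralLinearGroup (Fin 4) F)) (hH : Cfsg.Geo.IsMaximalIn (Cfsg.GU 4 F q ⊓ Cfsg.Geo.specialLinear (Fin 4) F) H)
    (hA : (∃ M : Subgroup (Matrix.GeneralLinearGroup (Fin 4) F), Cfsg.Geo.InUnitaryClass 4 F q M ∧ H ≤ M) ∨ Cfsg.Geo.InUnitaryResidualClass H) :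
    (∃ W : Submodule F (Fin 4 → F), W ≠ ⊥ ∧ Cfsg.Geo.IsTotallySingularFor (Cfsg.hermForm 4 F q) W ∧ H = Cfsg.Geo.subspaceStabilizer W ⊓ (Cfsg.GU 4 F q ⊓ Cfsg.Geo.specialLinear (Fin 4) F)) ∨
    (∃ W : Submodule F (Fin 4 → F), W ≠ ⊥ ∧ Cfsg.Geo.IsNondegenerateOn (Cfsg.hermForm 4 F q) W ∧ 2 * Module.finrank F W < 4 ∧ H = Cfsg.Geo.subspaceStabilizer W ⊓ (Cfsg.GU 4 F q ⊓ Cfsg.Geo.specialLinear (Fin 4) F)) ∨
    (q ≠ 3 ∧ ∃ D : Fin 4 → Submodule F (Fin 4 → F), Cfsg.Geo.IsNondegenerateMDecomposition (Cfsg.hermForm 4 F q) 1 D ∧ H = Cfsg.Geo.decompositionStabilizer D ⊓ (Cfsg.GU 4 F q ⊓ Cfsg.Geo.specialLinear (Fin 4) F)) ∨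
    (3 ≤ q ∧ ∃ D : Fin 2 → Submodule F (Fin 4 → F), Cfsg.Geo.IsNondegenerateMDecomposition (Cfsg.hermForm 4 F q) 2 D ∧ H = Cfsg.Geo.decompositionStabilizer D ⊓ (Cfsg.GU 4 F q ⊓ Cfsg.Geo.specialLinear (Fin 4) F)) ∨
    (4 ≤ q ∧ ∃ D : Fin 2 → Submodule F (Fin 4 → F), Cfsg.Geo.IsMDecomposition 2 D ∧ (∀ i, Cfsg.Geo.IsTotallySingularFor (Cfsg.hermForm 4 F q) (D i)) ∧ H = Cfsg.Geo.decompositionStabilizer D ⊓ (Cfsg.GU 4 F q ⊓ Cfsg.Geo.specialLinear (Fin 4) F)) ∨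
    (∃ (F₀ : Subfield F) (r : ℕ) (P : Matrix.GeneralLinearGroup (Fin 4) F), r.Prime ∧ Odd r ∧ Fintype.card F = Nat.card F₀ ^ r ∧ Cfsg.Geo.IsFormRationalStructure (Cfsg.hermForm 4 F q) F₀ 1 P ∧ H = Cfsg.Geo.subfieldSubgroup F₀ P ⊓ (Cfsg.GU 4 F q ⊓ Cfsg.Geo.specialLinear (Fin 4) F)) ∨
    (∃ (F₀ : Subfield F) (P : Matrix.GeneralLinearGroup (Fin 4) F) (ζ : F), Fintype.card F = Nat.card F₀ ^ 2 ∧ ζ ≠ 0 ∧ ζ + ζ ^ q = 0 ∧ Cfsg.Geo.IsFormRationalStructure (Cfsg.hermForm 4 F q) F₀ ζ P ∧ (∀ u : Fin 4 → F, (∀ i, u i ∈ F₀) → (Cfsg.hermForm 4 F q) (Matrix.mulVec (P : Matrix (Fin 4) (Fin 4) F) u) (Matrix.mulVec (P : Matrix (Fin 4) (Fin 4) F) u) = 0) ∧ H = Cfsg.Geo.subfieldSubgroup F₀ P ⊓ (Cfsg.GU 4 F q ⊓ Cfsg.Geo.specialLinear (Fin 4) F)) ∨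
    (Odd q ∧ ∃ (F₀ : Subfield F) (P : Matrix.GeneralLinearGroup (Fin 4) F), Fintype.card F = Nat.card F₀ ^ 2 ∧ Cfsg.Geo.IsFormRationalStructure (Cfsg.hermForm 4 F q) F₀ 1 P ∧ H = Cfsg.Geo.subfieldSubgroup F₀ P ⊓ (Cfsg.GU 4 F q ⊓ Cfsg.Geo.specialLinear (Fin 4) F)) ∨
    (∃ (p : ℕ) (R : Subgroup (Matrix.GeneralLinearGroup (Fin 4) F)), p.Prime ∧ q = p ∧ p % 4 = 3 ∧ Cfsg.Geo.IsSymplecticTypeGroup 2 R ∧ Cfsg.Geo.ActsAbsolutelyIrreducibly (Cfsg.Geo.matrixSet R) ∧ R ≤ Cfsg.Geo.similarityGroup (Cfsg.hermForm 4 F q) ∧ Nat.card R = 64 ∧ Nat.card (Subgroup.center R) = 4 ∧ H = Cfsg.Geo.subgroupNormalizer R ⊓ (Cfsg.GU 4 F q ⊓ Cfsg.Geo.specialLinear (Fin 4) F)) ∨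
    Cfsg.Geo.InUnitaryResidualClass H := by
  classical
  have hq1 : 1 < q := one_lt_q hF
  have hnotmax : ∀ K : Subgroup (Matrix.GeneralLinearGroup (Fin 4) F),
      H < K → K < SUg 4 F q → False := by
    intro K h1 h2
    rcases hH.2 K h1.le h2.le with h | h
    · exact absurd h (ne_of_gt h1)
    · exact absurd h (ne_of_lt h2)
  rcases cases_of_max hF (by norm_num) H hH hA with
    ⟨W, h0, hts, hW⟩ | ⟨W, h0, hnd, hlt, hW⟩ | ⟨t, k, D, hD, htk, hs, hHD⟩ |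
    ⟨k, D, h2k, hD, hts, hHD⟩ | ⟨F₀, r, P, hr, hodd, hcard, hrat, hHS⟩ |
    ⟨F₀, P, hodd, hcard, hrat, hHS⟩ | ⟨F₀, P, ζ, hev, hcard, hζ0, hζ, hrat, hiso, hHS⟩ |
    ⟨r, R, p, e, k, hR, hirr, hsim, hrp, ⟨hnk, hp, hchar, hcase⟩, hHR⟩ |
    ⟨r, K, hr, hodd, hrn, hK, hadj, hHK⟩ |
    ⟨n₁, n₂, e, P, f₁, f₂, h1, h2, h12, hs, hf₁, hf₂, hT, hHT⟩ |
    ⟨k, t, e, P, f₁, hk, ht, hkt, hqk, hf₁, hT, hHle, hHW⟩ | hres
  · exact Or.inl ⟨W, h0, hts, hW⟩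
  · exact Or.inr (Or.inl ⟨W, h0, hnd, hlt, hW⟩)
  · rcases fac4 hD.decomp.two_le hD.decomp.pos htk with ⟨rfl, rfl⟩ | ⟨rfl, rfl⟩
    ·
      iterate 2 right
      left
      refine ⟨?_, D, hD, hHD⟩
      intro hq3
      obtain ⟨K, hK1, hK2⟩ := frame_three_not_max hF hq3 hD
      rw [← hHD] at hK1
      exact hnotmax K hK1 hK2
    ·
      iterate 3 right
      left
      exact ⟨by omega, D, hD, hHD⟩
  · have hk2 : k = 2 := by omega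
    subst hk2
    iterate 4 right
    left
    refine ⟨?_, D, hD, hts, hHD⟩
    by_contra hcon
    have hq23 : q = 2 ∨ q = 3 := by omega
    obtain ⟨K, hK1, hK2⟩ := ts_pair_small_not_max hF hq23 hD hts
    rw [← hHD] at hK1
    exact hnotmax K hK1 hK2
  ·
    iterate 5 right
    left
    exact ⟨F₀, r, P, hr, hodd, hcard, hrat, hHS⟩
  ·
    iterate 7 right
    left
    exact ⟨hodd, F₀, P, hcard, hrat, hHS⟩
  ·
    iterate 6 right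
    left
    exact ⟨F₀, P, ζ, hcard, hζ0, hζ, hrat, hiso, hHS⟩
  · have hr2 : r = 2 := by
      have h2 : (2 : ℕ) ∣ r ^ k := by
        rw [← hnk]
        norm_num
      exact (MaxC.prime_eq_of_dvd_pow hR.prime (by norm_num) h2).symm
    subst hr2
    have hk2 : k = 2 := by
      have h1 : 2 ^ 2 = 2 ^ k := by omega
      exact (Nat.pow_right_injective (le_refl 2) h1).symm
    subst hk2
    rcases hcase with ⟨hodd, -⟩ | ⟨-, hqp, hp4, hZ, hRc⟩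
    · exfalso
      rcases hodd with ⟨j, hj⟩
      omega
    ·
      iterate 8 right
      left
      exact ⟨p, R, hp, hqp, hp4, hR, hirr, hsim, hRc.trans (by norm_num), hZ, hHR⟩
  · exfalso
    have hr2 : r = 2 := by
      have h4 : (4 : ℕ) = 2 ^ 2 := by norm_num
      rw [h4] at hrn
      exact MaxC.prime_eq_of_dvd_pow (by norm_num) hr hrn
    subst hr2
    rcases hodd with ⟨j, hj⟩
    omega
  · exact (ten4 h1 h2 h12).elim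
  · exfalso
    have h9 := MaxC.nine_le_pow hk ht
    omega
  · iterate 9 right
    exact hres

end Cfsg.Agent.Lib.Helper3.MaxU
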