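import Mathlib
import Cfsg.Agent.Lib.Helper3.MinDegDefs
import Cfsg.Agent.Lib.Helper4.SLnGen
set_option autoImplicit false
set_option maxHeartbeats 4000000
set_option linter.unusedVariables false
set_option linter.unusedSectionVars false
set_option linter.style.longLine false
open Matrix

/-! # S2140 farm, unit E1: transvection calculus -/

namespace Cfsg.Agent.Lib.Helper3.MinDeg

variable {F : Type*} [Field F] {ι : Type*} [DecidableEq ι] [Fintype ι]

theorem tv_of_ne {v φ : ι → F} (h : ¬ φ ⬝ᵥ v = 0) :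
    (tv v φ : Matrix.SpecialLinearGroup ι F) = 1 := by
  unfold tv; exact dif_neg h

theorem tv_zero_right (v : ι → F) : (tv v 0 : Matrix.SpecialLinearGroup ι F) = 1 := by
  have h0 : (0 : ι → F) ⬝ᵥ v = 0 := zero_dotProduct v
  apply sl_ext
  rw [tv_coe h0, Matrix.SpecialLinearGroup.coe_one]
  ext i j; simp [vecMulVec_apply]

theorem tv_zero_left (φ : ι → F) : (tv 0 φ : Matrix.SpecialLinearGroup ι F) = 1 := by
  have h0 : φ ⬝ᵥ (0 : ι → F) = 0 := dotProduct_zero φ
  apply sl_ext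
  rw [tv_coe h0, Matrix.SpecialLinearGroup.coe_one]
  ext i j; simp [vecMulVec_apply]

theorem tv_mul_tv {v φ ψ : ι → F} (hφ : φ ⬝ᵥ v = 0) (hψ : ψ ⬝ᵥ v = 0) :
    (tv v φ * tv v ψ : Matrix.SpecialLinearGroup ι F) = tv v (φ + ψ) := by
  have hs : (φ + ψ) ⬝ᵥ v = 0 := by rw [add_dotProduct, hφ, hψ, add_zero]
  apply sl_ext
  rw [Matrix.SpecialLinearGroup.coe_mul, tv_coe hφ, tv_coe hψ, tv_coe hs]
  rw [add_mul, mul_add, mul_add, vecMulVec_mul_vecMulVec, hφ]
  ext i j
  simp [vecMulVec_apply, Matrix.add_apply]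
  ring

theorem tv_inv {v φ : ι → F} (hφ : φ ⬝ᵥ v = 0) :
    (tv v φ : Matrix.SpecialLinearGroup ι F)⁻¹ = tv v (-φ) := by
  have hn : (-φ) ⬝ᵥ v = 0 := by rw [neg_dotProduct, hφ, neg_zero]
  rw [inv_eq_iff_mul_eq_one, tv_mul_tv hφ hn, add_neg_cancel, tv_zero_right]

theorem tv_smul_left (c : F) (v φ : ι → F) :
    (tv (c • v) φ : Matrix.SpecialLinearGroup ι F) = tv v (c • φ) := by
  have e : φ ⬝ᵥ (c • v) = (c • φ) ⬝ᵥ v := by rw [dotProduct_smul, smul_dotProduct]
  by_cases h : φ ⬝ᵥ (c • v) = 0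
  · have h' : (c • φ) ⬝ᵥ v = 0 := e ▸ h
    apply sl_ext
    rw [tv_coe h, tv_coe h']
    ext i j
    simp [vecMulVec_apply, Matrix.add_apply]
  · have h' : ¬ (c • φ) ⬝ᵥ v = 0 := e ▸ h
    rw [tv_of_ne h, tv_of_ne h']

theorem tv_conj (g : Matrix.SpecialLinearGroup ι F) {v φ : ι → F} (hφ : φ ⬝ᵥ v = 0) :
    g * tv v φ * g⁻¹ = tv ((g : Matrix ι ι F) *ᵥ v)
      (φ ᵥ* ((g⁻¹ : Matrix.SpecialLinearGroup ι F) : Matrix ι ι F)) := by
  have hgg : ((g⁻¹ : Matrix.SpecialLinearGroup ι F) : Matrix ι ι F) * (g : Matrix ι ι F) = 1 := by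
    rw [← Matrix.SpecialLinearGroup.coe_mul, inv_mul_cancel, Matrix.SpecialLinearGroup.coe_one]
  have hgg' : (g : Matrix ι ι F) * ((g⁻¹ : Matrix.SpecialLinearGroup ι F) : Matrix ι ι F) = 1 := by
    rw [← Matrix.SpecialLinearGroup.coe_mul, mul_inv_cancel, Matrix.SpecialLinearGroup.coe_one]
  have h' : (φ ᵥ* ((g⁻¹ : Matrix.SpecialLinearGroup ι F) : Matrix ι ι F)) ⬝ᵥ
      ((g : Matrix ι ι F) *ᵥ v) = 0 := by
    rw [dotProduct_mulVec, vecMul_vecMul, hgg, vecMul_one, hφ]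
  apply sl_ext
  rw [Matrix.SpecialLinearGroup.coe_mul, Matrix.SpecialLinearGroup.coe_mul, tv_coe hφ, tv_coe h']
  rw [mul_add, add_mul, mul_one, hgg', mul_vecMulVec, vecMulVec_mul]

/-- commutator: if `φ ⬝ᵥ u = 0` then `[tv v φ, tv u ψ] = tv u (-(ψ ⬝ᵥ v) • φ)` -/
theorem tv_comm {v φ u ψ : ι → F} (hφ : φ ⬝ᵥ v = 0) (hψ : ψ ⬝ᵥ u = 0) (hφu : φ ⬝ᵥ u = 0) :
    (tv v φ * tv u ψ * (tv v φ)⁻¹ * (tv u ψ)⁻¹ : Matrix.SpecialLinearGroup ι F) =
      tv u (-(ψ ⬝ᵥ v) • φ) := by
  have hn1 : (-φ) ⬝ᵥ v = 0 := by rw [neg_dotProduct, hφ, neg_zero]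
  have hn2 : (-ψ) ⬝ᵥ u = 0 := by rw [neg_dotProduct, hψ, neg_zero]
  have h3 : (-(ψ ⬝ᵥ v) • φ) ⬝ᵥ u = 0 := by rw [smul_dotProduct, hφu, smul_zero]
  rw [tv_inv hφ, tv_inv hψ]
  apply sl_ext
  rw [Matrix.SpecialLinearGroup.coe_mul, Matrix.SpecialLinearGroup.coe_mul,
    Matrix.SpecialLinearGroup.coe_mul, tv_coe hφ, tv_coe hψ, tv_coe hn1, tv_coe hn2, tv_coe h3]
  -- A = v φᵀ, B = u ψᵀ ; AB = 0, A² = 0, B² = 0, BA = (ψ·v) u φᵀ
  have hAB : vecMulVec v φ * vecMulVec u ψ = 0 := by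
    rw [vecMulVec_mul_vecMulVec, hφu, zero_smul]; ext i j; simp [vecMulVec_apply]
  have hAA : vecMulVec v φ * vecMulVec v φ = 0 := by
    rw [vecMulVec_mul_vecMulVec, hφ, zero_smul]; ext i j; simp [vecMulVec_apply]
  have hBB : vecMulVec u ψ * vecMulVec u ψ = 0 := by
    rw [vecMulVec_mul_vecMulVec, hψ, zero_smul]; ext i j; simp [vecMulVec_apply]
  have hBA : vecMulVec u ψ * vecMulVec v φ = vecMulVec u ((ψ ⬝ᵥ v) • φ) := by
    rw [vecMulVec_mul_vecMulVec]
  have hnA : vecMulVec v (-φ) = - vecMulVec v φ := by ext i j; simp [vecMulVec_apply]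
  have hnB : vecMulVec u (-ψ) = - vecMulVec u ψ := by ext i j; simp [vecMulVec_apply]
  have hR : vecMulVec u (-(ψ ⬝ᵥ v) • φ) = - (vecMulVec u ψ * vecMulVec v φ) := by
    rw [hBA]; ext i j; simp [vecMulVec_apply]; ring
  rw [hnA, hnB, hR]
  set A := vecMulVec v φ with hA
  set B := vecMulVec u ψ with hB
  have e1 : (1 + A) * (1 + B) = 1 + A + B := by
    rw [add_mul, mul_add, mul_add, one_mul, one_mul, mul_one, hAB]; abel
  have e2 : (1 + A + B) * (1 + -A) = 1 + B - B * A := by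
    simp only [add_mul, mul_add, mul_neg, one_mul, mul_one, hAA]
    abel
  have e3 : (1 + B - B * A) * (1 + -B) = 1 + -(B * A) := by
    simp only [add_mul, sub_mul, mul_add, mul_neg, one_mul, mul_one, hBB, Matrix.mul_assoc, hAB,
      mul_zero]
    abel
  rw [e1, e2, e3]

theorem vecMulVec_eq_zero_iff (v φ : ι → F) : vecMulVec v φ = 0 ↔ v = 0 ∨ φ = 0 := by
  constructor
  · intro h
    by_contra hc
    push Not at hc
    obtain ⟨hv, hφ⟩ := hc
    obtain ⟨i, hi⟩ := Function.ne_iff.1 hv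
    obtain ⟨j, hj⟩ := Function.ne_iff.1 hφ
    have := congrFun (congrFun h i) j
    simp only [vecMulVec_apply, Matrix.zero_apply, mul_eq_zero] at this
    rcases this with h1 | h1
    · exact hi h1
    · exact hj h1
  · rintro (h | h) <;> · subst h; ext i j; simp [vecMulVec_apply]

theorem tv_eq_one_iff {v φ : ι → F} (hφ : φ ⬝ᵥ v = 0) :
    (tv v φ : Matrix.SpecialLinearGroup ι F) = 1 ↔ v = 0 ∨ φ = 0 := by
  rw [← vecMulVec_eq_zero_iff]
  constructor
  · intro h
    have h' := congrArg (fun g : Matrix.SpecialLinearGroup ι F => (g : Matrix ι ι F)) h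
    simp only [tv_coe hφ, Matrix.SpecialLinearGroup.coe_one] at h'
    simpa using h'
  · intro h
    apply sl_ext
    rw [tv_coe hφ, h, add_zero, Matrix.SpecialLinearGroup.coe_one]

theorem tv_inj {v φ ψ : ι → F} (hv : v ≠ 0) (hφ : φ ⬝ᵥ v = 0) (hψ : ψ ⬝ᵥ v = 0)
    (h : (tv v φ : Matrix.SpecialLinearGroup ι F) = tv v ψ) : φ = ψ := by
  have h' := congrArg (fun g : Matrix.SpecialLinearGroup ι F => (g : Matrix ι ι F)) h
  simp only [tv_coe hφ, tv_coe hψ] at h'
  have h2 : vecMulVec v φ = vecMulVec v ψ := add_left_cancel h'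
  obtain ⟨i, hi⟩ := Function.ne_iff.1 hv
  funext j
  have := congrFun (congrFun h2 i) j
  simp only [vecMulVec_apply] at this
  exact mul_left_cancel₀ hi this

/-- an elementary transvection is a `tv` -/
theorem transvection_eq_tv {i j : ι} (hij : i ≠ j) (c : F) :
    (Matrix.SpecialLinearGroup.transvection hij c : Matrix.SpecialLinearGroup ι F) =
      tv (Pi.single i c) (Pi.single j 1) := by
  have h0 : (Pi.single j (1 : F) : ι → F) ⬝ᵥ (Pi.single i c : ι → F) = 0 := by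
    rw [single_dotProduct, one_mul, Pi.single_apply, if_neg (Ne.symm hij)]
  apply sl_ext
  rw [tv_coe h0]
  ext a b
  simp only [Matrix.SpecialLinearGroup.transvection_coe, Matrix.transvection, Matrix.add_apply,
    vecMulVec_apply, Matrix.single_apply, Pi.single_apply]
  by_cases ha : a = i
  · by_cases hb : b = j
    · subst ha; subst hb; simp
    · subst ha
      have h2 : ¬ j = b := fun h => hb h.symm
      simp [hb, h2]
  · by_cases hb : b = j
    · subst hb
      have h1 : ¬ i = a := fun h => ha h.symm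
      simp [ha, h1]
    · have h1 : ¬ i = a := fun h => ha h.symm
      have h2 : ¬ j = b := fun h => hb h.symm
      simp [ha, hb, h1, h2]

/-- generation by transvections -/
theorem closure_tv_eq_top :
    Subgroup.closure {x : Matrix.SpecialLinearGroup ι F |
      ∃ v φ : ι → F, φ ⬝ᵥ v = 0 ∧ x = tv v φ} = ⊤ := by
  rcases subsingleton_or_nontrivial ι with hι | hι
  · rw [eq_top_iff]
    intro A _
    have : A = 1 := by
      apply sl_ext
      have hd := A.det_coe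
      ext a b
      have hab : a = b := Subsingleton.elim a b
      subst hab
      rw [Matrix.SpecialLinearGroup.coe_one, Matrix.one_apply_eq]
      rcases isEmpty_or_nonempty ι with he | he
      · exact (he.false a).elim
      · haveI : Unique ι := ⟨⟨a⟩, fun x => Subsingleton.elim x a⟩
        rw [Matrix.det_unique] at hd
        have : (default : ι) = a := Subsingleton.elim _ _
        rw [this] at hd
        exact hd
    rw [this]; exact Subgroup.one_mem _
  · rw [eq_top_iff]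
    intro A _
    refine Cfsg.Agent.Lib.Helper4.transvection_induction_gen
      (fun M => M ∈ Subgroup.closure {x : Matrix.SpecialLinearGroup ι F |
        ∃ v φ : ι → F, φ ⬝ᵥ v = 0 ∧ x = tv v φ}) (fun i j hij c => ?_)
      (fun _ _ hA hB => Subgroup.mul_mem _ hA hB) A
    apply Subgroup.subset_closure
    refine ⟨Pi.single i c, Pi.single j 1, ?_, transvection_eq_tv hij c⟩
    rw [single_dotProduct, one_mul, Pi.single_apply, if_neg (Ne.symm hij)]

end Cfsg.Agent.Lib.Helper3.MinDeg
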