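import Mathlib
import Cfsg.Agent.Lib.Helper3.MinDegDefs
import Cfsg.Agent.Lib.Helper3.MinDegTv
set_option autoImplicit false
set_option maxHeartbeats 4000000
set_option linter.unusedVariables false
set_option linter.unusedSectionVars false
set_option linter.unusedSimpArgs false
set_option linter.style.longLine false
open Matrix

/-! # S2140 farm, unit E2: block coordinates vs transvections, transitivity on nonzero vectors -/

namespace Cfsg.Agent.Lib.Helper3.MinDeg

variable {F : Type*} [Field F]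

section general
variable {ι : Type*} [DecidableEq ι] [Fintype ι]

theorem vecMulVec_mulVec' (v φ x : ι → F) : vecMulVec v φ *ᵥ x = (φ ⬝ᵥ x) • v := by
  ext i; simp [mulVec, vecMulVec_apply, dotProduct, Finset.mul_sum, mul_comm, mul_left_comm]

theorem tv_mulVec {v φ : ι → F} (h : φ ⬝ᵥ v = 0) (x : ι → F) :
    ((tv v φ : Matrix.SpecialLinearGroup ι F) : Matrix ι ι F) *ᵥ x = x + (φ ⬝ᵥ x) • v := by
  rw [tv_coe h, add_mulVec, one_mulVec, vecMulVec_mulVec']

/-- every linear functional on `ι → F` is a dot product -/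
theorem dual_eq_dotProduct (f : Module.Dual F (ι → F)) :
    ∃ φ : ι → F, ∀ x, f x = φ ⬝ᵥ x := by
  refine ⟨fun i => f (fun j => if i = j then 1 else 0), fun x => ?_⟩
  rw [LinearMap.pi_apply_eq_sum_univ f x]
  simp [dotProduct, mul_comm]

/-- if `y ∉ span {x}` (so in particular they are independent when `x ≠ 0`) and `x ≠ 0`,
a single transvection maps `x` to `y`. -/
theorem exists_tv_mulVec_eq {x y : ι → F} (hx : x ≠ 0) (hxy : y ∉ Submodule.span F {x}) :
    ∃ A : Matrix.SpecialLinearGroup ι F, (A : Matrix ι ι F) *ᵥ x = y := by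
  have hx' : x ∉ Submodule.span F {y - x} := by
    intro h
    obtain ⟨c, hc⟩ := Submodule.mem_span_singleton.1 h
    by_cases hc0 : c = 0
    · rw [hc0, zero_smul] at hc; exact hx hc.symm
    · apply hxy
      refine Submodule.mem_span_singleton.2 ⟨c⁻¹ * (1 + c), ?_⟩
      have : c • y = (1 + c) • x := by
        rw [smul_sub] at hc
        rw [add_smul, one_smul]; exact sub_eq_iff_eq_add.1 hc
      rw [mul_smul, ← this, smul_smul, inv_mul_cancel₀ hc0, one_smul]
  obtain ⟨f, hfx, hf⟩ := Submodule.exists_dual_map_eq_bot_of_notMem hx' inferInstance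
  obtain ⟨φ, hφ⟩ := dual_eq_dotProduct f
  have hfz : f (y - x) = 0 := by
    have : f (y - x) ∈ Submodule.map f (Submodule.span F {y - x}) :=
      Submodule.mem_map_of_mem (Submodule.mem_span_singleton_self _)
    rw [hf] at this
    simpa using this
  -- ψ := (f x)⁻¹ • φ
  have h1 : ((f x)⁻¹ • φ) ⬝ᵥ (y - x) = 0 := by
    rw [smul_dotProduct, ← hφ, hfz, smul_zero]
  have h2 : ((f x)⁻¹ • φ) ⬝ᵥ x = 1 := by
    rw [smul_dotProduct, ← hφ, smul_eq_mul, inv_mul_cancel₀ hfx]
  refine ⟨tv (y - x) ((f x)⁻¹ • φ), ?_⟩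
  rw [tv_mulVec h1, h2, one_smul]; abel

/-- `SL` is transitive on nonzero vectors (index type with at least two elements) -/
theorem exists_sl_mulVec_eq [Nontrivial ι] {x y : ι → F} (hx : x ≠ 0) (hy : y ≠ 0) :
    ∃ A : Matrix.SpecialLinearGroup ι F, (A : Matrix ι ι F) *ᵥ x = y := by
  by_cases hxy : y ∈ Submodule.span F {x}
  · -- go through an auxiliary vector `w ∉ span {x}`
    obtain ⟨i, hi⟩ := Function.ne_iff.1 hx
    obtain ⟨j, hj⟩ := exists_ne i
    have hw : (Pi.single j (1 : F) : ι → F) ∉ Submodule.span F {x} := by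
      intro h
      obtain ⟨c, hc⟩ := Submodule.mem_span_singleton.1 h
      have h1 := congrFun hc i
      have h2 := congrFun hc j
      simp only [Pi.smul_apply, smul_eq_mul, Pi.single_apply, if_neg (Ne.symm hj), if_true] at h1 h2
      have hc0 : c = 0 := by
        rcases mul_eq_zero.1 h1 with h | h
        · exact h
        · exact absurd h hi
      rw [hc0, zero_mul] at h2
      exact zero_ne_one h2
    have hw0 : (Pi.single j (1 : F) : ι → F) ≠ 0 := by
      intro h; have := congrFun h j; simp at this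
    obtain ⟨c, hc⟩ := Submodule.mem_span_singleton.1 hxy
    have hc0 : c ≠ 0 := by
      rintro rfl; rw [zero_smul] at hc; exact hy hc.symm
    have hyw : y ∉ Submodule.span F {(Pi.single j (1 : F) : ι → F)} := by
      intro h
      obtain ⟨d, hd⟩ := Submodule.mem_span_singleton.1 h
      have hd0 : d ≠ 0 := by
        rintro rfl; rw [zero_smul] at hd; exact hy hd.symm
      apply hw
      refine Submodule.mem_span_singleton.2 ⟨d⁻¹ * c, ?_⟩
      rw [mul_smul, hc, ← hd, smul_smul, inv_mul_cancel₀ hd0, one_smul]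
    obtain ⟨A1, hA1⟩ := exists_tv_mulVec_eq hx hw
    obtain ⟨A2, hA2⟩ := exists_tv_mulVec_eq hw0 hyw
    refine ⟨A2 * A1, ?_⟩
    rw [Matrix.SpecialLinearGroup.coe_mul, ← mulVec_mulVec, hA1, hA2]
  · exact exists_tv_mulVec_eq hx hxy

end general

/-- `SL` is transitive on nonzero vectors -/
theorem exists_mulVec_eq {n : ℕ} (hn : 2 ≤ n) {x y : Fin n → F} (hx : x ≠ 0) (hy : y ≠ 0) :
    ∃ A : Matrix.SpecialLinearGroup (Fin n) F, (A : Matrix (Fin n) (Fin n) F) *ᵥ x = y := by
  haveI : Nontrivial (Fin n) := Fin.nontrivial_iff_two_le.2 hn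
  exact exists_sl_mulVec_eq hx hy

variable {k : ℕ}

theorem e0_ne_zero : (e0 : Idx k → F) ≠ 0 := by
  intro h; have := congrFun h (Sum.inl ()); simp [e0] at this

theorem exists_mulVec_e0_eq (hk : 1 ≤ k) {u : Idx k → F} (hu : u ≠ 0) :
    ∃ g : Matrix.SpecialLinearGroup (Idx k) F, (g : Matrix (Idx k) (Idx k) F) *ᵥ e0 = u := by
  haveI : Nontrivial (Idx k) :=
    ⟨⟨Sum.inl (), Sum.inr ⟨0, hk⟩, by simp⟩⟩
  exact exists_sl_mulVec_eq e0_ne_zero hu

theorem ext0_dotProduct_e0 (r : Fin k → F) : (ext0 r : Idx k → F) ⬝ᵥ e0 = 0 := by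
  simp [ext0, e0, dotProduct, Fintype.sum_sum_type]

theorem qel_eq_tv (r : Fin k → F) :
    (qel r : Matrix.SpecialLinearGroup (Idx k) F) = tv e0 (ext0 r) := by
  apply sl_ext
  rw [tv_coe (ext0_dotProduct_e0 r), qel_coe]
  ext i j
  rcases i with i | i <;> rcases j with j | j <;>
    simp [vecMulVec_apply, e0, ext0, Matrix.one_apply, Matrix.add_apply]

theorem levS_mul (A B : Matrix.SpecialLinearGroup (Fin k) F) :
    (levS (A * B) : Matrix.SpecialLinearGroup (Idx k) F) = levS A * levS B := by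
  apply sl_ext
  rw [Matrix.SpecialLinearGroup.coe_mul, levS_coe, levS_coe, levS_coe,
    Matrix.SpecialLinearGroup.coe_mul, fromBlocks_multiply]
  simp

theorem levS_one : (levS (1 : Matrix.SpecialLinearGroup (Fin k) F) :
    Matrix.SpecialLinearGroup (Idx k) F) = 1 := by
  apply sl_ext
  rw [levS_coe, Matrix.SpecialLinearGroup.coe_one, Matrix.SpecialLinearGroup.coe_one,
    fromBlocks_one]

theorem levS_inv (A : Matrix.SpecialLinearGroup (Fin k) F) :
    (levS A⁻¹ : Matrix.SpecialLinearGroup (Idx k) F) = (levS A)⁻¹ := by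
  rw [eq_inv_iff_mul_eq_one, ← levS_mul, inv_mul_cancel, levS_one]

theorem levS_conj_qel (A : Matrix.SpecialLinearGroup (Fin k) F) (r : Fin k → F) :
    levS A * qel r * (levS A)⁻¹ =
      qel (r ᵥ* ((A⁻¹ : Matrix.SpecialLinearGroup (Fin k) F) : Matrix (Fin k) (Fin k) F)) := by
  rw [← levS_inv]
  have hAA : (A : Matrix (Fin k) (Fin k) F) *
      ((A⁻¹ : Matrix.SpecialLinearGroup (Fin k) F) : Matrix (Fin k) (Fin k) F) = 1 := by
    rw [← Matrix.SpecialLinearGroup.coe_mul, mul_inv_cancel, Matrix.SpecialLinearGroup.coe_one]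
  apply sl_ext
  rw [Matrix.SpecialLinearGroup.coe_mul, Matrix.SpecialLinearGroup.coe_mul, levS_coe, levS_coe,
    qel_coe, qel_coe, fromBlocks_multiply, fromBlocks_multiply, replicateRow_vecMul]
  simp only [Matrix.mul_one, Matrix.one_mul, Matrix.mul_zero, Matrix.zero_mul, add_zero, zero_add,
    hAA]

theorem lev_mul {A B : Matrix (Fin k) (Fin k) F} (hA : A.det ≠ 0) (hB : B.det ≠ 0) :
    (lev (A * B) : Matrix.SpecialLinearGroup (Idx k) F) = lev A * lev B := by
  have hAB : (A * B).det ≠ 0 := by rw [det_mul]; exact mul_ne_zero hA hB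
  apply sl_ext
  rw [Matrix.SpecialLinearGroup.coe_mul, lev_coe hA, lev_coe hB, lev_coe hAB, fromBlocks_multiply]
  simp [det_mul, mul_inv, smul_smul, mul_comm]

theorem lev_one : (lev (1 : Matrix (Fin k) (Fin k) F) : Matrix.SpecialLinearGroup (Idx k) F) = 1 := by
  apply sl_ext
  rw [lev_coe (by simp), Matrix.SpecialLinearGroup.coe_one]
  simp [fromBlocks_one]

theorem lev_inv {A : Matrix (Fin k) (Fin k) F} (hA : A.det ≠ 0) :
    (lev A⁻¹ : Matrix.SpecialLinearGroup (Idx k) F) = (lev A)⁻¹ := by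
  have hA' : (A⁻¹).det ≠ 0 := by
    rw [det_nonsing_inv, Ring.inverse_eq_inv']; exact inv_ne_zero hA
  rw [eq_inv_iff_mul_eq_one, ← lev_mul hA' hA, nonsing_inv_mul _ (isUnit_iff_ne_zero.2 hA), lev_one]

theorem lev_conj_qel {A : Matrix (Fin k) (Fin k) F} (hA : A.det ≠ 0) (r : Fin k → F) :
    lev A * qel r * (lev A)⁻¹ = qel (A.det⁻¹ • (r ᵥ* A⁻¹)) := by
  have hA' : (A⁻¹).det ≠ 0 := by
    rw [det_nonsing_inv, Ring.inverse_eq_inv']; exact inv_ne_zero hA
  rw [← lev_inv hA]
  have hAA : A * A⁻¹ = 1 := mul_nonsing_inv _ (isUnit_iff_ne_zero.2 hA)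
  apply sl_ext
  rw [Matrix.SpecialLinearGroup.coe_mul, Matrix.SpecialLinearGroup.coe_mul, lev_coe hA,
    lev_coe hA', qel_coe, qel_coe, fromBlocks_multiply, fromBlocks_multiply]
  have hd : A.det⁻¹ * (A⁻¹).det⁻¹ = 1 := by
    rw [det_nonsing_inv, Ring.inverse_eq_inv', inv_inv, inv_mul_cancel₀ hA]
  congr 1
  · ext i j; simp [hd, smul_smul]; try exact mul_inv_cancel₀ hA
  · ext i j
    simp [Matrix.mul_apply, replicateRow_apply, vecMul, dotProduct, Finset.mul_sum, smul_eq_mul]
  · simp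
  · simp [hAA]

/-- every transvection is conjugate into `Q` -/
theorem exists_conj_qel {u φ : Idx k → F} (hφ : φ ⬝ᵥ u = 0) :
    ∃ (g : Matrix.SpecialLinearGroup (Idx k) F) (r : Fin k → F), tv u φ = g * qel r * g⁻¹ := by
  by_cases hu : u = 0
  · subst hu
    exact ⟨1, 0, by rw [tv_zero_left, qel_zero]; simp⟩
  by_cases hφ0 : φ = 0
  · subst hφ0
    exact ⟨1, 0, by rw [tv_zero_right, qel_zero]; simp⟩
  have hk : 1 ≤ k := by
    by_contra hk
    have hk0 : k = 0 := by omega
    subst hk0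
    -- one-dimensional: φ ⬝ᵥ u = φ * u = 0
    have : φ (Sum.inl ()) * u (Sum.inl ()) = 0 := by
      simpa [dotProduct, Fintype.sum_sum_type] using hφ
    rcases mul_eq_zero.1 this with h | h
    · apply hφ0; funext i; rcases i with i | i
      · exact h
      · exact i.elim0
    · apply hu; funext i; rcases i with i | i
      · exact h
      · exact i.elim0
  obtain ⟨g, hg⟩ := exists_mulVec_e0_eq hk hu
  set φ' : Idx k → F := φ ᵥ* (g : Matrix (Idx k) (Idx k) F) with hφ'
  have h0 : φ' ⬝ᵥ e0 = 0 := by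
    rw [hφ', ← dotProduct_mulVec, hg, hφ]
  have hgg : (g : Matrix (Idx k) (Idx k) F) *
      ((g⁻¹ : Matrix.SpecialLinearGroup (Idx k) F) : Matrix (Idx k) (Idx k) F) = 1 := by
    rw [← Matrix.SpecialLinearGroup.coe_mul, mul_inv_cancel, Matrix.SpecialLinearGroup.coe_one]
  have hφ'' : φ' = ext0 (fun j => φ' (Sum.inr j)) := by
    funext i
    rcases i with i | i
    · have : φ' (Sum.inl ()) = 0 := by
        simpa [e0, dotProduct, Fintype.sum_sum_type] using h0
      simpa [ext0] using this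
    · simp [ext0]
  refine ⟨g, fun j => φ' (Sum.inr j), ?_⟩
  rw [qel_eq_tv, ← hφ'', tv_conj g h0, hg, hφ', vecMul_vecMul, hgg, vecMul_one]

end Cfsg.Agent.Lib.Helper3.MinDeg
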