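import Mathlib
import Cfsg.Agent.Lib.Helper3.MinDegDefs
import Cfsg.Agent.Lib.Helper3.MinDegTv
import Cfsg.Agent.Lib.Helper3.MinDegBlk
set_option autoImplicit false
set_option maxHeartbeats 4000000
set_option linter.unusedVariables false
set_option linter.unusedSectionVars false
set_option linter.unusedSimpArgs false
set_option linter.style.longLine false
open Matrix

/-! # S2140 farm, unit U11: conversion of case (α) to transvection language -/

namespace Cfsg.Agent.Lib.Helper3.MinDeg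

variable {F : Type*} [Field F] {k : ℕ}

theorem ext0_dot_ext0 (r x : Fin k → F) : (ext0 r : Idx k → F) ⬝ᵥ ext0 x = r ⬝ᵥ x := by
  simp [ext0, dotProduct, Fintype.sum_sum_type]

/-- the transvection with centre `g e0` written as a conjugate of an element of `Q` -/
theorem tv_eq_conj_qel (g : Matrix.SpecialLinearGroup (Idx k) F) {φ : Idx k → F}
    (hφ : φ ⬝ᵥ ((g : Matrix (Idx k) (Idx k) F) *ᵥ e0) = 0) :
    tv ((g : Matrix (Idx k) (Idx k) F) *ᵥ e0) φ =
      g * qel (fun j => (φ ᵥ* (g : Matrix (Idx k) (Idx k) F)) (Sum.inr j)) * g⁻¹ ∧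
    φ ᵥ* (g : Matrix (Idx k) (Idx k) F) =
      ext0 (fun j => (φ ᵥ* (g : Matrix (Idx k) (Idx k) F)) (Sum.inr j)) := by
  set φ' : Idx k → F := φ ᵥ* (g : Matrix (Idx k) (Idx k) F) with hφ'
  have h0 : φ' ⬝ᵥ e0 = 0 := by
    rw [hφ', ← dotProduct_mulVec, hφ]
  have hgg : (g : Matrix (Idx k) (Idx k) F) *
      ((g⁻¹ : Matrix.SpecialLinearGroup (Idx k) F) : Matrix (Idx k) (Idx k) F) = 1 := by
    rw [← Matrix.SpecialLinearGroup.coe_mul, mul_inv_cancel, Matrix.SpecialLinearGroup.coe_one]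
  have hφ'' : φ' = ext0 (fun j => φ' (Sum.inr j)) := by
    funext i
    rcases i with i | i
    · have : φ' (Sum.inl ()) = 0 := by
        simpa [e0, dotProduct, Fintype.sum_sum_type] using h0
      simpa [ext0] using this
    · simp [ext0]
  refine ⟨?_, hφ''⟩
  rw [qel_eq_tv, ← hφ'', tv_conj g h0, hφ', vecMul_vecMul, hgg, vecMul_one]

theorem alpha_convert (hk : 1 ≤ k) (H : Subgroup (Matrix.SpecialLinearGroup (Idx k) F))
    (h : ∀ g, ∃ x : Fin k → F, x ≠ 0 ∧ Kof H g = hyp x) :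
    ∀ u : Idx k → F, u ≠ 0 → ∃ u' : Idx k → F, LinearIndependent F ![u, u'] ∧
      ∀ φ : Idx k → F, φ ⬝ᵥ u = 0 → (tv u φ ∈ H ↔ φ ⬝ᵥ u' = 0) := by
  intro u hu
  obtain ⟨g, hg⟩ := exists_mulVec_e0_eq hk hu
  obtain ⟨x, hx, hK⟩ := h g⁻¹
  have hgg : ((g⁻¹ : Matrix.SpecialLinearGroup (Idx k) F) : Matrix (Idx k) (Idx k) F) *
      (g : Matrix (Idx k) (Idx k) F) = 1 := by
    rw [← Matrix.SpecialLinearGroup.coe_mul, inv_mul_cancel, Matrix.SpecialLinearGroup.coe_one]
  refine ⟨(g : Matrix (Idx k) (Idx k) F) *ᵥ ext0 x, ?_, ?_⟩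
  · rw [LinearIndependent.pair_iff]
    intro s t hst
    rw [← hg, ← mulVec_smul, ← mulVec_smul, ← mulVec_add] at hst
    have h2 : s • (e0 : Idx k → F) + t • ext0 x = 0 := by
      have := congrArg (fun w => ((g⁻¹ : Matrix.SpecialLinearGroup (Idx k) F) :
        Matrix (Idx k) (Idx k) F) *ᵥ w) hst
      simp only [mulVec_mulVec, hgg, one_mulVec, mulVec_zero] at this
      exact this
    have hs : s = 0 := by
      have := congrFun h2 (Sum.inl ())
      simpa [e0, ext0] using this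
    refine ⟨hs, ?_⟩
    by_contra ht
    apply hx
    funext j
    have := congrFun h2 (Sum.inr j)
    simp only [Pi.add_apply, Pi.smul_apply, e0, ext0, smul_eq_mul, Sum.elim_inr, Pi.zero_apply,
      Pi.single_apply] at this
    simp only [reduceCtorEq, if_false, mul_zero, zero_add] at this
    rcases mul_eq_zero.1 this with h' | h'
    · exact absurd h' ht
    · exact h'
  · intro φ hφ
    rw [← hg] at hφ ⊢
    obtain ⟨h1, h2⟩ := tv_eq_conj_qel g hφ
    set r : Fin k → F := fun j => (φ ᵥ* (g : Matrix (Idx k) (Idx k) F)) (Sum.inr j) with hr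
    rw [h1]
    have hmem : g * qel r * g⁻¹ ∈ H ↔ r ∈ Kof H g⁻¹ := by
      rw [mem_Kof, inv_inv]
    rw [hmem, hK, mem_hyp, ← ext0_dot_ext0, ← h2, ← dotProduct_mulVec]

end Cfsg.Agent.Lib.Helper3.MinDeg
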