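import Mathlib
import Cfsg.Agent.Lib.Helper3.MinDegDefs
import Cfsg.Agent.Lib.Helper3.MinDegTv
import Cfsg.Agent.Lib.Helper3.MinDegBlk
import Cfsg.Agent.Lib.Helper3.MinDegConv
import Cfsg.Agent.Lib.Helper7.MinDegU1
import Cfsg.Agent.Lib.Helper6.MinDegU3
import Cfsg.Agent.Lib.Helper1.MinDegU6
import Cfsg.Agent.Lib.Helper6.MinDegU7
import Cfsg.Agent.Lib.Helper7.MinDegU7a
import Cfsg.Agent.Lib.Helper6.MinDegU8
import Cfsg.Agent.Lib.Helper7.MinDegU9
import Cfsg.Agent.Lib.Helper2.MinDegU10
import Cfsg.Agent.Lib.Helper4.MinDegUa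
import Cfsg.Agent.Lib.Helper9.MinDegUb2
import Cfsg.Agent.Lib.Helper9.MinDegUb4
set_option autoImplicit false
set_option maxHeartbeats 4000000
set_option linter.unusedVariables false
set_option linter.unusedSectionVars false
set_option linter.unusedSimpArgs false
set_option linter.style.longLine false
open Matrix

/-! # S2140 farm: MAIN (assembly of the units) -/

namespace Cfsg.Agent.Lib.Helper3.MinDeg

open scoped LinearAlgebra.Projectivization

variable {F : Type*} [Field F] {k : ℕ}

theorem finite_SL' {n : Type*} [DecidableEq n] [Fintype n] [Finite F] :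
    Finite (Matrix.SpecialLinearGroup n F) := by
  haveI : Finite (Matrix n n F) := inferInstance
  exact Subtype.finite

/-- arithmetic: `N_k (q-1) = q^k - 1` -/
theorem geom_aux (q : ℕ) (hq : 2 ≤ q) (k : ℕ) :
    (q ^ k - 1) / (q - 1) * (q - 1) = q ^ k - 1 := by
  exact Nat.div_mul_cancel (Nat.sub_one_dvd_pow_sub_one q k)

theorem geom_succ (q : ℕ) (hq : 2 ≤ q) (k : ℕ) :
    (q ^ (k + 1) - 1) / (q - 1) = q * ((q ^ k - 1) / (q - 1)) + 1 := by
  have h1 := geom_aux q hq k
  have h2 := geom_aux q hq (k + 1)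
  have hd : 0 < q - 1 := by omega
  apply Nat.eq_of_mul_eq_mul_right hd
  rw [h2, add_mul, mul_assoc, h1, one_mul]
  have hp : 1 ≤ q ^ k := Nat.one_le_pow _ _ (by omega)
  have : q ^ (k + 1) = q * q ^ k := by ring
  rw [this, Nat.mul_sub, mul_one]
  have hq1 : q ≤ q * q ^ k := by nlinarith
  omega

theorem geom_pos (q : ℕ) (hq : 2 ≤ q) (k : ℕ) (hk : 1 ≤ k) : 1 ≤ (q ^ k - 1) / (q - 1) := by
  obtain ⟨j, rfl⟩ : ∃ j, k = j + 1 := ⟨k - 1, by omega⟩
  rw [geom_succ q hq j]; omega

theorem geom_lt (q : ℕ) (hq : 2 ≤ q) (k : ℕ) : (q ^ k - 1) / (q - 1) < q ^ k := by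
  have hp : 1 ≤ q ^ k := Nat.one_le_pow _ _ (by omega)
  calc (q ^ k - 1) / (q - 1) ≤ q ^ k - 1 := Nat.div_le_self _ _
    _ < q ^ k := by omega

theorem main_block [Fintype F] (hk : 2 ≤ k) (hexc : ¬ (k = 3 ∧ Fintype.card F = 2))
    (H : Subgroup (Matrix.SpecialLinearGroup (Idx k) F)) (hH : H ≠ ⊤) :
    (Fintype.card F ^ (k + 1) - 1) / (Fintype.card F - 1) ≤ H.index := by
  classical
  by_contra hlt
  push Not at hlt
  haveI : Finite (Matrix.SpecialLinearGroup (Idx k) F) := finite_SL'
  set q := Fintype.card F with hq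
  have hq2 : 2 ≤ q := Fintype.one_lt_card
  set Nk := (q ^ k - 1) / (q - 1) with hNk
  have hNrec : (q ^ (k + 1) - 1) / (q - 1) = q * Nk + 1 := geom_succ q hq2 k
  have hNkd : Nk * (q - 1) = q ^ k - 1 := geom_aux q hq2 k
  have hNk1 : 1 ≤ Nk := geom_pos q hq2 k (by omega)
  have hNklt : Nk < q ^ k := geom_lt q hq2 k
  have hqk : 1 ≤ q ^ k := Nat.one_le_pow _ _ (by omega)
  rw [hNrec] at hlt
  -- Step 1: `H` is transitive on points
  have hcardX : Nat.card (ℙ F (Idx k → F)) = q * Nk + 1 := by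
    rw [Projectivization.card'', ← hNrec, Nat.card_eq_fintype_card, Nat.card_eq_fintype_card,
      Fintype.card_fun]
    simp [hq, add_comm]
  have htr : MulAction.IsPretransitive H (ℙ F (Idx k → F)) := by
    by_contra hnt
    have := Cfsg.Agent.Lib.Helper7.MinDeg.card_le_index_of_not_pretransitive
      (G := Matrix.SpecialLinearGroup (Idx k) F) (X := ℙ F (Idx k → F)) inferInstance H hnt
    omega
  set I := (Kof H 1).index with hIdef
  have hI : ∀ g, (Kof H g).index = I := fun g =>
    Cfsg.Agent.Lib.Helper2.MinDeg.Kof_index_eq H htr g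
  have hIpos : I ≠ 0 := by
    haveI : Finite (Fin k → F) := inferInstance
    exact AddSubgroup.index_ne_zero_of_finite
  have hI1 : 1 < I := by
    by_contra h
    have hI_one : I = 1 := by omega
    apply hH
    rw [eq_top_iff, ← closure_tv_eq_top, Subgroup.closure_le]
    rintro x ⟨u, φ, hφ, rfl⟩
    obtain ⟨g, r, hgr⟩ := exists_conj_qel hφ
    have htop : Kof H g⁻¹ = ⊤ := AddSubgroup.index_eq_one.1 ((hI g⁻¹).trans hI_one)
    have hr : r ∈ Kof H g⁻¹ := by rw [htop]; trivial
    rw [mem_Kof, inv_inv] at hr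
    rw [SetLike.mem_coe, hgr]; exact hr
  set t' := Nat.card (MulAction.orbitRel.Quotient (Q F k)
    (Matrix.SpecialLinearGroup (Idx k) F ⧸ H)) with ht'
  have hm : H.index = I * t' :=
    Cfsg.Agent.Lib.Helper7.MinDeg.index_eq_mul_card_blocks H I hI
  by_cases ht : t' < Nk
  · ----- case (β)
    have hbot : ∀ g, Kof H g = ⊥ := by
      intro g
      obtain ⟨S, hS, hSidx⟩ := Cfsg.Agent.Lib.Helper7.MinDeg.exists_blockStab H g
      rcases Cfsg.Agent.Lib.Helper1.MinDeg.Kof_eq_bot_or_top hk H g S hS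
        (lt_of_le_of_lt hSidx ht) with h | h
      · exact h
      · exfalso
        have := hI g
        rw [h, AddSubgroup.index_top] at this
        omega
    have hIq : I = q ^ k := by
      rw [← hI 1, hbot 1, AddSubgroup.index_bot, Nat.card_eq_fintype_card, Fintype.card_fun]
      simp [hq]
    have ht1 : t' ≤ 1 := by
      by_contra h
      have h2t : 2 ≤ t' := by omega
      have h2 : q ^ k * 2 ≤ q ^ k * t' := Nat.mul_le_mul_left _ h2t
      have hlt' : q ^ k * t' < q * Nk + 1 := by rw [← hIq, ← hm]; exact hlt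
      have h4 : q * Nk = (q ^ k - 1) + Nk := by
        rw [← hNkd]
        have hq' : q = (q - 1) + 1 := by omega
        nth_rewrite 1 [hq']; ring
      omega
    haveI : Finite (Matrix.SpecialLinearGroup (Idx k) F ⧸ H) := inferInstance
    haveI : Finite (MulAction.orbitRel.Quotient (Q F k)
      (Matrix.SpecialLinearGroup (Idx k) F ⧸ H)) := Quotient.finite _
    have hsub : Subsingleton (MulAction.orbitRel.Quotient (Q F k)
        (Matrix.SpecialLinearGroup (Idx k) F ⧸ H)) :=
      (Finite.card_le_one_iff_subsingleton).1 ht1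
    have h1 : ∀ g : Matrix.SpecialLinearGroup (Idx k) F, ∃ r : Fin k → F, qel r * g ∈ H := by
      intro g
      have heq : (Quotient.mk'' ((g : Matrix.SpecialLinearGroup (Idx k) F) :
          Matrix.SpecialLinearGroup (Idx k) F ⧸ H) :
          MulAction.orbitRel.Quotient (Q F k) (Matrix.SpecialLinearGroup (Idx k) F ⧸ H)) =
          Quotient.mk'' (((1 : Matrix.SpecialLinearGroup (Idx k) F)) :
          Matrix.SpecialLinearGroup (Idx k) F ⧸ H) := Subsingleton.elim _ _
      have hrel := Quotient.eq''.1 heq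
      rw [MulAction.orbitRel_apply] at hrel
      obtain ⟨⟨u, hu⟩, hu'⟩ := hrel
      obtain ⟨r, rfl⟩ := (mem_Q_iff u).1 hu
      refine ⟨-r, ?_⟩
      have h5 : ((qel r * 1 : Matrix.SpecialLinearGroup (Idx k) F) :
          Matrix.SpecialLinearGroup (Idx k) F ⧸ H) = (g : Matrix.SpecialLinearGroup (Idx k) F ⧸ H) := hu'
      rw [mul_one, QuotientGroup.eq] at h5
      rw [qel_neg]; exact h5
    have h2 : ∀ u φ : Idx k → F, φ ⬝ᵥ u = 0 → tv u φ ∈ H → tv u φ = 1 := by
      intro u φ hφ hmem
      obtain ⟨g, r, hgr⟩ := exists_conj_qel hφ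
      have hr : r ∈ Kof H g⁻¹ := by
        rw [mem_Kof, inv_inv, ← hgr]; exact hmem
      rw [hbot g⁻¹] at hr
      have hr0 : r = 0 := hr
      rw [hgr, hr0, qel_zero]; simp
    rcases (show k = 2 ∨ k = 3 ∨ 4 ≤ k by omega) with rfl | rfl | h4
    · exact Cfsg.Agent.Lib.Helper9.MinDeg.beta_false_two H h1 h2
    · have hq3 : 3 ≤ Fintype.card F := by
        have : Fintype.card F ≠ 2 := fun h => hexc ⟨rfl, h⟩
        omega
      exact Cfsg.Agent.Lib.Helper9.MinDeg.beta_false_three hq3 H h1 h2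
    · exact Cfsg.Agent.Lib.Helper9.MinDeg.beta_false_ge_four h4 H h1 h2
  · ----- case (α)
    push Not at ht
    have hIq : I ≤ q := by
      by_contra h
      push Not at h
      have h1 : (q + 1) * Nk ≤ I * t' := Nat.mul_le_mul (by omega) ht
      rw [hm] at hlt
      have : (q + 1) * Nk = q * Nk + Nk := by ring
      omega
    obtain ⟨p, hp⟩ := CharP.exists F
    haveI := hp
    haveI : Fact p.Prime := ⟨CharP.char_is_prime F p⟩
    obtain ⟨τ, hτ⟩ := Cfsg.Agent.Lib.Helper6.MinDeg.exists_tau (F := F) p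
    obtain ⟨n, hn1, hcount, hsingle⟩ := Cfsg.Agent.Lib.Helper6.MinDeg.dual_count_of p τ hτ hk
      (fun x y hx hy => exists_mulVec_eq hk hx hy) H I hI hI1
    -- t' (I-1) = n (q^k - 1)
    have hI0 : 0 < I := by omega
    have hc2 : t' * (I - 1) = n * (q ^ k - 1) := by
      rw [hm] at hcount
      have : I * (t' * (I - 1)) = I * (n * (q ^ k - 1)) := by
        calc I * (t' * (I - 1)) = I * t' * (I - 1) := by ring
          _ = n * I * (q ^ k - 1) := hcount
          _ = I * (n * (q ^ k - 1)) := by ring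
      exact Nat.eq_of_mul_eq_mul_left hI0 this
    rw [← hNkd] at hc2
    have ht'pos : 0 < t' := by omega
    have hIeq : I = q := by
      by_contra hne
      have hIlt : I < q := by omega
      -- q t'(I-1) ≥ q Nk (q-1) ≥ I t' (q-1)
      have h1 : Nk * (q - 1) ≤ t' * (I - 1) := by
        rw [hc2]; exact Nat.le_mul_of_pos_left _ (by omega)
      have h2 : I * t' ≤ q * Nk := by rw [hm] at hlt; omega
      have h3 : I * t' * (q - 1) ≤ q * (t' * (I - 1)) := by
        calc I * t' * (q - 1) ≤ q * Nk * (q - 1) := Nat.mul_le_mul_right _ h2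
          _ = q * (Nk * (q - 1)) := by ring
          _ ≤ q * (t' * (I - 1)) := Nat.mul_le_mul_left _ h1
      have h4 : I * (q - 1) ≤ q * (I - 1) := by
        have : t' * (I * (q - 1)) ≤ t' * (q * (I - 1)) := by
          calc t' * (I * (q - 1)) = I * t' * (q - 1) := by ring
            _ ≤ q * (t' * (I - 1)) := h3
            _ = t' * (q * (I - 1)) := by ring
        exact Nat.le_of_mul_le_mul_left this ht'pos
      -- I (q-1) = Iq - I ; q (I-1) = qI - q
      have h5 : I * (q - 1) + I = I * q := by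
        have : q = (q - 1) + 1 := by omega
        nth_rewrite 2 [this]; ring
      have h6 : q * (I - 1) + q = I * q := by
        have : I = (I - 1) + 1 := by omega
        nth_rewrite 2 [this]; ring
      omega
    have hn_one : n = 1 := by
      rw [hIeq] at hc2
      have h1 : t' = n * Nk := by
        have hd : 0 < q - 1 := by omega
        have : t' * (q - 1) = n * Nk * (q - 1) := by rw [hc2]; ring
        exact Nat.eq_of_mul_eq_mul_right hd this
      have h2 : I * t' ≤ q * Nk := by rw [hm] at hlt; omega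
      rw [hIeq, h1] at h2
      have h3 : n * (q * Nk) ≤ 1 * (q * Nk) := by
        calc n * (q * Nk) = q * (n * Nk) := by ring
          _ ≤ q * Nk := h2
          _ = 1 * (q * Nk) := by ring
      have hpos : 0 < q * Nk := Nat.mul_pos (by omega) hNk1
      have := Nat.le_of_mul_le_mul_right h3 hpos
      omega
    have hyp_all : ∀ g, ∃ x : Fin k → F, x ≠ 0 ∧ Kof H g = hyp x := by
      intro g
      exact Cfsg.Agent.Lib.Helper6.MinDeg.Kof_eq_hyp p τ hτ hk H g ((hI g).trans hIeq)
        (hsingle hn_one g)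
    have hα := alpha_convert (by omega : 1 ≤ k) H hyp_all
    have hcard : 3 ≤ Fintype.card (Idx k) := by
      simp only [Fintype.card_sum, Fintype.card_unit, Fintype.card_fin]; omega
    exact Cfsg.Agent.Lib.Helper4.MinDeg.alpha_false hcard H hα

end Cfsg.Agent.Lib.Helper3.MinDeg
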