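import Mathlib
set_option autoImplicit false
set_option linter.unusedVariables false
set_option linter.unusedSectionVars false
set_option linter.style.longLine false

namespace Cfsg.Agent.Lib.Helper3.MinIdx

open MulAction Subgroup

/-- In a finite group acting on a finite set, the stabiliser (inside a subgroup `H`) of a point has
at least `|H| / |Ω|` elements. -/
theorem card_le_card_mul_card_inf_stabilizer {G : Type*} [Group G] [Finite G]
    {Ω : Type*} [MulAction G Ω] [Finite Ω] (H : Subgroup G) (ω : Ω) :
    Nat.card H ≤ Nat.card Ω * Nat.card ↥(H ⊓ stabilizer G ω) := by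
  classical
  have h1 : Nat.card H = Nat.card (orbit H ω) * Nat.card (stabilizer H ω) := by
    rw [_root_.Nat.card_coe_set_eq, ← index_stabilizer, mul_comm, Subgroup.card_mul_index]
  have h2 : Nat.card (orbit H ω) ≤ Nat.card Ω := Nat.card_le_card_of_injective _ Subtype.val_injective
  have h3 : Nat.card (stabilizer H ω) = Nat.card ↥(H ⊓ stabilizer G ω) := by
    have e : (stabilizer H ω) = (stabilizer G ω).subgroupOf H := by
      ext x
      simp [mem_stabilizer_iff, Subgroup.mem_subgroupOf, Subgroup.smul_def]
    rw [e]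
    have := Subgroup.subgroupOfEquivOfLe (H := stabilizer G ω ⊓ H) (K := H) inf_le_right
    have e2 : (stabilizer G ω).subgroupOf H = (stabilizer G ω ⊓ H).subgroupOf H := by
      rw [Subgroup.inf_subgroupOf_right]
    rw [e2, Nat.card_congr (Subgroup.subgroupOfEquivOfLe (H := stabilizer G ω ⊓ H) (K := H) inf_le_right).toEquiv, inf_comm]
  rw [h1, h3]
  exact Nat.mul_le_mul_right _ h2

/-- **L1.** `G` simple, transitive on `Ω`; if every subgroup of the point stabiliser with more than
`k` elements contains a fixed nontrivial subgroup `Z`, then every subgroup of `G` with more than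
`k * |Ω|` elements is `G`. -/
theorem eq_top_of_small_index {G : Type*} [Group G] [Finite G] [IsSimpleGroup G]
    {Ω : Type*} [MulAction G Ω] [Finite Ω] [IsPretransitive G Ω] (ω₀ : Ω)
    (Z : Subgroup G) (hZ : Z ≠ ⊥) (k : ℕ)
    (hsub : ∀ K : Subgroup G, K ≤ stabilizer G ω₀ → k < Nat.card K → Z ≤ K)
    (H : Subgroup G) (hH : k * Nat.card Ω < Nat.card H) : H = ⊤ := by
  classical
  -- every conjugate of `Z` lies in `H`
  have key : ∀ g : G, ∀ z ∈ Z, g * z * g⁻¹ ∈ H := by
    intro g z hz
    set ω : Ω := g • ω₀ with hω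
    set K₀ : Subgroup G := H ⊓ stabilizer G ω with hK₀
    have hcard : k < Nat.card K₀ := by
      have h1 := card_le_card_mul_card_inf_stabilizer H ω
      have hΩ : 0 < Nat.card Ω := Nat.card_pos_iff.mpr ⟨⟨ω₀⟩, inferInstance⟩
      by_contra hcon
      rw [not_lt] at hcon
      have : Nat.card Ω * Nat.card K₀ ≤ Nat.card Ω * k := Nat.mul_le_mul_left _ hcon
      have h2 : Nat.card H ≤ k * Nat.card Ω := by rw [mul_comm k]; exact h1.trans this
      omega
    -- conjugate back
    set K : Subgroup G := K₀.map (MulAut.conj g⁻¹).toMonoidHom with hK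
    have hKcard : Nat.card K = Nat.card K₀ := by
      rw [hK]
      exact Subgroup.card_map_of_injective (MulAut.conj g⁻¹).injective
    have hKle : K ≤ stabilizer G ω₀ := by
      intro x hx
      rw [hK, Subgroup.mem_map] at hx
      obtain ⟨y, hy, rfl⟩ := hx
      have hy2 : y • ω = ω := by
        have := (Subgroup.mem_inf.mp hy).2
        rwa [mem_stabilizer_iff] at this
      rw [mem_stabilizer_iff]
      simp only [MulEquiv.coe_toMonoidHom, MulAut.conj_apply, inv_inv]
      rw [mul_smul, mul_smul, ← hω, hy2, hω, inv_smul_smul]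
    have hZK : Z ≤ K := hsub K hKle (by rw [hKcard]; exact hcard)
    have := hZK hz
    rw [hK, Subgroup.mem_map] at this
    obtain ⟨y, hy, hyz⟩ := this
    simp only [MulEquiv.coe_toMonoidHom, MulAut.conj_apply, inv_inv] at hyz
    have : g * z * g⁻¹ = y := by rw [← hyz]; group
    rw [this]; exact (Subgroup.mem_inf.mp hy).1
  have hncl : Subgroup.normalClosure (Z : Set G) ≤ H := by
    rw [Subgroup.normalClosure, Subgroup.closure_le]
    intro a ha
    rw [Group.mem_conjugatesOfSet_iff] at ha
    obtain ⟨z, hz, hconj⟩ := ha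
    rw [isConj_iff] at hconj
    obtain ⟨c, rfl⟩ := hconj
    exact key c z hz
  have hn : Subgroup.normalClosure (Z : Set G) = ⊤ := by
    rcases (Subgroup.normalClosure_normal (s := (Z : Set G))).eq_bot_or_eq_top with h | h
    · exfalso
      apply hZ
      rw [eq_bot_iff, ← h]
      exact Subgroup.le_normalClosure
    · exact h
  rw [eq_top_iff, ← hn]
  exact hncl

end Cfsg.Agent.Lib.Helper3.MinIdx
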