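import Mathlib
import Cfsg.Agent.S4189

set_option autoImplicit false

/-! Farm NA8 (S4409), unit U9: a nonabelian group of order 8 with a nontrivial odd-order action is
quaternion (via `Cfsg.Agent.S4189.result`). -/

namespace Cfsg.Agent.Lib.Helper3.NA8

variable {G : Type*} [Group G]

/-- conjugation by an element of the normalizer, as an automorphism of the subgroup -/
def conjAut (Y : Subgroup G) (k : G) (hk : k ∈ Subgroup.normalizer (Y : Set G)) : MulAut ↥Y where
  toFun y := ⟨k * y * k⁻¹, (Subgroup.mem_normalizer_iff.mp hk y).mp y.2⟩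
  invFun y := ⟨k⁻¹ * y * k, by
    have := (Subgroup.mem_normalizer_iff.mp (inv_mem hk) y).mp y.2
    rwa [inv_inv] at this⟩
  left_inv y := by apply Subtype.ext; simp [mul_assoc]
  right_inv y := by apply Subtype.ext; simp [mul_assoc]
  map_mul' x y := by apply Subtype.ext; simp [mul_assoc]

theorem conjAut_pow (Y : Subgroup G) (k : G) (hk : k ∈ Subgroup.normalizer (Y : Set G)) (n : ℕ)
    (y : ↥Y) : (((conjAut Y k hk) ^ n) y : G) = k ^ n * y * (k ^ n)⁻¹ := by
  induction n generalizing y with
  | zero => simp
  | succ n ih =>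
    rw [pow_succ, MulAut.mul_apply, ih]
    show k ^ n * (k * y * k⁻¹) * (k ^ n)⁻¹ = _
    rw [pow_succ]; group

/-- the commutator subgroup of a nonabelian group of order 8 has index 4 -/
theorem commutator_index_eq_four {P : Type*} [Group P] [Finite P] (h8 : Nat.card P = 8)
    (hna : ¬ IsMulCommutative P) : (commutator P).index = 4 := by
  have : Fact (Nat.Prime 2) := ⟨Nat.prime_two⟩
  have hP : IsPGroup 2 P := IsPGroup.of_card (n := 3) h8
  haveI : Nontrivial P := by
    apply (Finite.one_lt_card_iff_nontrivial).mp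
    rw [h8]; norm_num
  have hZnt : Nontrivial (Subgroup.center P) := hP.center_nontrivial
  -- |Z| divides 8, Z ≠ 1, and P/Z is not cyclic
  have hZdvd : Nat.card (Subgroup.center P) ∣ 8 := h8 ▸ Subgroup.card_subgroup_dvd_card _
  have hZ1 : 1 < Nat.card (Subgroup.center P) := Finite.one_lt_card
  have hidx : Nat.card (Subgroup.center P) * (Subgroup.center P).index = 8 :=
    h8 ▸ Subgroup.card_mul_index _
  have hnotcyc : ¬ IsCyclic (P ⧸ Subgroup.center P) := by
    intro hc
    apply hna
    have := commutative_of_cyclic_center_quotient (QuotientGroup.mk' (Subgroup.center P))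
      (by rw [QuotientGroup.ker_mk'])
    exact ⟨⟨this⟩⟩
  have hcardq : Nat.card (P ⧸ Subgroup.center P) = (Subgroup.center P).index := rfl
  -- the index of the center is 4
  have hidx4 : (Subgroup.center P).index = 4 := by
    have hdiv : (Subgroup.center P).index ∣ 8 := ⟨_, by rw [mul_comm]; exact hidx.symm⟩
    have hle : (Subgroup.center P).index ≤ 8 := Nat.le_of_dvd (by norm_num) hdiv
    have hne1 : (Subgroup.center P).index ≠ 1 := by
      intro h1
      apply hnotcyc
      haveI : Subsingleton (P ⧸ Subgroup.center P) := by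
        rw [← Finite.card_le_one_iff_subsingleton, hcardq, h1]
      infer_instance
    have hne2 : (Subgroup.center P).index ≠ 2 := by
      intro h2
      apply hnotcyc
      exact isCyclic_of_prime_card (p := 2) (by rw [hcardq, h2])
    have hne8 : (Subgroup.center P).index ≠ 8 := by
      intro h8'
      rw [h8'] at hidx
      omega
    interval_cases h : (Subgroup.center P).index <;> simp_all
  -- P/Z is commutative, so P' ≤ Z
  have hqcomm : ∀ a b : P ⧸ Subgroup.center P, a * b = b * a := by
    have hq : Nat.card (P ⧸ Subgroup.center P) = 2 ^ 2 := by rw [hcardq, hidx4]; norm_num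
    have := IsPGroup.commutative_of_card_eq_prime_sq (p := 2) hq
    exact this
  have hle : commutator P ≤ Subgroup.center P := by
    letI : CommGroup (P ⧸ Subgroup.center P) :=
      { (inferInstance : Group (P ⧸ Subgroup.center P)) with mul_comm := hqcomm }
    have := Abelianization.commutator_subset_ker (QuotientGroup.mk' (Subgroup.center P))
    rwa [QuotientGroup.ker_mk'] at this
  have hZ2 : Nat.card (Subgroup.center P) = 2 := by
    rw [hidx4] at hidx; omega
  have hne : commutator P ≠ ⊥ := by
    intro hbot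
    apply hna
    constructor; constructor
    intro a b
    rw [commutator_def, Subgroup.commutator_eq_bot_iff_le_centralizer] at hbot
    have := hbot (Subgroup.mem_top b)
    rw [Subgroup.mem_centralizer_iff] at this
    exact this a (Subgroup.mem_top a)
  have hc2 : Nat.card (commutator P) = 2 := by
    have h1 : Nat.card (commutator P) ∣ 2 := hZ2 ▸ Subgroup.card_dvd_of_le hle
    have h2 : Nat.card (commutator P) ≠ 1 := by
      intro h; exact hne (Subgroup.card_eq_one.mp h)
    have := (Nat.dvd_prime Nat.prime_two).mp h1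
    tauto
  have := Subgroup.card_mul_index (commutator P)
  rw [hc2, h8] at this
  omega

theorem U9_quat_of_card_eight [Finite G] (Y K : Subgroup G) (h8 : Nat.card ↥Y = 8)
    (hna : ¬ IsMulCommutative ↥Y) (hK : Odd (Nat.card ↥K))
    (hKN : K ≤ Subgroup.normalizer (Y : Set G)) (hKC : ¬ K ≤ Subgroup.centralizer (Y : Set G)) :
    Nonempty (↥Y ≃* QuaternionGroup 2) := by
  have hP : IsPGroup 2 ↥Y := IsPGroup.of_card (n := 3) h8
  have h4 := commutator_index_eq_four h8 hna
  obtain ⟨k, hkK, hkC⟩ := SetLike.not_le_iff_exists.mp hKC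
  set φ := conjAut Y k (hKN hkK) with hφ
  have hφ1 : φ ≠ 1 := by
    intro h1
    apply hkC
    rw [Subgroup.mem_centralizer_iff]
    intro y hy
    have h2 : (φ ⟨y, hy⟩ : G) = y := by rw [h1]; rfl
    have h3 : (φ ⟨y, hy⟩ : G) = k * y * k⁻¹ := rfl
    rw [h3] at h2
    calc y * k = k * y * k⁻¹ * k := by rw [h2]
      _ = k * y := by group
  have hodd : Odd (orderOf k) := by
    have hd : orderOf k ∣ Nat.card ↥K := by
      have := orderOf_dvd_natCard (⟨k, hkK⟩ : ↥K)
      rwa [Subgroup.orderOf_mk] at this
    exact Odd.of_dvd_nat hK hd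
  have hφpow : φ ^ orderOf k = 1 := by
    ext y
    rw [conjAut_pow, pow_orderOf_eq_one]
    simp
  have haut : ¬ IsPGroup 2 (MulAut ↥Y) := by
    intro h2
    obtain ⟨j, hj⟩ := h2 φ
    have h3 := pow_gcd_eq_one.mpr ⟨hj, hφpow⟩
    have hcop : Nat.Coprime (2 ^ j) (orderOf k) := (Nat.coprime_two_left.mpr hodd).pow_left j
    rw [hcop, pow_one] at h3
    exact hφ1 h3
  exact Cfsg.Agent.S4189.result hP hna h4 haut

end Cfsg.Agent.Lib.Helper3.NA8
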