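import Mathlib
import Cfsg.Agent.Lib.Helper3.NCSDefs

set_option autoImplicit false
set_option maxHeartbeats 4000000
set_option maxRecDepth 100000
set_option linter.unusedVariables false
set_option linter.unusedSectionVars false
set_option linter.style.longLine false
set_option linter.style.haveILetI false

namespace Cfsg.Agent.Lib.Helper3.NCS

open Cfsg.Agent.Lib.Helper7.TC

variable {G : Type*} [Group G] [Finite G]

theorem mem_center_of_sylow_center {N : Subgroup G} {m r : ℕ} [Fact r.Prime] (h : Hyp N m)
    (hrm : r ∣ m) (P : Sylow r G) (hPN : (P : Subgroup G) ≤ N) {w : G}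
    (hw : w ∈ (P : Subgroup G)) (hc : ∀ g ∈ (P : Subgroup G), g * w = w * g) :
    w ∈ Subgroup.center G := by
  by_contra hwZ
  have hidx : (cent w).index = m := index_eq h (hPN hw) hwZ
  have hle : (P : Subgroup G) ≤ cent w := fun g hg => mem_cent.mpr (hc g hg)
  have h1 : (cent w).index ∣ (P : Subgroup G).index := Subgroup.index_dvd_of_le hle
  rw [hidx] at h1
  exact P.not_dvd_index (hrm.trans h1)

theorem nilpotent_of_coprime_central {N : Subgroup G} {r : ℕ} [Fact r.Prime]
    (hall : ∀ y ∈ N, (orderOf y).Coprime r → y ∈ Subgroup.center G) : Group.IsNilpotent N := by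
  classical
  -- the central subgroup Z0 = (center G) ∩ N of N
  let Z0 : Subgroup N := (Subgroup.center G).subgroupOf N
  have hZ0 : Z0 ≤ Subgroup.center N := by
    intro z hz
    rw [Subgroup.mem_center_iff]
    intro g
    have hz' : (z : G) ∈ Subgroup.center G := Subgroup.mem_subgroupOf.mp hz
    apply Subtype.ext
    simp only [Subgroup.coe_mul]
    exact Subgroup.mem_center_iff.mp hz' g
  have hZ0n : Z0.Normal := by
    refine ⟨fun z hz g => ?_⟩
    have hc := Subgroup.mem_center_iff.mp (hZ0 hz) g
    have : g * z * g⁻¹ = z := by rw [hc, mul_inv_cancel_right]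
    rw [this]; exact hz
  -- the quotient is an r-group
  have hQ : IsPGroup r (N ⧸ Z0) := by
    intro q
    obtain ⟨g, rfl⟩ := QuotientGroup.mk_surjective q
    -- orderOf g = r^k * n with n coprime to r
    have hr : r.Prime := Fact.out
    have ho : orderOf g ≠ 0 := (orderOf_pos g).ne'
    obtain ⟨k, n, hn, hkn⟩ := Nat.exists_eq_pow_mul_and_not_dvd ho r hr.ne_one
    refine ⟨k, ?_⟩
    rw [← QuotientGroup.mk_pow, QuotientGroup.eq_one_iff]
    apply Subgroup.mem_subgroupOf.mpr
    have hcop : (orderOf ((g ^ r ^ k : N) : G)).Coprime r := by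
      rw [Subgroup.orderOf_coe, orderOf_pow' g (pow_ne_zero k hr.pos.ne'), hkn,
        Nat.gcd_eq_right (Dvd.intro n rfl), Nat.mul_div_cancel_left _ (pow_pos hr.pos k)]
      exact ((Nat.Prime.coprime_iff_not_dvd hr).mpr hn).symm
    exact hall _ (g ^ r ^ k : N).2 hcop
  haveI : Group.IsNilpotent (N ⧸ Z0) := hQ.isNilpotent
  refine Subgroup.isNilpotent_of_ker_le_center (QuotientGroup.mk' Z0) ?_
  rw [QuotientGroup.ker_mk']
  exact hZ0

end Cfsg.Agent.Lib.Helper3.NCS
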