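import Mathlib
import Cfsg.Agent.Lib.Helper3.NCSDefs
import Cfsg.Agent.Lib.Helper3.NCSP3
import Cfsg.Agent.Lib.Helper3.NCSP4a
import Cfsg.Agent.Lib.Helper9.NCSAb
import Cfsg.Agent.Lib.Helper8.NCSComp
import Cfsg.Agent.Lib.Helper4.NCSSemireg
import Cfsg.Agent.Lib.Helper7.NCSKCard
import Cfsg.Agent.Lib.Helper9.NCSSPart
import Cfsg.Agent.Lib.Helper8.NCSK5
import Cfsg.Agent.Lib.Helper1.SubnormalSylow

/-!
# S4135, piece P9: assembly

A normal subgroup `N` of `G`, all of whose elements have `G`-class size `1` or `m`, that contains a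
noncentral Sylow `r`-subgroup of `G`, is nilpotent.
-/

set_option autoImplicit false
set_option maxHeartbeats 4000000
set_option maxRecDepth 100000
set_option linter.unusedVariables false
set_option linter.unusedSectionVars false
set_option linter.style.longLine false
set_option linter.style.haveILetI false
set_option linter.unusedSimpArgs false
set_option linter.unnecessarySimpa false

namespace Cfsg.Agent.Lib.Helper3.NCS

open Cfsg.Agent.Lib.Helper7.TC

variable {G : Type*} [Group G] [Finite G]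

/-! ## P9 : assembly -/

theorem comm_nilpotent {N : Subgroup G} (hc : ∀ x ∈ N, ∀ y ∈ N, x * y = y * x) :
    Group.IsNilpotent N := by
  letI : CommGroup N :=
    { (inferInstance : Group N) with
      mul_comm := fun a b => Subtype.ext (hc a a.2 b b.2) }
  exact CommGroup.isNilpotent

theorem sylow_le_of_normal {r : ℕ} [Fact r.Prime] (R : Sylow r G) {N : Subgroup G} [N.Normal]
    (hRN : (R : Subgroup G) ≤ N) (P : Sylow r G) : (P : Subgroup G) ≤ N := by
  obtain ⟨g, rfl⟩ := MulAction.exists_smul_eq G R P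
  intro x hx
  rw [Sylow.coe_subgroup_smul, Subgroup.mem_pointwise_smul_iff_inv_smul_mem] at hx
  have h1 : (MulAut.conj g)⁻¹ • x ∈ N := hRN hx
  have h2 : g * ((MulAut.conj g)⁻¹ • x) * g⁻¹ ∈ N := ‹N.Normal›.conj_mem _ h1 g
  have h3 : g * ((MulAut.conj g)⁻¹ • x) * g⁻¹ = x := by
    simp [MulAut.smul_def, MulAut.conj_inv_apply]
    group
  rwa [h3] at h2

theorem sylow_not_central_of {r : ℕ} [Fact r.Prime] (R : Sylow r G)
    (hR : ¬ (R : Subgroup G) ≤ Subgroup.center G) (P : Sylow r G) :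
    ¬ (P : Subgroup G) ≤ Subgroup.center G := by
  intro hP
  apply hR
  obtain ⟨g, rfl⟩ := MulAction.exists_smul_eq G P R
  intro x hx
  rw [Sylow.coe_subgroup_smul, Subgroup.mem_pointwise_smul_iff_inv_smul_mem] at hx
  have h1 : (MulAut.conj g)⁻¹ • x ∈ Subgroup.center G := hP hx
  have h2 : g * ((MulAut.conj g)⁻¹ • x) * g⁻¹ ∈ Subgroup.center G :=
    (inferInstance : (Subgroup.center G).Normal).conj_mem _ h1 g
  have h3 : g * ((MulAut.conj g)⁻¹ • x) * g⁻¹ = x := by
    simp [MulAut.smul_def, MulAut.conj_inv_apply]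
    group
  rwa [h3] at h2

theorem main (r : ℕ) [Fact r.Prime] (R : Sylow r G)
    (hR : ¬ (R : Subgroup G) ≤ Subgroup.center G) (N : Subgroup G) [N.Normal]
    (hRN : (R : Subgroup G) ≤ N) (m : ℕ)
    (h : ∀ x ∈ N, (Subgroup.centralizer ({x} : Set G)).index = 1 ∨
      (Subgroup.centralizer ({x} : Set G)).index = m) : Group.IsNilpotent N := by
  classical
  have hr : r.Prime := Fact.out
  have hH : Hyp N m := ⟨inferInstance, h⟩
  by_cases hrm : r ∣ m
  swap
  · exact comm_nilpotent (comm_of_not_dvd hH R hRN hR hrm)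
  have hS : Setup N m r :=
    ⟨hH, hrm, sylow_le_of_normal R hRN, sylow_not_central_of R hR⟩
  by_cases hall : ∀ y ∈ N, (orderOf y).Coprime r → y ∈ Subgroup.center G
  · exact nilpotent_of_coprime_central hall
  push Not at hall
  obtain ⟨y, hyN, hyco, hyZ⟩ := hall
  have hy : IsComp N r y := ⟨hyN, hyZ, hyco⟩
  by_cases hNab : ∀ x ∈ N, ∀ y ∈ N, x * y = y * x
  · exact comm_nilpotent hNab
  exfalso
  obtain ⟨B, hB⟩ := exists_rPart hS hy
  obtain ⟨A, hA⟩ := exists_rPrimePart hS hy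
  have hAN : A ≤ N := fun x hx => ((hA x).mp hx).1
  have hAC : A ≤ cent y := fun x hx => ((hA x).mp hx).2.1
  have hyA : y ∈ A := (hA y).mpr ⟨hyN, self_mem_cent y, hyco⟩
  -- m ≠ 0
  have hm0 : m ≠ 0 := by
    rw [← index_eq hH hyN hyZ]
    exact Subgroup.index_ne_zero_of_finite
  -- the number a
  obtain ⟨a, ha⟩ : ∃ a : ℕ, a = (Subgroup.center G).relIndex A := ⟨_, rfl⟩
  have ha_dvd : a ∣ m := ha ▸ semireg_dvd hS hNab hy hAN hAC
  have ha0 : a ≠ 0 := fun h0 => hm0 (Nat.eq_zero_of_zero_dvd (h0 ▸ ha_dvd))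
  have ha1 : a ≠ 1 := by
    intro h1
    rw [ha, Subgroup.relIndex_eq_one] at h1
    exact hyZ (h1 hyA)
  -- cardinalities of A
  have hαζ : a * Nat.card (A ⊓ Subgroup.center G : Subgroup G) = Nat.card A := by
    rw [ha, inf_comm]
    exact Cfsg.Agent.Lib.Helper1.relIndex_mul_card_inf (Subgroup.center G) A
  have hrA : ¬ r ∣ Nat.card A := by
    intro hd
    obtain ⟨x, hx⟩ := exists_prime_orderOf_dvd_card' r hd
    have hxA := (hA (x : G)).mp x.2
    have hco := hxA.2.2
    rw [Subgroup.orderOf_coe, hx] at hco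
    rw [Nat.coprime_self] at hco
    exact hr.one_lt.ne' hco
  -- rd
  have hBc := rPart_card hS hy hB
  have hBz := rPart_center_card hS hy hB
  obtain ⟨b0, hb0B, hb0Z⟩ := rPart_exists_noncentral hS hy hB
  have hzb : zcard G r ∣ bcard G r m := by
    rw [← hBc, ← hBz]; exact Subgroup.card_dvd_of_le inf_le_left
  have hz0 : 0 < zcard G r := by unfold zcard; exact pow_pos hr.pos _
  obtain ⟨rd, hrd⟩ := hzb
  have hrd_div : bcard G r m / zcard G r = rd := by
    rw [hrd]; exact Nat.mul_div_cancel_left _ hz0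
  have hb_pos : 0 < bcard G r m := by unfold bcard; exact pow_pos hr.pos _
  have hrd2 : 2 ≤ rd := by
    by_contra hlt
    push Not at hlt
    have hrd0 : rd ≠ 0 := by
      intro h0; rw [h0, mul_zero] at hrd; omega
    have hrd1 : rd = 1 := by omega
    rw [hrd1, mul_one] at hrd
    -- then B ⊓ center = B
    have heq : (B ⊓ Subgroup.center G : Subgroup G) = B :=
      Subgroup.eq_of_le_of_card_ge inf_le_left (by rw [hBc, hBz, hrd])
    have hb0' : b0 ∈ (B ⊓ Subgroup.center G : Subgroup G) := by rw [heq]; exact hb0B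
    exact hb0Z hb0'.2
  -- a ∣ rd - 1
  have hprime : ∀ s : ℕ, s.Prime → s ∣ a → s ^ m.factorization s ∣ rd - 1 := by
    intro s hs hsa
    have hsr : s ≠ r := by
      rintro rfl
      exact hrA (hsa.trans (Dvd.intro _ hαζ))
    obtain ⟨g, hgA, hgZ, hgs⟩ := Cfsg.Agent.Lib.Helper7.IT.exists_q_elt hs (ha ▸ hsa)
    have := s_part_dvd hS hs hsr (hAN hgA) hgZ hgs
    rwa [hrd_div] at this
  have hrd1 : rd - 1 ≠ 0 := by omega
  have ha_rd : a ∣ rd - 1 := by
    rw [← Nat.factorization_le_iff_dvd ha0 hrd1]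
    intro s
    by_cases hs : s.Prime
    · by_cases hsa : s ∣ a
      · have h1 := hprime s hs hsa
        have h2 : a.factorization s ≤ m.factorization s :=
          (Nat.factorization_le_iff_dvd ha0 hm0).mpr ha_dvd s
        exact h2.trans ((hs.pow_dvd_iff_le_factorization hrd1).mp h1)
      · rw [Nat.factorization_eq_zero_of_not_dvd hsa]; exact Nat.zero_le _
    · rw [Nat.factorization_eq_zero_of_not_prime _ hs]; exact Nat.zero_le _
  have ha_le : a ≤ rd - 1 := Nat.le_of_dvd (Nat.pos_of_ne_zero hrd1) ha_rd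
  -- K
  obtain ⟨K, hK, hBK, hKB, hKle⟩ := exists_K hS hNab hy hB
  have hKd := K_card_dvd hS hy hB hA hK hBK hKB
  obtain ⟨k, hk⟩ : Nat.card B ∣ Nat.card K := Subgroup.card_dvd_of_le hBK
  rw [hBc] at hk hKd
  -- k is a power of r
  obtain ⟨j, hj⟩ := IsPGroup.iff_card.mp hK
  have hkpow : ∃ e : ℕ, k = r ^ e := by
    have hdvd : k ∣ r ^ j := by rw [← hj, hk]; exact Dvd.intro_left _ rfl
    obtain ⟨e, _, he⟩ := (Nat.dvd_prime_pow hr).mp hdvd
    exact ⟨e, he⟩
  obtain ⟨e, he⟩ := hkpow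
  -- k ∣ card A - ζ = ζ (a - 1)
  have hk1 : k ∣ Nat.card A - Nat.card (A ⊓ Subgroup.center G : Subgroup G) := by
    rw [hk] at hKd
    exact Nat.dvd_of_mul_dvd_mul_left hb_pos hKd
  obtain ⟨ζ, hζ⟩ : ∃ ζ : ℕ, ζ = Nat.card (A ⊓ Subgroup.center G : Subgroup G) := ⟨_, rfl⟩
  rw [← hζ] at hk1 hαζ
  have hdiff : Nat.card A - ζ = ζ * (a - 1) := by
    rw [← hαζ]
    have : 1 ≤ a := Nat.pos_of_ne_zero ha0
    rw [Nat.mul_sub, mul_one, mul_comm]
  rw [hdiff] at hk1
  have hcop : Nat.Coprime k ζ := by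
    rw [he]
    apply Nat.Coprime.pow_left
    rw [Nat.Prime.coprime_iff_not_dvd hr]
    intro hd
    exact hrA (hd.trans (Dvd.intro_left _ hαζ))
  have hk2 : k ∣ a - 1 := hcop.dvd_of_dvd_mul_left hk1
  have ha2 : 2 ≤ a := by omega
  have hk_le : k ≤ a - 1 := Nat.le_of_dvd (by omega) hk2
  -- rd ≤ k
  have hrd_le : rd ≤ k := by
    rw [hk] at hKle
    -- bcard * bcard ≤ bcard * k * zcard
    have h1 : bcard G r m * bcard G r m ≤ bcard G r m * (k * zcard G r) := by
      rw [← mul_assoc]; exact hKle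
    have h2 : bcard G r m ≤ k * zcard G r := Nat.le_of_mul_le_mul_left h1 hb_pos
    rw [hrd, mul_comm k] at h2
    exact Nat.le_of_mul_le_mul_left h2 hz0
  omega

end Cfsg.Agent.Lib.Helper3.NCS
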