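import Mathlib

/-!
# S3921: groups whose non-cyclic subgroups are self-centralizing — base definitions
-/

set_option autoImplicit false
set_option maxHeartbeats 4000000
set_option maxRecDepth 100000
set_option linter.unusedVariables false
set_option linter.unusedSectionVars false
set_option linter.style.longLine false
set_option linter.style.haveILetI false
set_option linter.deprecated false
set_option linter.unusedSimpArgs false

namespace Cfsg.Agent.Lib.Helper3.NCyc

/-- every non-cyclic subgroup contains its centralizer -/
def SelfCent (G : Type*) [Group G] : Prop :=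
  ∀ H : Subgroup G, ¬ IsCyclic ↥H → Subgroup.centralizer (H : Set G) ≤ H

variable {G : Type*} [Group G]

theorem selfCent_iff : SelfCent G ↔
    ∀ H : Subgroup G, ¬ IsCyclic ↥H → Subgroup.centralizer (H : Set G) ≤ H := Iff.rfl

/-- usable form: an element commuting with a non-cyclic subgroup lies in it -/
theorem SelfCent.mem (h : SelfCent G) (H : Subgroup G) (hH : ¬ IsCyclic ↥H) {c : G}
    (hc : ∀ x ∈ H, x * c = c * x) : c ∈ H := by
  apply h H hH
  rw [Subgroup.mem_centralizer_iff]
  intro x hx
  exact hc x hx

/-- the property passes to subgroups -/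
theorem SelfCent.subgroup (h : SelfCent G) (K : Subgroup G) : SelfCent ↥K := by
  intro H hH c hc
  have hH' : ¬ IsCyclic ↥(H.map K.subtype) := by
    intro hcyc
    apply hH
    exact isCyclic_of_surjective (H.equivMapOfInjective K.subtype K.subtype_injective).symm.toMonoidHom
      (H.equivMapOfInjective K.subtype K.subtype_injective).symm.surjective
  have hc' : (c : G) ∈ H.map K.subtype := by
    apply h.mem _ hH'
    rintro _ ⟨x, hx, rfl⟩
    have := (Subgroup.mem_centralizer_iff.1 hc) x hx
    have h2 := congrArg Subtype.val this
    simpa using h2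
  obtain ⟨x, hx, hxc⟩ := hc'
  have : x = c := Subtype.ext hxc
  rw [← this]; exact hx

/-- the property is invariant under isomorphism -/
theorem SelfCent.of_equiv {G' : Type*} [Group G'] (e : G ≃* G') (h : SelfCent G) : SelfCent G' := by
  intro H hH c hc
  have hH' : ¬ IsCyclic ↥(H.comap e.toMonoidHom) := by
    intro hcyc
    apply hH
    have hsurj : Function.Surjective ((e.toMonoidHom).subgroupComap H) :=
      (e.toMonoidHom).subgroupComap_surjective_of_surjective H e.surjective
    exact isCyclic_of_surjective _ hsurj
  have hc' : e.symm c ∈ H.comap e.toMonoidHom := by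
    apply h.mem _ hH'
    intro x hx
    have hx' : e x ∈ H := hx
    have := (Subgroup.mem_centralizer_iff.1 hc) (e x) hx'
    apply e.injective
    rw [map_mul, map_mul, e.apply_symm_apply]
    exact this
  have : e (e.symm c) ∈ H := hc'
  rwa [e.apply_symm_apply] at this

theorem selfCent_congr {G' : Type*} [Group G'] (e : G ≃* G') : SelfCent G ↔ SelfCent G' :=
  ⟨fun h => h.of_equiv e, fun h => h.of_equiv e.symm⟩

end Cfsg.Agent.Lib.Helper3.NCyc
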