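import Mathlib
import Cfsg.Prelude.Def_CaseTheorems
import Cfsg.Agent.Lib.Helper7.PCoreSub
import Cfsg.Agent.Lib.Helper1.Nilpotent
import Cfsg.Agent.Lib.Helper1.CoprimeGenCentralizers

set_option autoImplicit false

namespace Cfsg.Agent.Lib.Helper3.NG

open Cfsg Cfsg.Agent.Lib.Helper7

variable {G : Type*} [Group G]

theorem zpowers_sq_one {u : G} (hu2 : u * u = 1) {x : G} (hx : x ∈ Subgroup.zpowers u) :
    x * x = 1 := by
  obtain ⟨k, rfl⟩ := Subgroup.mem_zpowers_iff.mp hx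
  rw [← zpow_add, ← two_mul, zpow_mul]
  have : u ^ (2 : ℤ) = 1 := by
    rw [zpow_ofNat, pow_two]; exact hu2
  rw [this, one_zpow]

theorem zpowers_comm {u g : G} (h : g * u = u * g) {x : G} (hx : x ∈ Subgroup.zpowers u) :
    g * x = x * g := by
  obtain ⟨k, rfl⟩ := Subgroup.mem_zpowers_iff.mp hx
  have hc : Commute g u := h
  exact (hc.zpow_right k).eq

/-- Lemma A: a normal four-subgroup of a Sylow 2-subgroup containing a central involution lies in
`O_2` of a group of characteristic 2. -/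
theorem le_pCoreIn_of_four [Finite G] {N U : Subgroup G} {u : G}
    (hchar : Subgroup.centralizer (pCore 2 ↥N : Set ↥N) ≤ pCore 2 ↥N)
    (huN : ∀ g ∈ N, g * u = u * g) (hu2 : u * u = 1)
    (huU : u ∈ U) (hUN : U ≤ N)
    (hUmax : ∀ V : Subgroup G, V ≤ U → u ∈ V → V ≠ U → V ≤ Subgroup.zpowers u)
    (hRU : pCoreIn 2 N ≤ Subgroup.normalizer (U : Set G)) :
    U ≤ pCoreIn 2 N := by
  classical
  by_contra hnot
  have hNR : N ≤ Subgroup.normalizer (pCoreIn 2 N : Set G) := le_normalizer_pCoreIn 2 N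
  have hconjR : ∀ g ∈ N, ∀ r ∈ pCoreIn 2 N, g * r * g⁻¹ ∈ pCoreIn 2 N := by
    intro g hg r hr
    exact (Subgroup.mem_normalizer_iff.mp (hNR hg) r).mp hr
  -- u ∈ R
  have huR : u ∈ pCoreIn 2 N := by
    have hle : Subgroup.zpowers u ≤ pCoreIn 2 N := by
      apply le_pCoreIn
      · rw [Subgroup.zpowers_le]; exact hUN huU
      · intro ⟨x, hx⟩
        refine ⟨1, ?_⟩
        apply Subtype.ext
        simp only [pow_one, Subgroup.coe_pow, Subgroup.coe_one]
        rw [pow_two]; exact zpowers_sq_one hu2 hx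
      · intro g hg
        apply Subgroup.centralizer_le_normalizer
        rw [Subgroup.mem_centralizer_iff]
        intro x hx
        exact (zpowers_comm (huN g hg) hx).symm
    exact hle (Subgroup.mem_zpowers u)
  have hV : pCoreIn 2 N ⊓ U ≤ Subgroup.zpowers u := by
    apply hUmax _ inf_le_right ⟨huR, huU⟩
    intro h
    apply hnot
    rw [← h]; exact inf_le_left
  have key : ∀ r ∈ pCoreIn 2 N, ∀ v ∈ U, v * r * v⁻¹ * r⁻¹ ∈ Subgroup.zpowers u := by
    intro r hr v hv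
    apply hV
    constructor
    · exact Subgroup.mul_mem _ (hconjR v (hUN hv) r hr) (Subgroup.inv_mem _ hr)
    · have h1 : r * v⁻¹ * r⁻¹ ∈ U :=
        (Subgroup.mem_normalizer_iff.mp (hRU hr) v⁻¹).mp (U.inv_mem hv)
      have : v * r * v⁻¹ * r⁻¹ = v * (r * v⁻¹ * r⁻¹) := by group
      rw [this]; exact U.mul_mem hv h1
  -- the subgroup N₀
  let N₀ : Subgroup G :=
    { carrier := {g | g ∈ N ∧ ∀ r ∈ pCoreIn 2 N, g * r * g⁻¹ * r⁻¹ ∈ Subgroup.zpowers u}
      one_mem' := by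
        refine ⟨N.one_mem, ?_⟩
        intro r _
        simp
      mul_mem' := by
        rintro g h ⟨hgN, hg⟩ ⟨hhN, hh⟩
        refine ⟨N.mul_mem hgN hhN, ?_⟩
        intro r hr
        have e : g * h * r * (g * h)⁻¹ * r⁻¹ =
            (g * (h * r * h⁻¹ * r⁻¹) * g⁻¹) * (g * r * g⁻¹ * r⁻¹) := by group
        rw [e]
        apply Subgroup.mul_mem _ _ (hg r hr)
        have hz := hh r hr
        have : g * (h * r * h⁻¹ * r⁻¹) * g⁻¹ = h * r * h⁻¹ * r⁻¹ := by
          rw [zpowers_comm (huN g hgN) hz]; group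
        rw [this]; exact hz
      inv_mem' := by
        rintro g ⟨hgN, hg⟩
        refine ⟨N.inv_mem hgN, ?_⟩
        intro r hr
        have hr' : g⁻¹ * r * g ∈ pCoreIn 2 N := by
          have := hconjR g⁻¹ (N.inv_mem hgN) r hr
          simpa using this
        have hz := hg _ hr'
        have e : g⁻¹ * r * g⁻¹⁻¹ * r⁻¹ = (g * (g⁻¹ * r * g) * g⁻¹ * (g⁻¹ * r * g)⁻¹)⁻¹ := by group
        rw [e]
        exact Subgroup.inv_mem _ hz }
  have hN₀mem : ∀ g, g ∈ N₀ ↔ (g ∈ N ∧ ∀ r ∈ pCoreIn 2 N, g * r * g⁻¹ * r⁻¹ ∈ Subgroup.zpowers u) :=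
    fun g => Iff.rfl
  have hUN₀ : U ≤ N₀ := by
    intro v hv
    rw [hN₀mem]
    exact ⟨hUN hv, fun r hr => key r hr v hv⟩
  have hN₀N : N₀ ≤ N := fun g hg => ((hN₀mem g).mp hg).1
  have hN₀norm : N ≤ Subgroup.normalizer (N₀ : Set G) := by
    intro n hn
    apply Subgroup.mem_normalizer_fintype
    intro g hg
    have hg' := (hN₀mem g).mp hg
    show n * g * n⁻¹ ∈ N₀
    rw [hN₀mem]
    refine ⟨N.mul_mem (N.mul_mem hn hg'.1) (N.inv_mem hn), ?_⟩
    intro r hr
    have hr' : n⁻¹ * r * n ∈ pCoreIn 2 N := by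
      have := hconjR n⁻¹ (N.inv_mem hn) r hr
      simpa using this
    have hz := hg'.2 _ hr'
    have e : n * g * n⁻¹ * r * (n * g * n⁻¹)⁻¹ * r⁻¹ =
        n * (g * (n⁻¹ * r * n) * g⁻¹ * (n⁻¹ * r * n)⁻¹) * n⁻¹ := by group
    rw [e, zpowers_comm (huN n hn) hz]
    have : g * (n⁻¹ * r * n) * g⁻¹ * (n⁻¹ * r * n)⁻¹ * n * n⁻¹ =
        g * (n⁻¹ * r * n) * g⁻¹ * (n⁻¹ * r * n)⁻¹ := by group
    rw [this]; exact hz
  have hN₀p : IsPGroup 2 ↥N₀ := by
    intro ⟨g, hg⟩
    have hg' := (hN₀mem g).mp hg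
    have hg2 : g * g ∈ pCoreIn 2 N := by
      apply mem_pCoreIn_of_centralizes hchar (N.mul_mem hg'.1 hg'.1)
      intro r hr
      have hz := hg'.2 r hr
      set z := g * r * g⁻¹ * r⁻¹ with hzdef
      have h1 : g * r = z * r * g := by rw [hzdef]; group
      have hzg : g * z = z * g := zpowers_comm (huN g hg'.1) hz
      have hzz : z * z = 1 := zpowers_sq_one hu2 hz
      calc r * (g * g) = (z * z) * r * (g * g) := by rw [hzz, one_mul]
        _ = z * (z * r * g) * g := by group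
        _ = z * (g * r) * g := by rw [h1]
        _ = (z * g) * r * g := by group
        _ = (g * z) * r * g := by rw [hzg]
        _ = g * (z * r * g) := by group
        _ = g * (g * r) := by rw [h1]
        _ = g * g * r := by group
    obtain ⟨k, hk⟩ := pCoreIn_isPGroup 2 N ⟨g * g, hg2⟩
    refine ⟨k + 1, ?_⟩
    apply Subtype.ext
    have hk' : (g * g) ^ 2 ^ k = 1 := by
      have := congrArg Subtype.val hk
      simpa using this
    simp only [Subgroup.coe_pow, Subgroup.coe_one]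
    rw [pow_succ, mul_comm, pow_mul, pow_two]
    exact hk'
  have : N₀ ≤ pCoreIn 2 N := le_pCoreIn hN₀N hN₀p hN₀norm
  exact hnot (hUN₀.trans this)

/-- Lemma B. -/
theorem commute_of_le_pCoreIn [Finite G] {N U D : Subgroup G} (hU : U ≤ pCoreIn 2 N) (hDN : D ≤ N)
    (hD : Odd (Nat.card D)) (hUD : U ≤ Subgroup.normalizer (D : Set G)) :
    ∀ v ∈ U, ∀ d ∈ D, v * d = d * v := by
  intro v hv d hd
  have hNR : N ≤ Subgroup.normalizer (pCoreIn 2 N : Set G) := le_normalizer_pCoreIn 2 N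
  have hdis : D ⊓ pCoreIn 2 N = ⊥ := by
    apply (Subgroup.disjoint_of_coprime_natCard ?_).eq_bot
    have : Fact (Nat.Prime 2) := ⟨Nat.prime_two⟩
    obtain ⟨n, hn⟩ := (IsPGroup.iff_card).mp (pCoreIn_isPGroup 2 N)
    rw [hn]
    apply Nat.Coprime.pow_right
    exact Nat.Coprime.symm (Nat.coprime_two_left.mpr hD)
  have hc : d * v * d⁻¹ * v⁻¹ ∈ D ⊓ pCoreIn 2 N := by
    constructor
    · have h1 : v * d⁻¹ * v⁻¹ ∈ D :=
        (Subgroup.mem_normalizer_iff.mp (hUD hv) d⁻¹).mp (D.inv_mem hd)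
      have : d * v * d⁻¹ * v⁻¹ = d * (v * d⁻¹ * v⁻¹) := by group
      rw [this]; exact D.mul_mem hd h1
    · have h1 : d * v * d⁻¹ ∈ pCoreIn 2 N :=
        (Subgroup.mem_normalizer_iff.mp (hNR (hDN hd)) v).mp (hU hv)
      exact Subgroup.mul_mem _ h1 (Subgroup.inv_mem _ (hU hv))
  rw [hdis, Subgroup.mem_bot] at hc
  have : d * v = v * d := by
    have h2 : d * v * d⁻¹ * v⁻¹ * (v * d) = v * d := by rw [hc, one_mul]
    rw [← h2]; group
  exact this.symm

end Cfsg.Agent.Lib.Helper3.NG
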