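import Cfsg.Agent.Lib.Helper3.NG2

set_option autoImplicit false

namespace Cfsg.Agent.Lib.Helper3.NG

open Cfsg Cfsg.Agent.Lib.Helper7

variable {G : Type*} [Group G]

/-- In a finite cyclic group (given as a subgroup), an element of square one is `1` or a given
nontrivial element of square one. -/
theorem cyclic_sq_one {Z : Subgroup G} [Finite G] (hZ : IsCyclic ↥Z) {z m : G} (hz : z ∈ Z) (hm : m ∈ Z)
    (hz1 : z ≠ 1) (hzz : z * z = 1) (hmm : m * m = 1) : m = 1 ∨ m = z := by
  classical
  by_contra hcon
  push Not at hcon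
  haveI : Fintype ↥Z := Fintype.ofFinite _
  have hle := IsCyclic.card_pow_eq_one_le (α := ↥Z) (n := 2) (by norm_num)
  have hsub : ({1, ⟨z, hz⟩, ⟨m, hm⟩} : Finset ↥Z) ⊆
      Finset.univ.filter (fun a : ↥Z => a ^ 2 = 1) := by
    intro a ha
    simp only [Finset.mem_insert, Finset.mem_singleton] at ha
    simp only [Finset.mem_filter, Finset.mem_univ, true_and]
    rcases ha with rfl | rfl | rfl
    · simp
    · apply Subtype.ext; simp [pow_two, hzz]
    · apply Subtype.ext; simp [pow_two, hmm]
  have hcard : ({1, ⟨z, hz⟩, ⟨m, hm⟩} : Finset ↥Z).card = 3 := by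
    rw [Finset.card_insert_of_notMem, Finset.card_insert_of_notMem, Finset.card_singleton]
    · simp only [Finset.mem_singleton]
      intro h
      exact hcon.2 (congrArg Subtype.val h).symm
    · simp only [Finset.mem_insert, Finset.mem_singleton, not_or]
      constructor
      · intro h
        exact hz1 (congrArg Subtype.val h).symm
      · intro h
        exact hcon.1 (congrArg Subtype.val h).symm
  have := Finset.card_le_card hsub
  omega

theorem pCoreIn_le_normalizer_four [Finite G] (P : Sylow 2 G) (U : Subgroup G) [IsKleinFour ↥U]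
    (hUP : U ≤ (P : Subgroup G)) (hUn : (P : Subgroup G) ≤ Subgroup.normalizer (U : Set G))
    (hUZ : ¬ IsCyclic ↥((P : Subgroup G) ⊓ Subgroup.centralizer ((P : Subgroup G) : Set G)) →
      U ≤ Subgroup.centralizer ((P : Subgroup G) : Set G))
    {u : G} (hu : u ∈ U) (hu1 : u ≠ 1) :
    pCoreIn 2 (Subgroup.normalizer (Subgroup.zpowers u : Set G)) ≤
      Subgroup.normalizer (U : Set G) := by
  classical
  haveI : Fact (Nat.Prime 2) := ⟨Nat.prime_two⟩
  set N := Subgroup.normalizer (Subgroup.zpowers u : Set G) with hN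
  have hu2 : u * u = 1 := four_sq hu
  by_cases hcase : ∀ x ∈ (P : Subgroup G), x * u = u * x
  · -- Case 1
    have hPN : (P : Subgroup G) ≤ N := fun x hx => centralizer_le_normalizer_zpowers (hcase x hx)
    have := pCoreIn_le_sylow (P.subtype hPN)
    rw [Sylow.coe_subtype, Subgroup.subgroupOf_map_subtype] at this
    exact (this.trans inf_le_left).trans hUn
  · push Not at hcase
    obtain ⟨x₀, hx₀P, hx₀u⟩ := hcase
    have hcyc : IsCyclic ↥((P : Subgroup G) ⊓ Subgroup.centralizer ((P : Subgroup G) : Set G)) := by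
      by_contra h
      have h1 := hUZ h hu
      rw [Subgroup.mem_centralizer_iff] at h1
      exact hx₀u (h1 x₀ hx₀P)
    -- the central involution z
    haveI : Group.IsNilpotent ↥(P : Subgroup G) := P.isPGroup'.isNilpotent
    haveI : (U.subgroupOf (P : Subgroup G)).Normal :=
      (Subgroup.normal_subgroupOf_iff_le_normalizer hUP).mpr hUn
    have hne : U.subgroupOf (P : Subgroup G) ≠ ⊥ := by
      intro h
      have : (⟨u, hUP hu⟩ : ↥(P : Subgroup G)) ∈ U.subgroupOf (P : Subgroup G) :=
        Subgroup.mem_subgroupOf.mpr hu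
      rw [h, Subgroup.mem_bot] at this
      exact hu1 (congrArg Subtype.val this)
    have hz0 := Cfsg.Agent.Lib.Helper1.normal_inf_center_ne_bot (U.subgroupOf (P : Subgroup G)) hne
    obtain ⟨⟨⟨z, hzP⟩, hzU, hzc⟩, hz1⟩ := (Subgroup.ne_bot_iff_exists_ne_one).mp hz0
    have hzU' : z ∈ U := Subgroup.mem_subgroupOf.mp hzU
    have hz1' : z ≠ 1 := by
      intro h
      apply hz1
      apply Subtype.ext
      apply Subtype.ext
      exact h
    have hzcen : ∀ x ∈ (P : Subgroup G), x * z = z * x := by
      intro x hx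
      exact congrArg Subtype.val (Subgroup.mem_center_iff.mp hzc ⟨x, hx⟩)
    have hzz : z * z = 1 := four_sq hzU'
    have hzu : z ≠ u := by
      intro h
      rw [← h] at hx₀u
      exact hx₀u (hzcen x₀ hx₀P)
    have helts := four_elts hzU' hu hz1' hu1 hzu
    have hconj : ∀ x ∈ (P : Subgroup G), x * u * x⁻¹ = u ∨ x * u * x⁻¹ = z * u := by
      intro x hx
      have h1 : x * u * x⁻¹ ∈ U := (Subgroup.mem_normalizer_iff.mp (hUn hx) u).mp hu
      rcases helts _ h1 with h | h | h | h
      · exfalso
        apply hu1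
        have : u = x⁻¹ * (x * u * x⁻¹) * x := by group
        rw [this, h]; group
      · exfalso
        apply hzu
        have e : u = x⁻¹ * (x * u * x⁻¹) * x := by group
        rw [e, h]
        have := hzcen x⁻¹ (Subgroup.inv_mem _ hx)
        rw [this]; group
      · left; exact h
      · right; exact h
    have hconj' : ∀ x ∈ (P : Subgroup G), x * u ≠ u * x → x * u * x⁻¹ = z * u := by
      intro x hx hne
      rcases hconj x hx with h | h
      · exfalso
        apply hne
        calc x * u = (x * u * x⁻¹) * x := by group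
          _ = u * x := by rw [h]
      · exact h
    set P₁ : Subgroup G := (P : Subgroup G) ⊓ Subgroup.centralizer ({u} : Set G) with hP₁
    have hP₁mem : ∀ x, x ∈ P₁ ↔ x ∈ (P : Subgroup G) ∧ x * u = u * x := by
      intro x
      rw [hP₁, Subgroup.mem_inf, Subgroup.mem_centralizer_singleton_iff]
    have hx₀notin : x₀ ∉ P₁ := fun h => hx₀u ((hP₁mem x₀).mp h).2
    have hcoset : ∀ x ∈ (P : Subgroup G), x ∈ P₁ ∨ x₀⁻¹ * x ∈ P₁ := by
      intro x hx
      by_cases hxu : x * u = u * x
      · left; exact (hP₁mem x).mpr ⟨hx, hxu⟩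
      · right
        rw [hP₁mem]
        refine ⟨Subgroup.mul_mem _ (Subgroup.inv_mem _ hx₀P) hx, ?_⟩
        have h1 := hconj' x hx hxu
        have h2 := hconj' x₀ hx₀P hx₀u
        calc x₀⁻¹ * x * u = x₀⁻¹ * (x * u * x⁻¹) * x := by group
          _ = x₀⁻¹ * (x₀ * u * x₀⁻¹) * x := by rw [h1, h2]
          _ = u * (x₀⁻¹ * x) := by group
    have hP₁U : ∀ a ∈ P₁, ∀ v ∈ U, a * v = v * a := by
      intro a ha v hv
      have ha' := (hP₁mem a).mp ha
      rcases helts v hv with h | h | h | h
      · rw [h]; simp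
      · rw [h]; exact hzcen a ha'.1
      · rw [h]; exact ha'.2
      · rw [h]
        calc a * (z * u) = (a * z) * u := by group
          _ = z * (a * u) := by rw [hzcen a ha'.1]; group
          _ = z * u * a := by rw [ha'.2]; group
    have hP₁norm : ∀ x ∈ (P : Subgroup G), ∀ a ∈ P₁, x * a * x⁻¹ ∈ P₁ := by
      intro x hx a ha
      have ha' := (hP₁mem a).mp ha
      rw [hP₁mem]
      refine ⟨Subgroup.mul_mem _ (Subgroup.mul_mem _ hx ha'.1) (Subgroup.inv_mem _ hx), ?_⟩
      have hc : x⁻¹ * u * x ∈ U := by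
        have := (Subgroup.mem_normalizer_iff.mp (hUn (Subgroup.inv_mem _ hx)) u).mp hu
        simpa using this
      have hac := hP₁U a ha _ hc
      calc x * a * x⁻¹ * u = x * (a * (x⁻¹ * u * x)) * x⁻¹ := by group
        _ = x * ((x⁻¹ * u * x) * a) * x⁻¹ := by rw [hac]
        _ = u * (x * a * x⁻¹) := by group
    have hx₀sq : x₀ * x₀ ∈ P₁ := by
      rcases hcoset (x₀ * x₀) (Subgroup.mul_mem _ hx₀P hx₀P) with h | h
      · exact h
      · exfalso
        apply hx₀notin
        have : x₀⁻¹ * (x₀ * x₀) = x₀ := by group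
        rw [this] at h; exact h
    have huP₁ : u ∈ P₁ := (hP₁mem u).mpr ⟨hUP hu, rfl⟩
    have hZinv : ∀ m ∈ (P : Subgroup G), (∀ x ∈ (P : Subgroup G), x * m = m * x) → m * m = 1 →
        m = 1 ∨ m = z := by
      intro m hmP hmc hmm
      refine cyclic_sq_one hcyc (z := z) (m := m) ⟨hzP, ?_⟩ ⟨hmP, ?_⟩ hz1' hzz hmm
      · exact Subgroup.mem_centralizer_iff.mpr hzcen
      · exact Subgroup.mem_centralizer_iff.mpr hmc
    -- step (i)
    have hstep : ∀ w ∈ P₁, w * w = 1 → (∀ a ∈ P₁, a * w = w * a) → x₀ * w * x₀⁻¹ = w →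
        w = 1 ∨ w = z := by
      intro w hw hww hwc hwx
      have hx₀w : x₀ * w = w * x₀ := by
        calc x₀ * w = (x₀ * w * x₀⁻¹) * x₀ := by group
          _ = w * x₀ := by rw [hwx]
      apply hZinv w ((hP₁mem w).mp hw).1 _ hww
      intro x hx
      rcases hcoset x hx with h | h
      · exact hwc x h
      · have h1 := hwc _ h
        calc x * w = x₀ * (x₀⁻¹ * x * w) := by group
          _ = x₀ * (w * (x₀⁻¹ * x)) := by rw [h1]
          _ = (x₀ * w) * (x₀⁻¹ * x) := by group
          _ = w * x := by rw [hx₀w]; group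
    have hW : ∀ w ∈ P₁, w * w = 1 → (∀ a ∈ P₁, a * w = w * a) → w ∈ U := by
      intro w hw hww hwc
      have hw'mem : x₀ * w * x₀⁻¹ ∈ P₁ := hP₁norm x₀ hx₀P w hw
      have hw'c : ∀ a ∈ P₁, a * (x₀ * w * x₀⁻¹) = (x₀ * w * x₀⁻¹) * a := by
        intro a ha
        have ha' : x₀⁻¹ * a * x₀ ∈ P₁ := by
          have := hP₁norm x₀⁻¹ (Subgroup.inv_mem _ hx₀P) a ha
          simpa using this
        have h1 := hwc _ ha'
        calc a * (x₀ * w * x₀⁻¹) = x₀ * (x₀⁻¹ * a * x₀ * w) * x₀⁻¹ := by group
          _ = x₀ * (w * (x₀⁻¹ * a * x₀)) * x₀⁻¹ := by rw [h1]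
          _ = (x₀ * w * x₀⁻¹) * a := by group
      have hww' : w * (x₀ * w * x₀⁻¹) = (x₀ * w * x₀⁻¹) * w := (hwc _ hw'mem).symm
      have hw'w' : (x₀ * w * x₀⁻¹) * (x₀ * w * x₀⁻¹) = 1 := by
        calc (x₀ * w * x₀⁻¹) * (x₀ * w * x₀⁻¹) = x₀ * (w * w) * x₀⁻¹ := by group
          _ = 1 := by rw [hww]; group
      -- m = w * w'
      have hm := hstep (w * (x₀ * w * x₀⁻¹)) (Subgroup.mul_mem _ hw hw'mem)
        (by
          calc w * (x₀ * w * x₀⁻¹) * (w * (x₀ * w * x₀⁻¹))
              = w * ((x₀ * w * x₀⁻¹) * w) * (x₀ * w * x₀⁻¹) := by group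
            _ = w * (w * (x₀ * w * x₀⁻¹)) * (x₀ * w * x₀⁻¹) := by rw [hww']
            _ = (w * w) * ((x₀ * w * x₀⁻¹) * (x₀ * w * x₀⁻¹)) := by group
            _ = 1 := by rw [hww, hw'w', one_mul])
        (by
          intro a ha
          calc a * (w * (x₀ * w * x₀⁻¹)) = (a * w) * (x₀ * w * x₀⁻¹) := by group
            _ = w * (a * (x₀ * w * x₀⁻¹)) := by rw [hwc a ha]; group
            _ = w * (x₀ * w * x₀⁻¹) * a := by rw [hw'c a ha]; group)
        (by
          have h1 := hwc _ hx₀sq
          calc x₀ * (w * (x₀ * w * x₀⁻¹)) * x₀⁻¹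
              = (x₀ * w * x₀⁻¹) * ((x₀ * x₀ * w) * (x₀ * x₀)⁻¹) := by group
            _ = (x₀ * w * x₀⁻¹) * ((w * (x₀ * x₀)) * (x₀ * x₀)⁻¹) := by rw [h1]
            _ = (x₀ * w * x₀⁻¹) * w := by group
            _ = w * (x₀ * w * x₀⁻¹) := hww'.symm)
      rcases hm with hm | hm
      · -- w' = w
        have hwx : x₀ * w * x₀⁻¹ = w := by
          calc x₀ * w * x₀⁻¹ = (w * w) * (x₀ * w * x₀⁻¹) := by rw [hww, one_mul]
            _ = w * (w * (x₀ * w * x₀⁻¹)) := by group
            _ = w := by rw [hm, mul_one]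
        rcases hstep w hw hww hwc hwx with h | h
        · rw [h]; exact U.one_mem
        · rw [h]; exact hzU'
      · -- w * w' = z ; consider w * u
        have hw' : x₀ * w * x₀⁻¹ = w * z := by
          calc x₀ * w * x₀⁻¹ = (w * w) * (x₀ * w * x₀⁻¹) := by rw [hww, one_mul]
            _ = w * (w * (x₀ * w * x₀⁻¹)) := by group
            _ = w * z := by rw [hm]
        have huw : u * w = w * u := hwc u huP₁
        have hzw : z * w = w * z := (hzcen w ((hP₁mem w).mp hw).1).symm
        have hzu' : z * u = u * z := (hzcen u (hUP hu)).symm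
        have h2 := hstep (w * u) (Subgroup.mul_mem _ hw huP₁)
          (by
            calc w * u * (w * u) = w * (u * w) * u := by group
              _ = w * (w * u) * u := by rw [huw]
              _ = (w * w) * (u * u) := by group
              _ = 1 := by rw [hww, hu2, one_mul])
          (by
            intro a ha
            have hau := ((hP₁mem a).mp ha).2
            calc a * (w * u) = (a * w) * u := by group
              _ = w * (a * u) := by rw [hwc a ha]; group
              _ = w * u * a := by rw [hau]; group)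
          (by
            have hxu := hconj' x₀ hx₀P hx₀u
            calc x₀ * (w * u) * x₀⁻¹ = (x₀ * w * x₀⁻¹) * (x₀ * u * x₀⁻¹) := by group
              _ = (w * z) * (z * u) := by rw [hw', hxu]
              _ = w * (z * z) * u := by group
              _ = w * u := by rw [hzz, mul_one])
        have hwu : w = (w * u) * u := by
          calc w = w * (u * u) := by rw [hu2, mul_one]
            _ = (w * u) * u := by group
        rcases h2 with h | h
        · rw [hwu, h, one_mul]; exact hu
        · rw [hwu, h]; exact U.mul_mem hzU' hu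
    -- the Sylow part
    have hP₁N : P₁ ≤ N := fun a ha => centralizer_le_normalizer_zpowers ((hP₁mem a).mp ha).2
    have hP₁p : IsPGroup 2 ↥P₁ := P.isPGroup'.to_le inf_le_left
    obtain ⟨T, hT⟩ := IsPGroup.exists_le_sylow (hP₁p.comap_subtype (K := N))
    set S : Subgroup G := (T : Subgroup ↥N).map N.subtype with hS
    have hRS : pCoreIn 2 N ≤ S := pCoreIn_le_sylow T
    have hP₁S : P₁ ≤ S := by
      intro a ha
      exact ⟨⟨a, hP₁N ha⟩, hT (Subgroup.mem_subgroupOf.mpr ha), rfl⟩
    have hSp : IsPGroup 2 ↥S := T.isPGroup'.map _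
    refine hRS.trans ?_
    -- S normalizes P₁
    have hSnormP₁ : S ≤ Subgroup.normalizer (P₁ : Set G) := by
      by_cases hSP₁ : S ≤ P₁
      · exact hSP₁.trans Subgroup.le_normalizer
      · -- card computations
        have hidx : (P₁.subgroupOf (P : Subgroup G)).index = 2 := by
          rw [Subgroup.index_eq_two_iff]
          refine ⟨⟨x₀, hx₀P⟩, ?_⟩
          rintro ⟨b, hbP⟩
          rw [Subgroup.mem_subgroupOf, Subgroup.mem_subgroupOf]
          show Xor (b * x₀ ∈ P₁) (b ∈ P₁)
          by_cases hb : b ∈ P₁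
          · right
            refine ⟨hb, ?_⟩
            intro h
            apply hx₀notin
            have : x₀ = b⁻¹ * (b * x₀) := by group
            rw [this]; exact Subgroup.mul_mem _ (Subgroup.inv_mem _ hb) h
          · left
            refine ⟨?_, hb⟩
            rw [hP₁mem]
            refine ⟨Subgroup.mul_mem _ hbP hx₀P, ?_⟩
            have hbu : b * u ≠ u * b := fun h => hb ((hP₁mem b).mpr ⟨hbP, h⟩)
            have h1 := hconj' b hbP hbu
            have h2 := hconj' x₀ hx₀P hx₀u
            have hbz := hzcen b hbP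
            calc b * x₀ * u = b * (x₀ * u * x₀⁻¹) * x₀ := by group
              _ = b * (z * u) * x₀ := by rw [h2]
              _ = (b * z) * u * x₀ := by group
              _ = z * (b * u * b⁻¹) * b * x₀ := by rw [hbz]; group
              _ = z * (z * u) * b * x₀ := by rw [h1]
              _ = (z * z) * u * (b * x₀) := by group
              _ = u * (b * x₀) := by rw [hzz, one_mul]
        have hcardP : Nat.card ↥P₁ * 2 = Nat.card ↥(P : Subgroup G) := by
          have h := Subgroup.card_mul_index (P₁.subgroupOf (P : Subgroup G))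
          rw [hidx] at h
          rw [← h]
          congr 1
          exact (Nat.card_congr (Subgroup.subgroupOfEquivOfLe (inf_le_left : P₁ ≤ (P : Subgroup G))).toEquiv).symm
        have hcardS : Nat.card ↥S ≤ Nat.card ↥(P : Subgroup G) := by
          obtain ⟨Q, hQ⟩ := IsPGroup.exists_le_sylow hSp
          have h1 : Nat.card ↥S ∣ Nat.card ↥(Q : Subgroup G) := Subgroup.card_dvd_of_le hQ
          have h2 : Nat.card ↥(Q : Subgroup G) = Nat.card ↥(P : Subgroup G) := by
            rw [Sylow.card_eq_multiplicity, Sylow.card_eq_multiplicity]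
          rw [← h2]
          exact Nat.le_of_dvd Nat.card_pos h1
        have hidxS : (P₁.subgroupOf S).index = 2 := by
          have h := Subgroup.card_mul_index (P₁.subgroupOf S)
          have hc : Nat.card ↥(P₁.subgroupOf S) = Nat.card ↥P₁ :=
            Nat.card_congr (Subgroup.subgroupOfEquivOfLe hP₁S).toEquiv
          rw [hc] at h
          have hne1 : (P₁.subgroupOf S).index ≠ 1 := by
            intro h1
            rw [Subgroup.index_eq_one, Subgroup.subgroupOf_eq_top] at h1
            exact hSP₁ h1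
          have hne0 : (P₁.subgroupOf S).index ≠ 0 := Subgroup.index_ne_zero_of_finite
          have hpos : 0 < Nat.card ↥P₁ := Nat.card_pos
          have hle : Nat.card ↥P₁ * (P₁.subgroupOf S).index ≤ Nat.card ↥P₁ * 2 := by
            rw [h, hcardP]; exact hcardS
          have := Nat.le_of_mul_le_mul_left hle hpos
          omega
        haveI := Subgroup.normal_of_index_eq_two hidxS
        exact (Subgroup.normal_subgroupOf_iff_le_normalizer hP₁S).mp inferInstance
    intro s hs
    apply Subgroup.mem_normalizer_fintype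
    intro v hv
    have hvP₁ : v ∈ P₁ := (hP₁mem v).mpr ⟨hUP hv, four_comm hv hu⟩
    show s * v * s⁻¹ ∈ U
    apply hW
    · exact (Subgroup.mem_normalizer_iff.mp (hSnormP₁ hs) v).mp hvP₁
    · calc s * v * s⁻¹ * (s * v * s⁻¹) = s * (v * v) * s⁻¹ := by group
        _ = 1 := by rw [four_sq hv]; group
    · intro a ha
      have ha' : s⁻¹ * a * s ∈ P₁ := by
        have := (Subgroup.mem_normalizer_iff.mp (hSnormP₁ (Subgroup.inv_mem _ hs)) a).mp ha
        simpa using this
      have h1 := hP₁U _ ha' v hv
      calc a * (s * v * s⁻¹) = s * (s⁻¹ * a * s * v) * s⁻¹ := by group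
        _ = s * (v * (s⁻¹ * a * s)) * s⁻¹ := by rw [h1]
        _ = s * v * s⁻¹ * a := by group

end Cfsg.Agent.Lib.Helper3.NG
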