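import Cfsg.Agent.Lib.Helper3.NG3

set_option autoImplicit false

namespace Cfsg.Agent.Lib.Helper3.NG

open Cfsg Cfsg.Agent.Lib.Helper7

variable {G : Type*} [Group G]

/-- Thompson: in a group of characteristic 2 type, a normal four-subgroup `U` of a Sylow 2-subgroup
`P` (central if `Z(P)` is noncyclic) centralizes every `U`-invariant subgroup of odd order. -/
theorem four_centralizes_odd [Finite G] (h2 : Cfsg.IsCharacteristicTwoType G)
    (P : Sylow 2 G) (U : Subgroup G) (hUP : U ≤ (P : Subgroup G))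
    (hUn : (P : Subgroup G) ≤ Subgroup.normalizer (U : Set G))
    (hU4 : IsKleinFour ↥U)
    (hUZ : ¬ IsCyclic ↥((P : Subgroup G) ⊓ Subgroup.centralizer ((P : Subgroup G) : Set G)) →
      U ≤ Subgroup.centralizer ((P : Subgroup G) : Set G))
    (K : Subgroup G) (hK : Odd (Nat.card K)) (hUK : U ≤ Subgroup.normalizer (K : Set G)) :
    U ≤ Subgroup.centralizer (K : Set G) := by
  classical
  haveI : IsKleinFour ↥U := hU4
  haveI : IsMulCommutative ↥U := IsKleinFour.isMulCommutative
  rw [Subgroup.le_centralizer_iff]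
  have hgen := Cfsg.Agent.Lib.Helper1.coprime_generated_by_centralizers U K
    IsKleinFour.not_isCyclic hUK (by
      rw [IsKleinFour.card_four]
      have : (4 : ℕ) = 2 ^ 2 := by norm_num
      rw [this]
      apply Nat.Coprime.pow_left
      exact Nat.coprime_two_left.mpr hK)
  rw [← hgen]
  apply iSup₂_le
  rintro u ⟨hu, hu1⟩
  have hu2 : u * u = 1 := four_sq hu
  set N := Subgroup.normalizer (Subgroup.zpowers u : Set G) with hN
  have hchar : Subgroup.centralizer (pCore 2 ↥N : Set ↥N) ≤ pCore 2 ↥N := by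
    apply h2.2 (Subgroup.zpowers u)
    · intro ⟨x, hx⟩
      refine ⟨1, ?_⟩
      apply Subtype.ext
      simp only [pow_one, Subgroup.coe_pow, Subgroup.coe_one]
      rw [pow_two]; exact zpowers_sq_one hu2 hx
    · intro h
      apply hu1
      have := Subgroup.mem_zpowers u
      rw [h, Subgroup.mem_bot] at this
      exact this
  have huN : ∀ g ∈ N, g * u = u * g := fun g hg => comm_of_mem_normalizer_zpowers hu2 hu1 hg
  have hUN : U ≤ N := fun v hv => centralizer_le_normalizer_zpowers (four_comm hv hu)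
  have hUmax : ∀ V : Subgroup G, V ≤ U → u ∈ V → V ≠ U → V ≤ Subgroup.zpowers u := by
    intro V hVU huV hne v hv
    by_contra hv'
    apply hne
    apply le_antisymm hVU
    have hv1 : v ≠ 1 := fun h => hv' (h ▸ Subgroup.one_mem _)
    have hvu : v ≠ u := fun h => hv' (h ▸ Subgroup.mem_zpowers u)
    intro w hw
    rcases four_elts hu (hVU hv) hu1 hv1 (Ne.symm hvu) w hw with h | h | h | h
    · rw [h]; exact V.one_mem
    · rw [h]; exact huV
    · rw [h]; exact hv
    · rw [h]; exact V.mul_mem huV hv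
  have hRU := pCoreIn_le_normalizer_four P U hUP hUn hUZ hu hu1
  have hUR : U ≤ pCoreIn 2 N := le_pCoreIn_of_four hchar huN hu2 hu hUN hUmax hRU
  have hDN : K ⊓ Subgroup.centralizer ({u} : Set G) ≤ N := by
    intro d hd
    apply centralizer_le_normalizer_zpowers
    exact Subgroup.mem_centralizer_singleton_iff.mp hd.2
  have hDodd : Odd (Nat.card ↥(K ⊓ Subgroup.centralizer ({u} : Set G))) :=
    Odd.of_dvd_nat hK (Subgroup.card_dvd_of_le inf_le_left)
  have hUD : U ≤ Subgroup.normalizer ((K ⊓ Subgroup.centralizer ({u} : Set G) : Subgroup G) : Set G) := by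
    intro v hv
    apply Subgroup.mem_normalizer_fintype
    intro d hd
    have hd' : d ∈ K ⊓ Subgroup.centralizer ({u} : Set G) := hd
    show v * d * v⁻¹ ∈ K ⊓ Subgroup.centralizer ({u} : Set G)
    refine ⟨(Subgroup.mem_normalizer_iff.mp (hUK hv) d).mp hd'.1, ?_⟩
    apply Subgroup.mem_centralizer_singleton_iff.mpr
    have hdu : d * u = u * d := Subgroup.mem_centralizer_singleton_iff.mp hd'.2
    have hvu : v * u = u * v := four_comm hv hu
    have hvu' : v⁻¹ * u = u * v⁻¹ := by
      calc v⁻¹ * u = v⁻¹ * (u * v) * v⁻¹ := by group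
        _ = v⁻¹ * (v * u) * v⁻¹ := by rw [hvu]
        _ = u * v⁻¹ := by group
    calc v * d * v⁻¹ * u = v * d * (v⁻¹ * u) := by group
      _ = v * (d * u) * v⁻¹ := by rw [hvu']; group
      _ = (v * u) * d * v⁻¹ := by rw [hdu]; group
      _ = u * (v * d * v⁻¹) := by rw [hvu]; group
  have hcomm := commute_of_le_pCoreIn hUR hDN hDodd hUD
  intro d hd
  rw [Subgroup.mem_centralizer_iff]
  intro v hv
  exact hcomm v hv d hd

end Cfsg.Agent.Lib.Helper3.NG
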