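import Mathlib
import Cfsg.Agent.Lib.Helper1.Nilpotent
set_option autoImplicit false

/-!
# Farm NG5 (S1904), step (C): a maximal `A`-invariant normal abelian subgroup `N` with
`Ω₁(N) = W` a central four-group contained in `N²` is self-centralizing, provided `X` has no
normal subgroup of exponent 2 and order `> 4` and `A` has no nontrivial fixed point on `W`.
-/

namespace Cfsg.Agent.Lib.Helper3.NG5C

variable {X : Type*} [Group X]

/-- in a finite 2-group, a normal subgroup `M` not inside the normal subgroup `N` contains an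
element outside `N` which is central modulo `N` -/
theorem exists_central_mod [Finite X] (hX : IsPGroup 2 X) (N M : Subgroup X) [hN : N.Normal]
    [hM : M.Normal] (hMN : ¬ M ≤ N) :
    ∃ m ∈ M, m ∉ N ∧ ∀ y : X, y * m * y⁻¹ * m⁻¹ ∈ N := by
  have : Fact (Nat.Prime 2) := ⟨Nat.prime_two⟩
  have hQ : IsPGroup 2 (X ⧸ N) := hX.to_quotient N
  have hnil : Group.IsNilpotent (X ⧸ N) := hQ.isNilpotent
  set π : X →* X ⧸ N := QuotientGroup.mk' N with hπ
  have hMbar : (M.map π).Normal := Subgroup.Normal.map hM π (QuotientGroup.mk'_surjective N)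
  have hne : M.map π ≠ ⊥ := by
    intro h
    apply hMN
    rw [Subgroup.map_eq_bot_iff, QuotientGroup.ker_mk'] at h
    exact h
  have h1 := Cfsg.Agent.Lib.Helper1.normal_inf_center_ne_bot (M.map π) hne
  obtain ⟨q, hq, hq1⟩ := (Subgroup.ne_bot_iff_exists_ne_one).mp h1 |> fun ⟨q, hq⟩ =>
    (⟨q.1, q.2, fun h => hq (Subtype.ext h)⟩ : ∃ q : X ⧸ N, q ∈ M.map π ⊓ Subgroup.center (X ⧸ N) ∧ q ≠ 1)
  obtain ⟨⟨m, hm, rfl⟩, hqc⟩ := hq
  refine ⟨m, hm, ?_, ?_⟩
  · intro hmN
    apply hq1
    exact (QuotientGroup.eq_one_iff m).mpr hmN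
  · intro y
    rw [← QuotientGroup.eq_one_iff]
    have hc := Subgroup.mem_center_iff.mp hqc (π y)
    have : ((y * m * y⁻¹ * m⁻¹ : X) : X ⧸ N) = π y * π m * (π y)⁻¹ * (π m)⁻¹ := by
      simp [hπ]
    rw [this, hc]
    group


/-- the commutator `a b a⁻¹ b⁻¹` -/
def cm (a b : X) : X := a * b * a⁻¹ * b⁻¹

theorem cm_inv (a b : X) : (cm a b)⁻¹ = cm b a := by unfold cm; group

theorem cm_self (a : X) : cm a a = 1 := by unfold cm; group

theorem cm_one_left (a : X) : cm 1 a = 1 := by unfold cm; group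

theorem cm_one_right (a : X) : cm a 1 = 1 := by unfold cm; group

theorem cm_eq_one_iff (a b : X) : cm a b = 1 ↔ a * b = b * a := by
  unfold cm
  constructor
  · intro h
    have : a * b * a⁻¹ * b⁻¹ * (b * a) = 1 * (b * a) := by rw [h]
    rw [one_mul] at this
    rw [← this]; group
  · intro h
    calc a * b * a⁻¹ * b⁻¹ = (a * b) * a⁻¹ * b⁻¹ := rfl
      _ = (b * a) * a⁻¹ * b⁻¹ := by rw [h]
      _ = 1 := by group

/-- `cm (a * b) m = cm b m * cm a m` when `cm b m` commutes with `a` -/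
theorem cm_mul_left (a b m : X) (h : a * cm b m = cm b m * a) :
    cm (a * b) m = cm b m * cm a m := by
  have h' : a * (b * m * b⁻¹ * m⁻¹) = (b * m * b⁻¹ * m⁻¹) * a := h
  unfold cm
  calc a * b * m * (a * b)⁻¹ * m⁻¹ = a * (b * m * b⁻¹ * m⁻¹) * m * a⁻¹ * m⁻¹ := by group
    _ = (b * m * b⁻¹ * m⁻¹) * a * m * a⁻¹ * m⁻¹ := by rw [h']
    _ = b * m * b⁻¹ * m⁻¹ * (a * m * a⁻¹ * m⁻¹) := by group

/-- the standing hypotheses on `N ≤ M` -/
structure CHyp (N W M : Subgroup X) : Prop where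
  Nc : ∀ a ∈ N, ∀ b ∈ N, a * b = b * a
  WN : W ≤ N
  Wdef : ∀ w ∈ N, w * w = 1 → w ∈ W
  Wexp : ∀ w ∈ W, w * w = 1
  Wc : ∀ w ∈ W, ∀ x : X, w * x = x * w
  Wsq : ∀ w ∈ W, ∃ v ∈ N, w = v * v
  NM : N ≤ M
  MC : ∀ m ∈ M, ∀ n ∈ N, m * n = n * m
  MZ : ∀ m ∈ M, ∀ y : X, y * m * y⁻¹ * m⁻¹ ∈ N
  Msq : ∀ m ∈ M, m * m ∈ N

namespace CHyp

variable {N W M : Subgroup X} (h : CHyp N W M)
include h

theorem cm_mem_N {a b : X} (hb : b ∈ M) : cm a b ∈ N := h.MZ b hb a

theorem cm_mul {a b m : X} (ha : a ∈ M) (hm : m ∈ M) :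
    cm (a * b) m = cm b m * cm a m :=
  cm_mul_left a b m (h.MC a ha _ (h.cm_mem_N hm))

/-- commutators of elements of `M` lie in `W` -/
theorem cm_mem_W {a b : X} (ha : a ∈ M) (hb : b ∈ M) : cm a b ∈ W := by
  apply h.Wdef _ (h.cm_mem_N hb)
  have h1 : cm (a * a) b = cm a b * cm a b := h.cm_mul ha hb
  rw [← h1, cm_eq_one_iff]
  exact (h.MC b hb _ (h.Msq a ha)).symm

/-- `(a b)² = [b,a] a² b²` -/
theorem sq_mul {a b : X} (ha : a ∈ M) (_hb : b ∈ M) :
    (a * b) * (a * b) = cm b a * (a * a) * (b * b) := by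
  have hc : a * cm b a = cm b a * a := h.MC a ha _ (h.cm_mem_N ha)
  have h1 : b * a = cm b a * a * b := by unfold cm; group
  calc a * b * (a * b) = a * (b * a) * b := by group
    _ = a * (cm b a * a * b) * b := by rw [h1]
    _ = (a * cm b a) * a * b * b := by group
    _ = (cm b a * a) * a * b * b := by rw [hc]
    _ = cm b a * (a * a) * (b * b) := by group

end CHyp


/-- the subgroup `W ∪ W u` for an involution `u` commuting with the central subgroup `W` -/
def extE (W : Subgroup X) (hWc : ∀ w ∈ W, ∀ x : X, w * x = x * w) (u : X) (hu : u * u = 1) :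
    Subgroup X where
  carrier := {e | e ∈ W ∨ e * u ∈ W}
  one_mem' := Or.inl W.one_mem
  mul_mem' := by
    rintro a b (ha | ha) (hb | hb)
    · exact Or.inl (W.mul_mem ha hb)
    · right
      rw [mul_assoc]
      exact W.mul_mem ha hb
    · right
      have : a * b * u = a * u * b := by
        rw [mul_assoc, hWc b hb u, ← mul_assoc]
      rw [this]
      exact W.mul_mem ha hb
    · left
      have : a * b = (a * u) * (b * u) := by
        have h1 : a * u * (b * u) = a * (u * (b * u)) := by group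
        rw [h1, ← hWc (b * u) hb u]
        calc a * b = a * (b * (u * u)) := by rw [hu, mul_one]
          _ = a * (b * u * u) := by group
      rw [this]
      exact W.mul_mem ha hb
  inv_mem' := by
    rintro a (ha | ha)
    · exact Or.inl (W.inv_mem ha)
    · right
      have hui : u⁻¹ = u := inv_eq_of_mul_eq_one_right hu
      have : a⁻¹ * u = (a * u)⁻¹ := by
        rw [mul_inv_rev, hui]
        have h1 := hWc (a * u)⁻¹ (W.inv_mem ha) u
        rw [mul_inv_rev, hui] at h1
        calc a⁻¹ * u = u * (u * a⁻¹) * u := by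
              rw [← mul_assoc, hu, one_mul]
          _ = u * (u * a⁻¹ * u) := by group
          _ = u * (u * (u * a⁻¹)) := by rw [h1]
          _ = (u * u) * (u * a⁻¹) := by group
          _ = u * a⁻¹ := by rw [hu, one_mul]
      rw [this]
      exact W.inv_mem ha

namespace CHyp

variable {N W M : Subgroup X} (h : CHyp N W M)
include h

/-- Step 4: an element of `M` outside `N` does not square into `N²` -/
theorem sq_ne [Finite X] (hW4 : Nat.card W = 4)
    (hNE : ∀ E : Subgroup X, E.Normal → (∀ e ∈ E, e * e = 1) → Nat.card E ≤ 4)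
    {m : X} (hm : m ∈ M) (hmN : m ∉ N) {v : X} (hv : v ∈ N) : m * m ≠ v * v := by
  intro hsq
  set u : X := m * v⁻¹ with hu
  have hvi : v⁻¹ ∈ N := N.inv_mem hv
  have huM : u ∈ M := M.mul_mem hm (h.NM hvi)
  have huN : u ∉ N := by
    intro hh
    apply hmN
    have : m = u * v := by rw [hu]; group
    rw [this]
    exact N.mul_mem hh hv
  have hu2 : u * u = 1 := by
    have h1 : m * v⁻¹ = v⁻¹ * m := h.MC m hm _ hvi
    calc u * u = m * v⁻¹ * (m * v⁻¹) := rfl
      _ = m * (v⁻¹ * m) * v⁻¹ := by group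
      _ = m * (m * v⁻¹) * v⁻¹ := by rw [h1]
      _ = (m * m) * v⁻¹ * v⁻¹ := by group
      _ = (v * v) * v⁻¹ * v⁻¹ := by rw [hsq]
      _ = 1 := by group
  have hui : u⁻¹ = u := inv_eq_of_mul_eq_one_right hu2
  -- conjugates of u
  have hd : ∀ x : X, x * u * x⁻¹ * u⁻¹ ∈ W := by
    intro x
    have hdN : x * u * x⁻¹ * u⁻¹ ∈ N := h.MZ u huM x
    apply h.Wdef _ hdN
    set d := x * u * x⁻¹ * u⁻¹ with hd
    have hcomm : u * d = d * u := h.MC u huM d hdN
    have h1 : d * u = x * u * x⁻¹ := by rw [hd]; group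
    have h2 : (d * u) * (d * u) = 1 := by
      rw [h1]
      calc x * u * x⁻¹ * (x * u * x⁻¹) = x * (u * u) * x⁻¹ := by group
        _ = 1 := by rw [hu2]; group
    calc d * d = d * d * (u * u) := by rw [hu2, mul_one]
      _ = d * (d * u) * u := by group
      _ = d * (u * d) * u := by rw [hcomm]
      _ = (d * u) * (d * u) := by group
      _ = 1 := h2
  set E := extE W h.Wc u hu2 with hE
  have hEn : E.Normal := by
    constructor
    intro e he x
    rcases he with he | he
    · left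
      have := h.Wc e he x
      have h1 : x * e * x⁻¹ = e := by rw [← this]; group
      rw [h1]; exact he
    · right
      have h1 : x * e * x⁻¹ * u = (e * u) * (x * u * x⁻¹ * u⁻¹) := by
        have hc := h.Wc (e * u) he
        have h2 : e = (e * u) * u := by rw [mul_assoc, hu2, mul_one]
        calc x * e * x⁻¹ * u = x * ((e * u) * u) * x⁻¹ * u := by rw [← h2]
          _ = (x * (e * u)) * u * x⁻¹ * u := by group
          _ = ((e * u) * x) * u * x⁻¹ * u := by rw [hc x]
          _ = (e * u) * (x * u * x⁻¹ * u) := by group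
          _ = (e * u) * (x * u * x⁻¹ * u⁻¹) := by rw [hui]
      rw [h1]
      exact W.mul_mem he (hd x)
  have hEexp : ∀ e ∈ E, e * e = 1 := by
    intro e he
    rcases he with he | he
    · exact h.Wexp e he
    · have h2 : e = (e * u) * u := by rw [mul_assoc, hu2, mul_one]
      have hc := h.Wc (e * u) he u
      have h3 := h.Wexp (e * u) he
      calc e * e = ((e * u) * u) * ((e * u) * u) := by rw [← h2]
        _ = (e * u) * (u * (e * u)) * u := by group
        _ = (e * u) * ((e * u) * u) * u := by rw [hc]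
        _ = ((e * u) * (e * u)) * (u * u) := by group
        _ = 1 := by rw [h3, hu2, mul_one]
  have hWE : W ≤ E := fun w hw => Or.inl hw
  have huE : u ∈ E := Or.inr (by rw [hu2]; exact W.one_mem)
  have hcard := hNE E hEn hEexp
  have hEW : W = E := Subgroup.eq_of_le_of_card_ge hWE (by rw [hW4]; exact hcard)
  apply huN
  apply h.WN
  rw [hEW]
  exact huE

end CHyp


/-- the squaring endomorphism of an abelian subgroup -/
def sqHom (N : Subgroup X) (hNc : ∀ a ∈ N, ∀ b ∈ N, a * b = b * a) : ↥N →* ↥N where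
  toFun n := n * n
  map_one' := by simp
  map_mul' a b := by
    have hab : b * a = a * b := Subtype.ext (hNc b b.2 a a.2)
    calc a * b * (a * b) = a * (b * a) * b := by group
      _ = a * (a * b) * b := by rw [hab]
      _ = a * a * (b * b) := by group

namespace CHyp

variable {N W M : Subgroup X} (h : CHyp N W M)
include h

theorem index_sqRange [Finite X] : (sqHom N h.Nc).range.index = Nat.card W := by
  have hker : (sqHom N h.Nc).ker = W.subgroupOf N := by
    ext n
    rw [MonoidHom.mem_ker, Subgroup.mem_subgroupOf]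
    constructor
    · intro hn
      exact h.Wdef n n.2 (congrArg Subtype.val hn)
    · intro hn
      exact Subtype.ext (h.Wexp n hn)
  have h1 : Nat.card ↥(sqHom N h.Nc).ker = Nat.card W := by
    rw [hker]
    exact Nat.card_congr (Subgroup.subgroupOfEquivOfLe h.WN).toEquiv
  have h2 := Subgroup.card_mul_index (sqHom N h.Nc).ker
  have h3 := Subgroup.card_mul_index (sqHom N h.Nc).range
  rw [Subgroup.index_ker] at h2
  rw [h1] at h2
  have hpos : 0 < Nat.card ↥(sqHom N h.Nc).range := Nat.card_pos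
  have : Nat.card ↥(sqHom N h.Nc).range * (sqHom N h.Nc).range.index =
      Nat.card ↥(sqHom N h.Nc).range * Nat.card W := by
    rw [h3, mul_comm, h2]
  exact Nat.eq_of_mul_eq_mul_left hpos this

/-- the class of `m²` in `N / N²` -/
noncomputable def sqClass (m : ↥M) : ↥N ⧸ (sqHom N h.Nc).range :=
  QuotientGroup.mk ⟨(m : X) * m, h.Msq m m.2⟩

theorem sqClass_inj [Finite X] (hW4 : Nat.card W = 4)
    (hNE : ∀ E : Subgroup X, E.Normal → (∀ e ∈ E, e * e = 1) → Nat.card E ≤ 4)
    (a b : ↥M) (hab : h.sqClass a = h.sqClass b) : (a : X)⁻¹ * b ∈ N := by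
  unfold sqClass at hab
  rw [QuotientGroup.eq] at hab
  obtain ⟨v, hv⟩ := hab
  have hv' : (v : X) * v = ((a : X) * a)⁻¹ * ((b : X) * b) := by
    have := congrArg Subtype.val hv
    simpa [sqHom] using this
  by_contra hN
  have haM : (a : X)⁻¹ ∈ M := M.inv_mem a.2
  have hcW : cm (b : X) (a : X)⁻¹ ∈ W := h.cm_mem_W b.2 haM
  obtain ⟨v', hv'N, hv'2⟩ := h.Wsq _ hcW
  have hsq := h.sq_mul haM b.2
  have hvv : v' * v ∈ N := N.mul_mem hv'N v.2
  apply h.sq_ne hW4 hNE (M.mul_mem haM b.2) hN hvv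
  rw [hsq, hv'2]
  have hcomm : (v : X) * v' = v' * v := h.Nc v v.2 v' hv'N
  have h1 : (a : X)⁻¹ * (a : X)⁻¹ * ((b : X) * b) = (v : X) * v := by
    rw [hv']; group
  calc v' * v' * ((a : X)⁻¹ * (a : X)⁻¹) * ((b : X) * b)
      = v' * v' * ((a : X)⁻¹ * (a : X)⁻¹ * ((b : X) * b)) := by group
    _ = v' * v' * ((v : X) * v) := by rw [h1]
    _ = v' * (v' * v) * v := by group
    _ = v' * (v * v') * v := by rw [hcomm]
    _ = v' * v * (v' * v) := by group

/-- four pairwise incongruent elements of `M` represent all cosets of `N` in `M` -/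
theorem mem_cosets [Finite X] (hW4 : Nat.card W = 4)
    (hNE : ∀ E : Subgroup X, E.Normal → (∀ e ∈ E, e * e = 1) → Nat.card E ≤ 4)
    (e : Fin 4 → ↥M) (he : ∀ i j, i ≠ j → ((e i : X))⁻¹ * (e j : X) ∉ N)
    (m : X) (hm : m ∈ M) : ∃ i, ((e i : X))⁻¹ * m ∈ N := by
  have hinj : Function.Injective (fun i => h.sqClass (e i)) := by
    intro i j hij
    by_contra hne
    exact he i j hne (h.sqClass_inj hW4 hNE _ _ hij)
  have hcard : Nat.card (↥N ⧸ (sqHom N h.Nc).range) ≤ Nat.card (Fin 4) := by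
    rw [← Subgroup.index_eq_card, h.index_sqRange, hW4, Nat.card_fin]
  have hbij := hinj.bijective_of_nat_card_le hcard
  obtain ⟨i, hi⟩ := hbij.2 (h.sqClass ⟨m, hm⟩)
  exact ⟨i, h.sqClass_inj hW4 hNE _ _ hi⟩

end CHyp


namespace CHyp

variable {N W M : Subgroup X} (h : CHyp N W M)
include h

theorem cm_N_left {n m : X} (hn : n ∈ N) (hm : m ∈ M) : cm n m = 1 := by
  rw [cm_eq_one_iff]
  exact (h.MC m hm n hn).symm

/-- commutators only depend on the cosets of `N` -/
theorem cm_rep {a b e f : X} (he : e ∈ M) (hf : f ∈ M) (ha : e⁻¹ * a ∈ N) (hb : f⁻¹ * b ∈ N) :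
    cm a b = cm e f := by
  have haM : a ∈ M := by
    have : a = e * (e⁻¹ * a) := by group
    rw [this]; exact M.mul_mem he (h.NM ha)
  have hbM : b ∈ M := by
    have : b = f * (f⁻¹ * b) := by group
    rw [this]; exact M.mul_mem hf (h.NM hb)
  have h1 : cm a b = cm e b := by
    have : a = e * (e⁻¹ * a) := by group
    rw [this, h.cm_mul he hbM, h.cm_N_left ha hbM, one_mul]
  have h2 : cm b e = cm f e := by
    have : b = f * (f⁻¹ * b) := by group
    rw [this, h.cm_mul hf he, h.cm_N_left hb he, one_mul]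
  rw [h1, ← cm_inv b e, h2, cm_inv]

end CHyp

/-- **Step (C)**: `C_X(N) = N`. -/
theorem centralizer_le [Finite X] (hX : IsPGroup 2 X) (A : Subgroup (MulAut X))
    (hNE : ∀ E : Subgroup X, E.Normal → (∀ e ∈ E, e * e = 1) → Nat.card E ≤ 4)
    (N W : Subgroup X) (hNn : N.Normal) (hNA : ∀ φ ∈ A, ∀ n ∈ N, φ n ∈ N)
    (hNc : ∀ a ∈ N, ∀ b ∈ N, a * b = b * a)
    (hmax : ∀ M : Subgroup X, M.Normal → (∀ φ ∈ A, ∀ m ∈ M, φ m ∈ M) →
       (∀ a ∈ M, ∀ b ∈ M, a * b = b * a) → N ≤ M → M = N)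
    (hWN : W ≤ N) (hW4 : Nat.card W = 4) (hWdef : ∀ w ∈ N, w * w = 1 → w ∈ W)
    (hWexp : ∀ w ∈ W, w * w = 1)
    (hWc : ∀ w ∈ W, ∀ x : X, w * x = x * w)
    (hWsq : ∀ w ∈ W, ∃ v ∈ N, w = v * v)
    (hfix : ∀ w ∈ W, (∀ φ ∈ A, φ w = w) → w = 1) :
    Subgroup.centralizer (N : Set X) ≤ N := by
  by_contra hC
  -- the family of candidates
  let F : Set (Subgroup X) := {M | M.Normal ∧ (∀ φ ∈ A, ∀ m ∈ M, φ m ∈ M) ∧ N ≤ M ∧
    M ≤ Subgroup.centralizer (N : Set X) ∧ ¬ M ≤ N}
  have hAinv : ∀ φ ∈ A, ∀ n : X, φ n ∈ N → n ∈ N := by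
    intro φ hφ n hn
    have := hNA φ⁻¹ (A.inv_mem hφ) _ hn
    simpa using this
  have hCF : Subgroup.centralizer (N : Set X) ∈ F := by
    refine ⟨?_, ?_, ?_, le_rfl, hC⟩
    · constructor
      intro c hc x
      rw [Subgroup.mem_centralizer_iff] at hc ⊢
      intro n hn
      have h1 : x⁻¹ * n * x ∈ N := by
        have := hNn.conj_mem n hn x⁻¹
        rwa [inv_inv] at this
      have h2 := hc _ h1
      calc n * (x * c * x⁻¹) = x * ((x⁻¹ * n * x) * c) * x⁻¹ := by group
        _ = x * (c * (x⁻¹ * n * x)) * x⁻¹ := by rw [h2]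
        _ = x * c * x⁻¹ * n := by group
    · intro φ hφ c hc
      rw [Subgroup.mem_centralizer_iff] at hc ⊢
      intro n hn
      have h1 : φ⁻¹ n ∈ N := hNA φ⁻¹ (A.inv_mem hφ) n hn
      have h2 := hc _ h1
      have h3 : n = φ (φ⁻¹ n) := by simp
      rw [h3, ← map_mul, ← map_mul, h2]
    · intro n hn
      rw [Subgroup.mem_centralizer_iff]
      intro n' hn'
      exact hNc n' hn' n hn
  obtain ⟨M, hMmin⟩ := (Set.toFinite F).exists_minimal ⟨_, hCF⟩
  obtain ⟨⟨hMn, hMA, hNM, hMC, hMN⟩, hmin⟩ := hMmin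
  have hmin' : ∀ M' : Subgroup X, M' ∈ F → M' ≤ M → M ≤ M' := fun M' h1 h2 => hmin h1 h2
  have hMC' : ∀ m ∈ M, ∀ n ∈ N, m * n = n * m := by
    intro m hm n hn
    exact (Subgroup.mem_centralizer_iff.mp (hMC hm) n hn).symm
  -- Step 1: M is central modulo N
  set π : X →* X ⧸ N := QuotientGroup.mk' N with hπ
  set Z1 : Subgroup X := (Subgroup.center (X ⧸ N)).comap π with hZ1
  have hZ1mem : ∀ z : X, z ∈ Z1 ↔ ∀ y : X, y * z * y⁻¹ * z⁻¹ ∈ N := by
    intro z
    rw [hZ1, Subgroup.mem_comap, Subgroup.mem_center_iff]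
    constructor
    · intro hz y
      rw [← QuotientGroup.eq_one_iff]
      have : ((y * z * y⁻¹ * z⁻¹ : X) : X ⧸ N) = π y * π z * (π y)⁻¹ * (π z)⁻¹ := by
        simp [hπ]
      rw [this, hz (π y)]
      group
    · intro hz q
      obtain ⟨y, rfl⟩ := QuotientGroup.mk'_surjective N q
      have h1 := (QuotientGroup.eq_one_iff _).mpr (hz y)
      have : ((y * z * y⁻¹ * z⁻¹ : X) : X ⧸ N) = π y * π z * (π y)⁻¹ * (π z)⁻¹ := by
        simp [hπ]
      rw [this] at h1
      have h2 := mul_inv_eq_one.mp h1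
      exact mul_inv_eq_iff_eq_mul.mp h2
  have hZ1n : Z1.Normal := Subgroup.Normal.comap inferInstance π
  have hMZ : ∀ m ∈ M, ∀ y : X, y * m * y⁻¹ * m⁻¹ ∈ N := by
    have hM1F : M ⊓ Z1 ∈ F := by
      refine ⟨inferInstance, ?_, ?_, inf_le_left.trans hMC, ?_⟩
      · intro φ hφ m hm
        refine ⟨hMA φ hφ m hm.1, (hZ1mem _).mpr ?_⟩
        intro y
        have h1 := (hZ1mem m).mp hm.2 (φ⁻¹ y)
        have h2 := hNA φ hφ _ h1
        simpa using h2
      · intro n hn
        refine ⟨hNM hn, (hZ1mem _).mpr ?_⟩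
        intro y
        exact N.mul_mem (hNn.conj_mem n hn y) (N.inv_mem hn)
      · obtain ⟨m, hm, hmN, hmz⟩ := exists_central_mod hX N M hMN
        intro hle
        exact hmN (hle ⟨hm, (hZ1mem m).mpr hmz⟩)
    have := hmin' _ hM1F inf_le_left
    intro m hm
    exact (hZ1mem m).mp (this hm).2
  -- Step 2: squares of M lie in N
  have hMsq : ∀ m ∈ M, m * m ∈ N := by
    let M2 : Subgroup X :=
      { carrier := {m | m ∈ M ∧ m * m ∈ N}
        one_mem' := ⟨M.one_mem, by simp [N.one_mem]⟩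
        mul_mem' := by
          rintro a b ⟨ha, ha2⟩ ⟨hb, hb2⟩
          refine ⟨M.mul_mem ha hb, ?_⟩
          have h1 : a * b * (a * b) = (a * a) * (a⁻¹ * b * a * b⁻¹) * (b * b) := by group
          rw [h1]
          refine N.mul_mem (N.mul_mem ha2 ?_) hb2
          have := hMZ b hb a⁻¹
          simpa using this
        inv_mem' := by
          rintro a ⟨ha, ha2⟩
          refine ⟨M.inv_mem ha, ?_⟩
          have : a⁻¹ * a⁻¹ = (a * a)⁻¹ := by group
          rw [this]
          exact N.inv_mem ha2 }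
    have hM2mem : ∀ m, m ∈ M2 ↔ m ∈ M ∧ m * m ∈ N := fun m => Iff.rfl
    have hM2F : M2 ∈ F := by
      refine ⟨?_, ?_, ?_, ?_, ?_⟩
      · constructor
        intro m hm x
        rw [hM2mem] at hm ⊢
        refine ⟨hMn.conj_mem m hm.1 x, ?_⟩
        have : x * m * x⁻¹ * (x * m * x⁻¹) = x * (m * m) * x⁻¹ := by group
        rw [this]
        exact hNn.conj_mem _ hm.2 x
      · intro φ hφ m hm
        rw [hM2mem] at hm ⊢
        refine ⟨hMA φ hφ m hm.1, ?_⟩
        rw [← map_mul]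
        exact hNA φ hφ _ hm.2
      · intro n hn
        exact ⟨hNM hn, N.mul_mem hn hn⟩
      · intro m hm
        exact hMC hm.1
      · obtain ⟨m, hm, hmN⟩ := SetLike.not_le_iff_exists.mp hMN
        obtain ⟨k, hk⟩ := hX m
        have hex : ∃ j, m ^ 2 ^ j ∈ N := ⟨k, by rw [hk]; exact N.one_mem⟩
        classical
        set j := Nat.find hex with hj
        have hjs : m ^ 2 ^ j ∈ N := Nat.find_spec hex
        have hj0 : j ≠ 0 := by
          intro h0
          rw [h0] at hjs
          simp at hjs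
          exact hmN hjs
        obtain ⟨i, hi⟩ := Nat.exists_eq_succ_of_ne_zero hj0
        have hi' : m ^ 2 ^ i ∉ N := by
          intro hh
          have := Nat.find_min' hex hh
          omega
        intro hle
        apply hi'
        apply hle
        refine ⟨M.pow_mem hm _, ?_⟩
        rw [← pow_add, ← two_mul, ← pow_succ']
        rw [hi] at hjs
        exact hjs
    have := hmin' _ hM2F (fun m hm => hm.1)
    intro m hm
    exact (this hm).2
  have h : CHyp N W M :=
    ⟨hNc, hWN, hWdef, hWexp, hWc, hWsq, hNM, hMC', hMZ, hMsq⟩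
  -- M is not abelian
  have hnab : ¬ ∀ a ∈ M, ∀ b ∈ M, a * b = b * a := by
    intro hab
    have := hmax M hMn hMA hab hNM
    exact hMN (le_of_eq this)
  have hex : ∃ m1 ∈ M, ∃ m2 ∈ M, m1 * m2 ≠ m2 * m1 := by
    by_contra hcon
    apply hnab
    intro a ha b hb
    by_contra hne
    exact hcon ⟨a, ha, b, hb, hne⟩
  obtain ⟨m1, hm1, m2, hm2, hne⟩ := hex
  set c : X := cm m1 m2 with hc
  have hc1 : c ≠ 1 := by
    intro h1
    exact hne ((cm_eq_one_iff m1 m2).mp h1)
  have hcW : c ∈ W := h.cm_mem_W hm1 hm2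
  have hci : c⁻¹ = c := inv_eq_of_mul_eq_one_right (hWexp c hcW)
  have hm1N : m1 ∉ N := by
    intro hh
    exact hc1 (h.cm_N_left hh hm2)
  have hm2N : m2 ∉ N := by
    intro hh
    apply hc1
    rw [hc, ← cm_inv, h.cm_N_left hh hm1, inv_one]
  have hm12N : m1⁻¹ * m2 ∉ N := by
    intro hh
    apply hc1
    rw [hc, h.cm_rep hm1 hm1 (by simp [N.one_mem]) hh, cm_self]
  -- the four representatives
  let e : Fin 4 → ↥M := ![1, ⟨m1, hm1⟩, ⟨m2, hm2⟩, ⟨m1 * m2, M.mul_mem hm1 hm2⟩]
  have hm1sq : m1 * m1 ∈ N := hMsq m1 hm1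
  have he : ∀ i j, i ≠ j → ((e i : X))⁻¹ * (e j : X) ∉ N := by
    have key : ∀ x : X, x ∉ N → x⁻¹ ∉ N := fun x hx hh => hx (by simpa using N.inv_mem hh)
    have h01 : (1 : X)⁻¹ * m1 ∉ N := by simpa using hm1N
    have h02 : (1 : X)⁻¹ * m2 ∉ N := by simpa using hm2N
    have h03 : (1 : X)⁻¹ * (m1 * m2) ∉ N := by
      intro hh
      apply hm12N
      have : m1⁻¹ * m2 = (m1 * m1)⁻¹ * ((1 : X)⁻¹ * (m1 * m2)) := by group
      rw [this]
      exact N.mul_mem (N.inv_mem hm1sq) hh
    have h12 : m1⁻¹ * m2 ∉ N := hm12N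
    have h13 : m1⁻¹ * (m1 * m2) ∉ N := by simpa using hm2N
    have h23 : m2⁻¹ * (m1 * m2) ∉ N := by
      intro hh
      apply hm1N
      have := hNn.conj_mem _ hh m2
      have h' : m2 * (m2⁻¹ * (m1 * m2)) * m2⁻¹ = m1 := by group
      rwa [h'] at this
    have hsymm : ∀ a b : X, a⁻¹ * b ∉ N → b⁻¹ * a ∉ N := by
      intro a b hab hh
      apply hab
      have : a⁻¹ * b = (b⁻¹ * a)⁻¹ := by group
      rw [this]
      exact N.inv_mem hh
    intro i j hij
    fin_cases i <;> fin_cases j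
    all_goals first
      | exact absurd rfl hij
      | exact h01
      | exact h02
      | exact h03
      | exact h12
      | exact h13
      | exact h23
      | exact hsymm _ _ h01
      | exact hsymm _ _ h02
      | exact hsymm _ _ h03
      | exact hsymm _ _ h12
      | exact hsymm _ _ h13
      | exact hsymm _ _ h23
  -- all commutators of M are 1 or c
  have hvals : ∀ a ∈ M, ∀ b ∈ M, cm a b = 1 ∨ cm a b = c := by
    intro a ha b hb
    obtain ⟨i, hi⟩ := h.mem_cosets hW4 hNE e he a ha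
    obtain ⟨j, hj⟩ := h.mem_cosets hW4 hNE e he b hb
    rw [h.cm_rep (e i).2 (e j).2 hi hj]
    have h21 : cm m2 m1 = c := by rw [← cm_inv, ← hc, hci]
    have h1_12 : cm m1 (m1 * m2) = c := by
      rw [← cm_inv, h.cm_mul hm1 hm1, cm_self, mul_one, cm_inv]
    have h12_1 : cm (m1 * m2) m1 = c := by
      rw [h.cm_mul hm1 hm1, cm_self, mul_one, h21]
    have h12_2 : cm (m1 * m2) m2 = c := by
      rw [h.cm_mul hm1 hm2, cm_self, one_mul]
    have h2_12 : cm m2 (m1 * m2) = c := by
      rw [← cm_inv, h12_2, hci]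
    fin_cases i <;> fin_cases j
    all_goals first
      | (left; exact cm_one_left _)
      | (left; exact cm_one_right _)
      | (left; exact cm_self _)
      | (right; exact rfl)
      | (right; exact h21)
      | (right; exact h1_12)
      | (right; exact h12_1)
      | (right; exact h12_2)
      | (right; exact h2_12)
  -- c is fixed by A
  apply hc1
  apply hfix c hcW
  intro φ hφ
  have h1 : φ c = cm (φ m1) (φ m2) := by
    simp only [hc, cm, map_mul, map_inv]
  rcases hvals _ (hMA φ hφ m1 hm1) _ (hMA φ hφ m2 hm2) with h2 | h2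
  · exfalso
    rw [← h1] at h2
    apply hc1
    have : φ c = φ 1 := by rw [h2, map_one]
    exact φ.injective this
  · rw [h1, h2]

end Cfsg.Agent.Lib.Helper3.NG5C
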