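import Cfsg.Agent.Lib.Helper8.NG5Defs
import Cfsg.Agent.Lib.Helper3.NG5C

/-!
Farm NG5 (S1904), unit U26 `N_selfc` (step (C)): verbatim wrapper of
`Cfsg.Agent.Lib.Helper3.NG5C.centralizer_le`.
-/

set_option autoImplicit false
open scoped commutatorElement

namespace Cfsg.Agent.Lib.Helper3.NG5U26
open Cfsg.Agent.Lib.Helper8.NG5

variable {X : Type*} [Group X] [Finite X] {A : Subgroup (MulAut X)}

/-- U26 (helper3's step (C)). -/
theorem N_selfc (h : Hyp X A) {W Y N : Subgroup X} (w : B2 X A W) (hY : IsY W Y)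
    (h16 : Nat.card Y = 16) (n : B2N0 X A W Y N) :
    ∀ x : X, (∀ v ∈ N, x * v = v * x) → x ∈ N := by
  have hWc : ∀ w' ∈ W, ∀ x : X, w' * x = x * w' := by
    intro w' hw' x
    exact (Subgroup.mem_center_iff.mp (w.central hw') x).symm
  have hWY : W ≤ Y := by
    intro w' hw'
    rw [hY w']
    refine ⟨?_, ?_⟩
    · rw [w.exp w' hw']; exact W.one_mem
    · intro g
      have : ⁅w', g⁆ = 1 := by
        rw [commutatorElement_eq_one_iff_mul_comm]
        exact hWc w' hw' g
      rw [this]; exact W.one_mem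
  have hle := Cfsg.Agent.Lib.Helper3.NG5C.centralizer_le h.pg A
    (fun E hE hexp => h.ne E hE (fun e he => by rw [pow_two]; exact hexp e he))
    N W n.gn.1 n.gn.2 n.comm
    (fun M hMn hMA hMc hNM => le_antisymm (n.max M ⟨hMn, hMA⟩ hMc hNM) hNM)
    (hWY.trans n.YN) w.card
    (fun v hv hv2 => n.om1 v hv (by rw [pow_two]; exact hv2))
    (fun w' hw' => by rw [← pow_two]; exact w.exp w' hw')
    hWc
    (fun w' hw' => by
      obtain ⟨y, hy, hy2⟩ := n.sqW w' hw'
      exact ⟨y, n.YN hy, by rw [← hy2, pow_two]⟩)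
    (fun w' hw' hfixed => by
      by_contra hne
      -- a third element of W
      have hex : ∃ w'' ∈ W, w'' ≠ 1 ∧ w'' ≠ w' := by
        by_contra hcon
        have hsub : (W : Set X) ⊆ ({1, w'} : Set X) := by
          intro x hx
          by_contra hx'
          simp only [Set.mem_insert_iff, Set.mem_singleton_iff, not_or] at hx'
          exact hcon ⟨x, hx, hx'.1, hx'.2⟩
        have h1 : Nat.card W = (W : Set X).ncard := Nat.card_coe_set_eq (W : Set X)
        have h2 : (W : Set X).ncard ≤ ({1, w'} : Set X).ncard :=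
          Set.ncard_le_ncard hsub (Set.toFinite _)
        have h3 : ({1, w'} : Set X).ncard ≤ 2 := by
          have := Set.ncard_insert_le (1 : X) ({w'} : Set X)
          rw [Set.ncard_singleton] at this
          exact this
        have := w.card
        omega
      obtain ⟨w'', hw'', hw''1, hw''ne⟩ := hex
      obtain ⟨φ, hφ, hφw⟩ := w.trans w' hw' w'' hw'' hne hw''1
      apply hw''ne
      rw [← hφw, hfixed φ hφ])
  intro x hx
  apply hle
  rw [Subgroup.mem_centralizer_iff]
  intro v hv
  exact (hx v hv).symm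

end Cfsg.Agent.Lib.Helper3.NG5U26
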