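import Cfsg.Agent.Lib.Helper8.NG5Defs

/-!
Farm NG5 (S1904), unit U27 `A_order3`: when `C_X(N) = N`, `A = {1, a, a²}` with `a` of order 3
acting fixed-point-freely on `N`.  (Contains private copies of the basic coprime-action lemmas.)
-/

set_option autoImplicit false
open scoped commutatorElement

namespace Cfsg.Agent.Lib.Helper3.NG5U27
open Cfsg.Agent.Lib.Helper8.NG5

variable {X : Type*} [Group X] [Finite X] {A : Subgroup (MulAut X)}

theorem odd_orderOf (h : Hyp X A) (φ : MulAut X) (hφ : φ ∈ A) : Odd (orderOf φ) := by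
  have h1 : orderOf (⟨φ, hφ⟩ : A) ∣ Nat.card A := orderOf_dvd_natCard _
  have h2 : orderOf (⟨φ, hφ⟩ : A) = orderOf φ := Subgroup.orderOf_mk φ hφ
  rw [h2] at h1
  exact Odd.of_dvd_nat h.odd h1

/-- `φ b = b c` with `φ c = c` forces `c = 1` -/
theorem fixed_comm_trivial (h : Hyp X A) (φ : MulAut X) (hφ : φ ∈ A) (b c : X)
    (hb : φ b = b * c) (hc : φ c = c) : c = 1 := by
  have hpow : ∀ m : ℕ, (φ ^ m) b = b * c ^ m := by
    intro m
    induction m with
    | zero => simp
    | succ m ih =>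
      have hcm : φ (c ^ m) = c ^ m := by rw [map_pow, hc]
      rw [pow_succ', MulAut.mul_apply, ih, map_mul, hb, hcm, pow_succ']
      group
  have h1 := hpow (orderOf φ)
  rw [pow_orderOf_eq_one, MulAut.one_apply] at h1
  have h2 : c ^ orderOf φ = 1 := by
    have : b * c ^ orderOf φ = b * 1 := by rw [mul_one]; exact h1.symm
    exact mul_left_cancel this
  obtain ⟨k, hk⟩ := h.pg c
  have h3 : orderOf c ∣ orderOf φ := orderOf_dvd_of_pow_eq_one h2
  have h4 : orderOf c ∣ 2 ^ k := orderOf_dvd_of_pow_eq_one hk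
  have hodd := odd_orderOf h φ hφ
  have hcop : Nat.Coprime (orderOf φ) (2 ^ k) :=
    Nat.Coprime.pow_right k (Nat.coprime_two_right.mpr hodd)
  have h5 : orderOf c = 1 := Nat.eq_one_of_dvd_coprimes hcop h3 h4
  exact orderOf_eq_one_iff.mp h5

/-- private copy of U03 -/
theorem aut_trivial_of_sub_quot' (h : Hyp X A) (N : Subgroup X) (φ : MulAut X) (hφ : φ ∈ A)
    (h1 : ∀ v ∈ N, φ v = v) (h2 : ∀ x : X, x⁻¹ * φ x ∈ N) : φ = 1 := by
  ext x
  rw [MulAut.one_apply]
  have hc := fixed_comm_trivial h φ hφ x (x⁻¹ * φ x) (by group) (h1 _ (h2 x))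
  have : φ x = x * (x⁻¹ * φ x) := by group
  rw [this, hc, mul_one]

/-- private copy of U04 -/
theorem aut_trivial_of_omega1' (h : Hyp X A) (B : Subgroup X)
    (hB : ∀ b ∈ B, ∀ b' ∈ B, b * b' = b' * b) (φ : MulAut X) (hφ : φ ∈ A)
    (hinv : ∀ b ∈ B, φ b ∈ B) (h1 : ∀ b ∈ B, b ^ 2 = 1 → φ b = b) : ∀ b ∈ B, φ b = b := by
  have key : ∀ k : ℕ, ∀ b ∈ B, b ^ 2 ^ k = 1 → φ b = b := by
    intro k
    induction k with
    | zero =>
      intro b _ hb1
      simp at hb1
      rw [hb1, map_one]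
    | succ k ih =>
      intro b hb hbk
      have hb2 : φ (b ^ 2) = b ^ 2 := by
        apply ih _ (B.pow_mem hb 2)
        rw [← pow_mul, ← pow_succ']
        exact hbk
      set c := b⁻¹ * φ b with hc
      have hcB : c ∈ B := B.mul_mem (B.inv_mem hb) (hinv b hb)
      have hc2 : c ^ 2 = 1 := by
        have hcomm : φ b * b⁻¹ = b⁻¹ * φ b := hB _ (hinv b hb) _ (B.inv_mem hb)
        have h3 : φ b * φ b = b * b := by
          rw [← map_mul, ← pow_two, hb2, pow_two]
        calc c ^ 2 = b⁻¹ * (φ b * b⁻¹) * φ b := by rw [pow_two, hc]; group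
          _ = b⁻¹ * (b⁻¹ * φ b) * φ b := by rw [hcomm]
          _ = b⁻¹ * b⁻¹ * (φ b * φ b) := by group
          _ = b⁻¹ * b⁻¹ * (b * b) := by rw [h3]
          _ = 1 := by group
      have hcfix : φ c = c := h1 c hcB hc2
      have hc1 := fixed_comm_trivial h φ hφ b c (by rw [hc]; group) hcfix
      have : φ b = b * c := by rw [hc]; group
      rw [this, hc1, mul_one]
  intro b hb
  obtain ⟨k, hk⟩ := h.pg b
  exact key k b hb hk


/-- an element of `A` whose square is trivial is trivial -/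
theorem eq_one_of_sq (h : Hyp X A) (ψ : MulAut X) (hψ : ψ ∈ A) (h2 : ψ ^ 2 = 1) : ψ = 1 := by
  have h1 : orderOf ψ ∣ 2 := orderOf_dvd_of_pow_eq_one h2
  have hodd := odd_orderOf h ψ hψ
  have h3 : orderOf ψ = 1 := by
    rcases (Nat.dvd_prime Nat.prime_two).mp h1 with h4 | h4
    · exact h4
    · rw [h4] at hodd; exact absurd hodd (by decide)
  exact orderOf_eq_one_iff.mp h3

/-- the elements of a four-group -/
theorem four_group_elems {W : Subgroup X} (hcard : Nat.card W = 4) (hexp : ∀ w ∈ W, w ^ 2 = 1)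
    (w1 : X) (hw1 : w1 ∈ W) (hw11 : w1 ≠ 1) :
    ∃ w2 ∈ W, w2 ≠ 1 ∧ w2 ≠ w1 ∧ w1 * w2 ≠ 1 ∧ w1 * w2 ≠ w1 ∧ w1 * w2 ≠ w2 ∧
      ∀ x ∈ W, x = 1 ∨ x = w1 ∨ x = w2 ∨ x = w1 * w2 := by
  have hex : ∃ w2 ∈ W, w2 ≠ 1 ∧ w2 ≠ w1 := by
    by_contra hcon
    have hsub : (W : Set X) ⊆ ({1, w1} : Set X) := by
      intro x hx
      by_contra hx'
      simp only [Set.mem_insert_iff, Set.mem_singleton_iff, not_or] at hx'
      exact hcon ⟨x, hx, hx'.1, hx'.2⟩
    have h1 : Nat.card W = (W : Set X).ncard := Nat.card_coe_set_eq (W : Set X)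
    have h2 : (W : Set X).ncard ≤ ({1, w1} : Set X).ncard :=
      Set.ncard_le_ncard hsub (Set.toFinite _)
    have h3 : ({1, w1} : Set X).ncard ≤ 2 := by
      have := Set.ncard_insert_le (1 : X) ({w1} : Set X)
      rw [Set.ncard_singleton] at this
      exact this
    omega
  obtain ⟨w2, hw2, hw21, hw2ne⟩ := hex
  have hw1i : w1⁻¹ = w1 := by
    have := hexp w1 hw1
    rw [pow_two] at this
    exact inv_eq_of_mul_eq_one_right this
  have h31 : w1 * w2 ≠ 1 := by
    intro hh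
    apply hw2ne
    have : w2 = w1⁻¹ := (eq_inv_of_mul_eq_one_right hh)
    rw [this, hw1i]
  have h3a : w1 * w2 ≠ w1 := by
    intro hh
    apply hw21
    exact mul_left_cancel (a := w1) (by rw [hh, mul_one])
  have h3b : w1 * w2 ≠ w2 := by
    intro hh
    apply hw11
    exact mul_right_cancel (b := w2) (by rw [hh, one_mul])
  refine ⟨w2, hw2, hw21, hw2ne, h31, h3a, h3b, ?_⟩
  classical
  have hS : (({1, w1, w2, w1 * w2} : Finset X) : Set X) ⊆ (W : Set X) := by
    intro x hx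
    simp only [Finset.coe_insert, Finset.coe_singleton, Set.mem_insert_iff,
      Set.mem_singleton_iff] at hx
    rcases hx with rfl | rfl | rfl | rfl
    · exact W.one_mem
    · exact hw1
    · exact hw2
    · exact W.mul_mem hw1 hw2
  have hc4 : ({1, w1, w2, w1 * w2} : Finset X).card = 4 := by
    rw [Finset.card_insert_of_notMem, Finset.card_insert_of_notMem,
      Finset.card_insert_of_notMem, Finset.card_singleton]
    · simp only [Finset.mem_singleton]; exact fun hh => h3b hh.symm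
    · simp only [Finset.mem_insert, Finset.mem_singleton, not_or]
      exact ⟨fun hh => hw2ne hh.symm, fun hh => h3a hh.symm⟩
    · simp only [Finset.mem_insert, Finset.mem_singleton, not_or]
      exact ⟨fun hh => hw11 hh.symm, fun hh => hw21 hh.symm, fun hh => h31 hh.symm⟩
  have heq : (({1, w1, w2, w1 * w2} : Finset X) : Set X) = (W : Set X) := by
    apply Set.eq_of_subset_of_ncard_le hS _ (Set.toFinite _)
    rw [Set.ncard_coe_finset, hc4, ← Nat.card_coe_set_eq]
    exact le_of_eq hcard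
  intro x hx
  have : x ∈ (({1, w1, w2, w1 * w2} : Finset X) : Set X) := by rw [heq]; exact hx
  simpa using this


/-- (K): an element of `A` trivial on `W` is trivial -/
theorem triv_of_triv_on_W (h : Hyp X A) {W Y N : Subgroup X} (n : B2N0 X A W Y N)
    (hself : ∀ x : X, (∀ v ∈ N, x * v = v * x) → x ∈ N) (φ : MulAut X) (hφ : φ ∈ A)
    (hφW : ∀ x ∈ W, φ x = x) : φ = 1 := by
  have hN : ∀ v ∈ N, φ v = v :=
    aut_trivial_of_omega1' h N n.comm φ hφ (n.gn.2 φ hφ)
      (fun b hb hb2 => hφW b (n.om1 b hb hb2))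
  apply aut_trivial_of_sub_quot' h N φ hφ hN
  intro x
  apply hself
  intro v hv
  have hv' : x * v * x⁻¹ ∈ N := n.gn.1.conj_mem v hv x
  have h1 := hN _ hv'
  rw [map_mul, map_mul, map_inv, hN v hv] at h1
  have h2 : φ x * v = x * v * x⁻¹ * φ x := by
    rw [← h1]; group
  calc x⁻¹ * φ x * v = x⁻¹ * (φ x * v) := by group
    _ = x⁻¹ * (x * v * x⁻¹ * φ x) := by rw [h2]
    _ = v * (x⁻¹ * φ x) := by group

/-- (L): an element of `A` fixing a nonidentity element of `W` is trivial -/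
theorem triv_of_fix (h : Hyp X A) {W Y N : Subgroup X} (w : B2 X A W) (n : B2N0 X A W Y N)
    (hself : ∀ x : X, (∀ v ∈ N, x * v = v * x) → x ∈ N) (w1 : X) (hw1 : w1 ∈ W) (hw11 : w1 ≠ 1)
    (ψ : MulAut X) (hψ : ψ ∈ A) (hfix : ψ w1 = w1) : ψ = 1 := by
  obtain ⟨w2, hw2, hw21, hw2ne, -, -, -, hall⟩ := four_group_elems w.card w.exp w1 hw1 hw11
  have hw1sq : w1 * w1 = 1 := by rw [← pow_two]; exact w.exp w1 hw1
  have hψw2 : ψ w2 ∈ W := w.inv ψ hψ w2 hw2
  have hne1 : ψ w2 ≠ 1 := by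
    intro hh
    apply hw21
    apply ψ.injective
    rw [hh, map_one]
  have hnew1 : ψ w2 ≠ w1 := by
    intro hh
    apply hw2ne
    apply ψ.injective
    rw [hh, hfix]
  rcases hall _ hψw2 with hh | hh | hh | hh
  · exact absurd hh hne1
  · exact absurd hh hnew1
  · -- ψ trivial on W
    apply triv_of_triv_on_W h n hself ψ hψ
    intro x hx
    rcases hall x hx with rfl | rfl | rfl | rfl
    · exact map_one ψ
    · exact hfix
    · exact hh
    · rw [map_mul, hfix, hh]
  · -- ψ² trivial on W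
    have hψ2 : ψ ^ 2 = 1 := by
      apply triv_of_triv_on_W h n hself (ψ ^ 2) (A.pow_mem hψ 2)
      have h2w2 : (ψ ^ 2) w2 = w2 := by
        rw [pow_two, MulAut.mul_apply, hh, map_mul, hfix, hh, ← mul_assoc, hw1sq, one_mul]
      have h2w1 : (ψ ^ 2) w1 = w1 := by
        rw [pow_two, MulAut.mul_apply, hfix, hfix]
      intro x hx
      rcases hall x hx with rfl | rfl | rfl | rfl
      · exact map_one _
      · exact h2w1
      · exact h2w2
      · rw [map_mul, h2w1, h2w2]
    exact eq_one_of_sq h ψ hψ hψ2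

/-- U27. -/
theorem A_order3 (h : Hyp X A) {W Y N : Subgroup X} (w : B2 X A W) (hY : IsY W Y)
    (h16 : Nat.card Y = 16) (n : B2N0 X A W Y N)
    (hself : ∀ x : X, (∀ v ∈ N, x * v = v * x) → x ∈ N) : ∃ a : MulAut X, B2A X A N a := by
  -- a nonidentity element of W
  have hex1 : ∃ w1 ∈ W, w1 ≠ 1 := by
    by_contra hcon
    have hsub : (W : Set X) ⊆ ({1} : Set X) := by
      intro x hx
      by_contra hx'
      exact hcon ⟨x, hx, hx'⟩
    have h1 : Nat.card W = (W : Set X).ncard := Nat.card_coe_set_eq (W : Set X)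
    have h2 : (W : Set X).ncard ≤ ({1} : Set X).ncard :=
      Set.ncard_le_ncard hsub (Set.toFinite _)
    rw [Set.ncard_singleton] at h2
    have := w.card
    omega
  obtain ⟨w1, hw1, hw11⟩ := hex1
  obtain ⟨w2, hw2, hw21, hw2ne, h31, h3a, h3b, hall⟩ :=
    four_group_elems w.card w.exp w1 hw1 hw11
  have hw1sq : w1 * w1 = 1 := by rw [← pow_two]; exact w.exp w1 hw1
  have hw2sq : w2 * w2 = 1 := by rw [← pow_two]; exact w.exp w2 hw2
  have hcomm : w2 * w1 = w1 * w2 :=
    (Subgroup.mem_center_iff.mp (w.central hw1) w2)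
  obtain ⟨a, ha, haw⟩ := w.trans w1 hw1 w2 hw2 hw11 hw21
  have hL := triv_of_fix h w n hself
  have ha1 : a ≠ 1 := by
    intro hh
    rw [hh, MulAut.one_apply] at haw
    exact hw2ne haw.symm
  have haw2W : a w2 ∈ W := w.inv a ha w2 hw2
  have haw2 : a w2 = w1 * w2 := by
    rcases hall _ haw2W with hh | hh | hh | hh
    · exfalso
      apply hw21
      apply a.injective
      rw [hh, map_one]
    · exfalso
      apply ha1
      have h2 : (a ^ 2) w1 = w1 := by
        rw [pow_two, MulAut.mul_apply, haw, hh]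
      have := hL w1 hw1 hw11 (a ^ 2) (A.pow_mem ha 2) h2
      exact eq_one_of_sq h a ha this
    · exfalso
      apply hw2ne
      apply a.injective
      rw [hh, haw]
    · exact hh
  have haw3 : a (w1 * w2) = w1 := by
    rw [map_mul, haw, haw2, ← mul_assoc, hcomm, mul_assoc, hw2sq, mul_one]
  have ha2w1 : (a ^ 2) w1 = w1 * w2 := by
    rw [pow_two, MulAut.mul_apply, haw, haw2]
  have hcube : a ^ 3 = 1 := by
    apply hL w1 hw1 hw11 (a ^ 3) (A.pow_mem ha 3)
    rw [pow_succ, MulAut.mul_apply, haw, pow_two, MulAut.mul_apply, haw2, haw3]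
  refine ⟨a, ha, ha1, hcube, ?_, ?_⟩
  · intro φ hφ
    have hφw1 : φ w1 ∈ W := w.inv φ hφ w1 hw1
    rcases hall _ hφw1 with hh | hh | hh | hh
    · exfalso
      apply hw11
      apply φ.injective
      rw [hh, map_one]
    · left
      exact hL w1 hw1 hw11 φ hφ hh
    · right; left
      have h1 : (a⁻¹ * φ) w1 = w1 := by
        rw [MulAut.mul_apply, hh, ← haw]
        simp
      have := hL w1 hw1 hw11 (a⁻¹ * φ) (A.mul_mem (A.inv_mem ha) hφ) h1
      have h2 : φ = a * (a⁻¹ * φ) := by group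
      rw [h2, this, mul_one]
    · right; right
      have h1 : ((a ^ 2)⁻¹ * φ) w1 = w1 := by
        rw [MulAut.mul_apply, hh, ← ha2w1]
        simp
      have := hL w1 hw1 hw11 ((a ^ 2)⁻¹ * φ) (A.mul_mem (A.inv_mem (A.pow_mem ha 2)) hφ) h1
      have h2 : φ = a ^ 2 * ((a ^ 2)⁻¹ * φ) := by group
      rw [h2, this, mul_one]
  · intro v hv hav
    by_contra hv1
    obtain ⟨k, hk⟩ := h.pg v
    have hex : ∃ j, v ^ 2 ^ j = 1 := ⟨k, hk⟩
    classical
    have hjs : v ^ 2 ^ (Nat.find hex) = 1 := Nat.find_spec hex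
    have hj0 : Nat.find hex ≠ 0 := by
      intro h0
      rw [h0] at hjs
      simp at hjs
      exact hv1 hjs
    obtain ⟨i, hi⟩ := Nat.exists_eq_succ_of_ne_zero hj0
    have hi' : v ^ 2 ^ i ≠ 1 := by
      intro hh
      have := Nat.find_min' hex hh
      omega
    have hsq : (v ^ 2 ^ i) ^ 2 = 1 := by
      rw [← pow_mul, ← pow_succ]
      rw [hi] at hjs
      exact hjs
    have hW : v ^ 2 ^ i ∈ W := n.om1 _ (N.pow_mem hv _) hsq
    have hfixed : a (v ^ 2 ^ i) = v ^ 2 ^ i := by rw [map_pow, hav]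
    exact ha1 (hL _ hW hi' a ha hfixed)

end Cfsg.Agent.Lib.Helper3.NG5U27
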