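import Cfsg.Agent.Lib.Helper8.NG5Defs
import Cfsg.Agent.Lib.Helper8.NG5Basic

/-!
Farm NG5 (S1904), unit U29 `case_T_small`: the sub-branch `C_X(Y) = N` is impossible.
-/

set_option autoImplicit false
open scoped commutatorElement

namespace Cfsg.Agent.Lib.Helper3.NG5U29
open Cfsg.Agent.Lib.Helper8.NG5

variable {X : Type*} [Group X] [Finite X] {A : Subgroup (MulAut X)}

/-- `mu x y = x y x⁻¹ y⁻¹` -/
def mu (x y : X) : X := x * y * x⁻¹ * y⁻¹

theorem mu_eq_one_iff (x y : X) : mu x y = 1 ↔ x * y = y * x := by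
  unfold mu
  constructor
  · intro h
    have h1 := mul_inv_eq_one.mp h
    exact mul_inv_eq_iff_eq_mul.mp h1
  · intro h
    calc x * y * x⁻¹ * y⁻¹ = (x * y) * x⁻¹ * y⁻¹ := rfl
      _ = (y * x) * x⁻¹ * y⁻¹ := by rw [h]
      _ = 1 := by group

theorem mu_aut (φ : MulAut X) (x y : X) : mu (φ x) (φ y) = φ (mu x y) := by
  simp only [mu, map_mul, map_inv]

theorem mu_one_right (x : X) : mu x 1 = 1 := by unfold mu; group

/-- the elements of a four-group, given two distinct nonidentity elements -/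
theorem four_elems {W : Subgroup X} (hcard : Nat.card W = 4) (hexp : ∀ w ∈ W, w ^ 2 = 1)
    (w1 w2 : X) (hw1 : w1 ∈ W) (hw2 : w2 ∈ W) (hw11 : w1 ≠ 1) (hw21 : w2 ≠ 1) (hne : w2 ≠ w1) :
    ∀ x ∈ W, x = 1 ∨ x = w1 ∨ x = w2 ∨ x = w1 * w2 := by
  have hw1i : w1⁻¹ = w1 := by
    have := hexp w1 hw1
    rw [pow_two] at this
    exact inv_eq_of_mul_eq_one_right this
  have h31 : w1 * w2 ≠ 1 := by
    intro hh
    apply hne
    have : w2 = w1⁻¹ := (eq_inv_of_mul_eq_one_right hh)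
    rw [this, hw1i]
  have h3a : w1 * w2 ≠ w1 := by
    intro hh
    apply hw21
    exact mul_left_cancel (a := w1) (by rw [hh, mul_one])
  have h3b : w1 * w2 ≠ w2 := by
    intro hh
    apply hw11
    exact mul_right_cancel (b := w2) (by rw [hh, one_mul])
  classical
  have hS : (({1, w1, w2, w1 * w2} : Finset X) : Set X) ⊆ (W : Set X) := by
    intro x hx
    simp only [Finset.coe_insert, Finset.coe_singleton, Set.mem_insert_iff,
      Set.mem_singleton_iff] at hx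
    rcases hx with rfl | rfl | rfl | rfl
    · exact W.one_mem
    · exact hw1
    · exact hw2
    · exact W.mul_mem hw1 hw2
  have hc4 : ({1, w1, w2, w1 * w2} : Finset X).card = 4 := by
    rw [Finset.card_insert_of_notMem, Finset.card_insert_of_notMem,
      Finset.card_insert_of_notMem, Finset.card_singleton]
    · simp only [Finset.mem_singleton]; exact fun hh => h3b hh.symm
    · simp only [Finset.mem_insert, Finset.mem_singleton, not_or]
      exact ⟨fun hh => hne hh.symm, fun hh => h3a hh.symm⟩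
    · simp only [Finset.mem_insert, Finset.mem_singleton, not_or]
      exact ⟨fun hh => hw11 hh.symm, fun hh => hw21 hh.symm, fun hh => h31 hh.symm⟩
  have heq : (({1, w1, w2, w1 * w2} : Finset X) : Set X) = (W : Set X) := by
    apply Set.eq_of_subset_of_ncard_le hS _ (Set.toFinite _)
    rw [Set.ncard_coe_finset, hc4, ← Nat.card_coe_set_eq]
    exact le_of_eq hcard
  intro x hx
  have : x ∈ (({1, w1, w2, w1 * w2} : Finset X) : Set X) := by rw [heq]; exact hx
  simpa using this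

/-- the standing context -/
structure Ctx (A : Subgroup (MulAut X)) (W Y N : Subgroup X) (a : MulAut X) : Prop where
  h : Hyp X A
  w : B2 X A W
  hY : IsY W Y
  n : B2N0 X A W Y N
  ha : B2A X A N a
  hT : ∀ x : X, (∀ y ∈ Y, x * y = y * x) → x ∈ N

namespace Ctx

variable {W Y N : Subgroup X} {a : MulAut X} (c : Ctx A W Y N a)
include c

theorem Wc {w' : X} (hw' : w' ∈ W) (g : X) : w' * g = g * w' :=
  (Subgroup.mem_center_iff.mp (c.w.central hw') g).symm

theorem Wsq {w' : X} (hw' : w' ∈ W) : w' * w' = 1 := by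
  rw [← pow_two]; exact c.w.exp w' hw'

theorem Winv {w' : X} (hw' : w' ∈ W) : w'⁻¹ = w' := inv_eq_of_mul_eq_one_right (c.Wsq hw')

theorem WN : W ≤ N := by
  intro w' hw'
  apply c.n.YN
  rw [c.hY w']
  refine ⟨?_, ?_⟩
  · rw [c.w.exp w' hw']; exact W.one_mem
  · intro g
    have : ⁅w', g⁆ = 1 := by
      rw [commutatorElement_eq_one_iff_mul_comm]
      exact c.Wc hw' g
    rw [this]; exact W.one_mem

theorem Ycomm {y y' : X} (hy : y ∈ Y) (hy' : y' ∈ Y) : y * y' = y' * y :=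
  c.n.comm y (c.n.YN hy) y' (c.n.YN hy')

/-- `mu g y ∈ W` for `y ∈ Y` -/
theorem mu_mem {y : X} (hy : y ∈ Y) (g : X) : mu g y ∈ W := by
  have h1 := ((c.hY y).mp hy).2 g
  have h2 : mu g y = (⁅y, g⁆)⁻¹ := by
    unfold mu
    rw [commutatorElement_def]; group
  rw [h2]
  exact W.inv_mem h1

/-- multiplicativity in the first variable -/
theorem mu_mul_left {y : X} (hy : y ∈ Y) (x x' : X) : mu (x * x') y = mu x' y * mu x y := by
  have hc := c.Wc (c.mu_mem hy x') x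
  have hc' : x' * y * x'⁻¹ * y⁻¹ * x = x * (x' * y * x'⁻¹ * y⁻¹) := hc
  unfold mu
  calc x * x' * y * (x * x')⁻¹ * y⁻¹ = x * (x' * y * x'⁻¹ * y⁻¹) * y * x⁻¹ * y⁻¹ := by group
    _ = (x' * y * x'⁻¹ * y⁻¹ * x) * y * x⁻¹ * y⁻¹ := by rw [hc']
    _ = x' * y * x'⁻¹ * y⁻¹ * (x * y * x⁻¹ * y⁻¹) := by group

/-- multiplicativity in the second variable -/
theorem mu_mul_right {y y' : X} (_hy : y ∈ Y) (hy' : y' ∈ Y) (x : X) :
    mu x (y * y') = mu x y * mu x y' := by
  have hc := c.Wc (c.mu_mem hy' x) (y⁻¹)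
  have hc' : x * y' * x⁻¹ * y'⁻¹ * y⁻¹ = y⁻¹ * (x * y' * x⁻¹ * y'⁻¹) := hc
  unfold mu
  calc x * (y * y') * x⁻¹ * (y * y')⁻¹ = x * y * x⁻¹ * (x * y' * x⁻¹ * y'⁻¹ * y⁻¹) := by group
    _ = x * y * x⁻¹ * (y⁻¹ * (x * y' * x⁻¹ * y'⁻¹)) := by rw [hc']
    _ = x * y * x⁻¹ * y⁻¹ * (x * y' * x⁻¹ * y'⁻¹) := by group

theorem mu_inv_right {y : X} (hy : y ∈ Y) (x : X) : mu x y⁻¹ = mu x y := by
  have h1 := c.mu_mul_right hy (Y.inv_mem hy) x
  rw [mul_inv_cancel, mu_one_right] at h1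
  have h2 : mu x y⁻¹ = (mu x y)⁻¹ := by
    rw [eq_comm, inv_eq_iff_eq_inv, ← mul_eq_one_iff_eq_inv]
    exact h1.symm
  rw [h2, c.Winv (c.mu_mem hy x)]

/-- commutators lie in `N` -/
theorem comm_mem_N (x x' : X) : ⁅x, x'⁆ ∈ N := by
  apply c.hT
  intro y hy
  rw [← mu_eq_one_iff]
  have e1 : mu (x * x' * x⁻¹ * x'⁻¹) y = mu x'⁻¹ y * (mu x⁻¹ y * (mu x' y * mu x y)) := by
    rw [c.mu_mul_left hy, c.mu_mul_left hy, c.mu_mul_left hy]
  have e2 : mu x⁻¹ y * mu x y = 1 := by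
    rw [← c.mu_mul_left hy, mul_inv_cancel]
    unfold mu; group
  have e3 : mu x'⁻¹ y * mu x' y = 1 := by
    rw [← c.mu_mul_left hy, mul_inv_cancel]
    unfold mu; group
  have hcomm : mu x⁻¹ y * mu x' y = mu x' y * mu x⁻¹ y := c.Wc (c.mu_mem hy _) _
  rw [commutatorElement_def, e1]
  calc mu x'⁻¹ y * (mu x⁻¹ y * (mu x' y * mu x y))
      = mu x'⁻¹ y * ((mu x⁻¹ y * mu x' y) * mu x y) := by group
    _ = mu x'⁻¹ y * ((mu x' y * mu x⁻¹ y) * mu x y) := by rw [hcomm]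
    _ = (mu x'⁻¹ y * mu x' y) * (mu x⁻¹ y * mu x y) := by group
    _ = 1 := by rw [e2, e3, mul_one]

/-- squares lie in `N` -/
theorem sq_mem_N (x : X) : x * x ∈ N := by
  apply c.hT
  intro y hy
  rw [← mu_eq_one_iff, c.mu_mul_left hy]
  exact c.Wsq (c.mu_mem hy x)

theorem commutator_le_N : commutator X ≤ N := by
  rw [commutator_def, Subgroup.commutator_le]
  intro g _ g' _
  exact c.comm_mem_N g g'

/-- `Y` is `A`-invariant -/
theorem Y_inv (φ : MulAut X) (hφ : φ ∈ A) {y : X} (hy : y ∈ Y) : φ y ∈ Y := by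
  rw [c.hY]
  obtain ⟨h1, h2⟩ := (c.hY y).mp hy
  refine ⟨?_, ?_⟩
  · rw [← map_pow]
    exact c.w.inv φ hφ _ h1
  · intro g
    have h3 := c.w.inv φ hφ _ (h2 (φ⁻¹ g))
    rw [map_commutatorElement] at h3
    simpa using h3

end Ctx


namespace Ctx

variable {W Y N : Subgroup X} {a : MulAut X} (c : Ctx A W Y N a)
include c

theorem a_cube_apply (g : X) : a ((a ^ 2) g) = g := by
  have : a ((a ^ 2) g) = (a ^ 3) g := by
    rw [pow_succ' a 2, MulAut.mul_apply]
  rw [this, c.ha.cube, MulAut.one_apply]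

theorem a_sq_a_apply (g : X) : (a ^ 2) (a g) = g := by
  have : (a ^ 2) (a g) = (a ^ 3) g := by
    rw [pow_succ a 2, MulAut.mul_apply]
  rw [this, c.ha.cube, MulAut.one_apply]

/-- fixed-point-freeness on `Y`: `y · a y · a² y = 1` -/
theorem norm_Y {y : X} (hy : y ∈ Y) : y * a y * (a ^ 2) y = 1 := by
  have hy1 : a y ∈ Y := c.Y_inv a c.ha.mem hy
  have hy2 : (a ^ 2) y ∈ Y := c.Y_inv (a ^ 2) (A.pow_mem c.ha.mem 2) hy
  apply c.ha.fpf _ (c.n.YN (Y.mul_mem (Y.mul_mem hy hy1) hy2))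
  rw [map_mul, map_mul, c.a_cube_apply]
  have e1 : a (a y) = (a ^ 2) y := by rw [pow_two, MulAut.mul_apply]
  rw [e1]
  have c1 := c.Ycomm hy hy1
  have c2 := c.Ycomm hy hy2
  calc a y * (a ^ 2) y * y = a y * ((a ^ 2) y * y) := by group
    _ = a y * (y * (a ^ 2) y) := by rw [c2]
    _ = (a y * y) * (a ^ 2) y := by group
    _ = y * a y * (a ^ 2) y := by rw [c1]

/-- (G4): an element outside `N` commutes with no element of `Y \ W` -/
theorem cent_Y {x : X} (hx : x ∉ N) {y0 : X} (hy0 : y0 ∈ Y) (hcomm : x * y0 = y0 * x) :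
    y0 ∈ W := by
  by_contra hy0W
  have hy1 : a y0 ∈ Y := c.Y_inv a c.ha.mem hy0
  have hy2 : (a ^ 2) y0 ∈ Y := c.Y_inv (a ^ 2) (A.pow_mem c.ha.mem 2) hy0
  have hm0 : mu x y0 = 1 := (mu_eq_one_iff x y0).mpr hcomm
  set p := mu x (a y0) with hp
  have hpW : p ∈ W := c.mu_mem hy1 x
  -- mu x (a² y0) = p
  have hm2 : mu x ((a ^ 2) y0) = p := by
    have h1 : (a ^ 2) y0 = (y0 * a y0)⁻¹ := by
      rw [eq_comm, inv_eq_iff_eq_inv, ← mul_eq_one_iff_eq_inv]
      exact c.norm_Y hy0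
    rw [h1, c.mu_inv_right (Y.mul_mem hy0 hy1), c.mu_mul_right hy0 hy1, hm0, one_mul]
  -- the norm relation
  have hg : x * a x * (a ^ 2) x ∈ N :=
    c.commutator_le_N (Cfsg.Agent.Lib.Helper8.NG5Basic.norm3 c.h a c.ha.mem c.ha.ne_one
      c.ha.cube c.ha.all x)
  have hrel : mu (x * a x * (a ^ 2) x) y0 = 1 := by
    rw [mu_eq_one_iff]
    exact c.n.comm _ hg _ (c.n.YN hy0)
  rw [c.mu_mul_left hy0, c.mu_mul_left hy0, hm0, mul_one] at hrel
  have e1 : mu ((a ^ 2) x) y0 = (a ^ 2) p := by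
    have : y0 = (a ^ 2) (a y0) := (c.a_sq_a_apply y0).symm
    rw [hp, ← mu_aut, ← this]
  have e2 : mu (a x) y0 = a p := by
    have : y0 = a ((a ^ 2) y0) := (c.a_cube_apply y0).symm
    rw [← hm2, ← mu_aut, ← this]
  rw [e1, e2] at hrel
  -- a (a p * p) = 1
  have h1 : a (a p * p) = 1 := by
    rw [map_mul]
    have : a (a p) = (a ^ 2) p := by rw [pow_two, MulAut.mul_apply]
    rw [this]; exact hrel
  have h2 : a p * p = 1 := by
    have := a.injective (h1.trans (map_one a).symm)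
    exact this
  have h3 : a p = p := by
    have : a p = p⁻¹ := eq_inv_of_mul_eq_one_left h2
    rw [this, c.Winv hpW]
  have hp1 : p = 1 := c.ha.fpf p (c.WN hpW) h3
  have hm1 : mu x (a y0) = 1 := hp1
  -- squares
  have hs0W : y0 * y0 ∈ W := by
    have := ((c.hY y0).mp hy0).1
    rwa [pow_two] at this
  have hs01 : y0 * y0 ≠ 1 := by
    intro hh
    apply hy0W
    apply c.n.om1 y0 (c.n.YN hy0)
    rw [pow_two]; exact hh
  have has0 : a (y0 * y0) ∈ W := c.w.inv a c.ha.mem _ hs0W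
  have has01 : a (y0 * y0) ≠ 1 := by
    intro hh
    apply hs01
    apply a.injective
    rw [hh, map_one]
  have hasne : a (y0 * y0) ≠ y0 * y0 := by
    intro hh
    exact hs01 (c.ha.fpf _ (c.WN hs0W) hh)
  have hall := four_elems c.w.card c.w.exp (y0 * y0) (a (y0 * y0)) hs0W has0 hs01 has01 hasne
  -- x centralizes Y
  apply hx
  apply c.hT
  intro y hy
  have hyW : y * y ∈ W := by
    have := ((c.hY y).mp hy).1
    rwa [pow_two] at this
  -- if (y e⁻¹)² = 1 with e ∈ Y commuting with x then y commutes with x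
  have key : ∀ e ∈ Y, x * e = e * x → y * y = e * e → x * y = y * x := by
    intro e he hxe hsq
    have hyeY : y * e⁻¹ ∈ Y := Y.mul_mem hy (Y.inv_mem he)
    have hsq1 : (y * e⁻¹) ^ 2 = 1 := by
      have cc := c.Ycomm hy (Y.inv_mem he)
      rw [pow_two]
      calc y * e⁻¹ * (y * e⁻¹) = y * (e⁻¹ * y) * e⁻¹ := by group
        _ = y * (y * e⁻¹) * e⁻¹ := by rw [cc]
        _ = (y * y) * e⁻¹ * e⁻¹ := by group
        _ = (e * e) * e⁻¹ * e⁻¹ := by rw [hsq]
        _ = 1 := by group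
    have hW' : y * e⁻¹ ∈ W := c.n.om1 _ (c.n.YN hyeY) hsq1
    have h1 := c.Wc hW' x
    have h2 : y = (y * e⁻¹) * e := by group
    rw [h2]
    calc x * (y * e⁻¹ * e) = (x * (y * e⁻¹)) * e := by group
      _ = ((y * e⁻¹) * x) * e := by rw [h1]
      _ = (y * e⁻¹) * (x * e) := by group
      _ = (y * e⁻¹) * (e * x) := by rw [hxe]
      _ = y * e⁻¹ * e * x := by group
  have hxy1 : x * a y0 = a y0 * x := (mu_eq_one_iff x (a y0)).mp hm1
  rcases hall _ hyW with hh | hh | hh | hh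
  · exact key 1 Y.one_mem (by simp) (by rw [hh]; simp)
  · exact key y0 hy0 hcomm hh
  · exact key (a y0) hy1 hxy1 (by rw [hh, map_mul])
  · apply key (y0 * a y0) (Y.mul_mem hy0 hy1)
    · calc x * (y0 * a y0) = (x * y0) * a y0 := by group
        _ = (y0 * x) * a y0 := by rw [hcomm]
        _ = y0 * (x * a y0) := by group
        _ = y0 * (a y0 * x) := by rw [hxy1]
        _ = y0 * a y0 * x := by group
    · rw [hh, map_mul]
      have cc := c.Ycomm hy0 hy1
      calc y0 * y0 * (a y0 * a y0) = y0 * (y0 * a y0) * a y0 := by group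
        _ = y0 * (a y0 * y0) * a y0 := by rw [cc]
        _ = y0 * a y0 * (y0 * a y0) := by group

end Ctx


namespace Ctx

variable {W Y N : Subgroup X} {a : MulAut X} (c : Ctx A W Y N a)
include c

/-- (G5): `C_N(x) ≤ W` for `x ∉ N` -/
theorem cent_N {x : X} (hx : x ∉ N) {v : X} (hv : v ∈ N) (hcomm : x * v = v * x) : v ∈ W := by
  by_contra hvW
  obtain ⟨k, hk⟩ := c.h.pg v
  have hex : ∃ j, v ^ 2 ^ j = 1 := ⟨k, hk⟩
  classical
  have hjs : v ^ 2 ^ (Nat.find hex) = 1 := Nat.find_spec hex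
  have hj0 : Nat.find hex ≠ 0 := by
    intro h0
    rw [h0] at hjs
    simp at hjs
    apply hvW
    rw [hjs]; exact W.one_mem
  have hj1 : Nat.find hex ≠ 1 := by
    intro h1
    rw [h1] at hjs
    simp at hjs
    exact hvW (c.n.om1 v hv hjs)
  obtain ⟨i, hi⟩ : ∃ i, Nat.find hex = i + 2 := ⟨Nat.find hex - 2, by omega⟩
  have hmin : v ^ 2 ^ (i + 1) ≠ 1 := by
    intro hh
    have := Nat.find_min' hex hh
    omega
  set v' := v ^ 2 ^ i with hv'
  have hv'N : v' ∈ N := N.pow_mem hv _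
  have hv'4 : v' ^ 4 = 1 := by
    rw [hv', ← pow_mul]
    have : 2 ^ i * 4 = 2 ^ (i + 2) := by ring
    rw [this, ← hi]
    exact hjs
  have hv'2 : v' ^ 2 ≠ 1 := by
    rw [hv', ← pow_mul, ← pow_succ]
    exact hmin
  have hv'Y : v' ∈ Y := c.n.om2 v' hv'N hv'4
  have hv'comm : x * v' = v' * x := by
    have : Commute x v := hcomm
    exact (this.pow_right _)
  have hv'W := c.cent_Y hx hv'Y hv'comm
  exact hv'2 (c.w.exp v' hv'W)

/-- (G6) -/
theorem sq_mem_W {x : X} (hx : x ∉ N) : x * x ∈ W :=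
  c.cent_N hx (c.sq_mem_N x) (by group)

/-- (G7) -/
theorem conj_mul_mem_W {x : X} (hx : x ∉ N) {v : X} (hv : v ∈ N) : x * v * x⁻¹ * v ∈ W := by
  have hxv : x * v ∉ N := by
    intro hh
    apply hx
    have := N.mul_mem hh (N.inv_mem hv)
    rwa [mul_inv_cancel_right] at this
  have h1 := c.sq_mem_W hxv
  have h2 := c.sq_mem_W hx
  have hc := c.Wc h2 v
  have h3 : x * v * (x * v) = (x * v * x⁻¹ * v) * (x * x) := by
    calc x * v * (x * v) = x * v * x⁻¹ * ((x * x) * v) := by group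
      _ = x * v * x⁻¹ * (v * (x * x)) := by rw [hc]
      _ = (x * v * x⁻¹ * v) * (x * x) := by group
  have h4 : x * v * x⁻¹ * v = (x * v * (x * v)) * (x * x)⁻¹ := by
    rw [h3]; group
  rw [h4]
  exact W.mul_mem h1 (W.inv_mem h2)

end Ctx

/-- if all elements outside `K` lie in one coset `y K` then `K` has index at most 2 -/
theorem index_le_two (K : Subgroup X) (y : X) (hK : ∀ g : X, g ∉ K → y⁻¹ * g ∈ K) :
    K.index ≤ 2 := by
  have hsub : (Set.univ : Set X) ⊆ (K : Set X) ∪ (fun k => y * k) '' (K : Set X) := by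
    intro g _
    by_cases hg : g ∈ K
    · exact Or.inl hg
    · right
      exact ⟨y⁻¹ * g, hK g hg, by simp⟩
  have h1 : Nat.card X = (Set.univ : Set X).ncard := (Set.ncard_univ X).symm
  have h2 : Nat.card ↥K = (K : Set X).ncard := Nat.card_coe_set_eq (K : Set X)
  have h3 : ((fun k => y * k) '' (K : Set X)).ncard ≤ (K : Set X).ncard :=
    Set.ncard_image_le (Set.toFinite _)
  have h4 : (Set.univ : Set X).ncard ≤ ((K : Set X) ∪ (fun k => y * k) '' (K : Set X)).ncard :=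
    Set.ncard_le_ncard hsub (Set.toFinite _)
  have h5 := Set.ncard_union_le (K : Set X) ((fun k => y * k) '' (K : Set X))
  have h6 := K.card_mul_index
  have hpos : 0 < Nat.card ↥K := Nat.card_pos
  by_contra hcon
  push_neg at hcon
  have : Nat.card ↥K * 3 ≤ Nat.card ↥K * K.index := Nat.mul_le_mul_left _ hcon
  omega

/-- U29. -/
theorem case_T_small (h : Hyp X A) {W Y N : Subgroup X} (w : B2 X A W) (hY : IsY W Y)
    (h16 : Nat.card Y = 16) (n : B2N0 X A W Y N)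
    (hself : ∀ x : X, (∀ v ∈ N, x * v = v * x) → x ∈ N) (a : MulAut X) (ha : B2A X A N a)
    (hT : ∀ x : X, (∀ y ∈ Y, x * y = y * x) → x ∈ N) : False := by
  have c : Ctx A W Y N a := ⟨h, w, hY, n, ha, hT⟩
  -- N is a proper subgroup
  obtain ⟨x0, y0, hxy0⟩ := h.na
  have hNtop : N ≠ ⊤ := by
    intro hh
    apply hxy0
    exact n.comm x0 (hh ▸ Subgroup.mem_top x0) y0 (hh ▸ Subgroup.mem_top y0)
  have hex : ∃ x, x ∉ N := by
    by_contra hcon
    push_neg at hcon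
    exact hNtop (eq_top_iff.mpr (fun g _ => hcon g))
  obtain ⟨x, hx⟩ := hex
  -- a second element
  have hex2 : ∃ x', x' ∉ N ∧ x * x' ∉ N := by
    by_contra hcon
    push_neg at hcon
    have hidx : N.index ≤ 2 := by
      apply index_le_two N x⁻¹
      intro g hg
      rw [inv_inv]
      exact hcon g hg
    exact hNtop (Cfsg.Agent.Lib.Helper8.NG5Basic.index_two h N n.gn.2 hidx)
  obtain ⟨x', hx', hxx'⟩ := hex2
  -- (G9): squares of N lie in W, so N ≤ Y
  have hNsq : ∀ v ∈ N, v * v ∈ W := by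
    intro v hv
    have h1 := c.conj_mul_mem_W hx' hv
    have h2 := c.conj_mul_mem_W hx hv
    have h3 := c.conj_mul_mem_W hxx' hv
    set w1 := x' * v * x'⁻¹ * v with hw1
    set w2 := x * v * x⁻¹ * v with hw2
    set w3 := x * x' * v * (x * x')⁻¹ * v with hw3
    have e1 : x' * v * x'⁻¹ = w1 * v⁻¹ := by rw [hw1]; group
    have e2 : x * v⁻¹ * x⁻¹ = v * w2⁻¹ := by rw [hw2]; group
    have hc1 := c.Wc h1 x
    have e3 : w3 = w1 * v * w2⁻¹ * v := by
      calc w3 = x * (x' * v * x'⁻¹) * x⁻¹ * v := by rw [hw3]; group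
        _ = x * (w1 * v⁻¹) * x⁻¹ * v := by rw [e1]
        _ = (x * w1) * v⁻¹ * x⁻¹ * v := by group
        _ = (w1 * x) * v⁻¹ * x⁻¹ * v := by rw [hc1]
        _ = w1 * (x * v⁻¹ * x⁻¹) * v := by group
        _ = w1 * (v * w2⁻¹) * v := by rw [e2]
        _ = w1 * v * w2⁻¹ * v := by group
    have hc2 := c.Wc (W.inv_mem h2) v
    have e4 : v * v = w1⁻¹ * w3 * w2 := by
      rw [e3]
      calc v * v = w1⁻¹ * (w1 * v * (v * w2⁻¹)) * w2 := by group
        _ = w1⁻¹ * (w1 * v * (w2⁻¹ * v)) * w2 := by rw [hc2]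
        _ = w1⁻¹ * (w1 * v * w2⁻¹ * v) * w2 := by group
    rw [e4]
    exact W.mul_mem (W.mul_mem (W.inv_mem h1) h3) h2
  have hNY : N ≤ Y := by
    intro v hv
    apply n.om2 v hv
    have h1 := c.w.exp _ (hNsq v hv)
    have : v ^ 4 = (v * v) ^ 2 := by
      rw [← pow_two, ← pow_mul]
    rw [this, h1]
  -- (G10): all squares lie in W
  have hsq : ∀ g : X, g * g ∈ W := by
    intro g
    by_cases hg : g ∈ N
    · exact hNsq g hg
    · exact c.sq_mem_W hg
  -- (G11): all commutators lie in W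
  have hcomm : ∀ g k : X, ⁅g, k⁆ ∈ W := by
    intro g k
    have h1 := hsq (g * k)
    have h2 := hsq g
    have h3 := hsq k
    have hc := c.Wc (W.inv_mem h2) k⁻¹
    have e : ⁅g, k⁆ = (g * k * (g * k)) * (g * g)⁻¹ * (k * k)⁻¹ := by
      rw [commutatorElement_def]
      calc g * k * g⁻¹ * k⁻¹ = g * k * g * (k * (k⁻¹ * (g * g)⁻¹)) * k⁻¹ := by group
        _ = g * k * g * (k * ((g * g)⁻¹ * k⁻¹)) * k⁻¹ := by rw [hc]
        _ = (g * k * (g * k)) * (g * g)⁻¹ * (k * k)⁻¹ := by group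
    rw [e]
    exact W.mul_mem (W.mul_mem h1 (W.inv_mem h2)) (W.inv_mem h3)
  -- (G12): X = Y is abelian
  have hall : ∀ g : X, g ∈ N := by
    intro g
    apply n.YN
    rw [hY g]
    refine ⟨by rw [pow_two]; exact hsq g, fun k => hcomm g k⟩
  exact hx (hall x)

end Cfsg.Agent.Lib.Helper3.NG5U29
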