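import Mathlib
import Cfsg.Agent.Lib.Helper2.PPrime2
import Cfsg.Agent.Lib.Helper2.NotRad
import Cfsg.Agent.S5080

set_option autoImplicit false
set_option maxHeartbeats 1000000
set_option linter.style.haveILetI false
set_option linter.unusedSectionVars false
set_option linter.unusedVariables false

/-! Normal subsystems of index prime to `p` attached to a quotient of `Aut_F(T)`: setup,
the system `E·K` on `T`, relative centricity. -/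

namespace Cfsg.Agent.Lib.Helper3.NK

open Cfsg Cfsg.FusionSystem Cfsg.Agent.Lib.Helper9 Cfsg.Agent.Lib.Helper2.StrongInv
  Cfsg.Agent.Lib.Helper2.PrimeIdx Cfsg.Agent.Lib.Helper2.KNorm Cfsg.Agent.Lib.Helper2.PPrime

variable {Ω : Type*} [Group Ω] {S T : Subgroup Ω}

/-- relative centricity: all `F`-conjugates of `R` contain their centralizers in `T` -/
def TC (F : FusionSystem S) (T R : Subgroup Ω) : Prop :=
  R ≤ T ∧ ∀ X : Subgroup Ω, F.IsConj R X → centralizerIn T X ≤ X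

theorem TC.of_isConj {F : FusionSystem S} {R X : Subgroup Ω} (h : TC F T R)
    (hX : F.IsConj R X) (hXT : X ≤ T) : TC F T X :=
  ⟨hXT, fun Y hY => h.2 Y (isConj_trans F hX hY)⟩

theorem centralizerIn_anti (T : Subgroup Ω) {X Y : Subgroup Ω} (h : X ≤ Y) :
    centralizerIn T Y ≤ centralizerIn T X := by
  intro c hc
  exact ⟨hc.1, Subgroup.centralizer_le h hc.2⟩

theorem TC.mono {F : FusionSystem S} {R R' : Subgroup Ω} (h : TC F T R) (hle : R ≤ R')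
    (hR' : R' ≤ T) : TC F T R' := by
  refine ⟨hR', ?_⟩
  rintro X' ⟨φ', hφ', hr⟩
  have hφ := restrict_mem F hφ' hle
  have hXle : (φ'.comp (Subgroup.inclusion hle)).range ≤ X' := by
    rw [← hr]
    rintro _ ⟨x, rfl⟩
    exact ⟨Subgroup.inclusion hle x, rfl⟩
  have h1 := h.2 _ ⟨_, hφ, rfl⟩
  exact ((centralizerIn_anti T hXle).trans h1).trans hXle

/-- the standing hypotheses -/
structure Setup (p : ℕ) (F : FusionSystem S) (E : FusionSystem T) (K : Subgroup (MulAut T)) :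
    Prop where
  hS : IsPGroup p S
  hF : F.IsSaturated p
  hEs : E.IsSaturated p
  hEF : E.IsSubsystemOf F
  hT : F.StronglyClosed T
  hInv : Cfsg.Agent.Lib.Helper2.StrongInv.Inv F E
  hFr : ∀ P : Subgroup Ω, P ≤ T → ∀ φ ∈ F.Hom P, Fr F E P φ
  hKle : K ≤ F.autGroup T
  hKn : ∀ α ∈ F.autGroup T, ∀ κ ∈ K, α * κ * α⁻¹ ∈ K
  hEK : E.autGroup T ≤ K
  hpK : ∀ α ∈ F.autGroup T, ∀ k : ℕ, α ^ (p ^ k) = 1 → α ∈ K

variable {p : ℕ} {F : FusionSystem S} {E : FusionSystem T} {K : Subgroup (MulAut T)}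

theorem Setup.hInvK (st : Setup p F E K) : InvH K E :=
  fun P P₂ hPT φ hφ α hα hP₂ => st.hInv P P₂ hPT φ hφ α (st.hKle hα) hP₂

/-- the system `E·K` on `T` -/
def Setup.EK (st : Setup p F E K) : FusionSystem T :=
  sysH K E st.hInvK

theorem Setup.mem_EK (st : Setup p F E K) {P : Subgroup Ω} {φ : P →* Ω} :
    φ ∈ st.EK.Hom P ↔ FrH K E P φ := Iff.rfl

theorem Setup.hTS (st : Setup p F E K) : T ≤ S := st.hT.1

theorem Setup.E_le_EK (st : Setup p F E K) : E.IsSubsystemOf st.EK :=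
  fun _ φ hφ => ⟨1, K.one_mem, φ, hφ, fun _ _ => rfl⟩

theorem Setup.EK_le_F (st : Setup p F E K) : st.EK.IsSubsystemOf F := by
  rintro P φ ⟨κ, hκ, φ₀, hφ₀, he⟩
  have hκF := hom_of_mem_autGroup F st.hTS (st.hKle hκ)
  have hT : ∀ x : P, φ₀ x ∈ T := (E.le_of_mem hφ₀).2
  obtain ⟨χ, hχ, hχe⟩ := comp_hom F (st.hEF P hφ₀) hκF hT
  have h1 : χ = φ := by
    ext x
    rw [hχe, he x (hT x)]
    rfl
  rw [← h1]
  exact hχ

theorem Setup.resAut_mem_EK (st : Setup p F E K) {κ : MulAut T} (hκ : κ ∈ K) {P : Subgroup Ω}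
    (hP : P ≤ T) : resAut κ hP ∈ st.EK.Hom P :=
  ⟨κ, hκ, P.subtype, subtype_mem E hP, fun _ _ => rfl⟩

theorem Setup.EK_inv (st : Setup p F E K) : Cfsg.Agent.Lib.Helper2.StrongInv.Inv F st.EK := by
  intro P P₂ hPT φ hφ α hα hP₂
  obtain ⟨κ, hκ, φ₀, hφ₀, he⟩ := hφ
  obtain ⟨χ₀, hχ₀, hχ₀e⟩ := st.hInv P P₂ hPT φ₀ hφ₀ α hα hP₂
  have hφ₀T : ∀ x : P, φ₀ x ∈ T := (E.le_of_mem hφ₀).2
  have hχ₀T : ∀ y : P₂, χ₀ y ∈ T := (E.le_of_mem hχ₀).2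
  have hκ' : α * κ * α⁻¹ ∈ K := st.hKn α hα κ hκ
  let χ : P₂ →* Ω := (T.subtype.comp (α * κ * α⁻¹).toMonoidHom).comp (χ₀.codRestrict T hχ₀T)
  refine ⟨χ, ⟨α * κ * α⁻¹, hκ', χ₀, hχ₀, fun y hy => rfl⟩, ?_⟩
  intro x h2 hφx
  show (((α * κ * α⁻¹) ⟨χ₀ ⟨((α ⟨x, hPT x.2⟩ : T) : Ω), h2⟩, hχ₀T _⟩ : T) : Ω) = _
  have e1 := hχ₀e x h2 (hφ₀T x)
  have e2 : (⟨χ₀ ⟨((α ⟨x, hPT x.2⟩ : T) : Ω), h2⟩, hχ₀T _⟩ : T) = α ⟨φ₀ x, hφ₀T x⟩ :=
    Subtype.ext e1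
  rw [e2]
  show ((α (κ (α⁻¹ (α ⟨φ₀ x, hφ₀T x⟩))) : T) : Ω) = _
  rw [MulAut.inv_apply_self]
  have e3 : (κ ⟨φ₀ x, hφ₀T x⟩ : T) = ⟨φ x, hφx⟩ := Subtype.ext (he x (hφ₀T x)).symm
  rw [e3]

/-- an automorphism of `T` that is a map of `E·K` lies in `K` -/
theorem Setup.mem_K_of_mem_EK [Finite S] (st : Setup p F E K) {α : MulAut T}
    (h : T.subtype.comp α.toMonoidHom ∈ st.EK.Hom T) : α ∈ K := by
  haveI : Finite T := finite_of_le st.hTS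
  obtain ⟨κ, hκ, φ₀, hφ₀, he⟩ := h
  have hφ₀T : ∀ x : T, φ₀ x ∈ T := (E.le_of_mem hφ₀).2
  have hr : φ₀.range = T := by
    apply Subgroup.eq_of_le_of_card_ge
    · rintro _ ⟨x, rfl⟩
      exact hφ₀T x
    · exact (Nat.card_congr (MonoidHom.ofInjective (E.injective_of_mem hφ₀)).toEquiv).le
  obtain ⟨ε, hε, hεe⟩ := exists_aut_of_hom E hφ₀ hr
  have h1 : α = κ * ε := by
    ext x
    have e := he x (hφ₀T x)
    show ((α x : T) : Ω) = ((κ (ε x) : T) : Ω)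
    have e2 : (ε x : T) = ⟨φ₀ x, hφ₀T x⟩ := Subtype.ext (hεe x)
    rw [e2]
    exact e
  rw [h1]
  exact K.mul_mem hκ (st.hEK hε)

end Cfsg.Agent.Lib.Helper3.NK
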