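import Mathlib
import Cfsg.Agent.Lib.Helper3.NK1

set_option autoImplicit false
set_option maxHeartbeats 1000000
set_option linter.style.haveILetI false
set_option linter.unusedSectionVars false
set_option linter.unusedVariables false

/-! Automorphisms of `p`-power order lie in every Frattini subsystem containing the
conjugates of `Aut_S(T)`. -/

namespace Cfsg.Agent.Lib.Helper3.NK

open Cfsg Cfsg.FusionSystem Cfsg.Agent.Lib.Helper9 Cfsg.Agent.Lib.Helper2.StrongInv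
  Cfsg.Agent.Lib.Helper2.PrimeIdx Cfsg.Agent.Lib.Helper2.KNorm Cfsg.Agent.Lib.Helper2.PPrime

variable {Ω : Type*} [Group Ω] {S T : Subgroup Ω}

theorem pElt_gen [Finite S] {p : ℕ} [Fact p.Prime] {F : FusionSystem S} (hS : IsPGroup p S)
    (hF : F.IsSaturated p) (hT : F.StronglyClosed T) (D : FusionSystem T)
    (hFrD : ∀ P : Subgroup Ω, P ≤ T → ∀ φ ∈ F.Hom P, Fr F D P φ)
    (hconjD : ∀ α ∈ F.autGroup T, ∀ g ∈ S, ∀ (X : Subgroup Ω), X ≤ T → ∀ ψ : X →* Ω,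
      (∀ x : X, ∃ (hx : (x : Ω) ∈ T) (h : g * ((α ⟨x, hx⟩ : T) : Ω) * g⁻¹ ∈ T),
        ψ x = ((α⁻¹ ⟨g * ((α ⟨x, hx⟩ : T) : Ω) * g⁻¹, h⟩ : T) : Ω)) → ψ ∈ D.Hom X)
    {M : Subgroup Ω} (hM : M ≤ T) {ω : MulAut M} (hω : ω ∈ F.autGroup M) {k : ℕ}
    (hk : ω ^ (p ^ k) = 1) : M.subtype.comp ω.toMonoidHom ∈ D.Hom M := by
  have hTS : T ≤ S := hT.1
  have hMS : M ≤ S := hM.trans hTS
  obtain ⟨M₁, ⟨lam₁, hlam₁, hr₁⟩, hM₁n⟩ := exists_isConj_fullyNormalized F hMS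
  have hM₁S : M₁ ≤ S := hM₁n.1
  haveI : Finite M₁ := finite_of_le hM₁S
  obtain ⟨-, R, hR⟩ := fullyAutomized_of_fullyNormalized hS F hF hM₁n
  have hsyl : IsSyl p (autInducedBy S M₁) (F.autGroup M₁) :=
    ⟨autInducedBy_le_autGroup F hM₁S, R, hR⟩
  have hω₁ := congr_mem_autGroup F hlam₁ hr₁ hω
  obtain ⟨e₁, he₁⟩ : ∃ e : M ≃* M₁, e = equivOfRange lam₁ (F.injective_of_mem hlam₁) hr₁ :=
    ⟨_, rfl⟩
  rw [← he₁] at hω₁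
  have he₁a : ∀ x : M, ((e₁ x : M₁) : Ω) = lam₁ x := by
    intro x
    rw [he₁]
    exact equivOfRange_apply lam₁ _ hr₁ x
  obtain ⟨ω₁, hω₁def⟩ : ∃ ω₁ : MulAut M₁, ω₁ = MulAut.congr e₁ ω := ⟨_, rfl⟩
  rw [← hω₁def] at hω₁
  have hω₁k : ω₁ ^ (p ^ k) = 1 := by
    rw [hω₁def, ← map_pow, hk, map_one]
  have hUle : Subgroup.zpowers ω₁ ≤ F.autGroup M₁ := by
    rw [Subgroup.zpowers_le]
    exact hω₁
  have hUp : IsPGroup p (Subgroup.zpowers ω₁) := by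
    rintro ⟨u, hu⟩
    obtain ⟨n, rfl⟩ := Subgroup.mem_zpowers_iff.mp hu
    refine ⟨k, ?_⟩
    apply Subtype.ext
    show (ω₁ ^ n) ^ (p ^ k) = 1
    rw [← zpow_natCast, ← zpow_mul, mul_comm, zpow_mul, zpow_natCast, hω₁k, one_zpow]
  obtain ⟨a, ha, hau⟩ := hsyl.conj hUle hUp
  have h1 := hau ω₁ (Subgroup.mem_zpowers ω₁)
  obtain ⟨g, hgS, hg⟩ := (mem_autInducedBy_iff _ _ _).mp h1
  have haF := hom_of_mem_autGroup F hM₁S ha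
  have hlam₁M₁ : ∀ x : M, lam₁ x ∈ M₁ := fun x => hr₁.le ⟨x, rfl⟩
  obtain ⟨lam, hlamF, hlam⟩ := comp_hom F hlam₁ haF hlam₁M₁
  have hlam' : ∀ x : M, lam x = ((a (e₁ x) : M₁) : Ω) := by
    intro x
    rw [hlam x]
    show ((a ⟨lam₁ x, _⟩ : M₁) : Ω) = _
    congr 2
    exact Subtype.ext (he₁a x).symm
  have hkey : ∀ x : M, lam (ω x) = g * lam x * g⁻¹ := by
    intro x
    rw [hlam' (ω x), hlam' x]
    have e2 : e₁ (ω x) = ω₁ (e₁ x) := by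
      rw [hω₁def]
      show e₁ (ω x) = e₁ (ω (e₁.symm (e₁ x)))
      rw [MulEquiv.symm_apply_apply]
    rw [e2]
    have e3 := hg (a (e₁ x))
    rw [← e3]
    show ((a (ω₁ (e₁ x)) : M₁) : Ω) = ((a (ω₁ (a⁻¹ (a (e₁ x)))) : M₁) : Ω)
    rw [MulAut.inv_apply_self]
  obtain ⟨α, hα, lam₀, hlam₀, hfr⟩ := hFrD M hM lam hlamF
  have hlam₀T : ∀ x : M, lam₀ x ∈ T := (D.le_of_mem hlam₀).2
  obtain ⟨X, hX⟩ : ∃ X, lam₀.range = X := ⟨_, rfl⟩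
  have hXT : X ≤ T := by
    rw [← hX]
    rintro _ ⟨x, rfl⟩
    exact hlam₀T x
  obtain ⟨θ₀, hθ₀, hθ₀e, hθ₀r, -⟩ := inv_hom D hlam₀ hX
  have hθ₀M : ∀ y : X, θ₀ y ∈ M := fun y => hθ₀r.le ⟨y, rfl⟩
  let ψ : X →* Ω := lam₀.comp ((ω.toMonoidHom).comp (θ₀.codRestrict M hθ₀M))
  have hψe : ∀ x : M, ∀ h : lam₀ x ∈ X, ψ ⟨lam₀ x, h⟩ = lam₀ (ω x) := by
    intro x h
    show lam₀ (ω ⟨θ₀ ⟨lam₀ x, h⟩, _⟩) = lam₀ (ω x)
    congr 2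
    exact Subtype.ext (hθ₀e x h)
  have hψD : ψ ∈ D.Hom X := by
    apply hconjD α hα g hgS X hXT ψ
    rintro ⟨y, hy⟩
    obtain ⟨x, rfl⟩ := hX.ge hy
    have e4 : (α ⟨lam₀ x, hlam₀T x⟩ : T) = ⟨lam x, by rw [hfr x (hlam₀T x)]; exact (α _).2⟩ :=
      Subtype.ext (hfr x (hlam₀T x)).symm
    have e5 : g * ((α ⟨lam₀ x, hlam₀T x⟩ : T) : Ω) * g⁻¹ = ((α ⟨lam₀ (ω x), hlam₀T _⟩ : T) : Ω) := by
      rw [← hfr (ω x) (hlam₀T _), hkey x, hfr x (hlam₀T x)]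
    refine ⟨hlam₀T x, ?_, ?_⟩
    · rw [e5]
      exact (α _).2
    · rw [hψe x hy]
      have e6 : (⟨g * ((α ⟨lam₀ x, hlam₀T x⟩ : T) : Ω) * g⁻¹, by rw [e5]; exact (α _).2⟩ : T) =
          α ⟨lam₀ (ω x), hlam₀T _⟩ := Subtype.ext e5
      rw [e6, MulAut.inv_apply_self]
  have hm1 : ∀ x : M, lam₀ x ∈ X := fun x => hX.le ⟨x, rfl⟩
  obtain ⟨χ₁, hχ₁, hχ₁e⟩ := comp_hom D hlam₀ hψD hm1
  have hm2 : ∀ x : M, χ₁ x ∈ X := by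
    intro x
    rw [hχ₁e x, hψe x (hm1 x)]
    exact hm1 _
  obtain ⟨χ₂, hχ₂, hχ₂e⟩ := comp_hom D hχ₁ hθ₀ hm2
  have hfin : χ₂ = M.subtype.comp ω.toMonoidHom := by
    ext x
    rw [hχ₂e x]
    have e7 : (⟨χ₁ x, hm2 x⟩ : X) = ⟨lam₀ (ω x), hm1 _⟩ := by
      apply Subtype.ext
      show χ₁ x = lam₀ (ω x)
      rw [hχ₁e x, hψe x (hm1 x)]
    rw [e7, hθ₀e (ω x) (hm1 _)]
    rfl
  rw [← hfin]
  exact hχ₂

variable {p : ℕ} {F : FusionSystem S} {E : FusionSystem T} {K : Subgroup (MulAut T)}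

theorem Setup.fr_EK (st : Setup p F E K) (P : Subgroup Ω) (hP : P ≤ T) (φ : P →* Ω)
    (hφ : φ ∈ F.Hom P) : Fr F st.EK P φ := by
  obtain ⟨α, hα, φ₀, hφ₀, he⟩ := st.hFr P hP φ hφ
  exact ⟨α, hα, φ₀, st.E_le_EK P hφ₀, he⟩

end Cfsg.Agent.Lib.Helper3.NK
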