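import Mathlib
import Cfsg.Agent.Lib.Helper3.NK2

set_option autoImplicit false
set_option maxHeartbeats 1000000
set_option linter.style.haveILetI false
set_option linter.unusedSectionVars false
set_option linter.unusedVariables false

/-! An automorphism of `T` agreeing with a map of `E·K` on a relatively centric subgroup lies
in `K`. -/

namespace Cfsg.Agent.Lib.Helper3.NK

open Cfsg Cfsg.FusionSystem Cfsg.Agent.Lib.Helper9 Cfsg.Agent.Lib.Helper2.StrongInv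
  Cfsg.Agent.Lib.Helper2.PrimeIdx Cfsg.Agent.Lib.Helper2.KNorm Cfsg.Agent.Lib.Helper2.PPrime

variable {Ω : Type*} [Group Ω] {S T : Subgroup Ω}

theorem mem_normalizer_of_conj_mem_fin {G : Type*} [Group G] {H : Subgroup G} [Finite H] {g : G}
    (h : ∀ y ∈ H, g * y * g⁻¹ ∈ H) : g ∈ Subgroup.normalizer (H : Set G) := by
  rw [Subgroup.mem_normalizer_iff]
  intro y
  refine ⟨h y, fun hy => ?_⟩
  let f : H → H := fun x => ⟨g * x * g⁻¹, h x x.2⟩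
  have hinj : Function.Injective f := by
    intro a b hab
    have h1 : g * (a : G) * g⁻¹ = g * (b : G) * g⁻¹ := congrArg Subtype.val hab
    apply Subtype.ext
    have h2 := mul_right_cancel h1
    exact mul_left_cancel h2
  obtain ⟨x, hx⟩ := (Finite.injective_iff_surjective.mp hinj) ⟨g * y * g⁻¹, hy⟩
  have h1 : g * (x : G) * g⁻¹ = g * y * g⁻¹ := congrArg Subtype.val hx
  have h2 : (x : G) = y := mul_left_cancel (mul_right_cancel h1)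
  rw [← h2]
  exact x.2

variable {p : ℕ} {F : FusionSystem S} {E : FusionSystem T} {K : Subgroup (MulAut T)}

theorem Setup.le_normalizer (st : Setup p F E K) : S ≤ Subgroup.normalizer (T : Set Ω) :=
  Cfsg.Agent.Lib.Helper2.NotRad.le_normalizer_of_conj T S
    (fun g hg x hx => Cfsg.Agent.Lib.Helper2.NotRad.sc_conj st.hT hg hx)

theorem conjAut_mem_autGroup' (F : FusionSystem S) {P : Subgroup Ω} (hPS : P ≤ S) {g : Ω}
    (hgS : g ∈ S) (hgN : g ∈ Subgroup.normalizer (P : Set Ω)) :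
    conjAut P ⟨g, hgN⟩ ∈ F.autGroup P :=
  autInducedBy_le_autGroup F hPS ((mem_autInducedBy_iff S P _).mpr ⟨g, hgS, fun x => rfl⟩)

theorem Setup.conjAut_mem_K (st : Setup p F E K) {g : Ω} (hg : g ∈ S) :
    conjAut T ⟨g, st.le_normalizer hg⟩ ∈ K := by
  obtain ⟨k, hk⟩ := st.hS ⟨g, hg⟩
  apply st.hpK _ (conjAut_mem_autGroup' F st.hTS hg (st.le_normalizer hg)) k
  rw [← map_pow]
  have h1 : (⟨g, st.le_normalizer hg⟩ : ↥(Subgroup.normalizer (T : Set Ω))) ^ (p ^ k) = 1 := by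
    apply Subtype.ext
    show g ^ (p ^ k) = 1
    exact congrArg Subtype.val hk
  rw [h1, map_one]

/-- automorphisms of `p`-power order of subgroups of `T` are maps of `E·K` -/
theorem Setup.pElt_EK [Finite S] [Fact p.Prime] (st : Setup p F E K) {M : Subgroup Ω}
    (hM : M ≤ T) {ω : MulAut M} (hω : ω ∈ F.autGroup M) {k : ℕ} (hk : ω ^ (p ^ k) = 1) :
    M.subtype.comp ω.toMonoidHom ∈ st.EK.Hom M := by
  apply pElt_gen st.hS st.hF st.hT st.EK st.fr_EK _ hM hω hk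
  intro α hα g hg X hXT ψ hψ
  have hκ' : α⁻¹ * conjAut T ⟨g, st.le_normalizer hg⟩ * α⁻¹⁻¹ ∈ K :=
    st.hKn α⁻¹ (inv_mem hα) _ (st.conjAut_mem_K hg)
  have h1 : ψ = resAut (α⁻¹ * conjAut T ⟨g, st.le_normalizer hg⟩ * α⁻¹⁻¹) hXT := by
    ext x
    obtain ⟨hx, h, he⟩ := hψ x
    rw [he, resAut_apply]
    rw [inv_inv]
    show _ = ((α⁻¹ (conjAut T ⟨g, st.le_normalizer hg⟩ (α ⟨x, hXT x.2⟩)) : T) : Ω)
    congr 2
  rw [h1]
  exact st.resAut_mem_EK hκ' hXT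

theorem Setup.isPGroup_T (st : Setup p F E K) : IsPGroup p T :=
  isPGroup_of_le st.hS st.hTS

/-- the key uniqueness statement -/
theorem Setup.claimB [Finite S] [Fact p.Prime] (st : Setup p F E K) :
    ∀ (n : ℕ) (R : Subgroup Ω) (hTC : TC F T R), Nat.card T - Nat.card R = n →
      ∀ β ∈ F.autGroup T, resAut β hTC.1 ∈ st.EK.Hom R → β ∈ K := by
  haveI : Finite T := finite_of_le st.hTS
  have hTp := st.isPGroup_T
  intro n
  induction n using Nat.strong_induction_on with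
  | _ n ih =>
  intro R hTC hn β hβ hres
  have hRT : R ≤ T := hTC.1
  by_cases hRT' : R = T
  · subst hRT'
    apply st.mem_K_of_mem_EK
    have h1 : R.subtype.comp β.toMonoidHom = resAut β hTC.1 := by
      ext x
      rfl
    rw [h1]
    exact hres
  have hRlt : R < T := lt_of_le_of_ne hRT hRT'
  haveI : Finite R := finite_of_le (hRT.trans st.hTS)
  obtain ⟨κ, hκ, ε, hε, he⟩ := hres
  have hεT : ∀ x : R, ε x ∈ T := (E.le_of_mem hε).2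
  obtain ⟨β', hβ'def⟩ : ∃ β', β' = κ⁻¹ * β := ⟨_, rfl⟩
  have hβ'F : β' ∈ F.autGroup T := by
    rw [hβ'def]
    exact mul_mem (inv_mem (st.hKle hκ)) hβ
  have hβ'e : ∀ x : R, ((β' ⟨x, hRT x.2⟩ : T) : Ω) = ε x := by
    intro x
    rw [hβ'def]
    show ((κ⁻¹ (β ⟨x, hRT x.2⟩) : T) : Ω) = ε x
    have h1 := he x (hεT x)
    rw [resAut_apply] at h1
    have e2 : β ⟨x, hRT x.2⟩ = κ ⟨ε x, hεT x⟩ := Subtype.ext h1
    rw [e2, MulAut.inv_apply_self]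
  suffices hsuff : β' ∈ K by
    have h1 : β = κ * β' := by rw [hβ'def, mul_inv_cancel_left]
    rw [h1]
    exact K.mul_mem hκ hsuff
  -- the image `R'` and a fully normalized conjugate `R''`
  obtain ⟨R', hR'⟩ : ∃ R', ε.range = R' := ⟨_, rfl⟩
  have hR'T : R' ≤ T := by
    rw [← hR']
    rintro _ ⟨x, rfl⟩
    exact hεT x
  haveI : Finite R' := finite_of_le (hR'T.trans st.hTS)
  obtain ⟨R'', hconj, hfa, hrec⟩ := st.hEs R' hR'T
  have hR''T : R'' ≤ T := hrec.1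
  haveI : Finite R'' := finite_of_le (hR''T.trans st.hTS)
  obtain ⟨ρ, hρ, hρN, hρR⟩ := exists_normalizer_hom hTp E R'' R' hfa hrec hconj
  have hR'N : R' ≤ normalizerIn T R' := self_le_normalizerIn' hR'T
  have hρT : ∀ y, ρ y ∈ T := (E.le_of_mem hρ).2
  have hεR' : ∀ x : R, ε x ∈ R' := fun x => hR'.le ⟨x, rfl⟩
  have hεN : ∀ x : R, ε x ∈ normalizerIn T R' := fun x => hR'N (hεR' x)
  obtain ⟨ρε, hρε, hρεe⟩ := comp_hom E hε hρ hεN
  have hρεr : ρε.range = R'' := by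
    rw [← hρR]
    ext y
    constructor
    · rintro ⟨x, rfl⟩
      rw [hρεe x]
      exact ⟨⟨ε x, hεN x⟩, Subgroup.mem_subgroupOf.mpr (hεR' x), rfl⟩
    · rintro ⟨z, hz, rfl⟩
      obtain ⟨x, hx⟩ := hR'.ge (Subgroup.mem_subgroupOf.mp hz)
      refine ⟨x, ?_⟩
      rw [hρεe x]
      congr 1
      exact Subtype.ext hx
  have hρεF : ρε ∈ F.Hom R := st.hEF R hρε
  have hcR'' : centralizerIn T R'' ≤ R'' := hTC.2 R'' ⟨ρε, hρεF, hρεr⟩
  -- `β'` maps `N_T(R)` into `N_T(R')`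
  have hNT : normalizerIn T R ≤ T := normalizerIn_le T R
  have hβ'N : ∀ g : Ω, ∀ hg : g ∈ normalizerIn T R,
      ((β' ⟨g, hNT hg⟩ : T) : Ω) ∈ normalizerIn T R' := by
    intro g hg
    refine ⟨(β' _).2, ?_⟩
    apply mem_normalizer_of_conj_mem_fin
    intro y hy
    obtain ⟨x, rfl⟩ := hR'.ge hy
    have hgx : g * (x : Ω) * g⁻¹ ∈ R := conj_mem_of_mem_normalizer hg.2 x.2
    have e1 : ((β' ⟨g, hNT hg⟩ : T) : Ω) * ε x * ((β' ⟨g, hNT hg⟩ : T) : Ω)⁻¹ =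
        ε ⟨g * x * g⁻¹, hgx⟩ := by
      rw [← hβ'e x, ← hβ'e ⟨g * x * g⁻¹, hgx⟩]
      have e2 : (⟨g * (x : Ω) * g⁻¹, hRT hgx⟩ : T) =
          ⟨g, hNT hg⟩ * ⟨x, hRT x.2⟩ * (⟨g, hNT hg⟩ : T)⁻¹ := Subtype.ext rfl
      rw [e2, map_mul, map_mul, map_inv]
      rfl
    rw [e1]
    exact hεR' _
  -- `N_T(R)` lies in the extender of `ρε`
  have hNext : normalizerIn T R ≤ extender T R ρε := by
    intro g hg
    apply Subgroup.subset_closure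
    refine ⟨hg.1, hg.2, ρ ⟨_, hβ'N g hg⟩, hρT _, ?_⟩
    intro x hx
    rw [hρεe, hρεe]
    have e1 : (⟨ε ⟨g * (x : Ω) * g⁻¹, hx⟩, hεN _⟩ : ↥(normalizerIn T R')) =
        ⟨_, hβ'N g hg⟩ * ⟨ε x, hεN x⟩ * (⟨_, hβ'N g hg⟩ : ↥(normalizerIn T R'))⁻¹ := by
      apply Subtype.ext
      show ε ⟨g * (x : Ω) * g⁻¹, hx⟩ =
        ((β' ⟨g, hNT hg⟩ : T) : Ω) * ε x * ((β' ⟨g, hNT hg⟩ : T) : Ω)⁻¹
      rw [← hβ'e x, ← hβ'e ⟨g * x * g⁻¹, hx⟩]
      have e2 : (⟨g * (x : Ω) * g⁻¹, hRT hx⟩ : T) =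
          ⟨g, hNT hg⟩ * ⟨x, hRT x.2⟩ * (⟨g, hNT hg⟩ : T)⁻¹ := Subtype.ext rfl
      rw [e2, map_mul, map_mul, map_inv]
      rfl
    rw [e1, map_mul, map_mul, map_inv]
  obtain ⟨ψhat, hψhat, hψhate⟩ := hrec.2 R ρε hρε hρεr
  have hψ : ψhat.comp (Subgroup.inclusion hNext) ∈ E.Hom (normalizerIn T R) :=
    restrict_mem E hψhat hNext
  obtain ⟨ψ, hψdef⟩ : ∃ ψ, ψ = ψhat.comp (Subgroup.inclusion hNext) := ⟨_, rfl⟩
  rw [← hψdef] at hψ
  have hRN : R ≤ normalizerIn T R := self_le_normalizerIn' hRT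
  have hψR : ∀ x : R, ψ ⟨x, hRN x.2⟩ = ρε x := by
    intro x
    rw [hψdef]
    exact hψhate x x.2 (hNext (hRN x.2))
  have hψT : ∀ g, ψ g ∈ T := (E.le_of_mem hψ).2
  -- the second extension `φ'`
  have hresF : resAut β' hNT ∈ F.Hom (normalizerIn T R) :=
    restrict_mem F (hom_of_mem_autGroup F st.hTS hβ'F) hNT
  have hresN : ∀ g : ↥(normalizerIn T R), resAut β' hNT g ∈ normalizerIn T R' :=
    fun g => hβ'N g g.2
  obtain ⟨φ', hφ', hφ'e⟩ := comp_hom F hresF (st.hEF _ hρ) hresN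
  have hφ'T : ∀ g, φ' g ∈ T := fun g => by rw [hφ'e]; exact hρT _
  have hφ'R : ∀ x : R, φ' ⟨x, hRN x.2⟩ = ρε x := by
    intro x
    rw [hφ'e, hρεe]
    congr 1
    apply Subtype.ext
    show resAut β' hNT ⟨x, hRN x.2⟩ = ε x
    rw [resAut_apply]
    exact hβ'e x
  -- the two extensions differ by elements of `R''`
  have hdiff : ∀ g : ↥(normalizerIn T R), (ψ g)⁻¹ * φ' g ∈ R'' := by
    intro g
    apply hcR''
    refine ⟨T.mul_mem (T.inv_mem (hψT g)) (hφ'T g), ?_⟩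
    show _ ∈ Subgroup.centralizer (R'' : Set Ω)
    rw [Subgroup.mem_centralizer_iff]
    intro y hy
    obtain ⟨x, rfl⟩ := hρεr.ge hy
    have hgx : (g : Ω) * (x : Ω) * (g : Ω)⁻¹ ∈ R := conj_mem_of_mem_normalizer g.2.2 x.2
    have e0 : (⟨(g : Ω) * (x : Ω) * (g : Ω)⁻¹, hRN hgx⟩ : ↥(normalizerIn T R)) =
        g * ⟨x, hRN x.2⟩ * g⁻¹ := Subtype.ext rfl
    have e1 : ψ g * ρε x * (ψ g)⁻¹ = ρε ⟨(g : Ω) * x * (g : Ω)⁻¹, hgx⟩ := by
      rw [← hψR x, ← hψR ⟨(g : Ω) * x * (g : Ω)⁻¹, hgx⟩, e0, map_mul, map_mul, map_inv]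
    have e2 : φ' g * ρε x * (φ' g)⁻¹ = ρε ⟨(g : Ω) * x * (g : Ω)⁻¹, hgx⟩ := by
      rw [← hφ'R x, ← hφ'R ⟨(g : Ω) * x * (g : Ω)⁻¹, hgx⟩, e0, map_mul, map_mul, map_inv]
    have e3 : ψ g * ρε x * (ψ g)⁻¹ = φ' g * ρε x * (φ' g)⁻¹ := e1.trans e2.symm
    calc ρε x * ((ψ g)⁻¹ * φ' g)
        = (ψ g)⁻¹ * (ψ g * ρε x * (ψ g)⁻¹) * φ' g := by group
      _ = (ψ g)⁻¹ * (φ' g * ρε x * (φ' g)⁻¹) * φ' g := by rw [e3]
      _ = (ψ g)⁻¹ * φ' g * ρε x := by group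
  obtain ⟨M, hM⟩ : ∃ M, ψ.range = M := ⟨_, rfl⟩
  have hMT : M ≤ T := by
    rw [← hM]
    rintro _ ⟨g, rfl⟩
    exact hψT g
  haveI : Finite M := finite_of_le (hMT.trans st.hTS)
  haveI : Finite ↥(normalizerIn T R) := finite_of_le (hNT.trans st.hTS)
  have hR''M : R'' ≤ M := by
    rw [← hM, ← hρεr]
    rintro _ ⟨x, rfl⟩
    exact ⟨⟨x, hRN x.2⟩, hψR x⟩
  have hφ'M : φ'.range = M := by
    apply Subgroup.eq_of_le_of_card_ge
    · rintro _ ⟨g, rfl⟩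
      have h1 : φ' g = ψ g * ((ψ g)⁻¹ * φ' g) := by group
      rw [h1]
      exact M.mul_mem (hM.le ⟨g, rfl⟩) (hR''M (hdiff g))
    · rw [← hM]
      rw [← Nat.card_congr (MonoidHom.ofInjective (E.injective_of_mem hψ)).toEquiv,
        ← Nat.card_congr (MonoidHom.ofInjective (F.injective_of_mem hφ')).toEquiv]
  -- the automorphism `ω` of `M`
  obtain ⟨eψ, heψ⟩ : ∃ e : ↥(normalizerIn T R) ≃* M,
      e = equivOfRange ψ (E.injective_of_mem hψ) hM := ⟨_, rfl⟩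
  obtain ⟨eφ, heφ⟩ : ∃ e : ↥(normalizerIn T R) ≃* M,
      e = equivOfRange φ' (F.injective_of_mem hφ') hφ'M := ⟨_, rfl⟩
  have heψa : ∀ g, ((eψ g : M) : Ω) = ψ g := fun g => by
    rw [heψ]; exact equivOfRange_apply ψ _ hM g
  have heφa : ∀ g, ((eφ g : M) : Ω) = φ' g := fun g => by
    rw [heφ]; exact equivOfRange_apply φ' _ hφ'M g
  obtain ⟨ω, hωdef⟩ : ∃ ω : MulAut M, ω = eψ.symm.trans eφ := ⟨_, rfl⟩
  have hωe : ∀ g, ((ω (eψ g) : M) : Ω) = φ' g := by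
    intro g
    rw [hωdef]
    show ((eφ (eψ.symm (eψ g)) : M) : Ω) = φ' g
    rw [MulEquiv.symm_apply_apply]
    exact heφa g
  have hψF : ψ ∈ F.Hom (normalizerIn T R) := st.hEF _ hψ
  have hωF : ω ∈ F.autGroup M := by
    rw [mem_autGroup_iff F (hMT.trans st.hTS)]
    obtain ⟨θ, hθ, hθe, hθr, -⟩ := inv_hom F hψF hM
    have hθN : ∀ y : M, θ y ∈ normalizerIn T R := fun y => hθr.le ⟨y, rfl⟩
    obtain ⟨χ, hχ, hχe⟩ := comp_hom F hθ hφ' hθN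
    have h1 : χ = M.subtype.comp ω.toMonoidHom := by
      ext y
      obtain ⟨g, hg⟩ := hM.ge y.2
      have hy : y = eψ g := Subtype.ext (hg.symm.trans (heψa g).symm)
      rw [hχe, hy]
      show _ = ((ω (eψ g) : M) : Ω)
      rw [hωe]
      congr 1
      apply Subtype.ext
      show θ (eψ g) = g
      have h2 := hθe g (hM.le ⟨g, rfl⟩)
      rw [← h2]
      congr 1
      exact Subtype.ext (heψa g)
    rw [← h1]
    exact hχ
  have hωfix : ∀ x : R'', ω (Subgroup.inclusion hR''M x) = Subgroup.inclusion hR''M x := by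
    intro x
    obtain ⟨r, hr⟩ := hρεr.ge x.2
    have h1 : Subgroup.inclusion hR''M x = eψ ⟨r, hRN r.2⟩ := by
      apply Subtype.ext
      show (x : Ω) = ((eψ ⟨r, hRN r.2⟩ : M) : Ω)
      rw [heψa, hψR, hr]
    rw [h1]
    apply Subtype.ext
    rw [hωe, heψa, hψR, hφ'R]
  have hMnorm : ∀ g ∈ M, ∀ x ∈ R'', g * x * g⁻¹ ∈ R'' := by
    intro g hg x hx
    obtain ⟨n, rfl⟩ := hM.ge hg
    obtain ⟨r, rfl⟩ := hρεr.ge hx
    have hnr : (n : Ω) * (r : Ω) * (n : Ω)⁻¹ ∈ R := conj_mem_of_mem_normalizer n.2.2 r.2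
    have e0 : (⟨(n : Ω) * (r : Ω) * (n : Ω)⁻¹, hRN hnr⟩ : ↥(normalizerIn T R)) =
        n * ⟨r, hRN r.2⟩ * n⁻¹ := Subtype.ext rfl
    have e1 : ψ n * ρε r * (ψ n)⁻¹ = ρε ⟨(n : Ω) * r * (n : Ω)⁻¹, hnr⟩ := by
      rw [← hψR r, ← hψR ⟨(n : Ω) * r * (n : Ω)⁻¹, hnr⟩, e0, map_mul, map_mul, map_inv]
    rw [e1]
    exact hρεr.le ⟨_, rfl⟩
  have hMcent : ∀ z ∈ M, (∀ x ∈ R'', x * z = z * x) → z ∈ R'' := by
    intro z hz hzc
    apply hcR''
    refine ⟨hMT hz, ?_⟩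
    show _ ∈ Subgroup.centralizer (R'' : Set Ω)
    rw [Subgroup.mem_centralizer_iff]
    exact hzc
  have hωpow := Cfsg.Agent.Lib.Helper2.Sat310.pow_card_eq_one_of_fix hR''M hMnorm hMcent ω hωfix
  obtain ⟨j, hj⟩ := (isPGroup_of_le hTp hR''T : IsPGroup p R'').exists_card_eq
  rw [hj] at hωpow
  have hωEK := st.pElt_EK hMT hωF hωpow
  -- `φ'` is a map of `E·K`
  have hψEK : ψ ∈ st.EK.Hom (normalizerIn T R) := st.E_le_EK _ hψ
  have hψM : ∀ g, ψ g ∈ M := fun g => hM.le ⟨g, rfl⟩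
  obtain ⟨χ₁, hχ₁, hχ₁e⟩ := comp_hom st.EK hψEK hωEK hψM
  have hφ'EK : φ' ∈ st.EK.Hom (normalizerIn T R) := by
    have h1 : χ₁ = φ' := by
      ext g
      rw [hχ₁e]
      show ((ω ⟨ψ g, hψM g⟩ : M) : Ω) = φ' g
      have h2 : (⟨ψ g, hψM g⟩ : M) = eψ g := Subtype.ext (heψa g).symm
      rw [h2, hωe]
    rw [← h1]
    exact hχ₁
  -- hence so is `β'` on `N_T(R)`
  have hρEK : ρ ∈ st.EK.Hom (normalizerIn T R') := st.E_le_EK _ hρ
  obtain ⟨θρ, hθρ, hθρe, -, -⟩ := inv_hom st.EK hρEK rfl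
  have hφ'ρ : ∀ g, φ' g ∈ ρ.range := fun g => by rw [hφ'e]; exact ⟨_, rfl⟩
  obtain ⟨χ₂, hχ₂, hχ₂e⟩ := comp_hom st.EK hφ'EK hθρ hφ'ρ
  have hresEK : resAut β' hNT ∈ st.EK.Hom (normalizerIn T R) := by
    have h1 : χ₂ = resAut β' hNT := by
      ext g
      rw [hχ₂e]
      have h2 : (⟨φ' g, hφ'ρ g⟩ : ρ.range) =
          ⟨ρ ⟨resAut β' hNT g, hresN g⟩, ⟨_, rfl⟩⟩ := Subtype.ext (hφ'e g)
      rw [h2]
      exact hθρe _ _
    rw [← h1]
    exact hχ₂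
  have hTCN : TC F T (normalizerIn T R) := hTC.mono hRN hNT
  obtain ⟨g₀, hg₀N, hg₀R⟩ := exists_mem_normalizerIn_not_mem hTp hRlt
  have hRltN : R < normalizerIn T R :=
    lt_of_le_of_ne hRN (fun h => hg₀R (h ▸ hg₀N))
  have hcard1 : Nat.card R < Nat.card ↥(normalizerIn T R) := card_lt_of_lt' hRltN
  have hcard2 : Nat.card ↥(normalizerIn T R) ≤ Nat.card T := Subgroup.card_le_of_le hNT
  exact ih (Nat.card T - Nat.card ↥(normalizerIn T R)) (by omega) (normalizerIn T R) hTCN rfl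
    β' hβ'F hresEK

end Cfsg.Agent.Lib.Helper3.NK
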