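import Mathlib
import Cfsg.Agent.Lib.Helper3.NK3

set_option autoImplicit false
set_option maxHeartbeats 1000000
set_option linter.style.haveILetI false
set_option linter.unusedSectionVars false
set_option linter.unusedVariables false

/-! Every element of `Aut_F(T)` is an element of `K` times the restriction of an element of
`Aut_F(S)`. -/

namespace Cfsg.Agent.Lib.Helper3.NK

open Cfsg Cfsg.FusionSystem Cfsg.Agent.Lib.Helper9 Cfsg.Agent.Lib.Helper2.StrongInv
  Cfsg.Agent.Lib.Helper2.PrimeIdx Cfsg.Agent.Lib.Helper2.KNorm Cfsg.Agent.Lib.Helper2.PPrime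

variable {Ω : Type*} [Group Ω] {S T : Subgroup Ω}
variable {p : ℕ} {F : FusionSystem S} {E : FusionSystem T} {K : Subgroup (MulAut T)}

theorem Setup.isConj_T_eq [Finite S] (st : Setup p F E K) {Q : Subgroup Ω} (h : F.IsConj T Q) :
    Q = T := by
  haveI : Finite T := finite_of_le st.hTS
  have hcard := card_eq_of_isConj F h
  obtain ⟨φ, hφ, hr⟩ := h
  apply Subgroup.eq_of_le_of_card_ge
  · rw [← hr]
    rintro _ ⟨x, rfl⟩
    exact st.hT.2 T le_rfl φ hφ x
  · exact hcard.le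

theorem Setup.fullyNormalized_T [Finite S] (st : Setup p F E K) : F.IsFullyNormalized T := by
  refine ⟨st.hTS, fun Q hQ => ?_⟩
  rw [st.isConj_T_eq hQ]

theorem Setup.autInducedBy_le_K (st : Setup p F E K) : autInducedBy S T ≤ K := by
  intro α hα
  obtain ⟨g, hg, hgα⟩ := (mem_autInducedBy_iff _ _ _).mp hα
  have h1 : α = conjAut T ⟨g, st.le_normalizer hg⟩ := by
    ext x
    exact hgα x
  rw [h1]
  exact st.conjAut_mem_K hg

theorem Setup.frLift [Finite S] [Fact p.Prime] (st : Setup p F E K) {α : MulAut T}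
    (hα : α ∈ F.autGroup T) :
    ∃ κ ∈ K, ∃ ν ∈ F.autGroup T, ∃ νh ∈ F.autGroup S, α = κ * ν ∧
      ∀ t : T, ((νh ⟨t, st.hTS t.2⟩ : S) : Ω) = ν t := by
  haveI : Finite T := finite_of_le st.hTS
  have hTn := st.fullyNormalized_T
  obtain ⟨-, R, hR⟩ := fullyAutomized_of_fullyNormalized st.hS F st.hF hTn
  have hsyl : IsSyl p (autInducedBy S T) (F.autGroup T) :=
    ⟨autInducedBy_le_autGroup F st.hTS, R, hR⟩
  have hsylK : IsSyl p (autInducedBy S T) K := hsyl.mono_right st.autInducedBy_le_K st.hKle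
  obtain ⟨U, hUdef⟩ : ∃ U : Subgroup (MulAut T),
      U = (autInducedBy S T).map (MulAut.conj α).toMonoidHom := ⟨_, rfl⟩
  have hUK : U ≤ K := by
    rw [hUdef]
    rintro _ ⟨c, hc, rfl⟩
    show α * c * α⁻¹ ∈ K
    exact st.hKn α hα c (st.autInducedBy_le_K hc)
  have hUp : IsPGroup p U := by
    rw [hUdef]
    exact (isPGroup_autInducedBy st.hS T).map _
  obtain ⟨a, ha, hau⟩ := hsylK.conj hUK hUp
  obtain ⟨ν, hνdef⟩ : ∃ ν, ν = a * α := ⟨_, rfl⟩
  have hνF : ν ∈ F.autGroup T := by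
    rw [hνdef]
    exact mul_mem (st.hKle ha) hα
  have hνnorm : ∀ c ∈ autInducedBy S T, ν * c * ν⁻¹ ∈ autInducedBy S T := by
    intro c hc
    have h1 : ν * c * ν⁻¹ = a * (α * c * α⁻¹) * a⁻¹ := by
      rw [hνdef]
      group
    rw [h1]
    apply hau
    rw [hUdef]
    exact ⟨c, hc, rfl⟩
  -- lift `ν` to `S`
  have hrec := receptive_of_fullyCentralized st.hS F st.hF
    (fullyCentralized_of_fullyNormalized st.hS F st.hF hTn)
  have hφ := hom_of_mem_autGroup F st.hTS hνF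
  have hrange : (T.subtype.comp ν.toMonoidHom).range = T := by
    apply le_antisymm
    · rintro _ ⟨x, rfl⟩
      exact (ν x).2
    · intro y hy
      refine ⟨ν⁻¹ ⟨y, hy⟩, ?_⟩
      show ((ν (ν⁻¹ ⟨y, hy⟩) : T) : Ω) = y
      rw [MulAut.apply_inv_self]
  obtain ⟨ψ, hψ, hψe⟩ := hrec.2 T _ hφ hrange
  have hSext : S ≤ extender S T (T.subtype.comp ν.toMonoidHom) := by
    intro g hg
    apply Subgroup.subset_closure
    have hc : conjAut T ⟨g, st.le_normalizer hg⟩ ∈ autInducedBy S T :=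
      (mem_autInducedBy_iff S T _).mpr ⟨g, hg, fun x => rfl⟩
    obtain ⟨h, hh, hhe⟩ := (mem_autInducedBy_iff _ _ _).mp (hνnorm _ hc)
    refine ⟨hg, st.le_normalizer hg, h, hh, ?_⟩
    intro x hx
    have e1 := hhe (ν x)
    show ((ν ⟨g * (x : Ω) * g⁻¹, hx⟩ : T) : Ω) = h * ((ν x : T) : Ω) * h⁻¹
    rw [← e1]
    show _ = ((ν (conjAut T ⟨g, st.le_normalizer hg⟩ (ν⁻¹ (ν x))) : T) : Ω)
    rw [MulAut.inv_apply_self]
    rfl
  have hψS := restrict_mem F hψ hSext
  have hψSr : (ψ.comp (Subgroup.inclusion hSext)).range = S := by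
    apply Subgroup.eq_of_le_of_card_ge
    · rintro _ ⟨x, rfl⟩
      exact hom_mem F hψS x
    · exact (Nat.card_congr (MonoidHom.ofInjective (F.injective_of_mem hψS)).toEquiv).le
  obtain ⟨νh, hνh, hνhe⟩ := exists_aut_of_hom F hψS hψSr
  refine ⟨a⁻¹, K.inv_mem ha, ν, hνF, νh, hνh, ?_, ?_⟩
  · rw [hνdef, inv_mul_cancel_left]
  · intro t
    rw [hνhe]
    exact hψe t t.2 (hSext (st.hTS t.2))

theorem Setup.exists_lift_not_mem_K [Finite S] [Fact p.Prime] (st : Setup p F E K)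
    {α : MulAut T} (hα : α ∈ F.autGroup T) (hαK : α ∉ K) :
    ∃ ν ∈ F.autGroup T, ν ∉ K ∧ ∃ νh ∈ F.autGroup S,
      ∀ t : T, ((νh ⟨t, st.hTS t.2⟩ : S) : Ω) = ν t := by
  obtain ⟨κ, hκ, ν, hν, νh, hνh, he, hνe⟩ := st.frLift hα
  refine ⟨ν, hν, ?_, νh, hνh, hνe⟩
  intro hνK
  apply hαK
  rw [he]
  exact K.mul_mem hκ hνK

/-- the restriction to `T` of an element of `Aut_F(S)` -/
theorem Setup.exists_resT [Finite S] (st : Setup p F E K) {νh : MulAut S}
    (hνh : νh ∈ F.autGroup S) :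
    ∃ ν ∈ F.autGroup T, ∀ t : T, ((νh ⟨t, st.hTS t.2⟩ : S) : Ω) = ν t := by
  haveI : Finite T := finite_of_le st.hTS
  have h1 : resAut νh st.hTS ∈ F.Hom T := resAut_mem F hνh st.hTS
  have hr : (resAut νh st.hTS).range = T := by
    apply Subgroup.eq_of_le_of_card_ge
    · rintro _ ⟨x, rfl⟩
      exact st.hT.2 T le_rfl _ h1 x
    · exact (Nat.card_congr (MonoidHom.ofInjective (F.injective_of_mem h1)).toEquiv).le
  obtain ⟨ν, hν, hνe⟩ := exists_aut_of_hom F h1 hr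
  exact ⟨ν, hν, fun t => (hνe t).symm⟩

end Cfsg.Agent.Lib.Helper3.NK
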