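import Mathlib
import Cfsg.Agent.Lib.Helper3.NK4
import Cfsg.Agent.Lib.Helper9.FactorSys2

set_option autoImplicit false
set_option maxHeartbeats 1000000
set_option linter.style.haveILetI false
set_option linter.unusedSectionVars false
set_option linter.unusedVariables false

/-! The subsystem `F₀`: generated by the maps of `F`, on the good family, whose restriction to
`T` is a map of `E·K`. -/

namespace Cfsg.Agent.Lib.Helper3.NK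

open Cfsg Cfsg.FusionSystem Cfsg.Agent.Lib.Helper9 Cfsg.Agent.Lib.Helper2.StrongInv
  Cfsg.Agent.Lib.Helper2.PrimeIdx Cfsg.Agent.Lib.Helper2.KNorm Cfsg.Agent.Lib.Helper2.PPrime

variable {Ω : Type*} [Group Ω] {S T : Subgroup Ω}

/-- restriction of a map to the part of its source inside `T` -/
def resT (T : Subgroup Ω) {Q : Subgroup Ω} (φ : Q →* Ω) : ↥(Q ⊓ T) →* Ω :=
  φ.comp (Subgroup.inclusion inf_le_left)

theorem resT_apply (T : Subgroup Ω) {Q : Subgroup Ω} (φ : Q →* Ω) (x : ↥(Q ⊓ T)) :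
    resT T φ x = φ ⟨x, x.2.1⟩ := rfl

variable {p : ℕ} {F : FusionSystem S} {E : FusionSystem T} {K : Subgroup (MulAut T)}

theorem Setup.resT_mem (st : Setup p F E K) {Q : Subgroup Ω} {φ : Q →* Ω} (hφ : φ ∈ F.Hom Q) :
    resT T φ ∈ F.Hom (Q ⊓ T) := restrict_mem F hφ inf_le_left

theorem Setup.resT_range (st : Setup p F E K) {Q : Subgroup Ω} {φ : Q →* Ω}
    (hφ : φ ∈ F.Hom Q) : (resT T φ).range = φ.range ⊓ T := by
  ext y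
  constructor
  · rintro ⟨x, rfl⟩
    refine ⟨⟨_, rfl⟩, ?_⟩
    exact Cfsg.Agent.Lib.Helper2.NotRad.sc_map st.hT hφ ⟨x, x.2.1⟩ x.2.2
  · rintro ⟨⟨x, rfl⟩, hy⟩
    have hx : (x : Ω) ∈ T := mem_of_map_mem_stronglyClosed F st.hT hφ x hy
    exact ⟨⟨x, x.2, hx⟩, rfl⟩

/-- a map is good when its restriction to `T` is a map of `E·K` -/
def Setup.Good (st : Setup p F E K) {Q : Subgroup Ω} (φ : Q →* Ω) : Prop :=
  resT T φ ∈ st.EK.Hom (Q ⊓ T)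

theorem Setup.good_conj (st : Setup p F E K) (Q : Subgroup Ω) {g : Ω} (hg : g ∈ S) :
    st.Good (conjHom Q g) := by
  have h1 : resT T (conjHom Q g) =
      resAut (conjAut T ⟨g, st.le_normalizer hg⟩) (inf_le_right : Q ⊓ T ≤ T) := by
    ext x
    rfl
  show resT T (conjHom Q g) ∈ st.EK.Hom (Q ⊓ T)
  rw [h1]
  exact st.resAut_mem_EK (st.conjAut_mem_K hg) inf_le_right

theorem Setup.good_comp (st : Setup p F E K) {P Q : Subgroup Ω} {φ : P →* Ω} {ψ : Q →* Ω}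
    (hφF : φ ∈ F.Hom P) (hφ : st.Good φ) (hψ : st.Good ψ) (h : ∀ x : P, φ x ∈ Q) :
    st.Good (ψ.comp (φ.codRestrict Q h)) := by
  have h' : ∀ x : ↥(P ⊓ T), resT T φ x ∈ Q ⊓ T := by
    intro x
    exact ⟨h _, Cfsg.Agent.Lib.Helper2.NotRad.sc_map st.hT hφF ⟨x, x.2.1⟩ x.2.2⟩
  have h1 := st.EK.comp_mem hφ hψ h'
  have h2 : (resT T ψ).comp ((resT T φ).codRestrict (Q ⊓ T) h') =
      resT T (ψ.comp (φ.codRestrict Q h)) := by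
    ext x
    rfl
  show resT T (ψ.comp (φ.codRestrict Q h)) ∈ st.EK.Hom (P ⊓ T)
  rw [← h2]
  exact h1

theorem Setup.good_inv (st : Setup p F E K) {P : Subgroup Ω} {φ : P →* Ω}
    (hφF : φ ∈ F.Hom P) (hφ : st.Good φ) {ψ : φ.range →* Ω}
    (hψe : ∀ x : P, ψ ⟨φ x, ⟨x, rfl⟩⟩ = (x : Ω)) : st.Good ψ := by
  obtain ⟨ψ', hψ', hψ'e⟩ := st.EK.inv_mem hφ
  obtain ⟨χ', hχ', hχ'e⟩ := transport_hom st.EK (st.resT_range hφF) hψ'
  have h1 : χ' = resT T ψ := by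
    ext y
    obtain ⟨y, hy⟩ := y
    have hy' : y ∈ (resT T φ).range := by rw [st.resT_range hφF]; exact hy
    obtain ⟨x, hx⟩ := hy'
    rw [hχ'e y ⟨x, hx⟩ hy]
    have e1 : (⟨y, ⟨x, hx⟩⟩ : (resT T φ).range) = ⟨resT T φ x, ⟨x, rfl⟩⟩ := Subtype.ext hx.symm
    rw [e1, hψ'e x, resT_apply]
    have e2 : (⟨((⟨y, hy⟩ : ↥(φ.range ⊓ T)) : Ω), hy.1⟩ : φ.range) =
        ⟨φ ⟨x, x.2.1⟩, ⟨_, rfl⟩⟩ := Subtype.ext hx.symm
    rw [e2, hψe]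
  show resT T ψ ∈ st.EK.Hom (φ.range ⊓ T)
  rw [← h1]
  exact hχ'

/-- the system of good maps -/
def Setup.Gd (st : Setup p F E K) : FusionSystem S where
  Hom Q := {φ | φ ∈ F.Hom Q ∧ st.Good φ}
  le_of_mem h := F.le_of_mem h.1
  injective_of_mem h := F.injective_of_mem h.1
  conj_mem hP hg := ⟨F.conj_mem hP hg, st.good_conj _ hg⟩
  comp_mem hφ hψ hm := ⟨F.comp_mem hφ.1 hψ.1 hm, st.good_comp hφ.1 hφ.2 hψ.2 hm⟩
  inv_mem := by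
    rintro P φ ⟨hφF, hφ⟩
    obtain ⟨ψ, hψ, hψe⟩ := F.inv_mem hφF
    exact ⟨ψ, ⟨hψ, st.good_inv hφF hφ hψe⟩, hψe⟩

theorem Setup.mem_Gd (st : Setup p F E K) {Q : Subgroup Ω} {φ : Q →* Ω} :
    φ ∈ st.Gd.Hom Q ↔ φ ∈ F.Hom Q ∧ st.Good φ := Iff.rfl

/-- the good family of subgroups -/
def Setup.HH (st : Setup p F E K) : Set (Subgroup Ω) :=
  {Q | F.IsCentric Q ∧ TC F T (Q ⊓ T)}

/-- the subsystem `F₀` -/
def Setup.F0 (st : Setup p F E K) : FusionSystem S :=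
  interSys F (fun D => ∀ Q ∈ st.HH, ∀ φ ∈ st.Gd.Hom Q, φ ∈ D.Hom Q) (fun _ _ _ hφ => hφ.1)

theorem Setup.F0_le_F (st : Setup p F E K) : st.F0.IsSubsystemOf F :=
  fun _ _ hφ => hφ F (fun _ _ _ h => h.1)

theorem Setup.F0_le_Gd (st : Setup p F E K) : st.F0.IsSubsystemOf st.Gd :=
  fun _ _ hφ => hφ st.Gd (fun _ _ _ h => h)

theorem Setup.mem_F0_of (st : Setup p F E K) {Q : Subgroup Ω} (hQ : Q ∈ st.HH) {φ : Q →* Ω}
    (hφ : φ ∈ st.Gd.Hom Q) : φ ∈ st.F0.Hom Q := fun _ hD => hD Q hQ φ hφ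

theorem Setup.F0_min (st : Setup p F E K) (D : FusionSystem S)
    (hD : ∀ Q ∈ st.HH, ∀ φ ∈ st.Gd.Hom Q, φ ∈ D.Hom Q) : st.F0.IsSubsystemOf D :=
  fun _ _ hφ => hφ D hD

theorem isCentric_of_le' (F : FusionSystem S) {Q Q' : Subgroup Ω} (hQ : F.IsCentric Q)
    (hle : Q ≤ Q') (hQ' : Q' ≤ S) : F.IsCentric Q' := by
  refine ⟨hQ', ?_⟩
  rintro X' ⟨φ', hφ', hr⟩
  have hφ := restrict_mem F hφ' hle
  have hXle : (φ'.comp (Subgroup.inclusion hle)).range ≤ X' := by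
    rw [← hr]
    rintro _ ⟨x, rfl⟩
    exact ⟨Subgroup.inclusion hle x, rfl⟩
  have h1 := hQ.2 _ ⟨_, hφ, rfl⟩
  exact ((centralizerIn_anti S hXle).trans h1).trans hXle

theorem Setup.HH_conj (st : Setup p F E K) {Q Q' : Subgroup Ω} (hQ : Q ∈ st.HH)
    (h : F.IsConj Q Q') : Q' ∈ st.HH := by
  refine ⟨isCentric_of_isConj F hQ.1 h, ?_⟩
  obtain ⟨φ, hφ, hr⟩ := h
  have h1 : F.IsConj (Q ⊓ T) (Q' ⊓ T) := ⟨resT T φ, st.resT_mem hφ, by rw [st.resT_range hφ, hr]⟩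
  exact hQ.2.of_isConj h1 inf_le_right

theorem Setup.HH_mono (st : Setup p F E K) {Q Q' : Subgroup Ω} (hQ : Q ∈ st.HH)
    (hle : Q ≤ Q') (hQ' : Q' ≤ S) : Q' ∈ st.HH :=
  ⟨isCentric_of_le' F hQ.1 hle hQ', hQ.2.mono (inf_le_inf_right T hle) inf_le_right⟩

theorem Setup.TC_T [Finite S] (st : Setup p F E K) : TC F T T :=
  ⟨le_rfl, fun X hX => by rw [st.isConj_T_eq hX]; exact inf_le_left⟩

theorem Setup.top_mem_HH [Finite S] (st : Setup p F E K) : S ∈ st.HH := by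
  refine ⟨centric_top F, ?_⟩
  have h1 : S ⊓ T = T := inf_eq_right.mpr st.hTS
  rw [h1]
  exact st.TC_T

/-- goodness passes from a relatively centric subgroup to an overgroup -/
theorem Setup.key [Finite S] [Fact p.Prime] (st : Setup p F E K) {N R : Subgroup Ω}
    (hRN : R ≤ N) (hTC : TC F T (R ⊓ T)) {ψ : N →* Ω} (hψ : ψ ∈ F.Hom N)
    (hg : st.Good (ψ.comp (Subgroup.inclusion hRN))) : st.Good ψ := by
  obtain ⟨α, hα, ψ₀, hψ₀, he⟩ := st.hFr (N ⊓ T) inf_le_right _ (st.resT_mem hψ)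
  obtain ⟨κ, hκ, ε, hε, hεe⟩ := hg
  have hle : R ⊓ T ≤ N ⊓ T := inf_le_inf_right T hRN
  have hψ₀T : ∀ x, ψ₀ x ∈ T := (E.le_of_mem hψ₀).2
  have hεT : ∀ x, ε x ∈ T := (E.le_of_mem hε).2
  have hψ₀R : ψ₀.comp (Subgroup.inclusion hle) ∈ E.Hom (R ⊓ T) := restrict_mem E hψ₀ hle
  obtain ⟨X, hX⟩ : ∃ X, (ψ₀.comp (Subgroup.inclusion hle)).range = X := ⟨_, rfl⟩
  have hXT : X ≤ T := by
    rw [← hX]
    rintro _ ⟨x, rfl⟩
    exact hψ₀T _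
  obtain ⟨β, hβdef⟩ : ∃ β, β = κ⁻¹ * α := ⟨_, rfl⟩
  have hβF : β ∈ F.autGroup T := by
    rw [hβdef]
    exact mul_mem (inv_mem (st.hKle hκ)) hα
  have hβe : ∀ x : ↥(R ⊓ T),
      β ⟨ψ₀ (Subgroup.inclusion hle x), hψ₀T _⟩ = ⟨ε x, hεT x⟩ := by
    intro x
    rw [hβdef]
    show κ⁻¹ (α ⟨ψ₀ (Subgroup.inclusion hle x), hψ₀T _⟩) = _
    have e1 := he (Subgroup.inclusion hle x) (hψ₀T _)
    have e2 := hεe x (hεT x)
    have e3 : resT T (ψ.comp (Subgroup.inclusion hRN)) x =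
        resT T ψ (Subgroup.inclusion hle x) := rfl
    have e4 : α ⟨ψ₀ (Subgroup.inclusion hle x), hψ₀T _⟩ = κ ⟨ε x, hεT x⟩ := by
      apply Subtype.ext
      rw [← e1, ← e2, e3]
    rw [e4, MulAut.inv_apply_self]
  obtain ⟨θ, hθ, hθe, hθr, -⟩ := inv_hom E hψ₀R hX
  have hθR : ∀ y : X, θ y ∈ R ⊓ T := fun y => hθr.le ⟨y, rfl⟩
  obtain ⟨χ, hχ, hχe⟩ := comp_hom E hθ hε hθR
  have hres : resAut β hXT ∈ st.EK.Hom X := by
    apply st.E_le_EK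
    have h1 : χ = resAut β hXT := by
      ext y
      obtain ⟨x, hx⟩ := hX.ge y.2
      have hy : y = ⟨(ψ₀.comp (Subgroup.inclusion hle)) x, hX.le ⟨x, rfl⟩⟩ :=
        Subtype.ext hx.symm
      rw [hχe, hy, resAut_apply]
      have e5 : (⟨θ ⟨(ψ₀.comp (Subgroup.inclusion hle)) x, hX.le ⟨x, rfl⟩⟩, hθR _⟩ :
          ↥(R ⊓ T)) = x := Subtype.ext (hθe x _)
      rw [e5]
      have e6 := hβe x
      exact (congrArg Subtype.val e6).symm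
    rw [← h1]
    exact hχ
  have hTCX : TC F T X := hTC.of_isConj ⟨_, st.hEF _ hψ₀R, hX⟩ hXT
  have hβK : β ∈ K := st.claimB _ X hTCX rfl β hβF hres
  have hαK : α ∈ K := by
    have h1 : α = κ * β := by rw [hβdef, mul_inv_cancel_left]
    rw [h1]
    exact K.mul_mem hκ hβK
  exact ⟨α, hαK, ψ₀, hψ₀, he⟩

/-- the Frattini factorization with a good second factor -/
theorem Setup.frGood [Finite S] [Fact p.Prime] (st : Setup p F E K) {P : Subgroup Ω}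
    {φ : P →* Ω} (hφ : φ ∈ F.Hom P) : Fr F st.Gd P φ := by
  obtain ⟨α, hα, φ₀, hφ₀, he⟩ := st.hFr (P ⊓ T) inf_le_right _ (st.resT_mem hφ)
  obtain ⟨κ, hκ, ν, hν, νh, hνh, hακν, hνe⟩ := st.frLift hα
  have hφS : ∀ x : P, φ x ∈ S := hom_mem F hφ
  have hinvF := hom_of_mem_autGroup F le_rfl (inv_mem hνh)
  obtain ⟨φ', hφ', hφ'e⟩ := comp_hom F hφ hinvF hφS
  have hφ₀T : ∀ x, φ₀ x ∈ T := (E.le_of_mem hφ₀).2
  have hνinv : ∀ t : T, ((νh⁻¹ ⟨t, st.hTS t.2⟩ : S) : Ω) = ((ν⁻¹ t : T) : Ω) := by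
    intro t
    have h1 := hνe (ν⁻¹ t)
    rw [MulAut.apply_inv_self] at h1
    have h2 : (⟨(t : Ω), st.hTS t.2⟩ : S) = νh ⟨((ν⁻¹ t : T) : Ω), st.hTS (ν⁻¹ t).2⟩ :=
      Subtype.ext h1.symm
    rw [h2, MulAut.inv_apply_self]
  have hκ' : ν⁻¹ * κ * ν⁻¹⁻¹ ∈ K := st.hKn ν⁻¹ (inv_mem hν) κ hκ
  refine ⟨νh, hνh, φ', ⟨hφ', ?_⟩, ?_⟩
  · refine ⟨ν⁻¹ * κ * ν⁻¹⁻¹, hκ', φ₀, hφ₀, ?_⟩
    intro x hx
    rw [resT_apply, hφ'e]
    have e1 := he x hx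
    rw [resT_apply] at e1
    show ((νh⁻¹ ⟨φ ⟨x, x.2.1⟩, hφS _⟩ : S) : Ω) = _
    have e2 : (⟨φ ⟨x, x.2.1⟩, hφS _⟩ : S) =
        ⟨((α ⟨φ₀ x, hx⟩ : T) : Ω), st.hTS (α ⟨φ₀ x, hx⟩).2⟩ := Subtype.ext e1
    rw [e2, hνinv, hακν, inv_inv]
    rfl
  · intro x hx
    have e3 : (⟨φ' x, hx⟩ : S) = νh⁻¹ ⟨φ x, hφS x⟩ := Subtype.ext (hφ'e x)
    rw [e3, MulAut.apply_inv_self]

end Cfsg.Agent.Lib.Helper3.NK
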