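import Mathlib
import Cfsg.Agent.Lib.Helper3.NK5

set_option autoImplicit false
set_option maxHeartbeats 1000000
set_option linter.style.haveILetI false
set_option linter.unusedSectionVars false
set_option linter.unusedVariables false

/-! Invariance of `F₀` under `Aut_F(S)` and the Frattini property. -/

namespace Cfsg.Agent.Lib.Helper3.NK

open Cfsg Cfsg.FusionSystem Cfsg.Agent.Lib.Helper9 Cfsg.Agent.Lib.Helper2.StrongInv
  Cfsg.Agent.Lib.Helper2.PrimeIdx Cfsg.Agent.Lib.Helper2.KNorm Cfsg.Agent.Lib.Helper2.PPrime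

variable {Ω : Type*} [Group Ω] {S T : Subgroup Ω}
variable {p : ℕ} {F : FusionSystem S} {E : FusionSystem T} {K : Subgroup (MulAut T)}

/-- conjugates of good maps under `Aut_F(S)` are good -/
theorem Setup.Gd_conj [Finite S] (st : Setup p F E K) {α : MulAut S} (hα : α ∈ F.autGroup S)
    {Q P₂ : Subgroup Ω} {φ : Q →* Ω} (hφ : φ ∈ st.Gd.Hom Q) (hImg : IsImg α Q P₂) :
    ∃ χ ∈ st.Gd.Hom P₂, ConjBy α φ χ := by
  obtain ⟨hφF, hφG⟩ := hφ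
  have hQS : Q ≤ S := hom_le F hφF
  have hφS : ∀ x : Q, φ x ∈ S := hom_mem F hφF
  have hρ := resAut_mem F hα hQS
  have hρr := resAut_range hQS hImg
  obtain ⟨θ, hθ, hθe, hθr, -⟩ := inv_hom F hρ hρr
  have hθQ : ∀ y : P₂, θ y ∈ Q := fun y => hθr.le ⟨y, rfl⟩
  obtain ⟨χ₁, hχ₁, hχ₁e⟩ := comp_hom F hθ hφF hθQ
  have hχ₁S : ∀ y : P₂, χ₁ y ∈ S := hom_mem F hχ₁
  obtain ⟨χ, hχ, hχe⟩ := comp_hom F hχ₁ (hom_of_mem_autGroup F le_rfl hα) hχ₁S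
  have hconj : ConjBy α φ χ := by
    intro x hxS h2 hφx
    rw [hχe]
    show ((α ⟨χ₁ ⟨((α ⟨x, hxS⟩ : S) : Ω), h2⟩, hχ₁S _⟩ : S) : Ω) = _
    congr 2
    apply Subtype.ext
    show χ₁ ⟨((α ⟨x, hxS⟩ : S) : Ω), h2⟩ = φ x
    rw [hχ₁e]
    congr 1
    apply Subtype.ext
    exact hθe x h2
  refine ⟨χ, ⟨hχ, ?_⟩, hconj⟩
  -- goodness of the conjugate
  obtain ⟨ν, hν, hνe⟩ := st.exists_resT hα
  have hP₂ : ∀ y : Ω, y ∈ P₂ ⊓ T ↔
      ∃ (x : Ω) (hx : x ∈ Q ⊓ T), ((ν ⟨x, (inf_le_right : Q ⊓ T ≤ T) hx⟩ : T) : Ω) = y := by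
    intro y
    constructor
    · rintro ⟨hy2, hyT⟩
      obtain ⟨x, hx, hxS, rfl⟩ := (hImg y).mp hy2
      have hxT : x ∈ T := by
        have h1 := mem_of_map_mem_stronglyClosed F st.hT hρ ⟨x, hx⟩ hyT
        exact h1
      refine ⟨x, ⟨hx, hxT⟩, ?_⟩
      rw [← hνe ⟨x, hxT⟩]
    · rintro ⟨x, hx, rfl⟩
      refine ⟨?_, (ν _).2⟩
      rw [← hνe ⟨x, hx.2⟩]
      exact hImg.mem hx.1 _
  obtain ⟨χ', hχ', hχ'e⟩ := st.EK_inv (Q ⊓ T) (P₂ ⊓ T) inf_le_right (resT T φ) hφG ν hν hP₂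
  have h1 : χ' = resT T χ := by
    ext y
    obtain ⟨x, hx, hxy⟩ := (hP₂ y).mp y.2
    have hy : y = ⟨((ν ⟨x, (inf_le_right : Q ⊓ T ≤ T) hx⟩ : T) : Ω), by rw [hxy]; exact y.2⟩ :=
      Subtype.ext hxy.symm
    have hφxT : resT T φ ⟨x, hx⟩ ∈ T :=
      Cfsg.Agent.Lib.Helper2.NotRad.sc_map st.hT hφF ⟨x, hx.1⟩ hx.2
    have hmem : ((α ⟨x, hQS hx.1⟩ : S) : Ω) ∈ P₂ := hImg.mem hx.1 _
    rw [hy, hχ'e ⟨x, hx⟩ _ hφxT]
    have e1 := hconj ⟨x, hx.1⟩ (hQS hx.1) hmem (hφS _)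
    have e3 : ∀ hm', resT T χ ⟨((ν ⟨x, (inf_le_right : Q ⊓ T ≤ T) hx⟩ : T) : Ω), hm'⟩ =
        χ ⟨((α ⟨x, hQS hx.1⟩ : S) : Ω), hmem⟩ := by
      intro hm'
      rw [resT_apply]
      congr 1
      exact Subtype.ext (hνe ⟨x, hx.2⟩).symm
    rw [e3, e1]
    exact (hνe ⟨resT T φ ⟨x, hx⟩, hφxT⟩).symm
  show resT T χ ∈ st.EK.Hom (P₂ ⊓ T)
  rw [← h1]
  exact hχ'

theorem Setup.F0_inv [Finite S] (st : Setup p F E K) :
    Cfsg.Agent.Lib.Helper2.StrongInv.Inv F st.F0 := by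
  have h1 : st.F0.IsSubsystemOf (invSub F st.F0) := by
    apply st.F0_min
    intro Q hQ φ hφ
    refine ⟨st.mem_F0_of hQ hφ, ?_⟩
    intro α hα P₂ hP₂
    obtain ⟨χ, hχ, hc⟩ := st.Gd_conj hα hφ hP₂
    have hQS : Q ≤ S := hQ.1.1
    have hP₂H : P₂ ∈ st.HH := st.HH_conj hQ (isConj_of_isImg F hα hQS hP₂)
    exact ⟨χ, st.mem_F0_of hP₂H hχ, hc⟩
  have h2 := invSub_inv F st.F0
  intro P P₂ hPT φ hφ α hα hP₂
  obtain ⟨χ, hχ, hχe⟩ := h2 P P₂ hPT φ (h1 P hφ) α hα hP₂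
  exact ⟨χ, invSub_le F _ P₂ hχ, hχe⟩

theorem Setup.essential_mem_HH [Finite S] [Fact p.Prime] (st : Setup p F E K) {P : Subgroup Ω}
    (hP : P = S ∨ F.IsEssential p P) : P ∈ st.HH := by
  rcases hP with rfl | hP
  · exact st.top_mem_HH
  · refine ⟨hP.1, inf_le_right, fun X hX => ?_⟩
    by_contra h
    exact (Cfsg.Agent.Lib.Helper2.NotRad.main p st.hS F st.hF st.hT P hP.1 X hX h).2
      (Cfsg.Agent.S5080.result p st.hS F st.hF P hP)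

/-- the Frattini property of `F₀` -/
theorem Setup.fr_F0 [Finite S] [Fact p.Prime] (st : Setup p F E K) (P : Subgroup Ω)
    (φ : P →* Ω) (hφ : φ ∈ F.Hom P) : Fr F st.F0 P φ := by
  have hle : F ≤ sysH (F.autGroup S) st.F0 (invH_of_inv st.F0_inv le_rfl) := by
    apply alperin p st.hS F st.hF
    intro P hP γ hγ
    have hPH := st.essential_mem_HH hP
    have hPS : P ≤ S := hPH.1.1
    rw [mem_autGroup_iff _ hPS]
    obtain ⟨νh, hνh, φ', hφ', he⟩ := st.frGood (hom_of_mem_autGroup F hPS hγ)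
    exact ⟨νh, hνh, φ', st.mem_F0_of hPH hφ', he⟩
  exact hle P hφ

theorem Setup.F0_centric_iff [Finite S] [Fact p.Prime] (st : Setup p F E K) (P : Subgroup Ω) :
    st.F0.IsCentric P ↔ F.IsCentric P :=
  centric_iff st.F0 st.F0_le_F st.fr_F0 P

end Cfsg.Agent.Lib.Helper3.NK
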