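import Mathlib
import Cfsg.Agent.Lib.Helper3.NK6

set_option autoImplicit false
set_option maxHeartbeats 1000000
set_option linter.style.haveILetI false
set_option linter.unusedSectionVars false
set_option linter.unusedVariables false

/-! Saturation of `F₀`. -/

namespace Cfsg.Agent.Lib.Helper3.NK

open Cfsg Cfsg.FusionSystem Cfsg.Agent.Lib.Helper9 Cfsg.Agent.Lib.Helper2.StrongInv
  Cfsg.Agent.Lib.Helper2.PrimeIdx Cfsg.Agent.Lib.Helper2.KNorm Cfsg.Agent.Lib.Helper2.PPrime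
  Cfsg.Agent.Lib.Helper2.NotRad

variable {Ω : Type*} [Group Ω] {S T : Subgroup Ω}
variable {p : ℕ} {F : FusionSystem S} {E : FusionSystem T} {K : Subgroup (MulAut T)}

/-- a centric subgroup whose part in `T` is not relatively centric has an `F₀`-conjugate with an
element of `T` outside it normalizing it and centralizing its part in `T` -/
theorem Setup.exists_conj_elt [Finite S] [Fact p.Prime] (st : Setup p F E K) {P : Subgroup Ω}
    (hP : F.IsCentric P) {X : Subgroup Ω} (hFX : F.IsConj (P ⊓ T) X)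
    (hXc : ¬ centralizerIn T X ≤ X) :
    ∃ φ ∈ st.F0.Hom P, ∃ x ∈ T, x ∈ Subgroup.normalizer (φ.range : Set Ω) ∧ x ∉ φ.range ∧
      ∀ w ∈ φ.range, w ∈ T → x * w * x⁻¹ = w := by
  have hS := st.hS
  have hF := st.hF
  have hsc := st.hT
  have hTS : T ≤ S := hsc.1
  have hPS : P ≤ S := hP.1
  obtain ⟨c, hcC, hcX⟩ := SetLike.not_le_iff_exists.mp hXc
  have hP0S : P ⊓ T ≤ S := inf_le_left.trans hPS
  obtain ⟨Q1, hPQ1, hQ1n⟩ := exists_isConj_fullyNormalized F hP0S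
  have hfa1 := fullyAutomized_of_fullyNormalized hS F hF hQ1n
  have hfc1 := fullyCentralized_of_fullyNormalized hS F hF hQ1n
  have hrec1 := receptive_of_fullyCentralized hS F hF hfc1
  obtain ⟨ψ₁, hψ₁, hψ₁N, hψ₁P0⟩ := exists_normalizer_hom hS F Q1 (P ⊓ T) hfa1 hrec1 hPQ1
  -- adjust by the Frattini factorization
  obtain ⟨νh, hνh, ψ, hψF0, hψe⟩ := st.fr_F0 _ ψ₁ hψ₁
  have hψ : ψ ∈ F.Hom (normalizerIn S (P ⊓ T)) := st.F0_le_F _ hψF0
  have hψS : ∀ n, ψ n ∈ S := hom_mem F hψ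
  obtain ⟨Q0, hψP0⟩ : ∃ Q0, ((P ⊓ T).subgroupOf (normalizerIn S (P ⊓ T))).map ψ = Q0 := ⟨_, rfl⟩
  have hQ0S : Q0 ≤ S := by
    rw [← hψP0]
    rintro _ ⟨n, -, rfl⟩
    exact hψS n
  have hImg : IsImg νh Q0 Q1 := by
    intro y
    constructor
    · intro hy
      rw [← hψ₁P0] at hy
      obtain ⟨n, hn, rfl⟩ := hy
      refine ⟨ψ n, ?_, hψS n, (hψe n (hψS n)).symm⟩
      rw [← hψP0]
      exact ⟨n, hn, rfl⟩
    · rintro ⟨z, hz, hzS, rfl⟩
      rw [← hψP0] at hz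
      obtain ⟨n, hn, rfl⟩ := hz
      rw [← hψe n hzS, ← hψ₁P0]
      exact ⟨n, hn, rfl⟩
  have hQ0n : F.IsFullyNormalized Q0 := fullyNormalized_of_isImg F hνh hQ0S hImg hQ1n
  have hP0N : P ⊓ T ≤ normalizerIn S (P ⊓ T) := self_le_normalizerIn' hP0S
  have hPQ0 : F.IsConj (P ⊓ T) Q0 :=
    ⟨_, restrict_mem F hψ hP0N, by rw [range_comp_inclusion, hψP0]⟩
  have hfa := fullyAutomized_of_fullyNormalized hS F hF hQ0n
  have hfc := fullyCentralized_of_fullyNormalized hS F hF hQ0n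
  have hrec := receptive_of_fullyCentralized hS F hF hfc
  have hXQ0 : F.IsConj X Q0 := isConj_trans F (isConj_symm F hFX) hPQ0
  obtain ⟨ψX, hψX, hψXN, hψXX⟩ := exists_normalizer_hom hS F Q0 X hfa hrec hXQ0
  -- an element of `C_T(Q0)` outside `Q0`
  have hd : ∃ d, d ∈ T ∧ d ∈ Subgroup.centralizer (Q0 : Set Ω) ∧ d ∉ Q0 := by
    have hcT : c ∈ T := hcC.1
    have hcCX : c ∈ Subgroup.centralizer (X : Set Ω) := hcC.2
    have hcN : c ∈ normalizerIn S X := ⟨hTS hcT, Subgroup.centralizer_le_normalizer _ hcCX⟩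
    refine ⟨ψX ⟨c, hcN⟩, sc_map hsc hψX ⟨c, hcN⟩ hcT, ?_, ?_⟩
    · rw [Subgroup.mem_centralizer_iff]
      intro q hq
      rw [SetLike.mem_coe, ← hψXX] at hq
      obtain ⟨x', hx', rfl⟩ := hq
      simp only [SetLike.mem_coe, Subgroup.mem_subgroupOf] at hx'
      have hcomm : x' * ⟨c, hcN⟩ = ⟨c, hcN⟩ * x' := by
        apply Subtype.ext
        exact (Subgroup.mem_centralizer_iff.mp hcCX) (x' : Ω) hx'
      rw [← map_mul, ← map_mul, hcomm]
    · intro hmem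
      rw [← hψXX] at hmem
      obtain ⟨x', hx', hx'eq⟩ := hmem
      simp only [SetLike.mem_coe, Subgroup.mem_subgroupOf] at hx'
      have h3 := F.injective_of_mem hψX hx'eq
      have h4 : (x' : Ω) = c := congrArg Subtype.val h3
      exact hcX (h4 ▸ hx')
  obtain ⟨d, hdT, hdC, hdQ0⟩ := hd
  have hPN : P ≤ normalizerIn S (P ⊓ T) := by
    intro g hg
    refine ⟨hPS hg, ?_⟩
    show g ∈ Subgroup.normalizer ((P ⊓ T : Subgroup Ω) : Set Ω)
    rw [Subgroup.mem_normalizer_iff]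
    intro h
    constructor
    · rintro ⟨h1, h2⟩
      exact ⟨P.mul_mem (P.mul_mem hg h1) (P.inv_mem hg), sc_conj hsc (hPS hg) h2⟩
    · rintro ⟨h1, h2⟩
      refine ⟨?_, (sc_conj_iff hsc (hPS hg) h).mpr h2⟩
      have h3 := P.mul_mem (P.mul_mem (P.inv_mem hg) h1) hg
      have e : g⁻¹ * (g * h * g⁻¹) * g = h := by group
      rwa [e] at h3
  obtain ⟨φ, hφdef⟩ : ∃ φ : P →* Ω, φ = ψ.comp (Subgroup.inclusion hPN) := ⟨_, rfl⟩
  have hφF0 : φ ∈ st.F0.Hom P := by rw [hφdef]; exact restrict_mem st.F0 hψF0 hPN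
  have hφ : φ ∈ F.Hom P := st.F0_le_F _ hφF0
  have hφv : ∀ y : P, φ y = ψ (Subgroup.inclusion hPN y) := fun y => by rw [hφdef]; rfl
  obtain ⟨θ, hθ, hθ1, hθr, hθ2⟩ := inv_hom F hφ rfl
  have hφQ0 : ∀ y : P, (y : Ω) ∈ T → φ y ∈ Q0 := by
    intro y hy
    rw [← hψP0, hφv]
    exact ⟨Subgroup.inclusion hPN y, Subgroup.mem_subgroupOf.mpr ⟨y.2, hy⟩, rfl⟩
  have hφT : ∀ y : P, φ y ∈ T → (y : Ω) ∈ T := by
    intro y hy
    have h := sc_map hsc hθ ⟨φ y, ⟨y, rfl⟩⟩ hy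
    have h2 := hθ1 y ⟨y, rfl⟩
    rw [h2] at h
    exact h
  have hstar : ∀ w, w ∈ φ.range → w ∈ T → w ∈ Q0 := by
    rintro _ ⟨y, rfl⟩ hT
    exact hφQ0 y (hφT y hT)
  have hQ0T : Q0 ≤ T := by
    intro q hq
    rw [← hψP0] at hq
    obtain ⟨x', hx', rfl⟩ := hq
    simp only [SetLike.mem_coe, Subgroup.mem_subgroupOf] at hx'
    exact sc_map hsc hψ x' hx'.2
  have hQ0star : Q0 ≤ φ.range := by
    intro q hq
    rw [← hψP0] at hq
    obtain ⟨x', hx', rfl⟩ := hq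
    simp only [SetLike.mem_coe, Subgroup.mem_subgroupOf] at hx'
    refine ⟨⟨(x' : Ω), hx'.1⟩, ?_⟩
    rw [hφv]
    rfl
  have hstarS : φ.range ≤ S := range_le F hφ
  have hconjQ0 : ∀ g ∈ φ.range, ∀ q ∈ Q0, g * q * g⁻¹ ∈ Q0 := by
    intro g hg q hq
    exact hstar _ (φ.range.mul_mem (φ.range.mul_mem hg (hQ0star hq)) (φ.range.inv_mem hg))
      (sc_conj hsc (hstarS hg) (hQ0T hq))
  have hnormD : φ.range ≤ Subgroup.normalizer ((centralizerIn T Q0 : Subgroup Ω) : Set Ω) := by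
    apply le_normalizer_of_conj
    intro g hg h hh
    refine ⟨sc_conj hsc (hstarS hg) hh.1, ?_⟩
    show g * h * g⁻¹ ∈ Subgroup.centralizer (Q0 : Set Ω)
    rw [Subgroup.mem_centralizer_iff]
    intro q hq
    have hq' := hconjQ0 g⁻¹ (φ.range.inv_mem hg) q hq
    have hc := (Subgroup.mem_centralizer_iff.mp hh.2) _ hq'
    rw [inv_inv] at hc
    have e1 : q * (g * h * g⁻¹) = g * ((g⁻¹ * q * g) * h) * g⁻¹ := by group
    have e2 : g * h * g⁻¹ * q = g * (h * (g⁻¹ * q * g)) * g⁻¹ := by group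
    rw [e1, e2, hc]
  have hdD : d ∈ centralizerIn T Q0 := ⟨hdT, hdC⟩
  have hRS : φ.range ⊔ centralizerIn T Q0 ≤ S := sup_le hstarS (inf_le_left.trans hTS)
  have hlt : φ.range < φ.range ⊔ centralizerIn T Q0 := by
    rw [SetLike.lt_iff_le_and_exists]
    exact ⟨le_sup_left, d, le_sup_right (a := φ.range) hdD, fun h => hdQ0 (hstar d h hdT)⟩
  haveI : Finite ↥(φ.range ⊔ centralizerIn T Q0) := finite_of_le hRS
  have hRp : IsPGroup p ↥(φ.range ⊔ centralizerIn T Q0) := isPGroup_of_le hS hRS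
  obtain ⟨g, hgN, hgn⟩ := exists_mem_normalizerIn_not_mem (S := φ.range ⊔ centralizerIn T Q0)
    hRp hlt
  have hgR : g ∈ ((φ.range ⊔ centralizerIn T Q0 : Subgroup Ω) : Set Ω) := hgN.1
  rw [Subgroup.coe_mul_of_left_le_normalizer_right _ _ hnormD] at hgR
  obtain ⟨u, hu, x, hx, hux⟩ := Set.mem_mul.mp hgR
  rw [SetLike.mem_coe] at hu hx
  have hxnorm : x ∈ Subgroup.normalizer (φ.range : Set Ω) := by
    have h1 := (Subgroup.normalizer (φ.range : Set Ω)).mul_mem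
      ((Subgroup.normalizer (φ.range : Set Ω)).inv_mem (Subgroup.le_normalizer hu)) hgN.2
    rw [← hux, inv_mul_cancel_left] at h1
    exact h1
  have hxnot : x ∉ φ.range := fun h => hgn (hux ▸ φ.range.mul_mem hu h)
  have hxT : x ∈ T := hx.1
  have hxC : x ∈ Subgroup.centralizer (Q0 : Set Ω) := hx.2
  have hxcomm : ∀ q ∈ Q0, x * q * x⁻¹ = q := by
    intro q hq
    have h := (Subgroup.mem_centralizer_iff.mp hxC) q hq
    rw [← h, mul_inv_cancel_right]
  exact ⟨φ, hφF0, x, hxT, hxnorm, hxnot, fun w hw hwT => hxcomm w (hstar w hw hwT)⟩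

/-- the saturation of `F₀` -/
theorem Setup.F0_saturated [Finite S] [Fact p.Prime] (st : Setup p F E K) :
    st.F0.IsSaturated p := by
  have hS := st.hS
  have hF := st.hF
  have hTS : T ≤ S := st.hTS
  apply Cfsg.Agent.Lib.Helper2.Sat310.saturated_of_generated hS st.F0 st.HH
  · -- every member of the family has a fully automized receptive conjugate
    intro P hP
    have hPS : P ≤ S := hP.1.1
    obtain ⟨P₁, ⟨ρ, hρ, hρr⟩, hP₁n⟩ := exists_isConj_fullyNormalized F hPS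
    obtain ⟨α, hα, φ₀, hφ₀, he⟩ := st.frGood hρ
    have hφ₀F0 : φ₀ ∈ st.F0.Hom P := st.mem_F0_of hP hφ₀
    have hφ₀S : ∀ x : P, φ₀ x ∈ S := hom_mem F hφ₀.1
    obtain ⟨Q, hQdef⟩ : ∃ Q, φ₀.range = Q := ⟨_, rfl⟩
    have hQS : Q ≤ S := hQdef ▸ range_le F hφ₀.1
    have hImg : IsImg α Q P₁ := by
      intro y
      constructor
      · intro hy
        obtain ⟨x, hx⟩ := hρr.ge hy
        refine ⟨φ₀ x, hQdef.le ⟨x, rfl⟩, hφ₀S x, ?_⟩
        rw [← hx]
        exact (he x (hφ₀S x)).symm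
      · rintro ⟨z, hz, hzS, rfl⟩
        obtain ⟨x, rfl⟩ := hQdef.ge hz
        rw [← hρr]
        exact ⟨x, he x hzS⟩
    have hQn : F.IsFullyNormalized Q := fullyNormalized_of_isImg F hα hQS hImg hP₁n
    have hconjE : st.F0.IsConj P Q := ⟨φ₀, hφ₀F0, hQdef⟩
    have hconjF : F.IsConj P Q := ⟨φ₀, hφ₀.1, hQdef⟩
    have hQH : Q ∈ st.HH := st.HH_conj hP hconjF
    have hfaF := fullyAutomized_of_fullyNormalized hS F hF hQn
    have hfcF := fullyCentralized_of_fullyNormalized hS F hF hQn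
    have hrecF := receptive_of_fullyCentralized hS F hF hfcF
    refine ⟨Q, hconjE, ⟨hQS, ?_⟩, ⟨hQS, ?_⟩⟩
    · haveI : Finite Q := finite_of_le hQS
      obtain ⟨-, R, hR⟩ := hfaF
      have hsylF : IsSyl p (autInducedBy S Q) (F.autGroup Q) :=
        ⟨autInducedBy_le_autGroup F hQS, R, hR⟩
      have hle : st.F0.autGroup Q ≤ F.autGroup Q := autGroup_mono' st.F0_le_F Q
      exact (hsylF.mono_right (autInducedBy_le_autGroup st.F0 hQS) hle).2
    · intro R φ hφ hφr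
      have hφF : φ ∈ F.Hom R := st.F0_le_F R hφ
      have hφG : st.Good φ := (st.F0_le_Gd R hφ).2
      have hRS : R ≤ S := hom_le F hφF
      obtain ⟨ψ, hψ, hψe⟩ := hrecF.2 R φ hφF hφr
      refine ⟨ψ, ?_, hψe⟩
      have hRN : R ≤ extender S R φ := le_extender hRS φ (hom_mem F hφF)
      have hRH : R ∈ st.HH := st.HH_conj hQH (isConj_symm F ⟨φ, hφF, hφr⟩)
      have hextS : extender S R φ ≤ S :=
        (extender_le_normalizerIn R φ).trans (normalizerIn_le S R)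
      have hextH : extender S R φ ∈ st.HH := st.HH_mono hRH hRN hextS
      apply st.mem_F0_of hextH
      refine ⟨hψ, st.key hRN hRH.2 hψ ?_⟩
      have h1 : ψ.comp (Subgroup.inclusion hRN) = φ := by
        ext x
        exact hψe x x.2 (hRN x.2)
      rw [h1]
      exact hφG
  · -- generation
    intro E' hE'
    exact st.F0_min E' (fun Q hQ φ hφ => hE' Q hQ (st.mem_F0_of hQ hφ))
  · -- the centric subgroups outside the family
    intro P hc hn
    have hPc : F.IsCentric P := (st.F0_centric_iff P).mp hc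
    have hnTC : ¬ TC F T (P ⊓ T) := fun h => hn ⟨hPc, h⟩
    have hX : ∃ X, F.IsConj (P ⊓ T) X ∧ ¬ centralizerIn T X ≤ X := by
      by_contra hcon
      apply hnTC
      refine ⟨inf_le_right, fun X hX => ?_⟩
      by_contra h
      exact hcon ⟨X, hX, h⟩
    obtain ⟨X, hFX, hXc⟩ := hX
    obtain ⟨φ, hφ, x, hxT, hxnorm, hxnot, hxcomm⟩ := st.exists_conj_elt hPc hFX hXc
    have hφF : φ ∈ F.Hom P := st.F0_le_F P hφ
    have hQS : φ.range ≤ S := range_le F hφF
    haveI : Finite ↥φ.range := finite_of_le hQS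
    have hxS : x ∈ S := hTS hxT
    refine ⟨φ.range, ⟨φ, hφ, rfl⟩, ?_⟩
    have hC : centralizerIn S φ.range ≤ φ.range := hPc.2 _ ⟨φ, hφF, rfl⟩
    have hαS : conjAut φ.range ⟨x, hxnorm⟩ ∈ autInducedBy S φ.range :=
      (mem_autInducedBy_iff S _ _).mpr ⟨x, hxS, fun y => rfl⟩
    have hαF0 : conjAut φ.range ⟨x, hxnorm⟩ ∈ st.F0.autGroup φ.range :=
      autInducedBy_le_autGroup st.F0 hQS hαS
    have hαcore : conjAut φ.range ⟨x, hxnorm⟩ ∈
        (pCore p ↥(st.F0.autGroup φ.range)).map (st.F0.autGroup φ.range).subtype := by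
      apply Cfsg.Agent.Lib.Helper2.StabChain.mem_pCore_map (st.F0.autGroup φ.range)
        (T.subgroupOf φ.range) ?_ ((isPGroup_of_le hS hQS).to_subgroup _) hαF0 ?_ ?_
      · intro β hβ y hy
        rw [Subgroup.mem_subgroupOf] at hy ⊢
        exact sc_map st.hT (hom_of_mem_autGroup F hQS (autGroup_mono' st.F0_le_F _ hβ)) y hy
      · intro y hy
        rw [Subgroup.mem_subgroupOf] at hy
        apply Subtype.ext
        exact hxcomm _ y.2 hy
      · intro y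
        rw [Subgroup.mem_subgroupOf]
        show x * (y : Ω) * x⁻¹ * (y : Ω)⁻¹ ∈ T
        have h1 := sc_conj st.hT (hQS y.2) (T.inv_mem hxT)
        have e : x * (y : Ω) * x⁻¹ * (y : Ω)⁻¹ = x * ((y : Ω) * x⁻¹ * (y : Ω)⁻¹) := by group
        rw [e]
        exact T.mul_mem hxT h1
    intro hle
    exact not_mem_inn_of_not_mem hC hxS hxnot hQS (fun y => rfl) (hle ⟨hαS, hαcore⟩)

end Cfsg.Agent.Lib.Helper3.NK
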