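import Mathlib
import Cfsg.Agent.Lib.Helper3.NK7

set_option autoImplicit false
set_option maxHeartbeats 1000000
set_option linter.style.haveILetI false
set_option linter.unusedSectionVars false
set_option linter.unusedVariables false

/-! Properties of `F₀`: normality, automorphisms of `S`, index, containment of `E`. -/

namespace Cfsg.Agent.Lib.Helper3.NK

open Cfsg Cfsg.FusionSystem Cfsg.Agent.Lib.Helper9 Cfsg.Agent.Lib.Helper2.StrongInv
  Cfsg.Agent.Lib.Helper2.PrimeIdx Cfsg.Agent.Lib.Helper2.KNorm Cfsg.Agent.Lib.Helper2.PPrime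
  Cfsg.Agent.Lib.Helper2.NotRad

variable {Ω : Type*} [Group Ω] {S T : Subgroup Ω}
variable {p : ℕ} {F : FusionSystem S} {E : FusionSystem T} {K : Subgroup (MulAut T)}

theorem Setup.mem_EK_of_good (st : Setup p F E K) {P : Subgroup Ω} (hPT : P ≤ T) {φ : P →* Ω}
    (hg : st.Good φ) : φ ∈ st.EK.Hom P := by
  obtain ⟨χ', hχ', hχ'e⟩ := transport_hom st.EK (inf_eq_left.mpr hPT : P ⊓ T = P) hg
  have h1 : χ' = φ := by
    ext y
    exact hχ'e y ⟨y.2, hPT y.2⟩ y.2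
  rw [← h1]
  exact hχ'

theorem Setup.good_of_mem_EK (st : Setup p F E K) {P : Subgroup Ω} {φ : P →* Ω}
    (h : φ ∈ st.EK.Hom P) : st.Good φ :=
  restrict_mem st.EK h inf_le_left

theorem stronglyClosed_top (F : FusionSystem S) : F.StronglyClosed S :=
  ⟨le_rfl, fun _ _ φ hφ x => hom_mem F hφ x⟩

/-- `F₀` is normal in `F` -/
theorem Setup.F0_normal [Finite S] [Fact p.Prime] (st : Setup p F E K) :
    st.F0.IsNormalIn F p := by
  have hInv := st.F0_inv
  refine ⟨⟨st.F0_saturated, st.hF, st.F0_le_F, stronglyClosed_top F, ?_, ?_⟩, ?_⟩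
  · intro P hPT φ hφ α hα
    have hiff : ∀ y : Ω, y ∈ (P.subgroupOf S).map (S.subtype.comp α.toMonoidHom) ↔
        ∃ (x : Ω) (hx : x ∈ P), ((α ⟨x, hPT hx⟩ : S) : Ω) = y := by
      intro y
      constructor
      · rintro ⟨x, hx, rfl⟩
        exact ⟨x.1, Subgroup.mem_subgroupOf.mp hx, rfl⟩
      · rintro ⟨x, hx, rfl⟩
        exact ⟨⟨x, hPT hx⟩, Subgroup.mem_subgroupOf.mpr hx, rfl⟩
    obtain ⟨χ, hχ, hχe⟩ := hInv P _ hPT φ hφ α hα hiff
    exact ⟨χ, hχ, fun x hφx hαx => hχe x hαx hφx⟩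
  · intro P _ φ hφ
    exact st.fr_F0 P φ hφ
  · intro α hα
    have hαF : α ∈ F.autGroup S := autGroup_mono' st.F0_le_F S hα
    have hDS : S ⊔ centralizerIn S S ≤ S := sup_le le_rfl inf_le_left
    haveI : Finite ↥(S ⊔ centralizerIn S S) := finite_of_le hDS
    have hψ : (S.subtype.comp α.toMonoidHom).comp (Subgroup.inclusion hDS) ∈
        F.Hom (S ⊔ centralizerIn S S) := restrict_mem F (hom_of_mem_autGroup F le_rfl hαF) hDS
    have hr : ((S.subtype.comp α.toMonoidHom).comp (Subgroup.inclusion hDS)).range =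
        S ⊔ centralizerIn S S := by
      apply Subgroup.eq_of_le_of_card_ge
      · rintro _ ⟨x, rfl⟩
        exact le_sup_left (a := S) (α _).2
      · exact (Nat.card_congr (MonoidHom.ofInjective (F.injective_of_mem hψ)).toEquiv).le
    obtain ⟨β, hβ, hβe⟩ := exists_aut_of_hom F hψ hr
    refine ⟨β, hβ, ?_, ?_⟩
    · intro x
      rw [hβe]
      rfl
    · intro c hc
      rw [hβe]
      show (c : Ω)⁻¹ * ((α ⟨c, hDS c.2⟩ : S) : Ω) ∈ S ⊓ Subgroup.centralizer (S : Set Ω)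
      have hcS : (c : Ω) ∈ S := hc.1
      have hcC : (c : Ω) ∈ Subgroup.centralizer (S : Set Ω) := hc.2
      refine ⟨S.mul_mem (S.inv_mem hcS) (α _).2, ?_⟩
      have hαc : ((α ⟨c, hDS c.2⟩ : S) : Ω) ∈ Subgroup.centralizer (S : Set Ω) := by
        rw [Subgroup.mem_centralizer_iff]
        intro s hs
        have h1 : (⟨s, hs⟩ : S) = α (α⁻¹ ⟨s, hs⟩) := (MulAut.apply_inv_self _ α _).symm
        have h2 : (α⁻¹ ⟨s, hs⟩ : S) * ⟨c, hDS c.2⟩ = ⟨c, hDS c.2⟩ * α⁻¹ ⟨s, hs⟩ := by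
          apply Subtype.ext
          exact (Subgroup.mem_centralizer_iff.mp hcC) _ (α⁻¹ ⟨s, hs⟩).2
        have h3 := congrArg (fun z : S => ((α z : S) : Ω)) h2
        simp only [map_mul, MulAut.apply_inv_self, Subgroup.coe_mul] at h3
        exact h3
      exact (Subgroup.centralizer (S : Set Ω)).mul_mem
        ((Subgroup.centralizer (S : Set Ω)).inv_mem hcC) hαc

/-- the automorphisms of `S` in `F₀` -/
theorem Setup.mem_autGroup_F0_iff [Finite S] [Fact p.Prime] (st : Setup p F E K)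
    (α : MulAut S) : α ∈ st.F0.autGroup S ↔ α ∈ F.autGroup S ∧
      ∃ ν ∈ K, ∀ t : T, ((ν t : T) : Ω) = ((α ⟨t, st.hTS t.2⟩ : S) : Ω) := by
  constructor
  · intro hα
    have hαF : α ∈ F.autGroup S := autGroup_mono' st.F0_le_F S hα
    refine ⟨hαF, ?_⟩
    have h1 := hom_of_mem_autGroup st.F0 le_rfl hα
    have h2 : st.Good (S.subtype.comp α.toMonoidHom) := (st.F0_le_Gd S h1).2
    obtain ⟨ν, hν, hνe⟩ := st.exists_resT hαF
    refine ⟨ν, ?_, fun t => (hνe t).symm⟩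
    obtain ⟨χ', hχ', hχ'e⟩ := transport_hom st.EK (inf_eq_right.mpr st.hTS : S ⊓ T = T) h2
    apply st.mem_K_of_mem_EK
    have h3 : χ' = T.subtype.comp ν.toMonoidHom := by
      ext t
      rw [hχ'e t ⟨st.hTS t.2, t.2⟩ t.2]
      exact hνe t
    rw [← h3]
    exact hχ'
  · rintro ⟨hαF, ν, hν, hνe⟩
    rw [mem_autGroup_iff st.F0 le_rfl]
    apply st.mem_F0_of st.top_mem_HH
    refine ⟨hom_of_mem_autGroup F le_rfl hαF, ?_⟩
    have h1 : resT T (S.subtype.comp α.toMonoidHom) = resAut ν (inf_le_right : S ⊓ T ≤ T) := by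
      ext x
      rw [resAut_apply]
      exact (hνe ⟨x, x.2.2⟩).symm
    show resT T (S.subtype.comp α.toMonoidHom) ∈ st.EK.Hom (S ⊓ T)
    rw [h1]
    exact st.resAut_mem_EK hν inf_le_right

/-- `F₀` is a proper subsystem as soon as `K` is a proper subgroup of `Aut_F(T)` -/
theorem Setup.F0_ne [Finite S] [Fact p.Prime] (st : Setup p F E K) {α : MulAut T}
    (hα : α ∈ F.autGroup T) (hαK : α ∉ K) : ¬ ∀ P : Subgroup Ω, st.F0.Hom P = F.Hom P := by
  intro hall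
  obtain ⟨ν, hν, hνK, νh, hνh, hνe⟩ := st.exists_lift_not_mem_K hα hαK
  have h1 : νh ∈ st.F0.autGroup S := by
    rw [mem_autGroup_iff st.F0 le_rfl, hall S]
    exact hom_of_mem_autGroup F le_rfl hνh
  obtain ⟨-, ν', hν', hν'e⟩ := (st.mem_autGroup_F0_iff νh).mp h1
  apply hνK
  have h2 : ν = ν' := by
    ext t
    rw [hν'e t, hνe t]
  rw [h2]
  exact hν'

/-- `F₀` has index prime to `p` in `F` -/
theorem Setup.F0_index [Finite S] [Fact p.Prime] (st : Setup p F E K) :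
    st.F0.HasPrimeToPIndexIn F p := by
  refine ⟨st.F0_le_F, fun P hPS => ?_⟩
  rw [map_closure_eq_oppM]
  apply oppM_le_iff.mpr
  intro γ hγA hγk
  obtain ⟨k, hk⟩ := hγk
  have hpow : γ ^ (p ^ k) = 1 := by rw [← hk]; exact pow_orderOf_eq_one γ
  rw [mem_autGroup_iff st.F0 hPS]
  apply pElt_gen st.hS st.hF (stronglyClosed_top F) st.F0
    (fun P _ φ hφ => st.fr_F0 P φ hφ) _ hPS hγA hpow
  intro α hα g hg X hXS ψ hψ
  have h1 : ψ = conjHom X ((α⁻¹ ⟨g, hg⟩ : S) : Ω) := by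
    ext x
    obtain ⟨hx, h, he⟩ := hψ x
    rw [he, conjHom_apply]
    have e1 : (⟨g * ((α ⟨x, hx⟩ : S) : Ω) * g⁻¹, h⟩ : S) =
        ⟨g, hg⟩ * α ⟨x, hx⟩ * (⟨g, hg⟩ : S)⁻¹ := Subtype.ext rfl
    rw [e1, map_mul, map_mul, map_inv, MulAut.inv_apply_self]
    rfl
  rw [h1]
  exact st.F0.conj_mem hXS (α⁻¹ ⟨g, hg⟩).2

end Cfsg.Agent.Lib.Helper3.NK
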