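import Mathlib
import Cfsg.Agent.Lib.Helper3.NK8

set_option autoImplicit false
set_option maxHeartbeats 1000000
set_option linter.style.haveILetI false
set_option linter.unusedSectionVars false
set_option linter.unusedVariables false

/-! `E` is contained in `F₀`; the main theorem. -/

namespace Cfsg.Agent.Lib.Helper3.NK

open Cfsg Cfsg.FusionSystem Cfsg.Agent.Lib.Helper9 Cfsg.Agent.Lib.Helper2.StrongInv
  Cfsg.Agent.Lib.Helper2.PrimeIdx Cfsg.Agent.Lib.Helper2.KNorm Cfsg.Agent.Lib.Helper2.PPrime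
  Cfsg.Agent.Lib.Helper2.NotRad

variable {Ω : Type*} [Group Ω] {S T : Subgroup Ω}
variable {p : ℕ} {F : FusionSystem S} {E : FusionSystem T} {K : Subgroup (MulAut T)}

theorem Setup.TC_of_centric (st : Setup p F E K) {P : Subgroup Ω} (h : E.IsCentric P) :
    TC F T P := by
  refine ⟨h.1, ?_⟩
  rintro X ⟨φ, hφ, hr⟩
  obtain ⟨α, hα, φ₀, hφ₀, he⟩ := st.hFr P h.1 φ hφ
  have hφ₀T : ∀ x, φ₀ x ∈ T := (E.le_of_mem hφ₀).2
  have hY : centralizerIn T φ₀.range ≤ φ₀.range := h.2 _ ⟨φ₀, hφ₀, rfl⟩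
  rintro c ⟨hcT, hcC⟩
  have hc' : ((α⁻¹ ⟨c, hcT⟩ : T) : Ω) ∈ centralizerIn T φ₀.range := by
    refine ⟨(α⁻¹ _).2, ?_⟩
    show _ ∈ Subgroup.centralizer ((φ₀.range : Subgroup Ω) : Set Ω)
    rw [Subgroup.mem_centralizer_iff]
    rintro _ ⟨x, rfl⟩
    have hX : φ x ∈ X := hr.le ⟨x, rfl⟩
    have h1 := (Subgroup.mem_centralizer_iff.mp hcC) _ hX
    rw [he x (hφ₀T x)] at h1
    have h2 : α ⟨φ₀ x, hφ₀T x⟩ * ⟨c, hcT⟩ = ⟨c, hcT⟩ * α ⟨φ₀ x, hφ₀T x⟩ := Subtype.ext h1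
    have h3 := congrArg (fun z : T => ((α⁻¹ z : T) : Ω)) h2
    simp only [map_mul, MulAut.inv_apply_self, Subgroup.coe_mul] at h3
    exact h3
  obtain ⟨x, hx⟩ := hY hc'
  rw [← hr]
  refine ⟨x, ?_⟩
  rw [he x (hφ₀T x)]
  have h4 : (⟨φ₀ x, hφ₀T x⟩ : T) = α⁻¹ ⟨c, hcT⟩ := Subtype.ext hx
  rw [h4, MulAut.apply_inv_self]

theorem Setup.exists_F0_conj_fullyNormalized [Finite S] [Fact p.Prime] (st : Setup p F E K)
    {P : Subgroup Ω} (hPS : P ≤ S) : ∃ ρ ∈ st.F0.Hom P, F.IsFullyNormalized ρ.range := by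
  obtain ⟨P₁, ⟨ρ₁, hρ₁, hρ₁r⟩, hP₁n⟩ := exists_isConj_fullyNormalized F hPS
  obtain ⟨α, hα, ρ, hρ, he⟩ := st.fr_F0 P ρ₁ hρ₁
  have hρS : ∀ x : P, ρ x ∈ S := hom_mem F (st.F0_le_F P hρ)
  have hQS : ρ.range ≤ S := range_le F (st.F0_le_F P hρ)
  have hImg : IsImg α ρ.range P₁ := by
    intro y
    constructor
    · intro hy
      obtain ⟨x, hx⟩ := hρ₁r.ge hy
      refine ⟨ρ x, ⟨x, rfl⟩, hρS x, ?_⟩
      rw [← hx]
      exact (he x (hρS x)).symm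
    · rintro ⟨z, ⟨x, rfl⟩, hzS, rfl⟩
      rw [← hρ₁r]
      exact ⟨x, he x hzS⟩
  exact ⟨ρ, hρ, fullyNormalized_of_isImg F hα hQS hImg hP₁n⟩

/-- `E`-automorphisms of relatively centric subgroups of `T` are maps of `F₀` -/
theorem Setup.aut_mem_F0 [Finite S] [Fact p.Prime] (st : Setup p F E K) {P : Subgroup Ω}
    (hTC : TC F T P) {γ : MulAut P} (hγ : γ ∈ E.autGroup P) :
    P.subtype.comp γ.toMonoidHom ∈ st.F0.Hom P := by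
  have hPT : P ≤ T := hTC.1
  have hPS : P ≤ S := hPT.trans st.hTS
  haveI : Finite P := finite_of_le hPS
  obtain ⟨ρ, hρF0, hP₁n⟩ := st.exists_F0_conj_fullyNormalized hPS
  have hρF : ρ ∈ F.Hom P := st.F0_le_F P hρF0
  have hρEK : ρ ∈ st.EK.Hom P := st.mem_EK_of_good hPT (st.F0_le_Gd P hρF0).2
  obtain ⟨P₁, hP₁⟩ : ∃ P₁, ρ.range = P₁ := ⟨_, rfl⟩
  rw [hP₁] at hP₁n
  have hP₁S : P₁ ≤ S := hP₁n.1
  haveI : Finite P₁ := finite_of_le hP₁S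
  have hP₁T : P₁ ≤ T := by
    rw [← hP₁]
    rintro _ ⟨x, rfl⟩
    exact sc_map st.hT hρF x (hPT x.2)
  have hρP₁ : ∀ x : P, ρ x ∈ P₁ := fun x => hP₁.le ⟨x, rfl⟩
  have hγE : P.subtype.comp γ.toMonoidHom ∈ E.Hom P := hom_of_mem_autGroup E hPT hγ
  have hγEK : P.subtype.comp γ.toMonoidHom ∈ st.EK.Hom P := st.E_le_EK P hγE
  -- the transported automorphism `χ₂` of `P₁`
  obtain ⟨θ, hθ, hθe, hθr, -⟩ := inv_hom st.EK hρEK hP₁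
  have hθP : ∀ y : P₁, θ y ∈ P := fun y => hθr.le ⟨y, rfl⟩
  obtain ⟨χ₁, hχ₁, hχ₁e⟩ := comp_hom st.EK hθ hγEK hθP
  have hχ₁P : ∀ y : P₁, χ₁ y ∈ P := fun y => by
    rw [hχ₁e]
    exact (γ _).2
  obtain ⟨χ₂, hχ₂EK, hχ₂e⟩ := comp_hom st.EK hχ₁ hρEK hχ₁P
  have hχ₂F : χ₂ ∈ F.Hom P₁ := st.EK_le_F P₁ hχ₂EK
  have hχ₂ρ : ∀ x : P, χ₂ ⟨ρ x, hρP₁ x⟩ = ρ (γ x) := by
    intro x
    rw [hχ₂e]
    congr 1
    apply Subtype.ext
    show χ₁ ⟨ρ x, hρP₁ x⟩ = ((γ x : P) : Ω)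
    rw [hχ₁e]
    show ((γ ⟨θ ⟨ρ x, hρP₁ x⟩, hθP _⟩ : P) : Ω) = ((γ x : P) : Ω)
    congr 2
    exact Subtype.ext (hθe x _)
  have hχ₂r : χ₂.range = P₁ := by
    apply Subgroup.eq_of_le_of_card_ge
    · rintro _ ⟨y, rfl⟩
      rw [hχ₂e]
      exact hρP₁ _
    · exact (Nat.card_congr (MonoidHom.ofInjective (F.injective_of_mem hχ₂F)).toEquiv).le
  -- extend to `P₁ C_S(P₁)`
  have hfc := fullyCentralized_of_fullyNormalized st.hS F st.hF hP₁n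
  have hrec := receptive_of_fullyCentralized st.hS F st.hF hfc
  obtain ⟨ψ, hψ, hψe⟩ := hrec.2 P₁ χ₂ hχ₂F hχ₂r
  have hDext : P₁ ⊔ centralizerIn S P₁ ≤ extender S P₁ χ₂ :=
    sup_le (le_extender hP₁S χ₂ (hom_mem F hχ₂F)) (centralizerIn_le_extender P₁ χ₂)
  have hψD : ψ.comp (Subgroup.inclusion hDext) ∈ F.Hom (P₁ ⊔ centralizerIn S P₁) :=
    restrict_mem F hψ hDext
  have hDS : P₁ ⊔ centralizerIn S P₁ ≤ S := sup_le hP₁S inf_le_left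
  have hTCP₁ : TC F T P₁ := hTC.of_isConj ⟨ρ, hρF, hP₁⟩ hP₁T
  have hP₁D : P₁ ≤ P₁ ⊔ centralizerIn S P₁ := le_sup_left
  have hDH : P₁ ⊔ centralizerIn S P₁ ∈ st.HH :=
    ⟨centric_sup_centralizer F hfc, hTCP₁.mono (le_inf hP₁D hP₁T) inf_le_right⟩
  have hTCP₁' : TC F T (P₁ ⊓ T) := by
    rw [inf_eq_left.mpr hP₁T]
    exact hTCP₁
  have hres : (ψ.comp (Subgroup.inclusion hDext)).comp (Subgroup.inclusion hP₁D) = χ₂ := by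
    ext x
    exact hψe x x.2 (hDext (hP₁D x.2))
  have hgood : st.Good (ψ.comp (Subgroup.inclusion hDext)) := by
    apply st.key hP₁D hTCP₁' hψD
    rw [hres]
    exact st.good_of_mem_EK hχ₂EK
  have hψF0 : ψ.comp (Subgroup.inclusion hDext) ∈ st.F0.Hom (P₁ ⊔ centralizerIn S P₁) :=
    st.mem_F0_of hDH ⟨hψD, hgood⟩
  have hχ₂F0 : χ₂ ∈ st.F0.Hom P₁ := by
    rw [← hres]
    exact restrict_mem st.F0 hψF0 hP₁D
  -- conjugate back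
  obtain ⟨θ', hθ', hθ'e, -, -⟩ := inv_hom st.F0 hρF0 hP₁
  obtain ⟨ξ₁, hξ₁, hξ₁e⟩ := comp_hom st.F0 hρF0 hχ₂F0 hρP₁
  have hξ₁P₁ : ∀ x : P, ξ₁ x ∈ P₁ := fun x => by
    rw [hξ₁e, hχ₂ρ]
    exact hρP₁ _
  obtain ⟨ξ₂, hξ₂, hξ₂e⟩ := comp_hom st.F0 hξ₁ hθ' hξ₁P₁
  have hfin : ξ₂ = P.subtype.comp γ.toMonoidHom := by
    ext x
    rw [hξ₂e]
    have e1 : (⟨ξ₁ x, hξ₁P₁ x⟩ : P₁) = ⟨ρ (γ x), hρP₁ _⟩ := by
      apply Subtype.ext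
      show ξ₁ x = ρ (γ x)
      rw [hξ₁e, hχ₂ρ]
    rw [e1, hθ'e]
    rfl
  rw [← hfin]
  exact hξ₂

/-- the part of `F₀` inside `T` -/
def Setup.F0T (st : Setup p F E K) : FusionSystem T where
  Hom P := {φ | φ ∈ st.F0.Hom P ∧ P ≤ T ∧ ∀ x : P, φ x ∈ T}
  le_of_mem h := ⟨h.2.1, h.2.2⟩
  injective_of_mem h := st.F0.injective_of_mem h.1
  conj_mem := by
    intro P g hP hg
    refine ⟨st.F0.conj_mem (hP.trans st.hTS) (st.hTS hg), hP, fun x => ?_⟩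
    rw [conjHom_apply]
    exact T.mul_mem (T.mul_mem hg (hP x.2)) (T.inv_mem hg)
  comp_mem := by
    rintro P Q φ ψ ⟨hφ, hP, hφT⟩ ⟨hψ, hQ, hψT⟩ hm
    exact ⟨st.F0.comp_mem hφ hψ hm, hP, fun x => hψT _⟩
  inv_mem := by
    rintro P φ ⟨hφ, hP, hφT⟩
    obtain ⟨ψ, hψ, hψe⟩ := st.F0.inv_mem hφ
    refine ⟨ψ, ⟨hψ, ?_, ?_⟩, hψe⟩
    · rintro _ ⟨x, rfl⟩
      exact hφT x
    · rintro ⟨_, x, rfl⟩
      rw [hψe]
      exact hP x.2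

/-- `E` is a subsystem of `F₀` -/
theorem Setup.E_le_F0 [Finite S] [Fact p.Prime] (st : Setup p F E K) :
    E.IsSubsystemOf st.F0 := by
  haveI : Finite T := finite_of_le st.hTS
  have hle : E ≤ st.F0T := by
    apply alperin p st.isPGroup_T E st.hEs
    intro P hP γ hγ
    have hPc : E.IsCentric P := by
      rcases hP with rfl | hP
      · exact centric_top E
      · exact hP.1
    have hPT : P ≤ T := hPc.1
    rw [mem_autGroup_iff st.F0T hPT]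
    exact ⟨st.aut_mem_F0 (st.TC_of_centric hPc) hγ, hPT, fun x => hPT (γ x).2⟩
  intro P φ hφ
  exact (hle P hφ).1

end Cfsg.Agent.Lib.Helper3.NK
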