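import Mathlib
import Cfsg.Agent.Lib.Helper9.NMBasic

/-! # S4146 farm, piece P0: the six basic lemmas are in `Cfsg.Agent.Lib.Helper9.NMBasic` (landed first);
this file only re-exports them by import and adds one auxiliary lemma. -/

set_option autoImplicit false
set_option linter.unusedVariables false
set_option linter.unusedSectionVars false
set_option linter.style.longLine false

namespace Cfsg.Agent.Lib.Helper3.NM

variable {G : Type*} [Group G]

theorem h3nm_cent_le_of_mem_zpowers {a b : G} (hb : b ∈ Subgroup.zpowers a) :
    Subgroup.centralizer ({a} : Set G) ≤ Subgroup.centralizer ({b} : Set G) := by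
  intro c hc
  rw [Subgroup.mem_centralizer_singleton_iff] at hc ⊢
  obtain ⟨k, rfl⟩ := Subgroup.mem_zpowers_iff.mp hb
  have : Commute c a := hc
  exact (this.zpow_right k).eq

end Cfsg.Agent.Lib.Helper3.NM
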