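import Mathlib
import Cfsg.Agent.Lib.Helper3.NMDefs
import Cfsg.Agent.Lib.Helper9.NMBasic
import Cfsg.Agent.Lib.Helper1.NMStraightStep
import Cfsg.Agent.Lib.Helper1.NMStraightBoth
import Cfsg.Agent.Lib.Helper4.NML
import Cfsg.Agent.Lib.Helper1.NMCaseB
import Cfsg.Agent.Lib.Helper9.NMCC
import Cfsg.Agent.Lib.Helper8.CSGAsym
import Cfsg.Agent.Lib.Helper1.PSGBasicA

/-! # S4146: assembly -/

set_option autoImplicit false
set_option maxHeartbeats 4000000
set_option linter.unusedVariables false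
set_option linter.unusedSectionVars false
set_option linter.style.longLine false
set_option linter.style.haveILetI false

/-! ## assembly -/

namespace Cfsg.Agent.Lib.Helper3.NM

open Cfsg.Agent.Lib.Helper8.CSG Cfsg.Agent.Lib.Helper1.PSG

variable {G : Type*} [Group G] [Finite G]

theorem commute_X1_X2 {n m : ℕ} (h : Hyp G n m) (hlt : n < m) (hc : CC G n m)
    (L : Subgroup G) [L.Normal] (hL : IsL L n) :
    ∀ x y : G, idx x = n → idx y = m → x * y = y * x := by
  intro x y hx hy
  by_contra hne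
  have key : y ∈ Subgroup.centralizer ({x} : Set G) := by
    apply mem_of_primary
    intro s d hs hd hdy
    by_contra hdC
    have hnc : x * d ≠ d * x := by
      intro heq
      apply hdC
      rw [Subgroup.mem_centralizer_singleton_iff]
      exact heq.symm
    have hdm : idx d ∣ m := hy ▸ idx_dvd_of_mem_zpowers hdy
    rcases idx_of_dvd_right h hdm with h1 | h1
    · have hz := h8_mem_center_of_idx_eq_one h1
      exact hnc ((Subgroup.mem_center_iff.mp hz x))
    · exact caseB_false h hlt hc L hL hs hd h1 hx hnc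
  rw [Subgroup.mem_centralizer_singleton_iff] at key
  exact hne key.symm

theorem cc_impossible {n m : ℕ} (h : Hyp G n m) (hlt : n < m) (hc : CC G n m) : False := by
  obtain ⟨L, hLn, hL⟩ := exists_L h hlt
  haveI := hLn
  exact cc_false h hlt hc L hL (commute_X1_X2 h hlt hc L hL)

theorem main_straight {n m : ℕ} (h : Hyp G n m) {p : ℕ} (hp : p.Prime) (hpn : p ∣ n) {x : G}
    (hx : PElt p x) (hxn : idx x = n) :
    Group.IsNilpotent G ∧ IsPrimePow n ∧ IsPrimePow m := by
  obtain ⟨q, b, y, hq, hmb, hy, hym⟩ := straight_step h hp hpn hx hxn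
  have hb0 : b ≠ 0 := by
    rintro rfl
    rw [pow_zero] at hmb
    exact absurd hmb (ne_of_gt h.hm)
  have hqm : q ∣ m := by rw [hmb]; exact dvd_pow_self q hb0
  obtain ⟨p', a, x', hp', hna, hx', hxn'⟩ := straight_step h.symm hq hqm hy hym
  have ha0 : a ≠ 0 := by
    rintro rfl
    rw [pow_zero] at hna
    exact absurd hna (ne_of_gt h.hn)
  refine ⟨nilpotent_of_straight_both h hp' hq hna hmb hx' hxn' hy hym, ?_, ?_⟩
  · exact ⟨p', a, hp'.prime, Nat.pos_of_ne_zero ha0, hna.symm⟩
  · exact ⟨q, b, hq.prime, Nat.pos_of_ne_zero hb0, hmb.symm⟩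

theorem main {n m : ℕ} (h : Hyp G n m) :
    Group.IsNilpotent G ∧ IsPrimePow n ∧ IsPrimePow m := by
  by_cases hS1 : ∃ (p : ℕ) (x : G), p.Prime ∧ p ∣ n ∧ PElt p x ∧ idx x = n
  · obtain ⟨p, x, hp, hpn, hx, hxn⟩ := hS1
    exact main_straight h hp hpn hx hxn
  by_cases hS2 : ∃ (p : ℕ) (x : G), p.Prime ∧ p ∣ m ∧ PElt p x ∧ idx x = m
  · obtain ⟨p, x, hp, hpn, hx, hxn⟩ := hS2
    obtain ⟨h1, h2, h3⟩ := main_straight h.symm hp hpn hx hxn
    exact ⟨h1, h3, h2⟩
  exfalso
  have hc : CC G n m := by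
    constructor
    · intro s x hs hx hxn hsn
      exact hS1 ⟨s, x, hs, hsn, hx, hxn⟩
    · intro s x hs hx hxn hsn
      exact hS2 ⟨s, x, hs, hsn, hx, hxn⟩
  have hne : n ≠ m := by
    intro heq
    have := h.cop
    rw [heq, Nat.coprime_self] at this
    exact absurd this (ne_of_gt h.hm)
  rcases lt_or_gt_of_ne hne with hlt | hlt
  · exact cc_impossible h hlt hc
  · exact cc_impossible h.symm hlt hc.symm

theorem hyp_of_range {n m : ℕ} (hn : 1 < n) (hm : 1 < m) (hcop : n.Coprime m)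
    (h : Set.range (fun x : G => (Subgroup.centralizer ({x} : Set G)).index) =
      ({1, n, m, n * m} : Set ℕ)) : Hyp G n m := by
  have hmem : ∀ k : ℕ, k ∈ ({1, n, m, n * m} : Set ℕ) → ∃ g : G, idx g = k := by
    intro k hk
    rw [← h] at hk
    exact hk
  refine ⟨hn, hm, hcop, ?_, hmem n (by simp), hmem m (by simp), hmem (n * m) (by simp)⟩
  intro g
  have : idx g ∈ ({1, n, m, n * m} : Set ℕ) := by
    rw [← h]
    exact ⟨g, rfl⟩
  simpa using this

end Cfsg.Agent.Lib.Helper3.NM
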