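import Mathlib

set_option autoImplicit false

namespace Cfsg.Agent.Lib.Helper3

/-- In a finite nilpotent group, `x ^ [N : K] ∈ K` for every subgroup `K`. -/
theorem pow_index_mem_of_isNilpotent_aux {N : Type*} [Group N] [Finite N] [Group.IsNilpotent N] :
    ∀ (n : ℕ) (K : Subgroup N), K.index = n → ∀ x : N, x ^ n ∈ K := by
  intro n
  induction n using Nat.strong_induction_on with
  | _ n ih =>
    intro K hK x
    by_cases hKtop : K = ⊤
    · rw [hKtop]; trivial
    · have hlt : K < Subgroup.normalizer (K : Set N) :=
        Group.normalizerCondition_of_isNilpotent K (lt_top_iff_ne_top.2 hKtop)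
      have hidx : K.relIndex (Subgroup.normalizer (K : Set N)) *
          (Subgroup.normalizer (K : Set N)).index = n := by
        rw [← hK]; exact Subgroup.relIndex_mul_index hlt.le
      have hrel : K.relIndex (Subgroup.normalizer (K : Set N)) ≠ 1 := by
        intro h1
        rw [Subgroup.relIndex_eq_one] at h1
        exact absurd h1 (not_le_of_gt hlt)
      have hn0 : n ≠ 0 := by rw [← hK]; exact Subgroup.index_ne_zero_of_finite
      have hrel0 : K.relIndex (Subgroup.normalizer (K : Set N)) ≠ 0 := by
        intro h0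
        rw [h0, zero_mul] at hidx
        exact hn0 hidx.symm
      have hL0 : (Subgroup.normalizer (K : Set N)).index ≠ 0 := Subgroup.index_ne_zero_of_finite
      have hLlt : (Subgroup.normalizer (K : Set N)).index < n := by
        rw [← hidx]
        have : 2 ≤ K.relIndex (Subgroup.normalizer (K : Set N)) := by omega
        nlinarith [Nat.pos_of_ne_zero hL0]
      have h1 : x ^ (Subgroup.normalizer (K : Set N)).index ∈ Subgroup.normalizer (K : Set N) :=
        ih _ hLlt _ rfl x
      haveI hKn : (K.subgroupOf (Subgroup.normalizer (K : Set N))).Normal :=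
        Subgroup.normal_in_normalizer
      have h2 : (⟨x ^ (Subgroup.normalizer (K : Set N)).index, h1⟩ :
          Subgroup.normalizer (K : Set N)) ^ (K.subgroupOf (Subgroup.normalizer (K : Set N))).index
            ∈ K.subgroupOf (Subgroup.normalizer (K : Set N)) := by
        rw [← QuotientGroup.eq_one_iff, QuotientGroup.mk_pow]
        exact pow_card_eq_one'
      rw [Subgroup.mem_subgroupOf] at h2
      rw [← hidx, mul_comm, pow_mul]
      exact h2

theorem pow_index_mem_of_isNilpotent {N : Type*} [Group N] [Finite N] [Group.IsNilpotent N]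
    (K : Subgroup N) (x : N) : x ^ K.index ∈ K :=
  pow_index_mem_of_isNilpotent_aux K.index K rfl x

/-- `[A : H ∩ A] = [HA : H]` for `A` normal, in a finite group. -/
theorem relIndex_eq_relIndex_sup_of_normal {G : Type*} [Group G] [Finite G]
    (H A : Subgroup G) [A.Normal] : H.relIndex A = H.relIndex (H ⊔ A) := by
  have e1 : Nat.card (H ⊓ A : Subgroup G) * H.relIndex A = Nat.card A := by
    rw [← Subgroup.inf_relIndex_right, ← Subgroup.relIndex_bot_left, ← Subgroup.relIndex_bot_left]
    exact Subgroup.relIndex_mul_relIndex _ _ _ bot_le inf_le_right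
  have e2 : Nat.card (H ⊓ A : Subgroup G) * A.relIndex H = Nat.card H := by
    rw [← Subgroup.inf_relIndex_left, ← Subgroup.relIndex_bot_left, ← Subgroup.relIndex_bot_left]
    exact Subgroup.relIndex_mul_relIndex _ _ _ bot_le inf_le_left
  have e3 : Nat.card A * A.relIndex H = Nat.card (H ⊔ A : Subgroup G) := by
    rw [← Subgroup.relIndex_sup_right H A, ← Subgroup.relIndex_bot_left, ← Subgroup.relIndex_bot_left]
    exact Subgroup.relIndex_mul_relIndex _ _ _ bot_le le_sup_right
  have e4 : Nat.card H * H.relIndex (H ⊔ A) = Nat.card (H ⊔ A : Subgroup G) := by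
    rw [← Subgroup.relIndex_bot_left, ← Subgroup.relIndex_bot_left]
    exact Subgroup.relIndex_mul_relIndex _ _ _ bot_le le_sup_left
  have hpos : 0 < Nat.card H := Nat.card_pos
  have : Nat.card H * H.relIndex A = Nat.card H * H.relIndex (H ⊔ A) := by
    rw [e4, ← e3, ← e1, ← e2]; ring
  exact Nat.eq_of_mul_eq_mul_left hpos this

/-- For `A` normal in a finite group, `[A : H ∩ A]` divides `[G : H]`. -/
theorem relIndex_dvd_index_of_normal_right {G : Type*} [Group G] [Finite G]
    (H A : Subgroup G) [A.Normal] : H.relIndex A ∣ H.index := by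
  rw [relIndex_eq_relIndex_sup_of_normal]
  exact Subgroup.relIndex_dvd_index_of_le le_sup_left

/-- If `x` lies in a normal nilpotent subgroup `A` of the finite group `G`, then
`x ^ [G : H] ∈ H` for every subgroup `H`. -/
theorem pow_index_mem_of_mem_normal_nilpotent {G : Type*} [Group G] [Finite G]
    (A : Subgroup G) [A.Normal] (hA : Group.IsNilpotent A) (H : Subgroup G) (x : G) (hx : x ∈ A) :
    x ^ H.index ∈ H := by
  have h1 := pow_index_mem_of_isNilpotent (H.subgroupOf A) ⟨x, hx⟩
  rw [Subgroup.mem_subgroupOf] at h1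
  have h2 : x ^ H.relIndex A ∈ H := by
    have : (((⟨x, hx⟩ : A) ^ (H.subgroupOf A).index : A) : G) = x ^ H.relIndex A := by
      rw [Subgroup.coe_pow]; rfl
    rw [← this]; exact h1
  obtain ⟨k, hk⟩ := relIndex_dvd_index_of_normal_right H A
  rw [hk, pow_mul]
  exact H.pow_mem h2 k

end Cfsg.Agent.Lib.Helper3
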