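import Mathlib
import Cfsg.Agent.Lib.Helper8.O459Defs
import Cfsg.Agent.Lib.Helper8.SN17N4a

set_option autoImplicit false
set_option maxHeartbeats 4000000
set_option maxRecDepth 100000
set_option linter.unusedVariables false
set_option linter.unusedSectionVars false
set_option linter.style.longLine false
set_option linter.style.haveILetI false

namespace Cfsg.Agent.Lib.Helper3.O459

open Cfsg.Agent.Lib.Helper8.O459

/-- an `r`-element lies in a normal Sylow `r`-subgroup. -/
theorem mem_of_normal_sylow {K : Type*} [Group K] [Finite K] (r : ℕ) [Fact r.Prime] (S : Sylow r K)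
    (hS : (S : Subgroup K).Normal) (c : K) (k : ℕ) (hc : c ^ (r ^ k) = 1) :
    c ∈ (S : Subgroup K) := by
  have hz : IsPGroup r (Subgroup.zpowers c) := by
    rintro ⟨g, hg⟩
    refine ⟨k, ?_⟩
    obtain ⟨m, rfl⟩ := Subgroup.mem_zpowers_iff.1 hg
    apply Subtype.ext
    show (c ^ m) ^ (r ^ k) = 1
    rw [← zpow_natCast, ← zpow_mul, mul_comm, zpow_mul, zpow_natCast, hc, one_zpow]
  obtain ⟨Q, hQ⟩ := hz.exists_le_sylow
  haveI := Sylow.unique_of_normal S hS
  have : Q = S := Subsingleton.elim _ _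
  rw [← this]
  exact hQ (Subgroup.mem_zpowers c)

/-- a Sylow subgroup which together with a central subgroup accounts for the whole order is normal. -/
theorem sylow_normal_of_central {K : Type*} [Group K] [Finite K] (r : ℕ) [Fact r.Prime]
    (S : Sylow r K) (Z : Subgroup K) (hZ : Z ≤ Subgroup.center K)
    (h : Nat.card K ∣ Nat.card Z * Nat.card (S : Subgroup K))
    (hcop : (Nat.card Z).Coprime (Nat.card (S : Subgroup K))) : (S : Subgroup K).Normal := by
  rw [← Subgroup.normalizer_eq_top_iff]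
  have h1 : Nat.card Z ∣ Nat.card (Subgroup.normalizer ((S : Subgroup K) : Set K)) :=
    Subgroup.card_dvd_of_le (hZ.trans (Subgroup.center_le_normalizer _))
  have h2 : Nat.card (S : Subgroup K) ∣ Nat.card (Subgroup.normalizer ((S : Subgroup K) : Set K)) :=
    Subgroup.card_dvd_of_le Subgroup.le_normalizer
  have h3 : Nat.card K ∣ Nat.card (Subgroup.normalizer ((S : Subgroup K) : Set K)) :=
    h.trans (hcop.mul_dvd_of_dvd_of_dvd h1 h2)
  apply Subgroup.eq_top_of_le_card
  exact Nat.le_of_dvd Nat.card_pos h3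

section
variable {G : Type*} [Group G] [Finite G]

theorem card_P (hcard : Nat.card G = 459648) (P : Sylow 19 G) :
    Nat.card (P : Subgroup G) = 19 := by
  haveI : Fact (Nat.Prime 19) := ⟨by norm_num⟩
  have := Cfsg.Agent.Lib.Helper8.SN17.card_sylow_of_card 19 1 24192 (by rw [hcard]; norm_num) (by norm_num) P
  simpa using this

theorem comm_of_card_prime {K : Type*} [Group K] (H : Subgroup K) (p : ℕ) [Fact p.Prime]
    (hH : Nat.card H = p) : ∀ a ∈ H, ∀ b ∈ H, a * b = b * a := by
  haveI : IsCyclic ↥H := isCyclic_of_prime_card (p := p) hH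
  intro a ha b hb
  have := (IsCyclic.commGroup (α := ↥H)).mul_comm ⟨a, ha⟩ ⟨b, hb⟩
  exact congrArg Subtype.val this

theorem P_le_CP (hcard : Nat.card G = 459648) (P : Sylow 19 G) : (P : Subgroup G) ≤ CP P := by
  haveI : Fact (Nat.Prime 19) := ⟨by norm_num⟩
  intro a ha
  rw [Subgroup.mem_centralizer_iff]
  intro b hb
  exact comm_of_card_prime (P : Subgroup G) 19 (card_P hcard P) b hb a ha

theorem conj_mem_CP (P : Sylow 19 G) {n c : G} (hn : n ∈ NP P) (hc : c ∈ CP P) :
    n * c * n⁻¹ ∈ CP P := by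
  rw [Subgroup.mem_centralizer_iff] at hc ⊢
  intro p hp
  have hp' : n⁻¹ * p * n ∈ (P : Subgroup G) := (Subgroup.mem_normalizer_iff''.1 hn p).1 hp
  have := hc _ hp'
  calc p * (n * c * n⁻¹) = n * ((n⁻¹ * p * n) * c) * n⁻¹ := by group
    _ = n * (c * (n⁻¹ * p * n)) * n⁻¹ := by rw [this]
    _ = n * c * n⁻¹ * p := by group

/-- a normal Sylow subgroup of `C(P)` is normalized by `N(P)`. -/
theorem normalizer_le_of_normal_sylow (P : Sylow 19 G) (r : ℕ) [Fact r.Prime]
    (S : Sylow r ↥(CP P)) (hS : (S : Subgroup ↥(CP P)).Normal) :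
    NP P ≤ Subgroup.normalizer
      ((((S : Subgroup ↥(CP P)).map (CP P).subtype : Subgroup G)) : Set G) := by
  obtain ⟨k, hk⟩ := IsPGroup.iff_card.1 S.isPGroup'
  have key : ∀ n ∈ NP P, ∀ x ∈ (S : Subgroup ↥(CP P)).map (CP P).subtype,
      n * x * n⁻¹ ∈ (S : Subgroup ↥(CP P)).map (CP P).subtype := by
    intro n hn x hx
    obtain ⟨s, hs, rfl⟩ := Subgroup.mem_map.1 hx
    have hc : n * (s : G) * n⁻¹ ∈ CP P := conj_mem_CP P hn s.2
    refine Subgroup.mem_map.2 ⟨⟨_, hc⟩, ?_, rfl⟩
    apply mem_of_normal_sylow r S hS _ k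
    apply Subtype.ext
    show (n * (s : G) * n⁻¹) ^ (r ^ k) = 1
    have hs1 : (s : G) ^ (r ^ k) = 1 := by
      have h1 := pow_card_eq_one' (G := ↥(S : Subgroup ↥(CP P))) (x := ⟨s, hs⟩)
      rw [hk] at h1
      have h2 := congrArg (fun z : ↥(S : Subgroup ↥(CP P)) => ((z : ↥(CP P)) : G)) h1
      simpa using h2
    rw [conj_pow, hs1]
    group
  intro n hn
  rw [Subgroup.mem_normalizer_iff]
  intro h
  constructor
  · exact key n hn h
  · intro hh
    have := key n⁻¹ (inv_mem hn) _ hh
    have e : n⁻¹ * (n * h * n⁻¹) * n⁻¹⁻¹ = h := by group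
    rwa [e] at this

end

/-- a group of order `228` with a central subgroup of order `19` has a normal Sylow `3`- or
a normal Sylow `2`-subgroup. -/
theorem normal_sylow_228 {K : Type*} [Group K] [Finite K] (hK : Nat.card K = 228)
    (Z : Subgroup K) (hZ : Z ≤ Subgroup.center K) (hZc : Nat.card Z = 19) :
    (∃ S : Sylow 3 K, (S : Subgroup K).Normal) ∨ (∃ S : Sylow 2 K, (S : Subgroup K).Normal) := by
  haveI : Fact (Nat.Prime 3) := ⟨by norm_num⟩
  haveI : Fact (Nat.Prime 2) := ⟨by norm_num⟩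
  obtain ⟨Y⟩ : Nonempty (Sylow 3 K) := inferInstance
  have hYc : Nat.card (Y : Subgroup K) = 3 := by
    simpa using Cfsg.Agent.Lib.Helper8.SN17.card_sylow_of_card 3 1 76 (by rw [hK]; norm_num) (by norm_num) Y
  set NY := Subgroup.normalizer ((Y : Subgroup K) : Set K) with hNY
  have hZN : Z ≤ NY := hZ.trans (Subgroup.center_le_normalizer _)
  have hYN : (Y : Subgroup K) ≤ NY := Subgroup.le_normalizer
  have h57 : 57 ∣ Nat.card NY := by
    have h1 : 19 ∣ Nat.card NY := hZc ▸ Subgroup.card_dvd_of_le hZN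
    have h2 : 3 ∣ Nat.card NY := hYc ▸ Subgroup.card_dvd_of_le hYN
    exact (by norm_num : Nat.Coprime 19 3).mul_dvd_of_dvd_of_dvd h1 h2
  have hidx : NY.index * Nat.card NY = 228 := by rw [← hK]; exact Subgroup.index_mul_card NY
  have hmod : NY.index % 3 = 1 := by
    have := card_sylow_modEq_one 3 K
    rw [Sylow.card_eq_index_normalizer Y] at this
    exact this
  obtain ⟨m, hm⟩ := h57
  have him : NY.index * m = 4 := by
    have : 57 * (NY.index * m) = 57 * 4 := by
      have h0 := hidx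
      rw [hm] at h0
      calc 57 * (NY.index * m) = NY.index * (57 * m) := by ring
        _ = 228 := h0
        _ = 57 * 4 := by norm_num
    exact Nat.eq_of_mul_eq_mul_left (by norm_num) this
  obtain ⟨i, hi⟩ : ∃ i, NY.index = i := ⟨_, rfl⟩
  rw [hi] at him hmod
  have hile : i ≤ 4 := Nat.le_of_dvd (by norm_num) ⟨m, him.symm⟩
  interval_cases i
  · omega
  · -- index 1
    left
    refine ⟨Y, ?_⟩
    rw [← Subgroup.normalizer_eq_top_iff]
    exact Subgroup.index_eq_one.1 hi
  · omega
  · omega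
  · -- index 4
    right
    have hm1 : m = 1 := by omega
    have hNYc : Nat.card NY = 57 := by rw [hm, hm1]
    have hYcomm := comm_of_card_prime (Y : Subgroup K) 3 hYc
    have hsup : Z ⊔ (Y : Subgroup K) = NY := by
      apply Subgroup.eq_of_le_of_card_ge (sup_le hZN hYN)
      rw [hNYc]
      have h1 : 19 ∣ Nat.card ↥(Z ⊔ (Y : Subgroup K)) := by
        rw [← hZc]; exact Subgroup.card_dvd_of_le le_sup_left
      have h2 : 3 ∣ Nat.card ↥(Z ⊔ (Y : Subgroup K)) := by
        have := Subgroup.card_dvd_of_le (le_sup_right : (Y : Subgroup K) ≤ Z ⊔ (Y : Subgroup K))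
        rwa [hYc] at this
      exact Nat.le_of_dvd Nat.card_pos ((by norm_num : Nat.Coprime 19 3).mul_dvd_of_dvd_of_dvd h1 h2)
    have hP : Subgroup.normalizer (Y : Set K) ≤ Subgroup.centralizer (Y : Set K) := by
      show NY ≤ _
      rw [← hsup]
      apply sup_le
      · exact hZ.trans (Subgroup.center_le_centralizer _)
      · intro a ha
        rw [Subgroup.mem_centralizer_iff]
        intro b hb
        exact hYcomm b hb a ha
    set K0 := (MonoidHom.transferSylow Y hP).ker with hK0def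
    have hcomp : Subgroup.IsComplement' K0 (Y : Subgroup K) :=
      MonoidHom.ker_transferSylow_isComplement' Y hP
    have hK0c : Nat.card K0 = 76 := by
      have := hcomp.card_mul_card
      rw [hYc, hK] at this
      omega
    have hK0i : K0.index = 3 := by
      have := Subgroup.card_mul_index K0
      rw [hK0c, hK] at this
      omega
    have hZK0 : Z ≤ K0 := by
      intro z hz
      have h19 : z ^ 19 = 1 := by
        have h1 := pow_card_eq_one' (G := ↥Z) (x := ⟨z, hz⟩)
        rw [hZc] at h1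
        exact congrArg Subtype.val h1
      have h3 : z ^ 3 ∈ K0 := hK0i ▸ Subgroup.pow_index_mem K0 z
      have : z = (z ^ 3) ^ 13 := by
        rw [← pow_mul]
        calc z = (z ^ 19) ^ 2 * z := by rw [h19]; simp
          _ = z ^ (3 * 13) := by rw [← pow_mul, ← pow_succ]
      rw [this]
      exact K0.pow_mem h3 13
    set Z0 : Subgroup ↥K0 := Z.subgroupOf K0 with hZ0
    have hZ0c : Nat.card Z0 = 19 := by
      rw [← hZc]
      exact Nat.card_congr (Subgroup.subgroupOfEquivOfLe hZK0).toEquiv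
    have hZ0cen : Z0 ≤ Subgroup.center ↥K0 := by
      intro z hz
      rw [Subgroup.mem_center_iff]
      intro g
      apply Subtype.ext
      show (g : K) * z = z * g
      exact (Subgroup.mem_center_iff.1 (hZ (Subgroup.mem_subgroupOf.1 hz))) g
    obtain ⟨V0⟩ : Nonempty (Sylow 2 ↥K0) := inferInstance
    have hV0c : Nat.card (V0 : Subgroup ↥K0) = 4 := by
      simpa using Cfsg.Agent.Lib.Helper8.SN17.card_sylow_of_card 2 2 19 (by rw [hK0c]; norm_num) (by norm_num) V0
    have hV0n : (V0 : Subgroup ↥K0).Normal := by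
      apply sylow_normal_of_central 2 V0 Z0 hZ0cen
      · rw [hK0c, hZ0c, hV0c]
      · rw [hZ0c, hV0c]; norm_num
    set V : Subgroup K := (V0 : Subgroup ↥K0).map K0.subtype with hVdef
    have hVc : Nat.card V = 4 := by
      rw [hVdef, Subgroup.card_map_of_injective K0.subtype_injective, hV0c]
    have hVn : V.Normal := by
      constructor
      intro v hv c
      obtain ⟨w, hw, rfl⟩ := Subgroup.mem_map.1 hv
      have hmem : c * (w : K) * c⁻¹ ∈ K0 := (inferInstance : K0.Normal).conj_mem _ w.2 c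
      refine Subgroup.mem_map.2 ⟨⟨_, hmem⟩, ?_, rfl⟩
      apply mem_of_normal_sylow 2 V0 hV0n _ 2
      apply Subtype.ext
      show (c * (w : K) * c⁻¹) ^ (2 ^ 2) = 1
      have hw1 : (w : K) ^ (2 ^ 2) = 1 := by
        have h1 := pow_card_eq_one' (G := ↥(V0 : Subgroup ↥K0)) (x := ⟨w, hw⟩)
        rw [hV0c] at h1
        have h2 := congrArg (fun z : ↥(V0 : Subgroup ↥K0) => ((z : ↥K0) : K)) h1
        simpa using h2
      rw [conj_pow, hw1]
      group
    obtain ⟨Q, hVQ⟩ := (IsPGroup.of_card (p := 2) (n := 2) (by rw [hVc]; norm_num)).exists_le_sylow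
    have hQc : Nat.card (Q : Subgroup K) = 4 := by
      simpa using Cfsg.Agent.Lib.Helper8.SN17.card_sylow_of_card 2 2 57 (by rw [hK]; norm_num) (by norm_num) Q
    have hQV : (Q : Subgroup K) = V :=
      (Subgroup.eq_of_le_of_card_ge hVQ (by rw [hQc, hVc])).symm
    exact ⟨Q, hQV ▸ hVn⟩

end Cfsg.Agent.Lib.Helper3.O459
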