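import Mathlib
import Cfsg.Agent.Lib.Helper3.O459P7

set_option autoImplicit false
set_option maxHeartbeats 4000000
set_option maxRecDepth 100000
set_option linter.unusedVariables false
set_option linter.unusedSectionVars false
set_option linter.style.longLine false
set_option linter.style.haveILetI false

namespace Cfsg.Agent.Lib.Helper3.O459

open Cfsg.Agent.Lib.Helper8.O459

variable {G : Type*} [Group G] [Finite G]

/-- the central copy of `P` inside `C(P)`. -/
theorem central_copy (hcard : Nat.card G = 459648) (P : Sylow 19 G) :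
    ∃ Z : Subgroup ↥(CP P), Z ≤ Subgroup.center ↥(CP P) ∧ Nat.card Z = 19 := by
  refine ⟨(P : Subgroup G).subgroupOf (CP P), ?_, ?_⟩
  · intro z hz
    rw [Subgroup.mem_center_iff]
    intro g
    apply Subtype.ext
    show (g : G) * z = z * g
    have hg := g.2
    rw [Subgroup.mem_centralizer_iff] at hg
    exact (hg _ (Subgroup.mem_subgroupOf.1 hz)).symm
  · exact (Nat.card_congr (Subgroup.subgroupOfEquivOfLe (P_le_CP hcard P)).toEquiv).trans
      (card_P hcard P)

/-- (P7a) -/
theorem exists_normal_of_central [IsSimpleGroup G] (hcard : Nat.card G = 459648) (P : Sylow 19 G)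
    (hC : Nat.card (CP P) = 152 ∨ Nat.card (CP P) = 76) :
    ∃ X : Subgroup G, X ≤ CP P ∧ NP P ≤ Subgroup.normalizer (X : Set G) ∧
      ((Nat.card (CP P) = 152 ∧ Nat.card X = 8) ∨ (Nat.card (CP P) = 76 ∧ Nat.card X = 4)) := by
  haveI : Fact (Nat.Prime 2) := ⟨by norm_num⟩
  obtain ⟨Z, hZcen, hZc⟩ := central_copy hcard P
  obtain ⟨S⟩ : Nonempty (Sylow 2 ↥(CP P)) := inferInstance
  rcases hC with hC | hC
  · have hSc : Nat.card (S : Subgroup ↥(CP P)) = 8 := by
      simpa using Cfsg.Agent.Lib.Helper8.SN17.card_sylow_of_card 2 3 19 (by rw [hC]; norm_num) (by norm_num) S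
    have hSn : (S : Subgroup ↥(CP P)).Normal := by
      apply sylow_normal_of_central 2 S Z hZcen
      · rw [hC, hZc, hSc]
      · rw [hZc, hSc]; norm_num
    refine ⟨(S : Subgroup ↥(CP P)).map (CP P).subtype, Subgroup.map_subtype_le _,
      normalizer_le_of_normal_sylow P 2 S hSn, Or.inl ⟨hC, ?_⟩⟩
    rw [Subgroup.card_map_of_injective (CP P).subtype_injective, hSc]
  · have hSc : Nat.card (S : Subgroup ↥(CP P)) = 4 := by
      simpa using Cfsg.Agent.Lib.Helper8.SN17.card_sylow_of_card 2 2 19 (by rw [hC]; norm_num) (by norm_num) S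
    have hSn : (S : Subgroup ↥(CP P)).Normal := by
      apply sylow_normal_of_central 2 S Z hZcen
      · rw [hC, hZc, hSc]
      · rw [hZc, hSc]; norm_num
    refine ⟨(S : Subgroup ↥(CP P)).map (CP P).subtype, Subgroup.map_subtype_le _,
      normalizer_le_of_normal_sylow P 2 S hSn, Or.inr ⟨hC, ?_⟩⟩
    rw [Subgroup.card_map_of_injective (CP P).subtype_injective, hSc]

end Cfsg.Agent.Lib.Helper3.O459
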