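import Mathlib
import Cfsg.Agent.Lib.Helper3.O459P7a

set_option autoImplicit false
set_option maxHeartbeats 4000000
set_option maxRecDepth 100000
set_option linter.unusedVariables false
set_option linter.unusedSectionVars false
set_option linter.style.longLine false
set_option linter.style.haveILetI false

namespace Cfsg.Agent.Lib.Helper3.O459

open Cfsg.Agent.Lib.Helper8.O459

variable {G : Type*} [Group G] [Finite G]

/-- (P7b) order-12 dichotomy -/
theorem exists_normal_228 [IsSimpleGroup G] (hcard : Nat.card G = 459648) (P : Sylow 19 G)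
    (hC : Nat.card (CP P) = 228) :
    ∃ X : Subgroup G, X ≤ CP P ∧ NP P ≤ Subgroup.normalizer (X : Set G) ∧
      (Nat.card X = 3 ∨ Nat.card X = 4) := by
  haveI : Fact (Nat.Prime 2) := ⟨by norm_num⟩
  haveI : Fact (Nat.Prime 3) := ⟨by norm_num⟩
  obtain ⟨Z, hZcen, hZc⟩ := central_copy hcard P
  rcases normal_sylow_228 hC Z hZcen hZc with ⟨S, hSn⟩ | ⟨S, hSn⟩
  · have hSc : Nat.card (S : Subgroup ↥(CP P)) = 3 := by
      simpa using Cfsg.Agent.Lib.Helper8.SN17.card_sylow_of_card 3 1 76 (by rw [hC]; norm_num) (by norm_num) S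
    refine ⟨(S : Subgroup ↥(CP P)).map (CP P).subtype, Subgroup.map_subtype_le _,
      normalizer_le_of_normal_sylow P 3 S hSn, Or.inl ?_⟩
    rw [Subgroup.card_map_of_injective (CP P).subtype_injective, hSc]
  · have hSc : Nat.card (S : Subgroup ↥(CP P)) = 4 := by
      simpa using Cfsg.Agent.Lib.Helper8.SN17.card_sylow_of_card 2 2 57 (by rw [hC]; norm_num) (by norm_num) S
    refine ⟨(S : Subgroup ↥(CP P)).map (CP P).subtype, Subgroup.map_subtype_le _,
      normalizer_le_of_normal_sylow P 2 S hSn, Or.inr ?_⟩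
    rw [Subgroup.card_map_of_injective (CP P).subtype_injective, hSc]

end Cfsg.Agent.Lib.Helper3.O459
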