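import Mathlib
import Cfsg.Agent.Lib.Helper4.LaneMat

/-!
# Unit LANEINJ of the farm O73C3 (S5514, owner helper4)

Bounded valid packed matrices are determined by their matrices.
-/

set_option autoImplicit false

namespace Cfsg.Agent.Lib.Helper3.O73C3LANEINJ

open Cfsg.Agent.Lib.Helper4.LaneMat

/-- unit LANEINJ, verbatim as in `Lib/Helper4/O73C3Stubs.lean` -/
theorem toMat_inj (C : Cfg) {ι : Type*} [Fintype ι] [DecidableEq ι] (e : ι ≃ Fin C.n) {X Y : ℕ}
    (hX : C.Valid X) (hY : C.Valid Y) (hXb : X < (2 ^ C.b) ^ (C.n * C.n)) (hYb : Y < (2 ^ C.b) ^ (C.n * C.n))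
    (h : C.toMat e X = C.toMat e Y) : X = Y := by
  rw [expand (C.n * C.n) X hXb, expand (C.n * C.n) Y hYb]
  apply Finset.sum_congr rfl
  intro m hm
  congr 1
  have hm' := Finset.mem_range.1 hm
  have hn := C.hn
  have hi : m / C.n < C.n := Nat.div_lt_of_lt_mul hm'
  have hj : m % C.n < C.n := Nat.mod_lt _ hn
  have hmm : C.n * (m / C.n) + m % C.n = m := Nat.div_add_mod m C.n
  have h1 := congrFun (congrFun h (e.symm ⟨m / C.n, hi⟩)) (e.symm ⟨m % C.n, hj⟩)
  rw [Cfg.toMat_apply, Cfg.toMat_apply, Equiv.apply_symm_apply, Equiv.apply_symm_apply] at h1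
  have h2 := (ZMod.natCast_eq_natCast_iff' _ _ _).mp h1
  rw [Nat.mod_eq_of_lt (hX _ hi _ hj), Nat.mod_eq_of_lt (hY _ hi _ hj)] at h2
  unfold ent at h2
  rw [hmm] at h2
  exact h2

end Cfsg.Agent.Lib.Helper3.O73C3LANEINJ
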