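import Mathlib

/-!
# Unit TRANS of the farm O73C3 (S5514, owner helper4)

The shape "exactly `n` classes of subgroups of order `k`" goes across an isomorphism of groups.
-/

set_option autoImplicit false

namespace Cfsg.Agent.Lib.Helper3.O73C3TRANS

/-- conjugation commutes with an isomorphism -/
theorem map_conj_map {G H : Type*} [Group G] [Group H] (e : G ≃* H) (K : Subgroup G) (g : G) :
    (K.map (MulAut.conj g).toMonoidHom).map e.toMonoidHom =
      (K.map e.toMonoidHom).map (MulAut.conj (e g)).toMonoidHom := by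
  rw [Subgroup.map_map, Subgroup.map_map]
  congr 1
  ext x
  simp [MulAut.conj_apply]

theorem card_map_equiv {G H : Type*} [Group G] [Group H] (e : G ≃* H) (K : Subgroup G) :
    Nat.card ↥(K.map e.toMonoidHom) = Nat.card ↥K :=
  (Nat.card_congr (K.equivMapOfInjective e.toMonoidHom e.injective).toEquiv).symm

theorem map_symm_map {G H : Type*} [Group G] [Group H] (e : G ≃* H) (X : Subgroup H) :
    (X.map e.symm.toMonoidHom).map e.toMonoidHom = X := by
  rw [Subgroup.map_map]
  have : e.toMonoidHom.comp e.symm.toMonoidHom = MonoidHom.id H := by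
    ext x
    simp
  rw [this, Subgroup.map_id]

/-- unit TRANS, verbatim as in `Lib/Helper4/O73C3Stubs.lean` -/
theorem transport {G H : Type*} [Group G] [Group H] (e : G ≃* H) {n k : ℕ}
    (h : ∃ Y : Fin n → Subgroup G, (∀ i, Nat.card (Y i) = k) ∧
      (∀ i j, (∃ g : G, (Y i).map (MulAut.conj g).toMonoidHom = Y j) → i = j) ∧
      (∀ X : Subgroup G, Nat.card X = k → ∃ i, ∃ g : G, X.map (MulAut.conj g).toMonoidHom = Y i)) :
    ∃ Y : Fin n → Subgroup H, (∀ i, Nat.card (Y i) = k) ∧
      (∀ i j, (∃ g : H, (Y i).map (MulAut.conj g).toMonoidHom = Y j) → i = j) ∧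
      (∀ X : Subgroup H, Nat.card X = k → ∃ i, ∃ g : H, X.map (MulAut.conj g).toMonoidHom = Y i) := by
  obtain ⟨Y, h1, h2, h3⟩ := h
  refine ⟨fun i => (Y i).map e.toMonoidHom, ?_, ?_, ?_⟩
  · intro i
    rw [card_map_equiv, h1 i]
  · rintro i j ⟨g, hg⟩
    apply h2 i j
    refine ⟨e.symm g, ?_⟩
    apply Subgroup.map_injective (f := e.toMonoidHom) e.injective
    show ((Y i).map (MulAut.conj (e.symm g)).toMonoidHom).map e.toMonoidHom = (Y j).map e.toMonoidHom
    rw [map_conj_map, MulEquiv.apply_symm_apply]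
    exact hg
  · intro X hX
    have hX0 : Nat.card ↥(X.map e.symm.toMonoidHom) = k := by
      rw [card_map_equiv, hX]
    obtain ⟨i, g, hg⟩ := h3 _ hX0
    refine ⟨i, e g, ?_⟩
    show X.map (MulAut.conj (e g)).toMonoidHom = (Y i).map e.toMonoidHom
    rw [← hg, map_conj_map, map_symm_map]

end Cfsg.Agent.Lib.Helper3.O73C3TRANS
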