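import Mathlib
import Cfsg.Agent.Lib.Helper6.OMMArith

set_option autoImplicit false

/-!
Farm OMM (statement S2346), unit ARITH-INT: the two divisibility contradictions of the integrality
step.  `q ≥ 2`, `n = j + 2 ≥ 4`, `T` the number of long root elements
(`T (q² - 1) = N_s(n) N_s(n-1)`), `k` the degree with `k ∣ T q^(2n-3)`.

* `k = d_n - 1` is impossible;
* `n = 4`, `k = d_4 - 2` forces `q = 2`.
-/

namespace Cfsg.Agent.Lib.Helper3.OMMArithInt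

open Cfsg.Agent.Lib.Helper6.OMMArith

/-- the core of the first contradiction, over `ℤ`; `x = q ^ j` -/
theorem core_pred (Q x k T c : ℤ) (j : ℕ) (hQ : 2 ≤ Q) (hx : x = Q ^ j) (hxQ : Q ^ 2 ≤ x)
    (hk : (Q ^ 2 - 1) * (k + 1) = (Q ^ 2 * x + 1) * (Q * x - Q))
    (hT : T * (Q ^ 2 - 1) = (Q ^ 2 * x + 1) * (Q * x - 1) * ((Q * x + 1) * (x - 1)))
    (hc : T * (Q * x * x) = k * c) : False := by
  set M : ℤ := Q ^ 2 * x - Q ^ 2 - Q + 1 with hM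
  set E : ℤ := (Q ^ 2 * x + 1) * (Q * x - 1) * (x - 1) with hE
  have hx0 : 0 < x := by
    rw [hx]; positivity
  have hQx : 0 < Q * x + 1 := by nlinarith
  -- `(Q x + 1) M = (Q² - 1) k`
  have h1 : (Q * x + 1) * M = (Q ^ 2 - 1) * k := by
    rw [hM]; linear_combination (-1 : ℤ) * hk
  -- `(Q x + 1) M c = (Q x + 1) E Q x²`
  have h2 : (Q * x + 1) * (M * c) = (Q * x + 1) * (E * (Q * x * x)) := by
    rw [hE]
    linear_combination c * h1 - (Q ^ 2 - 1) * hc + (Q * x * x) * hT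
  have h3 : M * c = E * (Q * x * x) := mul_left_cancel₀ hQx.ne' h2
  have hcopQ : IsCoprime M Q := ⟨1, -(Q * x - Q - 1), by rw [hM]; ring⟩
  have hcopx : IsCoprime M x := by
    rw [hx]; exact hcopQ.pow_right
  have h4 : M ∣ E * (Q * x * x) := Dvd.intro c h3
  have h5 : M ∣ E := by
    have h6 : IsCoprime M (Q * x * x) := (hcopQ.mul_right hcopx).mul_right hcopx
    exact h6.dvd_of_dvd_mul_right h4
  -- `Q³ E ≡ Q (Q² - 1)²  (mod M)`
  have h7 : M ∣ Q * (Q ^ 2 - 1) ^ 2 := by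
    obtain ⟨e, he⟩ := h5
    have : Q * (Q ^ 2 - 1) ^ 2 =
        M * (Q ^ 3 * e - (M ^ 2 + M * (2 * Q ^ 2 + 2 * Q - 2) +
          ((Q ^ 2 + Q) * (Q ^ 2 - 1) + (Q ^ 2 + Q) * (Q - 1) + (Q ^ 2 - 1) * (Q - 1)))) := by
      have hE' : Q ^ 3 * E = (M + (Q ^ 2 + Q)) * (M + (Q ^ 2 - 1)) * (M + (Q - 1)) := by
        rw [hE, hM]; ring
      linear_combination (-1 : ℤ) * hE' + Q ^ 3 * he
    exact Dvd.intro _ this.symm
  have h8 : M ∣ (Q ^ 2 - 1) ^ 2 := hcopQ.dvd_of_dvd_mul_left h7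
  have hpos : 0 < (Q ^ 2 - 1) ^ 2 := by
    have : 0 < Q ^ 2 - 1 := by nlinarith
    positivity
  have hle := Int.le_of_dvd hpos h8
  -- `M - (Q² - 1)² = Q² x - Q⁴ + Q² - Q > 0`
  have : (Q ^ 2 - 1) ^ 2 < M := by
    rw [hM]
    nlinarith [mul_le_mul_of_nonneg_left hxQ (by positivity : (0 : ℤ) ≤ Q ^ 2)]
  omega

/-- `k = d_n - 1` is impossible -/
theorem no_pred (q j k T : ℕ) (hq : 2 ≤ q) (hj : 2 ≤ j) (hk : k + 1 = dn q (j + 2))
    (hT : T * (q ^ 2 - 1) = Ns q (j + 1) * Ns q j) (hdvd : k ∣ T * q ^ (2 * j + 1)) : False := by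
  obtain ⟨c, hc⟩ := hdvd
  have hD := Dn_eq q (by omega) j
  rw [← hk] at hD
  have hq1 : 1 ≤ q ^ 2 := Nat.one_le_pow _ _ (by omega)
  have hx1 : 1 ≤ q ^ j := Nat.one_le_pow _ _ (by omega)
  have hx2 : 1 ≤ q ^ (j + 1) := Nat.one_le_pow _ _ (by omega)
  have hx3 : q ≤ q ^ (j + 1) := by
    calc q = q ^ 1 := (pow_one q).symm
      _ ≤ q ^ (j + 1) := Nat.pow_le_pow_right (by omega) (by omega)
  have hxQ : q ^ 2 ≤ q ^ j := Nat.pow_le_pow_right (by omega) hj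
  refine core_pred (q : ℤ) ((q : ℤ) ^ j) k T c j (by exact_mod_cast hq) rfl (by exact_mod_cast hxQ)
    ?_ ?_ ?_
  · have e1 : j + 2 - 1 = j + 1 := by omega
    unfold Dn at hD
    rw [e1] at hD
    have := congrArg (fun n : ℕ => (n : ℤ)) hD
    simp only [Nat.cast_mul, Nat.cast_add, Nat.cast_pow, Nat.cast_one, Nat.cast_sub hx3,
      Nat.cast_sub hq1] at this
    rw [← this]
    ring
  · unfold Ns at hT
    have e1 : j + 1 + 1 = j + 2 := by omega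
    rw [e1] at hT
    have := congrArg (fun n : ℕ => (n : ℤ)) hT
    simp only [Nat.cast_mul, Nat.cast_add, Nat.cast_pow, Nat.cast_one, Nat.cast_sub hx1,
      Nat.cast_sub hx2, Nat.cast_sub hq1] at this
    rw [this]
    ring
  · have := congrArg (fun n : ℕ => (n : ℤ)) hc
    simp only [Nat.cast_mul, Nat.cast_pow] at this
    rw [← this]
    ring


/-- the core of the second contradiction, over `ℤ` -/
theorem core_two (Q k T c : ℤ) (hQ : 3 ≤ Q)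
    (hk : (Q ^ 2 - 1) * (k + 2) = (Q ^ 4 + 1) * (Q ^ 3 - Q))
    (hT : T * (Q ^ 2 - 1) = (Q ^ 4 + 1) * (Q ^ 3 - 1) * ((Q ^ 3 + 1) * (Q ^ 2 - 1)))
    (hc : T * Q ^ 5 = k * c) : False := by
  have hQ1 : 0 < Q ^ 2 - 1 := by nlinarith
  set N : ℤ := Q ^ 4 + Q ^ 3 + Q ^ 2 + Q + 2 with hN
  have hk' : k = (Q - 1) * N := by
    have h : (Q ^ 2 - 1) * k = (Q ^ 2 - 1) * ((Q - 1) * N) := by
      rw [hN]; linear_combination hk
    exact mul_left_cancel₀ hQ1.ne' h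
  have hT' : T = (Q ^ 4 + 1) * (Q ^ 6 - 1) := by
    have h : (Q ^ 2 - 1) * T = (Q ^ 2 - 1) * ((Q ^ 4 + 1) * (Q ^ 6 - 1)) := by
      linear_combination hT
    exact mul_left_cancel₀ hQ1.ne' h
  have hrem : N ∣ 2 * Q ^ 3 + 4 * Q ^ 2 - 6 * Q + 12 := by
    refine Dvd.intro ((Q - 1) * c -
      (Q ^ 11 - Q ^ 10 + 2 * Q ^ 6 - 3 * Q ^ 5 + Q ^ 4 - 2 * Q ^ 2 + 6 * Q - 6)) ?_
    have h1 : T * Q ^ 5 = (Q - 1) * N * c := by rw [hc, hk']
    rw [hT'] at h1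
    rw [hN] at h1 ⊢
    linear_combination (-1 : ℤ) * h1
  have hpos : 0 < 2 * Q ^ 3 + 4 * Q ^ 2 - 6 * Q + 12 := by nlinarith [sq_nonneg Q]
  have hle := Int.le_of_dvd hpos hrem
  have hQ3 : 3 * Q ^ 3 ≤ Q ^ 4 := by nlinarith [pow_pos (by omega : (0 : ℤ) < Q) 3]
  have hQ2 : 3 * Q ^ 2 ≤ Q ^ 3 := by nlinarith [pow_pos (by omega : (0 : ℤ) < Q) 2]
  rw [hN] at hle
  nlinarith

/-- `n = 4` and `k = d_4 - 2` force `q = 2` -/
theorem q_eq_two (q k T : ℕ) (hq : 2 ≤ q) (hk : k + 2 = dn q 4)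
    (hT : T * (q ^ 2 - 1) = Ns q 3 * Ns q 2) (hdvd : k ∣ T * q ^ 5) : q = 2 := by
  by_contra hne
  have hq3 : 3 ≤ q := by omega
  obtain ⟨c, hc⟩ := hdvd
  have hD := Dn_eq q (by omega) 2
  rw [← hk] at hD
  have hq1 : 1 ≤ q ^ 2 := Nat.one_le_pow _ _ (by omega)
  have hx2 : 1 ≤ q ^ 3 := Nat.one_le_pow _ _ (by omega)
  have hx3 : q ≤ q ^ 3 := by
    calc q = q ^ 1 := (pow_one q).symm
      _ ≤ q ^ 3 := Nat.pow_le_pow_right (by omega) (by omega)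
  refine core_two (q : ℤ) k T c (by exact_mod_cast hq3) ?_ ?_ ?_
  · unfold Dn at hD
    have e1 : 2 + 2 - 1 = 3 := rfl
    have e2 : 2 + 2 = 4 := rfl
    rw [e1, e2] at hD
    have := congrArg (fun n : ℕ => (n : ℤ)) hD
    simp only [Nat.cast_mul, Nat.cast_add, Nat.cast_pow, Nat.cast_one, Nat.cast_sub hx3,
      Nat.cast_sub hq1, Nat.cast_ofNat] at this
    rw [← this]
  · unfold Ns at hT
    have e1 : 3 + 1 = 4 := rfl
    have e2 : 2 + 1 = 3 := rfl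
    rw [e1, e2] at hT
    have := congrArg (fun n : ℕ => (n : ℤ)) hT
    simp only [Nat.cast_mul, Nat.cast_add, Nat.cast_pow, Nat.cast_one, Nat.cast_sub hx2,
      Nat.cast_sub hq1] at this
    rw [this]
  · have := congrArg (fun n : ℕ => (n : ℤ)) hc
    simp only [Nat.cast_mul, Nat.cast_pow] at this
    rw [← this]

end Cfsg.Agent.Lib.Helper3.OMMArithInt
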