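import Mathlib
import Cfsg.Agent.Lib.Helper7.OMPI1

set_option autoImplicit false
set_option linter.style.haveILetI false
set_option linter.unusedSectionVars false

/-!
Farm OMM (statement S2346), generic unit EXT.  `N` a normal subgroup of the finite group `Γ`,
`r ∈ Γ` an involution with `Γ = N ∪ N r`, `b` an irreducible complex representation of `N` whose
character is invariant under conjugation by `r`, `T` a conjugation-stable set of conjugates of `r`
with `|T|` prime to the (odd) degree of `b`.  Then `b (r g r⁻¹) = b g` for all `g ∈ N`.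

(`b` extends to a representation `b~` of `Γ` with `b~ r = A`, `A² = 1`; the class sum of `T` acts
on `b~` as a scalar which is an algebraic integer, so `deg b` divides `|T| · tr A`, hence `tr A`,
and `A = ± 1`.)
-/

namespace Cfsg.Agent.Lib.Helper3.OMMExt

open Module Representation

section

variable {Γ : Type*} [Group Γ] (N : Subgroup Γ) [hN : N.Normal] (r : Γ)
variable {V : Type*} [AddCommGroup V] [Module ℂ V]

/-- `b` twisted by the conjugation with `r` -/
def twist (b : Representation ℂ N V) : Representation ℂ N V :=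
  b.comp (MulAut.conjNormal r : N ≃* N).toMonoidHom

theorem twist_apply (b : Representation ℂ N V) (g : N) :
    twist N r b g = b (MulAut.conjNormal r g) := rfl

/-- the subrepresentations of the twist are those of `b` -/
def twistIso (b : Representation ℂ N V) : Subrepresentation (twist N r b) ≃o Subrepresentation b where
  toFun W := ⟨W.toSubmodule, fun g v hv => by
    have h := W.apply_mem_toSubmodule ((MulAut.conjNormal r : N ≃* N).symm g) hv
    rw [twist_apply, MulEquiv.apply_symm_apply] at h
    exact h⟩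
  invFun W := ⟨W.toSubmodule, fun g v hv => W.apply_mem_toSubmodule _ hv⟩
  left_inv W := rfl
  right_inv W := rfl
  map_rel_iff' := Iff.rfl

theorem twist_irreducible (b : Representation ℂ N V) (hirr : b.IsIrreducible) :
    (twist N r b).IsIrreducible :=
  (twistIso N r b).isSimpleOrder_iff.2 hirr

end


section

variable {Γ : Type*} [Group Γ] [Finite Γ] (N : Subgroup Γ) [hN : N.Normal] (r : Γ)
variable {V : Type*} [AddCommGroup V] [Module ℂ V] [FiniteDimensional ℂ V]

/-- an irreducible representation with `r`-invariant character is equivalent to its twist -/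
theorem exists_equiv (b : Representation ℂ N V) (hirr : b.IsIrreducible)
    (hinv : ∀ g : N, b.character (MulAut.conjNormal r g) = b.character g) :
    Nonempty (Representation.Equiv (twist N r b) b) := by
  classical
  haveI : Fintype N := Fintype.ofFinite N
  have : Invertible ((Nat.card N : ℂ)) :=
    invertibleOfNonzero (by exact_mod_cast (Nat.card_pos (α := N)).ne')
  have := hirr
  have := twist_irreducible N r b hirr
  have h1 := char_orthonormal b (twist N r b)
  have h2 := char_orthonormal b b
  have hchar : (twist N r b).character = b.character := funext fun g => hinv g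
  rw [hchar] at h1
  rw [h1] at h2
  by_contra hne
  rw [if_neg hne, if_pos ⟨Representation.Equiv.refl b⟩] at h2
  exact zero_ne_one h2


theorem conj_conj (hr2 : r * r = 1) (g : N) :
    (MulAut.conjNormal r : N ≃* N) ((MulAut.conjNormal r : N ≃* N) g) = g := by
  apply Subtype.ext
  rw [MulAut.conjNormal_apply, MulAut.conjNormal_apply]
  have hinv : r⁻¹ = r := inv_eq_of_mul_eq_one_left hr2
  rw [hinv]
  calc r * (r * (g : Γ) * r) * r = (r * r) * (g : Γ) * (r * r) := by group
    _ = g := by rw [hr2, one_mul, mul_one]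

/-- the intertwiner of `b` with its twist, normalised to an involution -/
theorem exists_invol (b : Representation ℂ N V) (hirr : b.IsIrreducible)
    (hinv : ∀ g : N, b.character (MulAut.conjNormal r g) = b.character g) (hr2 : r * r = 1) :
    ∃ A : Module.End ℂ V, A * A = 1 ∧ ∀ g : N, A * b g = b (MulAut.conjNormal r g) * A := by
  have := hirr
  obtain ⟨φ⟩ := exists_equiv N r b hirr hinv
  set A0 : Module.End ℂ V := φ.toLinearMap with hA0
  have h0 : ∀ g : N, A0 * b (MulAut.conjNormal r g) = b g * A0 := fun g =>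
    φ.isIntertwining' g
  have h1 : ∀ g : N, A0 * b g = b (MulAut.conjNormal r g) * A0 := by
    intro g
    have := h0 ((MulAut.conjNormal r : N ≃* N) g)
    rw [conj_conj N r hr2] at this
    exact this
  have h2 : ∀ g : N, (A0 * A0) * b g = b g * (A0 * A0) := by
    intro g
    rw [mul_assoc, h1, ← mul_assoc, h0, mul_assoc]
  let T' : Representation.IntertwiningMap b b :=
    { toLinearMap := A0 * A0
      isIntertwining' := fun g => h2 g }
  obtain ⟨c, hc⟩ :=
    (Representation.IsIrreducible.algebraMap_intertwiningMap_bijective_of_isAlgClosed (ρ := b)).2 T'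
  have hTc : A0 * A0 = c • (1 : Module.End ℂ V) := by
    have := congrArg Representation.IntertwiningMap.toLinearMap hc
    rw [Representation.IntertwiningMap.algebraMap_apply,
      Representation.IntertwiningMap.toLinearMap_smul] at this
    exact this.symm
  have hinj : Function.Injective A0 := φ.toLinearEquiv.injective
  have hnt : Nontrivial V := by
    by_contra hV
    rw [not_nontrivial_iff_subsingleton] at hV
    have : (⊥ : Subrepresentation b) = ⊤ := by
      apply Subrepresentation.toSubmodule_injective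
      exact Subsingleton.elim _ _
    exact bot_ne_top this
  have hc0 : c ≠ 0 := by
    intro h
    rw [h, zero_smul] at hTc
    obtain ⟨v, hv⟩ := exists_ne (0 : V)
    have h3 : A0 (A0 v) = 0 := by
      have := congrArg (fun X : Module.End ℂ V => X v) hTc
      simpa using this
    have h4 : A0 v = 0 := hinj (by rw [h3, map_zero])
    exact hv (hinj (by rw [h4, map_zero]))
  obtain ⟨s, hs⟩ := IsAlgClosed.exists_eq_mul_self c
  have hs0 : s ≠ 0 := by
    intro h
    rw [h, mul_zero] at hs
    exact hc0 hs
  refine ⟨s⁻¹ • A0, ?_, fun g => ?_⟩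
  · rw [smul_mul_smul_comm, hTc, smul_smul, hs]
    have : s⁻¹ * s⁻¹ * (s * s) = 1 := by field_simp
    rw [this, one_smul]
  · rw [smul_mul_assoc, mul_smul_comm, h1]


/-! ### the extension -/

open Classical in
/-- the extension of `b` to `Γ = N ∪ N r` with `r ↦ A` -/
noncomputable def extFun (b : Representation ℂ N V) (A : Module.End ℂ V) (g : Γ) :
    Module.End ℂ V :=
  if h : g ∈ N then b ⟨g, h⟩ else (if h' : g * r ∈ N then b ⟨g * r, h'⟩ * A else 1)

theorem extFun_mem (b : Representation ℂ N V) (A : Module.End ℂ V) (g : Γ) (h : g ∈ N) :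
    extFun N r b A g = b ⟨g, h⟩ := by
  unfold extFun
  rw [dif_pos h]

theorem extFun_not_mem (b : Representation ℂ N V) (A : Module.End ℂ V) (g : Γ) (h : g ∉ N)
    (h' : g * r ∈ N) : extFun N r b A g = b ⟨g * r, h'⟩ * A := by
  unfold extFun
  rw [dif_neg h, dif_pos h']

theorem extFun_mul (b : Representation ℂ N V) (A : Module.End ℂ V) (hr2 : r * r = 1)
    (hidx : ∀ g : Γ, g ∈ N ∨ g * r ∈ N) (hAA : A * A = 1)
    (hA : ∀ g : N, A * b g = b (MulAut.conjNormal r g) * A) (g h : Γ) :
    extFun N r b A (g * h) = extFun N r b A g * extFun N r b A h := by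
  have hrinv : r⁻¹ = r := inv_eq_of_mul_eq_one_left hr2
  by_cases hg : g ∈ N
  · by_cases hh : h ∈ N
    · rw [extFun_mem N r b A _ (N.mul_mem hg hh), extFun_mem N r b A _ hg,
        extFun_mem N r b A _ hh, ← map_mul]
      rfl
    · have hgh : g * h ∉ N := fun hc => hh (by
        have := N.mul_mem (N.inv_mem hg) hc
        rwa [inv_mul_cancel_left] at this)
      have hhr : h * r ∈ N := (hidx h).resolve_left hh
      have hghr : g * h * r ∈ N := (hidx (g * h)).resolve_left hgh
      rw [extFun_not_mem N r b A _ hgh hghr, extFun_mem N r b A _ hg,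
        extFun_not_mem N r b A _ hh hhr, ← mul_assoc, ← map_mul]
      congr 2
      apply Subtype.ext
      show g * h * r = g * (h * r)
      rw [mul_assoc]
  · have hgr : g * r ∈ N := (hidx g).resolve_left hg
    by_cases hh : h ∈ N
    · have hgh : g * h ∉ N := fun hc => hg (by
        have := N.mul_mem hc (N.inv_mem hh)
        rwa [mul_inv_cancel_right] at this)
      have hghr : g * h * r ∈ N := (hidx (g * h)).resolve_left hgh
      rw [extFun_not_mem N r b A _ hgh hghr, extFun_not_mem N r b A _ hg hgr,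
        extFun_mem N r b A _ hh]
      calc b ⟨g * h * r, hghr⟩ * A
          = b (⟨g * r, hgr⟩ * (MulAut.conjNormal r : N ≃* N) ⟨h, hh⟩) * A := by
            congr 2
            apply Subtype.ext
            show g * h * r = g * r * (r * h * r⁻¹)
            rw [hrinv]
            calc g * h * r = g * (r * r) * h * r := by rw [hr2, mul_one]
              _ = g * r * (r * h * r) := by group
        _ = b ⟨g * r, hgr⟩ * (b ((MulAut.conjNormal r : N ≃* N) ⟨h, hh⟩) * A) := by
            rw [map_mul, mul_assoc]
        _ = b ⟨g * r, hgr⟩ * A * b ⟨h, hh⟩ := by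
            rw [← hA, mul_assoc]
    · have hhr : h * r ∈ N := (hidx h).resolve_left hh
      have hrh : r * (h * r) * r⁻¹ ∈ N := hN.conj_mem _ hhr r
      have hgh : g * h ∈ N := by
        have := N.mul_mem hgr hrh
        have e : g * r * (r * (h * r) * r⁻¹) = g * h := by
          calc g * r * (r * (h * r) * r⁻¹) = g * (r * r) * h * (r * r⁻¹) := by group
            _ = g * h := by rw [hr2, mul_one, mul_inv_cancel, mul_one]
        rwa [e] at this
      rw [extFun_mem N r b A _ hgh, extFun_not_mem N r b A _ hg hgr,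
        extFun_not_mem N r b A _ hh hhr]
      calc b ⟨g * h, hgh⟩ = b (⟨g * r, hgr⟩ * (MulAut.conjNormal r : N ≃* N) ⟨h * r, hhr⟩) := by
            congr 1
            apply Subtype.ext
            show g * h = g * r * (r * (h * r) * r⁻¹)
            calc g * h = g * (r * r) * h * (r * r⁻¹) := by
                  rw [hr2, mul_one, mul_inv_cancel, mul_one]
              _ = g * r * (r * (h * r) * r⁻¹) := by group
        _ = b ⟨g * r, hgr⟩ * (b ((MulAut.conjNormal r : N ≃* N) ⟨h * r, hhr⟩) * A) * A := by
            rw [map_mul, mul_assoc, mul_assoc, hAA, mul_one]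
        _ = b ⟨g * r, hgr⟩ * A * (b ⟨h * r, hhr⟩ * A) := by
            rw [← hA]
            simp only [mul_assoc]

/-- the extension as a representation of `Γ` -/
noncomputable def ext (b : Representation ℂ N V) (A : Module.End ℂ V) (hr2 : r * r = 1)
    (hidx : ∀ g : Γ, g ∈ N ∨ g * r ∈ N) (hAA : A * A = 1)
    (hA : ∀ g : N, A * b g = b (MulAut.conjNormal r g) * A) : Representation ℂ Γ V where
  toFun := extFun N r b A
  map_one' := by
    rw [extFun_mem N r b A 1 N.one_mem]
    exact map_one b
  map_mul' := extFun_mul N r b A hr2 hidx hAA hA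


theorem ext_apply_mem (b : Representation ℂ N V) (A : Module.End ℂ V) (hr2 : r * r = 1)
    (hidx : ∀ g : Γ, g ∈ N ∨ g * r ∈ N) (hAA : A * A = 1)
    (hA : ∀ g : N, A * b g = b (MulAut.conjNormal r g) * A) (g : N) :
    ext N r b A hr2 hidx hAA hA (g : Γ) = b g :=
  extFun_mem N r b A g.1 g.2

theorem ext_apply_r (b : Representation ℂ N V) (A : Module.End ℂ V) (hr2 : r * r = 1)
    (hidx : ∀ g : Γ, g ∈ N ∨ g * r ∈ N) (hAA : A * A = 1)
    (hA : ∀ g : N, A * b g = b (MulAut.conjNormal r g) * A) (hrN : r ∉ N) :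
    ext N r b A hr2 hidx hAA hA r = A := by
  have h1 : r * r ∈ N := by rw [hr2]; exact N.one_mem
  show extFun N r b A r = A
  rw [extFun_not_mem N r b A r hrN h1]
  have : (⟨r * r, h1⟩ : N) = 1 := Subtype.ext hr2
  rw [this, map_one, one_mul]

theorem ext_irreducible (b : Representation ℂ N V) (A : Module.End ℂ V) (hr2 : r * r = 1)
    (hidx : ∀ g : Γ, g ∈ N ∨ g * r ∈ N) (hAA : A * A = 1)
    (hA : ∀ g : N, A * b g = b (MulAut.conjNormal r g) * A) (hirr : b.IsIrreducible) :
    (ext N r b A hr2 hidx hAA hA).IsIrreducible := by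
  have := hirr
  have hnt : Nontrivial V := by
    by_contra hV
    rw [not_nontrivial_iff_subsingleton] at hV
    have : (⊥ : Subrepresentation b) = ⊤ := by
      apply Subrepresentation.toSubmodule_injective
      exact Subsingleton.elim _ _
    exact bot_ne_top this
  refine
    { exists_pair_ne := ⟨⊥, ⊤, fun h => ?_⟩
      eq_bot_or_eq_top := fun W => ?_ }
  · have h1 := congrArg Subrepresentation.toSubmodule h
    have h2 : (⊥ : Submodule ℂ V) = ⊤ := h1
    exact bot_ne_top h2
  · let W' : Subrepresentation b := ⟨W.toSubmodule, fun g v hv => by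
      have h := W.apply_mem_toSubmodule (g : Γ) hv
      rwa [ext_apply_mem] at h⟩
    rcases eq_bot_or_eq_top W' with h | h
    · left
      apply Subrepresentation.toSubmodule_injective
      have h1 : W'.toSubmodule = (⊥ : Subrepresentation b).toSubmodule :=
        congrArg Subrepresentation.toSubmodule h
      exact h1
    · right
      apply Subrepresentation.toSubmodule_injective
      have h1 : W'.toSubmodule = (⊤ : Subrepresentation b).toSubmodule :=
        congrArg Subrepresentation.toSubmodule h
      exact h1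

/-- an involution of odd-dimensional `V` whose trace is divisible by `dim V` is `± 1` -/
theorem invol_eq_of_dvd (A : Module.End ℂ V) (hAA : A * A = 1) (z : ℤ)
    (hz : LinearMap.trace ℂ V A = (z : ℂ)) (hodd : Odd (finrank ℂ V))
    (hdvd : (finrank ℂ V : ℤ) ∣ z) : A = 1 ∨ A = -1 := by
  set d := finrank ℂ V with hd
  set P : Module.End ℂ V := (2 : ℂ)⁻¹ • (1 - A) with hP
  set Q : Module.End ℂ V := (2 : ℂ)⁻¹ • (1 + A) with hQ
  have hPP : IsIdempotentElem P := by
    show P * P = P
    rw [hP, smul_mul_smul_comm, sub_mul, mul_sub, mul_sub, hAA, one_mul, one_mul, mul_one]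
    have : (1 : Module.End ℂ V) - A - (A - 1) = (2 : ℂ) • (1 - A) := by
      rw [two_smul]; abel
    rw [this, smul_smul]
    norm_num
  have hQQ : IsIdempotentElem Q := by
    show Q * Q = Q
    rw [hQ, smul_mul_smul_comm, add_mul, mul_add, mul_add, hAA, one_mul, one_mul, mul_one]
    have : (1 : Module.End ℂ V) + A + (A + 1) = (2 : ℂ) • (1 + A) := by
      rw [two_smul]; abel
    rw [this, smul_smul]
    norm_num
  have htP : LinearMap.trace ℂ V P = (finrank ℂ (LinearMap.range P) : ℂ) := (LinearMap.IsIdempotentElem.isProj_range P hPP).trace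
  have htQ : LinearMap.trace ℂ V Q = (finrank ℂ (LinearMap.range Q) : ℂ) := (LinearMap.IsIdempotentElem.isProj_range Q hQQ).trace
  set j := finrank ℂ (LinearMap.range P) with hj
  set j' := finrank ℂ (LinearMap.range Q) with hj'
  have h1 : LinearMap.trace ℂ V P = (2 : ℂ)⁻¹ * ((d : ℂ) - z) := by
    rw [hP, map_smul, map_sub, LinearMap.trace_one, hz, smul_eq_mul]
  have h2 : LinearMap.trace ℂ V Q = (2 : ℂ)⁻¹ * ((d : ℂ) + z) := by
    rw [hQ, map_smul, map_add, LinearMap.trace_one, hz, smul_eq_mul]
  have e1 : (2 : ℂ) * (j : ℂ) = (d : ℂ) - z := by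
    rw [← htP, h1]; ring
  have e2 : (2 : ℂ) * (j' : ℂ) = (d : ℂ) + z := by
    rw [← htQ, h2]; ring
  have e1' : (2 : ℤ) * (j : ℤ) = (d : ℤ) - z := by exact_mod_cast e1
  have e2' : (2 : ℤ) * (j' : ℤ) = (d : ℤ) + z := by exact_mod_cast e2
  obtain ⟨c, hc⟩ := hdvd
  obtain ⟨k, hk⟩ := hodd
  have hd0 : (0 : ℤ) < d := by omega
  -- `z = d c`, `2 j = d (1 - c) ≥ 0`, `2 j' = d (1 + c) ≥ 0`, so `c ∈ {-1, 0, 1}`; `c = 0` is
  -- impossible for odd `d`
  have hj0 : (0 : ℤ) ≤ j := Int.natCast_nonneg j
  have hj'0 : (0 : ℤ) ≤ j' := Int.natCast_nonneg j'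
  have hc1 : c ≤ 1 := by
    by_contra hcc
    have : (2 : ℤ) ≤ c := by omega
    have : (d : ℤ) * c ≥ d * 2 := by nlinarith
    nlinarith
  have hc2 : -1 ≤ c := by
    by_contra hcc
    have : c ≤ -2 := by omega
    have : (d : ℤ) * c ≤ d * (-2) := by nlinarith
    nlinarith
  have hc3 : c ≠ 0 := by
    intro h0
    rw [h0, mul_zero] at hc
    rw [hc] at e1'
    omega
  have hcc : c = 1 ∨ c = -1 := by omega
  rcases hcc with h | h
  · -- `z = d`, `j = 0`, `P = 0`, `A = 1`
    left
    have hj0' : (j : ℂ) = 0 := by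
      have : (j : ℤ) = 0 := by rw [hc, h] at e1'; omega
      exact_mod_cast this
    have hP0 : P = 0 := LinearMap.IsIdempotentElem.eq_zero_of_trace_eq_zero hPP (by rw [htP, hj0'])
    have : (1 : Module.End ℂ V) - A = 0 := by
      have h3 := congrArg (fun X : Module.End ℂ V => (2 : ℂ) • X) hP0
      simp only [hP, smul_smul, smul_zero] at h3
      rwa [show (2 : ℂ) * 2⁻¹ = 1 by norm_num, one_smul] at h3
    exact (sub_eq_zero.1 this).symm
  · right
    have hj0' : (j' : ℂ) = 0 := by
      have : (j' : ℤ) = 0 := by rw [hc, h] at e2'; omega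
      exact_mod_cast this
    have hQ0 : Q = 0 := LinearMap.IsIdempotentElem.eq_zero_of_trace_eq_zero hQQ (by rw [htQ, hj0'])
    have : (1 : Module.End ℂ V) + A = 0 := by
      have h3 := congrArg (fun X : Module.End ℂ V => (2 : ℂ) • X) hQ0
      simp only [hQ, smul_smul, smul_zero] at h3
      rwa [show (2 : ℂ) * 2⁻¹ = 1 by norm_num, one_smul] at h3
    exact eq_neg_of_add_eq_zero_right this


/-- the trace of an involution is an integer -/
theorem invol_trace_int (A : Module.End ℂ V) (hAA : A * A = 1) :
    ∃ z : ℤ, LinearMap.trace ℂ V A = (z : ℂ) := by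
  set P : Module.End ℂ V := (2 : ℂ)⁻¹ • (1 - A) with hP
  have hPP : IsIdempotentElem P := by
    show P * P = P
    rw [hP, smul_mul_smul_comm, sub_mul, mul_sub, mul_sub, hAA, one_mul, one_mul, mul_one]
    have : (1 : Module.End ℂ V) - A - (A - 1) = (2 : ℂ) • (1 - A) := by
      rw [two_smul]; abel
    rw [this, smul_smul]
    norm_num
  have htP : LinearMap.trace ℂ V P = (finrank ℂ (LinearMap.range P) : ℂ) :=
    (LinearMap.IsIdempotentElem.isProj_range P hPP).trace
  have h1 : LinearMap.trace ℂ V P = (2 : ℂ)⁻¹ * ((finrank ℂ V : ℂ) - LinearMap.trace ℂ V A) := by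
    rw [hP, map_smul, map_sub, LinearMap.trace_one, smul_eq_mul]
  refine ⟨(finrank ℂ V : ℤ) - 2 * (finrank ℂ (LinearMap.range P) : ℤ), ?_⟩
  push_cast
  rw [← htP, h1]
  ring

/-- unit EXT -/
theorem conj_invariant (hr2 : r * r = 1) (hrN : r ∉ N) (hidx : ∀ g : Γ, g ∈ N ∨ g * r ∈ N)
    (b : Representation ℂ N V) (hirr : b.IsIrreducible)
    (hinv : ∀ g : N, b.character (MulAut.conjNormal r g) = b.character g)
    (T : Finset Γ) (hT : ∀ t ∈ T, ∀ g : Γ, g * t * g⁻¹ ∈ T)
    (hTr : ∀ t ∈ T, ∃ g : Γ, t = g * r * g⁻¹)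
    (hodd : Odd (finrank ℂ V)) (hcop : Nat.Coprime (finrank ℂ V) T.card) :
    ∀ g : N, b (MulAut.conjNormal r g) = b g := by
  classical
  haveI : Fintype Γ := Fintype.ofFinite Γ
  obtain ⟨A, hAA, hA⟩ := exists_invol N r b hirr hinv hr2
  obtain ⟨z, hz⟩ := invol_trace_int A hAA
  have hbt := ext_irreducible N r b A hr2 hidx hAA hA hirr
  have hchar : ∀ t ∈ T, (ext N r b A hr2 hidx hAA hA).character t = (z : ℂ) := by
    intro t ht
    obtain ⟨g, rfl⟩ := hTr t ht
    show LinearMap.trace ℂ V (ext N r b A hr2 hidx hAA hA (g * r * g⁻¹)) = _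
    have e1 : ext N r b A hr2 hidx hAA hA (g * r * g⁻¹) =
        ext N r b A hr2 hidx hAA hA g * ext N r b A hr2 hidx hAA hA r *
          ext N r b A hr2 hidx hAA hA g⁻¹ := by
      rw [← map_mul, ← map_mul]
    have e2 : ext N r b A hr2 hidx hAA hA g⁻¹ * ext N r b A hr2 hidx hAA hA g = 1 := by
      rw [← map_mul, inv_mul_cancel, map_one]
    rw [e1, LinearMap.trace_mul_comm, ← mul_assoc, e2, one_mul,
      ext_apply_r N r b A hr2 hidx hAA hA hrN, hz]
  have hsum : ∑ t ∈ T, (ext N r b A hr2 hidx hAA hA).character t = (((T.card : ℤ) * z : ℤ) : ℂ) := by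
    rw [Finset.sum_congr rfl hchar, Finset.sum_const, nsmul_eq_mul]
    push_cast
    ring
  have hdvd := Cfsg.Agent.Lib.Helper7.OMP.dvd_sum_character_of_normalSet
    (ext N r b A hr2 hidx hAA hA) hbt T hT _ hsum
  have hdvd' : (finrank ℂ V : ℤ) ∣ z := by
    have hc : IsCoprime (finrank ℂ V : ℤ) (T.card : ℤ) := Nat.isCoprime_iff_coprime.2 hcop
    exact hc.dvd_of_dvd_mul_left hdvd
  rcases invol_eq_of_dvd A hAA z hz hodd hdvd' with h | h
  · intro g
    have := hA g
    rw [h, one_mul, mul_one] at this
    exact this.symm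
  · intro g
    have := hA g
    rw [h, neg_one_mul, mul_neg_one] at this
    exact (neg_injective this).symm

end

end Cfsg.Agent.Lib.Helper3.OMMExt
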