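import Mathlib
import Cfsg.Prelude
import Cfsg.Agent.Lib.Helper5.OmegaCrit
import Cfsg.Agent.Lib.Helper3.OMMExt
import Cfsg.Agent.Lib.Helper6.OMMLevel

set_option autoImplicit false
set_option linter.unusedSectionVars false
set_option linter.unusedVariables false
open Cfsg

/-!
Farm OMM (statement S2346), unit REFL2: the reflections of an orthogonal group over the field with
two elements, as the input of `OMMExt.conj_invariant` (`Γ = O(Q)`, `N = Ω(Q)`, `r` a reflection,
`T` the set of all reflections).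
-/

namespace Cfsg.Agent.Lib.Helper3.OMMRefl

open Matrix QuadraticMap Module Cfsg.Agent.Lib.Helper5.CartanDieudonne Cfsg.Agent.Lib.Helper5.Refl
  Cfsg.Agent.Lib.Helper5.SpinorNorm Cfsg.Agent.Lib.Helper5.OmegaGen Cfsg.Agent.Lib.Helper5.Dickson
  Cfsg.Agent.Lib.Helper5.OrthIndexTwo Cfsg.Agent.Lib.Helper5.OmegaCrit

variable {ι : Type} [Fintype ι] [DecidableEq ι] {F : Type*} [Field F] [Fintype F]
  (Q : QuadraticForm F (ι → F))

theorem eq_zero_or_one (hF : Fintype.card F = 2) (a : F) : a = 0 ∨ a = 1 := by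
  classical
  by_contra h
  push Not at h
  have h3 : ({0, 1, a} : Finset F).card = 3 := by
    rw [Finset.card_insert_of_notMem, Finset.card_insert_of_notMem, Finset.card_singleton]
    · simp only [Finset.mem_singleton]
      exact fun hh => h.2 hh.symm
    · simp only [Finset.mem_insert, Finset.mem_singleton, not_or]
      exact ⟨zero_ne_one, fun hh => h.1 hh.symm⟩
  have := Finset.card_le_univ ({0, 1, a} : Finset F)
  omega

theorem two_eq_zero_of_card (hF : Fintype.card F = 2) : (2 : F) = 0 := by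
  rcases eq_zero_or_one hF (2 : F) with h | h
  · exact h
  · exfalso
    have h1 : (1 : F) + 1 = 1 := by rw [one_add_one_eq_two, h]
    exact one_ne_zero (add_eq_right.1 h1)

/-- over the field with two elements a reflection determines its vector -/
theorem reflection_injective (hF : Fintype.card F = 2) (hQ : (polarBilin Q).Nondegenerate)
    (v v' : ι → F) (hv : Q v ≠ 0) (hv' : Q v' ≠ 0)
    (h : reflection Q v hv = reflection Q v' hv') : v = v' := by
  have hQv : Q v = 1 := (eq_zero_or_one hF _).resolve_left hv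
  have hQv' : Q v' = 1 := (eq_zero_or_one hF _).resolve_left hv'
  have hv0 : v ≠ 0 := by
    rintro rfl
    exact hv (map_zero Q)
  have hact : ∀ x, polar ⇑Q v x • v = polar ⇑Q v' x • v' := by
    intro x
    have h1 := act_reflection Q v hv x
    have h2 := act_reflection Q v' hv' x
    rw [h, h2, hQv, hQv', inv_one, one_mul, one_mul] at h1
    exact (sub_right_injective h1).symm
  obtain ⟨x, hx⟩ : ∃ x, polar ⇑Q v x ≠ 0 := by
    by_contra hcon
    push Not at hcon
    exact hv0 (hQ.1 v (fun y => hcon y))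
  have hx1 : polar ⇑Q v x = 1 := (eq_zero_or_one hF _).resolve_left hx
  have h3 := hact x
  rw [hx1, one_smul] at h3
  rcases eq_zero_or_one hF (polar ⇑Q v' x) with h4 | h4
  · rw [h4, zero_smul] at h3
    exact absurd h3 hv0
  · rw [h4, one_smul] at h3
    exact h3


open Classical in
/-- the set of all reflections -/
noncomputable def reflSet : Finset ↥(isometryGroup F ⇑Q) :=
  (Finset.univ : Finset {v : ι → F // Q v ≠ 0}).image fun v => reflection Q v.1 v.2

theorem mem_reflSet (t : ↥(isometryGroup F ⇑Q)) :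
    t ∈ reflSet Q ↔ ∃ (v : ι → F) (hv : Q v ≠ 0), t = reflection Q v hv := by
  classical
  unfold reflSet
  rw [Finset.mem_image]
  constructor
  · rintro ⟨v, _, rfl⟩
    exact ⟨v.1, v.2, rfl⟩
  · rintro ⟨v, hv, rfl⟩
    exact ⟨⟨v, hv⟩, Finset.mem_univ _, rfl⟩

theorem card_reflSet (hF : Fintype.card F = 2) (hQ : (polarBilin Q).Nondegenerate) :
    (reflSet Q).card = Nat.card {v : ι → F // Q v ≠ 0} := by
  classical
  unfold reflSet
  rw [Finset.card_image_of_injective, Finset.card_univ, Nat.card_eq_fintype_card]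
  intro v v' h
  exact Subtype.ext (reflection_injective Q hF hQ v.1 v'.1 v.2 v'.2 h)

/-- unit REFL2: step (7) for the orthogonal groups over the field with two elements -/
theorem refl_invariant (hF : Fintype.card F = 2) (hQ : (polarBilin Q).Nondegenerate)
    (hex : Fintype.card ι = 4 → ∃ a : F, a ≠ 0 ∧ a ≠ 1) (w : ι → F) (hw : Q w ≠ 0)
    {V : Type*} [AddCommGroup V] [Module ℂ V] [FiniteDimensional ℂ V]
    (b : Representation ℂ ↥(Omega F ⇑Q) V) (hirr : b.IsIrreducible)
    (hinv : ∀ g : ↥(Omega F ⇑Q),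
      b.character (MulAut.conjNormal (reflection Q w hw) g) = b.character g)
    (hodd : Odd (finrank ℂ V))
    (hcop : Nat.Coprime (finrank ℂ V) (Nat.card {v : ι → F // Q v ≠ 0})) :
    ∀ g : ↥(Omega F ⇑Q), b (MulAut.conjNormal (reflection Q w hw) g) = b g := by
  have h2 : (2 : F) = 0 := two_eq_zero_of_card hF
  have hgen := Cfsg.Agent.Lib.Helper5.ReflGenMat.reflSubgroup_eq_top Q hQ hex
  have hconj : ∀ (v : ι → F) (hv : Q v ≠ 0), ∃ h : ↥(isometryGroup F ⇑Q),
      h * reflection Q v hv * h⁻¹ = reflection Q w hw := fun v hv =>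
    exists_conj_reflection Q hQ v w hv hw (isSquare_of_two_eq_zero h2 _)
  have hrN : reflection Q w hw ∉ Omega F ⇑Q := by
    intro h
    have h3 := (mem_Omega_iff_par Q h2 hQ hex _).1 h
    rw [par_reflection] at h3
    exact absurd h3 (by decide)
  refine Cfsg.Agent.Lib.Helper3.OMMExt.conj_invariant (Omega F ⇑Q) (reflection Q w hw)
    (reflection_mul_self' Q w hw) hrN (mem_or_mul_mem Q hgen w hw hconj) b hirr hinv
    (reflSet Q) ?_ ?_ hodd ?_
  · intro t ht g
    obtain ⟨v, hv, rfl⟩ := (mem_reflSet Q t).1 ht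
    rw [conj_reflection]
    exact (mem_reflSet Q _).2 ⟨_, _, rfl⟩
  · intro t ht
    obtain ⟨v, hv, rfl⟩ := (mem_reflSet Q t).1 ht
    obtain ⟨g, hg⟩ := exists_conj_reflection Q hQ w v hw hv (isSquare_of_two_eq_zero h2 _)
    exact ⟨g, hg.symm⟩
  · rw [card_reflSet Q hF hQ]
    exact hcop


section minus

open Cfsg.Agent.Lib.Helper5.OrthCard Cfsg.Agent.Lib.Helper5.OrthPlane

variable [DecidableEq F]

/-- `Ω₆⁻(2)`: 36 non-singular vectors -/
theorem card_nonzero_minus2 {a b : F} (hF : Fintype.card F = 2)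
    (han : ∀ v : Fin 2 → F, binForm a b v = 0 → v = 0) :
    Nat.card {w : (Fin 2 ⊕ Fin 2) ⊕ Fin 2 → F // genForm (binForm a b) 2 w ≠ 0} = 36 := by
  have h1 : Nat.card {w : (Fin 2 ⊕ Fin 2) ⊕ Fin 2 → F // genForm (binForm a b) 2 w ≠ 0} =
      Nat.card {w : (Fin 2 ⊕ Fin 2) ⊕ Fin 2 → F // genForm (binForm a b) 2 w = 1} := by
    apply Nat.card_congr
    apply Equiv.subtypeEquivRight
    intro w
    constructor
    · intro h
      exact (eq_zero_or_one hF _).resolve_left h
    · intro h
      rw [h]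
      exact one_ne_zero
  rw [h1, Cfsg.Agent.Lib.Helper6.OMMCount.card_level_minus a b han 2 1 one_ne_zero, hF]
  norm_num

end minus

end Cfsg.Agent.Lib.Helper3.OMMRefl
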