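import Mathlib
import Cfsg.Prelude
import Cfsg.Agent.Lib.Helper7.OMMNorm
import Cfsg.Agent.Lib.Helper3.OMMEichComm
import Cfsg.Agent.Lib.Helper3.OMMLine

set_option autoImplicit false
set_option linter.unusedSectionVars false
set_option linter.unusedVariables false
set_option linter.style.haveILetI false
open Cfsg

/-!
Farm OMM (statement S2346), unit TTRACE: the character value at the long root element
`tE = eich V e₂ e₃` in a multiplicity-one configuration, by the fixed point formula.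
-/

namespace Cfsg.Agent.Lib.Helper3.OMMTTrace

open Matrix QuadraticMap Cfsg.Agent.Lib.Helper5.CartanDieudonne Cfsg.Agent.Lib.Helper5.Refl
  Cfsg.Agent.Lib.Helper5.OrthCard Cfsg.Agent.Lib.Helper5.Siegel Cfsg.Agent.Lib.Helper5.QuadIsom
  Cfsg.Agent.Lib.Helper5.ReflGen Cfsg.Agent.Lib.Helper5.Eichler Cfsg.Agent.Lib.Helper5.SingGeom
  Cfsg.Agent.Lib.Helper5.OmegaGen Cfsg.Agent.Lib.Helper5.OmegaSimple Cfsg.Agent.Lib.Helper1.OMMG
  Cfsg.Agent.Lib.Helper1.OMMI Cfsg.Agent.Lib.Helper2.OMM Cfsg.Agent.Lib.Helper7.OMM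
  Cfsg.Agent.Lib.Helper3.OMMLine

/-- the subgroup of the elements commuting with an endomorphism -/
def commSub {G : Type*} [Group G] {V : Type*} [AddCommGroup V] [Module ℂ V]
    (ρ : Representation ℂ G V) (P : Module.End ℂ V) : Subgroup G where
  carrier := {g | ρ g * P = P * ρ g}
  one_mem' := by
    show ρ 1 * P = P * ρ 1
    rw [map_one, one_mul, mul_one]
  mul_mem' := by
    intro a b ha hb
    show ρ (a * b) * P = P * ρ (a * b)
    have ha' : ρ a * P = P * ρ a := ha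
    have hb' : ρ b * P = P * ρ b := hb
    rw [map_mul, mul_assoc, hb', ← mul_assoc, ha', mul_assoc]
  inv_mem' := by
    intro a ha
    exact comm_inv ρ P a ha

theorem mem_commSub {G : Type*} [Group G] {V : Type*} [AddCommGroup V] [Module ℂ V]
    (ρ : Representation ℂ G V) (P : Module.End ℂ V) (g : G) :
    g ∈ commSub ρ P ↔ ρ g * P = P * ρ g := Iff.rfl

section tower
variable {F : Type*} [Field F] [Fintype F] [DecidableEq F]
variable {κ : Type} [Fintype κ] [DecidableEq κ] {Qc : QuadraticForm F (κ → F)}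

/-- the fixed points of `E_{e₂,e₃}` on `W` -/
theorem E_fix_iff (w : K2 κ → F) :
    eichlerMap (Q2 Qc) (eH F (K1 κ)) (ext0 (eH F κ)) w = w ↔
      w (Sum.inl 1) = 0 ∧ w (Sum.inr (Sum.inl 1)) = 0 := by
  have hpol : polar ⇑(Q2 Qc) (ext0 (eH F κ)) w = w (Sum.inr (Sum.inl 1)) := by
    rw [polar_comm, polar_ext0, polar_comm, polar_eH]
  rw [eichlerMap_apply, polar_eH, hpol, hypExt_ext0, hypExt_eH, zero_mul, add_zero]
  constructor
  · intro h
    have h0 := congrFun h (Sum.inl 0)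
    have h1 := congrFun h (Sum.inr (Sum.inl 0))
    simp [eH, ext0] at h0 h1
    exact ⟨h1, h0⟩
  · rintro ⟨h1, h2⟩
    rw [h1, h2]
    simp

/-- `E_{e₂, z}` (`z` in the core) fixes `w` when `w ⊥ e₂` and the core part of `w` is `⊥ z` -/
theorem E2_fix (z : κ → F) (w : K2 κ → F) (h1 : w (Sum.inl 1) = 0)
    (h2 : polar ⇑Qc z (fun k => w (Sum.inr (Sum.inr k))) = 0) :
    eichlerMap (Q2 Qc) (eH F (K1 κ)) (ext0 (ext0 z)) w = w := by
  have hpol : polar ⇑(Q2 Qc) (ext0 (ext0 z)) w = 0 := by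
    rw [polar_comm, polar_ext0, polar_ext0, polar_comm]
    exact h2
  rw [eichlerMap_apply, polar_eH, hpol, h1]
  simp

/-- `E_{e₃, z'}` (`z'` in the core) fixes `w` when `w ⊥ e₃` and the core part of `w` is `⊥ z'` -/
theorem E3_fix (z' : κ → F) (w : K2 κ → F) (h1 : w (Sum.inr (Sum.inl 1)) = 0)
    (h2 : polar ⇑Qc z' (fun k => w (Sum.inr (Sum.inr k))) = 0) :
    eichlerMap (Q2 Qc) (ext0 (eH F κ)) (ext0 (ext0 z')) w = w := by
  have hpol : polar ⇑(Q2 Qc) (ext0 (ext0 z')) w = 0 := by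
    rw [polar_comm, polar_ext0, polar_ext0, polar_comm]
    exact h2
  have hpol' : polar ⇑(Q2 Qc) (ext0 (eH F κ)) w = 0 := by
    rw [polar_comm, polar_ext0, polar_comm, polar_eH]
    exact h1
  rw [eichlerMap_apply, hpol, hpol']
  simp

/-- the core part of a fixed vector -/
theorem Q2_of_fix (w : K2 κ → F) (h1 : w (Sum.inl 1) = 0) (h2 : w (Sum.inr (Sum.inl 1)) = 0) :
    Q2 Qc w = Qc (fun k => w (Sum.inr (Sum.inr k))) := by
  show hypExt (hypExt Qc) w = _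
  rw [hypExt_apply, hypExt_apply, h1, h2]
  simp

/-- `tE` is a commutator of two Eichler elements -/
theorem tE_eq_comm (H : Hyp (Q3 Qc)) (z z' : κ → F) (hzz' : polar ⇑Qc z z' = 1) :
    tE H = uP H (ext0 z) * eO H (em2 (eH F κ)) (em2 (ext0 z')) Q3_e3 (polar_e3_em3 z') *
      (uP H (ext0 z))⁻¹ * (eO H (em2 (eH F κ)) (em2 (ext0 z')) Q3_e3 (polar_e3_em3 z'))⁻¹ := by
  apply Subtype.ext
  rw [Subgroup.coe_mul, Subgroup.coe_mul, Subgroup.coe_mul, Subgroup.coe_inv, Subgroup.coe_inv]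
  unfold tE uP
  rw [eO_coe, eO_coe, eO_coe]
  rw [Cfsg.Agent.Lib.Helper3.OMMEichComm.eich_commutator (Q3 Qc) (e2 F κ) (em2 (eH F κ))
    (em2 (ext0 z)) (em2 (ext0 z')) (Q3_e2 Qc) Q3_e3 (polar_e2_em2 Qc _) (polar_e2_em2 Qc _)
    (polar_e3_em3 z) (polar_e2_em2 Qc _) (polar_e3_em3 z')]
  apply Cfsg.Agent.Lib.Helper3.OMMEichComm.eich_congr (Q3 Qc) _ _ _ _ rfl
  have : polar ⇑(Q3 Qc) (em2 (ext0 z)) (em2 (ext0 z')) = 1 := by
    show polar ⇑(hypExt (hypExt (hypExt Qc))) (ext0 (ext0 (ext0 z))) (ext0 (ext0 (ext0 z'))) = 1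
    rw [Cfsg.Agent.Lib.Helper5.OMMLevi.polar_ext0_ext0,
      Cfsg.Agent.Lib.Helper5.OMMLevi.polar_ext0_ext0,
      Cfsg.Agent.Lib.Helper5.OMMLevi.polar_ext0_ext0, hzz']
  rw [this, one_smul]

variable (ψ : AddChar F ℂ) (hψ : ∃ c, ψ c ≠ 1) (hnd : (polarBilin Qc).Nondegenerate)
  (H : Hyp (Q3 Qc))
variable {V : Type*} [AddCommGroup V] [Module ℂ V] [FiniteDimensional ℂ V]

/-- **TTRACE** for a general finite dimensional module -/
theorem character_tE_gen (ρ : Representation ℂ (GG Qc) V) (c : F)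
    (hL : LevelOne ψ hψ hnd H ρ c)
    (hpair : ∀ b : κ → F, Qc b = c → ∃ z z' : κ → F, polar ⇑Qc z b = 0 ∧ polar ⇑Qc z' b = 0 ∧
      polar ⇑Qc z z' = 1) :
    ρ.character (tE H) = LinearMap.trace ℂ V (ρ (tE H) * (DU ψ hψ hnd H).eI ρ 0) +
      ∑ w : K2 κ → F, (if w ≠ 0 ∧ Q2 Qc w = c ∧ w (Sum.inl 1) = 0 ∧
        w (Sum.inr (Sum.inl 1)) = 0 then (1 : ℂ) else 0) := by
  classical
  have hsing : Q2 Qc (eH F (K1 κ)) = 0 := hypExt_eH (Q1 Qc)
  have hperp : polar ⇑(Q2 Qc) (eH F (K1 κ)) (ext0 (eH F κ)) = 0 := polar_eH_ext0 (Q1 Qc) _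
  have hfp := (DU ψ hψ hnd H).fixed_point_formula ρ (tE H)
    (fun a => eichlerMap (Q2 Qc) (eH F (K1 κ)) (ext0 (eH F κ)) a)
    (conj_uE_uP H (eH F κ)) (eichlerMap_bijective (Q2 Qc) _ _ hsing hperp)
    (fun a => eichlerMap (Q2 Qc) (eH F (K1 κ)) (ext0 (eH F κ)) a)
    (fun i a => by rw [DU_lam, DU_lam, polar_eichlerMap (Q2 Qc) _ _ hsing hperp]) 0
    (fun i => Q2 Qc i = c)
    (fun i hi0 hfix hP => hL.2 i hi0 hP)
    (fun i hi0 hfix hP => by
      refine ⟨hL.1 i hi0 hP, commSub ρ ((DU ψ hψ hnd H).eI ρ i), fun g hg => hg, ?_⟩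
      obtain ⟨h1, h2⟩ := (E_fix_iff i).mp hfix
      have hQb : Qc (fun k => i (Sum.inr (Sum.inr k))) = c := by
        rw [← Q2_of_fix i h1 h2]
        exact hP
      obtain ⟨z, z', hz, hz', hzz'⟩ := hpair _ hQb
      have hg₁ : uP H (ext0 z) ∈ commSub ρ ((DU ψ hψ hnd H).eI ρ i) := by
        rw [mem_commSub]
        have h := eI_comm_uP_DU ψ hψ hnd H ρ (ext0 z) i
        rw [E2_fix z i h1 hz] at h
        exact h
      have hg₂ : eO H (em2 (eH F κ)) (em2 (ext0 z')) Q3_e3 (polar_e3_em3 z') ∈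
          commSub ρ ((DU ψ hψ hnd H).eI ρ i) := by
        rw [mem_commSub]
        have h := eI_comm_eO_DU ψ hψ hnd H ρ (ext0 (eH F κ)) (ext0 (ext0 z'))
          (ext0_sing (Q1 Qc) (hypExt_eH Qc)) (ext0_perp (Q1 Qc) (polar_eH_ext0 Qc z'))
          Q3_e3 (polar_e3_em3 z') i
        rw [E3_fix z' i h2 hz'] at h
        exact h
      have hc := Subgroup.commutator_mem_commutator hg₁ hg₂
      rw [commutatorElement_def] at hc
      rw [tE_eq_comm H z z' hzz']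
      exact hc)
  rw [hfp]
  congr 1
  rw [Finset.natCast_card_filter]
  refine Finset.sum_congr rfl fun w _ => ?_
  refine if_congr ?_ rfl rfl
  constructor
  · rintro ⟨h0, hfix, hP⟩
    obtain ⟨h1, h2⟩ := (E_fix_iff w).mp hfix
    exact ⟨h0, hP, h1, h2⟩
  · rintro ⟨h0, hP, h1, h2⟩
    exact ⟨h0, (E_fix_iff w).mpr ⟨h1, h2⟩, hP⟩

/-- **TTRACE** (blueprint statement) -/
theorem character_tE {k : ℕ} (ρ : Representation ℂ (GG Qc) (Fin k → ℂ)) (c : F)
    (hL : LevelOne ψ hψ hnd H ρ c)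
    (hpair : ∀ b : κ → F, Qc b = c → ∃ z z' : κ → F, polar ⇑Qc z b = 0 ∧ polar ⇑Qc z' b = 0 ∧
      polar ⇑Qc z z' = 1) :
    ρ.character (tE H) =
      LinearMap.trace ℂ (Fin k → ℂ) (ρ (tE H) * (DU ψ hψ hnd H).eI ρ 0) +
      ∑ w : K2 κ → F, (if w ≠ 0 ∧ Q2 Qc w = c ∧ w (Sum.inl 1) = 0 ∧
        w (Sum.inr (Sum.inl 1)) = 0 then (1 : ℂ) else 0) :=
  character_tE_gen ψ hψ hnd H ρ c hL hpair

end tower

end Cfsg.Agent.Lib.Helper3.OMMTTrace
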