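import Mathlib
import Cfsg.Prelude
import Cfsg.Agent.Lib.Helper5.PlusGeom
import Cfsg.Agent.Lib.Helper5.Eichler

set_option autoImplicit false
set_option maxHeartbeats 4000000
set_option maxRecDepth 100000
set_option linter.unusedVariables false
set_option linter.unusedSectionVars false
set_option linter.style.haveILetI false
set_option linter.deprecated false

/-! Sylow 2-subgroups of the full orthogonal group of plus type over the field with two elements
meet pairwise non-trivially: the pointwise stabiliser of a totally singular subspace of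
dimension `m - 1` is a 2-group, and any subspace of codimension at least two is fixed pointwise by
a reflection or a Siegel transformation. -/

namespace Cfsg.Agent.Lib.Helper3.OPlusSyl

open scoped Pointwise

open Matrix QuadraticMap Cfsg Cfsg.Agent.Lib.Helper5.CartanDieudonne Cfsg.Agent.Lib.Helper5.Refl
  Cfsg.Agent.Lib.Helper5.Siegel Cfsg.Agent.Lib.Helper5.Eichler Cfsg.Agent.Lib.Helper5
  Cfsg.Agent.Lib.Helper5.PlusGeom Module

section general

variable {ι : Type} [Fintype ι] [DecidableEq ι] {F : Type*} [Field F]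

theorem act_one' (Q : QuadraticForm F (ι → F)) (x : ι → F) :
    act Q (1 : ↥(isometryGroup F ⇑Q)) x = x := by
  show ((1 : Matrix ι ι F)) *ᵥ x = x
  rw [Matrix.one_mulVec]

theorem act_inv_act' (Q : QuadraticForm F (ι → F)) (a : ↥(isometryGroup F ⇑Q)) (x : ι → F) :
    act Q a⁻¹ (act Q a x) = x := by
  have h := act_inv_act Q a⁻¹ x
  rwa [inv_inv] at h

/-- a family of at most `dim - 2` vectors is fixed by a non-trivial isometry -/
theorem exists_fix_family (Q : QuadraticForm F (ι → F)) (hQ : (polarBilin Q).Nondegenerate)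
    {κ : Type} [Fintype κ] (v : κ → ι → F) (hκ : Fintype.card κ + 2 ≤ Fintype.card ι) :
    ∃ t : ↥(isometryGroup F ⇑Q), t ≠ 1 ∧ ∀ k, act Q t (v k) = v k := by
  classical
  set φ : (ι → F) →ₗ[F] (κ → F) := LinearMap.pi (fun k => polarBilin Q (v k)) with hφ
  have hmem : ∀ x ∈ LinearMap.ker φ, ∀ k, polar ⇑Q (v k) x = 0 := by
    intro x hx k
    have h1 : φ x = 0 := LinearMap.mem_ker.mp hx
    have h2 := congrFun h1 k
    simpa [hφ] using h2
  have hK : 2 ≤ finrank F (LinearMap.ker φ) := by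
    have h1 := LinearMap.finrank_range_add_finrank_ker φ
    have h2 : finrank F (LinearMap.range φ) ≤ finrank F (κ → F) := Submodule.finrank_le _
    rw [Module.finrank_fintype_fun_eq_card] at h1 h2
    omega
  have hnd : ∀ x : ι → F, x ≠ 0 → ∃ y, polar ⇑Q x y ≠ 0 := by
    intro x hx
    by_contra hcon
    push Not at hcon
    exact hx (hQ.1 x (fun y => by simpa using hcon y))
  by_cases h : ∃ x ∈ LinearMap.ker φ, Q x ≠ 0
  · obtain ⟨x, hx, hQx⟩ := h
    refine ⟨reflection Q x hQx, ?_, ?_⟩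
    · have hx0 : x ≠ 0 := by
        rintro rfl
        exact hQx (map_zero Q)
      obtain ⟨y, hy⟩ := hnd x hx0
      intro h1
      have h2 : act Q (reflection Q x hQx) y = y := by rw [h1, act_one']
      rw [act_reflection] at h2
      have h3 : ((Q x)⁻¹ * polar ⇑Q x y) • x = 0 := by
        have := sub_eq_self.mp h2
        exact this
      rcases smul_eq_zero.mp h3 with h4 | h4
      · exact (mul_ne_zero (inv_ne_zero hQx) hy) h4
      · exact hx0 h4
    · intro k
      rw [act_reflection, polar_comm, hmem x hx k, mul_zero, zero_smul, sub_zero]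
  · push Not at h
    have hpos : 0 < finrank F (LinearMap.ker φ) := by omega
    obtain ⟨u, hu0⟩ := (Module.finrank_pos_iff_exists_ne_zero).mp hpos
    obtain ⟨w, hli⟩ := exists_linearIndependent_pair_of_one_lt_finrank (R := F) (by omega) hu0
    have hQu : Q (u : ι → F) = 0 := h _ u.2
    have hQw : Q (w : ι → F) = 0 := h _ w.2
    have huw : polar ⇑Q (u : ι → F) (w : ι → F) = 0 := by
      have h3 : Q ((u : ι → F) + (w : ι → F)) = 0 := h _ (Submodule.add_mem _ u.2 w.2)
      unfold polar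
      rw [h3, hQu, hQw]
      ring
    refine ⟨siegel Q u w hQu hQw huw 1, ?_, ?_⟩
    · have hu0' : (u : ι → F) ≠ 0 := fun hh => hu0 (Subtype.ext hh)
      obtain ⟨y, hy⟩ := hnd _ hu0'
      intro h1
      have h2 : act Q (siegel Q u w hQu hQw huw 1) y = y := by rw [h1, act_one']
      rw [act_siegel] at h2
      have h3 : (polar ⇑Q (u : ι → F) y) • (w : ι → F) - (polar ⇑Q (w : ι → F) y) • (u : ι → F) = 0 := by
        have h4 : y + ((1 * polar ⇑Q (u : ι → F) y) • (w : ι → F)
            - (1 * polar ⇑Q (w : ι → F) y) • (u : ι → F)) = y := by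
          rw [← add_sub_assoc]
          exact h2
        have h5 := add_eq_left.mp h4
        simpa using h5
      rw [LinearIndependent.pair_iff] at hli
      have h6 := hli (-(polar ⇑Q (w : ι → F) y)) (polar ⇑Q (u : ι → F) y) (by
        apply Subtype.ext
        simp only [Submodule.coe_add, Submodule.coe_smul, Submodule.coe_zero]
        rw [← h3]
        simp only [neg_smul]
        abel)
      exact hy h6.2
    · intro k
      rw [act_siegel]
      have h1 : polar ⇑Q (u : ι → F) (v k) = 0 := by rw [polar_comm]; exact hmem _ u.2 k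
      have h2 : polar ⇑Q (w : ι → F) (v k) = 0 := by rw [polar_comm]; exact hmem _ w.2 k
      rw [h1, h2]
      simp

theorem act_sum (Q : QuadraticForm F (ι → F)) (g : ↥(isometryGroup F ⇑Q)) {κ : Type} (s : Finset κ)
    (c : κ → F) (e : κ → ι → F) :
    act Q g (∑ i ∈ s, c i • e i) = ∑ i ∈ s, c i • act Q g (e i) := by
  classical
  induction s using Finset.induction_on with
  | empty =>
    simp only [Finset.sum_empty]
    show ((g : Matrix.GeneralLinearGroup ι F) : Matrix ι ι F) *ᵥ 0 = 0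
    rw [Matrix.mulVec_zero]
  | insert a s ha ih =>
    rw [Finset.sum_insert ha, Finset.sum_insert ha, act_add, act_smul, ih]

end general

section plus

variable {F : Type*} [Field F] {m : ℕ}

/-- the pointwise stabiliser of the totally singular subspace spanned by the `inl i`, `i ≠ i₀` -/
def fixGrp (i₀ : Fin m) : Subgroup ↥(isometryGroup F ⇑(plusForm m F)) where
  carrier := {g | ∀ i, i ≠ i₀ →
    act (plusForm m F) g (Pi.single (Sum.inl i) 1) = Pi.single (Sum.inl i) 1}
  mul_mem' := by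
    intro a b ha hb i hi
    show act (plusForm m F) (a * b) _ = _
    rw [act_mul, hb i hi, ha i hi]
  one_mem' := fun i hi => act_one' _ _
  inv_mem' := by
    intro a ha i hi
    have := act_inv_act' (plusForm m F) a (Pi.single (Sum.inl i) 1)
    rw [ha i hi] at this
    exact this

theorem mem_fixGrp (i₀ : Fin m) (g : ↥(isometryGroup F ⇑(plusForm m F))) :
    g ∈ fixGrp i₀ ↔ ∀ i, i ≠ i₀ →
      act (plusForm m F) g (Pi.single (Sum.inl i) 1) = Pi.single (Sum.inl i) 1 := Iff.rfl

theorem fix_of_coords (i₀ : Fin m) (g : ↥(isometryGroup F ⇑(plusForm m F))) (hg : g ∈ fixGrp i₀)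
    (z : Fin m ⊕ Fin m → F) (h1 : ∀ i, z (Sum.inr i) = 0) (h2 : z (Sum.inl i₀) = 0) :
    act (plusForm m F) g z = z := by
  have hz : z = ∑ i : Fin m, z (Sum.inl i) • (Pi.single (Sum.inl i) 1 : Fin m ⊕ Fin m → F) := by
    funext j
    rcases j with j | j
    · simp [Finset.sum_apply, Pi.single_apply]
    · simp [Finset.sum_apply, Pi.single_apply, h1 j]
  have h3 : act (plusForm m F) g
      (∑ i : Fin m, z (Sum.inl i) • (Pi.single (Sum.inl i) 1 : Fin m ⊕ Fin m → F)) =
      ∑ i : Fin m, z (Sum.inl i) • (Pi.single (Sum.inl i) 1 : Fin m ⊕ Fin m → F) := by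
    rw [act_sum]
    apply Finset.sum_congr rfl
    intro i _
    by_cases hi : i = i₀
    · subst hi
      rw [h2, zero_smul, zero_smul]
    · rw [hg i hi]
  rw [← hz] at h3
  exact h3

theorem coord_inr (i₀ : Fin m) (g : ↥(isometryGroup F ⇑(plusForm m F))) (hg : g ∈ fixGrp i₀)
    (x : Fin m ⊕ Fin m → F) (i : Fin m) (hi : i ≠ i₀) :
    (act (plusForm m F) g x) (Sum.inr i) = x (Sum.inr i) := by
  rw [← polar_single_inl m (act (plusForm m F) g x) i, ← polar_single_inl m x i]
  have h := polar_act (plusForm m F) g x (Pi.single (Sum.inl i) 1)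
  rw [hg i hi] at h
  exact h

theorem f2_cases [Fintype F] (hq : Fintype.card F = 2) (a : F) : a = 0 ∨ a = 1 := by
  by_cases ha : a = 0
  · exact Or.inl ha
  · right
    have h1 := FiniteField.pow_card_sub_one_eq_one a ha
    rw [hq] at h1
    simpa using h1

theorem f2_add_self [Fintype F] (hq : Fintype.card F = 2) (a : F) : a + a = 0 := by
  have h2 : (1 : F) + 1 = 0 := by
    rcases f2_cases hq ((1 : F) + 1) with h | h
    · exact h
    · exfalso
      have : (1 : F) = 0 := by linear_combination h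
      exact one_ne_zero this
  linear_combination a * h2

theorem quad_of_perp (i₀ : Fin m) (x : Fin m ⊕ Fin m → F)
    (hx : ∀ i, i ≠ i₀ → x (Sum.inr i) = 0) :
    plusForm m F x = x (Sum.inl i₀) * x (Sum.inr i₀) := by
  rw [plusForm_apply]
  unfold Cfsg.quadFormPlus
  apply Finset.sum_eq_single i₀
  · intro i _ hi
    rw [hx i hi, mul_zero]
  · intro h
    exact absurd (Finset.mem_univ _) h

theorem pow_four_eq_one [Fintype F] (hq : Fintype.card F = 2) (i₀ : Fin m)
    (g : ↥(isometryGroup F ⇑(plusForm m F))) (hg : g ∈ fixGrp i₀) : g ^ 4 = 1 := by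
  classical
  have hadd := f2_add_self hq
  set e₀ : Fin m ⊕ Fin m → F := Pi.single (Sum.inl i₀) 1 with he₀
  set f₀ : Fin m ⊕ Fin m → F := Pi.single (Sum.inr i₀) 1 with hf₀
  have hperp_g : ∀ x : Fin m ⊕ Fin m → F, (∀ i, i ≠ i₀ → x (Sum.inr i) = 0) →
      ∀ i, i ≠ i₀ → (act (plusForm m F) g x) (Sum.inr i) = 0 := by
    intro x hx i hi
    rw [coord_inr i₀ g hg x i hi, hx i hi]
  have hpe : ∀ i, i ≠ i₀ → e₀ (Sum.inr i) = 0 := by
    intro i hi
    simp [he₀]
  have hpf : ∀ i, i ≠ i₀ → f₀ (Sum.inr i) = 0 := by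
    intro i hi
    simp [hf₀, Pi.single_apply, hi]
  set a₁ := (act (plusForm m F) g e₀) (Sum.inl i₀) with ha₁
  set b₁ := (act (plusForm m F) g e₀) (Sum.inr i₀) with hb₁
  set a₂ := (act (plusForm m F) g f₀) (Sum.inl i₀) with ha₂
  set b₂ := (act (plusForm m F) g f₀) (Sum.inr i₀) with hb₂
  have c1 : a₁ * b₁ = 0 := by
    rw [ha₁, hb₁, ← quad_of_perp i₀ (act (plusForm m F) g e₀) (hperp_g e₀ hpe), quad_act, he₀,
      plus_single_inl]
  have c2 : a₂ * b₂ = 0 := by
    rw [ha₂, hb₂, ← quad_of_perp i₀ (act (plusForm m F) g f₀) (hperp_g f₀ hpf), quad_act, hf₀,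
      plus_single_inr]
  have c3 : (a₁ + a₂) * (b₁ + b₂) = 1 := by
    have hp : ∀ i, i ≠ i₀ → (e₀ + f₀) (Sum.inr i) = 0 := by
      intro i hi
      rw [Pi.add_apply, hpe i hi, hpf i hi, add_zero]
    have h1 := quad_of_perp i₀ (act (plusForm m F) g (e₀ + f₀)) (hperp_g _ hp)
    rw [quad_act, quad_of_perp i₀ (e₀ + f₀) hp, act_add] at h1
    simp only [Pi.add_apply] at h1
    rw [← ha₁, ← hb₁, ← ha₂, ← hb₂] at h1
    rw [← h1]
    simp [he₀, hf₀]
  have hcases : (a₁ = 1 ∧ b₁ = 0 ∧ a₂ = 0 ∧ b₂ = 1) ∨ (a₁ = 0 ∧ b₁ = 1 ∧ a₂ = 1 ∧ b₂ = 0) := by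
    rcases f2_cases hq a₁ with h1 | h1 <;> rcases f2_cases hq b₁ with h2 | h2 <;>
      rcases f2_cases hq a₂ with h3 | h3 <;> rcases f2_cases hq b₂ with h4 | h4 <;>
      simp [h1, h2, h3, h4, hadd] at c1 c2 c3 ⊢
  -- coordinates of the image of a vector of the perp
  have hcoord : ∀ y : Fin m ⊕ Fin m → F, (∀ i, i ≠ i₀ → y (Sum.inr i) = 0) →
      (act (plusForm m F) g y) (Sum.inl i₀) = y (Sum.inl i₀) * a₁ + y (Sum.inr i₀) * a₂ ∧
      (act (plusForm m F) g y) (Sum.inr i₀) = y (Sum.inl i₀) * b₁ + y (Sum.inr i₀) * b₂ := by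
    intro y hy
    set u : Fin m ⊕ Fin m → F := y - y (Sum.inl i₀) • e₀ - y (Sum.inr i₀) • f₀ with hu
    have hu1 : ∀ i, u (Sum.inr i) = 0 := by
      intro i
      by_cases hi : i = i₀
      · subst hi
        simp [hu, he₀, hf₀]
      · simp [hu, he₀, hf₀, hy i hi, Pi.single_apply, hi]
    have hu2 : u (Sum.inl i₀) = 0 := by
      simp [hu, he₀, hf₀]
    have hfix := fix_of_coords i₀ g hg u hu1 hu2
    have hy' : y = u + y (Sum.inl i₀) • e₀ + y (Sum.inr i₀) • f₀ := by
      rw [hu]; abel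
    have hgy : act (plusForm m F) g y = u + y (Sum.inl i₀) • act (plusForm m F) g e₀ + y (Sum.inr i₀) • act (plusForm m F) g f₀ := by
      conv_lhs => rw [hy']
      rw [act_add, act_add, act_smul, act_smul, hfix]
    constructor
    · rw [hgy]
      simp only [Pi.add_apply, Pi.smul_apply, smul_eq_mul]
      rw [hu2, zero_add]
    · rw [hgy]
      simp only [Pi.add_apply, Pi.smul_apply, smul_eq_mul]
      rw [hu1 i₀, zero_add]
  -- g² - 1 maps the perp into the fixed subspace
  have hz : ∀ y : Fin m ⊕ Fin m → F, (∀ i, i ≠ i₀ → y (Sum.inr i) = 0) →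
      act (plusForm m F) g (act (plusForm m F) g (act (plusForm m F) g y) + y) = act (plusForm m F) g (act (plusForm m F) g y) + y := by
    intro y hy
    apply fix_of_coords i₀ g hg
    · intro i
      by_cases hi : i = i₀
      · subst hi
        rw [Pi.add_apply, (hcoord _ (hperp_g y hy)).2, (hcoord y hy).1, (hcoord y hy).2]
        rcases hcases with ⟨h1, h2, h3, h4⟩ | ⟨h1, h2, h3, h4⟩
        · rw [h1, h2, h3, h4]
          linear_combination hadd (y (Sum.inr i))
        · rw [h1, h2, h3, h4]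
          linear_combination hadd (y (Sum.inr i))
      · rw [Pi.add_apply, coord_inr i₀ g hg _ i hi, coord_inr i₀ g hg _ i hi]
        exact hadd _
    · rw [Pi.add_apply, (hcoord _ (hperp_g y hy)).1, (hcoord y hy).1, (hcoord y hy).2]
      rcases hcases with ⟨h1, h2, h3, h4⟩ | ⟨h1, h2, h3, h4⟩
      · rw [h1, h2, h3, h4]
        linear_combination hadd (y (Sum.inl i₀))
      · rw [h1, h2, h3, h4]
        linear_combination hadd (y (Sum.inl i₀))
  apply ext_act
  intro x
  rw [act_one']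
  have hy : ∀ i, i ≠ i₀ → (act (plusForm m F) g x + x) (Sum.inr i) = 0 := by
    intro i hi
    rw [Pi.add_apply, coord_inr i₀ g hg x i hi]
    exact hadd _
  have h1 := hz _ hy
  simp only [act_add] at h1
  have h4 : g ^ 4 = g * (g * (g * g)) := by
    rw [pow_succ, pow_succ, pow_succ, pow_one]
    simp only [mul_assoc]
  rw [h4, act_mul, act_mul, act_mul]
  linear_combination (norm := module) h1

theorem isPGroup_fixGrp [Fintype F] (hq : Fintype.card F = 2) (i₀ : Fin m) :
    IsPGroup 2 ↥(fixGrp (F := F) i₀) := by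
  intro g
  refine ⟨2, ?_⟩
  apply Subtype.ext
  rw [Subgroup.coe_pow, Subgroup.coe_one]
  exact pow_four_eq_one hq i₀ g.1 g.2

theorem conj_mem_fixGrp (i₀ : Fin m) (t d : ↥(isometryGroup F ⇑(plusForm m F)))
    (h : ∀ i, i ≠ i₀ → act (plusForm m F) t (act (plusForm m F) d (Pi.single (Sum.inl i) 1)) =
      act (plusForm m F) d (Pi.single (Sum.inl i) 1)) :
    d⁻¹ * t * d ∈ fixGrp i₀ := by
  intro i hi
  show act (plusForm m F) (d⁻¹ * t * d) _ = _
  rw [act_mul, act_mul, h i hi, act_inv_act']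

theorem sylow_meet [Fintype F] (hq : Fintype.card F = 2) (hm : 1 ≤ m)
    (H : Sylow 2 ↥(isometryGroup F ⇑(plusForm m F))) (x : ↥(isometryGroup F ⇑(plusForm m F))) :
    (H : Subgroup ↥(isometryGroup F ⇑(plusForm m F))) ⊓
      MulAut.conj x • (H : Subgroup ↥(isometryGroup F ⇑(plusForm m F))) ≠ ⊥ := by
  classical
  haveI : Finite ↥(isometryGroup F ⇑(plusForm m F)) := inferInstance
  set i₀ : Fin m := ⟨0, hm⟩ with hi₀
  obtain ⟨H₀, hH₀⟩ := (isPGroup_fixGrp hq i₀).exists_le_sylow
  obtain ⟨c, hc⟩ := MulAction.exists_smul_eq ↥(isometryGroup F ⇑(plusForm m F)) H₀ H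
  let v : {i : Fin m // i ≠ i₀} ⊕ {i : Fin m // i ≠ i₀} → (Fin m ⊕ Fin m → F) :=
    Sum.elim (fun i => act (plusForm m F) c (Pi.single (Sum.inl i.1) 1))
      (fun i => act (plusForm m F) (x * c) (Pi.single (Sum.inl i.1) 1))
  have hκ : Fintype.card ({i : Fin m // i ≠ i₀} ⊕ {i : Fin m // i ≠ i₀}) + 2 ≤
      Fintype.card (Fin m ⊕ Fin m) := by
    have h1 : Fintype.card {i : Fin m // i ≠ i₀} = m - 1 := by
      rw [Fintype.card_subtype_compl, Fintype.card_fin, Fintype.card_subtype_eq]
    rw [Fintype.card_sum, Fintype.card_sum, h1, Fintype.card_fin]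
    omega
  obtain ⟨t, ht1, htv⟩ := exists_fix_family (plusForm m F) (plus_nondegenerate m) v hκ
  have hA : c⁻¹ * t * c ∈ fixGrp i₀ := conj_mem_fixGrp i₀ t c (fun i hi => htv (Sum.inl ⟨i, hi⟩))
  have hB : (x * c)⁻¹ * t * (x * c) ∈ fixGrp i₀ :=
    conj_mem_fixGrp i₀ t (x * c) (fun i hi => htv (Sum.inr ⟨i, hi⟩))
  have hH : (H : Subgroup ↥(isometryGroup F ⇑(plusForm m F))) =
      MulAut.conj c • (H₀ : Subgroup ↥(isometryGroup F ⇑(plusForm m F))) := by
    rw [← hc, Sylow.coe_subgroup_smul]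
  intro hbot
  have hmem : t ∈ (H : Subgroup ↥(isometryGroup F ⇑(plusForm m F))) ⊓
      MulAut.conj x • (H : Subgroup ↥(isometryGroup F ⇑(plusForm m F))) := by
    refine Subgroup.mem_inf.mpr ⟨?_, ?_⟩
    · rw [hH, Subgroup.mem_pointwise_smul_iff_inv_smul_mem, MulAut.smul_def, MulAut.conj_inv_apply]
      exact hH₀ hA
    · rw [Subgroup.mem_pointwise_smul_iff_inv_smul_mem, MulAut.smul_def, MulAut.conj_inv_apply, hH,
        Subgroup.mem_pointwise_smul_iff_inv_smul_mem, MulAut.smul_def, MulAut.conj_inv_apply]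
      have : c⁻¹ * (x⁻¹ * t * x) * c = (x * c)⁻¹ * t * (x * c) := by group
      rw [this]
      exact hH₀ hB
  rw [hbot] at hmem
  exact ht1 (Subgroup.mem_bot.mp hmem)

end plus

end Cfsg.Agent.Lib.Helper3.OPlusSyl
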