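import Mathlib
import Cfsg.Agent.Lib.Helper5.OS.Defs
import Cfsg.Agent.Lib.Helper1.ThompsonFPF5

set_option autoImplicit false
set_option maxHeartbeats 4000000
set_option maxRecDepth 100000
set_option linter.unusedVariables false
set_option linter.unusedSectionVars false
set_option linter.style.longLine false
set_option linter.style.haveILetI false
set_option linter.deprecated false
set_option linter.unusedSimpArgs false

/-! # S3421, piece P4: `G` is simple -/

namespace Cfsg.Agent.Lib.Helper3.OS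

open Cfsg.Agent.Lib.Helper5.OS
open scoped Pointwise

variable {G : Type*} [Group G] [Finite G] {p q n m : ℕ}

/-- A Sylow `r`-subgroup of `N` (normal, `r ∣ |N|`, `r ∣ m`) can be chosen inside `M`, with the Frattini
factorization. -/
theorem exists_sylow_in_M (h : Hyp G p q n m) {M : Subgroup G} {z : G} (hM : MData G m M z)
    (N : Subgroup G) [N.Normal] {r : ℕ} (hr : r.Prime) (hrN : r ∣ Nat.card N) (hrm : r ∣ m) :
    ∃ Q : Subgroup G, Q ≤ N ∧ Q ≤ M ∧ Q ≠ ⊥ ∧ Subgroup.normalizer (Q : Set G) ⊔ N = ⊤ := by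
  haveI := Fact.mk hr
  -- Sylow of M is Sylow of G
  let RM0 : Sylow r M := default
  have hRMp : IsPGroup r ((RM0 : Subgroup M).map M.subtype) := RM0.2.map _
  have hmpos : 0 < m := by have := h.m_ge; omega
  have hMidx : M.index = q * (2 * n) := by
    have h1 := M.card_mul_index
    rw [hM.card, h.card] at h1
    have : m * M.index = m * (q * (2 * n)) := by rw [h1]; ring
    exact Nat.eq_of_mul_eq_mul_left hmpos this
  have hrq2n : ¬ r ∣ q * (2 * n) := by
    intro hd
    have hc : Nat.Coprime (q * (2 * n)) m := Nat.Coprime.mul_left h.cop_qm h.cop_2n_m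
    have h1 : r ∣ Nat.gcd (q * (2 * n)) m := Nat.dvd_gcd hd hrm
    rw [hc] at h1
    exact hr.one_lt.ne' (Nat.dvd_one.1 h1)
  have hnd : ¬ r ∣ ((RM0 : Subgroup M).map M.subtype).index := by
    rw [Subgroup.index_map_subtype, hMidx]
    intro hd
    rcases (Nat.Prime.dvd_mul hr).mp hd with h1 | h1
    · exact RM0.not_dvd_index h1
    · exact hrq2n h1
  let P : Sylow r G := hRMp.toSylow hnd
  have hPcoe : (P : Subgroup G) = (RM0 : Subgroup M).map M.subtype := rfl
  have hPM : (P : Subgroup G) ≤ M := by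
    rw [hPcoe]
    rintro _ ⟨x, hx, rfl⟩
    exact x.2
  -- Sylow of N
  let Q0 : Sylow r N := default
  have hF := Sylow.normalizer_sup_eq_top Q0
  have hQ1p : IsPGroup r ((Q0 : Subgroup N).map N.subtype) := Q0.2.map _
  obtain ⟨P', hP'⟩ := hQ1p.exists_le_sylow
  obtain ⟨g, hg⟩ := MulAction.exists_smul_eq G P P'
  -- the conjugated Sylow subgroup of N
  let Q0' : Sylow r N := (MulAut.conjNormal g⁻¹ : MulAut N) • Q0
  have hF' := Sylow.normalizer_sup_eq_top Q0'
  refine ⟨(Q0' : Subgroup N).map N.subtype, ?_, ?_, ?_, hF'⟩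
  · rintro _ ⟨x, hx, rfl⟩
    exact x.2
  · rintro _ ⟨w, hw, rfl⟩
    apply hPM
    have hw' : w ∈ (MulAut.conjNormal g⁻¹ : MulAut N) • (Q0 : Subgroup N) := hw
    rw [Subgroup.mem_pointwise_smul_iff_inv_smul_mem] at hw'
    have hw2 : ((MulAut.conjNormal g⁻¹ : MulAut N)⁻¹ • w : N) = (MulAut.conjNormal g : MulAut N) w := by
      rw [← map_inv, inv_inv]; rfl
    rw [hw2] at hw'
    have h1 : (((MulAut.conjNormal g : MulAut N) w : N) : G) ∈ (Q0 : Subgroup N).map N.subtype :=
      ⟨_, hw', rfl⟩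
    have h2 := hP' h1
    rw [← hg, Sylow.coe_subgroup_smul, Subgroup.mem_pointwise_smul_iff_inv_smul_mem] at h2
    rw [MulAut.conjNormal_apply] at h2
    have h3 : (MulAut.conj g)⁻¹ • (g * (w : G) * g⁻¹) = (w : G) := by
      rw [MulAut.smul_def, MulAut.conj_inv_apply]; group
    rw [h3] at h2
    exact h2
  · intro hbot
    have h1 : (Q0' : Subgroup N) = ⊥ :=
      (Subgroup.map_eq_bot_iff_of_injective _ N.subtype_injective).mp hbot
    exact Q0'.ne_bot_of_dvd_card hrN h1

/-- (P4) `G` is simple. -/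
theorem isSimpleGroup_of (h : Hyp G p q n m) {M : Subgroup G} {z : G} (hM : MData G m M z)
    (hnil : ∀ N : Subgroup G, N.Normal → Group.IsNilpotent N → N = ⊥)
    (h2 : ∀ H : Subgroup G, H.index ≠ 2) : IsSimpleGroup G := by
  have hm3 := h.m_ge
  have hmodd := h.m_odd
  have hmpos : 0 < m := by omega
  haveI : Nontrivial G := by
    rw [← Finite.one_lt_card_iff_nontrivial, h.card]
    have := h.q5
    have := h.n_ge
    have h1 : 5 * 4 * 3 ≤ q * (2 * n) * m :=
      Nat.mul_le_mul (Nat.mul_le_mul h.q5 (by omega)) hm3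
    omega
  refine { exists_pair_ne := exists_pair_ne G, eq_bot_or_eq_top_of_normal := ?_ }
  intro N hN
  by_contra hcon
  push Not at hcon
  obtain ⟨hNb, hNt⟩ := hcon
  haveI := hN
  have hMcomm : ∀ a ∈ M, ∀ b ∈ M, a * b = b * a := by
    intro a ha b hb
    haveI := hM.cyc
    obtain ⟨g, hg⟩ := (inferInstance : IsCyclic M)
    obtain ⟨i, hi⟩ := hg ⟨a, ha⟩
    obtain ⟨j, hj⟩ := hg ⟨b, hb⟩
    have h1 : (⟨a, ha⟩ : M) * ⟨b, hb⟩ = ⟨b, hb⟩ * ⟨a, ha⟩ := by
      rw [← hi, ← hj, ← zpow_add, ← zpow_add, add_comm]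
    exact congrArg Subtype.val h1
  have hMpow : ∀ y ∈ M, y ^ m = 1 := by
    intro y hy
    have := pow_card_eq_one' (G := M) (x := ⟨y, hy⟩)
    rw [hM.card] at this
    exact congrArg Subtype.val this
  by_cases hcop : Nat.Coprime (Nat.card N) m
  · -- Case 1: an element of prime order of M acts fixed-point-freely on N
    obtain ⟨r, hr, hrm⟩ := Nat.exists_prime_and_dvd (show m ≠ 1 by omega)
    haveI := Fact.mk hr
    obtain ⟨y, hy⟩ := exists_prime_orderOf_dvd_card' (G := M) r (by rw [hM.card]; exact hrm)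
    have hyo : orderOf (y : G) = r := by rw [Subgroup.orderOf_coe]; exact hy
    have hy1 : (y : G) ≠ 1 := by
      intro e
      rw [e, orderOf_one] at hyo
      exact hr.one_lt.ne' hyo.symm
    let φ : MulAut N := MulAut.conjNormal (y : G)
    have hφr : φ ^ r = 1 := by
      show (MulAut.conjNormal (y : G) : MulAut N) ^ r = 1
      rw [← map_pow]
      have : (y : G) ^ r = 1 := by rw [← hyo]; exact pow_orderOf_eq_one _
      rw [this, map_one]
    have hfpf : MonoidHom.FixedPointFree ((φ : N ≃* N) : N →* N) := by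
      intro v hv
      have hv' : (y : G) * (v : G) * (y : G)⁻¹ = v := by
        have := congrArg Subtype.val hv
        simpa [φ, MulAut.conjNormal_apply] using this
      have hvM : (v : G) ∈ M := by
        rw [← hM.cent y y.2 hy1, Subgroup.mem_centralizer_singleton_iff]
        have := congrArg (fun w => w * (y : G)) hv'
        simp only [inv_mul_cancel_right] at this
        exact this.symm
      have h1 : orderOf (v : G) ∣ Nat.card N := by
        rw [Subgroup.orderOf_coe]; exact orderOf_dvd_natCard v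
      have h2' : orderOf (v : G) ∣ m := by
        rw [← hM.card]
        have := orderOf_dvd_natCard (⟨v, hvM⟩ : M)
        rwa [← Subgroup.orderOf_coe] at this
      have h3 : orderOf (v : G) ∣ Nat.gcd (Nat.card N) m := Nat.dvd_gcd h1 h2'
      rw [hcop] at h3
      exact Subtype.ext (orderOf_eq_one_iff.mp (Nat.dvd_one.mp h3))
    have hNnil := Cfsg.Agent.Lib.Helper1.ThompsonFPF.isNilpotent_of_fpf hr _ N rfl φ hfpf hφr
    exact hNb (hnil N hN hNnil)
  · -- Case 2
    obtain ⟨r, hr, hrN, hrm⟩ := Nat.Prime.not_coprime_iff_dvd.mp hcop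
    obtain ⟨Q, hQN, hQM, hQ1, hQF⟩ := exists_sylow_in_M h hM N hr hrN hrm
    have hNM : Subgroup.normalizer (Q : Set G) ≤ Subgroup.normalizer (M : Set G) := by
      intro x hx
      obtain ⟨y, hy1⟩ := (Subgroup.ne_bot_iff_exists_ne_one).mp hQ1
      have hyQ' : (y : G) ∈ Q := y.2
      have hy1' : (y : G) ≠ 1 := fun e => hy1 (Subtype.ext e)
      have hxy : x * (y : G) * x⁻¹ ∈ Q := (Subgroup.mem_normalizer_iff.mp hx (y : G)).mp hyQ'
      have hxy1 : x * (y : G) * x⁻¹ ≠ 1 := by
        intro e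
        apply hy1'
        have := congrArg (fun w => x⁻¹ * w * x) e
        simpa [mul_assoc] using this
      have e1 := hM.cent (y : G) (hQM hyQ') hy1'
      have e2 := hM.cent _ (hQM hxy) hxy1
      rw [Subgroup.mem_normalizer_iff]
      intro w
      constructor
      · intro hw
        rw [← e1, Subgroup.mem_centralizer_singleton_iff] at hw
        rw [← e2, Subgroup.mem_centralizer_singleton_iff]
        calc x * w * x⁻¹ * (x * (y : G) * x⁻¹) = x * (w * (y : G)) * x⁻¹ := by group
          _ = x * ((y : G) * w) * x⁻¹ := by rw [hw]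
          _ = x * (y : G) * x⁻¹ * (x * w * x⁻¹) := by group
      · intro hw
        rw [← e2, Subgroup.mem_centralizer_singleton_iff] at hw
        rw [← e1, Subgroup.mem_centralizer_singleton_iff]
        calc w * (y : G) = x⁻¹ * (x * w * x⁻¹ * (x * (y : G) * x⁻¹)) * x := by group
          _ = x⁻¹ * (x * (y : G) * x⁻¹ * (x * w * x⁻¹)) * x := by rw [hw]
          _ = (y : G) * w := by group
    have hF2 : Subgroup.normalizer (M : Set G) ⊔ N = ⊤ :=
      top_le_iff.mp (hQF ▸ sup_le_sup_right hNM N)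
    -- z ∉ M
    have hzM : z ∉ M := by
      intro hz
      -- pick y ∈ M of order r
      haveI := Fact.mk hr
      obtain ⟨y, hy⟩ := exists_prime_orderOf_dvd_card' (G := M) r (by rw [hM.card]; exact hrm)
      have hyo : orderOf (y : G) = r := by rw [Subgroup.orderOf_coe]; exact hy
      have h1 := hM.zinv y y.2
      have h2' := hMcomm z hz y y.2
      have h3 : (y : G) = (y : G)⁻¹ := by
        rw [← h1, h2']; group
      have h4 : (y : G) ^ 2 = 1 := by
        rw [pow_two]
        nth_rewrite 1 [h3]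
        group
      have h5 : r ∣ 2 := by rw [← hyo]; exact orderOf_dvd_of_pow_eq_one h4
      have h6 : r = 2 := (Nat.prime_dvd_prime_iff_eq hr Nat.prime_two).mp h5
      rw [h6] at hrm
      exact (Nat.not_even_iff_odd.mpr hmodd) (even_iff_two_dvd.mpr hrm)
    -- index two of M in its normalizer
    have hMle : M ≤ Subgroup.normalizer (M : Set G) := Subgroup.le_normalizer
    have hidx : (M.subgroupOf (Subgroup.normalizer (M : Set G))).index = 2 := by
      have h1 := (M.subgroupOf (Subgroup.normalizer (M : Set G))).card_mul_index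
      rw [Nat.card_congr (Subgroup.subgroupOfEquivOfLe hMle).toEquiv, hM.card, hM.cardN] at h1
      have : m * (M.subgroupOf (Subgroup.normalizer (M : Set G))).index = m * 2 := by rw [h1]; ring
      exact Nat.eq_of_mul_eq_mul_left hmpos this
    have hcos : ∀ b ∈ Subgroup.normalizer (M : Set G), b ∉ M → b * z ∈ M := by
      intro b hb hbM
      have := Subgroup.mul_mem_iff_of_index_two hidx
        (a := (⟨b, hb⟩ : Subgroup.normalizer (M : Set G))) (b := ⟨z, hM.zN⟩)
      rw [Subgroup.mem_subgroupOf, Subgroup.mem_subgroupOf, Subgroup.mem_subgroupOf] at this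
      exact this.mpr ⟨fun hh => absurd hh hbM, fun hh => absurd hh hzM⟩
    -- z ∈ N ⊔ M
    have hNK : N ≤ N ⊔ M := le_sup_left
    have hMK : M ≤ N ⊔ M := le_sup_right
    have hconjK : ∀ a ∈ N, ∀ g : G, g⁻¹ * a * g ∈ N := fun a ha g => by
      have := hN.conj_mem a ha g⁻¹
      simpa using this
    have hzK : z ∈ N ⊔ M := by
      by_contra hzK
      apply h2 (N ⊔ M)
      rw [Subgroup.index_eq_two_iff]
      refine ⟨z, fun b => ?_⟩
      have hb : b ∈ Subgroup.normalizer (M : Set G) ⊔ N := hF2 ▸ Subgroup.mem_top b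
      obtain ⟨b1, hb1, a1, ha1, rfl⟩ := Subgroup.mem_sup_of_normal_right.mp hb
      have e : b1 * a1 * z = b1 * z * (z⁻¹ * a1 * z) := by group
      by_cases hb1M : b1 ∈ M
      · right
        refine ⟨(N ⊔ M).mul_mem (hMK hb1M) (hNK ha1), ?_⟩
        intro hbz
        rw [e] at hbz
        have h3 : b1 * z ∈ N ⊔ M := by
          have := (N ⊔ M).mul_mem hbz ((N ⊔ M).inv_mem (hNK (hconjK a1 ha1 z)))
          simpa [mul_assoc] using this
        apply hzK
        have := (N ⊔ M).mul_mem ((N ⊔ M).inv_mem (hMK hb1M)) h3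
        simpa [mul_assoc] using this
      · left
        have h3 := hcos b1 hb1 hb1M
        refine ⟨?_, ?_⟩
        · rw [e]
          exact (N ⊔ M).mul_mem (hMK h3) (hNK (hconjK a1 ha1 z))
        · intro hb
          have h4 : b1 ∈ N ⊔ M := by
            have := (N ⊔ M).mul_mem hb ((N ⊔ M).inv_mem (hNK ha1))
            simpa [mul_assoc] using this
          apply hzK
          have := (N ⊔ M).mul_mem ((N ⊔ M).inv_mem h4) (hMK h3)
          simpa [mul_assoc] using this
    obtain ⟨v, hv, y, hy, hvy⟩ := Subgroup.mem_sup_of_normal_left.mp hzK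
    -- v inverts M
    have hvinv : ∀ y' ∈ M, v * y' * v⁻¹ = y'⁻¹ := by
      intro y' hy'
      have hv' : v = z * y⁻¹ := by rw [← hvy]; group
      rw [hv', ← hM.zinv y' hy']
      have hc := hMcomm y hy y' hy'
      calc z * y⁻¹ * y' * (z * y⁻¹)⁻¹ = z * (y⁻¹ * (y' * y)) * z⁻¹ := by group
        _ = z * (y⁻¹ * (y * y')) * z⁻¹ := by rw [hc]
        _ = z * y' * z⁻¹ := by group
    have hsqN : ∀ y' ∈ M, y' ^ 2 ∈ N := by
      intro y' hy'
      have h1 : v * (y' * v⁻¹ * y'⁻¹) ∈ N := N.mul_mem hv (hN.conj_mem v⁻¹ (N.inv_mem hv) y')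
      have h3 : v * (y' * v⁻¹ * y'⁻¹) = (y' ^ 2)⁻¹ := by
        have := hvinv y' hy'
        calc v * (y' * v⁻¹ * y'⁻¹) = (v * y' * v⁻¹) * y'⁻¹ := by group
          _ = y'⁻¹ * y'⁻¹ := by rw [this]
          _ = (y' ^ 2)⁻¹ := by rw [pow_two]; group
      rw [h3] at h1
      exact (N.inv_mem_iff).mp h1
    have hMN : M ≤ N := by
      intro y' hy'
      obtain ⟨k, hk⟩ := hmodd
      have h1 : (y' ^ 2) ^ (k + 1) = y' := by
        rw [← pow_mul]
        have : 2 * (k + 1) = m + 1 := by omega
        rw [this, pow_succ, hMpow y' hy', one_mul]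
      rw [← h1]
      exact N.pow_mem (hsqN y' hy') _
    have hzN : z ∈ N := by
      rw [← hvy]; exact N.mul_mem hv (hMN hy)
    apply hNt
    rw [eq_top_iff, ← hF2]
    apply sup_le _ le_rfl
    intro b hb
    by_cases hbM : b ∈ M
    · exact hMN hbM
    · have h3 := hMN (hcos b hb hbM)
      have := N.mul_mem h3 (N.inv_mem hzN)
      simpa [mul_assoc] using this

end Cfsg.Agent.Lib.Helper3.OS
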