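import Mathlib
import Cfsg.Agent.Lib.Helper5.OS.Basic

set_option autoImplicit false
set_option maxHeartbeats 4000000
set_option maxRecDepth 100000
set_option linter.unusedVariables false
set_option linter.unusedSectionVars false
set_option linter.style.longLine false
set_option linter.style.haveILetI false
set_option linter.deprecated false
set_option linter.unusedSimpArgs false

/-! # S3421, piece P7c, sub-piece Q4 -/

namespace Cfsg.Agent.Lib.Helper3.OS

open Cfsg.Agent.Lib.Helper5.OS

variable {G : Type*} [Group G] [Finite G] {p q n m : ℕ}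

/-- odd order elements of `C(t)` lie in `⟨a0⟩` (local copy) -/
theorem q4_mem_zpowers_of_odd (h : Hyp G p q n m) {t a0 : G} {T : Sylow 2 G} (hC : CData G n t a0 T)
    {y : G} (hy : y ∈ Subgroup.centralizer ({t} : Set G)) (ho : Odd (orderOf y)) :
    y ∈ Subgroup.zpowers a0 := by
  have hidx : ((Subgroup.zpowers a0).subgroupOf (Subgroup.centralizer ({t} : Set G))).index = 2 :=
    hC.relIndex_zpowers h
  have hsq := Subgroup.sq_mem_of_index_two hidx ⟨y, hy⟩
  rw [Subgroup.mem_subgroupOf] at hsq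
  have hsq' : y ^ 2 ∈ Subgroup.zpowers a0 := by simpa using hsq
  have hcop : Nat.Coprime 2 (orderOf y) := (Nat.coprime_two_left).mpr ho
  obtain ⟨k, hk⟩ := exists_pow_eq_self_of_coprime hcop
  rw [← hk]
  exact Subgroup.pow_mem _ hsq' k

theorem mem_normalizer_of_conj_mem (h : Hyp G p q n m)
    {t a0 : G} {T : Sylow 2 G} (hC : CData G n t a0 T) {u : G}
    (huA : u ∉ Subgroup.zpowers a0)
    (hall : ∀ y ∈ Subgroup.zpowers a0, Odd (orderOf y) → u * y * u⁻¹ = y)
    (hcomm : ∀ x ∈ Subgroup.centralizer ({t} : Set G), ∀ y ∈ Subgroup.centralizer ({t} : Set G), x * y = y * x)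
    (hN : Nat.card ↥(Subgroup.normalizer ((Subgroup.centralizer ({t} : Set G) : Subgroup G) : Set G)) = 6 * n)
    {n' : ℕ} (hn : n = 2 * n') (hn' : Odd n') :
    ∀ g : G, ∀ y ∈ Subgroup.zpowers (a0 ^ 2), y ≠ 1 →
      g⁻¹ * y * g ∈ Subgroup.normalizer ((Subgroup.centralizer ({t} : Set G) : Subgroup G) : Set G) →
      g ∈ Subgroup.normalizer ((Subgroup.centralizer ({t} : Set G) : Subgroup G) : Set G) := by
  intro g y hy hy1 hyN
  set C := Subgroup.centralizer ({t} : Set G) with hCdef
  set NC := Subgroup.normalizer (C : Set G) with hNCdef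
  have hn'pos : 0 < n' := hn'.pos
  -- y ∈ A0
  have hyA0 : y ∈ Subgroup.zpowers a0 := by
    have : Subgroup.zpowers (a0 ^ 2) ≤ Subgroup.zpowers a0 := by
      rw [Subgroup.zpowers_le]
      exact Subgroup.pow_mem _ (Subgroup.mem_zpowers a0) 2
    exact this hy
  -- orderOf y ∣ n'
  have hcardA1 : Nat.card (Subgroup.zpowers (a0 ^ 2)) = n' := by
    rw [Nat.card_zpowers, orderOf_pow' a0 (by norm_num), hC.ha0, hn]
    rw [Nat.gcd_eq_right (Dvd.intro _ rfl)]
    exact Nat.mul_div_cancel_left n' (by norm_num)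
  have hyo : orderOf y ∣ n' := by
    have := Subgroup.orderOf_dvd_natCard _ hy
    rwa [hcardA1] at this
  have hyodd : Odd (orderOf y) := Odd.of_dvd_nat hn' hyo
  -- y' and its order
  set y' := g⁻¹ * y * g with hy'def
  have hy'o : orderOf y' = orderOf y := by
    have := orderOf_conj_eq g⁻¹ y
    rwa [inv_inv] at this
  -- 3 ∣ q * m
  have h3qm : 3 ∣ q * m := by
    have h1 : Nat.card NC ∣ Nat.card G := Subgroup.card_subgroup_dvd_card NC
    rw [hN, h.card] at h1
    have h2 : (2 * n) * 3 ∣ (2 * n) * (q * m) := by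
      have e1 : (2 * n) * 3 = 6 * n := by ring
      have e2 : (2 * n) * (q * m) = q * (2 * n) * m := by ring
      rw [e1, e2]; exact h1
    have hnpos : 0 < 2 * n := by have := h.n_ge; omega
    exact (Nat.mul_dvd_mul_iff_left hnpos).mp h2
  -- 3 ∤ orderOf y
  have h3y : Nat.Coprime 3 (orderOf y') := by
    rw [hy'o]
    rw [Nat.Prime.coprime_iff_not_dvd Nat.prime_three]
    intro h3
    have h3n : 3 ∣ n := by
      rw [hn]
      exact Dvd.dvd.mul_left (h3.trans hyo) 2
    have hcop : Nat.Coprime (q * m) n := Nat.Coprime.mul_left h.cop_qn h.cop_nm.symm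
    have h4 := Nat.dvd_gcd h3qm h3n
    rw [hcop] at h4
    omega
  -- C ≤ NC, normal, of index 3
  have hCN : C ≤ NC := Subgroup.le_normalizer
  haveI hnorm : (C.subgroupOf NC).Normal := Subgroup.normal_in_normalizer
  have hrel : C.relIndex NC = 3 := by
    have h1 := card_mul_relIndex_of_le C NC hCN
    rw [hN, hC.cardC] at h1
    have hnpos : 0 < 2 * n := by have := h.n_ge; omega
    have h2 : (2 * n) * C.relIndex NC = (2 * n) * 3 := by rw [h1]; ring
    exact Nat.eq_of_mul_eq_mul_left hnpos h2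
  -- y'^3 ∈ C
  have hy'3 : y' ^ 3 ∈ C := by
    have h1 := Subgroup.pow_index_mem (C.subgroupOf NC) (⟨y', hyN⟩ : NC)
    rw [show (C.subgroupOf NC).index = 3 from hrel] at h1
    rw [Subgroup.mem_subgroupOf] at h1
    simpa using h1
  -- y' ∈ C
  have hy'C : y' ∈ C := by
    obtain ⟨k, hk⟩ := exists_pow_eq_self_of_coprime h3y
    rw [← hk]
    exact Subgroup.pow_mem _ hy'3 k
  -- y' ∈ A0
  have hy'odd : Odd (orderOf y') := by rw [hy'o]; exact hyodd
  have hy'A0 : y' ∈ Subgroup.zpowers a0 := q4_mem_zpowers_of_odd h hC hy'C hy'odd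
  have hy'1 : y' ≠ 1 := by
    intro h1
    apply hy1
    have : y = g * y' * g⁻¹ := by rw [hy'def]; group
    rw [this, h1]; group
  -- centralizers
  have hcent : ∀ w ∈ Subgroup.zpowers a0, w ≠ 1 → Odd (orderOf w) →
      Subgroup.centralizer ({w} : Set G) = C := by
    intro w hw hw1 hwo
    rcases hC.cent w hw hw1 with hc | hc
    · exfalso
      apply huA
      rw [← hc, Subgroup.mem_centralizer_singleton_iff]
      have := hall w hw hwo
      calc u * w = u * w * u⁻¹ * u := by group
        _ = w * u := by rw [this]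
    · exact hc
  have hcy := hcent y hyA0 hy1 hyodd
  have hcy' := hcent y' hy'A0 hy'1 hy'odd
  rw [Subgroup.mem_normalizer_iff]
  intro x
  have key : x ∈ Subgroup.centralizer ({y'} : Set G) ↔
      g * x * g⁻¹ ∈ Subgroup.centralizer ({y} : Set G) := ?_
  · rw [hcy, hcy'] at key
    exact key
  rw [Subgroup.mem_centralizer_singleton_iff, Subgroup.mem_centralizer_singleton_iff]
  rw [hy'def]
  constructor
  · intro hx
    calc g * x * g⁻¹ * y = g * (x * (g⁻¹ * y * g)) * g⁻¹ := by group
      _ = g * ((g⁻¹ * y * g) * x) * g⁻¹ := by rw [hx]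
      _ = y * (g * x * g⁻¹) := by group
  · intro hx
    calc x * (g⁻¹ * y * g) = g⁻¹ * (g * x * g⁻¹ * y) * g := by group
      _ = g⁻¹ * (y * (g * x * g⁻¹)) * g := by rw [hx]
      _ = g⁻¹ * y * g * x := by group

end Cfsg.Agent.Lib.Helper3.OS
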