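import Mathlib
import Cfsg.Agent.Lib.Helper5.OS.Basic
import Cfsg.Agent.Lib.Helper1.OSP7cQ1
import Cfsg.Agent.Lib.Helper6.OSP7cQ2
import Cfsg.Agent.Lib.Helper9.OSP7cQ3
import Cfsg.Agent.Lib.Helper3.OSP7cQ4
import Cfsg.Agent.Lib.Helper9.OSP7cQ5

set_option autoImplicit false
set_option maxHeartbeats 4000000
set_option maxRecDepth 100000
set_option linter.unusedVariables false
set_option linter.unusedSectionVars false
set_option linter.style.longLine false
set_option linter.style.haveILetI false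
set_option linter.deprecated false
set_option linter.unusedSimpArgs false

/-! # S3421, piece P7c -/

namespace Cfsg.Agent.Lib.Helper3.OS

open Cfsg.Agent.Lib.Helper5.OS

variable {G : Type*} [Group G] [Finite G] {p q n m : ℕ}

theorem no_fixed_special (h : Hyp G p q n m) [IsSimpleGroup G]
    {t a0 : G} {T : Sylow 2 G} (hC : CData G n t a0 T) {u : G} (huT : u ∈ (T : Subgroup G))
    (huA : u ∉ Subgroup.zpowers a0) (hu : orderOf u = 2)
    (hT2 : Nat.card ↥((T : Subgroup G) ⊓ Subgroup.zpowers a0) = 2)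
    (hall : ∀ y ∈ Subgroup.zpowers a0, Odd (orderOf y) → u * y * u⁻¹ = y) :
    ∀ y ∈ Subgroup.zpowers a0, Odd (orderOf y) → y = 1 := by
  obtain ⟨n', hn, hn'⟩ := Cfsg.Agent.Lib.Helper1.OS.n_eq_two_mul_odd h hC hT2
  have hcomm := Cfsg.Agent.Lib.Helper6.OS.centralizer_comm h hC huT huA hu hT2 hall
  have hN := Cfsg.Agent.Lib.Helper9.OS.card_normalizer_centralizer h hC huT huA hu hT2 hcomm
  have hTI := mem_normalizer_of_conj_mem h hC huA hall hcomm hN hn hn'
  set NC := Subgroup.normalizer ((Subgroup.centralizer ({t} : Set G) : Subgroup G) : Set G) with hNC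
  -- A1 = zpowers (a0^2) ≤ NC
  have hA1le : Subgroup.zpowers (a0 ^ 2) ≤ NC := by
    rw [Subgroup.zpowers_le]
    apply Subgroup.le_normalizer
    apply hC.zpowers_le
    exact Subgroup.pow_mem _ (Subgroup.mem_zpowers a0) 2
  have hdvd := Cfsg.Agent.Lib.Helper9.OS.card_dvd_index_sub_one' (Subgroup.zpowers (a0 ^ 2)) NC hA1le hTI
  -- card A1 = n'
  have hn'pos : 0 < n' := hn'.pos
  have hcardA1 : Nat.card (Subgroup.zpowers (a0 ^ 2)) = n' := by
    rw [Nat.card_zpowers, orderOf_pow' a0 (by norm_num), hC.ha0, hn]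
    rw [Nat.gcd_eq_right (Dvd.intro _ rfl)]
    exact Nat.mul_div_cancel_left n' (by norm_num)
  rw [hcardA1] at hdvd
  -- index of NC
  have hidx : NC.index * 3 = q * m := by
    have h1 := NC.card_mul_index
    rw [hN, h.card] at h1
    have h2 : (2 * n) * (NC.index * 3) = (2 * n) * (q * m) := by
      calc (2 * n) * (NC.index * 3) = 6 * n * NC.index := by ring
        _ = q * (2 * n) * m := h1
        _ = (2 * n) * (q * m) := by ring
    have hnpos : 0 < 2 * n := by have := h.n_ge; omega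
    exact Nat.eq_of_mul_eq_mul_left hnpos h2
  -- n' ∣ qm - 1
  have hqm : q * m ≡ 1 [MOD n'] := (h.q_m_modEq).of_dvd ⟨2, by rw [hn]; ring⟩
  -- conclude n' = 1
  have hn'1 : n' = 1 := by
    have hidxpos : 0 < NC.index := Nat.pos_of_ne_zero Subgroup.index_ne_zero_of_finite
    obtain ⟨k, hk⟩ := hdvd
    -- index = n' k + 1 ; 3 index = qm ≡ 1 mod n' → 3 ≡ 1 mod n' → n' ∣ 2
    have h3 : NC.index = n' * k + 1 := by omega
    have h4 : q * m = n' * (3 * k) + 3 := by rw [← hidx, h3]; ring
    have h5 : (n' * (3 * k) + 3) % n' = 1 % n' := by rw [← h4]; exact hqm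
    rw [Nat.mul_add_mod] at h5
    have h6 : n' ∣ 2 := by
      have : 3 ≡ 1 [MOD n'] := h5
      have := (Nat.modEq_iff_dvd' (by norm_num : 1 ≤ 3)).mp this.symm
      simpa using this
    have h7 := Nat.le_of_dvd (by norm_num) h6
    obtain ⟨j, hj⟩ := hn'
    interval_cases n'
    · rfl
    · omega
  intro y hy hyodd
  have hyn : orderOf y ∣ n := by
    rw [← hC.ha0]
    exact orderOf_dvd_of_mem_zpowers hy
  rw [hn, hn'1] at hyn
  have : orderOf y = 1 := by
    rcases (Nat.dvd_prime Nat.prime_two).mp (by simpa using hyn) with h1 | h2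
    · exact h1
    · exfalso
      rw [h2] at hyodd
      exact (by decide : ¬ Odd 2) hyodd
  exact orderOf_eq_one_iff.mp this

end Cfsg.Agent.Lib.Helper3.OS
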