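import Mathlib
import Cfsg.Prelude
import Cfsg.Agent.Lib.Helper7.AuD

/-! The square of the exceptional endomorphism of `Sp_4(F)` (char 2) is the Frobenius map;
consequences for `Aut(PSp_4(F))`, all finite `F` of characteristic two (including two elements). -/

set_option autoImplicit false
set_option maxHeartbeats 4000000
set_option maxRecDepth 100000
set_option linter.unusedSectionVars false
set_option linter.unusedSimpArgs false
set_option linter.unusedVariables false
set_option linter.style.haveILetI false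
set_option linter.deprecated false
open Cfsg

namespace Cfsg.Agent.Lib.Helper3.OSp4A

open Matrix Cfsg.Agent.Lib.Helper5.SympTv Cfsg.Agent.Lib.Helper5.SympGen
  Cfsg.Agent.Lib.Helper5.SympPerfect Cfsg.Agent.Lib.Helper5.SympBridge
  Cfsg.Agent.Lib.Helper5.SympPrimitive Cfsg.Agent.Lib.Helper9.ASP Cfsg.Agent.Lib.Helper7.AuA
  Cfsg.Agent.Lib.Helper7.AuB Cfsg.Agent.Lib.Helper7.AuC Cfsg.Agent.Lib.Helper7.AuE
  Cfsg.Agent.Lib.Helper7.AuD

attribute [local instance 2000] spAction spSMulComm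

variable {F : Type*} [Field F]

set_option quotPrecheck false
local notation "I4" => (Fin 2 ⊕ Fin 2)
local notation "V4" => (Fin 2 ⊕ Fin 2 → F)
local notation "M4" => Matrix (Fin 2 ⊕ Fin 2) (Fin 2 ⊕ Fin 2) F
local notation "Sp2" => ↥(Matrix.symplecticGroup (Fin 2) F)
local notation "PSp2" => Cfsg.PSp 2 F
local notation "BB" => sympForm 2 F
local notation "a0" => (Sum.inl 0 : Fin 2 ⊕ Fin 2)
local notation "a1" => (Sum.inl 1 : Fin 2 ⊕ Fin 2)
local notation "b0" => (Sum.inr 0 : Fin 2 ⊕ Fin 2)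
local notation "b1" => (Sum.inr 1 : Fin 2 ⊕ Fin 2)

/-- `J w` written out -/
def jw (w : Fin 2 ⊕ Fin 2 → F) : Fin 2 ⊕ Fin 2 → F :=
  Sum.elim (fun i => - w (Sum.inr i)) (fun i => w (Sum.inl i))

theorem J_mulVec (w : V4) (q : I4) : (Matrix.J (Fin 2) F *ᵥ w) q = jw w q := by
  rcases q with k | k <;> fin_cases k <;>
    simp [Matrix.mulVec, dotProduct, Matrix.J, Fintype.sum_sum_type, Fin.sum_univ_two, jw,
      Matrix.one_apply]

theorem tvE (w : V4) (c : F) (p q : I4) :
    sympTransvection 2 w c p q = (if p = q then 1 else 0) + c * (w p * jw w q) := by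
  unfold sympTransvection
  rw [Matrix.add_apply, Matrix.smul_apply, Matrix.vecMulVec_apply, J_mulVec, Matrix.one_apply,
    smul_eq_mul]

theorem Mg_Mg_tv (h2 : (2 : F) = 0) (w : V4) (c : F) (p q : I4) :
    Mg (Mg (sympTransvection 2 w c)) p q = (sympTransvection 2 w c p q) ^ 2 := by
  rcases p with i | i <;> fin_cases i <;> rcases q with k | k <;> fin_cases k
  · simp only [Mg, Matrix.of_apply, Cm, pr, Sum.elim_inl, Sum.elim_inr, Matrix.cons_val_zero,
      Matrix.cons_val_one, Matrix.head_cons, tvE, jw, Sum.inl.injEq, Sum.inr.injEq, reduceCtorEq,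
      Fin.isValue, Fin.zero_eta, Fin.mk_one, if_true, if_false, ↓reduceIte, zero_ne_one, one_ne_zero]
    linear_combination (0) * h2
  · simp only [Mg, Matrix.of_apply, Cm, pr, Sum.elim_inl, Sum.elim_inr, Matrix.cons_val_zero,
      Matrix.cons_val_one, Matrix.head_cons, tvE, jw, Sum.inl.injEq, Sum.inr.injEq, reduceCtorEq,
      Fin.isValue, Fin.zero_eta, Fin.mk_one, if_true, if_false, ↓reduceIte, zero_ne_one, one_ne_zero]
    linear_combination (0) * h2
  · simp only [Mg, Matrix.of_apply, Cm, pr, Sum.elim_inl, Sum.elim_inr, Matrix.cons_val_zero,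
      Matrix.cons_val_one, Matrix.head_cons, tvE, jw, Sum.inl.injEq, Sum.inr.injEq, reduceCtorEq,
      Fin.isValue, Fin.zero_eta, Fin.mk_one, if_true, if_false, ↓reduceIte, zero_ne_one, one_ne_zero]
    linear_combination ((-1) * c ^ 2 * w (Sum.inl 0) ^ 4) * h2
  · simp only [Mg, Matrix.of_apply, Cm, pr, Sum.elim_inl, Sum.elim_inr, Matrix.cons_val_zero,
      Matrix.cons_val_one, Matrix.head_cons, tvE, jw, Sum.inl.injEq, Sum.inr.injEq, reduceCtorEq,
      Fin.isValue, Fin.zero_eta, Fin.mk_one, if_true, if_false, ↓reduceIte, zero_ne_one, one_ne_zero]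
    linear_combination ((-1) * c ^ 2 * w (Sum.inl 0) ^ 2 * w (Sum.inl 1) ^ 2) * h2
  · simp only [Mg, Matrix.of_apply, Cm, pr, Sum.elim_inl, Sum.elim_inr, Matrix.cons_val_zero,
      Matrix.cons_val_one, Matrix.head_cons, tvE, jw, Sum.inl.injEq, Sum.inr.injEq, reduceCtorEq,
      Fin.isValue, Fin.zero_eta, Fin.mk_one, if_true, if_false, ↓reduceIte, zero_ne_one, one_ne_zero]
    linear_combination (0) * h2
  · simp only [Mg, Matrix.of_apply, Cm, pr, Sum.elim_inl, Sum.elim_inr, Matrix.cons_val_zero,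
      Matrix.cons_val_one, Matrix.head_cons, tvE, jw, Sum.inl.injEq, Sum.inr.injEq, reduceCtorEq,
      Fin.isValue, Fin.zero_eta, Fin.mk_one, if_true, if_false, ↓reduceIte, zero_ne_one, one_ne_zero]
    linear_combination (0) * h2
  · simp only [Mg, Matrix.of_apply, Cm, pr, Sum.elim_inl, Sum.elim_inr, Matrix.cons_val_zero,
      Matrix.cons_val_one, Matrix.head_cons, tvE, jw, Sum.inl.injEq, Sum.inr.injEq, reduceCtorEq,
      Fin.isValue, Fin.zero_eta, Fin.mk_one, if_true, if_false, ↓reduceIte, zero_ne_one, one_ne_zero]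
    linear_combination ((-1) * c ^ 2 * w (Sum.inl 0) ^ 2 * w (Sum.inl 1) ^ 2) * h2
  · simp only [Mg, Matrix.of_apply, Cm, pr, Sum.elim_inl, Sum.elim_inr, Matrix.cons_val_zero,
      Matrix.cons_val_one, Matrix.head_cons, tvE, jw, Sum.inl.injEq, Sum.inr.injEq, reduceCtorEq,
      Fin.isValue, Fin.zero_eta, Fin.mk_one, if_true, if_false, ↓reduceIte, zero_ne_one, one_ne_zero]
    linear_combination ((-1) * c ^ 2 * w (Sum.inl 1) ^ 4) * h2
  · simp only [Mg, Matrix.of_apply, Cm, pr, Sum.elim_inl, Sum.elim_inr, Matrix.cons_val_zero,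
      Matrix.cons_val_one, Matrix.head_cons, tvE, jw, Sum.inl.injEq, Sum.inr.injEq, reduceCtorEq,
      Fin.isValue, Fin.zero_eta, Fin.mk_one, if_true, if_false, ↓reduceIte, zero_ne_one, one_ne_zero]
    linear_combination ((-1) * c ^ 2 * w (Sum.inr 0) ^ 4) * h2
  · simp only [Mg, Matrix.of_apply, Cm, pr, Sum.elim_inl, Sum.elim_inr, Matrix.cons_val_zero,
      Matrix.cons_val_one, Matrix.head_cons, tvE, jw, Sum.inl.injEq, Sum.inr.injEq, reduceCtorEq,
      Fin.isValue, Fin.zero_eta, Fin.mk_one, if_true, if_false, ↓reduceIte, zero_ne_one, one_ne_zero]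
    linear_combination ((-1) * c ^ 2 * w (Sum.inr 0) ^ 2 * w (Sum.inr 1) ^ 2) * h2
  · simp only [Mg, Matrix.of_apply, Cm, pr, Sum.elim_inl, Sum.elim_inr, Matrix.cons_val_zero,
      Matrix.cons_val_one, Matrix.head_cons, tvE, jw, Sum.inl.injEq, Sum.inr.injEq, reduceCtorEq,
      Fin.isValue, Fin.zero_eta, Fin.mk_one, if_true, if_false, ↓reduceIte, zero_ne_one, one_ne_zero]
    linear_combination (0) * h2
  · simp only [Mg, Matrix.of_apply, Cm, pr, Sum.elim_inl, Sum.elim_inr, Matrix.cons_val_zero,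
      Matrix.cons_val_one, Matrix.head_cons, tvE, jw, Sum.inl.injEq, Sum.inr.injEq, reduceCtorEq,
      Fin.isValue, Fin.zero_eta, Fin.mk_one, if_true, if_false, ↓reduceIte, zero_ne_one, one_ne_zero]
    linear_combination (0) * h2
  · simp only [Mg, Matrix.of_apply, Cm, pr, Sum.elim_inl, Sum.elim_inr, Matrix.cons_val_zero,
      Matrix.cons_val_one, Matrix.head_cons, tvE, jw, Sum.inl.injEq, Sum.inr.injEq, reduceCtorEq,
      Fin.isValue, Fin.zero_eta, Fin.mk_one, if_true, if_false, ↓reduceIte, zero_ne_one, one_ne_zero]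
    linear_combination ((-1) * c ^ 2 * w (Sum.inr 0) ^ 2 * w (Sum.inr 1) ^ 2) * h2
  · simp only [Mg, Matrix.of_apply, Cm, pr, Sum.elim_inl, Sum.elim_inr, Matrix.cons_val_zero,
      Matrix.cons_val_one, Matrix.head_cons, tvE, jw, Sum.inl.injEq, Sum.inr.injEq, reduceCtorEq,
      Fin.isValue, Fin.zero_eta, Fin.mk_one, if_true, if_false, ↓reduceIte, zero_ne_one, one_ne_zero]
    linear_combination ((-1) * c ^ 2 * w (Sum.inr 1) ^ 4) * h2
  · simp only [Mg, Matrix.of_apply, Cm, pr, Sum.elim_inl, Sum.elim_inr, Matrix.cons_val_zero,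
      Matrix.cons_val_one, Matrix.head_cons, tvE, jw, Sum.inl.injEq, Sum.inr.injEq, reduceCtorEq,
      Fin.isValue, Fin.zero_eta, Fin.mk_one, if_true, if_false, ↓reduceIte, zero_ne_one, one_ne_zero]
    linear_combination (0) * h2
  · simp only [Mg, Matrix.of_apply, Cm, pr, Sum.elim_inl, Sum.elim_inr, Matrix.cons_val_zero,
      Matrix.cons_val_one, Matrix.head_cons, tvE, jw, Sum.inl.injEq, Sum.inr.injEq, reduceCtorEq,
      Fin.isValue, Fin.zero_eta, Fin.mk_one, if_true, if_false, ↓reduceIte, zero_ne_one, one_ne_zero]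
    linear_combination (0) * h2

section even
variable [CharP F 2]

theorem two_zero : (2 : F) = 0 := CharTwo.two_eq_zero

theorem sq_injective : Function.Injective (fun x : F => x ^ 2) := by
  intro x y h
  have h' : x ^ 2 = y ^ 2 := h
  have h2 : (2 : F) = 0 := two_zero
  have h3 : (x - y) ^ 2 = 0 := by linear_combination h' + (y ^ 2 - x * y) * h2
  exact sub_eq_zero.mp ((pow_eq_zero_iff two_ne_zero).mp h3)

/-- the Frobenius automorphism `x ↦ x ^ 2` -/
noncomputable def frob [Finite F] : F ≃+* F :=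
  RingEquiv.ofBijective
    ({ toFun := fun x => x ^ 2
       map_one' := one_pow 2
       map_mul' := fun x y => mul_pow x y 2
       map_zero' := by simp
       map_add' := fun x y => by
        have h2 : (2 : F) = 0 := two_zero
        show (x + y) ^ 2 = x ^ 2 + y ^ 2
        linear_combination (x * y) * h2 } : F →+* F)
    (Finite.injective_iff_bijective.mp sq_injective)

theorem frob_apply [Finite F] (x : F) : (frob : F ≃+* F) x = x ^ 2 := rfl

/-- the square of the exceptional endomorphism is the Frobenius map -/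
theorem phi_phi [Finite F] (s : Sp2) : phi (phi s) = fieldSp 2 (frob : F ≃+* F) s := by
  have hcl : Subgroup.closure (tvSet F 2) = ⊤ := closure_tvSet_eq_top 2
  have key : (phi : Sp2 →* Sp2).comp phi = (fieldSp 2 (frob : F ≃+* F) : Sp2 ≃* Sp2).toMonoidHom := by
    apply MonoidHom.eq_of_eqOn_dense hcl
    rintro A ⟨w, c, hA⟩
    apply Subtype.ext
    show Mg (Mg (A : M4)) = (A : M4).map (frob : F ≃+* F)
    rw [hA]
    ext p q
    rw [Mg_Mg_tv two_zero, Matrix.map_apply, frob_apply]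
  exact DFunLike.congr_fun key s

theorem phi_bijective' [Finite F] : Function.Bijective (phi : Sp2 →* Sp2) := by
  have hinj : Function.Injective (phi : Sp2 →* Sp2) := by
    intro s t h
    have h1 : phi (phi s) = phi (phi t) := by rw [h]
    rw [phi_phi, phi_phi] at h1
    exact (fieldSp 2 (frob : F ≃+* F)).injective h1
  exact Finite.injective_iff_bijective.mp hinj

/-- the exceptional automorphism of `Sp_4(F)` -/
noncomputable def phiE [Finite F] : Sp2 ≃* Sp2 := MulEquiv.ofBijective (phi : Sp2 →* Sp2) phi_bijective'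

theorem phiE_apply [Finite F] (s : Sp2) : (phiE : Sp2 ≃* Sp2) s = phi s := rfl

/-- the exceptional automorphism of `PSp_4(F)` -/
noncomputable def beta0 [Finite F] : MulAut PSp2 := liftS 2 (phiE : Sp2 ≃* Sp2)

theorem beta0_mkS [Finite F] (s : Sp2) : (beta0 : MulAut PSp2) (mkS 2 s) = mkS 2 (phi s) := by
  unfold beta0
  rw [liftS_mkS, phiE_apply]

theorem beta0_sq [Finite F] : (beta0 : MulAut PSp2) * beta0 = fS 2 (frob : F ≃+* F) := by
  apply MulEquiv.ext
  intro x
  obtain ⟨s, rfl⟩ := mkS_surjective 2 x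
  rw [MulAut.mul_apply, beta0_mkS, beta0_mkS, fS_mkS, phi_phi]

theorem beta0_not_good [Finite F] : ¬ Good 2 (beta0 : MulAut PSp2) := by
  intro hg
  obtain ⟨y, hy0, hy⟩ := hg.1 (Pi.single (Sum.inl 0) 1) (single_inl_ne_zero 2 0)
  have h1 : mkS 2 (t0 : Sp2) ∈ RSb 2 (Pi.single (Sum.inl 0) 1 : V4) :=
    (mem_RSb_iff 2 _ _).mpr ⟨1, rfl⟩
  have h2 : (beta0 : MulAut PSp2) (mkS 2 (t0 : Sp2)) ∈ RSb 2 y := by
    unfold Pt at hy
    rw [← hy]
    exact Subgroup.mem_map.mpr ⟨_, h1, rfl⟩
  obtain ⟨c, hc⟩ := (mem_RSb_iff 2 y _).mp h2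
  rw [beta0_mkS] at hc
  have h3 : phi (t0 : Sp2) = tv 2 y c := mkS_injective 2 (by norm_num) hc
  exact phi_t0_ne_tv y c h3

theorem index_goodSubgroup' [Finite F] : (goodSubgroup (F := F) 2).index = 2 := by
  have hβ0 := beta0_not_good (F := F)
  rw [Subgroup.index_eq_two_iff]
  refine ⟨beta0, fun b => ?_⟩
  by_cases hb : b ∈ goodSubgroup (F := F) 2
  · refine Or.inr ⟨hb, fun hbb => hβ0 ?_⟩
    have := (goodSubgroup (F := F) 2).mul_mem ((goodSubgroup (F := F) 2).inv_mem hb) hbb
    rwa [inv_mul_cancel_left] at this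
  · refine Or.inl ⟨?_, hb⟩
    have hb' : ¬ Good 2 b⁻¹ := fun h => hb (by
      have := Good.inv 2 h
      rwa [inv_inv] at this)
    have := good_inv_mul beta0 b⁻¹ hβ0 hb'
    rwa [inv_inv] at this

/-- `|Aut(Sp_4(2^f))| = 2 f |Sp_4(2^f)|`, all `f ≥ 0` -/
theorem card_aut_four_even' [Fintype F] (f : ℕ) (hF : Fintype.card F = 2 ^ f) :
    Nat.card (MulAut PSp2) = 2 * (f * Nat.card PSp2) := by
  have : Fact (Nat.Prime 2) := ⟨Nat.prime_two⟩
  have h1 := Subgroup.card_mul_index (goodSubgroup (F := F) 2)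
  rw [index_goodSubgroup'] at h1
  have h2 : Nat.card ↥(goodSubgroup (F := F) 2) = Nat.card (stdSet (F := F) 2) := by
    have := goodSubgroup_eq_stdSet (F := F) 2 2 le_rfl
    exact Nat.card_congr (Equiv.setCongr this)
  have hg : Nat.gcd 2 (2 ^ f - 1) = 1 := by
    rcases Nat.eq_zero_or_pos f with rfl | hf
    · exfalso
      have h6 := Fintype.one_lt_card (α := F)
      rw [hF] at h6
      simp at h6
    · have hodd : ¬ 2 ∣ 2 ^ f - 1 := by
        have h4 : 2 ∣ 2 ^ f := dvd_pow_self 2 hf.ne'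
        have h5 : 1 ≤ 2 ^ f := Nat.one_le_two_pow
        omega
      exact (Nat.Prime.coprime_iff_not_dvd Nat.prime_two).mpr hodd
  rw [h2, card_stdSet' 2 2 f hF (by norm_num), hg, one_mul] at h1
  rw [← h1, mul_comm]

end even

end Cfsg.Agent.Lib.Helper3.OSp4A
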