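import Mathlib
import Cfsg.Prelude
import Cfsg.Agent.Lib.Helper3.OSp4A

/-! `Out(PSp_4(2^f))` is cyclic of order `2 f`. -/

set_option autoImplicit false
set_option maxHeartbeats 4000000
set_option maxRecDepth 100000
set_option linter.unusedSectionVars false
set_option linter.unusedSimpArgs false
set_option linter.unusedVariables false
set_option linter.style.haveILetI false
set_option linter.deprecated false
open Cfsg

namespace Cfsg.Agent.Lib.Helper3.OSp4B

open Matrix Cfsg.Agent.Lib.Helper5.SympTv Cfsg.Agent.Lib.Helper5.SympGen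
  Cfsg.Agent.Lib.Helper5.SympPerfect Cfsg.Agent.Lib.Helper5.SympBridge
  Cfsg.Agent.Lib.Helper5.SympPrimitive Cfsg.Agent.Lib.Helper9.ASP Cfsg.Agent.Lib.Helper7.AuA
  Cfsg.Agent.Lib.Helper7.AuB Cfsg.Agent.Lib.Helper7.AuC Cfsg.Agent.Lib.Helper7.AuE
  Cfsg.Agent.Lib.Helper7.AuD Cfsg.Agent.Lib.Helper3.OSp4A

attribute [local instance 2000] spAction spSMulComm

variable {F : Type*} [Field F] [CharP F 2]

set_option quotPrecheck false
local notation "I4" => (Fin 2 ⊕ Fin 2)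
local notation "V4" => (Fin 2 ⊕ Fin 2 → F)
local notation "M4" => Matrix (Fin 2 ⊕ Fin 2) (Fin 2 ⊕ Fin 2) F
local notation "Sp2" => ↥(Matrix.symplecticGroup (Fin 2) F)
local notation "PSp2" => Cfsg.PSp 2 F
local notation "GSp2" => ↥(Cfsg.GSp 2 F)
local notation "BB" => sympForm 2 F

/-- every unit is a square -/
theorem exists_sqrt_unit [Finite F] (u : Fˣ) : ∃ ν : Fˣ, u = ν * ν := by
  obtain ⟨a, ha⟩ := (Finite.injective_iff_bijective.mp (sq_injective (F := F))).2 (u : F)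
  have ha' : a ^ 2 = (u : F) := ha
  have ha0 : a ≠ 0 := by
    rintro rfl
    rw [zero_pow two_ne_zero] at ha'
    exact u.ne_zero ha'.symm
  refine ⟨Units.mk0 a ha0, Units.ext ?_⟩
  rw [Units.val_mul, Units.val_mk0, ← ha', sq]

theorem cS_mem_inn [Finite F] (g : GSp2) : cS 2 g ∈ Cfsg.Inn PSp2 := by
  obtain ⟨ν, hν⟩ := exists_sqrt_unit (mult 2 g)
  obtain ⟨A, hA⟩ := exists_sp_of_mult_sq 2 g ν hν
  rw [hA, map_mul, cS_scG 2 (by norm_num), one_mul, cS_toGSp]
  exact ⟨mkS 2 A, rfl⟩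

theorem conj_injective : Function.Injective (MulAut.conj : PSp2 →* MulAut PSp2) := by
  rw [injective_iff_map_eq_one]
  intro z hz
  obtain ⟨A, rfl⟩ := mkS_surjective 2 z
  have hA : A ∈ Subgroup.center Sp2 := by
    rw [Subgroup.mem_center_iff]
    intro B
    apply mkS_injective 2 (by norm_num)
    have h1 := DFunLike.congr_fun hz (mkS 2 B)
    rw [MulAut.conj_apply, MulAut.one_apply] at h1
    rw [map_mul, map_mul]
    calc mkS 2 B * mkS 2 A = (mkS 2 A * mkS 2 B * (mkS 2 A)⁻¹) * mkS 2 A := by rw [h1]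
      _ = mkS 2 A * mkS 2 B := by group
  rw [center_eq_bot 2 (by norm_num), Subgroup.mem_bot] at hA
  rw [hA, map_one]

theorem card_inn : Nat.card ↥(Cfsg.Inn PSp2) = Nat.card PSp2 :=
  (Nat.card_congr (MonoidHom.ofInjective (conj_injective (F := F))).toEquiv).symm

theorem frob_pow_apply [Finite F] (n : ℕ) (x : F) :
    ((frob : RingAut F) ^ n) x = x ^ (2 ^ n) := by
  induction n generalizing x with
  | zero => simp
  | succ n ih =>
    rw [pow_succ, RingAut.mul_apply, ih, frob_apply, ← pow_mul, pow_succ, mul_comm]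

theorem exists_frob_pow [Finite F] (σ : RingAut F) : ∃ n : ℕ, σ = (frob : RingAut F) ^ n := by
  let _ := ZMod.algebra F 2
  have hb := FiniteField.bijective_frobeniusAlgEquivOfAlgebraic_pow (ZMod 2) F
  let τ : F ≃ₐ[ZMod 2] F := AlgEquiv.ofRingEquiv (f := σ) (fun r =>
    RingHom.congr_fun (Subsingleton.elim ((σ : F →+* F).comp (algebraMap (ZMod 2) F))
      (algebraMap (ZMod 2) F)) r)
  obtain ⟨n, hn⟩ := hb.2 τ
  refine ⟨n.1, ?_⟩
  apply RingEquiv.ext
  intro x
  have h1 : τ x = σ x := rfl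
  have h2 := DFunLike.congr_fun hn x
  simp only [AlgEquiv.coe_pow, FiniteField.coe_frobeniusAlgEquivOfAlgebraic_iterate, ZMod.card] at h2
  rw [frob_pow_apply, ← h1, ← h2]

/-- the class of the exceptional automorphism generates `Out` -/
theorem out_mem_zpowers [Finite F] (x : Cfsg.Out PSp2) :
    x ∈ Subgroup.zpowers (QuotientGroup.mk' (Cfsg.Inn PSp2) (beta0 : MulAut PSp2)) := by
  have : Fact (Nat.Prime 2) := ⟨Nat.prime_two⟩
  obtain ⟨β, rfl⟩ := QuotientGroup.mk'_surjective _ x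
  have hgood : ∀ γ : MulAut PSp2, Good 2 γ → ∃ n : ℕ,
      QuotientGroup.mk' (Cfsg.Inn PSp2) γ
        = (QuotientGroup.mk' (Cfsg.Inn PSp2) (beta0 : MulAut PSp2)) ^ n := by
    intro γ hγ
    obtain ⟨g, σ, rfl⟩ := aut_eq_std_rel 2 2 le_rfl γ hγ
    obtain ⟨n, rfl⟩ := exists_frob_pow σ
    refine ⟨2 * n, ?_⟩
    have h1 : QuotientGroup.mk' (Cfsg.Inn PSp2) (cS 2 g) = 1 :=
      (QuotientGroup.eq_one_iff _).mpr (cS_mem_inn g)
    rw [map_mul, h1, one_mul, map_pow, ← beta0_sq, map_pow, map_mul, pow_mul, sq]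
  by_cases hβ : Good 2 β
  · obtain ⟨n, hn⟩ := hgood β hβ
    rw [hn]
    exact Subgroup.npow_mem_zpowers _ n
  · have h1 : Good 2 ((beta0 : MulAut PSp2)⁻¹ * β) := good_inv_mul β beta0 hβ beta0_not_good
    obtain ⟨n, hn⟩ := hgood _ h1
    have h2 : β = beta0 * ((beta0 : MulAut PSp2)⁻¹ * β) := by group
    rw [h2, map_mul, hn, ← pow_succ']
    exact Subgroup.npow_mem_zpowers _ (n + 1)

theorem out_cyclic [Finite F] : IsCyclic (Cfsg.Out PSp2) :=
  ⟨⟨QuotientGroup.mk' (Cfsg.Inn PSp2) (beta0 : MulAut PSp2), out_mem_zpowers⟩⟩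

theorem card_out [Fintype F] (f : ℕ) (hF : Fintype.card F = 2 ^ f) :
    Nat.card (Cfsg.Out PSp2) = 2 * f := by
  have h1 := Subgroup.card_eq_card_quotient_mul_card_subgroup (Cfsg.Inn PSp2)
  rw [card_aut_four_even' f hF, card_inn] at h1
  have hpos : 0 < Nat.card PSp2 := Nat.card_pos
  have h2 : (2 * f) * Nat.card PSp2 = Nat.card (Cfsg.Out PSp2) * Nat.card PSp2 := by
    rw [← h1]; ring
  exact (Nat.eq_of_mul_eq_mul_right hpos h2).symm

end Cfsg.Agent.Lib.Helper3.OSp4B
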