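import Mathlib

set_option autoImplicit false
set_option maxHeartbeats 4000000
set_option maxRecDepth 100000
set_option linter.unusedVariables false
set_option linter.unusedSectionVars false
set_option linter.style.haveILetI false
set_option linter.deprecated false

/-!
# Odd-product graph on involutions of PSL(2,q): basic matrix facts (helper3)
-/

namespace Cfsg.Agent.Lib.Helper3.OddGraph

open Matrix

/-- abstract graph lemma: any two distinct non-adjacent vertices have a common neighbour, and some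
pair is non-adjacent: connected of diameter two. -/
theorem connected_diam_two {V : Type*} [Nonempty V] (Γ : SimpleGraph V)
    (h2 : ∀ u v, u ≠ v → ¬ Γ.Adj u v → ∃ w, Γ.Adj u w ∧ Γ.Adj w v)
    (hex : ∃ u v, u ≠ v ∧ ¬ Γ.Adj u v) : Γ.Connected ∧ Γ.diam = 2 := by
  have hd : ∀ u v, Γ.edist u v ≤ 2 := by
    intro u v
    by_cases huv : u = v
    · subst huv; simp
    by_cases ha : Γ.Adj u v
    · calc Γ.edist u v = 1 := SimpleGraph.edist_eq_one_iff_adj.mpr ha
        _ ≤ 2 := by norm_num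
    · obtain ⟨w, h1, h2'⟩ := h2 u v huv ha
      calc Γ.edist u v ≤ Γ.edist u w + Γ.edist w v := SimpleGraph.edist_triangle
        _ = 1 + 1 := by
            rw [SimpleGraph.edist_eq_one_iff_adj.mpr h1, SimpleGraph.edist_eq_one_iff_adj.mpr h2']
        _ = 2 := by norm_num
  have hed : Γ.ediam ≤ 2 := SimpleGraph.ediam_le_of_edist_le hd
  have hne : Γ.ediam ≠ ⊤ := ne_top_of_le_ne_top (by norm_num) hed
  refine ⟨SimpleGraph.connected_of_ediam_ne_top hne, ?_⟩
  obtain ⟨u, v, huv, ha⟩ := hex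
  have hle := hd u v
  have hnt : Γ.edist u v ≠ ⊤ := ne_top_of_le_ne_top (by norm_num) hle
  obtain ⟨n, hn⟩ := ENat.ne_top_iff_exists.mp hnt
  have hn0 : n ≠ 0 := by
    intro h0
    subst h0
    have : Γ.edist u v = 0 := by rw [← hn]; rfl
    exact huv (SimpleGraph.edist_eq_zero_iff.mp this)
  have hn1 : n ≠ 1 := by
    intro h1
    subst h1
    have : Γ.edist u v = 1 := by rw [← hn]; rfl
    exact ha (SimpleGraph.edist_eq_one_iff_adj.mp this)
  have hn2 : n ≤ 2 := by
    rw [← hn] at hle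
    exact_mod_cast hle
  have hn' : n = 2 := by omega
  subst hn'
  have h2le : (2 : ℕ∞) ≤ Γ.ediam := by
    calc (2 : ℕ∞) = Γ.edist u v := by rw [← hn]; rfl
      _ ≤ Γ.ediam := SimpleGraph.edist_le_ediam
  have heq : Γ.ediam = 2 := le_antisymm hed h2le
  unfold SimpleGraph.diam
  rw [heq]
  rfl

variable {F : Type*} [Field F]

/-- `SL(2,F)`. -/
abbrev SL (F : Type*) [Field F] := Matrix.SpecialLinearGroup (Fin 2) F

/-- `PSL(2,F)`. -/
abbrev PSL (F : Type*) [Field F] := Matrix.ProjectiveSpecialLinearGroup (Fin 2) F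

/-- the projection. -/
def pr : SL F →* PSL F := QuotientGroup.mk' (Subgroup.center (SL F))

theorem pr_surj : Function.Surjective (pr : SL F → PSL F) := QuotientGroup.mk'_surjective _

theorem pr_eq_one_iff (A : SL F) : pr A = 1 ↔ A ∈ Subgroup.center (SL F) :=
  QuotientGroup.eq_one_iff A

theorem det_eq (A : SL F) : A.1 0 0 * A.1 1 1 - A.1 0 1 * A.1 1 0 = 1 := by
  have := A.2
  rwa [Matrix.det_fin_two] at this

theorem mul00 (A B : SL F) : (A * B).1 0 0 = A.1 0 0 * B.1 0 0 + A.1 0 1 * B.1 1 0 := by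
  simp [Matrix.mul_apply, Fin.sum_univ_two]
theorem mul01 (A B : SL F) : (A * B).1 0 1 = A.1 0 0 * B.1 0 1 + A.1 0 1 * B.1 1 1 := by
  simp [Matrix.mul_apply, Fin.sum_univ_two]
theorem mul10 (A B : SL F) : (A * B).1 1 0 = A.1 1 0 * B.1 0 0 + A.1 1 1 * B.1 1 0 := by
  simp [Matrix.mul_apply, Fin.sum_univ_two]
theorem mul11 (A B : SL F) : (A * B).1 1 1 = A.1 1 0 * B.1 0 1 + A.1 1 1 * B.1 1 1 := by
  simp [Matrix.mul_apply, Fin.sum_univ_two]

theorem tr_eq (A : SL F) : A.1.trace = A.1 0 0 + A.1 1 1 := Matrix.trace_fin_two _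

theorem tr_mul (A B : SL F) : (A * B).1.trace =
    A.1 0 0 * B.1 0 0 + A.1 0 1 * B.1 1 0 + (A.1 1 0 * B.1 0 1 + A.1 1 1 * B.1 1 1) := by
  rw [tr_eq, mul00, mul11]

theorem mem_center_iff_entries (A : SL F) :
    A ∈ Subgroup.center (SL F) ↔ A.1 0 1 = 0 ∧ A.1 1 0 = 0 ∧ A.1 0 0 = A.1 1 1 := by
  rw [Matrix.SpecialLinearGroup.mem_center_iff]
  constructor
  · rintro ⟨r, hr, h⟩
    have h' : ∀ i j, (Matrix.scalar (Fin 2) r) i j = A.1 i j := fun i j => by rw [h]
    refine ⟨?_, ?_, ?_⟩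
    · rw [← h' 0 1]; simp
    · rw [← h' 1 0]; simp
    · rw [← h' 0 0, ← h' 1 1]; simp
  · rintro ⟨h01, h10, h⟩
    refine ⟨A.1 0 0, ?_, ?_⟩
    · have := det_eq A
      rw [h01, ← h] at this
      simp only [Fintype.card_fin]
      linear_combination this
    · ext i j
      fin_cases i <;> fin_cases j <;> simp [h01, h10, h]

theorem pr_pow_eq_one_iff (A : SL F) (k : ℕ) : (pr A) ^ k = 1 ↔ A ^ k ∈ Subgroup.center (SL F) := by
  rw [← map_pow, pr_eq_one_iff]

/-- trace zero and non-central: the image is an involution. -/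
theorem order_two_of_tr (A : SL F) (htr : A.1.trace = 0) (hc : A ∉ Subgroup.center (SL F)) :
    orderOf (pr A) = 2 := by
  haveI : Fact (Nat.Prime 2) := ⟨Nat.prime_two⟩
  apply orderOf_eq_prime
  · rw [pr_pow_eq_one_iff, pow_two, mem_center_iff_entries, mul01, mul10, mul00, mul11]
    rw [tr_eq] at htr
    have h11 : A.1 1 1 = - A.1 0 0 := by linear_combination htr
    refine ⟨?_, ?_, ?_⟩
    · rw [h11]; ring
    · rw [h11]; ring
    · rw [h11]; ring
  · intro h
    exact hc ((pr_eq_one_iff A).mp h)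

/-- an involution of `PSL₂` lifts to a trace-zero non-central matrix. -/
theorem tr_of_order_two (A : SL F) (h : orderOf (pr A) = 2) :
    A.1.trace = 0 ∧ A ∉ Subgroup.center (SL F) := by
  have hc : A ∉ Subgroup.center (SL F) := by
    intro hc
    have : pr A = 1 := (pr_eq_one_iff A).mpr hc
    rw [this, orderOf_one] at h
    omega
  refine ⟨?_, hc⟩
  have h2 : (pr A) ^ 2 = 1 := by
    have := pow_orderOf_eq_one (pr A)
    rwa [h] at this
  rw [pr_pow_eq_one_iff, pow_two, mem_center_iff_entries, mul01, mul10, mul00, mul11] at h2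
  obtain ⟨e1, e2, e3⟩ := h2
  by_contra htr
  rw [tr_eq] at htr
  apply hc
  rw [mem_center_iff_entries]
  have f1 : A.1 0 1 * (A.1 0 0 + A.1 1 1) = 0 := by linear_combination e1
  have f2 : A.1 1 0 * (A.1 0 0 + A.1 1 1) = 0 := by linear_combination e2
  have f3 : (A.1 0 0 - A.1 1 1) * (A.1 0 0 + A.1 1 1) = 0 := by linear_combination e3
  refine ⟨?_, ?_, ?_⟩
  · exact (mul_eq_zero.mp f1).resolve_right htr
  · exact (mul_eq_zero.mp f2).resolve_right htr
  · exact sub_eq_zero.mp ((mul_eq_zero.mp f3).resolve_right htr)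

/-- coefficient sequences of powers. -/
def cAB (τ : F) : ℕ → F × F
  | 0 => (1, 0)
  | (k + 1) => (-(cAB τ k).2, (cAB τ k).1 + τ * (cAB τ k).2)

theorem cayley (W : SL F) : W.1 * W.1 = W.1.trace • W.1 - 1 := by
  have hd := det_eq W
  ext i j
  fin_cases i <;> fin_cases j <;>
    simp [Matrix.mul_apply, Fin.sum_univ_two, Matrix.trace_fin_two] <;>
    first | ring1 | linear_combination (-1 : F) * hd | linear_combination hd

theorem pow_eq (W : SL F) (k : ℕ) :
    (W ^ k).1 = (cAB W.1.trace k).1 • (1 : Matrix (Fin 2) (Fin 2) F) + (cAB W.1.trace k).2 • W.1 := by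
  induction k with
  | zero => simp [cAB]
  | succ k ih =>
    rw [pow_succ, Matrix.SpecialLinearGroup.coe_mul, ih]
    simp only [cAB]
    rw [add_mul, Matrix.smul_mul, Matrix.smul_mul, one_mul, cayley]
    module

theorem pow_entries (W : SL F) (k : ℕ) :
    (W ^ k).1 0 1 = (cAB W.1.trace k).2 * W.1 0 1 ∧
    (W ^ k).1 1 0 = (cAB W.1.trace k).2 * W.1 1 0 ∧
    (W ^ k).1 0 0 = (cAB W.1.trace k).1 + (cAB W.1.trace k).2 * W.1 0 0 ∧
    (W ^ k).1 1 1 = (cAB W.1.trace k).1 + (cAB W.1.trace k).2 * W.1 1 1 := by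
  rw [pow_eq]
  refine ⟨?_, ?_, ?_, ?_⟩ <;> simp [Matrix.add_apply, Matrix.smul_apply]

theorem pow_central (W : SL F) (k : ℕ) (hB : (cAB W.1.trace k).2 = 0) :
    W ^ k ∈ Subgroup.center (SL F) := by
  rw [mem_center_iff_entries]
  obtain ⟨e1, e2, e3, e4⟩ := pow_entries W k
  rw [e1, e2, e3, e4, hB]
  simp

/-- characteristic 2: nonzero trace gives odd order. -/
theorem odd_order_of_tr_ne_zero [Finite F] (h2 : (2 : F) = 0) (W : SL F) (ht : W.1.trace ≠ 0) :
    Odd (orderOf (pr W)) := by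
  haveI : Finite (SL F) := by
    show Finite {A : Matrix (Fin 2) (Fin 2) F // A.det = 1}
    infer_instance
  haveI : Finite (PSL F) := by
    show Finite (SL F ⧸ Subgroup.center (SL F))
    infer_instance
  by_contra hodd
  rw [Nat.not_odd_iff_even] at hodd
  obtain ⟨k, hk⟩ := hodd
  have hpos : 0 < orderOf (pr W) := orderOf_pos _
  have hk0 : 0 < k := by omega
  have hklt : k < orderOf (pr W) := by omega
  have hne : (pr W) ^ k ≠ 1 := pow_ne_one_of_lt_orderOf hk0.ne' hklt
  have hsq : ((pr W) ^ k) ^ 2 = 1 := by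
    rw [← pow_mul, show k * 2 = orderOf (pr W) by omega]
    exact pow_orderOf_eq_one _
  haveI : Fact (Nat.Prime 2) := ⟨Nat.prime_two⟩
  have ho : orderOf (pr (W ^ k)) = 2 := by
    rw [map_pow]
    exact orderOf_eq_prime hsq hne
  obtain ⟨htr, hc⟩ := tr_of_order_two (W ^ k) ho
  obtain ⟨e1, e2, e3, e4⟩ := pow_entries W k
  rw [tr_eq, e3, e4] at htr
  have htr' : W.1.trace = W.1 0 0 + W.1 1 1 := tr_eq W
  have hB : (cAB W.1.trace k).2 * W.1.trace = 0 := by
    calc (cAB W.1.trace k).2 * W.1.trace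
        = (cAB W.1.trace k).2 * (W.1 0 0 + W.1 1 1) := congrArg ((cAB W.1.trace k).2 * ·) htr'
      _ = 0 := by linear_combination htr - (cAB W.1.trace k).1 * h2
  have hB0 : (cAB W.1.trace k).2 = 0 := (mul_eq_zero.mp hB).resolve_right ht
  exact hc (pow_central W k hB0)

theorem cAB_unip (ε : F) (hε : ε ^ 2 = 1) (k : ℕ) :
    cAB (2 * ε) k = (ε ^ k * (1 - k), k * ε ^ (k + 1)) := by
  induction k with
  | zero => simp [cAB]
  | succ k ih =>
    simp only [cAB, ih]
    ext
    · simp only; push_cast; ring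
    · simp only; push_cast
      linear_combination (-(ε ^ k * (1 - (k : F)))) * hε

theorem cAB_hyp (l l' δ : F) (hδ : δ ≠ 0) (hd : l - l' = δ) (hm : l * l' = 1) (k : ℕ) :
    cAB (l + l') k = ((l' ^ k * l - l ^ k * l') / δ, (l ^ k - l' ^ k) / δ) := by
  induction k with
  | zero =>
    simp only [cAB, pow_zero, one_mul, sub_self, zero_div]
    rw [hd, div_self hδ]
  | succ k ih =>
    simp only [cAB, ih]
    ext
    · simp only
      field_simp
      linear_combination (l ^ k - l' ^ k) * hm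
    · simp only
      field_simp
      ring

theorem finite_PSL [Finite F] : Finite (PSL F) := by
  haveI : Finite (SL F) := by
    show Finite {A : Matrix (Fin 2) (Fin 2) F // A.det = 1}
    infer_instance
  show Finite (SL F ⧸ Subgroup.center (SL F))
  infer_instance

/-- odd characteristic: trace `±2` gives order dividing `p`, hence odd. -/
theorem odd_order_unipotent [Fintype F] (h2 : (2 : F) ≠ 0) (W : SL F) (ε : F) (hε : ε ^ 2 = 1)
    (ht : W.1.trace = 2 * ε) : Odd (orderOf (pr W)) := by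
  haveI := ringChar.charP F
  have hp : (ringChar F).Prime := CharP.char_is_prime F (ringChar F)
  have hp0 : ((ringChar F : ℕ) : F) = 0 := CharP.cast_eq_zero F (ringChar F)
  have hp2 : ringChar F ≠ 2 := by
    intro h
    rw [h] at hp0
    exact h2 (by exact_mod_cast hp0)
  have hB : (cAB W.1.trace (ringChar F)).2 = 0 := by
    rw [ht, cAB_unip ε hε]
    simp only
    rw [hp0, zero_mul]
  have hc := pow_central W (ringChar F) hB
  rw [← pr_pow_eq_one_iff] at hc
  have hdvd := orderOf_dvd_of_pow_eq_one hc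
  exact Odd.of_dvd_nat (hp.odd_of_ne_two hp2) hdvd

/-- `q ≡ 3 mod 4`: trace with `τ² - 4` a nonzero square gives order dividing `(q-1)/2`, odd. -/
theorem odd_order_hyperbolic [Fintype F] (hq : Fintype.card F % 4 = 3) (W : SL F) (δ : F)
    (hδ : δ ≠ 0) (ht : W.1.trace ^ 2 - 4 = δ ^ 2) : Odd (orderOf (pr W)) := by
  have h2 : (2 : F) ≠ 0 := by
    intro h
    have hr : ringChar F = 2 := CharP.ringChar_of_prime_eq_zero Nat.prime_two (by exact_mod_cast h)
    have := FiniteField.even_card_of_char_two hr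
    omega
  set τ := W.1.trace with hτ
  set l : F := (τ + δ) / 2 with hl
  set l' : F := (τ - δ) / 2 with hl'
  have hsum : l + l' = τ := by rw [hl, hl']; field_simp; ring
  have hdiff : l - l' = δ := by rw [hl, hl']; field_simp; ring
  have hm : l * l' = 1 := by
    rw [hl, hl']
    field_simp
    linear_combination ht
  have hl0 : l ≠ 0 := by
    intro h
    rw [h, zero_mul] at hm
    exact zero_ne_one hm
  obtain ⟨m, hm4⟩ : ∃ m, Fintype.card F = 4 * m + 3 := ⟨Fintype.card F / 4, by omega⟩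
  set n := 2 * m + 1 with hn
  have hcard : Fintype.card F - 1 = 2 * n := by omega
  have hpow : l ^ (2 * n) = 1 := by
    rw [← hcard]
    exact FiniteField.pow_card_sub_one_eq_one l hl0
  have hl'inv : l' = l⁻¹ := eq_inv_of_mul_eq_one_right hm
  have hε : (l ^ n) * (l ^ n) = 1 := by rw [← pow_add, ← two_mul]; exact hpow
  have hl'n : l' ^ n = l ^ n := by
    rw [hl'inv, inv_pow]
    exact inv_eq_of_mul_eq_one_left hε
  have hB : (cAB W.1.trace n).2 = 0 := by
    rw [← hτ, ← hsum, cAB_hyp l l' δ hδ hdiff hm]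
    simp only
    rw [hl'n, sub_self, zero_div]
  have hc := pow_central W n hB
  rw [← pr_pow_eq_one_iff] at hc
  have hdvd := orderOf_dvd_of_pow_eq_one hc
  exact Odd.of_dvd_nat ⟨m, hn⟩ hdvd

end Cfsg.Agent.Lib.Helper3.OddGraph
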