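import Mathlib
import Cfsg.Agent.Lib.Helper3.OddGraphA

set_option autoImplicit false
set_option maxHeartbeats 4000000
set_option maxRecDepth 100000
set_option linter.unusedVariables false
set_option linter.unusedSectionVars false
set_option linter.style.haveILetI false
set_option linter.deprecated false

/-!
# Odd-product graph on involutions of PSL(2,q): conjugacy, constructions, counting (helper3)
-/

namespace Cfsg.Agent.Lib.Helper3.OddGraph

open Matrix

variable {F : Type*} [Field F]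

/-- build an element of `SL₂` from entries. -/
def mk2 (a b c d : F) (h : a * d - b * c = 1) : SL F :=
  ⟨!![a, b; c, d], by rw [Matrix.det_fin_two_of]; exact h⟩

@[simp] theorem mk2_00 (a b c d : F) (h : a * d - b * c = 1) : (mk2 a b c d h).1 0 0 = a := rfl
@[simp] theorem mk2_01 (a b c d : F) (h : a * d - b * c = 1) : (mk2 a b c d h).1 0 1 = b := rfl
@[simp] theorem mk2_10 (a b c d : F) (h : a * d - b * c = 1) : (mk2 a b c d h).1 1 0 = c := rfl
@[simp] theorem mk2_11 (a b c d : F) (h : a * d - b * c = 1) : (mk2 a b c d h).1 1 1 = d := rfl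

theorem SL_ext (A B : SL F) (h00 : A.1 0 0 = B.1 0 0) (h01 : A.1 0 1 = B.1 0 1)
    (h10 : A.1 1 0 = B.1 1 0) (h11 : A.1 1 1 = B.1 1 1) : A = B := by
  apply Subtype.ext
  ext i j
  fin_cases i <;> fin_cases j <;> assumption

/-- the standard involution lift. -/
def J0 : SL F := mk2 0 (-1) 1 0 (by ring)

theorem ringChar_ne_two_of (h2 : (2 : F) ≠ 0) : ringChar F ≠ 2 := by
  intro h
  apply h2
  have := CharP.cast_eq_zero F (ringChar F)
  rw [h] at this
  exact_mod_cast this

theorem ringChar_eq_two_of (h2 : (2 : F) = 0) : ringChar F = 2 :=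
  CharP.ringChar_of_prime_eq_zero Nat.prime_two (by exact_mod_cast h2)

theorem sum_two_squares [Fintype F] (h2 : (2 : F) ≠ 0) (c : F) : ∃ s r : F, s ^ 2 + r ^ 2 = c := by
  have hodd : Fintype.card F % 2 = 1 := FiniteField.odd_card_of_char_ne_two (ringChar_ne_two_of h2)
  obtain ⟨a, b, hab⟩ := FiniteField.exists_root_sum_quadratic (f := (Polynomial.X ^ 2 : Polynomial F))
    (g := Polynomial.X ^ 2 - Polynomial.C c) (Polynomial.degree_X_pow 2)
    (Polynomial.degree_X_pow_sub_C (by decide) _) hodd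
  refine ⟨a, b, ?_⟩
  simp at hab
  linear_combination hab

/-- trace-zero non-central elements of `SL₂(F)`, `F` finite, are conjugate to `J0`. -/
theorem exists_conj_J0 [Fintype F] (A : SL F) (htr : A.1.trace = 0)
    (hc : A ∉ Subgroup.center (SL F)) : ∃ g : SL F, A * g = g * J0 := by
  obtain ⟨a, ha⟩ : ∃ a, A.1 0 0 = a := ⟨_, rfl⟩
  obtain ⟨b, hb⟩ : ∃ b, A.1 0 1 = b := ⟨_, rfl⟩
  obtain ⟨c, hc'⟩ : ∃ c, A.1 1 0 = c := ⟨_, rfl⟩
  obtain ⟨d, hd'⟩ : ∃ d, A.1 1 1 = d := ⟨_, rfl⟩
  have hdet : a * d - b * c = 1 := by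
    have := det_eq A
    rwa [ha, hb, hc', hd'] at this
  have hd : d = -a := by
    rw [tr_eq, ha, hd'] at htr
    linear_combination htr
  -- find v
  have hv : ∃ v₁ v₂ : F, c * v₁ ^ 2 + (d - a) * v₁ * v₂ - b * v₂ ^ 2 = 1 := by
    by_cases h2 : (2 : F) = 0
    · have hr := ringChar_eq_two_of h2
      by_cases hc0 : c = 0
      · have hb0 : b ≠ 0 := by
          intro hb0
          apply hc
          rw [mem_center_iff_entries, ha, hb, hc', hd']
          refine ⟨hb0, hc0, ?_⟩
          rw [hd]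
          linear_combination a * h2
        obtain ⟨β, hβ⟩ := FiniteField.isSquare_of_char_two hr b
        have hβ0 : β ≠ 0 := by
          intro h
          rw [h, mul_zero] at hβ
          exact hb0 hβ
        refine ⟨0, β⁻¹, ?_⟩
        rw [hc0, hβ]
        have e : β * β * β⁻¹ ^ 2 = 1 := by field_simp
        linear_combination (-1 : F) * e + (-1 : F) * h2
      · obtain ⟨γ, hγ⟩ := FiniteField.isSquare_of_char_two hr c
        have hγ0 : γ ≠ 0 := by
          intro h
          rw [h, mul_zero] at hγ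
          exact hc0 hγ
        refine ⟨γ⁻¹, 0, ?_⟩
        rw [hγ]
        have e : γ * γ * γ⁻¹ ^ 2 = 1 := by field_simp
        linear_combination e
    · by_cases hc0 : c = 0
      · have ha2 : a * a = -1 := by
          rw [hd, hc0] at hdet
          linear_combination (-1 : F) * hdet
        have ha0 : a ≠ 0 := by
          intro h
          rw [h, mul_zero] at ha2
          have : (1 : F) = 0 := by linear_combination ha2
          exact one_ne_zero this
        refine ⟨-(1 + b) / (2 * a), 1, ?_⟩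
        rw [hc0, hd]
        field_simp
        ring
      · obtain ⟨s, r, hsr⟩ := sum_two_squares h2 c
        refine ⟨(s + a * r) / c, r, ?_⟩
        rw [hd] at hdet ⊢
        field_simp
        linear_combination hsr + r ^ 2 * hdet
  obtain ⟨v₁, v₂, hv⟩ := hv
  refine ⟨mk2 v₁ (a * v₁ + b * v₂) v₂ (c * v₁ + d * v₂) (by linear_combination hv), ?_⟩
  apply SL_ext
  · rw [mul00, mul00]; simp [J0, ha, hb]
  · rw [mul01, mul01]; simp [J0, ha, hb]
    rw [hd] at hdet ⊢
    linear_combination (-v₁) * hdet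
  · rw [mul10, mul10]; simp [J0, hc', hd']
  · rw [mul11, mul11]; simp [J0, hc', hd']
    rw [hd] at hdet ⊢
    linear_combination (-v₂) * hdet

theorem isConj_pr_of_tr [Fintype F] (A B : SL F) (hA : A.1.trace = 0)
    (hAc : A ∉ Subgroup.center (SL F)) (hB : B.1.trace = 0)
    (hBc : B ∉ Subgroup.center (SL F)) : IsConj (pr A) (pr B) := by
  obtain ⟨g, hg⟩ := exists_conj_J0 A hA hAc
  obtain ⟨k, hk⟩ := exists_conj_J0 B hB hBc
  rw [isConj_iff]
  refine ⟨pr (k * g⁻¹), ?_⟩
  rw [← map_mul, ← map_inv, ← map_mul]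
  congr 1
  have h1 : A = g * J0 * g⁻¹ := eq_mul_inv_of_mul_eq hg
  have h2 : B = k * J0 * k⁻¹ := eq_mul_inv_of_mul_eq hk
  rw [h1, h2]
  group

/-- the key construction: an element `z` of trace zero with prescribed traces of `x z`, `z y`. -/
theorem exists_z (x y : SL F) (hx : x.1.trace = 0) (hy : y.1.trace = 0)
    (hτ : (x * y).1.trace ^ 2 - 4 ≠ 0) (t₁ t₂ ρ : F)
    (hρ : ρ ^ 2 = -((x * y).1.trace ^ 2 + t₁ ^ 2 + t₂ ^ 2 + (x * y).1.trace * t₁ * t₂ - 4)) :
    ∃ z : SL F, z.1.trace = 0 ∧ (x * z).1.trace = t₁ ∧ (z * y).1.trace = t₂ := by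
  set a := x.1 0 0 with ha
  set b := x.1 0 1 with hb
  set c := x.1 1 0 with hc
  set a' := y.1 0 0 with ha'
  set b' := y.1 0 1 with hb'
  set c' := y.1 1 0 with hc'
  have hx11 : x.1 1 1 = -a := by rw [tr_eq] at hx; linear_combination hx
  have hy11 : y.1 1 1 = -a' := by rw [tr_eq] at hy; linear_combination hy
  have h1 : a * a + b * c = -1 := by
    have := det_eq x
    rw [hx11] at this
    linear_combination (-1 : F) * this
  have h2 : a' * a' + b' * c' = -1 := by
    have := det_eq y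
    rw [hy11] at this
    linear_combination (-1 : F) * this
  set τ := (x * y).1.trace with hτdef
  have hτe : τ = 2 * a * a' + b * c' + c * b' := by
    rw [hτdef, tr_mul, hx11, hy11]
    ring
  set Di := (τ ^ 2 - 4)⁻¹ with hDi
  have hD : (τ ^ 2 - 4) * Di = 1 := mul_inv_cancel₀ hτ
  set α := (2 * t₁ + τ * t₂) * Di with hα
  set β := (τ * t₁ + 2 * t₂) * Di with hβ
  set γ := ρ * Di with hγ
  set A := α * a + β * a' + γ * (b * c' - c * b') with hA
  set B := α * b + β * b' + 2 * γ * (a * b' - b * a') with hB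
  set C := α * c + β * c' + 2 * γ * (c * a' - a * c') with hC
  have e1 : A * (-A) - B * C = 1 := by grind
  have e2 : 2 * a * A + b * C + c * B = t₁ := by grind
  have e3 : 2 * a' * A + b' * C + c' * B = t₂ := by grind
  refine ⟨mk2 A B C (-A) e1, ?_, ?_, ?_⟩
  · rw [tr_eq]; simp
  · rw [tr_mul]
    simp only [mk2_00, mk2_01, mk2_10, mk2_11]
    rw [hx11]
    linear_combination e2
  · rw [tr_mul]
    simp only [mk2_00, mk2_01, mk2_10, mk2_11]
    rw [hy11]
    linear_combination e3

section counting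

variable [Fintype F]

theorem card_conic [DecidableEq F] (h2 : (2 : F) ≠ 0) (k : F) (hk : k ≠ 0) :
    (Finset.univ.filter (fun p : F × F => p.1 ^ 2 - p.2 ^ 2 = k)).card = Fintype.card F - 1 := by
  have h1 : (Finset.univ.filter (fun u : F => u ≠ 0)).card = Fintype.card F - 1 := by
    rw [Finset.filter_ne', Finset.card_erase_of_mem (Finset.mem_univ _), Finset.card_univ]
  rw [← h1]
  apply Finset.card_bij' (fun p _ => p.1 - p.2) (fun u _ => ((u + k / u) / 2, (k / u - u) / 2))
  · intro p hp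
    simp only [Finset.mem_filter, Finset.mem_univ, true_and] at hp ⊢
    intro h0
    apply hk
    rw [← hp]
    have : p.1 = p.2 := sub_eq_zero.mp h0
    rw [this]; ring
  · intro u hu
    simp only [Finset.mem_filter, Finset.mem_univ, true_and] at hu ⊢
    field_simp
    ring
  · intro p hp
    simp only [Finset.mem_filter, Finset.mem_univ, true_and] at hp
    have h0 : p.1 - p.2 ≠ 0 := by
      intro h0
      apply hk
      rw [← hp]
      have : p.1 = p.2 := sub_eq_zero.mp h0
      rw [this]; ring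
    ext
    · simp only
      rw [← hp]
      field_simp
      ring
    · simp only
      rw [← hp]
      field_simp
      ring
  · intro u hu
    simp only [Finset.mem_filter, Finset.mem_univ, true_and] at hu
    simp only
    field_simp
    ring

theorem sum_char_sq_sub [DecidableEq F] (h2 : (2 : F) ≠ 0) (k : F) (hk : k ≠ 0) :
    ∑ s : F, quadraticChar F (s ^ 2 - k) = -1 := by
  have hq : 1 ≤ Fintype.card F := Fintype.card_pos
  have hc := card_conic h2 k hk
  have hinner : ∀ s : F, ((Finset.univ.filter (fun v : F => s ^ 2 - v ^ 2 = k)).card : ℤ)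
      = quadraticChar F (s ^ 2 - k) + 1 := by
    intro s
    rw [← quadraticChar_card_sqrts (ringChar_ne_two_of h2) (s ^ 2 - k)]
    congr 1
    rw [Set.toFinset_setOf]
    congr 1
    ext v
    simp only [Finset.mem_filter, Finset.mem_univ, true_and]
    constructor
    · intro h; linear_combination (-1 : F) * h
    · intro h; linear_combination (-1 : F) * h
  have hsum : ((Finset.univ.filter (fun p : F × F => p.1 ^ 2 - p.2 ^ 2 = k)).card : ℤ)
      = ∑ s : F, ((Finset.univ.filter (fun v : F => s ^ 2 - v ^ 2 = k)).card : ℤ) := by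
    rw [Finset.card_filter, Fintype.sum_prod_type]
    push_cast
    apply Finset.sum_congr rfl
    intro s _
    rw [Finset.card_filter]
    push_cast
    rfl
  rw [hc] at hsum
  have : ∑ s : F, ((Finset.univ.filter (fun v : F => s ^ 2 - v ^ 2 = k)).card : ℤ)
      = ∑ s : F, quadraticChar F (s ^ 2 - k) + Fintype.card F := by
    rw [Finset.sum_congr rfl (fun s _ => hinner s), Finset.sum_add_distrib]
    simp
  rw [this] at hsum
  push_cast [Nat.cast_sub hq] at hsum
  linarith

theorem sum_char_quadratic [DecidableEq F] (h2 : (2 : F) ≠ 0) (c d : F) (hD : c ^ 2 - 4 * d ≠ 0) :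
    ∑ t : F, quadraticChar F (t ^ 2 + c * t + d) = -1 := by
  have h4 : (4 : F) ≠ 0 := by
    have : (4 : F) = 2 * 2 := by norm_num
    rw [this]; exact mul_ne_zero h2 h2
  have hk : (c ^ 2 - 4 * d) / 4 ≠ 0 := div_ne_zero hD h4
  rw [← sum_char_sq_sub h2 _ hk]
  apply Fintype.sum_equiv (Equiv.addRight (c / 2))
  intro t
  congr 1
  simp only [Equiv.coe_addRight]
  field_simp
  ring

/-- the pigeonhole step for `q ≡ 3 mod 4`. -/
theorem exists_hyp (hm1 : ¬ IsSquare (-1 : F)) (τ t₁ δ₁ : F) (hτ : ¬ IsSquare (τ ^ 2 - 4))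
    (h1 : t₁ ^ 2 - 4 = δ₁ ^ 2) (hδ₁ : δ₁ ≠ 0) :
    ∃ t₂ δ₂ ρ : F, t₂ ^ 2 - 4 = δ₂ ^ 2 ∧ δ₂ ≠ 0 ∧
      ρ ^ 2 = -(τ ^ 2 + t₁ ^ 2 + t₂ ^ 2 + τ * t₁ * t₂ - 4) := by
  classical
  have h2 : (2 : F) ≠ 0 := by
    intro h2
    apply hm1
    refine ⟨1, ?_⟩
    linear_combination (-1 : F) * h2
  have h4 : (4 : F) ≠ 0 := by
    have : (4 : F) = 2 * 2 := by norm_num
    rw [this]; exact mul_ne_zero h2 h2
  have hτ0 : τ ^ 2 - 4 ≠ 0 := by
    intro h
    apply hτ
    rw [h]
    exact ⟨0, by ring⟩
  have hχm1 : quadraticChar F (-1 : F) = -1 := quadraticChar_neg_one_iff_not_isSquare.mpr hm1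
  by_contra hno
  push Not at hno
  -- the two sums
  have hS1 : ∑ t : F, quadraticChar F (t ^ 2 + 0 * t + (-4)) = -1 := by
    apply sum_char_quadratic h2
    have : (0 : F) ^ 2 - 4 * (-4) = 4 * 4 := by ring
    rw [this]
    exact mul_ne_zero h4 h4
  have hS2 : ∑ t : F, quadraticChar F (t ^ 2 + (τ * t₁) * t + (τ ^ 2 + t₁ ^ 2 - 4)) = -1 := by
    apply sum_char_quadratic h2
    have : (τ * t₁) ^ 2 - 4 * (τ ^ 2 + t₁ ^ 2 - 4) = (τ ^ 2 - 4) * δ₁ ^ 2 := by
      rw [← h1]; ring
    rw [this]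
    exact mul_ne_zero hτ0 (pow_ne_zero 2 hδ₁)
  -- g₂ never vanishes
  have hg2 : ∀ t : F, t ^ 2 + (τ * t₁) * t + (τ ^ 2 + t₁ ^ 2 - 4) ≠ 0 := by
    intro t h
    apply hτ
    refine ⟨(2 * t + τ * t₁) / δ₁, ?_⟩
    field_simp
    rw [← h1]
    linear_combination (-4 : F) * h
  have hle1 : ∀ a : F, quadraticChar F a ≤ 1 := by
    intro a
    by_cases ha : a = 0
    · rw [ha, quadraticChar_zero]; norm_num
    · rcases quadraticChar_dichotomy ha with h | h <;> rw [h] <;> norm_num
  have hpt : ∀ t : F, quadraticChar F (t ^ 2 + 0 * t + (-4)) ≤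
      quadraticChar F (t ^ 2 + (τ * t₁) * t + (τ ^ 2 + t₁ ^ 2 - 4)) := by
    intro t
    rcases quadraticChar_dichotomy (hg2 t) with h | h
    · rw [h]; exact hle1 _
    · rw [h]
      -- -g₂ is a square
      have hneg : quadraticChar F (-(t ^ 2 + (τ * t₁) * t + (τ ^ 2 + t₁ ^ 2 - 4))) = 1 := by
        rw [neg_eq_neg_one_mul, map_mul, hχm1, h]; norm_num
      have hne : -(t ^ 2 + (τ * t₁) * t + (τ ^ 2 + t₁ ^ 2 - 4)) ≠ 0 := neg_ne_zero.mpr (hg2 t)
      obtain ⟨ρ, hρ⟩ := (quadraticChar_one_iff_isSquare hne).mp hneg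
      have hρ' : ρ ^ 2 = -(τ ^ 2 + t₁ ^ 2 + t ^ 2 + τ * t₁ * t - 4) := by
        linear_combination (-1 : F) * hρ
      by_cases h0 : t ^ 2 + 0 * t + (-4) = 0
      · exfalso
        have hnsq := quadraticChar_neg_one_iff_not_isSquare.mp h
        apply hnsq
        have ht : (t - 2) * (t + 2) = 0 := by linear_combination h0
        rcases mul_eq_zero.mp ht with ht | ht
        · have : t = 2 := by linear_combination ht
          refine ⟨τ + t₁, ?_⟩
          rw [this]; ring
        · have : t = -2 := by linear_combination ht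
          refine ⟨τ - t₁, ?_⟩
          rw [this]; ring
      · rcases quadraticChar_dichotomy h0 with h' | h'
        · exfalso
          obtain ⟨δ₂, hδ₂⟩ := (quadraticChar_one_iff_isSquare h0).mp h'
          have hδ₂' : t ^ 2 - 4 = δ₂ ^ 2 := by linear_combination hδ₂
          have hδ0 : δ₂ ≠ 0 := by
            intro hz
            apply h0
            rw [hδ₂, hz]; ring
          exact hno t δ₂ ρ hδ₂' hδ0 hρ'
        · rw [h']
  have hlt : quadraticChar F ((2 : F) ^ 2 + 0 * 2 + (-4)) <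
      quadraticChar F ((2 : F) ^ 2 + (τ * t₁) * 2 + (τ ^ 2 + t₁ ^ 2 - 4)) := by
    have e1 : (2 : F) ^ 2 + 0 * 2 + (-4) = 0 := by ring
    have e2 : (2 : F) ^ 2 + (τ * t₁) * 2 + (τ ^ 2 + t₁ ^ 2 - 4) = (τ + t₁) ^ 2 := by ring
    have hne := hg2 2
    rw [e2] at hne
    have hne' : τ + t₁ ≠ 0 := by
      intro hz
      apply hne
      rw [hz]; ring
    rw [e1, e2, quadraticChar_zero, quadraticChar_sq_one' hne']
    norm_num
  have := Finset.sum_lt_sum (s := Finset.univ) (fun t _ => hpt t) ⟨2, Finset.mem_univ _, hlt⟩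
  rw [hS1, hS2] at this
  exact lt_irrefl _ this

end counting

end Cfsg.Agent.Lib.Helper3.OddGraph
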