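import Mathlib
import Cfsg.Agent.Lib.Helper7.Small2

/-! Burnside's transfer theorem inside a subgroup `M` of `G`: if an abelian Sylow `p`-subgroup
`P ≤ M` of `G` is self-normalizing in `M`, then `M` normalizes a complement of `P` in `M`. -/

set_option autoImplicit false
set_option maxHeartbeats 4000000
set_option maxRecDepth 100000
set_option linter.unusedVariables false
set_option linter.unusedSectionVars false
set_option linter.style.haveILetI false
set_option linter.deprecated false

namespace Cfsg.Agent.Lib.Helper3.OrdTools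

open Cfsg.Agent.Lib.Lead Cfsg.Agent.Lib.Lead.SmallSimple Cfsg.Agent.Lib.Lead.SmallSimple2
  Cfsg.Agent.Lib.Lead.SylowCount Cfsg.Agent.Lib.Lead.PrimeDegree
  Cfsg.Agent.Lib.Helper7.CountTools Cfsg.Agent.Lib.Helper7.SylPar

variable {G : Type*} [Group G] [Finite G]

theorem exists_normal_complement_in_sub {p : ℕ} [hp : Fact p.Prime] (M : Subgroup G)
    (P : Sylow p G) (hPM : (P : Subgroup G) ≤ M)
    (hcomm : ∀ a ∈ (P : Subgroup G), ∀ b ∈ (P : Subgroup G), a * b = b * a)
    (hself : Nat.card (Sylow p M) * Nat.card (P : Subgroup G) = Nat.card M) :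
    ∃ E : Subgroup G, E ≤ M ∧ M ≤ Subgroup.normalizer (E : Set G) ∧
      Nat.card E * Nat.card (P : Subgroup G) = Nat.card M := by
  have hP'card : Nat.card ((P.subtype hPM : Sylow p M) : Subgroup M) =
      Nat.card (P : Subgroup G) := by
    rw [Sylow.coe_subtype]
    exact Nat.card_congr (Subgroup.subgroupOfEquivOfLe hPM).toEquiv
  have hNM := card_sylow_mul_card_normalizer p (P.subtype hPM)
  have hpos : 0 < Nat.card (Sylow p M) := Nat.card_pos
  have hNcard : Nat.card (Subgroup.normalizer (((P.subtype hPM : Sylow p M) : Subgroup M) : Set M))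
      = Nat.card ((P.subtype hPM : Sylow p M) : Subgroup M) := by
    rw [hP'card]
    have h1 : Nat.card (Sylow p M) * Nat.card (Subgroup.normalizer
        (((P.subtype hPM : Sylow p M) : Subgroup M) : Set M)) =
        Nat.card (Sylow p M) * Nat.card (P : Subgroup G) := by
      rw [hself]; exact hNM
    exact Nat.eq_of_mul_eq_mul_left hpos h1
  have hNeq : ((P.subtype hPM : Sylow p M) : Subgroup M) =
      Subgroup.normalizer (((P.subtype hPM : Sylow p M) : Subgroup M) : Set M) :=
    Subgroup.eq_of_le_of_card_ge Subgroup.le_normalizer (le_of_eq hNcard)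
  have hle : Subgroup.normalizer (((P.subtype hPM : Sylow p M) : Subgroup M) : Set M) ≤
      Subgroup.centralizer (((P.subtype hPM : Sylow p M) : Subgroup M) : Set M) := by
    intro g hg
    rw [← hNeq] at hg
    rw [Subgroup.mem_centralizer_iff]
    intro y hy
    have hg' : (g : G) ∈ (P : Subgroup G) := by
      rw [Sylow.coe_subtype, Subgroup.mem_subgroupOf] at hg; exact hg
    have hy' : (y : G) ∈ (P : Subgroup G) := by
      have hy2 : y ∈ ((P.subtype hPM : Sylow p M) : Subgroup M) := hy
      rw [Sylow.coe_subtype, Subgroup.mem_subgroupOf] at hy2; exact hy2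
    exact Subtype.ext (hcomm _ hy' _ hg')
  have hcompl := MonoidHom.ker_transferSylow_isComplement' (P.subtype hPM) hle
  have hKnormal : (MonoidHom.transferSylow (P.subtype hPM) hle).ker.Normal :=
    MonoidHom.normal_ker _
  refine ⟨(MonoidHom.transferSylow (P.subtype hPM) hle).ker.map M.subtype,
    Subgroup.map_subtype_le _, ?_, ?_⟩
  · have h1 := Subgroup.le_normalizer_map (H := (MonoidHom.transferSylow (P.subtype hPM) hle).ker)
      M.subtype
    rw [Subgroup.normalizer_eq_top_iff.mpr hKnormal, ← MonoidHom.range_eq_map,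
      Subgroup.range_subtype] at h1
    exact h1
  · rw [Subgroup.card_map_of_injective (Subgroup.subtype_injective _), ← hP'card]
    exact hcompl.card_mul

end Cfsg.Agent.Lib.Helper3.OrdTools
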