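import Mathlib
import Cfsg.Agent.Lib.Helper3.OrdTools2

/-! No simple group of order 5600 = 2^5 * 5^2 * 7. -/

set_option autoImplicit false
set_option maxHeartbeats 4000000
set_option maxRecDepth 100000
set_option linter.unusedVariables false
set_option linter.unusedSectionVars false
set_option linter.style.haveILetI false
set_option linter.deprecated false

namespace Cfsg.Agent.Lib.Helper3.Ord5600

open Cfsg.Agent.Lib.Lead Cfsg.Agent.Lib.Lead.SmallSimple Cfsg.Agent.Lib.Lead.SmallSimple2
  Cfsg.Agent.Lib.Lead.SylowCount Cfsg.Agent.Lib.Lead.PrimeDegree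
  Cfsg.Agent.Lib.Helper7.CountTools Cfsg.Agent.Lib.Helper7.SylPar Cfsg.Agent.Lib.Helper7.Small
  Cfsg.Agent.Lib.Helper3.OrdTools

theorem not_simple {G : Type*} [Group G] [Finite G] [IsSimpleGroup G]
    (h : Nat.card G = 5600) : False := by
  have hG : ¬ IsMulCommutative G := not_comm_of_not_prime (by rw [h]; norm_num)
  haveI f5 : Fact (Nat.Prime 5) := ⟨by norm_num⟩
  haveI f2 : Fact (Nat.Prime 2) := ⟨by norm_num⟩
  have hnp := not_modEq_sq hG (n := 5600) (p := 5) (q := 2) (by norm_num) h (by norm_num)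
    (by norm_num) (by norm_num) (by norm_num) (by decide +kernel)
  obtain ⟨D, P, R, hPR, hD, hDcard, hPM, hRM⟩ :=
    big_inter (p := 5) (a := 2) (r := 224) (by norm_num) (h.trans (by norm_num)) (by norm_num)
      (by norm_num) hnp
  have hcardP : Nat.card (P : Subgroup G) = 5 ^ 2 :=
    card_sylow_of_card_eq_pow 5 2 224 (h.trans (by norm_num)) (by norm_num) P
  have hDc : Nat.card D = 5 := by omega
  have hMtop : Subgroup.normalizer (D : Set G) ≠ ⊤ := by
    intro h5
    have hnor : D.Normal := Subgroup.normalizer_eq_top_iff.mp h5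
    rcases hnor.eq_bot_or_eq_top with e | e
    · rw [e, Subgroup.card_bot] at hDc
      omega
    · rw [e, Subgroup.card_top, h] at hDc
      omega
  have hfact := two_mul_card_dvd_factorial_index hG _ hMtop
  rw [h] at hfact
  -- the order of `M = N(D)` and its number of Sylow 5-subgroups
  have hPMcard : Nat.card ((P.subtype hPM : Sylow 5 (Subgroup.normalizer (D : Set G))) :
      Subgroup (Subgroup.normalizer (D : Set G))) = 5 ^ 2 := by
    rw [Sylow.coe_subtype]
    exact (Nat.card_congr (Subgroup.subgroupOfEquivOfLe hPM).toEquiv).trans hcardP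
  obtain ⟨j, hj⟩ : 5 ^ 2 ∣ Nat.card (Subgroup.normalizer (D : Set G)) := by
    have := Subgroup.card_dvd_of_le hPM
    rwa [hcardP] at this
  have he_dvd : Nat.card (Sylow 5 (Subgroup.normalizer (D : Set G))) ∣ j :=
    card_sylow_dvd_of_card (P.subtype hPM) hPMcard hj (by norm_num)
  have he_mod : Nat.card (Sylow 5 (Subgroup.normalizer (D : Set G))) % 5 = 1 := by
    have hmod := card_sylow_modEq_one 5 (Subgroup.normalizer (D : Set G))
    unfold Nat.ModEq at hmod; omega
  have he_ne : Nat.card (Sylow 5 (Subgroup.normalizer (D : Set G))) ≠ 1 := by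
    intro h5
    haveI : Subsingleton (Sylow 5 (Subgroup.normalizer (D : Set G))) :=
      (Nat.card_eq_one_iff_unique.mp h5).1
    have e : P.subtype hPM = R.subtype hRM := Subsingleton.elim _ _
    exact hPR (Sylow.subtype_injective e)
  have hMk := Subgroup.card_mul_index (Subgroup.normalizer (D : Set G))
  rw [hj, h] at hMk
  have hjr : j * (Subgroup.normalizer (D : Set G)).index = 224 := by
    have : 5 ^ 2 * (j * (Subgroup.normalizer (D : Set G)).index) = 5 ^ 2 * 224 := by
      rw [← mul_assoc, hMk]; norm_num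
    exact Nat.eq_of_mul_eq_mul_left (by norm_num) this
  have hj_mem : j ∈ Nat.divisors 224 := Nat.mem_divisors.mpr ⟨Dvd.intro _ hjr, by norm_num⟩
  have hjpos : 0 < j := Nat.pos_of_mem_divisors hj_mem
  have hidx : (Subgroup.normalizer (D : Set G)).index = 224 / j := by
    rw [← hjr]; exact (Nat.mul_div_cancel_left _ hjpos).symm
  rw [hidx] at hfact
  have key : ∀ j ∈ Nat.divisors 224, ∀ e ∈ Nat.divisors j,
      (e % 5 = 1 ∧ e ≠ 1 ∧ 2 * 5600 ∣ (224 / j).factorial) → j = 16 ∧ e = 16 := by
    decide +kernel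
  obtain ⟨rfl, he16⟩ := key j hj_mem _ (Nat.mem_divisors.mpr ⟨he_dvd, hjpos.ne'⟩)
    ⟨he_mod, he_ne, hfact⟩
  -- Burnside's theorem inside `M`
  have hcomm : ∀ a ∈ (P : Subgroup G), ∀ b ∈ (P : Subgroup G), a * b = b * a := by
    intro a ha b hb
    have h1 := IsPGroup.commutative_of_card_eq_prime_sq (p := 5) (G := (P : Subgroup G)) hcardP
      ⟨a, ha⟩ ⟨b, hb⟩
    exact congrArg Subtype.val h1
  obtain ⟨E, hEM, hME, hEcard⟩ := exists_normal_complement_in_sub
    (Subgroup.normalizer (D : Set G)) P hPM hcomm (by rw [he16, hcardP, hj]; norm_num)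
  rw [hcardP, hj] at hEcard
  have hE16 : Nat.card E = 2 ^ 4 := by omega
  -- the normalizer of `E`
  have h32 : 2 ^ (4 + 1) ∣ Nat.card (Subgroup.normalizer (E : Set G)) :=
    Sylow.prime_pow_dvd_card_normalizer (by rw [h]; norm_num) hE16
  have h400 : 400 ∣ Nat.card (Subgroup.normalizer (E : Set G)) := by
    have := Subgroup.card_dvd_of_le hME
    rwa [hj] at this
  have hLtop : Subgroup.normalizer (E : Set G) ≠ ⊤ := by
    intro h5
    have hnor : E.Normal := Subgroup.normalizer_eq_top_iff.mp h5
    rcases hnor.eq_bot_or_eq_top with e | e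
    · rw [e, Subgroup.card_bot] at hE16
      omega
    · rw [e, Subgroup.card_top, h] at hE16
      omega
  have hfactL := two_mul_card_dvd_factorial_index hG _ hLtop
  rw [h] at hfactL
  have hLk := Subgroup.card_mul_index (Subgroup.normalizer (E : Set G))
  rw [h] at hLk
  have h800 : 800 ∣ Nat.card (Subgroup.normalizer (E : Set G)) := by
    have := Nat.lcm_dvd h32 h400
    norm_num at this
    exact this
  obtain ⟨c, hc⟩ := h800
  rw [hc] at hLk
  have hidxL : (Subgroup.normalizer (E : Set G)).index ∣ 7 := by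
    refine ⟨c, ?_⟩
    have : 800 * (c * (Subgroup.normalizer (E : Set G)).index) = 800 * 7 := by
      rw [← mul_assoc, hLk]
    have h7 := Nat.eq_of_mul_eq_mul_left (by norm_num) this
    rw [← h7]; ring
  have hidx7 : (Subgroup.normalizer (E : Set G)).index ≤ 7 := Nat.le_of_dvd (by norm_num) hidxL
  have hbad : ∀ i ≤ 7, ¬ (2 * 5600 ∣ i.factorial) := by decide +kernel
  exact hbad _ hidx7 hfactL

end Cfsg.Agent.Lib.Helper3.Ord5600
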