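import Mathlib

set_option autoImplicit false
set_option linter.style.haveILetI false

/-!
Farm OUTCO1 (statement S2069, `Out(Co₁) = 1`), abstract unit AUTN: the automorphisms of a split
extension `N = E ⋊ M` preserving `E` are inner (statement copied from
`Lib/Helper9/OutCo1Stubs.lean`).
-/

namespace Cfsg.Agent.Lib.Helper3.OutCo1AUTN

section coprime

variable {N : Type*} [Group N] [Finite N]

/-- explicit vanishing of `H¹(⟨x0⟩, E)` for `p` prime to `|E|`: two lifts of order `p` of the same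
element modulo the abelian normal subgroup `E` are conjugate under `E` -/
theorem conj_of_coprime (E : Subgroup N) [hEn : E.Normal]
    (hEab : ∀ a ∈ E, ∀ b ∈ E, a * b = b * a) (p : ℕ) (hpE : Nat.Coprime p (Nat.card E))
    (x0 e0 : N) (he0 : e0 ∈ E) (hx0 : x0 ^ p = 1) (hy : (e0 * x0) ^ p = 1) :
    ∃ e ∈ E, e * (e0 * x0) * e⁻¹ = x0 := by
  classical
  letI : CommGroup ↥E :=
    { (inferInstance : Group ↥E) with
      mul_comm := fun a b => Subtype.ext (hEab a a.2 b b.2) }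
  set σ : MulAut ↥E := MulAut.conjNormal x0 with hσ
  set a : ↥E := ⟨e0, he0⟩ with ha
  have hσpow : ∀ (n : ℕ) (u : ↥E), (((σ ^ n) u : ↥E) : N) = x0 ^ n * u * (x0 ^ n)⁻¹ := by
    intro n u
    rw [hσ, ← map_pow, MulAut.conjNormal_apply]
  -- the cocycle
  set c : ℕ → ↥E := fun i => ∏ j ∈ Finset.range i, (σ ^ j) a with hc
  have hc0 : c 0 = 1 := by simp [hc]
  have hcs : ∀ i, c (i + 1) = σ (c i) * a := by
    intro i
    simp only [hc]
    rw [Finset.prod_range_succ', map_prod]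
    congr 1
    · apply Finset.prod_congr rfl
      intro j _
      rw [pow_succ']
      rfl
  have hpowN : ∀ n : ℕ, (e0 * x0) ^ n = ((c n : ↥E) : N) * x0 ^ n := by
    intro n
    induction n with
    | zero => simp [hc0]
    | succ n ih =>
      have h1 : c (n + 1) = c n * (σ ^ n) a := by
        simp only [hc]
        rw [Finset.prod_range_succ]
      rw [pow_succ, ih, h1, Subgroup.coe_mul, hσpow]
      show (c n : N) * x0 ^ n * (e0 * x0) = (c n : N) * (x0 ^ n * e0 * (x0 ^ n)⁻¹) * x0 ^ (n + 1)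
      rw [pow_succ]
      group
  have hcp : c p = 1 := by
    have := hpowN p
    rw [hy, hx0, mul_one] at this
    exact Subtype.ext this.symm
  set b : ↥E := ∏ i ∈ Finset.range p, c i with hb
  have hσb : σ b * a ^ p = b := by
    have h1 : σ b * a ^ p = ∏ i ∈ Finset.range p, c (i + 1) := by
      have h2 : a ^ p = ∏ _i ∈ Finset.range p, a := by
        rw [Finset.prod_const, Finset.card_range]
      rw [hb, map_prod, h2, ← Finset.prod_mul_distrib]
      apply Finset.prod_congr rfl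
      intro i _
      rw [hcs]
    have h3 : (∏ i ∈ Finset.range p, c (i + 1)) * c 0 = b * c p := by
      rw [← Finset.prod_range_succ', Finset.prod_range_succ]
    rw [hc0, hcp, mul_one, mul_one] at h3
    rw [h1, h3]
  -- invert `p` modulo `|E|`
  by_cases hcard : Nat.card ↥E = 1
  · have hsub : Subsingleton ↥E := (Nat.card_eq_one_iff_unique.1 hcard).1
    have ha1 : a = 1 := Subsingleton.elim _ _
    have he01 : e0 = 1 := congrArg Subtype.val ha1
    exact ⟨1, E.one_mem, by rw [he01]; group⟩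
  · have hpos : 0 < Nat.card ↥E := Nat.card_pos
    obtain ⟨t, ht⟩ := Nat.exists_mul_mod_eq_one_of_coprime hpE (by omega)
    have hat : a ^ (p * t) = a := by
      rw [← pow_mod_natCard, ht.2, pow_one]
    have hbt : a = b ^ t * (σ (b ^ t))⁻¹ := by
      have h4 : a ^ p = b * (σ b)⁻¹ := by
        rw [eq_mul_inv_iff_mul_eq, mul_comm]
        exact hσb
      rw [← hat, pow_mul, h4, mul_pow, inv_pow, map_pow]
    refine ⟨((b ^ t)⁻¹ : ↥E), ((b ^ t)⁻¹ : ↥E).2, ?_⟩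
    have h5 : ((b ^ t)⁻¹ : ↥E) * a * σ (b ^ t) = 1 := by
      rw [hbt]
      group
    have h6 := congrArg (fun u : ↥E => (u : N)) h5
    simp only [Subgroup.coe_mul, Subgroup.coe_one] at h6
    have h7 : ((σ (b ^ t) : ↥E) : N) = x0 * ((b ^ t : ↥E) : N) * x0⁻¹ := by
      rw [hσ, MulAut.conjNormal_apply]
    rw [h7] at h6
    have h8 : ((a : ↥E) : N) = e0 := rfl
    rw [h8] at h6
    calc (((b ^ t)⁻¹ : ↥E) : N) * (e0 * x0) * (((b ^ t)⁻¹ : ↥E) : N)⁻¹
        = ((((b ^ t)⁻¹ : ↥E) : N) * e0 * (x0 * ((b ^ t : ↥E) : N) * x0⁻¹)) * x0 := by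
          rw [Subgroup.coe_inv, inv_inv]
          group
      _ = x0 := by rw [h6, one_mul]

end coprime


/-- Unit AUTN: automorphisms of a split extension `N = E ⋊ M` that preserve `E` are inner, if
`M` is complete-like (`hM`), `E` is rigid (`hE`) and the first cohomology vanishes in the concrete
form `hrig` (an automorphism trivial on `E` and on `N/E` which fixes an element `x0` of prime order
`p ∤ |E|` is trivial). -/
theorem autn {N : Type*} [Group N] [Finite N] (E M : Subgroup N) (hEn : E.Normal)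
    (hdisj : E ⊓ M = ⊥) (hsup : E ⊔ M = ⊤)
    (hEab : ∀ a ∈ E, ∀ b ∈ E, a * b = b * a)
    (hM : ∀ α : ↥M ≃* ↥M, ∃ m : ↥M, ∀ x : ↥M, α x = m * x * m⁻¹)
    (hE : ∀ ψ : N ≃* N, (∀ e ∈ E, ψ e ∈ E) → (∀ m ∈ M, ∃ e ∈ E, ψ m = e * m) →
      ∀ e ∈ E, ψ e = e)
    (p : ℕ) (hp : p.Prime) (x0 : N) (hx0 : x0 ∈ M) (hx0p : orderOf x0 = p)
    (hpE : ¬ p ∣ Nat.card E)
    (hrig : ∀ ψ : N ≃* N, (∀ e ∈ E, ψ e = e) → (∀ m ∈ M, ∃ e ∈ E, ψ m = e * m) → ψ x0 = x0 →
      ∀ x, ψ x = x) :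
    ∀ ψ : N ≃* N, (∀ e ∈ E, ψ e ∈ E) → ∃ n : N, ∀ x, ψ x = n * x * n⁻¹ := by
  intro ψ hψE
  haveI := hEn
  -- the decomposition `N = E M`
  have hdec : ∀ n : N, ∃ e ∈ E, ∃ m ∈ M, n = e * m := by
    intro n
    have h1 : n ∈ (↑(E ⊔ M) : Set N) := by rw [hsup]; trivial
    rw [Subgroup.normal_mul] at h1
    obtain ⟨e, he, m, hm, rfl⟩ := Set.mem_mul.1 h1
    exact ⟨e, he, m, hm, rfl⟩
  have huniq : ∀ e ∈ E, ∀ m ∈ M, ∀ e' ∈ E, ∀ m' ∈ M, e * m = e' * m' → e = e' ∧ m = m' := by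
    intro e he m hm e' he' m' hm' h
    have h1 : e'⁻¹ * e = m' * m⁻¹ := by
      calc e'⁻¹ * e = e'⁻¹ * (e * m) * m⁻¹ := by group
        _ = e'⁻¹ * (e' * m') * m⁻¹ := by rw [h]
        _ = m' * m⁻¹ := by group
    have h2 : e'⁻¹ * e ∈ E ⊓ M :=
      ⟨E.mul_mem (E.inv_mem he') he, by rw [h1]; exact M.mul_mem hm' (M.inv_mem hm)⟩
    rw [hdisj, Subgroup.mem_bot] at h2
    have h3 : e = e' := by
      have := congrArg (fun u => e' * u) h2
      simpa using this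
    refine ⟨h3, ?_⟩
    rw [h3] at h
    exact mul_left_cancel h
  -- `ψ E = E`
  have hψEinv : ∀ e ∈ E, ψ.symm e ∈ E := by
    intro e he
    let f : ↥E → ↥E := fun u => ⟨ψ u, hψE u u.2⟩
    have hf : Function.Injective f := by
      intro u v huv
      apply Subtype.ext
      exact ψ.injective (congrArg Subtype.val huv)
    obtain ⟨u, hu⟩ := Finite.surjective_of_injective hf ⟨e, he⟩
    have h1 : ψ u = e := congrArg Subtype.val hu
    rw [← h1, MulEquiv.symm_apply_apply]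
    exact u.2
  -- the induced automorphism of `M`
  choose eM heM aM haM hψM using fun m : ↥M => hdec (ψ m)
  have hmul : ∀ m m' : ↥M, aM (m * m') = aM m * aM m' := by
    intro m m'
    have h1 : eM (m * m') * aM (m * m') =
        (eM m * (aM m * eM m' * (aM m)⁻¹)) * (aM m * aM m') := by
      rw [← hψM, Subgroup.coe_mul, map_mul, hψM m, hψM m']
      group
    exact (huniq _ (heM _) _ (haM _) _
      (E.mul_mem (heM m) (hEn.conj_mem _ (heM m') _)) _ (M.mul_mem (haM m) (haM m')) h1).2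
  let α0 : ↥M →* ↥M := MonoidHom.mk' (fun m => ⟨aM m, haM m⟩) (fun m m' => Subtype.ext (hmul m m'))
  have hα0inj : Function.Injective α0 := by
    rw [injective_iff_map_eq_one]
    intro m hm
    have h1 : aM m = 1 := congrArg Subtype.val hm
    have h2 : ψ m = eM m := by rw [hψM, h1, mul_one]
    have h3 : (m : N) ∈ E := by
      have := hψEinv (eM m) (heM m)
      rwa [← h2, MulEquiv.symm_apply_apply] at this
    have h4 : (m : N) ∈ E ⊓ M := ⟨h3, m.2⟩
    rw [hdisj, Subgroup.mem_bot] at h4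
    exact Subtype.ext h4
  let α : ↥M ≃* ↥M := MulEquiv.ofBijective α0 (Finite.injective_iff_bijective.1 hα0inj)
  obtain ⟨m0, hm0⟩ := hM α
  have hm0' : ∀ m : ↥M, aM m = (m0 : N) * m * (m0 : N)⁻¹ := by
    intro m
    have := congrArg Subtype.val (hm0 m)
    exact this
  -- first adjustment
  let ψ1 : N ≃* N := ψ.trans (MulAut.conj ((m0 : N)⁻¹))
  have hψ1 : ∀ x, ψ1 x = (m0 : N)⁻¹ * ψ x * (m0 : N) := by
    intro x
    show (m0 : N)⁻¹ * ψ x * ((m0 : N)⁻¹)⁻¹ = _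
    rw [inv_inv]
  have hP1 : ∀ e ∈ E, ψ1 e ∈ E := by
    intro e he
    rw [hψ1]
    have := hEn.conj_mem _ (hψE e he) (m0 : N)⁻¹
    rwa [inv_inv] at this
  have hP2 : ∀ m ∈ M, ∃ e ∈ E, ψ1 m = e * m := by
    intro m hm
    refine ⟨(m0 : N)⁻¹ * eM ⟨m, hm⟩ * (m0 : N), ?_, ?_⟩
    · have := hEn.conj_mem _ (heM ⟨m, hm⟩) (m0 : N)⁻¹
      rwa [inv_inv] at this
    · rw [hψ1, hψM ⟨m, hm⟩, hm0']
      show (m0 : N)⁻¹ * (eM ⟨m, hm⟩ * ((m0 : N) * m * (m0 : N)⁻¹)) * (m0 : N) = _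
      group
  have hP3 : ∀ e ∈ E, ψ1 e = e := hE ψ1 hP1 hP2
  -- second adjustment
  obtain ⟨e0, he0, hx0e⟩ := hP2 x0 hx0
  have hx0p' : x0 ^ p = 1 := by rw [← hx0p]; exact pow_orderOf_eq_one x0
  have hyp : (e0 * x0) ^ p = 1 := by rw [← hx0e, ← map_pow, hx0p', map_one]
  obtain ⟨e, he, hconj⟩ := conj_of_coprime E hEab p ((Nat.Prime.coprime_iff_not_dvd hp).2 hpE)
    x0 e0 he0 hx0p' hyp
  let ψ2 : N ≃* N := ψ1.trans (MulAut.conj e)
  have hψ2 : ∀ x, ψ2 x = e * ψ1 x * e⁻¹ := fun x => rfl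
  have hQ1 : ∀ a ∈ E, ψ2 a = a := by
    intro a ha
    rw [hψ2, hP3 a ha, hEab e he a ha]
    group
  have hQ2 : ∀ m ∈ M, ∃ e' ∈ E, ψ2 m = e' * m := by
    intro m hm
    obtain ⟨e1, he1, h1⟩ := hP2 m hm
    refine ⟨e * e1 * (m * e⁻¹ * m⁻¹), ?_, ?_⟩
    · exact E.mul_mem (E.mul_mem he he1) (hEn.conj_mem _ (E.inv_mem he) m)
    · rw [hψ2, h1]
      group
  have hQ3 : ψ2 x0 = x0 := by
    rw [hψ2, hx0e]
    exact hconj
  have hid := hrig ψ2 hQ1 hQ2 hQ3
  refine ⟨(m0 : N) * e⁻¹, fun x => ?_⟩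
  have h1 : e * ψ1 x * e⁻¹ = x := by rw [← hψ2]; exact hid x
  have h2 : ψ1 x = e⁻¹ * x * e := by
    calc ψ1 x = e⁻¹ * (e * ψ1 x * e⁻¹) * e := by group
      _ = e⁻¹ * x * e := by rw [h1]
  rw [hψ1] at h2
  calc ψ x = (m0 : N) * ((m0 : N)⁻¹ * ψ x * (m0 : N)) * (m0 : N)⁻¹ := by group
    _ = (m0 : N) * (e⁻¹ * x * e) * (m0 : N)⁻¹ := by rw [h2]
    _ = (m0 : N) * e⁻¹ * x * ((m0 : N) * e⁻¹)⁻¹ := by group

end Cfsg.Agent.Lib.Helper3.OutCo1AUTN
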