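import Mathlib
import Cfsg.Agent.Lib.Helper3.NilpotentPow

set_option autoImplicit false

namespace Cfsg.Agent.Lib.Helper3

/-- For a Sylow `p`-subgroup `R` and a normal subgroup `N` of a finite group, `R ⊓ N` has order the
full `p`-part of `|N|`. -/
theorem card_sylow_inf_normal {G : Type*} [Group G] [Finite G] {p : ℕ} [Fact p.Prime]
    (R : Sylow p G) (N : Subgroup G) [N.Normal] :
    Nat.card ↥((R : Subgroup G) ⊓ N) = p ^ (Nat.card N).factorization p := by
  have hp : p.Prime := Fact.out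
  have hI : IsPGroup p ↥((R : Subgroup G) ⊓ N) := IsPGroup.to_le R.isPGroup' inf_le_left
  obtain ⟨s, hs⟩ := IsPGroup.iff_card.1 hI
  have h1 : Nat.card ↥((R : Subgroup G) ⊓ N) * ((R : Subgroup G) ⊓ N).relIndex N = Nat.card N := by
    rw [← Subgroup.relIndex_bot_left, ← Subgroup.relIndex_bot_left]
    exact Subgroup.relIndex_mul_relIndex _ _ _ bot_le inf_le_right
  have h2 : ((R : Subgroup G) ⊓ N).relIndex N = (R : Subgroup G).relIndex N :=
    Subgroup.inf_relIndex_right _ _
  have h3 : ¬ p ∣ (R : Subgroup G).relIndex N := fun h =>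
    R.not_dvd_index (dvd_trans h (relIndex_dvd_index_of_normal_right (R : Subgroup G) N))
  have h4 : (R : Subgroup G).relIndex N ≠ 0 := by
    intro h0
    rw [h2, h0, mul_zero] at h1
    exact (Nat.card_pos (α := N)).ne' h1.symm
  rw [← h1, h2, hs, Nat.factorization_mul (pow_ne_zero _ hp.ne_zero) h4, Finsupp.add_apply,
    hp.factorization_pow, Finsupp.single_eq_same, Nat.factorization_eq_zero_of_not_dvd h3, add_zero]

/-- A `p`-element of a quotient of a finite group lifts to a `p`-element. -/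
theorem exists_pElement_lift {G : Type*} [Group G] [Finite G] {p : ℕ} [Fact p.Prime]
    (N : Subgroup G) [N.Normal] (q : G ⧸ N) (hq : ∃ k : ℕ, orderOf q = p ^ k) :
    ∃ x : G, (QuotientGroup.mk x : G ⧸ N) = q ∧ ∃ e : ℕ, orderOf x = p ^ e := by
  have hp : p.Prime := Fact.out
  obtain ⟨k, hk⟩ := hq
  obtain ⟨x₀, rfl⟩ := QuotientGroup.mk_surjective q
  have ho : orderOf x₀ ≠ 0 := (orderOf_pos x₀).ne'
  obtain ⟨e, m, hm, hom⟩ := Nat.exists_eq_pow_mul_and_not_dvd ho p hp.ne_one
  have hcop : Nat.Coprime (p ^ e) m := (Nat.Prime.coprime_iff_not_dvd hp).2 hm |>.pow_left e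
  -- order of the image divides `p ^ e`
  have hdvd : orderOf (QuotientGroup.mk x₀ : G ⧸ N) ∣ p ^ e := by
    have h1 : orderOf (QuotientGroup.mk x₀ : G ⧸ N) ∣ orderOf x₀ :=
      orderOf_map_dvd (QuotientGroup.mk' N) x₀
    rw [hom] at h1
    have h2 : Nat.Coprime (orderOf (QuotientGroup.mk x₀ : G ⧸ N)) m := by
      rw [hk]; exact (Nat.Prime.coprime_iff_not_dvd hp).2 hm |>.pow_left k
    exact h2.dvd_of_dvd_mul_right h1
  by_cases he : e = 0
  · -- then the image is trivial
    refine ⟨1, ?_, 0, by simp⟩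
    rw [he, pow_zero, Nat.dvd_one, orderOf_eq_one_iff] at hdvd
    rw [hdvd]; rfl
  · have hpe : 1 < p ^ e := Nat.one_lt_pow he hp.one_lt
    obtain ⟨v, -, hv⟩ := Nat.exists_mul_mod_eq_one_of_coprime hcop.symm hpe
    refine ⟨x₀ ^ (m * v), ?_, ?_⟩
    · rw [QuotientGroup.mk_pow]
      have : m * v = p ^ e * (m * v / p ^ e) + 1 := by
        have := Nat.div_add_mod (m * v) (p ^ e)
        rw [hv] at this
        exact this.symm
      rw [this, pow_succ, pow_mul]
      have h1 : (QuotientGroup.mk x₀ : G ⧸ N) ^ p ^ e = 1 := orderOf_dvd_iff_pow_eq_one.1 hdvd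
      rw [h1, one_pow, one_mul]
    · have h1 : (x₀ ^ (m * v)) ^ p ^ e = 1 := by
        rw [← pow_mul]
        have : m * v * p ^ e = orderOf x₀ * v := by rw [hom]; ring
        rw [this, pow_mul, pow_orderOf_eq_one, one_pow]
      obtain ⟨j, -, hj⟩ := (Nat.dvd_prime_pow hp).1 (orderOf_dvd_of_pow_eq_one h1)
      exact ⟨j, hj⟩

end Cfsg.Agent.Lib.Helper3
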