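import Mathlib

/-! A concrete, kernel-friendly model `K16` of the field with sixteen elements
(`𝔽₂[x]/(x⁴+x+1)`, elements coded by their bit patterns `0..15`). -/

set_option autoImplicit false
set_option maxHeartbeats 1000000
set_option maxRecDepth 100000
set_option linter.unusedVariables false
set_option linter.unusedSectionVars false
set_option linter.style.longLine false
set_option linter.unusedSimpArgs false
set_option linter.style.haveILetI false

namespace Cfsg.Agent.Lib.Helper3.PG

/-- the multiplication table of `𝔽₂[x]/(x⁴+x+1)` on bit patterns, four bits per entry -/
def mulT : ℕ := 116196760129267793630862849262464326346044543732748708940920453221664288556434379745879494961270582141731748813355742142288220638766218855867759359510984593843506004200114943278699875244065120512813025380665946106619127097398772031257643617143689515450995722003729973585221105779229319991106539050771048038400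

/-- multiplication modulo `x⁴+x+1` on bit patterns (table lookup) -/
def mulN (a b : ℕ) : ℕ := (mulT >>> (4 * (16 * a + b))) &&& 15

/-- table of inverses (14th powers) -/
def invT : ℕ := 9460475325918865680

def invN (a : ℕ) : ℕ := (invT >>> (4 * a)) &&& 15

/-- the field with sixteen elements -/
structure K16 where
  v : Fin 16
deriving DecidableEq

namespace K16

/-- literal -/
def k (n : ℕ) : K16 := ⟨Fin.ofNat 16 n⟩

def addK (a b : K16) : K16 := k (a.v.val ^^^ b.v.val)
def mulK (a b : K16) : K16 := k (mulN a.v.val b.v.val)
def sqK (a : K16) : K16 := mulK a a
def invK (a : K16) : K16 := k (invN a.v.val)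

def equivFin : K16 ≃ Fin 16 := ⟨K16.v, K16.mk, fun _ => rfl, fun _ => rfl⟩

instance instFintype : Fintype K16 := Fintype.ofEquiv (Fin 16) equivFin.symm

instance instZero : Zero K16 := ⟨k 0⟩
instance instOne : One K16 := ⟨k 1⟩
instance instAdd : Add K16 := ⟨addK⟩
instance instMul : Mul K16 := ⟨mulK⟩
instance instNeg : Neg K16 := ⟨id⟩
instance instInv : Inv K16 := ⟨invK⟩

instance instCommRing : CommRing K16 where
  add_assoc := by decide +kernel
  zero_add := by decide +kernel
  add_zero := by decide +kernel
  add_comm := by decide +kernel
  neg_add_cancel := by decide +kernel
  mul_assoc := by decide +kernel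
  one_mul := by decide +kernel
  mul_one := by decide +kernel
  left_distrib := by decide +kernel
  right_distrib := by decide +kernel
  mul_comm := by decide +kernel
  zero_mul := by decide +kernel
  mul_zero := by decide +kernel
  nsmul := nsmulRec
  zsmul := zsmulRec

instance instField : Field K16 where
  exists_pair_ne := ⟨k 0, k 1, by decide⟩
  mul_inv_cancel := by decide +kernel
  inv_zero := by decide +kernel
  nnqsmul := _
  qsmul := _

theorem card : Fintype.card K16 = 16 := by
  rw [Fintype.card_congr equivFin]; rfl

theorem two_eq_zero : (2 : K16) = 0 := by decide +kernel

end K16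

end Cfsg.Agent.Lib.Helper3.PG
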