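import Mathlib
import Cfsg.Agent.Lib.Helper5.HermCenter
import Cfsg.Agent.Lib.Lead.Spec33
import Cfsg.Agent.Lib.Helper6.SU3Conj
import Cfsg.Agent.Lib.Helper3.PG1

/-! The prime graph of `SU(3,4) = PSU(3,4)`: element orders divide 4, 10, 13 or 15
(characteristic polynomial trick as in `Lead.Spec93`). -/

set_option autoImplicit false
set_option maxHeartbeats 4000000
set_option maxRecDepth 100000
set_option linter.unusedVariables false
set_option linter.unusedSectionVars false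
set_option linter.style.longLine false
set_option linter.unusedSimpArgs false
set_option linter.style.haveILetI false

namespace Cfsg.Agent.Lib.Helper3.PG

open Cfsg.Agent.Lib.Helper5.HermCenter

/-- one step of the reduction of powers modulo `x³ - t x² + t⁴ x - 1` -/
def step16 (t : K16) (x : K16 × K16 × K16) : K16 × K16 × K16 :=
  (x.1 * t + x.2.1, x.2.2 - x.1 * t ^ 4, x.1)

/-- `x^n ≡ a x² + b x + c` modulo `x³ - t x² + t⁴ x - 1` -/
def rec16 (t : K16) : ℕ → K16 × K16 × K16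
  | 0 => (0, 0, 1)
  | n + 1 => step16 t (rec16 t n)

theorem rec16_spec : ∀ t : K16, ∃ n ∈ [4, 10, 13, 15], rec16 t n = (0, 0, 1) := by
  decide +kernel

/-- matrix literal over `K16` from natural number codes -/
def mk3 (a b c d e f g h i : ℕ) : Matrix (Fin 3) (Fin 3) K16 :=
  !![K16.k a, K16.k b, K16.k c; K16.k d, K16.k e, K16.k f; K16.k g, K16.k h, K16.k i]

def A10 : Matrix (Fin 3) (Fin 3) K16 := mk3 0 1 0 10 0 0 0 0 12
def A15 : Matrix (Fin 3) (Fin 3) K16 := mk3 10 3 3 11 8 7 3 11 1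
def G0 : Matrix (Fin 3) (Fin 3) K16 := mk3 12 2 3 14 2 0 6 1 5

theorem A10_spec : A10 ^ 10 = 1 ∧ A10 ^ (10 / 2) ≠ 1 ∧ A10 ^ (10 / 5) ≠ 1 ∧ A10.det = 1 ∧
    A10.transpose * A10.map (· ^ 4) = 1 := by
  decide +kernel

theorem A15_spec : A15 ^ 15 = 1 ∧ A15 ^ (15 / 3) ≠ 1 ∧ A15 ^ (15 / 5) ≠ 1 ∧ A15.det = 1 ∧
    A15.transpose * A15.map (· ^ 4) = 1 := by
  decide +kernel

theorem G0_spec : G0 ^ 13 = 1 ∧ G0 ^ 1 ≠ 1 ∧ G0.det = 1 ∧
    G0.transpose * G0.map (· ^ 4) = 1 := by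
  decide +kernel

section PSU

variable {F : Type*} [Field F] [Fintype F]

/-- a ring isomorphism from the concrete model -/
noncomputable def e16 (hF : Fintype.card F = 16) : K16 ≃+* F :=
  FiniteField.ringEquivOfCardEq (by rw [K16.card, hF])

theorem two_eq_zero_of_card (hF : Fintype.card F = 16) : (2 : F) = 0 := by
  have h2 := congrArg (e16 hF) K16.two_eq_zero
  rwa [map_ofNat, map_zero] at h2

theorem card_sq (hF : Fintype.card F = 16) : Fintype.card F = 4 ^ 2 := by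
  rw [hF]; norm_num

theorem pow_rec (hF : Fintype.card F = 16) (M : Matrix (Fin 3) (Fin 3) F) (τ : K16)
    (h : M ^ 3 = (e16 hF τ) • M ^ 2 - (e16 hF (τ ^ 4)) • M + 1) (n : ℕ) :
    M ^ n = (e16 hF (rec16 τ n).1) • M ^ 2 + (e16 hF (rec16 τ n).2.1) • M +
      (e16 hF (rec16 τ n).2.2) • (1 : Matrix (Fin 3) (Fin 3) F) := by
  induction n with
  | zero =>
    show M ^ 0 = (e16 hF 0) • M ^ 2 + (e16 hF 0) • M + (e16 hF 1) • (1 : Matrix (Fin 3) (Fin 3) F)
    rw [map_zero, map_one, zero_smul, zero_smul, zero_add, zero_add, one_smul, pow_zero]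
  | succ n ih =>
    have h' : M ^ 2 * M = (e16 hF τ) • M ^ 2 - (e16 hF (τ ^ 4)) • M + 1 := by
      rw [← pow_succ]; exact h
    rw [pow_succ, ih, add_mul, add_mul, smul_mul_assoc, smul_mul_assoc, smul_mul_assoc, one_mul,
      ← pow_two, h']
    show _ = (e16 hF (step16 τ (rec16 τ n)).1) • M ^ 2 + (e16 hF (step16 τ (rec16 τ n)).2.1) • M +
      (e16 hF (step16 τ (rec16 τ n)).2.2) • (1 : Matrix (Fin 3) (Fin 3) F)
    simp only [step16, map_add, map_sub, map_mul, map_pow]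
    module

theorem su_pow (hF : Fintype.card F = 16) (g : ↥(Cfsg.SU 3 F 4)) :
    g ^ 4 = 1 ∨ g ^ 10 = 1 ∨ g ^ 13 = 1 ∨ g ^ 15 = 1 := by
  have h2 := two_eq_zero_of_card hF
  obtain ⟨M, hM⟩ : ∃ M : Matrix (Fin 3) (Fin 3) F, M = (g.1 : Matrix (Fin 3) (Fin 3) F) :=
    ⟨_, rfl⟩
  have hdet : M.det = 1 := by rw [hM]; exact g.1.2
  have hU : IsU 4 M := by rw [hM]; exact (mem_SU_iff (card_sq hF) g.1).1 g.2
  obtain ⟨N, hN⟩ : ∃ N : Matrix (Fin 3) (Fin 3) F, N = M.map (· ^ 4) := ⟨_, rfl⟩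
  have h1 : M.transpose * N = 1 := by rw [hN]; exact hU
  have h2' : N * M.transpose = 1 := mul_eq_one_comm.1 h1
  have h4 : M * N.transpose = 1 := by
    have h5 := congrArg Matrix.transpose h2'
    rwa [Matrix.transpose_mul, Matrix.transpose_transpose, Matrix.transpose_one] at h5
  have hadj : M.adjugate = N.transpose := by
    calc M.adjugate = M.adjugate * (M * N.transpose) := by rw [h4, mul_one]
      _ = (M.adjugate * M) * N.transpose := by rw [mul_assoc]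
      _ = N.transpose := by rw [Matrix.adjugate_mul, hdet, one_smul, one_mul]
  have e0 : M 1 1 * M 2 2 - M 1 2 * M 2 1 = (M 0 0) ^ 4 := by
    have h5 := congrFun (congrFun hadj 0) 0
    rw [Matrix.adjugate_fin_three] at h5
    simpa [hN] using h5
  have e1 : M 0 0 * M 2 2 - M 0 2 * M 2 0 = (M 1 1) ^ 4 := by
    have h5 := congrFun (congrFun hadj 1) 1
    rw [Matrix.adjugate_fin_three] at h5
    simpa [hN] using h5
  have e2 : M 0 0 * M 1 1 - M 0 1 * M 1 0 = (M 2 2) ^ 4 := by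
    have h5 := congrFun (congrFun hadj 2) 2
    rw [Matrix.adjugate_fin_three] at h5
    simpa [hN] using h5
  have hs : M 0 0 * M 1 1 - M 0 1 * M 1 0 + M 0 0 * M 2 2 - M 0 2 * M 2 0 +
      M 1 1 * M 2 2 - M 1 2 * M 2 1 = M.trace ^ 4 := by
    rw [Matrix.trace_fin_three]
    linear_combination e0 + e1 + e2 - (2 * ((M 0 0) ^ 3 * M 1 1 + (M 0 0) ^ 3 * M 2 2 +
      (M 1 1) ^ 3 * M 0 0 + (M 1 1) ^ 3 * M 2 2 + (M 2 2) ^ 3 * M 0 0 + (M 2 2) ^ 3 * M 1 1) +
      3 * ((M 0 0) ^ 2 * (M 1 1) ^ 2 + (M 0 0) ^ 2 * (M 2 2) ^ 2 + (M 1 1) ^ 2 * (M 2 2) ^ 2) +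
      6 * ((M 0 0) ^ 2 * M 1 1 * M 2 2 + M 0 0 * (M 1 1) ^ 2 * M 2 2 +
      M 0 0 * M 1 1 * (M 2 2) ^ 2)) * h2
  have hch := Cfsg.Agent.Lib.Lead.Spec33.cayley3 M
  rw [hs, hdet, one_smul] at hch
  obtain ⟨τ, hτ⟩ := (e16 hF).surjective M.trace
  have hM3 : M ^ 3 = (e16 hF τ) • M ^ 2 - (e16 hF (τ ^ 4)) • M + 1 := by
    rw [map_pow, hτ, ← sub_eq_zero, ← hch]
    abel
  have key : ∀ m : ℕ, M ^ m = 1 → g ^ m = 1 := by
    intro m hm
    apply Subtype.ext
    rw [Subgroup.coe_pow]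
    apply Subtype.ext
    rw [Matrix.SpecialLinearGroup.coe_pow, ← hM, hm]
    rfl
  obtain ⟨n, hn, hrec⟩ := rec16_spec τ
  have hMn : M ^ n = 1 := by
    rw [pow_rec hF M τ hM3 n, hrec]
    show (e16 hF 0) • M ^ 2 + (e16 hF 0) • M + (e16 hF 1) • (1 : Matrix (Fin 3) (Fin 3) F) = 1
    rw [map_zero, map_one, zero_smul, zero_smul, zero_add, zero_add, one_smul]
  simp only [List.mem_cons, List.not_mem_nil, or_false] at hn
  rcases hn with rfl | rfl | rfl | rfl
  · exact Or.inl (key 4 hMn)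
  · exact Or.inr (Or.inl (key 10 hMn))
  · exact Or.inr (Or.inr (Or.inl (key 13 hMn)))
  · exact Or.inr (Or.inr (Or.inr (key 15 hMn)))

theorem center_eq_bot (hF : Fintype.card F = 16) : Subgroup.center ↥(Cfsg.SU 3 F 4) = ⊥ := by
  have h1 := card_center_SU (card_sq hF) (n := 3) (by norm_num)
  have h2 : Nat.gcd 3 (4 + 1) = 1 := by norm_num
  rw [h2] at h1
  exact Subgroup.card_eq_one.1 h1

/-- the image in `SL(3,16)` of a matrix of determinant one over the concrete model -/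
noncomputable def toSL (hF : Fintype.card F = 16) (A : Matrix (Fin 3) (Fin 3) K16)
    (hdet : A.det = 1) : Matrix.SpecialLinearGroup (Fin 3) F :=
  ⟨((e16 hF : K16 ≃+* F) : K16 →+* F).mapMatrix A, by rw [← RingHom.map_det, hdet, map_one]⟩

theorem toSL_mem (hF : Fintype.card F = 16) (A : Matrix (Fin 3) (Fin 3) K16) (hdet : A.det = 1)
    (hU : A.transpose * A.map (· ^ 4) = 1) : toSL hF A hdet ∈ Cfsg.SU 3 F 4 := by
  rw [mem_SU_iff (card_sq hF)]
  show (((e16 hF : K16 ≃+* F) : K16 →+* F).mapMatrix A).transpose *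
    (((e16 hF : K16 ≃+* F) : K16 →+* F).mapMatrix A).map (· ^ 4) = 1
  have h1 : (((e16 hF : K16 ≃+* F) : K16 →+* F).mapMatrix A).map (· ^ 4) =
      ((e16 hF : K16 ≃+* F) : K16 →+* F).mapMatrix (A.map (· ^ 4)) := by
    ext i j
    simp [RingHom.mapMatrix_apply, Matrix.map_apply, map_pow]
  have h2 : (((e16 hF : K16 ≃+* F) : K16 →+* F).mapMatrix A).transpose =
      ((e16 hF : K16 ≃+* F) : K16 →+* F).mapMatrix A.transpose := by
    ext i j
    simp [RingHom.mapMatrix_apply, Matrix.map_apply, Matrix.transpose_apply]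
  rw [h1, h2, ← map_mul, hU, map_one]

/-- the image in `SU(3,4)` of a unitary matrix over the concrete model -/
noncomputable def toSU (hF : Fintype.card F = 16) (A : Matrix (Fin 3) (Fin 3) K16)
    (hdet : A.det = 1) (hU : A.transpose * A.map (· ^ 4) = 1) : ↥(Cfsg.SU 3 F 4) :=
  ⟨toSL hF A hdet, toSL_mem hF A hdet hU⟩

theorem toSU_pow_eq_one_iff (hF : Fintype.card F = 16) (A : Matrix (Fin 3) (Fin 3) K16)
    (hdet : A.det = 1) (hU : A.transpose * A.map (· ^ 4) = 1) (m : ℕ) :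
    (toSU hF A hdet hU) ^ m = 1 ↔ A ^ m = 1 := by
  have key : ((((toSU hF A hdet hU) ^ m : ↥(Cfsg.SU 3 F 4)) :
      Matrix.SpecialLinearGroup (Fin 3) F) : Matrix (Fin 3) (Fin 3) F) =
      ((e16 hF : K16 ≃+* F) : K16 →+* F).mapMatrix (A ^ m) := by
    rw [Subgroup.coe_pow, Matrix.SpecialLinearGroup.coe_pow, map_pow]
    rfl
  have hinj : Function.Injective (((e16 hF : K16 ≃+* F) : K16 →+* F).mapMatrix :
      Matrix (Fin 3) (Fin 3) K16 → Matrix (Fin 3) (Fin 3) F) := by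
    intro X Y hXY
    rw [RingHom.mapMatrix_apply, RingHom.mapMatrix_apply] at hXY
    exact Matrix.map_injective (e16 hF).injective hXY
  constructor
  · intro h
    apply hinj
    rw [← key, h, map_one]
    rfl
  · intro h
    apply Subtype.ext
    apply Subtype.ext
    rw [key, h, map_one]
    rfl

theorem exists_orderOf_ten (hF : Fintype.card F = 16) : ∃ g : ↥(Cfsg.SU 3 F 4), orderOf g = 10 := by
  refine ⟨toSU hF A10 A10_spec.2.2.2.1 A10_spec.2.2.2.2, ?_⟩
  apply orderOf_eq_of_pow_and_pow_div_prime (by norm_num)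
  · rw [toSU_pow_eq_one_iff]; exact A10_spec.1
  · intro p hp hd
    have hp' : p = 2 ∨ p = 5 := by
      have hle : p ≤ 10 := Nat.le_of_dvd (by norm_num) hd
      have h2 := hp.two_le
      interval_cases p <;> first | omega | exact absurd hp (by norm_num)
    rcases hp' with rfl | rfl
    · rw [Ne, toSU_pow_eq_one_iff]; exact A10_spec.2.1
    · rw [Ne, toSU_pow_eq_one_iff]; exact A10_spec.2.2.1

theorem exists_orderOf_fifteen (hF : Fintype.card F = 16) :
    ∃ g : ↥(Cfsg.SU 3 F 4), orderOf g = 15 := by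
  refine ⟨toSU hF A15 A15_spec.2.2.2.1 A15_spec.2.2.2.2, ?_⟩
  apply orderOf_eq_of_pow_and_pow_div_prime (by norm_num)
  · rw [toSU_pow_eq_one_iff]; exact A15_spec.1
  · intro p hp hd
    have hp' : p = 3 ∨ p = 5 := by
      have hle : p ≤ 15 := Nat.le_of_dvd (by norm_num) hd
      have h2 := hp.two_le
      interval_cases p <;> first | omega | exact absurd hp (by norm_num)
    rcases hp' with rfl | rfl
    · rw [Ne, toSU_pow_eq_one_iff]; exact A15_spec.2.1
    · rw [Ne, toSU_pow_eq_one_iff]; exact A15_spec.2.2.1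

theorem card_SU (hF : Fintype.card F = 16) : Nat.card ↥(Cfsg.SU 3 F 4) = 62400 := by
  rw [Cfsg.Agent.Lib.Helper6.SU3Refl.card_SU3 (card_sq hF)]
  norm_num

end PSU

/-- the prime graph of `PSU(3,4)`, as a property of a group -/
def PGraph (G : Type*) [Group G] : Prop :=
  (∀ p : ℕ, p.Prime → (p ∣ Nat.card G ↔ (p = 2 ∨ p = 3 ∨ p = 5 ∨ p = 13))) ∧
  (∀ p q : ℕ, p.Prime → q.Prime → p ≠ q → ((∃ g : G, orderOf g = p * q) ↔
    ((p = 2 ∧ q = 5) ∨ (p = 5 ∧ q = 2) ∨ (p = 3 ∧ q = 5) ∨ (p = 5 ∧ q = 3))))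

theorem PGraph.of_equiv {G H : Type*} [Group G] [Group H] (e : G ≃* H) (h : PGraph G) :
    PGraph H := by
  refine ⟨fun p hp => ?_, fun p q hp hq hne => ?_⟩
  · rw [← Nat.card_congr e.toEquiv]; exact h.1 p hp
  · rw [← h.2 p q hp hq hne]
    constructor
    · rintro ⟨g, hg⟩
      exact ⟨e.symm g, by rw [MulEquiv.orderOf_eq]; exact hg⟩
    · rintro ⟨g, hg⟩
      exact ⟨e g, by rw [MulEquiv.orderOf_eq]; exact hg⟩

theorem prime_dvd_62400 (p : ℕ) (hp : p.Prime) :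
    p ∣ 62400 ↔ (p = 2 ∨ p = 3 ∨ p = 5 ∨ p = 13) := by
  constructor
  · intro h
    have e : 62400 = 2 ^ 6 * 3 * 5 ^ 2 * 13 := by norm_num
    rw [e] at h
    rcases (Nat.Prime.dvd_mul hp).1 h with h | h
    · rcases (Nat.Prime.dvd_mul hp).1 h with h | h
      · rcases (Nat.Prime.dvd_mul hp).1 h with h | h
        · left
          exact (Nat.prime_dvd_prime_iff_eq hp Nat.prime_two).1 (hp.dvd_of_dvd_pow h)
        · right; left
          exact (Nat.prime_dvd_prime_iff_eq hp Nat.prime_three).1 h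
      · right; right; left
        exact (Nat.prime_dvd_prime_iff_eq hp Nat.prime_five).1 (hp.dvd_of_dvd_pow h)
    · right; right; right
      exact (Nat.prime_dvd_prime_iff_eq hp (by norm_num)).1 h
  · rintro (rfl | rfl | rfl | rfl) <;> decide

theorem pq_cases (p q n : ℕ) (hp : p.Prime) (hq : q.Prime) (hne : p ≠ q)
    (hn : n = 4 ∨ n = 10 ∨ n = 13 ∨ n = 15) (hd : p * q ∣ n) :
    (p = 2 ∧ q = 5) ∨ (p = 5 ∧ q = 2) ∨ (p = 3 ∧ q = 5) ∨ (p = 5 ∧ q = 3) := by
  have hp2 := hp.two_le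
  have hq2 := hq.two_le
  have hnpos : 0 < n := by rcases hn with rfl | rfl | rfl | rfl <;> norm_num
  have hle : p * q ≤ n := Nat.le_of_dvd hnpos hd
  have hn15 : n ≤ 15 := by rcases hn with rfl | rfl | rfl | rfl <;> norm_num
  have hp7 : p ≤ 7 := by nlinarith
  have hq7 : q ≤ 7 := by nlinarith
  rcases hn with rfl | rfl | rfl | rfl <;> interval_cases p <;> interval_cases q <;>
    omega

theorem pgraph_of (G : Type*) [Group G] (hcard : Nat.card G = 62400)
    (hpow : ∀ g : G, g ^ 4 = 1 ∨ g ^ 10 = 1 ∨ g ^ 13 = 1 ∨ g ^ 15 = 1)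
    (h10 : ∃ g : G, orderOf g = 10) (h15 : ∃ g : G, orderOf g = 15) : PGraph G := by
  refine ⟨fun p hp => ?_, fun p q hp hq hne => ?_⟩
  · rw [hcard]; exact prime_dvd_62400 p hp
  · constructor
    · rintro ⟨g, hg⟩
      rcases hpow g with h | h | h | h
      · exact pq_cases p q 4 hp hq hne (by simp) (hg ▸ orderOf_dvd_of_pow_eq_one h)
      · exact pq_cases p q 10 hp hq hne (by simp) (hg ▸ orderOf_dvd_of_pow_eq_one h)
      · exact pq_cases p q 13 hp hq hne (by simp) (hg ▸ orderOf_dvd_of_pow_eq_one h)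
      · exact pq_cases p q 15 hp hq hne (by simp) (hg ▸ orderOf_dvd_of_pow_eq_one h)
    · rintro (⟨rfl, rfl⟩ | ⟨rfl, rfl⟩ | ⟨rfl, rfl⟩ | ⟨rfl, rfl⟩)
      · exact h10
      · exact h10
      · exact h15
      · exact h15

theorem pgraph_SU {F : Type*} [Field F] [Fintype F] (hF : Fintype.card F = 16) :
    PGraph ↥(Cfsg.SU 3 F 4) :=
  pgraph_of _ (card_SU hF) (su_pow hF) (exists_orderOf_ten hF) (exists_orderOf_fifteen hF)

theorem pgraph_PSU {F : Type*} [Field F] [Fintype F] (hF : Fintype.card F = 16) :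
    PGraph (Cfsg.PSU 3 F 4) := by
  have hb := center_eq_bot hF
  have e : ↥(Cfsg.SU 3 F 4) ≃* Cfsg.PSU 3 F 4 :=
    (QuotientGroup.quotientBot (G := ↥(Cfsg.SU 3 F 4))).symm.trans
      (QuotientGroup.quotientMulEquivOfEq hb.symm)
  exact (pgraph_SU hF).of_equiv e

end Cfsg.Agent.Lib.Helper3.PG
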