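import Mathlib
import Cfsg.Agent.Lib.Helper3.PG2

/-! Prime graph of a semidirect product `N ⋊ G` with `N` an abelian 5-group on which the
elements of order 13 act fixed-point-freely. -/

set_option autoImplicit false
set_option maxHeartbeats 1000000
set_option maxRecDepth 100000
set_option linter.unusedVariables false
set_option linter.unusedSectionVars false
set_option linter.style.longLine false
set_option linter.unusedSimpArgs false
set_option linter.style.haveILetI false

namespace Cfsg.Agent.Lib.Helper3.PG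

theorem dvd_prime_mul_cases (m p q : ℕ) (hp : p.Prime) (hq : q.Prime) (h : m ∣ p * q) :
    m = 1 ∨ m = p ∨ m = q ∨ m = p * q := by
  obtain ⟨a, b, ha, hb, rfl⟩ := (Nat.dvd_mul).1 h
  rcases (Nat.dvd_prime hp).1 ha with rfl | rfl <;> rcases (Nat.dvd_prime hq).1 hb with rfl | rfl
  · left; simp
  · right; right; left; simp
  · right; left; simp
  · right; right; right; rfl

section SD

variable {N G : Type*} [CommGroup N] [Group G] [Finite N] [Finite G] (φ : G →* MulAut N)

theorem sd_pair (p0 : ℕ) [Fact p0.Prime] (hN : IsPGroup p0 N)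
    (h : N ⋊[φ] G) (p q : ℕ) (hp : p.Prime) (hq : q.Prime) (hne : p ≠ q)
    (ho : orderOf h = p * q) :
    (∃ g : G, orderOf g = p * q) ∨
    (∃ (g : G) (r : ℕ), r.Prime ∧ r ≠ p0 ∧ ((p = p0 ∧ q = r) ∨ (p = r ∧ q = p0)) ∧
      orderOf g = r ∧ ∃ n : N, n ≠ 1 ∧ φ g n = n) := by
  obtain ⟨g, hg⟩ : ∃ g : G, g = h.right := ⟨_, rfl⟩
  obtain ⟨m, hm⟩ : ∃ m, m = orderOf g := ⟨_, rfl⟩
  have hmpos : 0 < m := by rw [hm]; exact orderOf_pos g
  have hmd : m ∣ p * q := by
    rw [hm, ← ho, hg]
    exact orderOf_map_dvd (SemidirectProduct.rightHom : N ⋊[φ] G →* G) h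
  have hker : h ^ m ∈ (SemidirectProduct.rightHom : N ⋊[φ] G →* G).ker := by
    rw [MonoidHom.mem_ker, map_pow]
    show h.right ^ m = 1
    rw [← hg, hm]; exact pow_orderOf_eq_one g
  rw [← SemidirectProduct.range_inl_eq_ker_rightHom] at hker
  obtain ⟨n0, hn0⟩ := hker
  have ho0 : orderOf n0 = p * q / m := by
    rw [← orderOf_injective (SemidirectProduct.inl : N →* N ⋊[φ] G)
      SemidirectProduct.inl_injective n0, hn0, orderOf_pow' h hmpos.ne', ho,
      Nat.gcd_eq_right hmd]
  obtain ⟨j, hj⟩ := (IsPGroup.iff_orderOf.1 hN) n0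
  have hp0 : p0.Prime := Fact.out
  -- the fixed point property
  have hfix : φ g n0 = n0 := by
    have hc : h * h ^ m = h ^ m * h := by rw [← pow_succ', ← pow_succ]
    rw [← hn0] at hc
    have h1 := congrArg SemidirectProduct.left hc
    simp only [SemidirectProduct.mul_left, SemidirectProduct.left_inl,
      SemidirectProduct.right_inl, map_one, MulAut.one_apply] at h1
    rw [← hg] at h1
    have h2 : h.left * φ g n0 = h.left * n0 := by rw [h1, mul_comm]
    exact mul_left_cancel h2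
  rcases dvd_prime_mul_cases m p q hp hq hmd with h1 | h1 | h1 | h1
  · -- m = 1
    exfalso
    rw [h1, Nat.div_one, hj] at ho0
    have hpd : p ∣ p0 ^ j := by rw [ho0]; exact dvd_mul_right p q
    have hqd : q ∣ p0 ^ j := by rw [ho0]; exact dvd_mul_left q p
    have e1 := (Nat.prime_dvd_prime_iff_eq hp hp0).1 (hp.dvd_of_dvd_pow hpd)
    have e2 := (Nat.prime_dvd_prime_iff_eq hq hp0).1 (hq.dvd_of_dvd_pow hqd)
    exact hne (e1.trans e2.symm)
  · -- m = p
    right
    have hq0 : orderOf n0 = q := by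
      rw [ho0, h1]; exact Nat.mul_div_cancel_left q hp.pos
    have hqd : q ∣ p0 ^ j := by rw [← hj, hq0]
    have e2 := (Nat.prime_dvd_prime_iff_eq hq hp0).1 (hq.dvd_of_dvd_pow hqd)
    refine ⟨g, p, hp, ?_, Or.inr ⟨rfl, e2⟩, by rw [← hm, h1], n0, ?_, hfix⟩
    · rw [← e2]; exact hne
    · intro h0
      rw [h0, orderOf_one] at hq0
      exact hq.one_lt.ne hq0
  · -- m = q
    right
    have hq0 : orderOf n0 = p := by
      rw [ho0, h1]; exact Nat.mul_div_cancel p hq.pos
    have hpd : p ∣ p0 ^ j := by rw [← hj, hq0]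
    have e2 := (Nat.prime_dvd_prime_iff_eq hp hp0).1 (hp.dvd_of_dvd_pow hpd)
    refine ⟨g, q, hq, ?_, Or.inl ⟨e2, rfl⟩, by rw [← hm, h1], n0, ?_, hfix⟩
    · rw [← e2]; exact hne.symm
    · intro h0
      rw [h0, orderOf_one] at hq0
      exact hp.one_lt.ne hq0
  · left
    exact ⟨g, by rw [← hm, h1]⟩

theorem card_sd : Nat.card (N ⋊[φ] G) = Nat.card N * Nat.card G := by
  rw [Nat.card_congr SemidirectProduct.equivProd, Nat.card_prod]

theorem finite_sd : Finite (N ⋊[φ] G) := Finite.of_equiv _ SemidirectProduct.equivProd.symm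

theorem pgraph_sd (hN : IsPGroup 5 N) (hN1 : Nontrivial N) (hG : PGraph G)
    (hfpf : ∀ g : G, orderOf g = 13 → ∀ n : N, φ g n = n → n = 1) :
    PGraph (N ⋊[φ] G) := by
  haveI : Fact (Nat.Prime 5) := ⟨by norm_num⟩
  refine ⟨fun p hp => ?_, fun p q hp hq hne => ?_⟩
  · rw [card_sd]
    obtain ⟨j, hj⟩ := (IsPGroup.iff_card.1 hN)
    have hj0 : j ≠ 0 := by
      rintro rfl
      rw [pow_zero] at hj
      have := (Nat.card_eq_one_iff_unique.1 hj).1
      exact not_nontrivial N hN1
    rw [hj, Nat.Prime.dvd_mul hp, hG.1 p hp]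
    constructor
    · rintro (h | h)
      · right; right; left
        exact (Nat.prime_dvd_prime_iff_eq hp (by norm_num)).1 (hp.dvd_of_dvd_pow h)
      · exact h
    · intro h
      right; exact h
  · constructor
    · rintro ⟨h, ho⟩
      rcases sd_pair φ 5 hN h p q hp hq hne ho with ⟨g, hg⟩ | ⟨g, r, hr, hr5, hpq, hgr, n, hn1, hfix⟩
      · exact (hG.2 p q hp hq hne).1 ⟨g, hg⟩
      · have hrd : r ∣ Nat.card G := by rw [← hgr]; exact orderOf_dvd_natCard g
        rcases (hG.1 r hr).1 hrd with rfl | rfl | rfl | rfl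
        · rcases hpq with ⟨rfl, rfl⟩ | ⟨rfl, rfl⟩
          · right; left; exact ⟨rfl, rfl⟩
          · left; exact ⟨rfl, rfl⟩
        · rcases hpq with ⟨rfl, rfl⟩ | ⟨rfl, rfl⟩
          · right; right; right; exact ⟨rfl, rfl⟩
          · right; right; left; exact ⟨rfl, rfl⟩
        · exact absurd rfl hr5
        · exact absurd (hfpf g hgr n hfix) hn1
    · intro h
      obtain ⟨g, hg⟩ := (hG.2 p q hp hq hne).2 h
      exact ⟨SemidirectProduct.inr g, by
        rw [orderOf_injective (SemidirectProduct.inr : G →* N ⋊[φ] G)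
          SemidirectProduct.inr_injective g]; exact hg⟩

end SD

end Cfsg.Agent.Lib.Helper3.PG
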