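import Mathlib
import Cfsg.Agent.Lib.Helper3.PG3

/-! The module: functions on the isotropic vectors of `K16³` (Hermitian unital), block sums zero,
modulo constants (realised as difference cocycles on pairs). -/

set_option autoImplicit false
set_option maxHeartbeats 1000000
set_option maxRecDepth 100000
set_option linter.unusedVariables false
set_option linter.unusedSectionVars false
set_option linter.style.longLine false
set_option linter.unusedSimpArgs false
set_option linter.style.haveILetI false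

namespace Cfsg.Agent.Lib.Helper3.PG

open Matrix

abbrev Vec := Fin 3 → K16
abbrev LL := ↥(Cfsg.SU 3 K16 4)

/-- matrix of a group element -/
def mat (g : LL) : Matrix (Fin 3) (Fin 3) K16 :=
  ((g : Matrix.SpecialLinearGroup (Fin 3) K16) : Matrix (Fin 3) (Fin 3) K16)

theorem mat_mul (g h : LL) : mat (g * h) = mat g * mat h := by
  simp [mat]

theorem mat_one : mat (1 : LL) = 1 := by
  simp [mat]

/-- the hermitian form -/
abbrev hh (u v : Vec) : K16 := Cfsg.hermForm 3 K16 4 u v

theorem hh_def (u v : Vec) : hh u v = ∑ i, u i * (v i) ^ 4 := rfl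

/-- the action on vectors -/
def act (g : LL) (v : Vec) : Vec := mat g *ᵥ v

theorem act_mul (g h : LL) (v : Vec) : act (g * h) v = act g (act h v) := by
  simp [act, mat_mul, Matrix.mulVec_mulVec]

theorem act_one (v : Vec) : act 1 v = v := by
  simp [act, mat_one]

theorem act_inv_act (g : LL) (v : Vec) : act g⁻¹ (act g v) = v := by
  rw [← act_mul, inv_mul_cancel, act_one]

theorem act_act_inv (g : LL) (v : Vec) : act g (act g⁻¹ v) = v := by
  rw [← act_mul, mul_inv_cancel, act_one]

theorem act_add (g : LL) (u v : Vec) : act g (u + v) = act g u + act g v := by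
  simp [act, Matrix.mulVec_add]

theorem act_smul (g : LL) (c : K16) (v : Vec) : act g (c • v) = c • act g v := by
  simp [act, Matrix.mulVec_smul]

theorem act_zero (g : LL) : act g 0 = 0 := by
  simp [act]

theorem act_eq_zero_iff (g : LL) (v : Vec) : act g v = 0 ↔ v = 0 := by
  constructor
  · intro h
    have := act_inv_act g v
    rw [h, act_zero] at this
    exact this.symm
  · rintro rfl; exact act_zero g

theorem hh_act (g : LL) (u v : Vec) : hh (act g u) (act g v) = hh u v := by
  have h := g.2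
  have h2 : ∀ u v : Vec, Cfsg.hermForm 3 K16 4 (Cfsg.slToMat 3 K16 g.1 *ᵥ u)
      (Cfsg.slToMat 3 K16 g.1 *ᵥ v) = Cfsg.hermForm 3 K16 4 u v := h
  exact h2 u v

/-- nonzero isotropic vectors -/
abbrev isoNZ (x : Vec) : Prop := x ≠ 0 ∧ hh x x = 0

theorem isoNZ_act (g : LL) (x : Vec) : isoNZ (act g x) ↔ isoNZ x := by
  unfold isoNZ
  rw [hh_act, Ne, act_eq_zero_iff]

/-- the subfield with four elements -/
def F4 : Finset K16 := Finset.univ.filter (fun t => t ^ 4 = t)

abbrev Fn := Vec → ZMod 5

/-- functions supported on the isotropic points (scalar invariant) with all block sums zero -/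
def V13 : AddSubgroup Fn where
  carrier := {f | (∀ x, ¬ isoNZ x → f x = 0) ∧ (∀ c : K16, c ≠ 0 → ∀ x, f (c • x) = f x) ∧
    (∀ u v, hh u u = 0 → hh v v = 0 → hh u v = 1 → f u + ∑ t ∈ F4, f (t • u + v) = 0)}
  zero_mem' := by
    refine ⟨fun _ _ => rfl, fun _ _ _ => rfl, fun _ _ _ _ _ => ?_⟩
    simp
  add_mem' := by
    rintro f f' ⟨h1, h2, h3⟩ ⟨h1', h2', h3'⟩
    refine ⟨fun x hx => ?_, fun c hc x => ?_, fun u v hu hv huv => ?_⟩
    · simp [h1 x hx, h1' x hx]
    · simp [h2 c hc x, h2' c hc x]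
    · have e1 := h3 u v hu hv huv
      have e2 := h3' u v hu hv huv
      simp only [Pi.add_apply, Finset.sum_add_distrib]
      linear_combination e1 + e2
  neg_mem' := by
    rintro f ⟨h1, h2, h3⟩
    refine ⟨fun x hx => ?_, fun c hc x => ?_, fun u v hu hv huv => ?_⟩
    · simp [h1 x hx]
    · simp [h2 c hc x]
    · have e1 := h3 u v hu hv huv
      simp only [Pi.neg_apply, Finset.sum_neg_distrib]
      linear_combination -e1

/-- the action on functions -/
def smulFn (g : LL) (f : Fn) : Fn := fun x => f (act g⁻¹ x)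

theorem V13_smul (g : LL) (f : Fn) (hf : f ∈ V13) : smulFn g f ∈ V13 := by
  obtain ⟨h1, h2, h3⟩ := hf
  refine ⟨fun x hx => ?_, fun c hc x => ?_, fun u v hu hv huv => ?_⟩
  · apply h1
    rwa [isoNZ_act]
  · show f (act g⁻¹ (c • x)) = f (act g⁻¹ x)
    rw [act_smul]; exact h2 c hc _
  · show f (act g⁻¹ u) + ∑ t ∈ F4, f (act g⁻¹ (t • u + v)) = 0
    have := h3 (act g⁻¹ u) (act g⁻¹ v) (by rw [hh_act]; exact hu) (by rw [hh_act]; exact hv)
      (by rw [hh_act]; exact huv)
    simpa only [act_add, act_smul] using this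

abbrev Pn := Vec → Vec → ZMod 5

/-- difference cocycle on isotropic pairs -/
def dmap : Fn →+ Pn where
  toFun f := fun x y => if isoNZ x ∧ isoNZ y then f x - f y else 0
  map_zero' := by
    funext x y; simp
  map_add' := by
    intro f f'
    funext x y
    by_cases h : isoNZ x ∧ isoNZ y
    · simp only [Pi.add_apply, if_pos h]; ring
    · simp only [Pi.add_apply, if_neg h]; ring

theorem dmap_apply (f : Fn) (x y : Vec) :
    dmap f x y = if isoNZ x ∧ isoNZ y then f x - f y else 0 := rfl

/-- the module `V13 / constants` -/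
def WW : AddSubgroup Pn := V13.map dmap

/-- the action on functions of pairs -/
def smulP (g : LL) (φ : Pn) : Pn := fun x y => φ (act g⁻¹ x) (act g⁻¹ y)

theorem smulP_dmap (g : LL) (f : Fn) : smulP g (dmap f) = dmap (smulFn g f) := by
  funext x y
  simp only [smulP, dmap_apply, smulFn, isoNZ_act]

theorem WW_smul (g : LL) (φ : Pn) (hφ : φ ∈ WW) : smulP g φ ∈ WW := by
  obtain ⟨f, hf, rfl⟩ := hφ
  exact ⟨smulFn g f, V13_smul g f hf, (smulP_dmap g f).symm⟩

theorem smulP_mul (g h : LL) (φ : Pn) : smulP (g * h) φ = smulP g (smulP h φ) := by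
  funext x y
  simp only [smulP, _root_.mul_inv_rev, act_mul]

theorem smulP_one (φ : Pn) : smulP 1 φ = φ := by
  funext x y
  simp only [smulP, inv_one, act_one]

theorem smulP_add (g : LL) (φ ψ : Pn) : smulP g (φ + ψ) = smulP g φ + smulP g ψ := rfl

theorem smulP_zero (g : LL) : smulP g 0 = 0 := rfl

/-- `k` copies -/
abbrev Fk (k : ℕ) := Fin k → Pn

def Wk (k : ℕ) : AddSubgroup (Fk k) := AddSubgroup.pi Set.univ (fun _ => WW)

theorem mem_Wk (k : ℕ) (Φ : Fk k) : Φ ∈ Wk k ↔ ∀ i, Φ i ∈ WW := by
  simp [Wk, AddSubgroup.mem_pi]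

/-- the action of a group element on `Wk` -/
def actWk (k : ℕ) (g : LL) : ↥(Wk k) →+ ↥(Wk k) where
  toFun Φ := ⟨fun i => smulP g (Φ.1 i), by
    rw [mem_Wk]; intro i; exact WW_smul g _ ((mem_Wk k Φ.1).1 Φ.2 i)⟩
  map_zero' := by
    apply Subtype.ext; funext i; rfl
  map_add' := by
    intro Φ Ψ
    apply Subtype.ext; funext i; rfl

theorem actWk_apply (k : ℕ) (g : LL) (Φ : ↥(Wk k)) (i : Fin k) :
    (actWk k g Φ).1 i = smulP g (Φ.1 i) := rfl

theorem actWk_mul (k : ℕ) (g h : LL) (Φ : ↥(Wk k)) :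
    actWk k (g * h) Φ = actWk k g (actWk k h Φ) := by
  apply Subtype.ext; funext i
  rw [actWk_apply, actWk_apply, actWk_apply, smulP_mul]

theorem actWk_one (k : ℕ) (Φ : ↥(Wk k)) : actWk k 1 Φ = Φ := by
  apply Subtype.ext; funext i
  rw [actWk_apply, smulP_one]

/-- the action as additive automorphisms -/
def aeqWk (k : ℕ) (g : LL) : ↥(Wk k) ≃+ ↥(Wk k) where
  toFun := actWk k g
  invFun := actWk k g⁻¹
  left_inv Φ := by rw [← actWk_mul, inv_mul_cancel, actWk_one]
  right_inv Φ := by rw [← actWk_mul, mul_inv_cancel, actWk_one]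
  map_add' := (actWk k g).map_add

/-- the homomorphism defining the semidirect product -/
def phiK (k : ℕ) : LL →* MulAut (Multiplicative ↥(Wk k)) where
  toFun g := AddEquiv.toMultiplicative (aeqWk k g)
  map_one' := by
    apply MulEquiv.ext
    intro Φ
    show Multiplicative.ofAdd (actWk k 1 (Multiplicative.toAdd Φ)) = Φ
    rw [actWk_one]; rfl
  map_mul' g h := by
    apply MulEquiv.ext
    intro Φ
    show Multiplicative.ofAdd (actWk k (g * h) (Multiplicative.toAdd Φ)) =
      Multiplicative.ofAdd (actWk k g (actWk k h (Multiplicative.toAdd Φ)))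
    rw [actWk_mul]

theorem phiK_apply (k : ℕ) (g : LL) (Φ : Multiplicative ↥(Wk k)) :
    phiK k g Φ = Multiplicative.ofAdd (actWk k g (Multiplicative.toAdd Φ)) := rfl

theorem isPGroup_Wk (k : ℕ) : IsPGroup 5 (Multiplicative ↥(Wk k)) := by
  intro Φ
  refine ⟨1, ?_⟩
  rw [pow_one]
  show Multiplicative.ofAdd (5 • Multiplicative.toAdd Φ) = 1
  have : (5 : ℕ) • Multiplicative.toAdd Φ = 0 := by
    apply Subtype.ext
    funext i x y
    show (5 : ℕ) • ((Multiplicative.toAdd Φ).1 i x y) = 0
    rw [nsmul_eq_mul]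
    have : ((5 : ℕ) : ZMod 5) = 0 := by decide
    rw [this, zero_mul]
  rw [this]; rfl

/-- the group `H_k` -/
abbrev HK (k : ℕ) := Multiplicative ↥(Wk k) ⋊[phiK k] LL

theorem main_of (hφ0 : ∃ φ0 ∈ WW, φ0 ≠ 0)
    (hfpf : ∀ g : LL, orderOf g = 13 → ∀ φ ∈ WW, smulP g φ = φ → φ = 0) (k : ℕ) (hk : 1 ≤ k) :
    PGraph (HK k) ∧ k ≤ Nat.card (HK k) ∧ Finite (HK k) := by
  obtain ⟨φ0, hφ0, hne⟩ := hφ0
  classical
  -- the injection `Fin k → Wk`
  have hsingle : ∀ j : Fin k, (Pi.single j φ0 : Fk k) ∈ Wk k := by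
    intro j
    rw [mem_Wk]
    intro i
    by_cases hij : i = j
    · subst hij; rw [Pi.single_eq_same]; exact hφ0
    · rw [Pi.single_eq_of_ne hij]; exact WW.zero_mem
  have hinj : Function.Injective (fun j : Fin k =>
      (Multiplicative.ofAdd (⟨Pi.single j φ0, hsingle j⟩ : ↥(Wk k)))) := by
    intro i j hij
    have h1 : (Pi.single i φ0 : Fk k) = Pi.single j φ0 := by
      have := congrArg (fun x => (Multiplicative.toAdd x).1) hij
      exact this
    by_contra hne'
    have h2 := congrFun h1 i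
    rw [Pi.single_eq_same, Pi.single_eq_of_ne hne'] at h2
    exact hne h2
  haveI : Finite LL := inferInstance
  haveI : Finite ↥(Wk k) := inferInstance
  haveI : Finite (Multiplicative ↥(Wk k)) := inferInstance
  have hcardN : k ≤ Nat.card (Multiplicative ↥(Wk k)) := by
    have := Nat.card_le_card_of_injective _ hinj
    simpa using this
  have hnt : Nontrivial (Multiplicative ↥(Wk k)) := by
    have j0 : Fin k := ⟨0, hk⟩
    refine ⟨⟨Multiplicative.ofAdd (⟨Pi.single j0 φ0, hsingle j0⟩ : ↥(Wk k)), 1, ?_⟩⟩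
    intro h
    have h1 : (Pi.single j0 φ0 : Fk k) = 0 := by
      have := congrArg (fun x => (Multiplicative.toAdd x).1) h
      exact this
    have h2 := congrFun h1 j0
    rw [Pi.single_eq_same] at h2
    exact hne h2
  refine ⟨?_, ?_, finite_sd (phiK k)⟩
  · apply pgraph_sd (phiK k) (isPGroup_Wk k) hnt (pgraph_SU K16.card)
    intro g hg Φ hfix
    rw [phiK_apply] at hfix
    have h1 : actWk k g (Multiplicative.toAdd Φ) = Multiplicative.toAdd Φ := by
      have := congrArg Multiplicative.toAdd hfix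
      exact this
    have h2 : Multiplicative.toAdd Φ = 0 := by
      apply Subtype.ext
      funext i
      have h3 := congrFun (congrArg Subtype.val h1) i
      rw [actWk_apply] at h3
      exact hfpf g hg _ ((mem_Wk k _).1 (Multiplicative.toAdd Φ).2 i) h3
    have := congrArg Multiplicative.ofAdd h2
    exact this
  · rw [card_sd]
    calc k ≤ Nat.card (Multiplicative ↥(Wk k)) := hcardN
      _ ≤ Nat.card (Multiplicative ↥(Wk k)) * Nat.card LL :=
        Nat.le_mul_of_pos_right _ Nat.card_pos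

end Cfsg.Agent.Lib.Helper3.PG
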