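import Mathlib
import Cfsg.Agent.Lib.Helper3.PG4

/-! A nonconstant function on the Hermitian unital with all block sums zero (mod 5). -/

set_option autoImplicit false
set_option maxHeartbeats 1000000
set_option maxRecDepth 100000
set_option linter.unusedVariables false
set_option linter.unusedSectionVars false
set_option linter.style.longLine false
set_option linter.unusedSimpArgs false
set_option linter.style.haveILetI false

namespace Cfsg.Agent.Lib.Helper3.PG

open Matrix

/-- triple to vector -/
def vec (a b c : K16) : Vec := ![a, b, c]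

/-- explicit form of the hermitian form -/
def hT (u v : Vec) : K16 := u 0 * (v 0) ^ 4 + u 1 * (v 1) ^ 4 + u 2 * (v 2) ^ 4

theorem hh_eq_hT (u v : Vec) : hh u v = hT u v := by
  simp [hh_def, Fin.sum_univ_three, hT]

theorem pow16 : ∀ x : K16, x ^ 16 = x := by decide +kernel

theorem pow15 (x : K16) (hx : x ≠ 0) : x ^ 15 = 1 := by
  have h := pow16 x
  have : x * x ^ 15 = x * 1 := by rw [mul_one, ← pow_succ']; exact h
  exact mul_left_cancel₀ hx this

theorem hT_smul_left (a : K16) (u v : Vec) : hT (a • u) v = a * hT u v := by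
  simp only [hT, Pi.smul_apply, smul_eq_mul]; ring

theorem hT_smul_right (b : K16) (u v : Vec) : hT u (b • v) = b ^ 4 * hT u v := by
  simp only [hT, Pi.smul_apply, smul_eq_mul]; ring

theorem hT_zero_left (v : Vec) : hT 0 v = 0 := by simp [hT]

theorem hT_zero_right (v : Vec) : hT v 0 = 0 := by simp [hT]

/-- nonzero, computably -/
def nz (v : Vec) : Prop := v 0 ≠ 0 ∨ v 1 ≠ 0 ∨ v 2 ≠ 0

instance instDecidableNz (v : Vec) : Decidable (nz v) := by unfold nz; infer_instance

theorem nz_iff (v : Vec) : nz v ↔ v ≠ 0 := by
  constructor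
  · rintro h rfl
    rcases h with h | h | h <;> exact h rfl
  · intro h
    by_contra hc
    unfold nz at hc
    push Not at hc
    apply h
    funext i
    fin_cases i
    · exact hc.1
    · exact hc.2.1
    · exact hc.2.2

/-- first nonzero coordinate -/
def lead (v : Vec) : K16 := if v 0 ≠ 0 then v 0 else if v 1 ≠ 0 then v 1 else v 2

/-- normalisation: first nonzero coordinate one -/
def nrm (v : Vec) : Vec := (lead v)⁻¹ • v

theorem lead_ne_zero (v : Vec) (hv : v ≠ 0) : lead v ≠ 0 := by
  unfold lead
  split_ifs with h0 h1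
  · exact h0
  · exact h1
  · intro h2
    apply hv
    funext i
    fin_cases i
    · simpa using h0
    · simpa using h1
    · exact h2

theorem lead_smul (c : K16) (hc : c ≠ 0) (v : Vec) : lead (c • v) = c * lead v := by
  unfold lead
  simp only [Pi.smul_apply, smul_eq_mul, ne_eq, mul_eq_zero, hc, false_or]
  split_ifs <;> rfl

theorem nrm_smul (c : K16) (hc : c ≠ 0) (v : Vec) : nrm (c • v) = nrm v := by
  unfold nrm
  rw [lead_smul c hc, smul_smul]
  by_cases hv : v = 0
  · subst hv; simp
  · have hl := lead_ne_zero v hv
    congr 1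
    field_simp

theorem eq_lead_smul_nrm (v : Vec) (hv : v ≠ 0) : v = lead v • nrm v := by
  unfold nrm
  rw [smul_smul, mul_inv_cancel₀ (lead_ne_zero v hv), one_smul]

/-- all field elements -/
def allK : List K16 := (List.range 16).map K16.k

theorem mem_allK : ∀ a : K16, a ∈ allK := by decide +kernel

/-- all normalised vectors -/
def normList : List Vec :=
  (allK.flatMap fun a => allK.map fun b => vec 1 a b) ++ (allK.map fun a => vec 0 1 a) ++ [vec 0 0 1]

theorem nrm_mem_normList (v : Vec) (hv : v ≠ 0) : nrm v ∈ normList := by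
  unfold normList
  by_cases h0 : v 0 ≠ 0
  · apply List.mem_append_left
    apply List.mem_append_left
    rw [List.mem_flatMap]
    refine ⟨(v 0)⁻¹ * v 1, mem_allK _, ?_⟩
    rw [List.mem_map]
    refine ⟨(v 0)⁻¹ * v 2, mem_allK _, ?_⟩
    have hl : lead v = v 0 := by unfold lead; rw [if_pos h0]
    funext i
    fin_cases i
    · simp [vec, nrm, hl, h0]
    · simp [vec, nrm, hl]
    · simp [vec, nrm, hl]
  · push Not at h0
    by_cases h1 : v 1 ≠ 0
    · apply List.mem_append_left
      apply List.mem_append_right
      rw [List.mem_map]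
      refine ⟨(v 1)⁻¹ * v 2, mem_allK _, ?_⟩
      have hl : lead v = v 1 := by unfold lead; rw [if_neg (by simpa using h0), if_pos h1]
      funext i
      fin_cases i
      · simp [vec, nrm, hl, h0]
      · simp [vec, nrm, hl, h1]
      · simp [vec, nrm, hl]
    · push Not at h1
      apply List.mem_append_right
      rw [List.mem_singleton]
      have hl : lead v = v 2 := by
        unfold lead; rw [if_neg (by simpa using h0), if_neg (by simpa using h1)]
      have h2 : v 2 ≠ 0 := by
        have := lead_ne_zero v hv
        rwa [hl] at this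
      funext i
      fin_cases i
      · simp [vec, nrm, hl, h0]
      · simp [vec, nrm, hl, h1]
      · simp [vec, nrm, hl, h2]

/-- normalised isotropic vectors -/
def normIso : List Vec := normList.filter (fun v => hT v v = 0)

theorem hT_nrm (v : Vec) (hv : v ≠ 0) (h : hT v v = 0) : hT (nrm v) (nrm v) = 0 := by
  unfold nrm
  rw [hT_smul_left, hT_smul_right, h, mul_zero, mul_zero]

theorem nrm_mem_normIso (v : Vec) (hv : v ≠ 0) (h : hT v v = 0) : nrm v ∈ normIso := by
  unfold normIso
  rw [List.mem_filter]
  exact ⟨nrm_mem_normList v hv, by simpa using hT_nrm v hv h⟩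

/-- the table of values, three bits per code -/
def T0 : ℕ := 1559938751569433223030136661007773115676136730149581291695487487697713510168744633939228786326205314259500479803144128965886696568217089668469696878593656770091203407180495798563187059255314668827084815775913087313971600802736256055892917778179074495359669801762820745168080690683404208276587141148893980311523870225434092738038568757291895486271184765197903820484148944514778452502034487739757432523456512

/-- code of a vector -/
def code (v : Vec) : ℕ := 256 * (v 0).v.val + 16 * (v 1).v.val + (v 2).v.val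

/-- the function  -/
def f0 : Fn := fun v =>
  if nz v ∧ hT v v = 0 then (((T0 >>> (3 * code (nrm v))) &&& 7 : ℕ) : ZMod 5) else 0

theorem isoNZ_iff (v : Vec) : isoNZ v ↔ (nz v ∧ hT v v = 0) := by
  unfold isoNZ
  rw [nz_iff, hh_eq_hT]

theorem f0_support (x : Vec) (hx : ¬ isoNZ x) : f0 x = 0 := by
  unfold f0
  rw [isoNZ_iff] at hx
  rw [if_neg hx]

theorem isoNZ_smul (c : K16) (hc : c ≠ 0) (x : Vec) : isoNZ (c • x) ↔ isoNZ x := by
  unfold isoNZ
  rw [hh_eq_hT, hh_eq_hT, hT_smul_left, hT_smul_right]
  constructor
  · rintro ⟨h1, h2⟩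
    refine ⟨fun h => h1 (by rw [h, smul_zero]), ?_⟩
    rcases mul_eq_zero.1 h2 with h | h
    · exact absurd h hc
    · rcases mul_eq_zero.1 h with h | h
      · exact absurd (pow_eq_zero_iff (by norm_num) |>.1 h) hc
      · exact h
  · rintro ⟨h1, h2⟩
    refine ⟨fun h => h1 ?_, by rw [h2, mul_zero, mul_zero]⟩
    rcases smul_eq_zero.1 h with h | h
    · exact absurd h hc
    · exact h

theorem f0_smul (c : K16) (hc : c ≠ 0) (x : Vec) : f0 (c • x) = f0 x := by
  unfold f0
  have h := isoNZ_smul c hc x
  rw [isoNZ_iff, isoNZ_iff] at h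
  by_cases hx : nz x ∧ hT x x = 0
  · rw [if_pos hx, if_pos (h.2 hx), nrm_smul c hc]
  · rw [if_neg hx, if_neg (fun h' => hx (h.1 h'))]

end Cfsg.Agent.Lib.Helper3.PG
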