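import Mathlib
import Cfsg.Agent.Lib.Helper3.PG5

/-! The block sums of `f0` vanish. -/

set_option autoImplicit false
set_option maxHeartbeats 1000000
set_option maxRecDepth 1000000
set_option linter.unusedVariables false
set_option linter.unusedSectionVars false
set_option linter.style.longLine false
set_option linter.unusedSimpArgs false
set_option linter.style.haveILetI false

namespace Cfsg.Agent.Lib.Helper3.PG

open Matrix

/-- the block sum -/
def cond (f : Fn) (u v : Vec) : ZMod 5 := f u + ∑ t ∈ F4, f (t • u + v)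

theorem F4_eq : F4 = {0, 1, K16.k 6, K16.k 7} := by decide +kernel

theorem mem_F4 (t : K16) : t ∈ F4 ↔ t ^ 4 = t := by
  simp [F4]

theorem cond_explicit (f : Fn) (u v : Vec) :
    cond f u v = f u + (f ((0 : K16) • u + v) + (f ((1 : K16) • u + v) +
      (f (K16.k 6 • u + v) + f (K16.k 7 • u + v)))) := by
  unfold cond
  rw [F4_eq, Finset.sum_insert (by decide), Finset.sum_insert (by decide),
    Finset.sum_insert (by decide), Finset.sum_singleton]

/-- the explicit block sum for a pair of normalised isotropic vectors -/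
def chk (n m : Vec) : ZMod 5 :=
  f0 n + (f0 ((0 : K16) • n + ((hT n m)⁻¹ ^ 4) • m) + (f0 ((1 : K16) • n + ((hT n m)⁻¹ ^ 4) • m) +
    (f0 (K16.k 6 • n + ((hT n m)⁻¹ ^ 4) • m) + f0 (K16.k 7 • n + ((hT n m)⁻¹ ^ 4) • m))))

theorem chk_all : ∀ n ∈ normIso, ∀ m ∈ normIso, hT n m ≠ 0 → chk n m = 0 := by
  decide +kernel

end Cfsg.Agent.Lib.Helper3.PG
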