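import Mathlib
import Cfsg.Agent.Lib.Helper3.PG6

/-! `f0 ∈ V13`, and the module is nonzero. -/

set_option autoImplicit false
set_option maxHeartbeats 1000000
set_option maxRecDepth 100000
set_option linter.unusedVariables false
set_option linter.unusedSectionVars false
set_option linter.style.longLine false
set_option linter.unusedSimpArgs false
set_option linter.style.haveILetI false

namespace Cfsg.Agent.Lib.Helper3.PG

open Matrix

theorem pow5_mem_F4 (a : K16) (ha : a ≠ 0) : (a ^ 5) ^ 4 = a ^ 5 := by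
  have h := pow15 a ha
  calc (a ^ 5) ^ 4 = a ^ 15 * a ^ 5 := by ring
    _ = a ^ 5 := by rw [h, one_mul]

/-- rescaling the first vector of a hyperbolic pair -/
theorem cond_smul (f : Fn) (hI : ∀ c : K16, c ≠ 0 → ∀ x, f (c • x) = f x) (a : K16) (ha : a ≠ 0)
    (n v : Vec) : cond f (a • n) v = cond f n (a ^ 4 • v) := by
  unfold cond
  rw [hI a ha n]
  congr 1
  have ha5 : a ^ 5 ≠ 0 := pow_ne_zero _ ha
  have ha4 : a ^ 4 ≠ 0 := pow_ne_zero _ ha
  apply Finset.sum_equiv (Equiv.mulRight₀ (a ^ 5) ha5)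
  · intro t
    have e1 : (Equiv.mulRight₀ (a ^ 5) ha5) t = t * a ^ 5 := rfl
    rw [mem_F4, mem_F4, e1, mul_pow, pow5_mem_F4 a ha]
    constructor
    · intro h; rw [h]
    · intro h; exact mul_right_cancel₀ ha5 h
  · intro t _
    have e1 : (Equiv.mulRight₀ (a ^ 5) ha5) t = t * a ^ 5 := rfl
    rw [e1]
    have e : t • (a • n) + v = (a ^ 4)⁻¹ • ((t * a ^ 5) • n + a ^ 4 • v) := by
      rw [smul_add, smul_smul, smul_smul, smul_smul, inv_mul_cancel₀ ha4, one_smul]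
      congr 2
      field_simp
    rw [e, hI _ (inv_ne_zero ha4)]

theorem f0_block (u v : Vec) (hu : hh u u = 0) (hv : hh v v = 0) (huv : hh u v = 1) :
    f0 u + ∑ t ∈ F4, f0 (t • u + v) = 0 := by
  rw [hh_eq_hT] at hu hv huv
  show cond f0 u v = 0
  have hu0 : u ≠ 0 := by
    rintro rfl
    rw [hT_zero_left] at huv
    exact zero_ne_one huv
  have hv0 : v ≠ 0 := by
    rintro rfl
    rw [hT_zero_right] at huv
    exact zero_ne_one huv
  have ha := lead_ne_zero u hu0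
  obtain ⟨a, haa⟩ : ∃ a, a = lead u := ⟨_, rfl⟩
  obtain ⟨n, hn⟩ : ∃ n, n = nrm u := ⟨_, rfl⟩
  rw [← haa] at ha
  have hun : u = a • n := by rw [haa, hn]; exact eq_lead_smul_nrm u hu0
  have hn_mem : n ∈ normIso := by rw [hn]; exact nrm_mem_normIso u hu0 hu
  rw [hun, cond_smul f0 f0_smul a ha]
  obtain ⟨v', hv'⟩ : ∃ v', v' = a ^ 4 • v := ⟨_, rfl⟩
  rw [← hv']
  have ha4 : a ^ 4 ≠ 0 := pow_ne_zero _ ha
  have hv'0 : v' ≠ 0 := by
    rw [hv']
    intro h
    rcases smul_eq_zero.1 h with h | h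
    · exact ha4 h
    · exact hv0 h
  have hv'iso : hT v' v' = 0 := by
    rw [hv', hT_smul_left, hT_smul_right, hv, mul_zero, mul_zero]
  have hnv' : hT n v' = 1 := by
    rw [hv', hT_smul_right]
    have : (a ^ 4) ^ 4 = a := by rw [← pow_mul]; exact pow16 a
    rw [this, ← hT_smul_left, ← hun, huv]
  obtain ⟨b, hb⟩ : ∃ b, b = lead v' := ⟨_, rfl⟩
  obtain ⟨m, hm⟩ : ∃ m, m = nrm v' := ⟨_, rfl⟩
  have hvm : v' = b • m := by rw [hb, hm]; exact eq_lead_smul_nrm v' hv'0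
  have hm_mem : m ∈ normIso := by rw [hm]; exact nrm_mem_normIso v' hv'0 hv'iso
  have h1 : b ^ 4 * hT n m = 1 := by rw [← hT_smul_right, ← hvm, hnv']
  have hnm : hT n m ≠ 0 := by
    intro h; rw [h, mul_zero] at h1; exact zero_ne_one h1
  have hb4 : b ^ 4 = (hT n m)⁻¹ := eq_inv_of_mul_eq_one_left h1
  have hbc : b = (hT n m)⁻¹ ^ 4 := by
    rw [← hb4, ← pow_mul]; exact (pow16 b).symm
  rw [hvm, hbc, cond_explicit]
  exact chk_all n hn_mem m hm_mem hnm

theorem f0_mem : f0 ∈ V13 := ⟨f0_support, f0_smul, f0_block⟩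

theorem f0_ne : ∃ x y : Vec, isoNZ x ∧ isoNZ y ∧ f0 x ≠ f0 y := by
  refine ⟨vec 1 0 1, vec 1 0 (K16.k 8), ?_, ?_, ?_⟩
  · rw [isoNZ_iff]; decide +kernel
  · rw [isoNZ_iff]; decide +kernel
  · decide +kernel

theorem exists_phi0 : ∃ φ0 ∈ WW, φ0 ≠ 0 := by
  obtain ⟨x, y, hx, hy, hne⟩ := f0_ne
  refine ⟨dmap f0, ⟨f0, f0_mem, rfl⟩, ?_⟩
  intro h
  have h1 := congrFun (congrFun h x) y
  rw [dmap_apply, if_pos ⟨hx, hy⟩] at h1
  exact hne (sub_eq_zero.1 h1)

end Cfsg.Agent.Lib.Helper3.PG
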