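import Mathlib
import Cfsg.Agent.Lib.Helper3.PG7

/-! An explicit element of order 13 acts fixed-point-freely on the module. -/

set_option autoImplicit false
set_option maxHeartbeats 1000000
set_option maxRecDepth 1000000
set_option linter.unusedVariables false
set_option linter.unusedSectionVars false
set_option linter.style.longLine false
set_option linter.unusedSimpArgs false
set_option linter.style.haveILetI false

namespace Cfsg.Agent.Lib.Helper3.PG

open Matrix Cfsg.Agent.Lib.Helper5.HermCenter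

/-- the element of order 13, in `SL` -/
def g0S : Matrix.SpecialLinearGroup (Fin 3) K16 := ⟨G0, G0_spec.2.2.1⟩

theorem g0S_mem : g0S ∈ Cfsg.SU 3 K16 4 := by
  rw [mem_SU_iff (F := K16) (q := 4) (by rw [K16.card]; norm_num)]
  exact G0_spec.2.2.2

/-- the element of order 13 -/
def g0L : LL := ⟨g0S, g0S_mem⟩

theorem mat_g0L : mat g0L = G0 := rfl

theorem mat_pow (g : LL) (n : ℕ) : mat (g ^ n) = mat g ^ n := by
  induction n with
  | zero => simp [mat_one]
  | succ n ih => rw [pow_succ, mat_mul, ih, pow_succ]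

theorem mat_injective : Function.Injective mat := by
  intro g h hgh
  apply Subtype.ext
  apply Subtype.ext
  exact hgh

theorem g0L_pow : g0L ^ 13 = 1 := by
  apply mat_injective
  rw [mat_pow, mat_g0L, mat_one]
  exact G0_spec.1

theorem g0L_ne : g0L ≠ 1 := by
  intro h
  have := congrArg mat h
  rw [mat_g0L, mat_one] at this
  exact G0_spec.2.1 (by rw [pow_one]; exact this)

theorem orderOf_g0L : orderOf g0L = 13 := by
  haveI : Fact (Nat.Prime 13) := ⟨by norm_num⟩
  exact orderOf_eq_prime g0L_pow g0L_ne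

theorem act_g0L (x : Vec) : act g0L x = G0 *ᵥ x := rfl

/-- orbit representatives -/
def xrep : Fin 5 → Vec :=
  ![vec 1 0 1, vec 1 0 (K16.k 8), vec 1 0 (K16.k 10), vec 1 (K16.k 2) (K16.k 9),
    vec 1 (K16.k 3) (K16.k 4)]

/-- the list of normalised orbit elements with their orbit index -/
def orbL : List (Vec × Fin 5) :=
  (List.finRange 5).flatMap fun j => (List.range 13).map fun i => (nrm ((G0 ^ i) *ᵥ xrep j), j)

/-- orbit index -/
def oi (m : Vec) : Fin 5 :=
  match orbL.find? (fun p => p.1 = m) with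
  | some p => p.2
  | none => 0

theorem orb_cover : ∀ m ∈ normIso, ∃ i ∈ List.range 13, nrm ((G0 ^ i) *ᵥ xrep (oi m)) = m := by
  decide +kernel

def U1 : Vec := vec 1 0 1
def V1 : Vec := vec (K16.k 2) 0 (K16.k 3)
def V2 : Vec := vec 1 1 0
def V3 : Vec := vec (K16.k 6) (K16.k 12) (K16.k 7)
def V4 : Vec := vec (K16.k 8) (K16.k 3) (K16.k 9)

theorem pair_spec : hT U1 U1 = 0 ∧ (hT V1 V1 = 0 ∧ hT U1 V1 = 1) ∧ (hT V2 V2 = 0 ∧ hT U1 V2 = 1) ∧
    (hT V3 V3 = 0 ∧ hT U1 V3 = 1) ∧ (hT V4 V4 = 0 ∧ hT U1 V4 = 1) := by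
  decide +kernel

/-- the orbit indices of the five points of the block through `U1` and `v` -/
def idx (v : Vec) : Fin 5 × Fin 5 × Fin 5 × Fin 5 × Fin 5 :=
  (oi (nrm U1), oi (nrm ((0 : K16) • U1 + v)), oi (nrm ((1 : K16) • U1 + v)),
    oi (nrm (K16.k 6 • U1 + v)), oi (nrm (K16.k 7 • U1 + v)))

theorem idx_spec : idx V1 = (0, 1, 0, 1, 2) ∧ idx V2 = (0, 0, 1, 3, 1) ∧ idx V3 = (0, 0, 2, 4, 2) ∧
    idx V4 = (0, 0, 4, 4, 3) := by
  decide +kernel

theorem nz_spec (v : Vec) (hv : hT v v = 0) (huv : hT U1 v = 1) :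
    isoNZ U1 ∧ isoNZ ((0 : K16) • U1 + v) ∧ isoNZ ((1 : K16) • U1 + v) ∧
    isoNZ (K16.k 6 • U1 + v) ∧ isoNZ (K16.k 7 • U1 + v) := by
  have hU : hT U1 U1 = 0 := pair_spec.1
  have key : ∀ t : K16, t ^ 4 = t → isoNZ (t • U1 + v) := by
    intro t ht
    rw [isoNZ, hh_eq_hT]
    constructor
    · intro h0
      have h1 : hT U1 (t • U1 + v) = 1 := by
        have : hT U1 (t • U1 + v) = t ^ 4 * hT U1 U1 + hT U1 v := by
          simp only [hT, Pi.add_apply, Pi.smul_apply, smul_eq_mul]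
          have e : ∀ x y : K16, (x + y) ^ 4 = x ^ 4 + y ^ 4 := by decide +kernel
          rw [e, e, e]; ring
        rw [this, hU, huv, mul_zero, zero_add]
      rw [h0, hT_zero_right] at h1
      exact zero_ne_one h1
    · have e : ∀ x y : K16, (x + y) ^ 4 = x ^ 4 + y ^ 4 := by decide +kernel
      have hvU : hT v U1 = 1 := by
        have hsym : ∀ a b : Vec, hT a b = (hT b a) ^ 4 := by
          intro a b
          simp only [hT]
          rw [e, e, mul_pow, mul_pow, mul_pow, ← pow_mul, ← pow_mul, ← pow_mul, pow16, pow16,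
            pow16]
          ring
        rw [hsym, huv, one_pow]
      have : hT (t • U1 + v) (t • U1 + v) =
          t * t ^ 4 * hT U1 U1 + t * hT U1 v + t ^ 4 * hT v U1 + hT v v := by
        simp only [hT, Pi.add_apply, Pi.smul_apply, smul_eq_mul]
        rw [e, e, e]; ring
      rw [this, hU, huv, hvU, hv, ht, mul_zero, mul_one, add_zero, zero_add]
      have h2 : (2 : K16) = 0 := K16.two_eq_zero
      linear_combination t * h2
  have hU1 : isoNZ U1 := by
    rw [isoNZ_iff]; decide +kernel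
  exact ⟨hU1, key 0 (by decide +kernel), key 1 (by decide +kernel), key (K16.k 6) (by decide +kernel),
    key (K16.k 7) (by decide +kernel)⟩

theorem lin_alg : ∀ d : Fin 5 → ZMod 5,
    d 0 + (d 1 + (d 0 + (d 1 + d 2))) = 0 → d 0 + (d 0 + (d 1 + (d 3 + d 1))) = 0 →
    d 0 + (d 0 + (d 2 + (d 4 + d 2))) = 0 → d 0 + (d 0 + (d 4 + (d 4 + d 3))) = 0 →
    ∀ j, d j = d 0 := by
  decide +kernel

section fpf

variable (f : Fn) (hf : f ∈ V13)

include hf in
theorem f_nrm (y : Vec) : f (nrm y) = f y := by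
  by_cases hy : y = 0
  · subst hy; simp [nrm]
  · unfold nrm
    exact hf.2.1 _ (inv_ne_zero (lead_ne_zero y hy)) y

include hf in
theorem f_pow (hinv : ∀ x, f (act g0L x) = f x) (i : ℕ) (x : Vec) : f ((G0 ^ i) *ᵥ x) = f x := by
  induction i with
  | zero => simp
  | succ i ih =>
    rw [pow_succ', ← Matrix.mulVec_mulVec, ← act_g0L, hinv, ih]

include hf in
theorem f_eq_rep (hinv : ∀ x, f (act g0L x) = f x) (x : Vec) (hx : isoNZ x) :
    f x = f (xrep (oi (nrm x))) := by
  have hx' := (isoNZ_iff x).1 hx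
  have hmem := nrm_mem_normIso x ((nz_iff x).1 hx'.1) hx'.2
  obtain ⟨i, _, hi⟩ := orb_cover (nrm x) hmem
  rw [← f_nrm f hf x]
  conv_lhs => rw [← hi]
  rw [f_nrm f hf, f_pow f hf hinv]

include hf in
theorem f_const (hinv : ∀ x, f (act g0L x) = f x) (x : Vec) (hx : isoNZ x) :
    f x = f (xrep 0) := by
  obtain ⟨d, hd⟩ : ∃ d : Fin 5 → ZMod 5, d = fun j => f (xrep j) := ⟨_, rfl⟩
  have hrep : ∀ y, isoNZ y → f y = d (oi (nrm y)) := by
    intro y hy
    rw [hd]; exact f_eq_rep f hf hinv y hy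
  have eqn : ∀ v : Vec, hT v v = 0 → hT U1 v = 1 →
      d (idx v).1 + (d (idx v).2.1 + (d (idx v).2.2.1 + (d (idx v).2.2.2.1 + d (idx v).2.2.2.2))) = 0 := by
    intro v hv huv
    obtain ⟨n0, n1, n2, n3, n4⟩ := nz_spec v hv huv
    have hB := hf.2.2 U1 v (by rw [hh_eq_hT]; exact pair_spec.1) (by rw [hh_eq_hT]; exact hv)
      (by rw [hh_eq_hT]; exact huv)
    have hB' : cond f U1 v = 0 := hB
    rw [cond_explicit, hrep _ n0, hrep _ n1, hrep _ n2, hrep _ n3, hrep _ n4] at hB'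
    exact hB'
  have e1 := eqn V1 pair_spec.2.1.1 pair_spec.2.1.2
  have e2 := eqn V2 pair_spec.2.2.1.1 pair_spec.2.2.1.2
  have e3 := eqn V3 pair_spec.2.2.2.1.1 pair_spec.2.2.2.1.2
  have e4 := eqn V4 pair_spec.2.2.2.2.1 pair_spec.2.2.2.2.2
  rw [idx_spec.1] at e1
  rw [idx_spec.2.1] at e2
  rw [idx_spec.2.2.1] at e3
  rw [idx_spec.2.2.2] at e4
  have hall := lin_alg d e1 e2 e3 e4
  rw [hrep x hx, hall]
  rw [hd]

end fpf

theorem smulFn_apply (g : LL) (f : Fn) (x : Vec) : smulFn g f x = f (act g⁻¹ x) := rfl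

theorem thirteen_mul : ∀ c : ZMod 5, (13 : ℕ) • c = 0 → c = 0 := by decide

theorem fpf_g0 (φ : Pn) (hφ : φ ∈ WW) (hfix : smulP g0L φ = φ) : φ = 0 := by
  obtain ⟨f, hf, rfl⟩ := hφ
  rw [smulP_dmap] at hfix
  -- the defect
  have hx1 : isoNZ (xrep 0) := by
    rw [isoNZ_iff]; decide +kernel
  obtain ⟨c, hc⟩ : ∃ c, c = f (act g0L⁻¹ (xrep 0)) - f (xrep 0) := ⟨_, rfl⟩
  have hstep : ∀ y, isoNZ y → f (act g0L⁻¹ y) = f y + c := by
    intro y hy
    have h1 := congrFun (congrFun hfix y) (xrep 0)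
    rw [dmap_apply, dmap_apply, if_pos ⟨hy, hx1⟩, if_pos ⟨hy, hx1⟩, smulFn_apply, smulFn_apply] at h1
    rw [hc]; linear_combination h1
  have hiter : ∀ i : ℕ, ∀ y, isoNZ y → f (act (g0L⁻¹ ^ i) y) = f y + i • c := by
    intro i
    induction i with
    | zero => intro y _; simp [act_one]
    | succ i ih =>
      intro y hy
      rw [pow_succ', act_mul, hstep _ ((isoNZ_act _ _).2 hy), ih y hy, succ_nsmul]
      ring
  have hc0 : c = 0 := by
    have h13 := hiter 13 (xrep 0) hx1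
    rw [inv_pow, g0L_pow, inv_one, act_one] at h13
    apply thirteen_mul
    have : f (xrep 0) + (13 : ℕ) • c = f (xrep 0) + 0 := by rw [add_zero]; exact h13.symm
    exact add_left_cancel this
  have hinv' : ∀ y, f (act g0L⁻¹ y) = f y := by
    intro y
    by_cases hy : isoNZ y
    · rw [hstep y hy, hc0, add_zero]
    · rw [hf.1 y hy, hf.1 _ (fun h => hy ((isoNZ_act _ _).1 h))]
  have hinv : ∀ x, f (act g0L x) = f x := by
    intro x
    have := hinv' (act g0L x)
    rw [act_inv_act] at this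
    exact this.symm
  funext x y
  rw [dmap_apply]
  split_ifs with h
  · rw [f_const f hf hinv x h.1, f_const f hf hinv y h.2, sub_self]; rfl
  · rfl

end Cfsg.Agent.Lib.Helper3.PG
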