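import Mathlib
import Cfsg.Agent.Lib.Helper3.PG8

/-! All elements of order 13 of `SU(3,4)` act fixed-point-freely; the final family of groups. -/

set_option autoImplicit false
set_option maxHeartbeats 1000000
set_option maxRecDepth 100000
set_option linter.unusedVariables false
set_option linter.unusedSectionVars false
set_option linter.style.longLine false
set_option linter.unusedSimpArgs false
set_option linter.style.haveILetI false

namespace Cfsg.Agent.Lib.Helper3.PG

open Matrix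

/-- the stabiliser of a function of pairs -/
def stabP (ψ : Pn) : Subgroup LL where
  carrier := {y | smulP y ψ = ψ}
  mul_mem' := by
    intro a b ha hb
    show smulP (a * b) ψ = ψ
    rw [smulP_mul, (hb : smulP b ψ = ψ), (ha : smulP a ψ = ψ)]
  one_mem' := smulP_one ψ
  inv_mem' := by
    intro a ha
    show smulP a⁻¹ ψ = ψ
    have h : smulP a ψ = ψ := ha
    calc smulP a⁻¹ ψ = smulP a⁻¹ (smulP a ψ) := by rw [h]
      _ = ψ := by rw [← smulP_mul, inv_mul_cancel, smulP_one]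

theorem mem_stabP (ψ : Pn) (y : LL) : y ∈ stabP ψ ↔ smulP y ψ = ψ := Iff.rfl

theorem card_LL : Nat.card LL = 62400 := card_SU K16.card

theorem exists_conj (g : LL) (hg : orderOf g = 13) :
    ∃ x h : LL, h ∈ Subgroup.zpowers g0L ∧ g = x * h * x⁻¹ := by
  haveI : Fact (Nat.Prime 13) := ⟨by norm_num⟩
  haveI : Finite LL := inferInstance
  have hc0 : Nat.card (Subgroup.zpowers g0L) = 13 := by rw [Nat.card_zpowers, orderOf_g0L]
  have hc1 : Nat.card (Subgroup.zpowers g) = 13 := by rw [Nat.card_zpowers, hg]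
  have hp0 : IsPGroup 13 (Subgroup.zpowers g0L) := IsPGroup.of_card (n := 1) (by rw [hc0, pow_one])
  have hp1 : IsPGroup 13 (Subgroup.zpowers g) := IsPGroup.of_card (n := 1) (by rw [hc1, pow_one])
  obtain ⟨S0, hS0⟩ := hp0.exists_le_sylow
  obtain ⟨S1, hS1⟩ := hp1.exists_le_sylow
  have hcardS : ∀ S : Sylow 13 LL, Nat.card S ≤ 13 := by
    intro S
    obtain ⟨m, hm⟩ := (IsPGroup.iff_card.1 S.2)
    have hd : Nat.card S ∣ 62400 := by
      rw [← card_LL]; exact Subgroup.card_subgroup_dvd_card _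
    rw [hm] at hd ⊢
    have hm1 : m ≤ 1 := by
      by_contra hcon
      push Not at hcon
      have h169 : 13 ^ 2 ∣ 62400 := (pow_dvd_pow 13 hcon).trans hd
      revert h169; decide
    calc 13 ^ m ≤ 13 ^ 1 := Nat.pow_le_pow_right (by norm_num) hm1
      _ = 13 := by norm_num
  have e0 : Subgroup.zpowers g0L = (S0 : Subgroup LL) :=
    Subgroup.eq_of_le_of_card_ge hS0 (by rw [hc0]; exact hcardS S0)
  have e1 : Subgroup.zpowers g = (S1 : Subgroup LL) :=
    Subgroup.eq_of_le_of_card_ge hS1 (by rw [hc1]; exact hcardS S1)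
  obtain ⟨x, hx⟩ := MulAction.exists_smul_eq LL S0 S1
  have hgS1 : g ∈ (S1 : Subgroup LL) := by rw [← e1]; exact Subgroup.mem_zpowers g
  rw [← hx, Sylow.coe_subgroup_smul] at hgS1
  obtain ⟨h, hh, hgh⟩ := Subgroup.mem_smul_pointwise_iff_exists _ _ _ |>.1 hgS1
  refine ⟨x, h, by rw [e0]; exact hh, ?_⟩
  rw [← hgh]
  rfl

theorem fpf_all (g : LL) (hg : orderOf g = 13) (φ : Pn) (hφ : φ ∈ WW) (hfix : smulP g φ = φ) :
    φ = 0 := by
  haveI : Finite LL := inferInstance
  obtain ⟨x, h, hh, hgx⟩ := exists_conj g hg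
  obtain ⟨ψ, hψ⟩ : ∃ ψ, ψ = smulP x⁻¹ φ := ⟨_, rfl⟩
  have hψW : ψ ∈ WW := by rw [hψ]; exact WW_smul _ _ hφ
  have hhψ : h ∈ stabP ψ := by
    rw [mem_stabP, hψ, ← smulP_mul]
    have : h * x⁻¹ = x⁻¹ * g := by rw [hgx]; group
    rw [this, smulP_mul, hfix]
  have hoh : orderOf h = 13 := by
    have : g = MulAut.conj x h := by rw [hgx]; rfl
    rw [← hg, this, MulEquiv.orderOf_eq]
  have hle : Subgroup.zpowers h ≤ Subgroup.zpowers g0L := by
    rw [Subgroup.zpowers_le]; exact hh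
  have heq : Subgroup.zpowers h = Subgroup.zpowers g0L := by
    apply Subgroup.eq_of_le_of_card_ge hle
    rw [Nat.card_zpowers, Nat.card_zpowers, hoh, orderOf_g0L]
  have hg0 : g0L ∈ stabP ψ := by
    have h1 : Subgroup.zpowers h ≤ stabP ψ := by rw [Subgroup.zpowers_le]; exact hhψ
    apply h1
    rw [heq]; exact Subgroup.mem_zpowers g0L
  have hψ0 := fpf_g0 ψ hψW hg0
  have : φ = smulP x ψ := by
    rw [hψ, ← smulP_mul, mul_inv_cancel, smulP_one]
  rw [this, hψ0, smulP_zero]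

theorem main16 (k : ℕ) (hk : 1 ≤ k) : PGraph (HK k) ∧ k ≤ Nat.card (HK k) ∧ Finite (HK k) :=
  main_of exists_phi0 fpf_all k hk

end Cfsg.Agent.Lib.Helper3.PG
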