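import Mathlib
import Cfsg.Prelude.Def_Blocks
import Cfsg.Prelude.Def_Local
import Cfsg.Agent.Lib.Helper6.BlkOrth2
import Cfsg.Agent.Lib.Helper6.BlkKer
import Cfsg.Agent.Lib.Helper6.BlkPrincipalKer
import Cfsg.Agent.Lib.Helper6.BlkPrincipal
import Cfsg.Agent.Lib.Helper6.BlkNormalP
import Cfsg.Agent.Lib.Helper6.Constituent
import Cfsg.Agent.Lib.Helper3.CharTriple2
import Cfsg.Agent.Lib.Helper3.Gagola
import Cfsg.Agent.Lib.Helper1.PCore
import Cfsg.Agent.Lib.Lead.PLength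
import Cfsg.Agent.Lib.Lead.PLMain

set_option autoImplicit false
set_option maxHeartbeats 4000000
set_option maxRecDepth 100000
set_option linter.unusedVariables false
set_option linter.unusedSectionVars false
set_option linter.style.haveILetI false
set_option linter.deprecated false

/-! # p-length one and irreducible restriction of the principal block to the Sylow normaliser -/

namespace Cfsg.Agent.Lib.Helper3.PL1B

open Cfsg Cfsg.Agent.Lib.Helper6
open scoped ComplexConjugate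

/-- forward direction -/
theorem fwd {G : Type*} [Group G] [Finite G] (p : ℕ) [Fact p.Prime] (M : Ideal Cfsg.AlgInt)
    (hM : Cfsg.IsPModular p M) (P : Sylow p G) (h : Cfsg.PLengthLE p 1 G)
    (χ : Cfsg.IrrCharacter G) (hχ : χ ∈ Cfsg.principalBlock M G) :
    Cfsg.IsIrrCharacter ↥(Subgroup.normalizer ((P : Subgroup G) : Set G))
      (fun n : ↥(Subgroup.normalizer ((P : Subgroup G) : Set G)) => (χ : G → ℂ) n) := by
  classical
  haveI : Fintype G := Fintype.ofFinite G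
  obtain ⟨_, _, hYN, _⟩ := Cfsg.Agent.Lib.Lead.PLength.pLengthLE_one_core p h P
  haveI hYn : (Cfsg.pPrimeCore p G).Normal := Cfsg.Agent.Lib.Helper1.pPrimeCore_normal p
  have hconst : ∀ n ∈ Cfsg.pPrimeCore p G, (χ : G → ℂ) n = (χ : G → ℂ) 1 :=
    fun n hn => apply_eq_apply_one_of_mem_principalBlock hM χ hχ n hn
  obtain ⟨β, hβ⟩ := IsIrrCharacter.exists_deflation (Cfsg.pPrimeCore p G) χ hconst
  let f : ↥(Subgroup.normalizer ((P : Subgroup G) : Set G)) →* G ⧸ (Cfsg.pPrimeCore p G) :=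
    (QuotientGroup.mk' (Cfsg.pPrimeCore p G)).comp (Subgroup.subtype _)
  have hf : Function.Surjective f := by
    intro q
    obtain ⟨g, rfl⟩ := QuotientGroup.mk_surjective q
    have hg : g ∈ (Subgroup.normalizer ((P : Subgroup G) : Set G)) ⊔ (Cfsg.pPrimeCore p G) := by
      rw [sup_comm, hYN]; trivial
    rw [← SetLike.mem_coe, Subgroup.mul_normal] at hg
    obtain ⟨n, hn, y, hy, rfl⟩ := hg
    refine ⟨⟨n, hn⟩, ?_⟩
    show (QuotientGroup.mk n : G ⧸ (Cfsg.pPrimeCore p G)) = QuotientGroup.mk (n * y)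
    exact (QuotientGroup.mk_mul_of_mem n hy).symm
  have key := Cfsg.Agent.Lib.Helper3.CharTriple.isIrrCharacter_comp_surjective f hf β.2
  convert key using 1
  funext n
  rw [hβ]
  rfl

section bwd

variable {G : Type*} [Group G] [Fintype G] [DecidableEq G] {p : ℕ} [Fact p.Prime]
  {M : Ideal Cfsg.AlgInt}

/-- Step 1: a member of the block restricting irreducibly to `N_G(P)` and having the trivial
character of `P` as a constituent is constant on `P`. -/
theorem const_on_sylow (P : Sylow p G) [Fintype ↥(P : Subgroup G)] (χ : Cfsg.IrrCharacter G)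
    (hirr : Cfsg.IsIrrCharacter ↥(Subgroup.normalizer ((P : Subgroup G) : Set G))
      (fun n : ↥(Subgroup.normalizer ((P : Subgroup G) : Set G)) => (χ : G → ℂ) n))
    (hs : ∑ u : (P : Subgroup G), (χ : G → ℂ) u ≠ 0) :
    ∀ u ∈ (P : Subgroup G), (χ : G → ℂ) u = (χ : G → ℂ) 1 := by
  classical
  set Nz := Subgroup.normalizer ((P : Subgroup G) : Set G) with hNz
  haveI : Fintype Nz := Fintype.ofFinite _
  have hle : (P : Subgroup G) ≤ Nz := Subgroup.le_normalizer
  set Q := (P : Subgroup G).subgroupOf Nz with hQ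
  haveI hQn : Q.Normal := Subgroup.normal_in_normalizer
  haveI : Fintype Q := Fintype.ofFinite _
  let e : Q ≃* (P : Subgroup G) := Subgroup.subgroupOfEquivOfLe hle
  have hsum : ∑ n : Q, (fun n : Nz => (χ : G → ℂ) n) (n : Nz) = ∑ u : (P : Subgroup G), (χ : G → ℂ) u := by
    apply Fintype.sum_equiv e.toEquiv
    intro n
    rfl
  have h1 := IsIrrCharacter.const_on_normal_of_sum_ne_zero Q hirr (by rw [hsum]; exact hs)
  intro u hu
  have := h1 ⟨⟨u, hle hu⟩, hu⟩
  exact this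

theorem dvd_orderOf_of_mem_sylow (P : Sylow p G) (u : G) (hu : u ∈ (P : Subgroup G)) (hu1 : u ≠ 1) :
    p ∣ orderOf u := by
  have hp : p.Prime := Fact.out
  obtain ⟨k, hk⟩ := P.2 ⟨u, hu⟩
  have hk' : u ^ (p ^ k) = 1 := by
    have := congrArg Subtype.val hk
    simpa using this
  have hd : orderOf u ∣ p ^ k := orderOf_dvd_of_pow_eq_one hk'
  obtain ⟨j, hj, hjo⟩ := (Nat.dvd_prime_pow hp).mp hd
  rw [hjo]
  have hj0 : j ≠ 0 := by
    rintro rfl
    rw [pow_zero] at hjo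
    exact hu1 (orderOf_eq_one_iff.mp hjo)
  exact dvd_pow_self p hj0

/-- Step 2: the identity (*) -/
theorem star (hM : Cfsg.IsPModular p M) (P : Sylow p G) [Fintype (Cfsg.IrrCharacter G)]
    (χ₀ : Cfsg.IrrCharacter G) [DecidablePred (· ∈ Cfsg.blockOf M (χ₀ : G → ℂ))]
    [DecidablePred (fun χ : Cfsg.IrrCharacter G =>
      ∀ u ∈ (P : Subgroup G), (χ : G → ℂ) u = (χ : G → ℂ) 1)]
    (hirr : ∀ χ ∈ Cfsg.blockOf M (χ₀ : G → ℂ),
      Cfsg.IsIrrCharacter ↥(Subgroup.normalizer ((P : Subgroup G) : Set G))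
        (fun n : ↥(Subgroup.normalizer ((P : Subgroup G) : Set G)) => (χ : G → ℂ) n))
    (x : G) (hx : ¬ p ∣ orderOf x) :
    ∑ χ ∈ Finset.univ.filter (· ∈ Cfsg.blockOf M (χ₀ : G → ℂ)),
        (χ : G → ℂ) x * conj ((χ : G → ℂ) 1)
      = (Nat.card (P : Subgroup G) : ℂ) *
        ∑ χ ∈ (Finset.univ.filter (· ∈ Cfsg.blockOf M (χ₀ : G → ℂ))).filter
            (fun χ : Cfsg.IrrCharacter G => ∀ u ∈ (P : Subgroup G), (χ : G → ℂ) u = (χ : G → ℂ) 1),
          (χ : G → ℂ) x * conj ((χ : G → ℂ) 1) := by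
  set Bf := Finset.univ.filter (· ∈ Cfsg.blockOf M (χ₀ : G → ℂ)) with hBf
  haveI : Fintype (P : Subgroup G) := Fintype.ofFinite _
  have h1 : ∑ u : (P : Subgroup G), ∑ χ ∈ Bf, (χ : G → ℂ) x * conj ((χ : G → ℂ) (u : G))
      = ∑ χ ∈ Bf, (χ : G → ℂ) x * conj ((χ : G → ℂ) 1) := by
    rw [Fintype.sum_eq_single (1 : (P : Subgroup G))]
    · rfl
    · intro u hu
      apply weak_block_orthogonality_finset hM χ₀ x (u : G) hx
      apply dvd_orderOf_of_mem_sylow P (u : G) u.2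
      intro h
      apply hu
      exact Subtype.ext h
  have h3 : ∀ χ ∈ Bf, ∑ u : (P : Subgroup G), (χ : G → ℂ) (u : G)
      = if (∀ u ∈ (P : Subgroup G), (χ : G → ℂ) u = (χ : G → ℂ) 1)
          then (Nat.card (P : Subgroup G) : ℂ) * (χ : G → ℂ) 1 else 0 := by
    intro χ hχ
    have hχB : χ ∈ Cfsg.blockOf M (χ₀ : G → ℂ) := (Finset.mem_filter.mp hχ).2
    split_ifs with hc
    · rw [Finset.sum_congr rfl (fun (u : ↥(P : Subgroup G)) _ => hc (u : G) u.2), Finset.sum_const, Finset.card_univ,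
        ← Nat.card_eq_fintype_card, nsmul_eq_mul]
    · by_contra hne
      exact hc (const_on_sylow P χ (hirr χ hχB) hne)
  rw [← h1, Finset.sum_comm]
  have h4 : ∀ χ ∈ Bf, ∑ u : (P : Subgroup G), (χ : G → ℂ) x * conj ((χ : G → ℂ) (u : G))
      = if (∀ u ∈ (P : Subgroup G), (χ : G → ℂ) u = (χ : G → ℂ) 1)
          then (Nat.card (P : Subgroup G) : ℂ) * ((χ : G → ℂ) x * conj ((χ : G → ℂ) 1)) else 0 := by
    intro χ hχ
    rw [← Finset.mul_sum, ← map_sum, h3 χ hχ]
    split_ifs with hc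
    · rw [map_mul, Complex.conj_natCast]; ring
    · simp
  rw [Finset.sum_congr rfl h4, ← Finset.sum_filter, Finset.mul_sum]

/-- Step 3: `p`-regular elements of the normal closure of `P` lie in the kernel of the block. -/
theorem mem_blockKer_of_regular (hM : Cfsg.IsPModular p M) (P : Sylow p G)
    (χ₀ : Cfsg.IrrCharacter G)
    (hirr : ∀ χ ∈ Cfsg.blockOf M (χ₀ : G → ℂ),
      Cfsg.IsIrrCharacter ↥(Subgroup.normalizer ((P : Subgroup G) : Set G))
        (fun n : ↥(Subgroup.normalizer ((P : Subgroup G) : Set G)) => (χ : G → ℂ) n))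
    (x : G) (hxH : x ∈ Subgroup.normalClosure (((P : Subgroup G) : Set G)))
    (hx : ¬ p ∣ orderOf x) : x ∈ Cfsg.blockKer (Cfsg.blockOf M (χ₀ : G → ℂ)) := by
  classical
  haveI : Fintype (Cfsg.IrrCharacter G) := Fintype.ofFinite _
  have hp : p.Prime := Fact.out
  set Bf := Finset.univ.filter (· ∈ Cfsg.blockOf M (χ₀ : G → ℂ)) with hBf
  have hsx := star hM P χ₀ hirr x hx
  have hs1 := star hM P χ₀ hirr 1 (by rw [orderOf_one]; exact hp.one_lt.ne' ∘ Nat.dvd_one.mp)
  -- the right hand sides agree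
  have hR : ∑ χ ∈ Bf.filter (fun χ : Cfsg.IrrCharacter G => ∀ u ∈ (P : Subgroup G), (χ : G → ℂ) u = (χ : G → ℂ) 1),
        (χ : G → ℂ) x * conj ((χ : G → ℂ) 1)
      = ∑ χ ∈ Bf.filter (fun χ : Cfsg.IrrCharacter G => ∀ u ∈ (P : Subgroup G), (χ : G → ℂ) u = (χ : G → ℂ) 1),
        (χ : G → ℂ) 1 * conj ((χ : G → ℂ) 1) := by
    apply Finset.sum_congr rfl
    intro χ hχ
    have hc : ∀ u ∈ (P : Subgroup G), (χ : G → ℂ) u = (χ : G → ℂ) 1 := (Finset.mem_filter.mp hχ).2
    have hχc := IsIrrCharacter.isCharacter χ.2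
    haveI := charKer_normal hχc
    have hle : Subgroup.normalClosure (((P : Subgroup G) : Set G)) ≤ charKer hχc := by
      apply Subgroup.normalClosure_le_normal
      intro u hu
      exact (mem_charKer hχc u).mpr (hc u hu)
    have := (mem_charKer hχc x).mp (hle hxH)
    rw [this]
  rw [hR, ← hs1] at hsx
  -- hence the sum of `(χ 1 - χ x) * conj (χ 1)` vanishes
  have hzero : ∑ χ ∈ Bf, (((χ : G → ℂ) 1 - (χ : G → ℂ) x) * conj ((χ : G → ℂ) 1)).re = 0 := by
    rw [← Complex.re_sum]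
    have : ∑ χ ∈ Bf, ((χ : G → ℂ) 1 - (χ : G → ℂ) x) * conj ((χ : G → ℂ) 1) = 0 := by
      simp only [sub_mul, Finset.sum_sub_distrib]
      rw [hsx, sub_self]
    rw [this]
    simp
  have hterm : ∀ χ ∈ Bf, (((χ : G → ℂ) 1 - (χ : G → ℂ) x) * conj ((χ : G → ℂ) 1)).re
      = (Cfsg.charDegree (χ : G → ℂ) : ℝ) * ((Cfsg.charDegree (χ : G → ℂ) : ℝ) - ((χ : G → ℂ) x).re) := by
    intro χ _
    have hχc := IsIrrCharacter.isCharacter χ.2
    rw [IsCharacter.apply_one_eq_charDegree hχc, Complex.conj_natCast]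
    simp [Complex.mul_re]
    ring
  have hnn : ∀ χ ∈ Bf, 0 ≤ (((χ : G → ℂ) 1 - (χ : G → ℂ) x) * conj ((χ : G → ℂ) 1)).re := by
    intro χ hχ
    rw [hterm χ hχ]
    have hχc := IsIrrCharacter.isCharacter χ.2
    have h1 : ((χ : G → ℂ) x).re ≤ (Cfsg.charDegree (χ : G → ℂ) : ℝ) :=
      le_trans (Complex.re_le_norm _) (Cfsg.Agent.Lib.Helper3.Gagola.IsCharacter.norm_apply_le hχc x)
    apply mul_nonneg (Nat.cast_nonneg _)
    linarith
  have hall := (Finset.sum_eq_zero_iff_of_nonneg hnn).mp hzero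
  intro χ hχ
  have hχBf : χ ∈ Bf := Finset.mem_filter.mpr ⟨Finset.mem_univ _, hχ⟩
  have h0 := hall χ hχBf
  rw [hterm χ hχBf] at h0
  have hχc := IsIrrCharacter.isCharacter χ.2
  have hdpos : (0 : ℝ) < (Cfsg.charDegree (χ : G → ℂ) : ℝ) := by
    exact_mod_cast IsIrrCharacter.charDegree_pos χ.2
  have hre : ((χ : G → ℂ) x).re = (Cfsg.charDegree (χ : G → ℂ) : ℝ) := by
    rcases mul_eq_zero.mp h0 with h | h
    · exact absurd h hdpos.ne'
    · linarith
  have := Cfsg.Agent.Lib.Helper3.Gagola.eq_of_re_eq_of_norm_le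
    (Cfsg.Agent.Lib.Helper3.Gagola.IsCharacter.norm_apply_le hχc x) hre
  rw [this, IsCharacter.apply_one_eq_charDegree hχc]
  simp

end bwd

/-- backward direction -/
theorem bwd {G : Type*} [Group G] [Finite G] (p : ℕ) [Fact p.Prime] (M : Ideal Cfsg.AlgInt)
    (hM : Cfsg.IsPModular p M) (P : Sylow p G)
    (hirr : ∀ χ ∈ Cfsg.principalBlock M G,
      Cfsg.IsIrrCharacter ↥(Subgroup.normalizer ((P : Subgroup G) : Set G))
        (fun n : ↥(Subgroup.normalizer ((P : Subgroup G) : Set G)) => (χ : G → ℂ) n)) :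
    Cfsg.PLengthLE p 1 G := by
  classical
  haveI : Fintype G := Fintype.ofFinite G
  have hp : p.Prime := Fact.out
  set χ₀ : Cfsg.IrrCharacter G := oneIrr G with hχ₀
  have hB : Cfsg.principalBlock M G = Cfsg.blockOf M (χ₀ : G → ℂ) := rfl
  rw [hB] at hirr
  set H := Subgroup.normalClosure (((P : Subgroup G) : Set G)) with hH
  have hreg : ∀ x ∈ H, ¬ p ∣ orderOf x → x ∈ Cfsg.blockKer (Cfsg.blockOf M (χ₀ : G → ℂ)) :=
    fun x hx hxp => mem_blockKer_of_regular hM P χ₀ hirr x hx hxp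
  -- the kernel of the block as a subgroup
  set Kb : Subgroup G := ⨅ χ : ↥(Cfsg.blockOf M (χ₀ : G → ℂ)),
    charKer (IsIrrCharacter.isCharacter χ.1.2) with hKb
  have hmemK : ∀ x : G, x ∈ Kb ↔ x ∈ Cfsg.blockKer (Cfsg.blockOf M (χ₀ : G → ℂ)) := by
    intro x
    rw [hKb, Subgroup.mem_iInf]
    constructor
    · intro h χ hχ
      exact (mem_charKer _ x).mp (h ⟨χ, hχ⟩)
    · intro h χ
      exact (mem_charKer _ x).mpr (h χ.1 χ.2)
  haveI hKn : Kb.Normal := by
    rw [hKb]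
    apply Subgroup.normal_iInf_normal
    intro χ
    exact charKer_normal _
  have hKp : (Nat.card ↥Kb).Coprime p := by
    apply Nat.Coprime.symm
    rw [Nat.Prime.coprime_iff_not_dvd hp]
    intro hdvd
    obtain ⟨u, hu⟩ := exists_prime_orderOf_dvd_card' p hdvd
    have hu' : orderOf (u : G) = p := by rw [Subgroup.orderOf_coe]; exact hu
    have := not_dvd_orderOf_of_mem_blockKer hM χ₀ ((hmemK (u : G)).mp u.2)
    apply this
    rw [hu']
  haveI hHn : H.Normal := Subgroup.normalClosure_normal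
  set N := Kb ⊔ H with hN
  haveI hNn : N.Normal := by rw [hN]; infer_instance
  have hPH : (P : Subgroup G) ≤ H := Subgroup.le_normalClosure
  have hPN : (P : Subgroup G) ≤ N := le_trans hPH le_sup_right
  have hi : N.index.Coprime p := by
    apply Nat.Coprime.symm
    rw [Nat.Prime.coprime_iff_not_dvd hp]
    intro hdvd
    exact P.not_dvd_index (dvd_trans hdvd (Subgroup.index_dvd_of_le hPN))
  -- every element of `N` has a `p`-power lying in `Kb`
  have hpow : ∀ n ∈ N, ∃ j : ℕ, n ^ (p ^ j) ∈ Kb := by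
    intro n hn
    have hn' : n ∈ H ⊔ Kb := by rw [sup_comm]; exact hn
    rw [← SetLike.mem_coe, Subgroup.mul_normal] at hn'
    obtain ⟨h, hh, k, hk, rfl⟩ := hn'
    obtain ⟨v, hv, u, hu, hvu, hvp, j, hj⟩ := exists_pParts p hp h
    have hzH : Subgroup.zpowers h ≤ H := by
      rw [Subgroup.zpowers_le]; exact hh
    have hvK : v ∈ Kb := (hmemK v).mpr (hreg v (hzH hv) hvp)
    refine ⟨j, ?_⟩
    rw [← QuotientGroup.eq_one_iff (N := Kb)]
    have e1 : ((h * k : G) : G ⧸ Kb) = (u : G ⧸ Kb) := by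
      rw [QuotientGroup.mk_mul_of_mem h hk, hvu, QuotientGroup.mk_mul,
        (QuotientGroup.eq_one_iff v).mpr hvK, one_mul]
    rw [QuotientGroup.mk_pow, e1, ← QuotientGroup.mk_pow, ← hj, pow_orderOf_eq_one]
    rfl
  have hQp : IsPGroup p (↥N ⧸ Kb.subgroupOf N) := by
    intro q
    induction q using QuotientGroup.induction_on with
    | H n =>
      obtain ⟨j, hj⟩ := hpow (n : G) n.2
      refine ⟨j, ?_⟩
      rw [← QuotientGroup.mk_pow, QuotientGroup.eq_one_iff, Subgroup.mem_subgroupOf]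
      simpa using hj
  obtain ⟨a, ha⟩ := IsPGroup.iff_card.mp hQp
  have hcard : Nat.card ↥N = Nat.card ↥Kb * p ^ a := by
    rw [Subgroup.card_eq_card_quotient_mul_card_subgroup (Kb.subgroupOf N), ha,
      Cfsg.Agent.Lib.Lead.PLMain.card_subgroupOf_of_le (le_sup_left : Kb ≤ N), mul_comm]
  exact Cfsg.Agent.Lib.Lead.PLMain.plen_one_of_series p Kb N hKn hNn le_sup_left hKp ⟨a, hcard⟩ hi

/-- the full statement -/
theorem main {G : Type*} [Group G] [Finite G] (p : ℕ) [Fact p.Prime] (M : Ideal Cfsg.AlgInt)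
    (hM : Cfsg.IsPModular p M) (P : Sylow p G) :
    Cfsg.PLengthLE p 1 G ↔ ∀ χ ∈ Cfsg.principalBlock M G,
      Cfsg.IsIrrCharacter ↥(Subgroup.normalizer ((P : Subgroup G) : Set G))
        (fun n : ↥(Subgroup.normalizer ((P : Subgroup G) : Set G)) => (χ : G → ℂ) n) :=
  ⟨fun h χ hχ => fwd p M hM P h χ hχ, bwd p M hM P⟩

end Cfsg.Agent.Lib.Helper3.PL1B
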