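import Mathlib
import Cfsg.Prelude.Def_LocalStructure
import Cfsg.Agent.Lib.Helper3.JC1
import Cfsg.Agent.Lib.Helper7.PCoreSub
import Cfsg.Agent.Lib.Helper7.Subnormal
import Cfsg.Agent.Lib.Helper7.PMod
import Cfsg.Agent.Lib.Helper1.PResidual
import Cfsg.Agent.Lib.Helper1.SubnormalSylow

/-! General tools for the transitive-family theorem (p-minimal / p-irreducible groups):
Dedekind identities, centraliser modulo a normal subgroup, the "commutator homomorphism" lemma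
and the relative form of `IsMinimalOver`. -/
set_option autoImplicit false
open scoped commutatorElement

namespace Cfsg.Agent.Lib.Helper3.PM
open Cfsg Cfsg.Agent.Lib.Helper7 Cfsg.Agent.Lib.Helper3.JC

variable {H : Type*} [Group H]

/-- Dedekind: if `Q ≤ A ≤ F ⊔ Q` with `Q` normal then `A = (A ⊓ F) ⊔ Q`. -/
theorem dedekind_right {A F Q : Subgroup H} [Q.Normal] (hQA : Q ≤ A) (hA : A ≤ F ⊔ Q) :
    A = (A ⊓ F) ⊔ Q := by
  apply le_antisymm
  · intro a ha
    have h1 : a ∈ ((F ⊔ Q : Subgroup H) : Set H) := hA ha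
    rw [Subgroup.mul_normal] at h1
    obtain ⟨f, hf, q, hq, rfl⟩ := Set.mem_mul.1 h1
    have hfA : f ∈ A := by
      have h2 : f = f * q * q⁻¹ := by group
      rw [h2]
      exact A.mul_mem ha (A.inv_mem (hQA hq))
    exact Subgroup.mul_mem_sup (Subgroup.mem_inf.2 ⟨hfA, hf⟩) hq
  · exact sup_le inf_le_left hQA

/-- Dedekind: if `A ≤ F` and `Q` is normal then `F ⊓ (A ⊔ Q) = A ⊔ (F ⊓ Q)`. -/
theorem dedekind_left {A F Q : Subgroup H} [Q.Normal] (hAF : A ≤ F) :
    F ⊓ (A ⊔ Q) = A ⊔ (F ⊓ Q) := by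
  apply le_antisymm
  · intro y hy
    obtain ⟨hyF, hyAQ⟩ := Subgroup.mem_inf.1 hy
    have h1 : y ∈ ((A ⊔ Q : Subgroup H) : Set H) := hyAQ
    rw [Subgroup.mul_normal] at h1
    obtain ⟨a, ha, q, hq, rfl⟩ := Set.mem_mul.1 h1
    have hqF : q ∈ F := by
      have h2 : q = a⁻¹ * (a * q) := by group
      rw [h2]
      exact F.mul_mem (F.inv_mem (hAF ha)) hyF
    exact Subgroup.mul_mem_sup ha (Subgroup.mem_inf.2 ⟨hqF, hq⟩)
  · exact sup_le (le_inf hAF le_sup_left) (inf_le_inf_left _ le_sup_right)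

/-- The centraliser of `x` modulo the normal subgroup `Q`. -/
def cenQ (Q : Subgroup H) [Q.Normal] (x : H) : Subgroup H :=
  (Subgroup.centralizer {(QuotientGroup.mk' Q) x}).comap (QuotientGroup.mk' Q)

theorem mem_cenQ_iff_comm {Q : Subgroup H} [Q.Normal] {x a : H} :
    a ∈ cenQ Q x ↔ (QuotientGroup.mk' Q) x * (QuotientGroup.mk' Q) a =
      (QuotientGroup.mk' Q) a * (QuotientGroup.mk' Q) x := by
  rw [cenQ, Subgroup.mem_comap, Subgroup.mem_centralizer_singleton_iff, eq_comm]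

theorem mem_cenQ {Q : Subgroup H} [Q.Normal] {x a : H} : a ∈ cenQ Q x ↔ ⁅x, a⁆ ∈ Q := by
  rw [mem_cenQ_iff_comm, ← commutatorElement_eq_one_iff_mul_comm, ← map_commutatorElement]
  exact QuotientGroup.eq_one_iff _

theorem mem_cenQ_comm {Q : Subgroup H} [Q.Normal] {x a : H} : a ∈ cenQ Q x ↔ x ∈ cenQ Q a := by
  rw [mem_cenQ_iff_comm, mem_cenQ_iff_comm, eq_comm]

theorem le_cenQ (Q : Subgroup H) [Q.Normal] (x : H) : Q ≤ cenQ Q x := by
  intro q hq
  rw [mem_cenQ_iff_comm]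
  have h1 : (QuotientGroup.mk' Q) q = 1 := (QuotientGroup.eq_one_iff q).2 hq
  rw [h1, mul_one, one_mul]

theorem cenQ_eq_top_of_mem {Q : Subgroup H} [Q.Normal] {x : H} (hx : x ∈ Q) : cenQ Q x = ⊤ := by
  rw [eq_top_iff]
  intro a _
  rw [mem_cenQ_iff_comm]
  have h1 : (QuotientGroup.mk' Q) x = 1 := (QuotientGroup.eq_one_iff x).2 hx
  rw [h1, mul_one, one_mul]

theorem cenQ_mul_right {Q : Subgroup H} [Q.Normal] (x : H) {q : H} (hq : q ∈ Q) :
    cenQ Q (x * q) = cenQ Q x := by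
  have h1 : (QuotientGroup.mk' Q) q = 1 := (QuotientGroup.eq_one_iff q).2 hq
  unfold cenQ
  rw [map_mul, h1, mul_one]

/-- if `c = ⁅t, y⁆` commutes with `t` then `⁅t ^ n, y⁆ = c ^ n`. -/
theorem commutator_pow_of_commute {G : Type*} [Group G] (t y : G)
    (h : ⁅t, y⁆ * t = t * ⁅t, y⁆) (n : ℕ) : ⁅t ^ n, y⁆ = ⁅t, y⁆ ^ n := by
  have hc : Commute ⁅t, y⁆ t := h
  have key : ∀ n : ℕ, t ^ n * y * (t ^ n)⁻¹ = ⁅t, y⁆ ^ n * y := by
    intro n
    induction n with
    | zero => simp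
    | succ n ih =>
      have h1 : t * y * t⁻¹ = ⁅t, y⁆ * y := by
        rw [commutatorElement_def]; group
      have h2 : t ^ n * ⁅t, y⁆ * (t ^ n)⁻¹ = ⁅t, y⁆ := by
        have := (hc.pow_right n).eq
        rw [← this]; group
      calc t ^ (n + 1) * y * (t ^ (n + 1))⁻¹
          = t ^ n * (t * y * t⁻¹) * (t ^ n)⁻¹ := by rw [pow_succ]; group
        _ = t ^ n * (⁅t, y⁆ * y) * (t ^ n)⁻¹ := by rw [h1]
        _ = (t ^ n * ⁅t, y⁆ * (t ^ n)⁻¹) * (t ^ n * y * (t ^ n)⁻¹) := by group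
        _ = ⁅t, y⁆ * (⁅t, y⁆ ^ n * y) := by rw [h2, ih]
        _ = ⁅t, y⁆ ^ (n + 1) * y := by rw [pow_succ']; group
  rw [commutatorElement_def, key n]
  group

variable [Finite H] {p : ℕ} [Fact p.Prime]

/-- An element of a subnormal subgroup `A ⊇ Q` which is central in `A` modulo `Q` and a
`p`-element modulo `Q` lies in `Q`, when `Q` contains all subnormal `p`-subgroups. -/
theorem e4 {Q A : Subgroup H} [Q.Normal] (hQp : IsPGroup p Q)
    (hQ : ∀ C : Subgroup H, C.IsSubnormal → IsPGroup p C → C ≤ Q)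
    (hA : A.IsSubnormal) (hQA : Q ≤ A) {c : H} (hcA : c ∈ A) (hcen : A ≤ cenQ Q c)
    {k : ℕ} (hpow : c ^ (p ^ k) ∈ Q) : c ∈ Q := by
  obtain ⟨m, hm⟩ := hQp ⟨c ^ (p ^ k), hpow⟩
  have hc1 : c ^ (p ^ (k + m)) = 1 := by
    have h1 := congrArg Subtype.val hm
    rw [pow_add, pow_mul]
    simpa using h1
  have hz : IsPGroup p (Subgroup.zpowers c) := by
    rintro ⟨g, hg⟩
    obtain ⟨i, rfl⟩ := Subgroup.mem_zpowers_iff.1 hg
    refine ⟨k + m, Subtype.ext ?_⟩
    show (c ^ i) ^ (p ^ (k + m)) = 1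
    rw [← zpow_natCast, ← zpow_mul, mul_comm, zpow_mul, zpow_natCast, hc1, one_zpow]
  have hCp : IsPGroup p (Subgroup.zpowers c ⊔ Q : Subgroup H) := hz.to_sup_of_normal_right hQp
  have hCA : Subgroup.zpowers c ⊔ Q ≤ A :=
    sup_le (by rw [Subgroup.zpowers_le]; exact hcA) hQA
  have hnz : Nz A (Subgroup.zpowers c ⊔ Q) := by
    apply nz_of_map_le
    intro a ha
    rw [Subgroup.map_sup]
    apply sup_le
    · rw [MonoidHom.map_zpowers, Subgroup.zpowers_le]
      have h1 : (MulAut.conj a).toMonoidHom c = ⁅a, c⁆ * c := by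
        simp only [MulEquiv.toMonoidHom_eq_coe, MonoidHom.coe_coe, MulAut.conj_apply,
          commutatorElement_def]
        group
      rw [h1]
      have h2 : ⁅a, c⁆ ∈ Q := by
        have h3 : ⁅c, a⁆ ∈ Q := mem_cenQ.1 (hcen ha)
        rw [← commutatorElement_inv]
        exact Q.inv_mem h3
      exact Subgroup.mul_mem_sup h2 (Subgroup.mem_zpowers c) |> fun h => by
        rw [sup_comm]; exact h
    · refine le_trans ?_ le_sup_right
      rintro _ ⟨q, hq, rfl⟩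
      simp only [MulEquiv.toMonoidHom_eq_coe, MonoidHom.coe_coe, MulAut.conj_apply]
      exact ‹Q.Normal›.conj_mem q hq a
  have hCs : (Subgroup.zpowers c ⊔ Q).IsSubnormal :=
    Subgroup.IsSubnormal.step _ A hCA hA
      ((Subgroup.normal_subgroupOf_iff_le_normalizer hCA).mpr hnz.le_normalizer)
  exact hQ _ hCs hCp (Subgroup.mem_sup_left (Subgroup.mem_zpowers c))

/-- The commutator-homomorphism lemma: if `E ≤ A` is generated by `p`-elements, `A ⊇ Q` is subnormal,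
and all commutators `⁅e, y⁆` (`e ∈ E`) lie in `A` and are central in `A` modulo `Q`, then `y`
centralises `E` modulo `Q`. -/
theorem lemF {Q A E : Subgroup H} [Q.Normal] (hQp : IsPGroup p Q)
    (hQ : ∀ C : Subgroup H, C.IsSubnormal → IsPGroup p C → C ≤ Q)
    (hA : A.IsSubnormal) (hQA : Q ≤ A) (hEA : E ≤ A)
    (hgen : E ≤ Subgroup.closure {t : H | t ∈ E ∧ ∃ k : ℕ, t ^ (p ^ k) = 1}) (y : H)
    (h : ∀ e ∈ E, ⁅e, y⁆ ∈ A ∧ A ≤ cenQ Q ⁅e, y⁆) : E ≤ cenQ Q y := by
  refine hgen.trans ((Subgroup.closure_le _).2 ?_)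
  rintro t ⟨htE, k, hk⟩
  obtain ⟨hcA, hcen⟩ := h t htE
  have hct : t ∈ cenQ Q ⁅t, y⁆ := hcen (hEA htE)
  have hcomm := mem_cenQ_iff_comm.1 hct
  have hpow : ⁅t, y⁆ ^ (p ^ k) ∈ Q := by
    rw [← QuotientGroup.eq_one_iff]
    have h1 := commutator_pow_of_commute ((QuotientGroup.mk' Q) t) ((QuotientGroup.mk' Q) y)
      (by rw [← map_commutatorElement]; exact hcomm) (p ^ k)
    rw [← map_pow, hk, map_one, commutatorElement_one_left, ← map_commutatorElement,
      ← map_pow] at h1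
    exact h1.symm
  have hcQ : ⁅t, y⁆ ∈ Q := e4 hQp hQ hA hQA hcA hcen hpow
  show t ∈ cenQ Q y
  rw [mem_cenQ, ← commutatorElement_inv]
  exact Q.inv_mem hcQ

/-- Relative form of `IsMinimalOver` for a subgroup `T` of `↥E`. -/
theorem isMinimalOver_rel {E : Subgroup H} (T : Subgroup ↥E) (h : IsMinimalOver T) :
    (∀ N : Subgroup H, N ≤ E → T.map E.subtype ≤ N → E ≤ Subgroup.normalizer (N : Set H) → N = E) ∧
    ∃ M : Subgroup H, M ≤ E ∧ M ≠ E ∧ T.map E.subtype ≤ M ∧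
      ∀ X : Subgroup H, X ≤ E → T.map E.subtype ≤ X → X ≠ E → X ≤ M := by
  constructor
  · intro N hNE hTN hnorm
    have hn : (N.subgroupOf E).Normal := (Subgroup.normal_subgroupOf_iff_le_normalizer hNE).mpr hnorm
    have hTN' : T ≤ N.subgroupOf E := by
      intro t ht
      rw [Subgroup.mem_subgroupOf]
      exact hTN ⟨t, ht, rfl⟩
    have h1 : Subgroup.normalClosure (T : Set ↥E) ≤ N.subgroupOf E :=
      Subgroup.normalClosure_le_normal hTN'
    rw [h.1, top_le_iff, Subgroup.subgroupOf_eq_top] at h1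
    exact le_antisymm hNE h1
  · obtain ⟨M', ⟨hco, hTM⟩, huniq⟩ := h.2
    refine ⟨M'.map E.subtype, Subgroup.map_subtype_le _, ?_, Subgroup.map_mono hTM, ?_⟩
    · intro heq
      apply hco.1
      have h1 : (M'.map E.subtype).comap E.subtype = M' :=
        Subgroup.comap_map_eq_self_of_injective E.subtype_injective M'
      rw [← h1, heq, eq_top_iff]
      intro x _
      exact x.2
    · intro X hXE hTX hXne
      have hX' : X.subgroupOf E ≠ ⊤ := by
        rw [Ne, Subgroup.subgroupOf_eq_top]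
        intro hEX
        exact hXne (le_antisymm hXE hEX)
      obtain ⟨C, hC, hXC⟩ := (eq_top_or_exists_le_coatom (X.subgroupOf E)).resolve_left hX'
      have hTC : T ≤ C := by
        intro t ht
        apply hXC
        rw [Subgroup.mem_subgroupOf]
        exact hTX ⟨t, ht, rfl⟩
      have hCM : C = M' := huniq C ⟨hC, hTC⟩
      rw [← Subgroup.map_subgroupOf_eq_of_le hXE]
      exact Subgroup.map_mono (hCM ▸ hXC)

end Cfsg.Agent.Lib.Helper3.PM
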