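import Cfsg.Agent.Lib.Helper3.PM1

/-! The transitive family set-up and the `p`-minimal half of the theorem. -/
set_option autoImplicit false
open scoped commutatorElement

namespace Cfsg.Agent.Lib.Helper3.PM
open Cfsg Cfsg.Agent.Lib.Helper7 Cfsg.Agent.Lib.Helper3.JC

section conj
variable {H : Type*} [Group H]

local notation:max A "^^" g => Subgroup.map (MulEquiv.toMonoidHom (MulAut.conj g)) A

theorem cj_mul (A : Subgroup H) (g x : H) : (A ^^ (g * x)) = ((A ^^ x) ^^ g) := by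
  rw [Subgroup.map_map]
  congr 1
  ext y
  simp [MulAut.conj_apply, mul_assoc]

theorem cj_one (A : Subgroup H) : (A ^^ (1 : H)) = A := by
  ext y
  simp

theorem cj_inv_cj (A : Subgroup H) (g : H) : ((A ^^ g) ^^ g⁻¹) = A := by
  rw [← cj_mul, inv_mul_cancel, cj_one]

theorem cj_cj_inv (A : Subgroup H) (g : H) : ((A ^^ g⁻¹) ^^ g) = A := by
  rw [← cj_mul, mul_inv_cancel, cj_one]

theorem cj_inf (A B : Subgroup H) (g : H) : ((A ⊓ B) ^^ g) = (A ^^ g) ⊓ (B ^^ g) :=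
  Subgroup.map_inf A B _ (MulAut.conj g).injective

theorem cj_sup (A B : Subgroup H) (g : H) : ((A ⊔ B) ^^ g) = (A ^^ g) ⊔ (B ^^ g) :=
  Subgroup.map_sup A B _

theorem cj_normal (Q : Subgroup H) [hQ : Q.Normal] (g : H) : (Q ^^ g) = Q :=
  map_conj_eq_of_mem_normalizer (by
    rw [Subgroup.normalizer_eq_top_iff.mpr hQ]; exact Subgroup.mem_top g)

theorem cj_injective (g : H) {A B : Subgroup H} (h : (A ^^ g) = (B ^^ g)) : A = B := by
  rw [← cj_inv_cj A g, h, cj_inv_cj]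

theorem cj_le_iff (g : H) {A B : Subgroup H} : (A ^^ g) ≤ (B ^^ g) ↔ A ≤ B := by
  constructor
  · intro h
    have := Subgroup.map_mono (f := (MulAut.conj g⁻¹).toMonoidHom) h
    rwa [cj_inv_cj, cj_inv_cj] at this
  · exact fun h => Subgroup.map_mono h

theorem mem_cj {A : Subgroup H} {g z : H} : z ∈ (A ^^ g) ↔ g⁻¹ * z * g ∈ A :=
  mem_map_conj_iff A g z

theorem conj_mem_cj {A : Subgroup H} {g a : H} (ha : a ∈ A) : g * a * g⁻¹ ∈ (A ^^ g) := by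
  rw [mem_cj]
  have : g⁻¹ * (g * a * g⁻¹) * g = a := by group
  rw [this]; exact ha

/-- The largest proper subgroup of `E` containing `S ⊓ E` (when there is one). -/
def mOf (S E : Subgroup H) : Subgroup H := sSup {X | X ≤ E ∧ S ⊓ E ≤ X ∧ X ≠ E}

theorem mOf_le (S E : Subgroup H) : mOf S E ≤ E := sSup_le (fun _ hX => hX.1)

theorem le_mOf {S E X : Subgroup H} (h1 : X ≤ E) (h2 : S ⊓ E ≤ X) (h3 : X ≠ E) : X ≤ mOf S E :=
  le_sSup ⟨h1, h2, h3⟩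

theorem cj_mOf_le (S E : Subgroup H) (s : H) (hs : (S ^^ s) = S) :
    ((mOf S E) ^^ s) ≤ mOf S (E ^^ s) := by
  rw [Subgroup.map_le_iff_le_comap]
  apply sSup_le
  rintro X ⟨h1, h2, h3⟩
  rw [← Subgroup.map_le_iff_le_comap]
  apply le_mOf (Subgroup.map_mono h1)
  · have : S ⊓ (E ^^ s) = ((S ⊓ E) ^^ s) := by rw [cj_inf, hs]
    rw [this]
    exact Subgroup.map_mono h2
  · intro h
    exact h3 (cj_injective s h)

theorem cj_mOf (S E : Subgroup H) (s : H) (hs : (S ^^ s) = S) :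
    ((mOf S E) ^^ s) = mOf S (E ^^ s) := by
  apply le_antisymm (cj_mOf_le S E s hs)
  have hs' : (S ^^ s⁻¹) = S := by
    conv_lhs => rw [← hs]
    exact cj_inv_cj S s
  have h1 := cj_mOf_le S (E ^^ s) s⁻¹ hs'
  rw [cj_inv_cj] at h1
  have h2 := Subgroup.map_mono (f := (MulAut.conj s).toMonoidHom) h1
  rwa [cj_cj_inv] at h2

end conj

section fam
variable {H : Type*} [Group H] [Finite H] {p : ℕ} [Fact p.Prime] {𝒦 : Set (Subgroup H)}

local notation:max A "^^" g => Subgroup.map (MulEquiv.toMonoidHom (MulAut.conj g)) A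

/-- The hypotheses on the family `𝒦`. -/
structure Fam (p : ℕ) (𝒦 : Set (Subgroup H)) : Prop where
  ne : 𝒦.Nonempty
  inv : ∀ h : H, ∀ E ∈ 𝒦, E.map (MulAut.conj h).toMonoidHom ∈ 𝒦
  tr : ∀ E ∈ 𝒦, ∀ K ∈ 𝒦, ∃ h : H, K = E.map (MulAut.conj h).toMonoidHom
  res : pResidual p H ≤ sSup 𝒦
  norm : ∀ E ∈ 𝒦, sSup 𝒦 ⊔ pCore p H ≤
    Subgroup.normalizer ((E ⊔ pCore p H : Subgroup H) : Set H)

omit [Finite H] [Fact p.Prime] in
theorem Fam.sSup_normal (fam : Fam p 𝒦) : (sSup 𝒦).Normal := by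
  constructor
  intro n hn g
  have h1 : sSup 𝒦 ≤ (sSup 𝒦).comap (MulAut.conj g).toMonoidHom := by
    apply sSup_le
    intro E hE
    rw [← Subgroup.map_le_iff_le_comap]
    exact le_sSup (fam.inv g E hE)
  have h2 := h1 hn
  simpa [Subgroup.mem_comap] using h2

omit [Finite H] [Fact p.Prime] in
theorem Fam.sup_normal (fam : Fam p 𝒦) : (sSup 𝒦 ⊔ pCore p H).Normal := by
  have := fam.sSup_normal
  infer_instance

omit [Finite H] [Fact p.Prime] in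
theorem Fam.isSubnormal (fam : Fam p 𝒦) {E : Subgroup H} (hE : E ∈ 𝒦) :
    (E ⊔ pCore p H).IsSubnormal := by
  have hle : E ⊔ pCore p H ≤ sSup 𝒦 ⊔ pCore p H := sup_le_sup_right (le_sSup hE) _
  exact Subgroup.IsSubnormal.step _ _ hle fam.sup_normal.isSubnormal
    ((Subgroup.normal_subgroupOf_iff_le_normalizer hle).mpr (fam.norm E hE))

theorem Fam.sylow_sup (fam : Fam p 𝒦) (S : Sylow p H) : (S : Subgroup H) ⊔ sSup 𝒦 = ⊤ := by
  rw [eq_top_iff, ← Cfsg.Agent.Lib.Helper1.sylow_sup_pResidual_eq_top S]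
  exact sup_le_sup_left fam.res _

omit [Finite H] [Fact p.Prime] in
theorem Fam.cj_sup_eq (fam : Fam p 𝒦) {E : Subgroup H} (hE : E ∈ 𝒦) {r : H}
    (hr : r ∈ sSup 𝒦 ⊔ pCore p H) : ((E ⊔ pCore p H) ^^ r) = E ⊔ pCore p H :=
  map_conj_eq_of_mem_normalizer (fam.norm E hE hr)

/-- `S` is transitive on the subgroups `E ⊔ Q`. -/
theorem Fam.trans_sylow (fam : Fam p 𝒦) (S : Sylow p H) {E K : Subgroup H} (hE : E ∈ 𝒦)
    (hK : K ∈ 𝒦) : ∃ s ∈ (S : Subgroup H), K ⊔ pCore p H = ((E ⊔ pCore p H) ^^ s) := by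
  have := fam.sSup_normal
  obtain ⟨h, hKh⟩ := fam.tr E hE K hK
  have hh : h ∈ (((S : Subgroup H) ⊔ sSup 𝒦 : Subgroup H) : Set H) := by
    rw [fam.sylow_sup]; trivial
  rw [Subgroup.mul_normal] at hh
  obtain ⟨s, hs, r, hr, rfl⟩ := Set.mem_mul.1 hh
  refine ⟨s, hs, ?_⟩
  have h1 : ((E ⊔ pCore p H) ^^ (s * r)) = K ⊔ pCore p H := by
    rw [cj_sup, cj_normal (pCore p H), hKh]
  rw [← h1, cj_mul, fam.cj_sup_eq hE (Subgroup.mem_sup_left hr)]

omit [Finite H] [Fact p.Prime] in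
/-- `S ⊓ (E ⊔ Q) ≤ (S ⊓ E) ⊔ Q` when `Q ≤ S`. -/
theorem inf_sup_le {S E Q : Subgroup H} [Q.Normal] (hQS : Q ≤ S) :
    S ⊓ (E ⊔ Q) ≤ (S ⊓ E) ⊔ Q := by
  have h1 := dedekind_right (A := S ⊓ (E ⊔ Q)) (F := E) (Q := Q) (le_inf hQS le_sup_right)
    inf_le_right
  rw [h1]
  exact sup_le_sup_right (inf_le_inf_right E inf_le_left) Q

/-- A Sylow subgroup of `E ∈ 𝒦` whose image is `S ⊓ E`. -/
theorem Fam.exists_sylow_map_eq (fam : Fam p 𝒦) (S : Sylow p H) {E : Subgroup H} (hE : E ∈ 𝒦) :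
    ∃ T : Sylow p ↥E, (T : Subgroup ↥E).map E.subtype = (S : Subgroup H) ⊓ E := by
  have hQS : pCore p H ≤ (S : Subgroup H) := pCore_le_sylow S
  have hP₀ : IsPGroup p ((S : Subgroup H).subgroupOf E) :=
    S.isPGroup'.comap_of_injective E.subtype E.subtype_injective
  obtain ⟨T, hT⟩ := hP₀.exists_le_sylow
  refine ⟨T, ?_⟩
  have hSE : (S : Subgroup H) ⊓ E ≤ (T : Subgroup ↥E).map E.subtype := by
    intro x hx
    obtain ⟨hxS, hxE⟩ := Subgroup.mem_inf.1 hx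
    exact ⟨⟨x, hxE⟩, hT (Subgroup.mem_subgroupOf.2 hxS), rfl⟩
  obtain ⟨Q', hQ'⟩ := Cfsg.Agent.Lib.Helper1.subnormal_inf_sylow p (E ⊔ pCore p H)
    (fam.isSubnormal hE) S
  have hBp : IsPGroup p ((T : Subgroup ↥E).map E.subtype ⊔ pCore p H : Subgroup H) :=
    (T.isPGroup'.map _).to_sup_of_normal_right (pCore_isPGroup p H)
  have hBle : (T : Subgroup ↥E).map E.subtype ⊔ pCore p H ≤ E ⊔ pCore p H :=
    sup_le_sup_right (Subgroup.map_subtype_le _) _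
  have hQ'map : (Q' : Subgroup ↥(E ⊔ pCore p H)).map (E ⊔ pCore p H).subtype =
      (S : Subgroup H) ⊓ (E ⊔ pCore p H) := by
    rw [hQ', Subgroup.subgroupOf_map_subtype]
  have h1 : (Q' : Subgroup ↥(E ⊔ pCore p H)).map (E ⊔ pCore p H).subtype ≤
      (T : Subgroup ↥E).map E.subtype ⊔ pCore p H := by
    rw [hQ'map]
    exact (inf_sup_le hQS).trans (sup_le_sup_right hSE _)
  have h2 := le_sylow_map_subtype_of_le Q' hBp hBle h1
  rw [hQ'map] at h2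
  apply le_antisymm _ hSE
  exact le_inf ((le_sup_left.trans h2).trans inf_le_left) (Subgroup.map_subtype_le _)

/-- The data extracted from `p`-minimality of the members of `𝒦`. -/
structure MinData (S : Subgroup H) (𝒦 : Set (Subgroup H)) : Prop where
  nc : ∀ E ∈ 𝒦, ∀ N : Subgroup H, N ≤ E → S ⊓ E ≤ N →
    E ≤ Subgroup.normalizer (N : Set H) → N = E
  mne : ∀ E ∈ 𝒦, mOf S E ≠ E
  mle : ∀ E ∈ 𝒦, S ⊓ E ≤ mOf S E

theorem Fam.minData (fam : Fam p 𝒦)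
    (hmin : ∀ E ∈ 𝒦, ∀ T : Sylow p ↥E, IsMinimalOver (T : Subgroup ↥E)) (S : Sylow p H) :
    MinData (S : Subgroup H) 𝒦 := by
  have key : ∀ E ∈ 𝒦, (∀ N : Subgroup H, N ≤ E → (S : Subgroup H) ⊓ E ≤ N →
      E ≤ Subgroup.normalizer (N : Set H) → N = E) ∧ mOf (S : Subgroup H) E ≠ E ∧
      (S : Subgroup H) ⊓ E ≤ mOf (S : Subgroup H) E := by
    intro E hE
    obtain ⟨T, hT⟩ := fam.exists_sylow_map_eq S hE
    obtain ⟨h1, M, hME, hMne, hTM, hM⟩ := isMinimalOver_rel (T : Subgroup ↥E) (hmin E hE T)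
    rw [hT] at h1 hTM hM
    refine ⟨h1, ?_, ?_⟩
    · intro heq
      have h2 : mOf (S : Subgroup H) E ≤ M := sSup_le (fun X hX => hM X hX.1 hX.2.1 hX.2.2)
      rw [heq] at h2
      exact hMne (le_antisymm hME h2)
    · exact hTM.trans (le_mOf hME hTM hMne)
  exact ⟨fun E hE => (key E hE).1, fun E hE => (key E hE).2.1, fun E hE => (key E hE).2.2⟩

omit [Finite H] [Fact p.Prime] in
/-- `F` is not contained in `M_F Q`. -/
theorem MinData.not_le {S : Subgroup H} (md : MinData S 𝒦) {Q : Subgroup H} [Q.Normal]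
    (hQS : Q ≤ S) {F : Subgroup H} (hF : F ∈ 𝒦) : ¬ F ≤ mOf S F ⊔ Q := by
  intro h
  have h1 : F ⊓ (mOf S F ⊔ Q) = mOf S F ⊔ (F ⊓ Q) := dedekind_left (mOf_le S F)
  rw [inf_eq_left.2 h] at h1
  have h2 : F ⊓ Q ≤ mOf S F :=
    (le_inf (inf_le_right.trans hQS) inf_le_left).trans (md.mle F hF)
  rw [sup_eq_left.2 h2] at h1
  exact md.mne F hF h1.symm

omit [Finite H] [Fact p.Prime] in
/-- `M_E Q` depends only on `E Q`. -/
theorem MinData.mq_le {S : Subgroup H} (md : MinData S 𝒦) {Q : Subgroup H} [Q.Normal]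
    (hQS : Q ≤ S) {E F : Subgroup H} (hE : E ∈ 𝒦) (_hF : F ∈ 𝒦) (hEF : E ⊔ Q = F ⊔ Q) :
    mOf S E ⊔ Q ≤ mOf S F ⊔ Q := by
  have hY1 : Q ≤ mOf S E ⊔ Q := le_sup_right
  have hY2 : mOf S E ⊔ Q ≤ F ⊔ Q := hEF ▸ sup_le_sup_right (mOf_le S E) Q
  rw [dedekind_right hY1 hY2]
  apply sup_le_sup_right
  apply le_mOf inf_le_right
  · apply le_inf _ inf_le_right
    have h1 : S ⊓ F ≤ S ⊓ (E ⊔ Q) := by
      rw [hEF]; exact inf_le_inf_left S le_sup_left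
    exact (h1.trans (inf_sup_le hQS)).trans (sup_le_sup_right (md.mle E hE) Q)
  · intro h
    have h2 : F ≤ mOf S E ⊔ Q := inf_eq_right.1 h
    have h3 : E ≤ mOf S E ⊔ Q := by
      have : E ⊔ Q ≤ mOf S E ⊔ Q := hEF ▸ sup_le h2 le_sup_right
      exact le_sup_left.trans this
    exact md.not_le hQS hE h3

omit [Finite H] [Fact p.Prime] in
theorem MinData.mq_eq {S : Subgroup H} (md : MinData S 𝒦) {Q : Subgroup H} [Q.Normal]
    (hQS : Q ≤ S) {E F : Subgroup H} (hE : E ∈ 𝒦) (hF : F ∈ 𝒦) (hEF : E ⊔ Q = F ⊔ Q) :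
    mOf S E ⊔ Q = mOf S F ⊔ Q :=
  le_antisymm (md.mq_le hQS hE hF hEF) (md.mq_le hQS hF hE hEF.symm)

end fam

end Cfsg.Agent.Lib.Helper3.PM
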