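import Cfsg.Agent.Lib.Helper3.PM2

/-! The `p`-minimal half of the transitive-family theorem. -/
set_option autoImplicit false
open scoped commutatorElement

namespace Cfsg.Agent.Lib.Helper3.PM
open Cfsg Cfsg.Agent.Lib.Helper7 Cfsg.Agent.Lib.Helper3.JC

variable {H : Type*} [Group H] [Finite H] {p : ℕ} [Fact p.Prime] {𝒦 : Set (Subgroup H)}

local notation:max A "^^" g => Subgroup.map (MulEquiv.toMonoidHom (MulAut.conj g)) A

omit [Finite H] [Fact p.Prime] in
theorem MinData.inf_eq {S : Subgroup H} (md : MinData S 𝒦) {Q : Subgroup H} [Q.Normal]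
    (hQS : Q ≤ S) {F : Subgroup H} (hF : F ∈ 𝒦) : F ⊓ (mOf S F ⊔ Q) = mOf S F := by
  have h1 : F ⊓ (mOf S F ⊔ Q) = mOf S F ⊔ (F ⊓ Q) := dedekind_left (mOf_le S F)
  have h2 : F ⊓ Q ≤ mOf S F :=
    (le_inf (inf_le_right.trans hQS) inf_le_left).trans (md.mle F hF)
  rw [h1, sup_eq_left.2 h2]

theorem Fam.normalClosure_eq_top (fam : Fam p 𝒦) (S : Sylow p H)
    (md : MinData (S : Subgroup H) 𝒦) :
    Subgroup.normalClosure ((S : Subgroup H) : Set H) = ⊤ := by
  have hn : (Subgroup.normalClosure ((S : Subgroup H) : Set H)).Normal :=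
    Subgroup.normalClosure_normal
  have hSN : (S : Subgroup H) ≤ Subgroup.normalClosure ((S : Subgroup H) : Set H) :=
    Subgroup.le_normalClosure
  have hR : sSup 𝒦 ≤ Subgroup.normalClosure ((S : Subgroup H) : Set H) := by
    apply sSup_le
    intro E hE
    have h0 : Nz E (Subgroup.normalClosure ((S : Subgroup H) : Set H)) :=
      nz_of_le_normalizer (by rw [Subgroup.normalizer_eq_top_iff.mpr hn]; exact le_top)
    have h1 : Subgroup.normalClosure ((S : Subgroup H) : Set H) ⊓ E = E :=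
      md.nc E hE _ inf_le_right (inf_le_inf_right E hSN) (Nz.inf h0 (nz_self E)).le_normalizer
    exact inf_eq_right.1 h1
  rw [eq_top_iff, ← fam.sylow_sup S]
  exact sup_le hSN hR

/-- The candidate for the unique maximal subgroup over `S`. -/
def nZero (p : ℕ) (𝒦 : Set (Subgroup H)) (S : Subgroup H) : Subgroup H :=
  (sSup 𝒦 ⊔ pCore p H) ⊓
    ⨅ F ∈ 𝒦, Subgroup.normalizer ((mOf S F ⊔ pCore p H : Subgroup H) : Set H)

omit [Finite H] [Fact p.Prime] in
theorem mem_nZero {S : Subgroup H} {x : H} : x ∈ nZero p 𝒦 S ↔ x ∈ sSup 𝒦 ⊔ pCore p H ∧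
    ∀ F ∈ 𝒦, x ∈ Subgroup.normalizer ((mOf S F ⊔ pCore p H : Subgroup H) : Set H) := by
  unfold nZero
  simp only [Subgroup.mem_inf, Subgroup.mem_iInf]

theorem Fam.not_le_coatom (fam : Fam p 𝒦) (S : Sylow p H) {M₁ : Subgroup H}
    (hM₁ : IsCoatom M₁) (hS : (S : Subgroup H) ≤ M₁) {E : Subgroup H} (hE : E ∈ 𝒦) :
    ¬ E ≤ M₁ := by
  intro hEM
  have hQM : pCore p H ≤ M₁ := (pCore_le_sylow S).trans hS
  have hR : sSup 𝒦 ≤ M₁ := by
    apply sSup_le
    intro K hK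
    obtain ⟨s, hs, hKs⟩ := fam.trans_sylow S hE hK
    have h1 : K ⊔ pCore p H ≤ M₁ := by
      rw [hKs]
      rintro _ ⟨y, hy, rfl⟩
      have hyM : y ∈ M₁ := sup_le hEM hQM hy
      simp only [MulEquiv.toMonoidHom_eq_coe, MonoidHom.coe_coe, MulAut.conj_apply]
      exact M₁.mul_mem (M₁.mul_mem (hS hs) hyM) (M₁.inv_mem (hS hs))
    exact le_sup_left.trans h1
  apply hM₁.1
  rw [eq_top_iff, ← fam.sylow_sup S]
  exact sup_le hS hR

theorem Fam.coatom_le (fam : Fam p 𝒦) (S : Sylow p H) (md : MinData (S : Subgroup H) 𝒦)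
    {M₁ : Subgroup H} (hM₁ : IsCoatom M₁) (hS : (S : Subgroup H) ≤ M₁) :
    M₁ ≤ nZero p 𝒦 (S : Subgroup H) ⊔ (S : Subgroup H) := by
  have hQS : pCore p H ≤ (S : Subgroup H) := pCore_le_sylow S
  have hQM : pCore p H ≤ M₁ := hQS.trans hS
  have step2 : ∀ E ∈ 𝒦, M₁ ⊓ E ≤ mOf (S : Subgroup H) E := by
    intro E hE
    apply le_mOf inf_le_right (inf_le_inf_right E hS)
    intro h
    exact fam.not_le_coatom S hM₁ hS hE (inf_eq_right.1 h)
  have step3 : ∀ x ∈ M₁ ⊓ (sSup 𝒦 ⊔ pCore p H), ∀ F ∈ 𝒦,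
      ((mOf (S : Subgroup H) F ⊔ pCore p H) ^^ x) ≤ mOf (S : Subgroup H) F ⊔ pCore p H := by
    intro x hx F hF
    obtain ⟨hxM, hxR⟩ := Subgroup.mem_inf.1 hx
    have hYle : mOf (S : Subgroup H) F ⊔ pCore p H ≤ F ⊔ pCore p H :=
      sup_le_sup_right (mOf_le _ _) _
    have hYx_le : ((mOf (S : Subgroup H) F ⊔ pCore p H) ^^ x) ≤ F ⊔ pCore p H := by
      have h1 := Subgroup.map_mono (f := (MulAut.conj x).toMonoidHom) hYle
      rwa [fam.cj_sup_eq hF hxR] at h1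
    have hQYx : pCore p H ≤ ((mOf (S : Subgroup H) F ⊔ pCore p H) ^^ x) := by
      have h1 := Subgroup.map_mono (f := (MulAut.conj x).toMonoidHom)
        (le_sup_right : pCore p H ≤ mOf (S : Subgroup H) F ⊔ pCore p H)
      rwa [cj_normal (pCore p H)] at h1
    rw [dedekind_right hQYx hYx_le]
    apply sup_le_sup_right
    apply le_mOf inf_le_right
    · apply le_inf _ inf_le_right
      intro t ht
      obtain ⟨htS, htF⟩ := Subgroup.mem_inf.1 ht
      rw [mem_cj]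
      have h1 : x⁻¹ * t * x ∈ M₁ := M₁.mul_mem (M₁.mul_mem (M₁.inv_mem hxM) (hS htS)) hxM
      have h2 : x⁻¹ * t * x ∈ F ⊔ pCore p H := by
        have hx' : x⁻¹ ∈ Subgroup.normalizer ((F ⊔ pCore p H : Subgroup H) : Set H) :=
          Subgroup.inv_mem _ (fam.norm F hF hxR)
        have h3 := (Subgroup.mem_normalizer_iff.1 hx' t).1 (Subgroup.mem_sup_left htF)
        simpa using h3
      have h3 : M₁ ⊓ (F ⊔ pCore p H) ≤ mOf (S : Subgroup H) F ⊔ pCore p H := by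
        have h4 := dedekind_right (A := M₁ ⊓ (F ⊔ pCore p H)) (F := F) (Q := pCore p H)
          (le_inf hQM le_sup_right) inf_le_right
        rw [h4]
        apply sup_le_sup_right
        exact (inf_le_inf_right F inf_le_left).trans (step2 F hF)
      exact h3 (Subgroup.mem_inf.2 ⟨h1, h2⟩)
    · intro h
      have h2 : F ≤ ((mOf (S : Subgroup H) F ⊔ pCore p H) ^^ x) := inf_eq_right.1 h
      have h3 : F ⊔ pCore p H ≤ ((mOf (S : Subgroup H) F ⊔ pCore p H) ^^ x) := sup_le h2 hQYx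
      have h4 : ((F ⊔ pCore p H) ^^ x⁻¹) ≤ mOf (S : Subgroup H) F ⊔ pCore p H := by
        have h5 := Subgroup.map_mono (f := (MulAut.conj x⁻¹).toMonoidHom) h3
        rwa [cj_inv_cj] at h5
      rw [fam.cj_sup_eq hF (Subgroup.inv_mem _ hxR)] at h4
      exact md.not_le hQS hF (le_sup_left.trans h4)
  have hD : M₁ ⊓ (sSup 𝒦 ⊔ pCore p H) ≤ nZero p 𝒦 (S : Subgroup H) := by
    intro x hx
    rw [mem_nZero]
    refine ⟨(Subgroup.mem_inf.1 hx).2, ?_⟩
    intro F hF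
    have hnz : Nz (M₁ ⊓ (sSup 𝒦 ⊔ pCore p H)) (mOf (S : Subgroup H) F ⊔ pCore p H) :=
      nz_of_map_le (fun l hl => step3 l hl F hF)
    exact hnz.le_normalizer hx
  have := fam.sup_normal
  have h1 : M₁ ⊓ ((S : Subgroup H) ⊔ (sSup 𝒦 ⊔ pCore p H)) =
      (S : Subgroup H) ⊔ (M₁ ⊓ (sSup 𝒦 ⊔ pCore p H)) := dedekind_left hS
  have h2 : (S : Subgroup H) ⊔ (sSup 𝒦 ⊔ pCore p H) = ⊤ := by
    rw [eq_top_iff, ← fam.sylow_sup S]
    exact sup_le_sup_left le_sup_left _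
  rw [h2, inf_top_eq] at h1
  rw [h1, sup_comm]
  exact sup_le_sup_right hD _

omit [Finite H] [Fact p.Prime] in
theorem Fam.sylow_le_normalizer_nZero (fam : Fam p 𝒦) (S : Sylow p H) :
    (S : Subgroup H) ≤ Subgroup.normalizer ((nZero p 𝒦 (S : Subgroup H) : Subgroup H) : Set H) := by
  have hn := fam.sup_normal
  apply Nz.le_normalizer
  intro s hs n hn'
  rw [mem_nZero] at hn' ⊢
  refine ⟨hn.conj_mem n hn'.1 s, ?_⟩
  intro F hF
  have hF' : (F ^^ s⁻¹) ∈ 𝒦 := fam.inv s⁻¹ F hF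
  have h1 := conj_mem_normalizer_map _ s n (hn'.2 _ hF')
  have hsS : ((S : Subgroup H) ^^ s) = (S : Subgroup H) :=
    map_conj_eq_of_mem_normalizer (Subgroup.le_normalizer hs)
  rw [cj_sup, cj_normal (pCore p H), cj_mOf _ _ s hsS, cj_cj_inv] at h1
  exact h1

theorem Fam.nZero_sup_ne_top (fam : Fam p 𝒦) (S : Sylow p H) (md : MinData (S : Subgroup H) 𝒦) :
    nZero p 𝒦 (S : Subgroup H) ⊔ (S : Subgroup H) ≠ ⊤ := by
  intro htop
  have hQS : pCore p H ≤ (S : Subgroup H) := pCore_le_sylow S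
  obtain ⟨F, hF⟩ := fam.ne
  have hsS : ∀ s ∈ (S : Subgroup H), ((S : Subgroup H) ^^ s) = (S : Subgroup H) := fun s hs =>
    map_conj_eq_of_mem_normalizer (Subgroup.le_normalizer hs)
  have hFn : F ≤ Subgroup.normalizer ((mOf (S : Subgroup H) F ⊔ pCore p H : Subgroup H) : Set H) := by
    intro f hf
    have hf' : f ∈ ((nZero p 𝒦 (S : Subgroup H) ⊔ (S : Subgroup H) : Subgroup H) : Set H) := by
      rw [htop]; trivial
    rw [Subgroup.coe_mul_of_right_le_normalizer_left _ _ (fam.sylow_le_normalizer_nZero S)] at hf'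
    obtain ⟨n, hn, s, hs, rfl⟩ := Set.mem_mul.1 hf'
    have hn' := mem_nZero.1 hn
    apply Subgroup.mul_mem _ (hn'.2 F hF)
    -- `s` normalises `F ⊔ Q`
    have hsN : s ∈ Subgroup.normalizer ((F ⊔ pCore p H : Subgroup H) : Set H) := by
      have h1 : s = n⁻¹ * (n * s) := by group
      rw [h1]
      exact Subgroup.mul_mem _ (Subgroup.inv_mem _ (fam.norm F hF hn'.1))
        (Subgroup.le_normalizer (Subgroup.mem_sup_left hf))
    have hFs : (F ^^ s) ∈ 𝒦 := fam.inv s F hF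
    have h2 : (F ^^ s) ⊔ pCore p H = F ⊔ pCore p H := by
      have h3 := map_conj_eq_of_mem_normalizer hsN
      rw [cj_sup, cj_normal (pCore p H)] at h3
      exact h3
    have h4 : ((mOf (S : Subgroup H) F ⊔ pCore p H) ^^ s) = mOf (S : Subgroup H) F ⊔ pCore p H := by
      rw [cj_sup, cj_normal (pCore p H), cj_mOf _ _ s (hsS s hs)]
      exact md.mq_eq hQS hFs hF h2
    exact mem_normalizer_of_map_conj_le _ s h4.le
  have h5 : Nz F (F ⊓ (mOf (S : Subgroup H) F ⊔ pCore p H)) :=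
    Nz.inf (nz_self F) (nz_of_le_normalizer hFn)
  rw [md.inf_eq hQS hF] at h5
  exact md.mne F hF (md.nc F hF _ (mOf_le _ _) (md.mle F hF) h5.le_normalizer)

/-- The `p`-minimal half. -/
theorem Fam.isMinimalOver (fam : Fam p 𝒦)
    (hmin : ∀ E ∈ 𝒦, ∀ T : Sylow p ↥E, IsMinimalOver (T : Subgroup ↥E)) (S : Sylow p H) :
    IsMinimalOver (S : Subgroup H) := by
  have md := fam.minData hmin S
  refine ⟨fam.normalClosure_eq_top S md, ?_⟩
  have hne : (S : Subgroup H) ≠ ⊤ := by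
    intro h
    obtain ⟨F, hF⟩ := fam.ne
    have h1 : F ≤ mOf (S : Subgroup H) F :=
      le_trans (le_inf (by rw [h]; exact le_top) le_rfl) (md.mle F hF)
    exact md.mne F hF (le_antisymm (mOf_le _ _) h1)
  obtain ⟨M, hM, hSM⟩ := (eq_top_or_exists_le_coatom (S : Subgroup H)).resolve_left hne
  have key : ∀ M' : Subgroup H, IsCoatom M' → (S : Subgroup H) ≤ M' →
      M' = nZero p 𝒦 (S : Subgroup H) ⊔ (S : Subgroup H) := by
    intro M' hM' hSM'
    have h1 := fam.coatom_le S md hM' hSM'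
    rcases hM'.le_iff.1 h1 with h2 | h2
    · exact absurd h2 (fam.nZero_sup_ne_top S md)
    · exact h2.symm
  refine ⟨M, ⟨hM, hSM⟩, ?_⟩
  rintro M' ⟨hM', hSM'⟩
  rw [key M' hM' hSM', key M hM hSM]

end Cfsg.Agent.Lib.Helper3.PM
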