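import Cfsg.Agent.Lib.Helper3.PM2

/-! Data extracted from strong `p`-irreducibility of a member of the family. -/
set_option autoImplicit false
open scoped commutatorElement

namespace Cfsg.Agent.Lib.Helper3.PM
open Cfsg Cfsg.Agent.Lib.Helper7 Cfsg.Agent.Lib.Helper3.JC

variable {H : Type*} [Group H]

theorem commutator_mem_of_mem_normalizer_right {A : Subgroup H} {e x : H} (he : e ∈ A)
    (hx : x ∈ Subgroup.normalizer (A : Set H)) : ⁅e, x⁆ ∈ A := by
  have h1 : ⁅e, x⁆ = e * (x * e⁻¹ * x⁻¹) := by rw [commutatorElement_def]; group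
  rw [h1]
  exact A.mul_mem he ((Subgroup.mem_normalizer_iff.1 hx e⁻¹).1 (A.inv_mem he))

theorem commutator_mem_of_mem_normalizer_left {A : Subgroup H} {e x : H}
    (he : e ∈ Subgroup.normalizer (A : Set H)) (hx : x ∈ A) : ⁅e, x⁆ ∈ A := by
  have h1 : ⁅e, x⁆ = (e * x * e⁻¹) * x⁻¹ := by rw [commutatorElement_def]
  rw [h1]
  exact A.mul_mem ((Subgroup.mem_normalizer_iff.1 he x).1 hx) (A.inv_mem hx)

theorem mem_normalizer_of_normal {A : Subgroup H} (hA : A.Normal) (x : H) :
    x ∈ Subgroup.normalizer (A : Set H) := by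
  rw [Subgroup.normalizer_eq_top_iff.mpr hA]; exact Subgroup.mem_top x

variable [Finite H] {p : ℕ} [Fact p.Prime]

/-- The raw dichotomy, in the ambient group. -/
theorem raw_dich {E : Subgroup H} (h : IsStronglyPIrreducible p ↥E) (N : Subgroup H)
    (hNE : N ≤ E) (hn : E ≤ Subgroup.normalizer (N : Set H)) :
    ⁅N, E⁆ ≤ pCoreIn p E ∨ pResidualIn p E ≤ N := by
  have hn' : (N.subgroupOf E).Normal := (Subgroup.normal_subgroupOf_iff_le_normalizer hNE).mpr hn
  by_cases hc : ⁅N.subgroupOf E, (⊤ : Subgroup ↥E)⁆ ≤ pCore p ↥E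
  · left
    have h1 := Subgroup.map_mono (f := E.subtype) hc
    rw [Subgroup.map_commutator, Subgroup.map_subgroupOf_eq_of_le hNE, ← MonoidHom.range_eq_map,
      Subgroup.range_subtype] at h1
    exact h1
  · right
    have h1 := h.2 (N.subgroupOf E) hn' hc
    have h2 := Subgroup.map_mono (f := E.subtype) h1
    rw [Subgroup.map_subgroupOf_eq_of_le hNE] at h2
    exact h2

theorem sylow_map_sup_pResidualIn {E : Subgroup H} (T : Sylow p ↥E) :
    (T : Subgroup ↥E).map E.subtype ⊔ pResidualIn p E = E := by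
  have h2 := Cfsg.Agent.Lib.Helper1.sylow_sup_pResidual_eq_top T
  have h3 := congrArg (Subgroup.map E.subtype) h2
  rw [Subgroup.map_sup, ← MonoidHom.range_eq_map, Subgroup.range_subtype] at h3
  exact h3

/-- `O^p(E Q) ≤ O^p(E) Q` for a normal `p`-subgroup `Q`. -/
theorem pResidualIn_sup_le_sup {E Q : Subgroup H} [hQn : Q.Normal] :
    pResidualIn p (E ⊔ Q) ≤ pResidualIn p E ⊔ Q := by
  obtain ⟨T⟩ : Nonempty (Sylow p ↥E) := inferInstance
  have hTp : IsPGroup p ((T : Subgroup ↥E).map E.subtype) := T.isPGroup'.map _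
  have hTE : (T : Subgroup ↥E).map E.subtype ≤ E := Subgroup.map_subtype_le _
  have hnz : Nz ((T : Subgroup ↥E).map E.subtype) (pResidualIn p E ⊔ Q) :=
    Nz.sup_right ((nz_of_le_normalizer (le_normalizer_pResidualIn p E)).mono hTE)
      (fun l _ x hx => hQn.conj_mem x hx l)
  have h1 := pResidualIn_sup_le hTp hnz.le_normalizer
  rw [← sup_assoc, sylow_map_sup_pResidualIn T] at h1
  exact h1

/-- The data extracted from strong `p`-irreducibility of `E`, relative to `Q`. -/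
structure SPI (p : ℕ) (Q E : Subgroup H) [Q.Normal] : Prop where
  gen : E ≤ Subgroup.closure {t : H | t ∈ E ∧ ∃ k : ℕ, t ^ (p ^ k) = 1}
  dich : ∀ X : Subgroup H, Q ≤ X → E ≤ Subgroup.normalizer (X : Set H) →
    (∀ x ∈ X ⊓ (E ⊔ Q), E ⊔ Q ≤ cenQ Q x) ∨ pResidualIn p E ≤ X
  nclosed : ∃ T : Sylow p ↥E, ¬ (T : Subgroup ↥E).Normal

theorem spi_of {Q E : Subgroup H} [hQn : Q.Normal] (h : IsStronglyPIrreducible p ↥E)
    (hcore : pCoreIn p E ≤ Q) : SPI p Q E := by
  have hncl : ∃ T : Sylow p ↥E, ¬ (T : Subgroup ↥E).Normal := by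
    have h1 := h.1
    unfold IsPClosed at h1
    exact not_forall.1 h1
  refine ⟨?_, ?_, hncl⟩
  · -- generation by `p`-elements
    have hPE : Subgroup.closure {t : H | t ∈ E ∧ ∃ k : ℕ, t ^ (p ^ k) = 1} ≤ E :=
      (Subgroup.closure_le _).2 (fun t ht => ht.1)
    have hnz : Nz E (Subgroup.closure {t : H | t ∈ E ∧ ∃ k : ℕ, t ^ (p ^ k) = 1}) := by
      apply nz_of_map_le
      intro e he
      rw [MonoidHom.map_closure, Subgroup.closure_le]
      rintro _ ⟨t, ⟨htE, k, hk⟩, rfl⟩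
      apply Subgroup.subset_closure
      simp only [MulEquiv.toMonoidHom_eq_coe, MonoidHom.coe_coe, MulAut.conj_apply]
      refine ⟨E.mul_mem (E.mul_mem he htE) (E.inv_mem he), k, ?_⟩
      rw [conj_pow, hk]; group
    have hTle : ∀ T : Sylow p ↥E, (T : Subgroup ↥E).map E.subtype ≤
        Subgroup.closure {t : H | t ∈ E ∧ ∃ k : ℕ, t ^ (p ^ k) = 1} := by
      rintro T _ ⟨t, ht, rfl⟩
      apply Subgroup.subset_closure
      refine ⟨t.2, ?_⟩
      obtain ⟨k, hk⟩ := T.isPGroup' ⟨t, ht⟩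
      refine ⟨k, ?_⟩
      have h1 := congrArg (fun z : (T : Subgroup ↥E) => ((z : ↥E) : H)) hk
      simpa using h1
    rcases raw_dich h _ hPE hnz.le_normalizer with h1 | h1
    · exfalso
      apply h.1
      intro T
      constructor
      intro t ht e
      have htT' : (t : H) ∈ (T : Subgroup ↥E).map E.subtype := ⟨t, ht, rfl⟩
      have h2 : ⁅(t : H), (e : H)⁆ ∈ (T : Subgroup ↥E).map E.subtype :=
        pCoreIn_le_sylow T (h1 (Subgroup.commutator_mem_commutator (hTle T htT') e.2))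
      have h3 : (e : H) * t * (e : H)⁻¹ ∈ (T : Subgroup ↥E).map E.subtype := by
        have h4 : (e : H) * t * (e : H)⁻¹ = (⁅(t : H), (e : H)⁆)⁻¹ * t := by
          rw [commutatorElement_def]; group
        rw [h4]
        exact Subgroup.mul_mem _ (Subgroup.inv_mem _ h2) htT'
      obtain ⟨t', ht', ht'e⟩ := h3
      have h5 : t' = e * t * e⁻¹ := Subtype.ext (by simpa using ht'e)
      rw [← h5]; exact ht'
    · obtain ⟨T⟩ : Nonempty (Sylow p ↥E) := inferInstance
      calc E = (T : Subgroup ↥E).map E.subtype ⊔ pResidualIn p E :=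
            (sylow_map_sup_pResidualIn T).symm
        _ ≤ _ := sup_le (hTle T) h1
  · -- the dichotomy
    intro X hQX hEX
    have hnz : Nz E (X ⊓ E) := Nz.inf (nz_of_le_normalizer hEX) (nz_self E)
    rcases raw_dich h (X ⊓ E) inf_le_right hnz.le_normalizer with h1 | h1
    · left
      intro x hx
      obtain ⟨hxX, hxEQ⟩ := Subgroup.mem_inf.1 hx
      have h2 : x ∈ ((E ⊔ Q : Subgroup H) : Set H) := hxEQ
      rw [Subgroup.mul_normal] at h2
      obtain ⟨e₀, he₀, q, hq, rfl⟩ := Set.mem_mul.1 h2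
      have he₀X : e₀ ∈ X := by
        have h3 : e₀ = e₀ * q * q⁻¹ := by group
        rw [h3]
        exact X.mul_mem hxX (X.inv_mem (hQX hq))
      rw [cenQ_mul_right e₀ hq]
      apply sup_le _ (le_cenQ Q e₀)
      intro e he
      rw [mem_cenQ]
      exact hcore (h1 (Subgroup.commutator_mem_commutator (Subgroup.mem_inf.2 ⟨he₀X, he₀⟩) he))
    · right
      exact h1.trans inf_le_left

/-- `O_p(E) ≤ O_p(H)` for `E` in the family. -/
theorem Fam.pCoreIn_le_pCore {𝒦 : Set (Subgroup H)} (fam : Fam p 𝒦) {E : Subgroup H} (hE : E ∈ 𝒦) :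
    pCoreIn p E ≤ pCore p H := by
  have hQn : (pCore p H).Normal := pCore_normal p H
  have hCp : IsPGroup p (pCoreIn p E ⊔ pCore p H : Subgroup H) :=
    (pCoreIn_isPGroup p E).to_sup_of_normal_right (pCore_isPGroup p H)
  have hCle : pCoreIn p E ⊔ pCore p H ≤ E ⊔ pCore p H := sup_le_sup_right (Cfsg.Agent.Lib.Helper7.pCoreIn_le p E) _
  have hnzE : Nz E (pCoreIn p E ⊔ pCore p H) :=
    Nz.sup_right (nz_of_le_normalizer (le_normalizer_pCoreIn p E))
      (fun l _ x hx => hQn.conj_mem x hx l)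
  have hnzQ : Nz (pCore p H) (pCoreIn p E ⊔ pCore p H) :=
    (nz_self _).mono le_sup_right
  have hnz : Nz (E ⊔ pCore p H) (pCoreIn p E ⊔ pCore p H) := hnzE.sup_left hnzQ
  have hsub : (pCoreIn p E ⊔ pCore p H).IsSubnormal :=
    Subgroup.IsSubnormal.step _ _ hCle (fam.isSubnormal hE)
      ((Subgroup.normal_subgroupOf_iff_le_normalizer hCle).mpr hnz.le_normalizer)
  exact le_sup_left.trans (subnormal_pGroup_le_pCore hsub hCp)

end Cfsg.Agent.Lib.Helper3.PM
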