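import Cfsg.Agent.Lib.Helper3.PM4

/-! The strongly `p`-irreducible half of the transitive-family theorem. -/
set_option autoImplicit false
open scoped commutatorElement

namespace Cfsg.Agent.Lib.Helper3.PM
open Cfsg Cfsg.Agent.Lib.Helper7 Cfsg.Agent.Lib.Helper3.JC

variable {H : Type*} [Group H] [Finite H] {p : ℕ} [Fact p.Prime] {𝒦 : Set (Subgroup H)}

local notation:max A "^^" g => Subgroup.map (MulEquiv.toMonoidHom (MulAut.conj g)) A

theorem subnormal_le_pCore (C : Subgroup H) (hC : C.IsSubnormal) (hCp : IsPGroup p C) :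
    C ≤ pCore p H := subnormal_pGroup_le_pCore hC hCp

/-- `H` is not `p`-closed. -/
theorem Fam.not_isPClosed (fam : Fam p 𝒦) (hspi : ∀ E ∈ 𝒦, SPI p (pCore p H) E) :
    ¬ IsPClosed p H := by
  intro hcl
  obtain ⟨E, hE⟩ := fam.ne
  obtain ⟨T, hT⟩ := (hspi E hE).nclosed
  apply hT
  obtain ⟨S, hS⟩ := (T.isPGroup'.map E.subtype).exists_le_sylow
  have hSQ : (S : Subgroup H) ≤ pCore p H := le_pCore (hcl S) S.isPGroup'
  have hp : IsPGroup p ((pCore p H).subgroupOf E) :=
    (pCore_isPGroup p H).comap_of_injective E.subtype E.subtype_injective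
  have hle : (T : Subgroup ↥E) ≤ (pCore p H).subgroupOf E := by
    intro t ht
    rw [Subgroup.mem_subgroupOf]
    exact hSQ (hS ⟨t, ht, rfl⟩)
  have heq := sylow_eq_of_le_isPGroup T hp hle
  rw [← heq]
  exact (pCore_normal p H).subgroupOf E

/-- If the `p'`-elements of one member of the family lie in the normal subgroup `N`, then
`O^p(H) ≤ N`. -/
theorem Fam.pResidual_le_of (fam : Fam p 𝒦) (N : Subgroup H) [hNn : N.Normal]
    {E₀ : Subgroup H} (hE₀ : E₀ ∈ 𝒦) (h : pResidualIn p E₀ ≤ N ⊔ pCore p H) :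
    pResidual p H ≤ N := by
  have hQp : IsPGroup p (pCore p H) := pCore_isPGroup p H
  have hQN : pCore p H ≤ Subgroup.normalizer (N : Set H) := fun x _ =>
    mem_normalizer_of_normal hNn x
  have hall : ∀ K ∈ 𝒦, ∀ g ∈ K, (orderOf g).Coprime p → g ∈ N := by
    intro K hK g hg hc
    obtain ⟨h', hKh⟩ := fam.tr E₀ hE₀ K hK
    rw [hKh, mem_cj] at hg
    have hord : orderOf (h'⁻¹ * g * h') = orderOf g := by
      have := orderOf_conj_eq h'⁻¹ g
      simpa using this
    have h1 : h'⁻¹ * g * h' ∈ pCore p H ⊔ N := by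
      rw [sup_comm]
      exact h (mem_pResidualIn_of_coprime hg (hord ▸ hc))
    have h2 : h'⁻¹ * g * h' ∈ N := mem_of_mem_sup_of_coprime hQp hQN h1 (hord ▸ hc)
    have h3 := hNn.conj_mem _ h2 h'
    have h4 : h' * (h'⁻¹ * g * h') * h'⁻¹ = g := by group
    rwa [h4] at h3
  have hPMod : ∀ K : 𝒦, IsPMod p ((K : Subgroup H) ⊔ pCore p H) N := by
    rintro ⟨K, hK⟩
    apply isPMod_of_forall_coprime_mem
    intro x hx hc
    have h1 : x ∈ pResidualIn p K ⊔ pCore p H :=
      pResidualIn_sup_le_sup (mem_pResidualIn_of_coprime hx hc)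
    have h2 : pResidualIn p K ≤ N := by
      rw [pResidualIn_eq_closure, Subgroup.closure_le]
      rintro g ⟨hg, hgc⟩
      exact hall K hK g hg hgc
    have h3 : x ∈ pCore p H ⊔ N := by
      rw [sup_comm]
      exact sup_le_sup_right h2 _ h1
    exact mem_of_mem_sup_of_coprime hQp hQN h3 hc
  have hsup : IsPMod p (⨆ K : 𝒦, ((K : Subgroup H) ⊔ pCore p H)) N :=
    isPMod_iSup (K := sSup 𝒦 ⊔ pCore p H) (fun x _ => mem_normalizer_of_normal hNn x)
      (fun K : 𝒦 => (K : Subgroup H) ⊔ pCore p H)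
      (fun K => sup_le_sup_right (le_sSup K.2) _) (fun K => fam.norm K.1 K.2) hPMod
  have hR : sSup 𝒦 ≤ ⨆ K : 𝒦, ((K : Subgroup H) ⊔ pCore p H) := by
    apply sSup_le
    intro K hK
    exact le_sup_left.trans (le_iSup (fun K : 𝒦 => (K : Subgroup H) ⊔ pCore p H) ⟨K, hK⟩)
  unfold pResidual
  rw [Subgroup.closure_le]
  intro g hg
  have hg' : g ∈ pResidual p H := Subgroup.subset_closure hg
  exact hsup.mem_of_coprime (hR (fam.res hg')) hg

/-- Conclusion A: a normal subgroup not containing `O^p(H)` is `p`-closed. -/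
theorem Fam.isPClosed_of_not_le (fam : Fam p 𝒦) (hspi : ∀ E ∈ 𝒦, SPI p (pCore p H) E)
    (N : Subgroup H) [hNn : N.Normal] (hN : ¬ pResidual p H ≤ N) : IsPClosed p ↥N := by
  have hQn : (pCore p H).Normal := pCore_normal p H
  have hQp : IsPGroup p (pCore p H) := pCore_isPGroup p H
  have hRn := fam.sSup_normal
  have hRQn := fam.sup_normal
  have hNQn : (N ⊔ pCore p H).Normal := inferInstance
  have hQ := subnormal_le_pCore (H := H) (p := p)
  -- A1
  have A1 : ∀ E ∈ 𝒦, ∀ x ∈ (N ⊔ pCore p H) ⊓ (E ⊔ pCore p H),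
      E ⊔ pCore p H ≤ cenQ (pCore p H) x := by
    intro E hE
    rcases (hspi E hE).dich (N ⊔ pCore p H) le_sup_right
      (fun x _ => mem_normalizer_of_normal hNQn x) with h1 | h1
    · exact h1
    · exact absurd (fam.pResidual_le_of N hE h1) hN
  -- A2
  have A2 : ∀ x ∈ (N ⊔ pCore p H) ⊓ (sSup 𝒦 ⊔ pCore p H), ∀ E ∈ 𝒦,
      E ≤ cenQ (pCore p H) x := by
    intro x hx E hE
    obtain ⟨hxN, hxR⟩ := Subgroup.mem_inf.1 hx
    apply lemF hQp hQ (fam.isSubnormal hE) le_sup_right le_sup_left (hspi E hE).gen x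
    intro e he
    have hc1 : ⁅e, x⁆ ∈ E ⊔ pCore p H :=
      commutator_mem_of_mem_normalizer_right (Subgroup.mem_sup_left he) (fam.norm E hE hxR)
    have hc2 : ⁅e, x⁆ ∈ N ⊔ pCore p H :=
      commutator_mem_of_mem_normalizer_left (mem_normalizer_of_normal hNQn e) hxN
    exact ⟨hc1, A1 E hE _ (Subgroup.mem_inf.2 ⟨hc2, hc1⟩)⟩
  -- A3
  have A3 : ∀ x ∈ N ⊔ pCore p H, sSup 𝒦 ⊔ pCore p H ≤ cenQ (pCore p H) x := by
    intro x hxN
    apply sup_le _ (le_cenQ _ x)
    apply sSup_le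
    intro E hE
    have hER : E ≤ sSup 𝒦 ⊔ pCore p H := (le_sSup hE).trans le_sup_left
    apply lemF hQp hQ hRQn.isSubnormal le_sup_right hER (hspi E hE).gen x
    intro e he
    have hc1 : ⁅e, x⁆ ∈ sSup 𝒦 ⊔ pCore p H :=
      commutator_mem_of_mem_normalizer_right (hER he) (mem_normalizer_of_normal hRQn x)
    have hc2 : ⁅e, x⁆ ∈ N ⊔ pCore p H :=
      commutator_mem_of_mem_normalizer_left (mem_normalizer_of_normal hNQn e) hxN
    refine ⟨hc1, sup_le (sSup_le ?_) (le_cenQ _ _)⟩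
    intro F hF
    exact A2 _ (Subgroup.mem_inf.2 ⟨hc2, hc1⟩) F hF
  -- A4
  have A4 : ∀ P' : Subgroup H, P' ≤ N → IsPGroup p P' → P' ≤ pCore p H := by
    intro P' hP'N hP'p
    obtain ⟨S, hS⟩ := hP'p.exists_le_sylow
    have hQS : pCore p H ≤ (S : Subgroup H) := pCore_le_sylow S
    have hW : Subgroup.normalClosure (P' : Set H) ≤ (S : Subgroup H) := by
      unfold Subgroup.normalClosure
      rw [Subgroup.closure_le]
      intro a ha
      obtain ⟨b, hb, hba⟩ := Group.mem_conjugatesOfSet_iff.1 ha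
      obtain ⟨h, rfl⟩ := isConj_iff.1 hba
      have hh : h ∈ ((sSup 𝒦 ⊔ (S : Subgroup H) : Subgroup H) : Set H) := by
        rw [sup_comm, fam.sylow_sup]; trivial
      rw [Subgroup.normal_mul] at hh
      obtain ⟨r, hr, s, hs, rfl⟩ := Set.mem_mul.1 hh
      have hx'S : s * b * s⁻¹ ∈ (S : Subgroup H) :=
        Subgroup.mul_mem _ (Subgroup.mul_mem _ hs (hS hb)) (Subgroup.inv_mem _ hs)
      have hx'N : s * b * s⁻¹ ∈ N ⊔ pCore p H :=
        Subgroup.mem_sup_left (hNn.conj_mem b (hP'N hb) s)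
      have h1 : r ∈ cenQ (pCore p H) (s * b * s⁻¹) := A3 _ hx'N (Subgroup.mem_sup_left hr)
      have h2 : ⁅s * b * s⁻¹, r⁆ ∈ pCore p H := mem_cenQ.1 h1
      have h3 : r * s * b * (r * s)⁻¹ = (⁅s * b * s⁻¹, r⁆)⁻¹ * (s * b * s⁻¹) := by
        rw [commutatorElement_def]; group
      show r * s * b * (r * s)⁻¹ ∈ (S : Subgroup H)
      rw [h3]
      exact Subgroup.mul_mem _ (Subgroup.inv_mem _ (hQS h2)) hx'S
    have hWp : IsPGroup p (Subgroup.normalClosure (P' : Set H)) := S.isPGroup'.to_le hW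
    exact Subgroup.le_normalClosure.trans (le_pCore Subgroup.normalClosure_normal hWp)
  -- A5
  intro P
  have hP' : (P : Subgroup ↥N).map N.subtype ≤ pCore p H :=
    A4 _ (Subgroup.map_subtype_le _) (P.isPGroup'.map _)
  have hp : IsPGroup p ((pCore p H).subgroupOf N) :=
    hQp.comap_of_injective N.subtype N.subtype_injective
  have hle : (P : Subgroup ↥N) ≤ (pCore p H).subgroupOf N := by
    intro t ht
    rw [Subgroup.mem_subgroupOf]
    exact hP' ⟨t, ht, rfl⟩
  have heq := sylow_eq_of_le_isPGroup P hp hle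
  rw [← heq]
  exact hQn.subgroupOf N

/-- Conclusion B. -/
theorem Fam.residual_eq_or_commutator_le (fam : Fam p 𝒦)
    (hspi : ∀ E ∈ 𝒦, SPI p (pCore p H) E) {E K : Subgroup H} (hE : E ∈ 𝒦) (hK : K ∈ 𝒦) :
    pResidualIn p (E ⊔ pCore p H) = pResidualIn p (K ⊔ pCore p H) ∨ ⁅E, K⁆ ≤ pCore p H := by
  have hQn : (pCore p H).Normal := pCore_normal p H
  have hQp : IsPGroup p (pCore p H) := pCore_isPGroup p H
  have hQ := subnormal_le_pCore (H := H) (p := p)
  have hEK : E ≤ Subgroup.normalizer ((K ⊔ pCore p H : Subgroup H) : Set H) :=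
    ((le_sSup hE).trans le_sup_left).trans (fam.norm K hK)
  have hKE : K ≤ Subgroup.normalizer ((E ⊔ pCore p H : Subgroup H) : Set H) :=
    ((le_sSup hK).trans le_sup_left).trans (fam.norm E hE)
  have res_le : ∀ {E K : Subgroup H}, pResidualIn p E ≤ K ⊔ pCore p H →
      pResidualIn p (E ⊔ pCore p H) ≤ pResidualIn p (K ⊔ pCore p H) := by
    intro E K hle
    rw [pResidualIn_eq_closure p (E ⊔ pCore p H), Subgroup.closure_le]
    rintro g ⟨hg, hc⟩
    have h1 : g ∈ pResidualIn p E ⊔ pCore p H :=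
      pResidualIn_sup_le_sup (mem_pResidualIn_of_coprime hg hc)
    exact mem_pResidualIn_of_coprime (sup_le hle le_sup_right h1) hc
  rcases (hspi E hE).dich (K ⊔ pCore p H) le_sup_right hEK with aE | bE
  · right
    rw [Subgroup.commutator_le]
    intro e he k hk
    have h1 : E ≤ cenQ (pCore p H) k := by
      apply lemF hQp hQ (fam.isSubnormal hE) le_sup_right le_sup_left (hspi E hE).gen k
      intro e he
      have hc1 : ⁅e, k⁆ ∈ E ⊔ pCore p H :=
        commutator_mem_of_mem_normalizer_right (Subgroup.mem_sup_left he) (hKE hk)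
      have hc2 : ⁅e, k⁆ ∈ K ⊔ pCore p H :=
        commutator_mem_of_mem_normalizer_left (hEK he) (Subgroup.mem_sup_left hk)
      exact ⟨hc1, aE _ (Subgroup.mem_inf.2 ⟨hc2, hc1⟩)⟩
    have h2 : ⁅k, e⁆ ∈ pCore p H := mem_cenQ.1 (h1 he)
    rw [← commutatorElement_inv]
    exact Subgroup.inv_mem _ h2
  · rcases (hspi K hK).dich (E ⊔ pCore p H) le_sup_right hKE with aK | bK
    · right
      rw [Subgroup.commutator_le]
      intro e he k hk
      have h1 : K ≤ cenQ (pCore p H) e := by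
        apply lemF hQp hQ (fam.isSubnormal hK) le_sup_right le_sup_left (hspi K hK).gen e
        intro k hk
        have hc1 : ⁅k, e⁆ ∈ K ⊔ pCore p H :=
          commutator_mem_of_mem_normalizer_right (Subgroup.mem_sup_left hk) (hEK he)
        have hc2 : ⁅k, e⁆ ∈ E ⊔ pCore p H :=
          commutator_mem_of_mem_normalizer_left (hKE hk) (Subgroup.mem_sup_left he)
        exact ⟨hc1, aK _ (Subgroup.mem_inf.2 ⟨hc2, hc1⟩)⟩
      exact mem_cenQ.1 (h1 hk)
    · left
      exact le_antisymm (res_le bE) (res_le bK)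

end Cfsg.Agent.Lib.Helper3.PM
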