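import Mathlib
import Cfsg.Agent.S0143
import Cfsg.Agent.Lib.Helper1.FittingCentralizer
import Cfsg.Agent.Lib.Helper1.PLengthOne
import Cfsg.Agent.Lib.Helper1.PCore
import Cfsg.Agent.Lib.Helper1.Fitting
import Cfsg.Agent.Lib.Helper1.ComplementSystem
import Cfsg.Agent.Lib.Helper4.ConjClass

/-!
# `p`-regular class sizes are `p`-powers iff there is an abelian `p`-complement
-/

set_option autoImplicit false

namespace Cfsg.Agent.Lib.Helper3.PRegClass

open Cfsg.Agent.Lib

universe u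

/-- every `p`-regular element has a centralizer of `p`-power index -/
def Hyp (p : ℕ) (G : Type*) [Group G] : Prop :=
  ∀ x : G, (orderOf x).Coprime p → ∃ k : ℕ, (Subgroup.centralizer ({x} : Set G)).index = p ^ k

/-! ## From an abelian `p`-complement to class sizes -/

theorem conj_mem_aux (p : ℕ) (hp : p.Prime) : ∀ (n : ℕ) (M : Type u) [Group M] [Finite M]
    (H : Subgroup M), (∀ a ∈ H, ∀ b ∈ H, a * b = b * a) → (∃ k : ℕ, H.index = p ^ k) →
    ∀ x : M, orderOf x = n → (orderOf x).Coprime p → ∃ g : M, g * x * g⁻¹ ∈ H := by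
  intro n
  induction n using Nat.strong_induction_on with
  | _ n ih =>
  intro M _ _ H hab hidx x hxn hxp
  by_cases hx1 : x = 1
  · exact ⟨1, by rw [hx1]; simp⟩
  have hn1 : n ≠ 1 := by
    rw [← hxn]; exact fun h => hx1 (orderOf_eq_one_iff.mp h)
  have hnpos : 0 < n := by rw [← hxn]; exact orderOf_pos x
  obtain ⟨q, hq, hqn⟩ := Nat.exists_prime_and_dvd hn1
  have hqp : q ≠ p := by
    rintro rfl
    rw [hxn] at hxp
    exact hq.one_lt.ne' (Nat.Coprime.eq_one_of_dvd hxp.symm hqn)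
  obtain ⟨k, m, hqm, hnm⟩ := Nat.exists_eq_pow_mul_and_not_dvd hnpos.ne' q hq.ne_one
  have hmpos : 0 < m := by
    rcases Nat.eq_zero_or_pos m with h | h
    · rw [h, mul_zero] at hnm; exact absurd hnm hnpos.ne'
    · exact h
  have hk : k ≠ 0 := by
    rintro rfl
    rw [pow_zero, one_mul] at hnm
    exact hqm (hnm ▸ hqn)
  have hmn : m < n := by
    rw [hnm]
    have h2 : 2 ≤ q ^ k := by
      calc 2 ≤ q := hq.two_le
        _ = q ^ 1 := (pow_one q).symm
        _ ≤ q ^ k := Nat.pow_le_pow_right hq.pos (Nat.one_le_iff_ne_zero.mpr hk)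
    nlinarith
  have hcop : Nat.Coprime (q ^ k) m :=
    Nat.Coprime.pow_left k ((Nat.Prime.coprime_iff_not_dvd hq).mpr hqm)
  have hbez : (1 : ℤ) = ((q ^ k : ℕ) : ℤ) * Nat.gcdA (q ^ k) m + (m : ℤ) * Nat.gcdB (q ^ k) m := by
    have := Nat.gcd_eq_gcd_ab (q ^ k) m
    rw [hcop.gcd_eq_one] at this
    exact_mod_cast this
  obtain ⟨A, hA⟩ : ∃ A : ℤ, A = Nat.gcdA (q ^ k) m := ⟨_, rfl⟩
  obtain ⟨B, hB⟩ : ∃ B : ℤ, B = Nat.gcdB (q ^ k) m := ⟨_, rfl⟩
  rw [← hA, ← hB] at hbez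
  obtain ⟨y, hy⟩ : ∃ y : M, y = x ^ ((m : ℤ) * B) := ⟨_, rfl⟩
  obtain ⟨z, hz⟩ : ∃ z : M, z = x ^ (((q ^ k : ℕ) : ℤ) * A) := ⟨_, rfl⟩
  have hzy : z * y = x := by
    rw [hy, hz, ← zpow_add, ← hbez, zpow_one]
  have hxn' : x ^ n = 1 := by rw [← hxn]; exact pow_orderOf_eq_one x
  have hyq : y ^ (q ^ k) = 1 := by
    rw [hy, ← zpow_natCast, ← zpow_mul]
    have : (m : ℤ) * B * ((q ^ k : ℕ) : ℤ) = (n : ℤ) * B := by
      rw [hnm]; push_cast; ring
    rw [this, zpow_mul, zpow_natCast, hxn', one_zpow]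
  have hzm : z ^ m = 1 := by
    rw [hz, ← zpow_natCast, ← zpow_mul]
    have : ((q ^ k : ℕ) : ℤ) * A * (m : ℤ) = (n : ℤ) * A := by
      rw [hnm]; push_cast; ring
    rw [this, zpow_mul, zpow_natCast, hxn', one_zpow]
  have hcomm : Commute z y := by
    rw [hy, hz]; exact Commute.zpow_zpow_self x _ _
  -- conjugate `y` into `H`
  have hex : ∃ g : M, g * y * g⁻¹ ∈ H := by
    haveI : Fact q.Prime := ⟨hq⟩
    have hPG : IsPGroup q (Subgroup.zpowers y) := by
      have h1 : orderOf y ∣ q ^ k := orderOf_dvd_of_pow_eq_one hyq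
      obtain ⟨i, _, hi⟩ := (Nat.dvd_prime_pow hq).mp h1
      exact IsPGroup.of_card (n := i) (by rw [Nat.card_zpowers, hi])
    obtain ⟨j, hj⟩ := hidx
    have hnd : ¬ q ∣ Nat.card (M ⧸ H) := by
      rw [← Subgroup.index_eq_card, hj]
      intro h
      exact hqp ((Nat.prime_dvd_prime_iff_eq hq hp).mp (hq.dvd_of_dvd_pow h))
    obtain ⟨a, ha⟩ := hPG.nonempty_fixed_point_of_prime_not_dvd_card (M ⧸ H) hnd
    obtain ⟨g, rfl⟩ := QuotientGroup.mk_surjective a
    refine ⟨g⁻¹, ?_⟩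
    rw [MulAction.mem_fixedPoints] at ha
    have h1 : (y • (g : M ⧸ H) : M ⧸ H) = (g : M ⧸ H) := ha ⟨y, Subgroup.mem_zpowers y⟩
    rw [MulAction.Quotient.smul_mk, QuotientGroup.eq] at h1
    have h2 := H.inv_mem h1
    have h3 : ((y • g)⁻¹ * g)⁻¹ = g⁻¹ * y * g⁻¹⁻¹ := by
      rw [smul_eq_mul]; group
    rw [h3] at h2
    exact h2
  obtain ⟨g₀, hg₀⟩ := hex
  obtain ⟨y', hy'⟩ : ∃ y' : M, y' = g₀ * y * g₀⁻¹ := ⟨_, rfl⟩
  obtain ⟨z', hz'⟩ : ∃ z' : M, z' = g₀ * z * g₀⁻¹ := ⟨_, rfl⟩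
  have hy'H : y' ∈ H := hy' ▸ hg₀
  have hx' : g₀ * x * g₀⁻¹ = z' * y' := by rw [hz', hy', ← hzy]; group
  have hcomm' : z' * y' = y' * z' := by
    rw [hz', hy']
    have := hcomm.eq
    calc g₀ * z * g₀⁻¹ * (g₀ * y * g₀⁻¹) = g₀ * (z * y) * g₀⁻¹ := by group
      _ = g₀ * (y * z) * g₀⁻¹ := by rw [this]
      _ = g₀ * y * g₀⁻¹ * (g₀ * z * g₀⁻¹) := by group
  have hz'm : z' ^ m = 1 := by rw [hz', conj_pow, hzm]; group
  obtain ⟨C, hC⟩ : ∃ C : Subgroup M, C = Subgroup.centralizer ({y'} : Set M) := ⟨_, rfl⟩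
  have hCmem : ∀ a : M, a ∈ C ↔ a * y' = y' * a := fun a => by
    rw [hC, Subgroup.mem_centralizer_singleton_iff]
  have hHC : H ≤ C := by
    intro a ha
    rw [hCmem]
    exact hab a ha y' hy'H
  have hz'C : z' ∈ C := by
    rw [hCmem]; exact hcomm'
  have hord : orderOf (⟨z', hz'C⟩ : C) ∣ m := by
    apply orderOf_dvd_of_pow_eq_one
    apply Subtype.ext
    simpa using hz'm
  have hlt : orderOf (⟨z', hz'C⟩ : C) < n := lt_of_le_of_lt (Nat.le_of_dvd hmpos hord) hmn
  have hcopz : (orderOf (⟨z', hz'C⟩ : C)).Coprime p := by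
    apply Nat.Coprime.coprime_dvd_left hord
    apply Nat.Coprime.coprime_dvd_left (Dvd.intro_left _ hnm.symm)
    rw [← hxn]; exact hxp
  have hab' : ∀ a ∈ H.subgroupOf C, ∀ b ∈ H.subgroupOf C, a * b = b * a := by
    intro a ha b hb
    rw [Subgroup.mem_subgroupOf] at ha hb
    exact Subtype.ext (hab _ ha _ hb)
  have hidx' : ∃ i : ℕ, (H.subgroupOf C).index = p ^ i := by
    obtain ⟨j, hj⟩ := hidx
    have h1 : (H.subgroupOf C).index ∣ p ^ j := by
      rw [← hj]
      exact Dvd.intro _ (Subgroup.relIndex_mul_index hHC)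
    obtain ⟨i, _, hi⟩ := (Nat.dvd_prime_pow hp).mp h1
    exact ⟨i, hi⟩
  obtain ⟨c, hc⟩ := ih _ hlt C (H.subgroupOf C) hab' hidx' ⟨z', hz'C⟩ rfl hcopz
  refine ⟨(c : M) * g₀, ?_⟩
  rw [Subgroup.mem_subgroupOf] at hc
  have hc' : (c : M) * z' * (c : M)⁻¹ ∈ H := by simpa using hc
  have hcm : Commute (c : M) y' := (hCmem _).mp c.2
  have hcm' : Commute y' (c : M)⁻¹ := hcm.symm.inv_right
  have hfin : (c : M) * g₀ * x * ((c : M) * g₀)⁻¹ = (c : M) * z' * (c : M)⁻¹ * y' := by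
    calc (c : M) * g₀ * x * ((c : M) * g₀)⁻¹ = (c : M) * (g₀ * x * g₀⁻¹) * (c : M)⁻¹ := by group
      _ = (c : M) * (z' * y') * (c : M)⁻¹ := by rw [hx']
      _ = (c : M) * z' * (y' * (c : M)⁻¹) := by group
      _ = (c : M) * z' * ((c : M)⁻¹ * y') := by rw [hcm'.eq]
      _ = (c : M) * z' * (c : M)⁻¹ * y' := by group
  rw [hfin]
  exact H.mul_mem hc' hy'H

theorem exists_conj_mem {p : ℕ} (hp : p.Prime) {M : Type u} [Group M] [Finite M] (H : Subgroup M)
    (hab : ∀ a ∈ H, ∀ b ∈ H, a * b = b * a) (hidx : ∃ k : ℕ, H.index = p ^ k) (x : M)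
    (hx : (orderOf x).Coprime p) : ∃ g : M, g * x * g⁻¹ ∈ H :=
  conj_mem_aux p hp _ M H hab hidx x rfl hx

theorem index_centralizer_of_abelian_complement {p : ℕ} (hp : p.Prime) {M : Type u} [Group M]
    [Finite M] (H : Subgroup M) (hab : ∀ a ∈ H, ∀ b ∈ H, a * b = b * a)
    (hidx : ∃ k : ℕ, H.index = p ^ k) (x : M) (hx : (orderOf x).Coprime p) :
    ∃ k : ℕ, (Subgroup.centralizer ({x} : Set M)).index = p ^ k := by
  obtain ⟨g, hg⟩ := exists_conj_mem hp H hab hidx x hx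
  obtain ⟨j, hj⟩ := hidx
  have hle : H ≤ Subgroup.centralizer ({g * x * g⁻¹} : Set M) := fun a ha => by
    rw [Subgroup.mem_centralizer_singleton_iff]; exact hab a ha _ hg
  have h1 : (Subgroup.centralizer ({g * x * g⁻¹} : Set M)).index ∣ p ^ j :=
    hj ▸ Subgroup.index_dvd_of_le hle
  obtain ⟨i, _, hi⟩ := (Nat.dvd_prime_pow hp).mp h1
  refine ⟨i, ?_⟩
  have hmk : ConjClasses.mk (g * x * g⁻¹) = ConjClasses.mk x :=
    ConjClasses.mk_eq_mk_iff_isConj.mpr (isConj_iff.mpr ⟨g⁻¹, by group⟩)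
  rw [← Helper4.card_carrier_eq_index, ← hmk, Helper4.card_carrier_eq_index, hi]

/-! ## From class sizes to an abelian `p`-complement -/

theorem hyp_of_normal {p : ℕ} (hp : p.Prime) {G : Type u} [Group G] [Finite G] (N : Subgroup G)
    [hN : N.Normal] (h : Hyp p G) : Hyp p N := by
  intro x hx
  obtain ⟨k, hk⟩ := h (x : G) (by rwa [Subgroup.orderOf_coe])
  have heq : Subgroup.centralizer ({x} : Set N) =
      (Subgroup.centralizer ({(x : G)} : Set G)).subgroupOf N := by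
    ext y
    rw [Subgroup.mem_subgroupOf, Subgroup.mem_centralizer_singleton_iff,
      Subgroup.mem_centralizer_singleton_iff]
    constructor
    · intro h'
      have := congrArg Subtype.val h'
      simpa using this
    · intro h'
      apply Subtype.ext
      simpa using h'
  have hdvd : (Subgroup.centralizer ({(x : G)} : Set G)).relIndex N ∣ p ^ k := by
    rw [← hk]; exact Helper1.relIndex_dvd_index_of_normal_right _ N
  obtain ⟨i, _, hi⟩ := (Nat.dvd_prime_pow hp).mp hdvd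
  exact ⟨i, by rw [heq]; exact hi⟩

theorem exists_pow_preg {p : ℕ} (hp : p.Prime) {G : Type u} [Group G] [Finite G] (x : G) :
    ∃ a : ℕ, (orderOf (x ^ (p ^ a))).Coprime p := by
  obtain ⟨a, m, hpm, hxm⟩ := Nat.exists_eq_pow_mul_and_not_dvd (orderOf_pos x).ne' p hp.ne_one
  refine ⟨a, ?_⟩
  have h1 : orderOf (x ^ (p ^ a)) ∣ m := by
    apply orderOf_dvd_of_pow_eq_one
    rw [← pow_mul, ← hxm, pow_orderOf_eq_one]
  exact Nat.Coprime.coprime_dvd_left h1 ((Nat.Prime.coprime_iff_not_dvd hp).mpr hpm).symm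

/-- a `p`-regular element of a quotient lifts to a `p`-regular element -/
theorem exists_preg_lift {p : ℕ} (hp : p.Prime) {G : Type u} [Group G] [Finite G] (N : Subgroup G)
    [N.Normal] (xb : G ⧸ N) (hxb : (orderOf xb).Coprime p) :
    ∃ x : G, (orderOf x).Coprime p ∧ (QuotientGroup.mk x : G ⧸ N) = xb := by
  obtain ⟨x, rfl⟩ := QuotientGroup.mk_surjective xb
  obtain ⟨a, ha⟩ := exists_pow_preg hp x
  have hcop : (p ^ a).Coprime (orderOf (QuotientGroup.mk x : G ⧸ N)) :=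
    Nat.Coprime.pow_left a hxb.symm
  obtain ⟨j, hj⟩ := exists_pow_eq_self_of_coprime hcop
  refine ⟨(x ^ (p ^ a)) ^ j, ?_, ?_⟩
  · exact Nat.Coprime.coprime_dvd_left (orderOf_pow_dvd j) ha
  · rw [QuotientGroup.mk_pow, QuotientGroup.mk_pow]; exact hj

theorem hyp_quotient {p : ℕ} (hp : p.Prime) {G : Type u} [Group G] [Finite G] (N : Subgroup G)
    [N.Normal] (h : Hyp p G) : Hyp p (G ⧸ N) := by
  intro xb hxb
  obtain ⟨x, hx, rfl⟩ := exists_preg_lift hp N xb hxb
  obtain ⟨k, hk⟩ := h x hx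
  have hle : (Subgroup.centralizer ({x} : Set G)).map (QuotientGroup.mk' N) ≤
      Subgroup.centralizer ({(QuotientGroup.mk x : G ⧸ N)} : Set (G ⧸ N)) := by
    rintro _ ⟨y, hy, rfl⟩
    rw [Subgroup.mem_centralizer_singleton_iff]
    rw [SetLike.mem_coe, Subgroup.mem_centralizer_singleton_iff] at hy
    show (QuotientGroup.mk y : G ⧸ N) * QuotientGroup.mk x = QuotientGroup.mk x * QuotientGroup.mk y
    rw [← QuotientGroup.mk_mul, ← QuotientGroup.mk_mul, hy]
  have h1 : (Subgroup.centralizer ({(QuotientGroup.mk x : G ⧸ N)} : Set (G ⧸ N))).index ∣ p ^ k := by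
    rw [← hk]
    exact (Subgroup.index_dvd_of_le hle).trans
      (Subgroup.index_map_dvd _ (QuotientGroup.mk'_surjective N))
  obtain ⟨i, _, hi⟩ := (Nat.dvd_prime_pow hp).mp h1
  exact ⟨i, hi⟩

theorem isPGroup_of_no_preg {p : ℕ} (hp : p.Prime) {G : Type u} [Group G] [Finite G]
    (h : ∀ x : G, (orderOf x).Coprime p → x = 1) : IsPGroup p G := by
  intro x
  obtain ⟨a, ha⟩ := exists_pow_preg hp x
  exact ⟨a, h _ ha⟩

theorem card_quotient_lt {G : Type u} [Group G] [Finite G] (N : Subgroup G) [N.Normal]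
    (hbot : N ≠ ⊥) : Nat.card (G ⧸ N) < Nat.card G := by
  rw [← Subgroup.index_eq_card]
  have hmul := Subgroup.card_mul_index N
  have hN1 : 1 < Nat.card N := (Subgroup.one_lt_card_iff_ne_bot N).mpr hbot
  have hipos : 0 < N.index := Nat.pos_of_ne_zero Subgroup.index_ne_zero_of_finite
  nlinarith

theorem solvable_aux {p : ℕ} (hp : p.Prime) : ∀ (n : ℕ) (G : Type u) [Group G] [Finite G],
    Nat.card G = n → Hyp p G → Group.IsSolvable G := by
  intro n
  induction n using Nat.strong_induction_on with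
  | _ n ih =>
  intro G _ _ hcard hG
  haveI : Fact p.Prime := ⟨hp⟩
  by_cases hex : ∃ N : Subgroup G, N.Normal ∧ N ≠ ⊥ ∧ N ≠ ⊤
  · obtain ⟨N, hN, hbot, htop⟩ := hex
    haveI := hN
    have h1 : Nat.card N < n := by
      rw [← hcard]
      have hle : Nat.card N ≤ Nat.card G := Subgroup.card_le_card_group N
      rcases lt_or_eq_of_le hle with h | h
      · exact h
      · exact absurd ((Subgroup.card_eq_iff_eq_top N).mp h) htop
    have h2 : Nat.card (G ⧸ N) < n := by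
      rw [← hcard]; exact card_quotient_lt N hbot
    haveI s1 : Group.IsSolvable N := ih _ h1 N rfl (hyp_of_normal hp N hG)
    haveI s2 : Group.IsSolvable (G ⧸ N) := ih _ h2 (G ⧸ N) rfl (hyp_quotient hp N hG)
    exact Group.isSolvable_of_ker_le_range N.subtype (QuotientGroup.mk' N) (by
      rw [QuotientGroup.ker_mk', Subgroup.range_subtype])
  · by_cases hx : ∃ x : G, x ≠ 1 ∧ (orderOf x).Coprime p
    · obtain ⟨x, hx1, hxp⟩ := hx
      obtain ⟨k, hk⟩ := hG x hxp
      haveI : IsSimpleGroup G :=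
        { exists_pair_ne := ⟨x, 1, hx1⟩
          eq_bot_or_eq_top_of_normal := fun N hN => by
            by_contra hcon
            rw [not_or] at hcon
            exact hex ⟨N, hN, hcon.1, hcon.2⟩ }
      have hprime := Cfsg.Agent.S0143.result p k hp x hx1 hk
      haveI : Fact (Nat.card G).Prime := ⟨hprime⟩
      have hP : IsPGroup (Nat.card G) G := IsPGroup.of_card (n := 1) (pow_one _).symm
      haveI := hP.isNilpotent
      exact IsNilpotent.to_isSolvable
    · have hP : IsPGroup p G := isPGroup_of_no_preg hp (fun x hxp => by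
        by_contra h
        exact hx ⟨x, h, hxp⟩)
      haveI := hP.isNilpotent
      exact IsNilpotent.to_isSolvable

theorem solvable_of_hyp {p : ℕ} (hp : p.Prime) {G : Type u} [Group G] [Finite G] (h : Hyp p G) :
    Group.IsSolvable G := solvable_aux hp _ G rfl h

theorem le_centralizer_of_normal_coprime {p : ℕ} {G : Type u} [Group G] [Finite G]
    (h : Hyp p G) (W : Subgroup G) [W.Normal] (hW : (Nat.card W).Coprime p) (x : G)
    (hx : (orderOf x).Coprime p) : W ≤ Subgroup.centralizer ({x} : Set G) := by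
  obtain ⟨k, hk⟩ := h x hx
  rw [← Subgroup.relIndex_eq_one]
  have h1 : (Subgroup.centralizer ({x} : Set G)).relIndex W ∣ p ^ k := by
    rw [← hk]; exact Helper1.relIndex_dvd_index_of_normal_right _ W
  have h2 : (Subgroup.centralizer ({x} : Set G)).relIndex W ∣ Nat.card W :=
    Subgroup.relIndex_dvd_card _ _
  exact Nat.eq_one_of_dvd_coprimes (Nat.Coprime.pow_right k hW) h2 h1

theorem case_no_normal_p {p : ℕ} (hp : p.Prime) {G : Type u} [Group G] [Finite G]
    [Group.IsSolvable G] (h : Hyp p G)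
    (hno : ∀ N : Subgroup G, N.Normal → IsPGroup p N → N = ⊥) :
    ∃ H : Subgroup G, (∀ a ∈ H, ∀ b ∈ H, a * b = b * a) ∧ (Nat.card H).Coprime p ∧
      ∃ k : ℕ, H.index = p ^ k := by
  haveI : Fact p.Prime := ⟨hp⟩
  obtain ⟨W, hW⟩ : ∃ W : Subgroup G, W = Cfsg.pPrimeCore p G := ⟨_, rfl⟩
  haveI hWn : W.Normal := hW ▸ Helper1.pPrimeCore_normal p
  have hWc : (Nat.card W).Coprime p := hW ▸ Helper1.pPrimeCore_card_coprime p
  have hpc : Cfsg.pCore p G = ⊥ := hno _ (Helper1.pCore_normal p) (Helper1.pCore_isPGroup p)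
  have hFW : Cfsg.fittingSubgroup G ≤ W := by
    rw [Helper1.fittingSubgroup_eq_iSup_pCore]
    apply iSup_le
    intro q
    haveI : Fact (q : ℕ).Prime := ⟨q.2⟩
    by_cases hqp : (q : ℕ) = p
    · rw [hqp, hpc]; exact bot_le
    · rw [hW]; exact Helper1.pCore_le_pPrimeCore hqp
  have hreg : ∀ x : G, (orderOf x).Coprime p → x ∈ W := by
    intro x hx
    apply hFW
    apply Helper1.centralizer_fittingSubgroup_le
    rw [Subgroup.mem_centralizer_iff]
    intro f hf
    have := le_centralizer_of_normal_coprime h W hWc x hx (hFW hf)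
    rw [Subgroup.mem_centralizer_singleton_iff] at this
    exact this
  refine ⟨W, ?_, hWc, ?_⟩
  · intro a ha b hb
    have ha' : (orderOf a).Coprime p :=
      Nat.Coprime.coprime_dvd_left (Subgroup.orderOf_dvd_natCard W ha) hWc
    have := le_centralizer_of_normal_coprime h W hWc a ha' hb
    rw [Subgroup.mem_centralizer_singleton_iff] at this
    exact this.symm
  · have hP : IsPGroup p (G ⧸ W) := by
      intro xb
      obtain ⟨x, rfl⟩ := QuotientGroup.mk_surjective xb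
      obtain ⟨a, ha⟩ := exists_pow_preg hp x
      refine ⟨a, ?_⟩
      rw [← QuotientGroup.mk_pow, QuotientGroup.eq_one_iff]
      exact hreg _ ha
    obtain ⟨k, hk⟩ := IsPGroup.iff_card.mp hP
    exact ⟨k, by rw [Subgroup.index_eq_card, hk]⟩

theorem exists_abelian_complement_aux {p : ℕ} (hp : p.Prime) : ∀ (n : ℕ) (G : Type u) [Group G]
    [Finite G], Nat.card G = n → Group.IsSolvable G → Hyp p G →
    ∃ H : Subgroup G, (∀ a ∈ H, ∀ b ∈ H, a * b = b * a) ∧ (Nat.card H).Coprime p ∧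
      ∃ k : ℕ, H.index = p ^ k := by
  intro n
  induction n using Nat.strong_induction_on with
  | _ n ih =>
  intro G _ _ hcard hsol hG
  haveI : Fact p.Prime := ⟨hp⟩
  by_cases hno : ∀ N : Subgroup G, N.Normal → IsPGroup p N → N = ⊥
  · exact case_no_normal_p hp hG hno
  · push Not at hno
    obtain ⟨N, hN, hNp, hNbot⟩ := hno
    haveI := hN
    have h2 : Nat.card (G ⧸ N) < n := by
      rw [← hcard]; exact card_quotient_lt N hNbot
    obtain ⟨Hb, hHab, hHc, kb, hkb⟩ :=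
      ih _ h2 (G ⧸ N) rfl inferInstance (hyp_quotient hp N hG)
    obtain ⟨K, hK⟩ : ∃ K : Subgroup G, K = Hb.comap (QuotientGroup.mk' N) := ⟨_, rfl⟩
    have hKmem : ∀ g : G, g ∈ K ↔ (QuotientGroup.mk' N) g ∈ Hb := fun g => by
      rw [hK, Subgroup.mem_comap]
    have hmemK : ∀ x : K, (QuotientGroup.mk (x : G) : G ⧸ N) ∈ Hb := fun x => (hKmem _).mp x.2
    have hNK : N ≤ K := by
      intro x hx
      rw [hK, Subgroup.mem_comap]
      have : (QuotientGroup.mk' N) x = 1 := (QuotientGroup.eq_one_iff x).mpr hx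
      rw [this]; exact Hb.one_mem
    obtain ⟨a, ha⟩ := IsPGroup.iff_card.mp hNp
    have hcN' : Nat.card (N.subgroupOf K) = p ^ a := by
      rw [← ha]; exact Helper1.card_subgroupOf_of_le hNK
    have hiN' : (N.subgroupOf K).index = Nat.card Hb := by
      have h3 := Subgroup.relIndex_ker K (QuotientGroup.mk' N)
      rw [QuotientGroup.ker_mk'] at h3
      show N.relIndex K = Nat.card Hb
      rw [h3, hK, Subgroup.map_comap_eq_self_of_surjective (QuotientGroup.mk'_surjective N)]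
    have hcop : (Nat.card (N.subgroupOf K)).Coprime (N.subgroupOf K).index := by
      rw [hcN', hiN']
      exact Nat.Coprime.pow_left a hHc.symm
    obtain ⟨H₀, hH₀⟩ := Subgroup.exists_right_complement'_of_coprime hcop
    have hcardH : Nat.card (H₀.map K.subtype) = Nat.card Hb := by
      rw [Subgroup.card_subtype]
      have h3 := hH₀.card_mul_card
      have h4 := Subgroup.card_mul_index (N.subgroupOf K)
      rw [hiN'] at h4
      have hpos : 0 < Nat.card (N.subgroupOf K) := Nat.card_pos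
      exact Nat.eq_of_mul_eq_mul_left hpos (h3.trans h4.symm)
    refine ⟨H₀.map K.subtype, ?_, ?_, ?_⟩
    · rintro _ ⟨a₀, ha₀, rfl⟩ _ ⟨b₀, hb₀, rfl⟩
      have hc1 : a₀ * b₀ * a₀⁻¹ * b₀⁻¹ ∈ N.subgroupOf K := by
        rw [Subgroup.mem_subgroupOf, ← QuotientGroup.eq_one_iff]
        have hcm := hHab _ (hmemK a₀) _ (hmemK b₀)
        simp only [Subgroup.coe_mul, Subgroup.coe_inv, QuotientGroup.mk_mul, QuotientGroup.mk_inv]
        rw [hcm]
        group
      have hc2 : a₀ * b₀ * a₀⁻¹ * b₀⁻¹ ∈ H₀ :=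
        H₀.mul_mem (H₀.mul_mem (H₀.mul_mem ha₀ hb₀) (H₀.inv_mem ha₀)) (H₀.inv_mem hb₀)
      have hc : a₀ * b₀ * a₀⁻¹ * b₀⁻¹ = 1 := Subgroup.disjoint_def.mp hH₀.disjoint hc1 hc2
      have hab₀ : a₀ * b₀ = b₀ * a₀ := by
        calc a₀ * b₀ = (a₀ * b₀ * a₀⁻¹ * b₀⁻¹) * (b₀ * a₀) := by group
          _ = b₀ * a₀ := by rw [hc, one_mul]
      show K.subtype a₀ * K.subtype b₀ = K.subtype b₀ * K.subtype a₀
      rw [← map_mul, ← map_mul, hab₀]
    · rw [hcardH]; exact hHc
    · refine ⟨a + kb, ?_⟩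
      rw [Subgroup.index_map_subtype]
      have hH₀idx : H₀.index = p ^ a := by
        rw [hH₀.index_eq_card, hcN']
      have hKidx : K.index = p ^ kb := by
        rw [hK, Subgroup.index_comap_of_surjective _ (QuotientGroup.mk'_surjective N), hkb]
      rw [hH₀idx, hKidx, pow_add]

theorem exists_abelian_complement {p : ℕ} (hp : p.Prime) {G : Type u} [Group G] [Finite G]
    (h : Hyp p G) :
    ∃ H : Subgroup G, (∀ a ∈ H, ∀ b ∈ H, a * b = b * a) ∧ (Nat.card H).Coprime p ∧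
      ∃ k : ℕ, H.index = p ^ k :=
  exists_abelian_complement_aux hp _ G rfl (solvable_of_hyp hp h) h

end Cfsg.Agent.Lib.Helper3.PRegClass
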