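import Mathlib
import Cfsg.Agent.Lib.Helper5.OrthPrime.OReal2

/-!
# Groups of isometries of bilinear forms: products, similarities, embedding (for S2474)
-/

set_option autoImplicit false
set_option maxHeartbeats 4000000
set_option maxRecDepth 100000
set_option linter.unusedVariables false
set_option linter.unusedSectionVars false
set_option linter.style.haveILetI false
set_option linter.deprecated false

namespace Cfsg.Agent.Lib.Helper3.Pg

open Module
open Cfsg.Agent.Lib.Helper5.OrthPrime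

universe u

section iso
variable {F : Type u} [Field F] {V : Type u} [AddCommGroup V] [Module F V]

/-- the group of linear automorphisms preserving a bilinear form -/
def isoGrp (B : V →ₗ[F] V →ₗ[F] F) : Subgroup (V ≃ₗ[F] V) where
  carrier := {g | ∀ x y, B (g x) (g y) = B x y}
  one_mem' := fun x y => rfl
  mul_mem' := by
    intro a b ha hb x y
    rw [LinearEquiv.mul_apply, LinearEquiv.mul_apply, ha, hb]
  inv_mem' := by
    intro a ha x y
    have h := ha (a⁻¹ x) (a⁻¹ y)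
    have e : ∀ v, a (a⁻¹ v) = v := fun v => by
      rw [← LinearEquiv.mul_apply, mul_inv_cancel]; rfl
    rw [e, e] at h
    exact h.symm

theorem mem_isoGrp (B : V →ₗ[F] V →ₗ[F] F) (g : V ≃ₗ[F] V) :
    g ∈ isoGrp B ↔ ∀ x y, B (g x) (g y) = B x y := Iff.rfl

theorem pow_apply_fix (g : V ≃ₗ[F] V) (v : V) (h : g v = v) (k : ℕ) : (g ^ k) v = v := by
  induction k with
  | zero => rfl
  | succ k ih => rw [pow_succ, LinearEquiv.mul_apply, h, ih]

end iso

section prod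
variable {F : Type u} [Field F] {V₁ : Type u} [AddCommGroup V₁] [Module F V₁]
  {V₂ : Type u} [AddCommGroup V₂] [Module F V₂]

/-- the product embedding -/
def prodHom (B₁ : V₁ →ₗ[F] V₁ →ₗ[F] F) (B₂ : V₂ →ₗ[F] V₂ →ₗ[F] F) :
    ↥(isoGrp B₁) × ↥(isoGrp B₂) →* ↥(isoGrp (prodForm B₁ B₂)) where
  toFun z := ⟨LinearEquiv.prodCongr z.1.1 z.2.1, by
    intro x y
    rw [prodForm_apply, prodForm_apply]
    show B₁ (z.1.1 x.1) (z.1.1 y.1) + B₂ (z.2.1 x.2) (z.2.1 y.2) = _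
    rw [z.1.2, z.2.2]⟩
  map_one' := by
    apply Subtype.ext
    apply LinearEquiv.ext
    intro x
    rfl
  map_mul' := by
    intro a b
    apply Subtype.ext
    apply LinearEquiv.ext
    intro x
    rfl

theorem prodHom_apply (B₁ : V₁ →ₗ[F] V₁ →ₗ[F] F) (B₂ : V₂ →ₗ[F] V₂ →ₗ[F] F)
    (z : ↥(isoGrp B₁) × ↥(isoGrp B₂)) (x : V₁ × V₂) :
    (prodHom B₁ B₂ z).1 x = (z.1.1 x.1, z.2.1 x.2) := rfl

theorem prodHom_injective (B₁ : V₁ →ₗ[F] V₁ →ₗ[F] F) (B₂ : V₂ →ₗ[F] V₂ →ₗ[F] F) :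
    Function.Injective (prodHom B₁ B₂) := by
  intro a b h
  have h1 : ∀ x, (prodHom B₁ B₂ a).1 x = (prodHom B₁ B₂ b).1 x := fun x => by rw [h]
  apply Prod.ext
  · apply Subtype.ext
    apply LinearEquiv.ext
    intro x
    have := h1 (x, 0)
    rw [prodHom_apply, prodHom_apply] at this
    exact congrArg Prod.fst this
  · apply Subtype.ext
    apply LinearEquiv.ext
    intro x
    have := h1 (0, x)
    rw [prodHom_apply, prodHom_apply] at this
    exact congrArg Prod.snd this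

/-- transport along a similarity -/
def simHom {B₁ : V₁ →ₗ[F] V₁ →ₗ[F] F} {B₂ : V₂ →ₗ[F] V₂ →ₗ[F] F} (φ : V₁ ≃ₗ[F] V₂) (c : F)
    (hφ : ∀ x y, B₂ (φ x) (φ y) = c * B₁ x y) : ↥(isoGrp B₁) →* ↥(isoGrp B₂) where
  toFun g := ⟨(φ.symm.trans g.1).trans φ, by
    intro x y
    show B₂ (φ (g.1 (φ.symm x))) (φ (g.1 (φ.symm y))) = _
    rw [hφ, g.2, ← hφ, φ.apply_symm_apply, φ.apply_symm_apply]⟩
  map_one' := by
    apply Subtype.ext
    apply LinearEquiv.ext
    intro x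
    show φ (φ.symm x) = x
    exact φ.apply_symm_apply x
  map_mul' := by
    intro a b
    apply Subtype.ext
    apply LinearEquiv.ext
    intro x
    show φ (a.1 (b.1 (φ.symm x))) = φ (a.1 (φ.symm (φ (b.1 (φ.symm x)))))
    rw [φ.symm_apply_apply]

theorem simHom_apply {B₁ : V₁ →ₗ[F] V₁ →ₗ[F] F} {B₂ : V₂ →ₗ[F] V₂ →ₗ[F] F} (φ : V₁ ≃ₗ[F] V₂)
    (c : F) (hφ : ∀ x y, B₂ (φ x) (φ y) = c * B₁ x y) (g : ↥(isoGrp B₁)) (x : V₂) :
    (simHom φ c hφ g).1 x = φ (g.1 (φ.symm x)) := rfl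

theorem simHom_injective {B₁ : V₁ →ₗ[F] V₁ →ₗ[F] F} {B₂ : V₂ →ₗ[F] V₂ →ₗ[F] F}
    (φ : V₁ ≃ₗ[F] V₂) (c : F) (hφ : ∀ x y, B₂ (φ x) (φ y) = c * B₁ x y) :
    Function.Injective (simHom φ c hφ) := by
  intro a b h
  apply Subtype.ext
  apply LinearEquiv.ext
  intro x
  have h1 : (simHom φ c hφ a).1 (φ x) = (simHom φ c hφ b).1 (φ x) := by rw [h]
  rw [simHom_apply, simHom_apply, φ.symm_apply_apply] at h1
  exact φ.injective h1

end prod

section sim
variable {F : Type u} [Field F]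

theorem isDisc_smul {V : Type u} [AddCommGroup V] [Module F V] {B : V →ₗ[F] V →ₗ[F] F} {d : F}
    (h : IsDisc B d) (c : F) : IsDisc (c • B) (c ^ finrank F V * d) := by
  obtain ⟨n, b, rfl⟩ := h
  refine ⟨n, b, ?_⟩
  have hn : finrank F V = n := by rw [Module.finrank_eq_card_basis b, Fintype.card_fin]
  have h1 : gram (c • B) b = c • gram B b := by
    ext i j
    rw [gram_apply, Matrix.smul_apply, gram_apply]
    rfl
  rw [h1, Matrix.det_smul, Fintype.card_fin, hn]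

/-- in odd dimension any two nondegenerate symmetric forms over a finite field are similar -/
theorem exists_similarity [Fintype F] (h2 : (2 : F) ≠ 0) (hodd : Fintype.card F % 2 = 1)
    {V₁ V₂ : Type u} [AddCommGroup V₁] [Module F V₁] [FiniteDimensional F V₁]
    [AddCommGroup V₂] [Module F V₂] [FiniteDimensional F V₂]
    (B₁ : V₁ →ₗ[F] V₁ →ₗ[F] F) (B₂ : V₂ →ₗ[F] V₂ →ₗ[F] F) (hS₁ : Symm B₁) (hS₂ : Symm B₂)
    (hN₁ : Nondeg B₁) (hN₂ : Nondeg B₂) (hdim : finrank F V₁ = finrank F V₂)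
    (hoddim : Odd (finrank F V₁)) :
    ∃ (φ : V₁ ≃ₗ[F] V₂) (c : F), c ≠ 0 ∧ ∀ x y, B₂ (φ x) (φ y) = c * B₁ x y := by
  obtain ⟨d₁, hd₁⟩ := exists_isDisc B₁
  obtain ⟨d₂, hd₂⟩ := exists_isDisc B₂
  have hd₁0 := hd₁.ne_zero hS₁ hN₁
  have hd₂0 := hd₂.ne_zero hS₂ hN₂
  obtain ⟨j, hj⟩ := hoddim
  obtain ⟨c, hcdef⟩ : ∃ c : F, c = d₂ / d₁ := ⟨_, rfl⟩
  have hc : c ≠ 0 := by rw [hcdef]; exact div_ne_zero hd₂0 hd₁0
  have happ : ∀ x y, (c • B₁) x y = c * B₁ x y := fun x y => rfl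
  have hS : Symm (c • B₁) := fun x y => by rw [happ, happ, hS₁ x y]
  have hN : Nondeg (c • B₁) := by
    intro v hv
    apply hN₁
    intro w
    have := hv w
    rw [happ] at this
    exact (mul_eq_zero.1 this).resolve_left hc
  have hD := isDisc_smul hd₁ c
  obtain ⟨φ, hφ⟩ := exists_isometry_of_isDisc h2 hodd (c • B₁) B₂ hS hS₂ hN hN₂ hdim hD hd₂
    ⟨(c ^ j)⁻¹, inv_ne_zero (pow_ne_zero _ hc), by
      have hcd : c * d₁ = d₂ := by rw [hcdef]; field_simp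
      have hcj : c ^ j * (c ^ j)⁻¹ = 1 := mul_inv_cancel₀ (pow_ne_zero _ hc)
      rw [hj]
      calc d₂ = c * d₁ * (c ^ j * (c ^ j)⁻¹) ^ 2 := by rw [hcj, one_pow, mul_one, hcd]
        _ = c ^ (2 * j + 1) * d₁ * ((c ^ j)⁻¹) ^ 2 := by ring⟩
  exact ⟨φ, c, hc, fun x y => by rw [hφ, happ]⟩

/-- **Embedding.** isometries of an orthogonal sum embed in the isometry group of any
nondegenerate symmetric space of the same odd dimension -/
theorem exists_embed [Fintype F] (h2 : (2 : F) ≠ 0) (hodd : Fintype.card F % 2 = 1)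
    {W U Vt : Type u} [AddCommGroup W] [Module F W] [FiniteDimensional F W]
    [AddCommGroup U] [Module F U] [FiniteDimensional F U]
    [AddCommGroup Vt] [Module F Vt] [FiniteDimensional F Vt]
    (β : W →ₗ[F] W →ₗ[F] F) (γ : U →ₗ[F] U →ₗ[F] F) (Bt : Vt →ₗ[F] Vt →ₗ[F] F)
    (hSβ : Symm β) (hNβ : Nondeg β) (hSγ : Symm γ) (hNγ : Nondeg γ) (hSt : Symm Bt)
    (hNt : Nondeg Bt) (hdim : finrank F Vt = finrank F W + finrank F U)
    (hoddim : Odd (finrank F Vt)) :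
    ∃ Ψ : ↥(isoGrp β) × ↥(isoGrp γ) →* ↥(isoGrp Bt), Function.Injective Ψ := by
  have hd : finrank F (W × U) = finrank F Vt := by rw [Module.finrank_prod, hdim]
  obtain ⟨φ, c, hc, hφ⟩ := exists_similarity h2 hodd (prodForm β γ) Bt (prodForm_symm hSβ hSγ) hSt
    (prodForm_nondeg hNβ hNγ) hNt hd (by rw [hd]; exact hoddim)
  exact ⟨(simHom φ c hφ).comp (prodHom β γ),
    (simHom_injective φ c hφ).comp (prodHom_injective β γ)⟩

end sim

end Cfsg.Agent.Lib.Helper3.Pg
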