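import Mathlib
import Cfsg.Agent.Lib.Helper3.Pg1
import Cfsg.Agent.Lib.Helper1.BcF

/-!
# The transfer form of a symplectic isometry of odd order and restriction to `[V, y]` (for S2474)
-/

set_option autoImplicit false
set_option maxHeartbeats 4000000
set_option maxRecDepth 100000
set_option linter.unusedVariables false
set_option linter.unusedSectionVars false
set_option linter.style.haveILetI false
set_option linter.deprecated false

namespace Cfsg.Agent.Lib.Helper3.Pg

open Module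
open Cfsg.Agent.Lib.Helper5.OrthPrime

universe u

section dec
variable {F : Type u} [Field F] {V : Type u} [AddCommGroup V] [Module F V]
variable (ω : V →ₗ[F] V →ₗ[F] F) (y : V ≃ₗ[F] V)

theorem skew_of_alt (halt : ∀ x, ω x x = 0) (u v : V) : ω u v = - ω v u := by
  have h := halt (u + v)
  simp only [map_add, LinearMap.add_apply, halt, zero_add, add_zero] at h
  linear_combination h

theorem inv_eq_symm (v : V) : (y⁻¹ : V ≃ₗ[F] V) v = y.symm v := rfl

theorem iso_left (hy : y ∈ isoGrp ω) (u v : V) : ω (y u) v = ω u (y.symm v) := by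
  have := hy u (y.symm v)
  rw [y.apply_symm_apply] at this
  exact this

theorem iso_symm_left (hy : y ∈ isoGrp ω) (u v : V) : ω (y.symm u) v = ω u (y v) := by
  have := hy (y.symm u) v
  rw [y.apply_symm_apply] at this
  exact this.symm

/-- the transfer form `ω(u, (y - y⁻¹) v)` -/
def sigma : V →ₗ[F] V →ₗ[F] F := ω.compl₂ ((y : V →ₗ[F] V) - (y.symm : V →ₗ[F] V))

theorem sigma_apply (u v : V) : sigma ω y u v = ω u (y v) - ω u (y.symm v) := by
  unfold sigma
  rw [LinearMap.compl₂_apply, LinearMap.sub_apply, map_sub]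
  rfl

theorem sigma_symm (halt : ∀ x, ω x x = 0) (hy : y ∈ isoGrp ω) : Symm (sigma ω y) := by
  intro u v
  rw [sigma_apply, sigma_apply, skew_of_alt ω halt v (y u), skew_of_alt ω halt v (y.symm u),
    iso_left ω y hy, iso_symm_left ω y hy]
  ring

theorem comm_apply {z : V ≃ₗ[F] V} (hz : z * y = y * z) (v : V) : z (y v) = y (z v) := by
  rw [← LinearEquiv.mul_apply, hz, LinearEquiv.mul_apply]

theorem comm_symm_apply {z : V ≃ₗ[F] V} (hz : z * y = y * z) (v : V) :
    z (y.symm v) = y.symm (z v) := by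
  apply y.injective
  rw [← comm_apply y hz, y.apply_symm_apply, y.apply_symm_apply]

theorem sigma_inv {z : V ≃ₗ[F] V} (hz : z ∈ isoGrp ω) (hzy : z * y = y * z) (u v : V) :
    sigma ω y (z u) (z v) = sigma ω y u v := by
  rw [sigma_apply, sigma_apply, ← comm_apply y hzy, ← comm_symm_apply y hzy, hz, hz]

/-- `[V, y]` -/
def Wy : Submodule F V := LinearMap.range ((y : V →ₗ[F] V) - (1 : Module.End F V))

/-- `C_V(y)` -/
def Cy : Submodule F V := LinearMap.ker ((y : V →ₗ[F] V) - (1 : Module.End F V))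

theorem mem_Cy (v : V) : v ∈ Cy y ↔ y v = v := by
  unfold Cy
  rw [LinearMap.mem_ker, LinearMap.sub_apply, Module.End.one_apply, sub_eq_zero]
  rfl

theorem mem_Wy (v : V) : v ∈ Wy y ↔ ∃ u, y u - u = v := by
  unfold Wy
  rw [LinearMap.mem_range]
  rfl

theorem coe_pow_eq (k : ℕ) :
    ((y ^ k : V ≃ₗ[F] V) : V →ₗ[F] V) = ((y : V →ₗ[F] V) : Module.End F V) ^ k := by
  induction k with
  | zero => rfl
  | succ k ih =>
    rw [pow_succ, pow_succ, ← ih]
    rfl

theorem W_inv {z : V ≃ₗ[F] V} (hzy : z * y = y * z) (w : V) (hw : w ∈ Wy y) : z w ∈ Wy y := by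
  rw [mem_Wy] at hw ⊢
  obtain ⟨u, rfl⟩ := hw
  exact ⟨z u, by rw [map_sub, comm_apply y hzy]⟩

theorem C_inv {z : V ≃ₗ[F] V} (hzy : z * y = y * z) (c : V) (hc : c ∈ Cy y) : z c ∈ Cy y := by
  rw [mem_Cy] at hc ⊢
  rw [← comm_apply y hzy, hc]

theorem inv_comm {z : V ≃ₗ[F] V} (hzy : z * y = y * z) : z⁻¹ * y = y * z⁻¹ := by
  rw [eq_mul_inv_iff_mul_eq, mul_assoc, ← hzy, inv_mul_cancel_left]

theorem map_W {z : V ≃ₗ[F] V} (hzy : z * y = y * z) :
    (Wy y).map (z : V →ₗ[F] V) = Wy y := by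
  apply le_antisymm
  · rintro _ ⟨w, hw, rfl⟩
    exact W_inv y hzy w hw
  · intro w hw
    refine ⟨z.symm w, ?_, z.apply_symm_apply w⟩
    exact W_inv y (inv_comm y hzy) w hw

/-- the isometries of `ω` commuting with `y` -/
def cen : Subgroup (V ≃ₗ[F] V) := isoGrp ω ⊓ Subgroup.centralizer {y}

theorem mem_cen (z : V ≃ₗ[F] V) : z ∈ cen ω y ↔ z ∈ isoGrp ω ∧ z * y = y * z := by
  unfold cen
  rw [Subgroup.mem_inf, Subgroup.mem_centralizer_iff]
  constructor
  · rintro ⟨h1, h2⟩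
    exact ⟨h1, (h2 y rfl).symm⟩
  · rintro ⟨h1, h2⟩
    refine ⟨h1, ?_⟩
    intro h hh
    rw [Set.mem_singleton_iff] at hh
    rw [hh, h2]

theorem self_mem_cen (hy : y ∈ isoGrp ω) : y ∈ cen ω y := (mem_cen ω y y).2 ⟨hy, rfl⟩

/-- restriction to `[V, y]` -/
noncomputable def res : ↥(cen ω y) →* ↥(isoGrp (resForm (sigma ω y) (Wy y))) where
  toFun z := ⟨LinearEquiv.ofSubmodules z.1 (Wy y) (Wy y) (map_W y ((mem_cen ω y z.1).1 z.2).2),
    fun a b => by
      rw [resForm_apply, resForm_apply, LinearEquiv.ofSubmodules_apply,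
        LinearEquiv.ofSubmodules_apply]
      exact sigma_inv ω y ((mem_cen ω y z.1).1 z.2).1 ((mem_cen ω y z.1).1 z.2).2 _ _⟩
  map_one' := by
    apply Subtype.ext
    apply LinearEquiv.ext
    intro w
    apply Subtype.ext
    rfl
  map_mul' := by
    intro a b
    apply Subtype.ext
    apply LinearEquiv.ext
    intro w
    apply Subtype.ext
    rfl

theorem res_apply (z : ↥(cen ω y)) (w : ↥(Wy y)) : (((res ω y z).1 w : ↥(Wy y)) : V) = z.1 w :=
  rfl

variable [FiniteDimensional F V]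

theorem isCompl_WC (m : ℕ) (hm : (m : F) ≠ 0) (hym : y ^ m = 1) : IsCompl (Wy y) (Cy y) := by
  apply Cfsg.Agent.Lib.Helper1.Bc.isCompl_range_ker _ m hm
  rw [← coe_pow_eq, hym]
  rfl

theorem orth_WC (hy : y ∈ isoGrp ω) (w c : V) (hw : w ∈ Wy y) (hc : c ∈ Cy y) : ω w c = 0 :=
  Cfsg.Agent.Lib.Helper1.Bc.ortho_range_ker ω (y : V →ₗ[F] V) (fun a b => hy a b) w c hw hc

theorem finrank_WC (m : ℕ) (hm : (m : F) ≠ 0) (hym : y ^ m = 1) :
    finrank F ↥(Wy y) + finrank F ↥(Cy y) = finrank F V :=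
  Submodule.finrank_add_eq_of_isCompl (isCompl_WC y m hm hym)

theorem eq_one_of_res (m : ℕ) (hm : (m : F) ≠ 0) (hym : y ^ m = 1) (z : ↥(cen ω y))
    (hfix : ∀ c ∈ Cy y, z.1 c = c) (h : res ω y z = 1) : z = 1 := by
  apply Subtype.ext
  apply LinearEquiv.ext
  intro v
  have hc := isCompl_WC y m hm hym
  have hv : v ∈ Wy y ⊔ Cy y := by rw [hc.sup_eq_top]; exact Submodule.mem_top
  obtain ⟨w, hw, c, hc', rfl⟩ := Submodule.mem_sup.1 hv
  have h1 : z.1 w = w := by
    have := res_apply ω y z ⟨w, hw⟩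
    rw [h] at this
    exact this.symm
  rw [map_add, h1, hfix c hc']
  rfl

theorem orderOf_res (m : ℕ) (hm : (m : F) ≠ 0) (hym : y ^ m = 1) (z : ↥(cen ω y))
    (hfix : ∀ c ∈ Cy y, z.1 c = c) : orderOf (res ω y z) = orderOf z := by
  rw [orderOf_eq_orderOf_iff]
  intro k
  rw [← map_pow]
  constructor
  · intro h
    apply eq_one_of_res ω y m hm hym _ _ h
    intro c hc
    exact pow_apply_fix z.1 c (hfix c hc) k
  · intro h
    rw [h, map_one]

theorem add_one_inj (h2 : (2 : F) ≠ 0) (m : ℕ) (hmodd : Odd m) (hym : y ^ m = 1) (v : V)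
    (h : y v + v = 0) : v = 0 := by
  apply add_one_injective_of_pow ((y : V →ₗ[F] V) : Module.End F V) m hmodd h2 _ h
  rw [← coe_pow_eq, hym]
  rfl

theorem sigma_res_nondeg (halt : ∀ x, ω x x = 0) (hnd : Nondeg ω) (hy : y ∈ isoGrp ω)
    (h2 : (2 : F) ≠ 0) (m : ℕ) (hm : (m : F) ≠ 0) (hmodd : Odd m) (hym : y ^ m = 1) :
    Nondeg (resForm (sigma ω y) (Wy y)) := by
  intro v hv
  have hc := isCompl_WC y m hm hym
  have hyv : y (v : V) ∈ Wy y := W_inv y rfl _ v.2
  have hyiv : y.symm (v : V) ∈ Wy y := W_inv y (inv_comm y rfl) _ v.2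
  have h1 : ∀ u : V, ω u (y (v : V) - y.symm (v : V)) = 0 := by
    intro u
    have hu : u ∈ Wy y ⊔ Cy y := by rw [hc.sup_eq_top]; exact Submodule.mem_top
    obtain ⟨w, hw, c, hc', rfl⟩ := Submodule.mem_sup.1 hu
    have e1 := hv ⟨w, hw⟩
    rw [resForm_apply, sigma_apply] at e1
    have e2 : ω c (y (v : V)) = 0 := by
      rw [skew_of_alt ω halt, orth_WC ω y hy _ c hyv hc', neg_zero]
    have e3 : ω c (y.symm (v : V)) = 0 := by
      rw [skew_of_alt ω halt, orth_WC ω y hy _ c hyiv hc', neg_zero]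
    rw [map_sub, map_add, LinearMap.add_apply, LinearMap.add_apply, e2, e3]
    linear_combination e1
  have h3 : y (v : V) - y.symm (v : V) = 0 := hnd _ h1
  have h4 : y (y (v : V)) = (v : V) := by
    rw [sub_eq_zero.1 h3, y.apply_symm_apply]
  have h5 : y (y (v : V) - (v : V)) + (y (v : V) - (v : V)) = 0 := by
    rw [map_sub, h4]
    abel
  have h6 := add_one_inj y h2 m hmodd hym _ h5
  have h7 : (v : V) ∈ Cy y := (mem_Cy y _).2 (sub_eq_zero.1 h6)
  have h8 : (v : V) ∈ Wy y ⊓ Cy y := ⟨v.2, h7⟩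
  rw [hc.inf_eq_bot] at h8
  exact Subtype.ext ((Submodule.mem_bot F).1 h8)

theorem sigma_res_symm (halt : ∀ x, ω x x = 0) (hy : y ∈ isoGrp ω) :
    Symm (resForm (sigma ω y) (Wy y)) :=
  symm_resForm (sigma_symm ω y halt hy) (Wy y)

/-- a nonzero fixed space has dimension at least two -/
theorem two_le_finrank_C (halt : ∀ x, ω x x = 0) (hnd : Nondeg ω) (hy : y ∈ isoGrp ω) (m : ℕ)
    (hm : (m : F) ≠ 0) (hym : y ^ m = 1) (hC : Cy y ≠ ⊥) : 2 ≤ finrank F ↥(Cy y) := by
  by_contra hlt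
  have hle : finrank F ↥(Cy y) ≤ 1 := by omega
  obtain ⟨v, hv⟩ := finrank_le_one_iff.1 hle
  have hc := isCompl_WC y m hm hym
  -- every element of `C` is orthogonal to everything
  have h0 : ∀ c : ↥(Cy y), (c : V) = 0 := by
    intro c
    apply hnd
    intro u
    have hu : u ∈ Wy y ⊔ Cy y := by rw [hc.sup_eq_top]; exact Submodule.mem_top
    obtain ⟨w, hw, c', hc', rfl⟩ := Submodule.mem_sup.1 hu
    obtain ⟨a, ha⟩ := hv c
    obtain ⟨b, hb⟩ := hv ⟨c', hc'⟩
    have e1 : ω w (c : V) = 0 := orth_WC ω y hy w c hw c.2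
    have e2 : ω c' (c : V) = 0 := by
      have hb' : c' = b • (v : V) := by
        have := congrArg Subtype.val hb
        exact this.symm
      have ha' : (c : V) = a • (v : V) := by
        have := congrArg Subtype.val ha
        exact this.symm
      rw [hb', ha']
      simp only [map_smul, LinearMap.smul_apply, halt, smul_zero]
    rw [map_add, LinearMap.add_apply, e1, e2, add_zero]
  apply hC
  rw [Submodule.eq_bot_iff]
  intro c hc'
  exact h0 ⟨c, hc'⟩

end dec

end Cfsg.Agent.Lib.Helper3.Pg
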