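import Mathlib
import Cfsg.Agent.Lib.Helper3.Pg1

/-!
# Model isometries in dimension three: a rotation of order four and a unipotent element (for S2474)
-/

set_option autoImplicit false
set_option maxHeartbeats 4000000
set_option maxRecDepth 100000
set_option linter.unusedVariables false
set_option linter.unusedSectionVars false
set_option linter.style.haveILetI false
set_option linter.deprecated false

namespace Cfsg.Agent.Lib.Helper3.Pg

open Module Matrix
open Cfsg.Agent.Lib.Helper5.OrthPrime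

universe u

section gl
variable {F : Type u} [Field F] {ι : Type} [Fintype ι] [DecidableEq ι]

/-- invertible matrices as linear automorphisms -/
noncomputable def glEquiv : GL ι F ≃* ((ι → F) ≃ₗ[F] (ι → F)) :=
  Matrix.GeneralLinearGroup.toLin.trans (LinearMap.GeneralLinearGroup.generalLinearEquiv F (ι → F))

theorem glEquiv_apply (A : GL ι F) (v : ι → F) : glEquiv A v = (A : Matrix ι ι F) *ᵥ v := by
  unfold glEquiv
  simp

theorem glEquiv_symm_apply (g : (ι → F) ≃ₗ[F] (ι → F)) (v : ι → F) :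
    ((glEquiv.symm g : GL ι F) : Matrix ι ι F) *ᵥ v = g v := by
  rw [← glEquiv_apply, MulEquiv.apply_symm_apply]

end gl

section U3
variable {F : Type u} [Field F]

/-- the form `x₀y₀ + x₁y₁ - x₂y₂` -/
noncomputable def gam3 : (Fin 3 → F) →ₗ[F] (Fin 3 → F) →ₗ[F] F := diagForm ![1, 1, -1]

theorem gam3_apply (x y : Fin 3 → F) : gam3 x y = x 0 * y 0 + x 1 * y 1 - x 2 * y 2 := by
  unfold gam3
  rw [diagForm_apply, Fin.sum_univ_three]
  simp
  ring

theorem gam3_symm : Symm (gam3 (F := F)) := diagForm_symm _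

theorem gam3_nondeg : Nondeg (gam3 (F := F)) := by
  apply diagForm_nondeg
  intro i
  fin_cases i <;> simp

/-- rotation by a quarter turn in the first two coordinates -/
def rotM : Matrix (Fin 3) (Fin 3) F := !![0, -1, 0; 1, 0, 0; 0, 0, 1]

def rotMi : Matrix (Fin 3) (Fin 3) F := !![0, 1, 0; -1, 0, 0; 0, 0, 1]

theorem rotM_mul : (rotM : Matrix (Fin 3) (Fin 3) F) * rotMi = 1 := by
  ext i j
  fin_cases i <;> fin_cases j <;> simp [rotM, rotMi, Matrix.mul_apply, Fin.sum_univ_three]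

theorem rotMi_mul : (rotMi : Matrix (Fin 3) (Fin 3) F) * rotM = 1 := by
  ext i j
  fin_cases i <;> fin_cases j <;> simp [rotM, rotMi, Matrix.mul_apply, Fin.sum_univ_three]

def rotG : GL (Fin 3) F := ⟨rotM, rotMi, rotM_mul, rotMi_mul⟩

theorem rotM_mulVec (x : Fin 3 → F) : (rotM : Matrix (Fin 3) (Fin 3) F) *ᵥ x = ![-x 1, x 0, x 2] := by
  ext i
  fin_cases i <;> simp [rotM, Matrix.mulVec, dotProduct, Fin.sum_univ_three]

/-- a unipotent isometry of `gam3` -/
def uniM : Matrix (Fin 3) (Fin 3) F := !![1, 2, -2; -2, -1, 2; -2, -2, 3]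

def uniMi : Matrix (Fin 3) (Fin 3) F := !![1, -2, 2; 2, -1, 2; 2, -2, 3]

theorem uniM_mul : (uniM : Matrix (Fin 3) (Fin 3) F) * uniMi = 1 := by
  ext i j
  fin_cases i <;> fin_cases j <;> simp [uniM, uniMi, Matrix.mul_apply, Fin.sum_univ_three] <;> ring

theorem uniMi_mul : (uniMi : Matrix (Fin 3) (Fin 3) F) * uniM = 1 := by
  ext i j
  fin_cases i <;> fin_cases j <;> simp [uniM, uniMi, Matrix.mul_apply, Fin.sum_univ_three] <;> ring

def uniG : GL (Fin 3) F := ⟨uniM, uniMi, uniM_mul, uniMi_mul⟩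

theorem uniM_mulVec (x : Fin 3 → F) : (uniM : Matrix (Fin 3) (Fin 3) F) *ᵥ x =
    ![x 0 + 2 * x 1 - 2 * x 2, -2 * x 0 - x 1 + 2 * x 2, -2 * x 0 - 2 * x 1 + 3 * x 2] := by
  ext i
  fin_cases i <;> simp [uniM, Matrix.mulVec, dotProduct, Fin.sum_univ_three] <;> ring

/-- the rotation as an isometry -/
noncomputable def rot : ↥(isoGrp (gam3 (F := F))) := ⟨glEquiv rotG, by
  intro x y
  rw [glEquiv_apply, glEquiv_apply]
  show gam3 ((rotM : Matrix (Fin 3) (Fin 3) F) *ᵥ x) ((rotM : Matrix (Fin 3) (Fin 3) F) *ᵥ y) = _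
  rw [rotM_mulVec, rotM_mulVec, gam3_apply, gam3_apply]
  simp
  ring⟩

theorem rot_apply (x : Fin 3 → F) : (rot (F := F)).1 x = ![-x 1, x 0, x 2] := by
  show glEquiv rotG x = _
  rw [glEquiv_apply]
  exact rotM_mulVec x

/-- the unipotent element as an isometry -/
noncomputable def uni : ↥(isoGrp (gam3 (F := F))) := ⟨glEquiv uniG, by
  intro x y
  rw [glEquiv_apply, glEquiv_apply]
  show gam3 ((uniM : Matrix (Fin 3) (Fin 3) F) *ᵥ x) ((uniM : Matrix (Fin 3) (Fin 3) F) *ᵥ y) = _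
  rw [uniM_mulVec, uniM_mulVec, gam3_apply, gam3_apply]
  simp
  ring⟩

theorem uni_apply (x : Fin 3 → F) : (uni (F := F)).1 x =
    ![x 0 + 2 * x 1 - 2 * x 2, -2 * x 0 - x 1 + 2 * x 2, -2 * x 0 - 2 * x 1 + 3 * x 2] := by
  show glEquiv uniG x = _
  rw [glEquiv_apply]
  exact uniM_mulVec x

theorem rot_sq_apply (x : Fin 3 → F) : ((rot (F := F)) * rot).1 x = ![-x 0, -x 1, x 2] := by
  show (rot (F := F)).1 ((rot (F := F)).1 x) = _
  rw [rot_apply, rot_apply]
  simp

theorem rot_sq_ne_one (h2 : (2 : F) ≠ 0) : (rot (F := F)) * rot ≠ 1 := by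
  intro h
  have h1 := rot_sq_apply (F := F) ![1, 0, 0]
  rw [h] at h1
  have h3 := congrFun h1 0
  simp at h3
  apply h2
  linear_combination h3

theorem rot_sq_sq : ((rot (F := F)) * rot) * (rot * rot) = 1 := by
  apply Subtype.ext
  apply LinearEquiv.ext
  intro x
  show ((rot (F := F)) * rot).1 (((rot (F := F)) * rot).1 x) = x
  rw [rot_sq_apply, rot_sq_apply]
  ext i
  fin_cases i <;> simp

theorem orderOf_rot_sq (h2 : (2 : F) ≠ 0) : orderOf ((rot (F := F)) * rot) = 2 := by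
  haveI : Fact (Nat.Prime 2) := ⟨Nat.prime_two⟩
  apply orderOf_eq_prime
  · rw [pow_two]
    exact rot_sq_sq
  · exact rot_sq_ne_one h2

theorem uni_ne_one (h2 : (2 : F) ≠ 0) : (uni (F := F)) ≠ 1 := by
  intro h
  have h1 := uni_apply (F := F) ![0, 1, 0]
  rw [h] at h1
  have h3 := congrFun h1 0
  simp at h3
  exact h2 h3.symm

/-- the nilpotent part -/
def nilM : Matrix (Fin 3) (Fin 3) F := !![0, 2, -2; -2, -2, 2; -2, -2, 2]

theorem uniM_eq : (uniM : Matrix (Fin 3) (Fin 3) F) = 1 + nilM := by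
  ext i j
  fin_cases i <;> fin_cases j <;> simp [uniM, nilM] <;> ring

theorem nilM_cube : (nilM : Matrix (Fin 3) (Fin 3) F) ^ 3 = 0 := by
  rw [pow_succ, pow_two]
  ext i j
  fin_cases i <;> fin_cases j <;> simp [nilM, Matrix.mul_apply, Fin.sum_univ_three] <;> ring

theorem uniM_pow (p : ℕ) [Fact p.Prime] [CharP F p] (hp : 3 ≤ p) :
    (uniM : Matrix (Fin 3) (Fin 3) F) ^ p = 1 := by
  rw [uniM_eq, add_pow_char_of_commute p (Commute.one_left _), one_pow]
  obtain ⟨k, rfl⟩ : ∃ k, p = 3 + k := ⟨p - 3, by omega⟩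
  rw [pow_add, nilM_cube, zero_mul, add_zero]

theorem uni_pow (p : ℕ) [Fact p.Prime] [CharP F p] (hp : 3 ≤ p) : (uni (F := F)) ^ p = 1 := by
  apply Subtype.ext
  show (glEquiv uniG) ^ p = 1
  rw [← map_pow]
  have : (uniG : GL (Fin 3) F) ^ p = 1 := by
    apply Units.ext
    rw [Units.val_pow_eq_pow_val]
    exact uniM_pow p hp
  rw [this, map_one]

theorem orderOf_uni (h2 : (2 : F) ≠ 0) (p : ℕ) [Fact p.Prime] [CharP F p] (hp : 3 ≤ p) :
    orderOf (uni (F := F)) = p :=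
  orderOf_eq_prime (uni_pow p hp) (uni_ne_one h2)

end U3

section dot
variable {F : Type u} [Field F]

/-- the standard dot product on `F^j` -/
noncomputable def dotF (j : ℕ) : (Fin j → F) →ₗ[F] (Fin j → F) →ₗ[F] F :=
  diagForm (fun _ => (1 : F))

theorem dotF_symm (j : ℕ) : Symm (dotF (F := F) j) := diagForm_symm _

theorem dotF_nondeg (j : ℕ) : Nondeg (dotF (F := F) j) :=
  diagForm_nondeg _ (fun _ => one_ne_zero)

end dot

end Cfsg.Agent.Lib.Helper3.Pg
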