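import Mathlib
import Cfsg.Agent.Lib.Helper3.Pg2
import Cfsg.Agent.Lib.Helper3.Pg3

/-!
# From symplectic isometries to orthogonal isometries of one dimension more (for S2474)
-/

set_option autoImplicit false
set_option maxHeartbeats 4000000
set_option maxRecDepth 100000
set_option linter.unusedVariables false
set_option linter.unusedSectionVars false
set_option linter.style.haveILetI false
set_option linter.deprecated false

namespace Cfsg.Agent.Lib.Helper3.Pg

open Module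
open Cfsg.Agent.Lib.Helper5.OrthPrime

universe u

section twist
variable {F : Type u} [Field F] {V : Type u} [AddCommGroup V] [Module F V]
variable (x y : V ≃ₗ[F] V) (c : F)

/-- `y` on the fixed space of the involution `x`, the identity on its `-1`-eigenspace -/
def twF : V →ₗ[F] V :=
  (y : V →ₗ[F] V) ∘ₗ (c • (LinearMap.id + (x : V →ₗ[F] V))) +
    c • (LinearMap.id - (x : V →ₗ[F] V))

theorem twF_apply (v : V) : twF x y c v = y (c • (v + x v)) + c • (v - x v) := rfl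

theorem tw_comp (y' : V ≃ₗ[F] V) (hxx : ∀ v, x (x v) = v) (hxy : ∀ v, x (y v) = y (x v))
    (hxy' : ∀ v, x (y' v) = y' (x v)) (hyy' : ∀ v, y (y' v) = v) (hc : 2 * c = 1) (v : V) :
    twF x y c (twF x y' c v) = v := by
  rw [twF_apply, twF_apply]
  simp only [map_add, map_sub, map_smul, hxx, hxy', hyy', hxy]
  linear_combination (norm := module) ((2 * c + 1) * hc) • v

theorem xx_apply (hxx : x * x = 1) (v : V) : x (x v) = v := by
  rw [← LinearEquiv.mul_apply, hxx]; rfl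

/-- the twisted element -/
def twist (hxy : x * y = y * x) (hxx : x * x = 1) (hc : 2 * c = 1) : V ≃ₗ[F] V :=
  LinearEquiv.ofLinear (twF x y c) (twF x y⁻¹ c)
    (LinearMap.ext fun v => tw_comp x y c y⁻¹ (xx_apply x hxx) (comm_apply y hxy)
      (comm_apply y⁻¹ (inv_comm x hxy.symm).symm) (fun v => y.apply_symm_apply v) hc v)
    (LinearMap.ext fun v => tw_comp x y⁻¹ c y (xx_apply x hxx) (comm_apply y⁻¹ (inv_comm x hxy.symm).symm)
      (comm_apply y hxy) (fun v => y.symm_apply_apply v) hc v)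

theorem twist_apply (hxy : x * y = y * x) (hxx : x * x = 1) (hc : 2 * c = 1) (v : V) :
    twist x y c hxy hxx hc v = y (c • (v + x v)) + c • (v - x v) := rfl

theorem twist_fixed (hxy : x * y = y * x) (hxx : x * x = 1) (hc : 2 * c = 1) (a : V)
    (ha : x a = a) : twist x y c hxy hxx hc a = y a := by
  rw [twist_apply, ha, sub_self, smul_zero, add_zero]
  congr 1
  linear_combination (norm := module) hc • a

theorem twist_neg (hxy : x * y = y * x) (hxx : x * x = 1) (hc : 2 * c = 1) (b : V)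
    (hb : x b = -b) : twist x y c hxy hxx hc b = b := by
  rw [twist_apply, hb, add_neg_cancel, smul_zero, map_zero, zero_add]
  linear_combination (norm := module) hc • b

theorem twist_pow_fixed (hxy : x * y = y * x) (hxx : x * x = 1) (hc : 2 * c = 1) (k : ℕ) :
    ∀ a : V, x a = a → (twist x y c hxy hxx hc ^ k) a = (y ^ k) a := by
  induction k with
  | zero => intro a _; rfl
  | succ k ih =>
    intro a ha
    rw [pow_succ, pow_succ, LinearEquiv.mul_apply, LinearEquiv.mul_apply, twist_fixed x y c hxy hxx hc a ha]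
    apply ih
    rw [comm_apply y hxy, ha]

theorem P_fixed (hxx : x * x = 1) (v : V) : x (c • (v + x v)) = c • (v + x v) := by
  rw [map_smul, map_add, xx_apply x hxx, add_comm]

theorem Q_neg (hxx : x * x = 1) (v : V) : x (c • (v - x v)) = -(c • (v - x v)) := by
  rw [map_smul, map_sub, xx_apply x hxx, ← smul_neg, neg_sub]

theorem PQ_add (hc : 2 * c = 1) (v : V) : c • (v + x v) + c • (v - x v) = v := by
  linear_combination (norm := module) hc • v

theorem twist_pow_eq_one (hxy : x * y = y * x) (hxx : x * x = 1) (hc : 2 * c = 1) (s : ℕ)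
    (hys : y ^ s = 1) : twist x y c hxy hxx hc ^ s = 1 := by
  apply LinearEquiv.ext
  intro v
  conv_lhs => rw [← PQ_add x c hc v]
  rw [map_add, twist_pow_fixed x y c hxy hxx hc s _ (P_fixed x c hxx v), hys,
    pow_apply_fix _ _ (twist_neg x y c hxy hxx hc _ (Q_neg x c hxx v)) s]
  show c • (v + x v) + c • (v - x v) = v
  exact PQ_add x c hc v

theorem twist_mem (ω : V →ₗ[F] V →ₗ[F] F) (h2 : (2 : F) ≠ 0) (hx : x ∈ isoGrp ω)
    (hy : y ∈ isoGrp ω) (hxy : x * y = y * x) (hxx : x * x = 1) (hc : 2 * c = 1) :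
    twist x y c hxy hxx hc ∈ isoGrp ω := by
  have orth : ∀ a b : V, x a = a → x b = -b → ω a b = 0 ∧ ω b a = 0 := by
    intro a b ha hb
    have e1 := hx a b
    rw [ha, hb, map_neg] at e1
    have e2 := hx b a
    rw [ha, hb, map_neg, LinearMap.neg_apply] at e2
    constructor
    · have : (2 : F) * ω a b = 0 := by linear_combination -e1
      exact (mul_eq_zero.1 this).resolve_left h2
    · have : (2 : F) * ω b a = 0 := by linear_combination -e2
      exact (mul_eq_zero.1 this).resolve_left h2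
  intro u v
  have hPu := P_fixed x c hxx u
  have hPv := P_fixed x c hxx v
  have hQu := Q_neg x c hxx u
  have hQv := Q_neg x c hxx v
  have hyPu : x (y (c • (u + x u))) = y (c • (u + x u)) := by rw [comm_apply y hxy, hPu]
  have hyPv : x (y (c • (v + x v))) = y (c • (v + x v)) := by rw [comm_apply y hxy, hPv]
  rw [twist_apply, twist_apply]
  conv_rhs => rw [← PQ_add x c hc u, ← PQ_add x c hc v]
  simp only [map_add, LinearMap.add_apply]
  rw [hy, (orth _ _ hyPu hQv).1, (orth _ _ hyPv hQu).2, (orth _ _ hPu hQv).1, (orth _ _ hPv hQu).2]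

end twist

section grp
variable {G₁ G₂ G₃ G₄ H : Type*} [Group G₁] [Group G₂] [Group G₃] [Group G₄] [Group H]

theorem order_pair (Ψ : G₁ × G₂ →* H) (hΨ : Function.Injective Ψ) (a : G₁) (b : G₂) (m n : ℕ)
    (ha : orderOf a = m) (hb : orderOf b = n) (hcop : Nat.Coprime m n) :
    orderOf (Ψ (a, b)) = m * n := by
  rw [orderOf_injective Ψ hΨ, Prod.orderOf, ha, hb, hcop.lcm_eq_mul]

theorem order_pair_one (P : G₃ × G₄ →* G₂) (hP : Function.Injective P) (b : G₃) :
    orderOf (P (b, 1)) = orderOf b := by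
  rw [orderOf_injective P hP, Prod.orderOf, orderOf_one, Nat.lcm_one_right]

theorem order_one_pair (P : G₃ × G₄ →* G₂) (hP : Function.Injective P) (b : G₄) :
    orderOf (P (1, b)) = orderOf b := by
  rw [orderOf_injective P hP, Prod.orderOf, orderOf_one, Nat.lcm_one_left]

theorem order_sq_mul (Ψ : G₁ × G₂ →* H) (hΨ : Function.Injective Ψ) (a : G₁) (r : G₂) (s : ℕ)
    (ha : orderOf a = s) (hr : orderOf (r * r) = 2) (hs : Odd s) :
    orderOf (Ψ (1, r) * Ψ (1, r) * Ψ (a, 1)) = 2 * s ∧ (Ψ (a, 1)) ^ s = 1 := by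
  constructor
  · have e : Ψ (1, r) * Ψ (1, r) * Ψ (a, 1) = Ψ (a, r * r) := by
      rw [← map_mul, ← map_mul]
      congr 1
      rw [Prod.mk_mul_mk, Prod.mk_mul_mk, one_mul, one_mul, mul_one]
    rw [e, order_pair Ψ hΨ a (r * r) s 2 ha hr (by rw [Nat.coprime_two_right]; exact hs), mul_comm]
  · have hob : orderOf (Ψ (a, 1)) = s := by rw [order_pair_one Ψ hΨ, ha]
    rw [← hob]
    exact pow_orderOf_eq_one _

theorem order_sq_one (P : G₃ × G₄ →* G₂) (hP : Function.Injective P) (r : G₃)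
    (hr : orderOf (r * r) = 2) : orderOf (P (r, 1) * P (r, 1)) = 2 := by
  rw [← map_mul, Prod.mk_mul_mk, mul_one, order_pair_one P hP, hr]

theorem order_sq_mul' (Ψ : G₁ × G₂ →* H) (hΨ : Function.Injective Ψ) (a x : G₁) (n s : ℕ)
    (ha : orderOf a = s) (hx : orderOf (x * x * a) = n) :
    orderOf (Ψ (x, 1) * Ψ (x, 1) * Ψ (a, 1)) = n ∧ (Ψ (a, 1)) ^ s = 1 := by
  constructor
  · have e : Ψ (x, 1) * Ψ (x, 1) * Ψ (a, 1) = Ψ (x * x * a, 1) := by
      rw [← map_mul, ← map_mul]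
      congr 1
      rw [Prod.mk_mul_mk, Prod.mk_mul_mk, one_mul, one_mul]
    rw [e, order_pair_one Ψ hΨ, hx]
  · have hob : orderOf (Ψ (a, 1)) = s := by rw [order_pair_one Ψ hΨ, ha]
    rw [← hob]
    exact pow_orderOf_eq_one _

end grp

section la
variable {F : Type u} [Field F] [Fintype F] {V : Type u} [AddCommGroup V] [Module F V]
  [FiniteDimensional F V] {Vt : Type u} [AddCommGroup Vt] [Module F Vt] [FiniteDimensional F Vt]
variable (ω : V →ₗ[F] V →ₗ[F] F) (Bt : Vt →ₗ[F] Vt →ₗ[F] F)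

theorem base_embed (h2 : (2 : F) ≠ 0) (hodd : Fintype.card F % 2 = 1) (halt : ∀ x, ω x x = 0)
    (hnd : Nondeg ω) (hSt : Symm Bt) (hNt : Nondeg Bt) (hdim : finrank F Vt = finrank F V + 1)
    (hoddim : Odd (finrank F Vt)) (y : V ≃ₗ[F] V) (hy : y ∈ isoGrp ω) (m : ℕ) (hm : (m : F) ≠ 0)
    (hmodd : Odd m) (hym : y ^ m = 1) {U : Type u} [AddCommGroup U] [Module F U]
    [FiniteDimensional F U] (γ : U →ₗ[F] U →ₗ[F] F) (hSγ : Symm γ) (hNγ : Nondeg γ)
    (hU : finrank F U = finrank F ↥(Cy y) + 1) :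
    ∃ Ψ : ↥(isoGrp (resForm (sigma ω y) (Wy y))) × ↥(isoGrp γ) →* ↥(isoGrp Bt),
      Function.Injective Ψ := by
  apply exists_embed h2 hodd _ γ Bt (sigma_res_symm ω y halt hy)
    (sigma_res_nondeg ω y halt hnd hy h2 m hm hmodd hym) hSγ hNγ hSt hNt _ hoddim
  rw [hdim, hU, ← finrank_WC y m hm hym]
  ring

/-- the model with a three-dimensional block -/
theorem base_embed3 (h2 : (2 : F) ≠ 0) (hodd : Fintype.card F % 2 = 1) (halt : ∀ x, ω x x = 0)
    (hnd : Nondeg ω) (hSt : Symm Bt) (hNt : Nondeg Bt) (hdim : finrank F Vt = finrank F V + 1)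
    (hoddim : Odd (finrank F Vt)) (y : V ≃ₗ[F] V) (hy : y ∈ isoGrp ω) (m : ℕ) (hm : (m : F) ≠ 0)
    (hmodd : Odd m) (hym : y ^ m = 1) (hC : Cy y ≠ ⊥) :
    ∃ (G₂ : Type u) (_ : Group G₂) (Ψ : ↥(isoGrp (resForm (sigma ω y) (Wy y))) × G₂ →*
      ↥(isoGrp Bt)) (P : ↥(isoGrp (gam3 (F := F))) × PUnit.{u + 1} →* G₂),
      Function.Injective Ψ ∧ Function.Injective P := by
  have h2C := two_le_finrank_C ω y halt hnd hy m hm hym hC
  obtain ⟨k, hk⟩ : ∃ k : ℕ, finrank F ↥(Cy y) = k + 2 := ⟨finrank F ↥(Cy y) - 2, by omega⟩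
  obtain ⟨Ψ, hΨ⟩ := base_embed ω Bt h2 hodd halt hnd hSt hNt hdim hoddim y hy m hm hmodd hym
    (U := (Fin 3 → F) × (Fin k → F))
    (prodForm (gam3 (F := F)) (dotF (F := F) k))
    (prodForm_symm gam3_symm (dotF_symm _))
    (prodForm_nondeg gam3_nondeg (dotF_nondeg _)) (by
      rw [Module.finrank_prod, Module.finrank_fin_fun, Module.finrank_fin_fun, hk]; ring)
  refine ⟨↥(isoGrp (prodForm (gam3 (F := F)) (dotF (F := F) k))), inferInstance, Ψ,
    (prodHom (gam3 (F := F)) (dotF (F := F) k)).comp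
      (MonoidHom.prodMap (MonoidHom.id _) (1 : PUnit.{u + 1} →* ↥(isoGrp (dotF (F := F) k)))),
    hΨ, ?_⟩
  intro a b h
  have h1 := prodHom_injective _ _ h
  have h3 := congrArg Prod.fst h1
  exact Prod.ext h3 (Subsingleton.elim _ _)

variable (h2 : (2 : F) ≠ 0) (hodd : Fintype.card F % 2 = 1) (halt : ∀ x, ω x x = 0)
  (hnd : Nondeg ω) (hSt : Symm Bt) (hNt : Nondeg Bt) (hdim : finrank F Vt = finrank F V + 1)
  (hoddim : Odd (finrank F Vt))

include h2 hodd halt hnd hSt hNt hdim hoddim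

/-- an isometry of odd order prime to the characteristic -/
theorem odd_A1 (g : V ≃ₗ[F] V) (hg : g ∈ isoGrp ω) (N : ℕ) (hN : (N : F) ≠ 0) (hNodd : Odd N)
    (hord : orderOf g = N) : ∃ b : ↥(isoGrp Bt), orderOf b = N := by
  have hgN : g ^ N = 1 := by rw [← hord]; exact pow_orderOf_eq_one g
  obtain ⟨Ψ, hΨ⟩ := base_embed ω Bt h2 hodd halt hnd hSt hNt hdim hoddim g hg N hN hNodd hgN
    (dotF (F := F) (finrank F ↥(Cy g) + 1)) (dotF_symm _) (dotF_nondeg _)
    (by rw [Module.finrank_fin_fun])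
  obtain ⟨gc, hgc⟩ : ∃ gc : ↥(cen ω g), gc.1 = g := ⟨⟨g, self_mem_cen ω g hg⟩, rfl⟩
  have ho : orderOf (res ω g gc) = N := by
    rw [orderOf_res ω g N hN hgN gc (fun c hc => by rw [hgc]; exact (mem_Cy g c).1 hc),
      ← Subgroup.orderOf_coe, hgc, hord]
  obtain ⟨rg, hrg⟩ : ∃ rg, rg = res ω g gc := ⟨_, rfl⟩
  rw [← hrg] at ho
  exact ⟨Ψ (rg, 1), by rw [order_pair_one Ψ hΨ, ho]⟩

/-- a unipotent element of order `p` commuting with an element of odd prime order `s ≠ p` -/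
theorem odd_A2 (p : ℕ) [Fact p.Prime] [CharP F p] (hp3 : 3 ≤ p) (s : ℕ) (hs : s.Prime)
    (hsodd : Odd s) (hsF : (s : F) ≠ 0) (hps : p ≠ s) (x y : V ≃ₗ[F] V) (hx : x ∈ isoGrp ω)
    (hy : y ∈ isoGrp ω) (hxy : x * y = y * x) (hox : orderOf x = p) (hoy : orderOf y = s) :
    ∃ b : ↥(isoGrp Bt), orderOf b = p * s := by
  have hp : p.Prime := Fact.out
  haveI : Fact s.Prime := ⟨hs⟩
  have hys : y ^ s = 1 := by rw [← hoy]; exact pow_orderOf_eq_one y
  have hxp : x ^ p = 1 := by rw [← hox]; exact pow_orderOf_eq_one x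
  obtain ⟨xc, hxc⟩ : ∃ xc : ↥(cen ω y), xc.1 = x := ⟨⟨x, (mem_cen ω y x).2 ⟨hx, hxy⟩⟩, rfl⟩
  obtain ⟨yc, hyc⟩ : ∃ yc : ↥(cen ω y), yc.1 = y := ⟨⟨y, self_mem_cen ω y hy⟩, rfl⟩
  have hoyc : orderOf (res ω y yc) = s := by
    rw [orderOf_res ω y s hsF hys yc (fun c hc => by rw [hyc]; exact (mem_Cy y c).1 hc),
      ← Subgroup.orderOf_coe, hyc, hoy]
  have hcop : Nat.Coprime p s := (Nat.coprime_primes hp hs).2 hps
  by_cases hrx : res ω y xc = 1
  · have hC : Cy y ≠ ⊥ := by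
      intro hC
      have h1 : xc = 1 := eq_one_of_res ω y s hsF hys xc (fun c hc => by
        rw [hC] at hc
        rw [(Submodule.mem_bot F).1 hc, map_zero]) hrx
      have hx1 : x = 1 := by rw [← hxc, h1]; rfl
      rw [hx1, orderOf_one] at hox
      exact hp.one_lt.ne hox
    obtain ⟨G₂, _, Ψ, P, hΨ, hP⟩ := base_embed3 ω Bt h2 hodd halt hnd hSt hNt hdim hoddim y hy s
      hsF hsodd hys hC
    obtain ⟨ry, hry⟩ : ∃ ry, ry = res ω y yc := ⟨_, rfl⟩
    rw [← hry] at hoyc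
    refine ⟨Ψ (ry, P (uni, 1)), ?_⟩
    rw [order_pair Ψ hΨ ry (P (uni, 1)) s p hoyc (by rw [order_pair_one P hP, orderOf_uni h2 p hp3])
      hcop.symm, mul_comm]
  · have hox' : orderOf (res ω y xc) = p := by
      apply orderOf_eq_prime _ hrx
      rw [← map_pow]
      have : xc ^ p = 1 := by
        apply Subtype.ext
        rw [Subgroup.coe_pow, hxc, hxp]
        rfl
      rw [this, map_one]
    obtain ⟨Ψ, hΨ⟩ := base_embed ω Bt h2 hodd halt hnd hSt hNt hdim hoddim y hy s hsF hsodd hys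
      (dotF (F := F) (finrank F ↥(Cy y) + 1)) (dotF_symm _) (dotF_nondeg _)
      (by rw [Module.finrank_fin_fun])
    have hcomm : Commute (res ω y xc) (res ω y yc) := by
      show _ * _ = _ * _
      rw [← map_mul, ← map_mul]
      congr 1
      apply Subtype.ext
      rw [Subgroup.coe_mul, Subgroup.coe_mul, hxc, hyc, hxy]
    have ho : orderOf (res ω y xc * res ω y yc) = p * s := by
      rw [hcomm.orderOf_mul_eq_mul_orderOf_of_coprime (by rw [hox', hoyc]; exact hcop), hox', hoyc]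
    obtain ⟨rg, hrg⟩ : ∃ rg, rg = res ω y xc * res ω y yc := ⟨_, rfl⟩
    rw [← hrg] at ho
    exact ⟨Ψ (rg, 1), by rw [order_pair_one Ψ hΨ, ho]⟩

/-- an element of odd prime order with a nonzero fixed space -/
theorem even_i (s : ℕ) (hs : s.Prime) (hsodd : Odd s) (hsF : (s : F) ≠ 0) (y : V ≃ₗ[F] V)
    (hy : y ∈ isoGrp ω) (hoy : orderOf y = s) (hC : Cy y ≠ ⊥) :
    ∃ a b : ↥(isoGrp Bt), orderOf (a * a * b) = 2 * s ∧ b ^ s = 1 := by
  haveI : Fact s.Prime := ⟨hs⟩
  have hys : y ^ s = 1 := by rw [← hoy]; exact pow_orderOf_eq_one y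
  obtain ⟨yc, hyc⟩ : ∃ yc : ↥(cen ω y), yc.1 = y := ⟨⟨y, self_mem_cen ω y hy⟩, rfl⟩
  have hoyc : orderOf (res ω y yc) = s := by
    rw [orderOf_res ω y s hsF hys yc (fun c hc => by rw [hyc]; exact (mem_Cy y c).1 hc),
      ← Subgroup.orderOf_coe, hyc, hoy]
  obtain ⟨G₂, _, Ψ, P, hΨ, hP⟩ := base_embed3 ω Bt h2 hodd halt hnd hSt hNt hdim hoddim y hy s
    hsF hsodd hys hC
  obtain ⟨ry, hry⟩ : ∃ ry, ry = res ω y yc := ⟨_, rfl⟩
  rw [← hry] at hoyc
  have hr : orderOf (P (rot, 1) * P (rot, 1)) = 2 := order_sq_one P hP rot (orderOf_rot_sq h2)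
  exact ⟨Ψ (1, P (rot, 1)), Ψ (ry, 1), order_sq_mul Ψ hΨ ry (P (rot, 1)) s hoyc hr hsodd⟩

/-- no fixed vectors and `x² = -1` -/
theorem even_neg (s : ℕ) (hs : s.Prime) (hsodd : Odd s) (hsF : (s : F) ≠ 0) (x y : V ≃ₗ[F] V)
    (hx : x ∈ isoGrp ω) (hy : y ∈ isoGrp ω) (hxy : x * y = y * x) (hoy : orderOf y = s)
    (hC : Cy y = ⊥) (hxx : x * x = LinearEquiv.neg F) :
    ∃ a b : ↥(isoGrp Bt), orderOf (a * a * b) = 2 * s ∧ b ^ s = 1 := by
  haveI : Fact s.Prime := ⟨hs⟩
  have hys : y ^ s = 1 := by rw [← hoy]; exact pow_orderOf_eq_one y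
  obtain ⟨xc, hxc⟩ : ∃ xc : ↥(cen ω y), xc.1 = x := ⟨⟨x, (mem_cen ω y x).2 ⟨hx, hxy⟩⟩, rfl⟩
  obtain ⟨yc, hyc⟩ : ∃ yc : ↥(cen ω y), yc.1 = y := ⟨⟨y, self_mem_cen ω y hy⟩, rfl⟩
  have hfix : ∀ z : ↥(cen ω y), ∀ c ∈ Cy y, z.1 c = c := by
    intro z c hc
    rw [hC] at hc
    rw [(Submodule.mem_bot F).1 hc, map_zero]
  have hoyc : orderOf (res ω y yc) = s := by
    rw [orderOf_res ω y s hsF hys yc (hfix yc), ← Subgroup.orderOf_coe, hyc, hoy]
  obtain ⟨Ψ, hΨ⟩ := base_embed ω Bt h2 hodd halt hnd hSt hNt hdim hoddim y hy s hsF hsodd hys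
    (dotF (F := F) (finrank F ↥(Cy y) + 1)) (dotF_symm _) (dotF_nondeg _)
    (by rw [Module.finrank_fin_fun])
  -- the order of `-y`
  have hneg2 : (LinearEquiv.neg F : V ≃ₗ[F] V) ^ 2 = 1 := by
    apply LinearEquiv.ext
    intro v
    rw [pow_two, LinearEquiv.mul_apply, LinearEquiv.neg_apply, LinearEquiv.neg_apply, neg_neg]
    rfl
  have hneg1 : (LinearEquiv.neg F : V ≃ₗ[F] V) ≠ 1 := by
    intro h
    have hy1 : y = 1 := by
      apply LinearEquiv.ext
      intro v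
      have h3 : (LinearEquiv.neg F : V ≃ₗ[F] V) v = v := by rw [h]; rfl
      rw [LinearEquiv.neg_apply] at h3
      have h4 : (2 : F) • v = 0 := by
        rw [two_smul]
        nth_rewrite 1 [← h3]
        exact neg_add_cancel v
      have h5 : v = 0 := (smul_eq_zero.1 h4).resolve_left h2
      rw [h5, map_zero, map_zero]
    rw [hy1, orderOf_one] at hoy
    exact hs.one_lt.ne hoy
  have hon : orderOf (LinearEquiv.neg F : V ≃ₗ[F] V) = 2 := by
    haveI : Fact (Nat.Prime 2) := ⟨Nat.prime_two⟩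
    exact orderOf_eq_prime hneg2 hneg1
  have hcomm : Commute (LinearEquiv.neg F : V ≃ₗ[F] V) y := by
    show _ * _ = _ * _
    apply LinearEquiv.ext
    intro v
    rw [LinearEquiv.mul_apply, LinearEquiv.mul_apply, LinearEquiv.neg_apply,
      LinearEquiv.neg_apply, map_neg]
  have hcop : Nat.Coprime 2 s := by
    rw [Nat.coprime_two_left]
    exact hsodd
  have hoxy : orderOf (x * x * y) = 2 * s := by
    rw [hxx, hcomm.orderOf_mul_eq_mul_orderOf_of_coprime (by rw [hon, hoy]; exact hcop), hon, hoy]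
  have ho : orderOf (res ω y xc * res ω y xc * res ω y yc) = 2 * s := by
    rw [← map_mul, ← map_mul, orderOf_res ω y s hsF hys _ (hfix _), ← Subgroup.orderOf_coe,
      Subgroup.coe_mul, Subgroup.coe_mul, hxc, hyc, hoxy]
  obtain ⟨rx, hrx⟩ : ∃ rx, rx = res ω y xc := ⟨_, rfl⟩
  obtain ⟨ry, hry⟩ : ∃ ry, ry = res ω y yc := ⟨_, rfl⟩
  rw [← hrx, ← hry] at ho
  rw [← hry] at hoyc
  exact ⟨Ψ (rx, 1), Ψ (ry, 1), order_sq_mul' Ψ hΨ ry rx (2 * s) s hoyc ho⟩

/-- **The case `{2, s}`.** -/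
theorem la_even (s : ℕ) (hs : s.Prime) (hsodd : Odd s) (hsF : (s : F) ≠ 0) (x y : V ≃ₗ[F] V)
    (hx : x ∈ isoGrp ω) (hy : y ∈ isoGrp ω) (hxy : x * y = y * x) (hoy : orderOf y = s)
    (hxx : x * x = 1 ∨ x * x = LinearEquiv.neg F) (hx1 : x ≠ 1) (hxn : x ≠ LinearEquiv.neg F) :
    ∃ a b : ↥(isoGrp Bt), orderOf (a * a * b) = 2 * s ∧ b ^ s = 1 := by
  haveI : Fact s.Prime := ⟨hs⟩
  by_cases hC : Cy y = ⊥
  · rcases hxx with hxx | hxx
    · -- twist
      obtain ⟨c, hc⟩ : ∃ c : F, 2 * c = 1 := ⟨2⁻¹, mul_inv_cancel₀ h2⟩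
      have hys : y ^ s = 1 := by rw [← hoy]; exact pow_orderOf_eq_one y
      obtain ⟨y2, hy2⟩ : ∃ y2 : V ≃ₗ[F] V, y2 = twist x y c hxy hxx hc := ⟨_, rfl⟩
      have hy2m : y2 ∈ isoGrp ω := by rw [hy2]; exact twist_mem x y c ω h2 hx hy hxy hxx hc
      have hy2s : y2 ^ s = 1 := by rw [hy2]; exact twist_pow_eq_one x y c hxy hxx hc s hys
      -- a nonzero fixed vector of `x`
      obtain ⟨v, hv⟩ : ∃ v : V, x v ≠ -v := by
        by_contra hcon
        push Not at hcon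
        apply hxn
        apply LinearEquiv.ext
        intro v
        rw [hcon v, LinearEquiv.neg_apply]
      obtain ⟨w, hw⟩ : ∃ w : V, x w ≠ w := by
        by_contra hcon
        push Not at hcon
        apply hx1
        apply LinearEquiv.ext
        intro v
        rw [hcon v]
        rfl
      have hPv : c • (v + x v) ≠ 0 := by
        intro h
        have hc0 : c ≠ 0 := by
          intro h0
          rw [h0, mul_zero] at hc
          exact zero_ne_one hc
        have := (smul_eq_zero.1 h).resolve_left hc0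
        apply hv
        exact eq_neg_of_add_eq_zero_right this
      have hQw : c • (w - x w) ≠ 0 := by
        intro h
        have hc0 : c ≠ 0 := by
          intro h0
          rw [h0, mul_zero] at hc
          exact zero_ne_one hc
        have := (smul_eq_zero.1 h).resolve_left hc0
        apply hw
        exact (sub_eq_zero.1 this).symm
      have hy2ne : y2 ≠ 1 := by
        intro h
        have h1 : y2 (c • (v + x v)) = y (c • (v + x v)) := by
          rw [hy2]; exact twist_fixed x y c hxy hxx hc _ (P_fixed x c hxx v)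
        rw [h] at h1
        have h3 : c • (v + x v) ∈ Cy y := (mem_Cy y _).2 h1.symm
        rw [hC] at h3
        exact hPv ((Submodule.mem_bot F).1 h3)
      have hoy2 : orderOf y2 = s := orderOf_eq_prime hy2s hy2ne
      have hC2 : Cy y2 ≠ ⊥ := by
        intro h
        have h1 : y2 (c • (w - x w)) = c • (w - x w) := by
          rw [hy2]; exact twist_neg x y c hxy hxx hc _ (Q_neg x c hxx w)
        have h3 : c • (w - x w) ∈ Cy y2 := (mem_Cy y2 _).2 h1
        rw [h] at h3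
        exact hQw ((Submodule.mem_bot F).1 h3)
      exact even_i ω Bt h2 hodd halt hnd hSt hNt hdim hoddim s hs hsodd hsF y2 hy2m hoy2 hC2
    · exact even_neg ω Bt h2 hodd halt hnd hSt hNt hdim hoddim s hs hsodd hsF x y hx hy hxy hoy hC
        hxx
  · exact even_i ω Bt h2 hodd halt hnd hSt hNt hdim hoddim s hs hsodd hsF y hy hoy hC

end la

section twop
variable {F : Type u} [Field F] [Fintype F] {Vt : Type u} [AddCommGroup Vt] [Module F Vt]
  [FiniteDimensional F Vt] (Bt : Vt →ₗ[F] Vt →ₗ[F] F)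

/-- **The case `{2, p}`.** -/
theorem la_two_p (h2 : (2 : F) ≠ 0) (hodd : Fintype.card F % 2 = 1) (hSt : Symm Bt)
    (hNt : Nondeg Bt) (hoddim : Odd (finrank F Vt)) (h7 : 7 ≤ finrank F Vt) (p : ℕ)
    [Fact p.Prime] [CharP F p] (hp3 : 3 ≤ p) :
    ∃ a b : ↥(isoGrp Bt), orderOf (a * a * b) = 2 * p ∧ b ^ p = 1 := by
  have hp : p.Prime := Fact.out
  obtain ⟨k, hk⟩ : ∃ k : ℕ, finrank F Vt = k + 6 := ⟨finrank F Vt - 6, by omega⟩
  obtain ⟨Ψ, hΨ⟩ := exists_embed h2 hodd (W := Fin 3 → F)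
    (U := (Fin 3 → F) × (Fin k → F)) (gam3 (F := F))
    (prodForm (gam3 (F := F)) (dotF (F := F) k)) Bt gam3_symm gam3_nondeg
    (prodForm_symm gam3_symm (dotF_symm _)) (prodForm_nondeg gam3_nondeg (dotF_nondeg _)) hSt hNt
    (by rw [Module.finrank_prod, Module.finrank_fin_fun, Module.finrank_fin_fun, hk]; ring) hoddim
  obtain ⟨P, hP⟩ : ∃ P : ↥(isoGrp (gam3 (F := F))) × ↥(isoGrp (dotF (F := F) k)) →*
      ↥(isoGrp (prodForm (gam3 (F := F)) (dotF (F := F) k))), Function.Injective P :=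
    ⟨prodHom _ _, prodHom_injective _ _⟩
  have hou : orderOf (P (uni, 1)) = p := by rw [order_pair_one P hP, orderOf_uni h2 p hp3]
  obtain ⟨u', hu'⟩ : ∃ u', u' = P (uni, 1) := ⟨_, rfl⟩
  rw [← hu'] at hou
  refine ⟨Ψ (rot, 1), Ψ (1, u'), ?_, ?_⟩
  · have e : Ψ (rot, 1) * Ψ (rot, 1) * Ψ (1, u') = Ψ (rot * rot, u') := by
      rw [← map_mul, ← map_mul]
      exact congrArg Ψ (by simp [Prod.mk_mul_mk])
    rw [e, order_pair Ψ hΨ (rot * rot) u' 2 p (orderOf_rot_sq h2) hou (by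
      rw [Nat.coprime_two_left]
      exact hp.odd_of_ne_two (by omega))]
  · have hob : orderOf (Ψ (1, u')) = p := by rw [order_one_pair Ψ hΨ, hou]
    rw [← hob]
    exact pow_orderOf_eq_one _

end twop

end Cfsg.Agent.Lib.Helper3.Pg
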