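import Mathlib
import Cfsg.Prelude
import Cfsg.Agent.Lib.Helper3.Pg4
import Cfsg.Agent.Lib.Helper5.OrthPrime.QOdd
import Cfsg.Agent.Lib.Helper5.OUnip.OmegaOdd
import Cfsg.Agent.Lib.Helper5.SpinorHyp2
import Cfsg.Agent.Lib.Helper5.Discriminant
import Cfsg.Agent.Lib.Helper5.SympBridge
import Cfsg.Agent.Lib.Helper9.ASP2
import Cfsg.Agent.S0292

/-!
# `ω(PSp_{2n}(q)) ∋ rs ⇒ ω(PΩ_{2n+1}(q)) ∋ rs` for distinct primes `r, s` (half of S2474)
-/

set_option autoImplicit false
set_option maxHeartbeats 4000000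
set_option maxRecDepth 100000
set_option linter.unusedVariables false
set_option linter.unusedSectionVars false
set_option linter.style.haveILetI false
set_option linter.deprecated false

namespace Cfsg.Agent.Lib.Helper3.Pg

open Module Matrix
open Cfsg
open Cfsg.Agent.Lib.Helper5.OrthPrime

universe u

section lift
variable {G : Type*} [Group G]

theorem sq_pow_eq_one {z : G} (hzz : z * z = 1) (k : ℕ) : z ^ (2 * k) = 1 := by
  rw [pow_mul, pow_two, hzz, one_pow]

/-- lifting an element of odd order from the central quotient -/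
theorem lift_odd (hZ : ∀ z ∈ Subgroup.center G, z * z = 1) (N : ℕ) (hN : Odd N)
    (gbar : G ⧸ Subgroup.center G) (ho : orderOf gbar = N) : ∃ g : G, orderOf g = N := by
  obtain ⟨g, rfl⟩ := QuotientGroup.mk_surjective gbar
  have h1 : g ^ N ∈ Subgroup.center G := by
    rw [← QuotientGroup.eq_one_iff, QuotientGroup.mk_pow, ← ho, pow_orderOf_eq_one]
  obtain ⟨z, hz⟩ : ∃ z : G, z = g ^ N := ⟨_, rfl⟩
  rw [← hz] at h1
  have hzz := hZ z h1
  have hcomm : Commute g z := by rw [hz]; exact (Commute.refl g).pow_right N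
  obtain ⟨k, hk⟩ := hN
  have h2 : (g * z) ^ N = 1 := by
    rw [hcomm.mul_pow, ← hz, ← pow_succ', hk]
    have : 2 * k + 1 + 1 = 2 * (k + 1) := by ring
    rw [this]
    exact sq_pow_eq_one hzz _
  refine ⟨g * z, ?_⟩
  apply Nat.dvd_antisymm (orderOf_dvd_of_pow_eq_one h2)
  have h3 : ((g * z : G) : G ⧸ Subgroup.center G) = (g : G ⧸ Subgroup.center G) := by
    rw [QuotientGroup.mk_mul, (QuotientGroup.eq_one_iff z).2 h1, mul_one]
  rw [← ho, ← h3]
  exact orderOf_map_dvd (QuotientGroup.mk' (Subgroup.center G)) (g * z)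

/-- lifting an element of order `2s` from the central quotient -/
theorem lift_even (hZ : ∀ z ∈ Subgroup.center G, z * z = 1) (s : ℕ) (hs : s.Prime)
    (hsodd : Odd s) (gbar : G ⧸ Subgroup.center G) (ho : orderOf gbar = 2 * s) :
    ∃ x y : G, x * y = y * x ∧ orderOf y = s ∧ x * x ∈ Subgroup.center G ∧
      x ∉ Subgroup.center G := by
  obtain ⟨g, rfl⟩ := QuotientGroup.mk_surjective gbar
  have h1 : g ^ (2 * s) ∈ Subgroup.center G := by
    rw [← QuotientGroup.eq_one_iff, QuotientGroup.mk_pow, ← ho, pow_orderOf_eq_one]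
  have hzz := hZ _ h1
  obtain ⟨k, hk⟩ := hsodd
  refine ⟨g ^ s, g ^ (2 * s + 2), ((Commute.refl g).pow_pow _ _).eq, ?_, ?_, ?_⟩
  · -- order of `y`
    have hys : (g ^ (2 * s + 2)) ^ s = 1 := by
      have e : (g ^ (2 * s + 2)) ^ s = (g ^ (2 * s)) ^ (2 * (k + 1)) := by
        rw [← pow_mul, ← pow_mul]
        congr 1
        rw [hk]
        ring
      rw [e]
      exact sq_pow_eq_one hzz _
    apply Nat.dvd_antisymm (orderOf_dvd_of_pow_eq_one hys)
    have h3 : ((g ^ (2 * s + 2) : G) : G ⧸ Subgroup.center G) =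
        (g : G ⧸ Subgroup.center G) ^ 2 := by
      rw [pow_add, QuotientGroup.mk_mul, (QuotientGroup.eq_one_iff _).2 h1, one_mul,
        QuotientGroup.mk_pow]
    have h4 : orderOf ((g : G ⧸ Subgroup.center G) ^ 2) = s := by
      rw [orderOf_pow_of_dvd (by norm_num) (by rw [ho]; exact dvd_mul_right 2 s), ho]
      exact Nat.mul_div_cancel_left s (by norm_num)
    have h7 := orderOf_map_dvd (QuotientGroup.mk' (Subgroup.center G)) (g ^ (2 * s + 2))
    rw [QuotientGroup.mk'_apply, h3, h4] at h7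
    exact h7
  · have : g ^ s * g ^ s = g ^ (2 * s) := by rw [← pow_add]; congr 1; ring
    rw [this]
    exact h1
  · intro hx
    have h5 : ((g ^ s : G) : G ⧸ Subgroup.center G) = 1 := (QuotientGroup.eq_one_iff _).2 hx
    rw [QuotientGroup.mk_pow] at h5
    have h6 := orderOf_dvd_of_pow_eq_one h5
    rw [ho] at h6
    have hs0 := hs.pos
    have := Nat.le_of_dvd hs0 h6
    omega

end lift

section sp
variable {F : Type u} [Field F] (n : ℕ)

/-- the symplectic group inside the general linear group -/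
noncomputable def spToGL : symplecticGroup (Fin n) F →* GL (Fin n ⊕ Fin n) F where
  toFun A := ⟨A.1, (A⁻¹).1, by
      have : (A * A⁻¹).1 = 1 := by rw [mul_inv_cancel]; rfl
      exact this, by
      have : (A⁻¹ * A).1 = 1 := by rw [inv_mul_cancel]; rfl
      exact this⟩
  map_one' := Units.ext rfl
  map_mul' A B := Units.ext rfl

theorem spToGL_coe (A : symplecticGroup (Fin n) F) :
    ((spToGL n A : GL (Fin n ⊕ Fin n) F) : Matrix (Fin n ⊕ Fin n) (Fin n ⊕ Fin n) F) = A.1 := rfl

open Cfsg.Agent.Lib.Helper5.SympBridge in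
/-- symplectic matrices as isometries of the standard alternating form -/
noncomputable def fromSp : symplecticGroup (Fin n) F →* ↥(isoGrp (sympBilin F n)) :=
  ((glEquiv (F := F) (ι := Fin n ⊕ Fin n)).toMonoidHom.comp (spToGL n)).codRestrict _ (by
    intro A u v
    show sympBilin F n (glEquiv (spToGL n A) u) (glEquiv (spToGL n A) v) = _
    rw [glEquiv_apply, glEquiv_apply, sympBilin_apply, sympBilin_apply]
    exact (mem_symplectic_iff n _).mp A.2 u v)

open Cfsg.Agent.Lib.Helper5.SympBridge in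
theorem fromSp_apply (A : symplecticGroup (Fin n) F) (v : Fin n ⊕ Fin n → F) :
    (fromSp n A).1 v = A.1 *ᵥ v := by
  show glEquiv (spToGL n A) v = _
  rw [glEquiv_apply]
  rfl

open Cfsg.Agent.Lib.Helper5.SympBridge in
theorem fromSp_injective : Function.Injective (fromSp (F := F) n) := by
  intro A B h
  apply Subtype.ext
  rw [Matrix.ext_iff_mulVec]
  intro v
  rw [← fromSp_apply, ← fromSp_apply, h]

open Cfsg.Agent.Lib.Helper9.ASP in
/-- central elements of `Sp` are `±1` -/
theorem sp_center (hn : 1 ≤ n) (z : symplecticGroup (Fin n) F)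
    (hz : z ∈ Subgroup.center (symplecticGroup (Fin n) F)) : z.1 = 1 ∨ z.1 = -1 := by
  obtain ⟨a, ha⟩ := (mem_center_iff n z).1 hz
  have haa := scalar_sq n hn z a ha
  have ha' : ∀ v : Fin n ⊕ Fin n → F, z.1 *ᵥ v = a • v := ha
  have h1 : (a - 1) * (a + 1) = 0 := by linear_combination haa
  rcases mul_eq_zero.1 h1 with h | h
  · left
    rw [Matrix.ext_iff_mulVec]
    intro v
    rw [ha', sub_eq_zero.1 h, one_smul, Matrix.one_mulVec]
  · right
    rw [Matrix.ext_iff_mulVec]
    intro v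
    rw [ha', eq_neg_of_add_eq_zero_left h, neg_smul, one_smul, Matrix.neg_mulVec,
      Matrix.one_mulVec]

open Cfsg.Agent.Lib.Helper9.ASP in
theorem sp_center_of (z : symplecticGroup (Fin n) F) (hz : z.1 = 1 ∨ z.1 = -1) :
    z ∈ Subgroup.center (symplecticGroup (Fin n) F) := by
  rw [mem_center_iff]
  rcases hz with h | h
  · refine ⟨1, fun v => ?_⟩
    show z.1 *ᵥ v = _
    rw [h, one_smul, Matrix.one_mulVec]
  · refine ⟨-1, fun v => ?_⟩
    show z.1 *ᵥ v = _
    rw [h, neg_smul, one_smul, Matrix.neg_mulVec, Matrix.one_mulVec]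

theorem sp_center_sq (hn : 1 ≤ n) (z : symplecticGroup (Fin n) F)
    (hz : z ∈ Subgroup.center (symplecticGroup (Fin n) F)) : z * z = 1 := by
  apply Subtype.ext
  show z.1 * z.1 = 1
  rcases sp_center n hn z hz with h | h <;> rw [h] <;> simp

end sp

section target
variable {F : Type u} [Field F] {ι : Type} [Fintype ι] [DecidableEq ι]

/-- isometries of the polar form as elements of the matrix isometry group -/
noncomputable def toIsom (Q : QuadraticForm F (ι → F)) (B : (ι → F) →ₗ[F] (ι → F) →ₗ[F] F)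
    (h2 : (2 : F) ≠ 0) (hB : ∀ x, B x x = 2 * Q x) :
    ↥(isoGrp B) →* ↥(Cfsg.isometryGroup F ⇑Q) :=
  ((glEquiv (F := F) (ι := ι)).symm.toMonoidHom.comp (isoGrp B).subtype).codRestrict _ (by
    intro g u _
    show Q (((glEquiv.symm g.1 : GL ι F) : Matrix ι ι F) *ᵥ u) = Q u
    rw [glEquiv_symm_apply]
    have h3 := g.2 u u
    rw [hB, hB] at h3
    exact mul_left_cancel₀ h2 h3)

theorem toIsom_injective (Q : QuadraticForm F (ι → F)) (B : (ι → F) →ₗ[F] (ι → F) →ₗ[F] F)
    (h2 : (2 : F) ≠ 0) (hB : ∀ x, B x x = 2 * Q x) : Function.Injective (toIsom Q B h2 hB) := by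
  intro a b h
  have h1 : (glEquiv (F := F) (ι := ι)).symm a.1 = (glEquiv (F := F) (ι := ι)).symm b.1 :=
    congrArg Subtype.val h
  exact Subtype.ext ((glEquiv (F := F) (ι := ι)).symm.injective h1)

end target

section main
variable {F : Type u} [Field F] [Fintype F]

open Cfsg.Agent.Lib.Helper5.SpinorHyp2 Cfsg.Agent.Lib.Helper5.OUnip

/-- an element of `Ω` of order `N` gives an element of `PΩ` of order `N` -/
theorem finish (h2 : (2 : F) ≠ 0) (n : ℕ) (hn : 2 ≤ n) (N : ℕ)
    (g : ↥(Cfsg.isometryGroup F ⇑(oddForm n F))) (hg : g ∈ Cfsg.Omega F ⇑(oddForm n F))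
    (ho : orderOf g = N) :
    N ∈ Set.range (orderOf : Cfsg.POmega F (Cfsg.quadFormOdd n F) → ℕ) := by
  have hc := Cfsg.Agent.S0292.center_eq_bot (F := F) h2 n hn
  have hinj : Function.Injective
      (QuotientGroup.mk' (Subgroup.center ↥(Cfsg.Omega F ⇑(oddForm n F)))) := by
    rw [← MonoidHom.ker_eq_bot_iff, QuotientGroup.ker_mk', hc]
  have key : N ∈ Set.range (orderOf : Cfsg.POmega F ⇑(oddForm n F) → ℕ) := by
    refine ⟨QuotientGroup.mk' _ (⟨g, hg⟩ : ↥(Cfsg.Omega F ⇑(oddForm n F))), ?_⟩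
    rw [orderOf_injective _ hinj, Subgroup.orderOf_mk, ho]
  rw [coe_oddForm] at key
  exact key

/-- from isometries of the polar form to `PΩ` -/
theorem finish' (h2 : (2 : F) ≠ 0) (n : ℕ) (hn : 2 ≤ n) (N m : ℕ) (hm : Odd m)
    (a b : ↥(isoGrp (polarOdd (F := F) n))) (ho : orderOf (a * a * b) = N) (hb : b ^ m = 1) :
    N ∈ Set.range (orderOf : Cfsg.POmega F (Cfsg.quadFormOdd n F) → ℕ) := by
  have hB : ∀ x, polarOdd (F := F) n x x = 2 * (oddForm n F) x := by
    intro x
    rw [polarOdd_self, oddForm_apply]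
  obtain ⟨T, hT⟩ : ∃ T : ↥(isoGrp (polarOdd (F := F) n)) →*
      ↥(Cfsg.isometryGroup F ⇑(oddForm n F)), Function.Injective T :=
    ⟨toIsom _ _ h2 hB, toIsom_injective _ _ h2 hB⟩
  have hQ := oddForm_nondegenerate (F := F) h2 n
  apply finish h2 n hn N (T (a * a * b))
  · rw [map_mul, map_mul]
    apply Subgroup.mul_mem
    · exact sq_mem_Omega h2 (oddForm n F) hQ (T a)
    · apply mem_Omega_of_pow h2 (oddForm n F) hQ (T b) hm
      rw [← map_pow, hb, map_one]
  · rw [orderOf_injective T hT, ho]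

end main

end Cfsg.Agent.Lib.Helper3.Pg
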