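import Mathlib
import Cfsg.Prelude
import Cfsg.Agent.Lib.Helper3.Pg5

/-!
# `rs ∈ ω(PSp_{2n}(q)) ⇒ rs ∈ ω(PΩ_{2n+1}(q))` for distinct primes `r, s`, `q` odd, `n ≥ 3`
(one direction of S2474)
-/

set_option autoImplicit false
set_option maxHeartbeats 4000000
set_option maxRecDepth 100000
set_option linter.unusedVariables false
set_option linter.unusedSectionVars false
set_option linter.style.haveILetI false
set_option linter.deprecated false

namespace Cfsg.Agent.Lib.Helper3.Pg

open Module Matrix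
open Cfsg
open Cfsg.Agent.Lib.Helper5.OrthPrime Cfsg.Agent.Lib.Helper5.SympBridge

universe u

section fs
variable {F : Type u} [Field F] (n : ℕ)

theorem fromSp_of_one (A : symplecticGroup (Fin n) F) (hA : A.1 = 1) : (fromSp n A).1 = 1 := by
  apply LinearEquiv.ext
  intro v
  rw [fromSp_apply, hA, Matrix.one_mulVec]
  rfl

theorem fromSp_of_neg (A : symplecticGroup (Fin n) F) (hA : A.1 = -1) :
    (fromSp n A).1 = LinearEquiv.neg F := by
  apply LinearEquiv.ext
  intro v
  rw [fromSp_apply, hA, Matrix.neg_mulVec, Matrix.one_mulVec, LinearEquiv.neg_apply]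

theorem one_of_fromSp (A : symplecticGroup (Fin n) F) (h : (fromSp n A).1 = 1) : A.1 = 1 := by
  rw [Matrix.ext_iff_mulVec]
  intro v
  rw [← fromSp_apply, h, Matrix.one_mulVec]
  rfl

theorem neg_of_fromSp (A : symplecticGroup (Fin n) F) (h : (fromSp n A).1 = LinearEquiv.neg F) :
    A.1 = -1 := by
  rw [Matrix.ext_iff_mulVec]
  intro v
  rw [← fromSp_apply, h, Matrix.neg_mulVec, Matrix.one_mulVec, LinearEquiv.neg_apply]

end fs

section main
variable {F : Type u} [Field F] [Fintype F]

theorem main_aux (hodd : Odd (Fintype.card F)) (n : ℕ) (hn : 3 ≤ n) (r s : ℕ) (hr : r.Prime)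
    (hs : s.Prime) (hrs : r ≠ s) (hs2 : s ≠ 2)
    (h : r * s ∈ Set.range (orderOf : Cfsg.PSp n F → ℕ)) :
    r * s ∈ Set.range (orderOf : Cfsg.POmega F (Cfsg.quadFormOdd n F) → ℕ) := by
  classical
  have h2 : (2 : F) ≠ 0 := Cfsg.Agent.Lib.Helper5.two_ne_zero_of_odd_card hodd
  have hodd' : Fintype.card F % 2 = 1 := Nat.odd_iff.1 hodd
  obtain ⟨p, hpc⟩ := CharP.exists F
  haveI := hpc
  haveI : Fact p.Prime := ⟨CharP.char_is_prime F p⟩
  have hp : p.Prime := Fact.out
  have hp3 : 3 ≤ p := by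
    have hne : p ≠ 2 := by
      intro h
      apply h2
      have := CharP.cast_eq_zero F p
      rw [h] at this
      exact_mod_cast this
    have := hp.two_le
    omega
  have hsodd : Odd s := hs.odd_of_ne_two hs2
  have hcast : ∀ t : ℕ, t.Prime → t ≠ p → (t : F) ≠ 0 := by
    intro t ht htp h0
    have hd := (CharP.cast_eq_zero_iff F p t).1 h0
    exact htp ((Nat.prime_dvd_prime_iff_eq hp ht).1 hd).symm
  have halt : ∀ x, sympBilin F n x x = 0 := fun x => sympBilin_isAlt n x
  have hnd : Nondeg (sympBilin F n) := fun v h => (sympBilin_nondegenerate n).2 v h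
  have hSt := polarOdd_symm (F := F) n
  have hNt := polarOdd_nondeg (F := F) n h2
  have hfr1 : finrank F (Unit ⊕ (Fin n ⊕ Fin n) → F) = 2 * n + 1 := by
    rw [Module.finrank_fintype_fun_eq_card]
    simp
    ring
  have hfr2 : finrank F (Fin n ⊕ Fin n → F) = 2 * n := by
    rw [Module.finrank_fintype_fun_eq_card]
    simp
    ring
  have hdim : finrank F (Unit ⊕ (Fin n ⊕ Fin n) → F) = finrank F (Fin n ⊕ Fin n → F) + 1 := by
    rw [hfr1, hfr2]
  have hoddim : Odd (finrank F (Unit ⊕ (Fin n ⊕ Fin n) → F)) := by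
    rw [hfr1]
    exact ⟨n, rfl⟩
  have hZ := sp_center_sq (F := F) n (by omega)
  obtain ⟨gbar, hgbar⟩ := h
  by_cases hr2 : r = 2
  · subst hr2
    by_cases hsp : s = p
    · obtain ⟨a, b, ho, hb⟩ := la_two_p (polarOdd (F := F) n) h2 hodd' hSt hNt hoddim
        (by rw [hfr1]; omega) p hp3
      rw [← hsp] at ho hb
      exact finish' h2 n (by omega) (2 * s) s hsodd a b ho hb
    · have hsF : (s : F) ≠ 0 := hcast s hs hsp
      obtain ⟨x, y, hxy, hoy, hxx, hxc⟩ := lift_even hZ s hs hsodd gbar hgbar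
      have hXY : (fromSp n x).1 * (fromSp n y).1 = (fromSp n y).1 * (fromSp n x).1 := by
        rw [← Subgroup.coe_mul, ← Subgroup.coe_mul, ← map_mul, ← map_mul, hxy]
      have hoY : orderOf (fromSp n y).1 = s := by
        rw [Subgroup.orderOf_coe, orderOf_injective (fromSp n) (fromSp_injective n), hoy]
      have hXX : (fromSp n x).1 * (fromSp n x).1 = 1 ∨
          (fromSp n x).1 * (fromSp n x).1 = LinearEquiv.neg F := by
        rw [← Subgroup.coe_mul, ← map_mul]
        rcases sp_center n (by omega) (x * x) hxx with h | h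
        · left
          exact fromSp_of_one n _ h
        · right
          exact fromSp_of_neg n _ h
      have hX1 : (fromSp n x).1 ≠ 1 := by
        intro h
        exact hxc (sp_center_of n x (Or.inl (one_of_fromSp n x h)))
      have hXn : (fromSp n x).1 ≠ LinearEquiv.neg F := by
        intro h
        exact hxc (sp_center_of n x (Or.inr (neg_of_fromSp n x h)))
      obtain ⟨a, b, ho, hb⟩ := la_even (sympBilin F n) (polarOdd (F := F) n) h2 hodd' halt hnd hSt
        hNt hdim hoddim s hs hsodd hsF (fromSp n x).1 (fromSp n y).1 (fromSp n x).2 (fromSp n y).2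
        hXY hoY hXX hX1 hXn
      exact finish' h2 n (by omega) (2 * s) s hsodd a b ho hb
  · have hrodd : Odd r := hr.odd_of_ne_two hr2
    have hNodd : Odd (r * s) := hrodd.mul hsodd
    obtain ⟨g, hg⟩ := lift_odd hZ (r * s) hNodd gbar hgbar
    obtain ⟨γ, hγ⟩ : ∃ γ : (Fin n ⊕ Fin n → F) ≃ₗ[F] (Fin n ⊕ Fin n → F), γ = (fromSp n g).1 :=
      ⟨_, rfl⟩
    have hγm : γ ∈ isoGrp (sympBilin F n) := by rw [hγ]; exact (fromSp n g).2
    have hoγ : orderOf γ = r * s := by
      rw [hγ, Subgroup.orderOf_coe, orderOf_injective (fromSp n) (fromSp_injective n), hg]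
    have hoγs : orderOf (γ ^ s) = r := by
      rw [orderOf_pow_of_dvd hs.ne_zero (by rw [hoγ]; exact dvd_mul_left s r), hoγ]
      exact Nat.mul_div_cancel r hs.pos
    have hoγr : orderOf (γ ^ r) = s := by
      rw [orderOf_pow_of_dvd hr.ne_zero (by rw [hoγ]; exact dvd_mul_right r s), hoγ]
      exact Nat.mul_div_cancel_left s hr.pos
    have hone : ∀ b : ↥(isoGrp (polarOdd (F := F) n)), orderOf b = r * s →
        r * s ∈ Set.range (orderOf : Cfsg.POmega F (Cfsg.quadFormOdd n F) → ℕ) := by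
      intro b hb
      apply finish' h2 n (by omega) (r * s) (r * s) hNodd 1 b
      · rw [one_mul, one_mul, hb]
      · rw [← hb]
        exact pow_orderOf_eq_one b
    by_cases hrp : r = p
    · have hsp : p ≠ s := by rw [← hrp]; exact hrs
      obtain ⟨b, hb⟩ := odd_A2 (sympBilin F n) (polarOdd (F := F) n) h2 hodd' halt hnd hSt hNt hdim
        hoddim p hp3 s hs hsodd (hcast s hs hsp.symm) hsp (γ ^ s) (γ ^ r)
        (Subgroup.pow_mem _ hγm s) (Subgroup.pow_mem _ hγm r) ((Commute.refl γ).pow_pow s r).eq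
        (by rw [hoγs, hrp]) hoγr
      rw [← hrp] at hb
      exact hone b hb
    · by_cases hsp : s = p
      · obtain ⟨b, hb⟩ := odd_A2 (sympBilin F n) (polarOdd (F := F) n) h2 hodd' halt hnd hSt hNt
          hdim hoddim p hp3 r hr hrodd (hcast r hr hrp) (by rw [← hsp]; exact hrs.symm) (γ ^ r)
          (γ ^ s) (Subgroup.pow_mem _ hγm r) (Subgroup.pow_mem _ hγm s)
          ((Commute.refl γ).pow_pow r s).eq (by rw [hoγr, hsp]) hoγs
        rw [← hsp, mul_comm] at hb
        exact hone b hb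
      · have hNF : ((r * s : ℕ) : F) ≠ 0 := by
          rw [Nat.cast_mul]
          exact mul_ne_zero (hcast r hr hrp) (hcast s hs hsp)
        obtain ⟨b, hb⟩ := odd_A1 (sympBilin F n) (polarOdd (F := F) n) h2 hodd' halt hnd hSt hNt
          hdim hoddim γ hγm (r * s) hNF hNodd hoγ
        exact hone b hb

/-- **`PSp ⇒ PΩ`.** -/
theorem psp_to_omega (hodd : Odd (Fintype.card F)) (n : ℕ) (hn : 3 ≤ n) (r s : ℕ)
    (hr : r.Prime) (hs : s.Prime) (hrs : r ≠ s)
    (h : r * s ∈ Set.range (orderOf : Cfsg.PSp n F → ℕ)) :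
    r * s ∈ Set.range (orderOf : Cfsg.POmega F (Cfsg.quadFormOdd n F) → ℕ) := by
  by_cases hs2 : s = 2
  · have hr2 : r ≠ 2 := by rw [← hs2]; exact hrs
    rw [mul_comm] at h ⊢
    exact main_aux hodd n hn s r hs hr hrs.symm hr2 h
  · exact main_aux hodd n hn r s hr hs hrs hs2 h

end main

end Cfsg.Agent.Lib.Helper3.Pg
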