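import Mathlib
import Cfsg.Agent.Lib.Helper3.Fitting

set_option autoImplicit false
open Pointwise

namespace Cfsg.Agent.Lib.Helper3

/-- `x` is a `π`-element: every prime divisor of its order lies in `π`. -/
def IsPiElt (π : Set ℕ) {G : Type*} [Monoid G] (x : G) : Prop :=
  ∀ p : ℕ, p.Prime → p ∣ orderOf x → p ∈ π

/-- `n` is a `π`-number. -/
def IsPiNum (π : Set ℕ) (n : ℕ) : Prop := ∀ p : ℕ, p.Prime → p ∣ n → p ∈ π

/-- The `π`-elements form a subgroup. -/
def PiClosed (π : Set ℕ) (G : Type*) [Group G] : Prop :=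
  ∃ K : Subgroup G, ∀ x : G, x ∈ K ↔ IsPiElt π x

theorem IsPiNum.of_dvd {π : Set ℕ} {m n : ℕ} (h : IsPiNum π n) (hmn : m ∣ n) : IsPiNum π m :=
  fun p hp hpm => h p hp (dvd_trans hpm hmn)

theorem IsPiNum.mul {π : Set ℕ} {m n : ℕ} (hm : IsPiNum π m) (hn : IsPiNum π n) :
    IsPiNum π (m * n) := by
  intro p hp hpmn
  rcases (Nat.Prime.dvd_mul hp).1 hpmn with h | h
  · exact hm p hp h
  · exact hn p hp h

theorem IsPiNum.coprime {π : Set ℕ} {m n : ℕ} (hm : IsPiNum π m) (hn : IsPiNum πᶜ n) :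
    Nat.Coprime m n := by
  apply Nat.coprime_of_dvd
  intro p hp hpm hpn
  exact hn p hp hpn (hm p hp hpm)

theorem isPiElt_of_isPiNum_card {π : Set ℕ} {G : Type*} [Group G] [Finite G]
    (h : IsPiNum π (Nat.card G)) (x : G) : IsPiElt π x :=
  fun p hp hpx => h p hp (dvd_trans hpx (orderOf_dvd_natCard x))

theorem isPiNum_card_of_forall_isPiElt {π : Set ℕ} {G : Type*} [Group G] [Finite G]
    (h : ∀ x : G, IsPiElt π x) : IsPiNum π (Nat.card G) := by
  intro p hp hpG
  haveI : Fact p.Prime := ⟨hp⟩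
  obtain ⟨x, hx⟩ := exists_prime_orderOf_dvd_card' p hpG
  exact h x p hp (hx ▸ dvd_rfl)

theorem IsPiElt.map {π : Set ℕ} {G H : Type*} [Group G] [Group H] (f : G →* H) {x : G}
    (hx : IsPiElt π x) : IsPiElt π (f x) :=
  fun p hp hpx => hx p hp (dvd_trans hpx (orderOf_map_dvd f x))

theorem isPiElt_coe_iff {π : Set ℕ} {G : Type*} [Group G] {M : Subgroup G} (x : M) :
    IsPiElt π (x : G) ↔ IsPiElt π x := by
  unfold IsPiElt
  rw [Subgroup.orderOf_coe]

theorem IsPiElt.pow {π : Set ℕ} {G : Type*} [Monoid G] {x : G} (hx : IsPiElt π x) (n : ℕ) :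
    IsPiElt π (x ^ n) :=
  fun p hp hpx => hx p hp (dvd_trans hpx (orderOf_pow_dvd n))

/-- A `π`-element of a `π'`-group is trivial. -/
theorem eq_one_of_isPiElt_of_isPiNum_compl {π : Set ℕ} {G : Type*} [Group G] [Finite G]
    (h : IsPiNum πᶜ (Nat.card G)) {x : G} (hx : IsPiElt π x) : x = 1 := by
  rw [← orderOf_eq_one_iff]
  by_contra hne
  obtain ⟨p, hp, hpx⟩ := Nat.exists_prime_and_dvd hne
  exact h p hp (dvd_trans hpx (orderOf_dvd_natCard x)) (hx p hp hpx)

/-- Subgroups inherit `π`-closure. -/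
theorem PiClosed.subgroup {π : Set ℕ} {G : Type*} [Group G] (h : PiClosed π G) (M : Subgroup G) :
    PiClosed π M := by
  obtain ⟨K, hK⟩ := h
  refine ⟨K.subgroupOf M, fun x => ?_⟩
  rw [Subgroup.mem_subgroupOf, hK, isPiElt_coe_iff]

/-- Pull back `π`-closure along a quotient by a normal `π`-subgroup. -/
theorem PiClosed.of_quotient {π : Set ℕ} {G : Type*} [Group G] [Finite G] (L : Subgroup G)
    [L.Normal] (hL : IsPiNum π (Nat.card L)) (h : PiClosed π (G ⧸ L)) : PiClosed π G := by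
  obtain ⟨B, hB⟩ := h
  refine ⟨B.comap (QuotientGroup.mk' L), fun x => ?_⟩
  rw [Subgroup.mem_comap, hB]
  constructor
  · intro hx p hp hpx
    set o := orderOf (QuotientGroup.mk' L x) with ho
    have h1 : x ^ o ∈ L := by
      rw [← QuotientGroup.eq_one_iff, QuotientGroup.mk_pow]
      exact pow_orderOf_eq_one _
    have h2 : (x ^ o) ^ Nat.card L = 1 := by
      have h' : ((⟨x ^ o, h1⟩ : L) ^ Nat.card L : L) = 1 := pow_card_eq_one'
      have := congrArg Subtype.val h'
      rw [Subgroup.coe_pow, Subgroup.coe_one] at this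
      exact this
    rw [← pow_mul] at h2
    have h3 : p ∣ o * Nat.card L := dvd_trans hpx (orderOf_dvd_of_pow_eq_one h2)
    rcases (Nat.Prime.dvd_mul hp).1 h3 with h4 | h4
    · exact hx p hp h4
    · exact hL p hp h4
  · intro hx
    exact hx.map _

/-- A finite group with a central Hall `π'`-subgroup is `π`-closed. -/
theorem PiClosed.of_central_hall {π : Set ℕ} {E : Type*} [Group E] [Finite E] (Z : Subgroup E)
    (hZ : Z ≤ Subgroup.center E) (hZcard : IsPiNum πᶜ (Nat.card Z)) (hZidx : IsPiNum π Z.index) :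
    PiClosed π E := by
  haveI : IsMulCommutative Z :=
    ⟨⟨fun a b => Subtype.ext (((Subgroup.mem_center_iff.1 (hZ a.2)) b.1).symm)⟩⟩
  have key : ∀ (g : E) (k : ℕ) (g₀ : E), g₀⁻¹ * g ^ k * g₀ ∈ Z → g₀⁻¹ * g ^ k * g₀ = g ^ k := by
    intro g k g₀ hk
    have hc := Subgroup.mem_center_iff.1 (hZ hk) g₀
    calc g₀⁻¹ * g ^ k * g₀ = g₀⁻¹ * g ^ k * g₀ * g₀ * g₀⁻¹ := by group
      _ = g₀ * (g₀⁻¹ * g ^ k * g₀) * g₀⁻¹ := by rw [← hc]
      _ = g ^ k := by group
  open scoped IsMulCommutative in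
  let V : E →* Z := MonoidHom.transfer (MonoidHom.id Z)
  open scoped IsMulCommutative in
  have hV : ∀ g : E, ((V g : Z) : E) = g ^ Z.index := by
    intro g
    have := MonoidHom.transfer_eq_pow (MonoidHom.id Z) g (key g)
    rw [show V g = MonoidHom.transfer (MonoidHom.id Z) g from rfl, this]
    rfl
  refine ⟨V.ker, fun x => ?_⟩
  rw [MonoidHom.mem_ker]
  constructor
  · intro hx p hp hpx
    have h1 : x ^ Z.index = 1 := by rw [← hV, hx]; rfl
    exact hZidx p hp (dvd_trans hpx (orderOf_dvd_of_pow_eq_one h1))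
  · intro hx
    have h1 : IsPiElt π (V x) := hx.map V
    exact eq_one_of_isPiElt_of_isPiNum_compl hZcard h1

/-- The order of an element of order coprime to `|N|` is unchanged modulo `N`. -/
theorem orderOf_mk_of_coprime {G : Type*} [Group G] [Finite G] (N : Subgroup G) [N.Normal]
    (x : G) (hcop : (orderOf x).Coprime (Nat.card N)) :
    orderOf (QuotientGroup.mk' N x) = orderOf x := by
  apply Nat.dvd_antisymm (orderOf_map_dvd _ x)
  set o := orderOf (QuotientGroup.mk' N x) with ho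
  have h1 : x ^ o ∈ N := by
    rw [← QuotientGroup.eq_one_iff, QuotientGroup.mk_pow]
    exact pow_orderOf_eq_one _
  have h2 : orderOf (x ^ o) ∣ Nat.card N := by
    have := orderOf_dvd_natCard (⟨x ^ o, h1⟩ : N)
    rwa [Subgroup.orderOf_mk] at this
  have h3 : orderOf (x ^ o) ∣ orderOf x := orderOf_pow_dvd o
  have h4 : orderOf (x ^ o) = 1 := Nat.eq_one_of_dvd_coprimes hcop h3 h2
  rw [orderOf_eq_one_iff] at h4
  exact orderOf_dvd_of_pow_eq_one h4

/-- If all `π`-elements centralize the `π'`-kernel of a surjection onto a `π`-closed group, the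
source is `π`-closed. -/
theorem PiClosed.of_central_ker {π : Set ℕ} {G Q : Type*} [Group G] [Finite G] [Group Q]
    (f : G →* Q) (hf : Function.Surjective f) (hker : IsPiNum πᶜ (Nat.card f.ker))
    (hcent : ∀ x : G, IsPiElt π x → x ∈ Subgroup.centralizer ((f.ker : Subgroup G) : Set G))
    (hQ : PiClosed π Q) : PiClosed π G := by
  haveI : Finite Q := Finite.of_surjective f hf
  obtain ⟨M, hM⟩ := hQ
  have hMcard : IsPiNum π (Nat.card M) :=
    isPiNum_card_of_forall_isPiElt (fun m => (isPiElt_coe_iff m).1 ((hM m).1 m.2))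
  set E : Subgroup G := M.comap f ⊓ Subgroup.centralizer ((f.ker : Subgroup G) : Set G) with hE
  have hEpi : ∀ x : G, IsPiElt π x → x ∈ E := by
    intro x hx
    exact Subgroup.mem_inf.2 ⟨Subgroup.mem_comap.2 ((hM (f x)).2 (hx.map f)), hcent x hx⟩
  set Z : Subgroup E := (f.ker).subgroupOf E with hZ
  have hZc : Z ≤ Subgroup.center E := by
    intro z hz
    rw [Subgroup.mem_center_iff]
    intro e
    have he : (e : G) ∈ Subgroup.centralizer ((f.ker : Subgroup G) : Set G) :=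
      (Subgroup.mem_inf.1 e.2).2
    have hz' : (z : G) ∈ f.ker := Subgroup.mem_subgroupOf.1 hz
    apply Subtype.ext
    rw [Subgroup.coe_mul, Subgroup.coe_mul]
    exact (Subgroup.mem_centralizer_iff.1 he z hz').symm
  have hZcard : IsPiNum πᶜ (Nat.card Z) := by
    apply hker.of_dvd
    have h1 : Nat.card Z = Nat.card (f.ker ⊓ E : Subgroup G) :=
      Nat.card_congr (Subgroup.subgroupOfEquivOfLe (inf_le_right : f.ker ⊓ E ≤ E)).toEquiv |>.symm ▸
        (by rw [hZ, Subgroup.inf_subgroupOf_right])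
    rw [h1]
    exact Subgroup.card_dvd_of_le inf_le_left
  have hZidx : IsPiNum π Z.index := by
    apply hMcard.of_dvd
    set g : E →* Q := f.comp E.subtype with hg
    have hgk : g.ker = Z := by
      rw [hg, hZ, ← MonoidHom.comap_ker]
      rfl
    rw [← hgk, Subgroup.index_ker]
    apply Subgroup.card_dvd_of_le
    rintro _ ⟨e, rfl⟩
    exact (Subgroup.mem_inf.1 e.2).1
  obtain ⟨B', hB'⟩ := PiClosed.of_central_hall Z hZc hZcard hZidx
  refine ⟨B'.map E.subtype, fun x => ?_⟩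
  constructor
  · rintro ⟨b, hb, rfl⟩
    exact (isPiElt_coe_iff b).2 ((hB' b).1 hb)
  · intro hx
    exact ⟨⟨x, hEpi x hx⟩, (hB' _).2 ((isPiElt_coe_iff (⟨x, hEpi x hx⟩ : E)).1 hx), rfl⟩

end Cfsg.Agent.Lib.Helper3
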