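import Mathlib

set_option autoImplicit false

namespace Cfsg.Agent.Lib.Helper3

/-- Lifting a `π`-element along a surjective homomorphism from a finite group. -/
theorem exists_pi_lift {G Q : Type*} [Group G] [Finite G] [Group Q] (f : G →* Q)
    (hf : Function.Surjective f) (π : Set ℕ) (y : Q)
    (hy : ∀ r : ℕ, r.Prime → r ∣ orderOf y → r ∈ π) :
    ∃ x : G, f x = y ∧ ∀ r : ℕ, r.Prime → r ∣ orderOf x → r ∈ π := by
  classical
  set S : Set G := {x | f x = y} with hS
  have hne : S.Nonempty := hf y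
  obtain ⟨x, hxS, hmin⟩ := Set.exists_min_image S orderOf S.toFinite hne
  refine ⟨x, hxS, ?_⟩
  intro r hr hrx
  by_contra hrπ
  have hfx : f x = y := hxS
  have hry : ¬ r ∣ orderOf y := fun h => hrπ (hy r hr h)
  set n := orderOf y with hn
  have hnx : n ∣ orderOf x := by
    rw [hn, ← hfx]; exact orderOf_map_dvd f x
  have hxpos : 0 < orderOf x := orderOf_pos x
  have hnpos : 0 < n := Nat.pos_of_dvd_of_pos hnx hxpos
  have hcop : Nat.Coprime r n := (Nat.Prime.coprime_iff_not_dvd hr).2 hry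
  set e := r ^ Nat.totient n with he
  have he1 : e ≡ 1 [MOD n] := Nat.ModEq.pow_totient hcop
  have hre : r ∣ e := dvd_pow_self r (Nat.totient_pos.2 hnpos).ne'
  have he0 : e ≠ 0 := pow_ne_zero _ hr.ne_zero
  have hx' : x ^ e ∈ S := by
    change f (x ^ e) = y
    rw [map_pow, hfx]
    have : y ^ e = y ^ 1 := pow_eq_pow_iff_modEq.2 he1
    rw [this, pow_one]
  have h1 := hmin (x ^ e) hx'
  rw [orderOf_pow' x he0] at h1
  have hrg : r ∣ Nat.gcd (orderOf x) e := Nat.dvd_gcd hrx hre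
  have hg2 : 2 ≤ Nat.gcd (orderOf x) e :=
    le_trans hr.two_le (Nat.le_of_dvd (Nat.gcd_pos_of_pos_left _ hxpos) hrg)
  have : orderOf x / Nat.gcd (orderOf x) e < orderOf x := Nat.div_lt_self hxpos hg2
  omega

end Cfsg.Agent.Lib.Helper3
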