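import Mathlib
import Cfsg.Agent.Lib.Helper3.PiSec2
import Cfsg.Agent.Lib.Helper6.ClassFun

set_option autoImplicit false
set_option linter.unusedSectionVars false

namespace Cfsg.Agent.Lib.Helper3.PiSec
open Cfsg Cfsg.Agent.Lib.Helper6
open scoped ComplexConjugate

section G
variable {G : Type*} [Group G] [Fintype G]

theorem section_iff (m n e e' : ℕ) (hmn : Nat.card G = m * n) (hcop : Nat.Coprime m n)
    (hem : m ∣ e) (hen : e ≡ 1 [MOD n]) (hem' : e' ≡ 1 [MOD m]) (hen' : n ∣ e') (g x : G) :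
    (∃ v : G, IsConj v g ∧ (∃ u : G, x = u * v ∧ Commute u v ∧ Nat.Coprime (orderOf u) n ∧
      Nat.Coprime (orderOf v) m)) ↔ IsConj (x ^ e) g := by
  have hord : ∀ y : G, orderOf y ∣ m * n := fun y => hmn ▸ orderOf_dvd_natCard y
  constructor
  · rintro ⟨v, hv, u, rfl, hc, hu, hv'⟩
    have h1 : orderOf u ∣ m := hu.dvd_of_dvd_mul_right (hord u)
    have h2 : orderOf v ∣ n := hv'.dvd_of_dvd_mul_left (hord v)
    have h3 : u ^ e = 1 := orderOf_dvd_iff_pow_eq_one.1 (h1.trans hem)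
    have h4 : v ^ e = v := by
      have : e ≡ 1 [MOD orderOf v] := hen.of_dvd h2
      rw [← pow_one v, ← pow_mul, one_mul]
      exact pow_eq_pow_iff_modEq.2 this
    rw [hc.mul_pow, h3, h4, one_mul]
    exact hv
  · intro h
    refine ⟨x ^ e, h, x ^ e', ?_, (Commute.refl x).pow_pow e' e, ?_, ?_⟩
    · rw [← pow_add]
      have h1 : e' + e ≡ 1 [MOD m * n] := by
        rw [← Nat.modEq_and_modEq_iff_modEq_mul hcop]
        constructor
        · have : e ≡ 0 [MOD m] := (Nat.modEq_zero_iff_dvd).2 hem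
          simpa using hem'.add this
        · have : e' ≡ 0 [MOD n] := (Nat.modEq_zero_iff_dvd).2 hen'
          simpa using this.add hen
      have h2 : e' + e ≡ 1 [MOD orderOf x] := h1.of_dvd (hord x)
      conv_lhs => rw [← pow_one x]
      exact (pow_eq_pow_iff_modEq.2 h2).symm
    · have h1 : orderOf (x ^ e') ∣ m := by
        apply orderOf_dvd_of_pow_eq_one
        rw [← pow_mul]
        apply orderOf_dvd_iff_pow_eq_one.1
        obtain ⟨k, hk⟩ := hen'
        refine (hord x).trans ⟨k, ?_⟩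
        rw [hk]; ring
      exact Nat.Coprime.coprime_dvd_left h1 hcop
    · have h1 : orderOf (x ^ e) ∣ n := by
        apply orderOf_dvd_of_pow_eq_one
        rw [← pow_mul]
        apply orderOf_dvd_iff_pow_eq_one.1
        obtain ⟨k, hk⟩ := hem
        refine (hord x).trans ⟨k, ?_⟩
        rw [hk]; ring
      exact Nat.Coprime.coprime_dvd_left h1 hcop.symm

theorem pi_section_main (m n : ℕ) (hmn : Nat.card G = m * n) (hcop : Nat.Coprime m n) (g : G)
    (ϑ : G → ℂ)
    (hϑ1 : ∀ x : G, (∃ v : G, IsConj v g ∧ (∃ u : G, x = u * v ∧ Commute u v ∧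
      Nat.Coprime (orderOf u) n ∧ Nat.Coprime (orderOf v) m)) → ϑ x = n)
    (hϑ0 : ∀ x : G, (¬ ∃ v : G, IsConj v g ∧ (∃ u : G, x = u * v ∧ Commute u v ∧
      Nat.Coprime (orderOf u) n ∧ Nat.Coprime (orderOf v) m)) → ϑ x = 0) :
    ∃ c : Cfsg.IrrCharacter G → ℂ, (∀ χ, c χ ∈ Cfsg.AlgInt) ∧
      ϑ = ∑ᶠ χ : Cfsg.IrrCharacter G, c χ • (χ : G → ℂ) := by
  classical
  have : Fintype (Cfsg.IrrCharacter G) := Fintype.ofFinite _
  let e : ℕ := (Nat.chineseRemainder hcop 0 1 : ℕ)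
  have he := (Nat.chineseRemainder hcop 0 1).2
  have hem : m ∣ e := (Nat.modEq_zero_iff_dvd).1 he.1
  have hen : e ≡ 1 [MOD n] := he.2
  let e' : ℕ := (Nat.chineseRemainder hcop 1 0 : ℕ)
  have he' := (Nat.chineseRemainder hcop 1 0).2
  have hem' : e' ≡ 1 [MOD m] := he'.1
  have hen' : n ∣ e' := (Nat.modEq_zero_iff_dvd).1 he'.2
  have hkey := section_iff m n e e' hmn hcop hem hen hem' hen' g
  have hϑ : ∀ x, ϑ x = if IsConj (x ^ e) g then (n : ℂ) else 0 := by
    intro x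
    by_cases h : IsConj (x ^ e) g
    · rw [if_pos h]; exact hϑ1 x ((hkey x).2 h)
    · rw [if_neg h]; exact hϑ0 x (fun h' => h ((hkey x).1 h'))
  have hcf : IsClassFunction G ϑ := by
    intro x h
    rw [hϑ, hϑ]
    have h1 : (h * x * h⁻¹) ^ e = h * x ^ e * h⁻¹ := conj_pow
    have h2 : IsConj (h * x ^ e * h⁻¹) g ↔ IsConj (x ^ e) g := by
      have h3 : IsConj (x ^ e) (h * x ^ e * h⁻¹) := isConj_iff.2 ⟨h, rfl⟩
      exact ⟨fun h4 => h3.trans h4, fun h4 => h3.symm.trans h4⟩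
    rw [h1]
    simp only [h2]
  refine ⟨fun χ => classInner ϑ (χ : G → ℂ), ?_, ?_⟩
  · intro χ
    change IsIntegral ℤ (classInner ϑ (χ : G → ℂ))
    apply isIntegral_classInner_of_elementary ϑ hcf _ χ χ.2
    intro E _ hEl f hf
    obtain ⟨p, hp, hEp⟩ := hEl
    have hcardE : Nat.card E ∣ m * n := hmn ▸ Subgroup.card_subgroup_dvd_card E
    apply isIntegral_classInner_section m n e hcardE hcop hem
      (pow_mul_of_isElementary p hp hEp m n e hcardE hcop hem hen)
      {y : E | IsConj (y : G) g} (fun x : E => ϑ x) ?_ f hf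
    intro y
    rw [hϑ]
    simp only [Set.mem_ofPred_eq, SubgroupClass.coe_pow]
  · rw [finsum_eq_sum_of_fintype]
    exact classFunction_eq_sum ϑ hcf

end G

end Cfsg.Agent.Lib.Helper3.PiSec
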