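import Mathlib
import Cfsg.Agent.Lib.Helper3.PiSec3
import Cfsg.Agent.Lib.Helper8.PReg1
import Cfsg.Agent.Lib.Helper6.BlkLocal

set_option autoImplicit false
set_option linter.unusedSectionVars false

namespace Cfsg.Agent.Lib.Helper3.PiSec
open Cfsg Cfsg.Agent.Lib.Helper6 Cfsg.Agent.Lib.Helper8.PReg
open scoped ComplexConjugate

section P
variable {G : Type*} [Group G] [Finite G]
variable {p : ℕ} {M : Ideal Cfsg.AlgInt}

/-- `χ(x) ≡ χ(x_{p'})` modulo a maximal ideal over `p`. -/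
theorem memLocalIdeal_sub_pRegular (hM : Cfsg.IsPModular p M) {χ : G → ℂ} (hχ : IsCharacter G χ)
    (a y₀ : G) (hc : Commute a y₀) (k : ℕ) (ha : orderOf a = p ^ k) (hy : ¬ p ∣ orderOf y₀) :
    Cfsg.MemLocalIdeal M (χ (a * y₀) - χ y₀) := by
  have hp : p.Prime := hM.1
  have : Fact p.Prime := ⟨hp⟩
  set d := orderOf y₀ with hd
  have hdpos : 0 < d := orderOf_pos y₀
  have hcop : Nat.Coprime p d := (Nat.Prime.coprime_iff_not_dvd hp).2 hy
  set t := Nat.totient d with ht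
  have htpos : 0 < t := Nat.totient_pos.2 hdpos
  have h1 : p ^ t ≡ 1 [MOD d] := Nat.ModEq.pow_totient hcop
  set n := t * k with hn
  have h2 : p ^ n ≡ 1 [MOD d] := by
    rw [hn, pow_mul]
    simpa using h1.pow k
  have h3 : a ^ (p ^ n) = 1 := by
    apply orderOf_dvd_iff_pow_eq_one.1
    rw [ha]
    apply pow_dvd_pow
    rw [hn]
    exact Nat.le_mul_of_pos_left k htpos
  have h4 : y₀ ^ (p ^ n) = y₀ := by
    conv_rhs => rw [← pow_one y₀]
    exact pow_eq_pow_iff_modEq.2 h2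
  have h5 : (a * y₀) ^ (p ^ n) = y₀ := by
    rw [hc.mul_pow, h3, h4, one_mul]
  obtain ⟨γ₁, hγ₁⟩ := frob_congr p hχ (a * y₀) n
  obtain ⟨γ₂, hγ₂⟩ := frob_congr p hχ y₀ n
  rw [h5] at hγ₁
  rw [h4] at hγ₂
  let u : Cfsg.AlgInt := ⟨χ (a * y₀), IsCharacter.isIntegral_apply hχ _⟩
  let v : Cfsg.AlgInt := ⟨χ y₀, IsCharacter.isIntegral_apply hχ _⟩
  obtain ⟨r, hr⟩ := exists_add_pow_prime_pow_eq hp u (-v) n
  have hpM : (p : Cfsg.AlgInt) ∈ M := hM.2.2
  have hneg : ∃ s : Cfsg.AlgInt, (-v) ^ (p ^ n) = - v ^ (p ^ n) + (p : Cfsg.AlgInt) * s := by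
    rcases Nat.even_or_odd (p ^ n) with he | ho
    · have hp2 : p = 2 := by
        have : Even p := by
          by_contra hne
          exact (Nat.not_even_iff_odd.2 ((Nat.not_even_iff_odd.1 hne).pow)) he
        exact (Nat.Prime.even_iff hp).1 this
      refine ⟨v ^ (p ^ n), ?_⟩
      rw [he.neg_pow, hp2]
      push_cast
      ring
    · exact ⟨0, by rw [ho.neg_pow]; ring⟩
  obtain ⟨s, hs⟩ := hneg
  have huv : u ^ (p ^ n) - v ^ (p ^ n) = (p : Cfsg.AlgInt) * (γ₁ - γ₂) := by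
    apply Subtype.ext
    push_cast
    have e1 : ((u : Cfsg.AlgInt) : ℂ) = χ (a * y₀) := rfl
    have e2 : ((v : Cfsg.AlgInt) : ℂ) = χ y₀ := rfl
    rw [e1, e2]
    linear_combination hγ₁ - hγ₂
  have hmem : (u - v) ^ (p ^ n) ∈ M := by
    have e3 : (u - v) ^ (p ^ n) = (p : Cfsg.AlgInt) * ((γ₁ - γ₂) + s + u * (-v) * r) := by
      rw [sub_eq_add_neg, hr, hs]
      linear_combination huv
    rw [e3]
    exact M.mul_mem_right _ hpM
  have hprime : M.IsPrime := IsPModular.isPrime hM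
  have hmem2 : u - v ∈ M := hprime.mem_of_pow_mem _ hmem
  have := memLocalIdeal_coe hM hmem2
  simpa [u, v] using this

end P

end Cfsg.Agent.Lib.Helper3.PiSec
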