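import Mathlib
import Cfsg.Agent.Lib.Helper3.PiSec4

set_option autoImplicit false
set_option linter.unusedSectionVars false

namespace Cfsg.Agent.Lib.Helper3.PiSec
open Cfsg Cfsg.Agent.Lib.Helper6 Cfsg.Agent.Lib.Helper8.PReg
open scoped ComplexConjugate

section Q
variable {G : Type*} [Group G] [Finite G]
variable {p : ℕ} {M : Ideal Cfsg.AlgInt}

/-- non-conjugate `p`-regular elements are separated modulo `M` by some irreducible character -/
theorem isConj_of_memLocalIdeal (hM : Cfsg.IsPModular p M) (u v : G) (hu : ¬ p ∣ orderOf u)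
    (hv : ¬ p ∣ orderOf v)
    (h : ∀ χ : Cfsg.IrrCharacter G, Cfsg.MemLocalIdeal M ((χ : G → ℂ) u - (χ : G → ℂ) v)) :
    IsConj u v := by
  classical
  have : Fintype G := Fintype.ofFinite G
  have : Fintype (Cfsg.IrrCharacter G) := Fintype.ofFinite _
  have hp : p.Prime := hM.1
  by_contra hne
  have hG0 : Nat.card G ≠ 0 := Nat.card_pos.ne'
  set m := ordProj[p] (Nat.card G) with hm
  set n := ordCompl[p] (Nat.card G) with hn
  have hmn : Nat.card G = m * n := (Nat.ordProj_mul_ordCompl_eq_self (Nat.card G) p).symm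
  have hpn : Nat.Coprime p n := Nat.coprime_ordCompl hp hG0
  have hcop : Nat.Coprime m n := Nat.Coprime.pow_left _ hpn
  have hnp : ¬ p ∣ n := Nat.not_dvd_ordCompl hp hG0
  -- exponents
  let e : ℕ := (Nat.chineseRemainder hcop 0 1 : ℕ)
  have he := (Nat.chineseRemainder hcop 0 1).2
  have hem : m ∣ e := (Nat.modEq_zero_iff_dvd).1 he.1
  have hen : e ≡ 1 [MOD n] := he.2
  let e' : ℕ := (Nat.chineseRemainder hcop 1 0 : ℕ)
  have he' := (Nat.chineseRemainder hcop 1 0).2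
  have hem' : e' ≡ 1 [MOD m] := he'.1
  have hen' : n ∣ e' := (Nat.modEq_zero_iff_dvd).1 he'.2
  have hkey := section_iff m n e e' hmn hcop hem hen hem' hen' u
  -- p-regular elements are fixed by the e-th power
  have hfix : ∀ w : G, ¬ p ∣ orderOf w → w ^ e = w := by
    intro w hw
    have h1 : orderOf w ∣ m * n := hmn ▸ orderOf_dvd_natCard w
    have h2 : Nat.Coprime (orderOf w) m :=
      Nat.Coprime.pow_right _ ((Nat.Prime.coprime_iff_not_dvd hp).2 hw).symm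
    have h3 : orderOf w ∣ n := h2.dvd_of_dvd_mul_left h1
    conv_rhs => rw [← pow_one w]
    exact pow_eq_pow_iff_modEq.2 (hen.of_dvd h3)
  let P : G → Prop := fun x => ∃ v' : G, IsConj v' u ∧ (∃ u' : G, x = u' * v' ∧ Commute u' v' ∧
      Nat.Coprime (orderOf u') n ∧ Nat.Coprime (orderOf v') m)
  let ϑ : G → ℂ := fun x => if P x then (n : ℂ) else 0
  obtain ⟨c, hc, hsum⟩ := pi_section_main m n hmn hcop u ϑ
    (fun x hx => if_pos hx) (fun x hx => if_neg hx)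
  rw [finsum_eq_sum_of_fintype] at hsum
  have hϑu : ϑ u = n := by
    apply if_pos
    apply (hkey u).2
    rw [hfix u hu]
  have hϑv : ϑ v = 0 := by
    apply if_neg
    intro hPv
    have h' := (hkey v).1 hPv
    rw [hfix v hv] at h'
    exact hne h'.symm
  have h1 : (n : ℂ) = ∑ χ : Cfsg.IrrCharacter G, c χ * ((χ : G → ℂ) u - (χ : G → ℂ) v) := by
    have h2 := congrFun hsum u
    have h3 := congrFun hsum v
    rw [hϑu] at h2
    rw [hϑv] at h3
    simp only [Finset.sum_apply, Pi.smul_apply, smul_eq_mul] at h2 h3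
    simp only [mul_sub, Finset.sum_sub_distrib]
    rw [← h2, ← h3, sub_zero]
  have h2 : Cfsg.MemLocalIdeal M (n : ℂ) := by
    rw [h1]
    apply MemLocalIdeal.sum hM
    intro χ _
    exact MemLocalIdeal.mul_left hM (memLocalRing_of_isIntegral hM (hc χ)) (h χ)
  exact hnp ((memLocalIdeal_natCast_iff hM n).1 h2)

theorem pRegular_conj_iff (hM : Cfsg.IsPModular p M) (x y a b : G) (ha : Cfsg.IsPPart p x a)
    (hb : Cfsg.IsPPart p y b) :
    IsConj (a⁻¹ * x) (b⁻¹ * y) ↔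
      ∀ χ : Cfsg.IrrCharacter G, Cfsg.MemLocalIdeal M ((χ : G → ℂ) x - (χ : G → ℂ) y) := by
  obtain ⟨x₀, rfl, hcx, ⟨kx, hkx⟩, hx₀⟩ := ha
  obtain ⟨y₀, rfl, hcy, ⟨ky, hky⟩, hy₀⟩ := hb
  have e1 : a⁻¹ * (a * x₀) = x₀ := by group
  have e2 : b⁻¹ * (b * y₀) = y₀ := by group
  rw [e1, e2]
  have hPx : ∀ χ : Cfsg.IrrCharacter G,
      Cfsg.MemLocalIdeal M ((χ : G → ℂ) (a * x₀) - (χ : G → ℂ) x₀) := fun χ =>
    memLocalIdeal_sub_pRegular hM (IsIrrCharacter.isCharacter χ.2) a x₀ hcx kx hkx hx₀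
  have hPy : ∀ χ : Cfsg.IrrCharacter G,
      Cfsg.MemLocalIdeal M ((χ : G → ℂ) (b * y₀) - (χ : G → ℂ) y₀) := fun χ =>
    memLocalIdeal_sub_pRegular hM (IsIrrCharacter.isCharacter χ.2) b y₀ hcy ky hky hy₀
  constructor
  · intro hconj χ
    have hcf := IsIrrCharacter.isClassFunction χ.2
    obtain ⟨g, hg⟩ := isConj_iff.1 hconj
    have h1 : (χ : G → ℂ) x₀ = (χ : G → ℂ) y₀ := by
      rw [← hg]; exact (hcf x₀ g).symm
    have h2 := MemLocalIdeal.sub hM (hPx χ) (hPy χ)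
    have h3 : (χ : G → ℂ) (a * x₀) - (χ : G → ℂ) x₀ - ((χ : G → ℂ) (b * y₀) - (χ : G → ℂ) y₀)
        = (χ : G → ℂ) (a * x₀) - (χ : G → ℂ) (b * y₀) := by
      rw [h1]; ring
    rw [h3] at h2
    exact h2
  · intro h
    apply isConj_of_memLocalIdeal hM x₀ y₀ hx₀ hy₀
    intro χ
    have h2 := MemLocalIdeal.add hM (MemLocalIdeal.sub hM (h χ) (hPx χ)) (hPy χ)
    have h3 : (χ : G → ℂ) (a * x₀) - (χ : G → ℂ) (b * y₀)
        - ((χ : G → ℂ) (a * x₀) - (χ : G → ℂ) x₀) + ((χ : G → ℂ) (b * y₀) - (χ : G → ℂ) y₀)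
        = (χ : G → ℂ) x₀ - (χ : G → ℂ) y₀ := by ring
    rw [h3] at h2
    exact h2

end Q

end Cfsg.Agent.Lib.Helper3.PiSec
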