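import Mathlib
import Cfsg.Agent.Lib.Helper3.ShI

/-!
# Frobenius groups of order `pq` of automorphisms, part A: the relations, numerical facts,
lifting of fixed points, invariant Sylow subgroups.
-/

set_option autoImplicit false
set_option maxHeartbeats 4000000
set_option maxRecDepth 100000
set_option linter.unusedVariables false
set_option linter.unusedSectionVars false
set_option linter.style.haveILetI false
set_option linter.deprecated false

namespace Cfsg.Agent.Lib.Helper3.Sh

open Cfsg.Agent.Lib.Helper8.FP4 Cfsg.Agent.Lib.Helper6.Wd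

section monoid

variable {M : Type*} [Monoid M]

theorem rel_pow_right (a b : M) (k : ℕ) (h : b * a = a ^ k * b) (i : ℕ) :
    b * a ^ i = a ^ (i * k) * b := by
  induction i with
  | zero => simp
  | succ i ih =>
    rw [pow_succ, ← mul_assoc, ih, mul_assoc, h, ← mul_assoc, ← pow_add]
    congr 2
    ring

theorem rel_pow (a b : M) (k : ℕ) (h : b * a = a ^ k * b) (j i : ℕ) :
    b ^ j * a ^ i = a ^ (i * k ^ j) * b ^ j := by
  induction j generalizing i with
  | zero => simp
  | succ j ih =>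
    rw [pow_succ b, mul_assoc, rel_pow_right a b k h i, ← mul_assoc, ih, mul_assoc, ← pow_succ]
    congr 2
    ring

theorem rel_swap (a b : M) (k q : ℕ) (hq : 0 < q) (hb : b ^ q = 1) (h : b * a = a ^ k * b) :
    a * b = b * a ^ (k ^ (q - 1)) := by
  have h1 := rel_pow a b k h (q - 1) 1
  rw [pow_one, one_mul] at h1
  have h2 : b * (b ^ (q - 1) * a) * b = b * (a ^ (k ^ (q - 1)) * b ^ (q - 1)) * b := by rw [h1]
  have h3 : b * b ^ (q - 1) = 1 := by
    rw [← pow_succ', Nat.sub_add_cancel hq, hb]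
  have h4 : b ^ (q - 1) * b = 1 := by
    rw [← pow_succ, Nat.sub_add_cancel hq, hb]
  calc a * b = (b * b ^ (q - 1)) * a * b := by rw [h3, one_mul]
    _ = b * (b ^ (q - 1) * a) * b := by simp only [mul_assoc]
    _ = b * (a ^ (k ^ (q - 1)) * b ^ (q - 1)) * b := h2
    _ = b * a ^ (k ^ (q - 1)) * (b ^ (q - 1) * b) := by simp only [mul_assoc]
    _ = b * a ^ (k ^ (q - 1)) := by rw [h4, mul_one]

theorem pow_eq_pow_of_modEq (a : M) (p : ℕ) (ha : a ^ p = 1) (i j : ℕ) (h : i ≡ j [MOD p]) :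
    a ^ i = a ^ j := by
  rw [← Nat.mod_add_div i p, ← Nat.mod_add_div j p, pow_add, pow_add, pow_mul, pow_mul, ha,
    one_pow, one_pow, mul_one, mul_one]
  unfold Nat.ModEq at h
  rw [h]

end monoid

/-- The numerical data: `k` has multiplicative order `q` modulo `p`. -/
structure PQNum (p q k : ℕ) : Prop where
  hp : p.Prime
  hq : q.Prime
  hne : p ≠ q
  hkq : k ^ q ≡ 1 [MOD p]
  hk1 : ¬ k ≡ 1 [MOD p]

namespace PQNum

variable {p q k : ℕ}

theorem pow_ne_one (h : PQNum p q k) (j : ℕ) (hj0 : 0 < j) (hjq : j < q) :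
    ¬ k ^ j ≡ 1 [MOD p] := by
  haveI := Fact.mk h.hp
  haveI := Fact.mk h.hq
  intro hj
  have h1 : ((k : ZMod p)) ^ q = 1 := by
    have := (ZMod.natCast_eq_natCast_iff _ _ _).mpr h.hkq
    simpa using this
  have h2 : ((k : ZMod p)) ≠ 1 := by
    intro h2
    apply h.hk1
    have : ((k : ℕ) : ZMod p) = ((1 : ℕ) : ZMod p) := by simpa using h2
    exact (ZMod.natCast_eq_natCast_iff _ _ _).mp this
  have h3 : orderOf (k : ZMod p) = q := orderOf_eq_prime h1 h2
  have h4 : ((k : ZMod p)) ^ j = 1 := by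
    have := (ZMod.natCast_eq_natCast_iff _ _ _).mpr hj
    simpa using this
  have h5 : q ∣ j := by rw [← h3]; exact orderOf_dvd_of_pow_eq_one h4
  have := Nat.le_of_dvd hj0 h5
  omega

theorem not_dvd_k (h : PQNum p q k) : ¬ p ∣ k := by
  intro hd
  have h1 : k ^ q ≡ 0 [MOD p] := by
    rw [Nat.modEq_zero_iff_dvd]
    exact dvd_pow hd h.hq.pos.ne'
  have h2 : (1 : ℕ) ≡ 0 [MOD p] := h.hkq.symm.trans h1
  rw [Nat.modEq_zero_iff_dvd] at h2
  exact h.hp.one_lt.ne' (Nat.dvd_one.mp h2)

theorem not_dvd_k_pow (h : PQNum p q k) (j : ℕ) : ¬ p ∣ k ^ j := fun hd =>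
  h.not_dvd_k (h.hp.dvd_of_dvd_pow hd)

end PQNum

variable {G : Type*} [Group G]

/-- `s` and `r` satisfy the relations of the Frobenius group of order `pq`. -/
structure AutPQ (p q k : ℕ) (s r : MulAut G) : Prop where
  sp : s ^ p = 1
  rq : r ^ q = 1
  rs : r * s = s ^ k * r

namespace AutPQ

variable {p q k : ℕ} {s r : MulAut G}

theorem sr (h : AutPQ p q k s r) (hq : 0 < q) : s * r = r * s ^ (k ^ (q - 1)) :=
  rel_swap s r k q hq h.rq h.rs

theorem inv_r_fix (h : AutPQ p q k s r) (hq : 0 < q) : Inv r (fix s) := by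
  intro x hx
  rw [mem_fix] at hx ⊢
  have h1 := congrArg (fun a : MulAut G => a x) (h.sr hq)
  simp only [MulAut.mul_apply] at h1
  rw [h1, pow_fix hx]

theorem restrict [Finite G] (h : AutPQ p q k s r) (H : Subgroup G) (hs : Inv s H)
    (hr : Inv r H) : AutPQ p q k (restrictAut s H hs) (restrictAut r H hr) where
  sp := restrictAut_pow_eq_one s H hs p h.sp
  rq := restrictAut_pow_eq_one r H hr q h.rq
  rs := by
    ext x
    rw [MulAut.mul_apply, MulAut.mul_apply, restrictAut_apply_coe, restrictAut_apply_coe,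
      restrictAut_pow_apply_coe, restrictAut_apply_coe]
    have := congrArg (fun a : MulAut G => a (x : G)) h.rs
    simpa only [MulAut.mul_apply] using this

theorem quot [Finite G] (h : AutPQ p q k s r) (N : Subgroup G) [N.Normal] (hs : Inv s N)
    (hr : Inv r N) : AutPQ p q k (quotAut s N hs) (quotAut r N hr) where
  sp := quotAut_pow_eq_one s N hs p h.sp
  rq := quotAut_pow_eq_one r N hr q h.rq
  rs := by
    ext x
    refine QuotientGroup.induction_on x (fun g => ?_)
    rw [MulAut.mul_apply, MulAut.mul_apply, quotAut_mk, quotAut_mk, quotAut_mk, quotAut_pow_mk]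
    have := congrArg (fun a : MulAut G => a g) h.rs
    simp only [MulAut.mul_apply] at this
    rw [this]

end AutPQ

theorem not_dvd_card_of_coprime_mul [Finite G] {p q : ℕ} (hcop : (Nat.card G).Coprime (p * q))
    (H : Subgroup G) (r : ℕ) (hr : r ∣ p * q) (hr1 : r ≠ 1) : ¬ r ∣ Nat.card H := by
  intro hd
  have h1 : r ∣ Nat.card G := dvd_trans hd (Subgroup.card_subgroup_dvd_card H)
  have h2 : r ∣ Nat.gcd (Nat.card G) (p * q) := Nat.dvd_gcd h1 hr
  rw [hcop] at h2
  exact hr1 (Nat.dvd_one.mp h2)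

/-- Lifting of common fixed points through an invariant subgroup. -/
theorem lift_pq [Finite G] {p q k : ℕ} (hnum : PQNum p q k) {s r : MulAut G}
    (h : AutPQ p q k s r) (hcop : (Nat.card G).Coprime (p * q))
    (hfpf : ∀ g, s g = g → r g = g → g = 1) (N : Subgroup G) (hsN : Inv s N) (hrN : Inv r N)
    (g : G) (h1 : g⁻¹ * s g ∈ N) (h2 : g⁻¹ * r g ∈ N) : g ∈ N := by
  haveI := Fact.mk hnum.hp
  haveI := Fact.mk hnum.hq
  have hpN : ¬ p ∣ Nat.card N :=
    not_dvd_card_of_coprime_mul hcop N p (dvd_mul_right p q) hnum.hp.one_lt.ne'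
  obtain ⟨n, hn, hfix⟩ := exists_fixed_in_coset (p := p) s h.sp N hsN hpN g h1
  -- now `g * n` is fixed by `s`
  obtain ⟨N', hN'⟩ : ∃ N' : Subgroup G, N' = N ⊓ fix s := ⟨_, rfl⟩
  have hrfix := h.inv_r_fix hnum.hq.pos
  have hrN' : Inv r N' := by
    rw [hN']; exact Inv.inf' hrN hrfix
  have hqN' : ¬ q ∣ Nat.card N' :=
    not_dvd_card_of_coprime_mul hcop N' q (dvd_mul_left q p) hnum.hq.one_lt.ne'
  have hmem : (g * n)⁻¹ * r (g * n) ∈ N' := by
    rw [hN', Subgroup.mem_inf]
    constructor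
    · have e : (g * n)⁻¹ * r (g * n) = n⁻¹ * (g⁻¹ * r g) * r n := by
        rw [map_mul]; group
      rw [e]
      exact mul_mem (mul_mem (inv_mem hn) h2) (hrN n hn)
    · have h3 : r (g * n) ∈ fix s := hrfix _ (mem_fix.mpr hfix)
      exact mul_mem (inv_mem (mem_fix.mpr hfix)) h3
  obtain ⟨n', hn', hfix'⟩ := exists_fixed_in_coset (p := q) r h.rq N' hrN' hqN' (g * n) hmem
  rw [hN', Subgroup.mem_inf] at hn'
  have hs' : s (g * n * n') = g * n * n' := by
    rw [map_mul, hfix, mem_fix.mp hn'.2]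
  have h4 := hfpf _ hs' hfix'
  have h5 : g = (n * n')⁻¹ := by
    rw [mul_assoc] at h4
    exact eq_inv_of_mul_eq_one_left h4
  rw [h5]
  exact inv_mem (mul_mem hn hn'.1)

/-- Fixed-point-freeness passes to quotients by invariant normal subgroups. -/
theorem fpf_quot_pq [Finite G] {p q k : ℕ} (hnum : PQNum p q k) {s r : MulAut G}
    (h : AutPQ p q k s r) (hcop : (Nat.card G).Coprime (p * q))
    (hfpf : ∀ g, s g = g → r g = g → g = 1) (N : Subgroup G) [N.Normal] (hsN : Inv s N)
    (hrN : Inv r N) :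
    ∀ x : G ⧸ N, quotAut s N hsN x = x → quotAut r N hrN x = x → x = 1 := by
  intro x
  refine QuotientGroup.induction_on x (fun g => ?_)
  intro h1 h2
  rw [quotAut_mk] at h1 h2
  rw [QuotientGroup.eq_one_iff]
  apply lift_pq hnum h hcop hfpf N hsN hrN g
  · exact QuotientGroup.eq.mp h1.symm
  · exact QuotientGroup.eq.mp h2.symm

theorem coprime_quot [Finite G] {n : ℕ} (hcop : (Nat.card G).Coprime n) (N : Subgroup G)
    [N.Normal] : (Nat.card (G ⧸ N)).Coprime n := by
  have h1 : Nat.card (G ⧸ N) ∣ Nat.card G :=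
    ⟨Nat.card N, Subgroup.card_eq_card_quotient_mul_card_subgroup N⟩
  exact Nat.Coprime.coprime_dvd_left h1 hcop

theorem coprime_sub [Finite G] {n : ℕ} (hcop : (Nat.card G).Coprime n) (H : Subgroup G) :
    (Nat.card H).Coprime n :=
  Nat.Coprime.coprime_dvd_left (Subgroup.card_subgroup_dvd_card H) hcop

end Cfsg.Agent.Lib.Helper3.Sh
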