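import Mathlib
import Cfsg.Agent.Lib.Helper3.PqA

/-!
# Frobenius groups of order `pq` of automorphisms, part B: invariant Sylow subgroups.
-/

set_option autoImplicit false
set_option maxHeartbeats 4000000
set_option maxRecDepth 100000
set_option linter.unusedVariables false
set_option linter.unusedSectionVars false
set_option linter.style.haveILetI false
set_option linter.deprecated false

namespace Cfsg.Agent.Lib.Helper3.Sh

open Cfsg.Agent.Lib.Helper8.FP4 Cfsg.Agent.Lib.Helper6.Wd

variable {G : Type*} [Group G]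

theorem exists_fixed_conj_prime [Finite G] {s : MulAut G} {p : ℕ} [hp : Fact p.Prime]
    (hsp : s ^ p = 1) (hcop : ¬ p ∣ Nat.card G) {t : ℕ} [Fact t.Prime] (P Q : Sylow t G)
    (hP : s • P = P) (hQ : s • Q = Q) : ∃ c : G, s c = c ∧ c • P = Q := by
  obtain ⟨g, hg⟩ := MulAction.exists_smul_eq G P Q
  have hInvN : Inv s (Subgroup.normalizer (P : Set G)) := by
    intro x hx
    rw [← Sylow.smul_eq_iff_mem_normalizer] at hx ⊢
    have := aut_smul_conj_smul s x P
    rw [hx, hP] at this
    exact this.symm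
  have hmem : g⁻¹ * s g ∈ (Subgroup.normalizer (P : Set G)) := by
    rw [← Sylow.smul_eq_iff_mem_normalizer, mul_smul]
    have h1 := aut_smul_conj_smul s g P
    rw [hg, hQ, hP] at h1
    rw [← h1, ← hg, inv_smul_smul]
  have hpN : ¬ p ∣ Nat.card (Subgroup.normalizer (P : Set G)) := fun hd =>
    hcop (dvd_trans hd (Subgroup.card_subgroup_dvd_card _))
  obtain ⟨n, hn, hfix⟩ := exists_fixed_in_coset (p := p) s hsp _ hInvN hpN g hmem
  refine ⟨g * n, hfix, ?_⟩
  rw [mul_smul, Sylow.smul_eq_iff_mem_normalizer.mpr hn, hg]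

/-- Existence of a Sylow subgroup invariant under both automorphisms. -/
theorem exists_inv_sylow_pq [Finite G] {p q k : ℕ} (hnum : PQNum p q k) {s r : MulAut G}
    (h : AutPQ p q k s r) (hcop : (Nat.card G).Coprime (p * q)) (t : ℕ) [Fact t.Prime] :
    ∃ P : Sylow t G, Inv s (P : Subgroup G) ∧ Inv r (P : Subgroup G) := by
  classical
  haveI := Fact.mk hnum.hp
  haveI := Fact.mk hnum.hq
  haveI : Fintype (Sylow t G) := Fintype.ofFinite _
  have hpG : ¬ p ∣ Nat.card G := by
    have := not_dvd_card_of_coprime_mul hcop (⊤ : Subgroup G) p (dvd_mul_right p q)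
      hnum.hp.one_lt.ne'
    rwa [Subgroup.card_top] at this
  have hcardS : Nat.card (Sylow t G) ∣ Nat.card G := by
    obtain ⟨P₀⟩ : Nonempty (Sylow t G) := inferInstance
    exact dvd_trans (Sylow.card_dvd_index P₀) (Subgroup.index_dvd_card _)
  -- Step 1: an `s`-invariant Sylow subgroup
  obtain ⟨P₁, hP₁⟩ : ∃ P₁ : Sylow t G, s • P₁ = P₁ := by
    let f : Function.End (Sylow t G) := fun P => s • P
    have hfpow : ∀ k : ℕ, ∀ P, (f ^ k) P = (s ^ k) • P := by
      intro k
      induction k with
      | zero => intro P; rw [pow_zero, pow_zero, one_smul]; rfl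
      | succ k ih =>
        intro P
        rw [pow_succ', pow_succ', mul_smul, ← ih]; rfl
    have hfp : f ^ p ^ 1 = 1 := by
      funext P
      rw [pow_one, hfpow, h.sp, one_smul]; rfl
    have hmod := Equiv.Perm.card_fixedPoints_modEq (f := f) (p := p) (n := 1) hfp
    have hne : Nonempty (Function.fixedPoints f) := by
      by_contra hcon
      rw [not_nonempty_iff] at hcon
      have h0 : Fintype.card (Function.fixedPoints f) = 0 := Fintype.card_eq_zero
      rw [h0] at hmod
      have h3 : p ∣ Nat.card (Sylow t G) := by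
        rw [Nat.card_eq_fintype_card]
        exact (Nat.modEq_zero_iff_dvd).mp hmod
      exact hpG (dvd_trans h3 hcardS)
    obtain ⟨⟨P, hP⟩⟩ := hne
    exact ⟨P, hP⟩
  -- Step 2: the set of `s`-invariant Sylow subgroups has cardinality prime to `q`
  have hsr : ∀ P : Sylow t G, s • (r • P) = r • ((s ^ (k ^ (q - 1))) • P) := by
    intro P
    rw [← mul_smul, ← mul_smul, h.sr hnum.hq.pos]
  have hspow : ∀ (m : ℕ) (P : Sylow t G), s • P = P → (s ^ m) • P = P := by
    intro m P hP
    induction m with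
    | zero => rw [pow_zero, one_smul]
    | succ m ih => rw [pow_succ, mul_smul, hP, ih]
  let Ω := {P : Sylow t G // s • P = P}
  haveI : Fintype Ω := Fintype.ofFinite _
  have hΩorb : ∀ P : Sylow t G, s • P = P ↔ P ∈ MulAction.orbit (fix s) P₁ := by
    intro P
    rw [MulAction.mem_orbit_iff]
    constructor
    · intro hP
      obtain ⟨c, hc, hcP⟩ := exists_fixed_conj_prime h.sp hpG P₁ P hP₁ hP
      exact ⟨⟨c, hc⟩, hcP⟩
    · rintro ⟨c, rfl⟩
      have h1 := aut_smul_conj_smul s (c : G) P₁
      rw [hP₁, show s (c : G) = c from c.2] at h1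
      exact h1
  have hΩq : ¬ q ∣ Fintype.card Ω := by
    haveI : Fintype (MulAction.orbit (fix s) P₁) := Fintype.ofFinite _
    haveI : Fintype (fix s) := Fintype.ofFinite _
    haveI : Fintype (MulAction.stabilizer (fix s) P₁) := Fintype.ofFinite _
    have h1 : Fintype.card Ω = Fintype.card (MulAction.orbit (fix s) P₁) :=
      Fintype.card_congr (Equiv.subtypeEquivRight hΩorb)
    have h2 := MulAction.card_orbit_mul_card_stabilizer_eq_card_group (fix s) P₁
    intro hd
    rw [h1] at hd
    have h3 : q ∣ Fintype.card (fix s) := by rw [← h2]; exact Dvd.dvd.mul_right hd _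
    rw [← Nat.card_eq_fintype_card] at h3
    exact not_dvd_card_of_coprime_mul hcop (fix s) q (dvd_mul_left q p) hnum.hq.one_lt.ne' h3
  -- Step 3: an `r`-fixed point
  let f : Function.End Ω := fun P => ⟨r • P.1, by rw [hsr, hspow _ _ P.2]⟩
  have hfpow : ∀ (m : ℕ) (P : Ω), ((f ^ m) P).1 = (r ^ m) • P.1 := by
    intro m
    induction m with
    | zero => intro P; rw [pow_zero, pow_zero, one_smul]; rfl
    | succ m ih =>
      intro P
      rw [pow_succ', pow_succ', mul_smul, ← ih]; rfl
  have hfq : f ^ q ^ 1 = 1 := by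
    funext P
    apply Subtype.ext
    rw [pow_one, hfpow, h.rq, one_smul]; rfl
  have hmod := Equiv.Perm.card_fixedPoints_modEq (f := f) (p := q) (n := 1) hfq
  have hne : Nonempty (Function.fixedPoints f) := by
    by_contra hcon
    rw [not_nonempty_iff] at hcon
    have h0 : Fintype.card (Function.fixedPoints f) = 0 := Fintype.card_eq_zero
    rw [h0] at hmod
    exact hΩq ((Nat.modEq_zero_iff_dvd).mp hmod)
  obtain ⟨⟨P, hP⟩⟩ := hne
  have hrP : r • P.1 = P.1 := congrArg Subtype.val hP
  exact ⟨P.1, inv_of_smul_eq s P.1 P.2, inv_of_smul_eq r P.1 hrP⟩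

end Cfsg.Agent.Lib.Helper3.Sh
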