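import Mathlib
import Cfsg.Agent.Lib.Helper3.PqA

/-!
# Frobenius groups of order `pq`, part C: the four types of orbits of a point under a pair of
maps satisfying the relations.
-/

set_option autoImplicit false
set_option maxHeartbeats 4000000
set_option maxRecDepth 100000
set_option linter.unusedVariables false
set_option linter.unusedSectionVars false
set_option linter.style.haveILetI false
set_option linter.deprecated false

namespace Cfsg.Agent.Lib.Helper3.Sh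

variable {𝔹 : Type*}

theorem end_pow_pow_fix (F : Function.End 𝔹) (a m : ℕ) (β : 𝔹) (h : (F ^ a) β = β) :
    (F ^ (a * m)) β = β := by
  induction m with
  | zero => rw [mul_zero, pow_zero]; rfl
  | succ m ih =>
    rw [Nat.mul_succ, pow_add]
    show (F ^ (a * m)) ((F ^ a) β) = β
    rw [h, ih]

theorem end_pow_fix (F : Function.End 𝔹) (n a : ℕ) (hn : n.Prime) (hF : F ^ n = 1)
    (ha : ¬ n ∣ a) (β : 𝔹) (h : (F ^ a) β = β) : F β = β := by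
  have hcop : Nat.Coprime a n := ((Nat.Prime.coprime_iff_not_dvd hn).mpr ha).symm
  obtain ⟨m, -, hm⟩ := Nat.exists_mul_mod_eq_one_of_coprime hcop hn.one_lt
  have h1 := end_pow_pow_fix F a m β h
  have h2 : F ^ (a * m) = F ^ 1 := by
    apply pow_eq_pow_of_modEq F n hF
    unfold Nat.ModEq
    rw [hm, Nat.mod_eq_of_lt hn.one_lt]
  rw [h2, pow_one] at h1
  exact h1

theorem end_pow_mul_fix (F : Function.End 𝔹) (n m : ℕ) (hF : F ^ n = 1) (β : 𝔹) :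
    (F ^ (n * m)) β = β := by
  rw [pow_mul, hF, one_pow]; rfl

/-- The four types of orbits. -/
theorem orbit_types (Φ Ψ : Function.End 𝔹) (p q k : ℕ) (hnum : PQNum p q k) (hΦ : Φ ^ p = 1)
    (hΨ : Ψ ^ q = 1) (hrel : Ψ * Φ = Φ ^ k * Ψ) (β₀ : 𝔹) :
    (Φ β₀ = β₀ ∧ Ψ β₀ = β₀) ∨
    (Φ β₀ = β₀ ∧ ∀ j, 0 < j → j < q → (Ψ ^ j) β₀ ≠ β₀) ∨
    (∃ i, Ψ ((Φ ^ i) β₀) = (Φ ^ i) β₀ ∧ ∀ a, 0 < a → a < p → (Φ ^ a) ((Φ ^ i) β₀) ≠ (Φ ^ i) β₀) ∨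
    (∀ i i' j j', i < p → i' < p → j < q → j' < q →
      (Φ ^ i * Ψ ^ j) β₀ = (Φ ^ i' * Ψ ^ j') β₀ → i = i' ∧ j = j') := by
  haveI := Fact.mk hnum.hp
  haveI := Fact.mk hnum.hq
  have hp := hnum.hp
  have hq := hnum.hq
  by_cases hΦ0 : Φ β₀ = β₀
  · by_cases hΨ0 : Ψ β₀ = β₀
    · exact Or.inl ⟨hΦ0, hΨ0⟩
    · refine Or.inr (Or.inl ⟨hΦ0, fun j hj0 hjq hfix => hΨ0 ?_⟩)
      refine end_pow_fix Ψ q j hq hΨ ?_ β₀ hfix
      intro hd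
      have := Nat.le_of_dvd hj0 hd
      omega
  right; right
  -- `Φ` moves every point `Φ ^ i β₀`
  have hΦa : ∀ a, 0 < a → a < p → ∀ i, (Φ ^ a) ((Φ ^ i) β₀) ≠ (Φ ^ i) β₀ := by
    intro a ha0 hap i hfix
    apply hΦ0
    have h1 : Φ ((Φ ^ i) β₀) = (Φ ^ i) β₀ := by
      refine end_pow_fix Φ p a hp hΦ ?_ _ hfix
      intro hd
      have := Nat.le_of_dvd ha0 hd
      omega
    have h2 : (Φ ^ ((p - 1) * i)) (Φ ((Φ ^ i) β₀)) = (Φ ^ ((p - 1) * i)) ((Φ ^ i) β₀) := by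
      rw [h1]
    have e1 : (Φ ^ ((p - 1) * i)) (Φ ((Φ ^ i) β₀)) = (Φ ^ (p * i + 1)) β₀ := by
      have : Φ ^ (p * i + 1) = Φ ^ ((p - 1) * i) * (Φ * Φ ^ i) := by
        rw [← pow_succ', ← pow_add]
        congr 1
        have : p = (p - 1) + 1 := (Nat.sub_add_cancel hp.pos).symm
        nlinarith
      rw [this]; rfl
    have e2 : (Φ ^ ((p - 1) * i)) ((Φ ^ i) β₀) = (Φ ^ (p * i)) β₀ := by
      have : Φ ^ (p * i) = Φ ^ ((p - 1) * i) * Φ ^ i := by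
        rw [← pow_add]
        congr 1
        have : p = (p - 1) + 1 := (Nat.sub_add_cancel hp.pos).symm
        nlinarith
      rw [this]; rfl
    rw [e1, e2, end_pow_mul_fix Φ p i hΦ, pow_succ] at h2
    have e3 : (Φ ^ (p * i) * Φ) β₀ = (Φ ^ (p * i)) (Φ β₀) := rfl
    rw [e3, end_pow_mul_fix Φ p i hΦ] at h2
    exact h2
  by_cases hQ : ∃ i, Ψ ((Φ ^ i) β₀) = (Φ ^ i) β₀
  · obtain ⟨i, hi⟩ := hQ
    exact Or.inl ⟨i, hi, fun a ha0 hap => hΦa a ha0 hap i⟩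
  right
  push Not at hQ
  -- claim C1
  have hC1 : ∀ e, 0 < e → e < q → ∀ c, (Ψ ^ e) β₀ ≠ (Φ ^ c) β₀ := by
    intro e he0 heq c hec
    have hne : ((k : ZMod p)) ^ e - 1 ≠ 0 := by
      intro h0
      apply hnum.pow_ne_one e he0 heq
      have h1 : ((k ^ e : ℕ) : ZMod p) = ((1 : ℕ) : ZMod p) := by
        push_cast
        exact sub_eq_zero.mp h0
      exact (ZMod.natCast_eq_natCast_iff _ _ _).mp h1
    obtain ⟨a, ha⟩ : ∃ a : ZMod p, a = (-(c : ZMod p)) / ((k : ZMod p) ^ e - 1) := ⟨_, rfl⟩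
    have ha2 : a * (k : ZMod p) ^ e + c = a := by
      have : a * ((k : ZMod p) ^ e - 1) = -(c : ZMod p) := by
        rw [ha, div_mul_cancel₀ _ hne]
      linear_combination this
    have hmod : a.val * k ^ e + c ≡ a.val [MOD p] := by
      apply (ZMod.natCast_eq_natCast_iff _ _ _).mp
      push_cast
      rw [ZMod.natCast_zmod_val]
      exact ha2
    apply hQ a.val
    refine end_pow_fix Ψ q e hq hΨ ?_ _ ?_
    · intro hd
      have := Nat.le_of_dvd he0 hd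
      omega
    · have h1 : (Ψ ^ e) ((Φ ^ a.val) β₀) = (Ψ ^ e * Φ ^ a.val) β₀ := rfl
      rw [h1, rel_pow Φ Ψ k hrel e a.val]
      show (Φ ^ (a.val * k ^ e)) ((Ψ ^ e) β₀) = _
      rw [hec]
      have h2 : (Φ ^ (a.val * k ^ e)) ((Φ ^ c) β₀) = (Φ ^ (a.val * k ^ e + c)) β₀ := by
        rw [pow_add]; rfl
      rw [h2, pow_eq_pow_of_modEq Φ p hΦ _ _ hmod]
  -- claim C2
  have hC2 : ∀ j a, 0 < a → a < p → (Φ ^ a) ((Ψ ^ j) β₀) ≠ (Ψ ^ j) β₀ := by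
    intro j a ha0 hap hfix
    apply hΦ0
    have h1 : Φ ((Ψ ^ j) β₀) = (Ψ ^ j) β₀ := by
      refine end_pow_fix Φ p a hp hΦ ?_ _ hfix
      intro hd
      have := Nat.le_of_dvd ha0 hd
      omega
    have h2 : (Ψ ^ ((q - 1) * j)) (Φ ((Ψ ^ j) β₀)) = (Ψ ^ ((q - 1) * j)) ((Ψ ^ j) β₀) := by
      rw [h1]
    have e0 : Ψ ^ ((q - 1) * j) * Ψ ^ j = Ψ ^ (q * j) := by
      rw [← pow_add]
      congr 1
      have : q = (q - 1) + 1 := (Nat.sub_add_cancel hq.pos).symm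
      nlinarith
    have e1 : (Ψ ^ ((q - 1) * j)) (Φ ((Ψ ^ j) β₀)) =
        (Φ ^ (k ^ ((q - 1) * j))) β₀ := by
      have h3 := rel_pow Φ Ψ k hrel ((q - 1) * j) 1
      rw [pow_one, one_mul] at h3
      have h4 : (Ψ ^ ((q - 1) * j)) (Φ ((Ψ ^ j) β₀)) = (Ψ ^ ((q - 1) * j) * Φ) ((Ψ ^ j) β₀) := rfl
      rw [h4, h3]
      show (Φ ^ (k ^ ((q - 1) * j))) ((Ψ ^ ((q - 1) * j) * Ψ ^ j) β₀) = _
      rw [e0, end_pow_mul_fix Ψ q j hΨ]
    have e2 : (Ψ ^ ((q - 1) * j)) ((Ψ ^ j) β₀) = β₀ := by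
      show (Ψ ^ ((q - 1) * j) * Ψ ^ j) β₀ = β₀
      rw [e0, end_pow_mul_fix Ψ q j hΨ]
    rw [e1, e2] at h2
    exact end_pow_fix Φ p _ hp hΦ (hnum.not_dvd_k_pow _) β₀ h2
  -- the key reduction for `j < j'`
  have hkey : ∀ i i' j j', j < j' → j' < q →
      (Φ ^ i * Ψ ^ j) β₀ = (Φ ^ i' * Ψ ^ j') β₀ → False := by
    intro i i' j j' hjj hj'q hE
    have h1 : (Φ ^ ((p - 1) * i')) ((Φ ^ i * Ψ ^ j) β₀)
        = (Φ ^ ((p - 1) * i')) ((Φ ^ i' * Ψ ^ j') β₀) := by rw [hE]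
    have e0 : Φ ^ ((p - 1) * i') * Φ ^ i' = Φ ^ (p * i') := by
      rw [← pow_add]
      congr 1
      have : p = (p - 1) + 1 := (Nat.sub_add_cancel hp.pos).symm
      nlinarith
    have e1 : (Φ ^ ((p - 1) * i')) ((Φ ^ i' * Ψ ^ j') β₀) = (Ψ ^ j') β₀ := by
      show (Φ ^ ((p - 1) * i') * Φ ^ i') ((Ψ ^ j') β₀) = _
      rw [e0, end_pow_mul_fix Φ p i' hΦ]
    have e2 : (Φ ^ ((p - 1) * i')) ((Φ ^ i * Ψ ^ j) β₀)
        = (Φ ^ ((p - 1) * i' + i)) ((Ψ ^ j) β₀) := by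
      rw [pow_add]; rfl
    rw [e1, e2] at h1
    have h2 : (Ψ ^ ((q - 1) * j)) ((Φ ^ ((p - 1) * i' + i)) ((Ψ ^ j) β₀))
        = (Ψ ^ ((q - 1) * j)) ((Ψ ^ j') β₀) := by rw [h1]
    have f0 : Ψ ^ ((q - 1) * j) * Ψ ^ j = Ψ ^ (q * j) := by
      rw [← pow_add]
      congr 1
      have : q = (q - 1) + 1 := (Nat.sub_add_cancel hq.pos).symm
      nlinarith
    have f1 : (Ψ ^ ((q - 1) * j)) ((Φ ^ ((p - 1) * i' + i)) ((Ψ ^ j) β₀))
        = (Φ ^ (((p - 1) * i' + i) * k ^ ((q - 1) * j))) β₀ := by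
      have h3 := rel_pow Φ Ψ k hrel ((q - 1) * j) ((p - 1) * i' + i)
      have h4 : (Ψ ^ ((q - 1) * j)) ((Φ ^ ((p - 1) * i' + i)) ((Ψ ^ j) β₀))
          = (Ψ ^ ((q - 1) * j) * Φ ^ ((p - 1) * i' + i)) ((Ψ ^ j) β₀) := rfl
      rw [h4, h3]
      show (Φ ^ (((p - 1) * i' + i) * k ^ ((q - 1) * j))) ((Ψ ^ ((q - 1) * j) * Ψ ^ j) β₀) = _
      rw [f0, end_pow_mul_fix Ψ q j hΨ]
    have f2 : (Ψ ^ ((q - 1) * j)) ((Ψ ^ j') β₀) = (Ψ ^ (j' - j)) β₀ := by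
      have : Ψ ^ ((q - 1) * j) * Ψ ^ j' = Ψ ^ (j' - j) * Ψ ^ (q * j) := by
        rw [← pow_add, ← pow_add]
        congr 1
        have : q = (q - 1) + 1 := (Nat.sub_add_cancel hq.pos).symm
        have h5 : j' = (j' - j) + j := (Nat.sub_add_cancel hjj.le).symm
        nlinarith
      show (Ψ ^ ((q - 1) * j) * Ψ ^ j') β₀ = _
      rw [this]
      show (Ψ ^ (j' - j)) ((Ψ ^ (q * j)) β₀) = _
      rw [end_pow_mul_fix Ψ q j hΨ]
    rw [f1, f2] at h2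
    exact hC1 (j' - j) (by omega) (by omega) _ h2.symm
  intro i i' j j' hi hi' hj hj' hE
  rcases lt_trichotomy j j' with hjj | hjj | hjj
  · exact (hkey i i' j j' hjj hj' hE).elim
  · subst hjj
    refine ⟨?_, rfl⟩
    by_contra hne
    -- `Φ ^ i γ = Φ ^ i' γ` with `i ≠ i'`
    have hsym : ∀ a b, a < b → b < p → (Φ ^ a * Ψ ^ j) β₀ = (Φ ^ b * Ψ ^ j) β₀ → False := by
      intro a b hab hbp hE'
      have h1 : (Φ ^ (p - b)) ((Φ ^ a * Ψ ^ j) β₀) = (Φ ^ (p - b)) ((Φ ^ b * Ψ ^ j) β₀) := by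
        rw [hE']
      have e1 : (Φ ^ (p - b)) ((Φ ^ b * Ψ ^ j) β₀) = (Ψ ^ j) β₀ := by
        show (Φ ^ (p - b) * Φ ^ b) ((Ψ ^ j) β₀) = _
        rw [← pow_add, Nat.sub_add_cancel hbp.le, hΦ]; rfl
      have e2 : (Φ ^ (p - b)) ((Φ ^ a * Ψ ^ j) β₀) = (Φ ^ (p - b + a)) ((Ψ ^ j) β₀) := by
        rw [pow_add]; rfl
      rw [e1, e2] at h1
      exact hC2 j (p - b + a) (by omega) (by omega) h1
    rcases lt_or_gt_of_ne hne with h | h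
    · exact hsym i i' h hi' hE
    · exact hsym i' i h hi hE.symm
  · exact (hkey i' i j' j hjj hj hE.symm).elim

end Cfsg.Agent.Lib.Helper3.Sh
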