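import Mathlib
import Cfsg.Agent.Lib.Helper3.HHC1
import Cfsg.Agent.Lib.Helper3.PqA

/-!
# Frobenius groups of order `pq`, part D: the stacked configuration (a normal `t`-subgroup `T` and
a `u`-subgroup `U` of a group `L` acting on a module, with a compatible pair of operators without
common fixed vectors), the statement proved by induction, and the reductions to quotients,
subgroups and subspaces.
-/

set_option autoImplicit false
set_option maxHeartbeats 4000000
set_option maxRecDepth 100000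
set_option linter.unusedVariables false
set_option linter.unusedSectionVars false
set_option linter.style.haveILetI false
set_option linter.deprecated false

namespace Cfsg.Agent.Lib.Helper3.Sh

open Module Cfsg.Agent.Lib.Helper3 Cfsg.Agent.Lib.Helper3.HHC1 Cfsg.Agent.Lib.Helper8.FP4
  Cfsg.Agent.Lib.Helper6.Wd

universe uu vv ww

structure PQCfg (p q k t u : ℕ) {K : Type ww} [Field K] {L : Type uu} [Group L] {W : Type vv}
    [AddCommGroup W] [Module K W] (ρ : Representation K L W) (X X' Y Y' : Module.End K W)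
    (φ ψ : MulAut L) (T U : Subgroup L) : Prop where
  hTn : T.Normal
  hT : IsPGroup t T
  hU : IsPGroup u U
  hφT : Inv φ T
  hψT : Inv ψ T
  hφU : Inv φ U
  hψU : Inv ψ U
  aut : AutPQ p q k φ ψ
  hXX' : X * X' = 1
  hX'X : X' * X = 1
  hYY' : Y * Y' = 1
  hY'Y : Y' * Y = 1
  cX : ∀ g, X * ρ g = ρ (φ g) * X
  cY : ∀ g, Y * ρ g = ρ (ψ g) * Y
  hXP : X ^ p = 1
  hYQ : Y ^ q = 1
  hYX : Y * X = X ^ k * Y
  hN : ∑ i ∈ Finset.range p, ∑ j ∈ Finset.range q, X ^ i * Y ^ j = 0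
  hcop : (Nat.card L).Coprime (p * q)
  hfpf : ∀ g, φ g = g → ψ g = g → g = 1

/-- The statement proved by induction. -/
def PQGood (p q k t u : ℕ) {K : Type ww} [Field K] {L : Type uu} [Group L] {W : Type vv}
    [AddCommGroup W] [Module K W] (ρ : Representation K L W) (X X' Y Y' : Module.End K W)
    (φ ψ : MulAut L) (T U : Subgroup L) : Prop :=
  PQCfg p q k t u ρ X X' Y Y' φ ψ T U → ∀ a ∈ T, ∀ b ∈ U, ρ a * ρ b = ρ b * ρ a

/-- Restriction of the configuration to an invariant subspace. -/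
theorem PQCfg.restrict {p q k t u : ℕ} {K : Type ww} [Field K] {L : Type uu} [Group L]
    {W : Type vv} [AddCommGroup W] [Module K W] {ρ : Representation K L W}
    {X X' Y Y' : Module.End K W} {φ ψ : MulAut L} {T U : Subgroup L}
    (H : PQCfg p q k t u ρ X X' Y Y' φ ψ T U)
    (W₁ : Submodule K W) (hσ : ∀ g, ∀ w ∈ W₁, ρ g w ∈ W₁) (hX : ∀ w ∈ W₁, X w ∈ W₁)
    (hX' : ∀ w ∈ W₁, X' w ∈ W₁) (hY : ∀ w ∈ W₁, Y w ∈ W₁) (hY' : ∀ w ∈ W₁, Y' w ∈ W₁) :
    PQCfg p q k t u (resRep ρ W₁ hσ) (X.restrict hX) (X'.restrict hX') (Y.restrict hY)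
      (Y'.restrict hY') φ ψ T U where
  hTn := H.hTn
  hT := H.hT
  hU := H.hU
  hφT := H.hφT
  hψT := H.hψT
  hφU := H.hφU
  hψU := H.hψU
  aut := H.aut
  hXX' := by
    refine LinearMap.ext (fun w => Subtype.ext ?_)
    show X (X' (w : W)) = (w : W)
    rw [← Module.End.mul_apply, H.hXX']; rfl
  hX'X := by
    refine LinearMap.ext (fun w => Subtype.ext ?_)
    show X' (X (w : W)) = (w : W)
    rw [← Module.End.mul_apply, H.hX'X]; rfl
  hYY' := by
    refine LinearMap.ext (fun w => Subtype.ext ?_)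
    show Y (Y' (w : W)) = (w : W)
    rw [← Module.End.mul_apply, H.hYY']; rfl
  hY'Y := by
    refine LinearMap.ext (fun w => Subtype.ext ?_)
    show Y' (Y (w : W)) = (w : W)
    rw [← Module.End.mul_apply, H.hY'Y]; rfl
  cX := by
    intro g
    refine LinearMap.ext (fun w => Subtype.ext ?_)
    show X (ρ g (w : W)) = ρ (φ g) (X (w : W))
    have := congrArg (fun A : Module.End K W => A (w : W)) (H.cX g)
    simpa using this
  cY := by
    intro g
    refine LinearMap.ext (fun w => Subtype.ext ?_)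
    show Y (ρ g (w : W)) = ρ (ψ g) (Y (w : W))
    have := congrArg (fun A : Module.End K W => A (w : W)) (H.cY g)
    simpa using this
  hXP := by
    refine LinearMap.ext (fun w => Subtype.ext ?_)
    rw [restrict_pow_coe, H.hXP]; rfl
  hYQ := by
    refine LinearMap.ext (fun w => Subtype.ext ?_)
    rw [restrict_pow_coe, H.hYQ]; rfl
  hYX := by
    refine LinearMap.ext (fun w => Subtype.ext ?_)
    show Y (X (w : W)) = (((X.restrict hX : Module.End K W₁) ^ k) ((Y.restrict hY) w) : W)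
    rw [restrict_pow_coe]
    have := congrArg (fun A : Module.End K W => A (w : W)) H.hYX
    simpa using this
  hN := by
    refine LinearMap.ext (fun w => Subtype.ext ?_)
    rw [LinearMap.sum_apply]
    have h6 : ((∑ i ∈ Finset.range p, (∑ j ∈ Finset.range q,
        (X.restrict hX : Module.End K W₁) ^ i * (Y.restrict hY : Module.End K W₁) ^ j) w : W₁) : W)
        = ∑ i ∈ Finset.range p, ∑ j ∈ Finset.range q, (X ^ i * Y ^ j) (w : W) := by
      rw [Submodule.coe_sum]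
      refine Finset.sum_congr rfl (fun i _ => ?_)
      rw [LinearMap.sum_apply, Submodule.coe_sum]
      refine Finset.sum_congr rfl (fun j _ => ?_)
      rw [Module.End.mul_apply, restrict_pow_coe, restrict_pow_coe, Module.End.mul_apply]
    rw [h6]
    have := congrArg (fun A : Module.End K W => A (w : W)) H.hN
    simp only [LinearMap.sum_apply, LinearMap.zero_apply] at this
    rw [this]; rfl
  hcop := H.hcop
  hfpf := H.hfpf

/-- Step A: pass to the quotient by the kernel of the representation. -/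
theorem pq_stepA (p q k t u : ℕ) (hnum : PQNum p q k) {K : Type ww} [Field K] {L : Type uu}
    [Group L] [Finite L] {W : Type vv} [AddCommGroup W] [Module K W] (ρ : Representation K L W)
    (X X' Y Y' : Module.End K W) (φ ψ : MulAut L) (T U : Subgroup L)
    (IH : ∀ (L' : Type uu) [Group L'] [Finite L'] (ρ' : Representation K L' W) (φ' ψ' : MulAut L')
      (T' U' : Subgroup L'), Nat.card L' < Nat.card L → PQGood p q k t u ρ' X X' Y Y' φ' ψ' T' U')
    (hnf : ¬ Function.Injective ρ) : PQGood p q k t u ρ X X' Y Y' φ ψ T U := by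
  intro H a ha b hb
  have hNmem : ∀ g, g ∈ ρ.ker ↔ ρ g = 1 := fun g => MonoidHom.mem_ker
  have hNne : ρ.ker ≠ ⊥ := by
    intro hbot
    apply hnf
    intro a b hab
    have : a⁻¹ * b ∈ ρ.ker := by
      rw [hNmem, map_mul, ← hab, ← map_mul, inv_mul_cancel, map_one]
    rw [hbot, Subgroup.mem_bot] at this
    exact inv_mul_eq_one.mp this
  have hσφ : ∀ g, ρ (φ g) = X * ρ g * X' := by
    intro g; rw [H.cX, mul_assoc, H.hXX', mul_one]
  have hσψ : ∀ g, ρ (ψ g) = Y * ρ g * Y' := by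
    intro g; rw [H.cY, mul_assoc, H.hYY', mul_one]
  have hinvφ : Inv φ ρ.ker := by
    intro g hg
    rw [hNmem] at hg ⊢
    rw [hσφ, hg, mul_one, H.hXX']
  have hinvψ : Inv ψ ρ.ker := by
    intro g hg
    rw [hNmem] at hg ⊢
    rw [hσψ, hg, mul_one, H.hYY']
  obtain ⟨ρ', hρ'def⟩ : ∃ ρ' : Representation K (L ⧸ ρ.ker) W,
      ρ' = QuotientGroup.lift ρ.ker ρ le_rfl := ⟨_, rfl⟩
  obtain ⟨φ', hφ'def⟩ : ∃ φ' : MulAut (L ⧸ ρ.ker), φ' = quotAut φ ρ.ker hinvφ := ⟨_, rfl⟩
  obtain ⟨ψ', hψ'def⟩ : ∃ ψ' : MulAut (L ⧸ ρ.ker), ψ' = quotAut ψ ρ.ker hinvψ := ⟨_, rfl⟩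
  have hρ' : ∀ g : L, ρ' (g : L ⧸ ρ.ker) = ρ g := by
    intro g; rw [hρ'def]; exact QuotientGroup.lift_mk _ _ g
  have hφ' : ∀ g : L, φ' (g : L ⧸ ρ.ker) = ((φ g : L) : L ⧸ ρ.ker) := by
    intro g; rw [hφ'def]; exact quotAut_mk φ ρ.ker hinvφ g
  have hψ' : ∀ g : L, ψ' (g : L ⧸ ρ.ker) = ((ψ g : L) : L ⧸ ρ.ker) := by
    intro g; rw [hψ'def]; exact quotAut_mk ψ ρ.ker hinvψ g
  have hcard : Nat.card (L ⧸ ρ.ker) < Nat.card L := by
    have h1 := Subgroup.card_eq_card_quotient_mul_card_subgroup ρ.ker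
    have h2 : 1 < Nat.card ρ.ker := (Subgroup.one_lt_card_iff_ne_bot _).mpr hNne
    have h3 : 0 < Nat.card (L ⧸ ρ.ker) := Nat.card_pos
    nlinarith
  have hcfg : PQCfg p q k t u ρ' X X' Y Y' φ' ψ' (T.map (QuotientGroup.mk' ρ.ker))
      (U.map (QuotientGroup.mk' ρ.ker)) :=
    { hTn := H.hTn.map _ (QuotientGroup.mk'_surjective _)
      hT := H.hT.map _
      hU := H.hU.map _
      hφT := by
        rintro _ ⟨g, hg, rfl⟩
        exact ⟨φ g, H.hφT g hg, (hφ' g).symm⟩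
      hψT := by
        rintro _ ⟨g, hg, rfl⟩
        exact ⟨ψ g, H.hψT g hg, (hψ' g).symm⟩
      hφU := by
        rintro _ ⟨g, hg, rfl⟩
        exact ⟨φ g, H.hφU g hg, (hφ' g).symm⟩
      hψU := by
        rintro _ ⟨g, hg, rfl⟩
        exact ⟨ψ g, H.hψU g hg, (hψ' g).symm⟩
      aut := by rw [hφ'def, hψ'def]; exact H.aut.quot ρ.ker hinvφ hinvψ
      hXX' := H.hXX'
      hX'X := H.hX'X
      hYY' := H.hYY'
      hY'Y := H.hY'Y
      cX := by
        intro g
        refine QuotientGroup.induction_on g (fun g => ?_)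
        rw [hφ', hρ', hρ']; exact H.cX g
      cY := by
        intro g
        refine QuotientGroup.induction_on g (fun g => ?_)
        rw [hψ', hρ', hρ']; exact H.cY g
      hXP := H.hXP
      hYQ := H.hYQ
      hYX := H.hYX
      hN := H.hN
      hcop := coprime_quot H.hcop ρ.ker
      hfpf := by
        rw [hφ'def, hψ'def]
        exact fpf_quot_pq hnum H.aut H.hcop H.hfpf ρ.ker hinvφ hinvψ }
  have hres := IH (L ⧸ ρ.ker) ρ' φ' ψ' _ _ hcard hcfg (a : L ⧸ ρ.ker) ⟨a, ha, rfl⟩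
    (b : L ⧸ ρ.ker) ⟨b, hb, rfl⟩
  rw [hρ', hρ'] at hres
  exact hres

/-- Passing to an invariant subgroup. -/
theorem pq_sub (p q k t u : ℕ) {K : Type ww} [Field K] {L : Type uu} [Group L] [Finite L]
    {W : Type vv} [AddCommGroup W] [Module K W] (ρ : Representation K L W)
    (X X' Y Y' : Module.End K W) (φ ψ : MulAut L) (T U : Subgroup L)
    (H : PQCfg p q k t u ρ X X' Y Y' φ ψ T U)
    (IH : ∀ (L' : Type uu) [Group L'] [Finite L'] (ρ' : Representation K L' W) (φ' ψ' : MulAut L')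
      (T' U' : Subgroup L'), Nat.card L' < Nat.card L → PQGood p q k t u ρ' X X' Y Y' φ' ψ' T' U')
    (L₁ : Subgroup L) (hne : L₁ ≠ ⊤) (hφL : Inv φ L₁) (hψL : Inv ψ L₁) (T₁ U₁ : Subgroup L)
    (hT₁L : T₁ ≤ L₁) (hU₁L : U₁ ≤ L₁) (hnorm : ∀ g ∈ L₁, ∀ x ∈ T₁, g * x * g⁻¹ ∈ T₁)
    (hT₁ : IsPGroup t T₁) (hU₁ : IsPGroup u U₁) (hφT₁ : Inv φ T₁) (hψT₁ : Inv ψ T₁)
    (hφU₁ : Inv φ U₁) (hψU₁ : Inv ψ U₁) :
    ∀ a ∈ T₁, ∀ b ∈ U₁, ρ a * ρ b = ρ b * ρ a := by
  intro a ha b hb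
  obtain ⟨φ₁, hφ₁def⟩ : ∃ φ₁ : MulAut L₁, φ₁ = restrictAut φ L₁ hφL := ⟨_, rfl⟩
  obtain ⟨ψ₁, hψ₁def⟩ : ∃ ψ₁ : MulAut L₁, ψ₁ = restrictAut ψ L₁ hψL := ⟨_, rfl⟩
  have hφ₁ : ∀ g : L₁, ((φ₁ g : L₁) : L) = φ g := by
    intro g; rw [hφ₁def]; exact restrictAut_apply_coe φ L₁ hφL g
  have hψ₁ : ∀ g : L₁, ((ψ₁ g : L₁) : L) = ψ g := by
    intro g; rw [hψ₁def]; exact restrictAut_apply_coe ψ L₁ hψL g
  have hcard : Nat.card L₁ < Nat.card L :=
    lt_of_le_of_ne (Subgroup.card_le_card_group L₁) (fun h => hne (Subgroup.eq_top_of_card_eq L₁ h))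
  have hcfg : PQCfg p q k t u (ρ.comp L₁.subtype) X X' Y Y' φ₁ ψ₁ (T₁.subgroupOf L₁)
      (U₁.subgroupOf L₁) :=
    { hTn := by
        refine ⟨fun a ha g => ?_⟩
        rw [Subgroup.mem_subgroupOf] at ha ⊢
        exact hnorm g g.2 a ha
      hT := hT₁.comap_subtype
      hU := hU₁.comap_subtype
      hφT := by
        intro g hg
        rw [Subgroup.mem_subgroupOf] at hg ⊢
        rw [hφ₁]; exact hφT₁ _ hg
      hψT := by
        intro g hg
        rw [Subgroup.mem_subgroupOf] at hg ⊢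
        rw [hψ₁]; exact hψT₁ _ hg
      hφU := by
        intro g hg
        rw [Subgroup.mem_subgroupOf] at hg ⊢
        rw [hφ₁]; exact hφU₁ _ hg
      hψU := by
        intro g hg
        rw [Subgroup.mem_subgroupOf] at hg ⊢
        rw [hψ₁]; exact hψU₁ _ hg
      aut := by rw [hφ₁def, hψ₁def]; exact H.aut.restrict L₁ hφL hψL
      hXX' := H.hXX'
      hX'X := H.hX'X
      hYY' := H.hYY'
      hY'Y := H.hY'Y
      cX := by
        intro g
        show X * ρ g.1 = ρ (φ₁ g).1 * X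
        rw [hφ₁]; exact H.cX g.1
      cY := by
        intro g
        show Y * ρ g.1 = ρ (ψ₁ g).1 * Y
        rw [hψ₁]; exact H.cY g.1
      hXP := H.hXP
      hYQ := H.hYQ
      hYX := H.hYX
      hN := H.hN
      hcop := coprime_sub H.hcop L₁
      hfpf := by
        intro g h1 h2
        apply Subtype.ext
        apply H.hfpf
        · rw [← hφ₁, h1]
        · rw [← hψ₁, h2] }
  have hres := IH L₁ (ρ.comp L₁.subtype) φ₁ ψ₁ _ _ hcard hcfg ⟨a, hT₁L ha⟩
    (by rw [Subgroup.mem_subgroupOf]; exact ha) ⟨b, hU₁L hb⟩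
    (by rw [Subgroup.mem_subgroupOf]; exact hb)
  exact hres

end Cfsg.Agent.Lib.Helper3.Sh
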