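import Mathlib
import Cfsg.Agent.Lib.Helper3.ShM
import Cfsg.Agent.Lib.Helper3.PqA

/-!
# Frobenius groups of order `pq`, part E: blocks of weights of a normal abelian subgroup (sums of
weight spaces over a conjugacy class of characters), the action of automorphisms on the classes.
-/

set_option autoImplicit false
set_option maxHeartbeats 4000000
set_option maxRecDepth 100000
set_option linter.unusedVariables false
set_option linter.unusedSectionVars false
set_option linter.style.haveILetI false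
set_option linter.deprecated false

namespace Cfsg.Agent.Lib.Helper3.Sh

open Module Cfsg.Agent.Lib.Helper3 Cfsg.Agent.Lib.Helper3.HHC1 Cfsg.Agent.Lib.Helper8.FP4
  Cfsg.Agent.Lib.Helper6.Wd

variable {K : Type*} [Field K] {L : Type*} [Group L] {W : Type*} [AddCommGroup W] [Module K W]

/-- Two characters are conjugate under the group. -/
def conjRel (χ χ' : L → K) : Prop := ∃ g : L, χ' = tw (MulAut.conj g) χ

theorem conjRel_refl (χ : L → K) : conjRel χ χ :=
  ⟨1, by rw [map_one, tw_one]⟩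

theorem conjRel_symm {χ χ' : L → K} (h : conjRel χ χ') : conjRel χ' χ := by
  obtain ⟨g, rfl⟩ := h
  refine ⟨g⁻¹, ?_⟩
  rw [← tw_mul, ← map_mul, inv_mul_cancel, map_one, tw_one]

theorem conjRel_trans {χ χ' χ'' : L → K} (h : conjRel χ χ') (h' : conjRel χ' χ'') :
    conjRel χ χ'' := by
  obtain ⟨g, rfl⟩ := h
  obtain ⟨g', rfl⟩ := h'
  refine ⟨g' * g, ?_⟩
  rw [map_mul, tw_mul]

/-- The setoid of conjugacy of characters. -/
def conjSetoid (K : Type*) [Field K] (L : Type*) [Group L] : Setoid (L → K) where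
  r := conjRel
  iseqv := ⟨conjRel_refl, conjRel_symm, conjRel_trans⟩

theorem aut_conj_comm (a : MulAut L) (g : L) : a * MulAut.conj g = MulAut.conj (a g) * a := by
  ext x
  simp only [MulAut.mul_apply, MulAut.conj_apply, map_mul, map_inv]

theorem tw_conj_comm (a : MulAut L) (g : L) (χ : L → K) :
    tw a (tw (MulAut.conj g) χ) = tw (MulAut.conj (a g)) (tw a χ) := by
  rw [← tw_mul, ← tw_mul, aut_conj_comm]

theorem conjRel_tw (a : MulAut L) {χ χ' : L → K} (h : conjRel χ χ') :
    conjRel (tw a χ) (tw a χ') := by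
  obtain ⟨g, rfl⟩ := h
  exact ⟨a g, tw_conj_comm a g χ⟩

/-- The action of an automorphism on the classes of characters. -/
def twEnd (K : Type*) [Field K] {L : Type*} [Group L] (a : MulAut L) :
    Function.End (Quotient (conjSetoid K L)) :=
  Quotient.map' (tw a) (fun _ _ h => conjRel_tw a h)

theorem twEnd_mk (a : MulAut L) (χ : L → K) :
    twEnd K a (Quotient.mk'' χ : Quotient (conjSetoid K L)) = Quotient.mk'' (tw a χ) := rfl

/-- The monoid homomorphism from automorphisms to maps of classes. -/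
def twHom (K : Type*) [Field K] (L : Type*) [Group L] :
    MulAut L →* Function.End (Quotient (conjSetoid K L)) where
  toFun := twEnd K
  map_one' := by
    funext x
    refine Quotient.inductionOn' x (fun χ => ?_)
    rw [twEnd_mk, tw_one]; rfl
  map_mul' := by
    intro a b
    funext x
    refine Quotient.inductionOn' x (fun χ => ?_)
    show twEnd K (a * b) (Quotient.mk'' χ) = twEnd K a (twEnd K b (Quotient.mk'' χ))
    rw [twEnd_mk, twEnd_mk, twEnd_mk, tw_mul]

theorem twHom_mk (a : MulAut L) (χ : L → K) :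
    twHom K L a (Quotient.mk'' χ : Quotient (conjSetoid K L)) = Quotient.mk'' (tw a χ) := rfl

theorem mk_eq_iff (χ χ' : L → K) :
    (Quotient.mk'' χ : Quotient (conjSetoid K L)) = Quotient.mk'' χ' ↔ conjRel χ χ' :=
  Quotient.eq''

/-- The block of a character: the sum of the weight spaces of its conjugates. -/
noncomputable def Blk (ρ : Representation K L W) (N : Subgroup L) (χ : L → K) : Submodule K W :=
  ⨆ g : L, wt (fam ρ N) (tw (MulAut.conj g) χ)

theorem wt_le_Blk (ρ : Representation K L W) (N : Subgroup L) (χ : L → K) :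
    wt (fam ρ N) χ ≤ Blk ρ N χ := by
  have h := le_iSup (fun g : L => wt (fam ρ N) (tw (MulAut.conj g) χ)) 1
  simp only [map_one, tw_one] at h
  exact h

theorem Blk_le_of_conjRel (ρ : Representation K L W) (N : Subgroup L) {χ χ' : L → K}
    (h : conjRel χ χ') : Blk ρ N χ' ≤ Blk ρ N χ := by
  obtain ⟨g, rfl⟩ := h
  refine iSup_le (fun x => ?_)
  rw [← tw_mul, ← map_mul]
  exact le_iSup (fun y : L => wt (fam ρ N) (tw (MulAut.conj y) χ)) (x * g)

theorem Blk_congr (ρ : Representation K L W) (N : Subgroup L) {χ χ' : L → K}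
    (h : conjRel χ χ') : Blk ρ N χ' = Blk ρ N χ :=
  le_antisymm (Blk_le_of_conjRel ρ N h) (Blk_le_of_conjRel ρ N (conjRel_symm h))

theorem rho_mem_Blk (ρ : Representation K L W) (N : Subgroup L) [N.Normal] (χ : L → K) (x : L)
    (v : W) (hv : v ∈ Blk ρ N χ) : ρ x v ∈ Blk ρ N χ := by
  unfold Blk at hv
  refine Submodule.iSup_induction _ (motive := fun v => ρ x v ∈ Blk ρ N χ) hv ?_ ?_ ?_
  · intro g w hw
    have h1 := rho_conj_mem_wt ρ N x _ w hw
    rw [← tw_mul, ← map_mul] at h1
    exact (le_iSup (fun y : L => wt (fam ρ N) (tw (MulAut.conj y) χ)) (x * g)) h1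
  · rw [map_zero]; exact Submodule.zero_mem _
  · intro a b ha hb
    rw [map_add]; exact Submodule.add_mem _ ha hb

theorem map_Blk (ρ : Representation K L W) (N : Subgroup L) (a : MulAut L) (A : Module.End K W)
    (hA : ∀ g, A * ρ g = ρ (a g) * A) (hN : ∀ g, g ∈ N ↔ a g ∈ N) (χ : L → K) (v : W)
    (hv : v ∈ Blk ρ N χ) : A v ∈ Blk ρ N (tw a χ) := by
  unfold Blk at hv
  refine Submodule.iSup_induction _ (motive := fun v => A v ∈ Blk ρ N (tw a χ)) hv ?_ ?_ ?_
  · intro g w hw
    have h1 := map_wt ρ N a A hA hN _ w hw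
    rw [tw_conj_comm] at h1
    exact (le_iSup (fun y : L => wt (fam ρ N) (tw (MulAut.conj y) (tw a χ))) (a g)) h1
  · rw [map_zero]; exact Submodule.zero_mem _
  · intro x y hx hy
    rw [map_add]; exact Submodule.add_mem _ hx hy

/-- Blocks of pairwise non-conjugate characters are independent. -/
theorem Blk_indep (ρ : Representation K L W) (N : Subgroup L)
    (hc : ∀ a ∈ N, ∀ b ∈ N, ρ a * ρ b = ρ b * ρ a) {ι : Type*} (c : ι → L → K)
    (h : ∀ i j, i ≠ j → ¬ conjRel (c i) (c j)) : iSupIndep (fun i => Blk ρ N (c i)) := by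
  have hind : iSupIndep (wt (fam ρ N)) := wt_indep (fam ρ N) (fam_commute ρ N hc)
  rw [iSupIndep_def]
  intro i
  obtain ⟨S, hS⟩ : ∃ S : ι → Set (L → K),
      S = fun j => Set.range (fun g : L => tw (MulAut.conj g) (c j)) := ⟨_, rfl⟩
  have h1 : ∀ j, Blk ρ N (c j) = ⨆ χ ∈ S j, wt (fam ρ N) χ := by
    intro j
    rw [hS]
    show _ = ⨆ χ ∈ Set.range (fun g : L => tw (MulAut.conj g) (c j)), wt (fam ρ N) χ
    rw [iSup_range]
    rfl
  have h2 : (⨆ (j : ι) (_ : j ≠ i), Blk ρ N (c j)) ≤ ⨆ χ ∈ (⋃ j ∈ {j : ι | j ≠ i}, S j),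
      wt (fam ρ N) χ := by
    refine iSup_le (fun j => iSup_le (fun hj => ?_))
    rw [h1 j]
    apply biSup_mono
    intro χ hχ
    exact Set.mem_biUnion (show j ∈ {j : ι | j ≠ i} from hj) hχ
  have hdisj : Disjoint (S i) (⋃ j ∈ {j : ι | j ≠ i}, S j) := by
    rw [Set.disjoint_left]
    intro χ hχ hχ'
    rw [Set.mem_iUnion₂] at hχ'
    obtain ⟨j, hj, hχj⟩ := hχ'
    rw [hS] at hχ hχj
    obtain ⟨g, rfl⟩ := hχ
    obtain ⟨g', hg'⟩ := hχj
    apply h i j (Ne.symm hj)
    have h3 : conjRel (c i) (tw (MulAut.conj g) (c i)) := ⟨g, rfl⟩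
    have h4 : conjRel (c j) (tw (MulAut.conj g) (c i)) := ⟨g', hg'.symm⟩
    exact conjRel_trans h3 (conjRel_symm h4)
  rw [h1 i]
  exact (hind.disjoint_biSup_biSup hdisj).mono_right h2

end Cfsg.Agent.Lib.Helper3.Sh
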