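import Mathlib
import Cfsg.Agent.Lib.Helper3.GrN
import Cfsg.Agent.Lib.Helper3.PqD

/-!
# Frobenius groups of order `pq`, part F: structure of a minimal counterexample to the stacked
statement (irreducibility, generation, proper invariant subgroups).
-/

set_option autoImplicit false
set_option maxHeartbeats 4000000
set_option maxRecDepth 100000
set_option linter.unusedVariables false
set_option linter.unusedSectionVars false
set_option linter.style.haveILetI false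
set_option linter.deprecated false

namespace Cfsg.Agent.Lib.Helper3.Sh

open Module Cfsg.Agent.Lib.Helper3 Cfsg.Agent.Lib.Helper3.HHC1 Cfsg.Agent.Lib.Helper8.FP4
  Cfsg.Agent.Lib.Helper6.Wd

universe uu vv ww

theorem irr_of_avg2 {K : Type*} [Field K] {L : Type*} [Group L] [Finite L] {W : Type*}
    [AddCommGroup W] [Module K W] [FiniteDimensional K W]
    (ρ : Representation K L W) (X X' Y Y' : Module.End K W) (φ ψ : MulAut L)
    (hXX' : X * X' = 1) (hX'X : X' * X = 1) (hYY' : Y * Y' = 1) (hY'Y : Y' * Y = 1)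
    (cX : ∀ g, X * ρ g = ρ (φ g) * X) (cY : ∀ g, Y * ρ g = ρ (ψ g) * Y)
    (N₀ : Subgroup L) [hN₀n : N₀.Normal] (hφN : Inv φ N₀) (hψN : Inv ψ N₀)
    (hcardK : (Nat.card N₀ : K) ≠ 0)
    (hprop : ∀ U : Submodule K W, U ≠ ⊤ → (∀ g, ∀ w ∈ U, ρ g w ∈ U) → (∀ w ∈ U, X w ∈ U) →
      (∀ w ∈ U, X' w ∈ U) → (∀ w ∈ U, Y w ∈ U) → (∀ w ∈ U, Y' w ∈ U) →
      ∀ c ∈ N₀, ∀ w ∈ U, ρ c w = w)
    (hnt : ∃ c ∈ N₀, ρ c ≠ 1) :
    ∀ U : Submodule K W, (∀ g, ∀ w ∈ U, ρ g w ∈ U) → (∀ w ∈ U, X w ∈ U) → (∀ w ∈ U, Y w ∈ U) →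
      U = ⊥ ∨ U = ⊤ := by
  classical
  haveI : Fintype N₀ := Fintype.ofFinite N₀
  have hcardK' : (Fintype.card N₀ : K) ≠ 0 := by
    rw [← Nat.card_eq_fintype_card]; exact hcardK
  obtain ⟨e, hedef⟩ : ∃ e : Module.End K W, e = (Fintype.card N₀ : K)⁻¹ • ∑ c : N₀, ρ (c : L) :=
    ⟨_, rfl⟩
  have hσe : ∀ h ∈ N₀, ρ h * e = e := by
    intro h hh
    rw [hedef, mul_smul_comm, Finset.mul_sum]
    congr 1
    refine Fintype.sum_equiv (Equiv.mulLeft (⟨h, hh⟩ : N₀)) _ _ (fun g => ?_)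
    rw [← map_mul]; rfl
  have hge : ∀ g : L, ρ g * e = e * ρ g := by
    intro g
    rw [hedef, mul_smul_comm, smul_mul_assoc, Finset.mul_sum, Finset.sum_mul]
    congr 1
    refine Fintype.sum_equiv (MulAut.conjNormal g : MulAut N₀).toEquiv _ _ (fun c => ?_)
    show ρ g * ρ (c : L) = ρ ((MulAut.conjNormal g c : N₀) : L) * ρ g
    rw [MulAut.conjNormal_apply, ← map_mul, ← map_mul, inv_mul_cancel_right]
  have hAe : ∀ (A A' : Module.End K W) (a : MulAut L), A * A' = 1 → A' * A = 1 →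
      (∀ g, A * ρ g = ρ (a g) * A) → Inv a N₀ → A * e = e * A ∧ A' * e = e * A' := by
    intro A A' a hAA' hA'A cA haN
    have h1 : A * e = e * A := by
      rw [hedef, mul_smul_comm, smul_mul_assoc, Finset.mul_sum, Finset.sum_mul]
      congr 1
      refine Fintype.sum_equiv (restrictAut a N₀ haN).toEquiv _ _ (fun c => ?_)
      show A * ρ (c : L) = ρ ((restrictAut a N₀ haN c : N₀) : L) * A
      rw [restrictAut_apply_coe, cA]
    refine ⟨h1, ?_⟩
    calc A' * e = A' * (e * A) * A' := by rw [mul_assoc, mul_assoc, hAA', mul_one]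
      _ = A' * (A * e) * A' := by rw [h1]
      _ = e * A' := by rw [← mul_assoc, hA'A, one_mul]
  obtain ⟨hXe, hX'e⟩ := hAe X X' φ hXX' hX'X cX hφN
  obtain ⟨hYe, hY'e⟩ := hAe Y Y' ψ hYY' hY'Y cY hψN
  have hee : e * e = e := by
    calc e * e = ((Fintype.card N₀ : K)⁻¹ • ∑ c : N₀, ρ (c : L)) * e := by rw [← hedef]
      _ = (Fintype.card N₀ : K)⁻¹ • ∑ c : N₀, ρ (c : L) * e := by
          rw [smul_mul_assoc, Finset.sum_mul]
      _ = (Fintype.card N₀ : K)⁻¹ • ∑ _c : N₀, e := by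
          congr 1
          exact Finset.sum_congr rfl (fun (c : N₀) _ => hσe (c : L) c.2)
      _ = e := by
        rw [Finset.sum_const, Finset.card_univ, ← Nat.cast_smul_eq_nsmul K, smul_smul,
          inv_mul_cancel₀ hcardK', one_smul]
  have hefix : ∀ w, (∀ c ∈ N₀, ρ c w = w) → e w = w := by
    intro w hw
    rw [hedef]
    simp only [LinearMap.smul_apply, LinearMap.sum_apply]
    rw [Finset.sum_congr rfl (fun (c : N₀) _ => hw (c : L) c.2), Finset.sum_const, Finset.card_univ,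
      ← Nat.cast_smul_eq_nsmul K, smul_smul, inv_mul_cancel₀ hcardK', one_smul]
  intro U hσU hXU hYU
  by_cases hUtop : U = ⊤
  · exact Or.inr hUtop
  left
  have hX'U := inv_mem_of_mem X X' hX'X U hXU
  have hY'U := inv_mem_of_mem Y Y' hY'Y U hYU
  have hUfix := hprop U hUtop hσU hXU hX'U hYU hY'U
  have hker_σ : ∀ g, ∀ w ∈ LinearMap.ker e, ρ g w ∈ LinearMap.ker e := by
    intro g w hw
    rw [LinearMap.mem_ker] at hw ⊢
    rw [← Module.End.mul_apply, ← hge, Module.End.mul_apply, hw, map_zero]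
  have hker_A : ∀ A : Module.End K W, A * e = e * A → ∀ w ∈ LinearMap.ker e,
      A w ∈ LinearMap.ker e := by
    intro A hA w hw
    rw [LinearMap.mem_ker] at hw ⊢
    rw [← Module.End.mul_apply, ← hA, Module.End.mul_apply, hw, map_zero]
  by_cases hktop : LinearMap.ker e = ⊤
  · rw [Submodule.eq_bot_iff]
    intro w hw
    have h1 := hefix w (fun c hc => hUfix c hc w hw)
    have h2 : e w = 0 := LinearMap.mem_ker.mp (by rw [hktop]; trivial)
    rw [← h1, h2]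
  · exfalso
    have hkfix := hprop _ hktop hker_σ (hker_A X hXe) (hker_A X' hX'e) (hker_A Y hYe)
      (hker_A Y' hY'e)
    have hkbot : ∀ w ∈ LinearMap.ker e, w = 0 := by
      intro w hw
      have h1 := hefix w (fun c hc => hkfix c hc w hw)
      rw [← h1]
      exact LinearMap.mem_ker.mp hw
    have he1 : ∀ w, e w = w := by
      intro w
      have : e w - w ∈ LinearMap.ker e := by
        rw [LinearMap.mem_ker, map_sub, ← Module.End.mul_apply, hee, sub_self]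
      exact sub_eq_zero.mp (hkbot _ this)
    obtain ⟨c, hc, hne⟩ := hnt
    apply hne
    ext w
    have := congrArg (fun A : Module.End K W => A w) (hσe c hc)
    simp only [Module.End.mul_apply, he1] at this
    simpa using this

/-- Structure of a minimal counterexample. -/
theorem pq_struct (p q k t u : ℕ) [ht : Fact t.Prime] [hu : Fact u.Prime] (htu : t ≠ u)
    {K : Type ww} [Field K] (htK : (t : K) ≠ 0)
    {L : Type uu} [Group L] [Finite L] {W : Type vv} [AddCommGroup W] [Module K W]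
    [FiniteDimensional K W] (ρ : Representation K L W) (X X' Y Y' : Module.End K W)
    (φ ψ : MulAut L) (T U : Subgroup L) (H : PQCfg p q k t u ρ X X' Y Y' φ ψ T U)
    (hfaith : Function.Injective ρ)
    (IHL : ∀ (L' : Type uu) [Group L'] [Finite L'] (ρ' : Representation K L' W)
      (φ' ψ' : MulAut L') (T' U' : Subgroup L'), Nat.card L' < Nat.card L →
      PQGood p q k t u ρ' X X' Y Y' φ' ψ' T' U')
    (IHW : ∀ (W' : Type vv) [AddCommGroup W'] [Module K W'] [FiniteDimensional K W']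
      (ρ' : Representation K L W') (X₁ X₁' Y₁ Y₁' : Module.End K W'),
      finrank K W' < finrank K W → PQGood p q k t u ρ' X₁ X₁' Y₁ Y₁' φ ψ T U)
    (a₀ b₀ : L) (ha₀ : a₀ ∈ T) (hb₀ : b₀ ∈ U) (hne₀ : ρ a₀ * ρ b₀ ≠ ρ b₀ * ρ a₀) :
    (∀ W₁ : Submodule K W, (∀ g, ∀ w ∈ W₁, ρ g w ∈ W₁) → (∀ w ∈ W₁, X w ∈ W₁) →
      (∀ w ∈ W₁, Y w ∈ W₁) → W₁ = ⊥ ∨ W₁ = ⊤) ∧
    T ⊔ U = ⊤ ∧
    (∀ P : Subgroup L, P ≤ T → P.Normal → Inv φ P → Inv ψ P → P ≠ T →
      ∀ x ∈ P, ∀ b ∈ U, x * b = b * x) ∧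
    (∀ U₁ : Subgroup L, U₁ ≤ U → Inv φ U₁ → Inv ψ U₁ → U₁ ≠ U →
      ∀ b ∈ U₁, ∀ a ∈ T, a * b = b * a) := by
  classical
  haveI := H.hTn
  have hcomm_of : ∀ a b : L, ρ a * ρ b = ρ b * ρ a → a * b = b * a := by
    intro a b h
    apply hfaith
    rw [map_mul, map_mul, h]
  have hpowT : ∀ x ∈ T, ∃ a : ℕ, x ^ (t ^ a) = 1 := by
    intro x hx
    obtain ⟨a, ha⟩ := H.hT ⟨x, hx⟩
    refine ⟨a, ?_⟩
    have h2 := congrArg Subtype.val ha
    simpa using h2
  have hpowU : ∀ x ∈ U, ∃ b : ℕ, x ^ (u ^ b) = 1 := by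
    intro x hx
    obtain ⟨a, ha⟩ := H.hU ⟨x, hx⟩
    refine ⟨a, ?_⟩
    have h2 := congrArg Subtype.val ha
    simpa using h2
  have hTU1 : ∀ x, x ∈ T → x ∈ U → x = 1 := by
    intro x hxT hxU
    obtain ⟨a, ha⟩ := hpowT x hxT
    obtain ⟨b, hb⟩ := hpowU x hxU
    exact eq_one_of_two_primes t u htu x a b ha hb
  -- `L = T ⊔ U`
  have hsup : T ⊔ U = ⊤ := by
    by_contra hne
    have hres := pq_sub p q k t u ρ X X' Y Y' φ ψ T U H IHL (T ⊔ U) hne
      (inv_sup φ _ _ H.hφT H.hφU) (inv_sup ψ _ _ H.hψT H.hψU) T U le_sup_left le_sup_right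
      (fun g _ x hx => H.hTn.conj_mem x hx g) H.hT H.hU H.hφT H.hψT H.hφU H.hψU
      a₀ ha₀ b₀ hb₀
    exact hne₀ hres
  -- irreducibility
  obtain ⟨S₀, hS₀⟩ : ∃ S₀ : Set L, ∀ c, c ∈ S₀ ↔ ∃ a b, a ∈ T ∧ b ∈ U ∧ c = a * b * a⁻¹ * b⁻¹ :=
    ⟨{c | ∃ a b, a ∈ T ∧ b ∈ U ∧ c = a * b * a⁻¹ * b⁻¹}, fun c => Iff.rfl⟩
  have hS₀T : S₀ ⊆ T := by
    intro c hc
    obtain ⟨a, b, ha, hb, rfl⟩ := (hS₀ c).mp hc
    have h1 : a * b * a⁻¹ * b⁻¹ = a * (b * a⁻¹ * b⁻¹) := by group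
    rw [h1]
    exact T.mul_mem ha (H.hTn.conj_mem _ (T.inv_mem ha) b)
  have hN₀T : Subgroup.normalClosure S₀ ≤ T := Subgroup.normalClosure_le_normal hS₀T
  have hS₀a : ∀ (α : MulAut L), Inv α T → Inv α U → ∀ c ∈ S₀, α c ∈ S₀ := by
    intro α hαT hαU c hc
    obtain ⟨a, b, ha, hb, rfl⟩ := (hS₀ c).mp hc
    rw [hS₀]
    refine ⟨α a, α b, hαT a ha, hαU b hb, ?_⟩
    rw [map_mul, map_mul, map_mul, map_inv, map_inv]
  have hirr : ∀ W₁ : Submodule K W, (∀ g, ∀ w ∈ W₁, ρ g w ∈ W₁) → (∀ w ∈ W₁, X w ∈ W₁) →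
      (∀ w ∈ W₁, Y w ∈ W₁) → W₁ = ⊥ ∨ W₁ = ⊤ := by
    refine irr_of_avg2 ρ X X' Y Y' φ ψ H.hXX' H.hX'X H.hYY' H.hY'Y H.cX H.cY
      (Subgroup.normalClosure S₀) (inv_normalClosure φ S₀ (hS₀a φ H.hφT H.hφU))
      (inv_normalClosure ψ S₀ (hS₀a ψ H.hψT H.hψU)) ?_ ?_ ?_
    · obtain ⟨j, hj⟩ := IsPGroup.iff_card.mp (H.hT.to_le hN₀T)
      rw [hj, Nat.cast_pow]
      exact pow_ne_zero _ htK
    · intro W₁ hWtop hσW hXW hX'W hYW hY'W
      have hlt : finrank K W₁ < finrank K W := Submodule.finrank_lt hWtop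
      have hres := IHW W₁ (resRep ρ W₁ hσW) (X.restrict hXW) (X'.restrict hX'W)
        (Y.restrict hYW) (Y'.restrict hY'W) hlt (H.restrict W₁ hσW hXW hX'W hYW hY'W)
      have hcomW : ∀ a ∈ T, ∀ b ∈ U, ∀ w ∈ W₁, ρ a (ρ b w) = ρ b (ρ a w) := by
        intro a ha b hb w hw
        have h1 := hres a ha b hb
        have := congrArg (fun A : Module.End K W₁ => ((A ⟨w, hw⟩ : W₁) : W)) h1
        exact this
      obtain ⟨Fx, hFxn, hFx⟩ : ∃ Fx : Subgroup L, Fx.Normal ∧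
          ∀ g, g ∈ Fx ↔ ∀ w ∈ W₁, ρ g w = w := by
        refine ⟨{ carrier := {g | ∀ w ∈ W₁, ρ g w = w}
                  one_mem' := by intro w _; simp
                  mul_mem' := by
                    intro a b ha hb w hw
                    rw [map_mul, Module.End.mul_apply, hb w hw, ha w hw]
                  inv_mem' := by
                    intro a ha w hw
                    have h1 := ha w hw
                    have h2 : ρ a⁻¹ (ρ a w) = w := by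
                      rw [← Module.End.mul_apply, ← map_mul, inv_mul_cancel, map_one]; rfl
                    rwa [h1] at h2 }, ⟨fun g hg h => ?_⟩, fun g => Iff.rfl⟩
        intro w hw
        show ρ (h * g * h⁻¹) w = w
        rw [map_mul, map_mul, Module.End.mul_apply, Module.End.mul_apply,
          hg _ (hσW h⁻¹ w hw), ← Module.End.mul_apply, ← map_mul, mul_inv_cancel, map_one]
        rfl
      haveI := hFxn
      have hS₀Fx : S₀ ⊆ Fx := by
        intro c hc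
        obtain ⟨a, b, ha, hb, rfl⟩ := (hS₀ c).mp hc
        show a * b * a⁻¹ * b⁻¹ ∈ Fx
        rw [hFx]
        intro w hw
        have hu : ρ a⁻¹ (ρ b⁻¹ w) ∈ W₁ := hσW _ _ (hσW _ _ hw)
        have h1 := hcomW a ha b hb _ hu
        have h3 : ρ a (ρ a⁻¹ (ρ b⁻¹ w)) = ρ b⁻¹ w := by
          rw [← Module.End.mul_apply, ← map_mul, mul_inv_cancel, map_one]; rfl
        have h4 : ρ b (ρ b⁻¹ w) = w := by
          rw [← Module.End.mul_apply, ← map_mul, mul_inv_cancel, map_one]; rfl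
        rw [map_mul, map_mul, map_mul, Module.End.mul_apply, Module.End.mul_apply,
          Module.End.mul_apply, h1, h3, h4]
      have hle : Subgroup.normalClosure S₀ ≤ Fx := Subgroup.normalClosure_le_normal hS₀Fx
      intro c hc w hw
      exact (hFx c).mp (hle hc) w hw
    · refine ⟨a₀ * b₀ * a₀⁻¹ * b₀⁻¹, Subgroup.subset_normalClosure
        ((hS₀ _).mpr ⟨a₀, b₀, ha₀, hb₀, rfl⟩), ?_⟩
      intro h1
      apply hne₀
      have h2 : a₀ * b₀ = (a₀ * b₀ * a₀⁻¹ * b₀⁻¹) * (b₀ * a₀) := by group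
      rw [← map_mul, h2, map_mul, h1, one_mul, map_mul]
  refine ⟨hirr, hsup, ?_, ?_⟩
  · intro P hPT hPn hPφ hPψ hPne x hx b hb
    haveI := hPn
    have hL₂ : P ⊔ U ≠ ⊤ := by
      intro htop
      apply hPne
      apply le_antisymm hPT
      intro y hy
      have hy' : y ∈ P ⊔ U := by rw [htop]; trivial
      obtain ⟨z, hz, c, hc, hzc⟩ := Subgroup.mem_sup_of_normal_left.mp hy'
      have hcT : c ∈ T := by
        have : c = z⁻¹ * y := by rw [← hzc]; group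
        rw [this]
        exact T.mul_mem (T.inv_mem (hPT hz)) hy
      have hc1 := hTU1 c hcT hc
      rw [hc1, mul_one] at hzc
      rw [← hzc]; exact hz
    have hres := pq_sub p q k t u ρ X X' Y Y' φ ψ T U H IHL (P ⊔ U) hL₂
      (inv_sup φ _ _ hPφ H.hφU) (inv_sup ψ _ _ hPψ H.hψU) P U le_sup_left le_sup_right
      (fun g _ y hy => hPn.conj_mem y hy g) (H.hT.to_le hPT) H.hU hPφ hPψ H.hφU H.hψU
      x hx b hb
    exact hcomm_of _ _ hres
  · intro U₁ hU₁U hU₁φ hU₁ψ hU₁ne b hb a ha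
    have hL₂ : T ⊔ U₁ ≠ ⊤ := by
      intro htop
      apply hU₁ne
      apply le_antisymm hU₁U
      intro y hy
      have hy' : y ∈ T ⊔ U₁ := by rw [htop]; trivial
      obtain ⟨z, hz, c, hc, hzc⟩ := Subgroup.mem_sup_of_normal_left.mp hy'
      have hzU : z ∈ U := by
        have : z = y * c⁻¹ := by rw [← hzc]; group
        rw [this]
        exact U.mul_mem hy (U.inv_mem (hU₁U hc))
      have hz1 := hTU1 z hz hzU
      rw [hz1, one_mul] at hzc
      rw [← hzc]; exact hc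
    have hres := pq_sub p q k t u ρ X X' Y Y' φ ψ T U H IHL (T ⊔ U₁) hL₂
      (inv_sup φ _ _ H.hφT hU₁φ) (inv_sup ψ _ _ H.hψT hU₁ψ) T U₁ le_sup_left le_sup_right
      (fun g _ y hy => H.hTn.conj_mem y hy g) H.hT (H.hU.to_le hU₁U) H.hφT H.hψT hU₁φ hU₁ψ
      a ha b hb
    exact hcomm_of _ _ hres

end Cfsg.Agent.Lib.Helper3.Sh
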