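import Mathlib
import Cfsg.Agent.Lib.Helper3.PqA
import Cfsg.Agent.Lib.Helper3.PqB

/-!
# Frobenius groups of order `pq`, part G: the double norm of a fixed-point-free action on a
commutative group is trivial; a fixed point of the two automorphisms in an orbit of an invariant
`u`-subgroup; the numerical data are never exceptional for the kernel.
-/

set_option autoImplicit false
set_option maxHeartbeats 4000000
set_option maxRecDepth 100000
set_option linter.unusedVariables false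
set_option linter.unusedSectionVars false
set_option linter.style.haveILetI false
set_option linter.deprecated false

namespace Cfsg.Agent.Lib.Helper3.Sh

open Cfsg.Agent.Lib.Helper8.FP4 Cfsg.Agent.Lib.Helper6.Wd

theorem prod_shift {M : Type*} [CommGroup M] (g : ℕ → M) (n : ℕ) (h : g n = g 0) :
    ∏ i ∈ Finset.range n, g (i + 1) = ∏ i ∈ Finset.range n, g i := by
  have h1 := Finset.prod_range_succ g n
  have h2 := Finset.prod_range_succ' g n
  rw [h1, h] at h2
  exact (mul_right_cancel h2).symm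

theorem prod_mul_perm {M : Type*} [CommMonoid M] (g : ℕ → M) (p k : ℕ) (hp : p.Prime)
    (hk : ¬ p ∣ k) (hper : ∀ i, g (i % p) = g i) :
    ∏ i ∈ Finset.range p, g (i * k) = ∏ i ∈ Finset.range p, g i := by
  classical
  have hcop : Nat.gcd p k = 1 := (Nat.Prime.coprime_iff_not_dvd hp).mpr hk
  have hinj : Set.InjOn (fun i => (i * k) % p) (Finset.range p : Set ℕ) := by
    intro i hi i' hi' h
    have hi1 : i < p := Finset.mem_range.mp hi
    have hi1' : i' < p := Finset.mem_range.mp hi'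
    have h1 : i * k ≡ i' * k [MOD p] := h
    have h2 : i ≡ i' [MOD p] := Nat.ModEq.cancel_right_of_coprime hcop h1
    have h3 : i % p = i' % p := h2
    rwa [Nat.mod_eq_of_lt hi1, Nat.mod_eq_of_lt hi1'] at h3
  have himg : (Finset.range p).image (fun i => (i * k) % p) = Finset.range p := by
    apply Finset.eq_of_subset_of_card_le
    · intro j hj
      obtain ⟨i, _, rfl⟩ := Finset.mem_image.mp hj
      exact Finset.mem_range.mpr (Nat.mod_lt _ hp.pos)
    · rw [Finset.card_image_of_injOn hinj]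
  calc ∏ i ∈ Finset.range p, g (i * k) = ∏ i ∈ Finset.range p, g ((i * k) % p) := by
        refine Finset.prod_congr rfl (fun i _ => ?_)
        rw [hper]
    _ = ∏ j ∈ (Finset.range p).image (fun i => (i * k) % p), g j :=
        (Finset.prod_image hinj).symm
    _ = ∏ i ∈ Finset.range p, g i := by rw [himg]

/-- The double norm of an element of a commutative group under a fixed-point-free action. -/
theorem nm2_eq_one {M : Type*} [CommGroup M] {p q k : ℕ} (hnum : PQNum p q k) {s r : MulAut M}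
    (h : AutPQ p q k s r) (hfpf : ∀ g, s g = g → r g = g → g = 1) (z : M) :
    ∏ i ∈ Finset.range p, ∏ j ∈ Finset.range q, (s ^ i * r ^ j) z = 1 := by
  apply hfpf
  · rw [map_prod]
    have h1 : ∀ i ∈ Finset.range p, s (∏ j ∈ Finset.range q, (s ^ i * r ^ j) z)
        = ∏ j ∈ Finset.range q, (s ^ (i + 1) * r ^ j) z := by
      intro i _
      rw [map_prod]
      refine Finset.prod_congr rfl (fun j _ => ?_)
      rw [← MulAut.mul_apply, ← mul_assoc, ← pow_succ']
    rw [Finset.prod_congr rfl h1]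
    refine prod_shift (fun i => ∏ j ∈ Finset.range q, (s ^ i * r ^ j) z) p ?_
    show ∏ j ∈ Finset.range q, (s ^ p * r ^ j) z = ∏ j ∈ Finset.range q, (s ^ 0 * r ^ j) z
    rw [h.sp, pow_zero]
  · rw [map_prod]
    have h1 : ∀ i ∈ Finset.range p, r (∏ j ∈ Finset.range q, (s ^ i * r ^ j) z)
        = ∏ j ∈ Finset.range q, (s ^ (i * k) * r ^ (j + 1)) z := by
      intro i _
      rw [map_prod]
      refine Finset.prod_congr rfl (fun j _ => ?_)
      rw [← MulAut.mul_apply, ← mul_assoc, rel_pow_right s r k h.rs i, mul_assoc, ← pow_succ']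
    rw [Finset.prod_congr rfl h1, Finset.prod_comm]
    have h2 : ∀ j ∈ Finset.range q, ∏ i ∈ Finset.range p, (s ^ (i * k) * r ^ (j + 1)) z
        = ∏ i ∈ Finset.range p, (s ^ i * r ^ (j + 1)) z := by
      intro j _
      refine prod_mul_perm (fun i => (s ^ i * r ^ (j + 1)) z) p k hnum.hp hnum.not_dvd_k ?_
      intro i
      show (s ^ (i % p) * r ^ (j + 1)) z = (s ^ i * r ^ (j + 1)) z
      rw [pow_eq_pow_of_modEq s p h.sp (i % p) i (Nat.mod_modEq i p)]
    rw [Finset.prod_congr rfl h2]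
    rw [prod_shift (fun j => ∏ i ∈ Finset.range p, (s ^ i * r ^ j) z) q ?_, Finset.prod_comm]
    show ∏ i ∈ Finset.range p, (s ^ i * r ^ q) z = ∏ i ∈ Finset.range p, (s ^ i * r ^ 0) z
    rw [h.rq, pow_zero]

/-- A multiplicative function invariant under a fixed-point-free action has values of order
dividing `pq`. -/
theorem inv_char_pow {M : Type*} [CommGroup M] {p q k : ℕ} (hnum : PQNum p q k) {s r : MulAut M}
    (h : AutPQ p q k s r) (hfpf : ∀ g, s g = g → r g = g → g = 1) {Z : Type*} [CommMonoid Z]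
    (f : M →* Z) (hs : ∀ z, f (s z) = f z) (hr : ∀ z, f (r z) = f z) (z : M) :
    f z ^ (p * q) = 1 := by
  have h1 := congrArg f (nm2_eq_one hnum h hfpf z)
  rw [map_one, map_prod] at h1
  have hspow : ∀ (i : ℕ) (y : M), f ((s ^ i) y) = f y := by
    intro i
    induction i with
    | zero => intro y; rw [pow_zero]; rfl
    | succ i ih => intro y; rw [pow_succ', MulAut.mul_apply, hs, ih]
  have hrpow : ∀ (j : ℕ) (y : M), f ((r ^ j) y) = f y := by
    intro j
    induction j with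
    | zero => intro y; rw [pow_zero]; rfl
    | succ j ih => intro y; rw [pow_succ', MulAut.mul_apply, hr, ih]
  have h2 : ∀ i ∈ Finset.range p, f (∏ j ∈ Finset.range q, (s ^ i * r ^ j) z) = f z ^ q := by
    intro i _
    rw [map_prod]
    have : ∀ j ∈ Finset.range q, f ((s ^ i * r ^ j) z) = f z := by
      intro j _
      rw [MulAut.mul_apply, hspow, hrpow]
    rw [Finset.prod_congr rfl this, Finset.prod_const, Finset.card_range]
  rw [Finset.prod_congr rfl h2, Finset.prod_const, Finset.card_range, ← pow_mul, mul_comm q p]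
    at h1
  exact h1

/-- `q` divides `p - 1`. -/
theorem PQNum.dvd_sub_one {p q k : ℕ} (h : PQNum p q k) : q ∣ p - 1 := by
  haveI := Fact.mk h.hp
  haveI := Fact.mk h.hq
  have h1 : ((k : ZMod p)) ^ q = 1 := by
    have := (ZMod.natCast_eq_natCast_iff _ _ _).mpr h.hkq
    simpa using this
  have h2 : ((k : ZMod p)) ≠ 1 := by
    intro h2
    apply h.hk1
    have : ((k : ℕ) : ZMod p) = ((1 : ℕ) : ZMod p) := by simpa using h2
    exact (ZMod.natCast_eq_natCast_iff _ _ _).mp this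
  have h3 : orderOf (k : ZMod p) = q := orderOf_eq_prime h1 h2
  have h0 : (k : ZMod p) ≠ 0 := by
    intro h0
    rw [h0, zero_pow h.hq.pos.ne'] at h1
    exact zero_ne_one h1
  have h4 : (k : ZMod p) ^ (p - 1) = 1 := ZMod.pow_card_sub_one_eq_one h0
  rw [← h3]
  exact orderOf_dvd_of_pow_eq_one h4

theorem PQNum.p_ne_two {p q k : ℕ} (h : PQNum p q k) : p ≠ 2 := by
  intro hp2
  have h1 := h.dvd_sub_one
  rw [hp2] at h1
  have := Nat.dvd_one.mp h1
  exact h.hq.one_lt.ne' this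

/-- The kernel prime is never exceptional. -/
theorem PQNum.nonexc {p q k : ℕ} (h : PQNum p q k) (t : ℕ) (ht : t.Prime) (htq : t ≠ q) :
    ∀ m : ℕ, p ≠ t ^ m + 1 := by
  intro m hm
  have hdvd := h.dvd_sub_one
  rw [hm, Nat.add_sub_cancel] at hdvd
  have h1 : q ∣ t := h.hq.dvd_of_dvd_pow hdvd
  have h2 := (Nat.prime_dvd_prime_iff_eq h.hq ht).mp h1
  exact htq h2.symm

/-- A common fixed point in an orbit of an invariant `u`-subgroup. -/
theorem orbit_fixed_pq {L : Type*} [Group L] [Finite L] {𝒳 : Type*}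
    (act : L → 𝒳 → 𝒳) (hact1 : ∀ x, act 1 x = x)
    (hactmul : ∀ g h x, act (g * h) x = act g (act h x))
    {p q u : ℕ} [hp : Fact p.Prime] [hq : Fact q.Prime] [hu : Fact u.Prime]
    (hup : u ≠ p) (huq : u ≠ q)
    (φ ψ : MulAut L) (hφp : φ ^ p = 1)
    (U : Subgroup L) (hU : IsPGroup u U) (hφU : Inv φ U) (hψU : Inv ψ U)
    (Fφ Fψ : Function.End 𝒳) (hFφ : ∀ g x, Fφ (act g x) = act (φ g) (Fφ x))
    (hFψ : ∀ g x, Fψ (act g x) = act (ψ g) (Fψ x))
    (hFφp : Fφ ^ p = 1) (hFψq : Fψ ^ q = 1)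
    (hnorm : ∀ x, Fφ x = x → Fφ (Fψ x) = Fψ x)
    (x₀ : 𝒳) (h1 : ∃ b ∈ U, Fφ x₀ = act b x₀) (h2 : ∃ b ∈ U, Fψ x₀ = act b x₀) :
    ∃ b ∈ U, Fφ (act b x₀) = act b x₀ ∧ Fψ (act b x₀) = act b x₀ := by
  classical
  letI instA : MulAction L 𝒳 :=
    { smul := act
      one_smul := hact1
      mul_smul := hactmul }
  have hsm : ∀ (g : L) (x : 𝒳), g • x = act g x := fun _ _ => rfl
  have hnd : ∀ (V : Subgroup L), V ≤ U → ∀ x : 𝒳, ∀ n : ℕ, n.Prime → n ≠ u →
      ∀ [Fintype (MulAction.orbit ↥V x)], ¬ n ∣ Fintype.card (MulAction.orbit ↥V x) := by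
    intro V hVU x n hn hnu _ hd
    obtain ⟨a, ha⟩ := (hU.to_le hVU).card_orbit x
    rw [Nat.card_eq_fintype_card] at ha
    rw [ha] at hd
    have := hn.dvd_of_dvd_pow hd
    exact hnu ((Nat.prime_dvd_prime_iff_eq hn hu.out).mp this)
  have hfinorb : ∀ (V : Subgroup L) (x : 𝒳), Finite (MulAction.orbit ↥V x) := by
    intro V x
    exact Set.finite_range _
  -- Step 1: a fixed point of the first map in the orbit
  have hΩ : ∀ x, x ∈ MulAction.orbit ↥U x₀ ↔ ∃ b ∈ U, x = act b x₀ := by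
    intro x
    rw [MulAction.mem_orbit_iff]
    constructor
    · rintro ⟨b, rfl⟩
      exact ⟨b.1, b.2, rfl⟩
    · rintro ⟨b, hb, rfl⟩
      exact ⟨⟨b, hb⟩, rfl⟩
  have hFφΩ : ∀ x ∈ MulAction.orbit ↥U x₀, Fφ x ∈ MulAction.orbit ↥U x₀ := by
    intro x hx
    obtain ⟨b, hb, rfl⟩ := (hΩ x).mp hx
    obtain ⟨b₁, hb₁, h1'⟩ := h1
    rw [hΩ, hFφ, h1', ← hactmul]
    exact ⟨_, U.mul_mem (hφU b hb) hb₁, rfl⟩
  have hFψΩ : ∀ x ∈ MulAction.orbit ↥U x₀, Fψ x ∈ MulAction.orbit ↥U x₀ := by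
    intro x hx
    obtain ⟨b, hb, rfl⟩ := (hΩ x).mp hx
    obtain ⟨b₂, hb₂, h2'⟩ := h2
    rw [hΩ, hFψ, h2', ← hactmul]
    exact ⟨_, U.mul_mem (hψU b hb) hb₂, rfl⟩
  obtain ⟨x₁, hx₁Ω, hx₁⟩ : ∃ x₁ ∈ MulAction.orbit ↥U x₀, Fφ x₁ = x₁ := by
    haveI := hfinorb U x₀
    haveI : Fintype (MulAction.orbit ↥U x₀) := Fintype.ofFinite _
    let f : Function.End (MulAction.orbit ↥U x₀) := fun x => ⟨Fφ x.1, hFφΩ x.1 x.2⟩
    have hfpow : ∀ (m : ℕ) (x : MulAction.orbit ↥U x₀), ((f ^ m) x).1 = (Fφ ^ m) x.1 := by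
      intro m
      induction m with
      | zero => intro x; rfl
      | succ m ih =>
        intro x
        rw [pow_succ', pow_succ']
        show Fφ ((f ^ m) x).1 = Fφ ((Fφ ^ m) x.1)
        rw [ih]
    have hfp : f ^ p ^ 1 = 1 := by
      funext x
      apply Subtype.ext
      rw [pow_one, hfpow, hFφp]; rfl
    have hmod := Equiv.Perm.card_fixedPoints_modEq (f := f) (p := p) (n := 1) hfp
    have hne : Nonempty (Function.fixedPoints f) := by
      by_contra hcon
      rw [not_nonempty_iff] at hcon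
      have h0 : Fintype.card (Function.fixedPoints f) = 0 := Fintype.card_eq_zero
      rw [h0] at hmod
      exact hnd U le_rfl x₀ p hp.out (Ne.symm hup) ((Nat.modEq_zero_iff_dvd).mp hmod)
    obtain ⟨⟨x, hx⟩⟩ := hne
    exact ⟨x.1, x.2, congrArg Subtype.val hx⟩
  -- Step 2: the fixed points of the first map in the orbit form an orbit of the fixed subgroup
  have hpU : ∀ V : Subgroup L, V ≤ U → ¬ p ∣ Nat.card V := by
    intro V hVU hd
    obtain ⟨a, ha⟩ := IsPGroup.iff_card.mp (hU.to_le hVU)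
    rw [ha] at hd
    have := hp.out.dvd_of_dvd_pow hd
    exact hup ((Nat.prime_dvd_prime_iff_eq hp.out hu.out).mp this).symm
  have hΩ' : ∀ x, (x ∈ MulAction.orbit ↥U x₀ ∧ Fφ x = x)
      ↔ x ∈ MulAction.orbit ↥(U ⊓ fix φ) x₁ := by
    intro x
    rw [MulAction.mem_orbit_iff]
    constructor
    · rintro ⟨hxΩ, hx⟩
      obtain ⟨b₂, hb₂, rfl⟩ := (hΩ x).mp hxΩ
      obtain ⟨b₁, hb₁, rfl⟩ := (hΩ x₁).mp hx₁Ω
      obtain ⟨b, hb, hbx⟩ : ∃ b ∈ U, act b₂ x₀ = act b (act b₁ x₀) := by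
        refine ⟨b₂ * b₁⁻¹, U.mul_mem hb₂ (U.inv_mem hb₁), ?_⟩
        rw [← hactmul, inv_mul_cancel_right]
      -- the stabiliser
      let S₁ : Subgroup L := U ⊓ MulAction.stabilizer L (act b₁ x₀)
      have hS₁ : ∀ c, c ∈ S₁ ↔ c ∈ U ∧ act c (act b₁ x₀) = act b₁ x₀ := by
        intro c
        show c ∈ U ∧ c ∈ MulAction.stabilizer L (act b₁ x₀) ↔ _
        rw [MulAction.mem_stabilizer_iff]; rfl
      have hS₁inv : Inv φ S₁ := by
        intro c hc
        rw [hS₁] at hc ⊢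
        refine ⟨hφU c hc.1, ?_⟩
        have := hFφ c (act b₁ x₀)
        rw [hc.2, hx₁] at this
        exact this.symm
      have hmem : b⁻¹ * φ b ∈ S₁ := by
        rw [hS₁]
        refine ⟨U.mul_mem (U.inv_mem hb) (hφU b hb), ?_⟩
        have h3 := hFφ b (act b₁ x₀)
        rw [hx₁, ← hbx, hx, hbx] at h3
        rw [hactmul, ← h3, ← hactmul, inv_mul_cancel, hact1]
      obtain ⟨n, hn, hfix⟩ := exists_fixed_in_coset φ hφp S₁ hS₁inv (hpU S₁ inf_le_left) b hmem
      have hn' := (hS₁ n).mp hn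
      refine ⟨⟨b * n, U.mul_mem hb hn'.1, hfix⟩, ?_⟩
      show act (b * n) (act b₁ x₀) = act b₂ x₀
      rw [hactmul, hn'.2, hbx]
    · rintro ⟨c, rfl⟩
      obtain ⟨b₁, hb₁, hx₁e⟩ := (hΩ x₁).mp hx₁Ω
      refine ⟨?_, ?_⟩
      · refine (hΩ _).mpr ⟨c.1 * b₁, U.mul_mem c.2.1 hb₁, ?_⟩
        show act c.1 x₁ = _
        rw [hx₁e, hactmul]
      · show Fφ (act c.1 x₁) = act c.1 x₁
        rw [hFφ, hx₁, show φ c.1 = c.1 from c.2.2]
  -- Step 3: a fixed point of the second map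
  let Ω := {x : 𝒳 // x ∈ MulAction.orbit ↥U x₀ ∧ Fφ x = x}
  haveI := hfinorb (U ⊓ fix φ) x₁
  haveI : Finite Ω := Finite.of_equiv _ (Equiv.subtypeEquivRight hΩ').symm
  haveI : Fintype Ω := Fintype.ofFinite _
  haveI : Fintype (MulAction.orbit ↥(U ⊓ fix φ) x₁) := Fintype.ofFinite _
  have hΩq : ¬ q ∣ Fintype.card Ω := by
    have h3 : Fintype.card Ω = Fintype.card (MulAction.orbit ↥(U ⊓ fix φ) x₁) :=
      Fintype.card_congr (Equiv.subtypeEquivRight hΩ')
    rw [h3]
    exact hnd (U ⊓ fix φ) inf_le_left x₁ q hq.out (Ne.symm huq)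
  let f : Function.End Ω := fun x => ⟨Fψ x.1, hFψΩ x.1 x.2.1, hnorm x.1 x.2.2⟩
  have hfpow : ∀ (m : ℕ) (x : Ω), ((f ^ m) x).1 = (Fψ ^ m) x.1 := by
    intro m
    induction m with
    | zero => intro x; rfl
    | succ m ih =>
      intro x
      rw [pow_succ', pow_succ']
      show Fψ ((f ^ m) x).1 = Fψ ((Fψ ^ m) x.1)
      rw [ih]
  have hfq : f ^ q ^ 1 = 1 := by
    funext x
    apply Subtype.ext
    rw [pow_one, hfpow, hFψq]; rfl
  have hmod := Equiv.Perm.card_fixedPoints_modEq (f := f) (p := q) (n := 1) hfq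
  have hne : Nonempty (Function.fixedPoints f) := by
    by_contra hcon
    rw [not_nonempty_iff] at hcon
    have h0 : Fintype.card (Function.fixedPoints f) = 0 := Fintype.card_eq_zero
    rw [h0] at hmod
    exact hΩq ((Nat.modEq_zero_iff_dvd).mp hmod)
  obtain ⟨⟨x, hx⟩⟩ := hne
  obtain ⟨b, hb, hxb⟩ := (hΩ x.1).mp x.2.1
  refine ⟨b, hb, ?_, ?_⟩
  · rw [← hxb]; exact x.2.2
  · rw [← hxb]; exact congrArg Subtype.val hx

end Cfsg.Agent.Lib.Helper3.Sh
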