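import Mathlib
import Cfsg.Agent.Lib.Helper3.PqD
import Cfsg.Agent.Lib.Helper3.PqE
import Cfsg.Agent.Lib.Helper3.PqC

/-!
# Frobenius groups of order `pq`, part H: generalities on blocks, powers of compatible operators
and normalised characters.
-/

set_option autoImplicit false
set_option maxHeartbeats 4000000
set_option maxRecDepth 100000
set_option linter.unusedVariables false
set_option linter.unusedSectionVars false
set_option linter.style.haveILetI false
set_option linter.deprecated false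

namespace Cfsg.Agent.Lib.Helper3.Sh

open Module Cfsg.Agent.Lib.Helper3 Cfsg.Agent.Lib.Helper3.HHC1 Cfsg.Agent.Lib.Helper8.FP4
  Cfsg.Agent.Lib.Helper6.Wd

variable {K : Type*} [Field K] {L : Type*} [Group L] {W : Type*} [AddCommGroup W] [Module K W]

theorem compat_pow_op (ρ : Representation K L W) (a : MulAut L) (A : Module.End K W)
    (hA : ∀ g, A * ρ g = ρ (a g) * A) (m : ℕ) : ∀ g, A ^ m * ρ g = ρ ((a ^ m) g) * A ^ m := by
  induction m with
  | zero => intro g; rw [pow_zero, pow_zero, one_mul, mul_one]; rfl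
  | succ m ih =>
    intro g
    rw [pow_succ', mul_assoc, ih, ← mul_assoc, hA, mul_assoc, pow_succ' a, MulAut.mul_apply]

theorem compat_pow_apply (ρ : Representation K L W) (a : MulAut L) (A : Module.End K W)
    (hA : ∀ g, A * ρ g = ρ (a g) * A) (m : ℕ) (g : L) (w : W) :
    (A ^ m) (ρ g w) = ρ ((a ^ m) g) ((A ^ m) w) := by
  have := congrArg (fun B : Module.End K W => B w) (compat_pow_op ρ a A hA m g)
  exact this

theorem inv_iff_pow [Finite L] (a : MulAut L) (N : Subgroup L) (h : Inv a N) (m : ℕ) :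
    ∀ g, g ∈ N ↔ (a ^ m) g ∈ N := by
  induction m with
  | zero => intro g; rfl
  | succ m ih =>
    intro g
    rw [pow_succ', MulAut.mul_apply, Inv.apply_mem_iff h, ← ih]

theorem pow_map_Blk [Finite L] (ρ : Representation K L W) (N : Subgroup L) (a : MulAut L)
    (A : Module.End K W) (hA : ∀ g, A * ρ g = ρ (a g) * A) (hN : Inv a N) (m : ℕ) (χ : L → K)
    (v : W) (hv : v ∈ Blk ρ N χ) : (A ^ m) v ∈ Blk ρ N (tw (a ^ m) χ) :=
  map_Blk ρ N (a ^ m) (A ^ m) (compat_pow_op ρ a A hA m) (inv_iff_pow a N hN m) χ v hv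

theorem pow_map_wt [Finite L] (ρ : Representation K L W) (N : Subgroup L) (a : MulAut L)
    (A : Module.End K W) (hA : ∀ g, A * ρ g = ρ (a g) * A) (hN : Inv a N) (m : ℕ) (χ : L → K)
    (v : W) (hv : v ∈ wt (fam ρ N) χ) : (A ^ m) v ∈ wt (fam ρ N) (tw (a ^ m) χ) :=
  map_wt ρ N (a ^ m) (A ^ m) (compat_pow_op ρ a A hA m) (inv_iff_pow a N hN m) χ v hv

theorem inv_eq_pow {R : Type*} [Monoid R] (A A' : R) (n : ℕ) (hn : 0 < n) (hAA' : A * A' = 1)
    (hAn : A ^ n = 1) : A' = A ^ (n - 1) := by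
  calc A' = A ^ n * A' := by rw [hAn, one_mul]
    _ = A ^ (n - 1) * (A * A') := by
        rw [← mul_assoc, ← pow_succ, Nat.sub_add_cancel hn]
    _ = A ^ (n - 1) := by rw [hAA', mul_one]

section ends

variable {𝔹 : Type*}

theorem end_fix_pow (F : Function.End 𝔹) (β : 𝔹) (h : F β = β) (m : ℕ) : (F ^ m) β = β := by
  induction m with
  | zero => rfl
  | succ m ih =>
    rw [pow_succ]
    show (F ^ m) (F β) = β
    rw [h, ih]

theorem end_pow_injective (F : Function.End 𝔹) (n : ℕ) (hn : 0 < n) (hF : F ^ n = 1) (a : ℕ) :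
    Function.Injective (F ^ a) := by
  intro x y hxy
  have h1 : F ^ (a * (n - 1)) * F ^ a = 1 := by
    rw [← pow_add, ← Nat.mul_succ, Nat.succ_eq_add_one, Nat.sub_add_cancel hn, mul_comm, pow_mul,
      hF, one_pow]
  have h2 : (F ^ (a * (n - 1)) * F ^ a) x = (F ^ (a * (n - 1)) * F ^ a) y := by
    show (F ^ (a * (n - 1))) ((F ^ a) x) = (F ^ (a * (n - 1))) ((F ^ a) y)
    rw [hxy]
  rw [h1] at h2
  exact h2

theorem end_pow_sub_fix (F : Function.End 𝔹) (n : ℕ) (hn : 0 < n) (hF : F ^ n = 1) (a b : ℕ)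
    (hab : a ≤ b) (β : 𝔹) (h : (F ^ a) β = (F ^ b) β) : (F ^ (b - a)) β = β := by
  apply end_pow_injective F n hn hF a
  show (F ^ a) ((F ^ (b - a)) β) = (F ^ a) β
  have : (F ^ a) ((F ^ (b - a)) β) = (F ^ a * F ^ (b - a)) β := rfl
  rw [this, ← pow_add, Nat.add_sub_cancel' hab, h]

/-- Distinctness of the points of an orbit of prime length. -/
theorem end_orbit_distinct (F : Function.End 𝔹) (n : ℕ) (hn : 0 < n) (hF : F ^ n = 1) (β : 𝔹)
    (hne : ∀ a, 0 < a → a < n → (F ^ a) β ≠ β) (a b : ℕ) (ha : a < n) (hb : b < n)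
    (h : (F ^ a) β = (F ^ b) β) : a = b := by
  by_contra hab
  rcases Nat.lt_or_gt_of_ne hab with hlt | hlt
  · exact hne (b - a) (by omega) (by omega) (end_pow_sub_fix F n hn hF a b hlt.le β h)
  · exact hne (a - b) (by omega) (by omega) (end_pow_sub_fix F n hn hF b a hlt.le β h.symm)

end ends

/-- A character with a non-zero weight space is trivial outside the subgroup. -/
theorem chi_off (ρ : Representation K L W) (N : Subgroup L) (χ : L → K)
    (hne : wt (fam ρ N) χ ≠ ⊥) : ∀ x, x ∉ N → χ x = 1 := by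
  intro x hx
  obtain ⟨v, hv, hv0⟩ := (Submodule.ne_bot_iff _).mp hne
  have h1 := (mem_wt.mp hv) x
  rw [fam_of_not_mem ρ N hx] at h1
  have h2 : (1 - χ x) • v = 0 := by
    rw [sub_smul, one_smul, ← h1]
    show v - v = 0
    exact sub_self v
  rcases smul_eq_zero.mp h2 with h3 | h3
  · exact (sub_eq_zero.mp h3).symm
  · exact absurd h3 hv0

theorem off_tw_conj (N : Subgroup L) [hN : N.Normal] (χ : L → K) (hoff : ∀ x, x ∉ N → χ x = 1)
    (g : L) : ∀ x, x ∉ N → tw (MulAut.conj g) χ x = 1 := by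
  intro x hx
  rw [tw_apply]
  apply hoff
  intro h
  apply hx
  have h1 := hN.conj_mem _ h g
  have h2 : g * (MulAut.conj g)⁻¹ x * g⁻¹ = x := by
    have : (MulAut.conj g) ((MulAut.conj g)⁻¹ x) = x := by
      rw [← MulAut.mul_apply, mul_inv_cancel]; rfl
    rw [MulAut.conj_apply] at this
    exact this
  rwa [h2] at h1

/-- Elements centralising the subgroup fix normalised characters. -/
theorem tw_conj_of_centralises (N : Subgroup L) [hN : N.Normal] (χ : L → K)
    (hoff : ∀ x, x ∉ N → χ x = 1) (a : L) (ha : ∀ z ∈ N, a * z = z * a) :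
    tw (MulAut.conj a) χ = χ := by
  funext x
  rw [tw_apply]
  have h0 : (MulAut.conj a)⁻¹ x = a⁻¹ * x * a := by
    rw [← map_inv, MulAut.conj_apply, inv_inv]
  rw [h0]
  by_cases hx : x ∈ N
  · have := ha x hx
    have h1 : a⁻¹ * x * a = x := by
      rw [mul_assoc, ← this, inv_mul_cancel_left]
    rw [h1]
  · rw [hoff x hx]
    apply hoff
    intro h
    apply hx
    have h1 := hN.conj_mem _ h a
    have h2 : a * (a⁻¹ * x * a) * a⁻¹ = x := by group
    rwa [h2] at h1

/-- An element of the subgroup on which all conjugates of the character are trivial acts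
trivially on the block. -/
theorem triv_on_Blk (ρ : Representation K L W) (N : Subgroup L) [hN : N.Normal] (χ : L → K)
    (hχ1 : ∀ x ∈ N, χ x = 1) (z : L) (hz : z ∈ N) : ∀ v ∈ Blk ρ N χ, ρ z v = v := by
  intro v hv
  unfold Blk at hv
  refine Submodule.iSup_induction _ (motive := fun v => ρ z v = v) hv ?_ ?_ ?_
  · intro g w hw
    rw [chi_apply ρ N _ w hw z hz, tw_apply]
    have h0 : (MulAut.conj g)⁻¹ z = g⁻¹ * z * g := by
      rw [← map_inv, MulAut.conj_apply, inv_inv]
    have h1 : g⁻¹ * z * g ∈ N := by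
      have := hN.conj_mem z hz g⁻¹
      rwa [inv_inv] at this
    rw [h0, hχ1 _ h1, one_smul]
  · rw [map_zero]
  · intro a b ha hb
    rw [map_add, ha, hb]

theorem sum_fin_prod {M : Type*} [AddCommMonoid M] (p q : ℕ) (g : ℕ → ℕ → M) :
    ∑ x : Fin p × Fin q, g x.1 x.2 = ∑ i ∈ Finset.range p, ∑ j ∈ Finset.range q, g i j := by
  rw [Fintype.sum_prod_type]
  rw [← Fin.sum_univ_eq_sum_range (fun i => ∑ j ∈ Finset.range q, g i j) p]
  refine Finset.sum_congr rfl (fun i _ => ?_)
  rw [← Fin.sum_univ_eq_sum_range (fun j => g i j) q]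

theorem cls_pow_mul (φ ψ : MulAut L) (i j : ℕ) (χ : L → K) :
    ((twHom K L φ) ^ i * (twHom K L ψ) ^ j) (Quotient.mk'' χ : Quotient (conjSetoid K L))
      = Quotient.mk'' (tw (φ ^ i * ψ ^ j) χ) := by
  rw [← map_pow, ← map_pow, ← map_mul, twHom_mk]

theorem cls_pow (φ : MulAut L) (i : ℕ) (χ : L → K) :
    ((twHom K L φ) ^ i) (Quotient.mk'' χ : Quotient (conjSetoid K L))
      = Quotient.mk'' (tw (φ ^ i) χ) := by
  rw [← map_pow, twHom_mk]

theorem Blk_eq_of_cls (ρ : Representation K L W) (N : Subgroup L) {χ χ' : L → K}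
    (h : (Quotient.mk'' χ : Quotient (conjSetoid K L)) = Quotient.mk'' χ') :
    Blk ρ N χ = Blk ρ N χ' :=
  (Blk_congr ρ N ((mk_eq_iff χ χ').mp h)).symm

end Cfsg.Agent.Lib.Helper3.Sh
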