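import Mathlib
import Cfsg.Agent.Lib.Helper3.PqG
import Cfsg.Agent.Lib.Helper3.PqH

/-!
# Frobenius groups of order `pq`, part I: the four types of orbits of blocks.
-/

set_option autoImplicit false
set_option maxHeartbeats 4000000
set_option maxRecDepth 100000
set_option linter.unusedVariables false
set_option linter.unusedSectionVars false
set_option linter.style.haveILetI false
set_option linter.deprecated false

namespace Cfsg.Agent.Lib.Helper3.Sh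

open Module Cfsg.Agent.Lib.Helper3 Cfsg.Agent.Lib.Helper3.HHC1 Cfsg.Agent.Lib.Helper8.FP4
  Cfsg.Agent.Lib.Helper6.Wd

universe uu vv ww

variable {p q k t u : ℕ} {K : Type ww} [Field K] {L : Type uu} [Group L] [Finite L] {W : Type vv}
  [AddCommGroup W] [Module K W] {ρ : Representation K L W} {X X' Y Y' : Module.End K W}
  {φ ψ : MulAut L} {T U : Subgroup L}

theorem tw_end_pow {G : Type*} [Group G] (a : MulAut G) (F : Function.End (G → K))
    (hF : ∀ χ, F χ = tw a χ) (m : ℕ) (χ : G → K) : (F ^ m) χ = tw (a ^ m) χ := by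
  induction m with
  | zero => rw [pow_zero, pow_zero, tw_one]; rfl
  | succ m ih =>
    rw [pow_succ', pow_succ', tw_mul, ← ih, ← hF]; rfl

theorem pow_pow_cancel (φ : MulAut L) (p : ℕ) (hp : 0 < p) (hφ : φ ^ p = 1) (a : ℕ) (h : L) :
    (φ ^ a) ((φ ^ (a * (p - 1))) h) = h := by
  have e : a + a * (p - 1) = p * a := by
    obtain ⟨p', rfl⟩ : ∃ p', p = p' + 1 := ⟨p - 1, by omega⟩
    rw [Nat.add_sub_cancel]; ring
  rw [← MulAut.mul_apply, ← pow_add, e, pow_mul, hφ, one_pow]; rfl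

theorem op_pow_injective (A : Module.End K W) (n : ℕ) (hn : 0 < n) (hA : A ^ n = 1) (a : ℕ)
    (v : W) (h : (A ^ a) v = 0) : v = 0 := by
  have h1 : A ^ (a * (n - 1)) * A ^ a = 1 := by
    rw [← pow_add, ← Nat.mul_succ, Nat.succ_eq_add_one, Nat.sub_add_cancel hn, mul_comm, pow_mul,
      hA, one_pow]
  have h2 : (A ^ (a * (n - 1)) * A ^ a) v = v := by rw [h1]; rfl
  rw [Module.End.mul_apply, h, map_zero] at h2
  exact h2.symm

theorem hN_apply (H : PQCfg p q k t u ρ X X' Y Y' φ ψ T U) (w : W) :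
    ∑ i ∈ Finset.range p, ∑ j ∈ Finset.range q, (X ^ i) ((Y ^ j) w) = 0 := by
  have := congrArg (fun A : Module.End K W => A w) H.hN
  simp only [LinearMap.sum_apply, Module.End.mul_apply, LinearMap.zero_apply] at this
  exact this

theorem cls_rel (H : PQCfg p q k t u ρ X X' Y Y' φ ψ T U) :
    (twHom K L φ) ^ p = 1 ∧ (twHom K L ψ) ^ q = 1 ∧
      twHom K L ψ * twHom K L φ = (twHom K L φ) ^ k * twHom K L ψ := by
  refine ⟨?_, ?_, ?_⟩
  · rw [← map_pow, H.aut.sp, map_one]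
  · rw [← map_pow, H.aut.rq, map_one]
  · rw [← map_pow, ← map_mul, ← map_mul, H.aut.rs]

/-- The free type is impossible. -/
theorem blk_free (hnum : PQNum p q k) (H : PQCfg p q k t u ρ X X' Y Y' φ ψ T U)
    (N : Subgroup L) [N.Normal] (hNφ : Inv φ N) (hNψ : Inv ψ N)
    (hc : ∀ a ∈ N, ∀ b ∈ N, ρ a * ρ b = ρ b * ρ a) (χ₀ : L → K)
    (hfree : ∀ i i' j j', i < p → i' < p → j < q → j' < q →
      ((twHom K L φ) ^ i * (twHom K L ψ) ^ j) (Quotient.mk'' χ₀ : Quotient (conjSetoid K L))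
        = ((twHom K L φ) ^ i' * (twHom K L ψ) ^ j') (Quotient.mk'' χ₀) → i = i' ∧ j = j')
    (w : W) (hw : w ∈ wt (fam ρ N) χ₀) : w = 0 := by
  classical
  let c : Fin p × Fin q → L → K := fun x => tw (φ ^ (x.1 : ℕ) * ψ ^ (x.2 : ℕ)) χ₀
  have hcne : ∀ x y, x ≠ y → ¬ conjRel (c x) (c y) := by
    intro x y hxy hrel
    apply hxy
    have h1 : (Quotient.mk'' (c x) : Quotient (conjSetoid K L)) = Quotient.mk'' (c y) :=
      (mk_eq_iff _ _).mpr hrel
    have h2 : ((twHom K L φ) ^ (x.1 : ℕ) * (twHom K L ψ) ^ (x.2 : ℕ))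
        (Quotient.mk'' χ₀ : Quotient (conjSetoid K L))
        = ((twHom K L φ) ^ (y.1 : ℕ) * (twHom K L ψ) ^ (y.2 : ℕ)) (Quotient.mk'' χ₀) := by
      rw [cls_pow_mul, cls_pow_mul]; exact h1
    obtain ⟨h3, h4⟩ := hfree _ _ _ _ x.1.2 y.1.2 x.2.2 y.2.2 h2
    exact Prod.ext (Fin.ext h3) (Fin.ext h4)
  have hind := Blk_indep ρ N hc c hcne
  let v : Fin p × Fin q → W := fun x => (X ^ (x.1 : ℕ)) ((Y ^ (x.2 : ℕ)) w)
  have hv : ∀ x ∈ (Finset.univ : Finset (Fin p × Fin q)), v x ∈ Blk ρ N (c x) := by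
    intro x _
    have h1 := pow_map_Blk ρ N ψ Y H.cY hNψ x.2 χ₀ w (wt_le_Blk ρ N χ₀ hw)
    have h2 := pow_map_Blk ρ N φ X H.cX hNφ x.1 _ _ h1
    rw [← tw_mul] at h2
    exact h2
  have hsum : ∑ x, v x = 0 := by
    show ∑ x : Fin p × Fin q, (fun i j => (X ^ i) ((Y ^ j) w)) (x.1 : ℕ) (x.2 : ℕ) = 0
    rw [sum_fin_prod p q (fun i j => (X ^ i) ((Y ^ j) w))]
    exact hN_apply H w
  have h0 := eq_zero_of_sum_eq_zero hind Finset.univ v hv hsum
    (⟨0, hnum.hp.pos⟩, ⟨0, hnum.hq.pos⟩) (Finset.mem_univ _)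
  have h1 : v (⟨0, hnum.hp.pos⟩, ⟨0, hnum.hq.pos⟩) = w := by
    show (X ^ 0) ((Y ^ 0) w) = w
    rw [pow_zero, pow_zero]; rfl
  rw [← h1]; exact h0

/-- In the type with the kernel fixing the class, the kernel fixes all the classes of the
orbit. -/
theorem typeP_fix (hnum : PQNum p q k) (H : PQCfg p q k t u ρ X X' Y Y' φ ψ T U) (χ₀ : L → K)
    (hΦ : twHom K L φ (Quotient.mk'' χ₀ : Quotient (conjSetoid K L)) = Quotient.mk'' χ₀)
    (j : ℕ) :
    twHom K L φ (((twHom K L ψ) ^ j) (Quotient.mk'' χ₀ : Quotient (conjSetoid K L)))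
      = ((twHom K L ψ) ^ j) (Quotient.mk'' χ₀) := by
  obtain ⟨hΦp, hΨq, hrel⟩ := cls_rel (K := K) H
  have h1 := rel_pow (twHom K L φ) (twHom K L ψ) k hrel j 1
  have h2 : ((twHom K L ψ) ^ j * (twHom K L φ) ^ 1)
      (Quotient.mk'' χ₀ : Quotient (conjSetoid K L))
      = ((twHom K L φ) ^ (1 * k ^ j) * (twHom K L ψ) ^ j) (Quotient.mk'' χ₀) := by rw [h1]
  rw [pow_one, one_mul] at h2
  have e1 : ((twHom K L ψ) ^ j * twHom K L φ) (Quotient.mk'' χ₀ : Quotient (conjSetoid K L))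
      = ((twHom K L ψ) ^ j) (twHom K L φ (Quotient.mk'' χ₀)) := rfl
  have e2 : ((twHom K L φ) ^ (k ^ j) * (twHom K L ψ) ^ j)
      (Quotient.mk'' χ₀ : Quotient (conjSetoid K L))
      = ((twHom K L φ) ^ (k ^ j)) (((twHom K L ψ) ^ j) (Quotient.mk'' χ₀)) := rfl
  rw [e1, e2, hΦ] at h2
  exact end_pow_fix (twHom K L φ) p (k ^ j) hnum.hp hΦp (hnum.not_dvd_k_pow j) _ h2.symm

/-- The type with the kernel fixing the class: the norm of the kernel operator vanishes on the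
blocks of the orbit. -/
theorem blk_typeP (hnum : PQNum p q k) (H : PQCfg p q k t u ρ X X' Y Y' φ ψ T U)
    (N : Subgroup L) [N.Normal] (hNφ : Inv φ N) (hNψ : Inv ψ N)
    (hc : ∀ a ∈ N, ∀ b ∈ N, ρ a * ρ b = ρ b * ρ a) (χ₀ : L → K)
    (hΦ : twHom K L φ (Quotient.mk'' χ₀ : Quotient (conjSetoid K L)) = Quotient.mk'' χ₀)
    (hΨ : ∀ j, 0 < j → j < q →
      ((twHom K L ψ) ^ j) (Quotient.mk'' χ₀ : Quotient (conjSetoid K L)) ≠ Quotient.mk'' χ₀)
    (j₀ : ℕ) (w : W) (hw : w ∈ Blk ρ N (tw (ψ ^ j₀) χ₀)) :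
    ∑ i ∈ Finset.range p, (X ^ i) w = 0 := by
  classical
  obtain ⟨hΦp, hΨq, hrel⟩ := cls_rel (K := K) H
  let c : Fin q → L → K := fun j => tw (ψ ^ (j : ℕ)) (tw (ψ ^ j₀) χ₀)
  have hcls : ∀ j : ℕ, (Quotient.mk'' (tw (ψ ^ j) (tw (ψ ^ j₀) χ₀)) : Quotient (conjSetoid K L))
      = ((twHom K L ψ) ^ (j + j₀)) (Quotient.mk'' χ₀) := by
    intro j
    rw [← tw_mul, ← pow_add, cls_pow]
  have hcne : ∀ x y, x ≠ y → ¬ conjRel (c x) (c y) := by
    intro x y hxy hrel'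
    apply hxy
    have h1 : (Quotient.mk'' (c x) : Quotient (conjSetoid K L)) = Quotient.mk'' (c y) :=
      (mk_eq_iff _ _).mpr hrel'
    rw [hcls, hcls] at h1
    apply Fin.ext
    by_contra hne
    rcases Nat.lt_or_gt_of_ne hne with hlt | hlt
    · have h2 := end_pow_sub_fix (twHom K L ψ) q hnum.hq.pos hΨq _ _ (by omega) _ h1
      have h3 : (y : ℕ) + j₀ - ((x : ℕ) + j₀) = y - x := by omega
      rw [h3] at h2
      exact hΨ _ (by omega) (by have := y.2; omega) h2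
    · have h2 := end_pow_sub_fix (twHom K L ψ) q hnum.hq.pos hΨq _ _ (by omega) _ h1.symm
      have h3 : (x : ℕ) + j₀ - ((y : ℕ) + j₀) = x - y := by omega
      rw [h3] at h2
      exact hΨ _ (by omega) (by have := x.2; omega) h2
  have hind := Blk_indep ρ N hc c hcne
  let v : Fin q → W := fun j => ∑ i ∈ Finset.range p, (X ^ i) ((Y ^ (j : ℕ)) w)
  have hv : ∀ j ∈ (Finset.univ : Finset (Fin q)), v j ∈ Blk ρ N (c j) := by
    intro j _
    refine Submodule.sum_mem _ (fun i _ => ?_)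
    have h1 := pow_map_Blk ρ N ψ Y H.cY hNψ j _ w hw
    have h2 := pow_map_Blk ρ N φ X H.cX hNφ i _ _ h1
    have h3 : Blk ρ N (tw (φ ^ i) (tw (ψ ^ (j : ℕ)) (tw (ψ ^ j₀) χ₀))) = Blk ρ N (c j) := by
      apply Blk_eq_of_cls
      rw [← cls_pow, hcls]
      exact end_fix_pow _ _ (typeP_fix hnum H χ₀ hΦ _) i
    rw [h3] at h2
    exact h2
  have hsum : ∑ j, v j = 0 := by
    show ∑ j : Fin q, (fun j : ℕ => ∑ i ∈ Finset.range p, (X ^ i) ((Y ^ j) w)) (j : ℕ) = 0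
    rw [Fin.sum_univ_eq_sum_range (fun j : ℕ => ∑ i ∈ Finset.range p, (X ^ i) ((Y ^ j) w)) q,
      Finset.sum_comm]
    exact hN_apply H w
  have h0 := eq_zero_of_sum_eq_zero hind Finset.univ v hv hsum ⟨0, hnum.hq.pos⟩
    (Finset.mem_univ _)
  have h1 : v ⟨0, hnum.hq.pos⟩ = ∑ i ∈ Finset.range p, (X ^ i) w := by
    show ∑ i ∈ Finset.range p, (X ^ i) ((Y ^ 0) w) = _
    rw [pow_zero]; rfl
  rw [← h1]; exact h0

/-- The type with the complement fixing the class: the block is invariant under the complement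
operator. -/
theorem blk_Y_inv (H : PQCfg p q k t u ρ X X' Y Y' φ ψ T U) (N : Subgroup L) (hNψ : Inv ψ N)
    (χ₁ : L → K)
    (hΨ : twHom K L ψ (Quotient.mk'' χ₁ : Quotient (conjSetoid K L)) = Quotient.mk'' χ₁)
    (w : W) (hw : w ∈ Blk ρ N χ₁) : Y w ∈ Blk ρ N χ₁ := by
  have h1 := map_Blk ρ N ψ Y H.cY (fun g => (Inv.apply_mem_iff hNψ g).symm) χ₁ w hw
  have h2 : Blk ρ N (tw ψ χ₁) = Blk ρ N χ₁ := by
    apply Blk_eq_of_cls
    rw [← twHom_mk]; exact hΨ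
  rwa [h2] at h1

/-- The type with the complement fixing the class: the norm of the complement operator
vanishes on the block. -/
theorem blk_typeQ (hnum : PQNum p q k) (H : PQCfg p q k t u ρ X X' Y Y' φ ψ T U)
    (N : Subgroup L) [N.Normal] (hNφ : Inv φ N) (hNψ : Inv ψ N)
    (hc : ∀ a ∈ N, ∀ b ∈ N, ρ a * ρ b = ρ b * ρ a) (χ₁ : L → K)
    (hΨ : twHom K L ψ (Quotient.mk'' χ₁ : Quotient (conjSetoid K L)) = Quotient.mk'' χ₁)
    (hΦ : ∀ a, 0 < a → a < p →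
      ((twHom K L φ) ^ a) (Quotient.mk'' χ₁ : Quotient (conjSetoid K L)) ≠ Quotient.mk'' χ₁)
    (w : W) (hw : w ∈ Blk ρ N χ₁) : ∑ j ∈ Finset.range q, (Y ^ j) w = 0 := by
  classical
  obtain ⟨hΦp, hΨq, hrel⟩ := cls_rel (K := K) H
  let c : Fin p → L → K := fun i => tw (φ ^ (i : ℕ)) χ₁
  have hcne : ∀ x y, x ≠ y → ¬ conjRel (c x) (c y) := by
    intro x y hxy hrel'
    apply hxy
    have h1 : (Quotient.mk'' (c x) : Quotient (conjSetoid K L)) = Quotient.mk'' (c y) :=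
      (mk_eq_iff _ _).mpr hrel'
    have h2 : ((twHom K L φ) ^ (x : ℕ)) (Quotient.mk'' χ₁ : Quotient (conjSetoid K L))
        = ((twHom K L φ) ^ (y : ℕ)) (Quotient.mk'' χ₁) := by
      rw [cls_pow, cls_pow]; exact h1
    exact Fin.ext (end_orbit_distinct (twHom K L φ) p hnum.hp.pos hΦp _ hΦ _ _ x.2 y.2 h2)
  have hind := Blk_indep ρ N hc c hcne
  have hu₀ : ∑ j ∈ Finset.range q, (Y ^ j) w ∈ Blk ρ N χ₁ := by
    refine Submodule.sum_mem _ (fun j _ => ?_)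
    have h1 := pow_map_Blk ρ N ψ Y H.cY hNψ j _ w hw
    have h3 : Blk ρ N (tw (ψ ^ j) χ₁) = Blk ρ N χ₁ := by
      apply Blk_eq_of_cls
      rw [← cls_pow]
      exact end_fix_pow _ _ hΨ j
    rwa [h3] at h1
  let v : Fin p → W := fun i => (X ^ (i : ℕ)) (∑ j ∈ Finset.range q, (Y ^ j) w)
  have hv : ∀ i ∈ (Finset.univ : Finset (Fin p)), v i ∈ Blk ρ N (c i) := by
    intro i _
    exact pow_map_Blk ρ N φ X H.cX hNφ i _ _ hu₀
  have hsum : ∑ i, v i = 0 := by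
    show ∑ i : Fin p, (fun i : ℕ => (X ^ i) (∑ j ∈ Finset.range q, (Y ^ j) w)) (i : ℕ) = 0
    rw [Fin.sum_univ_eq_sum_range (fun i : ℕ => (X ^ i) (∑ j ∈ Finset.range q, (Y ^ j) w)) p]
    have h1 := hN_apply H w
    rw [← h1]
    refine Finset.sum_congr rfl (fun i _ => ?_)
    rw [map_sum]
  have h0 := eq_zero_of_sum_eq_zero hind Finset.univ v hv hsum ⟨0, hnum.hp.pos⟩
    (Finset.mem_univ _)
  have h1 : v ⟨0, hnum.hp.pos⟩ = ∑ j ∈ Finset.range q, (Y ^ j) w := by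
    show (X ^ 0) (∑ j ∈ Finset.range q, (Y ^ j) w) = _
    rw [pow_zero]; rfl
  rw [← h1]; exact h0

/-- An element all of whose images under the powers of the kernel automorphism act trivially on
an invariant subspace acts trivially. -/
theorem blk_spread (hp : 0 < p) (H : PQCfg p q k t u ρ X X' Y Y' φ ψ T U)
    (hirr : ∀ W₁ : Submodule K W, (∀ g, ∀ w ∈ W₁, ρ g w ∈ W₁) → (∀ w ∈ W₁, X w ∈ W₁) →
      (∀ w ∈ W₁, Y w ∈ W₁) → W₁ = ⊥ ∨ W₁ = ⊤)
    (W₀ : Submodule K W) (hW₀ne : W₀ ≠ ⊥) (hW₀L : ∀ g, ∀ w ∈ W₀, ρ g w ∈ W₀)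
    (hW₀Y : ∀ w ∈ W₀, Y w ∈ W₀) :
    ∀ g, (∀ a : ℕ, ∀ w ∈ W₀, ρ ((φ ^ a) g) w = w) → ρ g = 1 := by
  obtain ⟨S, hS⟩ : ∃ S : Submodule K W, S = ⨆ a : ℕ, W₀.map (X ^ a) := ⟨_, rfl⟩
  have hle : ∀ a : ℕ, W₀.map (X ^ a) ≤ S := by
    intro a; rw [hS]; exact le_iSup (fun a : ℕ => W₀.map (X ^ a)) a
  have hkey : ∀ (h : L) (a : ℕ) (w' : W), ρ h ((X ^ a) w')
      = (X ^ a) (ρ ((φ ^ (a * (p - 1))) h) w') := by
    intro h a w'
    rw [compat_pow_apply ρ φ X H.cX a, pow_pow_cancel φ p hp H.aut.sp]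
  have hind : ∀ (P : W → Prop), (∀ (a : ℕ) (w' : W), w' ∈ W₀ → P ((X ^ a) w')) → P 0 →
      (∀ x y, P x → P y → P (x + y)) → ∀ w ∈ S, P w := by
    intro P h1 h2 h3 w hw
    rw [hS] at hw
    refine Submodule.iSup_induction _ (motive := P) hw ?_ h2 h3
    intro a x hx
    obtain ⟨w', hw', rfl⟩ := Submodule.mem_map.mp hx
    exact h1 a w' hw'
  have hSL : ∀ g, ∀ w ∈ S, ρ g w ∈ S := by
    intro g
    refine hind _ ?_ ?_ ?_
    · intro a w' hw'
      rw [hkey]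
      exact hle a (Submodule.mem_map_of_mem (hW₀L _ _ hw'))
    · rw [map_zero]; exact S.zero_mem
    · intro x y hx hy; rw [map_add]; exact S.add_mem hx hy
  have hSX : ∀ w ∈ S, X w ∈ S := by
    refine hind _ ?_ ?_ ?_
    · intro a w' hw'
      have : X ((X ^ a) w') = (X ^ (a + 1)) w' := by
        rw [pow_succ']; rfl
      rw [this]
      exact hle (a + 1) (Submodule.mem_map_of_mem hw')
    · rw [map_zero]; exact S.zero_mem
    · intro x y hx hy; rw [map_add]; exact S.add_mem hx hy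
  have hSY : ∀ w ∈ S, Y w ∈ S := by
    refine hind _ ?_ ?_ ?_
    · intro a w' hw'
      have h1 := rel_pow_right X Y k H.hYX a
      have : Y ((X ^ a) w') = (X ^ (a * k)) (Y w') := by
        have h2 : (Y * X ^ a) w' = (X ^ (a * k) * Y) w' := by rw [h1]
        exact h2
      rw [this]
      exact hle (a * k) (Submodule.mem_map_of_mem (hW₀Y _ hw'))
    · rw [map_zero]; exact S.zero_mem
    · intro x y hx hy; rw [map_add]; exact S.add_mem hx hy
  have hStop : S = ⊤ := by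
    rcases hirr S hSL hSX hSY with h | h
    · exfalso
      apply hW₀ne
      rw [eq_bot_iff, ← h]
      intro w hw
      have := hle 0 (Submodule.mem_map_of_mem (f := X ^ 0) hw)
      rw [pow_zero] at this
      exact this
    · exact h
  intro g hg
  ext w
  have hw : w ∈ S := by rw [hStop]; trivial
  revert w
  intro w hw
  refine hind (fun w => ρ g w = (1 : Module.End K W) w) ?_ ?_ ?_ w hw
  · intro a w' hw'
    rw [hkey, hg _ w' hw']; rfl
  · rw [map_zero, map_zero]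
  · intro x y hx hy; rw [map_add, map_add, hx, hy]

end Cfsg.Agent.Lib.Helper3.Sh
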