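import Mathlib
import Cfsg.Agent.Lib.Helper3.PqI

/-!
# Frobenius groups of order `pq`, part J: the type of a single block is impossible, and the
dichotomy for the blocks of a central subgroup of the normal `t`-subgroup.
-/

set_option autoImplicit false
set_option maxHeartbeats 4000000
set_option maxRecDepth 100000
set_option linter.unusedVariables false
set_option linter.unusedSectionVars false
set_option linter.style.haveILetI false
set_option linter.deprecated false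

namespace Cfsg.Agent.Lib.Helper3.Sh

open Module Cfsg.Agent.Lib.Helper3 Cfsg.Agent.Lib.Helper3.HHC1 Cfsg.Agent.Lib.Helper8.FP4
  Cfsg.Agent.Lib.Helper6.Wd

universe uu vv ww

variable {p q k t u : ℕ} {K : Type ww} [Field K] {L : Type uu} [Group L] [Finite L] {W : Type vv}
  [AddCommGroup W] [Module K W] {ρ : Representation K L W} {X X' Y Y' : Module.End K W}
  {φ ψ : MulAut L} {T U : Subgroup L}

/-- The type of a single block is impossible. -/
theorem blk_single (hnum : PQNum p q k) [ht : Fact t.Prime] [hu : Fact u.Prime]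
    (H : PQCfg p q k t u ρ X X' Y Y' φ ψ T U) (hfaith : Function.Injective ρ)
    (hsup : T ⊔ U = ⊤) (hup : u ≠ p) (huq : u ≠ q) (htp : t ≠ p) (htq : t ≠ q)
    (N : Subgroup L) [hNn : N.Normal] (hNT : N ≤ T) (hNφ : Inv φ N) (hNψ : Inv ψ N)
    (hNne : N ≠ ⊥) (hTN : ∀ a ∈ T, ∀ z ∈ N, a * z = z * a) (χ₀ : L → K)
    (hne : wt (fam ρ N) χ₀ ≠ ⊥)
    (hΦ : twHom K L φ (Quotient.mk'' χ₀ : Quotient (conjSetoid K L)) = Quotient.mk'' χ₀)
    (hΨ : twHom K L ψ (Quotient.mk'' χ₀ : Quotient (conjSetoid K L)) = Quotient.mk'' χ₀)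
    (htop : Blk ρ N χ₀ = ⊤) : False := by
  classical
  haveI := H.hTn
  haveI := Fact.mk hnum.hp
  haveI := Fact.mk hnum.hq
  have hoff₀ := chi_off ρ N χ₀ hne
  have hU_of : ∀ χ' : L → K, conjRel χ₀ χ' → ∃ b ∈ U, χ' = tw (MulAut.conj b) χ₀ := by
    rintro χ' ⟨g, rfl⟩
    have hg : g ∈ T ⊔ U := by rw [hsup]; trivial
    obtain ⟨a, ha, b, hb, rfl⟩ := Subgroup.mem_sup_of_normal_left.mp hg
    refine ⟨b, hb, ?_⟩
    rw [map_mul, tw_mul]
    exact tw_conj_of_centralises N _ (off_tw_conj N χ₀ hoff₀ b) a (hTN a ha)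
  have e1 : (Quotient.mk'' χ₀ : Quotient (conjSetoid K L)) = Quotient.mk'' (tw φ χ₀) := by
    rw [← twHom_mk]; exact hΦ.symm
  have e2 : (Quotient.mk'' χ₀ : Quotient (conjSetoid K L)) = Quotient.mk'' (tw ψ χ₀) := by
    rw [← twHom_mk]; exact hΨ.symm
  have h1 := hU_of _ ((mk_eq_iff _ _).mp e1)
  have h2 := hU_of _ ((mk_eq_iff _ _).mp e2)
  obtain ⟨Fφ, hFφ⟩ : ∃ Fφ : Function.End (L → K), ∀ χ, Fφ χ = tw φ χ := ⟨fun χ => tw φ χ, fun _ => rfl⟩
  obtain ⟨Fψ, hFψ⟩ : ∃ Fψ : Function.End (L → K), ∀ χ, Fψ χ = tw ψ χ := ⟨fun χ => tw ψ χ, fun _ => rfl⟩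
  obtain ⟨b, hb, hbφ, hbψ⟩ := orbit_fixed_pq (fun (g : L) (χ : L → K) => tw (MulAut.conj g) χ)
    (fun χ => by show tw (MulAut.conj (1 : L)) χ = χ; rw [map_one, tw_one])
    (fun g h χ => by
      show tw (MulAut.conj (g * h)) χ = tw (MulAut.conj g) (tw (MulAut.conj h) χ)
      rw [map_mul, tw_mul])
    hup huq φ ψ H.aut.sp U H.hU H.hφU H.hψU Fφ Fψ
    (fun g χ => by
      show Fφ (tw (MulAut.conj g) χ) = tw (MulAut.conj (φ g)) (Fφ χ)
      rw [hFφ, hFφ]; exact tw_conj_comm φ g χ)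
    (fun g χ => by
      show Fψ (tw (MulAut.conj g) χ) = tw (MulAut.conj (ψ g)) (Fψ χ)
      rw [hFψ, hFψ]; exact tw_conj_comm ψ g χ)
    (by funext χ; rw [tw_end_pow φ Fφ hFφ, H.aut.sp, tw_one]; rfl)
    (by funext χ; rw [tw_end_pow ψ Fψ hFψ, H.aut.rq, tw_one]; rfl)
    (fun χ hχ => by
      rw [hFφ] at hχ
      rw [hFφ, hFψ, ← tw_mul, H.aut.sr hnum.hq.pos, tw_mul, tw_pow_eq φ χ hχ])
    χ₀
    (by obtain ⟨b, hb, h⟩ := h1; exact ⟨b, hb, by rw [hFφ]; exact h⟩)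
    (by obtain ⟨b, hb, h⟩ := h2; exact ⟨b, hb, by rw [hFψ]; exact h⟩)
  rw [hFφ] at hbφ
  rw [hFψ] at hbψ
  obtain ⟨ω₀, hω₀⟩ : ∃ ω₀ : L → K, ω₀ = tw (MulAut.conj b) χ₀ := ⟨_, rfl⟩
  change tw φ (tw (MulAut.conj b) χ₀) = tw (MulAut.conj b) χ₀ at hbφ
  change tw ψ (tw (MulAut.conj b) χ₀) = tw (MulAut.conj b) χ₀ at hbψ
  rw [← hω₀] at hbφ hbψ
  -- a non-zero weight vector
  obtain ⟨v, hv, hv0⟩ := (Submodule.ne_bot_iff _).mp hne
  have hv₁ : ρ b v ∈ wt (fam ρ N) ω₀ := by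
    rw [hω₀]; exact rho_conj_mem_wt ρ N b χ₀ v hv
  have hv₁0 : ρ b v ≠ 0 := rho_ne_zero ρ b v hv0
  -- the fixed character is trivial on the subgroup
  have hω₀N : ∀ z ∈ N, ω₀ z = 1 := by
    intro z hz
    letI instC : CommGroup ↥N :=
      { (inferInstance : Group ↥N) with
        mul_comm := fun a b => Subtype.ext (hTN a.1 (hNT a.2) b.1 b.2) }
    let f : ↥N →* K :=
      { toFun := fun z => ω₀ z.1
        map_one' := chi_one ρ N ω₀ _ hv₁ hv₁0
        map_mul' := fun a b => chi_mul ρ N ω₀ _ hv₁ hv₁0 a.1 b.1 a.2 b.2 }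
    have haut : AutPQ p q k (restrictAut φ N hNφ) (restrictAut ψ N hNψ) :=
      H.aut.restrict N hNφ hNψ
    have hfpf : ∀ g : ↥N, restrictAut φ N hNφ g = g → restrictAut ψ N hNψ g = g → g = 1 := by
      intro g h1 h2
      apply Subtype.ext
      apply H.hfpf
      · have := congrArg Subtype.val h1
        rwa [restrictAut_apply_coe] at this
      · have := congrArg Subtype.val h2
        rwa [restrictAut_apply_coe] at this
    have hs : ∀ z : ↥N, f (restrictAut φ N hNφ z) = f z := by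
      intro z
      show ω₀ ((restrictAut φ N hNφ z : ↥N) : L) = ω₀ z.1
      rw [restrictAut_apply_coe]
      have := congrFun hbφ (φ z.1)
      rw [tw_apply] at this
      have e : φ⁻¹ (φ z.1) = z.1 := by
        rw [← MulAut.mul_apply, inv_mul_cancel]; rfl
      rw [e] at this
      exact this.symm
    have hr : ∀ z : ↥N, f (restrictAut ψ N hNψ z) = f z := by
      intro z
      show ω₀ ((restrictAut ψ N hNψ z : ↥N) : L) = ω₀ z.1
      rw [restrictAut_apply_coe]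
      have := congrFun hbψ (ψ z.1)
      rw [tw_apply] at this
      have e : ψ⁻¹ (ψ z.1) = z.1 := by
        rw [← MulAut.mul_apply, inv_mul_cancel]; rfl
      rw [e] at this
      exact this.symm
    have h3 : ω₀ z ^ (p * q) = 1 := inv_char_pow hnum haut hfpf f hs hr ⟨z, hz⟩
    obtain ⟨a, ha⟩ : ∃ a : ℕ, z ^ (t ^ a) = 1 := by
      obtain ⟨a, ha⟩ := H.hT ⟨z, hNT hz⟩
      refine ⟨a, ?_⟩
      have h2 := congrArg Subtype.val ha
      simpa using h2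
    have h4 : ω₀ z ^ (t ^ a) = 1 := by
      rw [← chi_pow ρ N ω₀ _ hv₁ hv₁0 z hz, ha]
      exact chi_one ρ N ω₀ _ hv₁ hv₁0
    have hcop : Nat.Coprime (p * q) (t ^ a) := by
      apply Nat.Coprime.pow_right
      apply Nat.Coprime.mul_left
      · exact (Nat.coprime_primes hnum.hp ht.out).mpr (Ne.symm htp)
      · exact (Nat.coprime_primes hnum.hq ht.out).mpr (Ne.symm htq)
    exact eq_one_of_pow_coprime (ω₀ z) (p * q) (t ^ a) hcop h3 h4
  -- the subgroup acts trivially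
  have hB : Blk ρ N ω₀ = ⊤ := by
    rw [← htop]
    exact Blk_congr ρ N ⟨b, hω₀⟩
  apply hNne
  rw [eq_bot_iff]
  intro z hz
  rw [Subgroup.mem_bot]
  apply hfaith
  rw [map_one]
  ext w
  have hw : w ∈ Blk ρ N ω₀ := by rw [hB]; trivial
  exact triv_on_Blk ρ N ω₀ hω₀N z hz w hw

/-- The dichotomy for the blocks. -/
theorem pq_blocks (hnum : PQNum p q k) [ht : Fact t.Prime] [hu : Fact u.Prime]
    [IsAlgClosed K] [FiniteDimensional K W] [Nontrivial W] (htK : (t : K) ≠ 0)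
    (H : PQCfg p q k t u ρ X X' Y Y' φ ψ T U) (hfaith : Function.Injective ρ)
    (hirr : ∀ W₁ : Submodule K W, (∀ g, ∀ w ∈ W₁, ρ g w ∈ W₁) → (∀ w ∈ W₁, X w ∈ W₁) →
      (∀ w ∈ W₁, Y w ∈ W₁) → W₁ = ⊥ ∨ W₁ = ⊤)
    (hsup : T ⊔ U = ⊤) (hup : u ≠ p) (huq : u ≠ q) (htp : t ≠ p) (htq : t ≠ q)
    (N : Subgroup L) [hNn : N.Normal] (hNT : N ≤ T) (hNφ : Inv φ N) (hNψ : Inv ψ N)
    (hNne : N ≠ ⊥) (hTN : ∀ a ∈ T, ∀ z ∈ N, a * z = z * a) :
    (∑ i ∈ Finset.range p, X ^ i = 0) ∨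
    ∃ χ₁ : L → K, wt (fam ρ N) χ₁ ≠ ⊥ ∧ (∀ w ∈ Blk ρ N χ₁, Y w ∈ Blk ρ N χ₁) ∧
      (∀ w ∈ Blk ρ N χ₁, ∑ j ∈ Finset.range q, (Y ^ j) w = 0) ∧
      (∀ g, (∀ a : ℕ, ∀ w ∈ Blk ρ N χ₁, ρ ((φ ^ a) g) w = w) → ρ g = 1) := by
  classical
  have hc' : ∀ a ∈ N, ∀ b ∈ N, ρ a * ρ b = ρ b * ρ a := by
    intro a ha b hb
    rw [← map_mul, ← map_mul, hTN a (hNT ha) b hb]
  have hcardN : (Nat.card N : K) ≠ 0 := by
    obtain ⟨j, hj⟩ := IsPGroup.iff_card.mp (H.hT.to_le hNT)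
    rw [hj, Nat.cast_pow]
    exact pow_ne_zero _ htK
  have hsupwt := iSup_wt (fam ρ N) (fam_commute ρ N hc') (fam_semisimple ρ N hcardN)
  obtain ⟨χ₀, hχ₀⟩ : ∃ χ₀ : L → K, wt (fam ρ N) χ₀ ≠ ⊥ := by
    by_contra hcon
    push Not at hcon
    have : (⨆ χ, wt (fam ρ N) χ) = ⊥ := by
      rw [eq_bot_iff]
      exact iSup_le (fun χ => by rw [hcon χ])
    rw [this] at hsupwt
    exact bot_ne_top hsupwt
  obtain ⟨hΦp, hΨq, hrel⟩ := cls_rel (K := K) H
  -- the sum of the blocks of the orbit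
  obtain ⟨S, hS⟩ : ∃ S : Submodule K W,
      S = ⨆ x : ℕ × ℕ, Blk ρ N (tw (φ ^ x.1 * ψ ^ x.2) χ₀) := ⟨_, rfl⟩
  have hle : ∀ i j : ℕ, Blk ρ N (tw (φ ^ i * ψ ^ j) χ₀) ≤ S := by
    intro i j; rw [hS]
    exact le_iSup (fun x : ℕ × ℕ => Blk ρ N (tw (φ ^ x.1 * ψ ^ x.2) χ₀)) (i, j)
  have hind : ∀ (P : W → Prop), (∀ (i j : ℕ) (w : W),
      w ∈ Blk ρ N (tw (φ ^ i * ψ ^ j) χ₀) → P w) → P 0 →
      (∀ x y, P x → P y → P (x + y)) → ∀ w ∈ S, P w := by
    intro P h1 h2 h3 w hw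
    rw [hS] at hw
    refine Submodule.iSup_induction _ (motive := P) hw ?_ h2 h3
    intro x w' hw'
    exact h1 x.1 x.2 w' hw'
  have hSL : ∀ g, ∀ w ∈ S, ρ g w ∈ S := by
    intro g
    refine hind _ ?_ ?_ ?_
    · intro i j w hw
      exact hle i j (rho_mem_Blk ρ N _ g w hw)
    · rw [map_zero]; exact S.zero_mem
    · intro x y hx hy; rw [map_add]; exact S.add_mem hx hy
  have hSX : ∀ w ∈ S, X w ∈ S := by
    refine hind _ ?_ ?_ ?_
    · intro i j w hw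
      have h1 := map_Blk ρ N φ X H.cX (fun g => (Inv.apply_mem_iff hNφ g).symm) _ w hw
      rw [← tw_mul, ← mul_assoc, ← pow_succ'] at h1
      exact hle (i + 1) j h1
    · rw [map_zero]; exact S.zero_mem
    · intro x y hx hy; rw [map_add]; exact S.add_mem hx hy
  have hSY : ∀ w ∈ S, Y w ∈ S := by
    refine hind _ ?_ ?_ ?_
    · intro i j w hw
      have h1 := map_Blk ρ N ψ Y H.cY (fun g => (Inv.apply_mem_iff hNψ g).symm) _ w hw
      rw [← tw_mul, ← mul_assoc, rel_pow_right φ ψ k H.aut.rs i, mul_assoc, ← pow_succ'] at h1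
      exact hle (i * k) (j + 1) h1
    · rw [map_zero]; exact S.zero_mem
    · intro x y hx hy; rw [map_add]; exact S.add_mem hx hy
  have hwt_le : wt (fam ρ N) χ₀ ≤ S := by
    have h1 := hle 0 0
    rw [pow_zero, pow_zero, mul_one, tw_one] at h1
    exact le_trans (wt_le_Blk ρ N χ₀) h1
  have hStop : S = ⊤ := by
    rcases hirr S hSL hSX hSY with h | h
    · exfalso
      apply hχ₀
      rw [eq_bot_iff, ← h]
      exact hwt_le
    · exact h
  rcases orbit_types (twHom K L φ) (twHom K L ψ) p q k hnum hΦp hΨq hrel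
      (Quotient.mk'' χ₀ : Quotient (conjSetoid K L)) with
    ⟨h1, h2⟩ | ⟨h1, h2⟩ | ⟨i, h1, h2⟩ | hfree
  · -- a single block
    exfalso
    have htop : Blk ρ N χ₀ = ⊤ := by
      rw [eq_top_iff, ← hStop, hS]
      refine iSup_le (fun x => ?_)
      have : Blk ρ N (tw (φ ^ x.1 * ψ ^ x.2) χ₀) = Blk ρ N χ₀ := by
        apply Blk_eq_of_cls
        rw [← cls_pow_mul]
        show ((twHom K L φ) ^ x.1) (((twHom K L ψ) ^ x.2) (Quotient.mk'' χ₀)) = _
        rw [end_fix_pow _ _ h2, end_fix_pow _ _ h1]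
      rw [this]
    exact blk_single hnum H hfaith hsup hup huq htp htq N hNT hNφ hNψ hNne hTN χ₀ hχ₀ h1 h2 htop
  · -- the kernel fixes the class
    left
    ext w
    have hw : w ∈ S := by rw [hStop]; trivial
    revert w
    intro w hw
    refine hind (fun w => (∑ i ∈ Finset.range p, X ^ i) w = (0 : Module.End K W) w) ?_ ?_ ?_ w hw
    · intro i j w hw
      have h3 : Blk ρ N (tw (φ ^ i * ψ ^ j) χ₀) = Blk ρ N (tw (ψ ^ j) χ₀) := by
        apply Blk_eq_of_cls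
        rw [← cls_pow_mul, ← cls_pow]
        show ((twHom K L φ) ^ i) (((twHom K L ψ) ^ j) (Quotient.mk'' χ₀)) = _
        exact end_fix_pow _ _ (typeP_fix hnum H χ₀ h1 j) i
      rw [h3] at hw
      rw [LinearMap.sum_apply, LinearMap.zero_apply]
      exact blk_typeP hnum H N hNφ hNψ hc' χ₀ h1 h2 j w hw
    · rw [map_zero, map_zero]
    · intro x y hx hy; rw [map_add, map_add, hx, hy]
  · -- the complement fixes a class
    right
    rw [cls_pow] at h1 h2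
    have hne₁ : wt (fam ρ N) (tw (φ ^ i) χ₀) ≠ ⊥ := by
      obtain ⟨v, hv, hv0⟩ := (Submodule.ne_bot_iff _).mp hχ₀
      rw [Submodule.ne_bot_iff]
      refine ⟨(X ^ i) v, pow_map_wt ρ N φ X H.cX hNφ i χ₀ v hv, ?_⟩
      intro h0
      exact hv0 (op_pow_injective X p hnum.hp.pos H.hXP i v h0)
    refine ⟨tw (φ ^ i) χ₀, hne₁, ?_, ?_, ?_⟩
    · exact blk_Y_inv H N hNψ _ h1
    · exact blk_typeQ hnum H N hNφ hNψ hc' _ h1 h2
    · refine blk_spread hnum.hp.pos H hirr (Blk ρ N (tw (φ ^ i) χ₀)) ?_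
        (fun g w hw => rho_mem_Blk ρ N _ g w hw) (blk_Y_inv H N hNψ _ h1)
      intro hbot
      apply hne₁
      rw [eq_bot_iff, ← hbot]
      exact wt_le_Blk ρ N _
  · -- the free type
    exfalso
    obtain ⟨v, hv, hv0⟩ := (Submodule.ne_bot_iff _).mp hχ₀
    exact hv0 (blk_free hnum H N hNφ hNψ hc' χ₀ hfree v hv)

end Cfsg.Agent.Lib.Helper3.Sh
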