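import Mathlib
import Cfsg.Agent.Lib.Helper1.ThompsonFPF5
import Cfsg.Agent.Lib.Helper3.PqJ
import Cfsg.Agent.Lib.Helper3.ShF
import Cfsg.Agent.Lib.Helper3.SgA
import Cfsg.Agent.Lib.Helper3.GrC
import Cfsg.Agent.Lib.Helper3.GrN
import Cfsg.Agent.Lib.Helper6.WdC

/-!
# Frobenius groups of order `pq`, part K: the end of the type where the norm of the kernel
operator vanishes, and the three steps of the type where the complement fixes a block.
-/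

set_option autoImplicit false
set_option maxHeartbeats 4000000
set_option maxRecDepth 100000
set_option linter.unusedVariables false
set_option linter.unusedSectionVars false
set_option linter.style.haveILetI false
set_option linter.deprecated false

namespace Cfsg.Agent.Lib.Helper3.Sh

open Module Cfsg.Agent.Lib.Helper3 Cfsg.Agent.Lib.Helper3.HHC1 Cfsg.Agent.Lib.Helper8.FP4
  Cfsg.Agent.Lib.Helper6.Wd

universe uu vv ww

section group

variable {L : Type uu} [Group L]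

/-- The centraliser of `T` in `U`. -/
theorem exists_cent_in (T U : Subgroup L) :
    ∃ C : Subgroup L, ∀ g, g ∈ C ↔ g ∈ U ∧ ∀ a ∈ T, a * g = g * a := by
  refine ⟨{ carrier := {g | g ∈ U ∧ ∀ a ∈ T, a * g = g * a}
            one_mem' := ⟨U.one_mem, fun a _ => by rw [mul_one, one_mul]⟩
            mul_mem' := ?_
            inv_mem' := ?_ }, fun g => Iff.rfl⟩
  · rintro x y ⟨hx, hx'⟩ ⟨hy, hy'⟩
    refine ⟨U.mul_mem hx hy, fun a ha => ?_⟩
    rw [← mul_assoc, hx' a ha, mul_assoc, hy' a ha, mul_assoc]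
  · rintro x ⟨hx, hx'⟩
    refine ⟨U.inv_mem hx, fun a ha => ?_⟩
    have := hx' a ha
    calc a * x⁻¹ = x⁻¹ * (x * a) * x⁻¹ := by group
      _ = x⁻¹ * (a * x) * x⁻¹ := by rw [this]
      _ = x⁻¹ * a := by group

theorem cent_in_inv [Finite L] (T U C : Subgroup L)
    (hC : ∀ g, g ∈ C ↔ g ∈ U ∧ ∀ a ∈ T, a * g = g * a) (σ : MulAut L) (hT : Inv σ T)
    (hU : Inv σ U) : Inv σ C := by
  intro c hc
  rw [hC] at hc ⊢
  refine ⟨hU c hc.1, fun a ha => ?_⟩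
  obtain ⟨a', ha', rfl⟩ := hT.exists_preimage ha
  rw [← map_mul, ← map_mul, hc.2 a' ha']

theorem pow_of_pgroup {n : ℕ} (P : Subgroup L) (hP : IsPGroup n P) (x : L) (hx : x ∈ P) :
    ∃ a : ℕ, x ^ (n ^ a) = 1 := by
  obtain ⟨a, ha⟩ := hP ⟨x, hx⟩
  refine ⟨a, ?_⟩
  have h2 := congrArg Subtype.val ha
  simpa using h2

theorem inf_pgroups_trivial {t u : ℕ} [ht : Fact t.Prime] [hu : Fact u.Prime] (htu : t ≠ u)
    (T U : Subgroup L) (hT : IsPGroup t T) (hU : IsPGroup u U) (x : L) (hxT : x ∈ T)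
    (hxU : x ∈ U) : x = 1 := by
  obtain ⟨a, ha⟩ := pow_of_pgroup T hT x hxT
  obtain ⟨b, hb⟩ := pow_of_pgroup U hU x hxU
  exact eq_one_of_two_primes t u htu x a b ha hb

end group

section typeP

variable {p q k t u : ℕ} {K : Type ww} [Field K] {L : Type uu} [Group L] [Finite L] {W : Type vv}
  [AddCommGroup W] [Module K W] {ρ : Representation K L W} {X X' Y Y' : Module.End K W}
  {φ ψ : MulAut L} {T U : Subgroup L}

/-- If the kernel automorphism centralises `T`, then `T` and `U` commute. -/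
theorem typeP_group (hnum : PQNum p q k) [ht : Fact t.Prime] [hu : Fact u.Prime] (htu : t ≠ u)
    (H : PQCfg p q k t u ρ X X' Y Y' φ ψ T U) (hsup : T ⊔ U = ⊤)
    (r4b : ∀ U₁ : Subgroup L, U₁ ≤ U → Inv φ U₁ → Inv ψ U₁ → U₁ ≠ U →
      ∀ b ∈ U₁, ∀ a ∈ T, a * b = b * a)
    (hφT : ∀ a ∈ T, φ a = a) : ∀ a ∈ T, ∀ b ∈ U, a * b = b * a := by
  classical
  haveI := H.hTn
  haveI := Fact.mk hnum.hp
  haveI := Fact.mk hnum.hq
  by_contra hcon
  push Not at hcon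
  obtain ⟨a₀, ha₀, b₀, hb₀, hne₀⟩ := hcon
  obtain ⟨C, hC⟩ := exists_cent_in T U
  have hCφ : Inv φ C := cent_in_inv T U C hC φ H.hφT H.hφU
  have hpC : ¬ p ∣ Nat.card C :=
    not_dvd_card_of_coprime_mul H.hcop C p (dvd_mul_right p q) hnum.hp.one_lt.ne'
  have step1 : ∀ b ∈ U, b⁻¹ * φ b ∈ C := by
    intro b hb
    rw [hC]
    refine ⟨U.mul_mem (U.inv_mem hb) (H.hφU b hb), fun a ha => ?_⟩
    have h1 : φ (b * a * b⁻¹) = b * a * b⁻¹ := hφT _ (H.hTn.conj_mem a ha b)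
    rw [map_mul, map_mul, map_inv, hφT a ha] at h1
    calc a * (b⁻¹ * φ b) = b⁻¹ * (b * a * b⁻¹) * φ b := by group
      _ = b⁻¹ * (φ b * a * (φ b)⁻¹) * φ b := by rw [h1]
      _ = (b⁻¹ * φ b) * a := by group
  have hU₁φ : Inv φ (U ⊓ fix φ) := by
    intro x hx
    rw [show φ x = x from hx.2]; exact hx
  have hU₁ψ : Inv ψ (U ⊓ fix φ) := Inv.inf' H.hψU (H.aut.inv_r_fix hnum.hq.pos)
  by_cases hU₁ : U ⊓ fix φ = U
  · have hφU1 : ∀ b ∈ U, φ b = b := by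
      intro b hb
      have : b ∈ U ⊓ fix φ := by rw [hU₁]; exact hb
      exact this.2
    have hφ1 : ∀ g, φ g = g := by
      have hle : T ⊔ U ≤ fix φ := sup_le (fun a ha => hφT a ha) (fun b hb => hφU1 b hb)
      intro g
      exact hle (by rw [hsup]; trivial)
    have hfpf : MonoidHom.FixedPointFree ((ψ : L ≃* L) : L →* L) :=
      fun g hg => H.hfpf g (hφ1 g) hg
    have hnil := Cfsg.Agent.Lib.Helper1.ThompsonFPF.isNilpotent_of_fpf hnum.hq _ L rfl ψ hfpf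
      H.aut.rq
    exact hne₀ (commute_of_nilpotent hnil htu a₀ b₀ (pow_of_pgroup T H.hT a₀ ha₀)
      (pow_of_pgroup U H.hU b₀ hb₀))
  · have h1 := r4b _ inf_le_left hU₁φ hU₁ψ hU₁
    apply hne₀
    obtain ⟨n, hn, hfix⟩ := exists_fixed_in_coset φ H.aut.sp C hCφ hpC b₀ (step1 b₀ hb₀)
    have hn' := (hC n).mp hn
    have h2 : a₀ * (b₀ * n) = (b₀ * n) * a₀ :=
      h1 (b₀ * n) ⟨U.mul_mem hb₀ hn'.1, hfix⟩ a₀ ha₀
    have h3 := hn'.2 a₀ ha₀
    calc a₀ * b₀ = (a₀ * (b₀ * n)) * n⁻¹ := by group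
      _ = (b₀ * n) * a₀ * n⁻¹ := by rw [h2]
      _ = b₀ * (n * a₀) * n⁻¹ := by group
      _ = b₀ * (a₀ * n) * n⁻¹ := by rw [h3]
      _ = b₀ * a₀ := by group

/-- The type where the norm of the kernel operator vanishes. -/
theorem typeP_end (hnum : PQNum p q k) [ht : Fact t.Prime] [hu : Fact u.Prime] (htu : t ≠ u)
    (htp : t ≠ p) (htq : t ≠ q) [IsAlgClosed K] [FiniteDimensional K W] (hpK : (p : K) ≠ 0)
    (htK : (t : K) ≠ 0)
    (H : PQCfg p q k t u ρ X X' Y Y' φ ψ T U) (hfaith : Function.Injective ρ)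
    (hsup : T ⊔ U = ⊤)
    (r4b : ∀ U₁ : Subgroup L, U₁ ≤ U → Inv φ U₁ → Inv ψ U₁ → U₁ ≠ U →
      ∀ b ∈ U₁, ∀ a ∈ T, a * b = b * a)
    (hNX : ∑ i ∈ Finset.range p, X ^ i = 0) : ∀ a ∈ T, ∀ b ∈ U, a * b = b * a := by
  haveI := Fact.mk hnum.hp
  apply typeP_group hnum htu H hsup r4b
  intro a ha
  have hcompatT : ∀ g : T, X * (ρ.comp T.subtype) g
      = (ρ.comp T.subtype) (restrictAut φ T H.hφT g) * X := by
    intro g
    show X * ρ g.1 = ρ (restrictAut φ T H.hφT g).1 * X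
    rw [restrictAut_apply_coe]; exact H.cX g.1
  have key := nm_main p t (Ne.symm htp) (hnum.nonexc t ht.out htq) hpK htK _ ↥T W
    (ρ.comp T.subtype) X X' (restrictAut φ T H.hφT) rfl H.hT H.hXX' H.hX'X hcompatT H.hXP hNX
    ⟨a, ha⟩
  apply hfaith
  have h2 : ρ ((restrictAut φ T H.hφT ⟨a, ha⟩ : T) : L) = ρ a := key
  rw [restrictAut_apply_coe] at h2
  exact h2

end typeP

section ycfg

/-- A representation with a compatible operator of order `q` without fixed vectors. -/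
structure YCfg (q : ℕ) {K : Type ww} [Field K] {L : Type uu} [Group L] {W₀ : Type vv}
    [AddCommGroup W₀] [Module K W₀] (ρ₀ : Representation K L W₀) (Y₀ Y₀' : Module.End K W₀)
    (ψ : MulAut L) : Prop where
  hYY' : Y₀ * Y₀' = 1
  hY'Y : Y₀' * Y₀ = 1
  cY : ∀ g, Y₀ * ρ₀ g = ρ₀ (ψ g) * Y₀
  hYQ : Y₀ ^ q = 1
  hNY : ∑ j ∈ Finset.range q, Y₀ ^ j = 0

variable {q t : ℕ} {K : Type ww} [Field K] {L : Type uu} [Group L] [Finite L] {W₀ : Type vv}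
  [AddCommGroup W₀] [Module K W₀] {ρ₀ : Representation K L W₀} {Y₀ Y₀' : Module.End K W₀}
  {ψ : MulAut L}

theorem star_two (h : YCfg 2 ρ₀ Y₀ Y₀' ψ) : ∀ g, ρ₀ (ψ g) = ρ₀ g := by
  intro g
  have h1 : (1 : Module.End K W₀) + Y₀ = 0 := by
    have := h.hNY
    rw [Finset.sum_range_succ, Finset.sum_range_succ, Finset.sum_range_zero, zero_add, pow_zero,
      pow_one] at this
    exact this
  have h2 : Y₀ = -1 := eq_neg_of_add_eq_zero_right h1
  have h3 := h.cY g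
  rw [h2, neg_one_mul, mul_neg_one, neg_inj] at h3
  exact h3.symm

theorem star_nm [hq : Fact q.Prime] [ht : Fact t.Prime] (hqt : q ≠ t)
    (hex : ∀ m : ℕ, q ≠ t ^ m + 1) [IsAlgClosed K] [FiniteDimensional K W₀]
    (hqK : (q : K) ≠ 0) (htK : (t : K) ≠ 0) (h : YCfg q ρ₀ Y₀ Y₀' ψ) (T : Subgroup L)
    (hT : IsPGroup t T) (hψT : Inv ψ T) : ∀ a ∈ T, ρ₀ (ψ a) = ρ₀ a := by
  intro a ha
  have hcompatT : ∀ g : T, Y₀ * (ρ₀.comp T.subtype) g
      = (ρ₀.comp T.subtype) (restrictAut ψ T hψT g) * Y₀ := by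
    intro g
    show Y₀ * ρ₀ g.1 = ρ₀ (restrictAut ψ T hψT g).1 * Y₀
    rw [restrictAut_apply_coe]; exact h.cY g.1
  have key := nm_main q t hqt hex hqK htK _ ↥T W₀ (ρ₀.comp T.subtype) Y₀ Y₀'
    (restrictAut ψ T hψT) rfl hT h.hYY' h.hY'Y hcompatT h.hYQ h.hNY ⟨a, ha⟩
  have h2 : ρ₀ ((restrictAut ψ T hψT ⟨a, ha⟩ : T) : L) = ρ₀ a := key
  rw [restrictAut_apply_coe] at h2
  exact h2

theorem star_pp [hq : Fact q.Prime] [ht : Fact t.Prime] (hqt : q ≠ t) (hq2 : q ≠ 2)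
    [IsAlgClosed K] [FiniteDimensional K W₀]
    (hqK : (q : K) ≠ 0) (htK : (t : K) ≠ 0) (h : YCfg q ρ₀ Y₀ Y₀' ψ) (Q₀ : Subgroup L)
    (hQ₀ : IsPGroup t Q₀) (hψQ : Inv ψ Q₀) (hfpf : ∀ c ∈ Q₀, ψ c = c → c = 1) :
    ∀ c ∈ Q₀, ρ₀ (ψ c) = ρ₀ c := by
  intro c hc
  have hcompatT : ∀ g : Q₀, Y₀ * (ρ₀.comp Q₀.subtype) g
      = (ρ₀.comp Q₀.subtype) (restrictAut ψ Q₀ hψQ g) * Y₀ := by
    intro g
    show Y₀ * ρ₀ g.1 = ρ₀ (restrictAut ψ Q₀ hψQ g).1 * Y₀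
    rw [restrictAut_apply_coe]; exact h.cY g.1
  have hfpf' : ∀ g : Q₀, restrictAut ψ Q₀ hψQ g = g → g = 1 := by
    intro g hg
    apply Subtype.ext
    apply hfpf g.1 g.2
    have := congrArg Subtype.val hg
    rwa [restrictAut_apply_coe] at this
  have key := pp_main q t 0 hqt hq2 hqK htK _ ↥Q₀ W₀ (ρ₀.comp Q₀.subtype) Y₀ Y₀'
    (restrictAut ψ Q₀ hψQ) rfl hQ₀ h.hYY' h.hY'Y hcompatT
    (by rw [zero_add, pow_one]; exact h.hYQ) (by rw [zero_add, pow_one]; exact h.hNY) hfpf'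
    ⟨c, hc⟩
  rw [pow_zero, pow_one] at key
  have h2 : ρ₀ ((restrictAut ψ Q₀ hψQ ⟨c, hc⟩ : Q₀) : L) = ρ₀ c := key
  rw [restrictAut_apply_coe] at h2
  exact h2

theorem star_ab [hq : Fact q.Prime] [IsAlgClosed K] [FiniteDimensional K W₀]
    (h : YCfg q ρ₀ Y₀ Y₀' ψ) (T : Subgroup L) (hψT : Inv ψ T)
    (hTab : ∀ a ∈ T, ∀ b ∈ T, a * b = b * a) (hcard : (Nat.card T : K) ≠ 0) :
    ∀ a ∈ T, ρ₀ (ψ a) = ρ₀ a := by
  intro a ha
  have key := abelian_fixed q ρ₀ Y₀ ψ h.cY 0 (by rw [zero_add, pow_one]; exact h.hYQ)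
    (by rw [zero_add, pow_one]; exact h.hNY) T
    (fun a ha b hb => by rw [← map_mul, ← map_mul, hTab a ha b hb])
    (fun g => (Inv.apply_mem_iff hψT g).symm) hcard a ha
  rw [pow_zero, pow_one] at key
  exact key

theorem triv_of_fpf (Q₀ : Subgroup L) (hψQ : Inv ψ Q₀) (hfpf : ∀ c ∈ Q₀, ψ c = c → c = 1)
    (hall : ∀ c ∈ Q₀, ρ₀ (ψ c) = ρ₀ c) : ∀ c ∈ Q₀, ρ₀ c = 1 := by
  intro c hc
  have hF : Fpf (restrictAut ψ Q₀ hψQ) := by
    intro g hg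
    apply Subtype.ext
    apply hfpf g.1 g.2
    have := congrArg Subtype.val hg
    rwa [restrictAut_apply_coe] at this
  obtain ⟨x, hx⟩ := hF.surj ⟨c, hc⟩
  have h1 : c = (x : L)⁻¹ * ψ x := by
    have := congrArg Subtype.val hx
    rw [Subgroup.coe_mul, Subgroup.coe_inv, restrictAut_apply_coe] at this
    exact this.symm
  rw [h1, map_mul, hall x.1 x.2, ← map_mul, inv_mul_cancel, map_one]

end ycfg

end Cfsg.Agent.Lib.Helper3.Sh
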