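import Mathlib
import Cfsg.Agent.Lib.Helper3.PqK

/-!
# Frobenius groups of order `pq`, part L: the three steps of the type where the complement fixes
a block.
-/

set_option autoImplicit false
set_option maxHeartbeats 4000000
set_option maxRecDepth 100000
set_option linter.unusedVariables false
set_option linter.unusedSectionVars false
set_option linter.style.haveILetI false
set_option linter.deprecated false

namespace Cfsg.Agent.Lib.Helper3.Sh

open Module Cfsg.Agent.Lib.Helper3 Cfsg.Agent.Lib.Helper3.HHC1 Cfsg.Agent.Lib.Helper8.FP4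
  Cfsg.Agent.Lib.Helper6.Wd

universe uu vv ww

variable {p q k t u : ℕ} {K : Type ww} [Field K] {L : Type uu} [Group L] [Finite L] {W : Type vv}
  [AddCommGroup W] [Module K W] {ρ : Representation K L W} {X X' Y Y' : Module.End K W}
  {φ ψ : MulAut L} {T U : Subgroup L}

/-- The data of a block fixed by the complement. -/
structure QBlk (q : ℕ) (ρ : Representation K L W) (Y : Module.End K W) (φ : MulAut L)
    (W₀ : Submodule K W) : Prop where
  hL : ∀ g, ∀ w ∈ W₀, ρ g w ∈ W₀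
  hY : ∀ w ∈ W₀, Y w ∈ W₀
  hNY : ∀ w ∈ W₀, ∑ j ∈ Finset.range q, (Y ^ j) w = 0
  hspread : ∀ g, (∀ a : ℕ, ∀ w ∈ W₀, ρ ((φ ^ a) g) w = w) → ρ g = 1

theorem star_two' {W₀ : Type vv} [AddCommGroup W₀] [Module K W₀] {ρ₀ : Representation K L W₀}
    {Y₀ Y₀' : Module.End K W₀} (hq2 : q = 2) (h : YCfg q ρ₀ Y₀ Y₀' ψ) :
    ∀ g, ρ₀ (ψ g) = ρ₀ g := by
  subst hq2
  exact star_two h

theorem QBlk.ycfg {W₀ : Submodule K W} (B : QBlk q ρ Y φ W₀) (hq : 0 < q)
    (H : PQCfg p q k t u ρ X X' Y Y' φ ψ T U) :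
    ∃ hY' : (∀ w ∈ W₀, Y' w ∈ W₀),
      YCfg q (resRep ρ W₀ B.hL) (Y.restrict B.hY) (Y'.restrict hY') ψ := by
  have hpow : ∀ m : ℕ, ∀ w ∈ W₀, (Y ^ m) w ∈ W₀ := by
    intro m
    induction m with
    | zero => intro w hw; rw [pow_zero]; exact hw
    | succ m ih =>
      intro w hw
      rw [pow_succ']
      exact B.hY _ (ih w hw)
  have hY'eq : Y' = Y ^ (q - 1) := inv_eq_pow Y Y' q hq H.hYY' H.hYQ
  have hY' : ∀ w ∈ W₀, Y' w ∈ W₀ := by
    intro w hw; rw [hY'eq]; exact hpow _ w hw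
  refine ⟨hY', ?_⟩
  refine ⟨?_, ?_, ?_, ?_, ?_⟩
  · refine LinearMap.ext (fun w => Subtype.ext ?_)
    show Y (Y' (w : W)) = (w : W)
    rw [← Module.End.mul_apply, H.hYY']; rfl
  · refine LinearMap.ext (fun w => Subtype.ext ?_)
    show Y' (Y (w : W)) = (w : W)
    rw [← Module.End.mul_apply, H.hY'Y]; rfl
  · intro g
    refine LinearMap.ext (fun w => Subtype.ext ?_)
    show Y (ρ g (w : W)) = ρ (ψ g) (Y (w : W))
    have h2 : (Y * ρ g) (w : W) = (ρ (ψ g) * Y) (w : W) := by rw [H.cY g]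
    exact h2
  · refine LinearMap.ext (fun w => Subtype.ext ?_)
    rw [restrict_pow_coe, H.hYQ]; rfl
  · refine LinearMap.ext (fun w => Subtype.ext ?_)
    rw [LinearMap.sum_apply, Submodule.coe_sum, LinearMap.zero_apply, Submodule.coe_zero,
      ← B.hNY w.1 w.2]
    refine Finset.sum_congr rfl (fun j _ => ?_)
    exact restrict_pow_coe Y W₀ B.hY j w

/-- Step 1: the kernel automorphism has no fixed points on `T`. -/
theorem typeQ_step1 (hnum : PQNum p q k) [ht : Fact t.Prime] (htq : t ≠ q)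
    [IsAlgClosed K] [FiniteDimensional K W] (hqK : (q : K) ≠ 0) (htK : (t : K) ≠ 0)
    (H : PQCfg p q k t u ρ X X' Y Y' φ ψ T U) (hfaith : Function.Injective ρ)
    (W₀ : Submodule K W) (B : QBlk q ρ Y φ W₀) : ∀ c ∈ T, φ c = c → c = 1 := by
  haveI := Fact.mk hnum.hq
  obtain ⟨hY', hy⟩ := B.ycfg hnum.hq.pos H
  have hψQ : Inv ψ (T ⊓ fix φ) := Inv.inf' H.hψT (H.aut.inv_r_fix hnum.hq.pos)
  have hQ₀ : IsPGroup t ↥(T ⊓ fix φ) := H.hT.to_le inf_le_left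
  have hfpf : ∀ c ∈ T ⊓ fix φ, ψ c = c → c = 1 := fun c hc h => H.hfpf c hc.2 h
  have hall : ∀ c ∈ T ⊓ fix φ, resRep ρ W₀ B.hL (ψ c) = resRep ρ W₀ B.hL c := by
    by_cases hq2 : q = 2
    · intro c _
      exact star_two' hq2 hy c
    · exact star_pp (Ne.symm htq) hq2 hqK htK hy (T ⊓ fix φ) hQ₀ hψQ hfpf
  have htriv := triv_of_fpf (T ⊓ fix φ) hψQ hfpf hall
  intro c hcT hφc
  apply hfaith
  rw [map_one]
  apply B.hspread
  intro a w hw
  rw [pow_fix hφc a]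
  have h1 := htriv c ⟨hcT, hφc⟩
  have h2 : ((resRep ρ W₀ B.hL c ⟨w, hw⟩ : W₀) : W) = w := by rw [h1]; rfl
  exact h2

/-- Step 2: the kernel automorphism centralises `U`. -/
theorem typeQ_step2 (hnum : PQNum p q k) [ht : Fact t.Prime] [hu : Fact u.Prime] (htu : t ≠ u)
    (H : PQCfg p q k t u ρ X X' Y Y' φ ψ T U) (hsup : T ⊔ U = ⊤)
    (r4b : ∀ U₁ : Subgroup L, U₁ ≤ U → Inv φ U₁ → Inv ψ U₁ → U₁ ≠ U →
      ∀ b ∈ U₁, ∀ a ∈ T, a * b = b * a)
    (hstep1 : ∀ c ∈ T, φ c = c → c = 1)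
    (hne : ∃ a₀ ∈ T, ∃ b₀ ∈ U, a₀ * b₀ ≠ b₀ * a₀) : ∀ b ∈ U, φ b = b := by
  classical
  haveI := H.hTn
  haveI := Fact.mk hnum.hp
  haveI := Fact.mk hnum.hq
  obtain ⟨a₀, ha₀, b₀, hb₀, hne₀⟩ := hne
  by_contra hcon
  have hU₁ : U ⊓ fix φ ≠ U := by
    intro h
    apply hcon
    intro b hb
    have : b ∈ U ⊓ fix φ := by rw [h]; exact hb
    exact this.2
  have hU₁φ : Inv φ (U ⊓ fix φ) := by
    intro x hx
    rw [show φ x = x from hx.2]; exact hx
  have hU₁ψ : Inv ψ (U ⊓ fix φ) := Inv.inf' H.hψU (H.aut.inv_r_fix hnum.hq.pos)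
  have h1 := r4b _ inf_le_left hU₁φ hU₁ψ hU₁
  obtain ⟨D, hD⟩ := exists_cent_in T U
  have hDφ : Inv φ D := cent_in_inv T U D hD φ H.hφT H.hφU
  have hpD : ¬ p ∣ Nat.card D :=
    not_dvd_card_of_coprime_mul H.hcop D p (dvd_mul_right p q) hnum.hp.one_lt.ne'
  have hU₁D : ∀ b ∈ U, φ b = b → b ∈ D := fun b hb h =>
    (hD b).mpr ⟨hb, fun a ha => h1 b ⟨hb, h⟩ a ha⟩
  have hdec : ∀ g : L, ∃ a ∈ T, ∃ b ∈ U, a * b = g := by
    intro g
    have hg : g ∈ T ⊔ U := by rw [hsup]; trivial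
    exact Subgroup.mem_sup_of_normal_left.mp hg
  have hDn : D.Normal := by
    refine ⟨fun d hd g => ?_⟩
    obtain ⟨a, ha, b, hb, rfl⟩ := hdec g
    have hd' := (hD d).mp hd
    have he : b * d * b⁻¹ ∈ D := by
      rw [hD]
      refine ⟨U.mul_mem (U.mul_mem hb hd'.1) (U.inv_mem hb), fun a' ha' => ?_⟩
      have ha'' : b⁻¹ * a' * b ∈ T := by
        have := H.hTn.conj_mem a' ha' b⁻¹
        rwa [inv_inv] at this
      have h2 := hd'.2 _ ha''
      calc a' * (b * d * b⁻¹) = b * ((b⁻¹ * a' * b) * d) * b⁻¹ := by group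
        _ = b * (d * (b⁻¹ * a' * b)) * b⁻¹ := by rw [h2]
        _ = b * d * b⁻¹ * a' := by group
    have h3 := ((hD _).mp he).2 a ha
    have h4 : a * b * d * (a * b)⁻¹ = b * d * b⁻¹ := by
      calc a * b * d * (a * b)⁻¹ = (a * (b * d * b⁻¹)) * a⁻¹ := by group
        _ = (b * d * b⁻¹) * a * a⁻¹ := by rw [h3]
        _ = b * d * b⁻¹ := by group
    rw [h4]; exact he
  haveI := hDn
  have hfpfbar : MonoidHom.FixedPointFree
      ((quotAut φ D hDφ : (L ⧸ D) ≃* (L ⧸ D)) : (L ⧸ D) →* (L ⧸ D)) := by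
    intro x hx
    induction x using QuotientGroup.induction_on with
    | H g =>
      have hx' : quotAut φ D hDφ (g : L ⧸ D) = (g : L ⧸ D) := hx
      rw [quotAut_mk] at hx'
      have h2 : g⁻¹ * φ g ∈ D := QuotientGroup.eq.mp hx'.symm
      obtain ⟨n, hn, hfix⟩ := exists_fixed_in_coset φ H.aut.sp D hDφ hpD g h2
      obtain ⟨a, ha, b, hb, hab⟩ := hdec (g * n)
      rw [← hab, map_mul] at hfix
      have h3 : a⁻¹ * φ a = b * (φ b)⁻¹ := by
        calc a⁻¹ * φ a = a⁻¹ * (φ a * φ b) * (φ b)⁻¹ := by group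
          _ = a⁻¹ * (a * b) * (φ b)⁻¹ := by rw [hfix]
          _ = b * (φ b)⁻¹ := by group
      have h4 : a⁻¹ * φ a = 1 :=
        inf_pgroups_trivial htu T U H.hT H.hU _ (T.mul_mem (T.inv_mem ha) (H.hφT a ha))
          (by rw [h3]; exact U.mul_mem hb (U.inv_mem (H.hφU b hb)))
      have h5 : φ a = a := (inv_mul_eq_one.mp h4).symm
      have h6 : a = 1 := hstep1 a ha h5
      have h7 : φ b = b := by
        rw [h4] at h3
        have := (mul_inv_eq_one.mp h3.symm)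
        exact this.symm
      have h8 : g * n ∈ D := by
        rw [← hab, h6, one_mul]; exact hU₁D b hb h7
      have h9 : g ∈ D := by
        have : g = (g * n) * n⁻¹ := by group
        rw [this]; exact D.mul_mem h8 (D.inv_mem hn)
      exact (QuotientGroup.eq_one_iff g).mpr h9
  have hnil := Cfsg.Agent.Lib.Helper1.ThompsonFPF.isNilpotent_of_fpf hnum.hp _ (L ⧸ D) rfl
    (quotAut φ D hDφ) hfpfbar (quotAut_pow_eq_one φ D hDφ p H.aut.sp)
  have hcomm : ((a₀ : L) : L ⧸ D) * ((b₀ : L) : L ⧸ D) = (b₀ : L ⧸ D) * (a₀ : L ⧸ D) := by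
    apply commute_of_nilpotent hnil htu
    · obtain ⟨m, hm⟩ := pow_of_pgroup T H.hT a₀ ha₀
      exact ⟨m, by rw [← QuotientGroup.mk_pow, hm]; rfl⟩
    · obtain ⟨m, hm⟩ := pow_of_pgroup U H.hU b₀ hb₀
      exact ⟨m, by rw [← QuotientGroup.mk_pow, hm]; rfl⟩
  rw [← QuotientGroup.mk_mul, ← QuotientGroup.mk_mul] at hcomm
  have h2 : (a₀ * b₀)⁻¹ * (b₀ * a₀) ∈ D := QuotientGroup.eq.mp hcomm
  have h3 : (a₀ * b₀)⁻¹ * (b₀ * a₀) ∈ T := by
    have e : (a₀ * b₀)⁻¹ * (b₀ * a₀) = (b₀⁻¹ * a₀⁻¹ * b₀⁻¹⁻¹) * a₀ := by group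
    rw [e]
    exact T.mul_mem (H.hTn.conj_mem _ (T.inv_mem ha₀) b₀⁻¹) ha₀
  have h4 := inf_pgroups_trivial htu T U H.hT H.hU _ h3 ((hD _).mp h2).1
  apply hne₀
  exact (inv_mul_eq_one.mp h4)

/-- Step 3: if the complement automorphism centralises `T` modulo the kernel of the block, then
`T` and `U` commute. -/
theorem typeQ_step3 (H : PQCfg p q k t u ρ X X' Y Y' φ ψ T U) (hfaith : Function.Injective ρ)
    (W₀ : Submodule K W) (B : QBlk q ρ Y φ W₀) (hstep2 : ∀ b ∈ U, φ b = b)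
    (hstar : ∀ a ∈ T, ∀ w ∈ W₀, ρ (ψ a) w = ρ a w) : ∀ a ∈ T, ∀ b ∈ U, a * b = b * a := by
  haveI := H.hTn
  have hstar₀ : ∀ a ∈ T, resRep ρ W₀ B.hL (ψ a) = resRep ρ W₀ B.hL a := by
    intro a ha
    refine LinearMap.ext (fun w => Subtype.ext ?_)
    exact hstar a ha w.1 w.2
  have hF : Fpf (restrictAut ψ U H.hψU) := by
    intro g hg
    apply Subtype.ext
    apply H.hfpf g.1 (hstep2 g.1 g.2)
    have := congrArg Subtype.val hg
    rwa [restrictAut_apply_coe] at this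
  have key : ∀ a ∈ T, ∀ b ∈ U, resRep ρ W₀ B.hL (a * b * a⁻¹ * b⁻¹) = 1 := by
    intro a ha b hb
    obtain ⟨c, hc⟩ := hF.surj ⟨b, hb⟩
    have hbc : b = (c : L)⁻¹ * ψ c := by
      have := congrArg Subtype.val hc
      rw [Subgroup.coe_mul, Subgroup.coe_inv, restrictAut_apply_coe] at this
      exact this.symm
    have e1 : resRep ρ W₀ B.hL (ψ c * a * (ψ c)⁻¹) = resRep ρ W₀ B.hL (c * a * (c : L)⁻¹) := by
      have h1 := hstar₀ (c * a * (c : L)⁻¹) (H.hTn.conj_mem a ha c)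
      rw [map_mul ψ, map_mul ψ, map_inv ψ] at h1
      rw [map_mul (resRep ρ W₀ B.hL) (ψ c * ψ a), map_mul (resRep ρ W₀ B.hL) (ψ c),
        hstar₀ a ha, ← map_mul, ← map_mul] at h1
      exact h1
    have e2 : resRep ρ W₀ B.hL (b * a) = resRep ρ W₀ B.hL (a * b) := by
      calc resRep ρ W₀ B.hL (b * a)
          = resRep ρ W₀ B.hL ((c : L)⁻¹ * (ψ c * a * (ψ c)⁻¹) * ψ c) := by
            congr 1; rw [hbc]; group
        _ = resRep ρ W₀ B.hL (c : L)⁻¹ * resRep ρ W₀ B.hL (ψ c * a * (ψ c)⁻¹)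
              * resRep ρ W₀ B.hL (ψ c) := by rw [map_mul, map_mul]
        _ = resRep ρ W₀ B.hL (c : L)⁻¹ * resRep ρ W₀ B.hL (c * a * (c : L)⁻¹)
              * resRep ρ W₀ B.hL (ψ c) := by rw [e1]
        _ = resRep ρ W₀ B.hL ((c : L)⁻¹ * (c * a * (c : L)⁻¹) * ψ c) := by
            simp only [map_mul, mul_assoc]
        _ = resRep ρ W₀ B.hL (a * b) := by congr 1; rw [hbc]; group
    have e3 : a * b * a⁻¹ * b⁻¹ = (a * b) * (a⁻¹ * b⁻¹) := by group
    rw [e3, map_mul, ← e2, ← map_mul]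
    have e4 : b * a * (a⁻¹ * b⁻¹) = 1 := by group
    rw [e4, map_one]
  have hφpowT : ∀ (m : ℕ) (a : L), a ∈ T → (φ ^ m) a ∈ T := by
    intro m
    induction m with
    | zero => intro a ha; exact ha
    | succ m ih =>
      intro a ha
      rw [pow_succ', MulAut.mul_apply]
      exact H.hφT _ (ih a ha)
  intro a ha b hb
  have h1 : ρ (a * b * a⁻¹ * b⁻¹) = 1 := by
    apply B.hspread
    intro m w hw
    have e : (φ ^ m) (a * b * a⁻¹ * b⁻¹) = (φ ^ m) a * b * ((φ ^ m) a)⁻¹ * b⁻¹ := by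
      rw [map_mul, map_mul, map_mul, map_inv, map_inv, pow_fix (hstep2 b hb) m]
    rw [e]
    have h2 := key _ (hφpowT m a ha) b hb
    have h3 : ((resRep ρ W₀ B.hL ((φ ^ m) a * b * ((φ ^ m) a)⁻¹ * b⁻¹) ⟨w, hw⟩ : W₀) : W)
        = w := by rw [h2]; rfl
    exact h3
  have h2 : a * b * a⁻¹ * b⁻¹ = 1 := by
    apply hfaith; rw [h1, map_one]
  calc a * b = (a * b * a⁻¹ * b⁻¹) * (b * a) := by group
    _ = b * a := by rw [h2, one_mul]

end Cfsg.Agent.Lib.Helper3.Sh
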