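import Mathlib
import Cfsg.Agent.Lib.Helper3.ShO

/-!
# Frobenius groups of order `pq`, part N: the rank of a matrix and the dimension of the kernel of
an endomorphism do not change under extension of the field.
-/

set_option autoImplicit false
set_option maxHeartbeats 4000000
set_option maxRecDepth 100000
set_option linter.unusedVariables false
set_option linter.unusedSectionVars false
set_option linter.style.haveILetI false
set_option linter.deprecated false

namespace Cfsg.Agent.Lib.Helper3.Sh

open Module Matrix

theorem rank_map_eq {F K : Type*} [Field F] [Field K] (f : F →+* K) {d : ℕ}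
    (M : Matrix (Fin d) (Fin d) F) : (M.map f).rank = M.rank := by
  classical
  obtain ⟨V, U, e, hV, hU, h⟩ := Matrix.exists_rank_normal_form M
  have hV' : IsUnit (V.map f) := hV.map f.mapMatrix
  have hU' : IsUnit (U.map f) := hU.map f.mapMatrix
  have hVd : IsUnit V.det := (Matrix.isUnit_iff_isUnit_det _).mp hV
  have hUd : IsUnit U.det := (Matrix.isUnit_iff_isUnit_det _).mp hU
  have hVd' : IsUnit (V.map f).det := (Matrix.isUnit_iff_isUnit_det _).mp hV'
  have hUd' : IsUnit (U.map f).det := (Matrix.isUnit_iff_isUnit_det _).mp hU'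
  have h' : V.map f * M.map f * U.map f
      = ((fromBlocks 1 0 0 0 : Matrix (Fin M.rank ⊕ Fin (Fintype.card (Fin d) - M.rank))
          (Fin M.rank ⊕ Fin (Fintype.card (Fin d) - M.rank)) F).submatrix e e).map f := by
    rw [← h, Matrix.map_mul, Matrix.map_mul]
  have r1 : (M.map f).rank = (V.map f * M.map f * U.map f).rank := by
    rw [Matrix.rank_mul_eq_left_of_isUnit_det _ _ hUd',
      Matrix.rank_mul_eq_right_of_isUnit_det _ _ hVd']
  have r2 : M.rank = (V * M * U).rank := by
    rw [Matrix.rank_mul_eq_left_of_isUnit_det _ _ hUd,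
      Matrix.rank_mul_eq_right_of_isUnit_det _ _ hVd]
  rw [r1, r2, h', h, ← Matrix.submatrix_map, Matrix.rank_submatrix, Matrix.rank_submatrix,
    Matrix.fromBlocks_map]
  have e1 : ((1 : Matrix (Fin M.rank) (Fin M.rank) F).map f) = 1 := by
    rw [Matrix.map_one _ (map_zero f) (map_one f)]
  have e0 : ∀ (a b : Type) , ((0 : Matrix a b F).map f) = 0 := by
    intro a b
    exact Matrix.map_zero _ (map_zero f)
  rw [e1, e0, e0, e0]
  rw [← Matrix.diagonal_one, ← Matrix.diagonal_one,
    ← Matrix.diagonal_zero (n := Fin (Fintype.card (Fin d) - M.rank)),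
    Matrix.fromBlocks_diagonal, Matrix.rank_diagonal]
  conv_rhs => rw [← Matrix.diagonal_zero (n := Fin (Fintype.card (Fin d) - M.rank)),
    Matrix.fromBlocks_diagonal, Matrix.rank_diagonal]
  apply Fintype.card_congr
  apply Equiv.subtypeEquivRight
  intro i
  cases i with
  | inl i => simp
  | inr i => simp

theorem finrank_ker_bcEnd (F K : Type*) [Field F] [Field K] [Algebra F K] (V : Type*)
    [AddCommGroup V] [Module F V] [FiniteDimensional F V] (A : Module.End F V) :
    finrank K (LinearMap.ker (bcEnd F K V A)) = finrank F (LinearMap.ker A) := by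
  classical
  obtain ⟨M, hM⟩ : ∃ M : Matrix (Fin (finrank F V)) (Fin (finrank F V)) F,
      M = LinearMap.toMatrix (Module.finBasis F V) (Module.finBasis F V) A := ⟨_, rfl⟩
  have h1 : bcEnd F K V A = Matrix.toLin' (M.map (algebraMap F K)) := by
    rw [hM]; rfl
  have h2 : finrank K (LinearMap.range (bcEnd F K V A)) = (M.map (algebraMap F K)).rank := by
    rw [h1, Matrix.rank, Matrix.toLin'_apply']
  have h3 : finrank F (LinearMap.range A) = M.rank := by
    rw [Matrix.rank_eq_finrank_range_toLin M (Module.finBasis F V) (Module.finBasis F V), hM,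
      Matrix.toLin_toMatrix]
  have h4 := LinearMap.finrank_range_add_finrank_ker (bcEnd F K V A)
  have h5 := LinearMap.finrank_range_add_finrank_ker A
  rw [h2, rank_map_eq, Module.finrank_fin_fun] at h4
  rw [h3] at h5
  omega

end Cfsg.Agent.Lib.Helper3.Sh
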