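import Mathlib
import Cfsg.Agent.Lib.Helper3.PqH
import Cfsg.Agent.Lib.Helper3.PqG

/-!
# Frobenius groups of order `pq`, part O: an invariant complement for a representation with a
compatible operator of finite order (averaging).
-/

set_option autoImplicit false
set_option maxHeartbeats 4000000
set_option maxRecDepth 100000
set_option linter.unusedVariables false
set_option linter.unusedSectionVars false
set_option linter.style.haveILetI false
set_option linter.deprecated false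

namespace Cfsg.Agent.Lib.Helper3.Sh

open Module Cfsg.Agent.Lib.Helper3 Cfsg.Agent.Lib.Helper3.HHC1 Cfsg.Agent.Lib.Helper8.FP4
  Cfsg.Agent.Lib.Helper6.Wd

theorem sum_shift {M : Type*} [AddCommGroup M] (g : ℕ → M) (n : ℕ) (h : g n = g 0) :
    ∑ i ∈ Finset.range n, g (i + 1) = ∑ i ∈ Finset.range n, g i := by
  have h1 := Finset.sum_range_succ g n
  have h2 := Finset.sum_range_succ' g n
  rw [h1, h] at h2
  exact (add_right_cancel h2).symm

variable {E : Type*} [Field E] {M : Type*} [AddCommGroup M] [Module E M]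

theorem inv_pow_mul_pow (P P' : Module.End E M) (hPP' : P * P' = 1) (hP'P : P' * P = 1) (j : ℕ) :
    P ^ j * P' ^ j = 1 ∧ P' ^ j * P ^ j = 1 := by
  induction j with
  | zero => simp
  | succ j ih =>
    constructor
    · rw [pow_succ, pow_succ', mul_assoc, ← mul_assoc P, hPP', one_mul, ih.1]
    · rw [pow_succ, pow_succ', mul_assoc, ← mul_assoc P', hP'P, one_mul, ih.2]

theorem pow_mem_of_inv (A : Module.End E M) (P₀ : Submodule E M) (h : ∀ w ∈ P₀, A w ∈ P₀)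
    (j : ℕ) : ∀ w ∈ P₀, (A ^ j) w ∈ P₀ := by
  induction j with
  | zero => intro w hw; rw [pow_zero]; exact hw
  | succ j ih =>
    intro w hw
    rw [pow_succ']
    exact h _ (ih w hw)

/-- Averaging a projection over the powers of an operator of finite order. -/
theorem avg_pow (P P' : Module.End E M) (hPP' : P * P' = 1) (hP'P : P' * P = 1) (q : ℕ)
    (hq : 0 < q) (hPq : P ^ q = 1) (hqE : (q : E) ≠ 0) (P₀ : Submodule E M)
    (hP₀ : ∀ w ∈ P₀, P w ∈ P₀) (π : Module.End E M) (hπ1 : ∀ v, π v ∈ P₀)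
    (hπ2 : ∀ v ∈ P₀, π v = v) :
    ∃ π' : Module.End E M, (∀ v, π' v ∈ P₀) ∧ (∀ v ∈ P₀, π' v = v) ∧ P * π' = π' * P := by
  have hP'eq : P' = P ^ (q - 1) := inv_eq_pow P P' q hq hPP' hPq
  have hP₀' : ∀ w ∈ P₀, P' w ∈ P₀ := by
    intro w hw; rw [hP'eq]; exact pow_mem_of_inv P P₀ hP₀ _ w hw
  have hP'q : P' ^ q = 1 := by
    have := (inv_pow_mul_pow P P' hPP' hP'P q).2
    rwa [hPq, mul_one] at this
  refine ⟨(q : E)⁻¹ • ∑ j ∈ Finset.range q, P ^ j * π * P' ^ j, ?_, ?_, ?_⟩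
  · intro v
    rw [LinearMap.smul_apply, LinearMap.sum_apply]
    refine P₀.smul_mem _ (Submodule.sum_mem _ (fun j _ => ?_))
    rw [Module.End.mul_apply, Module.End.mul_apply]
    exact pow_mem_of_inv P P₀ hP₀ j _ (hπ1 _)
  · intro v hv
    rw [LinearMap.smul_apply, LinearMap.sum_apply]
    have h1 : ∀ j ∈ Finset.range q, (P ^ j * π * P' ^ j) v = v := by
      intro j _
      rw [Module.End.mul_apply, Module.End.mul_apply,
        hπ2 _ (pow_mem_of_inv P' P₀ hP₀' j v hv), ← Module.End.mul_apply,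
        (inv_pow_mul_pow P P' hPP' hP'P j).1]
      rfl
    rw [Finset.sum_congr rfl h1, Finset.sum_const, Finset.card_range, ← Nat.cast_smul_eq_nsmul E,
      smul_smul, inv_mul_cancel₀ hqE, one_smul]
  · rw [mul_smul_comm, smul_mul_assoc, Finset.mul_sum, Finset.sum_mul]
    congr 1
    have h1 : ∀ j ∈ Finset.range q, P * (P ^ j * π * P' ^ j)
        = (fun j => P ^ j * π * P' ^ j * P) (j + 1) := by
      intro j _
      show P * (P ^ j * π * P' ^ j) = P ^ (j + 1) * π * P' ^ (j + 1) * P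
      rw [pow_succ' P j, pow_succ P' j, mul_assoc (P * P ^ j * π), mul_assoc (P' ^ j), hP'P,
        mul_one]
      simp only [mul_assoc]
    rw [Finset.sum_congr rfl h1]
    refine sum_shift (fun j => P ^ j * π * P' ^ j * P) q ?_
    show P ^ q * π * P' ^ q * P = P ^ 0 * π * P' ^ 0 * P
    rw [hPq, hP'q, pow_zero, pow_zero]

/-- Averaging a projection over a finite group. -/
theorem avg_grp {𝒰 : Type*} [Group 𝒰] [Fintype 𝒰] (τ : Representation E 𝒰 M)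
    (hcE : (Fintype.card 𝒰 : E) ≠ 0) (P₀ : Submodule E M)
    (hP₀ : ∀ b, ∀ w ∈ P₀, τ b w ∈ P₀) (π : Module.End E M) (hπ1 : ∀ v, π v ∈ P₀)
    (hπ2 : ∀ v ∈ P₀, π v = v) :
    (∀ v, ((Fintype.card 𝒰 : E)⁻¹ • ∑ b, τ b * π * τ b⁻¹) v ∈ P₀) ∧
    (∀ v ∈ P₀, ((Fintype.card 𝒰 : E)⁻¹ • ∑ b, τ b * π * τ b⁻¹) v = v) ∧
    (∀ b', τ b' * ((Fintype.card 𝒰 : E)⁻¹ • ∑ b, τ b * π * τ b⁻¹)
      = ((Fintype.card 𝒰 : E)⁻¹ • ∑ b, τ b * π * τ b⁻¹) * τ b') := by
  refine ⟨?_, ?_, ?_⟩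
  · intro v
    rw [LinearMap.smul_apply, LinearMap.sum_apply]
    refine P₀.smul_mem _ (Submodule.sum_mem _ (fun b _ => ?_))
    rw [Module.End.mul_apply, Module.End.mul_apply]
    exact hP₀ b _ (hπ1 _)
  · intro v hv
    rw [LinearMap.smul_apply, LinearMap.sum_apply]
    have h1 : ∀ b ∈ (Finset.univ : Finset 𝒰), (τ b * π * τ b⁻¹) v = v := by
      intro b _
      rw [Module.End.mul_apply, Module.End.mul_apply, hπ2 _ (hP₀ b⁻¹ v hv),
        ← Module.End.mul_apply, ← map_mul, mul_inv_cancel, map_one]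
      rfl
    rw [Finset.sum_congr rfl h1, Finset.sum_const, Finset.card_univ,
      ← Nat.cast_smul_eq_nsmul E, smul_smul, inv_mul_cancel₀ hcE, one_smul]
  · intro b'
    rw [mul_smul_comm, smul_mul_assoc, Finset.mul_sum, Finset.sum_mul]
    congr 1
    have h1 : ∀ b ∈ (Finset.univ : Finset 𝒰), τ b' * (τ b * π * τ b⁻¹)
        = (fun c => τ c * π * τ c⁻¹ * τ b') (b' * b) := by
      intro b _
      show τ b' * (τ b * π * τ b⁻¹) = τ (b' * b) * π * τ (b' * b)⁻¹ * τ b'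
      rw [mul_inv_rev, map_mul, map_mul, mul_assoc (τ b' * τ b * π), mul_assoc (τ b⁻¹),
        ← map_mul τ b'⁻¹, inv_mul_cancel, map_one, mul_one]
      simp only [mul_assoc]
    rw [Finset.sum_congr rfl h1]
    exact Equiv.sum_comp (Equiv.mulLeft b') (fun c => τ c * π * τ c⁻¹ * τ b')

/-- An invariant complement. -/
theorem exists_inv_compl [FiniteDimensional E M] {𝒰 : Type*} [Group 𝒰] [Fintype 𝒰]
    (τ : Representation E 𝒰 M) (P P' : Module.End E M) (hPP' : P * P' = 1) (hP'P : P' * P = 1)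
    (q : ℕ) (hq : 0 < q) (hPq : P ^ q = 1) (ψU : MulAut 𝒰)
    (hcompat : ∀ b, P * τ b = τ (ψU b) * P)
    (hcE : (Fintype.card 𝒰 : E) ≠ 0) (hqE : (q : E) ≠ 0) (P₀ : Submodule E M)
    (hP₀τ : ∀ b, ∀ w ∈ P₀, τ b w ∈ P₀) (hP₀P : ∀ w ∈ P₀, P w ∈ P₀) :
    ∃ M' : Submodule E M, (∀ b, ∀ w ∈ M', τ b w ∈ M') ∧ (∀ w ∈ M', P w ∈ M') ∧
      IsCompl P₀ M' := by
  obtain ⟨Q, hQ⟩ := Submodule.exists_isCompl P₀
  obtain ⟨π₀, hπ₀1, hπ₀2⟩ : ∃ π₀ : Module.End E M, (∀ v, π₀ v ∈ P₀) ∧ ∀ v ∈ P₀, π₀ v = v := by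
    refine ⟨P₀.projection Q hQ, fun v => ?_, fun v hv => ?_⟩
    · exact Submodule.projection_apply_mem hQ v
    · exact Submodule.projection_apply_left hQ ⟨v, hv⟩
  obtain ⟨π₁, hπ₁1, hπ₁2, hπ₁P⟩ := avg_pow P P' hPP' hP'P q hq hPq hqE P₀ hP₀P π₀ hπ₀1 hπ₀2
  obtain ⟨hπ₂1, hπ₂2, hπ₂τ⟩ := avg_grp τ hcE P₀ hP₀τ π₁ hπ₁1 hπ₁2
  obtain ⟨π₂, hπ₂⟩ : ∃ π₂ : Module.End E M,
      π₂ = (Fintype.card 𝒰 : E)⁻¹ • ∑ b, τ b * π₁ * τ b⁻¹ := ⟨_, rfl⟩
  rw [← hπ₂] at hπ₂1 hπ₂2 hπ₂τ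
  have hπ₂P : P * π₂ = π₂ * P := by
    rw [hπ₂, mul_smul_comm, smul_mul_assoc, Finset.mul_sum, Finset.sum_mul]
    congr 1
    have h1 : ∀ b ∈ (Finset.univ : Finset 𝒰), P * (τ b * π₁ * τ b⁻¹)
        = (fun c => τ c * π₁ * τ c⁻¹ * P) (ψU b) := by
      intro b _
      show P * (τ b * π₁ * τ b⁻¹) = τ (ψU b) * π₁ * τ (ψU b)⁻¹ * P
      rw [← map_inv ψU, mul_assoc (τ (ψU b) * π₁), ← hcompat b⁻¹, ← mul_assoc (τ (ψU b) * π₁),
        mul_assoc (τ (ψU b)), ← hπ₁P, ← mul_assoc (τ (ψU b)), ← hcompat b]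
      simp only [mul_assoc]
    rw [Finset.sum_congr rfl h1]
    exact Equiv.sum_comp ψU.toEquiv (fun c => τ c * π₁ * τ c⁻¹ * P)
  refine ⟨LinearMap.ker π₂, ?_, ?_, ?_⟩
  · intro b w hw
    rw [LinearMap.mem_ker] at hw ⊢
    have : π₂ (τ b w) = τ b (π₂ w) := by
      rw [← Module.End.mul_apply, ← hπ₂τ b]; rfl
    rw [this, hw, map_zero]
  · intro w hw
    rw [LinearMap.mem_ker] at hw ⊢
    have : π₂ (P w) = P (π₂ w) := by
      rw [← Module.End.mul_apply, ← hπ₂P]; rfl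
    rw [this, hw, map_zero]
  · rw [isCompl_iff]
    constructor
    · rw [Submodule.disjoint_def]
      intro v hv hv'
      rw [LinearMap.mem_ker] at hv'
      rw [← hπ₂2 v hv, hv']
    · rw [codisjoint_iff, eq_top_iff]
      intro v _
      have h1 : v = π₂ v + (v - π₂ v) := by abel
      rw [h1]
      refine Submodule.add_mem _ (Submodule.mem_sup_left (hπ₂1 v)) (Submodule.mem_sup_right ?_)
      rw [LinearMap.mem_ker, map_sub, hπ₂2 _ (hπ₂1 v), sub_self]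

end Cfsg.Agent.Lib.Helper3.Sh
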