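import Mathlib
import Cfsg.Agent.Lib.Helper3.PqI
import Cfsg.Agent.Lib.Helper3.PqO

/-!
# Frobenius groups of order `pq`, part P: a module for a Frobenius group on which the kernel has
no fixed vectors is free for the complement.
-/

set_option autoImplicit false
set_option maxHeartbeats 4000000
set_option maxRecDepth 100000
set_option linter.unusedVariables false
set_option linter.unusedSectionVars false
set_option linter.style.haveILetI false
set_option linter.deprecated false

namespace Cfsg.Agent.Lib.Helper3.Sh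

open Module Cfsg.Agent.Lib.Helper3 Cfsg.Agent.Lib.Helper3.HHC1 Cfsg.Agent.Lib.Helper8.FP4
  Cfsg.Agent.Lib.Helper6.Wd

universe vv

theorem mul_norm_eq {E : Type*} [Field E] {M : Type*} [AddCommGroup M] [Module E M]
    (P : Module.End E M) (q : ℕ) (hPq : P ^ q = 1) :
    (∑ j ∈ Finset.range q, P ^ j) * P = ∑ j ∈ Finset.range q, P ^ j := by
  rw [Finset.sum_mul]
  have h1 : ∀ j ∈ Finset.range q, P ^ j * P = (fun j => P ^ j) (j + 1) := by
    intro j _
    show P ^ j * P = P ^ (j + 1)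
    rw [pow_succ]
  rw [Finset.sum_congr rfl h1]
  refine sum_shift (fun j => P ^ j) q ?_
  show P ^ q = P ^ 0
  rw [hPq, pow_zero]

theorem norm_mul_pow_eq {E : Type*} [Field E] {M : Type*} [AddCommGroup M] [Module E M]
    (P : Module.End E M) (q : ℕ) (hPq : P ^ q = 1) (j : ℕ) :
    (∑ j ∈ Finset.range q, P ^ j) * P ^ j = ∑ j ∈ Finset.range q, P ^ j := by
  induction j with
  | zero => rw [pow_zero, mul_one]
  | succ j ih => rw [pow_succ', ← mul_assoc, mul_norm_eq P q hPq, ih]

theorem range_norm_eq_ker {E : Type*} [Field E] {M : Type*} [AddCommGroup M] [Module E M]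
    (P : Module.End E M) (q : ℕ) (hPq : P ^ q = 1) (hqE : (q : E) ≠ 0) :
    LinearMap.range (∑ j ∈ Finset.range q, P ^ j) = LinearMap.ker (P - 1) := by
  have hcomm : P * (∑ j ∈ Finset.range q, P ^ j) = ∑ j ∈ Finset.range q, P ^ j := by
    have h1 : P * (∑ j ∈ Finset.range q, P ^ j) = (∑ j ∈ Finset.range q, P ^ j) * P := by
      rw [Finset.mul_sum, Finset.sum_mul]
      refine Finset.sum_congr rfl (fun j _ => ?_)
      rw [← pow_succ, ← pow_succ']
    rw [h1, mul_norm_eq P q hPq]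
  apply le_antisymm
  · rintro _ ⟨w, rfl⟩
    rw [LinearMap.mem_ker, LinearMap.sub_apply, Module.End.one_apply, ← Module.End.mul_apply,
      hcomm, sub_self]
  · intro v hv
    rw [LinearMap.mem_ker, LinearMap.sub_apply, Module.End.one_apply, sub_eq_zero] at hv
    have hpow : ∀ j : ℕ, (P ^ j) v = v := by
      intro j
      induction j with
      | zero => rfl
      | succ j ih => rw [pow_succ, Module.End.mul_apply, hv, ih]
    refine ⟨(q : E)⁻¹ • v, ?_⟩
    rw [map_smul, LinearMap.sum_apply, Finset.sum_congr rfl (fun j _ => hpow j),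
      Finset.sum_const, Finset.card_range, ← Nat.cast_smul_eq_nsmul E, smul_smul,
      inv_mul_cancel₀ hqE, one_smul]

/-- Freeness. -/
theorem frob_free (q : ℕ) [hq : Fact q.Prime] {E : Type*} [Field E] [IsAlgClosed E]
    {𝒰 : Type*} [Group 𝒰] [Fintype 𝒰] (hcE : (Fintype.card 𝒰 : E) ≠ 0) (hqE : (q : E) ≠ 0)
    (ψU : MulAut 𝒰) (hψq : ψU ^ q = 1) :
    ∀ (n : ℕ) (M : Type vv) [AddCommGroup M] [Module E M] [FiniteDimensional E M]
      (τ : Representation E 𝒰 M) (P P' : Module.End E M), finrank E M = n →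
      P * P' = 1 → P' * P = 1 → P ^ q = 1 → (∀ b, P * τ b = τ (ψU b) * P) →
      (∀ b b', τ b * τ b' = τ b' * τ b) → (∑ b, τ b = 0) →
      (∀ b, ∃ c, τ b = τ (c⁻¹ * ψU c)) →
      finrank E M = q * finrank E (LinearMap.range (∑ j ∈ Finset.range q, P ^ j)) := by
  classical
  intro n
  induction n using Nat.strong_induction_on with
  | _ n IH =>
  intro M _ _ _ τ P P' hn hPP' hP'P hPq hcompat hcomm hsum hsurj
  by_cases hM : Subsingleton M
  · have h0 : finrank E M = 0 := finrank_zero_of_subsingleton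
    have h1 : finrank E (LinearMap.range (∑ j ∈ Finset.range q, P ^ j)) = 0 := by
      have := Submodule.finrank_le (LinearMap.range (∑ j ∈ Finset.range q, P ^ j))
      omega
    rw [h0, h1, mul_zero]
  rw [not_subsingleton_iff_nontrivial] at hM
  haveI := hM
  have hcard : (Nat.card (⊤ : Subgroup 𝒰) : E) ≠ 0 := by
    rw [Subgroup.card_top, Nat.card_eq_fintype_card]; exact hcE
  have hc := fam_commute τ ⊤ (fun a _ b _ => hcomm a b)
  have hs := fam_semisimple τ ⊤ hcard
  have hsupwt := iSup_wt (fam τ ⊤) hc hs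
  obtain ⟨μ, hμ⟩ : ∃ μ : 𝒰 → E, wt (fam τ ⊤) μ ≠ ⊥ := by
    by_contra hcon
    push Not at hcon
    have : (⨆ χ, wt (fam τ ⊤) χ) = ⊥ := by
      rw [eq_bot_iff]
      exact iSup_le (fun χ => by rw [hcon χ])
    rw [this] at hsupwt
    exact bot_ne_top hsupwt
  obtain ⟨v, hv, hv0⟩ := (Submodule.ne_bot_iff _).mp hμ
  have hvj : ∀ j : ℕ, (P ^ j) v ∈ wt (fam τ ⊤) (tw (ψU ^ j) μ) :=
    fun j => pow_map_wt τ ⊤ ψU P hcompat (Inv.top ψU) j μ v hv
  have hvj0 : ∀ j : ℕ, (P ^ j) v ≠ 0 := fun j h0 =>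
    hv0 (op_pow_injective P q hq.out.pos hPq j v h0)
  -- the character is not fixed
  have hfix_ne : tw ψU μ ≠ μ := by
    intro h
    have hμψ : ∀ c, μ (ψU c) = μ c := by
      intro c
      have := congrFun h (ψU c)
      rw [tw_apply] at this
      have e : ψU⁻¹ (ψU c) = c := by
        rw [← MulAut.mul_apply, inv_mul_cancel]; rfl
      rw [e] at this
      exact this.symm
    have hτv : ∀ b, τ b v = v := by
      intro b
      obtain ⟨c, hc⟩ := hsurj b
      rw [hc, chi_apply τ ⊤ μ v hv _ (Subgroup.mem_top _),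
        chi_mul τ ⊤ μ v hv hv0 _ _ (Subgroup.mem_top _) (Subgroup.mem_top _), hμψ,
        chi_inv τ ⊤ μ v hv hv0 c (Subgroup.mem_top _), one_smul]
    have h1 : (∑ b, τ b) v = (Fintype.card 𝒰 : E) • v := by
      rw [LinearMap.sum_apply, Finset.sum_congr rfl (fun b _ => hτv b), Finset.sum_const,
        Finset.card_univ, Nat.cast_smul_eq_nsmul]
    rw [hsum, LinearMap.zero_apply] at h1
    rcases smul_eq_zero.mp h1.symm with h2 | h2
    · exact hcE h2
    · exact hv0 h2
  obtain ⟨F, hF⟩ : ∃ F : Function.End (𝒰 → E), ∀ χ, F χ = tw ψU χ :=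
    ⟨fun χ => tw ψU χ, fun _ => rfl⟩
  have hFq : F ^ q = 1 := by
    funext χ
    rw [tw_end_pow ψU F hF, hψq, tw_one]; rfl
  have hFne : ∀ a, 0 < a → a < q → (F ^ a) μ ≠ μ := by
    intro a ha haq h
    apply hfix_ne
    rw [← hF]
    refine end_pow_fix F q a hq.out hFq ?_ μ h
    intro hd
    have := Nat.le_of_dvd ha hd
    omega
  have hdist : ∀ j j' : ℕ, j < q → j' < q → tw (ψU ^ j) μ = tw (ψU ^ j') μ → j = j' := by
    intro j j' hj hj' h
    rw [← tw_end_pow ψU F hF, ← tw_end_pow ψU F hF] at h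
    exact end_orbit_distinct F q hq.out.pos hFq μ hFne j j' hj hj' h
  -- the independent family
  have hind : iSupIndep (fun j : Fin q => wt (fam τ ⊤) (tw (ψU ^ (j : ℕ)) μ)) := by
    have h1 := (wt_indep (fam τ ⊤) hc).comp
      (f := fun j : Fin q => tw (ψU ^ (j : ℕ)) μ)
      (fun j j' h => Fin.ext (hdist j j' j.2 j'.2 h))
    exact h1
  obtain ⟨vv, hvv⟩ : ∃ vv : Fin q → M, ∀ j, vv j = (P ^ (j : ℕ)) v := ⟨_, fun _ => rfl⟩
  have hli : LinearIndependent E vv :=
    hind.linearIndependent _ (fun j => by rw [hvv]; exact hvj j) (fun j => by rw [hvv]; exact hvj0 j)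
  obtain ⟨P₀, hP₀def⟩ : ∃ P₀ : Submodule E M, P₀ = Submodule.span E (Set.range vv) := ⟨_, rfl⟩
  have hP₀dim : finrank E P₀ = q := by
    rw [hP₀def, finrank_span_eq_card hli, Fintype.card_fin]
  have hgen : ∀ j : ℕ, (P ^ j) v ∈ P₀ := by
    intro j
    have h1 : (P ^ j) v = (P ^ (j % q)) v := by
      conv_lhs => rw [← Nat.mod_add_div j q]
      rw [pow_add, pow_mul, hPq, one_pow, mul_one]
    rw [h1, hP₀def]
    apply Submodule.subset_span
    exact ⟨⟨j % q, Nat.mod_lt _ hq.out.pos⟩, hvv _⟩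
  have hP₀τ : ∀ b, ∀ w ∈ P₀, τ b w ∈ P₀ := by
    intro b
    have hle : P₀ ≤ P₀.comap (τ b) := by
      rw [hP₀def]
      apply Submodule.span_le.mpr
      rintro _ ⟨j, rfl⟩
      show τ b (vv j) ∈ Submodule.span E (Set.range vv)
      rw [hvv, chi_apply τ ⊤ _ _ (hvj j) b (Subgroup.mem_top _), ← hP₀def]
      exact P₀.smul_mem _ (hgen j)
    exact fun w hw => hle hw
  have hP₀P : ∀ w ∈ P₀, P w ∈ P₀ := by
    have hle : P₀ ≤ P₀.comap P := by
      rw [hP₀def]
      apply Submodule.span_le.mpr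
      rintro _ ⟨j, rfl⟩
      show P (vv j) ∈ Submodule.span E (Set.range vv)
      rw [hvv, ← Module.End.mul_apply, ← pow_succ', ← hP₀def]
      exact hgen _
    exact fun w hw => hle hw
  -- the norm
  obtain ⟨Nm, hNm⟩ : ∃ Nm : Module.End E M, Nm = ∑ j ∈ Finset.range q, P ^ j := ⟨_, rfl⟩
  have hNmv : ∀ j : ℕ, Nm ((P ^ j) v) = Nm v := by
    intro j
    rw [← Module.End.mul_apply, hNm, norm_mul_pow_eq P q hPq]
  have hNv0 : Nm v ≠ 0 := by
    intro h0
    have h1 : ∑ j : Fin q, (1 : E) • vv j = 0 := by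
      rw [← h0, hNm, LinearMap.sum_apply,
        ← Fin.sum_univ_eq_sum_range (fun j => (P ^ j) v) q]
      refine Finset.sum_congr rfl (fun j _ => ?_)
      rw [one_smul, hvv]
    have h2 := Fintype.linearIndependent_iff.mp hli (fun _ => (1 : E)) h1 ⟨0, hq.out.pos⟩
    exact one_ne_zero h2
  have hNP₀ : P₀.map Nm = Submodule.span E {Nm v} := by
    rw [hP₀def, Submodule.map_span]
    congr 1
    ext x
    constructor
    · rintro ⟨_, ⟨j, rfl⟩, rfl⟩
      rw [hvv, hNmv]; rfl
    · intro hx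
      rw [Set.mem_singleton_iff] at hx
      refine ⟨vv ⟨0, hq.out.pos⟩, ⟨_, rfl⟩, ?_⟩
      rw [hvv, hx]
      show Nm ((P ^ 0) v) = Nm v
      rw [pow_zero]; rfl
  have hNP₀dim : finrank E (P₀.map Nm) = 1 := by
    rw [hNP₀]; exact finrank_span_singleton hNv0
  -- the complement
  obtain ⟨M', hM'τ, hM'P, hcompl⟩ := exists_inv_compl τ P P' hPP' hP'P q hq.out.pos hPq ψU
    hcompat hcE hqE P₀ hP₀τ hP₀P
  have hdim : finrank E P₀ + finrank E M' = finrank E M :=
    Submodule.finrank_add_eq_of_isCompl hcompl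
  have hP'eq : P' = P ^ (q - 1) := inv_eq_pow P P' q hq.out.pos hPP' hPq
  have hM'P' : ∀ w ∈ M', P' w ∈ M' := by
    intro w hw; rw [hP'eq]; exact pow_mem_of_inv P M' hM'P _ w hw
  have hres : finrank E M' = q * finrank E (LinearMap.range
      (∑ j ∈ Finset.range q, (P.restrict hM'P) ^ j)) := by
    refine IH (finrank E M') (by have := hq.out.pos; omega) ↥M' (resRep τ M' hM'τ) (P.restrict hM'P)
      (P'.restrict hM'P') rfl ?_ ?_ ?_ ?_ ?_ ?_ ?_
    · refine LinearMap.ext (fun w => Subtype.ext ?_)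
      show P (P' (w : M)) = (w : M)
      rw [← Module.End.mul_apply, hPP']; rfl
    · refine LinearMap.ext (fun w => Subtype.ext ?_)
      show P' (P (w : M)) = (w : M)
      rw [← Module.End.mul_apply, hP'P]; rfl
    · refine LinearMap.ext (fun w => Subtype.ext ?_)
      rw [restrict_pow_coe, hPq]; rfl
    · intro b
      refine LinearMap.ext (fun w => Subtype.ext ?_)
      show P (τ b (w : M)) = τ (ψU b) (P (w : M))
      have h2 : (P * τ b) (w : M) = (τ (ψU b) * P) (w : M) := by rw [hcompat b]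
      exact h2
    · intro b b'
      refine LinearMap.ext (fun w => Subtype.ext ?_)
      show τ b (τ b' (w : M)) = τ b' (τ b (w : M))
      have h2 : (τ b * τ b') (w : M) = (τ b' * τ b) (w : M) := by rw [hcomm b b']
      exact h2
    · refine LinearMap.ext (fun w => Subtype.ext ?_)
      rw [LinearMap.sum_apply, Submodule.coe_sum, LinearMap.zero_apply, Submodule.coe_zero]
      have h2 : (∑ b, τ b) (w : M) = 0 := by rw [hsum]; rfl
      rw [LinearMap.sum_apply] at h2
      exact h2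
    · intro b
      obtain ⟨c, hc⟩ := hsurj b
      refine ⟨c, ?_⟩
      refine LinearMap.ext (fun w => Subtype.ext ?_)
      show τ b (w : M) = τ (c⁻¹ * ψU c) (w : M)
      rw [hc]
  have hrange : finrank E (LinearMap.range (∑ j ∈ Finset.range q, (P.restrict hM'P) ^ j))
      = finrank E (M'.map Nm) := by
    have h1 : (LinearMap.range (∑ j ∈ Finset.range q, (P.restrict hM'P) ^ j)).map M'.subtype
        = M'.map Nm := by
      ext x
      constructor
      · rintro ⟨_, ⟨w, rfl⟩, rfl⟩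
        refine ⟨w.1, w.2, ?_⟩
        show Nm (w : M) = (((∑ j ∈ Finset.range q, (P.restrict hM'P) ^ j) w : M') : M)
        rw [hNm, LinearMap.sum_apply, LinearMap.sum_apply, Submodule.coe_sum]
        refine Finset.sum_congr rfl (fun j _ => ?_)
        exact (restrict_pow_coe P M' hM'P j w).symm
      · rintro ⟨w, hw, rfl⟩
        refine ⟨(∑ j ∈ Finset.range q, (P.restrict hM'P) ^ j) ⟨w, hw⟩, ⟨_, rfl⟩, ?_⟩
        show (((∑ j ∈ Finset.range q, (P.restrict hM'P) ^ j) ⟨w, hw⟩ : M') : M) = Nm w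
        rw [hNm, LinearMap.sum_apply, LinearMap.sum_apply, Submodule.coe_sum]
        refine Finset.sum_congr rfl (fun j _ => ?_)
        exact restrict_pow_coe P M' hM'P j ⟨w, hw⟩
    rw [← h1, Submodule.finrank_map_subtype_eq]
  -- the range of the norm
  have hNmem : ∀ (Q : Submodule E M), (∀ w ∈ Q, P w ∈ Q) → Q.map Nm ≤ Q := by
    intro Q hQ
    rintro _ ⟨w, hw, rfl⟩
    rw [hNm, LinearMap.sum_apply]
    exact Submodule.sum_mem _ (fun j _ => pow_mem_of_inv P Q hQ j w hw)
  have hrg : LinearMap.range Nm = P₀.map Nm ⊔ M'.map Nm := by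
    rw [LinearMap.range_eq_map, ← hcompl.sup_eq_top, Submodule.map_sup]
  have hinf : P₀.map Nm ⊓ M'.map Nm = ⊥ := by
    rw [eq_bot_iff, ← hcompl.inf_eq_bot]
    exact inf_le_inf (hNmem P₀ hP₀P) (hNmem M' hM'P)
  have hfin := Submodule.finrank_sup_add_finrank_inf_eq (P₀.map Nm) (M'.map Nm)
  rw [hinf, finrank_bot, add_zero, ← hrg, hNP₀dim] at hfin
  rw [← hNm, hfin, ← hrange, mul_add, mul_one, ← hres, ← hdim, hP₀dim]

end Cfsg.Agent.Lib.Helper3.Sh
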