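import Mathlib
import Cfsg.Agent.Lib.Helper3.PqN
import Cfsg.Agent.Lib.Helper3.PqP

/-!
# Frobenius groups of order `pq`, part Q: the parity lemma. An elementary abelian `2`-group with a
non-degenerate alternating form, acted on by a group of odd order through a commutative group
and compatibly by an automorphism of Fermat prime order `q = 2 ^ m + 1` without fixed points on
the image of the acting group, cannot be as small as `(q - 1) ^ 2` times the fixed points of the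
automorphism unless the action is trivial.
-/

set_option autoImplicit false
set_option maxHeartbeats 4000000
set_option maxRecDepth 100000
set_option linter.unusedVariables false
set_option linter.unusedSectionVars false
set_option linter.style.haveILetI false
set_option linter.deprecated false

namespace Cfsg.Agent.Lib.Helper3.Sh

open Module Cfsg.Agent.Lib.Helper3 Cfsg.Agent.Lib.Helper3.HHC1 Cfsg.Agent.Lib.Helper8.FP4
  Cfsg.Agent.Lib.Helper6.Wd

theorem natCard_eq_two_pow {V : Type*} [AddCommGroup V] [Module (ZMod 2) V] [Finite V] :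
    Nat.card V = 2 ^ finrank (ZMod 2) V := by
  classical
  haveI : Fintype V := Fintype.ofFinite V
  rw [Nat.card_eq_fintype_card, Module.card_eq_pow_finrank (K := ZMod 2) (V := V), ZMod.card]

theorem odd_cast_algClosure (n : ℕ) (hn : Odd n) : ((n : ℕ) : AlgebraicClosure (ZMod 2)) = 1 := by
  have h1 : ((n : ℕ) : AlgebraicClosure (ZMod 2))
      = algebraMap (ZMod 2) (AlgebraicClosure (ZMod 2)) (n : ZMod 2) := (map_natCast _ n).symm
  rw [h1, ZMod.natCast_eq_one_iff_odd.mpr hn, map_one]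

/-- The arithmetic of the parity lemma. -/
theorem parity_arith (m c₁ : ℕ) (hm : 1 ≤ m) (h : 2 ^ m * c₁ ≤ 2 * m) : c₁ = 0 ∨ c₁ = 1 := by
  by_contra hcon
  push Not at hcon
  have h2 : 2 ≤ c₁ := by omega
  have h3 : 2 ^ m * 2 ≤ 2 * m := le_trans (Nat.mul_le_mul_left _ h2) h
  have h4 : m < 2 ^ m := Nat.lt_two_pow_self
  omega

/-- The linear form of the parity lemma. -/
theorem parity_linear (q m : ℕ) [hq : Fact q.Prime] (hm : 1 ≤ m) (hqm : q = 2 ^ m + 1)
    {V : Type*} [AddCommGroup V] [Module (ZMod 2) V] [Finite V]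
    {𝒰 : Type*} [Group 𝒰] [Fintype 𝒰] (hodd : Odd (Fintype.card 𝒰))
    (ρ : Representation (ZMod 2) 𝒰 V) (hcomm : ∀ b b', ρ b * ρ b' = ρ b' * ρ b)
    (Ψ Ψ' : Module.End (ZMod 2) V) (hΨΨ' : Ψ * Ψ' = 1) (hΨ'Ψ : Ψ' * Ψ = 1) (hΨq : Ψ ^ q = 1)
    (ψU : MulAut 𝒰) (hψUq : ψU ^ q = 1) (hcs : ∀ b, Ψ * ρ b = ρ (ψU b) * Ψ)
    (hsurj : ∀ b, ∃ c, ρ b = ρ (c⁻¹ * ψU c))
    (B : V → V → ZMod 2) (hBl : ∀ v v' w, B (v + v') w = B v w + B v' w)
    (hBr : ∀ v w w', B v (w + w') = B v w + B v w') (hBalt : ∀ v, B v v = 0)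
    (hBU : ∀ b v w, B (ρ b v) (ρ b w) = B v w) (hBψ : ∀ v w, B (Ψ v) (Ψ w) = B v w)
    (hBnd : ∀ v, (∀ w, B v w = 0) → v = 0)
    (hbound : finrank (ZMod 2) V ≤ 2 * m + finrank (ZMod 2) (LinearMap.ker (Ψ - 1))) :
    ∀ b, ρ b = 1 := by
  classical
  haveI : FiniteDimensional (ZMod 2) V := Module.Finite.of_finite
  have hqodd : Odd q := by
    rw [hqm]
    exact Even.add_one (Nat.even_pow.mpr ⟨even_two, by omega⟩)
  have hcard1 : ((Fintype.card 𝒰 : ℕ) : ZMod 2) = 1 := ZMod.natCast_eq_one_iff_odd.mpr hodd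
  have hq1 : ((q : ℕ) : ZMod 2) = 1 := ZMod.natCast_eq_one_iff_odd.mpr hqodd
  -- the averaging idempotent
  obtain ⟨e, he⟩ : ∃ e : Module.End (ZMod 2) V, e = ∑ b, ρ b := ⟨_, rfl⟩
  have hρe : ∀ b', ρ b' * e = e := by
    intro b'
    rw [he, Finset.mul_sum]
    have h1 : ∀ b ∈ (Finset.univ : Finset 𝒰), ρ b' * ρ b = (fun c => ρ c) (b' * b) := by
      intro b _; show ρ b' * ρ b = ρ (b' * b); rw [map_mul]
    rw [Finset.sum_congr rfl h1]
    exact Equiv.sum_comp (Equiv.mulLeft b') (fun c => ρ c)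
  have heρ : ∀ b', e * ρ b' = e := by
    intro b'
    rw [he, Finset.sum_mul]
    have h1 : ∀ b ∈ (Finset.univ : Finset 𝒰), ρ b * ρ b' = (fun c => ρ c) (b * b') := by
      intro b _; show ρ b * ρ b' = ρ (b * b'); rw [map_mul]
    rw [Finset.sum_congr rfl h1]
    exact Equiv.sum_comp (Equiv.mulRight b') (fun c => ρ c)
  have hee : e * e = e := by
    have h1 : e * e = ∑ b, ρ b * e := by
      nth_rewrite 1 [he]; rw [Finset.sum_mul]
    rw [h1, Finset.sum_congr rfl (fun b _ => hρe b), Finset.sum_const, Finset.card_univ,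
      ← Nat.cast_smul_eq_nsmul (ZMod 2), hcard1, one_smul]
  have hΨe : Ψ * e = e * Ψ := by
    rw [he, Finset.mul_sum, Finset.sum_mul]
    have h1 : ∀ b ∈ (Finset.univ : Finset 𝒰), Ψ * ρ b = (fun c => ρ c * Ψ) (ψU b) := by
      intro b _; exact hcs b
    rw [Finset.sum_congr rfl h1]
    exact Equiv.sum_comp ψU.toEquiv (fun c => ρ c * Ψ)
  have hΨ'eq : Ψ' = Ψ ^ (q - 1) := inv_eq_pow Ψ Ψ' q hq.out.pos hΨΨ' hΨq
  -- the kernel of the idempotent
  obtain ⟨V₁, hV₁⟩ : ∃ V₁ : Submodule (ZMod 2) V, V₁ = LinearMap.ker e := ⟨_, rfl⟩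
  have hV₁mem : ∀ v, v ∈ V₁ ↔ e v = 0 := by
    intro v; rw [hV₁, LinearMap.mem_ker]
  have hV₁ρ : ∀ b, ∀ w ∈ V₁, ρ b w ∈ V₁ := by
    intro b w hw
    rw [hV₁mem] at hw ⊢
    rw [← Module.End.mul_apply, heρ, hw]
  have hV₁Ψ : ∀ w ∈ V₁, Ψ w ∈ V₁ := by
    intro w hw
    rw [hV₁mem] at hw ⊢
    rw [← Module.End.mul_apply, ← hΨe, Module.End.mul_apply, hw, map_zero]
  have hV₁Ψ' : ∀ w ∈ V₁, Ψ' w ∈ V₁ := by
    intro w hw; rw [hΨ'eq]; exact pow_mem_of_inv Ψ V₁ hV₁Ψ _ w hw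
  have hsplit : ∀ v, v - e v ∈ V₁ := by
    intro v
    rw [hV₁mem, map_sub, ← Module.End.mul_apply, hee, sub_self]
  -- the restricted operators
  obtain ⟨ρ₁, hρ₁⟩ : ∃ ρ₁ : Representation (ZMod 2) 𝒰 V₁, ρ₁ = resRep ρ V₁ hV₁ρ := ⟨_, rfl⟩
  obtain ⟨Ψ₁, hΨ₁⟩ : ∃ Ψ₁ : Module.End (ZMod 2) V₁, Ψ₁ = Ψ.restrict hV₁Ψ := ⟨_, rfl⟩
  obtain ⟨Ψ₁', hΨ₁'⟩ : ∃ Ψ₁' : Module.End (ZMod 2) V₁, Ψ₁' = Ψ'.restrict hV₁Ψ' := ⟨_, rfl⟩
  have hρ₁c : ∀ b (w : V₁), ((ρ₁ b w : V₁) : V) = ρ b w := by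
    intro b w; rw [hρ₁]; rfl
  have hΨ₁c : ∀ w : V₁, ((Ψ₁ w : V₁) : V) = Ψ w := by
    intro w; rw [hΨ₁]; rfl
  have hΨ₁'c : ∀ w : V₁, ((Ψ₁' w : V₁) : V) = Ψ' w := by
    intro w; rw [hΨ₁']; rfl
  have h11 : Ψ₁ * Ψ₁' = 1 := by
    refine LinearMap.ext (fun w => Subtype.ext ?_)
    rw [Module.End.mul_apply, hΨ₁c, hΨ₁'c, ← Module.End.mul_apply, hΨΨ']; rfl
  have h12 : Ψ₁' * Ψ₁ = 1 := by
    refine LinearMap.ext (fun w => Subtype.ext ?_)
    rw [Module.End.mul_apply, hΨ₁'c, hΨ₁c, ← Module.End.mul_apply, hΨ'Ψ]; rfl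
  have h13 : Ψ₁ ^ q = 1 := by
    refine LinearMap.ext (fun w => Subtype.ext ?_)
    rw [hΨ₁, restrict_pow_coe, hΨq]; rfl
  have h14 : ∀ b, Ψ₁ * ρ₁ b = ρ₁ (ψU b) * Ψ₁ := by
    intro b
    refine LinearMap.ext (fun w => Subtype.ext ?_)
    rw [Module.End.mul_apply, Module.End.mul_apply, hΨ₁c, hρ₁c, hρ₁c, hΨ₁c]
    have h2 : (Ψ * ρ b) (w : V) = (ρ (ψU b) * Ψ) (w : V) := by rw [hcs b]
    exact h2
  have h15 : ∀ b b', ρ₁ b * ρ₁ b' = ρ₁ b' * ρ₁ b := by
    intro b b'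
    refine LinearMap.ext (fun w => Subtype.ext ?_)
    rw [Module.End.mul_apply, Module.End.mul_apply, hρ₁c, hρ₁c, hρ₁c, hρ₁c]
    have h2 : (ρ b * ρ b') (w : V) = (ρ b' * ρ b) (w : V) := by rw [hcomm b b']
    exact h2
  have h16 : ∑ b, ρ₁ b = 0 := by
    refine LinearMap.ext (fun w => Subtype.ext ?_)
    rw [LinearMap.sum_apply, Submodule.coe_sum, LinearMap.zero_apply, Submodule.coe_zero]
    have h2 : e (w : V) = 0 := (hV₁mem _).mp w.2
    rw [he, LinearMap.sum_apply] at h2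
    rw [← h2]
    exact Finset.sum_congr rfl (fun b _ => hρ₁c b w)
  have h17 : ∀ b, ∃ c, ρ₁ b = ρ₁ (c⁻¹ * ψU c) := by
    intro b
    obtain ⟨c, hc⟩ := hsurj b
    refine ⟨c, ?_⟩
    refine LinearMap.ext (fun w => Subtype.ext ?_)
    rw [hρ₁c, hρ₁c, hc]
  -- base change and freeness
  obtain ⟨c₁, hc₁⟩ : ∃ c₁ : ℕ, c₁ = finrank (ZMod 2) (LinearMap.ker (Ψ₁ - 1)) := ⟨_, rfl⟩
  have hfree : finrank (ZMod 2) V₁ = q * c₁ := by
    obtain ⟨φ, hφ⟩ : ∃ φ : Module.End (ZMod 2) V₁ →+*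
        Module.End (AlgebraicClosure (ZMod 2))
          (Fin (finrank (ZMod 2) V₁) → AlgebraicClosure (ZMod 2)),
        φ = bcEnd (ZMod 2) (AlgebraicClosure (ZMod 2)) V₁ := ⟨_, rfl⟩
    have hcE : ((Fintype.card 𝒰 : ℕ) : AlgebraicClosure (ZMod 2)) ≠ 0 := by
      rw [odd_cast_algClosure _ hodd]; exact one_ne_zero
    have hqE : ((q : ℕ) : AlgebraicClosure (ZMod 2)) ≠ 0 := by
      rw [odd_cast_algClosure _ hqodd]; exact one_ne_zero
    have key := frob_free q hcE hqE ψU hψUq _ _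
      ((φ : Module.End (ZMod 2) V₁ →* _).comp ρ₁) (φ Ψ₁) (φ Ψ₁') rfl
      (by rw [← map_mul, h11, map_one]) (by rw [← map_mul, h12, map_one])
      (by rw [← map_pow, h13, map_one])
      (fun b => by
        show φ Ψ₁ * φ (ρ₁ b) = φ (ρ₁ (ψU b)) * φ Ψ₁
        rw [← map_mul φ, ← map_mul φ, h14])
      (fun b b' => by
        show φ (ρ₁ b) * φ (ρ₁ b') = φ (ρ₁ b') * φ (ρ₁ b)
        rw [← map_mul φ, ← map_mul φ, h15])
      (by
        show ∑ b, φ (ρ₁ b) = 0
        rw [← map_sum, h16, map_zero])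
      (fun b => by
        obtain ⟨c, hc⟩ := h17 b
        exact ⟨c, by show φ (ρ₁ b) = φ (ρ₁ (c⁻¹ * ψU c)); rw [hc]⟩)
    rw [Module.finrank_fin_fun, range_norm_eq_ker (φ Ψ₁) q (by rw [← map_pow, h13, map_one]) hqE]
      at key
    have h2 : φ Ψ₁ - 1 = φ (Ψ₁ - 1) := by rw [map_sub, map_one]
    rw [h2, hφ, finrank_ker_bcEnd, ← hc₁] at key
    exact key
  -- the dimension count
  have hdimV : finrank (ZMod 2) (LinearMap.range e) + finrank (ZMod 2) V₁
      = finrank (ZMod 2) V := by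
    rw [hV₁]; exact LinearMap.finrank_range_add_finrank_ker e
  have hc₁' : finrank (ZMod 2) ↥(V₁ ⊓ LinearMap.ker (Ψ - 1)) = c₁ := by
    have h1 : (LinearMap.ker (Ψ₁ - 1)).map V₁.subtype = V₁ ⊓ LinearMap.ker (Ψ - 1) := by
      ext x
      rw [Submodule.mem_map, Submodule.mem_inf]
      constructor
      · rintro ⟨w, hw, rfl⟩
        refine ⟨w.2, ?_⟩
        rw [LinearMap.mem_ker, LinearMap.sub_apply, Module.End.one_apply, sub_eq_zero] at hw ⊢
        have := congrArg Subtype.val hw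
        rw [hΨ₁c] at this
        exact this
      · rintro ⟨hx1, hx2⟩
        refine ⟨⟨x, hx1⟩, ?_, rfl⟩
        rw [LinearMap.mem_ker, LinearMap.sub_apply, Module.End.one_apply, sub_eq_zero] at hx2 ⊢
        apply Subtype.ext
        rw [hΨ₁c]; exact hx2
    rw [← h1, Submodule.finrank_map_subtype_eq, hc₁]
  have hle : finrank (ZMod 2) (LinearMap.ker (Ψ - 1))
      ≤ finrank (ZMod 2) (LinearMap.range e) + c₁ := by
    have h1 : LinearMap.ker (Ψ - 1) ≤ LinearMap.range e ⊔ (V₁ ⊓ LinearMap.ker (Ψ - 1)) := by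
      intro v hv
      have h2 : v = e v + (v - e v) := by abel
      rw [h2]
      refine Submodule.add_mem _ (Submodule.mem_sup_left ⟨v, rfl⟩)
        (Submodule.mem_sup_right (Submodule.mem_inf.mpr ⟨hsplit v, ?_⟩))
      rw [LinearMap.mem_ker, LinearMap.sub_apply, Module.End.one_apply, sub_eq_zero] at hv ⊢
      rw [map_sub, ← Module.End.mul_apply, hΨe, Module.End.mul_apply, hv]
    calc finrank (ZMod 2) (LinearMap.ker (Ψ - 1))
        ≤ finrank (ZMod 2) ↥(LinearMap.range e ⊔ (V₁ ⊓ LinearMap.ker (Ψ - 1))) :=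
          Submodule.finrank_mono h1
      _ ≤ finrank (ZMod 2) (LinearMap.range e) + finrank (ZMod 2) ↥(V₁ ⊓ LinearMap.ker (Ψ - 1)) :=
          Submodule.finrank_add_le_finrank_add_finrank _ _
      _ = _ := by rw [hc₁']
  have harith : 2 ^ m * c₁ ≤ 2 * m := by
    have h1 : q * c₁ = 2 ^ m * c₁ + c₁ := by rw [hqm]; ring
    omega
  -- the trivial case
  have htriv : finrank (ZMod 2) V₁ = 0 → ∀ b, ρ b = 1 := by
    intro h0 b
    have hbot : V₁ = ⊥ := Submodule.finrank_eq_zero.mp h0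
    ext v
    have h1 := hsplit v
    rw [hbot, Submodule.mem_bot, sub_eq_zero] at h1
    rw [Module.End.one_apply, h1, ← Module.End.mul_apply, hρe]
  rcases parity_arith m c₁ hm harith with h0 | h1
  · apply htriv
    rw [hfree, h0, mul_zero]
  -- the parity argument
  exfalso
  have hcardker : Nat.card (LinearMap.ker (Ψ₁ - 1)) = 2 := by
    rw [natCard_eq_two_pow, ← hc₁, h1, pow_one]
  haveI : Fintype (LinearMap.ker (Ψ₁ - 1)) := Fintype.ofFinite _
  have hcardker' : Fintype.card (LinearMap.ker (Ψ₁ - 1)) = 2 := by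
    rw [← Nat.card_eq_fintype_card]; exact hcardker
  obtain ⟨x₁, hx₁0⟩ : ∃ x₁ : LinearMap.ker (Ψ₁ - 1), x₁ ≠ 0 := by
    have : 1 < Fintype.card (LinearMap.ker (Ψ₁ - 1)) := by rw [hcardker']; norm_num
    exact Fintype.exists_ne_of_one_lt_card this 0
  have hall : ∀ y : LinearMap.ker (Ψ₁ - 1), y = 0 ∨ y = x₁ := by
    intro y
    by_contra hcon
    push Not at hcon
    have h3 : ({0, x₁, y} : Finset (LinearMap.ker (Ψ₁ - 1))).card = 3 := by
      rw [Finset.card_insert_of_notMem, Finset.card_insert_of_notMem, Finset.card_singleton]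
      · rw [Finset.mem_singleton]; exact fun h => hcon.2 h.symm
      · rw [Finset.mem_insert, Finset.mem_singleton]
        rintro (h | h)
        · exact hx₁0 h.symm
        · exact hcon.1 h.symm
    have := Finset.card_le_univ ({0, x₁, y} : Finset (LinearMap.ker (Ψ₁ - 1)))
    rw [h3, hcardker'] at this
    omega
  obtain ⟨x, hx⟩ : ∃ x : V, x = ((x₁ : V₁) : V) := ⟨_, rfl⟩
  have hxV₁ : x ∈ V₁ := by rw [hx]; exact (x₁ : V₁).2
  have hxΨ : Ψ x = x := by
    have h2 := x₁.2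
    rw [LinearMap.mem_ker, LinearMap.sub_apply, Module.End.one_apply, sub_eq_zero] at h2
    have := congrArg Subtype.val h2
    rw [hΨ₁c] at this
    rw [hx]; exact this
  have hx0 : x ≠ 0 := by
    intro h0
    apply hx₁0
    apply Subtype.ext
    apply Subtype.ext
    rw [← hx, h0]; rfl
  have hfixV₁ : ∀ y ∈ V₁, Ψ y = y → y = 0 ∨ y = x := by
    intro y hy hΨy
    have hmem : (⟨y, hy⟩ : V₁) ∈ LinearMap.ker (Ψ₁ - 1) := by
      rw [LinearMap.mem_ker, LinearMap.sub_apply, Module.End.one_apply, sub_eq_zero]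
      apply Subtype.ext
      rw [hΨ₁c]; exact hΨy
    rcases hall ⟨⟨y, hy⟩, hmem⟩ with h | h
    · left
      have := congrArg (fun z : LinearMap.ker (Ψ₁ - 1) => ((z : V₁) : V)) h
      exact this
    · right
      have := congrArg (fun z : LinearMap.ker (Ψ₁ - 1) => ((z : V₁) : V)) h
      rw [hx]; exact this
  -- the form
  have hB0l : ∀ w, B 0 w = 0 := by
    intro w
    have := hBl 0 0 w
    rw [add_zero] at this
    exact left_eq_add.mp this
  have hB0r : ∀ v, B v 0 = 0 := by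
    intro v
    have := hBr v 0 0
    rw [add_zero] at this
    exact left_eq_add.mp this
  have hBsuml : ∀ (s : Finset 𝒰) (f : 𝒰 → V) (w : V),
      B (∑ i ∈ s, f i) w = ∑ i ∈ s, B (f i) w := by
    intro s f w
    induction s using Finset.induction_on with
    | empty => rw [Finset.sum_empty, Finset.sum_empty, hB0l]
    | insert a s ha ih => rw [Finset.sum_insert ha, Finset.sum_insert ha, hBl, ih]
  have hBsumr : ∀ (s : Finset ℕ) (f : ℕ → V) (v : V),
      B v (∑ i ∈ s, f i) = ∑ i ∈ s, B v (f i) := by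
    intro s f v
    induction s using Finset.induction_on with
    | empty => rw [Finset.sum_empty, Finset.sum_empty, hB0r]
    | insert a s ha ih => rw [Finset.sum_insert ha, Finset.sum_insert ha, hBr, ih]
  have hΨpowx : ∀ j : ℕ, (Ψ ^ j) x = x := by
    intro j
    induction j with
    | zero => rfl
    | succ j ih => rw [pow_succ, Module.End.mul_apply, hxΨ, ih]
  have hBψpow : ∀ (j : ℕ) (v w : V), B ((Ψ ^ j) v) ((Ψ ^ j) w) = B v w := by
    intro j
    induction j with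
    | zero => intro v w; rfl
    | succ j ih =>
      intro v w
      rw [pow_succ', Module.End.mul_apply, Module.End.mul_apply, hBψ, ih]
  have hperp1 : ∀ w, B x (e w) = 0 := by
    intro w
    have h2 : ∀ b, B (ρ b x) (e w) = B x (e w) := by
      intro b
      have h3 := hBU b x (e w)
      rw [← Module.End.mul_apply (ρ b) e, hρe] at h3
      exact h3
    have h3 : B (e x) (e w) = B x (e w) := by
      have h4 : e x = ∑ b, ρ b x := by rw [he, LinearMap.sum_apply]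
      rw [h4, hBsuml, Finset.sum_congr rfl (fun b _ => h2 b),
        Finset.sum_const, Finset.card_univ, ← Nat.cast_smul_eq_nsmul (ZMod 2), hcard1, one_smul]
    rw [← h3, (hV₁mem x).mp hxV₁, hB0l]
  have hperp2 : ∀ w ∈ V₁, B x w = 0 := by
    intro w hw
    have hy : ∑ j ∈ Finset.range q, (Ψ ^ j) w ∈ V₁ :=
      Submodule.sum_mem _ (fun j _ => pow_mem_of_inv Ψ V₁ hV₁Ψ j w hw)
    have hΨy : Ψ (∑ j ∈ Finset.range q, (Ψ ^ j) w) = ∑ j ∈ Finset.range q, (Ψ ^ j) w := by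
      have h2 : Ψ * (∑ j ∈ Finset.range q, Ψ ^ j) = ∑ j ∈ Finset.range q, Ψ ^ j := by
        have h3 : Ψ * (∑ j ∈ Finset.range q, Ψ ^ j) = (∑ j ∈ Finset.range q, Ψ ^ j) * Ψ := by
          rw [Finset.mul_sum, Finset.sum_mul]
          refine Finset.sum_congr rfl (fun j _ => ?_)
          rw [← pow_succ, ← pow_succ']
        rw [h3, mul_norm_eq Ψ q hΨq]
      have h4 : (Ψ * (∑ j ∈ Finset.range q, Ψ ^ j)) w = (∑ j ∈ Finset.range q, Ψ ^ j) w := by
        rw [h2]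
      rw [Module.End.mul_apply, LinearMap.sum_apply] at h4
      exact h4
    have h5 : B x (∑ j ∈ Finset.range q, (Ψ ^ j) w) = B x w := by
      rw [hBsumr]
      have h6 : ∀ j ∈ Finset.range q, B x ((Ψ ^ j) w) = B x w := by
        intro j _
        have := hBψpow j x w
        rw [hΨpowx] at this
        exact this
      rw [Finset.sum_congr rfl h6, Finset.sum_const, Finset.card_range,
        ← Nat.cast_smul_eq_nsmul (ZMod 2), hq1, one_smul]
    rcases hfixV₁ _ hy hΨy with h | h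
    · rw [← h5, h, hB0r]
    · rw [← h5, h, hBalt]
  apply hx0
  apply hBnd
  intro w
  have h2 : w = e w + (w - e w) := by abel
  rw [h2, hBr, hperp1, hperp2 _ (hsplit w), add_zero]

end Cfsg.Agent.Lib.Helper3.Sh
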