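import Mathlib
import Cfsg.Agent.Lib.Helper3.PqQ

/-!
# Frobenius groups of order `pq`, part R: the parity lemma for group actions.
-/

set_option autoImplicit false
set_option maxHeartbeats 4000000
set_option maxRecDepth 100000
set_option linter.unusedVariables false
set_option linter.unusedSectionVars false
set_option linter.style.haveILetI false
set_option linter.deprecated false

namespace Cfsg.Agent.Lib.Helper3.Sh

open Module Cfsg.Agent.Lib.Helper3 Cfsg.Agent.Lib.Helper3.HHC1 Cfsg.Agent.Lib.Helper8.FP4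
  Cfsg.Agent.Lib.Helper6.Wd

theorem fermat_parity (q m : ℕ) [hq : Fact q.Prime] (hm : 1 ≤ m) (hqm : q = 2 ^ m + 1)
    {S : Type*} [CommGroup S] [Finite S] (hexp : ∀ s : S, s ^ 2 = 1)
    {𝒰 : Type*} [Group 𝒰] [Finite 𝒰] (hodd : Odd (Nat.card 𝒰))
    (act : 𝒰 →* MulAut S) (hcomm : ∀ b b', act b * act b' = act b' * act b)
    (ψS : MulAut S) (hψSq : ψS ^ q = 1) (ψU : MulAut 𝒰) (hψUq : ψU ^ q = 1)
    (hcs : ∀ b s, ψS (act b s) = act (ψU b) (ψS s))
    (hsurj : ∀ b, ∃ c, act b = act (c⁻¹ * ψU c))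
    (β : S → S → ZMod 2) (hβl : ∀ s s' r, β (s * s') r = β s r + β s' r)
    (hβr : ∀ s r r', β s (r * r') = β s r + β s r') (hβalt : ∀ s, β s s = 0)
    (hβU : ∀ b s r, β (act b s) (act b r) = β s r) (hβψ : ∀ s r, β (ψS s) (ψS r) = β s r)
    (hβnd : ∀ s, (∀ r, β s r = 0) → s = 1)
    (hbound : Nat.card S ≤ (q - 1) ^ 2 * Nat.card {s : S // ψS s = s}) :
    ∀ b, act b = 1 := by
  classical
  haveI : Fintype 𝒰 := Fintype.ofFinite 𝒰
  have instMod : Module (ZMod 2) (Additive S) := AddCommGroup.zmodModule (n := 2) (by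
    intro x
    obtain ⟨a, rfl⟩ := Additive.ofMul.surjective x
    rw [← ofMul_pow, hexp a, ofMul_one])
  haveI : Finite (Additive S) := inferInstanceAs (Finite S)
  haveI : FiniteDimensional (ZMod 2) (Additive S) := Module.Finite.of_finite
  obtain ⟨lin, hlin⟩ : ∃ lin : (S →* S) → Module.End (ZMod 2) (Additive S),
      ∀ φ a, lin φ (Additive.ofMul a) = Additive.ofMul (φ a) :=
    ⟨fun φ => (MonoidHom.toAdditive φ).toZModLinearMap 2, fun φ a => rfl⟩
  have hext : ∀ X Y : Module.End (ZMod 2) (Additive S),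
      (∀ a : S, X (Additive.ofMul a) = Y (Additive.ofMul a)) → X = Y := by
    intro X Y h
    refine LinearMap.ext (fun x => ?_)
    obtain ⟨a, rfl⟩ := Additive.ofMul.surjective x
    exact h a
  obtain ⟨ρ, hρa⟩ : ∃ ρ : Representation (ZMod 2) 𝒰 (Additive S),
      ∀ h a, ρ h (Additive.ofMul a) = Additive.ofMul (act h a) := by
    refine ⟨{ toFun := fun h => lin (act h).toMonoidHom
              map_one' := ?_
              map_mul' := ?_ }, fun h a => hlin _ a⟩
    · apply hext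
      intro a
      rw [hlin, map_one]
      rfl
    · intro g h
      apply hext
      intro a
      rw [hlin, Module.End.mul_apply, hlin, hlin, map_mul]
      rfl
  obtain ⟨Ψ, hΨ⟩ : ∃ Ψ : Module.End (ZMod 2) (Additive S),
      ∀ a, Ψ (Additive.ofMul a) = Additive.ofMul (ψS a) :=
    ⟨lin ψS.toMonoidHom, fun a => hlin _ a⟩
  obtain ⟨Ψ', hΨ'⟩ : ∃ Ψ' : Module.End (ZMod 2) (Additive S),
      ∀ a, Ψ' (Additive.ofMul a) = Additive.ofMul (ψS⁻¹ a) :=
    ⟨lin (ψS⁻¹).toMonoidHom, fun a => hlin _ a⟩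
  have hΨΨ' : Ψ * Ψ' = 1 := by
    apply hext; intro a
    rw [Module.End.mul_apply, hΨ', hΨ, MulAut.apply_inv_self]; rfl
  have hΨ'Ψ : Ψ' * Ψ = 1 := by
    apply hext; intro a
    rw [Module.End.mul_apply, hΨ, hΨ', MulAut.inv_apply_self]; rfl
  have hΨpow : ∀ (k : ℕ) (a : S), (Ψ ^ k) (Additive.ofMul a) = Additive.ofMul ((ψS ^ k) a) := by
    intro k
    induction k with
    | zero => intro a; rfl
    | succ k ih =>
      intro a
      rw [pow_succ', Module.End.mul_apply, ih, hΨ, pow_succ', MulAut.mul_apply]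
  have hΨq : Ψ ^ q = 1 := by
    apply hext; intro a
    rw [hΨpow, hψSq]; rfl
  have hcΨ : ∀ g, Ψ * ρ g = ρ (ψU g) * Ψ := by
    intro g
    apply hext; intro a
    rw [Module.End.mul_apply, Module.End.mul_apply, hρa, hΨ, hΨ, hρa, hcs]
  have hρcomm : ∀ b b', ρ b * ρ b' = ρ b' * ρ b := by
    intro b b'
    apply hext; intro a
    rw [Module.End.mul_apply, Module.End.mul_apply, hρa, hρa, hρa, hρa,
      ← MulAut.mul_apply, hcomm b b', MulAut.mul_apply]
  have hρsurj : ∀ b, ∃ c, ρ b = ρ (c⁻¹ * ψU c) := by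
    intro b
    obtain ⟨c, hc⟩ := hsurj b
    refine ⟨c, ?_⟩
    apply hext; intro a
    rw [hρa, hρa, hc]
  -- the form
  obtain ⟨B, hB⟩ : ∃ B : Additive S → Additive S → ZMod 2,
      ∀ a a' : S, B (Additive.ofMul a) (Additive.ofMul a') = β a a' :=
    ⟨fun v w => β (Additive.toMul v) (Additive.toMul w), fun a a' => rfl⟩
  have hsur := Additive.ofMul.surjective (α := S)
  have hBl : ∀ v v' w, B (v + v') w = B v w + B v' w := by
    intro v v' w
    obtain ⟨a, rfl⟩ := hsur v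
    obtain ⟨a', rfl⟩ := hsur v'
    obtain ⟨c, rfl⟩ := hsur w
    rw [← ofMul_mul, hB, hB, hB, hβl]
  have hBr : ∀ v w w', B v (w + w') = B v w + B v w' := by
    intro v w w'
    obtain ⟨a, rfl⟩ := hsur v
    obtain ⟨c, rfl⟩ := hsur w
    obtain ⟨c', rfl⟩ := hsur w'
    rw [← ofMul_mul, hB, hB, hB, hβr]
  have hBalt : ∀ v, B v v = 0 := by
    intro v
    obtain ⟨a, rfl⟩ := hsur v
    rw [hB, hβalt]
  have hBU : ∀ b v w, B (ρ b v) (ρ b w) = B v w := by
    intro b v w
    obtain ⟨a, rfl⟩ := hsur v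
    obtain ⟨c, rfl⟩ := hsur w
    rw [hρa, hρa, hB, hB, hβU]
  have hBψ : ∀ v w, B (Ψ v) (Ψ w) = B v w := by
    intro v w
    obtain ⟨a, rfl⟩ := hsur v
    obtain ⟨c, rfl⟩ := hsur w
    rw [hΨ, hΨ, hB, hB, hβψ]
  have hBnd : ∀ v, (∀ w, B v w = 0) → v = 0 := by
    intro v hv
    obtain ⟨a, rfl⟩ := hsur v
    have : a = 1 := hβnd a (fun r => by rw [← hB]; exact hv _)
    rw [this]; rfl
  -- the bound
  have hcardV : Nat.card S = 2 ^ finrank (ZMod 2) (Additive S) := by
    rw [← natCard_eq_two_pow]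
    exact Nat.card_congr Additive.ofMul
  have hcardF : Nat.card {s : S // ψS s = s}
      = 2 ^ finrank (ZMod 2) (LinearMap.ker (Ψ - 1)) := by
    rw [← natCard_eq_two_pow]
    refine Nat.card_congr
      { toFun := fun s => ⟨Additive.ofMul s.1, ?_⟩
        invFun := fun v => ⟨Additive.toMul v.1, ?_⟩
        left_inv := fun s => rfl
        right_inv := fun v => rfl }
    · rw [LinearMap.mem_ker, LinearMap.sub_apply, Module.End.one_apply, sub_eq_zero, hΨ, s.2]
    · have h2 := v.2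
      rw [LinearMap.mem_ker, LinearMap.sub_apply, Module.End.one_apply, sub_eq_zero] at h2
      obtain ⟨a, ha⟩ := hsur v.1
      rw [← ha] at h2 ⊢
      rw [hΨ] at h2
      exact Additive.ofMul.injective h2
  have hbound' : finrank (ZMod 2) (Additive S)
      ≤ 2 * m + finrank (ZMod 2) (LinearMap.ker (Ψ - 1)) := by
    rw [hcardV, hcardF, hqm, Nat.add_sub_cancel, ← pow_mul, ← pow_add, mul_comm m 2] at hbound
    exact (Nat.pow_le_pow_iff_right (by norm_num : 1 < 2)).mp hbound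
  have hodd' : Odd (Fintype.card 𝒰) := by
    rw [← Nat.card_eq_fintype_card]; exact hodd
  have key := parity_linear q m hm hqm hodd' ρ hρcomm Ψ Ψ' hΨΨ' hΨ'Ψ hΨq ψU hψUq hcΨ hρsurj B
    hBl hBr hBalt hBU hBψ hBnd hbound'
  intro b
  ext a
  have h1 := congrArg (fun X : Module.End (ZMod 2) (Additive S) => X (Additive.ofMul a)) (key b)
  simp only [hρa] at h1
  exact Additive.ofMul.injective h1

end Cfsg.Agent.Lib.Helper3.Sh
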