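import Mathlib
import Cfsg.Agent.Lib.Helper3.PqL
import Cfsg.Agent.Lib.Helper3.GrQ

/-!
# Frobenius groups of order `pq`, part S: the structure of the groups in the exceptional
configuration.
-/

set_option autoImplicit false
set_option maxHeartbeats 4000000
set_option maxRecDepth 100000
set_option linter.unusedVariables false
set_option linter.unusedSectionVars false
set_option linter.style.haveILetI false
set_option linter.deprecated false

namespace Cfsg.Agent.Lib.Helper3.Sh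

open Module Cfsg.Agent.Lib.Helper3 Cfsg.Agent.Lib.Helper3.HHC1 Cfsg.Agent.Lib.Helper8.FP4
  Cfsg.Agent.Lib.Helper6.Wd

universe uu vv ww

/-- A `p`-group all of whose proper characteristic subgroups are central has class at most two
and central quotient of exponent `p`. -/
theorem T_struct_of_hsub (s₁ : ℕ) [h₁ : Fact s₁.Prime] {T : Type*} [Group T] [Finite T]
    (hT : IsPGroup s₁ T)
    (hsub : ∀ P' : Subgroup T, (∀ α : MulAut T, ∀ p ∈ P', α p ∈ P') → P' ≠ ⊤ →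
      P' ≤ Subgroup.center T)
    (hnab : Subgroup.center T ≠ ⊤) :
    (∀ a b : T, a * b * a⁻¹ * b⁻¹ ∈ Subgroup.center T) ∧
      (∀ ω : T ⧸ Subgroup.center T, ω ^ s₁ = 1) := by
  classical
  haveI : Nontrivial T := by
    by_contra hnon
    rw [not_nontrivial_iff_subsingleton] at hnon
    apply hnab
    rw [eq_top_iff]
    intro t _
    rw [Subsingleton.elim t 1]
    exact Subgroup.one_mem _
  haveI : Group.IsNilpotent T := hT.isNilpotent
  have hcomm_ne : commutator T ≠ ⊤ := (IsSolvable.commutator_lt_top_of_nontrivial T).ne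
  have hcl2 : ∀ a b : T, a * b * a⁻¹ * b⁻¹ ∈ Subgroup.center T := by
    intro a b
    apply hsub (commutator T) (fun α p hp => inv_of_char (commutator T) α p hp) hcomm_ne
    rw [commutator_def]
    have := Subgroup.commutator_mem_commutator (Subgroup.mem_top a) (Subgroup.mem_top b)
    rwa [commutatorElement_def] at this
  refine ⟨hcl2, ?_⟩
  have hcommΩ : ∀ x y : T ⧸ Subgroup.center T, x * y = y * x := by
    intro x y
    refine QuotientGroup.induction_on x (fun a => ?_)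
    refine QuotientGroup.induction_on y (fun b => ?_)
    have h1 : a * b = (a * b * a⁻¹ * b⁻¹) * (b * a) := by group
    rw [← QuotientGroup.mk_mul, ← QuotientGroup.mk_mul, h1, QuotientGroup.mk_mul,
      (QuotientGroup.eq_one_iff _).mpr (hcl2 a b), one_mul]
  obtain ⟨Ωs, hΩs⟩ : ∃ Ωs : Subgroup (T ⧸ Subgroup.center T), ∀ ω, ω ∈ Ωs ↔ ω ^ s₁ = 1 :=
    ⟨{ carrier := {ω | ω ^ s₁ = 1}
       one_mem' := one_pow _
       mul_mem' := by
         intro a b ha hb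
         show (a * b) ^ s₁ = 1
         rw [(show Commute a b from hcommΩ a b).mul_pow, show a ^ s₁ = 1 from ha,
           show b ^ s₁ = 1 from hb, one_mul]
       inv_mem' := by
         intro a ha
         show a⁻¹ ^ s₁ = 1
         rw [inv_pow, show a ^ s₁ = 1 from ha, inv_one] }, fun ω => Iff.rfl⟩
  obtain ⟨P₂, hP₂def⟩ : ∃ P₂ : Subgroup T,
      P₂ = Ωs.comap (QuotientGroup.mk' (Subgroup.center T)) := ⟨_, rfl⟩
  have hP₂mem : ∀ t : T, t ∈ P₂ ↔ t ^ s₁ ∈ Subgroup.center T := by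
    intro t
    rw [hP₂def, Subgroup.mem_comap, hΩs]
    show (t : T ⧸ Subgroup.center T) ^ s₁ = 1 ↔ _
    rw [← QuotientGroup.mk_pow, QuotientGroup.eq_one_iff]
  have hP₂char : ∀ α : MulAut T, ∀ p ∈ P₂, α p ∈ P₂ := by
    intro α p hp
    rw [hP₂mem] at hp ⊢
    rw [← map_pow]
    exact center_aut_mem α _ hp
  have hP₂top : P₂ = ⊤ := by
    by_contra hne
    have hle := hsub P₂ hP₂char hne
    obtain ⟨t, ht⟩ : ∃ t : T, t ∉ Subgroup.center T := by
      by_contra hall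
      push Not at hall
      apply hnab
      rw [eq_top_iff]
      intro t _
      exact hall t
    have hex : ∃ k : ℕ, t ^ (s₁ ^ k) ∈ Subgroup.center T := by
      obtain ⟨a, ha⟩ := hT t
      exact ⟨a, by rw [ha]; exact Subgroup.one_mem _⟩
    have hk0 : Nat.find hex ≠ 0 := by
      intro h0
      have := Nat.find_spec hex
      rw [h0, pow_zero, pow_one] at this
      exact ht this
    obtain ⟨k', hk'⟩ : ∃ k', Nat.find hex = k' + 1 := ⟨Nat.find hex - 1, by omega⟩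
    have h1 : t ^ (s₁ ^ k') ∉ Subgroup.center T := Nat.find_min hex (by omega)
    have h2 : t ^ (s₁ ^ k') ∈ P₂ := by
      rw [hP₂mem, ← pow_mul, ← pow_succ, ← hk']
      exact Nat.find_spec hex
    exact h1 (hle h2)
  intro ω
  refine QuotientGroup.induction_on ω (fun t => ?_)
  have ht : t ∈ P₂ := by rw [hP₂top]; trivial
  rw [hP₂mem] at ht
  rw [← QuotientGroup.mk_pow]
  exact (QuotientGroup.eq_one_iff _).mpr ht

variable {p q k t u : ℕ} {K : Type ww} [Field K] {L : Type uu} [Group L] [Finite L] {W : Type vv}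
  [AddCommGroup W] [Module K W] {ρ : Representation K L W} {X X' Y Y' : Module.End K W}
  {φ ψ : MulAut L} {T U : Subgroup L}

theorem char_map_inv' (U : Subgroup L) (P' : Subgroup U)
    (hchar : ∀ α : MulAut U, ∀ p ∈ P', α p ∈ P') (φ : MulAut L) (hφU : Inv φ U) :
    Inv φ (P'.map U.subtype) := by
  rintro _ ⟨p, hp, rfl⟩
  exact ⟨restrictAut φ U hφU p, hchar _ p hp, restrictAut_apply_coe φ U hφU p⟩

theorem char_map_ne' (U : Subgroup L) (P' : Subgroup U) (hne : P' ≠ ⊤) :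
    P'.map U.subtype ≠ U := by
  intro h
  apply hne
  rw [eq_top_iff]
  intro t _
  have : (t : L) ∈ P'.map U.subtype := by rw [h]; exact t.2
  obtain ⟨p, hp, hpt⟩ := this
  have : p = t := Subtype.ext hpt
  rwa [← this]

/-- The structure of the groups in a minimal configuration with `T` not abelian. -/
theorem mec_group [ht : Fact t.Prime] [hu : Fact u.Prime] (htu : t ≠ u)
    (H : PQCfg p q k t u ρ X X' Y Y' φ ψ T U)
    (r4a : ∀ P : Subgroup L, P ≤ T → P.Normal → Inv φ P → Inv ψ P → P ≠ T →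
      ∀ x ∈ P, ∀ b ∈ U, x * b = b * x)
    (r4b : ∀ U₁ : Subgroup L, U₁ ≤ U → Inv φ U₁ → Inv ψ U₁ → U₁ ≠ U →
      ∀ b ∈ U₁, ∀ a ∈ T, a * b = b * a)
    (hne : ∃ a₀ ∈ T, ∃ b₀ ∈ U, a₀ * b₀ ≠ b₀ * a₀)
    (hnab : Subgroup.center ↥T ≠ ⊤) :
    (∀ M : Subgroup L, M.Normal → (∀ a ∈ T, ∀ b ∈ U, a * b * a⁻¹ * b⁻¹ ∈ M) → T ≤ M) ∧
    (∀ z : ↥T, z ∈ Subgroup.center ↥T → ∀ b ∈ U, (z : L) * b = b * z) ∧
    (∀ x y : ↥T, x * y * x⁻¹ * y⁻¹ ∈ Subgroup.center ↥T) ∧
    (∀ ω : ↥T ⧸ Subgroup.center ↥T, ω ^ t = 1) ∧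
    (∀ b ∈ U, ∀ b' ∈ U, ∀ a ∈ T,
      (b * b' * b⁻¹ * b'⁻¹) * a = a * (b * b' * b⁻¹ * b'⁻¹)) := by
  classical
  haveI := H.hTn
  obtain ⟨a₀, ha₀, b₀, hb₀, hne₀⟩ := hne
  -- `T` is generated by the commutators
  have part1 : ∀ M : Subgroup L, M.Normal →
      (∀ a ∈ T, ∀ b ∈ U, a * b * a⁻¹ * b⁻¹ ∈ M) → T ≤ M := by
    intro M hMn hM
    obtain ⟨S₀, hS₀⟩ : ∃ S₀ : Set L, ∀ c, c ∈ S₀ ↔ ∃ a b, a ∈ T ∧ b ∈ U ∧ c = a * b * a⁻¹ * b⁻¹ :=
      ⟨{c | ∃ a b, a ∈ T ∧ b ∈ U ∧ c = a * b * a⁻¹ * b⁻¹}, fun c => Iff.rfl⟩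
    have hS₀T : S₀ ⊆ T := by
      intro c hc
      obtain ⟨a, b, ha, hb, rfl⟩ := (hS₀ c).mp hc
      have : a * b * a⁻¹ * b⁻¹ = a * (b * a⁻¹ * b⁻¹) := by group
      rw [this]
      exact T.mul_mem ha (H.hTn.conj_mem _ (T.inv_mem ha) b)
    have hS₀a : ∀ σ : MulAut L, Inv σ T → Inv σ U → ∀ c ∈ S₀, σ c ∈ S₀ := by
      intro σ hσT hσU c hc
      obtain ⟨a, b, ha, hb, rfl⟩ := (hS₀ c).mp hc
      rw [hS₀]
      exact ⟨σ a, σ b, hσT a ha, hσU b hb, by rw [map_mul, map_mul, map_mul, map_inv, map_inv]⟩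
    have hN₀T : Subgroup.normalClosure S₀ ≤ T := Subgroup.normalClosure_le_normal hS₀T
    have hN₀eq : Subgroup.normalClosure S₀ = T := by
      by_contra hneq
      have h1 := r4a (Subgroup.normalClosure S₀) hN₀T Subgroup.normalClosure_normal
        (inv_normalClosure φ S₀ (hS₀a φ H.hφT H.hφU))
        (inv_normalClosure ψ S₀ (hS₀a ψ H.hψT H.hψU)) hneq
      apply hne₀
      have hcmem : b₀ * a₀ * b₀⁻¹ * a₀⁻¹ ∈ Subgroup.normalClosure S₀ := by
        have h2 : a₀ * b₀ * a₀⁻¹ * b₀⁻¹ ∈ Subgroup.normalClosure S₀ :=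
          Subgroup.subset_normalClosure ((hS₀ _).mpr ⟨a₀, b₀, ha₀, hb₀, rfl⟩)
        have h3 : b₀ * a₀ * b₀⁻¹ * a₀⁻¹ = (a₀ * b₀ * a₀⁻¹ * b₀⁻¹)⁻¹ := by group
        rw [h3]
        exact Subgroup.inv_mem _ h2
      obtain ⟨a, ha⟩ := pow_of_pgroup T H.hT _ (hN₀T hcmem)
      obtain ⟨b, hb⟩ := pow_of_pgroup U H.hU b₀ hb₀
      have hconj : b₀ * a₀ * b₀⁻¹ = (b₀ * a₀ * b₀⁻¹ * a₀⁻¹) * a₀ := by group
      have hcomm : b₀ * (b₀ * a₀ * b₀⁻¹ * a₀⁻¹) = (b₀ * a₀ * b₀⁻¹ * a₀⁻¹) * b₀ :=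
        (h1 _ hcmem b₀ hb₀).symm
      have hc1 := eq_one_of_coprime_conj t u htu b₀ a₀ _ a b ha hb hconj hcomm
      calc a₀ * b₀ = (b₀ * a₀ * b₀⁻¹ * a₀⁻¹)⁻¹ * (b₀ * a₀) := by group
        _ = b₀ * a₀ := by rw [hc1, inv_one, one_mul]
    rw [← hN₀eq]
    haveI := hMn
    apply Subgroup.normalClosure_le_normal
    intro c hc
    obtain ⟨a, b, ha, hb, rfl⟩ := (hS₀ c).mp hc
    exact hM a ha b hb
  have hnontrivU : Nontrivial ↥U := by
    refine ⟨⟨⟨b₀, hb₀⟩, 1, ?_⟩⟩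
    intro h
    apply hne₀
    have : b₀ = 1 := congrArg Subtype.val h
    rw [this, mul_one, one_mul]
  -- characteristic subgroups
  have hcharU : ∀ P' : Subgroup ↥T, (∀ α : MulAut ↥T, ∀ p ∈ P', α p ∈ P') → P' ≠ ⊤ →
      ∀ x ∈ P'.map T.subtype, ∀ b ∈ U, x * b = b * x := by
    intro P' hchar hneP
    exact r4a (P'.map T.subtype) (Subgroup.map_subtype_le P') (char_map_normal T P' hchar)
      (char_map_inv T P' hchar φ H.hφT) (char_map_inv T P' hchar ψ H.hψT) (char_map_ne T P' hneP)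
  have hsub : ∀ P' : Subgroup ↥T, (∀ α : MulAut ↥T, ∀ p ∈ P', α p ∈ P') → P' ≠ ⊤ →
      P' ≤ Subgroup.center ↥T := by
    intro P' hchar hneP
    have hU := hcharU P' hchar hneP
    haveI hPn : (P'.map T.subtype).Normal := char_map_normal T P' hchar
    obtain ⟨C, hCn, hC⟩ := exists_centralizer_normal (P'.map T.subtype)
    have hTC : T ≤ C := by
      apply part1 C hCn
      intro a ha b hb
      rw [hC]
      intro y hy
      have h1 : b⁻¹ * y * b = y := by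
        rw [mul_assoc, hU y hy b hb, inv_mul_cancel_left]
      have hy' : a⁻¹ * y * a ∈ P'.map T.subtype := by
        have := hPn.conj_mem y hy a⁻¹
        rwa [inv_inv] at this
      have h2 : b * (a⁻¹ * y * a) * b⁻¹ = a⁻¹ * y * a := by
        rw [← hU _ hy' b hb, mul_inv_cancel_right]
      have h3 : (a * b * a⁻¹ * b⁻¹) * y * (a * b * a⁻¹ * b⁻¹)⁻¹ = y := by
        calc (a * b * a⁻¹ * b⁻¹) * y * (a * b * a⁻¹ * b⁻¹)⁻¹
            = a * (b * (a⁻¹ * (b⁻¹ * y * b) * a) * b⁻¹) * a⁻¹ := by group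
          _ = a * (b * (a⁻¹ * y * a) * b⁻¹) * a⁻¹ := by rw [h1]
          _ = a * (a⁻¹ * y * a) * a⁻¹ := by rw [h2]
          _ = y := by group
      calc (a * b * a⁻¹ * b⁻¹) * y
          = ((a * b * a⁻¹ * b⁻¹) * y * (a * b * a⁻¹ * b⁻¹)⁻¹) * (a * b * a⁻¹ * b⁻¹) := by group
        _ = y * (a * b * a⁻¹ * b⁻¹) := by rw [h3]
    intro p hp
    rw [Subgroup.mem_center_iff]
    intro g
    apply Subtype.ext
    have := (hC (g : L)).mp (hTC g.2) (p : L) ⟨p, hp, rfl⟩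
    exact this
  obtain ⟨hcl2, hexp⟩ := T_struct_of_hsub t H.hT hsub hnab
  refine ⟨part1, ?_, hcl2, hexp, ?_⟩
  · intro z hz b hb
    exact hcharU (Subgroup.center ↥T) (fun α p hp => center_aut_mem α p hp) hnab (z : L)
      ⟨z, hz, rfl⟩ b hb
  · haveI : Group.IsNilpotent ↥U := H.hU.isNilpotent
    have hcomm_ne : commutator ↥U ≠ ⊤ := (IsSolvable.commutator_lt_top_of_nontrivial ↥U).ne
    have hchar : ∀ α : MulAut ↥U, ∀ p ∈ commutator ↥U, α p ∈ commutator ↥U :=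
      fun α p hp => inv_of_char (commutator ↥U) α p hp
    have h1 := r4b ((commutator ↥U).map U.subtype) (Subgroup.map_subtype_le _)
      (char_map_inv' U _ hchar φ H.hφU) (char_map_inv' U _ hchar ψ H.hψU)
      (char_map_ne' U _ hcomm_ne)
    intro b hb b' hb' a ha
    have hmem : b * b' * b⁻¹ * b'⁻¹ ∈ (commutator ↥U).map U.subtype := by
      refine ⟨⟨b, hb⟩ * ⟨b', hb'⟩ * (⟨b, hb⟩ : ↥U)⁻¹ * (⟨b', hb'⟩ : ↥U)⁻¹, ?_, rfl⟩
      rw [commutator_def]
      have := Subgroup.commutator_mem_commutator (Subgroup.mem_top (⟨b, hb⟩ : ↥U))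
        (Subgroup.mem_top (⟨b', hb'⟩ : ↥U))
      rwa [commutatorElement_def] at this
    exact (h1 _ hmem a ha).symm

end Cfsg.Agent.Lib.Helper3.Sh
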