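import Mathlib
import Cfsg.Agent.Lib.Helper3.PqK
import Cfsg.Agent.Lib.Helper3.GrH
import Cfsg.Agent.Lib.Helper3.GrI

/-!
# Frobenius groups of order `pq`, part T: the bound for the central quotient in the exceptional
configuration.
-/

set_option autoImplicit false
set_option maxHeartbeats 4000000
set_option maxRecDepth 100000
set_option linter.unusedVariables false
set_option linter.unusedSectionVars false
set_option linter.style.haveILetI false
set_option linter.deprecated false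

namespace Cfsg.Agent.Lib.Helper3.Sh

open Module Cfsg.Agent.Lib.Helper3 Cfsg.Agent.Lib.Helper3.HHC1 Cfsg.Agent.Lib.Helper8.FP4
  Cfsg.Agent.Lib.Helper6.Wd

universe uu vv ww

theorem comm_elt_eq_one_iff {G : Type*} [Group G] (a b : G) :
    a * b * a⁻¹ * b⁻¹ = 1 ↔ b * a = a * b := by
  constructor
  · intro h
    calc b * a = (a * b * a⁻¹ * b⁻¹)⁻¹ * (a * b) := by group
      _ = a * b := by rw [h, inv_one, one_mul]
  · intro h
    calc a * b * a⁻¹ * b⁻¹ = (a * b) * (b * a)⁻¹ := by group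
      _ = 1 := by rw [h, mul_inv_cancel]

/-- Transfer of cardinalities along a surjective homomorphism with given kernel. -/
theorem quot_transfer {G : Type*} [Group G] [Finite G] (R₀ : Subgroup G) [R₀.Normal]
    {S' : Type*} [Group S'] (f : G →* S') (hf : Function.Surjective f)
    (hker : ∀ x, f x = 1 ↔ x ∈ R₀) (α : MulAut G) (hα : Inv α R₀) (π : S' → S')
    (hπ : ∀ x, π (f x) = f (α x)) :
    Nat.card (G ⧸ R₀) = Nat.card S' ∧
    Nat.card {s : G ⧸ R₀ // quotAut α R₀ hα s = s} = Nat.card {s' : S' // π s' = s'} := by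
  obtain ⟨g, hg⟩ : ∃ g : G ⧸ R₀ →* S', ∀ x : G, g (x : G ⧸ R₀) = f x :=
    ⟨QuotientGroup.lift R₀ f (fun x hx => (hker x).mpr hx), fun x => QuotientGroup.lift_mk _ _ x⟩
  have hginj : Function.Injective g := by
    rw [injective_iff_map_eq_one]
    intro s hs
    induction s using QuotientGroup.induction_on with
    | H x =>
      rw [hg] at hs
      exact (QuotientGroup.eq_one_iff x).mpr ((hker x).mp hs)
  have hgsurj : Function.Surjective g := by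
    intro s'
    obtain ⟨x, rfl⟩ := hf s'
    exact ⟨(x : G ⧸ R₀), hg x⟩
  obtain ⟨e, he⟩ : ∃ e : G ⧸ R₀ ≃ S', ∀ s, e s = g s :=
    ⟨Equiv.ofBijective g ⟨hginj, hgsurj⟩, fun _ => rfl⟩
  refine ⟨Nat.card_congr e, ?_⟩
  refine Nat.card_congr (e.subtypeEquiv (fun s => ?_))
  induction s using QuotientGroup.induction_on with
  | H x =>
    rw [quotAut_mk, he, hg, hπ]
    constructor
    · intro h
      have := congrArg g h
      rwa [hg, hg] at this
    · intro h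
      apply hginj
      rw [hg, hg]; exact h

/-- The bound. -/
theorem mec_bound (q : ℕ) [hq : Fact q.Prime] {K : Type ww} [Field K] [IsAlgClosed K]
    (h2K : ((2 : ℕ) : K) ≠ 0) (hqK : (q : K) ≠ 0)
    {𝕋 : Type uu} [Group 𝕋] [Finite 𝕋] (h𝕋 : IsPGroup 2 𝕋) {W₀ : Type vv} [AddCommGroup W₀]
    [Module K W₀] [FiniteDimensional K W₀] [Nontrivial W₀]
    (σ₀ : Representation K 𝕋 W₀) (Y₀ Y₀' : Module.End K W₀) (ψT : MulAut 𝕋) (hψq : ψT ^ q = 1)
    (hy : YCfg q σ₀ Y₀ Y₀' ψT)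
    (hcl2 : ∀ x y : 𝕋, x * y * x⁻¹ * y⁻¹ ∈ Subgroup.center 𝕋)
    (lam : 𝕋 → K) (hlam : ∀ z ∈ Subgroup.center 𝕋, σ₀ z = lam z • (1 : Module.End K W₀))
    (R₀ : Subgroup 𝕋) [R₀.Normal] (hR₀ : ∀ x, x ∈ R₀ ↔ ∀ y, lam (x * y * x⁻¹ * y⁻¹) = 1)
    (hψR : Inv ψT R₀) :
    Nat.card (𝕋 ⧸ R₀) ≤ (q - 1) ^ 2 * Nat.card {s : 𝕋 ⧸ R₀ // quotAut ψT R₀ hψR s = s} := by
  classical
  haveI : Fact (Nat.Prime 2) := ⟨Nat.prime_two⟩
  obtain ⟨W', hσW', hYW', hY'W', hW'ne, h1, h2, h3, h4, h5, h6⟩ :=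
    min_sub_data σ₀ Y₀ Y₀' ψT hy.hYY' hy.hY'Y hy.cY q hy.hYQ hy.hNY
  haveI : Nontrivial ↥W' := Submodule.nontrivial_iff_ne_bot.mpr hW'ne
  obtain ⟨σ', hσ'def⟩ : ∃ σ' : Representation K 𝕋 ↥W', σ' = resRep σ₀ W' hσW' := ⟨_, rfl⟩
  obtain ⟨Y₁, hY₁def⟩ : ∃ Y₁ : Module.End K ↥W', Y₁ = Y₀.restrict hYW' := ⟨_, rfl⟩
  obtain ⟨Y₁', hY₁'def⟩ : ∃ Y₁' : Module.End K ↥W', Y₁' = Y₀'.restrict hY'W' := ⟨_, rfl⟩
  rw [← hY₁def, ← hY₁'def] at h1 h2
  rw [← hY₁def, ← hσ'def] at h3 h6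
  rw [← hY₁def] at h4 h5
  have hσ'c : ∀ (g : 𝕋) (w : ↥W'), ((σ' g w : ↥W') : W₀) = σ₀ g w := by
    intro g w; rw [hσ'def]; rfl
  have hNmem : ∀ g, g ∈ σ'.ker ↔ σ' g = 1 := fun g => MonoidHom.mem_ker
  have hσψ : ∀ g, σ' (ψT g) = Y₁ * σ' g * Y₁' := by
    intro g; rw [h3, mul_assoc, h1, mul_one]
  have hkerInv : Inv ψT σ'.ker := by
    intro g hg
    rw [hNmem] at hg ⊢
    rw [hσψ, hg, mul_one, h1]
  -- the faithful quotient
  obtain ⟨σQ, hσQdef⟩ : ∃ σQ : Representation K (𝕋 ⧸ σ'.ker) ↥W',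
      σQ = QuotientGroup.lift σ'.ker σ' le_rfl := ⟨_, rfl⟩
  have hσQ : ∀ g : 𝕋, σQ (g : 𝕋 ⧸ σ'.ker) = σ' g := by
    intro g; rw [hσQdef]; exact QuotientGroup.lift_mk _ _ g
  obtain ⟨ψQ, hψQdef⟩ : ∃ ψQ : MulAut (𝕋 ⧸ σ'.ker), ψQ = quotAut ψT σ'.ker hkerInv := ⟨_, rfl⟩
  have hψQ : ∀ g : 𝕋, ψQ (g : 𝕋 ⧸ σ'.ker) = ((ψT g : 𝕋) : 𝕋 ⧸ σ'.ker) := by
    intro g; rw [hψQdef]; exact quotAut_mk ψT σ'.ker hkerInv g
  have hψQq : ψQ ^ q = 1 := by
    rw [hψQdef]; exact quotAut_pow_eq_one ψT σ'.ker hkerInv q hψq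
  have hfaithQ : Function.Injective σQ := by
    intro a b hab
    induction a using QuotientGroup.induction_on with
    | H a =>
    induction b using QuotientGroup.induction_on with
    | H b =>
      rw [hσQ, hσQ] at hab
      apply QuotientGroup.eq.mpr
      rw [hNmem, map_mul, ← hab, ← map_mul, inv_mul_cancel, map_one]
  have hcompatQ : ∀ g, Y₁ * σQ g = σQ (ψQ g) * Y₁ := by
    intro g
    refine QuotientGroup.induction_on g (fun g => ?_)
    rw [hψQ, hσQ, hσQ]; exact h3 g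
  have hirrQ : ∀ U : Submodule K ↥W', (∀ g, ∀ w ∈ U, σQ g w ∈ U) → (∀ w ∈ U, Y₁ w ∈ U) →
      U = ⊥ ∨ U = ⊤ := by
    intro U hU1 hU2
    refine h6 U (fun g w hw => ?_) hU2
    have := hU1 (g : 𝕋 ⧸ σ'.ker) w hw
    rwa [hσQ] at this
  have hQ2 : IsPGroup 2 (𝕋 ⧸ σ'.ker) := h𝕋.to_quotient σ'.ker
  have hcardQK : (Nat.card (𝕋 ⧸ σ'.ker) : K) ≠ 0 := by
    obtain ⟨j, hj⟩ := IsPGroup.iff_card.mp hQ2
    rw [hj, Nat.cast_pow]
    exact pow_ne_zero _ h2K
  have hZsc := center_scalar σQ Y₁ Y₁' h1 h2 ψQ hcompatQ q hq.out h4 h5 hψQq hcardQK hirrQ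
  have hcl2Q : ∀ a b : 𝕋 ⧸ σ'.ker, a * b * a⁻¹ * b⁻¹ ∈ Subgroup.center (𝕋 ⧸ σ'.ker) := by
    intro a b
    induction a using QuotientGroup.induction_on with
    | H a =>
    induction b using QuotientGroup.induction_on with
    | H b =>
      have h7 := hcl2 a b
      rw [Subgroup.mem_center_iff] at h7 ⊢
      intro g
      induction g using QuotientGroup.induction_on with
      | H g =>
        have h8 := congrArg (QuotientGroup.mk' σ'.ker) (h7 g)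
        simpa using h8
  obtain ⟨b, π, hdim, hcardS', hπ, hcomm_le⟩ := bot_core q 2 hqK h2K σQ Y₁ Y₁' ψQ hQ2 h1 h2
    hcompatQ 0 (by rw [zero_add, pow_one]; exact h4) hfaithQ hirrQ hZsc hcl2Q
  have hsq := sq_finrank_le_commutant Y₁ q hq.out hqK h4 h5
  -- the count on the central quotient of the faithful quotient
  have hbound' : Nat.card ((𝕋 ⧸ σ'.ker) ⧸ Subgroup.center (𝕋 ⧸ σ'.ker))
      ≤ (q - 1) ^ 2 * Nat.card {s : (𝕋 ⧸ σ'.ker) ⧸ Subgroup.center (𝕋 ⧸ σ'.ker) // π s = s} := by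
    by_cases hπ1 : π = 1
    · have h7 : Nat.card {s : (𝕋 ⧸ σ'.ker) ⧸ Subgroup.center (𝕋 ⧸ σ'.ker) // π s = s}
          = Nat.card ((𝕋 ⧸ σ'.ker) ⧸ Subgroup.center (𝕋 ⧸ σ'.ker)) := by
        refine Nat.card_congr (Equiv.subtypeUnivEquiv (fun s => ?_))
        rw [hπ1]; rfl
      rw [h7]
      have h8 : 1 ≤ (q - 1) ^ 2 := Nat.one_le_pow _ _ (by have := hq.out.two_le; omega)
      nlinarith
    · have hπq : π ^ q = 1 := by
        ext s
        induction s using QuotientGroup.induction_on with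
        | H g =>
          have hpow : ∀ (j : ℕ) (g : 𝕋 ⧸ σ'.ker), (π ^ j) (g : _ ⧸ Subgroup.center (𝕋 ⧸ σ'.ker))
              = (((ψQ ^ j) g : 𝕋 ⧸ σ'.ker) : _ ⧸ Subgroup.center (𝕋 ⧸ σ'.ker)) := by
            intro j
            induction j with
            | zero => intro g; rfl
            | succ j ih =>
              intro g
              rw [pow_succ', Equiv.Perm.mul_apply, ih, hπ, pow_succ', MulAut.mul_apply]
          rw [hpow, hψQq]; rfl
      have horb := orbit_count π q hq.out hπq hπ1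
      rw [hcardS'] at horb ⊢
      have hq2 := hq.out.two_le
      obtain ⟨q', rfl⟩ : ∃ q', q = q' + 1 := ⟨q - 1, by omega⟩
      rw [Nat.add_sub_cancel] at hsq horb ⊢
      have h9 : (finrank K ↥W') ^ 2 ≤ q' * Nat.card (MulAction.orbitRel.Quotient
          (Subgroup.zpowers π) ((𝕋 ⧸ σ'.ker) ⧸ Subgroup.center (𝕋 ⧸ σ'.ker))) :=
        le_trans hsq (Nat.mul_le_mul_left _ hcomm_le)
      nlinarith
  -- transfer to the quotient by `R₀`
  obtain ⟨f, hfdef⟩ : ∃ f : 𝕋 →* (𝕋 ⧸ σ'.ker) ⧸ Subgroup.center (𝕋 ⧸ σ'.ker),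
      f = (QuotientGroup.mk' (Subgroup.center (𝕋 ⧸ σ'.ker))).comp (QuotientGroup.mk' σ'.ker) :=
    ⟨_, rfl⟩
  have hfapp : ∀ x : 𝕋, f x = (((x : 𝕋 ⧸ σ'.ker)) : _ ⧸ Subgroup.center (𝕋 ⧸ σ'.ker)) := by
    intro x; rw [hfdef]; rfl
  have hfsurj : Function.Surjective f := by
    intro s
    induction s using QuotientGroup.induction_on with
    | H g =>
      induction g using QuotientGroup.induction_on with
      | H x => exact ⟨x, hfapp x⟩
  obtain ⟨w₀, hw₀⟩ := exists_ne (0 : ↥W')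
  have hσ'Z : ∀ z ∈ Subgroup.center 𝕋, σ' z = lam z • (1 : Module.End K ↥W') := by
    intro z hz
    refine LinearMap.ext (fun w => Subtype.ext ?_)
    rw [hσ'c, hlam z hz]
    rfl
  have hker : ∀ x, f x = 1 ↔ x ∈ R₀ := by
    intro x
    rw [hfapp, QuotientGroup.eq_one_iff, Subgroup.mem_center_iff, hR₀]
    constructor
    · intro h y
      have h7 := h (y : 𝕋 ⧸ σ'.ker)
      rw [← comm_elt_eq_one_iff] at h7
      have h8 : ((x * y * x⁻¹ * y⁻¹ : 𝕋) : 𝕋 ⧸ σ'.ker) = 1 := by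
        rw [← h7]; rfl
      rw [QuotientGroup.eq_one_iff, hNmem, hσ'Z _ (hcl2 x y)] at h8
      have h9 := congrArg (fun A : Module.End K ↥W' => A w₀) h8
      simp only [LinearMap.smul_apply, Module.End.one_apply] at h9
      by_contra hne
      have h10 : (lam (x * y * x⁻¹ * y⁻¹) - 1) • w₀ = 0 := by
        rw [sub_smul, one_smul, h9, sub_self]
      rcases smul_eq_zero.mp h10 with h11 | h11
      · exact hne (sub_eq_zero.mp h11)
      · exact hw₀ h11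
    · intro h g
      induction g using QuotientGroup.induction_on with
      | H y =>
        rw [← comm_elt_eq_one_iff]
        have h8 : ((x * y * x⁻¹ * y⁻¹ : 𝕋) : 𝕋 ⧸ σ'.ker) = 1 := by
          rw [QuotientGroup.eq_one_iff, hNmem, hσ'Z _ (hcl2 x y), h y, one_smul]
        rw [← h8]; rfl
  have hπf : ∀ x, π (f x) = f (ψT x) := by
    intro x
    rw [hfapp, hfapp, hπ, hψQ]
  obtain ⟨hc1, hc2⟩ := quot_transfer R₀ f hfsurj hker ψT hψR π hπf
  rw [hc1, hc2]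
  exact hbound'

end Cfsg.Agent.Lib.Helper3.Sh
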