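import Mathlib
import Cfsg.Agent.Lib.Helper3.PqR
import Cfsg.Agent.Lib.Helper3.PqL

/-!
# Frobenius groups of order `pq`, part U: auxiliary statements for the exceptional configuration
(induced actions on quotients, signs, scalar action of a central subgroup on a block).
-/

set_option autoImplicit false
set_option maxHeartbeats 4000000
set_option maxRecDepth 100000
set_option linter.unusedVariables false
set_option linter.unusedSectionVars false
set_option linter.style.haveILetI false
set_option linter.deprecated false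

namespace Cfsg.Agent.Lib.Helper3.Sh

open Module Cfsg.Agent.Lib.Helper3 Cfsg.Agent.Lib.Helper3.HHC1 Cfsg.Agent.Lib.Helper8.FP4
  Cfsg.Agent.Lib.Helper6.Wd

/-- The action induced on a quotient by an invariant normal subgroup. -/
theorem exists_quotActHom {G : Type*} [Group G] [Finite G] {B : Type*} [Group B]
    (act : B →* MulAut G) (N : Subgroup G) [N.Normal] (h : ∀ b, Inv (act b) N) :
    ∃ F : B →* MulAut (G ⧸ N), ∀ (b : B) (g : G), F b (g : G ⧸ N) = ((act b g : G) : G ⧸ N) := by
  refine ⟨{ toFun := fun b => quotAut (act b) N (h b)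
            map_one' := ?_
            map_mul' := ?_ }, fun b g => quotAut_mk (act b) N (h b) g⟩
  · ext x
    induction x using QuotientGroup.induction_on with
    | H g =>
      rw [quotAut_mk]
      have : act 1 g = g := by rw [map_one]; rfl
      rw [this]; rfl
  · intro a b
    ext x
    induction x using QuotientGroup.induction_on with
    | H g =>
      rw [quotAut_mk, MulAut.mul_apply, quotAut_mk, quotAut_mk]
      have : act (a * b) g = act a (act b g) := by rw [map_mul]; rfl
      rw [this]

/-- The parity lemma for a group known to be commutative. -/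
theorem fermat_parity' (q m : ℕ) [hq : Fact q.Prime] (hm : 1 ≤ m) (hqm : q = 2 ^ m + 1)
    {S : Type*} [Group S] [Finite S] (hSc : ∀ a b : S, a * b = b * a)
    (hexp : ∀ s : S, s ^ 2 = 1)
    {𝒰 : Type*} [Group 𝒰] [Finite 𝒰] (hodd : Odd (Nat.card 𝒰))
    (act : 𝒰 →* MulAut S) (hcomm : ∀ b b', act b * act b' = act b' * act b)
    (ψS : MulAut S) (hψSq : ψS ^ q = 1) (ψU : MulAut 𝒰) (hψUq : ψU ^ q = 1)
    (hcs : ∀ b s, ψS (act b s) = act (ψU b) (ψS s))
    (hsurj : ∀ b, ∃ c, act b = act (c⁻¹ * ψU c))
    (β : S → S → ZMod 2) (hβl : ∀ s s' r, β (s * s') r = β s r + β s' r)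
    (hβr : ∀ s r r', β s (r * r') = β s r + β s r') (hβalt : ∀ s, β s s = 0)
    (hβU : ∀ b s r, β (act b s) (act b r) = β s r) (hβψ : ∀ s r, β (ψS s) (ψS r) = β s r)
    (hβnd : ∀ s, (∀ r, β s r = 0) → s = 1)
    (hbound : Nat.card S ≤ (q - 1) ^ 2 * Nat.card {s : S // ψS s = s}) :
    ∀ b, act b = 1 := by
  letI instC : CommGroup S := { (inferInstance : Group S) with mul_comm := hSc }
  exact fermat_parity q m hm hqm hexp hodd act hcomm ψS hψSq ψU hψUq hcs hsurj β hβl hβr hβalt
    hβU hβψ hβnd hbound

/-- The sign of a square root of one. -/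
theorem sign_mul {K : Type*} [Field K] (h2 : ((2 : ℕ) : K) ≠ 0) (a b : K) (ha : a * a = 1)
    (hb : b * b = 1) [Decidable (a * b = 1)] [Decidable (a = 1)] [Decidable (b = 1)] :
    (if a * b = 1 then (0 : ZMod 2) else 1)
      = (if a = 1 then (0 : ZMod 2) else 1) + (if b = 1 then (0 : ZMod 2) else 1) := by
  have hne : (-1 : K) ≠ 1 := by
    intro h
    apply h2
    have : (1 : K) + 1 = 0 := by
      nth_rewrite 1 [← h]
      exact neg_add_cancel 1
    rw [Nat.cast_ofNat, ← one_add_one_eq_two]
    exact this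
  rcases mul_self_eq_one_iff.mp ha with h | h <;> rcases mul_self_eq_one_iff.mp hb with h' | h'
  · rw [if_pos (by rw [h, h', mul_one]), if_pos h, if_pos h', add_zero]
  · have hb1 : b ≠ 1 := by rw [h']; exact hne
    rw [if_neg (by rw [h, one_mul]; exact hb1), if_pos h, if_neg hb1, zero_add]
  · have ha1 : a ≠ 1 := by rw [h]; exact hne
    rw [if_neg (by rw [h', mul_one]; exact ha1), if_neg ha1, if_pos h', add_zero]
  · have ha1 : a ≠ 1 := by rw [h]; exact hne
    have hb1 : b ≠ 1 := by rw [h']; exact hne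
    rw [if_pos (by rw [h, h', neg_mul_neg, mul_one]), if_neg ha1, if_neg hb1]
    rfl

variable {K : Type*} [Field K] {L : Type*} [Group L] {W : Type*} [AddCommGroup W] [Module K W]

/-- A subgroup centralised by the whole group acts by scalars on a block. -/
theorem blk_scalar (ρ : Representation K L W) (N : Subgroup L)
    (hLN : ∀ g : L, ∀ z ∈ N, g * z = z * g) (χ₁ : L → K) :
    ∀ z ∈ N, ∀ w ∈ Blk ρ N χ₁, ρ z w = χ₁ z • w := by
  intro z hz w hw
  unfold Blk at hw
  refine Submodule.iSup_induction _ (motive := fun w => ρ z w = χ₁ z • w) hw ?_ ?_ ?_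
  · intro g w hw
    rw [chi_apply ρ N _ w hw z hz, tw_apply]
    have h0 : (MulAut.conj g)⁻¹ z = g⁻¹ * z * g := by
      rw [← map_inv, MulAut.conj_apply, inv_inv]
    have h1 : g⁻¹ * z * g = z := by
      rw [mul_assoc, ← hLN g z hz, inv_mul_cancel_left]
    rw [h0, h1]
  · rw [map_zero, smul_zero]
  · intro a b ha hb
    rw [map_add, ha, hb, smul_add]

end Cfsg.Agent.Lib.Helper3.Sh
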