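import Mathlib
import Cfsg.Agent.Lib.Helper3.PqU
import Cfsg.Agent.Lib.Helper3.PqS
import Cfsg.Agent.Lib.Helper3.PqT
import Cfsg.Agent.Lib.Helper3.ShV

/-!
# Frobenius groups of order `pq`, part V: the exceptional configuration (`t = 2`, `q` a Fermat
prime, `T` of class two) does not occur.
-/

set_option autoImplicit false
set_option maxHeartbeats 4000000
set_option maxRecDepth 100000
set_option linter.unusedVariables false
set_option linter.unusedSectionVars false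
set_option linter.style.haveILetI false
set_option linter.deprecated false

namespace Cfsg.Agent.Lib.Helper3.Sh

open Module Cfsg.Agent.Lib.Helper3 Cfsg.Agent.Lib.Helper3.HHC1 Cfsg.Agent.Lib.Helper8.FP4
  Cfsg.Agent.Lib.Helper6.Wd

universe uu vv ww

/-- The commutator form of a group of class two with values in a field. -/
theorem mec_form {𝕋 : Type*} [Group 𝕋] {K : Type*} [Field K]
    (hcl2 : ∀ x y : 𝕋, x * y * x⁻¹ * y⁻¹ ∈ Subgroup.center 𝕋)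
    (hsq : ∀ x : 𝕋, x ^ 2 ∈ Subgroup.center 𝕋)
    (lam : 𝕋 → K) (hlam1 : lam 1 = 1)
    (hlamm : ∀ z ∈ Subgroup.center 𝕋, ∀ z' ∈ Subgroup.center 𝕋, lam (z * z') = lam z * lam z')
    (ε : 𝕋 → 𝕋 → K) (hε : ∀ x y, ε x y = lam (x * y * x⁻¹ * y⁻¹)) :
    (∀ x x' y, ε (x * x') y = ε x y * ε x' y) ∧
    (∀ x y y', ε x (y * y') = ε x y * ε x y') ∧
    (∀ x, ε x x = 1) ∧
    (∀ x y, ε x y * ε x y = 1) ∧
    (∀ x y, ε x y = 1 → ε y x = 1) ∧
    (∀ z ∈ Subgroup.center 𝕋, ∀ y, ε z y = 1) ∧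
    ∃ R₀ : Subgroup 𝕋, R₀.Normal ∧ (∀ x, x ∈ R₀ ↔ ∀ y, ε x y = 1) := by
  have hεl : ∀ x x' y, ε (x * x') y = ε x y * ε x' y := by
    intro x x' y
    have hc := Subgroup.mem_center_iff.mp (hcl2 x' y) x
    have key : (x * x') * y * (x * x')⁻¹ * y⁻¹ = (x' * y * x'⁻¹ * y⁻¹) * (x * y * x⁻¹ * y⁻¹) := by
      calc (x * x') * y * (x * x')⁻¹ * y⁻¹
          = x * (x' * y * x'⁻¹ * y⁻¹) * (y * x⁻¹ * y⁻¹) := by group
        _ = (x' * y * x'⁻¹ * y⁻¹) * x * (y * x⁻¹ * y⁻¹) := by rw [hc]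
        _ = _ := by group
    rw [hε, hε, hε, key, hlamm _ (hcl2 x' y) _ (hcl2 x y), mul_comm]
  have hεr : ∀ x y y', ε x (y * y') = ε x y * ε x y' := by
    intro x y y'
    have hc := Subgroup.mem_center_iff.mp (hcl2 x y') (x * y * x⁻¹)
    have key : x * (y * y') * x⁻¹ * (y * y')⁻¹ = (x * y' * x⁻¹ * y'⁻¹) * (x * y * x⁻¹ * y⁻¹) := by
      calc x * (y * y') * x⁻¹ * (y * y')⁻¹
          = (x * y * x⁻¹) * (x * y' * x⁻¹ * y'⁻¹) * y⁻¹ := by group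
        _ = (x * y' * x⁻¹ * y'⁻¹) * (x * y * x⁻¹) * y⁻¹ := by rw [hc]
        _ = _ := by group
    rw [hε, hε, hε, key, hlamm _ (hcl2 x y') _ (hcl2 x y), mul_comm]
  have hεalt : ∀ x, ε x x = 1 := by
    intro x
    have : x * x * x⁻¹ * x⁻¹ = 1 := by group
    rw [hε, this, hlam1]
  have hεz : ∀ z ∈ Subgroup.center 𝕋, ∀ y, ε z y = 1 := by
    intro z hz y
    have h1 := Subgroup.mem_center_iff.mp hz y
    have : z * y * z⁻¹ * y⁻¹ = 1 := by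
      rw [← h1]; group
    rw [hε, this, hlam1]
  have hε2 : ∀ x y, ε x y * ε x y = 1 := by
    intro x y
    rw [← hεl, ← pow_two]
    exact hεz _ (hsq x) y
  have hεsym : ∀ x y, ε x y = 1 → ε y x = 1 := by
    intro x y h
    have h1 : y * x * y⁻¹ * x⁻¹ = (x * y * x⁻¹ * y⁻¹)⁻¹ := by group
    have h2 : lam ((x * y * x⁻¹ * y⁻¹)⁻¹) * lam (x * y * x⁻¹ * y⁻¹) = 1 := by
      rw [← hlamm _ (Subgroup.inv_mem _ (hcl2 x y)) _ (hcl2 x y), inv_mul_cancel, hlam1]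
    rw [hε] at h
    rw [h, mul_one] at h2
    rw [hε, h1, h2]
  refine ⟨hεl, hεr, hεalt, hε2, hεsym, hεz, ?_⟩
  have hone : ∀ y, ε 1 y = 1 := hεz 1 (Subgroup.one_mem _)
  have hinv : ∀ x y, ε x⁻¹ y * ε x y = 1 := by
    intro x y
    rw [← hεl, inv_mul_cancel, hone]
  refine ⟨{ carrier := {x | ∀ y, ε x y = 1}
            mul_mem' := ?_
            one_mem' := hone
            inv_mem' := ?_ }, ?_, fun x => Iff.rfl⟩
  · intro a b ha hb y
    rw [hεl, ha y, hb y, mul_one]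
  · intro a ha y
    have := hinv a y
    rw [ha y, mul_one] at this
    exact this
  · refine ⟨fun n hn g y => ?_⟩
    have hn' : ε n y = 1 := hn y
    rw [hεl, hεl, hn', mul_one, ← hεl, mul_inv_cancel, hone]

/-- Invariance of the commutator form under automorphisms fixing the values on the centre. -/
theorem mec_form_inv {𝕋 : Type*} [Group 𝕋] {K : Type*} [Field K] (lam : 𝕋 → K)
    (ε : 𝕋 → 𝕋 → K) (hε : ∀ x y, ε x y = lam (x * y * x⁻¹ * y⁻¹))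
    (hcl2 : ∀ x y : 𝕋, x * y * x⁻¹ * y⁻¹ ∈ Subgroup.center 𝕋)
    (R₀ : Subgroup 𝕋) (hR₀ : ∀ x, x ∈ R₀ ↔ ∀ y, ε x y = 1)
    (α : MulAut 𝕋) (hα : ∀ z ∈ Subgroup.center 𝕋, lam (α z) = lam z) :
    (∀ x y, ε (α x) (α y) = ε x y) ∧ Inv α R₀ := by
  have h1 : ∀ x y, ε (α x) (α y) = ε x y := by
    intro x y
    rw [hε, hε, ← map_inv, ← map_inv, ← map_mul, ← map_mul, ← map_mul, hα _ (hcl2 x y)]
  refine ⟨h1, ?_⟩
  intro x hx
  rw [hR₀] at hx ⊢
  intro y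
  have h2 : y = α (α⁻¹ y) := (MulAut.apply_inv_self _ α y).symm
  rw [h2, h1]
  exact hx _

theorem zmod2_one_ne_zero : (1 : ZMod 2) ≠ 0 := by decide

/-- A subgroup normalised by two subgroups generating the group is normal. -/
theorem normal_of_sup {L : Type*} [Group L] (T U M : Subgroup L) (hsup : T ⊔ U = ⊤)
    (hT : ∀ a ∈ T, ∀ m ∈ M, a * m * a⁻¹ ∈ M) (hU : ∀ b ∈ U, ∀ m ∈ M, b * m * b⁻¹ ∈ M) :
    M.Normal := by
  have key : ∀ V : Subgroup L, (∀ a ∈ V, ∀ m ∈ M, a * m * a⁻¹ ∈ M) →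
      V ≤ Subgroup.normalizer (M : Set L) := by
    intro V hV a ha
    rw [Subgroup.mem_normalizer_iff]
    intro h
    refine ⟨fun hh => hV a ha h hh, fun hh => ?_⟩
    have := hV a⁻¹ (V.inv_mem ha) _ hh
    have e : a⁻¹ * (a * h * a⁻¹) * a⁻¹⁻¹ = h := by group
    rw [e] at this
    exact this
  have h1 : T ⊔ U ≤ Subgroup.normalizer (M : Set L) := sup_le (key T hT) (key U hU)
  rw [hsup] at h1
  exact Subgroup.normalizer_eq_top_iff.mp (top_le_iff.mp h1)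

variable {p q k t u : ℕ} {K : Type ww} [Field K] {L : Type uu} [Group L] [Finite L] {W : Type vv}
  [AddCommGroup W] [Module K W] {ρ : Representation K L W} {X X' Y Y' : Module.End K W}
  {φ ψ : MulAut L} {T U : Subgroup L}

/-- The exceptional configuration does not occur. -/
theorem mec_main (hnum : PQNum p q k) [ht : Fact t.Prime] [hu : Fact u.Prime] (htu : t ≠ u)
    (ht2 : t = 2) (m : ℕ) (hm : 1 ≤ m) (hqm : q = 2 ^ m + 1)
    [IsAlgClosed K] [FiniteDimensional K W] (hqK : (q : K) ≠ 0) (htK : (t : K) ≠ 0)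
    (H : PQCfg p q k t u ρ X X' Y Y' φ ψ T U) (hfaith : Function.Injective ρ)
    (hsup : T ⊔ U = ⊤)
    (r4a : ∀ P : Subgroup L, P ≤ T → P.Normal → Inv φ P → Inv ψ P → P ≠ T →
      ∀ x ∈ P, ∀ b ∈ U, x * b = b * x)
    (r4b : ∀ U₁ : Subgroup L, U₁ ≤ U → Inv φ U₁ → Inv ψ U₁ → U₁ ≠ U →
      ∀ b ∈ U₁, ∀ a ∈ T, a * b = b * a)
    (hne : ∃ a₀ ∈ T, ∃ b₀ ∈ U, a₀ * b₀ ≠ b₀ * a₀)
    (hnab : Subgroup.center ↥T ≠ ⊤)
    (N : Subgroup L) (hNdef : N = (Subgroup.center ↥T).map T.subtype)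
    (χ₁ : L → K) (hχ₁ : wt (fam ρ N) χ₁ ≠ ⊥)
    (B : QBlk q ρ Y φ (Blk ρ N χ₁)) (hstep2 : ∀ b ∈ U, φ b = b) : False := by
  classical
  subst ht2
  haveI : Fact q.Prime := ⟨hnum.hq⟩
  haveI hTn := H.hTn
  obtain ⟨hgen, hUZ, hcl2, hexp, hU'⟩ := mec_group htu H r4a r4b hne hnab
  have hNmem : ∀ z : L, z ∈ N ↔ ∃ z' ∈ Subgroup.center ↥T, T.subtype z' = z := by
    intro z
    rw [hNdef]
    exact Subgroup.mem_map
  have hzN : ∀ z : ↥T, z ∈ Subgroup.center ↥T → (z : L) ∈ N :=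
    fun z hz => (hNmem _).mpr ⟨z, hz, rfl⟩
  -- `N` is central in `L`
  have hLN : ∀ g : L, ∀ z ∈ N, g * z = z * g := by
    have h1 : T ⊔ U ≤ Subgroup.centralizer (N : Set L) := by
      refine sup_le ?_ ?_
      · intro a ha
        rw [Subgroup.mem_centralizer_iff]
        intro z hz
        obtain ⟨z', hz', rfl⟩ := (hNmem z).mp hz
        have := Subgroup.mem_center_iff.mp hz' ⟨a, ha⟩
        exact (congrArg Subtype.val this).symm
      · intro b hb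
        rw [Subgroup.mem_centralizer_iff]
        intro z hz
        obtain ⟨z', hz', rfl⟩ := (hNmem z).mp hz
        exact hUZ z' hz' b hb
    intro g z hz
    have hg : g ∈ Subgroup.centralizer (N : Set L) := h1 (hsup ▸ Subgroup.mem_top g)
    exact ((Subgroup.mem_centralizer_iff.mp hg) z hz).symm
  have hscal : ∀ z ∈ N, ∀ w ∈ Blk ρ N χ₁, ρ z w = χ₁ z • w := blk_scalar ρ N hLN χ₁
  obtain ⟨v₁, hv₁, hv₁0⟩ := Submodule.exists_mem_ne_zero_of_ne_bot hχ₁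
  have hv₁B : v₁ ∈ Blk ρ N χ₁ := wt_le_Blk ρ N χ₁ hv₁
  have hχmul : ∀ a ∈ N, ∀ b ∈ N, χ₁ (a * b) = χ₁ a * χ₁ b :=
    fun a ha b hb => chi_mul ρ N χ₁ v₁ hv₁ hv₁0 a b ha hb
  have hχ1 : χ₁ 1 = 1 := chi_one ρ N χ₁ v₁ hv₁ hv₁0
  -- the restricted automorphisms
  obtain ⟨ψT, hψTc, hψTq⟩ : ∃ ψT : MulAut ↥T, (∀ x, ((ψT x : ↥T) : L) = ψ x) ∧ ψT ^ q = 1 :=
    ⟨restrictAut ψ T H.hψT, fun x => rfl, restrictAut_pow_eq_one _ _ _ q H.aut.rq⟩
  obtain ⟨ψU, hψUc, hψUq⟩ : ∃ ψU : MulAut ↥U, (∀ x, ((ψU x : ↥U) : L) = ψ x) ∧ ψU ^ q = 1 :=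
    ⟨restrictAut ψ U H.hψU, fun x => rfl, restrictAut_pow_eq_one _ _ _ q H.aut.rq⟩
  obtain ⟨cjU, hcjU⟩ : ∃ cjU : ↥U →* MulAut ↥T,
      ∀ (b : ↥U) (x : ↥T), ((cjU b x : ↥T) : L) = b * x * (b : L)⁻¹ :=
    ⟨cj U T (fun k _ x hx => hTn.conj_mem x hx k), fun b x => rfl⟩
  have hψN : ∀ z ∈ N, ψ z ∈ N := by
    intro z hz
    obtain ⟨z', hz', rfl⟩ := (hNmem z).mp hz
    have := hzN (ψT z') (center_aut_mem ψT z' hz')
    rw [hψTc] at this
    exact this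
  have hχψ : ∀ z ∈ N, χ₁ (ψ z) = χ₁ z := by
    intro z hz
    have hYv : Y v₁ ∈ Blk ρ N χ₁ := B.hY v₁ hv₁B
    have hYv0 : Y v₁ ≠ 0 := by
      intro h0
      apply hv₁0
      have : Y' (Y v₁) = v₁ := by rw [← Module.End.mul_apply, H.hY'Y]; rfl
      rw [← this, h0, map_zero]
    have h1 : Y (ρ z v₁) = ρ (ψ z) (Y v₁) := by
      have h2 : (Y * ρ z) v₁ = (ρ (ψ z) * Y) v₁ := by rw [H.cY z]
      exact h2
    rw [hscal z hz v₁ hv₁B, map_smul, hscal (ψ z) (hψN z hz) (Y v₁) hYv] at h1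
    have h3 : (χ₁ z - χ₁ (ψ z)) • Y v₁ = 0 := by rw [sub_smul, h1, sub_self]
    rcases smul_eq_zero.mp h3 with h | h
    · exact (sub_eq_zero.mp h).symm
    · exact absurd h hYv0
  -- the form
  obtain ⟨lam, hlamdef⟩ : ∃ lam : ↥T → K, ∀ x, lam x = χ₁ (x : L) :=
    ⟨fun x => χ₁ (x : L), fun _ => rfl⟩
  obtain ⟨ε, hε⟩ : ∃ ε : ↥T → ↥T → K, ∀ x y, ε x y = lam (x * y * x⁻¹ * y⁻¹) :=
    ⟨fun x y => lam (x * y * x⁻¹ * y⁻¹), fun _ _ => rfl⟩
  have hlam1 : lam 1 = 1 := by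
    rw [hlamdef, Subgroup.coe_one]
    exact hχ1
  have hlamm : ∀ z ∈ Subgroup.center ↥T, ∀ z' ∈ Subgroup.center ↥T,
      lam (z * z') = lam z * lam z' := by
    intro z hz z' hz'
    rw [hlamdef, hlamdef, hlamdef, Subgroup.coe_mul]
    exact hχmul _ (hzN z hz) _ (hzN z' hz')
  have hsq : ∀ x : ↥T, x ^ 2 ∈ Subgroup.center ↥T := by
    intro x
    have := hexp (x : ↥T ⧸ Subgroup.center ↥T)
    rw [← QuotientGroup.mk_pow, QuotientGroup.eq_one_iff] at this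
    exact this
  obtain ⟨hεl, hεr, hεalt, hε2, hεsym, hεz, R₀, hR₀n, hR₀⟩ :=
    mec_form hcl2 hsq lam hlam1 hlamm ε hε
  haveI := hR₀n
  have hZR : Subgroup.center ↥T ≤ R₀ := fun z hz => (hR₀ z).mpr (hεz z hz)
  have hlamψ : ∀ z ∈ Subgroup.center ↥T, lam (ψT z) = lam z := by
    intro z hz
    rw [hlamdef, hlamdef, hψTc]
    exact hχψ _ (hzN z hz)
  obtain ⟨hεψ, hψR⟩ := mec_form_inv lam ε hε hcl2 R₀ hR₀ ψT hlamψ
  have hlamU : ∀ b : ↥U, ∀ z ∈ Subgroup.center ↥T, lam (cjU b z) = lam z := by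
    intro b z hz
    rw [hlamdef, hlamdef, hcjU, ← hUZ z hz b b.2, mul_inv_cancel_right]
  have hεU : ∀ (b : ↥U) (x y : ↥T), ε (cjU b x) (cjU b y) = ε x y :=
    fun b => (mec_form_inv lam ε hε hcl2 R₀ hR₀ (cjU b) (hlamU b)).1
  have hUR : ∀ b : ↥U, Inv (cjU b) R₀ :=
    fun b => (mec_form_inv lam ε hε hcl2 R₀ hR₀ (cjU b) (hlamU b)).2
  -- the quotient
  obtain ⟨actS, hactS⟩ := exists_quotActHom cjU R₀ hUR
  obtain ⟨ψS, hψSmk, hψSq, hψSdef⟩ : ∃ ψS : MulAut (↥T ⧸ R₀),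
      (∀ x : ↥T, ψS (x : ↥T ⧸ R₀) = ((ψT x : ↥T) : ↥T ⧸ R₀)) ∧ ψS ^ q = 1 ∧
        ψS = quotAut ψT R₀ hψR :=
    ⟨quotAut ψT R₀ hψR, fun x => rfl, quotAut_pow_eq_one _ _ _ q hψTq, rfl⟩
  have hSc : ∀ a b : ↥T ⧸ R₀, a * b = b * a := by
    intro a b
    refine QuotientGroup.induction_on a (fun x => ?_)
    refine QuotientGroup.induction_on b (fun y => ?_)
    have h1 : x * y = (x * y * x⁻¹ * y⁻¹) * (y * x) := by group
    rw [← QuotientGroup.mk_mul, ← QuotientGroup.mk_mul, h1, QuotientGroup.mk_mul,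
      (QuotientGroup.eq_one_iff _).mpr (hZR (hcl2 x y)), one_mul]
  have hSexp : ∀ s : ↥T ⧸ R₀, s ^ 2 = 1 := by
    intro s
    refine QuotientGroup.induction_on s (fun x => ?_)
    rw [← QuotientGroup.mk_pow]
    exact (QuotientGroup.eq_one_iff _).mpr (hZR (hsq x))
  have hodd : Odd (Nat.card ↥U) := by
    obtain ⟨n, hn⟩ := IsPGroup.iff_card.mp H.hU
    rw [hn]
    exact (hu.out.eq_two_or_odd'.resolve_left (fun h => htu h.symm)).pow
  have hcjcomm : ∀ b b' : ↥U, cjU b * cjU b' = cjU b' * cjU b := by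
    intro b b'
    rw [← map_mul, ← map_mul]
    refine MulEquiv.ext (fun x => Subtype.ext ?_)
    rw [hcjU, hcjU, Subgroup.coe_mul, Subgroup.coe_mul]
    have hmem : (b' : L) * b * x * ((b' : L) * b)⁻¹ ∈ T := hTn.conj_mem x x.2 ((b' : L) * b)
    have hc := hU' b b.2 b' b'.2 _ hmem
    calc (b : L) * b' * x * ((b : L) * b')⁻¹
        = ((b : L) * b' * (b : L)⁻¹ * (b' : L)⁻¹) * ((b' : L) * b * x * ((b' : L) * b)⁻¹)
            * ((b : L) * b' * (b : L)⁻¹ * (b' : L)⁻¹)⁻¹ := by group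
      _ = ((b' : L) * b * x * ((b' : L) * b)⁻¹) * ((b : L) * b' * (b : L)⁻¹ * (b' : L)⁻¹)
            * ((b : L) * b' * (b : L)⁻¹ * (b' : L)⁻¹)⁻¹ := by rw [hc]
      _ = _ := by rw [mul_inv_cancel_right]
  have hcomm : ∀ b b', actS b * actS b' = actS b' * actS b := by
    intro b b'
    refine MulEquiv.ext (fun s => ?_)
    refine QuotientGroup.induction_on s (fun x => ?_)
    rw [MulAut.mul_apply, MulAut.mul_apply, hactS, hactS, hactS, hactS]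
    have h2 : (cjU b * cjU b') x = (cjU b' * cjU b) x := by rw [hcjcomm b b']
    rw [MulAut.mul_apply, MulAut.mul_apply] at h2
    rw [h2]
  have hcs : ∀ b s, ψS (actS b s) = actS (ψU b) (ψS s) := by
    intro b s
    refine QuotientGroup.induction_on s (fun x => ?_)
    rw [hactS, hψSmk, hψSmk, hactS]
    congr 1
    apply Subtype.ext
    rw [hψTc, hcjU, hcjU, hψTc, hψUc, map_mul, map_mul, map_inv]
  have hfpfU : Fpf ψU := by
    intro g hg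
    have h1 : ψ (g : L) = g := by rw [← hψUc, hg]
    have h2 : φ (g : L) = g := hstep2 _ g.2
    exact Subtype.ext (H.hfpf _ h2 h1)
  have hsurj : ∀ b, ∃ c, actS b = actS (c⁻¹ * ψU c) := by
    intro b
    obtain ⟨c, hc⟩ := hfpfU.surj b
    exact ⟨c, by rw [hc]⟩
  -- the alternating form
  obtain ⟨β, hβdef⟩ : ∃ β : (↥T ⧸ R₀) → (↥T ⧸ R₀) → ZMod 2,
      ∀ s r, β s r = if ε s.out r.out = 1 then 0 else 1 := ⟨_, fun _ _ => rfl⟩
  have hβmk : ∀ x y : ↥T, β (x : ↥T ⧸ R₀) (y : ↥T ⧸ R₀) = if ε x y = 1 then 0 else 1 := by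
    intro x y
    rw [hβdef]
    obtain ⟨r, hr⟩ := QuotientGroup.mk_out_eq_mul R₀ x
    obtain ⟨r', hr'⟩ := QuotientGroup.mk_out_eq_mul R₀ y
    have e1 : ε (x * r) (y * r') = ε x y := by
      rw [hεl, (hR₀ _).mp r.2 (y * r'), mul_one, hεr, hεsym _ _ ((hR₀ _).mp r'.2 x), mul_one]
    rw [hr, hr', e1]
  have hβl : ∀ s s' r, β (s * s') r = β s r + β s' r := by
    intro s s' r
    refine QuotientGroup.induction_on s (fun x => ?_)
    refine QuotientGroup.induction_on s' (fun x' => ?_)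
    refine QuotientGroup.induction_on r (fun y => ?_)
    rw [← QuotientGroup.mk_mul, hβmk, hβmk, hβmk, hεl]
    exact sign_mul htK _ _ (hε2 x y) (hε2 x' y)
  have hβr : ∀ s r r', β s (r * r') = β s r + β s r' := by
    intro s r r'
    refine QuotientGroup.induction_on s (fun x => ?_)
    refine QuotientGroup.induction_on r (fun y => ?_)
    refine QuotientGroup.induction_on r' (fun y' => ?_)
    rw [← QuotientGroup.mk_mul, hβmk, hβmk, hβmk, hεr]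
    exact sign_mul htK _ _ (hε2 x y) (hε2 x y')
  have hβalt : ∀ s, β s s = 0 := by
    intro s
    refine QuotientGroup.induction_on s (fun x => ?_)
    rw [hβmk, if_pos (hεalt x)]
  have hβU : ∀ b s r, β (actS b s) (actS b r) = β s r := by
    intro b s r
    refine QuotientGroup.induction_on s (fun x => ?_)
    refine QuotientGroup.induction_on r (fun y => ?_)
    rw [hactS, hactS, hβmk, hβmk, hεU]
  have hβψ : ∀ s r, β (ψS s) (ψS r) = β s r := by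
    intro s r
    refine QuotientGroup.induction_on s (fun x => ?_)
    refine QuotientGroup.induction_on r (fun y => ?_)
    rw [hψSmk, hψSmk, hβmk, hβmk, hεψ]
  have hβnd : ∀ s, (∀ r, β s r = 0) → s = 1 := by
    intro s
    refine QuotientGroup.induction_on s (fun x => ?_)
    intro h
    rw [QuotientGroup.eq_one_iff, hR₀]
    intro y
    have := h (y : ↥T ⧸ R₀)
    rw [hβmk] at this
    by_contra hne'
    rw [if_neg hne'] at this
    exact absurd this zmod2_one_ne_zero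
  -- the bound
  haveI hW₀nt : Nontrivial ↥(Blk ρ N χ₁) :=
    ⟨⟨⟨v₁, hv₁B⟩, 0, fun h => hv₁0 (congrArg Subtype.val h)⟩⟩
  obtain ⟨hY', hy0⟩ := B.ycfg hnum.hq.pos H
  have hy : YCfg q ((resRep ρ (Blk ρ N χ₁) B.hL).comp T.subtype) (Y.restrict B.hY)
      (Y'.restrict hY') ψT :=
    { hYY' := hy0.hYY'
      hY'Y := hy0.hY'Y
      cY := by
        intro g
        have := hy0.cY (g : L)
        rw [← hψTc] at this
        exact this
      hYQ := hy0.hYQ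
      hNY := hy0.hNY }
  have hlam' : ∀ z ∈ Subgroup.center ↥T,
      ((resRep ρ (Blk ρ N χ₁) B.hL).comp T.subtype) z
        = lam z • (1 : Module.End K ↥(Blk ρ N χ₁)) := by
    intro z hz
    refine LinearMap.ext (fun w => Subtype.ext ?_)
    show ρ (z : L) (w : W) = _
    rw [hscal _ (hzN z hz) _ w.2, hlamdef]
    rfl
  have hbound : Nat.card (↥T ⧸ R₀) ≤ (q - 1) ^ 2 * Nat.card {s : ↥T ⧸ R₀ // ψS s = s} := by
    rw [hψSdef]
    exact mec_bound q htK hqK H.hT _ _ _ ψT hψTq hy hcl2 lam hlam' R₀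
      (fun x => by rw [hR₀]; exact forall_congr' (fun y => by rw [hε])) hψR
  have htriv := fermat_parity' q m hm hqm hSc hSexp hodd actS hcomm ψS hψSq ψU hψUq hcs hsurj
    β hβl hβr hβalt hβU hβψ hβnd hbound
  -- hence `T = R₀`
  have hM : ∀ a ∈ T, ∀ b ∈ U, a * b * a⁻¹ * b⁻¹ ∈ R₀.map T.subtype := by
    intro a ha b hb
    have h1 : actS ⟨b, hb⟩ ((⟨a, ha⟩ : ↥T) : ↥T ⧸ R₀) = ((⟨a, ha⟩ : ↥T) : ↥T ⧸ R₀) := by
      rw [htriv]; rfl
    rw [hactS] at h1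
    have h2 := QuotientGroup.eq.mp h1.symm
    have h3 : (⟨a, ha⟩ : ↥T) * ((⟨a, ha⟩ : ↥T)⁻¹ * cjU ⟨b, hb⟩ ⟨a, ha⟩)⁻¹ * (⟨a, ha⟩ : ↥T)⁻¹ ∈ R₀ :=
      hR₀n.conj_mem _ (R₀.inv_mem h2) _
    refine Subgroup.mem_map.mpr ⟨_, h3, ?_⟩
    simp only [map_mul, map_inv, Subgroup.coe_subtype, hcjU]
    group
  have hMn : (R₀.map T.subtype).Normal := by
    refine normal_of_sup T U _ hsup ?_ ?_
    · intro a ha m hm'
      obtain ⟨r, hr, rfl⟩ := Subgroup.mem_map.mp hm'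
      exact Subgroup.mem_map.mpr ⟨⟨a, ha⟩ * r * (⟨a, ha⟩ : ↥T)⁻¹, hR₀n.conj_mem r hr _, rfl⟩
    · intro b hb m hm'
      obtain ⟨r, hr, rfl⟩ := Subgroup.mem_map.mp hm'
      exact Subgroup.mem_map.mpr ⟨cjU ⟨b, hb⟩ r, hUR ⟨b, hb⟩ r hr, hcjU ⟨b, hb⟩ r⟩
  have hTM := hgen _ hMn hM
  have hall : ∀ x : ↥T, x ∈ R₀ := by
    intro x
    obtain ⟨r, hr, hrx⟩ := Subgroup.mem_map.mp (hTM x.2)
    have : r = x := Subtype.ext hrx
    rw [← this]
    exact hr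
  apply hnab
  rw [eq_top_iff]
  intro x _
  rw [Subgroup.mem_center_iff]
  intro y
  have hc1 : ρ ((x : L) * y * (x : L)⁻¹ * (y : L)⁻¹) = 1 := by
    apply B.hspread
    intro a w hw
    have hxa : (φ ^ a) (x : L) ∈ T := (H.hφT.pow a) _ x.2
    have hya : (φ ^ a) (y : L) ∈ T := (H.hφT.pow a) _ y.2
    have e : (φ ^ a) ((x : L) * y * (x : L)⁻¹ * (y : L)⁻¹)
        = (((⟨_, hxa⟩ : ↥T) * ⟨_, hya⟩ * (⟨_, hxa⟩ : ↥T)⁻¹ * (⟨_, hya⟩ : ↥T)⁻¹ : ↥T) : L) := by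
      simp only [map_mul, map_inv, Subgroup.coe_mul, Subgroup.coe_inv]
    rw [e, hscal _ (hzN _ (hcl2 _ _)) w hw, ← hlamdef, ← hε, (hR₀ _).mp (hall _) _, one_smul]
  have hc2 : (x : L) * y * (x : L)⁻¹ * (y : L)⁻¹ = 1 := hfaith (by rw [hc1, map_one])
  have hc3 : (y : L) * x = x * y := (comm_elt_eq_one_iff _ _).mp hc2
  exact Subtype.ext hc3

end Cfsg.Agent.Lib.Helper3.Sh
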