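import Mathlib
import Cfsg.Agent.Lib.Helper3.PqV
import Cfsg.Agent.Lib.Helper3.PqJ
import Cfsg.Agent.Lib.Helper3.PqK
import Cfsg.Agent.Lib.Helper3.PqF
import Cfsg.Agent.Lib.Helper3.GrN

/-!
# Frobenius groups of order `pq`, part W: the stacked statement, by induction.
-/

set_option autoImplicit false
set_option maxHeartbeats 4000000
set_option maxRecDepth 100000
set_option linter.unusedVariables false
set_option linter.unusedSectionVars false
set_option linter.style.haveILetI false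
set_option linter.deprecated false

namespace Cfsg.Agent.Lib.Helper3.Sh

open Module Cfsg.Agent.Lib.Helper3 Cfsg.Agent.Lib.Helper3.HHC1 Cfsg.Agent.Lib.Helper8.FP4
  Cfsg.Agent.Lib.Helper6.Wd

universe uu vv ww

/-- A prime for which some subgroup is a nontrivial `r`-group divides the order. -/
theorem prime_dvd_card_of_pgroup_ne {L : Type*} [Group L] [Finite L] (r : ℕ) [hr : Fact r.Prime]
    (P : Subgroup L) (hP : IsPGroup r P) (x : L) (hx : x ∈ P) (hx1 : x ≠ 1) : r ∣ Nat.card L := by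
  obtain ⟨n, hn⟩ := IsPGroup.iff_card.mp hP
  have hn0 : n ≠ 0 := by
    intro h0
    rw [h0, pow_zero] at hn
    haveI : Subsingleton ↥P := (Nat.card_eq_one_iff_unique.mp hn).1
    apply hx1
    have : (⟨x, hx⟩ : ↥P) = 1 := Subsingleton.elim _ _
    exact congrArg Subtype.val this
  have h1 : r ∣ Nat.card ↥P := by
    rw [hn]
    exact dvd_pow_self r hn0
  exact h1.trans (Subgroup.card_subgroup_dvd_card P)

/-- A prime dividing the order is different from `p` and `q`. -/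
theorem prime_ne_of_coprime {n p q r : ℕ} (hr : r.Prime) (hrn : r ∣ n) (hcop : n.Coprime (p * q)) :
    r ≠ p ∧ r ≠ q := by
  constructor
  · intro h
    have h1 : r ∣ Nat.gcd n (p * q) := Nat.dvd_gcd hrn (h ▸ dvd_mul_right r q)
    rw [hcop] at h1
    exact hr.one_lt.ne' (Nat.dvd_one.mp h1)
  · intro h
    have h1 : r ∣ Nat.gcd n (p * q) := Nat.dvd_gcd hrn (h ▸ dvd_mul_left r p)
    rw [hcop] at h1
    exact hr.one_lt.ne' (Nat.dvd_one.mp h1)

/-- A Fermat-type prime has base two. -/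
theorem fermat_base {q t m : ℕ} (hq : q.Prime) (ht : t.Prime) (hq2 : q ≠ 2) (h : q = t ^ m + 1) :
    t = 2 ∧ 1 ≤ m := by
  have hm : m ≠ 0 := by
    intro h0
    rw [h0, pow_zero] at h
    exact hq2 h
  refine ⟨?_, Nat.one_le_iff_ne_zero.mpr hm⟩
  have hodd : Odd q := hq.eq_two_or_odd'.resolve_left hq2
  have heven : Even (t ^ m) := by
    by_contra hne
    rw [Nat.not_even_iff_odd] at hne
    have : Even q := by
      rw [h]
      exact hne.add_one
    exact (Nat.not_even_iff_odd.mpr hodd) this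
  rw [Nat.even_pow] at heven
  exact (Nat.Prime.even_iff ht).mp heven.1

/-- The step for a faithful representation. -/
theorem pq_stepD (p q k t u : ℕ) (hnum : PQNum p q k) [ht : Fact t.Prime] [hu : Fact u.Prime]
    (htu : t ≠ u) {K : Type ww} [Field K] [IsAlgClosed K] (hpK : (p : K) ≠ 0) (hqK : (q : K) ≠ 0)
    (htK : (t : K) ≠ 0)
    {L : Type uu} [Group L] [Finite L] {W : Type vv} [AddCommGroup W] [Module K W]
    [FiniteDimensional K W] (ρ : Representation K L W) (X X' Y Y' : Module.End K W)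
    (φ ψ : MulAut L) (T U : Subgroup L) (hfaith : Function.Injective ρ)
    (IHL : ∀ (L' : Type uu) [Group L'] [Finite L'] (ρ' : Representation K L' W)
      (φ' ψ' : MulAut L') (T' U' : Subgroup L'), Nat.card L' < Nat.card L →
      PQGood p q k t u ρ' X X' Y Y' φ' ψ' T' U')
    (IHW : ∀ (W' : Type vv) [AddCommGroup W'] [Module K W'] [FiniteDimensional K W']
      (ρ' : Representation K L W') (X₁ X₁' Y₁ Y₁' : Module.End K W'),
      finrank K W' < finrank K W → PQGood p q k t u ρ' X₁ X₁' Y₁ Y₁' φ ψ T U) :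
    PQGood p q k t u ρ X X' Y Y' φ ψ T U := by
  classical
  intro H a ha b hb
  by_contra hne₀
  haveI : Fact q.Prime := ⟨hnum.hq⟩
  obtain ⟨hirr, hsup, r4a, r4b⟩ :=
    pq_struct p q k t u htu htK ρ X X' Y Y' φ ψ T U H hfaith IHL IHW a b ha hb hne₀
  have hab : a * b ≠ b * a := fun h => hne₀ (by rw [← map_mul, ← map_mul, h])
  have hne : ∃ a₀ ∈ T, ∃ b₀ ∈ U, a₀ * b₀ ≠ b₀ * a₀ := ⟨a, ha, b, hb, hab⟩
  haveI hTn := H.hTn
  haveI : Nontrivial W := by
    by_contra hnon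
    rw [not_nontrivial_iff_subsingleton] at hnon
    exact hne₀ (LinearMap.ext (fun w => Subsingleton.elim _ _))
  have ha1 : a ≠ 1 := by
    intro h; apply hab; rw [h, one_mul, mul_one]
  have hb1 : b ≠ 1 := by
    intro h; apply hab; rw [h, one_mul, mul_one]
  have htL : t ∣ Nat.card L := prime_dvd_card_of_pgroup_ne t T H.hT a ha ha1
  have huL : u ∣ Nat.card L := prime_dvd_card_of_pgroup_ne u U H.hU b hb hb1
  obtain ⟨htp, htq⟩ := prime_ne_of_coprime ht.out htL H.hcop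
  obtain ⟨hup, huq⟩ := prime_ne_of_coprime hu.out huL H.hcop
  -- the centre of `T`
  obtain ⟨N, hNdef⟩ : ∃ N : Subgroup L, N = (Subgroup.center ↥T).map T.subtype := ⟨_, rfl⟩
  have hchar : ∀ α : MulAut ↥T, ∀ z ∈ Subgroup.center ↥T, α z ∈ Subgroup.center ↥T :=
    fun α z hz => center_aut_mem α z hz
  haveI hNn : N.Normal := by rw [hNdef]; exact char_map_normal T _ hchar
  have hNφ : Inv φ N := by rw [hNdef]; exact char_map_inv T _ hchar φ H.hφT
  have hNψ : Inv ψ N := by rw [hNdef]; exact char_map_inv T _ hchar ψ H.hψT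
  have hNT : N ≤ T := by rw [hNdef]; exact Subgroup.map_subtype_le _
  have hNne : N ≠ ⊥ := by
    haveI : Nontrivial ↥T := ⟨⟨⟨a, ha⟩, 1, fun h => ha1 (congrArg Subtype.val h)⟩⟩
    haveI := H.hT.center_nontrivial
    obtain ⟨z, hz⟩ := exists_ne (1 : ↥(Subgroup.center ↥T))
    intro hbot
    have h1 : ((z : ↥T) : L) ∈ N := by
      rw [hNdef]
      exact Subgroup.mem_map.mpr ⟨z, z.2, rfl⟩
    rw [hbot, Subgroup.mem_bot] at h1
    apply hz
    apply Subtype.ext
    apply Subtype.ext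
    exact h1
  have hTN : ∀ a ∈ T, ∀ z ∈ N, a * z = z * a := by
    intro a' ha' z hz
    rw [hNdef] at hz
    obtain ⟨z', hz', rfl⟩ := Subgroup.mem_map.mp hz
    have := Subgroup.mem_center_iff.mp hz' ⟨a', ha'⟩
    exact congrArg Subtype.val this
  rcases pq_blocks hnum htK H hfaith hirr hsup hup huq htp htq N hNT hNφ hNψ hNne hTN with
    hNX | ⟨χ₁, hχ₁, hYinv, hNY, hspread⟩
  · obtain ⟨a₀, ha₀, b₀, hb₀, h₀⟩ := hne
    exact h₀ (typeP_end hnum htu htp htq hpK htK H hfaith hsup r4b hNX a₀ ha₀ b₀ hb₀)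
  have B : QBlk q ρ Y φ (Blk ρ N χ₁) :=
    ⟨fun g w hw => rho_mem_Blk ρ N χ₁ g w hw, hYinv, hNY, hspread⟩
  have hstep1 := typeQ_step1 hnum htq hqK htK H hfaith _ B
  have hstep2 := typeQ_step2 hnum htu H hsup r4b hstep1 hne
  obtain ⟨hY', hy0⟩ := B.ycfg hnum.hq.pos H
  have hstar0 : ∀ a' ∈ T, resRep ρ (Blk ρ N χ₁) B.hL (ψ a') = resRep ρ (Blk ρ N χ₁) B.hL a' := by
    by_cases hq2 : q = 2
    · intro a' _
      exact star_two' hq2 hy0 a'
    by_cases hex : ∀ m : ℕ, q ≠ t ^ m + 1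
    · exact star_nm (fun h => htq h.symm) hex hqK htK hy0 T H.hT H.hψT
    by_cases hTab : ∀ x ∈ T, ∀ y ∈ T, x * y = y * x
    · refine star_ab hy0 T H.hψT hTab ?_
      obtain ⟨n, hn⟩ := IsPGroup.iff_card.mp H.hT
      rw [hn, Nat.cast_pow]
      exact pow_ne_zero _ htK
    exfalso
    push Not at hex
    obtain ⟨m, hqm⟩ := hex
    obtain ⟨ht2, hm⟩ := fermat_base hnum.hq ht.out hq2 hqm
    have hnab : Subgroup.center ↥T ≠ ⊤ := by
      intro htop
      apply hTab
      intro x hx y hy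
      have h1 : (⟨y, hy⟩ : ↥T) ∈ Subgroup.center ↥T := by rw [htop]; exact Subgroup.mem_top _
      have := Subgroup.mem_center_iff.mp h1 ⟨x, hx⟩
      exact congrArg Subtype.val this
    have hqm' : q = 2 ^ m + 1 := by rw [hqm, ht2]
    exact mec_main hnum htu ht2 m hm hqm' hqK htK H hfaith hsup r4a r4b hne hnab N hNdef χ₁ hχ₁ B
      hstep2
  have hstar : ∀ a' ∈ T, ∀ w ∈ Blk ρ N χ₁, ρ (ψ a') w = ρ a' w := by
    intro a' ha' w hw
    have h1 := hstar0 a' ha'
    have h2 : (resRep ρ (Blk ρ N χ₁) B.hL (ψ a')) ⟨w, hw⟩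
        = (resRep ρ (Blk ρ N χ₁) B.hL a') ⟨w, hw⟩ := by rw [h1]
    exact congrArg Subtype.val h2
  obtain ⟨a₀, ha₀, b₀, hb₀, h₀⟩ := hne
  exact h₀ (typeQ_step3 H hfaith _ B hstep2 hstar a₀ ha₀ b₀ hb₀)

/-- The stacked statement. -/
theorem pq_st_main (p q k t u : ℕ) (hnum : PQNum p q k) [ht : Fact t.Prime] [hu : Fact u.Prime]
    (htu : t ≠ u) {K : Type ww} [Field K] [IsAlgClosed K] (hpK : (p : K) ≠ 0) (hqK : (q : K) ≠ 0)
    (htK : (t : K) ≠ 0) :
    ∀ (M : ℕ) (L : Type uu) [Group L] [Finite L] (W : Type vv) [AddCommGroup W] [Module K W]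
      [FiniteDimensional K W] (ρ : Representation K L W) (X X' Y Y' : Module.End K W)
      (φ ψ : MulAut L) (T U : Subgroup L), Nat.card L + finrank K W = M →
      PQGood p q k t u ρ X X' Y Y' φ ψ T U := by
  intro M
  induction M using Nat.strong_induction_on with
  | _ M IHM =>
  intro L _ _ W _ _ _ ρ X X' Y Y' φ ψ T U hM
  by_cases hfaith : Function.Injective ρ
  swap
  · exact pq_stepA p q k t u hnum ρ X X' Y Y' φ ψ T U
      (fun L' _ _ ρ' φ' ψ' T' U' hlt =>
        IHM (Nat.card L' + finrank K W) (by omega) L' W ρ' X X' Y Y' φ' ψ' T' U' rfl) hfaith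
  exact pq_stepD p q k t u hnum htu hpK hqK htK ρ X X' Y Y' φ ψ T U hfaith
    (fun L' _ _ ρ' φ' ψ' T' U' hlt =>
      IHM (Nat.card L' + finrank K W) (by omega) L' W ρ' X X' Y Y' φ' ψ' T' U' rfl)
    (fun W' _ _ _ ρ' X₁ X₁' Y₁ Y₁' hlt =>
      IHM (Nat.card L + finrank K W') (by omega) L W' ρ' X₁ X₁' Y₁ Y₁' φ ψ T U rfl)

end Cfsg.Agent.Lib.Helper3.Sh
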