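import Mathlib
import Cfsg.Agent.Lib.Helper3.PqW
import Cfsg.Agent.Lib.Helper3.PqG
import Cfsg.Agent.Lib.Helper3.PqB
import Cfsg.Agent.Lib.Helper3.GrT
import Cfsg.Agent.Lib.Helper3.GrW
import Cfsg.Agent.Lib.Helper3.GrX

/-!
# Frobenius groups of order `pq`, part X: linearisation of an action on an elementary abelian
group with two operators, the stacked statement for group actions, and the key lemma.
-/

set_option autoImplicit false
set_option maxHeartbeats 4000000
set_option maxRecDepth 100000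
set_option linter.unusedVariables false
set_option linter.unusedSectionVars false
set_option linter.style.haveILetI false
set_option linter.deprecated false

namespace Cfsg.Agent.Lib.Helper3.Sh

open Module Cfsg.Agent.Lib.Helper3 Cfsg.Agent.Lib.Helper3.HHC1 Cfsg.Agent.Lib.Helper8.FP4
  Cfsg.Agent.Lib.Helper6.Wd

universe u v w

/-- Linearisation with two operators. -/
theorem linearise_act2 (ℓ : ℕ) [hℓp : Fact ℓ.Prime] {p q k : ℕ} (hnum : PQNum p q k)
    {Q : Type u} [Group Q] {A : Type v} [CommGroup A] [Finite A] (hexp : ∀ a : A, a ^ ℓ = 1)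
    (s r : MulAut Q) (act : Q →* MulAut A) (sA rA : MulAut A) (hA : AutPQ p q k sA rA)
    (hfpfA : ∀ a, sA a = a → rA a = a → a = 1)
    (hcs : ∀ h a, sA (act h a) = act (s h) (sA a))
    (hcr : ∀ h a, rA (act h a) = act (r h) (rA a)) :
    ∃ (d : ℕ) (σ' : Representation (AlgebraicClosure (ZMod ℓ)) Q
        (Fin d → AlgebraicClosure (ZMod ℓ)))
      (X X' Y Y' : Module.End (AlgebraicClosure (ZMod ℓ)) (Fin d → AlgebraicClosure (ZMod ℓ))),
      X * X' = 1 ∧ X' * X = 1 ∧ Y * Y' = 1 ∧ Y' * Y = 1 ∧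
      (∀ g, X * σ' g = σ' (s g) * X) ∧ (∀ g, Y * σ' g = σ' (r g) * Y) ∧
      X ^ p = 1 ∧ Y ^ q = 1 ∧ Y * X = X ^ k * Y ∧
      (∑ i ∈ Finset.range p, ∑ j ∈ Finset.range q, X ^ i * Y ^ j = 0) ∧
      (∀ g h, σ' g = σ' h → act g = act h) := by
  classical
  have instMod : Module (ZMod ℓ) (Additive A) := AddCommGroup.zmodModule (n := ℓ) (by
    intro x
    obtain ⟨a, rfl⟩ := Additive.ofMul.surjective x
    rw [← ofMul_pow, hexp a, ofMul_one])
  haveI : Finite (Additive A) := inferInstanceAs (Finite A)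
  haveI : FiniteDimensional (ZMod ℓ) (Additive A) := Module.Finite.of_finite
  obtain ⟨lin, hlin⟩ : ∃ lin : (A →* A) → Module.End (ZMod ℓ) (Additive A),
      ∀ φ a, lin φ (Additive.ofMul a) = Additive.ofMul (φ a) :=
    ⟨fun φ => (MonoidHom.toAdditive φ).toZModLinearMap ℓ, fun φ a => rfl⟩
  have hext : ∀ X Y : Module.End (ZMod ℓ) (Additive A),
      (∀ a : A, X (Additive.ofMul a) = Y (Additive.ofMul a)) → X = Y := by
    intro X Y h
    refine LinearMap.ext (fun x => ?_)
    obtain ⟨a, rfl⟩ := Additive.ofMul.surjective x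
    exact h a
  obtain ⟨ρ, hρa⟩ : ∃ ρ : Representation (ZMod ℓ) Q (Additive A),
      ∀ h a, ρ h (Additive.ofMul a) = Additive.ofMul (act h a) := by
    refine ⟨{ toFun := fun h => lin (act h).toMonoidHom
              map_one' := ?_
              map_mul' := ?_ }, fun h a => hlin _ a⟩
    · apply hext
      intro a
      rw [hlin, map_one]
      rfl
    · intro g h
      apply hext
      intro a
      rw [hlin, Module.End.mul_apply, hlin, hlin, map_mul]
      rfl
  -- the operator attached to an automorphism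
  have hop : ∀ α : MulAut A, ∃ S S' : Module.End (ZMod ℓ) (Additive A),
      (∀ a, S (Additive.ofMul a) = Additive.ofMul (α a)) ∧ S * S' = 1 ∧ S' * S = 1 ∧
      (∀ (n : ℕ) (a : A), (S ^ n) (Additive.ofMul a) = Additive.ofMul ((α ^ n) a)) := by
    intro α
    have hS : ∀ a, lin α.toMonoidHom (Additive.ofMul a) = Additive.ofMul (α a) :=
      fun a => hlin _ a
    have hS' : ∀ a, lin (α⁻¹).toMonoidHom (Additive.ofMul a) = Additive.ofMul (α⁻¹ a) :=
      fun a => hlin _ a
    refine ⟨lin α.toMonoidHom, lin (α⁻¹).toMonoidHom, hS, ?_, ?_, ?_⟩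
    · apply hext; intro a
      rw [Module.End.mul_apply, hS', hS, MulAut.apply_inv_self]; rfl
    · apply hext; intro a
      rw [Module.End.mul_apply, hS, hS', MulAut.inv_apply_self]; rfl
    · intro n
      induction n with
      | zero => intro a; rfl
      | succ n ih =>
        intro a
        rw [pow_succ', Module.End.mul_apply, ih, hS, pow_succ', MulAut.mul_apply]
  obtain ⟨S, S', hS, hSS', hS'S, hSpow⟩ := hop sA
  obtain ⟨R, R', hR, hRR', hR'R, hRpow⟩ := hop rA
  have hSP : S ^ p = 1 := by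
    apply hext; intro a
    rw [hSpow, hA.sp]; rfl
  have hRQ : R ^ q = 1 := by
    apply hext; intro a
    rw [hRpow, hA.rq]; rfl
  have hRS : R * S = S ^ k * R := by
    apply hext; intro a
    rw [Module.End.mul_apply, Module.End.mul_apply, hS, hR, hR, hSpow]
    have h1 : (rA * sA) a = (sA ^ k * rA) a := by rw [hA.rs]
    rw [MulAut.mul_apply, MulAut.mul_apply] at h1
    rw [h1]
  have hNS : ∑ i ∈ Finset.range p, ∑ j ∈ Finset.range q, S ^ i * R ^ j = 0 := by
    apply hext; intro a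
    rw [LinearMap.sum_apply, LinearMap.zero_apply]
    have h1 : ∑ i ∈ Finset.range p, (∑ j ∈ Finset.range q, S ^ i * R ^ j) (Additive.ofMul a)
        = Additive.ofMul (∏ i ∈ Finset.range p, ∏ j ∈ Finset.range q, (sA ^ i * rA ^ j) a) := by
      rw [ofMul_prod]
      refine Finset.sum_congr rfl (fun i _ => ?_)
      rw [LinearMap.sum_apply, ofMul_prod]
      refine Finset.sum_congr rfl (fun j _ => ?_)
      rw [Module.End.mul_apply, hRpow, hSpow, MulAut.mul_apply]
    rw [h1, nm2_eq_one hnum hA hfpfA a]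
    rfl
  have hcS : ∀ g, S * ρ g = ρ (s g) * S := by
    intro g
    apply hext; intro a
    rw [Module.End.mul_apply, Module.End.mul_apply, hρa, hS, hS, hρa, hcs]
  have hcR : ∀ g, R * ρ g = ρ (r g) * R := by
    intro g
    apply hext; intro a
    rw [Module.End.mul_apply, Module.End.mul_apply, hρa, hR, hR, hρa, hcr]
  have hρ : ∀ g h, ρ g = ρ h → act g = act h := by
    intro g h hgh
    ext a
    have := congrArg (fun X : Module.End (ZMod ℓ) (Additive A) => X (Additive.ofMul a)) hgh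
    simp only [hρa] at this
    exact Additive.ofMul.injective this
  -- base change
  obtain ⟨φ, hφ⟩ : ∃ φ : Module.End (ZMod ℓ) (Additive A) →+*
      Module.End (AlgebraicClosure (ZMod ℓ))
        (Fin (finrank (ZMod ℓ) (Additive A)) → AlgebraicClosure (ZMod ℓ)),
      Function.Injective φ :=
    ⟨bcEnd (ZMod ℓ) (AlgebraicClosure (ZMod ℓ)) (Additive A),
      bcEnd_injective (ZMod ℓ) (AlgebraicClosure (ZMod ℓ)) (Additive A)⟩
  obtain ⟨σ', hσ'⟩ : ∃ σ' : Representation (AlgebraicClosure (ZMod ℓ)) Q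
      (Fin (finrank (ZMod ℓ) (Additive A)) → AlgebraicClosure (ZMod ℓ)),
      ∀ g, σ' g = φ (ρ g) :=
    ⟨(φ : Module.End (ZMod ℓ) (Additive A) →* _).comp ρ, fun g => rfl⟩
  refine ⟨_, σ', φ S, φ S', φ R, φ R', ?_, ?_, ?_, ?_, ?_, ?_, ?_, ?_, ?_, ?_, ?_⟩
  · rw [← map_mul, hSS', map_one]
  · rw [← map_mul, hS'S, map_one]
  · rw [← map_mul, hRR', map_one]
  · rw [← map_mul, hR'R, map_one]
  · intro g; rw [hσ', hσ', ← map_mul, hcS, map_mul]
  · intro g; rw [hσ', hσ', ← map_mul, hcR, map_mul]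
  · rw [← map_pow, hSP, map_one]
  · rw [← map_pow, hRQ, map_one]
  · rw [← map_mul, hRS, map_mul, map_pow]
  · have := congrArg φ hNS
    rw [map_sum, map_zero] at this
    rw [← this]
    refine Finset.sum_congr rfl (fun i _ => ?_)
    rw [map_sum]
    refine Finset.sum_congr rfl (fun j _ => ?_)
    rw [map_mul, map_pow, map_pow]
  · intro g h hgh
    rw [hσ', hσ'] at hgh
    exact hρ g h (hφ hgh)

/-- The stacked statement for group actions. -/
theorem pq_st_act (ℓ : ℕ) [hℓp : Fact ℓ.Prime] {p q k : ℕ} (hnum : PQNum p q k)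
    (t u : ℕ) [ht : Fact t.Prime] [hu : Fact u.Prime] (htu : t ≠ u)
    (hpℓ : p ≠ ℓ) (hqℓ : q ≠ ℓ) (htℓ : t ≠ ℓ)
    {H : Type u} [Group H] [Finite H] {A : Type v} [CommGroup A] [Finite A]
    (hexp : ∀ a : A, a ^ ℓ = 1)
    (s r : MulAut H) (hH : AutPQ p q k s r) (hcopH : (Nat.card H).Coprime (p * q))
    (hfpfH : ∀ g, s g = g → r g = g → g = 1)
    (act : H →* MulAut A) (hact : Function.Injective act)
    (sA rA : MulAut A) (hA : AutPQ p q k sA rA)
    (hfpfA : ∀ a, sA a = a → rA a = a → a = 1)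
    (hcs : ∀ h a, sA (act h a) = act (s h) (sA a))
    (hcr : ∀ h a, rA (act h a) = act (r h) (rA a))
    (T U : Subgroup H) (hTn : T.Normal) (hT : IsPGroup t T) (hU : IsPGroup u U)
    (hsT : Inv s T) (hrT : Inv r T) (hsU : Inv s U) (hrU : Inv r U) :
    ∀ a ∈ T, ∀ b ∈ U, a * b = b * a := by
  obtain ⟨d, σ', X, X', Y, Y', hXX', hX'X, hYY', hY'Y, hcX, hcY, hXP, hYQ, hYX, hN, hinj⟩ :=
    linearise_act2 ℓ hnum hexp s r act sA rA hA hfpfA hcs hcr
  have hgood := pq_st_main p q k t u hnum htu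
    (algClosure_natCast_ne_zero ℓ p hnum.hp hpℓ)
    (algClosure_natCast_ne_zero ℓ q hnum.hq hqℓ)
    (algClosure_natCast_ne_zero ℓ t ht.out htℓ) _ H _ σ' X X' Y Y' s r T U rfl
  have hcfg : PQCfg p q k t u σ' X X' Y Y' s r T U :=
    { hTn := hTn
      hT := hT
      hU := hU
      hφT := hsT
      hψT := hrT
      hφU := hsU
      hψU := hrU
      aut := hH
      hXX' := hXX'
      hX'X := hX'X
      hYY' := hYY'
      hY'Y := hY'Y
      cX := hcX
      cY := hcY
      hXP := hXP
      hYQ := hYQ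
      hYX := hYX
      hN := hN
      hcop := hcopH
      hfpf := hfpfH }
  intro a ha b hb
  have h1 := hgood hcfg a ha b hb
  rw [← map_mul, ← map_mul] at h1
  exact hact (hinj _ _ h1)

/-- A normal invariant `ℓ`-subgroup of a group acting faithfully and irreducibly (with two
operators) on an elementary abelian `ℓ`-group is trivial. -/
theorem ell_core_trivial2 (ℓ : ℕ) [hℓp : Fact ℓ.Prime]
    {H : Type u} [Group H] [Finite H] {A : Type v} [CommGroup A] [Finite A] [Nontrivial A]
    (hexp : ∀ a : A, a ^ ℓ = 1)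
    (s r : MulAut H) (act : H →* MulAut A) (hact : Function.Injective act)
    (sA rA : MulAut A) (hcs : ∀ h a, sA (act h a) = act (s h) (sA a))
    (hcr : ∀ h a, rA (act h a) = act (r h) (rA a))
    (hirr : ∀ B : Subgroup A, (∀ h, ∀ b ∈ B, act h b ∈ B) → Inv sA B → Inv rA B →
      B = ⊥ ∨ B = ⊤) :
    ∀ L : Subgroup H, L.Normal → Inv s L → Inv r L → IsPGroup ℓ L → L = ⊥ := by
  classical
  have hℓA : ℓ ∣ Nat.card A := by
    obtain ⟨a, ha⟩ := exists_ne (1 : A)
    have d1 : orderOf a ∣ ℓ := orderOf_dvd_of_pow_eq_one (hexp a)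
    rcases (Nat.dvd_prime hℓp.out).mp d1 with h1 | h1
    · exact absurd (orderOf_eq_one_iff.mp h1) ha
    · rw [← h1]; exact orderOf_dvd_natCard a
  intro L hLn hsL hrL hLp
  obtain ⟨B, hB⟩ : ∃ B : Subgroup A, ∀ a, a ∈ B ↔ ∀ x ∈ L, act x a = a :=
    ⟨{ carrier := {a | ∀ x ∈ L, act x a = a}
       mul_mem' := by
         intro a b ha hb x hx
         rw [map_mul, ha x hx, hb x hx]
       one_mem' := by intro x _; rw [map_one]
       inv_mem' := by
         intro a ha x hx
         rw [map_inv, ha x hx] }, fun a => Iff.rfl⟩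
  have hB1 : ∀ h, ∀ b ∈ B, act h b ∈ B := by
    intro h b hb
    rw [hB] at hb ⊢
    intro x hx
    have hx' : h⁻¹ * x * h ∈ L := by
      have := hLn.conj_mem x hx h⁻¹
      rwa [inv_inv] at this
    have e : x * h = h * (h⁻¹ * x * h) := by group
    calc act x (act h b) = act (x * h) b := by rw [map_mul]; rfl
      _ = act (h * (h⁻¹ * x * h)) b := by rw [e]
      _ = act h (act (h⁻¹ * x * h) b) := by rw [map_mul]; rfl
      _ = act h b := by rw [hb _ hx']
  have hBinv : ∀ (σ : MulAut H) (σA : MulAut A), Inv σ L →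
      (∀ h a, σA (act h a) = act (σ h) (σA a)) → Inv σA B := by
    intro σ σA hσL hcσ b hb
    rw [hB] at hb ⊢
    intro x hx
    have hx' : σ⁻¹ x ∈ L := by
      rw [← Inv.apply_mem_iff hσL, MulAut.apply_inv_self]; exact hx
    have := hcσ (σ⁻¹ x) b
    rw [MulAut.apply_inv_self, hb _ hx'] at this
    exact this.symm
  have hBne : B ≠ ⊥ := by
    letI : MulAction ↥L A := MulAction.compHom A (act.comp L.subtype)
    have h1 : (1 : A) ∈ MulAction.fixedPoints ↥L A := by
      intro x
      show act (x : H) 1 = 1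
      rw [map_one]
    obtain ⟨b, hb, hb1⟩ := hLp.exists_fixed_point_of_prime_dvd_card_of_fixed_point A hℓA h1
    intro hbot
    apply hb1
    have hbB : b ∈ B := by
      rw [hB]
      intro x hx
      exact hb ⟨x, hx⟩
    rw [hbot, Subgroup.mem_bot] at hbB
    exact hbB.symm
  rcases hirr B hB1 (hBinv s sA hsL hcs) (hBinv r rA hrL hcr) with h | h
  · exact absurd h hBne
  · rw [eq_bot_iff]
    intro x hx
    rw [Subgroup.mem_bot]
    apply hact
    rw [map_one]
    ext a
    have ha : a ∈ B := by rw [h]; exact Subgroup.mem_top a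
    rw [hB] at ha
    rw [ha x hx]
    rfl

/-- The key lemma: a group admitting a fixed-point-free coprime action of a Frobenius group of
order `pq`, acting faithfully and irreducibly on an elementary abelian group compatibly with
that action, is nilpotent as soon as it is nilpotent modulo a nilpotent normal invariant
subgroup. -/
theorem pqKL (ℓ : ℕ) [hℓp : Fact ℓ.Prime] {p q k : ℕ} (hnum : PQNum p q k)
    {H : Type u} [Group H] [Finite H] {A : Type v} [CommGroup A] [Finite A] [Nontrivial A]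
    (hexp : ∀ a : A, a ^ ℓ = 1) (hcopA : (Nat.card A).Coprime (p * q))
    (s r : MulAut H) (hH : AutPQ p q k s r) (hcopH : (Nat.card H).Coprime (p * q))
    (hfpfH : ∀ g, s g = g → r g = g → g = 1)
    (act : H →* MulAut A) (hact : Function.Injective act)
    (sA rA : MulAut A) (hA : AutPQ p q k sA rA)
    (hfpfA : ∀ a, sA a = a → rA a = a → a = 1)
    (hcs : ∀ h a, sA (act h a) = act (s h) (sA a))
    (hcr : ∀ h a, rA (act h a) = act (r h) (rA a))
    (hirr : ∀ B : Subgroup A, (∀ h, ∀ b ∈ B, act h b ∈ B) → Inv sA B → Inv rA B →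
      B = ⊥ ∨ B = ⊤)
    (F : Subgroup H) (hFn : F.Normal) (hsF : Inv s F) (hrF : Inv r F)
    (hFnil : Group.IsNilpotent ↥F)
    (hMF : ∃ k : ℕ, (⊤ : Subgroup H).lowerCentralSeries k ≤ F) :
    Group.IsNilpotent H := by
  classical
  have hℓA : ℓ ∣ Nat.card A := by
    obtain ⟨a, ha⟩ := exists_ne (1 : A)
    have d1 : orderOf a ∣ ℓ := orderOf_dvd_of_pow_eq_one (hexp a)
    rcases (Nat.dvd_prime hℓp.out).mp d1 with h1 | h1
    · exact absurd (orderOf_eq_one_iff.mp h1) ha
    · rw [← h1]; exact orderOf_dvd_natCard a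
  obtain ⟨hℓp', hℓq'⟩ := prime_ne_of_coprime hℓp.out hℓA hcopA
  haveI := hFn
  have hℓtriv := ell_core_trivial2 ℓ hexp s r act hact sA rA hcs hcr hirr
  -- Sylow subgroups of `F`
  have hTinv : ∀ (t : ℕ) [Fact t.Prime] (P : Sylow t ↥F) (ψ : MulAut H), Inv ψ F →
      Inv ψ ((P : Subgroup ↥F).map F.subtype) :=
    fun t _ P ψ hψ => inv_sylow_of_nilpotent F hFnil t P ψ hψ
  have hTn : ∀ (t : ℕ) [Fact t.Prime] (P : Sylow t ↥F),
      ((P : Subgroup ↥F).map F.subtype).Normal := by
    intro t _ P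
    refine ⟨fun y hy g => ?_⟩
    have := hTinv t P (MulAut.conj g) (fun z hz => hFn.conj_mem z hz g) y hy
    rwa [MulAut.conj_apply] at this
  -- the main construction, prime by prime
  have key : ∀ u : ℕ, ∃ N : Subgroup H, N.Normal ∧ (u.Prime → IsPGroup u ↥N) ∧
      (¬ u.Prime → N = ⊥) ∧
      (∀ [Fact u.Prime], ∃ P : Sylow u H, (P : Subgroup H) ≤ N) := by
    intro u
    by_cases hu : u.Prime
    swap
    · refine ⟨⊥, inferInstance, fun h => absurd h hu, fun _ => rfl, ?_⟩
      intro hf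
      exact absurd hf.out hu
    haveI hfu := Fact.mk hu
    obtain ⟨P, hPs, hPr⟩ := exists_inv_sylow_pq hnum hH hcopH u
    obtain ⟨I, hIdef⟩ : ∃ I : Set H, I = ((P : Subgroup H) : Set H) := ⟨_, rfl⟩
    have hIP : ∀ y ∈ I, y ∈ (P : Subgroup H) := by
      intro y hy
      rw [hIdef] at hy
      exact hy
    have hIu : ∀ y ∈ I, ∃ k : ℕ, y ^ (u ^ k) = 1 := fun y hy =>
      pow_of_mem_pgroup P.isPGroup' (hIP y hy)
    obtain ⟨N, hNdef⟩ : ∃ N : Subgroup H, N = Subgroup.normalClosure I := ⟨_, rfl⟩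
    haveI hNn : N.Normal := by rw [hNdef]; exact Subgroup.normalClosure_normal
    -- `N` centralises the Sylow `t`-subgroups of `F` for `t ≠ u`
    have hK3 : ∀ (t : ℕ) [Fact t.Prime], t ≠ u → ∀ (T : Sylow t ↥F), ∀ x ∈ N,
        ∀ y ∈ (T : Subgroup ↥F).map F.subtype, x * y = y * x := by
      intro t ht htu T
      haveI hTnorm := hTn t T
      obtain ⟨C, hCn, hC⟩ := exists_centralizer_normal ((T : Subgroup ↥F).map F.subtype)
      have hTp : IsPGroup t ↥((T : Subgroup ↥F).map F.subtype) := T.isPGroup'.map _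
      have hIC : I ⊆ (C : Set H) := by
        intro y₀ hy₀
        rw [SetLike.mem_coe, hC]
        intro p' hp'
        by_cases htℓ : t = ℓ
        · have hbot : (T : Subgroup ↥F).map F.subtype = ⊥ := by
            subst htℓ
            exact hℓtriv _ hTnorm (hTinv t T s hsF) (hTinv t T r hrF) hTp
          rw [hbot, Subgroup.mem_bot] at hp'
          rw [hp', mul_one, one_mul]
        exact (pq_st_act ℓ hnum t u htu (Ne.symm hℓp') (Ne.symm hℓq') htℓ hexp s r hH hcopH
          hfpfH act hact sA rA hA hfpfA hcs hcr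
          ((T : Subgroup ↥F).map F.subtype) (P : Subgroup H) hTnorm hTp P.isPGroup'
          (hTinv t T s hsF) (hTinv t T r hrF) hPs hPr p' hp' y₀ (hIP y₀ hy₀)).symm
      have hle : N ≤ C := by
        rw [hNdef]; exact Subgroup.normalClosure_le_normal hIC
      intro x hx y hy
      exact (hC x).mp (hle hx) y hy
    -- powers in `F`
    have hpowF : ∀ y ∈ N, ∃ a : ℕ, y ^ (u ^ a) ∈ F := by
      rw [hNdef]
      exact pow_mem_of_lcs_le u ⊤ F hMF I (fun x _ => Subgroup.mem_top x) hIu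
    -- the centraliser of `N`
    obtain ⟨CN, hCNn, hCN⟩ := exists_centralizer_normal N
    obtain ⟨C', hC'def⟩ : ∃ C' : Subgroup ↥F, C' = CN.subgroupOf F := ⟨_, rfl⟩
    haveI hC'n : C'.Normal := by rw [hC'def]; exact hCNn.subgroupOf F
    have hC'mem : ∀ f : ↥F, f ∈ C' ↔ (f : H) ∈ CN := by
      intro f; rw [hC'def]; exact Subgroup.mem_subgroupOf
    obtain ⟨c, hc⟩ : ∃ c : ℕ, C'.index = u ^ c := by
      apply index_eq_prime_pow C' u
      intro t ht htu
      obtain ⟨T⟩ : Nonempty (Sylow t ↥F) := inferInstance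
      refine ⟨T, fun f hf => ?_⟩
      rw [hC'mem, hCN]
      intro x hx
      exact (hK3 t htu T x hx (f : H) ⟨f, hf, rfl⟩).symm
    have hcen : ∀ y ∈ Subgroup.normalClosure I, ∃ a : ℕ, ∀ z ∈ Subgroup.normalClosure I,
        y ^ (u ^ a) * z = z * y ^ (u ^ a) := by
      rw [← hNdef]
      intro y hy
      obtain ⟨a, ha⟩ := hpowF y hy
      refine ⟨a + c, fun z hz => ?_⟩
      have h1 : (⟨y ^ (u ^ a), ha⟩ : ↥F) ^ C'.index ∈ C' := Subgroup.pow_index_mem C' _
      rw [hC'mem, hc] at h1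
      have h2 : y ^ (u ^ (a + c)) ∈ CN := by
        rw [pow_add, pow_mul]
        simpa using h1
      exact (hCN _).mp h2 z hz
    have hNp : IsPGroup u ↥N := by
      rw [hNdef]
      exact isPGroup_normalClosure u I hIu hcen
    refine ⟨N, hNn, fun _ => hNp, fun h => absurd hu h, ?_⟩
    intro _
    refine ⟨P, fun x hx => ?_⟩
    rw [hNdef]
    apply Subgroup.subset_normalClosure
    rw [hIdef]
    exact hx
  choose Nf hNn hNp hN0 hNP using key
  haveI : ∀ u, (Nf u).Normal := hNn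
  have htop : (⨆ u, Nf u) = ⊤ := by
    apply top_of_sylows
    intro u hu
    obtain ⟨P, hP⟩ := hNP u
    exact ⟨P, hP.trans (le_iSup Nf u)⟩
  have h := nilpotent_of_le_iSup_pgroups Nf hNn hNp hN0 ⊤ (by rw [htop])
  exact Group.isNilpotent_top.mp h

end Cfsg.Agent.Lib.Helper3.Sh
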