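import Mathlib
import Cfsg.Agent.Lib.Helper3.PqX
import Cfsg.Agent.Lib.Helper3.ShQ
import Cfsg.Agent.Lib.Helper6.WdB

/-!
# Frobenius groups of order `pq`, part Y: a finite solvable group admitting a fixed-point-free
coprime action of a nonabelian group of order `pq` has a nilpotent normal subgroup with nilpotent
quotient.
-/

set_option autoImplicit false
set_option maxHeartbeats 4000000
set_option maxRecDepth 100000
set_option linter.unusedVariables false
set_option linter.unusedSectionVars false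
set_option linter.style.haveILetI false
set_option linter.deprecated false

namespace Cfsg.Agent.Lib.Helper3.Sh

open Module Cfsg.Agent.Lib.Helper3 Cfsg.Agent.Lib.Helper3.HHC1 Cfsg.Agent.Lib.Helper8.FP4
  Cfsg.Agent.Lib.Helper6.Wd

universe u v

section step

variable {G : Type u} [Group G] [Finite G] {p q k : ℕ} {s r : MulAut G}

theorem pq_key_step (hnum : PQNum p q k) (haut : AutPQ p q k s r)
    (hcop : (Nat.card G).Coprime (p * q)) (hfpf : ∀ g, s g = g → r g = g → g = 1)
    (V : Subgroup G) [hVn : V.Normal] (hsV : Inv s V) (hrV : Inv r V) (hVne : V ≠ ⊥)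
    (hmin : ∀ N : Subgroup G, NIN s r N → N ≤ V → N = V)
    (hVc : ∀ a ∈ V, ∀ b ∈ V, a * b = b * a) (ℓ : ℕ) [hℓp : Fact ℓ.Prime]
    (hexp : ∀ v ∈ V, v ^ ℓ = 1)
    (C : Subgroup G) [hCn : C.Normal] (hC : ∀ g, g ∈ C ↔ ∀ v ∈ V, g * v * g⁻¹ = v)
    (hsC : Inv s C) (hrC : Inv r C)
    (FC : Subgroup (G ⧸ C)) (hFCn : FC.Normal) (hFCs : Inv (quotAut s C hsC) FC)
    (hFCr : Inv (quotAut r C hrC) FC) (hFCnil : Group.IsNilpotent ↥FC)
    (hFCk : ∃ j : ℕ, (⊤ : Subgroup (G ⧸ C)).lowerCentralSeries j ≤ FC) :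
    Group.IsNilpotent (G ⧸ C) := by
  classical
  letI : CommGroup ↥V :=
    { (inferInstance : Group ↥V) with
      mul_comm := fun a b => Subtype.ext (hVc a a.2 b b.2) }
  haveI : Nontrivial ↥V := (Subgroup.nontrivial_iff_ne_bot V).mpr hVne
  obtain ⟨act₀, hact₀⟩ : ∃ act₀ : G →* MulAut ↥V,
      ∀ g (v : ↥V), ((act₀ g v : ↥V) : G) = g * v * g⁻¹ :=
    ⟨MulAut.conjNormal, fun g v => MulAut.conjNormal_apply g v⟩
  have hker : C ≤ act₀.ker := by
    intro g hg
    rw [MonoidHom.mem_ker]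
    ext v
    rw [hact₀]
    exact (hC g).mp hg v v.2
  obtain ⟨act, hact⟩ : ∃ act : G ⧸ C →* MulAut ↥V, ∀ g : G, act (g : G ⧸ C) = act₀ g :=
    ⟨QuotientGroup.lift C act₀ hker, fun g => QuotientGroup.lift_mk _ _ g⟩
  have hinj : Function.Injective act := by
    rw [injective_iff_map_eq_one]
    intro x
    refine QuotientGroup.induction_on x (fun g => ?_)
    intro hg
    rw [hact] at hg
    rw [QuotientGroup.eq_one_iff, hC]
    intro v hv
    have := congrArg (fun φ : MulAut ↥V => ((φ ⟨v, hv⟩ : ↥V) : G)) hg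
    simp only [hact₀, MulAut.one_apply] at this
    exact this
  obtain ⟨sA, rA, hautA, hsA, hrA⟩ : ∃ sA rA : MulAut ↥V, AutPQ p q k sA rA ∧
      (∀ v : ↥V, ((sA v : ↥V) : G) = s v) ∧ (∀ v : ↥V, ((rA v : ↥V) : G) = r v) :=
    ⟨restrictAut s V hsV, restrictAut r V hrV, haut.restrict V hsV hrV, fun v => rfl,
      fun v => rfl⟩
  have hfpfA : ∀ a : ↥V, sA a = a → rA a = a → a = 1 := by
    intro a h1 h2
    apply Subtype.ext
    exact hfpf a (by rw [← hsA, h1]) (by rw [← hrA, h2])
  refine pqKL ℓ hnum (A := ↥V) ?_ (coprime_sub hcop V) (quotAut s C hsC) (quotAut r C hrC)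
    (haut.quot C hsC hrC) (coprime_quot hcop C) (fpf_quot_pq hnum haut hcop hfpf C hsC hrC)
    act hinj sA rA hautA hfpfA ?_ ?_ ?_ FC hFCn hFCs hFCr hFCnil hFCk
  · intro a
    apply Subtype.ext
    have := hexp a a.2
    simpa using this
  · intro h a
    refine QuotientGroup.induction_on h (fun g => ?_)
    rw [quotAut_mk, hact, hact]
    apply Subtype.ext
    rw [hsA, hact₀, hact₀, hsA, map_mul, map_mul, map_inv]
  · intro h a
    refine QuotientGroup.induction_on h (fun g => ?_)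
    rw [quotAut_mk, hact, hact]
    apply Subtype.ext
    rw [hrA, hact₀, hact₀, hrA, map_mul, map_mul, map_inv]
  · intro B hB1 hB2 hB3
    by_cases hBbot : B = ⊥
    · exact Or.inl hBbot
    right
    have hN : NIN s r (B.map V.subtype) := by
      refine ⟨⟨fun x hx g => ?_⟩, ?_, ?_, ?_⟩
      · obtain ⟨b, hb, rfl⟩ := hx
        refine ⟨act₀ g b, ?_, ?_⟩
        · have := hB1 (g : G ⧸ C) b hb
          rw [hact] at this
          exact this
        · exact hact₀ g b
      · rintro _ ⟨b, hb, rfl⟩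
        exact ⟨sA b, hB2 b hb, hsA b⟩
      · rintro _ ⟨b, hb, rfl⟩
        exact ⟨rA b, hB3 b hb, hrA b⟩
      · intro h
        exact hBbot ((Subgroup.map_eq_bot_iff_of_injective _ V.subtype_injective).mp h)
    have hle : B.map V.subtype ≤ V := Subgroup.map_subtype_le _
    have heq := hmin _ hN hle
    rw [eq_top_iff]
    intro v _
    have hv : (v : G) ∈ B.map V.subtype := by rw [heq]; exact v.2
    obtain ⟨b, hb, hbv⟩ := hv
    have : b = v := Subtype.ext hbv
    rw [← this]; exact hb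

end step

/-- The main induction. -/
theorem pq_main {p q k : ℕ} (hnum : PQNum p q k) :
    ∀ (m : ℕ) (G : Type u) [Group G] [Finite G] [Group.IsSolvable G] (s r : MulAut G),
      Nat.card G = m → (Nat.card G).Coprime (p * q) → AutPQ p q k s r →
      (∀ g, s g = g → r g = g → g = 1) →
      ∃ F : Subgroup G, F.Normal ∧ Inv s F ∧ Inv r F ∧ Group.IsNilpotent ↥F ∧
        ∃ j : ℕ, (⊤ : Subgroup G).lowerCentralSeries j ≤ F := by
  intro m
  induction m using Nat.strong_induction_on with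
  | _ m IH =>
    intro G _ _ _ s r hm hcop haut hfpf
    rcases subsingleton_or_nontrivial G with hsub | hnt
    · refine ⟨⊥, inferInstance, ?_, ?_, inferInstance, 0, ?_⟩
      · intro x hx
        rw [Subgroup.mem_bot] at hx ⊢
        rw [hx, map_one]
      · intro x hx
        rw [Subgroup.mem_bot] at hx ⊢
        rw [hx, map_one]
      · intro x _
        rw [Subgroup.mem_bot]
        exact Subsingleton.elim _ _
    obtain ⟨V, hV, hmin⟩ := exists_min_NIN s r
    haveI hVn : V.Normal := hV.1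
    have hsV := hV.2.1
    have hrV := hV.2.2.1
    have hVne := hV.2.2.2
    have hVc := min_comm V hV hmin
    obtain ⟨ℓ, hℓ, hℓdvd, hexp⟩ := min_exp V hV hmin hVc
    haveI := Fact.mk hℓ
    -- the quotient by `V`
    have hltV : Nat.card (G ⧸ V) < m := by rw [← hm]; exact card_quot_lt' V hVne
    obtain ⟨FV, hFVn, hFVs, hFVr, hFVnil, k₁, hk₁⟩ :=
      IH _ hltV (G ⧸ V) (quotAut s V hsV) (quotAut r V hrV) rfl (coprime_quot hcop V)
        (haut.quot V hsV hrV) (fpf_quot_pq hnum haut hcop hfpf V hsV hrV)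
    -- the centraliser of `V`
    obtain ⟨C, hCn, hC⟩ : ∃ C : Subgroup G, C.Normal ∧
        ∀ g, g ∈ C ↔ ∀ v ∈ V, g * v * g⁻¹ = v := by
      refine ⟨(MulAut.conjNormal : G →* MulAut ↥V).ker, inferInstance, fun g => ?_⟩
      rw [MonoidHom.mem_ker]
      constructor
      · intro h v hv
        have := congrArg (fun φ : MulAut ↥V => ((φ ⟨v, hv⟩ : ↥V) : G)) h
        simpa using this
      · intro h
        ext v
        rw [MulAut.conjNormal_apply]
        exact h v v.2
    haveI := hCn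
    have hinvC : ∀ ψ : MulAut G, Inv ψ V → Inv ψ C := by
      intro ψ hψ g hg
      rw [hC] at hg ⊢
      intro v hv
      have hv' : ψ⁻¹ v ∈ V := by
        rw [← Inv.apply_mem_iff hψ, MulAut.apply_inv_self]; exact hv
      have := congrArg ψ (hg _ hv')
      rw [map_mul, map_mul, map_inv, MulAut.apply_inv_self] at this
      exact this
    have hsC := hinvC s hsV
    have hrC := hinvC r hrV
    have hVC : V ≤ C := by
      intro g hg
      rw [hC]
      intro v hv
      rw [hVc g hg v hv, mul_inv_cancel_right]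
    have hCne : C ≠ ⊥ := by
      intro h
      rw [h, le_bot_iff] at hVC
      exact hVne hVC
    have hltC : Nat.card (G ⧸ C) < m := by rw [← hm]; exact card_quot_lt' C hCne
    obtain ⟨FC, hFCn, hFCs, hFCr, hFCnil, hFCk⟩ :=
      IH _ hltC (G ⧸ C) (quotAut s C hsC) (quotAut r C hrC) rfl (coprime_quot hcop C)
        (haut.quot C hsC hrC) (fpf_quot_pq hnum haut hcop hfpf C hsC hrC)
    have hnilC : Group.IsNilpotent (G ⧸ C) :=
      pq_key_step hnum haut hcop hfpf V hsV hrV hVne hmin hVc ℓ hexp C hC hsC hrC FC hFCn hFCs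
        hFCr hFCnil hFCk
    obtain ⟨k₂, hk₂⟩ := Subgroup.nilpotent_iff_lowerCentralSeries.mp hnilC
    -- the subgroup
    haveI := hFVn
    haveI hcn : (FV.comap (QuotientGroup.mk' V)).Normal := hFVn.comap _
    obtain ⟨F, hFdef⟩ : ∃ F : Subgroup G, F = FV.comap (QuotientGroup.mk' V) ⊓ C := ⟨_, rfl⟩
    have hFmem : ∀ g, g ∈ F ↔ (g : G ⧸ V) ∈ FV ∧ g ∈ C := by
      intro g
      rw [hFdef, Subgroup.mem_inf, Subgroup.mem_comap]
      rfl
    have hFn : F.Normal := by
      rw [hFdef]; infer_instance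
    have hFs : Inv s F := by
      intro g hg
      rw [hFmem] at hg ⊢
      refine ⟨?_, hsC g hg.2⟩
      have := hFVs _ hg.1
      rwa [quotAut_mk] at this
    have hFr : Inv r F := by
      intro g hg
      rw [hFmem] at hg ⊢
      refine ⟨?_, hrC g hg.2⟩
      have := hFVr _ hg.1
      rwa [quotAut_mk] at this
    have hFnil : Group.IsNilpotent ↥F := by
      obtain ⟨f, hf⟩ : ∃ f : ↥F →* ↥FV, ∀ y, ((f y : ↥FV) : G ⧸ V) = ((y : G) : G ⧸ V) :=
        ⟨((QuotientGroup.mk' V).comp F.subtype).codRestrict _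
          (fun y => ((hFmem y).mp y.2).1), fun y => rfl⟩
      haveI := hFVnil
      refine Subgroup.isNilpotent_of_ker_le_center f ?_
      intro y hy
      rw [MonoidHom.mem_ker] at hy
      have hyV : (y : G) ∈ V := by
        have := congrArg Subtype.val hy
        rw [hf] at this
        exact (QuotientGroup.eq_one_iff _).mp this
      rw [Subgroup.mem_center_iff]
      intro z
      apply Subtype.ext
      have hzC : (z : G) ∈ C := ((hFmem z).mp z.2).2
      have := (hC z).mp hzC y hyV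
      show (z : G) * y = y * z
      calc (z : G) * y = (z * y * (z : G)⁻¹) * z := by group
        _ = y * z := by rw [this]
    refine ⟨F, hFn, hFs, hFr, hFnil, max k₁ k₂, ?_⟩
    intro x hx
    rw [hFmem]
    constructor
    · have h2 : ((x : G) : G ⧸ V) ∈
          ((⊤ : Subgroup G).map (QuotientGroup.mk' V)).lowerCentralSeries (max k₁ k₂) := by
        rw [← Subgroup.map_lowerCentralSeries]
        exact ⟨x, hx, rfl⟩
      have h3 := Subgroup.lowerCentralSeries_mono (max k₁ k₂)
        (le_top : (⊤ : Subgroup G).map (QuotientGroup.mk' V) ≤ ⊤) h2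
      exact hk₁ (Subgroup.lowerCentralSeries_antitone _ (le_max_left k₁ k₂) h3)
    · have h2 : ((x : G) : G ⧸ C) ∈
          ((⊤ : Subgroup G).map (QuotientGroup.mk' C)).lowerCentralSeries (max k₁ k₂) := by
        rw [← Subgroup.map_lowerCentralSeries]
        exact ⟨x, hx, rfl⟩
      have h3 := Subgroup.lowerCentralSeries_mono (max k₁ k₂)
        (le_top : (⊤ : Subgroup G).map (QuotientGroup.mk' C) ≤ ⊤) h2
      have h4 := Subgroup.lowerCentralSeries_antitone _ (le_max_right k₁ k₂) h3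
      rw [hk₂, Subgroup.mem_bot] at h4
      exact (QuotientGroup.eq_one_iff x).mp h4

/-- A quotient is nilpotent when the lower central series ends in the subgroup. -/
theorem nilpotent_quot_of_lcs_le {G : Type*} [Group G] (F : Subgroup G) [F.Normal] (j : ℕ)
    (h : (⊤ : Subgroup G).lowerCentralSeries j ≤ F) : Group.IsNilpotent (G ⧸ F) := by
  rw [Subgroup.nilpotent_iff_lowerCentralSeries]
  refine ⟨j, ?_⟩
  have h1 : ((⊤ : Subgroup G).lowerCentralSeries j).map (QuotientGroup.mk' F)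
      = ((⊤ : Subgroup G).map (QuotientGroup.mk' F)).lowerCentralSeries j :=
    Subgroup.map_lowerCentralSeries _ _ _
  have h2 : (⊤ : Subgroup G).map (QuotientGroup.mk' F) = ⊤ := by
    rw [← MonoidHom.range_eq_map]
    exact MonoidHom.range_eq_top.mpr (QuotientGroup.mk'_surjective F)
  rw [h2] at h1
  rw [← h1, eq_bot_iff]
  rintro _ ⟨x, hx, rfl⟩
  rw [Subgroup.mem_bot]
  exact (QuotientGroup.eq_one_iff x).mpr (h hx)

/-- Generators of a nonabelian group of order `pq`. -/
theorem exists_pq_gens {A : Type*} [Group A] [Finite A] (p q : ℕ) (hp : p.Prime) (hq : q.Prime)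
    (hqp : q < p) (hA : Nat.card A = p * q) (hAna : ¬ ∀ a b : A, a * b = b * a) :
    ∃ (k : ℕ) (x y : A), PQNum p q k ∧ x ^ p = 1 ∧ y ^ q = 1 ∧ y * x = x ^ k * y ∧
      ∀ a : A, ∃ i j : ℕ, a = x ^ i * y ^ j := by
  classical
  haveI := Fact.mk hp
  haveI := Fact.mk hq
  obtain ⟨x, hx⟩ := exists_prime_orderOf_dvd_card' p (by rw [hA]; exact dvd_mul_right p q)
  obtain ⟨y, hy⟩ := exists_prime_orderOf_dvd_card' q (by rw [hA]; exact dvd_mul_left q p)
  have hxp : x ^ p = 1 := by rw [← hx]; exact pow_orderOf_eq_one x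
  have hyq : y ^ q = 1 := by rw [← hy]; exact pow_orderOf_eq_one y
  obtain ⟨P, hPdef⟩ : ∃ P : Subgroup A, P = Subgroup.zpowers x := ⟨_, rfl⟩
  have hPcard : Nat.card P = p := by rw [hPdef, Nat.card_zpowers, hx]
  have hPidx : P.index = q := by
    have h1 := P.card_mul_index
    rw [hPcard, hA] at h1
    exact Nat.eq_of_mul_eq_mul_left hp.pos h1
  have hminfac : (Nat.card A).minFac = q := by
    rw [hA]
    have h1 : (p * q).minFac ∣ p * q := Nat.minFac_dvd _
    have h2 : (p * q).minFac.Prime := Nat.minFac_prime (by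
      intro h
      have := hp.two_le
      have := hq.two_le
      nlinarith)
    have h3 : (p * q).minFac ≤ q := Nat.minFac_le_of_dvd hq.two_le (dvd_mul_left q p)
    rcases (Nat.Prime.dvd_mul h2).mp h1 with h | h
    · have := (Nat.prime_dvd_prime_iff_eq h2 hp).mp h
      omega
    · exact (Nat.prime_dvd_prime_iff_eq h2 hq).mp h
  haveI hPn : P.Normal := Subgroup.normal_of_index_eq_minFac_card (by rw [hPidx, hminfac])
  have hconj : y * x * y⁻¹ ∈ P :=
    hPn.conj_mem x (by rw [hPdef]; exact Subgroup.mem_zpowers x) y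
  rw [hPdef, ← mem_powers_iff_mem_zpowers] at hconj
  obtain ⟨k, hk⟩ := (Submonoid.mem_powers_iff _ _).mp hconj
  have hrel : y * x = x ^ k * y := by rw [hk]; group
  have hkq : k ^ q ≡ 1 [MOD p] := by
    have h1 := rel_pow x y k hrel q 1
    rw [hyq, one_mul, mul_one, pow_one, one_mul] at h1
    have h2 : x ^ (k ^ q) = x ^ 1 := by rw [pow_one]; exact h1.symm
    have h3 := pow_eq_pow_iff_modEq.mp h2
    rw [hx] at h3
    exact h3
  obtain ⟨Q, hQdef⟩ : ∃ Q : Subgroup A, Q = Subgroup.zpowers y := ⟨_, rfl⟩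
  have hQcard : Nat.card Q = q := by rw [hQdef, Nat.card_zpowers, hy]
  have hne : p ≠ q := by omega
  have htop : P ⊔ Q = ⊤ := by
    apply Subgroup.eq_top_of_card_eq
    have d1 : p ∣ Nat.card ↥(P ⊔ Q) := hPcard ▸ Subgroup.card_dvd_of_le le_sup_left
    have d2 : q ∣ Nat.card ↥(P ⊔ Q) := hQcard ▸ Subgroup.card_dvd_of_le le_sup_right
    have d3 : p * q ∣ Nat.card ↥(P ⊔ Q) :=
      Nat.Coprime.mul_dvd_of_dvd_of_dvd ((Nat.coprime_primes hp hq).mpr hne) d1 d2
    have d4 : Nat.card ↥(P ⊔ Q) ∣ Nat.card A := Subgroup.card_subgroup_dvd_card _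
    rw [hA] at d4 ⊢
    exact Nat.dvd_antisymm d4 d3
  have hgen : ∀ a : A, ∃ i j : ℕ, a = x ^ i * y ^ j := by
    intro a
    have ha : a ∈ ((P ⊔ Q : Subgroup A) : Set A) := by
      rw [htop]; exact Set.mem_univ a
    rw [Subgroup.normal_mul] at ha
    obtain ⟨x', hx', y', hy', rfl⟩ := Set.mem_mul.mp ha
    rw [SetLike.mem_coe, hPdef, ← mem_powers_iff_mem_zpowers] at hx'
    rw [SetLike.mem_coe, hQdef, ← mem_powers_iff_mem_zpowers] at hy'
    obtain ⟨i, rfl⟩ := (Submonoid.mem_powers_iff _ _).mp hx'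
    obtain ⟨j, rfl⟩ := (Submonoid.mem_powers_iff _ _).mp hy'
    exact ⟨i, j, rfl⟩
  have hk1 : ¬ k ≡ 1 [MOD p] := by
    intro h
    apply hAna
    have h2 : x ^ k = x ^ 1 := pow_eq_pow_iff_modEq.mpr (by rw [hx]; exact h)
    rw [h2, pow_one] at hrel
    have hc : Commute x y := hrel.symm
    have hxc : x ∈ Subgroup.center A := by
      rw [Subgroup.mem_center_iff]
      intro g
      obtain ⟨i, j, rfl⟩ := hgen g
      exact ((((Commute.refl x).pow_right i).mul_right (hc.pow_right j)).eq).symm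
    have hyc : y ∈ Subgroup.center A := by
      rw [Subgroup.mem_center_iff]
      intro g
      obtain ⟨i, j, rfl⟩ := hgen g
      exact (((hc.symm.pow_right i).mul_right ((Commute.refl y).pow_right j)).eq).symm
    intro a b
    obtain ⟨i, j, rfl⟩ := hgen a
    have ha : x ^ i * y ^ j ∈ Subgroup.center A :=
      Subgroup.mul_mem _ (Subgroup.pow_mem _ hxc i) (Subgroup.pow_mem _ hyc j)
    exact (Subgroup.mem_center_iff.mp ha b).symm
  exact ⟨k, x, y, ⟨hp, hq, hne, hkq, hk1⟩, hxp, hyq, hrel, hgen⟩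

/-- The theorem, for the larger prime first. -/
theorem pq_final {G A : Type*} [Group G] [Finite G] [Group.IsSolvable G] [Group A] [Finite A]
    [MulDistribMulAction A G] (p q : ℕ) (hp : p.Prime) (hq : q.Prime) (hqp : q < p)
    (hA : Nat.card A = p * q) (hAna : ¬ IsMulCommutative A)
    (hcop : (Nat.card G).Coprime (p * q))
    (hfpf : ∀ g : G, (∀ a : A, a • g = g) → g = 1) :
    ∃ F : Subgroup G, ∃ hF : F.Normal, Group.IsNilpotent ↥F ∧ Group.IsNilpotent (G ⧸ F) := by
  classical
  obtain ⟨φ, hφ⟩ : ∃ φ : A →* MulAut G, ∀ a g, φ a g = a • g :=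
    ⟨MulDistribMulAction.toMulAut A G, fun a g => rfl⟩
  obtain ⟨k, x, y, hnum, hxp, hyq, hrel, hgen⟩ :=
    exists_pq_gens p q hp hq hqp hA (fun h => hAna ⟨⟨h⟩⟩)
  have haut : AutPQ p q k (φ x) (φ y) :=
    ⟨by rw [← map_pow, hxp, map_one], by rw [← map_pow, hyq, map_one],
      by rw [← map_mul, hrel, map_mul, map_pow]⟩
  have hfpf' : ∀ g, φ x g = g → φ y g = g → g = 1 := by
    intro g hs hr
    apply hfpf g
    intro a
    rw [hφ] at hs hr
    have hσm : x ∈ MulAction.stabilizer A g := hs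
    have hτm : y ∈ MulAction.stabilizer A g := hr
    obtain ⟨i, j, rfl⟩ := hgen a
    exact Subgroup.mul_mem _ (Subgroup.pow_mem _ hσm i) (Subgroup.pow_mem _ hτm j)
  obtain ⟨F, hFn, -, -, hFnil, j, hj⟩ := pq_main hnum _ G (φ x) (φ y) rfl hcop haut hfpf'
  haveI := hFn
  exact ⟨F, hFn, hFnil, nilpotent_quot_of_lcs_le F j hj⟩

end Cfsg.Agent.Lib.Helper3.Sh
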