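import Mathlib
import Cfsg.Agent.Lib.Helper3.Prim2A

set_option autoImplicit false
set_option linter.unusedSectionVars false
open Cfsg

/-! Primitive faithful characters of degree two: normalizers of maximal abelian subgroups. -/

namespace Cfsg.Agent.Lib.Helper3.Prim2

open Cfsg.Agent.Lib.Helper6
open scoped ComplexConjugate

variable {G : Type*} [Group G] [Fintype G]

/-- conjugation by a normalizing element as an endomorphism of the subgroup -/
def cjHom (A : Subgroup G) (g : G) (hg : ∀ a ∈ A, g * a * g⁻¹ ∈ A) : A →* A :=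
  MonoidHom.mk' (fun a => ⟨g * a * g⁻¹, hg a a.2⟩) (by
    intro a b
    apply Subtype.ext
    simp only [Subgroup.coe_mul]
    group)

theorem cjHom_apply (A : Subgroup G) (g : G) (hg : ∀ a ∈ A, g * a * g⁻¹ ∈ A) (a : A) :
    cjHom A g hg a = ⟨g * a * g⁻¹, hg a a.2⟩ := rfl

/-- a normalizing element fixes or swaps the two linear constituents -/
theorem fix_or_swap {χ : G → ℂ} (hχ : IsIrrCharacter G χ) (A : Subgroup G)
    (l m : A →* ℂˣ) (hlm : ∀ a : A, χ a = ((l a : ℂˣ) : ℂ) + ((m a : ℂˣ) : ℂ))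
    (g : G) (hg : ∀ a ∈ A, g * a * g⁻¹ ∈ A) :
    l.comp (cjHom A g hg) = l ∨ (l.comp (cjHom A g hg) = m ∧ m.comp (cjHom A g hg) = l) := by
  classical
  have hcl := IsIrrCharacter.isClassFunction hχ
  set lg := l.comp (cjHom A g hg) with hlg
  set mg := m.comp (cjHom A g hg) with hmg
  have hsum : ∀ a : A, ((lg a : ℂˣ) : ℂ) + ((mg a : ℂˣ) : ℂ) = ((l a : ℂˣ) : ℂ) + ((m a : ℂˣ) : ℂ) := by
    intro a
    have h3 := hlm (cjHom A g hg a)
    rw [cjHom_apply] at h3
    have h5 : χ (g * a * g⁻¹) = χ a := hcl a g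
    simp only at h3
    rw [h5, hlm a] at h3
    exact h3.symm
  by_cases h1 : lg = l
  · left; exact h1
  right
  have hcard : (Nat.card A : ℂ) ≠ 0 := card_ne_zero_complex A
  by_cases h2 : m = lg
  · refine ⟨h2.symm, ?_⟩
    ext a
    have := hsum a
    rw [← h2] at this
    have h3 : ((mg a : ℂˣ) : ℂ) = ((l a : ℂˣ) : ℂ) := by
      have h4 : ((m a : ℂˣ) : ℂ) + ((mg a : ℂˣ) : ℂ) = ((m a : ℂˣ) : ℂ) + ((l a : ℂˣ) : ℂ) := by
        rw [this]; ring
      exact add_left_cancel h4
    exact h3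
  · exfalso
    have hS : ∑ a : A, (((lg a : ℂˣ) : ℂ) + ((mg a : ℂˣ) : ℂ)) * conj ((lg a : ℂˣ) : ℂ) =
        ∑ a : A, (((l a : ℂˣ) : ℂ) + ((m a : ℂˣ) : ℂ)) * conj ((lg a : ℂˣ) : ℂ) := by
      apply Finset.sum_congr rfl
      intro a _
      rw [hsum a]
    simp only [add_mul, Finset.sum_add_distrib] at hS
    rw [sum_hom_mul_conj, sum_hom_mul_conj, sum_hom_mul_conj, sum_hom_mul_conj] at hS
    rw [if_pos rfl, if_neg (Ne.symm h1), if_neg h2] at hS
    by_cases h3 : mg = lg
    · rw [if_pos h3] at hS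
      apply hcard
      have : (2 : ℂ) * (Nat.card A : ℂ) = 0 := by rw [two_mul, hS]; ring
      rcases mul_eq_zero.mp this with h | h
      · norm_num at h
      · exact h
    · rw [if_neg h3] at hS
      apply hcard
      simpa using hS

/-- H2: the centralizer of a noncentral element has index at most two in its normalizer -/
theorem normalizer_index {χ : G → ℂ} (hχ : IsIrrCharacter G χ)
    (hfaith : ∀ g : G, χ g = χ 1 → g = 1) (h2 : χ 1 = 2) {x : G}
    (hx : x ∉ Subgroup.center G) :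
    ∀ n ∈ Subgroup.normalizer ((Subgroup.centralizer ({x} : Set G) : Subgroup G) : Set G),
    ∀ k ∈ Subgroup.normalizer ((Subgroup.centralizer ({x} : Set G) : Subgroup G) : Set G),
      n ∉ Subgroup.centralizer ({x} : Set G) → k ∉ Subgroup.centralizer ({x} : Set G) →
      n * k ∈ Subgroup.centralizer ({x} : Set G) := by
  classical
  set A := Subgroup.centralizer ({x} : Set G) with hA
  have hAc := centralizer_comm hχ hfaith h2 hx
  obtain ⟨l, m, hlm⟩ := two_homs A hAc (IsIrrCharacter.isCharacter hχ) h2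
  have hxA : x ∈ A := by
    rw [hA, Subgroup.mem_centralizer_iff]
    intro h hh
    rw [Set.mem_singleton_iff] at hh
    rw [hh]
  have hnorm : ∀ n ∈ Subgroup.normalizer (A : Set G), ∀ a ∈ A, n * a * n⁻¹ ∈ A := by
    intro n hn a ha
    exact (Subgroup.mem_normalizer_iff.mp hn a).mp ha
  -- an element fixing `l` lies in `A`
  have hfix : ∀ (n : G) (hn : ∀ a ∈ A, n * a * n⁻¹ ∈ A), l.comp (cjHom A n hn) = l → n ∈ A := by
    intro n hn hl
    have hl' : ∀ a : A, l ⟨n * a * n⁻¹, hn a a.2⟩ = l a := by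
      intro a
      have := DFunLike.congr_fun hl a
      exact this
    have hc := commute_of_fix hχ hfaith h2 A l m hlm n hn hl' x hxA
    rw [hA, Subgroup.mem_centralizer_iff]
    intro h hh
    rw [Set.mem_singleton_iff] at hh
    rw [hh]
    exact hc.symm
  intro n hn k hk hnA hkA
  have hn' := hnorm n hn
  have hk' := hnorm k hk
  have hnk' := hnorm (n * k) (Subgroup.mul_mem _ hn hk)
  rcases fix_or_swap hχ A l m hlm n hn' with h | ⟨hn1, hn2⟩
  · exact absurd (hfix n hn' h) hnA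
  rcases fix_or_swap hχ A l m hlm k hk' with h | ⟨hk1, hk2⟩
  · exact absurd (hfix k hk' h) hkA
  apply hfix (n * k) hnk'
  ext a
  have e1 : cjHom A (n * k) hnk' a = cjHom A n hn' (cjHom A k hk' a) := by
    apply Subtype.ext
    simp only [cjHom_apply]
    group
  show ((l (cjHom A (n * k) hnk' a) : ℂˣ) : ℂ) = _
  rw [e1]
  have e2 : l (cjHom A n hn' (cjHom A k hk' a)) = m (cjHom A k hk' a) :=
    DFunLike.congr_fun hn1 (cjHom A k hk' a)
  have e3 : m (cjHom A k hk' a) = l a := DFunLike.congr_fun hk2 a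
  rw [e2, e3]

/-- H4: the group is not abelian -/
theorem exists_not_mem_center {χ : G → ℂ} (hχ : IsIrrCharacter G χ) (h2 : χ 1 = 2) :
    ∃ x : G, x ∉ Subgroup.center G := by
  by_contra hcon
  push Not at hcon
  obtain ⟨n, ρ, hirr, hρ⟩ := hχ
  have hcomm : ∀ a b : G, a * b = b * a := by
    intro a b
    exact ((Subgroup.mem_center_iff.mp (hcon b)) a)
  have h1 := finrank_eq_one_of_comm hcomm ρ
  have h3 : ρ.character 1 = (Module.finrank ℂ (Fin n → ℂ) : ℂ) := Representation.char_one ρ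
  rw [h1, hρ, h2] at h3
  norm_num at h3

/-- H3: abelian normal subgroups are central -/
theorem normal_abelian_le_center (χ : IrrCharacter G)
    (hfaith : ∀ g : G, (χ : G → ℂ) g = (χ : G → ℂ) 1 → g = 1) (h2 : (χ : G → ℂ) 1 = 2)
    (hprim : ∀ H : Subgroup G, H ≠ ⊤ → ∀ θ : H → ℂ, Cfsg.IsCharacter H θ →
      (χ : G → ℂ) ≠ Cfsg.indFun H θ)
    (A : Subgroup G) (hAn : A.Normal) (hA : ∀ a ∈ A, ∀ b ∈ A, a * b = b * a) :
    A ≤ Subgroup.center G := by
  classical
  obtain ⟨l, m, hlm⟩ := two_homs A hA (IsIrrCharacter.isCharacter χ.2) h2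
  let θ : IrrCharacter A := ⟨fun a => ((l a : ℂˣ) : ℂ), isIrrCharacter_of_hom l⟩
  have hcard : (Nat.card A : ℂ) ≠ 0 := card_ne_zero_complex A
  have hc : Cfsg.classInner (fun n : A => (χ : G → ℂ) n) (θ : A → ℂ) ≠ 0 := by
    unfold Cfsg.classInner
    have : ∑ a : A, (fun n : A => (χ : G → ℂ) n) a * conj ((θ : A → ℂ) a) =
        ∑ a : A, (((l a : ℂˣ) : ℂ) + ((m a : ℂˣ) : ℂ)) * conj ((l a : ℂˣ) : ℂ) := by
      apply Finset.sum_congr rfl
      intro a _
      simp only
      rw [hlm a]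
    rw [this]
    simp only [add_mul, Finset.sum_add_distrib]
    rw [sum_hom_mul_conj, sum_hom_mul_conj, if_pos rfl]
    by_cases h3 : m = l
    · rw [if_pos h3]
      intro h
      rcases mul_eq_zero.mp h with h | h
      · exact hcard (inv_eq_zero.mp h)
      · apply hcard
        have : (2 : ℂ) * (Nat.card A : ℂ) = 0 := by rw [two_mul, h]
        rcases mul_eq_zero.mp this with h | h
        · norm_num at h
        · exact h
    · rw [if_neg h3, add_zero]
      intro h
      rcases mul_eq_zero.mp h with h | h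
      · exact hcard (inv_eq_zero.mp h)
      · exact hcard h
  set T := inertia A hAn (θ : A → ℂ) with hT
  have hNT : A ≤ T := le_inertia A hAn (IsIrrCharacter.isClassFunction θ.2)
  have hstab : ∀ g : G, conjFun A hAn (θ : A → ℂ) g = (θ : A → ℂ) → g ∈ T := by
    intro g hg
    rw [hT, mem_inertia]; exact hg
  obtain ⟨ψ, _, hind⟩ := exists_indFun_eq_of_stab A hAn T hNT θ hstab χ hc
  have hTtop : T = ⊤ := by
    by_contra hne
    exact hprim T hne (ψ : T → ℂ) (IsIrrCharacter.isCharacter ψ.2) hind.symm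
  intro a ha
  rw [Subgroup.mem_center_iff]
  intro g
  have hgT : g ∈ T := by rw [hTtop]; exact Subgroup.mem_top g
  rw [hT, mem_inertia] at hgT
  have hg : ∀ a ∈ A, g * a * g⁻¹ ∈ A := fun a ha => hAn.conj_mem a ha g
  have hl : ∀ a : A, l ⟨g * a * g⁻¹, hg a a.2⟩ = l a := by
    intro a
    have := congrFun hgT a
    rw [conjFun_apply] at this
    exact Units.ext this
  exact commute_of_fix χ.2 hfaith h2 A l m hlm g hg hl a ha

end Cfsg.Agent.Lib.Helper3.Prim2
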