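import Mathlib

set_option autoImplicit false

/-! Arithmetic of the class equation for maximal abelian subgroups. -/

namespace Cfsg.Agent.Lib.Helper3.Prim2

/-- basic bound: `g ≤ 2 n t` for a term `t = m (a-1)` with `m n a = g`, `a ≥ 2` -/
theorem term_bound {g m n a : ℕ} (ha : 2 ≤ a) (hp : m * n * a = g) :
    g ≤ 2 * n * (m * (a - 1)) := by
  obtain ⟨b, rfl⟩ : ∃ b, a = b + 1 := ⟨a - 1, by omega⟩
  simp only [Nat.add_sub_cancel]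
  have hb : 1 ≤ b := by omega
  rw [← hp]
  have : m * n * (b + 1) ≤ m * n * (2 * b) := Nat.mul_le_mul_left _ (by omega)
  calc m * n * (b + 1) ≤ m * n * (2 * b) := this
    _ = 2 * n * (m * b) := by ring

theorem arith_one {g m n a : ℕ} (hm : 2 ≤ m) (ha : 2 ≤ a) (hn : n = 1 ∨ n = 2)
    (hp : m * n * a = g) (hs : m * (a - 1) = g - 1) : False := by
  obtain ⟨b, rfl⟩ : ∃ b, a = b + 1 := ⟨a - 1, by omega⟩
  simp only [Nat.add_sub_cancel] at hs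
  rcases hn with rfl | rfl
  · have e : m * 1 * (b + 1) = m * b + m := by ring
    rw [e] at hp
    omega
  · have e : m * 2 * (b + 1) = 2 * (m * b) + 2 * m := by ring
    rw [e] at hp
    omega

theorem arith_two_aux {g m₁ a₁ m₂ a₂ : ℕ} (hm₁ : 2 ≤ m₁) (ha₁ : 2 ≤ a₁) (hm₂ : 2 ≤ m₂)
    (ha₂ : 2 ≤ a₂) (hp₁ : m₁ * 1 * a₁ = g) (hp₂ : m₂ * 2 * a₂ = g)
    (hs : m₁ * (a₁ - 1) + m₂ * (a₂ - 1) = g - 1) : g = 12 := by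
  obtain ⟨b₁, rfl⟩ : ∃ b, a₁ = b + 1 := ⟨a₁ - 1, by omega⟩
  obtain ⟨b₂, rfl⟩ : ∃ b, a₂ = b + 1 := ⟨a₂ - 1, by omega⟩
  simp only [Nat.add_sub_cancel] at hs
  have e1 : m₁ * 1 * (b₁ + 1) = m₁ * b₁ + m₁ := by ring
  have e2 : m₂ * 2 * (b₂ + 1) = 2 * (m₂ * b₂) + 2 * m₂ := by ring
  rw [e1] at hp₁
  rw [e2] at hp₂
  -- m₁ + m₂ = m₂ b₂ + m₂ + 1
  have h3 : m₁ + m₂ = m₂ * b₂ + m₂ + 1 := by omega
  rcases Nat.lt_or_ge b₂ 2 with hb₂ | hb₂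
  · have hb2 : b₂ = 1 := by omega
    subst hb2
    simp only [mul_one] at hp₂ h3 hs
    -- m₁ = m₂ + 1, m₁ (b₁+1) = 4 m₂
    have h4 : m₁ = m₂ + 1 := by omega
    subst h4
    rcases Nat.lt_or_ge b₁ 3 with hb₁ | hb₁
    · interval_cases b₁ <;> omega
    · have : (m₂ + 1) * 3 ≤ (m₂ + 1) * b₁ := Nat.mul_le_mul_left _ hb₁
      have e : (m₂ + 1) * 3 = 3 * m₂ + 3 := by ring
      omega
  · -- b₂ ≥ 2
    have h5 : m₂ * 2 ≤ m₂ * b₂ := Nat.mul_le_mul_left _ hb₂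
    rcases Nat.lt_or_ge b₁ 2 with hb₁ | hb₁
    · have hb1 : b₁ = 1 := by omega
      subst hb1
      simp only [mul_one] at hp₁ hs
      omega
    · have h6 : m₁ * 2 ≤ m₁ * b₁ := Nat.mul_le_mul_left _ hb₁
      omega

theorem arith_two {g m₁ n₁ a₁ m₂ n₂ a₂ : ℕ} (hm₁ : 2 ≤ m₁) (ha₁ : 2 ≤ a₁) (hm₂ : 2 ≤ m₂)
    (ha₂ : 2 ≤ a₂) (hn₁ : n₁ = 1 ∨ n₁ = 2) (hn₂ : n₂ = 1 ∨ n₂ = 2)
    (hp₁ : m₁ * n₁ * a₁ = g) (hp₂ : m₂ * n₂ * a₂ = g)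
    (hs : m₁ * (a₁ - 1) + m₂ * (a₂ - 1) = g - 1) : g = 12 := by
  rcases hn₁ with rfl | rfl <;> rcases hn₂ with rfl | rfl
  · exfalso
    have h1 := term_bound ha₁ hp₁
    have h2 := term_bound ha₂ hp₂
    have hg : 1 ≤ g := by
      rw [← hp₁]
      exact Nat.mul_pos (Nat.mul_pos (by omega) (by omega)) (by omega)
    omega
  · exact arith_two_aux hm₁ ha₁ hm₂ ha₂ hp₁ hp₂ hs
  · exact arith_two_aux hm₂ ha₂ hm₁ ha₁ hp₂ hp₁ (by rw [add_comm]; exact hs)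
  · exfalso
    obtain ⟨b₁, rfl⟩ : ∃ b, a₁ = b + 1 := ⟨a₁ - 1, by omega⟩
    obtain ⟨b₂, rfl⟩ : ∃ b, a₂ = b + 1 := ⟨a₂ - 1, by omega⟩
    simp only [Nat.add_sub_cancel] at hs
    have e1 : m₁ * 2 * (b₁ + 1) = 2 * (m₁ * b₁) + 2 * m₁ := by ring
    have e2 : m₂ * 2 * (b₂ + 1) = 2 * (m₂ * b₂) + 2 * m₂ := by ring
    rw [e1] at hp₁
    rw [e2] at hp₂
    omega

theorem arith3_core {k m₁ m₂ m₃ a₃ : ℕ} (h1 : 2 * m₁ = k) (h2 : 3 * m₂ = k)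
    (h3 : m₃ * a₃ = k) (hs : m₁ + m₂ + m₃ = k + 1) (_hm₃ : 2 ≤ m₃) (ha₃ : 2 ≤ a₃) :
    k = 6 ∨ k = 12 ∨ k = 30 := by
  have h6 : 6 * m₃ = k + 6 := by omega
  rcases Nat.lt_or_ge a₃ 6 with h | h
  · interval_cases a₃ <;> omega
  · have : m₃ * 6 ≤ m₃ * a₃ := Nat.mul_le_mul_left _ h
    omega

/-- all `n = 2`, with `a₁ = 2` and `a₂ ≤ 3` -/
theorem arith3_aux2 {k m₁ m₂ m₃ a₂ a₃ : ℕ} (h1 : m₁ * 2 = k) (h2 : m₂ * a₂ = k)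
    (h3 : m₃ * a₃ = k) (hs : m₁ + m₂ + m₃ = k + 1) (hm₃ : 2 ≤ m₃) (ha₂ : 2 ≤ a₂)
    (ha₂' : a₂ ≤ 3) (ha₃ : 2 ≤ a₃) : k = 6 ∨ k = 12 ∨ k = 30 := by
  interval_cases a₂
  · omega
  · exact arith3_core (by omega) (by omega) h3 hs hm₃ ha₃

/-- all `n = 2`, with `a₁ = 2` -/
theorem arith3_aux1 {k m₁ m₂ m₃ a₂ a₃ : ℕ} (h1 : m₁ * 2 = k) (h2 : m₂ * a₂ = k)
    (h3 : m₃ * a₃ = k) (hs : m₁ + m₂ + m₃ = k + 1) (hm₂ : 2 ≤ m₂) (hm₃ : 2 ≤ m₃) (ha₂ : 2 ≤ a₂)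
    (ha₃ : 2 ≤ a₃) : k = 6 ∨ k = 12 ∨ k = 30 := by
  rcases Nat.lt_or_ge a₂ 4 with h | h
  · exact arith3_aux2 h1 h2 h3 hs hm₃ ha₂ (by omega) ha₃
  rcases Nat.lt_or_ge a₃ 4 with h' | h'
  · exact arith3_aux2 h1 h3 h2 (by omega) hm₂ ha₃ (by omega) ha₂
  exfalso
  have e1 : m₂ * 4 ≤ m₂ * a₂ := Nat.mul_le_mul_left _ h
  have e2 : m₃ * 4 ≤ m₃ * a₃ := Nat.mul_le_mul_left _ h'
  omega

/-- all `n = 2` -/
theorem arith3_all2 {k m₁ m₂ m₃ a₁ a₂ a₃ : ℕ} (h1 : m₁ * a₁ = k) (h2 : m₂ * a₂ = k)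
    (h3 : m₃ * a₃ = k) (hs : m₁ + m₂ + m₃ = k + 1) (hm₁ : 2 ≤ m₁) (hm₂ : 2 ≤ m₂) (hm₃ : 2 ≤ m₃)
    (ha₁ : 2 ≤ a₁) (ha₂ : 2 ≤ a₂) (ha₃ : 2 ≤ a₃) : k = 6 ∨ k = 12 ∨ k = 30 := by
  rcases Nat.lt_or_ge a₁ 3 with h | h
  · have : a₁ = 2 := by omega
    subst this
    exact arith3_aux1 h1 h2 h3 hs hm₂ hm₃ ha₂ ha₃
  rcases Nat.lt_or_ge a₂ 3 with h' | h'
  · have : a₂ = 2 := by omega
    subst this
    exact arith3_aux1 h2 h1 h3 (by omega) hm₁ hm₃ ha₁ ha₃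
  rcases Nat.lt_or_ge a₃ 3 with h'' | h''
  · have : a₃ = 2 := by omega
    subst this
    exact arith3_aux1 h3 h1 h2 (by omega) hm₁ hm₂ ha₁ ha₂
  exfalso
  have e1 : m₁ * 3 ≤ m₁ * a₁ := Nat.mul_le_mul_left _ h
  have e2 : m₂ * 3 ≤ m₂ * a₂ := Nat.mul_le_mul_left _ h'
  have e3 : m₃ * 3 ≤ m₃ * a₃ := Nat.mul_le_mul_left _ h''
  omega

theorem arith_three {g m₁ n₁ a₁ m₂ n₂ a₂ m₃ n₃ a₃ : ℕ} (hm₁ : 2 ≤ m₁) (ha₁ : 2 ≤ a₁)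
    (hm₂ : 2 ≤ m₂) (ha₂ : 2 ≤ a₂) (hm₃ : 2 ≤ m₃) (ha₃ : 2 ≤ a₃)
    (hn₁ : n₁ = 1 ∨ n₁ = 2) (hn₂ : n₂ = 1 ∨ n₂ = 2) (hn₃ : n₃ = 1 ∨ n₃ = 2)
    (hp₁ : m₁ * n₁ * a₁ = g) (hp₂ : m₂ * n₂ * a₂ = g) (hp₃ : m₃ * n₃ * a₃ = g)
    (hs : m₁ * (a₁ - 1) + m₂ * (a₂ - 1) + m₃ * (a₃ - 1) = g - 1) :
    g = 12 ∨ g = 24 ∨ g = 60 := by
  have h1 := term_bound ha₁ hp₁
  have h2 := term_bound ha₂ hp₂
  have h3 := term_bound ha₃ hp₃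
  have hg : 1 ≤ g := by
    rw [← hp₁]
    rcases hn₁ with rfl | rfl <;>
      exact Nat.mul_pos (Nat.mul_pos (by omega) (by omega)) (by omega)
  rcases hn₁ with rfl | rfl
  · exfalso
    rcases hn₂ with rfl | rfl <;> rcases hn₃ with rfl | rfl <;> omega
  rcases hn₂ with rfl | rfl
  · exfalso
    rcases hn₃ with rfl | rfl <;> omega
  rcases hn₃ with rfl | rfl
  · exfalso
    omega
  -- all n = 2
  obtain ⟨b₁, rfl⟩ : ∃ b, a₁ = b + 1 := ⟨a₁ - 1, by omega⟩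
  obtain ⟨b₂, rfl⟩ : ∃ b, a₂ = b + 1 := ⟨a₂ - 1, by omega⟩
  obtain ⟨b₃, rfl⟩ : ∃ b, a₃ = b + 1 := ⟨a₃ - 1, by omega⟩
  simp only [Nat.add_sub_cancel] at hs
  have e1 : m₁ * 2 * (b₁ + 1) = 2 * (m₁ * (b₁ + 1)) := by ring
  have e2 : m₂ * 2 * (b₂ + 1) = 2 * (m₂ * (b₂ + 1)) := by ring
  have e3 : m₃ * 2 * (b₃ + 1) = 2 * (m₃ * (b₃ + 1)) := by ring
  rw [e1] at hp₁
  rw [e2] at hp₂
  rw [e3] at hp₃
  have f1 : m₁ * (b₁ + 1) = m₁ * b₁ + m₁ := by ring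
  have f2 : m₂ * (b₂ + 1) = m₂ * b₂ + m₂ := by ring
  have f3 : m₃ * (b₃ + 1) = m₃ * b₃ + m₃ := by ring
  have key := arith3_all2 (k := m₁ * (b₁ + 1)) (m₁ := m₁) (m₂ := m₂) (m₃ := m₃)
    (a₁ := b₁ + 1) (a₂ := b₂ + 1) (a₃ := b₃ + 1) rfl (by omega) (by omega) (by omega)
    hm₁ hm₂ hm₃ ha₁ ha₂ ha₃
  omega

/-- the arithmetic classification -/
theorem arith {ι : Type*} (R : Finset ι) (m n a : ι → ℕ) (g : ℕ) (hg : 2 ≤ g)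
    (hm : ∀ i ∈ R, 2 ≤ m i) (ha : ∀ i ∈ R, 2 ≤ a i) (hn : ∀ i ∈ R, n i = 1 ∨ n i = 2)
    (hprod : ∀ i ∈ R, m i * n i * a i = g)
    (hsum : ∑ i ∈ R, m i * (a i - 1) = g - 1) :
    g = 12 ∨ g = 24 ∨ g = 60 := by
  classical
  have hcard : R.card < 4 := by
    have h1 : R.card • g ≤ ∑ i ∈ R, 4 * (m i * (a i - 1)) := by
      apply Finset.card_nsmul_le_sum
      intro i hi
      have := term_bound (ha i hi) (hprod i hi)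
      rcases hn i hi with h | h <;> rw [h] at this <;> omega
    rw [← Finset.mul_sum, hsum, smul_eq_mul] at h1
    by_contra hcon
    push Not at hcon
    have : 4 * g ≤ R.card * g := Nat.mul_le_mul_right _ hcon
    omega
  have hcases : R.card = 0 ∨ R.card = 1 ∨ R.card = 2 ∨ R.card = 3 := by omega
  rcases hcases with h | h | h | h
  · rw [Finset.card_eq_zero] at h
    rw [h, Finset.sum_empty] at hsum
    omega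
  · obtain ⟨i, rfl⟩ := Finset.card_eq_one.mp h
    rw [Finset.sum_singleton] at hsum
    have hi := Finset.mem_singleton_self i
    exact (arith_one (hm i hi) (ha i hi) (hn i hi) (hprod i hi) hsum).elim
  · obtain ⟨i, j, hij, rfl⟩ := Finset.card_eq_two.mp h
    rw [Finset.sum_pair hij] at hsum
    have hi : i ∈ ({i, j} : Finset ι) := by simp
    have hj : j ∈ ({i, j} : Finset ι) := by simp
    left
    exact arith_two (hm i hi) (ha i hi) (hm j hj) (ha j hj) (hn i hi) (hn j hj)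
      (hprod i hi) (hprod j hj) hsum
  · obtain ⟨i, j, k, hij, hik, hjk, rfl⟩ := Finset.card_eq_three.mp h
    have hi : i ∈ ({i, j, k} : Finset ι) := by simp
    have hj : j ∈ ({i, j, k} : Finset ι) := by simp
    have hk : k ∈ ({i, j, k} : Finset ι) := by simp
    rw [Finset.sum_insert (by simp [hij, hik]), Finset.sum_pair hjk, ← add_assoc] at hsum
    exact arith_three (hm i hi) (ha i hi) (hm j hj) (ha j hj) (hm k hk) (ha k hk)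
      (hn i hi) (hn j hj) (hn k hk) (hprod i hi) (hprod j hj) (hprod k hk) hsum

end Cfsg.Agent.Lib.Helper3.Prim2
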