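import Mathlib
import Cfsg.Agent.Lib.Helper3.Prim2C
import Cfsg.Agent.Lib.Helper5.MobCount

set_option autoImplicit false
set_option linter.unusedSectionVars false

/-! Groups in which centralizers of noncentral elements are abelian and of index at most two
in their normalizers, and with no noncentral abelian normal subgroup: the class equation. -/

namespace Cfsg.Agent.Lib.Helper3.Prim2

open Pointwise

variable {G : Type*} [Group G]

/-- centralizer of an element -/
abbrev cen (x : G) : Subgroup G := Subgroup.centralizer ({x} : Set G)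

theorem mem_cen {x y : G} : y ∈ cen x ↔ x * y = y * x := by
  rw [Subgroup.mem_centralizer_iff]
  constructor
  · intro h; exact h x (Set.mem_singleton x)
  · intro h z hz
    rw [Set.mem_singleton_iff] at hz
    rw [hz]; exact h

theorem self_mem_cen (x : G) : x ∈ cen x := mem_cen.mpr rfl

theorem center_le_cen (x : G) : Subgroup.center G ≤ cen x :=
  Subgroup.center_le_centralizer _

/-- the hypotheses of the counting argument -/
structure Hyp (G : Type*) [Group G] : Prop where
  h1 : ∀ x : G, x ∉ Subgroup.center G → ∀ c ∈ cen x, ∀ d ∈ cen x, c * d = d * c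
  h2 : ∀ x : G, x ∉ Subgroup.center G →
    ∀ n ∈ Subgroup.normalizer ((cen x : Subgroup G) : Set G),
    ∀ k ∈ Subgroup.normalizer ((cen x : Subgroup G) : Set G),
      n ∉ cen x → k ∉ cen x → n * k ∈ cen x
  h3 : ∀ A : Subgroup G, A.Normal → (∀ a ∈ A, ∀ b ∈ A, a * b = b * a) → A ≤ Subgroup.center G
  h4 : ∃ x : G, x ∉ Subgroup.center G

theorem Hyp.cen_eq (H : Hyp G) {x y : G} (hx : x ∉ Subgroup.center G)
    (hy : y ∉ Subgroup.center G) (hyx : y ∈ cen x) : cen y = cen x := by
  have hxy : x ∈ cen y := by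
    rw [mem_cen] at hyx ⊢
    exact hyx.symm
  apply le_antisymm
  · intro c hc
    rw [mem_cen]
    exact (H.h1 y hy c hc x hxy).symm
  · intro c hc
    rw [mem_cen]
    exact (H.h1 x hx c hc y hyx).symm

theorem smul_cen (c : ConjAct G) (x : G) : c • cen x = cen (c • x) := by
  ext y
  rw [Subgroup.mem_pointwise_smul_iff_inv_smul_mem, mem_cen, mem_cen, ConjAct.smul_def,
    ConjAct.smul_def]
  simp only [ConjAct.ofConjAct_inv, inv_inv]
  constructor
  · intro h
    have : ConjAct.ofConjAct c * (x * ((ConjAct.ofConjAct c)⁻¹ * y * ConjAct.ofConjAct c)) *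
        (ConjAct.ofConjAct c)⁻¹ = ConjAct.ofConjAct c *
        (((ConjAct.ofConjAct c)⁻¹ * y * ConjAct.ofConjAct c) * x) * (ConjAct.ofConjAct c)⁻¹ := by
      rw [h]
    calc ConjAct.ofConjAct c * x * (ConjAct.ofConjAct c)⁻¹ * y
        = ConjAct.ofConjAct c * (x * ((ConjAct.ofConjAct c)⁻¹ * y * ConjAct.ofConjAct c)) *
          (ConjAct.ofConjAct c)⁻¹ := by group
      _ = ConjAct.ofConjAct c *
        (((ConjAct.ofConjAct c)⁻¹ * y * ConjAct.ofConjAct c) * x) * (ConjAct.ofConjAct c)⁻¹ := this
      _ = y * (ConjAct.ofConjAct c * x * (ConjAct.ofConjAct c)⁻¹) := by group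
  · intro h
    have : (ConjAct.ofConjAct c)⁻¹ * (ConjAct.ofConjAct c * x * (ConjAct.ofConjAct c)⁻¹ * y) *
        ConjAct.ofConjAct c = (ConjAct.ofConjAct c)⁻¹ *
        (y * (ConjAct.ofConjAct c * x * (ConjAct.ofConjAct c)⁻¹)) * ConjAct.ofConjAct c := by
      rw [h]
    calc x * ((ConjAct.ofConjAct c)⁻¹ * y * ConjAct.ofConjAct c)
        = (ConjAct.ofConjAct c)⁻¹ * (ConjAct.ofConjAct c * x * (ConjAct.ofConjAct c)⁻¹ * y) *
          ConjAct.ofConjAct c := by group
      _ = (ConjAct.ofConjAct c)⁻¹ *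
        (y * (ConjAct.ofConjAct c * x * (ConjAct.ofConjAct c)⁻¹)) * ConjAct.ofConjAct c := this
      _ = (ConjAct.ofConjAct c)⁻¹ * y * ConjAct.ofConjAct c * x := by group

theorem smul_mem_center_iff (c : ConjAct G) (x : G) :
    c • x ∈ Subgroup.center G ↔ x ∈ Subgroup.center G := by
  rw [ConjAct.smul_def]
  constructor
  · intro h
    have h2 := (Subgroup.center G).mul_mem ((Subgroup.center G).mul_mem
      ((Subgroup.center G).inv_mem h) h) h
    have hn : (Subgroup.center G).Normal := inferInstance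
    have := hn.conj_mem _ h (ConjAct.ofConjAct c)⁻¹
    have e : (ConjAct.ofConjAct c)⁻¹ * (ConjAct.ofConjAct c * x * (ConjAct.ofConjAct c)⁻¹) *
        (ConjAct.ofConjAct c)⁻¹⁻¹ = x := by group
    rwa [e] at this
  · intro h
    have hn : (Subgroup.center G).Normal := inferInstance
    exact hn.conj_mem _ h _

theorem mem_stabilizer_iff_normalizer (c : ConjAct G) (A : Subgroup G) :
    c ∈ MulAction.stabilizer (ConjAct G) A ↔
      ConjAct.ofConjAct c ∈ Subgroup.normalizer (A : Set G) := by
  rw [MulAction.mem_stabilizer_iff, Subgroup.mem_normalizer_iff]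
  constructor
  · intro h y
    have : ConjAct.ofConjAct c * y * (ConjAct.ofConjAct c)⁻¹ ∈ c • A ↔ y ∈ A := by
      rw [Subgroup.mem_pointwise_smul_iff_inv_smul_mem, ConjAct.smul_def]
      simp only [ConjAct.ofConjAct_inv, inv_inv]
      have e : (ConjAct.ofConjAct c)⁻¹ * (ConjAct.ofConjAct c * y * (ConjAct.ofConjAct c)⁻¹) *
          ConjAct.ofConjAct c = y := by group
      rw [e]
    rw [h] at this
    exact this.symm
  · intro h
    ext y
    rw [Subgroup.mem_pointwise_smul_iff_inv_smul_mem, ConjAct.smul_def]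
    simp only [ConjAct.ofConjAct_inv, inv_inv]
    rw [h ((ConjAct.ofConjAct c)⁻¹ * y * ConjAct.ofConjAct c)]
    have e : ConjAct.ofConjAct c * ((ConjAct.ofConjAct c)⁻¹ * y * ConjAct.ofConjAct c) *
        (ConjAct.ofConjAct c)⁻¹ = y := by group
    rw [e]

theorem card_stabilizer_eq (A : Subgroup G) :
    Nat.card (MulAction.stabilizer (ConjAct G) A) = Nat.card (Subgroup.normalizer (A : Set G)) := by
  apply Nat.card_congr
  exact Equiv.subtypeEquiv ConjAct.ofConjAct.toEquiv (fun c => mem_stabilizer_iff_normalizer c A)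

theorem card_smul_subgroup (c : ConjAct G) (A : Subgroup G) :
    Nat.card (c • A : Subgroup G) = Nat.card A :=
  (Nat.card_congr (Subgroup.equivSMul c A).toEquiv).symm

end Cfsg.Agent.Lib.Helper3.Prim2
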