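import Mathlib
import Cfsg.Agent.Lib.Helper3.Prim2D

set_option autoImplicit false
set_option linter.unusedSectionVars false

/-! The class equation and the conclusion `|G : Z(G)| ∈ {12, 24, 60}`. -/

namespace Cfsg.Agent.Lib.Helper3.Prim2

open Pointwise Cfsg.Agent.Lib.Helper5.Mob

variable {G : Type*} [Group G] [Fintype G]

theorem Hyp.facts (H : Hyp G) {x : G} (hx : x ∉ Subgroup.center G) :
    2 ≤ (Subgroup.normalizer ((cen x : Subgroup G) : Set G)).index ∧
    2 ≤ (Subgroup.center G).relIndex (cen x) ∧
    ((cen x).relIndex (Subgroup.normalizer ((cen x : Subgroup G) : Set G)) = 1 ∨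
      (cen x).relIndex (Subgroup.normalizer ((cen x : Subgroup G) : Set G)) = 2) ∧
    (Subgroup.normalizer ((cen x : Subgroup G) : Set G)).index *
      (cen x).relIndex (Subgroup.normalizer ((cen x : Subgroup G) : Set G)) *
      (Subgroup.center G).relIndex (cen x) = (Subgroup.center G).index ∧
    Nat.card (cen x) = Nat.card (Subgroup.center G) * (Subgroup.center G).relIndex (cen x) ∧
    Nat.card (MulAction.orbit (ConjAct G) (cen x)) =
      (Subgroup.normalizer ((cen x : Subgroup G) : Set G)).index := by
  set Z := Subgroup.center G with hZ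
  set A := cen x with hA
  set N := Subgroup.normalizer (A : Set G) with hN
  have hZA : Z ≤ A := center_le_cen x
  have hAN : A ≤ N := Subgroup.le_normalizer
  have e1 : Z.relIndex A * A.index = Z.index := Subgroup.relIndex_mul_index hZA
  have e2 : A.relIndex N * N.index = A.index := Subgroup.relIndex_mul_index hAN
  have hxA : x ∈ A := self_mem_cen x
  have hAZ : ¬ A ≤ Z := fun h => hx (h hxA)
  have hAidx : A.index ≠ 0 := Subgroup.index_ne_zero_of_finite
  have hNidx : N.index ≠ 0 := Subgroup.index_ne_zero_of_finite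
  refine ⟨?_, ?_, ?_, ?_, ?_, ?_⟩
  · have h1 : N.index ≠ 1 := by
      intro h
      have hNtop : N = ⊤ := Subgroup.index_eq_one.mp h
      have hAn : A.Normal := Subgroup.normalizer_eq_top_iff.mp hNtop
      exact hAZ (H.h3 A hAn (H.h1 x hx))
    omega
  · have h0 : Z.relIndex A ≠ 0 := by
      intro h
      have := Subgroup.relIndex_dvd_card Z A
      rw [h] at this
      have hpos : 0 < Nat.card A := Nat.card_pos
      rw [zero_dvd_iff] at this
      omega
    have h1 : Z.relIndex A ≠ 1 := fun h => hAZ (Subgroup.relIndex_eq_one.mp h)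
    omega
  · have hdvd : A.relIndex N ∣ 2 := by
      rw [Subgroup.relIndex_dvd_two_iff]
      by_cases h : ∃ a ∈ N, a ∉ A
      · obtain ⟨a, haN, haA⟩ := h
        refine ⟨a, haN, fun b hb => ?_⟩
        by_cases hbA : b ∈ A
        · right; exact hbA
        · left; exact H.h2 x hx b hb a haN hbA haA
      · push Not at h
        exact ⟨1, N.one_mem, fun b hb => Or.inr (h b hb)⟩
    exact (Nat.dvd_prime Nat.prime_two).mp hdvd
  · rw [← e1, ← e2]; ring
  · have c1 : Nat.card A * A.index = Nat.card G := Subgroup.card_mul_index A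
    have c2 : Nat.card Z * Z.index = Nat.card G := Subgroup.card_mul_index Z
    have : Nat.card A * A.index = (Nat.card Z * Z.relIndex A) * A.index := by
      rw [c1, ← c2, ← e1]; ring
    exact Nat.eq_of_mul_eq_mul_right (Nat.pos_of_ne_zero hAidx) this
  · have c1 := card_orbit_mul_card_stabilizer (G := ConjAct G) A
    rw [card_stabilizer_eq] at c1
    have c2 : Nat.card N * N.index = Nat.card G := Subgroup.card_mul_index N
    have c3 : Nat.card (ConjAct G) = Nat.card G := rfl
    rw [c3, ← c2, mul_comm (Nat.card N)] at c1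
    have hNpos : 0 < Nat.card N := Nat.card_pos
    exact Nat.eq_of_mul_eq_mul_right hNpos c1

theorem Hyp.index_center (H : Hyp G) :
    (Subgroup.center G).index = 12 ∨ (Subgroup.center G).index = 24 ∨
      (Subgroup.center G).index = 60 := by
  classical
  set Z := Subgroup.center G with hZ
  set NZ : Finset G := Finset.univ.filter (fun x => x ∉ Z) with hNZ
  set T : Finset (Subgroup G) := NZ.image cen with hT
  have hmemNZ : ∀ x, x ∈ NZ ↔ x ∉ Z := by
    intro x; rw [hNZ, Finset.mem_filter]; simp
  have hcardsub : ∀ (K : Subgroup G) [inst : DecidablePred (fun x => x ∈ K)],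
      (Finset.univ.filter (fun x => x ∈ K)).card = Nat.card K := by
    intro K inst
    rw [Nat.card_eq_fintype_card, Fintype.card_subtype]
  have hcardNZ : NZ.card + Nat.card Z = Nat.card G := by
    have key := Finset.card_filter_add_card_filter_not (s := (Finset.univ : Finset G))
      (fun x => x ∈ Z)
    rw [hcardsub Z] at key
    rw [hNZ, add_comm, key, Nat.card_eq_fintype_card]
    rfl
  have hfiber : ∀ x ∈ NZ, (NZ.filter (fun y => cen y = cen x)).card + Nat.card Z =
      Nat.card (cen x) := by
    intro x hx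
    rw [hmemNZ] at hx
    have e : NZ.filter (fun y => cen y = cen x) =
        (Finset.univ.filter (fun y => y ∈ cen x)) \ (Finset.univ.filter (fun y => y ∈ Z)) := by
      ext y
      simp only [Finset.mem_filter, Finset.mem_sdiff, Finset.mem_univ, true_and, hmemNZ]
      constructor
      · rintro ⟨hy, hyx⟩
        refine ⟨?_, hy⟩
        rw [← hyx]; exact self_mem_cen y
      · rintro ⟨hyx, hy⟩
        exact ⟨hy, H.cen_eq hx hy hyx⟩
    rw [e]
    have hsub : (Finset.univ.filter (fun y => y ∈ Z)) ⊆
        (Finset.univ.filter (fun y => y ∈ cen x)) := by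
      intro y hy
      simp only [Finset.mem_filter, Finset.mem_univ, true_and] at hy ⊢
      exact center_le_cen x hy
    have key := Finset.card_sdiff_add_card_eq_card hsub
    rw [hcardsub Z, hcardsub (cen x)] at key
    exact key
  set f : Subgroup G → ℕ := fun A => Nat.card A - Nat.card Z with hf
  have hsum1 : ∑ A ∈ T, f A = NZ.card := by
    rw [Finset.card_eq_sum_card_image cen NZ]
    apply Finset.sum_congr rfl
    intro A hA
    rw [hT, Finset.mem_image] at hA
    obtain ⟨x, hx, rfl⟩ := hA
    have := hfiber x hx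
    simp only [hf]
    omega
  have hfinv : ∀ (c : ConjAct G) (A : Subgroup G), f (c • A) = f A := by
    intro c A
    simp only [hf]
    rw [card_smul_subgroup]
  have hTinv : ∀ (c : ConjAct G) (A : Subgroup G), A ∈ T → c • A ∈ T := by
    intro c A hA
    rw [hT, Finset.mem_image] at hA ⊢
    obtain ⟨x, hx, rfl⟩ := hA
    refine ⟨c • x, ?_, (smul_cen c x).symm⟩
    rw [hmemNZ] at hx ⊢
    rwa [smul_mem_center_iff]
  obtain ⟨R, hRT, _, _, hsumR⟩ :=
    exists_orbit_reps (G := ConjAct G) f hfinv T.card T rfl hTinv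
  set mF : Subgroup G → ℕ := fun A => (Subgroup.normalizer (A : Set G)).index with hmF
  set nF : Subgroup G → ℕ := fun A => A.relIndex (Subgroup.normalizer (A : Set G)) with hnF
  set aF : Subgroup G → ℕ := fun A => Z.relIndex A with haF
  have hRfacts : ∀ A ∈ R, ∃ x, x ∉ Z ∧ A = cen x := by
    intro A hA
    have := hRT hA
    rw [hT, Finset.mem_image] at this
    obtain ⟨x, hx, rfl⟩ := this
    exact ⟨x, (hmemNZ x).mp hx, rfl⟩
  have hzpos : 0 < Nat.card Z := Nat.card_pos
  have hgidx : 2 ≤ Z.index := by
    have h0 : Z.index ≠ 0 := Subgroup.index_ne_zero_of_finite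
    have h1 : Z.index ≠ 1 := by
      intro h
      obtain ⟨x, hx⟩ := H.h4
      have htop : Subgroup.center G = ⊤ := Subgroup.index_eq_one.mp h
      rw [htop] at hx
      exact hx (Subgroup.mem_top x)
    omega
  have hcZ : Nat.card Z * Z.index = Nat.card G := Subgroup.card_mul_index Z
  have hsum2 : ∑ A ∈ R, mF A * (aF A - 1) = Z.index - 1 := by
    have h1 : ∑ A ∈ R, Nat.card (MulAction.orbit (ConjAct G) A) * f A =
        Nat.card Z * ∑ A ∈ R, mF A * (aF A - 1) := by
      rw [Finset.mul_sum]
      apply Finset.sum_congr rfl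
      intro A hA
      obtain ⟨x, hx, rfl⟩ := hRfacts A hA
      obtain ⟨_, _, _, _, h5, h6⟩ := H.facts hx
      rw [h6]
      simp only [hf, hmF, haF]
      rw [h5]
      have : Nat.card Z * Z.relIndex (cen x) - Nat.card Z =
          Nat.card Z * (Z.relIndex (cen x) - 1) := by
        rw [Nat.mul_sub, mul_one]
      rw [this]; ring
    rw [← hsumR, hsum1] at h1
    have h2 : NZ.card = Nat.card Z * (Z.index - 1) := by
      rw [Nat.mul_sub, mul_one, hcZ]
      omega
    rw [h2] at h1
    exact (Nat.eq_of_mul_eq_mul_left hzpos h1).symm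
  apply arith R mF nF aF Z.index hgidx
  · intro A hA
    obtain ⟨x, hx, rfl⟩ := hRfacts A hA
    exact (H.facts hx).1
  · intro A hA
    obtain ⟨x, hx, rfl⟩ := hRfacts A hA
    exact (H.facts hx).2.1
  · intro A hA
    obtain ⟨x, hx, rfl⟩ := hRfacts A hA
    exact (H.facts hx).2.2.1
  · intro A hA
    obtain ⟨x, hx, rfl⟩ := hRfacts A hA
    exact (H.facts hx).2.2.2.1
  · exact hsum2

end Cfsg.Agent.Lib.Helper3.Prim2
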