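import Mathlib
import Cfsg.Prelude.Def_Quasithin

/-!
# S1851 unit U2: `oddGenerated K = K` for a perfect finite subgroup `K`

The subgroup generated by the odd-order elements of `K` is normal in `K` with quotient a
2-group; a perfect group has no nontrivial solvable quotient.
-/

set_option autoImplicit false

namespace Cfsg.Agent.Lib.Helper3.QT

/-- A finite perfect group with a normal subgroup whose quotient is a `p`-group: the normal
subgroup is everything. -/
theorem eq_top_of_perfect_of_isPGroup_quotient {H : Type*} [Group H] [Finite H]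
    (hperf : ⁅(⊤ : Subgroup H), (⊤ : Subgroup H)⁆ = ⊤) (p : ℕ) [Fact p.Prime]
    (N : Subgroup H) [N.Normal] (hq : IsPGroup p (H ⧸ N)) : N = ⊤ := by
  have : Group.IsNilpotent (H ⧸ N) := hq.isNilpotent
  have : Group.IsSolvable (H ⧸ N) := inferInstance
  by_contra hne
  have hnt : Nontrivial (H ⧸ N) := by
    by_contra hnn
    rw [not_nontrivial_iff_subsingleton] at hnn
    exact hne (QuotientGroup.subgroup_eq_top_of_subsingleton N hnn)
  have hlt := Group.IsSolvable.commutator_lt_top_of_nontrivial (H ⧸ N)
  have hmap : Subgroup.map (QuotientGroup.mk' N) ⁅(⊤ : Subgroup H), (⊤ : Subgroup H)⁆ =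
      ⁅(⊤ : Subgroup (H ⧸ N)), (⊤ : Subgroup (H ⧸ N))⁆ := by
    rw [Subgroup.map_commutator]
    have : Subgroup.map (QuotientGroup.mk' N) ⊤ = ⊤ :=
      Subgroup.map_top_of_surjective _ (QuotientGroup.mk'_surjective N)
    rw [this]
  rw [hperf, Subgroup.map_top_of_surjective _ (QuotientGroup.mk'_surjective N)] at hmap
  rw [commutator_def, ← hmap] at hlt
  exact lt_irrefl _ hlt

/-- `oddGenerated K ≤ K`. -/
theorem oddGenerated_le {G : Type*} [Group G] (K : Subgroup G) : Cfsg.oddGenerated K ≤ K := by
  unfold Cfsg.oddGenerated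
  rw [Subgroup.closure_le]
  intro x hx
  exact hx.1

/-- `K` normalizes `oddGenerated K`. -/
theorem oddGenerated_conj_mem {G : Type*} [Group G] (K : Subgroup G) (k : G) (hk : k ∈ K)
    (x : G) (hx : x ∈ Cfsg.oddGenerated K) : k * x * k⁻¹ ∈ Cfsg.oddGenerated K := by
  unfold Cfsg.oddGenerated at hx ⊢
  induction hx using Subgroup.closure_induction with
  | mem y hy =>
    apply Subgroup.subset_closure
    refine ⟨K.mul_mem (K.mul_mem hk hy.1) (K.inv_mem hk), ?_⟩
    have : orderOf (k * y * k⁻¹) = orderOf y := by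
      have := orderOf_injective (MulAut.conj k).toMonoidHom (MulAut.conj k).injective y
      simpa [MulAut.conj_apply] using this
    rw [this]; exact hy.2
  | one => simp
  | mul a b _ _ iha ihb =>
    have : k * (a * b) * k⁻¹ = (k * a * k⁻¹) * (k * b * k⁻¹) := by group
    rw [this]; exact Subgroup.mul_mem _ iha ihb
  | inv a _ iha =>
    have : k * a⁻¹ * k⁻¹ = (k * a * k⁻¹)⁻¹ := by group
    rw [this]; exact Subgroup.inv_mem _ iha

/-- **U2.** For a finite group, a perfect subgroup is generated by its elements of odd order. -/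
theorem oddGenerated_eq_of_commutator_eq {G : Type*} [Group G] [Finite G] (K : Subgroup G)
    (hK : ⁅K, K⁆ = K) : Cfsg.oddGenerated K = K := by
  apply le_antisymm (oddGenerated_le K)
  -- work in `↥K`
  set N : Subgroup ↥K := (Cfsg.oddGenerated K).subgroupOf K with hN
  have hNn : N.Normal := by
    constructor
    intro n hn g
    rw [hN, Subgroup.mem_subgroupOf] at hn ⊢
    have := oddGenerated_conj_mem K (g : G) g.2 (n : G) hn
    simpa using this
  have hperf : ⁅(⊤ : Subgroup ↥K), (⊤ : Subgroup ↥K)⁆ = ⊤ := by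
    apply Subgroup.map_injective K.subtype_injective
    rw [Subgroup.map_commutator]
    have : Subgroup.map K.subtype ⊤ = K := by
      rw [← MonoidHom.range_eq_map, Subgroup.range_subtype]
    rw [this, hK]
  have hq : IsPGroup 2 (↥K ⧸ N) := by
    intro q
    induction q using QuotientGroup.induction_on with
    | H x =>
      have hpos : orderOf x ≠ 0 := (orderOf_pos x).ne'
      obtain ⟨a, m, hm, hord⟩ := Nat.exists_eq_two_pow_mul_odd hpos
      refine ⟨a, ?_⟩
      rw [← QuotientGroup.mk_pow, QuotientGroup.eq_one_iff, hN, Subgroup.mem_subgroupOf]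
      unfold Cfsg.oddGenerated
      apply Subgroup.subset_closure
      refine ⟨(x ^ 2 ^ a).2, ?_⟩
      have h1 : orderOf (x ^ 2 ^ a) = m := by
        rw [orderOf_pow_of_dvd (pow_ne_zero _ (by norm_num)) (by rw [hord]; exact dvd_mul_right _ _), hord]
        exact Nat.mul_div_cancel_left m (pow_pos (by norm_num) a)
      have h2 : orderOf ((x ^ 2 ^ a : ↥K) : G) = orderOf (x ^ 2 ^ a) :=
        Subgroup.orderOf_coe _
      rw [h2, h1]; exact hm
  have : Fact (Nat.Prime 2) := ⟨Nat.prime_two⟩
  have htop := eq_top_of_perfect_of_isPGroup_quotient hperf 2 N hq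
  intro x hx
  have : (⟨x, hx⟩ : ↥K) ∈ N := by rw [htop]; exact Subgroup.mem_top _
  rw [hN, Subgroup.mem_subgroupOf] at this
  exact this

/-- **U2, relative form** (shape of `calC ↥(K ⊔ T)`): if `K ≤ H` and `K.subgroupOf H` is perfect in
`↥H`, then `oddGenerated K = K`. -/
theorem oddGenerated_eq_of_subgroupOf_commutator_eq {G : Type*} [Group G] [Finite G]
    (K H : Subgroup G) (hKH : K ≤ H)
    (hK : ⁅K.subgroupOf H, K.subgroupOf H⁆ = K.subgroupOf H) : Cfsg.oddGenerated K = K := by
  apply oddGenerated_eq_of_commutator_eq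
  have h1 : Subgroup.map H.subtype (K.subgroupOf H) = K := by
    rw [Subgroup.map_subgroupOf_eq_of_le hKH]
  have := congrArg (Subgroup.map H.subtype) hK
  rw [Subgroup.map_commutator, h1] at this
  exact this

/-- **U2, `Group.IsPerfect` form.** -/
theorem oddGenerated_eq_of_isPerfect {G : Type*} [Group G] [Finite G] (K : Subgroup G)
    (hK : Group.IsPerfect ↥K) : Cfsg.oddGenerated K = K := by
  apply oddGenerated_eq_of_commutator_eq
  have h0 : ⁅(⊤ : Subgroup ↥K), (⊤ : Subgroup ↥K)⁆ = ⊤ := by
    rw [← commutator_def]; exact hK.commutator_eq_top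
  have := congrArg (Subgroup.map K.subtype) h0
  rw [Subgroup.map_commutator] at this
  have ht : Subgroup.map K.subtype ⊤ = K := by
    rw [← MonoidHom.range_eq_map, Subgroup.range_subtype]
  rw [ht] at this
  exact this

end Cfsg.Agent.Lib.Helper3.QT
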