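import Mathlib
import Cfsg.Agent.Lib.Helper3.SZRel

/-!
# Finite abelian groups of odd order with a "quaternionic" structure have square order

If `i j : N →* N` are endomorphisms of a finite abelian group of odd order with
`i ∘ i = j ∘ j = inv` and `i ∘ j = inv ∘ j ∘ i`, then `|N|` is a perfect square.
-/

set_option autoImplicit false

namespace Cfsg.Agent.Lib.Helper3

section
variable {N : Type*} [CommGroup N]

/-- The data of a quaternionic structure. -/
structure QuatStr (i j : N →* N) : Prop where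
  hi : ∀ x, i (i x) = x⁻¹
  hj : ∀ x, j (j x) = x⁻¹
  hij : ∀ x, i (j x) = (j (i x))⁻¹

variable {i j : N →* N}

theorem QuatStr.hji (h : QuatStr i j) (x : N) : j (i x) = (i (j x))⁻¹ := by
  rw [h.hij, inv_inv]

theorem QuatStr.iji (h : QuatStr i j) (x : N) : i (j (i x)) = j x := by
  rw [h.hij, h.hi, map_inv, inv_inv]

theorem QuatStr.jij (h : QuatStr i j) (x : N) : j (i (j x)) = i x := by
  rw [h.hji, h.hj, map_inv, inv_inv]

/-- `k = i ∘ j` squares to inversion. -/
theorem QuatStr.kk (h : QuatStr i j) (x : N) : i (j (i (j x))) = x⁻¹ := by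
  rw [h.jij, h.hi]

/-- The operator `s = α i + β j`. -/
def sOp (i j : N →* N) (α β : ℕ) : N →* N :=
  ((powMonoidHom α).comp i) * ((powMonoidHom β).comp j)

theorem sOp_apply (α β : ℕ) (x : N) : sOp i j α β x = (i x) ^ α * (j x) ^ β := rfl

theorem add_aux1 {A : Type*} [AddCommGroup A] (x w : A) (α β : ℕ) :
    α • (α • (-x) + β • (-w)) + β • (α • w + β • (-x)) = -((α * α + β * β) • x) := by
  module

theorem mul_aux1 (x w : N) (α β : ℕ) :
    (x⁻¹ ^ α * w⁻¹ ^ β) ^ α * (w ^ α * x⁻¹ ^ β) ^ β = (x ^ (α * α + β * β))⁻¹ :=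
  add_aux1 (Additive.ofMul x) (Additive.ofMul w) α β

theorem add_aux2 {A : Type*} [AddCommGroup A] (p q : A) (α β : ℕ) :
    α • (-q) + β • p = -(α • q + β • (-p)) := by
  module

theorem mul_aux2 (p q : N) (α β : ℕ) :
    q⁻¹ ^ α * p ^ β = (q ^ α * p⁻¹ ^ β)⁻¹ :=
  add_aux2 (Additive.ofMul p) (Additive.ofMul q) α β

theorem sOp_sOp (h : QuatStr i j) (α β : ℕ) (x : N) :
    sOp i j α β (sOp i j α β x) = (x ^ (α * α + β * β))⁻¹ := by
  have e : sOp i j α β (sOp i j α β x)
      = (x⁻¹ ^ α * (j (i x))⁻¹ ^ β) ^ α * ((j (i x)) ^ α * x⁻¹ ^ β) ^ β := by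
    rw [sOp_apply, sOp_apply, map_mul, map_mul, map_pow, map_pow, map_pow, map_pow, h.hi, h.hj,
      h.hij]
  rw [e]
  exact mul_aux1 x (j (i x)) α β

theorem sOp_k (h : QuatStr i j) (α β : ℕ) (x : N) :
    sOp i j α β (i (j x)) = (i (j (sOp i j α β x)))⁻¹ := by
  have e1 : sOp i j α β (i (j x)) = (j x)⁻¹ ^ α * (i x) ^ β := by
    rw [sOp_apply, h.hi, h.jij]
  have e2 : i (j (sOp i j α β x)) = (j x) ^ α * (i x)⁻¹ ^ β := by
    rw [sOp_apply, map_mul, map_mul, map_pow, map_pow, map_pow, map_pow, h.iji, h.hj, map_inv]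
  rw [e1, e2]
  exact mul_aux2 (i x) (j x) α β

/-- The `+1`-eigenspace of `s` inside `U`. -/
def plusSub (i j : N →* N) (α β : ℕ) (U : Subgroup N) : Subgroup N where
  carrier := {u | u ∈ U ∧ sOp i j α β u = u}
  mul_mem' := by
    rintro a b ⟨ha, ha'⟩ ⟨hb, hb'⟩
    exact ⟨U.mul_mem ha hb, by rw [map_mul, ha', hb']⟩
  one_mem' := ⟨U.one_mem, map_one _⟩
  inv_mem' := by
    rintro a ⟨ha, ha'⟩
    exact ⟨U.inv_mem ha, by rw [map_inv, ha']⟩

/-- The `-1`-eigenspace of `s` inside `U`. -/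
def minusSub (i j : N →* N) (α β : ℕ) (U : Subgroup N) : Subgroup N where
  carrier := {u | u ∈ U ∧ sOp i j α β u = u⁻¹}
  mul_mem' := by
    rintro a b ⟨ha, ha'⟩ ⟨hb, hb'⟩
    exact ⟨U.mul_mem ha hb, by rw [map_mul, ha', hb', mul_inv]⟩
  one_mem' := ⟨U.one_mem, by rw [map_one, inv_one]⟩
  inv_mem' := by
    rintro a ⟨ha, ha'⟩
    exact ⟨U.inv_mem ha, by rw [map_inv, ha']⟩

theorem mem_plusSub {α β : ℕ} {U : Subgroup N} {u : N} :
    u ∈ plusSub i j α β U ↔ u ∈ U ∧ sOp i j α β u = u := Iff.rfl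

theorem mem_minusSub {α β : ℕ} {U : Subgroup N} {u : N} :
    u ∈ minusSub i j α β U ↔ u ∈ U ∧ sOp i j α β u = u⁻¹ := Iff.rfl

theorem k_injective (h : QuatStr i j) : Function.Injective (fun x => i (j x)) := by
  intro x y hxy
  have h1 : i (j (i (j x))) = i (j (i (j y))) := by
    have := congrArg (fun z => i (j z)) hxy
    exact this
  rw [h.kk, h.kk] at h1
  exact inv_injective h1

/-- A subgroup of exponent `r` (odd prime) invariant under a quaternionic structure has square
order. -/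
theorem isSquare_card_of_exponent_prime [Finite N] (h : QuatStr i j) (r : ℕ) [hr : Fact r.Prime]
    (hr2 : r ≠ 2) (U : Subgroup N) (hUi : ∀ u ∈ U, i u ∈ U) (hUj : ∀ u ∈ U, j u ∈ U)
    (hU : ∀ u ∈ U, u ^ r = 1) : IsSquare (Nat.card U) := by
  classical
  obtain ⟨a, b, hab⟩ := ZMod.sq_add_sq r (-1)
  set α := a.val with hα
  set β := b.val with hβ
  have hdvd : r ∣ α * α + β * β + 1 := by
    rw [← ZMod.natCast_eq_zero_iff]
    push_cast
    rw [hα, hβ, ZMod.natCast_zmod_val, ZMod.natCast_zmod_val]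
    have : a * a + b * b = -1 := by rw [← hab]; ring
    rw [this]; ring
  have hrodd : Odd r := hr.out.odd_of_ne_two hr2
  -- `s ∘ s = id` on `U`
  have hss : ∀ u ∈ U, sOp i j α β (sOp i j α β u) = u := by
    intro u hu
    rw [sOp_sOp h]
    obtain ⟨c, hc⟩ := hdvd
    have h1 : u ^ (α * α + β * β + 1) = 1 := by rw [hc, pow_mul, hU u hu, one_pow]
    rw [pow_succ] at h1
    exact (eq_inv_of_mul_eq_one_right h1).symm
  have hsU : ∀ u ∈ U, sOp i j α β u ∈ U := by
    intro u hu
    rw [sOp_apply]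
    exact U.mul_mem (U.pow_mem (hUi u hu) _) (U.pow_mem (hUj u hu) _)
  set P := plusSub i j α β U with hP
  set M := minusSub i j α β U with hM
  have hPU : P ≤ U := fun u hu => hu.1
  have hMU : M ≤ U := fun u hu => hu.1
  -- trivial intersection
  have hinf : P ⊓ M = ⊥ := by
    rw [Subgroup.eq_bot_iff_forall]
    intro z hz
    obtain ⟨hz1, hz2⟩ := Subgroup.mem_inf.1 hz
    have h1 : z = z⁻¹ := hz1.2.symm.trans hz2.2
    have h2 : z ^ 2 = 1 := by
      rw [pow_two]
      calc z * z = z * z⁻¹ := by rw [← h1]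
        _ = 1 := mul_inv_cancel z
    have h3 : z ^ r = 1 := hU z hz1.1
    obtain ⟨c, hc⟩ := hrodd
    have : z ^ r = z := by
      rw [hc, pow_succ, pow_mul, h2, one_pow, one_mul]
    rw [← this, h3]
  -- they generate `U`
  have hsup : P ⊔ M = U := by
    apply le_antisymm (sup_le hPU hMU)
    intro u hu
    obtain ⟨c, hc⟩ := hrodd
    have hsu := hsU u hu
    have hx : (u * sOp i j α β u) ^ (c + 1) ∈ P := by
      refine ⟨U.pow_mem (U.mul_mem hu hsu) _, ?_⟩
      rw [map_pow, map_mul, hss u hu, mul_comm]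
    have hy : (u * (sOp i j α β u)⁻¹) ^ (c + 1) ∈ M := by
      refine ⟨U.pow_mem (U.mul_mem hu (U.inv_mem hsu)) _, ?_⟩
      rw [map_pow, map_mul, map_inv, hss u hu, ← inv_pow, mul_inv, inv_inv, mul_comm]
    have hxy : (u * sOp i j α β u) ^ (c + 1) * (u * (sOp i j α β u)⁻¹) ^ (c + 1) = u := by
      rw [← mul_pow]
      have : u * sOp i j α β u * (u * (sOp i j α β u)⁻¹) = u ^ 2 := by
        rw [pow_two, mul_mul_mul_comm, mul_inv_cancel, mul_one]
      rw [this, ← pow_mul]
      have : 2 * (c + 1) = r + 1 := by rw [hc]; ring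
      rw [this, pow_succ, hU u hu, one_mul]
    rw [← hxy]
    exact Subgroup.mul_mem_sup hx hy
  have hcard : Nat.card U = Nat.card P * Nat.card M := by
    rw [← card_sup_of_inf_eq_bot P M hinf, hsup]
  -- `k` interchanges `P` and `M`
  have hPM : Nat.card P ≤ Nat.card M := by
    apply Nat.card_le_card_of_injective (fun x : P => (⟨i (j x.1), by
      refine ⟨hUi _ (hUj _ x.2.1), ?_⟩
      rw [sOp_k h, x.2.2]⟩ : M))
    intro x y hxy
    apply Subtype.ext
    exact k_injective h (congrArg Subtype.val hxy)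
  have hMP : Nat.card M ≤ Nat.card P := by
    apply Nat.card_le_card_of_injective (fun x : M => (⟨i (j x.1), by
      refine ⟨hUi _ (hUj _ x.2.1), ?_⟩
      rw [sOp_k h, x.2.2, map_inv, map_inv, inv_inv]⟩ : P))
    intro x y hxy
    apply Subtype.ext
    exact k_injective h (congrArg Subtype.val hxy)
  rw [hcard, le_antisymm hMP hPM]
  exact ⟨_, rfl⟩

theorem isSquare_card_invariant_aux [Finite N] (h : QuatStr i j) (hodd : Odd (Nat.card N)) :
    ∀ n : ℕ, ∀ W : Subgroup N, (∀ w ∈ W, i w ∈ W) → (∀ w ∈ W, j w ∈ W) → Nat.card W = n →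
      IsSquare n := by
  classical
  intro n
  induction n using Nat.strong_induction_on with
  | _ n ih =>
    intro W hWi hWj hcard
    by_cases hW : W = ⊥
    · rw [hW, Subgroup.card_bot] at hcard
      rw [← hcard]
      exact ⟨1, rfl⟩
    have hn1 : n ≠ 1 := by
      intro h1
      rw [h1] at hcard
      exact hW (Subgroup.card_eq_one.1 hcard)
    obtain ⟨r, hr, hrn⟩ := Nat.exists_prime_and_dvd hn1
    haveI : Fact r.Prime := ⟨hr⟩
    have hr2 : r ≠ 2 := by
      rintro rfl
      have h2 : 2 ∣ Nat.card N := dvd_trans (hcard ▸ hrn) (Subgroup.card_subgroup_dvd_card W)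
      rcases hodd with ⟨c, hc⟩
      omega
    -- the `r`-torsion and the `r`-th powers
    set f : W →* N := (powMonoidHom r).comp W.subtype with hf
    set W₁ : Subgroup N := W ⊓ (powMonoidHom r : N →* N).ker with hW₁
    set W₂ : Subgroup N := f.range with hW₂
    have hk : Nat.card f.ker = Nat.card W₁ := by
      refine Nat.card_congr ⟨fun x => ⟨x.1.1, Subgroup.mem_inf.2 ⟨x.1.2, ?_⟩⟩,
        fun x => ⟨⟨x.1, (Subgroup.mem_inf.1 x.2).1⟩, ?_⟩, fun x => rfl, fun x => rfl⟩
      · have := x.2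
        rw [MonoidHom.mem_ker] at this ⊢
        exact this
      · have := (Subgroup.mem_inf.1 x.2).2
        rw [MonoidHom.mem_ker] at this ⊢
        exact this
    have hmul : Nat.card W₁ * Nat.card W₂ = n := by
      rw [← hk, ← hcard, ← Subgroup.index_ker f]
      exact f.ker.card_mul_index
    -- `W₁` is nontrivial
    have hW₁ne : 1 < Nat.card W₁ := by
      obtain ⟨w, hw⟩ := exists_prime_orderOf_dvd_card' (G := W) r (hcard ▸ hrn)
      have hw1 : (w : N) ∈ W₁ := by
        refine Subgroup.mem_inf.2 ⟨w.2, ?_⟩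
        rw [MonoidHom.mem_ker, powMonoidHom_apply]
        have := pow_orderOf_eq_one w
        rw [hw] at this
        have h2 := congrArg Subtype.val this
        simpa using h2
      have hw2 : (w : N) ≠ 1 := by
        intro h1
        have : w = 1 := Subtype.ext h1
        rw [this, orderOf_one] at hw
        exact hr.one_lt.ne hw
      rw [Subgroup.one_lt_card_iff_ne_bot]
      intro hbot
      rw [hbot, Subgroup.mem_bot] at hw1
      exact hw2 hw1
    have hW₂lt : Nat.card W₂ < n := by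
      have hpos : 0 < Nat.card W₂ := Nat.card_pos
      calc Nat.card W₂ = 1 * Nat.card W₂ := (one_mul _).symm
        _ < Nat.card W₁ * Nat.card W₂ := Nat.mul_lt_mul_of_pos_right hW₁ne hpos
        _ = n := hmul
    -- invariance
    have hW₁i : ∀ w ∈ W₁, i w ∈ W₁ := by
      intro w hw
      obtain ⟨h1, h2⟩ := Subgroup.mem_inf.1 hw
      refine Subgroup.mem_inf.2 ⟨hWi w h1, ?_⟩
      rw [MonoidHom.mem_ker, powMonoidHom_apply] at h2 ⊢
      rw [← map_pow, h2, map_one]
    have hW₁j : ∀ w ∈ W₁, j w ∈ W₁ := by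
      intro w hw
      obtain ⟨h1, h2⟩ := Subgroup.mem_inf.1 hw
      refine Subgroup.mem_inf.2 ⟨hWj w h1, ?_⟩
      rw [MonoidHom.mem_ker, powMonoidHom_apply] at h2 ⊢
      rw [← map_pow, h2, map_one]
    have hW₂i : ∀ w ∈ W₂, i w ∈ W₂ := by
      rintro _ ⟨w, rfl⟩
      refine ⟨⟨i w.1, hWi w.1 w.2⟩, ?_⟩
      simp only [hf, MonoidHom.comp_apply, Subgroup.subtype_apply, powMonoidHom_apply, map_pow]
    have hW₂j : ∀ w ∈ W₂, j w ∈ W₂ := by
      rintro _ ⟨w, rfl⟩
      refine ⟨⟨j w.1, hWj w.1 w.2⟩, ?_⟩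
      simp only [hf, MonoidHom.comp_apply, Subgroup.subtype_apply, powMonoidHom_apply, map_pow]
    have hsq2 : IsSquare (Nat.card W₂) := ih _ hW₂lt W₂ hW₂i hW₂j rfl
    have hsq1 : IsSquare (Nat.card W₁) := by
      apply isSquare_card_of_exponent_prime h r hr2 W₁ hW₁i hW₁j
      intro u hu
      have := (Subgroup.mem_inf.1 hu).2
      rwa [MonoidHom.mem_ker, powMonoidHom_apply] at this
    rw [← hmul]
    exact hsq1.mul hsq2

/-- A finite abelian group of odd order with a quaternionic structure has square order. -/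
theorem isSquare_card_of_quatStr [Finite N] (h : QuatStr i j) (hodd : Odd (Nat.card N)) :
    IsSquare (Nat.card N) := by
  have := isSquare_card_invariant_aux h hodd (Nat.card (⊤ : Subgroup N)) ⊤
    (fun _ _ => Subgroup.mem_top _) (fun _ _ => Subgroup.mem_top _) rfl
  rwa [Subgroup.card_top] at this

end

end Cfsg.Agent.Lib.Helper3
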