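import Mathlib
import Cfsg.Prelude.Def_FischerSpaces
import Cfsg.Agent.Lib.Helper9.ReflMod3

set_option autoImplicit false

/-! Reflections of orthogonal spaces over the field with three elements: vector calculus -/

namespace Cfsg.Agent.Lib.Helper3.RF

open Cfsg Matrix

/-! ### arithmetic in `ZMod 3` -/

theorem z3_sq : ∀ s : ZMod 3, s ≠ 0 → s * s = 1 := by decide
theorem z3_cases : ∀ c b : ZMod 3, c ≠ 0 → b = 0 ∨ b = c ∨ b = -c := by decide
theorem z3_repr : ∀ a b c : ZMod 3, a ≠ 0 → b ≠ 0 → c ≠ 0 → c = a ∨ c = b ∨ c = a + b := by decide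
theorem z3_two_mul : ∀ a b : ZMod 3, 2 * a = 2 * b → a = b := by decide
theorem z3_two_ne : ∀ c : ZMod 3, c ≠ 0 → 2 * c ≠ 0 := by decide

/-- a nondegenerate symmetric bilinear form of dimension at least two over `ZMod 3` takes every
non-zero value on the diagonal -/
theorem exists_norm {E : Type*} [AddCommGroup E] [Module (ZMod 3) E]
    [FiniteDimensional (ZMod 3) E] (β : LinearMap.BilinForm (ZMod 3) E) (hs : β.IsSymm)
    (hn : β.Nondegenerate) (hd : 2 ≤ Module.finrank (ZMod 3) E) (c : ZMod 3) (hc : c ≠ 0) :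
    ∃ x : E, β x x = c := by
  have : Invertible (2 : ZMod 3) := ⟨2, by decide, by decide⟩
  obtain ⟨v, hv⟩ := LinearMap.BilinForm.exists_orthogonal_basis (LinearMap.BilinForm.isSymm_iff.mp hs)
  have hne : ∀ i, β (v i) (v i) ≠ 0 := fun i =>
    hv.not_isOrtho_basis_self_of_separatingLeft hn.1 i
  set i0 : Fin (Module.finrank (ZMod 3) E) := ⟨0, by omega⟩ with hi0
  set i1 : Fin (Module.finrank (ZMod 3) E) := ⟨1, by omega⟩ with hi1
  have h01 : i0 ≠ i1 := by
    intro h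
    have := congrArg Fin.val h
    simp [hi0, hi1] at this
  have ho : β (v i0) (v i1) = 0 := hv h01
  have ho' : β (v i1) (v i0) = 0 := hv h01.symm
  rcases z3_repr _ _ c (hne i0) (hne i1) hc with h | h | h
  · exact ⟨v i0, h.symm⟩
  · exact ⟨v i1, h.symm⟩
  · refine ⟨v i0 + v i1, ?_⟩
    simp only [map_add, LinearMap.add_apply]
    rw [ho, ho', h]
    ring

variable {n : ℕ} (Q : QuadraticForm (ZMod 3) (Fin n → ZMod 3))

/-- the polar form -/
abbrev Bf (x y : Fin n → ZMod 3) : ZMod 3 := QuadraticMap.polar (⇑Q) x y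

theorem Bf_self (x : Fin n → ZMod 3) : Bf Q x x = 2 * Q x := by
  show QuadraticMap.polar (⇑Q) x x = 2 * Q x
  rw [QuadraticMap.polar_self]
  simp

theorem Q_add (x y : Fin n → ZMod 3) : Q (x + y) = Q x + Q y + Bf Q x y :=
  QuadraticMap.map_add (⇑Q) x y

theorem Q_sub (x y : Fin n → ZMod 3) : Q (x - y) = Q x + Q y - Bf Q x y := by
  rw [sub_eq_add_neg, Q_add, QuadraticMap.map_neg]
  show _ + QuadraticMap.polar (⇑Q) x (-y) = _
  rw [QuadraticMap.polar_neg_right]
  ring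

theorem Q_smul (a : ZMod 3) (x : Fin n → ZMod 3) : Q (a • x) = a * a * Q x := by
  rw [QuadraticMap.map_smul]
  rfl

theorem ne_zero_of_Q {x : Fin n → ZMod 3} (h : Q x ≠ 0) : x ≠ 0 := by
  intro h0
  apply h
  rw [h0, QuadraticMap.map_zero]

/-- the reflection in `v`, as a map on vectors -/
def rho (v x : Fin n → ZMod 3) : Fin n → ZMod 3 := x - ((Q v)⁻¹ * Bf Q v x) • v

theorem reflectionMatrix_mulVec (v x : Fin n → ZMod 3) :
    reflectionMatrix (⇑Q) v *ᵥ x = rho Q v x := by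
  unfold reflectionMatrix rho
  rw [Matrix.sub_mulVec, Matrix.one_mulVec, Matrix.smul_mulVec,
    Cfsg.Agent.Lib.Helper9.vecMulVec_polarVec_mulVec, smul_smul]

theorem Bf_rho {v : Fin n → ZMod 3} (hv : Q v ≠ 0) (x : Fin n → ZMod 3) :
    Bf Q v (rho Q v x) = -Bf Q v x := by
  unfold rho
  show QuadraticMap.polar (⇑Q) v (x - ((Q v)⁻¹ * Bf Q v x) • v) = _
  rw [QuadraticMap.polar_sub_right, QuadraticMap.polar_smul_right]
  have : QuadraticMap.polar (⇑Q) v v = 2 * Q v := Bf_self Q v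
  rw [this, smul_eq_mul]
  have : (Q v)⁻¹ * Bf Q v x * (2 * Q v) = 2 * Bf Q v x := by
    field_simp
  rw [this]
  ring

theorem rho_rho {v : Fin n → ZMod 3} (hv : Q v ≠ 0) (x : Fin n → ZMod 3) :
    rho Q v (rho Q v x) = x := by
  have h1 := Bf_rho Q hv x
  have e : rho Q v (rho Q v x) = rho Q v x - ((Q v)⁻¹ * Bf Q v (rho Q v x)) • v := rfl
  rw [e, h1]
  unfold rho
  rw [mul_neg, neg_smul]
  abel

theorem rho_self {v : Fin n → ZMod 3} (hv : Q v ≠ 0) : rho Q v v = -v := by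
  unfold rho
  rw [Bf_self]
  have : (Q v)⁻¹ * (2 * Q v) = 2 := by field_simp
  rw [this, two_smul]
  abel

theorem rho_of_orth {v x : Fin n → ZMod 3} (h : Bf Q v x = 0) : rho Q v x = x := by
  unfold rho
  rw [h, mul_zero, zero_smul, sub_zero]

theorem rho_add (v x y : Fin n → ZMod 3) : rho Q v (x + y) = rho Q v x + rho Q v y := by
  rw [← reflectionMatrix_mulVec, ← reflectionMatrix_mulVec, ← reflectionMatrix_mulVec,
    Matrix.mulVec_add]

theorem rho_neg (v x : Fin n → ZMod 3) : rho Q v (-x) = -rho Q v x := by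
  rw [← reflectionMatrix_mulVec, ← reflectionMatrix_mulVec, Matrix.mulVec_neg]

theorem Q_rho {v : Fin n → ZMod 3} (hv : Q v ≠ 0) (x : Fin n → ZMod 3) :
    Q (rho Q v x) = Q x := by
  unfold rho
  rw [Q_sub, Q_smul]
  have h1 : Bf Q x (((Q v)⁻¹ * Bf Q v x) • v) = (Q v)⁻¹ * Bf Q v x * Bf Q v x := by
    show QuadraticMap.polar (⇑Q) x (((Q v)⁻¹ * Bf Q v x) • v) = _
    rw [QuadraticMap.polar_smul_right, smul_eq_mul, QuadraticMap.polar_comm]
  rw [h1]
  field_simp
  ring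

/-- reflections in `v` and in `e • v` (`e ≠ 0`) agree -/
theorem rho_smul_vec {e : ZMod 3} (he : e ≠ 0) (v x : Fin n → ZMod 3) :
    rho Q (e • v) x = rho Q v x := by
  unfold rho
  rw [Q_smul, z3_sq e he, one_mul]
  show x - ((Q v)⁻¹ * QuadraticMap.polar (⇑Q) (e • v) x) • e • v = _
  rw [QuadraticMap.polar_smul_left, smul_smul, smul_eq_mul]
  have : (Q v)⁻¹ * (e * QuadraticMap.polar (⇑Q) v x) * e =
      (Q v)⁻¹ * QuadraticMap.polar (⇑Q) v x * (e * e) := by ring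
  rw [this, z3_sq e he, mul_one]

theorem rho_neg_vec (v x : Fin n → ZMod 3) : rho Q (-v) x = rho Q v x := by
  have := rho_smul_vec Q (e := -1) (by decide) v x
  rwa [neg_one_smul] at this

/-- isometries preserve the polar form -/
theorem Bf_isometry {M : Matrix (Fin n) (Fin n) (ZMod 3)} (hM : ∀ u, Q (M *ᵥ u) = Q u)
    (u w : Fin n → ZMod 3) : Bf Q (M *ᵥ u) (M *ᵥ w) = Bf Q u w := by
  show QuadraticMap.polar (⇑Q) (M *ᵥ u) (M *ᵥ w) = QuadraticMap.polar (⇑Q) u w
  unfold QuadraticMap.polar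
  rw [← Matrix.mulVec_add, hM, hM, hM]

/-- conjugating a reflection by an isometry -/
theorem mulVec_rho {M : Matrix (Fin n) (Fin n) (ZMod 3)} (hM : ∀ u, Q (M *ᵥ u) = Q u)
    (v x : Fin n → ZMod 3) : M *ᵥ (rho Q v x) = rho Q (M *ᵥ v) (M *ᵥ x) := by
  unfold rho
  rw [Matrix.mulVec_sub, Matrix.mulVec_smul, Bf_isometry Q hM, hM]

end Cfsg.Agent.Lib.Helper3.RF
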