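import Mathlib
import Cfsg.Agent.Lib.Helper3.RF1

set_option autoImplicit false

/-! Reflections of orthogonal spaces over the field with three elements: existence of vectors -/

namespace Cfsg.Agent.Lib.Helper3.RF

open Cfsg Matrix

variable {n : ℕ} (Q : QuadraticForm (ZMod 3) (Fin n → ZMod 3))

theorem polarBilin_isSymm : LinearMap.BilinForm.IsSymm (QuadraticMap.polarBilin Q) :=
  ⟨fun x y => QuadraticMap.polar_comm (⇑Q) x y⟩

/-- `Q` represents every non-zero scalar -/
theorem exists_vec_of_norm (hQ : (QuadraticMap.polarBilin Q).Nondegenerate) (hn : 2 ≤ n)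
    (c : ZMod 3) (hc : c ≠ 0) : ∃ v : Fin n → ZMod 3, Q v = c := by
  have hd : 2 ≤ Module.finrank (ZMod 3) (Fin n → ZMod 3) := by
    rw [Module.finrank_fin_fun]; exact hn
  obtain ⟨x, hx⟩ := exists_norm (QuadraticMap.polarBilin Q) (polarBilin_isSymm Q) hQ hd (2 * c)
    (z3_two_ne c hc)
  refine ⟨x, ?_⟩
  have : Bf Q x x = 2 * c := hx
  rw [Bf_self] at this
  exact z3_two_mul _ _ this

/-- the common orthogonal complement of two vectors -/
def perp2 (u v : Fin n → ZMod 3) : Submodule (ZMod 3) (Fin n → ZMod 3) :=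
  LinearMap.ker (QuadraticMap.polarBilin Q u) ⊓ LinearMap.ker (QuadraticMap.polarBilin Q v)

theorem mem_perp2 {u v x : Fin n → ZMod 3} :
    x ∈ perp2 Q u v ↔ Bf Q u x = 0 ∧ Bf Q v x = 0 := by
  unfold perp2
  rw [Submodule.mem_inf, LinearMap.mem_ker, LinearMap.mem_ker]
  rfl

theorem finrank_ker_functional (f : (Fin n → ZMod 3) →ₗ[ZMod 3] ZMod 3) :
    n ≤ Module.finrank (ZMod 3) (LinearMap.ker f) + 1 := by
  have h1 := LinearMap.finrank_range_add_finrank_ker f
  rw [Module.finrank_fin_fun] at h1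
  have h2 : Module.finrank (ZMod 3) (LinearMap.range f) ≤ 1 := by
    have := Submodule.finrank_le (LinearMap.range f)
    rwa [Module.finrank_self] at this
  omega

theorem finrank_perp2 (u v : Fin n → ZMod 3) :
    n ≤ Module.finrank (ZMod 3) (perp2 Q u v) + 2 := by
  unfold perp2
  have h1 := finrank_ker_functional (QuadraticMap.polarBilin Q u)
  have h2 := finrank_ker_functional (QuadraticMap.polarBilin Q v)
  have h3 := Submodule.finrank_sup_add_finrank_inf_eq
    (LinearMap.ker (QuadraticMap.polarBilin Q u)) (LinearMap.ker (QuadraticMap.polarBilin Q v))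
  have h4 := Submodule.finrank_le
    (LinearMap.ker (QuadraticMap.polarBilin Q u) ⊔ LinearMap.ker (QuadraticMap.polarBilin Q v))
  rw [Module.finrank_fin_fun] at h4
  omega

/-- the projection to the orthogonal complement of two orthogonal anisotropic vectors -/
theorem proj_mem_perp2 {u v : Fin n → ZMod 3} {c : ZMod 3} (hc : c ≠ 0) (hu : Q u = c)
    (hv : Q v = c) (huv : Bf Q u v = 0) (y : Fin n → ZMod 3) :
    y - ((2 * c)⁻¹ * Bf Q u y) • u - ((2 * c)⁻¹ * Bf Q v y) • v ∈ perp2 Q u v := by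
  have h2c : 2 * c ≠ 0 := z3_two_ne c hc
  have hvu : Bf Q v u = 0 := by
    show QuadraticMap.polar (⇑Q) v u = 0
    rw [QuadraticMap.polar_comm]; exact huv
  rw [mem_perp2]
  constructor
  · show QuadraticMap.polar (⇑Q) u _ = 0
    rw [QuadraticMap.polar_sub_right, QuadraticMap.polar_sub_right,
      QuadraticMap.polar_smul_right, QuadraticMap.polar_smul_right]
    have e1 : QuadraticMap.polar (⇑Q) u u = 2 * c := by rw [← hu]; exact Bf_self Q u
    have e2 : QuadraticMap.polar (⇑Q) u v = 0 := huv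
    rw [e1, e2, smul_eq_mul, smul_eq_mul, mul_zero, sub_zero]
    have : (2 * c)⁻¹ * Bf Q u y * (2 * c) = Bf Q u y := by
      rw [mul_comm ((2 * c)⁻¹) _, mul_assoc, inv_mul_cancel₀ h2c, mul_one]
    rw [this]
    exact sub_self _
  · show QuadraticMap.polar (⇑Q) v _ = 0
    rw [QuadraticMap.polar_sub_right, QuadraticMap.polar_sub_right,
      QuadraticMap.polar_smul_right, QuadraticMap.polar_smul_right]
    have e1 : QuadraticMap.polar (⇑Q) v v = 2 * c := by rw [← hv]; exact Bf_self Q v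
    have e2 : QuadraticMap.polar (⇑Q) v u = 0 := hvu
    rw [e1, e2, smul_eq_mul, smul_eq_mul, mul_zero, sub_zero]
    have : (2 * c)⁻¹ * Bf Q v y * (2 * c) = Bf Q v y := by
      rw [mul_comm ((2 * c)⁻¹) _, mul_assoc, inv_mul_cancel₀ h2c, mul_one]
    rw [this]
    exact sub_self _

theorem perp2_nondegenerate (hQ : (QuadraticMap.polarBilin Q).Nondegenerate)
    {u v : Fin n → ZMod 3} {c : ZMod 3} (hc : c ≠ 0) (hu : Q u = c) (hv : Q v = c)
    (huv : Bf Q u v = 0) :
    (LinearMap.BilinForm.restrict (QuadraticMap.polarBilin Q) (perp2 Q u v)).Nondegenerate := by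
  apply LinearMap.BilinForm.Nondegenerate.ofSeparatingLeft
  intro w hw
  have hwm := (mem_perp2 Q).mp w.2
  have hwu : Bf Q (w : Fin n → ZMod 3) u = 0 := by
    show QuadraticMap.polar (⇑Q) _ u = 0
    rw [QuadraticMap.polar_comm]; exact hwm.1
  have hwv : Bf Q (w : Fin n → ZMod 3) v = 0 := by
    show QuadraticMap.polar (⇑Q) _ v = 0
    rw [QuadraticMap.polar_comm]; exact hwm.2
  have h0 : (w : Fin n → ZMod 3) = 0 := by
    apply hQ.1
    intro y
    have hy := proj_mem_perp2 Q hc hu hv huv y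
    have := hw ⟨_, hy⟩
    have e : QuadraticMap.polar (⇑Q) (w : Fin n → ZMod 3)
        (y - ((2 * c)⁻¹ * Bf Q u y) • u - ((2 * c)⁻¹ * Bf Q v y) • v) = 0 := this
    rw [QuadraticMap.polar_sub_right, QuadraticMap.polar_sub_right,
      QuadraticMap.polar_smul_right, QuadraticMap.polar_smul_right] at e
    have e1 : QuadraticMap.polar (⇑Q) (w : Fin n → ZMod 3) u = 0 := hwu
    have e2 : QuadraticMap.polar (⇑Q) (w : Fin n → ZMod 3) v = 0 := hwv
    rw [e1, e2, smul_zero, smul_zero, sub_zero, sub_zero] at e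
    exact e
  exact Subtype.ext h0

/-- a vector of prescribed norm orthogonal to two orthogonal vectors of norm `c` -/
theorem exists_perp_of_norm (hQ : (QuadraticMap.polarBilin Q).Nondegenerate) (hn : 4 ≤ n)
    {u v : Fin n → ZMod 3} {c : ZMod 3} (hc : c ≠ 0) (hu : Q u = c) (hv : Q v = c)
    (huv : Bf Q u v = 0) (c' : ZMod 3) (hc' : c' ≠ 0) :
    ∃ x : Fin n → ZMod 3, Bf Q u x = 0 ∧ Bf Q v x = 0 ∧ Q x = c' := by
  have hd : 2 ≤ Module.finrank (ZMod 3) (perp2 Q u v) := by
    have := finrank_perp2 Q u v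
    omega
  obtain ⟨x, hx⟩ := exists_norm (LinearMap.BilinForm.restrict (QuadraticMap.polarBilin Q) (perp2 Q u v))
    (LinearMap.BilinForm.IsSymm.restrict (polarBilin_isSymm Q) _) (perp2_nondegenerate Q hQ hc hu hv huv) hd (2 * c')
    (z3_two_ne c' hc')
  have hxm := (mem_perp2 Q).mp x.2
  refine ⟨x, hxm.1, hxm.2, ?_⟩
  have : Bf Q (x : Fin n → ZMod 3) x = 2 * c' := hx
  rw [Bf_self] at this
  exact z3_two_mul _ _ this

end Cfsg.Agent.Lib.Helper3.RF
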