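import Mathlib
import Cfsg.Agent.Lib.Helper3.RF2

set_option autoImplicit false

/-! Reflections of orthogonal spaces over the field with three elements: the group level -/

namespace Cfsg.Agent.Lib.Helper3.RF

open Cfsg Matrix

open scoped MatrixGroups

variable {n : ℕ} (Q : QuadraticForm (ZMod 3) (Fin n → ZMod 3))

theorem mat_ext {M N : Matrix (Fin n) (Fin n) (ZMod 3)} (h : ∀ x, M *ᵥ x = N *ᵥ x) : M = N := by
  ext i j
  have := congrFun (h (Pi.single j 1)) i
  simpa using this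

theorem mem_OQ_iff (g : GL (Fin n) (ZMod 3)) :
    g ∈ isometryGroup (ZMod 3) (⇑Q) ↔
      ∀ u, Q ((g : Matrix (Fin n) (Fin n) (ZMod 3)) *ᵥ u) = Q u := by
  constructor
  · intro h u
    exact h u u
  · intro h u v
    exact h u

theorem reflectionMatrix_sq {v : Fin n → ZMod 3} (hv : Q v ≠ 0) :
    reflectionMatrix (⇑Q) v * reflectionMatrix (⇑Q) v = 1 := by
  apply mat_ext
  intro x
  rw [← Matrix.mulVec_mulVec, reflectionMatrix_mulVec, reflectionMatrix_mulVec, rho_rho Q hv,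
    Matrix.one_mulVec]

/-- the reflection in `v` as an element of the general linear group -/
def reflGL (v : Fin n → ZMod 3) (hv : Q v ≠ 0) : GL (Fin n) (ZMod 3) :=
  ⟨reflectionMatrix (⇑Q) v, reflectionMatrix (⇑Q) v, reflectionMatrix_sq Q hv,
    reflectionMatrix_sq Q hv⟩

theorem reflGL_mem (v : Fin n → ZMod 3) (hv : Q v ≠ 0) :
    reflGL Q v hv ∈ isometryGroup (ZMod 3) (⇑Q) := by
  rw [mem_OQ_iff]
  intro u
  show Q (reflectionMatrix (⇑Q) v *ᵥ u) = Q u
  rw [reflectionMatrix_mulVec, Q_rho Q hv]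

/-- the reflection in `v` as an element of the isometry group -/
def reflO (v : Fin n → ZMod 3) (hv : Q v ≠ 0) : isometryGroup (ZMod 3) (⇑Q) :=
  ⟨reflGL Q v hv, reflGL_mem Q v hv⟩

/-- the action of an isometry on vectors -/
def actO (g : isometryGroup (ZMod 3) (⇑Q)) (x : Fin n → ZMod 3) : Fin n → ZMod 3 :=
  ((g : GL (Fin n) (ZMod 3)) : Matrix (Fin n) (Fin n) (ZMod 3)) *ᵥ x

theorem actO_mul (g h : isometryGroup (ZMod 3) (⇑Q)) (x : Fin n → ZMod 3) :
    actO Q (g * h) x = actO Q g (actO Q h x) := by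
  unfold actO
  rw [Subgroup.coe_mul, Units.val_mul, Matrix.mulVec_mulVec]

theorem actO_one (x : Fin n → ZMod 3) : actO Q 1 x = x := by
  unfold actO
  simp

theorem actO_inv (g : isometryGroup (ZMod 3) (⇑Q)) (x : Fin n → ZMod 3) :
    actO Q g⁻¹ (actO Q g x) = x := by
  rw [← actO_mul, inv_mul_cancel, actO_one]

theorem actO_inv' (g : isometryGroup (ZMod 3) (⇑Q)) (x : Fin n → ZMod 3) :
    actO Q g (actO Q g⁻¹ x) = x := by
  rw [← actO_mul, mul_inv_cancel, actO_one]

theorem actO_ext {g h : isometryGroup (ZMod 3) (⇑Q)} (hh : ∀ x, actO Q g x = actO Q h x) :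
    g = h := by
  apply Subtype.ext
  apply Units.ext
  exact mat_ext hh

theorem actO_Q (g : isometryGroup (ZMod 3) (⇑Q)) (x : Fin n → ZMod 3) :
    Q (actO Q g x) = Q x :=
  (mem_OQ_iff Q _).mp g.2 x

theorem actO_neg (g : isometryGroup (ZMod 3) (⇑Q)) (x : Fin n → ZMod 3) :
    actO Q g (-x) = -actO Q g x := by
  unfold actO
  rw [Matrix.mulVec_neg]

theorem actO_refl (v : Fin n → ZMod 3) (hv : Q v ≠ 0) (x : Fin n → ZMod 3) :
    actO Q (reflO Q v hv) x = rho Q v x :=
  reflectionMatrix_mulVec Q v x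

theorem reflO_mem (v : Fin n → ZMod 3) {c : ZMod 3} (hc : c ≠ 0) (hv : Q v = c) :
    reflO Q v (hv ▸ hc) ∈ reflectionsOfNorm (⇑Q) c :=
  ⟨v, hv, rfl⟩

theorem eq_reflO_of_mem {c : ZMod 3} (hc : c ≠ 0) {g : isometryGroup (ZMod 3) (⇑Q)}
    (hg : g ∈ reflectionsOfNorm (⇑Q) c) :
    ∃ v, ∃ hv : Q v = c, g = reflO Q v (hv ▸ hc) := by
  obtain ⟨v, hv, hm⟩ := hg
  refine ⟨v, hv, ?_⟩
  apply Subtype.ext
  apply Units.ext
  exact hm

theorem reflO_sq (v : Fin n → ZMod 3) (hv : Q v ≠ 0) : reflO Q v hv * reflO Q v hv = 1 := by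
  apply actO_ext
  intro x
  rw [actO_mul, actO_refl, actO_refl, rho_rho Q hv, actO_one]

theorem reflO_inv (v : Fin n → ZMod 3) (hv : Q v ≠ 0) : (reflO Q v hv)⁻¹ = reflO Q v hv :=
  inv_eq_of_mul_eq_one_left (reflO_sq Q v hv)

theorem reflO_ne_one (v : Fin n → ZMod 3) (hv : Q v ≠ 0) : reflO Q v hv ≠ 1 := by
  intro h
  have h1 : actO Q (reflO Q v hv) v = v := by rw [h, actO_one]
  rw [actO_refl, rho_self Q hv] at h1
  have hv0 := ne_zero_of_Q Q hv
  apply hv0
  have h2 : v + v = 0 := by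
    nth_rewrite 1 [← h1]
    exact neg_add_cancel v
  funext i
  have := congrFun h2 i
  simp only [Pi.add_apply, Pi.zero_apply] at this ⊢
  have key : ∀ a : ZMod 3, a + a = 0 → a = 0 := by decide
  exact key _ this

theorem reflO_congr {v w : Fin n → ZMod 3} (hv : Q v ≠ 0) (hw : Q w ≠ 0)
    (h : ∀ x, rho Q v x = rho Q w x) : reflO Q v hv = reflO Q w hw := by
  apply actO_ext
  intro x
  rw [actO_refl, actO_refl, h]

/-- conjugating a reflection -/
theorem reflO_conj (g : isometryGroup (ZMod 3) (⇑Q)) (v : Fin n → ZMod 3) (hv : Q v ≠ 0) :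
    g * reflO Q v hv * g⁻¹ = reflO Q (actO Q g v) (by rw [actO_Q]; exact hv) := by
  apply actO_ext
  intro x
  rw [actO_mul, actO_mul, actO_refl, actO_refl]
  have hM := (mem_OQ_iff Q _).mp g.2
  have := mulVec_rho Q hM v (actO Q g⁻¹ x)
  show actO Q g (rho Q v (actO Q g⁻¹ x)) = _
  unfold actO at this ⊢
  rw [this]
  have e := actO_inv' Q g x
  unfold actO at e
  rw [e]

/-- the 3-transposition property of reflections of equal norm -/
theorem reflO_three {u v : Fin n → ZMod 3} {c : ZMod 3} (hc : c ≠ 0) (hu : Q u = c)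
    (hv : Q v = c) :
    (reflO Q u (hu ▸ hc) * reflO Q v (hv ▸ hc)) ^ 2 = 1 ∨
      (reflO Q u (hu ▸ hc) * reflO Q v (hv ▸ hc)) ^ 3 = 1 := by
  set a := reflO Q u (hu ▸ hc) with ha
  set b := reflO Q v (hv ▸ hc) with hb
  have ha2 : a * a = 1 := reflO_sq Q u _
  have hb2 : b * b = 1 := reflO_sq Q v _
  have hai : a⁻¹ = a := reflO_inv Q u _
  have hbi : b⁻¹ = b := reflO_inv Q v _
  have c1 : a * b * a⁻¹ = reflO Q (actO Q a v) (by rw [actO_Q]; exact hv ▸ hc) :=
    reflO_conj Q a v _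
  have c2 : b * a * b⁻¹ = reflO Q (actO Q b u) (by rw [actO_Q]; exact hu ▸ hc) :=
    reflO_conj Q b u _
  have e1 : actO Q a v = rho Q u v := actO_refl Q u _ v
  have e2 : actO Q b u = rho Q v u := actO_refl Q v _ u
  by_cases h0 : Bf Q u v = 0
  · left
    have : a * b * a⁻¹ = b := by
      rw [c1]
      apply reflO_congr
      intro x
      rw [e1, rho_of_orth Q h0]
    rw [hai] at this
    calc (a * b) ^ 2 = (a * b * a) * b := by
          simp only [pow_succ, pow_zero, one_mul, mul_assoc]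
      _ = 1 := by rw [this]; exact hb2
  · right
    set s := c⁻¹ * Bf Q u v with hs
    have hs0 : s ≠ 0 := mul_ne_zero (inv_ne_zero hc) h0
    have r1 : rho Q u v = v - s • u := by
      unfold rho; rw [hu]
    have r2 : rho Q v u = u - s • v := by
      unfold rho
      rw [hv]
      show u - (c⁻¹ * QuadraticMap.polar (⇑Q) v u) • v = _
      rw [QuadraticMap.polar_comm]
    have r3 : rho Q v u = (-s) • rho Q u v := by
      rw [r1, r2, smul_sub, smul_smul, neg_mul, z3_sq s hs0]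
      simp only [neg_smul, one_smul]
      abel
    have hw : Q (rho Q u v) ≠ 0 := by rw [Q_rho Q (hu ▸ hc)]; exact hv ▸ hc
    have key : a * b * a⁻¹ = b * a * b⁻¹ := by
      rw [c1, c2]
      apply reflO_congr
      intro x
      rw [e1, e2, r3, rho_smul_vec Q (neg_ne_zero.mpr hs0)]
    rw [hai, hbi] at key
    have hw2 : (a * b * a) * (a * b * a) = 1 := by
      have : a * b * a = reflO Q (actO Q a v) (by rw [actO_Q]; exact hv ▸ hc) := by
        rw [← c1, hai]
      rw [this]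
      exact reflO_sq Q _ _
    calc (a * b) ^ 3 = (a * b * a) * (b * a * b) := by
          simp only [pow_succ, pow_zero, one_mul, mul_assoc]
      _ = 1 := by rw [← key]; exact hw2

end Cfsg.Agent.Lib.Helper3.RF
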