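import Mathlib
import Cfsg.Agent.Lib.Helper3.RF3

set_option autoImplicit false

/-! Reflections of one norm over the field with three elements form a class of
3-transpositions -/

namespace Cfsg.Agent.Lib.Helper3.RF

open Cfsg Matrix

open scoped MatrixGroups

variable {n : ℕ} (Q : QuadraticForm (ZMod 3) (Fin n → ZMod 3))

theorem Bf_comm (x y : Fin n → ZMod 3) : Bf Q x y = Bf Q y x :=
  QuadraticMap.polar_comm (⇑Q) x y

theorem Bf_add_left (x x' y : Fin n → ZMod 3) : Bf Q (x + x') y = Bf Q x y + Bf Q x' y :=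
  QuadraticMap.polar_add_left Q x x' y

theorem Bf_sub_left (x x' y : Fin n → ZMod 3) : Bf Q (x - x') y = Bf Q x y - Bf Q x' y :=
  QuadraticMap.polar_sub_left Q x x' y

theorem Bf_add_right (x y y' : Fin n → ZMod 3) : Bf Q x (y + y') = Bf Q x y + Bf Q x y' :=
  QuadraticMap.polar_add_right Q x y y'

/-- two non-orthogonal vectors of norm `c` are swapped up to sign by a reflection of norm `c` -/
theorem exists_refl_swap {u v : Fin n → ZMod 3} {c : ZMod 3} (hc : c ≠ 0) (hu : Q u = c)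
    (hv : Q v = c) (h0 : Bf Q u v ≠ 0) :
    ∃ w, Q w = c ∧ (rho Q w u = v ∨ rho Q w u = -v) := by
  have hcc : c⁻¹ * c = 1 := inv_mul_cancel₀ hc
  rcases z3_cases c (Bf Q u v) hc with h | h | h
  · exact absurd h h0
  · refine ⟨u - v, ?_, Or.inl ?_⟩
    · rw [Q_sub, hu, hv, h]; ring
    · have hq : Q (u - v) = c := by rw [Q_sub, hu, hv, h]; ring
      unfold rho
      rw [hq, Bf_sub_left, Bf_self, hu, Bf_comm Q v u, h]
      have : c⁻¹ * (2 * c - c) = 1 := by
        have : (2 : ZMod 3) * c - c = c := by ring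
        rw [this, hcc]
      rw [this, one_smul]
      abel
  · refine ⟨u + v, ?_, Or.inr ?_⟩
    · rw [Q_add, hu, hv, h]; ring
    · have hq : Q (u + v) = c := by rw [Q_add, hu, hv, h]; ring
      unfold rho
      rw [hq, Bf_add_left, Bf_self, hu, Bf_comm Q v u, h]
      have : c⁻¹ * (2 * c + -c) = 1 := by
        have : (2 : ZMod 3) * c + -c = c := by ring
        rw [this, hcc]
      rw [this, one_smul]
      abel

/-- the reflection subgroup is transitive, up to sign, on the vectors of norm `c` -/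
theorem exists_mem_act (hQ : (QuadraticMap.polarBilin Q).Nondegenerate) (hn : 4 ≤ n)
    {u v : Fin n → ZMod 3} {c : ZMod 3} (hc : c ≠ 0) (hu : Q u = c) (hv : Q v = c) :
    ∃ g ∈ reflectionSubgroup (⇑Q) c, actO Q g u = v ∨ actO Q g u = -v := by
  by_cases h0 : Bf Q u v = 0
  · obtain ⟨x, hux, hvx, hx⟩ := exists_perp_of_norm Q hQ hn hc hu hv h0 (-c)
      (neg_ne_zero.mpr hc)
    set w := u + v + x with hw
    have hwq : Q w = c := by
      rw [hw, Q_add, Q_add, hu, hv, hx, h0, Bf_add_left, hux, hvx]; ring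
    have huw : Bf Q u w ≠ 0 := by
      rw [hw, Bf_add_right, Bf_add_right, Bf_self, hu, h0, hux]
      simp only [add_zero]
      exact z3_two_ne c hc
    have hwv : Bf Q w v ≠ 0 := by
      rw [hw, Bf_add_left, Bf_add_left, Bf_self, hv, h0, Bf_comm Q x v, hvx]
      simp only [add_zero, zero_add]
      exact z3_two_ne c hc
    obtain ⟨w1, hw1, h1⟩ := exists_refl_swap Q hc hu hwq huw
    obtain ⟨w2, hw2, h2⟩ := exists_refl_swap Q hc hwq hv hwv
    refine ⟨reflO Q w2 (hw2 ▸ hc) * reflO Q w1 (hw1 ▸ hc), ?_, ?_⟩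
    · exact Subgroup.mul_mem _ (Subgroup.subset_closure (reflO_mem Q w2 hc hw2))
        (Subgroup.subset_closure (reflO_mem Q w1 hc hw1))
    · rw [actO_mul, actO_refl, actO_refl]
      rcases h1 with h1 | h1 <;> rcases h2 with h2 | h2
      · left; rw [h1, h2]
      · right; rw [h1, h2]
      · right; rw [h1, rho_neg, h2]
      · left; rw [h1, rho_neg, h2, neg_neg]
  · obtain ⟨w, hw, h1⟩ := exists_refl_swap Q hc hu hv h0
    refine ⟨reflO Q w (hw ▸ hc), Subgroup.subset_closure (reflO_mem Q w hc hw), ?_⟩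
    rw [actO_refl]
    exact h1

/-- S5357 -/
theorem reflections_class (hQ : (QuadraticMap.polarBilin Q).Nondegenerate) (hn : 4 ≤ n)
    {c : ZMod 3} (hc : c ≠ 0) :
    IsThreeTranspositionClass {g : reflectionSubgroup (⇑Q) c |
      (g : isometryGroup (ZMod 3) (⇑Q)) ∈ reflectionsOfNorm (⇑Q) c} := by
  refine ⟨⟨?_, ?_⟩, ?_, ?_⟩
  · rintro ⟨g, hgR⟩ hg
    obtain ⟨v, hv, rfl⟩ := eq_reflO_of_mem Q hc hg
    apply orderOf_eq_prime
    · apply Subtype.ext
      rw [Subgroup.coe_pow, sq]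
      exact reflO_sq Q v _
    · intro h
      have := congrArg Subtype.val h
      exact reflO_ne_one Q v _ this
  · rintro ⟨g, hgR⟩ hg ⟨h, hhR⟩ hh
    obtain ⟨u, hu, rfl⟩ := eq_reflO_of_mem Q hc hg
    obtain ⟨v, hv, rfl⟩ := eq_reflO_of_mem Q hc hh
    rcases reflO_three Q hc hu hv with h2 | h3
    · left
      apply Subtype.ext
      rw [Subgroup.coe_pow, Subgroup.coe_mul]
      exact h2
    · right
      apply Subtype.ext
      rw [Subgroup.coe_pow, Subgroup.coe_mul]
      exact h3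
  · obtain ⟨v0, hv0⟩ := exists_vec_of_norm Q hQ (by omega) c hc
    set d : reflectionSubgroup (⇑Q) c :=
      ⟨reflO Q v0 (hv0 ▸ hc), Subgroup.subset_closure (reflO_mem Q v0 hc hv0)⟩ with hd
    refine ⟨d, reflO_mem Q v0 hc hv0, ?_⟩
    ext g
    constructor
    · intro hg
      show IsConj d g
      rw [isConj_iff]
      obtain ⟨g, hgR⟩ := g
      obtain ⟨v, hv, rfl⟩ := eq_reflO_of_mem Q hc hg
      obtain ⟨k, hkR, hk⟩ := exists_mem_act Q hQ hn hc hv0 hv
      refine ⟨⟨k, hkR⟩, ?_⟩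
      apply Subtype.ext
      show k * reflO Q v0 (hv0 ▸ hc) * k⁻¹ = reflO Q v (hv ▸ hc)
      rw [reflO_conj]
      apply reflO_congr
      intro x
      rcases hk with hk | hk
      · rw [hk]
      · rw [hk, rho_neg_vec]
    · intro hg
      have hg' : IsConj d g := hg
      rw [isConj_iff] at hg'
      obtain ⟨k, rfl⟩ := hg'
      show ((k * d * k⁻¹ : reflectionSubgroup (⇑Q) c) : isometryGroup (ZMod 3) (⇑Q)) ∈
        reflectionsOfNorm (⇑Q) c
      have e : ((k * d * k⁻¹ : reflectionSubgroup (⇑Q) c) : isometryGroup (ZMod 3) (⇑Q)) =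
          (k : isometryGroup (ZMod 3) (⇑Q)) * reflO Q v0 (hv0 ▸ hc) *
            (k : isometryGroup (ZMod 3) (⇑Q))⁻¹ := rfl
      rw [e, reflO_conj]
      exact reflO_mem Q _ hc (by rw [actO_Q]; exact hv0)
  · exact Subgroup.closure_closure_coe_preimage

end Cfsg.Agent.Lib.Helper3.RF
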