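import Mathlib
import Cfsg.Agent.Lib.Helper3.RF4

set_option autoImplicit false

/-! Orthogonal complements of orthogonal anisotropic families over the field with three elements -/

namespace Cfsg.Agent.Lib.Helper3.RF

open Cfsg Matrix

variable {n : ℕ} (Q : QuadraticForm (ZMod 3) (Fin n → ZMod 3))

/-- the common orthogonal complement of a finite family of vectors -/
def perpF {k : ℕ} (e : Fin k → (Fin n → ZMod 3)) : Submodule (ZMod 3) (Fin n → ZMod 3) :=
  LinearMap.ker (LinearMap.pi (fun i => QuadraticMap.polarBilin Q (e i)))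

theorem mem_perpF {k : ℕ} {e : Fin k → (Fin n → ZMod 3)} {x : Fin n → ZMod 3} :
    x ∈ perpF Q e ↔ ∀ i, Bf Q (e i) x = 0 := by
  unfold perpF
  rw [LinearMap.mem_ker]
  constructor
  · intro h i
    exact congrFun h i
  · intro h
    funext i
    exact h i

theorem finrank_perpF {k : ℕ} (e : Fin k → (Fin n → ZMod 3)) :
    n ≤ Module.finrank (ZMod 3) (perpF Q e) + k := by
  unfold perpF
  have h1 := LinearMap.finrank_range_add_finrank_ker
    (LinearMap.pi (fun i => QuadraticMap.polarBilin Q (e i)) :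
      (Fin n → ZMod 3) →ₗ[ZMod 3] (Fin k → ZMod 3))
  rw [Module.finrank_fin_fun] at h1
  have h2 := Submodule.finrank_le (LinearMap.range
    (LinearMap.pi (fun i => QuadraticMap.polarBilin Q (e i)) :
      (Fin n → ZMod 3) →ₗ[ZMod 3] (Fin k → ZMod 3)))
  rw [Module.finrank_fin_fun] at h2
  omega

/-- the projection to the orthogonal complement of an orthogonal anisotropic family -/
def projF {k : ℕ} (e : Fin k → (Fin n → ZMod 3)) (y : Fin n → ZMod 3) : Fin n → ZMod 3 :=
  y - ∑ i, ((Bf Q (e i) (e i))⁻¹ * Bf Q (e i) y) • e i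

theorem Bf_sum_right {k : ℕ} (x : Fin n → ZMod 3) (a : Fin k → ZMod 3)
    (e : Fin k → (Fin n → ZMod 3)) :
    Bf Q x (∑ i, a i • e i) = ∑ i, a i * Bf Q x (e i) := by
  have : Bf Q x (∑ i, a i • e i) = QuadraticMap.polarBilin Q x (∑ i, a i • e i) := rfl
  rw [this, map_sum]
  apply Finset.sum_congr rfl
  intro i _
  rw [map_smul, smul_eq_mul]
  rfl

theorem Bf_sub_right (x y y' : Fin n → ZMod 3) : Bf Q x (y - y') = Bf Q x y - Bf Q x y' :=
  QuadraticMap.polar_sub_right Q x y y'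

theorem projF_mem {k : ℕ} {e : Fin k → (Fin n → ZMod 3)}
    (ho : ∀ i j, i ≠ j → Bf Q (e i) (e j) = 0) (ha : ∀ i, Q (e i) ≠ 0) (y : Fin n → ZMod 3) :
    projF Q e y ∈ perpF Q e := by
  rw [mem_perpF]
  intro j
  unfold projF
  rw [Bf_sub_right, Bf_sum_right]
  rw [Finset.sum_eq_single j]
  · have hjj : Bf Q (e j) (e j) ≠ 0 := by
      rw [Bf_self]; exact z3_two_ne _ (ha j)
    rw [mul_comm ((Bf Q (e j) (e j))⁻¹) _, mul_assoc, inv_mul_cancel₀ hjj, mul_one]
    exact sub_self _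
  · intro i _ hij
    rw [ho j i (Ne.symm hij), mul_zero]
  · intro h
    exact absurd (Finset.mem_univ j) h

theorem perpF_nondegenerate (hQ : (QuadraticMap.polarBilin Q).Nondegenerate) {k : ℕ}
    {e : Fin k → (Fin n → ZMod 3)}
    (ho : ∀ i j, i ≠ j → Bf Q (e i) (e j) = 0) (ha : ∀ i, Q (e i) ≠ 0) :
    (LinearMap.BilinForm.restrict (QuadraticMap.polarBilin Q) (perpF Q e)).Nondegenerate := by
  apply LinearMap.BilinForm.Nondegenerate.ofSeparatingLeft
  intro w hw
  have hwm := (mem_perpF Q).mp w.2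
  have hwe : ∀ i, Bf Q (w : Fin n → ZMod 3) (e i) = 0 := by
    intro i
    rw [Bf_comm]; exact hwm i
  have h0 : (w : Fin n → ZMod 3) = 0 := by
    apply hQ.1
    intro y
    have hy := projF_mem Q ho ha y
    have := hw ⟨_, hy⟩
    have e1 : Bf Q (w : Fin n → ZMod 3) (projF Q e y) = 0 := this
    unfold projF at e1
    rw [Bf_sub_right, Bf_sum_right] at e1
    rw [Finset.sum_eq_zero] at e1
    · rw [sub_zero] at e1; exact e1
    · intro i _
      rw [hwe i, mul_zero]
  exact Subtype.ext h0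

/-- a vector of prescribed norm orthogonal to an orthogonal anisotropic family -/
theorem exists_perpF_of_norm (hQ : (QuadraticMap.polarBilin Q).Nondegenerate) {k : ℕ}
    (hn : k + 2 ≤ n) {e : Fin k → (Fin n → ZMod 3)}
    (ho : ∀ i j, i ≠ j → Bf Q (e i) (e j) = 0) (ha : ∀ i, Q (e i) ≠ 0)
    (c' : ZMod 3) (hc' : c' ≠ 0) :
    ∃ x : Fin n → ZMod 3, (∀ i, Bf Q (e i) x = 0) ∧ Q x = c' := by
  have hd : 2 ≤ Module.finrank (ZMod 3) (perpF Q e) := by
    have := finrank_perpF Q e
    omega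
  obtain ⟨x, hx⟩ := exists_norm
    (LinearMap.BilinForm.restrict (QuadraticMap.polarBilin Q) (perpF Q e))
    (LinearMap.BilinForm.IsSymm.restrict (polarBilin_isSymm Q) _)
    (perpF_nondegenerate Q hQ ho ha) hd (2 * c') (z3_two_ne c' hc')
  have hxm := (mem_perpF Q).mp x.2
  refine ⟨x, hxm, ?_⟩
  have : Bf Q (x : Fin n → ZMod 3) x = 2 * c' := hx
  rw [Bf_self] at this
  exact z3_two_mul _ _ this

/-- one vector -/
theorem exists_perp1_of_norm (hQ : (QuadraticMap.polarBilin Q).Nondegenerate)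
    (hn : 3 ≤ n) {u : Fin n → ZMod 3} (hu : Q u ≠ 0) (c' : ZMod 3) (hc' : c' ≠ 0) :
    ∃ x : Fin n → ZMod 3, Bf Q u x = 0 ∧ Q x = c' := by
  obtain ⟨x, hx, hxc⟩ := exists_perpF_of_norm Q hQ (k := 1) (e := ![u]) (by omega)
    (by
      intro i j hij
      exact absurd (Subsingleton.elim i j) hij)
    (by
      intro i
      fin_cases i
      exact hu) c' hc'
  exact ⟨x, hx 0, hxc⟩

/-- three vectors -/
theorem exists_perp3_of_norm (hQ : (QuadraticMap.polarBilin Q).Nondegenerate)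
    (hn : 5 ≤ n) {u v w : Fin n → ZMod 3} (hu : Q u ≠ 0) (hv : Q v ≠ 0) (hw : Q w ≠ 0)
    (huv : Bf Q u v = 0) (huw : Bf Q u w = 0) (hvw : Bf Q v w = 0) (c' : ZMod 3)
    (hc' : c' ≠ 0) :
    ∃ x : Fin n → ZMod 3, Bf Q u x = 0 ∧ Bf Q v x = 0 ∧ Bf Q w x = 0 ∧ Q x = c' := by
  obtain ⟨x, hx, hxc⟩ := exists_perpF_of_norm Q hQ (k := 3) (e := ![u, v, w]) (by omega)
    (by
      intro i j hij
      fin_cases i <;> fin_cases j
      · exact absurd rfl hij
      · exact huv
      · exact huw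
      · show Bf Q v u = 0
        rw [Bf_comm]; exact huv
      · exact absurd rfl hij
      · exact hvw
      · show Bf Q w u = 0
        rw [Bf_comm]; exact huw
      · show Bf Q w v = 0
        rw [Bf_comm]; exact hvw
      · exact absurd rfl hij)
    (by
      intro i
      fin_cases i
      · exact hu
      · exact hv
      · exact hw) c' hc'
  exact ⟨x, hx 0, hx 1, hx 2, hxc⟩

end Cfsg.Agent.Lib.Helper3.RF
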