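import Mathlib
import Cfsg.Agent.Lib.Helper3.RF5

set_option autoImplicit false

/-! Reflections mod 3: commuting criterion and witnesses -/

namespace Cfsg.Agent.Lib.Helper3.RF

open Cfsg Matrix

theorem z3_sq_one : ∀ k : ZMod 3, k * k = 1 → k = 1 ∨ k = -1 := by decide
theorem z3_two : (2 : ZMod 3) = -1 := by decide
theorem z3_four : ∀ c : ZMod 3, c ≠ 0 → 2 * c + 2 * c ≠ 0 := by decide
theorem z3_isoW : ∀ c b : ZMod 3, c ≠ 0 → b ≠ 0 →
    c + (2 * c * b) * (2 * c * b) * c - (2 * c * b) * b = 0 := by decide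
theorem z3_isoE : ∀ q s : ZMod 3, q ≠ 0 → s ≠ 0 →
    (2 * q * s) * (2 * q * s) * q - (2 * q * s) * s ≠ 0 := by decide

variable {n : ℕ} (Q : QuadraticForm (ZMod 3) (Fin n → ZMod 3))

theorem Bf_smul_right (x : Fin n → ZMod 3) (a : ZMod 3) (y : Fin n → ZMod 3) :
    Bf Q x (a • y) = a * Bf Q x y := by
  show QuadraticMap.polar (⇑Q) x (a • y) = _
  rw [QuadraticMap.polar_smul_right]; rfl

theorem Bf_smul_left (a : ZMod 3) (x y : Fin n → ZMod 3) :
    Bf Q (a • x) y = a * Bf Q x y := by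
  show QuadraticMap.polar (⇑Q) (a • x) y = _
  rw [QuadraticMap.polar_smul_left]; rfl

theorem Bf_zero_right (x : Fin n → ZMod 3) : Bf Q x 0 = 0 := by
  show QuadraticMap.polar (⇑Q) x 0 = 0
  exact QuadraticMap.polar_zero_right _ x

theorem Bf_neg_right (x y : Fin n → ZMod 3) : Bf Q x (-y) = -Bf Q x y :=
  QuadraticMap.polar_neg_right Q x y

theorem vec_add_self (w : Fin n → ZMod 3) : w + w = -w := by
  rw [← two_smul (ZMod 3) w, z3_two, neg_smul, one_smul]

/-- a scalar multiple of the same norm is `±` -/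
theorem eq_or_neg_of_smul {c : ZMod 3} (hc : c ≠ 0) {u w : Fin n → ZMod 3} (hu : Q u = c)
    (hw : Q w = c) {k : ZMod 3} (h : w = k • u) : w = u ∨ w = -u := by
  have h1 : c = k * k * c := by
    have := Q_smul Q k u
    rw [← h, hw, hu] at this
    exact this
  have h2 : k * k = 1 := by
    have h3 : (k * k - 1) * c = 0 := by rw [sub_mul, one_mul, ← h1, sub_self]
    rcases mul_eq_zero.mp h3 with h4 | h4
    · exact sub_eq_zero.mp h4
    · exact absurd h4 hc
  rcases z3_sq_one k h2 with hk | hk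
  · left; rw [h, hk, one_smul]
  · right; rw [h, hk, neg_smul, one_smul]

/-- equal reflections have proportional centres -/
theorem eq_or_neg_of_reflO_eq {c : ZMod 3} (hc : c ≠ 0) {v w : Fin n → ZMod 3} (hv : Q v = c)
    (hw : Q w = c) (h : reflO Q v (hv ▸ hc) = reflO Q w (hw ▸ hc)) : w = v ∨ w = -v := by
  have hv0 : Q v ≠ 0 := hv ▸ hc
  have hw0 : Q w ≠ 0 := hw ▸ hc
  have h1 : rho Q v w = rho Q w w := by
    rw [← actO_refl Q v hv0, ← actO_refl Q w hw0, h]
  rw [rho_self Q hw0] at h1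
  unfold rho at h1
  -- w - k • v = -w
  have h2 : ((Q v)⁻¹ * Bf Q v w) • v = -w := by
    have : ((Q v)⁻¹ * Bf Q v w) • v = w + w := by
      have h3 := congrArg (fun t => w - t) h1
      simp only [sub_sub_cancel, sub_neg_eq_add] at h3
      exact h3
    rw [this, vec_add_self]
  have h3 : w = (-((Q v)⁻¹ * Bf Q v w)) • v := by
    rw [neg_smul, h2, neg_neg]
  exact eq_or_neg_of_smul Q hc hv hw h3

theorem reflO_neg_eq {v : Fin n → ZMod 3} (hv : Q v ≠ 0) (hv' : Q (-v) ≠ 0) :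
    reflO Q (-v) hv' = reflO Q v hv :=
  reflO_congr Q hv' hv (fun x => rho_neg_vec Q v x)

/-- orthogonal centres give commuting reflections -/
theorem commute_of_orth {u v : Fin n → ZMod 3} (hu : Q u ≠ 0) (hv : Q v ≠ 0)
    (h : Bf Q u v = 0) : Commute (reflO Q u hu) (reflO Q v hv) := by
  have h1 := reflO_conj Q (reflO Q u hu) v hv
  have h2 : reflO Q (actO Q (reflO Q u hu) v) (by rw [actO_Q]; exact hv) = reflO Q v hv := by
    apply reflO_congr
    intro x
    rw [actO_refl, rho_of_orth Q h]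
  rw [h2] at h1
  show reflO Q u hu * reflO Q v hv = reflO Q v hv * reflO Q u hu
  calc reflO Q u hu * reflO Q v hv
      = reflO Q u hu * reflO Q v hv * (reflO Q u hu)⁻¹ * reflO Q u hu := by group
    _ = reflO Q v hv * reflO Q u hu := by rw [h1]

/-- commuting reflections of the same norm have orthogonal or proportional centres -/
theorem orth_of_commute {c : ZMod 3} (hc : c ≠ 0) {u v : Fin n → ZMod 3} (hu : Q u = c)
    (hv : Q v = c) (h : Commute (reflO Q u (hu ▸ hc)) (reflO Q v (hv ▸ hc))) :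
    Bf Q u v = 0 ∨ v = u ∨ v = -u := by
  have hu0 : Q u ≠ 0 := hu ▸ hc
  have hv0 : Q v ≠ 0 := hv ▸ hc
  have h1 := reflO_conj Q (reflO Q u hu0) v hv0
  have h2 : reflO Q u hu0 * reflO Q v hv0 * (reflO Q u hu0)⁻¹ = reflO Q v hv0 := by
    rw [h.eq]; group
  rw [h2] at h1
  have hw : Q (actO Q (reflO Q u hu0) v) = c := by rw [actO_Q]; exact hv
  have h3 := eq_or_neg_of_reflO_eq Q hc hv hw h1
  rw [actO_refl] at h3
  unfold rho at h3
  rw [hu] at h3
  rcases h3 with h4 | h4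
  · -- v - k • u = v
    left
    have h5 : (c⁻¹ * Bf Q u v) • u = 0 := by
      have := congrArg (fun t => v - t) h4
      simp only [sub_sub_cancel, sub_self] at this
      exact this
    rcases smul_eq_zero.mp h5 with h6 | h6
    · rcases mul_eq_zero.mp h6 with h7 | h7
      · exact absurd (inv_eq_zero.mp h7) hc
      · exact h7
    · exact absurd h6 (ne_zero_of_Q Q hu0)
  · -- v - k • u = -v
    right
    have h5 : (c⁻¹ * Bf Q u v) • u = -v := by
      have : (c⁻¹ * Bf Q u v) • u = v + v := by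
        have h6 := congrArg (fun t => v - t) h4
        simp only [sub_sub_cancel, sub_neg_eq_add] at h6
        exact h6
      rw [this, vec_add_self]
    have h6 : v = (-(c⁻¹ * Bf Q u v)) • u := by
      rw [neg_smul, h5, neg_neg]
    exact eq_or_neg_of_smul Q hc hu hv h6

/-- an isotropic vector orthogonal to two orthogonal vectors of norm `c` -/
theorem exists_isotropic (hQ : (QuadraticMap.polarBilin Q).Nondegenerate) (hn : 5 ≤ n)
    {u v : Fin n → ZMod 3} {c : ZMod 3} (hc : c ≠ 0) (hu : Q u = c) (hv : Q v = c)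
    (huv : Bf Q u v = 0) :
    ∃ x : Fin n → ZMod 3, x ≠ 0 ∧ Bf Q u x = 0 ∧ Bf Q v x = 0 ∧ Q x = 0 := by
  have hu0 : Q u ≠ 0 := hu ▸ hc
  have hv0 : Q v ≠ 0 := hv ▸ hc
  obtain ⟨e0, h0u, h0v, h0⟩ := exists_perp_of_norm Q hQ (by omega) hc hu hv huv 1 (by decide)
  have he0 : Q e0 ≠ 0 := by rw [h0]; decide
  obtain ⟨e1, h1u, h1v, h10, h1⟩ := exists_perp3_of_norm Q hQ hn hu0 hv0 he0 huv h0u h0v (-1)
    (by decide)
  refine ⟨e0 + e1, ?_, ?_, ?_, ?_⟩
  · intro hx
    have h2 : Bf Q e0 (e0 + e1) = 2 := by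
      rw [Bf_add_right, h10, Bf_self, h0]; decide
    rw [hx, Bf_zero_right] at h2
    revert h2; decide
  · rw [Bf_add_right, h0u, h1u, add_zero]
  · rw [Bf_add_right, h0v, h1v, add_zero]
  · rw [Q_add, h0, h1, h10]; decide

/-- witness against a common commuting set -/
theorem exists_V_witness (hQ : (QuadraticMap.polarBilin Q).Nondegenerate) (hn : 5 ≤ n)
    {u v : Fin n → ZMod 3} {c : ZMod 3} (hc : c ≠ 0) (hu : Q u = c) (hv : Q v = c)
    (huv : Bf Q u v = 0) :
    ∃ w : Fin n → ZMod 3, Q w = c ∧ Bf Q u w = 0 ∧ Bf Q v w ≠ 0 ∧ w ≠ v ∧ w ≠ -v := by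
  obtain ⟨x, hx0, hxu, hxv, hx⟩ := exists_isotropic Q hQ hn hc hu hv huv
  have hvw : Bf Q v (v + x) = 2 * c := by
    rw [Bf_add_right, hxv, add_zero, Bf_self, hv]
  refine ⟨v + x, ?_, ?_, ?_, ?_, ?_⟩
  · rw [Q_add, hv, hx, hxv, add_zero, add_zero]
  · rw [Bf_add_right, huv, hxu, add_zero]
  · rw [hvw]; exact z3_two_ne c hc
  · intro h
    apply hx0
    have := congrArg (fun t => t - v) h
    simpa using this
  · intro h
    rw [h, Bf_neg_right, Bf_self, hv] at hvw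
    have : (2 * c) + (2 * c) = 0 := by
      nth_rewrite 1 [← hvw]
      exact neg_add_cancel _
    exact z3_four c hc this

/-- common set-up: a non-orthogonal non-proportional pair of norm `c` -/
theorem iso_setup (hQ : (QuadraticMap.polarBilin Q).Nondegenerate)
    {u v : Fin n → ZMod 3} {c : ZMod 3} (hc : c ≠ 0) (hu : Q u = c) (hv : Q v = c)
    (huv : Bf Q u v ≠ 0) (h1 : v ≠ u) (h2 : v ≠ -u) :
    ∃ (z y : Fin n → ZMod 3) (k : ZMod 3), v = z + k • u ∧ Bf Q u z = 0 ∧ Q z = 0 ∧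
      Bf Q u y = 0 ∧ Bf Q z y ≠ 0 := by
  have h2c : 2 * c ≠ 0 := z3_two_ne c hc
  have h2c2 : (2 * c) * (2 * c) = 1 := z3_sq _ h2c
  set b := Bf Q u v with hb
  set k := 2 * c * b with hk
  set z := v - k • u with hz
  have hvz : v = z + k • u := by rw [hz]; abel
  have huz : Bf Q u z = 0 := by
    rw [hz, Bf_sub_right, Bf_smul_right, Bf_self, hu, ← hb, hk]
    have : 2 * c * b * (2 * c) = (2 * c) * (2 * c) * b := by ring
    rw [this, h2c2, one_mul, sub_self]
  have hQz : Q z = 0 := by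
    rw [hz, Q_sub, Q_smul, hu, hv, Bf_smul_right, Bf_comm Q v u, ← hb, hk]
    exact z3_isoW c b hc huv
  have hz0 : z ≠ 0 := by
    intro h0
    rw [h0, zero_add] at hvz
    rcases eq_or_neg_of_smul Q hc hu hv hvz with h | h
    · exact h1 h
    · exact h2 h
  obtain ⟨y0, hy0⟩ : ∃ y0, Bf Q z y0 ≠ 0 := by
    by_contra hcon
    push Not at hcon
    exact hz0 (hQ.1 z hcon)
  set y := y0 - (2 * c * Bf Q u y0) • u with hy
  have huy : Bf Q u y = 0 := by
    rw [hy, Bf_sub_right, Bf_smul_right, Bf_self, hu]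
    have : 2 * c * Bf Q u y0 * (2 * c) = (2 * c) * (2 * c) * Bf Q u y0 := by ring
    rw [this, h2c2, one_mul, sub_self]
  have hzy : Bf Q z y = Bf Q z y0 := by
    rw [hy, Bf_sub_right, Bf_smul_right, Bf_comm Q z u, huz, mul_zero, sub_zero]
  refine ⟨z, y, k, hvz, huz, hQz, huy, ?_⟩
  rw [hzy]; exact hy0

/-- witness against a common punctured commuting set -/
theorem exists_W_witness (hQ : (QuadraticMap.polarBilin Q).Nondegenerate)
    {u w : Fin n → ZMod 3} {c : ZMod 3} (hc : c ≠ 0) (hu : Q u = c) (hw : Q w = c)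
    (huw : Bf Q u w ≠ 0) (h1 : w ≠ u) (h2 : w ≠ -u) :
    ∃ x : Fin n → ZMod 3, Q x = c ∧ Bf Q u x = 0 ∧ Bf Q w x ≠ 0 := by
  obtain ⟨z, y, k, hwz, huz, hQz, huy, hzy⟩ := iso_setup Q hQ hc hu hw huw h1 h2
  have hs : Bf Q z y * Bf Q z y = 1 := z3_sq _ hzy
  set t := (c - Q y) * Bf Q z y with ht
  have hzz : Bf Q z z = 0 := by rw [Bf_self, hQz, mul_zero]
  refine ⟨y + t • z, ?_, ?_, ?_⟩
  · rw [Q_add, Q_smul, hQz, mul_zero, add_zero, Bf_smul_right, Bf_comm Q y z, ht]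
    have : (c - Q y) * Bf Q z y * Bf Q z y = (c - Q y) * (Bf Q z y * Bf Q z y) := by ring
    rw [this, hs]; ring
  · rw [Bf_add_right, Bf_smul_right, huy, huz, mul_zero, add_zero]
  · rw [hwz, Bf_add_left, Bf_smul_left, Bf_add_right, Bf_add_right, Bf_smul_right,
      Bf_smul_right, huy, huz, hzz]
    simpa using hzy

/-- a common orthogonal vector of norm `c`, for connectivity -/
theorem exists_conn_witness (hQ : (QuadraticMap.polarBilin Q).Nondegenerate) (hn : 5 ≤ n)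
    {u v : Fin n → ZMod 3} {c : ZMod 3} (hc : c ≠ 0) (hu : Q u = c) (hv : Q v = c)
    (huv : Bf Q u v ≠ 0) (h1 : v ≠ u) (h2 : v ≠ -u) :
    ∃ w : Fin n → ZMod 3, Q w = c ∧ Bf Q u w = 0 ∧ Bf Q v w = 0 := by
  obtain ⟨z, y, k, hvz, huz, hQz, huy, hzy⟩ := iso_setup Q hQ hc hu hv huv h1 h2
  have hzz : Bf Q z z = 0 := by rw [Bf_self, hQz, mul_zero]
  have hu0 : Q u ≠ 0 := hu ▸ hc
  -- an anisotropic vector orthogonal to `u` and not to `z`
  obtain ⟨e1, he1, hue1, hze1⟩ : ∃ e1, Q e1 ≠ 0 ∧ Bf Q u e1 = 0 ∧ Bf Q z e1 ≠ 0 := by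
    by_cases hy : Q y = 0
    · refine ⟨y + z, ?_, ?_, ?_⟩
      · rw [Q_add, hy, hQz, zero_add, zero_add, Bf_comm]; exact hzy
      · rw [Bf_add_right, huy, huz, add_zero]
      · rw [Bf_add_right, hzz, add_zero]; exact hzy
    · exact ⟨y, hy, huy, hzy⟩
  set q := Q e1 with hq
  set s := Bf Q z e1 with hs
  have h2q : 2 * q ≠ 0 := z3_two_ne q he1
  have h2q2 : (2 * q) * (2 * q) = 1 := z3_sq _ h2q
  set m := 2 * q * s with hm
  set e2 := z - m • e1 with he2
  have hze : z = e2 + m • e1 := by rw [he2]; abel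
  have he12 : Bf Q e1 e2 = 0 := by
    rw [he2, Bf_sub_right, Bf_smul_right, Bf_self, ← hq, Bf_comm Q e1 z, ← hs, hm]
    have : 2 * q * s * (2 * q) = (2 * q) * (2 * q) * s := by ring
    rw [this, h2q2, one_mul, sub_self]
  have hue2 : Bf Q u e2 = 0 := by
    rw [he2, Bf_sub_right, Bf_smul_right, huz, hue1, mul_zero, sub_zero]
  have hQe2 : Q e2 ≠ 0 := by
    rw [he2, Q_sub, Q_smul, hQz, zero_add, Bf_smul_right, ← hs, ← hq, hm]
    exact z3_isoE q s he1 hze1
  obtain ⟨w, hwu, hw1, hw2, hw⟩ := exists_perp3_of_norm Q hQ hn hu0 he1 hQe2 hue1 hue2 he12 c hc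
  refine ⟨w, hw, hwu, ?_⟩
  rw [hvz, hze, Bf_add_left, Bf_add_left, Bf_smul_left, Bf_smul_left, hw2, hw1, hwu]
  simp

end Cfsg.Agent.Lib.Helper3.RF
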