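import Mathlib
import Cfsg.Agent.Lib.Helper3.RF6

set_option autoImplicit false

/-! The Cartan–Dieudonné theorem over the field with three elements (generation by reflections) -/

namespace Cfsg.Agent.Lib.Helper3.RF

open Cfsg Matrix

theorem z3_four_mul : ∀ a : ZMod 3, a + a + (a + a) = a := by decide

variable {n : ℕ} (Q : QuadraticForm (ZMod 3) (Fin n → ZMod 3))

/-- the set of all reflections -/
def AllRefl : Set ↥(isometryGroup (ZMod 3) (⇑Q)) :=
  {g | ∃ v, ∃ hv : Q v ≠ 0, g = reflO Q v hv}

theorem Bf_actO (g : isometryGroup (ZMod 3) (⇑Q)) (x y : Fin n → ZMod 3) :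
    Bf Q (actO Q g x) (actO Q g y) = Bf Q x y :=
  Bf_isometry Q (fun u => actO_Q Q g u) x y

theorem actO_add (g : isometryGroup (ZMod 3) (⇑Q)) (x y : Fin n → ZMod 3) :
    actO Q g (x + y) = actO Q g x + actO Q g y := by
  unfold actO
  rw [Matrix.mulVec_add]

theorem actO_smul (g : isometryGroup (ZMod 3) (⇑Q)) (a : ZMod 3) (x : Fin n → ZMod 3) :
    actO Q g (a • x) = a • actO Q g x := by
  unfold actO
  rw [Matrix.mulVec_smul]

theorem actO_sum {k : ℕ} (g : isometryGroup (ZMod 3) (⇑Q)) (a : Fin k → ZMod 3)
    (e : Fin k → (Fin n → ZMod 3)) :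
    actO Q g (∑ i, a i • e i) = ∑ i, a i • actO Q g (e i) := by
  have h : ∀ x, actO Q g x = Matrix.mulVecLin
      ((g : GL (Fin n) (ZMod 3)) : Matrix (Fin n) (Fin n) (ZMod 3)) x := fun x => rfl
  rw [h, map_sum]
  apply Finset.sum_congr rfl
  intro i _
  rw [map_smul, ← h]

/-- a nondegenerate nonzero subspace has an anisotropic vector -/
theorem exists_aniso {W : Submodule (ZMod 3) (Fin n → ZMod 3)}
    (hW : (LinearMap.BilinForm.restrict (QuadraticMap.polarBilin Q) W).Nondegenerate)
    (hne : W ≠ ⊥) : ∃ v ∈ W, Q v ≠ 0 := by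
  by_contra hcon
  push Not at hcon
  obtain ⟨x, hxW, hx0⟩ := (Submodule.ne_bot_iff W).mp hne
  have hex : ∃ y : W, Bf Q x (y : Fin n → ZMod 3) ≠ 0 := by
    by_contra h2
    push Not at h2
    have := hW.1 ⟨x, hxW⟩ (fun y => h2 y)
    exact hx0 (congrArg Subtype.val this)
  obtain ⟨y, hy⟩ := hex
  have h1 := hcon (x + y) (W.add_mem hxW y.2)
  rw [Q_add, hcon x hxW, hcon y y.2, zero_add, zero_add] at h1
  exact hy h1

/-- moving a vector to another of the same norm by a reflection, up to sign -/
theorem refl_move {u v : Fin n → ZMod 3} (huv : Q u = Q v) (hu : Q u ≠ 0) :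
    (Q (u - v) ≠ 0 ∧ rho Q (u - v) u = v) ∨ (Q (u + v) ≠ 0 ∧ rho Q (u + v) u = -v) := by
  have hsum : Q (u - v) + Q (u + v) = Q u := by
    rw [Q_sub, Q_add, ← huv]
    have := z3_four_mul (Q u)
    linear_combination this
  by_cases h1 : Q (u - v) ≠ 0
  · left
    refine ⟨h1, ?_⟩
    unfold rho
    have e1 : Bf Q (u - v) u = Q (u - v) := by
      rw [Bf_sub_left, Bf_self, Q_sub, ← huv, Bf_comm Q v u]
      ring
    rw [e1, inv_mul_cancel₀ h1, one_smul]
    abel
  · right
    rw [not_not] at h1
    have h2 : Q (u + v) ≠ 0 := by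
      rw [h1, zero_add] at hsum
      rw [hsum]; exact hu
    refine ⟨h2, ?_⟩
    unfold rho
    have e1 : Bf Q (u + v) u = Q (u + v) := by
      rw [Bf_add_left, Bf_self, Q_add, ← huv, Bf_comm Q v u]
      ring
    rw [e1, inv_mul_cancel₀ h2, one_smul]
    abel

theorem reflO_mem_AllRefl {v : Fin n → ZMod 3} (hv : Q v ≠ 0) :
    reflO Q v hv ∈ Subgroup.closure (AllRefl Q) :=
  Subgroup.subset_closure ⟨v, hv, rfl⟩

theorem mem_of_reflO_mul {v : Fin n → ZMod 3} (hv : Q v ≠ 0)
    {g : isometryGroup (ZMod 3) (⇑Q)}
    (h : reflO Q v hv * g ∈ Subgroup.closure (AllRefl Q)) :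
    g ∈ Subgroup.closure (AllRefl Q) := by
  have := (Subgroup.closure (AllRefl Q)).mul_mem (reflO_mem_AllRefl Q hv) h
  rw [← mul_assoc, reflO_sq, one_mul] at this
  exact this

theorem cd_aux (hQ : (QuadraticMap.polarBilin Q).Nondegenerate) :
    ∀ d : ℕ, ∀ (k : ℕ) (e : Fin k → (Fin n → ZMod 3)),
      (∀ i j, i ≠ j → Bf Q (e i) (e j) = 0) → (∀ i, Q (e i) ≠ 0) →
      Module.finrank (ZMod 3) (perpF Q e) = d →
      ∀ g : isometryGroup (ZMod 3) (⇑Q), (∀ i, actO Q g (e i) = e i) →
        g ∈ Subgroup.closure (AllRefl Q) := by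
  intro d
  induction d using Nat.strong_induction_on with
  | _ d ih =>
    intro k e ho ha hd g hg
    by_cases hbot : perpF Q e = ⊥
    · -- `g = 1`
      have h1 : g = 1 := by
        apply actO_ext
        intro y
        rw [actO_one]
        have hp := projF_mem Q ho ha y
        rw [hbot, Submodule.mem_bot] at hp
        unfold projF at hp
        have hy : y = ∑ i, ((Bf Q (e i) (e i))⁻¹ * Bf Q (e i) y) • e i := sub_eq_zero.mp hp
        rw [hy, actO_sum]
        apply Finset.sum_congr rfl
        intro i _
        rw [hg i]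
      rw [h1]
      exact Subgroup.one_mem _
    · obtain ⟨v, hvW, hv⟩ := exists_aniso Q (perpF_nondegenerate Q hQ ho ha) hbot
      have hvW' := (mem_perpF Q).mp hvW
      -- the extended family
      have key : ∀ g' : isometryGroup (ZMod 3) (⇑Q), (∀ i, actO Q g' (e i) = e i) →
          actO Q g' v = v → g' ∈ Subgroup.closure (AllRefl Q) := by
        intro g' hg' hg'v
        set e' : Fin (k + 1) → (Fin n → ZMod 3) := Fin.cons v e with he'
        have e'0 : e' 0 = v := by rw [he', Fin.cons_zero]
        have e's : ∀ i : Fin k, e' i.succ = e i := by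
          intro i; rw [he', Fin.cons_succ]
        have ho' : ∀ i j : Fin (k + 1), i ≠ j → Bf Q (e' i) (e' j) = 0 := by
          intro i
          refine Fin.cases ?_ (fun i' => ?_) i
          · intro j
            refine Fin.cases ?_ (fun j' => ?_) j
            · intro h; exact absurd rfl h
            · intro _
              rw [e'0, e's, Bf_comm]; exact hvW' j'
          · intro j
            refine Fin.cases ?_ (fun j' => ?_) j
            · intro _
              rw [e'0, e's]; exact hvW' i'
            · intro h
              rw [e's, e's]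
              exact ho i' j' (fun hh => h (by rw [hh]))
        have ha' : ∀ i : Fin (k + 1), Q (e' i) ≠ 0 := by
          intro i
          refine Fin.cases ?_ (fun i' => ?_) i
          · rw [e'0]; exact hv
          · rw [e's]; exact ha i'
        have hg'' : ∀ i : Fin (k + 1), actO Q g' (e' i) = e' i := by
          intro i
          refine Fin.cases ?_ (fun i' => ?_) i
          · rw [e'0]; exact hg'v
          · rw [e's]; exact hg' i'
        have hlt : perpF Q e' < perpF Q e := by
          apply lt_of_le_of_ne
          · intro x hx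
            rw [mem_perpF] at hx ⊢
            intro i
            have := hx i.succ
            rw [e's] at this
            exact this
          · intro heq
            have hvm : v ∈ perpF Q e' := by rw [heq]; exact hvW
            have := (mem_perpF Q).mp hvm 0
            rw [e'0, Bf_self] at this
            exact z3_two_ne _ hv this
        have hfl := Submodule.finrank_lt_finrank_of_lt hlt
        rw [hd] at hfl
        exact ih _ hfl (k + 1) e' ho' ha' rfl g' hg''
      -- move `g v` back to `v`
      have hgv : Q (actO Q g v) = Q v := actO_Q Q g v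
      have hgvW : ∀ i, Bf Q (e i) (actO Q g v) = 0 := by
        intro i
        have := Bf_actO Q g (e i) v
        rw [hg i] at this
        rw [this]; exact hvW' i
      have hgv0 : Q (actO Q g v) ≠ 0 := by rw [hgv]; exact hv
      rcases refl_move Q hgv hgv0 with ⟨hs, hmove⟩ | ⟨hs, hmove⟩
      · apply mem_of_reflO_mul Q hs
        apply key
        · intro i
          rw [actO_mul, hg i, actO_refl]
          apply rho_of_orth
          rw [Bf_sub_left, Bf_comm Q _ (e i), hgvW i, Bf_comm Q v (e i), hvW' i, sub_zero]
        · rw [actO_mul, actO_refl]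
          exact hmove
      · apply mem_of_reflO_mul Q hs
        apply mem_of_reflO_mul Q hv
        apply key
        · intro i
          rw [actO_mul, actO_mul, hg i, actO_refl, actO_refl]
          have h1 : rho Q (actO Q g v + v) (e i) = e i := by
            apply rho_of_orth
            rw [Bf_add_left, Bf_comm Q _ (e i), hgvW i, Bf_comm Q v (e i), hvW' i, add_zero]
          rw [h1]
          apply rho_of_orth
          rw [Bf_comm]; exact hvW' i
        · rw [actO_mul, actO_mul, actO_refl, actO_refl, hmove, rho_neg, rho_self Q hv, neg_neg]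

/-- the isometry group is generated by reflections -/
theorem cartan_dieudonne (hQ : (QuadraticMap.polarBilin Q).Nondegenerate) :
    Subgroup.closure (AllRefl Q) = ⊤ := by
  rw [eq_top_iff]
  intro g _
  exact cd_aux Q hQ _ 0 (fun i => i.elim0) (fun i => i.elim0) (fun i => i.elim0) rfl g
    (fun i => i.elim0)

end Cfsg.Agent.Lib.Helper3.RF
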