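import Mathlib
import Cfsg.Agent.Lib.Helper3.RF9

set_option autoImplicit false

/-! The sign character of the isometry group on the vectors of a given norm -/

namespace Cfsg.Agent.Lib.Helper3.RF

open Cfsg Matrix

theorem z3_univ : (Finset.univ : Finset (ZMod 3)) = {0, 1, 2} := by decide
theorem z3_inv_self : ∀ a : ZMod 3, a ≠ 0 → a⁻¹ = a := by
  intro a ha
  have h := z3_sq a ha
  exact (eq_inv_of_mul_eq_one_left h).symm

variable {n : ℕ} (Q : QuadraticForm (ZMod 3) (Fin n → ZMod 3))

/-- the vectors of norm `a` -/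
abbrev XS (a : ZMod 3) : Type := {x : Fin n → ZMod 3 // Q x = a}

/-- the permutation action of the isometry group on the vectors of norm `a` -/
def permX (a : ZMod 3) : ↥(isometryGroup (ZMod 3) (⇑Q)) →* Equiv.Perm (XS Q a) where
  toFun g :=
    { toFun := fun x => ⟨actO Q g x.1, by rw [actO_Q]; exact x.2⟩
      invFun := fun x => ⟨actO Q g⁻¹ x.1, by rw [actO_Q]; exact x.2⟩
      left_inv := fun x => Subtype.ext (actO_inv Q g x.1)
      right_inv := fun x => Subtype.ext (actO_inv' Q g x.1) }
  map_one' := by
    apply Equiv.ext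
    intro x
    apply Subtype.ext
    exact actO_one Q x.1
  map_mul' g h := by
    apply Equiv.ext
    intro x
    apply Subtype.ext
    exact actO_mul Q g h x.1

theorem permX_apply (a : ZMod 3) (g : ↥(isometryGroup (ZMod 3) (⇑Q))) (x : XS Q a) :
    ((permX Q a g) x : Fin n → ZMod 3) = actO Q g x.1 := rfl

/-- the sign character -/
noncomputable def chi (a : ZMod 3) : ↥(isometryGroup (ZMod 3) (⇑Q)) →* ℤˣ :=
  Equiv.Perm.sign.comp (permX Q a)

/-- negation on the vectors of norm `a` -/
def negX (a : ZMod 3) (x : XS Q a) : XS Q a :=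
  ⟨-x.1, by rw [QuadraticMap.map_neg]; exact x.2⟩

/-- the twisted reflection on the vectors of norm `a` -/
def tauX (a : ZMod 3) {w : Fin n → ZMod 3} (hw : Q w ≠ 0) (x : XS Q a) : XS Q a :=
  ⟨-rho Q w x.1, by rw [QuadraticMap.map_neg, Q_rho Q hw]; exact x.2⟩

theorem rho_fixed_iff {w : Fin n → ZMod 3} (hw : Q w ≠ 0) (x : Fin n → ZMod 3) :
    rho Q w x = x ↔ Bf Q w x = 0 := by
  constructor
  · intro h
    unfold rho at h
    have h5 : ((Q w)⁻¹ * Bf Q w x) • w = 0 := by
      have := congrArg (fun t => x - t) h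
      simp only [sub_sub_cancel, sub_self] at this
      exact this
    rcases smul_eq_zero.mp h5 with h6 | h6
    · rcases mul_eq_zero.mp h6 with h7 | h7
      · exact absurd (inv_eq_zero.mp h7) hw
      · exact h7
    · exact absurd h6 (ne_zero_of_Q Q hw)
  · intro h
    exact rho_of_orth Q h

theorem rho_smul (v : Fin n → ZMod 3) (t : ZMod 3) (x : Fin n → ZMod 3) :
    rho Q v (t • x) = t • rho Q v x := by
  unfold rho
  rw [Bf_smul_right, smul_sub, smul_smul]
  congr 2
  ring

/-- the only possible fixed point of the twisted reflection among vectors with `B(w,x) = 1` -/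
theorem tau_fixed {w : Fin n → ZMod 3} (hw : Q w ≠ 0) {x : Fin n → ZMod 3}
    (hx : Bf Q w x = 1) (h : -rho Q w x = x) : x = (2 * Q w) • w := by
  have h1 : rho Q w x = -x := by
    have := congrArg Neg.neg h
    rw [neg_neg] at this
    exact this
  unfold rho at h1
  rw [hx, mul_one, z3_inv_self _ hw] at h1
  have h2 : (Q w) • w = x + x := by
    have h3 := congrArg (fun t => x - t) h1
    simp only [sub_sub_cancel, sub_neg_eq_add] at h3
    exact h3
  rw [vec_add_self] at h2
  have h3 : x = -((Q w) • w) := by rw [h2, neg_neg]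
  rw [h3, ← neg_smul]
  congr 1
  have : ∀ a : ZMod 3, -a = 2 * a := by decide
  exact this _

theorem chi_refl (a : ZMod 3) {w : Fin n → ZMod 3} (hw : Q w ≠ 0) :
    chi Q a (reflO Q w hw) = if Q w = a then -1 else 1 := by
  set σ : Equiv.Perm (XS Q a) := permX Q a (reflO Q w hw) with hσ
  have hσ2 : σ ^ 2 = 1 := by
    rw [hσ, ← map_pow, pow_two, reflO_sq, map_one]
  have hσx : ∀ x : XS Q a, ((σ x : XS Q a) : Fin n → ZMod 3) = rho Q w x.1 := by
    intro x
    rw [hσ, permX_apply, actO_refl]
  have hsign : chi Q a (reflO Q w hw) = Equiv.Perm.sign σ := rfl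
  rw [hsign, Equiv.Perm.sign_of_pow_two_eq_one hσ2]
  set F0 : Finset (XS Q a) := Finset.univ.filter (fun x => Bf Q w x.1 = 0) with hF0
  set Fp : Finset (XS Q a) := Finset.univ.filter (fun x => Bf Q w x.1 = 1) with hFp
  set Fm : Finset (XS Q a) := Finset.univ.filter (fun x => Bf Q w x.1 = 2) with hFm
  have hfix : Fintype.card (Function.fixedPoints σ) = F0.card := by
    apply Fintype.card_of_subtype
    intro x
    rw [hF0, Finset.mem_filter]
    simp only [Finset.mem_univ, true_and]
    rw [Function.mem_fixedPoints_iff, ← rho_fixed_iff Q hw, ← hσx]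
    constructor
    · intro h; exact Subtype.ext h
    · intro h; exact congrArg Subtype.val h
  have hcard : Fintype.card (XS Q a) = F0.card + Fp.card + Fm.card := by
    rw [← Finset.card_univ]
    rw [Finset.card_eq_sum_card_fiberwise (s := (Finset.univ : Finset (XS Q a)))
      (t := (Finset.univ : Finset (ZMod 3))) (f := fun x => Bf Q w x.1)
      (fun x _ => Finset.mem_univ _)]
    rw [z3_univ, Finset.sum_insert (by decide), Finset.sum_insert (by decide),
      Finset.sum_singleton, add_assoc]
  have hpm : Fm.card = Fp.card := by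
    apply Finset.card_nbij' (negX Q a) (negX Q a)
    · intro x hx
      rw [Finset.mem_coe, hFm, Finset.mem_filter] at hx
      rw [Finset.mem_coe, hFp, Finset.mem_filter]
      refine ⟨Finset.mem_univ _, ?_⟩
      show Bf Q w (-x.1) = 1
      rw [Bf_neg_right, hx.2]; decide
    · intro x hx
      rw [Finset.mem_coe, hFp, Finset.mem_filter] at hx
      rw [Finset.mem_coe, hFm, Finset.mem_filter]
      refine ⟨Finset.mem_univ _, ?_⟩
      show Bf Q w (-x.1) = 2
      rw [Bf_neg_right, hx.2]; decide
    · intro x _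
      apply Subtype.ext
      show - -x.1 = x.1
      rw [neg_neg]
    · intro x _
      apply Subtype.ext
      show - -x.1 = x.1
      rw [neg_neg]
  have hexp : (Fintype.card (XS Q a) - Fintype.card (Function.fixedPoints σ)) / 2 = Fp.card := by
    rw [hfix, hcard, hpm]; omega
  rw [hexp, ← Finset.prod_const]
  -- the twisted reflection on `Fp`
  have tmem : ∀ x ∈ Fp, tauX Q a hw x ∈ Fp := by
    intro x hx
    rw [hFp, Finset.mem_filter] at hx ⊢
    refine ⟨Finset.mem_univ _, ?_⟩
    show Bf Q w (-rho Q w x.1) = 1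
    rw [Bf_neg_right, Bf_rho Q hw, neg_neg, hx.2]
  have tinv : ∀ x : XS Q a, tauX Q a hw (tauX Q a hw x) = x := by
    intro x
    apply Subtype.ext
    show -rho Q w (-rho Q w x.1) = x.1
    rw [rho_neg, neg_neg, rho_rho Q hw]
  have tfix : ∀ x ∈ Fp, tauX Q a hw x = x → x.1 = (2 * Q w) • w := by
    intro x hx h
    rw [hFp, Finset.mem_filter] at hx
    exact tau_fixed Q hw hx.2 (congrArg Subtype.val h)
  by_cases hwa : Q w = a
  · rw [if_pos hwa]
    have h2w : 2 * Q w ≠ 0 := z3_two_ne _ hw
    have hx0Q : Q ((2 * Q w) • w) = a := by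
      rw [Q_smul, z3_sq _ h2w, one_mul, hwa]
    set x0 : XS Q a := ⟨(2 * Q w) • w, hx0Q⟩ with hx0
    have hx0p : x0 ∈ Fp := by
      rw [hFp, Finset.mem_filter]
      refine ⟨Finset.mem_univ _, ?_⟩
      show Bf Q w ((2 * Q w) • w) = 1
      rw [Bf_smul_right, Bf_self, z3_sq _ h2w]
    have htx0 : tauX Q a hw x0 = x0 := by
      apply Subtype.ext
      show -rho Q w ((2 * Q w) • w) = (2 * Q w) • w
      rw [rho_smul, rho_self Q hw, smul_neg, neg_neg]
    have hins : Fp = insert x0 (Fp.erase x0) := (Finset.insert_erase hx0p).symm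
    rw [hins, Finset.prod_insert (Finset.notMem_erase x0 Fp)]
    have hrest : ∏ x ∈ Fp.erase x0, (-1 : ℤˣ) = 1 := by
      apply Finset.prod_involution (fun x _ => tauX Q a hw x)
      · intro x _; decide
      · intro x hx _ h
        have hx' := Finset.mem_erase.mp hx
        have := tfix x hx'.2 h
        exact hx'.1 (Subtype.ext this)
      · intro x hx
        have hx' := Finset.mem_erase.mp hx
        rw [Finset.mem_erase]
        refine ⟨?_, tmem x hx'.2⟩
        intro h
        apply hx'.1
        have := congrArg (tauX Q a hw) h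
        rw [tinv, htx0] at this
        exact this
      · intro x _; exact tinv x
    rw [hrest, mul_one]
  · rw [if_neg hwa]
    apply Finset.prod_involution (fun x _ => tauX Q a hw x)
    · intro x _; decide
    · intro x hx _ h
      have := tfix x hx h
      apply hwa
      have h2w : 2 * Q w ≠ 0 := z3_two_ne _ hw
      rw [← x.2, this, Q_smul, z3_sq _ h2w, one_mul]
    · intro x hx; exact tmem x hx
    · intro x _; exact tinv x

end Cfsg.Agent.Lib.Helper3.RF
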