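import Mathlib
import Cfsg.Agent.Lib.Helper3.RF10

set_option autoImplicit false

/-! The reflection subgroup of one norm has index two in the isometry group -/

namespace Cfsg.Agent.Lib.Helper3.RF

open Cfsg Matrix

theorem z3_ne_neg : ∀ c : ZMod 3, c ≠ 0 → c ≠ -c := by decide
theorem z3_neg_add_neg : ∀ c : ZMod 3, -c + -c = c := by decide

variable {n : ℕ} (Q : QuadraticForm (ZMod 3) (Fin n → ZMod 3))

/-- the reflection subgroup is normalized by every isometry -/
theorem conj_mem_reflectionSubgroup {c : ZMod 3} (hc : c ≠ 0)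
    (g : ↥(isometryGroup (ZMod 3) (⇑Q))) {r : ↥(isometryGroup (ZMod 3) (⇑Q))}
    (hr : r ∈ reflectionSubgroup (⇑Q) c) : g * r * g⁻¹ ∈ reflectionSubgroup (⇑Q) c := by
  unfold reflectionSubgroup at hr ⊢
  induction hr using Subgroup.closure_induction with
  | mem x hx =>
    obtain ⟨v, hv, rfl⟩ := eq_reflO_of_mem Q hc hx
    rw [reflO_conj]
    apply Subgroup.subset_closure
    have hv' : Q (actO Q g v) = c := by rw [actO_Q]; exact hv
    exact reflO_mem Q _ hc hv'
  | one =>
    rw [mul_one, mul_inv_cancel]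
    exact Subgroup.one_mem _
  | mul x y _ _ hx hy =>
    have : g * (x * y) * g⁻¹ = (g * x * g⁻¹) * (g * y * g⁻¹) := by group
    rw [this]
    exact Subgroup.mul_mem _ hx hy
  | inv x _ hx =>
    have : g * x⁻¹ * g⁻¹ = (g * x * g⁻¹)⁻¹ := by group
    rw [this]
    exact Subgroup.inv_mem _ hx

/-- the reflection subgroup of norm `c` lies in the kernel of the sign character on the vectors of
norm `-c` -/
theorem reflectionSubgroup_le_ker {c : ZMod 3} (hc : c ≠ 0) :
    reflectionSubgroup (⇑Q) c ≤ (chi Q (-c)).ker := by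
  unfold reflectionSubgroup
  rw [Subgroup.closure_le]
  intro g hg
  obtain ⟨v, hv, rfl⟩ := eq_reflO_of_mem Q hc hg
  rw [SetLike.mem_coe, MonoidHom.mem_ker, chi_refl, if_neg]
  rw [hv]
  exact z3_ne_neg c hc

theorem reflO_notMem {c : ZMod 3} (hc : c ≠ 0) {w : Fin n → ZMod 3} (hw : Q w = -c) :
    reflO Q w (hw ▸ neg_ne_zero.mpr hc) ∉ reflectionSubgroup (⇑Q) c := by
  intro h
  have h1 := reflectionSubgroup_le_ker Q hc h
  rw [MonoidHom.mem_ker, chi_refl, if_pos hw] at h1
  revert h1
  decide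

/-- orthogonal vectors of norm `-c` are swapped up to sign by a reflection of norm `c` -/
theorem trans_orth {c : ZMod 3} (hc : c ≠ 0) {w w' : Fin n → ZMod 3} (hw : Q w = -c)
    (hw' : Q w' = -c) (h0 : Bf Q w w' = 0) :
    ∃ g ∈ reflectionSubgroup (⇑Q) c, actO Q g w = w' ∨ actO Q g w = -w' := by
  have hne : Q w ≠ 0 := hw ▸ neg_ne_zero.mpr hc
  rcases refl_move Q (hw.trans hw'.symm) hne with ⟨hs, hm⟩ | ⟨hs, hm⟩
  · have hsc : Q (w - w') = c := by
      rw [Q_sub, hw, hw', h0, sub_zero]; exact z3_neg_add_neg c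
    refine ⟨reflO Q (w - w') hs, ?_, Or.inl ?_⟩
    · exact Subgroup.subset_closure ⟨_, hsc, rfl⟩
    · rw [actO_refl]; exact hm
  · have hsc : Q (w + w') = c := by
      rw [Q_add, hw, hw', h0, add_zero]; exact z3_neg_add_neg c
    refine ⟨reflO Q (w + w') hs, ?_, Or.inr ?_⟩
    · exact Subgroup.subset_closure ⟨_, hsc, rfl⟩
    · rw [actO_refl]; exact hm

/-- the reflection group of norm `c` is transitive up to sign on the vectors of norm `-c` -/
theorem trans_neg (hQ : (QuadraticMap.polarBilin Q).Nondegenerate) (hn : 5 ≤ n) {c : ZMod 3}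
    (hc : c ≠ 0) {w w' : Fin n → ZMod 3} (hw : Q w = -c) (hw' : Q w' = -c) :
    ∃ g ∈ reflectionSubgroup (⇑Q) c, actO Q g w = w' ∨ actO Q g w = -w' := by
  have hc' : -c ≠ 0 := neg_ne_zero.mpr hc
  by_cases h0 : Bf Q w w' = 0
  · exact trans_orth Q hc hw hw' h0
  · by_cases hpm : w' = w ∨ w' = -w
    · refine ⟨1, Subgroup.one_mem _, ?_⟩
      rw [actO_one]
      rcases hpm with h | h
      · left; exact h.symm
      · right; rw [h, neg_neg]
    · obtain ⟨w'', hw'', h1, h2⟩ := exists_conn_witness Q hQ hn hc' hw hw' h0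
        (fun hh => hpm (Or.inl hh)) (fun hh => hpm (Or.inr hh))
      obtain ⟨g1, hg1, hg1w⟩ := trans_orth Q hc hw hw'' h1
      obtain ⟨g2, hg2, hg2w⟩ := trans_orth Q hc hw'' hw' (by rw [Bf_comm]; exact h2)
      refine ⟨g2 * g1, Subgroup.mul_mem _ hg2 hg1, ?_⟩
      rw [actO_mul]
      rcases hg1w with h3 | h3 <;> rcases hg2w with h4 | h4
      · left; rw [h3, h4]
      · right; rw [h3, h4]
      · right; rw [h3, actO_neg, h4]
      · left; rw [h3, actO_neg, h4, neg_neg]

/-- the product of two reflections of norm `-c` lies in the reflection group of norm `c` -/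
theorem reflO_mul_reflO_mem (hQ : (QuadraticMap.polarBilin Q).Nondegenerate) (hn : 5 ≤ n)
    {c : ZMod 3} (hc : c ≠ 0) {w w' : Fin n → ZMod 3} (hw : Q w = -c) (hw' : Q w' = -c) :
    reflO Q w (hw ▸ neg_ne_zero.mpr hc) * reflO Q w' (hw' ▸ neg_ne_zero.mpr hc) ∈
      reflectionSubgroup (⇑Q) c := by
  have hw0 : Q w ≠ 0 := hw ▸ neg_ne_zero.mpr hc
  have hw0' : Q w' ≠ 0 := hw' ▸ neg_ne_zero.mpr hc
  obtain ⟨g, hg, hgw⟩ := trans_neg Q hQ hn hc hw hw'
  have h1 := reflO_conj Q g w hw0
  have h2 : reflO Q (actO Q g w) (by rw [actO_Q]; exact hw0) = reflO Q w' hw0' := by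
    apply reflO_congr
    intro x
    rcases hgw with h | h
    · rw [h]
    · rw [h, rho_neg_vec]
  rw [h2] at h1
  rw [← h1]
  have h3 : reflO Q w hw0 * (g * reflO Q w hw0 * g⁻¹) =
      (reflO Q w hw0 * g * (reflO Q w hw0)⁻¹) * g⁻¹ := by
    rw [reflO_inv]; group
  rw [h3]
  exact Subgroup.mul_mem _ (conj_mem_reflectionSubgroup Q hc _ hg) (Subgroup.inv_mem _ hg)

theorem index_two (hQ : (QuadraticMap.polarBilin Q).Nondegenerate) (hn : 5 ≤ n) {c : ZMod 3}
    (hc : c ≠ 0) : (reflectionSubgroup (⇑Q) c).index = 2 := by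
  have hc' : -c ≠ 0 := neg_ne_zero.mpr hc
  obtain ⟨w0, hw0⟩ := exists_vec_of_norm Q hQ (by omega) (-c) hc'
  have hw00 : Q w0 ≠ 0 := hw0 ▸ hc'
  set a := reflO Q w0 hw00 with ha
  have haR : a ∉ reflectionSubgroup (⇑Q) c := reflO_notMem Q hc hw0
  have haa : a * a = 1 := reflO_sq Q w0 hw00
  have hainv : a⁻¹ = a := reflO_inv Q w0 hw00
  have hP : ∀ g : ↥(isometryGroup (ZMod 3) (⇑Q)),
      g ∈ reflectionSubgroup (⇑Q) c ∨ g * a ∈ reflectionSubgroup (⇑Q) c := by
    intro g
    have hg : g ∈ Subgroup.closure (AllRefl Q) := by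
      rw [cartan_dieudonne Q hQ]; exact Subgroup.mem_top _
    induction hg using Subgroup.closure_induction with
    | mem x hx =>
      obtain ⟨v, hv, rfl⟩ := hx
      rcases z3_cases c (Q v) hc with h | h | h
      · exact absurd h hv
      · left
        exact Subgroup.subset_closure ⟨v, h, rfl⟩
      · right
        exact reflO_mul_reflO_mem Q hQ hn hc h hw0
    | one => left; exact Subgroup.one_mem _
    | mul x y _ _ hx hy =>
      rcases hx with hx | hx <;> rcases hy with hy | hy
      · left; exact Subgroup.mul_mem _ hx hy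
      · right
        rw [mul_assoc]
        exact Subgroup.mul_mem _ hx hy
      · right
        have h1 := conj_mem_reflectionSubgroup Q hc a⁻¹ hy
        have : x * y * a = (x * a) * (a⁻¹ * y * a⁻¹⁻¹) := by group
        rw [this]
        exact Subgroup.mul_mem _ hx h1
      · left
        have h1 := conj_mem_reflectionSubgroup Q hc a⁻¹ hy
        have : x * y = (x * a) * (a⁻¹ * (y * a) * a⁻¹⁻¹) := by
          rw [inv_inv]
          calc x * y = x * (a * a) * y * (a * a) := by rw [haa, mul_one, mul_one]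
            _ = (x * a) * (a * (y * a) * a) := by group
            _ = (x * a) * (a⁻¹ * (y * a) * a) := by rw [hainv]
        rw [this]
        exact Subgroup.mul_mem _ hx h1
    | inv x _ hx =>
      rcases hx with hx | hx
      · left; exact Subgroup.inv_mem _ hx
      · right
        have h1 := conj_mem_reflectionSubgroup Q hc a (Subgroup.inv_mem _ hx)
        have : x⁻¹ * a = a * (x * a)⁻¹ * a⁻¹ := by
          rw [hainv]
          calc x⁻¹ * a = (a * a) * x⁻¹ * a := by rw [haa, one_mul]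
            _ = a * (a⁻¹ * x⁻¹) * a := by rw [hainv]; group
            _ = a * (x * a)⁻¹ * a := by rw [_root_.mul_inv_rev]
        rw [this]
        exact h1
  rw [Subgroup.index_eq_two_iff]
  refine ⟨a, fun b => ?_⟩
  rcases hP b with h | h
  · right
    refine ⟨h, fun h2 => haR ?_⟩
    have := Subgroup.mul_mem _ (Subgroup.inv_mem _ h) h2
    rw [inv_mul_cancel_left] at this
    exact this
  · left
    refine ⟨h, fun h2 => haR ?_⟩
    have := Subgroup.mul_mem _ (Subgroup.inv_mem _ h2) h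
    rw [inv_mul_cancel_left] at this
    exact this

end Cfsg.Agent.Lib.Helper3.RF
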