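import Mathlib
import Cfsg.Agent.Lib.Helper3.RF6
import Cfsg.Agent.Lib.Helper3.CG1
import Cfsg.Agent.S5349
import Cfsg.Agent.S5350
import Cfsg.Agent.S5353

set_option autoImplicit false

/-! The structure of the reflection groups mod 3 in dimension at least five -/

namespace Cfsg.Agent.Lib.Helper3.RF

open Cfsg Matrix

theorem comm_of_card_le_two {H : Type*} [Group H] [Finite H] (h : Nat.card H ≤ 2) (x y : H) :
    x * y = y * x := by
  have hpos : 0 < Nat.card H := Nat.card_pos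
  rcases (show Nat.card H = 1 ∨ Nat.card H = 2 by omega) with h1 | h2
  · have : Subsingleton H := (Nat.card_eq_one_iff_unique.mp h1).1
    rw [Subsingleton.elim x 1, one_mul, mul_one]
  · have : Fact (Nat.Prime 2) := ⟨Nat.prime_two⟩
    have hc : IsCyclic H := isCyclic_of_prime_card h2
    exact (IsCyclic.isMulCommutative (α := H)).is_comm.comm x y

variable {n : ℕ} (Q : QuadraticForm (ZMod 3) (Fin n → ZMod 3))

/-- the class of reflections of norm `c` inside the reflection group -/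
def DD (c : ZMod 3) : Set ↥(reflectionSubgroup (⇑Q) c) :=
  {g | (g : isometryGroup (ZMod 3) (⇑Q)) ∈ reflectionsOfNorm (⇑Q) c}

/-- a reflection as a member of the reflection group -/
def reflR {c : ZMod 3} (hc : c ≠ 0) (v : Fin n → ZMod 3) (hv : Q v = c) :
    ↥(reflectionSubgroup (⇑Q) c) :=
  ⟨reflO Q v (hv ▸ hc), Subgroup.subset_closure (reflO_mem Q v hc hv)⟩

theorem reflR_mem {c : ZMod 3} (hc : c ≠ 0) (v : Fin n → ZMod 3) (hv : Q v = c) :
    reflR Q hc v hv ∈ DD Q c :=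
  reflO_mem Q v hc hv

theorem exists_reflR {c : ZMod 3} (hc : c ≠ 0) {g : ↥(reflectionSubgroup (⇑Q) c)}
    (hg : g ∈ DD Q c) : ∃ v, ∃ hv : Q v = c, g = reflR Q hc v hv := by
  obtain ⟨v, hv, h⟩ := eq_reflO_of_mem Q hc hg
  exact ⟨v, hv, Subtype.ext h⟩

theorem reflR_commute_iff {c : ZMod 3} (hc : c ≠ 0) {u v : Fin n → ZMod 3} (hu : Q u = c)
    (hv : Q v = c) : Commute (reflR Q hc u hu) (reflR Q hc v hv) ↔
      Commute (reflO Q u (hu ▸ hc)) (reflO Q v (hv ▸ hc)) := by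
  constructor
  · intro h
    exact congrArg Subtype.val h.eq
  · intro h
    exact Subtype.ext h.eq

theorem reflR_eq_of {c : ZMod 3} (hc : c ≠ 0) {u v : Fin n → ZMod 3} (hu : Q u = c)
    (hv : Q v = c) (h : v = u ∨ v = -u) : reflR Q hc v hv = reflR Q hc u hu := by
  apply Subtype.ext
  show reflO Q v (hv ▸ hc) = reflO Q u (hu ▸ hc)
  apply reflO_congr
  intro x
  rcases h with h | h
  · rw [h]
  · rw [h, rho_neg_vec]

theorem eq_or_neg_of_reflR_eq {c : ZMod 3} (hc : c ≠ 0) {u v : Fin n → ZMod 3} (hu : Q u = c)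
    (hv : Q v = c) (h : reflR Q hc v hv = reflR Q hc u hu) : v = u ∨ v = -u :=
  eq_or_neg_of_reflO_eq Q hc hu hv (congrArg Subtype.val h).symm

theorem reflR_commute_of_orth {c : ZMod 3} (hc : c ≠ 0) {u v : Fin n → ZMod 3} (hu : Q u = c)
    (hv : Q v = c) (h : Bf Q u v = 0) : Commute (reflR Q hc u hu) (reflR Q hc v hv) :=
  (reflR_commute_iff Q hc hu hv).mpr (commute_of_orth Q _ _ h)

theorem orth_of_reflR_commute {c : ZMod 3} (hc : c ≠ 0) {u v : Fin n → ZMod 3} (hu : Q u = c)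
    (hv : Q v = c) (h : Commute (reflR Q hc u hu) (reflR Q hc v hv)) :
    Bf Q u v = 0 ∨ v = u ∨ v = -u :=
  orth_of_commute Q hc hu hv ((reflR_commute_iff Q hc hu hv).mp h)

theorem Bf_self_ne {c : ZMod 3} (hc : c ≠ 0) {u : Fin n → ZMod 3} (hu : Q u = c) :
    Bf Q u u ≠ 0 := by
  rw [Bf_self, hu]; exact z3_two_ne c hc

theorem not_orth_of_pm {c : ZMod 3} (hc : c ≠ 0) {u v : Fin n → ZMod 3} (hu : Q u = c)
    (h : v = u ∨ v = -u) : Bf Q u v ≠ 0 := by
  rcases h with h | h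
  · rw [h]; exact Bf_self_ne Q hc hu
  · rw [h, Bf_neg_right]; exact neg_ne_zero.mpr (Bf_self_ne Q hc hu)

/-- two distinct reflections -/
theorem DD_two (hQ : (QuadraticMap.polarBilin Q).Nondegenerate) (hn : 5 ≤ n) {c : ZMod 3}
    (hc : c ≠ 0) : ∃ a ∈ DD Q c, ∃ b ∈ DD Q c, a ≠ b := by
  obtain ⟨u, hu⟩ := exists_vec_of_norm Q hQ (by omega) c hc
  obtain ⟨w, huw, hw⟩ := exists_perp1_of_norm Q hQ (by omega) (hu ▸ hc) c hc
  refine ⟨reflR Q hc u hu, reflR_mem Q hc u hu, reflR Q hc w hw, reflR_mem Q hc w hw, ?_⟩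
  intro h
  exact not_orth_of_pm Q hc hu (eq_or_neg_of_reflR_eq Q hc hu hw h.symm) huw

/-- triviality of the common-commuting-set classes -/
theorem V_trivial (hQ : (QuadraticMap.polarBilin Q).Nondegenerate) (hn : 5 ≤ n) {c : ZMod 3}
    (hc : c ≠ 0) {d v : ↥(reflectionSubgroup (⇑Q) c)} (hd : d ∈ DD Q c) (hv : v ∈ DD Q c)
    (h : ∀ e ∈ DD Q c, Commute v e ↔ Commute d e) : v = d := by
  obtain ⟨u, hu, rfl⟩ := exists_reflR Q hc hd
  obtain ⟨v', hv', rfl⟩ := exists_reflR Q hc hv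
  by_contra hne
  have hpm : ¬ (v' = u ∨ v' = -u) := fun hh => hne (reflR_eq_of Q hc hu hv' hh)
  have h1 : Commute (reflR Q hc u hu) (reflR Q hc v' hv') :=
    ((h _ (reflR_mem Q hc u hu)).mpr (Commute.refl _)).symm
  have huv : Bf Q u v' = 0 := by
    rcases orth_of_reflR_commute Q hc hu hv' h1 with h2 | h2
    · exact h2
    · exact absurd h2 hpm
  obtain ⟨w, hw, huw, hvw, hw1, hw2⟩ := exists_V_witness Q hQ hn hc hu hv' huv
  have h2 : Commute (reflR Q hc v' hv') (reflR Q hc w hw) :=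
    (h _ (reflR_mem Q hc w hw)).mpr (reflR_commute_of_orth Q hc hu hw huw)
  rcases orth_of_reflR_commute Q hc hv' hw h2 with h3 | h3 | h3
  · exact hvw h3
  · exact hw1 h3
  · exact hw2 h3

/-- triviality of the common-punctured-commuting-set classes -/
theorem W_trivial (hQ : (QuadraticMap.polarBilin Q).Nondegenerate) {c : ZMod 3}
    (hc : c ≠ 0) {d w : ↥(reflectionSubgroup (⇑Q) c)} (hd : d ∈ DD Q c) (hw : w ∈ DD Q c)
    (h : {y : ↥(reflectionSubgroup (⇑Q) c) | y ∈ DD Q c ∧ y ≠ d ∧ Commute d y} =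
      {y : ↥(reflectionSubgroup (⇑Q) c) | y ∈ DD Q c ∧ y ≠ w ∧ Commute w y}) : w = d := by
  obtain ⟨u, hu, rfl⟩ := exists_reflR Q hc hd
  obtain ⟨w', hw', rfl⟩ := exists_reflR Q hc hw
  by_contra hne
  have hpm : ¬ (w' = u ∨ w' = -u) := fun hh => hne (reflR_eq_of Q hc hu hw' hh)
  have huw : Bf Q u w' ≠ 0 := by
    intro h0
    have hm : reflR Q hc w' hw' ∈ {y : ↥(reflectionSubgroup (⇑Q) c) |
        y ∈ DD Q c ∧ y ≠ reflR Q hc u hu ∧ Commute (reflR Q hc u hu) y} :=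
      ⟨reflR_mem Q hc w' hw', hne, reflR_commute_of_orth Q hc hu hw' h0⟩
    rw [h] at hm
    exact hm.2.1 rfl
  obtain ⟨x, hx, hux, hwx⟩ := exists_W_witness Q hQ hc hu hw' huw
    (fun hh => hpm (Or.inl hh)) (fun hh => hpm (Or.inr hh))
  have hm : reflR Q hc x hx ∈ {y : ↥(reflectionSubgroup (⇑Q) c) |
      y ∈ DD Q c ∧ y ≠ reflR Q hc u hu ∧ Commute (reflR Q hc u hu) y} := by
    refine ⟨reflR_mem Q hc x hx, ?_, reflR_commute_of_orth Q hc hu hx hux⟩
    intro hh
    exact not_orth_of_pm Q hc hu (eq_or_neg_of_reflR_eq Q hc hu hx hh) hux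
  rw [h] at hm
  rcases orth_of_reflR_commute Q hc hw' hx hm.2.2 with h3 | h3
  · exact hwx h3
  · have := not_orth_of_pm Q hc hx (c := c) (u := x) (v := w') (by
      rcases h3 with h3 | h3
      · left; exact h3.symm
      · right; rw [h3, neg_neg])
    apply this
    -- `Bf x w' = 0` is false since `Bf u x = 0` but `Bf u w' ≠ 0`
    exfalso
    rcases h3 with h3 | h3
    · rw [h3] at hux; exact huw hux
    · rw [h3, Bf_neg_right] at hux; exact huw (neg_eq_zero.mp hux)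

/-- the commuting graph of the reflections is connected -/
theorem DD_connected (hQ : (QuadraticMap.polarBilin Q).Nondegenerate) (hn : 5 ≤ n)
    {c : ZMod 3} (hc : c ≠ 0) : (commutingGraph (DD Q c)).Connected := by
  obtain ⟨a, ha, -⟩ := DD_two Q hQ hn hc
  have : Nonempty ↥(DD Q c) := ⟨⟨a, ha⟩⟩
  rw [SimpleGraph.connected_iff]
  refine ⟨?_, this⟩
  intro x y
  have hR : CG.Rch (DD Q c) x.1 y.1 := by
    obtain ⟨u, hu, hxu⟩ := exists_reflR Q hc x.2
    obtain ⟨v, hv, hyv⟩ := exists_reflR Q hc y.2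
    rw [hxu, hyv]
    by_cases h0 : Bf Q u v = 0
    · exact CG.Rch.of_comm (reflR_mem Q hc u hu) (reflR_mem Q hc v hv)
        (reflR_commute_of_orth Q hc hu hv h0).eq
    · by_cases hpm : v = u ∨ v = -u
      · rw [reflR_eq_of Q hc hu hv hpm]
        exact CG.Rch.refl (reflR_mem Q hc u hu)
      · obtain ⟨w, hw, huw, hvw⟩ := exists_conn_witness Q hQ hn hc hu hv h0
          (fun hh => hpm (Or.inl hh)) (fun hh => hpm (Or.inr hh))
        refine CG.Rch.trans (y := reflR Q hc w hw) ?_ ?_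
        · exact CG.Rch.of_comm (reflR_mem Q hc u hu) (reflR_mem Q hc w hw)
            (reflR_commute_of_orth Q hc hu hw huw).eq
        · exact CG.Rch.of_comm (reflR_mem Q hc w hw) (reflR_mem Q hc v hv)
            (reflR_commute_of_orth Q hc hv hw hvw).symm.eq
  obtain ⟨hx, hy, hr⟩ := hR
  exact hr

end Cfsg.Agent.Lib.Helper3.RF
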