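import Mathlib
import Cfsg.Agent.Lib.Helper3.RF7
import Cfsg.Agent.Lib.Helper3.TT11

set_option autoImplicit false

/-! The structure of the reflection groups mod 3 in dimension at least five: assembly -/

namespace Cfsg.Agent.Lib.Helper3.RF

open Cfsg Matrix

/-- a member of a subgroup centralizing a generating set is central -/
theorem mem_center_of_comm_gen {G : Type*} [Group G] {D : Set G}
    (hgen : Subgroup.closure D = ⊤) {g : G} (h : ∀ d ∈ D, g * d * g⁻¹ = d) :
    g ∈ Subgroup.center G := by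
  have hle : Subgroup.closure D ≤ Subgroup.centralizer {g} := by
    rw [Subgroup.closure_le]
    intro d hd
    rw [SetLike.mem_coe, Subgroup.mem_centralizer_iff]
    intro x hx
    rw [Set.mem_singleton_iff] at hx
    subst hx
    have := h d hd
    calc x * d = x * d * x⁻¹ * x := by group
      _ = d * x := by rw [this]
  rw [hgen] at hle
  rw [Subgroup.mem_center_iff]
  intro x
  have := hle (Subgroup.mem_top x)
  rw [Subgroup.mem_centralizer_iff] at this
  exact (this g rfl).symm

variable {n : ℕ} (Q : QuadraticForm (ZMod 3) (Fin n → ZMod 3))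

theorem structure_main (hn : 5 ≤ n) (hQ : (QuadraticMap.polarBilin Q).Nondegenerate)
    {c : ZMod 3} (hc : c ≠ 0) :
    IsQuasisimple (commutator ↥(reflectionSubgroup (⇑Q) c)) ∧
    (commutator ↥(reflectionSubgroup (⇑Q) c)).index ≤ 2 ∧
    generalizedFittingSubgroup ↥(reflectionSubgroup (⇑Q) c) =
      Subgroup.center ↥(reflectionSubgroup (⇑Q) c) ⊔ commutator ↥(reflectionSubgroup (⇑Q) c) ∧
    IsPrimitiveUnderConj (DD Q c) := by
  have hD : IsThreeTranspositionClass (DD Q c) := reflections_class Q hQ (by omega) hc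
  have hD2 := DD_two Q hQ hn hc
  have hgen : Subgroup.closure (DD Q c) = ⊤ := hD.2.2
  have h2 : pCore 2 ↥(reflectionSubgroup (⇑Q) c) ≤ Subgroup.center _ := by
    intro g hg
    apply mem_center_of_comm_gen hgen
    intro d hd
    have h1 := (Cfsg.Agent.S5349.result hD hD2 hd).2
    have h3 : g * d * g⁻¹ ∈ {v : ↥(reflectionSubgroup (⇑Q) c) |
        ∃ g ∈ pCore 2 ↥(reflectionSubgroup (⇑Q) c), v = g * d * g⁻¹} := ⟨g, hg, rfl⟩
    rw [← h1] at h3
    exact V_trivial Q hQ hn hc hd h3.1 h3.2
  have h3 : pCore 3 ↥(reflectionSubgroup (⇑Q) c) ≤ Subgroup.center _ := by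
    intro g hg
    apply mem_center_of_comm_gen hgen
    intro d hd
    have h1 := (Cfsg.Agent.S5350.result hD hD2 hd).2
    have h3 : g * d * g⁻¹ ∈ {w : ↥(reflectionSubgroup (⇑Q) c) |
        ∃ g ∈ pCore 3 ↥(reflectionSubgroup (⇑Q) c), w = g * d * g⁻¹} := ⟨g, hg, rfl⟩
    rw [← h1] at h3
    exact W_trivial Q hQ hc hd h3.1 h3.2
  obtain ⟨L, hLc, hLn, hlayer, hF⟩ := TT.central_cores_structure hD hD2 h2 h3
  have hFs : generalizedFittingSubgroup ↥(reflectionSubgroup (⇑Q) c) =
      L ⊔ Subgroup.center _ := by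
    unfold generalizedFittingSubgroup
    rw [hlayer, hF]
  have hLq : IsQuasisimple L := hLc.2
  obtain ⟨hprim, hidx⟩ := Cfsg.Agent.S5353.result hD hD2 h2 h3 L hLq hFs
  have hi : L.index ≤ 2 := hidx (DD_connected Q hQ hn hc)
  have hcomm : commutator ↥(reflectionSubgroup (⇑Q) c) = L := by
    apply le_antisymm
    · apply Subgroup.Normal.quotient_commutative_iff_commutator_le.mp
      refine ⟨⟨fun x y => ?_⟩⟩
      apply comm_of_card_le_two
      rw [← Subgroup.index_eq_card]
      exact hi
    · -- `L` is perfect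
      have hperf : Group.IsPerfect ↥L := hLq.1
      have h5 : ⁅L, L⁆ = L := Subgroup.isPerfect_iff.mp hperf
      rw [← h5, commutator_def]
      exact Subgroup.commutator_mono le_top le_top
  rw [hcomm]
  refine ⟨hLq, hi, ?_, hprim hi⟩
  rw [hFs, sup_comm]

end Cfsg.Agent.Lib.Helper3.RF
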