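import Mathlib
import Cfsg.Prelude.Def_RootSubgroups

set_option autoImplicit false
set_option maxHeartbeats 4000000
set_option maxRecDepth 100000
set_option linter.unusedVariables false
set_option linter.unusedSectionVars false
set_option linter.style.longLine false
set_option linter.style.haveILetI false
set_option linter.unusedSimpArgs false
set_option linter.unnecessarySimpa false

/-! Root involutions (Timmesfeld): definitions and basic facts for S5046. -/

namespace Cfsg.Agent.Lib.Helper3.RootInv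

open Cfsg

universe u

variable {G : Type u} [Group G]

/-- the twin class of `a`: members of `D` with the same odd partners as `a` -/
def twinClass (D : Set G) (a : G) : Set G := {b | b ∈ D ∧ oddPartners D a = oddPartners D b}

/-- setwise stabilizer of `T` under conjugation -/
def setNorm (T : Set G) : Subgroup G where
  carrier := {g | ∀ t, g * t * g⁻¹ ∈ T ↔ t ∈ T}
  one_mem' := by intro t; simp
  mul_mem' := by
    intro g h hg hh t
    have h1 : g * h * t * (g * h)⁻¹ = g * (h * t * h⁻¹) * g⁻¹ := by group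
    rw [h1, hg, hh]
  inv_mem' := by
    intro g hg t
    have h1 := hg (g⁻¹ * t * g⁻¹⁻¹)
    have h2 : g * (g⁻¹ * t * g⁻¹⁻¹) * g⁻¹ = t := by group
    rw [h2] at h1
    exact h1.symm

theorem mem_setNorm {T : Set G} {g : G} : g ∈ setNorm T ↔ ∀ t, g * t * g⁻¹ ∈ T ↔ t ∈ T := Iff.rfl

variable {D : Set G}

theorem sq_one (hD : IsRootInvolutionSet D) {d : G} (hd : d ∈ D) : d * d = 1 := by
  have h := hD.orderOf_eq d hd
  have h2 : d ^ 2 = 1 := by rw [← h]; exact pow_orderOf_eq_one d
  rwa [pow_two] at h2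

theorem inv_eq (hD : IsRootInvolutionSet D) {d : G} (hd : d ∈ D) : d⁻¹ = d :=
  inv_eq_of_mul_eq_one_left (sq_one hD hd)

theorem ne_one (hD : IsRootInvolutionSet D) {d : G} (hd : d ∈ D) : d ≠ 1 := by
  intro h
  have h2 := hD.orderOf_eq d hd
  rw [h, orderOf_one] at h2
  omega

theorem conj_mem (hD : IsRootInvolutionSet D) {d : G} (hd : d ∈ D) (g : G) : g * d * g⁻¹ ∈ D :=
  hD.conj_mem d hd g

theorem conj_mem_inv (hD : IsRootInvolutionSet D) {d : G} (hd : d ∈ D) (g : G) : g⁻¹ * d * g ∈ D := by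
  have := hD.conj_mem d hd g⁻¹
  simpa using this

theorem conj_mem_iff (hD : IsRootInvolutionSet D) {d : G} (g : G) : g * d * g⁻¹ ∈ D ↔ d ∈ D := by
  constructor
  · intro h
    have := conj_mem_inv hD h g
    have h2 : g⁻¹ * (g * d * g⁻¹) * g = d := by group
    rwa [h2] at this
  · intro h; exact conj_mem hD h g

theorem conj_inv_mem (hD : IsRootInvolutionSet D) {d y : G} (hd : d ∈ D) (hy : y ∈ D) : y * d * y ∈ D := by
  have := conj_mem hD hd y
  rwa [inv_eq hD hy] at this

theorem orderOf_mul_comm' (a b : G) : orderOf (a * b) = orderOf (b * a) := by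
  have h : b * a = a⁻¹ * (a * b) * a := by group
  rw [h]
  have := orderOf_injective (MulAut.conj a⁻¹).toMonoidHom (MulAut.conj a⁻¹).injective (a * b)
  simp only [MulEquiv.coe_toMonoidHom, MulAut.conj_apply, inv_inv] at this
  exact this.symm

theorem orderOf_conj_mul (g a b : G) : orderOf ((g * a * g⁻¹) * (g * b * g⁻¹)) = orderOf (a * b) := by
  have h : (g * a * g⁻¹) * (g * b * g⁻¹) = g * (a * b) * g⁻¹ := by group
  rw [h]
  have := orderOf_injective (MulAut.conj g).toMonoidHom (MulAut.conj g).injective (a * b)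
  simpa using this

theorem oddAdj_symm {a b : G} (h : OddAdj D a b) : OddAdj D b a := by
  obtain ⟨ha, hb, hne, ho⟩ := h
  exact ⟨hb, ha, hne.symm, by rwa [orderOf_mul_comm']⟩

theorem oddAdj_conj (hD : IsRootInvolutionSet D) {a b : G} (g : G) :
    OddAdj D (g * a * g⁻¹) (g * b * g⁻¹) ↔ OddAdj D a b := by
  unfold OddAdj
  rw [conj_mem_iff hD, conj_mem_iff hD, orderOf_conj_mul]
  constructor
  · rintro ⟨h1, h2, h3, h4⟩
    exact ⟨h1, h2, fun h => h3 (by rw [h]), h4⟩
  · rintro ⟨h1, h2, h3, h4⟩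
    refine ⟨h1, h2, fun h => h3 ?_, h4⟩
    have := mul_left_cancel (mul_right_cancel h)
    exact this

theorem mem_oddPartners_iff {d e : G} (hd : d ∈ D) : e ∈ oddPartners D d ↔ OddAdj D d e := by
  unfold oddPartners OddAdj
  show (e ∈ D ∧ e ≠ d ∧ Odd (orderOf (d * e))) ↔ _
  simp only [hd, true_and]
  constructor
  · rintro ⟨h1, h2, h3⟩; exact ⟨h1, fun h => h2 h.symm, h3⟩
  · rintro ⟨h1, h2, h3⟩; exact ⟨h1, fun h => h2 h.symm, h3⟩

theorem mem_twinClass {a b : G} : b ∈ twinClass D a ↔ b ∈ D ∧ oddPartners D a = oddPartners D b := Iff.rfl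

theorem mem_twinClass_self {a : G} (ha : a ∈ D) : a ∈ twinClass D a := ⟨ha, rfl⟩

theorem twinClass_subset (a : G) : twinClass D a ⊆ D := fun b hb => hb.1

theorem twinClass_eq_of_mem {a b : G} (hb : b ∈ twinClass D a) : twinClass D b = twinClass D a := by
  ext c
  simp only [mem_twinClass, hb.2]

theorem twinClass_eq_of_common {a b c : G} (h1 : c ∈ twinClass D a) (h2 : c ∈ twinClass D b) :
    twinClass D a = twinClass D b := by
  rw [← twinClass_eq_of_mem h1, ← twinClass_eq_of_mem h2]

/-- twins are never odd partners -/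
theorem not_oddAdj_of_twin {a b : G} (ha : a ∈ D) (hb : b ∈ twinClass D a) : ¬ OddAdj D a b := by
  intro h
  have h1 : b ∈ oddPartners D a := (mem_oddPartners_iff ha).2 h
  rw [hb.2] at h1
  exact h1.2.1 rfl

theorem oddAdj_twin_iff {a b z : G} (ha : a ∈ D) (hb : b ∈ twinClass D a) :
    OddAdj D a z ↔ OddAdj D b z := by
  rw [← mem_oddPartners_iff ha, ← mem_oddPartners_iff hb.1, hb.2]

end Cfsg.Agent.Lib.Helper3.RootInv
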