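import Mathlib
import Cfsg.Agent.Lib.Helper3.RIDefs

set_option autoImplicit false
set_option maxHeartbeats 4000000
set_option maxRecDepth 100000
set_option linter.unusedVariables false
set_option linter.unusedSectionVars false
set_option linter.style.longLine false
set_option linter.style.haveILetI false
set_option linter.unusedSimpArgs false
set_option linter.unnecessarySimpa false

/-! Root involutions: basic facts (piece P1 of S5046). -/

namespace Cfsg.Agent.Lib.Helper3.RootInv

open Cfsg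

universe u

variable {G : Type u} [Group G] {D : Set G}

theorem tri (hD : IsRootInvolutionSet D) {a b : G} (ha : a ∈ D) (hb : b ∈ D) :
    a * b = b * a ∨ OddAdj D a b ∨ orderOf (a * b) = 4 := by
  rcases hD.pair a ha b hb with h | h | h
  · exact Or.inl h
  · by_cases hab : a = b
    · left; rw [hab]
    · exact Or.inr (Or.inl ⟨ha, hb, hab, h⟩)
  · exact Or.inr (Or.inr h.1)

theorem comm_sq (hD : IsRootInvolutionSet D) {a b : G} (ha : a ∈ D) (hb : b ∈ D)
    (h : a * b = b * a) : (a * b) ^ 2 = 1 := by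
  rw [pow_two]
  calc a * b * (a * b) = a * (b * a) * b := by group
    _ = a * (a * b) * b := by rw [h]
    _ = (a * a) * (b * b) := by group
    _ = 1 := by rw [sq_one hD ha, sq_one hD hb, one_mul]

theorem not_oddAdj_of_comm (hD : IsRootInvolutionSet D) {a b : G} (ha : a ∈ D) (hb : b ∈ D)
    (h : a * b = b * a) : ¬ OddAdj D a b := by
  rintro ⟨_, _, hne, hodd⟩
  have h2 := comm_sq hD ha hb h
  have hdvd : orderOf (a * b) ∣ 2 := orderOf_dvd_of_pow_eq_one h2
  have h1 : orderOf (a * b) = 1 := by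
    rcases (Nat.dvd_prime Nat.prime_two).1 hdvd with h1 | h1
    · exact h1
    · rw [h1] at hodd; exact absurd hodd (by decide)
  rw [orderOf_eq_one_iff] at h1
  apply hne
  have : a = b⁻¹ := eq_inv_of_mul_eq_one_left h1
  rw [this, inv_eq hD hb]

theorem not_four_of_comm (hD : IsRootInvolutionSet D) {a b : G} (ha : a ∈ D) (hb : b ∈ D)
    (h : a * b = b * a) : orderOf (a * b) ≠ 4 := by
  intro h4
  have h2 := comm_sq hD ha hb h
  have hdvd : orderOf (a * b) ∣ 2 := orderOf_dvd_of_pow_eq_one h2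
  rw [h4] at hdvd
  exact absurd hdvd (by decide)

theorem not_four_of_oddAdj {a b : G} (h : OddAdj D a b) : orderOf (a * b) ≠ 4 := by
  intro h4
  have := h.2.2.2
  rw [h4] at this
  exact absurd this (by decide)

/-- the structure of a pair with product of order 4: `z = (a b)^2` is a member of `D`, commutes with `a`
and `b`, and `b a b = a z`, `a b a = b z`. -/
theorem four_facts (hD : IsRootInvolutionSet D) {a b : G} (ha : a ∈ D) (hb : b ∈ D)
    (h : orderOf (a * b) = 4) :
    (a * b) ^ 2 ∈ D ∧ (a * b) ^ 2 * a = a * (a * b) ^ 2 ∧ (a * b) ^ 2 * b = b * (a * b) ^ 2 ∧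
      b * a * b = a * (a * b) ^ 2 ∧ a * b * a = b * (a * b) ^ 2 ∧ (a * b) ^ 2 = (b * a) ^ 2 ∧
      a * b ≠ b * a := by
  have hne : a * b ≠ b * a := fun hc => not_four_of_comm hD ha hb hc h
  have hmem : (a * b) ^ 2 ∈ D := by
    rcases hD.pair a ha b hb with h1 | h1 | h1
    · exact absurd h1 hne
    · rw [h] at h1; exact absurd h1 (by decide)
    · exact h1.2
  have h4 : (a * b) ^ 4 = 1 := by rw [← h]; exact pow_orderOf_eq_one _
  have haa := sq_one hD ha
  have hbb := sq_one hD hb
  have hai := inv_eq hD ha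
  have hbi := inv_eq hD hb
  have hsq : (a * b) ^ 2 = (b * a) ^ 2 := by
    have h5 : (a * b) ^ 2 * (a * b) ^ 2 = 1 := by rw [← pow_add]; exact h4
    have h6 : (a * b) ^ 2 = ((a * b) ^ 2)⁻¹ := eq_inv_of_mul_eq_one_left h5
    rw [h6, ← inv_pow, mul_inv_rev, hai, hbi]
  have hz1 : (a * b) ^ 2 = a * b * a * b := by rw [pow_two]; group
  have hz2 : (b * a) ^ 2 = b * a * b * a := by rw [pow_two]; group
  have hz : a * b * a * b = b * a * b * a := by rw [← hz1, ← hz2, hsq]
  refine ⟨hmem, ?_, ?_, ?_, ?_, hsq, hne⟩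
  · -- z a = a z
    rw [hz1]
    calc a * b * a * b * a = (b * a * b * a) * a := by rw [hz]
      _ = b * a * b * (a * a) := by group
      _ = b * a * b := by rw [haa, mul_one]
      _ = (a * a) * (b * a * b) := by rw [haa, one_mul]
      _ = a * (a * b * a * b) := by group
  · rw [hz1]
    calc a * b * a * b * b = a * b * a * (b * b) := by group
      _ = a * b * a := by rw [hbb, mul_one]
      _ = (b * b) * (a * b * a) := by rw [hbb, one_mul]
      _ = b * (b * a * b * a) := by group
      _ = b * (a * b * a * b) := by rw [hz]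
  · rw [hz1]
    calc b * a * b = (a * a) * (b * a * b) := by rw [haa, one_mul]
      _ = a * (a * b * a * b) := by group
  · rw [hz1, hz]
    calc a * b * a = (b * b) * (a * b * a) := by rw [hbb, one_mul]
      _ = b * (b * a * b * a) := by group

theorem exists_conj_of_oddAdj (hD : IsRootInvolutionSet D) {a b : G} (h : OddAdj D a b) :
    ∃ g ∈ Subgroup.closure ({a, b} : Set G), g * a * g⁻¹ = b := by
  obtain ⟨ha, hb, hne, hodd⟩ := h
  obtain ⟨j, hj⟩ := hodd
  have haa := sq_one hD ha
  have hai := inv_eq hD ha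
  have hbi := inv_eq hD hb
  set r := b * a with hr
  have hord : orderOf r = 2 * j + 1 := by rw [hr, ← orderOf_mul_comm', hj]
  have hrk : r ^ (2 * j + 1) = 1 := by rw [← hord]; exact pow_orderOf_eq_one _
  -- a inverts r
  have hinv : a * r * a⁻¹ = r⁻¹ := by
    rw [hr, mul_inv_rev, hai, hbi]
    calc a * (b * a) * a = a * b * (a * a) := by group
      _ = a * b := by rw [haa, mul_one]
  have hpow : ∀ m : ℕ, a * r ^ m * a⁻¹ = (r⁻¹) ^ m := by
    intro m
    rw [← conj_pow, hinv]
  refine ⟨r ^ (j + 1), ?_, ?_⟩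
  · apply pow_mem
    apply mul_mem
    · exact Subgroup.subset_closure (by simp)
    · exact Subgroup.subset_closure (by simp)
  · -- r^m a r^-m = r^(2m) a
    have h1 : a * (r⁻¹) ^ (j + 1) = r ^ (j + 1) * a := by
      have := hpow (j + 1)
      -- a r^m a⁻¹ = r⁻m  =>  a r^{-m} a^{-1} = r^m
      have h2 : a * (r⁻¹) ^ (j + 1) * a⁻¹ = r ^ (j + 1) := by
        have h3 : a * (r⁻¹) ^ (j + 1) * a⁻¹ = (a * r ^ (j + 1) * a⁻¹)⁻¹ := by
          rw [inv_pow]; group
        rw [h3, this, inv_pow, inv_inv]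
      calc a * (r⁻¹) ^ (j + 1) = (a * (r⁻¹) ^ (j + 1) * a⁻¹) * a := by group
        _ = r ^ (j + 1) * a := by rw [h2]
    calc r ^ (j + 1) * a * (r ^ (j + 1))⁻¹ = (r ^ (j + 1) * a) * (r⁻¹) ^ (j + 1) := by rw [inv_pow]
      _ = (a * (r⁻¹) ^ (j + 1)) * (r⁻¹) ^ (j + 1) := by rw [h1]
      _ = a * ((r⁻¹) ^ (j + 1) * (r⁻¹) ^ (j + 1)) := by group
      _ = a * (r⁻¹) ^ (2 * j + 1 + 1) := by rw [← pow_add]; congr 2; omega
      _ = a * r⁻¹ := by rw [pow_succ, inv_pow, hrk, inv_one, one_mul]
      _ = b := by rw [hr, mul_inv_rev, hai, hbi]; calc a * (a * b) = (a * a) * b := by group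
                                                      _ = b := by rw [haa, one_mul]

theorem exists_conj (hD : IsRootInvolutionSet D) (hc : IsConnectedSet (OddAdj D) D) {a b : G}
    (ha : a ∈ D) (hb : b ∈ D) : ∃ g : G, g * a * g⁻¹ = b := by
  have h := hc a ha b hb
  induction h with
  | refl => exact ⟨1, by simp⟩
  | tail _ hcb ih =>
    obtain ⟨g1, hg1⟩ := ih hcb.1
    obtain ⟨g2, _, hg2⟩ := exists_conj_of_oddAdj hD hcb
    refine ⟨g2 * g1, ?_⟩
    rw [← hg2, ← hg1]; group

theorem oddPartners_conj (hD : IsRootInvolutionSet D) {a : G} (ha : a ∈ D) (g : G) :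
    oddPartners D (g * a * g⁻¹) = (fun z => g * z * g⁻¹) '' oddPartners D a := by
  ext z
  rw [mem_oddPartners_iff (conj_mem hD ha g)]
  constructor
  · intro h
    refine ⟨g⁻¹ * z * g, ?_, by group⟩
    rw [mem_oddPartners_iff ha]
    have h2 : z = g * (g⁻¹ * z * g) * g⁻¹ := by group
    rw [h2, oddAdj_conj hD] at h
    exact h
  · rintro ⟨y, hy, rfl⟩
    rw [mem_oddPartners_iff ha] at hy
    exact (oddAdj_conj hD g).2 hy

theorem ncard_oddPartners [Finite G] (hD : IsRootInvolutionSet D) (hc : IsConnectedSet (OddAdj D) D)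
    {a b : G} (ha : a ∈ D) (hb : b ∈ D) : (oddPartners D a).ncard = (oddPartners D b).ncard := by
  obtain ⟨g, rfl⟩ := exists_conj hD hc ha hb
  rw [oddPartners_conj hD ha g]
  symm
  apply Set.ncard_image_of_injective
  intro x y hxy
  exact mul_left_cancel (mul_right_cancel hxy)

theorem exists_oddAdj (hD : IsRootInvolutionSet D) (hc : IsConnectedSet (OddAdj D) D) {a b : G}
    (ha : a ∈ D) (hb : b ∈ D) (hne : a ≠ b) : ∃ c, OddAdj D a c := by
  have h := hc a ha b hb
  rcases Relation.ReflTransGen.cases_head h with h1 | ⟨c, hac, _⟩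
  · exact absurd h1 hne
  · exact ⟨c, hac⟩

end Cfsg.Agent.Lib.Helper3.RootInv
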