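import Mathlib
import Cfsg.Agent.Lib.Helper3.RIBasic

set_option autoImplicit false
set_option maxHeartbeats 4000000
set_option maxRecDepth 100000
set_option linter.unusedVariables false
set_option linter.unusedSectionVars false
set_option linter.style.longLine false
set_option linter.style.haveILetI false
set_option linter.unusedSimpArgs false
set_option linter.unnecessarySimpa false

/-! Root involutions: the lemma G1 on root four-groups (piece P2 of S5046). -/

namespace Cfsg.Agent.Lib.Helper3.RootInv

open Cfsg

universe u

variable {G : Type u} [Group G] {D : Set G}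

/-- G1: for commuting `u, v ∈ D` with `u v ∈ D`, a member `z` commuting with `u` is not an odd partner of `v`. -/
theorem g1 (hD : IsRootInvolutionSet D) {u v z : G} (hu : u ∈ D) (hv : v ∈ D) (huv : u * v = v * u)
    (hp : u * v ∈ D) (hz : z ∈ D) (hzu : z * u = u * z) : ¬ OddAdj D z v := by
  rintro ⟨_, _, hne, hodd⟩
  set k := orderOf (z * v) with hk
  have hk1 : k ≠ 1 := by
    intro h1
    rw [hk, orderOf_eq_one_iff] at h1
    apply hne
    have : z = v⁻¹ := eq_inv_of_mul_eq_one_left h1
    rw [this, inv_eq hD hv]
  have hcomm : Commute (z * v) u := by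
    show z * v * u = u * (z * v)
    calc z * v * u = z * (v * u) := by group
      _ = z * (u * v) := by rw [huv]
      _ = (z * u) * v := by group
      _ = (u * z) * v := by rw [hzu]
      _ = u * (z * v) := by group
  have hcop : Nat.Coprime (orderOf (z * v)) (orderOf u) := by
    rw [hD.orderOf_eq u hu]
    apply Nat.Coprime.symm
    rw [Nat.Prime.coprime_iff_not_dvd Nat.prime_two]
    intro h2
    rcases hodd with ⟨j, hj⟩
    omega
  have hord : orderOf (z * v * u) = k * 2 := by
    rw [hcomm.orderOf_mul_eq_mul_orderOf_of_coprime hcop, hD.orderOf_eq u hu]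
  have heq : z * (u * v) = z * v * u := by rw [huv]; group
  have hord2 : orderOf (z * (u * v)) = k * 2 := by rw [heq, hord]
  rcases tri hD hz hp with h | h | h
  · have h2 := comm_sq hD hz hp h
    have hdvd : orderOf (z * (u * v)) ∣ 2 := orderOf_dvd_of_pow_eq_one h2
    rw [hord2] at hdvd
    have : k * 2 ≤ 2 := Nat.le_of_dvd (by norm_num) hdvd
    rcases hodd with ⟨j, hj⟩
    omega
  · have := h.2.2.2
    rw [hord2] at this
    rcases this with ⟨j, hj⟩
    omega
  · rw [hord2] at h
    rcases hodd with ⟨j, hj⟩
    omega

/-- G1': under the hypotheses of G1, if moreover `z` does not commute with `v`, then `z v` and `z (u v)` have order 4. -/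
theorem g1' (hD : IsRootInvolutionSet D) {u v z : G} (hu : u ∈ D) (hv : v ∈ D) (huv : u * v = v * u)
    (hp : u * v ∈ D) (hz : z ∈ D) (hzu : z * u = u * z) (hzv : z * v ≠ v * z) :
    orderOf (z * v) = 4 ∧ orderOf (z * (u * v)) = 4 := by
  constructor
  · rcases tri hD hz hv with h | h | h
    · exact absurd h hzv
    · exact absurd h (g1 hD hu hv huv hp hz hzu)
    · exact h
  · have hu' : u * (u * v) = v := by
      calc u * (u * v) = (u * u) * v := by group
        _ = v := by rw [sq_one hD hu, one_mul]
    have hcomm' : u * (u * v) = (u * v) * u := by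
      rw [hu']
      calc v = v * (u * u) := by rw [sq_one hD hu, mul_one]
        _ = (v * u) * u := by group
        _ = (u * v) * u := by rw [huv]
    rcases tri hD hz hp with h | h | h
    · exfalso
      apply hzv
      -- z commutes with u and u v, hence with v
      calc z * v = z * (u * (u * v)) := by rw [hu']
        _ = (z * u) * (u * v) := by group
        _ = (u * z) * (u * v) := by rw [hzu]
        _ = u * (z * (u * v)) := by group
        _ = u * ((u * v) * z) := by rw [h]
        _ = (u * (u * v)) * z := by group
        _ = v * z := by rw [hu']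
    · exfalso
      refine g1 hD hu hp hcomm' ?_ hz hzu h
      rw [hu']; exact hv
    · exact h

end Cfsg.Agent.Lib.Helper3.RootInv
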