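import Mathlib
import Cfsg.Agent.Lib.Helper3.RIG1
import Cfsg.Agent.Lib.Helper4.RIBlock
import Cfsg.Agent.Lib.Helper8.RIBoot

set_option autoImplicit false
set_option maxHeartbeats 4000000
set_option maxRecDepth 100000
set_option linter.unusedVariables false
set_option linter.unusedSectionVars false
set_option linter.style.longLine false
set_option linter.style.haveILetI false
set_option linter.unusedSimpArgs false
set_option linter.unnecessarySimpa false

/-! Root involutions: S5046 assembly (piece P10). -/

namespace Cfsg.Agent.Lib.Helper3.RootInv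

open Cfsg

universe u

variable {G : Type u} [Group G] {D : Set G}

/-- easy direction: same commuting members => a four-partner of `d` is not an odd partner of `e`. -/
theorem h1 (hD : IsRootInvolutionSet D) {d e y : G} (hd : d ∈ D) (he : e ∈ D)
    (hC : commutingMembers D d = commutingMembers D e) (hy : y ∈ D) (h4 : orderOf (d * y) = 4) :
    ¬ OddAdj D e y := by
  obtain ⟨hz, hza, hzb, hyd, _, _, _⟩ := four_facts hD hd hy h4
  have hyy := sq_one hD hy
  have hee := sq_one hD he
  -- y d y commutes with d
  have h1 : y * d * y ∈ commutingMembers D d := by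
    refine ⟨conj_inv_mem hD hd hy, ?_⟩
    rw [hyd]
    calc d * (d * y) ^ 2 * d = d * ((d * y) ^ 2 * d) := by group
      _ = d * (d * (d * y) ^ 2) := by rw [hza]
  rw [hC] at h1
  -- e commutes with y d y, so y e y commutes with d
  have h2 : y * e * y ∈ commutingMembers D d := by
    refine ⟨conj_inv_mem hD he hy, ?_⟩
    have h3 := h1.2
    calc y * e * y * d = y * (e * (y * d * y)) * y := by
          calc y * e * y * d = y * e * y * d * (y * y) := by rw [hyy, mul_one]
            _ = y * (e * (y * d * y)) * y := by group
      _ = y * ((y * d * y) * e) * y := by rw [h3]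
      _ = (y * y) * d * (y * e * y) := by group
      _ = d * (y * e * y) := by rw [hyy, one_mul]
  rw [hC] at h2
  have h5 := h2.2
  -- (e y)^4 = 1
  have h6 : (e * y) ^ 4 = 1 := by
    have : (e * y) ^ 4 = (e * (y * e * y)) * (e * (y * e * y)) := by
      simp only [pow_succ, pow_zero, one_mul]; group
    rw [this]
    calc e * (y * e * y) * (e * (y * e * y)) = e * ((y * e * y) * e) * (y * e * y) := by group
      _ = e * (e * (y * e * y)) * (y * e * y) := by rw [h5]
      _ = (e * e) * ((y * e * y) * (y * e * y)) := by group
      _ = (y * e * y) * (y * e * y) := by rw [hee, one_mul]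
      _ = y * e * (y * y) * e * y := by group
      _ = y * (e * e) * y := by rw [hyy]; group
      _ = 1 := by rw [hee, mul_one, hyy]
  rintro ⟨_, _, hne, hodd⟩
  have hdvd : orderOf (e * y) ∣ 4 := orderOf_dvd_of_pow_eq_one h6
  have h1' : orderOf (e * y) = 1 := by
    have hdiv : orderOf (e * y) ∈ Nat.divisors 4 := by
      rw [Nat.mem_divisors]; exact ⟨hdvd, by norm_num⟩
    have hd4 : Nat.divisors 4 = {1, 2, 4} := by decide
    rw [hd4] at hdiv
    simp only [Finset.mem_insert, Finset.mem_singleton] at hdiv
    rcases hdiv with h | h | h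
    · exact h
    · rw [h] at hodd; exact absurd hodd (by decide)
    · rw [h] at hodd; exact absurd hodd (by decide)
  rw [orderOf_eq_one_iff] at h1'
  apply hne
  have : e = y⁻¹ := eq_inv_of_mul_eq_one_left h1'
  rw [this, inv_eq hD hy]

theorem mem_union_iff (hD : IsRootInvolutionSet D) {d y : G} (hd : d ∈ D) :
    y ∈ commutingMembers D d ∪ fourPartners D d ↔ y ∈ D ∧ ¬ OddAdj D d y := by
  constructor
  · rintro (h | h)
    · exact ⟨h.1, not_oddAdj_of_comm hD hd h.1 h.2.symm⟩
    · exact ⟨h.1, fun ho => not_four_of_oddAdj ho h.2⟩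
  · rintro ⟨hy, hno⟩
    rcases tri hD hd hy with h | h | h
    · exact Or.inl ⟨hy, h.symm⟩
    · exact absurd h hno
    · exact Or.inr ⟨hy, h⟩

theorem main [Finite G] (hD : IsRootInvolutionSet D) (hc : IsConnectedSet (OddAdj D) D) {d : G} (hd : d ∈ D) :
    sameCommutingClass D d =
      {e | e ∈ D ∧ commutingMembers D d ∪ fourPartners D d = commutingMembers D e ∪ fourPartners D e} := by
  ext e
  constructor
  · rintro ⟨he, hC⟩
    refine ⟨he, ?_⟩
    ext y
    rw [mem_union_iff hD hd, mem_union_iff hD he]
    constructor
    · rintro ⟨hy, hno⟩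
      refine ⟨hy, ?_⟩
      rcases tri hD hd hy with h | h | h
      · have : y ∈ commutingMembers D d := ⟨hy, h.symm⟩
        rw [hC] at this
        exact not_oddAdj_of_comm hD he hy this.2.symm
      · exact absurd h hno
      · exact h1 hD hd he hC hy h
    · rintro ⟨hy, hno⟩
      refine ⟨hy, ?_⟩
      rcases tri hD he hy with h | h | h
      · have : y ∈ commutingMembers D e := ⟨hy, h.symm⟩
        rw [← hC] at this
        exact not_oddAdj_of_comm hD hd hy this.2.symm
      · exact absurd h hno
      · exact h1 hD he hd hC.symm hy h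
  · rintro ⟨he, hM⟩
    refine ⟨he, ?_⟩
    -- e is a twin of d
    have htw : e ∈ twinClass D d := by
      refine ⟨he, ?_⟩
      ext z
      rw [mem_oddPartners_iff hd, mem_oddPartners_iff he]
      have h1 := mem_union_iff hD (y := z) hd
      have h2 := mem_union_iff hD (y := z) he
      rw [hM] at h1
      constructor
      · intro h
        by_contra hno
        have := (h1.1 (h2.2 ⟨h.2.1, hno⟩)).2
        exact this h
      · intro h
        by_contra hno
        have := (h2.1 (h1.2 ⟨h.2.1, hno⟩)).2
        exact this h
    have hdT : d ∈ twinClass D d := mem_twinClass_self hd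
    ext x
    constructor
    · rintro ⟨hx, hxd⟩
      refine ⟨hx, ?_⟩
      have hxN : x ∈ setNorm (twinClass D d) := mem_setNorm_of_comm hD hdT hxd
      exact setNorm_centralizes hD hc hd hx hxN htw
    · rintro ⟨hx, hxe⟩
      refine ⟨hx, ?_⟩
      have hxN : x ∈ setNorm (twinClass D d) := mem_setNorm_of_comm hD htw hxe
      exact setNorm_centralizes hD hc hd hx hxN hdT

end Cfsg.Agent.Lib.Helper3.RootInv
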