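import Mathlib
import Cfsg.Agent.Lib.Helper9.RK3HDefs
import Cfsg.Agent.Lib.Helper1.PL1

/-! Farm RK3 (S4404), LEMMA HHc, unit `U2` (Clifford step): in the faithful configuration
`Cfg M R x r` with `R ≠ ⊥`, `⟨R, x⟩`-irreducibility of `M` implies `R`-irreducibility. -/

set_option autoImplicit false
set_option linter.unusedVariables false
set_option linter.unusedSectionVars false
set_option linter.style.longLine false

open scoped commutatorElement

namespace Cfsg.Agent.Lib.Helper3.RK3

open Cfsg.Agent.Lib.Helper9.RK3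
open Cfsg.Agent.Lib.Helper1

universe u

variable {G : Type u} [Group G]

/-- An `r`-group, `r ≥ 5`, normalizing a subgroup of order at most `4` centralizes it. -/
theorem centralizes_of_card_le_four' [Finite G] {r : ℕ} (hr : r.Prime) (hr5 : 5 ≤ r)
    {A N : Subgroup G} (hA : IsPGroup r A) (hAN : A ≤ Subgroup.normalizer (N : Set G))
    (hN : Nat.card N ≤ 4) : A ≤ Subgroup.centralizer (N : Set G) := by
  classical
  intro a ha
  have haN := hAN ha
  have haN' : a⁻¹ ∈ Subgroup.normalizer (N : Set G) := inv_mem haN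
  let σ : Equiv.Perm N :=
    { toFun := fun n => ⟨a * n * a⁻¹, (Subgroup.mem_normalizer_iff.mp haN n).mp n.2⟩
      invFun := fun n => ⟨a⁻¹ * n * a, by
        have := (Subgroup.mem_normalizer_iff.mp haN' n).mp n.2
        simpa using this⟩
      left_inv := fun n => by
        apply Subtype.ext
        show a⁻¹ * (a * (n : G) * a⁻¹) * a = n
        group
      right_inv := fun n => by
        apply Subtype.ext
        show a * (a⁻¹ * (n : G) * a) * a⁻¹ = n
        group }
  have hσ1 : ∀ n : N, ((σ n : N) : G) = a * n * a⁻¹ := fun n => rfl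
  have hpow : ∀ k : ℕ, ∀ n : N, (((σ ^ k) n : N) : G) = a ^ k * n * (a ^ k)⁻¹ := by
    intro k
    induction k with
    | zero => intro n; simp
    | succ k ih =>
      intro n
      rw [pow_succ', Equiv.Perm.mul_apply, hσ1, ih, pow_succ']
      group
  obtain ⟨k, hk⟩ := hA ⟨a, ha⟩
  have hak : a ^ (r ^ k) = 1 := by
    have := congrArg Subtype.val hk
    simpa using this
  have hσ : σ ^ (r ^ k) = 1 := by
    ext n
    rw [hpow, hak]
    simp
  have h1 : orderOf σ ∣ r ^ k := orderOf_dvd_of_pow_eq_one hσ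
  have h2 : orderOf σ ∣ (Nat.card N).factorial := by
    have := orderOf_dvd_natCard σ
    rwa [Nat.card_perm] at this
  have h3 : (Nat.card N).factorial ∣ 24 := by
    have : (Nat.card N).factorial ∣ (4 : ℕ).factorial := Nat.factorial_dvd_factorial hN
    simpa [Nat.factorial] using this
  have hr24 : Nat.Coprime r 24 := by
    rw [Nat.Prime.coprime_iff_not_dvd hr]
    intro h
    have hle := Nat.le_of_dvd (by norm_num) h
    interval_cases r <;> revert hr <;> revert h <;> decide
  have hcop : Nat.Coprime (r ^ k) 24 := Nat.Coprime.pow_left k hr24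
  have h4 : orderOf σ = 1 :=
    (Nat.Coprime.coprime_dvd_left h1 hcop).eq_one_of_dvd (h2.trans h3)
  have hσe : σ = 1 := orderOf_eq_one_iff.mp h4
  rw [Subgroup.mem_centralizer_iff]
  intro n hn
  have := hσ1 ⟨n, hn⟩
  rw [hσe] at this
  simp only [Equiv.Perm.coe_one, id_eq] at this
  -- n = a * n * a⁻¹
  calc n * a = (a * n * a⁻¹) * a := by rw [← this]
    _ = a * n := by group

/-- `R ≤ N(K)` and `x ∈ N(R)` imply `R ≤ N(x K x⁻¹)`. -/
theorem le_normalizer_cj {R K : Subgroup G} {x : G}
    (hxR : x ∈ Subgroup.normalizer (R : Set G))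
    (hRK : R ≤ Subgroup.normalizer (K : Set G)) :
    R ≤ Subgroup.normalizer ((PL.cj x K : Subgroup G) : Set G) := by
  intro g hg
  rw [← PL.cj_eq_self_iff, ← PL.cj_mul]
  have hg' : x⁻¹ * g * x ∈ R := by
    have hx' : x⁻¹ ∈ Subgroup.normalizer (R : Set G) := inv_mem hxR
    have := (Subgroup.mem_normalizer_iff.mp hx' g).mp hg
    simpa using this
  have h1 : g * x = x * (x⁻¹ * g * x) := by group
  rw [h1, PL.cj_mul, PL.cj_of_mem_normalizer (hRK hg')]

/-- U2 (Clifford step): `⟨R,x⟩`-irreducible implies `R`-irreducible. -/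
theorem U2 [Finite G] {M R : Subgroup G} {x : G} {r : ℕ} (c : Cfg M R x r)
    (hR1 : R ≠ ⊥)
    (hirr : ∀ M' : Subgroup G, M' ≤ M → R ≤ Subgroup.normalizer (M' : Set G) →
      x ∈ Subgroup.normalizer (M' : Set G) → M' = ⊥ ∨ M' = M) :
    ∀ N : Subgroup G, N ≤ M → R ≤ Subgroup.normalizer (N : Set G) → N = ⊥ ∨ N = M := by
  classical
  -- `T = C_M(R)` is trivial
  have hT : M ⊓ Subgroup.centralizer (R : Set G) = ⊥ := by
    have hTR : R ≤ Subgroup.normalizer ((M ⊓ Subgroup.centralizer (R : Set G) : Subgroup G) : Set G) := by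
      intro g hg
      exact PL.mem_normalizer_inf (c.hRM hg)
        (PL.mem_normalizer_centralizer (Subgroup.le_normalizer hg))
    have hTx : x ∈ Subgroup.normalizer ((M ⊓ Subgroup.centralizer (R : Set G) : Subgroup G) : Set G) :=
      PL.mem_normalizer_inf c.hxM (PL.mem_normalizer_centralizer c.hxR)
    rcases hirr _ inf_le_left hTR hTx with h | h
    · exact h
    · exfalso
      apply hR1
      rw [← c.faith]
      refine (inf_eq_left.mpr ?_).symm
      have h2 : M ≤ Subgroup.centralizer (R : Set G) := by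
        rw [← h]; exact inf_le_right
      exact Subgroup.le_centralizer_iff.mp h2
  -- a nontrivial `R`-invariant subgroup of minimal order
  by_cases hM1 : M = ⊥
  · intro N hN _
    left
    rw [hM1] at hN
    exact le_bot_iff.mp hN
  let 𝒮 : Set (Subgroup G) :=
    {N | N ≤ M ∧ R ≤ Subgroup.normalizer (N : Set G) ∧ N ≠ ⊥}
  have h𝒮ne : 𝒮.Nonempty := ⟨M, le_refl _, c.hRM, hM1⟩
  obtain ⟨N₀, hN₀, hmin⟩ :=
    Set.exists_min_image 𝒮 (fun N : Subgroup G => Nat.card N) (Set.toFinite _) h𝒮ne
  obtain ⟨hN₀M, hRN₀, hN₀1⟩ := hN₀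
  have hkey : N₀ = M := by
    by_cases hx : x ∈ Subgroup.normalizer (N₀ : Set G)
    · rcases hirr N₀ hN₀M hRN₀ hx with h | h
      · exact absurd h hN₀1
      · exact h
    · exfalso
      -- `N₀ ⊓ x N₀ x⁻¹ = ⊥`
      have hI : N₀ ⊓ PL.cj x N₀ = ⊥ := by
        by_contra hne
        have hcjM : PL.cj x N₀ ≤ M := by
          have := PL.cj_mono (g := x) hN₀M
          rwa [PL.cj_of_mem_normalizer c.hxM] at this
        have hmem : (N₀ ⊓ PL.cj x N₀) ∈ 𝒮 := by
          refine ⟨inf_le_left.trans hN₀M, ?_, hne⟩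
          intro g hg
          exact PL.mem_normalizer_inf (hRN₀ hg) (le_normalizer_cj c.hxR hRN₀ hg)
        have hle := hmin _ hmem
        have heq : N₀ ⊓ PL.cj x N₀ = N₀ :=
          Subgroup.eq_of_le_of_card_ge inf_le_left hle
        have hle2 : N₀ ≤ PL.cj x N₀ := inf_eq_left.mp heq
        have heq2 : N₀ = PL.cj x N₀ :=
          Subgroup.eq_of_le_of_card_ge hle2 (le_of_eq (PL.card_cj x N₀))
        exact hx (PL.cj_eq_self_iff.mp heq2.symm)
      -- injection `N₀ → [M, ⟨x⟩]`
      have hcomm : ∀ a ∈ M, ∀ b ∈ M, a * b = b * a := by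
        intro a ha b hb
        have := c.hM.1.is_comm.comm (⟨a, ha⟩ : M) ⟨b, hb⟩
        exact congrArg Subtype.val this
      have hxmem : ∀ m ∈ M, x * m * x⁻¹ ∈ M := fun m hm =>
        (Subgroup.mem_normalizer_iff.mp c.hxM m).mp hm
      let f : N₀ → (⁅M, Subgroup.zpowers x⁆ : Subgroup G) := fun n =>
        ⟨⁅(n : G), x⁆, Subgroup.commutator_mem_commutator (hN₀M n.2) (Subgroup.mem_zpowers x)⟩
      have hf : Function.Injective f := by
        intro n n' h
        have h1 : ⁅(n : G), x⁆ = ⁅(n' : G), x⁆ := congrArg Subtype.val h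
        rw [commutatorElement_def, commutatorElement_def] at h1
        -- n * (x n⁻¹ x⁻¹) = n' * (x n'⁻¹ x⁻¹)
        have hnM := hN₀M n.2
        have hn'M := hN₀M n'.2
        set d : G := (n' : G)⁻¹ * n with hd
        have hdN : d ∈ N₀ := N₀.mul_mem (N₀.inv_mem n'.2) n.2
        have hdM : d ∈ M := hN₀M hdN
        have hdx : x * d * x⁻¹ = d := by
          have e1 : (n : G) * (x * (n : G)⁻¹ * x⁻¹) = (n' : G) * (x * (n' : G)⁻¹ * x⁻¹) := by
            have : (n : G) * x * (n : G)⁻¹ * x⁻¹ = (n' : G) * x * (n' : G)⁻¹ * x⁻¹ := h1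
            simpa [mul_assoc] using this
          -- x d x⁻¹ = (x n'⁻¹ x⁻¹) (x n x⁻¹)
          have e2 : x * d * x⁻¹ = (x * (n' : G)⁻¹ * x⁻¹) * (x * (n : G)⁻¹ * x⁻¹)⁻¹ := by
            rw [hd]; group
          have e3 : (x * (n' : G)⁻¹ * x⁻¹) = (n' : G)⁻¹ * ((n : G) * (x * (n : G)⁻¹ * x⁻¹)) := by
            rw [e1]; group
          rw [e2, e3]
          have hc := hcomm _ hnM _ (hxmem _ (M.inv_mem hnM))
          calc (n' : G)⁻¹ * ((n : G) * (x * (n : G)⁻¹ * x⁻¹)) * (x * (n : G)⁻¹ * x⁻¹)⁻¹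
              = (n' : G)⁻¹ * (n : G) := by group
            _ = d := hd.symm
        have hdI : d ∈ N₀ ⊓ PL.cj x N₀ := by
          refine ⟨hdN, ?_⟩
          rw [← hdx]
          exact PL.conj_mem_cj hdN
        rw [hI, Subgroup.mem_bot] at hdI
        apply Subtype.ext
        have : (n : G) = n' := by
          have := hdI
          rw [hd] at this
          calc (n : G) = n' * ((n' : G)⁻¹ * n) := by group
            _ = n' := by rw [this, mul_one]
        exact this
      have hcard : Nat.card N₀ ≤ 4 :=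
        (Nat.card_le_card_of_injective f hf).trans c.hV
      have hcent : R ≤ Subgroup.centralizer (N₀ : Set G) :=
        centralizes_of_card_le_four' c.hr c.hr5 c.hR hRN₀ hcard
      have hN₀T : N₀ ≤ M ⊓ Subgroup.centralizer (R : Set G) :=
        le_inf hN₀M (Subgroup.le_centralizer_iff.mp hcent)
      rw [hT] at hN₀T
      exact hN₀1 (le_bot_iff.mp hN₀T)
  intro N hN hRN
  by_cases hN1 : N = ⊥
  · exact Or.inl hN1
  · right
    have hle := hmin N ⟨hN, hRN, hN1⟩
    rw [hkey] at hle
    exact Subgroup.eq_of_le_of_card_ge hN hle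

end Cfsg.Agent.Lib.Helper3.RK3
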