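import Mathlib
import Cfsg.Agent.Lib.Helper9.RK3HDefs
import Cfsg.Agent.Lib.Helper3.RK3HU2
import Cfsg.Agent.Lib.Helper7.RK3HU345

/-! Farm RK3 (S4404), LEMMA HHc, unit `U6` (pre-assembly): `coreX` from `U1` (as a hypothesis, in
the shape of the blueprint), `U2` and helper7's `core_of_irr`, by strong induction on `|M|`. -/

set_option autoImplicit false
set_option linter.unusedVariables false
set_option linter.unusedSectionVars false
set_option linter.style.longLine false

open scoped commutatorElement

namespace Cfsg.Agent.Lib.Helper3.RK3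

open Cfsg.Agent.Lib.Helper9.RK3

universe u

variable {G : Type u} [Group G]

/-- `coreX` with `U1` as an explicit hypothesis (blueprint shape of `U1`, for the fixed `R x r`). -/
theorem coreX_of_U1 [Finite G] {R : Subgroup G} {x : G} {r : ℕ}
    (hU1 : ∀ {M : Subgroup G}, Cfg M R x r → ⁅R, Subgroup.zpowers x⁆ = R → r < Nat.card R →
      (∀ M' : Subgroup G, Nat.card M' < Nat.card M → Cfg M' R x r → Nat.card R ≤ r) →
      ∀ M' : Subgroup G, M' ≤ M → R ≤ Subgroup.normalizer (M' : Set G) →
        x ∈ Subgroup.normalizer (M' : Set G) → M' = ⊥ ∨ M' = M)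
    {M : Subgroup G} (c : Cfg M R x r) (hRx : ⁅R, Subgroup.zpowers x⁆ = R) :
    Nat.card R ≤ r := by
  induction hn : Nat.card M using Nat.strong_induction_on generalizing M with
  | _ n ih =>
    by_contra hlt0
    have hlt : r < Nat.card R := Nat.lt_of_not_le hlt0
    have IH : ∀ M' : Subgroup G, Nat.card M' < Nat.card M → Cfg M' R x r → Nat.card R ≤ r := by
      intro M' hM' c'
      exact ih (Nat.card M') (hn ▸ hM') c' rfl
    have hirr := hU1 c hRx hlt IH
    have hR1 : R ≠ ⊥ := by
      rintro rfl
      have : Nat.card (⊥ : Subgroup G) = 1 := Subgroup.card_bot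
      have h5 := c.hr5
      omega
    have hRirr := U2 c hR1 hirr
    have := Cfsg.Agent.Lib.Helper7.RK3.core_of_irr c hRx hRirr
    omega

end Cfsg.Agent.Lib.Helper3.RK3
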