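import Mathlib
import Cfsg.Agent.Lib.Helper9.RK3HBasic
import Cfsg.Agent.Lib.Helper1.MaschkeSubgroup
import Cfsg.Agent.Lib.Helper1.GlaubermanRepl3
import Cfsg.Agent.Lib.Helper7.MaxInv

/-! Farm RK3 (S4404), LEMMA HHc, unit `U1` (hedge copy by helper3): a minimal counterexample
`M` is `⟨R, x⟩`-irreducible. -/

set_option autoImplicit false
set_option linter.unusedVariables false
set_option linter.unusedSectionVars false
set_option linter.style.longLine false
set_option linter.style.haveILetI false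

open scoped commutatorElement

namespace Cfsg.Agent.Lib.Helper3.RK3

open Cfsg.Agent.Lib.Helper9.RK3
open Cfsg.Agent.Lib.Helper1

universe u

variable {G : Type u} [Group G]

/-- plain complements in an elementary abelian `2`-subgroup -/
theorem exists_plain_complement [Finite G] {M M' : Subgroup G}
    (hM : Cfsg.IsElementaryAbelian 2 M) (hM' : M' ≤ M) :
    ∃ W : Subgroup G, W ≤ M ∧ M' ⊓ W = ⊥ ∧ M' ⊔ W = M := by
  letI : CommGroup M :=
    { (inferInstance : Group M) with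
      mul_comm := fun a b => hM.1.is_comm.comm a b }
  haveI : Fact (Nat.Prime 2) := ⟨Nat.prime_two⟩
  obtain ⟨W₀, h1, h2⟩ := Cfsg.Agent.Lib.Helper7.MaxInv.exists_compl_of_exp (V := M) 2
    (fun v => Subtype.ext (by simpa using hM.2 v v.2)) (M'.subgroupOf M)
  refine ⟨W₀.map M.subtype, Subgroup.map_subtype_le _, ?_, ?_⟩
  · rw [eq_bot_iff]
    rintro g ⟨hg1, ⟨w, hw, rfl⟩⟩
    have hw' : w ∈ M'.subgroupOf M ⊓ W₀ := ⟨Subgroup.mem_subgroupOf.mpr hg1, hw⟩
    rw [h1, Subgroup.mem_bot] at hw'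
    rw [hw']
    exact Subgroup.one_mem _
  · apply le_antisymm (sup_le hM' (Subgroup.map_subtype_le _))
    intro m hm
    have hmem : (⟨m, hm⟩ : M) ∈ M'.subgroupOf M ⊔ W₀ := by rw [h2]; exact Subgroup.mem_top _
    have h3 : m ∈ (M'.subgroupOf M ⊔ W₀).map M.subtype := ⟨⟨m, hm⟩, hmem, rfl⟩
    rw [Subgroup.map_sup] at h3
    have hle : (M'.subgroupOf M).map M.subtype ⊔ W₀.map M.subtype ≤ M' ⊔ W₀.map M.subtype := by
      apply sup_le_sup_right
      rintro _ ⟨y, hy, rfl⟩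
      exact Subgroup.mem_subgroupOf.mp hy
    exact hle h3

/-- `|R ⊔ ⟨x⟩|` is prime to `|M|` -/
theorem coprime_sup_card [Finite G] {M R : Subgroup G} {x : G} {r : ℕ} (c : Cfg M R x r) :
    (Nat.card (R ⊔ Subgroup.zpowers x : Subgroup G)).Coprime (Nat.card M) := by
  haveI : Fact (Nat.Prime 2) := ⟨Nat.prime_two⟩
  haveI : Fact r.Prime := ⟨c.hr⟩
  have hxR : Subgroup.zpowers x ≤ Subgroup.normalizer (R : Set G) := by
    rw [Subgroup.zpowers_le]; exact c.hxR
  have h1 := GlaubermanRepl.card_sup_mul_card_inf_of_le_normalizer (Subgroup.zpowers x) R hxR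
  have hdvd : Nat.card (R ⊔ Subgroup.zpowers x : Subgroup G) ∣
      Nat.card (Subgroup.zpowers x) * Nat.card R := by
    rw [sup_comm, ← h1]; exact Dvd.intro _ rfl
  obtain ⟨k, hk⟩ := IsPGroup.iff_card.mp (isPGroup_of_isElementaryAbelian c.hM)
  obtain ⟨n, hn⟩ := IsPGroup.iff_card.mp c.hR
  rw [hk]
  apply Nat.Coprime.pow_right
  apply Nat.Coprime.coprime_dvd_left hdvd
  apply Nat.Coprime.mul_left
  · exact Nat.Coprime.coprime_dvd_left (card_zpowers_dvd_three c.hx3) (by decide)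
  · rw [hn]
    apply Nat.Coprime.pow_left
    rw [Nat.coprime_primes c.hr Nat.prime_two]
    have := c.hr5
    omega

/-- `[M', ⟨x⟩] ≤ M'` when `x` normalizes `M'`. -/
theorem comm_zpowers_le {M' : Subgroup G} {x : G}
    (hx : x ∈ Subgroup.normalizer (M' : Set G)) : ⁅M', Subgroup.zpowers x⁆ ≤ M' := by
  rw [Subgroup.commutator_le]
  intro m hm y hy
  have hyN : y ∈ Subgroup.normalizer (M' : Set G) := (Subgroup.zpowers_le.mpr hx) hy
  rw [commutatorElement_def]
  have h1 : y * m⁻¹ * y⁻¹ ∈ M' := (Subgroup.mem_normalizer_iff.mp hyN _).mp (M'.inv_mem hm)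
  have h2 : m * y * m⁻¹ * y⁻¹ = m * (y * m⁻¹ * y⁻¹) := by group
  rw [h2]
  exact M'.mul_mem hm h1

/-- the symmetric half of `U1` -/
theorem U1_key [Finite G] {M R : Subgroup G} {x : G} {r : ℕ} (c : Cfg M R x r)
    (hRx : ⁅R, Subgroup.zpowers x⁆ = R) (hlt : r < Nat.card R)
    (IH : ∀ M' : Subgroup G, Nat.card M' < Nat.card M → Cfg M' R x r → Nat.card R ≤ r)
    (M₁ M₂ : Subgroup G) (h1M : M₁ ≤ M) (h2M : M₂ ≤ M)
    (hR1 : R ≤ Subgroup.normalizer (M₁ : Set G)) (hx1 : x ∈ Subgroup.normalizer (M₁ : Set G))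
    (hR2 : R ≤ Subgroup.normalizer (M₂ : Set G))
    (hsup : M₁ ⊔ M₂ = M) (hne : M₁ ≠ M)
    (hcard : Nat.card (⁅M₂, Subgroup.zpowers x⁆ : Subgroup G) = 1) : False := by
  have hbot : (⁅M₂, Subgroup.zpowers x⁆ : Subgroup G) = ⊥ := Subgroup.card_eq_one.mp hcard
  have hcz : M₂ ≤ Subgroup.centralizer ((Subgroup.zpowers x : Subgroup G) : Set G) :=
    Subgroup.commutator_eq_bot_iff_le_centralizer.mp hbot
  have hxm : ∀ m ∈ M₂, x * m = m * x := by
    intro m hm
    have := Subgroup.mem_centralizer_iff.mp (hcz hm) x (Subgroup.mem_zpowers x)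
    exact this
  have hRC2 : R ≤ Subgroup.centralizer (M₂ : Set G) := ts hR2 hxm hRx
  have hfaith : R ⊓ Subgroup.centralizer (M₁ : Set G) = ⊥ := by
    rw [eq_bot_iff, ← c.faith]
    rintro g ⟨hgR, hg1⟩
    refine ⟨hgR, ?_⟩
    have hg2 : g ∈ Subgroup.centralizer (M₂ : Set G) := hRC2 hgR
    have hle : M₁ ⊔ M₂ ≤ Subgroup.centralizer ({g} : Set G) := by
      apply sup_le
      · intro m hm
        rw [Subgroup.mem_centralizer_iff]
        intro h hh
        rw [Set.mem_singleton_iff] at hh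
        subst hh
        exact (Subgroup.mem_centralizer_iff.mp hg1 m hm).symm
      · intro m hm
        rw [Subgroup.mem_centralizer_iff]
        intro h hh
        rw [Set.mem_singleton_iff] at hh
        subst hh
        exact (Subgroup.mem_centralizer_iff.mp hg2 m hm).symm
    rw [hsup] at hle
    show g ∈ Subgroup.centralizer (M : Set G)
    rw [Subgroup.mem_centralizer_iff]
    intro m hm
    have := Subgroup.mem_centralizer_iff.mp (hle hm) g (Set.mem_singleton g)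
    exact this.symm
  have c1 : Cfg M₁ R x r := c.sub h1M hR1 hx1 hfaith
  have hlt1 : Nat.card M₁ < Nat.card M := by
    by_contra hge
    exact hne (Subgroup.eq_of_le_of_card_ge h1M (not_lt.mp hge))
  have := IH M₁ hlt1 c1
  omega

/-- U1 (induction step): a minimal counterexample `M` is `⟨R, x⟩`-irreducible. -/
theorem U1 [Finite G] {M R : Subgroup G} {x : G} {r : ℕ} (c : Cfg M R x r)
    (hRx : ⁅R, Subgroup.zpowers x⁆ = R) (hlt : r < Nat.card R)
    (IH : ∀ M' : Subgroup G, Nat.card M' < Nat.card M → Cfg M' R x r → Nat.card R ≤ r) :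
    ∀ M' : Subgroup G, M' ≤ M → R ≤ Subgroup.normalizer (M' : Set G) →
      x ∈ Subgroup.normalizer (M' : Set G) → M' = ⊥ ∨ M' = M := by
  intro M' hM'M hRM' hxM'
  by_contra hcon
  rw [not_or] at hcon
  obtain ⟨hM'1, hM'2⟩ := hcon
  obtain ⟨W, hWM, hW1, hW2⟩ := exists_plain_complement c.hM hM'M
  have hA : R ⊔ Subgroup.zpowers x ≤ Subgroup.normalizer (M' : Set G) :=
    sup_le hRM' (Subgroup.zpowers_le.mpr hxM')
  obtain ⟨M'', hM''M, hAM'', hI, hS⟩ := coprime_invariant_complement M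
    (R ⊔ Subgroup.zpowers x) M' c.hM.1
    (sup_le c.hRM (Subgroup.zpowers_le.mpr c.hxM)) (coprime_sup_card c) hM'M hA W hWM hW1 hW2
  have hRM'' : R ≤ Subgroup.normalizer (M'' : Set G) := le_sup_left.trans hAM''
  have hxM'' : x ∈ Subgroup.normalizer (M'' : Set G) :=
    hAM'' (Subgroup.mem_sup_right (Subgroup.mem_zpowers x))
  -- the two commutators
  have hH1 : ⁅M', Subgroup.zpowers x⁆ ≤ M' := comm_zpowers_le hxM'
  have hH2 : ⁅M'', Subgroup.zpowers x⁆ ≤ M'' := comm_zpowers_le hxM''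
  have hH1M : ⁅M', Subgroup.zpowers x⁆ ≤ ⁅M, Subgroup.zpowers x⁆ :=
    Subgroup.commutator_mono hM'M le_rfl
  have hH2M : ⁅M'', Subgroup.zpowers x⁆ ≤ ⁅M, Subgroup.zpowers x⁆ :=
    Subgroup.commutator_mono hM''M le_rfl
  let f : (⁅M', Subgroup.zpowers x⁆ : Subgroup G) × (⁅M'', Subgroup.zpowers x⁆ : Subgroup G) →
      (⁅M, Subgroup.zpowers x⁆ : Subgroup G) := fun p =>
    ⟨(p.1 : G) * (p.2 : G), Subgroup.mul_mem _ (hH1M p.1.2) (hH2M p.2.2)⟩
  have hf : Function.Injective f := by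
    rintro ⟨a, b⟩ ⟨a', b'⟩ h
    have h0 : (a : G) * (b : G) = (a' : G) * (b' : G) := congrArg Subtype.val h
    have h1 : (a' : G)⁻¹ * (a : G) = (b' : G) * (b : G)⁻¹ := by
      calc (a' : G)⁻¹ * (a : G) = (a' : G)⁻¹ * ((a : G) * (b : G)) * (b : G)⁻¹ := by group
        _ = (a' : G)⁻¹ * ((a' : G) * (b' : G)) * (b : G)⁻¹ := by rw [h0]
        _ = (b' : G) * (b : G)⁻¹ := by group
    have h2 : (a' : G)⁻¹ * (a : G) ∈ M' ⊓ M'' := by
      refine ⟨M'.mul_mem (M'.inv_mem (hH1 a'.2)) (hH1 a.2), ?_⟩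
      rw [h1]
      exact M''.mul_mem (hH2 b'.2) (M''.inv_mem (hH2 b.2))
    rw [hI, Subgroup.mem_bot] at h2
    have ha : (a : G) = a' := by
      calc (a : G) = (a' : G) * ((a' : G)⁻¹ * (a : G)) := by group
        _ = a' := by rw [h2, mul_one]
    have hb : (b : G) = b' := by
      have h3 : (b' : G) * (b : G)⁻¹ = 1 := by rw [← h1, h2]
      calc (b : G) = ((b' : G) * (b : G)⁻¹)⁻¹ * (b' : G) := by group
        _ = b' := by rw [h3, inv_one, one_mul]
    exact Prod.ext (Subtype.ext ha) (Subtype.ext hb)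
  have hprod : Nat.card (⁅M', Subgroup.zpowers x⁆ : Subgroup G) *
      Nat.card (⁅M'', Subgroup.zpowers x⁆ : Subgroup G) ≤ 4 := by
    rw [← Nat.card_prod]
    exact (Nat.card_le_card_of_injective f hf).trans c.hV
  have hne1 : Nat.card (⁅M', Subgroup.zpowers x⁆ : Subgroup G) ≠ 2 :=
    card_comm_ne_two (isElementaryAbelian_of_le c.hM hM'M) hxM' c.hx3
  have hne2 : Nat.card (⁅M'', Subgroup.zpowers x⁆ : Subgroup G) ≠ 2 :=
    card_comm_ne_two (isElementaryAbelian_of_le c.hM hM''M) hxM'' c.hx3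
  have hpos1 : 0 < Nat.card (⁅M', Subgroup.zpowers x⁆ : Subgroup G) := Nat.card_pos
  have hpos2 : 0 < Nat.card (⁅M'', Subgroup.zpowers x⁆ : Subgroup G) := Nat.card_pos
  have hor : Nat.card (⁅M', Subgroup.zpowers x⁆ : Subgroup G) = 1 ∨
      Nat.card (⁅M'', Subgroup.zpowers x⁆ : Subgroup G) = 1 := by
    by_contra hno
    rw [not_or] at hno
    have h3a : 3 ≤ Nat.card (⁅M', Subgroup.zpowers x⁆ : Subgroup G) := by omega
    have h3b : 3 ≤ Nat.card (⁅M'', Subgroup.zpowers x⁆ : Subgroup G) := by omega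
    have := Nat.mul_le_mul h3a h3b
    omega
  rcases hor with h | h
  · -- `x` centralizes `M'`; `M''` is faithful
    have hne'' : M'' ≠ M := by
      intro he
      apply hM'1
      rw [eq_bot_iff, ← hI, he]
      exact le_inf le_rfl hM'M
    exact U1_key c hRx hlt IH M'' M' hM''M hM'M hRM'' hxM'' hRM' (by rw [sup_comm]; exact hS)
      hne'' h
  · exact U1_key c hRx hlt IH M' M'' hM'M hM''M hRM' hxM' hRM'' hS hM'2 h

end Cfsg.Agent.Lib.Helper3.RK3
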