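import Mathlib
import Cfsg.Agent.Lib.Helper9.RK3HDefs
import Cfsg.Agent.Lib.Helper3.RK3HCore
import Cfsg.Agent.Lib.Helper3.RK3HU1

/-! Farm RK3 (S4404), LEMMA HHc, unit `U6`: `coreX` (blueprint shape): in the faithful
configuration `Cfg M R x r` with `[R, ⟨x⟩] = R` one has `|R| ≤ r`. -/

set_option autoImplicit false

open scoped commutatorElement

namespace Cfsg.Agent.Lib.Helper3.RK3

open Cfsg.Agent.Lib.Helper9.RK3

universe u

variable {G : Type u} [Group G]

/-- U6: assembly of the core by strong induction on `|M|`. -/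
theorem coreX [Finite G] {M R : Subgroup G} {x : G} {r : ℕ} (c : Cfg M R x r)
    (hRx : ⁅R, Subgroup.zpowers x⁆ = R) : Nat.card R ≤ r :=
  coreX_of_U1 (fun c h1 h2 h3 => U1 c h1 h2 h3) c hRx

end Cfsg.Agent.Lib.Helper3.RK3
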