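import Mathlib
import Cfsg.Prelude.Def_Transfer
import Cfsg.Agent.Lib.Helper1.Special
import Cfsg.Agent.Lib.Helper1.SpecialCoprime2
import Cfsg.Agent.Lib.Helper7.ConjK

set_option autoImplicit false
set_option linter.style.haveILetI false

/-! Farm RK3 (S4404): LEMMA STAR.  A `p`-group (`p ≥ 5`) acting nontrivially on a `3`-group `T`
forces an elementary abelian subgroup of order `27` in `T`. -/

namespace Cfsg.Agent.Lib.Helper3.RK3

open Cfsg
open scoped commutatorElement

universe u

section abs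

variable {P : Type u} [Group P]

/-- If `a` (of order prime to 3) fixes `δ = g⁻¹ a(g)` in a 3-group then `a` fixes `g`. -/
theorem fixed_of_delta_fixed [Finite P] (hP : IsPGroup 3 P) (a : MulAut P)
    (ha : (orderOf a).Coprime 3) (g : P) (h : a (g⁻¹ * a g) = g⁻¹ * a g) : a g = g := by
  have hag : a g = g * (g⁻¹ * a g) := by group
  have hpow : ∀ n : ℕ, (a ^ n) g = g * (g⁻¹ * a g) ^ n := by
    intro n
    induction n with
    | zero => simp
    | succ n ih =>
      rw [pow_succ', MulAut.mul_apply, ih, map_mul, map_pow, h, pow_succ', ← mul_assoc, ← hag]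
  have h1 := hpow (orderOf a)
  rw [pow_orderOf_eq_one, MulAut.one_apply] at h1
  have h2 : (g⁻¹ * a g) ^ orderOf a = 1 := by
    have h3 : g * 1 = g * (g⁻¹ * a g) ^ orderOf a := by rw [mul_one]; exact h1
    exact (mul_left_cancel h3).symm
  obtain ⟨k, hk⟩ := hP (g⁻¹ * a g)
  have h4 : orderOf (g⁻¹ * a g) ∣ Nat.gcd (orderOf a) (3 ^ k) :=
    Nat.dvd_gcd (orderOf_dvd_of_pow_eq_one h2) (orderOf_dvd_of_pow_eq_one hk)
  have h5 : Nat.gcd (orderOf a) (3 ^ k) = 1 := Nat.Coprime.pow_right k ha
  rw [h5, Nat.dvd_one, orderOf_eq_one_iff] at h4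
  rw [hag, h4, mul_one]

/-- the generators of `[P, 𝔄]` -/
def deltaSet (𝔄 : Subgroup (MulAut P)) : Set P := {y | ∃ g : P, ∃ a ∈ 𝔄, y = g⁻¹ * a g}

theorem map_mem_closure_deltaSet (𝔄 : Subgroup (MulAut P)) (b : MulAut P) (hb : b ∈ 𝔄) (y : P)
    (hy : y ∈ Subgroup.closure (deltaSet 𝔄)) : b y ∈ Subgroup.closure (deltaSet 𝔄) := by
  induction hy using Subgroup.closure_induction with
  | mem y hy =>
    obtain ⟨g, a, ha, rfl⟩ := hy
    apply Subgroup.subset_closure
    refine ⟨b g, b * a * b⁻¹, 𝔄.mul_mem (𝔄.mul_mem hb ha) (𝔄.inv_mem hb), ?_⟩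
    simp [MulAut.mul_apply]
  | one => rw [map_one]; exact Subgroup.one_mem _
  | mul x y _ _ hx hy => rw [map_mul]; exact Subgroup.mul_mem _ hx hy
  | inv x _ hx => rw [map_inv]; exact Subgroup.inv_mem _ hx

/-- the subgroup of points fixed by all of `𝔄` -/
def fixSub (𝔄 : Subgroup (MulAut P)) : Subgroup P where
  carrier := {t | ∀ a ∈ 𝔄, a t = t}
  mul_mem' := by
    intro x y hx hy a ha
    rw [map_mul, hx a ha, hy a ha]
  one_mem' := by
    intro a _
    exact map_one a
  inv_mem' := by
    intro x hx a ha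
    rw [map_inv, hx a ha]

theorem mem_fixSub (𝔄 : Subgroup (MulAut P)) (t : P) : t ∈ fixSub 𝔄 ↔ ∀ a ∈ 𝔄, a t = t := Iff.rfl

theorem comm_sup {A C : Subgroup P} (hA : ∀ x ∈ A, ∀ y ∈ A, x * y = y * x)
    (hC : ∀ x ∈ C, ∀ y ∈ C, x * y = y * x) (hAC : ∀ x ∈ A, ∀ y ∈ C, x * y = y * x) :
    ∀ x ∈ A ⊔ C, ∀ y ∈ A ⊔ C, x * y = y * x := by
  have h1 : A ⊔ C ≤ Subgroup.centralizer (A : Set P) := by
    apply sup_le
    · intro x hx; rw [Subgroup.mem_centralizer_iff]; intro y hy; exact hA y hy x hx
    · intro x hx; rw [Subgroup.mem_centralizer_iff]; intro y hy; exact hAC y hy x hx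
  have h2 : A ⊔ C ≤ Subgroup.centralizer (C : Set P) := by
    apply sup_le
    · intro x hx; rw [Subgroup.mem_centralizer_iff]; intro y hy; exact (hAC x hx y hy).symm
    · intro x hx; rw [Subgroup.mem_centralizer_iff]; intro y hy; exact hC y hy x hx
  have h3 : A ⊔ C ≤ Subgroup.centralizer ((A ⊔ C : Subgroup P) : Set P) :=
    sup_le (Subgroup.le_centralizer_iff.mp h1) (Subgroup.le_centralizer_iff.mp h2)
  intro x hx y hy
  have := h3 hy
  rw [Subgroup.mem_centralizer_iff] at this
  exact this x hx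

/-- `p ≥ 5` prime does not divide `3^d - 1` for `d = 1, 2` -/
theorem count_arith (p : ℕ) (hp : p.Prime) (hp5 : 5 ≤ p) (n z : ℕ) (hzn : z < n)
    (hmod : 3 ^ n ≡ 3 ^ z [MOD p]) : z + 3 ≤ n := by
  by_contra hlt
  rw [not_le] at hlt
  have hle : 3 ^ z ≤ 3 ^ n := Nat.pow_le_pow_right (by norm_num) hzn.le
  have hdvd : p ∣ 3 ^ n - 3 ^ z := (Nat.modEq_iff_dvd' hle).mp hmod.symm
  obtain ⟨d, rfl⟩ : ∃ d, n = z + d := ⟨n - z, by omega⟩
  have h1 : 3 ^ (z + d) - 3 ^ z = 3 ^ z * (3 ^ d - 1) := by
    rw [pow_add, Nat.mul_sub, mul_one]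
  rw [h1] at hdvd
  have hcop : Nat.Coprime p (3 ^ z) :=
    Nat.Coprime.pow_right z ((Nat.coprime_primes hp Nat.prime_three).2 (by omega))
  have h2 : p ∣ 3 ^ d - 1 := hcop.dvd_of_dvd_mul_left hdvd
  have hd : d = 1 ∨ d = 2 := by omega
  rcases hd with rfl | rfl
  · have : p ≤ 2 := Nat.le_of_dvd (by norm_num) h2
    omega
  · have h8 : p ≤ 8 := Nat.le_of_dvd (by norm_num) h2
    interval_cases p <;> simp_all (config := {decide := true})

/-- counting: the fixed points of a `p`-group of automorphisms (`p ≥ 5`) of a 3-group, when not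
everything, have index at least 27 -/
theorem count_bound [Finite P] (hP : IsPGroup 3 P) (p : ℕ) (hp : p.Prime) (hp5 : 5 ≤ p)
    (𝔄 : Subgroup (MulAut P)) (h𝔄 : IsPGroup p 𝔄) (hne : fixSub 𝔄 ≠ ⊤) :
    27 * Nat.card (fixSub 𝔄) ≤ Nat.card P := by
  haveI : Fact p.Prime := ⟨hp⟩
  have hmod := h𝔄.card_modEq_card_fixedPoints P
  have hset : (MulAction.fixedPoints 𝔄 P) = ((fixSub 𝔄 : Subgroup P) : Set P) := by
    ext t
    rw [MulAction.mem_fixedPoints, SetLike.mem_coe, mem_fixSub]
    constructor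
    · intro h a ha
      exact h ⟨a, ha⟩
    · intro h a
      exact h a.1 a.2
  have hcard : Nat.card (MulAction.fixedPoints 𝔄 P) = Nat.card (fixSub 𝔄) := by
    rw [hset]; rfl
  rw [hcard] at hmod
  obtain ⟨n, hn⟩ := IsPGroup.iff_card.mp hP
  obtain ⟨z, hz⟩ := IsPGroup.iff_card.mp (hP.to_subgroup (fixSub 𝔄))
  rw [hn, hz] at hmod ⊢
  have hzn : z < n := by
    by_contra hge
    rw [not_lt] at hge
    apply hne
    apply Subgroup.eq_top_of_card_eq
    apply le_antisymm (Subgroup.card_le_card_group _)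
    rw [hn, hz]
    exact Nat.pow_le_pow_right (by norm_num) hge
  have := count_arith p hp hp5 n z hzn hmod
  calc 27 * 3 ^ z = 3 ^ (z + 3) := by rw [pow_add]; norm_num; ring
    _ ≤ 3 ^ n := Nat.pow_le_pow_right (by norm_num) this

/-- finishing lemma: a commutative subgroup of exponent 3 and order at least 27 contains an
elementary abelian subgroup of order exactly 27 -/
theorem exists_card_27 [Finite P] (hP : IsPGroup 3 P) (E : Subgroup P)
    (hEc : ∀ x ∈ E, ∀ y ∈ E, x * y = y * x) (hEe : ∀ e ∈ E, e ^ 3 = 1) (hE27 : 27 ≤ Nat.card E) :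
    ∃ F : Subgroup P, F ≤ E ∧ IsMulCommutative F ∧ (∀ f ∈ F, f ^ 3 = 1) ∧ Nat.card F = 27 := by
  haveI : Fact (Nat.Prime 3) := ⟨Nat.prime_three⟩
  have hE3 : IsPGroup 3 E := hP.to_subgroup E
  obtain ⟨k, hk⟩ := IsPGroup.iff_card.mp hE3
  have hk3 : 3 ≤ k := by
    by_contra hlt
    rw [not_le] at hlt
    have : (3 : ℕ) ^ k ≤ 3 ^ 2 := Nat.pow_le_pow_right (by norm_num) (by omega)
    omega
  have hdvd : 3 ^ 3 ∣ Nat.card E := by rw [hk]; exact pow_dvd_pow 3 hk3
  obtain ⟨K, hK⟩ := Sylow.exists_subgroup_card_pow_prime 3 hdvd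
  have hle : K.map E.subtype ≤ E := Subgroup.map_subtype_le K
  refine ⟨K.map E.subtype, hle, ⟨⟨fun x y => Subtype.ext ?_⟩⟩, ?_, ?_⟩
  · exact hEc _ (hle x.2) _ (hle y.2)
  · intro f hf
    exact hEe f (hle hf)
  · rw [← Nat.card_congr (K.equivMapOfInjective E.subtype E.subtype_injective).toEquiv, hK]
    norm_num

/-- LEMMA STAR, abstract form with the minimality hypothesis. -/
theorem star_abs [Finite P] (hP : IsPGroup 3 P) (p : ℕ) (hp : p.Prime) (hp5 : 5 ≤ p)
    (𝔄 : Subgroup (MulAut P)) (h𝔄 : IsPGroup p 𝔄)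
    (hmin : ∀ Y : Subgroup P, Y ≠ ⊤ → (∀ a ∈ 𝔄, ∀ y ∈ Y, a y ∈ Y) → ∀ a ∈ 𝔄, ∀ y ∈ Y, a y = y)
    (hnt : ∃ a ∈ 𝔄, ∃ t : P, a t ≠ t) :
    ∃ F : Subgroup P, IsMulCommutative F ∧ (∀ f ∈ F, f ^ 3 = 1) ∧ Nat.card F = 27 := by
  classical
  haveI : Fact (Nat.Prime 3) := ⟨Nat.prime_three⟩
  haveI : Fact p.Prime := ⟨hp⟩
  have hp3 : p ≠ 3 := by omega
  have hcop : ∀ a ∈ 𝔄, (orderOf a).Coprime 3 := by
    intro a ha
    obtain ⟨k, hk⟩ := h𝔄 ⟨a, ha⟩
    have h1 : a ^ p ^ k = 1 := by
      have := congrArg Subtype.val hk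
      simpa using this
    have h2 : orderOf a ∣ p ^ k := orderOf_dvd_of_pow_eq_one h1
    exact Nat.Coprime.coprime_dvd_left h2
      (Nat.Coprime.pow_left k ((Nat.coprime_primes hp Nat.prime_three).2 hp3))
  obtain ⟨a₀, ha₀, t₀, ht₀⟩ := hnt
  have hfixne : fixSub 𝔄 ≠ ⊤ := by
    intro h
    apply ht₀
    have : t₀ ∈ fixSub 𝔄 := by rw [h]; exact Subgroup.mem_top _
    exact this a₀ ha₀
  have hcount := count_bound hP p hp hp5 𝔄 h𝔄 hfixne
  -- `[P, 𝔄] = P`
  have hR : Subgroup.closure (deltaSet 𝔄) = ⊤ := by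
    by_contra hne
    have hfix := hmin _ hne (fun b hb y hy => map_mem_closure_deltaSet 𝔄 b hb y hy)
    apply ht₀
    apply fixed_of_delta_fixed hP a₀ (hcop a₀ ha₀) t₀
    exact hfix a₀ ha₀ _ (Subgroup.subset_closure ⟨t₀, a₀, ha₀, rfl⟩)
  have hfin : ∀ E : Subgroup P, (∀ x ∈ E, ∀ y ∈ E, x * y = y * x) → (∀ e ∈ E, e ^ 3 = 1) →
      27 ≤ Nat.card E →
      ∃ F : Subgroup P, IsMulCommutative F ∧ (∀ f ∈ F, f ^ 3 = 1) ∧ Nat.card F = 27 := by
    intro E h1 h2 h3
    obtain ⟨F, -, hF⟩ := exists_card_27 hP E h1 h2 h3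
    exact ⟨F, hF⟩
  by_cases hab : ∀ x y : P, x * y = y * x
  · -- abelian case
    by_cases hexp : ∀ t : P, t ^ 3 = 1
    · -- elementary abelian: `|P| ≥ 27`
      apply hfin ⊤ (fun x _ y _ => hab x y) (fun e _ => hexp e)
      rw [Subgroup.card_top]
      have h1 : 1 ≤ Nat.card (fixSub 𝔄) := Nat.card_pos
      omega
    · exfalso
      rw [not_forall] at hexp
      obtain ⟨t₁, ht₁⟩ := hexp
      let Y1 : Subgroup P :=
        { carrier := {t | t ^ 3 = 1}
          mul_mem' := by
            intro x y hx hy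
            show (x * y) ^ 3 = 1
            rw [Commute.mul_pow (hab x y), show x ^ 3 = 1 from hx, show y ^ 3 = 1 from hy, one_mul]
          one_mem' := one_pow 3
          inv_mem' := by
            intro x hx
            show x⁻¹ ^ 3 = 1
            rw [inv_pow, show x ^ 3 = 1 from hx, inv_one] }
      let Y2 : Subgroup P :=
        { carrier := {t | ∃ s : P, s ^ 3 = t}
          mul_mem' := by
            rintro x y ⟨s, rfl⟩ ⟨s', rfl⟩
            exact ⟨s * s', Commute.mul_pow (hab s s') 3⟩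
          one_mem' := ⟨1, one_pow 3⟩
          inv_mem' := by
            rintro x ⟨s, rfl⟩
            exact ⟨s⁻¹, inv_pow s 3⟩ }
      have hY1 : Y1 ≠ ⊤ := by
        intro h
        apply ht₁
        have : t₁ ∈ Y1 := by rw [h]; exact Subgroup.mem_top _
        exact this
      have hY2 : Y2 ≠ ⊤ := by
        intro h
        -- cubing is surjective, hence injective, but there is an element of order 3
        have hsurj : Function.Surjective (fun s : P => s ^ 3) := by
          intro t
          have : t ∈ Y2 := by rw [h]; exact Subgroup.mem_top _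
          exact this
        have hinj : Function.Injective (fun s : P => s ^ 3) :=
          Finite.injective_iff_surjective.mpr hsurj
        have h3 : 3 ∣ Nat.card P := by
          obtain ⟨n, hn⟩ := IsPGroup.iff_card.mp hP
          rw [hn]
          cases n with
          | zero =>
            exfalso
            rw [pow_zero] at hn
            have hsub : Subsingleton P := (Nat.card_eq_one_iff_unique.mp hn).1
            exact ht₁ (Subsingleton.elim _ _)
          | succ n => exact dvd_pow_self 3 (Nat.succ_ne_zero n)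
        obtain ⟨u, hu⟩ := exists_prime_orderOf_dvd_card' 3 h3
        have hu3 : u ^ 3 = 1 := by rw [← hu]; exact pow_orderOf_eq_one u
        have hu1 : u = 1 := hinj (by simp only [hu3, one_pow])
        rw [hu1, orderOf_one] at hu
        omega
      have hfix1 := hmin Y1 hY1 (by
        intro a _ y hy
        show (a y) ^ 3 = 1
        rw [← map_pow, show y ^ 3 = 1 from hy, map_one])
      have hfix2 := hmin Y2 hY2 (by
        rintro a _ y ⟨s, rfl⟩
        exact ⟨a s, (map_pow a s 3).symm⟩)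
      apply ht₀
      apply fixed_of_delta_fixed hP a₀ (hcop a₀ ha₀) t₀
      apply hfix1 a₀ ha₀
      show (t₀⁻¹ * a₀ t₀) ^ 3 = 1
      rw [Commute.mul_pow (hab _ _), inv_pow, ← map_pow, hfix2 a₀ ha₀ (t₀ ^ 3) ⟨t₀, rfl⟩,
        inv_mul_cancel]
  · -- nonabelian case: `P` is special
    have hA : Nat.Coprime (Nat.card 𝔄) 3 := by
      obtain ⟨k, hk⟩ := IsPGroup.iff_card.mp h𝔄
      rw [hk]
      exact Nat.Coprime.pow_left k ((Nat.coprime_primes hp Nat.prime_three).2 hp3)
    have hchar : ∀ H : Subgroup P, H.Characteristic → IsMulCommutative H →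
        ∀ a ∈ 𝔄, ∀ h ∈ H, a h = h := by
      intro H hH hHc
      apply hmin H
      · intro htop
        apply hab
        intro x y
        have hx : x ∈ H := by rw [htop]; exact Subgroup.mem_top _
        have hy : y ∈ H := by rw [htop]; exact Subgroup.mem_top _
        have := hHc.is_comm.comm ⟨x, hx⟩ ⟨y, hy⟩
        exact congrArg Subtype.val this
      · intro a _ y hy
        have h1 := hH.fixed a
        rw [← h1] at hy
        exact hy
    obtain ⟨hs, hZ⟩ := Cfsg.Agent.Lib.Helper1.SpecialCoprime.special_of_coprime hP 𝔄 hA hR hchar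
    have hcc := Cfsg.Agent.Lib.Helper1.special_commCentral hs
    -- exponent 3
    have hexp : ∀ g : P, g ^ 3 = 1 := by
      intro g
      apply hcc.omega_exponent Nat.prime_three (by norm_num) g
      have hle : Subgroup.closure (deltaSet 𝔄) ≤ Subgroup.closure {x : P | x ^ 3 = 1} := by
        apply Subgroup.closure_mono
        rintro y ⟨g, a, ha, rfl⟩
        show (g⁻¹ * a g) ^ 3 = 1
        have hg3 : g ^ 3 ∈ Subgroup.center P := by
          rw [← hs.2.1]
          exact Cfsg.Agent.Lib.Helper1.pow_prime_mem_frattini_of_isPGroup 3 hs.1 g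
        have hc : ⁅a g, g⁻¹⁆ ^ 3 = 1 := Cfsg.Agent.Lib.Helper1.special_comm_pow hs _ _
        rw [hcc.mul_pow_prime_eq Nat.prime_three (by norm_num) _ _ hc, inv_pow, ← map_pow,
          (hZ (g ^ 3)).mp hg3 a ha, inv_mul_cancel]
      rw [hR] at hle
      exact hle (Subgroup.mem_top g)
    have hfixZ : fixSub 𝔄 = Subgroup.center P := by
      ext g
      rw [mem_fixSub]
      exact (hZ g).symm
    rw [hfixZ] at hcount
    -- an element outside the centre
    have hcne : Subgroup.center P ≠ ⊤ := by rw [← hfixZ]; exact hfixne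
    obtain ⟨u, hu⟩ : ∃ u : P, u ∉ Subgroup.center P := by
      by_contra h
      rw [not_exists] at h
      apply hcne
      rw [eq_top_iff]
      intro x _
      by_contra hx
      exact h x hx
    haveI : Nontrivial P := ⟨⟨u, 1, fun h => hu (h ▸ Subgroup.one_mem _)⟩⟩
    have hZnt : 3 ≤ Nat.card (Subgroup.center P) := by
      haveI := hP.center_nontrivial
      obtain ⟨z, hz⟩ := IsPGroup.iff_card.mp (hP.to_subgroup (Subgroup.center P))
      rw [hz]
      cases z with
      | zero =>
        exfalso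
        rw [pow_zero] at hz
        have := Finite.one_lt_card (α := Subgroup.center P)
        omega
      | succ z => calc 3 = 3 ^ 1 := by norm_num
          _ ≤ 3 ^ (z + 1) := Nat.pow_le_pow_right (by norm_num) (by omega)
    have hcenter_comm : ∀ x ∈ Subgroup.center P, ∀ y : P, x * y = y * x := by
      intro x hx y
      exact (Subgroup.mem_center_iff.mp hx y).symm
    have hzp_comm : ∀ w : P, ∀ x ∈ Subgroup.zpowers w, ∀ y ∈ Subgroup.zpowers w, x * y = y * x := by
      intro w x hx y hy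
      obtain ⟨i, rfl⟩ := Subgroup.mem_zpowers_iff.mp hx
      obtain ⟨j, rfl⟩ := Subgroup.mem_zpowers_iff.mp hy
      exact (Commute.refl w).zpow_zpow i j
    -- strict growth in a 3-group
    have hgrow : ∀ A B : Subgroup P, A ≤ B → A ≠ B → 3 * Nat.card A ≤ Nat.card B := by
      intro A B hAB hne
      obtain ⟨i, hi⟩ := IsPGroup.iff_card.mp (hP.to_subgroup A)
      obtain ⟨j, hj⟩ := IsPGroup.iff_card.mp (hP.to_subgroup B)
      have hij : i < j := by
        by_contra hge
        rw [not_lt] at hge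
        apply hne
        apply Subgroup.eq_of_le_of_card_ge hAB
        rw [hi, hj]
        exact Nat.pow_le_pow_right (by norm_num) hge
      rw [hi, hj]
      calc 3 * 3 ^ i = 3 ^ (i + 1) := by rw [pow_succ]; ring
        _ ≤ 3 ^ j := Nat.pow_le_pow_right (by norm_num) hij
    set E₀ : Subgroup P := Subgroup.center P ⊔ Subgroup.zpowers u with hE₀
    have hE₀c : ∀ x ∈ E₀, ∀ y ∈ E₀, x * y = y * x :=
      comm_sup (fun x hx y _ => hcenter_comm x hx y) (hzp_comm u)
        (fun x hx y _ => hcenter_comm x hx y)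
    have hZE₀ : Subgroup.center P ≤ E₀ := le_sup_left
    have huE₀ : u ∈ E₀ := Subgroup.mem_sup_right (Subgroup.mem_zpowers u)
    have hZneE₀ : Subgroup.center P ≠ E₀ := by
      intro h
      apply hu
      rw [h]
      exact huE₀
    have hE₀9 : 9 ≤ Nat.card E₀ := by
      have := hgrow _ _ hZE₀ hZneE₀
      omega
    by_cases h27 : 27 ≤ Nat.card E₀
    · exact hfin E₀ hE₀c (fun e _ => hexp e) h27
    · rw [not_le] at h27
      -- the centralizer of `u` has order at least 27
      let φ : P →* Subgroup.center P :=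
        { toFun := fun t => ⟨⁅t, u⁆, by
            rw [← hs.2.2, commutator_def]
            exact Subgroup.commutator_mem_commutator (Subgroup.mem_top t) (Subgroup.mem_top u)⟩
          map_one' := by
            apply Subtype.ext
            simp [commutatorElement_def]
          map_mul' := fun x y => by
            apply Subtype.ext
            exact hcc.comm_mul_left x y u }
      have hker : φ.ker ≤ Subgroup.centralizer ({u} : Set P) := by
        intro t ht
        have h1 : ⁅t, u⁆ = 1 := congrArg Subtype.val (MonoidHom.mem_ker.mp ht)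
        rw [commutatorElement_eq_one_iff_mul_comm] at h1
        rw [Subgroup.mem_centralizer_iff]
        intro h hh
        rw [Set.mem_singleton_iff] at hh
        subst hh
        exact h1.symm
      have hcardker : Nat.card P ≤ Nat.card φ.ker * Nat.card (Subgroup.center P) := by
        rw [← Subgroup.card_mul_index φ.ker, Subgroup.index_ker]
        exact Nat.mul_le_mul_left _ (Subgroup.card_le_card_group _)
      have hCu : 27 ≤ Nat.card (Subgroup.centralizer ({u} : Set P)) := by
        have h1 : Nat.card φ.ker ≤ Nat.card (Subgroup.centralizer ({u} : Set P)) :=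
          Subgroup.card_le_of_le hker
        have h2 : 27 * Nat.card (Subgroup.center P) ≤
            Nat.card (Subgroup.centralizer ({u} : Set P)) * Nat.card (Subgroup.center P) :=
          le_trans hcount (le_trans hcardker (Nat.mul_le_mul_right _ h1))
        exact Nat.le_of_mul_le_mul_right h2 (by omega)
      obtain ⟨v, hvC, hvE⟩ : ∃ v ∈ Subgroup.centralizer ({u} : Set P), v ∉ E₀ := by
        by_contra h
        have hle : Subgroup.centralizer ({u} : Set P) ≤ E₀ := by
          intro w hw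
          by_contra hw'
          exact h ⟨w, hw, hw'⟩
        have := Subgroup.card_le_of_le hle
        omega
      have hvu : v * u = u * v := by
        rw [Subgroup.mem_centralizer_iff] at hvC
        exact (hvC u rfl).symm
      have hE₀v : ∀ x ∈ E₀, x * v = v * x := by
        have hle : E₀ ≤ Subgroup.centralizer ({v} : Set P) := by
          apply sup_le
          · intro x hx
            rw [Subgroup.mem_centralizer_iff]
            intro h hh
            rw [Set.mem_singleton_iff] at hh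
            subst hh
            exact (hcenter_comm x hx h).symm
          · rw [Subgroup.zpowers_le, Subgroup.mem_centralizer_iff]
            intro h hh
            rw [Set.mem_singleton_iff] at hh
            subst hh
            exact hvu
        intro x hx
        have := hle hx
        rw [Subgroup.mem_centralizer_iff] at this
        exact (this v rfl).symm
      set E : Subgroup P := E₀ ⊔ Subgroup.zpowers v with hE
      have hEc : ∀ x ∈ E, ∀ y ∈ E, x * y = y * x := by
        apply comm_sup hE₀c (hzp_comm v)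
        intro x hx y hy
        obtain ⟨j, rfl⟩ := Subgroup.mem_zpowers_iff.mp hy
        exact (Commute.zpow_right (hE₀v x hx) j)
      have hE₀E : E₀ ≤ E := le_sup_left
      have hne : E₀ ≠ E := by
        intro h
        apply hvE
        rw [h]
        exact Subgroup.mem_sup_right (Subgroup.mem_zpowers v)
      have hE27 : 27 ≤ Nat.card E := by
        have := hgrow _ _ hE₀E hne
        omega
      exact hfin E hEc (fun e _ => hexp e) hE27

end abs

section ambient

variable {S : Type u} [Group S]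

theorem le_normalizer_of_conj_mem' {A H : Subgroup S}
    (h : ∀ g ∈ A, ∀ x ∈ H, g * x * g⁻¹ ∈ H) : A ≤ Subgroup.normalizer (H : Set S) := by
  intro g hg
  rw [Subgroup.mem_normalizer_iff]
  intro x
  constructor
  · exact h g hg x
  · intro hx
    have := h g⁻¹ (A.inv_mem hg) _ hx
    have e : g⁻¹ * (g * x * g⁻¹) * g⁻¹⁻¹ = x := by group
    rwa [e] at this

/-- a minimal `A`-invariant subgroup not centralized by `A` -/
theorem exists_minimal [Finite S] (A : Subgroup S) : ∀ (n : ℕ) (T : Subgroup S), Nat.card T = n →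
    A ≤ Subgroup.normalizer (T : Set S) → ¬ A ≤ Subgroup.centralizer (T : Set S) →
    ∃ T' : Subgroup S, T' ≤ T ∧ A ≤ Subgroup.normalizer (T' : Set S) ∧
      ¬ A ≤ Subgroup.centralizer (T' : Set S) ∧
      ∀ T'' : Subgroup S, T'' ≤ T' → T'' ≠ T' → A ≤ Subgroup.normalizer (T'' : Set S) →
        A ≤ Subgroup.centralizer (T'' : Set S) := by
  intro n
  induction n using Nat.strong_induction_on with
  | _ n ih =>
    intro T hn hN hC
    by_cases h : ∀ T'' : Subgroup S, T'' ≤ T → T'' ≠ T → A ≤ Subgroup.normalizer (T'' : Set S) →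
        A ≤ Subgroup.centralizer (T'' : Set S)
    · exact ⟨T, le_rfl, hN, hC, h⟩
    · simp only [not_forall] at h
      obtain ⟨T'', hle, hne, hN'', hC''⟩ := h
      have hlt : Nat.card T'' < n := by
        rw [← hn]
        apply lt_of_le_of_ne (Subgroup.card_le_of_le hle)
        intro heq
        exact hne (Subgroup.eq_of_le_of_card_ge hle heq.ge)
      obtain ⟨T', h1, h2, h3, h4⟩ := ih _ hlt T'' rfl hN'' hC''
      exact ⟨T', h1.trans hle, h2, h3, h4⟩

/-- **LEMMA STAR.**  A `p`-group (`p ≥ 5`) normalizing but not centralizing a 3-group `T` forces an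
elementary abelian subgroup of order 27 in `T`. -/
theorem star [Finite S] (p : ℕ) (hp : p.Prime) (hp5 : 5 ≤ p) (A T : Subgroup S)
    (hA : IsPGroup p A) (hT : IsPGroup 3 T) (hAT : A ≤ Subgroup.normalizer (T : Set S))
    (hne : ¬ A ≤ Subgroup.centralizer (T : Set S)) :
    ∃ F : Subgroup S, F ≤ T ∧ Cfsg.IsElementaryAbelian 3 F ∧ Nat.card F = 27 := by
  obtain ⟨T', hT'T, hN, hC, hmin⟩ := exists_minimal A (Nat.card T) T rfl hAT hne
  have hT'3 : IsPGroup 3 T' := hT.to_le hT'T
  let φ : ↥A →* MulAut ↥T' := (Cfsg.Agent.Lib.Helper7.conjKHom T').comp (Subgroup.inclusion hN)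
  have hφ : ∀ (a : ↥A) (t : ↥T'), ((φ a t : ↥T') : S) = (a : S) * t * (a : S)⁻¹ := fun _ _ => rfl
  have h𝔄 : IsPGroup p φ.range := hA.of_surjective φ.rangeRestrict φ.rangeRestrict_surjective
  have hmin' : ∀ Y : Subgroup ↥T', Y ≠ ⊤ → (∀ a ∈ φ.range, ∀ y ∈ Y, a y ∈ Y) →
      ∀ a ∈ φ.range, ∀ y ∈ Y, a y = y := by
    intro Y hY hinv
    have hle : Y.map T'.subtype ≤ T' := Subgroup.map_subtype_le Y
    have hne' : Y.map T'.subtype ≠ T' := by
      intro h
      apply hY
      rw [eq_top_iff]
      intro t _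
      have : (t : S) ∈ Y.map T'.subtype := by rw [h]; exact t.2
      obtain ⟨y, hy, hyt⟩ := this
      have : y = t := Subtype.ext hyt
      rwa [← this]
    have hnorm : A ≤ Subgroup.normalizer ((Y.map T'.subtype : Subgroup S) : Set S) := by
      apply le_normalizer_of_conj_mem'
      rintro g hg x ⟨y, hy, rfl⟩
      exact ⟨φ ⟨g, hg⟩ y, hinv _ ⟨⟨g, hg⟩, rfl⟩ y hy, rfl⟩
    have hcent := hmin _ hle hne' hnorm
    rintro a ⟨g, rfl⟩ y hy
    apply Subtype.ext
    rw [hφ]
    have h1 := hcent g.2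
    rw [Subgroup.mem_centralizer_iff] at h1
    have h2 := h1 (y : S) ⟨y, hy, rfl⟩
    rw [← h2, mul_inv_cancel_right]
  have hnt : ∃ a ∈ φ.range, ∃ t : ↥T', a t ≠ t := by
    by_contra h
    apply hC
    intro g hg
    rw [Subgroup.mem_centralizer_iff]
    intro t ht
    by_contra hne2
    apply h
    refine ⟨φ ⟨g, hg⟩, ⟨⟨g, hg⟩, rfl⟩, ⟨t, ht⟩, ?_⟩
    intro heq
    have h1 := congrArg Subtype.val heq
    rw [hφ] at h1
    apply hne2
    have h2 : g * t * g⁻¹ = t := h1
    calc t * g = (g * t * g⁻¹) * g := by rw [h2]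
      _ = g * t := by group
  obtain ⟨F, hFc, hFe, hF27⟩ := star_abs hT'3 p hp hp5 φ.range h𝔄 hmin' hnt
  refine ⟨F.map T'.subtype, (Subgroup.map_subtype_le F).trans hT'T, ⟨⟨⟨?_⟩⟩, ?_⟩, ?_⟩
  · rintro ⟨x, x', hx', rfl⟩ ⟨y, y', hy', rfl⟩
    apply Subtype.ext
    have := hFc.is_comm.comm ⟨x', hx'⟩ ⟨y', hy'⟩
    have h2 := congrArg (fun w : ↥F => ((w : ↥T') : S)) this
    exact h2
  · rintro f ⟨f', hf', rfl⟩
    have := hFe f' hf'
    have h2 := congrArg (fun w : ↥T' => (w : S)) this
    simpa using h2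
  · rw [← Nat.card_congr (F.equivMapOfInjective T'.subtype T'.subtype_injective).toEquiv, hF27]

end ambient

end Cfsg.Agent.Lib.Helper3.RK3
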