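import Mathlib
import Cfsg.Prelude.Def_Transfer
import Cfsg.Prelude.Def_Solvable
import Cfsg.Agent.Lib.Helper3.RK3Star
import Cfsg.Agent.Lib.Helper1.PCore
import Cfsg.Agent.Lib.Helper1.FittingCentralizer
import Cfsg.Agent.Lib.Helper2.HHDual

set_option autoImplicit false
set_option linter.style.haveILetI false

/-! Farm RK3 (S4404): LEMMA NSYL.  A solvable `{3,p}`-group (`p ≥ 5`) without elementary abelian
subgroups of order 27 has a normal Sylow `p`-subgroup. -/

namespace Cfsg.Agent.Lib.Helper3.RK3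

open Cfsg

universe u

variable {H : Type u} [Group H]

/-- an element of both a 3-group and a `p`-group (`p ≠ 3`) is trivial -/
theorem eq_one_of_mem_of_mem {p : ℕ} (hp : p.Prime) (hp3 : p ≠ 3) {A B : Subgroup H}
    (hA : IsPGroup 3 A) (hB : IsPGroup p B) {z : H} (hzA : z ∈ A) (hzB : z ∈ B) : z = 1 := by
  obtain ⟨a, ha⟩ := hA ⟨z, hzA⟩
  obtain ⟨b, hb⟩ := hB ⟨z, hzB⟩
  have ha' : z ^ 3 ^ a = 1 := by simpa using congrArg Subtype.val ha
  have hb' : z ^ p ^ b = 1 := by simpa using congrArg Subtype.val hb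
  have h1 : orderOf z ∣ Nat.gcd (3 ^ a) (p ^ b) :=
    Nat.dvd_gcd (orderOf_dvd_of_pow_eq_one ha') (orderOf_dvd_of_pow_eq_one hb')
  have h2 : Nat.gcd (3 ^ a) (p ^ b) = 1 :=
    Nat.Coprime.pow a b ((Nat.coprime_primes Nat.prime_three hp).2 (Ne.symm hp3))
  rw [h2, Nat.dvd_one, orderOf_eq_one_iff] at h1
  exact h1

/-- pull back an elementary abelian subgroup of order 27 along the quotient by a normal `p`-subgroup -/
theorem exists_27_of_quotient [Finite H] {p : ℕ} (hp : p.Prime) (hp3 : p ≠ 3) (R : Subgroup H)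
    [R.Normal] (hR : IsPGroup p R) (Ft : Subgroup (H ⧸ R)) (hFt : Cfsg.IsElementaryAbelian 3 Ft)
    (hFt27 : Nat.card Ft = 27) :
    ∃ F : Subgroup H, Cfsg.IsElementaryAbelian 3 F ∧ Nat.card F = 27 := by
  haveI : Fact (Nat.Prime 3) := ⟨Nat.prime_three⟩
  haveI : Fact p.Prime := ⟨hp⟩
  set F₁ : Subgroup H := Ft.comap (QuotientGroup.mk' R) with hF₁
  -- `|F₁| = 27 |R|`
  have hcardF₁ : Nat.card F₁ = 27 * Nat.card R := by
    have h1 : F₁.index = Ft.index :=
      Subgroup.index_comap_of_surjective Ft (QuotientGroup.mk'_surjective R)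
    have h2 := Subgroup.card_mul_index F₁
    have h3 := Subgroup.card_mul_index Ft
    have h4 := Subgroup.card_eq_card_quotient_mul_card_subgroup R
    have hpos : 0 < Ft.index := Nat.pos_of_ne_zero Subgroup.index_ne_zero_of_finite
    rw [h1] at h2
    have h5 : Nat.card F₁ * Ft.index = (27 * Nat.card R) * Ft.index := by
      rw [h2, h4, ← h3, hFt27]; ring
    exact Nat.eq_of_mul_eq_mul_right hpos h5
  obtain ⟨k, hk⟩ := IsPGroup.iff_card.mp hR
  let F₂ : Sylow 3 F₁ := default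
  have hF₂card : Nat.card F₂ = 27 := by
    rw [Sylow.card_eq_multiplicity, hcardF₁, hk]
    have hfac : (27 * p ^ k).factorization 3 = 3 := by
      rw [Nat.factorization_mul (by norm_num) (pow_ne_zero _ hp.ne_zero),
        show (27 : ℕ) = 3 ^ 3 by norm_num, Nat.factorization_pow, Nat.factorization_pow,
        Nat.prime_three.factorization, hp.factorization]
      simp [hp3]
    rw [hfac]; norm_num
  set F : Subgroup H := (F₂ : Subgroup F₁).map F₁.subtype with hF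
  have hF3 : IsPGroup 3 F := F₂.isPGroup'.map F₁.subtype
  have hFF₁ : F ≤ F₁ := Subgroup.map_subtype_le _
  have hFR : ∀ z ∈ F, z ∈ R → z = 1 := fun z hz hzR => eq_one_of_mem_of_mem hp hp3 hF3 hR hz hzR
  have hmk : ∀ z ∈ F, (QuotientGroup.mk' R z) ∈ Ft := fun z hz => hFF₁ hz
  have hcomm : ∀ x ∈ F, ∀ y ∈ F, x * y = y * x := by
    intro x hx y hy
    have hc : x * y * x⁻¹ * y⁻¹ ∈ F := F.mul_mem (F.mul_mem (F.mul_mem hx hy) (F.inv_mem hx)) (F.inv_mem hy)
    have hcR : x * y * x⁻¹ * y⁻¹ ∈ R := by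
      rw [← QuotientGroup.eq_one_iff, QuotientGroup.mk_mul, QuotientGroup.mk_mul, QuotientGroup.mk_mul,
        QuotientGroup.mk_inv, QuotientGroup.mk_inv]
      have h1 := hFt.1.is_comm.comm ⟨_, hmk x hx⟩ ⟨_, hmk y hy⟩
      have h2 : (QuotientGroup.mk' R x) * (QuotientGroup.mk' R y) =
          (QuotientGroup.mk' R y) * (QuotientGroup.mk' R x) := congrArg Subtype.val h1
      have h3 : ((x : H) : H ⧸ R) * (y : H ⧸ R) = (y : H ⧸ R) * (x : H ⧸ R) := h2
      rw [h3]; group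
    have := hFR _ hc hcR
    calc x * y = (x * y * x⁻¹ * y⁻¹) * (y * x) := by group
      _ = y * x := by rw [this, one_mul]
  have hexp : ∀ x ∈ F, x ^ 3 = 1 := by
    intro x hx
    apply hFR _ (F.pow_mem hx 3)
    rw [← QuotientGroup.eq_one_iff, QuotientGroup.mk_pow]
    exact hFt.2 _ (hmk x hx)
  refine ⟨F, ⟨⟨⟨fun x y => Subtype.ext (hcomm _ x.2 _ y.2)⟩⟩, hexp⟩, ?_⟩
  rw [hF, ← Nat.card_congr ((F₂ : Subgroup F₁).equivMapOfInjective F₁.subtype
    F₁.subtype_injective).toEquiv]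
  exact hF₂card

/-- **LEMMA NSYL.**  A solvable `{3,p}`-group (`p ≥ 5`) without elementary abelian subgroups of
order 27 has a normal Sylow `p`-subgroup. -/
theorem nsyl [Finite H] [Group.IsSolvable H] (p : ℕ) (hp : p.Prime) (hp5 : 5 ≤ p)
    (hcard : ∀ q : ℕ, q.Prime → q ∣ Nat.card H → q = 3 ∨ q = p)
    (hno : ¬ ∃ F : Subgroup H, Cfsg.IsElementaryAbelian 3 F ∧ Nat.card F = 27) (P : Sylow p H) :
    (P : Subgroup H).Normal := by
  haveI : Fact (Nat.Prime 3) := ⟨Nat.prime_three⟩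
  haveI : Fact p.Prime := ⟨hp⟩
  have hp3 : p ≠ 3 := by omega
  haveI hRn : (Cfsg.pCore p H).Normal := Cfsg.Agent.Lib.Helper1.pCore_normal p
  have hR : IsPGroup p (Cfsg.pCore p H) := Cfsg.Agent.Lib.Helper1.pCore_isPGroup p
  -- the quotient `Q = H / O_p(H)`
  have hQp : Cfsg.pCore p (H ⧸ Cfsg.pCore p H) = ⊥ :=
    Cfsg.Agent.Lib.Helper2.pCore_quotient_pCore_eq_bot p
  have hQcard : ∀ q : ℕ, q.Prime → q ∣ Nat.card (H ⧸ Cfsg.pCore p H) → q = 3 ∨ q = p := by
    intro q hq hdvd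
    apply hcard q hq
    rw [Subgroup.card_eq_card_quotient_mul_card_subgroup (Cfsg.pCore p H)]
    exact Dvd.dvd.mul_right hdvd _
  have hQ3' : Cfsg.pPrimeCore 3 (H ⧸ Cfsg.pCore p H) = ⊥ := by
    rw [eq_bot_iff, ← hQp]
    apply sSup_le
    rintro N ⟨hNn, hNc⟩
    apply Cfsg.Agent.Lib.Helper1.le_pCore hNn
    have hdiv : ∀ {d : ℕ}, d.Prime → d ∣ Nat.card N → d = p := by
      intro d hd hdvd
      rcases hQcard d hd (hdvd.trans (Subgroup.card_subgroup_dvd_card N)) with h | h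
      · exfalso
        subst h
        exact (Nat.Prime.coprime_iff_not_dvd Nat.prime_three).mp hNc.symm hdvd
      · exact h
    have := Nat.eq_prime_pow_of_unique_prime_dvd (Nat.card_pos (α := N)).ne' hdiv
    exact IsPGroup.of_card this
  have hcent := Cfsg.Agent.Lib.Helper1.centralizer_pCore_le (G := H ⧸ Cfsg.pCore p H) 3 hQ3'
  haveI hTn : (Cfsg.pCore 3 (H ⧸ Cfsg.pCore p H)).Normal := Cfsg.Agent.Lib.Helper1.pCore_normal 3
  have hT3 : IsPGroup 3 (Cfsg.pCore 3 (H ⧸ Cfsg.pCore p H)) :=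
    Cfsg.Agent.Lib.Helper1.pCore_isPGroup 3
  -- the image of `P`
  set At : Subgroup (H ⧸ Cfsg.pCore p H) :=
    (P : Subgroup H).map (QuotientGroup.mk' (Cfsg.pCore p H)) with hAt
  have hAtp : IsPGroup p At := P.isPGroup'.map _
  have hAtN : At ≤ Subgroup.normalizer ((Cfsg.pCore 3 (H ⧸ Cfsg.pCore p H) : Subgroup _) : Set _) := by
    rw [Subgroup.normalizer_eq_top]
    exact le_top
  have hAtC : At ≤ Subgroup.centralizer ((Cfsg.pCore 3 (H ⧸ Cfsg.pCore p H) : Subgroup _) : Set _) := by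
    by_contra hne
    obtain ⟨Ft, -, hFt, hFt27⟩ := star p hp hp5 At _ hAtp hT3 hAtN hne
    exact hno (exists_27_of_quotient hp hp3 (Cfsg.pCore p H) hR Ft hFt hFt27)
  have hAtbot : At = ⊥ := by
    rw [eq_bot_iff]
    intro z hz
    rw [Subgroup.mem_bot]
    exact eq_one_of_mem_of_mem hp hp3 hT3 hAtp (hcent (hAtC hz)) hz
  have hPR : (P : Subgroup H) ≤ Cfsg.pCore p H := by
    intro x hx
    have h1 : QuotientGroup.mk' (Cfsg.pCore p H) x ∈ At := Subgroup.mem_map_of_mem _ hx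
    rw [hAtbot, Subgroup.mem_bot] at h1
    exact (QuotientGroup.eq_one_iff x).mp h1
  have hEq : (P : Subgroup H) = Cfsg.pCore p H :=
    le_antisymm hPR (Cfsg.Agent.Lib.Helper1.pCore_le_sylow p P)
  rw [hEq]
  exact hRn

end Cfsg.Agent.Lib.Helper3.RK3
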