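import Mathlib
import Cfsg.Agent.Lib.Helper3.S4Cox

set_option autoImplicit false
set_option linter.unusedSectionVars false
set_option linter.style.haveILetI false

/-! Step 5: a group with a self-centralizing (modulo the centre) normal four-group and an outer
`2`-element splits as `S₄ × Z(G)`. -/

namespace Cfsg.Agent.Lib.Helper3.RU

section four
variable {G : Type*} [Group G] (P : Subgroup G)

/-- enumeration of a group of order four with trivial squares -/
theorem enum_four (hcard : Nat.card P = 4) {y₁ y₂ : G} (h₁ : y₁ ∈ P) (h₂ : y₂ ∈ P)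
    (hy₁ : y₁ ≠ 1) (hy₂ : y₂ ≠ 1) (hne : y₁ ≠ y₂) (hsq : ∀ x ∈ P, x * x = 1) :
    ∀ x ∈ P, x = 1 ∨ x = y₁ ∨ x = y₂ ∨ x = y₁ * y₂ := by
  classical
  haveI : Finite P := Nat.finite_of_card_ne_zero (by rw [hcard]; norm_num)
  haveI : Fintype P := Fintype.ofFinite P
  have h12 : y₁ * y₂ ∈ P := P.mul_mem h₁ h₂
  set F : Finset P := {1, ⟨y₁, h₁⟩, ⟨y₂, h₂⟩, ⟨y₁ * y₂, h12⟩} with hF
  have e1 : (1 : P) ≠ ⟨y₁, h₁⟩ := fun e => hy₁ (congrArg Subtype.val e).symm
  have e2 : (1 : P) ≠ ⟨y₂, h₂⟩ := fun e => hy₂ (congrArg Subtype.val e).symm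
  have e3 : (1 : P) ≠ ⟨y₁ * y₂, h12⟩ := by
    intro e
    have e' : y₁ * y₂ = 1 := (congrArg Subtype.val e).symm
    apply hne
    calc y₁ = y₁ * (y₂ * y₂) := by rw [hsq y₂ h₂, mul_one]
      _ = (y₁ * y₂) * y₂ := by group
      _ = y₂ := by rw [e', one_mul]
  have e4 : (⟨y₁, h₁⟩ : P) ≠ ⟨y₂, h₂⟩ := fun e => hne (congrArg Subtype.val e)
  have e5 : (⟨y₁, h₁⟩ : P) ≠ ⟨y₁ * y₂, h12⟩ := by
    intro e
    have e' : y₁ = y₁ * y₂ := congrArg Subtype.val e
    apply hy₂
    have : y₁ * 1 = y₁ * y₂ := by rw [mul_one]; exact e'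
    exact (mul_left_cancel this).symm
  have e6 : (⟨y₂, h₂⟩ : P) ≠ ⟨y₁ * y₂, h12⟩ := by
    intro e
    have e' : y₂ = y₁ * y₂ := congrArg Subtype.val e
    apply hy₁
    have : 1 * y₂ = y₁ * y₂ := by rw [one_mul]; exact e'
    exact (mul_right_cancel this).symm
  have hFcard : F.card = 4 := by
    rw [hF, Finset.card_insert_of_notMem, Finset.card_insert_of_notMem,
      Finset.card_insert_of_notMem, Finset.card_singleton]
    · simp only [Finset.mem_singleton]; exact e6
    · simp only [Finset.mem_insert, Finset.mem_singleton, not_or]; exact ⟨e4, e5⟩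
    · simp only [Finset.mem_insert, Finset.mem_singleton, not_or]; exact ⟨e1, e2, e3⟩
  have hFuniv : F = Finset.univ := by
    apply Finset.eq_univ_of_card
    rw [hFcard, ← Nat.card_eq_fintype_card, hcard]
  intro x hx
  have hxF : (⟨x, hx⟩ : P) ∈ F := by rw [hFuniv]; exact Finset.mem_univ _
  rw [hF] at hxF
  simp only [Finset.mem_insert, Finset.mem_singleton] at hxF
  rcases hxF with h | h | h | h
  · left; exact congrArg Subtype.val h
  · right; left; exact congrArg Subtype.val h
  · right; right; left; exact congrArg Subtype.val h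
  · right; right; right; exact congrArg Subtype.val h

/-- commutativity from trivial squares -/
theorem comm_of_sq_one (hsq : ∀ x ∈ P, x * x = 1) : ∀ a ∈ P, ∀ b ∈ P, a * b = b * a := by
  intro a ha b hb
  have h1 := hsq (a * b) (P.mul_mem ha hb)
  have ha' := hsq a ha
  have hb' := hsq b hb
  calc a * b = a * ((a * b) * (a * b)) * b := by rw [h1, mul_one]
    _ = (a * a) * (b * a) * (b * b) := by group
    _ = b * a := by rw [ha', hb', one_mul, mul_one]

/-- an element fixing one nonidentity element and not centralizing `P` swaps the other two -/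
theorem swap_of_fix (hP : P.Normal) (hcard : Nat.card P = 4) (hsq : ∀ x ∈ P, x * x = 1)
    {u y y' : G} (hy : y ∈ P) (hy' : y' ∈ P) (hy1 : y ≠ 1) (hy'1 : y' ≠ 1) (hne : y ≠ y')
    (hfix : u * y * u⁻¹ = y) (hnc : ¬ ∀ x ∈ P, u * x * u⁻¹ = x) :
    u * y' * u⁻¹ = y * y' ∧ u * (y * y') * u⁻¹ = y' := by
  have henum := enum_four P hcard hy hy' hy1 hy'1 hne hsq
  have hv : u * y' * u⁻¹ ∈ P := hP.conj_mem y' hy' u
  have key : u * y' * u⁻¹ = y * y' := by
    rcases henum _ hv with h | h | h | h
    · exfalso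
      apply hy'1
      have : y' = u⁻¹ * (u * y' * u⁻¹) * u := by group
      rw [this, h]; group
    · exfalso
      apply hne
      have : u * y' * u⁻¹ = u * y * u⁻¹ := by rw [h, hfix]
      have h2 : y' = y := by
        have := mul_right_cancel this
        exact mul_left_cancel this
      exact h2.symm
    · exfalso
      apply hnc
      intro x hx
      rcases henum x hx with hx | hx | hx | hx
      · rw [hx]; group
      · rw [hx]; exact hfix
      · rw [hx]; exact h
      · rw [hx]
        calc u * (y * y') * u⁻¹ = (u * y * u⁻¹) * (u * y' * u⁻¹) := by group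
          _ = y * y' := by rw [hfix, h]
    · exact h
  refine ⟨key, ?_⟩
  calc u * (y * y') * u⁻¹ = (u * y * u⁻¹) * (u * y' * u⁻¹) := by group
    _ = y * (y * y') := by rw [hfix, key]
    _ = (y * y) * y' := by group
    _ = y' := by rw [hsq y hy, one_mul]

end four

end Cfsg.Agent.Lib.Helper3.RU
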