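import Mathlib
import Cfsg.Agent.Lib.Helper3.RU8

set_option autoImplicit false
set_option linter.unusedSectionVars false
set_option linter.style.haveILetI false

/-! Step 5 (continued): the cube relation and the construction of `S₄`. -/

namespace Cfsg.Agent.Lib.Helper3.RU

/-- a normal four-group, self-centralizing modulo a centre without involutions -/
structure FourSetup {G : Type*} [Group G] (P : Subgroup G) : Prop where
  normal : P.Normal
  card : Nat.card P = 4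
  sq : ∀ x ∈ P, x * x = 1
  cent : Subgroup.centralizer (P : Set G) = P ⊔ Subgroup.center G
  inf : P ⊓ Subgroup.center G = ⊥
  odd : ∀ z ∈ Subgroup.center G, z * z = 1 → z = 1

section cube
variable {G : Type*} [Group G] {P : Subgroup G}

theorem FourSetup.mem_centralizer_of_fix (h : FourSetup P) {y₁ y₂ : G} (h₁ : y₁ ∈ P)
    (h₂ : y₂ ∈ P) (hy₁ : y₁ ≠ 1) (hy₂ : y₂ ≠ 1) (hne : y₁ ≠ y₂) {w : G}
    (w1 : w * y₁ * w⁻¹ = y₁) (w2 : w * y₂ * w⁻¹ = y₂) :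
    w ∈ Subgroup.centralizer (P : Set G) := by
  have henum := enum_four P h.card h₁ h₂ hy₁ hy₂ hne h.sq
  rw [Subgroup.mem_centralizer_iff]
  intro x hx
  have hx' : w * x * w⁻¹ = x := by
    rcases henum x hx with e | e | e | e
    · rw [e]; group
    · rw [e]; exact w1
    · rw [e]; exact w2
    · rw [e]
      calc w * (y₁ * y₂) * w⁻¹ = (w * y₁ * w⁻¹) * (w * y₂ * w⁻¹) := by group
        _ = y₁ * y₂ := by rw [w1, w2]
  calc x * w = (w * x * w⁻¹) * w := by rw [hx']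
    _ = w * x := by group

theorem FourSetup.cube (h : FourSetup P) {u v y₁ y₂ : G} (h₁ : y₁ ∈ P) (h₂ : y₂ ∈ P)
    (hy₁ : y₁ ≠ 1) (hy₂ : y₂ ≠ 1) (hne : y₁ ≠ y₂) (hu : u * u = 1) (hv : v * v = 1)
    (hu1 : u * y₁ * u⁻¹ = y₁) (hu2 : u * y₂ * u⁻¹ = y₁ * y₂)
    (hu3 : u * (y₁ * y₂) * u⁻¹ = y₂)
    (hv2 : v * y₂ * v⁻¹ = y₂) (hv1 : v * y₁ * v⁻¹ = y₁ * y₂)
    (hv3 : v * (y₁ * y₂) * v⁻¹ = y₁) : (u * v) ^ 3 = 1 := by
  have henum := enum_four P h.card h₁ h₂ hy₁ hy₂ hne h.sq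
  have hui : u⁻¹ = u := inv_eq_of_mul_eq_one_left hu
  have hvi : v⁻¹ = v := inv_eq_of_mul_eq_one_left hv
  have c1 : (u * v) * y₁ * (u * v)⁻¹ = y₂ := by
    calc (u * v) * y₁ * (u * v)⁻¹ = u * (v * y₁ * v⁻¹) * u⁻¹ := by group
      _ = y₂ := by rw [hv1, hu3]
  have c2 : (u * v) * y₂ * (u * v)⁻¹ = y₁ * y₂ := by
    calc (u * v) * y₂ * (u * v)⁻¹ = u * (v * y₂ * v⁻¹) * u⁻¹ := by group
      _ = y₁ * y₂ := by rw [hv2, hu2]
  have c3 : (u * v) * (y₁ * y₂) * (u * v)⁻¹ = y₁ := by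
    calc (u * v) * (y₁ * y₂) * (u * v)⁻¹ = u * (v * (y₁ * y₂) * v⁻¹) * u⁻¹ := by group
      _ = y₁ := by rw [hv3, hu1]
  obtain ⟨w, hw⟩ : ∃ w, w = (u * v) ^ 3 := ⟨_, rfl⟩
  have w1 : w * y₁ * w⁻¹ = y₁ := by
    calc w * y₁ * w⁻¹
        = (u * v) * ((u * v) * ((u * v) * y₁ * (u * v)⁻¹) * (u * v)⁻¹) * (u * v)⁻¹ := by
          rw [hw, pow_three']; group
      _ = y₁ := by rw [c1, c2, c3]
  have w2 : w * y₂ * w⁻¹ = y₂ := by
    calc w * y₂ * w⁻¹
        = (u * v) * ((u * v) * ((u * v) * y₂ * (u * v)⁻¹) * (u * v)⁻¹) * (u * v)⁻¹ := by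
          rw [hw, pow_three']; group
      _ = y₂ := by rw [c2, c3, c1]
  have wcent := h.mem_centralizer_of_fix h₁ h₂ hy₁ hy₂ hne w1 w2
  rw [h.cent] at wcent
  have wcent' : w ∈ (↑(P ⊔ Subgroup.center G) : Set G) := wcent
  rw [Subgroup.mul_normal] at wcent'
  obtain ⟨x, hx, z, hz, hxz⟩ := Set.mem_mul.mp wcent'
  have hzc : ∀ g : G, g * z = z * g := fun g => Subgroup.mem_center_iff.mp hz g
  -- inversion by `u` and `v`
  have hwinv : w⁻¹ = (v * u) ^ 3 := by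
    rw [hw, ← inv_pow, mul_inv_rev, hui, hvi]
  have hinv_u : u * w * u⁻¹ = w⁻¹ := by
    rw [hwinv, hw, ← conj_pow]
    congr 1
    calc u * (u * v) * u⁻¹ = (u * u) * v * u⁻¹ := by group
      _ = v * u := by rw [hu, one_mul, hui]
  have hinv_v : v * w * v⁻¹ = w⁻¹ := by
    rw [hwinv, hw, ← conj_pow]
    congr 1
    calc v * (u * v) * v⁻¹ = v * u * (v * v⁻¹) := by group
      _ = v * u := by rw [mul_inv_cancel, mul_one]
  -- the central part is trivial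
  have hxi : x⁻¹ = x := inv_eq_of_mul_eq_one_left (h.sq x hx)
  have hx'P : u * x * u⁻¹ ∈ P := h.normal.conj_mem x hx u
  have e1 : (u * x * u⁻¹) * z = x * z⁻¹ := by
    have : u * (x * z) * u⁻¹ = (x * z)⁻¹ := by rw [hxz]; exact hinv_u
    calc (u * x * u⁻¹) * z = u * x * (u⁻¹ * z) := by group
      _ = u * x * (z * u⁻¹) := by rw [hzc u⁻¹]
      _ = u * (x * z) * u⁻¹ := by group
      _ = (x * z)⁻¹ := this
      _ = z⁻¹ * x⁻¹ := by rw [mul_inv_rev]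
      _ = z⁻¹ * x := by rw [hxi]
      _ = x * z⁻¹ := by
        have := hzc (x * z⁻¹)
        calc z⁻¹ * x = z⁻¹ * (x * z⁻¹ * z) := by group
          _ = z⁻¹ * (z * (x * z⁻¹)) := by rw [this]
          _ = x * z⁻¹ := by group
  have e2 : x * (u * x * u⁻¹) = z⁻¹ * z⁻¹ := by
    calc x * (u * x * u⁻¹) = x * ((u * x * u⁻¹) * z) * z⁻¹ := by group
      _ = x * (x * z⁻¹) * z⁻¹ := by rw [e1]
      _ = (x * x) * z⁻¹ * z⁻¹ := by group
      _ = z⁻¹ * z⁻¹ := by rw [h.sq x hx, one_mul]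
  have hzinv : z⁻¹ ∈ Subgroup.center G := Subgroup.inv_mem _ hz
  have e3 : z⁻¹ * z⁻¹ ∈ P ⊓ Subgroup.center G := by
    refine ⟨?_, Subgroup.mul_mem _ hzinv hzinv⟩
    rw [← e2]
    exact P.mul_mem hx hx'P
  rw [h.inf, Subgroup.mem_bot] at e3
  have hz1 : z = 1 := by
    have := h.odd z⁻¹ hzinv e3
    exact inv_eq_one.mp this
  have hwx : w = x := by rw [← hxz, hz1, mul_one]
  have hwP : w ∈ P := hwx ▸ hx
  have hwi : w⁻¹ = w := inv_eq_of_mul_eq_one_left (h.sq w hwP)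
  rw [hwi] at hinv_u hinv_v
  -- `w` is fixed by `u` and `v`, hence trivial
  rw [← hw]
  rcases henum w hwP with e | e | e | e
  · exact e
  · exfalso
    rw [e, hv1] at hinv_v
    apply hy₂
    have : y₁ * y₂ = y₁ * 1 := by rw [mul_one]; exact hinv_v
    exact mul_left_cancel this
  · exfalso
    rw [e, hu2] at hinv_u
    apply hy₁
    have : y₁ * y₂ = 1 * y₂ := by rw [one_mul]; exact hinv_u
    exact mul_right_cancel this
  · exfalso
    rw [e, hu3] at hinv_u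
    apply hy₁
    have : 1 * y₂ = y₁ * y₂ := by rw [one_mul]; exact hinv_u
    exact (mul_right_cancel this).symm

end cube

end Cfsg.Agent.Lib.Helper3.RU
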