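import Mathlib
import Cfsg.Agent.Lib.Helper3.RU9

set_option autoImplicit false
set_option linter.unusedSectionVars false
set_option linter.style.haveILetI false

/-! Step 5 (end): the construction of `S₄`. -/

namespace Cfsg.Agent.Lib.Helper3.RU

set_option maxRecDepth 100000 in
theorem perm_four_center : ∀ σ : Equiv.Perm (Fin 4),
    (∀ τ : Equiv.Perm (Fin 4), τ * σ = σ * τ) → σ = 1 := by
  decide

section main
variable {G : Type*} [Group G] {P : Subgroup G}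

/-- an outer element with square in `P` does not centralize `P` -/
theorem FourSetup.not_centralize (h : FourSetup P) {t : G} (htP : t ∉ P) (htt : t * t ∈ P) :
    ¬ ∀ x ∈ P, t * x * t⁻¹ = x := by
  intro hall
  have htc : t ∈ Subgroup.centralizer (P : Set G) := by
    rw [Subgroup.mem_centralizer_iff]
    intro x hx
    have := hall x hx
    calc x * t = (t * x * t⁻¹) * t := by rw [this]
      _ = t * x := by group
  rw [h.cent] at htc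
  have htc' : t ∈ (↑(P ⊔ Subgroup.center G) : Set G) := htc
  rw [Subgroup.mul_normal] at htc'
  obtain ⟨x, hx, z, hz, hxz⟩ := Set.mem_mul.mp htc'
  have hzc : ∀ g : G, g * z = z * g := fun g => Subgroup.mem_center_iff.mp hz g
  have e : t * t = z * z := by
    rw [← hxz]
    calc x * z * (x * z) = x * (z * x) * z := by group
      _ = x * (x * z) * z := by rw [← hzc x]
      _ = (x * x) * (z * z) := by group
      _ = z * z := by rw [h.sq x hx, one_mul]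
  have e3 : z * z ∈ P ⊓ Subgroup.center G := ⟨e ▸ htt, Subgroup.mul_mem _ hz hz⟩
  rw [h.inf, Subgroup.mem_bot] at e3
  have hz1 := h.odd z hz e3
  apply htP
  rw [← hxz, hz1, mul_one]; exact hx

/-- an involution acting nontrivially on `P` -/
theorem FourSetup.exists_involution (h : FourSetup P) {t : G} (htP : t ∉ P)
    (htt : t * t ∈ P) :
    ∃ a z₀ z₁ : G, a * a = 1 ∧ z₀ ∈ P ∧ z₁ ∈ P ∧ z₀ ≠ 1 ∧ z₁ ≠ 1 ∧ z₀ ≠ z₁ ∧
      a * z₀ * a⁻¹ = z₀ ∧ a * z₁ * a⁻¹ ≠ z₁ := by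
  have hcomm := comm_of_sq_one P h.sq
  have hnc := h.not_centralize htP htt
  push Not at hnc
  obtain ⟨x₀, hx₀, hx₀t⟩ := hnc
  obtain ⟨xt, hxt⟩ : ∃ xt, xt = t * x₀ * t⁻¹ := ⟨_, rfl⟩
  rw [← hxt] at hx₀t
  have hxtP : xt ∈ P := hxt ▸ h.normal.conj_mem x₀ hx₀ t
  have hx₀i : x₀⁻¹ = x₀ := inv_eq_of_mul_eq_one_left (h.sq x₀ hx₀)
  obtain ⟨z₀, hz₀⟩ : ∃ z₀, z₀ = x₀ * xt := ⟨_, rfl⟩
  have hz₀P : z₀ ∈ P := hz₀ ▸ P.mul_mem hx₀ hxtP
  have hz₀1 : z₀ ≠ 1 := by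
    intro e
    rw [hz₀] at e
    apply hx₀t
    have : xt = x₀⁻¹ := (inv_eq_of_mul_eq_one_right e).symm
    rw [this, hx₀i]
  have htx : t * xt * t⁻¹ = x₀ := by
    rw [hxt]
    have h1 : (t * t) * x₀ = x₀ * (t * t) := hcomm _ htt _ hx₀
    calc t * (t * x₀ * t⁻¹) * t⁻¹ = (t * t) * x₀ * (t * t)⁻¹ := by group
      _ = x₀ * (t * t) * (t * t)⁻¹ := by rw [h1]
      _ = x₀ := by group
  have hfix : t * z₀ * t⁻¹ = z₀ := by
    rw [hz₀]
    calc t * (x₀ * xt) * t⁻¹ = (t * x₀ * t⁻¹) * (t * xt * t⁻¹) := by group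
      _ = xt * x₀ := by rw [← hxt, htx]
      _ = x₀ * xt := hcomm _ hxtP _ hx₀
  have hx₀1 : x₀ ≠ 1 := by
    intro e
    apply hx₀t
    rw [hxt, e]; group
  have hz₀x₀ : z₀ ≠ x₀ := by
    intro e
    rw [hz₀] at e
    have h1 : xt = 1 := by
      have : x₀ * xt = x₀ * 1 := by rw [mul_one]; exact e
      exact mul_left_cancel this
    apply hx₀1
    have : x₀ = t⁻¹ * xt * t := by rw [hxt]; group
    rw [this, h1]; group
  have henum := enum_four P h.card hz₀P hx₀ hz₀1 hx₀1 hz₀x₀ h.sq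
  have hzx : z₀ * x₀ = xt := by
    rw [hz₀, hcomm _ hx₀ _ hxtP]
    calc xt * x₀ * x₀ = xt * (x₀ * x₀) := by group
      _ = xt := by rw [h.sq x₀ hx₀, mul_one]
  have tfix : t * (t * t) * t⁻¹ = t * t := by group
  rcases henum _ htt with e | e | e | e
  · exact ⟨t, z₀, x₀, e, hz₀P, hx₀, hz₀1, hx₀1, hz₀x₀, hfix, by rw [← hxt]; exact hx₀t⟩
  · refine ⟨t * x₀, z₀, x₀, ?_, hz₀P, hx₀, hz₀1, hx₀1, hz₀x₀, ?_, ?_⟩
    · calc t * x₀ * (t * x₀) = (t * x₀ * t⁻¹) * (t * t) * x₀ := by group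
        _ = xt * z₀ * x₀ := by rw [← hxt, e]
        _ = xt * (z₀ * x₀) := by group
        _ = 1 := by rw [hzx, h.sq xt hxtP]
    · calc t * x₀ * z₀ * (t * x₀)⁻¹ = t * (x₀ * z₀ * x₀⁻¹) * t⁻¹ := by group
        _ = t * z₀ * t⁻¹ := by
          have : x₀ * z₀ * x₀⁻¹ = z₀ := by rw [hcomm _ hx₀ _ hz₀P]; group
          rw [this]
        _ = z₀ := hfix
    · have : t * x₀ * x₀ * (t * x₀)⁻¹ = t * x₀ * t⁻¹ := by group
      rw [this, ← hxt]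
      exact hx₀t
  · exfalso
    apply hx₀t
    rw [e] at tfix
    rw [hxt]; exact tfix
  · exfalso
    apply hx₀t
    rw [e] at tfix
    have h1 : t * (z₀ * x₀) * t⁻¹ = (t * z₀ * t⁻¹) * (t * x₀ * t⁻¹) := by group
    rw [h1, hfix, ← hxt] at tfix
    exact mul_left_cancel tfix

theorem FourSetup.exists_S4 (h : FourSetup P) {t : G} (htP : t ∉ P) (htt : t * t ∈ P) :
    ∃ H : Subgroup G, Nonempty (H ≃* Equiv.Perm (Fin 4)) ∧ H ⊓ Subgroup.center G = ⊥ ∧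
      H ⊔ Subgroup.center G = ⊤ := by
  have hcomm := comm_of_sq_one P h.sq
  obtain ⟨a, z₀, z₁, haa, hz₀, hz₁, hz₀1, hz₁1, hz01, haz₀, haz₁⟩ :=
    h.exists_involution htP htt
  have henum := enum_four P h.card hz₀ hz₁ hz₀1 hz₁1 hz01 h.sq
  have hanc : ¬ ∀ x ∈ P, a * x * a⁻¹ = x := fun hall => haz₁ (hall z₁ hz₁)
  obtain ⟨ha1, ha2⟩ := swap_of_fix P h.normal h.card h.sq hz₀ hz₁ hz₀1 hz₁1 hz01 haz₀ hanc
  have hg₀ : ∃ g₀ : G, g₀ * z₀ * g₀⁻¹ ≠ z₀ := by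
    by_contra hno
    push Not at hno
    have hzc : z₀ ∈ Subgroup.center G := by
      rw [Subgroup.mem_center_iff]
      intro g
      have := hno g
      calc g * z₀ = (g * z₀ * g⁻¹) * g := by group
        _ = z₀ * g := by rw [this]
    have : z₀ ∈ P ⊓ Subgroup.center G := ⟨hz₀, hzc⟩
    rw [h.inf, Subgroup.mem_bot] at this
    exact hz₀1 this
  obtain ⟨g₀, hg₀⟩ := hg₀
  have hg : ∃ g : G, g * z₀ * g⁻¹ = z₁ := by
    have hmem : g₀ * z₀ * g₀⁻¹ ∈ P := h.normal.conj_mem z₀ hz₀ g₀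
    rcases henum _ hmem with e | e | e | e
    · exfalso
      apply hz₀1
      have : z₀ = g₀⁻¹ * (g₀ * z₀ * g₀⁻¹) * g₀ := by group
      rw [this, e]; group
    · exact absurd e hg₀
    · exact ⟨g₀, e⟩
    · refine ⟨a * g₀, ?_⟩
      calc a * g₀ * z₀ * (a * g₀)⁻¹ = a * (g₀ * z₀ * g₀⁻¹) * a⁻¹ := by group
        _ = z₁ := by rw [e, ha2]
  obtain ⟨g, hg⟩ := hg
  obtain ⟨b, hb⟩ : ∃ b, b = g * a * g⁻¹ := ⟨_, rfl⟩
  have hbb : b * b = 1 := by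
    rw [hb]
    calc g * a * g⁻¹ * (g * a * g⁻¹) = g * (a * a) * g⁻¹ := by group
      _ = 1 := by rw [haa]; group
  have hbz₁ : b * z₁ * b⁻¹ = z₁ := by
    rw [hb, ← hg]
    calc g * a * g⁻¹ * (g * z₀ * g⁻¹) * (g * a * g⁻¹)⁻¹ = g * (a * z₀ * a⁻¹) * g⁻¹ := by group
      _ = g * z₀ * g⁻¹ := by rw [haz₀]
  have hbnc : ¬ ∀ x ∈ P, b * x * b⁻¹ = x := by
    intro hall
    apply hanc
    intro x hx
    have hx' : g * x * g⁻¹ ∈ P := h.normal.conj_mem x hx g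
    have h1 := hall _ hx'
    have e : b * (g * x * g⁻¹) * b⁻¹ = g * (a * x * a⁻¹) * g⁻¹ := by rw [hb]; group
    rw [e] at h1
    have h2 := mul_right_cancel h1
    exact mul_left_cancel h2
  obtain ⟨hb1, hb2⟩ := swap_of_fix P h.normal h.card h.sq hz₁ hz₀ hz₁1 hz₀1 (Ne.symm hz01)
    hbz₁ hbnc
  have hz10 : z₁ * z₀ = z₀ * z₁ := hcomm z₁ hz₁ z₀ hz₀
  obtain ⟨c, hc⟩ : ∃ c, c = a * z₀ := ⟨_, rfl⟩
  have hcc : c * c = 1 := by
    rw [hc]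
    calc a * z₀ * (a * z₀) = (a * z₀ * a⁻¹) * (a * a) * z₀ := by group
      _ = 1 := by rw [haz₀, haa, mul_one, h.sq z₀ hz₀]
  have hac : a * c = c * a := by
    rw [hc]
    calc a * (a * z₀) = (a * a) * z₀ := by group
      _ = z₀ := by rw [haa, one_mul]
      _ = (a * z₀ * a⁻¹) * (a * a) := by rw [haz₀, haa, mul_one]
      _ = a * z₀ * a := by group
  have hne : a ≠ c := by
    intro e
    apply hz₀1
    rw [hc] at e
    have : a * 1 = a * z₀ := by rw [mul_one]; exact e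
    exact (mul_left_cancel this).symm
  have hcact : ∀ x ∈ P, c * x * c⁻¹ = a * x * a⁻¹ := by
    intro x hx
    rw [hc]
    have h1 : z₀ * x * z₀⁻¹ = x := by rw [hcomm z₀ hz₀ x hx]; group
    calc a * z₀ * x * (a * z₀)⁻¹ = a * (z₀ * x * z₀⁻¹) * a⁻¹ := by group
      _ = a * x * a⁻¹ := by rw [h1]
  have hab : (a * b) ^ 3 = 1 :=
    h.cube hz₀ hz₁ hz₀1 hz₁1 hz01 haa hbb haz₀ ha1 ha2 hbz₁ (by rw [hb1, hz10])
      (by rw [← hz10, hb2])
  have hbc : (b * c) ^ 3 = 1 :=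
    h.cube hz₁ hz₀ hz₁1 hz₀1 (Ne.symm hz01) hbb hcc hbz₁ hb1 hb2
      (by rw [hcact z₀ hz₀, haz₀]) (by rw [hcact z₁ hz₁, ha1, hz10])
      (by rw [hcact _ (P.mul_mem hz₁ hz₀), hz10, ha2])
  obtain ⟨φ, hφinj, hφa, hφb, hφc⟩ := S4C.exists_hom_of_relations haa hbb hcc hab hbc hac hne
  refine ⟨φ.range, ⟨(MonoidHom.ofInjective hφinj).symm⟩, ?_, ?_⟩
  · rw [eq_bot_iff]
    rintro x ⟨⟨σ, rfl⟩, hxZ⟩
    rw [Subgroup.mem_bot]
    have hσ : σ = 1 := by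
      apply perm_four_center
      intro τ
      apply hφinj
      rw [map_mul, map_mul]
      exact Subgroup.mem_center_iff.mp hxZ (φ τ)
    rw [hσ, map_one]
  · have haH : a ∈ φ.range := ⟨_, hφa⟩
    have hbH : b ∈ φ.range := ⟨_, hφb⟩
    have hcH : c ∈ φ.range := ⟨_, hφc⟩
    have hz₀H : z₀ ∈ φ.range := by
      have : z₀ = a * c := by rw [hc, ← mul_assoc, haa, one_mul]
      rw [this]; exact Subgroup.mul_mem _ haH hcH
    have hz₁₀H : z₁ * z₀ ∈ φ.range := by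
      rw [← hb1]
      exact Subgroup.mul_mem _ (Subgroup.mul_mem _ hbH hz₀H) (Subgroup.inv_mem _ hbH)
    have hz₁H : z₁ ∈ φ.range := by
      have : z₁ = (z₁ * z₀) * z₀ := by rw [mul_assoc, h.sq z₀ hz₀, mul_one]
      rw [this]; exact Subgroup.mul_mem _ hz₁₀H hz₀H
    have hPH : P ≤ φ.range := by
      intro x hx
      rcases henum x hx with e | e | e | e
      · rw [e]; exact Subgroup.one_mem _
      · rw [e]; exact hz₀H
      · rw [e]; exact hz₁H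
      · rw [e]; exact Subgroup.mul_mem _ hz₀H hz₁H
    rw [eq_top_iff]
    intro g' _
    have hA : ∃ h₁ ∈ φ.range, h₁ * z₀ * h₁⁻¹ = g' * z₀ * g'⁻¹ := by
      have hmem : g' * z₀ * g'⁻¹ ∈ P := h.normal.conj_mem z₀ hz₀ g'
      rcases henum _ hmem with e | e | e | e
      · exfalso
        apply hz₀1
        have : z₀ = g'⁻¹ * (g' * z₀ * g'⁻¹) * g' := by group
        rw [this, e]; group
      · exact ⟨1, Subgroup.one_mem _, by rw [e]; group⟩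
      · refine ⟨a * b, Subgroup.mul_mem _ haH hbH, ?_⟩
        rw [e]
        calc a * b * z₀ * (a * b)⁻¹ = a * (b * z₀ * b⁻¹) * a⁻¹ := by group
          _ = z₁ := by rw [hb1, hz10, ha2]
      · refine ⟨b, hbH, ?_⟩
        rw [e, hb1, hz10]
    obtain ⟨h₁, hh₁, e₁⟩ := hA
    obtain ⟨g₁, hg₁⟩ : ∃ g₁, g₁ = h₁⁻¹ * g' := ⟨_, rfl⟩
    have hg₁z₀ : g₁ * z₀ * g₁⁻¹ = z₀ := by
      rw [hg₁]
      calc h₁⁻¹ * g' * z₀ * (h₁⁻¹ * g')⁻¹ = h₁⁻¹ * (g' * z₀ * g'⁻¹) * h₁ := by group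
        _ = h₁⁻¹ * (h₁ * z₀ * h₁⁻¹) * h₁ := by rw [e₁]
        _ = z₀ := by group
    have hB : ∃ h₂ ∈ φ.range, h₂ * z₀ * h₂⁻¹ = z₀ ∧ h₂ * z₁ * h₂⁻¹ = g₁ * z₁ * g₁⁻¹ := by
      have hmem : g₁ * z₁ * g₁⁻¹ ∈ P := h.normal.conj_mem z₁ hz₁ g₁
      rcases henum _ hmem with e | e | e | e
      · exfalso
        apply hz₁1
        have : z₁ = g₁⁻¹ * (g₁ * z₁ * g₁⁻¹) * g₁ := by group
        rw [this, e]; group
      · exfalso
        apply hz01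
        have h1 : g₁ * z₁ * g₁⁻¹ = g₁ * z₀ * g₁⁻¹ := by rw [e, hg₁z₀]
        have h2 := mul_right_cancel h1
        exact (mul_left_cancel h2).symm
      · exact ⟨1, Subgroup.one_mem _, by group, by rw [e]; group⟩
      · exact ⟨a, haH, haz₀, by rw [e, ha1]⟩
    obtain ⟨h₂, hh₂, e₂, e₂'⟩ := hB
    obtain ⟨g₂, hg₂⟩ : ∃ g₂, g₂ = h₂⁻¹ * g₁ := ⟨_, rfl⟩
    have w1 : g₂ * z₀ * g₂⁻¹ = z₀ := by
      rw [hg₂]
      calc h₂⁻¹ * g₁ * z₀ * (h₂⁻¹ * g₁)⁻¹ = h₂⁻¹ * (g₁ * z₀ * g₁⁻¹) * h₂ := by group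
        _ = h₂⁻¹ * (h₂ * z₀ * h₂⁻¹) * h₂ := by rw [hg₁z₀, e₂]
        _ = z₀ := by group
    have w2 : g₂ * z₁ * g₂⁻¹ = z₁ := by
      rw [hg₂]
      calc h₂⁻¹ * g₁ * z₁ * (h₂⁻¹ * g₁)⁻¹ = h₂⁻¹ * (g₁ * z₁ * g₁⁻¹) * h₂ := by group
        _ = h₂⁻¹ * (h₂ * z₁ * h₂⁻¹) * h₂ := by rw [e₂']
        _ = z₁ := by group
    have hcent := h.mem_centralizer_of_fix hz₀ hz₁ hz₀1 hz₁1 hz01 w1 w2
    rw [h.cent] at hcent
    have : g' = h₁ * h₂ * g₂ := by rw [hg₂, hg₁]; group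
    rw [this]
    apply Subgroup.mul_mem
    · exact (le_sup_left : φ.range ≤ φ.range ⊔ Subgroup.center G)
        (Subgroup.mul_mem _ hh₁ hh₂)
    · exact (sup_le (le_trans hPH le_sup_left) le_sup_right :
        P ⊔ Subgroup.center G ≤ φ.range ⊔ Subgroup.center G) hcent

end main

end Cfsg.Agent.Lib.Helper3.RU
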