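import Mathlib
import Cfsg.Agent.Lib.Helper3.RU1

set_option autoImplicit false
set_option linter.unusedSectionVars false
set_option linter.style.haveILetI false

/-! Step 1: the restriction to a normal `p`-subgroup. -/

namespace Cfsg.Agent.Lib.Helper3.RU
open Cfsg Cfsg.Agent.Lib.Helper6
open scoped ComplexConjugate

/-- the arithmetic heart of step 1 -/
theorem arith_step1 {p a n d e t f : ℕ} (hp : p.Prime) (ha : 0 < a) (hn : n = p ^ a)
    (hd : d ∣ n) (he : 1 ≤ e) (ht : 1 ≤ t) (hf : f = e * d * t)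
    (hnorm : f ^ 2 + n = n * (e ^ 2 * t) + 1) (hf1 : f ≠ 1) :
    e = 1 ∧ d = 1 ∧ t + 1 = n := by
  have hpn : p ∣ n := by rw [hn]; exact dvd_pow_self p ha.ne'
  have hpf : ¬ p ∣ f := by
    intro h
    have h1 : p ∣ f ^ 2 + n := Dvd.dvd.add (dvd_pow h (by norm_num)) hpn
    rw [hnorm] at h1
    have h2 : p ∣ n * (e ^ 2 * t) := Dvd.dvd.mul_right hpn _
    have h3 : p ∣ 1 := (Nat.dvd_add_right h2).mp h1
    exact hp.one_lt.ne' (Nat.dvd_one.mp h3)
  have hd1 : d = 1 := by
    rw [hn] at hd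
    obtain ⟨j, -, hj⟩ := (Nat.dvd_prime_pow hp).mp hd
    rcases Nat.eq_zero_or_pos j with h0 | hpos
    · rw [hj, h0, pow_zero]
    · exfalso
      apply hpf
      rw [hf, hj]
      exact Dvd.dvd.mul_right (Dvd.dvd.mul_left (dvd_pow_self p hpos.ne') e) t
  subst hd1
  have hn2 : 2 ≤ n := by
    rw [hn]
    calc 2 ≤ p := hp.two_le
      _ = p ^ 1 := (pow_one p).symm
      _ ≤ p ^ a := Nat.pow_le_pow_right hp.pos ha
  have hfe : f = e * t := by rw [hf, mul_one]
  -- work over the integers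
  have hZ : ((e : ℤ) * t) ^ 2 + n = n * ((e : ℤ) ^ 2 * t) + 1 := by
    rw [hfe] at hnorm
    exact_mod_cast hnorm
  set s : ℤ := (n : ℤ) - t with hs
  have h1 : (e : ℤ) ^ 2 * t * s = n - 1 := by rw [hs]; linarith [hZ]
  have heZ : (1 : ℤ) ≤ e := by exact_mod_cast he
  have htZ : (1 : ℤ) ≤ t := by exact_mod_cast ht
  have hnZ : (2 : ℤ) ≤ n := by exact_mod_cast hn2
  have hspos : 0 < s := by
    by_contra hneg
    push Not at hneg
    have : (e : ℤ) ^ 2 * t * s ≤ 0 := mul_nonpos_of_nonneg_of_nonpos (by positivity) hneg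
    linarith
  have h2 : ((e : ℤ) ^ 2 - 1) * (t * s) + ((t : ℤ) - 1) * (s - 1) = 0 := by
    have : ((e : ℤ) ^ 2 - 1) * (t * s) + ((t : ℤ) - 1) * (s - 1)
        = (e : ℤ) ^ 2 * t * s - t - s + 1 := by ring
    rw [this, h1, hs]; ring
  have h3 : 0 ≤ ((e : ℤ) ^ 2 - 1) * (t * s) := by
    apply mul_nonneg
    · nlinarith
    · positivity
  have h4 : 0 ≤ ((t : ℤ) - 1) * (s - 1) := by
    apply mul_nonneg <;> linarith
  have h5 : ((e : ℤ) ^ 2 - 1) * (t * s) = 0 := by linarith
  have h6 : ((t : ℤ) - 1) * (s - 1) = 0 := by linarith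
  have he1 : e = 1 := by
    rcases mul_eq_zero.mp h5 with h | h
    · have : (e : ℤ) = 1 := by nlinarith
      exact_mod_cast this
    · exfalso
      have : 0 < (t : ℤ) * s := by positivity
      linarith
  refine ⟨he1, rfl, ?_⟩
  rcases mul_eq_zero.mp h6 with h | h
  · exfalso
    apply hf1
    have : t = 1 := by
      have : (t : ℤ) = 1 := by linarith
      exact_mod_cast this
    rw [hfe, he1, this]
  · have : (t : ℤ) + 1 = n := by rw [hs] at h; linarith
    exact_mod_cast this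

section norms
variable {H : Type*} [Group H] [Fintype H]

/-- the norm of a function of absolute value one off the identity -/
theorem classInner_self_of_normSq_one (ψ : H → ℂ)
    (h : ∀ x : H, x ≠ 1 → Complex.normSq (ψ x) = 1) :
    classInner ψ ψ
      = (((Nat.card H : ℝ)⁻¹ * (Complex.normSq (ψ 1) + ((Nat.card H : ℝ) - 1)) : ℝ) : ℂ) := by
  classical
  rw [FT.classInner_self_eq]
  congr 2
  rw [← Finset.add_sum_erase Finset.univ (fun g => Complex.normSq (ψ g)) (Finset.mem_univ 1)]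
  congr 1
  have h1 : ∑ x ∈ Finset.univ.erase (1 : H), Complex.normSq (ψ x)
      = ∑ x ∈ Finset.univ.erase (1 : H), (1 : ℝ) := by
    apply Finset.sum_congr rfl
    intro x hx
    exact h x (Finset.ne_of_mem_erase hx)
  rw [h1, Finset.sum_const, Finset.card_erase_of_mem (Finset.mem_univ 1), Finset.card_univ,
    Nat.card_eq_fintype_card, nsmul_eq_mul, mul_one, Nat.cast_sub Fintype.card_pos]
  simp

end norms

section step1
variable {G : Type*} [Group G] [Fintype G] (N : Subgroup G) [Fintype N] (hN : N.Normal)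
include hN

/-- multiplicities and degrees of constituents of the restriction are constant -/
theorem mult_deg_const {χ : G → ℂ} (hχ : IsIrrCharacter G χ) {m : IrrCharacter N → ℕ}
    (hmi : ∀ θ : IrrCharacter N, classInner (fun n : N => χ n) (θ : N → ℂ) = m θ)
    (θ₀ θ : IrrCharacter N) (h0 : m θ₀ ≠ 0) (h : m θ ≠ 0) :
    m θ = m θ₀ ∧ (θ : N → ℂ) 1 = (θ₀ : N → ℂ) 1 := by
  have hc0 : classInner (fun n : N => χ n) (θ₀ : N → ℂ) ≠ 0 := by
    rw [hmi]; exact_mod_cast h0
  have hc : classInner (fun n : N => χ n) (θ : N → ℂ) ≠ 0 := by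
    rw [hmi]; exact_mod_cast h
  obtain ⟨g, hg⟩ := exists_conjFun_eq_of_constituents N hN hχ θ₀.2 θ.2 hc0 hc
  constructor
  · have h1 := classInner_restrict_conjFun N hN (IsIrrCharacter.isClassFunction hχ)
      (θ₀ : N → ℂ) g
    rw [← hg, hmi, hmi] at h1
    exact_mod_cast h1
  · rw [hg, conjFun_apply]
    have : (⟨g * ((1 : N) : G) * g⁻¹, hN.conj_mem _ (1 : N).2 g⟩ : N) = 1 := by
      apply Subtype.ext
      simp
    rw [this]

/-- degree and norm of the restriction in terms of the common multiplicity, degree and the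
number of constituents -/
theorem degree_and_norm {χ : G → ℂ} (hχ : IsIrrCharacter G χ) [Fintype (IrrCharacter N)]
    [DecidableEq (IrrCharacter N)] {m : IrrCharacter N → ℕ}
    (hm : (fun n : N => χ n) = ∑ θ, m θ • (θ : N → ℂ))
    (hmi : ∀ θ : IrrCharacter N, classInner (fun n : N => χ n) (θ : N → ℂ) = m θ)
    (θ₀ : IrrCharacter N) (h0 : m θ₀ ≠ 0) :
    χ 1 = ((m θ₀ * charDegree (θ₀ : N → ℂ) *
        (Finset.univ.filter (fun θ => m θ ≠ 0)).card : ℕ) : ℂ) ∧
    classInner (fun n : N => χ n) (fun n : N => χ n)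
      = (((m θ₀) ^ 2 * (Finset.univ.filter (fun θ => m θ ≠ 0)).card : ℕ) : ℂ) := by
  constructor
  · have h1 : χ 1 = ∑ θ : IrrCharacter N, (m θ : ℂ) * (θ : N → ℂ) 1 := apply_eq_sum_mult hm 1
    rw [h1, ← Finset.sum_filter_of_ne (p := fun θ => m θ ≠ 0)]
    · have h3 : ∀ θ ∈ Finset.univ.filter (fun θ => m θ ≠ 0),
          (m θ : ℂ) * (θ : N → ℂ) 1 = ((m θ₀ * charDegree (θ₀ : N → ℂ) : ℕ) : ℂ) := by
        intro θ hθ
        have hθ' : m θ ≠ 0 := (Finset.mem_filter.mp hθ).2
        obtain ⟨e1, e2⟩ := mult_deg_const N hN hχ hmi θ₀ θ h0 hθ'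
        rw [e1, e2, IsCharacter.apply_one_eq_charDegree (IsIrrCharacter.isCharacter θ₀.2)]
        push_cast; ring
      rw [Finset.sum_congr rfl h3, Finset.sum_const, nsmul_eq_mul]
      push_cast; ring
    · intro θ _ hne
      intro h0'
      apply hne
      rw [h0']; simp
  · rw [classInner_self_eq_sum_sq hm hmi, ← Finset.sum_filter_of_ne (p := fun θ => m θ ≠ 0)]
    · have h3 : ∀ θ ∈ Finset.univ.filter (fun θ => m θ ≠ 0),
          ((m θ : ℂ)) ^ 2 = (((m θ₀) ^ 2 : ℕ) : ℂ) := by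
        intro θ hθ
        have hθ' : m θ ≠ 0 := (Finset.mem_filter.mp hθ).2
        obtain ⟨e1, -⟩ := mult_deg_const N hN hχ hmi θ₀ θ h0 hθ'
        rw [e1]; push_cast; ring
      rw [Finset.sum_congr rfl h3, Finset.sum_const, nsmul_eq_mul]
      push_cast; ring
    · intro θ _ hne
      intro h0'
      apply hne
      rw [h0']; simp

end step1

/-- the number of irreducible characters of a commutative group -/
theorem card_irr_of_comm {H : Type*} [Group H] [Finite H] (hH : ∀ a b : H, a * b = b * a) :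
    Nat.card (IrrCharacter H) = Nat.card H := by
  have : Fintype H := Fintype.ofFinite H
  have h1 : Nat.card (IrrCharacter H) = Nat.card {χ : IrrCharacter H // (χ : H → ℂ) 1 = 1} :=
    (Nat.card_congr (Equiv.subtypeUnivEquiv (fun χ => irr_apply_one_of_comm hH χ.2))).symm
  rw [h1, card_linear_characters]
  have : commutator H = ⊥ := by
    rw [commutator_def, Subgroup.commutator_eq_bot_iff_le_centralizer]
    intro x _
    rw [Subgroup.mem_centralizer_iff]
    intro y _
    exact hH y x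
  rw [this, Subgroup.index_bot]

/-- the conclusions of step 1 -/
structure Core {G : Type*} [Group G] [Fintype G] (p : ℕ) (χ : G → ℂ) (P : Subgroup G)
    [Fintype P] : Prop where
  irr : IsIrrCharacter G χ
  faith : ∀ g : G, χ g = χ 1 → g = 1
  sing : ∀ g : G, p ∣ orderOf g → Complex.normSq (χ g) = 1
  normal : P.Normal
  pgroup : IsPGroup p P
  three_le : 3 ≤ Nat.card P
  deg : χ 1 = (Nat.card P : ℂ) - 1
  comm : ∀ a ∈ P, ∀ b ∈ P, a * b = b * a
  mult : ∀ θ : P → ℂ, IsCharacter P θ → θ 1 = 1 → θ ≠ (fun _ => (1 : ℂ)) →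
    classInner (fun x : P => χ x) θ = 1
  mult_one : classInner (fun x : P => χ x) (fun _ => (1 : ℂ)) = 0

theorem core_of_hyps {G : Type*} [Group G] [Fintype G] {p : ℕ} [hp : Fact p.Prime] {χ : G → ℂ}
    (P : Subgroup G) [Fintype P]
    (hχ : IsIrrCharacter G χ) (hfaith : ∀ g : G, χ g = χ 1 → g = 1) (hnl : χ 1 ≠ 1)
    (hsing : ∀ g : G, p ∣ orderOf g → Complex.normSq (χ g) = 1)
    (hPn : P.Normal) (hPp : IsPGroup p P) (hP1 : P ≠ ⊥) : Core p χ P := by
  classical
  have : Fintype (IrrCharacter P) := Fintype.ofFinite _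
  set res : P → ℂ := fun x : P => χ x with hres
  have hresc : IsCharacter P res := IsCharacter.restrict P (IsIrrCharacter.isCharacter hχ)
  obtain ⟨m, hm, hmi⟩ := IsCharacter.exists_mult hresc
  have hP_sing : ∀ x : P, x ≠ 1 → Complex.normSq (res x) = 1 := by
    intro x hx
    apply hsing
    obtain ⟨k, hk⟩ := (IsPGroup.iff_orderOf.mp hPp) x
    rw [Subgroup.orderOf_coe, hk]
    rcases Nat.eq_zero_or_pos k with h0 | hpos
    · exfalso
      apply hx
      rw [h0, pow_zero] at hk
      exact orderOf_eq_one_iff.mp hk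
    · exact dvd_pow_self p hpos.ne'
  have hres1 : res 1 ≠ 0 := by
    have := IsIrrCharacter.apply_one_ne_zero hχ
    exact this
  obtain ⟨θ₀, hθ₀⟩ := IsCharacter.exists_constituent hresc hres1
  have h0 : m θ₀ ≠ 0 := by
    rw [hmi] at hθ₀
    exact_mod_cast hθ₀
  obtain ⟨hdeg, hnorm⟩ := degree_and_norm P hPn hχ hm hmi θ₀ h0
  set e := m θ₀ with he
  set d := charDegree (θ₀ : P → ℂ) with hd
  set t := (Finset.univ.filter (fun θ => m θ ≠ 0)).card with ht
  obtain ⟨a, ha⟩ := (IsPGroup.iff_card.mp hPp)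
  have ha0 : 0 < a := by
    rcases Nat.eq_zero_or_pos a with h | h
    · exfalso
      apply hP1
      rw [h, pow_zero] at ha
      exact Subgroup.card_eq_one.mp ha
    · exact h
  have hdn : d ∣ Nat.card P := IsIrrCharacter.charDegree_dvd_card θ₀.2
  have ht1 : 1 ≤ t := Finset.card_pos.mpr ⟨θ₀, Finset.mem_filter.mpr ⟨Finset.mem_univ _, h0⟩⟩
  have he1 : 1 ≤ e := Nat.one_le_iff_ne_zero.mpr h0
  have hnorm2 := classInner_self_of_normSq_one res hP_sing
  have hres1' : res 1 = χ 1 := rfl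
  rw [hnorm, hres1', hdeg, Complex.normSq_natCast] at hnorm2
  have hcardpos : (0 : ℝ) < Nat.card P := by
    have : 0 < Nat.card P := Nat.card_pos
    exact_mod_cast this
  have hnorm3 : ((e ^ 2 * t : ℕ) : ℝ)
      = (Nat.card P : ℝ)⁻¹ * (((e * d * t : ℕ) : ℝ) * ((e * d * t : ℕ) : ℝ)
        + ((Nat.card P : ℝ) - 1)) := by
    exact_mod_cast hnorm2
  have hnorm4 : (e * d * t) ^ 2 + Nat.card P = Nat.card P * (e ^ 2 * t) + 1 := by
    have : (((e * d * t : ℕ) : ℝ)) ^ 2 + (Nat.card P : ℝ)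
        = (Nat.card P : ℝ) * ((e ^ 2 * t : ℕ) : ℝ) + 1 := by
      rw [hnorm3]
      field_simp
      ring
    exact_mod_cast this
  have hf1 : e * d * t ≠ 1 := by
    intro h
    apply hnl
    rw [hdeg, h]
    simp
  obtain ⟨e1, d1, t1⟩ := arith_step1 hp.out ha0 ha hdn he1 ht1 rfl hnorm4 hf1
  rw [e1, d1, one_mul, one_mul] at hdeg hf1
  -- all constituents are linear of multiplicity one
  have hcons : ∀ θ : IrrCharacter P, m θ ≠ 0 → m θ = 1 ∧ (θ : P → ℂ) 1 = 1 := by
    intro θ hθ
    obtain ⟨h1, h2⟩ := mult_deg_const P hPn hχ hmi θ₀ θ h0 hθ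
    refine ⟨by rw [h1, ← he, e1], ?_⟩
    rw [h2, IsCharacter.apply_one_eq_charDegree (IsIrrCharacter.isCharacter θ₀.2), ← hd, d1]
    simp
  -- commutativity
  have hcomm : ∀ a ∈ P, ∀ b ∈ P, a * b = b * a := by
    intro a ha b hb
    have h1 := IsCharacter.apply_eq_apply_one_of_constituents hresc
      ((⟨a, ha⟩ : P) * ⟨b, hb⟩ * (⟨a, ha⟩ : P)⁻¹ * (⟨b, hb⟩ : P)⁻¹) (by
        intro θ hθ
        have hθ' : m θ ≠ 0 := by
          rw [hmi] at hθ
          exact_mod_cast hθ
        rw [IsCharacter.apply_commutator_of_apply_one_eq_one (IsIrrCharacter.isCharacter θ.2)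
          (hcons θ hθ').2, (hcons θ hθ').2])
    have h2 := hfaith _ h1
    simp only [Subgroup.coe_mul, Subgroup.coe_inv] at h2
    calc a * b = (a * b * a⁻¹ * b⁻¹) * (b * a) := by group
      _ = b * a := by rw [h2, one_mul]
  have hcommP : ∀ a b : P, a * b = b * a := fun a b => Subtype.ext (hcomm a a.2 b b.2)
  have hcardirr : Fintype.card (IrrCharacter P) = Nat.card P := by
    rw [← Nat.card_eq_fintype_card]
    exact card_irr_of_comm hcommP
  -- the trivial character
  have htriv_irr : IsIrrCharacter P (fun _ => (1 : ℂ)) :=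
    IsCharacter.isIrr_of_apply_one_eq_one isCharacter_one rfl
  set triv : IrrCharacter P := ⟨fun _ => (1 : ℂ), htriv_irr⟩ with htriv
  have ht2 : 2 ≤ t := by
    rcases Nat.lt_or_ge t 2 with h | h
    · exfalso
      apply hf1
      omega
    · exact h
  have hmtriv : m triv = 0 := by
    by_contra hne
    have hsub : Finset.univ.filter (fun θ => m θ ≠ 0) ⊆ {triv} := by
      intro θ hθ
      have hθ' : m θ ≠ 0 := (Finset.mem_filter.mp hθ).2
      have hc0 : classInner res (triv : P → ℂ) ≠ 0 := by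
        rw [hmi]; exact_mod_cast hne
      have hc : classInner res (θ : P → ℂ) ≠ 0 := by
        rw [hmi]; exact_mod_cast hθ'
      obtain ⟨g, hg⟩ := exists_conjFun_eq_of_constituents P hPn hχ triv.2 θ.2 hc0 hc
      rw [Finset.mem_singleton]
      apply Subtype.ext
      rw [hg]
      funext x
      rw [conjFun_apply]
    have := Finset.card_le_card hsub
    rw [Finset.card_singleton] at this
    omega
  have hO : Finset.univ.filter (fun θ => m θ ≠ 0) = Finset.univ.erase triv := by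
    apply Finset.eq_of_subset_of_card_le
    · intro θ hθ
      rw [Finset.mem_erase]
      refine ⟨?_, Finset.mem_univ _⟩
      intro h
      rw [h] at hθ
      exact (Finset.mem_filter.mp hθ).2 hmtriv
    · rw [Finset.card_erase_of_mem (Finset.mem_univ _), Finset.card_univ, hcardirr]
      omega
  have hcardP : Nat.card P = t + 1 := t1.symm
  refine ⟨hχ, hfaith, hsing, hPn, hPp, by omega, ?_, hcomm, ?_, ?_⟩
  · rw [hdeg, hcardP]
    push_cast; ring
  · intro θ hθ h1 hne
    have hirr := IsCharacter.isIrr_of_apply_one_eq_one hθ h1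
    have hmem : (⟨θ, hirr⟩ : IrrCharacter P) ∈ Finset.univ.filter (fun θ => m θ ≠ 0) := by
      rw [hO, Finset.mem_erase]
      refine ⟨?_, Finset.mem_univ _⟩
      intro h
      apply hne
      exact congrArg Subtype.val h
    have := (hcons _ (Finset.mem_filter.mp hmem).2).1
    have h2 := hmi ⟨θ, hirr⟩
    rw [this] at h2
    rw [h2]; simp
  · have h2 := hmi triv
    rw [hmtriv, Nat.cast_zero] at h2
    exact h2

end Cfsg.Agent.Lib.Helper3.RU
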