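import Mathlib
import Cfsg.Agent.Lib.Helper3.RU2

set_option autoImplicit false
set_option linter.unusedSectionVars false
set_option linter.style.haveILetI false

/-! Steps 1 (continued) and 2: transitivity, exponent, and the centralizer of `P`. -/

namespace Cfsg.Agent.Lib.Helper3.RU
open Cfsg Cfsg.Agent.Lib.Helper6
open scoped ComplexConjugate

section pw
variable {H : Type*} [Group H]

theorem isCharacter_pow {θ : H → ℂ} (hθ : IsCharacter H θ) (k : ℕ) :
    IsCharacter H (fun x => θ x ^ k) := by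
  induction k with
  | zero => simpa using (isCharacter_one (G := H))
  | succ k ih =>
    have h := IsCharacter.mul ih hθ
    have e : (fun x => θ x ^ (k + 1)) = (fun x => θ x ^ k) * θ := by
      funext x
      simp [pow_succ]
    rw [e]; exact h

theorem linear_apply_pow {θ : H → ℂ} (hθ : IsCharacter H θ) (h1 : θ 1 = 1) (x : H) (k : ℕ) :
    θ (x ^ k) = θ x ^ k := by
  rw [← linearCharHom_apply hθ h1, map_pow, Units.val_pow_eq_pow_val, linearCharHom_apply]

theorem normSq_apply_le' [Finite H] {χ : H → ℂ} (hχ : IsCharacter H χ) (g : H) :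
    Complex.normSq (χ g) ≤ (charDegree χ : ℝ) ^ 2 := by
  rw [Complex.normSq_eq_norm_sq]
  apply pow_le_pow_left₀ (norm_nonneg _)
  obtain ⟨n, ρ, rfl⟩ := hχ
  rw [charDegree_character]
  exact norm_character_le ρ g

end pw

section core
variable {G : Type*} [Group G] [Fintype G] {p : ℕ} [hp : Fact p.Prime] {χ : G → ℂ}
  {P : Subgroup G} [Fintype P]

theorem Core.card_real (h : Core p χ P) : (3 : ℝ) ≤ Nat.card P := by
  exact_mod_cast h.three_le

theorem Core.charDegree_eq (h : Core p χ P) : charDegree χ + 1 = Nat.card P := by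
  have h1 := IsCharacter.apply_one_eq_charDegree (IsIrrCharacter.isCharacter h.irr)
  rw [h.deg] at h1
  have h3 := h.three_le
  have h2 : ((charDegree χ + 1 : ℕ) : ℂ) = (Nat.card P : ℂ) := by
    push_cast
    rw [← h1]; ring
  exact_mod_cast h2

/-- transitivity on the nonprincipal linear characters -/
theorem Core.trans (h : Core p χ P) {lam mu : P → ℂ} (hlam : IsCharacter P lam)
    (hlam1 : lam 1 = 1) (hlamne : lam ≠ (fun _ => (1 : ℂ))) (hmu : IsCharacter P mu)
    (hmu1 : mu 1 = 1) (hmune : mu ≠ (fun _ => (1 : ℂ))) :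
    ∃ g : G, mu = conjFun P h.normal lam g := by
  have hc : classInner (fun x : P => χ x) lam ≠ 0 := by
    rw [h.mult lam hlam hlam1 hlamne]; exact one_ne_zero
  have hc' : classInner (fun x : P => χ x) mu ≠ 0 := by
    rw [h.mult mu hmu hmu1 hmune]; exact one_ne_zero
  exact exists_conjFun_eq_of_constituents P h.normal h.irr
    (IsCharacter.isIrr_of_apply_one_eq_one hlam hlam1)
    (IsCharacter.isIrr_of_apply_one_eq_one hmu hmu1) hc hc'

/-- every constituent of the restriction is linear and nonprincipal -/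
theorem Core.constituent (h : Core p χ P) (θ : IrrCharacter P)
    (hθ : classInner (fun x : P => χ x) (θ : P → ℂ) ≠ 0) :
    (θ : P → ℂ) 1 = 1 ∧ (θ : P → ℂ) ≠ (fun _ => (1 : ℂ)) := by
  refine ⟨irr_apply_one_of_comm (fun a b => Subtype.ext (h.comm a a.2 b b.2)) θ.2, ?_⟩
  intro h1
  apply hθ
  rw [h1, h.mult_one]

/-- `P` has exponent `p` -/
theorem Core.exponent (h : Core p χ P) : ∀ x ∈ P, x ^ p = 1 := by
  by_contra hcon
  push Not at hcon
  obtain ⟨x, hx, hxp⟩ := hcon
  have hresc : IsCharacter P (fun x : P => χ x) :=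
    IsCharacter.restrict P (IsIrrCharacter.isCharacter h.irr)
  -- a constituent nontrivial on `x ^ p`
  have h1 : ∃ θ : IrrCharacter P, classInner (fun x : P => χ x) (θ : P → ℂ) ≠ 0 ∧
      (θ : P → ℂ) ((⟨x, hx⟩ : P) ^ p) ≠ (θ : P → ℂ) 1 := by
    by_contra hno
    push Not at hno
    have h2 := IsCharacter.apply_eq_apply_one_of_constituents hresc ((⟨x, hx⟩ : P) ^ p) hno
    apply hxp
    have h3 := h.faith _ h2
    simpa using h3
  obtain ⟨θ₁, hθ₁c, hθ₁x⟩ := h1
  obtain ⟨hθ₁1, hθ₁ne⟩ := h.constituent θ₁ hθ₁c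
  have hθ₁ch := IsIrrCharacter.isCharacter θ₁.2
  rw [linear_apply_pow hθ₁ch hθ₁1, hθ₁1] at hθ₁x
  -- transfer to every nonprincipal linear character
  have htr : ∀ θ : P → ℂ, IsCharacter P θ → θ 1 = 1 → θ ≠ (fun _ => (1 : ℂ)) →
      ∃ y : P, θ y ^ p ≠ 1 := by
    intro θ hθ hθ1 hθne
    obtain ⟨g, hg⟩ := h.trans hθ₁ch hθ₁1 hθ₁ne hθ hθ1 hθne
    have hmem : g⁻¹ * x * g ∈ P := by
      have := h.normal.conj_mem x hx g⁻¹
      simpa using this
    refine ⟨⟨g⁻¹ * x * g, hmem⟩, ?_⟩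
    rw [hg, conjFun_apply]
    have : (⟨g * ((⟨g⁻¹ * x * g, hmem⟩ : P) : G) * g⁻¹, h.normal.conj_mem _ hmem g⟩ : P)
        = ⟨x, hx⟩ := by
      apply Subtype.ext
      simp only
      group
    rw [this]
    exact hθ₁x
  have hiter : ∀ k : ℕ, ∀ θ : P → ℂ, IsCharacter P θ → θ 1 = 1 → θ ≠ (fun _ => (1 : ℂ)) →
      ∃ y : P, θ y ^ (p ^ k) ≠ 1 := by
    intro k
    induction k with
    | zero =>
      intro θ hθ hθ1 hθne
      by_contra hno
      push Not at hno
      apply hθne
      funext y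
      have := hno y
      simpa using this
    | succ k ih =>
      intro θ hθ hθ1 hθne
      obtain ⟨y₀, hy₀⟩ := htr θ hθ hθ1 hθne
      have hθ' : IsCharacter P (fun y => θ y ^ p) := isCharacter_pow hθ p
      have hθ'1 : (fun y => θ y ^ p) 1 = 1 := by
        simp only [hθ1, one_pow]
      have hθ'ne : (fun y => θ y ^ p) ≠ (fun _ => (1 : ℂ)) := by
        intro he
        exact hy₀ (congrFun he y₀)
      obtain ⟨y, hy⟩ := ih _ hθ' hθ'1 hθ'ne
      refine ⟨y, ?_⟩
      rw [pow_succ', pow_mul]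
      exact hy
  obtain ⟨a, ha⟩ := (IsPGroup.iff_card.mp h.pgroup)
  obtain ⟨y, hy⟩ := hiter a θ₁ hθ₁ch hθ₁1 hθ₁ne
  apply hy
  rw [← linear_apply_pow hθ₁ch hθ₁1, ← ha, pow_card_eq_one', hθ₁1]

/-- `P` meets the centre trivially -/
theorem Core.inf_center (h : Core p χ P) : P ⊓ Subgroup.center G = ⊥ := by
  rw [eq_bot_iff]
  intro x hx
  rw [Subgroup.mem_bot]
  by_contra hx1
  obtain ⟨hxP, hxZ⟩ := hx
  have h1 : Complex.normSq (χ x) = 1 := by
    apply h.sing
    obtain ⟨k, hk⟩ := (IsPGroup.iff_orderOf.mp h.pgroup) ⟨x, hxP⟩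
    have h2 : orderOf x = p ^ k := by
      rw [← hk, Subgroup.orderOf_mk]
    rw [h2]
    rcases Nat.eq_zero_or_pos k with h0 | hpos
    · exfalso
      apply hx1
      rw [h0, pow_zero] at h2
      exact orderOf_eq_one_iff.mp h2
    · exact dvd_pow_self p hpos.ne'
  have h2 := normSq_of_central h.irr (z := x) (fun g => (Subgroup.mem_center_iff.mp hxZ g).symm)
  rw [h1, h.deg] at h2
  have h3 := h.card_real
  have h4 : Complex.normSq ((Nat.card P : ℂ) - 1) = ((Nat.card P : ℝ) - 1) * ((Nat.card P : ℝ) - 1) := by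
    have : ((Nat.card P : ℂ) - 1) = (((Nat.card P : ℝ) - 1 : ℝ) : ℂ) := by push_cast; ring
    rw [this, Complex.normSq_ofReal]
  rw [h4] at h2
  nlinarith

end core

end Cfsg.Agent.Lib.Helper3.RU
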