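import Mathlib
import Cfsg.Agent.Lib.Helper3.RU3

set_option autoImplicit false
set_option linter.unusedSectionVars false
set_option linter.style.haveILetI false

/-! Step 2: the centralizer of `P`. -/

namespace Cfsg.Agent.Lib.Helper3.RU
open Cfsg Cfsg.Agent.Lib.Helper6
open scoped ComplexConjugate

section count
variable {G : Type*} [Group G] [Fintype G] {p : ℕ} [hp : Fact p.Prime] {χ : G → ℂ}
  {P : Subgroup G} [Fintype P]

theorem Core.charDegree_real (h : Core p χ P) : (charDegree χ : ℝ) = (Nat.card P : ℝ) - 1 := by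
  have := h.charDegree_eq
  have h2 : ((charDegree χ + 1 : ℕ) : ℝ) = (Nat.card P : ℝ) := by exact_mod_cast this
  push_cast at h2
  linarith

theorem Core.normSq_one (h : Core p χ P) :
    Complex.normSq (χ 1) = ((Nat.card P : ℝ) - 1) ^ 2 := by
  rw [h.deg]
  have : ((Nat.card P : ℂ) - 1) = (((Nat.card P : ℝ) - 1 : ℝ) : ℂ) := by push_cast; ring
  rw [this, Complex.normSq_ofReal]
  ring

/-- in a commutative subgroup containing `P`, every coset of `P` contains an element at which
`χ` has maximal absolute value -/
theorem Core.exists_max_in_coset (h : Core p χ P) (D : Subgroup G) [Fintype D] (hPD : P ≤ D)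
    (hD : ∀ a ∈ D, ∀ b ∈ D, a * b = b * a) (d : G) (hd : d ∈ D) :
    ∃ s : G, Complex.normSq (χ s) = Complex.normSq (χ 1) ∧ s⁻¹ * d ∈ P := by
  classical
  set n : ℝ := (Nat.card P : ℝ) with hn
  have hn3 : 3 ≤ n := h.card_real
  have hχc := IsIrrCharacter.isCharacter h.irr
  have hdeg : (charDegree χ : ℝ) = n - 1 := h.charDegree_real
  have hFle : ∀ g : G, Complex.normSq (χ g) ≤ (n - 1) ^ 2 := by
    intro g
    have := normSq_apply_le' hχc g
    rwa [hdeg] at this
  have hAB : (Nat.card D : ℝ) * (n - 1) ≤ ∑ x : D, Complex.normSq (χ x) := by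
    have := card_mul_degree_le_of_comm_subgroup D hD hχc
    rwa [hdeg] at this
  set R : Finset D := Finset.univ.filter (fun s : D => ¬ p ∣ orderOf (s : G)) with hR
  have hcardD : (Finset.univ : Finset D).card = Nat.card D := by
    rw [Finset.card_univ, Nat.card_eq_fintype_card]
  have hsplit : ∑ x : D, Complex.normSq (χ x)
      = ∑ x ∈ R, Complex.normSq (χ x) + ((Nat.card D : ℝ) - R.card) := by
    rw [← Finset.sum_filter_add_sum_filter_not Finset.univ (fun s : D => ¬ p ∣ orderOf (s : G))]
    congr 1
    have h1 : ∑ x ∈ Finset.univ.filter (fun s : D => ¬ ¬ p ∣ orderOf (s : G)),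
        Complex.normSq (χ x)
        = ∑ x ∈ Finset.univ.filter (fun s : D => ¬ ¬ p ∣ orderOf (s : G)), (1 : ℝ) := by
      apply Finset.sum_congr rfl
      intro x hx
      exact h.sing _ (not_not.mp (Finset.mem_filter.mp hx).2)
    rw [h1, Finset.sum_const, nsmul_eq_mul, mul_one]
    have hc := Finset.card_filter_add_card_filter_not (s := (Finset.univ : Finset D))
      (fun s : D => ¬ p ∣ orderOf (s : G))
    rw [hcardD] at hc
    rw [← hc, hR]
    push_cast
    ring
  -- the multiplication map
  let μ : {s : D // ¬ p ∣ orderOf (s : G)} × P → D := fun q => q.1.1 * ⟨q.2, hPD q.2.2⟩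
  have hμinj : Function.Injective μ := by
    rintro ⟨⟨s, hs⟩, x⟩ ⟨⟨s', hs'⟩, x'⟩ heq
    have e : (s : G) * x = s' * x' := congrArg Subtype.val heq
    have hu : (s' : G)⁻¹ * s = x' * (x : G)⁻¹ := by
      calc (s' : G)⁻¹ * s = (s' : G)⁻¹ * (s * x) * (x : G)⁻¹ := by group
        _ = x' * (x : G)⁻¹ := by rw [e]; group
    have huP : (s' : G)⁻¹ * s ∈ P := by
      rw [hu]; exact P.mul_mem x'.2 (P.inv_mem x.2)
    obtain ⟨k, hk⟩ := (IsPGroup.iff_orderOf.mp h.pgroup) ⟨_, huP⟩
    rw [Subgroup.orderOf_mk] at hk
    have hcomm : Commute (s' : G)⁻¹ (s : G) := by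
      have := hD _ (D.inv_mem s'.2) _ s.2
      exact this
    have hdvd := hcomm.orderOf_mul_dvd_lcm
    rw [hk, orderOf_inv] at hdvd
    have hk0 : k = 0 := by
      by_contra hk0
      have h1 : p ∣ Nat.lcm (orderOf (s' : G)) (orderOf (s : G)) :=
        dvd_trans (dvd_pow_self p hk0) hdvd
      have h2 : p ∣ orderOf (s' : G) * orderOf (s : G) :=
        dvd_trans h1 (Nat.lcm_dvd_mul _ _)
      rcases (Nat.Prime.dvd_mul hp.out).mp h2 with h3 | h3
      · exact hs' h3
      · exact hs h3
    rw [hk0, pow_zero, orderOf_eq_one_iff] at hk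
    have hss : s = s' := by
      apply Subtype.ext
      have : (s : G) = s' * ((s' : G)⁻¹ * s) := by group
      rw [this, hk, mul_one]
    have hxx : x = x' := by
      apply Subtype.ext
      rw [hk] at hu
      have : (x' : G) = (x' * (x : G)⁻¹) * x := by group
      rw [this, ← hu, one_mul]
    subst hss
    subst hxx
    rfl
  have hcardsub : Fintype.card {s : D // ¬ p ∣ orderOf (s : G)} = R.card :=
    Fintype.card_of_subtype R (fun x => by simp [hR])
  have hcardprod : Fintype.card ({s : D // ¬ p ∣ orderOf (s : G)} × P) = R.card * Nat.card P := by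
    rw [Fintype.card_prod, hcardsub, Nat.card_eq_fintype_card]
  have hcardD' : Fintype.card D = Nat.card D := Nat.card_eq_fintype_card.symm
  have hinj : (R.card : ℝ) * n ≤ Nat.card D := by
    have := Fintype.card_le_of_injective μ hμinj
    rw [hcardprod, hcardD'] at this
    rw [hn]
    exact_mod_cast this
  have hup : ∑ x ∈ R, Complex.normSq (χ x) ≤ (R.card : ℝ) * (n - 1) ^ 2 := by
    have := Finset.sum_le_sum (s := R) (f := fun x : D => Complex.normSq (χ x))
      (g := fun _ => (n - 1) ^ 2) (fun x _ => hFle x)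
    rwa [Finset.sum_const, nsmul_eq_mul] at this
  have hlow : (Nat.card D : ℝ) * (n - 2) + R.card ≤ ∑ x ∈ R, Complex.normSq (χ x) := by
    rw [hsplit] at hAB
    linarith
  -- surjectivity
  have hsurj : (⟨d, hd⟩ : D) ∈ Set.range μ := by
    by_contra hnot
    have := Fintype.card_lt_of_injective_of_notMem μ hμinj hnot
    rw [hcardprod, hcardD'] at this
    have hstrict : (R.card : ℝ) * n + 1 ≤ Nat.card D := by
      rw [hn]
      exact_mod_cast this
    have h1 : (Nat.card D : ℝ) * (n - 2) ≤ (R.card : ℝ) * n * (n - 2) := by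
      have : (R.card : ℝ) * (n - 1) ^ 2 - R.card = (R.card : ℝ) * n * (n - 2) := by ring
      linarith
    have h2 : ((R.card : ℝ) * n + 1) * (n - 2) ≤ (Nat.card D : ℝ) * (n - 2) :=
      mul_le_mul_of_nonneg_right hstrict (by linarith)
    nlinarith
  obtain ⟨⟨⟨s, hs⟩, x⟩, hsx⟩ := hsurj
  have hsx' : (s : G) * x = d := congrArg Subtype.val hsx
  refine ⟨s, ?_, ?_⟩
  · -- equality for all elements of `R`
    have hsum0 : ∑ y ∈ R, ((n - 1) ^ 2 - Complex.normSq (χ y)) ≤ 0 := by
      rw [Finset.sum_sub_distrib, Finset.sum_const, nsmul_eq_mul]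
      have h1 : (R.card : ℝ) * n * (n - 2) ≤ (Nat.card D : ℝ) * (n - 2) :=
        mul_le_mul_of_nonneg_right hinj (by linarith)
      have : (R.card : ℝ) * (n - 1) ^ 2 - R.card = (R.card : ℝ) * n * (n - 2) := by ring
      linarith
    have hnonneg : ∀ y ∈ R, 0 ≤ (n - 1) ^ 2 - Complex.normSq (χ y) := by
      intro y _
      linarith [hFle y]
    have hsum00 : ∑ y ∈ R, ((n - 1) ^ 2 - Complex.normSq (χ y)) = 0 :=
      le_antisymm hsum0 (Finset.sum_nonneg hnonneg)
    have hz := (Finset.sum_eq_zero_iff_of_nonneg hnonneg).mp hsum00 s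
      (Finset.mem_filter.mpr ⟨Finset.mem_univ _, hs⟩)
    rw [h.normSq_one]
    linarith
  · rw [← hsx']
    have : (s : G)⁻¹ * (s * x) = x := by group
    rw [this]
    exact x.2

/-- elements where `χ` has maximal absolute value are central -/
theorem Core.mem_center_of_normSq (h : Core p χ P) {s : G}
    (hs : Complex.normSq (χ s) = Complex.normSq (χ 1)) : s ∈ Subgroup.center G := by
  rw [Subgroup.mem_center_iff]
  intro g
  have h1 := apply_comm_of_normSq_eq (IsIrrCharacter.isCharacter h.irr) hs g
  have h2 := h.faith _ h1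
  calc g * s = (g * s * g⁻¹ * s⁻¹) * (s * g) := by group
    _ = s * g := by rw [h2, one_mul]

/-- the centralizer of `P` -/
theorem Core.centralizer_eq (h : Core p χ P) :
    Subgroup.centralizer (P : Set G) = P ⊔ Subgroup.center G := by
  classical
  apply le_antisymm
  · intro c hc
    have hcP : ∀ x ∈ P, x * c = c * x := fun x hx => Subgroup.mem_centralizer_iff.mp hc x hx
    set D : Subgroup G := P ⊔ Subgroup.zpowers c with hDdef
    have hPD : P ≤ D := le_sup_left
    have hcD : c ∈ D := (le_sup_right : Subgroup.zpowers c ≤ D) (Subgroup.mem_zpowers c)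
    -- commutativity of `D`
    have hA : ∀ x ∈ P, ∀ d ∈ D, d * x = x * d := by
      intro x hx
      have : D ≤ Subgroup.centralizer ({x} : Set G) := by
        apply sup_le
        · intro y hy
          rw [Subgroup.mem_centralizer_iff]
          intro z hz
          rw [Set.mem_singleton_iff.mp hz]
          exact h.comm x hx y hy
        · rw [Subgroup.zpowers_le, Subgroup.mem_centralizer_iff]
          intro z hz
          rw [Set.mem_singleton_iff.mp hz]
          exact hcP x hx
      intro d hd
      have := Subgroup.mem_centralizer_iff.mp (this hd) x (Set.mem_singleton x)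
      exact this.symm
    have hB : ∀ d ∈ D, d * c = c * d := by
      have : D ≤ Subgroup.centralizer ({c} : Set G) := by
        apply sup_le
        · intro y hy
          rw [Subgroup.mem_centralizer_iff]
          intro z hz
          rw [Set.mem_singleton_iff.mp hz]
          exact (hcP y hy).symm
        · rw [Subgroup.zpowers_le, Subgroup.mem_centralizer_iff]
          intro z hz
          rw [Set.mem_singleton_iff.mp hz]
      intro d hd
      have := Subgroup.mem_centralizer_iff.mp (this hd) c (Set.mem_singleton c)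
      exact this.symm
    have hDcomm : ∀ a ∈ D, ∀ b ∈ D, a * b = b * a := by
      intro a ha
      have : D ≤ Subgroup.centralizer ({a} : Set G) := by
        apply sup_le
        · intro y hy
          rw [Subgroup.mem_centralizer_iff]
          intro z hz
          rw [Set.mem_singleton_iff.mp hz]
          exact hA y hy a ha
        · rw [Subgroup.zpowers_le, Subgroup.mem_centralizer_iff]
          intro z hz
          rw [Set.mem_singleton_iff.mp hz]
          exact hB a ha
      intro b hb
      exact Subgroup.mem_centralizer_iff.mp (this hb) a (Set.mem_singleton a)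
    have : Fintype D := Fintype.ofFinite _
    obtain ⟨s, hs, hsc⟩ := h.exists_max_in_coset D hPD hDcomm c hcD
    have hsZ := h.mem_center_of_normSq hs
    have : c = s * (s⁻¹ * c) := by group
    rw [this]
    exact Subgroup.mul_mem _ ((le_sup_right : Subgroup.center G ≤ P ⊔ Subgroup.center G) hsZ)
      ((le_sup_left : P ≤ P ⊔ Subgroup.center G) hsc)
  · apply sup_le
    · intro x hx
      rw [Subgroup.mem_centralizer_iff]
      intro y hy
      exact h.comm y hy x hx
    · exact Subgroup.center_le_centralizer _

end count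

end Cfsg.Agent.Lib.Helper3.RU
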