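import Mathlib
import Cfsg.Agent.Lib.Helper3.RU4

set_option autoImplicit false
set_option linter.unusedSectionVars false
set_option linter.style.haveILetI false

/-! Step 3: the order of a Sylow subgroup. -/

namespace Cfsg.Agent.Lib.Helper3.RU
open Cfsg Cfsg.Agent.Lib.Helper6
open scoped ComplexConjugate

theorem arith_sylow {p a b n N : ℕ} (hp : p.Prime) (hn : n = p ^ a) (hN : N = p ^ b)
    (hdvd : n ∣ N) (hdvd2 : N ∣ n * (n - 2)) (hn3 : 3 ≤ n) :
    N = n ∨ (p = 2 ∧ N = 2 * n) := by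
  have hab : a ≤ b := by
    rw [hn, hN] at hdvd
    exact (Nat.pow_dvd_pow_iff_le_right hp.one_lt).mp hdvd
  have ha1 : 1 ≤ a := by
    rcases Nat.eq_zero_or_pos a with h | h
    · rw [h, pow_zero] at hn; omega
    · exact h
  obtain ⟨c, hc⟩ := Nat.exists_eq_add_of_le hab
  have hNq : N = n * p ^ c := by rw [hN, hc, pow_add, hn]
  have hq : p ^ c ∣ n - 2 := by
    rw [hNq] at hdvd2
    exact Nat.dvd_of_mul_dvd_mul_left (by omega) hdvd2
  rcases Nat.eq_zero_or_pos c with h0 | hpos
  · left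
    rw [hNq, h0, pow_zero, mul_one]
  · right
    have hpn : p ∣ n := by rw [hn]; exact dvd_pow_self p (by omega)
    have hpn2 : p ∣ n - 2 := dvd_trans (dvd_pow_self p hpos.ne') hq
    have hp2 : p ∣ 2 := by
      have : p ∣ n - (n - 2) := Nat.dvd_sub hpn hpn2
      have e : n - (n - 2) = 2 := by omega
      rwa [e] at this
    have hp2' : p = 2 := (Nat.prime_dvd_prime_iff_eq hp Nat.prime_two).mp hp2
    refine ⟨hp2', ?_⟩
    subst hp2'
    have hc1 : c = 1 := by
      by_contra hne
      have hc2 : 2 ≤ c := by omega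
      have h4q : 4 ∣ 2 ^ c := by
        have : (2 : ℕ) ^ 2 ∣ 2 ^ c := pow_dvd_pow 2 hc2
        simpa using this
      have h4n2 : 4 ∣ n - 2 := dvd_trans h4q hq
      have ha2 : 2 ≤ a := by
        by_contra hlt
        have : a = 1 := by omega
        rw [this, pow_one] at hn
        omega
      have h4n : 4 ∣ n := by
        rw [hn]
        have : (2 : ℕ) ^ 2 ∣ 2 ^ a := pow_dvd_pow 2 ha2
        simpa using this
      omega
    rw [hNq, hc1, pow_one, mul_comm]

section syl
variable {G : Type*} [Group G] [Fintype G] {p : ℕ} [hp : Fact p.Prime] {χ : G → ℂ}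
  {P : Subgroup G} [Fintype P]

theorem Core.sing_of_pgroup (h : Core p χ P) (S : Subgroup G) (hSp : IsPGroup p S) (x : S)
    (hx : x ≠ 1) : Complex.normSq (χ x) = 1 := by
  apply h.sing
  obtain ⟨k, hk⟩ := (IsPGroup.iff_orderOf.mp hSp) x
  rw [Subgroup.orderOf_coe, hk]
  rcases Nat.eq_zero_or_pos k with h0 | hpos
  · exfalso
    apply hx
    rw [h0, pow_zero] at hk
    exact orderOf_eq_one_iff.mp hk
  · exact dvd_pow_self p hpos.ne'

/-- the norm of the restriction to a `p`-subgroup -/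
theorem Core.norm_restrict_pgroup (h : Core p χ P) (S : Subgroup G) [Fintype S]
    (hSp : IsPGroup p S) :
    classInner (fun s : S => χ s) (fun s : S => χ s)
      = (((Nat.card S : ℝ)⁻¹ * (((Nat.card P : ℝ) - 1) ^ 2 + ((Nat.card S : ℝ) - 1)) : ℝ) : ℂ) := by
  rw [classInner_self_of_normSq_one (fun s : S => χ s) (h.sing_of_pgroup S hSp)]
  rw [Subgroup.coe_one, h.normSq_one]

/-- the order of a `p`-subgroup containing `P` -/
theorem Core.card_pgroup (h : Core p χ P) (S : Subgroup G) [Fintype S] (hPS : P ≤ S)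
    (hSp : IsPGroup p S) :
    Nat.card S = Nat.card P ∨ (p = 2 ∧ Nat.card S = 2 * Nat.card P) := by
  have hres : IsCharacter S (fun s : S => χ s) :=
    IsCharacter.restrict S (IsIrrCharacter.isCharacter h.irr)
  obtain ⟨k, hk⟩ := IsCharacter.classInner_nat hres hres
  rw [h.norm_restrict_pgroup S hSp] at hk
  have hk' : (Nat.card S : ℝ)⁻¹ * (((Nat.card P : ℝ) - 1) ^ 2 + ((Nat.card S : ℝ) - 1)) = (k : ℝ) := by
    exact_mod_cast hk
  have hSpos : (0 : ℝ) < Nat.card S := by
    have : 0 < Nat.card S := Nat.card_pos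
    exact_mod_cast this
  have h3 := h.three_le
  have hk2 : ((Nat.card P : ℝ) - 1) ^ 2 + ((Nat.card S : ℝ) - 1) = (k : ℝ) * Nat.card S := by
    rw [← hk']; field_simp
  have hk3 : (Nat.card P) * (Nat.card P - 2) + Nat.card S = k * Nat.card S := by
    have e : ((Nat.card P - 2 : ℕ) : ℝ) = (Nat.card P : ℝ) - 2 := by
      rw [Nat.cast_sub (by omega)]; simp
    have : ((Nat.card P : ℝ)) * ((Nat.card P - 2 : ℕ) : ℝ) + (Nat.card S : ℝ)
        = (k : ℝ) * Nat.card S := by
      rw [e, ← hk2]; ring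
    exact_mod_cast this
  have hdvd2 : Nat.card S ∣ Nat.card P * (Nat.card P - 2) := by
    have h1 : Nat.card S ∣ Nat.card P * (Nat.card P - 2) + Nat.card S := by
      rw [hk3]; exact Dvd.intro_left k rfl
    exact (Nat.dvd_add_left (dvd_refl _)).mp h1
  obtain ⟨a, ha⟩ := (IsPGroup.iff_card.mp h.pgroup)
  obtain ⟨b, hb⟩ := (IsPGroup.iff_card.mp hSp)
  exact arith_sylow hp.out ha hb (Subgroup.card_dvd_of_le hPS) hdvd2 h3

/-- when the index is two, the norm of the restriction is `|P| / 2` -/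
theorem Core.norm_restrict_two (h : Core p χ P) (S : Subgroup G) [Fintype S]
    (hSp : IsPGroup p S) (hcard : Nat.card S = 2 * Nat.card P) :
    classInner (fun s : S => χ s) (fun s : S => χ s) = (((Nat.card P : ℝ) / 2 : ℝ) : ℂ) := by
  rw [h.norm_restrict_pgroup S hSp, hcard]
  have h3 := h.card_real
  congr 1
  push_cast
  field_simp
  ring

end syl

end Cfsg.Agent.Lib.Helper3.RU
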