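import Mathlib
import Cfsg.Agent.Lib.Helper3.RU5

set_option autoImplicit false
set_option linter.unusedSectionVars false
set_option linter.style.haveILetI false

/-! Step 4: when a Sylow `2`-subgroup has order `2 |P|`, the order of `P` is four. -/

namespace Cfsg.Agent.Lib.Helper3.RU
open Cfsg Cfsg.Agent.Lib.Helper6
open scoped ComplexConjugate

section s4
variable {G : Type*} [Group G] [Fintype G] {p : ℕ} [hp : Fact p.Prime] {χ : G → ℂ}
  {P : Subgroup G} [Fintype P]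

/-- an invariant nonprincipal linear character of `P` is the restriction of a linear constituent
of the restriction of `χ` to an intermediate subgroup -/
theorem Core.exists_linear_ext (h : Core p χ P) (S : Subgroup G) [Fintype S] (hPS : P ≤ S)
    {θ : P → ℂ} (hθ : IsCharacter P θ) (hθ1 : θ 1 = 1) (hθne : θ ≠ (fun _ => (1 : ℂ)))
    (hinv : ∀ s ∈ S, conjFun P h.normal θ s = θ) :
    ∃ ψ : IrrCharacter S, classInner (fun s : S => χ s) (ψ : S → ℂ) ≠ 0 ∧
      (fun x : P => (ψ : S → ℂ) ⟨x, hPS x.2⟩) = θ := by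
  classical
  haveI : Fintype (IrrCharacter S) := Fintype.ofFinite _
  have hχS : IsCharacter S (fun s : S => χ s) :=
    IsCharacter.restrict S (IsIrrCharacter.isCharacter h.irr)
  have hθirr := IsCharacter.isIrr_of_apply_one_eq_one hθ hθ1
  obtain ⟨μ, hμ, hμi⟩ := IsCharacter.exists_mult hχS
  have hχP : (fun x : P => χ x)
      = ∑ ψ : IrrCharacter S, (μ ψ : ℂ) • (fun x : P => (ψ : S → ℂ) ⟨x, hPS x.2⟩) := by
    funext x
    have h1 := congrFun hμ ⟨(x : G), hPS x.2⟩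
    simp only [Finset.sum_apply, nsmul_eq_mul] at h1
    simp only [Finset.sum_apply, Pi.smul_apply, smul_eq_mul]
    exact h1
  have hex : ∃ ψ : IrrCharacter S, μ ψ ≠ 0 ∧
      classInner (fun x : P => (ψ : S → ℂ) ⟨x, hPS x.2⟩) θ ≠ 0 := by
    by_contra hno
    push Not at hno
    have h1 := h.mult θ hθ hθ1 hθne
    rw [hχP, classInner_sum_left] at h1
    have : ∑ ψ : IrrCharacter S,
        classInner ((μ ψ : ℂ) • fun x : P => (ψ : S → ℂ) ⟨x, hPS x.2⟩) θ = 0 := by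
      apply Finset.sum_eq_zero
      intro ψ _
      rw [classInner_smul_left]
      by_cases hz : μ ψ = 0
      · rw [hz]; simp
      · rw [hno ψ hz, mul_zero]
    rw [this] at h1
    exact zero_ne_one h1
  obtain ⟨ψ, hψμ, hψθ⟩ := hex
  have hcψ : classInner (fun s : S => χ s) (ψ : S → ℂ) ≠ 0 := by
    rw [hμi]; exact_mod_cast hψμ
  refine ⟨ψ, hcψ, ?_⟩
  obtain ⟨k, hk⟩ := IsCharacter.classInner_comp_ge (Subgroup.inclusion hPS) hχS ψ.2 hcψ hθirr
  have hk' : classInner (fun x : P => χ x) θ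
      = classInner (fun x : P => (ψ : S → ℂ) ⟨x, hPS x.2⟩) θ + k := hk
  rw [h.mult θ hθ hθ1 hθne] at hk'
  obtain ⟨c, hc⟩ := IsCharacter.classInner_irr_nat
    (IsCharacter.comp (Subgroup.inclusion hPS) (IsIrrCharacter.isCharacter ψ.2)) hθirr
  have hc' : classInner (fun x : P => (ψ : S → ℂ) ⟨x, hPS x.2⟩) θ = c := hc
  have hc1 : c = 1 := by
    rw [hc'] at hk' hψθ
    have h1 : (1 : ℕ) = c + k := by exact_mod_cast hk'
    have h2 : c ≠ 0 := by exact_mod_cast hψθ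
    omega
  have := restrict_eq_smul_of_invariant_of_le P h.normal S hPS ψ.2 hθirr hinv hψθ
  rw [this, hc', hc1]
  simp

/-- with index two, there is at most one invariant nonprincipal linear character of `P` -/
theorem Core.invariant_unique (h : Core p χ P) (S : Subgroup G) [Fintype S] (hPS : P ≤ S)
    (hSp : IsPGroup p S) (hcard : Nat.card S = 2 * Nat.card P)
    {θ₁ θ₂ : P → ℂ} (hθ₁ : IsCharacter P θ₁) (hθ₁1 : θ₁ 1 = 1)
    (hθ₁ne : θ₁ ≠ (fun _ => (1 : ℂ))) (hinv₁ : ∀ s ∈ S, conjFun P h.normal θ₁ s = θ₁)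
    (hθ₂ : IsCharacter P θ₂) (hθ₂1 : θ₂ 1 = 1)
    (hθ₂ne : θ₂ ≠ (fun _ => (1 : ℂ))) (hinv₂ : ∀ s ∈ S, conjFun P h.normal θ₂ s = θ₂) :
    θ₁ = θ₂ := by
  classical
  by_contra hne
  obtain ⟨ψ₁, hc₁, hr₁⟩ := h.exists_linear_ext S hPS hθ₁ hθ₁1 hθ₁ne hinv₁
  obtain ⟨ψ₂, hc₂, hr₂⟩ := h.exists_linear_ext S hPS hθ₂ hθ₂1 hθ₂ne hinv₂
  have hψne : (ψ₁ : S → ℂ) ≠ ψ₂ := by
    intro e
    apply hne
    rw [← hr₁, ← hr₂, e]
  set A : S → ℂ := fun s => χ s with hAdef
  have hA : IsCharacter S A := IsCharacter.restrict S (IsIrrCharacter.isCharacter h.irr)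
  obtain ⟨B₁, hB₁, hAB₁⟩ := IsCharacter.exists_eq_add_of_constituent hA ψ₁.2 hc₁
  have hc₂' : classInner B₁ (ψ₂ : S → ℂ) ≠ 0 := by
    have : classInner A (ψ₂ : S → ℂ)
        = classInner (ψ₁ : S → ℂ) (ψ₂ : S → ℂ) + classInner B₁ (ψ₂ : S → ℂ) := by
      rw [hAB₁, classInner_add_left]
    rw [classInner_isIrrCharacter ψ₁.2 ψ₂.2, if_neg hψne, zero_add] at this
    rw [← this]; exact hc₂
  obtain ⟨ξ, hξ, hB₁ξ⟩ := IsCharacter.exists_eq_add_of_constituent hB₁ ψ₂.2 hc₂'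
  set u : S → ℂ := (ψ₁ : S → ℂ) + (ψ₂ : S → ℂ) with hudef
  clear_value u
  have hAu : A = u + ξ := by rw [hAB₁, hB₁ξ, hudef, add_assoc]
  have hu : IsCharacter S u :=
    hudef ▸ IsCharacter.add (IsIrrCharacter.isCharacter ψ₁.2) (IsIrrCharacter.isCharacter ψ₂.2)
  have hψne' : (ψ₂ : S → ℂ) ≠ ψ₁ := fun e => hψne e.symm
  have huu : classInner u u = 2 := by
    rw [hudef, classInner_add_left, classInner_add_right, classInner_add_right,
      classInner_isIrrCharacter ψ₁.2 ψ₁.2, classInner_isIrrCharacter ψ₁.2 ψ₂.2,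
      classInner_isIrrCharacter ψ₂.2 ψ₁.2, classInner_isIrrCharacter ψ₂.2 ψ₂.2,
      if_pos rfl, if_neg hψne, if_neg hψne', if_pos rfl]
    norm_num
  obtain ⟨k, hk⟩ := IsCharacter.classInner_nat hu hξ
  have hk' : classInner ξ u = k := by
    rw [← classInner_conj_symm, hk]; simp
  have hAA : classInner A A = 2 + 2 * (k : ℂ) + classInner ξ ξ := by
    rw [hAu, classInner_add_left, classInner_add_right, classInner_add_right, huu, hk, hk']
    ring
  rw [hAdef, h.norm_restrict_two S hSp hcard, FT.classInner_self_eq] at hAA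
  -- degrees
  have hψ₁1 : (ψ₁ : S → ℂ) 1 = 1 := by
    have := congrFun hr₁ 1
    rw [hθ₁1] at this
    exact this
  have hψ₂1 : (ψ₂ : S → ℂ) 1 = 1 := by
    have := congrFun hr₂ 1
    rw [hθ₂1] at this
    exact this
  have hξ1 : ξ 1 = (Nat.card P : ℂ) - 3 := by
    have h1 := congrFun hAu 1
    have h2 : A 1 = χ 1 := rfl
    rw [h2, h.deg, hudef] at h1
    simp only [Pi.add_apply] at h1
    rw [hψ₁1, hψ₂1] at h1
    have : ξ 1 = (Nat.card P : ℂ) - 1 - (1 + 1) := by rw [h1]; ring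
    rw [this]; ring
  have hξdeg : (charDegree ξ : ℝ) = (Nat.card P : ℝ) - 3 := by
    have h1 := IsCharacter.apply_one_eq_charDegree hξ
    rw [hξ1] at h1
    have h2 : (((Nat.card P : ℝ) - 3 : ℝ) : ℂ) = ((charDegree ξ : ℝ) : ℂ) := by
      push_cast
      exact h1
    exact_mod_cast h2.symm
  -- the lower bound for the norm of `ξ`
  set K : Subgroup S := P.subgroupOf S with hK
  have hKcomm : ∀ a ∈ K, ∀ b ∈ K, a * b = b * a := by
    intro a ha b hb
    apply Subtype.ext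
    exact h.comm a (Subgroup.mem_subgroupOf.mp ha) b (Subgroup.mem_subgroupOf.mp hb)
  have hKcard : Nat.card K = Nat.card P :=
    Nat.card_congr (Subgroup.subgroupOfEquivOfLe hPS).toEquiv
  haveI : Fintype K := Fintype.ofFinite _
  have hlow := card_mul_degree_le_of_comm_subgroup K hKcomm hξ
  have hlow2 := sum_subgroup_le K (fun s => Complex.normSq (ξ s))
    (fun _ => Complex.normSq_nonneg _)
  rw [hKcard, hξdeg] at hlow
  have h3 := h.card_real
  have hSreal : (Nat.card S : ℝ) = 2 * (Nat.card P : ℝ) := by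
    rw [hcard]; push_cast; ring
  set sg : ℝ := ∑ g : S, Complex.normSq (ξ g) with hsg
  have hfin : (Nat.card P : ℝ) / 2 = 2 + 2 * (k : ℝ) + (Nat.card S : ℝ)⁻¹ * sg := by
    exact_mod_cast hAA
  rw [hSreal] at hfin
  have hsglow : (Nat.card P : ℝ) * ((Nat.card P : ℝ) - 3) ≤ sg := le_trans hlow hlow2
  have hk0 : (0 : ℝ) ≤ k := Nat.cast_nonneg k
  have hpos : (0 : ℝ) < Nat.card P := by linarith
  have h5 : (2 * (Nat.card P : ℝ))⁻¹ * sg ≥ ((Nat.card P : ℝ) - 3) / 2 := by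
    rw [ge_iff_le, div_le_iff₀ (by norm_num : (0 : ℝ) < 2)]
    have : (2 * (Nat.card P : ℝ))⁻¹ * sg * 2 = sg / (Nat.card P : ℝ) := by
      field_simp
    rw [this, le_div_iff₀ hpos]
    linarith
  linarith

end s4

end Cfsg.Agent.Lib.Helper3.RU
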