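import Mathlib
import Cfsg.Agent.Lib.Helper3.RU6

set_option autoImplicit false
set_option linter.unusedSectionVars false
set_option linter.style.haveILetI false

/-! Step 4 (continued): counting linear characters via an involutory automorphism. -/

namespace Cfsg.Agent.Lib.Helper3.RU
open Cfsg Cfsg.Agent.Lib.Helper6
open scoped ComplexConjugate

section phi
variable {Q : Type*} [Group Q] [Finite Q]

theorem card_hom_of_comm (hQ : ∀ a b : Q, a * b = b * a) :
    Nat.card (Q →* ℂˣ) = Nat.card Q := by
  have : Fintype Q := Fintype.ofFinite Q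
  rw [Nat.card_congr (linearCharEquiv Q), card_linear_characters]
  have : commutator Q = ⊥ := by
    rw [commutator_def, Subgroup.commutator_eq_bot_iff_le_centralizer]
    intro x _
    rw [Subgroup.mem_centralizer_iff]
    intro y _
    exact hQ y x
  rw [this, Subgroup.index_bot]

theorem finite_hom_units : Finite (Q →* ℂˣ) :=
  Finite.of_equiv _ (linearCharEquiv Q).symm

theorem card_hom_le_four (c : Q →* Q) (hcc : ∀ x, c (c x) = x) (hexp : ∀ x : Q, x * x = 1)
    (huniq : ∀ l₁ l₂ : Q →* ℂˣ, l₁.comp c = l₁ → l₂.comp c = l₂ → l₁ ≠ 1 → l₂ ≠ 1 → l₁ = l₂) :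
    Nat.card (Q →* ℂˣ) ≤ 4 := by
  classical
  haveI : Finite (Q →* ℂˣ) := finite_hom_units
  let Φ : (Q →* ℂˣ) →* (Q →* ℂˣ) :=
    { toFun := fun l => l * l.comp c
      map_one' := by
        ext x
        simp
      map_mul' := by
        intro l m
        ext x
        simp [mul_mul_mul_comm] }
  have hΦ : ∀ (l : Q →* ℂˣ) (x : Q), Φ l x = l x * l (c x) := fun l x => rfl
  let Inv : Subgroup (Q →* ℂˣ) :=
    { carrier := {l | l.comp c = l}
      one_mem' := by
        ext x
        simp
      mul_mem' := by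
        intro l m hl hm
        have hl' : l.comp c = l := hl
        have hm' : m.comp c = m := hm
        show (l * m).comp c = l * m
        rw [MonoidHom.mul_comp, hl', hm']
      inv_mem' := by
        intro l hl
        have hl' : l.comp c = l := hl
        show (l⁻¹).comp c = l⁻¹
        rw [MonoidHom.inv_comp, hl'] }
  have hInv : ∀ l : Q →* ℂˣ, l ∈ Inv ↔ l.comp c = l := fun l => Iff.rfl
  have hker : Φ.ker ≤ Inv := by
    intro l hl
    rw [MonoidHom.mem_ker] at hl
    rw [hInv]
    ext x
    have h1 : l x * l (c x) = 1 := by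
      rw [← hΦ, hl]; rfl
    have h2 : l x * l x = 1 := by
      rw [← map_mul, hexp, map_one]
    have h3 : l (c x) = l x := mul_left_cancel (h1.trans h2.symm)
    simp [h3]
  have hrange : Φ.range ≤ Inv := by
    rintro _ ⟨l, rfl⟩
    rw [hInv]
    ext x
    simp only [MonoidHom.comp_apply, hΦ, hcc]
    rw [mul_comm]
  have hInvcard : Nat.card Inv ≤ 2 := by
    let f : Inv → Bool := fun l => decide ((l : Q →* ℂˣ) = 1)
    have hf : Function.Injective f := by
      intro l m hlm
      simp only [f] at hlm
      by_cases hl : (l : Q →* ℂˣ) = 1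
      · have hm : (m : Q →* ℂˣ) = 1 := by
          by_contra hm
          simp [hl, hm] at hlm
        exact Subtype.ext (hl.trans hm.symm)
      · have hm : (m : Q →* ℂˣ) ≠ 1 := by
          intro hm
          simp [hl, hm] at hlm
        exact Subtype.ext (huniq l m ((hInv l).mp l.2) ((hInv m).mp m.2) hl hm)
    have := Nat.card_le_card_of_injective f hf
    simpa using this
  have h1 : Nat.card Φ.ker * Nat.card Φ.range = Nat.card (Q →* ℂˣ) := by
    rw [← Subgroup.index_ker]
    exact Subgroup.card_mul_index Φ.ker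
  have h2 : Nat.card Φ.ker ≤ 2 := le_trans (Subgroup.card_le_of_le hker) hInvcard
  have h3 : Nat.card Φ.range ≤ 2 := le_trans (Subgroup.card_le_of_le hrange) hInvcard
  rw [← h1]
  calc Nat.card Φ.ker * Nat.card Φ.range ≤ 2 * 2 := Nat.mul_le_mul h2 h3
    _ = 4 := by norm_num

end phi

section s4b
variable {G : Type*} [Group G] [Fintype G] {χ : G → ℂ} {P : Subgroup G} [Fintype P]

/-- an element outside `P` whose square lies in `P` -/
theorem exists_outside_of_card_two (S : Subgroup G) (hPS : P ≤ S)
    (hcard : Nat.card S = 2 * Nat.card P) :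
    ∃ t ∈ S, t ∉ P ∧ t * t ∈ P ∧ ∀ s ∈ S, s ∈ P ∨ s * t⁻¹ ∈ P := by
  have hidx : (P.subgroupOf S).index = 2 := by
    have h1 := Subgroup.card_mul_index (P.subgroupOf S)
    have h2 : Nat.card (P.subgroupOf S) = Nat.card P :=
      Nat.card_congr (Subgroup.subgroupOfEquivOfLe hPS).toEquiv
    rw [h2, hcard] at h1
    have hpos : 0 < Nat.card P := Nat.card_pos
    have : Nat.card P * (P.subgroupOf S).index = Nat.card P * 2 := by rw [h1]; ring
    exact Nat.eq_of_mul_eq_mul_left hpos this
  have hex : ∃ t ∈ S, t ∉ P := by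
    by_contra hno
    push Not at hno
    have hSP : S = P := le_antisymm hno hPS
    rw [hSP] at hcard
    have hpos : 0 < Nat.card P := Nat.card_pos
    omega
  obtain ⟨t, htS, htP⟩ := hex
  refine ⟨t, htS, htP, ?_, ?_⟩
  · have := Subgroup.mul_self_mem_of_index_two hidx (⟨t, htS⟩ : S)
    exact Subgroup.mem_subgroupOf.mp this
  · intro s hs
    by_cases hsP : s ∈ P
    · exact Or.inl hsP
    · right
      have h1 : ((⟨s, hs⟩ : S) * (⟨t, htS⟩ : S)⁻¹ ∈ P.subgroupOf S) := by
        rw [Subgroup.mul_mem_iff_of_index_two hidx]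
        constructor
        · intro h
          exact absurd (Subgroup.mem_subgroupOf.mp h) hsP
        · intro h
          rw [Subgroup.inv_mem_iff] at h
          exact absurd (Subgroup.mem_subgroupOf.mp h) htP
      exact Subgroup.mem_subgroupOf.mp h1

/-- with a `2`-subgroup of order `2 |P|` containing `P`, the order of `P` is four -/
theorem Core.card_eq_four (h : Core 2 χ P) (S : Subgroup G) [Fintype S] (hPS : P ≤ S)
    (hSp : IsPGroup 2 S) (hcard : Nat.card S = 2 * Nat.card P) : Nat.card P = 4 := by
  classical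
  haveI : Fact (Nat.Prime 2) := ⟨Nat.prime_two⟩
  haveI hPn : P.Normal := h.normal
  obtain ⟨t, htS, htP, htt, hcos⟩ := exists_outside_of_card_two S hPS hcard
  have hcommP : ∀ a b : P, a * b = b * a := fun a b => Subtype.ext (h.comm a a.2 b b.2)
  let c : P →* P := (MulAut.conjNormal t : MulAut P).toMonoidHom
  have hc : ∀ x : P, ((c x : P) : G) = t * x * t⁻¹ := fun x => rfl
  have hcc : ∀ x : P, c (c x) = x := by
    intro x
    apply Subtype.ext
    rw [hc, hc]
    have h1 : (t * t) * x = x * (t * t) := h.comm _ htt _ x.2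
    calc t * (t * (x : G) * t⁻¹) * t⁻¹ = (t * t) * x * (t * t)⁻¹ := by group
      _ = x * (t * t) * (t * t)⁻¹ := by rw [h1]
      _ = x := by group
  have hexp : ∀ x : P, x * x = 1 := by
    intro x
    apply Subtype.ext
    have := h.exponent x x.2
    rw [pow_two] at this
    exact this
  have huniq : ∀ l₁ l₂ : P →* ℂˣ, l₁.comp c = l₁ → l₂.comp c = l₂ → l₁ ≠ 1 → l₂ ≠ 1 →
      l₁ = l₂ := by
    intro l₁ l₂ hl₁ hl₂ hne₁ hne₂
    have key : ∀ l : P →* ℂˣ, l.comp c = l → l ≠ 1 →
        IsCharacter P (fun x => (l x : ℂ)) ∧ (fun x => (l x : ℂ)) 1 = 1 ∧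
        (fun x => (l x : ℂ)) ≠ (fun _ => (1 : ℂ)) ∧
        ∀ s ∈ S, conjFun P h.normal (fun x => (l x : ℂ)) s = (fun x => (l x : ℂ)) := by
      intro l hl hne
      have hirr := isIrrCharacter_of_hom l
      refine ⟨IsIrrCharacter.isCharacter hirr, by simp, ?_, ?_⟩
      · intro e
        apply hne
        ext x
        have := congrFun e x
        simpa using this
      · have ht : conjFun P h.normal (fun x => (l x : ℂ)) t = (fun x => (l x : ℂ)) := by
          funext x
          rw [conjFun_apply]
          have h1 : l (c x) = l x := by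
            have := congrArg (fun f : P →* ℂˣ => f x) hl
            simpa using this
          have h2 : (⟨t * (x : G) * t⁻¹, h.normal.conj_mem x x.2 t⟩ : P) = c x := rfl
          rw [h2, h1]
        intro s hs
        rcases hcos s hs with hsP | hst
        · exact conjFun_of_mem P h.normal (IsIrrCharacter.isClassFunction hirr) hsP
        · have e : s = (s * t⁻¹) * t := by group
          rw [e, ← conjFun_conjFun,
            conjFun_of_mem P h.normal (IsIrrCharacter.isClassFunction hirr) hst, ht]
    obtain ⟨a1, a2, a3, a4⟩ := key l₁ hl₁ hne₁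
    obtain ⟨b1, b2, b3, b4⟩ := key l₂ hl₂ hne₂
    have := h.invariant_unique S hPS hSp hcard a1 a2 a3 a4 b1 b2 b3 b4
    ext x
    exact congrFun this x
  have h4 := card_hom_le_four c hcc hexp huniq
  rw [card_hom_of_comm hcommP] at h4
  have h3 := h.three_le
  obtain ⟨a, ha⟩ := (IsPGroup.iff_card.mp h.pgroup)
  rw [ha] at h4 h3 ⊢
  rcases a with _ | _ | _ | a
  · norm_num at h3
  · norm_num at h3
  · norm_num
  · exfalso
    have : 2 ^ (a + 1 + 1 + 1) = 8 * 2 ^ a := by ring
    rw [this] at h4
    have : 0 < 2 ^ a := by positivity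
    omega

end s4b

end Cfsg.Agent.Lib.Helper3.RU
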