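import Mathlib
import Cfsg.Agent.Lib.Helper6.InvSylow2
import Cfsg.Agent.Lib.Helper6.SecondOrth
import Cfsg.Agent.Lib.Helper6.ClassMult
import Cfsg.Agent.Lib.Helper6.BlkDefect
import Cfsg.Agent.Lib.Helper6.DegreeDvd
import Cfsg.Agent.Lib.Helper6.Auto

set_option autoImplicit false

namespace Cfsg.Agent.Lib.Helper3.RV

open Cfsg Cfsg.Agent.Lib.Helper6
open scoped ComplexConjugate

/-- In a commutative ring, the square of a finite sum equals the sum of squares plus twice
something integral (when all terms are integral). -/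
theorem sq_sum_eq {ι : Type*} [DecidableEq ι] (s : Finset ι) (a : ι → ℂ)
    (ha : ∀ i ∈ s, IsIntegral ℤ (a i)) :
    ∃ B : ℂ, IsIntegral ℤ B ∧ (∑ i ∈ s, a i) ^ 2 = ∑ i ∈ s, (a i) ^ 2 + 2 * B := by
  induction s using Finset.induction_on with
  | empty => exact ⟨0, isIntegral_zero, by simp⟩
  | insert j t hj ih =>
    obtain ⟨B, hB, hBe⟩ := ih (fun i hi => ha i (Finset.mem_insert_of_mem hi))
    have hsumint : IsIntegral ℤ (∑ i ∈ t, a i) :=
      IsIntegral.sum _ (fun i hi => ha i (Finset.mem_insert_of_mem hi))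
    refine ⟨B + a j * ∑ i ∈ t, a i,
      hB.add ((ha j (Finset.mem_insert_self j t)).mul hsumint), ?_⟩
    rw [Finset.sum_insert hj, Finset.sum_insert hj, add_sq, hBe]
    ring

/-- If a nonidentity real element has a centralizer of odd order, some irreducible character
has even degree. -/
theorem exists_even_degree_of_real_of_odd_centralizer {G : Type*} [Group G] [Finite G]
    (x : G) (hx1 : x ≠ 1) (hreal : IsConj x x⁻¹)
    (hodd : Odd (Nat.card ↥(Subgroup.centralizer ({x} : Set G)))) :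
    ∃ χ : Cfsg.IrrCharacter G, Even (Cfsg.charDegree (χ : G → ℂ)) := by
  classical
  have : Fintype G := Fintype.ofFinite G
  have : Fintype (Cfsg.IrrCharacter G) := Fintype.ofFinite _
  by_contra hno
  push Not at hno
  have hoddχ : ∀ χ : Cfsg.IrrCharacter G, Odd (Cfsg.charDegree (χ : G → ℂ)) := fun χ =>
    Nat.not_even_iff_odd.mp (hno χ)
  -- column orthogonality
  have h1 := (sum_irr_mul_conj x x).1 (IsConj.refl x)
  have hrealχ : ∀ χ : Cfsg.IrrCharacter G, conj ((χ : G → ℂ) x) = (χ : G → ℂ) x := by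
    intro χ
    rw [← IsCharacter.apply_inv (IsIrrCharacter.isCharacter χ.2) x]
    exact (isClassFunction_iff_isConj.mp (IsIrrCharacter.isClassFunction χ.2) x x⁻¹ hreal).symm
  have h1' : ∑ χ : Cfsg.IrrCharacter G, ((χ : G → ℂ) x) ^ 2
      = (Nat.card (Subgroup.centralizer ({x} : Set G)) : ℂ) := by
    rw [← h1]
    apply Finset.sum_congr rfl
    intro χ _
    rw [hrealχ χ, sq]
  have h2 := sum_irr_apply_mul_apply_one (G := G) x
  rw [if_neg hx1] at h2
  -- each degree is 2m+1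
  choose m hm using hoddχ
  have hint : ∀ χ : Cfsg.IrrCharacter G, IsIntegral ℤ ((χ : G → ℂ) x) := fun χ =>
    IsCharacter.isIntegral_apply (IsIrrCharacter.isCharacter χ.2) x
  have hS : ∑ χ : Cfsg.IrrCharacter G, (χ : G → ℂ) x
      = 2 * (-(∑ χ : Cfsg.IrrCharacter G, (m χ : ℂ) * (χ : G → ℂ) x)) := by
    have h3 : ∑ χ : Cfsg.IrrCharacter G, (χ : G → ℂ) x * (χ : G → ℂ) 1
        = ∑ χ : Cfsg.IrrCharacter G, ((χ : G → ℂ) x + 2 * ((m χ : ℂ) * (χ : G → ℂ) x)) := by
      apply Finset.sum_congr rfl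
      intro χ _
      rw [IsCharacter.apply_one_eq_charDegree (IsIrrCharacter.isCharacter χ.2), hm χ]
      push_cast
      ring
    rw [h3, Finset.sum_add_distrib, ← Finset.mul_sum] at h2
    linear_combination h2
  have hA : IsIntegral ℤ (-(∑ χ : Cfsg.IrrCharacter G, (m χ : ℂ) * (χ : G → ℂ) x)) := by
    apply IsIntegral.neg
    apply IsIntegral.sum
    intro χ _
    have h0 : IsIntegral ℤ ((m χ : ℕ) : ℂ) := by
      have := isIntegral_algebraMap (R := ℤ) (A := ℂ) (x := (m χ : ℤ))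
      simpa using this
    exact h0.mul (hint χ)
  obtain ⟨B, hB, hBe⟩ := sq_sum_eq (Finset.univ : Finset (Cfsg.IrrCharacter G))
    (fun χ => (χ : G → ℂ) x) (fun χ _ => hint χ)
  set A := -(∑ χ : Cfsg.IrrCharacter G, (m χ : ℂ) * (χ : G → ℂ) x) with hAdef
  rw [hS, h1'] at hBe
  -- card = 2 * (2A^2 - B)
  have hcard : (Nat.card (Subgroup.centralizer ({x} : Set G)) : ℂ) / ((2 : ℕ) : ℂ)
      = 2 * A ^ 2 - B := by
    push_cast
    field_simp
    linear_combination (-1 : ℂ) * hBe
  have hZ : IsIntegral ℤ ((Nat.card (Subgroup.centralizer ({x} : Set G)) : ℂ) / ((2 : ℕ) : ℂ)) := by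
    rw [hcard]
    have h0 : IsIntegral ℤ (2 : ℂ) := by
      have := isIntegral_algebraMap (R := ℤ) (A := ℂ) (x := (2 : ℤ))
      simpa using this
    exact (h0.mul (hA.pow 2)).sub hB
  have hdvd := nat_dvd_of_isIntegral_div (by norm_num) hZ
  exact (Nat.not_even_iff_odd.mpr hodd) (even_iff_two_dvd.mpr hdvd)

end Cfsg.Agent.Lib.Helper3.RV
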