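import Mathlib
import Cfsg.Agent.Lib.Helper5.RankOneHom

set_option autoImplicit false
set_option maxHeartbeats 4000000
set_option linter.style.haveILetI false
set_option linter.unusedVariables false
set_option linter.unusedSectionVars false
set_option linter.style.longLine false

/-!
Abstract rank-one analysis (twisted-Out farm, unit C0/C12 abstract): an injective homomorphism
`θ : S →* S'` carrying the image of the upper (lower) unitriangular subgroup of `SL₂(k)` under
`φ : SL₂(k) →* S` onto the image of the upper (into the lower) unitriangular subgroup of `SL₂(k')`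
under `φ' : SL₂(k') →* S'`, both homomorphisms with kernel inside `{±1}`, is "diagonal times field
isomorphism" on these groups.  Pure `SL₂`/finite field computation; this is helper2's C12 proof with the
Chevalley root elements replaced by `φ (uu t)`, `φ (ll t)`, `φ (dd t)`.
-/

namespace Cfsg.Agent.Lib.Helper3.RankOneAbs

open Cfsg.Agent.Lib.Helper5.RankOneHom

section Calc

variable {F : Type*} [Field F]

local notation "SL2" => Matrix.SpecialLinearGroup (Fin 2) F

theorem uu_add (a b : F) : (uu (a + b) : SL2) = uu a * uu b := by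
  apply Subtype.ext
  rw [Matrix.SpecialLinearGroup.coe_mul]
  ext i j
  fin_cases i <;> fin_cases j <;> simp [uu, Matrix.mul_apply, Fin.sum_univ_two, add_comm]

theorem ll_add (a b : F) : (ll (a + b) : SL2) = ll a * ll b := by
  apply Subtype.ext
  rw [Matrix.SpecialLinearGroup.coe_mul]
  ext i j
  fin_cases i <;> fin_cases j <;> simp [ll, Matrix.mul_apply, Fin.sum_univ_two, add_comm]

theorem uu_param_zero (t : F) (h : (uu t : SL2) = 1 ∨ (uu t : SL2) = -1) : t = 0 := by
  rcases h with h | h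
  · have e := congrArg (fun X : SL2 => (X : Matrix (Fin 2) (Fin 2) F) 0 1) h
    simpa [uu] using e
  · have e := congrArg (fun X : SL2 => (X : Matrix (Fin 2) (Fin 2) F) 0 1) h
    simpa [uu] using e

theorem ll_param_zero (t : F) (h : (ll t : SL2) = 1 ∨ (ll t : SL2) = -1) : t = 0 := by
  rcases h with h | h
  · have e := congrArg (fun X : SL2 => (X : Matrix (Fin 2) (Fin 2) F) 1 0) h
    simpa [ll] using e
  · have e := congrArg (fun X : SL2 => (X : Matrix (Fin 2) (Fin 2) F) 1 0) h
    simpa [ll] using e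

/-- the element `n(s) = u(s) l(-s⁻¹) u(s)` -/
def nE (s : F) : SL2 := uu s * ll (-s⁻¹) * uu s

theorem nE_eq (s : F) (hs : s ≠ 0) : (nE s : SL2) = dd s hs * nn := (dd_mul_nn s hs).symm

theorem ddnn_mul (a e : F) (ha : a ≠ 0) (he : e ≠ 0) :
    ((dd a ha * nn) * (dd e he * nn) : SL2)
      = dd (-(a / e)) (neg_ne_zero.2 (div_ne_zero ha he)) := by
  apply Subtype.ext
  simp only [Matrix.SpecialLinearGroup.coe_mul]
  ext i j
  fin_cases i <;> fin_cases j <;>
    simp [dd, nn, Matrix.mul_apply, Fin.sum_univ_two]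
  · field_simp
  · field_simp

theorem nE_mul (a e : F) (ha : a ≠ 0) (he : e ≠ 0) :
    (nE a * nE e : SL2) = dd (-(a / e)) (neg_ne_zero.2 (div_ne_zero ha he)) := by
  rw [nE_eq a ha, nE_eq e he, ddnn_mul]

theorem dd_congr (a b : F) (ha : a ≠ 0) (hb : b ≠ 0) (h : a = b) : (dd a ha : SL2) = dd b hb := by
  subst h; rfl

theorem dd_eq_nE (t : F) (ht : t ≠ 0) : (dd t ht : SL2) = nE t * nE (-1) := by
  rw [nE_mul t (-1) ht (by norm_num)]
  apply dd_congr
  field_simp

theorem dd_conj_uu (t u : F) (ht : t ≠ 0) :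
    (dd t ht * uu u * (dd t ht)⁻¹ : SL2) = uu (t ^ 2 * u) := by
  rw [mul_inv_eq_iff_eq_mul]
  apply Subtype.ext
  simp only [Matrix.SpecialLinearGroup.coe_mul]
  ext i j
  fin_cases i <;> fin_cases j <;>
    simp [dd, uu, Matrix.mul_apply, Fin.sum_univ_two]
  field_simp

theorem nE_conj_uu (t u : F) (ht : t ≠ 0) :
    (nE t * uu u * (nE t)⁻¹ : SL2) = ll (-(t⁻¹ ^ 2 * u)) := by
  rw [nE_eq t ht, mul_inv_eq_iff_eq_mul]
  apply Subtype.ext
  simp only [Matrix.SpecialLinearGroup.coe_mul]
  ext i j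
  fin_cases i <;> fin_cases j <;>
    simp [dd, uu, ll, nn, Matrix.mul_apply, Fin.sum_univ_two]
  field_simp

/-- the key rank-one relation: if (the image of) `u(a) l(b) u(a)` conjugates (the image of) `u(u)`,
`u ≠ 0`, into the image of the lower unitriangular group, then `a b = -1`. -/
theorem key_rel {S : Type*} [Group S] (φ : SL2 →* S)
    (hk : ∀ g : SL2, φ g = 1 → g = 1 ∨ g = -1)
    (a b s u : F) (hu : u ≠ 0)
    (h : (φ (uu a) * φ (ll b) * φ (uu a)) * φ (uu u) * (φ (uu a) * φ (ll b) * φ (uu a))⁻¹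
          = φ (ll s)) :
    a * b = -1 := by
  set M : SL2 := uu a * ll b * uu a with hM
  have hφK : φ (M * uu u * M⁻¹ * (ll s)⁻¹) = 1 := by
    rw [map_mul, map_inv, mul_inv_eq_one, map_mul, map_mul, map_inv, hM, map_mul, map_mul]
    exact h
  have hp : (1 + a * b) * u = 0 ∨ ((1 + a * b) ^ 2) * u = 0 := by
    rcases hk _ hφK with hK | hK
    · left
      rw [mul_inv_eq_one, mul_inv_eq_iff_eq_mul] at hK
      have e := congrArg (fun X : SL2 => (X : Matrix (Fin 2) (Fin 2) F)) hK
      simp only [hM, Matrix.SpecialLinearGroup.coe_mul] at e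
      have e01 := congrFun (congrFun e 0) 1
      simp [uu, ll, Matrix.mul_apply, Fin.sum_univ_two] at e01
      rcases e01 with h | h
      · rw [h, zero_mul]
      · rw [h, mul_zero]
    · right
      rw [mul_inv_eq_iff_eq_mul, mul_inv_eq_iff_eq_mul] at hK
      have e := congrArg (fun X : SL2 => (X : Matrix (Fin 2) (Fin 2) F)) hK
      simp only [hM, Matrix.SpecialLinearGroup.coe_mul, Matrix.SpecialLinearGroup.coe_neg,
        Matrix.SpecialLinearGroup.coe_one] at e
      have e00 := congrFun (congrFun e 0) 0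
      have e01 := congrFun (congrFun e 0) 1
      simp [uu, ll, Matrix.mul_apply, Fin.sum_univ_two] at e00 e01
      linear_combination (1 + a * b) * e01 - ((1 + a * b) * a + a) * e00
  have hp0 : 1 + a * b = 0 := by
    rcases hp with h | h
    · rcases mul_eq_zero.1 h with h | h
      · exact h
      · exact absurd h hu
    · rcases mul_eq_zero.1 h with h | h
      · exact pow_eq_zero_iff (two_ne_zero) |>.1 h
      · exact absurd h hu
  linear_combination hp0

end Calc

/-- an additive map between finite fields with `σ 1 = 1` and `σ(t² u) = σ(t)² σ(u)` is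
multiplicative -/
theorem mul_of_sq {k k' : Type*} [Field k] [Field k'] [Finite k] (σ : k → k')
    (hadd : ∀ s t, σ (s + t) = σ s + σ t)
    (hone : σ 1 = 1) (hsq : ∀ t u, σ (t ^ 2 * u) = (σ t) ^ 2 * σ u) :
    ∀ s u, σ (s * u) = σ s * σ u := by
  have hzero : σ 0 = 0 := by
    have := hadd 0 0
    rw [add_zero] at this
    linear_combination -this
  have hneg : ∀ x, σ (-x) = -σ x := by
    intro x
    have := hadd x (-x)
    rw [add_neg_cancel, hzero] at this
    linear_combination -this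
  have hsub : ∀ x y, σ (x - y) = σ x - σ y := by
    intro x y
    rw [sub_eq_add_neg, hadd, hneg]
    ring
  have hsq1 : ∀ t, σ (t ^ 2) = (σ t) ^ 2 := by
    intro t
    have := hsq t 1
    rwa [mul_one, hone, mul_one] at this
  have hsqmul : ∀ t u, σ (t ^ 2 * u) = σ (t ^ 2) * σ u := by
    intro t u
    rw [hsq, hsq1]
  intro s u
  by_cases h2 : (2 : k) = 0
  · have hinj : Function.Injective (fun x : k => x ^ 2) := by
      intro x y hxy
      have hxy' : x ^ 2 = y ^ 2 := hxy
      have : (x - y) ^ 2 = 0 := by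
        linear_combination hxy' + (y ^ 2 - x * y) * h2
      exact sub_eq_zero.1 ((pow_eq_zero_iff two_ne_zero).1 this)
    obtain ⟨t, rfl⟩ := (Finite.injective_iff_surjective.1 hinj) s
    exact hsqmul t u
  · have hs : s = ((s + 1) / 2) ^ 2 - ((s - 1) / 2) ^ 2 := by
      field_simp
      ring
    rw [hs, sub_mul, hsub, hsqmul, hsqmul, hsub]
    ring

section Main

variable {k k' : Type*} [Field k] [Field k'] {S S' : Type*} [Group S] [Group S']

/-- **abstract C1+C2 (rank one)**: `θ(φ(u(t))) = φ'(u(c σ t))`, `θ(φ(l(t))) = φ'(l(c⁻¹ σ t))`,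
`θ(φ(d(t))) = φ'(d(σ t))` with a field isomorphism `σ : k ≃+* k'`. -/
theorem rank_one_form_abs [Finite k]
    (φ : Matrix.SpecialLinearGroup (Fin 2) k →* S) (φ' : Matrix.SpecialLinearGroup (Fin 2) k' →* S')
    (hk : ∀ g, φ g = 1 → g = 1 ∨ g = -1) (hk' : ∀ g, φ' g = 1 → g = 1 ∨ g = -1)
    (θ : S →* S') (hθ : Function.Injective θ)
    (h1 : ∀ t : k, ∃ u : k', θ (φ (uu t)) = φ' (uu u))
    (h1s : ∀ u : k', ∃ t : k, θ (φ (uu t)) = φ' (uu u))
    (h2 : ∀ t : k, ∃ u : k', θ (φ (ll t)) = φ' (ll u)) :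
    ∃ (c : k'ˣ) (σ : k ≃+* k'),
      (∀ t, θ (φ (uu t)) = φ' (uu ((c : k') * σ t))) ∧
      (∀ t, θ (φ (ll t)) = φ' (ll (((c⁻¹ : k'ˣ) : k') * σ t))) ∧
      (∀ (t : k) (ht : t ≠ 0) (ht' : σ t ≠ 0), θ (φ (dd t ht)) = φ' (dd (σ t) ht')) := by
  -- injectivity of the parametrisations
  have hXinj : ∀ a b : k, φ (uu a) = φ (uu b) → a = b := by
    intro a b h
    have : φ (uu (a - b)) = 1 := by
      rw [sub_eq_add_neg, uu_add, map_mul, h, ← map_mul, ← uu_add, add_neg_cancel]
      have : (uu (0 : k)) = 1 := by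
        apply Subtype.ext
        ext i j
        fin_cases i <;> fin_cases j <;> simp [uu]
      rw [this, map_one]
    exact sub_eq_zero.1 (uu_param_zero _ (hk _ this))
  have hYinj : ∀ a b : k, φ (ll a) = φ (ll b) → a = b := by
    intro a b h
    have : φ (ll (a - b)) = 1 := by
      rw [sub_eq_add_neg, ll_add, map_mul, h, ← map_mul, ← ll_add, add_neg_cancel]
      have : (ll (0 : k)) = 1 := by
        apply Subtype.ext
        ext i j
        fin_cases i <;> fin_cases j <;> simp [ll]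
      rw [this, map_one]
    exact sub_eq_zero.1 (ll_param_zero _ (hk _ this))
  have hX'inj : ∀ a b : k', φ' (uu a) = φ' (uu b) → a = b := by
    intro a b h
    have : φ' (uu (a - b)) = 1 := by
      rw [sub_eq_add_neg, uu_add, map_mul, h, ← map_mul, ← uu_add, add_neg_cancel]
      have : (uu (0 : k')) = 1 := by
        apply Subtype.ext
        ext i j
        fin_cases i <;> fin_cases j <;> simp [uu]
      rw [this, map_one]
    exact sub_eq_zero.1 (uu_param_zero _ (hk' _ this))
  have hY'inj : ∀ a b : k', φ' (ll a) = φ' (ll b) → a = b := by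
    intro a b h
    have : φ' (ll (a - b)) = 1 := by
      rw [sub_eq_add_neg, ll_add, map_mul, h, ← map_mul, ← ll_add, add_neg_cancel]
      have : (ll (0 : k')) = 1 := by
        apply Subtype.ext
        ext i j
        fin_cases i <;> fin_cases j <;> simp [ll]
      rw [this, map_one]
    exact sub_eq_zero.1 (ll_param_zero _ (hk' _ this))
  choose φ₀ hφ using h1
  choose ψ₀ hψ using h2
  have hφadd : ∀ s t, φ₀ (s + t) = φ₀ s + φ₀ t := by
    intro s t
    apply hX'inj
    rw [← hφ, uu_add, map_mul, map_mul, hφ, hφ, uu_add, map_mul]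
  have hψadd : ∀ s t, ψ₀ (s + t) = ψ₀ s + ψ₀ t := by
    intro s t
    apply hY'inj
    rw [← hψ, ll_add, map_mul, map_mul, hψ, hψ, ll_add, map_mul]
  have hφinj : Function.Injective φ₀ := by
    intro s t hst
    apply hXinj
    apply hθ
    rw [hφ, hφ, hst]
  have hφsurj : Function.Surjective φ₀ := by
    intro u
    obtain ⟨t, ht⟩ := h1s u
    refine ⟨t, ?_⟩
    apply hX'inj
    rw [← hφ, ht]
  have hφ0 : φ₀ 0 = 0 := by
    have := hφadd 0 0
    rw [add_zero] at this
    linear_combination -this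
  have hψ0 : ψ₀ 0 = 0 := by
    have := hψadd 0 0
    rw [add_zero] at this
    linear_combination -this
  have hφne : ∀ t, t ≠ 0 → φ₀ t ≠ 0 := fun t ht h0 => ht (hφinj (h0.trans hφ0.symm))
  obtain ⟨c, hcdef⟩ : ∃ c, c = φ₀ 1 := ⟨_, rfl⟩
  have hc : c ≠ 0 := by
    rw [hcdef]
    exact hφne 1 one_ne_zero
  have hφneg1 : φ₀ (-1) = -c := by
    have := hφadd (-1) 1
    rw [neg_add_cancel, hφ0, ← hcdef] at this
    linear_combination -this
  -- the key relation
  have hkey : ∀ t, t ≠ 0 → φ₀ t * ψ₀ (-t⁻¹) = -1 := by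
    intro t ht
    have hrel := congrArg (fun g => θ (φ g)) (nE_conj_uu (F := k) t 1 ht)
    simp only [nE, map_mul, map_inv, hφ, hψ] at hrel
    rw [← hcdef] at hrel
    exact key_rel φ' hk' _ _ _ c hc hrel
  have hψform : ∀ t, t ≠ 0 → ψ₀ (-t⁻¹) = -(φ₀ t)⁻¹ := by
    intro t ht
    have h := hkey t ht
    have ha := hφne t ht
    have : ψ₀ (-t⁻¹) = -1 / φ₀ t := by
      rw [eq_div_iff ha]
      linear_combination h
    rw [this, neg_div, one_div]
  -- the `h`-elements
  have hH : ∀ (t : k) (ht : t ≠ 0) (hne : φ₀ t / c ≠ 0),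
      θ (φ (dd t ht)) = φ' (dd (φ₀ t / c) hne) := by
    intro t ht hne
    rw [dd_eq_nE t ht]
    simp only [nE, map_mul, hφ, hψ]
    rw [hψform t ht, hψform (-1) (by norm_num)]
    have hmul := nE_mul (F := k') (φ₀ t) (φ₀ (-1)) (hφne t ht) (hφne (-1) (by norm_num))
    have hmul' := congrArg φ' hmul
    simp only [nE, map_mul] at hmul'
    rw [hmul']
    congr 1
    apply dd_congr
    rw [hφneg1]
    field_simp
  -- the field isomorphism
  have hσadd : ∀ s t, φ₀ (s + t) / c = φ₀ s / c + φ₀ t / c := by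
    intro s t
    rw [hφadd, add_div]
  have hσone : φ₀ 1 / c = 1 := by
    rw [← hcdef, div_self hc]
  have hσsq : ∀ t u, φ₀ (t ^ 2 * u) / c = (φ₀ t / c) ^ 2 * (φ₀ u / c) := by
    intro t u
    by_cases ht : t = 0
    · subst ht
      rw [zero_pow two_ne_zero, zero_mul, hφ0, zero_div, zero_pow two_ne_zero, zero_mul]
    · have hσt : φ₀ t / c ≠ 0 := div_ne_zero (hφne t ht) hc
      have hrel := congrArg (fun g => θ (φ g)) (dd_conj_uu (F := k) t u ht)
      simp only [map_mul, map_inv, hφ] at hrel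
      rw [hH t ht hσt, ← map_inv, ← map_mul, ← map_mul, dd_conj_uu] at hrel
      have := hX'inj _ _ hrel
      rw [← this]
      field_simp
  have hσmul := mul_of_sq (fun t => φ₀ t / c) hσadd hσone hσsq
  have hσinj : Function.Injective (fun t => φ₀ t / c) := by
    intro s t hst
    apply hφinj
    have hst' : φ₀ s / c = φ₀ t / c := hst
    field_simp at hst'
    exact hst'
  have hσsurj : Function.Surjective (fun t => φ₀ t / c) := by
    intro u
    obtain ⟨t, ht⟩ := hφsurj (u * c)
    refine ⟨t, ?_⟩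
    show φ₀ t / c = u
    rw [ht, mul_div_cancel_right₀ _ hc]
  set σh : k →+* k' :=
    { toFun := fun t => φ₀ t / c
      map_one' := hσone
      map_mul' := hσmul
      map_zero' := by rw [hφ0, zero_div]
      map_add' := hσadd } with hσh
  set σ : k ≃+* k' := RingEquiv.ofBijective σh ⟨hσinj, hσsurj⟩ with hσ
  have hσapp : ∀ t, σ t = φ₀ t / c := fun t => rfl
  refine ⟨Units.mk0 c hc, σ, ?_, ?_, ?_⟩
  · intro t
    rw [hφ, hσapp, Units.val_mk0, mul_div_cancel₀ _ hc]
  · intro t
    rw [hψ]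
    congr 2
    rw [Units.val_inv_eq_inv_val, Units.val_mk0]
    by_cases ht : t = 0
    · subst ht
      rw [hψ0, map_zero, mul_zero]
    · have hs : -t⁻¹ ≠ 0 := neg_ne_zero.2 (inv_ne_zero ht)
      have hts : -(-t⁻¹)⁻¹ = t := by
        field_simp
      have e := hψform (-t⁻¹) hs
      rw [hts] at e
      have e2 : φ₀ (-t⁻¹) = c * σ (-t⁻¹) := by
        rw [hσapp, mul_div_cancel₀ _ hc]
      have hσt : σ t ≠ 0 := fun h0 => ht ((map_eq_zero σ).1 h0)
      rw [e, e2, map_neg, map_inv₀]
      field_simp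
  · intro t ht ht'
    exact hH t ht ht'

/-- variant for a multiplicative equivalence, with the cardinality consequence -/
theorem rank_one_form_equiv [Finite k]
    (φ : Matrix.SpecialLinearGroup (Fin 2) k →* S) (φ' : Matrix.SpecialLinearGroup (Fin 2) k' →* S')
    (hk : ∀ g, φ g = 1 → g = 1 ∨ g = -1) (hk' : ∀ g, φ' g = 1 → g = 1 ∨ g = -1)
    (θ : S ≃* S')
    (h1 : ∀ t : k, ∃ u : k', θ (φ (uu t)) = φ' (uu u))
    (h1s : ∀ u : k', ∃ t : k, θ (φ (uu t)) = φ' (uu u))
    (h2 : ∀ t : k, ∃ u : k', θ (φ (ll t)) = φ' (ll u)) :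
    ∃ (c : k'ˣ) (σ : k ≃+* k'),
      (∀ t, θ (φ (uu t)) = φ' (uu ((c : k') * σ t))) ∧
      (∀ t, θ (φ (ll t)) = φ' (ll (((c⁻¹ : k'ˣ) : k') * σ t))) ∧
      (∀ (t : k) (ht : t ≠ 0) (ht' : σ t ≠ 0), θ (φ (dd t ht)) = φ' (dd (σ t) ht')) ∧
      Nat.card k = Nat.card k' := by
  obtain ⟨c, σ, h1', h2', h3'⟩ := rank_one_form_abs φ φ' hk hk' θ.toMonoidHom θ.injective h1 h1s h2
  exact ⟨c, σ, h1', h2', h3', Nat.card_congr σ.toEquiv⟩

end Main

end Cfsg.Agent.Lib.Helper3.RankOneAbs
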