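import Mathlib
import Cfsg.Agent.Lib.Helper3.RelM3

set_option autoImplicit false
set_option linter.unusedSectionVars false

namespace Cfsg.Agent.Lib.Helper3.RelM
open Cfsg Cfsg.Agent.Lib.Helper6
open scoped ComplexConjugate commutatorElement

section G
variable {X : Type*} [Group X] [Finite X]

/-- a finite group of class two modulo `K` with abelian Sylow subgroups is abelian modulo `K` -/
theorem commutator_le_of_class_two (K : Subgroup X) [K.Normal]
    (h2 : ⁅⁅(⊤ : Subgroup X), (⊤ : Subgroup X)⁆, (⊤ : Subgroup X)⁆ ≤ K)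
    (hab : ∀ (p : ℕ) [Fact p.Prime] (P : Sylow p X), ∀ a ∈ P, ∀ b ∈ P, a * b = b * a) :
    ⁅(⊤ : Subgroup X), (⊤ : Subgroup X)⁆ ≤ K := by
  classical
  have hsurj := QuotientGroup.mk'_surjective K
  have hnil : Group.IsNilpotent (X ⧸ K) := by
    rw [Subgroup.nilpotent_iff_lowerCentralSeries]
    refine ⟨2, ?_⟩
    rw [Subgroup.lowerCentralSeries_succ, Subgroup.lowerCentralSeries_succ,
      Subgroup.lowerCentralSeries_zero, eq_bot_iff]
    have h4 : (⁅⁅(⊤ : Subgroup X), (⊤ : Subgroup X)⁆, (⊤ : Subgroup X)⁆).map (QuotientGroup.mk' K)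
        = ⁅⁅(⊤ : Subgroup (X ⧸ K)), (⊤ : Subgroup (X ⧸ K))⁆, (⊤ : Subgroup (X ⧸ K))⁆ := by
      rw [Subgroup.map_commutator, Subgroup.map_commutator,
        Subgroup.map_top_of_surjective _ hsurj]
    rw [← h4]
    intro x hx
    obtain ⟨y, hy, rfl⟩ := hx
    rw [Subgroup.mem_bot]
    exact (QuotientGroup.eq_one_iff y).2 (h2 hy)
  have hQab : ∀ (p : ℕ) [Fact p.Prime] (P : Sylow p (X ⧸ K)), ∀ a ∈ P, ∀ b ∈ P, a * b = b * a := by
    intro p _ P a ha b hb
    obtain ⟨P₀, rfl⟩ := Sylow.mapSurjective_surjective hsurj p P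
    have ha' : a ∈ (P₀ : Subgroup X).map (QuotientGroup.mk' K) := ha
    have hb' : b ∈ (P₀ : Subgroup X).map (QuotientGroup.mk' K) := hb
    obtain ⟨a₀, ha₀, rfl⟩ := ha'
    obtain ⟨b₀, hb₀, rfl⟩ := hb'
    rw [← map_mul, ← map_mul, hab p P₀ a₀ ha₀ b₀ hb₀]
  obtain ⟨e⟩ := (Group.isNilpotent_of_finite_tfae (G := X ⧸ K)).out 0 4 |>.1 hnil
  have hcomm : ∀ a b : X ⧸ K, a * b = b * a := by
    intro a b
    obtain ⟨x, rfl⟩ := e.surjective a
    obtain ⟨y, rfl⟩ := e.surjective b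
    rw [← map_mul, ← map_mul]
    congr 1
    funext p P
    apply Subtype.ext
    have : Fact (Nat.Prime ↑p) := Fact.mk <| Nat.prime_of_mem_primeFactors p.2
    have := hQab p P (x p P) (x p P).2 (y p P) (y p P).2
    simpa using this
  rw [Subgroup.commutator_le]
  intro a _ b _
  rw [← QuotientGroup.eq_one_iff, commutatorElement_def]
  simp only [QuotientGroup.mk_mul, QuotientGroup.mk_inv]
  rw [hcomm (a : X ⧸ K) b]
  group

end G

section C
variable {H : Type*} [Group H] [Fintype H]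

/-- a primitive irreducible character is quasi-primitive -/
theorem invariant_of_primitive {ψ : H → ℂ} (hψ : IsIrrCharacter H ψ)
    (hprim : ∀ T : Subgroup H, (∃ η : T → ℂ, IsIrrCharacter T η ∧ indFun T η = ψ) → T = ⊤)
    (M : Subgroup H) [Fintype M] (hM : M.Normal) (θ : M → ℂ) (hθ : IsIrrCharacter M θ)
    (hc : classInner (fun n : M => ψ n) θ ≠ 0) : ∀ g : H, conjFun M hM θ g = θ := by
  classical
  let T := inertia M hM θ
  have hMT : M ≤ T := le_inertia M hM (IsIrrCharacter.isClassFunction hθ)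
  obtain ⟨η, _, hη⟩ := exists_indFun_eq_of_stab M hM T hMT ⟨θ, hθ⟩ (fun g hg => hg) ⟨ψ, hψ⟩ hc
  have hT := hprim T ⟨η.1, η.2, hη⟩
  intro g
  have : g ∈ T := by rw [hT]; trivial
  exact this

theorem commutator_top_le_charKer {ψ : H → ℂ} (hψ : IsIrrCharacter H ψ)
    (hprim : ∀ T : Subgroup H, (∃ η : T → ℂ, IsIrrCharacter T η ∧ indFun T η = ψ) → T = ⊤)
    (M : Subgroup H) [Fintype M] (hM : M.Normal)
    (hMM : ⁅M, M⁆ ≤ charKer (IsIrrCharacter.isCharacter hψ)) :
    ⁅M, (⊤ : Subgroup H)⁆ ≤ charKer (IsIrrCharacter.isCharacter hψ) := by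
  classical
  obtain ⟨θ, hc⟩ := exists_constituent_restrict M hψ
  have hinv := invariant_of_primitive hψ hprim M hM θ.1 θ.2 hc
  have hres := restrict_eq_smul_of_invariant M hM hψ θ.2 hinv hc
  set c := classInner (fun n : M => ψ n) (θ : M → ℂ) with hcdef
  have hval : ∀ m : M, ψ m = c * (θ : M → ℂ) m := by
    intro m
    have := congrFun hres m
    simpa using this
  have hθ1 : (θ : M → ℂ) 1 = 1 := by
    apply apply_one_eq_one_of_commutator θ.2
    intro z hz
    have hz' : (z : H) ∈ ⁅M, M⁆ := by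
      rw [commutator_def] at hz
      have h1 : (⁅(⊤ : Subgroup M), (⊤ : Subgroup M)⁆).map M.subtype ≤ ⁅M, M⁆ := by
        rw [Subgroup.map_commutator]
        exact Subgroup.commutator_mono (Subgroup.map_subtype_le _) (Subgroup.map_subtype_le _)
      exact h1 ⟨z, hz, rfl⟩
    have h2 := hMM hz'
    rw [mem_charKer] at h2
    have h3 := hval z
    have h4 := hval 1
    rw [h2] at h3
    simp only [OneMemClass.coe_one] at h4
    rw [h4] at h3
    exact (mul_left_cancel₀ hc h3).symm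
  have hmul := IsCharacter.mul_of_apply_one_eq_one (IsIrrCharacter.isCharacter θ.2) hθ1
  rw [Subgroup.commutator_le]
  intro m hm h _
  rw [mem_charKer]
  have hmem : h * m⁻¹ * h⁻¹ ∈ M := hM.conj_mem _ (M.inv_mem hm) h
  have h5 : ⁅m, h⁆ = ((⟨m, hm⟩ * ⟨h * m⁻¹ * h⁻¹, hmem⟩ : M) : H) := by
    rw [commutatorElement_def]
    simp only [Subgroup.coe_mul]
    group
  rw [h5, hval, hmul]
  have h6 : (θ : M → ℂ) ⟨h * m⁻¹ * h⁻¹, hmem⟩ = (θ : M → ℂ) (⟨m, hm⟩⁻¹ : M) := by
    have := congrFun (hinv h) (⟨m, hm⟩⁻¹ : M)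
    rw [conjFun_apply] at this
    exact this
  rw [h6, ← hmul, mul_inv_cancel]
  have h4 := hval 1
  simp only [OneMemClass.coe_one] at h4
  rw [h4]

end C

end Cfsg.Agent.Lib.Helper3.RelM
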