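import Mathlib
import Cfsg.Agent.Lib.Helper3.RelM4

set_option autoImplicit false
set_option linter.unusedSectionVars false

namespace Cfsg.Agent.Lib.Helper3.RelM
open Cfsg Cfsg.Agent.Lib.Helper6
open scoped ComplexConjugate commutatorElement

section prim
variable {H : Type*} [Group H] [Fintype H]

/-- primitive case -/
theorem apply_one_eq_one_of_primitive [Group.IsSolvable H] (N : Subgroup H) [N.Normal]
    (habQ : ∀ (p : ℕ) [Fact p.Prime] (Q : Subgroup H), Q ≤ N → IsPGroup p Q →
      ∀ a ∈ Q, ∀ b ∈ Q, a * b = b * a)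
    {ψ : H → ℂ} (hψ : IsIrrCharacter H ψ)
    (hres : IsIrrCharacter N (fun n : N => ψ n))
    (hprim : ∀ T : Subgroup H, (∃ η : T → ℂ, IsIrrCharacter T η ∧ indFun T η = ψ) → T = ⊤) :
    ψ 1 = 1 := by
  classical
  set K := charKer (IsIrrCharacter.isCharacter hψ) with hK
  have hKn : K.Normal := charKer_normal _
  let S : Set (Subgroup H) := {M | M.Normal ∧ M ≤ N ∧ ⁅M, (⊤ : Subgroup H)⁆ ≤ K}
  have hSne : S.Nonempty := ⟨⊥, inferInstance, bot_le, by
    rw [Subgroup.commutator_bot_left]; exact bot_le⟩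
  obtain ⟨M, hMmax⟩ := (Set.toFinite S).exists_maximal hSne
  obtain ⟨⟨hMn, hMN, hMK⟩, hMge⟩ := hMmax
  have hMeq : M = N := by
    by_contra hne
    have hlt : M < N := lt_of_le_of_ne hMN hne
    let D : ℕ → Subgroup H := fun i => derivedSeries H i ⊓ N
    have hDn : ∀ i, (D i).Normal := fun i => inferInstance
    obtain ⟨n, hn⟩ := (inferInstance : Group.IsSolvable H).solvable
    have hex : ∃ i, D i ≤ M := ⟨n, by simp only [D]; rw [hn]; simp⟩
    have hD0 : ¬ D 0 ≤ M := by
      simp only [D, derivedSeries_zero, top_inf_eq]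
      exact not_le_of_gt hlt
    have hfind := Nat.find_spec hex
    have hpos : Nat.find hex ≠ 0 := by
      intro h0
      rw [h0] at hfind
      exact hD0 hfind
    obtain ⟨j, hj⟩ := Nat.exists_eq_succ_of_ne_zero hpos
    have hDj : ¬ D j ≤ M := Nat.find_min hex (by omega)
    have hDj1 : D (j + 1) ≤ M := by rw [← Nat.succ_eq_add_one, ← hj]; exact hfind
    have hDD : ⁅D j, D j⁆ ≤ D (j + 1) := by
      simp only [D]
      rw [derivedSeries_succ]
      apply le_inf
      · exact Subgroup.commutator_mono inf_le_left inf_le_left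
      · exact (Subgroup.commutator_mono inf_le_right inf_le_right).trans
          (Subgroup.commutator_le_right N N)
    let L := D j ⊔ M
    have hLn : L.Normal := by
      have := hDn j
      have := hMn
      exact inferInstance
    have hLN : L ≤ N := sup_le inf_le_right hMN
    have hLL : ⁅L, L⁆ ≤ M := by
      have := hMn
      calc ⁅L, L⁆ ≤ ⁅D j, D j⁆ ⊔ M := commutator_sup_le (D j) M
        _ ≤ M := sup_le (hDD.trans hDj1) le_rfl
    -- class two mod K
    have hLK : ⁅L, L⁆ ≤ K := by
      have hK1 : (K.subgroupOf L).Normal := by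
        have := hKn
        exact inferInstance
      have h2 : ⁅⁅(⊤ : Subgroup L), (⊤ : Subgroup L)⁆, (⊤ : Subgroup L)⁆ ≤ K.subgroupOf L := by
        rw [Subgroup.commutator_le]
        intro g₁ hg₁ g₂ _
        rw [Subgroup.mem_subgroupOf]
        have h3 : (g₁ : H) ∈ ⁅L, L⁆ := by
          have h1 : (⁅(⊤ : Subgroup L), (⊤ : Subgroup L)⁆).map L.subtype ≤ ⁅L, L⁆ := by
            rw [Subgroup.map_commutator]
            exact Subgroup.commutator_mono (Subgroup.map_subtype_le _) (Subgroup.map_subtype_le _)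
          exact h1 ⟨g₁, hg₁, rfl⟩
        have h4 : ⁅(g₁ : H), (g₂ : H)⁆ ∈ ⁅M, (⊤ : Subgroup H)⁆ :=
          Subgroup.commutator_mem_commutator (hLL h3) (Subgroup.mem_top _)
        have h5 : ((⁅g₁, g₂⁆ : L) : H) = ⁅(g₁ : H), (g₂ : H)⁆ := by
          simp [commutatorElement_def]
        rw [h5]
        exact hMK h4
      have hab' : ∀ (p : ℕ) [Fact p.Prime] (P : Sylow p L), ∀ a ∈ P, ∀ b ∈ P, a * b = b * a := by
        intro p _ P a ha b hb
        have hQ : IsPGroup p ((P : Subgroup L).map L.subtype) := P.2.map _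
        have hQN : (P : Subgroup L).map L.subtype ≤ N := (Subgroup.map_subtype_le _).trans hLN
        have := habQ p _ hQN hQ (a : H) ⟨a, ha, rfl⟩ (b : H) ⟨b, hb, rfl⟩
        apply Subtype.ext
        simpa using this
      have h6 := commutator_le_of_class_two (K.subgroupOf L) h2 hab'
      rw [Subgroup.commutator_le]
      intro x hx y hy
      have h7 : ⁅(⟨x, hx⟩ : L), (⟨y, hy⟩ : L)⁆ ∈ K.subgroupOf L :=
        h6 (Subgroup.commutator_mem_commutator (Subgroup.mem_top _) (Subgroup.mem_top _))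
      rw [Subgroup.mem_subgroupOf] at h7
      have h8 : ((⁅(⟨x, hx⟩ : L), (⟨y, hy⟩ : L)⁆ : L) : H) = ⁅x, y⁆ := by
        simp [commutatorElement_def]
      rw [h8] at h7
      exact h7
    have hLtop := commutator_top_le_charKer hψ hprim L hLn hLK
    have hLS : L ∈ S := ⟨hLn, hLN, hLtop⟩
    have := hMge hLS le_sup_right
    exact hDj (le_sup_left.trans this)
  -- conclude
  have hφ1 : (fun n : N => ψ n) 1 = 1 := by
    apply apply_one_eq_one_of_commutator hres
    intro z hz
    have hz' : (z : H) ∈ ⁅N, (⊤ : Subgroup H)⁆ := by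
      rw [commutator_def] at hz
      have h1 : (⁅(⊤ : Subgroup N), (⊤ : Subgroup N)⁆).map N.subtype ≤ ⁅N, (⊤ : Subgroup H)⁆ := by
        rw [Subgroup.map_commutator]
        exact Subgroup.commutator_mono (Subgroup.map_subtype_le _) le_top
      exact h1 ⟨z, hz, rfl⟩
    have hNK : ⁅N, (⊤ : Subgroup H)⁆ ≤ K := hMeq ▸ hMK
    have := hNK hz'
    rw [hK, mem_charKer] at this
    simpa using this
  simpa using hφ1

end prim

end Cfsg.Agent.Lib.Helper3.RelM
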