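import Mathlib
import Cfsg.Agent.Lib.Helper3.RelM5

set_option autoImplicit false
set_option linter.unusedSectionVars false

namespace Cfsg.Agent.Lib.Helper3.RelM
open Cfsg Cfsg.Agent.Lib.Helper6
open scoped ComplexConjugate commutatorElement

theorem linear_transport {G : Type*} [Group G] [Fintype G] (K : Subgroup G) [Fintype K]
    (U' : Subgroup K) (lam' : U' → ℂ) (hlam' : IsCharacter U' lam') (hlam1 : lam' 1 = 1) :
    IsCharacter (U'.map K.subtype) (fun h =>
      lam' ((Subgroup.equivMapOfInjective U' K.subtype Subtype.coe_injective).symm h)) ∧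
    (fun h : U'.map K.subtype =>
      lam' ((Subgroup.equivMapOfInjective U' K.subtype Subtype.coe_injective).symm h)) 1 = 1 := by
  constructor
  · have h1 := IsCharacter.isIrr_of_apply_one_eq_one hlam' hlam1
    exact IsIrrCharacter.isCharacter (IsIrrCharacter.comp_mulEquiv
      (Subgroup.equivMapOfInjective U' K.subtype Subtype.coe_injective).symm h1)
  · simp only [map_one]
    exact hlam1

theorem monomial_aux.{u} : ∀ (n : ℕ) (H : Type u) [Group H] [Fintype H] [Group.IsSolvable H]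
    (N : Subgroup H) [N.Normal], Nat.card H = n →
    (∀ (p : ℕ) [Fact p.Prime] (Q : Subgroup H), Q ≤ N → IsPGroup p Q →
      ∀ a ∈ Q, ∀ b ∈ Q, a * b = b * a) →
    ∀ ψ : H → ℂ, IsIrrCharacter H ψ → IsIrrCharacter N (fun n : N => ψ n) →
    ∃ (U : Subgroup H) (lam : U → ℂ), IsCharacter U lam ∧ lam 1 = 1 ∧ indFun U lam = ψ := by
  intro n
  induction n using Nat.strong_induction_on with
  | _ n ih =>
    intro H _ _ _ N _ hcard habQ ψ hψ hres
    classical
    by_cases hprim : ∀ T : Subgroup H,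
        (∃ η : T → ℂ, IsIrrCharacter T η ∧ indFun T η = ψ) → T = ⊤
    · have h1 := apply_one_eq_one_of_primitive N habQ hψ hres hprim
      refine ⟨⊤, fun k => ψ k, IsCharacter.restrict ⊤ (IsIrrCharacter.isCharacter hψ),
        by simpa using h1, indFun_top (IsIrrCharacter.isClassFunction hψ)⟩
    · push Not at hprim
      obtain ⟨T, ⟨η, hη, hind⟩, hT⟩ := hprim
      have hlt : Nat.card T < n := by
        rw [← hcard]
        exact lt_of_le_of_ne (Subgroup.card_le_card_group T)
          (fun h => hT ((Subgroup.card_eq_iff_eq_top T).1 h))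
      have hψ' : IsIrrCharacter H (indFun T η) := hind ▸ hψ
      have hres' : IsIrrCharacter N (fun n : N => indFun T η n) := by rw [hind]; exact hres
      have hηres := isIrrCharacter_restrict_of_indFun N T η hη hψ' hres'
      have habQ' : ∀ (p : ℕ) [Fact p.Prime] (Q : Subgroup T), Q ≤ N.subgroupOf T → IsPGroup p Q →
          ∀ a ∈ Q, ∀ b ∈ Q, a * b = b * a := by
        intro p _ Q hQN hQ a ha b hb
        have hle : Q.map T.subtype ≤ N := by
          rintro _ ⟨q, hq, rfl⟩
          exact Subgroup.mem_subgroupOf.1 (hQN hq)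
        have := habQ p (Q.map T.subtype) hle (hQ.map _) (a : H) ⟨a, ha, rfl⟩ (b : H) ⟨b, hb, rfl⟩
        exact Subtype.ext (by simpa using this)
      obtain ⟨U', lam', hlam', hlam1, hU'⟩ :=
        ih (Nat.card T) hlt T (N.subgroupOf T) rfl habQ' η hη hηres
      have htrans := indFun_indFun_map T U' lam'
      rw [hU', hind] at htrans
      obtain ⟨h1, h2⟩ := linear_transport T U' lam' hlam' hlam1
      exact ⟨U'.map T.subtype, _, h1, h2, htrans.symm⟩

theorem monomial_main {G : Type*} [Group G] [Fintype G] [Group.IsSolvable G] (N : Subgroup G)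
    [N.Normal]
    (hab : ∀ (p : ℕ) [Fact p.Prime] (P : Sylow p N), ∀ a ∈ P, ∀ b ∈ P, a * b = b * a)
    (hrel : ∀ χ : G → ℂ, Cfsg.IsIrrCharacter G χ → ∃ (H : Subgroup G) (hNH : N ≤ H) (ψ : H → ℂ),
      Cfsg.IsIrrCharacter H ψ ∧ Cfsg.indFun H ψ = χ ∧
      Cfsg.IsIrrCharacter N (fun n : N => ψ ⟨(n : G), hNH n.2⟩))
    (χ : G → ℂ) (hχ : Cfsg.IsIrrCharacter G χ) :
    ∃ (U : Subgroup G) (lam : U → ℂ), Cfsg.IsCharacter U lam ∧ lam 1 = 1 ∧
      Cfsg.indFun U lam = χ := by
  classical
  obtain ⟨H, hNH, ψ, hψ, hind, hres⟩ := hrel χ hχ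
  have hres' : IsIrrCharacter (N.subgroupOf H) (fun x : N.subgroupOf H => ψ x) := by
    have := IsIrrCharacter.comp_mulEquiv (Subgroup.subgroupOfEquivOfLe hNH) hres
    convert this using 1
    funext x
    congr 1
  have habQ : ∀ (p : ℕ) [Fact p.Prime] (Q : Subgroup H), Q ≤ N.subgroupOf H → IsPGroup p Q →
      ∀ a ∈ Q, ∀ b ∈ Q, a * b = b * a := by
    intro p _ Q hQN hQ a ha b hb
    let Q' : Subgroup N := Q.comap (Subgroup.inclusion hNH)
    have hQ' : IsPGroup p Q' := hQ.comap_of_injective _ (Subgroup.inclusion_injective hNH)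
    obtain ⟨P, hP⟩ := hQ'.exists_le_sylow
    have haN : (a : G) ∈ N := Subgroup.mem_subgroupOf.1 (hQN ha)
    have hbN : (b : G) ∈ N := Subgroup.mem_subgroupOf.1 (hQN hb)
    have haQ : (⟨(a : G), haN⟩ : N) ∈ Q' := by
      rw [Subgroup.mem_comap]
      have : Subgroup.inclusion hNH ⟨(a : G), haN⟩ = a := Subtype.ext rfl
      rw [this]; exact ha
    have hbQ : (⟨(b : G), hbN⟩ : N) ∈ Q' := by
      rw [Subgroup.mem_comap]
      have : Subgroup.inclusion hNH ⟨(b : G), hbN⟩ = b := Subtype.ext rfl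
      rw [this]; exact hb
    have := hab p P _ (hP haQ) _ (hP hbQ)
    apply Subtype.ext
    have h2 := congrArg (fun x : N => (x : G)) this
    simpa using h2
  obtain ⟨U', lam', hlam', hlam1, hU'⟩ :=
    monomial_aux (Nat.card H) H (N.subgroupOf H) rfl habQ ψ hψ hres'
  have htrans := indFun_indFun_map H U' lam'
  rw [hU', hind] at htrans
  obtain ⟨h1, h2⟩ := linear_transport H U' lam' hlam' hlam1
  exact ⟨U'.map H.subtype, _, h1, h2, htrans.symm⟩

end Cfsg.Agent.Lib.Helper3.RelM
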