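/-
Farm RU (S3174), unit A (helper3): consequences of `Chain`.
-/
import Mathlib
import Cfsg.Agent.Lib.Helper3.RuSylDefs

set_option autoImplicit false

namespace Cfsg.Agent.Lib.Helper3.RuSylA

open Cfsg.Agent.Lib.Helper3.RuSyl

variable {T : Type*} [Group T]

theorem two_mul_card_le [Finite T] {A B : Subgroup T} (h : A < B) : 2 * Nat.card A ≤ Nat.card B := by
  obtain ⟨k, hk⟩ := Subgroup.card_dvd_of_le h.le
  have hBpos : 0 < Nat.card B := Nat.card_pos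
  have hApos : 0 < Nat.card A := Nat.card_pos
  have hk1 : k ≠ 1 := by
    rintro rfl
    rw [mul_one] at hk
    exact h.ne (Subgroup.eq_of_le_of_card_ge h.le hk.le)
  have hk0 : k ≠ 0 := by
    rintro rfl
    rw [mul_zero] at hk
    omega
  have hk2 : 2 ≤ k := by omega
  calc 2 * Nat.card A ≤ k * Nat.card A := Nat.mul_le_mul_right _ hk2
    _ = Nat.card B := by rw [hk, mul_comm]

/-- in a subgroup `B` with a subgroup `A` of half the order, two elements outside `A` differ by an element of `A` -/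
theorem mul_inv_mem_of_index_two [Finite T] {A B : Subgroup T} (hAB : A ≤ B)
    (hc : Nat.card B = 2 * Nat.card A) {x y : T} (hx : x ∈ B) (hy : y ∈ B) (hxA : x ∉ A) (hyA : y ∉ A) :
    x * y⁻¹ ∈ A := by
  have hcard : Nat.card (A.subgroupOf B) = Nat.card A :=
    Nat.card_congr (Subgroup.subgroupOfEquivOfLe hAB).toEquiv
  have hidx : (A.subgroupOf B).index = 2 := by
    have h1 := Subgroup.card_mul_index (A.subgroupOf B)
    rw [hcard, hc] at h1
    have hApos : 0 < Nat.card A := Nat.card_pos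
    have : Nat.card A * (A.subgroupOf B).index = Nat.card A * 2 := by rw [h1, mul_comm]
    exact Nat.eq_of_mul_eq_mul_left hApos this
  have h2 := Subgroup.mul_mem_iff_of_index_two hidx (a := (⟨x, hx⟩ : B)) (b := (⟨y, hy⟩ : B)⁻¹)
  have hx' : (⟨x, hx⟩ : B) ∉ A.subgroupOf B := by
    rw [Subgroup.mem_subgroupOf]; exact hxA
  have hy' : (⟨y, hy⟩ : B)⁻¹ ∉ A.subgroupOf B := by
    rw [Subgroup.inv_mem_iff, Subgroup.mem_subgroupOf]; exact hyA
  have h3 : (⟨x, hx⟩ : B) * (⟨y, hy⟩ : B)⁻¹ ∈ A.subgroupOf B := h2.2 ⟨fun h => absurd h hx', fun h => absurd h hy'⟩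
  rw [Subgroup.mem_subgroupOf] at h3
  simpa using h3

theorem le_of_mem_of_index_two [Finite T] {A B N : Subgroup T} (hAB : A ≤ B)
    (hc : Nat.card B = 2 * Nat.card A) (hAN : A ≤ N) {y : T} (hyB : y ∈ B) (hyA : y ∉ A) (hyN : y ∈ N) :
    B ≤ N := by
  intro x hx
  by_cases hxA : x ∈ A
  · exact hAN hxA
  · have h := mul_inv_mem_of_index_two hAB hc hx hyB hxA hyA
    have : x = x * y⁻¹ * y := by group
    rw [this]
    exact N.mul_mem (hAN h) hyN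

variable {Z1 Z2 Z3 Z4 : Subgroup T}

theorem up0 [Finite T] (C : Chain Z1 Z2 Z3 Z4) (N : Subgroup T)
    (hN : N.Normal) (hne : N ≠ ⊥) : Z1 ≤ N := by
  obtain ⟨y, hyN, hy1, hyne⟩ := C.key0 N hN hne
  have hc : Nat.card Z1 = 2 * Nat.card (⊥ : Subgroup T) := by
    rw [C.c1, Subgroup.card_bot]
  exact le_of_mem_of_index_two bot_le hc bot_le hy1 (by rwa [Subgroup.mem_bot]) hyN

theorem up1 [Finite T] (C : Chain Z1 Z2 Z3 Z4) (N : Subgroup T)
    (hN : N.Normal) (hle : Z1 ≤ N) (hne : N ≠ Z1) : Z2 ≤ N := by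
  have hnle : ¬ N ≤ Z1 := fun h => hne (le_antisymm h hle)
  obtain ⟨y, hyN, hy2, hy1⟩ := C.key1 N hN hnle
  exact le_of_mem_of_index_two C.le12 (by rw [C.c1, C.c2]) hle hy2 hy1 hyN

theorem up2 [Finite T] (C : Chain Z1 Z2 Z3 Z4) (N : Subgroup T)
    (hN : N.Normal) (hle : Z2 ≤ N) (hne : N ≠ Z2) : Z3 ≤ N := by
  have hnle : ¬ N ≤ Z2 := fun h => hne (le_antisymm h hle)
  obtain ⟨y, hyN, hy3, hy2⟩ := C.key2 N hN hnle
  exact le_of_mem_of_index_two C.le23 (by rw [C.c2, C.c3]) hle hy3 hy2 hyN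

theorem up3 [Finite T] (C : Chain Z1 Z2 Z3 Z4) (N : Subgroup T)
    (hN : N.Normal) (hle : Z3 ≤ N) (hne : N ≠ Z3) : Z4 ≤ N := by
  have hnle : ¬ N ≤ Z3 := fun h => hne (le_antisymm h hle)
  obtain ⟨y, hyN, hy4, hy3⟩ := C.key3 N hN hnle
  exact le_of_mem_of_index_two C.le34 (by rw [C.c3, C.c4]) hle hy4 hy3 hyN

theorem inf_lt_inf {A B N : Subgroup T} (hAB : A ≤ B) {y : T} (hyN : y ∈ N) (hyB : y ∈ B) (hyA : y ∉ A) :
    N ⊓ A < N ⊓ B := by
  refine lt_of_le_of_ne (inf_le_inf_left N hAB) ?_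
  intro h
  have : y ∈ N ⊓ B := ⟨hyN, hyB⟩
  rw [← h] at this
  exact hyA this.2

theorem le_Z1_of_card [Finite T] (C : Chain Z1 Z2 Z3 Z4) (N : Subgroup T)
    (hN : N.Normal) (hc : Nat.card N ≤ 2) : N ≤ Z1 := by
  by_contra hn
  have hne : N ≠ ⊥ := by rintro rfl; exact hn bot_le
  obtain ⟨y0, hy0N, hy01, hy0ne⟩ := C.key0 N hN hne
  obtain ⟨y1, hy1N, hy12, hy11⟩ := C.key1 N hN hn
  have h0 : (⊥ : Subgroup T) < N ⊓ Z1 := by
    rw [bot_lt_iff_ne_bot]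
    intro h
    have : y0 ∈ N ⊓ Z1 := ⟨hy0N, hy01⟩
    rw [h, Subgroup.mem_bot] at this
    exact hy0ne this
  have h1 := inf_lt_inf C.le12 hy1N hy12 hy11
  have c0 := two_mul_card_le h0
  have c1 := two_mul_card_le h1
  have c2 : Nat.card (N ⊓ Z2 : Subgroup T) ≤ Nat.card N := Subgroup.card_le_of_le inf_le_left
  rw [Subgroup.card_bot] at c0
  omega

theorem le_Z2_of_card [Finite T] (C : Chain Z1 Z2 Z3 Z4) (N : Subgroup T)
    (hN : N.Normal) (hc : Nat.card N ≤ 4) : N ≤ Z2 := by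
  by_contra hn
  have hn1 : ¬ N ≤ Z1 := fun h => hn (h.trans C.le12)
  have hne : N ≠ ⊥ := by rintro rfl; exact hn bot_le
  obtain ⟨y0, hy0N, hy01, hy0ne⟩ := C.key0 N hN hne
  obtain ⟨y1, hy1N, hy12, hy11⟩ := C.key1 N hN hn1
  obtain ⟨y2, hy2N, hy23, hy22⟩ := C.key2 N hN hn
  have h0 : (⊥ : Subgroup T) < N ⊓ Z1 := by
    rw [bot_lt_iff_ne_bot]
    intro h
    have : y0 ∈ N ⊓ Z1 := ⟨hy0N, hy01⟩
    rw [h, Subgroup.mem_bot] at this
    exact hy0ne this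
  have h1 := inf_lt_inf C.le12 hy1N hy12 hy11
  have h2 := inf_lt_inf C.le23 hy2N hy23 hy22
  have c0 := two_mul_card_le h0
  have c1 := two_mul_card_le h1
  have c2 := two_mul_card_le h2
  have c3 : Nat.card (N ⊓ Z3 : Subgroup T) ≤ Nat.card N := Subgroup.card_le_of_le inf_le_left
  rw [Subgroup.card_bot] at c0
  omega

theorem le_Z3_of_card [Finite T] (C : Chain Z1 Z2 Z3 Z4) (N : Subgroup T)
    (hN : N.Normal) (hc : Nat.card N ≤ 8) : N ≤ Z3 := by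
  by_contra hn
  have hn2 : ¬ N ≤ Z2 := fun h => hn (h.trans C.le23)
  have hn1 : ¬ N ≤ Z1 := fun h => hn2 (h.trans C.le12)
  have hne : N ≠ ⊥ := by rintro rfl; exact hn bot_le
  obtain ⟨y0, hy0N, hy01, hy0ne⟩ := C.key0 N hN hne
  obtain ⟨y1, hy1N, hy12, hy11⟩ := C.key1 N hN hn1
  obtain ⟨y2, hy2N, hy23, hy22⟩ := C.key2 N hN hn2
  obtain ⟨y3, hy3N, hy34, hy33⟩ := C.key3 N hN hn
  have h0 : (⊥ : Subgroup T) < N ⊓ Z1 := by
    rw [bot_lt_iff_ne_bot]
    intro h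
    have : y0 ∈ N ⊓ Z1 := ⟨hy0N, hy01⟩
    rw [h, Subgroup.mem_bot] at this
    exact hy0ne this
  have h1 := inf_lt_inf C.le12 hy1N hy12 hy11
  have h2 := inf_lt_inf C.le23 hy2N hy23 hy22
  have h3 := inf_lt_inf C.le34 hy3N hy34 hy33
  have c0 := two_mul_card_le h0
  have c1 := two_mul_card_le h1
  have c2 := two_mul_card_le h2
  have c3 := two_mul_card_le h3
  have c4 : Nat.card (N ⊓ Z4 : Subgroup T) ≤ Nat.card N := Subgroup.card_le_of_le inf_le_left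
  rw [Subgroup.card_bot] at c0
  omega

end Cfsg.Agent.Lib.Helper3.RuSylA
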