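/-
Farm RU (S3174), unit B: the upper central series of a 2-group with `|Z_4| = 16 < |T|` is a `Chain`.
Also `card_ucs` (= unit A3 of farm RV).
-/
import Mathlib
import Cfsg.Agent.Lib.Helper3.RuSylDefs
import Cfsg.Agent.Lib.Helper3.RuSylA

set_option autoImplicit false

namespace Cfsg.Agent.Lib.Helper3.RuSylB

open Cfsg.Agent.Lib.Helper3.RuSyl

variable {T : Type*} [Group T]

/-- KEY lemma, inductive form. -/
theorem key_aux (N : Subgroup T) (hN : N.Normal) (j : ℕ) :
    ∀ m : ℕ, ∀ x : T, x ∈ N → x ∈ Subgroup.upperCentralSeries T m →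
      x ∉ Subgroup.upperCentralSeries T j →
      ∃ y ∈ N, y ∈ Subgroup.upperCentralSeries T (j + 1) ∧ y ∉ Subgroup.upperCentralSeries T j := by
  intro m
  induction m with
  | zero =>
    intro x _ hx0 hxj
    rw [Subgroup.upperCentralSeries_zero, Subgroup.mem_bot] at hx0
    subst hx0
    exact absurd (Subgroup.one_mem _) hxj
  | succ m ih =>
    intro x hxN hxm hxj
    by_cases hx1 : x ∈ Subgroup.upperCentralSeries T (j + 1)
    · exact ⟨x, hxN, hx1, hxj⟩
    · rw [Subgroup.mem_upperCentralSeries_succ_iff] at hx1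
      push Not at hx1
      obtain ⟨t, ht⟩ := hx1
      rw [Subgroup.mem_upperCentralSeries_succ_iff] at hxm
      refine ih (x * t * x⁻¹ * t⁻¹) ?_ (hxm t) ht
      have h1 : t * x⁻¹ * t⁻¹ ∈ N := hN.conj_mem _ (N.inv_mem hxN) t
      have h2 : x * (t * x⁻¹ * t⁻¹) ∈ N := N.mul_mem hxN h1
      have e : x * t * x⁻¹ * t⁻¹ = x * (t * x⁻¹ * t⁻¹) := by group
      rw [e]; exact h2

/-- KEY lemma: a normal subgroup of a nilpotent group not inside `Z_j` meets `Z_{j+1} - Z_j`. -/
theorem key [Group.IsNilpotent T] (N : Subgroup T) (hN : N.Normal) (j : ℕ)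
    (hnle : ¬ N ≤ Subgroup.upperCentralSeries T j) :
    ∃ y ∈ N, y ∈ Subgroup.upperCentralSeries T (j + 1) ∧ y ∉ Subgroup.upperCentralSeries T j := by
  obtain ⟨x, hxN, hxj⟩ := SetLike.not_le_iff_exists.mp hnle
  obtain ⟨m, hm⟩ := Group.IsNilpotent.nilpotent (G := T)
  exact key_aux N hN j m x hxN (by rw [hm]; exact Subgroup.mem_top x) hxj

theorem lt_succ_of_card [Finite T] [Group.IsNilpotent T] (j : ℕ)
    (hlt : Nat.card ↥(Subgroup.upperCentralSeries T j) < Nat.card T) :
    Subgroup.upperCentralSeries T j < Subgroup.upperCentralSeries T (j + 1) := by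
  have hnle : ¬ (⊤ : Subgroup T) ≤ Subgroup.upperCentralSeries T j := by
    intro h
    have : Subgroup.upperCentralSeries T j = ⊤ := top_le_iff.mp h
    rw [this, Subgroup.card_top] at hlt
    exact lt_irrefl _ hlt
  obtain ⟨y, -, hy1, hy0⟩ := key (⊤ : Subgroup T) inferInstance j hnle
  refine lt_of_le_of_ne (Subgroup.upperCentralSeries_mono T (Nat.le_succ j)) ?_
  intro h
  rw [← h] at hy1
  exact hy0 hy1

/-- the orders of `Z_0, …, Z_4`. -/
theorem cards [Finite T] (hT : IsPGroup 2 T)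
    (h16 : Nat.card ↥(Subgroup.upperCentralSeries T 4) = 16) (hbig : 16 < Nat.card T) :
    Nat.card ↥(Subgroup.upperCentralSeries T 1) = 2 ∧ Nat.card ↥(Subgroup.upperCentralSeries T 2) = 4 ∧
      Nat.card ↥(Subgroup.upperCentralSeries T 3) = 8 := by
  have : Fact (Nat.Prime 2) := ⟨Nat.prime_two⟩
  have : Group.IsNilpotent T := hT.isNilpotent
  have hle : ∀ j, j ≤ 4 → Nat.card ↥(Subgroup.upperCentralSeries T j) ≤ 16 := by
    intro j hj
    rw [← h16]
    exact Subgroup.card_le_of_le (Subgroup.upperCentralSeries_mono T hj)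
  have hlt : ∀ j, j ≤ 4 → Nat.card ↥(Subgroup.upperCentralSeries T j) < Nat.card T :=
    fun j hj => lt_of_le_of_lt (hle j hj) hbig
  have s0 := RuSylA.two_mul_card_le (lt_succ_of_card (T := T) 0 (hlt 0 (by norm_num)))
  have s1 := RuSylA.two_mul_card_le (lt_succ_of_card (T := T) 1 (hlt 1 (by norm_num)))
  have s2 := RuSylA.two_mul_card_le (lt_succ_of_card (T := T) 2 (hlt 2 (by norm_num)))
  have s3 := RuSylA.two_mul_card_le (lt_succ_of_card (T := T) 3 (hlt 3 (by norm_num)))
  have c0 : Nat.card ↥(Subgroup.upperCentralSeries T 0) = 1 := by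
    rw [Subgroup.upperCentralSeries_zero, Subgroup.card_bot]
  simp only [Nat.reduceAdd, zero_add] at s0 s1 s2 s3
  rw [h16] at s3
  rw [c0] at s0
  refine ⟨by omega, by omega, by omega⟩

theorem comm_mem (n : ℕ) (x : T) (hx : x ∈ Subgroup.upperCentralSeries T (n + 1)) (t : T) :
    t * x * t⁻¹ * x⁻¹ ∈ Subgroup.upperCentralSeries T n := by
  rw [Subgroup.mem_upperCentralSeries_succ_iff] at hx
  have h := (Subgroup.upperCentralSeries T n).inv_mem (hx t)
  rw [commutatorElement_def] at h
  have e : (x * t * x⁻¹ * t⁻¹)⁻¹ = t * x * t⁻¹ * x⁻¹ := by group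
  rw [e] at h
  exact h

theorem chain_of_ucs [Finite T] (hT : IsPGroup 2 T)
    (h16 : Nat.card ↥(Subgroup.upperCentralSeries T 4) = 16) (hbig : 16 < Nat.card T) :
    Chain (Subgroup.upperCentralSeries T 1) (Subgroup.upperCentralSeries T 2)
      (Subgroup.upperCentralSeries T 3) (Subgroup.upperCentralSeries T 4) := by
  have : Fact (Nat.Prime 2) := ⟨Nat.prime_two⟩
  have : Group.IsNilpotent T := hT.isNilpotent
  obtain ⟨c1, c2, c3⟩ := cards hT h16 hbig
  refine
    { n1 := inferInstance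
      n2 := inferInstance
      n3 := inferInstance
      n4 := inferInstance
      le12 := Subgroup.upperCentralSeries_mono T (by norm_num)
      le23 := Subgroup.upperCentralSeries_mono T (by norm_num)
      le34 := Subgroup.upperCentralSeries_mono T (by norm_num)
      c1 := c1
      c2 := c2
      c3 := c3
      c4 := h16
      comm1 := ?_
      comm2 := fun x hx t => comm_mem 1 x hx t
      comm3 := fun x hx t => comm_mem 2 x hx t
      comm4 := fun x hx t => comm_mem 3 x hx t
      key0 := ?_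
      key1 := fun N hN hnle => key N hN 1 hnle
      key2 := fun N hN hnle => key N hN 2 hnle
      key3 := fun N hN hnle => key N hN 3 hnle }
  · intro x hx t
    have h := comm_mem 0 x hx t
    rw [Subgroup.upperCentralSeries_zero, Subgroup.mem_bot] at h
    have : t * x * t⁻¹ = (t * x * t⁻¹ * x⁻¹) * x := by group
    rw [this, h, one_mul]
  · intro N hN hne
    have hnle : ¬ N ≤ Subgroup.upperCentralSeries T 0 := by
      rw [Subgroup.upperCentralSeries_zero]
      intro h
      exact hne (le_bot_iff.mp h)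
    obtain ⟨y, hyN, hy1, hy0⟩ := key N hN 0 hnle
    refine ⟨y, hyN, hy1, ?_⟩
    rintro rfl
    exact hy0 (Subgroup.one_mem _)

/-- farm RV, unit A3. -/
theorem card_ucs {P : Type*} [Group P] [Finite P] (hP : IsPGroup 2 P)
    (hb : Nat.card ↥(Subgroup.upperCentralSeries P 4) = 16) (hbig : 16 < Nat.card P) :
    ∀ i : ℕ, i ≤ 4 → Nat.card ↥(Subgroup.upperCentralSeries P i) = 2 ^ i := by
  obtain ⟨c1, c2, c3⟩ := cards hP hb hbig
  intro i hi
  interval_cases i
  · rw [Subgroup.upperCentralSeries_zero, Subgroup.card_bot]; norm_num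
  · rw [c1]; norm_num
  · rw [c2]; norm_num
  · rw [c3]; norm_num
  · rw [hb]; norm_num

end Cfsg.Agent.Lib.Helper3.RuSylB
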