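/-
Farm RU (S3174), unit I (helper3): the centre of `W` is `Z3`.
-/
import Mathlib
import Cfsg.Agent.Lib.Helper3.RuSylDefs
import Cfsg.Agent.Lib.Helper3.RuSylA
import Cfsg.Agent.Lib.Helper8.RuSylD
import Cfsg.Agent.Lib.Helper9.RuSylE
import Cfsg.Agent.Lib.Helper9.RuSylF
import Cfsg.Agent.Lib.Helper6.RuSylH
import Cfsg.Agent.Lib.Helper1.RuSylG

set_option autoImplicit false

namespace Cfsg.Agent.Lib.Helper3.RuSylI

open Cfsg.Agent.Lib.Helper3.RuSyl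

variable {T : Type*} [Group T] {Z1 Z2 Z3 Z4 : Subgroup T}

theorem exists_z1 [Finite T] (C : Chain Z1 Z2 Z3 Z4) : ∃ z1 ∈ Z1, z1 ≠ 1 := by
  have hne : Z1 ≠ ⊥ := by
    intro h
    have := C.c1
    rw [h, Subgroup.card_bot] at this
    omega
  obtain ⟨z, hz1⟩ := (Subgroup.ne_bot_iff_exists_ne_one.1 hne)
  exact ⟨z.1, z.2, fun h => hz1 (Subtype.ext h)⟩

theorem exists_z2 [Finite T] (C : Chain Z1 Z2 Z3 Z4) : ∃ z2 ∈ Z2, z2 ∉ Z1 := by
  have hnle : ¬ Z2 ≤ Z1 := by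
    intro h
    have := Subgroup.card_le_of_le h
    rw [C.c1, C.c2] at this
    omega
  obtain ⟨z, hz, hz'⟩ := SetLike.not_le_iff_exists.1 hnle
  exact ⟨z, hz, hz'⟩

theorem exists_z3 [Finite T] (C : Chain Z1 Z2 Z3 Z4) : ∃ z3 ∈ Z3, z3 ∉ Z2 := by
  have hnle : ¬ Z3 ≤ Z2 := by
    intro h
    have := Subgroup.card_le_of_le h
    rw [C.c2, C.c3] at this
    omega
  obtain ⟨z, hz, hz'⟩ := SetLike.not_le_iff_exists.1 hnle
  exact ⟨z, hz, hz'⟩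

theorem z1_sq [Finite T] (C : Chain Z1 Z2 Z3 Z4) {z1 : T} (hz1 : z1 ∈ Z1) : z1 * z1 = 1 := by
  have h : (⟨z1, hz1⟩ : Z1) ^ Nat.card Z1 = 1 := pow_card_eq_one'
  rw [C.c1] at h
  have := congrArg Subtype.val h
  simpa [pow_two] using this

/-- an element fixing `z2` fixes `Z2` pointwise -/
theorem fix_Z2 [Finite T] (C : Chain Z1 Z2 Z3 Z4) {z2 : T} (hz2 : z2 ∈ Z2) (hz2' : z2 ∉ Z1)
    {g : T} (hg : g * z2 * g⁻¹ = z2) {u : T} (hu : u ∈ Z2) : g * u * g⁻¹ = u := by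
  by_cases hu1 : u ∈ Z1
  · exact C.comm1 u hu1 g
  · have h := RuSylA.mul_inv_mem_of_index_two C.le12 (by rw [C.c1, C.c2]) hu hz2 hu1 hz2'
    have h1 := C.comm1 _ h g
    have : u = u * z2⁻¹ * z2 := by group
    calc g * u * g⁻¹ = (g * (u * z2⁻¹) * g⁻¹) * (g * z2 * g⁻¹) := by group
      _ = u * z2⁻¹ * z2 := by rw [h1, hg]
      _ = u := by group

/-- if `g` moves `z3` to `z3 * v` with `v ≠ 1` and fixes `Z2` pointwise then its fixed points on `Z3` lie in `Z2` -/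
theorem fixed_le_Z2 [Finite T] (C : Chain Z1 Z2 Z3 Z4) {z2 z3 v : T} (hz2 : z2 ∈ Z2) (hz2' : z2 ∉ Z1)
    (hz3 : z3 ∈ Z3) (hz3' : z3 ∉ Z2) {g : T} (hg2 : g * z2 * g⁻¹ = z2) (hg3 : g * z3 * g⁻¹ = z3 * v)
    (hv : v ≠ 1) : ∀ z ∈ Z3, g * z * g⁻¹ = z → z ∈ Z2 := by
  intro z hz hfix
  by_contra hzn
  have h := RuSylA.mul_inv_mem_of_index_two C.le23 (by rw [C.c2, C.c3]) hz hz3 hzn hz3'
  have h1 := fix_Z2 C hz2 hz2' hg2 h
  apply hv
  have e1 : g * z * g⁻¹ = (g * (z * z3⁻¹) * g⁻¹) * (g * z3 * g⁻¹) := by group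
  rw [h1, hg3, hfix] at e1
  -- z = z * z3⁻¹ * (z3 * v)
  have e2 : z * z3⁻¹ * (z3 * v) = z * v := by group
  rw [e2] at e1
  exact (mul_eq_left.1 e1.symm)

/-- conjugation by elements of the same coset of `W = C(Z3)` agree on `Z3` -/
theorem conj_eq_of_coset {W : Subgroup T} [W.Normal] (hW : W = Subgroup.centralizer (Z3 : Set T))
    {g h : T} (hgh : ((g : T) : T ⧸ W) = (h : T ⧸ W)) {z : T} (hz : z ∈ Z3) :
    g * z * g⁻¹ = h * z * h⁻¹ := by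
  have h1 : g⁻¹ * h ∈ W := QuotientGroup.eq.1 hgh
  rw [hW, Subgroup.mem_centralizer_iff] at h1
  have h2 := h1 z hz
  calc g * z * g⁻¹ = g * (z * (g⁻¹ * h)) * (g⁻¹ * h)⁻¹ * g⁻¹ := by group
    _ = g * ((g⁻¹ * h) * z) * (g⁻¹ * h)⁻¹ * g⁻¹ := by rw [h2]
    _ = h * z * h⁻¹ := by group

theorem conj_mul' (g h z : T) : (g * h) * z * (g * h)⁻¹ = g * (h * z * h⁻¹) * g⁻¹ := by group

theorem conj_prod (g a b : T) : g * (a * b) * g⁻¹ = (g * a * g⁻¹) * (g * b * g⁻¹) := by group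

section words

variable {z1 z2 z3 s' t s : T}

/-- the fingerprints of the eight words -/
theorem fp_words (hz1c : ∀ g : T, g * z1 * g⁻¹ = z1)
    (hs'2 : s' * z2 * s'⁻¹ = z2 * z1) (hs'3 : s' * z3 * s'⁻¹ = z3)
    (ht2 : t * z2 * t⁻¹ = z2) (ht3 : t * z3 * t⁻¹ = z3 * z1)
    (hs2 : s * z2 * s⁻¹ = z2) (hs3 : s * z3 * s⁻¹ = z3 * z2) (i : Fin 8) :
    words s' t s i * z2 * (words s' t s i)⁻¹ = ![z2, z2 * z1, z2, z2 * z1, z2, z2 * z1, z2, z2 * z1] i ∧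
    words s' t s i * z3 * (words s' t s i)⁻¹ =
      ![z3, z3, z3 * z1, z3 * z1, z3 * z2, z3 * z2, z3 * z2 * z1, z3 * z2 * z1] i := by
  fin_cases i
  · simp [words]
  · simp [words, hs'2, hs'3]
  · simp [words, ht2, ht3]
  · simp only [words]
    show (t * s') * z2 * (t * s')⁻¹ = z2 * z1 ∧ (t * s') * z3 * (t * s')⁻¹ = z3 * z1
    rw [conj_mul', conj_mul', hs'2, hs'3, conj_prod, ht2, hz1c, ht3]
    exact ⟨rfl, rfl⟩
  · simp [words, hs2, hs3]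
  · simp only [words]
    show (s * s') * z2 * (s * s')⁻¹ = z2 * z1 ∧ (s * s') * z3 * (s * s')⁻¹ = z3 * z2
    rw [conj_mul', conj_mul', hs'2, hs'3, conj_prod, hs2, hz1c, hs3]
    exact ⟨rfl, rfl⟩
  · simp only [words]
    show (s * t) * z2 * (s * t)⁻¹ = z2 ∧ (s * t) * z3 * (s * t)⁻¹ = z3 * z2 * z1
    rw [conj_mul', conj_mul', ht2, ht3, conj_prod, hs2, hz1c, hs3]
    exact ⟨rfl, rfl⟩
  · simp only [words]
    show (s * t * s') * z2 * (s * t * s')⁻¹ = z2 * z1 ∧ (s * t * s') * z3 * (s * t * s')⁻¹ = z3 * z2 * z1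
    rw [conj_mul', conj_mul' (s * t), hs'2, hs'3, conj_mul', conj_mul', conj_prod t, ht2, hz1c, ht3,
      conj_prod, conj_prod s z3, hs2, hz1c, hs3]
    exact ⟨rfl, rfl⟩

theorem words_injective {W : Subgroup T} [W.Normal] (hW : W = Subgroup.centralizer (Z3 : Set T))
    (hz2 : z2 ∈ Z3) (hz3 : z3 ∈ Z3) (h1 : z1 ≠ 1) (h2 : z2 ≠ 1) (h21 : z2 ≠ z1) (h211 : z2 * z1 ≠ 1)
    (hz1c : ∀ g : T, g * z1 * g⁻¹ = z1)
    (hs'2 : s' * z2 * s'⁻¹ = z2 * z1) (hs'3 : s' * z3 * s'⁻¹ = z3)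
    (ht2 : t * z2 * t⁻¹ = z2) (ht3 : t * z3 * t⁻¹ = z3 * z1)
    (hs2 : s * z2 * s⁻¹ = z2) (hs3 : s * z3 * s⁻¹ = z3 * z2) :
    Function.Injective (fun i : Fin 8 => ((words s' t s i : T) : T ⧸ W)) := by
  intro i j hij
  have e2 := conj_eq_of_coset hW hij hz2
  have e3 := conj_eq_of_coset hW hij hz3
  rw [(fp_words hz1c hs'2 hs'3 ht2 ht3 hs2 hs3 i).1, (fp_words hz1c hs'2 hs'3 ht2 ht3 hs2 hs3 j).1] at e2
  rw [(fp_words hz1c hs'2 hs'3 ht2 ht3 hs2 hs3 i).2, (fp_words hz1c hs'2 hs'3 ht2 ht3 hs2 hs3 j).2] at e3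
  have h12 : z1 ≠ z2 := fun h => h21 h.symm
  fin_cases i <;> fin_cases j <;> first | rfl | (exfalso; simp [mul_assoc] at e2 e3; simp_all)

end words

theorem relIndex_eq_two_of_card [Finite T] {A B : Subgroup T} (hAB : A ≤ B)
    (hc : Nat.card B = 2 * Nat.card A) : A.relIndex B = 2 := by
  have hcard : Nat.card (A.subgroupOf B) = Nat.card A :=
    Nat.card_congr (Subgroup.subgroupOfEquivOfLe hAB).toEquiv
  have h1 := Subgroup.card_mul_index (A.subgroupOf B)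
  rw [hcard, hc] at h1
  have hApos : 0 < Nat.card A := Nat.card_pos
  have : Nat.card A * (A.subgroupOf B).index = Nat.card A * 2 := by rw [h1, mul_comm]
  exact Nat.eq_of_mul_eq_mul_left hApos this

theorem mul_inv_mem_of_relIndex_two {A B : Subgroup T} (h : A.relIndex B = 2) {x y : T}
    (hx : x ∈ B) (hy : y ∈ B) (hxA : x ∉ A) (hyA : y ∉ A) : x * y⁻¹ ∈ A := by
  have h2 := Subgroup.mul_mem_iff_of_index_two (H := A.subgroupOf B) h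
    (a := (⟨x, hx⟩ : B)) (b := (⟨y, hy⟩ : B)⁻¹)
  have hx' : (⟨x, hx⟩ : B) ∉ A.subgroupOf B := by
    rw [Subgroup.mem_subgroupOf]; exact hxA
  have hy' : (⟨y, hy⟩ : B)⁻¹ ∉ A.subgroupOf B := by
    rw [Subgroup.inv_mem_iff, Subgroup.mem_subgroupOf]; exact hyA
  have h3 : (⟨x, hx⟩ : B) * (⟨y, hy⟩ : B)⁻¹ ∈ A.subgroupOf B :=
    h2.2 ⟨fun h => absurd h hx', fun h => absurd h hy'⟩
  rw [Subgroup.mem_subgroupOf] at h3
  simpa using h3

theorem nrm_mem {W : Subgroup T} [hn : W.Normal] (τ : T) {y : T} (hy : y ∈ W) : nrm τ y ∈ W :=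
  W.mul_mem hy (hn.conj_mem y hy τ)

theorem comm_symm_mem (H : Subgroup T) {a b : T} (h : a * b * a⁻¹ * b⁻¹ ∈ H) :
    b * a * b⁻¹ * a⁻¹ ∈ H := by
  have : b * a * b⁻¹ * a⁻¹ = (a * b * a⁻¹ * b⁻¹)⁻¹ := by group
  rw [this]
  exact H.inv_mem h

theorem comm_one_of_commute (H : Subgroup T) {a b : T} (h : a * b = b * a) :
    a * b * a⁻¹ * b⁻¹ ∈ H := by
  have : a * b * a⁻¹ * b⁻¹ = 1 := by rw [h]; group
  rw [this]
  exact H.one_mem

/-- Unit I: the centre of `W` is `Z3`. -/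
theorem center_le [Finite T] {W Φ : Subgroup T} (S : Setting Z1 Z2 Z3 Z4 W Φ)
    (hΦ : Φ = Z3) (h8 : W.index = 8) (hW11 : Nat.card W = 2 ^ 11) :
    ∀ x ∈ W, (∀ y ∈ W, x * y = y * x) → x ∈ Z3 := by
  intro x0 hx0W hx0c
  by_contra hx0
  have C := S.chain
  have nW : W.Normal := Cfsg.Agent.Lib.Helper8.RuSylD.normalW C S.hW
  have := C.n3
  have hZ3W : Z3 ≤ W := hΦ ▸ S.frat.le
  have hcenZ3 : ∀ z ∈ Z3, ∀ w ∈ W, z * w = w * z := by
    intro z hz w hw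
    rw [S.hW, Subgroup.mem_centralizer_iff] at hw
    exact hw z hz
  -- the centre of `W` as a subgroup of `T` contains `Z4`
  have hZWn : (W ⊓ Subgroup.centralizer (W : Set T)).Normal := inferInstance
  have hZ3ZW : Z3 ≤ W ⊓ Subgroup.centralizer (W : Set T) := fun z hz =>
    Subgroup.mem_inf.2 ⟨hZ3W hz,
      Subgroup.mem_centralizer_iff.2 (fun w hw => (hcenZ3 z hz w hw).symm)⟩
  have hx0ZW : x0 ∈ W ⊓ Subgroup.centralizer (W : Set T) :=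
    Subgroup.mem_inf.2 ⟨hx0W, Subgroup.mem_centralizer_iff.2 (fun w hw => (hx0c w hw).symm)⟩
  have hne : W ⊓ Subgroup.centralizer (W : Set T) ≠ Z3 := fun h => hx0 (h ▸ hx0ZW)
  have hZ4 : Z4 ≤ W ⊓ Subgroup.centralizer (W : Set T) := RuSylA.up3 C _ hZWn hZ3ZW hne
  have hZ4W : Z4 ≤ W := hZ4.trans inf_le_left
  have hZ4c : ∀ x ∈ Z4, ∀ y ∈ W, x * y = y * x := by
    intro x hx y hy
    have := Subgroup.mem_centralizer_iff.1 (Subgroup.mem_inf.1 (hZ4 hx)).2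
    exact (this y hy).symm
  have hsq3 := Cfsg.Agent.Lib.Helper9.RuSylF.Z3_sq S hΦ hW11
  have K : Cal W Z3 Z2 :=
    { nW := nW, nZ := C.n3, nZ2 := C.n2, le2 := C.le23, le := hZ3W, cen := hcenZ3, zsq := hsq3
      comm := by intro x hx y hy; have := S.frat.comm x hx y hy; rwa [hΦ] at this
      sq := by intro x hx; have := S.frat.sq x hx; rwa [hΦ] at this
      act := fun z hz t => C.comm3 z hz t }
  obtain ⟨z1, hz1, hz1ne⟩ := exists_z1 C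
  obtain ⟨z2, hz2, hz2'⟩ := exists_z2 C
  obtain ⟨z3, hz3, hz3'⟩ := exists_z3 C
  have hz1c : ∀ g : T, g * z1 * g⁻¹ = z1 := fun g => C.comm1 z1 hz1 g
  have hz2ne : z2 ≠ 1 := by rintro rfl; exact hz2' Z1.one_mem
  have hz21 : z2 ≠ z1 := by rintro rfl; exact hz2' hz1
  have hz211 : z2 * z1 ≠ 1 := by
    intro h
    apply hz2'
    have : z2 = z1⁻¹ := eq_inv_of_mul_eq_one_left h
    rw [this]; exact Z1.inv_mem hz1
  obtain ⟨s', hs'2, hs'3⟩ :=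
    Cfsg.Agent.Lib.Helper8.RuSylD.exists_act C S.hW h8 z2 z3 hz2 hz2' hz3 hz3' z1 1 hz1 Z2.one_mem
  obtain ⟨t, ht2, ht3⟩ :=
    Cfsg.Agent.Lib.Helper8.RuSylD.exists_act C S.hW h8 z2 z3 hz2 hz2' hz3 hz3' 1 z1 Z1.one_mem (C.le12 hz1)
  obtain ⟨s, hs2, hs3⟩ :=
    Cfsg.Agent.Lib.Helper8.RuSylD.exists_act C S.hW h8 z2 z3 hz2 hz2' hz3 hz3' 1 z2 Z1.one_mem hz2
  rw [mul_one] at hs'3 ht2 hs2
  have hdist := words_injective (W := W) S.hW (C.le23 hz2) hz3 hz1ne hz2ne hz21 hz211 hz1c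
    hs'2 hs'3 ht2 ht3 hs2 hs3
  obtain ⟨M, hMW, hM2, hZ3M, hZ4M, hcore⟩ := Cfsg.Agent.Lib.Helper9.RuSylE.exists_max S hΦ hW11
  obtain ⟨w0, hw0, hw0M, hw0c⟩ := Cfsg.Agent.Lib.Helper9.RuSylE.exists_w0 W M Z3 hMW hM2 h8 C.c3 hW11 hcore
  have hP := Cfsg.Agent.Lib.Helper6.RuSylH.all_coords W M hMW hM2 h8 w0 s' t s hw0 hw0M hw0c hdist
  have hmW : nrm s' w0 ∈ W := nrm_mem s' hw0
  have hnW : nrm t (nrm s' w0) ∈ W := nrm_mem t hmW
  have hPW : nrm s (nrm t (nrm s' w0)) ∈ W := nrm_mem s hnW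
  -- `P ∈ Z4`
  obtain ⟨x4, hx4, hx4M⟩ := SetLike.not_le_iff_exists.1 hZ4M
  have hx4conj : ∀ g : T, g * x4 * g⁻¹ ∉ M := by
    intro g hg
    apply hx4M
    have h3 := C.comm4 x4 hx4 g
    have : x4 = (g * x4 * g⁻¹ * x4⁻¹)⁻¹ * (g * x4 * g⁻¹) := by group
    rw [this]
    exact M.mul_mem (M.inv_mem (hZ3M h3)) hg
  have hPZ4 : nrm s (nrm t (nrm s' w0)) ∈ Z4 := by
    have hy : nrm s (nrm t (nrm s' w0)) * x4⁻¹ ∈ Z3 := by
      apply hcore _ (W.mul_mem hPW (W.inv_mem (hZ4W hx4)))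
      intro g
      have : g * (nrm s (nrm t (nrm s' w0)) * x4⁻¹) * g⁻¹ =
          (g * nrm s (nrm t (nrm s' w0)) * g⁻¹) * (g * x4 * g⁻¹)⁻¹ := by group
      rw [this]
      exact mul_inv_mem_of_relIndex_two hM2 (nW.conj_mem _ hPW g) (nW.conj_mem _ (hZ4W hx4) g)
        (hP g) (hx4conj g)
    have : nrm s (nrm t (nrm s' w0)) = (nrm s (nrm t (nrm s' w0)) * x4⁻¹) * x4 := by group
    rw [this]
    exact Z4.mul_mem (C.le34 hy) hx4
  -- the elements `s`, `t`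
  have hz2sq : z2 * z2 = 1 := by
    have := hsq3 z2 (C.le23 hz2)
    rwa [pow_two] at this
  have hss : s * s ∈ W :=
    Cfsg.Agent.Lib.Helper8.RuSylD.mem_W_of_fix C S.hW z2 z3 hz2 hz2' hz3 hz3' (s * s) (by rw [conj_mul', hs2, hs2])
      (by rw [conj_mul', hs3, conj_prod, hs3, hs2, mul_assoc, hz2sq, mul_one])
  have htt : t * t ∈ W :=
    Cfsg.Agent.Lib.Helper8.RuSylD.mem_W_of_fix C S.hW z2 z3 hz2 hz2' hz3 hz3' (t * t) (by rw [conj_mul', ht2, ht2])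
      (by rw [conj_mul', ht3, conj_prod, ht3, hz1c, mul_assoc, z1_sq C hz1, mul_one])
  have hfix_s := fixed_le_Z2 C hz2 hz2' hz3 hz3' hs2 hs3 hz2ne
  have hfix_t := fixed_le_Z2 C hz2 hz2' hz3 hz3' ht2 ht3 hz1ne
  -- the generating set
  set A : Set T := (Z3 : Set T) ∪ {u | ∃ y ∈ W, u = nrm s y} ∪ {nrm t (nrm s' w0)} with hA
  have hAW : A ⊆ W := by
    rintro a ((ha | ⟨y, hy, rfl⟩) | ha)
    · exact hZ3W ha
    · exact nrm_mem s hy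
    · rw [Set.mem_singleton_iff] at ha
      rw [ha]; exact hnW
  have hAsq : ∀ a ∈ A, a ^ 2 ∈ Z2 := by
    rintro a ((ha | ⟨y, hy, rfl⟩) | ha)
    · rw [hsq3 a ha]; exact Z2.one_mem
    · exact Cfsg.Agent.Lib.Helper1.RuSylG.norm_sq K s hss hfix_s y hy
    · rw [Set.mem_singleton_iff] at ha
      rw [ha]; exact Cfsg.Agent.Lib.Helper1.RuSylG.norm_sq K t htt hfix_t _ hmW
  have hAcomm : ∀ a ∈ A, ∀ b ∈ A, a * b * a⁻¹ * b⁻¹ ∈ Z2 := by
    intro a ha b hb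
    have haW := hAW ha
    have hbW := hAW hb
    rcases ha with (ha | ⟨y, hy, rfl⟩) | ha
    · exact comm_one_of_commute Z2 (hcenZ3 a ha b hbW)
    · rcases hb with (hb | ⟨y', hy', rfl⟩) | hb
      · exact comm_one_of_commute Z2 (hcenZ3 b hb _ haW).symm
      · exact Cfsg.Agent.Lib.Helper1.RuSylG.norm_comm K s hss hfix_s y y' hy hy'
      · rw [Set.mem_singleton_iff] at hb
        rw [hb]
        exact Cfsg.Agent.Lib.Helper1.RuSylG.norm_comm_of_central K s hss y _ hy hnW (hZ4c _ hPZ4 y hy)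
    · rw [Set.mem_singleton_iff] at ha
      rcases hb with (hb | ⟨y', hy', rfl⟩) | hb
      · exact comm_one_of_commute Z2 (hcenZ3 b hb _ haW).symm
      · rw [ha]
        exact comm_symm_mem Z2
          (Cfsg.Agent.Lib.Helper1.RuSylG.norm_comm_of_central K s hss y' _ hy' hnW (hZ4c _ hPZ4 y' hy'))
      · rw [Set.mem_singleton_iff] at hb
        rw [ha, hb]
        exact comm_one_of_commute Z2 rfl
  obtain ⟨hXsq, hXcomm⟩ := Cfsg.Agent.Lib.Helper1.RuSylG.elemAb_closure K A hAW hAsq hAcomm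
  have hXW : Subgroup.closure A ≤ W := (Subgroup.closure_le W).2 hAW
  have hZ3X : Z3 ≤ Subgroup.closure A := fun z hz =>
    Subgroup.subset_closure (Or.inl (Or.inl hz))
  have hN : ∀ y ∈ W, nrm s y ∈ Subgroup.closure A := fun y hy =>
    Subgroup.subset_closure (Or.inl (Or.inr ⟨y, hy, rfl⟩))
  have hn : nrm t (nrm s' w0) ∈ Subgroup.closure A :=
    Subgroup.subset_closure (Or.inr rfl)
  have hX8 := Cfsg.Agent.Lib.Helper6.RuSylH.relIndex_le_eight W M Z3 hZ3W hMW hM2 h8 hcore K.comm K.sq w0 s' t s hw0 hw0M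
    hw0c hdist (Subgroup.closure A) hZ3X hXW hN hn
  obtain ⟨U, hZ2U, hUX, hU2, hZ3U⟩ := Cfsg.Agent.Lib.Helper9.RuSylF.exists_index_two_avoiding (Subgroup.closure A) Z3 Z2
    C.le23 hZ3X (relIndex_eq_two_of_card C.le23 (by rw [C.c2, C.c3])) hXsq hXcomm
  have hUW : U.relIndex W ≤ 16 := by
    rw [← Subgroup.relIndex_mul_relIndex U (Subgroup.closure A) W hUX hXW, hU2]
    omega
  exact hZ3U (hΦ ▸ S.frat.small U (hUX.trans hXW) hUW)

end Cfsg.Agent.Lib.Helper3.RuSylI
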