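/-
STUB FILE for the farm RU (S3174, 10u; owner helper3).  NEVER imported by an S-file.  Statements are fixed:
prove each unit VERBATIM in a new file of your own directory (Lib/HelperN/RuSyl<unit>.lean, namespace of your choice),
importing Mathlib + Cfsg.Agent.Lib.Helper3.RuSylDefs (+ main libs), and check with
`example : @mine = @Cfsg.Agent.Lib.Helper3.RuSylStub.<name> := rfl`.
During development you may import THIS file to use other units' statements; before landing replace it by the real files.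

MATHEMATICS.  T a 2-group, |T| ≥ 2^14, |Z_4(T)| = 16, W = C_T(Z_3), Φ = Φ(W), |Φ| ≤ 8, Φ ≤ every subgroup of W of index ≤ 16.
(1) |Z_i| = 2^i (i ≤ 4) [chain strictly increasing, else Z_4 = T].  KEY: N normal in T, N not ≤ Z_j  ==>  N ∩ Z_{j+1} not ≤ Z_j
    (take x in N - Z_j, x in Z_m, induct on m: either x in Z_{j+1} or some [x,t] is not in Z_j and lies in Z_{m-1} ∩ N).
    Consequences (unit A): a normal subgroup of order ≤ 2^i lies in Z_i; a normal N > Z_i contains Z_{i+1} (i ≤ 3).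
(2) t ↦ (t z2 t⁻¹, t z3 t⁻¹) ∈ z2 Z_1 × z3 Z_2 is injective on T/W (z2 ∈ Z_2 - Z_1, z3 ∈ Z_3 - Z_2 generate Z_3 with Z_1): d := |T:W| ≤ 8,
    and for d = 8 it is onto (unit D); T/W has order 8 and a non-central involution: D8 (Helper5.OAut.D8.exists_dihedral_equiv).
(3) Φ = Z_i (i ≤ 3).  If W ≠ Φ then Z_{i+1} ≤ W; take a maximal M < W not containing Z_{i+1}; its core K = ⋂_t t M t⁻¹ is normal in T,
    Φ ≤ K, Z_{i+1} not ≤ K, so K = Φ and |W:Φ| ≤ 2^d (at most d conjugates).  So |T| = d |W| ≤ d 2^d 8 ≤ 2^14: equality everywhere: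
    |T| = 2^14, d = 8, |W| = 2^11, Φ = Z_3 (unit E; arithmetic in the assembly).
(4) W' = Z_3: W' ≤ Φ = Z_3 is normal in T; if W' ≠ Z_3 then W' ≤ Z_2, X = {x ∈ W | x² ∈ Z_2} is a subgroup of index ≤ 2 containing Z_3,
    X/Z_2 elementary abelian; Lemma L: there is U with Z_2 ≤ U ≤ X of index 2 in X not containing Z_3; |W:U| ≤ 4: contradiction with
    `small`.  Then Z_3 = W' is abelian and generated by the [x,y], and [x,y]² = [x²,y] = 1 (x² ∈ Z_3 central in W) (unit F).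
(6) Z(W) = Z_3: otherwise Z(W) > Z_3 is normal in T so Z_4 ≤ Z(W).  Let s', t, s ∈ T act on (z2, z3) by (z2 z1, z3), (z2, z3 z1), (z2, z3 z2);
    M maximal in W, Z_3 ≤ M, Z_4 not ≤ M, core(M) = Z_3 (unit E); w0 ∈ W - M with g w0 g⁻¹ ∈ M for g ∉ W (unit E); nrm τ y = y (τ y τ⁻¹).
    P = nrm s (nrm t (nrm s' w0)) is the product of the conjugates of w0 by the 8 words = a transversal, so no conjugate of P is in M
    (unit H), hence P ∈ x4 Z_3 ⊆ Z_4 (x4 ∈ Z_4 - M) is central in W.  X := ⟨Z_3, nrm s y (y ∈ W), nrm t (nrm s' w0)⟩ has X/Z_2 elementary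
    abelian (unit G: class-2 calculus; uses C_{Z_3}(s) = C_{Z_3}(t) = Z_2 and P central) and |W:X| ≤ 8 (unit H).  Lemma L gives U of index
    ≤ 16 in W not containing Z_3 = Φ: contradiction (unit I = helper3).
-/
import Mathlib
import Cfsg.Agent.Lib.Helper3.RuSylDefs

set_option autoImplicit false

namespace Cfsg.Agent.Lib.Helper3.RuSylStub

open Cfsg.Agent.Lib.Helper3.RuSyl

variable {T : Type*} [Group T]

/-! ### Unit A (helper3): consequences of `Chain` -/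

theorem le_Z1_of_card [Finite T] {Z1 Z2 Z3 Z4 : Subgroup T} (C : Chain Z1 Z2 Z3 Z4) (N : Subgroup T)
    (hN : N.Normal) (hc : Nat.card N ≤ 2) : N ≤ Z1 := by sorry

theorem le_Z2_of_card [Finite T] {Z1 Z2 Z3 Z4 : Subgroup T} (C : Chain Z1 Z2 Z3 Z4) (N : Subgroup T)
    (hN : N.Normal) (hc : Nat.card N ≤ 4) : N ≤ Z2 := by sorry

theorem le_Z3_of_card [Finite T] {Z1 Z2 Z3 Z4 : Subgroup T} (C : Chain Z1 Z2 Z3 Z4) (N : Subgroup T)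
    (hN : N.Normal) (hc : Nat.card N ≤ 8) : N ≤ Z3 := by sorry

theorem up0 [Finite T] {Z1 Z2 Z3 Z4 : Subgroup T} (C : Chain Z1 Z2 Z3 Z4) (N : Subgroup T)
    (hN : N.Normal) (hne : N ≠ ⊥) : Z1 ≤ N := by sorry

theorem up1 [Finite T] {Z1 Z2 Z3 Z4 : Subgroup T} (C : Chain Z1 Z2 Z3 Z4) (N : Subgroup T)
    (hN : N.Normal) (hle : Z1 ≤ N) (hne : N ≠ Z1) : Z2 ≤ N := by sorry

theorem up2 [Finite T] {Z1 Z2 Z3 Z4 : Subgroup T} (C : Chain Z1 Z2 Z3 Z4) (N : Subgroup T)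
    (hN : N.Normal) (hle : Z2 ≤ N) (hne : N ≠ Z2) : Z3 ≤ N := by sorry

theorem up3 [Finite T] {Z1 Z2 Z3 Z4 : Subgroup T} (C : Chain Z1 Z2 Z3 Z4) (N : Subgroup T)
    (hN : N.Normal) (hle : Z3 ≤ N) (hne : N ≠ Z3) : Z4 ≤ N := by sorry

/-! ### Unit B: the upper central series gives a `Chain` -/

theorem chain_of_ucs [Finite T] (hT : IsPGroup 2 T)
    (h16 : Nat.card ↥(Subgroup.upperCentralSeries T 4) = 16) (hbig : 16 < Nat.card T) :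
    Chain (Subgroup.upperCentralSeries T 1) (Subgroup.upperCentralSeries T 2)
      (Subgroup.upperCentralSeries T 3) (Subgroup.upperCentralSeries T 4) := by sorry

/-! ### Unit C: the Frattini subgroup of `W` gives a `FratLike` -/

theorem fratLike_of_frattini [Finite T] (hT : IsPGroup 2 T) (W : Subgroup T) [W.Normal]
    (hd : ∀ U : Subgroup ↥W, U.index ≤ 16 → frattini ↥W ≤ U) :
    FratLike W ((frattini ↥W).map W.subtype) := by sorry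

/-! ### Unit D: `T/W` -/

theorem normalW {Z1 Z2 Z3 Z4 W : Subgroup T} (C : Chain Z1 Z2 Z3 Z4)
    (hW : W = Subgroup.centralizer (Z3 : Set T)) : W.Normal := by sorry

theorem mem_W_of_fix [Finite T] {Z1 Z2 Z3 Z4 W : Subgroup T} (C : Chain Z1 Z2 Z3 Z4)
    (hW : W = Subgroup.centralizer (Z3 : Set T)) (z2 z3 : T) (hz2 : z2 ∈ Z2) (hz2' : z2 ∉ Z1)
    (hz3 : z3 ∈ Z3) (hz3' : z3 ∉ Z2) (g : T) (h2 : g * z2 * g⁻¹ = z2) (h3 : g * z3 * g⁻¹ = z3) :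
    g ∈ W := by sorry

theorem index_le [Finite T] {Z1 Z2 Z3 Z4 W : Subgroup T} (C : Chain Z1 Z2 Z3 Z4)
    (hW : W = Subgroup.centralizer (Z3 : Set T)) : W.index ≤ 8 := by sorry

theorem exists_act [Finite T] {Z1 Z2 Z3 Z4 W : Subgroup T} (C : Chain Z1 Z2 Z3 Z4)
    (hW : W = Subgroup.centralizer (Z3 : Set T)) (h8 : W.index = 8) (z2 z3 : T) (hz2 : z2 ∈ Z2)
    (hz2' : z2 ∉ Z1) (hz3 : z3 ∈ Z3) (hz3' : z3 ∉ Z2) (u1 u2 : T) (hu1 : u1 ∈ Z1) (hu2 : u2 ∈ Z2) :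
    ∃ t : T, t * z2 * t⁻¹ = z2 * u1 ∧ t * z3 * t⁻¹ = z3 * u2 := by sorry

theorem dihedral [Finite T] {Z1 Z2 Z3 Z4 W : Subgroup T} (C : Chain Z1 Z2 Z3 Z4)
    (hW : W = Subgroup.centralizer (Z3 : Set T)) (h8 : W.index = 8) [W.Normal] :
    Nonempty (T ⧸ W ≃* DihedralGroup 4) := by sorry

/-! ### Unit E: the core of a maximal subgroup of `W` -/

theorem core_bound [Finite T] {Z1 Z2 Z3 Z4 W Φ : Subgroup T} (S : Setting Z1 Z2 Z3 Z4 W Φ) :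
    Nat.card W ≤ Nat.card Φ * 2 ^ W.index := by sorry

theorem exists_max [Finite T] {Z1 Z2 Z3 Z4 W Φ : Subgroup T} (S : Setting Z1 Z2 Z3 Z4 W Φ)
    (hΦ : Φ = Z3) (hW11 : Nat.card W = 2 ^ 11) :
    ∃ M : Subgroup T, M ≤ W ∧ M.relIndex W = 2 ∧ Z3 ≤ M ∧ ¬ Z4 ≤ M ∧
      ∀ x ∈ W, (∀ t : T, t * x * t⁻¹ ∈ M) → x ∈ Z3 := by sorry

theorem exists_w0 [Finite T] (W M Z : Subgroup T) [W.Normal] (hMW : M ≤ W) (hM2 : M.relIndex W = 2)
    (h8 : W.index = 8) (hZ : Nat.card Z = 8) (hW11 : Nat.card W = 2 ^ 11)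
    (hcore : ∀ x ∈ W, (∀ t : T, t * x * t⁻¹ ∈ M) → x ∈ Z) :
    ∃ w0 ∈ W, w0 ∉ M ∧ ∀ g : T, g ∉ W → g * w0 * g⁻¹ ∈ M := by sorry

/-! ### Unit F: Lemma L, `W' = Z3`, `Z3` elementary abelian -/

/-- Lemma L: `X/Y2` elementary abelian, `Y2 < Y ≤ X` with `|Y:Y2| = 2`: a subgroup of index 2 of `X` over `Y2` missing `Y`. -/
theorem exists_index_two_avoiding [Finite T] (X Y Y2 : Subgroup T) (hY2 : Y2 ≤ Y) (hYX : Y ≤ X)
    (hidx : Y2.relIndex Y = 2) (hsq : ∀ x ∈ X, x ^ 2 ∈ Y2)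
    (hcomm : ∀ x ∈ X, ∀ y ∈ X, x * y * x⁻¹ * y⁻¹ ∈ Y2) :
    ∃ U : Subgroup T, Y2 ≤ U ∧ U ≤ X ∧ U.relIndex X = 2 ∧ ¬ Y ≤ U := by sorry

theorem commutator_eq [Finite T] {Z1 Z2 Z3 Z4 W Φ : Subgroup T} (S : Setting Z1 Z2 Z3 Z4 W Φ)
    (hΦ : Φ = Z3) (hW11 : Nat.card W = 2 ^ 11) : ⁅W, W⁆ = Z3 := by sorry

theorem Z3_sq [Finite T] {Z1 Z2 Z3 Z4 W Φ : Subgroup T} (S : Setting Z1 Z2 Z3 Z4 W Φ)
    (hΦ : Φ = Z3) (hW11 : Nat.card W = 2 ^ 11) : ∀ z ∈ Z3, z ^ 2 = 1 := by sorry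

/-! ### Unit G: class-2 calculus -/

theorem norm_sq {W Z Z2 : Subgroup T} (K : Cal W Z Z2) (τ : T) (hτ : τ * τ ∈ W)
    (hfix : ∀ z ∈ Z, τ * z * τ⁻¹ = z → z ∈ Z2) (y : T) (hy : y ∈ W) : nrm τ y ^ 2 ∈ Z2 := by sorry

theorem norm_comm {W Z Z2 : Subgroup T} (K : Cal W Z Z2) (τ : T) (hτ : τ * τ ∈ W)
    (hfix : ∀ z ∈ Z, τ * z * τ⁻¹ = z → z ∈ Z2) (y y' : T) (hy : y ∈ W) (hy' : y' ∈ W) :
    nrm τ y * nrm τ y' * (nrm τ y)⁻¹ * (nrm τ y')⁻¹ ∈ Z2 := by sorry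

theorem norm_comm_of_central {W Z Z2 : Subgroup T} (K : Cal W Z Z2) (τ : T) (hτ : τ * τ ∈ W)
    (y n : T) (hy : y ∈ W) (hn : n ∈ W) (hcen : nrm τ n * y = y * nrm τ n) :
    nrm τ y * n * (nrm τ y)⁻¹ * n⁻¹ ∈ Z2 := by sorry

theorem elemAb_closure {W Z Z2 : Subgroup T} (K : Cal W Z Z2) (A : Set T) (hA : A ⊆ W)
    (hsq : ∀ a ∈ A, a ^ 2 ∈ Z2) (hcomm : ∀ a ∈ A, ∀ b ∈ A, a * b * a⁻¹ * b⁻¹ ∈ Z2) :
    (∀ x ∈ Subgroup.closure A, x ^ 2 ∈ Z2) ∧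
      ∀ x ∈ Subgroup.closure A, ∀ y ∈ Subgroup.closure A, x * y * x⁻¹ * y⁻¹ ∈ Z2 := by sorry

/-! ### Unit H: coordinates -/

theorem all_coords [Finite T] (W M : Subgroup T) [W.Normal] (hMW : M ≤ W) (hM2 : M.relIndex W = 2)
    (h8 : W.index = 8) (w0 s' t s : T) (hw0 : w0 ∈ W) (hw0M : w0 ∉ M)
    (hw0c : ∀ g : T, g ∉ W → g * w0 * g⁻¹ ∈ M)
    (hdist : Function.Injective (fun i : Fin 8 => ((words s' t s i : T) : T ⧸ W))) :
    ∀ g : T, g * nrm s (nrm t (nrm s' w0)) * g⁻¹ ∉ M := by sorry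

theorem relIndex_le_eight [Finite T] (W M Z : Subgroup T) [W.Normal] (hZW : Z ≤ W) (hMW : M ≤ W)
    (hM2 : M.relIndex W = 2) (h8 : W.index = 8)
    (hcore : ∀ x ∈ W, (∀ g : T, g * x * g⁻¹ ∈ M) → x ∈ Z)
    (hcomm : ∀ x ∈ W, ∀ y ∈ W, x * y * x⁻¹ * y⁻¹ ∈ Z) (hsq : ∀ x ∈ W, x ^ 2 ∈ Z)
    (w0 s' t s : T) (hw0 : w0 ∈ W) (hw0M : w0 ∉ M) (hw0c : ∀ g : T, g ∉ W → g * w0 * g⁻¹ ∈ M)
    (hdist : Function.Injective (fun i : Fin 8 => ((words s' t s i : T) : T ⧸ W)))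
    (X : Subgroup T) (hZX : Z ≤ X) (hXW : X ≤ W) (hN : ∀ y ∈ W, nrm s y ∈ X)
    (hn : nrm t (nrm s' w0) ∈ X) : X.relIndex W ≤ 8 := by sorry

/-! ### Unit I (helper3): the centre of `W` -/

theorem center_le [Finite T] {Z1 Z2 Z3 Z4 W Φ : Subgroup T} (S : Setting Z1 Z2 Z3 Z4 W Φ)
    (hΦ : Φ = Z3) (h8 : W.index = 8) (hW11 : Nat.card W = 2 ^ 11) :
    ∀ x ∈ W, (∀ y ∈ W, x * y = y * x) → x ∈ Z3 := by sorry

end Cfsg.Agent.Lib.Helper3.RuSylStub
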