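import Mathlib
import Cfsg.Agent.Lib.Helper1.S1233MCQ
import Cfsg.Agent.Lib.Helper3.S1233B2d
import Cfsg.Agent.Lib.Helper3.S1233B2c

/-!
# Farm S1233, unit U-D6 (helper3), part a: a cyclic quotient `R / N` with an element `j`
acting on it.  If `j` fixes an element of order `≥ 4` of `R / N` and inverts `ρ N`, then
`ρ N` has order `≤ 2`, hence is trivial or the unique involution.
-/

set_option autoImplicit false

namespace Cfsg.Agent.Lib.Helper3.S1233D6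

open Cfsg.Agent.Lib.Helper1.S1233 Cfsg.Agent.Lib.Helper3.S1233B2

theorem inv_power_sq {G : Type*} [Group G] [Finite G] (hG : IsPGroup 2 G) (t : ℕ) (c ρ : G)
    (hc : c ^ t = c) (hρ : ρ ^ t = ρ⁻¹) (hcc : c * c ≠ 1) : ρ * ρ = 1 := by
  have hc1 : c ≠ 1 := by rintro rfl; exact hcc (one_mul 1)
  have ht : 1 ≤ t := by
    by_contra h
    have : t = 0 := by omega
    subst this
    rw [pow_zero] at hc
    exact hc1 hc.symm
  obtain ⟨u, hu⟩ := (IsPGroup.iff_orderOf.mp hG) c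
  obtain ⟨w, hw⟩ := (IsPGroup.iff_orderOf.mp hG) ρ
  have h1 : c ^ (t - 1) = 1 := by
    have : c ^ (t - 1) * c = c := by rw [← pow_succ, Nat.sub_add_cancel ht, hc]
    exact mul_eq_right.mp this
  have hd1 : 2 ^ u ∣ t - 1 := by rw [← hu]; exact orderOf_dvd_of_pow_eq_one h1
  have hu2 : 2 ≤ u := by
    by_contra h
    apply hcc
    have hle : u ≤ 1 := by omega
    have : orderOf c ∣ 2 := by
      rw [hu]
      calc 2 ^ u ∣ 2 ^ 1 := pow_dvd_pow 2 hle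
        _ = 2 := by norm_num
    rw [← pow_two]
    exact orderOf_dvd_iff_pow_eq_one.mp this
  have h4 : 4 ∣ t - 1 := by
    calc (4 : ℕ) = 2 ^ 2 := by norm_num
      _ ∣ 2 ^ u := pow_dvd_pow 2 hu2
      _ ∣ t - 1 := hd1
  have h2 : ρ ^ (t + 1) = 1 := by rw [pow_succ, hρ, inv_mul_cancel]
  have hd2 : 2 ^ w ∣ t + 1 := by rw [← hw]; exact orderOf_dvd_of_pow_eq_one h2
  have hw1 : w ≤ 1 := by
    by_contra h
    have hw2 : 2 ≤ w := by omega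
    have h4' : 4 ∣ t + 1 := by
      calc (4 : ℕ) = 2 ^ 2 := by norm_num
        _ ∣ 2 ^ w := pow_dvd_pow 2 hw2
        _ ∣ t + 1 := hd2
    omega
  have : orderOf ρ ∣ 2 := by
    rw [hw]
    calc 2 ^ w ∣ 2 ^ 1 := pow_dvd_pow 2 hw1
      _ = 2 := by norm_num
  rw [← pow_two]
  exact orderOf_dvd_iff_pow_eq_one.mp this

theorem cyclic_quot_inv {S : Type*} [Group S] [Finite S] (hS : IsPGroup 2 S) (R N : Subgroup S)
    (hNR : N ≤ R) (hnorm : ∀ r ∈ R, ∀ n ∈ N, r⁻¹ * n * r ∈ N)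
    (r₀ : S) (hr₀ : r₀ ∈ R) (hcyc : ∀ r ∈ R, ∃ k : ℕ, ∃ n ∈ N, r = r₀ ^ k * n)
    (j : S) (hjR : ∀ r ∈ R, j⁻¹ * r * j ∈ R) (hjN : ∀ n ∈ N, j⁻¹ * n * j ∈ N)
    (c ρ i : S) (hc : c ∈ R) (hρ : ρ ∈ R) (hi : i ∈ R)
    (hjc : j⁻¹ * c * j = c) (hjρ : j⁻¹ * ρ * j = ρ⁻¹) (hcc : c * c ∉ N)
    (hiN : i ∉ N) (hii : i * i ∈ N) : ρ ∈ N ∨ ρ * i ∈ N := by
  set N' : Subgroup ↥R := N.subgroupOf R with hN'
  have hN'n : N'.Normal := by
    constructor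
    intro n hn g
    rw [hN', Subgroup.mem_subgroupOf] at hn ⊢
    have := hnorm (g⁻¹ : ↥R) (g⁻¹ : ↥R).2 n hn
    simpa using this
  have hπ : ∀ y : ↥R, (QuotientGroup.mk' N') y = 1 ↔ (y : S) ∈ N := by
    intro y
    rw [QuotientGroup.mk'_apply, QuotientGroup.eq_one_iff, hN', Subgroup.mem_subgroupOf]
  set π := QuotientGroup.mk' N' with hπdef
  set g₀ := π ⟨r₀, hr₀⟩ with hg₀
  -- every class is a power of `g₀`
  have hpow : ∀ y : ↥R, ∀ k : ℕ, ∀ n ∈ N, (y : S) = r₀ ^ k * n → π y = g₀ ^ k := by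
    intro y k n hn hy
    have hy' : y = (⟨r₀, hr₀⟩ : ↥R) ^ k * ⟨n, hNR hn⟩ := by
      apply Subtype.ext
      rw [hy]; simp
    rw [hy', map_mul, map_pow, (hπ ⟨n, hNR hn⟩).mpr hn, mul_one]
  have hgen : ∀ g : ↥R ⧸ N', g ∈ Subgroup.zpowers g₀ := by
    intro g
    obtain ⟨y, rfl⟩ := QuotientGroup.mk'_surjective N' g
    obtain ⟨k, n, hn, hy⟩ := hcyc y y.2
    rw [hpow y k n hn hy]
    exact Subgroup.npow_mem_zpowers _ _
  have hCyc : IsCyclic (↥R ⧸ N') := ⟨⟨g₀, hgen⟩⟩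
  have hP : IsPGroup 2 (↥R ⧸ N') := (hS.to_subgroup R).to_quotient N'
  -- the action of `j`
  obtain ⟨t, -, ht⟩ := exists_pow_of_mem_zpowers g₀ (π ⟨j⁻¹ * r₀ * j, hjR r₀ hr₀⟩) (hgen _)
  have hact : ∀ y : ↥R, π ⟨j⁻¹ * (y : S) * j, hjR y y.2⟩ = (π y) ^ t := by
    intro y
    obtain ⟨k, n, hn, hy⟩ := hcyc y y.2
    have h1 : π y = g₀ ^ k := hpow y k n hn hy
    have h2 : (⟨j⁻¹ * (y : S) * j, hjR y y.2⟩ : ↥R) =
        (⟨j⁻¹ * r₀ * j, hjR r₀ hr₀⟩ : ↥R) ^ k * ⟨j⁻¹ * n * j, hNR (hjN n hn)⟩ := by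
      apply Subtype.ext
      simp only [Subgroup.coe_mul, Subgroup.coe_pow]
      rw [hy, ← conj_pow']
      group
    rw [h2, map_mul, map_pow, ← ht, (hπ ⟨j⁻¹ * n * j, hNR (hjN n hn)⟩).mpr (hjN n hn), mul_one, h1,
      ← pow_mul, ← pow_mul, mul_comm]
  have hct : (π ⟨c, hc⟩) ^ t = π ⟨c, hc⟩ := by
    rw [← hact ⟨c, hc⟩]
    congr 1
    exact Subtype.ext hjc
  have hρt : (π ⟨ρ, hρ⟩) ^ t = (π ⟨ρ, hρ⟩)⁻¹ := by
    rw [← hact ⟨ρ, hρ⟩, ← map_inv]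
    congr 1
    exact Subtype.ext hjρ
  have hcc' : π ⟨c, hc⟩ * π ⟨c, hc⟩ ≠ 1 := by
    rw [← map_mul, Ne, hπ]
    exact hcc
  have hρρ := inv_power_sq hP t _ _ hct hρt hcc'
  have hii' : π ⟨i, hi⟩ * π ⟨i, hi⟩ = 1 := by
    rw [← map_mul, hπ]
    exact hii
  have hi1 : π ⟨i, hi⟩ ≠ 1 := by
    rw [Ne, hπ]
    exact hiN
  rcases cyclic_invol_unique (π ⟨ρ, hρ⟩) (π ⟨i, hi⟩) hρρ hii' hi1 with h | h
  · left
    exact (hπ ⟨ρ, hρ⟩).mp h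
  · right
    have : π (⟨ρ, hρ⟩ * ⟨i, hi⟩) = 1 := by rw [map_mul, h, hii']
    exact (hπ _).mp this

end Cfsg.Agent.Lib.Helper3.S1233D6
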