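import Mathlib
import Cfsg.Agent.Lib.Helper1.S1233Defs
import Cfsg.Agent.Lib.Helper1.S1233Glue
import Cfsg.Agent.Lib.Helper1.S1233Pre
import Cfsg.Agent.Lib.Helper1.S1233D1
import Cfsg.Agent.Lib.Helper5.S1233D4
import Cfsg.Agent.Lib.Helper3.S1233B2
import Cfsg.Agent.Lib.Helper3.S1233D6a

/-!
# Farm S1233, unit U-D6 (helper3), part b: one side of D6 ("no diagonal").
-/

set_option autoImplicit false

namespace Cfsg.Agent.Lib.Helper3.S1233D6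

open Cfsg.Agent.Lib.Helper1.S1233 Cfsg.Agent.Lib.Helper3.S1233B2

variable {S : Type*} [Group S] {Q₁ Q₂ : Subgroup S} {d : Dat S}

theorem conj_mem_zpowers {g c : S} (h : g⁻¹ * c * g ∈ Subgroup.zpowers c) :
    ∀ n ∈ Subgroup.zpowers c, g⁻¹ * n * g ∈ Subgroup.zpowers c := by
  intro n hn
  obtain ⟨k, rfl⟩ := Subgroup.mem_zpowers_iff.mp hn
  have := conj_zpow (a := g⁻¹) (b := c) (i := k)
  rw [inv_inv] at this
  rw [← this]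
  exact Subgroup.zpow_mem _ h k

theorem comm_of_mem_centralizer {H : Subgroup S} {y q : S} (hy : y ∈ cen H) (hq : q ∈ H) :
    y * q = q * y := by
  rw [Subgroup.mem_centralizer_iff] at hy
  exact (hy q hq).symm

theorem mem_Rs_iff {a b r : S} : r ∈ Rs a b ↔ r * a = a * r ∧ r * b = b * r := by
  rw [Subgroup.mem_centralizer_iff]
  constructor
  · intro h
    exact ⟨(h a (by simp)).symm, (h b (by simp)).symm⟩
  · rintro ⟨h1, h2⟩ y hy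
    rcases hy with rfl | rfl
    · exact h1.symm
    · exact h2.symm

/-- conjugation of a commutator -/
theorem cm_conj (a b g : S) : cm a (g⁻¹ * b * g) = g⁻¹ * cm (g * a * g⁻¹) b * g := by
  simp only [cm]; group

/-- if `j⁻¹ i j = i⁻¹`, `x` commutes with `i`, then `ρ = j⁻¹ (x⁻¹ j x)` commutes with `i`. -/
theorem rho_comm {i j x : S} (hji : j⁻¹ * i * j = i⁻¹) (hxi : x * i = i * x) :
    (j⁻¹ * (x⁻¹ * j * x)) * i = i * (j⁻¹ * (x⁻¹ * j * x)) := by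
  have hxi' : x⁻¹ * i * x = i := by rw [mul_assoc, ← hxi, ← mul_assoc, inv_mul_cancel, one_mul]
  have hxi'' : x * i * x⁻¹ = i := by rw [hxi, mul_assoc, mul_inv_cancel, mul_one]
  -- `(x⁻¹ j x)⁻¹ i (x⁻¹ j x) = i⁻¹`
  have h1 : (x⁻¹ * j * x)⁻¹ * i * (x⁻¹ * j * x) = i⁻¹ := by
    calc (x⁻¹ * j * x)⁻¹ * i * (x⁻¹ * j * x) = x⁻¹ * (j⁻¹ * (x * i * x⁻¹) * j) * x := by group
      _ = x⁻¹ * i⁻¹ * x := by rw [hxi'', hji]
      _ = (x⁻¹ * i * x)⁻¹ := by group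
      _ = i⁻¹ := by rw [hxi']
  have h2 : j * i * j⁻¹ = i⁻¹ := by
    have : i = j * i⁻¹ * j⁻¹ := by rw [← hji]; group
    calc j * i * j⁻¹ = (j * i⁻¹ * j⁻¹)⁻¹ := by group
      _ = i⁻¹ := by rw [← this]
  have h3 : (j⁻¹ * (x⁻¹ * j * x))⁻¹ * i * (j⁻¹ * (x⁻¹ * j * x)) = i := by
    calc (j⁻¹ * (x⁻¹ * j * x))⁻¹ * i * (j⁻¹ * (x⁻¹ * j * x))
        = (x⁻¹ * j * x)⁻¹ * (j * i * j⁻¹) * (x⁻¹ * j * x) := by group
      _ = (x⁻¹ * j * x)⁻¹ * i⁻¹ * (x⁻¹ * j * x) := by rw [h2]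
      _ = ((x⁻¹ * j * x)⁻¹ * i * (x⁻¹ * j * x))⁻¹ := by group
      _ = i := by rw [h1, inv_inv]
  calc (j⁻¹ * (x⁻¹ * j * x)) * i
      = (j⁻¹ * (x⁻¹ * j * x)) * ((j⁻¹ * (x⁻¹ * j * x))⁻¹ * i * (j⁻¹ * (x⁻¹ * j * x))) := by rw [h3]
    _ = i * (j⁻¹ * (x⁻¹ * j * x)) := by group

/-- if `j` commutes with `i` and `x` commutes with `i` then so does `ρ = j⁻¹ (x⁻¹ j x)`. -/
theorem rho_comm' {i j x : S} (hji : j * i = i * j) (hxi : x * i = i * x) :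
    (j⁻¹ * (x⁻¹ * j * x)) * i = i * (j⁻¹ * (x⁻¹ * j * x)) := by
  have h1 : j⁻¹ * i = i * j⁻¹ := by
    calc j⁻¹ * i = j⁻¹ * (i * j) * j⁻¹ := by group
      _ = j⁻¹ * (j * i) * j⁻¹ := by rw [hji]
      _ = i * j⁻¹ := by group
  have h2 : x⁻¹ * i = i * x⁻¹ := by
    calc x⁻¹ * i = x⁻¹ * (i * x) * x⁻¹ := by group
      _ = x⁻¹ * (x * i) * x⁻¹ := by rw [hxi]
      _ = i * x⁻¹ := by group
  calc (j⁻¹ * (x⁻¹ * j * x)) * i = j⁻¹ * x⁻¹ * j * (x * i) := by group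
    _ = j⁻¹ * x⁻¹ * j * (i * x) := by rw [hxi]
    _ = j⁻¹ * x⁻¹ * (j * i) * x := by group
    _ = j⁻¹ * x⁻¹ * (i * j) * x := by rw [hji]
    _ = j⁻¹ * (x⁻¹ * i) * j * x := by group
    _ = j⁻¹ * (i * x⁻¹) * j * x := by rw [h2]
    _ = (j⁻¹ * i) * x⁻¹ * j * x := by group
    _ = (i * j⁻¹) * x⁻¹ * j * x := by rw [h1]
    _ = i * (j⁻¹ * (x⁻¹ * j * x)) := by group

end Cfsg.Agent.Lib.Helper3.S1233D6
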