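import Mathlib
import Cfsg.Agent.Lib.Helper3.S1233D6b

/-!
# Farm S1233, unit U-D6 (helper3), part c: one side of D6.
-/

set_option autoImplicit false

namespace Cfsg.Agent.Lib.Helper3.S1233D6

open Cfsg.Agent.Lib.Helper1.S1233 Cfsg.Agent.Lib.Helper3.S1233B2

variable {S : Type*} [Group S] {Q₁ Q₂ : Subgroup S} {d : Dat S}

/-- `ρ₁ = j₁⁻¹ (x⁻¹ j₁ x)` commutes with every element of `⟨c₁⟩`. -/
theorem rho_comm_c1 (hC : Ctx Q₁ Q₂ d) (h1 : 3 ≤ d.n₁) (h2 : 3 ≤ d.n₂) (M : Subgroup S)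
    (hM : Good Q₁ Q₂ d M) (x : S) (hx : ∀ m ∈ M, x⁻¹ * m * x ∈ M) (hxR : x ∈ Rs d.i₁ d.i₂) :
    ∀ w ∈ Subgroup.zpowers d.c₁,
      (d.j₁⁻¹ * (x⁻¹ * d.j₁ * x)) * w = w * (d.j₁⁻¹ * (x⁻¹ * d.j₁ * x)) := by
  have hB := hC.base
  have hB' := base_symm hB
  have s1 := hC.s1
  have s2 := hC.s2
  have hfin := hB.fin
  have hz := hB.z_central
  have hzz := hB.z_sq
  obtain ⟨hxi1, hxi2⟩ := mem_Rs_iff.mp hxR
  have hQ1X : Q₁ ≤ cen Q₂ := side_le hB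
  have hQ2X : Q₂ ≤ cen Q₁ := side_le hB'
  have hj1X : d.j₁ ∈ cen Q₂ := hQ1X s1.j_mem
  have hj1M : d.j₁ ∈ M := hM.le1 hj1X
  set ρ := d.j₁⁻¹ * (x⁻¹ * d.j₁ * x) with hρ
  have hρM : ρ ∈ M := M.mul_mem (M.inv_mem hj1M) (hx _ hj1M)
  -- `ρ ∈ Rs`
  have hj1i1 : d.j₁⁻¹ * d.i₁ * d.j₁ = d.i₁⁻¹ := conj_i hB s1 h1 d.j₁ hj1X s1.j_not
  have hj1i2 : d.j₁ * d.i₂ = d.i₂ * d.j₁ := hB.comm _ s1.j_mem _ s2.i_mem
  have hρR : ρ ∈ Rs d.i₁ d.i₂ := mem_Rs_iff.mpr ⟨rho_comm hj1i1 hxi1, rho_comm' hj1i2 hxi2⟩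
  have hρIn : InR1 d ρ := hM.rM ρ hρM hρR
  -- `j₁⁻¹ ρ j₁ = ρ⁻¹`
  have hj1sq : d.j₁ * d.j₁ = d.z := side_j_sq' hB s1
  have hjρ : d.j₁⁻¹ * ρ * d.j₁ = ρ⁻¹ := by
    have h3 : (x⁻¹ * d.j₁ * x) * (x⁻¹ * d.j₁ * x) = d.z := by
      calc (x⁻¹ * d.j₁ * x) * (x⁻¹ * d.j₁ * x) = x⁻¹ * (d.j₁ * d.j₁) * x := by group
        _ = d.z := by rw [hj1sq, mul_assoc, ← hz x, ← mul_assoc, inv_mul_cancel, one_mul]
    have h4 : x⁻¹ * d.j₁ * x = d.j₁ * ρ := by rw [hρ]; group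
    rw [h4] at h3
    -- `j ρ j ρ = j j`
    have h5 : ρ * d.j₁ * ρ = d.j₁ := by
      have : d.j₁ * (ρ * d.j₁ * ρ) = d.j₁ * d.j₁ := by
        rw [hj1sq, ← h3]; group
      exact mul_left_cancel this
    calc d.j₁⁻¹ * ρ * d.j₁ = d.j₁⁻¹ * (ρ * d.j₁ * ρ) * ρ⁻¹ := by group
      _ = ρ⁻¹ := by rw [h5]; group
  -- the subgroup `R₁`
  set R : Subgroup S := CzR d.z hz d.c₁ ⊓ CzR d.z hz d.c₂ with hR
  have hmemR : ∀ r : S, r ∈ R ↔ InR1 d r := by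
    intro r
    rw [hR, Subgroup.mem_inf, mem_CzR', mem_CzR']
    rfl
  have hc1X : d.c₁ ∈ cen Q₂ := s1.c_mem
  have hc2X : d.c₂ ∈ cen Q₁ := s2.c_mem
  have hlem : cm d.c₁ d.c₂ ∈ Zs d.z := hC.lemB _ hc1X _ hc2X
  have hc1R : d.c₁ ∈ R := by
    rw [hmemR]
    exact ⟨by rw [cm_eq_one_of_comm rfl]; exact Subgroup.one_mem _, hlem⟩
  have hc2R : d.c₂ ∈ R := by
    rw [hmemR]
    exact ⟨cm_mem_symm hlem, by rw [cm_eq_one_of_comm rfl]; exact Subgroup.one_mem _⟩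
  have hNR : Subgroup.zpowers d.c₁ ≤ R := by rw [Subgroup.zpowers_le]; exact hc1R
  have hzc1 : d.z ∈ Subgroup.zpowers d.c₁ := z_mem_zpowers s1
  have hnorm : ∀ r ∈ R, ∀ n ∈ Subgroup.zpowers d.c₁, r⁻¹ * n * r ∈ Subgroup.zpowers d.c₁ := by
    intro r hr
    apply conj_mem_zpowers
    rcases conj_of_cm hzz ((hmemR r).mp hr).1 with h | h
    · rw [h]; exact Subgroup.mem_zpowers _
    · rw [h]; exact Subgroup.mul_mem _ (Subgroup.mem_zpowers _) hzc1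
  obtain ⟨r₀, hr₀, hcyc⟩ := D1_cyc hC h1 h2
  have hj1c1 : d.j₁⁻¹ * d.c₁ * d.j₁ = d.c₁ ^ d.ε₁ := s1.act d.j₁ hj1X s1.j_not
  have hj1c2 : d.j₁ * d.c₂ = d.c₂ * d.j₁ := (comm_of_mem_centralizer hc2X s1.j_mem).symm
  have hjN : ∀ n ∈ Subgroup.zpowers d.c₁, d.j₁⁻¹ * n * d.j₁ ∈ Subgroup.zpowers d.c₁ := by
    apply conj_mem_zpowers
    rw [hj1c1]; exact Subgroup.npow_mem_zpowers _ _
  have hjR : ∀ r ∈ R, d.j₁⁻¹ * r * d.j₁ ∈ R := by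
    intro r hr
    obtain ⟨hr1, hr2⟩ := (hmemR r).mp hr
    rw [hR, Subgroup.mem_inf, mem_CzR, mem_CzR]
    constructor
    · rw [cm_conj]
      -- `j c₁ j⁻¹ ∈ ⟨c₁⟩`
      have h5 : d.j₁ * d.c₁ * d.j₁⁻¹ ∈ Subgroup.zpowers d.c₁ := by
        have := conj_mem_zpowers (g := d.j₁⁻¹) (c := d.c₁) (by
          rw [inv_inv]
          have hji : d.j₁⁻¹ ∈ cen Q₂ := (cen Q₂).inv_mem hj1X
          have hjn : d.j₁⁻¹ ∉ Subgroup.zpowers d.c₁ := fun h => s1.j_not (by simpa using Subgroup.inv_mem _ h)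
          have := s1.act d.j₁⁻¹ hji hjn
          rw [inv_inv] at this
          rw [this]; exact Subgroup.npow_mem_zpowers _ _) d.c₁ (Subgroup.mem_zpowers _)
        simpa using this
      have h6 : Subgroup.zpowers d.c₁ ≤ CzR d.z hz r := by
        rw [Subgroup.zpowers_le, mem_CzR]; exact hr1
      have h7 : cm (d.j₁ * d.c₁ * d.j₁⁻¹) r ∈ Zs d.z := mem_CzR'.mp (h6 h5)
      have h8 := Zs_central hz h7 d.j₁
      rw [mul_assoc, ← h8, ← mul_assoc, inv_mul_cancel, one_mul]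
      exact h7
    · rw [cm_conj]
      have h5 : d.j₁ * d.c₂ * d.j₁⁻¹ = d.c₂ := by rw [hj1c2, mul_assoc, mul_inv_cancel, mul_one]
      rw [h5]
      have h7 : cm d.c₂ r ∈ Zs d.z := cm_mem_symm hr2
      have h8 := Zs_central hz h7 d.j₁
      rw [mul_assoc, ← h8, ← mul_assoc, inv_mul_cancel, one_mul]
      exact h7
  have hi2X : d.i₂ ∈ cen Q₁ := hQ2X s2.i_mem
  have hi2R : d.i₂ ∈ R := by
    rw [hmemR]
    constructor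
    · rw [cm_eq_one_of_comm (comm_of_mem_centralizer hc1X s2.i_mem).symm]
      exact Subgroup.one_mem _
    · have : d.i₂ * d.c₂ = d.c₂ * d.i₂ := by
        obtain ⟨k, hk⟩ := Subgroup.mem_zpowers_iff.mp (i_mem_zpowers s2)
        rw [← hk]
        exact ((Commute.refl d.c₂).zpow_left k).eq
      rw [cm_eq_one_of_comm this]
      exact Subgroup.one_mem _
  have hinf : cen Q₂ ⊓ cen Q₁ = Zs d.z := side_inf hB
  have hcc : d.c₂ * d.c₂ ∉ Subgroup.zpowers d.c₁ := by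
    intro h
    have h5 : d.c₂ * d.c₂ ∈ Zs d.z := by
      rw [← hinf]
      exact Subgroup.mem_inf.mpr ⟨zpowers_le s1 h, (cen Q₁).mul_mem hc2X hc2X⟩
    have h6 := zs_sq hB _ h5
    apply c_pow_four_ne s2 h2
    rw [pow_four']; exact h6
  have hi2sq : d.i₂ * d.i₂ = d.z := side_i_sq s2
  have hiN : d.i₂ ∉ Subgroup.zpowers d.c₁ := by
    intro h
    have h5 : d.i₂ ∈ Zs d.z := by
      rw [← hinf]
      exact Subgroup.mem_inf.mpr ⟨zpowers_le s1 h, hi2X⟩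
    have h6 := zs_sq hB _ h5
    rw [hi2sq] at h6
    exact hB.z_ne h6
  have hii : d.i₂ * d.i₂ ∈ Subgroup.zpowers d.c₁ := by rw [hi2sq]; exact hzc1
  have hj1c2' : d.j₁⁻¹ * d.c₂ * d.j₁ = d.c₂ := by
    rw [mul_assoc, ← hj1c2, ← mul_assoc, inv_mul_cancel, one_mul]
  have key := cyclic_quot_inv hB.pS R (Subgroup.zpowers d.c₁) hNR hnorm r₀ ((hmemR r₀).mpr hr₀)
    (fun r hr => hcyc r ((hmemR r).mp hr)) d.j₁ hjR hjN d.c₂ ρ d.i₂ hc2R ((hmemR ρ).mpr hρIn) hi2R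
    hj1c2' hjρ hcc hiN hii
  intro w hw
  have hwi2 : w * d.i₂ = d.i₂ * w := comm_of_mem_centralizer (zpowers_le s1 hw) s2.i_mem
  have hcomm : ∀ a ∈ Subgroup.zpowers d.c₁, a * w = w * a := by
    intro a ha
    obtain ⟨k, rfl⟩ := Subgroup.mem_zpowers_iff.mp ha
    obtain ⟨l, rfl⟩ := Subgroup.mem_zpowers_iff.mp hw
    rw [← zpow_add, ← zpow_add, add_comm]
  rcases key with h | h
  · exact hcomm ρ h
  · have h5 := hcomm _ h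
    calc ρ * w = (ρ * d.i₂) * (d.i₂⁻¹ * w) := by group
      _ = (ρ * d.i₂) * (w * d.i₂⁻¹) := by
          congr 1
          calc d.i₂⁻¹ * w = d.i₂⁻¹ * (w * d.i₂) * d.i₂⁻¹ := by group
            _ = d.i₂⁻¹ * (d.i₂ * w) * d.i₂⁻¹ := by rw [hwi2]
            _ = w * d.i₂⁻¹ := by group
      _ = ((ρ * d.i₂) * w) * d.i₂⁻¹ := by group
      _ = (w * (ρ * d.i₂)) * d.i₂⁻¹ := by rw [h5]
      _ = w * ρ := by group

end Cfsg.Agent.Lib.Helper3.S1233D6
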