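import Mathlib
import Cfsg.Agent.Lib.Helper3.S1233D6c

/-!
# Farm S1233, unit U-D6 (helper3): D6 ("no diagonal"), verbatim stub.
-/

set_option autoImplicit false

namespace Cfsg.Agent.Lib.Helper3.S1233D6

open Cfsg.Agent.Lib.Helper1.S1233 Cfsg.Agent.Lib.Helper3.S1233B2

variable {S : Type*} [Group S] {Q₁ Q₂ : Subgroup S} {d : Dat S}

theorem D6_side (hC : Ctx Q₁ Q₂ d) (h1 : 3 ≤ d.n₁) (h2 : 3 ≤ d.n₂) (M : Subgroup S)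
    (hM : Good Q₁ Q₂ d M) (x : S) (hx : ∀ m ∈ M, x⁻¹ * m * x ∈ M) (hxR : x ∈ Rs d.i₁ d.i₂) :
    x⁻¹ * d.c₁ * x ∈ Subgroup.zpowers d.c₁ := by
  have hB := hC.base
  have hB' := base_symm hB
  have s1 := hC.s1
  have s2 := hC.s2
  have hfin := hB.fin
  have hz := hB.z_central
  have hzz := hB.z_sq
  obtain ⟨hxi1, hxi2⟩ := mem_Rs_iff.mp hxR
  have hQ1X : Q₁ ≤ cen Q₂ := side_le hB
  have hQ2X : Q₂ ≤ cen Q₁ := side_le hB'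
  have hc1X : d.c₁ ∈ cen Q₂ := s1.c_mem
  have hj1X : d.j₁ ∈ cen Q₂ := hQ1X s1.j_mem
  have hj2X : d.j₂ ∈ cen Q₁ := hQ2X s2.j_mem
  have hj2M : d.j₂ ∈ M := hM.le2 hj2X
  have hj1M : d.j₁ ∈ M := hM.le1 hj1X
  have hxinv : ∀ a : S, x * a = a * x → x⁻¹ * a = a * x⁻¹ := by
    intro a h
    calc x⁻¹ * a = x⁻¹ * (a * x) * x⁻¹ := by group
      _ = x⁻¹ * (x * a) * x⁻¹ := by rw [h]
      _ = a * x⁻¹ := by group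
  set y := x⁻¹ * d.c₁ * x with hy
  have hyM : y ∈ M := hx _ (hM.le1 hc1X)
  have hc1i1 : d.c₁ * d.i₁ = d.i₁ * d.c₁ := by
    obtain ⟨k, hk⟩ := Subgroup.mem_zpowers_iff.mp (i_mem_zpowers s1)
    rw [← hk]
    exact ((Commute.refl d.c₁).zpow_right k).eq
  have hc1i2 : d.c₁ * d.i₂ = d.i₂ * d.c₁ := comm_of_mem_centralizer hc1X s2.i_mem
  have hc1j2 : d.c₁ * d.j₂ = d.j₂ * d.c₁ := comm_of_mem_centralizer hc1X s2.j_mem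
  have hconjcomm : ∀ a b : S, x * a = a * x → b * a = a * b →
      (x⁻¹ * b * x) * a = a * (x⁻¹ * b * x) := by
    intro a b hxa hba
    calc (x⁻¹ * b * x) * a = x⁻¹ * b * (x * a) := by group
      _ = x⁻¹ * b * (a * x) := by rw [hxa]
      _ = x⁻¹ * (b * a) * x := by group
      _ = x⁻¹ * (a * b) * x := by rw [hba]
      _ = (x⁻¹ * a) * b * x := by group
      _ = (a * x⁻¹) * b * x := by rw [hxinv a hxa]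
      _ = a * (x⁻¹ * b * x) := by group
  have hyR : y ∈ Rs d.i₁ d.i₂ :=
    mem_Rs_iff.mpr ⟨hconjcomm _ _ hxi1 hc1i1, hconjcomm _ _ hxi2 hc1i2⟩
  have hyIn : InR1 d y := hM.rM y hyM hyR
  -- `ρ₂`
  set ρ₂ := d.j₂⁻¹ * (x⁻¹ * d.j₂ * x) with hρ₂
  have hρ₂M : ρ₂ ∈ M := M.mul_mem (M.inv_mem hj2M) (hx _ hj2M)
  have hj2i2 : d.j₂⁻¹ * d.i₂ * d.j₂ = d.i₂⁻¹ := conj_i hB' s2 h2 d.j₂ hj2X s2.j_not
  have hj2i1 : d.j₂ * d.i₁ = d.i₁ * d.j₂ := (hB.comm _ s1.i_mem _ s2.j_mem).symm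
  have hρ₂R : ρ₂ ∈ Rs d.i₁ d.i₂ := mem_Rs_iff.mpr ⟨rho_comm' hj2i1 hxi1, rho_comm hj2i2 hxi2⟩
  have hρ₂In : InR1 d ρ₂ := hM.rM ρ₂ hρ₂M hρ₂R
  -- `y` commutes with `x⁻¹ j₂ x`
  have hyj2x : y * (x⁻¹ * d.j₂ * x) = (x⁻¹ * d.j₂ * x) * y := by
    rw [hy]
    calc x⁻¹ * d.c₁ * x * (x⁻¹ * d.j₂ * x) = x⁻¹ * (d.c₁ * d.j₂) * x := by group
      _ = x⁻¹ * (d.j₂ * d.c₁) * x := by rw [hc1j2]
      _ = x⁻¹ * d.j₂ * x * (x⁻¹ * d.c₁ * x) := by group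
  have hcm1 : cm y ρ₂ ∈ Zs d.z := D1_comm hC h1 h2 y ρ₂ hyIn hρ₂In
  have hcmj2 : cm y d.j₂ ∈ Zs d.z := by
    have h5 : x⁻¹ * d.j₂ * x ∈ CzR d.z hz y := by
      rw [mem_CzR, cm_eq_one_of_comm hyj2x]; exact Subgroup.one_mem _
    have h6 : ρ₂ ∈ CzR d.z hz y := mem_CzR.mpr hcm1
    have h7 : d.j₂ = (x⁻¹ * d.j₂ * x) * ρ₂⁻¹ := by rw [hρ₂]; group
    rw [← mem_CzR (hz := hz), h7]
    exact Subgroup.mul_mem _ h5 (Subgroup.inv_mem _ h6)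
  obtain ⟨a, w, hw, hyw⟩ := Cfsg.Agent.Lib.Helper5.S1233.D4_j2 hC h1 h2 y hyR hcmj2
  have hi2sq : d.i₂ * d.i₂ = d.z := side_i_sq s2
  have hzc1 : d.z ∈ Subgroup.zpowers d.c₁ := z_mem_zpowers s1
  rcases Nat.even_or_odd' a with ⟨b, rfl | rfl⟩
  · -- even: `y ∈ ⟨c₁⟩`
    rw [hyw, pow_mul, pow_two, hi2sq]
    exact Subgroup.mul_mem _ (Subgroup.pow_mem _ hzc1 b) hw
  · -- odd: contradiction
    exfalso
    set w' := d.z ^ b * w with hw'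
    have hw'c : w' ∈ Subgroup.zpowers d.c₁ := Subgroup.mul_mem _ (Subgroup.pow_mem _ hzc1 b) hw
    have hyw' : y = d.i₂ * w' := by
      rw [hyw, hw', pow_succ, pow_mul, pow_two, hi2sq]
      have : d.z ^ b * d.i₂ = d.i₂ * d.z ^ b := by
        have : Commute d.i₂ d.z := hz d.i₂
        exact (this.pow_right b).eq.symm
      rw [this]; group
    set ρ := d.j₁⁻¹ * (x⁻¹ * d.j₁ * x) with hρ
    have hρc := rho_comm_c1 hC h1 h2 M hM x hx hxR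
    have hj1i1 : d.j₁⁻¹ * d.i₁ * d.j₁ = d.i₁⁻¹ := conj_i hB s1 h1 d.j₁ hj1X s1.j_not
    have hj1i2 : d.j₁ * d.i₂ = d.i₂ * d.j₁ := hB.comm _ s1.j_mem _ s2.i_mem
    have hρi2 : ρ * d.i₂ = d.i₂ * ρ := rho_comm' hj1i2 hxi2
    have hj1c1 : d.j₁⁻¹ * d.c₁ * d.j₁ = d.c₁ ^ d.ε₁ := s1.act d.j₁ hj1X s1.j_not
    -- `(x⁻¹ j₁ x)⁻¹ y (x⁻¹ j₁ x) = y ^ ε₁`
    have hact : (x⁻¹ * d.j₁ * x)⁻¹ * y * (x⁻¹ * d.j₁ * x) = y ^ d.ε₁ := by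
      rw [hy, ← conj_pow', ← hj1c1]; group
    have hj1x : x⁻¹ * d.j₁ * x = d.j₁ * ρ := by rw [hρ]; group
    -- `j₁⁻¹ w' j₁ = w' ^ ε₁`
    have hw'act : d.j₁⁻¹ * w' * d.j₁ = w' ^ d.ε₁ := by
      obtain ⟨k, hk⟩ := Subgroup.mem_zpowers_iff.mp hw'c
      rw [← hk]
      have := conj_zpow (a := d.j₁⁻¹) (b := d.c₁) (i := k)
      rw [inv_inv] at this
      rw [← this, hj1c1, ← zpow_natCast, ← zpow_natCast, ← zpow_mul, ← zpow_mul, mul_comm]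
    have hw'ε : w' ^ d.ε₁ ∈ Subgroup.zpowers d.c₁ := Subgroup.pow_mem _ hw'c _
    have hi2w' : d.i₂ * w' = w' * d.i₂ :=
      (comm_of_mem_centralizer (zpowers_le s1 hw'c) s2.i_mem).symm
    have hlhs : (x⁻¹ * d.j₁ * x)⁻¹ * y * (x⁻¹ * d.j₁ * x) = d.i₂ * w' ^ d.ε₁ := by
      rw [hj1x, hyw']
      have h5 : d.j₁⁻¹ * d.i₂ * d.j₁ = d.i₂ := by
        rw [mul_assoc, ← hj1i2, ← mul_assoc, inv_mul_cancel, one_mul]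
      calc (d.j₁ * ρ)⁻¹ * (d.i₂ * w') * (d.j₁ * ρ)
          = ρ⁻¹ * ((d.j₁⁻¹ * d.i₂ * d.j₁) * (d.j₁⁻¹ * w' * d.j₁)) * ρ := by group
        _ = ρ⁻¹ * (d.i₂ * w' ^ d.ε₁) * ρ := by rw [h5, hw'act]
        _ = ρ⁻¹ * d.i₂ * (w' ^ d.ε₁ * ρ) := by group
        _ = ρ⁻¹ * d.i₂ * (ρ * w' ^ d.ε₁) := by rw [hρc _ hw'ε]
        _ = ρ⁻¹ * (d.i₂ * ρ) * w' ^ d.ε₁ := by group
        _ = ρ⁻¹ * (ρ * d.i₂) * w' ^ d.ε₁ := by rw [hρi2]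
        _ = d.i₂ * w' ^ d.ε₁ := by group
    have hrhs : y ^ d.ε₁ = d.i₂ ^ d.ε₁ * w' ^ d.ε₁ := by
      rw [hyw']
      exact (show Commute d.i₂ w' from hi2w').mul_pow _
    rw [hact, hrhs] at hlhs
    have h6 : d.i₂ ^ d.ε₁ = d.i₂ := mul_right_cancel hlhs
    have h4 := i_pow_four hB' s2
    have he := side_eps s1 h1
    have h7 : d.i₂ ^ d.ε₁ = d.i₂ ^ 3 := by
      conv_lhs => rw [← Nat.div_add_mod d.ε₁ 4, he, pow_add, pow_mul, h4, one_pow, one_mul]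
    rw [h7] at h6
    apply i_ne_inv hB' s2
    apply eq_inv_of_mul_eq_one_left
    have : d.i₂ * d.i₂ = d.i₂ ^ 3 * d.i₂ := by rw [h6]
    rw [this, ← pow_succ]; exact h4

theorem good_symm {M : Subgroup S} (hM : Good Q₁ Q₂ d M) : Good Q₂ Q₁ d.swap M where
  le1 := hM.le2
  le2 := hM.le1
  nB := by
    intro m hm
    have := hM.nB m hm
    show m⁻¹ * d.i₂ * m ∈ Bs d.i₂ d.i₁ ∧ m⁻¹ * d.i₁ * m ∈ Bs d.i₂ d.i₁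
    rw [Bs_comm]
    exact ⟨this.2, this.1⟩
  rM := by
    intro r hr hrR
    have hrR' : r ∈ Rs d.i₁ d.i₂ := by
      have : r ∈ Rs d.i₂ d.i₁ := hrR
      rw [Rs_comm] at this
      exact this
    have := hM.rM r hr hrR'
    exact ⟨this.2, this.1⟩

/-- D6, verbatim -/
theorem D6 (hC : Ctx Q₁ Q₂ d) (h1 : 3 ≤ d.n₁) (h2 : 3 ≤ d.n₂) (M : Subgroup S) (hM : Good Q₁ Q₂ d M)
    (x : S) (hx : ∀ m ∈ M, x⁻¹ * m * x ∈ M) (hxR : x ∈ Rs d.i₁ d.i₂) :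
    x⁻¹ * d.c₁ * x ∈ Subgroup.zpowers d.c₁ ∧ x⁻¹ * d.c₂ * x ∈ Subgroup.zpowers d.c₂ := by
  refine ⟨D6_side hC h1 h2 M hM x hx hxR, ?_⟩
  have hxR' : x ∈ Rs d.swap.i₁ d.swap.i₂ := by
    show x ∈ Rs d.i₂ d.i₁
    rw [Rs_comm]; exact hxR
  exact D6_side (ctx_symm hC) h2 h1 M (good_symm hM) x hx hxR'

end Cfsg.Agent.Lib.Helper3.S1233D6
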