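import Mathlib
import Cfsg.Agent.Lib.Helper3.S3670H
import Cfsg.Agent.Lib.Helper5.S3670Fin

/-!
# S3670: the solvable side packaged with helper5's FIN lemma

`S3670_of_L`: for ANY finite group `L` of order 6048 with irreducible character degrees
divisible by 6, 14 and 21, the solvable group `Hgrp` of order 6048 has the same degree primes
and the same degree graph as `L`.  (So S3670 = this applied to `L = PSU 3 F 3`.)
-/

set_option autoImplicit false

namespace Cfsg.Agent.Lib.Helper3.S3670H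

open Cfsg

theorem S3670_of_L {L : Type*} [Group L] [Finite L] (hL : Nat.card L = 6048)
    (hL6 : ∃ d ∈ Cfsg.charDegrees L, 6 ∣ d) (hL14 : ∃ d ∈ Cfsg.charDegrees L, 14 ∣ d)
    (hL21 : ∃ d ∈ Cfsg.charDegrees L, 21 ∣ d) :
    ∃ (H : Type) (_ : Group H) (_ : Fintype H), Group.IsSolvable H ∧ Nat.card H = 6048 ∧
      Cfsg.degreePrimes H = Cfsg.degreePrimes L ∧ Cfsg.degreeGraph H = Cfsg.degreeGraph L := by
  obtain ⟨h1, h2⟩ := Cfsg.Agent.Lib.Helper5.S3670Fin.same_degreeGraph (K := Hgrp) (L := L)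
    Hgrp_card hL Hgrp_deg6 Hgrp_deg14 Hgrp_deg21 hL6 hL14 hL21
  exact ⟨Hgrp, inferInstance, inferInstance, Hgrp_solvable, Hgrp_card, h1, h2⟩

end Cfsg.Agent.Lib.Helper3.S3670H
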