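import Mathlib

/-! A concrete, kernel-friendly model `K8` of the field with eight elements
(`𝔽₂[x]/(x³+x+1)`, elements coded by their bit patterns `0..7`). -/

set_option autoImplicit false
set_option maxHeartbeats 1000000
set_option maxRecDepth 100000
set_option linter.unusedVariables false
set_option linter.unusedSectionVars false
set_option linter.style.longLine false
set_option linter.unusedSimpArgs false
set_option linter.style.haveILetI false

namespace Cfsg.Agent.Lib.Helper3.SG

/-- the multiplication table of `𝔽₂[x]/(x³+x+1)` on bit patterns, four bits per entry -/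
def mulT8 : ℕ := 23691910682714665197238709536041582193718400246807875409196429481426745819136

/-- multiplication modulo `x³+x+1` on bit patterns (table lookup) -/
def mulN8 (a b : ℕ) : ℕ := (mulT8 >>> (4 * (8 * a + b))) &&& 15

/-- table of inverses (6th powers) -/
def invT8 : ℕ := 1126655248

def invN8 (a : ℕ) : ℕ := (invT8 >>> (4 * a)) &&& 15

/-- the field with eight elements -/
structure K8 where
  v : Fin 8
deriving DecidableEq

namespace K8

/-- literal -/
def k (n : ℕ) : K8 := ⟨Fin.ofNat 8 n⟩

def addK (a b : K8) : K8 := k (a.v.val ^^^ b.v.val)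
def mulK (a b : K8) : K8 := k (mulN8 a.v.val b.v.val)
def invK (a : K8) : K8 := k (invN8 a.v.val)

def equivFin : K8 ≃ Fin 8 := ⟨K8.v, K8.mk, fun _ => rfl, fun _ => rfl⟩

instance instFintype : Fintype K8 := Fintype.ofEquiv (Fin 8) equivFin.symm

instance instZero : Zero K8 := ⟨k 0⟩
instance instOne : One K8 := ⟨k 1⟩
instance instAdd : Add K8 := ⟨addK⟩
instance instMul : Mul K8 := ⟨mulK⟩
instance instNeg : Neg K8 := ⟨id⟩
instance instInv : Inv K8 := ⟨invK⟩

instance instCommRing : CommRing K8 where
  add_assoc := by decide +kernel
  zero_add := by decide +kernel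
  add_zero := by decide +kernel
  add_comm := by decide +kernel
  neg_add_cancel := by decide +kernel
  mul_assoc := by decide +kernel
  one_mul := by decide +kernel
  mul_one := by decide +kernel
  left_distrib := by decide +kernel
  right_distrib := by decide +kernel
  mul_comm := by decide +kernel
  zero_mul := by decide +kernel
  mul_zero := by decide +kernel
  nsmul := nsmulRec
  zsmul := zsmulRec

instance instField : Field K8 where
  exists_pair_ne := ⟨k 0, k 1, by decide⟩
  mul_inv_cancel := by decide +kernel
  inv_zero := by decide +kernel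
  nnqsmul := _
  qsmul := _

theorem card : Fintype.card K8 = 8 := by
  rw [Fintype.card_congr equivFin]; rfl

theorem two_eq_zero : (2 : K8) = 0 := by decide +kernel

theorem pow_eight : ∀ x : K8, x ^ 8 = x := by decide +kernel

theorem add_self : ∀ x : K8, x + x = 0 := by decide +kernel

theorem sq_add : ∀ x y : K8, (x + y) ^ 2 = x ^ 2 + y ^ 2 := by decide +kernel

theorem sq_eq_self : ∀ x : K8, x ^ 2 = x → x = 0 ∨ x = 1 := by decide +kernel

theorem pow_four_eq_self : ∀ x : K8, x ^ 4 = x → x = 0 ∨ x = 1 := by decide +kernel

end K8

end Cfsg.Agent.Lib.Helper3.SG
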