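import Mathlib

/-! Generic identities for `4 × 4` matrices over a commutative ring of characteristic two:
the anti-involution `adj4` (adjoint for the antidiagonal form), the matrix `st4` of
`2 × 2` minors used in the definition of the Suzuki groups, its multiplicativity on the
symplectic group, and the palindromic quartic annihilating a symplectic matrix. -/

set_option autoImplicit false
set_option maxHeartbeats 4000000
set_option maxRecDepth 100000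
set_option linter.unusedVariables false
set_option linter.unusedSectionVars false
set_option linter.style.longLine false
set_option linter.unusedSimpArgs false
set_option linter.style.haveILetI false

namespace Cfsg.Agent.Lib.Helper3.SG

variable {R : Type*} [CommRing R]

/-- the adjoint `J gᵀ J` for the antidiagonal form -/
def adj4 (g : Matrix (Fin 4) (Fin 4) R) : Matrix (Fin 4) (Fin 4) R :=
  !![g 3 3, g 2 3, g 1 3, g 0 3; g 3 2, g 2 2, g 1 2, g 0 2; g 3 1, g 2 1, g 1 1, g 0 1;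
    g 3 0, g 2 0, g 1 0, g 0 0]

/-- the `2 × 2` minor with rows `k, l` and columns `i, j` -/
def mn (g : Matrix (Fin 4) (Fin 4) R) (k l i j : Fin 4) : R := g k i * g l j - g l i * g k j

/-- the matrix of minors for the index pairs `(0,1), (0,2), (1,3), (2,3)` -/
def st4 (g : Matrix (Fin 4) (Fin 4) R) : Matrix (Fin 4) (Fin 4) R :=
  !![mn g 0 1 0 1, mn g 0 1 0 2, mn g 0 1 1 3, mn g 0 1 2 3;
    mn g 0 2 0 1, mn g 0 2 0 2, mn g 0 2 1 3, mn g 0 2 2 3;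
    mn g 1 3 0 1, mn g 1 3 0 2, mn g 1 3 1 3, mn g 1 3 2 3;
    mn g 2 3 0 1, mn g 2 3 0 2, mn g 2 3 1 3, mn g 2 3 2 3]

theorem adj4_adj4 (g : Matrix (Fin 4) (Fin 4) R) : adj4 (adj4 g) = g := by
  ext i j
  fin_cases i <;> fin_cases j <;> rfl

theorem adj4_one : adj4 (1 : Matrix (Fin 4) (Fin 4) R) = 1 := by
  ext i j
  fin_cases i <;> fin_cases j <;> simp [adj4]

theorem adj4_mul (g h : Matrix (Fin 4) (Fin 4) R) : adj4 (g * h) = adj4 h * adj4 g := by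
  ext i j
  fin_cases i <;> fin_cases j <;> simp [adj4, Matrix.mul_apply, Fin.sum_univ_four] <;> ring

theorem adj4_map {S : Type*} [CommRing S] (f : R →+* S) (g : Matrix (Fin 4) (Fin 4) R) :
    adj4 (g.map f) = (adj4 g).map f := by
  ext i j
  fin_cases i <;> fin_cases j <;> simp [adj4]

theorem st4_map {S : Type*} [CommRing S] (f : R →+* S) (g : Matrix (Fin 4) (Fin 4) R) :
    st4 (g.map f) = (st4 g).map f := by
  ext i j
  fin_cases i <;> fin_cases j <;> simp [st4, mn]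

theorem st4_one : st4 (1 : Matrix (Fin 4) (Fin 4) R) = 1 := by
  ext i j
  fin_cases i <;> fin_cases j <;> simp [st4, mn]

/-- the Cauchy--Binet formula restricted to the four index pairs -/
theorem cb4 (g h : Matrix (Fin 4) (Fin 4) R) (h2 : (2 : R) = 0) (k l i j : Fin 4)
    (hgP : g k 0 * g l 3 + g k 1 * g l 2 + g k 2 * g l 1 + g k 3 * g l 0 = 0)
    (hhR : h 0 i * h 3 j + h 1 i * h 2 j + h 2 i * h 1 j + h 3 i * h 0 j = 0) :
    mn (g * h) k l i j = mn g k l 0 1 * mn h 0 1 i j + mn g k l 0 2 * mn h 0 2 i j +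
      mn g k l 1 3 * mn h 1 3 i j + mn g k l 2 3 * mn h 2 3 i j := by
  simp only [mn, Matrix.mul_apply, Fin.sum_univ_four]
  linear_combination (g k 0 * g l 3 - g l 0 * g k 3) * hhR + (h 1 i * h 2 j - h 2 i * h 1 j) * hgP -
    ((g k 0 * g l 3 - g l 0 * g k 3) * (h 3 i * h 0 j + h 2 i * h 1 j) +
      (g l 0 * g k 3 + g l 1 * g k 2) * (h 1 i * h 2 j - h 2 i * h 1 j) +
      (g k 0 * g l 3 - g l 0 * g k 3) * (h 1 i * h 2 j - h 2 i * h 1 j)) * h2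

theorem row_rel (g : Matrix (Fin 4) (Fin 4) R) (hg : g * adj4 g = 1) (k l : Fin 4)
    (hkl : k.val + l.val ≠ 3) :
    g k 0 * g l 3 + g k 1 * g l 2 + g k 2 * g l 1 + g k 3 * g l 0 = 0 := by
  have h := congrFun (congrFun hg k) (Fin.rev l)
  rw [Matrix.mul_apply, Fin.sum_univ_four] at h
  fin_cases k <;> fin_cases l <;> first | (exfalso; exact hkl rfl) | (simpa [adj4, Fin.rev] using h)

theorem col_rel (h : Matrix (Fin 4) (Fin 4) R) (hh : adj4 h * h = 1) (i j : Fin 4)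
    (hij : i.val + j.val ≠ 3) :
    h 0 i * h 3 j + h 1 i * h 2 j + h 2 i * h 1 j + h 3 i * h 0 j = 0 := by
  have h' := congrFun (congrFun hh (Fin.rev j)) i
  rw [Matrix.mul_apply, Fin.sum_univ_four] at h'
  fin_cases i <;> fin_cases j <;> first | (exfalso; exact hij rfl) |
    (simp [adj4, Fin.rev] at h'; simp only [Fin.zero_eta, Fin.mk_one, Fin.reduceFinMk]; linear_combination h')

theorem st4_mul (g h : Matrix (Fin 4) (Fin 4) R) (h2 : (2 : R) = 0) (hg : g * adj4 g = 1)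
    (hh : adj4 h * h = 1) : st4 (g * h) = st4 g * st4 h := by
  ext p r
  rw [Matrix.mul_apply, Fin.sum_univ_four]
  fin_cases p <;> fin_cases r
  · exact cb4 g h h2 0 1 0 1 (row_rel g hg 0 1 (by decide)) (col_rel h hh 0 1 (by decide))
  · exact cb4 g h h2 0 1 0 2 (row_rel g hg 0 1 (by decide)) (col_rel h hh 0 2 (by decide))
  · exact cb4 g h h2 0 1 1 3 (row_rel g hg 0 1 (by decide)) (col_rel h hh 1 3 (by decide))
  · exact cb4 g h h2 0 1 2 3 (row_rel g hg 0 1 (by decide)) (col_rel h hh 2 3 (by decide))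
  · exact cb4 g h h2 0 2 0 1 (row_rel g hg 0 2 (by decide)) (col_rel h hh 0 1 (by decide))
  · exact cb4 g h h2 0 2 0 2 (row_rel g hg 0 2 (by decide)) (col_rel h hh 0 2 (by decide))
  · exact cb4 g h h2 0 2 1 3 (row_rel g hg 0 2 (by decide)) (col_rel h hh 1 3 (by decide))
  · exact cb4 g h h2 0 2 2 3 (row_rel g hg 0 2 (by decide)) (col_rel h hh 2 3 (by decide))
  · exact cb4 g h h2 1 3 0 1 (row_rel g hg 1 3 (by decide)) (col_rel h hh 0 1 (by decide))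
  · exact cb4 g h h2 1 3 0 2 (row_rel g hg 1 3 (by decide)) (col_rel h hh 0 2 (by decide))
  · exact cb4 g h h2 1 3 1 3 (row_rel g hg 1 3 (by decide)) (col_rel h hh 1 3 (by decide))
  · exact cb4 g h h2 1 3 2 3 (row_rel g hg 1 3 (by decide)) (col_rel h hh 2 3 (by decide))
  · exact cb4 g h h2 2 3 0 1 (row_rel g hg 2 3 (by decide)) (col_rel h hh 0 1 (by decide))
  · exact cb4 g h h2 2 3 0 2 (row_rel g hg 2 3 (by decide)) (col_rel h hh 0 2 (by decide))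
  · exact cb4 g h h2 2 3 1 3 (row_rel g hg 2 3 (by decide)) (col_rel h hh 1 3 (by decide))
  · exact cb4 g h h2 2 3 2 3 (row_rel g hg 2 3 (by decide)) (col_rel h hh 2 3 (by decide))

/-- the Pfaffian-type coefficient -/
def pf4 (g : Matrix (Fin 4) (Fin 4) R) : R :=
  (g 0 2 + g 1 3) * (g 2 0 + g 3 1) + (g 0 1 + g 2 3) * (g 1 0 + g 3 2) +
    (g 0 0 + g 3 3) * (g 1 1 + g 2 2)

theorem quad4 (g : Matrix (Fin 4) (Fin 4) R) (h2 : (2 : R) = 0) :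
    (g + adj4 g) * (g + adj4 g) + g.trace • (g + adj4 g) + pf4 g • (1 : Matrix (Fin 4) (Fin 4) R) = 0 := by
  ext i j
  fin_cases i <;> fin_cases j
  · simp [adj4, pf4, Matrix.mul_apply, Fin.sum_univ_four, Matrix.trace, Matrix.add_apply, Matrix.smul_apply]
    linear_combination (g 0 0 * g 0 0 + g 0 0 * g 1 1 + g 0 0 * g 2 2 + 2 * g 0 0 * g 3 3 + g 0 1 * g 1 0 + g 0 1 * g 3 2 + g 0 2 * g 2 0 + g 0 2 * g 3 1 + 2 * g 0 3 * g 3 0 + g 1 0 * g 2 3 + g 1 1 * g 3 3 + g 1 3 * g 2 0 + g 1 3 * g 3 1 + g 2 2 * g 3 3 + g 2 3 * g 3 2 + g 3 3 * g 3 3) * h2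
  · simp [adj4, pf4, Matrix.mul_apply, Fin.sum_univ_four, Matrix.trace, Matrix.add_apply, Matrix.smul_apply]
    linear_combination (g 0 0 * g 0 1 + g 0 0 * g 2 3 + g 0 1 * g 1 1 + g 0 1 * g 2 2 + g 0 1 * g 3 3 + g 0 2 * g 2 1 + g 0 3 * g 2 0 + g 0 3 * g 3 1 + g 1 1 * g 2 3 + g 1 3 * g 2 1 + g 2 2 * g 2 3 + g 2 3 * g 3 3) * h2
  · simp [adj4, pf4, Matrix.mul_apply, Fin.sum_univ_four, Matrix.trace, Matrix.add_apply, Matrix.smul_apply]
    linear_combination (g 0 0 * g 0 2 + g 0 0 * g 1 3 + g 0 1 * g 1 2 + g 0 2 * g 1 1 + g 0 2 * g 2 2 + g 0 2 * g 3 3 + g 0 3 * g 1 0 + g 0 3 * g 3 2 + g 1 1 * g 1 3 + g 1 2 * g 2 3 + g 1 3 * g 2 2 + g 1 3 * g 3 3) * h2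
  · simp [adj4, pf4, Matrix.mul_apply, Fin.sum_univ_four, Matrix.trace, Matrix.add_apply, Matrix.smul_apply]
    linear_combination (3 * g 0 0 * g 0 3 + g 0 1 * g 0 2 + g 0 1 * g 1 3 + g 0 2 * g 2 3 + g 0 3 * g 1 1 + g 0 3 * g 2 2 + 3 * g 0 3 * g 3 3 + g 1 3 * g 2 3) * h2
  · simp [adj4, pf4, Matrix.mul_apply, Fin.sum_univ_four, Matrix.trace, Matrix.add_apply, Matrix.smul_apply]
    linear_combination (g 0 0 * g 1 0 + g 0 0 * g 3 2 + g 0 2 * g 3 0 + g 1 0 * g 1 1 + g 1 0 * g 2 2 + g 1 0 * g 3 3 + g 1 1 * g 3 2 + g 1 2 * g 2 0 + g 1 2 * g 3 1 + g 1 3 * g 3 0 + g 2 2 * g 3 2 + g 3 2 * g 3 3) * h2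
  · simp [adj4, pf4, Matrix.mul_apply, Fin.sum_univ_four, Matrix.trace, Matrix.add_apply, Matrix.smul_apply]
    linear_combination (g 0 0 * g 1 1 + g 0 0 * g 2 2 + g 0 1 * g 1 0 + g 0 1 * g 3 2 + g 0 2 * g 2 0 + g 0 2 * g 3 1 + g 1 0 * g 2 3 + g 1 1 * g 1 1 + 2 * g 1 1 * g 2 2 + g 1 1 * g 3 3 + 2 * g 1 2 * g 2 1 + g 1 3 * g 2 0 + g 1 3 * g 3 1 + g 2 2 * g 2 2 + g 2 2 * g 3 3 + g 2 3 * g 3 2) * h2
  · simp [adj4, pf4, Matrix.mul_apply, Fin.sum_univ_four, Matrix.trace, Matrix.add_apply, Matrix.smul_apply]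
    linear_combination (g 0 0 * g 1 2 + g 0 2 * g 1 0 + g 0 2 * g 3 2 + g 1 0 * g 1 3 + 3 * g 1 1 * g 1 2 + 3 * g 1 2 * g 2 2 + g 1 2 * g 3 3 + g 1 3 * g 3 2) * h2
  · simp [adj4, pf4, Matrix.mul_apply, Fin.sum_univ_four, Matrix.trace, Matrix.add_apply, Matrix.smul_apply]
    linear_combination (g 0 0 * g 0 2 + g 0 0 * g 1 3 + g 0 1 * g 1 2 + g 0 2 * g 1 1 + g 0 2 * g 2 2 + g 0 2 * g 3 3 + g 0 3 * g 1 0 + g 0 3 * g 3 2 + g 1 1 * g 1 3 + g 1 2 * g 2 3 + g 1 3 * g 2 2 + g 1 3 * g 3 3) * h2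
  · simp [adj4, pf4, Matrix.mul_apply, Fin.sum_univ_four, Matrix.trace, Matrix.add_apply, Matrix.smul_apply]
    linear_combination (g 0 0 * g 2 0 + g 0 0 * g 3 1 + g 0 1 * g 3 0 + g 1 0 * g 2 1 + g 1 1 * g 2 0 + g 1 1 * g 3 1 + g 2 0 * g 2 2 + g 2 0 * g 3 3 + g 2 1 * g 3 2 + g 2 2 * g 3 1 + g 2 3 * g 3 0 + g 3 1 * g 3 3) * h2
  · simp [adj4, pf4, Matrix.mul_apply, Fin.sum_univ_four, Matrix.trace, Matrix.add_apply, Matrix.smul_apply]
    linear_combination (g 0 0 * g 2 1 + g 0 1 * g 2 0 + g 0 1 * g 3 1 + 3 * g 1 1 * g 2 1 + g 2 0 * g 2 3 + 3 * g 2 1 * g 2 2 + g 2 1 * g 3 3 + g 2 3 * g 3 1) * h2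
  · simp [adj4, pf4, Matrix.mul_apply, Fin.sum_univ_four, Matrix.trace, Matrix.add_apply, Matrix.smul_apply]
    linear_combination (g 0 0 * g 1 1 + g 0 0 * g 2 2 + g 0 1 * g 1 0 + g 0 1 * g 3 2 + g 0 2 * g 2 0 + g 0 2 * g 3 1 + g 1 0 * g 2 3 + g 1 1 * g 1 1 + 2 * g 1 1 * g 2 2 + g 1 1 * g 3 3 + 2 * g 1 2 * g 2 1 + g 1 3 * g 2 0 + g 1 3 * g 3 1 + g 2 2 * g 2 2 + g 2 2 * g 3 3 + g 2 3 * g 3 2) * h2
  · simp [adj4, pf4, Matrix.mul_apply, Fin.sum_univ_four, Matrix.trace, Matrix.add_apply, Matrix.smul_apply]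
    linear_combination (g 0 0 * g 0 1 + g 0 0 * g 2 3 + g 0 1 * g 1 1 + g 0 1 * g 2 2 + g 0 1 * g 3 3 + g 0 2 * g 2 1 + g 0 3 * g 2 0 + g 0 3 * g 3 1 + g 1 1 * g 2 3 + g 1 3 * g 2 1 + g 2 2 * g 2 3 + g 2 3 * g 3 3) * h2
  · simp [adj4, pf4, Matrix.mul_apply, Fin.sum_univ_four, Matrix.trace, Matrix.add_apply, Matrix.smul_apply]
    linear_combination (3 * g 0 0 * g 3 0 + g 1 0 * g 2 0 + g 1 0 * g 3 1 + g 1 1 * g 3 0 + g 2 0 * g 3 2 + g 2 2 * g 3 0 + 3 * g 3 0 * g 3 3 + g 3 1 * g 3 2) * h2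
  · simp [adj4, pf4, Matrix.mul_apply, Fin.sum_univ_four, Matrix.trace, Matrix.add_apply, Matrix.smul_apply]
    linear_combination (g 0 0 * g 2 0 + g 0 0 * g 3 1 + g 0 1 * g 3 0 + g 1 0 * g 2 1 + g 1 1 * g 2 0 + g 1 1 * g 3 1 + g 2 0 * g 2 2 + g 2 0 * g 3 3 + g 2 1 * g 3 2 + g 2 2 * g 3 1 + g 2 3 * g 3 0 + g 3 1 * g 3 3) * h2
  · simp [adj4, pf4, Matrix.mul_apply, Fin.sum_univ_four, Matrix.trace, Matrix.add_apply, Matrix.smul_apply]
    linear_combination (g 0 0 * g 1 0 + g 0 0 * g 3 2 + g 0 2 * g 3 0 + g 1 0 * g 1 1 + g 1 0 * g 2 2 + g 1 0 * g 3 3 + g 1 1 * g 3 2 + g 1 2 * g 2 0 + g 1 2 * g 3 1 + g 1 3 * g 3 0 + g 2 2 * g 3 2 + g 3 2 * g 3 3) * h2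
  · simp [adj4, pf4, Matrix.mul_apply, Fin.sum_univ_four, Matrix.trace, Matrix.add_apply, Matrix.smul_apply]
    linear_combination (g 0 0 * g 0 0 + g 0 0 * g 1 1 + g 0 0 * g 2 2 + 2 * g 0 0 * g 3 3 + g 0 1 * g 1 0 + g 0 1 * g 3 2 + g 0 2 * g 2 0 + g 0 2 * g 3 1 + 2 * g 0 3 * g 3 0 + g 1 0 * g 2 3 + g 1 1 * g 3 3 + g 1 3 * g 2 0 + g 1 3 * g 3 1 + g 2 2 * g 3 3 + g 2 3 * g 3 2 + g 3 3 * g 3 3) * h2

theorem pf4_eq (g : Matrix (Fin 4) (Fin 4) R) (h2 : (2 : R) = 0) (hg : g * adj4 g = 1)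
    (hg' : adj4 g * g = 1) : pf4 g = (st4 g).trace := by
  have e1 := congrFun (congrFun hg 0) 0
  have e2 := congrFun (congrFun hg' 0) 0
  rw [Matrix.mul_apply, Fin.sum_univ_four] at e1 e2
  simp [adj4] at e1 e2
  simp [pf4, st4, mn, Matrix.trace, Fin.sum_univ_four]
  linear_combination e1 + e2 + (1 - g 0 0 * g 3 3 + g 0 1 * g 1 0 + g 0 2 * g 2 0 - g 0 3 * g 3 0 + g 1 3 * g 3 1 + g 2 3 * g 3 2) * h2

end Cfsg.Agent.Lib.Helper3.SG
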