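import Mathlib
import Cfsg.Agent.Lib.Helper3.SG1
import Cfsg.Agent.Lib.Helper3.SG2

/-! The Suzuki group `Sz(8)` as a concrete group of `4 × 4` matrices over `K8`, and the
orders of its elements (via the palindromic quartic annihilating each element). -/

set_option autoImplicit false
set_option maxHeartbeats 4000000
set_option maxRecDepth 100000
set_option linter.unusedVariables false
set_option linter.unusedSectionVars false
set_option linter.style.longLine false
set_option linter.unusedSimpArgs false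
set_option linter.style.haveILetI false

namespace Cfsg.Agent.Lib.Helper3.SG

abbrev M4 := Matrix (Fin 4) (Fin 4) K8

/-- `x ↦ x⁴` as a ring homomorphism of `K8` -/
def pow4 : K8 →+* K8 where
  toFun x := x ^ 4
  map_one' := by decide +kernel
  map_mul' := by decide +kernel
  map_zero' := by decide +kernel
  map_add' := by decide +kernel

/-- the Frobenius `x ↦ x²` as a ring homomorphism of `K8` -/
def sqR : K8 →+* K8 where
  toFun x := x ^ 2
  map_one' := by decide +kernel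
  map_mul' := by decide +kernel
  map_zero' := by decide +kernel
  map_add' := by decide +kernel

theorem pow4_apply (x : K8) : pow4 x = x ^ 4 := rfl
theorem sqR_apply (x : K8) : sqR x = x ^ 2 := rfl

/-- the Frobenius as a ring automorphism of `K8` -/
def frR : K8 ≃+* K8 where
  toFun x := x ^ 2
  invFun x := x ^ 4
  left_inv := by
    have : ∀ x : K8, (x ^ 2) ^ 4 = x := by decide +kernel
    exact this
  right_inv := by
    have : ∀ x : K8, (x ^ 4) ^ 2 = x := by decide +kernel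
    exact this
  map_mul' := by decide +kernel
  map_add' := by decide +kernel

theorem frR_apply (x : K8) : frR x = x ^ 2 := rfl

theorem M4.add_self (x : M4) : x + x = 0 := by
  ext i j
  exact K8.add_self _

/-- membership in the Suzuki group -/
def IsSz (g : M4) : Prop := g * adj4 g = 1 ∧ st4 g = g.map pow4

instance instDecIsSz : DecidablePred IsSz := fun g =>
  inferInstanceAs (Decidable (g * adj4 g = 1 ∧ st4 g = g.map pow4))

theorem IsSz.inv_mul {g : M4} (hg : IsSz g) : adj4 g * g = 1 := mul_eq_one_comm.1 hg.1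

theorem isSz_one : IsSz 1 := by
  refine ⟨by rw [adj4_one, one_mul], ?_⟩
  rw [st4_one]
  ext i j
  rw [Matrix.map_apply, Matrix.one_apply]
  split_ifs <;> simp [Matrix.one_apply]

theorem IsSz.mul {g h : M4} (hg : IsSz g) (hh : IsSz h) : IsSz (g * h) := by
  refine ⟨?_, ?_⟩
  · rw [adj4_mul, mul_assoc, ← mul_assoc h, hh.1, one_mul, hg.1]
  · rw [st4_mul g h K8.two_eq_zero hg.1 hh.inv_mul, hg.2, hh.2, Matrix.map_mul]

theorem IsSz.adj {g : M4} (hg : IsSz g) : IsSz (adj4 g) := by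
  have h1 : adj4 g * adj4 (adj4 g) = 1 := by rw [adj4_adj4]; exact hg.inv_mul
  refine ⟨h1, ?_⟩
  have e1 : st4 (adj4 g) * st4 g = 1 := by
    rw [← st4_mul (adj4 g) g K8.two_eq_zero h1 hg.inv_mul, hg.inv_mul, st4_one]
  have e2 : (adj4 g).map pow4 * g.map pow4 = 1 := by
    rw [← Matrix.map_mul, hg.inv_mul]
    ext i j
    rw [Matrix.map_apply, Matrix.one_apply]
    split_ifs <;> simp [Matrix.one_apply]
  rw [hg.2] at e1
  have e3 : g.map pow4 * (adj4 g).map pow4 = 1 := mul_eq_one_comm.1 e2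
  calc st4 (adj4 g) = st4 (adj4 g) * (g.map pow4 * (adj4 g).map pow4) := by rw [e3, mul_one]
    _ = (st4 (adj4 g) * g.map pow4) * (adj4 g).map pow4 := by rw [mul_assoc]
    _ = (adj4 g).map pow4 := by rw [e1, one_mul]

/-- `Sz(8)` as a submonoid of the matrix ring -/
def Sz8M : Submonoid M4 where
  carrier := {g | IsSz g}
  one_mem' := isSz_one
  mul_mem' := fun hg hh => hg.mul hh

/-- the Suzuki group `Sz(8)` -/
abbrev Sz8 : Type := ↥Sz8M

instance instGroupSz8 : Group Sz8 :=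
  { (inferInstance : Monoid Sz8) with
    inv := fun g => ⟨adj4 g.1, IsSz.adj g.2⟩
    inv_mul_cancel := fun g => Subtype.ext (IsSz.inv_mul g.2) }

theorem Sz8.coe_inv (g : Sz8) : ((g⁻¹ : Sz8) : M4) = adj4 g.1 := rfl

theorem Sz8.coe_mul (g h : Sz8) : ((g * h : Sz8) : M4) = g.1 * h.1 := rfl

theorem Sz8.coe_one : ((1 : Sz8) : M4) = 1 := rfl

theorem Sz8.coe_pow (g : Sz8) (n : ℕ) : ((g ^ n : Sz8) : M4) = g.1 ^ n :=
  SubmonoidClass.coe_pow g n

instance instFiniteSz8 : Finite Sz8 := Subtype.finite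

instance instDecEqSz8 : DecidableEq Sz8 := fun a b =>
  decidable_of_iff (a.1 = b.1) Subtype.ext_iff.symm

/-- evaluation of a cubic with coefficient vector `c` at the matrix `X` -/
def ev (X : M4) (c : K8 × K8 × K8 × K8) : M4 :=
  c.1 • X ^ 3 + c.2.1 • X ^ 2 + c.2.2.1 • X + c.2.2.2 • (1 : M4)

/-- multiplication by the variable modulo `x⁴ + a x³ + a⁴ x² + a x + 1` -/
def shift (a : K8) (c : K8 × K8 × K8 × K8) : K8 × K8 × K8 × K8 :=
  (c.1 * a + c.2.1, c.1 * a ^ 4 + c.2.2.1, c.1 * a + c.2.2.2, c.1)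

/-- the coefficient vector of `xⁿ` modulo `x⁴ + a x³ + a⁴ x² + a x + 1` -/
def rec8 (a : K8) : ℕ → K8 × K8 × K8 × K8
  | 0 => (0, 0, 0, 1)
  | n + 1 => shift a (rec8 a n)

theorem ev_shift (X : M4) (a : K8) (hX : X ^ 4 = ev X (a, a ^ 4, a, 1)) (c : K8 × K8 × K8 × K8) :
    ev X c * X = ev X (shift a c) := by
  have h4 : X ^ 3 * X = a • X ^ 3 + a ^ 4 • X ^ 2 + a • X + (1 : K8) • (1 : M4) := by
    rw [← pow_succ]; exact hX
  have h3 : X ^ 2 * X = X ^ 3 := by rw [← pow_succ]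
  have h2 : X * X = X ^ 2 := by rw [pow_two]
  simp only [ev, shift, add_mul, smul_mul_assoc, one_mul, h4, h3, h2]
  module

theorem ev_one (X : M4) : ev X (0, 0, 0, 1) = 1 := by
  simp [ev]

theorem pow_rec8 (X : M4) (a : K8) (hX : X ^ 4 = ev X (a, a ^ 4, a, 1)) (n : ℕ) :
    X ^ n = ev X (rec8 a n) := by
  induction n with
  | zero => rw [pow_zero]; exact (ev_one X).symm
  | succ n ih => rw [pow_succ, ih, ev_shift X a hX]; rfl

theorem trace_map_pow4 (g : M4) : (g.map pow4).trace = g.trace ^ 4 := by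
  rw [← pow4_apply, Matrix.trace, Matrix.trace, map_sum]
  rfl

theorem trace_adj4 (g : M4) : (adj4 g).trace = g.trace := by
  simp only [Matrix.trace, Fin.sum_univ_four, Matrix.diag, adj4]
  simp
  ring

/-- the palindromic quartic annihilating an element of `Sz(8)` -/
theorem IsSz.quartic {g : M4} (hg : IsSz g) : g ^ 4 = ev g (g.trace, g.trace ^ 4, g.trace, 1) := by
  have hq := quad4 g K8.two_eq_zero
  rw [pf4_eq g K8.two_eq_zero hg.1 hg.inv_mul, hg.2, trace_map_pow4] at hq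
  obtain ⟨h, hh⟩ : ∃ h : M4, h = adj4 g := ⟨_, rfl⟩
  obtain ⟨a, ha⟩ : ∃ a : K8, a = g.trace := ⟨_, rfl⟩
  rw [← hh, ← ha] at hq
  have hgh : g * h = 1 := by rw [hh]; exact hg.1
  have h1 : g * g * (g + h) = g ^ 3 + g := by
    rw [mul_add, mul_assoc g g h, hgh, mul_one, pow_succ, pow_two]
  have h2 : (g ^ 3 + g) * (g + h) = g ^ 4 + 1 := by
    have e1 : g ^ 3 * h = g ^ 2 := by rw [pow_succ, mul_assoc, hgh, mul_one]
    rw [add_mul, mul_add, mul_add, ← pow_succ, hgh, e1, ← pow_two]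
    calc g ^ 4 + g ^ 2 + (g ^ 2 + 1) = g ^ 4 + 1 + (g ^ 2 + g ^ 2) := by abel
      _ = g ^ 4 + 1 := by rw [M4.add_self, add_zero]
  have h3 : g * g * ((g + h) * (g + h) + a • (g + h) + a ^ 4 • (1 : M4)) = 0 := by
    rw [hq, mul_zero]
  rw [mul_add, mul_add, ← mul_assoc, h1, h2, Matrix.mul_smul, h1, Matrix.mul_smul, mul_one,
    ← pow_two] at h3
  rw [← ha]
  have h5 : g ^ 4 = g ^ 4 + (g ^ 4 + 1 + a • (g ^ 3 + g) + a ^ 4 • g ^ 2) := by
    rw [h3, add_zero]
  rw [h5]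
  simp only [ev]
  have e6 : g ^ 4 + (g ^ 4 + 1 + a • (g ^ 3 + g) + a ^ 4 • g ^ 2) =
      (g ^ 4 + g ^ 4) + (a • g ^ 3 + a ^ 4 • g ^ 2 + a • g + (1 : K8) • (1 : M4)) := by
    rw [one_smul, smul_add]; abel
  rw [e6, M4.add_self, zero_add]

theorem rec8_cases : ∀ a : K8, a = K8.k 3 ∨ a = K8.k 5 ∨ a = K8.k 7 ∨
    rec8 a 4 = (0, 0, 0, 1) ∨ rec8 a 5 = (0, 0, 0, 1) ∨ rec8 a 7 = (0, 0, 0, 1) := by
  decide +kernel

theorem rec8_thirteen : ∀ a : K8, a = K8.k 3 ∨ a = K8.k 5 ∨ a = K8.k 7 →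
    rec8 a 13 = (0, 0, 0, 1) := by
  decide +kernel

theorem rec8_rational : ∀ a : K8, a = 0 ∨ a = 1 →
    rec8 a 4 = (0, 0, 0, 1) ∨ rec8 a 5 = (0, 0, 0, 1) := by
  decide +kernel

theorem Sz8.pow_eq_one_of_rec (g : Sz8) (n : ℕ) (h : rec8 g.1.trace n = (0, 0, 0, 1)) :
    g ^ n = 1 := by
  apply Subtype.ext
  rw [Sz8.coe_pow, pow_rec8 g.1 g.1.trace (IsSz.quartic g.2) n, h, ev_one]
  rfl

/-- element orders in `Sz(8)` -/
theorem Sz8.pow_cases (g : Sz8) : g ^ 4 = 1 ∨ g ^ 5 = 1 ∨ g ^ 7 = 1 ∨ g ^ 13 = 1 := by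
  rcases rec8_cases g.1.trace with h | h | h | h | h | h
  · exact Or.inr (Or.inr (Or.inr (g.pow_eq_one_of_rec 13 (rec8_thirteen _ (Or.inl h)))))
  · exact Or.inr (Or.inr (Or.inr (g.pow_eq_one_of_rec 13 (rec8_thirteen _ (Or.inr (Or.inl h))))))
  · exact Or.inr (Or.inr (Or.inr (g.pow_eq_one_of_rec 13 (rec8_thirteen _ (Or.inr (Or.inr h))))))
  · exact Or.inl (g.pow_eq_one_of_rec 4 h)
  · exact Or.inr (Or.inl (g.pow_eq_one_of_rec 5 h))
  · exact Or.inr (Or.inr (Or.inl (g.pow_eq_one_of_rec 7 h)))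

/-- the trace of an element of order thirteen -/
theorem Sz8.trace_of_thirteen (g : Sz8) (h13 : g ^ 13 = 1) (hne : g ≠ 1) :
    g.1.trace = K8.k 3 ∨ g.1.trace = K8.k 5 ∨ g.1.trace = K8.k 7 := by
  rcases rec8_cases g.1.trace with h | h | h | h | h | h
  · exact Or.inl h
  · exact Or.inr (Or.inl h)
  · exact Or.inr (Or.inr h)
  · exfalso
    have := pow_gcd_eq_one.2 ⟨g.pow_eq_one_of_rec 4 h, h13⟩
    norm_num at this
    exact hne this
  · exfalso
    have := pow_gcd_eq_one.2 ⟨g.pow_eq_one_of_rec 5 h, h13⟩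
    norm_num at this
    exact hne this
  · exfalso
    have := pow_gcd_eq_one.2 ⟨g.pow_eq_one_of_rec 7 h, h13⟩
    norm_num at this
    exact hne this

/-- elements with trace in the prime field have order dividing four or five -/
theorem Sz8.pow_of_rational (g : Sz8) (h : g.1.trace = 0 ∨ g.1.trace = 1) :
    g ^ 4 = 1 ∨ g ^ 5 = 1 := by
  rcases rec8_rational _ h with h | h
  · exact Or.inl (g.pow_eq_one_of_rec 4 h)
  · exact Or.inr (g.pow_eq_one_of_rec 5 h)

end Cfsg.Agent.Lib.Helper3.SG
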