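import Mathlib
import Cfsg.Agent.Lib.Helper3.SG3

/-! The group `Sz(8):3` as a semidirect product, and the orders of its elements. -/

set_option autoImplicit false
set_option maxHeartbeats 4000000
set_option maxRecDepth 100000
set_option linter.unusedVariables false
set_option linter.unusedSectionVars false
set_option linter.style.longLine false
set_option linter.unusedSimpArgs false
set_option linter.style.haveILetI false

namespace Cfsg.Agent.Lib.Helper3.SG

theorem map_one_M4 (f : K8 →+* K8) : (1 : M4).map f = 1 :=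
  Matrix.map_one f f.map_zero f.map_one

theorem IsSz.map (f : K8 →+* K8) {g : M4} (hg : IsSz g) : IsSz (g.map f) := by
  refine ⟨?_, ?_⟩
  · rw [adj4_map, ← Matrix.map_mul, hg.1, map_one_M4]
  · rw [st4_map, hg.2]
    ext i j
    simp [pow4_apply, map_pow]

/-- entrywise application of a field automorphism to `Sz(8)` -/
def mapSz (σ : RingAut K8) : Sz8 ≃* Sz8 where
  toFun g := ⟨g.1.map (σ : K8 →+* K8), IsSz.map (σ : K8 →+* K8) g.2⟩
  invFun g := ⟨g.1.map (σ.symm : K8 →+* K8), IsSz.map (σ.symm : K8 →+* K8) g.2⟩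
  left_inv g := by
    apply Subtype.ext
    ext i j
    simp
  right_inv g := by
    apply Subtype.ext
    ext i j
    simp
  map_mul' g h := by
    apply Subtype.ext
    exact Matrix.map_mul

theorem mapSz_coe (σ : RingAut K8) (g : Sz8) : (mapSz σ g).1 = g.1.map (σ : K8 →+* K8) := rfl

/-- the action of field automorphisms on `Sz(8)` -/
def mapSzHom : RingAut K8 →* MulAut Sz8 where
  toFun := mapSz
  map_one' := by
    apply MulEquiv.ext
    intro g
    apply Subtype.ext
    ext i j
    rfl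
  map_mul' σ τ := by
    apply MulEquiv.ext
    intro g
    apply Subtype.ext
    ext i j
    rfl

theorem frR_pow_three : (frR : RingAut K8) ^ 3 = 1 := by
  apply RingEquiv.ext
  intro x
  have h : ∀ x : K8, ((x ^ 2) ^ 2) ^ 2 = x := by decide +kernel
  rw [pow_succ, pow_two]
  exact h x

/-- the group of field automorphisms of `K8`, generated by the Frobenius -/
def Gam : Subgroup (RingAut K8) := Subgroup.zpowers frR

theorem Gam_cases (σ : Gam) : σ.1 = 1 ∨ σ.1 = frR ∨ σ.1 = frR ^ 2 := by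
  obtain ⟨n, hn⟩ := Subgroup.mem_zpowers_iff.1 σ.2
  have h3 : (frR : RingAut K8) ^ (3 : ℤ) = 1 := by
    have := frR_pow_three
    exact_mod_cast this
  rw [zpow_eq_zpow_emod n h3] at hn
  have h0 : 0 ≤ n % 3 := Int.emod_nonneg n (by norm_num)
  have h1 : n % 3 < 3 := Int.emod_lt_of_pos n (by norm_num)
  obtain ⟨m, hm⟩ : ∃ m : ℤ, m = n % 3 := ⟨_, rfl⟩
  rw [← hm] at hn h0 h1
  interval_cases m
  · left; rw [← hn]; simp
  · right; left; rw [← hn]; simp
  · right; right; rw [← hn]; norm_cast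

theorem Gam_pow_three (σ : Gam) : σ ^ 3 = 1 := by
  apply Subtype.ext
  rw [Subgroup.coe_pow, Subgroup.coe_one]
  rcases Gam_cases σ with h | h | h
  · rw [h, one_pow]
  · rw [h, frR_pow_three]
  · rw [h, ← pow_mul, pow_mul' , frR_pow_three, one_pow]

theorem Gam_fixed (σ : Gam) (hσ : σ ≠ 1) (a : K8) (ha : σ.1 a = a) : a = 0 ∨ a = 1 := by
  rcases Gam_cases σ with h | h | h
  · exfalso; apply hσ; apply Subtype.ext; rw [h]; rfl
  · rw [h] at ha
    exact K8.sq_eq_self a ha
  · rw [h] at ha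
    have h4 : a ^ 4 = a := by
      have : (frR ^ 2 : RingAut K8) a = (a ^ 2) ^ 2 := by rw [pow_two]; rfl
      rw [this, ← pow_mul] at ha
      exact ha
    exact K8.pow_four_eq_self a h4

instance instFiniteGam : Finite Gam := by
  have : (Set.range (fun i : Fin 3 => (frR : RingAut K8) ^ (i : ℕ))).Finite := Set.finite_range _
  refine Set.Finite.subset this ?_ |>.to_subtype
  intro σ hσ
  rcases Gam_cases ⟨σ, hσ⟩ with h | h | h
  · exact ⟨0, by simpa using h.symm⟩
  · exact ⟨1, by simpa using h.symm⟩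
  · exact ⟨2, by simpa using h.symm⟩

/-- the homomorphism defining `Sz(8):3` -/
def phiG : Gam →* MulAut Sz8 := mapSzHom.comp Gam.subtype

theorem phiG_coe (σ : Gam) (g : Sz8) : (phiG σ g).1 = g.1.map (σ.1 : K8 →+* K8) := rfl

/-- the group `Sz(8):3` -/
abbrev KK : Type := Sz8 ⋊[phiG] Gam

instance instFiniteKK : Finite KK := Finite.of_equiv _ SemidirectProduct.equivProd.symm

theorem trace_map_aut (σ : RingAut K8) (n : M4) :
    (n.map (σ : K8 →+* K8)).trace = σ n.trace := by
  simp only [Matrix.trace, Matrix.diag, Matrix.map_apply]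
  rw [map_sum]
  rfl

theorem KK.eq_inl_of_right (x : KK) (h : x.right = 1) : x = SemidirectProduct.inl x.left := by
  apply SemidirectProduct.ext
  · rfl
  · rw [h]; rfl

/-- element orders in `Sz(8):3` -/
theorem KK.pow_cases (x : KK) :
    (x.right = 1 ∧ (x ^ 4 = 1 ∨ x ^ 5 = 1 ∨ x ^ 7 = 1 ∨ x ^ 13 = 1)) ∨
    (x.right ≠ 1 ∧ (x ^ 12 = 1 ∨ x ^ 15 = 1)) := by
  by_cases hr : x.right = 1
  · left
    refine ⟨hr, ?_⟩
    have hx := KK.eq_inl_of_right x hr
    have key : ∀ m : ℕ, x.left ^ m = 1 → x ^ m = 1 := by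
      intro m hm
      rw [hx, ← map_pow, hm, map_one]
    rcases Sz8.pow_cases x.left with h | h | h | h
    · exact Or.inl (key 4 h)
    · exact Or.inr (Or.inl (key 5 h))
    · exact Or.inr (Or.inr (Or.inl (key 7 h)))
    · exact Or.inr (Or.inr (Or.inr (key 13 h)))
  · right
    refine ⟨hr, ?_⟩
    obtain ⟨σ, hσ⟩ : ∃ σ : Gam, σ = x.right := ⟨_, rfl⟩
    obtain ⟨g, hg⟩ : ∃ g : Sz8, g = x.left := ⟨_, rfl⟩
    have hr3 : (x ^ 3).right = 1 := by
      have : (x ^ 3).right = x.right ^ 3 := map_pow (SemidirectProduct.rightHom : KK →* Gam) x 3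
      rw [this, Gam_pow_three]
    obtain ⟨n, hn⟩ : ∃ n : Sz8, n = (x ^ 3).left := ⟨_, rfl⟩
    have hx3 : x ^ 3 = SemidirectProduct.inl n := by
      rw [hn]; exact KK.eq_inl_of_right _ hr3
    have hc : x * x ^ 3 = x ^ 3 * x := by rw [← pow_succ', ← pow_succ]
    rw [hx3] at hc
    have h1 := congrArg SemidirectProduct.left hc
    simp only [SemidirectProduct.mul_left, SemidirectProduct.left_inl,
      SemidirectProduct.right_inl, map_one, MulAut.one_apply] at h1
    rw [← hσ, ← hg] at h1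
    -- `g * σ(n) = n * g` as matrices
    have h2 : g.1 * (n.1.map (σ.1 : K8 →+* K8)) = n.1 * g.1 := by
      have := congrArg Subtype.val h1
      exact this
    have h3 : n.1.map (σ.1 : K8 →+* K8) = adj4 g.1 * (n.1 * g.1) := by
      rw [← h2, ← mul_assoc, IsSz.inv_mul g.2, one_mul]
    have h4 : σ.1 n.1.trace = n.1.trace := by
      rw [← trace_map_aut, h3, Matrix.trace_mul_comm, mul_assoc, g.2.1, mul_one]
    have h5 := Gam_fixed σ (by rw [hσ]; exact hr) _ h4
    rcases Sz8.pow_of_rational n h5 with h | h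
    · left
      have : x ^ 12 = (x ^ 3) ^ 4 := by rw [← pow_mul]
      rw [this, hx3, ← map_pow, h, map_one]
    · right
      have : x ^ 15 = (x ^ 3) ^ 5 := by rw [← pow_mul]
      rw [this, hx3, ← map_pow, h, map_one]

theorem KK.pow_list (x : KK) : ∃ n ∈ [4, 5, 7, 13, 12, 15], x ^ n = 1 := by
  rcases KK.pow_cases x with ⟨-, h | h | h | h⟩ | ⟨-, h | h⟩
  · exact ⟨4, by simp, h⟩
  · exact ⟨5, by simp, h⟩
  · exact ⟨7, by simp, h⟩
  · exact ⟨13, by simp, h⟩
  · exact ⟨12, by simp, h⟩
  · exact ⟨15, by simp, h⟩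

/-- an element of order thirteen lies in `Sz(8)` -/
theorem KK.thirteen (x : KK) (hx : orderOf x = 13) :
    ∃ g : Sz8, x = SemidirectProduct.inl g ∧ g ^ 13 = 1 ∧ g ≠ 1 := by
  rcases KK.pow_cases x with ⟨hr, -⟩ | ⟨-, h | h⟩
  · refine ⟨x.left, KK.eq_inl_of_right x hr, ?_, ?_⟩
    · have h1 : x ^ 13 = 1 := by rw [← hx]; exact pow_orderOf_eq_one x
      rw [KK.eq_inl_of_right x hr, ← map_pow] at h1
      exact SemidirectProduct.inl_injective (by rw [h1, map_one])
    · intro h1
      have h2 : x = 1 := by rw [KK.eq_inl_of_right x hr, h1, map_one]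
      rw [h2, orderOf_one] at hx
      norm_num at hx
  · exfalso
    have := orderOf_dvd_of_pow_eq_one h
    rw [hx] at this
    norm_num at this
  · exfalso
    have := orderOf_dvd_of_pow_eq_one h
    rw [hx] at this
    norm_num at this

end Cfsg.Agent.Lib.Helper3.SG
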