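import Mathlib
import Cfsg.Agent.Lib.Helper3.SG4

/-! The module `V = M₄(𝔽₈)` for `Sz(8):3` (the tensor product of the natural module with
its Frobenius twist): elements of order thirteen act fixed-point-freely, elements of order
five and seven fix nonzero vectors. -/

set_option autoImplicit false
set_option maxHeartbeats 4000000
set_option maxRecDepth 100000
set_option linter.unusedVariables false
set_option linter.unusedSectionVars false
set_option linter.style.longLine false
set_option linter.unusedSimpArgs false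
set_option linter.style.haveILetI false

namespace Cfsg.Agent.Lib.Helper3.SG

/-- the action of a matrix on `V`: `M ↦ g M (g^{(2)})ᵀ` -/
def actS (g M : M4) : M4 := g * M * (g.map sqR).transpose

theorem actS_mul (g h M : M4) : actS (g * h) M = actS g (actS h M) := by
  simp only [actS, Matrix.map_mul, Matrix.transpose_mul, mul_assoc]

theorem actS_one (M : M4) : actS 1 M = M := by
  simp [actS, map_one_M4]

theorem actS_add (g M N : M4) : actS g (M + N) = actS g M + actS g N := by
  simp [actS, mul_add, add_mul]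

theorem actS_zero (g : M4) : actS g 0 = 0 := by
  simp [actS]

theorem actS_map (σ : RingAut K8) (g M : M4) :
    (actS g M).map (σ : K8 →+* K8) =
      actS (g.map (σ : K8 →+* K8)) (M.map (σ : K8 →+* K8)) := by
  have h1 : ((g.map sqR).transpose).map (σ : K8 →+* K8) =
      ((g.map (σ : K8 →+* K8)).map sqR).transpose := by
    ext i j
    simp [sqR_apply, map_pow]
  simp only [actS, Matrix.map_mul, h1]

/-- the action of `Sz(8):3` on `V` -/
def actK1 (x : KK) (M : M4) : M4 := actS x.left.1 (M.map (x.right.1 : K8 →+* K8))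

theorem actK1_mul (x y : KK) (M : M4) : actK1 (x * y) M = actK1 x (actK1 y M) := by
  have h1 : (x * y).left.1 = x.left.1 * (y.left.1.map (x.right.1 : K8 →+* K8)) := rfl
  have h2 : M.map (((x * y).right.1 : RingAut K8) : K8 →+* K8) =
      (M.map (y.right.1 : K8 →+* K8)).map (x.right.1 : K8 →+* K8) := by
    ext i j; rfl
  unfold actK1
  rw [h1, h2, actS_mul, actS_map]

theorem map_one_aut (M : M4) : M.map (((1 : Gam).1 : RingAut K8) : K8 →+* K8) = M := by
  ext i j; rfl

theorem actK1_one (M : M4) : actK1 1 M = M := by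
  unfold actK1
  rw [SemidirectProduct.one_right, map_one_aut, SemidirectProduct.one_left]
  exact actS_one M

theorem actK1_inl (g : Sz8) (M : M4) : actK1 (SemidirectProduct.inl g) M = actS g.1 M := by
  unfold actK1
  rw [SemidirectProduct.right_inl, map_one_aut, SemidirectProduct.left_inl]

theorem actK1_add (x : KK) (M N : M4) : actK1 x (M + N) = actK1 x M + actK1 x N := by
  unfold actK1
  rw [Matrix.map_add _ (by intro a b; exact map_add _ a b), actS_add]

theorem actK1_zero (x : KK) : actK1 x 0 = 0 := by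
  unfold actK1
  rw [Matrix.map_zero _ (map_zero _), actS_zero]

/-- the action on `V^k` -/
def actV (k : ℕ) (x : KK) : (Fin k → M4) →+ (Fin k → M4) where
  toFun w := fun i => actK1 x (w i)
  map_zero' := by
    funext i
    exact actK1_zero x
  map_add' := by
    intro w w'
    funext i
    exact actK1_add x _ _

theorem actV_apply (k : ℕ) (x : KK) (w : Fin k → M4) (i : Fin k) :
    actV k x w i = actK1 x (w i) := rfl

theorem actV_mul (k : ℕ) (x y : KK) (w : Fin k → M4) :
    actV k (x * y) w = actV k x (actV k y w) := by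
  funext i
  rw [actV_apply, actV_apply, actV_apply, actK1_mul]

theorem actV_one (k : ℕ) (w : Fin k → M4) : actV k 1 w = w := by
  funext i
  rw [actV_apply, actK1_one]

/-- the action as additive automorphisms -/
def aeqV (k : ℕ) (x : KK) : (Fin k → M4) ≃+ (Fin k → M4) where
  toFun := actV k x
  invFun := actV k x⁻¹
  left_inv w := by rw [← actV_mul, inv_mul_cancel, actV_one]
  right_inv w := by rw [← actV_mul, mul_inv_cancel, actV_one]
  map_add' := (actV k x).map_add

/-- the homomorphism defining the semidirect product -/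
def phiV (k : ℕ) : KK →* MulAut (Multiplicative (Fin k → M4)) where
  toFun x := AddEquiv.toMultiplicative (aeqV k x)
  map_one' := by
    apply MulEquiv.ext
    intro w
    show Multiplicative.ofAdd (actV k 1 (Multiplicative.toAdd w)) = w
    rw [actV_one]; rfl
  map_mul' x y := by
    apply MulEquiv.ext
    intro w
    show Multiplicative.ofAdd (actV k (x * y) (Multiplicative.toAdd w)) =
      Multiplicative.ofAdd (actV k x (actV k y (Multiplicative.toAdd w)))
    rw [actV_mul]

theorem phiV_apply (k : ℕ) (x : KK) (w : Multiplicative (Fin k → M4)) :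
    phiV k x w = Multiplicative.ofAdd (actV k x (Multiplicative.toAdd w)) := rfl

/-! ### fixed-point-freeness of the elements of order thirteen -/

/-- `l • c + d` on coefficient vectors -/
def acc (l : K8) (c d : K8 × K8 × K8 × K8) : K8 × K8 × K8 × K8 :=
  (l * c.1 + d.1, l * c.2.1 + d.2.1, l * c.2.2.1 + d.2.2.1, l * c.2.2.2 + d.2.2.2)

/-- the difference of the two quartics -/
def q0 (a : K8) : K8 × K8 × K8 × K8 := (a + a ^ 2, a ^ 4 + (a ^ 2) ^ 4, a + a ^ 2, 0)

theorem comb_spec : ∀ a : K8, a = K8.k 3 ∨ a = K8.k 5 ∨ a = K8.k 7 →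
    ∃ l0 l1 l2 l3 : K8,
      acc l0 (q0 a) (acc l1 (shift (a ^ 2) (q0 a)) (acc l2 (shift (a ^ 2) (shift (a ^ 2) (q0 a)))
        (acc l3 (shift (a ^ 2) (shift (a ^ 2) (shift (a ^ 2) (q0 a)))) (0, 0, 0, 0)))) =
        (0, 0, 0, 1) := by
  decide +kernel

theorem ev_acc (X : M4) (l : K8) (c d : K8 × K8 × K8 × K8) :
    ev X (acc l c d) = l • ev X c + ev X d := by
  simp only [ev, acc]
  module

theorem ev_zero (X : M4) : ev X (0, 0, 0, 0) = 0 := by
  simp [ev]

theorem ev_transpose (X : M4) (c : K8 × K8 × K8 × K8) :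
    (ev X c).transpose = ev X.transpose c := by
  simp [ev, Matrix.transpose_pow]

theorem ev_q0 (X : M4) (a : K8) :
    ev X (q0 a) = ev X (a, a ^ 4, a, 1) + ev X (a ^ 2, (a ^ 2) ^ 4, a ^ 2, 1) := by
  have h0 : (0 : K8) = 1 + 1 := (K8.add_self 1).symm
  simp only [ev, q0]
  rw [h0]
  module

theorem trace_map_hom (f : K8 →+* K8) (n : M4) : (n.map f).trace = f n.trace := by
  simp only [Matrix.trace, Matrix.diag, Matrix.map_apply]
  rw [map_sum]

/-- elements of order thirteen of `Sz(8)` fix no nonzero vector of `V` -/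
theorem fpf13 (g : Sz8) (h13 : g ^ 13 = 1) (hne : g ≠ 1) (M : M4) (hfix : actS g.1 M = M) :
    M = 0 := by
  obtain ⟨a, ha⟩ : ∃ a : K8, a = g.1.trace := ⟨_, rfl⟩
  have hcases := Sz8.trace_of_thirteen g h13 hne
  rw [← ha] at hcases
  obtain ⟨Y, hY⟩ : ∃ Y : M4, Y = (adj4 g.1).map sqR := ⟨_, rfl⟩
  have hYsz : IsSz Y := by rw [hY]; exact (IsSz.adj g.2).map sqR
  have hYtr : Y.trace = a ^ 2 := by
    rw [hY, trace_map_hom, trace_adj4, ← ha, sqR_apply]
  obtain ⟨C, hC⟩ : ∃ C : M4, C = Y.transpose := ⟨_, rfl⟩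
  have hGC : (g.1.map sqR).transpose * C = 1 := by
    rw [hC, hY, ← Matrix.transpose_mul, ← Matrix.map_mul, IsSz.inv_mul g.2, map_one_M4,
      Matrix.transpose_one]
  have hcomm : g.1 * M = M * C := by
    have h1 : M * C = g.1 * M * (g.1.map sqR).transpose * C := by
      have : actS g.1 M = g.1 * M * (g.1.map sqR).transpose := rfl
      rw [← this, hfix]
    rw [h1, mul_assoc (g.1 * M), hGC, mul_one]
  have hpow : ∀ n : ℕ, g.1 ^ n * M = M * C ^ n := by
    intro n
    induction n with
    | zero => simp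
    | succ n ih => rw [pow_succ, mul_assoc, hcomm, ← mul_assoc, ih, mul_assoc, ← pow_succ]
  have hev : ∀ c : K8 × K8 × K8 × K8, ev g.1 c * M = M * ev C c := by
    intro c
    simp only [ev, add_mul, mul_add, smul_mul_assoc, Matrix.mul_smul, one_mul, mul_one,
      hpow 3, hpow 2]
    rw [hcomm]
  have hg4 : g.1 ^ 4 = ev g.1 (a, a ^ 4, a, 1) := by rw [ha]; exact IsSz.quartic g.2
  have hC4 : C ^ 4 = ev C (a ^ 2, (a ^ 2) ^ 4, a ^ 2, 1) := by
    rw [hC, ← Matrix.transpose_pow, IsSz.quartic hYsz, ev_transpose, hYtr]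
  -- the ideal of coefficient vectors killing `M`
  have hI0 : M * ev C (q0 a) = 0 := by
    rw [ev_q0, mul_add, ← hev, ← hg4, hpow 4, hC4]
    exact M4.add_self _
  have hIs : ∀ c, M * ev C c = 0 → M * ev C (shift (a ^ 2) c) = 0 := by
    intro c hc
    rw [← ev_shift C (a ^ 2) hC4 c, ← mul_assoc, hc, zero_mul]
  have hIa : ∀ l c d, M * ev C c = 0 → M * ev C d = 0 → M * ev C (acc l c d) = 0 := by
    intro l c d hc hd
    rw [ev_acc, mul_add, Matrix.mul_smul, hc, hd, smul_zero, add_zero]
  have hIz : M * ev C (0, 0, 0, 0) = 0 := by rw [ev_zero, mul_zero]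
  obtain ⟨l0, l1, l2, l3, hl⟩ := comb_spec a hcases
  have h1 := hIa l0 _ _ hI0 (hIa l1 _ _ (hIs _ hI0) (hIa l2 _ _ (hIs _ (hIs _ hI0))
    (hIa l3 _ _ (hIs _ (hIs _ (hIs _ hI0))) hIz)))
  rw [hl, ev_one, mul_one] at h1
  exact h1

theorem phiV_fpf (k : ℕ) (x : KK) (hx : orderOf x = 13) (w : Multiplicative (Fin k → M4))
    (hw : phiV k x w = w) : w = 1 := by
  obtain ⟨g, hxg, h13, hne⟩ := KK.thirteen x hx
  rw [phiV_apply] at hw
  have h1 : actV k x (Multiplicative.toAdd w) = Multiplicative.toAdd w := by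
    have := congrArg Multiplicative.toAdd hw
    exact this
  have h2 : Multiplicative.toAdd w = 0 := by
    funext i
    have h3 := congrFun h1 i
    rw [actV_apply, hxg, actK1_inl] at h3
    exact fpf13 g h13 hne _ h3
  have := congrArg Multiplicative.ofAdd h2
  exact this

end Cfsg.Agent.Lib.Helper3.SG
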