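import Mathlib
import Cfsg.Agent.Lib.Helper3.SG5
import Cfsg.Agent.Lib.Helper3.PG3

/-! Explicit elements of `Sz(8):3`, and the prime graph of `V^k ⋊ Sz(8):3`. -/

set_option autoImplicit false
set_option maxHeartbeats 4000000
set_option maxRecDepth 100000
set_option linter.unusedVariables false
set_option linter.unusedSectionVars false
set_option linter.style.longLine false
set_option linter.unusedSimpArgs false
set_option linter.style.haveILetI false

namespace Cfsg.Agent.Lib.Helper3.SG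

/-- matrix literal over `K8` from natural number codes -/
def mk4 (a0 a1 a2 a3 b0 b1 b2 b3 c0 c1 c2 c3 d0 d1 d2 d3 : ℕ) : M4 :=
  !![K8.k a0, K8.k a1, K8.k a2, K8.k a3; K8.k b0, K8.k b1, K8.k b2, K8.k b3;
    K8.k c0, K8.k c1, K8.k c2, K8.k c3; K8.k d0, K8.k d1, K8.k d2, K8.k d3]

def U2 : M4 := mk4 0 0 0 1 0 0 1 0 0 1 0 0 1 0 0 0
def C5 : M4 := mk4 1 1 0 1 1 0 1 0 0 1 0 0 1 0 0 0
def H7 : M4 := mk4 2 0 0 0 0 3 0 0 0 0 6 0 0 0 0 5
def G13 : M4 := mk4 5 6 3 2 5 0 0 2 0 6 0 2 5 0 3 2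
def E01 : M4 := mk4 0 1 0 0 0 0 0 0 0 0 0 0 0 0 0 0

theorem U2_spec : IsSz U2 ∧ U2 ^ 2 = 1 ∧ U2 ≠ 1 ∧ U2.map sqR = U2 := by
  decide +kernel

theorem C5_spec : IsSz C5 ∧ C5 ^ 5 = 1 ∧ C5 ≠ 1 ∧ C5.map sqR = C5 ∧ actS C5 U2 = U2 ∧ U2 ≠ 0 := by
  decide +kernel

theorem H7_spec : IsSz H7 ∧ H7 ^ 7 = 1 ∧ H7 ≠ 1 ∧ actS H7 E01 = E01 ∧ E01 ≠ 0 := by
  decide +kernel

theorem G13_spec : IsSz G13 ∧ G13 ^ 13 = 1 ∧ G13 ≠ 1 := by
  decide +kernel

def u2 : Sz8 := ⟨U2, U2_spec.1⟩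
def c5 : Sz8 := ⟨C5, C5_spec.1⟩
def h7 : Sz8 := ⟨H7, H7_spec.1⟩
def g13 : Sz8 := ⟨G13, G13_spec.1⟩

theorem orderOf_sz_prime (g : Sz8) (p : ℕ) [Fact p.Prime] (h1 : g.1 ^ p = 1) (h2 : g.1 ≠ 1) :
    orderOf g = p := by
  apply orderOf_eq_prime
  · apply Subtype.ext
    rw [Sz8.coe_pow, h1]; rfl
  · intro h
    exact h2 (congrArg Subtype.val h)

theorem orderOf_u2 : orderOf u2 = 2 := orderOf_sz_prime u2 2 U2_spec.2.1 U2_spec.2.2.1

theorem orderOf_c5 : orderOf c5 = 5 := by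
  haveI : Fact (Nat.Prime 5) := ⟨by norm_num⟩
  exact orderOf_sz_prime c5 5 C5_spec.2.1 C5_spec.2.2.1

theorem orderOf_h7 : orderOf h7 = 7 := by
  haveI : Fact (Nat.Prime 7) := ⟨by norm_num⟩
  exact orderOf_sz_prime h7 7 H7_spec.2.1 H7_spec.2.2.1

theorem orderOf_g13 : orderOf g13 = 13 := by
  haveI : Fact (Nat.Prime 13) := ⟨by norm_num⟩
  exact orderOf_sz_prime g13 13 G13_spec.2.1 G13_spec.2.2

theorem orderOf_inl (g : Sz8) : orderOf (SemidirectProduct.inl g : KK) = orderOf g :=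
  orderOf_injective (SemidirectProduct.inl : Sz8 →* KK) SemidirectProduct.inl_injective g

/-- the Frobenius as an element of `Gam` -/
def frG : Gam := ⟨frR, Subgroup.mem_zpowers _⟩

theorem frG_ne_one : frG ≠ 1 := by
  intro h
  have h1 : frR = (1 : RingAut K8) := congrArg Subtype.val h
  have h2 : frR (K8.k 2) = K8.k 2 := by rw [h1]; rfl
  revert h2
  decide +kernel

theorem orderOf_frG : orderOf frG = 3 := by
  haveI : Fact (Nat.Prime 3) := ⟨by norm_num⟩
  exact orderOf_eq_prime (Gam_pow_three frG) frG_ne_one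

theorem orderOf_inr (σ : Gam) : orderOf (SemidirectProduct.inr σ : KK) = orderOf σ :=
  orderOf_injective (SemidirectProduct.inr : Gam →* KK) SemidirectProduct.inr_injective σ

theorem commute_inl_inr (u : Sz8) (hu : u.1.map sqR = u.1) :
    Commute (SemidirectProduct.inl u : KK) (SemidirectProduct.inr frG) := by
  have h1 : phiG frG u = u := by
    apply Subtype.ext
    rw [phiG_coe]
    exact hu
  have h2 := SemidirectProduct.inl_aut (φ := phiG) frG u
  rw [h1] at h2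
  show (SemidirectProduct.inl u : KK) * SemidirectProduct.inr frG =
    SemidirectProduct.inr frG * SemidirectProduct.inl u
  calc (SemidirectProduct.inl u : KK) * SemidirectProduct.inr frG
      = (SemidirectProduct.inr frG * SemidirectProduct.inl u * SemidirectProduct.inr frG⁻¹) *
        SemidirectProduct.inr frG := by rw [← h2]
    _ = SemidirectProduct.inr frG * SemidirectProduct.inl u := by
        rw [map_inv, inv_mul_cancel_right]

theorem exists_orderOf_six : ∃ x : KK, orderOf x = 6 := by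
  refine ⟨SemidirectProduct.inl u2 * SemidirectProduct.inr frG, ?_⟩
  rw [(commute_inl_inr u2 U2_spec.2.2.2).orderOf_mul_eq_mul_orderOf_of_coprime,
    orderOf_inl, orderOf_inr, orderOf_u2, orderOf_frG]
  rw [orderOf_inl, orderOf_inr, orderOf_u2, orderOf_frG]
  norm_num

theorem exists_orderOf_fifteen : ∃ x : KK, orderOf x = 15 := by
  refine ⟨SemidirectProduct.inl c5 * SemidirectProduct.inr frG, ?_⟩
  rw [(commute_inl_inr c5 C5_spec.2.2.2.1).orderOf_mul_eq_mul_orderOf_of_coprime,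
    orderOf_inl, orderOf_inr, orderOf_c5, orderOf_frG]
  rw [orderOf_inl, orderOf_inr, orderOf_c5, orderOf_frG]
  norm_num

theorem exists_five_fix : ∃ x : KK, orderOf x = 5 ∧ ∃ M : M4, M ≠ 0 ∧ actK1 x M = M :=
  ⟨SemidirectProduct.inl c5, by rw [orderOf_inl, orderOf_c5], U2, C5_spec.2.2.2.2.2,
    by rw [actK1_inl]; exact C5_spec.2.2.2.2.1⟩

theorem exists_seven_fix : ∃ x : KK, orderOf x = 7 ∧ ∃ M : M4, M ≠ 0 ∧ actK1 x M = M :=
  ⟨SemidirectProduct.inl h7, by rw [orderOf_inl, orderOf_h7], E01, H7_spec.2.2.2.2,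
    by rw [actK1_inl]; exact H7_spec.2.2.2.1⟩

theorem exists_orderOf_thirteen : ∃ x : KK, orderOf x = 13 :=
  ⟨SemidirectProduct.inl g13, by rw [orderOf_inl, orderOf_g13]⟩

/-- the prime graph of `PSp(6,3)`, as a property of a group -/
def PGraphS (G : Type*) [Group G] : Prop :=
  (∀ p : ℕ, p.Prime → (p ∣ Nat.card G ↔ (p = 2 ∨ p = 3 ∨ p = 5 ∨ p = 7 ∨ p = 13))) ∧
  (∀ p q : ℕ, p.Prime → q.Prime → p ≠ q → ((∃ g : G, orderOf g = p * q) ↔
    ((p = 2 ∧ q = 3) ∨ (p = 3 ∧ q = 2) ∨ (p = 2 ∧ q = 5) ∨ (p = 5 ∧ q = 2) ∨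
      (p = 3 ∧ q = 5) ∨ (p = 5 ∧ q = 3) ∨ (p = 2 ∧ q = 7) ∨ (p = 7 ∧ q = 2))))

theorem PGraphS.of_equiv {G H : Type*} [Group G] [Group H] (e : G ≃* H) (h : PGraphS G) :
    PGraphS H := by
  refine ⟨fun p hp => ?_, fun p q hp hq hne => ?_⟩
  · rw [← Nat.card_congr e.toEquiv]; exact h.1 p hp
  · rw [← h.2 p q hp hq hne]
    constructor
    · rintro ⟨g, hg⟩
      exact ⟨e.symm g, by rw [MulEquiv.orderOf_eq]; exact hg⟩
    · rintro ⟨g, hg⟩
      exact ⟨e g, by rw [MulEquiv.orderOf_eq]; exact hg⟩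

/-- divisors `p q` of the numbers in a list of exponents -/
theorem pq_list (p q n : ℕ) (hp : p.Prime) (hq : q.Prime) (hne : p ≠ q)
    (hn : n ∈ [4, 5, 7, 13, 12, 15]) (hd : p * q ∣ n) :
    (p = 2 ∧ q = 3) ∨ (p = 3 ∧ q = 2) ∨ (p = 3 ∧ q = 5) ∨ (p = 5 ∧ q = 3) := by
  have hp2 := hp.two_le
  have hq2 := hq.two_le
  simp only [List.mem_cons, List.not_mem_nil, or_false] at hn
  have hnpos : 0 < n := by rcases hn with rfl | rfl | rfl | rfl | rfl | rfl <;> norm_num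
  have hle : p * q ≤ n := Nat.le_of_dvd hnpos hd
  have hn15 : n ≤ 15 := by rcases hn with rfl | rfl | rfl | rfl | rfl | rfl <;> norm_num
  have hp7 : p ≤ 7 := by nlinarith
  have hq7 : q ≤ 7 := by nlinarith
  rcases hn with rfl | rfl | rfl | rfl | rfl | rfl <;> interval_cases p <;> interval_cases q <;>
    first | omega | (exfalso; norm_num at hq; done) | (exfalso; norm_num at hp; done)

theorem prime_list (p n : ℕ) (hp : p.Prime) (hn : n ∈ [4, 5, 7, 13, 12, 15]) (hd : p ∣ n) :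
    p = 2 ∨ p = 3 ∨ p = 5 ∨ p = 7 ∨ p = 13 := by
  simp only [List.mem_cons, List.not_mem_nil, or_false] at hn
  have hnpos : 0 < n := by rcases hn with rfl | rfl | rfl | rfl | rfl | rfl <;> norm_num
  have hle : p ≤ n := Nat.le_of_dvd hnpos hd
  have hn15 : n ≤ 15 := by rcases hn with rfl | rfl | rfl | rfl | rfl | rfl <;> norm_num
  have hp2 := hp.two_le
  rcases hn with rfl | rfl | rfl | rfl | rfl | rfl <;> interval_cases p <;>
    first | omega | (exfalso; norm_num at hp; done)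

theorem KK.prime_dvd_card (p : ℕ) (hp : p.Prime) :
    p ∣ Nat.card KK ↔ (p = 2 ∨ p = 3 ∨ p = 5 ∨ p = 7 ∨ p = 13) := by
  constructor
  · intro h
    haveI : Fact p.Prime := ⟨hp⟩
    obtain ⟨x, hx⟩ := exists_prime_orderOf_dvd_card' p h
    obtain ⟨n, hn, hxn⟩ := KK.pow_list x
    exact prime_list p n hp hn (hx ▸ orderOf_dvd_of_pow_eq_one hxn)
  · have key : ∀ (m : ℕ), (∃ x : KK, orderOf x = m) → p ∣ m → p ∣ Nat.card KK := by
      rintro m ⟨x, hx⟩ hpm
      exact hpm.trans (hx ▸ orderOf_dvd_natCard x)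
    rintro (rfl | rfl | rfl | rfl | rfl)
    · exact key 6 exists_orderOf_six (by norm_num)
    · exact key 6 exists_orderOf_six (by norm_num)
    · exact key 15 exists_orderOf_fifteen (by norm_num)
    · obtain ⟨x, hx, -⟩ := exists_seven_fix
      exact key 7 ⟨x, hx⟩ (by norm_num)
    · exact key 13 exists_orderOf_thirteen (by norm_num)

theorem KK.pq (x : KK) (p q : ℕ) (hp : p.Prime) (hq : q.Prime) (hne : p ≠ q)
    (hx : orderOf x = p * q) :
    (p = 2 ∧ q = 3) ∨ (p = 3 ∧ q = 2) ∨ (p = 3 ∧ q = 5) ∨ (p = 5 ∧ q = 3) := by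
  obtain ⟨n, hn, hxn⟩ := KK.pow_list x
  exact pq_list p q n hp hq hne hn (hx ▸ orderOf_dvd_of_pow_eq_one hxn)

section SD

open Cfsg.Agent.Lib.Helper3.PG

variable {N G : Type*} [CommGroup N] [Group G] [Finite N] [Finite G] (φ : G →* MulAut N)

theorem exists_orderOf_two_mul (hN2 : ∀ n : N, n * n = 1) (r : ℕ) (hr : r.Prime) (hr2 : r ≠ 2)
    (h : ∃ g : G, orderOf g = r ∧ ∃ n : N, n ≠ 1 ∧ φ g n = n) :
    ∃ x : N ⋊[φ] G, orderOf x = 2 * r := by
  obtain ⟨g, hg, n, hn1, hfix⟩ := h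
  have hn2 : orderOf n = 2 := orderOf_eq_prime (by rw [pow_two]; exact hN2 n) hn1
  have hc : Commute (SemidirectProduct.inl n : N ⋊[φ] G) (SemidirectProduct.inr g) := by
    have h2 := SemidirectProduct.inl_aut (φ := φ) g n
    rw [hfix] at h2
    show (SemidirectProduct.inl n : N ⋊[φ] G) * SemidirectProduct.inr g =
      SemidirectProduct.inr g * SemidirectProduct.inl n
    calc (SemidirectProduct.inl n : N ⋊[φ] G) * SemidirectProduct.inr g
        = (SemidirectProduct.inr g * SemidirectProduct.inl n * SemidirectProduct.inr g⁻¹) *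
          SemidirectProduct.inr g := by rw [← h2]
      _ = SemidirectProduct.inr g * SemidirectProduct.inl n := by
          rw [map_inv, inv_mul_cancel_right]
  have ho1 : orderOf (SemidirectProduct.inl n : N ⋊[φ] G) = 2 := by
    rw [orderOf_injective (SemidirectProduct.inl : N →* N ⋊[φ] G)
      SemidirectProduct.inl_injective n, hn2]
  have ho2 : orderOf (SemidirectProduct.inr g : N ⋊[φ] G) = r := by
    rw [orderOf_injective (SemidirectProduct.inr : G →* N ⋊[φ] G)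
      SemidirectProduct.inr_injective g, hg]
  refine ⟨SemidirectProduct.inl n * SemidirectProduct.inr g, ?_⟩
  rw [hc.orderOf_mul_eq_mul_orderOf_of_coprime, ho1, ho2]
  rw [ho1, ho2]
  exact (Nat.coprime_primes Nat.prime_two hr).2 (Ne.symm hr2)

theorem pgraphS_sd (hN2 : ∀ n : N, n * n = 1) (hN1 : Nontrivial N)
    (hGp : ∀ p : ℕ, p.Prime → (p ∣ Nat.card G ↔ (p = 2 ∨ p = 3 ∨ p = 5 ∨ p = 7 ∨ p = 13)))
    (hGpq : ∀ (x : G) (p q : ℕ), p.Prime → q.Prime → p ≠ q → orderOf x = p * q →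
      (p = 2 ∧ q = 3) ∨ (p = 3 ∧ q = 2) ∨ (p = 3 ∧ q = 5) ∨ (p = 5 ∧ q = 3))
    (h6 : ∃ x : G, orderOf x = 6) (h15 : ∃ x : G, orderOf x = 15)
    (hfpf : ∀ g : G, orderOf g = 13 → ∀ n : N, φ g n = n → n = 1)
    (h5 : ∃ g : G, orderOf g = 5 ∧ ∃ n : N, n ≠ 1 ∧ φ g n = n)
    (h7 : ∃ g : G, orderOf g = 7 ∧ ∃ n : N, n ≠ 1 ∧ φ g n = n) :
    PGraphS (N ⋊[φ] G) := by
  haveI : Fact (Nat.Prime 2) := ⟨Nat.prime_two⟩
  have hN : IsPGroup 2 N := by
    intro n
    exact ⟨1, by rw [pow_one, pow_two]; exact hN2 n⟩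
  have hinr : ∀ m : ℕ, (∃ x : G, orderOf x = m) → ∃ x : N ⋊[φ] G, orderOf x = m := by
    rintro m ⟨x, hx⟩
    exact ⟨SemidirectProduct.inr x, by
      rw [orderOf_injective (SemidirectProduct.inr : G →* N ⋊[φ] G)
        SemidirectProduct.inr_injective x]; exact hx⟩
  refine ⟨fun p hp => ?_, fun p q hp hq hne => ?_⟩
  · rw [card_sd]
    obtain ⟨j, hj⟩ := (IsPGroup.iff_card.1 hN)
    have hj0 : j ≠ 0 := by
      rintro rfl
      rw [pow_zero] at hj
      have := (Nat.card_eq_one_iff_unique.1 hj).1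
      exact not_nontrivial N hN1
    rw [hj, Nat.Prime.dvd_mul hp, hGp p hp]
    constructor
    · rintro (h | h)
      · left
        exact (Nat.prime_dvd_prime_iff_eq hp Nat.prime_two).1 (hp.dvd_of_dvd_pow h)
      · exact h
    · intro h
      right; exact h
  · constructor
    · rintro ⟨h, ho⟩
      rcases sd_pair φ 2 hN h p q hp hq hne ho with ⟨g, hg⟩ | ⟨g, r, hr, hr2, hpq, hgr, n, hn1, hfix⟩
      · rcases hGpq g p q hp hq hne hg with h | h | h | h
        · exact Or.inl h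
        · exact Or.inr (Or.inl h)
        · exact Or.inr (Or.inr (Or.inr (Or.inr (Or.inl h))))
        · exact Or.inr (Or.inr (Or.inr (Or.inr (Or.inr (Or.inl h)))))
      · have hrd : r ∣ Nat.card G := by rw [← hgr]; exact orderOf_dvd_natCard g
        rcases (hGp r hr).1 hrd with rfl | rfl | rfl | rfl | rfl
        · exact absurd rfl hr2
        · rcases hpq with ⟨rfl, rfl⟩ | ⟨rfl, rfl⟩
          · exact Or.inl ⟨rfl, rfl⟩
          · exact Or.inr (Or.inl ⟨rfl, rfl⟩)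
        · rcases hpq with ⟨rfl, rfl⟩ | ⟨rfl, rfl⟩
          · exact Or.inr (Or.inr (Or.inl ⟨rfl, rfl⟩))
          · exact Or.inr (Or.inr (Or.inr (Or.inl ⟨rfl, rfl⟩)))
        · rcases hpq with ⟨rfl, rfl⟩ | ⟨rfl, rfl⟩
          · exact Or.inr (Or.inr (Or.inr (Or.inr (Or.inr (Or.inr (Or.inl ⟨rfl, rfl⟩))))))
          · exact Or.inr (Or.inr (Or.inr (Or.inr (Or.inr (Or.inr (Or.inr ⟨rfl, rfl⟩))))))
        · exact absurd (hfpf g hgr n hfix) hn1
    · have h10 := exists_orderOf_two_mul φ hN2 5 (by norm_num) (by norm_num) h5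
      have h14 := exists_orderOf_two_mul φ hN2 7 (by norm_num) (by norm_num) h7
      rintro (⟨rfl, rfl⟩ | ⟨rfl, rfl⟩ | ⟨rfl, rfl⟩ | ⟨rfl, rfl⟩ | ⟨rfl, rfl⟩ | ⟨rfl, rfl⟩ |
        ⟨rfl, rfl⟩ | ⟨rfl, rfl⟩)
      · exact hinr _ h6
      · exact hinr _ h6
      · exact h10
      · obtain ⟨x, hx⟩ := h10
        exact ⟨x, by rw [hx]⟩
      · exact hinr _ h15
      · exact hinr _ h15
      · exact h14
      · obtain ⟨x, hx⟩ := h14
        exact ⟨x, by rw [hx]⟩

end SD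

/-- the groups `H_k = V^k ⋊ Sz(8):3` -/
abbrev HS (k : ℕ) := Multiplicative (Fin k → M4) ⋊[phiV k] KK

theorem HS_main (k : ℕ) (hk : 1 ≤ k) : PGraphS (HS k) ∧ k < Nat.card (HS k) ∧ Finite (HS k) := by
  haveI : Finite (Multiplicative (Fin k → M4)) := inferInstance
  have j0 : Fin k := ⟨0, hk⟩
  have hlift : ∀ r : ℕ, (∃ x : KK, orderOf x = r ∧ ∃ M : M4, M ≠ 0 ∧ actK1 x M = M) →
      ∃ x : KK, orderOf x = r ∧ ∃ w : Multiplicative (Fin k → M4), w ≠ 1 ∧ phiV k x w = w := by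
    rintro r ⟨x, hx, M, hM, hfix⟩
    refine ⟨x, hx, Multiplicative.ofAdd (fun _ => M), ?_, ?_⟩
    · intro h
      have h1 : (fun _ : Fin k => M) = 0 := congrArg Multiplicative.toAdd h
      exact hM (congrFun h1 j0)
    · rw [phiV_apply]
      congr 1
      funext i
      exact hfix
  have hnt : Nontrivial (Multiplicative (Fin k → M4)) := by
    obtain ⟨x, -, w, hw, -⟩ := hlift 5 exists_five_fix
    exact ⟨⟨w, 1, hw⟩⟩
  have hN2 : ∀ w : Multiplicative (Fin k → M4), w * w = 1 := by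
    intro w
    have h1 : Multiplicative.toAdd w + Multiplicative.toAdd w = 0 := by
      funext i
      exact M4.add_self _
    exact congrArg Multiplicative.ofAdd h1
  refine ⟨?_, ?_, Cfsg.Agent.Lib.Helper3.PG.finite_sd (phiV k)⟩
  · exact pgraphS_sd (phiV k) hN2 hnt KK.prime_dvd_card KK.pq exists_orderOf_six
      exists_orderOf_fifteen (phiV_fpf k) (hlift 5 exists_five_fix) (hlift 7 exists_seven_fix)
  · rw [Cfsg.Agent.Lib.Helper3.PG.card_sd]
    have h1 : 2 ^ k ≤ Nat.card (Multiplicative (Fin k → M4)) := by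
      have h2 : Nat.card (Multiplicative (Fin k → M4)) = Nat.card (Fin k → M4) := rfl
      rw [h2, Nat.card_pi]
      simp only [Finset.prod_const, Finset.card_univ, Fintype.card_fin]
      apply Nat.pow_le_pow_left
      have : Nat.card M4 = 8 ^ 16 := by
        rw [Nat.card_eq_fintype_card]
        show Fintype.card (Fin 4 → Fin 4 → K8) = 8 ^ 16
        simp [K8.card]
      rw [this]; norm_num
    calc k < 2 ^ k := Nat.lt_two_pow_self
      _ ≤ Nat.card (Multiplicative (Fin k → M4)) := h1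
      _ ≤ Nat.card (Multiplicative (Fin k → M4)) * Nat.card KK :=
        Nat.le_mul_of_pos_right _ Nat.card_pos

end Cfsg.Agent.Lib.Helper3.SG
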