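import Mathlib

/-! Element orders in `Sp(6,3)`: the characteristic polynomial of a symplectic matrix is
palindromic, and for each of the 27 possible polynomials a power of the variable is `±1`. -/

set_option autoImplicit false
set_option maxHeartbeats 4000000
set_option maxRecDepth 100000
set_option linter.unusedVariables false
set_option linter.unusedSectionVars false
set_option linter.style.longLine false
set_option linter.unusedSimpArgs false
set_option linter.style.haveILetI false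

namespace Cfsg.Agent.Lib.Helper3.SG

open Matrix Polynomial

abbrev M6 := Matrix (Fin 3 ⊕ Fin 3) (Fin 3 ⊕ Fin 3) (ZMod 3)

abbrev V6 := ZMod 3 × ZMod 3 × ZMod 3 × ZMod 3 × ZMod 3 × ZMod 3

theorem charpoly_reverse_of_mem {M : M6} (hM : M ∈ symplecticGroup (Fin 3) (ZMod 3)) :
    M.charpoly.reverse = M.charpoly := by
  have hdet : M.det = 1 := SymplecticGroup.det_eq_one hM
  have hunit : IsUnit M := by
    rw [Matrix.isUnit_iff_isUnit_det, hdet]; exact isUnit_one
  have h1 := Matrix.charpoly_inv M hunit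
  have hcard : Fintype.card (Fin 3 ⊕ Fin 3) = 6 := by simp
  have h6 : ((-1 : (ZMod 3)[X]) ^ 6) = 1 := by norm_num
  rw [hdet, Ring.inverse_one, map_one, mul_one, ← Matrix.reverse_charpoly, hcard, h6, one_mul] at h1
  have h2 : M⁻¹ = -J (Fin 3) (ZMod 3) * Mᵀ * J (Fin 3) (ZMod 3) :=
    (SymplecticGroup.coe_inv' ⟨M, hM⟩).symm.trans (SymplecticGroup.coe_inv ⟨M, hM⟩)
  have hJ : J (Fin 3) (ZMod 3) * -J (Fin 3) (ZMod 3) = 1 := by
    rw [mul_neg, J_squared, neg_neg]
  have h3 : M⁻¹.charpoly = M.charpoly := by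
    rw [h2, mul_assoc, Matrix.charpoly_mul_comm, mul_assoc, hJ, mul_one, Matrix.charpoly_transpose]
  exact h1.symm.trans h3

/-- evaluation of a quintic with coefficient vector `v` at the matrix `M` -/
def ev6 (M : M6) (v : V6) : M6 :=
  v.1 • M ^ 5 + v.2.1 • M ^ 4 + v.2.2.1 • M ^ 3 + v.2.2.2.1 • M ^ 2 + v.2.2.2.2.1 • M +
    v.2.2.2.2.2 • (1 : M6)

/-- multiplication by the variable modulo the palindromic sextic with parameters `a b c` -/
def step3 (a b c : ZMod 3) (v : V6) : V6 :=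
  (v.2.1 - v.1 * a, v.2.2.1 - v.1 * b, v.2.2.2.1 - v.1 * c, v.2.2.2.2.1 - v.1 * b,
    v.2.2.2.2.2 - v.1 * a, -v.1)

/-- the coefficient vector of `xⁿ` modulo the palindromic sextic -/
def rec3 (a b c : ZMod 3) : ℕ → V6
  | 0 => (0, 0, 0, 0, 0, 1)
  | n + 1 => step3 a b c (rec3 a b c n)

set_option synthInstance.maxHeartbeats 2000000 in
set_option synthInstance.maxSize 4096 in
theorem rec3_spec : ∀ a b c : ZMod 3, ∃ n ∈ [6, 7, 8, 9, 12, 13, 14, 15, 18, 20, 24, 30, 36],
    rec3 a b c n = (0, 0, 0, 0, 0, 1) ∨ rec3 a b c n = (0, 0, 0, 0, 0, -1) := by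
  decide +kernel

theorem charpoly_data {M : M6} (hM : M ∈ symplecticGroup (Fin 3) (ZMod 3)) :
    ∃ a b c : ZMod 3, M ^ 6 = ev6 M (-a, -b, -c, -b, -a, -1) := by
  have hrev := charpoly_reverse_of_mem hM
  have hdeg : M.charpoly.natDegree = 6 := by
    rw [Matrix.charpoly_natDegree_eq_dim]; simp
  have hsym : ∀ i : ℕ, i ≤ 6 → M.charpoly.coeff i = M.charpoly.coeff (6 - i) := by
    intro i hi
    have h := congrArg (fun p => p.coeff i) hrev
    simp only [Polynomial.coeff_reverse, hdeg, Polynomial.revAt_le hi] at h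
    exact h.symm
  have h6 : M.charpoly.coeff 6 = 1 := by
    have := (Matrix.charpoly_monic M).coeff_natDegree
    rwa [hdeg] at this
  have h0 : M.charpoly.coeff 0 = 1 := by rw [hsym 0 (by norm_num)]; exact h6
  have h1 : M.charpoly.coeff 1 = M.charpoly.coeff 5 := hsym 1 (by norm_num)
  have h2 : M.charpoly.coeff 2 = M.charpoly.coeff 4 := hsym 2 (by norm_num)
  have hch := Matrix.aeval_self_charpoly M
  rw [Polynomial.aeval_eq_sum_range, hdeg] at hch
  simp only [Finset.sum_range_succ, Finset.sum_range_zero, zero_add, h0, h1, h2, h6, pow_zero,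
    pow_one, one_smul] at hch
  refine ⟨M.charpoly.coeff 5, M.charpoly.coeff 4, M.charpoly.coeff 3, ?_⟩
  have h7 := eq_neg_of_add_eq_zero_right hch
  rw [h7]
  simp only [ev6]
  module

theorem ev6_step (M : M6) (a b c : ZMod 3) (hM : M ^ 6 = ev6 M (-a, -b, -c, -b, -a, -1)) (v : V6) :
    ev6 M v * M = ev6 M (step3 a b c v) := by
  have h6 : M ^ 5 * M = (-a) • M ^ 5 + (-b) • M ^ 4 + (-c) • M ^ 3 + (-b) • M ^ 2 + (-a) • M +
      (-1 : ZMod 3) • (1 : M6) := by
    rw [← pow_succ]; exact hM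
  have h5 : M ^ 4 * M = M ^ 5 := by rw [← pow_succ]
  have h4 : M ^ 3 * M = M ^ 4 := by rw [← pow_succ]
  have h3 : M ^ 2 * M = M ^ 3 := by rw [← pow_succ]
  have h2 : M * M = M ^ 2 := by rw [pow_two]
  simp only [ev6, step3, add_mul, smul_mul_assoc, one_mul, h6, h5, h4, h3, h2]
  module

theorem ev6_one (M : M6) : ev6 M (0, 0, 0, 0, 0, 1) = 1 := by
  simp [ev6]

theorem ev6_neg_one (M : M6) : ev6 M (0, 0, 0, 0, 0, -1) = -1 := by
  simp [ev6]

theorem pow_rec3 (M : M6) (a b c : ZMod 3) (hM : M ^ 6 = ev6 M (-a, -b, -c, -b, -a, -1)) (n : ℕ) :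
    M ^ n = ev6 M (rec3 a b c n) := by
  induction n with
  | zero => rw [pow_zero]; exact (ev6_one M).symm
  | succ n ih => rw [pow_succ, ih, ev6_step M a b c hM]; rfl

/-- every element of `Sp(6,3)` has a power equal to `±1`, with exponent in a short list -/
theorem sp_pow {M : M6} (hM : M ∈ symplecticGroup (Fin 3) (ZMod 3)) :
    ∃ n ∈ [6, 7, 8, 9, 12, 13, 14, 15, 18, 20, 24, 30, 36], M ^ n = 1 ∨ M ^ n = -1 := by
  obtain ⟨a, b, c, h⟩ := charpoly_data hM
  obtain ⟨n, hn, hr⟩ := rec3_spec a b c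
  refine ⟨n, hn, ?_⟩
  rcases hr with hr | hr
  · left; rw [pow_rec3 M a b c h n, hr, ev6_one]
  · right; rw [pow_rec3 M a b c h n, hr, ev6_neg_one]

end Cfsg.Agent.Lib.Helper3.SG
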