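import Mathlib
import Cfsg.Prelude.Def_Classical
import Cfsg.Agent.Lib.Helper3.SG6
import Cfsg.Agent.Lib.Helper3.SG7
import Cfsg.Agent.Lib.Helper4.SympEquiv

/-! The prime graph of `PSp(6,3)`. -/

set_option autoImplicit false
set_option maxHeartbeats 4000000
set_option maxRecDepth 100000
set_option linter.unusedVariables false
set_option linter.unusedSectionVars false
set_option linter.style.longLine false
set_option linter.unusedSimpArgs false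
set_option linter.style.haveILetI false

namespace Cfsg.Agent.Lib.Helper3.SG

open Matrix

abbrev Sp6 : Type := ↥(symplecticGroup (Fin 3) (ZMod 3))

abbrev P6 : Type := Cfsg.PSp 3 (ZMod 3)

instance instFiniteSp6 : Finite Sp6 := Subtype.finite

instance instFiniteP6 : Finite P6 := Quotient.finite _

theorem Sp6.coe_pow (A : Sp6) (n : ℕ) : ((A ^ n : Sp6) : M6) = (A : M6) ^ n :=
  SubmonoidClass.coe_pow A n

theorem Sp6.central_of_pm (A : Sp6) (h : (A : M6) = 1 ∨ (A : M6) = -1) :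
    A ∈ Subgroup.center Sp6 := by
  rw [Subgroup.mem_center_iff]
  intro B
  apply Subtype.ext
  show (B : M6) * (A : M6) = (A : M6) * (B : M6)
  rcases h with h | h
  · rw [h, mul_one, one_mul]
  · rw [h, mul_neg, neg_mul, mul_one, one_mul]

theorem P6.mk_pow_eq_one (A : Sp6) (n : ℕ) (h : (A : M6) ^ n = 1 ∨ (A : M6) ^ n = -1) :
    ((QuotientGroup.mk A : P6)) ^ n = 1 := by
  rw [← QuotientGroup.mk_pow, QuotientGroup.eq_one_iff]
  apply Sp6.central_of_pm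
  rw [Sp6.coe_pow]
  exact h

theorem P6.mk_pow_ne_one (A B : Sp6) (n : ℕ)
    (h : (A : M6) ^ n * (B : M6) ≠ (B : M6) * (A : M6) ^ n) :
    ((QuotientGroup.mk A : P6)) ^ n ≠ 1 := by
  rw [← QuotientGroup.mk_pow, Ne, QuotientGroup.eq_one_iff, Subgroup.mem_center_iff]
  intro hc
  apply h
  have := congrArg Subtype.val (hc B)
  rw [← Sp6.coe_pow]
  exact this.symm

theorem P6.pow_list (x : P6) :
    ∃ n ∈ [6, 7, 8, 9, 12, 13, 14, 15, 18, 20, 24, 30, 36], x ^ n = 1 := by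
  obtain ⟨A, rfl⟩ := QuotientGroup.mk_surjective x
  obtain ⟨n, hn, h⟩ := sp_pow A.2
  exact ⟨n, hn, P6.mk_pow_eq_one A n h⟩

set_option synthInstance.maxHeartbeats 2000000 in
set_option synthInstance.maxSize 4096 in
theorem arith36 : ∀ n ∈ [6, 7, 8, 9, 12, 13, 14, 15, 18, 20, 24, 30, 36], ∀ p < 37, ∀ q < 37,
    Nat.Prime p → Nat.Prime q → p ≠ q → p * q ∣ n →
    ((p = 2 ∧ q = 3) ∨ (p = 3 ∧ q = 2) ∨ (p = 2 ∧ q = 5) ∨ (p = 5 ∧ q = 2) ∨
      (p = 3 ∧ q = 5) ∨ (p = 5 ∧ q = 3) ∨ (p = 2 ∧ q = 7) ∨ (p = 7 ∧ q = 2)) := by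
  decide +kernel

set_option synthInstance.maxHeartbeats 2000000 in
set_option synthInstance.maxSize 4096 in
theorem arith36' : ∀ n ∈ [6, 7, 8, 9, 12, 13, 14, 15, 18, 20, 24, 30, 36], ∀ p < 37,
    Nat.Prime p → p ∣ n → (p = 2 ∨ p = 3 ∨ p = 5 ∨ p = 7 ∨ p = 13) := by
  decide +kernel

theorem list36_le (n : ℕ) (hn : n ∈ [6, 7, 8, 9, 12, 13, 14, 15, 18, 20, 24, 30, 36]) :
    0 < n ∧ n ≤ 36 := by
  simp only [List.mem_cons, List.not_mem_nil, or_false] at hn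
  rcases hn with rfl | rfl | rfl | rfl | rfl | rfl | rfl | rfl | rfl | rfl | rfl | rfl | rfl <;>
    norm_num

theorem pq_list36 (p q n : ℕ) (hp : p.Prime) (hq : q.Prime) (hne : p ≠ q)
    (hn : n ∈ [6, 7, 8, 9, 12, 13, 14, 15, 18, 20, 24, 30, 36]) (hd : p * q ∣ n) :
    ((p = 2 ∧ q = 3) ∨ (p = 3 ∧ q = 2) ∨ (p = 2 ∧ q = 5) ∨ (p = 5 ∧ q = 2) ∨
      (p = 3 ∧ q = 5) ∨ (p = 5 ∧ q = 3) ∨ (p = 2 ∧ q = 7) ∨ (p = 7 ∧ q = 2)) := by
  obtain ⟨hpos, hle⟩ := list36_le n hn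
  have h1 : p * q ≤ n := Nat.le_of_dvd hpos hd
  have hp2 := hp.two_le
  have hq2 := hq.two_le
  have hp37 : p < 37 := by nlinarith
  have hq37 : q < 37 := by nlinarith
  exact arith36 n hn p hp37 q hq37 hp hq hne hd

theorem prime_list36 (p n : ℕ) (hp : p.Prime)
    (hn : n ∈ [6, 7, 8, 9, 12, 13, 14, 15, 18, 20, 24, 30, 36]) (hd : p ∣ n) :
    p = 2 ∨ p = 3 ∨ p = 5 ∨ p = 7 ∨ p = 13 := by
  obtain ⟨hpos, hle⟩ := list36_le n hn
  have h1 : p ≤ n := Nat.le_of_dvd hpos hd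
  exact arith36' n hn p (by omega) hp hd

def X30 : M6 := Matrix.fromBlocks !![1, 0, 1; 1, 0, 1; 1, 0, 1] !![2, 0, 2; 0, 0, 1; 0, 1, 1]
  !![0, 0, 2; 1, 1, 2; 0, 2, 0] !![2, 0, 0; 2, 2, 1; 0, 1, 0]

def X14 : M6 := Matrix.fromBlocks !![1, 2, 0; 1, 2, 0; 2, 2, 2] !![0, 2, 1; 2, 1, 0; 2, 2, 0]
  !![0, 0, 2; 1, 1, 2; 2, 1, 0] !![1, 1, 1; 2, 1, 2; 2, 0, 0]

def X13 : M6 := Matrix.fromBlocks !![1, 2, 0; 2, 2, 0; 0, 0, 0] !![1, 0, 2; 2, 0, 1; 0, 0, 1]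
  !![1, 2, 0; 1, 1, 0; 0, 0, 2] !![0, 1, 2; 2, 1, 2; 1, 0, 0]

theorem X30_mem : X30 * J (Fin 3) (ZMod 3) * X30ᵀ = J (Fin 3) (ZMod 3) := by decide +kernel
theorem X14_mem : X14 * J (Fin 3) (ZMod 3) * X14ᵀ = J (Fin 3) (ZMod 3) := by decide +kernel
theorem X13_mem : X13 * J (Fin 3) (ZMod 3) * X13ᵀ = J (Fin 3) (ZMod 3) := by decide +kernel

theorem X30_spec : X30 ^ 30 = 1 ∧ X30 ^ 15 * X13 ≠ X13 * X30 ^ 15 ∧
    X30 ^ 10 * X13 ≠ X13 * X30 ^ 10 ∧ X30 ^ 6 * X13 ≠ X13 * X30 ^ 6 := by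
  decide +kernel

theorem X14_spec : X14 ^ 14 = -1 ∧ X14 ^ 7 * X13 ≠ X13 * X14 ^ 7 ∧
    X14 ^ 2 * X13 ≠ X13 * X14 ^ 2 := by
  decide +kernel

theorem X13_spec : X13 ^ 13 = -1 ∧ X13 ^ 1 * X14 ≠ X14 * X13 ^ 1 := by
  decide +kernel

def s30 : Sp6 := ⟨X30, SymplecticGroup.mem_iff.2 X30_mem⟩
def s14 : Sp6 := ⟨X14, SymplecticGroup.mem_iff.2 X14_mem⟩
def s13 : Sp6 := ⟨X13, SymplecticGroup.mem_iff.2 X13_mem⟩

theorem orderOf_x30 : orderOf (QuotientGroup.mk s30 : P6) = 30 := by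
  apply orderOf_eq_of_pow_and_pow_div_prime (by norm_num)
  · exact P6.mk_pow_eq_one s30 30 (Or.inl X30_spec.1)
  · intro p hp hd
    have hp' : p = 2 ∨ p = 3 ∨ p = 5 := by
      have hle : p ≤ 30 := Nat.le_of_dvd (by norm_num) hd
      have h2 := hp.two_le
      interval_cases p <;> first | omega | (exfalso; norm_num at hp; done)
    rcases hp' with rfl | rfl | rfl
    · exact P6.mk_pow_ne_one s30 s13 _ X30_spec.2.1
    · exact P6.mk_pow_ne_one s30 s13 _ X30_spec.2.2.1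
    · exact P6.mk_pow_ne_one s30 s13 _ X30_spec.2.2.2

theorem orderOf_x14 : orderOf (QuotientGroup.mk s14 : P6) = 14 := by
  apply orderOf_eq_of_pow_and_pow_div_prime (by norm_num)
  · exact P6.mk_pow_eq_one s14 14 (Or.inr X14_spec.1)
  · intro p hp hd
    have hp' : p = 2 ∨ p = 7 := by
      have hle : p ≤ 14 := Nat.le_of_dvd (by norm_num) hd
      have h2 := hp.two_le
      interval_cases p <;> first | omega | (exfalso; norm_num at hp; done)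
    rcases hp' with rfl | rfl
    · exact P6.mk_pow_ne_one s14 s13 _ X14_spec.2.1
    · exact P6.mk_pow_ne_one s14 s13 _ X14_spec.2.2

theorem orderOf_x13 : orderOf (QuotientGroup.mk s13 : P6) = 13 := by
  apply orderOf_eq_of_pow_and_pow_div_prime (by norm_num)
  · exact P6.mk_pow_eq_one s13 13 (Or.inr X13_spec.1)
  · intro p hp hd
    have hp' : p = 13 := (Nat.prime_dvd_prime_iff_eq hp (by norm_num)).1 hd
    subst hp'
    exact P6.mk_pow_ne_one s13 s14 _ X13_spec.2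

theorem exists_orderOf_pow {G : Type*} [Group G] (x : G) (n k : ℕ) (hk : k ≠ 0)
    (hx : orderOf x = n) (m : ℕ) (hm : n / Nat.gcd n k = m) : ∃ y : G, orderOf y = m :=
  ⟨x ^ k, by rw [orderOf_pow' x hk, hx, hm]⟩

/-- the prime graph of `PSp(6,3)` -/
theorem pgraphS_P6 : PGraphS P6 := by
  refine ⟨fun p hp => ?_, fun p q hp hq hne => ?_⟩
  · constructor
    · intro h
      haveI : Fact p.Prime := ⟨hp⟩
      obtain ⟨x, hx⟩ := exists_prime_orderOf_dvd_card' p h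
      obtain ⟨n, hn, hxn⟩ := P6.pow_list x
      exact prime_list36 p n hp hn (hx ▸ orderOf_dvd_of_pow_eq_one hxn)
    · have key : ∀ (m : ℕ), (∃ x : P6, orderOf x = m) → p ∣ m → p ∣ Nat.card P6 := by
        rintro m ⟨x, hx⟩ hpm
        exact hpm.trans (hx ▸ orderOf_dvd_natCard x)
      rintro (rfl | rfl | rfl | rfl | rfl)
      · exact key 30 ⟨_, orderOf_x30⟩ (by norm_num)
      · exact key 30 ⟨_, orderOf_x30⟩ (by norm_num)
      · exact key 30 ⟨_, orderOf_x30⟩ (by norm_num)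
      · exact key 14 ⟨_, orderOf_x14⟩ (by norm_num)
      · exact key 13 ⟨_, orderOf_x13⟩ (by norm_num)
  · constructor
    · rintro ⟨x, hx⟩
      obtain ⟨n, hn, hxn⟩ := P6.pow_list x
      exact pq_list36 p q n hp hq hne hn (hx ▸ orderOf_dvd_of_pow_eq_one hxn)
    · have h6 : ∃ y : P6, orderOf y = 6 :=
        exists_orderOf_pow _ 30 5 (by norm_num) orderOf_x30 6 (by norm_num)
      have h10 : ∃ y : P6, orderOf y = 10 :=
        exists_orderOf_pow _ 30 3 (by norm_num) orderOf_x30 10 (by norm_num)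
      have h15 : ∃ y : P6, orderOf y = 15 :=
        exists_orderOf_pow _ 30 2 (by norm_num) orderOf_x30 15 (by norm_num)
      have h14 : ∃ y : P6, orderOf y = 14 := ⟨_, orderOf_x14⟩
      rintro (⟨rfl, rfl⟩ | ⟨rfl, rfl⟩ | ⟨rfl, rfl⟩ | ⟨rfl, rfl⟩ | ⟨rfl, rfl⟩ | ⟨rfl, rfl⟩ |
        ⟨rfl, rfl⟩ | ⟨rfl, rfl⟩)
      · exact h6
      · exact h6
      · exact h10
      · exact h10
      · exact h15
      · exact h15
      · exact h14
      · exact h14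

/-- the prime graph of `PSp(6,F)` for a field `F` with three elements -/
theorem pgraphS_PSp {F : Type*} [Field F] [Fintype F] (hF : Fintype.card F = 3) :
    PGraphS (Cfsg.PSp 3 F) := by
  haveI : Fact (Nat.Prime 3) := ⟨Nat.prime_three⟩
  have e : ZMod 3 ≃+* F := ZMod.ringEquivOfPrime F Nat.prime_three hF
  exact pgraphS_P6.of_equiv (Cfsg.Agent.Lib.Helper4.SympEquiv.quotCenterCongr
    (Cfsg.Agent.Lib.Helper4.SympEquiv.sympEquiv (l := Fin 3) e))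

end Cfsg.Agent.Lib.Helper3.SG
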