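import Mathlib
import Cfsg.Agent.Lib.Helper1.CoprimeGenCentralizers
import Cfsg.Agent.Lib.Helper1.Rk4

set_option autoImplicit false

namespace Cfsg.Agent.Lib.Helper3.SL

open Cfsg.Agent.Lib.Helper1 Cfsg.Agent.Lib.Helper1.Rk

universe u

variable {W : Type u} [Group W]

/-- Coprime generation for an abelian noncyclic group `E` of automorphisms of `W`: an
`E`-invariant subgroup `U` lies in any subgroup `D` containing all the fixed point subgroups
`U ⊓ Fix e`, `e ∈ E` nontrivial. -/
theorem ext_coprime_gen [Finite W] (E : Subgroup (MulAut W)) [hab : IsMulCommutative E]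
    (hnc : ¬ IsCyclic E) (hcop : (Nat.card E).Coprime (Nat.card W))
    (U : Subgroup W) (hU : ∀ e ∈ E, ∀ u ∈ U, e u ∈ U)
    (D : Subgroup W) (hD : ∀ e ∈ E, e ≠ 1 → U ⊓ fixedSub e ≤ D) : U ≤ D := by
  classical
  haveI : Finite E := Finite.of_injective _ Subtype.val_injective
  let φ : ↥E →* MulAut W := E.subtype
  let G := W ⋊[φ] ↥E
  haveI : Finite G := Finite.of_equiv _ SemidirectProduct.equivProd.symm
  let inl : W →* G := SemidirectProduct.inl
  let inr : ↥E →* G := SemidirectProduct.inr
  have hinl : Function.Injective inl := SemidirectProduct.inl_injective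
  have hinr : Function.Injective inr := SemidirectProduct.inr_injective
  let A : Subgroup G := inr.range
  let K : Subgroup G := U.map inl
  -- conjugation formula
  have hconj : ∀ (e : ↥E) (w : W), inr e * inl w * (inr e)⁻¹ = inl ((e : MulAut W) w) := by
    intro e w
    rw [← map_inv]
    exact (SemidirectProduct.inl_aut (φ := φ) e w).symm
  haveI hAc : IsMulCommutative A := by
    refine ⟨⟨?_⟩⟩
    rintro ⟨x, e₁, rfl⟩ ⟨y, e₂, rfl⟩
    apply Subtype.ext
    show inr e₁ * inr e₂ = inr e₂ * inr e₁
    rw [← map_mul, ← map_mul]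
    congr 1
    exact hab.is_comm.comm e₁ e₂
  have hAnc : ¬ IsCyclic A := by
    intro hcyc
    apply hnc
    let f : ↥E ≃* ↥A := MonoidHom.ofInjective hinr
    exact isCyclic_of_surjective f.symm.toMonoidHom f.symm.surjective
  have hAK : A ≤ Subgroup.normalizer (K : Set G) := by
    rintro x ⟨e, rfl⟩
    rw [Subgroup.mem_normalizer_iff]
    intro h
    constructor
    · rintro ⟨u, hu, rfl⟩
      show inr e * inl u * (inr e)⁻¹ ∈ K
      rw [hconj]
      exact ⟨_, hU e e.2 u hu, rfl⟩
    · rintro ⟨u, hu, hu'⟩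
      have h1 : h = (inr e)⁻¹ * inl u * inr e := by
        have hu'' : inl u = inr e * h * (inr e)⁻¹ := hu'
        rw [hu'', mul_assoc, mul_assoc, inv_mul_cancel, mul_one, inv_mul_cancel_left]
      have h2 : (inr e)⁻¹ * inl u * inr e = inl (((e⁻¹ : ↥E) : MulAut W) u) := by
        have := hconj e⁻¹ u
        rw [map_inv, inv_inv] at this
        exact this
      rw [h1, h2]
      exact ⟨_, hU _ (e⁻¹).2 u hu, rfl⟩
  have hcardA : Nat.card A = Nat.card E :=
    (Nat.card_congr (MonoidHom.ofInjective hinr).toEquiv).symm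
  have hcardK : Nat.card K = Nat.card U :=
    (Nat.card_congr (U.equivMapOfInjective inl hinl).toEquiv).symm
  have hcop' : (Nat.card A).Coprime (Nat.card K) := by
    rw [hcardA, hcardK]
    exact Nat.Coprime.coprime_dvd_right (Subgroup.card_subgroup_dvd_card U) hcop
  have hgen := coprime_generated_by_centralizers A K hAnc hAK hcop'
  have hle : K ≤ D.map inl := by
    rw [← hgen]
    apply iSup₂_le
    rintro a ⟨⟨e, rfl⟩, hne⟩
    have he1 : (e : MulAut W) ≠ 1 := by
      intro h
      apply hne
      have : e = 1 := Subtype.ext h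
      rw [this, map_one]
    rintro x ⟨⟨u, hu, rfl⟩, hxc⟩
    have hcomm : inr e * inl u = inl u * inr e := by
      have := Subgroup.mem_centralizer_iff.mp hxc (inr e) rfl
      exact this
    have hfix : (e : MulAut W) u = u := by
      apply hinl
      rw [← hconj, hcomm, mul_inv_cancel_right]
    exact ⟨u, hD e e.2 he1 ⟨hu, hfix⟩, rfl⟩
  exact (Subgroup.map_le_map_iff_of_injective hinl).mp hle

end Cfsg.Agent.Lib.Helper3.SL
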