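import Mathlib

set_option autoImplicit false

namespace Cfsg.Agent.Lib.Helper3.SL

/-- An automorphism of odd order of a cyclic `2`-group is trivial. -/
theorem aut_cyclic_two_group_trivial {T : Type*} [Group T] [Finite T] [IsCyclic T]
    (hT : IsPGroup 2 T) (α : MulAut T) {m : ℕ} (hm : Odd m) (hα : α ^ m = 1) : α = 1 := by
  have h1 : orderOf α ∣ m := orderOf_dvd_of_pow_eq_one hα
  have h2 : orderOf α ∣ Nat.card (MulAut T) := orderOf_dvd_natCard α
  rw [IsCyclic.card_mulAut] at h2
  haveI : Fact (Nat.Prime 2) := ⟨Nat.prime_two⟩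
  obtain ⟨n, hn⟩ := IsPGroup.iff_card.mp hT
  rw [hn] at h2
  have h3 : ∃ j, Nat.totient (2 ^ n) = 2 ^ j := by
    rcases Nat.eq_zero_or_pos n with rfl | hpos
    · exact ⟨0, by simp⟩
    · exact ⟨n - 1, by rw [Nat.totient_prime_pow Nat.prime_two hpos]; simp⟩
  obtain ⟨j, hj⟩ := h3
  rw [hj] at h2
  obtain ⟨i, -, hi⟩ := (Nat.dvd_prime_pow Nat.prime_two).mp h2
  have hi0 : i = 0 := by
    by_contra hne
    have h4 : 2 ∣ orderOf α := by
      rw [hi]
      exact dvd_pow_self 2 hne
    have h5 : 2 ∣ m := dvd_trans h4 h1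
    exact (Nat.not_even_iff_odd.mpr hm) (even_iff_two_dvd.mpr h5)
  rw [hi0, pow_zero] at hi
  exact orderOf_eq_one_iff.mp hi

open QuaternionGroup in
/-- An automorphism of odd order of a generalised quaternion group of order at least `16`
is trivial. -/
theorem aut_quaternion_trivial' (N n : ℕ) (hN : N = 2 ^ n) (hn : 2 ≤ n)
    (β : MulAut (QuaternionGroup N))
    {m : ℕ} (hm : Odd m) (hβ : β ^ m = 1) : β = 1 := by
  haveI : NeZero N := ⟨by rw [hN]; positivity⟩
  have hN4 : 4 ≤ N := by
    rw [hN]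
    calc 4 = 2 ^ 2 := by norm_num
      _ ≤ 2 ^ n := Nat.pow_le_pow_right (by norm_num) hn
  have hm0 : m ≠ 0 := by
    rintro rfl
    exact (Nat.not_odd_iff_even.mpr (by decide : Even 0)) hm
  have h2N : 2 * N = 2 ^ (n + 1) := by rw [hN, pow_succ]; ring
  have hφ : Nat.totient (2 * N) = 2 ^ n := by
    rw [h2N, Nat.totient_prime_pow Nat.prime_two (Nat.succ_pos n)]
    simp
  -- Step 1
  have h1 : ∃ j, β (a 1) = a j := by
    rcases hx : β (a 1) with j | j
    · exact ⟨j, rfl⟩
    · exfalso
      have ho : orderOf (β (a (1 : ZMod (2 * N)))) = orderOf (a (1 : ZMod (2 * N))) :=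
        MulEquiv.orderOf_eq β _
      rw [hx, orderOf_xa, orderOf_a_one] at ho
      omega
  obtain ⟨j, hj⟩ := h1
  have hpow : ∀ (i : ZMod (2 * N)) (k : ℕ),
      (a i : QuaternionGroup N) ^ k = a ((k : ZMod (2 * N)) * i) := by
    intro i k
    induction k with
    | zero => simp [a_zero]
    | succ k ih =>
      rw [pow_succ, ih, a_mul_a]
      congr 1
      push_cast
      ring
  -- Step 2
  have h2 : ∀ i : ZMod (2 * N), β (a i) = a (j * i) := by
    intro i
    have hi : (a i : QuaternionGroup N) = a 1 ^ i.val := by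
      rw [a_one_pow, ZMod.natCast_zmod_val]
    rw [hi, map_pow, hj, hpow, ZMod.natCast_zmod_val, mul_comm]
  -- Step 3
  have h3 : ∀ r : ℕ, (β ^ r) (a 1) = a (j ^ r) := by
    intro r
    induction r with
    | zero => simp
    | succ r ih =>
      rw [pow_succ', MulAut.mul_apply, ih, h2, pow_succ']
  have hjm : j ^ m = 1 := by
    have := h3 m
    rw [hβ, MulAut.one_apply] at this
    exact (a.inj this).symm
  -- Step 4
  have hj1 : j = 1 := by
    let u : (ZMod (2 * N))ˣ := Units.ofPowEqOne j m hjm hm0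
    have hu : u ^ m = 1 := Units.pow_ofPowEqOne hjm hm0
    have ho1 : orderOf u ∣ m := orderOf_dvd_of_pow_eq_one hu
    have ho2 : orderOf u ∣ Fintype.card (ZMod (2 * N))ˣ := orderOf_dvd_card
    rw [ZMod.card_units_eq_totient, hφ] at ho2
    obtain ⟨i, -, hi⟩ := (Nat.dvd_prime_pow Nat.prime_two).mp ho2
    have hi0 : i = 0 := by
      by_contra hne
      have h4 : 2 ∣ orderOf u := by
        rw [hi]
        exact dvd_pow_self 2 hne
      have h5 : 2 ∣ m := dvd_trans h4 ho1
      exact (Nat.not_even_iff_odd.mpr hm) (even_iff_two_dvd.mpr h5)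
    rw [hi0, pow_zero] at hi
    have hu1 : u = 1 := orderOf_eq_one_iff.mp hi
    have : (u : ZMod (2 * N)) = 1 := by rw [hu1]; rfl
    exact this
  subst hj1
  have h2' : ∀ i : ZMod (2 * N), β (a i) = a i := by
    intro i
    rw [h2, one_mul]
  -- Step 5
  have h5 : ∃ c, β (xa 0) = xa c := by
    rcases hx : β (xa 0) with i | c
    · exfalso
      have : β (xa (0 : ZMod (2 * N))) = β (a i) := by rw [hx, h2']
      have := β.injective this
      cases this
    · exact ⟨c, rfl⟩
  obtain ⟨c, hc⟩ := h5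
  -- Step 6
  have h6 : ∀ i : ZMod (2 * N), β (xa i) = xa (c + i) := by
    intro i
    have hi : (xa i : QuaternionGroup N) = xa 0 * a i := by
      rw [xa_mul_a, zero_add]
    rw [hi, map_mul, hc, h2', xa_mul_a]
  -- Step 7
  have h7 : ∀ r : ℕ, (β ^ r) (xa 0) = xa ((r : ZMod (2 * N)) * c) := by
    intro r
    induction r with
    | zero => simp
    | succ r ih =>
      rw [pow_succ', MulAut.mul_apply, ih, h6]
      congr 1
      push_cast
      ring
  have hmc : (m : ZMod (2 * N)) * c = 0 := by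
    have := h7 m
    rw [hβ, MulAut.one_apply] at this
    exact (xa.inj this).symm
  have hc0 : c = 0 := by
    have hcop : Nat.Coprime m (2 * N) := by
      rw [h2N]
      apply Nat.Coprime.pow_right
      exact Nat.coprime_two_right.mpr hm
    have hunit : IsUnit (m : ZMod (2 * N)) := (ZMod.isUnit_iff_coprime m (2 * N)).mpr hcop
    exact (hunit.mul_right_eq_zero).mp hmc
  subst hc0
  -- Step 8
  ext x
  rcases x with i | i
  · rw [h2', MulAut.one_apply]
  · rw [h6, zero_add, MulAut.one_apply]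

/-- An automorphism of odd order of a generalised quaternion group of order at least `16`
is trivial. -/
theorem aut_quaternion_trivial (n : ℕ) (hn : 2 ≤ n) (β : MulAut (QuaternionGroup (2 ^ n)))
    {m : ℕ} (hm : Odd m) (hβ : β ^ m = 1) : β = 1 :=
  aut_quaternion_trivial' (2 ^ n) n rfl hn β hm hβ

end Cfsg.Agent.Lib.Helper3.SL
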