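import Mathlib
import Cfsg.Agent.Lib.Helper3.SL2
import Cfsg.Agent.Lib.Helper1.Rk4
import Cfsg.Agent.Lib.Lead.UniqueP

set_option autoImplicit false

namespace Cfsg.Agent.Lib.Helper3.SL

open Cfsg.Agent.Lib.Helper1 Cfsg.Agent.Lib.Helper1.Rk
open Cfsg.Agent.Lib.Lead.UniqueP

universe u

theorem aut_pow_fix {T : Type*} [Group T] (α : MulAut T) (t : T) (h : α t = t) (r : ℕ) :
    (α ^ r) t = t := by
  induction r with
  | zero => simp
  | succ r ih => rw [pow_succ, MulAut.mul_apply, h, ih]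

/-- Arithmetic behind the small case. -/
theorem small_arith {p a b : ℕ} (hp : p.Prime) (hp2 : p ≠ 2) (ha : a ∣ 8) (hb : b ∣ a)
    (hb1 : b ≠ 1) (hba : b ≠ a) (hmod : a ≡ b [MOD p]) : p = 3 ∧ a = 8 ∧ b = 2 := by
  have h8 : (8 : ℕ) = 2 ^ 3 := by norm_num
  rw [h8] at ha
  obtain ⟨i, hi, rfl⟩ := (Nat.dvd_prime_pow Nat.prime_two).mp ha
  obtain ⟨l, hl, rfl⟩ := (Nat.dvd_prime_pow Nat.prime_two).mp hb
  have hle : 2 ^ l ≤ 2 ^ i := Nat.pow_le_pow_right (by norm_num) hl
  have hdvd : p ∣ 2 ^ i - 2 ^ l := (Nat.modEq_iff_dvd' hle).mp hmod.symm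
  have hp2' : ¬ p ∣ 2 := by
    intro h
    exact hp2 ((Nat.prime_dvd_prime_iff_eq hp Nat.prime_two).mp h)
  have key : ∀ d : ℕ, p ∣ d → d = 2 ∨ d = 4 ∨ d = 6 → (d = 6 ∧ p = 3) := by
    intro d hd hcases
    rcases hcases with rfl | rfl | rfl
    · exact absurd hd hp2'
    · have h4 : p ∣ 2 * 2 := by simpa using hd
      rcases (Nat.Prime.dvd_mul hp).mp h4 with h | h <;> exact absurd h hp2'
    · have h6 : p ∣ 2 * 3 := by simpa using hd
      rcases (Nat.Prime.dvd_mul hp).mp h6 with h | h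
      · exact absurd h hp2'
      · exact ⟨rfl, (Nat.prime_dvd_prime_iff_eq hp Nat.prime_three).mp h⟩
  interval_cases i <;> interval_cases l <;>
    first
    | (exfalso; exact hb1 rfl)
    | (exfalso; exact hba rfl)
    | (exfalso; omega)
    | skip
  · -- (2,1): 4 - 2 = 2
    have := key (2 ^ 2 - 2 ^ 1) hdvd (by norm_num)
    norm_num at this
  · -- (3,1): 8 - 2 = 6
    have := key (2 ^ 3 - 2 ^ 1) hdvd (by norm_num)
    exact ⟨this.2, by norm_num, by norm_num⟩
  · -- (3,2): 8 - 4 = 4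
    have := key (2 ^ 3 - 2 ^ 2) hdvd (by norm_num)
    norm_num at this

/-- Small case: a `p`-automorphism (`p` odd) of a group of order dividing `8` fixing a
nontrivial element is trivial, or `p = 3`, the order is `8` and the fixed points have order `2`. -/
theorem small_aut_dichotomy {T : Type u} [Group T] [Finite T] (hcard : Nat.card T ∣ 8)
    {p : ℕ} [hp : Fact p.Prime] (hp2 : p ≠ 2) (α : MulAut T) (k : ℕ) (hα : α ^ (p ^ k) = 1)
    (z : T) (hz : z ≠ 1) (hαz : α z = z) :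
    α = 1 ∨ (p = 3 ∧ Nat.card T = 8 ∧ ∀ t, α t = t → t = 1 ∨ t = z) := by
  by_cases h1 : α = 1
  · exact Or.inl h1
  right
  have ho : orderOf α ∣ p ^ k := orderOf_dvd_of_pow_eq_one hα
  obtain ⟨j, -, hj⟩ := (Nat.dvd_prime_pow hp.out).mp ho
  have hj0 : j ≠ 0 := by
    rintro rfl
    rw [pow_zero] at hj
    exact h1 (orderOf_eq_one_iff.mp hj)
  let c : MulAut T := α ^ (p ^ (j - 1))
  have hcp : c ^ p = 1 := by
    show (α ^ (p ^ (j - 1))) ^ p = 1
    rw [← pow_mul, ← pow_succ, Nat.sub_add_cancel (Nat.one_le_iff_ne_zero.mpr hj0), ← hj]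
    exact pow_orderOf_eq_one α
  have hc1 : c ≠ 1 := by
    intro h
    have h2 : orderOf α ∣ p ^ (j - 1) := orderOf_dvd_of_pow_eq_one h
    rw [hj] at h2
    have := (Nat.pow_dvd_pow_iff_le_right hp.out.one_lt).mp h2
    omega
  have hmod := card_modEq_card_fixedSub c hcp
  have hzF : z ∈ fixedSub c := aut_pow_fix α z hαz _
  have hb : Nat.card (fixedSub c) ∣ Nat.card T := Subgroup.card_subgroup_dvd_card _
  have hb1 : Nat.card (fixedSub c) ≠ 1 := by
    intro h
    have : fixedSub c = ⊥ := Subgroup.card_eq_one.mp h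
    rw [this, Subgroup.mem_bot] at hzF
    exact hz hzF
  have hba : Nat.card (fixedSub c) ≠ Nat.card T := by
    intro h
    have htop : fixedSub c = ⊤ := (Subgroup.card_eq_iff_eq_top _).mp h
    apply hc1
    ext t
    have : t ∈ fixedSub c := by rw [htop]; exact Subgroup.mem_top t
    exact this
  obtain ⟨hp3, h8, h2⟩ := small_arith hp.out hp2 hcard hb hb1 hba hmod
  refine ⟨hp3, h8, ?_⟩
  intro t ht
  have htF : t ∈ fixedSub c := aut_pow_fix α t ht _
  obtain ⟨y, -, hy⟩ := (Nat.card_eq_two_iff' (1 : ↥(fixedSub c))).mp h2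
  by_cases ht1 : t = 1
  · exact Or.inl ht1
  right
  have e1 : (⟨t, htF⟩ : ↥(fixedSub c)) = y := hy _ (fun h => ht1 (congrArg Subtype.val h))
  have e2 : (⟨z, hzF⟩ : ↥(fixedSub c)) = y := hy _ (fun h => hz (congrArg Subtype.val h))
  exact congrArg Subtype.val (e1.trans e2.symm)

/-- **Lemma L.** A `p`-automorphism (`p` odd) of a `2`-group with a unique involution is
trivial, or `p = 3`, the group has order `8` and the fixed points are `{1, z}`. -/
theorem odd_aut_dichotomy {T : Type u} [Group T] [Finite T] (hT : IsPGroup 2 T) (hu : UOP 2 T)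
    {p : ℕ} [hp : Fact p.Prime] (hp2 : p ≠ 2) (α : MulAut T) (k : ℕ) (hα : α ^ (p ^ k) = 1)
    (z : T) (hz : z ≠ 1) (hαz : α z = z) :
    α = 1 ∨ (p = 3 ∧ Nat.card T = 8 ∧ ∀ t, α t = t → t = 1 ∨ t = z) := by
  haveI : Fact (Nat.Prime 2) := ⟨Nat.prime_two⟩
  obtain ⟨n, hn⟩ := IsPGroup.iff_card.mp hT
  by_cases hn3 : n ≤ 3
  · apply small_aut_dichotomy _ hp2 α k hα z hz hαz
    rw [hn]
    have : (8 : ℕ) = 2 ^ 3 := by norm_num
    rw [this]
    exact pow_dvd_pow 2 hn3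
  left
  have hodd : Odd (p ^ k) := (hp.out.odd_of_ne_two hp2).pow
  rcases cyclic_or_quaternion 2 hT hu with hc | ⟨-, q, ⟨φ⟩⟩
  · haveI := hc
    exact aut_cyclic_two_group_trivial hT α hodd hα
  · have hcardQ : Nat.card T = 4 * 2 ^ q := by
      rw [Nat.card_congr φ.toEquiv]
      haveI : NeZero (2 ^ q) := ⟨by positivity⟩
      rw [Nat.card_eq_fintype_card, QuaternionGroup.card]
    have hq : 2 ≤ q := by
      rw [hn] at hcardQ
      have h4 : (4 : ℕ) * 2 ^ q = 2 ^ (q + 2) := by rw [pow_add]; ring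
      rw [h4] at hcardQ
      have := Nat.pow_right_injective (le_refl 2) hcardQ
      omega
    let β : MulAut (QuaternionGroup (2 ^ q)) := MulAut.congr φ α
    have hβ : β ^ (p ^ k) = 1 := by
      show (MulAut.congr φ α) ^ (p ^ k) = 1
      rw [← map_pow, hα, map_one]
    have hβ1 : β = 1 := aut_quaternion_trivial q hq β hodd hβ
    have : MulAut.congr φ α = MulAut.congr φ 1 := by rw [map_one]; exact hβ1
    exact (MulAut.congr φ).injective this

/-- Version for an invariant subgroup `T` of `W` and an automorphism of `W`. -/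
theorem odd_aut_dichotomy_subgroup {W : Type u} [Group W] [Finite W] (T : Subgroup W)
    (hT : IsPGroup 2 T) (hu : UOP 2 T) {p : ℕ} [hp : Fact p.Prime] (hp2 : p ≠ 2)
    (e : MulAut W) (heT : ∀ t ∈ T, e t ∈ T) (k : ℕ) (he : e ^ (p ^ k) = 1)
    (z : W) (hzT : z ∈ T) (hz : z ≠ 1) (hez : e z = z) :
    (∀ t ∈ T, e t = t) ∨ (p = 3 ∧ Nat.card T = 8 ∧ ∀ t ∈ T, e t = t → t = 1 ∨ t = z) := by
  let α : MulAut T := restrictAut e T heT
  have hα : α ^ (p ^ k) = 1 := by
    ext x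
    rw [restrictAut_pow_apply, he]
    rfl
  have hz' : (⟨z, hzT⟩ : T) ≠ 1 := fun h => hz (congrArg Subtype.val h)
  have hαz : α ⟨z, hzT⟩ = ⟨z, hzT⟩ := Subtype.ext hez
  rcases odd_aut_dichotomy hT hu hp2 α k hα ⟨z, hzT⟩ hz' hαz with h | ⟨h3, h8, hfix⟩
  · left
    intro t ht
    have : α ⟨t, ht⟩ = ⟨t, ht⟩ := by rw [h]; rfl
    exact congrArg Subtype.val this
  · right
    refine ⟨h3, h8, ?_⟩
    intro t ht hett
    rcases hfix ⟨t, ht⟩ (Subtype.ext hett) with h | h
    · exact Or.inl (congrArg Subtype.val h)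
    · exact Or.inr (congrArg Subtype.val h)

end Cfsg.Agent.Lib.Helper3.SL
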