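import Mathlib
import Cfsg.Agent.Lib.Helper3.SL1
import Cfsg.Agent.Lib.Helper3.SL3

set_option autoImplicit false

namespace Cfsg.Agent.Lib.Helper3.SL

open Cfsg.Agent.Lib.Helper1 Cfsg.Agent.Lib.Helper1.Rk
open Cfsg.Agent.Lib.Lead.UniqueP

universe u

variable {W : Type u} [Group W]

/-- The common fixed points of a group of automorphisms. -/
def fixAll (E : Subgroup (MulAut W)) : Subgroup W where
  carrier := {w | ∀ e ∈ E, e w = w}
  mul_mem' := by
    intro a b ha hb e he
    rw [map_mul, ha e he, hb e he]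
  one_mem' := fun e _ => map_one e
  inv_mem' := by
    intro a ha e he
    rw [map_inv, ha e he]

theorem mem_fixAll {E : Subgroup (MulAut W)} {w : W} : w ∈ fixAll E ↔ ∀ e ∈ E, e w = w := Iff.rfl

section basic

variable {p : ℕ} [hp : Fact p.Prime] (E : Subgroup (MulAut W)) (hE : IsPGroup p E)

include hE in
theorem exists_pow_eq_one {e : MulAut W} (he : e ∈ E) : ∃ k : ℕ, e ^ (p ^ k) = 1 := by
  obtain ⟨k, hk⟩ := hE ⟨e, he⟩
  refine ⟨k, ?_⟩
  have := congrArg Subtype.val hk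
  simpa using this

theorem fixedSub_invariant [hab : IsMulCommutative E] {e e' : MulAut W} (he : e ∈ E)
    (he' : e' ∈ E) : ∀ t ∈ fixedSub e, e' t ∈ fixedSub e := by
  intro t ht
  rw [mem_fixedSub] at ht ⊢
  have hc : e * e' = e' * e := by
    have := hab.is_comm.comm (⟨e, he⟩ : E) ⟨e', he'⟩
    exact congrArg Subtype.val this
  calc e (e' t) = (e * e') t := rfl
    _ = (e' * e) t := by rw [hc]
    _ = e' (e t) := rfl
    _ = e' t := by rw [ht]

theorem uop_fixedSub
    (hfix : ∀ e ∈ E, e ≠ 1 → ∀ x y : W, orderOf x = 2 → orderOf y = 2 → e x = x → e y = y → x = y)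
    {e : MulAut W} (he : e ∈ E) (hne : e ≠ 1) : UOP 2 ↥(fixedSub e) := by
  intro x y hx hy hx1
  by_cases hy1 : y = 1
  · rw [hy1]; exact one_mem _
  have ox : orderOf x = 2 := orderOf_eq_prime hx hx1
  have oy : orderOf y = 2 := orderOf_eq_prime hy hy1
  have ox' : orderOf (x : W) = 2 := by rw [Subgroup.orderOf_coe]; exact ox
  have oy' : orderOf (y : W) = 2 := by rw [Subgroup.orderOf_coe]; exact oy
  have := hfix e he hne x y ox' oy' x.2 y.2
  have hxy : x = y := Subtype.ext this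
  rw [← hxy]
  exact Subgroup.mem_zpowers x

end basic

section main

variable [Finite W] (hW : IsPGroup 2 W) {p : ℕ} [hp : Fact p.Prime] (hp2 : p ≠ 2)
  (E : Subgroup (MulAut W)) (hE : IsPGroup p E) [hab : IsMulCommutative E] (hnc : ¬ IsCyclic E)
  (hfix : ∀ e ∈ E, e ≠ 1 → ∀ x y : W, orderOf x = 2 → orderOf y = 2 → e x = x → e y = y → x = y)

include hW hE hp2 in
theorem coprime_card : (Nat.card E).Coprime (Nat.card W) := by
  haveI : Fact (Nat.Prime 2) := ⟨Nat.prime_two⟩
  haveI : Finite E := Finite.of_injective _ Subtype.val_injective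
  obtain ⟨a, ha⟩ := IsPGroup.iff_card.mp hE
  obtain ⟨b, hb⟩ := IsPGroup.iff_card.mp hW
  rw [ha, hb]
  apply Nat.Coprime.pow
  exact (Nat.coprime_primes hp.out Nat.prime_two).mpr hp2

include hnc in
theorem exists_ne_one : ∃ e ∈ E, e ≠ 1 := by
  by_contra h
  push Not at h
  apply hnc
  haveI : Subsingleton E := ⟨fun a b => Subtype.ext ((h a a.2).trans (h b b.2).symm)⟩
  exact isCyclic_of_subsingleton

include hW hE hp2 hnc hfix in
/-- Step 1: the central involution. -/
theorem exists_central_involution :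
    ∃ z : W, z ≠ 1 ∧ z ^ 2 = 1 ∧ z ∈ Subgroup.center W ∧ (∀ e ∈ E, e z = z) ∧
      ∀ x ∈ Subgroup.center W, x ^ 2 = 1 → x = 1 ∨ x = z := by
  classical
  haveI : Fact (Nat.Prime 2) := ⟨Nat.prime_two⟩
  obtain ⟨e₁, he₁, hne₁⟩ := exists_ne_one E hnc
  -- W is nontrivial
  haveI : Nontrivial W := by
    by_contra hsub
    rw [not_nontrivial_iff_subsingleton] at hsub
    apply hne₁
    ext w
    exact Subsingleton.elim _ _
  -- the subgroup V of central elements of order at most two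
  let V : Subgroup W :=
    { carrier := {x | x ∈ Subgroup.center W ∧ x ^ 2 = 1}
      mul_mem' := by
        rintro a b ⟨ha, ha2⟩ ⟨hb, hb2⟩
        refine ⟨Subgroup.mul_mem _ ha hb, ?_⟩
        have hc : a * b = b * a := (Subgroup.mem_center_iff.mp ha b).symm
        rw [(show Commute a b from hc).mul_pow 2, ha2, hb2, one_mul]
      one_mem' := ⟨Subgroup.one_mem _, one_pow 2⟩
      inv_mem' := by
        rintro a ⟨ha, ha2⟩
        exact ⟨Subgroup.inv_mem _ ha, by rw [inv_pow, ha2, inv_one]⟩ }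
  have hVmem : ∀ x, x ∈ V ↔ x ∈ Subgroup.center W ∧ x ^ 2 = 1 := fun x => Iff.rfl
  have hVinv : ∀ e ∈ E, ∀ u ∈ V, e u ∈ V := by
    intro e _ u hu
    rw [hVmem] at hu ⊢
    refine ⟨?_, by rw [← map_pow, hu.2, map_one]⟩
    rw [Subgroup.mem_center_iff]
    intro g
    have := Subgroup.mem_center_iff.mp hu.1 (e.symm g)
    have h2 := congrArg e this
    rw [map_mul, map_mul, MulEquiv.apply_symm_apply] at h2
    exact h2
  -- V is fixed by E
  have hVfix : V ≤ fixAll E := by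
    apply ext_coprime_gen E hnc (coprime_card hW hp2 E hE) V hVinv
    intro e he hne t ht e' he'
    obtain ⟨htV, hte⟩ := ht
    by_cases ht1 : t = 1
    · rw [ht1, map_one]
    have ot : orderOf t = 2 := orderOf_eq_prime ((hVmem t).mp htV).2 ht1
    have ot' : orderOf (e' t) = 2 := by rw [MulEquiv.orderOf_eq]; exact ot
    have hfe : e (e' t) = e' t := fixedSub_invariant E he he' t hte
    exact hfix e he hne (e' t) t ot' ot hfe hte
  -- existence of a central involution
  obtain ⟨x, hx, hx1⟩ : ∃ x ∈ Subgroup.center W, x ≠ 1 := by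
    have := hW.bot_lt_center
    obtain ⟨x, hx, hxb⟩ := SetLike.exists_of_lt this
    exact ⟨x, hx, fun h => hxb (by rw [h]; exact Subgroup.one_mem _)⟩
  obtain ⟨s, hs⟩ := IsPGroup.iff_orderOf.mp hW x
  have hs0 : s ≠ 0 := by
    rintro rfl
    rw [pow_zero] at hs
    exact hx1 (orderOf_eq_one_iff.mp hs)
  let z₀ : W := x ^ (2 ^ (s - 1))
  have hz2 : z₀ ^ 2 = 1 := by
    show (x ^ (2 ^ (s - 1))) ^ 2 = 1
    rw [← pow_mul, ← pow_succ, Nat.sub_add_cancel (Nat.one_le_iff_ne_zero.mpr hs0), ← hs]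
    exact pow_orderOf_eq_one x
  have hz1 : z₀ ≠ 1 := by
    intro h
    have h2 : orderOf x ∣ 2 ^ (s - 1) := orderOf_dvd_of_pow_eq_one h
    rw [hs] at h2
    have := (Nat.pow_dvd_pow_iff_le_right (by norm_num : 1 < 2)).mp h2
    omega
  have hzc : z₀ ∈ Subgroup.center W := Subgroup.pow_mem _ hx _
  have hzV : z₀ ∈ V := (hVmem z₀).mpr ⟨hzc, hz2⟩
  have hzE : ∀ e ∈ E, e z₀ = z₀ := fun e he => hVfix hzV e he
  refine ⟨z₀, hz1, hz2, hzc, hzE, ?_⟩
  intro y hyc hy2
  by_cases hy1 : y = 1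
  · exact Or.inl hy1
  right
  have hyV : y ∈ V := (hVmem y).mpr ⟨hyc, hy2⟩
  have oy : orderOf y = 2 := orderOf_eq_prime hy2 hy1
  have oz : orderOf z₀ = 2 := orderOf_eq_prime hz2 hz1
  exact hfix e₁ he₁ hne₁ y z₀ oy oz (hVfix hyV e₁ he₁) (hzE e₁ he₁)

end main

end Cfsg.Agent.Lib.Helper3.SL
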