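import Mathlib
import Cfsg.Agent.Lib.Helper3.SL4

set_option autoImplicit false

namespace Cfsg.Agent.Lib.Helper3.SL

open Cfsg.Agent.Lib.Helper1 Cfsg.Agent.Lib.Helper1.Rk
open Cfsg.Agent.Lib.Lead.UniqueP

universe u

variable {W : Type u} [Group W]

/-- `e ∈ E` is *active* when `E` acts nontrivially on the fixed points of `e`. -/
def Active (E : Subgroup (MulAut W)) (e : MulAut W) : Prop :=
  e ∈ E ∧ e ≠ 1 ∧ ¬ fixedSub e ≤ fixAll E

section steps

variable [Finite W] (hW : IsPGroup 2 W) {p : ℕ} [hp : Fact p.Prime] (hp2 : p ≠ 2)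
  (E : Subgroup (MulAut W)) (hE : IsPGroup p E) [hab : IsMulCommutative E] (hnc : ¬ IsCyclic E)
  (hfix : ∀ e ∈ E, e ≠ 1 → ∀ x y : W, orderOf x = 2 → orderOf y = 2 → e x = x → e y = y → x = y)
  (z : W) (hz1 : z ≠ 1) (hz2 : z ^ 2 = 1) (hzE : ∀ e ∈ E, e z = z)

include hW hp2 hE hfix hz1 hzE in
theorem local_dichotomy {e e' : MulAut W} (he : e ∈ E) (hne : e ≠ 1) (he' : e' ∈ E) :
    (∀ t ∈ fixedSub e, e' t = t) ∨
      (p = 3 ∧ Nat.card (fixedSub e) = 8 ∧ ∀ t ∈ fixedSub e, e' t = t → t = 1 ∨ t = z) := by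
  obtain ⟨k, hk⟩ := exists_pow_eq_one E hE he'
  exact odd_aut_dichotomy_subgroup (fixedSub e) (hW.to_subgroup _) (uop_fixedSub E hfix he hne)
    hp2 e' (fixedSub_invariant E he he') k hk z (hzE e he) hz1 (hzE e' he')

include hW hp2 hE hfix hz1 hzE in
theorem active_card {e : MulAut W} (h : Active E e) : p = 3 ∧ Nat.card (fixedSub e) = 8 := by
  obtain ⟨he, hne, hnot⟩ := h
  by_contra hcon
  apply hnot
  intro t ht e' he'
  rcases local_dichotomy hW hp2 E hE hfix z hz1 hzE he hne he' with h1 | ⟨h3, h8, -⟩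
  · exact h1 t ht
  · exact absurd ⟨h3, h8⟩ hcon

include hW hp2 hE hnc in
theorem exists_active : ∃ e, Active E e := by
  by_contra hcon
  have hall : ∀ e ∈ E, e ≠ 1 → fixedSub e ≤ fixAll E := by
    intro e he hne
    by_contra h
    exact hcon ⟨e, he, hne, h⟩
  have htop : (⊤ : Subgroup W) ≤ fixAll E :=
    ext_coprime_gen E hnc (coprime_card hW hp2 E hE) ⊤ (fun _ _ _ _ => Subgroup.mem_top _)
      (fixAll E) (fun e he hne => inf_le_right.trans (hall e he hne))
  obtain ⟨e₁, he₁, hne₁⟩ := exists_ne_one E hnc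
  apply hne₁
  ext w
  exact htop (Subgroup.mem_top w) e₁ he₁

include hW hp2 hE hfix hz1 hzE in
theorem fixAll_subset {e₀ : MulAut W} (h₀ : Active E e₀) :
    ∀ w ∈ fixAll E, w = 1 ∨ w = z := by
  obtain ⟨he₀, hne₀, hnot⟩ := h₀
  obtain ⟨t, ht, htn⟩ := SetLike.not_le_iff_exists.mp hnot
  rw [mem_fixAll] at htn
  push Not at htn
  obtain ⟨e', he', het⟩ := htn
  rcases local_dichotomy hW hp2 E hE hfix z hz1 hzE he₀ hne₀ he' with h1 | ⟨-, -, h3⟩
  · exact absurd (h1 t ht) het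
  · intro w hw
    exact h3 w (hw e₀ he₀) (hw e' he')

include hW hp2 hE hnc hfix hz1 hzE in
theorem exists_second_active {e₀ : MulAut W} (h₀ : Active E e₀) :
    ∃ e₁, Active E e₁ ∧ fixedSub e₁ ≠ fixedSub e₀ := by
  by_contra hcon
  push Not at hcon
  have htop : (⊤ : Subgroup W) ≤ fixedSub e₀ := by
    apply ext_coprime_gen E hnc (coprime_card hW hp2 E hE) ⊤ (fun _ _ _ _ => Subgroup.mem_top _)
    intro e he hne
    refine inf_le_right.trans ?_
    by_cases hact : fixedSub e ≤ fixAll E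
    · intro t ht
      exact hact ht e₀ h₀.1
    · rw [hcon e ⟨he, hne, hact⟩]
  apply h₀.2.1
  ext w
  exact htop (Subgroup.mem_top w)

include hW hp2 hE hfix hz1 hzE in
theorem fix_pointwise_of_fix_one {e : MulAut W} (h : Active E e) {x : W} (hx : x ∈ fixedSub e)
    (hx1 : x ≠ 1) (hxz : x ≠ z) {e' : MulAut W} (he' : e' ∈ E) (hfx : e' x = x) :
    ∀ t ∈ fixedSub e, e' t = t := by
  rcases local_dichotomy hW hp2 E hE hfix z hz1 hzE h.1 h.2.1 he' with h1 | ⟨-, -, h3⟩
  · exact h1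
  · rcases h3 x hx hfx with h | h
    · exact absurd h hx1
    · exact absurd h hxz

include hW hp2 hE hfix hz1 hz2 hzE in
theorem exists_outside {e : MulAut W} (h : Active E e) :
    ∃ x ∈ fixedSub e, x ≠ 1 ∧ x ≠ z := by
  by_contra hcon
  push Not at hcon
  have hle : fixedSub e ≤ Subgroup.zpowers z := by
    intro x hx
    by_cases hx1 : x = 1
    · rw [hx1]; exact one_mem _
    · rw [hcon x hx hx1]; exact Subgroup.mem_zpowers z
  have h8 := (active_card hW hp2 E hE hfix z hz1 hzE h).2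
  have hc := Subgroup.card_le_of_le hle
  have oz : orderOf z = 2 := orderOf_eq_prime hz2 hz1
  rw [Nat.card_zpowers, oz, h8] at hc
  omega

include hW hp2 hE hfix hz1 hzE in
theorem stabilizer_index_le {e : MulAut W} (h : Active E e) {x : W} (hx : x ∈ fixedSub e) :
    (MulAction.stabilizer E x).index ≤ 3 := by
  haveI : Finite E := Finite.of_injective _ Subtype.val_injective
  obtain ⟨hp3, h8⟩ := active_card hW hp2 E hE hfix z hz1 hzE h
  have h1 : (MulAction.stabilizer E x).index = (MulAction.orbit E x).ncard :=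
    MulAction.index_stabilizer E x
  have hsub : MulAction.orbit E x ⊆ (fixedSub e : Set W) := by
    rintro _ ⟨e', rfl⟩
    exact fixedSub_invariant E h.1 e'.2 x hx
  have h2 : (MulAction.orbit E x).ncard ≤ (fixedSub e : Set W).ncard :=
    Set.ncard_le_ncard hsub (Set.toFinite _)
  have h3 : (fixedSub e : Set W).ncard = 8 := by
    rw [← Nat.card_coe_set_eq]
    exact h8
  have h4 : (MulAction.stabilizer E x).index ∣ Nat.card E := Subgroup.index_dvd_card _
  obtain ⟨a, ha⟩ := IsPGroup.iff_card.mp hE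
  rw [ha, hp3] at h4
  obtain ⟨b, -, hb⟩ := (Nat.dvd_prime_pow Nat.prime_three).mp h4
  have hle8 : (MulAction.stabilizer E x).index ≤ 8 := by rw [h1]; omega
  rw [hb] at hle8 ⊢
  have hb1 : b ≤ 1 := by
    by_contra hb2
    have : 3 ^ 2 ≤ 3 ^ b := Nat.pow_le_pow_right (by norm_num) (by omega)
    omega
  calc 3 ^ b ≤ 3 ^ 1 := Nat.pow_le_pow_right (by norm_num) hb1
    _ = 3 := by norm_num

include hW hp2 hE hnc hfix hz1 hz2 hzE in
/-- Step 4: `p = 3` and `E` has order `9`. -/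
theorem card_E_eq_nine : p = 3 ∧ Nat.card E = 9 := by
  haveI : Finite E := Finite.of_injective _ Subtype.val_injective
  obtain ⟨e₀, h₀⟩ := exists_active hW hp2 E hE hnc
  obtain ⟨e₁, h₁, hne⟩ := exists_second_active hW hp2 E hE hnc hfix z hz1 hzE h₀
  obtain ⟨hp3, h80⟩ := active_card hW hp2 E hE hfix z hz1 hzE h₀
  obtain ⟨-, h81⟩ := active_card hW hp2 E hE hfix z hz1 hzE h₁
  refine ⟨hp3, ?_⟩
  obtain ⟨x₀, hx₀, hx₀1, hx₀z⟩ := exists_outside hW hp2 E hE hfix z hz1 hz2 hzE h₀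
  obtain ⟨x₁, hx₁, hx₁1, hx₁z⟩ := exists_outside hW hp2 E hE hfix z hz1 hz2 hzE h₁
  have hi0 := stabilizer_index_le hW hp2 E hE hfix z hz1 hzE h₀ hx₀
  have hi1 := stabilizer_index_le hW hp2 E hE hfix z hz1 hzE h₁ hx₁
  -- the stabilizers meet trivially
  have hbot : MulAction.stabilizer E x₀ ⊓ MulAction.stabilizer E x₁ = ⊥ := by
    rw [eq_bot_iff]
    rintro ⟨e', he'⟩ ⟨hs0, hs1⟩
    rw [Subgroup.mem_bot]
    by_contra hne'
    have hne'' : e' ≠ 1 := fun h => hne' (Subtype.ext h)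
    have hf0 : e' x₀ = x₀ := hs0
    have hf1 : e' x₁ = x₁ := hs1
    have hp0 := fix_pointwise_of_fix_one hW hp2 E hE hfix z hz1 hzE h₀ hx₀ hx₀1 hx₀z he' hf0
    have hp1 := fix_pointwise_of_fix_one hW hp2 E hE hfix z hz1 hzE h₁ hx₁ hx₁1 hx₁z he' hf1
    have hle0 : fixedSub e₀ ≤ fixedSub e' := fun t ht => hp0 t ht
    have hle1 : fixedSub e₁ ≤ fixedSub e' := fun t ht => hp1 t ht
    have hact : Active E e' := by
      refine ⟨he', hne'', ?_⟩
      intro hle
      exact h₀.2.2 (hle0.trans hle)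
    obtain ⟨-, h8'⟩ := active_card hW hp2 E hE hfix z hz1 hzE hact
    have e0 : fixedSub e₀ = fixedSub e' :=
      Subgroup.eq_of_le_of_card_ge hle0 (by rw [h80, h8'])
    have e1 : fixedSub e₁ = fixedSub e' :=
      Subgroup.eq_of_le_of_card_ge hle1 (by rw [h81, h8'])
    exact hne (e1.trans e0.symm)
  have hle9 : Nat.card E ≤ 9 := by
    have h1 := Subgroup.index_inf_le (H := MulAction.stabilizer E x₀)
      (K := MulAction.stabilizer E x₁)
    rw [hbot, Subgroup.index_bot] at h1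
    calc Nat.card E ≤ _ := h1
      _ ≤ 3 * 3 := Nat.mul_le_mul hi0 hi1
      _ = 9 := by norm_num
  obtain ⟨a, ha⟩ := IsPGroup.iff_card.mp hE
  rw [hp3] at ha
  have ha2 : 2 ≤ a := by
    by_contra hlt
    apply hnc
    have ha' : a = 0 ∨ a = 1 := by omega
    rcases ha' with rfl | rfl
    · rw [pow_zero] at ha
      haveI : Subsingleton E := (Nat.card_eq_one_iff_unique.mp ha).1
      exact isCyclic_of_subsingleton
    · rw [pow_one] at ha
      haveI : Fact (Nat.Prime 3) := ⟨Nat.prime_three⟩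
      exact isCyclic_of_prime_card ha
  have : 3 ^ 2 ≤ 3 ^ a := Nat.pow_le_pow_right (by norm_num) ha2
  omega

end steps

end Cfsg.Agent.Lib.Helper3.SL
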