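import Mathlib
import Cfsg.Agent.Lib.Helper3.SL5
import Cfsg.Agent.Lib.Helper1.SpecialCoprime1
import Cfsg.Agent.Lib.Helper1.FrattiniP

set_option autoImplicit false

namespace Cfsg.Agent.Lib.Helper3.SL

open Cfsg.Agent.Lib.Helper1 Cfsg.Agent.Lib.Helper1.Rk
open Cfsg.Agent.Lib.Lead.UniqueP
open scoped commutatorElement

universe u

variable {W : Type u} [Group W]

/-- An automorphism of odd order acts trivially on an invariant abelian `2`-subgroup with at
most one involution. -/
theorem fix_of_abelian_uop [Finite W] (T : Subgroup W) (hT2 : IsPGroup 2 T)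
    (hTab : ∀ a ∈ T, ∀ b ∈ T, a * b = b * a) (hu : UOP 2 T)
    (e : MulAut W) (heT : ∀ t ∈ T, e t ∈ T) {m : ℕ} (hm : Odd m) (he : e ^ m = 1) :
    ∀ t ∈ T, e t = t := by
  haveI : Fact (Nat.Prime 2) := ⟨Nat.prime_two⟩
  letI : CommGroup T :=
    { (inferInstance : Group T) with
      mul_comm := fun a b => Subtype.ext (hTab a a.2 b b.2) }
  haveI : IsCyclic T := isCyclic_of_comm 2 hT2 hu
  let α : MulAut T := restrictAut e T heT
  have hα : α ^ m = 1 := by
    ext x
    rw [restrictAut_pow_apply, he]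
    rfl
  have h1 : α = 1 := aut_cyclic_two_group_trivial hT2 α hm hα
  intro t ht
  have : α ⟨t, ht⟩ = ⟨t, ht⟩ := by rw [h1]; rfl
  exact congrArg Subtype.val this

section steps

variable [Finite W] (hW : IsPGroup 2 W) {p : ℕ} [hp : Fact p.Prime] (hp2 : p ≠ 2)
  (E : Subgroup (MulAut W)) (hE : IsPGroup p E) [hab : IsMulCommutative E] (hnc : ¬ IsCyclic E)
  (hfix : ∀ e ∈ E, e ≠ 1 → ∀ x y : W, orderOf x = 2 → orderOf y = 2 → e x = x → e y = y → x = y)
  (z : W) (hz1 : z ≠ 1) (hz2 : z ^ 2 = 1) (hzE : ∀ e ∈ E, e z = z)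

theorem uop_of_le_fixedSub {e : MulAut W} (he : e ∈ E) (hne : e ≠ 1) (T : Subgroup W)
    (hT : T ≤ fixedSub e)
    (hfix : ∀ e ∈ E, e ≠ 1 → ∀ x y : W, orderOf x = 2 → orderOf y = 2 → e x = x → e y = y → x = y) :
    UOP 2 ↥T := by
  intro x y hx hy hx1
  by_cases hy1 : y = 1
  · rw [hy1]; exact one_mem _
  have ox : orderOf x = 2 := orderOf_eq_prime hx hx1
  have oy : orderOf y = 2 := orderOf_eq_prime hy hy1
  have ox' : orderOf (x : W) = 2 := by rw [Subgroup.orderOf_coe]; exact ox
  have oy' : orderOf (y : W) = 2 := by rw [Subgroup.orderOf_coe]; exact oy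
  have := hfix e he hne x y ox' oy' (hT x.2) (hT y.2)
  have hxy : x = y := Subtype.ext this
  rw [← hxy]
  exact Subgroup.mem_zpowers x

include hW hp2 hE hnc hfix hz1 hzE in
/-- Step 5a: invariant abelian subgroups are inside `⟨z⟩`. -/
theorem abelian_invariant_le (U : Subgroup W) (hU : ∀ e ∈ E, ∀ u ∈ U, e u ∈ U)
    (hUab : ∀ a ∈ U, ∀ b ∈ U, a * b = b * a) : U ≤ Subgroup.zpowers z := by
  obtain ⟨e₀, h₀⟩ := exists_active hW hp2 E hE hnc
  have hsub := fixAll_subset hW hp2 E hE hfix z hz1 hzE h₀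
  apply ext_coprime_gen E hnc (coprime_card hW hp2 E hE) U hU
  intro e he hne t ht
  have hodd : ∀ k : ℕ, Odd (p ^ k) := fun k => (hp.out.odd_of_ne_two hp2).pow
  have htfix : t ∈ fixAll E := by
    intro e' he'
    obtain ⟨k, hk⟩ := exists_pow_eq_one E hE he'
    have hinv : ∀ s ∈ U ⊓ fixedSub e, e' s ∈ U ⊓ fixedSub e := by
      intro s hs
      exact ⟨hU e' he' s hs.1, fixedSub_invariant E he he' s hs.2⟩
    exact fix_of_abelian_uop (U ⊓ fixedSub e) (hW.to_subgroup _)
      (fun a ha b hb => hUab a ha.1 b hb.1)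
      (uop_of_le_fixedSub E he hne _ inf_le_right hfix) e' hinv (hodd k) hk t ht
  rcases hsub t htfix with h | h
  · rw [h]; exact one_mem _
  · rw [h]; exact Subgroup.mem_zpowers z

include hW hp2 hE hnc hfix hz1 hzE in
theorem char_abelian_le (M : Subgroup W) (hM : M.Characteristic) (hMab : IsMulCommutative M) :
    M ≤ Subgroup.zpowers z := by
  apply abelian_invariant_le hW hp2 E hE hnc hfix z hz1 hzE M
  · intro e _ u hu
    have := Subgroup.characteristic_iff_map_eq.mp hM e
    rw [← this]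
    exact ⟨u, hu, rfl⟩
  · intro a ha b hb
    have := hMab.is_comm.comm (⟨a, ha⟩ : M) ⟨b, hb⟩
    exact congrArg Subtype.val this

include hW hp2 hE hnc hfix hz1 hzE in
/-- Step 5b: the centre is `⟨z⟩`. -/
theorem center_eq (hzc : z ∈ Subgroup.center W) : Subgroup.center W = Subgroup.zpowers z := by
  apply le_antisymm
  · exact char_abelian_le hW hp2 E hE hnc hfix z hz1 hzE _ inferInstance inferInstance
  · rw [Subgroup.zpowers_le]
    exact hzc

include hW hp2 hE hnc hfix hz1 hz2 hzE in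
/-- Step 5c/d: the commutator subgroup is `⟨z⟩`. -/
theorem commutator_eq (hzc : z ∈ Subgroup.center W) : commutator W = Subgroup.zpowers z := by
  haveI : Group.IsNilpotent W := hW.isNilpotent
  have hcen := center_eq hW hp2 E hE hnc hfix z hz1 hzE hzc
  have hle : commutator W ≤ Subgroup.zpowers z := by
    rw [← hcen]
    apply SpecialCoprime.commutator_le_center_of_char_abelian_central
    intro M hM hMab
    rw [hcen]
    exact char_abelian_le hW hp2 E hE hnc hfix z hz1 hzE M hM hMab
  have oz : orderOf z = 2 := orderOf_eq_prime hz2 hz1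
  have hne : commutator W ≠ ⊥ := by
    intro hbot
    have hcomm : ∀ a b : W, a * b = b * a := by
      intro a b
      have : ⁅a, b⁆ ∈ commutator W := by
        rw [commutator_def]
        exact Subgroup.commutator_mem_commutator (Subgroup.mem_top a) (Subgroup.mem_top b)
      rw [hbot, Subgroup.mem_bot] at this
      exact commutatorElement_eq_one_iff_mul_comm.mp this
    have htop : (⊤ : Subgroup W) ≤ Subgroup.zpowers z :=
      abelian_invariant_le hW hp2 E hE hnc hfix z hz1 hzE ⊤ (fun _ _ _ _ => Subgroup.mem_top _)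
        (fun a _ b _ => hcomm a b)
    obtain ⟨e₀, h₀⟩ := exists_active hW hp2 E hE hnc
    have h8 := (active_card hW hp2 E hE hfix z hz1 hzE h₀).2
    have hc := Subgroup.card_le_of_le ((le_top : fixedSub e₀ ≤ ⊤).trans htop)
    rw [Nat.card_zpowers, oz, h8] at hc
    omega
  apply Subgroup.eq_of_le_of_card_ge hle
  rw [Nat.card_zpowers, oz]
  have h1 : Nat.card (commutator W) ≠ 1 := fun h => hne (Subgroup.card_eq_one.mp h)
  have h0 : 0 < Nat.card (commutator W) := Nat.card_pos
  omega

include hW hp2 hE hnc hfix hz1 hz2 hzE in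
/-- Step 5e: the Frattini subgroup is `⟨z⟩`. -/
theorem frattini_eq (hzc : z ∈ Subgroup.center W) : frattini W = Subgroup.zpowers z := by
  haveI : Fact (Nat.Prime 2) := ⟨Nat.prime_two⟩
  have hcen := center_eq hW hp2 E hE hnc hfix z hz1 hzE hzc
  have hcom := commutator_eq hW hp2 E hE hnc hfix z hz1 hz2 hzE hzc
  apply le_antisymm
  · apply frattini_le_of_elementary_quotient 2 _ (le_of_eq hcom)
    intro x
    rw [← hcen, Subgroup.mem_center_iff]
    intro g
    -- c = [g, x] is central of order at most two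
    have hc : ⁅g, x⁆ ∈ Subgroup.zpowers z := by
      rw [← hcom, commutator_def]
      exact Subgroup.commutator_mem_commutator (Subgroup.mem_top g) (Subgroup.mem_top x)
    have hcc : ⁅g, x⁆ ∈ Subgroup.center W := by rw [hcen]; exact hc
    have hc2 : ⁅g, x⁆ ^ 2 = 1 := by
      obtain ⟨k, hk⟩ := Subgroup.mem_zpowers_iff.mp hc
      rw [← hk, ← zpow_natCast, ← zpow_mul, mul_comm, zpow_mul, zpow_natCast, hz2, one_zpow]
    have hgx : g * x = ⁅g, x⁆ * x * g := by
      rw [commutatorElement_def]; group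
    have hcx : ∀ y : W, y * ⁅g, x⁆ = ⁅g, x⁆ * y := fun y => (Subgroup.mem_center_iff.mp hcc y)
    obtain ⟨c, hcdef⟩ : ∃ c : W, c = ⁅g, x⁆ := ⟨_, rfl⟩
    rw [← hcdef] at hgx hcx hc2
    calc g * x ^ 2 = (g * x) * x := by rw [sq, mul_assoc]
      _ = c * x * g * x := by rw [hgx]
      _ = c * x * (g * x) := by rw [mul_assoc]
      _ = c * x * (c * x * g) := by rw [← hgx]
      _ = c * (x * c) * x * g := by simp only [mul_assoc]
      _ = c * (c * x) * x * g := by rw [hcx x]
      _ = c ^ 2 * x ^ 2 * g := by simp only [sq, mul_assoc]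
      _ = x ^ 2 * g := by rw [hc2, one_mul]
  · rw [← hcom]
    exact commutator_le_frattini_of_isPGroup 2 hW

end steps

end Cfsg.Agent.Lib.Helper3.SL
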