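import Mathlib
import Cfsg.Agent.Lib.Helper3.SL6

set_option autoImplicit false

namespace Cfsg.Agent.Lib.Helper3.SL

open Cfsg.Agent.Lib.Helper1 Cfsg.Agent.Lib.Helper1.Rk
open Cfsg.Agent.Lib.Lead.UniqueP
open scoped commutatorElement

universe u

/-- Enumeration of a noncyclic commutative group of order nine. -/
theorem enum_nine {A : Type*} [CommGroup A] [Finite A] (hcard : Nat.card A = 9)
    (hnc : ¬ IsCyclic A) (a b : A) (ha : a ≠ 1) (hb : b ∉ Subgroup.zpowers a) :
    (∀ e : A, e ^ 3 = 1) ∧ ∀ e : A, ∃ i j : ℕ, i < 3 ∧ j < 3 ∧ e = a ^ i * b ^ j := by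
  have hexp : ∀ e : A, e ^ 3 = 1 := by
    intro e
    have h1 : orderOf e ∣ 9 := by rw [← hcard]; exact orderOf_dvd_natCard e
    have h9 : (9 : ℕ) = 3 ^ 2 := by norm_num
    rw [h9] at h1
    obtain ⟨k, hk, hk'⟩ := (Nat.dvd_prime_pow Nat.prime_three).mp h1
    have hk2 : k ≠ 2 := by
      rintro rfl
      apply hnc
      apply isCyclic_of_orderOf_eq_card e
      rw [hk', hcard]
      norm_num
    have hk1 : k ≤ 1 := by omega
    apply orderOf_dvd_iff_pow_eq_one.mp
    rw [hk']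
    exact pow_dvd_pow 3 hk1 |>.trans (by norm_num)
  refine ⟨hexp, ?_⟩
  have oa : orderOf a = 3 := orderOf_eq_prime (hexp a) ha
  have hb1 : b ≠ 1 := by
    rintro rfl
    exact hb (one_mem _)
  have ob : orderOf b = 3 := orderOf_eq_prime (hexp b) hb1
  have hlt : Subgroup.zpowers a < Subgroup.zpowers a ⊔ Subgroup.zpowers b := by
    apply lt_of_le_of_ne le_sup_left
    intro h
    apply hb
    rw [h]
    exact (le_sup_right : Subgroup.zpowers b ≤ _) (Subgroup.mem_zpowers b)
  have hc1 := Cfsg.Agent.Lib.Lead.UniqueP.card_lt_of_lt hlt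
  rw [Nat.card_zpowers, oa] at hc1
  have hc2 : Nat.card ↥(Subgroup.zpowers a ⊔ Subgroup.zpowers b) ∣ 9 := by
    rw [← hcard]
    exact Subgroup.card_subgroup_dvd_card _
  have hc3 : Nat.card ↥(Subgroup.zpowers a ⊔ Subgroup.zpowers b) = 9 := by
    have h9 : (9 : ℕ) = 3 ^ 2 := by norm_num
    rw [h9] at hc2
    obtain ⟨k, hk, hk'⟩ := (Nat.dvd_prime_pow Nat.prime_three).mp hc2
    rw [hk'] at hc1 ⊢
    interval_cases k
    · norm_num at hc1
    · norm_num at hc1
    · norm_num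
  have htop : Subgroup.zpowers a ⊔ Subgroup.zpowers b = ⊤ := by
    apply (Subgroup.card_eq_iff_eq_top _).mp
    rw [hc3, hcard]
  have hred : ∀ (g : A), orderOf g = 3 → ∀ x ∈ Subgroup.zpowers g, ∃ i : ℕ, i < 3 ∧ x = g ^ i := by
    intro g og x hx
    obtain ⟨n, rfl⟩ := Subgroup.mem_zpowers_iff.mp hx
    refine ⟨(n % 3).toNat, ?_, ?_⟩
    · have h1 : n % 3 < 3 := Int.emod_lt_of_pos n (by norm_num)
      have h2 : 0 ≤ n % 3 := Int.emod_nonneg n (by norm_num)
      omega
    · have h2 : 0 ≤ n % 3 := Int.emod_nonneg n (by norm_num)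
      rw [← zpow_natCast, Int.toNat_of_nonneg h2]
      have := zpow_mod_orderOf g n
      rw [og] at this
      exact this.symm
  intro e
  have he : e ∈ Subgroup.zpowers a ⊔ Subgroup.zpowers b := by rw [htop]; exact Subgroup.mem_top e
  obtain ⟨x, hx, y, hy, rfl⟩ := Subgroup.mem_sup.mp he
  obtain ⟨i, hi, rfl⟩ := hred a oa x hx
  obtain ⟨j, hj, rfl⟩ := hred b ob y hy
  exact ⟨i, j, hi, hj, rfl⟩

variable {W : Type u} [Group W]

theorem fixedSub_eq_of_mul_eq_one {e r : MulAut W} (h : e * r = 1) : fixedSub e = fixedSub r := by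
  have he : e = r⁻¹ := eq_inv_of_mul_eq_one_left h
  ext t
  rw [mem_fixedSub, mem_fixedSub, he]
  constructor
  · intro ht
    calc r t = r (r⁻¹ t) := by rw [ht]
      _ = (r * r⁻¹) t := rfl
      _ = t := by rw [mul_inv_cancel]; rfl
  · intro ht
    calc r⁻¹ t = r⁻¹ (r t) := by rw [ht]
      _ = (r⁻¹ * r) t := rfl
      _ = t := by rw [inv_mul_cancel]; rfl

theorem fixedSub_le_zpow (a : MulAut W) (n : ℤ) : fixedSub a ≤ fixedSub (a ^ n) := by
  intro t ht
  rw [mem_fixedSub] at ht ⊢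
  have hinv : a⁻¹ t = t := by
    calc a⁻¹ t = a⁻¹ (a t) := by rw [ht]
      _ = (a⁻¹ * a) t := rfl
      _ = t := by rw [inv_mul_cancel]; rfl
  rcases Int.eq_nat_or_neg n with ⟨m, rfl | rfl⟩
  · rw [zpow_natCast]; exact aut_pow_fix a t ht m
  · rw [zpow_neg, zpow_natCast, ← inv_pow]; exact aut_pow_fix a⁻¹ t hinv m

/-- In a group whose commutator subgroup lies in a central subgroup of order two,
centralizers of elements have index at most two. -/
theorem index_centralizer_le_two [Finite W] (z : W) (hz2 : z ^ 2 = 1)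
    (hzc : z ∈ Subgroup.center W) (hcom : commutator W = Subgroup.zpowers z) (x : W) :
    (Subgroup.centralizer ({x} : Set W)).index ≤ 2 := by
  have hmem : ∀ w : W, ⁅w, x⁆ ∈ Subgroup.zpowers z := by
    intro w
    rw [← hcom, commutator_def]
    exact Subgroup.commutator_mem_commutator (Subgroup.mem_top w) (Subgroup.mem_top x)
  have hcen : ∀ w y : W, y * ⁅w, x⁆ = ⁅w, x⁆ * y := by
    intro w y
    have : ⁅w, x⁆ ∈ Subgroup.center W :=
      (Subgroup.zpowers_le.mpr hzc) (hmem w)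
    exact Subgroup.mem_center_iff.mp this y
  let f : W →* W :=
    { toFun := fun w => ⁅w, x⁆
      map_one' := commutatorElement_one_left x
      map_mul' := by
        intro w₁ w₂
        have h1 : ⁅w₁ * w₂, x⁆ = w₁ * ⁅w₂, x⁆ * w₁⁻¹ * ⁅w₁, x⁆ := by
          simp only [commutatorElement_def]; group
        rw [h1, hcen w₂ w₁, mul_assoc, mul_assoc, ← mul_assoc w₁ w₁⁻¹, mul_inv_cancel, one_mul,
          hcen w₂] }
  have hker : f.ker = Subgroup.centralizer ({x} : Set W) := by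
    ext w
    rw [MonoidHom.mem_ker, Subgroup.mem_centralizer_iff]
    show ⁅w, x⁆ = 1 ↔ _
    rw [commutatorElement_eq_one_iff_mul_comm]
    constructor
    · intro h y hy
      rw [Set.mem_singleton_iff] at hy
      rw [hy, h]
    · intro h
      exact (h x rfl).symm
  have hrange : f.range ≤ Subgroup.zpowers z := by
    rintro _ ⟨w, rfl⟩
    exact hmem w
  rw [← hker, Subgroup.index_ker]
  have oz : orderOf z ≤ 2 := orderOf_le_of_pow_eq_one (by norm_num) hz2
  calc Nat.card f.range ≤ Nat.card (Subgroup.zpowers z) := Subgroup.card_le_of_le hrange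
    _ = orderOf z := Nat.card_zpowers z
    _ ≤ 2 := oz

theorem two_pow_mod_three_odd {m : ℕ} (h : 2 ^ m ≡ 2 [MOD 3]) : Odd m := by
  by_contra hodd
  rw [Nat.not_odd_iff_even] at hodd
  obtain ⟨k, rfl⟩ := hodd
  have h1 : 2 ^ (k + k) % 3 = 1 := by
    rw [← two_mul, pow_mul, Nat.pow_mod]
    norm_num
  unfold Nat.ModEq at h
  rw [h1] at h
  norm_num at h

end Cfsg.Agent.Lib.Helper3.SL
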