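import Mathlib
import Cfsg.Agent.Lib.Helper3.SL7

set_option autoImplicit false

namespace Cfsg.Agent.Lib.Helper3.SL

open Cfsg.Agent.Lib.Helper1 Cfsg.Agent.Lib.Helper1.Rk
open Cfsg.Agent.Lib.Lead.UniqueP
open scoped commutatorElement

universe u

variable {W : Type u} [Group W]

theorem fixedSub_sq_eq {r : MulAut W} (h : r ^ 3 = 1) : fixedSub (r ^ 2) = fixedSub r := by
  apply fixedSub_eq_of_mul_eq_one
  rw [← pow_succ]
  exact h

section steps

variable [Finite W] (hW : IsPGroup 2 W) {p : ℕ} [hp : Fact p.Prime] (hp2 : p ≠ 2)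
  (E : Subgroup (MulAut W)) (hE : IsPGroup p E) [hab : IsMulCommutative E] (hnc : ¬ IsCyclic E)
  (hfix : ∀ e ∈ E, e ≠ 1 → ∀ x y : W, orderOf x = 2 → orderOf y = 2 → e x = x → e y = y → x = y)
  (z : W) (hz1 : z ≠ 1) (hz2 : z ^ 2 = 1) (hzE : ∀ e ∈ E, e z = z)
  (hzc : z ∈ Subgroup.center W)

include hW hp2 hE hnc hfix hz1 hz2 hzE hzc in
theorem index_centralizer_fixedSub_le {e : MulAut W} (he : e ∈ E) (hne : e ≠ 1) :
    (Subgroup.centralizer (fixedSub e : Set W)).index ≤ 4 := by
  haveI : Fact (Nat.Prime 2) := ⟨Nat.prime_two⟩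
  have hcom := commutator_eq hW hp2 E hE hnc hfix z hz1 hz2 hzE hzc
  have hcen := center_eq hW hp2 E hE hnc hfix z hz1 hzE hzc
  have oz : orderOf z = 2 := orderOf_eq_prime hz2 hz1
  by_cases hact : fixedSub e ≤ fixAll E
  · obtain ⟨e₀, h₀⟩ := exists_active hW hp2 E hE hnc
    have hsub := fixAll_subset hW hp2 E hE hfix z hz1 hzE h₀
    have hsubset : (fixedSub e : Set W) ⊆ Subgroup.center W := by
      intro t ht
      rcases hsub t (hact ht) with h | h
      · rw [h]; exact Subgroup.one_mem _
      · rw [h]; exact hzc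
    rw [Subgroup.centralizer_eq_top_iff_subset.mpr hsubset, Subgroup.index_top]
    norm_num
  · have h : Active E e := ⟨he, hne, hact⟩
    have h8 := (active_card hW hp2 E hE hfix z hz1 hzE h).2
    obtain ⟨x, hx, y, hy, hxy⟩ : ∃ x ∈ fixedSub e, ∃ y ∈ fixedSub e, x * y ≠ y * x := by
      by_contra hcon
      push Not at hcon
      have hle := abelian_invariant_le hW hp2 E hE hnc hfix z hz1 hzE (fixedSub e)
        (fun e' he' t ht => fixedSub_invariant E he he' t ht) hcon
      have hc := Subgroup.card_le_of_le hle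
      rw [Nat.card_zpowers, oz, h8] at hc
      omega
    let K : Subgroup W := Subgroup.closure {x, y}
    have hKx : x ∈ K := Subgroup.subset_closure (by simp)
    have hKy : y ∈ K := Subgroup.subset_closure (by simp)
    have hK : K ≤ fixedSub e := by
      apply (Subgroup.closure_le _).mpr
      intro t ht
      rcases ht with rfl | rfl
      · exact hx
      · exact hy
    have hKdvd : Nat.card K ∣ 8 := by
      rw [← h8]
      exact Subgroup.card_dvd_of_le hK
    have hxy' : (⟨x, hKx⟩ : K) * ⟨y, hKy⟩ ≠ ⟨y, hKy⟩ * ⟨x, hKx⟩ := by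
      intro h
      exact hxy (congrArg Subtype.val h)
    have hK8 : Nat.card K = 8 := by
      have h8' : (8 : ℕ) = 2 ^ 3 := by norm_num
      rw [h8'] at hKdvd
      obtain ⟨k, hk, hk'⟩ := (Nat.dvd_prime_pow Nat.prime_two).mp hKdvd
      interval_cases k
      · exfalso
        rw [pow_zero] at hk'
        haveI : Subsingleton K := (Nat.card_eq_one_iff_unique.mp hk').1
        exact hxy' (Subsingleton.elim _ _)
      · exfalso
        rw [pow_one] at hk'
        haveI : IsCyclic K := isCyclic_of_prime_card hk'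
        exact hxy' (comm_of_isCyclic _ _)
      · exfalso
        have := IsPGroup.isMulCommutative_of_card_eq_prime_sq (p := 2) hk'
        exact hxy' (this.is_comm.comm _ _)
      · rw [hk']; norm_num
    have hKeq : K = fixedSub e := Subgroup.eq_of_le_of_card_ge hK (by rw [hK8, h8])
    have hle : Subgroup.centralizer ({x} : Set W) ⊓ Subgroup.centralizer ({y} : Set W)
        ≤ Subgroup.centralizer (fixedSub e : Set W) := by
      intro w hw
      obtain ⟨hwx, hwy⟩ := Subgroup.mem_inf.mp hw
      rw [Subgroup.mem_centralizer_iff] at hwx hwy ⊢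
      have hcl : K ≤ Subgroup.centralizer ({w} : Set W) := by
        apply (Subgroup.closure_le _).mpr
        intro t ht
        show t ∈ Subgroup.centralizer ({w} : Set W)
        rw [Subgroup.mem_centralizer_iff]
        intro v hv
        rw [Set.mem_singleton_iff] at hv
        subst hv
        rcases ht with rfl | rfl
        · exact (hwx _ rfl).symm
        · exact (hwy _ rfl).symm
      intro t ht
      have ht' : t ∈ K := by rw [hKeq]; exact ht
      have := Subgroup.mem_centralizer_iff.mp (hcl ht') w rfl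
      exact this.symm
    have h1 := Subgroup.index_dvd_of_le hle
    have hpos : (Subgroup.centralizer ({x} : Set W) ⊓ Subgroup.centralizer ({y} : Set W)).index ≠ 0 :=
      Subgroup.index_ne_zero_of_finite
    have h2 := Nat.le_of_dvd (Nat.pos_of_ne_zero hpos) h1
    have h3 := Subgroup.index_inf_le (H := Subgroup.centralizer ({x} : Set W))
      (K := Subgroup.centralizer ({y} : Set W))
    have h4 := index_centralizer_le_two z hz2 hzc hcom x
    have h5 := index_centralizer_le_two z hz2 hzc hcom y
    calc (Subgroup.centralizer (fixedSub e : Set W)).index ≤ _ := h2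
      _ ≤ _ := h3
      _ ≤ 2 * 2 := Nat.mul_le_mul h4 h5
      _ = 4 := by norm_num

end steps

end Cfsg.Agent.Lib.Helper3.SL
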