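import Mathlib
import Cfsg.Agent.Lib.Helper3.SL8

set_option autoImplicit false

namespace Cfsg.Agent.Lib.Helper3.SL

open Cfsg.Agent.Lib.Helper1 Cfsg.Agent.Lib.Helper1.Rk
open Cfsg.Agent.Lib.Lead.UniqueP
open scoped commutatorElement

universe u

variable {W : Type u} [Group W]

section steps

variable [Finite W] (hW : IsPGroup 2 W) {p : ℕ} [hp : Fact p.Prime] (hp2 : p ≠ 2)
  (E : Subgroup (MulAut W)) (hE : IsPGroup p E) [hab : IsMulCommutative E] (hnc : ¬ IsCyclic E)
  (hfix : ∀ e ∈ E, e ≠ 1 → ∀ x y : W, orderOf x = 2 → orderOf y = 2 → e x = x → e y = y → x = y)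
  (z : W) (hz1 : z ≠ 1) (hz2 : z ^ 2 = 1) (hzE : ∀ e ∈ E, e z = z)
  (hzc : z ∈ Subgroup.center W)

include hW hp2 hE hnc hfix hz1 hz2 hzE hzc in
/-- Step 6: the order of `W`. -/
theorem card_W : Nat.card W = 2 ^ 5 ∨ Nat.card W = 2 ^ 7 ∨ Nat.card W = 2 ^ 9 := by
  classical
  haveI : Fact (Nat.Prime 2) := ⟨Nat.prime_two⟩
  haveI : Fact (Nat.Prime 3) := ⟨Nat.prime_three⟩
  haveI : Finite E := Finite.of_injective _ Subtype.val_injective
  obtain ⟨e₀, h₀⟩ := exists_active hW hp2 E hE hnc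
  obtain ⟨e₁, h₁, hne⟩ := exists_second_active hW hp2 E hE hnc hfix z hz1 hzE h₀
  obtain ⟨hp3, h80⟩ := active_card hW hp2 E hE hfix z hz1 hzE h₀
  obtain ⟨-, h81⟩ := active_card hW hp2 E hE hfix z hz1 hzE h₁
  obtain ⟨-, h9⟩ := card_E_eq_nine hW hp2 E hE hnc hfix z hz1 hz2 hzE
  have hcen := center_eq hW hp2 E hE hnc hfix z hz1 hzE hzc
  have oz : orderOf z = 2 := orderOf_eq_prime hz2 hz1
  letI : CommGroup E :=
    { (inferInstance : Group E) with mul_comm := hab.is_comm.comm }
  let a' : E := ⟨e₀, h₀.1⟩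
  let b' : E := ⟨e₁, h₁.1⟩
  have ha' : a' ≠ 1 := fun h => h₀.2.1 (congrArg Subtype.val h)
  have hb' : b' ∉ Subgroup.zpowers a' := by
    intro hmem
    obtain ⟨n, hn⟩ := Subgroup.mem_zpowers_iff.mp hmem
    have hn' : e₀ ^ n = e₁ := by
      have := congrArg Subtype.val hn
      simpa [a', b'] using this
    have hle : fixedSub e₀ ≤ fixedSub e₁ := by
      rw [← hn']
      exact fixedSub_le_zpow e₀ n
    exact hne (Subgroup.eq_of_le_of_card_ge hle (by rw [h80, h81])).symm
  obtain ⟨hexp, henum⟩ := enum_nine h9 hnc a' b' ha' hb'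
  have hcube : ∀ e ∈ E, e ^ 3 = 1 := by
    intro e he
    have := congrArg Subtype.val (hexp ⟨e, he⟩)
    simpa using this
  have hcomm : Commute e₀ e₁ := by
    have := congrArg Subtype.val (hab.is_comm.comm a' b')
    exact this
  -- the four representatives
  have hr3 : e₀ * e₁ ∈ E := E.mul_mem h₀.1 h₁.1
  have hr4 : e₀ * (e₁ * e₁) ∈ E := E.mul_mem h₀.1 (E.mul_mem h₁.1 h₁.1)
  have hr3ne : e₀ * e₁ ≠ 1 := by
    intro h
    apply hb'
    have : b' = a'⁻¹ := by
      apply Subtype.ext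
      show e₁ = e₀⁻¹
      exact (eq_inv_of_mul_eq_one_right h)
    rw [this]
    exact Subgroup.inv_mem _ (Subgroup.mem_zpowers a')
  have hr4ne : e₀ * (e₁ * e₁) ≠ 1 := by
    intro h
    apply hb'
    have h1 : e₁ * e₁ = e₀⁻¹ := eq_inv_of_mul_eq_one_right h
    have h2 : e₁ = e₀⁻¹ * e₀⁻¹ := by
      have h3 : e₁ ^ 3 = 1 := hcube e₁ h₁.1
      calc e₁ = e₁ ^ 3 * e₁ := by rw [h3, one_mul]
        _ = (e₁ * e₁) * (e₁ * e₁) := by rw [pow_succ, pow_succ, pow_one]; group
        _ = e₀⁻¹ * e₀⁻¹ := by rw [h1]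
    have : b' = a'⁻¹ * a'⁻¹ := Subtype.ext h2
    rw [this]
    exact Subgroup.mul_mem _ (Subgroup.inv_mem _ (Subgroup.mem_zpowers a'))
      (Subgroup.inv_mem _ (Subgroup.mem_zpowers a'))
  have hclass : ∀ e ∈ E, e ≠ 1 → fixedSub e = fixedSub e₀ ∨ fixedSub e = fixedSub e₁ ∨
      fixedSub e = fixedSub (e₀ * e₁) ∨ fixedSub e = fixedSub (e₀ * (e₁ * e₁)) := by
    intro e he hne1
    obtain ⟨i, j, hi, hj, hij⟩ := henum ⟨e, he⟩
    have hij' : e = e₀ ^ i * e₁ ^ j := by
      have := congrArg Subtype.val hij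
      simpa [a', b'] using this
    have hc0 : e₀ ^ 3 = 1 := hcube e₀ h₀.1
    have hc1 : e₁ ^ 3 = 1 := hcube e₁ h₁.1
    interval_cases i <;> interval_cases j
    · exfalso
      apply hne1
      rw [hij']; simp
    · right; left
      rw [hij']; simp
    · right; left
      rw [hij', pow_zero, one_mul]
      exact fixedSub_sq_eq hc1
    · left
      rw [hij']; simp
    · right; right; left
      rw [hij']; simp
    · right; right; right
      rw [hij', pow_one, sq]
    · left
      rw [hij', pow_zero, mul_one]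
      exact fixedSub_sq_eq hc0
    · right; right; right
      have h4 : (e₀ * (e₁ * e₁)) ^ 2 = e₀ ^ 2 * e₁ ^ 1 := by
        have hc' : Commute e₀ (e₁ * e₁) := hcomm.mul_right hcomm
        rw [hc'.mul_pow, ← sq, ← pow_mul]
        have : e₁ ^ (2 * 2) = e₁ ^ 3 * e₁ := by rw [← pow_succ]
        rw [this, hc1, one_mul, pow_one]
      rw [hij', ← h4]
      apply fixedSub_sq_eq
      exact hcube _ hr4
    · right; right; left
      have h4 : (e₀ * e₁) ^ 2 = e₀ ^ 2 * e₁ ^ 2 := hcomm.mul_pow 2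
      rw [hij', ← h4]
      apply fixedSub_sq_eq
      exact hcube _ hr3
  -- the centre contains the intersection of the four centralizers
  let C : Subgroup W := Subgroup.centralizer (fixedSub e₀ : Set W) ⊓
    Subgroup.centralizer (fixedSub e₁ : Set W) ⊓
    Subgroup.centralizer (fixedSub (e₀ * e₁) : Set W) ⊓
    Subgroup.centralizer (fixedSub (e₀ * (e₁ * e₁)) : Set W)
  have hC : C ≤ Subgroup.center W := by
    intro w hw
    obtain ⟨⟨⟨hw1, hw2⟩, hw3⟩, hw4⟩ := hw
    have htop : (⊤ : Subgroup W) ≤ Subgroup.centralizer ({w} : Set W) := by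
      apply ext_coprime_gen E hnc (coprime_card hW hp2 E hE) ⊤
        (fun _ _ _ _ => Subgroup.mem_top _)
      intro e he hne1
      refine inf_le_right.trans ?_
      intro t ht
      rw [Subgroup.mem_centralizer_iff]
      intro v hv
      rw [Set.mem_singleton_iff] at hv
      subst hv
      rcases hclass e he hne1 with h | h | h | h
      · rw [h] at ht
        exact (Subgroup.mem_centralizer_iff.mp hw1 t ht).symm
      · rw [h] at ht
        exact (Subgroup.mem_centralizer_iff.mp hw2 t ht).symm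
      · rw [h] at ht
        exact (Subgroup.mem_centralizer_iff.mp hw3 t ht).symm
      · rw [h] at ht
        exact (Subgroup.mem_centralizer_iff.mp hw4 t ht).symm
    rw [Subgroup.mem_center_iff]
    intro g
    have := Subgroup.mem_centralizer_iff.mp (htop (Subgroup.mem_top g)) w rfl
    exact this.symm
  have hidx : ∀ e ∈ E, e ≠ 1 → (Subgroup.centralizer (fixedSub e : Set W)).index ≤ 4 :=
    fun e he hne1 => index_centralizer_fixedSub_le hW hp2 E hE hnc hfix z hz1 hz2 hzE hzc he hne1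
  have hCidx : C.index ≤ 4 * 4 * 4 * 4 := by
    have i1 := hidx e₀ h₀.1 h₀.2.1
    have i2 := hidx e₁ h₁.1 h₁.2.1
    have i3 := hidx _ hr3 hr3ne
    have i4 := hidx _ hr4 hr4ne
    have j1 := Subgroup.index_inf_le (H := Subgroup.centralizer (fixedSub e₀ : Set W))
      (K := Subgroup.centralizer (fixedSub e₁ : Set W))
    have j2 := Subgroup.index_inf_le (H := Subgroup.centralizer (fixedSub e₀ : Set W) ⊓
      Subgroup.centralizer (fixedSub e₁ : Set W))
      (K := Subgroup.centralizer (fixedSub (e₀ * e₁) : Set W))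
    have j3 := Subgroup.index_inf_le (H := Subgroup.centralizer (fixedSub e₀ : Set W) ⊓
      Subgroup.centralizer (fixedSub e₁ : Set W) ⊓
      Subgroup.centralizer (fixedSub (e₀ * e₁) : Set W))
      (K := Subgroup.centralizer (fixedSub (e₀ * (e₁ * e₁)) : Set W))
    calc C.index ≤ _ := j3
      _ ≤ (4 * 4 * 4) * 4 := by
        apply Nat.mul_le_mul _ i4
        calc _ ≤ _ := j2
          _ ≤ (4 * 4) * 4 := by
            apply Nat.mul_le_mul _ i3
            calc _ ≤ _ := j1
              _ ≤ 4 * 4 := Nat.mul_le_mul i1 i2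
  have hZidx : (Subgroup.center W).index ≤ 256 := by
    have h1 := Subgroup.index_dvd_of_le hC
    have hpos : C.index ≠ 0 := Subgroup.index_ne_zero_of_finite
    have h2 := Nat.le_of_dvd (Nat.pos_of_ne_zero hpos) h1
    omega
  have hcardW : Nat.card W ≤ 512 := by
    have h1 := Subgroup.card_mul_index (Subgroup.center W)
    have h2 : Nat.card (Subgroup.center W) = 2 := by rw [hcen, Nat.card_zpowers, oz]
    rw [h2] at h1
    omega
  -- parity
  obtain ⟨m, hm⟩ := IsPGroup.iff_card.mp hW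
  have hmod : Nat.card W ≡ Nat.card (fixedSub e₀) [MOD 3] :=
    card_modEq_card_fixedSub e₀ (hcube e₀ h₀.1)
  rw [hm, h80] at hmod
  have hmodd : Odd m := by
    apply two_pow_mod_three_odd
    exact hmod.trans (by decide)
  -- lower bound
  have hgt : 8 < Nat.card W := by
    have hlt : fixedSub e₀ < ⊤ := by
      apply lt_of_le_of_ne le_top
      intro h
      apply hne
      have hle : fixedSub e₁ ≤ fixedSub e₀ := by rw [h]; exact le_top
      exact Subgroup.eq_of_le_of_card_ge hle (by rw [h80, h81])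
    have := Cfsg.Agent.Lib.Lead.UniqueP.card_lt_of_lt hlt
    rw [h80, Subgroup.card_top] at this
    exact this
  rw [hm] at hgt hcardW ⊢
  have hm3 : 3 < m := by
    by_contra h
    push Not at h
    have : 2 ^ m ≤ 2 ^ 3 := Nat.pow_le_pow_right (by norm_num) h
    omega
  have hm9 : m ≤ 9 := by
    by_contra h
    push Not at h
    have : 2 ^ 10 ≤ 2 ^ m := Nat.pow_le_pow_right (by norm_num) h
    omega
  obtain ⟨k, hk⟩ := hmodd
  have hk' : k = 2 ∨ k = 3 ∨ k = 4 := by omega
  rcases hk' with rfl | rfl | rfl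
  · left; rw [hk]; norm_num
  · right; left; rw [hk]; norm_num
  · right; right; rw [hk]; norm_num

include hW hp2 hE hnc hfix in
/-- **Main theorem** (S2934 in elementwise form). -/
theorem main_theorem :
    Nat.card E = 9 ∧ frattini W = Subgroup.center W ∧ commutator W = Subgroup.center W ∧
      Nat.card (Subgroup.center W) = 2 ∧
      (Nat.card W = 2 ^ 5 ∨ Nat.card W = 2 ^ 7 ∨ Nat.card W = 2 ^ 9) ∧
      {x : W | ∀ e ∈ E, e x = x} = (Subgroup.center W : Set W) := by
  obtain ⟨z, hz1, hz2, hzc, hzE, -⟩ := exists_central_involution hW hp2 E hE hnc hfix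
  have hcen := center_eq hW hp2 E hE hnc hfix z hz1 hzE hzc
  have hcom := commutator_eq hW hp2 E hE hnc hfix z hz1 hz2 hzE hzc
  have hfr := frattini_eq hW hp2 E hE hnc hfix z hz1 hz2 hzE hzc
  have oz : orderOf z = 2 := orderOf_eq_prime hz2 hz1
  refine ⟨(card_E_eq_nine hW hp2 E hE hnc hfix z hz1 hz2 hzE).2, ?_, ?_, ?_, ?_, ?_⟩
  · rw [hfr, hcen]
  · rw [hcom, hcen]
  · rw [hcen, Nat.card_zpowers, oz]
  · exact card_W hW hp2 E hE hnc hfix z hz1 hz2 hzE hzc
  · obtain ⟨e₀, h₀⟩ := exists_active hW hp2 E hE hnc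
    have hsub := fixAll_subset hW hp2 E hE hfix z hz1 hzE h₀
    ext x
    constructor
    · intro hx
      have hx' : x ∈ fixAll E := hx
      rcases hsub x hx' with h | h
      · rw [h]; exact Subgroup.one_mem _
      · rw [h]; exact hzc
    · intro hx
      have hx' : x ∈ Subgroup.zpowers z := by rw [← hcen]; exact hx
      obtain ⟨k, rfl⟩ := Subgroup.mem_zpowers_iff.mp hx'
      intro e he
      rw [map_zpow, hzE e he]

end steps

end Cfsg.Agent.Lib.Helper3.SL
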