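import Mathlib
import Cfsg.Agent.Lib.Helper2.GLU0
import Cfsg.Agent.Lib.Helper7.SLY5d

set_option autoImplicit false
set_option maxHeartbeats 4000000
set_option linter.unusedSectionVars false
set_option linter.unusedVariables false

/-!
# S4538 farm, unit Y5 in helper2's stub shapes (verbatim), by bridging helper2's definitions
`pmin`, `upmin`, `uni`, `sw` to helper7's `Pmin`, `UPmin`, `Uni`, `sgl`.
-/

namespace Cfsg.Agent.Lib.Helper3.SLY5v

open Matrix Cfsg Cfsg.Agent.Lib.Helper2.GLU Cfsg.Agent.Lib.Helper6.Flg Cfsg.Agent.Lib.Helper7.SLY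

variable {n : ℕ} {F : Type*} [Field F]

theorem pmin_eq (i : ℕ) : pmin n F i = Pmin n F i := by
  ext g
  exact Iff.rfl

theorem ubt_eq_urad (lab : Fin n → ℕ) : ubt n F lab = urad (F := F) lab := by
  ext g
  rw [mem_ubt, mem_urad]
  constructor
  · intro h
    constructor
    · intro a b hab
      have hne : a ≠ b := by
        intro e
        subst e
        exact lt_irrefl _ hab
      rw [h a b hab.le, Matrix.one_apply_ne hne]
    · ext a b
      rw [bd_apply]
      by_cases hab : lab a = lab b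
      · rw [if_pos hab, h a b hab.symm.le]
      · rw [if_neg hab]
        have hne : a ≠ b := by
          intro e
          subst e
          exact hab rfl
        rw [Matrix.one_apply_ne hne]
  · rintro ⟨h1, h2⟩ a b hab
    rcases lt_or_eq_of_le hab with hlt | heq
    · have hne : a ≠ b := by
        intro e
        subst e
        exact lt_irrefl _ hlt
      rw [h1 hlt, Matrix.one_apply_ne hne]
    · have := congrFun (congrFun h2 a) b
      rw [bd_apply, if_pos heq.symm] at this
      exact this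

theorem upmin_eq (i : ℕ) : upmin n F i = UPmin n F i := ubt_eq_urad _

theorem uni_eq : uni n F = Uni n F := ubt_eq_urad _

theorem sw_eq (i : ℕ) (hi : i + 1 < n) : Wgl n F (sw n i hi) = sgl (F := F) i hi := rfl

/-! ## the stubs, verbatim -/

theorem y5_B_le (i : ℕ) : upperTriangularGL n F ≤ pmin n F i := by
  rw [pmin_eq]
  exact borel_le_Pmin i

theorem y5_s_mem (i : ℕ) (hi : i + 1 < n) : Wgl n F (sw n i hi) ∈ pmin n F i := by
  rw [pmin_eq, sw_eq]
  exact sgl_mem_Pmin i hi

theorem y5_cover (i : ℕ) (hi : i + 1 < n) : ∀ g ∈ pmin n F i, g ∈ upperTriangularGL n F ∨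
    ∃ b ∈ upperTriangularGL n F, ∃ b' ∈ upperTriangularGL n F,
      g = b * Wgl n F (sw n i hi) * b' := by
  intro g hg
  rw [pmin_eq] at hg
  rw [sw_eq]
  exact Pmin_cover i hi g hg

theorem y5_up_le (i : ℕ) : upmin n F i ≤ uni n F := by
  rw [upmin_eq, uni_eq]
  exact UPmin_le_Uni i

theorem y5_up_normal (i : ℕ) : ∀ g ∈ pmin n F i, ∀ u ∈ upmin n F i,
    g * u * g⁻¹ ∈ upmin n F i := by
  intro g hg u hu
  rw [pmin_eq] at hg
  rw [upmin_eq] at hu ⊢
  exact conj_mem_UPmin i hg hu

/-! ## bonus: Y6 and Y1 pieces in helper2's shapes, from helper7's versions -/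

theorem y6_card_uni [Fintype F] (i : ℕ) (hi : i + 1 < n) :
    Nat.card (uni n F) = Nat.card F * Nat.card (upmin n F i) := by
  rw [uni_eq, upmin_eq]
  exact card_Uni i hi

theorem y6_card_pmin_lt [Fintype F] (i : ℕ) (hi : i + 1 < n) :
    Nat.card F * Nat.card (upperTriangularGL n F) < Nat.card (pmin n F i) := by
  rw [pmin_eq]
  exact card_borel_lt_card_Pmin i hi

theorem y1_uni_le_B : uni n F ≤ upperTriangularGL n F := by
  rw [uni_eq]
  exact Uni_le_borel

theorem y1_norm : ∀ b ∈ upperTriangularGL n F, ∀ u ∈ uni n F, b * u * b⁻¹ ∈ uni n F := by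
  intro b hb u hu
  rw [uni_eq] at hu ⊢
  exact conj_mem_Uni hb hu

theorem y1_comm : ∀ x ∈ upperTriangularGL n F, ∀ y ∈ upperTriangularGL n F,
    x * y * x⁻¹ * y⁻¹ ∈ uni n F := by
  intro x hx y hy
  rw [uni_eq]
  exact comm_mem_Uni hx hy

end Cfsg.Agent.Lib.Helper3.SLY5v
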