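import Mathlib
import Cfsg.Agent.Lib.Helper3.SLZ1

set_option autoImplicit false
set_option maxHeartbeats 4000000
set_option linter.unusedSectionVars false
set_option linter.unusedVariables false
open Cfsg

/-!
# S4538 farm, unit Z1 (concrete part): from `GL n F` to `SL n F`
-/

namespace Cfsg.Agent.Lib.Helper3.SLZ1

open Cfsg.Agent.Lib.Helper6

section concrete

variable {F : Type*} [Field F] [Fintype F] [DecidableEq F] (n : ℕ)

/-- `SL n F` as the kernel of the determinant on `GL n F`. -/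
noncomputable def slEquivKerDet :
    Matrix.SpecialLinearGroup (Fin n) F ≃*
      (Matrix.GeneralLinearGroup.det : GL (Fin n) F →* Fˣ).ker where
  toFun s := ⟨Matrix.SpecialLinearGroup.toGL s, by
    rw [MonoidHom.mem_ker]
    apply Units.ext
    rw [Matrix.GeneralLinearGroup.val_det_apply]
    simp⟩
  invFun g := ⟨((g : GL (Fin n) F) : Matrix (Fin n) (Fin n) F), by
    have h := g.2
    rw [MonoidHom.mem_ker] at h
    have h2 := congrArg Units.val h
    rw [Matrix.GeneralLinearGroup.val_det_apply] at h2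
    simpa using h2⟩
  left_inv s := by
    apply Subtype.ext
    rfl
  right_inv g := by
    apply Subtype.ext
    apply Units.ext
    rfl
  map_mul' a b := by
    apply Subtype.ext
    simp

theorem slEquivKerDet_coe (s : Matrix.SpecialLinearGroup (Fin n) F) :
    ((slEquivKerDet (F := F) n s : (Matrix.GeneralLinearGroup.det : GL (Fin n) F →* Fˣ).ker) :
      GL (Fin n) F) = Matrix.SpecialLinearGroup.toGL s := rfl

/-- **Z1, concrete form**: if any two irreducible characters of `GL n F` of degree divisible by `d`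
have degree `d` and differ by a function which is `1` on matrices of determinant `1`, then
`SL n F` has at most one irreducible character of degree divisible by `d`. -/
theorem z1_SL (d : ℕ)
    (hGL : ∀ χ₁ χ₂ : GL (Fin n) F → ℂ, Cfsg.IsIrrCharacter (GL (Fin n) F) χ₁ →
      Cfsg.IsIrrCharacter (GL (Fin n) F) χ₂ →
      d ∣ Cfsg.charDegree χ₁ → d ∣ Cfsg.charDegree χ₂ →
      Cfsg.charDegree χ₁ = d ∧ Cfsg.charDegree χ₂ = d ∧
        ∃ lam : GL (Fin n) F → ℂ, (∀ g, Matrix.GeneralLinearGroup.det g = 1 → lam g = 1) ∧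
          ∀ g, χ₂ g = χ₁ g * lam g)
    (θ₁ θ₂ : Matrix.SpecialLinearGroup (Fin n) F → ℂ)
    (h₁ : Cfsg.IsIrrCharacter (Matrix.SpecialLinearGroup (Fin n) F) θ₁)
    (h₂ : Cfsg.IsIrrCharacter (Matrix.SpecialLinearGroup (Fin n) F) θ₂)
    (hd₁ : d ∣ Cfsg.charDegree θ₁) (hd₂ : d ∣ Cfsg.charDegree θ₂) : θ₁ = θ₂ := by
  classical
  set N : Subgroup (GL (Fin n) F) := (Matrix.GeneralLinearGroup.det : GL (Fin n) F →* Fˣ).ker
    with hNdef
  haveI : Fintype N := Fintype.ofFinite _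
  have hN : N.Normal := MonoidHom.normal_ker _
  set e := slEquivKerDet (F := F) n with he
  have i₁ : Cfsg.IsIrrCharacter N (fun m : N => θ₁ (e.symm m)) :=
    IsIrrCharacter.comp_mulEquiv e.symm h₁
  have i₂ : Cfsg.IsIrrCharacter N (fun m : N => θ₂ (e.symm m)) :=
    IsIrrCharacter.comp_mulEquiv e.symm h₂
  have c₁ : Cfsg.charDegree (fun m : N => θ₁ (e.symm m)) = Cfsg.charDegree θ₁ := by
    unfold Cfsg.charDegree
    show ⌊(θ₁ (e.symm 1)).re⌋₊ = ⌊(θ₁ 1).re⌋₊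
    rw [map_one]
  have c₂ : Cfsg.charDegree (fun m : N => θ₂ (e.symm m)) = Cfsg.charDegree θ₂ := by
    unfold Cfsg.charDegree
    show ⌊(θ₂ (e.symm 1)).re⌋₊ = ⌊(θ₂ 1).re⌋₊
    rw [map_one]
  have hGL' : ∀ χ₁ χ₂ : GL (Fin n) F → ℂ, Cfsg.IsIrrCharacter (GL (Fin n) F) χ₁ →
      Cfsg.IsIrrCharacter (GL (Fin n) F) χ₂ →
      d ∣ Cfsg.charDegree χ₁ → d ∣ Cfsg.charDegree χ₂ →
      Cfsg.charDegree χ₁ = d ∧ Cfsg.charDegree χ₂ = d ∧
        ∃ lam : GL (Fin n) F → ℂ, (∀ g ∈ N, lam g = 1) ∧ ∀ g, χ₂ g = χ₁ g * lam g := by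
    intro χ₁ χ₂ a b c d'
    obtain ⟨x, y, lam, hl, hm⟩ := hGL χ₁ χ₂ a b c d'
    exact ⟨x, y, lam, fun g hg => hl g (MonoidHom.mem_ker.mp hg), hm⟩
  have key := z1_abstract N hN d hGL' _ _ i₁ i₂ (by rw [c₁]; exact hd₁) (by rw [c₂]; exact hd₂)
  funext s
  have := congrFun key (e s)
  simpa using this

/-- variant with the twist given by a linear character of the determinant -/
theorem z1_SL_det (d : ℕ)
    (hGL : ∀ χ₁ χ₂ : GL (Fin n) F → ℂ, Cfsg.IsIrrCharacter (GL (Fin n) F) χ₁ →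
      Cfsg.IsIrrCharacter (GL (Fin n) F) χ₂ →
      d ∣ Cfsg.charDegree χ₁ → d ∣ Cfsg.charDegree χ₂ →
      Cfsg.charDegree χ₁ = d ∧ Cfsg.charDegree χ₂ = d ∧
        ∃ α : Fˣ →* ℂˣ, ∀ g, χ₂ g = χ₁ g * (α (Matrix.GeneralLinearGroup.det g) : ℂ))
    (θ₁ θ₂ : Matrix.SpecialLinearGroup (Fin n) F → ℂ)
    (h₁ : Cfsg.IsIrrCharacter (Matrix.SpecialLinearGroup (Fin n) F) θ₁)
    (h₂ : Cfsg.IsIrrCharacter (Matrix.SpecialLinearGroup (Fin n) F) θ₂)
    (hd₁ : d ∣ Cfsg.charDegree θ₁) (hd₂ : d ∣ Cfsg.charDegree θ₂) : θ₁ = θ₂ := by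
  apply z1_SL n d _ θ₁ θ₂ h₁ h₂ hd₁ hd₂
  intro χ₁ χ₂ a b c d'
  obtain ⟨x, y, α, hα⟩ := hGL χ₁ χ₂ a b c d'
  refine ⟨x, y, fun g => (α (Matrix.GeneralLinearGroup.det g) : ℂ), ?_, hα⟩
  intro g hg
  show (α (Matrix.GeneralLinearGroup.det g) : ℂ) = 1
  rw [hg, map_one, Units.val_one]

end concrete

end Cfsg.Agent.Lib.Helper3.SLZ1
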