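import Mathlib
import Cfsg.Agent.Lib.Helper3.SLZ1

set_option autoImplicit false
set_option maxHeartbeats 4000000
set_option linter.unusedSectionVars false
set_option linter.unusedVariables false
open Cfsg

/-!
# Clifford transfer, further abstract pieces (for the S2318 farm: `G ⊴ Ĝ = G·Ĥ`)

* `vanish_of_over`: if `θ ∈ Irr(N)`, `N ⊴ G`, vanishes on a `G`-stable set `S`, then so does every
  `χ ∈ Irr(G)` lying over `θ` (on `N ∩ S`).
* `exists_over_vanish_restrict`: packaged form used to pass from `N` to `G` and back.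
-/

namespace Cfsg.Agent.Lib.Helper3.SLZ1

open Cfsg.Agent.Lib.Helper6

section abstract

variable {G : Type*} [Group G] [Fintype G] [DecidableEq G]
variable (N : Subgroup G) [Fintype N] (hN : N.Normal)

include hN in
/-- Clifford: a character of `G` over `θ` vanishes wherever all `G`-conjugates of `θ` vanish. -/
theorem vanish_of_over (χ : Cfsg.IrrCharacter G) (θ : Cfsg.IrrCharacter N)
    (hc : Cfsg.classInner (fun n : N => (χ : G → ℂ) n) (θ : N → ℂ) ≠ 0)
    (S : Set G) (hS : ∀ s ∈ S, ∀ g : G, g * s * g⁻¹ ∈ S)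
    (hθ : ∀ n : N, (n : G) ∈ S → (θ : N → ℂ) n = 0) :
    ∀ n : N, (n : G) ∈ S → (χ : G → ℂ) n = 0 := by
  classical
  haveI : Fintype (Cfsg.IrrCharacter N) := Fintype.ofFinite _
  intro n hn
  have h1 := classFunction_eq_sum (fun m : N => (χ : G → ℂ) m)
    (IsCharacter.isClassFunction (IsCharacter.restrict N (IsIrrCharacter.isCharacter χ.2)))
  have h2 := congrFun h1 n
  simp only [Finset.sum_apply, Pi.smul_apply, smul_eq_mul] at h2
  rw [h2]
  apply Finset.sum_eq_zero
  intro ψ _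
  by_cases h0 : Cfsg.classInner (fun m : N => (χ : G → ℂ) m) (ψ : N → ℂ) = 0
  · rw [h0, zero_mul]
  · obtain ⟨g, hg⟩ := exists_conjFun_eq_of_constituents N hN χ.2 θ.2 ψ.2 hc h0
    rw [hg, conjFun_apply, hθ _ (hS _ hn g), mul_zero]

include hN in
/-- For `θ ∈ Irr(N)` vanishing on a `G`-stable set `S` there is `χ ∈ Irr(G)` over `θ` vanishing on
`N ∩ S`, with `θ 1 ∣ χ 1`; and if moreover `χ 1 = d` with `d ∣ θ 1`, then `χ|_N = θ`. -/
theorem exists_over_vanish (θ : Cfsg.IrrCharacter N)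
    (S : Set G) (hS : ∀ s ∈ S, ∀ g : G, g * s * g⁻¹ ∈ S)
    (hθ : ∀ n : N, (n : G) ∈ S → (θ : N → ℂ) n = 0) :
    ∃ χ : Cfsg.IrrCharacter G,
      Cfsg.classInner (fun n : N => (χ : G → ℂ) n) (θ : N → ℂ) ≠ 0 ∧
      (∀ n : N, (n : G) ∈ S → (χ : G → ℂ) n = 0) ∧
      Cfsg.charDegree (θ : N → ℂ) ∣ Cfsg.charDegree (χ : G → ℂ) ∧
      ∀ d : ℕ, d ∣ Cfsg.charDegree (θ : N → ℂ) → Cfsg.charDegree (χ : G → ℂ) = d →
        (fun n : N => (χ : G → ℂ) n) = (θ : N → ℂ) := by
  obtain ⟨χ, hc⟩ := exists_irr_over N θ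
  refine ⟨χ, hc, vanish_of_over N hN χ θ hc S hS hθ,
    charDegree_dvd_of_constituent N hN χ θ hc, ?_⟩
  intro d hd hχd
  exact restrict_eq_of_over N hN d χ θ hc hd hχd

/-- restriction to a subgroup cannot lose a linear constituent: if `φ` (any class function value
given by a character `φ` of `K`) is a constituent of `χ|_K` then `φ|_B` is a constituent of
`χ|_B`, for `B ≤ K`.  Stated with inner products `≠ 0`, for `φ` irreducible on `K` and `φ|_B`
irreducible on `B` (e.g. `φ` linear). -/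
theorem classInner_restrict_ne_zero_of_le {K B : Subgroup G} [Fintype K] [Fintype B] (hBK : B ≤ K)
    (χ : G → ℂ) (hχ : Cfsg.IsCharacter G χ) (φ : K → ℂ) (hφ : Cfsg.IsIrrCharacter K φ)
    (hφB : Cfsg.IsIrrCharacter B (fun b : B => φ ⟨b, hBK b.2⟩))
    (h : Cfsg.classInner (fun k : K => χ k) φ ≠ 0) :
    Cfsg.classInner (fun b : B => χ b) (fun b : B => φ ⟨b, hBK b.2⟩) ≠ 0 := by
  classical
  have hA : Cfsg.IsCharacter K (fun k : K => χ k) := IsCharacter.restrict K hχ
  obtain ⟨C, hC, hAC⟩ := IsCharacter.exists_eq_add_of_constituent hA hφ h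
  have hres : (fun b : B => χ b) =
      (fun b : B => φ ⟨b, hBK b.2⟩) + (fun b : B => C ⟨b, hBK b.2⟩) := by
    funext b
    have := congrFun hAC ⟨b, hBK b.2⟩
    simpa using this
  rw [hres, classInner_add_left, classInner_isIrrCharacter hφB hφB, if_pos rfl]
  have hCB : Cfsg.IsCharacter B (fun b : B => C ⟨b, hBK b.2⟩) :=
    IsCharacter.comp (Subgroup.inclusion hBK) hC
  obtain ⟨m, hm⟩ := IsCharacter.classInner_irr_nat hCB hφB
  rw [hm]
  have : (1 : ℂ) + (m : ℂ) = ((1 + m : ℕ) : ℂ) := by push_cast; ring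
  rw [this]
  have h1m : 1 + m ≠ 0 := by omega
  exact_mod_cast h1m

end abstract

end Cfsg.Agent.Lib.Helper3.SLZ1
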