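import Mathlib
import Cfsg.Agent.Lib.Helper1.CoprimeGenCentralizers
set_option autoImplicit false

namespace Cfsg.Agent.Lib.Helper3.SRCU6

/-- The four-group `{1, t, s, t*s}` generated by two distinct commuting involutions. -/
def four {X : Type*} [Group X] (t s : X) (hts : t * s = s * t) (ht : t * t = 1) (hs : s * s = 1) :
    Subgroup X where
  carrier := {x | x = 1 ∨ x = t ∨ x = s ∨ x = t * s}
  one_mem' := Or.inl rfl
  mul_mem' := by
    have hst : s * t = t * s := hts.symm
    rintro a b (rfl | rfl | rfl | rfl) (rfl | rfl | rfl | rfl)
    · left; simp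
    · right; left; simp
    · right; right; left; simp
    · right; right; right; simp
    · right; left; simp
    · left; exact ht
    · right; right; right; rfl
    · right; right; left; rw [← mul_assoc, ht, one_mul]
    · right; right; left; simp
    · right; right; right; exact hst
    · left; exact hs
    · right; left; rw [← mul_assoc, hst, mul_assoc, hs, mul_one]
    · right; right; right; simp
    · right; right; left
      rw [mul_assoc, hst, ← mul_assoc, ht, one_mul]
    · right; left; rw [mul_assoc, hs, mul_one]
    · left
      rw [mul_assoc, ← mul_assoc s t s, hst, mul_assoc t s s, hs, mul_one, ht]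
  inv_mem' := by
    have hti : t⁻¹ = t := inv_eq_of_mul_eq_one_right ht
    have hsi : s⁻¹ = s := inv_eq_of_mul_eq_one_right hs
    rintro a (rfl | rfl | rfl | rfl)
    · left; simp
    · right; left; exact hti
    · right; right; left; exact hsi
    · right; right; right
      rw [mul_inv_rev, hti, hsi, hts]

theorem le_of_four_group {X : Type*} [Group X] [Finite X] (W : Subgroup X) (hWn : W.Normal)
    (hW : Odd (Nat.card W)) (t s : X) (ht : orderOf t = 2) (hs : orderOf s = 2)
    (hts : t * s = s * t) (hne : t ≠ s) (D : Subgroup X)
    (h1 : W ⊓ Subgroup.centralizer {t} ≤ D) (h2 : W ⊓ Subgroup.centralizer {s} ≤ D)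
    (h3 : W ⊓ Subgroup.centralizer {t * s} ≤ D) : W ≤ D := by
  have ht2 : t * t = 1 := by rw [← pow_two, ← ht, pow_orderOf_eq_one]
  have hs2 : s * s = 1 := by rw [← pow_two, ← hs, pow_orderOf_eq_one]
  have ht1 : t ≠ 1 := by
    intro h; rw [h, orderOf_one] at ht; omega
  have hs1 : s ≠ 1 := by
    intro h; rw [h, orderOf_one] at hs; omega
  have hts1 : t * s ≠ 1 := by
    intro h
    apply hne
    have : t = s⁻¹ := eq_inv_of_mul_eq_one_left h
    rw [this, inv_eq_of_mul_eq_one_right hs2]
  set A : Subgroup X := four t s hts ht2 hs2 with hA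
  have hmemA : ∀ x, x ∈ A ↔ (x = 1 ∨ x = t ∨ x = s ∨ x = t * s) := fun x => Iff.rfl
  have hC : Commute t s := hts
  have hcomm : ∀ a ∈ A, ∀ b ∈ A, a * b = b * a := by
    rintro a (rfl | rfl | rfl | rfl) b (rfl | rfl | rfl | rfl)
    all_goals first
      | exact Commute.one_left _
      | exact Commute.one_right _
      | exact Commute.refl _
      | exact hC
      | exact hC.symm
      | exact (Commute.refl _).mul_right hC
      | exact hC.symm.mul_right (Commute.refl _)
      | exact (Commute.refl _).mul_left hC.symm
      | exact hC.mul_left (Commute.refl _)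
  have : IsMulCommutative A := ⟨⟨fun a b => Subtype.ext (hcomm a a.2 b b.2)⟩⟩
  -- every element of A squares to 1
  have hsq : ∀ a ∈ A, a * a = 1 := by
    rintro a (rfl | rfl | rfl | rfl)
    · simp
    · exact ht2
    · exact hs2
    · rw [mul_assoc, ← mul_assoc s t s, hts.symm, mul_assoc t s s, hs2, mul_one, ht2]
  -- card A = 4
  have hcardA : Nat.card A = 4 := by
    classical
    have : (A : Set X) = ({1, t, s, t * s} : Finset X) := by
      ext x
      simp only [SetLike.mem_coe, hmemA, Finset.coe_insert, Finset.coe_singleton,
        Set.mem_insert_iff, Set.mem_singleton_iff]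
    have h4 : ({1, t, s, t * s} : Finset X).card = 4 := by
      have hts_t : t * s ≠ t := by
        intro h; apply hs1; exact mul_left_cancel (a := t) (by rw [h, mul_one])
      have hts_s : t * s ≠ s := by
        intro h; apply ht1; exact mul_right_cancel (b := s) (by rw [h, one_mul])
      rw [Finset.card_insert_of_notMem, Finset.card_insert_of_notMem,
        Finset.card_insert_of_notMem, Finset.card_singleton]
      · simp only [Finset.mem_singleton]; exact fun h => hts_s h.symm
      · simp only [Finset.mem_insert, Finset.mem_singleton, not_or]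
        exact ⟨hne, fun h => hts_t h.symm⟩
      · simp only [Finset.mem_insert, Finset.mem_singleton, not_or]
        exact ⟨fun h => ht1 h.symm, fun h => hs1 h.symm, fun h => hts1 h.symm⟩
    have : Nat.card A = Nat.card (({1, t, s, t * s} : Finset X) : Set X) := by
      rw [← this]; rfl
    rw [this, Nat.card_coe_set_eq, Set.ncard_coe_finset, h4]
  have hnc : ¬ IsCyclic A := by
    intro hc
    obtain ⟨a, ha⟩ := hc.exists_generator
    have hord : orderOf a = 4 := by
      rw [orderOf_eq_card_of_forall_mem_zpowers ha, hcardA]
    have : a ^ 2 = 1 := by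
      rw [pow_two]; exact Subtype.ext (hsq a a.2)
    have := orderOf_dvd_of_pow_eq_one this
    rw [hord] at this
    omega
  have hAK : A ≤ Subgroup.normalizer (W : Set X) := by
    intro a _
    exact (Subgroup.normalizer_eq_top (H := W)).symm ▸ Subgroup.mem_top a
  have hcop : (Nat.card A).Coprime (Nat.card W) := by
    rw [hcardA]
    have : Nat.Coprime 2 (Nat.card W) := (Nat.coprime_two_left.mpr hW)
    exact Nat.Coprime.pow_left 2 this
  have hgen := Cfsg.Agent.Lib.Helper1.coprime_generated_by_centralizers A W hnc hAK hcop
  rw [← hgen]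
  apply iSup₂_le
  rintro a ⟨haA, ha1⟩
  rcases haA with rfl | rfl | rfl | rfl
  · exact absurd rfl ha1
  · exact h1
  · exact h2
  · exact h3

end Cfsg.Agent.Lib.Helper3.SRCU6
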