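import Mathlib
import Cfsg.Prelude.Def_Local
import Cfsg.Agent.Lib.Helper3.SRCU6
set_option autoImplicit false

namespace Cfsg.Agent.Lib.Helper3.SRC

open Cfsg

/-- U6: a four-group `{1,t,s,ts}` acting on a normal subgroup `W` of odd order: `W` is generated
by the three fixed-point subgroups (wrapper of `Helper1.coprime_generated_by_centralizers`). -/
theorem U6 {X : Type*} [Group X] [Finite X] (W : Subgroup X) [W.Normal]
    (hW : Odd (Nat.card ↥W)) (t s : X) (ht : orderOf t = 2) (hs : orderOf s = 2)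
    (hst : s * t = t * s) (hne : s ≠ t) (D : Subgroup X)
    (h1 : ∀ w ∈ W, w * t = t * w → w ∈ D) (h2 : ∀ w ∈ W, w * s = s * w → w ∈ D)
    (h3 : ∀ w ∈ W, w * (t * s) = (t * s) * w → w ∈ D) : W ≤ D := by
  apply Cfsg.Agent.Lib.Helper3.SRCU6.le_of_four_group W inferInstance hW t s ht hs hst.symm
    (fun h => hne h.symm) D
  · rintro w ⟨hwW, hwc⟩
    apply h1 w hwW
    have := Subgroup.mem_centralizer_iff.mp hwc t rfl
    exact this.symm
  · rintro w ⟨hwW, hwc⟩
    apply h2 w hwW
    have := Subgroup.mem_centralizer_iff.mp hwc s rfl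
    exact this.symm
  · rintro w ⟨hwW, hwc⟩
    apply h3 w hwW
    have := Subgroup.mem_centralizer_iff.mp hwc (t * s) rfl
    exact this.symm

end Cfsg.Agent.Lib.Helper3.SRC
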