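import Mathlib
import Cfsg.Prelude.Def_Local
import Cfsg.Agent.Lib.Helper8.PComp5
set_option autoImplicit false

namespace Cfsg.Agent.Lib.Helper3.SRC

open Cfsg
open scoped commutatorElement

/-- U8: a 2-component `L` containing a quasisimple `P` with `[P, O(X)] = 1` is quasisimple. -/
theorem U8 {X : Type*} [Group X] [Finite X] (P : Subgroup X)
    (hq : Cfsg.IsQuasisimple ↥P) (hPW : ⁅P, Cfsg.oddCore X⁆ = ⊥)
    (L : Subgroup X) (hL : Cfsg.IsPComponent 2 L) (hPL : P ≤ L) : Cfsg.IsQuasisimple ↥L := by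
  have : Fact (Nat.Prime 2) := ⟨Nat.prime_two⟩
  rw [Cfsg.Agent.Lib.Helper8.PComp.isPComponent_isQuasisimple_iff hL,
    Cfsg.Agent.Lib.Helper8.PComp.map_pPrimeCore_subtype 2 hL.1]
  have hWdef : Cfsg.oddCore X = pPrimeCore 2 X := rfl
  rw [hWdef] at hPW
  set W : Subgroup X := pPrimeCore 2 X with hW
  have hWn : W.Normal := Cfsg.Agent.Lib.Helper1.pPrimeCore_normal 2
  obtain ⟨hsn, hcomp, hmin⟩ := hL
  set f : X →* X ⧸ W := QuotientGroup.mk' W with hf
  -- the centralizer in L of W ⊓ L
  set M : Subgroup X := L ⊓ Subgroup.centralizer ((W ⊓ L : Subgroup X) : Set X) with hM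
  have hML : M ≤ L := inf_le_left
  have hn : L ≤ Subgroup.normalizer (M : Set X) := by
    intro l hl
    have key : ∀ l ∈ L, ∀ m ∈ M, l * m * l⁻¹ ∈ M := by
      intro l hl m hm
      refine ⟨L.mul_mem (L.mul_mem hl hm.1) (L.inv_mem hl), ?_⟩
      show l * m * l⁻¹ ∈ Subgroup.centralizer ((W ⊓ L : Subgroup X) : Set X)
      rw [Subgroup.mem_centralizer_iff]
      intro w hw
      have hw' : l⁻¹ * w * l ∈ (W ⊓ L : Subgroup X) := by
        refine ⟨?_, L.mul_mem (L.mul_mem (L.inv_mem hl) hw.2) hl⟩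
        have := hWn.conj_mem w hw.1 l⁻¹
        rwa [inv_inv] at this
      have h1 := Subgroup.mem_centralizer_iff.mp hm.2 _ hw'
      -- (l⁻¹ w l) m = m (l⁻¹ w l)
      calc w * (l * m * l⁻¹) = l * ((l⁻¹ * w * l) * m) * l⁻¹ := by group
        _ = l * (m * (l⁻¹ * w * l)) * l⁻¹ := by rw [h1]
        _ = l * m * l⁻¹ * w := by group
    rw [Subgroup.mem_normalizer_iff]
    intro m
    constructor
    · intro hm; exact key l hl m hm
    · intro hm
      have := key l⁻¹ (L.inv_mem hl) _ hm
      rw [inv_inv] at this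
      have h2 : l⁻¹ * (l * m * l⁻¹) * l = m := by group
      rwa [h2] at this
  have hMsn : M.IsSubnormal :=
    Cfsg.Agent.Lib.Helper8.PComp.isSubnormal_of_le_normalizer hsn hML hn
  have hPcW : P ≤ Subgroup.centralizer (W : Set X) := by
    intro x hx
    rw [Subgroup.mem_centralizer_iff]
    intro w hw
    have h1 : ⁅x, w⁆ ∈ ⁅P, W⁆ := Subgroup.commutator_mem_commutator hx hw
    rw [hPW, Subgroup.mem_bot, commutatorElement_eq_one_iff_mul_comm] at h1
    exact h1.symm
  have hPM : P ≤ M := by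
    intro x hx
    refine ⟨hPL hx, ?_⟩
    show x ∈ Subgroup.centralizer ((W ⊓ L : Subgroup X) : Set X)
    rw [Subgroup.mem_centralizer_iff]
    intro w hw
    exact Subgroup.mem_centralizer_iff.mp (hPcW hx) w hw.1
  -- image of M is normal in the image of L
  have hnbar : L.map f ≤ Subgroup.normalizer ((M.map f : Subgroup (X ⧸ W)) : Set (X ⧸ W)) :=
    Cfsg.Agent.Lib.Helper8.PComp.le_normalizer_map f hn
  have hMLbar : M.map f ≤ L.map f := Subgroup.map_mono hML
  have hnorm : ((M.map f).subgroupOf (L.map f)).Normal :=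
    (Subgroup.normal_subgroupOf_iff_le_normalizer hMLbar).2 hnbar
  have hLM : M = L := by
    rcases Cfsg.Agent.Lib.Helper2.isQuasisimple_normal_eq_top_or_le_center hcomp.2
      ((M.map f).subgroupOf (L.map f)) with h | h
    · apply hmin M hMsn hML
      rw [Subgroup.subgroupOf_eq_top] at h
      exact le_antisymm hMLbar h
    · exfalso
      -- P' ≤ W
      have hcomm : ∀ x ∈ P, ∀ y ∈ P, ⁅x, y⁆ ∈ W := by
        intro x hx y hy
        have hxM : f x ∈ M.map f := ⟨x, hPM hx, rfl⟩
        have hyL : f y ∈ L.map f := ⟨y, hPL hy, rfl⟩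
        have hxL : f x ∈ L.map f := hMLbar hxM
        have hc : (⟨f x, hxL⟩ : ↥(L.map f)) ∈ Subgroup.center ↥(L.map f) :=
          h (show (⟨f x, hxL⟩ : ↥(L.map f)) ∈ (M.map f).subgroupOf (L.map f) from
            Subgroup.mem_subgroupOf.mpr hxM)
        have h1 := Subgroup.mem_center_iff.mp hc ⟨f y, hyL⟩
        have h2 : f y * f x = f x * f y := congrArg Subtype.val h1
        have h3 : f ⁅x, y⁆ = 1 := by
          rw [map_commutatorElement, commutatorElement_eq_one_iff_mul_comm]
          exact h2.symm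
        have h4 : ⁅x, y⁆ ∈ f.ker := h3
        rwa [hf, QuotientGroup.ker_mk'] at h4
      have hPP : ⁅P, P⁆ ≤ W := by
        rw [Subgroup.commutator_le]
        exact hcomm
      have hperf : ⁅P, P⁆ = P := Subgroup.isPerfect_iff.1 hq.1
      have hPleW : P ≤ W := hperf ▸ hPP
      have hPbot : P = ⊥ := by
        apply Cfsg.Agent.Lib.Helper8.PComp.eq_bot_of_perfect_of_commutator_eq_bot hperf
        rw [eq_bot_iff, ← hPW]
        exact Subgroup.commutator_mono le_rfl hPleW
      have := hq.2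
      have h1 : Nontrivial (↥P ⧸ Subgroup.center ↥P) := inferInstance
      have h2 : Subsingleton ↥P := by
        rw [hPbot]; infer_instance
      have h3 : Subsingleton (↥P ⧸ Subgroup.center ↥P) :=
        (QuotientGroup.mk_surjective (s := Subgroup.center ↥P)).subsingleton
      exact not_subsingleton _ h3
  rw [Subgroup.commutator_eq_bot_iff_le_centralizer]
  intro l hl
  have : l ∈ M := hLM ▸ hl
  exact this.2

end Cfsg.Agent.Lib.Helper3.SRC
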