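import Mathlib
import Cfsg.Prelude.Def_Local
set_option autoImplicit false

namespace Cfsg.Agent.Lib.Helper3.SSX

open Cfsg
open scoped commutatorElement

/-- V1: extraction of `r` with `a = [r,t] ≠ 1`, `a ∈ A`, `r⁻¹ a r ∈ A`. -/
theorem V1 {G : Type*} [Group G] (A R : Subgroup G) (t : G)
    (hc1 : ⁅R, Subgroup.zpowers t⁆ ≠ ⊥) (hc2 : ⁅R, Subgroup.zpowers t⁆ ≤ A) :
    ∃ r ∈ R, r * t * r⁻¹ * t⁻¹ ≠ 1 ∧ r * t * r⁻¹ * t⁻¹ ∈ A ∧
      r⁻¹ * (r * t * r⁻¹ * t⁻¹) * r ∈ A := by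
  have htz : t ∈ Subgroup.zpowers t := Subgroup.mem_zpowers t
  have hex : ∃ r ∈ R, r * t * r⁻¹ * t⁻¹ ≠ 1 := by
    by_contra hcon
    apply hc1
    rw [Subgroup.commutator_eq_bot_iff_le_centralizer]
    intro r hr
    have hrt : r * t = t * r := by
      by_contra hne
      apply hcon
      refine ⟨r, hr, ?_⟩
      intro h1
      apply hne
      have h2 := mul_inv_eq_one.mp h1
      exact mul_inv_eq_iff_eq_mul.mp h2
    rw [Subgroup.mem_centralizer_iff]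
    intro z hz
    obtain ⟨k, rfl⟩ := Subgroup.mem_zpowers_iff.mp hz
    have : Commute r t := hrt
    exact (this.zpow_right k).symm
  obtain ⟨r, hr, hne⟩ := hex
  refine ⟨r, hr, hne, ?_, ?_⟩
  · apply hc2
    have : r * t * r⁻¹ * t⁻¹ = ⁅r, t⁆ := (commutatorElement_def r t).symm
    rw [this]
    exact Subgroup.commutator_mem_commutator hr htz
  · apply hc2
    have : r⁻¹ * (r * t * r⁻¹ * t⁻¹) * r = (⁅r⁻¹, t⁆)⁻¹ := by
      rw [commutatorElement_def]; group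
    rw [this]
    exact Subgroup.inv_mem _ (Subgroup.commutator_mem_commutator (R.inv_mem hr) htz)

end Cfsg.Agent.Lib.Helper3.SSX
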