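import Mathlib
import Cfsg.Prelude
import Cfsg.Agent.Lib.Helper3.MaxU8

set_option autoImplicit false
set_option maxHeartbeats 4000000
set_option maxRecDepth 100000
set_option linter.unusedVariables false
set_option linter.unusedSectionVars false
set_option linter.style.haveILetI false
set_option linter.deprecated false

/-! Dimension three: the special unitary group stabilises no orthogonal frame and lies in no
subfield group. -/

namespace Cfsg.Agent.Lib.Helper3.SU3

open Matrix Cfsg Cfsg.Geo Module Cfsg.Agent.Lib.Helper3.MaxU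
open Cfsg.Agent.Lib.Helper5.Herm Cfsg.Agent.Lib.Helper5.HermTv Cfsg.Agent.Lib.Helper5.HermSU
  Cfsg.Agent.Lib.Helper5.HermGen Cfsg.Agent.Lib.Helper5.SUCentres
  Cfsg.Agent.Lib.Helper5.HermSimple Cfsg.Agent.Lib.Helper5.SUTransv
  Cfsg.Agent.Lib.Helper5.HermCount Cfsg.Agent.Lib.Helper5.HermEich
  Cfsg.Agent.Lib.Helper5.HermBridge

variable {F : Type*} [Field F] [Fintype F] {q : ℕ} (hF : Fintype.card F = q ^ 2) {n : ℕ}

include hF in
/-- a fixed element different from zero and one -/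
theorem exists_fixed_ne_one (hq : 3 ≤ q) : ∃ a : F, a ≠ 0 ∧ a ≠ 1 ∧ a ^ q = a := by
  classical
  by_contra hcon
  push Not at hcon
  have hsub : ∀ c : {c : F // c ≠ 0 ∧ c ^ q = c}, c = ⟨1, one_ne_zero, one_pow q⟩ := by
    rintro ⟨c, hc0, hc⟩
    apply Subtype.ext
    by_contra h1
    exact h1 (by
      by_contra h2
      exact absurd hc (hcon c hc0 h2))
  have hcard : Nat.card {c : F // c ≠ 0 ∧ c ^ q = c} ≤ 1 := by
    haveI : Subsingleton {c : F // c ≠ 0 ∧ c ^ q = c} :=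
      ⟨fun a b => by rw [hsub a, hsub b]⟩
    exact Finite.card_le_one_iff_subsingleton.2 inferInstance
  rw [card_fixed hF] at hcard
  omega

include hF in
/-- the special unitary group stabilises no non-degenerate decomposition (field with at least
nine elements) -/
theorem not_le_decomp_nondeg' (hq : 3 ≤ q) {t m : ℕ} {D : Fin t → Submodule F (Fin n → F)}
    (hD : IsNondegenerateMDecomposition (hermForm n F q) m D) :
    ¬ SUg n F q ≤ decompositionStabilizer D := by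
  classical
  intro hle
  have ht := hD.decomp.two_le
  have hm := hD.decomp.pos
  have hne : ∀ i, D i ≠ ⊥ := by
    intro i h
    have := hD.decomp.finrank_eq i
    rw [h, finrank_bot] at this
    omega
  have horth : ∀ i j, i ≠ j → ∀ x ∈ D i, ∀ y ∈ D j, hermForm n F q x y = 0 :=
    fun i j hij x hx y hy => hD.orthogonal i j hij x hx y hy
  obtain ⟨c, hc0, hc⟩ := exists_c hF
  obtain ⟨a, ha0, ha1, ha⟩ := exists_fixed_ne_one hF hq
  set i₀ : Fin t := ⟨0, by omega⟩ with hi₀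
  set i₁ : Fin t := ⟨1, by omega⟩ with hi₁
  have h01 : i₀ ≠ i₁ := by simp [hi₀, hi₁, Fin.ext_iff]
  obtain ⟨b₀, hb₀, hν₀⟩ := exists_aniso hF (D i₀) (hne i₀) (hD.nondegenerate i₀)
  obtain ⟨b₁, hb₁, hν₁⟩ := exists_aniso hF (D i₁) (hne i₁) (hD.nondegenerate i₁)
  obtain ⟨α, hα⟩ := exists_scale_neg hF (herm_self_fix hF b₀) (herm_self_fix hF b₁) hν₁
  have hα0 : α ≠ 0 := by
    rintro rfl
    rw [zero_pow (Nat.succ_ne_zero q), zero_mul, add_zero] at hα
    exact hν₀ hα
  -- choose the multiplier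
  obtain ⟨c', hc'0, hc', hlam1⟩ : ∃ c' : F, c' ≠ 0 ∧ c' ^ q = -c' ∧
      c' * hermForm n F q b₀ b₀ ≠ -1 := by
    by_cases h : c * hermForm n F q b₀ b₀ = -1
    · refine ⟨a * c, mul_ne_zero ha0 hc0, by rw [mul_pow, ha, hc]; ring, ?_⟩
      intro h2
      have h3 : a * (c * hermForm n F q b₀ b₀) = -1 := by rw [← h2]; ring
      rw [h] at h3
      apply ha1
      have : a * (-1) = 1 * (-1) := by rw [h3]; ring
      exact mul_right_cancel₀ (by norm_num) this
    · exact ⟨c, hc0, hc, h⟩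
  set v : Fin n → F := b₀ + α • b₁ with hv
  have hvv : hermForm n F q v v = 0 := by
    simp only [hv, hermForm_add_left, hermForm_add_right hF, hermForm_smul_left,
      hermForm_smul_right, horth i₀ i₁ h01 b₀ hb₀ b₁ hb₁, horth i₁ i₀ h01.symm b₁ hb₁ b₀ hb₀]
    linear_combination hα
  have hb₀v : hermForm n F q b₀ v = hermForm n F q b₀ b₀ := by
    simp only [hv, hermForm_add_right hF, hermForm_smul_right,
      horth i₀ i₁ h01 b₀ hb₀ b₁ hb₁]
    ring
  obtain ⟨g, hg, hgx⟩ := exists_tv hF v hvv c' hc'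
  obtain ⟨j, hj⟩ := stab_map_mem g (hle hg) hb₀
  rw [hgx, hb₀v] at hj
  set lam : F := c' * hermForm n F q b₀ b₀ with hlam
  have hlam0 : lam ≠ 0 := mul_ne_zero hc'0 hν₀
  have hb₁0 : b₁ ≠ 0 := fun h => hν₁ (by rw [h, hermForm_zero_left])
  have hb₀0 : b₀ ≠ 0 := fun h => hν₀ (by rw [h, hermForm_zero_left])
  have hrew : b₀ + lam • v = (1 + lam) • b₀ + (lam * α) • b₁ + 0 := by
    rw [hv]
    module
  rw [hrew] at hj
  have h1l : (1 + lam) ≠ 0 := by
    intro h
    apply hlam1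
    linear_combination h
  exact not_mem_of_add3 hD.decomp h01 ((D i₀).smul_mem _ hb₀) ((D i₁).smul_mem _ hb₁)
    (smul_ne_zero h1l hb₀0) (smul_ne_zero (mul_ne_zero hlam0 hα0) hb₁0)
    (Submodule.zero_mem _) j hj

include hF in
/-- if the special unitary group lies in a subfield group, every isotropic vector is rational up
to a scalar -/
theorem iso_rational (hn : 3 ≤ n) (F₀ : Subfield F) (P : GL (Fin n) F)
    (hle : SUg n F q ≤ subfieldSubgroup F₀ P) (v : Fin n → F) (hv0 : v ≠ 0)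
    (hv : hermForm n F q v v = 0) :
    ∃ μ : F, μ ≠ 0 ∧ ∀ i, μ * ((((P⁻¹ : GL (Fin n) F) : Matrix (Fin n) (Fin n) F)) *ᵥ v) i ∈ F₀ := by
  classical
  set Pinv : Matrix (Fin n) (Fin n) F := ((P⁻¹ : GL (Fin n) F) : Matrix (Fin n) (Fin n) F) with hPi
  have hPiP : ∀ x, Pinv *ᵥ ((P : Matrix (Fin n) (Fin n) F) *ᵥ x) = x := by
    intro x
    rw [Matrix.mulVec_mulVec, hPi, ← Units.val_mul, inv_mul_cancel, Units.val_one,
      Matrix.one_mulVec]
  have hPPi : ∀ x, (P : Matrix (Fin n) (Fin n) F) *ᵥ (Pinv *ᵥ x) = x := by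
    intro x
    rw [Matrix.mulVec_mulVec, hPi, ← Units.val_mul, mul_inv_cancel, Units.val_one,
      Matrix.one_mulVec]
  obtain ⟨c, hc0, hc⟩ := exists_c hF
  obtain ⟨g, hg, hgx⟩ := exists_tv hF v hv c hc
  obtain ⟨u, hu, hug⟩ := hle hg
  obtain ⟨y, ⟨y₀, rfl⟩, z, hz, hyz⟩ := Subgroup.mem_sup_of_normal_right.1 hu
  obtain ⟨ζ, hζ⟩ := (mem_scalars_iff z).1 hz
  have hug' : P * u * P⁻¹ = g := hug
  set Y : Matrix (Fin n) (Fin n) F :=
    ((Matrix.GeneralLinearGroup.map (F₀.subtype : F₀ →+* F) y₀ : GL (Fin n) F) :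
      Matrix (Fin n) (Fin n) F) with hYdef
  have hY : ∀ i j, Y i j ∈ F₀ := by
    intro i j
    show F₀.subtype _ ∈ F₀
    exact Subtype.prop _
  have hu_mat : (u : Matrix (Fin n) (Fin n) F) = (ζ : F) • Y := by
    rw [← hyz, Units.val_mul, hζ, Matrix.mul_smul, Matrix.mul_one]
  have hgmat : (g : Matrix (Fin n) (Fin n) F) =
      (P : Matrix (Fin n) (Fin n) F) * (u : Matrix (Fin n) (Fin n) F) * Pinv := by
    rw [← hug']
    rfl
  set w : Fin n → F := Pinv *ᵥ v with hw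
  set ψ : Fin n → F := fun b =>
    c * hermForm n F q ((P : Matrix (Fin n) (Fin n) F) *ᵥ (Pi.single b 1)) v with hψ
  have hux : ∀ x, (u : Matrix (Fin n) (Fin n) F) *ᵥ x =
      x + (c * hermForm n F q ((P : Matrix (Fin n) (Fin n) F) *ᵥ x) v) • w := by
    intro x
    have h1 := hgx ((P : Matrix (Fin n) (Fin n) F) *ᵥ x)
    rw [hgmat, ← Matrix.mulVec_mulVec, ← Matrix.mulVec_mulVec, hPiP] at h1
    have h2 := congrArg (fun y => Pinv *ᵥ y) h1
    simp only [hPiP, Matrix.mulVec_add, Matrix.mulVec_smul] at h2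
    exact h2
  have hM : ∀ a b, (ζ : F) * Y a b = (if a = b then 1 else 0) + w a * ψ b := by
    intro a b
    have h1 := congrFun (hux (Pi.single b 1)) a
    rw [hu_mat, Matrix.smul_mulVec, Matrix.mulVec_single_one] at h1
    simp only [Pi.smul_apply, Matrix.col_apply, smul_eq_mul, Pi.add_apply, Pi.single_apply] at h1
    rw [h1]
    simp only [hψ, eq_comm]
    ring
  have hw0 : w ≠ 0 := by
    intro h
    apply hv0
    rw [← hPPi v, ← hw, h, Matrix.mulVec_zero]
  have hlin : ∀ x : Fin n → F, ∑ b, x b * ψ b =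
      c * hermForm n F q ((P : Matrix (Fin n) (Fin n) F) *ᵥ x) v := by
    intro x
    have h1 : x = ∑ b, x b • (Pi.single b (1 : F) : Fin n → F) := by
      funext a
      simp [Finset.sum_apply, Pi.single_apply]
    have h2 : (hermSesq hF n v) ((Matrix.toLin' (P : Matrix (Fin n) (Fin n) F)) x) =
        ∑ b, x b • (hermSesq hF n v) ((Matrix.toLin' (P : Matrix (Fin n) (Fin n) F))
          (Pi.single b 1)) := by
      conv_lhs => rw [h1]
      rw [map_sum, map_sum]
      refine Finset.sum_congr rfl fun b _ => ?_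
      rw [map_smul, map_smul]
    simp only [hermSesq_apply, Matrix.toLin'_apply, smul_eq_mul] at h2
    rw [h2, Finset.mul_sum]
    refine Finset.sum_congr rfl fun b _ => ?_
    simp only [hψ]
    ring
  have hψ0 : ψ ≠ 0 := by
    intro h
    obtain ⟨f, -, hfv, -⟩ := exists_nonorth hF v hv0 hv
    have h1 := hlin (Pinv *ᵥ f)
    rw [hPPi, hfv, mul_one] at h1
    apply hc0
    rw [← h1]
    apply Finset.sum_eq_zero
    intro b _
    rw [h]
    simp
  have hψw : ψ ⬝ᵥ w = 0 := by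
    have h1 := hlin w
    rw [hw, hPPi, hv, mul_zero] at h1
    unfold dotProduct
    rw [← h1]
    refine Finset.sum_congr rfl fun b _ => ?_
    rw [mul_comm]
  exact rational_of_tv hn F₀ Y hY (ζ : F) ζ.ne_zero w ψ hw0 hψ0 hψw hM

include hF in
/-- the special unitary group in dimension three lies in no subfield group -/
theorem not_le_subfield3 (F₀ : Subfield F) (hF₀ : F₀ ≠ ⊤) (P : GL (Fin 3) F) :
    ¬ SUg 3 F q ≤ subfieldSubgroup F₀ P := by
  classical
  intro hle
  have hq2 := two_le_q hF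
  set Pinv : Matrix (Fin 3) (Fin 3) F := ((P⁻¹ : GL (Fin 3) F) : Matrix (Fin 3) (Fin 3) F) with hPi
  have hPPi : ∀ x, (P : Matrix (Fin 3) (Fin 3) F) *ᵥ (Pinv *ᵥ x) = x := by
    intro x
    rw [Matrix.mulVec_mulVec, hPi, ← Units.val_mul, mul_inv_cancel, Units.val_one,
      Matrix.one_mulVec]
  -- the cardinality of the subfield
  have hq₀ : Nat.card F₀ ≤ q := by
    have hlt : Module.finrank F₀ F ≠ 1 := by
      intro h1
      apply hF₀
      have := (Subalgebra.bot_eq_top_iff_finrank_eq_one (F := F₀) (E := F)).2 h1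
      rw [eq_top_iff]
      intro x _
      have hx : x ∈ (⊤ : Subalgebra F₀ F) := Algebra.mem_top
      rw [← this] at hx
      obtain ⟨y, rfl⟩ := Algebra.mem_bot.1 hx
      exact y.2
    have hpos : 0 < Module.finrank F₀ F := Module.finrank_pos
    have hcard : Nat.card F = Nat.card F₀ ^ Module.finrank F₀ F :=
      Module.natCard_eq_pow_finrank (K := F₀) (V := F)
    rw [Nat.card_eq_fintype_card, hF] at hcard
    have h2 : 2 ≤ Module.finrank F₀ F := by omega
    have hpos₀ : 0 < Nat.card F₀ := Nat.card_pos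
    by_contra hcon
    push Not at hcon
    have : q ^ 2 < Nat.card F₀ ^ 2 := Nat.pow_lt_pow_left hcon (by norm_num)
    have h3 : Nat.card F₀ ^ 2 ≤ Nat.card F₀ ^ Module.finrank F₀ F :=
      Nat.pow_le_pow_right hpos₀ h2
    omega
  -- the map from pairs onto the isotropic vectors
  let dom := Fˣ × (Fin 3 → F₀)
  let f : dom → (Fin 3 → F) := fun x =>
    ((x.1⁻¹ : Fˣ) : F) • ((P : Matrix (Fin 3) (Fin 3) F) *ᵥ (fun i => ((x.2 i : F₀) : F)))
  have hsub : {v : Fin 3 → F | hermForm 3 F q v v = 0 ∧ v ≠ 0} ⊆ Set.range f := by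
    rintro v ⟨hv, hv0⟩
    obtain ⟨μ, hμ0, hμ⟩ := iso_rational hF (le_refl 3) F₀ P hle v hv0 hv
    refine ⟨(Units.mk0 μ hμ0, fun i => ⟨μ * (Pinv *ᵥ v) i, hμ i⟩), ?_⟩
    show ((Units.mk0 μ hμ0)⁻¹ : Fˣ).val • ((P : Matrix (Fin 3) (Fin 3) F) *ᵥ
      (fun i => μ * (Pinv *ᵥ v) i)) = v
    have h1 : (fun i => μ * (Pinv *ᵥ v) i) = μ • (Pinv *ᵥ v) := by
      funext i
      simp
    rw [h1, Matrix.mulVec_smul, hPPi, smul_smul, Units.val_inv_eq_inv_val, Units.val_mk0,
      inv_mul_cancel₀ hμ0, one_smul]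
  -- cardinalities
  have hA : A F q 3 0 = (q ^ 3 + 1) * (q ^ 2 - 1) + 1 := by
    rw [A_zero hF 3, if_neg (by decide)]
  have hcardS : Set.ncard {v : Fin 3 → F | hermForm 3 F q v v = 0 ∧ v ≠ 0} + 1 = A F q 3 0 := by
    unfold A
    have h0 : (0 : Fin 3 → F) ∈ {v : Fin 3 → F | hermForm 3 F q v v = 0} := by
      show hermForm 3 F q 0 0 = 0
      rw [hermForm_zero_left]
    have h1 : {v : Fin 3 → F | hermForm 3 F q v v = 0 ∧ v ≠ 0} =
        {v : Fin 3 → F | hermForm 3 F q v v = 0} \ {0} := by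
      ext v
      simp
    rw [h1, Set.ncard_diff_singleton_add_one h0 (Set.toFinite _)]
    rw [← Nat.card_coe_set_eq]
    rfl
  have hle1 : Set.ncard {v : Fin 3 → F | hermForm 3 F q v v = 0 ∧ v ≠ 0} ≤ Nat.card dom := by
    refine (Set.ncard_le_ncard hsub (Set.toFinite _)).trans ?_
    rw [← Set.image_univ]
    refine (Set.ncard_image_le (Set.toFinite _)).trans ?_
    rw [Set.ncard_univ]
  have hdom : Nat.card dom = (q ^ 2 - 1) * (Nat.card F₀) ^ 3 := by
    show Nat.card (Fˣ × (Fin 3 → F₀)) = _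
    rw [Nat.card_prod, Nat.card_units, Nat.card_eq_fintype_card (α := F), hF]
    congr 1
    rw [Nat.card_fun]
    simp
  have hq₀3 : (Nat.card F₀) ^ 3 ≤ q ^ 3 := Nat.pow_le_pow_left hq₀ 3
  have hq21 : 1 ≤ q ^ 2 - 1 := by
    have : 4 ≤ q ^ 2 := by nlinarith
    omega
  have : (q ^ 3 + 1) * (q ^ 2 - 1) ≤ (q ^ 2 - 1) * q ^ 3 := by
    have h1 : (q ^ 3 + 1) * (q ^ 2 - 1) + 1 ≤ (q ^ 2 - 1) * (Nat.card F₀) ^ 3 + 1 := by
      rw [← hA, ← hcardS, ← hdom]
      omega
    have h2 : (q ^ 2 - 1) * (Nat.card F₀) ^ 3 ≤ (q ^ 2 - 1) * q ^ 3 :=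
      Nat.mul_le_mul_left _ hq₀3
    omega
  nlinarith

end Cfsg.Agent.Lib.Helper3.SU3
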