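import Mathlib
import Cfsg.Prelude
import Cfsg.Agent.Lib.Helper3.SU3a
import Cfsg.Agent.Lib.Helper9.AschU1

set_option autoImplicit false
set_option maxHeartbeats 4000000
set_option maxRecDepth 100000
set_option linter.unusedVariables false
set_option linter.unusedSectionVars false
set_option linter.style.haveILetI false
set_option linter.deprecated false

/-! Transfer of non-maximality statements: along group isomorphisms, along conjugation, and
along Sylow conjugacy. -/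

namespace Cfsg.Agent.Lib.Helper3.SU3

open Matrix Cfsg Cfsg.Geo Module
open Cfsg.Agent.Lib.Helper3.MaxU
open Cfsg.Agent.Lib.Helper8 Cfsg.Agent.Lib.Helper5
open Cfsg.Agent.Lib.Helper5.HermBridge (sigma_apply)

section ovr
variable {G : Type*} [Group G]

/-- there is a proper subgroup of `Γ` containing all elements of `Γ` with the property, and
an element without the property -/
def HasOver (Γ : Subgroup G) (Pred : G → Prop) : Prop :=
  ∃ K' : Subgroup G, K' < Γ ∧ (∀ g ∈ Γ, Pred g → g ∈ K') ∧ ∃ t ∈ K', ¬ Pred t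

theorem HasOver.notMax {Γ : Subgroup G} {Pred : G → Prop} (h : HasOver Γ Pred)
    (H : Subgroup G) (hle : H ≤ Γ) (hH : ∀ x ∈ H, Pred x) :
    ∃ K' : Subgroup G, H < K' ∧ K' < Γ := by
  obtain ⟨K', hK, hP, t, ht, hnt⟩ := h
  refine ⟨K', ?_, hK⟩
  refine lt_of_le_of_ne (fun x hx => hP x (hle hx) (hH x hx)) ?_
  rintro rfl
  exact hnt (hH t ht)

theorem HasOver.congr {Γ : Subgroup G} {Pred Pred' : G → Prop} (h : HasOver Γ Pred)
    (hpp : ∀ g, Pred g ↔ Pred' g) : HasOver Γ Pred' := by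
  obtain ⟨K', hK, hP, t, ht, hnt⟩ := h
  exact ⟨K', hK, fun g hg hp => hP g hg ((hpp g).2 hp), t, ht, fun hp => hnt ((hpp t).2 hp)⟩

theorem HasOver.comap {G' : Type*} [Group G'] (e : G ≃* G') {Γ : Subgroup G}
    {Γ' : Subgroup G'} (he : ∀ g, e g ∈ Γ' ↔ g ∈ Γ) {Pred' : G' → Prop}
    (h : HasOver Γ' Pred') : HasOver Γ (fun g => Pred' (e g)) := by
  obtain ⟨K', hK, hP, t, ht, hnt⟩ := h
  obtain ⟨hK1, w, hw, hwn⟩ := SetLike.lt_iff_le_and_exists.1 hK
  refine ⟨K'.comap e.toMonoidHom, ?_, ?_, e.symm t, ?_, ?_⟩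
  · refine SetLike.lt_iff_le_and_exists.2 ⟨?_, e.symm w, ?_, ?_⟩
    · intro g hg
      exact (he g).1 (hK1 hg)
    · apply (he _).1
      rw [e.apply_symm_apply]
      exact hw
    · intro hmem
      apply hwn
      have h1 : e (e.symm w) ∈ K' := hmem
      rwa [e.apply_symm_apply] at h1
  · intro g hg hp
    exact hP (e g) ((he g).2 hg) hp
  · show e (e.symm t) ∈ K'
    rw [e.apply_symm_apply]
    exact ht
  · show ¬ Pred' (e (e.symm t))
    rw [e.apply_symm_apply]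
    exact hnt

/-- the conjugation property -/
def NormP (P : Subgroup G) (n : G) : Prop := ∀ x ∈ P, n * x * n⁻¹ ∈ P

theorem HasOver.conj {Γ : Subgroup G} {Pred : G → Prop} (h : HasOver Γ Pred) (x : G)
    (hx : x ∈ Γ) : HasOver Γ (fun g => Pred (x⁻¹ * g * x)) := by
  have h1 := HasOver.comap (MulAut.conj x⁻¹) (Γ := Γ) (Γ' := Γ) (Pred' := Pred) ?_ h
  · refine h1.congr fun g => ?_
    rw [MulAut.conj_apply, inv_inv]
  · intro g
    rw [MulAut.conj_apply, inv_inv]
    constructor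
    · intro hg
      have h2 := Γ.mul_mem (Γ.mul_mem hx hg) (Γ.inv_mem hx)
      have h3 : x * (x⁻¹ * g * x) * x⁻¹ = g := by group
      rwa [h3] at h2
    · intro hg
      exact Γ.mul_mem (Γ.mul_mem (Γ.inv_mem hx) hg) hx

theorem normP_zpowers {s n : G} (h : n * s * n⁻¹ ∈ Subgroup.zpowers s) :
    NormP (Subgroup.zpowers s) n := by
  intro x hx
  obtain ⟨k, rfl⟩ := Subgroup.mem_zpowers_iff.1 hx
  have h1 : n * s ^ k * n⁻¹ = (n * s * n⁻¹) ^ k := by
    rw [conj_zpow]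
  rw [h1]
  exact Subgroup.zpow_mem _ h k

/-- Sylow conjugacy for subgroups of a subgroup -/
theorem exists_conj_of_card (Γ : Subgroup G) [Finite Γ] (p a : ℕ) (hp : p.Prime)
    (P₀ P : Subgroup G) (hP₀ : P₀ ≤ Γ) (hP : P ≤ Γ) (hc₀ : Nat.card P₀ = p ^ a)
    (hc : Nat.card P = p ^ a) (hndvd : ¬ p ^ (a + 1) ∣ Nat.card Γ) :
    ∃ x ∈ Γ, ∀ y, y ∈ P ↔ x⁻¹ * y * x ∈ P₀ := by
  classical
  haveI : Fact p.Prime := ⟨hp⟩
  have hpos : Nat.card Γ ≠ 0 := Nat.card_pos.ne'
  have hcard : ∀ Q : Subgroup G, Q ≤ Γ → Nat.card (Q.subgroupOf Γ) = Nat.card Q := by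
    intro Q hQ
    exact Nat.card_congr (Subgroup.subgroupOfEquivOfLe hQ).toEquiv
  have hfac : (Nat.card Γ).factorization p = a := by
    have h1 : p ^ a ∣ Nat.card Γ := by
      rw [← hc₀, ← hcard P₀ hP₀]
      exact Subgroup.card_subgroup_dvd_card _
    have h2 := (hp.pow_dvd_iff_le_factorization hpos).1 h1
    have h3 : ¬ a + 1 ≤ (Nat.card Γ).factorization p := fun h =>
      hndvd ((hp.pow_dvd_iff_le_factorization hpos).2 h)
    omega
  let S₀ : Sylow p Γ := Sylow.ofCard (P₀.subgroupOf Γ) (by rw [hcard P₀ hP₀, hc₀, hfac])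
  let S : Sylow p Γ := Sylow.ofCard (P.subgroupOf Γ) (by rw [hcard P hP, hc, hfac])
  obtain ⟨x, hx⟩ := MulAction.exists_smul_eq Γ S₀ S
  refine ⟨x.1, x.2, fun y => ?_⟩
  have hx' : ∀ z : Γ, z ∈ (S : Subgroup Γ) ↔ x⁻¹ * z * x ∈ (S₀ : Subgroup Γ) := by
    intro z
    rw [← hx, Sylow.coe_subgroup_smul, Subgroup.mem_pointwise_smul_iff_inv_smul_mem]
    simp only [MulAut.smul_def, MulAut.conj_inv_apply]
  constructor
  · intro hy
    have h1 := (hx' ⟨y, hP hy⟩).1 (by
      show (⟨y, hP hy⟩ : Γ) ∈ P.subgroupOf Γ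
      rw [Subgroup.mem_subgroupOf]
      exact hy)
    have h2 : x⁻¹ * ⟨y, hP hy⟩ * x ∈ P₀.subgroupOf Γ := h1
    rw [Subgroup.mem_subgroupOf] at h2
    exact h2
  · intro hy
    have hyΓ : y ∈ Γ := by
      have h2 := Γ.mul_mem (Γ.mul_mem x.2 (hP₀ hy)) (Γ.inv_mem x.2)
      have h3 : (x : G) * ((x : G)⁻¹ * y * x) * (x : G)⁻¹ = y := by group
      rwa [h3] at h2
    have h1 := (hx' ⟨y, hyΓ⟩).2 (by
      show x⁻¹ * ⟨y, hyΓ⟩ * x ∈ P₀.subgroupOf Γ
      rw [Subgroup.mem_subgroupOf]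
      exact hy)
    have h2 : (⟨y, hyΓ⟩ : Γ) ∈ P.subgroupOf Γ := h1
    rw [Subgroup.mem_subgroupOf] at h2
    exact h2

theorem normP_conj {P₀ P : Subgroup G} {x n : G} (hx : ∀ y, y ∈ P ↔ x⁻¹ * y * x ∈ P₀)
    (hn : NormP P n) : NormP P₀ (x⁻¹ * n * x) := by
  intro z hz
  have h1 : x * z * x⁻¹ ∈ P := by
    rw [hx]
    have : x⁻¹ * (x * z * x⁻¹) * x = z := by group
    rwa [this]
  have h2 := (hx _).1 (hn _ h1)
  have h3 : x⁻¹ * (n * (x * z * x⁻¹) * n⁻¹) * x = x⁻¹ * n * x * z * (x⁻¹ * n * x)⁻¹ := by group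
  rwa [h3] at h2

theorem normP_conj' {P₀ P : Subgroup G} {x n : G} (hx : ∀ y, y ∈ P ↔ x⁻¹ * y * x ∈ P₀)
    (hn : NormP P₀ (x⁻¹ * n * x)) : NormP P n := by
  intro y hy
  have h1 := hn _ ((hx y).1 hy)
  rw [hx]
  have h3 : x⁻¹ * (n * y * n⁻¹) * x = x⁻¹ * n * x * (x⁻¹ * y * x) * (x⁻¹ * n * x)⁻¹ := by group
  rwa [h3]

/-- Sylow transfer of the overgroup property of a normaliser -/
theorem HasOver.sylow (Γ : Subgroup G) [Finite Γ] (p a : ℕ) (hp : p.Prime)
    (P₀ P : Subgroup G) (hP₀ : P₀ ≤ Γ) (hP : P ≤ Γ) (hc₀ : Nat.card P₀ = p ^ a)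
    (hc : Nat.card P = p ^ a) (hndvd : ¬ p ^ (a + 1) ∣ Nat.card Γ)
    (h : HasOver Γ (NormP P₀)) : HasOver Γ (NormP P) := by
  obtain ⟨x, hxΓ, hx⟩ := exists_conj_of_card Γ p a hp P₀ P hP₀ hP hc₀ hc hndvd
  refine (h.conj x hxΓ).congr fun g => ?_
  exact ⟨fun h1 => normP_conj' hx h1, fun h1 => normP_conj hx h1⟩

end ovr

section gl
variable {F : Type*} [Field F] [Fintype F] {K : Type*} [Field K] [Fintype K] {q : ℕ}
  (hF : Fintype.card F = q ^ 2) (hK : Fintype.card K = q ^ 2) (φ : F ≃+* K) {n : ℕ}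

/-- the isomorphism of general linear groups induced by an isomorphism of fields -/
noncomputable def glEquiv (n : ℕ) : GL (Fin n) F ≃* GL (Fin n) K :=
  Units.mapEquiv (RingEquiv.mapMatrix φ).toMulEquiv

theorem glEquiv_val (g : GL (Fin n) F) :
    ((glEquiv φ n g : GL (Fin n) K) : Matrix (Fin n) (Fin n) K) =
      (g : Matrix (Fin n) (Fin n) F).map φ := rfl

theorem star_map (X : Matrix (Fin n) (Fin n) F) :
    Asch.star (HermBridge.sigma hK) (X.map φ) = (Asch.star (HermBridge.sigma hF) X).map φ := by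
  funext i j
  rw [Asch.star_apply, sigma_apply, Matrix.map_apply, Matrix.map_apply, Asch.star_apply,
    sigma_apply, map_pow]

include hF hK in
theorem glEquiv_mem_GU (g : GL (Fin n) F) :
    glEquiv φ n g ∈ Cfsg.GU n K q ↔ g ∈ Cfsg.GU n F q := by
  rw [Cfsg.Agent.Lib.Helper9.AschU.mem_GU_iff hK, Cfsg.Agent.Lib.Helper9.AschU.mem_GU_iff hF,
    glEquiv_val, star_map hF hK]
  have h1 : (Asch.star (HermBridge.sigma hF) (g : Matrix (Fin n) (Fin n) F)).map φ *
      (g : Matrix (Fin n) (Fin n) F).map φ =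
      (Asch.star (HermBridge.sigma hF) (g : Matrix (Fin n) (Fin n) F) *
        (g : Matrix (Fin n) (Fin n) F)).map φ := by
    rw [Matrix.map_mul]
  rw [h1]
  constructor
  · intro h
    have h2 : (1 : Matrix (Fin n) (Fin n) K) = (1 : Matrix (Fin n) (Fin n) F).map φ := by
      rw [Matrix.map_one _ (map_zero _) (map_one _)]
    rw [h2] at h
    exact Matrix.map_injective φ.injective h
  · intro h
    rw [h, Matrix.map_one _ (map_zero _) (map_one _)]

theorem mem_SL_iff' {E : Type*} [Field E] (x : GL (Fin n) E) :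
    x ∈ Cfsg.Geo.specialLinear (Fin n) E ↔ Matrix.det (x : Matrix (Fin n) (Fin n) E) = 1 := by
  show Matrix.GeneralLinearGroup.det x = 1 ↔ _
  rw [Units.ext_iff, Matrix.GeneralLinearGroup.val_det_apply]
  rfl

theorem glEquiv_mem_SL (g : GL (Fin n) F) :
    glEquiv φ n g ∈ Cfsg.Geo.specialLinear (Fin n) K ↔ g ∈ Cfsg.Geo.specialLinear (Fin n) F := by
  rw [mem_SL_iff', mem_SL_iff', glEquiv_val]
  have h1 : Matrix.det ((g : Matrix (Fin n) (Fin n) F).map φ) =
      φ (Matrix.det (g : Matrix (Fin n) (Fin n) F)) := by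
    have := RingHom.map_det φ.toRingHom (g : Matrix (Fin n) (Fin n) F)
    exact this.symm
  rw [h1]
  constructor
  · intro h
    apply φ.injective
    rw [h, map_one]
  · intro h
    rw [h, map_one]

include hF hK in
theorem glEquiv_mem_SUg (g : GL (Fin n) F) :
    glEquiv φ n g ∈ SUg n K q ↔ g ∈ SUg n F q := by
  rw [Subgroup.mem_inf, Subgroup.mem_inf, glEquiv_mem_GU hF hK, glEquiv_mem_SL]

theorem conj_mem_SUg {B : GL (Fin n) F} (hB : B ∈ Cfsg.GU n F q) (g : GL (Fin n) F) :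
    B⁻¹ * g * B ∈ SUg n F q ↔ g ∈ SUg n F q := by
  rw [Subgroup.mem_inf, Subgroup.mem_inf, mem_SL_iff', mem_SL_iff']
  have h1 : B⁻¹ * g * B ∈ Cfsg.GU n F q ↔ g ∈ Cfsg.GU n F q := by
    rw [Subgroup.mul_mem_cancel_right _ hB, Subgroup.mul_mem_cancel_left _ (inv_mem hB)]
  have h2 : Matrix.det ((B⁻¹ * g * B : GL (Fin n) F) : Matrix (Fin n) (Fin n) F) =
      Matrix.det (g : Matrix (Fin n) (Fin n) F) := by
    rw [Units.val_mul, Units.val_mul, Matrix.det_mul, Matrix.det_mul, mul_comm, ← mul_assoc,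
      ← Matrix.det_mul, ← Units.val_mul, mul_inv_cancel, Units.val_one, Matrix.det_one, one_mul]
  rw [h1, h2]

include hF hK in
/-- transfer of the overgroup property from the model to an arbitrary field, after a change
of unitary basis -/
theorem HasOver.toField {Pred' : GL (Fin n) K → Prop} (h : HasOver (SUg n K q) Pred')
    {B : GL (Fin n) F} (hB : B ∈ Cfsg.GU n F q) :
    HasOver (SUg n F q) (fun g => Pred' (glEquiv φ n (B⁻¹ * g * B))) := by
  have h1 := HasOver.comap ((MulAut.conj B⁻¹).trans (glEquiv φ n)) (Γ := SUg n F q)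
    (Γ' := SUg n K q) (Pred' := Pred') ?_ h
  · refine h1.congr fun g => ?_
    rw [MulEquiv.trans_apply, MulAut.conj_apply, inv_inv]
  · intro g
    rw [MulEquiv.trans_apply, MulAut.conj_apply, inv_inv, glEquiv_mem_SUg hF hK,
      conj_mem_SUg hB]

end gl

section preds
variable {E : Type*} [Field E]

/-- every column has at most one non-zero entry -/
def MonP (g : GL (Fin 3) E) : Prop :=
  ∀ j : Fin 3, ∃ i : Fin 3, ∀ i' : Fin 3, i' ≠ i → (g : Matrix (Fin 3) (Fin 3) E) i' j = 0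

/-- a scalar multiple has all its entries fixed by the `q`-th power map -/
def RealP (q : ℕ) (g : GL (Fin 3) E) : Prop :=
  ∃ κ : E, κ ≠ 0 ∧ ∀ i j : Fin 3, (κ * (g : Matrix (Fin 3) (Fin 3) E) i j) ^ q =
    κ * (g : Matrix (Fin 3) (Fin 3) E) i j

variable [Fintype E] {E' : Type*} [Field E'] [Fintype E'] (φ : E ≃+* E')

theorem MonP.map {g : GL (Fin 3) E} (h : MonP g) : MonP (glEquiv φ 3 g) := by
  intro j
  obtain ⟨i, hi⟩ := h j
  refine ⟨i, fun i' hi' => ?_⟩
  rw [glEquiv_val, Matrix.map_apply, hi i' hi', map_zero]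

theorem RealP.map {q : ℕ} {g : GL (Fin 3) E} (h : RealP q g) : RealP q (glEquiv φ 3 g) := by
  obtain ⟨κ, hκ, h1⟩ := h
  refine ⟨φ κ, (map_ne_zero φ).2 hκ, fun i j => ?_⟩
  rw [glEquiv_val, Matrix.map_apply, ← map_mul, ← map_pow, h1 i j]

end preds

section commutant
variable {E : Type*} [Field E]

/-- a matrix commuting with a diagonal matrix with distinct entries and with the cyclic
permutation matrix is a scalar matrix -/
theorem scalar_of_comm (w : E) (hw1 : w ≠ 1) (hw2 : w ^ 2 ≠ 1) (hw3 : w ^ 2 ≠ w)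
    (Y : Matrix (Fin 3) (Fin 3) E)
    (h1 : Y * Matrix.diagonal ![1, w, w ^ 2] = Matrix.diagonal ![1, w, w ^ 2] * Y)
    (h2 : Y * !![0, 0, 1; 1, 0, 0; 0, 1, 0] = !![0, 0, 1; 1, 0, 0; 0, 1, 0] * Y) :
    Y = Y 0 0 • (1 : Matrix (Fin 3) (Fin 3) E) := by
  have hoff : ∀ i j : Fin 3, i ≠ j → Y i j = 0 := by
    intro i j hij
    have h := congrFun (congrFun h1 i) j
    rw [Matrix.mul_diagonal, Matrix.diagonal_mul] at h
    have h3 : Y i j * ((![1, w, w ^ 2] : Fin 3 → E) j - (![1, w, w ^ 2] : Fin 3 → E) i) = 0 := by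
      linear_combination h
    rcases mul_eq_zero.1 h3 with h4 | h4
    · exact h4
    · exfalso
      have hw1' : (1 : E) - w ≠ 0 := sub_ne_zero.2 (Ne.symm hw1)
      have hw2' : w ^ 2 - 1 ≠ 0 := sub_ne_zero.2 hw2
      have hw3' : w ^ 2 - w ≠ 0 := sub_ne_zero.2 hw3
      fin_cases i <;> fin_cases j <;> simp at hij h4
      · exact hw1' (by linear_combination -h4)
      · exact hw2' h4
      · exact hw1' h4
      · exact hw3' h4
      · exact hw2' (by linear_combination -h4)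
      · exact hw3' (by linear_combination -h4)
  have h02 := congrFun (congrFun h2 0) 2
  have h10 := congrFun (congrFun h2 1) 0
  simp [Matrix.mul_apply, Fin.sum_univ_three] at h02 h10
  ext i j
  rw [Matrix.smul_apply, Matrix.one_apply, smul_eq_mul]
  by_cases hij : i = j
  · subst hij
    rw [if_pos rfl, mul_one]
    fin_cases i
    · rfl
    · exact h10
    · exact h02.symm
  · rw [if_neg hij, mul_zero]
    exact hoff i j hij

end commutant

end Cfsg.Agent.Lib.Helper3.SU3
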