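import Mathlib
import Cfsg.Prelude
import Cfsg.Agent.Lib.Helper3.SU3b
import Cfsg.Agent.Lib.Helper3.MaxC14

set_option autoImplicit false
set_option maxHeartbeats 4000000
set_option maxRecDepth 100000
set_option linter.unusedVariables false
set_option linter.unusedSectionVars false
set_option linter.style.haveILetI false
set_option linter.deprecated false

/-! The unitary matrix with given orthonormal columns; the stabiliser of an orthogonal frame is
conjugate, under the unitary group, to a group of monomial matrices. -/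

namespace Cfsg.Agent.Lib.Helper3.SU3

open Matrix Cfsg Cfsg.Geo Module
open Cfsg.Agent.Lib.Helper3.MaxU
open Cfsg.Agent.Lib.Helper8 Cfsg.Agent.Lib.Helper5
open Cfsg.Agent.Lib.Helper5.Herm Cfsg.Agent.Lib.Helper5.HermTv
open Cfsg.Agent.Lib.Helper5.LinDecompForm
open Cfsg.Agent.Lib.Helper5.HermBridge (sigma_apply)

variable {F : Type*} [Field F] [Fintype F] {q : ℕ} (hF : Fintype.card F = q ^ 2) {n : ℕ}

include hF in
/-- the unitary matrix with given orthonormal columns -/
theorem exists_GU_of_orthonormal (b : Fin n → Fin n → F)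
    (hb : ∀ i j, hermForm n F q (b i) (b j) = if i = j then 1 else 0) :
    ∃ B : GL (Fin n) F, B ∈ Cfsg.GU n F q ∧
      ∀ (X : GL (Fin n) F) (i j : Fin n),
        ((B⁻¹ * X * B : GL (Fin n) F) : Matrix (Fin n) (Fin n) F) i j =
          hermForm n F q ((X : Matrix (Fin n) (Fin n) F) *ᵥ b j) (b i) := by
  classical
  set Bm : Matrix (Fin n) (Fin n) F := Matrix.of fun r j => b j r with hBm
  have hstar : Asch.star (HermBridge.sigma hF) Bm * Bm = 1 := by
    ext i j
    rw [Matrix.mul_apply, Matrix.one_apply]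
    have h1 := hb j i
    unfold hermForm at h1
    rw [← ite_congr (propext eq_comm) (fun _ => rfl) (fun _ => rfl), ← h1]
    refine Finset.sum_congr rfl fun r _ => ?_
    rw [Asch.star_apply, sigma_apply, hBm, Matrix.of_apply, Matrix.of_apply, mul_comm]
  let B : GL (Fin n) F := ⟨Bm, Asch.star (HermBridge.sigma hF) Bm, mul_eq_one_comm.1 hstar, hstar⟩
  refine ⟨B, (Cfsg.Agent.Lib.Helper9.AschU.mem_GU_iff hF B).2 hstar, fun X i j => ?_⟩
  have h1 : ((B⁻¹ * X * B : GL (Fin n) F) : Matrix (Fin n) (Fin n) F) =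
      Asch.star (HermBridge.sigma hF) Bm * ((X : Matrix (Fin n) (Fin n) F) * Bm) := by
    rw [Units.val_mul, Units.val_mul, mul_assoc]
    rfl
  rw [h1, Matrix.mul_apply]
  unfold hermForm
  refine Finset.sum_congr rfl fun r _ => ?_
  rw [Asch.star_apply, sigma_apply, mul_comm]
  congr 1

include hF in
/-- an orthonormal frame adapted to a decomposition into non-degenerate lines -/
theorem exists_orthonormal_frame3 {t : ℕ} {D : Fin t → Submodule F (Fin n → F)}
    (hD : IsNondegenerateMDecomposition (hermForm n F q) 1 D) :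
    ∃ b : Fin t → Fin n → F, (∀ i, b i ∈ D i) ∧
      ∀ i j, hermForm n F q (b i) (b j) = if i = j then 1 else 0 := by
  classical
  set b0 : Fin t → Fin n → F := fun i => bas hD.decomp (i, 0) with hb0
  have hmem : ∀ i, b0 i ∈ D i := fun i => bas_mem hD.decomp (i, 0)
  have hne : ∀ i, b0 i ≠ 0 := fun i => (bas hD.decomp).ne_zero (i, 0)
  have hd : ∀ i, hermForm n F q (b0 i) (b0 i) ≠ 0 := by
    intro i
    obtain ⟨⟨x, hx, hx0⟩, -⟩ := hD.nondegenerate i (b0 i) (hmem i) (hne i)
    have hxc : x = ((bas hD.decomp).repr x (i, 0)) • b0 i := by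
      have := eq_sum_of_mem hD.decomp hx
      rw [Fin.sum_univ_one] at this
      exact this
    intro h0
    apply hx0
    rw [hxc, hermForm_smul_left, h0, mul_zero]
  choose l hl using fun i => exists_norm hF (hermForm n F q (b0 i) (b0 i))
    (herm_self_fixed hF n (b0 i))
  have hl0 : ∀ i, l i ≠ 0 := by
    intro i h0
    have := hl i
    rw [h0, zero_pow (Nat.succ_ne_zero q)] at this
    exact hd i this.symm
  refine ⟨fun i => (l i)⁻¹ • b0 i, fun i => Submodule.smul_mem _ _ (hmem i), fun i j => ?_⟩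
  rw [hermForm_smul_left, hermForm_smul_right]
  by_cases hij : i = j
  · subst hij
    rw [if_pos rfl, ← hl i, inv_pow, pow_succ]
    have := hl0 i
    field_simp
  · rw [if_neg hij, hD.orthogonal i j hij _ (hmem i) _ (hmem j), mul_zero, mul_zero]

include hF in
/-- the stabiliser of an orthogonal frame is conjugate to a group of monomial matrices -/
theorem exists_frame_conj {D : Fin 3 → Submodule F (Fin 3 → F)}
    (hD : IsNondegenerateMDecomposition (hermForm 3 F q) 1 D) :
    ∃ B : GL (Fin 3) F, B ∈ Cfsg.GU 3 F q ∧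
      ∀ h ∈ decompositionStabilizer D, MonP (B⁻¹ * h * B) := by
  classical
  obtain ⟨b, hbm, hb⟩ := exists_orthonormal_frame3 hF hD
  obtain ⟨B, hBU, hB⟩ := exists_GU_of_orthonormal hF b hb
  refine ⟨B, hBU, ?_⟩
  rintro h ⟨σ, hσ⟩ j
  refine ⟨σ j, fun i' hi' => ?_⟩
  rw [hB h i' j]
  have h1 : (h : Matrix (Fin 3) (Fin 3) F) *ᵥ b j ∈ D (σ j) := by
    rw [← hσ j]
    exact ⟨b j, hbm j, by rw [Matrix.toLin'_apply]⟩
  exact hD.orthogonal (σ j) i' (Ne.symm hi') _ h1 _ (hbm i')

end Cfsg.Agent.Lib.Helper3.SU3
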