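import Mathlib
import Cfsg.Prelude
import Cfsg.Agent.Lib.Helper3.SU3c

set_option autoImplicit false
set_option maxHeartbeats 4000000
set_option maxRecDepth 100000
set_option linter.unusedVariables false
set_option linter.unusedSectionVars false
set_option linter.style.haveILetI false
set_option linter.deprecated false

/-! A subfield group of index two whose rational structure carries the hermitian form is
conjugate, under the unitary group, to a group of matrices which are real up to scalars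
(for the fields with nine and twenty-five elements). -/

namespace Cfsg.Agent.Lib.Helper3.SU3

open Matrix Cfsg Cfsg.Geo Module
open Cfsg.Agent.Lib.Helper3.MaxU
open Cfsg.Agent.Lib.Helper8 Cfsg.Agent.Lib.Helper5
open Cfsg.Agent.Lib.Helper5.Herm Cfsg.Agent.Lib.Helper5.HermTv
open Cfsg.Agent.Lib.Helper5.HermBridge (sigma_apply)

section pattern
variable {E : Type*} [Field E]

/-- the data turning a diagonal form with entries `da`, `db`, `ds` into a scalar form -/
def PairPat (da db ds x1 x2 y1 y2 z c : E) : Prop :=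
  c ≠ 0 ∧ da * x1 ^ 2 + db * y1 ^ 2 = c ∧ da * x2 ^ 2 + db * y2 ^ 2 = c ∧
    da * x1 * x2 + db * y1 * y2 = 0 ∧ ds * z ^ 2 = c

instance decPairPat [DecidableEq E] (da db ds x1 x2 y1 y2 z c : E) :
    Decidable (PairPat da db ds x1 x2 y1 y2 z c) := by
  unfold PairPat
  infer_instance

theorem PairPat.map {E' : Type*} [Field E'] (ρ : E →+* E') {da db ds x1 x2 y1 y2 z c : E}
    (h : PairPat da db ds x1 x2 y1 y2 z c) :
    PairPat (ρ da) (ρ db) (ρ ds) (ρ x1) (ρ x2) (ρ y1) (ρ y2) (ρ z) (ρ c) := by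
  obtain ⟨h0, h1, h2, h3, h4⟩ := h
  refine ⟨(map_ne_zero ρ).2 h0, ?_, ?_, ?_, ?_⟩
  · rw [← h1]; simp only [map_add, map_mul, map_pow]
  · rw [← h2]; simp only [map_add, map_mul, map_pow]
  · rw [← map_zero ρ, ← h3]; simp only [map_add, map_mul, map_pow]
  · rw [← h4]; simp only [map_add, map_mul, map_pow]

/-- some pair of the three entries admits the data -/
def PatEx (d1 d2 d3 : E) : Prop :=
  ∃ x1 x2 y1 y2 z : E, PairPat d1 d2 d3 x1 x2 y1 y2 z (d3 * z ^ 2) ∨
    PairPat d1 d3 d2 x1 x2 y1 y2 z (d2 * z ^ 2) ∨ PairPat d2 d3 d1 x1 x2 y1 y2 z (d1 * z ^ 2)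

instance decPatEx [Fintype E] [DecidableEq E] (d1 d2 d3 : E) : Decidable (PatEx d1 d2 d3) := by
  unfold PatEx
  infer_instance

theorem patEx3 : ∀ d1 d2 d3 : ZMod 3,
    (decide (d1 ≠ 0) && decide (d2 ≠ 0) && decide (d3 ≠ 0)) = true →
      decide (PatEx d1 d2 d3) = true := by
  decide +kernel

instance fact5 : Fact (Nat.Prime 5) := ⟨by norm_num⟩

theorem patEx5 : ∀ d1 d2 d3 : ZMod 5,
    (decide (d1 ≠ 0) && decide (d2 ≠ 0) && decide (d3 ≠ 0)) = true →
      decide (PatEx d1 d2 d3) = true := by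
  decide +kernel

theorem PatEx.map {E' : Type*} [Field E'] (ρ : E →+* E') {d1 d2 d3 : E} (h : PatEx d1 d2 d3) :
    PatEx (ρ d1) (ρ d2) (ρ d3) := by
  obtain ⟨x1, x2, y1, y2, z, h1⟩ := h
  refine ⟨ρ x1, ρ x2, ρ y1, ρ y2, ρ z, ?_⟩
  rcases h1 with h1 | h1 | h1
  · left
    have := h1.map ρ
    simpa only [map_mul, map_pow] using this
  · right; left
    have := h1.map ρ
    simpa only [map_mul, map_pow] using this
  · right; right
    have := h1.map ρ
    simpa only [map_mul, map_pow] using this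

/-- in a field with three or five elements, all triples of non-zero entries admit the data -/
theorem patEx_of_card [Fintype E] {p : ℕ} (hp : p = 3 ∨ p = 5) (hE : Fintype.card E = p)
    (d1 d2 d3 : E) (h1 : d1 ≠ 0) (h2 : d2 ≠ 0) (h3 : d3 ≠ 0) : PatEx d1 d2 d3 := by
  classical
  rcases hp with rfl | rfl
  · let ψ : ZMod 3 ≃+* E := ZMod.ringEquivOfPrime E (by norm_num) hE
    have h := patEx3 (ψ.symm d1) (ψ.symm d2) (ψ.symm d3) (by
      simp only [Bool.and_eq_true, decide_eq_true_eq]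
      exact ⟨⟨(map_ne_zero ψ.symm).2 h1, (map_ne_zero ψ.symm).2 h2⟩, (map_ne_zero ψ.symm).2 h3⟩)
    have h' := (of_decide_eq_true h).map ψ.toRingHom
    simpa using h'
  · let ψ : ZMod 5 ≃+* E := ZMod.ringEquivOfPrime E (by norm_num) hE
    have h := patEx5 (ψ.symm d1) (ψ.symm d2) (ψ.symm d3) (by
      simp only [Bool.and_eq_true, decide_eq_true_eq]
      exact ⟨⟨(map_ne_zero ψ.symm).2 h1, (map_ne_zero ψ.symm).2 h2⟩, (map_ne_zero ψ.symm).2 h3⟩)
    have h' := (of_decide_eq_true h).map ψ.toRingHom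
    simpa using h'

variable {V : Type*} [AddCommGroup V] [Module E V]

/-- from the data, an orthogonal frame with all norms equal -/
theorem frame_of_pat (β : LinearMap.BilinForm E V) (hs : ∀ u v, β u v = β v u) (va vb vs : V)
    (hab : β va vb = 0) (has : β va vs = 0) (hbs : β vb vs = 0) {x1 x2 y1 y2 z c : E}
    (hpat : PairPat (β va va) (β vb vb) (β vs vs) x1 x2 y1 y2 z c) :
    ∃ w : Fin 3 → V, c ≠ 0 ∧ ∀ i j, β (w i) (w j) = if i = j then c else 0 := by
  obtain ⟨h0, h1, h2, h3, h4⟩ := hpat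
  have hba : β vb va = 0 := by rw [hs, hab]
  have hsa : β vs va = 0 := by rw [hs, has]
  have hsb : β vs vb = 0 := by rw [hs, hbs]
  refine ⟨![x1 • va + y1 • vb, x2 • va + y2 • vb, z • vs], h0, fun i j => ?_⟩
  fin_cases i <;> fin_cases j <;>
    simp [map_add, map_smul, LinearMap.add_apply, LinearMap.smul_apply, hab, has, hbs, hba, hsa,
      hsb]
  · linear_combination h1
  · linear_combination h3
  · linear_combination h3
  · linear_combination h2
  · linear_combination h4

end pattern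

variable {F : Type*} [Field F] [Fintype F] {q : ℕ} (hF : Fintype.card F = q ^ 2)

include hF in
theorem card_subfield_eq (F₀ : Subfield F) (hcard : Fintype.card F = Nat.card F₀ ^ 2) :
    Nat.card F₀ = q := by
  rw [hF] at hcard
  exact (Nat.pow_left_injective (two_ne_zero) hcard).symm

include hF in
/-- the elements of the subfield of index two are fixed by the `q`-th power map -/
theorem pow_eq_of_mem (F₀ : Subfield F) (hcard : Fintype.card F = Nat.card F₀ ^ 2) {x : F}
    (hx : x ∈ F₀) : x ^ q = x := by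
  classical
  haveI : Fintype F₀ := Fintype.ofFinite F₀
  have h1 := FiniteField.pow_card (⟨x, hx⟩ : F₀)
  rw [← Nat.card_eq_fintype_card, card_subfield_eq hF F₀ hcard] at h1
  have h2 := congrArg (fun y : F₀ => (y : F)) h1
  simpa using h2

/-- a vector over the subfield, as a vector over the field -/
def iota (F₀ : Subfield F) (u : Fin 3 → F₀) : Fin 3 → F := fun i => (u i : F)

theorem iota_add (F₀ : Subfield F) (u v : Fin 3 → F₀) : iota F₀ (u + v) = iota F₀ u + iota F₀ v := by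
  funext i
  simp [iota]

theorem iota_smul (F₀ : Subfield F) (a : F₀) (u : Fin 3 → F₀) :
    iota F₀ (a • u) = (a : F) • iota F₀ u := by
  funext i
  simp [iota]

theorem iota_mem (F₀ : Subfield F) (u : Fin 3 → F₀) (i : Fin 3) : iota F₀ u i ∈ F₀ := (u i).2

theorem iota_mulVec (F₀ : Subfield F) (y : Matrix (Fin 3) (Fin 3) F₀) (u : Fin 3 → F₀) :
    (y.map (F₀.subtype)) *ᵥ iota F₀ u = iota F₀ (y *ᵥ u) := by
  funext i
  simp [iota, Matrix.mulVec, dotProduct]

include hF in
/-- a subfield group of index two carrying the form is conjugate to a group of matrices real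
up to scalars -/
theorem exists_real_conj (hq : q = 3 ∨ q = 5) (F₀ : Subfield F) (P : GL (Fin 3) F)
    (hcard : Fintype.card F = Nat.card F₀ ^ 2)
    (hrat : IsFormRationalStructure (hermForm 3 F q) F₀ 1 P) :
    ∃ B : GL (Fin 3) F, B ∈ Cfsg.GU 3 F q ∧
      ∀ g ∈ subfieldSubgroup F₀ P, RealP q (B⁻¹ * g * B) := by
  classical
  have hq0 : q ≠ 0 := q_ne_zero hF
  have hfix : ∀ x ∈ F₀, x ^ q = x := fun x hx => pow_eq_of_mem hF F₀ hcard hx
  set Pm : Matrix (Fin 3) (Fin 3) F := (P : Matrix (Fin 3) (Fin 3) F) with hPm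
  have hmem : ∀ u v : Fin 3 → F₀,
      hermForm 3 F q (Pm *ᵥ iota F₀ u) (Pm *ᵥ iota F₀ v) ∈ F₀ := by
    intro u v
    have := hrat (iota F₀ u) (iota F₀ v) (iota_mem F₀ u) (iota_mem F₀ v)
    rwa [one_mul] at this
  -- the bilinear form over the subfield
  let β : LinearMap.BilinForm F₀ (Fin 3 → F₀) := LinearMap.mk₂ F₀
    (fun u v => (⟨hermForm 3 F q (Pm *ᵥ iota F₀ u) (Pm *ᵥ iota F₀ v), hmem u v⟩ : F₀))
    (by
      intro u u' v
      apply Subtype.ext
      show hermForm 3 F q (Pm *ᵥ iota F₀ (u + u')) (Pm *ᵥ iota F₀ v) = _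
      rw [iota_add, Matrix.mulVec_add, hermForm_add_left]
      rfl)
    (by
      intro a u v
      apply Subtype.ext
      show hermForm 3 F q (Pm *ᵥ iota F₀ (a • u)) (Pm *ᵥ iota F₀ v) = _
      rw [iota_smul, Matrix.mulVec_smul, hermForm_smul_left]
      rfl)
    (by
      intro u v v'
      apply Subtype.ext
      show hermForm 3 F q (Pm *ᵥ iota F₀ u) (Pm *ᵥ iota F₀ (v + v')) = _
      rw [iota_add, Matrix.mulVec_add, hermForm_add_right hF]
      rfl)
    (by
      intro a u v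
      apply Subtype.ext
      show hermForm 3 F q (Pm *ᵥ iota F₀ u) (Pm *ᵥ iota F₀ (a • v)) = _
      rw [iota_smul, Matrix.mulVec_smul, hermForm_smul_right, hfix _ a.2]
      rfl)
  have hβ : ∀ u v, ((β u v : F₀) : F) =
      hermForm 3 F q (Pm *ᵥ iota F₀ u) (Pm *ᵥ iota F₀ v) := fun u v => rfl
  have hsymm : ∀ u v, β u v = β v u := by
    intro u v
    apply Subtype.ext
    rw [hβ, hβ, ← hermForm_conj hF 3 (Pm *ᵥ iota F₀ v), hfix _ (hmem v u)]
  have hsep : ∀ u, (∀ v, β u v = 0) → u = 0 := by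
    intro u hu
    set x := Pm *ᵥ iota F₀ u with hx
    set z := Asch.star (HermBridge.sigma hF) Pm *ᵥ x with hz
    have hz0 : z = 0 := by
      funext j
      have h1 := hu (Pi.single j 1)
      have h2 : ((β u (Pi.single j 1) : F₀) : F) = 0 := by
        rw [h1]
        rfl
      have h3 : iota F₀ (Pi.single j 1) = Pi.single j 1 := by
        funext i
        by_cases hij : i = j
        · subst hij
          simp [iota]
        · simp [iota, Pi.single_eq_of_ne hij]
      rw [hβ, h3, Cfsg.Agent.Lib.Helper9.AschU.herm_adj' hF, hermForm_single_right 3 q hq0] at h2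
      exact h2
    have hx0 : x = 0 := by
      apply Cfsg.Agent.Lib.Helper9.AschU.herm_eq_zero_left hF
      intro y
      have hy : y = Pm *ᵥ (((P⁻¹ : GL (Fin 3) F) : Matrix (Fin 3) (Fin 3) F) *ᵥ y) := by
        rw [Matrix.mulVec_mulVec, hPm, ← Units.val_mul, mul_inv_cancel, Units.val_one,
          Matrix.one_mulVec]
      rw [hy, Cfsg.Agent.Lib.Helper9.AschU.herm_adj' hF, ← hz, hz0, hermForm_zero_left]
    have hu0 : iota F₀ u = 0 := by
      have h1 := congrArg (fun y => ((P⁻¹ : GL (Fin 3) F) : Matrix (Fin 3) (Fin 3) F) *ᵥ y) hx0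
      simp only [hx, Matrix.mulVec_mulVec, hPm, ← Units.val_mul, inv_mul_cancel, Units.val_one,
        Matrix.one_mulVec, Matrix.mulVec_zero] at h1
      exact h1
    funext i
    apply Subtype.ext
    exact congrFun hu0 i
  -- an orthogonal basis
  have h2ne : (2 : F₀) ≠ 0 := by
    intro h
    have h3 : (2 : F) = 0 := by
      have h30 := congrArg (fun y : F₀ => F₀.subtype y) h
      simp only [map_ofNat, map_zero] at h30
      exact h30
    obtain ⟨p, j, hp, hchar, hqp⟩ := exists_char_pow hF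
    have h4 := (CharP.cast_eq_zero_iff F p 2).1 (by exact_mod_cast h3)
    have h5 : p = 2 := (Nat.prime_dvd_prime_iff_eq hp Nat.prime_two).1 h4
    subst h5
    rcases hq with rfl | rfl
    · have : 2 ∣ 3 := by
        rw [hqp]
        exact dvd_pow_self 2 (by rintro rfl; norm_num at hqp)
      omega
    · have : 2 ∣ 5 := by
        rw [hqp]
        exact dvd_pow_self 2 (by rintro rfl; norm_num at hqp)
      omega
  haveI : Invertible (2 : F₀) := invertibleOfNonzero h2ne
  obtain ⟨v0, hv0⟩ := LinearMap.BilinForm.exists_orthogonal_basis (B := β) ⟨hsymm⟩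
  have hfr : finrank F₀ (Fin 3 → F₀) = 3 := by simp
  set v : Fin 3 → (Fin 3 → F₀) := fun i => v0 (finCongr hfr.symm i) with hv
  have hvorth : ∀ i j, i ≠ j → β (v i) (v j) = 0 := by
    intro i j hij
    exact hv0 (fun h => hij ((finCongr hfr.symm).injective h))
  have hvne : ∀ i, v i ≠ 0 := fun i => v0.ne_zero _
  have hd : ∀ i, β (v i) (v i) ≠ 0 := by
    intro i h0
    apply hvne i
    apply hsep
    intro w
    rw [← v0.sum_repr w, map_sum]
    refine Finset.sum_eq_zero fun k _ => ?_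
    rw [map_smul, smul_eq_mul]
    by_cases hk : finCongr hfr.symm i = k
    · rw [← hk]
      show _ * β (v i) (v i) = 0
      rw [h0, mul_zero]
    · have : β (v i) (v0 k) = 0 := hv0 hk
      show _ * β (v i) (v0 k) = 0
      rw [this, mul_zero]
  -- all norms equal
  haveI : Fintype F₀ := Fintype.ofFinite F₀
  have hcF₀ : Fintype.card F₀ = q := by
    rw [← Nat.card_eq_fintype_card]
    exact card_subfield_eq hF F₀ hcard
  obtain ⟨x1, x2, y1, y2, z, hpat⟩ := patEx_of_card hq hcF₀ _ _ _ (hd 0) (hd 1) (hd 2)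
  obtain ⟨w, c, hc0, hw⟩ : ∃ (w : Fin 3 → (Fin 3 → F₀)) (c : F₀), c ≠ 0 ∧
      ∀ i j, β (w i) (w j) = if i = j then c else 0 := by
    rcases hpat with h | h | h
    · obtain ⟨w, h0, hw⟩ := frame_of_pat β hsymm (v 0) (v 1) (v 2)
        (hvorth 0 1 (by decide)) (hvorth 0 2 (by decide)) (hvorth 1 2 (by decide)) h
      exact ⟨w, _, h0, hw⟩
    · obtain ⟨w, h0, hw⟩ := frame_of_pat β hsymm (v 0) (v 2) (v 1)
        (hvorth 0 2 (by decide)) (hvorth 0 1 (by decide)) (hvorth 2 1 (by decide)) h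
      exact ⟨w, _, h0, hw⟩
    · obtain ⟨w, h0, hw⟩ := frame_of_pat β hsymm (v 1) (v 2) (v 0)
        (hvorth 1 2 (by decide)) (hvorth 1 0 (by decide)) (hvorth 2 0 (by decide)) h
      exact ⟨w, _, h0, hw⟩
  -- the orthonormal frame
  have hcinv : ((c : F)⁻¹) ^ q = (c : F)⁻¹ := by
    rw [inv_pow, hfix _ c.2]
  obtain ⟨α, hα⟩ := exists_norm hF ((c : F)⁻¹) hcinv
  have hcF : (c : F) ≠ 0 := fun h => hc0 (Subtype.ext h)
  set b : Fin 3 → Fin 3 → F := fun j => α • (Pm *ᵥ iota F₀ (w j)) with hb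
  have hbo : ∀ i j, hermForm 3 F q (b i) (b j) = if i = j then 1 else 0 := by
    intro i j
    rw [hb]
    simp only
    rw [hermForm_smul_left, hermForm_smul_right, ← hβ, hw i j]
    by_cases hij : i = j
    · rw [if_pos hij, if_pos hij]
      have : α * (α ^ q * (c : F)) = α ^ (q + 1) * (c : F) := by ring
      rw [this, hα, inv_mul_cancel₀ hcF]
    · rw [if_neg hij, if_neg hij]
      simp
  obtain ⟨B, hBU, hB⟩ := exists_GU_of_orthonormal hF b hbo
  refine ⟨B, hBU, ?_⟩
  intro g hg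
  obtain ⟨u, hu, hug⟩ := hg
  obtain ⟨y, ⟨y₀, rfl⟩, s, hs, hys⟩ := Subgroup.mem_sup_of_normal_right.1 hu
  obtain ⟨ζ, hζ⟩ := (mem_scalars_iff s).1 hs
  have hug' : P * u * P⁻¹ = g := hug
  set Y₀ : Matrix (Fin 3) (Fin 3) F₀ := (y₀ : Matrix (Fin 3) (Fin 3) F₀) with hY₀
  have hu_mat : (u : Matrix (Fin 3) (Fin 3) F) = (ζ : F) • Y₀.map F₀.subtype := by
    rw [← hys, Units.val_mul, hζ, Matrix.mul_smul, Matrix.mul_one]
    rfl
  have hPiP : ∀ x, ((P⁻¹ : GL (Fin 3) F) : Matrix (Fin 3) (Fin 3) F) *ᵥ (Pm *ᵥ x) = x := by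
    intro x
    rw [Matrix.mulVec_mulVec, hPm, ← Units.val_mul, inv_mul_cancel, Units.val_one,
      Matrix.one_mulVec]
  have hgmat : (g : Matrix (Fin 3) (Fin 3) F) =
      Pm * ((ζ : F) • Y₀.map F₀.subtype) * ((P⁻¹ : GL (Fin 3) F) : Matrix (Fin 3) (Fin 3) F) := by
    rw [← hug', Units.val_mul, Units.val_mul, hu_mat]
  have hgb : ∀ j, (g : Matrix (Fin 3) (Fin 3) F) *ᵥ b j =
      ((ζ : F) * α) • (Pm *ᵥ iota F₀ (Y₀ *ᵥ w j)) := by
    intro j
    have h1 : b j = α • (Pm *ᵥ iota F₀ (w j)) := rfl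
    rw [h1, hgmat, Matrix.mulVec_smul, ← Matrix.mulVec_mulVec, ← Matrix.mulVec_mulVec, hPiP,
      Matrix.smul_mulVec, iota_mulVec, Matrix.mulVec_smul, smul_smul, mul_comm]
  refine ⟨(ζ : F)⁻¹, inv_ne_zero (Units.ne_zero ζ), fun i j => ?_⟩
  have hent : (ζ : F)⁻¹ * ((B⁻¹ * g * B : GL (Fin 3) F) : Matrix (Fin 3) (Fin 3) F) i j =
      (c : F)⁻¹ * ((β (Y₀ *ᵥ w j) (w i) : F₀) : F) := by
    rw [hB g i j, hgb j, hb]
    simp only
    rw [hermForm_smul_left, hermForm_smul_right, ← hβ, ← hα]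
    have hζ0 : (ζ : F) ≠ 0 := Units.ne_zero ζ
    field_simp
    ring
  rw [hent]
  apply hfix
  exact F₀.mul_mem (F₀.inv_mem c.2) (β (Y₀ *ᵥ w j) (w i)).2

end Cfsg.Agent.Lib.Helper3.SU3
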