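import Mathlib
import Cfsg.Prelude
import Cfsg.Agent.Lib.Helper3.SU3b

set_option autoImplicit false
set_option maxHeartbeats 4000000
set_option maxRecDepth 100000
set_option linter.unusedVariables false
set_option linter.unusedSectionVars false
set_option linter.style.haveILetI false
set_option linter.deprecated false

/-! The normaliser of a field subalgebra of degree three normalises a cyclic group of order
seven of the special unitary group (for the fields with nine and twenty-five elements). -/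

namespace Cfsg.Agent.Lib.Helper3.SU3

open Matrix Cfsg Cfsg.Geo Module
open Cfsg.Agent.Lib.Helper3.MaxU
open Cfsg.Agent.Lib.Helper8 Cfsg.Agent.Lib.Helper5
open Cfsg.Agent.Lib.Helper5.Herm
open Cfsg.Agent.Lib.Helper5.HermBridge (sigma_apply sigma_sigma)

section abstractField

theorem exists_order7 {L : Type*} [Field L] [Finite L] {p : ℕ} (hp : p = 3 ∨ p = 5)
    (hc : Nat.card L = p ^ 6) : ∃ g : L, orderOf g = 7 := by
  have : Fact (Nat.Prime 7) := ⟨by norm_num⟩
  have h1 : Nat.card Lˣ = p ^ 6 - 1 := by rw [Nat.card_units, hc]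
  have h2 : 7 ∣ Nat.card Lˣ := by
    rw [h1]
    rcases hp with rfl | rfl <;> norm_num
  obtain ⟨u, hu⟩ := exists_prime_orderOf_dvd_card' 7 h2
  exact ⟨(u : L), by rw [orderOf_units]; exact hu⟩

theorem pow_of_pow7 {L : Type*} [Field L] (g y : L) (hg : orderOf g = 7) (hy : y ^ 7 = 1) :
    ∃ k : ℕ, k < 7 ∧ y = g ^ k := by
  have h : IsPrimitiveRoot g 7 := by
    have := IsPrimitiveRoot.orderOf g
    rwa [hg] at this
  obtain ⟨i, hi, hgi⟩ := h.eq_pow_of_pow_eq_one hy
  exact ⟨i, hi, hgi.symm⟩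

/-- an involutive ring endomorphism of the field with `p ^ 6` elements which is not the
identity inverts the elements of order seven -/
theorem tau_inv7 {L : Type*} [Field L] [Finite L] {p : ℕ} (hp : p = 3 ∨ p = 5)
    (hc : Nat.card L = p ^ 6) (τ : L →+* L) (hinv : ∀ x, τ (τ x) = x) (ω : L) (hτω : τ ω ≠ ω)
    (g : L) (hg : orderOf g = 7) : τ g * g = 1 := by
  classical
  have h7 : g ^ 7 = 1 := by rw [← hg]; exact pow_orderOf_eq_one g
  have hτ7 : τ g ^ 7 = 1 := by rw [← map_pow, h7, map_one]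
  obtain ⟨k, hk, hgk⟩ := pow_of_pow7 g (τ g) hg hτ7
  have hkk : g ^ (k * k) = g ^ 1 := by
    rw [pow_one, pow_mul, ← hgk, ← map_pow, ← hgk, hinv]
  have hfin : IsOfFinOrder g := orderOf_pos_iff.mp (by rw [hg]; norm_num)
  have hmod := hfin.pow_eq_pow_iff_modEq.mp hkk
  rw [hg] at hmod
  have hk2 : k * k % 7 = 1 := hmod
  have hcases : k = 1 ∨ k = 6 := by
    interval_cases k <;> omega
  rcases hcases with rfl | rfl
  · exfalso
    rw [pow_one] at hgk
    set Fix : Subfield L := RingHom.eqLocusField τ (RingHom.id L) with hFix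
    have hmemFix : ∀ x, x ∈ Fix ↔ τ x = x := fun x => Iff.rfl
    have hgFix : g ∈ Fix := hgk
    haveI : Fintype Fix := Fintype.ofFinite Fix
    set c := Fintype.card Fix with hcdef
    have hcdvd : c ∣ p ^ 6 := by
      rw [← hc]
      have h1 := AddSubgroup.card_addSubgroup_dvd_card Fix.toSubring.toAddSubgroup
      have h2 : Nat.card ↥Fix.toSubring.toAddSubgroup = c := by
        rw [hcdef, ← Nat.card_eq_fintype_card]
        rfl
      rw [h2] at h1
      exact h1
    have hpp : p.Prime := by rcases hp with rfl | rfl <;> norm_num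
    obtain ⟨i, hi, hci⟩ := (Nat.dvd_prime_pow hpp).1 hcdvd
    have hc1 : 1 < c := Fintype.one_lt_card
    have hg0 : (⟨g, hgFix⟩ : Fix) ≠ 0 := by
      intro h
      have h1 : g = 0 := congrArg Subtype.val h
      rw [h1, orderOf_zero] at hg
      omega
    have hpow := FiniteField.pow_card_sub_one_eq_one (⟨g, hgFix⟩ : Fix) hg0
    have hpow' : g ^ (c - 1) = 1 := by
      have := congrArg Subtype.val hpow
      exact this
    have h7dvd : 7 ∣ c - 1 := by
      rw [← hg]
      exact orderOf_dvd_of_pow_eq_one hpow'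
    have hi6 : i = 6 := by
      rw [hci] at h7dvd hc1
      rcases hp with rfl | rfl
      · interval_cases i <;> first | rfl | (exfalso; revert h7dvd hc1; norm_num)
      · interval_cases i <;> first | rfl | (exfalso; revert h7dvd hc1; norm_num)
    subst hi6
    have htop : Fix.toSubring.toAddSubgroup = ⊤ := by
      apply (AddSubgroup.card_eq_iff_eq_top _).1
      rw [hc, ← hci, hcdef, ← Nat.card_eq_fintype_card]
      rfl
    have hω : ω ∈ Fix.toSubring.toAddSubgroup := by
      rw [htop]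
      exact AddSubgroup.mem_top ω
    exact hτω hω
  · rw [hgk, ← pow_succ, h7]

end abstractField

section concrete
variable {F : Type*} [Field F] [Fintype F] {q : ℕ} (hF : Fintype.card F = q ^ 2)

theorem star_mem3 (K : Subalgebra F (Matrix (Fin 3) (Fin 3) F))
    (hadj : IsAdjointClosedFor (hermForm 3 F q) K) (k : Matrix (Fin 3) (Fin 3) F) (hk : k ∈ K) :
    Asch.star (HermBridge.sigma hF) k ∈ K := by
  obtain ⟨k', hk', h⟩ := hadj k hk
  have : k' = Asch.star (HermBridge.sigma hF) k := by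
    apply Matrix.toLin'.injective
    apply LinearMap.ext
    intro v
    rw [Matrix.toLin'_apply, Matrix.toLin'_apply, ← sub_eq_zero]
    apply Cfsg.Agent.Lib.Helper9.AschU.herm_eq_zero_right hF
    intro u
    rw [sub_eq_add_neg, hermForm_add_right hF, HermEich.hermForm_neg_right hF, ← sub_eq_add_neg,
      sub_eq_zero, ← h, Cfsg.Agent.Lib.Helper9.AschU.herm_adj hF]
  rw [← this]; exact hk'

theorem isField_K3 (K : Subalgebra F (Matrix (Fin 3) (Fin 3) F)) (hK : IsFieldSubalgebra 3 K) :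
    IsField ↥K where
  exists_pair_ne := ⟨0, 1, by
    intro h
    have h1 := congrArg Subtype.val h
    have h2 : (0 : Matrix (Fin 3) (Fin 3) F) = 1 := h1
    exact zero_ne_one h2⟩
  mul_comm := fun x y => Subtype.ext (hK.comm x.1 x.2 y.1 y.2)
  mul_inv_cancel := fun {x} hx => by
    obtain ⟨y, hy, hxy⟩ := hK.inv x.1 x.2 (fun h => hx (Subtype.ext h))
    exact ⟨⟨y, hy⟩, Subtype.ext hxy⟩

include hF in
theorem card_K3 (K : Subalgebra F (Matrix (Fin 3) (Fin 3) F)) (hK : IsFieldSubalgebra 3 K) :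
    Nat.card ↥K = q ^ 6 := by
  rw [Module.natCard_eq_pow_finrank (K := F) (V := ↥K), hK.finrank_eq, Nat.card_eq_fintype_card,
    hF, ← pow_mul]

include hF in
theorem exists_pow_ne_self (hq : 2 ≤ q) : ∃ x : F, x ^ q ≠ x := by
  classical
  obtain ⟨u, hu⟩ := IsCyclic.exists_ofOrder_eq_natCard (α := Fˣ)
  have hcard : Nat.card Fˣ = q ^ 2 - 1 := by
    rw [Nat.card_units, Nat.card_eq_fintype_card, hF]
  refine ⟨(u : F), fun h => ?_⟩
  have h1 : u ^ (q - 1) = 1 := by
    apply Units.ext
    rw [Units.val_pow_eq_pow_val, Units.val_one]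
    have h2 : (u : F) ^ (q - 1) * (u : F) = (u : F) := by
      rw [← pow_succ, Nat.sub_add_cancel (by omega)]
      exact h
    have h3 : (u : F) ≠ 0 := u.ne_zero
    exact mul_right_cancel₀ h3 (by rw [h2, one_mul])
  have h4 : orderOf u ∣ q - 1 := orderOf_dvd_of_pow_eq_one h1
  rw [hu, hcard] at h4
  have h5 : q ^ 2 - 1 ≤ q - 1 := Nat.le_of_dvd (by omega) h4
  have h6 : q * 2 ≤ q ^ 2 := by
    rw [pow_two]
    exact Nat.mul_le_mul_left q hq
  omega

include hF in
/-- the facts about the field `K` used below, in matrix terms -/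
theorem K_facts7 (hq : q = 3 ∨ q = 5) (K : Subalgebra F (Matrix (Fin 3) (Fin 3) F))
    (hK : IsFieldSubalgebra 3 K) (hadj : IsAdjointClosedFor (hermForm 3 F q) K) :
    ∃ gM : Matrix (Fin 3) (Fin 3) F, gM ∈ K ∧ gM ^ 7 = 1 ∧ gM ≠ 1 ∧
      Asch.star (HermBridge.sigma hF) gM * gM = 1 ∧
      ∀ y ∈ K, y ^ 7 = 1 → ∃ k : ℕ, y = gM ^ k := by
  classical
  letI : Field ↥K := (isField_K3 K hK).toField
  have hfin : Finite ↥K := inferInstance
  have hιpow : ∀ (x : ↥K) (n : ℕ),
      ((x ^ n : ↥K) : Matrix (Fin 3) (Fin 3) F) = (x : Matrix (Fin 3) (Fin 3) F) ^ n := by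
    intro x n
    induction n with
    | zero => rw [pow_zero, pow_zero]; rfl
    | succ n ih => rw [pow_succ, pow_succ, ← ih]; rfl
  obtain ⟨g, hg⟩ := exists_order7 (L := ↥K) hq (card_K3 hF K hK)
  have hg7 : g ^ 7 = 1 := by rw [← hg]; exact pow_orderOf_eq_one g
  let τ : ↥K →+* ↥K :=
    { toFun := fun x => ⟨Asch.star (HermBridge.sigma hF) x.1, star_mem3 hF K hadj x.1 x.2⟩
      map_one' := by
        apply Subtype.ext
        exact Asch.star_one (HermBridge.sigma hF)
      map_mul' := by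
        intro x y
        apply Subtype.ext
        show Asch.star (HermBridge.sigma hF) (x.1 * y.1) =
          Asch.star (HermBridge.sigma hF) x.1 * Asch.star (HermBridge.sigma hF) y.1
        rw [Asch.star_mul]
        exact hK.comm _ (star_mem3 hF K hadj y.1 y.2) _ (star_mem3 hF K hadj x.1 x.2)
      map_zero' := by
        apply Subtype.ext
        show Asch.star (HermBridge.sigma hF) (0 : Matrix (Fin 3) (Fin 3) F) = 0
        funext i j
        rw [Asch.star_apply]
        have hq0 : q ≠ 0 := by rcases hq with rfl | rfl <;> norm_num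
        simp [hq0]
      map_add' := by
        intro x y
        apply Subtype.ext
        exact Asch.star_add (HermBridge.sigma hF) x.1 y.1 }
  have hτval : ∀ x : ↥K, ((τ x : ↥K) : Matrix (Fin 3) (Fin 3) F) =
      Asch.star (HermBridge.sigma hF) x.1 := fun x => rfl
  have hinv : ∀ x, τ (τ x) = x := by
    intro x
    apply Subtype.ext
    exact Asch.star_star (HermBridge.sigma hF) (sigma_sigma hF) x.1
  obtain ⟨w, hw⟩ := exists_pow_ne_self hF (by rcases hq with rfl | rfl <;> norm_num)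
  let ωK : ↥K := ⟨w • (1 : Matrix (Fin 3) (Fin 3) F), K.smul_mem K.one_mem _⟩
  have hτω : τ ωK ≠ ωK := by
    intro h
    have h1 := congrArg Subtype.val h
    have h2 : Asch.star (HermBridge.sigma hF) (w • (1 : Matrix (Fin 3) (Fin 3) F)) =
        w • (1 : Matrix (Fin 3) (Fin 3) F) := h1
    rw [Asch.star_smul, Asch.star_one, sigma_apply] at h2
    have h3 := congrFun (congrFun h2 0) 0
    simp only [Matrix.smul_apply, Matrix.one_apply_eq, smul_eq_mul, mul_one] at h3
    exact hw h3
  have hτg := tau_inv7 hq (card_K3 hF K hK) τ hinv ωK hτω g hg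
  refine ⟨g.1, g.2, ?_, ?_, ?_, ?_⟩
  · rw [← hιpow, hg7]; rfl
  · intro h
    have h1 : g = 1 := Subtype.ext h
    rw [h1, orderOf_one] at hg
    omega
  · have := congrArg Subtype.val hτg
    exact this
  · intro y hy hy7
    have h1 : (⟨y, hy⟩ : ↥K) ^ 7 = 1 := by
      apply Subtype.ext
      rw [hιpow]
      exact hy7
    obtain ⟨k, -, hk⟩ := pow_of_pow7 g ⟨y, hy⟩ hg h1
    refine ⟨k, ?_⟩
    have := congrArg Subtype.val hk
    rw [hιpow] at this
    exact this

include hF in
/-- an element of order seven has determinant one -/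
theorem det_eq_one_of_pow7 (hq : q = 3 ∨ q = 5) (g : GL (Fin 3) F) (h : g ^ 7 = 1) :
    g ∈ Cfsg.Geo.specialLinear (Fin 3) F := by
  show Matrix.GeneralLinearGroup.det g = 1
  set d := Matrix.GeneralLinearGroup.det g with hd
  have h1 : d ^ 7 = 1 := by rw [hd, ← map_pow, h, map_one]
  have hcard : Nat.card Fˣ = q ^ 2 - 1 := by
    rw [Nat.card_units, Nat.card_eq_fintype_card, hF]
  have h2 : d ^ (q ^ 2 - 1) = 1 := by rw [← hcard]; exact pow_card_eq_one'
  have h3 : orderOf d ∣ Nat.gcd 7 (q ^ 2 - 1) :=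
    Nat.dvd_gcd (orderOf_dvd_of_pow_eq_one h1) (orderOf_dvd_of_pow_eq_one h2)
  have h4 : Nat.gcd 7 (q ^ 2 - 1) = 1 := by
    rcases hq with rfl | rfl <;> norm_num
  rw [h4, Nat.dvd_one] at h3
  exact orderOf_eq_one_iff.mp h3

include hF in
/-- the normaliser of a field subalgebra of degree three normalises a subgroup of order
seven of the special unitary group -/
theorem exists_s7 (hq : q = 3 ∨ q = 5) (K : Subalgebra F (Matrix (Fin 3) (Fin 3) F))
    (hK : IsFieldSubalgebra 3 K) (hadj : IsAdjointClosedFor (hermForm 3 F q) K) :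
    ∃ s : GL (Fin 3) F, s ∈ SUg 3 F q ∧ orderOf s = 7 ∧
      ∀ h ∈ subalgebraNormalizer K, NormP (Subgroup.zpowers s) h := by
  classical
  obtain ⟨gM, hgK, hg7, hg1, hstar, hroots⟩ := K_facts7 hF hq K hK hadj
  let gG : GL (Fin 3) F :=
    ⟨gM, gM ^ 6, by rw [← pow_succ', hg7], by rw [← pow_succ, hg7]⟩
  have hgGval : (gG : Matrix (Fin 3) (Fin 3) F) = gM := rfl
  have hgGpow : ∀ k : ℕ, ((gG ^ k : GL (Fin 3) F) : Matrix (Fin 3) (Fin 3) F) = gM ^ k := by
    intro k
    rw [Units.val_pow_eq_pow_val]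
  have hgG7 : gG ^ 7 = 1 := by
    apply Units.ext
    rw [hgGpow, hg7]; rfl
  have hgG1 : gG ≠ 1 := by
    intro h
    apply hg1
    have := congrArg Units.val h
    exact this
  have hord : orderOf gG = 7 := by
    have : Fact (Nat.Prime 7) := ⟨by norm_num⟩
    exact orderOf_eq_prime hgG7 hgG1
  have hgGU : gG ∈ Cfsg.GU 3 F q := (Cfsg.Agent.Lib.Helper9.AschU.mem_GU_iff hF gG).mpr hstar
  have hgSL : gG ∈ Cfsg.Geo.specialLinear (Fin 3) F := det_eq_one_of_pow7 hF hq gG hgG7
  refine ⟨gG, ⟨hgGU, hgSL⟩, hord, ?_⟩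
  intro x hx
  apply normP_zpowers
  have h1 : (x : Matrix (Fin 3) (Fin 3) F) * gM *
      ((x⁻¹ : GL (Fin 3) F) : Matrix (Fin 3) (Fin 3) F) ∈ K := (hx gM).mp hgK
  have h2 : ((x : Matrix (Fin 3) (Fin 3) F) * gM *
      ((x⁻¹ : GL (Fin 3) F) : Matrix (Fin 3) (Fin 3) F)) ^ 7 = 1 := by
    have h3 : (x * gG * x⁻¹) ^ 7 = 1 := by
      rw [conj_pow, hgG7, mul_one, mul_inv_cancel]
    have h4 := congrArg Units.val h3
    rw [Units.val_pow_eq_pow_val, Units.val_mul, Units.val_mul] at h4
    exact h4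
  obtain ⟨k, hk⟩ := hroots _ h1 h2
  have h5 : x * gG * x⁻¹ = gG ^ k := by
    apply Units.ext
    rw [Units.val_mul, Units.val_mul, hgGpow]
    exact hk
  rw [h5]
  exact Subgroup.pow_mem _ (Subgroup.mem_zpowers gG) k

end concrete

end Cfsg.Agent.Lib.Helper3.SU3
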