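import Mathlib
import Cfsg.Prelude
import Cfsg.Agent.Lib.Helper3.SU3b
import Cfsg.Agent.Lib.Helper3.MaxU6
import Cfsg.Agent.Lib.Helper7.PU3C

set_option autoImplicit false
set_option maxHeartbeats 4000000
set_option maxRecDepth 100000
set_option linter.unusedVariables false
set_option linter.unusedSectionVars false
set_option linter.style.haveILetI false
set_option linter.deprecated false

/-! An absolutely irreducible group of symplectic type of order twenty-seven in the similarity
group of the hermitian form in dimension three lies in the special unitary group; transfer of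
normalising properties between fields; orders. -/

namespace Cfsg.Agent.Lib.Helper3.SU3

open Matrix Cfsg Cfsg.Geo Module
open Cfsg.Agent.Lib.Helper3.MaxU
open Cfsg.Agent.Lib.Helper8 Cfsg.Agent.Lib.Helper5
open Cfsg.Agent.Lib.Helper5.Herm

section cayley
variable {E : Type*} [Field E]

/-- the second elementary symmetric function of the eigenvalues -/
def e2 (A : Matrix (Fin 3) (Fin 3) E) : E :=
  A 0 0 * A 1 1 - A 0 1 * A 1 0 + (A 0 0 * A 2 2 - A 0 2 * A 2 0) +
    (A 1 1 * A 2 2 - A 1 2 * A 2 1)

theorem cayley3 (A : Matrix (Fin 3) (Fin 3) E) :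
    A ^ 3 = A.trace • A ^ 2 - e2 A • A + A.det • (1 : Matrix (Fin 3) (Fin 3) E) := by
  ext i j
  fin_cases i <;> fin_cases j <;>
    simp [pow_succ, Matrix.mul_apply, Fin.sum_univ_three, Matrix.det_fin_three,
      Matrix.trace_fin_three, e2] <;> ring

theorem two_e2 (A : Matrix (Fin 3) (Fin 3) E) :
    2 * e2 A = A.trace ^ 2 - (A ^ 2).trace := by
  simp [pow_succ, Matrix.mul_apply, Fin.sum_univ_three, Matrix.trace_fin_three, e2]
  ring

/-- a matrix of order three which is conjugate to a nontrivial scalar multiple of itself has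
determinant one -/
theorem det_eq_one_of_conj (h2 : (2 : E) ≠ 0) (A B B' : Matrix (Fin 3) (Fin 3) E) (c : E)
    (hBB' : B * B' = 1) (hA3 : A ^ 3 = 1) (hc1 : c ≠ 1) (hc3 : c ^ 3 = 1)
    (hconj : B * A * B' = c • A) : A.det = 1 := by
  have hB'B : B' * B = 1 := mul_eq_one_comm.1 hBB'
  have htr : A.trace = 0 := by
    have h1 : (B * A * B').trace = A.trace := by
      rw [Matrix.trace_mul_cycle, hB'B, one_mul]
    rw [hconj, Matrix.trace_smul, smul_eq_mul] at h1
    have h3 : (c - 1) * A.trace = 0 := by rw [sub_mul, one_mul, h1, sub_self]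
    rcases mul_eq_zero.1 h3 with h | h
    · exact absurd (sub_eq_zero.1 h) hc1
    · exact h
  have hc2 : c ^ 2 ≠ 1 := by
    intro h
    apply hc1
    have : c = c ^ 3 * (c ^ 2)⁻¹ := by
      have hc0 : c ≠ 0 := by
        rintro rfl
        norm_num at hc3
      field_simp
    rw [this, hc3, h]
    norm_num
  have htr2 : (A ^ 2).trace = 0 := by
    have h0 : B * A ^ 2 * B' = (B * A * B') * (B * A * B') := by
      have : B * A * B' * (B * A * B') = B * A * (B' * B) * A * B' := by
        simp only [Matrix.mul_assoc]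
      rw [this, hB'B, Matrix.mul_one, pow_two]
      simp only [Matrix.mul_assoc]
    have h1 : (B * A ^ 2 * B').trace = (A ^ 2).trace := by
      rw [Matrix.trace_mul_cycle, hB'B, one_mul]
    rw [h0, hconj, Matrix.smul_mul, Matrix.mul_smul, smul_smul, ← pow_two, ← pow_two,
      Matrix.trace_smul, smul_eq_mul] at h1
    have h3 : (c ^ 2 - 1) * (A ^ 2).trace = 0 := by rw [sub_mul, one_mul, h1, sub_self]
    rcases mul_eq_zero.1 h3 with h | h
    · exact absurd (sub_eq_zero.1 h) hc2
    · exact h
  have he2 : e2 A = 0 := by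
    have := two_e2 A
    rw [htr, htr2] at this
    have h4 : (2 : E) * e2 A = 0 := by rw [this]; ring
    rcases mul_eq_zero.1 h4 with h | h
    · exact absurd h h2
    · exact h
  have hch := cayley3 A
  rw [hA3, htr, he2, zero_smul, zero_smul, sub_zero, zero_add] at hch
  have h5 := congrFun (congrFun hch 0) 0
  simp only [Matrix.one_apply_eq, Matrix.smul_apply, smul_eq_mul, mul_one] at h5
  exact h5.symm

end cayley

section class6
variable {F : Type*} [Field F] [Fintype F] {q : ℕ} (hF : Fintype.card F = q ^ 2)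

theorem center_scalar {R : Subgroup (GL (Fin 3) F)}
    (hirr : ActsAbsolutelyIrreducibly (matrixSet R)) (z : ↥R) (hz : z ∈ Subgroup.center ↥R) :
    ∃ c : F, ((z : GL (Fin 3) F) : Matrix (Fin 3) (Fin 3) F) = c • 1 := by
  apply hirr.2
  rintro s ⟨x, hx, rfl⟩
  have h1 := (Subgroup.mem_center_iff.1 hz) ⟨x, hx⟩
  have h2 : x * (z : GL (Fin 3) F) = (z : GL (Fin 3) F) * x := congrArg Subtype.val h1
  have h3 := congrArg Units.val h2
  rw [Units.val_mul, Units.val_mul] at h3
  exact h3.symm

theorem scalar_cube {c : F} {g : GL (Fin 3) F} (hg3 : g ^ 3 = 1)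
    (hc : (g : Matrix (Fin 3) (Fin 3) F) = c • 1) : c ^ 3 = 1 := by
  have h1 := congrArg Units.val hg3
  rw [Units.val_pow_eq_pow_val, hc, smul_pow, one_pow, Units.val_one] at h1
  have h2 := congrFun (congrFun h1 0) 0
  simpa using h2

include hF in
/-- an absolutely irreducible group of symplectic type of order twenty-seven with centre of
order three in the similarity group lies in the special unitary group -/
theorem class6_le_SUg (h2 : (2 : F) ≠ 0) (hcop : Nat.Coprime 3 (q - 1))
    (R : Subgroup (GL (Fin 3) F)) (hR : IsSymplecticTypeGroup 3 R)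
    (hirr : ActsAbsolutelyIrreducibly (matrixSet R))
    (hsim : R ≤ similarityGroup (hermForm 3 F q)) (hcard : Nat.card R = 27)
    (hZ : Nat.card (Subgroup.center R) = 3) : R ≤ SUg 3 F q := by
  classical
  have hexp' : ∀ x : ↥R, x ^ 3 = 1 := by
    intro x
    have h1 := Monoid.pow_exponent_eq_one x
    rw [hR.exponent_eq] at h1
    exact h1
  have hexp : ∀ g ∈ R, g ^ 3 = 1 := by
    intro g hg
    have := congrArg Subtype.val (hexp' ⟨g, hg⟩)
    exact this
  have hGU : R ≤ Cfsg.GU 3 F q := le_GU_of_coprime hF (by norm_num) hexp hcop hsim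
  intro g hg
  refine ⟨hGU hg, ?_⟩
  show g ∈ Cfsg.Geo.specialLinear (Fin 3) F
  rw [mem_SL_iff']
  by_cases hgz : (⟨g, hg⟩ : ↥R) ∈ Subgroup.center ↥R
  · obtain ⟨c, hc⟩ := center_scalar hirr ⟨g, hg⟩ hgz
    have hc' : (g : Matrix (Fin 3) (Fin 3) F) = c • 1 := hc
    have hc3 := scalar_cube (hexp g hg) hc'
    rw [hc', Matrix.det_smul, Matrix.det_one, mul_one, Fintype.card_fin, hc3]
  · rw [Subgroup.mem_center_iff] at hgz
    push Not at hgz
    obtain ⟨b, hb⟩ := hgz
    set g' : ↥R := ⟨g, hg⟩ with hg'
    set z : ↥R := b * g' * b⁻¹ * g'⁻¹ with hzdef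
    have hquot : Nat.card (↥R ⧸ Subgroup.center ↥R) = 3 ^ 2 := by
      have h1 := Subgroup.card_eq_card_quotient_mul_card_subgroup (Subgroup.center ↥R)
      rw [hcard, hZ] at h1
      omega
    haveI : Fact (Nat.Prime 3) := ⟨Nat.prime_three⟩
    have hcomm := IsPGroup.commutative_of_card_eq_prime_sq hquot
    have hzc : z ∈ Subgroup.center ↥R := by
      rw [← QuotientGroup.eq_one_iff, hzdef, QuotientGroup.mk_mul, QuotientGroup.mk_mul,
        QuotientGroup.mk_mul, QuotientGroup.mk_inv, QuotientGroup.mk_inv,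
        hcomm (b : ↥R ⧸ Subgroup.center ↥R) (g' : ↥R ⧸ Subgroup.center ↥R)]
      group
    have hz1 : z ≠ 1 := by
      intro h
      apply hb
      have h1 : b * g' * b⁻¹ * g'⁻¹ = 1 := h
      have h2 : b * g' = g' * b := by
        have := congrArg (fun y => y * g' * b) h1
        simpa [mul_assoc] using this
      exact h2
    obtain ⟨c, hc⟩ := center_scalar hirr z hzc
    have hz3 : (z : GL (Fin 3) F) ^ 3 = 1 := by
      have := congrArg Subtype.val (hexp' z)
      exact this
    have hc3 := scalar_cube hz3 hc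
    have hc1 : c ≠ 1 := by
      rintro rfl
      apply hz1
      apply Subtype.ext
      apply Units.ext
      rw [hc, one_smul]
      rfl
    have hconj : ((b : GL (Fin 3) F) : Matrix (Fin 3) (Fin 3) F) * (g : Matrix (Fin 3) (Fin 3) F) *
        (((b : GL (Fin 3) F)⁻¹ : GL (Fin 3) F) : Matrix (Fin 3) (Fin 3) F) =
        c • (g : Matrix (Fin 3) (Fin 3) F) := by
      have h1 : b * g' * b⁻¹ = z * g' := by
        rw [hzdef]
        group
      have h2 : (b : GL (Fin 3) F) * g * (b : GL (Fin 3) F)⁻¹ = (z : GL (Fin 3) F) * g := by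
        have := congrArg Subtype.val h1
        exact this
      have h3 := congrArg Units.val h2
      rw [Units.val_mul, Units.val_mul, Units.val_mul, hc, Matrix.smul_mul, Matrix.one_mul] at h3
      exact h3
    refine det_eq_one_of_conj h2 _ _ _ c ?_ ?_ hc1 hc3 hconj
    · rw [← Units.val_mul, mul_inv_cancel, Units.val_one]
    · rw [← Units.val_pow_eq_pow_val, hexp g hg, Units.val_one]

end class6

section transfer
variable {G : Type*} [Group G] {G' : Type*} [Group G']

theorem normP_comap_iff (e : G ≃* G') (P' : Subgroup G') (n : G) :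
    NormP (P'.comap e.toMonoidHom) n ↔ NormP P' (e n) := by
  constructor
  · intro h x hx
    have h1 : e.symm x ∈ P'.comap e.toMonoidHom := by
      show e (e.symm x) ∈ P'
      rw [MulEquiv.apply_symm_apply]
      exact hx
    have h2 := h _ h1
    have h3 : e (n * e.symm x * n⁻¹) ∈ P' := h2
    rw [map_mul, map_mul, MulEquiv.apply_symm_apply, map_inv] at h3
    exact h3
  · intro h x hx
    have h1 : e x ∈ P' := hx
    have h2 := h _ h1
    show e (n * x * n⁻¹) ∈ P'
    rw [map_mul, map_mul, map_inv]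
    exact h2

theorem card_comap_equiv (e : G ≃* G') (P' : Subgroup G') :
    Nat.card ↥(P'.comap e.toMonoidHom) = Nat.card ↥P' := by
  have h1 : P'.comap e.toMonoidHom = P'.map e.symm.toMonoidHom :=
    Subgroup.comap_equiv_eq_map_symm e P'
  rw [h1]
  exact Subgroup.card_map_of_injective e.symm.injective

end transfer

section pull
variable {F : Type*} [Field F] [Fintype F] {K : Type*} [Field K] [Fintype K] {q : ℕ}
  (hF : Fintype.card F = q ^ 2) (hK : Fintype.card K = q ^ 2) (φ : F ≃+* K) {n : ℕ}

include hF hK in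
theorem HasOver.pull {P' : Subgroup (GL (Fin n) K)} (h : HasOver (SUg n K q) (NormP P')) :
    HasOver (SUg n F q) (NormP (P'.comap (glEquiv φ n).toMonoidHom)) := by
  have h1 := HasOver.toField hF hK φ h (B := 1) (Subgroup.one_mem _)
  refine h1.congr fun g => ?_
  rw [inv_one, one_mul, mul_one]
  exact (normP_comap_iff (glEquiv φ n) P' g).symm

include hF hK in
theorem comap_le_SUg {P' : Subgroup (GL (Fin n) K)} (h : P' ≤ SUg n K q) :
    P'.comap (glEquiv φ n).toMonoidHom ≤ SUg n F q := by
  intro x hx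
  have h1 : glEquiv φ n x ∈ P' := hx
  exact (glEquiv_mem_SUg hF hK φ x).1 (h h1)

end pull

section cards
variable {F : Type*} [Field F] [Fintype F]

theorem charP_of_card {p : ℕ} (hp : p.Prime) (hF : Fintype.card F = p ^ 2) : CharP F p := by
  obtain ⟨p', j, hp', hchar, hqp⟩ := exists_char_pow hF
  have h1 : p' ∣ p := by
    rw [hqp]
    exact dvd_pow_self p' (by
      rintro rfl
      rw [pow_zero] at hqp
      exact hp.one_lt.ne' hqp)
  have h2 : p' = p := (Nat.prime_dvd_prime_iff_eq hp' hp).1 h1
  rw [← h2]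
  exact hchar

theorem card_SUg3 (hF : Fintype.card F = 3 ^ 2) : Nat.card ↥(SUg 3 F 3) = 6048 := by
  haveI : Fact (Nat.Prime 3) := ⟨Nat.prime_three⟩
  haveI : CharP F 3 := charP_of_card Nat.prime_three hF
  rw [Cfsg.Agent.Lib.Helper7.PS3.card_GUSL hF]
  norm_num

theorem card_SUg5 (hF : Fintype.card F = 5 ^ 2) : Nat.card ↥(SUg 3 F 5) = 378000 := by
  haveI : Fact (Nat.Prime 5) := ⟨Nat.prime_five⟩
  haveI : CharP F 5 := charP_of_card Nat.prime_five hF
  rw [Cfsg.Agent.Lib.Helper7.PS3.card_GUSL hF]
  norm_num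

end cards

end Cfsg.Agent.Lib.Helper3.SU3
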