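import Mathlib
import Cfsg.Prelude
import Cfsg.Agent.Lib.Helper3.SU3b

set_option autoImplicit false
set_option maxHeartbeats 4000000
set_option maxRecDepth 100000
set_option linter.unusedVariables false
set_option linter.unusedSectionVars false
set_option linter.style.haveILetI false
set_option linter.deprecated false

/-! A concrete model of the field with 9 elements, with its elements coded by natural numbers,
and coded three by three matrices over it. -/

namespace Cfsg.Agent.Lib.Helper3.SU3.Q3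

open Matrix Cfsg Cfsg.Geo
open Cfsg.Agent.Lib.Helper3.MaxU
open Cfsg.Agent.Lib.Helper8 Cfsg.Agent.Lib.Helper5
open Cfsg.Agent.Lib.Helper5.HermBridge (sigma_apply)

/-- the model field -/
abbrev K := QuadraticAlgebra (ZMod 3) 2 0

instance factP : Fact (Nat.Prime 3) := ⟨by norm_num⟩

instance factK : Fact (∀ r : ZMod 3, r ^ 2 ≠ 2 + 0 * r) := ⟨by decide⟩

instance fintypeK : Fintype K :=
  Fintype.ofEquiv (ZMod 3 × ZMod 3) (QuadraticAlgebra.equivProd (2 : ZMod 3) 0).symm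

theorem card_K : Fintype.card K = 3 ^ 2 := by
  rw [Fintype.card_congr (QuadraticAlgebra.equivProd (2 : ZMod 3) 0), Fintype.card_prod,
    ZMod.card]
  norm_num

/-- the code of an element -/
def enc (x : K) : ℕ := x.re.val + 3 * x.im.val

/-- the element with a given code -/
def dec (n : ℕ) : K := ⟨((n % 3 : ℕ) : ZMod 3), ((n / 3 : ℕ) : ZMod 3)⟩

/-- coded addition -/
def addc (x y : ℕ) : ℕ := (x % 3 + y % 3) % 3 + 3 * ((x / 3 + y / 3) % 3)

/-- coded multiplication -/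
def mulc (x y : ℕ) : ℕ :=
  ((x % 3) * (y % 3) + 2 * ((x / 3) * (y / 3))) % 3 +
    3 * (((x % 3) * (y / 3) + (x / 3) * (y % 3)) % 3)

/-- coded conjugation -/
def cjc (x : ℕ) : ℕ := x % 3 + 3 * ((3 - (x / 3) % 3) % 3)

/-- coded subtraction -/
def subc (x y : ℕ) : ℕ := addc x (mulc 2 y)

theorem addc_lt (x y : ℕ) : addc x y < 9 := by
  unfold addc
  omega

theorem mulc_lt (x y : ℕ) : mulc x y < 9 := by
  unfold mulc
  omega

theorem cjc_lt (x : ℕ) : cjc x < 9 := by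
  unfold cjc
  omega

theorem enc_add' : ∀ a b c d : ZMod 3,
    enc ((⟨a, b⟩ : K) + ⟨c, d⟩) = addc (enc ⟨a, b⟩) (enc ⟨c, d⟩) := by
  decide +kernel

theorem enc_mul' : ∀ a b c d : ZMod 3,
    enc ((⟨a, b⟩ : K) * ⟨c, d⟩) = mulc (enc ⟨a, b⟩) (enc ⟨c, d⟩) := by
  decide +kernel

theorem enc_sub' : ∀ a b c d : ZMod 3,
    enc ((⟨a, b⟩ : K) - ⟨c, d⟩) = subc (enc ⟨a, b⟩) (enc ⟨c, d⟩) := by
  decide +kernel

theorem enc_frob' : ∀ a b : ZMod 3, enc ((⟨a, b⟩ : K) ^ 3) = cjc (enc ⟨a, b⟩) := by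
  decide +kernel

theorem dec_enc' : ∀ a b : ZMod 3, dec (enc (⟨a, b⟩ : K)) = ⟨a, b⟩ := by
  decide +kernel

theorem enc_lt' : ∀ a b : ZMod 3, enc (⟨a, b⟩ : K) < 9 := by
  decide +kernel

theorem enc_dec : ∀ n < 9, enc (dec n) = n := by
  decide +kernel

theorem enc_zero : enc 0 = 0 := by decide +kernel

theorem enc_one : enc 1 = 1 := by decide +kernel

theorem enc_add (x y : K) : enc (x + y) = addc (enc x) (enc y) :=
  enc_add' x.re x.im y.re y.im

theorem enc_mul (x y : K) : enc (x * y) = mulc (enc x) (enc y) :=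
  enc_mul' x.re x.im y.re y.im

theorem enc_sub (x y : K) : enc (x - y) = subc (enc x) (enc y) :=
  enc_sub' x.re x.im y.re y.im

theorem enc_frob (x : K) : enc (x ^ 3) = cjc (enc x) := enc_frob' x.re x.im

theorem dec_enc (x : K) : dec (enc x) = x := dec_enc' x.re x.im

theorem enc_lt (x : K) : enc x < 9 := enc_lt' x.re x.im

theorem enc_injective : Function.Injective enc := by
  intro x y h
  rw [← dec_enc x, ← dec_enc y, h]

theorem enc_eq_zero {x : K} : enc x = 0 ↔ x = 0 := by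
  constructor
  · intro h
    apply enc_injective
    rw [h, enc_zero]
  · rintro rfl
    exact enc_zero

theorem dec_mul {a b : ℕ} (ha : a < 9) (hb : b < 9) : dec (mulc a b) = dec a * dec b := by
  rw [← dec_enc (dec a * dec b), enc_mul, enc_dec a ha, enc_dec b hb]

theorem dec_ne_zero {a : ℕ} (ha : a < 9) (h0 : a ≠ 0) : dec a ≠ 0 := by
  intro h
  apply h0
  rw [← enc_dec a ha, h, enc_zero]

/-- coded matrices -/
structure M3 where
  /-- entry -/
  a : ℕ
  /-- entry -/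
  b : ℕ
  /-- entry -/
  c : ℕ
  /-- entry -/
  d : ℕ
  /-- entry -/
  e : ℕ
  /-- entry -/
  f : ℕ
  /-- entry -/
  g : ℕ
  /-- entry -/
  h : ℕ
  /-- entry -/
  i : ℕ
deriving DecidableEq

/-- the code of a matrix -/
def ofMat (A : Matrix (Fin 3) (Fin 3) K) : M3 :=
  ⟨enc (A 0 0), enc (A 0 1), enc (A 0 2), enc (A 1 0), enc (A 1 1), enc (A 1 2),
    enc (A 2 0), enc (A 2 1), enc (A 2 2)⟩

/-- the entries -/
def ent (X : M3) : Fin 3 → Fin 3 → ℕ
  | 0, 0 => X.a
  | 0, 1 => X.b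
  | 0, 2 => X.c
  | 1, 0 => X.d
  | 1, 1 => X.e
  | 1, 2 => X.f
  | 2, 0 => X.g
  | 2, 1 => X.h
  | 2, 2 => X.i

/-- the matrix with a given code -/
def toMat (X : M3) : Matrix (Fin 3) (Fin 3) K := fun i j => dec (ent X i j)

/-- coded dot product -/
def dot3 (a b c x y z : ℕ) : ℕ := addc (addc (mulc a x) (mulc b y)) (mulc c z)

namespace M3

/-- all entries are codes -/
def wf (X : M3) : Bool :=
  decide (X.a < 9) && decide (X.b < 9) && decide (X.c < 9) && decide (X.d < 9) &&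
    decide (X.e < 9) && decide (X.f < 9) && decide (X.g < 9) && decide (X.h < 9) &&
    decide (X.i < 9)

/-- coded product -/
def mul (X Y : M3) : M3 :=
  ⟨dot3 X.a X.b X.c Y.a Y.d Y.g, dot3 X.a X.b X.c Y.b Y.e Y.h, dot3 X.a X.b X.c Y.c Y.f Y.i,
    dot3 X.d X.e X.f Y.a Y.d Y.g, dot3 X.d X.e X.f Y.b Y.e Y.h, dot3 X.d X.e X.f Y.c Y.f Y.i,
    dot3 X.g X.h X.i Y.a Y.d Y.g, dot3 X.g X.h X.i Y.b Y.e Y.h, dot3 X.g X.h X.i Y.c Y.f Y.i⟩

/-- coded conjugate transpose -/
def ct (X : M3) : M3 :=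
  ⟨cjc X.a, cjc X.d, cjc X.g, cjc X.b, cjc X.e, cjc X.h, cjc X.c, cjc X.f, cjc X.i⟩

/-- coded identity -/
def one : M3 := ⟨1, 0, 0, 0, 1, 0, 0, 0, 1⟩

/-- coded scalar multiple -/
def smul (k : ℕ) (X : M3) : M3 :=
  ⟨mulc k X.a, mulc k X.b, mulc k X.c, mulc k X.d, mulc k X.e, mulc k X.f, mulc k X.g,
    mulc k X.h, mulc k X.i⟩

/-- coded determinant -/
def det (X : M3) : ℕ :=
  subc (addc (addc (mulc X.a (mulc X.e X.i)) (mulc X.b (mulc X.f X.g))) (mulc X.c (mulc X.d X.h)))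
    (addc (addc (mulc X.a (mulc X.f X.h)) (mulc X.b (mulc X.d X.i))) (mulc X.c (mulc X.e X.g)))

/-- coded trace -/
def tr (X : M3) : ℕ := addc (addc X.a X.e) X.i

/-- coded powers -/
def pow (X : M3) : ℕ → M3
  | 0 => one
  | n + 1 => mul (pow X n) X

/-- coded unitarity test -/
def isU (X : M3) : Bool := X.wf && decide (X.ct.mul X = one)

/-- coded special unitarity test -/
def isSU (X : M3) : Bool := X.isU && decide (X.det = 1)

/-- first coordinate of the coded image of a vector -/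
def mv1 (X : M3) (x y z : ℕ) : ℕ := dot3 X.a X.b X.c x y z

/-- second coordinate of the coded image of a vector -/
def mv2 (X : M3) (x y z : ℕ) : ℕ := dot3 X.d X.e X.f x y z

/-- third coordinate of the coded image of a vector -/
def mv3 (X : M3) (x y z : ℕ) : ℕ := dot3 X.g X.h X.i x y z

end M3

theorem toMat_apply (X : M3) (i j : Fin 3) : toMat X i j = dec (ent X i j) := rfl

theorem ofMat_toMat (X : M3) (hX : X.wf = true) : ofMat (toMat X) = X := by
  obtain ⟨a, b, c, d, e, f, g, h, i⟩ := X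
  simp only [M3.wf, Bool.and_eq_true, decide_eq_true_eq] at hX
  obtain ⟨⟨⟨⟨⟨⟨⟨⟨ha, hb⟩, hc⟩, hd⟩, he⟩, hf⟩, hg⟩, hh⟩, hi⟩ := hX
  show M3.mk (enc (dec a)) (enc (dec b)) (enc (dec c)) (enc (dec d)) (enc (dec e))
    (enc (dec f)) (enc (dec g)) (enc (dec h)) (enc (dec i)) = _
  rw [enc_dec a ha, enc_dec b hb, enc_dec c hc, enc_dec d hd, enc_dec e he, enc_dec f hf,
    enc_dec g hg, enc_dec h hh, enc_dec i hi]

theorem toMat_ofMat (A : Matrix (Fin 3) (Fin 3) K) : toMat (ofMat A) = A := by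
  funext i j
  fin_cases i <;> fin_cases j <;> exact dec_enc _

theorem ofMat_injective : Function.Injective ofMat := by
  intro A B h
  rw [← toMat_ofMat A, ← toMat_ofMat B, h]

theorem ofMat_mul (A B : Matrix (Fin 3) (Fin 3) K) :
    ofMat (A * B) = (ofMat A).mul (ofMat B) := by
  simp only [ofMat, M3.mul, dot3, Matrix.mul_apply, Fin.sum_univ_three, enc_add, enc_mul]

theorem ofMat_one : ofMat (1 : Matrix (Fin 3) (Fin 3) K) = M3.one := by
  simp [ofMat, M3.one, Matrix.one_apply, enc_zero, enc_one]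

theorem ofMat_smul (k : K) (A : Matrix (Fin 3) (Fin 3) K) :
    ofMat (k • A) = M3.smul (enc k) (ofMat A) := by
  simp only [ofMat, M3.smul, Matrix.smul_apply, smul_eq_mul, enc_mul]

theorem ofMat_star (A : Matrix (Fin 3) (Fin 3) K) :
    ofMat (Asch.star (HermBridge.sigma card_K) A) = (ofMat A).ct := by
  simp only [ofMat, M3.ct, Asch.star_apply, sigma_apply, enc_frob]

theorem enc_det (A : Matrix (Fin 3) (Fin 3) K) : enc A.det = (ofMat A).det := by
  have h : A.det = (A 0 0 * (A 1 1 * A 2 2) + A 0 1 * (A 1 2 * A 2 0) + A 0 2 * (A 1 0 * A 2 1)) -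
      (A 0 0 * (A 1 2 * A 2 1) + A 0 1 * (A 1 0 * A 2 2) + A 0 2 * (A 1 1 * A 2 0)) := by
    rw [Matrix.det_fin_three]
    ring
  rw [h]
  simp only [ofMat, M3.det, enc_sub, enc_add, enc_mul]

theorem enc_trace (A : Matrix (Fin 3) (Fin 3) K) : enc A.trace = (ofMat A).tr := by
  simp only [Matrix.trace, Matrix.diag, Fin.sum_univ_three, enc_add, ofMat, M3.tr]

theorem enc_mulVec0 (A : Matrix (Fin 3) (Fin 3) K) (v : Fin 3 → K) :
    enc ((A *ᵥ v) 0) = (ofMat A).mv1 (enc (v 0)) (enc (v 1)) (enc (v 2)) := by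
  simp only [Matrix.mulVec, dotProduct, Fin.sum_univ_three, enc_add, enc_mul, M3.mv1, dot3, ofMat]

theorem enc_mulVec1 (A : Matrix (Fin 3) (Fin 3) K) (v : Fin 3 → K) :
    enc ((A *ᵥ v) 1) = (ofMat A).mv2 (enc (v 0)) (enc (v 1)) (enc (v 2)) := by
  simp only [Matrix.mulVec, dotProduct, Fin.sum_univ_three, enc_add, enc_mul, M3.mv2, dot3, ofMat]

theorem enc_mulVec2 (A : Matrix (Fin 3) (Fin 3) K) (v : Fin 3 → K) :
    enc ((A *ᵥ v) 2) = (ofMat A).mv3 (enc (v 0)) (enc (v 1)) (enc (v 2)) := by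
  simp only [Matrix.mulVec, dotProduct, Fin.sum_univ_three, enc_add, enc_mul, M3.mv3, dot3, ofMat]

theorem ofMat_pow (A : Matrix (Fin 3) (Fin 3) K) (k : ℕ) : ofMat (A ^ k) = (ofMat A).pow k := by
  induction k with
  | zero => rw [pow_zero, ofMat_one]; rfl
  | succ k ih => rw [pow_succ, ofMat_mul, ih]; rfl

theorem wf_ct (X : M3) : X.ct.wf = true := by
  simp [M3.wf, M3.ct, cjc_lt]

theorem wf_ofMat (A : Matrix (Fin 3) (Fin 3) K) : (ofMat A).wf = true := by
  simp [M3.wf, ofMat, enc_lt]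

theorem toMat_mul (X Y : M3) (hX : X.wf = true) (hY : Y.wf = true) :
    toMat (X.mul Y) = toMat X * toMat Y := by
  apply ofMat_injective
  rw [ofMat_mul, ofMat_toMat X hX, ofMat_toMat Y hY, ofMat_toMat]
  rw [← ofMat_toMat X hX, ← ofMat_toMat Y hY, ← ofMat_mul]
  exact wf_ofMat _

theorem isU_wf {X : M3} (h : X.isU = true) : X.wf = true := by
  unfold M3.isU at h
  rw [Bool.and_eq_true] at h
  exact h.1

theorem isU_eq {X : M3} (h : X.isU = true) : X.ct.mul X = M3.one := by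
  unfold M3.isU at h
  rw [Bool.and_eq_true, decide_eq_true_eq] at h
  exact h.2

theorem toMat_unitary (X : M3) (h : X.isU = true) : toMat X.ct * toMat X = 1 := by
  apply ofMat_injective
  rw [ofMat_mul, ofMat_toMat _ (wf_ct X), ofMat_toMat X (isU_wf h), isU_eq h, ofMat_one]

/-- the invertible matrix with a given unitary code -/
noncomputable def glOf (X : M3) (h : X.isU = true) : GL (Fin 3) K :=
  ⟨toMat X, toMat X.ct, mul_eq_one_comm.1 (toMat_unitary X h), toMat_unitary X h⟩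

theorem glOf_val (X : M3) (h : X.isU = true) :
    ((glOf X h : GL (Fin 3) K) : Matrix (Fin 3) (Fin 3) K) = toMat X := rfl

theorem ofMat_glOf (X : M3) (h : X.isU = true) :
    ofMat ((glOf X h : GL (Fin 3) K) : Matrix (Fin 3) (Fin 3) K) = X := by
  rw [glOf_val, ofMat_toMat X (isU_wf h)]

theorem glOf_mem_GU (X : M3) (h : X.isU = true) : glOf X h ∈ Cfsg.GU 3 K 3 := by
  rw [Cfsg.Agent.Lib.Helper9.AschU.mem_GU_iff card_K]
  apply ofMat_injective
  rw [ofMat_mul, ofMat_star, ofMat_glOf, isU_eq h, ofMat_one]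

theorem isSU_isU {X : M3} (h : X.isSU = true) : X.isU = true := by
  unfold M3.isSU at h
  rw [Bool.and_eq_true] at h
  exact h.1

theorem isSU_det {X : M3} (h : X.isSU = true) : X.det = 1 := by
  unfold M3.isSU at h
  rw [Bool.and_eq_true, decide_eq_true_eq] at h
  exact h.2

theorem glOf_mem_SUg (X : M3) (h : X.isSU = true) : glOf X (isSU_isU h) ∈ SUg 3 K 3 := by
  rw [Subgroup.mem_inf]
  refine ⟨glOf_mem_GU X (isSU_isU h), ?_⟩
  rw [mem_SL_iff']
  apply enc_injective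
  rw [enc_det, ofMat_glOf, isSU_det h, enc_one]

theorem code_unitary {g : GL (Fin 3) K} (hg : g ∈ Cfsg.GU 3 K 3) :
    (ofMat (g : Matrix (Fin 3) (Fin 3) K)).ct.mul (ofMat (g : Matrix (Fin 3) (Fin 3) K)) =
      M3.one := by
  rw [← ofMat_star, ← ofMat_mul, (Cfsg.Agent.Lib.Helper9.AschU.mem_GU_iff card_K g).1 hg,
    ofMat_one]

theorem code_det {g : GL (Fin 3) K} (hg : g ∈ Cfsg.Geo.specialLinear (Fin 3) K) :
    (ofMat (g : Matrix (Fin 3) (Fin 3) K)).det = 1 := by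
  rw [← enc_det, (mem_SL_iff' g).1 hg, enc_one]

theorem code_isSU {g : GL (Fin 3) K} (hg : g ∈ SUg 3 K 3) :
    (ofMat (g : Matrix (Fin 3) (Fin 3) K)).isSU = true := by
  unfold M3.isSU M3.isU
  rw [Bool.and_eq_true, Bool.and_eq_true, decide_eq_true_eq, decide_eq_true_eq]
  exact ⟨⟨wf_ofMat _, code_unitary hg.1⟩, code_det hg.2⟩

theorem gl_ext {g h : GL (Fin 3) K}
    (hh : ofMat (g : Matrix (Fin 3) (Fin 3) K) = ofMat (h : Matrix (Fin 3) (Fin 3) K)) :
    g = h :=
  Units.ext (ofMat_injective hh)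

theorem ofMat_gl_mul (g h : GL (Fin 3) K) :
    ofMat ((g * h : GL (Fin 3) K) : Matrix (Fin 3) (Fin 3) K) =
      (ofMat (g : Matrix (Fin 3) (Fin 3) K)).mul (ofMat (h : Matrix (Fin 3) (Fin 3) K)) := by
  rw [Units.val_mul, ofMat_mul]

theorem ofMat_gl_inv {g : GL (Fin 3) K} (hg : g ∈ Cfsg.GU 3 K 3) :
    ofMat ((g⁻¹ : GL (Fin 3) K) : Matrix (Fin 3) (Fin 3) K) =
      (ofMat (g : Matrix (Fin 3) (Fin 3) K)).ct := by
  rw [← Cfsg.Agent.Lib.Helper9.AschU.star_eq_inv_of_mem_GU card_K hg, ofMat_star]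

/-- the scalar matrix of a non-zero element -/
noncomputable def scal (k : K) (hk : k ≠ 0) : GL (Fin 3) K :=
  ⟨k • 1, k⁻¹ • 1, by rw [smul_mul_smul_comm, mul_inv_cancel₀ hk, one_smul, one_mul],
    by rw [smul_mul_smul_comm, inv_mul_cancel₀ hk, one_smul, one_mul]⟩

theorem scal_val (k : K) (hk : k ≠ 0) :
    ((scal k hk : GL (Fin 3) K) : Matrix (Fin 3) (Fin 3) K) = k • 1 := rfl

theorem scal_mul_val (k : K) (hk : k ≠ 0) (g : GL (Fin 3) K) :
    ((scal k hk * g : GL (Fin 3) K) : Matrix (Fin 3) (Fin 3) K) =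
      k • (g : Matrix (Fin 3) (Fin 3) K) := by
  rw [Units.val_mul, scal_val, smul_mul_assoc, one_mul]

/-- the table of inverses -/
def INVT : ℕ := 7974820186144

/-- coded inverse -/
def invc (x : ℕ) : ℕ := (INVT >>> (5 * x)) &&& 31

/-- the first non-zero coordinate -/
def ld (x y z : ℕ) : ℕ := if x = 0 then (if y = 0 then z else y) else x

theorem ld_lt {x y z : ℕ} (hx : x < 9) (hy : y < 9) (hz : z < 9) : ld x y z < 9 := by
  unfold ld
  split_ifs <;> assumption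

/-- coded powers of an element -/
def powc (x : ℕ) : ℕ → ℕ
  | 0 => 1
  | k + 1 => mulc (powc x k) x

/-- the code of a generator of the multiplicative group -/
def gam : ℕ := 4

theorem pow_gam : ∀ x < 9, x ≠ 0 → ∃ k < 9, powc gam k = x := by
  decide +kernel

theorem enc_pow (k : ℕ) : enc ((dec gam) ^ k) = powc gam k := by
  induction k with
  | zero => rw [pow_zero, enc_one]; rfl
  | succ k ih =>
    rw [pow_succ, enc_mul, ih, enc_dec gam (by decide)]
    rfl

theorem exists_pow (c : K) (hc : c ≠ 0) : ∃ k : ℕ, c = (dec gam) ^ k := by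
  obtain ⟨k, -, hk⟩ := pow_gam (enc c) (enc_lt c) (fun h => hc (enc_eq_zero.1 h))
  refine ⟨k, ?_⟩
  apply enc_injective
  rw [enc_pow, hk]

theorem gl_mulVec_injective (g : GL (Fin 3) K) {v w : Fin 3 → K}
    (h : (g : Matrix (Fin 3) (Fin 3) K) *ᵥ v = (g : Matrix (Fin 3) (Fin 3) K) *ᵥ w) : v = w := by
  have h2 := congrArg (fun u => ((g⁻¹ : GL (Fin 3) K) : Matrix (Fin 3) (Fin 3) K) *ᵥ u) h
  simp only [Matrix.mulVec_mulVec, ← Units.val_mul, inv_mul_cancel, Units.val_one,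
    Matrix.one_mulVec] at h2
  exact h2

end Cfsg.Agent.Lib.Helper3.SU3.Q3
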