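import Mathlib
import Cfsg.Prelude
import Cfsg.Agent.Lib.Helper3.SU3m3a

set_option autoImplicit false
set_option maxHeartbeats 4000000
set_option maxRecDepth 100000
set_option linter.unusedVariables false
set_option linter.unusedSectionVars false
set_option linter.style.haveILetI false
set_option linter.deprecated false

/-! A set of 3 points of the projective plane over the model field with 9 elements, and its
stabiliser. -/

namespace Cfsg.Agent.Lib.Helper3.SU3.Q3.S3

open Matrix Cfsg Cfsg.Geo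
open Cfsg.Agent.Lib.Helper3.MaxU
open Cfsg.Agent.Lib.Helper3.SU3.Q3

/-- the characteristic function of the set of normalised representatives, as a bit mask -/
def MASK : ℕ := 2417851639229258349412866

/-- the codes of the normalised representatives -/
def reps : List ℕ := [1, 9, 81]

/-- coded membership in the set of points -/
def SN (x y z : ℕ) : Bool :=
  Nat.testBit MASK (mulc (invc (ld x y z)) x + 9 * mulc (invc (ld x y z)) y +
    81 * mulc (invc (ld x y z)) z)

theorem SN_gam : ∀ x < 9, ∀ y < 9, ∀ z < 9,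
    SN (mulc gam x) (mulc gam y) (mulc gam z) = SN x y z := by
  decide +kernel

/-- the normalised form of a vector of the set is one of the representatives -/
def repOK (x y z : ℕ) : Bool :=
  !(ld x y z == 0) && (mulc (ld x y z) (mulc (invc (ld x y z)) x) == x) &&
    (mulc (ld x y z) (mulc (invc (ld x y z)) y) == y) &&
    (mulc (ld x y z) (mulc (invc (ld x y z)) z) == z) &&
    reps.contains (mulc (invc (ld x y z)) x + 9 * mulc (invc (ld x y z)) y +
        81 * mulc (invc (ld x y z)) z)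

theorem SN_reps' : ∀ x < 9, ∀ y < 9, ∀ z < 9, SN x y z = true → repOK x y z = true := by
  decide +kernel

theorem SN_reps (x : ℕ) (hx : x < 9) (y : ℕ) (hy : y < 9) (z : ℕ) (hz : z < 9)
    (h : SN x y z = true) :
    (ld x y z ≠ 0 ∧ mulc (ld x y z) (mulc (invc (ld x y z)) x) = x ∧
      mulc (ld x y z) (mulc (invc (ld x y z)) y) = y ∧
      mulc (ld x y z) (mulc (invc (ld x y z)) z) = z ∧
      (mulc (invc (ld x y z)) x + 9 * mulc (invc (ld x y z)) y +
        81 * mulc (invc (ld x y z)) z) ∈ reps) := by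
  have h1 := SN_reps' x hx y hy z hz h
  unfold repOK at h1
  simp only [Bool.and_eq_true, Bool.not_eq_true', beq_eq_false_iff_ne, beq_iff_eq,
    List.contains_iff_mem] at h1
  obtain ⟨⟨⟨⟨h2, h3⟩, h4⟩, h5⟩, h6⟩ := h1
  exact ⟨h2, h3, h4, h5, h6⟩

/-- membership in the set of points -/
def SP (v : Fin 3 → K) : Prop := SN (enc (v 0)) (enc (v 1)) (enc (v 2)) = true

theorem SP_gam (v : Fin 3 → K) : SP ((dec gam) • v) ↔ SP v := by
  unfold SP
  simp only [Pi.smul_apply, smul_eq_mul, enc_mul, enc_dec gam (by decide)]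
  rw [SN_gam _ (enc_lt _) _ (enc_lt _) _ (enc_lt _)]

theorem SP_pow (k : ℕ) (v : Fin 3 → K) : SP ((dec gam) ^ k • v) ↔ SP v := by
  induction k generalizing v with
  | zero => rw [pow_zero, one_smul]
  | succ k ih => rw [pow_succ, mul_smul, ih, SP_gam]

theorem SP_smul (c : K) (hc : c ≠ 0) (v : Fin 3 → K) : SP (c • v) ↔ SP v := by
  obtain ⟨k, rfl⟩ := exists_pow c hc
  exact SP_pow k v

/-- the coded matrix maps the representatives into the set -/
def fwdc (X : M3) : Bool :=
  reps.all fun c => SN (X.mv1 (c % 9) (c / 9 % 9) (c / 81))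
    (X.mv2 (c % 9) (c / 9 % 9) (c / 81)) (X.mv3 (c % 9) (c / 9 % 9) (c / 81))

theorem SP_of_fwdc (A : Matrix (Fin 3) (Fin 3) K) (h : fwdc (ofMat A) = true) (v : Fin 3 → K)
    (hv : SP v) : SP (A *ᵥ v) := by
  obtain ⟨hl, hx, hy, hz, hmem⟩ := SN_reps _ (enc_lt (v 0)) _ (enc_lt (v 1)) _ (enc_lt (v 2)) hv
  set l := ld (enc (v 0)) (enc (v 1)) (enc (v 2)) with hldef
  have hlt : l < 9 := ld_lt (enc_lt _) (enc_lt _) (enc_lt _)
  set nx := mulc (invc l) (enc (v 0)) with hnx
  set ny := mulc (invc l) (enc (v 1)) with hny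
  set nz := mulc (invc l) (enc (v 2)) with hnz
  have hnx' : nx < 9 := mulc_lt _ _
  have hny' : ny < 9 := mulc_lt _ _
  have hnz' : nz < 9 := mulc_lt _ _
  set r : Fin 3 → K := ![dec nx, dec ny, dec nz] with hr
  have hvr : v = dec l • r := by
    funext i
    fin_cases i
    · show v 0 = dec l * dec nx
      rw [← dec_mul hlt hnx', hx, dec_enc]
    · show v 1 = dec l * dec ny
      rw [← dec_mul hlt hny', hy, dec_enc]
    · show v 2 = dec l * dec nz
      rw [← dec_mul hlt hnz', hz, dec_enc]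
  have hAr : SP (A *ᵥ r) := by
    unfold SP
    rw [enc_mulVec0, enc_mulVec1, enc_mulVec2]
    have h0 : enc (r 0) = nx := enc_dec nx hnx'
    have h1 : enc (r 1) = ny := enc_dec ny hny'
    have h2 : enc (r 2) = nz := enc_dec nz hnz'
    rw [h0, h1, h2]
    have h3 := List.all_eq_true.1 h _ hmem
    have e1 : (nx + 9 * ny + 81 * nz) % 9 = nx := by omega
    have e2 : (nx + 9 * ny + 81 * nz) / 9 % 9 = ny := by omega
    have e3 : (nx + 9 * ny + 81 * nz) / 81 = nz := by omega
    rw [e1, e2, e3] at h3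
    exact h3
  rw [hvr, Matrix.mulVec_smul]
  exact (SP_smul _ (dec_ne_zero hlt hl) _).2 hAr

/-- the stabiliser of the set of points -/
def LS : Subgroup (GL (Fin 3) K) where
  carrier := {g | ∀ v, SP ((g : Matrix (Fin 3) (Fin 3) K) *ᵥ v) ↔ SP v}
  mul_mem' := by
    intro a b ha hb v
    rw [Units.val_mul, ← Matrix.mulVec_mulVec, ha, hb]
  one_mem' := by
    intro v
    rw [Units.val_one, Matrix.one_mulVec]
  inv_mem' := by
    intro a ha v
    have h := ha (((a⁻¹ : GL (Fin 3) K) : Matrix (Fin 3) (Fin 3) K) *ᵥ v)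
    rw [Matrix.mulVec_mulVec, ← Units.val_mul, mul_inv_cancel, Units.val_one,
      Matrix.one_mulVec] at h
    exact h.symm

theorem mem_LS_iff (g : GL (Fin 3) K) :
    g ∈ LS ↔ ∀ v, SP ((g : Matrix (Fin 3) (Fin 3) K) *ᵥ v) ↔ SP v := Iff.rfl

theorem mem_LS_of_fwd (g : GL (Fin 3) K)
    (h : ∀ v, SP v → SP ((g : Matrix (Fin 3) (Fin 3) K) *ᵥ v)) : g ∈ LS := by
  classical
  intro v
  constructor
  · intro hgv
    let f : {v : Fin 3 → K // SP v} → {v : Fin 3 → K // SP v} :=
      fun w => ⟨(g : Matrix (Fin 3) (Fin 3) K) *ᵥ w.1, h w.1 w.2⟩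
    have hinj : Function.Injective f := by
      intro a b hab
      apply Subtype.ext
      exact gl_mulVec_injective g (congrArg Subtype.val hab)
    obtain ⟨w, hw⟩ := Finite.surjective_of_injective hinj ⟨_, hgv⟩
    have h3 : (g : Matrix (Fin 3) (Fin 3) K) *ᵥ w.1 = (g : Matrix (Fin 3) (Fin 3) K) *ᵥ v :=
      congrArg Subtype.val hw
    rw [← gl_mulVec_injective g h3]
    exact w.2
  · exact h v

theorem mem_LS_of_fwdc (g : GL (Fin 3) K)
    (h : fwdc (ofMat (g : Matrix (Fin 3) (Fin 3) K)) = true) : g ∈ LS :=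
  mem_LS_of_fwd g (SP_of_fwdc _ h)

theorem glOf_mem_LS (X : M3) (h : X.isU = true) (h2 : fwdc X = true) : glOf X h ∈ LS := by
  apply mem_LS_of_fwdc
  rw [ofMat_glOf]
  exact h2

theorem scal_mem_LS (k : K) (hk : k ≠ 0) : scal k hk ∈ LS := by
  intro v
  rw [scal_val, Matrix.smul_mulVec, Matrix.one_mulVec]
  exact SP_smul k hk v

/-- a special unitary matrix not stabilising the set -/
def W : M3 := ⟨2, 0, 0, 0, 5, 8, 0, 5, 4⟩

theorem W_isSU : W.isSU = true := by decide +kernel

theorem W_not : SN 0 1 0 = true ∧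
    SN (W.mv1 0 1 0) (W.mv2 0 1 0) (W.mv3 0 1 0) = false := by
  decide +kernel

theorem W_not_mem : glOf W (isSU_isU W_isSU) ∉ LS := by
  intro h
  have e0 : enc ((![dec 0, dec 1, dec 0] : Fin 3 → K) 0) = 0 := enc_dec 0 (by decide)
  have e1 : enc ((![dec 0, dec 1, dec 0] : Fin 3 → K) 1) = 1 := enc_dec 1 (by decide)
  have e2 : enc ((![dec 0, dec 1, dec 0] : Fin 3 → K) 2) = 0 := enc_dec 0 (by decide)
  have hv : SP ![dec 0, dec 1, dec 0] := by
    unfold SP
    rw [e0, e1, e2]
    exact W_not.1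
  have h1 := (h ![dec 0, dec 1, dec 0]).2 hv
  unfold SP at h1
  rw [enc_mulVec0, enc_mulVec1, enc_mulVec2, ofMat_glOf, e0, e1, e2, W_not.2] at h1
  exact Bool.false_ne_true h1

/-- the stabiliser in the special unitary group is a proper subgroup -/
theorem LS_lt : LS ⊓ SUg 3 K 3 < SUg 3 K 3 := by
  refine SetLike.lt_iff_le_and_exists.2 ⟨inf_le_right, glOf W (isSU_isU W_isSU),
    glOf_mem_SUg W W_isSU, ?_⟩
  intro h
  exact W_not_mem h.1

end Cfsg.Agent.Lib.Helper3.SU3.Q3.S3
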