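import Mathlib
import Cfsg.Prelude
import Cfsg.Agent.Lib.Helper3.SU3m3b

set_option autoImplicit false
set_option maxHeartbeats 4000000
set_option maxRecDepth 100000
set_option linter.unusedVariables false
set_option linter.unusedSectionVars false
set_option linter.style.haveILetI false
set_option linter.deprecated false

/-! Over the model field with 9 elements, the special unitary matrices which are scalar multiples
of matrices over the prime field stabilise the set of 3 points, which is also stabilised by a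
matrix not of this form. -/

namespace Cfsg.Agent.Lib.Helper3.SU3.Q3.S3

open Matrix Cfsg Cfsg.Geo
open Cfsg.Agent.Lib.Helper3.MaxU
open Cfsg.Agent.Lib.Helper3.SU3 Cfsg.Agent.Lib.Helper3.SU3.Q3
open Cfsg.Agent.Lib.Helper8 Cfsg.Agent.Lib.Helper5
open Cfsg.Agent.Lib.Helper5.HermBridge (sigma_apply)

/-- the first two columns are orthogonal of the same non-zero norm -/
def cond1 (a d g b e h : ℕ) : Bool :=
  decide (dot3 a d g b e h = 0) && decide (dot3 b e h b e h = dot3 a d g a d g) &&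
    !decide (dot3 a d g a d g = 0)

/-- the third column is orthogonal to the first two, of the same norm -/
def cond2 (a d g b e h c f i : ℕ) : Bool :=
  decide (dot3 a d g c f i = 0) && decide (dot3 b e h c f i = 0) &&
    decide (dot3 c f i c f i = dot3 a d g a d g)

/-- all completions of the first two columns map the representatives into the set -/
def realAll (a d g b e h : ℕ) : Bool :=
  decide (∀ c : ℕ, c < 3 → ∀ f : ℕ, f < 3 → ∀ i : ℕ, i < 3 → cond2 a d g b e h c f i = true →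
    fwdc ⟨a, b, c, d, e, f, g, h, i⟩ = true)

set_option synthInstance.maxSize 4096 in
set_option synthInstance.maxHeartbeats 2000000 in
theorem real_fwd' : ∀ a < 3, ∀ d < 3, ∀ g < 3, ∀ b < 3, ∀ e < 3, ∀ h < 3,
    cond1 a d g b e h = true → realAll a d g b e h = true := by
  decide +kernel

theorem enc_lt_p' : ∀ a b : ZMod 3, (⟨a, b⟩ : K) ^ 3 = ⟨a, b⟩ → enc (⟨a, b⟩ : K) < 3 := by
  decide +kernel

theorem enc_lt_p (x : K) (h : x ^ 3 = x) : enc x < 3 := enc_lt_p' x.re x.im h

theorem mem_LS_of_real {g : GL (Fin 3) K} (hg : g ∈ SUg 3 K 3) (hr : RealP 3 g) : g ∈ LS := by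
  classical
  obtain ⟨κ, hκ, hfix⟩ := hr
  set A : Matrix (Fin 3) (Fin 3) K := κ • (g : Matrix (Fin 3) (Fin 3) K) with hA
  have hAfix : ∀ i j, (A i j) ^ 3 = A i j := by
    intro i j
    rw [hA, Matrix.smul_apply, smul_eq_mul]
    exact hfix i j
  have hstar := (Cfsg.Agent.Lib.Helper9.AschU.mem_GU_iff card_K g).1 hg.1
  have hAA : ∀ j k : Fin 3, A 0 j * A 0 k + A 1 j * A 1 k + A 2 j * A 2 k =
      if j = k then κ ^ 3 * κ else 0 := by
    intro j k
    have h1 := congrFun (congrFun hstar j) k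
    rw [Matrix.mul_apply, Fin.sum_univ_three, Matrix.one_apply] at h1
    simp only [Asch.star_apply, sigma_apply] at h1
    have h2 : A 0 j * A 0 k + A 1 j * A 1 k + A 2 j * A 2 k =
        (A 0 j) ^ 3 * A 0 k + (A 1 j) ^ 3 * A 1 k + (A 2 j) ^ 3 * A 2 k := by
      rw [hAfix, hAfix, hAfix]
    rw [h2]
    simp only [hA, Matrix.smul_apply, smul_eq_mul, mul_pow]
    split_ifs with hjk
    · rw [if_pos hjk] at h1
      linear_combination (κ ^ 3 * κ) * h1
    · rw [if_neg hjk] at h1
      linear_combination (κ ^ 3 * κ) * h1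
  have hdot : ∀ j k : Fin 3, dot3 (enc (A 0 j)) (enc (A 1 j)) (enc (A 2 j)) (enc (A 0 k))
      (enc (A 1 k)) (enc (A 2 k)) = if j = k then enc (κ ^ 3 * κ) else 0 := by
    intro j k
    unfold dot3
    rw [← enc_mul, ← enc_mul, ← enc_mul, ← enc_add, ← enc_add, hAA j k]
    split_ifs
    · rfl
    · exact enc_zero
  have hμ : enc (κ ^ 3 * κ) ≠ 0 := by
    intro h
    rw [enc_eq_zero] at h
    rcases mul_eq_zero.1 h with h | h
    · exact hκ (pow_eq_zero_iff (by norm_num) |>.1 h)
    · exact hκ h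
  have hc1 : cond1 (enc (A 0 0)) (enc (A 1 0)) (enc (A 2 0)) (enc (A 0 1)) (enc (A 1 1))
      (enc (A 2 1)) = true := by
    unfold cond1
    rw [hdot 0 1, hdot 1 1, hdot 0 0]
    simp [hμ]
  have hc2 : cond2 (enc (A 0 0)) (enc (A 1 0)) (enc (A 2 0)) (enc (A 0 1)) (enc (A 1 1))
      (enc (A 2 1)) (enc (A 0 2)) (enc (A 1 2)) (enc (A 2 2)) = true := by
    unfold cond2
    rw [hdot 0 2, hdot 1 2, hdot 2 2, hdot 0 0]
    simp
  have h1 := real_fwd' _ (enc_lt_p _ (hAfix 0 0)) _ (enc_lt_p _ (hAfix 1 0)) _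
    (enc_lt_p _ (hAfix 2 0)) _ (enc_lt_p _ (hAfix 0 1)) _ (enc_lt_p _ (hAfix 1 1)) _
    (enc_lt_p _ (hAfix 2 1)) hc1
  unfold realAll at h1
  rw [decide_eq_true_eq] at h1
  have h2 := h1 _ (enc_lt_p _ (hAfix 0 2)) _ (enc_lt_p _ (hAfix 1 2)) _ (enc_lt_p _ (hAfix 2 2)) hc2
  have h3 : scal κ hκ * g ∈ LS := by
    apply mem_LS_of_fwdc
    rw [scal_mul_val]
    exact h2
  exact (Subgroup.mul_mem_cancel_left LS (scal_mem_LS κ hκ)).1 h3

/-- a matrix stabilising the set which is not a scalar multiple of a matrix over the prime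
field -/
def T : M3 := ⟨3, 0, 0, 0, 6, 0, 0, 0, 1⟩

theorem T_isSU : T.isSU = true := by decide +kernel

theorem T_fwd : fwdc T = true := by decide +kernel

/-- some non-zero multiple has all its entries fixed by conjugation -/
def realOK (X : M3) : Bool :=
  (List.range 9).any fun k => !(k == 0) && (cjc (mulc k X.a) == mulc k X.a) &&
    (cjc (mulc k X.b) == mulc k X.b) && (cjc (mulc k X.c) == mulc k X.c) &&
    (cjc (mulc k X.d) == mulc k X.d) && (cjc (mulc k X.e) == mulc k X.e) &&
    (cjc (mulc k X.f) == mulc k X.f) && (cjc (mulc k X.g) == mulc k X.g) &&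
    (cjc (mulc k X.h) == mulc k X.h) && (cjc (mulc k X.i) == mulc k X.i)

theorem realOK_of_real {g : GL (Fin 3) K} (hr : RealP 3 g) :
    realOK (ofMat (g : Matrix (Fin 3) (Fin 3) K)) = true := by
  obtain ⟨κ, hκ, hfix⟩ := hr
  unfold realOK
  rw [List.any_eq_true]
  refine ⟨enc κ, List.mem_range.2 (enc_lt κ), ?_⟩
  have h0 : (enc κ == 0) = false := by
    rw [beq_eq_false_iff_ne]
    exact fun h => hκ (enc_eq_zero.1 h)
  have key : ∀ i j : Fin 3, (cjc (mulc (enc κ) (enc ((g : Matrix (Fin 3) (Fin 3) K) i j))) ==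
      mulc (enc κ) (enc ((g : Matrix (Fin 3) (Fin 3) K) i j))) = true := by
    intro i j
    rw [beq_iff_eq, ← enc_mul, ← enc_frob, hfix i j]
  simp only [ofMat, h0, key, Bool.not_false, Bool.and_self]

theorem T_not_real : ¬ RealP 3 (glOf T (isSU_isU T_isSU)) := by
  intro h
  have h1 := realOK_of_real h
  rw [ofMat_glOf] at h1
  revert h1
  decide +kernel

/-- the overgroup property for the matrices which are real up to a scalar -/
theorem hasOver_real : HasOver (SUg 3 K 3) (RealP (E := K) 3) :=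
  ⟨LS ⊓ SUg 3 K 3, LS_lt, fun g hg hm => ⟨mem_LS_of_real hg hm, hg⟩,
    glOf T (isSU_isU T_isSU), ⟨glOf_mem_LS T _ T_fwd, glOf_mem_SUg T T_isSU⟩, T_not_real⟩

end Cfsg.Agent.Lib.Helper3.SU3.Q3.S3
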