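import Mathlib
import Cfsg.Prelude
import Cfsg.Agent.Lib.Helper3.SU3m3d

set_option autoImplicit false
set_option maxHeartbeats 4000000
set_option maxRecDepth 100000
set_option linter.unusedVariables false
set_option linter.unusedSectionVars false
set_option linter.style.haveILetI false
set_option linter.deprecated false

/-! Over the model field with 9 elements, the normaliser in the special unitary group of an
explicit subgroup of order seven stabilises the set of 21 points, which is also stabilised by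
an element not normalising this subgroup. -/

namespace Cfsg.Agent.Lib.Helper3.SU3.Q3.S21

open Matrix Cfsg Cfsg.Geo
open Cfsg.Agent.Lib.Helper3.MaxU
open Cfsg.Agent.Lib.Helper3.SU3 Cfsg.Agent.Lib.Helper3.SU3.Q3
open Cfsg.Agent.Lib.Helper8 Cfsg.Agent.Lib.Helper5
open Cfsg.Agent.Lib.Helper5.HermBridge (sigma_apply)

/-- an element of order seven -/
def s0 : M3 := ⟨0, 7, 8, 2, 0, 0, 0, 7, 4⟩

/-- an element of order three normalising it -/
def u0 : M3 := ⟨8, 6, 2, 1, 3, 4, 1, 5, 1⟩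

/-- an element stabilising the set, not normalising the subgroup of order seven -/
def t0 : M3 := ⟨2, 0, 0, 0, 0, 1, 0, 1, 0⟩

/-- the inverse of the matrix with columns `e`, `s0 e`, `s0 s0 e` -/
def Mi : M3 := ⟨1, 0, 2, 0, 2, 0, 0, 0, 4⟩

/-- the matrix with columns `e`, `s0 e`, `s0 s0 e` -/
def Mc : M3 :=
  ⟨(s0.pow 0).a, (s0.pow 1).a, (s0.pow 2).a, (s0.pow 0).d, (s0.pow 1).d, (s0.pow 2).d,
    (s0.pow 0).g, (s0.pow 1).g, (s0.pow 2).g⟩

theorem s0_isSU : s0.isSU = true := by decide +kernel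

theorem u0_isSU : u0.isSU = true := by decide +kernel

theorem t0_isSU : t0.isSU = true := by decide +kernel

theorem s0_fwd : fwdc s0 = true := by decide +kernel

theorem u0_fwd : fwdc u0 = true := by decide +kernel

theorem t0_fwd : fwdc t0 = true := by decide +kernel

theorem s0_pow7 : s0.pow 7 = M3.one := by decide +kernel

theorem s0_ne : s0 ≠ M3.one := by decide +kernel

theorem u0_conj1 : u0.mul s0 = (s0.pow 2).mul u0 := by decide +kernel

theorem u0_conj2 : (u0.mul u0).mul s0 = (s0.pow 4).mul (u0.mul u0) := by decide +kernel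

theorem tr_pow : ∀ k < 7, (s0.pow k).tr = s0.tr → k = 1 ∨ k = 2 ∨ k = 4 := by decide +kernel

theorem t0_not : ∀ k < 7, t0.mul s0 ≠ (s0.pow k).mul t0 := by decide +kernel

theorem Mc_Mi : Mc.mul Mi = M3.one := by decide +kernel

theorem Mc_wf : Mc.wf = true := by decide +kernel

theorem Mi_wf : Mi.wf = true := by decide +kernel

theorem pow_wf : ∀ k < 7, (s0.pow k).wf = true := by decide +kernel

/-- coded polynomial in `s0` -/
def polyc (c0 c1 c2 : ℕ) : M3 :=
  ⟨addc (addc (mulc c0 (s0.pow 0).a) (mulc c1 (s0.pow 1).a)) (mulc c2 (s0.pow 2).a),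
    addc (addc (mulc c0 (s0.pow 0).b) (mulc c1 (s0.pow 1).b)) (mulc c2 (s0.pow 2).b),
    addc (addc (mulc c0 (s0.pow 0).c) (mulc c1 (s0.pow 1).c)) (mulc c2 (s0.pow 2).c),
    addc (addc (mulc c0 (s0.pow 0).d) (mulc c1 (s0.pow 1).d)) (mulc c2 (s0.pow 2).d),
    addc (addc (mulc c0 (s0.pow 0).e) (mulc c1 (s0.pow 1).e)) (mulc c2 (s0.pow 2).e),
    addc (addc (mulc c0 (s0.pow 0).f) (mulc c1 (s0.pow 1).f)) (mulc c2 (s0.pow 2).f),
    addc (addc (mulc c0 (s0.pow 0).g) (mulc c1 (s0.pow 1).g)) (mulc c2 (s0.pow 2).g),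
    addc (addc (mulc c0 (s0.pow 0).h) (mulc c1 (s0.pow 1).h)) (mulc c2 (s0.pow 2).h),
    addc (addc (mulc c0 (s0.pow 0).i) (mulc c1 (s0.pow 1).i)) (mulc c2 (s0.pow 2).i)⟩

theorem poly_fwd : ∀ c0 < 9, ∀ c1 < 9, ∀ c2 < 9,
    (polyc c0 c1 c2).isSU = true → fwdc (polyc c0 c1 c2) = true := by
  decide +kernel

/-- the matrix of `s0` -/
noncomputable def S : Matrix (Fin 3) (Fin 3) K := toMat s0

theorem ofMat_S : ofMat S = s0 := ofMat_toMat s0 (isU_wf (isSU_isU s0_isSU))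

theorem ofMat_S_pow (k : ℕ) : ofMat (S ^ k) = s0.pow k := by
  rw [ofMat_pow, ofMat_S]

theorem ent_ofMat (A : Matrix (Fin 3) (Fin 3) K) (i j : Fin 3) : ent (ofMat A) i j = enc (A i j) := by
  fin_cases i <;> fin_cases j <;> rfl

theorem Mc_entry (i k : Fin 3) : toMat Mc i k = (S ^ (k : ℕ)) i 0 := by
  rw [← dec_enc ((S ^ (k : ℕ)) i 0), ← ent_ofMat, ofMat_S_pow, toMat_apply]
  fin_cases i <;> fin_cases k <;> rfl

theorem McMi : toMat Mc * toMat Mi = 1 := by
  rw [← toMat_mul Mc Mi Mc_wf Mi_wf, Mc_Mi]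
  apply ofMat_injective
  rw [ofMat_toMat _ (by decide), ofMat_one]

/-- the first basis vector -/
def e3 : Fin 3 → K := ![1, 0, 0]

theorem mulVec_e3 (A : Matrix (Fin 3) (Fin 3) K) : A *ᵥ e3 = fun i => A i 0 := by
  funext i
  simp [Matrix.mulVec, dotProduct, Fin.sum_univ_three, e3]

theorem Mc_mulVec (u : Fin 3 → K) :
    toMat Mc *ᵥ u = u 0 • (S ^ 0 *ᵥ e3) + u 1 • (S ^ 1 *ᵥ e3) + u 2 • (S ^ 2 *ᵥ e3) := by
  funext i
  rw [mulVec_e3, mulVec_e3, mulVec_e3]
  simp only [Matrix.mulVec, dotProduct, Fin.sum_univ_three, Mc_entry, Pi.add_apply,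
    Pi.smul_apply, smul_eq_mul, Fin.val_zero, Fin.val_one, Fin.val_two]
  ring

/-- polynomial in `S` -/
noncomputable def poly (c : Fin 3 → K) : Matrix (Fin 3) (Fin 3) K :=
  c 0 • S ^ 0 + c 1 • S ^ 1 + c 2 • S ^ 2

theorem ofMat_add (A B : Matrix (Fin 3) (Fin 3) K) :
    ofMat (A + B) = ⟨addc (ofMat A).a (ofMat B).a, addc (ofMat A).b (ofMat B).b,
      addc (ofMat A).c (ofMat B).c, addc (ofMat A).d (ofMat B).d, addc (ofMat A).e (ofMat B).e,
      addc (ofMat A).f (ofMat B).f, addc (ofMat A).g (ofMat B).g, addc (ofMat A).h (ofMat B).h,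
      addc (ofMat A).i (ofMat B).i⟩ := by
  simp only [ofMat, Matrix.add_apply, enc_add]

theorem ofMat_poly (c : Fin 3 → K) : ofMat (poly c) = polyc (enc (c 0)) (enc (c 1)) (enc (c 2)) := by
  unfold poly polyc
  rw [ofMat_add, ofMat_add, ofMat_smul, ofMat_smul, ofMat_smul, ofMat_S_pow, ofMat_S_pow,
    ofMat_S_pow]
  rfl

theorem poly_commute (c : Fin 3 → K) (k : ℕ) : poly c * S ^ k = S ^ k * poly c := by
  have h : Commute (poly c) (S ^ k) := by
    apply Commute.pow_right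
    unfold poly
    have hS : Commute S S := Commute.refl S
    refine Commute.add_left (Commute.add_left ?_ ?_) ?_
    · exact Commute.smul_left (hS.pow_left 0) _
    · exact Commute.smul_left (hS.pow_left 1) _
    · exact Commute.smul_left (hS.pow_left 2) _
  exact h.eq

/-- a matrix commuting with `S` is a polynomial in `S` -/
theorem comm_eq_poly (X : Matrix (Fin 3) (Fin 3) K) (h : X * S = S * X) :
    ∃ c : Fin 3 → K, X = poly c := by
  set c : Fin 3 → K := toMat Mi *ᵥ (X *ᵥ e3) with hc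
  refine ⟨c, ?_⟩
  set P := poly c with hP
  have hXk : ∀ k : ℕ, X * S ^ k = S ^ k * X :=
    fun k => (Commute.pow_right (show Commute X S from h) k).eq
  have hPk : ∀ k : ℕ, P * S ^ k = S ^ k * P := fun k => poly_commute c k
  have hPe : P *ᵥ e3 = X *ᵥ e3 := by
    have h1 : P *ᵥ e3 = toMat Mc *ᵥ c := by
      rw [Mc_mulVec, hP]
      unfold poly
      simp only [Matrix.add_mulVec, Matrix.smul_mulVec]
    rw [h1, hc, Matrix.mulVec_mulVec, McMi, Matrix.one_mulVec]
  have hcol : ∀ k : ℕ, X *ᵥ (S ^ k *ᵥ e3) = P *ᵥ (S ^ k *ᵥ e3) := by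
    intro k
    rw [Matrix.mulVec_mulVec, Matrix.mulVec_mulVec, hXk, hPk, ← Matrix.mulVec_mulVec,
      ← Matrix.mulVec_mulVec, hPe]
  have hXM : X * toMat Mc = P * toMat Mc := by
    funext i k
    have e1 : (X * toMat Mc) i k = (X *ᵥ (fun j => toMat Mc j k)) i := rfl
    have e2 : (P * toMat Mc) i k = (P *ᵥ (fun j => toMat Mc j k)) i := rfl
    have e4 : (fun j => toMat Mc j k) = S ^ (k : ℕ) *ᵥ e3 := by
      rw [mulVec_e3]
      funext j
      exact Mc_entry j k
    rw [e1, e2, e4, hcol]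
  calc X = X * (toMat Mc * toMat Mi) := by rw [McMi, mul_one]
    _ = (X * toMat Mc) * toMat Mi := by rw [mul_assoc]
    _ = (P * toMat Mc) * toMat Mi := by rw [hXM]
    _ = P := by rw [mul_assoc, McMi, mul_one]

/-- the element of order seven -/
noncomputable def S0g : GL (Fin 3) K := glOf s0 (isSU_isU s0_isSU)

/-- the element of order three -/
noncomputable def U0g : GL (Fin 3) K := glOf u0 (isSU_isU u0_isSU)

/-- the element outside the normaliser -/
noncomputable def T0g : GL (Fin 3) K := glOf t0 (isSU_isU t0_isSU)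

theorem S0g_val : (S0g : Matrix (Fin 3) (Fin 3) K) = S := rfl

theorem ofMat_S0g_pow (k : ℕ) :
    ofMat ((S0g ^ k : GL (Fin 3) K) : Matrix (Fin 3) (Fin 3) K) = s0.pow k := by
  rw [Units.val_pow_eq_pow_val, S0g_val, ofMat_S_pow]

theorem S0g_pow7 : S0g ^ 7 = 1 := by
  apply gl_ext
  rw [ofMat_S0g_pow, s0_pow7, Units.val_one, ofMat_one]

theorem S0g_ne_one : S0g ≠ 1 := by
  intro h
  apply s0_ne
  have h1 := ofMat_S0g_pow 1
  rw [pow_one, h, Units.val_one, ofMat_one] at h1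
  rw [h1]
  decide +kernel

theorem orderOf_S0g : orderOf S0g = 7 := by
  haveI : Fact (Nat.Prime 7) := ⟨by norm_num⟩
  exact orderOf_eq_prime S0g_pow7 S0g_ne_one

theorem S0g_mem : S0g ∈ SUg 3 K 3 := glOf_mem_SUg s0 s0_isSU

theorem U0g_mem : U0g ∈ SUg 3 K 3 := glOf_mem_SUg u0 u0_isSU

theorem T0g_mem : T0g ∈ SUg 3 K 3 := glOf_mem_SUg t0 t0_isSU

theorem S0g_LS : S0g ∈ LS := glOf_mem_LS s0 _ s0_fwd

theorem U0g_LS : U0g ∈ LS := glOf_mem_LS u0 _ u0_fwd

theorem T0g_LS : T0g ∈ LS := glOf_mem_LS t0 _ t0_fwd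

theorem U0g_conj1 : U0g * S0g = S0g ^ 2 * U0g := by
  apply gl_ext
  rw [ofMat_gl_mul, ofMat_gl_mul, ofMat_S0g_pow]
  unfold U0g S0g
  rw [ofMat_glOf, ofMat_glOf]
  exact u0_conj1

theorem U0g_conj2 : (U0g * U0g) * S0g = S0g ^ 4 * (U0g * U0g) := by
  apply gl_ext
  rw [ofMat_gl_mul, ofMat_gl_mul, ofMat_gl_mul, ofMat_S0g_pow]
  unfold U0g S0g
  rw [ofMat_glOf, ofMat_glOf]
  exact u0_conj2

/-- an element of the special unitary group commuting with `S0g` stabilises the set -/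
theorem centralizer_LS {y : GL (Fin 3) K} (hy : y ∈ SUg 3 K 3) (hc : y * S0g = S0g * y) :
    y ∈ LS := by
  have h1 : (y : Matrix (Fin 3) (Fin 3) K) * S = S * (y : Matrix (Fin 3) (Fin 3) K) := by
    have := congrArg (fun g : GL (Fin 3) K => (g : Matrix (Fin 3) (Fin 3) K)) hc
    simp only [Units.val_mul, S0g_val] at this
    exact this
  obtain ⟨c, hcp⟩ := comm_eq_poly _ h1
  apply mem_LS_of_fwdc
  have h2 := code_isSU hy
  rw [hcp, ofMat_poly] at h2 ⊢
  exact poly_fwd _ (enc_lt _) _ (enc_lt _) _ (enc_lt _) h2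

/-- the normaliser of the subgroup of order seven stabilises the set -/
theorem normalizer_LS {n : GL (Fin 3) K} (hn : n ∈ SUg 3 K 3)
    (h : n * S0g * n⁻¹ ∈ Subgroup.zpowers S0g) : n ∈ LS := by
  obtain ⟨k, hk⟩ := Subgroup.mem_zpowers_iff.1 h
  have h7 : S0g ^ (7 : ℤ) = 1 := by
    rw [show (7 : ℤ) = ((7 : ℕ) : ℤ) from rfl, zpow_natCast, S0g_pow7]
  have hk' : S0g ^ (k % 7) = n * S0g * n⁻¹ := by
    rw [← hk]
    exact (zpow_eq_zpow_emod k h7).symm
  have hk0 : 0 ≤ k % 7 := Int.emod_nonneg k (by norm_num)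
  have hk7 : k % 7 < 7 := Int.emod_lt_of_pos k (by norm_num)
  obtain ⟨m, hm⟩ := Int.eq_ofNat_of_zero_le hk0
  rw [hm, zpow_natCast] at hk'
  have hm7 : m < 7 := by omega
  -- trace
  have htr : (s0.pow m).tr = s0.tr := by
    have h1 : Matrix.trace ((S0g ^ m : GL (Fin 3) K) : Matrix (Fin 3) (Fin 3) K) =
        Matrix.trace (S0g : Matrix (Fin 3) (Fin 3) K) := by
      rw [hk', Units.val_mul, Units.val_mul]
      exact Matrix.trace_units_conj n _
    have h2 := congrArg enc h1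
    rw [enc_trace, enc_trace, ofMat_S0g_pow, S0g_val, ofMat_S] at h2
    exact h2
  have key : ∀ V : GL (Fin 3) K, V ∈ LS → V ∈ SUg 3 K 3 → V * S0g = S0g ^ m * V → n ∈ LS := by
    intro V hVL hVS hV
    have hy : V⁻¹ * n ∈ SUg 3 K 3 := mul_mem (inv_mem hVS) hn
    have hc : V⁻¹ * n * S0g = S0g * (V⁻¹ * n) := by
      have h1 : n * S0g = S0g ^ m * n := by
        rw [hk']
        group
      have h2 : V⁻¹ * S0g ^ m = S0g * V⁻¹ := by
        have : S0g ^ m = V * S0g * V⁻¹ := by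
          rw [hV]
          group
        rw [this]
        group
      rw [mul_assoc, h1, ← mul_assoc, h2, mul_assoc]
    have h3 := centralizer_LS hy hc
    have h4 : n = V * (V⁻¹ * n) := by group
    rw [h4]
    exact mul_mem hVL h3
  rcases tr_pow m hm7 htr with rfl | rfl | rfl
  · exact key 1 (one_mem _) (one_mem _) (by rw [one_mul, pow_one, mul_one])
  · exact key U0g U0g_LS U0g_mem U0g_conj1
  · exact key (U0g * U0g) (mul_mem U0g_LS U0g_LS) (mul_mem U0g_mem U0g_mem) U0g_conj2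

theorem T0g_not : ¬ (T0g * S0g * T0g⁻¹ ∈ Subgroup.zpowers S0g) := by
  intro h
  obtain ⟨k, hk⟩ := Subgroup.mem_zpowers_iff.1 h
  have h7 : S0g ^ (7 : ℤ) = 1 := by
    rw [show (7 : ℤ) = ((7 : ℕ) : ℤ) from rfl, zpow_natCast, S0g_pow7]
  have hk' : S0g ^ (k % 7) = T0g * S0g * T0g⁻¹ := by
    rw [← hk]
    exact (zpow_eq_zpow_emod k h7).symm
  have hk0 : 0 ≤ k % 7 := Int.emod_nonneg k (by norm_num)
  have hk7 : k % 7 < 7 := Int.emod_lt_of_pos k (by norm_num)
  obtain ⟨m, hm⟩ := Int.eq_ofNat_of_zero_le hk0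
  rw [hm, zpow_natCast] at hk'
  have hm7 : m < 7 := by omega
  have h1 : T0g * S0g = S0g ^ m * T0g := by
    rw [hk']
    group
  apply t0_not m hm7
  have h2 := congrArg (fun g : GL (Fin 3) K => ofMat (g : Matrix (Fin 3) (Fin 3) K)) h1
  simp only [ofMat_gl_mul, ofMat_S0g_pow] at h2
  unfold T0g S0g at h2
  rw [ofMat_glOf, ofMat_glOf] at h2
  exact h2

/-- the overgroup property for the normaliser of the subgroup of order seven -/
theorem hasOver_n7 : HasOver (SUg 3 K 3) (NormP (Subgroup.zpowers S0g)) := by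
  refine ⟨LS ⊓ SUg 3 K 3, LS_lt, fun g hg hm => ⟨normalizer_LS hg ?_, hg⟩, T0g,
    ⟨T0g_LS, T0g_mem⟩, fun h => T0g_not ?_⟩
  · exact hm S0g (Subgroup.mem_zpowers S0g)
  · exact h S0g (Subgroup.mem_zpowers S0g)

end Cfsg.Agent.Lib.Helper3.SU3.Q3.S21
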