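import Mathlib
import Cfsg.Prelude
import Cfsg.Agent.Lib.Helper3.SU3m5a

set_option autoImplicit false
set_option maxHeartbeats 4000000
set_option maxRecDepth 100000
set_option linter.unusedVariables false
set_option linter.unusedSectionVars false
set_option linter.style.haveILetI false
set_option linter.deprecated false

/-! A set of 105 points of the projective plane over the model field with 25 elements, and its
stabiliser. -/

namespace Cfsg.Agent.Lib.Helper3.SU3.Q5.S105

open Matrix Cfsg Cfsg.Geo
open Cfsg.Agent.Lib.Helper3.MaxU
open Cfsg.Agent.Lib.Helper3.SU3.Q5

/-- the characteristic function of the set of normalised representatives, as a bit mask -/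
def MASK : ℕ := 61903140009066282340059022068597094884651555263390892846366136717190606304360091744773992092654293887434999854617961162275756380873876861335048580011091492690095998585119000718910496929679643635434389826298713910608182315583484037021033078653990133545861564196758823740945454919257668027765738448652882506644077613450826437120593896369144867621021276792359133911748789243845726926101679342694221629366451422450938660852914488046310044332504423503530058201716485882321794766522225841494106843337221191090257014019992735684303169573496854801253008838030285770195874212190320434412144880828199393434757058465012375404319489986602037132726955539026739981736247944688111713600837260148495184785024051773281456929241540470787492906726049614473556793645616287187742474305079221716519358550441787752223556050645557150181521204167925855569905996116631308035378327535317390026922494754997268405642940532329116317614995364856900321597843979393669771206628478596206211728774697007420290248249124428611613208820364613608061358725891574486716604153841298282577722686808508832898950646022855508560628510948208788880567134941004066712795760994581785093057044580776530614892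5726661293833369149236783037154485497042771353370532806697053401716751012393195153899380735060949020656288833461261012631477001023110668804475469767858121619915145382691270373727693066339807615770671212950945186844005238017086938568892552680866886773066383278093212806959651390784901597563176072466579088880404628845922121740421245424723414414082557274050627502742464305482090478824575542083226719820377382027042117524546693059919033866333312682052768417386305589007686674016412474397730692769941992691314062115844829087904707465133153202953763401544329813211755654549829576679960922900351177427620641611893583641758802965919892192623909531830890566955200441261867925473922978064842932480342995922068062056629960630364875458577429364270378225948410649163993791038691585059144056020318144361180441521054033982641999175876535226329891083679022770820613039230684734175690316239954821765127152305754195002861958935951836479026156636783738919620813096702268052246720721383067232175979460012834575742209623839031375012257759700084944487303883818471847256451140470758091070006863550264906802395419348560827928139131075103823209292804596817624734600762491753471738160839388360168053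8153951998745102545102419144233148586202433257763649368831958722811786912851833370348705994834728250652677795369051756120683690945599895783241073625855168750218816160162937289862348995899996204984662701831120130761311745107232075267349263333339953941282006608719351176280565259841000502786831266439033319390995177327247646016548886896760584979627094765597272153606919535695418426635245605739090360529702228438855088581115241421778763751075955860022375811126638821104149820087904212024729355892560588920594521700041364500595771113632175599690003742590056507636442776202165255614355385695554803786461457743175199207327667638907078945579608915440412741577662315900397438500572646554259280442301642937471281793404631607752367920760043791500786165946381413998597180791010214738074318683098737337942539777302467646638143539893342972200841984219975358811416268190211061520938133353592302764945806803726987014701575118374941929055713155313571596108791103644592703267893358569931851344142501519411075077996884119726625605888597681681755917280954068330215759247830731486677534258232391184036432064856705565553965585682027544108530680074223748003845603256348566320200393394745483613153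96642128651465345212890407499439471226869253198999671660384991290892091669377297142242457222718605298423970404436608492699689214977428990177590904378011294143308202163334789436892488673013766301527096957928330909407082582035227434655985475228072379315372774975664748393921369388467949620454654850912415003198156089349376236660686564166460178802698306109300209636580572058507338990875500883473755695866140558410455781251616798515823795523622678336463275652010645489999143142902684895974356892192070667439213077240901596226615889029670196523506772190506429294787279617919054304675356271988834853660840839656117349219340552617413414442103215125048680749028669043944526277661436741620115910402790918445782153504512624677665527438587178516919121240065069305764669324140280274660131119680381139103138022639175645413568129229637339098423687782472694330148627384491110532335681058459412983564166830590510578464912189371996912090647177457060012985331906050065431889853986583780826760038556704183146227972377158539393020528907143643030467694215294848523652804310217945448715247742251237841751659810089398769634309790502900981656544032008979548149332981378561140230902397632774146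

/-- the codes of the normalised representatives -/
def reps : List ℕ := [1, 25, 26, 101, 301, 326, 426, 451, 625, 626, 650, 651, 676, 701, 726, 876, 1001, 1276, 1301, 1326, 1351, 1901, 1926, 1951, 1976, 2501, 2525, 2526, 2551, 2576, 2601, 2751, 2876, 3251, 3626, 3976, 4076, 4176, 4276, 4701, 4801, 5301, 5451, 5776, 5926, 6076, 6226, 6276, 6351, 7226, 7276, 7501, 7525, 7701, 7726, 7826, 7926, 8026, 8051, 8126, 8150, 8276, 8301, 8426, 8576, 8701, 8726, 9026, 9226, 9401, 9476, 10276, 10476, 10626, 10650, 10776, 10801, 10926, 11076, 11201, 11226, 11251, 11275, 11451, 11476, 11576, 11676, 11776, 11801, 12226, 12276, 12626, 13001, 13276, 13426, 13576, 13726, 14051, 14201, 14701, 14801, 15226, 15326, 15426, 15526]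

/-- coded membership in the set of points -/
def SN (x y z : ℕ) : Bool :=
  Nat.testBit MASK (mulc (invc (ld x y z)) x + 25 * mulc (invc (ld x y z)) y +
    625 * mulc (invc (ld x y z)) z)

theorem SN_gam : ∀ x < 25, ∀ y < 25, ∀ z < 25,
    SN (mulc gam x) (mulc gam y) (mulc gam z) = SN x y z := by
  decide +kernel

/-- the normalised form of a vector of the set is one of the representatives -/
def repOK (x y z : ℕ) : Bool :=
  !(ld x y z == 0) && (mulc (ld x y z) (mulc (invc (ld x y z)) x) == x) &&
    (mulc (ld x y z) (mulc (invc (ld x y z)) y) == y) &&
    (mulc (ld x y z) (mulc (invc (ld x y z)) z) == z) &&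
    reps.contains (mulc (invc (ld x y z)) x + 25 * mulc (invc (ld x y z)) y +
        625 * mulc (invc (ld x y z)) z)

theorem SN_reps' : ∀ x < 25, ∀ y < 25, ∀ z < 25, SN x y z = true → repOK x y z = true := by
  decide +kernel

theorem SN_reps (x : ℕ) (hx : x < 25) (y : ℕ) (hy : y < 25) (z : ℕ) (hz : z < 25)
    (h : SN x y z = true) :
    (ld x y z ≠ 0 ∧ mulc (ld x y z) (mulc (invc (ld x y z)) x) = x ∧
      mulc (ld x y z) (mulc (invc (ld x y z)) y) = y ∧
      mulc (ld x y z) (mulc (invc (ld x y z)) z) = z ∧
      (mulc (invc (ld x y z)) x + 25 * mulc (invc (ld x y z)) y +
        625 * mulc (invc (ld x y z)) z) ∈ reps) := by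
  have h1 := SN_reps' x hx y hy z hz h
  unfold repOK at h1
  simp only [Bool.and_eq_true, Bool.not_eq_true', beq_eq_false_iff_ne, beq_iff_eq,
    List.contains_iff_mem] at h1
  obtain ⟨⟨⟨⟨h2, h3⟩, h4⟩, h5⟩, h6⟩ := h1
  exact ⟨h2, h3, h4, h5, h6⟩

/-- membership in the set of points -/
def SP (v : Fin 3 → K) : Prop := SN (enc (v 0)) (enc (v 1)) (enc (v 2)) = true

theorem SP_gam (v : Fin 3 → K) : SP ((dec gam) • v) ↔ SP v := by
  unfold SP
  simp only [Pi.smul_apply, smul_eq_mul, enc_mul, enc_dec gam (by decide)]
  rw [SN_gam _ (enc_lt _) _ (enc_lt _) _ (enc_lt _)]

theorem SP_pow (k : ℕ) (v : Fin 3 → K) : SP ((dec gam) ^ k • v) ↔ SP v := by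
  induction k generalizing v with
  | zero => rw [pow_zero, one_smul]
  | succ k ih => rw [pow_succ, mul_smul, ih, SP_gam]

theorem SP_smul (c : K) (hc : c ≠ 0) (v : Fin 3 → K) : SP (c • v) ↔ SP v := by
  obtain ⟨k, rfl⟩ := exists_pow c hc
  exact SP_pow k v

/-- the coded matrix maps the representatives into the set -/
def fwdc (X : M3) : Bool :=
  reps.all fun c => SN (X.mv1 (c % 25) (c / 25 % 25) (c / 625))
    (X.mv2 (c % 25) (c / 25 % 25) (c / 625)) (X.mv3 (c % 25) (c / 25 % 25) (c / 625))

theorem SP_of_fwdc (A : Matrix (Fin 3) (Fin 3) K) (h : fwdc (ofMat A) = true) (v : Fin 3 → K)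
    (hv : SP v) : SP (A *ᵥ v) := by
  obtain ⟨hl, hx, hy, hz, hmem⟩ := SN_reps _ (enc_lt (v 0)) _ (enc_lt (v 1)) _ (enc_lt (v 2)) hv
  set l := ld (enc (v 0)) (enc (v 1)) (enc (v 2)) with hldef
  have hlt : l < 25 := ld_lt (enc_lt _) (enc_lt _) (enc_lt _)
  set nx := mulc (invc l) (enc (v 0)) with hnx
  set ny := mulc (invc l) (enc (v 1)) with hny
  set nz := mulc (invc l) (enc (v 2)) with hnz
  have hnx' : nx < 25 := mulc_lt _ _
  have hny' : ny < 25 := mulc_lt _ _
  have hnz' : nz < 25 := mulc_lt _ _
  set r : Fin 3 → K := ![dec nx, dec ny, dec nz] with hr
  have hvr : v = dec l • r := by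
    funext i
    fin_cases i
    · show v 0 = dec l * dec nx
      rw [← dec_mul hlt hnx', hx, dec_enc]
    · show v 1 = dec l * dec ny
      rw [← dec_mul hlt hny', hy, dec_enc]
    · show v 2 = dec l * dec nz
      rw [← dec_mul hlt hnz', hz, dec_enc]
  have hAr : SP (A *ᵥ r) := by
    unfold SP
    rw [enc_mulVec0, enc_mulVec1, enc_mulVec2]
    have h0 : enc (r 0) = nx := enc_dec nx hnx'
    have h1 : enc (r 1) = ny := enc_dec ny hny'
    have h2 : enc (r 2) = nz := enc_dec nz hnz'
    rw [h0, h1, h2]
    have h3 := List.all_eq_true.1 h _ hmem
    have e1 : (nx + 25 * ny + 625 * nz) % 25 = nx := by omega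
    have e2 : (nx + 25 * ny + 625 * nz) / 25 % 25 = ny := by omega
    have e3 : (nx + 25 * ny + 625 * nz) / 625 = nz := by omega
    rw [e1, e2, e3] at h3
    exact h3
  rw [hvr, Matrix.mulVec_smul]
  exact (SP_smul _ (dec_ne_zero hlt hl) _).2 hAr

/-- the stabiliser of the set of points -/
def LS : Subgroup (GL (Fin 3) K) where
  carrier := {g | ∀ v, SP ((g : Matrix (Fin 3) (Fin 3) K) *ᵥ v) ↔ SP v}
  mul_mem' := by
    intro a b ha hb v
    rw [Units.val_mul, ← Matrix.mulVec_mulVec, ha, hb]
  one_mem' := by
    intro v
    rw [Units.val_one, Matrix.one_mulVec]
  inv_mem' := by
    intro a ha v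
    have h := ha (((a⁻¹ : GL (Fin 3) K) : Matrix (Fin 3) (Fin 3) K) *ᵥ v)
    rw [Matrix.mulVec_mulVec, ← Units.val_mul, mul_inv_cancel, Units.val_one,
      Matrix.one_mulVec] at h
    exact h.symm

theorem mem_LS_iff (g : GL (Fin 3) K) :
    g ∈ LS ↔ ∀ v, SP ((g : Matrix (Fin 3) (Fin 3) K) *ᵥ v) ↔ SP v := Iff.rfl

theorem mem_LS_of_fwd (g : GL (Fin 3) K)
    (h : ∀ v, SP v → SP ((g : Matrix (Fin 3) (Fin 3) K) *ᵥ v)) : g ∈ LS := by
  classical
  intro v
  constructor
  · intro hgv
    let f : {v : Fin 3 → K // SP v} → {v : Fin 3 → K // SP v} :=
      fun w => ⟨(g : Matrix (Fin 3) (Fin 3) K) *ᵥ w.1, h w.1 w.2⟩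
    have hinj : Function.Injective f := by
      intro a b hab
      apply Subtype.ext
      exact gl_mulVec_injective g (congrArg Subtype.val hab)
    obtain ⟨w, hw⟩ := Finite.surjective_of_injective hinj ⟨_, hgv⟩
    have h3 : (g : Matrix (Fin 3) (Fin 3) K) *ᵥ w.1 = (g : Matrix (Fin 3) (Fin 3) K) *ᵥ v :=
      congrArg Subtype.val hw
    rw [← gl_mulVec_injective g h3]
    exact w.2
  · exact h v

theorem mem_LS_of_fwdc (g : GL (Fin 3) K)
    (h : fwdc (ofMat (g : Matrix (Fin 3) (Fin 3) K)) = true) : g ∈ LS :=
  mem_LS_of_fwd g (SP_of_fwdc _ h)

theorem glOf_mem_LS (X : M3) (h : X.isU = true) (h2 : fwdc X = true) : glOf X h ∈ LS := by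
  apply mem_LS_of_fwdc
  rw [ofMat_glOf]
  exact h2

theorem scal_mem_LS (k : K) (hk : k ≠ 0) : scal k hk ∈ LS := by
  intro v
  rw [scal_val, Matrix.smul_mulVec, Matrix.one_mulVec]
  exact SP_smul k hk v

/-- a special unitary matrix not stabilising the set -/
def W : M3 := ⟨7, 0, 3, 2, 0, 22, 0, 4, 0⟩

theorem W_isSU : W.isSU = true := by decide +kernel

theorem W_not : SN 0 0 1 = true ∧
    SN (W.mv1 0 0 1) (W.mv2 0 0 1) (W.mv3 0 0 1) = false := by
  decide +kernel

theorem W_not_mem : glOf W (isSU_isU W_isSU) ∉ LS := by
  intro h
  have e0 : enc ((![dec 0, dec 0, dec 1] : Fin 3 → K) 0) = 0 := enc_dec 0 (by decide)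
  have e1 : enc ((![dec 0, dec 0, dec 1] : Fin 3 → K) 1) = 0 := enc_dec 0 (by decide)
  have e2 : enc ((![dec 0, dec 0, dec 1] : Fin 3 → K) 2) = 1 := enc_dec 1 (by decide)
  have hv : SP ![dec 0, dec 0, dec 1] := by
    unfold SP
    rw [e0, e1, e2]
    exact W_not.1
  have h1 := (h ![dec 0, dec 0, dec 1]).2 hv
  unfold SP at h1
  rw [enc_mulVec0, enc_mulVec1, enc_mulVec2, ofMat_glOf, e0, e1, e2, W_not.2] at h1
  exact Bool.false_ne_true h1

/-- the stabiliser in the special unitary group is a proper subgroup -/
theorem LS_lt : LS ⊓ SUg 3 K 5 < SUg 3 K 5 := by
  refine SetLike.lt_iff_le_and_exists.2 ⟨inf_le_right, glOf W (isSU_isU W_isSU),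
    glOf_mem_SUg W W_isSU, ?_⟩
  intro h
  exact W_not_mem h.1

end Cfsg.Agent.Lib.Helper3.SU3.Q5.S105
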