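import Mathlib
import Cfsg.Prelude
import Cfsg.Agent.Lib.Helper3.SU3m5b

set_option autoImplicit false
set_option maxHeartbeats 4000000
set_option maxRecDepth 100000
set_option linter.unusedVariables false
set_option linter.unusedSectionVars false
set_option linter.style.haveILetI false
set_option linter.deprecated false

/-! Over the model field with 25 elements, the monomial matrices of the special unitary group
stabilise the set of 105 points, which is also stabilised by a non-monomial matrix. -/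

namespace Cfsg.Agent.Lib.Helper3.SU3.Q5.S105.MonL

open Matrix Cfsg Cfsg.Geo
open Cfsg.Agent.Lib.Helper3.MaxU
open Cfsg.Agent.Lib.Helper3.SU3 Cfsg.Agent.Lib.Helper3.SU3.Q5
open Cfsg.Agent.Lib.Helper8 Cfsg.Agent.Lib.Helper5
open Cfsg.Agent.Lib.Helper5.HermBridge (sigma_apply)

/-- coded monomial matrix -/
def monc (i0 i1 i2 : Fin 3) (a0 a1 a2 : ℕ) : M3 :=
  ⟨if i0 = 0 then a0 else 0, if i1 = 0 then a1 else 0, if i2 = 0 then a2 else 0,
    if i0 = 1 then a0 else 0, if i1 = 1 then a1 else 0, if i2 = 1 then a2 else 0,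
    if i0 = 2 then a0 else 0, if i1 = 2 then a1 else 0, if i2 = 2 then a2 else 0⟩

/-- all monomial matrices with the given non-zero entries map the representatives into the set -/
def monAll (a0 a1 a2 : ℕ) : Bool :=
  decide (∀ i0 i1 i2 : Fin 3, (decide (i0 ≠ i1) && decide (i0 ≠ i2) && decide (i1 ≠ i2) &&
    decide ((monc i0 i1 i2 a0 a1 a2).det = 1)) = true → fwdc (monc i0 i1 i2 a0 a1 a2) = true)

theorem mon_fwd' : ∀ a0 < 25, ∀ a1 < 25, ∀ a2 < 25,
    (decide (mulc (cjc a0) a0 = 1) && decide (mulc (cjc a1) a1 = 1) &&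
      decide (mulc (cjc a2) a2 = 1)) = true → monAll a0 a1 a2 = true := by
  decide +kernel

theorem mon_fwd (a0 : ℕ) (h0 : a0 < 25) (n0 : mulc (cjc a0) a0 = 1) (a1 : ℕ) (h1 : a1 < 25)
    (n1 : mulc (cjc a1) a1 = 1) (a2 : ℕ) (h2 : a2 < 25) (n2 : mulc (cjc a2) a2 = 1)
    (i0 i1 i2 : Fin 3) (h01 : i0 ≠ i1) (h02 : i0 ≠ i2) (h12 : i1 ≠ i2)
    (hdet : (monc i0 i1 i2 a0 a1 a2).det = 1) :
    fwdc (monc i0 i1 i2 a0 a1 a2) = true := by
  have h := mon_fwd' a0 h0 a1 h1 a2 h2 (by simp [n0, n1, n2])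
  unfold monAll at h
  rw [decide_eq_true_eq] at h
  exact h i0 i1 i2 (by simp [h01, h02, h12, hdet])

theorem mem_LS_of_mon {g : GL (Fin 3) K} (hg : g ∈ SUg 3 K 5) (hm : MonP g) : g ∈ LS := by
  classical
  choose σ hσ using hm
  have hstar := (Cfsg.Agent.Lib.Helper9.AschU.mem_GU_iff card_K g).1 hg.1
  have hcol : ∀ j k : Fin 3,
      (Asch.star (HermBridge.sigma card_K) (g : Matrix (Fin 3) (Fin 3) K) *
        (g : Matrix (Fin 3) (Fin 3) K)) j k =
      ((g : Matrix (Fin 3) (Fin 3) K) (σ j) j) ^ 5 * (g : Matrix (Fin 3) (Fin 3) K) (σ j) k := by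
    intro j k
    rw [Matrix.mul_apply, Finset.sum_eq_single (σ j)]
    · rw [Asch.star_apply, sigma_apply]
    · intro r _ hr
      rw [Asch.star_apply, sigma_apply, hσ j r hr, zero_pow (by norm_num), zero_mul]
    · intro h
      exact absurd (Finset.mem_univ _) h
  have hnorm : ∀ j : Fin 3, ((g : Matrix (Fin 3) (Fin 3) K) (σ j) j) ^ 5 *
      (g : Matrix (Fin 3) (Fin 3) K) (σ j) j = 1 := by
    intro j
    rw [← hcol, hstar, Matrix.one_apply_eq]
  have hne : ∀ j : Fin 3, (g : Matrix (Fin 3) (Fin 3) K) (σ j) j ≠ 0 := by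
    intro j h
    have := hnorm j
    rw [h, mul_zero] at this
    exact zero_ne_one this
  have hinj : ∀ j k : Fin 3, j ≠ k → σ j ≠ σ k := by
    intro j k hjk h
    have h1 := hcol j k
    rw [hstar, Matrix.one_apply_ne hjk, h] at h1
    rcases mul_eq_zero.1 h1.symm with h2 | h2
    · rw [← h] at h2
      exact hne j (pow_eq_zero_iff (by norm_num) |>.1 h2)
    · exact hne k h2
  have key : ∀ r j : Fin 3, enc ((g : Matrix (Fin 3) (Fin 3) K) r j) =
      if σ j = r then enc ((g : Matrix (Fin 3) (Fin 3) K) (σ j) j) else 0 := by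
    intro r j
    split_ifs with h
    · rw [h]
    · rw [hσ j r (Ne.symm h), enc_zero]
  have hcode : ofMat (g : Matrix (Fin 3) (Fin 3) K) =
      monc (σ 0) (σ 1) (σ 2) (enc ((g : Matrix (Fin 3) (Fin 3) K) (σ 0) 0))
        (enc ((g : Matrix (Fin 3) (Fin 3) K) (σ 1) 1))
        (enc ((g : Matrix (Fin 3) (Fin 3) K) (σ 2) 2)) := by
    simp only [ofMat, monc, M3.mk.injEq]
    exact ⟨key 0 0, key 0 1, key 0 2, key 1 0, key 1 1, key 1 2, key 2 0, key 2 1, key 2 2⟩
  have hn : ∀ j : Fin 3, mulc (cjc (enc ((g : Matrix (Fin 3) (Fin 3) K) (σ j) j)))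
      (enc ((g : Matrix (Fin 3) (Fin 3) K) (σ j) j)) = 1 := by
    intro j
    rw [← enc_frob, ← enc_mul, hnorm j, enc_one]
  apply mem_LS_of_fwdc
  rw [hcode]
  exact mon_fwd _ (enc_lt _) (hn 0) _ (enc_lt _) (hn 1) _ (enc_lt _) (hn 2) _ _ _
    (hinj 0 1 (by decide)) (hinj 0 2 (by decide)) (hinj 1 2 (by decide))
    (by rw [← hcode]; exact code_det hg.2)

/-- a non-monomial matrix stabilising the set -/
def T : M3 := ⟨1, 4, 2, 4, 2, 4, 2, 4, 1⟩

theorem T_isSU : T.isSU = true := by decide +kernel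

theorem T_fwd : fwdc T = true := by decide +kernel

/-- a column has at least two zero entries -/
def colOK (a d g : ℕ) : Bool := (a == 0 && d == 0) || (a == 0 && g == 0) || (d == 0 && g == 0)

theorem colOK_of_mon {g : GL (Fin 3) K} (hm : MonP g) :
    colOK (ofMat (g : Matrix (Fin 3) (Fin 3) K)).a (ofMat (g : Matrix (Fin 3) (Fin 3) K)).d
      (ofMat (g : Matrix (Fin 3) (Fin 3) K)).g = true := by
  obtain ⟨i, hi⟩ := hm 0
  show colOK (enc ((g : Matrix (Fin 3) (Fin 3) K) 0 0)) (enc ((g : Matrix (Fin 3) (Fin 3) K) 1 0))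
    (enc ((g : Matrix (Fin 3) (Fin 3) K) 2 0)) = true
  fin_cases i
  · rw [hi 1 (by decide), hi 2 (by decide), enc_zero]
    simp [colOK]
  · rw [hi 0 (by decide), hi 2 (by decide), enc_zero]
    simp [colOK]
  · rw [hi 0 (by decide), hi 1 (by decide), enc_zero]
    simp [colOK]

theorem T_not_mon : ¬ MonP (glOf T (isSU_isU T_isSU)) := by
  intro h
  have h1 := colOK_of_mon h
  rw [ofMat_glOf] at h1
  revert h1
  decide

/-- the overgroup property for the monomial matrices -/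
theorem hasOver_mon : HasOver (SUg 3 K 5) (MonP (E := K)) :=
  ⟨LS ⊓ SUg 3 K 5, LS_lt, fun g hg hm => ⟨mem_LS_of_mon hg hm, hg⟩,
    glOf T (isSU_isU T_isSU), ⟨glOf_mem_LS T _ T_fwd, glOf_mem_SUg T T_isSU⟩, T_not_mon⟩

end Cfsg.Agent.Lib.Helper3.SU3.Q5.S105.MonL
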