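import Mathlib
import Cfsg.Prelude
import Cfsg.Agent.Lib.Helper3.SU3m5b

set_option autoImplicit false
set_option maxHeartbeats 4000000
set_option maxRecDepth 100000
set_option linter.unusedVariables false
set_option linter.unusedSectionVars false
set_option linter.style.haveILetI false
set_option linter.deprecated false

/-! Over the model field with 25 elements, the special unitary matrices which are scalar multiples
of matrices over the prime field stabilise the set of 105 points, which is also stabilised by a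
matrix not of this form. -/

namespace Cfsg.Agent.Lib.Helper3.SU3.Q5.S105.RealL

open Matrix Cfsg Cfsg.Geo
open Cfsg.Agent.Lib.Helper3.MaxU
open Cfsg.Agent.Lib.Helper3.SU3 Cfsg.Agent.Lib.Helper3.SU3.Q5
open Cfsg.Agent.Lib.Helper8 Cfsg.Agent.Lib.Helper5
open Cfsg.Agent.Lib.Helper5.HermBridge (sigma_apply)

/-- the first two columns are orthogonal of the same non-zero norm -/
def cond1 (a d g b e h : ℕ) : Bool :=
  decide (dot3 a d g b e h = 0) && decide (dot3 b e h b e h = dot3 a d g a d g) &&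
    !decide (dot3 a d g a d g = 0)

/-- the third column is orthogonal to the first two, of the same norm -/
def cond2 (a d g b e h c f i : ℕ) : Bool :=
  decide (dot3 a d g c f i = 0) && decide (dot3 b e h c f i = 0) &&
    decide (dot3 c f i c f i = dot3 a d g a d g)

/-- all completions of the first two columns map the representatives into the set -/
def realAll (a d g b e h : ℕ) : Bool :=
  decide (∀ c : ℕ, c < 5 → ∀ f : ℕ, f < 5 → ∀ i : ℕ, i < 5 → cond2 a d g b e h c f i = true →
    fwdc ⟨a, b, c, d, e, f, g, h, i⟩ = true)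

set_option synthInstance.maxSize 4096 in
set_option synthInstance.maxHeartbeats 2000000 in
theorem real_fwd' : ∀ a < 5, ∀ d < 5, ∀ g < 5, ∀ b < 5, ∀ e < 5, ∀ h < 5,
    cond1 a d g b e h = true → realAll a d g b e h = true := by
  decide +kernel

theorem enc_lt_p' : ∀ a b : ZMod 5, (⟨a, b⟩ : K) ^ 5 = ⟨a, b⟩ → enc (⟨a, b⟩ : K) < 5 := by
  decide +kernel

theorem enc_lt_p (x : K) (h : x ^ 5 = x) : enc x < 5 := enc_lt_p' x.re x.im h

theorem mem_LS_of_real {g : GL (Fin 3) K} (hg : g ∈ SUg 3 K 5) (hr : RealP 5 g) : g ∈ LS := by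
  classical
  obtain ⟨κ, hκ, hfix⟩ := hr
  set A : Matrix (Fin 3) (Fin 3) K := κ • (g : Matrix (Fin 3) (Fin 3) K) with hA
  have hAfix : ∀ i j, (A i j) ^ 5 = A i j := by
    intro i j
    rw [hA, Matrix.smul_apply, smul_eq_mul]
    exact hfix i j
  have hstar := (Cfsg.Agent.Lib.Helper9.AschU.mem_GU_iff card_K g).1 hg.1
  have hAA : ∀ j k : Fin 3, A 0 j * A 0 k + A 1 j * A 1 k + A 2 j * A 2 k =
      if j = k then κ ^ 5 * κ else 0 := by
    intro j k
    have h1 := congrFun (congrFun hstar j) k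
    rw [Matrix.mul_apply, Fin.sum_univ_three, Matrix.one_apply] at h1
    simp only [Asch.star_apply, sigma_apply] at h1
    have h2 : A 0 j * A 0 k + A 1 j * A 1 k + A 2 j * A 2 k =
        (A 0 j) ^ 5 * A 0 k + (A 1 j) ^ 5 * A 1 k + (A 2 j) ^ 5 * A 2 k := by
      rw [hAfix, hAfix, hAfix]
    rw [h2]
    simp only [hA, Matrix.smul_apply, smul_eq_mul, mul_pow]
    split_ifs with hjk
    · rw [if_pos hjk] at h1
      linear_combination (κ ^ 5 * κ) * h1
    · rw [if_neg hjk] at h1
      linear_combination (κ ^ 5 * κ) * h1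
  have hdot : ∀ j k : Fin 3, dot3 (enc (A 0 j)) (enc (A 1 j)) (enc (A 2 j)) (enc (A 0 k))
      (enc (A 1 k)) (enc (A 2 k)) = if j = k then enc (κ ^ 5 * κ) else 0 := by
    intro j k
    unfold dot3
    rw [← enc_mul, ← enc_mul, ← enc_mul, ← enc_add, ← enc_add, hAA j k]
    split_ifs
    · rfl
    · exact enc_zero
  have hμ : enc (κ ^ 5 * κ) ≠ 0 := by
    intro h
    rw [enc_eq_zero] at h
    rcases mul_eq_zero.1 h with h | h
    · exact hκ (pow_eq_zero_iff (by norm_num) |>.1 h)
    · exact hκ h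
  have hc1 : cond1 (enc (A 0 0)) (enc (A 1 0)) (enc (A 2 0)) (enc (A 0 1)) (enc (A 1 1))
      (enc (A 2 1)) = true := by
    unfold cond1
    rw [hdot 0 1, hdot 1 1, hdot 0 0]
    simp [hμ]
  have hc2 : cond2 (enc (A 0 0)) (enc (A 1 0)) (enc (A 2 0)) (enc (A 0 1)) (enc (A 1 1))
      (enc (A 2 1)) (enc (A 0 2)) (enc (A 1 2)) (enc (A 2 2)) = true := by
    unfold cond2
    rw [hdot 0 2, hdot 1 2, hdot 2 2, hdot 0 0]
    simp
  have h1 := real_fwd' _ (enc_lt_p _ (hAfix 0 0)) _ (enc_lt_p _ (hAfix 1 0)) _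
    (enc_lt_p _ (hAfix 2 0)) _ (enc_lt_p _ (hAfix 0 1)) _ (enc_lt_p _ (hAfix 1 1)) _
    (enc_lt_p _ (hAfix 2 1)) hc1
  unfold realAll at h1
  rw [decide_eq_true_eq] at h1
  have h2 := h1 _ (enc_lt_p _ (hAfix 0 2)) _ (enc_lt_p _ (hAfix 1 2)) _ (enc_lt_p _ (hAfix 2 2)) hc2
  have h3 : scal κ hκ * g ∈ LS := by
    apply mem_LS_of_fwdc
    rw [scal_mul_val]
    exact h2
  exact (Subgroup.mul_mem_cancel_left LS (scal_mem_LS κ hκ)).1 h3

/-- a matrix stabilising the set which is not a scalar multiple of a matrix over the prime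
field -/
def T : M3 := ⟨18, 0, 0, 0, 13, 0, 0, 0, 1⟩

theorem T_isSU : T.isSU = true := by decide +kernel

theorem T_fwd : fwdc T = true := by decide +kernel

/-- some non-zero multiple has all its entries fixed by conjugation -/
def realOK (X : M3) : Bool :=
  (List.range 25).any fun k => !(k == 0) && (cjc (mulc k X.a) == mulc k X.a) &&
    (cjc (mulc k X.b) == mulc k X.b) && (cjc (mulc k X.c) == mulc k X.c) &&
    (cjc (mulc k X.d) == mulc k X.d) && (cjc (mulc k X.e) == mulc k X.e) &&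
    (cjc (mulc k X.f) == mulc k X.f) && (cjc (mulc k X.g) == mulc k X.g) &&
    (cjc (mulc k X.h) == mulc k X.h) && (cjc (mulc k X.i) == mulc k X.i)

theorem realOK_of_real {g : GL (Fin 3) K} (hr : RealP 5 g) :
    realOK (ofMat (g : Matrix (Fin 3) (Fin 3) K)) = true := by
  obtain ⟨κ, hκ, hfix⟩ := hr
  unfold realOK
  rw [List.any_eq_true]
  refine ⟨enc κ, List.mem_range.2 (enc_lt κ), ?_⟩
  have h0 : (enc κ == 0) = false := by
    rw [beq_eq_false_iff_ne]
    exact fun h => hκ (enc_eq_zero.1 h)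
  have key : ∀ i j : Fin 3, (cjc (mulc (enc κ) (enc ((g : Matrix (Fin 3) (Fin 3) K) i j))) ==
      mulc (enc κ) (enc ((g : Matrix (Fin 3) (Fin 3) K) i j))) = true := by
    intro i j
    rw [beq_iff_eq, ← enc_mul, ← enc_frob, hfix i j]
  simp only [ofMat, h0, key, Bool.not_false, Bool.and_self]

theorem T_not_real : ¬ RealP 5 (glOf T (isSU_isU T_isSU)) := by
  intro h
  have h1 := realOK_of_real h
  rw [ofMat_glOf] at h1
  revert h1
  decide +kernel

/-- the overgroup property for the matrices which are real up to a scalar -/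
theorem hasOver_real : HasOver (SUg 3 K 5) (RealP (E := K) 5) :=
  ⟨LS ⊓ SUg 3 K 5, LS_lt, fun g hg hm => ⟨mem_LS_of_real hg hm, hg⟩,
    glOf T (isSU_isU T_isSU), ⟨glOf_mem_LS T _ T_fwd, glOf_mem_SUg T T_isSU⟩, T_not_real⟩

end Cfsg.Agent.Lib.Helper3.SU3.Q5.S105.RealL
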