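import Mathlib
import Cfsg.Prelude
import Cfsg.Agent.Lib.Helper3.SU3m5a

set_option autoImplicit false
set_option maxHeartbeats 4000000
set_option maxRecDepth 100000
set_option linter.unusedVariables false
set_option linter.unusedSectionVars false
set_option linter.style.haveILetI false
set_option linter.deprecated false

/-! A set of 36 points of the projective plane over the model field with 25 elements, and its
stabiliser. -/

namespace Cfsg.Agent.Lib.Helper3.SU3.Q5.S36

open Matrix Cfsg Cfsg.Geo
open Cfsg.Agent.Lib.Helper3.MaxU
open Cfsg.Agent.Lib.Helper3.SU3.Q5

/-- the characteristic function of the set of normalised representatives, as a bit mask -/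
def MASK : ℕ := 50057042308771859639851259649751282130423785230193285359184594054136285588143933945913725334491061545489017773054557658645568298883310622425218923765060403856828786738044100297332775919147485992951398418522716917470082647039212950409207447360675223359696674701351842992091335403538363404503560761197947949377827569021595865933222729227733048616423013726249353175153238832531694390224301566840567637841562481829861053300683425164810547774168006566407978920964676004310575146919498049335209063807459685034334823090020532920900622491691622346267883342098731163202873465249651973304676293397900883052039401206464035509430060023478432552305418738921861028901430424833151791437453269436118558516358982187870715213848700027821269447317547593103652334860830748221756198479956855685817985828814918244629597377800749024008662671221867177343278726669214449344553923715006552230720346799185564228478503475115327515066847893707474614645496291128748954810166133056713718253291734327953495753398423652946710053446975834076604917790415566276194668104825138167961896505813558988071609970733938730148435151633754017831828450752530450257460494490589604371708176461037232956257603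6823547815991300169964518622656713932121648744173692292964574714205218066656860994955815771215715159774464435537566834014104374731887354010865614799312936359554065080382044612885591793195638685940958728733187683070787716028411462554834676953433394349418234356463440442708062956784741905622451407724339402310039008801782320298488613993766917650985064759924794828889823644375747499499643019203187158160413909717701554897014801624181651936679762939936945476949143724516973161388491918606516650844219263810183324885345801259525441675966985163704539518295348968343812087411074586195409053203614610941663725241026840531075692358509697838623005325846957052071147750828911260821720965981483993841864808301466226774334861115267720077106479948893869140172026114863417460221080688794437838682777712997772229026825565834882246084497323711317234772917485977490915831503906070428946386047586779917735378827501053095922998234620854582976334365527016412064184121785192435659421602894708917196802215450897690971906073608856218804835285126479160604489884441844251205844036931075488829826921936837255455165938016752299976134834739290955413495727183263117844488333514844187880836456379309537186363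5223740219144442912735898394764672691607372582597853760379184652205816449486472537676934844621356277372092198756592753236450049623394522324103973606654344004681703800956953471435353472158464119990943557792626773897013000144408880078978315872188556692272408114775179564229858309778830491987835182355672289797845813002581654549331853688565296240105814159724545021006166389994780680227063568871533118690117606024283699534313772153484872795137383992093677213200572404505879962232195533745639772599325751723124356901445018073068518996347224803643340806531329273934227233265987170803125283770880489166263094079176194012070896463881575193885398151612533070327375995835812899389035413808784309280193400512549192260036127342650033817524336584692742500871414882927732094739817420859302342367744977694274815496904285649402780655330487624046476520301664428361386426676345531132029662072276036228475844627976652422077147031341845967557333944979511557731164457385867006809301861862891611884656706847001387676556135193779768110854681012242073397029537204261198220720699425932168024483889678366209404572275452067585810713686099935304848246275701205507386034495786884672891730318645132597235856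578691888954907662161719622868427513764042633459574586423890859438300782723913979523623603501407215486219220769087745507642626618477784918863877510152394329354137663551068740607274901349469218139607094736657834044871650017990395329738770136148197860736703734214738499415334089415173266777587597403686752411860520130173705354090276715620019068956576024242470854233851254509667320550725475528753098271435065084100329401190240364601340081383798954243841465694890780003155299048857502409730268543314112210868536352052370423498931507198514336014849686175594790493651689884361965238347640012003830695915402610007409320345210731443751890088501577233960418787456915807397389764409770396763110770316174449669481726966104036719875598521751858414400406551481609820354603223252121735725328609782559424911210285811195097500503044299017615005308864712187607775765126069273973706013257991137357637440879980483805881406459361237768486713192484439926316782414244605127818636854364888292654792498906923008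

/-- the codes of the normalised representatives -/
def reps : List ℕ := [751, 976, 1101, 1126, 3151, 3426, 4576, 4751, 5176, 5201, 6501, 6801, 7176, 7301, 7626, 7776, 7901, 7976, 8776, 9176, 9551, 9751, 10301, 10426, 10901, 10976, 11026, 11126, 11901, 12176, 12526, 12926, 14001, 14326, 14926, 14951]

/-- coded membership in the set of points -/
def SN (x y z : ℕ) : Bool :=
  Nat.testBit MASK (mulc (invc (ld x y z)) x + 25 * mulc (invc (ld x y z)) y +
    625 * mulc (invc (ld x y z)) z)

theorem SN_gam : ∀ x < 25, ∀ y < 25, ∀ z < 25,
    SN (mulc gam x) (mulc gam y) (mulc gam z) = SN x y z := by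
  decide +kernel

/-- the normalised form of a vector of the set is one of the representatives -/
def repOK (x y z : ℕ) : Bool :=
  !(ld x y z == 0) && (mulc (ld x y z) (mulc (invc (ld x y z)) x) == x) &&
    (mulc (ld x y z) (mulc (invc (ld x y z)) y) == y) &&
    (mulc (ld x y z) (mulc (invc (ld x y z)) z) == z) &&
    reps.contains (mulc (invc (ld x y z)) x + 25 * mulc (invc (ld x y z)) y +
        625 * mulc (invc (ld x y z)) z)

theorem SN_reps' : ∀ x < 25, ∀ y < 25, ∀ z < 25, SN x y z = true → repOK x y z = true := by
  decide +kernel

theorem SN_reps (x : ℕ) (hx : x < 25) (y : ℕ) (hy : y < 25) (z : ℕ) (hz : z < 25)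
    (h : SN x y z = true) :
    (ld x y z ≠ 0 ∧ mulc (ld x y z) (mulc (invc (ld x y z)) x) = x ∧
      mulc (ld x y z) (mulc (invc (ld x y z)) y) = y ∧
      mulc (ld x y z) (mulc (invc (ld x y z)) z) = z ∧
      (mulc (invc (ld x y z)) x + 25 * mulc (invc (ld x y z)) y +
        625 * mulc (invc (ld x y z)) z) ∈ reps) := by
  have h1 := SN_reps' x hx y hy z hz h
  unfold repOK at h1
  simp only [Bool.and_eq_true, Bool.not_eq_true', beq_eq_false_iff_ne, beq_iff_eq,
    List.contains_iff_mem] at h1
  obtain ⟨⟨⟨⟨h2, h3⟩, h4⟩, h5⟩, h6⟩ := h1
  exact ⟨h2, h3, h4, h5, h6⟩

/-- membership in the set of points -/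
def SP (v : Fin 3 → K) : Prop := SN (enc (v 0)) (enc (v 1)) (enc (v 2)) = true

theorem SP_gam (v : Fin 3 → K) : SP ((dec gam) • v) ↔ SP v := by
  unfold SP
  simp only [Pi.smul_apply, smul_eq_mul, enc_mul, enc_dec gam (by decide)]
  rw [SN_gam _ (enc_lt _) _ (enc_lt _) _ (enc_lt _)]

theorem SP_pow (k : ℕ) (v : Fin 3 → K) : SP ((dec gam) ^ k • v) ↔ SP v := by
  induction k generalizing v with
  | zero => rw [pow_zero, one_smul]
  | succ k ih => rw [pow_succ, mul_smul, ih, SP_gam]

theorem SP_smul (c : K) (hc : c ≠ 0) (v : Fin 3 → K) : SP (c • v) ↔ SP v := by
  obtain ⟨k, rfl⟩ := exists_pow c hc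
  exact SP_pow k v

/-- the coded matrix maps the representatives into the set -/
def fwdc (X : M3) : Bool :=
  reps.all fun c => SN (X.mv1 (c % 25) (c / 25 % 25) (c / 625))
    (X.mv2 (c % 25) (c / 25 % 25) (c / 625)) (X.mv3 (c % 25) (c / 25 % 25) (c / 625))

theorem SP_of_fwdc (A : Matrix (Fin 3) (Fin 3) K) (h : fwdc (ofMat A) = true) (v : Fin 3 → K)
    (hv : SP v) : SP (A *ᵥ v) := by
  obtain ⟨hl, hx, hy, hz, hmem⟩ := SN_reps _ (enc_lt (v 0)) _ (enc_lt (v 1)) _ (enc_lt (v 2)) hv
  set l := ld (enc (v 0)) (enc (v 1)) (enc (v 2)) with hldef
  have hlt : l < 25 := ld_lt (enc_lt _) (enc_lt _) (enc_lt _)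
  set nx := mulc (invc l) (enc (v 0)) with hnx
  set ny := mulc (invc l) (enc (v 1)) with hny
  set nz := mulc (invc l) (enc (v 2)) with hnz
  have hnx' : nx < 25 := mulc_lt _ _
  have hny' : ny < 25 := mulc_lt _ _
  have hnz' : nz < 25 := mulc_lt _ _
  set r : Fin 3 → K := ![dec nx, dec ny, dec nz] with hr
  have hvr : v = dec l • r := by
    funext i
    fin_cases i
    · show v 0 = dec l * dec nx
      rw [← dec_mul hlt hnx', hx, dec_enc]
    · show v 1 = dec l * dec ny
      rw [← dec_mul hlt hny', hy, dec_enc]
    · show v 2 = dec l * dec nz
      rw [← dec_mul hlt hnz', hz, dec_enc]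
  have hAr : SP (A *ᵥ r) := by
    unfold SP
    rw [enc_mulVec0, enc_mulVec1, enc_mulVec2]
    have h0 : enc (r 0) = nx := enc_dec nx hnx'
    have h1 : enc (r 1) = ny := enc_dec ny hny'
    have h2 : enc (r 2) = nz := enc_dec nz hnz'
    rw [h0, h1, h2]
    have h3 := List.all_eq_true.1 h _ hmem
    have e1 : (nx + 25 * ny + 625 * nz) % 25 = nx := by omega
    have e2 : (nx + 25 * ny + 625 * nz) / 25 % 25 = ny := by omega
    have e3 : (nx + 25 * ny + 625 * nz) / 625 = nz := by omega
    rw [e1, e2, e3] at h3
    exact h3
  rw [hvr, Matrix.mulVec_smul]
  exact (SP_smul _ (dec_ne_zero hlt hl) _).2 hAr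

/-- the stabiliser of the set of points -/
def LS : Subgroup (GL (Fin 3) K) where
  carrier := {g | ∀ v, SP ((g : Matrix (Fin 3) (Fin 3) K) *ᵥ v) ↔ SP v}
  mul_mem' := by
    intro a b ha hb v
    rw [Units.val_mul, ← Matrix.mulVec_mulVec, ha, hb]
  one_mem' := by
    intro v
    rw [Units.val_one, Matrix.one_mulVec]
  inv_mem' := by
    intro a ha v
    have h := ha (((a⁻¹ : GL (Fin 3) K) : Matrix (Fin 3) (Fin 3) K) *ᵥ v)
    rw [Matrix.mulVec_mulVec, ← Units.val_mul, mul_inv_cancel, Units.val_one,
      Matrix.one_mulVec] at h
    exact h.symm

theorem mem_LS_iff (g : GL (Fin 3) K) :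
    g ∈ LS ↔ ∀ v, SP ((g : Matrix (Fin 3) (Fin 3) K) *ᵥ v) ↔ SP v := Iff.rfl

theorem mem_LS_of_fwd (g : GL (Fin 3) K)
    (h : ∀ v, SP v → SP ((g : Matrix (Fin 3) (Fin 3) K) *ᵥ v)) : g ∈ LS := by
  classical
  intro v
  constructor
  · intro hgv
    let f : {v : Fin 3 → K // SP v} → {v : Fin 3 → K // SP v} :=
      fun w => ⟨(g : Matrix (Fin 3) (Fin 3) K) *ᵥ w.1, h w.1 w.2⟩
    have hinj : Function.Injective f := by
      intro a b hab
      apply Subtype.ext
      exact gl_mulVec_injective g (congrArg Subtype.val hab)
    obtain ⟨w, hw⟩ := Finite.surjective_of_injective hinj ⟨_, hgv⟩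
    have h3 : (g : Matrix (Fin 3) (Fin 3) K) *ᵥ w.1 = (g : Matrix (Fin 3) (Fin 3) K) *ᵥ v :=
      congrArg Subtype.val hw
    rw [← gl_mulVec_injective g h3]
    exact w.2
  · exact h v

theorem mem_LS_of_fwdc (g : GL (Fin 3) K)
    (h : fwdc (ofMat (g : Matrix (Fin 3) (Fin 3) K)) = true) : g ∈ LS :=
  mem_LS_of_fwd g (SP_of_fwdc _ h)

theorem glOf_mem_LS (X : M3) (h : X.isU = true) (h2 : fwdc X = true) : glOf X h ∈ LS := by
  apply mem_LS_of_fwdc
  rw [ofMat_glOf]
  exact h2

theorem scal_mem_LS (k : K) (hk : k ≠ 0) : scal k hk ∈ LS := by
  intro v
  rw [scal_val, Matrix.smul_mulVec, Matrix.one_mulVec]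
  exact SP_smul k hk v

/-- a special unitary matrix not stabilising the set -/
def W : M3 := ⟨17, 0, 0, 0, 0, 1, 0, 18, 0⟩

theorem W_isSU : W.isSU = true := by decide +kernel

theorem W_not : SN 1 1 5 = true ∧
    SN (W.mv1 1 1 5) (W.mv2 1 1 5) (W.mv3 1 1 5) = false := by
  decide +kernel

theorem W_not_mem : glOf W (isSU_isU W_isSU) ∉ LS := by
  intro h
  have e0 : enc ((![dec 1, dec 1, dec 5] : Fin 3 → K) 0) = 1 := enc_dec 1 (by decide)
  have e1 : enc ((![dec 1, dec 1, dec 5] : Fin 3 → K) 1) = 1 := enc_dec 1 (by decide)
  have e2 : enc ((![dec 1, dec 1, dec 5] : Fin 3 → K) 2) = 5 := enc_dec 5 (by decide)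
  have hv : SP ![dec 1, dec 1, dec 5] := by
    unfold SP
    rw [e0, e1, e2]
    exact W_not.1
  have h1 := (h ![dec 1, dec 1, dec 5]).2 hv
  unfold SP at h1
  rw [enc_mulVec0, enc_mulVec1, enc_mulVec2, ofMat_glOf, e0, e1, e2, W_not.2] at h1
  exact Bool.false_ne_true h1

/-- the stabiliser in the special unitary group is a proper subgroup -/
theorem LS_lt : LS ⊓ SUg 3 K 5 < SUg 3 K 5 := by
  refine SetLike.lt_iff_le_and_exists.2 ⟨inf_le_right, glOf W (isSU_isU W_isSU),
    glOf_mem_SUg W W_isSU, ?_⟩
  intro h
  exact W_not_mem h.1

end Cfsg.Agent.Lib.Helper3.SU3.Q5.S36
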