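import Mathlib
import Cfsg.Prelude
import Cfsg.Agent.Lib.Helper3.SU3m5f

set_option autoImplicit false
set_option maxHeartbeats 4000000
set_option maxRecDepth 100000
set_option linter.unusedVariables false
set_option linter.unusedSectionVars false
set_option linter.style.haveILetI false
set_option linter.deprecated false

/-! Over the model field with 25 elements, the normaliser in the special unitary group of an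
explicit extraspecial subgroup of order 27 stabilises the set of 36 points, which is also stabilised
by an element not normalising this subgroup. -/

namespace Cfsg.Agent.Lib.Helper3.SU3.Q5.S36

open Matrix Cfsg Cfsg.Geo
open Cfsg.Agent.Lib.Helper3.MaxU
open Cfsg.Agent.Lib.Helper3.SU3 Cfsg.Agent.Lib.Helper3.SU3.Q5
open Cfsg.Agent.Lib.Helper8 Cfsg.Agent.Lib.Helper5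
open Cfsg.Agent.Lib.Helper5.HermBridge (sigma_apply)

/-- the code of a primitive cube root of unity -/
def omg : ℕ := 17

/-- the diagonal generator -/
def aM : M3 := ⟨1, 0, 0, 0, 17, 0, 0, 0, 12⟩

/-- the permutation generator -/
def pM : M3 := ⟨0, 0, 1, 1, 0, 0, 0, 1, 0⟩

/-- the elements of the extraspecial group -/
def list27 : List M3 := [⟨1, 0, 0, 0, 1, 0, 0, 0, 1⟩,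
  ⟨0, 0, 1, 1, 0, 0, 0, 1, 0⟩,
  ⟨0, 1, 0, 0, 0, 1, 1, 0, 0⟩,
  ⟨1, 0, 0, 0, 17, 0, 0, 0, 12⟩,
  ⟨0, 0, 1, 17, 0, 0, 0, 12, 0⟩,
  ⟨0, 1, 0, 0, 0, 17, 12, 0, 0⟩,
  ⟨1, 0, 0, 0, 12, 0, 0, 0, 17⟩,
  ⟨0, 0, 1, 12, 0, 0, 0, 17, 0⟩,
  ⟨0, 1, 0, 0, 0, 12, 17, 0, 0⟩,
  ⟨17, 0, 0, 0, 17, 0, 0, 0, 17⟩,
  ⟨0, 0, 17, 17, 0, 0, 0, 17, 0⟩,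
  ⟨0, 17, 0, 0, 0, 17, 17, 0, 0⟩,
  ⟨17, 0, 0, 0, 12, 0, 0, 0, 1⟩,
  ⟨0, 0, 17, 12, 0, 0, 0, 1, 0⟩,
  ⟨0, 17, 0, 0, 0, 12, 1, 0, 0⟩,
  ⟨17, 0, 0, 0, 1, 0, 0, 0, 12⟩,
  ⟨0, 0, 17, 1, 0, 0, 0, 12, 0⟩,
  ⟨0, 17, 0, 0, 0, 1, 12, 0, 0⟩,
  ⟨12, 0, 0, 0, 12, 0, 0, 0, 12⟩,
  ⟨0, 0, 12, 12, 0, 0, 0, 12, 0⟩,
  ⟨0, 12, 0, 0, 0, 12, 12, 0, 0⟩,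
  ⟨12, 0, 0, 0, 1, 0, 0, 0, 17⟩,
  ⟨0, 0, 12, 1, 0, 0, 0, 17, 0⟩,
  ⟨0, 12, 0, 0, 0, 1, 17, 0, 0⟩,
  ⟨12, 0, 0, 0, 17, 0, 0, 0, 1⟩,
  ⟨0, 0, 12, 17, 0, 0, 0, 1, 0⟩,
  ⟨0, 12, 0, 0, 0, 17, 1, 0, 0⟩]

/-- conjugating matrices, indexed by the images of the two generators -/
def tab : List M3 := [⟨1, 0, 0, 0, 1, 0, 0, 0, 1⟩,
  ⟨1, 0, 0, 0, 1, 0, 0, 0, 1⟩,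
  ⟨1, 0, 0, 0, 1, 0, 0, 0, 1⟩,
  ⟨1, 0, 0, 0, 1, 0, 0, 0, 1⟩,
  ⟨1, 0, 0, 0, 1, 0, 0, 0, 1⟩,
  ⟨1, 0, 0, 0, 1, 0, 0, 0, 1⟩,
  ⟨1, 0, 0, 0, 1, 0, 0, 0, 1⟩,
  ⟨1, 0, 0, 0, 1, 0, 0, 0, 1⟩,
  ⟨1, 0, 0, 0, 1, 0, 0, 0, 1⟩,
  ⟨1, 0, 0, 0, 1, 0, 0, 0, 1⟩,
  ⟨1, 0, 0, 0, 1, 0, 0, 0, 1⟩,
  ⟨1, 0, 0, 0, 1, 0, 0, 0, 1⟩,
  ⟨1, 0, 0, 0, 1, 0, 0, 0, 1⟩,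
  ⟨1, 0, 0, 0, 1, 0, 0, 0, 1⟩,
  ⟨1, 0, 0, 0, 1, 0, 0, 0, 1⟩,
  ⟨1, 0, 0, 0, 1, 0, 0, 0, 1⟩,
  ⟨1, 0, 0, 0, 1, 0, 0, 0, 1⟩,
  ⟨1, 0, 0, 0, 1, 0, 0, 0, 1⟩,
  ⟨1, 0, 0, 0, 1, 0, 0, 0, 1⟩,
  ⟨1, 0, 0, 0, 1, 0, 0, 0, 1⟩,
  ⟨1, 0, 0, 0, 1, 0, 0, 0, 1⟩,
  ⟨1, 0, 0, 0, 1, 0, 0, 0, 1⟩,
  ⟨1, 0, 0, 0, 1, 0, 0, 0, 1⟩,
  ⟨1, 0, 0, 0, 1, 0, 0, 0, 1⟩,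
  ⟨1, 0, 0, 0, 1, 0, 0, 0, 1⟩,
  ⟨1, 0, 0, 0, 1, 0, 0, 0, 1⟩,
  ⟨1, 0, 0, 0, 1, 0, 0, 0, 1⟩,
  ⟨1, 0, 0, 0, 1, 0, 0, 0, 1⟩,
  ⟨1, 0, 0, 0, 1, 0, 0, 0, 1⟩,
  ⟨1, 0, 0, 0, 1, 0, 0, 0, 1⟩,
  ⟨1, 0, 0, 0, 1, 0, 0, 0, 1⟩,
  ⟨1, 0, 0, 0, 1, 0, 0, 0, 1⟩,
  ⟨1, 0, 0, 0, 1, 0, 0, 0, 1⟩,
  ⟨7, 7, 7, 7, 8, 15, 7, 15, 8⟩,
  ⟨7, 7, 15, 7, 8, 8, 7, 15, 7⟩,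
  ⟨7, 7, 8, 7, 8, 7, 7, 15, 15⟩,
  ⟨1, 0, 0, 0, 1, 0, 0, 0, 1⟩,
  ⟨1, 0, 0, 0, 1, 0, 0, 0, 1⟩,
  ⟨1, 0, 0, 0, 1, 0, 0, 0, 1⟩,
  ⟨1, 0, 0, 0, 1, 0, 0, 0, 1⟩,
  ⟨1, 0, 0, 0, 1, 0, 0, 0, 1⟩,
  ⟨1, 0, 0, 0, 1, 0, 0, 0, 1⟩,
  ⟨7, 15, 8, 7, 7, 7, 7, 8, 15⟩,
  ⟨7, 15, 7, 7, 7, 15, 7, 8, 8⟩,
  ⟨7, 15, 15, 7, 7, 8, 7, 8, 7⟩,
  ⟨1, 0, 0, 0, 1, 0, 0, 0, 1⟩,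
  ⟨1, 0, 0, 0, 1, 0, 0, 0, 1⟩,
  ⟨1, 0, 0, 0, 1, 0, 0, 0, 1⟩,
  ⟨1, 0, 0, 0, 1, 0, 0, 0, 1⟩,
  ⟨1, 0, 0, 0, 1, 0, 0, 0, 1⟩,
  ⟨1, 0, 0, 0, 1, 0, 0, 0, 1⟩,
  ⟨7, 8, 15, 7, 15, 8, 7, 7, 7⟩,
  ⟨7, 8, 8, 7, 15, 7, 7, 7, 15⟩,
  ⟨7, 8, 7, 7, 15, 15, 7, 7, 8⟩,
  ⟨1, 0, 0, 0, 1, 0, 0, 0, 1⟩,
  ⟨1, 0, 0, 0, 1, 0, 0, 0, 1⟩,
  ⟨1, 0, 0, 0, 1, 0, 0, 0, 1⟩,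
  ⟨7, 7, 7, 7, 15, 8, 7, 8, 15⟩,
  ⟨7, 7, 8, 7, 15, 15, 7, 8, 7⟩,
  ⟨7, 7, 15, 7, 15, 7, 7, 8, 8⟩,
  ⟨1, 0, 0, 0, 1, 0, 0, 0, 1⟩,
  ⟨1, 0, 0, 0, 1, 0, 0, 0, 1⟩,
  ⟨1, 0, 0, 0, 1, 0, 0, 0, 1⟩,
  ⟨1, 0, 0, 0, 1, 0, 0, 0, 1⟩,
  ⟨1, 0, 0, 0, 1, 0, 0, 0, 1⟩,
  ⟨1, 0, 0, 0, 1, 0, 0, 0, 1⟩,
  ⟨7, 15, 8, 7, 8, 15, 7, 7, 7⟩,
  ⟨7, 15, 15, 7, 8, 7, 7, 7, 8⟩,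
  ⟨7, 15, 7, 7, 8, 8, 7, 7, 15⟩,
  ⟨1, 0, 0, 0, 1, 0, 0, 0, 1⟩,
  ⟨1, 0, 0, 0, 1, 0, 0, 0, 1⟩,
  ⟨1, 0, 0, 0, 1, 0, 0, 0, 1⟩,
  ⟨1, 0, 0, 0, 1, 0, 0, 0, 1⟩,
  ⟨1, 0, 0, 0, 1, 0, 0, 0, 1⟩,
  ⟨1, 0, 0, 0, 1, 0, 0, 0, 1⟩,
  ⟨7, 8, 15, 7, 7, 7, 7, 15, 8⟩,
  ⟨7, 8, 7, 7, 7, 8, 7, 15, 15⟩,
  ⟨7, 8, 8, 7, 7, 15, 7, 15, 7⟩,
  ⟨1, 0, 0, 0, 1, 0, 0, 0, 1⟩,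
  ⟨1, 0, 0, 0, 1, 0, 0, 0, 1⟩,
  ⟨1, 0, 0, 0, 1, 0, 0, 0, 1⟩,
  ⟨1, 0, 0, 0, 1, 0, 0, 0, 1⟩,
  ⟨1, 0, 0, 0, 1, 0, 0, 0, 1⟩,
  ⟨1, 0, 0, 0, 1, 0, 0, 0, 1⟩,
  ⟨1, 0, 0, 0, 1, 0, 0, 0, 1⟩,
  ⟨1, 0, 0, 0, 17, 0, 0, 0, 1⟩,
  ⟨1, 0, 0, 0, 1, 0, 0, 0, 1⟩,
  ⟨1, 0, 0, 0, 1, 0, 0, 0, 1⟩,
  ⟨1, 0, 0, 0, 12, 0, 0, 0, 1⟩,
  ⟨1, 0, 0, 0, 1, 0, 0, 0, 1⟩,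
  ⟨1, 0, 0, 0, 1, 0, 0, 0, 1⟩,
  ⟨1, 0, 0, 0, 17, 0, 0, 0, 12⟩,
  ⟨1, 0, 0, 0, 1, 0, 0, 0, 1⟩,
  ⟨1, 0, 0, 0, 1, 0, 0, 0, 1⟩,
  ⟨1, 0, 0, 0, 12, 0, 0, 0, 12⟩,
  ⟨1, 0, 0, 0, 1, 0, 0, 0, 1⟩,
  ⟨1, 0, 0, 0, 1, 0, 0, 0, 1⟩,
  ⟨1, 0, 0, 0, 1, 0, 0, 0, 12⟩,
  ⟨1, 0, 0, 0, 1, 0, 0, 0, 1⟩,
  ⟨1, 0, 0, 0, 1, 0, 0, 0, 1⟩,
  ⟨1, 0, 0, 0, 12, 0, 0, 0, 17⟩,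
  ⟨1, 0, 0, 0, 1, 0, 0, 0, 1⟩,
  ⟨1, 0, 0, 0, 1, 0, 0, 0, 1⟩,
  ⟨1, 0, 0, 0, 1, 0, 0, 0, 17⟩,
  ⟨1, 0, 0, 0, 1, 0, 0, 0, 1⟩,
  ⟨1, 0, 0, 0, 1, 0, 0, 0, 1⟩,
  ⟨1, 0, 0, 0, 17, 0, 0, 0, 17⟩,
  ⟨1, 0, 0, 0, 1, 0, 0, 0, 1⟩,
  ⟨1, 0, 0, 0, 1, 0, 0, 0, 1⟩,
  ⟨7, 7, 15, 15, 7, 7, 7, 15, 7⟩,
  ⟨1, 0, 0, 0, 1, 0, 0, 0, 1⟩,
  ⟨1, 0, 0, 0, 1, 0, 0, 0, 1⟩,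
  ⟨1, 0, 0, 0, 1, 0, 0, 0, 1⟩,
  ⟨7, 15, 15, 15, 15, 7, 7, 8, 7⟩,
  ⟨7, 7, 7, 15, 7, 8, 7, 15, 8⟩,
  ⟨1, 0, 0, 0, 1, 0, 0, 0, 1⟩,
  ⟨1, 0, 0, 0, 1, 0, 0, 0, 1⟩,
  ⟨1, 0, 0, 0, 1, 0, 0, 0, 1⟩,
  ⟨7, 15, 7, 15, 15, 8, 7, 8, 8⟩,
  ⟨1, 0, 0, 0, 1, 0, 0, 0, 1⟩,
  ⟨1, 0, 0, 0, 1, 0, 0, 0, 1⟩,
  ⟨1, 0, 0, 0, 1, 0, 0, 0, 1⟩,
  ⟨7, 8, 7, 15, 8, 8, 7, 7, 8⟩,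
  ⟨7, 15, 8, 15, 15, 15, 7, 8, 15⟩,
  ⟨1, 0, 0, 0, 1, 0, 0, 0, 1⟩,
  ⟨1, 0, 0, 0, 1, 0, 0, 0, 1⟩,
  ⟨1, 0, 0, 0, 1, 0, 0, 0, 1⟩,
  ⟨7, 8, 8, 15, 8, 15, 7, 7, 15⟩,
  ⟨1, 0, 0, 0, 1, 0, 0, 0, 1⟩,
  ⟨1, 0, 0, 0, 1, 0, 0, 0, 1⟩,
  ⟨1, 0, 0, 0, 1, 0, 0, 0, 1⟩,
  ⟨7, 7, 8, 15, 7, 15, 7, 15, 15⟩,
  ⟨7, 8, 15, 15, 8, 7, 7, 7, 7⟩,
  ⟨1, 0, 0, 0, 1, 0, 0, 0, 1⟩,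
  ⟨1, 0, 0, 0, 1, 0, 0, 0, 1⟩,
  ⟨1, 0, 0, 0, 1, 0, 0, 0, 1⟩,
  ⟨7, 8, 7, 7, 7, 8, 8, 7, 7⟩,
  ⟨1, 0, 0, 0, 1, 0, 0, 0, 1⟩,
  ⟨7, 7, 7, 7, 15, 8, 8, 15, 7⟩,
  ⟨1, 0, 0, 0, 1, 0, 0, 0, 1⟩,
  ⟨1, 0, 0, 0, 1, 0, 0, 0, 1⟩,
  ⟨1, 0, 0, 0, 1, 0, 0, 0, 1⟩,
  ⟨1, 0, 0, 0, 1, 0, 0, 0, 1⟩,
  ⟨7, 7, 15, 7, 15, 7, 8, 15, 15⟩,
  ⟨1, 0, 0, 0, 1, 0, 0, 0, 1⟩,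
  ⟨7, 7, 8, 7, 15, 15, 8, 15, 8⟩,
  ⟨1, 0, 0, 0, 1, 0, 0, 0, 1⟩,
  ⟨7, 15, 8, 7, 8, 15, 8, 8, 8⟩,
  ⟨1, 0, 0, 0, 1, 0, 0, 0, 1⟩,
  ⟨1, 0, 0, 0, 1, 0, 0, 0, 1⟩,
  ⟨1, 0, 0, 0, 1, 0, 0, 0, 1⟩,
  ⟨1, 0, 0, 0, 1, 0, 0, 0, 1⟩,
  ⟨7, 15, 7, 7, 8, 8, 8, 8, 7⟩,
  ⟨1, 0, 0, 0, 1, 0, 0, 0, 1⟩,
  ⟨7, 15, 15, 7, 8, 7, 8, 8, 15⟩,
  ⟨1, 0, 0, 0, 1, 0, 0, 0, 1⟩,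
  ⟨7, 8, 15, 7, 7, 7, 8, 7, 15⟩,
  ⟨1, 0, 0, 0, 1, 0, 0, 0, 1⟩,
  ⟨1, 0, 0, 0, 1, 0, 0, 0, 1⟩,
  ⟨1, 0, 0, 0, 1, 0, 0, 0, 1⟩,
  ⟨1, 0, 0, 0, 1, 0, 0, 0, 1⟩,
  ⟨7, 8, 8, 7, 7, 15, 8, 7, 8⟩,
  ⟨1, 0, 0, 0, 1, 0, 0, 0, 1⟩,
  ⟨1, 0, 0, 0, 1, 0, 0, 0, 1⟩,
  ⟨1, 0, 0, 0, 0, 1, 0, 1, 0⟩,
  ⟨1, 0, 0, 0, 1, 0, 0, 0, 1⟩,
  ⟨1, 0, 0, 0, 1, 0, 0, 0, 1⟩,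
  ⟨1, 0, 0, 0, 0, 1, 0, 12, 0⟩,
  ⟨1, 0, 0, 0, 1, 0, 0, 0, 1⟩,
  ⟨1, 0, 0, 0, 1, 0, 0, 0, 1⟩,
  ⟨1, 0, 0, 0, 0, 1, 0, 17, 0⟩,
  ⟨1, 0, 0, 0, 1, 0, 0, 0, 1⟩,
  ⟨1, 0, 0, 0, 1, 0, 0, 0, 1⟩,
  ⟨1, 0, 0, 0, 0, 12, 0, 17, 0⟩,
  ⟨1, 0, 0, 0, 1, 0, 0, 0, 1⟩,
  ⟨1, 0, 0, 0, 1, 0, 0, 0, 1⟩,
  ⟨1, 0, 0, 0, 0, 12, 0, 1, 0⟩,
  ⟨1, 0, 0, 0, 1, 0, 0, 0, 1⟩,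
  ⟨1, 0, 0, 0, 1, 0, 0, 0, 1⟩,
  ⟨1, 0, 0, 0, 0, 12, 0, 12, 0⟩,
  ⟨1, 0, 0, 0, 1, 0, 0, 0, 1⟩,
  ⟨1, 0, 0, 0, 1, 0, 0, 0, 1⟩,
  ⟨1, 0, 0, 0, 0, 17, 0, 12, 0⟩,
  ⟨1, 0, 0, 0, 1, 0, 0, 0, 1⟩,
  ⟨1, 0, 0, 0, 1, 0, 0, 0, 1⟩,
  ⟨1, 0, 0, 0, 0, 17, 0, 17, 0⟩,
  ⟨1, 0, 0, 0, 1, 0, 0, 0, 1⟩,
  ⟨1, 0, 0, 0, 1, 0, 0, 0, 1⟩,
  ⟨1, 0, 0, 0, 0, 17, 0, 1, 0⟩,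
  ⟨1, 0, 0, 0, 1, 0, 0, 0, 1⟩,
  ⟨1, 0, 0, 0, 1, 0, 0, 0, 1⟩,
  ⟨7, 8, 7, 8, 7, 7, 7, 7, 8⟩,
  ⟨1, 0, 0, 0, 1, 0, 0, 0, 1⟩,
  ⟨7, 7, 15, 8, 15, 15, 7, 15, 7⟩,
  ⟨1, 0, 0, 0, 1, 0, 0, 0, 1⟩,
  ⟨7, 7, 7, 8, 15, 7, 7, 15, 8⟩,
  ⟨1, 0, 0, 0, 1, 0, 0, 0, 1⟩,
  ⟨1, 0, 0, 0, 1, 0, 0, 0, 1⟩,
  ⟨1, 0, 0, 0, 1, 0, 0, 0, 1⟩,
  ⟨1, 0, 0, 0, 1, 0, 0, 0, 1⟩,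
  ⟨7, 7, 8, 8, 15, 8, 7, 15, 15⟩,
  ⟨1, 0, 0, 0, 1, 0, 0, 0, 1⟩,
  ⟨7, 15, 7, 8, 8, 7, 7, 8, 8⟩,
  ⟨1, 0, 0, 0, 1, 0, 0, 0, 1⟩,
  ⟨7, 15, 8, 8, 8, 8, 7, 8, 15⟩,
  ⟨1, 0, 0, 0, 1, 0, 0, 0, 1⟩,
  ⟨1, 0, 0, 0, 1, 0, 0, 0, 1⟩,
  ⟨1, 0, 0, 0, 1, 0, 0, 0, 1⟩,
  ⟨1, 0, 0, 0, 1, 0, 0, 0, 1⟩,
  ⟨7, 15, 15, 8, 8, 15, 7, 8, 7⟩,
  ⟨1, 0, 0, 0, 1, 0, 0, 0, 1⟩,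
  ⟨7, 8, 8, 8, 7, 8, 7, 7, 15⟩,
  ⟨1, 0, 0, 0, 1, 0, 0, 0, 1⟩,
  ⟨7, 8, 15, 8, 7, 15, 7, 7, 7⟩,
  ⟨1, 0, 0, 0, 1, 0, 0, 0, 1⟩,
  ⟨1, 0, 0, 0, 1, 0, 0, 0, 1⟩,
  ⟨1, 0, 0, 0, 1, 0, 0, 0, 1⟩,
  ⟨1, 0, 0, 0, 1, 0, 0, 0, 1⟩,
  ⟨7, 7, 15, 7, 15, 7, 15, 7, 7⟩,
  ⟨7, 7, 7, 7, 15, 8, 15, 7, 8⟩,
  ⟨1, 0, 0, 0, 1, 0, 0, 0, 1⟩,
  ⟨1, 0, 0, 0, 1, 0, 0, 0, 1⟩,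
  ⟨1, 0, 0, 0, 1, 0, 0, 0, 1⟩,
  ⟨7, 15, 15, 7, 8, 7, 15, 15, 7⟩,
  ⟨1, 0, 0, 0, 1, 0, 0, 0, 1⟩,
  ⟨1, 0, 0, 0, 1, 0, 0, 0, 1⟩,
  ⟨1, 0, 0, 0, 1, 0, 0, 0, 1⟩,
  ⟨7, 15, 7, 7, 8, 8, 15, 15, 8⟩,
  ⟨7, 15, 8, 7, 8, 15, 15, 15, 15⟩,
  ⟨1, 0, 0, 0, 1, 0, 0, 0, 1⟩,
  ⟨1, 0, 0, 0, 1, 0, 0, 0, 1⟩,
  ⟨1, 0, 0, 0, 1, 0, 0, 0, 1⟩,
  ⟨7, 8, 7, 7, 7, 8, 15, 8, 8⟩,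
  ⟨1, 0, 0, 0, 1, 0, 0, 0, 1⟩,
  ⟨1, 0, 0, 0, 1, 0, 0, 0, 1⟩,
  ⟨1, 0, 0, 0, 1, 0, 0, 0, 1⟩,
  ⟨7, 8, 8, 7, 7, 15, 15, 8, 15⟩,
  ⟨7, 8, 15, 7, 7, 7, 15, 8, 7⟩,
  ⟨1, 0, 0, 0, 1, 0, 0, 0, 1⟩,
  ⟨1, 0, 0, 0, 1, 0, 0, 0, 1⟩,
  ⟨1, 0, 0, 0, 1, 0, 0, 0, 1⟩,
  ⟨7, 7, 8, 7, 15, 15, 15, 7, 15⟩,
  ⟨1, 0, 0, 0, 1, 0, 0, 0, 1⟩,
  ⟨1, 0, 0, 0, 1, 0, 0, 0, 1⟩,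
  ⟨1, 0, 0, 0, 1, 0, 0, 0, 1⟩,
  ⟨1, 0, 0, 0, 1, 0, 0, 0, 1⟩,
  ⟨1, 0, 0, 0, 1, 0, 0, 0, 1⟩,
  ⟨1, 0, 0, 0, 1, 0, 0, 0, 1⟩,
  ⟨1, 0, 0, 0, 1, 0, 0, 0, 1⟩,
  ⟨1, 0, 0, 0, 1, 0, 0, 0, 1⟩,
  ⟨1, 0, 0, 0, 1, 0, 0, 0, 1⟩,
  ⟨1, 0, 0, 0, 1, 0, 0, 0, 1⟩,
  ⟨1, 0, 0, 0, 1, 0, 0, 0, 1⟩,
  ⟨1, 0, 0, 0, 1, 0, 0, 0, 1⟩,
  ⟨1, 0, 0, 0, 1, 0, 0, 0, 1⟩,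
  ⟨1, 0, 0, 0, 1, 0, 0, 0, 1⟩,
  ⟨1, 0, 0, 0, 1, 0, 0, 0, 1⟩,
  ⟨1, 0, 0, 0, 1, 0, 0, 0, 1⟩,
  ⟨1, 0, 0, 0, 1, 0, 0, 0, 1⟩,
  ⟨1, 0, 0, 0, 1, 0, 0, 0, 1⟩,
  ⟨1, 0, 0, 0, 1, 0, 0, 0, 1⟩,
  ⟨1, 0, 0, 0, 1, 0, 0, 0, 1⟩,
  ⟨1, 0, 0, 0, 1, 0, 0, 0, 1⟩,
  ⟨1, 0, 0, 0, 1, 0, 0, 0, 1⟩,
  ⟨1, 0, 0, 0, 1, 0, 0, 0, 1⟩,
  ⟨1, 0, 0, 0, 1, 0, 0, 0, 1⟩,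
  ⟨1, 0, 0, 0, 1, 0, 0, 0, 1⟩,
  ⟨1, 0, 0, 0, 1, 0, 0, 0, 1⟩,
  ⟨1, 0, 0, 0, 1, 0, 0, 0, 1⟩,
  ⟨1, 0, 0, 0, 1, 0, 0, 0, 1⟩,
  ⟨1, 0, 0, 0, 1, 0, 0, 0, 1⟩,
  ⟨1, 0, 0, 0, 1, 0, 0, 0, 1⟩,
  ⟨1, 0, 0, 0, 1, 0, 0, 0, 1⟩,
  ⟨1, 0, 0, 0, 1, 0, 0, 0, 1⟩,
  ⟨1, 0, 0, 0, 1, 0, 0, 0, 1⟩,
  ⟨1, 0, 0, 0, 1, 0, 0, 0, 1⟩,
  ⟨7, 7, 7, 15, 7, 8, 8, 7, 15⟩,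
  ⟨7, 8, 8, 15, 8, 15, 8, 8, 7⟩,
  ⟨7, 15, 15, 15, 15, 7, 8, 15, 8⟩,
  ⟨1, 0, 0, 0, 1, 0, 0, 0, 1⟩,
  ⟨1, 0, 0, 0, 1, 0, 0, 0, 1⟩,
  ⟨1, 0, 0, 0, 1, 0, 0, 0, 1⟩,
  ⟨1, 0, 0, 0, 1, 0, 0, 0, 1⟩,
  ⟨1, 0, 0, 0, 1, 0, 0, 0, 1⟩,
  ⟨1, 0, 0, 0, 1, 0, 0, 0, 1⟩,
  ⟨7, 15, 8, 15, 15, 15, 8, 15, 7⟩,
  ⟨7, 7, 15, 15, 7, 7, 8, 7, 8⟩,
  ⟨7, 8, 7, 15, 8, 8, 8, 8, 15⟩,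
  ⟨1, 0, 0, 0, 1, 0, 0, 0, 1⟩,
  ⟨1, 0, 0, 0, 1, 0, 0, 0, 1⟩,
  ⟨1, 0, 0, 0, 1, 0, 0, 0, 1⟩,
  ⟨1, 0, 0, 0, 1, 0, 0, 0, 1⟩,
  ⟨1, 0, 0, 0, 1, 0, 0, 0, 1⟩,
  ⟨1, 0, 0, 0, 1, 0, 0, 0, 1⟩,
  ⟨7, 8, 15, 15, 8, 7, 8, 8, 8⟩,
  ⟨7, 15, 7, 15, 15, 8, 8, 15, 15⟩,
  ⟨7, 7, 8, 15, 7, 15, 8, 7, 7⟩,
  ⟨1, 0, 0, 0, 1, 0, 0, 0, 1⟩,
  ⟨1, 0, 0, 0, 1, 0, 0, 0, 1⟩,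
  ⟨1, 0, 0, 0, 1, 0, 0, 0, 1⟩,
  ⟨7, 7, 7, 8, 7, 15, 15, 7, 8⟩,
  ⟨7, 15, 15, 8, 15, 8, 15, 15, 7⟩,
  ⟨7, 8, 8, 8, 8, 7, 15, 8, 15⟩,
  ⟨1, 0, 0, 0, 1, 0, 0, 0, 1⟩,
  ⟨1, 0, 0, 0, 1, 0, 0, 0, 1⟩,
  ⟨1, 0, 0, 0, 1, 0, 0, 0, 1⟩,
  ⟨1, 0, 0, 0, 1, 0, 0, 0, 1⟩,
  ⟨1, 0, 0, 0, 1, 0, 0, 0, 1⟩,
  ⟨1, 0, 0, 0, 1, 0, 0, 0, 1⟩,
  ⟨7, 15, 8, 8, 15, 7, 15, 15, 15⟩,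
  ⟨7, 8, 7, 8, 8, 15, 15, 8, 8⟩,
  ⟨7, 7, 15, 8, 7, 8, 15, 7, 7⟩,
  ⟨1, 0, 0, 0, 1, 0, 0, 0, 1⟩,
  ⟨1, 0, 0, 0, 1, 0, 0, 0, 1⟩,
  ⟨1, 0, 0, 0, 1, 0, 0, 0, 1⟩,
  ⟨1, 0, 0, 0, 1, 0, 0, 0, 1⟩,
  ⟨1, 0, 0, 0, 1, 0, 0, 0, 1⟩,
  ⟨1, 0, 0, 0, 1, 0, 0, 0, 1⟩,
  ⟨7, 8, 15, 8, 8, 8, 15, 8, 7⟩,
  ⟨7, 7, 8, 8, 7, 7, 15, 7, 15⟩,
  ⟨7, 15, 7, 8, 15, 15, 15, 15, 8⟩,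
  ⟨1, 0, 0, 0, 1, 0, 0, 0, 1⟩,
  ⟨1, 0, 0, 0, 1, 0, 0, 0, 1⟩,
  ⟨1, 0, 0, 0, 1, 0, 0, 0, 1⟩,
  ⟨1, 0, 0, 0, 1, 0, 0, 0, 1⟩,
  ⟨0, 1, 0, 0, 0, 1, 1, 0, 0⟩,
  ⟨1, 0, 0, 0, 1, 0, 0, 0, 1⟩,
  ⟨1, 0, 0, 0, 1, 0, 0, 0, 1⟩,
  ⟨0, 1, 0, 0, 0, 17, 1, 0, 0⟩,
  ⟨1, 0, 0, 0, 1, 0, 0, 0, 1⟩,
  ⟨1, 0, 0, 0, 1, 0, 0, 0, 1⟩,
  ⟨0, 1, 0, 0, 0, 12, 1, 0, 0⟩,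
  ⟨1, 0, 0, 0, 1, 0, 0, 0, 1⟩,
  ⟨1, 0, 0, 0, 1, 0, 0, 0, 1⟩,
  ⟨0, 17, 0, 0, 0, 12, 1, 0, 0⟩,
  ⟨1, 0, 0, 0, 1, 0, 0, 0, 1⟩,
  ⟨1, 0, 0, 0, 1, 0, 0, 0, 1⟩,
  ⟨0, 17, 0, 0, 0, 1, 1, 0, 0⟩,
  ⟨1, 0, 0, 0, 1, 0, 0, 0, 1⟩,
  ⟨1, 0, 0, 0, 1, 0, 0, 0, 1⟩,
  ⟨0, 17, 0, 0, 0, 17, 1, 0, 0⟩,
  ⟨1, 0, 0, 0, 1, 0, 0, 0, 1⟩,
  ⟨1, 0, 0, 0, 1, 0, 0, 0, 1⟩,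
  ⟨0, 12, 0, 0, 0, 17, 1, 0, 0⟩,
  ⟨1, 0, 0, 0, 1, 0, 0, 0, 1⟩,
  ⟨1, 0, 0, 0, 1, 0, 0, 0, 1⟩,
  ⟨0, 12, 0, 0, 0, 12, 1, 0, 0⟩,
  ⟨1, 0, 0, 0, 1, 0, 0, 0, 1⟩,
  ⟨1, 0, 0, 0, 1, 0, 0, 0, 1⟩,
  ⟨0, 12, 0, 0, 0, 1, 1, 0, 0⟩,
  ⟨1, 0, 0, 0, 1, 0, 0, 0, 1⟩,
  ⟨1, 0, 0, 0, 1, 0, 0, 0, 1⟩,
  ⟨7, 8, 8, 8, 7, 8, 8, 8, 7⟩,
  ⟨1, 0, 0, 0, 1, 0, 0, 0, 1⟩,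
  ⟨1, 0, 0, 0, 1, 0, 0, 0, 1⟩,
  ⟨1, 0, 0, 0, 1, 0, 0, 0, 1⟩,
  ⟨7, 8, 7, 8, 7, 7, 8, 8, 15⟩,
  ⟨7, 7, 7, 8, 15, 7, 8, 7, 15⟩,
  ⟨1, 0, 0, 0, 1, 0, 0, 0, 1⟩,
  ⟨1, 0, 0, 0, 1, 0, 0, 0, 1⟩,
  ⟨1, 0, 0, 0, 1, 0, 0, 0, 1⟩,
  ⟨7, 7, 15, 8, 15, 15, 8, 7, 8⟩,
  ⟨1, 0, 0, 0, 1, 0, 0, 0, 1⟩,
  ⟨1, 0, 0, 0, 1, 0, 0, 0, 1⟩,
  ⟨1, 0, 0, 0, 1, 0, 0, 0, 1⟩,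
  ⟨7, 7, 8, 8, 15, 8, 8, 7, 7⟩,
  ⟨7, 15, 8, 8, 8, 8, 8, 15, 7⟩,
  ⟨1, 0, 0, 0, 1, 0, 0, 0, 1⟩,
  ⟨1, 0, 0, 0, 1, 0, 0, 0, 1⟩,
  ⟨1, 0, 0, 0, 1, 0, 0, 0, 1⟩,
  ⟨7, 15, 7, 8, 8, 7, 8, 15, 15⟩,
  ⟨1, 0, 0, 0, 1, 0, 0, 0, 1⟩,
  ⟨1, 0, 0, 0, 1, 0, 0, 0, 1⟩,
  ⟨1, 0, 0, 0, 1, 0, 0, 0, 1⟩,
  ⟨7, 15, 15, 8, 8, 15, 8, 15, 8⟩,
  ⟨7, 8, 15, 8, 7, 15, 8, 8, 8⟩,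
  ⟨1, 0, 0, 0, 1, 0, 0, 0, 1⟩,
  ⟨1, 0, 0, 0, 1, 0, 0, 0, 1⟩,
  ⟨1, 0, 0, 0, 1, 0, 0, 0, 1⟩,
  ⟨7, 7, 8, 8, 7, 7, 7, 8, 7⟩,
  ⟨1, 0, 0, 0, 1, 0, 0, 0, 1⟩,
  ⟨7, 7, 7, 8, 7, 15, 7, 8, 15⟩,
  ⟨1, 0, 0, 0, 1, 0, 0, 0, 1⟩,
  ⟨1, 0, 0, 0, 1, 0, 0, 0, 1⟩,
  ⟨1, 0, 0, 0, 1, 0, 0, 0, 1⟩,
  ⟨1, 0, 0, 0, 1, 0, 0, 0, 1⟩,
  ⟨7, 8, 8, 8, 8, 7, 7, 15, 7⟩,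
  ⟨1, 0, 0, 0, 1, 0, 0, 0, 1⟩,
  ⟨7, 15, 15, 8, 15, 8, 7, 7, 8⟩,
  ⟨1, 0, 0, 0, 1, 0, 0, 0, 1⟩,
  ⟨7, 15, 8, 8, 15, 7, 7, 7, 7⟩,
  ⟨1, 0, 0, 0, 1, 0, 0, 0, 1⟩,
  ⟨1, 0, 0, 0, 1, 0, 0, 0, 1⟩,
  ⟨1, 0, 0, 0, 1, 0, 0, 0, 1⟩,
  ⟨1, 0, 0, 0, 1, 0, 0, 0, 1⟩,
  ⟨7, 7, 15, 8, 7, 8, 7, 8, 8⟩,
  ⟨1, 0, 0, 0, 1, 0, 0, 0, 1⟩,
  ⟨7, 8, 7, 8, 8, 15, 7, 15, 15⟩,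
  ⟨1, 0, 0, 0, 1, 0, 0, 0, 1⟩,
  ⟨7, 8, 15, 8, 8, 8, 7, 15, 8⟩,
  ⟨1, 0, 0, 0, 1, 0, 0, 0, 1⟩,
  ⟨1, 0, 0, 0, 1, 0, 0, 0, 1⟩,
  ⟨1, 0, 0, 0, 1, 0, 0, 0, 1⟩,
  ⟨1, 0, 0, 0, 1, 0, 0, 0, 1⟩,
  ⟨7, 15, 7, 8, 15, 15, 7, 7, 15⟩,
  ⟨1, 0, 0, 0, 1, 0, 0, 0, 1⟩,
  ⟨1, 0, 0, 0, 1, 0, 0, 0, 1⟩,
  ⟨0, 1, 0, 1, 0, 0, 0, 0, 1⟩,
  ⟨1, 0, 0, 0, 1, 0, 0, 0, 1⟩,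
  ⟨1, 0, 0, 0, 1, 0, 0, 0, 1⟩,
  ⟨0, 1, 0, 1, 0, 0, 0, 0, 12⟩,
  ⟨1, 0, 0, 0, 1, 0, 0, 0, 1⟩,
  ⟨1, 0, 0, 0, 1, 0, 0, 0, 1⟩,
  ⟨0, 1, 0, 1, 0, 0, 0, 0, 17⟩,
  ⟨1, 0, 0, 0, 1, 0, 0, 0, 1⟩,
  ⟨1, 0, 0, 0, 1, 0, 0, 0, 1⟩,
  ⟨0, 17, 0, 1, 0, 0, 0, 0, 12⟩,
  ⟨1, 0, 0, 0, 1, 0, 0, 0, 1⟩,
  ⟨1, 0, 0, 0, 1, 0, 0, 0, 1⟩,
  ⟨0, 17, 0, 1, 0, 0, 0, 0, 17⟩,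
  ⟨1, 0, 0, 0, 1, 0, 0, 0, 1⟩,
  ⟨1, 0, 0, 0, 1, 0, 0, 0, 1⟩,
  ⟨0, 17, 0, 1, 0, 0, 0, 0, 1⟩,
  ⟨1, 0, 0, 0, 1, 0, 0, 0, 1⟩,
  ⟨1, 0, 0, 0, 1, 0, 0, 0, 1⟩,
  ⟨0, 12, 0, 1, 0, 0, 0, 0, 17⟩,
  ⟨1, 0, 0, 0, 1, 0, 0, 0, 1⟩,
  ⟨1, 0, 0, 0, 1, 0, 0, 0, 1⟩,
  ⟨0, 12, 0, 1, 0, 0, 0, 0, 1⟩,
  ⟨1, 0, 0, 0, 1, 0, 0, 0, 1⟩,
  ⟨1, 0, 0, 0, 1, 0, 0, 0, 1⟩,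
  ⟨0, 12, 0, 1, 0, 0, 0, 0, 12⟩,
  ⟨1, 0, 0, 0, 1, 0, 0, 0, 1⟩,
  ⟨1, 0, 0, 0, 1, 0, 0, 0, 1⟩,
  ⟨7, 7, 8, 7, 8, 7, 8, 7, 7⟩,
  ⟨1, 0, 0, 0, 1, 0, 0, 0, 1⟩,
  ⟨7, 8, 8, 7, 15, 7, 8, 8, 7⟩,
  ⟨1, 0, 0, 0, 1, 0, 0, 0, 1⟩,
  ⟨7, 7, 7, 7, 8, 15, 8, 7, 15⟩,
  ⟨1, 0, 0, 0, 1, 0, 0, 0, 1⟩,
  ⟨1, 0, 0, 0, 1, 0, 0, 0, 1⟩,
  ⟨1, 0, 0, 0, 1, 0, 0, 0, 1⟩,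
  ⟨1, 0, 0, 0, 1, 0, 0, 0, 1⟩,
  ⟨7, 15, 15, 7, 7, 8, 8, 15, 8⟩,
  ⟨1, 0, 0, 0, 1, 0, 0, 0, 1⟩,
  ⟨7, 7, 15, 7, 8, 8, 8, 7, 8⟩,
  ⟨1, 0, 0, 0, 1, 0, 0, 0, 1⟩,
  ⟨7, 15, 8, 7, 7, 7, 8, 15, 7⟩,
  ⟨1, 0, 0, 0, 1, 0, 0, 0, 1⟩,
  ⟨1, 0, 0, 0, 1, 0, 0, 0, 1⟩,
  ⟨1, 0, 0, 0, 1, 0, 0, 0, 1⟩,
  ⟨1, 0, 0, 0, 1, 0, 0, 0, 1⟩,
  ⟨7, 8, 7, 7, 15, 15, 8, 8, 15⟩,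
  ⟨1, 0, 0, 0, 1, 0, 0, 0, 1⟩,
  ⟨7, 15, 7, 7, 7, 15, 8, 15, 15⟩,
  ⟨1, 0, 0, 0, 1, 0, 0, 0, 1⟩,
  ⟨7, 8, 15, 7, 15, 8, 8, 8, 8⟩,
  ⟨1, 0, 0, 0, 1, 0, 0, 0, 1⟩,
  ⟨1, 0, 0, 0, 1, 0, 0, 0, 1⟩,
  ⟨1, 0, 0, 0, 1, 0, 0, 0, 1⟩,
  ⟨1, 0, 0, 0, 1, 0, 0, 0, 1⟩,
  ⟨7, 8, 8, 8, 8, 7, 8, 7, 8⟩,
  ⟨7, 7, 7, 8, 7, 15, 8, 15, 7⟩,
  ⟨1, 0, 0, 0, 1, 0, 0, 0, 1⟩,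
  ⟨1, 0, 0, 0, 1, 0, 0, 0, 1⟩,
  ⟨1, 0, 0, 0, 1, 0, 0, 0, 1⟩,
  ⟨7, 8, 7, 8, 8, 15, 8, 7, 7⟩,
  ⟨1, 0, 0, 0, 1, 0, 0, 0, 1⟩,
  ⟨1, 0, 0, 0, 1, 0, 0, 0, 1⟩,
  ⟨1, 0, 0, 0, 1, 0, 0, 0, 1⟩,
  ⟨7, 7, 15, 8, 7, 8, 8, 15, 15⟩,
  ⟨7, 15, 8, 8, 15, 7, 8, 8, 8⟩,
  ⟨1, 0, 0, 0, 1, 0, 0, 0, 1⟩,
  ⟨1, 0, 0, 0, 1, 0, 0, 0, 1⟩,
  ⟨1, 0, 0, 0, 1, 0, 0, 0, 1⟩,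
  ⟨7, 7, 8, 8, 7, 7, 8, 15, 8⟩,
  ⟨1, 0, 0, 0, 1, 0, 0, 0, 1⟩,
  ⟨1, 0, 0, 0, 1, 0, 0, 0, 1⟩,
  ⟨1, 0, 0, 0, 1, 0, 0, 0, 1⟩,
  ⟨7, 15, 7, 8, 15, 15, 8, 8, 7⟩,
  ⟨7, 8, 15, 8, 8, 8, 8, 7, 15⟩,
  ⟨1, 0, 0, 0, 1, 0, 0, 0, 1⟩,
  ⟨1, 0, 0, 0, 1, 0, 0, 0, 1⟩,
  ⟨1, 0, 0, 0, 1, 0, 0, 0, 1⟩,
  ⟨7, 15, 15, 8, 15, 8, 8, 8, 15⟩,
  ⟨1, 0, 0, 0, 1, 0, 0, 0, 1⟩,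
  ⟨1, 0, 0, 0, 1, 0, 0, 0, 1⟩,
  ⟨1, 0, 0, 0, 1, 0, 0, 0, 1⟩,
  ⟨1, 0, 0, 0, 1, 0, 0, 0, 1⟩,
  ⟨1, 0, 0, 0, 1, 0, 0, 0, 1⟩,
  ⟨1, 0, 0, 0, 1, 0, 0, 0, 1⟩,
  ⟨1, 0, 0, 0, 1, 0, 0, 0, 1⟩,
  ⟨1, 0, 0, 0, 1, 0, 0, 0, 1⟩,
  ⟨1, 0, 0, 0, 1, 0, 0, 0, 1⟩,
  ⟨1, 0, 0, 0, 1, 0, 0, 0, 1⟩,
  ⟨1, 0, 0, 0, 1, 0, 0, 0, 1⟩,
  ⟨1, 0, 0, 0, 1, 0, 0, 0, 1⟩,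
  ⟨1, 0, 0, 0, 1, 0, 0, 0, 1⟩,
  ⟨1, 0, 0, 0, 1, 0, 0, 0, 1⟩,
  ⟨1, 0, 0, 0, 1, 0, 0, 0, 1⟩,
  ⟨1, 0, 0, 0, 1, 0, 0, 0, 1⟩,
  ⟨1, 0, 0, 0, 1, 0, 0, 0, 1⟩,
  ⟨1, 0, 0, 0, 1, 0, 0, 0, 1⟩,
  ⟨1, 0, 0, 0, 1, 0, 0, 0, 1⟩,
  ⟨1, 0, 0, 0, 1, 0, 0, 0, 1⟩,
  ⟨1, 0, 0, 0, 1, 0, 0, 0, 1⟩,
  ⟨1, 0, 0, 0, 1, 0, 0, 0, 1⟩,
  ⟨1, 0, 0, 0, 1, 0, 0, 0, 1⟩,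
  ⟨1, 0, 0, 0, 1, 0, 0, 0, 1⟩,
  ⟨1, 0, 0, 0, 1, 0, 0, 0, 1⟩,
  ⟨1, 0, 0, 0, 1, 0, 0, 0, 1⟩,
  ⟨1, 0, 0, 0, 1, 0, 0, 0, 1⟩,
  ⟨1, 0, 0, 0, 1, 0, 0, 0, 1⟩,
  ⟨1, 0, 0, 0, 1, 0, 0, 0, 1⟩,
  ⟨1, 0, 0, 0, 1, 0, 0, 0, 1⟩,
  ⟨1, 0, 0, 0, 1, 0, 0, 0, 1⟩,
  ⟨1, 0, 0, 0, 1, 0, 0, 0, 1⟩,
  ⟨1, 0, 0, 0, 1, 0, 0, 0, 1⟩,
  ⟨1, 0, 0, 0, 1, 0, 0, 0, 1⟩,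
  ⟨7, 7, 7, 8, 15, 7, 15, 8, 7⟩,
  ⟨7, 15, 7, 8, 8, 7, 15, 7, 7⟩,
  ⟨7, 8, 7, 8, 7, 7, 15, 15, 7⟩,
  ⟨1, 0, 0, 0, 1, 0, 0, 0, 1⟩,
  ⟨1, 0, 0, 0, 1, 0, 0, 0, 1⟩,
  ⟨1, 0, 0, 0, 1, 0, 0, 0, 1⟩,
  ⟨1, 0, 0, 0, 1, 0, 0, 0, 1⟩,
  ⟨1, 0, 0, 0, 1, 0, 0, 0, 1⟩,
  ⟨1, 0, 0, 0, 1, 0, 0, 0, 1⟩,
  ⟨7, 15, 8, 8, 8, 8, 15, 7, 8⟩,
  ⟨7, 8, 8, 8, 7, 8, 15, 15, 8⟩,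
  ⟨7, 7, 8, 8, 15, 8, 15, 8, 8⟩,
  ⟨1, 0, 0, 0, 1, 0, 0, 0, 1⟩,
  ⟨1, 0, 0, 0, 1, 0, 0, 0, 1⟩,
  ⟨1, 0, 0, 0, 1, 0, 0, 0, 1⟩,
  ⟨1, 0, 0, 0, 1, 0, 0, 0, 1⟩,
  ⟨1, 0, 0, 0, 1, 0, 0, 0, 1⟩,
  ⟨1, 0, 0, 0, 1, 0, 0, 0, 1⟩,
  ⟨7, 8, 15, 8, 7, 15, 15, 15, 15⟩,
  ⟨7, 7, 15, 8, 15, 15, 15, 8, 15⟩,
  ⟨7, 15, 15, 8, 8, 15, 15, 7, 15⟩,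
  ⟨1, 0, 0, 0, 1, 0, 0, 0, 1⟩,
  ⟨1, 0, 0, 0, 1, 0, 0, 0, 1⟩,
  ⟨1, 0, 0, 0, 1, 0, 0, 0, 1⟩,
  ⟨7, 7, 7, 15, 8, 7, 8, 15, 7⟩,
  ⟨7, 8, 7, 15, 15, 7, 8, 7, 7⟩,
  ⟨7, 15, 7, 15, 7, 7, 8, 8, 7⟩,
  ⟨1, 0, 0, 0, 1, 0, 0, 0, 1⟩,
  ⟨1, 0, 0, 0, 1, 0, 0, 0, 1⟩,
  ⟨1, 0, 0, 0, 1, 0, 0, 0, 1⟩,
  ⟨1, 0, 0, 0, 1, 0, 0, 0, 1⟩,
  ⟨1, 0, 0, 0, 1, 0, 0, 0, 1⟩,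
  ⟨1, 0, 0, 0, 1, 0, 0, 0, 1⟩,
  ⟨7, 15, 8, 15, 7, 8, 8, 8, 8⟩,
  ⟨7, 7, 8, 15, 8, 8, 8, 15, 8⟩,
  ⟨7, 8, 8, 15, 15, 8, 8, 7, 8⟩,
  ⟨1, 0, 0, 0, 1, 0, 0, 0, 1⟩,
  ⟨1, 0, 0, 0, 1, 0, 0, 0, 1⟩,
  ⟨1, 0, 0, 0, 1, 0, 0, 0, 1⟩,
  ⟨1, 0, 0, 0, 1, 0, 0, 0, 1⟩,
  ⟨1, 0, 0, 0, 1, 0, 0, 0, 1⟩,
  ⟨1, 0, 0, 0, 1, 0, 0, 0, 1⟩,
  ⟨7, 8, 15, 15, 15, 15, 8, 7, 15⟩,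
  ⟨7, 15, 15, 15, 7, 15, 8, 8, 15⟩,
  ⟨7, 7, 15, 15, 8, 15, 8, 15, 15⟩,
  ⟨1, 0, 0, 0, 1, 0, 0, 0, 1⟩,
  ⟨1, 0, 0, 0, 1, 0, 0, 0, 1⟩,
  ⟨1, 0, 0, 0, 1, 0, 0, 0, 1⟩,
  ⟨1, 0, 0, 0, 1, 0, 0, 0, 1⟩,
  ⟨0, 0, 1, 1, 0, 0, 0, 1, 0⟩,
  ⟨1, 0, 0, 0, 1, 0, 0, 0, 1⟩,
  ⟨1, 0, 0, 0, 1, 0, 0, 0, 1⟩,
  ⟨0, 0, 12, 1, 0, 0, 0, 12, 0⟩,
  ⟨1, 0, 0, 0, 1, 0, 0, 0, 1⟩,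
  ⟨1, 0, 0, 0, 1, 0, 0, 0, 1⟩,
  ⟨0, 0, 17, 1, 0, 0, 0, 17, 0⟩,
  ⟨1, 0, 0, 0, 1, 0, 0, 0, 1⟩,
  ⟨1, 0, 0, 0, 1, 0, 0, 0, 1⟩,
  ⟨0, 0, 12, 1, 0, 0, 0, 17, 0⟩,
  ⟨1, 0, 0, 0, 1, 0, 0, 0, 1⟩,
  ⟨1, 0, 0, 0, 1, 0, 0, 0, 1⟩,
  ⟨0, 0, 17, 1, 0, 0, 0, 1, 0⟩,
  ⟨1, 0, 0, 0, 1, 0, 0, 0, 1⟩,
  ⟨1, 0, 0, 0, 1, 0, 0, 0, 1⟩,
  ⟨0, 0, 1, 1, 0, 0, 0, 12, 0⟩,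
  ⟨1, 0, 0, 0, 1, 0, 0, 0, 1⟩,
  ⟨1, 0, 0, 0, 1, 0, 0, 0, 1⟩,
  ⟨0, 0, 17, 1, 0, 0, 0, 12, 0⟩,
  ⟨1, 0, 0, 0, 1, 0, 0, 0, 1⟩,
  ⟨1, 0, 0, 0, 1, 0, 0, 0, 1⟩,
  ⟨0, 0, 1, 1, 0, 0, 0, 17, 0⟩,
  ⟨1, 0, 0, 0, 1, 0, 0, 0, 1⟩,
  ⟨1, 0, 0, 0, 1, 0, 0, 0, 1⟩,
  ⟨0, 0, 12, 1, 0, 0, 0, 1, 0⟩,
  ⟨1, 0, 0, 0, 1, 0, 0, 0, 1⟩,
  ⟨1, 0, 0, 0, 1, 0, 0, 0, 1⟩,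
  ⟨7, 15, 7, 7, 7, 15, 15, 7, 7⟩,
  ⟨1, 0, 0, 0, 1, 0, 0, 0, 1⟩,
  ⟨1, 0, 0, 0, 1, 0, 0, 0, 1⟩,
  ⟨1, 0, 0, 0, 1, 0, 0, 0, 1⟩,
  ⟨7, 7, 8, 7, 8, 7, 15, 8, 8⟩,
  ⟨7, 7, 7, 7, 8, 15, 15, 8, 7⟩,
  ⟨1, 0, 0, 0, 1, 0, 0, 0, 1⟩,
  ⟨1, 0, 0, 0, 1, 0, 0, 0, 1⟩,
  ⟨1, 0, 0, 0, 1, 0, 0, 0, 1⟩,
  ⟨7, 8, 8, 7, 15, 7, 15, 15, 8⟩,
  ⟨1, 0, 0, 0, 1, 0, 0, 0, 1⟩,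
  ⟨1, 0, 0, 0, 1, 0, 0, 0, 1⟩,
  ⟨1, 0, 0, 0, 1, 0, 0, 0, 1⟩,
  ⟨7, 15, 15, 7, 7, 8, 15, 7, 15⟩,
  ⟨7, 15, 8, 7, 7, 7, 15, 7, 8⟩,
  ⟨1, 0, 0, 0, 1, 0, 0, 0, 1⟩,
  ⟨1, 0, 0, 0, 1, 0, 0, 0, 1⟩,
  ⟨1, 0, 0, 0, 1, 0, 0, 0, 1⟩,
  ⟨7, 7, 15, 7, 8, 8, 15, 8, 15⟩,
  ⟨1, 0, 0, 0, 1, 0, 0, 0, 1⟩,
  ⟨1, 0, 0, 0, 1, 0, 0, 0, 1⟩,
  ⟨1, 0, 0, 0, 1, 0, 0, 0, 1⟩,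
  ⟨7, 8, 7, 7, 15, 15, 15, 15, 7⟩,
  ⟨7, 8, 15, 7, 15, 8, 15, 15, 15⟩,
  ⟨1, 0, 0, 0, 1, 0, 0, 0, 1⟩,
  ⟨1, 0, 0, 0, 1, 0, 0, 0, 1⟩,
  ⟨1, 0, 0, 0, 1, 0, 0, 0, 1⟩,
  ⟨7, 15, 15, 15, 7, 15, 15, 15, 7⟩,
  ⟨1, 0, 0, 0, 1, 0, 0, 0, 1⟩,
  ⟨7, 7, 7, 15, 8, 7, 15, 7, 8⟩,
  ⟨1, 0, 0, 0, 1, 0, 0, 0, 1⟩,
  ⟨1, 0, 0, 0, 1, 0, 0, 0, 1⟩,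
  ⟨1, 0, 0, 0, 1, 0, 0, 0, 1⟩,
  ⟨1, 0, 0, 0, 1, 0, 0, 0, 1⟩,
  ⟨7, 15, 7, 15, 7, 7, 15, 15, 8⟩,
  ⟨1, 0, 0, 0, 1, 0, 0, 0, 1⟩,
  ⟨7, 8, 7, 15, 15, 7, 15, 8, 8⟩,
  ⟨1, 0, 0, 0, 1, 0, 0, 0, 1⟩,
  ⟨7, 15, 8, 15, 7, 8, 15, 15, 15⟩,
  ⟨1, 0, 0, 0, 1, 0, 0, 0, 1⟩,
  ⟨1, 0, 0, 0, 1, 0, 0, 0, 1⟩,
  ⟨1, 0, 0, 0, 1, 0, 0, 0, 1⟩,
  ⟨1, 0, 0, 0, 1, 0, 0, 0, 1⟩,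
  ⟨7, 8, 8, 15, 15, 8, 15, 8, 15⟩,
  ⟨1, 0, 0, 0, 1, 0, 0, 0, 1⟩,
  ⟨7, 7, 8, 15, 8, 8, 15, 7, 15⟩,
  ⟨1, 0, 0, 0, 1, 0, 0, 0, 1⟩,
  ⟨7, 8, 15, 15, 15, 15, 15, 8, 7⟩,
  ⟨1, 0, 0, 0, 1, 0, 0, 0, 1⟩,
  ⟨1, 0, 0, 0, 1, 0, 0, 0, 1⟩,
  ⟨1, 0, 0, 0, 1, 0, 0, 0, 1⟩,
  ⟨1, 0, 0, 0, 1, 0, 0, 0, 1⟩,
  ⟨7, 7, 15, 15, 8, 15, 15, 7, 7⟩,
  ⟨1, 0, 0, 0, 1, 0, 0, 0, 1⟩,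
  ⟨1, 0, 0, 0, 1, 0, 0, 0, 1⟩,
  ⟨0, 0, 1, 0, 1, 0, 1, 0, 0⟩,
  ⟨1, 0, 0, 0, 1, 0, 0, 0, 1⟩,
  ⟨1, 0, 0, 0, 1, 0, 0, 0, 1⟩,
  ⟨0, 0, 17, 0, 17, 0, 1, 0, 0⟩,
  ⟨1, 0, 0, 0, 1, 0, 0, 0, 1⟩,
  ⟨1, 0, 0, 0, 1, 0, 0, 0, 1⟩,
  ⟨0, 0, 12, 0, 12, 0, 1, 0, 0⟩,
  ⟨1, 0, 0, 0, 1, 0, 0, 0, 1⟩,
  ⟨1, 0, 0, 0, 1, 0, 0, 0, 1⟩,
  ⟨0, 0, 12, 0, 17, 0, 1, 0, 0⟩,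
  ⟨1, 0, 0, 0, 1, 0, 0, 0, 1⟩,
  ⟨1, 0, 0, 0, 1, 0, 0, 0, 1⟩,
  ⟨0, 0, 1, 0, 12, 0, 1, 0, 0⟩,
  ⟨1, 0, 0, 0, 1, 0, 0, 0, 1⟩,
  ⟨1, 0, 0, 0, 1, 0, 0, 0, 1⟩,
  ⟨0, 0, 17, 0, 1, 0, 1, 0, 0⟩,
  ⟨1, 0, 0, 0, 1, 0, 0, 0, 1⟩,
  ⟨1, 0, 0, 0, 1, 0, 0, 0, 1⟩,
  ⟨0, 0, 17, 0, 12, 0, 1, 0, 0⟩,
  ⟨1, 0, 0, 0, 1, 0, 0, 0, 1⟩,
  ⟨1, 0, 0, 0, 1, 0, 0, 0, 1⟩,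
  ⟨0, 0, 12, 0, 1, 0, 1, 0, 0⟩,
  ⟨1, 0, 0, 0, 1, 0, 0, 0, 1⟩,
  ⟨1, 0, 0, 0, 1, 0, 0, 0, 1⟩,
  ⟨0, 0, 1, 0, 17, 0, 1, 0, 0⟩,
  ⟨1, 0, 0, 0, 1, 0, 0, 0, 1⟩,
  ⟨1, 0, 0, 0, 1, 0, 0, 0, 1⟩,
  ⟨7, 15, 15, 15, 15, 7, 15, 7, 15⟩,
  ⟨1, 0, 0, 0, 1, 0, 0, 0, 1⟩,
  ⟨7, 15, 7, 15, 15, 8, 15, 7, 7⟩,
  ⟨1, 0, 0, 0, 1, 0, 0, 0, 1⟩,
  ⟨7, 7, 7, 15, 7, 8, 15, 8, 7⟩,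
  ⟨1, 0, 0, 0, 1, 0, 0, 0, 1⟩,
  ⟨1, 0, 0, 0, 1, 0, 0, 0, 1⟩,
  ⟨1, 0, 0, 0, 1, 0, 0, 0, 1⟩,
  ⟨1, 0, 0, 0, 1, 0, 0, 0, 1⟩,
  ⟨7, 8, 7, 15, 8, 8, 15, 15, 7⟩,
  ⟨1, 0, 0, 0, 1, 0, 0, 0, 1⟩,
  ⟨7, 8, 8, 15, 8, 15, 15, 15, 8⟩,
  ⟨1, 0, 0, 0, 1, 0, 0, 0, 1⟩,
  ⟨7, 15, 8, 15, 15, 15, 15, 7, 8⟩,
  ⟨1, 0, 0, 0, 1, 0, 0, 0, 1⟩,
  ⟨1, 0, 0, 0, 1, 0, 0, 0, 1⟩,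
  ⟨1, 0, 0, 0, 1, 0, 0, 0, 1⟩,
  ⟨1, 0, 0, 0, 1, 0, 0, 0, 1⟩,
  ⟨7, 7, 8, 15, 7, 15, 15, 8, 8⟩,
  ⟨1, 0, 0, 0, 1, 0, 0, 0, 1⟩,
  ⟨7, 7, 15, 15, 7, 7, 15, 8, 15⟩,
  ⟨1, 0, 0, 0, 1, 0, 0, 0, 1⟩,
  ⟨7, 8, 15, 15, 8, 7, 15, 15, 15⟩,
  ⟨1, 0, 0, 0, 1, 0, 0, 0, 1⟩,
  ⟨1, 0, 0, 0, 1, 0, 0, 0, 1⟩,
  ⟨1, 0, 0, 0, 1, 0, 0, 0, 1⟩,
  ⟨1, 0, 0, 0, 1, 0, 0, 0, 1⟩,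
  ⟨7, 15, 7, 15, 7, 7, 7, 7, 15⟩,
  ⟨7, 7, 7, 15, 8, 7, 7, 8, 15⟩,
  ⟨1, 0, 0, 0, 1, 0, 0, 0, 1⟩,
  ⟨1, 0, 0, 0, 1, 0, 0, 0, 1⟩,
  ⟨1, 0, 0, 0, 1, 0, 0, 0, 1⟩,
  ⟨7, 7, 8, 15, 8, 8, 7, 8, 7⟩,
  ⟨1, 0, 0, 0, 1, 0, 0, 0, 1⟩,
  ⟨1, 0, 0, 0, 1, 0, 0, 0, 1⟩,
  ⟨1, 0, 0, 0, 1, 0, 0, 0, 1⟩,
  ⟨7, 8, 8, 15, 15, 8, 7, 15, 7⟩,
  ⟨7, 15, 8, 15, 7, 8, 7, 7, 7⟩,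
  ⟨1, 0, 0, 0, 1, 0, 0, 0, 1⟩,
  ⟨1, 0, 0, 0, 1, 0, 0, 0, 1⟩,
  ⟨1, 0, 0, 0, 1, 0, 0, 0, 1⟩,
  ⟨7, 15, 15, 15, 7, 15, 7, 7, 8⟩,
  ⟨1, 0, 0, 0, 1, 0, 0, 0, 1⟩,
  ⟨1, 0, 0, 0, 1, 0, 0, 0, 1⟩,
  ⟨1, 0, 0, 0, 1, 0, 0, 0, 1⟩,
  ⟨7, 7, 15, 15, 8, 15, 7, 8, 8⟩,
  ⟨7, 8, 15, 15, 15, 15, 7, 15, 8⟩,
  ⟨1, 0, 0, 0, 1, 0, 0, 0, 1⟩,
  ⟨1, 0, 0, 0, 1, 0, 0, 0, 1⟩,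
  ⟨1, 0, 0, 0, 1, 0, 0, 0, 1⟩,
  ⟨7, 8, 7, 15, 15, 7, 7, 15, 15⟩,
  ⟨1, 0, 0, 0, 1, 0, 0, 0, 1⟩]

/-- the pair satisfies the commutator relation of the generators -/
def validc (a' p' : M3) : Bool := decide (a'.mul p' = M3.smul omg (p'.mul a'))

/-- the conjugating matrix of a pair -/
def tabAt (a' p' : M3) : M3 := tab.getD (27 * list27.idxOf a' + list27.idxOf p') M3.one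

/-- the conjugating matrix of a pair is as required -/
def goodc (a' p' : M3) : Bool :=
  (tabAt a' p').isU && decide ((tabAt a' p').mul aM = a'.mul (tabAt a' p')) &&
    decide ((tabAt a' p').mul pM = p'.mul (tabAt a' p')) &&
    ((!decide ((tabAt a' p').det = 1) && !decide ((tabAt a' p').det = 4)) || fwdc (tabAt a' p'))

theorem tab_ok : list27.all (fun a' => list27.all fun p' => !validc a' p' || goodc a' p') = true := by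
  decide +kernel

theorem list27_mul : list27.all (fun x => list27.all fun y => list27.contains (x.mul y)) = true := by
  decide +kernel

theorem list27_cube : list27.all (fun x => decide (x.mul (x.mul x) = M3.one)) = true := by
  decide +kernel

theorem list27_isSU : list27.all (fun x => x.isSU) = true := by decide +kernel

theorem list27_nodup : list27.Nodup := by decide +kernel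

theorem list27_length : list27.length = 27 := by decide +kernel

theorem one_mem27 : M3.one ∈ list27 := by decide +kernel

theorem aM_mem : aM ∈ list27 := by decide +kernel

theorem pM_mem : pM ∈ list27 := by decide +kernel

theorem aM_pM : aM.mul pM = M3.smul omg (pM.mul aM) := by decide +kernel

theorem mem27_mul {x y : M3} (hx : x ∈ list27) (hy : y ∈ list27) : x.mul y ∈ list27 := by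
  have h := List.all_eq_true.1 (List.all_eq_true.1 list27_mul x hx) y hy
  exact List.contains_iff_mem.1 h

theorem mem27_cube {x : M3} (hx : x ∈ list27) : x.mul (x.mul x) = M3.one := by
  have h := List.all_eq_true.1 list27_cube x hx
  exact of_decide_eq_true h

theorem mem27_isSU {x : M3} (hx : x ∈ list27) : x.isSU = true :=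
  List.all_eq_true.1 list27_isSU x hx

/-- the extraspecial group of order 27 -/
def R0 : Subgroup (GL (Fin 3) K) where
  carrier := {g | ofMat (g : Matrix (Fin 3) (Fin 3) K) ∈ list27}
  mul_mem' := by
    intro a b ha hb
    show ofMat ((a * b : GL (Fin 3) K) : Matrix (Fin 3) (Fin 3) K) ∈ list27
    rw [ofMat_gl_mul]
    exact mem27_mul ha hb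
  one_mem' := by
    show ofMat ((1 : GL (Fin 3) K) : Matrix (Fin 3) (Fin 3) K) ∈ list27
    rw [Units.val_one, ofMat_one]
    exact one_mem27
  inv_mem' := by
    intro a ha
    have h1 : a * (a * a) = 1 := by
      apply gl_ext
      rw [ofMat_gl_mul, ofMat_gl_mul, Units.val_one, ofMat_one]
      exact mem27_cube ha
    have h2 : a⁻¹ = a * a := by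
      rw [inv_eq_iff_eq_inv, eq_comm, inv_eq_iff_mul_eq_one]
      rw [← h1]
      group
    show ofMat ((a⁻¹ : GL (Fin 3) K) : Matrix (Fin 3) (Fin 3) K) ∈ list27
    rw [h2, ofMat_gl_mul]
    exact mem27_mul ha ha

theorem mem_R0_iff (g : GL (Fin 3) K) :
    g ∈ R0 ↔ ofMat (g : Matrix (Fin 3) (Fin 3) K) ∈ list27 := Iff.rfl

theorem R0_le : R0 ≤ SUg 3 K 5 := by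
  intro g hg
  have h1 := mem27_isSU hg
  have h2 : g = glOf _ (isSU_isU h1) := by
    apply gl_ext
    rw [ofMat_glOf]
  rw [h2]
  exact glOf_mem_SUg _ h1

theorem card_R0 : Nat.card R0 = 27 := by
  classical
  have e : R0 ≃ {X : M3 // X ∈ list27} := by
    refine Equiv.ofBijective (fun g => ⟨ofMat ((g : GL (Fin 3) K) : Matrix (Fin 3) (Fin 3) K), g.2⟩)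
      ⟨?_, ?_⟩
    · intro a b hab
      apply Subtype.ext
      apply gl_ext
      exact congrArg Subtype.val hab
    · rintro ⟨X, hX⟩
      have h1 := mem27_isSU hX
      refine ⟨⟨glOf X (isSU_isU h1), ?_⟩, ?_⟩
      · show ofMat _ ∈ list27
        rw [ofMat_glOf]
        exact hX
      · apply Subtype.ext
        exact ofMat_glOf X (isSU_isU h1)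
  rw [Nat.card_congr e, Nat.subtype_card list27.toFinset (fun x => List.mem_toFinset),
    List.toFinset_card_of_nodup list27_nodup, list27_length]

/-- the diagonal generator -/
noncomputable def Ag : GL (Fin 3) K := glOf aM (isSU_isU (mem27_isSU aM_mem))

/-- the permutation generator -/
noncomputable def Pg : GL (Fin 3) K := glOf pM (isSU_isU (mem27_isSU pM_mem))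

theorem Ag_mem : Ag ∈ R0 := by
  show ofMat _ ∈ list27
  unfold Ag
  rw [ofMat_glOf]
  exact aM_mem

theorem Pg_mem : Pg ∈ R0 := by
  show ofMat _ ∈ list27
  unfold Pg
  rw [ofMat_glOf]
  exact pM_mem

theorem omg_ne : dec omg ≠ 0 := dec_ne_zero (by decide) (by decide)

theorem scal_comm (k : K) (hk : k ≠ 0) (g : GL (Fin 3) K) : scal k hk * g = g * scal k hk := by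
  apply Units.ext
  rw [Units.val_mul, Units.val_mul, scal_val, smul_mul_assoc, one_mul, mul_smul_comm, mul_one]

theorem ofMat_scal_mul (k : K) (hk : k ≠ 0) (g : GL (Fin 3) K) :
    ofMat ((scal k hk * g : GL (Fin 3) K) : Matrix (Fin 3) (Fin 3) K) =
      M3.smul (enc k) (ofMat (g : Matrix (Fin 3) (Fin 3) K)) := by
  rw [scal_mul_val, ofMat_smul]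

theorem Ag_Pg : Ag * Pg = scal (dec omg) omg_ne * (Pg * Ag) := by
  apply gl_ext
  rw [ofMat_scal_mul, ofMat_gl_mul, ofMat_gl_mul, enc_dec omg (by decide)]
  unfold Ag Pg
  rw [ofMat_glOf, ofMat_glOf]
  exact aM_pM

theorem toMat_aM : toMat aM = Matrix.diagonal ![1, dec omg, (dec omg) ^ 2] := by
  apply ofMat_injective
  rw [ofMat_toMat _ (by decide)]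
  have h2 : enc ((dec omg) ^ 2) = mulc omg omg := by
    rw [pow_two, enc_mul, enc_dec omg (by decide)]
  simp only [ofMat, Matrix.diagonal_apply_eq, Matrix.diagonal_apply_ne, ne_eq, not_false_eq_true,
    enc_zero, enc_one, h2, enc_dec omg (by decide : omg < 25), Matrix.cons_val_zero,
    Matrix.cons_val_one, Matrix.cons_val_two, Matrix.head_cons, Matrix.tail_cons,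
    Fin.reduceEq, Fin.zero_eta, Fin.isValue, Matrix.diagonal]
  simp [Matrix.of_apply, enc_zero, enc_one, h2, enc_dec omg (by decide : omg < 25)]
  decide +kernel

theorem toMat_pM : toMat pM = !![0, 0, 1; 1, 0, 0; 0, 1, 0] := by
  apply ofMat_injective
  rw [ofMat_toMat _ (by decide)]
  simp [ofMat, enc_zero, enc_one]
  decide +kernel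

theorem omg_facts : dec omg ≠ 1 ∧ (dec omg) ^ 2 ≠ 1 ∧ (dec omg) ^ 2 ≠ dec omg := by
  refine ⟨?_, ?_, ?_⟩
  · intro h
    have := congrArg enc h
    rw [enc_dec omg (by decide), enc_one] at this
    revert this
    decide
  · intro h
    have := congrArg enc h
    rw [pow_two, enc_mul, enc_dec omg (by decide), enc_one] at this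
    revert this
    decide +kernel
  · intro h
    have := congrArg enc h
    rw [pow_two, enc_mul, enc_dec omg (by decide)] at this
    revert this
    decide +kernel

theorem enc_neg_one : enc (-1 : K) = 4 := by decide +kernel

/-- the normaliser of the extraspecial group stabilises the set -/
theorem normalizer_LS {n : GL (Fin 3) K} (hn : n ∈ SUg 3 K 5) (h : NormP R0 n) : n ∈ LS := by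
  have hA' : n * Ag * n⁻¹ ∈ R0 := h Ag Ag_mem
  have hP' : n * Pg * n⁻¹ ∈ R0 := h Pg Pg_mem
  set A' := n * Ag * n⁻¹ with hA'def
  set P' := n * Pg * n⁻¹ with hP'def
  have hrel : A' * P' = scal (dec omg) omg_ne * (P' * A') := by
    have h1 : A' * P' = n * (Ag * Pg) * n⁻¹ := by
      rw [hA'def, hP'def]
      group
    rw [h1, Ag_Pg, hA'def, hP'def]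
    have h2 : n * (scal (dec omg) omg_ne * (Pg * Ag)) * n⁻¹ =
        (n * scal (dec omg) omg_ne) * (Pg * Ag) * n⁻¹ := by group
    rw [h2, ← scal_comm]
    group
  have hvalid : validc (ofMat (A' : Matrix (Fin 3) (Fin 3) K))
      (ofMat (P' : Matrix (Fin 3) (Fin 3) K)) = true := by
    unfold validc
    rw [decide_eq_true_eq, ← ofMat_gl_mul, ← ofMat_gl_mul, hrel, ofMat_scal_mul,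
      enc_dec omg (by decide)]
  have hgood := List.all_eq_true.1 (List.all_eq_true.1 tab_ok _ hA') _ hP'
  rw [hvalid] at hgood
  simp only [Bool.not_true, Bool.false_or] at hgood
  unfold goodc at hgood
  simp only [Bool.and_eq_true, decide_eq_true_eq, Bool.or_eq_true, Bool.not_eq_true',
    decide_eq_false_iff_not] at hgood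
  obtain ⟨⟨⟨hTU, hTA⟩, hTP⟩, hTdet⟩ := hgood
  set T := tabAt (ofMat (A' : Matrix (Fin 3) (Fin 3) K)) (ofMat (P' : Matrix (Fin 3) (Fin 3) K))
    with hTdef
  set Tg := glOf T hTU with hTg
  have hTgA : Tg * Ag = A' * Tg := by
    apply gl_ext
    rw [ofMat_gl_mul, ofMat_gl_mul, hTg, ofMat_glOf]
    unfold Ag
    rw [ofMat_glOf]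
    exact hTA
  have hTgP : Tg * Pg = P' * Tg := by
    apply gl_ext
    rw [ofMat_gl_mul, ofMat_gl_mul, hTg, ofMat_glOf]
    unfold Pg
    rw [ofMat_glOf]
    exact hTP
  set Y := Tg⁻¹ * n with hY
  have hYA : Y * Ag = Ag * Y := by
    have h1 : n * Ag = A' * n := by
      rw [hA'def]
      group
    have h2 : Tg⁻¹ * A' = Ag * Tg⁻¹ := by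
      have : A' = Tg * Ag * Tg⁻¹ := by
        rw [hTgA]
        group
      rw [this]
      group
    rw [hY, mul_assoc, h1, ← mul_assoc, h2, mul_assoc]
  have hYP : Y * Pg = Pg * Y := by
    have h1 : n * Pg = P' * n := by
      rw [hP'def]
      group
    have h2 : Tg⁻¹ * P' = Pg * Tg⁻¹ := by
      have : P' = Tg * Pg * Tg⁻¹ := by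
        rw [hTgP]
        group
      rw [this]
      group
    rw [hY, mul_assoc, h1, ← mul_assoc, h2, mul_assoc]
  have hYs : (Y : Matrix (Fin 3) (Fin 3) K) =
      (Y : Matrix (Fin 3) (Fin 3) K) 0 0 • (1 : Matrix (Fin 3) (Fin 3) K) := by
    apply scalar_of_comm (dec omg) omg_facts.1 omg_facts.2.1 omg_facts.2.2
    · have := congrArg (fun g : GL (Fin 3) K => (g : Matrix (Fin 3) (Fin 3) K)) hYA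
      simp only [Units.val_mul] at this
      rw [← toMat_aM]
      exact this
    · have := congrArg (fun g : GL (Fin 3) K => (g : Matrix (Fin 3) (Fin 3) K)) hYP
      simp only [Units.val_mul] at this
      rw [← toMat_pM]
      exact this
  set c := (Y : Matrix (Fin 3) (Fin 3) K) 0 0 with hc
  have hTgU : Tg ∈ Cfsg.GU 3 K 5 := glOf_mem_GU T hTU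
  have hYU : Y ∈ Cfsg.GU 3 K 5 := mul_mem (inv_mem hTgU) hn.1
  have hc6 : c ^ 5 * c = 1 := by
    have h1 := (Cfsg.Agent.Lib.Helper9.AschU.mem_GU_iff card_K Y).1 hYU
    have h2 := congrFun (congrFun h1 0) 0
    rw [Matrix.mul_apply, Fin.sum_univ_three, Matrix.one_apply_eq] at h2
    simp only [Asch.star_apply, sigma_apply] at h2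
    rw [hYs] at h2
    simp at h2
    exact h2
  have hc0 : c ≠ 0 := by
    intro h0
    rw [h0] at hc6
    simp at hc6
  have hYdet : Matrix.det (Y : Matrix (Fin 3) (Fin 3) K) = c ^ 3 := by
    rw [hYs, Matrix.det_smul, Matrix.det_one, mul_one, Fintype.card_fin]
  have hndet : Matrix.det (n : Matrix (Fin 3) (Fin 3) K) = 1 := (mem_SL_iff' n).1 hn.2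
  have hnTY : n = Tg * Y := by
    rw [hY]
    group
  have hdetT : Matrix.det (Tg : Matrix (Fin 3) (Fin 3) K) * c ^ 3 = 1 := by
    rw [← hYdet, ← Matrix.det_mul, ← Units.val_mul, ← hnTY, hndet]
  have hc3 : c ^ 3 = 1 ∨ c ^ 3 = -1 := by
    have h1 : (c ^ 3 - 1) * (c ^ 3 + 1) = 0 := by
      linear_combination hc6
    rcases mul_eq_zero.1 h1 with h2 | h2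
    · left
      linear_combination h2
    · right
      linear_combination h2
  have hTdet' : T.det = 1 ∨ T.det = 4 := by
    have h1 : enc (Matrix.det (Tg : Matrix (Fin 3) (Fin 3) K)) = T.det := by
      rw [enc_det, hTg, ofMat_glOf]
    rcases hc3 with h3 | h3
    · left
      rw [h3, mul_one] at hdetT
      rw [← h1, hdetT, enc_one]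
    · right
      rw [h3] at hdetT
      have h4 : Matrix.det (Tg : Matrix (Fin 3) (Fin 3) K) = -1 := by
        linear_combination -hdetT
      rw [← h1, h4, enc_neg_one]
  have hTfwd : fwdc T = true := by
    rcases hTdet with ⟨h1, h4⟩ | h5
    · rcases hTdet' with h | h
      · exact absurd h h1
      · exact absurd h h4
    · exact h5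
  have hTL : Tg ∈ LS := glOf_mem_LS T hTU hTfwd
  have hYL : Y ∈ LS := by
    have h1 : Y = scal c hc0 := by
      apply Units.ext
      rw [scal_val]
      exact hYs
    rw [h1]
    exact scal_mem_LS c hc0
  rw [hnTY]
  exact mul_mem hTL hYL

/-- an element stabilising the set and not normalising the extraspecial group -/
def t0 : M3 := ⟨1, 4, 2, 4, 2, 4, 2, 4, 1⟩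

theorem t0_isSU : t0.isSU = true := by decide +kernel

theorem t0_fwd : fwdc t0 = true := by decide +kernel

theorem t0_not : ((t0.mul aM).mul t0.ct) ∉ list27 := by decide +kernel

/-- the element outside the normaliser -/
noncomputable def T0g : GL (Fin 3) K := glOf t0 (isSU_isU t0_isSU)

theorem T0g_not : ¬ NormP R0 T0g := by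
  intro h
  have h1 : T0g * Ag * T0g⁻¹ ∈ R0 := h Ag Ag_mem
  have hT0U : T0g ∈ Cfsg.GU 3 K 5 := glOf_mem_GU t0 _
  rw [mem_R0_iff, ofMat_gl_mul, ofMat_gl_mul, ofMat_gl_inv hT0U] at h1
  unfold T0g Ag at h1
  rw [ofMat_glOf, ofMat_glOf] at h1
  exact t0_not h1

/-- the overgroup property for the normaliser of the extraspecial group -/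
theorem hasOver_nR : HasOver (SUg 3 K 5) (NormP R0) :=
  ⟨LS ⊓ SUg 3 K 5, LS_lt, fun g hg hm => ⟨normalizer_LS hg hm, hg⟩, T0g,
    ⟨glOf_mem_LS t0 _ t0_fwd, glOf_mem_SUg t0 t0_isSU⟩, T0g_not⟩

end Cfsg.Agent.Lib.Helper3.SU3.Q5.S36
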