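import Mathlib
import Cfsg.Prelude
import Cfsg.Agent.Lib.Helper3.SU3a
import Cfsg.Agent.Lib.Helper3.SU3d
import Cfsg.Agent.Lib.Helper3.SU3e
import Cfsg.Agent.Lib.Helper3.SU3f
import Cfsg.Agent.Lib.Helper3.SU3m5c
import Cfsg.Agent.Lib.Helper3.SU3m5d
import Cfsg.Agent.Lib.Helper3.SU3m5e
import Cfsg.Agent.Lib.Helper3.SU3m5g
import Cfsg.Agent.Lib.Helper3.SU3m3c
import Cfsg.Agent.Lib.Helper3.SU3m3e
import Cfsg.Agent.Lib.Helper3.MaxU8

set_option autoImplicit false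
set_option maxHeartbeats 4000000
set_option maxRecDepth 100000
set_option linter.unusedVariables false
set_option linter.unusedSectionVars false
set_option linter.style.haveILetI false
set_option linter.deprecated false

/-! The maximal subgroups of the special unitary groups in dimension three: the geometric
subgroups which are not maximal for the fields with nine and twenty-five elements, and the
list of types. -/

namespace Cfsg.Agent.Lib.Helper3.SU3

open Matrix Cfsg Cfsg.Geo Module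
open Cfsg.Agent.Lib.Helper3.MaxU
open Cfsg.Agent.Lib.Helper8 Cfsg.Agent.Lib.Helper5
open Cfsg.Agent.Lib.Helper5.Herm Cfsg.Agent.Lib.Helper5.HermTv

section nonmax
variable {F : Type*} [Field F] [Fintype F]

/-- the isomorphism with the model field with twenty-five elements -/
noncomputable def phi5 (hF : Fintype.card F = 5 ^ 2) : F ≃+* Q5.K :=
  FiniteField.ringEquivOfCardEq (hF.trans Q5.card_K.symm)

/-- the isomorphism with the model field with nine elements -/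
noncomputable def phi3 (hF : Fintype.card F = 3 ^ 2) : F ≃+* Q3.K :=
  FiniteField.ringEquivOfCardEq (hF.trans Q3.card_K.symm)

theorem frame_between5 (hF : Fintype.card F = 5 ^ 2) {D : Fin 3 → Submodule F (Fin 3 → F)}
    (hD : IsNondegenerateMDecomposition (hermForm 3 F 5) 1 D) :
    ∃ K' : Subgroup (GL (Fin 3) F),
      decompositionStabilizer D ⊓ SUg 3 F 5 < K' ∧ K' < SUg 3 F 5 := by
  obtain ⟨B, hBU, hB⟩ := exists_frame_conj hF hD
  have h1 := HasOver.toField hF Q5.card_K (phi5 hF) Q5.S105.MonL.hasOver_mon hBU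
  exact h1.notMax _ inf_le_right (fun x hx => MonP.map (phi5 hF) (hB x hx.1))

theorem subfield_between5 (hF : Fintype.card F = 5 ^ 2) (F₀ : Subfield F) (P : GL (Fin 3) F)
    (hcard : Fintype.card F = Nat.card F₀ ^ 2)
    (hrat : IsFormRationalStructure (hermForm 3 F 5) F₀ 1 P) :
    ∃ K' : Subgroup (GL (Fin 3) F),
      subfieldSubgroup F₀ P ⊓ SUg 3 F 5 < K' ∧ K' < SUg 3 F 5 := by
  obtain ⟨B, hBU, hB⟩ := exists_real_conj hF (Or.inr rfl) F₀ P hcard hrat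
  have h1 := HasOver.toField hF Q5.card_K (phi5 hF) Q5.S105.RealL.hasOver_real hBU
  exact h1.notMax _ inf_le_right (fun x hx => RealP.map (phi5 hF) (hB x hx.1))

theorem subfield_between3 (hF : Fintype.card F = 3 ^ 2) (F₀ : Subfield F) (P : GL (Fin 3) F)
    (hcard : Fintype.card F = Nat.card F₀ ^ 2)
    (hrat : IsFormRationalStructure (hermForm 3 F 3) F₀ 1 P) :
    ∃ K' : Subgroup (GL (Fin 3) F),
      subfieldSubgroup F₀ P ⊓ SUg 3 F 3 < K' ∧ K' < SUg 3 F 3 := by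
  obtain ⟨B, hBU, hB⟩ := exists_real_conj hF (Or.inl rfl) F₀ P hcard hrat
  have h1 := HasOver.toField hF Q3.card_K (phi3 hF) Q3.S3.hasOver_real hBU
  exact h1.notMax _ inf_le_right (fun x hx => RealP.map (phi3 hF) (hB x hx.1))

theorem field_between5 (hF : Fintype.card F = 5 ^ 2)
    (K : Subalgebra F (Matrix (Fin 3) (Fin 3) F)) (hK : IsFieldSubalgebra 3 K)
    (hadj : IsAdjointClosedFor (hermForm 3 F 5) K) :
    ∃ K' : Subgroup (GL (Fin 3) F),
      subalgebraNormalizer K ⊓ SUg 3 F 5 < K' ∧ K' < SUg 3 F 5 := by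
  classical
  obtain ⟨s, hs, hord, hn⟩ := exists_s7 hF (Or.inr rfl) K hK hadj
  have hP : Subgroup.zpowers s ≤ SUg 3 F 5 := Subgroup.zpowers_le.2 hs
  have hc : Nat.card ↥(Subgroup.zpowers s) = 7 ^ 1 := by
    rw [Nat.card_zpowers, hord, pow_one]
  have hP₀ := comap_le_SUg hF Q5.card_K (phi5 hF)
    (Subgroup.zpowers_le.2 Q5.S105.N7L.S0g_mem : Subgroup.zpowers Q5.S105.N7L.S0g ≤ SUg 3 Q5.K 5)
  have hc₀ : Nat.card ↥((Subgroup.zpowers Q5.S105.N7L.S0g).comap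
      (glEquiv (phi5 hF) 3).toMonoidHom) = 7 ^ 1 := by
    rw [card_comap_equiv, Nat.card_zpowers, Q5.S105.N7L.orderOf_S0g, pow_one]
  have hnd : ¬ 7 ^ (1 + 1) ∣ Nat.card ↥(SUg 3 F 5) := by
    rw [card_SUg5 hF]
    norm_num
  have h1 := HasOver.pull hF Q5.card_K (phi5 hF) Q5.S105.N7L.hasOver_n7
  have h2 := HasOver.sylow (SUg 3 F 5) 7 1 (by norm_num) _ _ hP₀ hP hc₀ hc hnd h1
  exact h2.notMax _ inf_le_right (fun x hx => hn x hx.1)

theorem field_between3 (hF : Fintype.card F = 3 ^ 2)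
    (K : Subalgebra F (Matrix (Fin 3) (Fin 3) F)) (hK : IsFieldSubalgebra 3 K)
    (hadj : IsAdjointClosedFor (hermForm 3 F 3) K) :
    ∃ K' : Subgroup (GL (Fin 3) F),
      subalgebraNormalizer K ⊓ SUg 3 F 3 < K' ∧ K' < SUg 3 F 3 := by
  classical
  obtain ⟨s, hs, hord, hn⟩ := exists_s7 hF (Or.inl rfl) K hK hadj
  have hP : Subgroup.zpowers s ≤ SUg 3 F 3 := Subgroup.zpowers_le.2 hs
  have hc : Nat.card ↥(Subgroup.zpowers s) = 7 ^ 1 := by
    rw [Nat.card_zpowers, hord, pow_one]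
  have hP₀ := comap_le_SUg hF Q3.card_K (phi3 hF)
    (Subgroup.zpowers_le.2 Q3.S21.S0g_mem : Subgroup.zpowers Q3.S21.S0g ≤ SUg 3 Q3.K 3)
  have hc₀ : Nat.card ↥((Subgroup.zpowers Q3.S21.S0g).comap
      (glEquiv (phi3 hF) 3).toMonoidHom) = 7 ^ 1 := by
    rw [card_comap_equiv, Nat.card_zpowers, Q3.S21.orderOf_S0g, pow_one]
  have hnd : ¬ 7 ^ (1 + 1) ∣ Nat.card ↥(SUg 3 F 3) := by
    rw [card_SUg3 hF]
    norm_num
  have h1 := HasOver.pull hF Q3.card_K (phi3 hF) Q3.S21.hasOver_n7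
  have h2 := HasOver.sylow (SUg 3 F 3) 7 1 (by norm_num) _ _ hP₀ hP hc₀ hc hnd h1
  exact h2.notMax _ inf_le_right (fun x hx => hn x hx.1)

theorem class6_between5 (hF : Fintype.card F = 5 ^ 2)
    (R : Subgroup (GL (Fin 3) F)) (hR : IsSymplecticTypeGroup 3 R)
    (hirr : ActsAbsolutelyIrreducibly (matrixSet R))
    (hsim : R ≤ similarityGroup (hermForm 3 F 5)) (hcard : Nat.card R = 27)
    (hZ : Nat.card (Subgroup.center R) = 3) :
    ∃ K' : Subgroup (GL (Fin 3) F),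
      subgroupNormalizer R ⊓ SUg 3 F 5 < K' ∧ K' < SUg 3 F 5 := by
  classical
  have h2 : (2 : F) ≠ 0 := by
    haveI : CharP F 5 := charP_of_card Nat.prime_five hF
    intro h
    have h3 : ((2 : ℕ) : F) = 0 := by exact_mod_cast h
    have h4 := (CharP.cast_eq_zero_iff F 5 2).1 h3
    omega
  have hP : R ≤ SUg 3 F 5 := class6_le_SUg hF h2 (by norm_num) R hR hirr hsim hcard hZ
  have hc : Nat.card ↥R = 3 ^ 3 := by rw [hcard]; norm_num
  have hP₀ := comap_le_SUg hF Q5.card_K (phi5 hF) Q5.S36.R0_le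
  have hc₀ : Nat.card ↥(Q5.S36.R0.comap (glEquiv (phi5 hF) 3).toMonoidHom) = 3 ^ 3 := by
    rw [card_comap_equiv, Q5.S36.card_R0]
    norm_num
  have hnd : ¬ 3 ^ (3 + 1) ∣ Nat.card ↥(SUg 3 F 5) := by
    rw [card_SUg5 hF]
    norm_num
  have h1 := HasOver.pull hF Q5.card_K (phi5 hF) Q5.S36.hasOver_nR
  have h3 := HasOver.sylow (SUg 3 F 5) 3 3 (by norm_num) _ _ hP₀ hP hc₀ hc hnd h1
  refine h3.notMax _ inf_le_right (fun x hx => ?_)
  intro y hy
  exact (Subgroup.mem_normalizer_iff.1 hx.1 y).1 hy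

end nonmax

section row
variable {F : Type*} [Field F] [Fintype F]

theorem fac3 {t k : ℕ} (ht : 2 ≤ t) (hk : 0 < k) (htk : t * k = 3) : t = 3 ∧ k = 1 := by
  have h1 : t ≤ 3 := Nat.le_of_dvd (by norm_num) ⟨k, htk.symm⟩
  interval_cases t <;> omega

theorem c6_arith3 {p e : ℕ} (hp : p.Prime) (h3p : 3 ≠ p) (hev : ∃ j, e = 2 * j ∧ 0 < j)
    (hdiv : e ∣ 3 - 1) (hmin : ∀ d : ℕ, 0 < d → d < e → ¬ 3 ∣ p ^ d - 1) :
    e = 2 ∧ p % 3 = 2 := by
  obtain ⟨j, hej, hj0⟩ := hev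
  have he2 : e ≤ 2 := Nat.le_of_dvd (by norm_num) hdiv
  have he : e = 2 := by omega
  refine ⟨he, ?_⟩
  have h1 := hmin 1 (by norm_num) (by omega)
  rw [pow_one] at h1
  have hp2 := hp.two_le
  have h0 : p % 3 ≠ 0 := by
    intro h
    have h3 : 3 ∣ p := Nat.dvd_of_mod_eq_zero h
    exact h3p ((Nat.prime_dvd_prime_iff_eq Nat.prime_three hp).1 h3)
  have h1' : p % 3 ≠ 1 := by
    intro h
    apply h1
    omega
  omega

theorem row3 (q : ℕ) (hF : Fintype.card F = q ^ 2) (hq : 3 ≤ q)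
    (H : Subgroup (Matrix.GeneralLinearGroup (Fin 3) F))
    (hH : Cfsg.Geo.IsMaximalIn (Cfsg.GU 3 F q ⊓ Cfsg.Geo.specialLinear (Fin 3) F) H)
    (hA : (∃ M : Subgroup (Matrix.GeneralLinearGroup (Fin 3) F), Cfsg.Geo.InUnitaryClass 3 F q M ∧ H ≤ M) ∨ Cfsg.Geo.InUnitaryResidualClass H) :
    (∃ W : Submodule F (Fin 3 → F), W ≠ ⊥ ∧ Cfsg.Geo.IsTotallySingularFor (Cfsg.hermForm 3 F q) W ∧ H = Cfsg.Geo.subspaceStabilizer W ⊓ (Cfsg.GU 3 F q ⊓ Cfsg.Geo.specialLinear (Fin 3) F)) ∨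
    (∃ W : Submodule F (Fin 3 → F), W ≠ ⊥ ∧ Cfsg.Geo.IsNondegenerateOn (Cfsg.hermForm 3 F q) W ∧ 2 * Module.finrank F W < 3 ∧ H = Cfsg.Geo.subspaceStabilizer W ⊓ (Cfsg.GU 3 F q ⊓ Cfsg.Geo.specialLinear (Fin 3) F)) ∨
    (q ≠ 5 ∧ ∃ D : Fin 3 → Submodule F (Fin 3 → F), Cfsg.Geo.IsNondegenerateMDecomposition (Cfsg.hermForm 3 F q) 1 D ∧ H = Cfsg.Geo.decompositionStabilizer D ⊓ (Cfsg.GU 3 F q ⊓ Cfsg.Geo.specialLinear (Fin 3) F)) ∨
    (q ≠ 3 ∧ q ≠ 5 ∧ ∃ K : Subalgebra F (Matrix (Fin 3) (Fin 3) F), Cfsg.Geo.IsFieldSubalgebra 3 K ∧ Cfsg.Geo.IsAdjointClosedFor (Cfsg.hermForm 3 F q) K ∧ H = Cfsg.Geo.subalgebraNormalizer K ⊓ (Cfsg.GU 3 F q ⊓ Cfsg.Geo.specialLinear (Fin 3) F)) ∨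
    (∃ (F₀ : Subfield F) (r : ℕ) (P : Matrix.GeneralLinearGroup (Fin 3) F), r.Prime ∧ Odd r ∧ Fintype.card F = Nat.card F₀ ^ r ∧ Cfsg.Geo.IsFormRationalStructure (Cfsg.hermForm 3 F q) F₀ 1 P ∧ H = Cfsg.Geo.subfieldSubgroup F₀ P ⊓ (Cfsg.GU 3 F q ⊓ Cfsg.Geo.specialLinear (Fin 3) F)) ∨
    (Odd q ∧ 7 ≤ q ∧ ∃ (F₀ : Subfield F) (P : Matrix.GeneralLinearGroup (Fin 3) F), Fintype.card F = Nat.card F₀ ^ 2 ∧ Cfsg.Geo.IsFormRationalStructure (Cfsg.hermForm 3 F q) F₀ 1 P ∧ H = Cfsg.Geo.subfieldSubgroup F₀ P ⊓ (Cfsg.GU 3 F q ⊓ Cfsg.Geo.specialLinear (Fin 3) F)) ∨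
    (∃ (p : ℕ) (R : Subgroup (Matrix.GeneralLinearGroup (Fin 3) F)), p.Prime ∧ q = p ∧ p % 3 = 2 ∧ 11 ≤ p ∧ Cfsg.Geo.IsSymplecticTypeGroup 3 R ∧ Cfsg.Geo.ActsAbsolutelyIrreducibly (Cfsg.Geo.matrixSet R) ∧ R ≤ Cfsg.Geo.similarityGroup (Cfsg.hermForm 3 F q) ∧ Nat.card R = 27 ∧ Nat.card (Subgroup.center R) = 3 ∧ H = Cfsg.Geo.subgroupNormalizer R ⊓ (Cfsg.GU 3 F q ⊓ Cfsg.Geo.specialLinear (Fin 3) F)) ∨
    Cfsg.Geo.InUnitaryResidualClass H := by
  classical
  have hq0 := q_ne_zero hF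
  rcases hA with ⟨M, hM, hle⟩ | hres
  swap
  · iterate 7 right
    exact hres
  rcases hM with (⟨W, h0, hts, rfl⟩ | ⟨W, h0, hnd, hlt, rfl⟩ | ⟨t, k, D, hD, rfl⟩ |
    ⟨k, D, h2k, hD, hts, rfl⟩ | ⟨F₀, r, P, hr, hodd, hcard, hrat, rfl⟩ |
    ⟨F₀, P, hodd, hcard, hrat, rfl⟩ | ⟨F₀, P, ζ, hev, hcard, hζ0, hζ, hrat, hiso, rfl⟩ |
    ⟨r, R, p, e, k, hR, hirr, hsim, hrp, hmin, hcase, rfl⟩) |
    ⟨r, K, hr, hodd, hK, hadj, rfl⟩ | ⟨n₁, n₂, e, P, f₁, f₂, h1, h2, hf₁, hf₂, hT, rfl⟩ |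
    ⟨k, t, e, P, f₁, hk, ht, hqk, hf₁, hT, rfl⟩
  · left
    have h1 : W ≠ ⊤ := by
      rintro rfl
      have := hts (Pi.single 0 1) Submodule.mem_top (Pi.single 0 1) Submodule.mem_top
      rw [herm_single_single 3 _ _ hq0, if_pos rfl] at this
      exact one_ne_zero this
    exact ⟨W, h0, hts, MaxC.eq_inf_of_le hH (hle.trans inf_le_left)
      (not_le_stab hF (by norm_num) W h0 h1)⟩
  · right; left
    have h1 : W ≠ ⊤ := by
      rintro rfl
      rw [finrank_top, Module.finrank_fin_fun] at hlt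
      omega
    exact ⟨W, h0, hnd, hlt, MaxC.eq_inf_of_le hH (hle.trans inf_le_left)
      (not_le_stab hF (by norm_num) W h0 h1)⟩
  · right; right; left
    have hcard : t * k = 3 := Cfsg.Agent.Lib.Helper5.LinDecompForm.card_eq hD.decomp
    obtain ⟨rfl, rfl⟩ := fac3 hD.decomp.two_le hD.decomp.pos hcard
    refine ⟨?_, D, hD, MaxC.eq_inf_of_le hH (hle.trans inf_le_left)
      (not_le_decomp_nondeg' hF hq hD)⟩
    rintro rfl
    exact MaxC.false_of_between hH (hle.trans inf_le_left) (frame_between5 hF hD)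
  · exfalso
    omega
  · iterate 4 right
    left
    exact ⟨F₀, r, P, hr, hodd, hcard, hrat, MaxC.eq_inf_of_le hH (hle.trans inf_le_left)
      (not_le_subfield3 hF F₀ (MaxC.subfield_ne_top F₀ hr hcard) P)⟩
  · iterate 5 right
    left
    refine ⟨hodd, ?_, F₀, P, hcard, hrat, MaxC.eq_inf_of_le hH (hle.trans inf_le_left)
      (not_le_subfield3 hF F₀ (MaxC.subfield_ne_top F₀ Nat.prime_two hcard) P)⟩
    by_contra h7
    have hq35 : q = 3 ∨ q = 5 := by
      rcases hodd with ⟨j, hj⟩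
      omega
    rcases hq35 with rfl | rfl
    · exact MaxC.false_of_between hH (hle.trans inf_le_left)
        (subfield_between3 hF F₀ P hcard hrat)
    · exact MaxC.false_of_between hH (hle.trans inf_le_left)
        (subfield_between5 hF F₀ P hcard hrat)
  · exfalso
    rcases hev with ⟨j, hj⟩
    omega
  · have hpar := class6_params hF (by norm_num) hR hirr hrp hmin hcase
    obtain ⟨hnk, hp, hchar, hcase'⟩ := hpar
    have hr3 : r = 3 := by
      have h3 : (3 : ℕ) ∣ r ^ k := by rw [← hnk]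
      exact (MaxC.prime_eq_of_dvd_pow hR.prime (by norm_num) h3).symm
    subst hr3
    have hk1 : k = 1 := by
      rcases k with _ | _ | k
      · norm_num at hnk
      · rfl
      · exfalso
        have : 3 ^ 2 ≤ 3 ^ (k + 1 + 1) := Nat.pow_le_pow_right (by norm_num) (by omega)
        omega
    subst hk1
    rcases hcase' with ⟨-, hZ, hRc, hev, hdiv, hd1, hmin'⟩ | ⟨h2, -⟩
    · obtain ⟨j, hej, hqj, hj0⟩ := hev
      obtain ⟨he, hp3⟩ := c6_arith3 hp hrp ⟨j, hej, hj0⟩ hdiv hmin'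
      have hj1 : j = 1 := by omega
      subst hj1
      rw [pow_one] at hqj
      subst hqj
      have hRc' : Nat.card R = 27 := hRc.trans (by norm_num)
      iterate 6 right
      left
      refine ⟨q, R, hp, rfl, hp3, ?_, hR, hirr, hsim, hRc', hZ,
        MaxC.eq_inf_of_le hH (hle.trans inf_le_left)
        (not_le_class6 hF (by norm_num) (by omega) hR hirr hsim hp hchar hrp)⟩
      by_contra h11
      have hq5 : q = 5 := by
        have h3 : q < 11 := by omega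
        interval_cases q <;> first | rfl | omega | (exfalso; exact absurd hp (by norm_num))
      subst hq5
      exact MaxC.false_of_between hH (hle.trans inf_le_left)
        (class6_between5 hF R hR hirr hsim hRc' hZ)
    · omega
  · have hr3 : r = 3 :=
      (Nat.prime_dvd_prime_iff_eq hr (by norm_num)).1 (MaxC.dvd_of_fieldSubalgebra hr.pos hK)
    subst hr3
    iterate 3 right
    left
    refine ⟨?_, ?_, K, hK, hadj, MaxC.eq_inf_of_le hH (hle.trans inf_le_left)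
      (not_le_fieldNormalizer hF (by norm_num) (by norm_num) hK)⟩
    · rintro rfl
      exact MaxC.false_of_between hH (hle.trans inf_le_left) (field_between3 hF K hK hadj)
    · rintro rfl
      exact MaxC.false_of_between hH (hle.trans inf_le_left) (field_between5 hF K hK hadj)
  · exfalso
    have hcard : n₁ * n₂ = 3 := by
      have := Fintype.card_congr e
      rw [Fintype.card_fin, Fintype.card_prod, Fintype.card_fin, Fintype.card_fin] at this
      exact this.symm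
    have h6 : 2 * 3 ≤ n₁ * n₂ := Nat.mul_le_mul h1 (by omega)
    omega
  · exfalso
    have hcard : k ^ t = 3 := by
      have := Fintype.card_congr e
      rw [Fintype.card_fin, Fintype.card_fun, Fintype.card_fin, Fintype.card_fin] at this
      exact this.symm
    have h9 := MaxC.nine_le_pow hk ht
    omega

end row

end Cfsg.Agent.Lib.Helper3.SU3
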