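/-
Farm SW (S3211), hedge for the D-in half of unit D (helper3): inside `L = L₁ L₂` the element `a * b`
(`a ∈ L₁`, `b ∈ L₂`, `a² = b² = j`) has at most four square roots.
-/
import Mathlib
import Cfsg.Agent.Lib.Lead.SWDefs
import Cfsg.Agent.Lib.Helper4.CentProd1

set_option autoImplicit false

namespace Cfsg.Agent.Lib.Helper3.SWDin

open Cfsg.Agent.Lib.Lead.SWD

variable {G : Type*} [Group G]

theorem j_sq {L₁ L₂ : Subgroup G} {j n : G} (S : Setting L₁ L₂ j n) : j * j = 1 := by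
  have := pow_orderOf_eq_one j
  rw [S.hj, pow_two] at this
  exact this

theorem j_inv {L₁ L₂ : Subgroup G} {j n : G} (S : Setting L₁ L₂ j n) : j⁻¹ = j :=
  inv_eq_of_mul_eq_one_left (j_sq S)

theorem mem_zpowers_j {L₁ L₂ : Subgroup G} {j n : G} (S : Setting L₁ L₂ j n) {z : G}
    (hz : z ∈ Subgroup.zpowers j) : z = 1 ∨ z = j := by
  obtain ⟨k, rfl⟩ := hz
  have hj2 : j ^ (2 : ℤ) = 1 := by
    have := pow_orderOf_eq_one j
    rw [S.hj] at this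
    exact_mod_cast this
  obtain ⟨m, rfl | rfl⟩ := Int.even_or_odd' k
  · left
    show j ^ (2 * m) = 1
    rw [zpow_mul, hj2, one_zpow]
  · right
    show j ^ (2 * m + 1) = j
    rw [zpow_add, zpow_mul, hj2, one_zpow, one_mul, zpow_one]

theorem comm_j {L₁ L₂ : Subgroup G} {j n : G} (S : Setting L₁ L₂ j n) {x : G} (hx : x ∈ L₁ ⊔ L₂) :
    j * x = x * j :=
  (Subgroup.mem_centralizer_iff.1 (S.hle hx)) j rfl

/-- the shape of a square root of `a * b` inside `L₁ L₂` -/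
theorem form {L₁ L₂ : Subgroup G} {j n : G} (S : Setting L₁ L₂ j n) (a b : G) (ha : a ∈ L₁)
    (hb : b ∈ L₂) {r : G} (hr : r ∈ L₁ ⊔ L₂) (hr2 : r ^ 2 = a * b) :
    ∃ u ∈ L₁, ∃ v ∈ L₂, r = u * v ∧
      ((u ^ 2 = a ∧ v ^ 2 = b) ∨ (u ^ 2 = a * j ∧ v ^ 2 = b * j)) := by
  obtain ⟨u, hu, v, hv, rfl⟩ :=
    Cfsg.Agent.Lib.Helper4.CentProd.exists_mul_of_mem_sup L₁ L₂ S.hc hr
  refine ⟨u, hu, v, hv, rfl, ?_⟩
  have huv : u * v = v * u := S.hc u hu v hv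
  have h1 : u ^ 2 * v ^ 2 = a * b := by
    rw [← hr2, pow_two, pow_two, pow_two]
    calc u * u * (v * v) = u * (u * v) * v := by group
      _ = u * (v * u) * v := by rw [huv]
      _ = u * v * (u * v) := by group
  have hz : a⁻¹ * u ^ 2 = b * (v ^ 2)⁻¹ := by
    have : u ^ 2 = a * b * (v ^ 2)⁻¹ := by rw [← h1]; group
    rw [this]; group
  have hz1 : a⁻¹ * u ^ 2 ∈ L₁ := L₁.mul_mem (L₁.inv_mem ha) (L₁.pow_mem hu 2)
  have hz2 : a⁻¹ * u ^ 2 ∈ L₂ := by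
    rw [hz]; exact L₂.mul_mem hb (L₂.inv_mem (L₂.pow_mem hv 2))
  have hzj : a⁻¹ * u ^ 2 ∈ Subgroup.zpowers j := by
    rw [← S.hm]; exact ⟨hz1, hz2⟩
  have hu2 : u ^ 2 = a * (a⁻¹ * u ^ 2) := by group
  have hv2 : v ^ 2 = (b * (v ^ 2)⁻¹)⁻¹ * b := by group
  rcases mem_zpowers_j S hzj with h | h
  · left
    constructor
    · rw [hu2, h, mul_one]
    · rw [hv2, ← hz, h, inv_one, one_mul]
  · right
    constructor
    · rw [hu2, h]
    · rw [hv2, ← hz, h, j_inv S, comm_j S (Subgroup.mem_sup_right hb)]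

/-- two square roots of the same shape differ by `j` -/
theorem same {L₁ L₂ : Subgroup G} {j n : G} (S : Setting L₁ L₂ j n) (Q2 : QLike L₂ j)
    {c e u v u' v' : G} (hu : u ∈ L₁) (hv : v ∈ L₂) (hu' : u' ∈ L₁) (hv' : v' ∈ L₂)
    (huc : u ^ 2 = c) (hu'c : u' ^ 2 = c) (hve : v ^ 2 = e) (hv'e : v' ^ 2 = e)
    (hc2 : c ^ 2 = j) (he2 : e ^ 2 = j) :
    u' * v' = u * v ∨ u' * v' = u * v * j := by
  have hjv : j * v = v * j := comm_j S (Subgroup.mem_sup_right hv)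
  have hjj : j * j = 1 := j_sq S
  rcases S.q1.sqrt4 u hu u' hu' (by rw [huc, hu'c]) (by rw [huc, hc2]) with h | h <;>
  rcases Q2.sqrt4 v hv v' hv' (by rw [hve, hv'e]) (by rw [hve, he2]) with h' | h'
  · left; rw [h, h']
  · right; rw [h, h', mul_assoc]
  · right; rw [h, h', mul_assoc, hjv, mul_assoc]
  · left
    rw [h, h']
    calc u * j * (v * j) = u * (j * v) * j := by group
      _ = u * (v * j) * j := by rw [hjv]
      _ = u * v * (j * j) := by group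
      _ = u * v := by rw [hjj, mul_one]

theorem ncard_le_two {s : Set G} {j : G} (h : ∀ r ∈ s, ∀ r' ∈ s, r' = r ∨ r' = r * j) :
    s.ncard ≤ 2 := by
  rcases s.eq_empty_or_nonempty with rfl | ⟨r, hr⟩
  · simp
  · have hsub : s ⊆ {r, r * j} := fun r' hr' => by
      rcases h r hr r' hr' with h | h <;> simp [h]
    calc s.ncard ≤ ({r, r * j} : Set G).ncard := Set.ncard_le_ncard hsub (Set.toFinite _)
      _ ≤ ({r * j} : Set G).ncard + 1 := Set.ncard_insert_le _ _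
      _ = 2 := by rw [Set.ncard_singleton]

theorem sq_mul_j {L₁ L₂ : Subgroup G} {j n : G} (S : Setting L₁ L₂ j n) {a : G} (ha : a ∈ L₁ ⊔ L₂)
    (ha2 : a ^ 2 = j) : (a * j) ^ 2 = j := by
  have hja : j * a = a * j := comm_j S ha
  have hjj : j * j = 1 := j_sq S
  calc (a * j) ^ 2 = a * (j * a) * j := by rw [pow_two]; group
    _ = a * (a * j) * j := by rw [hja]
    _ = a ^ 2 * (j * j) := by rw [pow_two]; group
    _ = j := by rw [hjj, mul_one, ha2]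

/-- D-in: at most four square roots of `a * b` inside `L₁ L₂` -/
theorem upper_in [Finite G] {L₁ L₂ : Subgroup G} {j n : G} (S : Setting L₁ L₂ j n) (Q2 : QLike L₂ j)
    (a b : G) (ha : a ∈ L₁) (hb : b ∈ L₂) (ha2 : a ^ 2 = j) (hb2 : b ^ 2 = j) :
    Nat.card {r : G // r ^ 2 = a * b ∧ r ∈ L₁ ⊔ L₂} ≤ 4 := by
  set T1 : Set G := {r | ∃ u ∈ L₁, ∃ v ∈ L₂, r = u * v ∧ u ^ 2 = a ∧ v ^ 2 = b} with hT1
  set T2 : Set G := {r | ∃ u ∈ L₁, ∃ v ∈ L₂, r = u * v ∧ u ^ 2 = a * j ∧ v ^ 2 = b * j} with hT2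
  have hsub : {r : G | r ^ 2 = a * b ∧ r ∈ L₁ ⊔ L₂} ⊆ T1 ∪ T2 := by
    rintro r ⟨hr2, hr⟩
    obtain ⟨u, hu, v, hv, rfl, h | h⟩ := form S a b ha hb hr hr2
    · left; exact ⟨u, hu, v, hv, rfl, h.1, h.2⟩
    · right; exact ⟨u, hu, v, hv, rfl, h.1, h.2⟩
  have haj : (a * j) ^ 2 = j := sq_mul_j S (Subgroup.mem_sup_left ha) ha2
  have hbj : (b * j) ^ 2 = j := sq_mul_j S (Subgroup.mem_sup_right hb) hb2
  have h1 : T1.ncard ≤ 2 := ncard_le_two (j := j) (by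
    rintro r ⟨u, hu, v, hv, rfl, hua, hvb⟩ r' ⟨u', hu', v', hv', rfl, hu'a, hv'b⟩
    exact same S Q2 hu hv hu' hv' hua hu'a hvb hv'b ha2 hb2)
  have h2 : T2.ncard ≤ 2 := ncard_le_two (j := j) (by
    rintro r ⟨u, hu, v, hv, rfl, hua, hvb⟩ r' ⟨u', hu', v', hv', rfl, hu'a, hv'b⟩
    exact same S Q2 hu hv hu' hv' hua hu'a hvb hv'b haj hbj)
  calc Nat.card {r : G // r ^ 2 = a * b ∧ r ∈ L₁ ⊔ L₂}
      = Set.ncard {r : G | r ^ 2 = a * b ∧ r ∈ L₁ ⊔ L₂} := Nat.card_coe_set_eq _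
    _ ≤ (T1 ∪ T2).ncard := Set.ncard_le_ncard hsub (Set.toFinite _)
    _ ≤ T1.ncard + T2.ncard := Set.ncard_union_le _ _
    _ ≤ 4 := by omega

end Cfsg.Agent.Lib.Helper3.SWDin
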