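/-
Farm SW (S3211), unit SL2b (helper3): all elements `x` of `SL₂(F)` with `x² = -1` are conjugate
(`F` a finite field of odd order).  Explicit: `x = !![a, b; c, -a]`, `a² + bc = -1`; for every `(p, q)` the matrix
`g = !![p, q; -(pa + qc), qa - pb]` satisfies `g x = W g`, `W = !![0, -1; 1, 0]`, and `det g = -b p² + 2a pq + c q²`
is a nondegenerate binary form, which represents `1` (sum of two squares in a finite field).
-/
import Mathlib

set_option autoImplicit false

namespace Cfsg.Agent.Lib.Helper3.SWSL2b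

open Matrix

variable {F : Type*} [Field F]

theorem two_ne_zero_of_odd [Fintype F] (hodd : Odd (Fintype.card F)) : (2 : F) ≠ 0 := by
  intro h2
  have hchar : ringChar F = 2 :=
    CharP.ringChar_of_prime_eq_zero Nat.prime_two (by exact_mod_cast h2)
  have := FiniteField.even_card_of_char_two hchar
  rcases hodd with ⟨k, hk⟩
  omega

/-- entries of a 2x2 matrix with `x² = -1`, `det x = 1` -/
theorem entries {a b c d : F} (h : (!![a, b; c, d] : Matrix (Fin 2) (Fin 2) F) ^ 2 = -1)
    (hdet : a * d - b * c = 1) : d = -a ∧ a * a + b * c = -1 := by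
  have h00 := congrFun (congrFun h 0) 0
  have h01 := congrFun (congrFun h 0) 1
  have h10 := congrFun (congrFun h 1) 0
  have h11 := congrFun (congrFun h 1) 1
  simp [pow_two, Matrix.mul_apply, Fin.sum_univ_two] at h00 h01 h10 h11
  have hb : b * (a + d) = 0 := by linear_combination h01
  have hc : c * (a + d) = 0 := by linear_combination h10
  by_cases hs : a + d = 0
  · exact ⟨by linear_combination hs, h00⟩
  · exfalso
    have hb0 : b = 0 := (mul_eq_zero.1 hb).resolve_right hs
    have hc0 : c = 0 := (mul_eq_zero.1 hc).resolve_right hs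
    subst hb0 hc0
    have : (a + d) * (a + d) = 0 := by linear_combination h00 + h11 + 2 * hdet
    exact hs (mul_self_eq_zero.1 this)

theorem exists_sq_add_sq [Fintype F] (hodd : Odd (Fintype.card F)) (t : F) :
    ∃ u v : F, u * u + v * v = t := by
  have hR : Fintype.card F % 2 = 1 := Nat.odd_iff.1 hodd
  have hf : (Polynomial.X ^ 2 : Polynomial F).degree = 2 := by
    simp
  have hg : (Polynomial.X ^ 2 + Polynomial.C (-t) : Polynomial F).degree = 2 := by
    simpa using Polynomial.degree_X_pow_add_C (R := F) (n := 2) (by norm_num) (-t)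
  obtain ⟨u, v, huv⟩ := FiniteField.exists_root_sum_quadratic hf hg hR
  refine ⟨u, v, ?_⟩
  simp at huv
  linear_combination huv

theorem exists_rep [Fintype F] (hodd : Odd (Fintype.card F)) {a b c : F} (h : a * a + b * c = -1) :
    ∃ p q : F, p * (q * a - p * b) + q * (p * a + q * c) = 1 := by
  have h2 : (2 : F) ≠ 0 := two_ne_zero_of_odd hodd
  by_cases hb : b = 0
  · subst hb
    have ha : a ≠ 0 := by
      rintro rfl
      norm_num at h
    refine ⟨(1 - c) / (2 * a), 1, ?_⟩
    field_simp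
    ring
  · obtain ⟨u, v, huv⟩ := exists_sq_add_sq hodd (-b)
    have hbi : b * b⁻¹ = 1 := mul_inv_cancel₀ hb
    refine ⟨(u + a * v) * b⁻¹, v, ?_⟩
    linear_combination (b⁻¹ * v * v) * h - b⁻¹ * huv +
      (1 - c * v * v - (u + a * v) * (u + a * v) * b⁻¹) * hbi

/-- the standard element of order 4 -/
def W : Matrix.SpecialLinearGroup (Fin 2) F :=
  ⟨!![0, -1; 1, 0], by simp [Matrix.det_fin_two_of]⟩

theorem W_coe : ((W : Matrix.SpecialLinearGroup (Fin 2) F) : Matrix (Fin 2) (Fin 2) F) = !![0, -1; 1, 0] := rfl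

theorem conj_W [Fintype F] (hodd : Odd (Fintype.card F)) (x : Matrix.SpecialLinearGroup (Fin 2) F)
    (hx : x ^ 2 = -1) : ∃ g : Matrix.SpecialLinearGroup (Fin 2) F, g * x * g⁻¹ = W := by
  obtain ⟨a, b, c, d, hxe⟩ : ∃ a b c d : F, x.1 = !![a, b; c, d] :=
    ⟨_, _, _, _, Matrix.eta_fin_two x.1⟩
  have hdet : a * d - b * c = 1 := by
    have := x.2
    rw [hxe, Matrix.det_fin_two_of] at this
    exact this
  have hsq : (!![a, b; c, d] : Matrix (Fin 2) (Fin 2) F) ^ 2 = -1 := by
    have := congrArg Subtype.val hx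
    simpa [hxe] using this
  obtain ⟨rfl, h⟩ := entries hsq hdet
  obtain ⟨p, q, hpq⟩ := exists_rep hodd h
  have hg : (!![p, q; -(p * a + q * c), q * a - p * b] : Matrix (Fin 2) (Fin 2) F).det = 1 := by
    rw [Matrix.det_fin_two_of]
    linear_combination hpq
  obtain ⟨g, hgv⟩ : ∃ g : Matrix.SpecialLinearGroup (Fin 2) F,
      g.1 = !![p, q; -(p * a + q * c), q * a - p * b] := ⟨⟨_, hg⟩, rfl⟩
  refine ⟨g, ?_⟩
  rw [mul_inv_eq_iff_eq_mul]
  ext i j
  fin_cases i <;> fin_cases j
  · simp [W_coe, hxe, hgv, Matrix.mul_apply, Fin.sum_univ_two]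
  · simp [W_coe, hxe, hgv, Matrix.mul_apply, Fin.sum_univ_two]
    ring
  · simp [W_coe, hxe, hgv, Matrix.mul_apply, Fin.sum_univ_two]
    linear_combination (-p) * h
  · simp [W_coe, hxe, hgv, Matrix.mul_apply, Fin.sum_univ_two]
    linear_combination (-q) * h

/-- Unit SL2b of the farm SW: all elements of order 4 of `SL₂(F)`, `|F|` odd, are conjugate. -/
theorem sl2_conj4 {F : Type*} [Field F] [Fintype F] (hodd : Odd (Fintype.card F))
    (x y : Matrix.SpecialLinearGroup (Fin 2) F) (hx : x ^ 2 = -1) (hy : y ^ 2 = -1) :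
    ∃ g : Matrix.SpecialLinearGroup (Fin 2) F, g * x * g⁻¹ = y := by
  obtain ⟨g₁, h₁⟩ := conj_W hodd x hx
  obtain ⟨g₂, h₂⟩ := conj_W hodd y hy
  refine ⟨g₂⁻¹ * g₁, ?_⟩
  have : y = g₂⁻¹ * W * g₂ := by rw [← h₂]; group
  rw [this, ← h₁]
  group

end Cfsg.Agent.Lib.Helper3.SWSL2b
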