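import Mathlib
import Cfsg.Agent.Lib.Helper3.SelfDual1

/-!
# Self-dual coprime modules: splitting off a piece
-/

set_option autoImplicit false

namespace Cfsg.Agent.Lib.Helper3.SelfDual

open Module LinearMap

variable {F : Type*} [Field F] {G : Type*} [Group G] {V : Type*} [AddCommGroup V] [Module F V]

def FormInvOn (ρ : Representation F G V) (T : LinearMap.BilinForm F V) (H : Submodule F V) : Prop :=
  ∀ g : G, ∀ x ∈ H, ∀ y ∈ H, T (ρ g x) (ρ g y) = T x y

def NondegOn (T : LinearMap.BilinForm F V) (H : Submodule F V) : Prop :=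
  ∀ x ∈ H, (∀ y ∈ H, T x y = 0) → x = 0

def IsPiece (p : ℕ) (ρ : Representation F G V) (H : Submodule F V) : Prop :=
  (∃ A : LinearMap.BilinForm F V, (∀ x, A x x = 0) ∧ FormInvOn ρ A H ∧ NondegOn A H) ∨
  (∃ S : LinearMap.BilinForm F V, (∀ x y, S x y = S y x) ∧ FormInvOn ρ S H ∧ NondegOn S H ∧
    (p = 2 → ∀ g : G, ∀ h ∈ H, ρ g h = h))

theorem rho_cancel (ρ : Representation F G V) (g : G) (v : V) : ρ g (ρ g⁻¹ v) = v := by
  have : ρ g * ρ g⁻¹ = 1 := by rw [← map_mul, mul_inv_cancel, map_one]
  have h := LinearMap.congr_fun this v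
  simpa using h

theorem inv_orthogonal {ρ : Representation F G V} {B : LinearMap.BilinForm F V}
    (hBinv : ∀ g x y, B (ρ g x) (ρ g y) = B x y) {Y : Submodule F V} (hY : Inv ρ Y) :
    Inv ρ (B.orthogonal Y) := by
  intro g v hv
  rw [LinearMap.BilinForm.mem_orthogonal_iff] at hv ⊢
  intro n hn
  have h1 := hBinv g (ρ g⁻¹ n) v
  rw [rho_cancel] at h1
  rw [h1]
  exact hv _ (hY g⁻¹ n hn)

theorem flip_inv {ρ : Representation F G V} {B : LinearMap.BilinForm F V}
    (hBinv : ∀ g x y, B (ρ g x) (ρ g y) = B x y) :
    ∀ g x y, B.flip (ρ g x) (ρ g y) = B.flip x y := by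
  intro g x y
  simp only [LinearMap.BilinForm.flip_apply]
  exact hBinv g y x

/-- (P1) -/
theorem isCompl_orthogonal_of_rnondeg [FiniteDimensional F V] (B : LinearMap.BilinForm F V)
    (H : Submodule F V) (h : ∀ w ∈ H, (∀ y ∈ H, B y w = 0) → w = 0) :
    IsCompl H (B.orthogonal H) := by
  constructor
  · rw [Submodule.disjoint_def]
    intro x hx hxo
    rw [LinearMap.BilinForm.mem_orthogonal_iff] at hxo
    exact h x hx hxo
  · rw [codisjoint_iff, eq_top_iff]
    intro v _
    let f : Module.Dual F H := (B.flip v).comp H.subtype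
    obtain ⟨y, hy, hfy⟩ := exists_repr_right B H H h le_rfl f
    have h1 : v - y ∈ B.orthogonal H := by
      rw [LinearMap.BilinForm.mem_orthogonal_iff]
      intro n hn
      have := hfy ⟨n, hn⟩
      simp only [f, LinearMap.comp_apply, Submodule.subtype_apply,
        LinearMap.BilinForm.flip_apply] at this
      rw [map_sub, this, sub_self]
    have h2 : v = y + (v - y) := by abel
    rw [h2]
    exact Submodule.add_mem_sup hy h1

theorem minInv_inf_eq {ρ : Representation F G V} {X : Submodule F V} (hX : IsMinInv ρ X)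
    {K : Submodule F V} (hK : Inv ρ K) {x0 : V} (hx0 : x0 ∈ X) (hx0K : x0 ∉ K) : X ⊓ K = ⊥ := by
  rcases hX.2.2 (X ⊓ K) (hX.2.1.inf hK) inf_le_left with h | h
  · exact h
  · exfalso
    apply hx0K
    have : x0 ∈ X ⊓ K := by rw [h]; exact hx0
    exact this.2

theorem two_ne_zero_of_charP_ne_two (p : ℕ) [Fact p.Prime] [CharP F p] (hp : p ≠ 2) :
    (2 : F) ≠ 0 := by
  intro h
  have h1 : ((2 : ℕ) : F) = 0 := by exact_mod_cast h
  rw [CharP.cast_eq_zero_iff F p 2] at h1
  have := (Nat.prime_dvd_prime_iff_eq (Fact.out : p.Prime) Nat.prime_two).1 h1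
  exact hp this

/-- Case A: a minimal invariant submodule on which `B` does not vanish. -/
theorem piece_caseA [FiniteDimensional F V] (p : ℕ) [Fact p.Prime] [CharP F p]
    (ρ : Representation F G V) (B : LinearMap.BilinForm F V)
    (hBinv : ∀ g x y, B (ρ g x) (ρ g y) = B x y)
    {X : Submodule F V} (hX : IsMinInv ρ X) {a b : V} (ha : a ∈ X) (hb : b ∈ X)
    (hab : B a b ≠ 0) : IsCompl X (B.orthogonal X) ∧ IsPiece p ρ X := by
  have hXinv := hX.2.1
  have hr : ∀ w ∈ X, (∀ y ∈ X, B y w = 0) → w = 0 := by
    intro w hw hw0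
    have h1 : X ⊓ B.orthogonal X = ⊥ := by
      apply minInv_inf_eq hX (inv_orthogonal hBinv hXinv) hb
      intro hbo
      rw [LinearMap.BilinForm.mem_orthogonal_iff] at hbo
      exact hab (hbo a ha)
    have h2 : w ∈ X ⊓ B.orthogonal X :=
      ⟨hw, LinearMap.BilinForm.mem_orthogonal_iff.2 hw0⟩
    rw [h1, Submodule.mem_bot] at h2
    exact h2
  have hl : ∀ w ∈ X, (∀ y ∈ X, B w y = 0) → w = 0 := lnondeg_of_rnondeg B X hr
  have hc : IsCompl X (B.orthogonal X) := isCompl_orthogonal_of_rnondeg B X hr
  refine ⟨hc, ?_⟩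
  by_cases hsym : ∀ x ∈ X, ∀ y ∈ X, B x y = B y x
  · by_cases hp2 : p = 2
    · subst hp2
      set P := X.projection (B.orthogonal X) hc with hP
      have hPmem : ∀ v, P v ∈ X := fun v => Submodule.projection_apply_mem hc v
      have hPid : ∀ x ∈ X, P x = x := fun x hx => (Submodule.projection_eq_self_iff hc x).2 hx
      let T : LinearMap.BilinForm F V := B.compl₁₂ P P
      have hT : ∀ u v, T u v = B (P u) (P v) := fun u v => rfl
      have hTinv : FormInvOn ρ T X := by
        intro g x hx y hy
        rw [hT, hT, hPid _ (hXinv g x hx), hPid _ (hXinv g y hy), hPid x hx, hPid y hy]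
        exact hBinv g x y
      have hTnd : NondegOn T X := by
        intro x hx h0
        apply hl x hx
        intro y hy
        have := h0 y hy
        rwa [hT, hPid x hx, hPid y hy] at this
      by_cases halt : ∀ x ∈ X, B x x = 0
      · left
        exact ⟨T, fun x => by rw [hT]; exact halt _ (hPmem x), hTinv, hTnd⟩
      · right
        push Not at halt
        obtain ⟨x0, hx0, hx0ne⟩ := halt
        refine ⟨T, fun x y => by rw [hT, hT]; exact hsym _ (hPmem x) _ (hPmem y), hTinv, hTnd, ?_⟩
        intro _
        have h2 : (2 : F) = 0 := by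
          have := CharP.cast_eq_zero F 2
          exact_mod_cast this
        let K : Submodule F V :=
          { carrier := {x | x ∈ X ∧ B x x = 0}
            zero_mem' := ⟨X.zero_mem, by simp⟩
            add_mem' := by
              rintro x y ⟨hx, hxx⟩ ⟨hy, hyy⟩
              refine ⟨X.add_mem hx hy, ?_⟩
              simp only [map_add, LinearMap.add_apply]
              rw [hxx, hyy, hsym y hy x hx]
              linear_combination (B x y) * h2
            smul_mem' := by
              rintro c x ⟨hx, hxx⟩
              refine ⟨X.smul_mem c hx, ?_⟩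
              simp only [map_smul, LinearMap.smul_apply, smul_eq_mul]
              rw [hxx]; ring }
        have hKinv : Inv ρ K := by
          rintro g x ⟨hx, hxx⟩
          exact ⟨hXinv g x hx, by rw [hBinv]; exact hxx⟩
        have hKle : K ≤ X := fun x hx => hx.1
        have hKbot : K = ⊥ := by
          rcases hX.2.2 K hKinv hKle with h | h
          · exact h
          · exfalso
            have : x0 ∈ K := by rw [h]; exact hx0
            exact hx0ne this.2
        intro g h hh
        have hy : ρ g h - h ∈ K := by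
          refine ⟨X.sub_mem (hXinv g h hh) hh, ?_⟩
          simp only [map_sub, LinearMap.sub_apply]
          rw [hBinv, hsym h hh _ (hXinv g h hh)]
          linear_combination (B h h - B (ρ g h) h) * h2
        rw [hKbot, Submodule.mem_bot, sub_eq_zero] at hy
        exact hy
    · right
      have h2 : (2 : F) ≠ 0 := two_ne_zero_of_charP_ne_two p hp2
      refine ⟨B + B.flip, ?_, ?_, ?_, fun h => absurd h hp2⟩
      · intro x y
        simp only [LinearMap.add_apply, LinearMap.BilinForm.flip_apply]
        ring
      · intro g x _ y _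
        simp only [LinearMap.add_apply, LinearMap.BilinForm.flip_apply]
        rw [hBinv, hBinv]
      · intro x hx h0
        apply hl x hx
        intro y hy
        have := h0 y hy
        simp only [LinearMap.add_apply, LinearMap.BilinForm.flip_apply] at this
        rw [← hsym x hx y hy] at this
        have h3 : (2 : F) * B x y = 0 := by linear_combination this
        rcases mul_eq_zero.1 h3 with h | h
        · exact absurd h h2
        · exact h
  · left
    push Not at hsym
    obtain ⟨x0, hx0, y0, hy0, hne⟩ := hsym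
    set A0 : LinearMap.BilinForm F V := B - B.flip with hA0
    have hA0app : ∀ u v, A0 u v = B u v - B v u := by
      intro u v
      simp [hA0, LinearMap.sub_apply, LinearMap.BilinForm.flip_apply]
    have hA0inv : ∀ g x y, A0 (ρ g x) (ρ g y) = A0 x y := by
      intro g x y
      rw [hA0app, hA0app, hBinv, hBinv]
    refine ⟨A0, fun x => by rw [hA0app, sub_self], fun g x _ y _ => hA0inv g x y, ?_⟩
    intro x hx h0
    have h1 : X ⊓ A0.flip.orthogonal X = ⊥ := by
      apply minInv_inf_eq hX (inv_orthogonal (flip_inv hA0inv) hXinv) hx0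
      intro hbo
      rw [LinearMap.BilinForm.mem_orthogonal_iff] at hbo
      have := hbo y0 hy0
      rw [LinearMap.BilinForm.flip_apply, hA0app, sub_eq_zero] at this
      exact hne this
    have h2 : x ∈ X ⊓ A0.flip.orthogonal X := by
      refine ⟨hx, LinearMap.BilinForm.mem_orthogonal_iff.2 ?_⟩
      intro n hn
      rw [LinearMap.BilinForm.flip_apply]
      exact h0 n hn
    rw [h1, Submodule.mem_bot] at h2
    exact h2

end Cfsg.Agent.Lib.Helper3.SelfDual
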