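import Mathlib
import Cfsg.Agent.Lib.Helper3.SelfDual2

/-!
# Self-dual coprime modules: the totally isotropic case
-/

set_option autoImplicit false

namespace Cfsg.Agent.Lib.Helper3.SelfDual

open Module LinearMap

variable {F : Type*} [Field F] {G : Type*} [Group G] {V : Type*} [AddCommGroup V] [Module F V]

/-- trivial left kernel and `finrank Y ≤ finrank X` give trivial right kernel -/
theorem rker_of_lker (γ : LinearMap.BilinForm F V) (X Y : Submodule F V)
    [FiniteDimensional F X] [FiniteDimensional F Y]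
    (hl : ∀ x ∈ X, (∀ y ∈ Y, γ x y = 0) → x = 0) (hrank : finrank F Y ≤ finrank F X) :
    ∀ y ∈ Y, (∀ x ∈ X, γ x y = 0) → y = 0 := by
  intro w hw hw0
  by_contra hne
  have hne' : (⟨w, hw⟩ : Y) ≠ 0 := fun h0 => hne (congrArg Subtype.val h0)
  obtain ⟨f, hf⟩ : ∃ f : Module.Dual F Y, f ⟨w, hw⟩ ≠ 0 := by
    by_contra hcon
    push Not at hcon
    exact hne' ((Module.forall_dual_apply_eq_zero_iff F _).1 hcon)
  obtain ⟨x, hx, hfx⟩ := exists_repr_left γ Y X hl hrank f
  apply hf
  rw [hfx]
  exact hw0 x hx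

theorem compl_G1 (γ : LinearMap.BilinForm F V) (hl : ∀ v, (∀ w, γ v w = 0) → v = 0)
    (X X' : Submodule F V) (hc : IsCompl (γ.orthogonal X) X') :
    ∀ x ∈ X, (∀ y ∈ X', γ x y = 0) → x = 0 := by
  intro x hx h0
  apply hl
  intro w
  have hw : w ∈ γ.orthogonal X ⊔ X' := by rw [hc.sup_eq_top]; trivial
  obtain ⟨r, hr, y, hy, rfl⟩ := Submodule.mem_sup.1 hw
  rw [map_add, h0 y hy, add_zero]
  exact (LinearMap.BilinForm.mem_orthogonal_iff.1 hr) x hx

theorem compl_G2 (γ : LinearMap.BilinForm F V)
    (X X' : Submodule F V) (hc : IsCompl (γ.orthogonal X) X') :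
    ∀ y ∈ X', (∀ x ∈ X, γ x y = 0) → y = 0 := by
  intro y hy h0
  have : y ∈ γ.orthogonal X ⊓ X' := ⟨LinearMap.BilinForm.mem_orthogonal_iff.2 h0, hy⟩
  rw [hc.inf_eq_bot] at this
  simpa using this

def Good (ρ : Representation F G V) (B : LinearMap.BilinForm F V) (X Z : Submodule F V) : Prop :=
  Inv ρ Z ∧ (∀ x ∈ X, (∀ z ∈ Z, B x z = 0) → x = 0) ∧ (∀ z ∈ Z, (∀ x ∈ X, B x z = 0) → z = 0) ∧
    (∀ x ∈ X, (∀ z ∈ Z, B z x = 0) → x = 0)

theorem inv_move_right {ρ : Representation F G V} {B : LinearMap.BilinForm F V}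
    (hBinv : ∀ g x y, B (ρ g x) (ρ g y) = B x y) (g : G) (x y : V) :
    B x (ρ g y) = B (ρ g⁻¹ x) y := by
  have := hBinv g (ρ g⁻¹ x) y
  rw [rho_cancel] at this
  exact this

theorem inv_move_left {ρ : Representation F G V} {B : LinearMap.BilinForm F V}
    (hBinv : ∀ g x y, B (ρ g x) (ρ g y) = B x y) (g : G) (x y : V) :
    B (ρ g y) x = B y (ρ g⁻¹ x) := by
  have := hBinv g y (ρ g⁻¹ x)
  rw [rho_cancel] at this
  exact this

theorem exists_good [FiniteDimensional F V] [Finite G] [NeZero (Nat.card G : F)]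
    (ρ : Representation F G V) (B : LinearMap.BilinForm F V)
    (hBinv : ∀ g x y, B (ρ g x) (ρ g y) = B x y)
    (hl : ∀ v, (∀ w, B v w = 0) → v = 0) (hr : ∀ w, (∀ v, B v w = 0) → w = 0)
    {X : Submodule F V} (hX : IsMinInv ρ X) : ∃ Z, Good ρ B X Z := by
  have hXinv := hX.2.1
  have hRinv : Inv ρ (B.orthogonal X) := inv_orthogonal hBinv hXinv
  have hLinv : Inv ρ (B.flip.orthogonal X) := inv_orthogonal (flip_inv hBinv) hXinv
  obtain ⟨X', hX'inv, hc'⟩ := exists_inv_compl ρ hRinv
  obtain ⟨X'', hX''inv, hc''⟩ := exists_inv_compl ρ hLinv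
  have g1' := compl_G1 B hl X X' hc'
  have g2' := compl_G2 B X X' hc'
  have g3'' : ∀ x ∈ X, (∀ y ∈ X'', B y x = 0) → x = 0 := by
    have := compl_G1 B.flip (by simpa using hr) X X'' hc''
    simpa using this
  have g4'' : ∀ y ∈ X'', (∀ x ∈ X, B y x = 0) → y = 0 := by
    have := compl_G2 B.flip X X'' hc''
    simpa using this
  by_cases h1 : ∃ x0 ∈ X, x0 ∉ B.orthogonal X'
  · obtain ⟨x0, hx0, hx0n⟩ := h1
    have hK : X ⊓ B.orthogonal X' = ⊥ :=
      minInv_inf_eq hX (inv_orthogonal hBinv hX'inv) hx0 hx0n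
    refine ⟨X', hX'inv, g1', g2', ?_⟩
    intro x hx h0
    have : x ∈ X ⊓ B.orthogonal X' := ⟨hx, LinearMap.BilinForm.mem_orthogonal_iff.2 h0⟩
    rw [hK] at this
    simpa using this
  · push Not at h1
    have hz1 : ∀ y ∈ X', ∀ x ∈ X, B y x = 0 := fun y hy x hx =>
      LinearMap.BilinForm.mem_orthogonal_iff.1 (h1 x hx) y hy
    by_cases h2 : ∃ x0 ∈ X, x0 ∉ B.flip.orthogonal X''
    · obtain ⟨x0, hx0, hx0n⟩ := h2
      have hK : X ⊓ B.flip.orthogonal X'' = ⊥ :=
        minInv_inf_eq hX (inv_orthogonal (flip_inv hBinv) hX''inv) hx0 hx0n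
      have g1'' : ∀ x ∈ X, (∀ y ∈ X'', B x y = 0) → x = 0 := by
        intro x hx h0
        have : x ∈ X ⊓ B.flip.orthogonal X'' := by
          refine ⟨hx, LinearMap.BilinForm.mem_orthogonal_iff.2 ?_⟩
          intro n hn
          show B.flip n x = 0
          rw [LinearMap.BilinForm.flip_apply]
          exact h0 n hn
        rw [hK] at this
        simpa using this
      have hrank : finrank F X'' ≤ finrank F X := finrank_le_of_ker_left B X X'' g4''
      exact ⟨X'', hX''inv, g1'', rker_of_lker B X X'' g1'' hrank, g3''⟩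
    · push Not at h2
      have hz2 : ∀ x ∈ X, ∀ y ∈ X'', B x y = 0 := by
        intro x hx y hy
        have := LinearMap.BilinForm.mem_orthogonal_iff.1 (h2 x hx) y hy
        have h3 : B.flip y x = 0 := this
        rwa [LinearMap.BilinForm.flip_apply] at h3
      have hrank'' : finrank F X ≤ finrank F X'' := finrank_le_of_ker_right B X'' X g3''
      have hrank' : finrank F X ≤ finrank F X' := finrank_le_of_ker_left B X' X g1'
      let Z : Submodule F V :=
        { carrier := {z | ∃ y' ∈ X', ∃ y'' ∈ X'', z = y' + y'' ∧ ∀ x ∈ X, B x y' = B y'' x}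
          zero_mem' := ⟨0, X'.zero_mem, 0, X''.zero_mem, by simp, by simp⟩
          add_mem' := by
            rintro _ _ ⟨a', ha', a'', ha'', rfl, hrela⟩ ⟨b', hb', b'', hb'', rfl, hrelb⟩
            refine ⟨a' + b', X'.add_mem ha' hb', a'' + b'', X''.add_mem ha'' hb'', by abel, ?_⟩
            intro x hx
            simp only [map_add, LinearMap.add_apply]
            rw [hrela x hx, hrelb x hx]
          smul_mem' := by
            rintro c _ ⟨a', ha', a'', ha'', rfl, hrela⟩
            refine ⟨c • a', X'.smul_mem c ha', c • a'', X''.smul_mem c ha'', by rw [smul_add], ?_⟩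
            intro x hx
            simp only [map_smul, LinearMap.smul_apply]
            rw [hrela x hx] }
      have hZmem : ∀ y' ∈ X', ∀ y'' ∈ X'', (∀ x ∈ X, B x y' = B y'' x) → y' + y'' ∈ Z :=
        fun y' hy' y'' hy'' hrel => ⟨y', hy', y'', hy'', rfl, hrel⟩
      refine ⟨Z, ?_, ?_, ?_, ?_⟩
      · rintro g _ ⟨a', ha', a'', ha'', rfl, hrela⟩
        rw [map_add]
        refine hZmem _ (hX'inv g a' ha') _ (hX''inv g a'' ha'') ?_
        intro x hx
        rw [inv_move_right hBinv g x a', inv_move_left hBinv g x a'']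
        exact hrela _ (hXinv g⁻¹ x hx)
      · intro x hx h0
        apply g1' x hx
        intro y' hy'
        let f : Module.Dual F X := (B.flip y').comp X.subtype
        obtain ⟨y'', hy'', hf⟩ := exists_repr_left B X X'' g4'' hrank'' f
        have hz : y' + y'' ∈ Z := by
          refine hZmem y' hy' y'' hy'' ?_
          intro x1 hx1
          have := hf ⟨x1, hx1⟩
          simpa [f] using this
        have := h0 _ hz
        rw [map_add, hz2 x hx y'' hy'', add_zero] at this
        exact this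
      · rintro _ ⟨a', ha', a'', ha'', rfl, hrela⟩ h0
        have ha0 : a' = 0 := by
          apply g2' a' ha'
          intro x hx
          have := h0 x hx
          rw [map_add, hz2 x hx a'' ha'', add_zero] at this
          exact this
        have hb0 : a'' = 0 := by
          apply g4'' a'' ha''
          intro x hx
          rw [← hrela x hx, ha0, map_zero]
        rw [ha0, hb0, add_zero]
      · intro x hx h0
        apply g3'' x hx
        intro y'' hy''
        let f : Module.Dual F X := (B y'').comp X.subtype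
        obtain ⟨y', hy', hf⟩ := exists_repr_right B X X' g2' hrank' f
        have hz : y' + y'' ∈ Z := by
          refine hZmem y' hy' y'' hy'' ?_
          intro x1 hx1
          have := hf ⟨x1, hx1⟩
          simpa [f] using this.symm
        have := h0 _ hz
        rw [map_add, LinearMap.add_apply, hz1 y' hy' x hx, zero_add] at this
        exact this

end Cfsg.Agent.Lib.Helper3.SelfDual
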