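import Mathlib
import Cfsg.Agent.Lib.Helper3.SelfDual3

/-!
# Self-dual coprime modules: existence of a piece
-/

set_option autoImplicit false

namespace Cfsg.Agent.Lib.Helper3.SelfDual

open Module LinearMap

variable {F : Type*} [Field F] {G : Type*} [Group G] {V : Type*} [AddCommGroup V] [Module F V]

theorem piece_of_good [FiniteDimensional F V] (p : ℕ)
    (ρ : Representation F G V) (B : LinearMap.BilinForm F V)
    (hBinv : ∀ g x y, B (ρ g x) (ρ g y) = B x y)
    {X Z : Submodule F V} (hXinv : Inv ρ X) (hiso : ∀ a ∈ X, ∀ b ∈ X, B a b = 0)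
    (hZ : Good ρ B X Z) :
    Inv ρ (X ⊔ Z) ∧ IsCompl (X ⊔ Z) (B.orthogonal (X ⊔ Z)) ∧ IsPiece p ρ (X ⊔ Z) := by
  obtain ⟨hZinv, g1, g2, g3⟩ := hZ
  have hHinv : Inv ρ (X ⊔ Z) := hXinv.sup hZinv
  have hXZ : X ⊓ Z = ⊥ := by
    rw [eq_bot_iff]
    intro z hz
    have := g2 z hz.2 (fun x hx => hiso x hx z hz.1)
    simpa using this
  have hrn : ∀ w ∈ X ⊔ Z, (∀ y ∈ X ⊔ Z, B y w = 0) → w = 0 := by
    intro w hw h0
    obtain ⟨x, hx, z, hz, rfl⟩ := Submodule.mem_sup.1 hw
    have hz0 : z = 0 := by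
      apply g2 z hz
      intro x' hx'
      have := h0 x' (Submodule.mem_sup_left hx')
      rw [map_add, hiso x' hx' x hx, zero_add] at this
      exact this
    subst hz0
    have hx0 : x = 0 := by
      apply g3 x hx
      intro z' hz'
      have := h0 z' (Submodule.mem_sup_right hz')
      rwa [add_zero] at this
    rw [hx0, add_zero]
  have hc : IsCompl (X ⊔ Z) (B.orthogonal (X ⊔ Z)) := isCompl_orthogonal_of_rnondeg B _ hrn
  refine ⟨hHinv, hc, ?_⟩
  have hMinv : Inv ρ (B.orthogonal (X ⊔ Z)) := inv_orthogonal hBinv hHinv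
  have hcZ : IsCompl Z (X ⊔ B.orthogonal (X ⊔ Z)) := by
    constructor
    · rw [Submodule.disjoint_def]
      intro z hz hz'
      obtain ⟨x, hx, m, hm, hxm⟩ := Submodule.mem_sup.1 hz'
      have hm' : m ∈ X ⊔ Z := by
        have : m = z - x := by rw [← hxm]; abel
        rw [this]
        exact Submodule.sub_mem _ (Submodule.mem_sup_right hz) (Submodule.mem_sup_left hx)
      have hm0 : m = 0 := by
        have : m ∈ (X ⊔ Z) ⊓ B.orthogonal (X ⊔ Z) := ⟨hm', hm⟩
        rw [hc.inf_eq_bot] at this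
        simpa using this
      rw [hm0, add_zero] at hxm
      have : z ∈ X ⊓ Z := ⟨hxm ▸ hx, hz⟩
      rw [hXZ] at this
      simpa using this
    · rw [codisjoint_iff, ← sup_assoc, sup_comm Z X]
      exact hc.sup_eq_top
  set Q := Z.projection (X ⊔ B.orthogonal (X ⊔ Z)) hcZ with hQ
  have hQX : ∀ x ∈ X, Q x = 0 := fun x hx =>
    (Submodule.projection_apply_eq_zero_iff hcZ).2 (Submodule.mem_sup_left hx)
  have hQZ : ∀ z ∈ Z, Q z = z := fun z hz => (Submodule.projection_eq_self_iff hcZ z).2 hz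
  have hQeq : ∀ g v, Q (ρ g v) = ρ g (Q v) :=
    projection_equivariant ρ hcZ hZinv (hXinv.sup hMinv)
  let T : LinearMap.BilinForm F V := B.compl₁₂ LinearMap.id Q
  have hT : ∀ u v, T u v = B u (Q v) := fun u v => rfl
  let A : LinearMap.BilinForm F V := T - T.flip
  have hA : ∀ u v, A u v = B u (Q v) - B v (Q u) := by
    intro u v
    simp only [A, LinearMap.sub_apply, LinearMap.BilinForm.flip_apply, hT]
  left
  refine ⟨A, fun x => by rw [hA, sub_self], ?_, ?_⟩
  · intro g x _ y _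
    rw [hA, hA, hQeq, hQeq, hBinv, hBinv]
  · intro u hu h0
    obtain ⟨x, hx, z, hz, rfl⟩ := Submodule.mem_sup.1 hu
    have hQu : Q (x + z) = z := by rw [map_add, hQX x hx, hQZ z hz, zero_add]
    have hz0 : z = 0 := by
      apply g2 z hz
      intro x' hx'
      have := h0 x' (Submodule.mem_sup_left hx')
      rw [hA, hQX x' hx', hQu, map_zero, zero_sub, neg_eq_zero] at this
      exact this
    subst hz0
    have hx0 : x = 0 := by
      apply g1 x hx
      intro z' hz'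
      have := h0 z' (Submodule.mem_sup_right hz')
      rw [hA, hQu, map_zero, sub_zero, hQZ z' hz', add_zero] at this
      exact this
    rw [hx0, add_zero]

theorem exists_piece [FiniteDimensional F V] [Finite G] [NeZero (Nat.card G : F)]
    (p : ℕ) [Fact p.Prime] [CharP F p]
    (ρ : Representation F G V) (B : LinearMap.BilinForm F V)
    (hBinv : ∀ g x y, B (ρ g x) (ρ g y) = B x y)
    (hl : ∀ v, (∀ w, B v w = 0) → v = 0) (hr : ∀ w, (∀ v, B v w = 0) → w = 0)
    (hV : (⊤ : Submodule F V) ≠ ⊥) :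
    ∃ H : Submodule F V, H ≠ ⊥ ∧ Inv ρ H ∧ IsCompl H (B.orthogonal H) ∧ IsPiece p ρ H := by
  obtain ⟨X, -, hX⟩ := exists_minInv ρ (inv_top ρ) hV
  by_cases hiso : ∀ a ∈ X, ∀ b ∈ X, B a b = 0
  · obtain ⟨Z, hZ⟩ := exists_good ρ B hBinv hl hr hX
    obtain ⟨h1, h2, h3⟩ := piece_of_good p ρ B hBinv hX.2.1 hiso hZ
    refine ⟨X ⊔ Z, ?_, h1, h2, h3⟩
    intro h
    apply hX.1
    rw [eq_bot_iff, ← h]
    exact le_sup_left
  · push Not at hiso
    obtain ⟨a, ha, b, hb, hab⟩ := hiso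
    obtain ⟨h1, h2⟩ := piece_caseA p ρ B hBinv hX ha hb hab
    exact ⟨X, hX.1, hX.2.1, h1, h2⟩

end Cfsg.Agent.Lib.Helper3.SelfDual
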