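import Mathlib
import Cfsg.Agent.Lib.Helper3.SelfDual4

/-!
# Self-dual coprime modules: the induction
-/

set_option autoImplicit false

namespace Cfsg.Agent.Lib.Helper3.SelfDual

open Module LinearMap

universe u v w

variable {F : Type u} [Field F] {G : Type v} [Group G] {V : Type w} [AddCommGroup V] [Module F V]

def RelConcl (p : ℕ) (ρ : Representation F G V) (N : Submodule F V) : Prop :=
  ∃ U W : Submodule F V, Disjoint U W ∧ U ⊔ W = N ∧ Inv ρ U ∧ Inv ρ W ∧
    (∃ A : LinearMap.BilinForm F V, (∀ x, A x x = 0) ∧ FormInvOn ρ A U ∧ NondegOn A U) ∧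
    (∃ S : LinearMap.BilinForm F V, (∀ x y, S x y = S y x) ∧ FormInvOn ρ S W ∧ NondegOn S W) ∧
    (p = 2 → ∀ g : G, ∀ w ∈ W, ρ g w = w)

/-- the restricted representation on an invariant submodule -/
def subRep (ρ : Representation F G V) (N : Submodule F V) (hN : Inv ρ N) :
    Representation F G N where
  toFun g := (ρ g).restrict (hN g)
  map_one' := by ext; simp
  map_mul' x y := by ext; simp

theorem subRep_coe (ρ : Representation F G V) (N : Submodule F V) (hN : Inv ρ N) (g : G)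
    (n : N) : ((subRep ρ N hN g n : N) : V) = ρ g (n : V) := rfl

theorem relConcl_of_sub (p : ℕ) (ρ : Representation F G V) {N C : Submodule F V}
    (hN : Inv ρ N) (hc : IsCompl N C) (h : RelConcl p (subRep ρ N hN) ⊤) :
    RelConcl p ρ N := by
  obtain ⟨U', W', hd, hs, hU', hW', ⟨A', hA'alt, hA'inv, hA'nd⟩,
    ⟨S', hS'sym, hS'inv, hS'nd⟩, htriv⟩ := h
  set π := N.linearProjOfIsCompl C hc with hπ
  have hπN : ∀ n : N, π (n : V) = n := Submodule.linearProjOfIsCompl_apply_left hc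
  have hρ : ∀ g (n : N), ρ g (n : V) = ((subRep ρ N hN g n : N) : V) := fun g n => rfl
  refine ⟨U'.map N.subtype, W'.map N.subtype, ?_, ?_, ?_, ?_,
    ⟨A'.compl₁₂ π π, ?_, ?_, ?_⟩, ⟨S'.compl₁₂ π π, ?_, ?_, ?_⟩, ?_⟩
  · rw [disjoint_iff, ← Submodule.map_inf _ N.injective_subtype, hd.eq_bot, Submodule.map_bot]
  · rw [← Submodule.map_sup, hs, Submodule.map_subtype_top]
  · rintro g _ ⟨u, hu, rfl⟩
    exact ⟨subRep ρ N hN g u, hU' g u hu, rfl⟩
  · rintro g _ ⟨u, hu, rfl⟩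
    exact ⟨subRep ρ N hN g u, hW' g u hu, rfl⟩
  · intro x
    exact hA'alt _
  · rintro g _ ⟨x, hx, rfl⟩ _ ⟨y, hy, rfl⟩
    show A' (π (ρ g (N.subtype x))) (π (ρ g (N.subtype y))) = A' (π (N.subtype x)) (π (N.subtype y))
    simp only [Submodule.subtype_apply]
    rw [hρ, hρ, hπN, hπN, hπN, hπN]
    exact hA'inv g x hx y hy
  · rintro _ ⟨x, hx, rfl⟩ h0
    have : x = 0 := by
      apply hA'nd x hx
      intro y hy
      have := h0 (N.subtype y) ⟨y, hy, rfl⟩
      have h1 : A' (π (N.subtype x)) (π (N.subtype y)) = 0 := this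
      simp only [Submodule.subtype_apply] at h1
      rwa [hπN, hπN] at h1
    rw [this, map_zero]
  · intro x y
    exact hS'sym _ _
  · rintro g _ ⟨x, hx, rfl⟩ _ ⟨y, hy, rfl⟩
    show S' (π (ρ g (N.subtype x))) (π (ρ g (N.subtype y))) = S' (π (N.subtype x)) (π (N.subtype y))
    simp only [Submodule.subtype_apply]
    rw [hρ, hρ, hπN, hπN, hπN, hπN]
    exact hS'inv g x hx y hy
  · rintro _ ⟨x, hx, rfl⟩ h0
    have : x = 0 := by
      apply hS'nd x hx
      intro y hy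
      have := h0 (N.subtype y) ⟨y, hy, rfl⟩
      have h1 : S' (π (N.subtype x)) (π (N.subtype y)) = 0 := this
      simp only [Submodule.subtype_apply] at h1
      rwa [hπN, hπN] at h1
    rw [this, map_zero]
  · intro hp g _ ⟨x, hx, hxw⟩
    subst hxw
    simp only [Submodule.subtype_apply]
    rw [hρ, htriv hp g x hx]

theorem sumform (ρ : Representation F G V) {H N : Submodule F V} (hc : IsCompl H N)
    {H₁ N₁ : Submodule F V} (hH₁ : H₁ ≤ H) (hN₁ : N₁ ≤ N)
    (hH₁inv : Inv ρ H₁) (hN₁inv : Inv ρ N₁)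
    (T₁ T₂ : LinearMap.BilinForm F V)
    (h1inv : FormInvOn ρ T₁ H₁) (h1nd : NondegOn T₁ H₁)
    (h2inv : FormInvOn ρ T₂ N₁) (h2nd : NondegOn T₂ N₁) :
    ∃ T : LinearMap.BilinForm F V,
      ((∀ x, T₁ x x = 0) → (∀ x, T₂ x x = 0) → ∀ x, T x x = 0) ∧
      ((∀ x y, T₁ x y = T₁ y x) → (∀ x y, T₂ x y = T₂ y x) → ∀ x y, T x y = T y x) ∧
      FormInvOn ρ T (H₁ ⊔ N₁) ∧ NondegOn T (H₁ ⊔ N₁) := by
  set P := H.projection N hc with hP
  set P' := N.projection H hc.symm with hP'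
  have hPH : ∀ h ∈ H, P h = h := fun h hh => (Submodule.projection_eq_self_iff hc h).2 hh
  have hPN : ∀ n ∈ N, P n = 0 := fun n hn => (Submodule.projection_apply_eq_zero_iff hc).2 hn
  have hP'N : ∀ n ∈ N, P' n = n := fun n hn => (Submodule.projection_eq_self_iff hc.symm n).2 hn
  have hP'H : ∀ h ∈ H, P' h = 0 := fun h hh =>
    (Submodule.projection_apply_eq_zero_iff hc.symm).2 hh
  have hPs : ∀ h ∈ H₁, ∀ n ∈ N₁, P (h + n) = h := by
    intro h hh n hn
    rw [map_add, hPH h (hH₁ hh), hPN n (hN₁ hn), add_zero]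
  have hP's : ∀ h ∈ H₁, ∀ n ∈ N₁, P' (h + n) = n := by
    intro h hh n hn
    rw [map_add, hP'H h (hH₁ hh), hP'N n (hN₁ hn), zero_add]
  let T : LinearMap.BilinForm F V := T₁.compl₁₂ P P + T₂.compl₁₂ P' P'
  have hT : ∀ x y, T x y = T₁ (P x) (P y) + T₂ (P' x) (P' y) := fun x y => rfl
  refine ⟨T, ?_, ?_, ?_, ?_⟩
  · intro h1 h2 x
    rw [hT, h1, h2, add_zero]
  · intro h1 h2 x y
    rw [hT, hT, h1, h2]
  · intro g x hx y hy
    obtain ⟨h, hh, n, hn, rfl⟩ := Submodule.mem_sup.1 hx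
    obtain ⟨h', hh', n', hn', rfl⟩ := Submodule.mem_sup.1 hy
    rw [hT, hT, map_add (ρ g) h n, map_add (ρ g) h' n', hPs _ (hH₁inv g h hh) _ (hN₁inv g n hn),
      hPs _ (hH₁inv g h' hh') _ (hN₁inv g n' hn'), hP's _ (hH₁inv g h hh) _ (hN₁inv g n hn),
      hP's _ (hH₁inv g h' hh') _ (hN₁inv g n' hn'), hPs h hh n hn, hPs h' hh' n' hn',
      hP's h hh n hn, hP's h' hh' n' hn', h1inv g h hh h' hh', h2inv g n hn n' hn']
  · intro x hx h0
    obtain ⟨h, hh, n, hn, rfl⟩ := Submodule.mem_sup.1 hx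
    have hh0 : h = 0 := by
      apply h1nd h hh
      intro h' hh'
      have := h0 h' (Submodule.mem_sup_left hh')
      rw [hT, hPs h hh n hn, hP's h hh n hn, hPH h' (hH₁ hh'), hP'H h' (hH₁ hh'), map_zero,
        add_zero] at this
      exact this
    have hn0 : n = 0 := by
      apply h2nd n hn
      intro n' hn'
      have := h0 n' (Submodule.mem_sup_right hn')
      rw [hT, hPs h hh n hn, hP's h hh n hn, hPN n' (hN₁ hn'), hP'N n' (hN₁ hn'), map_zero,
        zero_add] at this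
      exact this
    rw [hh0, hn0, add_zero]

theorem isCompl_sup_left' {H N U₁ W₁ : Submodule F V} (hc : IsCompl H N)
    (hd : Disjoint U₁ W₁) (hs : U₁ ⊔ W₁ = N) : IsCompl (H ⊔ U₁) W₁ := by
  have hU : U₁ ≤ N := hs ▸ le_sup_left
  have hW : W₁ ≤ N := hs ▸ le_sup_right
  constructor
  · rw [Submodule.disjoint_def]
    intro v hv hvW
    obtain ⟨h, hh, u, hu, rfl⟩ := Submodule.mem_sup.1 hv
    have hhN : h ∈ N := by
      have : h = (h + u) - u := by abel
      rw [this]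
      exact N.sub_mem (hW hvW) (hU hu)
    have hh0 : h = 0 := by
      have : h ∈ H ⊓ N := ⟨hh, hhN⟩
      rw [hc.inf_eq_bot] at this
      simpa using this
    rw [hh0, zero_add] at hvW ⊢
    have : u ∈ U₁ ⊓ W₁ := ⟨hu, hvW⟩
    rw [hd.eq_bot] at this
    simpa using this
  · rw [codisjoint_iff, sup_assoc, hs]
    exact hc.sup_eq_top

end Cfsg.Agent.Lib.Helper3.SelfDual
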