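import Mathlib
import Cfsg.Agent.Lib.Helper3.SelfDual5

/-!
# Self-dual coprime modules: the main theorem
-/

set_option autoImplicit false

namespace Cfsg.Agent.Lib.Helper3.SelfDual

open Module LinearMap

universe u v w

variable {F : Type u} [Field F] {G : Type v} [Group G]

theorem main_aux [Finite G] [NeZero (Nat.card G : F)] (p : ℕ) [Fact p.Prime] [CharP F p] :
    ∀ n : ℕ, ∀ (V : Type w) [AddCommGroup V] [Module F V] [FiniteDimensional F V]
      (ρ : Representation F G V) (B : LinearMap.BilinForm F V), finrank F V = n →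
      (∀ g x y, B (ρ g x) (ρ g y) = B x y) → (∀ w, (∀ v, B v w = 0) → w = 0) →
      RelConcl p ρ ⊤ := by
  intro n
  induction n using Nat.strong_induction_on with
  | _ n ih =>
    intro V _ _ _ ρ B hn hBinv hr
    by_cases hV : (⊤ : Submodule F V) = ⊥
    · refine ⟨⊥, ⊥, disjoint_bot_left, by rw [hV, sup_bot_eq], inv_bot ρ, inv_bot ρ,
        ⟨0, fun x => rfl, ?_, ?_⟩, ⟨0, fun x y => rfl, ?_, ?_⟩, ?_⟩
      · intro g x _ y _; rfl
      · intro x hx _; simpa using hx
      · intro g x _ y _; rfl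
      · intro x hx _; simpa using hx
      · intro _ g w hw
        have : w = 0 := by simpa using hw
        rw [this, map_zero]
    · have hl : ∀ v, (∀ w, B v w = 0) → v = 0 := by
        intro v hv
        exact lnondeg_of_rnondeg B ⊤ (fun w _ h => hr w (fun y => h y trivial)) v trivial
          (fun y _ => hv y)
      obtain ⟨H, hH0, hHinv, hcH, hpiece⟩ := exists_piece p ρ B hBinv hl hr hV
      have hN'inv : Inv ρ (B.orthogonal H) := inv_orthogonal hBinv hHinv
      have hlt : finrank F (B.orthogonal H) < n := by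
        have h1 := Submodule.finrank_add_eq_of_isCompl hcH
        have h2 : 0 < finrank F H := by
          rw [Nat.pos_iff_ne_zero]
          intro h0
          exact hH0 (Submodule.finrank_eq_zero.1 h0)
        omega
      have hrel : RelConcl p ρ (B.orthogonal H) := by
        apply relConcl_of_sub p ρ hN'inv hcH.symm
        refine ih _ hlt (B.orthogonal H) (subRep ρ _ hN'inv)
          (B.compl₁₂ (B.orthogonal H).subtype (B.orthogonal H).subtype) rfl ?_ ?_
        · intro g x y
          show B (ρ g x) (ρ g y) = B x y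
          exact hBinv g x y
        · intro w hw
          apply Subtype.ext
          apply hr
          intro v
          have hv : v ∈ H ⊔ B.orthogonal H := by rw [hcH.sup_eq_top]; trivial
          obtain ⟨h, hh, m, hm, rfl⟩ := Submodule.mem_sup.1 hv
          rw [map_add, LinearMap.add_apply]
          have h1 : B h w = 0 := (LinearMap.BilinForm.mem_orthogonal_iff.1 w.2) h hh
          have h2 : B m w = 0 := hw ⟨m, hm⟩
          rw [h1, h2, add_zero]
      obtain ⟨U₁, W₁, hd, hs, hU₁, hW₁, ⟨A₁, hA₁alt, hA₁inv, hA₁nd⟩,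
        ⟨S₁, hS₁sym, hS₁inv, hS₁nd⟩, htriv⟩ := hrel
      have hU₁le : U₁ ≤ B.orthogonal H := hs ▸ le_sup_left
      have hW₁le : W₁ ≤ B.orthogonal H := hs ▸ le_sup_right
      rcases hpiece with ⟨AH, hAHalt, hAHinv, hAHnd⟩ | ⟨SH, hSHsym, hSHinv, hSHnd, hHtriv⟩
      · obtain ⟨T, hTalt, -, hTinv, hTnd⟩ := sumform ρ hcH le_rfl hU₁le hHinv hU₁ AH A₁
          hAHinv hAHnd hA₁inv hA₁nd
        have hc := isCompl_sup_left' hcH hd hs
        exact ⟨H ⊔ U₁, W₁, hc.disjoint, hc.sup_eq_top, hHinv.sup hU₁, hW₁,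
          ⟨T, hTalt hAHalt hA₁alt, hTinv, hTnd⟩, ⟨S₁, hS₁sym, hS₁inv, hS₁nd⟩, htriv⟩
      · obtain ⟨T, -, hTsym, hTinv, hTnd⟩ := sumform ρ hcH le_rfl hW₁le hHinv hW₁ SH S₁
          hSHinv hSHnd hS₁inv hS₁nd
        have hc := (isCompl_sup_left' hcH hd.symm (by rw [sup_comm]; exact hs)).symm
        refine ⟨U₁, H ⊔ W₁, hc.disjoint, hc.sup_eq_top, hU₁, hHinv.sup hW₁,
          ⟨A₁, hA₁alt, hA₁inv, hA₁nd⟩, ⟨T, hTsym hSHsym hS₁sym, hTinv, hTnd⟩, ?_⟩
        intro hp g w hw
        obtain ⟨h, hh, w₁, hw₁, rfl⟩ := Submodule.mem_sup.1 hw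
        rw [map_add, hHtriv hp g h hh, htriv hp g w₁ hw₁]

theorem main [Finite G] (p : ℕ) [Fact p.Prime] [CharP F p] (hcop : ¬ p ∣ Nat.card G)
    {V : Type w} [AddCommGroup V] [Module F V] [FiniteDimensional F V]
    (ρ : Representation F G V) (B : LinearMap.BilinForm F V) (hB : B.Nondegenerate)
    (hBinv : ∀ g x y, B (ρ g x) (ρ g y) = B x y) : RelConcl p ρ ⊤ := by
  have : NeZero (Nat.card G : F) := by
    constructor
    intro h
    rw [CharP.cast_eq_zero_iff F p] at h
    exact hcop h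
  exact main_aux p _ V ρ B rfl hBinv (fun w hw => hB.2 w hw)

end Cfsg.Agent.Lib.Helper3.SelfDual
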