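import Mathlib
import Cfsg.Agent.Lib.Helper3.SgB
import Cfsg.Agent.Lib.Helper3.SgE

/-!
# Shult–Gross, part 2F: the chain of normal subgroups with nilpotent factors.
-/

set_option autoImplicit false
set_option maxHeartbeats 4000000
set_option maxRecDepth 100000
set_option linter.unusedVariables false
set_option linter.unusedSectionVars false
set_option linter.style.haveILetI false
set_option linter.deprecated false

namespace Cfsg.Agent.Lib.Helper3.Sh

open Cfsg.Agent.Lib.Helper8.FP4 Cfsg.Agent.Lib.Helper6.Wd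

universe u

theorem sg_chain (p : ℕ) [hp : Fact p.Prime] (hp2 : p ≠ 2) :
    ∀ (n : ℕ) (G : Type u) [Group G] [Finite G] [Group.IsSolvable G] (s : MulAut G),
      s ^ (p ^ n) = 1 → (∀ g, s g = g → g = 1) →
      ∃ F : ℕ → Subgroup G, F 0 = ⊥ ∧ F n = ⊤ ∧ Monotone F ∧ (∀ i, (F i).Normal) ∧
        ∀ i, i < n → ∃ k : ℕ, (F (i + 1)).lowerCentralSeries k ≤ F i := by
  intro n
  induction n with
  | zero =>
    intro G _ _ _ s hs hfpf
    have hs1 : s = 1 := by simpa using hs
    have hall : ∀ g : G, g = 1 := fun g => hfpf g (by rw [hs1]; rfl)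
    have htop : (⊥ : Subgroup G) = ⊤ := by
      rw [eq_top_iff]
      intro g _
      rw [hall g]
      exact Subgroup.one_mem _
    refine ⟨fun _ => ⊥, rfl, htop, monotone_const, fun _ => inferInstance, ?_⟩
    intro i hi
    exact absurd hi (Nat.not_lt_zero i)
  | succ n ih =>
    intro G _ _ _ s hs hfpf
    have hnil : Group.IsNilpotent ↥(cx (s ^ (p ^ n))) :=
      sg_key p hp2 n (Nat.card G) G s rfl hs hfpf
    have hxs : ∀ g, s ((s ^ (p ^ n)) g) = (s ^ (p ^ n)) (s g) := fun g => pow_apply_comm s _ g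
    haveI hMn : (cx (s ^ (p ^ n))).Normal := cx_normal _
    have hMs : Inv s (cx (s ^ (p ^ n))) := cx_inv _ s hxs
    have hfpfM : ∀ g, quotAut s (cx (s ^ (p ^ n))) hMs g = g → g = 1 := Fpf.quot hfpf _ hMs
    have hsM : (quotAut s (cx (s ^ (p ^ n))) hMs) ^ (p ^ n) = 1 := by
      ext c
      refine QuotientGroup.induction_on c (fun g => ?_)
      rw [quotAut_pow_mk]
      show (((s ^ (p ^ n)) g : G) : G ⧸ cx (s ^ (p ^ n))) = (g : G ⧸ cx (s ^ (p ^ n)))
      exact (QuotientGroup.eq.mpr (mem_cx_gen (s ^ (p ^ n)) g)).symm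
    obtain ⟨F', hF0, hFn, hFmono, hFnorm, hFstep⟩ :=
      ih (G ⧸ cx (s ^ (p ^ n))) (quotAut s (cx (s ^ (p ^ n))) hMs) hsM hfpfM
    obtain ⟨F, hFz, hFs⟩ : ∃ F : ℕ → Subgroup G, F 0 = ⊥ ∧
        ∀ j, F (j + 1) = (F' j).comap (QuotientGroup.mk' (cx (s ^ (p ^ n)))) :=
      ⟨fun i => Nat.casesOn i ⊥ (fun j => (F' j).comap (QuotientGroup.mk' (cx (s ^ (p ^ n))))),
        rfl, fun j => rfl⟩
    refine ⟨F, hFz, ?_, ?_, ?_, ?_⟩
    · rw [hFs, hFn, Subgroup.comap_top]
    · apply monotone_nat_of_le_succ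
      intro i
      rcases i with _ | j
      · rw [hFz]; exact bot_le
      · rw [hFs, hFs]
        exact Subgroup.comap_mono (hFmono (Nat.le_succ j))
    · intro i
      rcases i with _ | j
      · rw [hFz]; infer_instance
      · rw [hFs]
        exact (hFnorm j).comap _
    · intro i hi
      rcases i with _ | j
      · rw [hFs, hF0, hFz, MonoidHom.comap_bot, QuotientGroup.ker_mk']
        obtain ⟨k, hk⟩ := (Subgroup.isNilpotent_iff_lowerCentralSeries _).mp hnil
        exact ⟨k, le_of_eq hk⟩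
      · obtain ⟨k, hk⟩ := hFstep j (by omega)
        refine ⟨k, ?_⟩
        rw [hFs (j + 1), hFs j, ← Subgroup.map_le_iff_le_comap, Subgroup.map_lowerCentralSeries,
          Subgroup.map_comap_eq_self_of_surjective (QuotientGroup.mk'_surjective _)]
        exact hk

end Cfsg.Agent.Lib.Helper3.Sh
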