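import Mathlib
import Cfsg.Prelude.Def_SubgroupEmbedding
import Cfsg.Agent.Lib.Helper3.Iso4
import Cfsg.Agent.Lib.Helper1.Subnormal
import Cfsg.Agent.Lib.Helper7.Subnormal

set_option autoImplicit false
set_option maxHeartbeats 4000000
set_option linter.unusedVariables false
set_option linter.unusedSectionVars false
set_option linter.style.longLine false
set_option linter.unusedSimpArgs false
set_option linter.deprecated false
set_option linter.style.haveILetI false

/-!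
# The minimal counterexample to the Sidki pair statement is almost simple (S3048)
Basic lemmas: relative Sidki condition, subgroups, quotients, odd-order elements.
-/

open scoped commutatorElement Pointwise
universe u
namespace Cfsg.Agent.Lib.Helper3.Sidki

open Cfsg Cfsg.Agent.Lib.Helper1

variable {G : Type u} [Group G]

/-- the Sidki condition for `W` relative to the elements of `H` -/
def RelSidki (H W : Subgroup G) : Prop :=
  ∀ h ∈ H, ∀ w ∈ W, Odd (orderOf h) → w * h * w⁻¹ = h⁻¹ → ∃ w' ∈ W, w' ≠ 1 ∧ w' * h = h * w'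

theorem relSidki_of_sidki {V : Subgroup G} (hS : IsSidkiPair V) (H : Subgroup G) : RelSidki H V :=
  fun h _ w hw hodd hinv => hS h w hw hodd hinv

theorem sidki_subgroupOf {H W : Subgroup G} (hWH : W ≤ H) (h : RelSidki H W) :
    IsSidkiPair (W.subgroupOf H) := by
  intro h' v hv hodd hinv
  have hv' : (v : G) ∈ W := Subgroup.mem_subgroupOf.mp hv
  have hodd' : Odd (orderOf (h' : G)) := by rwa [Subgroup.orderOf_coe]
  have hinv' : (v : G) * (h' : G) * (v : G)⁻¹ = (h' : G)⁻¹ := by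
    have := congrArg Subtype.val hinv
    simpa using this
  obtain ⟨w', hw'W, hw'1, hw'c⟩ := h (h' : G) h'.2 (v : G) hv' hodd' hinv'
  refine ⟨⟨w', hWH hw'W⟩, Subgroup.mem_subgroupOf.mpr hw'W, ?_, ?_⟩
  · intro h1
    exact hw'1 (congrArg Subtype.val h1)
  · apply Subtype.ext
    exact hw'c

theorem eq_one_of_sq_of_odd {a : G} (h2 : a ^ 2 = 1) (hodd : Odd (orderOf a)) : a = 1 := by
  have h1 : orderOf a ∣ 2 := orderOf_dvd_of_pow_eq_one h2
  have h3 : orderOf a = 1 := by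
    rcases (Nat.dvd_prime Nat.prime_two).mp h1 with h | h
    · exact h
    · rw [h] at hodd; exact absurd hodd (by decide)
  exact orderOf_eq_one_iff.mp h3

theorem odd_orderOf_mul {a b : G} (hab : Commute a b) (ha : Odd (orderOf a))
    (hb : Odd (orderOf b)) : Odd (orderOf (a * b)) := by
  have h1 : (a * b) ^ (orderOf a * orderOf b) = 1 := by
    rw [hab.mul_pow, pow_mul, pow_orderOf_eq_one, one_pow, mul_comm (orderOf a), pow_mul,
      pow_orderOf_eq_one, one_pow, one_mul]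
  exact Odd.of_dvd_nat (ha.mul hb) (orderOf_dvd_of_pow_eq_one h1)

theorem odd_orderOf_inv {a : G} (ha : Odd (orderOf a)) : Odd (orderOf a⁻¹) := by
  rwa [orderOf_inv]

theorem odd_orderOf_conj {a : G} (g : G) (ha : Odd (orderOf a)) : Odd (orderOf (g * a * g⁻¹)) := by
  have := MulEquiv.orderOf_eq (MulAut.conj g) a
  rw [MulAut.conj_apply] at this
  rwa [this]

/-- elements of `X ⊔ W` are products when `W` normalizes `X` -/
theorem exists_mul_of_mem_sup {X W : Subgroup G} (hW : W ≤ Subgroup.normalizer (X : Set G)) {g : G}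
    (hg : g ∈ X ⊔ W) : ∃ x ∈ X, ∃ w ∈ W, g = x * w := by
  have e : X ⊔ W = Subgroup.closure ((X : Set G) ∪ (W : Set G)) := by
    rw [Subgroup.closure_union, Subgroup.closure_eq, Subgroup.closure_eq]
  rw [e] at hg
  induction hg using Subgroup.closure_induction with
  | mem y hy =>
    rcases hy with hy | hy
    · exact ⟨y, hy, 1, W.one_mem, by simp⟩
    · exact ⟨1, X.one_mem, y, hy, by simp⟩
  | one => exact ⟨1, X.one_mem, 1, W.one_mem, by simp⟩
  | mul a b ha hb iha ihb =>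
    obtain ⟨x, hx, w, hw, rfl⟩ := iha
    obtain ⟨x', hx', w', hw', rfl⟩ := ihb
    refine ⟨x * (w * x' * w⁻¹), X.mul_mem hx ?_, w * w', W.mul_mem hw hw', by group⟩
    exact (Subgroup.mem_normalizer_iff.mp (hW hw) x').mp hx'
  | inv a ha iha =>
    obtain ⟨x, hx, w, hw, rfl⟩ := iha
    refine ⟨w⁻¹ * x⁻¹ * w⁻¹⁻¹, ?_, w⁻¹, W.inv_mem hw, by group⟩
    exact (Subgroup.mem_normalizer_iff.mp (hW (W.inv_mem hw)) x⁻¹).mp (X.inv_mem hx)

/-- odd-order elements of `X ⊔ W` lie in `X` when `W` has exponent 2 and normalizes `X` -/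
theorem mem_of_odd_of_mem_sup {X W : Subgroup G} (hW : W ≤ Subgroup.normalizer (X : Set G))
    (hW2 : ∀ w ∈ W, w ^ 2 = 1) {h : G} (hh : h ∈ X ⊔ W) (hodd : Odd (orderOf h)) : h ∈ X := by
  obtain ⟨x, hx, w, hw, rfl⟩ := exists_mul_of_mem_sup hW hh
  have h2 : (x * w) ^ 2 ∈ X := by
    have e : (x * w) ^ 2 = x * (w * x * w⁻¹) * w ^ 2 := by
      rw [pow_two, pow_two]; group
    rw [e, hW2 w hw, mul_one]
    exact X.mul_mem hx ((Subgroup.mem_normalizer_iff.mp (hW hw) x).mp hx)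
  obtain ⟨j, hj⟩ := hodd
  have h3 : x * w = ((x * w) ^ 2) ^ (j + 1) := by
    rw [← pow_mul]
    have : 2 * (j + 1) = orderOf (x * w) + 1 := by rw [hj]; ring
    rw [this, pow_succ, pow_orderOf_eq_one, one_mul]
  rw [h3]
  exact X.pow_mem h2 _

/-- the Sidki condition passes to quotients by normal subgroups meeting `V` trivially -/
theorem sidki_quotient [Finite G] {V : Subgroup G} (hV2 : ∀ v ∈ V, v ^ 2 = 1) (hS : IsSidkiPair V)
    (N : Subgroup G) [N.Normal] (hVN : V ⊓ N = ⊥) :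
    IsSidkiPair (V.map (QuotientGroup.mk' N)) := by
  intro hb vb hvb hodd hinv
  obtain ⟨v, hv, rfl⟩ := hvb
  obtain ⟨h, rfl⟩ := QuotientGroup.mk'_surjective N hb
  have hvinv : v⁻¹ = v := by
    have := hV2 v hv
    rw [pow_two] at this
    exact inv_eq_of_mul_eq_one_left this
  -- `x = h⁻¹ (v h v⁻¹)` is inverted by `v`
  have hxinv : v * (h⁻¹ * (v * h * v⁻¹)) * v⁻¹ = (h⁻¹ * (v * h * v⁻¹))⁻¹ := by
    have e1 : v * (h⁻¹ * (v * h * v⁻¹)) * v⁻¹ = (v * h⁻¹ * v⁻¹) * (v * v * h * (v⁻¹ * v⁻¹)) := by group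
    have e2 : v * v = 1 := by rw [← pow_two]; exact hV2 v hv
    have e3 : v⁻¹ * v⁻¹ = 1 := by rw [hvinv]; exact e2
    rw [e1, e2, e3]; group
  obtain ⟨k, m, hm, hkm⟩ := Nat.exists_eq_two_pow_mul_odd (n := Nat.card G) Nat.card_pos.ne'
  have hx'odd : Odd (orderOf ((h⁻¹ * (v * h * v⁻¹)) ^ (2 ^ k))) := by
    apply Odd.of_dvd_nat hm
    apply orderOf_dvd_of_pow_eq_one
    rw [← pow_mul, ← hkm]
    exact pow_card_eq_one'
  have hx'inv : v * ((h⁻¹ * (v * h * v⁻¹)) ^ (2 ^ k)) * v⁻¹ =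
      ((h⁻¹ * (v * h * v⁻¹)) ^ (2 ^ k))⁻¹ := by
    rw [← conj_pow, hxinv, inv_pow]
  obtain ⟨w, hw, hw1, hwc⟩ := hS _ v hv hx'odd hx'inv
  refine ⟨QuotientGroup.mk' N w, ⟨w, hw, rfl⟩, ?_, ?_⟩
  · intro h1
    rw [QuotientGroup.mk'_apply, QuotientGroup.eq_one_iff] at h1
    have : w ∈ V ⊓ N := Subgroup.mem_inf.mpr ⟨hw, h1⟩
    rw [hVN, Subgroup.mem_bot] at this
    exact hw1 this
  · have h1 : QuotientGroup.mk' N (h⁻¹ * (v * h * v⁻¹)) = ((QuotientGroup.mk' N h) ^ 2)⁻¹ := by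
      rw [map_mul, map_inv, map_mul, map_mul, map_inv, hinv, pow_two, mul_inv_rev]
    have hbar : QuotientGroup.mk' N ((h⁻¹ * (v * h * v⁻¹)) ^ (2 ^ k)) =
        ((QuotientGroup.mk' N h) ^ (2 ^ (k + 1)))⁻¹ := by
      rw [map_pow, h1, inv_pow, ← pow_mul, ← pow_succ']
    have hc1 : Commute (QuotientGroup.mk' N w) (((QuotientGroup.mk' N h) ^ (2 ^ (k + 1)))⁻¹) := by
      rw [← hbar]
      show QuotientGroup.mk' N w * QuotientGroup.mk' N ((h⁻¹ * (v * h * v⁻¹)) ^ (2 ^ k)) =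
        QuotientGroup.mk' N ((h⁻¹ * (v * h * v⁻¹)) ^ (2 ^ k)) * QuotientGroup.mk' N w
      rw [← map_mul, ← map_mul, hwc]
    have hc2 : Commute (QuotientGroup.mk' N w) ((QuotientGroup.mk' N h) ^ (2 ^ (k + 1))) := by
      have := hc1.inv_right
      rwa [inv_inv] at this
    have hcop : (2 ^ (k + 1)).Coprime (orderOf (QuotientGroup.mk' N h)) := by
      apply Nat.Coprime.pow_left
      rw [Nat.coprime_comm]
      exact Nat.Coprime.symm (Nat.Coprime.symm (Odd.coprime_two_right hodd))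
    obtain ⟨j, hj⟩ := exists_pow_eq_self_of_coprime hcop
    have hc3 := hc2.pow_right j
    rw [hj] at hc3
    exact hc3.eq

end Cfsg.Agent.Lib.Helper3.Sidki
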