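import Mathlib
import Cfsg.Agent.Lib.Helper3.Sidki1
import Cfsg.Agent.Lib.Helper8.Layer

set_option autoImplicit false
set_option maxHeartbeats 4000000
set_option linter.unusedVariables false
set_option linter.unusedSectionVars false
set_option linter.style.longLine false
set_option linter.unusedSimpArgs false
set_option linter.deprecated false
set_option linter.style.haveILetI false

/-!
# The minimal counterexample to the Sidki pair statement is almost simple (S3048)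
`O_2(G) = 1`, minimality for subgroups, `G = V F*(G)`, the decomposition lemma.
-/

open scoped commutatorElement Pointwise
universe u
namespace Cfsg.Agent.Lib.Helper3.Sidki

open Cfsg Cfsg.Agent.Lib.Helper1

variable {G : Type u} [Group G] [Finite G]

theorem isNilpotent_of_comm {Z : Subgroup G} (h : ∀ a ∈ Z, ∀ b ∈ Z, a * b = b * a) :
    Group.IsNilpotent Z := by
  apply isNilpotent_of_commutator_commutator_eq_bot
  have h0 : ⁅Z, Z⁆ = ⊥ := by
    rw [Subgroup.commutator_eq_bot_iff_le_centralizer]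
    intro a ha
    rw [Subgroup.mem_centralizer_iff]
    intro b hb
    exact h b hb a ha
  rw [h0]
  exact Subgroup.commutator_bot_left _

/-- no involutions in subnormal nilpotent subgroups when `O_2(G) = 1` -/
theorem nil_no_invol (hO : pCore 2 G = ⊥) {X : Subgroup G} (hX : X.IsSubnormal)
    (hnil : Group.IsNilpotent X) {x : G} (hx : x ∈ X) (hx2 : x ^ 2 = 1) : x = 1 := by
  have h1 : (Subgroup.zpowers (⟨x, hx⟩ : X)).IsSubnormal :=
    (isNilpotent_iff_forall_isSubnormal.mp hnil) _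
  have h2 : ((Subgroup.zpowers (⟨x, hx⟩ : X)).map X.subtype).IsSubnormal :=
    Subgroup.IsSubnormal.trans' h1 hX
  have h3 : IsPGroup 2 ((Subgroup.zpowers (⟨x, hx⟩ : X)).map X.subtype) := by
    rintro ⟨g, y, hy, rfl⟩
    refine ⟨1, ?_⟩
    apply Subtype.ext
    obtain ⟨k, rfl⟩ := Subgroup.mem_zpowers_iff.mp hy
    show (X.subtype ((⟨x, hx⟩ : X) ^ k)) ^ 2 ^ 1 = 1
    rw [map_zpow, pow_one, ← zpow_natCast, ← zpow_mul, mul_comm, zpow_mul, zpow_natCast]
    show (x ^ 2) ^ k = 1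
    rw [hx2, one_zpow]
  haveI : Fact (Nat.Prime 2) := ⟨Nat.prime_two⟩
  have h4 := Cfsg.Agent.Lib.Helper7.subnormal_pGroup_le_pCore h2 h3
  rw [hO, le_bot_iff] at h4
  have : x ∈ (Subgroup.zpowers (⟨x, hx⟩ : X)).map X.subtype :=
    ⟨⟨x, hx⟩, Subgroup.mem_zpowers _, rfl⟩
  rw [h4] at this
  exact this

/-- an involution in the centre of a normal subgroup is trivial when `O_2(G) = 1` -/
theorem invol_central_eq_one (hO : pCore 2 G = ⊥) {N : Subgroup G} (hN : N.Normal) {w : G}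
    (hwN : w ∈ N) (hw2 : w ^ 2 = 1) (hc : ∀ n ∈ N, w * n = n * w) : w = 1 := by
  haveI := hN
  have hZn : (N ⊓ Subgroup.centralizer (N : Set G)).Normal := inferInstance
  have hnil : Group.IsNilpotent (N ⊓ Subgroup.centralizer (N : Set G) : Subgroup G) := by
    apply isNilpotent_of_comm
    intro a ha b hb
    exact (Subgroup.mem_centralizer_iff.mp (Subgroup.mem_inf.mp hb).2 a (Subgroup.mem_inf.mp ha).1)
  apply nil_no_invol hO hZn.isSubnormal hnil _ hw2
  refine Subgroup.mem_inf.mpr ⟨hwN, ?_⟩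
  rw [Subgroup.mem_centralizer_iff]
  intro n hn
  exact (hc n hn).symm

/-- the hypotheses of the minimal counterexample -/
structure MC (G : Type u) [Group G] [Finite G] (V : Subgroup G) : Prop where
  hV : IsElementaryAbelian 2 V
  hV1 : V ≠ ⊥
  hS : IsSidkiPair V
  hVO : V ⊓ pCore 2 G = ⊥
  hminG : ∀ (H : Type u) [Group H] [Finite H] (W : Subgroup H), Nat.card H < Nat.card G →
    IsElementaryAbelian 2 W → W ≠ ⊥ → IsSidkiPair W → W ⊓ pCore 2 H ≠ ⊥

namespace MC

variable {V : Subgroup G}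

theorem sq (h : MC G V) {v : G} (hv : v ∈ V) : v ^ 2 = 1 := h.hV.2 v hv

theorem comm (h : MC G V) {v w : G} (hv : v ∈ V) (hw : w ∈ V) : v * w = w * v := by
  have := h.hV.1.is_comm.comm ⟨v, hv⟩ ⟨w, hw⟩
  exact congrArg Subtype.val this

theorem inv_eq (h : MC G V) {v : G} (hv : v ∈ V) : v⁻¹ = v := by
  have := h.sq hv
  rw [pow_two] at this
  exact inv_eq_of_mul_eq_one_left this

theorem exists_ne_one (h : MC G V) : ∃ v ∈ V, v ≠ 1 :=
  (Subgroup.ne_bot_iff_exists_ne_one.mp h.hV1).elim fun v hv =>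
    ⟨v.1, v.2, fun h1 => hv (Subtype.ext h1)⟩

/-- Step 1: `O_2(G) = 1` -/
theorem pCore_eq_bot (h : MC G V) : pCore 2 G = ⊥ := by
  haveI : Fact (Nat.Prime 2) := ⟨Nat.prime_two⟩
  by_contra hQ
  haveI hQn : (pCore 2 G).Normal := Cfsg.Agent.Lib.Helper1.pCore_normal 2
  have hQp : IsPGroup 2 (pCore 2 G) := Cfsg.Agent.Lib.Helper1.pCore_isPGroup 2
  have hcard : Nat.card (G ⧸ pCore 2 G) < Nat.card G := by
    have h1 := Subgroup.card_eq_card_quotient_mul_card_subgroup (pCore 2 G)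
    have h2 : 1 < Nat.card (pCore 2 G) := by
      haveI : Nontrivial (pCore 2 G) := (Subgroup.nontrivial_iff_ne_bot _).mpr hQ
      exact Finite.one_lt_card
    have h3 : 0 < Nat.card (G ⧸ pCore 2 G) := Nat.card_pos
    rw [h1]
    nlinarith
  have hW : IsElementaryAbelian 2 (V.map (QuotientGroup.mk' (pCore 2 G))) := by
    refine ⟨⟨⟨?_⟩⟩, ?_⟩
    · rintro ⟨_, a, ha, rfl⟩ ⟨_, b, hb, rfl⟩
      apply Subtype.ext
      show QuotientGroup.mk' (pCore 2 G) a * QuotientGroup.mk' (pCore 2 G) b =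
        QuotientGroup.mk' (pCore 2 G) b * QuotientGroup.mk' (pCore 2 G) a
      rw [← map_mul, ← map_mul, h.comm ha hb]
    · rintro _ ⟨a, ha, rfl⟩
      rw [← map_pow, h.sq ha, map_one]
  have hW1 : V.map (QuotientGroup.mk' (pCore 2 G)) ≠ ⊥ := by
    obtain ⟨v, hv, hv1⟩ := h.exists_ne_one
    intro hb
    have : QuotientGroup.mk' (pCore 2 G) v ∈ V.map (QuotientGroup.mk' (pCore 2 G)) := ⟨v, hv, rfl⟩
    rw [hb, Subgroup.mem_bot, QuotientGroup.mk'_apply, QuotientGroup.eq_one_iff] at this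
    have h2 : v ∈ V ⊓ pCore 2 G := Subgroup.mem_inf.mpr ⟨hv, this⟩
    rw [h.hVO, Subgroup.mem_bot] at h2
    exact hv1 h2
  have hWS := sidki_quotient (fun v hv => h.sq hv) h.hS (pCore 2 G) h.hVO
  have h1 := h.hminG (G ⧸ pCore 2 G) _ hcard hW hW1 hWS
  apply h1
  -- `O_2(G / O_2(G)) = 1`
  have h2 : pCore 2 (G ⧸ pCore 2 G) = ⊥ := by
    have hn1 : ((pCore 2 (G ⧸ pCore 2 G)).comap (QuotientGroup.mk' (pCore 2 G))).Normal :=
      (Cfsg.Agent.Lib.Helper1.pCore_normal (G := G ⧸ pCore 2 G) 2).comap _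
    have hp1 : IsPGroup 2 ((pCore 2 (G ⧸ pCore 2 G)).comap (QuotientGroup.mk' (pCore 2 G))) := by
      apply (Cfsg.Agent.Lib.Helper1.pCore_isPGroup (G := G ⧸ pCore 2 G) 2).comap_of_ker_isPGroup
      rw [QuotientGroup.ker_mk']
      exact hQp
    have h3 := Cfsg.Agent.Lib.Helper1.le_pCore hn1 hp1
    rw [eq_bot_iff]
    intro y hy
    obtain ⟨g, rfl⟩ := QuotientGroup.mk'_surjective (pCore 2 G) y
    have h4 : g ∈ pCore 2 G := h3 hy
    rw [Subgroup.mem_bot, QuotientGroup.mk'_apply, QuotientGroup.eq_one_iff]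
    exact h4
  rw [h2, inf_bot_eq]

/-- minimality applied to a proper subgroup `H`: a nontrivial element of `W` centralizing `M` -/
theorem min_sub (h : MC G V) {H W M : Subgroup G} (hH : H ≠ ⊤) (hWV : W ≤ V) (hWH : W ≤ H)
    (hW1 : W ≠ ⊥) (hrel : RelSidki H W) (hM : M.IsSubnormal) (hMH : M ≤ H)
    (hHM : H ≤ Subgroup.normalizer (M : Set G)) :
    ∃ w ∈ W, w ≠ 1 ∧ M ≤ Subgroup.centralizer ({w} : Set G) := by
  haveI : Fact (Nat.Prime 2) := ⟨Nat.prime_two⟩
  have hcard : Nat.card H < Nat.card G := by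
    apply lt_of_le_of_ne (Subgroup.card_le_card_group H)
    intro he
    exact hH (Subgroup.eq_top_of_card_eq H he)
  have hW' : IsElementaryAbelian 2 (W.subgroupOf H) := by
    refine ⟨⟨⟨?_⟩⟩, ?_⟩
    · rintro ⟨a, ha⟩ ⟨b, hb⟩
      apply Subtype.ext
      apply Subtype.ext
      exact h.comm (hWV (Subgroup.mem_subgroupOf.mp ha)) (hWV (Subgroup.mem_subgroupOf.mp hb))
    · intro a ha
      apply Subtype.ext
      have := h.sq (hWV (Subgroup.mem_subgroupOf.mp ha))
      simpa using this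
  have hW'1 : W.subgroupOf H ≠ ⊥ := by
    obtain ⟨w, hw⟩ := Subgroup.ne_bot_iff_exists_ne_one.mp hW1
    intro hb
    have : (⟨w.1, hWH w.2⟩ : H) ∈ W.subgroupOf H := Subgroup.mem_subgroupOf.mpr w.2
    rw [hb, Subgroup.mem_bot] at this
    exact hw (Subtype.ext (congrArg (fun t : H => (t : G)) this))
  have h1 := h.hminG H _ hcard hW' hW'1 (sidki_subgroupOf hWH hrel)
  obtain ⟨y, hy⟩ := Subgroup.ne_bot_iff_exists_ne_one.mp h1
  obtain ⟨hyW, hyQ⟩ := Subgroup.mem_inf.mp y.2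
  have hy1 : ((y : H) : G) ≠ 1 := by
    intro h2
    apply hy
    apply Subtype.ext
    apply Subtype.ext
    exact h2
  refine ⟨((y : H) : G), Subgroup.mem_subgroupOf.mp hyW, hy1, ?_⟩
  -- `Q = O_2(H)` as a subgroup of `G`
  have hQp : IsPGroup 2 ((pCore 2 H).map H.subtype) :=
    (Cfsg.Agent.Lib.Helper1.pCore_isPGroup (G := H) 2).map _
  have hQn : ∀ g ∈ H, ∀ q ∈ (pCore 2 H).map H.subtype, g * q * g⁻¹ ∈ (pCore 2 H).map H.subtype := by
    rintro g hg _ ⟨q, hq, rfl⟩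
    refine ⟨⟨g, hg⟩ * q * ⟨g, hg⟩⁻¹, ?_, rfl⟩
    exact (Cfsg.Agent.Lib.Helper1.pCore_normal (G := H) 2).conj_mem q hq _
  have hwQ : ((y : H) : G) ∈ (pCore 2 H).map H.subtype := ⟨(y : H), hyQ, rfl⟩
  have hD : (pCore 2 H).map H.subtype ⊓ M = ⊥ := by
    have hDs : ((pCore 2 H).map H.subtype ⊓ M).IsSubnormal := by
      apply Subgroup.IsSubnormal.step _ M inf_le_right hM
      constructor
      intro d hd m
      have hd' := Subgroup.mem_subgroupOf.mp hd
      apply Subgroup.mem_subgroupOf.mpr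
      obtain ⟨hd1, hd2⟩ := Subgroup.mem_inf.mp hd'
      refine Subgroup.mem_inf.mpr ⟨?_, ?_⟩
      · have := hQn (m : G) (hMH m.2) _ hd1
        simpa using this
      · have := M.mul_mem (M.mul_mem m.2 hd2) (M.inv_mem m.2)
        simpa using this
    have hDp : IsPGroup 2 ((pCore 2 H).map H.subtype ⊓ M : Subgroup G) := hQp.to_le inf_le_left
    have := Cfsg.Agent.Lib.Helper7.subnormal_pGroup_le_pCore hDs hDp
    rwa [h.pCore_eq_bot, le_bot_iff] at this
  intro m hm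
  rw [Subgroup.mem_centralizer_singleton_iff]
  have hwH : ((y : H) : G) ∈ H := (y : H).2
  have h2 : ((y : H) : G) * m * ((y : H) : G)⁻¹ * m⁻¹ ∈ (pCore 2 H).map H.subtype ⊓ M := by
    refine Subgroup.mem_inf.mpr ⟨?_, ?_⟩
    · have e : ((y : H) : G) * m * ((y : H) : G)⁻¹ * m⁻¹ =
          ((y : H) : G) * (m * ((y : H) : G)⁻¹ * m⁻¹) := by group
      rw [e]
      exact Subgroup.mul_mem _ hwQ (hQn m (hMH hm) _ (Subgroup.inv_mem _ hwQ))
    · exact M.mul_mem ((Subgroup.mem_normalizer_iff.mp (hHM hwH) m).mp hm) (M.inv_mem hm)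
  rw [hD, Subgroup.mem_bot] at h2
  have h3 : ((y : H) : G) * m = m * ((y : H) : G) := by
    have := congrArg (fun t => t * m * ((y : H) : G)) h2
    simpa [mul_assoc] using this
  exact h3.symm

end MC

end Cfsg.Agent.Lib.Helper3.Sidki
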