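import Mathlib
import Cfsg.Agent.Lib.Helper3.Sidki2
import Cfsg.Agent.Lib.Helper8.FStar

set_option autoImplicit false
set_option maxHeartbeats 4000000
set_option linter.unusedVariables false
set_option linter.unusedSectionVars false
set_option linter.style.longLine false
set_option linter.unusedSimpArgs false
set_option linter.deprecated false
set_option linter.style.haveILetI false

/-!
# The minimal counterexample to the Sidki pair statement is almost simple (S3048)
`G = V F*(G)`, the decomposition lemma.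
-/

open scoped commutatorElement Pointwise
universe u
namespace Cfsg.Agent.Lib.Helper3.Sidki

open Cfsg Cfsg.Agent.Lib.Helper1

variable {G : Type u} [Group G] [Finite G]

namespace MC

variable {V : Subgroup G}

/-- no nontrivial element of `V` centralizes `F*(G)` -/
theorem no_cent (h : MC G V) {w : G} (hw : w ∈ V) (hw1 : w ≠ 1) :
    ¬ generalizedFittingSubgroup G ≤ Subgroup.centralizer ({w} : Set G) := by
  intro hc
  have h1 : w ∈ Subgroup.centralizer (generalizedFittingSubgroup G : Set G) := by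
    rw [Subgroup.mem_centralizer_iff]
    intro r hr
    exact (Subgroup.mem_centralizer_singleton_iff.mp (hc hr))
  have h2 : w ∈ generalizedFittingSubgroup G :=
    Cfsg.Agent.Lib.Helper8.centralizer_generalizedFittingSubgroup_le h1
  apply hw1
  apply invol_central_eq_one h.pCore_eq_bot
    (Cfsg.Agent.Lib.Helper8.generalizedFittingSubgroup_normal (G := G)) h2 (h.sq hw)
  intro n hn
  exact (Subgroup.mem_centralizer_singleton_iff.mp (hc hn)).symm

/-- Step 3: `G = V F*(G)` -/
theorem sup_eq_top (h : MC G V) : V ⊔ generalizedFittingSubgroup G = ⊤ := by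
  by_contra hne
  have hn : (generalizedFittingSubgroup G).Normal :=
    Cfsg.Agent.Lib.Helper8.generalizedFittingSubgroup_normal
  obtain ⟨w, hw, hw1, hc⟩ := h.min_sub (H := V ⊔ generalizedFittingSubgroup G) (W := V)
    (M := generalizedFittingSubgroup G) hne le_rfl le_sup_left h.hV1
    (relSidki_of_sidki h.hS _) hn.isSubnormal le_sup_right
    (by rw [Subgroup.normalizer_eq_top_iff.mpr hn]; exact le_top)
  exact h.no_cent hw hw1 hc

/-- if `G = X W` with `W ≤ V` then a normal subgroup meeting the normal subgroup `X` trivially is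
trivial -/
theorem eq_bot_of_sup_eq_top (h : MC G V) {X Y W : Subgroup G} (hX : X.Normal) (hY : Y.Normal)
    (hWV : W ≤ V) (htop : X ⊔ W = ⊤) (hXY : X ⊓ Y = ⊥) : Y = ⊥ := by
  haveI : Fact (Nat.Prime 2) := ⟨Nat.prime_two⟩
  have hWn : W ≤ Subgroup.normalizer (X : Set G) := by
    rw [Subgroup.normalizer_eq_top_iff.mpr hX]; exact le_top
  have hexp : ∀ y ∈ Y, y ^ 2 = 1 := by
    intro y hy
    obtain ⟨x, hx, w, hw, rfl⟩ := exists_mul_of_mem_sup hWn (htop ▸ Subgroup.mem_top y)
    have e : (x * w) ^ 2 = x * (w * x * w⁻¹) * w ^ 2 := by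
      rw [pow_two, pow_two]; group
    have h2 : (x * w) ^ 2 ∈ X := by
      rw [e, h.sq (hWV hw), mul_one]
      exact X.mul_mem hx (hX.conj_mem x hx w)
    have h3 : (x * w) ^ 2 ∈ X ⊓ Y := Subgroup.mem_inf.mpr ⟨h2, Y.pow_mem hy 2⟩
    rwa [hXY, Subgroup.mem_bot] at h3
  have hp : IsPGroup 2 Y := by
    intro y
    refine ⟨1, ?_⟩
    apply Subtype.ext
    simpa using hexp y y.2
  have := Cfsg.Agent.Lib.Helper1.le_pCore hY hp
  rwa [h.pCore_eq_bot, le_bot_iff] at this

/-- **the decomposition lemma**: two nontrivial normal subgroups meeting trivially are both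
centralized by some nontrivial element of `V` -/
theorem decomp (h : MC G V) {A B : Subgroup G} (hA : A.Normal) (hB : B.Normal) (hA1 : A ≠ ⊥)
    (hB1 : B ≠ ⊥) (hAB : A ⊓ B = ⊥) :
    ∃ w ∈ V, w ≠ 1 ∧ A ≤ Subgroup.centralizer ({w} : Set G) ∧
      B ≤ Subgroup.centralizer ({w} : Set G) := by
  by_contra hno
  push Not at hno
  have hBA : B ⊓ A = ⊥ := by rw [inf_comm]; exact hAB
  have hcomm : ∀ a ∈ A, ∀ b ∈ B, a * b = b * a := by
    intro a ha b hb
    have h1 : a * b * a⁻¹ * b⁻¹ ∈ A ⊓ B := by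
      refine Subgroup.mem_inf.mpr ⟨?_, ?_⟩
      · have e : a * b * a⁻¹ * b⁻¹ = a * (b * a⁻¹ * b⁻¹) := by group
        rw [e]
        exact A.mul_mem ha (hA.conj_mem _ (A.inv_mem ha) b)
      · exact B.mul_mem (hB.conj_mem b hb a) (B.inv_mem hb)
    rw [hAB, Subgroup.mem_bot] at h1
    have := congrArg (fun t => t * b * a) h1
    simpa [mul_assoc] using this
  have hnA : ∀ W : Subgroup G, W ≤ Subgroup.normalizer (A : Set G) := fun W => by
    rw [Subgroup.normalizer_eq_top_iff.mpr hA]; exact le_top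
  have hnB : ∀ W : Subgroup G, W ≤ Subgroup.normalizer (B : Set G) := fun W => by
    rw [Subgroup.normalizer_eq_top_iff.mpr hB]; exact le_top
  -- (a), (b): `U = C_V(B) ≠ 1`
  have hBV : B ⊔ V ≠ ⊤ := fun htop => hA1 (h.eq_bot_of_sup_eq_top hB hA le_rfl htop hBA)
  obtain ⟨u₀, hu₀V, hu₀1, hu₀B⟩ := h.min_sub (H := B ⊔ V) (W := V) (M := B) hBV le_rfl le_sup_right
    h.hV1 (relSidki_of_sidki h.hS _) hB.isSubnormal le_sup_left (hnB _)
  have hUV : V ⊓ Subgroup.centralizer (B : Set G) ≤ V := inf_le_left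
  have hu₀U : u₀ ∈ V ⊓ Subgroup.centralizer (B : Set G) := by
    refine Subgroup.mem_inf.mpr ⟨hu₀V, ?_⟩
    rw [Subgroup.mem_centralizer_iff]
    intro b hb
    exact (Subgroup.mem_centralizer_singleton_iff.mp (hu₀B hb))
  have hU1 : V ⊓ Subgroup.centralizer (B : Set G) ≠ ⊥ := by
    intro hb
    rw [hb, Subgroup.mem_bot] at hu₀U
    exact hu₀1 hu₀U
  have hUcent : ∀ w ∈ V ⊓ Subgroup.centralizer (B : Set G),
      B ≤ Subgroup.centralizer ({w} : Set G) := by
    intro w hw b hb
    rw [Subgroup.mem_centralizer_singleton_iff]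
    exact (Subgroup.mem_centralizer_iff.mp (Subgroup.mem_inf.mp hw).2 b hb)
  -- (c)
  have hnrel : ¬ RelSidki (A ⊔ (V ⊓ Subgroup.centralizer (B : Set G)))
      (V ⊓ Subgroup.centralizer (B : Set G)) := by
    intro hrel
    have hAU : A ⊔ (V ⊓ Subgroup.centralizer (B : Set G)) ≠ ⊤ :=
      fun htop => hB1 (h.eq_bot_of_sup_eq_top hA hB hUV htop hAB)
    obtain ⟨w, hwU, hw1, hwA⟩ := h.min_sub (H := A ⊔ (V ⊓ Subgroup.centralizer (B : Set G)))
      (W := V ⊓ Subgroup.centralizer (B : Set G)) (M := A) hAU hUV le_sup_right hU1 hrel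
      hA.isSubnormal le_sup_left (hnA _)
    exact hno w (hUV hwU) hw1 hwA (hUcent w hwU)
  unfold RelSidki at hnrel
  push Not at hnrel
  obtain ⟨f, hf, u, hu, hfodd, hfinv, hfno⟩ := hnrel
  have hfA : f ∈ A :=
    mem_of_odd_of_mem_sup (hnA _) (fun w hw => h.sq (hUV hw)) hf hfodd
  have huV : u ∈ V := hUV hu
  -- (d)
  obtain ⟨z₀, hz₀V, hz₀1, hz₀c⟩ := h.hS f u huV hfodd hfinv
  have hDV : V ⊓ Subgroup.centralizer ({f} : Set G) ≤ V := inf_le_left
  have hz₀D : z₀ ∈ V ⊓ Subgroup.centralizer ({f} : Set G) :=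
    Subgroup.mem_inf.mpr ⟨hz₀V, Subgroup.mem_centralizer_singleton_iff.mpr hz₀c⟩
  have hD1 : V ⊓ Subgroup.centralizer ({f} : Set G) ≠ ⊥ := by
    intro hb
    rw [hb, Subgroup.mem_bot] at hz₀D
    exact hz₀1 hz₀D
  -- (e)
  have hrelD : RelSidki (B ⊔ (V ⊓ Subgroup.centralizer ({f} : Set G)))
      (V ⊓ Subgroup.centralizer ({f} : Set G)) := by
    intro x hx d hd hxodd hxinv
    have hxB : x ∈ B := mem_of_odd_of_mem_sup (hnB _) (fun w hw => h.sq (hDV hw)) hx hxodd
    have hdV : d ∈ V := hDV hd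
    have hdf : d * f = f * d :=
      Subgroup.mem_centralizer_singleton_iff.mp (Subgroup.mem_inf.mp hd).2
    have hux : u * x = x * u :=
      (Subgroup.mem_centralizer_iff.mp (Subgroup.mem_inf.mp hu).2 x hxB).symm
    have hxf : x * f = f * x := (hcomm f hfA x hxB).symm
    have hdu : d * u = u * d := h.comm hdV huV
    have hinv2 : (d * u) * (x * f) * (d * u)⁻¹ = (x * f)⁻¹ := by
      have e1 : (d * u) * (x * f) * (d * u)⁻¹ = d * ((u * x) * (u⁻¹ * (u * f * u⁻¹))) * d⁻¹ := by
        group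
      rw [e1, hux, hfinv]
      have e2 : d * (x * u * (u⁻¹ * f⁻¹)) * d⁻¹ = (d * x * d⁻¹) * (d * f * d⁻¹)⁻¹ := by group
      rw [e2, hxinv]
      have e3 : d * f * d⁻¹ = f := by rw [hdf]; group
      rw [e3, ← mul_inv_rev, ← hxf]
    have hodd2 : Odd (orderOf (x * f)) := odd_orderOf_mul hxf hxodd hfodd
    obtain ⟨z, hzV, hz1, hzc⟩ := h.hS (x * f) (d * u) (V.mul_mem hdV huV) hodd2 hinv2
    -- `z` centralizes `x` and `f`
    have h1 : x⁻¹ * (z * x * z⁻¹) ∈ B ⊓ A := by
      refine Subgroup.mem_inf.mpr ⟨B.mul_mem (B.inv_mem hxB) (hB.conj_mem x hxB z), ?_⟩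
      have e : x⁻¹ * (z * x * z⁻¹) = f * (z * f * z⁻¹)⁻¹ := by
        have h2 : z * x * z⁻¹ * (z * f * z⁻¹) = x * f := by
          have : z * x * z⁻¹ * (z * f * z⁻¹) = z * (x * f) * z⁻¹ := by group
          rw [this, hzc]; group
        have h3 : z * x * z⁻¹ = x * f * (z * f * z⁻¹)⁻¹ := by
          rw [← h2]; group
        rw [h3]; group
      rw [e]
      exact A.mul_mem hfA (A.inv_mem (hA.conj_mem f hfA z))
    rw [hBA, Subgroup.mem_bot] at h1
    have hzx : z * x * z⁻¹ = x := by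
      have := congrArg (fun t => x * t) h1
      simpa [mul_assoc] using this
    have hzx' : z * x = x * z := by
      have := congrArg (fun t => t * z) hzx
      simpa [mul_assoc] using this
    have hzf : z * f = f * z := by
      have h2 : z * (x * f) = (x * f) * z := hzc
      have h3 : z * (x * f) = x * (z * f) := by
        rw [← mul_assoc, hzx', mul_assoc]
      rw [h3, mul_assoc] at h2
      exact mul_left_cancel h2
    exact ⟨z, Subgroup.mem_inf.mpr ⟨hzV, Subgroup.mem_centralizer_singleton_iff.mpr hzf⟩, hz1, hzx'⟩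
  -- (f)
  have hBD : B ⊔ (V ⊓ Subgroup.centralizer ({f} : Set G)) ≠ ⊤ :=
    fun htop => hA1 (h.eq_bot_of_sup_eq_top hB hA hDV htop hBA)
  obtain ⟨w, hwD, hw1, hwB⟩ := h.min_sub (H := B ⊔ (V ⊓ Subgroup.centralizer ({f} : Set G)))
    (W := V ⊓ Subgroup.centralizer ({f} : Set G)) (M := B) hBD hDV le_sup_right hD1 hrelD
    hB.isSubnormal le_sup_left (hnB _)
  have hwU : w ∈ V ⊓ Subgroup.centralizer (B : Set G) := by
    refine Subgroup.mem_inf.mpr ⟨hDV hwD, ?_⟩
    rw [Subgroup.mem_centralizer_iff]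
    intro b hb
    exact (Subgroup.mem_centralizer_singleton_iff.mp (hwB hb))
  exact hfno w hwU hw1 (Subgroup.mem_centralizer_singleton_iff.mp (Subgroup.mem_inf.mp hwD).2)

end MC

end Cfsg.Agent.Lib.Helper3.Sidki
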