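import Mathlib
import Cfsg.Agent.Lib.Helper3.Sidki3
import Cfsg.Agent.Lib.Helper1.Fitting

set_option autoImplicit false
set_option maxHeartbeats 4000000
set_option linter.unusedVariables false
set_option linter.unusedSectionVars false
set_option linter.style.longLine false
set_option linter.unusedSimpArgs false
set_option linter.deprecated false
set_option linter.style.haveILetI false

/-!
# The minimal counterexample to the Sidki pair statement is almost simple (S3048)
`F(G) = 1`.
-/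

open scoped commutatorElement Pointwise
universe u
namespace Cfsg.Agent.Lib.Helper3.Sidki

open Cfsg Cfsg.Agent.Lib.Helper1

variable {G : Type u} [Group G] [Finite G]

/-- elements of subnormal nilpotent subgroups have odd order when `O_2(G) = 1` -/
theorem odd_orderOf_of_mem_nil (hO : pCore 2 G = ⊥) {X : Subgroup G} (hX : X.IsSubnormal)
    (hnil : Group.IsNilpotent X) {f : G} (hf : f ∈ X) : Odd (orderOf f) := by
  by_contra hodd
  rw [Nat.not_odd_iff_even] at hodd
  obtain ⟨k, hk⟩ := hodd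
  have hpos : 0 < orderOf f := orderOf_pos f
  have hk0 : 0 < k := by omega
  have h1 : (f ^ k) ^ 2 = 1 := by
    rw [← pow_mul, mul_comm, two_mul, ← hk, pow_orderOf_eq_one]
  have h2 := nil_no_invol hO hX hnil (X.pow_mem hf k) h1
  have h3 : orderOf f ∣ k := orderOf_dvd_of_pow_eq_one h2
  have := Nat.le_of_dvd hk0 h3
  omega

/-- the image of `V` in a quotient is elementary abelian -/
theorem MC.map_elementary {V : Subgroup G} (h : MC G V) (N : Subgroup G) [N.Normal] :
    IsElementaryAbelian 2 (V.map (QuotientGroup.mk' N)) := by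
  refine ⟨⟨⟨?_⟩⟩, ?_⟩
  · rintro ⟨_, a, ha, rfl⟩ ⟨_, b, hb, rfl⟩
    apply Subtype.ext
    show QuotientGroup.mk' N a * QuotientGroup.mk' N b =
      QuotientGroup.mk' N b * QuotientGroup.mk' N a
    rw [← map_mul, ← map_mul, h.comm ha hb]
  · rintro _ ⟨a, ha, rfl⟩
    rw [← map_pow, h.sq ha, map_one]

/-- `{r | [w, r] ∈ Z}` as a subgroup, for `Z` normal -/
def commSub (w : G) (Z : Subgroup G) [hZ : Z.Normal] : Subgroup G where
  carrier := {r | w * r * w⁻¹ * r⁻¹ ∈ Z}
  one_mem' := by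
    show w * 1 * w⁻¹ * 1⁻¹ ∈ Z
    simp
  mul_mem' := by
    intro r s hr hs
    have hr' : w * r * w⁻¹ * r⁻¹ ∈ Z := hr
    have hs' : w * s * w⁻¹ * s⁻¹ ∈ Z := hs
    show w * (r * s) * w⁻¹ * (r * s)⁻¹ ∈ Z
    have e : w * (r * s) * w⁻¹ * (r * s)⁻¹ =
        (w * r * w⁻¹ * r⁻¹) * (r * (w * s * w⁻¹ * s⁻¹) * r⁻¹) := by group
    rw [e]
    exact Z.mul_mem hr' (hZ.conj_mem _ hs' r)
  inv_mem' := by
    intro r hr
    have hr' : w * r * w⁻¹ * r⁻¹ ∈ Z := hr
    show w * r⁻¹ * w⁻¹ * r⁻¹⁻¹ ∈ Z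
    have e : w * r⁻¹ * w⁻¹ * r⁻¹⁻¹ = r⁻¹ * (w * r * w⁻¹ * r⁻¹)⁻¹ * r⁻¹⁻¹ := by group
    rw [e]
    exact hZ.conj_mem _ (Z.inv_mem hr') r⁻¹

theorem mem_commSub {w : G} {Z : Subgroup G} [hZ : Z.Normal] {r : G} :
    r ∈ commSub w Z ↔ w * r * w⁻¹ * r⁻¹ ∈ Z := Iff.rfl

/-- the elements of a commutative `Z` inverted by `w` -/
def invSub (w : G) (Z : Subgroup G) (hZc : ∀ a ∈ Z, ∀ b ∈ Z, a * b = b * a) : Subgroup G where
  carrier := {a | a ∈ Z ∧ w * a * w⁻¹ = a⁻¹}
  one_mem' := ⟨Z.one_mem, by simp⟩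
  mul_mem' := by
    rintro a b ⟨ha, ha'⟩ ⟨hb, hb'⟩
    refine ⟨Z.mul_mem ha hb, ?_⟩
    have hab : a * b = b * a := hZc a ha b hb
    have e : w * (a * b) * w⁻¹ = (w * a * w⁻¹) * (w * b * w⁻¹) := by group
    rw [e, ha', hb', hab, mul_inv_rev]
  inv_mem' := by
    rintro a ⟨ha, ha'⟩
    refine ⟨Z.inv_mem ha, ?_⟩
    have e : w * a⁻¹ * w⁻¹ = (w * a * w⁻¹)⁻¹ := by group
    rw [e, ha']

theorem mem_invSub {w : G} {Z : Subgroup G} {hZc : ∀ a ∈ Z, ∀ b ∈ Z, a * b = b * a} {a : G} :
    a ∈ invSub w Z hZc ↔ a ∈ Z ∧ w * a * w⁻¹ = a⁻¹ := Iff.rfl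

/-- pure group computation for the splitting `r = d⁻¹ (d r)` -/
theorem comm_of_split {w d r : G} (h1 : w * d * w⁻¹ = d⁻¹) (h2 : w * r * w⁻¹ = d * d * r) :
    d * r * w = w * (d * r) := by
  have e : w * (d * r) = (w * d * w⁻¹) * (w * r * w⁻¹) * w := by group
  rw [e, h1, h2]; group

namespace MC

variable {V : Subgroup G}

/-- minimality applied to a quotient by a nontrivial normal subgroup meeting `V` trivially -/
theorem min_quot (h : MC G V) (N : Subgroup G) [N.Normal] (hN1 : N ≠ ⊥) (hVN : V ⊓ N = ⊥) :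
    ∃ w ∈ V, w ≠ 1 ∧ QuotientGroup.mk' N w ∈ pCore 2 (G ⧸ N) := by
  have hcard : Nat.card (G ⧸ N) < Nat.card G := by
    have h1 := Subgroup.card_eq_card_quotient_mul_card_subgroup N
    have h2 : 1 < Nat.card N := by
      haveI : Nontrivial N := (Subgroup.nontrivial_iff_ne_bot _).mpr hN1
      exact Finite.one_lt_card
    have h3 : 0 < Nat.card (G ⧸ N) := Nat.card_pos
    rw [h1]
    nlinarith
  have hW1 : V.map (QuotientGroup.mk' N) ≠ ⊥ := by
    obtain ⟨v, hv, hv1⟩ := h.exists_ne_one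
    intro hb
    have : QuotientGroup.mk' N v ∈ V.map (QuotientGroup.mk' N) := ⟨v, hv, rfl⟩
    rw [hb, Subgroup.mem_bot, QuotientGroup.mk'_apply, QuotientGroup.eq_one_iff] at this
    have h2 : v ∈ V ⊓ N := Subgroup.mem_inf.mpr ⟨hv, this⟩
    rw [hVN, Subgroup.mem_bot] at h2
    exact hv1 h2
  have hWS := sidki_quotient (fun v hv => h.sq hv) h.hS N hVN
  have h1 := h.hminG (G ⧸ N) _ hcard (h.map_elementary N) hW1 hWS
  obtain ⟨y, hy⟩ := Subgroup.ne_bot_iff_exists_ne_one.mp h1
  obtain ⟨⟨w, hw, hwy⟩, hyQ⟩ := Subgroup.mem_inf.mp y.2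
  refine ⟨w, hw, ?_, ?_⟩
  · rintro rfl
    apply hy
    apply Subtype.ext
    rw [← hwy, map_one]; rfl
  · rw [hwy]; exact hyQ

/-- the splitting lemma -/
theorem split (h : MC G V) {w : G} (hw : w ∈ V) (hw1 : w ≠ 1)
    (hE : layer G ≤ Subgroup.centralizer ({w} : Set G))
    (hF : ∀ f ∈ fittingSubgroup G, w * f * w⁻¹ * f⁻¹ ∈
      fittingSubgroup G ⊓ Subgroup.centralizer (fittingSubgroup G : Set G)) :
    generalizedFittingSubgroup G ⊓ Subgroup.centralizer ({w} : Set G) = ⊥ ∧
      generalizedFittingSubgroup G ≤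
        fittingSubgroup G ⊓ Subgroup.centralizer (fittingSubgroup G : Set G) := by
  haveI hFn : (fittingSubgroup G).Normal := Cfsg.Agent.Lib.Helper1.fittingSubgroup_normal
  haveI hEn : (layer G).Normal := Cfsg.Agent.Lib.Helper2.layer_normal
  have hRn : (generalizedFittingSubgroup G).Normal :=
    Cfsg.Agent.Lib.Helper8.generalizedFittingSubgroup_normal
  have hFnil : Group.IsNilpotent (fittingSubgroup G) :=
    Cfsg.Agent.Lib.Helper1.fittingSubgroup_isNilpotent
  have hO := h.pCore_eq_bot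
  have hZn : (fittingSubgroup G ⊓ Subgroup.centralizer (fittingSubgroup G : Set G)).Normal :=
    inferInstance
  have hEF : ∀ e ∈ layer G, ∀ f ∈ fittingSubgroup G, e * f = f * e := by
    have := Cfsg.Agent.Lib.Helper8.commutator_layer_fitting (G := G)
    rw [Subgroup.commutator_eq_bot_iff_le_centralizer] at this
    intro e he f hf
    exact (Subgroup.mem_centralizer_iff.mp (this he) f hf).symm
  have hwinv : w⁻¹ = w := h.inv_eq hw
  have hww : w * w = 1 := by rw [← pow_two]; exact h.sq hw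
  -- `Z` is central in `R`
  have hZR : ∀ z ∈ fittingSubgroup G ⊓ Subgroup.centralizer (fittingSubgroup G : Set G),
      ∀ r ∈ generalizedFittingSubgroup G, z * r = r * z := by
    intro z hz r hr
    have hle : generalizedFittingSubgroup G ≤ Subgroup.centralizer ({z} : Set G) := by
      unfold generalizedFittingSubgroup
      rw [sup_le_iff]
      constructor
      · intro e he
        rw [Subgroup.mem_centralizer_singleton_iff]
        exact hEF e he z (Subgroup.mem_inf.mp hz).1
      · intro f hf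
        rw [Subgroup.mem_centralizer_singleton_iff]
        exact (Subgroup.mem_centralizer_iff.mp (Subgroup.mem_inf.mp hz).2 f hf)
    exact (Subgroup.mem_centralizer_singleton_iff.mp (hle hr)).symm
  have hZleR : fittingSubgroup G ⊓ Subgroup.centralizer (fittingSubgroup G : Set G) ≤
      generalizedFittingSubgroup G := inf_le_left.trans le_sup_right
  -- `c(r) = w r w⁻¹ r⁻¹ ∈ Z` for all `r ∈ R`
  have hc : ∀ r ∈ generalizedFittingSubgroup G, w * r * w⁻¹ * r⁻¹ ∈
      fittingSubgroup G ⊓ Subgroup.centralizer (fittingSubgroup G : Set G) := by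
    have hle : generalizedFittingSubgroup G ≤
        commSub w (fittingSubgroup G ⊓ Subgroup.centralizer (fittingSubgroup G : Set G)) := by
      unfold generalizedFittingSubgroup
      rw [sup_le_iff]
      constructor
      · intro e he
        rw [mem_commSub]
        have := Subgroup.mem_centralizer_singleton_iff.mp (hE he)
        have e1 : w * e * w⁻¹ * e⁻¹ = 1 := by
          rw [← this]; group
        rw [e1]; exact Subgroup.one_mem _
      · intro f hf
        rw [mem_commSub]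
        exact hF f hf
    intro r hr
    exact mem_commSub.mp (hle hr)
  -- `c(r)` is inverted by `w`
  have hcinv : ∀ r : G, w * (w * r * w⁻¹ * r⁻¹) * w⁻¹ = (w * r * w⁻¹ * r⁻¹)⁻¹ := by
    intro r
    have e1 : w * (w * r * w⁻¹ * r⁻¹) * w⁻¹ = (w * w) * r * w⁻¹ * r⁻¹ * w⁻¹ := by group
    rw [e1, hww, hwinv]
    have e2 : (w * r * w * r⁻¹)⁻¹ = r * w⁻¹ * r⁻¹ * w⁻¹ := by group
    rw [e2, hwinv]; group
  -- the subgroup `A` of inverted elements of `Z`
  have hZc : ∀ a ∈ fittingSubgroup G ⊓ Subgroup.centralizer (fittingSubgroup G : Set G),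
      ∀ b ∈ fittingSubgroup G ⊓ Subgroup.centralizer (fittingSubgroup G : Set G),
      a * b = b * a := by
    intro a ha b hb
    exact hZR a ha b (hZleR hb)
  obtain ⟨A, hAdef⟩ : ∃ A : Subgroup G, A = invSub w
      (fittingSubgroup G ⊓ Subgroup.centralizer (fittingSubgroup G : Set G)) hZc := ⟨_, rfl⟩
  have hAmem : ∀ a : G, a ∈ A ↔
      (a ∈ fittingSubgroup G ⊓ Subgroup.centralizer (fittingSubgroup G : Set G) ∧
        w * a * w⁻¹ = a⁻¹) := by
    intro a; rw [hAdef]; exact mem_invSub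
  have hAZ : A ≤ fittingSubgroup G ⊓ Subgroup.centralizer (fittingSubgroup G : Set G) :=
    fun a ha => ((hAmem a).mp ha).1
  have hcA : ∀ r ∈ generalizedFittingSubgroup G, w * r * w⁻¹ * r⁻¹ ∈ A :=
    fun r hr => (hAmem _).mpr ⟨hc r hr, hcinv r⟩
  have htop := h.sup_eq_top
  -- `A` is normal
  have hAn : A.Normal := by
    rw [← Subgroup.normalizer_eq_top_iff, eq_top_iff, ← htop, sup_le_iff]
    constructor
    · intro v hv
      rw [Subgroup.mem_normalizer_iff]
      have key : ∀ u ∈ V, ∀ a ∈ A, u * a * u⁻¹ ∈ A := by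
        intro u hu a haA
        obtain ⟨ha, ha'⟩ := (hAmem a).mp haA
        refine (hAmem _).mpr ⟨hZn.conj_mem a ha u, ?_⟩
        have e : w * (u * a * u⁻¹) * w⁻¹ = (w * u) * a * (w * u)⁻¹ := by group
        rw [e, h.comm hw hu]
        have e2 : u * w * a * (u * w)⁻¹ = u * (w * a * w⁻¹) * u⁻¹ := by group
        rw [e2, ha']; group
      intro a
      constructor
      · intro ha; exact key v hv a ha
      · intro ha
        have := key v⁻¹ (V.inv_mem hv) _ ha
        have e : v⁻¹ * (v * a * v⁻¹) * v⁻¹⁻¹ = a := by group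
        rwa [e] at this
    · intro r hr
      rw [Subgroup.mem_normalizer_iff]
      intro a
      have hra : ∀ a ∈ A, r * a * r⁻¹ = a := by
        intro a ha
        have := hZR a (hAZ ha) r hr
        rw [← this]; group
      constructor
      · intro ha; rw [hra a ha]; exact ha
      · intro ha
        have h1 := hra _ ha
        have h2 : r * a * r⁻¹ = a := by
          calc r * a * r⁻¹ = r⁻¹ * (r * (r * a * r⁻¹) * r⁻¹) * r := by group
            _ = r⁻¹ * (r * a * r⁻¹) * r := by rw [h1]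
            _ = a := by group
        rwa [h2] at ha
  -- `B = C_R(w)` is normal
  have hBn : (generalizedFittingSubgroup G ⊓ Subgroup.centralizer ({w} : Set G)).Normal := by
    rw [← Subgroup.normalizer_eq_top_iff, eq_top_iff, ← htop, sup_le_iff]
    constructor
    · intro v hv
      rw [Subgroup.mem_normalizer_iff]
      have key : ∀ u ∈ V, ∀ b ∈ generalizedFittingSubgroup G ⊓ Subgroup.centralizer ({w} : Set G),
          u * b * u⁻¹ ∈ generalizedFittingSubgroup G ⊓ Subgroup.centralizer ({w} : Set G) := by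
        intro u hu b hb
        obtain ⟨hb1, hb2⟩ := Subgroup.mem_inf.mp hb
        refine Subgroup.mem_inf.mpr ⟨hRn.conj_mem b hb1 u, ?_⟩
        rw [Subgroup.mem_centralizer_singleton_iff] at hb2 ⊢
        have huw := h.comm hu hw
        calc u * b * u⁻¹ * w = u * b * (u⁻¹ * w) := by group
          _ = u * b * (w * u⁻¹) := by
              have : u⁻¹ * w = w * u⁻¹ := by
                have := congrArg (fun t => u⁻¹ * t * u⁻¹) huw
                simpa [mul_assoc] using this.symm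
              rw [this]
          _ = u * (b * w) * u⁻¹ := by group
          _ = u * (w * b) * u⁻¹ := by rw [hb2]
          _ = (u * w) * b * u⁻¹ := by group
          _ = (w * u) * b * u⁻¹ := by rw [huw]
          _ = w * (u * b * u⁻¹) := by group
      intro b
      constructor
      · intro hb; exact key v hv b hb
      · intro hb
        have := key v⁻¹ (V.inv_mem hv) _ hb
        have e : v⁻¹ * (v * b * v⁻¹) * v⁻¹⁻¹ = b := by group
        rwa [e] at this
    · intro r hr
      rw [Subgroup.mem_normalizer_iff]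
      have key : ∀ s ∈ generalizedFittingSubgroup G,
          ∀ b ∈ generalizedFittingSubgroup G ⊓ Subgroup.centralizer ({w} : Set G),
          s * b * s⁻¹ ∈ generalizedFittingSubgroup G ⊓ Subgroup.centralizer ({w} : Set G) := by
        intro s hs b hb
        obtain ⟨hb1, hb2⟩ := Subgroup.mem_inf.mp hb
        have hsb : s * b * s⁻¹ ∈ generalizedFittingSubgroup G := hRn.conj_mem b hb1 s
        refine Subgroup.mem_inf.mpr ⟨hsb, ?_⟩
        rw [Subgroup.mem_centralizer_singleton_iff] at hb2 ⊢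
        -- `w s w⁻¹ = c s` with `c` central
        have hcs := hc s hs
        have hcent := hZR _ hcs _ hsb
        have e1 : w * (s * b * s⁻¹) * w⁻¹ =
            (w * s * w⁻¹ * s⁻¹) * (s * (w * b * w⁻¹) * s⁻¹) * (w * s * w⁻¹ * s⁻¹)⁻¹ := by group
        have e2 : w * b * w⁻¹ = b := by rw [← hb2]; group
        have e3 : w * (s * b * s⁻¹) * w⁻¹ = s * b * s⁻¹ := by
          rw [e1, e2, hcent]; group
        calc s * b * s⁻¹ * w = (w * (s * b * s⁻¹) * w⁻¹) * w := by rw [e3]
          _ = w * (s * b * s⁻¹) := by group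
      intro b
      constructor
      · intro hb; exact key r hr b hb
      · intro hb
        have := key r⁻¹ (Subgroup.inv_mem _ hr) _ hb
        have e : r⁻¹ * (r * b * r⁻¹) * r⁻¹⁻¹ = b := by group
        rwa [e] at this
  -- `A ∩ B = 1`
  have hABbot : A ⊓ (generalizedFittingSubgroup G ⊓ Subgroup.centralizer ({w} : Set G)) = ⊥ := by
    rw [eq_bot_iff]
    intro a ha
    obtain ⟨haA, haB⟩ := Subgroup.mem_inf.mp ha
    obtain ⟨haZ, hainv⟩ := (hAmem a).mp haA
    have hac := Subgroup.mem_centralizer_singleton_iff.mp (Subgroup.mem_inf.mp haB).2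
    have h1 : w * a * w⁻¹ = a := by rw [← hac]; group
    have h2 : a ^ 2 = 1 := by
      rw [pow_two]
      have : a⁻¹ = a := by rw [← hainv, h1]
      have e : a * a = a * a⁻¹ := by rw [this]
      rw [e, mul_inv_cancel]
    rw [Subgroup.mem_bot]
    exact nil_no_invol hO hFn.isSubnormal hFnil (Subgroup.mem_inf.mp haZ).1 h2
  -- `R ≤ A B`
  have hRAB : generalizedFittingSubgroup G ≤
      A ⊔ (generalizedFittingSubgroup G ⊓ Subgroup.centralizer ({w} : Set G)) := by
    intro r hr
    have hcr := hcA r hr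
    have hodd : Odd (orderOf (w * r * w⁻¹ * r⁻¹)) :=
      odd_orderOf_of_mem_nil hO hFn.isSubnormal hFnil (Subgroup.mem_inf.mp (hAZ hcr)).1
    obtain ⟨j, hj⟩ := hodd
    have ha' : (w * r * w⁻¹ * r⁻¹) ^ (j + 1) ∈ A := A.pow_mem hcr _
    have hsq : ((w * r * w⁻¹ * r⁻¹) ^ (j + 1)) ^ 2 = w * r * w⁻¹ * r⁻¹ := by
      rw [← pow_mul]
      have : (j + 1) * 2 = orderOf (w * r * w⁻¹ * r⁻¹) + 1 := by rw [hj]; ring
      rw [this, pow_succ, pow_orderOf_eq_one, one_mul]
    have hb : (w * r * w⁻¹ * r⁻¹) ^ (j + 1) * r ∈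
        generalizedFittingSubgroup G ⊓ Subgroup.centralizer ({w} : Set G) := by
      refine Subgroup.mem_inf.mpr ⟨Subgroup.mul_mem _ (hZleR (hAZ ha')) hr, ?_⟩
      rw [Subgroup.mem_centralizer_singleton_iff]
      have h1 : w * ((w * r * w⁻¹ * r⁻¹) ^ (j + 1)) * w⁻¹ = ((w * r * w⁻¹ * r⁻¹) ^ (j + 1))⁻¹ :=
        ((hAmem _).mp ha').2
      have h2 : w * r * w⁻¹ = (w * r * w⁻¹ * r⁻¹) ^ (j + 1) * (w * r * w⁻¹ * r⁻¹) ^ (j + 1) * r := by
        rw [← pow_two, hsq]; group
      exact comm_of_split h1 h2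
    have e : r = ((w * r * w⁻¹ * r⁻¹) ^ (j + 1))⁻¹ * ((w * r * w⁻¹ * r⁻¹) ^ (j + 1) * r) := by group
    rw [e]
    exact Subgroup.mul_mem _ (Subgroup.mem_sup_left (A.inv_mem ha')) (Subgroup.mem_sup_right hb)
  -- conclusion
  by_cases hA1 : A = ⊥
  · exfalso
    apply h.no_cent hw hw1
    intro r hr
    rw [Subgroup.mem_centralizer_singleton_iff]
    have := hcA r hr
    rw [hA1, Subgroup.mem_bot] at this
    have h2 := congrArg (fun t => t * r * w) this
    simpa [mul_assoc] using h2.symm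
  by_cases hB1 : generalizedFittingSubgroup G ⊓ Subgroup.centralizer ({w} : Set G) = ⊥
  · refine ⟨hB1, ?_⟩
    rw [hB1, sup_bot_eq] at hRAB
    exact hRAB.trans hAZ
  · exfalso
    obtain ⟨w', hw'V, hw'1, hw'A, hw'B⟩ := h.decomp hAn hBn hA1 hB1 hABbot
    exact h.no_cent hw'V hw'1 (hRAB.trans (sup_le hw'A hw'B))

end MC

end Cfsg.Agent.Lib.Helper3.Sidki
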