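import Mathlib
import Cfsg.Agent.Lib.Helper3.Sidki4

set_option autoImplicit false
set_option maxHeartbeats 4000000
set_option linter.unusedVariables false
set_option linter.unusedSectionVars false
set_option linter.style.longLine false
set_option linter.unusedSimpArgs false
set_option linter.deprecated false
set_option linter.style.haveILetI false

/-!
# The minimal counterexample to the Sidki pair statement is almost simple (S3048)
`F(G) = 1`.
-/

open scoped commutatorElement Pointwise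
universe u
namespace Cfsg.Agent.Lib.Helper3.Sidki

open Cfsg Cfsg.Agent.Lib.Helper1

variable {G : Type u} [Group G] [Finite G]

/-- the preimage of a solvable normal subgroup of `G ⧸ Z`, `Z` abelian, is solvable -/
theorem isSolvable_comap_of_comm {Z : Subgroup G} [Z.Normal]
    (hZc : ∀ a ∈ Z, ∀ b ∈ Z, a * b = b * a) (Q : Subgroup (G ⧸ Z)) (hQ : Group.IsSolvable Q) :
    Group.IsSolvable (Q.comap (QuotientGroup.mk' Z)) := by
  have hZT : Z ≤ Q.comap (QuotientGroup.mk' Z) := by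
    intro z hz
    rw [Subgroup.mem_comap, QuotientGroup.mk'_apply, (QuotientGroup.eq_one_iff z).mpr hz]
    exact Q.one_mem
  haveI : Group.IsSolvable Z :=
    isSolvable_of_comm (fun a b : Z => Subtype.ext (hZc a a.2 b b.2))
  refine solvable_of_ker_le_range (Subgroup.inclusion hZT)
    ((QuotientGroup.mk' Z).subgroupComap Q) ?_
  intro t ht
  rw [MonoidHom.mem_ker] at ht
  have h1 : QuotientGroup.mk' Z (t : G) = 1 := congrArg Subtype.val ht
  rw [QuotientGroup.mk'_apply, QuotientGroup.eq_one_iff] at h1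
  exact ⟨⟨t, h1⟩, Subtype.ext rfl⟩

/-- an odd order element mapping into a `2`-group of a quotient lies in the kernel -/
theorem mem_of_odd_of_map_mem_pGroup {Z : Subgroup G} [Z.Normal] {Q : Subgroup (G ⧸ Z)}
    (hQ : IsPGroup 2 Q) {c : G} (hodd : Odd (orderOf c)) (hc : QuotientGroup.mk' Z c ∈ Q) :
    c ∈ Z := by
  obtain ⟨k, hk⟩ := hQ ⟨_, hc⟩
  have hk' : (QuotientGroup.mk' Z c) ^ (2 ^ k) = 1 := by
    have := congrArg Subtype.val hk
    simpa using this
  have h1 : orderOf (QuotientGroup.mk' Z c) ∣ 2 ^ k := orderOf_dvd_of_pow_eq_one hk'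
  have h2 : orderOf (QuotientGroup.mk' Z c) ∣ orderOf c := orderOf_map_dvd _ c
  have hcop : Nat.Coprime (orderOf c) (2 ^ k) := by
    apply Nat.Coprime.pow_right
    exact Nat.coprime_two_right.mpr hodd
  have h3 : orderOf (QuotientGroup.mk' Z c) = 1 :=
    Nat.eq_one_of_dvd_coprimes hcop h2 h1
  rw [orderOf_eq_one_iff, QuotientGroup.mk'_apply, QuotientGroup.eq_one_iff] at h3
  exact h3

namespace MC

variable {V : Subgroup G}

/-- Step 5: `F(G) = 1` -/
theorem fitting_eq_bot (h : MC G V) : fittingSubgroup G = ⊥ := by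
  by_contra hF1
  haveI hFn : (fittingSubgroup G).Normal := Cfsg.Agent.Lib.Helper1.fittingSubgroup_normal
  have hRn : (generalizedFittingSubgroup G).Normal :=
    Cfsg.Agent.Lib.Helper8.generalizedFittingSubgroup_normal
  have hFnil : Group.IsNilpotent (fittingSubgroup G) :=
    Cfsg.Agent.Lib.Helper1.fittingSubgroup_isNilpotent
  have hO := h.pCore_eq_bot
  obtain ⟨Z, hZdef⟩ : ∃ Z : Subgroup G,
      Z = fittingSubgroup G ⊓ Subgroup.centralizer (fittingSubgroup G : Set G) := ⟨_, rfl⟩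
  haveI hZn : Z.Normal := by rw [hZdef]; infer_instance
  have hZF : Z ≤ fittingSubgroup G := by rw [hZdef]; exact inf_le_left
  have hZc : ∀ a ∈ Z, ∀ b ∈ Z, a * b = b * a := by
    intro a ha b hb
    rw [hZdef] at ha hb
    exact (Subgroup.mem_centralizer_iff.mp (Subgroup.mem_inf.mp hb).2 a (Subgroup.mem_inf.mp ha).1)
  have hZ1 : Z ≠ ⊥ := by
    haveI : Nontrivial (fittingSubgroup G) := (Subgroup.nontrivial_iff_ne_bot _).mpr hF1
    have hc : Subgroup.center (fittingSubgroup G) ≠ ⊥ := Group.IsNilpotent.center_ne_bot _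
    obtain ⟨z, hz1⟩ := (Subgroup.ne_bot_iff_exists_ne_one).mp hc
    intro hb
    apply hz1
    have hzZ : ((z : fittingSubgroup G) : G) ∈ Z := by
      rw [hZdef]
      refine Subgroup.mem_inf.mpr ⟨(z : fittingSubgroup G).2, ?_⟩
      rw [Subgroup.mem_centralizer_iff]
      intro f hf
      have := Subgroup.mem_center_iff.mp z.2 ⟨f, hf⟩
      exact congrArg Subtype.val this
    rw [hb, Subgroup.mem_bot] at hzZ
    exact Subtype.ext (Subtype.ext hzZ)
  have hVZ : V ⊓ Z = ⊥ := by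
    rw [eq_bot_iff]
    intro v hv
    obtain ⟨hvV, hvZ⟩ := Subgroup.mem_inf.mp hv
    rw [Subgroup.mem_bot]
    exact nil_no_invol hO hFn.isSubnormal hFnil (hZF hvZ) (h.sq hvV)
  obtain ⟨w, hw, hw1, hwQ⟩ := h.min_quot Z hZ1 hVZ
  -- the solvable normal subgroup `T`
  haveI : Fact (Nat.Prime 2) := ⟨Nat.prime_two⟩
  have hQp : IsPGroup 2 (pCore 2 (G ⧸ Z)) := Cfsg.Agent.Lib.Helper1.pCore_isPGroup 2
  haveI hQn : (pCore 2 (G ⧸ Z)).Normal := Cfsg.Agent.Lib.Helper1.pCore_normal 2
  have hQsolv : Group.IsSolvable (pCore 2 (G ⧸ Z)) := by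
    haveI : Fact (Nat.Prime 2) := ⟨Nat.prime_two⟩
    haveI : Group.IsNilpotent (pCore 2 (G ⧸ Z)) := hQp.isNilpotent
    exact IsNilpotent.to_isSolvable
  have hTsolv := isSolvable_comap_of_comm hZc (pCore 2 (G ⧸ Z)) hQsolv
  haveI hTn : ((pCore 2 (G ⧸ Z)).comap (QuotientGroup.mk' Z)).Normal := inferInstance
  have hwT : w ∈ (pCore 2 (G ⧸ Z)).comap (QuotientGroup.mk' Z) := hwQ
  have hLT := Cfsg.Agent.Lib.Helper8.commutator_layer_solvable_normal
    ((pCore 2 (G ⧸ Z)).comap (QuotientGroup.mk' Z)) hTsolv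
  rw [Subgroup.commutator_eq_bot_iff_le_centralizer] at hLT
  have hE : layer G ≤ Subgroup.centralizer ({w} : Set G) := by
    intro e he
    rw [Subgroup.mem_centralizer_singleton_iff]
    exact (Subgroup.mem_centralizer_iff.mp (hLT he) w hwT).symm
  have hF : ∀ f ∈ fittingSubgroup G, w * f * w⁻¹ * f⁻¹ ∈
      fittingSubgroup G ⊓ Subgroup.centralizer (fittingSubgroup G : Set G) := by
    intro f hf
    rw [← hZdef]
    have hcF : w * f * w⁻¹ * f⁻¹ ∈ fittingSubgroup G :=
      Subgroup.mul_mem _ (hFn.conj_mem f hf w) (Subgroup.inv_mem _ hf)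
    have hodd : Odd (orderOf (w * f * w⁻¹ * f⁻¹)) :=
      odd_orderOf_of_mem_nil hO hFn.isSubnormal hFnil hcF
    have hcT : w * f * w⁻¹ * f⁻¹ ∈ (pCore 2 (G ⧸ Z)).comap (QuotientGroup.mk' Z) := by
      have e : w * f * w⁻¹ * f⁻¹ = w * (f * w⁻¹ * f⁻¹) := by group
      rw [e]
      exact Subgroup.mul_mem _ hwT (hTn.conj_mem _ (Subgroup.inv_mem _ hwT) f)
    exact mem_of_odd_of_map_mem_pGroup hQp hodd hcT
  obtain ⟨hs1, hs2⟩ := h.split hw hw1 hE hF
  rw [← hZdef] at hs2
  -- `F*` is abelian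
  have hRc : ∀ a ∈ generalizedFittingSubgroup G, ∀ b ∈ generalizedFittingSubgroup G,
      a * b = b * a := fun a ha b hb => hZc a (hs2 ha) b (hs2 hb)
  have hlayer : layer G = ⊥ := by
    rw [eq_bot_iff]
    unfold layer
    apply sSup_le
    intro K hK
    exfalso
    apply Cfsg.Agent.Lib.Helper2.isComponent_not_commutative hK
    have hKR : K ≤ generalizedFittingSubgroup G :=
      (Cfsg.Agent.Lib.Helper2.le_layer hK).trans le_sup_left
    rw [Subgroup.commutator_eq_bot_iff_le_centralizer]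
    intro a ha
    rw [Subgroup.mem_centralizer_iff]
    intro b hb
    exact hRc b (hKR hb) a (hKR ha)
  obtain ⟨f, hf, hf1⟩ : ∃ f ∈ fittingSubgroup G, f ≠ 1 := by
    obtain ⟨z, hz⟩ := (Subgroup.ne_bot_iff_exists_ne_one).mp hF1
    exact ⟨z.1, z.2, fun hh => hz (Subtype.ext hh)⟩
  have hfR : f ∈ generalizedFittingSubgroup G := (le_sup_right : _ ≤ layer G ⊔ _) hf
  have hww : w * w = 1 := by rw [← pow_two]; exact h.sq hw
  have hwinv : w⁻¹ = w := h.inv_eq hw
  have hwf : w * f * w⁻¹ ∈ generalizedFittingSubgroup G := hRn.conj_mem f hfR w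
  -- `w` inverts `f`
  have hinv : w * f * w⁻¹ = f⁻¹ := by
    have hg : f * (w * f * w⁻¹) ∈
        generalizedFittingSubgroup G ⊓ Subgroup.centralizer ({w} : Set G) := by
      refine Subgroup.mem_inf.mpr ⟨Subgroup.mul_mem _ hfR hwf, ?_⟩
      rw [Subgroup.mem_centralizer_singleton_iff]
      have hcomm : f * (w * f * w⁻¹) = (w * f * w⁻¹) * f := hRc _ hfR _ hwf
      have e1 : w * (f * (w * f * w⁻¹)) * w⁻¹ = (w * f * w⁻¹) * (w * w * f * (w * w)⁻¹) := by
        group
      have e2 : w * (f * (w * f * w⁻¹)) * w⁻¹ = f * (w * f * w⁻¹) := by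
        rw [e1, hww, hcomm]; simp
      have e3 := mul_inv_eq_iff_eq_mul.mp e2
      exact e3.symm
    rw [hs1, Subgroup.mem_bot] at hg
    exact (eq_inv_of_mul_eq_one_right hg)
  obtain ⟨w', hw', hw'1, hw'f⟩ := h.hS f w hw
    (odd_orderOf_of_mem_nil hO hFn.isSubnormal hFnil hf) hinv
  have hE' : layer G ≤ Subgroup.centralizer ({w'} : Set G) := by rw [hlayer]; exact bot_le
  have hF' : ∀ f ∈ fittingSubgroup G, w' * f * w'⁻¹ * f⁻¹ ∈
      fittingSubgroup G ⊓ Subgroup.centralizer (fittingSubgroup G : Set G) := by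
    intro f' hf'
    rw [← hZdef]
    apply hs2
    apply (le_sup_right : _ ≤ layer G ⊔ _)
    exact Subgroup.mul_mem _ (hFn.conj_mem f' hf' w') (Subgroup.inv_mem _ hf')
  obtain ⟨hs1', _⟩ := h.split hw' hw'1 hE' hF'
  have : f ∈ generalizedFittingSubgroup G ⊓ Subgroup.centralizer ({w'} : Set G) := by
    refine Subgroup.mem_inf.mpr ⟨hfR, ?_⟩
    rw [Subgroup.mem_centralizer_singleton_iff]
    exact hw'f.symm
  rw [hs1', Subgroup.mem_bot] at this
  exact hf1 this

end MC

end Cfsg.Agent.Lib.Helper3.Sidki
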