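import Mathlib
import Cfsg.Agent.Lib.Helper3.Sidki5
import Cfsg.Agent.Lib.Helper3.Iso4
import Cfsg.Agent.Lib.Helper7.Subnormal
import Cfsg.Agent.Lib.Helper8.CompCent4

set_option autoImplicit false
set_option maxHeartbeats 4000000
set_option linter.unusedVariables false
set_option linter.unusedSectionVars false
set_option linter.style.longLine false
set_option linter.unusedSimpArgs false
set_option linter.deprecated false
set_option linter.style.haveILetI false

/-!
# The minimal counterexample to the Sidki pair statement is almost simple (S3048)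
`F*(G)` is simple.
-/

open scoped commutatorElement Pointwise
universe u
namespace Cfsg.Agent.Lib.Helper3.Sidki

open Cfsg Cfsg.Agent.Lib.Helper1

variable {G : Type u} [Group G] [Finite G]

theorem mem_map_conj {K : Subgroup G} {g y : G} :
    y ∈ K.map (MulAut.conj g).toMonoidHom ↔ ∃ k ∈ K, y = g * k * g⁻¹ := by
  rw [Subgroup.mem_map]
  constructor
  · rintro ⟨k, hk, rfl⟩
    exact ⟨k, hk, by simp [MulAut.conj_apply]⟩
  · rintro ⟨k, hk, rfl⟩
    exact ⟨k, hk, by simp [MulAut.conj_apply]⟩

theorem norm_of_map_eq {K : Subgroup G} {g : G}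
    (h : K.map (MulAut.conj g).toMonoidHom = K) : g ∈ Subgroup.normalizer (K : Set G) := by
  rw [Subgroup.mem_normalizer_iff]
  intro x
  constructor
  · intro hx
    rw [← h]
    exact mem_map_conj.mpr ⟨x, hx, rfl⟩
  · intro hx
    rw [← h] at hx
    obtain ⟨k, hk, hk'⟩ := mem_map_conj.mp hx
    have : x = k := by
      have := congrArg (fun t => g⁻¹ * t * g) hk'
      simpa [mul_assoc] using this
    rw [this]; exact hk

theorem map_eq_of_norm {K : Subgroup G} {g : G}
    (hg : g ∈ Subgroup.normalizer (K : Set G)) : K.map (MulAut.conj g).toMonoidHom = K := by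
  ext x
  rw [mem_map_conj]
  constructor
  · rintro ⟨k, hk, rfl⟩
    exact (Subgroup.mem_normalizer_iff.mp hg k).mp hk
  · intro hx
    refine ⟨g⁻¹ * x * g, ?_, by group⟩
    have := (Subgroup.mem_normalizer_iff.mp (Subgroup.inv_mem _ hg) x).mp hx
    simpa using this

theorem map_conj_mul (K : Subgroup G) (a b : G) :
    (K.map (MulAut.conj b).toMonoidHom).map (MulAut.conj a).toMonoidHom =
      K.map (MulAut.conj (a * b)).toMonoidHom := by
  ext x
  rw [mem_map_conj, mem_map_conj]
  constructor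
  · rintro ⟨y, hy, rfl⟩
    obtain ⟨k, hk, rfl⟩ := mem_map_conj.mp hy
    exact ⟨k, hk, by group⟩
  · rintro ⟨k, hk, rfl⟩
    exact ⟨b * k * b⁻¹, mem_map_conj.mpr ⟨k, hk, rfl⟩, by group⟩

/-- a subgroup which is not a 2-group contains a nontrivial element of odd order -/
theorem exists_odd_of_not_two_group {K : Subgroup G} (hK : ¬ IsPGroup 2 K) :
    ∃ x ∈ K, x ≠ 1 ∧ Odd (orderOf x) := by
  by_contra hcon
  push Not at hcon
  apply hK
  intro g
  have hpos : orderOf (g : G) ≠ 0 := (orderOf_pos (g : G)).ne'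
  obtain ⟨k, m, hm, hkm⟩ := Nat.exists_eq_two_pow_mul_odd hpos
  refine ⟨k, ?_⟩
  have hd : 2 ^ k ∣ orderOf (g : G) := ⟨m, hkm⟩
  have ho : orderOf ((g : G) ^ 2 ^ k) = m := by
    rw [orderOf_pow_of_dvd (by positivity) hd, hkm]
    exact Nat.mul_div_cancel_left m (by positivity)
  have h1 : (g : G) ^ 2 ^ k = 1 := by
    by_contra hne
    exact hcon _ (K.pow_mem g.2 _) hne (ho ▸ hm)
  apply Subtype.ext
  simpa using h1

/-- with `F(G) = 1`, a normal commutative subgroup is trivial -/
theorem eq_bot_of_normal_comm (hFb : fittingSubgroup G = ⊥) {N : Subgroup G} (hN : N.Normal)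
    (hc : ∀ a ∈ N, ∀ b ∈ N, a * b = b * a) : N = ⊥ := by
  have := Cfsg.Agent.Lib.Helper1.le_fittingSubgroup hN (isNilpotent_of_comm hc)
  rwa [hFb, le_bot_iff] at this

/-- an element of a component centralizing it is trivial when `F(G) = 1` -/
theorem eq_one_of_mem_comp_cent (hFb : fittingSubgroup G = ⊥) {K : Subgroup G}
    (hK : IsComponent K) {y : G} (hy : y ∈ K) (hc : ∀ k ∈ K, k * y = y * k) : y = 1 := by
  have h1 := Cfsg.Agent.Lib.Helper3.Iso.component_center_eq_bot hFb hK
  have h2 : (⟨y, hy⟩ : K) ∈ Subgroup.center K := by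
    rw [Subgroup.mem_center_iff]
    intro k
    exact Subtype.ext (hc k k.2)
  rw [h1, Subgroup.mem_bot] at h2
  exact congrArg Subtype.val h2

/-- distinct components commute elementwise -/
theorem comp_comm {K L : Subgroup G} (hK : IsComponent K) (hL : IsComponent L) (hne : K ≠ L)
    {a b : G} (ha : a ∈ K) (hb : b ∈ L) : a * b = b * a := by
  have h1 := (Cfsg.Agent.Lib.Helper2.isComponent_eq_or_commutator_eq_bot hK hL).resolve_left hne
  rw [Subgroup.commutator_eq_bot_iff_le_centralizer] at h1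
  exact (Subgroup.mem_centralizer_iff.mp (h1 ha) b hb).symm

/-- if `F(G) = 1` and `K` is the unique component, then `F*(G)` is simple non-abelian -/
theorem fstar_simple_of_unique (hFb : fittingSubgroup G = ⊥) {K : Subgroup G}
    (hK : IsComponent K) (huniq : ∀ K' : Subgroup G, IsComponent K' → K' = K) :
    IsSimpleGroup (generalizedFittingSubgroup G) ∧
      ¬ IsMulCommutative (generalizedFittingSubgroup G) := by
  have hFs : generalizedFittingSubgroup G = layer G := by
    unfold generalizedFittingSubgroup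
    rw [hFb, sup_bot_eq]
  have hlK : layer G = K := by
    unfold layer
    have : {K' : Subgroup G | IsComponent K'} = {K} := by
      ext K'
      simp only [Set.mem_setOf_eq, Set.mem_singleton_iff]
      constructor
      · exact huniq K'
      · rintro rfl; exact hK
    rw [this, sSup_singleton]
  have hFK : generalizedFittingSubgroup G = K := hFs.trans hlK
  rw [hFK]
  have hc := Cfsg.Agent.Lib.Helper3.Iso.component_center_eq_bot hFb hK
  refine ⟨Cfsg.Agent.Lib.Helper2.isSimpleGroup_of_isQuasisimple hK.2 hc, ?_⟩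
  haveI : Group.IsPerfect K := hK.2.1
  haveI : Nontrivial K :=
    (Subgroup.nontrivial_iff_ne_bot _).mpr (Cfsg.Agent.Lib.Helper2.isComponent_ne_bot hK)
  exact Group.IsPerfect.not_isMulCommutative K

namespace MC

variable {V : Subgroup G}

theorem fstar_eq_layer (h : MC G V) : generalizedFittingSubgroup G = layer G := by
  unfold generalizedFittingSubgroup
  rw [h.fitting_eq_bot, sup_bot_eq]

/-- a component exists -/
theorem exists_component (h : MC G V) : ∃ K : Subgroup G, IsComponent K := by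
  by_contra hno
  push Not at hno
  obtain ⟨w, hw, hw1⟩ := h.exists_ne_one
  apply h.no_cent hw hw1
  rw [h.fstar_eq_layer]
  unfold layer
  have : {K : Subgroup G | IsComponent K} = ∅ := by
    ext K; simp [hno K]
  rw [this, sSup_empty]
  exact bot_le

/-- Step 6a: all components are conjugate -/
theorem components_conj (h : MC G V) {K L : Subgroup G} (hK : IsComponent K)
    (hL : IsComponent L) : ∃ g : G, L = K.map (MulAut.conj g).toMonoidHom := by
  by_contra hno
  push Not at hno
  have hFb := h.fitting_eq_bot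
  haveI hAn : (Subgroup.normalClosure (K : Set G)).Normal := Subgroup.normalClosure_normal
  have hBn : (Subgroup.centralizer (Subgroup.normalClosure (K : Set G) : Set G)).Normal :=
    inferInstance
  have hKA : K ≤ Subgroup.normalClosure (K : Set G) := Subgroup.le_normalClosure
  have hA1 : Subgroup.normalClosure (K : Set G) ≠ ⊥ := by
    intro hb
    apply Cfsg.Agent.Lib.Helper2.isComponent_ne_bot hK
    rw [eq_bot_iff, ← hb]; exact hKA
  have hAB : Subgroup.normalClosure (K : Set G) ⊓
      Subgroup.centralizer (Subgroup.normalClosure (K : Set G) : Set G) = ⊥ := by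
    apply eq_bot_of_normal_comm hFb inferInstance
    intro a ha b hb
    exact Subgroup.mem_centralizer_iff.mp (Subgroup.mem_inf.mp hb).2 a (Subgroup.mem_inf.mp ha).1
  -- each component lies in `A` or `B`
  have hcomp : ∀ L' : Subgroup G, IsComponent L' →
      L' ≤ Subgroup.normalClosure (K : Set G) ∨
      L' ≤ Subgroup.centralizer (Subgroup.normalClosure (K : Set G) : Set G) := by
    intro L' hL'
    by_cases hex : ∃ g : G, L' = K.map (MulAut.conj g).toMonoidHom
    · left
      obtain ⟨g, rfl⟩ := hex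
      intro y hy
      obtain ⟨k, hk, rfl⟩ := mem_map_conj.mp hy
      exact hAn.conj_mem k (hKA hk) g
    · right
      push Not at hex
      intro y hy
      rw [Subgroup.mem_centralizer_iff]
      have hle : Subgroup.normalClosure (K : Set G) ≤ Subgroup.centralizer ({y} : Set G) := by
        unfold Subgroup.normalClosure
        rw [Subgroup.closure_le]
        intro a ha
        rw [Group.mem_conjugatesOfSet_iff] at ha
        obtain ⟨b, hb, hba⟩ := ha
        rw [isConj_iff] at hba
        obtain ⟨c, rfl⟩ := hba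
        show c * b * c⁻¹ ∈ Subgroup.centralizer ({y} : Set G)
        rw [Subgroup.mem_centralizer_singleton_iff]
        have hcb : c * b * c⁻¹ ∈ K.map (MulAut.conj c).toMonoidHom :=
          mem_map_conj.mpr ⟨b, hb, rfl⟩
        exact (comp_comm hL' (Cfsg.Agent.Lib.Helper2.isComponent_conj c hK) (hex c) hy hcb).symm
      intro a ha
      exact (Subgroup.mem_centralizer_singleton_iff.mp (hle ha))
  have hLB : L ≤ Subgroup.centralizer (Subgroup.normalClosure (K : Set G) : Set G) := by
    rcases hcomp L hL with h1 | h1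
    · exfalso
      -- `L ≤ A` but `L` is not a conjugate: then `L` centralizes `A`, so `L` is abelian
      have h2 : L ≤ Subgroup.centralizer (Subgroup.normalClosure (K : Set G) : Set G) := by
        intro y hy
        rw [Subgroup.mem_centralizer_iff]
        have hle : Subgroup.normalClosure (K : Set G) ≤ Subgroup.centralizer ({y} : Set G) := by
          unfold Subgroup.normalClosure
          rw [Subgroup.closure_le]
          intro a ha
          rw [Group.mem_conjugatesOfSet_iff] at ha
          obtain ⟨b, hb, hba⟩ := ha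
          rw [isConj_iff] at hba
          obtain ⟨c, rfl⟩ := hba
          show c * b * c⁻¹ ∈ Subgroup.centralizer ({y} : Set G)
          rw [Subgroup.mem_centralizer_singleton_iff]
          have hcb : c * b * c⁻¹ ∈ K.map (MulAut.conj c).toMonoidHom :=
            mem_map_conj.mpr ⟨b, hb, rfl⟩
          exact (comp_comm hL (Cfsg.Agent.Lib.Helper2.isComponent_conj c hK) (hno c) hy hcb).symm
        intro a ha
        exact (Subgroup.mem_centralizer_singleton_iff.mp (hle ha))
      have h3 : L ≤ ⊥ := by rw [← hAB]; exact le_inf h1 h2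
      exact Cfsg.Agent.Lib.Helper2.isComponent_ne_bot hL (le_bot_iff.mp h3)
    · exact h1
  have hB1 : Subgroup.centralizer (Subgroup.normalClosure (K : Set G) : Set G) ≠ ⊥ := by
    intro hb
    apply Cfsg.Agent.Lib.Helper2.isComponent_ne_bot hL
    rw [eq_bot_iff, ← hb]; exact hLB
  obtain ⟨w, hw, hw1, hwA, hwB⟩ := h.decomp hAn hBn hA1 hB1 hAB
  apply h.no_cent hw hw1
  rw [h.fstar_eq_layer]
  unfold layer
  apply sSup_le
  intro L' hL'
  rcases hcomp L' hL' with h1 | h1
  · exact h1.trans hwA
  · exact h1.trans hwB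

/-- every component is a `V`-conjugate of `K` -/
theorem components_conj_V (h : MC G V) {K L : Subgroup G} (hK : IsComponent K)
    (hL : IsComponent L) : ∃ u ∈ V, L = K.map (MulAut.conj u).toMonoidHom := by
  obtain ⟨g, hg⟩ := h.components_conj hK hL
  have hRn : (generalizedFittingSubgroup G).Normal :=
    Cfsg.Agent.Lib.Helper8.generalizedFittingSubgroup_normal
  have hg' : g ∈ generalizedFittingSubgroup G ⊔ V := by
    rw [sup_comm, h.sup_eq_top]; exact Subgroup.mem_top g
  have hVn : V ≤ Subgroup.normalizer (generalizedFittingSubgroup G : Set G) := by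
    rw [Subgroup.normalizer_eq_top_iff.mpr hRn]; exact le_top
  obtain ⟨r, hr, u, hu, rfl⟩ := exists_mul_of_mem_sup hVn hg'
  refine ⟨u, hu, ?_⟩
  rw [hg, ← map_conj_mul]
  apply map_eq_of_norm
  rw [h.fstar_eq_layer] at hr
  exact Cfsg.Agent.Lib.Helper8.CompCent.layer_le_normalizer
    (Cfsg.Agent.Lib.Helper2.isComponent_conj u hK) hr

/-- components are not `2`-groups -/
theorem comp_not_two_group (h : MC G V) {K : Subgroup G} (hK : IsComponent K) :
    ¬ IsPGroup 2 K := by
  intro hp
  haveI : Fact (Nat.Prime 2) := ⟨Nat.prime_two⟩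
  have := Cfsg.Agent.Lib.Helper7.subnormal_pGroup_le_pCore hK.1 hp
  rw [h.pCore_eq_bot, le_bot_iff] at this
  exact Cfsg.Agent.Lib.Helper2.isComponent_ne_bot hK this

/-- Step 6b: `V` normalizes every component -/
theorem V_le_normalizer (h : MC G V) {K : Subgroup G} (hK : IsComponent K) :
    V ≤ Subgroup.normalizer (K : Set G) := by
  by_contra hnot
  have hFb := h.fitting_eq_bot
  obtain ⟨v, hv, hvN⟩ := SetLike.not_le_iff_exists.mp hnot
  have hV1le : V ⊓ Subgroup.normalizer (K : Set G) ≤ Subgroup.normalizer (K : Set G) :=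
    inf_le_right
  -- moving `K` by an element of `V` outside the normalizer gives a disjoint component
  have hmove : ∀ u ∈ V, u ∉ Subgroup.normalizer (K : Set G) →
      K ≠ K.map (MulAut.conj u).toMonoidHom := by
    intro u hu hun heq
    exact hun (norm_of_map_eq heq.symm)
  obtain ⟨x, hxK, hx1, hxodd⟩ := exists_odd_of_not_two_group (h.comp_not_two_group hK)
  -- (i) `V₁ ≠ 1`
  have hV1 : V ⊓ Subgroup.normalizer (K : Set G) ≠ ⊥ := by
    have hK' := Cfsg.Agent.Lib.Helper2.isComponent_conj v hK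
    have hne := hmove v hv hvN
    have hx' : v * x * v⁻¹ ∈ K.map (MulAut.conj v).toMonoidHom := mem_map_conj.mpr ⟨x, hxK, rfl⟩
    have hxx' : x * (v * x * v⁻¹) = (v * x * v⁻¹) * x := comp_comm hK hK' hne hxK hx'
    have hvv : v * v = 1 := by rw [← pow_two]; exact h.sq hv
    have hvinv : v⁻¹ = v := h.inv_eq hv
    have hodd : Odd (orderOf (x⁻¹ * (v * x * v⁻¹))) := by
      apply odd_orderOf_mul _ (odd_orderOf_inv hxodd) (odd_orderOf_conj v hxodd)
      show x⁻¹ * (v * x * v⁻¹) = (v * x * v⁻¹) * x⁻¹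
      have := congrArg (fun t => x⁻¹ * t * x⁻¹) hxx'
      simpa [mul_assoc] using this.symm
    have hinv : v * (x⁻¹ * (v * x * v⁻¹)) * v⁻¹ = (x⁻¹ * (v * x * v⁻¹))⁻¹ := by
      have e1 : v * (x⁻¹ * (v * x * v⁻¹)) * v⁻¹ = (v * x * v⁻¹)⁻¹ * ((v * v) * x * (v * v)⁻¹) := by
        group
      rw [e1, hvv]
      simp only [one_mul, inv_one, mul_one, mul_inv_rev, inv_inv]
    have hh1 : x⁻¹ * (v * x * v⁻¹) ≠ 1 := by
      intro h1
      have h2 : v * x * v⁻¹ = x := by
        have := congrArg (fun t => x * t) h1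
        simpa using this
      have h3 : x ∈ K ⊓ K.map (MulAut.conj v).toMonoidHom :=
        Subgroup.mem_inf.mpr ⟨hxK, h2 ▸ hx'⟩
      rw [Cfsg.Agent.Lib.Helper3.Iso.component_inf_eq_bot hFb hK hK' hne, Subgroup.mem_bot] at h3
      exact hx1 h3
    obtain ⟨w, hw, hw1, hwh⟩ := h.hS _ v hv hodd hinv
    by_cases hwN : w ∈ Subgroup.normalizer (K : Set G)
    · intro hb
      have : w ∈ V ⊓ Subgroup.normalizer (K : Set G) := Subgroup.mem_inf.mpr ⟨hw, hwN⟩
      rw [hb, Subgroup.mem_bot] at this
      exact hw1 this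
    · -- then `w v` normalizes `K`
      have hne3 := hmove w hw hwN
      have hK3 := Cfsg.Agent.Lib.Helper2.isComponent_conj w hK
      have hK4 := Cfsg.Agent.Lib.Helper2.isComponent_conj w hK'
      have h4 : (K.map (MulAut.conj v).toMonoidHom).map (MulAut.conj w).toMonoidHom = K := by
        by_contra hne4
        apply hx1
        have hxinv : x⁻¹ = (w * x⁻¹ * w⁻¹) * (w * (v * x * v⁻¹) * w⁻¹) * (v * x * v⁻¹)⁻¹ := by
          have e1 : (w * x⁻¹ * w⁻¹) * (w * (v * x * v⁻¹) * w⁻¹) =
              w * (x⁻¹ * (v * x * v⁻¹)) * w⁻¹ := by group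
          rw [e1, hwh]; group
        have hc : ∀ k ∈ K, k * x⁻¹ = x⁻¹ * k := by
          intro k hk
          have c1 : k * (w * x⁻¹ * w⁻¹) = (w * x⁻¹ * w⁻¹) * k :=
            comp_comm hK hK3 hne3 hk (mem_map_conj.mpr ⟨x⁻¹, K.inv_mem hxK, rfl⟩)
          have c2 : k * (w * (v * x * v⁻¹) * w⁻¹) = (w * (v * x * v⁻¹) * w⁻¹) * k :=
            comp_comm hK hK4 (Ne.symm hne4) hk (mem_map_conj.mpr ⟨_, hx', rfl⟩)
          have c3 : k * (v * x * v⁻¹)⁻¹ = (v * x * v⁻¹)⁻¹ * k :=
            comp_comm hK hK' hne hk (Subgroup.inv_mem _ hx')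
          rw [hxinv]
          calc k * ((w * x⁻¹ * w⁻¹) * (w * (v * x * v⁻¹) * w⁻¹) * (v * x * v⁻¹)⁻¹)
              = (k * (w * x⁻¹ * w⁻¹)) * (w * (v * x * v⁻¹) * w⁻¹) * (v * x * v⁻¹)⁻¹ := by
                simp only [mul_assoc]
            _ = (w * x⁻¹ * w⁻¹) * (k * (w * (v * x * v⁻¹) * w⁻¹)) * (v * x * v⁻¹)⁻¹ := by
                rw [c1]; simp only [mul_assoc]
            _ = (w * x⁻¹ * w⁻¹) * (w * (v * x * v⁻¹) * w⁻¹) * (k * (v * x * v⁻¹)⁻¹) := by
                rw [c2]; simp only [mul_assoc]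
            _ = (w * x⁻¹ * w⁻¹) * (w * (v * x * v⁻¹) * w⁻¹) * (v * x * v⁻¹)⁻¹ * k := by
                rw [c3]; simp only [mul_assoc]
        have := eq_one_of_mem_comp_cent hFb hK (K.inv_mem hxK) hc
        exact inv_eq_one.mp this
      rw [map_conj_mul] at h4
      have hwvN : w * v ∈ Subgroup.normalizer (K : Set G) := norm_of_map_eq h4
      intro hb
      have hmem : w * v ∈ V ⊓ Subgroup.normalizer (K : Set G) :=
        Subgroup.mem_inf.mpr ⟨V.mul_mem hw hv, hwvN⟩
      rw [hb, Subgroup.mem_bot] at hmem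
      -- `w = v`, so `v` both centralizes and inverts `h`
      have hwv : w = v := by
        have := eq_inv_of_mul_eq_one_left hmem
        rw [this, hvinv]
      rw [hwv] at hwh
      have h5 : (x⁻¹ * (v * x * v⁻¹)) = (x⁻¹ * (v * x * v⁻¹))⁻¹ := by
        rw [← hinv, hwh]; group
      have h6 : (x⁻¹ * (v * x * v⁻¹)) ^ 2 = 1 := by
        rw [pow_two]
        nth_rewrite 1 [h5]
        exact inv_mul_cancel _
      exact hh1 (eq_one_of_sq_of_odd h6 hodd)
  -- (ii) the relative Sidki condition
  have hKn : K ≤ Subgroup.normalizer (K : Set G) := Subgroup.le_normalizer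
  have hHN : K ⊔ (V ⊓ Subgroup.normalizer (K : Set G)) ≤ Subgroup.normalizer (K : Set G) :=
    sup_le hKn hV1le
  have hrel : RelSidki (K ⊔ (V ⊓ Subgroup.normalizer (K : Set G)))
      (V ⊓ Subgroup.normalizer (K : Set G)) := by
    intro y hy v₁ hv₁ hyodd hyinv
    have hyK : y ∈ K := mem_of_odd_of_mem_sup hV1le
      (fun w hw => h.sq (Subgroup.mem_inf.mp hw).1) hy hyodd
    by_cases hy1 : y = 1
    · obtain ⟨z, hz⟩ := Subgroup.ne_bot_iff_exists_ne_one.mp hV1
      refine ⟨z.1, z.2, fun hh => hz (Subtype.ext hh), ?_⟩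
      rw [hy1]; simp
    · obtain ⟨w', hw', hw'1, hw'y⟩ := h.hS y v₁ (Subgroup.mem_inf.mp hv₁).1 hyodd hyinv
      refine ⟨w', Subgroup.mem_inf.mpr ⟨hw', ?_⟩, hw'1, hw'y⟩
      by_contra hw'N
      have hne3 := hmove w' hw' hw'N
      have hK3 := Cfsg.Agent.Lib.Helper2.isComponent_conj w' hK
      have hy3 : y ∈ K.map (MulAut.conj w').toMonoidHom := by
        refine mem_map_conj.mpr ⟨y, hyK, ?_⟩
        rw [hw'y]; group
      have h3 : y ∈ K ⊓ K.map (MulAut.conj w').toMonoidHom := Subgroup.mem_inf.mpr ⟨hyK, hy3⟩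
      rw [Cfsg.Agent.Lib.Helper3.Iso.component_inf_eq_bot hFb hK hK3 hne3, Subgroup.mem_bot] at h3
      exact hy1 h3
  -- (iii) minimality
  have hHtop : K ⊔ (V ⊓ Subgroup.normalizer (K : Set G)) ≠ ⊤ := by
    intro htop
    rw [htop] at hHN
    exact hvN (hHN (Subgroup.mem_top v))
  obtain ⟨w, hwV1, hw1, hwK⟩ := h.min_sub hHtop inf_le_left le_sup_right hV1 hrel hK.1
    le_sup_left hHN
  have hw : w ∈ V := (Subgroup.mem_inf.mp hwV1).1
  -- (iv) `w` centralizes the layer
  apply h.no_cent hw hw1
  rw [h.fstar_eq_layer]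
  unfold layer
  apply sSup_le
  intro L hL
  obtain ⟨u, hu, rfl⟩ := h.components_conj_V hK hL
  intro y hy
  obtain ⟨k, hk, rfl⟩ := mem_map_conj.mp hy
  rw [Subgroup.mem_centralizer_singleton_iff]
  have hwk : k * w = w * k := Subgroup.mem_centralizer_singleton_iff.mp (hwK hk)
  have hwu : w * u = u * w := h.comm hw hu
  have hwu' : w * u⁻¹ = u⁻¹ * w := by rw [h.inv_eq hu]; exact hwu
  calc u * k * u⁻¹ * w = u * k * (u⁻¹ * w) := by group
    _ = u * k * (w * u⁻¹) := by rw [hwu']
    _ = u * (k * w) * u⁻¹ := by group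
    _ = u * (w * k) * u⁻¹ := by rw [hwk]
    _ = (u * w) * k * u⁻¹ := by group
    _ = (w * u) * k * u⁻¹ := by rw [hwu]
    _ = w * (u * k * u⁻¹) := by group

/-- the conclusion -/
theorem main (h : MC G V) :
    IsSimpleGroup (generalizedFittingSubgroup G) ∧
      ¬ IsMulCommutative (generalizedFittingSubgroup G) ∧
      V ⊔ generalizedFittingSubgroup G = ⊤ := by
  obtain ⟨K, hK⟩ := h.exists_component
  have huniq : ∀ K' : Subgroup G, IsComponent K' → K' = K := by
    intro K' hK'
    obtain ⟨u, hu, rfl⟩ := h.components_conj_V hK hK'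
    exact map_eq_of_norm (h.V_le_normalizer hK hu)
  obtain ⟨h1, h2⟩ := fstar_simple_of_unique h.fitting_eq_bot hK huniq
  exact ⟨h1, h2, h.sup_eq_top⟩

end MC

end Cfsg.Agent.Lib.Helper3.Sidki
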