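import Mathlib
import Cfsg.Agent.Lib.Helper3.SpMinDefs
import Cfsg.Agent.Lib.Helper2.SpMinA8
import Cfsg.Agent.Lib.Helper4.SpMinT
import Cfsg.Agent.Lib.Helper4.SpMinB0
import Cfsg.Agent.Lib.Helper6.SpMinB3
import Cfsg.Agent.Lib.Helper7.SpMinB4
import Cfsg.Agent.Lib.Helper7.SpMinB5
import Cfsg.Agent.Lib.Helper7.SpMinC
import Cfsg.Agent.Lib.Helper8.SpMinQ
import Cfsg.Agent.Lib.Helper5.SpMinB1
import Cfsg.Agent.Lib.Helper5.SpMinB2
set_option autoImplicit false
set_option maxHeartbeats 4000000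
set_option linter.unusedVariables false
set_option linter.unusedSectionVars false
set_option linter.style.longLine false
open Matrix Cfsg

namespace Cfsg.Agent.Lib.Helper3.SpMin

open Cfsg.Agent.Lib.Helper5 Cfsg.Agent.Lib.Helper5.SympTv
open Cfsg.Agent.Lib.Helper2.SpMin Cfsg.Agent.Lib.Helper4.SpMin Cfsg.Agent.Lib.Helper5.SpMin Cfsg.Agent.Lib.Helper6.SpMin
open Cfsg.Agent.Lib.Helper7.SpMin Cfsg.Agent.Lib.Helper8.SpMin

variable {F : Type*} [Field F] [Fintype F]

/-- uniqueness of the second coordinate -/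
theorem qel_uniq (hF : Fintype.card F = 2) (l : ℕ) (H : Subgroup (symplecticGroup (Fin (1 + l)) F))
    (hnt : t (1 + l) (SympCard.e0 F l) ∉ H) {u : Fin l ⊕ Fin l → F} {c c' : F}
    (h1 : qel l u c ∈ H) (h2 : qel l u c' ∈ H) : c = c' := by
  by_contra hne
  apply hnt
  have hm := H.mul_mem h1 h2
  rw [qel_mul hF, sympForm_self, add_zero] at hm
  have huu : u + u = 0 := by
    funext i
    exact add_self_eq_zero' hF (u i)
  rw [huu] at hm
  have hcc : c + c' = 1 := by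
    rcases eq_zero_or_one hF c with h | h <;> rcases eq_zero_or_one hF c' with h' | h' <;>
      simp_all
  rw [hcc, qel_zero_one hF] at hm
  exact hm

/-- the set of first coordinates -/
def Uset (l : ℕ) (H : Subgroup (symplecticGroup (Fin (1 + l)) F)) : Set (Fin l ⊕ Fin l → F) :=
  {u | ∃ c : F, qel l u c ∈ H}

theorem Uset_zero (hF : Fintype.card F = 2) (l : ℕ) (H : Subgroup (symplecticGroup (Fin (1 + l)) F)) :
    (0 : Fin l ⊕ Fin l → F) ∈ Uset l H := ⟨0, by rw [qel_zero_zero hF]; exact H.one_mem⟩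

theorem Uset_add (hF : Fintype.card F = 2) (l : ℕ) (H : Subgroup (symplecticGroup (Fin (1 + l)) F))
    (x : Fin l ⊕ Fin l → F) (hx : x ∈ Uset l H) (y : Fin l ⊕ Fin l → F) (hy : y ∈ Uset l H) :
    x + y ∈ Uset l H := by
  obtain ⟨c, hc⟩ := hx
  obtain ⟨c', hc'⟩ := hy
  exact ⟨_, by rw [← qel_mul hF]; exact H.mul_mem hc hc'⟩

/-- full `Uset` gives a quadratic form -/
theorem form_of_full (hF : Fintype.card F = 2) (l : ℕ) (H : Subgroup (symplecticGroup (Fin (1 + l)) F))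
    (hnt : t (1 + l) (SympCard.e0 F l) ∉ H) (hfull : ∀ u, u ∈ Uset l H) :
    ∃ c : QF l F, ∀ u, qel l u (c.1 u) ∈ H := by
  choose c hc using hfull
  refine ⟨⟨c, ?_⟩, hc⟩
  intro x y
  have hm := H.mul_mem (hc x) (hc y)
  rw [qel_mul hF] at hm
  exact qel_uniq hF l H hnt (hc (x + y)) hm

end Cfsg.Agent.Lib.Helper3.SpMin

namespace Cfsg.Agent.Lib.Helper3.SpMin

open Cfsg.Agent.Lib.Helper5 Cfsg.Agent.Lib.Helper5.SympTv
open Cfsg.Agent.Lib.Helper2.SpMin Cfsg.Agent.Lib.Helper4.SpMin Cfsg.Agent.Lib.Helper5.SpMin Cfsg.Agent.Lib.Helper6.SpMin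
open Cfsg.Agent.Lib.Helper7.SpMin Cfsg.Agent.Lib.Helper8.SpMin

variable {F : Type*} [Field F] [Fintype F]

theorem ker_iff (l : ℕ) (π : ↥(Ge F l) →* symplecticGroup (Fin l) F)
    (hπ : ∀ (g : ↥(Ge F l)) (u : Fin l ⊕ Fin l → F), ∃ a : F,
        g.1.1 *ᵥ emb l u = emb l ((π g).1 *ᵥ u) + a • SympCard.e0 F l)
    (g : ↥(Ge F l)) :
    g ∈ π.ker ↔ ∀ u : Fin l ⊕ Fin l → F, ∃ a : F, g.1.1 *ᵥ emb l u = emb l u + a • SympCard.e0 F l := by
  rw [MonoidHom.mem_ker]
  constructor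
  · intro h u
    obtain ⟨a, ha⟩ := hπ g u
    refine ⟨a, ?_⟩
    rw [ha, h]
    show emb l ((1 : Matrix _ _ F) *ᵥ u) + _ = _
    rw [one_mulVec]
  · intro h
    apply Subtype.ext
    show (π g).1 = (1 : Matrix _ _ F)
    rw [ext_iff_mulVec]
    intro u
    obtain ⟨a, ha⟩ := hπ g u
    obtain ⟨a', ha'⟩ := h u
    rw [ha] at ha'
    rw [one_mulVec]
    exact (emb_add_smul_inj l _ _ _ _ ha').1

/-- the bijection `(u,c) ↦ qel u c` onto the kernel -/
theorem card_ker (hF : Fintype.card F = 2) (l : ℕ) (π : ↥(Ge F l) →* symplecticGroup (Fin l) F)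
    (hπ : ∀ (g : ↥(Ge F l)) (u : Fin l ⊕ Fin l → F), ∃ a : F,
        g.1.1 *ᵥ emb l u = emb l ((π g).1 *ᵥ u) + a • SympCard.e0 F l)
    (H : Subgroup (symplecticGroup (Fin (1 + l)) F)) :
    Nat.card ↥π.ker = 2 ^ (2 * l + 1) ∧
    Nat.card ↥((H.subgroupOf (Ge F l)) ⊓ π.ker) =
      Nat.card {p : (Fin l ⊕ Fin l → F) × F // qel l p.1 p.2 ∈ H} := by
  have hmemker : ∀ p : (Fin l ⊕ Fin l → F) × F,
      (⟨qel l p.1 p.2, qel_mem_Ge hF l p.1 p.2⟩ : ↥(Ge F l)) ∈ π.ker := by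
    intro p
    rw [ker_iff l π hπ]
    intro u
    exact qel_mulVec_emb hF l p.1 u p.2
  let f : (Fin l ⊕ Fin l → F) × F → ↥π.ker := fun p => ⟨⟨qel l p.1 p.2, qel_mem_Ge hF l p.1 p.2⟩, hmemker p⟩
  have hfinj : Function.Injective f := by
    intro p p' h
    have h1 : qel l p.1 p.2 = qel l p'.1 p'.2 := congrArg (fun x => x.1.1) h
    obtain ⟨h2, h3⟩ := qel_injective hF l _ _ _ _ h1
    exact Prod.ext h2 h3
  have hfsurj : Function.Surjective f := by
    intro g
    obtain ⟨u, c, huc⟩ := exists_qel_of hF l g.1.1 g.1.2 ((ker_iff l π hπ g.1).1 g.2)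
    refine ⟨(u, c), ?_⟩
    apply Subtype.ext
    apply Subtype.ext
    exact huc.symm
  constructor
  · rw [← Nat.card_congr (Equiv.ofBijective f ⟨hfinj, hfsurj⟩), Nat.card_prod,
      Nat.card_eq_fintype_card, Nat.card_eq_fintype_card, Fintype.card_fun, Fintype.card_sum,
      Fintype.card_fin, hF]
    rw [pow_succ]
    congr 2
    omega
  · symm
    let f2 : {p : (Fin l ⊕ Fin l → F) × F // qel l p.1 p.2 ∈ H} →
        ↥((H.subgroupOf (Ge F l)) ⊓ π.ker) := fun p => ⟨(f p.1).1, by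
      rw [Subgroup.mem_inf]
      refine ⟨?_, (f p.1).2⟩
      rw [Subgroup.mem_subgroupOf]
      exact p.2⟩
    have hf2inj : Function.Injective f2 := by
      intro p p' h
      apply Subtype.ext
      apply hfinj
      apply Subtype.ext
      exact congrArg (fun x => x.1) h
    have hf2surj : Function.Surjective f2 := by
      intro g
      have hg := g.2
      rw [Subgroup.mem_inf] at hg
      obtain ⟨p, hp⟩ := hfsurj ⟨g.1, hg.2⟩
      have hpH : qel l p.1 p.2 ∈ H := by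
        have h1 : (f p).1 = g.1 := congrArg Subtype.val hp
        have h2 := hg.1
        rw [Subgroup.mem_subgroupOf, ← h1] at h2
        exact h2
      refine ⟨⟨p, hpH⟩, ?_⟩
      apply Subtype.ext
      have h1 : (f p).1 = g.1 := congrArg Subtype.val hp
      exact h1
    exact Nat.card_congr (Equiv.ofBijective f2 ⟨hf2inj, hf2surj⟩)

theorem card_K_eq (hF : Fintype.card F = 2) (l : ℕ) (H : Subgroup (symplecticGroup (Fin (1 + l)) F))
    (hnt : t (1 + l) (SympCard.e0 F l) ∉ H) :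
    Nat.card {p : (Fin l ⊕ Fin l → F) × F // qel l p.1 p.2 ∈ H} = Nat.card (Uset l H) := by
  let f : {p : (Fin l ⊕ Fin l → F) × F // qel l p.1 p.2 ∈ H} → Uset l H :=
    fun p => ⟨p.1.1, ⟨p.1.2, p.2⟩⟩
  have hinj : Function.Injective f := by
    intro p p' h
    have h1 : p.1.1 = p'.1.1 := congrArg Subtype.val h
    apply Subtype.ext
    refine Prod.ext h1 ?_
    have h2 := p'.2
    rw [← h1] at h2
    exact qel_uniq hF l H hnt p.2 h2
  have hsurj : Function.Surjective f := by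
    intro u
    obtain ⟨c, hc⟩ := u.2
    exact ⟨⟨(u.1, c), hc⟩, rfl⟩
  exact Nat.card_congr (Equiv.ofBijective f ⟨hinj, hsurj⟩)

/-- the counting formula -/
theorem count_formula (hF : Fintype.card F = 2) (l : ℕ) (H : Subgroup (symplecticGroup (Fin (1 + l)) F))
    (hnt : t (1 + l) (SympCard.e0 F l) ∉ H)
    (htr : ∀ v w : Fin (1 + l) ⊕ Fin (1 + l) → F, v ≠ 0 → w ≠ 0 → ∃ h ∈ H, h.1 *ᵥ v = w)
    (π : ↥(Ge F l) →* symplecticGroup (Fin l) F) (hπs : Function.Surjective π)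
    (hπ : ∀ (g : ↥(Ge F l)) (u : Fin l ⊕ Fin l → F), ∃ a : F,
        g.1.1 *ᵥ emb l u = emb l ((π g).1 *ᵥ u) + a • SympCard.e0 F l) :
    H.index * Nat.card (Uset l H) = ((H.subgroupOf (Ge F l)).map π).index * 2 ^ (2 * l + 1) := by
  have h1 := index_formula (Ge F l) π hπs H
  obtain ⟨h2, h3⟩ := card_ker hF l π hπ H
  rw [h2, h3, card_K_eq hF l H hnt, index_subgroupOf_eq l H htr] at h1
  exact h1

/-- invariance of `Uset` under the image of the stabilizer -/
theorem Uset_inv (hF : Fintype.card F = 2) (l : ℕ) (H : Subgroup (symplecticGroup (Fin (1 + l)) F))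
    (π : ↥(Ge F l) →* symplecticGroup (Fin l) F)
    (hπ : ∀ (g : ↥(Ge F l)) (u : Fin l ⊕ Fin l → F), ∃ a : F,
        g.1.1 *ᵥ emb l u = emb l ((π g).1 *ᵥ u) + a • SympCard.e0 F l)
    (s : symplecticGroup (Fin l) F) (hs : s ∈ (H.subgroupOf (Ge F l)).map π)
    (u : Fin l ⊕ Fin l → F) (c : F) (hu : qel l u c ∈ H) : qel l (s.1 *ᵥ u) c ∈ H := by
  obtain ⟨h, hh, rfl⟩ := hs
  rw [SetLike.mem_coe, Subgroup.mem_subgroupOf] at hh
  obtain ⟨a, ha⟩ := hπ h u
  rw [← qel_conj hF l h.1 h.2 u _ a ha c]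
  exact H.mul_mem (H.mul_mem hh hu) (H.inv_mem hh)

end Cfsg.Agent.Lib.Helper3.SpMin

namespace Cfsg.Agent.Lib.Helper3.SpMin

open Cfsg.Agent.Lib.Helper5 Cfsg.Agent.Lib.Helper5.SympTv
open Cfsg.Agent.Lib.Helper2.SpMin Cfsg.Agent.Lib.Helper4.SpMin Cfsg.Agent.Lib.Helper5.SpMin Cfsg.Agent.Lib.Helper6.SpMin
open Cfsg.Agent.Lib.Helper7.SpMin Cfsg.Agent.Lib.Helper8.SpMin

variable {F : Type*} [Field F] [Fintype F]

theorem n0_arith (l : ℕ) (hl : 1 ≤ l) :
    ∃ b : ℕ, 1 ≤ b ∧ 2 ^ l = 2 * b ∧ n0 l + b = 2 * b * b ∧ n0 (1 + l) + 2 * b = 8 * b * b ∧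
      2 ^ (2 * l) = 4 * b * b ∧ 2 ^ (2 * l + 1) = 8 * b * b := by
  obtain ⟨j, rfl⟩ : ∃ j, l = j + 1 := ⟨l - 1, by omega⟩
  refine ⟨2 ^ j, Nat.one_le_two_pow, by rw [pow_succ]; ring, ?_, ?_, ?_, ?_⟩
  · unfold n0
    have h1 : j + 1 - 1 = j := by omega
    rw [h1]
    have h2 : 1 ≤ 2 ^ (j + 1) := Nat.one_le_two_pow
    have h3 : 2 ^ j * (2 ^ (j + 1) - 1) = 2 ^ j * 2 ^ (j + 1) - 2 ^ j := by
      rw [Nat.mul_sub, mul_one]
    rw [h3]
    have h4 : 2 ^ j ≤ 2 ^ j * 2 ^ (j + 1) := Nat.le_mul_of_pos_right _ (by positivity)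
    rw [Nat.sub_add_cancel h4, pow_succ]
    ring
  · unfold n0
    have h1 : 1 + (j + 1) - 1 = j + 1 := by omega
    rw [h1]
    have h3 : 2 ^ (j + 1) * (2 ^ (1 + (j + 1)) - 1) = 2 ^ (j + 1) * 2 ^ (1 + (j + 1)) - 2 ^ (j + 1) := by
      rw [Nat.mul_sub, mul_one]
    rw [h3]
    have h4 : 2 ^ (j + 1) ≤ 2 ^ (j + 1) * 2 ^ (1 + (j + 1)) := Nat.le_mul_of_pos_right _ (by positivity)
    have h5 : 2 * 2 ^ j = 2 ^ (j + 1) := by rw [pow_succ]; ring
    rw [h5, Nat.sub_add_cancel h4]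
    have h6 : 1 + (j + 1) = j + 2 := by omega
    rw [h6, pow_succ, pow_succ, pow_succ]
    ring
  · have : 2 * (j + 1) = j + j + 2 := by ring
    rw [this, pow_add, pow_add]
    ring
  · have : 2 * (j + 1) + 1 = j + j + 3 := by ring
    rw [this, pow_add, pow_add]
    ring

/-- **Part C**: the local analysis at `e0`. -/
theorem local_form (hF : Fintype.card F = 2) (l : ℕ) (hl : 2 ≤ l)
    (H : Subgroup (symplecticGroup (Fin (1 + l)) F)) (hH : H.index < n0 (1 + l))
    (htr : ∀ v w : Fin (1 + l) ⊕ Fin (1 + l) → F, v ≠ 0 → w ≠ 0 → ∃ h ∈ H, h.1 *ᵥ v = w)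
    (hnt : t (1 + l) (SympCard.e0 F l) ∉ H) :
    ∃ c : QF l F, ∀ u, qel l u (c.1 u) ∈ H := by
  classical
  obtain ⟨π, hπs, hπ⟩ := exists_levi (F := F) l
  have hcount := count_formula hF l H hnt htr π hπs hπ
  have hinv := Uset_inv hF l H π hπ
  set M := (H.subgroupOf (Ge F l)).map π with hMdef
  have hinvU : ∀ s ∈ M, ∀ u ∈ Uset l H, s.1 *ᵥ u ∈ Uset l H := by
    intro s hs u hu
    obtain ⟨c, hc⟩ := hu
    exact ⟨c, hinv s hs u c hc⟩
  obtain ⟨k, hk, hUk⟩ := card_eq_two_pow hF l (Uset l H) (Uset_zero hF l H) (Uset_add hF l H)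
  obtain ⟨b, hb1, hb2, hb3, hb4, hb5, hb6⟩ := n0_arith l (by omega)
  have hMpos : 0 < M.index := Nat.pos_of_ne_zero Subgroup.index_ne_zero_of_finite
  by_cases hfull : ∀ u, u ∈ Uset l H
  · exact form_of_full hF l H hnt hfull
  exfalso
  push Not at hfull
  obtain ⟨u0, hu0⟩ := hfull
  have hu0ne : u0 ≠ 0 := by
    rintro rfl
    exact hu0 (Uset_zero hF l H)
  have hcardV : Nat.card (Fin l ⊕ Fin l → F) = 2 ^ (2 * l) := by
    rw [Nat.card_eq_fintype_card, Fintype.card_fun, Fintype.card_sum, Fintype.card_fin, hF]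
    congr 1; omega
  have hUlt : Nat.card (Uset l H) < 2 ^ (2 * l) := by
    rw [← hcardV, Nat.card_coe_set_eq, ← Set.ncard_univ]
    apply Set.ncard_lt_ncard _ (Set.toFinite _)
    rw [Set.ssubset_univ_iff]
    intro h
    exact hu0 (h ▸ Set.mem_univ u0)
  rw [hb6] at hcount
  by_cases hM : M.index < n0 l
  · -- the image of the stabilizer is transitive
    have htrM := lemmaA hF l M hM
    have hex : ∃ u ∈ Uset l H, u ≠ 0 := by
      by_contra hcon
      push Not at hcon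
      have hU0 : Uset l H = {0} := by
        ext u
        constructor
        · intro hu
          exact hcon u hu
        · rintro rfl
          exact Uset_zero hF l H
      have hU1 : Nat.card (Uset l H) = 1 := by
        rw [Nat.card_coe_set_eq, hU0, Set.ncard_singleton]
      rw [hU1, mul_one] at hcount
      have : 8 * b * b ≤ H.index := by
        rw [hcount]
        exact Nat.le_mul_of_pos_left _ hMpos
      omega
    obtain ⟨u1, hu1, hu1ne⟩ := hex
    obtain ⟨s, hs, hsu⟩ := htrM u1 u0 hu1ne hu0ne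
    apply hu0
    rw [← hsu]
    exact hinvU s hs u1 hu1
  · push Not at hM
    -- k = 2l - 1
    have hk2 : k < 2 * l := by
      by_contra hcon
      push Not at hcon
      have : k = 2 * l := le_antisymm hk hcon
      rw [hUk, this] at hUlt
      exact lt_irrefl _ hUlt
    have hk1 : 2 * l - 1 ≤ k := by
      by_contra hcon
      push Not at hcon
      have hk3 : k + 2 ≤ 2 * l := by omega
      have hpow : 2 ^ k * 4 ≤ 4 * b * b := by
        rw [← hb5]
        calc 2 ^ k * 4 = 2 ^ (k + 2) := by rw [pow_add]; norm_num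
          _ ≤ 2 ^ (2 * l) := Nat.pow_le_pow_right (by norm_num) hk3
      rw [hUk] at hcount
      have h2k : 2 ^ k ≤ b * b := by nlinarith
      have hMge : b * (2 * b) ≤ M.index + b := by nlinarith
      have hHlt : H.index + 2 * b < 8 * b * b := by omega
      nlinarith
    have hkeq : k = 2 * l - 1 := by omega
    have hU2 : Nat.card (Uset l H) * 2 = 2 ^ (2 * l) := by
      rw [hUk, hkeq, ← pow_succ]
      congr 1
      omega
    obtain ⟨w, hw, hwU⟩ := exists_perp_of_card hF l (Uset l H) (Uset_zero hF l H) (Uset_add hF l H) hU2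
    have hfix : ∀ s ∈ M, s.1 *ᵥ w = w := by
      intro s hs
      have hs' : s⁻¹ ∈ M := M.inv_mem hs
      have hiff : ∀ x, sympForm l F w (s.1 *ᵥ x) = 0 ↔ sympForm l F w x = 0 := by
        intro x
        rw [← hwU, ← hwU]
        constructor
        · intro h
          have := hinvU s⁻¹ hs' _ h
          rwa [inv_mulVec_mulVec] at this
        · intro h
          exact hinvU s hs x h
      have heq : ∀ x, sympForm l F w (s.1 *ᵥ x) = sympForm l F w x := by
        intro x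
        rcases eq_zero_or_one hF (sympForm l F w (s.1 *ᵥ x)) with h1 | h1 <;>
          rcases eq_zero_or_one hF (sympForm l F w x) with h2 | h2
        · rw [h1, h2]
        · rw [(hiff x).1 h1] at h2
          exact absurd h2 zero_ne_one
        · rw [(hiff x).2 h2] at h1
          exact absurd h1 zero_ne_one
        · rw [h1, h2]
      have h3 : (s⁻¹).1 *ᵥ w - w = 0 := by
        apply SympBridge.eq_zero_of_sympForm_right
        intro x
        rw [sympForm_sub_left, sub_eq_zero]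
        have h4 := sympForm_mulVec l s.2 ((s⁻¹).1 *ᵥ w) x
        rw [mulVec_inv_mulVec] at h4
        rw [← h4, heq]
      have h5 : (s⁻¹).1 *ᵥ w = w := sub_eq_zero.1 h3
      have h6 := mulVec_inv_mulVec s w
      rw [h5] at h6
      exact h6
    have hB5 := index_ge_of_fix hF l M w hw hfix
    rw [hb5] at hB5 hU2
    have hU3 : Nat.card (Uset l H) = 2 * b * b := by
      have h9 : Nat.card (Uset l H) * 2 = (2 * b * b) * 2 := by rw [hU2]; ring
      exact Nat.eq_of_mul_eq_mul_right (by norm_num) h9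
    rw [hU3] at hcount
    have hb0 : 0 < b * b := by positivity
    have h7 : H.index = 4 * M.index := by nlinarith
    have h8 : 4 * b * b ≤ M.index + 1 := by omega
    have h10 : H.index + 2 * b < 8 * b * b := by omega
    nlinarith

end Cfsg.Agent.Lib.Helper3.SpMin
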