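import Mathlib
import Cfsg.Agent.Lib.Helper3.SpMinDefs
import Cfsg.Agent.Lib.Helper3.SpMinLocal
set_option autoImplicit false
set_option maxHeartbeats 4000000
set_option linter.unusedVariables false
set_option linter.unusedSectionVars false
set_option linter.style.longLine false
open Matrix Cfsg

namespace Cfsg.Agent.Lib.Helper3.SpMin

open Cfsg.Agent.Lib.Helper5 Cfsg.Agent.Lib.Helper5.SympTv
open Cfsg.Agent.Lib.Helper2.SpMin Cfsg.Agent.Lib.Helper4.SpMin Cfsg.Agent.Lib.Helper5.SpMin Cfsg.Agent.Lib.Helper6.SpMin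
open Cfsg.Agent.Lib.Helper7.SpMin Cfsg.Agent.Lib.Helper8.SpMin

variable {F : Type*} [Field F] [Fintype F]

theorem sympForm_symm' (hF : Fintype.card F = 2) (m : ℕ) (u v : Fin m ⊕ Fin m → F) :
    sympForm m F u v = sympForm m F v u := by
  rw [sympForm_swap, neg_eq' hF]

theorem add_add_cancel' (hF : Fintype.card F = 2) {m : ℕ} (b a : Fin m ⊕ Fin m → F) :
    b + a + a = b := by
  funext i
  show b i + a i + a i = b i
  rw [add_assoc, add_self_eq_zero' hF, add_zero]

theorem line_sym (hF : Fintype.card F = 2) (m : ℕ) (a b y : Fin m ⊕ Fin m → F)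
    (hab : sympForm m F b a = 0) (hy : y = b ∨ y = b + a) :
    t m y * t m a * t m (y + a) = t m b * t m a * t m (b + a) ∧
      t m y * t m (y + a) = t m b * t m (b + a) := by
  rcases hy with rfl | rfl
  · exact ⟨rfl, rfl⟩
  · rw [add_add_cancel' hF]
    have hba : sympForm m F a b = 0 := by rw [sympForm_symm' hF, hab]
    have h1 : sympForm m F (b + a) a = 0 := by rw [sympForm_add_left, hab, sympForm_self, add_zero]
    have h2 : sympForm m F (b + a) b = 0 := by rw [sympForm_add_left, hba, sympForm_self, add_zero]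
    have c1 := t_comm m (b + a) a h1
    have c2 := t_comm m (b + a) b h2
    have c3 := t_comm m a b hba
    constructor
    · calc t m (b + a) * t m a * t m b = t m a * (t m (b + a) * t m b) := by rw [c1, mul_assoc]
        _ = t m a * (t m b * t m (b + a)) := by rw [c2]
        _ = t m b * t m a * t m (b + a) := by rw [← mul_assoc, c3]
    · exact c2

theorem emb_ne_zero (l : ℕ) (u : Fin l ⊕ Fin l → F) (hu : u ≠ 0) : emb l u ≠ 0 := by
  intro h
  apply hu
  have h1 : emb l u + (0 : F) • SympCard.e0 F l = emb l 0 + (0 : F) • SympCard.e0 F l := by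
    rw [h, emb_zero]
  exact (emb_add_smul_inj l _ _ _ _ h1).1

theorem e0_ne_zero (l : ℕ) : SympCard.e0 F l ≠ 0 := by
  intro h
  have h1 : emb l (0 : Fin l ⊕ Fin l → F) + (1 : F) • SympCard.e0 F l = emb l 0 + (0 : F) • SympCard.e0 F l := by
    rw [h, smul_zero, smul_zero]
  exact one_ne_zero (emb_add_smul_inj l _ _ _ _ h1).2

theorem conj_mul3 {G : Type*} [Group G] (h a b c : G) :
    h * (a * b * c) * h⁻¹ = (h * a * h⁻¹) * (h * b * h⁻¹) * (h * c * h⁻¹) := by group

theorem conj_mul2 {G : Type*} [Group G] (h a b : G) :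
    h * (a * b) * h⁻¹ = (h * a * h⁻¹) * (h * b * h⁻¹) := by group

/-- (**) -/
theorem star (hF : Fintype.card F = 2) (l : ℕ) (H : Subgroup (symplecticGroup (Fin (1 + l)) F))
    (htr : ∀ v w : Fin (1 + l) ⊕ Fin (1 + l) → F, v ≠ 0 → w ≠ 0 → ∃ h ∈ H, h.1 *ᵥ v = w)
    (c : QF l F) (hc : ∀ u, qel l u (c.1 u) ∈ H)
    (a b : Fin (1 + l) ⊕ Fin (1 + l) → F) (ha : a ≠ 0) (hab : sympForm (1 + l) F b a = 0)
    (hb0 : b ≠ 0) (hba : b ≠ a) :
    t (1 + l) b * t (1 + l) a * t (1 + l) (b + a) ∈ H ∨ t (1 + l) b * t (1 + l) (b + a) ∈ H := by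
  classical
  obtain ⟨h, hh, hha⟩ := htr (SympCard.e0 F l) a (e0_ne_zero l) ha
  set b' := (h⁻¹).1 *ᵥ b with hb'
  have hhb' : h.1 *ᵥ b' = b := mulVec_inv_mulVec h b
  have hb'e : sympForm (1 + l) F b' (SympCard.e0 F l) = 0 := by
    have := sympForm_mulVec (1 + l) h.2 b' (SympCard.e0 F l)
    rw [hhb', hha, hab] at this
    exact this.symm
  obtain ⟨u, α, hdec⟩ := exists_decomp_perp l b' hb'e
  set y := h.1 *ᵥ emb l u with hy
  have hby : b = y + α • a := by
    rw [← hhb', hdec, mulVec_add, mulVec_smul, hha]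
  have hy' : y = b ∨ y = b + a := by
    rcases eq_zero_or_one hF α with h0 | h1
    · left
      rw [hby, h0, zero_smul, add_zero]
    · right
      rw [hby, h1, one_smul, add_add_cancel' hF]
  have hu : u ≠ 0 := by
    rintro rfl
    rw [emb_zero, zero_add] at hdec
    rcases eq_zero_or_one hF α with h0 | h1
    · apply hb0
      rw [← hhb', hdec, h0, zero_smul, mulVec_zero]
    · apply hba
      rw [← hhb', hdec, h1, one_smul, hha]
  obtain ⟨hs1, hs2⟩ := line_sym hF (1 + l) a b y hab hy'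
  have hconj_e : h * t (1 + l) (SympCard.e0 F l) * h⁻¹ = t (1 + l) a := by rw [t_conj, hha]
  have hconj_u : h * t (1 + l) (emb l u) * h⁻¹ = t (1 + l) y := by rw [t_conj]
  have hconj_ue : h * t (1 + l) (emb l u + SympCard.e0 F l) * h⁻¹ = t (1 + l) (y + a) := by
    rw [t_conj, mulVec_add, hha]
  have hmem := hc u
  rcases eq_zero_or_one hF (c.1 u) with h0 | h1
  · left
    rw [h0] at hmem
    have hq : qel l u (0 : F) = t (1 + l) (emb l u) * t (1 + l) (SympCard.e0 F l) *
        t (1 + l) (emb l u + SympCard.e0 F l) := by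
      unfold qel z
      rw [if_pos rfl, mul_one]
    rw [hq] at hmem
    have := H.mul_mem (H.mul_mem hh hmem) (H.inv_mem hh)
    rw [conj_mul3, hconj_e, hconj_u, hconj_ue, hs1] at this
    exact this
  · right
    rw [h1, qel_one_eq hF] at hmem
    have := H.mul_mem (H.mul_mem hh hmem) (H.inv_mem hh)
    rw [conj_mul2, hconj_u, hconj_ue, hs2] at this
    exact this

/-- the group-theoretic endgame -/
theorem endgame_algebra {G : Type*} [Group G] (H : Subgroup G) (E U X UE XE UX UXE : G)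
    (iE : E⁻¹ = E) (iU : U⁻¹ = U) (iX : X⁻¹ = X) (iUX : UX⁻¹ = UX)
    (h1 : U * UE ∈ H) (h2 : X * XE ∈ H) (h3 : UX * E * UXE ∈ H)
    (s1 : E * U * UE ∈ H ∨ E * UE ∈ H) (s2 : E * X * XE ∈ H ∨ E * XE ∈ H)
    (s3 : U * X * UX ∈ H ∨ U * UX ∈ H)
    (nE : E ∉ H) (nUX : UX ∉ H) (nUXE : UXE ∉ H) : False := by
  have hEU : E * U ∈ H := by
    rcases s1 with s | s
    · exfalso
      apply nE
      have := H.mul_mem s (H.inv_mem h1)
      have e : E * U * UE * (U * UE)⁻¹ = E := by group
      rwa [e] at this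
    · have := H.mul_mem s (H.inv_mem h1)
      have e : E * UE * (U * UE)⁻¹ = E * U⁻¹ := by group
      rwa [e, iU] at this
  have hEX : E * X ∈ H := by
    rcases s2 with s | s
    · exfalso
      apply nE
      have := H.mul_mem s (H.inv_mem h2)
      have e : E * X * XE * (X * XE)⁻¹ = E := by group
      rwa [e] at this
    · have := H.mul_mem s (H.inv_mem h2)
      have e : E * XE * (X * XE)⁻¹ = E * X⁻¹ := by group
      rwa [e, iX] at this
  have hUX : U * X ∈ H := by
    have := H.mul_mem (H.inv_mem hEU) hEX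
    have e : (E * U)⁻¹ * (E * X) = U⁻¹ * X := by group
    rwa [e, iU] at this
  have hUUX : U * UX ∈ H := by
    rcases s3 with s | s
    · exfalso
      apply nUX
      have := H.mul_mem (H.inv_mem hUX) s
      have e : (U * X)⁻¹ * (U * X * UX) = UX := by group
      rwa [e] at this
    · exact s
  have hUXE : UX * E ∈ H := by
    have := H.mul_mem (H.inv_mem hUUX) (H.inv_mem hEU)
    have e : (U * UX)⁻¹ * (E * U)⁻¹ = UX⁻¹ * (U⁻¹ * U⁻¹) * E⁻¹ := by group
    rw [e, iU, iUX, iE] at this
    have e2 : U * U = 1 := by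
      have h5 : U⁻¹ * U = 1 := inv_mul_cancel U
      rwa [iU] at h5
    rw [e2, mul_one] at this
    exact this
  apply nUXE
  have := H.mul_mem (H.inv_mem hUXE) h3
  have e : (UX * E)⁻¹ * (UX * E * UXE) = UXE := by group
  rwa [e] at this

/-- **Part D**: a subgroup of index `< n0 (1+l)` of `Sp_{2(1+l)}(2)`, `l ≥ 2`, is everything. -/
theorem main_lower (hF : Fintype.card F = 2) (l : ℕ) (hl : 2 ≤ l)
    (H : Subgroup (symplecticGroup (Fin (1 + l)) F)) (hH : H.index < n0 (1 + l)) : H = ⊤ := by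
  classical
  have htr := lemmaA hF (1 + l) H hH
  by_contra hne
  have hnt : ∀ v : Fin (1 + l) ⊕ Fin (1 + l) → F, v ≠ 0 → t (1 + l) v ∉ H :=
    fun v hv ht => hne (eq_top_of_t_mem hF (1 + l) H htr v hv ht)
  obtain ⟨c, hc⟩ := local_form hF l hl H hH htr (hnt _ (e0_ne_zero l))
  obtain ⟨u, x, hu, hx, hux, hB, hcu, hcx⟩ := exists_pair hF l hl c
  have hstar := star hF l H htr c hc
  set e := SympCard.e0 F l with he
  have inv_t : ∀ v : Fin (1 + l) ⊕ Fin (1 + l) → F, (t (1 + l) v)⁻¹ = t (1 + l) v := by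
    intro v
    exact inv_eq_of_mul_eq_one_left (t_mul_self hF (1 + l) v)
  -- the three given elements
  have h1 : t (1 + l) (emb l u) * t (1 + l) (emb l u + e) ∈ H := by
    have := hc u
    rwa [hcu, qel_one_eq hF] at this
  have h2 : t (1 + l) (emb l x) * t (1 + l) (emb l x + e) ∈ H := by
    have := hc x
    rwa [hcx, qel_one_eq hF] at this
  have hcux : c.1 (u + x) = 0 := by
    rw [c.2, hcu, hcx, hB, add_zero]
    exact add_self_eq_zero' hF 1
  have h3 : t (1 + l) (emb l u + emb l x) * t (1 + l) e * t (1 + l) (emb l u + emb l x + e) ∈ H := by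
    have := hc (u + x)
    rw [hcux] at this
    unfold qel z at this
    rw [if_pos rfl, mul_one, emb_add] at this
    exact this
  -- (**) three times
  have hue : sympForm (1 + l) F e (emb l u) = 0 := by
    rw [sympForm_symm' hF, sympForm_emb_e0]
  have hxe : sympForm (1 + l) F e (emb l x) = 0 := by
    rw [sympForm_symm' hF, sympForm_emb_e0]
  have hne_eu : e ≠ emb l u := by
    intro h
    have h1 : emb l (0 : Fin l ⊕ Fin l → F) + (1 : F) • e = emb l u + (0 : F) • e := by
      rw [emb_zero, zero_add, one_smul, zero_smul, add_zero]; exact h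
    exact one_ne_zero (emb_add_smul_inj l _ _ _ _ h1).2
  have hne_ex : e ≠ emb l x := by
    intro h
    have h1 : emb l (0 : Fin l ⊕ Fin l → F) + (1 : F) • e = emb l x + (0 : F) • e := by
      rw [emb_zero, zero_add, one_smul, zero_smul, add_zero]; exact h
    exact one_ne_zero (emb_add_smul_inj l _ _ _ _ h1).2
  have s1 := hstar (emb l u) e (emb_ne_zero l u hu) hue (e0_ne_zero l) hne_eu
  have s2 := hstar (emb l x) e (emb_ne_zero l x hx) hxe (e0_ne_zero l) hne_ex
  have hux' : sympForm (1 + l) F (emb l u) (emb l x) = 0 := by rw [sympForm_emb_emb, hB]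
  have hne_ux : emb l u ≠ emb l x := by
    intro h
    apply hux
    have h1 : emb l u + (0 : F) • e = emb l x + (0 : F) • e := by rw [h]
    exact (emb_add_smul_inj l _ _ _ _ h1).1
  have s3 := hstar (emb l x) (emb l u) (emb_ne_zero l x hx) hux' (emb_ne_zero l u hu) hne_ux
  rw [add_comm e (emb l u)] at s1
  rw [add_comm e (emb l x)] at s2
  have huxne : u + x ≠ 0 := by
    intro h
    apply hux
    have h2 : u + x + x = x := by rw [h, zero_add]
    rw [add_add_cancel' hF] at h2
    exact h2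
  have hn1 : emb l u + emb l x ≠ 0 := by
    rw [← emb_add]
    exact emb_ne_zero l _ huxne
  have hn2 : emb l u + emb l x + e ≠ 0 := by
    intro h
    have h1 : emb l (u + x) + (1 : F) • e = emb l 0 + (0 : F) • e := by
      rw [emb_add, one_smul, emb_zero, zero_smul, add_zero]; exact h
    exact one_ne_zero (emb_add_smul_inj l _ _ _ _ h1).2
  exact endgame_algebra H (t (1 + l) e) (t (1 + l) (emb l u)) (t (1 + l) (emb l x))
    (t (1 + l) (emb l u + e)) (t (1 + l) (emb l x + e)) (t (1 + l) (emb l u + emb l x))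
    (t (1 + l) (emb l u + emb l x + e)) (inv_t _) (inv_t _) (inv_t _) (inv_t _) h1 h2 h3 s1 s2 s3
    (hnt _ (e0_ne_zero l)) (hnt _ hn1) (hnt _ hn2)

end Cfsg.Agent.Lib.Helper3.SpMin
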