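import Mathlib
import Cfsg.Prelude
import Cfsg.Agent.Lib.Helper3.SpMinDefs
import Cfsg.Agent.Lib.Helper3.SpMinMain
import Cfsg.Agent.Lib.Helper7.SpMinF1
import Cfsg.Agent.Lib.Helper8.SpMinE
set_option autoImplicit false
set_option maxHeartbeats 4000000
open Matrix Cfsg

namespace Cfsg.Agent.Lib.Helper3.SpMin

open Cfsg.Agent.Lib.Helper2.SpMin Cfsg.Agent.Lib.Helper4.SpMin Cfsg.Agent.Lib.Helper5.SpMin Cfsg.Agent.Lib.Helper6.SpMin
open Cfsg.Agent.Lib.Helper7.SpMin Cfsg.Agent.Lib.Helper8.SpMin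

theorem final_of {F : Type*} [Field F] [Fintype F] (hF : Fintype.card F = 2) (m : ℕ) (hm : 3 ≤ m) :
    (∀ H : Subgroup (Cfsg.PSp m F), H ≠ ⊤ → 2 ^ (m - 1) * (2 ^ m - 1) ≤ H.index) ∧
    (∃ H : Subgroup (Cfsg.PSp m F), H.index = 2 ^ (m - 1) * (2 ^ m - 1)) := by
  obtain ⟨l, rfl⟩ : ∃ l, m = 1 + l := ⟨m - 1, by omega⟩
  have hl : 2 ≤ l := by omega
  have hsurj : Function.Surjective
      (QuotientGroup.mk' (Subgroup.center (symplecticGroup (Fin (1 + l)) F))) :=
    QuotientGroup.mk'_surjective _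
  constructor
  · intro Hb hHb
    by_contra hcon
    push Not at hcon
    apply hHb
    have hidx := Subgroup.index_comap_of_surjective Hb hsurj
    have htop := main_lower hF l hl (Hb.comap (QuotientGroup.mk' _)) (by rw [hidx]; exact hcon)
    apply Subgroup.comap_injective hsurj
    rw [htop, Subgroup.comap_top]
  · obtain ⟨H, hH⟩ := exists_index hF (1 + l) (by omega)
    refine ⟨H.map (QuotientGroup.mk' (Subgroup.center (symplecticGroup (Fin (1 + l)) F))), ?_⟩
    rw [Subgroup.index_map_eq _ hsurj, hH]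
    · rfl
    · rw [QuotientGroup.ker_mk', center_eq_bot hF]
      exact bot_le

end Cfsg.Agent.Lib.Helper3.SpMin
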