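import Mathlib

set_option autoImplicit false
set_option maxHeartbeats 4000000
set_option maxRecDepth 100000
set_option linter.unusedVariables false
set_option linter.unusedSectionVars false
set_option linter.style.haveILetI false
set_option linter.unnecessarySimpa false
set_option linter.unusedSimpArgs false
set_option linter.unusedTactic false
set_option linter.unreachableTactic false

/-!
# The q-series part of Steinberg's count for `Sp_{2m}(q)`

Pure algebra (no groups).  If natural-number sequences `u`, `e` satisfy the two counting identities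
delivered by the Fitting decompositions (in the symplectic group and in the Cayley-transformed affine
space), then `u m = q ^ (2 m ^ 2)`.
-/

namespace Cfsg.Agent.Lib.Helper3.SpUnipAlg

open Finset PowerSeries

/-- The order of `Sp_{2m}(q)`. -/
def sp (q m : ℕ) : ℕ := q ^ (m ^ 2) * ∏ i ∈ range m, (q ^ (2 * (i + 1)) - 1)

/-- The order of `GL_k(q)`. -/
def gl (q k : ℕ) : ℕ := ∏ i ∈ range k, (q ^ k - q ^ i)

/-- The number of nilpotent `k × k` matrices over the field with `q` elements. -/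
def nil (q k : ℕ) : ℕ := q ^ (k ^ 2 - k)

/-! ### Recurrences for the three explicit sequences -/

theorem sp_succ (q m : ℕ) :
    sp q (m + 1) = q ^ (2 * m + 1) * (q ^ (2 * (m + 1)) - 1) * sp q m := by
  unfold sp
  rw [prod_range_succ]
  have : (m + 1) ^ 2 = (2 * m + 1) + m ^ 2 := by ring
  rw [this, pow_add]
  ring

theorem gl_succ (q k : ℕ) (hq : 1 ≤ q) :
    gl q (k + 1) = (q ^ (k + 1) - 1) * q ^ k * gl q k := by
  unfold gl
  rw [prod_range_succ']
  have h1 : ∀ i ∈ range k, q ^ (k + 1) - q ^ (i + 1) = q * (q ^ k - q ^ i) := by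
    intro i _
    rw [Nat.mul_sub, pow_succ, pow_succ]
    ring_nf
  rw [prod_congr rfl h1, prod_mul_distrib, prod_const, card_range]
  simp
  ring

theorem nil_succ (q k : ℕ) : nil q (k + 1) = q ^ (2 * k) * nil q k := by
  unfold nil
  rw [← pow_add]
  congr 1
  have h1 : k ≤ k ^ 2 := by nlinarith
  have : (k + 1) ^ 2 = k ^ 2 + 2 * k + 1 := by ring
  omega

theorem sp_pos (q m : ℕ) (hq : 2 ≤ q) : 0 < sp q m := by
  unfold sp
  apply Nat.mul_pos (pow_pos (by omega) _)
  apply prod_pos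
  intro i _
  have : 2 ≤ q ^ (2 * (i + 1)) := by
    calc 2 ≤ q := hq
      _ = q ^ 1 := (pow_one q).symm
      _ ≤ q ^ (2 * (i + 1)) := Nat.pow_le_pow_right (by omega) (by omega)
  omega

theorem gl_pos (q k : ℕ) (hq : 2 ≤ q) : 0 < gl q k := by
  unfold gl
  apply prod_pos
  intro i hi
  have hi' : i < k := mem_range.mp hi
  have : q ^ i < q ^ k := Nat.pow_lt_pow_right (by omega) hi'
  omega

/-! ### The rational sequences -/

/-- `a' k = q^(2k²) / |Sp_{2k}(q)|`. -/
noncomputable def aSeq (q : ℕ) (k : ℕ) : ℚ := (q : ℚ) ^ (2 * k ^ 2) / sp q k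

/-- `t m = q^(2m²+m) / |Sp_{2m}(q)|`. -/
noncomputable def tSeq (q : ℕ) (m : ℕ) : ℚ := (q : ℚ) ^ (2 * m ^ 2 + m) / sp q m

/-- `z k = nil_k / |GL_k(q)|`. -/
noncomputable def zSeq (q : ℕ) (k : ℕ) : ℚ := (nil q k : ℚ) / gl q k

theorem cast_pow_sub_one (q n : ℕ) (hq : 2 ≤ q) :
    ((q ^ n - 1 : ℕ) : ℚ) = (q : ℚ) ^ n - 1 := by
  have : 1 ≤ q ^ n := Nat.one_le_pow _ _ (by omega)
  rw [Nat.cast_sub this]
  simp

theorem pow_sub_one_ne (q n : ℕ) (hq : 2 ≤ q) (hn : 1 ≤ n) : (q : ℚ) ^ n - 1 ≠ 0 := by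
  have h2 : (2 : ℚ) ≤ (q : ℚ) := by exact_mod_cast hq
  have : (1 : ℚ) < (q : ℚ) ^ n := by
    apply one_lt_pow₀ (by linarith) (by omega)
  intro h
  linarith

theorem aSeq_zero (q : ℕ) : aSeq q 0 = 1 := by
  simp [aSeq, sp]

theorem tSeq_zero (q : ℕ) : tSeq q 0 = 1 := by
  simp [tSeq, sp]

theorem zSeq_zero (q : ℕ) : zSeq q 0 = 1 := by
  simp [zSeq, nil, gl]

theorem aSeq_succ (q k : ℕ) (hq : 2 ≤ q) :
    aSeq q (k + 1) * ((q : ℚ) ^ (2 * (k + 1)) - 1) = (q : ℚ) ^ (2 * k + 1) * aSeq q k := by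
  unfold aSeq
  have hs : (sp q k : ℚ) ≠ 0 := by
    have := sp_pos q k hq
    exact_mod_cast this.ne'
  have hq0 : (q : ℚ) ≠ 0 := by
    have : 0 < q := by omega
    exact_mod_cast this.ne'
  have hne := pow_sub_one_ne q (2 * (k + 1)) hq (by omega)
  rw [sp_succ]
  push_cast
  rw [cast_pow_sub_one q _ hq]
  have e : 2 * (k + 1) ^ 2 = (2 * k + 1) + (2 * k + 1) + 2 * k ^ 2 := by ring
  rw [e, pow_add, pow_add]
  field_simp

theorem tSeq_succ (q m : ℕ) (hq : 2 ≤ q) :
    tSeq q (m + 1) * ((q : ℚ) ^ (2 * (m + 1)) - 1) = (q : ℚ) ^ (2 * (m + 1)) * tSeq q m := by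
  unfold tSeq
  have hs : (sp q m : ℚ) ≠ 0 := by
    have := sp_pos q m hq
    exact_mod_cast this.ne'
  have hq0 : (q : ℚ) ≠ 0 := by
    have : 0 < q := by omega
    exact_mod_cast this.ne'
  have hne := pow_sub_one_ne q (2 * (m + 1)) hq (by omega)
  rw [sp_succ]
  push_cast
  rw [cast_pow_sub_one q _ hq]
  have e : 2 * (m + 1) ^ 2 + (m + 1) = (2 * m + 1) + 2 * (m + 1) + (2 * m ^ 2 + m) := by ring
  rw [e, pow_add, pow_add]
  field_simp

theorem zSeq_succ (q k : ℕ) (hq : 2 ≤ q) :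
    zSeq q (k + 1) * ((q : ℚ) ^ (k + 1) - 1) = (q : ℚ) ^ k * zSeq q k := by
  unfold zSeq
  have hs : (gl q k : ℚ) ≠ 0 := by
    have := gl_pos q k hq
    exact_mod_cast this.ne'
  have hq0 : (q : ℚ) ≠ 0 := by
    have : 0 < q := by omega
    exact_mod_cast this.ne'
  have hne := pow_sub_one_ne q (k + 1) hq (by omega)
  rw [gl_succ q k (by omega), nil_succ]
  push_cast
  rw [cast_pow_sub_one q _ hq]
  have e : 2 * k = k + k := by ring
  rw [e, pow_add]
  field_simp

/-! ### Power series lemmas -/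

/-- A sequence satisfying a first-order `q`-recurrence gives a power series with a functional
equation. -/
theorem rescale_mk_of_rec (α β : ℚ) (s : ℕ → ℚ)
    (h : ∀ n, α ^ (n + 1) * s (n + 1) = s (n + 1) - β * s n) :
    rescale α (PowerSeries.mk s) = (1 - C β * X) * PowerSeries.mk s := by
  ext n
  rw [coeff_rescale, coeff_mk, sub_mul, one_mul, map_sub, coeff_mk, mul_assoc, coeff_C_mul]
  cases n with
  | zero => simp
  | succ n =>
    rw [coeff_succ_X_mul, coeff_mk]
    exact h n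

/-- Uniqueness of the solution of a functional equation `G(c x) = φ(x) G(x)`. -/
theorem eq_of_rescale_eq (c : ℚ) (hc : ∀ n : ℕ, 1 ≤ n → c ^ n ≠ 1) (φ G G' : PowerSeries ℚ)
    (hφ : coeff 0 φ = 1)
    (hG : rescale c G = φ * G) (hG' : rescale c G' = φ * G')
    (h0 : coeff 0 G = coeff 0 G') : G = G' := by
  have key : ∀ n : ℕ, ∀ m ≤ n, coeff m (G - G') = 0 := by
    intro n
    induction n with
    | zero =>
      intro m hm
      have : m = 0 := by omega
      subst this
      rw [map_sub, h0, sub_self]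
    | succ n ih =>
      intro m hm
      rcases Nat.lt_or_ge m (n + 1) with h | h
      · exact ih m (by omega)
      · have hm' : m = n + 1 := by omega
        subst hm'
        have hD : rescale c (G - G') = φ * (G - G') := by
          rw [map_sub, hG, hG', mul_sub]
        have h1 := congrArg (coeff (n + 1)) hD
        rw [coeff_rescale, coeff_mul] at h1
        rw [Finset.sum_eq_single (0, n + 1)] at h1
        · rw [hφ, one_mul] at h1
          have h2 : (c ^ (n + 1) - 1) * coeff (n + 1) (G - G') = 0 := by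
            rw [sub_mul, one_mul, h1, sub_self]
          rcases mul_eq_zero.mp h2 with h3 | h3
          · exfalso
            exact hc (n + 1) (by omega) (by linarith)
          · exact h3
        · intro b hb hb'
          have hb1 : b.1 + b.2 = n + 1 := by simpa using hb
          have hb2 : b.2 ≤ n := by
            by_contra hcon
            have : b.2 = n + 1 := by omega
            have : b.1 = 0 := by omega
            apply hb'
            ext <;> simp [*]
          rw [ih b.2 hb2, mul_zero]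
        · intro hcon
          exfalso
          apply hcon
          simp
  have : G - G' = 0 := by
    ext n
    rw [key n n le_rfl]
    simp
  exact sub_eq_zero.mp this

/-! ### The three functional equations -/

theorem qinv_pow_ne_one (q : ℕ) (hq : 2 ≤ q) (n : ℕ) (hn : 1 ≤ n) : (((q : ℚ)⁻¹) ^ 2) ^ n ≠ 1 := by
  have h2 : (2 : ℚ) ≤ (q : ℚ) := by exact_mod_cast hq
  have hpos : (0 : ℚ) < (q : ℚ)⁻¹ := by positivity
  have hlt : (q : ℚ)⁻¹ < 1 := by
    rw [inv_lt_one₀ (by linarith)]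
    linarith
  have h3 : ((q : ℚ)⁻¹) ^ 2 < 1 := by
    apply pow_lt_one₀ hpos.le hlt (by omega)
  have h4 : (((q : ℚ)⁻¹) ^ 2) ^ n < 1 := by
    apply pow_lt_one₀ (by positivity) h3 (by omega)
  exact h4.ne

theorem rescale_A (q : ℕ) (hq : 2 ≤ q) :
    rescale (((q : ℚ)⁻¹) ^ 2) (PowerSeries.mk (aSeq q)) =
      (1 - C ((q : ℚ)⁻¹) * X) * PowerSeries.mk (aSeq q) := by
  apply rescale_mk_of_rec
  intro n
  have h := aSeq_succ q n hq
  have hq0 : (q : ℚ) ≠ 0 := by
    have : 0 < q := by omega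
    exact_mod_cast this.ne'
  have e1 : (((q : ℚ)⁻¹) ^ 2) ^ (n + 1) = ((q : ℚ) ^ (2 * (n + 1)))⁻¹ := by
    rw [← pow_mul, inv_pow]
  have hp : (q : ℚ) ^ (2 * (n + 1)) ≠ 0 := pow_ne_zero _ hq0
  have e2 : (q : ℚ) ^ (2 * (n + 1)) = (q : ℚ) ^ (2 * n + 1) * q := by
    rw [← pow_succ]; congr 1
  rw [e1]
  have h' : aSeq q (n + 1) * (q : ℚ) ^ (2 * (n + 1)) - aSeq q (n + 1) =
      (q : ℚ) ^ (2 * n + 1) * aSeq q n := by
    rw [← h]; ring
  field_simp
  rw [e2] at h' ⊢
  linear_combination (-(q : ℚ)) * h'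

theorem rescale_T (q : ℕ) (hq : 2 ≤ q) :
    rescale (((q : ℚ)⁻¹) ^ 2) (PowerSeries.mk (tSeq q)) =
      (1 - C (1 : ℚ) * X) * PowerSeries.mk (tSeq q) := by
  apply rescale_mk_of_rec
  intro n
  have h := tSeq_succ q n hq
  have hq0 : (q : ℚ) ≠ 0 := by
    have : 0 < q := by omega
    exact_mod_cast this.ne'
  have e1 : (((q : ℚ)⁻¹) ^ 2) ^ (n + 1) = ((q : ℚ) ^ (2 * (n + 1)))⁻¹ := by
    rw [← pow_mul, inv_pow]
  have hp : (q : ℚ) ^ (2 * (n + 1)) ≠ 0 := pow_ne_zero _ hq0
  rw [e1]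
  have h' : tSeq q (n + 1) * (q : ℚ) ^ (2 * (n + 1)) - tSeq q (n + 1) =
      (q : ℚ) ^ (2 * (n + 1)) * tSeq q n := by
    rw [← h]; ring
  field_simp
  linear_combination (-1 : ℚ) * h'

theorem rescale_Z (q : ℕ) (hq : 2 ≤ q) :
    rescale ((q : ℚ)⁻¹) (PowerSeries.mk (zSeq q)) =
      (1 - C ((q : ℚ)⁻¹) * X) * PowerSeries.mk (zSeq q) := by
  apply rescale_mk_of_rec
  intro n
  have h := zSeq_succ q n hq
  have hq0 : (q : ℚ) ≠ 0 := by
    have : 0 < q := by omega
    exact_mod_cast this.ne'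
  have e1 : ((q : ℚ)⁻¹) ^ (n + 1) = ((q : ℚ) ^ (n + 1))⁻¹ := by
    rw [inv_pow]
  have hp : (q : ℚ) ^ (n + 1) ≠ 0 := pow_ne_zero _ hq0
  have e2 : (q : ℚ) ^ (n + 1) = (q : ℚ) ^ n * q := pow_succ _ _
  rw [e1]
  have h' : zSeq q (n + 1) * (q : ℚ) ^ (n + 1) - zSeq q (n + 1) =
      (q : ℚ) ^ n * zSeq q n := by
    rw [← h]; ring
  field_simp
  rw [e2] at h' ⊢
  linear_combination (-(q : ℚ)) * h'

/-- The key identity `(1 - x) A'(x) T(x) = Z(x)`. -/
theorem key_identity (q : ℕ) (hq : 2 ≤ q) :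
    (1 - X) * PowerSeries.mk (aSeq q) * PowerSeries.mk (tSeq q) = PowerSeries.mk (zSeq q) := by
  set Q : ℚ := (q : ℚ)⁻¹ with hQ
  apply eq_of_rescale_eq (Q ^ 2) (qinv_pow_ne_one q hq)
    ((1 - C Q * X) * (1 - C (Q ^ 2) * X))
  · simp
  · rw [map_mul, map_mul, rescale_A q hq, rescale_T q hq, map_sub, map_one, rescale_X]
    simp only [map_one, one_mul]
    ring
  · have h1 : rescale (Q ^ 2) (PowerSeries.mk (zSeq q)) =
        rescale Q (rescale Q (PowerSeries.mk (zSeq q))) := by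
      rw [rescale_rescale, pow_two]
    rw [h1, rescale_Z q hq, map_mul, map_sub, map_one, map_mul, rescale_X, rescale_Z q hq]
    have h2 : rescale Q (C Q) = C Q := by
      ext n
      rw [coeff_rescale, coeff_C]
      split_ifs with h
      · subst h; simp
      · simp
    rw [h2, pow_two, map_mul]
    ring
  · simp [aSeq_zero, tSeq_zero, zSeq_zero]

/-- **The algebraic core of Steinberg's count for `Sp_{2m}(q)`.** -/
theorem unip_eq (q : ℕ) (hq : 2 ≤ q) (u e : ℕ → ℕ)
    (h1 : ∀ m, ∑ kl ∈ antidiagonal m,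
      ((u kl.1 : ℚ) / sp q kl.1) * ((e kl.2 : ℚ) / sp q kl.2) = 1)
    (h2 : ∀ m, ∑ kl ∈ antidiagonal m,
      ((nil q kl.1 : ℚ) / gl q kl.1) * ((e kl.2 : ℚ) / sp q kl.2) =
        (q : ℚ) ^ (2 * m ^ 2 + m) / sp q m) :
    ∀ m, u m = q ^ (2 * m ^ 2) := by
  set A : PowerSeries ℚ := PowerSeries.mk (fun k => (u k : ℚ) / sp q k) with hA
  set E : PowerSeries ℚ := PowerSeries.mk (fun k => (e k : ℚ) / sp q k) with hE
  set A' : PowerSeries ℚ := PowerSeries.mk (aSeq q) with hA'
  set T : PowerSeries ℚ := PowerSeries.mk (tSeq q) with hT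
  set Z : PowerSeries ℚ := PowerSeries.mk (zSeq q) with hZ
  have hAE : A * E = PowerSeries.mk 1 := by
    ext m
    rw [coeff_mul, coeff_mk]
    simp only [hA, hE, coeff_mk]
    rw [h1 m]; rfl
  have hZE : Z * E = T := by
    ext m
    rw [coeff_mul]
    simp only [hZ, hE, hT, coeff_mk, zSeq, tSeq]
    exact h2 m
  have hkey : (1 - X) * A' * T = Z := key_identity q hq
  have hT0 : T ≠ 0 := by
    intro h
    have := congrArg (coeff 0) h
    simp [hT, tSeq_zero] at this
  have hE0 : E ≠ 0 := by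
    intro h
    rw [h, mul_zero] at hZE
    exact hT0 hZE.symm
  have h3 : T * ((1 - X) * A' * E - 1) = 0 := by
    have : T * ((1 - X) * A' * E - 1) = ((1 - X) * A' * T) * E - T := by ring
    rw [this, hkey, hZE, sub_self]
  have h4 : (1 - X) * A' * E = 1 := by
    rcases mul_eq_zero.mp h3 with h | h
    · exact absurd h hT0
    · exact sub_eq_zero.mp h
  have h5 : A' * E = PowerSeries.mk 1 := by
    have hm := PowerSeries.mk_one_mul_one_sub_eq_one ℚ
    calc A' * E = (PowerSeries.mk 1 * (1 - X)) * (A' * E) := by rw [hm, one_mul]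
      _ = PowerSeries.mk 1 * ((1 - X) * A' * E) := by ring
      _ = PowerSeries.mk 1 := by rw [h4, mul_one]
  have h6 : (A - A') * E = 0 := by
    rw [sub_mul, hAE, h5, sub_self]
  have h7 : A = A' := by
    rcases mul_eq_zero.mp h6 with h | h
    · exact sub_eq_zero.mp h
    · exact absurd h hE0
  intro m
  have h8 := congrArg (coeff m) h7
  simp only [hA, hA', coeff_mk, aSeq] at h8
  have hs : (sp q m : ℚ) ≠ 0 := by
    have := sp_pos q m hq
    exact_mod_cast this.ne'
  have h9 : (u m : ℚ) = (q : ℚ) ^ (2 * m ^ 2) := by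
    field_simp at h8
    exact h8
  exact_mod_cast h9

end Cfsg.Agent.Lib.Helper3.SpUnipAlg
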