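import Mathlib
import Cfsg.Prelude
import Cfsg.Agent.Lib.Helper3.MaxC5
import Cfsg.Agent.Lib.Helper4.MaxS3

set_option autoImplicit false
set_option maxHeartbeats 4000000
set_option maxRecDepth 100000
set_option linter.unusedVariables false
set_option linter.unusedSectionVars false
set_option linter.style.haveILetI false
set_option linter.deprecated false

/-! The symplectic group is not contained in the stabiliser of a tensor decomposition with equal
factors. -/

namespace Cfsg.Agent.Lib.Helper3.SpW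

open Matrix Cfsg Cfsg.Geo
open Cfsg.Agent.Lib.Helper5.SympTv Cfsg.Agent.Lib.Helper5.SpCentres
open Cfsg.Agent.Lib.Helper4.MaxS Cfsg.Agent.Lib.Helper3.MaxC

variable {F : Type*} [Field F] {m : ℕ}

local notation "V" => (Fin m ⊕ Fin m → F)
local notation "GLV" => Matrix.GeneralLinearGroup (Fin m ⊕ Fin m) F
local notation "MatV" => Matrix (Fin m ⊕ Fin m) (Fin m ⊕ Fin m) F

section tv
variable {κ : Type} [Fintype κ] [DecidableEq κ]

/-- a transvection whose centre is a transported vector, read in the transported frame -/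
theorem transport_tv' (e : (Fin m ⊕ Fin m) ≃ κ) (P : GLV) (x : Matrix.GeneralLinearGroup κ F)
    (w₀ : κ → F) (c : F)
    (h : tvGL m ((P : MatV) *ᵥ (w₀ ∘ e)) c = P * glReindex e.symm x * P⁻¹) (w : κ → F) :
    (x : Matrix κ κ F) *ᵥ w = w + (c * sympForm m F ((P : MatV) *ᵥ (w ∘ e))
      ((P : MatV) *ᵥ (w₀ ∘ e))) • w₀ := by
  apply comp_equiv_injective e
  apply gl_mulVec_injective P
  rw [← transport_mulVec, ← h, tvGL_mulVec]
  have : (w + (c * sympForm m F ((P : MatV) *ᵥ (w ∘ e))
      ((P : MatV) *ᵥ (w₀ ∘ e))) • w₀) ∘ e =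
      w ∘ e + (c * sympForm m F ((P : MatV) *ᵥ (w ∘ e))
      ((P : MatV) *ᵥ (w₀ ∘ e))) • (w₀ ∘ e) := by
    ext i
    simp
  rw [this, Matrix.mulVec_add, Matrix.mulVec_smul]

/-- a basis vector whose transport pairs non-trivially with a non-zero transported vector -/
theorem exists_single_pairing (e : (Fin m ⊕ Fin m) ≃ κ) (P : GLV) (w₀ : κ → F) (hw₀ : w₀ ≠ 0) :
    ∃ j : κ, sympForm m F ((P : MatV) *ᵥ ((Pi.single j (1 : F) : κ → F) ∘ e))
      ((P : MatV) *ᵥ (w₀ ∘ e)) ≠ 0 := by
  set v₀ : V := (P : MatV) *ᵥ (w₀ ∘ e) with hv₀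
  have hv₀0 : v₀ ≠ 0 := by
    intro h0
    have h1 : (P : MatV) *ᵥ (w₀ ∘ e) = (P : MatV) *ᵥ 0 := by
      rw [Matrix.mulVec_zero]; exact h0
    have h2 := gl_mulVec_injective P h1
    apply hw₀
    apply comp_equiv_injective e
    rw [h2]
    rfl
  obtain ⟨y, hy⟩ := exists_sympForm_ne_zero hv₀0
  set w₁ : κ → F := (((P⁻¹ : GLV) : MatV) *ᵥ y) ∘ e.symm with hw₁
  have hw₁e : w₁ ∘ e = ((P⁻¹ : GLV) : MatV) *ᵥ y := by
    ext i
    simp [hw₁]
  have hPw₁ : (P : MatV) *ᵥ (w₁ ∘ e) = y := by rw [hw₁e, gl_mulVec_inv]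
  by_contra hcon
  push Not at hcon
  let L : (κ → F) →ₗ[F] F :=
    { toFun := fun w => sympForm m F ((P : MatV) *ᵥ (w ∘ e)) v₀
      map_add' := by
        intro x y
        rw [show (x + y) ∘ e = x ∘ e + y ∘ e from rfl, Matrix.mulVec_add, sympForm_add_left]
      map_smul' := by
        intro c x
        rw [show (c • x) ∘ e = c • (x ∘ e) from rfl, Matrix.mulVec_smul, sympForm_smul_left]
        rfl }
  have hL : L = 0 := by
    apply LinearMap.pi_ext
    intro j x
    have h1 : (Pi.single j x : κ → F) = x • (Pi.single j (1 : F) : κ → F) := by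
      ext k
      simp [Pi.single_apply]
    rw [h1, map_smul, LinearMap.zero_apply]
    have h2 : L (Pi.single j (1 : F)) = 0 := hcon j
    rw [h2, smul_zero]
  have h3 : L w₁ = 1 := by
    show sympForm m F ((P : MatV) *ᵥ (w₁ ∘ e)) v₀ = 1
    rw [hPw₁, hy]
  rw [hL, LinearMap.zero_apply] at h3
  exact zero_ne_one h3

end tv

section pure
variable {k t : ℕ}

theorem isPureVec_single (j : Fin t → Fin k) :
    IsPureVec (Pi.single j (1 : F) : (Fin t → Fin k) → F) := by
  classical
  refine ⟨fun i => Pi.single (j i) 1, fun y => ?_⟩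
  simp only [Pi.single_apply]
  rw [Finset.prod_boole]
  congr 1
  simp only [Finset.mem_univ, forall_true_left, eq_iff_iff]
  exact ⟨fun h i => congrFun h i, fun h => funext h⟩

/-- the exchange property of pure vectors -/
theorem pure_swap {v : (Fin t → Fin k) → F} (hv : IsPureVec v) (a b : Fin t → Fin k) (i : Fin t) :
    v a * v b = v (Function.update a i (b i)) * v (Function.update b i (a i)) := by
  classical
  obtain ⟨x, hx⟩ := hv
  rw [hx, hx, hx, hx, ← Finset.prod_mul_distrib, ← Finset.prod_mul_distrib]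
  refine Finset.prod_congr rfl fun l _ => ?_
  by_cases h : l = i
  · subst h
    rw [Function.update_self, Function.update_self, mul_comm]
  · rw [Function.update_of_ne h, Function.update_of_ne h]

theorem not_le_wreath_sp [Fintype F] (hk : 2 ≤ k) (ht : 2 ≤ t) (h2 : (2 : F) ≠ 0)
    (e : (Fin m ⊕ Fin m) ≃ (Fin t → Fin k)) (P : GLV) :
    ¬ spGL m F ≤ tensorWreathSubgroup k t e P := by
  classical
  intro hle
  set k0 : Fin k := ⟨0, by omega⟩ with hk0
  set k1 : Fin k := ⟨1, by omega⟩ with hk1
  have hkk : k0 ≠ k1 := by simp [hk0, hk1, Fin.ext_iff]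
  set c0 : Fin t → Fin k := fun _ => k0 with hc0
  set c1 : Fin t → Fin k := fun _ => k1 with hc1
  set i₀ : Fin t := ⟨0, by omega⟩ with hi₀
  set i₁ : Fin t := ⟨1, by omega⟩ with hi₁
  have hi : i₀ ≠ i₁ := by simp [hi₀, hi₁, Fin.ext_iff]
  have hc : c0 ≠ c1 := fun h => hkk (congrFun h i₀)
  set w₀ : (Fin t → Fin k) → F := Pi.single c0 1 + Pi.single c1 1 with hw₀
  have hw₀c0 : w₀ c0 = 1 := by
    rw [hw₀, Pi.add_apply, Pi.single_eq_same, Pi.single_eq_of_ne hc, add_zero]
  have hw₀c1 : w₀ c1 = 1 := by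
    rw [hw₀, Pi.add_apply, Pi.single_eq_same, Pi.single_eq_of_ne hc.symm, zero_add]
  have hw₀ne : w₀ ≠ 0 := by
    intro h
    have := congrFun h c0
    rw [hw₀c0, Pi.zero_apply] at this
    exact one_ne_zero this
  set y₁ : Fin t → Fin k := Function.update c0 i₀ k1 with hy₁
  set y₂ : Fin t → Fin k := Function.update c1 i₀ k0 with hy₂
  have hy₁0 : y₁ ≠ c0 := fun h => hkk (by
    have := congrFun h i₀
    rw [hy₁, Function.update_self] at this
    exact this.symm)
  have hy₁1 : y₁ ≠ c1 := fun h => hkk (by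
    have := congrFun h i₁
    rw [hy₁, Function.update_of_ne hi.symm] at this
    exact this)
  have hy₂0 : y₂ ≠ c0 := fun h => hkk (by
    have := congrFun h i₁
    rw [hy₂, Function.update_of_ne hi.symm] at this
    exact this.symm)
  have hy₂1 : y₂ ≠ c1 := fun h => hkk (by
    have := congrFun h i₀
    rw [hy₂, Function.update_self] at this
    exact this)
  have hy₁₂ : y₁ ≠ y₂ := fun h => hkk (by
    have := congrFun h i₀
    rw [hy₁, hy₂, Function.update_self, Function.update_self] at this
    exact this.symm)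
  have hw₀y₁ : w₀ y₁ = 0 := by
    rw [hw₀, Pi.add_apply, Pi.single_eq_of_ne hy₁0, Pi.single_eq_of_ne hy₁1, add_zero]
  have hw₀y₂ : w₀ y₂ = 0 := by
    rw [hw₀, Pi.add_apply, Pi.single_eq_of_ne hy₂0, Pi.single_eq_of_ne hy₂1, add_zero]
  set u : V := (P : MatV) *ᵥ (w₀ ∘ e) with hu
  -- the transvections with centre `u` preserve pure vectors
  have key : ∀ (c : F) (w : (Fin t → Fin k) → F), IsPureVec w →
      IsPureVec (w + (c * sympForm m F ((P : MatV) *ᵥ (w ∘ e)) u) • w₀) := by
    intro c w hw
    obtain ⟨_, ⟨y, hy, rfl⟩, hyu⟩ := hle (tvGL_mem m u c)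
    have h1 : P * glReindex e.symm y * P⁻¹ = tvGL m u c := hyu
    have h4 := presPure_of_mem_standard y hy
    have h5 := transport_tv' e P y w₀ c h1.symm w
    rw [← h5]
    exact h4 w hw
  obtain ⟨j, hj⟩ := exists_single_pairing e P w₀ hw₀ne
  set β : F := sympForm m F ((P : MatV) *ᵥ ((Pi.single j (1 : F) : (Fin t → Fin k) → F) ∘ e)) u
    with hβ
  -- the exchange property for the two images
  have hex : ∀ c : F, ((if c0 = j then 1 else 0) + c * β) * ((if c1 = j then 1 else 0) + c * β) =
      0 := by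
    intro c
    have hp := key c _ (isPureVec_single j)
    have hs := pure_swap hp c0 c1 i₀
    have e1 : Function.update c0 i₀ (c1 i₀) = y₁ := rfl
    have e2 : Function.update c1 i₀ (c0 i₀) = y₂ := rfl
    rw [e1, e2] at hs
    simp only [Pi.add_apply, Pi.smul_apply, smul_eq_mul, hw₀c0, hw₀c1, hw₀y₁, hw₀y₂, mul_zero,
      add_zero, mul_one, Pi.single_apply] at hs
    rw [← hβ] at hs
    rw [hs]
    by_cases h1 : y₁ = j
    · have h2 : ¬ y₂ = j := fun h => hy₁₂ (h1.trans h.symm)
      rw [if_neg h2, mul_zero]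
    · rw [if_neg h1, zero_mul]
  have h1 := hex 1
  have h2' := hex (-1)
  by_cases hj0 : c0 = j
  · have hj1 : ¬ c1 = j := fun h => hc (hj0.trans h.symm)
    rw [if_pos hj0, if_neg hj1] at h1 h2'
    have e1 : β = -1 := by
      rcases mul_eq_zero.mp h1 with h | h
      · linear_combination h
      · exfalso; apply hj; linear_combination h
    have e2 : β = 1 := by
      rcases mul_eq_zero.mp h2' with h | h
      · linear_combination -h
      · exfalso; apply hj; linear_combination -h
    apply h2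
    rw [e1] at e2
    linear_combination -e2
  · rw [if_neg hj0] at h1 h2'
    by_cases hj1 : c1 = j
    · rw [if_pos hj1] at h1 h2'
      have e1 : β = -1 := by
        rcases mul_eq_zero.mp h1 with h | h
        · exfalso; apply hj; linear_combination h
        · linear_combination h
      have e2 : β = 1 := by
        rcases mul_eq_zero.mp h2' with h | h
        · exfalso; apply hj; linear_combination -h
        · linear_combination -h
      apply h2
      rw [e1] at e2
      linear_combination -e2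
    · rw [if_neg hj1] at h1
      apply hj
      have : β * β = 0 := by linear_combination h1
      exact mul_self_eq_zero.mp this

end pure

end Cfsg.Agent.Lib.Helper3.SpW
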