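import Mathlib
import Cfsg.Prelude
import Cfsg.Agent.Lib.Helper4.MaxS12

set_option autoImplicit false
set_option maxHeartbeats 4000000
set_option maxRecDepth 100000
set_option linter.unusedVariables false
set_option linter.unusedSectionVars false
set_option linter.style.haveILetI false
set_option linter.deprecated false

/-! A four-dimensional symmetric form of plus type is the tensor square of the alternating form
on the plane. -/

namespace Cfsg.Agent.Lib.Helper3.SpW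

open Matrix Cfsg Cfsg.Geo Module
open Cfsg.Agent.Lib.Helper4.MaxS

variable {F : Type*} [Field F]

/-- the standard alternating matrix -/
def J2 : Matrix (Fin 2) (Fin 2) F := !![0, 1; -1, 0]

@[simp] theorem J2_00 : (J2 : Matrix (Fin 2) (Fin 2) F) 0 0 = 0 := rfl
@[simp] theorem J2_01 : (J2 : Matrix (Fin 2) (Fin 2) F) 0 1 = 1 := rfl
@[simp] theorem J2_10 : (J2 : Matrix (Fin 2) (Fin 2) F) 1 0 = -1 := rfl
@[simp] theorem J2_11 : (J2 : Matrix (Fin 2) (Fin 2) F) 1 1 = 0 := rfl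

section bil
variable {κ : Type} [Fintype κ] [DecidableEq κ] {f : (κ → F) → (κ → F) → F}

theorem bsubl (hf : IsBilinearForm f) (a b c : κ → F) : f (a - b) c = f a c - f b c := by
  rw [sub_eq_add_neg, hf.add_left, bil_neg_left hf, ← sub_eq_add_neg]

theorem bsubr (hf : IsBilinearForm f) (a b c : κ → F) : f a (b - c) = f a b - f a c := by
  rw [sub_eq_add_neg, hf.add_right, bil_neg_right hf, ← sub_eq_add_neg]

/-- a vector pairing to one with the first and to zero with the second of two independent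
vectors -/
theorem exists_partner (hf : IsSymmetricForm f) {u₁ u₂ : κ → F}
    (hind : ∀ α β : F, α • u₁ + β • u₂ = 0 → α = 0 ∧ β = 0) :
    ∃ x, f x u₁ = 1 ∧ f x u₂ = 0 := by
  have hb := hf.bilinear
  have hu₂ : u₂ ≠ 0 := by
    rintro rfl
    have := hind 0 1 (by simp)
    exact one_ne_zero this.2
  obtain ⟨⟨x₂, hx₂⟩, -⟩ := hf.nondegenerate u₂ hu₂
  set x₂' : κ → F := (f x₂ u₂)⁻¹ • x₂ with hx₂'
  have h1 : f x₂' u₂ = 1 := by rw [hx₂', hb.smul_left, inv_mul_cancel₀ hx₂]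
  set γ : F := f x₂' u₁ with hγ
  have hu' : u₁ - γ • u₂ ≠ 0 := by
    intro h
    have := hind 1 (-γ) (by rw [one_smul, neg_smul, ← sub_eq_add_neg]; exact h)
    exact one_ne_zero this.1
  obtain ⟨⟨z, hz⟩, -⟩ := hf.nondegenerate _ hu'
  set x : κ → F := z - (f z u₂) • x₂' with hx
  have e2 : f x u₂ = 0 := by
    rw [hx, bsubl hb, hb.smul_left, h1, mul_one, sub_self]
  have e1 : f x u₁ = f z (u₁ - γ • u₂) := by
    rw [hx, bsubl hb, hb.smul_left, bsubr hb, hb.smul_right, ← hγ]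
    ring
  have e1' : f x u₁ ≠ 0 := by rw [e1]; exact hz
  refine ⟨(f x u₁)⁻¹ • x, ?_, ?_⟩
  · rw [hb.smul_left, inv_mul_cancel₀ e1']
  · rw [hb.smul_left, e2, mul_zero]

end bil

/-- a hyperbolic basis of a four-dimensional symmetric form of plus type, indexed as a tensor
square -/
theorem exists_hyp_basis4 (h2 : (2 : F) ≠ 0) {f₂ : (Fin 4 → F) → (Fin 4 → F) → F}
    (hf₂ : IsSymmetricForm f₂) (hplus : IsPlusTypeOn (fun v : Fin 4 → F => f₂ v v) ⊤) :
    ∃ b : Fin 2 → Fin 2 → (Fin 4 → F),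
      ∀ j k j' k', f₂ (b j k) (b j' k') = J2 j j' * J2 k k' := by
  classical
  have hb := hf₂.bilinear
  have hsym := hf₂.symm
  obtain ⟨U, -, hUts, hUdim⟩ := hplus
  have hfr : finrank F U = 2 := by
    have h4 : finrank F (⊤ : Submodule F (Fin 4 → F)) = 4 := by
      rw [finrank_top, Module.finrank_fintype_fun_eq_card, Fintype.card_fin]
    rw [h4] at hUdim
    omega
  let bU := Module.finBasisOfFinrankEq F U hfr
  set u₁ : Fin 4 → F := (bU 0 : Fin 4 → F) with hu₁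
  set u₂ : Fin 4 → F := (bU 1 : Fin 4 → F) with hu₂
  have hu₁U : u₁ ∈ U := (bU 0).2
  have hu₂U : u₂ ∈ U := (bU 1).2
  have hind : ∀ α β : F, α • u₁ + β • u₂ = 0 → α = 0 ∧ β = 0 := by
    intro α β h
    have hli := bU.linearIndependent
    rw [Fintype.linearIndependent_iff] at hli
    have h3 := hli ![α, β] (by
      rw [Fin.sum_univ_two]
      apply Subtype.ext
      simpa using h)
    exact ⟨by simpa using h3 0, by simpa using h3 1⟩
  have hind' : ∀ α β : F, α • u₂ + β • u₁ = 0 → α = 0 ∧ β = 0 := by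
    intro α β h
    have := hind β α (by rw [add_comm]; exact h)
    exact ⟨this.2, this.1⟩
  -- the plane is totally isotropic
  have hQ : ∀ x ∈ U, f₂ x x = 0 := fun x hx => hUts x hx
  have hUU : ∀ x ∈ U, ∀ y ∈ U, f₂ x y = 0 := by
    intro x hx y hy
    have h3 := hQ (x + y) (U.add_mem hx hy)
    rw [hb.add_left, hb.add_right, hb.add_right, hQ x hx, hQ y hy, hsym y x] at h3
    have h4 : 2 * f₂ x y = 0 := by linear_combination h3
    exact (mul_eq_zero.mp h4).resolve_left h2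
  have h11 := hQ u₁ hu₁U
  have h22 := hQ u₂ hu₂U
  have h12 := hUU u₁ hu₁U u₂ hu₂U
  have h21 := hUU u₂ hu₂U u₁ hu₁U
  obtain ⟨v₁', hv₁'1, hv₁'2⟩ := exists_partner hf₂ hind
  obtain ⟨v₂', hv₂'2, hv₂'1⟩ := exists_partner hf₂ hind'
  set v₁ : Fin 4 → F := v₁' - (f₂ v₁' v₁' / 2) • u₁ with hv₁
  have a1 : f₂ v₁ u₁ = 1 := by
    rw [hv₁, bsubl hb, hb.smul_left, h11, hv₁'1]; ring
  have a2 : f₂ v₁ u₂ = 0 := by
    rw [hv₁, bsubl hb, hb.smul_left, h12, hv₁'2]; ring
  have a3 : f₂ v₁ v₁ = 0 := by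
    have e1 : f₂ v₁ v₁ = f₂ v₁ v₁' - (f₂ v₁' v₁' / 2) * f₂ v₁ u₁ := by
      conv_lhs => rw [hv₁]
      rw [bsubr hb, hb.smul_right]
    have e2 : f₂ v₁ v₁' = f₂ v₁' v₁' - (f₂ v₁' v₁' / 2) * f₂ u₁ v₁' := by
      rw [hv₁, bsubl hb, hb.smul_left]
    rw [e1, e2, a1, hsym u₁ v₁', hv₁'1]
    field_simp
    ring
  set c : F := f₂ v₁ v₂' with hc
  set v₂ : Fin 4 → F := v₂' - (f₂ v₂' v₂' / 2) • u₂ - c • u₁ with hv₂
  have b1 : f₂ v₂ u₁ = 0 := by
    rw [hv₂, bsubl hb, bsubl hb, hb.smul_left, hb.smul_left, h11, h21, hv₂'1]; ring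
  have b2 : f₂ v₂ u₂ = 1 := by
    rw [hv₂, bsubl hb, bsubl hb, hb.smul_left, hb.smul_left, h12, h22, hv₂'2]; ring
  have b3 : f₂ v₁ v₂ = 0 := by
    rw [hv₂, bsubr hb, bsubr hb, hb.smul_right, hb.smul_right, a1, a2, ← hc]; ring
  have b4 : f₂ v₂ v₂ = 0 := by
    have e1 : f₂ v₂ v₂ = f₂ v₂ v₂' - (f₂ v₂' v₂' / 2) * f₂ v₂ u₂ - c * f₂ v₂ u₁ := by
      conv_lhs => rw [hv₂]
      rw [bsubr hb, bsubr hb, hb.smul_right, hb.smul_right]
    have e2 : f₂ v₂ v₂' = f₂ v₂' v₂' - (f₂ v₂' v₂' / 2) * f₂ u₂ v₂' - c * f₂ u₁ v₂' := by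
      rw [hv₂, bsubl hb, bsubl hb, hb.smul_left, hb.smul_left]
    rw [e1, e2, b1, b2, hsym u₂ v₂', hv₂'2, hsym u₁ v₂', hv₂'1]
    field_simp
    ring
  have s1 : f₂ u₁ v₁ = 1 := by rw [hsym]; exact a1
  have s2 : f₂ u₂ v₁ = 0 := by rw [hsym]; exact a2
  have s3 : f₂ u₁ v₂ = 0 := by rw [hsym]; exact b1
  have s4 : f₂ u₂ v₂ = 1 := by rw [hsym]; exact b2
  have s5 : f₂ v₂ v₁ = 0 := by rw [hsym]; exact b3
  refine ⟨![![u₁, u₂], ![-v₂, v₁]], ?_⟩
  intro j k j' k'
  fin_cases j <;> fin_cases k <;> fin_cases j' <;> fin_cases k' <;>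
    simp [bil_neg_left hb, bil_neg_right hb, h11, h22, h12, h21, a1, a2, a3, b1, b2, b3, b4,
      s1, s2, s3, s4, s5]

/-- the vectors of a tensor-square hyperbolic basis span the space -/
theorem hyp_span {f₂ : (Fin 4 → F) → (Fin 4 → F) → F} (hf₂ : IsSymmetricForm f₂)
    {b : Fin 2 → Fin 2 → (Fin 4 → F)}
    (hG : ∀ j k j' k', f₂ (b j k) (b j' k') = J2 j j' * J2 k k') (x : Fin 4 → F) :
    ∃ c : Fin 2 → Fin 2 → F, x = ∑ j, ∑ k, c j k • b j k := by
  classical
  have hb := hf₂.bilinear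
  set b' : Fin 2 × Fin 2 → (Fin 4 → F) := fun p => b p.1 p.2 with hb'
  have hli : LinearIndependent F b' := by
    rw [Fintype.linearIndependent_iff]
    intro g hg
    rw [Fintype.sum_prod_type, Fin.sum_univ_two, Fin.sum_univ_two, Fin.sum_univ_two] at hg
    simp only [hb'] at hg
    have e00 := congrArg (fun y => f₂ y (b 1 1)) hg
    have e01 := congrArg (fun y => f₂ y (b 1 0)) hg
    have e10 := congrArg (fun y => f₂ y (b 0 1)) hg
    have e11 := congrArg (fun y => f₂ y (b 0 0)) hg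
    simp only [hb.add_left, hb.smul_left, hG, bil_zero_left hb, J2_00, J2_01, J2_10, J2_11,
      mul_zero, zero_mul, mul_one, add_zero, zero_add, mul_neg, neg_neg, neg_zero] at e00 e01 e10 e11
    rintro ⟨j, k⟩
    fin_cases j <;> fin_cases k
    · exact e00
    · simpa using e01
    · simpa using e10
    · simpa using e11
  have hspan : Submodule.span F (Set.range b') = ⊤ := by
    apply hli.span_eq_top_of_card_eq_finrank'
    rw [Module.finrank_fintype_fun_eq_card, Fintype.card_prod, Fintype.card_fin, Fintype.card_fin]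
  have hx : x ∈ Submodule.span F (Set.range b') := by rw [hspan]; trivial
  obtain ⟨c, hc⟩ := (Submodule.mem_span_range_iff_exists_fun F).mp hx
  refine ⟨fun j k => c (j, k), ?_⟩
  rw [← hc, Fintype.sum_prod_type]

end Cfsg.Agent.Lib.Helper3.SpW
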