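import Mathlib
import Cfsg.Prelude
import Cfsg.Agent.Lib.Helper3.SpW2

set_option autoImplicit false
set_option maxHeartbeats 4000000
set_option maxRecDepth 100000
set_option linter.unusedVariables false
set_option linter.unusedSectionVars false
set_option linter.style.haveILetI false
set_option linter.deprecated false

/-! The similarities of the tensor square of the alternating form on the plane. -/

namespace Cfsg.Agent.Lib.Helper3.SpW

open Matrix Cfsg Cfsg.Geo Module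
open Cfsg.Agent.Lib.Helper4.MaxS

variable {F : Type*} [Field F]

/-- the standard alternating form on the plane -/
def g0 (v w : Fin 2 → F) : F := v 0 * w 1 - v 1 * w 0

theorem g0_smul_left (c : F) (v w : Fin 2 → F) : g0 (c • v) w = c * g0 v w := by
  simp only [g0, Pi.smul_apply, smul_eq_mul]; ring

theorem g0_smul_right (c : F) (v w : Fin 2 → F) : g0 v (c • w) = c * g0 v w := by
  simp only [g0, Pi.smul_apply, smul_eq_mul]; ring

theorem g0_swap (v w : Fin 2 → F) : g0 v w = - g0 w v := by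
  simp only [g0]; ring

theorem g0_zero_left (w : Fin 2 → F) : g0 (0 : Fin 2 → F) w = 0 := by
  simp [g0]

theorem g0_zero_right (w : Fin 2 → F) : g0 w (0 : Fin 2 → F) = 0 := by
  simp [g0]

theorem ne_zero_of_g0_left {v w : Fin 2 → F} (h : g0 v w ≠ 0) : v ≠ 0 := by
  rintro rfl
  exact h (g0_zero_left w)

theorem ne_zero_of_g0_right {v w : Fin 2 → F} (h : g0 v w ≠ 0) : w ≠ 0 := by
  rintro rfl
  exact h (g0_zero_right v)

theorem g0_par {p p' : Fin 2 → F} (h : g0 p p' = 0) (hp : p ≠ 0) : ∃ c : F, p' = c • p := by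
  unfold g0 at h
  by_cases h0 : p 0 = 0
  · have h1 : p 1 ≠ 0 := by
      intro h1
      apply hp
      ext i
      fin_cases i
      · exact h0
      · exact h1
    rw [h0, zero_mul, zero_sub, neg_eq_zero] at h
    have h3 : p' 0 = 0 := (mul_eq_zero.mp h).resolve_left h1
    refine ⟨p' 1 / p 1, ?_⟩
    ext i
    fin_cases i
    · simp [h0, h3]
    · simp only [Fin.mk_one, Fin.isValue, Pi.smul_apply, smul_eq_mul]
      field_simp
  · refine ⟨p' 0 / p 0, ?_⟩
    ext i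
    fin_cases i
    · simp only [Fin.zero_eta, Fin.isValue, Pi.smul_apply, smul_eq_mul]
      field_simp
    · simp only [Fin.mk_one, Fin.isValue, Pi.smul_apply, smul_eq_mul]
      field_simp
      linear_combination h

/-- the combinatorial core of the structure theorem -/
theorem struct_aux {W : Type*} (T : (Fin 2 → F) → (Fin 2 → F) → W)
    (hsm : ∀ (c : F) (v w : Fin 2 → F), T (c • v) w = T v (c • w))
    (μ : F) (hμ : μ ≠ 0) (p q : Fin 2 → Fin 2 → (Fin 2 → F))
    (hG : ∀ j k j' k', g0 (p j k) (p j' k') * g0 (q j k) (q j' k') = μ * J2 j j' * J2 k k')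
    (hI : g0 (p 0 0) (p 0 1) = 0) :
    ∃ P Q : Fin 2 → (Fin 2 → F), g0 (P 0) (P 1) ≠ 0 ∧ g0 (Q 0) (Q 1) ≠ 0 ∧
      ∀ j k, T (p j k) (q j k) = T (P j) (Q k) := by
  have R1 := hG 0 0 1 1
  have R2 := hG 0 1 1 0
  have R4 := hG 0 0 1 0
  have R5 := hG 0 1 1 1
  have R6 := hG 1 0 1 1
  simp only [J2_00, J2_01, J2_10, J2_11, mul_one, mul_zero, mul_neg] at R1 R2 R4 R5 R6
  have n1 : g0 (p 0 0) (p 1 1) ≠ 0 := fun h => hμ (by rw [← R1, h, zero_mul])
  have n2 : g0 (q 0 0) (q 1 1) ≠ 0 := fun h => hμ (by rw [← R1, h, mul_zero])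
  have hp00 := ne_zero_of_g0_left n1
  have hq00 := ne_zero_of_g0_left n2
  obtain ⟨l, hl⟩ := g0_par hI hp00
  rw [hl, g0_smul_left] at R2 R5
  have hμ' : -μ ≠ 0 := neg_ne_zero.mpr hμ
  have n3 : l ≠ 0 := fun h => hμ' (by rw [← R2, h, zero_mul, zero_mul])
  have n4 : g0 (p 0 0) (p 1 0) ≠ 0 := fun h => hμ' (by rw [← R2, h, mul_zero, zero_mul])
  have n5 : g0 (q 0 1) (q 1 0) ≠ 0 := fun h => hμ' (by rw [← R2, h, mul_zero])
  have hq01 := ne_zero_of_g0_left n5
  have hp10 := ne_zero_of_g0_right n4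
  have e4 : g0 (q 0 0) (q 1 0) = 0 := (mul_eq_zero.mp R4).resolve_left n4
  obtain ⟨s, hs⟩ := g0_par e4 hq00
  have e5 : g0 (q 0 1) (q 1 1) = 0 :=
    (mul_eq_zero.mp R5).resolve_left (mul_ne_zero n3 n1)
  obtain ⟨s', hs'⟩ := g0_par e5 hq01
  rw [hs, g0_smul_right] at n5
  have n6 : s ≠ 0 := fun h => n5 (by rw [h, zero_mul])
  have n7 : g0 (q 0 1) (q 0 0) ≠ 0 := fun h => n5 (by rw [h, mul_zero])
  have n8 : g0 (q 0 0) (q 0 1) ≠ 0 := by rw [g0_swap]; exact neg_ne_zero.mpr n7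
  rw [hs', g0_smul_right] at n2
  have n9 : s' ≠ 0 := fun h => n2 (by rw [h, zero_mul])
  rw [hs, hs', g0_smul_left, g0_smul_right] at R6
  have e6 : g0 (p 1 0) (p 1 1) = 0 :=
    (mul_eq_zero.mp R6).resolve_right (mul_ne_zero n6 (mul_ne_zero n9 n8))
  obtain ⟨ν, hν⟩ := g0_par e6 hp10
  rw [hν, hs', g0_smul_right, g0_smul_right] at R1
  rw [hs, g0_smul_right, g0_swap (q 0 1) (q 0 0)] at R2
  have hX : g0 (p 0 0) (p 1 0) * g0 (q 0 0) (q 0 1) ≠ 0 := mul_ne_zero n4 n8
  have hrel : ν * s' = l * s := by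
    have h1 : (ν * s' - l * s) * (g0 (p 0 0) (p 1 0) * g0 (q 0 0) (q 0 1)) = 0 := by
      linear_combination R1 + R2
    have := (mul_eq_zero.mp h1).resolve_right hX
    linear_combination this
  refine ⟨![p 0 0, s • p 1 0], ![q 0 0, l • q 0 1], ?_, ?_, ?_⟩
  · simp only [Matrix.cons_val_zero, Matrix.cons_val_one, Matrix.head_cons]
    rw [g0_smul_right]
    exact mul_ne_zero n6 n4
  · simp only [Matrix.cons_val_zero, Matrix.cons_val_one, Matrix.head_cons]
    rw [g0_smul_right]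
    exact mul_ne_zero n3 n8
  · intro j k
    fin_cases j <;> fin_cases k
    · rfl
    · show T (p 0 1) (q 0 1) = T (p 0 0) (l • q 0 1)
      rw [hl, hsm]
    · show T (p 1 0) (q 1 0) = T (s • p 1 0) (q 0 0)
      rw [hs, hsm]
    · show T (p 1 1) (q 1 1) = T (s • p 1 0) (l • q 0 1)
      rw [hν, hs', hsm, hsm, smul_smul, smul_smul, hrel, mul_comm l s]

section Tb
variable {f₂ : (Fin 4 → F) → (Fin 4 → F) → F} {b : Fin 2 → Fin 2 → (Fin 4 → F)}

/-- the tensor product of two plane vectors, in the hyperbolic basis -/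
def Tb (b : Fin 2 → Fin 2 → (Fin 4 → F)) (v w : Fin 2 → F) : Fin 4 → F :=
  (v 0 * w 0) • b 0 0 + (v 0 * w 1) • b 0 1 + (v 1 * w 0) • b 1 0 + (v 1 * w 1) • b 1 1

theorem Tb_sm (b : Fin 2 → Fin 2 → (Fin 4 → F)) (c : F) (v w : Fin 2 → F) :
    Tb b (c • v) w = Tb b v (c • w) := by
  ext i
  simp only [Tb, Pi.smul_apply, Pi.add_apply, smul_eq_mul]
  ring

theorem Tb_sm' (b : Fin 2 → Fin 2 → (Fin 4 → F)) (c : F) (v w : Fin 2 → F) :
    Tb b w (c • v) = Tb b (c • w) v := (Tb_sm b c w v).symm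

theorem Tb_single (b : Fin 2 → Fin 2 → (Fin 4 → F)) (j k : Fin 2) :
    Tb b (Pi.single j 1) (Pi.single k 1) = b j k := by
  fin_cases j <;> fin_cases k <;> simp [Tb]

theorem Tb_form (hf₂ : IsSymmetricForm f₂)
    (hG : ∀ j k j' k', f₂ (b j k) (b j' k') = J2 j j' * J2 k k') (v w v' w' : Fin 2 → F) :
    f₂ (Tb b v w) (Tb b v' w') = g0 v v' * g0 w w' := by
  have hb := hf₂.bilinear
  simp only [Tb, hb.add_left, hb.smul_left, hb.add_right, hb.smul_right, hG, J2_00, J2_01, J2_10,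
    J2_11, g0]
  ring

/-- singular vectors are pure -/
theorem singular_pure (h2 : (2 : F) ≠ 0) (hf₂ : IsSymmetricForm f₂)
    (hG : ∀ j k j' k', f₂ (b j k) (b j' k') = J2 j j' * J2 k k') {x : Fin 4 → F}
    (hx : f₂ x x = 0) : ∃ v w : Fin 2 → F, x = Tb b v w := by
  have hb := hf₂.bilinear
  obtain ⟨c, hc⟩ := hyp_span hf₂ hG x
  rw [Fin.sum_univ_two, Fin.sum_univ_two, Fin.sum_univ_two] at hc
  have h1 : f₂ x x = 2 * (c 0 0 * c 1 1 - c 0 1 * c 1 0) := by
    rw [hc]
    simp only [hb.add_left, hb.smul_left, hb.add_right, hb.smul_right, hG, J2_00, J2_01, J2_10,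
      J2_11]
    ring
  rw [hx] at h1
  have h3 : c 0 0 * c 1 1 = c 0 1 * c 1 0 := by
    have := (mul_eq_zero.mp h1.symm).resolve_left h2
    linear_combination this
  by_cases h00 : c 0 0 = 0
  · by_cases h01 : c 0 1 = 0
    · refine ⟨![0, 1], ![c 1 0, c 1 1], ?_⟩
      rw [hc, h00, h01]
      ext i
      simp [Tb]
    · have h10 : c 1 0 = 0 := by
        rw [h00, zero_mul] at h3
        exact (mul_eq_zero.mp h3.symm).resolve_left h01
      refine ⟨![1, c 1 1 / c 0 1], ![0, c 0 1], ?_⟩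
      rw [hc, h00, h10]
      ext i
      simp only [Tb, Matrix.cons_val_zero, Matrix.cons_val_one, Matrix.head_cons, Pi.add_apply,
        Pi.smul_apply, smul_eq_mul]
      field_simp
      ring
  · refine ⟨![1, c 1 0 / c 0 0], ![c 0 0, c 0 1], ?_⟩
    have h4 : c 1 1 = c 1 0 / c 0 0 * c 0 1 := by
      field_simp
      linear_combination h3
    rw [hc, h4]
    ext i
    simp only [Tb, Matrix.cons_val_zero, Matrix.cons_val_one, Matrix.head_cons, Pi.add_apply,
      Pi.smul_apply, smul_eq_mul]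
    field_simp
    ring

/-- the structure of the similarities of the tensor square form -/
theorem sim_struct (h2 : (2 : F) ≠ 0) (hf₂ : IsSymmetricForm f₂)
    (hG : ∀ j k j' k', f₂ (b j k) (b j' k') = J2 j j' * J2 k k')
    (B : Matrix (Fin 4) (Fin 4) F) (μ : F) (hμ : μ ≠ 0)
    (hB : ∀ x y, f₂ (B *ᵥ x) (B *ᵥ y) = μ * f₂ x y) :
    ∃ B₁ B₂ : Matrix (Fin 2) (Fin 2) F, B₁.det ≠ 0 ∧ B₂.det ≠ 0 ∧
      ((∀ v w, B *ᵥ Tb b v w = Tb b (B₁ *ᵥ v) (B₂ *ᵥ w)) ∨
       (∀ v w, B *ᵥ Tb b v w = Tb b (B₁ *ᵥ w) (B₂ *ᵥ v))) := by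
  have hb := hf₂.bilinear
  have hJ : ∀ j : Fin 2, (J2 : Matrix (Fin 2) (Fin 2) F) j j = 0 := by
    intro j; fin_cases j <;> rfl
  have hsing : ∀ j k, f₂ (B *ᵥ b j k) (B *ᵥ b j k) = 0 := by
    intro j k
    rw [hB, hG, hJ, zero_mul, mul_zero]
  choose p q hpq using fun j k => singular_pure h2 hf₂ hG (hsing j k)
  have hG' : ∀ j k j' k', g0 (p j k) (p j' k') * g0 (q j k) (q j' k') =
      μ * J2 j j' * J2 k k' := by
    intro j k j' k'
    rw [← Tb_form hf₂ hG, ← hpq, ← hpq, hB, hG, mul_assoc]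
  have hexp : ∀ v w : Fin 2 → F, B *ᵥ Tb b v w =
      (v 0 * w 0) • Tb b (p 0 0) (q 0 0) + (v 0 * w 1) • Tb b (p 0 1) (q 0 1) +
      (v 1 * w 0) • Tb b (p 1 0) (q 1 0) + (v 1 * w 1) • Tb b (p 1 1) (q 1 1) := by
    intro v w
    rw [← hpq, ← hpq, ← hpq, ← hpq]
    conv_lhs => rw [Tb]
    rw [Matrix.mulVec_add, Matrix.mulVec_add, Matrix.mulVec_add, Matrix.mulVec_smul,
      Matrix.mulVec_smul, Matrix.mulVec_smul, Matrix.mulVec_smul]
  have R3 := hG' 0 0 0 1
  simp only [J2_00, mul_zero, zero_mul] at R3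
  rcases mul_eq_zero.mp R3 with hI | hII
  · obtain ⟨P, Q, hP, hQ, hPQ⟩ := struct_aux (Tb b) (Tb_sm b) μ hμ p q hG' hI
    refine ⟨Matrix.of fun i j => P j i, Matrix.of fun i j => Q j i, ?_, ?_, Or.inl ?_⟩
    · rw [Matrix.det_fin_two]
      simp only [Matrix.of_apply]
      unfold g0 at hP
      intro h
      apply hP
      linear_combination h
    · rw [Matrix.det_fin_two]
      simp only [Matrix.of_apply]
      unfold g0 at hQ
      intro h
      apply hQ
      linear_combination h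
    · intro v w
      rw [hexp, hPQ, hPQ, hPQ, hPQ]
      ext i
      simp only [Tb, Matrix.mulVec, dotProduct, Fin.sum_univ_two, Matrix.of_apply, Pi.add_apply,
        Pi.smul_apply, smul_eq_mul]
      ring
  · have hG'' : ∀ j k j' k', g0 (q j k) (q j' k') * g0 (p j k) (p j' k') =
        μ * J2 j j' * J2 k k' := by
      intro j k j' k'
      rw [mul_comm]
      exact hG' j k j' k'
    obtain ⟨P, Q, hP, hQ, hPQ⟩ := struct_aux (fun v w => Tb b w v) (Tb_sm' b) μ hμ q p hG'' hII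
    refine ⟨Matrix.of fun i j => Q j i, Matrix.of fun i j => P j i, ?_, ?_, Or.inr ?_⟩
    · rw [Matrix.det_fin_two]
      simp only [Matrix.of_apply]
      unfold g0 at hQ
      intro h
      apply hQ
      linear_combination h
    · rw [Matrix.det_fin_two]
      simp only [Matrix.of_apply]
      unfold g0 at hP
      intro h
      apply hP
      linear_combination h
    · intro v w
      have hPQ' : ∀ j k, Tb b (p j k) (q j k) = Tb b (Q k) (P j) := hPQ
      rw [hexp, hPQ', hPQ', hPQ', hPQ']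
      ext i
      simp only [Tb, Matrix.mulVec, dotProduct, Fin.sum_univ_two, Matrix.of_apply, Pi.add_apply,
        Pi.smul_apply, smul_eq_mul]
      ring

end Tb

end Cfsg.Agent.Lib.Helper3.SpW
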