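import Mathlib
import Cfsg.Prelude

set_option autoImplicit false
set_option maxHeartbeats 4000000
set_option maxRecDepth 100000
set_option linter.unusedVariables false
set_option linter.unusedSectionVars false
set_option linter.style.haveILetI false
set_option linter.deprecated false

/-! Pure tensors of matrices and permutations of the tensor factors. -/

namespace Cfsg.Agent.Lib.Helper3.SpW

open Matrix Cfsg Cfsg.Geo

variable {F : Type*} [Field F] {m t : ℕ}

/-- the tensor product of `t` matrices of size `m` -/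
def pureMat (gs : Fin t → Matrix (Fin m) (Fin m) F) :
    Matrix (Fin t → Fin m) (Fin t → Fin m) F :=
  fun x y => ∏ i, gs i (x i) (y i)

theorem pureMat_apply (gs : Fin t → Matrix (Fin m) (Fin m) F) (x y : Fin t → Fin m) :
    pureMat gs x y = ∏ i, gs i (x i) (y i) := rfl

theorem pureMat_mul (gs hs : Fin t → Matrix (Fin m) (Fin m) F) :
    pureMat gs * pureMat hs = pureMat (fun i => gs i * hs i) := by
  classical
  ext x y
  simp only [Matrix.mul_apply, pureMat]
  rw [Finset.prod_univ_sum, Fintype.piFinset_univ]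
  refine Finset.sum_congr rfl fun z _ => ?_
  rw [← Finset.prod_mul_distrib]

theorem pureMat_one : pureMat (fun _ : Fin t => (1 : Matrix (Fin m) (Fin m) F)) = 1 := by
  classical
  ext x y
  simp only [pureMat, Matrix.one_apply]
  rw [Finset.prod_boole]
  congr 1
  simp only [Finset.mem_univ, forall_true_left, eq_iff_iff]
  exact ⟨fun h => funext h, fun h i => congrFun h i⟩

/-- the tensor product of invertible matrices, as a homomorphism -/
def pureHom : (Fin t → Matrix.GeneralLinearGroup (Fin m) F) →*
    Matrix.GeneralLinearGroup (Fin t → Fin m) F where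
  toFun gs := ⟨pureMat (fun i => (gs i : Matrix (Fin m) (Fin m) F)),
    pureMat (fun i => ((gs i)⁻¹ : Matrix.GeneralLinearGroup (Fin m) F)),
    by
      rw [pureMat_mul]
      have : (fun i => (gs i : Matrix (Fin m) (Fin m) F) *
          ((gs i)⁻¹ : Matrix.GeneralLinearGroup (Fin m) F)) = fun _ => 1 := by
        funext i
        rw [← Units.val_mul, mul_inv_cancel, Units.val_one]
      rw [this, pureMat_one],
    by
      rw [pureMat_mul]
      have : (fun i => (((gs i)⁻¹ : Matrix.GeneralLinearGroup (Fin m) F) :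
          Matrix (Fin m) (Fin m) F) * (gs i : Matrix (Fin m) (Fin m) F)) = fun _ => 1 := by
        funext i
        rw [← Units.val_mul, inv_mul_cancel, Units.val_one]
      rw [this, pureMat_one]⟩
  map_one' := by
    apply Units.ext
    show pureMat (fun i => ((1 : Fin t → Matrix.GeneralLinearGroup (Fin m) F) i :
      Matrix (Fin m) (Fin m) F)) = 1
    have : (fun i => ((1 : Fin t → Matrix.GeneralLinearGroup (Fin m) F) i :
        Matrix (Fin m) (Fin m) F)) = fun _ => 1 := by
      funext i
      rfl
    rw [this, pureMat_one]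
  map_mul' gs hs := by
    apply Units.ext
    show pureMat (fun i => ((gs * hs) i : Matrix (Fin m) (Fin m) F)) =
      pureMat (fun i => (gs i : Matrix (Fin m) (Fin m) F)) *
        pureMat (fun i => (hs i : Matrix (Fin m) (Fin m) F))
    rw [pureMat_mul]
    rfl

theorem coe_pureHom (gs : Fin t → Matrix.GeneralLinearGroup (Fin m) F) :
    ((pureHom gs : Matrix.GeneralLinearGroup (Fin t → Fin m) F) :
      Matrix (Fin t → Fin m) (Fin t → Fin m) F) =
      pureMat (fun i => (gs i : Matrix (Fin m) (Fin m) F)) := rfl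

theorem isPureTensor_pureHom (gs : Fin t → Matrix.GeneralLinearGroup (Fin m) F) :
    IsPureTensor m t (pureHom gs) := ⟨gs, fun x y => rfl⟩

theorem eq_pureHom_of_isPureTensor {g : Matrix.GeneralLinearGroup (Fin t → Fin m) F}
    (hg : IsPureTensor m t g) : ∃ gs, g = pureHom gs := by
  obtain ⟨gs, hgs⟩ := hg
  refine ⟨gs, Units.ext ?_⟩
  ext x y
  rw [hgs, coe_pureHom, pureMat_apply]

/-- the permutation of the tensor factors -/
def permMat (σ : Equiv.Perm (Fin t)) : Matrix (Fin t → Fin m) (Fin t → Fin m) F :=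
  fun x y => if y = x ∘ σ then 1 else 0

theorem permMat_apply (σ : Equiv.Perm (Fin t)) (x y : Fin t → Fin m) :
    (permMat σ : Matrix (Fin t → Fin m) (Fin t → Fin m) F) x y = if y = x ∘ σ then 1 else 0 := rfl

theorem permMat_mul_apply (σ : Equiv.Perm (Fin t))
    (M : Matrix (Fin t → Fin m) (Fin t → Fin m) F) (x z : Fin t → Fin m) :
    ((permMat σ : Matrix (Fin t → Fin m) (Fin t → Fin m) F) * M) x z = M (x ∘ σ) z := by
  classical
  rw [Matrix.mul_apply, Finset.sum_eq_single (x ∘ σ)]
  · rw [permMat_apply, if_pos rfl, one_mul]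
  · intro y _ hy
    rw [permMat_apply, if_neg hy, zero_mul]
  · intro h
    exact absurd (Finset.mem_univ _) h

theorem mul_permMat_apply (σ : Equiv.Perm (Fin t))
    (M : Matrix (Fin t → Fin m) (Fin t → Fin m) F) (x z : Fin t → Fin m) :
    (M * (permMat σ : Matrix (Fin t → Fin m) (Fin t → Fin m) F)) x z = M x (z ∘ σ.symm) := by
  classical
  rw [Matrix.mul_apply, Finset.sum_eq_single (z ∘ σ.symm)]
  · rw [permMat_apply, if_pos, mul_one]
    ext i
    simp
  · intro y _ hy
    rw [permMat_apply, if_neg, mul_zero]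
    intro h
    apply hy
    rw [h]
    ext i
    simp
  · intro h
    exact absurd (Finset.mem_univ _) h

theorem permMat_mul (σ τ : Equiv.Perm (Fin t)) :
    (permMat σ * permMat τ : Matrix (Fin t → Fin m) (Fin t → Fin m) F) = permMat (σ * τ) := by
  ext x z
  rw [permMat_mul_apply, permMat_apply, permMat_apply]
  rfl

theorem permMat_one : (permMat (1 : Equiv.Perm (Fin t)) :
    Matrix (Fin t → Fin m) (Fin t → Fin m) F) = 1 := by
  classical
  ext x y
  rw [permMat_apply, Matrix.one_apply]
  have : (y = x ∘ ⇑(1 : Equiv.Perm (Fin t))) ↔ x = y := by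
    constructor
    · intro h; rw [h]; rfl
    · intro h; rw [h]; rfl
  simp only [this]

/-- the permutation of the tensor factors, as an invertible matrix -/
def permGL (σ : Equiv.Perm (Fin t)) : Matrix.GeneralLinearGroup (Fin t → Fin m) F :=
  ⟨permMat σ, permMat σ⁻¹, by rw [permMat_mul, mul_inv_cancel, permMat_one],
    by rw [permMat_mul, inv_mul_cancel, permMat_one]⟩

theorem coe_permGL (σ : Equiv.Perm (Fin t)) :
    ((permGL σ : Matrix.GeneralLinearGroup (Fin t → Fin m) F) :
      Matrix (Fin t → Fin m) (Fin t → Fin m) F) = permMat σ := rfl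

theorem isFactorPermutation_permGL (σ : Equiv.Perm (Fin t)) :
    IsFactorPermutation m t (permGL σ : Matrix.GeneralLinearGroup (Fin t → Fin m) F) :=
  ⟨σ, fun x y => rfl⟩

theorem eq_permGL_of_isFactorPermutation {g : Matrix.GeneralLinearGroup (Fin t → Fin m) F}
    (hg : IsFactorPermutation m t g) : ∃ σ, g = permGL σ := by
  obtain ⟨σ, hσ⟩ := hg
  refine ⟨σ, Units.ext ?_⟩
  ext x y
  rw [hσ, coe_permGL, permMat_apply]

/-- permutations of the factors normalise the pure tensors -/
theorem permMat_mul_pureMat (σ : Equiv.Perm (Fin t)) (gs : Fin t → Matrix (Fin m) (Fin m) F) :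
    permMat σ * pureMat gs = pureMat (fun i => gs (σ.symm i)) * permMat σ := by
  ext x z
  rw [permMat_mul_apply, mul_permMat_apply, pureMat_apply, pureMat_apply]
  rw [← Equiv.prod_comp σ (fun i => gs (σ.symm i) (x i) ((z ∘ σ.symm) i))]
  refine Finset.prod_congr rfl fun i _ => ?_
  simp

theorem permGL_mul_pureHom (σ : Equiv.Perm (Fin t))
    (gs : Fin t → Matrix.GeneralLinearGroup (Fin m) F) :
    permGL σ * pureHom gs = pureHom (fun i => gs (σ.symm i)) * permGL σ := by
  apply Units.ext
  rw [Units.val_mul, Units.val_mul, coe_permGL, coe_pureHom, coe_pureHom, permMat_mul_pureMat]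

/-- sums over triples of binary digits -/
theorem sum_fin3 {M : Type*} [AddCommMonoid M] (h : (Fin 3 → Fin 2) → M) :
    ∑ a, h a = ∑ i, ∑ j, ∑ k, h ![i, j, k] := by
  let e3 : Fin 2 × Fin 2 × Fin 2 ≃ (Fin 3 → Fin 2) :=
    { toFun := fun p => ![p.1, p.2.1, p.2.2]
      invFun := fun a => (a 0, a 1, a 2)
      left_inv := fun p => rfl
      right_inv := fun a => by
        ext i
        fin_cases i <;> rfl }
  rw [← Equiv.sum_comp e3 h, Fintype.sum_prod_type]
  refine Finset.sum_congr rfl fun i _ => ?_
  rw [Fintype.sum_prod_type]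
  rfl

end Cfsg.Agent.Lib.Helper3.SpW
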