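import Mathlib
import Cfsg.Prelude
import Cfsg.Agent.Lib.Helper3.SpW3
import Cfsg.Agent.Lib.Helper3.SpW4
import Cfsg.Agent.Lib.Helper4.MaxS13

set_option autoImplicit false
set_option maxHeartbeats 4000000
set_option maxRecDepth 100000
set_option linter.unusedVariables false
set_option linter.unusedSectionVars false
set_option linter.style.haveILetI false
set_option linter.deprecated false

/-! A tensor decomposition of the symplectic space of dimension eight with a symmetric factor of
dimension four and plus type refines to a tensor decomposition into three planes. -/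

namespace Cfsg.Agent.Lib.Helper3.SpW

open Matrix Cfsg Cfsg.Geo Module
open Cfsg.Agent.Lib.Helper5.SympTv Cfsg.Agent.Lib.Helper5.SpCentres
open Cfsg.Agent.Lib.Helper4.MaxS
open Kronecker Cfsg.Agent.Lib.Helper5.TensorSub

variable {F : Type*} [Field F] {m : ℕ}

local notation "V" => (Fin m ⊕ Fin m → F)
local notation "GLV" => Matrix.GeneralLinearGroup (Fin m ⊕ Fin m) F
local notation "MatV" => Matrix (Fin m ⊕ Fin m) (Fin m ⊕ Fin m) F

theorem g0_single (j k : Fin 2) :
    g0 (Pi.single j (1 : F) : Fin 2 → F) (Pi.single k 1) = J2 j k := by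
  fin_cases j <;> fin_cases k <;> simp [g0]

theorem isSymplecticForm_g0 : IsSymplecticForm (g0 : (Fin 2 → F) → (Fin 2 → F) → F) := by
  refine ⟨⟨?_, ?_, ?_, ?_⟩, g0_swap, ?_, ?_⟩
  · intro x y v; simp only [g0, Pi.add_apply]; ring
  · intro c x v; simp only [g0, Pi.smul_apply, smul_eq_mul]; ring
  · intro v x y; simp only [g0, Pi.add_apply]; ring
  · intro c v x; simp only [g0, Pi.smul_apply, smul_eq_mul]; ring
  · intro v; simp only [g0]; ring
  · intro v hv
    by_cases h0 : v 0 = 0
    · have h1 : v 1 ≠ 0 := by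
        intro h1
        apply hv
        ext i
        fin_cases i
        · exact h0
        · exact h1
      exact ⟨⟨![1, 0], by simp [g0, h1]⟩, ⟨![1, 0], by simp [g0, h1]⟩⟩
    · exact ⟨⟨![0, 1], by simp [g0, h0]⟩, ⟨![0, 1], by simp [g0, h0]⟩⟩

theorem gram_g0 : gramMatrix (g0 : (Fin 2 → F) → (Fin 2 → F) → F) = J2 := by
  ext j k
  exact g0_single j k

/-- an alternating form on the plane is a multiple of the standard one -/
theorem alt2 {f₁ : (Fin 2 → F) → (Fin 2 → F) → F} (hf₁ : IsSymplecticForm f₁)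
    (u u' : Fin 2 → F) :
    f₁ u u' = f₁ (Pi.single 0 1) (Pi.single 1 1) * g0 u u' := by
  have hb := hf₁.bilinear
  have hu : ∀ u : Fin 2 → F, u = u 0 • Pi.single 0 1 + u 1 • Pi.single 1 1 := by
    intro u
    ext i
    fin_cases i <;> simp
  have key : ∀ a b c d : F, f₁ (a • Pi.single 0 1 + b • Pi.single 1 1)
      (c • Pi.single 0 1 + d • Pi.single 1 1) =
      f₁ (Pi.single 0 1) (Pi.single 1 1) * (a * d - b * c) := by
    intro a b c d
    rw [hb.add_left, hb.add_right, hb.add_right, hb.smul_left, hb.smul_left, hb.smul_right,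
      hb.smul_right, hb.smul_left, hb.smul_left, hb.smul_right, hb.smul_right,
      hf₁.alternating, hf₁.alternating, hf₁.skew (Pi.single 1 1) (Pi.single 0 1)]
    ring
  have h1 : f₁ u u' = f₁ (u 0 • Pi.single 0 1 + u 1 • Pi.single 1 1)
      (u' 0 • Pi.single 0 1 + u' 1 • Pi.single 1 1) := by rw [← hu u, ← hu u']
  rw [h1, key]
  rfl

theorem isBilinearForm_sympForm : IsBilinearForm (sympForm m F) :=
  ⟨sympForm_add_left m, sympForm_smul_left m, sympForm_add_right m, sympForm_smul_right m⟩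

theorem fin2_ne (j j' : Fin 2) (h : j' ≠ j) : j' = j + 1 := by
  revert j j'
  decide

theorem J2_self (j : Fin 2) : (J2 : Matrix (Fin 2) (Fin 2) F) j j = 0 := by
  fin_cases j <;> rfl

theorem J2_succ (j : Fin 2) : (J2 : Matrix (Fin 2) (Fin 2) F) j (j + 1) ≠ 0 := by
  fin_cases j
  · simp
  · show (J2 : Matrix (Fin 2) (Fin 2) F) 1 (1 + 1) ≠ 0
    have : (1 + 1 : Fin 2) = 0 := by decide
    rw [this]
    simp

/-- the expansion of the image of a basis vector under a pure tensor -/
theorem key_expand (e : (Fin m ⊕ Fin m) ≃ Fin 2 × Fin 4) (P : GLV)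
    (b : Fin 2 → Fin 2 → (Fin 4 → F)) (A B₁ B₂ : Matrix (Fin 2) (Fin 2) F) (a : Fin 3 → Fin 2) :
    tau e P (pt (A *ᵥ Pi.single (a 0) 1)
      (Tb b (B₁ *ᵥ Pi.single (a 1) 1) (B₂ *ᵥ Pi.single (a 2) 1))) =
      ∑ a'', pureMat ![A, B₁, B₂] a'' a •
        tau e P (pt (Pi.single (a'' 0) 1) (b (a'' 1) (a'' 2))) := by
  rw [sum_fin3]
  simp only [pureMat_apply, Fin.prod_univ_three, Matrix.cons_val_zero, Matrix.cons_val_one,
    Matrix.cons_val_two, Matrix.head_cons, Matrix.tail_cons]
  have : ∀ (s : Fin 2 → Fin 2 → Fin 2 → F) (w : Fin 2 → Fin 2 → Fin 2 → (Fin 2 × Fin 4 → F)),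
      ∑ i, ∑ j, ∑ k, s i j k • tau e P (w i j k) = tau e P (∑ i, ∑ j, ∑ k, s i j k • w i j k) := by
    intro s w
    simp only [map_sum, map_smul]
  rw [this]
  congr 1
  ext ⟨i', l⟩
  simp only [pt_apply, Tb, Matrix.mulVec_single_one, Matrix.col_apply, Fin.sum_univ_two,
    Pi.add_apply, Pi.smul_apply, smul_eq_mul, Pi.single_apply]
  fin_cases i' <;> simp <;> ring

/-- the refinement of a tensor decomposition with a symmetric factor of plus type -/
theorem retype_plus (h2 : (2 : F) ≠ 0) (e : (Fin m ⊕ Fin m) ≃ Fin 2 × Fin 4) (P : GLV)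
    (f₁ : (Fin 2 → F) → (Fin 2 → F) → F) (f₂ : (Fin 4 → F) → (Fin 4 → F) → F)
    (hf₁ : IsSymplecticForm f₁) (hf₂ : IsSymmetricForm f₂)
    (hplus : IsPlusTypeOn (fun v : Fin 4 → F => f₂ v v) ⊤)
    (hten : IsTensorFormStructure id (sympForm m F) f₁ f₂ e P) :
    ∃ (e' : (Fin m ⊕ Fin m) ≃ (Fin 3 → Fin 2)) (P' : GLV),
      IsTensorPowerFormStructure id (sympForm m F)
        (g0 : (Fin 2 → F) → (Fin 2 → F) → F) e' P' ∧
      tensorProductSubgroup 2 4 e P ⊓ spGL m F ≤ tensorWreathSubgroup 2 3 e' P' := by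
  classical
  obtain ⟨c, hc0, hform⟩ := hten
  obtain ⟨b, hG⟩ := exists_hyp_basis4 h2 hf₂ hplus
  have hsb : IsBilinearForm (sympForm m F) := isBilinearForm_sympForm
  set c₁ : F := f₁ (Pi.single 0 1) (Pi.single 1 1) with hc₁def
  have hf₁g : ∀ u u', f₁ u u' = c₁ * g0 u u' := alt2 hf₁
  have hc₁ : c₁ ≠ 0 := by
    intro h
    have hne : (Pi.single 0 1 : Fin 2 → F) ≠ 0 := by
      intro h0
      have := congrFun h0 0
      simp at this
    obtain ⟨⟨x, hx⟩, -⟩ := hf₁.nondegenerate _ hne
    rw [hf₁g, h, zero_mul] at hx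
    exact hx rfl
  have hpair : ∀ (u u' : Fin 2 → F) (w w' : Fin 4 → F),
      sympForm m F (tau e P (pt u w)) (tau e P (pt u' w')) = c * (f₁ u u' * f₂ w w') :=
    fun u u' w w' => form_tau_pt hf₁.bilinear hf₂.bilinear hform u u' w w'
  set βv : (Fin 3 → Fin 2) → V := fun a =>
    tau e P (pt (Pi.single (a 0) 1) (b (a 1) (a 2))) with hβv
  have hgram : ∀ a a' : Fin 3 → Fin 2,
      sympForm m F (βv a) (βv a') = (c * c₁) * ∏ i, J2 (a i) (a' i) := by
    intro a a'
    rw [hβv]
    simp only []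
    rw [hpair, hf₁g, hG, g0_single, Fin.prod_univ_three]
    ring
  set e' : (Fin m ⊕ Fin m) ≃ (Fin 3 → Fin 2) :=
    e.trans (Fintype.equivOfCardEq (by simp)) with he'
  set P'mat : MatV := Matrix.of fun r s => βv (e' s) r with hP'mat
  have hP'mv : ∀ x : (Fin 3 → Fin 2) → F, P'mat *ᵥ (x ∘ e') = ∑ a, x a • βv a := by
    intro x
    ext r
    simp only [Matrix.mulVec, dotProduct, hP'mat, Matrix.of_apply, Function.comp,
      Finset.sum_apply, Pi.smul_apply, smul_eq_mul]
    rw [← Equiv.sum_comp e' (fun a => x a * βv a r)]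
    refine Finset.sum_congr rfl fun s _ => ?_
    ring
  have hsumform : ∀ (x : (Fin 3 → Fin 2) → F) (w : V),
      sympForm m F (∑ a, x a • βv a) w = ∑ a, x a * sympForm m F (βv a) w := by
    intro x w
    rw [bil_sum_left hsb]
    refine Finset.sum_congr rfl fun a _ => ?_
    rw [hsb.smul_left]
  have hsumform' : ∀ (y : (Fin 3 → Fin 2) → F) (w : V),
      sympForm m F w (∑ a, y a • βv a) = ∑ a, y a * sympForm m F w (βv a) := by
    intro y w
    rw [bil_sum_right hsb]
    refine Finset.sum_congr rfl fun a _ => ?_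
    rw [hsb.smul_right]
  have hindep : ∀ x : (Fin 3 → Fin 2) → F, ∑ a, x a • βv a = 0 → x = 0 := by
    intro x hx
    funext a
    have h1 : sympForm m F (∑ a', x a' • βv a') (βv (fun i => a i + 1)) = 0 := by
      rw [hx]
      exact bil_zero_left hsb _
    rw [hsumform, Finset.sum_eq_single a] at h1
    · rw [hgram a (fun i => a i + 1)] at h1
      have hprod : (∏ i, (J2 : Matrix (Fin 2) (Fin 2) F) (a i) (a i + 1)) ≠ 0 :=
        Finset.prod_ne_zero_iff.mpr fun i _ => J2_succ (a i)
      rcases mul_eq_zero.mp h1 with h | h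
      · exact h
      · exact absurd h (mul_ne_zero (mul_ne_zero hc0 hc₁) hprod)
    · intro a' _ ha'
      have : ∃ i, a' i ≠ a i := by
        by_contra hcon
        push Not at hcon
        exact ha' (funext hcon)
      obtain ⟨i, hi⟩ := this
      rw [hgram a' (fun i => a i + 1), Finset.prod_eq_zero (Finset.mem_univ i), mul_zero, mul_zero]
      rw [fin2_ne _ _ hi, J2_self]
    · intro h
      exact absurd (Finset.mem_univ _) h
  have hinj : Function.Injective P'mat.mulVec := by
    intro v w hvw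
    have h1 : P'mat *ᵥ (v - w) = 0 := by rw [Matrix.mulVec_sub]; exact sub_eq_zero.mpr hvw
    have h2' : v - w = ((v - w) ∘ e'.symm) ∘ e' := by
      ext i
      simp
    rw [h2', hP'mv] at h1
    have h3 := hindep _ h1
    have h4 : v - w = 0 := by
      rw [h2', h3]
      rfl
    exact sub_eq_zero.mp h4
  have hunit : IsUnit P'mat := Matrix.mulVec_injective_iff_isUnit.mp hinj
  set P' : GLV := hunit.unit with hP'
  have hP'coe : (P' : MatV) = P'mat := hunit.unit_spec
  have hδ : ∀ a : Fin 3 → Fin 2, (P' : MatV) *ᵥ ((Pi.single a (1 : F) : (Fin 3 → Fin 2) → F) ∘ e') =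
      βv a := by
    intro a
    rw [hP'coe, hP'mv, Finset.sum_eq_single a]
    · rw [Pi.single_eq_same, one_smul]
    · intro a' _ ha'
      rw [Pi.single_eq_of_ne ha', zero_smul]
    · intro h
      exact absurd (Finset.mem_univ _) h
  refine ⟨e', P', ⟨c * c₁, mul_ne_zero hc0 hc₁, ?_⟩, ?_⟩
  · intro x y
    rw [hP'coe, hP'mv, hP'mv, hsumform, Finset.mul_sum]
    refine Finset.sum_congr rfl fun a _ => ?_
    rw [hsumform', Finset.mul_sum, Finset.mul_sum]
    refine Finset.sum_congr rfl fun a' _ => ?_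
    rw [hgram a a', gram_g0]
    simp only [id]
    ring
  · rintro g ⟨hgT, hgS⟩
    obtain ⟨A, B, rfl⟩ := (mem_tensor e P g).mp hgT
    have hgS' := (mem_spGL_iff m _).mp hgS
    have hAB : ∀ (x x' : Fin 2 → F) (w w' : Fin 4 → F),
        f₁ ((A : Matrix (Fin 2) (Fin 2) F) *ᵥ x) ((A : Matrix (Fin 2) (Fin 2) F) *ᵥ x') *
          f₂ ((B : Matrix (Fin 4) (Fin 4) F) *ᵥ w) ((B : Matrix (Fin 4) (Fin 4) F) *ᵥ w') =
          f₁ x x' * f₂ w w' := by
      intro x x' w w'
      have := hgS' (tau e P (pt x w)) (tau e P (pt x' w'))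
      rw [act_tau_pt, act_tau_pt, hpair, hpair] at this
      exact mul_left_cancel₀ hc0 this
    set ν : F := f₁ ((A : Matrix (Fin 2) (Fin 2) F) *ᵥ Pi.single 0 1)
      ((A : Matrix (Fin 2) (Fin 2) F) *ᵥ Pi.single 1 1) with hν
    have hνB : ∀ w w', ν * f₂ ((B : Matrix (Fin 4) (Fin 4) F) *ᵥ w)
        ((B : Matrix (Fin 4) (Fin 4) F) *ᵥ w') = c₁ * f₂ w w' :=
      fun w w' => hAB _ _ w w'
    have hν0 : ν ≠ 0 := by
      intro h
      have := hνB (b 0 0) (b 1 1)
      rw [h, zero_mul, hG] at this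
      simp only [J2_01, mul_one] at this
      exact hc₁ this.symm
    have hμ : c₁ / ν ≠ 0 := div_ne_zero hc₁ hν0
    have hB : ∀ x y, f₂ ((B : Matrix (Fin 4) (Fin 4) F) *ᵥ x)
        ((B : Matrix (Fin 4) (Fin 4) F) *ᵥ y) = c₁ / ν * f₂ x y := by
      intro x y
      field_simp
      linear_combination hνB x y
    obtain ⟨B₁, B₂, hd1, hd2, hcase⟩ := sim_struct h2 hf₂ hG _ _ hμ hB
    set G₁ : Matrix.GeneralLinearGroup (Fin 2) F :=
      Matrix.GeneralLinearGroup.mkOfDetNeZero B₁ hd1 with hG₁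
    set G₂ : Matrix.GeneralLinearGroup (Fin 2) F :=
      Matrix.GeneralLinearGroup.mkOfDetNeZero B₂ hd2 with hG₂
    have hG₁c : (G₁ : Matrix (Fin 2) (Fin 2) F) = B₁ := rfl
    have hG₂c : (G₂ : Matrix (Fin 2) (Fin 2) F) = B₂ := rfl
    set gs : Fin 3 → Matrix.GeneralLinearGroup (Fin 2) F := ![A, G₁, G₂] with hgs
    have hgsc : (fun i => (gs i : Matrix (Fin 2) (Fin 2) F)) =
        ![(A : Matrix (Fin 2) (Fin 2) F), B₁, B₂] := by
      funext i
      fin_cases i <;> rfl
    set g : GLV := Phi e P (kron A B) with hg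
    set Y : Matrix.GeneralLinearGroup (Fin 3 → Fin 2) F :=
      (glReindex (F := F) e'.symm).symm (P'⁻¹ * g * P') with hY
    have hYg : P' * glReindex e'.symm Y * P'⁻¹ = g := by
      rw [hY, MulEquiv.apply_symm_apply]
      group
    have hYact : ∀ v : (Fin 3 → Fin 2) → F,
        (P' : MatV) *ᵥ (((Y : Matrix (Fin 3 → Fin 2) (Fin 3 → Fin 2) F) *ᵥ v) ∘ e') =
          (g : MatV) *ᵥ ((P' : MatV) *ᵥ (v ∘ e')) := by
      intro v
      rw [← transport_mulVec, hYg]
    have hgβ : ∀ a : Fin 3 → Fin 2, (g : MatV) *ᵥ βv a =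
        tau e P (pt ((A : Matrix (Fin 2) (Fin 2) F) *ᵥ Pi.single (a 0) 1)
          ((B : Matrix (Fin 4) (Fin 4) F) *ᵥ Tb b (Pi.single (a 1) 1) (Pi.single (a 2) 1))) := by
      intro a
      rw [hβv]
      simp only []
      rw [hg, act_tau_pt, Tb_single]
    have hcol : ∀ (M : Matrix (Fin 3 → Fin 2) (Fin 3 → Fin 2) F) (a : Fin 3 → Fin 2),
        M *ᵥ Pi.single a 1 = fun a'' => M a'' a := by
      intro M a
      ext a''
      rw [Matrix.mulVec_single_one, Matrix.col_apply]
    have hmem : Y ∈ tensorWreathStandard 2 3 F := by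
      rcases hcase with h1 | h1
      · have hYX : Y = pureHom gs := by
          apply Units.ext
          ext a'' a
          have h3 : (Y : Matrix (Fin 3 → Fin 2) (Fin 3 → Fin 2) F) *ᵥ Pi.single a 1 =
              (pureHom gs : Matrix (Fin 3 → Fin 2) (Fin 3 → Fin 2) F) *ᵥ Pi.single a 1 := by
            apply comp_equiv_injective e'
            apply gl_mulVec_injective P'
            rw [hYact, hδ, hgβ, h1, key_expand, hP'coe, hP'mv]
            refine Finset.sum_congr rfl fun a'' _ => ?_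
            rw [hcol, coe_pureHom, hgsc]
          have h4 := congrFun h3 a''
          rw [hcol, hcol] at h4
          exact h4
        rw [hYX]
        exact Subgroup.subset_closure (Or.inl (isPureTensor_pureHom gs))
      · have hYX : Y = pureHom gs * permGL (Equiv.swap 1 2) := by
          apply Units.ext
          ext a'' a
          have h3 : (Y : Matrix (Fin 3 → Fin 2) (Fin 3 → Fin 2) F) *ᵥ Pi.single a 1 =
              ((pureHom gs * permGL (Equiv.swap 1 2) :
                Matrix.GeneralLinearGroup (Fin 3 → Fin 2) F) :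
                Matrix (Fin 3 → Fin 2) (Fin 3 → Fin 2) F) *ᵥ Pi.single a 1 := by
            apply comp_equiv_injective e'
            apply gl_mulVec_injective P'
            rw [hYact, hδ, hgβ, h1]
            have e0 : (a ∘ ⇑(Equiv.swap (1 : Fin 3) 2).symm) 0 = a 0 := by
              show a ((Equiv.swap (1 : Fin 3) 2).symm 0) = a 0
              congr 1
            have e1 : (a ∘ ⇑(Equiv.swap (1 : Fin 3) 2).symm) 1 = a 2 := by
              show a ((Equiv.swap (1 : Fin 3) 2).symm 1) = a 2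
              congr 1
            have e2 : (a ∘ ⇑(Equiv.swap (1 : Fin 3) 2).symm) 2 = a 1 := by
              show a ((Equiv.swap (1 : Fin 3) 2).symm 2) = a 1
              congr 1
            have hk := key_expand e P b (A : Matrix (Fin 2) (Fin 2) F) B₁ B₂
              (a ∘ ⇑(Equiv.swap (1 : Fin 3) 2).symm)
            rw [e0, e1, e2] at hk
            rw [hk, hP'coe, hP'mv]
            refine Finset.sum_congr rfl fun a'' _ => ?_
            have hXa : ((pureHom gs * permGL (Equiv.swap 1 2) :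
                Matrix.GeneralLinearGroup (Fin 3 → Fin 2) F) :
                Matrix (Fin 3 → Fin 2) (Fin 3 → Fin 2) F) a'' a =
                pureMat ![(A : Matrix (Fin 2) (Fin 2) F), B₁, B₂] a''
                  (a ∘ ⇑(Equiv.swap (1 : Fin 3) 2).symm) := by
              rw [Units.val_mul, coe_permGL, mul_permMat_apply, coe_pureHom, hgsc]
            rw [hcol]
            show _ = ((pureHom gs * permGL (Equiv.swap 1 2) :
                Matrix.GeneralLinearGroup (Fin 3 → Fin 2) F) :
                Matrix (Fin 3 → Fin 2) (Fin 3 → Fin 2) F) a'' a • βv a''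
            rw [hXa]
          have h4 := congrFun h3 a''
          rw [hcol, hcol] at h4
          exact h4
        rw [hYX]
        exact Subgroup.mul_mem _ (Subgroup.subset_closure (Or.inl (isPureTensor_pureHom gs)))
          (Subgroup.subset_closure (Or.inr (isFactorPermutation_permGL _)))
    exact ⟨glReindex e'.symm Y, ⟨Y, hmem, rfl⟩, hYg⟩

end Cfsg.Agent.Lib.Helper3.SpW
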