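import Mathlib
import Cfsg.Prelude

set_option autoImplicit false
set_option maxHeartbeats 4000000
set_option maxRecDepth 100000
set_option linter.unusedVariables false
set_option linter.unusedSectionVars false
set_option linter.style.haveILetI false
set_option linter.deprecated false

/-! The quaternion group of order eight inside the general linear group of the plane over the
field with three elements. -/

namespace Cfsg.Agent.Lib.Helper3.SpW

open Matrix

/-- membership in the quaternion group of order eight, for matrices of size two -/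
def InQ {K : Type*} [Ring K] (M : Matrix (Fin 2) (Fin 2) K) : Prop :=
  M = 1 ∨ M = -1 ∨ M * M = -1

/-- matrices of size two over the prime field with three elements -/
abbrev M2K := Matrix (Fin 2) (Fin 2) (ZMod 3)

/-- a unipotent element of order three -/
def tK : M2K := !![1, 1; 0, 1]

/-- its inverse -/
def tK' : M2K := !![1, -1; 0, 1]

theorem D1 : ∀ q : M2K, InQ q → ∀ r : M2K, InQ r → InQ (q * r) := by
  unfold InQ; decide +kernel

theorem D2 : ∀ q : M2K, InQ q → q 0 0 * q 1 1 - q 0 1 * q 1 0 = 1 := by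
  unfold InQ; decide +kernel

theorem D3 : ∀ q : M2K, InQ q → ∀ r : M2K, InQ r → (q * r = r * q ∨ q * r = -(r * q)) := by
  unfold InQ; decide +kernel

theorem D6 : ∀ q : M2K, InQ q → q * (tK * q * tK') = (tK * q * tK') * q →
    (q = 1 ∨ q = -1) := by
  unfold InQ; decide +kernel

theorem tK_mul : tK * tK' = 1 ∧ tK' * tK = 1 := by decide +kernel

section transfer

variable {F : Type*} [Field F] [Fintype F]

/-- the isomorphism of the matrix rings induced by the isomorphism of the prime field with a
field with three elements -/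
noncomputable def PsiK (hq : Fintype.card F = 3) :
    M2K ≃+* Matrix (Fin 2) (Fin 2) F :=
  RingEquiv.mapMatrix (ZMod.ringEquivOfPrime F (by norm_num) hq)

variable (hq : Fintype.card F = 3)
include hq

theorem PsiK_apply (M : M2K) (i j : Fin 2) :
    PsiK hq M i j = (ZMod.ringEquivOfPrime F (by norm_num) hq) (M i j) := rfl

theorem inQ_PsiK (M : M2K) : InQ (PsiK hq M) ↔ InQ M := by
  unfold InQ
  have h1 : PsiK hq M = 1 ↔ M = 1 := by
    rw [← map_one (PsiK hq)]
    exact (PsiK hq).injective.eq_iff
  have h2 : PsiK hq M = -1 ↔ M = -1 := by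
    rw [← map_one (PsiK hq), ← map_neg]
    exact (PsiK hq).injective.eq_iff
  have h3 : PsiK hq M * PsiK hq M = -1 ↔ M * M = -1 := by
    rw [← map_one (PsiK hq), ← map_neg, ← map_mul]
    exact (PsiK hq).injective.eq_iff
  rw [h1, h2, h3]

theorem inQ_mul {q r : Matrix (Fin 2) (Fin 2) F} (hq' : InQ q) (hr : InQ r) : InQ (q * r) := by
  rw [← (PsiK hq).apply_symm_apply q] at hq' ⊢
  rw [← (PsiK hq).apply_symm_apply r] at hr ⊢
  rw [inQ_PsiK] at hq' hr
  rw [← map_mul, inQ_PsiK]
  exact D1 _ hq' _ hr

theorem inQ_det {q : Matrix (Fin 2) (Fin 2) F} (hq' : InQ q) : q.det = 1 := by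
  rw [← (PsiK hq).apply_symm_apply q] at hq' ⊢
  rw [inQ_PsiK] at hq'
  have h := D2 _ hq'
  rw [Matrix.det_fin_two]
  simp only [PsiK_apply]
  rw [← map_mul, ← map_mul, ← map_sub, h, map_one]

theorem inQ_comm {q r : Matrix (Fin 2) (Fin 2) F} (hq' : InQ q) (hr : InQ r) :
    q * r = r * q ∨ q * r = -(r * q) := by
  rw [← (PsiK hq).apply_symm_apply q] at hq' ⊢
  rw [← (PsiK hq).apply_symm_apply r] at hr ⊢
  rw [inQ_PsiK] at hq' hr
  rcases D3 _ hq' _ hr with h | h
  · left
    rw [← map_mul (PsiK hq), ← map_mul (PsiK hq), h]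
  · right
    rw [← map_mul (PsiK hq), ← map_mul (PsiK hq), ← map_neg (PsiK hq), h]

/-- the unipotent element over the field with three elements -/
noncomputable def tF : Matrix (Fin 2) (Fin 2) F := PsiK hq tK

/-- its inverse -/
noncomputable def tF' : Matrix (Fin 2) (Fin 2) F := PsiK hq tK'

theorem tF_mul : tF hq * tF' hq = 1 := by
  unfold tF tF'
  rw [← map_mul, tK_mul.1, map_one]

theorem tF'_mul : tF' hq * tF hq = 1 := by
  unfold tF tF'
  rw [← map_mul, tK_mul.2, map_one]

theorem inQ_fixed {q : Matrix (Fin 2) (Fin 2) F} (hq' : InQ q)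
    (h : q * (tF hq * q * tF' hq) = (tF hq * q * tF' hq) * q) : q = 1 ∨ q = -1 := by
  rw [← (PsiK hq).apply_symm_apply q] at hq' h ⊢
  rw [inQ_PsiK] at hq'
  unfold tF tF' at h
  rw [← map_mul, ← map_mul, ← map_mul, ← map_mul] at h
  have h' := (PsiK hq).injective h
  rcases D6 _ hq' h' with h1 | h1
  · left
    rw [h1, map_one]
  · right
    rw [h1, map_neg, map_one]

theorem three_eq_zero : (3 : F) = 0 := by
  have := Nat.cast_card_eq_zero F
  rw [hq] at this
  exact_mod_cast this

theorem two_ne_zero' : (2 : F) ≠ 0 := by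
  intro h
  have h3 := three_eq_zero hq
  have : (1 : F) = 0 := by linear_combination h3 - h
  exact one_ne_zero this

end transfer

section general

variable {F : Type*} [Field F]

theorem inQ_one : InQ (1 : Matrix (Fin 2) (Fin 2) F) := Or.inl rfl

theorem inQ_neg_one : InQ (-1 : Matrix (Fin 2) (Fin 2) F) := Or.inr (Or.inl rfl)

theorem inQ_pow_four {q : Matrix (Fin 2) (Fin 2) F} (hq : InQ q) : q * q * (q * q) = 1 := by
  rcases hq with h | h | h
  · rw [h]; simp
  · rw [h]; simp
  · rw [h]; simp

theorem inQ_conj {q g g' : Matrix (Fin 2) (Fin 2) F} (hq : InQ q) (h1 : g * g' = 1)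
    (h2 : g' * g = 1) : InQ (g * q * g') := by
  rcases hq with h | h | h
  · left
    rw [h, mul_one, h1]
  · right; left
    rw [h, mul_neg, mul_one, neg_mul, h1]
  · right; right
    calc g * q * g' * (g * q * g') = g * (q * (g' * g) * q) * g' := by
          simp only [mul_assoc]
      _ = -1 := by rw [h2, mul_one, h, mul_neg, mul_one, neg_mul, h1]

theorem inQ_inv {q q' : Matrix (Fin 2) (Fin 2) F} (hq : InQ q) (h1 : q * q' = 1) : InQ q' := by
  rcases hq with h | h | h
  · left
    rw [h, one_mul] at h1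
    exact h1
  · right; left
    rw [h, neg_mul, one_mul] at h1
    rw [← h1, neg_neg]
  · right; right
    have e1 : q' = -q := by
      have : q * (-q) = 1 := by rw [mul_neg, h, neg_neg]
      calc q' = q' * (q * (-q)) := by rw [this, mul_one]
        _ = (q' * q) * (-q) := by rw [mul_assoc]
        _ = -q := by
          have h2 : q' * q = 1 := by
            have h3 : (-q) * q = 1 := by rw [neg_mul, h, neg_neg]
            have h4 : q' = -q := by
              calc q' = ((-q) * q) * q' := by rw [h3, one_mul]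
                _ = (-q) * (q * q') := by rw [mul_assoc]
                _ = -q := by rw [h1, mul_one]
            rw [h4, h3]
          rw [h2, one_mul]
    rw [e1, neg_mul_neg, h]

/-- the standard generators -/
def iQ : Matrix (Fin 2) (Fin 2) F := !![0, 1; -1, 0]
def jQ : Matrix (Fin 2) (Fin 2) F := !![1, 1; 1, -1]
def kQ : Matrix (Fin 2) (Fin 2) F := !![1, -1; -1, -1]

theorem inQ_iQ : InQ (iQ : Matrix (Fin 2) (Fin 2) F) := by
  right; right
  ext i j
  fin_cases i <;> fin_cases j <;> simp [iQ, Matrix.mul_apply, Fin.sum_univ_two]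

theorem iQ_mul_self : (iQ : Matrix (Fin 2) (Fin 2) F) * iQ = -1 := by
  ext i j
  fin_cases i <;> fin_cases j <;> simp [iQ, Matrix.mul_apply, Fin.sum_univ_two]

theorem inQ_jQ (h3 : (3 : F) = 0) : InQ (jQ : Matrix (Fin 2) (Fin 2) F) := by
  right; right
  ext i j
  fin_cases i <;> fin_cases j <;> simp [jQ, Matrix.mul_apply, Fin.sum_univ_two] <;>
    linear_combination h3

theorem inQ_kQ (h3 : (3 : F) = 0) : InQ (kQ : Matrix (Fin 2) (Fin 2) F) := by
  right; right
  ext i j
  fin_cases i <;> fin_cases j <;> simp [kQ, Matrix.mul_apply, Fin.sum_univ_two] <;>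
    linear_combination h3

/-- the quaternion group spans the matrix algebra -/
theorem span_inQ (h3 : (3 : F) = 0) :
    Submodule.span F {M : Matrix (Fin 2) (Fin 2) F | InQ M} = ⊤ := by
  rw [eq_top_iff]
  intro M _
  have hM : M = (-(M 0 0 + M 1 1)) • (1 : Matrix (Fin 2) (Fin 2) F) +
      (-(M 0 1 - M 1 0)) • iQ + ((M 0 0 - M 1 1) + (M 0 1 + M 1 0)) • jQ +
      ((M 0 0 - M 1 1) - (M 0 1 + M 1 0)) • kQ := by
    ext i j
    fin_cases i <;> fin_cases j <;> simp [iQ, jQ, kQ]
    · linear_combination (M 1 1) * h3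
    · linear_combination (-(M 1 0)) * h3
    · linear_combination (-(M 0 1)) * h3
    · linear_combination (M 0 0) * h3
  rw [hM]
  refine Submodule.add_mem _ (Submodule.add_mem _ (Submodule.add_mem _ ?_ ?_) ?_) ?_
  · exact Submodule.smul_mem _ _ (Submodule.subset_span inQ_one)
  · exact Submodule.smul_mem _ _ (Submodule.subset_span inQ_iQ)
  · exact Submodule.smul_mem _ _ (Submodule.subset_span (inQ_jQ h3))
  · exact Submodule.smul_mem _ _ (Submodule.subset_span (inQ_kQ h3))

end general

end Cfsg.Agent.Lib.Helper3.SpW
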