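import Mathlib
import Cfsg.Prelude
import Cfsg.Agent.Lib.Helper3.SpW4
import Cfsg.Agent.Lib.Helper4.MaxS3

set_option autoImplicit false
set_option maxHeartbeats 4000000
set_option maxRecDepth 100000
set_option linter.unusedVariables false
set_option linter.unusedSectionVars false
set_option linter.style.haveILetI false
set_option linter.deprecated false

/-! Further facts on pure tensors of matrices: scalars, transposes, multilinearity, spans. -/

namespace Cfsg.Agent.Lib.Helper3.SpW

open Matrix Cfsg Cfsg.Geo
open Cfsg.Agent.Lib.Helper4.MaxS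

variable {F : Type*} [Field F] {m t : ℕ}

theorem pureMat_scalar (c : Fin t → F) :
    pureMat (fun i => c i • (1 : Matrix (Fin m) (Fin m) F)) = (∏ i, c i) • 1 := by
  classical
  ext x y
  simp only [pureMat_apply, Matrix.smul_apply, Matrix.one_apply, smul_eq_mul]
  rw [Finset.prod_mul_distrib, Finset.prod_boole]
  congr 2
  simp only [Finset.mem_univ, forall_true_left, eq_iff_iff]
  exact ⟨fun h => funext h, fun h i => congrFun h i⟩

theorem pureMat_transpose (gs : Fin t → Matrix (Fin m) (Fin m) F) :
    (pureMat gs)ᵀ = pureMat (fun i => (gs i)ᵀ) := by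
  ext x y
  simp only [Matrix.transpose_apply, pureMat_apply]

theorem pureMat_entry_update (gs : Fin t → Matrix (Fin m) (Fin m) F) (i : Fin t)
    (a : Matrix (Fin m) (Fin m) F) (x y : Fin t → Fin m) :
    pureMat (Function.update gs i a) x y =
      a (x i) (y i) * ∏ j ∈ Finset.univ \ {i}, gs j (x j) (y j) := by
  classical
  rw [pureMat_apply]
  have : (fun j => (Function.update gs i a j) (x j) (y j)) =
      Function.update (fun j => gs j (x j) (y j)) i (a (x i) (y i)) := by
    funext j
    by_cases h : j = i
    · subst h
      simp
    · simp [h]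
  rw [this, Finset.prod_update_of_mem (Finset.mem_univ i)]

theorem pureMat_update_add (gs : Fin t → Matrix (Fin m) (Fin m) F) (i : Fin t)
    (a b : Matrix (Fin m) (Fin m) F) :
    pureMat (Function.update gs i (a + b)) =
      pureMat (Function.update gs i a) + pureMat (Function.update gs i b) := by
  ext x y
  rw [Matrix.add_apply, pureMat_entry_update, pureMat_entry_update, pureMat_entry_update,
    Matrix.add_apply, add_mul]

theorem pureMat_update_smul (gs : Fin t → Matrix (Fin m) (Fin m) F) (i : Fin t) (c : F)
    (a : Matrix (Fin m) (Fin m) F) :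
    pureMat (Function.update gs i (c • a)) = c • pureMat (Function.update gs i a) := by
  ext x y
  rw [Matrix.smul_apply, pureMat_entry_update, pureMat_entry_update, Matrix.smul_apply,
    smul_eq_mul, smul_eq_mul, mul_assoc]

theorem pureMat_update_zero (gs : Fin t → Matrix (Fin m) (Fin m) F) (i : Fin t) :
    pureMat (Function.update gs i 0) = 0 := by
  ext x y
  rw [pureMat_entry_update, Matrix.zero_apply, zero_mul, Matrix.zero_apply]

/-- a subspace containing the pure tensors of the members of a spanning set contains all pure
tensors -/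
theorem pureMat_mem_of_span (S : Submodule F (Matrix (Fin t → Fin m) (Fin t → Fin m) F))
    (Qs : Set (Matrix (Fin m) (Fin m) F)) (hQ : Submodule.span F Qs = ⊤)
    (h : ∀ gs : Fin t → Matrix (Fin m) (Fin m) F, (∀ i, gs i ∈ Qs) → pureMat gs ∈ S)
    (gs : Fin t → Matrix (Fin m) (Fin m) F) : pureMat gs ∈ S := by
  classical
  have key : ∀ T : Finset (Fin t), ∀ gs : Fin t → Matrix (Fin m) (Fin m) F,
      (∀ i, i ∉ T → gs i ∈ Qs) → pureMat gs ∈ S := by
    intro T
    induction T using Finset.induction_on with
    | empty =>
      intro gs hgs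
      exact h gs (fun i => hgs i (Finset.notMem_empty i))
    | insert i T' hi ih =>
      intro gs hgs
      have hmem : gs i ∈ Submodule.span F Qs := by rw [hQ]; trivial
      have hall : ∀ a ∈ Submodule.span F Qs, pureMat (Function.update gs i a) ∈ S := by
        intro a ha
        induction ha using Submodule.span_induction with
        | mem a ha =>
          apply ih
          intro j hj
          by_cases hji : j = i
          · subst hji
            rw [Function.update_self]
            exact ha
          · rw [Function.update_of_ne hji]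
            apply hgs j
            rw [Finset.mem_insert]
            push Not
            exact ⟨hji, hj⟩
        | zero =>
          rw [pureMat_update_zero]
          exact S.zero_mem
        | add a b _ _ ha hb =>
          rw [pureMat_update_add]
          exact S.add_mem ha hb
        | smul c a _ ha =>
          rw [pureMat_update_smul]
          exact S.smul_mem c ha
      have := hall (gs i) hmem
      rwa [Function.update_eq_self] at this
  exact key Finset.univ gs (fun i hi => absurd (Finset.mem_univ i) hi)

theorem pureMat_single (x y : Fin t → Fin m) :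
    pureMat (fun i => Matrix.single (x i) (y i) (1 : F)) = Matrix.single x y (1 : F) := by
  classical
  ext x' y'
  simp only [pureMat_apply, Matrix.single_apply]
  rw [Finset.prod_boole]
  congr 1
  simp only [Finset.mem_univ, forall_true_left, eq_iff_iff]
  constructor
  · intro h
    exact ⟨funext fun i => (h i).1, funext fun i => (h i).2⟩
  · rintro ⟨h1, h2⟩ i
    exact ⟨congrFun h1 i, congrFun h2 i⟩

/-- a subspace containing all pure tensors is everything -/
theorem eq_top_of_pureMat_mem (S : Submodule F (Matrix (Fin t → Fin m) (Fin t → Fin m) F))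
    (h : ∀ gs : Fin t → Matrix (Fin m) (Fin m) F, pureMat gs ∈ S) : S = ⊤ := by
  classical
  rw [eq_top_iff]
  intro M _
  rw [Matrix.matrix_eq_sum_single M]
  refine Submodule.sum_mem _ fun x _ => Submodule.sum_mem _ fun y _ => ?_
  have : Matrix.single x y (M x y) = (M x y) • Matrix.single x y (1 : F) := by
    rw [Matrix.smul_single, smul_eq_mul, mul_one]
  rw [this, ← pureMat_single]
  exact S.smul_mem _ (h _)

/-- a pure tensor with a single non-trivial factor is trivial only if that factor is -/
theorem eq_one_of_pureHom_mulSingle (z : Fin m) (i : Fin t)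
    (c : Matrix.GeneralLinearGroup (Fin m) F) (h : pureHom (Pi.mulSingle i c) = 1) : c = 1 := by
  classical
  apply Units.ext
  ext a b
  have h1 := congrArg (fun g : Matrix.GeneralLinearGroup (Fin t → Fin m) F =>
    (g : Matrix (Fin t → Fin m) (Fin t → Fin m) F) (Function.update (fun _ => z) i a)
      (Function.update (fun _ => z) i b)) h
  simp only [coe_pureHom, pureMat_apply, Units.val_one] at h1
  rw [Finset.prod_eq_single i] at h1
  · rw [Pi.mulSingle_eq_same, Function.update_self, Function.update_self] at h1
    rw [h1, Units.val_one, Matrix.one_apply, Matrix.one_apply]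
    congr 1
    simp only [eq_iff_iff]
    constructor
    · intro hab
      have := congrFun hab i
      rwa [Function.update_self, Function.update_self] at this
    · intro hab
      rw [hab]
  · intro j _ hj
    rw [Pi.mulSingle_eq_of_ne hj, Function.update_of_ne hj, Function.update_of_ne hj,
      Units.val_one, Matrix.one_apply_eq]
  · intro hi
    exact absurd (Finset.mem_univ i) hi

section transport

variable {ι κ : Type} [Fintype ι] [DecidableEq ι] [Fintype κ] [DecidableEq κ]

/-- the transport of invertible matrices along a bijection of index sets and a change of basis -/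
noncomputable def Ph (e : ι ≃ κ) (P : Matrix.GeneralLinearGroup ι F) :
    Matrix.GeneralLinearGroup κ F ≃* Matrix.GeneralLinearGroup ι F :=
  (glReindex e.symm).trans (MulAut.conj P)

theorem Ph_apply (e : ι ≃ κ) (P : Matrix.GeneralLinearGroup ι F)
    (x : Matrix.GeneralLinearGroup κ F) : Ph e P x = P * glReindex e.symm x * P⁻¹ := rfl

theorem coe_Ph (e : ι ≃ κ) (P : Matrix.GeneralLinearGroup ι F)
    (x : Matrix.GeneralLinearGroup κ F) :
    ((Ph e P x : Matrix.GeneralLinearGroup ι F) : Matrix ι ι F) =
      (P : Matrix ι ι F) * (x : Matrix κ κ F).submatrix e e *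
        ((P⁻¹ : Matrix.GeneralLinearGroup ι F) : Matrix ι ι F) := rfl

theorem Ph_mulVec (e : ι ≃ κ) (P : Matrix.GeneralLinearGroup ι F)
    (x : Matrix.GeneralLinearGroup κ F) (v : κ → F) :
    ((Ph e P x : Matrix.GeneralLinearGroup ι F) : Matrix ι ι F) *ᵥ
      ((P : Matrix ι ι F) *ᵥ (v ∘ e)) =
      (P : Matrix ι ι F) *ᵥ (((x : Matrix κ κ F) *ᵥ v) ∘ e) :=
  transport_mulVec e P x v

theorem Ph_scalar (e : ι ≃ κ) (P : Matrix.GeneralLinearGroup ι F)
    (x : Matrix.GeneralLinearGroup κ F) (c : F)
    (hx : (x : Matrix κ κ F) = c • (1 : Matrix κ κ F)) :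
    ((Ph e P x : Matrix.GeneralLinearGroup ι F) : Matrix ι ι F) = c • (1 : Matrix ι ι F) := by
  rw [coe_Ph, hx]
  have : (c • (1 : Matrix κ κ F)).submatrix e e = c • (1 : Matrix ι ι F) := by
    ext i j
    simp [Matrix.one_apply]
  rw [this, Matrix.mul_smul, Matrix.mul_one, Matrix.smul_mul, ← Units.val_mul, mul_inv_cancel,
    Units.val_one]

theorem wreath_eq_map (m t : ℕ) (e : ι ≃ (Fin t → Fin m)) (P : Matrix.GeneralLinearGroup ι F) :
    tensorWreathSubgroup m t e P = (tensorWreathStandard m t F).map (Ph e P).toMonoidHom := by
  unfold tensorWreathSubgroup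
  rw [Subgroup.map_map]
  rfl

end transport

end Cfsg.Agent.Lib.Helper3.SpW
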