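import Mathlib
import Cfsg.Prelude
import Cfsg.Agent.Lib.Helper3.SpW5
import Cfsg.Agent.Lib.Helper3.SpW6
import Cfsg.Agent.Lib.Helper3.SpW7

set_option autoImplicit false
set_option maxHeartbeats 4000000
set_option maxRecDepth 100000
set_option linter.unusedVariables false
set_option linter.unusedSectionVars false
set_option linter.style.haveILetI false
set_option linter.deprecated false

/-! The group of order 128 attached to a decomposition of the symplectic space of dimension eight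
over the field with three elements into a tensor product of three planes: definition,
normalisation by the stabiliser of the decomposition, invariance of the form. -/

namespace Cfsg.Agent.Lib.Helper3.SpW

open Matrix Cfsg Cfsg.Geo
open Cfsg.Agent.Lib.Helper5.SympTv Cfsg.Agent.Lib.Helper5.SpCentres
open Cfsg.Agent.Lib.Helper4.MaxS

variable {F : Type*} [Field F] [Fintype F] (hq : Fintype.card F = 3)

/-- the quaternion group of order eight in the general linear group of the plane -/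
noncomputable def Q8F : Subgroup (Matrix.GeneralLinearGroup (Fin 2) F) where
  carrier := {g | InQ (g : Matrix (Fin 2) (Fin 2) F)}
  mul_mem' := by
    intro a b ha hb
    show InQ ((a * b : Matrix.GeneralLinearGroup (Fin 2) F) : Matrix (Fin 2) (Fin 2) F)
    rw [Units.val_mul]
    exact inQ_mul hq ha hb
  one_mem' := by
    show InQ ((1 : Matrix.GeneralLinearGroup (Fin 2) F) : Matrix (Fin 2) (Fin 2) F)
    rw [Units.val_one]
    exact inQ_one
  inv_mem' := by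
    intro a ha
    show InQ ((a⁻¹ : Matrix.GeneralLinearGroup (Fin 2) F) : Matrix (Fin 2) (Fin 2) F)
    exact inQ_inv ha (by rw [← Units.val_mul, mul_inv_cancel, Units.val_one])

theorem mem_Q8F {g : Matrix.GeneralLinearGroup (Fin 2) F} :
    g ∈ Q8F hq ↔ InQ (g : Matrix (Fin 2) (Fin 2) F) := Iff.rfl

theorem Q8F_conj (g : Matrix.GeneralLinearGroup (Fin 2) F)
    {q : Matrix.GeneralLinearGroup (Fin 2) F} (hq' : q ∈ Q8F hq) : g * q * g⁻¹ ∈ Q8F hq := by
  rw [mem_Q8F] at hq' ⊢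
  rw [Units.val_mul, Units.val_mul]
  exact inQ_conj hq' (by rw [← Units.val_mul, mul_inv_cancel, Units.val_one])
    (by rw [← Units.val_mul, inv_mul_cancel, Units.val_one])

/-- the tensor product of three copies of the quaternion group -/
noncomputable def R0 : Subgroup (Matrix.GeneralLinearGroup (Fin 3 → Fin 2) F) :=
  (Subgroup.pi Set.univ (fun _ : Fin 3 => Q8F hq)).map pureHom

theorem mem_R0 {g : Matrix.GeneralLinearGroup (Fin 3 → Fin 2) F} :
    g ∈ R0 hq ↔ ∃ qs : Fin 3 → Matrix.GeneralLinearGroup (Fin 2) F,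
      (∀ i, qs i ∈ Q8F hq) ∧ pureHom qs = g := by
  unfold R0
  rw [Subgroup.mem_map]
  constructor
  · rintro ⟨qs, hqs, rfl⟩
    exact ⟨qs, fun i => (Subgroup.mem_pi _).mp hqs i (Set.mem_univ i), rfl⟩
  · rintro ⟨qs, hqs, rfl⟩
    exact ⟨qs, (Subgroup.mem_pi _).mpr fun i _ => hqs i, rfl⟩

theorem permGL_inv {m t : ℕ} (σ : Equiv.Perm (Fin t)) :
    (permGL σ : Matrix.GeneralLinearGroup (Fin t → Fin m) F)⁻¹ = permGL σ⁻¹ := by
  apply inv_eq_of_mul_eq_one_right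
  apply Units.ext
  rw [Units.val_mul, coe_permGL, coe_permGL, permMat_mul, mul_inv_cancel, permMat_one,
    Units.val_one]

theorem pure_conj_mem (gs : Fin 3 → Matrix.GeneralLinearGroup (Fin 2) F)
    {x : Matrix.GeneralLinearGroup (Fin 3 → Fin 2) F} (hx : x ∈ R0 hq) :
    pureHom gs * x * (pureHom gs)⁻¹ ∈ R0 hq := by
  obtain ⟨qs, hqs, rfl⟩ := (mem_R0 hq).mp hx
  rw [← map_inv, ← map_mul, ← map_mul]
  exact (mem_R0 hq).mpr ⟨gs * qs * gs⁻¹, fun i => Q8F_conj hq (gs i) (hqs i), rfl⟩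

theorem perm_conj_mem (σ : Equiv.Perm (Fin 3))
    {x : Matrix.GeneralLinearGroup (Fin 3 → Fin 2) F} (hx : x ∈ R0 hq) :
    permGL σ * x * (permGL σ)⁻¹ ∈ R0 hq := by
  obtain ⟨qs, hqs, rfl⟩ := (mem_R0 hq).mp hx
  rw [permGL_mul_pureHom, mul_assoc, mul_inv_cancel, mul_one]
  exact (mem_R0 hq).mpr ⟨fun i => qs (σ.symm i), fun i => hqs _, rfl⟩

/-- the standard stabiliser of the tensor decomposition normalises the group -/
theorem standard_conj_mem {y : Matrix.GeneralLinearGroup (Fin 3 → Fin 2) F}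
    (hy : y ∈ tensorWreathStandard 2 3 F) :
    (∀ x ∈ R0 hq, y * x * y⁻¹ ∈ R0 hq) ∧ (∀ x ∈ R0 hq, y⁻¹ * x * y ∈ R0 hq) := by
  unfold tensorWreathStandard at hy
  induction hy using Subgroup.closure_induction with
  | mem y hy =>
    rcases hy with hy | hy
    · obtain ⟨gs, rfl⟩ := eq_pureHom_of_isPureTensor hy
      refine ⟨fun x hx => pure_conj_mem hq gs hx, fun x hx => ?_⟩
      have := pure_conj_mem hq gs⁻¹ hx
      rwa [map_inv, inv_inv] at this
    · obtain ⟨σ, rfl⟩ := eq_permGL_of_isFactorPermutation hy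
      refine ⟨fun x hx => perm_conj_mem hq σ hx, fun x hx => ?_⟩
      have := perm_conj_mem hq σ⁻¹ hx
      rwa [← permGL_inv, inv_inv] at this
  | one =>
    refine ⟨fun x hx => ?_, fun x hx => ?_⟩
    · rwa [one_mul, inv_one, mul_one]
    · rwa [inv_one, one_mul, mul_one]
  | mul y₁ y₂ _ _ h1 h2 =>
    refine ⟨fun x hx => ?_, fun x hx => ?_⟩
    · have := h1.1 _ (h2.1 x hx)
      have e : y₁ * y₂ * x * (y₁ * y₂)⁻¹ = y₁ * (y₂ * x * y₂⁻¹) * y₁⁻¹ := by group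
      rwa [e]
    · have := h2.2 _ (h1.2 x hx)
      have e : (y₁ * y₂)⁻¹ * x * (y₁ * y₂) = y₂⁻¹ * (y₁⁻¹ * x * y₁) * y₂ := by group
      rwa [e]
  | inv y _ h =>
    refine ⟨fun x hx => ?_, fun x hx => ?_⟩
    · have := h.2 x hx
      rwa [inv_inv]
    · have := h.1 x hx
      rwa [inv_inv]

variable {m : ℕ}

local notation "V" => (Fin m ⊕ Fin m → F)
local notation "GLV" => Matrix.GeneralLinearGroup (Fin m ⊕ Fin m) F
local notation "MatV" => Matrix (Fin m ⊕ Fin m) (Fin m ⊕ Fin m) F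

/-- the group of order 128 attached to a tensor decomposition into three planes -/
noncomputable def R6 (e' : (Fin m ⊕ Fin m) ≃ (Fin 3 → Fin 2)) (P' : GLV) : Subgroup GLV :=
  (R0 hq).map (Ph e' P').toMonoidHom

theorem mem_R6 (e' : (Fin m ⊕ Fin m) ≃ (Fin 3 → Fin 2)) (P' : GLV) {g : GLV} :
    g ∈ R6 hq e' P' ↔ ∃ qs : Fin 3 → Matrix.GeneralLinearGroup (Fin 2) F,
      (∀ i, qs i ∈ Q8F hq) ∧ Ph e' P' (pureHom qs) = g := by
  unfold R6
  rw [Subgroup.mem_map]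
  constructor
  · rintro ⟨x, hx, rfl⟩
    obtain ⟨qs, hqs, rfl⟩ := (mem_R0 hq).mp hx
    exact ⟨qs, hqs, rfl⟩
  · rintro ⟨qs, hqs, rfl⟩
    exact ⟨pureHom qs, (mem_R0 hq).mpr ⟨qs, hqs, rfl⟩, rfl⟩

theorem wreath_conj_mem (e' : (Fin m ⊕ Fin m) ≃ (Fin 3 → Fin 2)) (P' : GLV) {g : GLV}
    (hg : g ∈ tensorWreathSubgroup 2 3 e' P') :
    (∀ x ∈ R6 hq e' P', g * x * g⁻¹ ∈ R6 hq e' P') ∧
      (∀ x ∈ R6 hq e' P', g⁻¹ * x * g ∈ R6 hq e' P') := by
  rw [wreath_eq_map] at hg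
  obtain ⟨y, hy, rfl⟩ := hg
  have h := standard_conj_mem hq hy
  refine ⟨fun x hx => ?_, fun x hx => ?_⟩
  · obtain ⟨x₀, hx₀, rfl⟩ := hx
    refine ⟨y * x₀ * y⁻¹, h.1 x₀ hx₀, ?_⟩
    simp only [MulEquiv.coe_toMonoidHom, map_mul, map_inv]
  · obtain ⟨x₀, hx₀, rfl⟩ := hx
    refine ⟨y⁻¹ * x₀ * y, h.2 x₀ hx₀, ?_⟩
    simp only [MulEquiv.coe_toMonoidHom, map_mul, map_inv]

theorem wreath_le_normalizer (e' : (Fin m ⊕ Fin m) ≃ (Fin 3 → Fin 2)) (P' : GLV) :
    tensorWreathSubgroup 2 3 e' P' ≤ subgroupNormalizer (R6 hq e' P') := by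
  intro g hg
  have h := wreath_conj_mem hq e' P' hg
  unfold subgroupNormalizer
  rw [Subgroup.mem_set_normalizer_iff]
  intro x
  constructor
  · intro hx
    exact h.1 x hx
  · intro hx
    have := h.2 _ hx
    have e : g⁻¹ * (g * x * g⁻¹) * g = x := by group
    rwa [e] at this

/-! ### the invariant form -/

theorem sp2_identity (A : Matrix (Fin 2) (Fin 2) F) :
    Aᵀ * (J2 : Matrix (Fin 2) (Fin 2) F) * A = A.det • J2 := by
  ext i j
  fin_cases i <;> fin_cases j <;>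
    simp [J2, Matrix.mul_apply, Fin.sum_univ_two, Matrix.det_fin_two] <;> ring

/-- the Gram matrix of the tensor cube of the alternating form -/
def Gm : Matrix (Fin 3 → Fin 2) (Fin 3 → Fin 2) F := pureMat (fun _ => J2)

theorem Gm_invariant {qs : Fin 3 → Matrix.GeneralLinearGroup (Fin 2) F}
    (hqs : ∀ i, qs i ∈ Q8F hq) :
    (pureMat (fun i => (qs i : Matrix (Fin 2) (Fin 2) F)))ᵀ * (Gm : Matrix _ _ F) *
      pureMat (fun i => (qs i : Matrix (Fin 2) (Fin 2) F)) = Gm := by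
  unfold Gm
  rw [pureMat_transpose, pureMat_mul, pureMat_mul]
  congr 1
  funext i
  rw [sp2_identity, inQ_det hq (hqs i), one_smul]

theorem form_eq_dot (x y : (Fin 3 → Fin 2) → F) :
    ∑ a, ∑ b, x a * (∏ i, gramMatrix (g0 : (Fin 2 → F) → (Fin 2 → F) → F) (a i) (b i)) *
      id (y b) = x ⬝ᵥ ((Gm : Matrix _ _ F) *ᵥ y) := by
  simp only [dotProduct, Matrix.mulVec, Gm, pureMat_apply, gram_g0, id, Finset.mul_sum]
  refine Finset.sum_congr rfl fun a _ => Finset.sum_congr rfl fun b _ => ?_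
  ring

theorem R6_isom (e' : (Fin m ⊕ Fin m) ≃ (Fin 3 → Fin 2)) (P' : GLV)
    (hfs : IsTensorPowerFormStructure id (sympForm m F)
      (g0 : (Fin 2 → F) → (Fin 2 → F) → F) e' P') {g : GLV} (hg : g ∈ R6 hq e' P')
    (u v : V) : sympForm m F ((g : MatV) *ᵥ u) ((g : MatV) *ᵥ v) = sympForm m F u v := by
  obtain ⟨C, hC, hform⟩ := hfs
  obtain ⟨qs, hqs, rfl⟩ := (mem_R6 hq e' P').mp hg
  obtain ⟨x, rfl⟩ := tau_surjective e' P' u
  obtain ⟨y, rfl⟩ := tau_surjective e' P' v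
  rw [tau_apply, tau_apply, Ph_mulVec, Ph_mulVec, hform, hform, form_eq_dot, form_eq_dot]
  congr 1
  set X : Matrix (Fin 3 → Fin 2) (Fin 3 → Fin 2) F :=
    ((pureHom qs : Matrix.GeneralLinearGroup (Fin 3 → Fin 2) F) :
      Matrix (Fin 3 → Fin 2) (Fin 3 → Fin 2) F) with hX
  have hXinv : Xᵀ * (Gm : Matrix _ _ F) * X = Gm := by
    rw [hX, coe_pureHom]
    exact Gm_invariant hq hqs
  calc (X *ᵥ x) ⬝ᵥ ((Gm : Matrix _ _ F) *ᵥ (X *ᵥ y))
      = x ⬝ᵥ (Xᵀ *ᵥ ((Gm : Matrix _ _ F) *ᵥ (X *ᵥ y))) := by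
        rw [← Matrix.vecMul_transpose, ← Matrix.dotProduct_mulVec]
    _ = x ⬝ᵥ ((Xᵀ * (Gm : Matrix _ _ F) * X) *ᵥ y) := by
        rw [Matrix.mulVec_mulVec, Matrix.mulVec_mulVec, Matrix.mul_assoc]
    _ = x ⬝ᵥ ((Gm : Matrix _ _ F) *ᵥ y) := by rw [hXinv]

end Cfsg.Agent.Lib.Helper3.SpW
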