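import Mathlib
import Cfsg.Prelude
import Cfsg.Agent.Lib.Helper3.SpW8
import Cfsg.Agent.Lib.Helper8.SpI1

set_option autoImplicit false
set_option maxHeartbeats 4000000
set_option maxRecDepth 100000
set_option linter.unusedVariables false
set_option linter.unusedSectionVars false
set_option linter.style.haveILetI false
set_option linter.deprecated false

/-! The group of order 128 attached to a decomposition of the symplectic space of dimension eight
over the field with three elements into a tensor product of three planes: it spans the matrix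
algebra, is of class two modulo scalars, and has the properties of the sixth geometric class. -/

namespace Cfsg.Agent.Lib.Helper3.SpW

open Matrix Cfsg Cfsg.Geo
open Cfsg.Agent.Lib.Helper5.SympTv Cfsg.Agent.Lib.Helper5.SpCentres
open Cfsg.Agent.Lib.Helper4.MaxS
open Cfsg.Agent.Lib.Helper8
open scoped commutatorElement

variable {F : Type*} [Field F] [Fintype F] (hq : Fintype.card F = 3) {m : ℕ}

local notation "V" => (Fin m ⊕ Fin m → F)
local notation "GLV" => Matrix.GeneralLinearGroup (Fin m ⊕ Fin m) F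
local notation "MatV" => Matrix (Fin m ⊕ Fin m) (Fin m ⊕ Fin m) F

/-- conjugation by a normalising element, as an automorphism -/
def conjAutOf {G : Type*} [Group G] (R : Subgroup G) (n : G) (h1 : ∀ x ∈ R, n * x * n⁻¹ ∈ R)
    (h2 : ∀ x ∈ R, n⁻¹ * x * n ∈ R) : R ≃* R where
  toFun x := ⟨n * x * n⁻¹, h1 x x.2⟩
  invFun x := ⟨n⁻¹ * x * n, h2 x x.2⟩
  left_inv x := by
    apply Subtype.ext
    show n⁻¹ * (n * x * n⁻¹) * n = x
    group
  right_inv x := by
    apply Subtype.ext
    show n * (n⁻¹ * x * n) * n⁻¹ = x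
    group
  map_mul' x y := by
    apply Subtype.ext
    show n * (x * y) * n⁻¹ = n * x * n⁻¹ * (n * y * n⁻¹)
    group

theorem conjAutOf_apply {G : Type*} [Group G] (R : Subgroup G) (n : G)
    (h1 : ∀ x ∈ R, n * x * n⁻¹ ∈ R) (h2 : ∀ x ∈ R, n⁻¹ * x * n ∈ R) (x : R) :
    ((conjAutOf R n h1 h2 x : R) : G) = n * x * n⁻¹ := rfl

/-- a member of the quaternion group whose matrix is `± 1` is a non-zero scalar -/
theorem scalar_of_pm {q : Matrix.GeneralLinearGroup (Fin 2) F}
    (h : (q : Matrix (Fin 2) (Fin 2) F) = 1 ∨ (q : Matrix (Fin 2) (Fin 2) F) = -1) :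
    ∃ c : F, c ≠ 0 ∧ (q : Matrix (Fin 2) (Fin 2) F) = c • (1 : Matrix (Fin 2) (Fin 2) F) := by
  rcases h with h | h
  · exact ⟨1, one_ne_zero, by rw [h, one_smul]⟩
  · exact ⟨-1, neg_ne_zero.mpr one_ne_zero, by rw [h, neg_smul, one_smul]⟩

/-- a pure tensor of non-zero scalars is a non-zero scalar -/
theorem pureHom_scalar {qs : Fin 3 → Matrix.GeneralLinearGroup (Fin 2) F}
    (h : ∀ i, ∃ c : F, c ≠ 0 ∧
      (qs i : Matrix (Fin 2) (Fin 2) F) = c • (1 : Matrix (Fin 2) (Fin 2) F)) :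
    ∃ c : F, c ≠ 0 ∧ ((pureHom qs : Matrix.GeneralLinearGroup (Fin 3 → Fin 2) F) :
      Matrix (Fin 3 → Fin 2) (Fin 3 → Fin 2) F) = c • 1 := by
  choose c hc0 hc using h
  refine ⟨∏ i, c i, Finset.prod_ne_zero_iff.mpr fun i _ => hc0 i, ?_⟩
  rw [coe_pureHom, ← pureMat_scalar]
  congr 1
  funext i
  exact hc i

theorem mem_Zs_of_scalar (e' : (Fin m ⊕ Fin m) ≃ (Fin 3 → Fin 2)) (P' : GLV)
    {x : Matrix.GeneralLinearGroup (Fin 3 → Fin 2) F} {c : F} (hc : c ≠ 0)
    (hx : (x : Matrix (Fin 3 → Fin 2) (Fin 3 → Fin 2) F) = c • 1) :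
    Ph e' P' x ∈ Asch.Zs (Fin m ⊕ Fin m) F := by
  rw [Asch.mem_Zs]
  exact ⟨Units.mk0 c hc, Ph_scalar e' P' x c hx⟩

/-- the commutator of two members of the quaternion group is `± 1` -/
theorem commutator_pm {q r : Matrix.GeneralLinearGroup (Fin 2) F} (hq' : q ∈ Q8F hq)
    (hr : r ∈ Q8F hq) :
    ((⁅q, r⁆ : Matrix.GeneralLinearGroup (Fin 2) F) : Matrix (Fin 2) (Fin 2) F) = 1 ∨
      ((⁅q, r⁆ : Matrix.GeneralLinearGroup (Fin 2) F) : Matrix (Fin 2) (Fin 2) F) = -1 := by
  have hqi : (q : Matrix (Fin 2) (Fin 2) F) *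
      ((q⁻¹ : Matrix.GeneralLinearGroup (Fin 2) F) : Matrix (Fin 2) (Fin 2) F) = 1 := by
    rw [← Units.val_mul, mul_inv_cancel, Units.val_one]
  have hri : (r : Matrix (Fin 2) (Fin 2) F) *
      ((r⁻¹ : Matrix.GeneralLinearGroup (Fin 2) F) : Matrix (Fin 2) (Fin 2) F) = 1 := by
    rw [← Units.val_mul, mul_inv_cancel, Units.val_one]
  rw [commutatorElement_def, Units.val_mul, Units.val_mul, Units.val_mul]
  rcases inQ_comm hq hq' hr with h | h
  · left
    rw [h, mul_assoc (r : Matrix (Fin 2) (Fin 2) F), hqi, mul_one, hri]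
  · right
    rw [h, neg_mul, neg_mul, mul_assoc (r : Matrix (Fin 2) (Fin 2) F), hqi, mul_one, hri]

variable (e' : (Fin m ⊕ Fin m) ≃ (Fin 3 → Fin 2))
  (P' : Matrix.GeneralLinearGroup (Fin m ⊕ Fin m) F)

theorem R6_comm {x y : GLV} (hx : x ∈ R6 hq e' P') (hy : y ∈ R6 hq e' P') :
    ⁅x, y⁆ ∈ Asch.Zs (Fin m ⊕ Fin m) F := by
  obtain ⟨qs, hqs, rfl⟩ := (mem_R6 hq e' P').mp hx
  obtain ⟨rs, hrs, rfl⟩ := (mem_R6 hq e' P').mp hy
  rw [← map_commutatorElement, ← map_commutatorElement]
  obtain ⟨c, hc0, hc⟩ := pureHom_scalar (qs := ⁅qs, rs⁆) (fun i =>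
    scalar_of_pm (commutator_pm hq (hqs i) (hrs i)))
  exact mem_Zs_of_scalar e' P' hc0 hc

/-- the conjugation map on matrices -/
noncomputable def Lam (e' : (Fin m ⊕ Fin m) ≃ (Fin 3 → Fin 2)) (P' : GLV) :
    Matrix (Fin 3 → Fin 2) (Fin 3 → Fin 2) F →ₗ[F] MatV where
  toFun M := (P' : MatV) * M.submatrix e' e' * ((P'⁻¹ : GLV) : MatV)
  map_add' a b := by
    have : (a + b).submatrix e' e' = a.submatrix e' e' + b.submatrix e' e' := by
      ext i j
      rfl
    show (P' : MatV) * (a + b).submatrix e' e' * ((P'⁻¹ : GLV) : MatV) = _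
    rw [this, Matrix.mul_add, Matrix.add_mul]
  map_smul' c a := by
    have : (c • a).submatrix e' e' = c • a.submatrix e' e' := by
      ext i j
      rfl
    show (P' : MatV) * (c • a).submatrix e' e' * ((P'⁻¹ : GLV) : MatV) = _
    rw [this, Matrix.mul_smul, Matrix.smul_mul, RingHom.id_apply]

theorem Lam_apply (M : Matrix (Fin 3 → Fin 2) (Fin 3 → Fin 2) F) :
    Lam e' P' M = (P' : MatV) * M.submatrix e' e' * ((P'⁻¹ : GLV) : MatV) := rfl

theorem Lam_surjective : Function.Surjective (Lam (F := F) e' P') := by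
  intro M'
  refine ⟨(((P'⁻¹ : GLV) : MatV) * M' * (P' : MatV)).submatrix e'.symm e'.symm, ?_⟩
  rw [Lam_apply, Matrix.submatrix_submatrix]
  have : (⇑e'.symm ∘ ⇑e') = id := by
    funext i
    simp
  rw [this, Matrix.submatrix_id_id]
  simp only [Matrix.mul_assoc]
  rw [← Units.val_mul, mul_inv_cancel, Units.val_one, Matrix.mul_one, ← Matrix.mul_assoc,
    ← Units.val_mul, mul_inv_cancel, Units.val_one, Matrix.one_mul]

theorem R6_span : Submodule.span F (Asch.mset (R6 hq e' P')) = ⊤ := by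
  set S := Submodule.span F (Asch.mset (R6 hq e' P')) with hS
  have h3 : (3 : F) = 0 := three_eq_zero hq
  have hpure : ∀ gs : Fin 3 → Matrix (Fin 2) (Fin 2) F,
      (∀ i, gs i ∈ {M : Matrix (Fin 2) (Fin 2) F | InQ M}) →
      pureMat gs ∈ S.comap (Lam e' P') := by
    intro gs hgs
    have hdet : ∀ i, (gs i).det ≠ 0 := fun i => by
      rw [inQ_det hq (hgs i)]
      exact one_ne_zero
    set qs : Fin 3 → Matrix.GeneralLinearGroup (Fin 2) F := fun i =>
      Matrix.GeneralLinearGroup.mkOfDetNeZero (gs i) (hdet i) with hqs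
    have hqsc : (fun i => (qs i : Matrix (Fin 2) (Fin 2) F)) = gs := by
      funext i
      rfl
    have hmem : Ph e' P' (pureHom qs) ∈ R6 hq e' P' :=
      (mem_R6 hq e' P').mpr ⟨qs, fun i => hgs i, rfl⟩
    rw [Submodule.mem_comap, Lam_apply, ← hqsc, ← coe_pureHom, ← coe_Ph]
    exact Submodule.subset_span (Asch.mem_mset hmem)
  have hall : S.comap (Lam e' P') = ⊤ :=
    eq_top_of_pureMat_mem _ (pureMat_mem_of_span _ _ (span_inQ h3) hpure)
  rw [eq_top_iff]
  intro M' _
  obtain ⟨M, rfl⟩ := Lam_surjective e' P' M'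
  have : M ∈ S.comap (Lam e' P') := by rw [hall]; trivial
  exact this

theorem R6_cl2 : Asch.Cl2 (R6 hq e' P') :=
  ⟨inferInstance, R6_span hq e' P', fun x hx y hy => R6_comm hq e' P' hx hy⟩

variable (hfs : IsTensorPowerFormStructure id (sympForm m F)
  (g0 : (Fin 2 → F) → (Fin 2 → F) → F) e' P')

include hfs

theorem card_index : Fintype.card (Fin m ⊕ Fin m) = 8 := by
  rw [Fintype.card_congr e']
  simp

theorem R6_pm [Nonempty (Fin m ⊕ Fin m)] {g : GLV} (hg : g ∈ R6 hq e' P')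
    (hgZ : g ∈ Asch.Zs (Fin m ⊕ Fin m) F) : Asch.sv g = 1 ∨ Asch.sv g = -1 :=
  Asch.sv_sq_of_isom (Asch.isSymplecticForm_sympForm m) hgZ
    (fun u v => R6_isom hq e' P' hfs hg u v)

theorem neg_one_mem : (-1 : GLV) ∈ R6 hq e' P' ⊓ Asch.Zs (Fin m ⊕ Fin m) F := by
  have hm1 : (-1 : Matrix.GeneralLinearGroup (Fin 2) F) ∈ Q8F hq := by
    rw [mem_Q8F, Units.val_neg, Units.val_one]
    exact inQ_neg_one
  set qs : Fin 3 → Matrix.GeneralLinearGroup (Fin 2) F := ![-1, 1, 1] with hqs
  have hqsm : ∀ i, qs i ∈ Q8F hq := by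
    intro i
    fin_cases i
    · exact hm1
    · exact Subgroup.one_mem _
    · exact Subgroup.one_mem _
  have hc : ((pureHom qs : Matrix.GeneralLinearGroup (Fin 3 → Fin 2) F) :
      Matrix (Fin 3 → Fin 2) (Fin 3 → Fin 2) F) = (-1 : F) • 1 := by
    rw [coe_pureHom]
    have : (fun i => (qs i : Matrix (Fin 2) (Fin 2) F)) =
        fun i => (![(-1 : F), 1, 1] i) • (1 : Matrix (Fin 2) (Fin 2) F) := by
      funext i
      fin_cases i <;> simp [hqs]
    rw [this, pureMat_scalar, Fin.prod_univ_three]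
    simp
  have heq : Ph e' P' (pureHom qs) = (-1 : GLV) := by
    apply Units.ext
    rw [Ph_scalar e' P' _ _ hc, Units.val_neg, Units.val_one, neg_smul, one_smul]
  constructor
  · exact (mem_R6 hq e' P').mpr ⟨qs, hqsm, heq⟩
  · rw [← heq]
    exact mem_Zs_of_scalar e' P' (neg_ne_zero.mpr one_ne_zero) hc

theorem card_inf_Zs [Nonempty (Fin m ⊕ Fin m)] :
    Nat.card ↥(R6 hq e' P' ⊓ Asch.Zs (Fin m ⊕ Fin m) F) = 2 := by
  classical
  have hpm := fun g hg hgZ => R6_pm hq e' P' hfs (g := g) hg hgZ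
  apply le_antisymm
  · let φ : ↥(R6 hq e' P' ⊓ Asch.Zs (Fin m ⊕ Fin m) F) → Bool :=
      fun g => decide (Asch.sv (g : GLV) = 1)
    have hφ : Function.Injective φ := by
      intro g g' h
      have hsv : Asch.sv (g : GLV) = Asch.sv (g' : GLV) := by
        by_cases h1 : Asch.sv (g : GLV) = 1
        · have : φ g = true := decide_eq_true h1
          rw [h] at this
          rw [h1, of_decide_eq_true this]
        · have : φ g = false := decide_eq_false h1
          rw [h] at this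
          have h1' := of_decide_eq_false this
          rcases hpm _ g.2.1 g.2.2 with e | e
          · exact absurd e h1
          · rcases hpm _ g'.2.1 g'.2.2 with e' | e'
            · exact absurd e' h1'
            · rw [e, e']
      apply Subtype.ext
      apply Units.ext
      rw [Asch.val_eq_sv_smul g.2.2, Asch.val_eq_sv_smul g'.2.2, hsv]
    have := Nat.card_le_card_of_injective φ hφ
    rw [Nat.card_eq_fintype_card (α := Bool), Fintype.card_bool] at this
    exact this
  · have hnt : Nontrivial ↥(R6 hq e' P' ⊓ Asch.Zs (Fin m ⊕ Fin m) F) := by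
      refine ⟨⟨1, ⟨-1, neg_one_mem hq e' P' hfs⟩, ?_⟩⟩
      intro h
      have h1 : (1 : GLV) = -1 := congrArg Subtype.val h
      have h2 := congrArg (fun g : GLV => (g : MatV)) h1
      simp only [Units.val_one, Units.val_neg] at h2
      obtain ⟨i⟩ := ‹Nonempty (Fin m ⊕ Fin m)›
      have h3 := congrFun (congrFun h2 i) i
      rw [Matrix.neg_apply, Matrix.one_apply_eq] at h3
      apply two_ne_zero' hq
      linear_combination h3
    exact Finite.one_lt_card_iff_nontrivial.mpr hnt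

theorem R6_card [Nonempty (Fin m ⊕ Fin m)] : Nat.card ↥(R6 hq e' P') = 128 := by
  rw [Asch.card_N (R6_cl2 hq e' P'), card_inf_Zs hq e' P' hfs, card_index e' P' hfs]
  norm_num

theorem R6_card_center [Nonempty (Fin m ⊕ Fin m)] :
    Nat.card (Subgroup.center ↥(R6 hq e' P')) = 2 := by
  rw [Asch.card_center (R6_cl2 hq e' P'), card_inf_Zs hq e' P' hfs]

theorem R6_minus [Nonempty (Fin m ⊕ Fin m)] : IsOfMinusType 3 (R6 hq e' P') := by
  intro A hAc hAe
  set A' : Subgroup GLV := A.map (R6 hq e' P').subtype with hA'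
  have hcardA : Nat.card A' = Nat.card A :=
    Subgroup.card_map_of_injective (R6 hq e' P').subtype_injective
  have hA'N : A' ≤ R6 hq e' P' := by
    rintro _ ⟨x, -, rfl⟩
    exact x.2
  have h2F : (2 : F) ≠ 0 := two_ne_zero' hq
  have hlt := Asch.elemAbelian_card_lt (Asch.isSymplecticForm_sympForm m) (R6_cl2 hq e' P')
    (fun g hg u v => R6_isom hq e' P' hfs hg u v) h2F
    (fun g hg hgZ => R6_pm hq e' P' hfs hg hgZ) (by
      rw [card_index e' P' hfs]
      have : ((8 : ℕ) : F) = 2 ^ 3 := by norm_num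
      rw [this]
      exact pow_ne_zero _ h2F) A' hA'N (by
      rintro ⟨_, a, ha, rfl⟩ ⟨_, b, hb, rfl⟩
      apply Subtype.ext
      show (a : GLV) * (b : GLV) = b * a
      have := hAc.is_comm.comm (⟨a, ha⟩ : A) ⟨b, hb⟩
      have h' := congrArg (fun x : A => ((x : R6 hq e' P') : GLV)) this
      exact h') (by
      rintro ⟨_, a, ha, rfl⟩
      apply Subtype.ext
      show (a : GLV) * (a : GLV) = 1
      have := hAe a ha
      exact congrArg Subtype.val this)
  rw [hcardA, card_index e' P' hfs] at hlt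
  norm_num
  omega

end Cfsg.Agent.Lib.Helper3.SpW
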