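import Mathlib
import Cfsg.Prelude
import Cfsg.Agent.Lib.Helper3.SpW9

set_option autoImplicit false
set_option maxHeartbeats 4000000
set_option maxRecDepth 100000
set_option linter.unusedVariables false
set_option linter.unusedSectionVars false
set_option linter.style.haveILetI false
set_option linter.deprecated false

/-! The group of order 128 attached to a decomposition of the symplectic space of dimension eight
over the field with three elements into a tensor product of three planes is of symplectic type. -/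

namespace Cfsg.Agent.Lib.Helper3.SpW

open Matrix Cfsg Cfsg.Geo
open Cfsg.Agent.Lib.Helper5.SympTv Cfsg.Agent.Lib.Helper5.SpCentres
open Cfsg.Agent.Lib.Helper4.MaxS
open Cfsg.Agent.Lib.Helper8
open scoped commutatorElement

variable {F : Type*} [Field F] [Fintype F] (hq : Fintype.card F = 3) {m : ℕ}

local notation "V" => (Fin m ⊕ Fin m → F)
local notation "GLV" => Matrix.GeneralLinearGroup (Fin m ⊕ Fin m) F
local notation "MatV" => Matrix (Fin m ⊕ Fin m) (Fin m ⊕ Fin m) F

/-- the unipotent element as an invertible matrix -/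
noncomputable def tG : Matrix.GeneralLinearGroup (Fin 2) F :=
  ⟨tF hq, tF' hq, tF_mul hq, tF'_mul hq⟩

/-- the element of order four as an invertible matrix -/
noncomputable def iG : Matrix.GeneralLinearGroup (Fin 2) F :=
  ⟨iQ, -iQ, by rw [mul_neg, iQ_mul_self, neg_neg], by rw [neg_mul, iQ_mul_self, neg_neg]⟩

variable (e' : (Fin m ⊕ Fin m) ≃ (Fin 3 → Fin 2))
  (P' : Matrix.GeneralLinearGroup (Fin m ⊕ Fin m) F)

/-- the members of a characteristic abelian subgroup are scalars -/
theorem char_abelian_scalar (A : Subgroup ↥(R6 hq e' P')) (hchar : A.Characteristic)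
    (hcomm : IsMulCommutative A) (a : A) :
    ((a : ↥(R6 hq e' P')) : GLV) ∈ Asch.Zs (Fin m ⊕ Fin m) F := by
  classical
  obtain ⟨qs, hqs, hqa⟩ := (mem_R6 hq e' P').mp (a : ↥(R6 hq e' P')).2
  have hcomp : ∀ i, (qs i : Matrix (Fin 2) (Fin 2) F) = 1 ∨
      (qs i : Matrix (Fin 2) (Fin 2) F) = -1 := by
    intro i
    set ts : Fin 3 → Matrix.GeneralLinearGroup (Fin 2) F := Pi.mulSingle i (tG hq) with hts
    set n : GLV := Ph e' P' (pureHom ts) with hn
    have hnW : n ∈ tensorWreathSubgroup 2 3 e' P' := by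
      rw [wreath_eq_map]
      exact ⟨pureHom ts, Subgroup.subset_closure (Or.inl (isPureTensor_pureHom ts)), rfl⟩
    have hnc := wreath_conj_mem hq e' P' hnW
    let φ : ↥(R6 hq e' P') ≃* ↥(R6 hq e' P') := conjAutOf (R6 hq e' P') n hnc.1 hnc.2
    have h1 := Subgroup.characteristic_iff_map_eq.mp hchar φ
    have h2 : φ (a : ↥(R6 hq e' P')) ∈ A := by
      have h2' : φ (a : ↥(R6 hq e' P')) ∈ A.map φ.toMonoidHom :=
        Subgroup.mem_map_of_mem _ a.2
      rwa [h1] at h2'
    have h3 : (⟨(a : ↥(R6 hq e' P')), a.2⟩ : A) * ⟨φ a, h2⟩ = ⟨φ a, h2⟩ * ⟨(a : ↥(R6 hq e' P')), a.2⟩ :=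
      hcomm.is_comm.comm _ _
    have h4 : ((a : ↥(R6 hq e' P')) : GLV) * (n * ((a : ↥(R6 hq e' P')) : GLV) * n⁻¹) =
        (n * ((a : ↥(R6 hq e' P')) : GLV) * n⁻¹) * ((a : ↥(R6 hq e' P')) : GLV) := by
      have := congrArg (fun x : A => ((x : ↥(R6 hq e' P')) : GLV)) h3
      exact this
    rw [← hqa] at h4
    have h5 : pureHom (qs * (ts * qs * ts⁻¹)) = pureHom ((ts * qs * ts⁻¹) * qs) := by
      apply (Ph e' P').injective
      simp only [map_mul, map_inv]
      exact h4
    have h6 : pureHom (Pi.mulSingle i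
        (qs i * (tG hq * qs i * (tG hq)⁻¹) * ((tG hq * qs i * (tG hq)⁻¹) * qs i)⁻¹)) = 1 := by
      have hms : Pi.mulSingle i
          (qs i * (tG hq * qs i * (tG hq)⁻¹) * ((tG hq * qs i * (tG hq)⁻¹) * qs i)⁻¹) =
          (qs * (ts * qs * ts⁻¹)) * ((ts * qs * ts⁻¹) * qs)⁻¹ := by
        funext j
        by_cases hj : j = i
        · subst hj
          simp [hts]
        · rw [Pi.mulSingle_eq_of_ne hj]
          simp only [Pi.mul_apply, Pi.inv_apply, hts, Pi.mulSingle_eq_of_ne hj, one_mul, inv_one,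
            mul_one, mul_inv_cancel]
      rw [hms, map_mul, map_inv, h5, mul_inv_cancel]
    have h7 := eq_one_of_pureHom_mulSingle (0 : Fin 2) i _ h6
    have h8 : qs i * (tG hq * qs i * (tG hq)⁻¹) = (tG hq * qs i * (tG hq)⁻¹) * qs i :=
      mul_inv_eq_one.mp h7
    have h9 := congrArg (fun g : Matrix.GeneralLinearGroup (Fin 2) F =>
      (g : Matrix (Fin 2) (Fin 2) F)) h8
    simp only [Units.val_mul] at h9
    exact inQ_fixed hq (hqs i) h9
  obtain ⟨c, hc0, hc⟩ := pureHom_scalar (qs := qs) (fun i => scalar_of_pm (hcomp i))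
  rw [← hqa]
  exact mem_Zs_of_scalar e' P' hc0 hc

theorem R6_char_cyclic [Nonempty (Fin m ⊕ Fin m)] (A : Subgroup ↥(R6 hq e' P'))
    (hchar : A.Characteristic) (hcomm : IsMulCommutative A) : IsCyclic A := by
  have hmem := char_abelian_scalar hq e' P' A hchar hcomm
  let f : A →* F :=
    { toFun := fun a => Asch.sv ((a : ↥(R6 hq e' P')) : GLV)
      map_one' := Asch.sv_one
      map_mul' := fun a b => Asch.sv_mul (hmem a) (hmem b) }
  refine isCyclic_of_subgroup_isDomain f ?_
  intro a b hab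
  apply Subtype.ext
  apply Subtype.ext
  apply Units.ext
  rw [Asch.val_eq_sv_smul (hmem a), Asch.val_eq_sv_smul (hmem b)]
  congr 1

theorem R6_pow_four {x : GLV} (hx : x ∈ R6 hq e' P') : x * x * (x * x) = 1 := by
  obtain ⟨qs, hqs, rfl⟩ := (mem_R6 hq e' P').mp hx
  rw [← map_mul, ← map_mul, ← map_mul, ← map_mul]
  have : qs * qs * (qs * qs) = 1 := by
    funext i
    apply Units.ext
    simp only [Pi.mul_apply, Pi.one_apply, Units.val_mul, Units.val_one]
    exact inQ_pow_four (hqs i)
  rw [this, map_one, map_one]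

theorem iG_mem : (iG : Matrix.GeneralLinearGroup (Fin 2) F) ∈ Q8F hq := by
  rw [mem_Q8F]
  exact inQ_iQ

theorem R6_exponent [Nonempty (Fin m ⊕ Fin m)] :
    Monoid.exponent ↥(R6 hq e' P') = 2 * Nat.gcd 2 2 := by
  classical
  have hdvd : Monoid.exponent ↥(R6 hq e' P') ∣ 4 := by
    apply Monoid.exponent_dvd_of_forall_pow_eq_one
    intro x
    apply Subtype.ext
    have := R6_pow_four hq e' P' x.2
    rw [Subgroup.coe_pow, Subgroup.coe_one]
    rw [show (4 : ℕ) = 2 + 2 from rfl, pow_add, pow_two]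
    exact this
  -- an element of order four
  set qs : Fin 3 → Matrix.GeneralLinearGroup (Fin 2) F := Pi.mulSingle 0 iG with hqs
  have hqsm : ∀ i, qs i ∈ Q8F hq := by
    intro i
    by_cases hi : i = 0
    · subst hi
      rw [hqs, Pi.mulSingle_eq_same]
      exact iG_mem hq
    · rw [hqs, Pi.mulSingle_eq_of_ne hi]
      exact Subgroup.one_mem _
  have hx₀ : Ph e' P' (pureHom qs) ∈ R6 hq e' P' := (mem_R6 hq e' P').mpr ⟨qs, hqsm, rfl⟩
  have hnot : ¬ Monoid.exponent ↥(R6 hq e' P') ∣ 2 := by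
    intro h2
    have h1 : (⟨Ph e' P' (pureHom qs), hx₀⟩ : ↥(R6 hq e' P')) ^ 2 = 1 :=
      (Monoid.exponent_dvd_iff_forall_pow_eq_one.mp h2) _
    have h3 : Ph e' P' (pureHom qs) ^ 2 = 1 := by
      have := congrArg (fun x : ↥(R6 hq e' P') => (x : GLV)) h1
      simpa using this
    rw [← map_pow, ← map_pow] at h3
    have h4 : pureHom (qs ^ 2) = 1 := by
      apply (Ph e' P').injective
      rw [h3, map_one]
    have h5 : qs ^ 2 = Pi.mulSingle 0 (iG * iG) := by
      rw [hqs, pow_two, ← Pi.mulSingle_mul]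
    rw [h5] at h4
    have h6 := eq_one_of_pureHom_mulSingle (0 : Fin 2) (0 : Fin 3) _ h4
    have h7 := congrArg (fun g : Matrix.GeneralLinearGroup (Fin 2) F =>
      (g : Matrix (Fin 2) (Fin 2) F)) h6
    simp only [Units.val_mul, Units.val_one] at h7
    have h8 : (iQ : Matrix (Fin 2) (Fin 2) F) * iQ = 1 := h7
    rw [iQ_mul_self] at h8
    have h9 := congrFun (congrFun h8 0) 0
    rw [Matrix.neg_apply, Matrix.one_apply_eq] at h9
    apply two_ne_zero' hq
    linear_combination -h9
  have hle : Monoid.exponent ↥(R6 hq e' P') ≤ 4 := Nat.le_of_dvd (by norm_num) hdvd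
  have hg : Nat.gcd 2 2 = 2 := rfl
  rw [hg]
  interval_cases h : Monoid.exponent ↥(R6 hq e' P')
  · simp at hdvd
  · exact absurd (one_dvd 2) hnot
  · exact absurd (dvd_refl 2) hnot
  · norm_num at hdvd
  · rfl

include hq in
/-- the data of the sixth class for a tensor decomposition into three planes over the field with
three elements -/
theorem class6_data [Nonempty (Fin m ⊕ Fin m)]
    (hfs : IsTensorPowerFormStructure id (sympForm m F)
      (g0 : (Fin 2 → F) → (Fin 2 → F) → F) e' P') :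
    ∃ R : Subgroup GLV, IsSymplecticTypeGroup 2 R ∧ ActsAbsolutelyIrreducibly (matrixSet R) ∧
      R ≤ similarityGroup (sympForm m F) ∧ Nat.card R = 128 ∧
      Nat.card (Subgroup.center R) = 2 ∧ IsOfMinusType 3 R ∧
      tensorWreathSubgroup 2 3 e' P' ≤ subgroupNormalizer R := by
  refine ⟨R6 hq e' P', ⟨Nat.prime_two, ?_, fun A hchar hcomm =>
    R6_char_cyclic hq e' P' A hchar hcomm, R6_exponent hq e' P'⟩,
    Asch.absIrred_of_span _ (R6_span hq e' P'), ?_, R6_card hq e' P' hfs,
    R6_card_center hq e' P' hfs, R6_minus hq e' P' hfs, wreath_le_normalizer hq e' P'⟩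
  · exact IsPGroup.of_card (n := 7) (by rw [R6_card hq e' P' hfs]; norm_num)
  · intro g hg
    exact ⟨1, fun u v => by rw [Units.val_one, one_mul]; exact R6_isom hq e' P' hfs hg u v⟩

end Cfsg.Agent.Lib.Helper3.SpW
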