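import Mathlib
import Cfsg.Prelude
import Cfsg.Agent.Lib.Helper3.SpW1
import Cfsg.Agent.Lib.Helper3.SpW10
import Cfsg.Agent.Lib.Helper4.MaxS14
import Cfsg.Agent.Lib.Helper4.MaxS15
import Cfsg.Agent.Lib.Helper8.SpZ1

set_option autoImplicit false
set_option maxHeartbeats 4000000
set_option maxRecDepth 100000
set_option linter.unusedVariables false
set_option linter.unusedSectionVars false
set_option linter.style.haveILetI false
set_option linter.deprecated false

/-! The maximal subgroups of the symplectic group of dimension eight. -/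

namespace Cfsg.Agent.Lib.Helper3.SpW

open Matrix Cfsg Cfsg.Geo Module
open Cfsg.Agent.Lib.Helper4.MaxS
open Cfsg.Agent.Lib.Helper8

universe u

variable {F : Type u} [Field F]

theorem row_sp8 [Fintype F] (H : Subgroup (Matrix.GeneralLinearGroup (Fin 4 ⊕ Fin 4) F))
    (hH : IsMaximalIn (spGL 4 F) H) :
    (∃ W : Submodule F (Fin 4 ⊕ Fin 4 → F), W ≠ ⊥ ∧ IsTotallySingularFor (sympForm 4 F) W ∧
      H = subspaceStabilizer W ⊓ spGL 4 F) ∨
    (∃ W : Submodule F (Fin 4 ⊕ Fin 4 → F), W ≠ ⊥ ∧ IsNondegenerateOn (sympForm 4 F) W ∧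
      Module.finrank F W < 4 ∧ H = subspaceStabilizer W ⊓ spGL 4 F) ∨
    (3 ≤ Fintype.card F ∧ ∃ D : Fin 4 → Submodule F (Fin 4 ⊕ Fin 4 → F),
      IsNondegenerateMDecomposition (sympForm 4 F) 2 D ∧
      H = decompositionStabilizer D ⊓ spGL 4 F) ∨
    (∃ D : Fin 2 → Submodule F (Fin 4 ⊕ Fin 4 → F),
      IsNondegenerateMDecomposition (sympForm 4 F) 4 D ∧
      H = decompositionStabilizer D ⊓ spGL 4 F) ∨
    (Odd (Fintype.card F) ∧ ∃ D : Fin 2 → Submodule F (Fin 4 ⊕ Fin 4 → F),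
      IsMDecomposition 4 D ∧ (∀ i, IsTotallySingularFor (sympForm 4 F) (D i)) ∧
      H = decompositionStabilizer D ⊓ spGL 4 F) ∨
    (∃ K : Subalgebra F (Matrix (Fin 4 ⊕ Fin 4) (Fin 4 ⊕ Fin 4) F), IsFieldSubalgebra 2 K ∧
      IsSelfAdjointFor (sympForm 4 F) K ∧
      (∀ k ∈ K, ∀ v : (Fin 4 ⊕ Fin 4 → F), (sympForm 4 F) (Matrix.mulVec k v) v = 0) ∧
      H = subalgebraNormalizer K ⊓ spGL 4 F) ∨
    (Odd (Fintype.card F) ∧ ∃ K : Subalgebra F (Matrix (Fin 4 ⊕ Fin 4) (Fin 4 ⊕ Fin 4) F),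
      IsFieldSubalgebra 2 K ∧ IsAdjointClosedFor (sympForm 4 F) K ∧
      ¬ IsSelfAdjointFor (sympForm 4 F) K ∧ H = subalgebraNormalizer K ⊓ spGL 4 F) ∨
    (Odd (Fintype.card F) ∧ ∃ (e : (Fin 4 ⊕ Fin 4) ≃ Fin 2 × Fin 4)
      (P : Matrix.GeneralLinearGroup (Fin 4 ⊕ Fin 4) F)
      (f₁ : (Fin 2 → F) → (Fin 2 → F) → F) (f₂ : (Fin 4 → F) → (Fin 4 → F) → F),
      IsSymplecticForm f₁ ∧ IsSymmetricForm f₂ ∧
      ¬ IsPlusTypeOn (fun v : Fin 4 → F => f₂ v v) ⊤ ∧
      IsTensorFormStructure id (sympForm 4 F) f₁ f₂ e P ∧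
      H = tensorProductSubgroup 2 4 e P ⊓ spGL 4 F) ∨
    (∃ (F₀ : Subfield F) (r : ℕ) (P : Matrix.GeneralLinearGroup (Fin 4 ⊕ Fin 4) F) (ζ : F),
      r.Prime ∧ Fintype.card F = Nat.card F₀ ^ r ∧ ζ ≠ 0 ∧
      IsFormRationalStructure (sympForm 4 F) F₀ ζ P ∧ H = subfieldSubgroup F₀ P ⊓ spGL 4 F) ∨
    (∃ (p : ℕ) (R : Subgroup (Matrix.GeneralLinearGroup (Fin 4 ⊕ Fin 4) F)), p.Prime ∧ Odd p ∧
      Fintype.card F = p ∧ IsSymplecticTypeGroup 2 R ∧
      ActsAbsolutelyIrreducibly (matrixSet R) ∧ R ≤ similarityGroup (sympForm 4 F) ∧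
      Nat.card R = 128 ∧ Nat.card (Subgroup.center R) = 2 ∧ IsOfMinusType 3 R ∧
      H = subgroupNormalizer R ⊓ spGL 4 F) ∨
    (Odd (Fintype.card F) ∧ 5 ≤ Fintype.card F ∧ ∃ (e : (Fin 4 ⊕ Fin 4) ≃ (Fin 3 → Fin 2))
      (P : Matrix.GeneralLinearGroup (Fin 4 ⊕ Fin 4) F) (f₁ : (Fin 2 → F) → (Fin 2 → F) → F),
      IsSymplecticForm f₁ ∧ IsTensorPowerFormStructure id (sympForm 4 F) f₁ e P ∧
      H = tensorWreathSubgroup 2 3 e P ⊓ spGL 4 F) ∨
    (¬ Odd (Fintype.card F) ∧ ∃ Q : (Fin 4 ⊕ Fin 4 → F) → F, IsNondegenerateQuadraticForm Q ∧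
      (∀ u v : (Fin 4 ⊕ Fin 4 → F), QuadraticMap.polar Q u v = (sympForm 4 F) u v) ∧
      H = quadSimilarityGroup Q ⊓ spGL 4 F) ∨
    InSymplecticResidualClass H := by
  classical
  have hm : 2 ≤ 4 := by norm_num
  haveI : Nonempty (Fin 4 ⊕ Fin 4) := ⟨Sum.inl 0⟩
  rcases Asch.sp_main 4 hm H hH.1.le with ⟨M, hM, hle⟩ | hres
  swap
  · iterate 12 right
    exact hres
  rcases hM with hpart | ⟨r, K, hr, hK, hsa, halt, rfl⟩ | ⟨K, hodd, hK, hac, hnsa, rfl⟩ |
    ⟨n₁, n₂, e, P, f₁, f₂, hodd, h3, hf₁, hf₂, hten, rfl⟩ |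
    ⟨k, t, e, P, f₁, hodd, hot, h3t, hex, hf₁, hten, rfl⟩
  · rcases hpart with ⟨W, h0, hW, rfl⟩ | ⟨W, h0, hW, hdim, rfl⟩ | ⟨t, k, D, hD, rfl⟩ |
      ⟨D, hodd, hD, hts, rfl⟩ | ⟨F₀, r, P, ζ, hr, hcard, hζ, hrat, rfl⟩ |
      ⟨R, p, k, h2k, hR, hirr, hsim, hp, hpodd, hcard, hcR, hcZ, hminus, rfl⟩ |
      ⟨Q, heven, hQ, hpol, rfl⟩
    · left
      exact ⟨W, h0, hW, eq_of_le_inf hH hle (not_le_singular W h0 hW)⟩
    · right; left
      exact ⟨W, h0, hW, hdim, eq_of_le_inf hH hle (not_le_nondeg W h0 hW hdim)⟩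
    · obtain ⟨htk, hk⟩ := decomp_params hD
      have ht := hD.decomp.two_le
      have hkpos := hD.decomp.pos
      obtain ⟨j, hj⟩ := hk
      have ht5 : t ≤ 4 := by
        have : t * 2 ≤ t * k := Nat.mul_le_mul_left t (by omega)
        omega
      have hcases : (t = 4 ∧ k = 2) ∨ (t = 2 ∧ k = 4) := by
        interval_cases t <;> omega
      rcases hcases with ⟨rfl, rfl⟩ | ⟨rfl, rfl⟩
      · by_cases hq2 : Fintype.card F = 2
        · obtain ⟨Q, hQ, hpol, hstab⟩ := exists_quad_of_planes hq2 hD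
          iterate 11 right
          left
          refine ⟨by rw [hq2]; decide, Q, hQ, hpol, ?_⟩
          exact eq_inf_of_le hH ((hle.trans inf_le_left).trans hstab) (not_le_quadSim hm hQ hpol)
        · right; right; left
          refine ⟨three_le_card_of_ne_two hq2, D, hD, ?_⟩
          exact eq_of_le_inf hH hle (not_le_decomp hD (fun h => hq2 h.2))
      · iterate 3 right
        left
        refine ⟨D, hD, ?_⟩
        exact eq_of_le_inf hH hle (not_le_decomp hD (fun h => by omega))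
    · iterate 4 right
      left
      exact ⟨hodd, D, hD, hts, eq_of_le_inf hH hle (not_le_pair hD hts)⟩
    · iterate 8 right
      left
      exact ⟨F₀, r, P, ζ, hr, hcard, hζ, hrat, eq_of_le_inf hH hle
        (not_le_subfield (by omega) F₀ (subfield_ne_top' F₀ hr hcard) P)⟩
    · iterate 9 right
      left
      have hk3 : k = 3 := by
        have h8 : (2 : ℕ) ^ 3 = 2 ^ k := by rw [← h2k]; norm_num
        exact (Nat.pow_right_injective (le_refl 2) h8).symm
      subst hk3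
      have hoddF : Odd (Fintype.card F) := by rw [hcard]; exact hpodd
      refine ⟨p, R, hp, hpodd, hcard, hR, hirr, hsim, by rw [hcR]; norm_num, hcZ, hminus, ?_⟩
      exact eq_of_le_inf hH hle (not_le_class6 hm hoddF hR.pGroup hirr hsim)
    · iterate 11 right
      left
      exact ⟨heven, Q, hQ, hpol, eq_of_le_inf hH hle (not_le_quadSim hm hQ hpol)⟩
  · iterate 5 right
    left
    have hdvd := field_dvd hr.pos hK
    have hr2 : r = 2 := by
      have h4 : r ∣ 2 ^ 3 := by norm_num at hdvd ⊢; exact hdvd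
      exact (Nat.prime_dvd_prime_iff_eq hr Nat.prime_two).1 (hr.dvd_of_dvd_pow h4)
    subst hr2
    exact ⟨K, hK, hsa, halt, eq_of_le_inf hH hle (not_le_fieldNormalizer hm (le_refl 2) hK)⟩
  · iterate 6 right
    left
    exact ⟨hodd, K, hK, hac, hnsa,
      eq_of_le_inf hH hle (not_le_fieldNormalizer hm (le_refl 2) hK)⟩
  · have hcard := tensor_card e
    obtain ⟨j, hj⟩ := even_of_symplecticForm hf₁
    have hn₂ : n₂ ≤ 8 := by
      have hpos : 1 ≤ n₁ := by
        rcases Nat.eq_zero_or_pos n₁ with h | h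
        · rw [h, zero_mul] at hcard
          omega
        · exact h
      have : 1 * n₂ ≤ n₁ * n₂ := Nat.mul_le_mul_right n₂ hpos
      omega
    obtain ⟨rfl, rfl⟩ : n₁ = 2 ∧ n₂ = 4 := by
      interval_cases n₂ <;> omega
    have h2F : (2 : F) ≠ 0 := two_ne_zero_of_odd_card hodd
    by_cases hplus : IsPlusTypeOn (fun v : Fin 4 → F => f₂ v v) ⊤
    · obtain ⟨e', P', hfs, hle'⟩ := retype_plus h2F e P f₁ f₂ hf₁ hf₂ hplus hten
      by_cases h5 : 5 ≤ Fintype.card F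
      · iterate 10 right
        left
        refine ⟨hodd, h5, e', P', g0, isSymplecticForm_g0, hfs, ?_⟩
        exact eq_inf_of_le hH (hle.trans hle')
          (not_le_wreath_sp (le_refl 2) (by norm_num) h2F e' P')
      · have hq := card_eq_three_of_odd_lt_five hodd h5
        obtain ⟨R, hR, hirr, hsim, hcR, hcZ, hminus, hnorm⟩ := class6_data hq e' P' hfs
        iterate 9 right
        left
        refine ⟨3, R, Nat.prime_three, by decide, hq, hR, hirr, hsim, hcR, hcZ, hminus, ?_⟩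
        exact eq_inf_of_le hH ((hle.trans hle').trans hnorm)
          (not_le_class6 hm hodd hR.pGroup hirr hsim)
    · iterate 7 right
      left
      refine ⟨hodd, e, P, f₁, f₂, hf₁, hf₂, hplus, hten, ?_⟩
      exact eq_of_le_inf hH hle (not_le_tensor (le_refl 2) (by norm_num) e P)
  · have hkt := wreath_card e
    obtain ⟨j, hj⟩ := even_of_symplecticForm hf₁
    have hk2 : 2 ≤ k := by
      rcases Nat.eq_zero_or_pos k with h | h
      · rw [h, zero_pow (by omega)] at hkt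
        omega
      · omega
    have ht3 : t = 3 := by
      by_contra hne
      have h4 : 4 ≤ t := by omega
      have h1 : 2 ^ 4 ≤ 2 ^ t := Nat.pow_le_pow_right (by norm_num) h4
      have h2 : 2 ^ t ≤ k ^ t := Nat.pow_le_pow_left hk2 t
      omega
    subst ht3
    have hk : k = 2 := by
      by_contra hne
      have h3 : 3 ≤ k := by omega
      have h1 : 3 ^ 3 ≤ k ^ 3 := Nat.pow_le_pow_left h3 3
      omega
    subst hk
    have h2F : (2 : F) ≠ 0 := two_ne_zero_of_odd_card hodd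
    have h5 : 5 ≤ Fintype.card F := by
      by_contra h5
      exact hex ⟨card_eq_three_of_odd_lt_five hodd h5, rfl⟩
    iterate 10 right
    left
    refine ⟨hodd, h5, e, P, f₁, hf₁, hten, ?_⟩
    exact eq_of_le_inf hH hle (not_le_wreath_sp (le_refl 2) (by norm_num) h2F e P)

end Cfsg.Agent.Lib.Helper3.SpW
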