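import Mathlib

set_option autoImplicit false
set_option maxHeartbeats 4000000
set_option maxRecDepth 100000
set_option linter.unusedVariables false
set_option linter.unusedSectionVars false
set_option linter.style.haveILetI false
set_option linter.deprecated false

/-! If a matrix over a finite field with `q` elements has multiplicative order `r ^ (k + 1)` with
`r` a prime different from the characteristic, then `r ^ (k + 1)` divides `q ^ d - 1` for some
`1 ≤ d ≤ n`. -/

namespace Cfsg.Agent.Lib.Helper3.SpecGLA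

open Polynomial Module

variable {F : Type*} [Field F] [Fintype F]

theorem prime_pow_dvd_of_matrix {n : ℕ} (M : Matrix (Fin n) (Fin n) F) (r k : ℕ) (hr : r.Prime)
    (hrF : ((r : ℕ) : F) ≠ 0) (h1 : M ^ (r ^ (k + 1)) = 1) (h2 : M ^ (r ^ k) ≠ 1) :
    ∃ d, 1 ≤ d ∧ d ≤ n ∧ r ^ (k + 1) ∣ Fintype.card F ^ d - 1 := by
  classical
  haveI : Fact r.Prime := ⟨hr⟩
  set μ := minpoly F M with hμ
  have hint : IsIntegral F M := Matrix.isIntegral M
  have hμ0 : μ ≠ 0 := minpoly.ne_zero hint
  have hd1 : μ ∣ (X ^ (r ^ (k + 1)) - 1 : F[X]) := by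
    apply minpoly.dvd
    simp [h1]
  have hd2 : ¬ μ ∣ (X ^ (r ^ k) - 1 : F[X]) := by
    intro h
    obtain ⟨c, hc⟩ := h
    have h3 : aeval M (X ^ (r ^ k) - 1 : F[X]) = 0 := by
      rw [hc, map_mul, minpoly.aeval, zero_mul]
    apply h2
    have h4 : M ^ (r ^ k) - 1 = 0 := by simpa using h3
    exact sub_eq_zero.mp h4
  have hcyc := cyclotomic_prime_pow_mul_X_pow_sub_one F r k
  have hncop : ¬ IsCoprime μ (cyclotomic (r ^ (k + 1)) F) := by
    intro hcop
    apply hd2
    rw [← hcyc] at hd1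
    exact hcop.dvd_of_dvd_mul_left hd1
  have hex : ∃ f : F[X], Irreducible f ∧ f ∣ μ ∧ f ∣ cyclotomic (r ^ (k + 1)) F := by
    by_contra hcon
    push Not at hcon
    apply hncop
    apply isCoprime_of_irreducible_dvd
    · intro h
      exact hμ0 h.1
    · intro z hz hzμ hzc
      exact hcon z hz hzμ hzc
  obtain ⟨f, hfirr, hfμ, hfc⟩ := hex
  have hf0 : f ≠ 0 := hfirr.ne_zero
  have hdeg1 : 1 ≤ f.natDegree := hfirr.natDegree_pos
  have hdeg2 : f.natDegree ≤ n := by
    have h3 : f.natDegree ≤ μ.natDegree := natDegree_le_of_dvd hfμ hμ0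
    have h4 : μ.natDegree ≤ M.charpoly.natDegree :=
      natDegree_le_of_dvd (Matrix.minpoly_dvd_charpoly M) (Matrix.charpoly_monic M).ne_zero
    rw [Matrix.charpoly_natDegree_eq_dim, Fintype.card_fin] at h4
    omega
  refine ⟨f.natDegree, hdeg1, hdeg2, ?_⟩
  haveI : Fact (Irreducible f) := ⟨hfirr⟩
  let K := AdjoinRoot f
  let pb := AdjoinRoot.powerBasis hf0
  haveI : Module.Finite F K := pb.finite
  haveI : Finite K := Module.finite_of_finite F
  haveI : Fintype K := Fintype.ofFinite K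
  have hfr : finrank F K = f.natDegree := by
    rw [pb.finrank, AdjoinRoot.powerBasis_dim]
  have hcard : Fintype.card K = Fintype.card F ^ f.natDegree := by
    rw [Module.card_eq_pow_finrank (K := F) (V := K), hfr]
  set ζ : K := AdjoinRoot.root f with hζ
  have hroot : (cyclotomic (r ^ (k + 1)) K).IsRoot ζ := by
    rw [IsRoot.def, ← map_cyclotomic (r ^ (k + 1)) (algebraMap F K), eval_map_algebraMap,
      AdjoinRoot.aeval_eq, AdjoinRoot.mk_eq_zero]
    exact hfc
  haveI : NeZero (((r ^ (k + 1) : ℕ)) : K) := by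
    constructor
    have h3 : (((r ^ (k + 1) : ℕ)) : K) = algebraMap F K (((r ^ (k + 1) : ℕ)) : F) := by
      rw [map_natCast]
    rw [h3]
    intro h4
    have h5 : (((r ^ (k + 1) : ℕ)) : F) = 0 := by
      exact (map_eq_zero (algebraMap F K)).mp h4
    rw [Nat.cast_pow] at h5
    exact hrF (pow_eq_zero_iff (Nat.succ_ne_zero k) |>.mp h5)
  have hprim : IsPrimitiveRoot ζ (r ^ (k + 1)) := isRoot_cyclotomic_iff.mp hroot
  have hζ0 : ζ ≠ 0 := hprim.ne_zero (pow_pos hr.pos _).ne'
  have hpow : ζ ^ (Fintype.card K - 1) = 1 := FiniteField.pow_card_sub_one_eq_one ζ hζ0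
  have := hprim.dvd_of_pow_eq_one _ hpow
  rwa [hcard] at this

end Cfsg.Agent.Lib.Helper3.SpecGLA
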