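import Mathlib

set_option autoImplicit false
set_option maxHeartbeats 4000000
set_option maxRecDepth 100000
set_option linter.unusedVariables false
set_option linter.unusedSectionVars false
set_option linter.style.haveILetI false
set_option linter.deprecated false

/-! Over the field with two elements there is an `n × n` matrix of multiplicative order `2 ^ d - 1`
for every `1 ≤ d ≤ n` (a Singer cycle on a `d`-dimensional subspace). -/

namespace Cfsg.Agent.Lib.Helper3.SpecGLB

open Polynomial Module

variable {F : Type*} [Field F] [Fintype F]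

theorem exists_matrix_order (hq : Fintype.card F = 2) {n d : ℕ} (hd1 : 1 ≤ d) (hdn : d ≤ n) :
    ∃ M : Matrix (Fin n) (Fin n) F, orderOf M = 2 ^ d - 1 := by
  classical
  haveI : Fact (Nat.Prime 2) := ⟨Nat.prime_two⟩
  have e : F ≃+* ZMod 2 := FiniteField.ringEquivOfCardEq (by rw [hq, ZMod.card])
  let K := GaloisField 2 d
  haveI : Fintype K := Fintype.ofFinite K
  have hKcard : Fintype.card K = 2 ^ d := by
    rw [← Nat.card_eq_fintype_card]
    exact GaloisField.card 2 d (by omega)
  letI : Algebra F K := ((algebraMap (ZMod 2) K).comp (e : F →+* ZMod 2)).toAlgebra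
  haveI : Module.Finite F K := Module.Finite.of_finite
  have hfrK : finrank F K = d := by
    have h1 := Module.card_eq_pow_finrank (K := F) (V := K)
    rw [hKcard, hq] at h1
    exact (Nat.pow_right_injective (le_refl 2) h1).symm
  let R := K × (Fin (n - d) → F)
  have hfrR : finrank F R = n := by
    rw [Module.finrank_prod, hfrK, Module.finrank_fin_fun]
    omega
  let b : Basis (Fin n) F R := finBasisOfFinrankEq F R hfrR
  let φ := Algebra.leftMulMatrix b
  have hinj : Function.Injective φ := Algebra.leftMulMatrix_injective b
  obtain ⟨g, hg⟩ := IsCyclic.exists_generator (α := Kˣ)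
  have hog : orderOf g = 2 ^ d - 1 := by
    rw [orderOf_eq_card_of_forall_mem_zpowers hg, Nat.card_units, Nat.card_eq_fintype_card, hKcard]
  let x : R := ((g : K), 1)
  have hox : orderOf x = 2 ^ d - 1 := by
    rw [Prod.orderOf]
    show Nat.lcm (orderOf (g : K)) (orderOf (1 : Fin (n - d) → F)) = _
    rw [orderOf_units, hog, orderOf_one, Nat.lcm_one_right]
  refine ⟨φ x, ?_⟩
  rw [← hox]
  exact orderOf_injective (MonoidHomClass.toMonoidHom φ) hinj x

end Cfsg.Agent.Lib.Helper3.SpecGLB
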