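import Mathlib

set_option autoImplicit false
set_option maxHeartbeats 4000000
set_option maxRecDepth 100000
set_option linter.unusedVariables false
set_option linter.unusedSectionVars false
set_option linter.style.haveILetI false
set_option linter.deprecated false

/-! Arithmetic packing lemma: least common multiples of many element orders of `GL_n(2)` are
least common multiples of `(n + 3) / 2` element orders. -/

namespace Cfsg.Agent.Lib.Helper3.SpecGLC

theorem prime_pow_dvd_lcm_two {p e x y : ℕ} (hp : p.Prime) (hx : x ≠ 0) (hy : y ≠ 0)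
    (h : p ^ e ∣ Nat.lcm x y) : p ^ e ∣ x ∨ p ^ e ∣ y := by
  rw [hp.pow_dvd_iff_le_factorization (Nat.lcm_ne_zero hx hy), Nat.factorization_lcm hx hy] at h
  rw [hp.pow_dvd_iff_le_factorization hx, hp.pow_dvd_iff_le_factorization hy]
  simp only [Finsupp.sup_apply] at h
  exact le_max_iff.mp h

theorem prime_pow_dvd_finset_lcm {ι : Type*} [DecidableEq ι] {p e : ℕ} (hp : p.Prime) (he : 1 ≤ e)
    (s : Finset ι) (a : ι → ℕ) (ha : ∀ i ∈ s, a i ≠ 0) (h : p ^ e ∣ s.lcm a) :
    ∃ i ∈ s, p ^ e ∣ a i := by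
  induction s using Finset.induction_on with
  | empty =>
    exfalso
    rw [Finset.lcm_empty] at h
    have h1 : p ^ e = 1 := Nat.dvd_one.mp h
    have h2 : 1 < p ^ e := Nat.one_lt_pow (by omega) hp.one_lt
    omega
  | insert i s hi ih =>
    rw [Finset.lcm_insert] at h
    have hs0 : s.lcm a ≠ 0 := by
      intro h0
      rw [Finset.lcm_eq_zero_iff] at h0
      obtain ⟨j, hj, hj0⟩ := h0
      exact ha j (Finset.mem_insert_of_mem hj) hj0
    rcases prime_pow_dvd_lcm_two hp (ha i (Finset.mem_insert_self i s)) hs0 h with h1 | h1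
    · exact ⟨i, Finset.mem_insert_self i s, h1⟩
    · obtain ⟨j, hj, hj'⟩ := ih (fun j hj => ha j (Finset.mem_insert_of_mem hj)) h1
      exact ⟨j, Finset.mem_insert_of_mem hj, hj'⟩

/-- every `1 ≤ d ≤ n` has a multiple in the upper half `(n / 2, n]` -/
theorem exists_upper_multiple (n : ℕ) : ∀ (m d : ℕ), n - d ≤ m → 1 ≤ d → d ≤ n →
    ∃ d', n / 2 < d' ∧ d' ≤ n ∧ d ∣ d' := by
  intro m
  induction m with
  | zero =>
    intro d hm hd1 hdn
    refine ⟨d, ?_, hdn, dvd_rfl⟩
    have : d = n := by omega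
    subst this
    omega
  | succ m ih =>
    intro d hm hd1 hdn
    by_cases h : n / 2 < d
    · exact ⟨d, h, hdn, dvd_rfl⟩
    · have h2 : 2 * d ≤ n := by omega
      obtain ⟨d', h1, h3, h4⟩ := ih (2 * d) (by omega) (by omega) h2
      exact ⟨d', h1, h3, dvd_trans (Dvd.intro_left 2 rfl) h4⟩

theorem pow_sub_one_dvd {d d' : ℕ} (h : d ∣ d') : 2 ^ d - 1 ∣ 2 ^ d' - 1 := by
  obtain ⟨c, rfl⟩ := h
  have := Nat.sub_dvd_pow_sub_pow (2 ^ d) 1 c
  rwa [one_pow, ← pow_mul] at this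

theorem packing (n : ℕ) (hn : 1 ≤ n) (ω : Set ℕ)
    (hdiv : ∀ m ∈ ω, ∀ d, d ∣ m → d ∈ ω)
    (hpos : ∀ m ∈ ω, m ≠ 0)
    (hA : ∀ r k, r.Prime → r ≠ 2 → r ^ (k + 1) ∈ ω → ∃ d, 1 ≤ d ∧ d ≤ n ∧ r ^ (k + 1) ∣ 2 ^ d - 1)
    (hB : ∀ d, 1 ≤ d → d ≤ n → 2 ^ d - 1 ∈ ω)
    {k : ℕ} (a : Fin k → ℕ) (ha : ∀ i, a i ∈ ω) :
    ∃ b : Fin ((n + 3) / 2) → ℕ, (∀ j, b j ∈ ω) ∧ Finset.univ.lcm b = Finset.univ.lcm a := by
  classical
  set N := Finset.univ.lcm a with hN
  have hN0 : N ≠ 0 := by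
    intro h0
    rw [hN, Finset.lcm_eq_zero_iff] at h0
    obtain ⟨j, -, hj0⟩ := h0
    exact hpos _ (ha j) hj0
  set t := N.factorization 2 with ht
  have h1ω : 1 ∈ ω := by
    have := hB 1 le_rfl hn
    simpa using this
  have h2t : 2 ^ t ∈ ω := by
    by_cases ht0 : t = 0
    · rw [ht0, pow_zero]; exact h1ω
    · have h1 : 2 ^ t ∣ N := Nat.ordProj_dvd N 2
      obtain ⟨i, -, hi⟩ := prime_pow_dvd_finset_lcm Nat.prime_two (by omega) Finset.univ a
        (fun i _ => hpos _ (ha i)) h1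
      exact hdiv _ (ha i) _ hi
  refine ⟨fun j => if j.val = 0 then 2 ^ t else Nat.gcd (2 ^ (n / 2 + j.val) - 1) N, ?_, ?_⟩
  · intro j
    by_cases hj : j.val = 0
    · simp only [hj, if_true]; exact h2t
    · simp only [hj, if_false]
      have hjlt := j.isLt
      have hd : n / 2 + j.val ≤ n := by omega
      exact hdiv _ (hB (n / 2 + j.val) (by omega) hd) _ (Nat.gcd_dvd_left _ _)
  · apply Nat.dvd_antisymm
    · apply Finset.lcm_dvd
      intro j _
      by_cases hj : j.val = 0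
      · simp only [hj, if_true]; exact Nat.ordProj_dvd N 2
      · simp only [hj, if_false]; exact Nat.gcd_dvd_right _ _
    · rw [Nat.dvd_iff_prime_pow_dvd_dvd]
      intro p e hp hpe
      rcases Nat.eq_zero_or_pos e with he | he
      · rw [he, pow_zero]; exact one_dvd _
      by_cases hp2 : p = 2
      · subst hp2
        have h1 : e ≤ t := (Nat.prime_two.pow_dvd_iff_le_factorization hN0).mp hpe
        have h0 : 0 < (n + 3) / 2 := by omega
        have h2 : (2 : ℕ) ^ t ∣ Finset.univ.lcm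
            (fun j : Fin ((n + 3) / 2) => if j.val = 0 then 2 ^ t
              else Nat.gcd (2 ^ (n / 2 + j.val) - 1) N) := by
          have := Finset.dvd_lcm (f := fun j : Fin ((n + 3) / 2) => if j.val = 0 then 2 ^ t
              else Nat.gcd (2 ^ (n / 2 + j.val) - 1) N) (Finset.mem_univ (⟨0, h0⟩ : Fin ((n + 3) / 2)))
          simpa using this
        exact dvd_trans (pow_dvd_pow 2 h1) h2
      · obtain ⟨i, -, hi⟩ := prime_pow_dvd_finset_lcm hp he Finset.univ a
          (fun i _ => hpos _ (ha i)) hpe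
        have hω : p ^ e ∈ ω := hdiv _ (ha i) _ hi
        obtain ⟨e', rfl⟩ : ∃ e', e = e' + 1 := ⟨e - 1, by omega⟩
        obtain ⟨d, hd1, hdn, hdvd⟩ := hA p e' hp hp2 hω
        obtain ⟨d', hd'1, hd'n, hdd'⟩ := exists_upper_multiple n (n - d) d le_rfl hd1 hdn
        have h3 : p ^ (e' + 1) ∣ 2 ^ d' - 1 := dvd_trans hdvd (pow_sub_one_dvd hdd')
        have hjlt : d' - n / 2 < (n + 3) / 2 := by omega
        have h4 := Finset.dvd_lcm (f := fun j : Fin ((n + 3) / 2) => if j.val = 0 then 2 ^ t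
              else Nat.gcd (2 ^ (n / 2 + j.val) - 1) N)
              (Finset.mem_univ (⟨d' - n / 2, hjlt⟩ : Fin ((n + 3) / 2)))
        have h5 : ¬ (d' - n / 2 = 0) := by omega
        have h6 : n / 2 + (d' - n / 2) = d' := by omega
        simp only [h5, if_false, h6] at h4
        exact dvd_trans (Nat.dvd_gcd h3 hpe) h4

end Cfsg.Agent.Lib.Helper3.SpecGLC
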