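import Mathlib
import Cfsg.Agent.Lib.Helper3.SpecGLA
import Cfsg.Agent.Lib.Helper3.SpecGLB
import Cfsg.Agent.Lib.Helper3.SpecGLC

set_option autoImplicit false
set_option maxHeartbeats 4000000
set_option maxRecDepth 100000
set_option linter.unusedVariables false
set_option linter.unusedSectionVars false
set_option linter.style.haveILetI false
set_option linter.deprecated false

/-! The set of element orders of a direct power of `PSL_n(2)` stabilises at `(n + 3) / 2` factors. -/

namespace Cfsg.Agent.Lib.Helper3.SpecGLD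

open Cfsg.Agent.Lib.Helper3.SpecGLA Cfsg.Agent.Lib.Helper3.SpecGLB Cfsg.Agent.Lib.Helper3.SpecGLC

variable {F : Type*} [Field F] [Fintype F]

theorem f2_eq_one (hq : Fintype.card F = 2) (a : F) (ha : a ≠ 0) : a = 1 := by
  have h1 := FiniteField.pow_card_sub_one_eq_one a ha
  rw [hq] at h1
  simpa using h1

theorem f2_two (hq : Fintype.card F = 2) : (2 : F) = 0 := by
  have h := FiniteField.cast_card_eq_zero F
  rw [hq] at h
  exact_mod_cast h

theorem center_eq_bot (hq : Fintype.card F = 2) (n : ℕ) :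
    Subgroup.center (Matrix.SpecialLinearGroup (Fin n) F) = ⊥ := by
  rw [eq_bot_iff]
  intro A hA
  rw [Matrix.SpecialLinearGroup.mem_center_iff] at hA
  obtain ⟨r, hr, hA⟩ := hA
  rw [Subgroup.mem_bot]
  rcases Nat.eq_zero_or_pos n with hn | hn
  · subst hn
    exact Subsingleton.elim _ _
  have hr0 : r ≠ 0 := by
    rintro rfl
    rw [Fintype.card_fin, zero_pow (by omega)] at hr
    exact zero_ne_one hr
  have hr1 := f2_eq_one hq r hr0
  apply Subtype.ext
  rw [← hA, hr1]
  simp

/-- the coercion to matrices as a monoid homomorphism -/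
def valHom (n : ℕ) : Matrix.SpecialLinearGroup (Fin n) F →* Matrix (Fin n) (Fin n) F where
  toFun := Subtype.val
  map_one' := rfl
  map_mul' := fun _ _ => rfl

theorem valHom_injective (n : ℕ) : Function.Injective (valHom (F := F) n) := Subtype.val_injective

theorem orderOf_mk (hq : Fintype.card F = 2) (n : ℕ) (A : Matrix.SpecialLinearGroup (Fin n) F) :
    orderOf (QuotientGroup.mk A : Matrix.ProjectiveSpecialLinearGroup (Fin n) F) =
      orderOf (valHom n A) := by
  have h1 : orderOf (valHom n A) = orderOf A :=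
    orderOf_injective (valHom n) (valHom_injective n) A
  have hinj : Function.Injective
      (QuotientGroup.mk' (Subgroup.center (Matrix.SpecialLinearGroup (Fin n) F))) := by
    rw [← MonoidHom.ker_eq_bot_iff, QuotientGroup.ker_mk', center_eq_bot hq]
  have h2 : orderOf (QuotientGroup.mk' (Subgroup.center (Matrix.SpecialLinearGroup (Fin n) F)) A) =
      orderOf A := orderOf_injective _ hinj A
  rw [h1]
  exact h2

/-- odd prime power orders are bounded by Singer orders -/
theorem odd_prime_pow_order (hq : Fintype.card F = 2) (n : ℕ)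
    (x : Matrix.ProjectiveSpecialLinearGroup (Fin n) F) (r k : ℕ) (hr : r.Prime) (hr2 : r ≠ 2)
    (hx : orderOf x = r ^ (k + 1)) : ∃ d, 1 ≤ d ∧ d ≤ n ∧ r ^ (k + 1) ∣ 2 ^ d - 1 := by
  obtain ⟨A, rfl⟩ := QuotientGroup.mk_surjective x
  rw [orderOf_mk hq] at hx
  set M := valHom n A with hM
  have h1 : M ^ (r ^ (k + 1)) = 1 := by
    rw [← hx]; exact pow_orderOf_eq_one M
  have h2 : M ^ (r ^ k) ≠ 1 := by
    intro h
    have h3 := orderOf_dvd_of_pow_eq_one h
    rw [hx, Nat.pow_dvd_pow_iff_le_right hr.one_lt] at h3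
    omega
  have hrF : ((r : ℕ) : F) ≠ 0 := by
    rcases hr.eq_two_or_odd' with h | h
    · exact absurd h hr2
    · obtain ⟨j, rfl⟩ := h
      push_cast
      rw [f2_two hq, zero_mul, zero_add]
      exact one_ne_zero
  have := prime_pow_dvd_of_matrix M r k hr hrF h1 h2
  rwa [hq] at this

theorem exists_order_singer (hq : Fintype.card F = 2) (n d : ℕ) (hd1 : 1 ≤ d) (hdn : d ≤ n) :
    ∃ x : Matrix.ProjectiveSpecialLinearGroup (Fin n) F, orderOf x = 2 ^ d - 1 := by
  obtain ⟨M, hM⟩ := exists_matrix_order hq hd1 hdn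
  have hpos : 0 < 2 ^ d - 1 := by
    have : 2 ^ 1 ≤ 2 ^ d := Nat.pow_le_pow_right (by omega) hd1
    omega
  have h1 : M ^ (2 ^ d - 1) = 1 := by rw [← hM]; exact pow_orderOf_eq_one M
  have hdet : M.det = 1 := by
    apply f2_eq_one hq
    intro h0
    have h2 := congrArg Matrix.det h1
    rw [Matrix.det_pow, h0, zero_pow hpos.ne', Matrix.det_one] at h2
    exact zero_ne_one h2
  let A : Matrix.SpecialLinearGroup (Fin n) F := ⟨M, hdet⟩
  refine ⟨QuotientGroup.mk A, ?_⟩
  have h3 := orderOf_mk hq n A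
  rw [h3]
  exact hM

theorem spectrum_stable (hq : Fintype.card F = 2) (n k : ℕ) (hn : 2 ≤ n) (hk : (n + 3) / 2 ≤ k) :
    Set.range (orderOf : (Fin k → Matrix.ProjectiveSpecialLinearGroup (Fin n) F) → ℕ) =
      Set.range
        (orderOf : (Fin ((n + 3) / 2) → Matrix.ProjectiveSpecialLinearGroup (Fin n) F) → ℕ) := by
  classical
  haveI : Finite (Matrix.ProjectiveSpecialLinearGroup (Fin n) F) := inferInstance
  set ω : Set ℕ := Set.range (orderOf : Matrix.ProjectiveSpecialLinearGroup (Fin n) F → ℕ) with hω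
  have hdiv : ∀ m ∈ ω, ∀ d, d ∣ m → d ∈ ω := by
    rintro m ⟨x, rfl⟩ d hd
    exact ⟨x ^ (orderOf x / d), orderOf_pow_orderOf_div (orderOf_pos x).ne' hd⟩
  have hpos : ∀ m ∈ ω, m ≠ 0 := by
    rintro m ⟨x, rfl⟩
    exact (orderOf_pos x).ne'
  have hA : ∀ r k, r.Prime → r ≠ 2 → r ^ (k + 1) ∈ ω →
      ∃ d, 1 ≤ d ∧ d ≤ n ∧ r ^ (k + 1) ∣ 2 ^ d - 1 := by
    rintro r k hr hr2 ⟨x, hx⟩
    exact odd_prime_pow_order hq n x r k hr hr2 hx
  have hB : ∀ d, 1 ≤ d → d ≤ n → 2 ^ d - 1 ∈ ω := by
    intro d hd1 hdn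
    obtain ⟨x, hx⟩ := exists_order_singer hq n d hd1 hdn
    exact ⟨x, hx⟩
  apply Set.Subset.antisymm
  · rintro m ⟨f, rfl⟩
    obtain ⟨b, hb, hlcm⟩ := packing n (by omega) ω hdiv hpos hA hB (fun i => orderOf (f i))
      (fun i => ⟨f i, rfl⟩)
    choose g hg using hb
    refine ⟨g, ?_⟩
    rw [Pi.orderOf, Pi.orderOf, ← hlcm]
    apply Finset.lcm_congr rfl
    intro j _
    exact hg j
  · rintro m ⟨g, rfl⟩
    have h0 : 0 < (n + 3) / 2 := by omega
    refine ⟨fun i => if h : i.val < (n + 3) / 2 then g ⟨i.val, h⟩ else 1, ?_⟩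
    rw [Pi.orderOf, Pi.orderOf]
    apply Nat.dvd_antisymm
    · apply Finset.lcm_dvd
      intro i _
      by_cases h : i.val < (n + 3) / 2
      · simp only [h, dif_pos]
        exact Finset.dvd_lcm (Finset.mem_univ _)
      · simp only [h, dif_neg, not_false_eq_true, orderOf_one]
        exact one_dvd _
    · apply Finset.lcm_dvd
      intro j _
      have hj : j.val < k := lt_of_lt_of_le j.isLt hk
      have := Finset.dvd_lcm (f := fun i : Fin k => orderOf
        (if h : i.val < (n + 3) / 2 then g ⟨i.val, h⟩ else 1)) (Finset.mem_univ (⟨j.val, hj⟩ : Fin k))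
      simpa using this

end Cfsg.Agent.Lib.Helper3.SpecGLD
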