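import Mathlib
import Cfsg.Agent.Lib.Helper6.StSLDefs
import Cfsg.Agent.Lib.Helper4.SLnGen

set_option autoImplicit false

/-!
Farm STSL (statement S2401), unit E, generic part: the induction on the index subsets (from the rank
one case and the induction step, taken as hypotheses here), injectivity from generation, and the
structure `StA` on the presented group of the statement, with `sub univ = ⊤` and the surjectivity of
`π`.
-/

namespace Cfsg.Agent.Lib.Helper3.StSL

open Matrix Cfsg.Agent.Lib.Helper6.StSL

section generic

variable {I : Type*} [DecidableEq I] [Fintype I] {K : Type*} [Field K] {Γ : Type*} [Group Γ]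
  (S : StA I K Γ)

/-- the induction on the index subsets, from the rank one case and the induction step -/
theorem inj_sub_of
    (hpair : ∀ {i j : I}, i ≠ j → ∀ g : Γ, g ∈ S.sub {i, j} → S.π g = 1 → g = 1)
    (hstep : ∀ (J : Finset I) (a : I), a ∈ J → 3 ≤ J.card →
      (∀ g ∈ S.sub (J.erase a), S.π g = 1 → g = 1) → ∀ g ∈ S.sub J, S.π g = 1 → g = 1) :
    ∀ (m : ℕ) (J : Finset I), J.card = m → 2 ≤ J.card → ∀ g ∈ S.sub J, S.π g = 1 → g = 1 := by
  intro m
  induction m with
  | zero =>
    intro J hJ h2
    omega
  | succ m ih =>
    intro J hJ h2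
    by_cases h3 : 3 ≤ J.card
    · obtain ⟨a, ha⟩ : J.Nonempty := Finset.card_pos.1 (by omega)
      have hc : (J.erase a).card = m := by
        rw [Finset.card_erase_of_mem ha, hJ]
        rfl
      exact hstep J a ha h3 (ih (J.erase a) hc (by omega))
    · have h2' : J.card = 2 := by omega
      obtain ⟨i, j, hij, rfl⟩ := Finset.card_eq_two.1 h2'
      exact fun g hg h1 => hpair hij g hg h1

/-- injectivity of `π` from the injectivity on the subgroups `sub J` when the `x i j t` generate -/
theorem injective_of_top_of (h3 : 3 ≤ Fintype.card I)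
    (hsub : ∀ (J : Finset I), 2 ≤ J.card → ∀ g ∈ S.sub J, S.π g = 1 → g = 1)
    (htop : S.sub Finset.univ = ⊤) : Function.Injective S.π := by
  rw [injective_iff_map_eq_one]
  intro g hg
  refine hsub Finset.univ ?_ g ?_ hg
  · rw [Finset.card_univ]
    omega
  · rw [htop]
    exact Subgroup.mem_top g

end generic

end Cfsg.Agent.Lib.Helper3.StSL
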