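import Mathlib
import Cfsg.Agent.Lib.Helper3.StSLE

set_option autoImplicit false

/-!
Farm STSL (statement S2401), unit E, the presented group of the statement: the structure `StA`, the
generation by the `x i j t`, the surjectivity of `π`, and the final isomorphism from the injectivity of
`π`.
-/

namespace Cfsg.Agent.Lib.Helper3.StSL

open Matrix Cfsg.Agent.Lib.Helper6.StSL

variable {K : Type*} [Field K] (n : ℕ)

/-- the index type of the generators -/
abbrev Ix (n : ℕ) : Type := {ij : Fin n × Fin n // ij.1 ≠ ij.2}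

/-- the relators of the statement -/
def rels (K : Type*) [Field K] (n : ℕ) : Set (FreeGroup (Ix n × K)) :=
  {g : FreeGroup ({ij : Fin n × Fin n // ij.1 ≠ ij.2} × K) | ∃ (a : {ij : Fin n × Fin n // ij.1 ≠ ij.2}) (t u : K),
            g = FreeGroup.of (a, t) * FreeGroup.of (a, u) * (FreeGroup.of (a, t + u))⁻¹} ∪
          {g | ∃ (a b : {ij : Fin n × Fin n // ij.1 ≠ ij.2}) (t u : K), a.1.1 ≠ b.1.2 ∧ a.1.2 ≠ b.1.1 ∧
            g = FreeGroup.of (a, t) * FreeGroup.of (b, u) * (FreeGroup.of (a, t))⁻¹ * (FreeGroup.of (b, u))⁻¹} ∪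
          {g | ∃ (a b : {ij : Fin n × Fin n // ij.1 ≠ ij.2}) (h : a.1.1 ≠ b.1.2) (t u : K), a.1.2 = b.1.1 ∧
            g = FreeGroup.of (a, t) * FreeGroup.of (b, u) * (FreeGroup.of (a, t))⁻¹ * (FreeGroup.of (b, u))⁻¹ *
              (FreeGroup.of (⟨(a.1.1, b.1.2), h⟩, t * u))⁻¹}

/-- the images of the generators in `SL_n` -/
def gen (p : Ix n × K) : Matrix.SpecialLinearGroup (Fin n) K :=
  Matrix.SpecialLinearGroup.transvection p.1.2 p.2

theorem gen_rels : ∀ r ∈ rels K n, FreeGroup.lift (gen (K := K) n) r = 1 := by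
  intro r hr
  rcases hr with (⟨a, t, u, rfl⟩ | ⟨a, b, t, u, h1, h2, rfl⟩) | ⟨a, b, h, t, u, h2, rfl⟩
  · simp only [map_mul, map_inv, FreeGroup.lift_apply_of, gen]
    rw [mul_inv_eq_one]
    apply Subtype.ext
    simp only [Matrix.SpecialLinearGroup.coe_mul, Matrix.SpecialLinearGroup.transvection_coe]
    exact Matrix.transvection_mul_transvection_same a.1.1 a.1.2 a.2 t u
  · simp only [map_mul, map_inv, FreeGroup.lift_apply_of, gen]
    obtain ⟨⟨i, j⟩, hij⟩ := a
    obtain ⟨⟨k, l⟩, hkl⟩ := b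
    simp only at h1 h2 hij hkl ⊢
    rw [mul_inv_eq_one, mul_inv_eq_iff_eq_mul]
    apply Subtype.ext
    simp only [Matrix.SpecialLinearGroup.coe_mul, Matrix.SpecialLinearGroup.transvection_coe,
      Matrix.transvection, mul_add, add_mul, mul_one, one_mul,
      Matrix.single_mul_single_of_ne _ _ _ _ h2, Matrix.single_mul_single_of_ne _ _ _ _ h1.symm]
    abel
  · simp only [map_mul, map_inv, FreeGroup.lift_apply_of, gen]
    obtain ⟨⟨i, j⟩, hij⟩ := a
    obtain ⟨⟨k, l⟩, hkl⟩ := b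
    simp only at h h2 hij hkl ⊢
    subst h2
    rw [mul_inv_eq_one]
    exact Cfsg.Agent.Lib.Helper4.commutator_transvection h hij hkl t u

/-- the homomorphism to `SL_n` -/
noncomputable def piP : PresentedGroup (rels K n) →* Matrix.SpecialLinearGroup (Fin n) K :=
  PresentedGroup.toGroup (gen_rels (K := K) n)

theorem piP_of (a : Ix n) (t : K) :
    piP (K := K) n (PresentedGroup.of (a, t)) = Matrix.SpecialLinearGroup.transvection a.2 t :=
  PresentedGroup.toGroup.of _

/-- the generators `x i j t` of the presented group -/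
noncomputable def xP (i j : Fin n) (t : K) : PresentedGroup (rels K n) :=
  if h : i ≠ j then PresentedGroup.of (⟨(i, j), h⟩, t) else 1

theorem xP_of {i j : Fin n} (h : i ≠ j) (t : K) :
    xP (K := K) n i j t = PresentedGroup.of (⟨(i, j), h⟩, t) := dif_pos h

theorem rel_eq_one {r : FreeGroup (Ix n × K)} (hr : r ∈ rels K n) :
    (QuotientGroup.mk r : PresentedGroup (rels K n)) = 1 :=
  PresentedGroup.one_of_mem hr

/-- the structure `StA` on the presented group -/
noncomputable def stP : StA (Fin n) K (PresentedGroup (rels K n)) where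
  x := xP n
  x_add := by
    intro i j hij t u
    rw [xP_of n hij, xP_of n hij, xP_of n hij]
    have := rel_eq_one (K := K) n (r := FreeGroup.of ((⟨(i, j), hij⟩ : Ix n), t) *
      FreeGroup.of (⟨(i, j), hij⟩, u) * (FreeGroup.of (⟨(i, j), hij⟩, t + u))⁻¹)
      (Or.inl (Or.inl ⟨_, t, u, rfl⟩))
    rw [QuotientGroup.mk_mul, QuotientGroup.mk_mul, QuotientGroup.mk_inv, mul_inv_eq_one] at this
    exact this
  comm_ne := by
    intro i j k l hij hkl hil hjk t u
    rw [xP_of n hij, xP_of n hkl]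
    have := rel_eq_one (K := K) n (r := FreeGroup.of ((⟨(i, j), hij⟩ : Ix n), t) *
      FreeGroup.of ((⟨(k, l), hkl⟩ : Ix n), u) * (FreeGroup.of (⟨(i, j), hij⟩, t))⁻¹ *
      (FreeGroup.of (⟨(k, l), hkl⟩, u))⁻¹)
      (Or.inl (Or.inr ⟨⟨(i, j), hij⟩, ⟨(k, l), hkl⟩, t, u, hil, hjk, rfl⟩))
    rw [QuotientGroup.mk_mul, QuotientGroup.mk_mul, QuotientGroup.mk_mul, QuotientGroup.mk_inv,
      QuotientGroup.mk_inv, mul_inv_eq_one, mul_inv_eq_iff_eq_mul] at this
    exact this
  comm_eq := by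
    intro i j l hij hjl hil t u
    rw [xP_of n hij, xP_of n hjl, xP_of n hil]
    have := rel_eq_one (K := K) n (r := FreeGroup.of ((⟨(i, j), hij⟩ : Ix n), t) *
      FreeGroup.of ((⟨(j, l), hjl⟩ : Ix n), u) * (FreeGroup.of (⟨(i, j), hij⟩, t))⁻¹ *
      (FreeGroup.of (⟨(j, l), hjl⟩, u))⁻¹ * (FreeGroup.of (⟨(i, l), hil⟩, t * u))⁻¹)
      (Or.inr ⟨⟨(i, j), hij⟩, ⟨(j, l), hjl⟩, hil, t, u, rfl, rfl⟩)
    rw [QuotientGroup.mk_mul, QuotientGroup.mk_mul, QuotientGroup.mk_mul, QuotientGroup.mk_mul,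
      QuotientGroup.mk_inv, QuotientGroup.mk_inv, QuotientGroup.mk_inv, mul_inv_eq_one] at this
    exact this
  π := piP n
  π_x := by
    intro i j hij t
    rw [xP_of n hij, piP_of, Matrix.SpecialLinearGroup.transvection_coe]
    rfl

theorem stP_sub_univ : (stP (K := K) n).sub Finset.univ = ⊤ := by
  rw [eq_top_iff, ← PresentedGroup.closure_range_of, Subgroup.closure_le]
  rintro _ ⟨⟨⟨⟨i, j⟩, hij⟩, t⟩, rfl⟩
  have := (stP (K := K) n).x_mem_sub (J := Finset.univ) (Finset.mem_univ i) (Finset.mem_univ j) hij t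
  have e : (stP (K := K) n).x i j t = PresentedGroup.of ((⟨(i, j), hij⟩ : Ix n), t) := xP_of n hij t
  rw [e] at this
  exact this

theorem piP_surjective (hn : 2 ≤ n) : Function.Surjective (piP (K := K) n) := by
  have : Nontrivial (Fin n) := Fin.nontrivial_iff_two_le.2 hn
  intro A
  refine Cfsg.Agent.Lib.Helper4.transvection_induction_gen
    (fun A => ∃ g, piP (K := K) n g = A) ?_ ?_ A
  · intro i j h c
    exact ⟨PresentedGroup.of (⟨(i, j), h⟩, c), piP_of n _ c⟩
  · rintro A B ⟨a, rfl⟩ ⟨b, rfl⟩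
    exact ⟨a * b, map_mul _ _ _⟩

/-- **the isomorphism of the statement S2401, from the injectivity of `π` on the presented group** -/
theorem s2401_of (hn : 3 ≤ n) (hinj : Function.Injective ((stP (K := K) n).π)) :
    ∃ e : PresentedGroup
        ({g : FreeGroup ({ij : Fin n × Fin n // ij.1 ≠ ij.2} × K) | ∃ (a : {ij : Fin n × Fin n // ij.1 ≠ ij.2}) (t u : K),
            g = FreeGroup.of (a, t) * FreeGroup.of (a, u) * (FreeGroup.of (a, t + u))⁻¹} ∪
          {g | ∃ (a b : {ij : Fin n × Fin n // ij.1 ≠ ij.2}) (t u : K), a.1.1 ≠ b.1.2 ∧ a.1.2 ≠ b.1.1 ∧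
            g = FreeGroup.of (a, t) * FreeGroup.of (b, u) * (FreeGroup.of (a, t))⁻¹ * (FreeGroup.of (b, u))⁻¹} ∪
          {g | ∃ (a b : {ij : Fin n × Fin n // ij.1 ≠ ij.2}) (h : a.1.1 ≠ b.1.2) (t u : K), a.1.2 = b.1.1 ∧
            g = FreeGroup.of (a, t) * FreeGroup.of (b, u) * (FreeGroup.of (a, t))⁻¹ * (FreeGroup.of (b, u))⁻¹ *
              (FreeGroup.of (⟨(a.1.1, b.1.2), h⟩, t * u))⁻¹}) ≃* Matrix.SpecialLinearGroup (Fin n) K,
      ∀ (a : {ij : Fin n × Fin n // ij.1 ≠ ij.2}) (t : K), ((e (PresentedGroup.of (a, t)) : Matrix (Fin n) (Fin n) K)) = Matrix.transvection a.1.1 a.1.2 t := by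
  refine ⟨MulEquiv.ofBijective (piP (K := K) n) ⟨hinj, piP_surjective n (by omega)⟩, ?_⟩
  intro a t
  show ((piP (K := K) n (PresentedGroup.of (a, t)) : Matrix.SpecialLinearGroup (Fin n) K) :
    Matrix (Fin n) (Fin n) K) = _
  exact (congrArg Subtype.val (piP_of n a t)).trans (Matrix.SpecialLinearGroup.transvection_coe _ _)

end Cfsg.Agent.Lib.Helper3.StSL
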