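import Mathlib

set_option autoImplicit false

namespace Cfsg.Agent.Lib.Helper3

/-- If `M ≤ N` are normal subgroups of the finite group `G` with `[G : N]` coprime to `|M|`, then
`N` has a supplement `H` (i.e. `H N = G`) with `H ∩ M = 1`. -/
theorem exists_supplement_of_coprime_aux (n : ℕ) :
    ∀ (G : Type*) [Group G] [Finite G], Nat.card G = n →
    ∀ (N M : Subgroup G) [N.Normal] [M.Normal], M ≤ N → N.index.Coprime (Nat.card M) →
      ∃ H : Subgroup G, H ⊔ N = ⊤ ∧ H ⊓ M = ⊥ := by
  induction n using Nat.strong_induction_on with
  | _ n ih =>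
    intro G _ _ hG N M _ _ hMN hcop
    by_cases hex : ∃ X : Subgroup G, X ≠ ⊤ ∧ X ⊔ N = ⊤
    · -- a proper supplement exists: recurse
      obtain ⟨X, hX, hXN⟩ := hex
      have hlt : Nat.card X < n := by
        rw [← hG]
        have h1 : Nat.card X ∣ Nat.card G := Subgroup.card_subgroup_dvd_card X
        have h2 : Nat.card X ≠ Nat.card G := by
          intro h
          exact hX ((Subgroup.card_eq_iff_eq_top X).1 h)
        exact lt_of_le_of_ne (Nat.le_of_dvd Nat.card_pos h1) h2
      haveI : (N.subgroupOf X).Normal := Subgroup.normal_subgroupOf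
      haveI : (M.subgroupOf X).Normal := Subgroup.normal_subgroupOf
      have hidx : (N.subgroupOf X).index = N.index := by
        change N.relIndex X = N.index
        rw [← Subgroup.relIndex_sup_right X N, hXN, Subgroup.relIndex_top_right]
      have hcard : Nat.card (M.subgroupOf X) ∣ Nat.card M := by
        let f : ↥(M.subgroupOf X) →* ↥M :=
          { toFun := fun y => ⟨(y.1 : G), y.2⟩
            map_one' := rfl
            map_mul' := fun _ _ => rfl }
        have hf : Function.Injective f := by
          intro a b hab
          have : ((a.1 : X) : G) = ((b.1 : X) : G) := by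
            have := congrArg Subtype.val hab
            exact this
          exact Subtype.ext (Subtype.ext this)
        exact Subgroup.card_dvd_of_injective f hf
      obtain ⟨H₁, h1, h2⟩ := ih _ hlt X rfl (N.subgroupOf X) (M.subgroupOf X)
        (fun y hy => hMN hy)
        (by rw [hidx]; exact Nat.Coprime.coprime_dvd_right hcard hcop)
      refine ⟨H₁.map X.subtype, ?_, ?_⟩
      · rw [eq_top_iff, ← hXN]
        apply sup_le _ le_sup_right
        intro x hx
        have hx' : (⟨x, hx⟩ : X) ∈ H₁ ⊔ N.subgroupOf X := by rw [h1]; trivial
        have hle : H₁ ⊔ N.subgroupOf X ≤ (H₁.map X.subtype ⊔ N).subgroupOf X := by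
          apply sup_le
          · intro y hy
            rw [Subgroup.mem_subgroupOf]
            exact Subgroup.mem_sup_left (Subgroup.mem_map_of_mem _ hy)
          · intro y hy
            rw [Subgroup.mem_subgroupOf]
            exact Subgroup.mem_sup_right hy
        exact hle hx'
      · rw [eq_bot_iff]
        rintro y ⟨⟨y₁, hy₁, rfl⟩, hyM⟩
        have : y₁ ∈ H₁ ⊓ M.subgroupOf X := ⟨hy₁, hyM⟩
        rw [h2, Subgroup.mem_bot] at this
        rw [this]; exact Subgroup.one_mem _
    · -- no proper supplement: `N ≤ Φ(G)`
      push Not at hex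
      by_cases hM : M = ⊥
      · exact ⟨⊤, top_sup_eq _, by rw [hM, inf_bot_eq]⟩
      exfalso
      have hNfrat : N ≤ frattini G := by
        rw [frattini, Order.radical]
        refine le_iInf₂ ?_
        intro X hXc
        have hXc : IsCoatom X := hXc
        by_contra hNX
        have hlt : X < X ⊔ N := lt_of_le_of_ne le_sup_left (fun h => hNX (h ▸ le_sup_right))
        exact hex X hXc.1 (hXc.2 _ hlt)
      -- prime `q` dividing `|M|`
      have hMcard : Nat.card M ≠ 1 := fun h => hM (Subgroup.card_eq_one.1 h)
      obtain ⟨q, hq, hqM⟩ := Nat.exists_prime_and_dvd hMcard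
      haveI : Fact q.Prime := ⟨hq⟩
      have hqN : q ∣ Nat.card N := dvd_trans hqM (Subgroup.card_dvd_of_le hMN)
      have hqidx : ¬ q ∣ N.index := by
        intro h
        exact (Nat.Prime.one_lt hq).ne' (Nat.eq_one_of_dvd_coprimes hcop h hqM)
      -- `N` is nilpotent
      haveI hNnil : Group.IsNilpotent N := by
        haveI := frattini_nilpotent (G := G)
        exact Group.nilpotent_of_mulEquiv (Subgroup.subgroupOfEquivOfLe hNfrat)
      obtain W₀ : Sylow q N := default
      haveI hW₀n : (W₀ : Subgroup N).Normal := inferInstance
      haveI : (W₀ : Subgroup N).Characteristic := W₀.characteristic_of_normal hW₀n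
      set W := (W₀ : Subgroup N).map N.subtype with hW
      haveI hWn : W.Normal := ConjAct.normal_of_characteristic_of_normal
      have hWcard : Nat.card W = q ^ (Nat.card N).factorization q := by
        rw [hW, Subgroup.card_subtype, W₀.card_eq_multiplicity]
      have hWidx : W.index = (W₀ : Subgroup N).index * N.index := Subgroup.index_map_subtype _
      have hqW : ¬ q ∣ W.index := by
        rw [hWidx, hq.dvd_mul]
        rintro (h | h)
        · exact W₀.not_dvd_index h
        · exact hqidx h
      have hcopW : Nat.Coprime (Nat.card W) W.index := by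
        rw [hWcard]
        exact ((Nat.Prime.coprime_iff_not_dvd hq).2 hqW).pow_left _
      obtain ⟨K, hK⟩ := Subgroup.exists_right_complement'_of_coprime hcopW
      have hsup : W ⊔ K = ⊤ := hK.sup_eq_top
      have hWfrat : W ≤ frattini G := by
        refine le_trans ?_ hNfrat
        rw [hW]
        rintro _ ⟨y, -, rfl⟩
        exact y.2
      have hKtop : K = ⊤ := by
        apply frattini_nongenerating
        rw [eq_top_iff, ← hsup, sup_comm]
        exact sup_le_sup_left hWfrat K
      have hmul := hK.card_mul_card
      rw [hKtop, Subgroup.card_top] at hmul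
      have hW1 : Nat.card W = 1 := by
        have hpos : 0 < Nat.card G := Nat.card_pos
        have : Nat.card W * Nat.card G = 1 * Nat.card G := by rw [hmul, one_mul]
        exact Nat.eq_of_mul_eq_mul_right hpos this
      rw [hWcard] at hW1
      have hfac : (Nat.card N).factorization q ≠ 0 := by
        have hpos : 0 < (Nat.card N).factorization q :=
          hq.factorization_pos_of_dvd Nat.card_pos.ne' hqN
        exact hpos.ne'
      have : 1 < q ^ (Nat.card N).factorization q := Nat.one_lt_pow hfac hq.one_lt
      omega

/-- If `M ≤ N` are normal subgroups of the finite group `G` with `[G : N]` coprime to `|M|`, then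
`N` has a supplement `H` (i.e. `H N = G`) with `H ∩ M = 1`. -/
theorem exists_supplement_of_coprime {G : Type*} [Group G] [Finite G] (N M : Subgroup G)
    [N.Normal] [M.Normal] (hMN : M ≤ N) (hcop : N.index.Coprime (Nat.card M)) :
    ∃ H : Subgroup G, H ⊔ N = ⊤ ∧ H ⊓ M = ⊥ :=
  exists_supplement_of_coprime_aux _ G rfl N M hMN hcop

end Cfsg.Agent.Lib.Helper3
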