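import Mathlib

/-!
# Twenty-one Sylow 5-subgroups: pairwise intersections

If a finite group has exactly 21 Sylow 5-subgroups then the intersection of two distinct ones is
contained in every Sylow 5-subgroup.
-/

open scoped Pointwise

namespace Cfsg.Agent.Lib.Helper3.Syl21A

variable {G : Type*} [Group G] [Finite G]

theorem card_subgroupOf_eq (H K : Subgroup G) :
    Nat.card ↥(H.subgroupOf K) = Nat.card ↥(H ⊓ K) := by
  rw [← Subgroup.inf_subgroupOf_right H K]
  exact Nat.card_congr (Subgroup.subgroupOfEquivOfLe inf_le_right).toEquiv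

theorem mem_smul_iff {p : ℕ} (A : Sylow p G) (c g : G) :
    g ∈ ((c • A : Sylow p G) : Subgroup G) ↔ c⁻¹ * g * c ∈ (A : Subgroup G) := by
  rw [Sylow.smul_def, Sylow.pointwise_smul_def, Subgroup.mem_pointwise_smul_iff_inv_smul_mem,
    MulAut.smul_def, MulAut.conj_inv_apply]

theorem smul_ne_of_ne {p : ℕ} (A C : Sylow p G) (hAC : A ≠ C) (c : G)
    (hc : c ∈ (C : Subgroup G)) : c • A ≠ C := by
  intro h
  apply hAC
  have hc' : c⁻¹ • C = C :=
    Sylow.smul_eq_iff_mem_normalizer.2 (Subgroup.le_normalizer (inv_mem hc))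
  calc A = c⁻¹ • (c • A) := (inv_smul_smul c A).symm
    _ = c⁻¹ • C := by rw [h]
    _ = C := hc'

theorem mem_of_mem_normalizer {p : ℕ} [Fact p.Prime] (A C : Sylow p G) {c : G}
    (hc : c ∈ (C : Subgroup G)) (hn : c ∈ Subgroup.normalizer ((A : Subgroup G) : Set G)) :
    c ∈ (A : Subgroup G) := by
  set H : Subgroup G := (C : Subgroup G) ⊓ Subgroup.normalizer ((A : Subgroup G) : Set G) with hH
  have hHp : IsPGroup p H := C.isPGroup'.to_le inf_le_left
  have h4 : A ∈ MulAction.fixedPoints H (Sylow p G) :=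
    (Subgroup.sylow_mem_fixedPoints_iff _).2 inf_le_right
  have h5 : H ≤ A := (IsPGroup.sylow_mem_fixedPoints_iff hHp).1 h4
  exact h5 ⟨hc, hn⟩

theorem stabilizer_eq_subgroupOf {p : ℕ} [Fact p.Prime] (A C : Sylow p G) :
    MulAction.stabilizer ↥(C : Subgroup G) A = (A : Subgroup G).subgroupOf (C : Subgroup G) := by
  ext c
  rw [MulAction.mem_stabilizer_iff, Subgroup.mem_subgroupOf, Subgroup.smul_def,
    Sylow.smul_eq_iff_mem_normalizer]
  constructor
  · intro h
    exact mem_of_mem_normalizer A C c.2 h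
  · intro h
    exact Subgroup.le_normalizer h

theorem relIndex_eq_five (h21 : Nat.card (Sylow 5 G) = 21) (A C : Sylow 5 G) (hAC : A ≠ C) :
    (A : Subgroup G).relIndex (C : Subgroup G) = 5 := by
  haveI : Fact (Nat.Prime 5) := ⟨by norm_num⟩
  have h1 : (A : Subgroup G).relIndex (C : Subgroup G) =
      (MulAction.orbit ↥(C : Subgroup G) A).ncard := by
    rw [Subgroup.relIndex, ← stabilizer_eq_subgroupOf, MulAction.index_stabilizer]
  obtain ⟨n, hn⟩ := IsPGroup.card_orbit C.isPGroup' A
  rw [Nat.card_coe_set_eq] at hn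
  have hsub : MulAction.orbit ↥(C : Subgroup G) A ⊆ ({C}ᶜ : Set (Sylow 5 G)) := by
    rintro B ⟨c, rfl⟩ hB
    exact smul_ne_of_ne A C hAC (c : G) c.2 hB
  have hle : (MulAction.orbit ↥(C : Subgroup G) A).ncard ≤ 20 := by
    have h2 := Set.ncard_le_ncard hsub (Set.toFinite _)
    have h3 : ({C}ᶜ : Set (Sylow 5 G)).ncard = 20 := by
      rw [Set.ncard_compl, Set.ncard_singleton, h21]
    omega
  rw [hn] at hle
  have hn1 : n ≤ 1 := by
    by_contra hlt
    push Not at hlt
    have : 5 ^ 2 ≤ 5 ^ n := Nat.pow_le_pow_right (by norm_num) hlt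
    omega
  have hn0 : n ≠ 0 := by
    rintro rfl
    have hr : (A : Subgroup G).relIndex (C : Subgroup G) = 1 := by rw [h1, hn, pow_zero]
    have hle' : (C : Subgroup G) ≤ A := Subgroup.relIndex_eq_one.1 hr
    exact hAC (Sylow.ext (C.is_maximal' A.isPGroup' hle'))
  have : n = 1 := by omega
  rw [h1, hn, this, pow_one]

theorem card_inf_mul_five (h21 : Nat.card (Sylow 5 G) = 21) (X Y : Sylow 5 G) (hXY : X ≠ Y) :
    Nat.card ↥((X : Subgroup G) ⊓ Y) * 5 = Nat.card ↥(Y : Subgroup G) := by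
  have h := Subgroup.card_mul_index ((X : Subgroup G).subgroupOf (Y : Subgroup G))
  rw [card_subgroupOf_eq] at h
  have h5 := relIndex_eq_five h21 X Y hXY
  rw [Subgroup.relIndex] at h5
  rw [h5] at h
  exact h

theorem card_sylow_eq (X Y : Sylow 5 G) :
    Nat.card ↥(X : Subgroup G) = Nat.card ↥(Y : Subgroup G) := by
  haveI : Fact (Nat.Prime 5) := ⟨by norm_num⟩
  rw [Sylow.card_eq_multiplicity, Sylow.card_eq_multiplicity]

/-- conjugating `A` by an element of `C` does not change `C ⊓ A`. -/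
theorem inf_smul_eq (h21 : Nat.card (Sylow 5 G) = 21) (A C : Sylow 5 G) (hAC : A ≠ C)
    (c : G) (hc : c ∈ (C : Subgroup G)) :
    (C : Subgroup G) ⊓ ((c • A : Sylow 5 G) : Subgroup G) = (C : Subgroup G) ⊓ A := by
  haveI : Fact (Nat.Prime 5) := ⟨by norm_num⟩
  have h5 := relIndex_eq_five h21 A C hAC
  rw [Subgroup.relIndex] at h5
  have hnorm : ((A : Subgroup G).subgroupOf (C : Subgroup G)).Normal := by
    apply Subgroup.normal_of_index_eq_minFac_card
    rw [h5]
    obtain ⟨k, hk⟩ := (IsPGroup.iff_card).1 C.isPGroup'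
    have hk0 : k ≠ 0 := by
      rintro rfl
      have := Subgroup.index_dvd_card ((A : Subgroup G).subgroupOf (C : Subgroup G))
      rw [h5, hk] at this
      norm_num at this
    rw [hk, Nat.Prime.pow_minFac (by norm_num) hk0]
  ext g
  simp only [Subgroup.mem_inf, mem_smul_iff]
  constructor
  · rintro ⟨hg, hgA⟩
    refine ⟨hg, ?_⟩
    have h1 : (⟨c⁻¹ * g * c, mul_mem (mul_mem (inv_mem hc) hg) hc⟩ : (C : Subgroup G)) ∈
        (A : Subgroup G).subgroupOf (C : Subgroup G) := by
      rw [Subgroup.mem_subgroupOf]; exact hgA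
    have h2 := hnorm.conj_mem _ h1 ⟨c, hc⟩
    rw [Subgroup.mem_subgroupOf] at h2
    simp only [Subgroup.coe_mul, Subgroup.coe_inv] at h2
    have : c * (c⁻¹ * g * c) * c⁻¹ = g := by group
    rwa [this] at h2
  · rintro ⟨hg, hgA⟩
    refine ⟨hg, ?_⟩
    have h1 : (⟨g, hg⟩ : (C : Subgroup G)) ∈
        (A : Subgroup G).subgroupOf (C : Subgroup G) := by
      rw [Subgroup.mem_subgroupOf]; exact hgA
    have h2 := hnorm.conj_mem _ h1 ⟨c⁻¹, inv_mem hc⟩
    rw [Subgroup.mem_subgroupOf] at h2
    simp only [Subgroup.coe_mul, Subgroup.coe_inv, inv_inv] at h2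
    exact h2

theorem inf_le_sylow (h21 : Nat.card (Sylow 5 G) = 21) (P Q C : Sylow 5 G) (hPQ : P ≠ Q) :
    (P : Subgroup G) ⊓ Q ≤ C := by
  classical
  haveI : Fact (Nat.Prime 5) := ⟨by norm_num⟩
  haveI : Fintype (Sylow 5 G) := Fintype.ofFinite _
  by_contra hH
  set H : Subgroup G := (P : Subgroup G) ⊓ Q with hHdef
  -- every element of B contains H
  have horbH : ∀ A ∈ MulAction.orbit ↥(P : Subgroup G) Q, H ≤ (A : Subgroup G) := by
    rintro A ⟨g, rfl⟩
    have := inf_smul_eq h21 Q P (Ne.symm hPQ) (g : G) g.2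
    have h2 : H = (P : Subgroup G) ⊓ (((g : G) • Q : Sylow 5 G) : Subgroup G) := by
      rw [this]
    rw [h2]
    exact inf_le_right
  -- the image of f on S has at most 4 elements
  let f : Sylow 5 G → Subgroup G := fun A => (C : Subgroup G) ⊓ A
  let S : Finset (Sylow 5 G) := Finset.univ.erase C
  have hScard : S.card = 20 := by
    rw [Finset.card_erase_of_mem (Finset.mem_univ _), Finset.card_univ, ← Nat.card_eq_fintype_card,
      h21]
  have hfib : ∀ b ∈ Finset.image f S, 5 ≤ (S.filter (fun A => f A = b)).card := by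
    intro b hb
    obtain ⟨A₀, hA₀, rfl⟩ := Finset.mem_image.1 hb
    have hA₀C : A₀ ≠ C := (Finset.mem_erase.1 hA₀).1
    have hcard : (MulAction.orbit ↥(C : Subgroup G) A₀).ncard = 5 := by
      rw [← MulAction.index_stabilizer, stabilizer_eq_subgroupOf]
      exact relIndex_eq_five h21 A₀ C hA₀C
    have hsub : (MulAction.orbit ↥(C : Subgroup G) A₀).toFinset ⊆ S.filter (fun A => f A = f A₀) := by
      intro B hB
      rw [Set.mem_toFinset] at hB
      obtain ⟨c, rfl⟩ := hB
      rw [Finset.mem_filter, Finset.mem_erase]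
      refine ⟨⟨?_, Finset.mem_univ _⟩, ?_⟩
      · exact smul_ne_of_ne A₀ C hA₀C (c : G) c.2
      · exact inf_smul_eq h21 A₀ C hA₀C (c : G) c.2
    have := Finset.card_le_card hsub
    rw [← Set.ncard_eq_toFinset_card', hcard] at this
    exact this
  have himg : (Finset.image f S).card ≤ 4 := by
    have := Finset.mul_card_image_le_card S 5 hfib
    rw [hScard] at this
    omega
  -- B has 6 elements, inside S, f injective on it
  let B : Finset (Sylow 5 G) := insert P (MulAction.orbit ↥(P : Subgroup G) Q).toFinset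
  have hPnot : P ∉ (MulAction.orbit ↥(P : Subgroup G) Q).toFinset := by
    rw [Set.mem_toFinset]
    rintro ⟨g, hg⟩
    exact smul_ne_of_ne Q P (Ne.symm hPQ) (g : G) g.2 hg
  have hBcard : B.card = 6 := by
    rw [Finset.card_insert_of_notMem hPnot, ← Set.ncard_eq_toFinset_card',
      ← MulAction.index_stabilizer, stabilizer_eq_subgroupOf]
    have := relIndex_eq_five h21 Q P (Ne.symm hPQ)
    rw [Subgroup.relIndex] at this
    rw [this]
  have hBH : ∀ A ∈ B, H ≤ (A : Subgroup G) := by
    intro A hA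
    rcases Finset.mem_insert.1 hA with rfl | hA
    · exact inf_le_left
    · exact horbH A (Set.mem_toFinset.1 hA)
  have hBS : B ⊆ S := by
    intro A hA
    rw [Finset.mem_erase]
    refine ⟨?_, Finset.mem_univ _⟩
    rintro rfl
    exact hH (hBH _ hA)
  have hinj : Set.InjOn f (B : Set (Sylow 5 G)) := by
    intro A hA A' hA' hff
    by_contra hne
    apply hH
    have hAC : A ≠ C := (Finset.mem_erase.1 (hBS hA)).1
    have hA'C : A' ≠ C := (Finset.mem_erase.1 (hBS hA')).1
    have hK1 : (C : Subgroup G) ⊓ A ≤ (A' : Subgroup G) ⊓ A := by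
      refine le_inf ?_ inf_le_right
      have : f A = f A' := hff
      change (C : Subgroup G) ⊓ A = (C : Subgroup G) ⊓ A' at this
      rw [this]; exact inf_le_right
    have c1 := card_inf_mul_five h21 C A (Ne.symm hAC)
    have c2 := card_inf_mul_five h21 A' A (Ne.symm hne)
    have c3 := card_inf_mul_five h21 P Q hPQ
    have c4 := card_sylow_eq Q A
    have hKeq : (C : Subgroup G) ⊓ A = (A' : Subgroup G) ⊓ A :=
      Subgroup.eq_of_le_of_card_ge hK1 (by omega)
    have hH1 : H ≤ (A' : Subgroup G) ⊓ A := le_inf (hBH A' hA') (hBH A hA)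
    have hHeq : H = (A' : Subgroup G) ⊓ A :=
      Subgroup.eq_of_le_of_card_ge hH1 (by rw [hHdef]; omega)
    rw [hHeq, ← hKeq]
    exact inf_le_left
  have h6 : (Finset.image f B).card = 6 := by
    rw [Finset.card_image_of_injOn hinj, hBcard]
  have := Finset.card_le_card (Finset.image_subset_image (f := f) hBS)
  omega

end Cfsg.Agent.Lib.Helper3.Syl21A
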