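import Mathlib

/-!
# Twenty-one points, an element of order five with one fixed point: coordinates

An element `x` of order `5` acting on a set `Ω` of `21` points with a single fixed point `α`
gives coordinates `Fin 4 × ZMod 5 ≃ Ω ∖ {α}` in which `x` is the shift.
-/

namespace Cfsg.Agent.Lib.Helper3.Syl21B

variable {G : Type*} [Group G] {Ω : Type*} [MulAction G Ω]

/-- powers of `x` indexed by `ZMod 5`. -/
def xp (x : G) (j : ZMod 5) : G := x ^ j.val

theorem xp_zero (x : G) : xp x 0 = 1 := by simp [xp]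

theorem xp_one (x : G) : xp x 1 = x := by
  have : (1 : ZMod 5).val = 1 := by decide
  simp [xp, this]

section
variable {x : G} (hx5 : x ^ 5 = 1)
include hx5

theorem xp_natCast (k : ℕ) : xp x (k : ZMod 5) = x ^ k := by
  unfold xp
  rw [ZMod.val_natCast, ← pow_eq_pow_mod k hx5]

theorem xp_add (a b : ZMod 5) : xp x (a + b) = xp x a * xp x b := by
  unfold xp
  rw [ZMod.val_add, ← pow_eq_pow_mod _ hx5, pow_add]

theorem xp_pow (c : ZMod 5) (k : ℕ) : (xp x c) ^ k = xp x (c * k) := by
  have : c * (k : ZMod 5) = ((c.val * k : ℕ) : ZMod 5) := by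
    rw [Nat.cast_mul, ZMod.natCast_zmod_val]
  rw [this, xp_natCast hx5, xp, pow_mul]

theorem xp_pow_val (c j : ZMod 5) : (xp x c) ^ j.val = xp x (c * j) := by
  rw [xp_pow hx5, ZMod.natCast_zmod_val]

theorem xp_neg (a : ZMod 5) : xp x (-a) = (xp x a)⁻¹ := by
  rw [eq_inv_iff_mul_eq_one, ← xp_add hx5, neg_add_cancel, xp_zero]

theorem xp_comm (a b : ZMod 5) : xp x a * xp x b = xp x b * xp x a := by
  rw [← xp_add hx5, ← xp_add hx5, add_comm]

theorem exists_xp_of_mem_zpowers {g : G} (hg : g ∈ Subgroup.zpowers x) : ∃ c, g = xp x c := by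
  have hfin : IsOfFinOrder x := isOfFinOrder_iff_pow_eq_one.2 ⟨5, by norm_num, hx5⟩
  rw [← hfin.mem_powers_iff_mem_zpowers, Submonoid.mem_powers_iff] at hg
  obtain ⟨n, rfl⟩ := hg
  exact ⟨(n : ZMod 5), (xp_natCast hx5 n).symm⟩

end

theorem xp_mem_zpowers (x : G) (c : ZMod 5) : xp x c ∈ Subgroup.zpowers x :=
  Subgroup.pow_mem _ (Subgroup.mem_zpowers x) _

theorem xp_injective {x : G} (hx : orderOf x = 5) : Function.Injective (xp x) := by
  intro a b hab
  apply ZMod.val_injective 5
  apply pow_injOn_Iio_orderOf (x := x)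
  · rw [Set.mem_Iio, hx]; exact ZMod.val_lt a
  · rw [Set.mem_Iio, hx]; exact ZMod.val_lt b
  · exact hab

/-- The configuration: `x` of order five, fixing only `α`, with point stabilizer normalizing
`⟨x⟩`. -/
structure Cfg (x : G) (α : Ω) : Prop where
  hx : orderOf x = 5
  hfix : ∀ β : Ω, x • β = β ↔ β = α
  hnorm : ∀ n : G, n • α = α → n * x * n⁻¹ ∈ Subgroup.zpowers x

namespace Cfg

variable {x : G} {α : Ω} (hc : Cfg (Ω := Ω) x α)
include hc

theorem hx5 : x ^ 5 = 1 := by rw [← hc.hx]; exact pow_orderOf_eq_one x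

theorem xp_smul_alpha (j : ZMod 5) : xp x j • α = α := by
  unfold xp
  have h1 : x • α = α := (hc.hfix α).2 rfl
  induction j.val with
  | zero => simp
  | succ k ih => rw [pow_succ, mul_smul, h1, ih]

theorem xp_smul_eq_iff (j : ZMod 5) {β : Ω} (hβ : β ≠ α) : xp x j • β = β ↔ j = 0 := by
  haveI : Fact (Nat.Prime 5) := ⟨by norm_num⟩
  constructor
  · intro h
    by_contra hj
    apply hβ
    rw [← hc.hfix]
    have h1 : (xp x j) ^ (j⁻¹).val = x := by
      rw [xp_pow_val hc.hx5, mul_inv_cancel₀ hj, xp_one]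
    rw [← h1]
    have : ∀ k : ℕ, (xp x j) ^ k • β = β := by
      intro k
      induction k with
      | zero => simp
      | succ k ih => rw [pow_succ, mul_smul, h, ih]
    exact this _
  · rintro rfl
    rw [xp_zero, one_smul]

end Cfg

/-- Coordinates on the complement of `α`. -/
structure Coords (x : G) (α : Ω) (e : Fin 4 × ZMod 5 → Ω) : Prop where
  inj : Function.Injective e
  ne : ∀ y, e y ≠ α
  surj : ∀ β, β ≠ α → ∃ y, e y = β
  shift : ∀ i j, x • e (i, j) = e (i, j + 1)

theorem exists_coords [Finite Ω] {x : G} {α : Ω} (hc : Cfg (Ω := Ω) x α)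
    (h21 : Nat.card Ω = 21) : ∃ e : Fin 4 × ZMod 5 → Ω, Coords x α e := by
  classical
  have hx5 := hc.hx5
  let X : Subgroup G := Subgroup.zpowers x
  let Q := MulAction.orbitRel.Quotient X Ω
  let Q' := {ω : Q // ω ≠ Quotient.mk'' α}
  let f : Q' × ZMod 5 → Ω := fun y => xp x y.2 • y.1.1.out
  have hmk : ∀ (c : ZMod 5) (β : Ω), (Quotient.mk'' (xp x c • β) : Q) = Quotient.mk'' β := by
    intro c β
    apply Quotient.sound'
    rw [MulAction.orbitRel_apply]
    exact ⟨⟨xp x c, xp_mem_zpowers x c⟩, rfl⟩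
  have hout : ∀ ω : Q', ω.1.out ≠ α := by
    intro ω h
    apply ω.2
    exact (Quotient.out_eq' ω.1).symm.trans (congrArg _ h)
  have hfinj : Function.Injective f := by
    rintro ⟨ω, j⟩ ⟨ω', j'⟩ h
    have h1 : ω = ω' := by
      apply Subtype.ext
      have := congrArg (fun β => (Quotient.mk'' β : Q)) h
      simp only [f] at this
      rw [hmk, hmk, Quotient.out_eq', Quotient.out_eq'] at this
      exact this
    subst h1
    have h2 : xp x (j - j') • ω.1.out = ω.1.out := by
      have h' : xp x j • ω.1.out = xp x j' • ω.1.out := h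
      rw [sub_eq_add_neg, add_comm, xp_add hx5, mul_smul, h', ← mul_smul, xp_neg hx5,
        inv_mul_cancel, one_smul]
    have h3 := (hc.xp_smul_eq_iff (j - j') (hout ω)).1 h2
    rw [sub_eq_zero] at h3
    rw [h3]
  have hfne : ∀ y, f y ≠ α := by
    rintro ⟨ω, j⟩ h
    apply hout ω
    have h' : xp x j • ω.1.out = α := h
    have : ω.1.out = xp x (-j) • (xp x j • ω.1.out) := by
      rw [← mul_smul, xp_neg hx5, inv_mul_cancel, one_smul]
    exact this.trans ((congrArg (fun β => xp x (-j) • β) h').trans (hc.xp_smul_alpha _))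
  have hfsurj : ∀ β, β ≠ α → ∃ y, f y = β := by
    intro β hβ
    have hω : (Quotient.mk'' β : Q) ≠ Quotient.mk'' α := by
      intro h
      have h1 := Quotient.exact' h
      rw [MulAction.orbitRel_apply, MulAction.mem_orbit_iff] at h1
      obtain ⟨g, hg⟩ := h1
      obtain ⟨c, hcg⟩ := exists_xp_of_mem_zpowers hx5 g.2
      apply hβ
      rw [← hg, Subgroup.smul_def, hcg, hc.xp_smul_alpha]
    have h2 : (Quotient.mk'' (Quotient.mk'' β : Q).out : Q) = Quotient.mk'' β := Quotient.out_eq' _
    have h3 := Quotient.exact' h2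
    rw [MulAction.orbitRel_apply, MulAction.mem_orbit_iff] at h3
    obtain ⟨g, hg⟩ := h3
    obtain ⟨c, hcg⟩ := exists_xp_of_mem_zpowers hx5 g.2
    refine ⟨(⟨Quotient.mk'' β, hω⟩, -c), ?_⟩
    change xp x (-c) • (Quotient.mk'' β : Q).out = β
    rw [← hg, Subgroup.smul_def, hcg, ← mul_smul, xp_neg hx5, inv_mul_cancel, one_smul]
  -- cardinality
  let F : Option (Q' × ZMod 5) → Ω := fun o => o.elim α f
  have hFbij : Function.Bijective F := by
    constructor
    · intro a b hab
      cases a with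
      | none =>
        cases b with
        | none => rfl
        | some b => exact absurd hab.symm (hfne b)
      | some a =>
        cases b with
        | none => exact absurd hab (hfne a)
        | some b => exact congrArg some (hfinj hab)
    · intro β
      by_cases hβ : β = α
      · exact ⟨none, hβ.symm⟩
      · obtain ⟨y, hy⟩ := hfsurj β hβ
        exact ⟨some y, hy⟩
  have hcard : Nat.card Q' = 4 := by
    have h1 := Nat.card_eq_of_bijective F hFbij
    rw [h21, Finite.card_option, Nat.card_prod, Nat.card_zmod] at h1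
    omega
  let e₄ : Q' ≃ Fin 4 := Finite.equivFinOfCardEq hcard
  refine ⟨fun y => f (e₄.symm y.1, y.2), ?_, ?_, ?_, ?_⟩
  · intro y y' h
    have := hfinj h
    simp only [Prod.mk.injEq, EmbeddingLike.apply_eq_iff_eq] at this
    exact Prod.ext this.1 this.2
  · intro y
    exact hfne _
  · intro β hβ
    obtain ⟨⟨ω, j⟩, hy⟩ := hfsurj β hβ
    refine ⟨(e₄ ω, j), ?_⟩
    simp only [Equiv.symm_apply_apply]
    exact hy
  · intro i j
    change x • (xp x j • (e₄.symm i).1.out) = xp x (j + 1) • (e₄.symm i).1.out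
    rw [← mul_smul, add_comm, xp_add hx5, xp_one]

end Cfsg.Agent.Lib.Helper3.Syl21B
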