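import Cfsg.Agent.Lib.Helper3.Syl21B

/-!
# Twenty-one points: the structure of the point stabilizer

In the configuration of `Syl21B`, the stabilizer `N` of `α` maps to `Perm (Fin 4) × (ZMod 5)`
(action on the four nontrivial `x`-orbits, and the exponent of conjugation on `x`), with joint
kernel `⟨x⟩`; the sign of an element of `N` on `Ω` is the sign of its image in `Perm (Fin 4)`.
-/

namespace Cfsg.Agent.Lib.Helper3.Syl21C

open Cfsg.Agent.Lib.Helper3.Syl21B

variable {G : Type*} [Group G] {Ω : Type*} [MulAction G Ω]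
variable {x : G} {α : Ω} {e : Fin 4 × ZMod 5 → Ω}

theorem pow_smul_e (he : Coords x α e) (k : ℕ) (i : Fin 4) (j : ZMod 5) :
    x ^ k • e (i, j) = e (i, j + k) := by
  induction k generalizing j with
  | zero => simp
  | succ k ih =>
    rw [pow_succ, mul_smul, he.shift, ih]
    congr 2
    push_cast
    ring

theorem xp_smul_e (he : Coords x α e) (k : ZMod 5) (i : Fin 4) (j : ZMod 5) :
    xp x k • e (i, j) = e (i, j + k) := by
  unfold xp
  rw [pow_smul_e he, ZMod.natCast_zmod_val]

/-- the coordinates of `n • e y`. -/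
noncomputable def cf (e : Fin 4 × ZMod 5 → Ω) (n : G) (y : Fin 4 × ZMod 5) : Fin 4 × ZMod 5 :=
  Function.invFun e (n • e y)

open Classical in
/-- the exponent of conjugation by `n` on `x`. -/
noncomputable def mf (x n : G) : ZMod 5 :=
  if h : ∃ c, n * x * n⁻¹ = xp x c then Classical.choose h else 0

theorem cf_spec (he : Coords x α e) {n : G} (hn : n • α = α) (y : Fin 4 × ZMod 5) :
    e (cf e n y) = n • e y := by
  apply Function.invFun_eq
  apply he.surj
  intro h
  apply he.ne y
  have : e y = n⁻¹ • (n • e y) := by rw [inv_smul_smul]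
  rw [this, h]
  rw [inv_smul_eq_iff, hn]

theorem mf_spec (hc : Cfg (Ω := Ω) x α) {n : G} (hn : n • α = α) :
    n * x * n⁻¹ = xp x (mf x n) := by
  have h : ∃ c, n * x * n⁻¹ = xp x c := exists_xp_of_mem_zpowers hc.hx5 (hc.hnorm n hn)
  unfold mf
  rw [dif_pos h]
  exact Classical.choose_spec h

theorem conj_xp (hc : Cfg (Ω := Ω) x α) {n : G} (hn : n • α = α) (j : ZMod 5) :
    n * xp x j * n⁻¹ = xp x (mf x n * j) := by
  rw [← xp_pow_val hc.hx5, ← mf_spec hc hn, conj_pow]
  rfl

theorem smul_e (hc : Cfg (Ω := Ω) x α) (he : Coords x α e) {n : G} (hn : n • α = α)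
    (i : Fin 4) (j : ZMod 5) :
    n • e (i, j) = e ((cf e n (i, 0)).1, mf x n * j + (cf e n (i, 0)).2) := by
  have h1 : e (i, j) = xp x j • e (i, 0) := by rw [xp_smul_e he, zero_add]
  have h2 : n • xp x j • e (i, 0) = (n * xp x j * n⁻¹) • (n • e (i, 0)) := by
    rw [← mul_smul, ← mul_smul]; congr 1; group
  rw [h1, h2, conj_xp hc hn, ← cf_spec he hn]
  have h3 : cf e n (i, 0) = ((cf e n (i, 0)).1, (cf e n (i, 0)).2) := rfl
  rw [h3, xp_smul_e he, add_comm]

theorem mf_mul (hc : Cfg (Ω := Ω) x α) {n n' : G} (hn : n • α = α) (hn' : n' • α = α) :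
    mf x (n * n') = mf x n * mf x n' := by
  have hnn' : (n * n') • α = α := by rw [mul_smul, hn', hn]
  apply xp_injective hc.hx
  rw [← mf_spec hc hnn', ← conj_xp hc hn, ← mf_spec hc hn']
  group

theorem mf_one (hc : Cfg (Ω := Ω) x α) : mf x (1 : G) = 1 := by
  apply xp_injective hc.hx
  rw [← mf_spec hc (one_smul G α), xp_one]
  group

theorem cf_one (he : Coords x α e) (y : Fin 4 × ZMod 5) : cf e (1 : G) y = y := by
  apply he.inj
  rw [cf_spec he (one_smul G α), one_smul]

theorem cf_mul (hc : Cfg (Ω := Ω) x α) (he : Coords x α e) {n n' : G} (hn : n • α = α)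
    (hn' : n' • α = α) (i : Fin 4) :
    (cf e (n * n') (i, 0)).1 = (cf e n ((cf e n' (i, 0)).1, 0)).1 := by
  have hnn' : (n * n') • α = α := by rw [mul_smul, hn', hn]
  have h1 : e (cf e (n * n') (i, 0)) =
      e ((cf e n ((cf e n' (i, 0)).1, 0)).1,
        mf x n * (cf e n' (i, 0)).2 + (cf e n ((cf e n' (i, 0)).1, 0)).2) := by
    rw [cf_spec he hnn', mul_smul, ← cf_spec he hn']
    have h3 : cf e n' (i, 0) = ((cf e n' (i, 0)).1, (cf e n' (i, 0)).2) := rfl
    rw [h3, smul_e hc he hn]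
  rw [he.inj h1]

/-- The action on the four nontrivial orbits, as a homomorphism to `Function.End`. -/
noncomputable def rhoEnd (hc : Cfg (Ω := Ω) x α) (he : Coords x α e) :
    ↥(MulAction.stabilizer G α) →* Function.End (Fin 4) where
  toFun n := fun i => (cf e (n : G) (i, 0)).1
  map_one' := by
    funext i
    simp only [Subgroup.coe_one, cf_one he]
    rfl
  map_mul' n n' := by
    funext i
    simp only [Subgroup.coe_mul]
    rw [cf_mul hc he (MulAction.mem_stabilizer_iff.1 n.2) (MulAction.mem_stabilizer_iff.1 n'.2)]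
    rfl

/-- The action on the four nontrivial orbits. -/
noncomputable def rho (hc : Cfg (Ω := Ω) x α) (he : Coords x α e) :
    ↥(MulAction.stabilizer G α) →* Equiv.Perm (Fin 4) :=
  (rhoEnd hc he).toHomPerm

theorem rho_apply (hc : Cfg (Ω := Ω) x α) (he : Coords x α e) (n : ↥(MulAction.stabilizer G α))
    (i : Fin 4) : rho hc he n i = (cf e (n : G) (i, 0)).1 := by
  unfold rho
  rw [MonoidHom.toHomPerm_apply_apply]
  rfl

/-- The exponent of conjugation, as a homomorphism. -/
noncomputable def mu (hc : Cfg (Ω := Ω) x α) : ↥(MulAction.stabilizer G α) →* ZMod 5 where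
  toFun n := mf x (n : G)
  map_one' := by simp only [Subgroup.coe_one]; exact mf_one hc
  map_mul' n n' := by
    simp only [Subgroup.coe_mul]
    exact mf_mul hc (MulAction.mem_stabilizer_iff.1 n.2) (MulAction.mem_stabilizer_iff.1 n'.2)

theorem mu_apply (hc : Cfg (Ω := Ω) x α) (n : ↥(MulAction.stabilizer G α)) :
    mu hc n = mf x (n : G) := rfl

theorem smul_e' (hc : Cfg (Ω := Ω) x α) (he : Coords x α e) (n : ↥(MulAction.stabilizer G α))
    (i : Fin 4) (j : ZMod 5) :
    (n : G) • e (i, j) = e (rho hc he n i, mu hc n * j + (cf e (n : G) (i, 0)).2) := by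
  rw [rho_apply, mu_apply]
  exact smul_e hc he (MulAction.mem_stabilizer_iff.1 n.2) i j

theorem mu_eq_one_iff (hc : Cfg (Ω := Ω) x α) (n : ↥(MulAction.stabilizer G α)) :
    mu hc n = 1 ↔ (n : G) * x = x * n := by
  have h := mf_spec hc (MulAction.mem_stabilizer_iff.1 n.2)
  rw [mu_apply]
  constructor
  · intro h1
    rw [h1, xp_one] at h
    calc (n : G) * x = ((n : G) * x * (n : G)⁻¹) * n := by group
      _ = x * n := by rw [h]
  · intro h1
    apply xp_injective hc.hx
    rw [← h, xp_one, h1]; group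

theorem mu_ne_zero (hc : Cfg (Ω := Ω) x α) (n : ↥(MulAction.stabilizer G α)) : mu hc n ≠ 0 := by
  intro h
  have h1 : mu hc (n * n⁻¹) = 1 := by rw [mul_inv_cancel, map_one]
  rw [map_mul, h, zero_mul] at h1
  exact absurd h1 (by decide)

theorem exists_fixed_of_rho (hc : Cfg (Ω := Ω) x α) (he : Coords x α e)
    (n : ↥(MulAction.stabilizer G α)) (h : ∃ β, β ≠ α ∧ (n : G) • β = β) :
    ∃ i, rho hc he n i = i := by
  obtain ⟨β, hβ, hfix⟩ := h
  obtain ⟨⟨i, j⟩, rfl⟩ := he.surj β hβ
  rw [smul_e' hc he] at hfix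
  have := he.inj hfix
  exact ⟨i, (Prod.ext_iff.1 this).1⟩

theorem exists_fixed_of_mu (hc : Cfg (Ω := Ω) x α) (he : Coords x α e)
    (n : ↥(MulAction.stabilizer G α)) (h1 : rho hc he n = 1) (h2 : mu hc n ≠ 1) :
    ∃ β, β ≠ α ∧ (n : G) • β = β := by
  have : Fact (Nat.Prime 5) := ⟨by norm_num⟩
  set c := mu hc n with hcdef
  set s := (cf e (n : G) (0, 0)).2 with hsdef
  have hc1 : (1 : ZMod 5) - c ≠ 0 := by
    intro h; apply h2; rw [sub_eq_zero] at h; exact h.symm
  refine ⟨e (0, s * (1 - c)⁻¹), he.ne _, ?_⟩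
  rw [smul_e' hc he, h1]
  congr 2
  rw [← hcdef, ← hsdef]
  field_simp
  ring

end Cfsg.Agent.Lib.Helper3.Syl21C
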