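import Cfsg.Agent.Lib.Helper3.Syl21C

/-!
# Twenty-one points: kernel and sign

The joint kernel of `rho` and `mu` is `⟨x⟩`, and the sign of an element of the point stabilizer
acting on `Ω` equals the sign of its image under `rho`.
-/

namespace Cfsg.Agent.Lib.Helper3.Syl21D

open Cfsg.Agent.Lib.Helper3.Syl21B Cfsg.Agent.Lib.Helper3.Syl21C

variable {G : Type*} [Group G] {Ω : Type*} [MulAction G Ω]
variable {x : G} {α : Ω} {e : Fin 4 × ZMod 5 → Ω}

theorem exists_sylow_zpowers [Finite G] (hx : orderOf x = 5) (h25 : ¬ 25 ∣ Nat.card G) :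
    ∃ P : Sylow 5 G, (P : Subgroup G) = Subgroup.zpowers x := by
  haveI : Fact (Nat.Prime 5) := ⟨by norm_num⟩
  have hcard : Nat.card (Subgroup.zpowers x) = 5 := by rw [Nat.card_zpowers, hx]
  have h5 : 5 ∣ Nat.card G := hx ▸ orderOf_dvd_natCard x
  have hpos : Nat.card G ≠ 0 := Nat.card_pos.ne'
  have hf : (Nat.card G).factorization 5 = 1 := by
    have h1 : 1 ≤ (Nat.card G).factorization 5 :=
      (Nat.Prime.pow_dvd_iff_le_factorization (by norm_num) hpos).1 (by simpa using h5)
    have h2 : ¬ 2 ≤ (Nat.card G).factorization 5 := fun h =>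
      h25 ((Nat.Prime.pow_dvd_iff_le_factorization (p := 5) (k := 2) (by norm_num) hpos).2 h)
    omega
  exact ⟨Sylow.ofCard (Subgroup.zpowers x) (by rw [hcard, hf, pow_one]), Sylow.coe_ofCard _ _⟩

theorem conj_mem_zpowers {n : G} (h : n * x * n⁻¹ ∈ Subgroup.zpowers x) {g : G}
    (hg : g ∈ Subgroup.zpowers x) : n * g * n⁻¹ ∈ Subgroup.zpowers x := by
  obtain ⟨k, rfl⟩ := Subgroup.mem_zpowers_iff.1 hg
  rw [← conj_zpow]
  exact Subgroup.zpow_mem _ h k

theorem mem_zpowers_of_pow_five [Finite G] (hx : orderOf x = 5) (h25 : ¬ 25 ∣ Nat.card G)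
    {n : G} (hn5 : n ^ 5 = 1) (h1 : n * x * n⁻¹ ∈ Subgroup.zpowers x)
    (h2 : n⁻¹ * x * n ∈ Subgroup.zpowers x) : n ∈ Subgroup.zpowers x := by
  haveI : Fact (Nat.Prime 5) := ⟨by norm_num⟩
  obtain ⟨P, hP⟩ := exists_sylow_zpowers hx h25
  have hp1 : IsPGroup 5 (Subgroup.zpowers n) := by
    intro g
    refine ⟨1, ?_⟩
    obtain ⟨k, hk⟩ := Subgroup.mem_zpowers_iff.1 g.2
    apply Subtype.ext
    simp only [pow_one, Subgroup.coe_pow, Subgroup.coe_one]
    rw [← hk, ← zpow_natCast, ← zpow_mul, mul_comm, zpow_mul, zpow_natCast, hn5, one_zpow]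
  have hp2 : IsPGroup 5 (Subgroup.zpowers x) := hP ▸ P.isPGroup'
  have hp3 : Subgroup.zpowers n ≤
      Subgroup.normalizer ((Subgroup.zpowers x : Subgroup G) : Set G) := by
    rw [Subgroup.zpowers_le, Subgroup.mem_normalizer_iff]
    intro g
    constructor
    · intro hg
      exact conj_mem_zpowers h1 hg
    · intro hg
      have h2' : n⁻¹ * x * n⁻¹⁻¹ ∈ Subgroup.zpowers x := by rwa [inv_inv]
      have := conj_mem_zpowers h2' hg
      have e : n⁻¹ * (n * g * n⁻¹) * n⁻¹⁻¹ = g := by group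
      rwa [e] at this
  have hp4 := IsPGroup.to_sup_of_normal_right' hp1 hp2 hp3
  have hp5 : (P : Subgroup G) ≤ Subgroup.zpowers n ⊔ Subgroup.zpowers x := hP ▸ le_sup_right
  have hp6 := P.is_maximal' hp4 hp5
  rw [← hP, ← hp6]
  exact Subgroup.mem_sup_left (Subgroup.mem_zpowers n)

theorem mem_zpowers_of_rho_mu [Finite G] [FaithfulSMul G Ω] (hc : Cfg (Ω := Ω) x α)
    (he : Coords x α e) (h25 : ¬ 25 ∣ Nat.card G) (n : ↥(MulAction.stabilizer G α))
    (h1 : rho hc he n = 1) (h2 : mu hc n = 1) : (n : G) ∈ Subgroup.zpowers x := by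
  have hstep : ∀ (i : Fin 4) (j : ZMod 5),
      (n : G) • e (i, j) = e (i, j + (cf e (n : G) (i, 0)).2) := by
    intro i j
    rw [smul_e' hc he, h1, h2, one_mul]
    rfl
  have hpow : ∀ (k : ℕ) (i : Fin 4) (j : ZMod 5),
      (n : G) ^ k • e (i, j) = e (i, j + k * (cf e (n : G) (i, 0)).2) := by
    intro k
    induction k with
    | zero => intro i j; simp
    | succ k ih =>
      intro i j
      rw [pow_succ, mul_smul, hstep, ih]
      congr 2
      push_cast
      ring
  have hn5 : (n : G) ^ 5 = 1 := by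
    apply eq_of_smul_eq_smul (α := Ω)
    intro β
    rw [one_smul]
    by_cases hβ : β = α
    · rw [hβ]
      exact MulAction.mem_stabilizer_iff.1 (Subgroup.pow_mem _ n.2 5)
    · obtain ⟨⟨i, j⟩, rfl⟩ := he.surj β hβ
      rw [hpow]
      have : ((5 : ℕ) : ZMod 5) = 0 := by decide
      rw [this, zero_mul, add_zero]
  have hcomm := (mu_eq_one_iff hc n).1 h2
  apply mem_zpowers_of_pow_five hc.hx h25 hn5
  · have : (n : G) * x * (n : G)⁻¹ = x := by rw [hcomm]; group
    rw [this]; exact Subgroup.mem_zpowers x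
  · have : (n : G)⁻¹ * x * (n : G) = x := by rw [mul_assoc, ← hcomm]; group
    rw [this]; exact Subgroup.mem_zpowers x

theorem units_pow_four (u : ℤˣ) : u ^ 4 = 1 := by
  have := Int.units_sq u
  calc u ^ 4 = (u ^ 2) ^ 2 := by rw [← pow_mul]
    _ = 1 := by rw [this, one_pow]

theorem units_pow_five (u : ℤˣ) : u ^ 5 = u := by
  rw [pow_succ, units_pow_four, one_mul]

theorem sign_addRight_zmod_five :
    ∀ s : ZMod 5, Equiv.Perm.sign (Equiv.addRight s) = 1 := by decide

theorem sign_eq [Fintype Ω] [DecidableEq Ω] (hc : Cfg (Ω := Ω) x α) (he : Coords x α e)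
    (n : ↥(MulAction.stabilizer G α)) :
    Equiv.Perm.sign (MulAction.toPerm (n : G) : Equiv.Perm Ω) =
      Equiv.Perm.sign (rho hc he n) := by
  haveI : Fact (Nat.Prime 5) := ⟨by norm_num⟩
  let F : Option (Fin 4 × ZMod 5) → Ω := fun o => o.elim α e
  have hF : Function.Bijective F := by
    constructor
    · intro a b hab
      cases a with
      | none =>
        cases b with
        | none => rfl
        | some b => exact absurd hab.symm (he.ne b)
      | some a =>
        cases b with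
        | none => exact absurd hab (he.ne a)
        | some b => exact congrArg some (he.inj hab)
    · intro β
      by_cases hβ : β = α
      · exact ⟨none, hβ.symm⟩
      · obtain ⟨y, hy⟩ := he.surj β hβ
        exact ⟨some y, hy⟩
  let E : Option (Fin 4 × ZMod 5) ≃ Ω := Equiv.ofBijective F hF
  have hc0 : mu hc n ≠ 0 := mu_ne_zero hc n
  let A : Fin 4 → Equiv.Perm (ZMod 5) := fun i =>
    (Equiv.mulLeft₀ (mu hc n) hc0).trans (Equiv.addRight (cf e (n : G) (i, 0)).2)
  let τ : Equiv.Perm (Fin 4 × ZMod 5) :=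
    (Equiv.prodCongrRight A).trans (Equiv.prodCongrLeft (fun _ => rho hc he n))
  have hτ : (MulAction.toPerm (n : G) : Equiv.Perm Ω) = E.permCongr (Equiv.optionCongr τ) := by
    ext β
    rw [Equiv.permCongr_apply, MulAction.toPerm_apply]
    obtain ⟨o, rfl⟩ := E.surjective β
    rw [Equiv.symm_apply_apply]
    cases o with
    | none =>
      change (n : G) • α = α
      exact MulAction.mem_stabilizer_iff.1 n.2
    | some y =>
      obtain ⟨i, j⟩ := y
      change (n : G) • e (i, j) = e (τ (i, j))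
      rw [smul_e' hc he]
      simp only [τ, A, Equiv.trans_apply, Equiv.prodCongrRight_apply, Equiv.prodCongrLeft_apply,
        Equiv.mulLeft₀_apply, Equiv.coe_addRight]
  have hadd := sign_addRight_zmod_five
  rw [hτ, Equiv.Perm.sign_permCongr, Equiv.optionCongr_sign, Equiv.Perm.sign_trans,
    Equiv.Perm.sign_prodCongrLeft, Equiv.Perm.sign_prodCongrRight]
  have h1 : ∏ k : Fin 4, Equiv.Perm.sign (A k) = 1 := by
    have : ∀ k : Fin 4, Equiv.Perm.sign (A k) =
        Equiv.Perm.sign (Equiv.mulLeft₀ (mu hc n) hc0) := by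
      intro k
      simp only [A]
      rw [Equiv.Perm.sign_trans, hadd, one_mul]
    rw [Finset.prod_congr rfl (fun k _ => this k), Finset.prod_const, Finset.card_univ,
      Fintype.card_fin, units_pow_four]
  have h2 : ∏ _k : ZMod 5, Equiv.Perm.sign (rho hc he n) = Equiv.Perm.sign (rho hc he n) := by
    rw [Finset.prod_const, Finset.card_univ, ZMod.card, units_pow_five]
  rw [h1, h2, mul_one]

end Cfsg.Agent.Lib.Helper3.Syl21D
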