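import Mathlib

/-!
# Twenty-one points: auxiliary facts

* transfer into an abelian subgroup of odd index with an isolated involution;
* the even `2`-elements of `Perm (Fin 4)` form a four-group;
* a permutation of order dividing five with one fixed point on a set of `7 ^ k ≤ 21` points.
-/

namespace Cfsg.Agent.Lib.Helper3.Syl21E

open Equiv

section transfer

variable {G : Type*} [Group G]

/-- If an abelian subgroup `T` of odd index contains an involution `z` whose only conjugate in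
`T` is `z` itself, the transfer into `T` does not kill `z`. -/
theorem exists_hom_of_isolated (T : Subgroup G) [T.FiniteIndex]
    (hT : ∀ a ∈ T, ∀ b ∈ T, a * b = b * a) (z : G) (hzT : z ∈ T) (hz2 : z ^ 2 = 1) (hz1 : z ≠ 1)
    (hodd : ¬ 2 ∣ T.index) (hiso : ∀ g : G, g⁻¹ * z * g ∈ T → g⁻¹ * z * g = z) :
    ∃ V : G →* T, V z ≠ 1 := by
  have : IsMulCommutative T := ⟨⟨fun a b => Subtype.ext (hT a a.2 b b.2)⟩⟩
  have hzk : ∀ k : ℕ, z ^ k = 1 ∨ z ^ k = z := by
    intro k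
    rcases Nat.even_or_odd' k with ⟨m, rfl | rfl⟩
    · left; rw [pow_mul, hz2, one_pow]
    · right; rw [pow_succ, pow_mul, hz2, one_pow, one_mul]
  have key : ∀ (k : ℕ) (g₀ : G), g₀⁻¹ * z ^ k * g₀ ∈ T → g₀⁻¹ * z ^ k * g₀ = z ^ k := by
    intro k g₀ h
    rcases hzk k with h1 | h1
    · rw [h1]; group
    · rw [h1] at h ⊢; exact hiso g₀ h
  open scoped IsMulCommutative in
  refine ⟨MonoidHom.transfer (MonoidHom.id T), ?_⟩
  open scoped IsMulCommutative in
  have h := MonoidHom.transfer_eq_pow (MonoidHom.id T) z key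
  intro h1
  rw [h1] at h
  have h2 : z ^ T.index = 1 := by
    have := congrArg Subtype.val h
    simpa using this.symm
  rcases hzk T.index with h3 | h3
  · have hd : orderOf z ∣ T.index := orderOf_dvd_of_pow_eq_one h3
    have ho : orderOf z = 2 := orderOf_eq_prime hz2 hz1
    rw [ho] at hd
    exact hodd hd
  · rw [h3] at h2; exact hz1 h2

end transfer

section perm4

/-- The elements of the four-group of `Perm (Fin 4)`. -/
def v4 : Fin 4 → Perm (Fin 4)
  | 0 => 1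
  | 1 => Equiv.swap 0 1 * Equiv.swap 2 3
  | 2 => Equiv.swap 0 2 * Equiv.swap 1 3
  | 3 => Equiv.swap 0 3 * Equiv.swap 1 2

/-- Membership in the four-group of `Perm (Fin 4)`. -/
def IsV4 (σ : Perm (Fin 4)) : Prop := ∃ k : Fin 4, σ = v4 k

set_option maxRecDepth 100000 in
theorem isV4_of_sign_aux : ∀ σ : Perm (Fin 4), Perm.sign σ = 1 → σ ^ 8 = 1 →
    ∃ k : Fin 4, σ = v4 k := by decide

theorem v4_comm : ∀ i j : Fin 4, v4 i * v4 j = v4 j * v4 i := by decide

theorem v4_sq : ∀ i : Fin 4, v4 i ^ 2 = 1 := by decide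

theorem v4_fixed : ∀ i : Fin 4, v4 i = 1 ∨ ∀ a, v4 i a ≠ a := by decide

set_option maxRecDepth 100000 in
theorem v4_four : ∀ i j k : Fin 4, v4 i ≠ 1 → v4 j ≠ 1 → v4 i ≠ v4 j →
    v4 k = 1 ∨ v4 k = v4 i ∨ v4 k = v4 j ∨ v4 k = v4 i * v4 j := by decide

theorem pow_eight_of_two_pow (σ : Perm (Fin 4)) (k : ℕ) (h : σ ^ 2 ^ k = 1) : σ ^ 8 = 1 := by
  have h1 : orderOf σ ∣ 2 ^ k := orderOf_dvd_of_pow_eq_one h
  have h2 : orderOf σ ∣ 24 := by
    have := orderOf_dvd_card (x := σ)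
    rwa [show Fintype.card (Perm (Fin 4)) = 24 by decide] at this
  obtain ⟨j, -, hj⟩ := (Nat.dvd_prime_pow Nat.prime_two).1 h1
  have hj3 : j ≤ 3 := by
    by_contra hcon
    push Not at hcon
    have h16 : 2 ^ 4 ∣ 2 ^ j := pow_dvd_pow 2 hcon
    rw [← hj] at h16
    have := dvd_trans h16 h2
    omega
  have h8 : orderOf σ ∣ 8 := by
    rw [hj]
    exact pow_dvd_pow 2 hj3
  exact orderOf_dvd_iff_pow_eq_one.1 h8

theorem isV4_of_sign (σ : Perm (Fin 4)) (h1 : Perm.sign σ = 1) (k : ℕ) (h2 : σ ^ 2 ^ k = 1) :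
    IsV4 σ := isV4_of_sign_aux σ h1 (pow_eight_of_two_pow σ k h2)

theorem IsV4.comm {σ τ : Perm (Fin 4)} (hσ : IsV4 σ) (hτ : IsV4 τ) : σ * τ = τ * σ := by
  obtain ⟨i, rfl⟩ := hσ
  obtain ⟨j, rfl⟩ := hτ
  exact v4_comm i j

theorem IsV4.four {σ τ υ : Perm (Fin 4)} (hσ : IsV4 σ) (hτ : IsV4 τ) (hυ : IsV4 υ) (hσ1 : σ ≠ 1)
    (hτ1 : τ ≠ 1) (hne : σ ≠ τ) : υ = 1 ∨ υ = σ ∨ υ = τ ∨ υ = σ * τ := by
  obtain ⟨i, rfl⟩ := hσ
  obtain ⟨j, rfl⟩ := hτ
  obtain ⟨k, rfl⟩ := hυ
  exact v4_four i j k hσ1 hτ1 hne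

theorem IsV4.eq_one_of_fixed {σ : Perm (Fin 4)} (hσ : IsV4 σ) {i : Fin 4} (hi : σ i = i) :
    σ = 1 := by
  obtain ⟨k, rfl⟩ := hσ
  rcases v4_fixed k with h | h
  · exact h
  · exact absurd hi (h i)

theorem IsV4.sq {σ : Perm (Fin 4)} (hσ : IsV4 σ) : σ ^ 2 = 1 := by
  obtain ⟨k, rfl⟩ := hσ
  exact v4_sq k

end perm4

section fixed

/-- A self-map of order dividing five with exactly one fixed point, on a finite set whose size
is a power of seven at most twenty-one: the set is a point. -/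
theorem card_eq_one_of_pow_five {S : Type*} [Finite S] (f : S → S) (hf : ∀ s, f^[5] s = s)
    (a : S) (hfix : ∀ s, f s = s ↔ s = a) (k : ℕ) (hk : Nat.card S = 7 ^ k)
    (hle : Nat.card S ≤ 21) : Nat.card S = 1 := by
  classical
  haveI : Fintype S := Fintype.ofFinite S
  haveI : Fact (Nat.Prime 5) := ⟨by norm_num⟩
  let F : Function.End S := f
  have hF : F ^ 5 ^ 1 = 1 := by
    rw [pow_one]
    funext s
    have : (F ^ 5) s = f^[5] s := by
      rfl
    rw [this, hf]; rfl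
  have h1 := Perm.card_fixedPoints_modEq (p := 5) (n := 1) hF
  have h2 : Fintype.card (Function.fixedPoints F) = 1 := by
    rw [Fintype.card_eq_one_iff]
    refine ⟨⟨a, (hfix a).2 rfl⟩, ?_⟩
    rintro ⟨s, hs⟩
    apply Subtype.ext
    exact (hfix s).1 hs
  rw [h2, ← Nat.card_eq_fintype_card] at h1
  have hk1 : k ≤ 1 := by
    by_contra hcon
    push Not at hcon
    have : 7 ^ 2 ≤ 7 ^ k := Nat.pow_le_pow_right (by norm_num) hcon
    omega
  interval_cases k
  · simpa using hk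
  · rw [hk] at h1
    exact absurd h1 (by decide)

end fixed

end Cfsg.Agent.Lib.Helper3.Syl21E
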