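import Mathlib

/-!
# Sylow counts in subgroups and quotients

`card_sylow_of_forall_le`: a subgroup containing every Sylow `p`-subgroup has the same number of
Sylow `p`-subgroups.  `card_sylow_quotient`: a normal subgroup normalizing every Sylow
`p`-subgroup can be factored out without changing the number of Sylow `p`-subgroups.
-/

namespace Cfsg.Agent.Lib.Helper3.SylCount

variable {G : Type*} [Group G] {p : ℕ}

theorem card_sylow_of_forall_le [Finite G] [Fact p.Prime] (K : Subgroup G)
    (h : ∀ Q : Sylow p G, (Q : Subgroup G) ≤ K) :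
    Nat.card (Sylow p K) = Nat.card (Sylow p G) := by
  symm
  apply Nat.card_eq_of_bijective (fun Q : Sylow p G => Q.subtype (h Q))
  constructor
  · intro Q Q' hQQ'
    exact Sylow.subtype_injective hQQ'
  · intro Q'
    obtain ⟨Q, hQ⟩ := (Q'.isPGroup'.map K.subtype).exists_le_sylow
    refine ⟨Q, ?_⟩
    have hle : (Q' : Subgroup K) ≤ (Q.subtype (h Q) : Subgroup K) := by
      rw [Sylow.coe_subtype]
      intro k hk
      rw [Subgroup.mem_subgroupOf]
      exact hQ (Subgroup.mem_map_of_mem _ hk)
    exact Sylow.ext (Q'.is_maximal' (Q.subtype (h Q)).isPGroup' hle)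

theorem card_sylow_quotient [Finite G] [Fact p.Prime] (K : Subgroup G) [K.Normal]
    (h : ∀ Q : Sylow p G, K ≤ Subgroup.normalizer ((Q : Subgroup G) : Set G)) :
    Nat.card (Sylow p (G ⧸ K)) = Nat.card (Sylow p G) := by
  symm
  have hsurj : Function.Surjective (QuotientGroup.mk' K) := QuotientGroup.mk'_surjective K
  apply Nat.card_eq_of_bijective (Sylow.mapSurjective hsurj)
  refine ⟨?_, Sylow.mapSurjective_surjective hsurj p⟩
  intro Q Q' hQQ'
  have h1 : (Q : Subgroup G).map (QuotientGroup.mk' K) =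
      (Q' : Subgroup G).map (QuotientGroup.mk' K) := by
    rw [← Sylow.coe_mapSurjective hsurj, ← Sylow.coe_mapSurjective hsurj, hQQ']
  have h2 : (Q' : Subgroup G) ≤ (Q : Subgroup G) ⊔ K := by
    intro g hg
    have hg' : QuotientGroup.mk' K g ∈ (Q : Subgroup G).map (QuotientGroup.mk' K) := by
      rw [h1]; exact Subgroup.mem_map_of_mem _ hg
    obtain ⟨q, hq, hqg⟩ := Subgroup.mem_map.1 hg'
    have hk : q⁻¹ * g ∈ K := by
      have := QuotientGroup.eq.1 hqg
      exact this
    have : g = q * (q⁻¹ * g) := by group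
    rw [this]
    exact Subgroup.mul_mem _ (Subgroup.mem_sup_left hq) (Subgroup.mem_sup_right hk)
  have h3 : (Q' : Subgroup G) ≤ Subgroup.normalizer ((Q : Subgroup G) : Set G) :=
    h2.trans (sup_le Subgroup.le_normalizer (h Q))
  have h4 : Q ∈ MulAction.fixedPoints (Q' : Subgroup G) (Sylow p G) :=
    (Subgroup.sylow_mem_fixedPoints_iff _).2 h3
  have h5 : (Q' : Subgroup G) ≤ Q := (IsPGroup.sylow_mem_fixedPoints_iff Q'.isPGroup').1 h4
  exact Sylow.ext (Q'.is_maximal' Q.isPGroup' h5)

end Cfsg.Agent.Lib.Helper3.SylCount
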