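import Cfsg.Agent.Lib.Helper3.Syl21D
import Cfsg.Agent.Lib.Helper3.Syl21E
import Cfsg.Agent.Lib.Helper3.SylCount

/-!
# Twenty-one points: the point stabilizer does not centralize `x`

If the stabilizer of `α` centralized `x`, Burnside's transfer theorem would give a normal
`5`-complement `M`; then `x` normalizes a Sylow `7`-subgroup `R`, the `R`-orbit of `α` is
`x`-invariant of size `1` or `7` with a single `x`-fixed point, so `R` fixes `α`, against
`7 ∣ 21`.
-/

namespace Cfsg.Agent.Lib.Helper3.Syl21F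

open Cfsg.Agent.Lib.Helper3.Syl21B Cfsg.Agent.Lib.Helper3.Syl21C Cfsg.Agent.Lib.Helper3.Syl21D
  Cfsg.Agent.Lib.Helper3.Syl21E Cfsg.Agent.Lib.Helper3.SylCount

variable {G : Type*} [Group G] {Ω : Type*} [MulAction G Ω]
variable {x : G} {α : Ω}

theorem smul_alpha_of_conj_mem (hc : Cfg (Ω := Ω) x α) {g : G}
    (hg : g * x * g⁻¹ ∈ Subgroup.zpowers x) : g • α = α := by
  obtain ⟨c, hcc⟩ := exists_xp_of_mem_zpowers hc.hx5 hg
  have hc0 : c ≠ 0 := by
    rintro rfl
    rw [xp_zero] at hcc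
    have h0 : x = 1 := by
      have : x = g⁻¹ * (g * x * g⁻¹) * g := by group
      rw [this, hcc]; group
    have h1 := hc.hx
    rw [h0, orderOf_one] at h1
    omega
  by_contra hne
  have h1 : xp x c • (g • α) = g • α := by
    rw [← hcc, ← mul_smul]
    have : g * x * g⁻¹ * g = g * x := by group
    rw [this, mul_smul, (hc.hfix α).2 rfl]
  exact hc0 ((hc.xp_smul_eq_iff c hne).1 h1)

/-- If `x` normalizes a `7`-subgroup `R`, then `R` fixes `α`. -/
theorem le_stabilizer_of_normalizes [Finite Ω] (hc : Cfg (Ω := Ω) x α) (h21 : Nat.card Ω = 21)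
    (R : Subgroup G) (hR : IsPGroup 7 R) (hxR : ∀ r ∈ R, x * r * x⁻¹ ∈ R) :
    R ≤ MulAction.stabilizer G α := by
  haveI : Fact (Nat.Prime 7) := ⟨by norm_num⟩
  let S := MulAction.orbit R α
  have hαS : α ∈ S := MulAction.mem_orbit_self α
  have hxS : ∀ s ∈ S, x • s ∈ S := by
    intro s hs
    obtain ⟨r, rfl⟩ := hs
    refine ⟨⟨x * (r : G) * x⁻¹, hxR r r.2⟩, ?_⟩
    change (x * (r : G) * x⁻¹) • α = x • ((r : G) • α)
    have h1 : x⁻¹ • α = α := by rw [inv_smul_eq_iff, (hc.hfix α).2 rfl]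
    rw [mul_smul, mul_smul, h1]
  let f : S → S := fun s => ⟨x • s.1, hxS s.1 s.2⟩
  have hiter : ∀ (k : ℕ) (s : S), (f^[k] s).1 = x ^ k • s.1 := by
    intro k
    induction k with
    | zero => intro s; simp
    | succ k ih =>
      intro s
      rw [Function.iterate_succ_apply', pow_succ', mul_smul, ← ih]
  have hf5 : ∀ s, f^[5] s = s := by
    intro s
    apply Subtype.ext
    rw [hiter, hc.hx5, one_smul]
  have hfix : ∀ s : S, f s = s ↔ s = ⟨α, hαS⟩ := by
    intro s
    constructor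
    · intro h
      apply Subtype.ext
      exact (hc.hfix s.1).1 (congrArg Subtype.val h)
    · rintro rfl
      apply Subtype.ext
      exact (hc.hfix α).2 rfl
  obtain ⟨k, hk⟩ := hR.card_orbit (α := Ω) α
  have hle : Nat.card S ≤ 21 := by
    rw [← h21]
    exact Nat.card_le_card_of_injective Subtype.val Subtype.val_injective
  have h1 := card_eq_one_of_pow_five f hf5 ⟨α, hαS⟩ hfix k hk hle
  have hsub : Subsingleton S := (Nat.card_eq_one_iff_unique.1 h1).1
  intro r hr
  rw [MulAction.mem_stabilizer_iff]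
  have hrS : r • α ∈ S := ⟨⟨r, hr⟩, rfl⟩
  have := hsub.elim ⟨r • α, hrS⟩ ⟨α, hαS⟩
  exact congrArg Subtype.val this

theorem exists_mu_ne_one [Finite G] [Finite Ω] [MulAction.IsPretransitive G Ω]
    (hc : Cfg (Ω := Ω) x α) (h21 : Nat.card Ω = 21) (h25 : ¬ 25 ∣ Nat.card G) :
    ∃ n : ↥(MulAction.stabilizer G α), mu hc n ≠ 1 := by
  haveI : Fact (Nat.Prime 5) := ⟨by norm_num⟩
  haveI : Fact (Nat.Prime 7) := ⟨by norm_num⟩
  by_contra hcon
  push Not at hcon
  have hcomm : ∀ g : G, g • α = α → g * x = x * g := fun g hg =>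
    (mu_eq_one_iff hc ⟨g, MulAction.mem_stabilizer_iff.2 hg⟩).1 (hcon _)
  obtain ⟨P, hP⟩ := exists_sylow_zpowers hc.hx h25
  have hPcard : Nat.card (P : Subgroup G) = 5 := by rw [hP, Nat.card_zpowers, hc.hx]
  have hNC : Subgroup.normalizer ((P : Subgroup G) : Set G) ≤
      Subgroup.centralizer ((P : Subgroup G) : Set G) := by
    intro g hg
    have h1 : g * x * g⁻¹ ∈ Subgroup.zpowers x := by
      rw [← hP]
      exact (Subgroup.mem_normalizer_iff.1 hg x).1 (by rw [hP]; exact Subgroup.mem_zpowers x)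
    have h2 := hcomm g (smul_alpha_of_conj_mem hc h1)
    rw [Subgroup.mem_centralizer_iff]
    intro h hh
    rw [SetLike.mem_coe, hP] at hh
    obtain ⟨k, rfl⟩ := Subgroup.mem_zpowers_iff.1 hh
    have hcm : Commute x g := h2.symm
    exact (hcm.zpow_left k).eq
  let V := MonoidHom.transferSylow P hNC
  have hcompl := MonoidHom.ker_transferSylow_isComplement' P hNC
  have hcard := hcompl.card_mul_card
  rw [hPcard] at hcard
  have h5M : ¬ 5 ∣ Nat.card V.ker := by
    intro h
    apply h25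
    rw [← hcard]
    exact Nat.mul_dvd_mul h (dvd_refl 5)
  have hRM : ∀ R : Sylow 7 G, (R : Subgroup G) ≤ V.ker := by
    intro R r hr
    rw [MonoidHom.mem_ker]
    obtain ⟨k, hk⟩ := R.2 ⟨r, hr⟩
    have hk' : r ^ 7 ^ k = 1 := by
      have := congrArg Subtype.val hk
      simpa using this
    have h1 : (V r) ^ 7 ^ k = 1 := by rw [← map_pow, hk', map_one]
    have h2 : (V r) ^ 5 = 1 := by
      have h := pow_card_eq_one' (G := ↥(P : Subgroup G)) (x := V r)
      rwa [hPcard] at h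
    have h3 := pow_gcd_eq_one.2 ⟨h1, h2⟩
    have h4 : Nat.gcd (7 ^ k) 5 = 1 := Nat.Coprime.pow_left k (by norm_num)
    rwa [h4, pow_one] at h3
  have hn7 := card_sylow_of_forall_le (p := 7) V.ker hRM
  have hdvd : Nat.card (Sylow 7 G) ∣ Nat.card V.ker := by
    rw [← hn7]
    obtain ⟨R'⟩ : Nonempty (Sylow 7 V.ker) := inferInstance
    exact dvd_trans (Sylow.card_dvd_index R') (Subgroup.index_dvd_card _)
  have h5n7 : ¬ 5 ∣ Nat.card (Sylow 7 G) := fun h => h5M (dvd_trans h hdvd)
  have hX5 : IsPGroup 5 (Subgroup.zpowers x) :=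
    IsPGroup.of_card (n := 1) (by rw [Nat.card_zpowers, hc.hx, pow_one])
  obtain ⟨R, hRfix⟩ := hX5.nonempty_fixed_point_of_prime_not_dvd_card (Sylow 7 G) h5n7
  have hxR : x • R = R := hRfix ⟨x, Subgroup.mem_zpowers x⟩
  rw [Sylow.smul_eq_iff_mem_normalizer] at hxR
  have hle := le_stabilizer_of_normalizes hc h21 (R : Subgroup G) R.2
    (fun r hr => (Subgroup.mem_normalizer_iff.1 hxR r).1 hr)
  have h21' : (MulAction.stabilizer G α).index = 21 := by
    rw [MulAction.index_stabilizer_of_transitive G α, h21]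
  have h7 : 7 ∣ (R : Subgroup G).index := by
    have := Subgroup.index_dvd_of_le hle
    rw [h21'] at this
    exact dvd_trans (by norm_num) this
  exact Sylow.not_dvd_index R h7

end Cfsg.Agent.Lib.Helper3.Syl21F
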