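import Cfsg.Agent.Lib.Helper3.Syl21F

/-!
# Twenty-one points: the Sylow `2`-subgroup of the point stabilizer

A Sylow `2`-subgroup `Q` of the stabilizer `N` of `α` embeds in `V₄ × (ZMod 5)ˣ`, so it is
abelian, and it contains an involution whose only `G`-conjugate in `Q` is itself.
-/

namespace Cfsg.Agent.Lib.Helper3.Syl21G

open Cfsg.Agent.Lib.Helper3.Syl21B Cfsg.Agent.Lib.Helper3.Syl21C Cfsg.Agent.Lib.Helper3.Syl21D
  Cfsg.Agent.Lib.Helper3.Syl21E Cfsg.Agent.Lib.Helper3.Syl21F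

open Equiv

theorem zmod5_sq : ∀ c : ZMod 5, c ^ 2 = 1 → c = 1 ∨ c = 4 := by decide

theorem zmod5_four_mul_four : (4 : ZMod 5) * 4 = 1 := by decide

theorem zmod5_four_ne_one : (4 : ZMod 5) ≠ 1 := by decide

/-- A nontrivial `2`-element has a power which is an involution. -/
theorem exists_pow_involution {H : Type*} [Group H] (a : H) (k : ℕ) (ha : a ^ 2 ^ k = 1)
    (ha1 : a ≠ 1) : ∃ j : ℕ, (a ^ j) ^ 2 = 1 ∧ a ^ j ≠ 1 := by
  have h1 : orderOf a ∣ 2 ^ k := orderOf_dvd_of_pow_eq_one ha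
  obtain ⟨m, -, hm⟩ := (Nat.dvd_prime_pow Nat.prime_two).1 h1
  have hm0 : m ≠ 0 := by
    rintro rfl
    rw [pow_zero, orderOf_eq_one_iff] at hm
    exact ha1 hm
  obtain ⟨m', rfl⟩ := Nat.exists_eq_succ_of_ne_zero hm0
  refine ⟨2 ^ m', ?_, ?_⟩
  · rw [← pow_mul, ← pow_succ, ← hm, pow_orderOf_eq_one]
  · apply pow_ne_one_of_lt_orderOf (by positivity)
    rw [hm]
    exact Nat.pow_lt_pow_right (by norm_num) (Nat.lt_succ_self m')

theorem eq_of_mul_eq_one_of_sq {H : Type*} [Group H] {q z : H} (h : q * z = 1) (hz : z ^ 2 = 1) :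
    q = z := by
  calc q = q * z ^ 2 := by rw [hz, mul_one]
    _ = (q * z) * z := by rw [pow_two, mul_assoc]
    _ = z := by rw [h, one_mul]

section

variable {G : Type*} [Group G] {Ω : Type*} [MulAction G Ω]
variable {x : G} {α : Ω} {e : Fin 4 × ZMod 5 → Ω}

/-- `g` has a fixed point other than `α`. -/
def Fx (α : Ω) (g : G) : Prop := ∃ β, β ≠ α ∧ g • β = β

theorem Fx.conj {z q g : G} (hz : z • α = α) (hq : q = g⁻¹ * z * g) (h : Fx α z) : Fx α q := by
  obtain ⟨β, hβ, hzβ⟩ := h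
  have h1 : ∀ γ : Ω, z • γ = γ → q • (g⁻¹ • γ) = g⁻¹ • γ := by
    intro γ hγ
    rw [hq, ← mul_smul]
    have : g⁻¹ * z * g * g⁻¹ = g⁻¹ * z := by group
    rw [this, mul_smul, hγ]
  by_cases h2 : g⁻¹ • α = α
  · refine ⟨g⁻¹ • β, ?_, h1 β hzβ⟩
    intro h3
    apply hβ
    have := h3.trans h2.symm
    exact smul_left_cancel _ this
  · exact ⟨g⁻¹ • α, h2, h1 α hz⟩

theorem inv_conj_pow (g z : G) (n : ℕ) : (g⁻¹ * z * g) ^ n = g⁻¹ * z ^ n * g := by
  have := conj_pow (a := g⁻¹) (b := z) (i := n)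
  rwa [inv_inv] at this

theorem conj_sq {z q g : G} (hq : q = g⁻¹ * z * g) (hz : z ^ 2 = 1) : q ^ 2 = 1 := by
  rw [hq, inv_conj_pow, hz]; group

theorem conj_ne_one {z q g : G} (hq : q = g⁻¹ * z * g) (hz : z ≠ 1) : q ≠ 1 := by
  intro h
  apply hz
  have : z = g * q * g⁻¹ := by rw [hq]; group
  rw [this, h]; group

theorem mu_eq_one_of_conj [Finite G] (hc : Cfg (Ω := Ω) x α) (h25 : ¬ 25 ∣ Nat.card G)
    (c q : ↥(MulAction.stabilizer G α)) (g : G) (hq : (q : G) = g⁻¹ * (c : G) * g)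
    (hc1 : mu hc c = 1) (hnf : ¬ Fx α (q : G)) : mu hc q = 1 := by
  have : Fact (Nat.Prime 5) := ⟨by norm_num⟩
  have hcx := (mu_eq_one_iff hc c).1 hc1
  obtain ⟨x', hx'⟩ : ∃ x' : G, x' = g⁻¹ * x * g := ⟨_, rfl⟩
  have hqx' : (q : G) * x' = x' * q := by
    rw [hq, hx']
    calc g⁻¹ * (c : G) * g * (g⁻¹ * x * g) = g⁻¹ * ((c : G) * x) * g := by group
      _ = g⁻¹ * (x * (c : G)) * g := by rw [hcx]
      _ = g⁻¹ * x * g * (g⁻¹ * (c : G) * g) := by group
  have hqα : (q : G) • α = α := MulAction.mem_stabilizer_iff.1 q.2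
  have hx'α : x' • α = α := by
    by_contra hne
    apply hnf
    refine ⟨x' • α, hne, ?_⟩
    rw [← mul_smul, hqx', mul_smul, hqα]
  have hx'5 : x' ^ 5 = 1 := by
    rw [hx', inv_conj_pow, hc.hx5]; group
  have h1 : x' * x * x'⁻¹ ∈ Subgroup.zpowers x := hc.hnorm x' hx'α
  have h2 : x'⁻¹ * x * x' ∈ Subgroup.zpowers x := by
    have h3 : x'⁻¹ • α = α := by rw [inv_smul_eq_iff, hx'α]
    have := hc.hnorm x'⁻¹ h3
    rwa [inv_inv] at this
  have hmem := mem_zpowers_of_pow_five hc.hx h25 hx'5 h1 h2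
  obtain ⟨j, hj⟩ := exists_xp_of_mem_zpowers hc.hx5 hmem
  have hj0 : j ≠ 0 := by
    rintro rfl
    rw [xp_zero] at hj
    have h0 : x = 1 := by
      have : x = g * x' * g⁻¹ := by rw [hx']; group
      rw [this, hj]; group
    have h3 := hc.hx
    rw [h0, orderOf_one] at h3
    omega
  have hxx' : x' ^ (j⁻¹).val = x := by
    rw [hj, xp_pow_val hc.hx5, mul_inv_cancel₀ hj0, xp_one]
  rw [mu_eq_one_iff]
  have hcm : Commute (q : G) x' := hqx'
  rw [← hxx']
  exact (hcm.pow_right _).eq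

theorem rho_eq_one_of_Fx (hc : Cfg (Ω := Ω) x α) (he : Coords x α e)
    (q : ↥(MulAction.stabilizer G α)) (hV : IsV4 (rho hc he q)) (h : Fx α (q : G)) :
    rho hc he q = 1 := by
  obtain ⟨i, hi⟩ := exists_fixed_of_rho hc he q h
  exact hV.eq_one_of_fixed hi

theorem eq_one_of_rho_mu [Finite G] [FaithfulSMul G Ω] (hc : Cfg (Ω := Ω) x α)
    (he : Coords x α e) (h25 : ¬ 25 ∣ Nat.card G) (n : ↥(MulAction.stabilizer G α)) (k : ℕ)
    (hn : n ^ 2 ^ k = 1) (h1 : rho hc he n = 1) (h2 : mu hc n = 1) : n = 1 := by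
  have hmem := mem_zpowers_of_rho_mu hc he h25 n h1 h2
  obtain ⟨j, hj⟩ := Subgroup.mem_zpowers_iff.1 hmem
  have h5 : (n : G) ^ 5 = 1 := by
    rw [← hj, ← zpow_natCast, ← zpow_mul, mul_comm, zpow_mul, zpow_natCast, hc.hx5, one_zpow]
  have h2k : (n : G) ^ 2 ^ k = 1 := by
    have := congrArg Subtype.val hn
    simpa using this
  have h3 := pow_gcd_eq_one.2 ⟨h2k, h5⟩
  have h4 : Nat.gcd (2 ^ k) 5 = 1 := Nat.Coprime.pow_left k (by norm_num)
  rw [h4, pow_one] at h3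
  exact Subtype.ext h3

/-- The Sylow `2`-subgroup of the point stabilizer is abelian with an isolated involution. -/
theorem exists_isolated [Finite G] [FaithfulSMul G Ω] (hc : Cfg (Ω := Ω) x α)
    (he : Coords x α e) (h25 : ¬ 25 ∣ Nat.card G)
    (hsgn : ∀ n : ↥(MulAction.stabilizer G α), Perm.sign (rho hc he n) = 1)
    (Q : Subgroup ↥(MulAction.stabilizer G α)) (hQ : IsPGroup 2 Q)
    (t₀ : ↥(MulAction.stabilizer G α)) (ht₀ : t₀ ∈ Q) (hμ : mu hc t₀ ≠ 1) :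
    (∀ a ∈ Q, ∀ b ∈ Q, a * b = b * a) ∧
      ∃ z ∈ Q, z ≠ 1 ∧ z ^ 2 = 1 ∧
        ∀ q ∈ Q, ∀ g : G, (q : G) = g⁻¹ * (z : G) * g → q = z := by
  have : Fact (Nat.Prime 5) := ⟨by norm_num⟩
  have hpow : ∀ q ∈ Q, ∃ k : ℕ, q ^ 2 ^ k = 1 := by
    intro q hq
    obtain ⟨k, hk⟩ := hQ ⟨q, hq⟩
    refine ⟨k, ?_⟩
    have := congrArg Subtype.val hk
    simpa using this
  have hV : ∀ q ∈ Q, IsV4 (rho hc he q) := by
    intro q hq
    obtain ⟨k, hk⟩ := hpow q hq
    apply isV4_of_sign _ (hsgn q) k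
    rw [← map_pow, hk, map_one]
  have hinj : ∀ q ∈ Q, rho hc he q = 1 → mu hc q = 1 → q = 1 := by
    intro q hq h1 h2
    obtain ⟨k, hk⟩ := hpow q hq
    exact eq_one_of_rho_mu hc he h25 q k hk h1 h2
  have hμ2 : ∀ q : ↥(MulAction.stabilizer G α), q ^ 2 = 1 → mu hc q = 1 ∨ mu hc q = 4 := by
    intro q hq
    apply zmod5_sq
    rw [← map_pow, hq, map_one]
  have hsqα : ∀ (z q : ↥(MulAction.stabilizer G α)) (g : G), (q : G) = g⁻¹ * (z : G) * g →
      z ^ 2 = 1 → q ^ 2 = 1 := by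
    intro z q g hq hz
    apply Subtype.ext
    have hz' : (z : G) ^ 2 = 1 := by
      have := congrArg Subtype.val hz
      simpa using this
    simpa using conj_sq hq hz'
  have hne1 : ∀ (z q : ↥(MulAction.stabilizer G α)) (g : G), (q : G) = g⁻¹ * (z : G) * g →
      z ≠ 1 → q ≠ 1 := by
    intro z q g hq hz h
    have hz' : (z : G) ≠ 1 := fun h' => hz (Subtype.ext h')
    apply conj_ne_one hq hz'
    rw [h]; rfl
  -- both of `μ = 4`: the product is killed by `μ`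
  have hprod : ∀ q z : ↥(MulAction.stabilizer G α), mu hc q = 4 → mu hc z = 4 →
      mu hc (q * z) = 1 := by
    intro q z h1 h2
    rw [map_mul, h1, h2]; exact zmod5_four_mul_four
  refine ⟨?_, ?_⟩
  · intro a ha b hb
    have hw : a * b * (b * a)⁻¹ ∈ Q := Q.mul_mem (Q.mul_mem ha hb) (Q.inv_mem (Q.mul_mem hb ha))
    have h1 : rho hc he (a * b * (b * a)⁻¹) = 1 := by
      rw [map_mul, map_inv, map_mul, map_mul, (hV a ha).comm (hV b hb), mul_inv_cancel]
    have h2 : mu hc (a * b * (b * a)⁻¹) = 1 := by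
      have h3 : mu hc (a * b * (b * a)⁻¹) * mu hc (b * a) = mu hc (a * b) := by
        rw [← map_mul]; congr 1; group
      have h4 : mu hc (a * b) = mu hc (b * a) := by rw [map_mul, map_mul, mul_comm]
      rw [h4] at h3
      have h5 : mu hc (b * a) ≠ 0 := mu_ne_zero hc _
      exact mul_right_cancel₀ h5 (h3.trans (one_mul _).symm)
    have h3 := hinj _ hw h1 h2
    calc a * b = (a * b * (b * a)⁻¹) * (b * a) := by group
      _ = b * a := by rw [h3, one_mul]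
  · by_cases hA : ∃ a ∈ Q, a ≠ 1 ∧ rho hc he a = 1
    · -- Case A
      obtain ⟨a, haQ, ha1, hρa⟩ := hA
      obtain ⟨k, hk⟩ := hpow a haQ
      obtain ⟨j, hj2, hj1⟩ := exists_pow_involution a k hk ha1
      have hzQ : a ^ j ∈ Q := Q.pow_mem haQ j
      have hρz : rho hc he (a ^ j) = 1 := by rw [map_pow, hρa, one_pow]
      have hμz1 : mu hc (a ^ j) ≠ 1 := fun h => hj1 (hinj _ hzQ hρz h)
      have hμz : mu hc (a ^ j) = 4 := (hμ2 _ hj2).resolve_left hμz1
      have hFz : Fx α ((a ^ j : ↥(MulAction.stabilizer G α)) : G) :=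
        exists_fixed_of_mu hc he _ hρz hμz1
      refine ⟨a ^ j, hzQ, hj1, hj2, ?_⟩
      intro q hqQ g hq
      have hFq : Fx α (q : G) :=
        Fx.conj (MulAction.mem_stabilizer_iff.1 (a ^ j).2) hq hFz
      have hρq : rho hc he q = 1 := rho_eq_one_of_Fx hc he q (hV q hqQ) hFq
      have hq2 : q ^ 2 = 1 := hsqα _ q g hq hj2
      have hq1 : q ≠ 1 := hne1 _ q g hq hj1
      have hμq1 : mu hc q ≠ 1 := fun h => hq1 (hinj q hqQ hρq h)
      have hμq : mu hc q = 4 := (hμ2 q hq2).resolve_left hμq1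
      have h1 : q * a ^ j = 1 := by
        apply hinj _ (Q.mul_mem hqQ hzQ)
        · rw [map_mul, hρq, hρz, one_mul]
        · exact hprod _ _ hμq hμz
      exact eq_of_mul_eq_one_of_sq h1 hj2
    · -- Case B
      have hB : ∀ a ∈ Q, rho hc he a = 1 → a = 1 := by
        intro a ha h
        by_contra h1
        exact hA ⟨a, ha, h1, h⟩
      have hBinj : ∀ a ∈ Q, ∀ b ∈ Q, rho hc he a = rho hc he b → a = b := by
        intro a ha b hb h
        have h1 : a * b⁻¹ = 1 := by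
          apply hB _ (Q.mul_mem ha (Q.inv_mem hb))
          rw [map_mul, map_inv, h, mul_inv_cancel]
        exact mul_inv_eq_one.1 h1
      have hsq : ∀ a ∈ Q, a ^ 2 = 1 := by
        intro a ha
        apply hB _ (Q.pow_mem ha 2)
        rw [map_pow, (hV a ha).sq]
      by_cases hB1 : ∃ c ∈ Q, c ≠ 1 ∧ mu hc c = 1
      · obtain ⟨c, hcQ, hc1, hμc⟩ := hB1
        refine ⟨c, hcQ, hc1, hsq c hcQ, ?_⟩
        intro q hqQ g hq
        have hq1 : q ≠ 1 := hne1 _ q g hq hc1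
        have hρq : rho hc he q ≠ 1 := fun h => hq1 (hB q hqQ h)
        have hnF : ¬ Fx α (q : G) := fun h => hρq (rho_eq_one_of_Fx hc he q (hV q hqQ) h)
        have hμq : mu hc q = 1 := mu_eq_one_of_conj hc h25 c q g hq hμc hnF
        by_contra hne
        have hρne : rho hc he q ≠ rho hc he c := fun h => hne (hBinj q hqQ c hcQ h)
        have hρc : rho hc he c ≠ 1 := fun h => hc1 (hB c hcQ h)
        rcases IsV4.four (hV q hqQ) (hV c hcQ) (hV t₀ ht₀) hρq hρc hρne with h | h | h | h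
        · apply hμ
          rw [hB t₀ ht₀ h, map_one]
        · apply hμ
          rw [hBinj t₀ ht₀ q hqQ h, hμq]
        · apply hμ
          rw [hBinj t₀ ht₀ c hcQ h, hμc]
        · apply hμ
          rw [← map_mul] at h
          rw [hBinj t₀ ht₀ (q * c) (Q.mul_mem hqQ hcQ) h, map_mul, hμq, hμc, one_mul]
      · have hB2 : ∀ c ∈ Q, mu hc c = 1 → c = 1 := by
          intro c hcQ h
          by_contra h1
          exact hB1 ⟨c, hcQ, h1, h⟩
        have ht1 : t₀ ≠ 1 := by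
          rintro rfl
          exact hμ (map_one _)
        have ht2 : t₀ ^ 2 = 1 := hsq t₀ ht₀
        have hμt : mu hc t₀ = 4 := (hμ2 t₀ ht2).resolve_left hμ
        refine ⟨t₀, ht₀, ht1, ht2, ?_⟩
        intro q hqQ g hq
        have hq1 : q ≠ 1 := hne1 _ q g hq ht1
        have hq2 : q ^ 2 = 1 := hsq q hqQ
        have hμq1 : mu hc q ≠ 1 := fun h => hq1 (hB2 q hqQ h)
        have hμq : mu hc q = 4 := (hμ2 q hq2).resolve_left hμq1
        have h1 : q * t₀ = 1 := hB2 _ (Q.mul_mem hqQ ht₀) (hprod _ _ hμq hμt)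
        exact eq_of_mul_eq_one_of_sq h1 ht2

end

end Cfsg.Agent.Lib.Helper3.Syl21G
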