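import Cfsg.Agent.Lib.Helper3.Syl21G

/-!
# Twenty-one points: the contradiction

A finite group acting faithfully and transitively on `21` points, with an element `x` of order
five fixing a single point `α`, whose stabilizer normalizes `⟨x⟩`, with `25 ∤ |G|`, cannot be
generated (as a normal subgroup) by `x`.
-/

namespace Cfsg.Agent.Lib.Helper3.Syl21H

open Cfsg.Agent.Lib.Helper3.Syl21B Cfsg.Agent.Lib.Helper3.Syl21C Cfsg.Agent.Lib.Helper3.Syl21D
  Cfsg.Agent.Lib.Helper3.Syl21E Cfsg.Agent.Lib.Helper3.Syl21F Cfsg.Agent.Lib.Helper3.Syl21G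

open Equiv

variable {G : Type*} [Group G] {Ω : Type*} [MulAction G Ω]
variable {x : G} {α : Ω}

theorem sign_toPerm [Fintype Ω] [DecidableEq Ω] (hc : Cfg (Ω := Ω) x α)
    (hmin : ∀ K : Subgroup G, K.Normal → x ∈ K → K = ⊤) (g : G) :
    Perm.sign (MulAction.toPerm g : Perm Ω) = 1 := by
  let sg : G →* ℤˣ := Perm.sign.comp (MulAction.toPermHom G Ω)
  have hx : x ∈ sg.ker := by
    rw [MonoidHom.mem_ker]
    have h5 : (sg x) ^ 5 = 1 := by rw [← map_pow, hc.hx5, map_one]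
    rwa [units_pow_five] at h5
  have h := hmin sg.ker (MonoidHom.normal_ker sg) hx
  have hg : g ∈ sg.ker := by rw [h]; trivial
  exact MonoidHom.mem_ker.1 hg

theorem exists_two_elt [Finite G] (hc : Cfg (Ω := Ω) x α) (n : ↥(MulAction.stabilizer G α))
    (hn : mu hc n ≠ 1) :
    ∃ (t : ↥(MulAction.stabilizer G α)) (k : ℕ), t ^ 2 ^ k = 1 ∧ mu hc t ≠ 1 := by
  have : Fact (Nat.Prime 5) := ⟨by norm_num⟩
  have h0 : Nat.card ↥(MulAction.stabilizer G α) ≠ 0 := Nat.card_pos.ne'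
  obtain ⟨k, m, hm, hkm⟩ := Nat.exists_eq_two_pow_mul_odd h0
  refine ⟨n ^ m, k, ?_, ?_⟩
  · rw [← pow_mul, mul_comm, ← hkm]
    exact pow_card_eq_one'
  · intro h
    rw [map_pow] at h
    have h4 : (mu hc n) ^ 4 = 1 := ZMod.pow_card_sub_one_eq_one (mu_ne_zero hc n)
    have h1 := pow_gcd_eq_one.2 ⟨h, h4⟩
    have hcop : Nat.gcd m 4 = 1 := by
      have : Nat.Coprime m 2 := Nat.Coprime.symm (Nat.coprime_two_left.2 hm)
      exact Nat.Coprime.pow_right 2 this
    rw [hcop, pow_one] at h1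
    exact hn h1

theorem false_of_cfg [Finite G] [Finite Ω] [FaithfulSMul G Ω] [MulAction.IsPretransitive G Ω]
    (hc : Cfg (Ω := Ω) x α) (h21 : Nat.card Ω = 21) (h25 : ¬ 25 ∣ Nat.card G)
    (hmin : ∀ K : Subgroup G, K.Normal → x ∈ K → K = ⊤) : False := by
  classical
  haveI : Fintype Ω := Fintype.ofFinite Ω
  haveI : Fact (Nat.Prime 2) := ⟨Nat.prime_two⟩
  obtain ⟨e, he⟩ := exists_coords hc h21
  have hsgn : ∀ n : ↥(MulAction.stabilizer G α), Perm.sign (rho hc he n) = 1 := by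
    intro n
    rw [← sign_eq hc he n]
    exact sign_toPerm hc hmin _
  obtain ⟨n, hn⟩ := exists_mu_ne_one hc h21 h25
  obtain ⟨t₀, k, ht₀, hμ⟩ := exists_two_elt hc n hn
  have hpg : IsPGroup 2 (Subgroup.zpowers t₀) := by
    have hord : orderOf t₀ ∣ 2 ^ k := orderOf_dvd_of_pow_eq_one ht₀
    obtain ⟨m, -, hm⟩ := (Nat.dvd_prime_pow Nat.prime_two).mp hord
    exact IsPGroup.of_card (n := m) (by rw [Nat.card_zpowers, hm])
  obtain ⟨Q, hQ⟩ := hpg.exists_le_sylow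
  obtain ⟨hab, z, hzQ, hz1, hz2, hiso⟩ := exists_isolated hc he h25 hsgn
    (Q : Subgroup ↥(MulAction.stabilizer G α)) Q.2 t₀ (hQ (Subgroup.mem_zpowers t₀)) hμ
  let T : Subgroup G :=
    (Q : Subgroup ↥(MulAction.stabilizer G α)).map (MulAction.stabilizer G α).subtype
  have hTab : ∀ a ∈ T, ∀ b ∈ T, a * b = b * a := by
    rintro _ ⟨a, ha, rfl⟩ _ ⟨b, hb, rfl⟩
    rw [← map_mul, ← map_mul, hab a ha b hb]
  have hzT : (z : G) ∈ T := ⟨z, hzQ, rfl⟩
  have hz2' : (z : G) ^ 2 = 1 := by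
    have := congrArg Subtype.val hz2
    simpa using this
  have hz1' : (z : G) ≠ 1 := fun h => hz1 (Subtype.ext h)
  have hodd : ¬ 2 ∣ T.index := by
    rw [Subgroup.index_map_subtype, MulAction.index_stabilizer_of_transitive, h21]
    intro h
    rcases (Nat.Prime.dvd_mul Nat.prime_two).1 h with h | h
    · exact Sylow.not_dvd_index Q h
    · omega
  have hiso' : ∀ g : G, g⁻¹ * (z : G) * g ∈ T → g⁻¹ * (z : G) * g = z := by
    intro g hg
    obtain ⟨q, hq, hqe⟩ := hg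
    have h1 := hiso q hq g hqe
    rw [← hqe, h1]
    rfl
  obtain ⟨V, hV⟩ := exists_hom_of_isolated T hTab z hzT hz2' hz1' hodd hiso'
  have hxK : x ∈ V.ker := by
    rw [MonoidHom.mem_ker]
    have h5 : (V x) ^ 5 = 1 := by rw [← map_pow, hc.hx5, map_one]
    have hTp : IsPGroup 2 T := Q.2.map _
    obtain ⟨j, hj⟩ := hTp (V x)
    have h3 := pow_gcd_eq_one.2 ⟨hj, h5⟩
    have h4 : Nat.gcd (2 ^ j) 5 = 1 := Nat.Coprime.pow_left j (by norm_num)
    rwa [h4, pow_one] at h3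
  have htop := hmin V.ker (MonoidHom.normal_ker V) hxK
  apply hV
  have hz : (z : G) ∈ V.ker := by rw [htop]; trivial
  exact MonoidHom.mem_ker.1 hz

end Cfsg.Agent.Lib.Helper3.Syl21H
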