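import Cfsg.Agent.Lib.Helper3.Syl21A
import Cfsg.Agent.Lib.Helper3.Syl21H

/-!
# No finite group has exactly twenty-one Sylow `5`-subgroups

A minimal counterexample acts faithfully on its `21` Sylow `5`-subgroups, which have order
five and pairwise trivial intersection; a generator `x` of one of them fixes only that one,
and is in no proper normal subgroup.  `Syl21H.false_of_cfg` excludes this.
-/

namespace Cfsg.Agent.Lib.Helper3.Syl21I

open Cfsg.Agent.Lib.Helper3.Syl21A Cfsg.Agent.Lib.Helper3.Syl21B Cfsg.Agent.Lib.Helper3.Syl21H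
  Cfsg.Agent.Lib.Helper3.SylCount

universe u

theorem false_of_minimal (G : Type u) [Group G] [Finite G]
    (IH : ∀ (H : Type u) [Group H] [Finite H], Nat.card H < Nat.card G →
      Nat.card (Sylow 5 H) ≠ 21)
    (h21 : Nat.card (Sylow 5 G) = 21) : False := by
  haveI : Fact (Nat.Prime 5) := ⟨by norm_num⟩
  -- the kernel of the action on the Sylow subgroups is trivial
  have hK₀mem : ∀ k ∈ (MulAction.toPermHom G (Sylow 5 G)).ker, ∀ C : Sylow 5 G, k • C = C := by
    intro k hk C
    rw [MonoidHom.mem_ker] at hk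
    have := congrArg (fun σ : Equiv.Perm (Sylow 5 G) => σ C) hk
    simpa using this
  have hK₀ : (MulAction.toPermHom G (Sylow 5 G)).ker = ⊥ := by
    have hnorm : ∀ C : Sylow 5 G, (MulAction.toPermHom G (Sylow 5 G)).ker ≤
        Subgroup.normalizer ((C : Subgroup G) : Set G) := by
      intro C k hk
      exact Sylow.smul_eq_iff_mem_normalizer.1 (hK₀mem k hk C)
    have hq := card_sylow_quotient (p := 5) (MulAction.toPermHom G (Sylow 5 G)).ker hnorm
    rw [h21] at hq
    have hnlt := fun hlt => IH (G ⧸ (MulAction.toPermHom G (Sylow 5 G)).ker) hlt hq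
    have hmul := Subgroup.card_eq_card_quotient_mul_card_subgroup
      (MulAction.toPermHom G (Sylow 5 G)).ker
    apply Subgroup.eq_bot_of_card_le
    by_contra hcon
    push Not at hcon
    apply hnlt
    have hpos : 0 < Nat.card (G ⧸ (MulAction.toPermHom G (Sylow 5 G)).ker) := Nat.card_pos
    nlinarith
  haveI : FaithfulSMul G (Sylow 5 G) := by
    refine ⟨fun {g₁ g₂} h => ?_⟩
    apply (MonoidHom.ker_eq_bot_iff _).1 hK₀
    ext C : 1
    simpa using h C
  -- the Sylow subgroups have order five
  have hnt : Nontrivial (Sylow 5 G) := by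
    rw [← Finite.one_lt_card_iff_nontrivial, h21]; norm_num
  obtain ⟨P, Q, hPQ⟩ := exists_pair_ne (Sylow 5 G)
  have hinf : (P : Subgroup G) ⊓ Q = ⊥ := by
    rw [eq_bot_iff]
    intro g hg
    rw [Subgroup.mem_bot]
    have hgK : g ∈ (MulAction.toPermHom G (Sylow 5 G)).ker := by
      rw [MonoidHom.mem_ker]
      ext C : 1
      have hgC : g ∈ (C : Subgroup G) := inf_le_sylow h21 P Q C hPQ hg
      have : g • C = C := Sylow.smul_eq_iff_mem_normalizer.2 (Subgroup.le_normalizer hgC)
      simpa using this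
    rw [hK₀] at hgK
    exact Subgroup.mem_bot.1 hgK
  have hQ5 : Nat.card (Q : Subgroup G) = 5 := by
    have h := card_inf_mul_five h21 P Q hPQ
    rw [hinf, Subgroup.card_bot, one_mul] at h
    exact h.symm
  have h25 : ¬ 25 ∣ Nat.card G := by
    have h := Sylow.card_eq_multiplicity Q
    rw [hQ5] at h
    have hf : (Nat.card G).factorization 5 = 1 := by
      have h' : (5 : ℕ) ^ 1 = 5 ^ (Nat.card G).factorization 5 := by rw [pow_one]; exact h
      exact (Nat.pow_right_injective (by norm_num : 2 ≤ 5) h').symm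
    intro hdvd
    have h2 : (5 : ℕ) ^ 2 ∣ Nat.card G := by norm_num; exact hdvd
    rw [Nat.Prime.pow_dvd_iff_le_factorization (by norm_num) Nat.card_pos.ne', hf] at h2
    omega
  -- a generator of `Q`
  have hQne : (Q : Subgroup G) ≠ ⊥ := by
    intro h
    rw [h, Subgroup.card_bot] at hQ5
    omega
  obtain ⟨⟨x, hxQ⟩, hx1⟩ := Subgroup.ne_bot_iff_exists_ne_one.1 hQne
  have hx1' : x ≠ 1 := fun h => hx1 (Subtype.ext h)
  have hord : orderOf x = 5 := by
    have h := Subgroup.orderOf_dvd_natCard _ hxQ
    rw [hQ5] at h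
    rcases (Nat.dvd_prime (by norm_num : Nat.Prime 5)).1 h with h | h
    · exact absurd (orderOf_eq_one_iff.1 h) hx1'
    · exact h
  have hzQ : Subgroup.zpowers x = (Q : Subgroup G) := by
    apply Subgroup.eq_of_le_of_card_ge
    · rw [Subgroup.zpowers_le]; exact hxQ
    · rw [hQ5, Nat.card_zpowers, hord]
  have hc : Cfg (Ω := Sylow 5 G) x Q := by
    refine ⟨hord, ?_, ?_⟩
    · intro C
      constructor
      · intro h
        rw [Sylow.smul_eq_iff_mem_normalizer] at h
        have h1 : (Q : Subgroup G) ≤ Subgroup.normalizer ((C : Subgroup G) : Set G) := by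
          rw [← hzQ, Subgroup.zpowers_le]; exact h
        have h2 : C ∈ MulAction.fixedPoints (↥(Q : Subgroup G)) (Sylow 5 G) :=
          (Subgroup.sylow_mem_fixedPoints_iff _).2 h1
        have h3 : (Q : Subgroup G) ≤ C := (IsPGroup.sylow_mem_fixedPoints_iff Q.2).1 h2
        exact Sylow.ext (Q.is_maximal' C.2 h3)
      · rintro rfl
        exact Sylow.smul_eq_iff_mem_normalizer.2 (Subgroup.le_normalizer hxQ)
    · intro n hn
      rw [Sylow.smul_eq_iff_mem_normalizer] at hn
      rw [hzQ]
      exact (Subgroup.mem_normalizer_iff.1 hn x).1 hxQ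
  have hmin : ∀ K : Subgroup G, K.Normal → x ∈ K → K = ⊤ := by
    intro K hK hxK
    have hQK : (Q : Subgroup G) ≤ K := by
      rw [← hzQ, Subgroup.zpowers_le]; exact hxK
    have hall : ∀ C : Sylow 5 G, (C : Subgroup G) ≤ K := by
      intro C c hc
      obtain ⟨g, rfl⟩ := MulAction.exists_smul_eq G Q C
      rw [mem_smul_iff] at hc
      have h1 := hK.conj_mem _ (hQK hc) g
      have h2 : g * (g⁻¹ * c * g) * g⁻¹ = c := by group
      rwa [h2] at h1
    have hcard := card_sylow_of_forall_le (p := 5) K hall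
    rw [h21] at hcard
    apply Subgroup.eq_top_of_le_card
    by_contra hcon
    push Not at hcon
    exact IH (↥K) hcon hcard
  exact false_of_cfg (G := G) (Ω := Sylow 5 G) hc h21 h25 hmin

theorem card_sylow_five_ne : ∀ (n : ℕ) (G : Type u) [Group G] [Finite G],
    Nat.card G = n → Nat.card (Sylow 5 G) ≠ 21 := by
  intro n
  induction n using Nat.strong_induction_on with
  | _ n ih =>
    intro G _ _ hn h21
    exact false_of_minimal G (fun H _ _ hlt => ih (Nat.card H) (hn ▸ hlt) H rfl) h21

end Cfsg.Agent.Lib.Helper3.Syl21I
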