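import Mathlib
import Cfsg.Agent.Lib.Helper3.Syl21A

/-!
# Twenty-two Sylow 3-subgroups: orbits of a Sylow subgroup on the others

Generic counting lemmas, and the sizes (`3` or `9`) of the orbits of a Sylow `3`-subgroup on the
other Sylow `3`-subgroups when there are `22` of them.
-/

open scoped Pointwise

namespace Cfsg.Agent.Lib.Helper3.Syl22A

open Cfsg.Agent.Lib.Helper3.Syl21A

section generic

/-- An invariant finset all of whose orbits have size `m` has cardinality divisible by `m`. -/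
theorem dvd_card_of_orbits {G : Type*} [Group G] {Ω : Type*} [MulAction G Ω] [Finite Ω]
    (H : Subgroup G) (m : ℕ) :
    ∀ (n : ℕ) (S : Finset Ω), S.card = n → (∀ x ∈ H, ∀ Q ∈ S, x • Q ∈ S) →
      (∀ Q ∈ S, (MulAction.orbit H Q).ncard = m) → m ∣ S.card := by
  classical
  intro n
  induction n using Nat.strong_induction_on with
  | _ n ih =>
    intro S hn hinv horb
    rcases S.eq_empty_or_nonempty with rfl | ⟨Q, hQ⟩
    · simp
    · set O : Finset Ω := (Set.toFinite (MulAction.orbit H Q)).toFinset with hO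
      have hmemO : ∀ R, R ∈ O ↔ R ∈ MulAction.orbit H Q := fun R => by
        rw [hO, Set.Finite.mem_toFinset]
      have hOS : O ⊆ S := by
        intro R hR
        rw [hmemO] at hR
        obtain ⟨x, rfl⟩ := hR
        exact hinv x x.2 Q hQ
      have hOcard : O.card = m := by
        rw [hO, ← Set.ncard_eq_toFinset_card _ _]; exact horb Q hQ
      have hS' : (S \ O).card + O.card = S.card := Finset.card_sdiff_add_card_eq_card hOS
      have hQO : Q ∈ O := by rw [hmemO]; exact MulAction.mem_orbit_self Q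
      have hpos : 0 < m := by
        rw [← hOcard]; exact Finset.card_pos.2 ⟨Q, hQO⟩
      have h1 : m ∣ (S \ O).card := by
        refine ih (S \ O).card (by omega) (S \ O) rfl ?_ ?_
        · intro x hx R hR
          rw [Finset.mem_sdiff] at hR ⊢
          refine ⟨hinv x hx R hR.1, fun h => hR.2 ?_⟩
          rw [hmemO] at h ⊢
          have h2 : R = (⟨x, hx⟩ : H)⁻¹ • ((⟨x, hx⟩ : H) • R) := (inv_smul_smul _ _).symm
          rw [h2]
          exact MulAction.mem_orbit_of_mem_orbit _ h
        · intro R hR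
          exact horb R (Finset.mem_sdiff.1 hR).1
      rw [← hS', hOcard]
      exact Dvd.dvd.add h1 (dvd_refl m)

/-- A permutation with `σ ^ p = 1` has, on every invariant finset, a number of fixed points
congruent to the size of the finset modulo `p`. -/
theorem card_modEq_filter_fixed {α : Type*} [Fintype α] [DecidableEq α] (σ : Equiv.Perm α)
    (p : ℕ) [Fact p.Prime] (hσ : σ ^ p = 1) (S : Finset α) (hS : ∀ x, σ x ∈ S ↔ x ∈ S) :
    S.card ≡ (S.filter (fun x => σ x = x)).card [MOD p] := by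
  classical
  let τ : Equiv.Perm {x // x ∈ S} := σ.subtypePerm hS
  have hτ : τ ^ p ^ 1 = 1 := by
    rw [pow_one]
    ext x
    simp only [τ, Equiv.Perm.subtypePerm_pow, hσ]
    simp
  have h1 := Equiv.Perm.card_compl_support_modEq (p := p) (n := 1) hτ
  have h2 : Fintype.card {x // x ∈ S} = S.card := Fintype.card_coe S
  have h3 : (τ.supportᶜ).card = (S.filter (fun x => σ x = x)).card := by
    apply Finset.card_bij (s := τ.supportᶜ) (t := S.filter (fun x => σ x = x))
      (fun (x : {x // x ∈ S}) _ => (x : α))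
    · intro x hx
      rw [Finset.mem_compl, Equiv.Perm.mem_support, not_not] at hx
      rw [Finset.mem_filter]
      refine ⟨x.2, ?_⟩
      have := congrArg Subtype.val hx
      simpa [τ] using this
    · intro x _ y _ h; exact Subtype.ext h
    · intro y hy
      rw [Finset.mem_filter] at hy
      refine ⟨⟨y, hy.1⟩, ?_, rfl⟩
      rw [Finset.mem_compl, Equiv.Perm.mem_support, not_not]
      apply Subtype.ext
      simp [τ, hy.2]
  rw [h2] at h1
  rw [← h3]
  exact h1.symm

end generic

variable {G : Type*} [Group G] [Finite G]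

theorem card_sylow_eq' {p : ℕ} [Fact p.Prime] (X Y : Sylow p G) :
    Nat.card ↥(X : Subgroup G) = Nat.card ↥(Y : Subgroup G) := by
  rw [Sylow.card_eq_multiplicity, Sylow.card_eq_multiplicity]

/-- the size of the orbit of `A` under the Sylow subgroup `C` -/
noncomputable def rr {p : ℕ} (C A : Sylow p G) : ℕ :=
  (A : Subgroup G).relIndex (C : Subgroup G)

theorem orbit_ncard {p : ℕ} [Fact p.Prime] (C A : Sylow p G) :
    (MulAction.orbit ↥(C : Subgroup G) A).ncard = rr C A := by
  rw [rr, Subgroup.relIndex, ← stabilizer_eq_subgroupOf, MulAction.index_stabilizer]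

theorem rr_mul_card {p : ℕ} (C A : Sylow p G) :
    Nat.card ↥((A : Subgroup G) ⊓ C) * rr C A = Nat.card ↥(C : Subgroup G) := by
  have h := Subgroup.card_mul_index ((A : Subgroup G).subgroupOf (C : Subgroup G))
  rw [card_subgroupOf_eq] at h
  exact h

theorem card_inf_smul {p : ℕ} (g : G) (C A : Sylow p G) :
    Nat.card ↥(((g • A : Sylow p G) : Subgroup G) ⊓ ((g • C : Sylow p G) : Subgroup G)) =
      Nat.card ↥((A : Subgroup G) ⊓ C) := by
  symm
  refine Nat.card_congr ⟨fun x => ⟨g * x * g⁻¹, ?_⟩, fun x => ⟨g⁻¹ * x * g, ?_⟩, ?_, ?_⟩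
  · rw [Subgroup.mem_inf, mem_smul_iff, mem_smul_iff]
    have h1 : g⁻¹ * (g * (x : G) * g⁻¹) * g = x := by group
    rw [h1]
    exact Subgroup.mem_inf.1 x.2
  · have := Subgroup.mem_inf.1 x.2
    rw [mem_smul_iff, mem_smul_iff] at this
    exact Subgroup.mem_inf.2 this
  · intro x; apply Subtype.ext; simp only; group
  · intro x; apply Subtype.ext; simp only; group

theorem rr_smul {p : ℕ} [Fact p.Prime] (g : G) (C A : Sylow p G) :
    rr (g • C) (g • A) = rr C A := by
  have h1 := rr_mul_card (g • C) (g • A)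
  have h2 := rr_mul_card C A
  rw [card_inf_smul, card_sylow_eq' (g • C) C, ← h2] at h1
  have hpos : 0 < Nat.card ↥((A : Subgroup G) ⊓ C) := Nat.card_pos
  exact Nat.eq_of_mul_eq_mul_left hpos h1

theorem rr_symm {p : ℕ} [Fact p.Prime] (C A : Sylow p G) : rr C A = rr A C := by
  have h1 := rr_mul_card C A
  have h2 := rr_mul_card A C
  rw [inf_comm, card_sylow_eq' A C, ← h1] at h2
  have hpos : 0 < Nat.card ↥((A : Subgroup G) ⊓ C) := Nat.card_pos
  exact (Nat.eq_of_mul_eq_mul_left hpos h2).symm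

theorem rr_three_or_nine (h22 : Nat.card (Sylow 3 G) = 22) (C A : Sylow 3 G) (hAC : A ≠ C) :
    rr C A = 3 ∨ rr C A = 9 := by
  haveI : Fact (Nat.Prime 3) := ⟨by norm_num⟩
  have h1 := orbit_ncard C A
  obtain ⟨n, hn⟩ := IsPGroup.card_orbit C.isPGroup' A
  rw [Nat.card_coe_set_eq] at hn
  have hsub : MulAction.orbit ↥(C : Subgroup G) A ⊆ ({C}ᶜ : Set (Sylow 3 G)) := by
    rintro B ⟨c, rfl⟩ hB
    exact smul_ne_of_ne A C hAC (c : G) c.2 hB
  have hle : (MulAction.orbit ↥(C : Subgroup G) A).ncard ≤ 21 := by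
    have h2 := Set.ncard_le_ncard hsub (Set.toFinite _)
    have h3 : ({C}ᶜ : Set (Sylow 3 G)).ncard = 21 := by
      rw [Set.ncard_compl, Set.ncard_singleton, h22]
    omega
  rw [hn] at hle
  have hn2 : n ≤ 2 := by
    by_contra hlt
    push Not at hlt
    have : 3 ^ 3 ≤ 3 ^ n := Nat.pow_le_pow_right (by norm_num) hlt
    omega
  have hn0 : n ≠ 0 := by
    rintro rfl
    have hr : (A : Subgroup G).relIndex (C : Subgroup G) = 1 := by
      rw [← rr, ← h1, hn, pow_zero]
    have hle' : (C : Subgroup G) ≤ A := Subgroup.relIndex_eq_one.1 hr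
    exact hAC (Sylow.ext (C.is_maximal' A.isPGroup' hle'))
  rw [← h1, hn]
  have : n = 1 ∨ n = 2 := by omega
  rcases this with rfl | rfl
  · left; norm_num
  · right; norm_num

section T

variable [Fintype (Sylow 3 G)] [DecidableEq (Sylow 3 G)]

/-- the Sylow subgroups in orbits of size three of `C` -/
noncomputable def T3 (C : Sylow 3 G) : Finset (Sylow 3 G) :=
  Finset.univ.filter (fun A => A ≠ C ∧ rr C A = 3)

/-- the Sylow subgroups in orbits of size nine of `C` -/
noncomputable def T9 (C : Sylow 3 G) : Finset (Sylow 3 G) :=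
  Finset.univ.filter (fun A => A ≠ C ∧ rr C A = 9)

theorem mem_T3 {C A : Sylow 3 G} : A ∈ T3 C ↔ A ≠ C ∧ rr C A = 3 := by
  simp [T3]

theorem mem_T9 {C A : Sylow 3 G} : A ∈ T9 C ↔ A ≠ C ∧ rr C A = 9 := by
  simp [T9]

theorem card_T3_add_card_T9 (h22 : Nat.card (Sylow 3 G) = 22) (C : Sylow 3 G) :
    (T3 C).card + (T9 C).card = 21 := by
  have hdisj : Disjoint (T3 C) (T9 C) := by
    rw [Finset.disjoint_left]
    intro A h3 h9
    rw [mem_T3] at h3
    rw [mem_T9] at h9
    omega
  have hunion : T3 C ∪ T9 C = Finset.univ.erase C := by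
    ext A
    rw [Finset.mem_union, mem_T3, mem_T9, Finset.mem_erase]
    constructor
    · rintro (h | h) <;> exact ⟨h.1, Finset.mem_univ _⟩
    · rintro ⟨h, -⟩
      rcases rr_three_or_nine h22 C A h with h3 | h9
      · exact Or.inl ⟨h, h3⟩
      · exact Or.inr ⟨h, h9⟩
  rw [← Finset.card_union_of_disjoint hdisj, hunion,
    Finset.card_erase_of_mem (Finset.mem_univ _), Finset.card_univ, ← Nat.card_eq_fintype_card, h22]

theorem smul_mem_T3 {C A : Sylow 3 G} (g : G) (hA : A ∈ T3 C) : g • A ∈ T3 (g • C) := by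
  haveI : Fact (Nat.Prime 3) := ⟨by norm_num⟩
  rw [mem_T3] at hA ⊢
  refine ⟨fun h => hA.1 (MulAction.injective g h), ?_⟩
  rw [rr_smul]; exact hA.2

theorem smul_mem_T9 {C A : Sylow 3 G} (g : G) (hA : A ∈ T9 C) : g • A ∈ T9 (g • C) := by
  haveI : Fact (Nat.Prime 3) := ⟨by norm_num⟩
  rw [mem_T9] at hA ⊢
  refine ⟨fun h => hA.1 (MulAction.injective g h), ?_⟩
  rw [rr_smul]; exact hA.2

theorem card_T3_smul (g : G) (C : Sylow 3 G) : (T3 (g • C)).card = (T3 C).card := by
  apply le_antisymm
  · have : T3 (g • C) ⊆ (T3 C).image (fun A => g • A) := by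
      intro A hA
      rw [Finset.mem_image]
      refine ⟨g⁻¹ • A, ?_, smul_inv_smul g A⟩
      have := smul_mem_T3 g⁻¹ hA
      rwa [inv_smul_smul] at this
    exact (Finset.card_le_card this).trans Finset.card_image_le
  · have : (T3 C).image (fun A => g • A) ⊆ T3 (g • C) := by
      intro A hA
      rw [Finset.mem_image] at hA
      obtain ⟨B, hB, rfl⟩ := hA
      exact smul_mem_T3 g hB
    rw [← Finset.card_image_of_injective (T3 C) (MulAction.injective g)]
    exact Finset.card_le_card this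

theorem three_dvd_card_T3 (C : Sylow 3 G) : 3 ∣ (T3 C).card := by
  haveI : Fact (Nat.Prime 3) := ⟨by norm_num⟩
  refine dvd_card_of_orbits (C : Subgroup G) 3 _ (T3 C) rfl ?_ ?_
  · intro x hx A hA
    have := smul_mem_T3 x hA
    rwa [Sylow.smul_eq_iff_mem_normalizer.2 (Subgroup.le_normalizer hx)] at this
  · intro A hA
    rw [orbit_ncard]
    exact (mem_T3.1 hA).2

theorem nine_dvd_card_T9 (C : Sylow 3 G) : 9 ∣ (T9 C).card := by
  haveI : Fact (Nat.Prime 3) := ⟨by norm_num⟩
  refine dvd_card_of_orbits (C : Subgroup G) 9 _ (T9 C) rfl ?_ ?_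
  · intro x hx A hA
    have := smul_mem_T9 x hA
    rwa [Sylow.smul_eq_iff_mem_normalizer.2 (Subgroup.le_normalizer hx)] at this
  · intro A hA
    rw [orbit_ncard]
    exact (mem_T9.1 hA).2

/-- the three possible shapes -/
theorem card_T3_cases (h22 : Nat.card (Sylow 3 G) = 22) (C : Sylow 3 G) :
    ((T3 C).card = 3 ∧ (T9 C).card = 18) ∨ ((T3 C).card = 12 ∧ (T9 C).card = 9) ∨
      ((T3 C).card = 21 ∧ (T9 C).card = 0) := by
  have h1 := card_T3_add_card_T9 h22 C
  have h2 := three_dvd_card_T3 C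
  have h3 := nine_dvd_card_T9 C
  omega

end T

/-- conjugating `A` by an element of `C` does not change `C ⊓ A` when the orbit has size three. -/
theorem inf_smul_eq3 (A C : Sylow 3 G) (h3 : rr C A = 3) (c : G) (hc : c ∈ (C : Subgroup G)) :
    (C : Subgroup G) ⊓ ((c • A : Sylow 3 G) : Subgroup G) = (C : Subgroup G) ⊓ A := by
  haveI : Fact (Nat.Prime 3) := ⟨by norm_num⟩
  rw [rr, Subgroup.relIndex] at h3
  have hnorm : ((A : Subgroup G).subgroupOf (C : Subgroup G)).Normal := by
    apply Subgroup.normal_of_index_eq_minFac_card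
    rw [h3]
    obtain ⟨k, hk⟩ := (IsPGroup.iff_card).1 C.isPGroup'
    have hk0 : k ≠ 0 := by
      rintro rfl
      have := Subgroup.index_dvd_card ((A : Subgroup G).subgroupOf (C : Subgroup G))
      rw [h3, hk] at this
      norm_num at this
    rw [hk, Nat.Prime.pow_minFac (by norm_num) hk0]
  ext g
  simp only [Subgroup.mem_inf, mem_smul_iff]
  constructor
  · rintro ⟨hg, hgA⟩
    refine ⟨hg, ?_⟩
    have h1 : (⟨c⁻¹ * g * c, mul_mem (mul_mem (inv_mem hc) hg) hc⟩ : (C : Subgroup G)) ∈
        (A : Subgroup G).subgroupOf (C : Subgroup G) := by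
      rw [Subgroup.mem_subgroupOf]; exact hgA
    have h2 := hnorm.conj_mem _ h1 ⟨c, hc⟩
    rw [Subgroup.mem_subgroupOf] at h2
    simp only [Subgroup.coe_mul, Subgroup.coe_inv] at h2
    have : c * (c⁻¹ * g * c) * c⁻¹ = g := by group
    rwa [this] at h2
  · rintro ⟨hg, hgA⟩
    refine ⟨hg, ?_⟩
    have h1 : (⟨g, hg⟩ : (C : Subgroup G)) ∈
        (A : Subgroup G).subgroupOf (C : Subgroup G) := by
      rw [Subgroup.mem_subgroupOf]; exact hgA
    have h2 := hnorm.conj_mem _ h1 ⟨c⁻¹, inv_mem hc⟩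
    rw [Subgroup.mem_subgroupOf] at h2
    simp only [Subgroup.coe_mul, Subgroup.coe_inv, inv_inv] at h2
    exact h2

end Cfsg.Agent.Lib.Helper3.Syl22A
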