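import Mathlib
import Cfsg.Agent.Lib.Helper3.Syl22A
import Cfsg.Agent.Lib.Lead.JordanCycle

/-!
# Twenty-two Sylow 3-subgroups in a simple group: the permutation action

For a non-abelian simple group with exactly `22` Sylow `3`-subgroups, the action on them is
faithful, primitive and by even permutations; by Jordan's theorem no element acts as a cycle of
prime length `p ≤ 19`.
-/

open scoped Pointwise

namespace Cfsg.Agent.Lib.Helper3.Syl22B

open Cfsg.Agent.Lib.Helper3.Syl21A Cfsg.Agent.Lib.Helper3.Syl22A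

/-- non-abelian simple with `22` Sylow `3`-subgroups -/
structure Hyp (G : Type*) [Group G] [Finite G] : Prop where
  simple : IsSimpleGroup G
  nonab : ∃ a b : G, a * b ≠ b * a
  h22 : Nat.card (Sylow 3 G) = 22

variable {G : Type*} [Group G] [Finite G]

theorem three_elt_mem (P : Sylow 3 G) {g : G}
    (hg : g ∈ Subgroup.normalizer ((P : Subgroup G) : Set G)) (k : ℕ) (hk : g ^ 3 ^ k = 1) :
    g ∈ (P : Subgroup G) := by
  haveI : Fact (Nat.Prime 3) := ⟨by norm_num⟩
  have h2 : orderOf g ∣ 3 ^ k := orderOf_dvd_of_pow_eq_one hk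
  obtain ⟨m, -, hm⟩ := (Nat.dvd_prime_pow (by norm_num : Nat.Prime 3)).1 h2
  have hz : IsPGroup 3 (Subgroup.zpowers g) :=
    IsPGroup.of_card (n := m) (by rw [Nat.card_zpowers, hm])
  obtain ⟨C, hC⟩ := hz.exists_le_sylow
  exact mem_of_mem_normalizer P C (hC (Subgroup.mem_zpowers g)) hg

theorem le_of_le_normalizer (P : Sylow 3 G) (H : Subgroup G) (hH : IsPGroup 3 H)
    (hle : H ≤ Subgroup.normalizer ((P : Subgroup G) : Set G)) : H ≤ (P : Subgroup G) := by
  intro g hg
  obtain ⟨k, hk⟩ := hH ⟨g, hg⟩
  have hk' : g ^ 3 ^ k = 1 := by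
    have := congrArg Subtype.val hk
    simpa using this
  exact three_elt_mem P (hle hg) k hk'

namespace Hyp

variable (h : Hyp G)
include h

theorem index_normalizer (P : Sylow 3 G) :
    (Subgroup.normalizer ((P : Subgroup G) : Set G)).index = 22 := by
  haveI : Fact (Nat.Prime 3) := ⟨by norm_num⟩
  rw [← h.h22]
  exact (Sylow.card_eq_index_normalizer P).symm

theorem normal_eq (K : Subgroup G) (hK : K.Normal) : K = ⊥ ∨ K = ⊤ := by
  haveI : IsSimpleGroup G := h.simple
  exact Subgroup.Normal.eq_bot_or_eq_top hK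

theorem nontrivial_sylow : Nontrivial (Sylow 3 G) := by
  rw [← Finite.one_lt_card_iff_nontrivial, h.h22]; norm_num

theorem ker_toPermHom : (MulAction.toPermHom G (Sylow 3 G)).ker = ⊥ := by
  haveI : Fact (Nat.Prime 3) := ⟨by norm_num⟩
  rcases h.normal_eq (MulAction.toPermHom G (Sylow 3 G)).ker (MonoidHom.normal_ker _) with h1 | h1
  · exact h1
  · exfalso
    have := h.nontrivial_sylow
    obtain ⟨P, Q, hPQ⟩ := exists_pair_ne (Sylow 3 G)
    obtain ⟨g, hg⟩ := MulAction.exists_smul_eq G P Q
    have hgk : g ∈ (MulAction.toPermHom G (Sylow 3 G)).ker := by rw [h1]; exact Subgroup.mem_top g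
    rw [MonoidHom.mem_ker] at hgk
    have := congrArg (fun σ : Equiv.Perm (Sylow 3 G) => σ P) hgk
    simp only [MulAction.toPermHom_apply, MulAction.toPerm_apply, Equiv.Perm.coe_one, id_eq] at this
    exact hPQ (this.symm.trans hg)

theorem toPermHom_injective : Function.Injective (MulAction.toPermHom G (Sylow 3 G)) :=
  (MonoidHom.ker_eq_bot_iff _).1 h.ker_toPermHom

theorem eq_one_of_forall_smul {g : G} (hg : ∀ Q : Sylow 3 G, g • Q = Q) : g = 1 := by
  apply h.toPermHom_injective
  apply Equiv.Perm.ext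
  intro Q
  simpa using hg Q

theorem isCoatom_normalizer (P : Sylow 3 G) :
    IsCoatom (Subgroup.normalizer ((P : Subgroup G) : Set G)) := by
  haveI : Fact (Nat.Prime 3) := ⟨by norm_num⟩
  set N := Subgroup.normalizer ((P : Subgroup G) : Set G) with hN
  have hidx := h.index_normalizer P
  refine ⟨?_, ?_⟩
  · intro htop
    rw [← hN, htop, Subgroup.index_top] at hidx
    omega
  · intro M hNM
    by_contra hM
    have hmul := Subgroup.relIndex_mul_index hNM.le
    rw [hidx] at hmul
    have hr1 : N.relIndex M ≠ 1 := by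
      intro h1
      exact hNM.not_ge (Subgroup.relIndex_eq_one.1 h1)
    have hi1 : M.index ≠ 1 := by
      intro h1
      exact hM (Subgroup.index_eq_one.1 h1)
    have hdvd : M.index ∣ 22 := ⟨N.relIndex M, by rw [← hmul, mul_comm]⟩
    have hcases : M.index = 2 ∨ N.relIndex M = 2 := by
      have hle : M.index ≤ 22 := Nat.le_of_dvd (by norm_num) hdvd
      interval_cases hMi : M.index <;> simp_all <;> omega
    rcases hcases with h2 | h2
    · have hnorm : M.Normal := Subgroup.normal_of_index_eq_two h2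
      rcases h.normal_eq M hnorm with hb | ht
      · rw [hb] at hNM
        exact not_lt_bot hNM
      · exact hM ht
    · have hnorm : (N.subgroupOf M).Normal := by
        apply Subgroup.normal_of_index_eq_two
        exact h2
      apply hNM.not_ge
      intro m hm
      show m ∈ Subgroup.normalizer ((P : Subgroup G) : Set G)
      apply Sylow.smul_eq_iff_mem_normalizer.1
      have hle : ((m • P : Sylow 3 G) : Subgroup G) ≤ N := by
        intro x hx
        rw [mem_smul_iff] at hx
        have hxN : m⁻¹ * x * m ∈ N := Subgroup.le_normalizer hx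
        have hxM : m⁻¹ * x * m ∈ M := hNM.le hxN
        have h1 : (⟨m⁻¹ * x * m, hxM⟩ : M) ∈ N.subgroupOf M := by
          rw [Subgroup.mem_subgroupOf]; exact hxN
        have h3 := hnorm.conj_mem _ h1 ⟨m, hm⟩
        rw [Subgroup.mem_subgroupOf] at h3
        simp only [Subgroup.coe_mul, Subgroup.coe_inv] at h3
        have : m * (m⁻¹ * x * m) * m⁻¹ = x := by group
        rwa [this] at h3
      have hle2 := le_of_le_normalizer P _ (m • P : Sylow 3 G).isPGroup' hle
      exact (Sylow.ext ((m • P : Sylow 3 G).is_maximal' P.isPGroup' hle2)).symm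

theorem isPreprimitive : MulAction.IsPreprimitive G (Sylow 3 G) := by
  haveI : Fact (Nat.Prime 3) := ⟨by norm_num⟩
  have := h.nontrivial_sylow
  obtain ⟨P⟩ : Nonempty (Sylow 3 G) := inferInstance
  rw [← MulAction.isCoatom_stabilizer_iff_preprimitive G P, Sylow.stabilizer_eq_normalizer]
  exact h.isCoatom_normalizer P

section perm

variable [Fintype (Sylow 3 G)] [DecidableEq (Sylow 3 G)]

theorem sign_eq_one (g : G) :
    Equiv.Perm.sign (MulAction.toPerm g : Equiv.Perm (Sylow 3 G)) = 1 := by
  let f : G →* ℤˣ := Equiv.Perm.sign.comp (MulAction.toPermHom G (Sylow 3 G))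
  rcases h.normal_eq _ (MonoidHom.normal_ker f) with h1 | h1
  · exfalso
    obtain ⟨a, b, hab⟩ := h.nonab
    apply hab
    apply (MonoidHom.ker_eq_bot_iff f).1 h1
    rw [map_mul, map_mul, mul_comm]
  · have : g ∈ f.ker := by rw [h1]; exact Subgroup.mem_top g
    rw [MonoidHom.mem_ker] at this
    exact this

theorem card_sylow_fintype : Fintype.card (Sylow 3 G) = 22 := by
  rw [← Nat.card_eq_fintype_card, h.h22]

/-- Jordan: no element acts as a cycle of prime length `p` with `p + 3 ≤ 22`. -/
theorem jordan_false (g : G) (p : ℕ) (hp : p.Prime) (hpn : p + 3 ≤ 22)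
    (hc : (MulAction.toPerm g : Equiv.Perm (Sylow 3 G)).IsCycle)
    (hs : (MulAction.toPerm g : Equiv.Perm (Sylow 3 G)).support.card = p) : False := by
  haveI : Fact (Nat.Prime 3) := ⟨by norm_num⟩
  set ψ := MulAction.toPermHom G (Sylow 3 G) with hψ
  haveI := h.isPreprimitive
  have hprim : MulAction.IsPreprimitive ψ.range (Sylow 3 G) := by
    let f : Sylow 3 G →ₑ[(ψ.rangeRestrict : G → ψ.range)] Sylow 3 G :=
      { toFun := id
        map_smul' := fun m x => rfl }
    exact MulAction.IsPreprimitive.of_surjective (f := f) Function.surjective_id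
  have hcard := h.card_sylow_fintype
  have halt := Cfsg.Agent.Lib.Lead.JordanCycle.jordan_prime_cycle ψ.range hprim hp
    (by rw [hcard]; exact hpn) hc hs ⟨g, rfl⟩
  -- five distinct points
  let e : Sylow 3 G ≃ Fin 22 := Fintype.equivFinOfCardEq hcard
  set P := e.symm 0 with hP
  set a := e.symm 1 with ha
  set b := e.symm 2 with hb
  set c := e.symm 3 with hcc
  set d := e.symm 4 with hd
  have hne : ∀ i j : Fin 22, i ≠ j → e.symm i ≠ e.symm j := fun i j hij hh =>
    hij (e.symm.injective hh)
  have hPa : P ≠ a := hne _ _ (by decide)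
  have hPb : P ≠ b := hne _ _ (by decide)
  have hPc : P ≠ c := hne _ _ (by decide)
  have hPd : P ≠ d := hne _ _ (by decide)
  have hab : a ≠ b := hne _ _ (by decide)
  have hac : a ≠ c := hne _ _ (by decide)
  have had : a ≠ d := hne _ _ (by decide)
  have hbc : b ≠ c := hne _ _ (by decide)
  have hbd : b ≠ d := hne _ _ (by decide)
  have hcd : c ≠ d := hne _ _ (by decide)
  -- two three-cycles fixing `P`
  set s : Equiv.Perm (Sylow 3 G) := Equiv.swap b a * Equiv.swap b c with hs'
  set t : Equiv.Perm (Sylow 3 G) := Equiv.swap c b * Equiv.swap c d with ht'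
  have hs3 : s.IsThreeCycle := Equiv.Perm.isThreeCycle_swap_mul_swap_same hab.symm hbc hac
  have ht3 : t.IsThreeCycle := Equiv.Perm.isThreeCycle_swap_mul_swap_same hbc.symm hcd hbd
  have key : ∀ u : Equiv.Perm (Sylow 3 G), u.IsThreeCycle → u P = P →
      ∃ x : G, x ∈ (P : Subgroup G) ∧ ψ x = u := by
    intro u hu huP
    obtain ⟨x, hx⟩ := halt hu.mem_alternatingGroup
    refine ⟨x, ?_, hx⟩
    have hxP : x • P = P := by
      have := congrArg (fun σ : Equiv.Perm (Sylow 3 G) => σ P) hx
      simpa [hψ] using this.trans huP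
    have hx3 : x ^ 3 ^ 1 = 1 := by
      apply h.toPermHom_injective
      have hu3 : u ^ 3 = 1 := by
        have := pow_orderOf_eq_one u
        rwa [hu.orderOf] at this
      rw [map_pow, map_one, ← hψ, hx, pow_one, hu3]
    exact three_elt_mem P (Sylow.smul_eq_iff_mem_normalizer.1 hxP) 1 hx3
  have hsP : s P = P := by
    simp only [hs', Equiv.Perm.mul_apply]
    rw [Equiv.swap_apply_of_ne_of_ne hPb hPc, Equiv.swap_apply_of_ne_of_ne hPb hPa]
  have htP : t P = P := by
    simp only [ht', Equiv.Perm.mul_apply]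
    rw [Equiv.swap_apply_of_ne_of_ne hPc hPd, Equiv.swap_apply_of_ne_of_ne hPc hPb]
  obtain ⟨x, hxP, hxs⟩ := key s hs3 hsP
  obtain ⟨y, hyP, hyt⟩ := key t ht3 htP
  -- the product is a double transposition
  have hst : s * t = Equiv.swap a b * Equiv.swap c d := by
    rw [hs', ht', Equiv.swap_comm c b, mul_assoc, ← mul_assoc (Equiv.swap b c), Equiv.swap_mul_self,
      one_mul, Equiv.swap_comm b a]
  have hxy : x * y ∈ (P : Subgroup G) := mul_mem hxP hyP
  obtain ⟨k, hk⟩ := P.isPGroup' ⟨x * y, hxy⟩
  have hk' : (x * y) ^ 3 ^ k = 1 := by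
    have := congrArg Subtype.val hk
    simpa using this
  have hu : (s * t) ^ 3 ^ k = 1 := by
    rw [← hxs, ← hyt, ← map_mul, ← map_pow, hk', map_one]
  have hu2 : (s * t) ^ 2 = 1 := by
    rw [hst, pow_two]
    have hcomm : Equiv.swap a b * Equiv.swap c d = Equiv.swap c d * Equiv.swap a b := by
      ext z
      simp only [Equiv.Perm.mul_apply]
      by_cases hza : z = a
      · subst hza
        rw [Equiv.swap_apply_of_ne_of_ne hac had, Equiv.swap_apply_left,
          Equiv.swap_apply_of_ne_of_ne hbc hbd]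
      by_cases hzb : z = b
      · subst hzb
        rw [Equiv.swap_apply_of_ne_of_ne hbc hbd, Equiv.swap_apply_right,
          Equiv.swap_apply_of_ne_of_ne hac had]
      by_cases hzc : z = c
      · subst hzc
        rw [Equiv.swap_apply_left, Equiv.swap_apply_of_ne_of_ne hac.symm hbc.symm,
          Equiv.swap_apply_of_ne_of_ne had.symm hbd.symm, Equiv.swap_apply_left]
      by_cases hzd : z = d
      · subst hzd
        rw [Equiv.swap_apply_right, Equiv.swap_apply_of_ne_of_ne had.symm hbd.symm,
          Equiv.swap_apply_of_ne_of_ne hac.symm hbc.symm, Equiv.swap_apply_right]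
      rw [Equiv.swap_apply_of_ne_of_ne hzc hzd, Equiv.swap_apply_of_ne_of_ne hza hzb,
        Equiv.swap_apply_of_ne_of_ne hzc hzd]
    calc Equiv.swap a b * Equiv.swap c d * (Equiv.swap a b * Equiv.swap c d)
        = Equiv.swap a b * Equiv.swap c d * (Equiv.swap c d * Equiv.swap a b) := by rw [hcomm]
      _ = 1 := by
        rw [mul_assoc, ← mul_assoc (Equiv.swap c d), Equiv.swap_mul_self, one_mul,
          Equiv.swap_mul_self]
  have hord : orderOf (s * t) ∣ 1 := by
    have h1 : orderOf (s * t) ∣ 3 ^ k := orderOf_dvd_of_pow_eq_one hu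
    have h2 : orderOf (s * t) ∣ 2 := orderOf_dvd_of_pow_eq_one hu2
    have h3 : Nat.Coprime (3 ^ k) 2 := Nat.Coprime.pow_left k (by norm_num)
    have := Nat.dvd_gcd h1 h2
    rwa [h3] at this
  have hone : s * t = 1 := orderOf_eq_one_iff.1 (Nat.dvd_one.1 hord)
  have := congrArg (fun σ : Equiv.Perm (Sylow 3 G) => σ a) hone
  rw [hst] at this
  simp only [Equiv.Perm.mul_apply, Equiv.Perm.coe_one, id_eq] at this
  rw [Equiv.swap_apply_of_ne_of_ne hac had, Equiv.swap_apply_left] at this
  exact hab this.symm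

end perm

end Hyp

end Cfsg.Agent.Lib.Helper3.Syl22B
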