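import Mathlib
import Cfsg.Agent.Lib.Helper3.Syl22B

/-!
# Twenty-two Sylow 3-subgroups in a simple group: the orbit shapes and elements of order five

The shape with three close Sylow subgroups is impossible; an element of order five normalising a
Sylow `3`-subgroup is excluded in the shape `(12, 9)`, and has exactly seven fixed points in the
shape `(21, 0)`.
-/

open scoped Pointwise

namespace Cfsg.Agent.Lib.Helper3.Syl22C

open Cfsg.Agent.Lib.Helper3.Syl21A Cfsg.Agent.Lib.Helper3.Syl22A Cfsg.Agent.Lib.Helper3.Syl22B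

variable {G : Type*} [Group G] [Finite G]

section generic

variable {Ω : Type*} [MulAction G Ω] [Fintype Ω] [DecidableEq Ω]

theorem card_modEq_fixed (p : ℕ) [Fact p.Prime] (z : G) (hzp : z ^ p = 1) (S : Finset Ω)
    (hS : ∀ A, z • A ∈ S ↔ A ∈ S) :
    S.card ≡ (S.filter (fun A => z • A = A)).card [MOD p] := by
  have hσ : (MulAction.toPerm z : Equiv.Perm Ω) ^ p = 1 := by
    have : (MulAction.toPermHom G Ω) z ^ p = 1 := by rw [← map_pow, hzp, map_one]
    exact this
  exact card_modEq_filter_fixed (MulAction.toPerm z) p hσ S hS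

theorem forall_fixed_of_card_filter_eq {S : Finset Ω} {z : G}
    (hc : (S.filter (fun A => z • A = A)).card = S.card) : ∀ A ∈ S, z • A = A := by
  intro A hA
  have hEq : S.filter (fun A => z • A = A) = S :=
    Finset.eq_of_subset_of_card_le (Finset.filter_subset _ _) (by rw [hc])
  rw [← hEq, Finset.mem_filter] at hA
  exact hA.2

end generic

section T

variable [Fintype (Sylow 3 G)] [DecidableEq (Sylow 3 G)]

/-- when `T3 P` has three elements it is a single orbit of `P`. -/
theorem exists_smul_eq_of_card_T3 (P Q R : Sylow 3 G) (hQ : Q ∈ T3 P) (hR : R ∈ T3 P)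
    (h3 : (T3 P).card = 3) : ∃ c ∈ (P : Subgroup G), R = c • Q := by
  haveI : Fact (Nat.Prime 3) := ⟨by norm_num⟩
  set O : Finset (Sylow 3 G) :=
    (Set.toFinite (MulAction.orbit ↥(P : Subgroup G) Q)).toFinset with hO
  have hmemO : ∀ A, A ∈ O ↔ A ∈ MulAction.orbit ↥(P : Subgroup G) Q := fun A => by
    rw [hO, Set.Finite.mem_toFinset]
  have hOS : O ⊆ T3 P := by
    intro A hA
    rw [hmemO, MulAction.mem_orbit_iff] at hA
    obtain ⟨x, rfl⟩ := hA
    have h1 := smul_mem_T3 (x : G) hQ
    rw [Sylow.smul_eq_iff_mem_normalizer.2 (Subgroup.le_normalizer x.2)] at h1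
    exact h1
  have hOcard : O.card = 3 := by
    rw [hO, ← Set.ncard_eq_toFinset_card _ _, orbit_ncard]; exact (mem_T3.1 hQ).2
  have hEq : O = T3 P := Finset.eq_of_subset_of_card_le hOS (by rw [h3, hOcard])
  rw [← hEq, hmemO, MulAction.mem_orbit_iff] at hR
  obtain ⟨x, rfl⟩ := hR
  exact ⟨(x : G), x.2, rfl⟩

theorem inf_eq_of_card_T3 (P Q R : Sylow 3 G) (hQ : Q ∈ T3 P) (hR : R ∈ T3 P)
    (h3 : (T3 P).card = 3) : (P : Subgroup G) ⊓ R = (P : Subgroup G) ⊓ Q := by
  obtain ⟨c, hc, rfl⟩ := exists_smul_eq_of_card_T3 P Q R hQ hR h3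
  exact inf_smul_eq3 Q P (mem_T3.1 hQ).2 c hc

theorem normalizer_le_normalizer_inf (P Q : Sylow 3 G) (hQ : Q ∈ T3 P) (h3 : (T3 P).card = 3) :
    Subgroup.normalizer ((P : Subgroup G) : Set G) ≤
      Subgroup.normalizer ((((P : Subgroup G) ⊓ (Q : Subgroup G) : Subgroup G)) : Set G) := by
  haveI : Fact (Nat.Prime 3) := ⟨by norm_num⟩
  have key : ∀ n ∈ Subgroup.normalizer ((P : Subgroup G) : Set G),
      ∀ g ∈ (P : Subgroup G) ⊓ (Q : Subgroup G),
        n * g * n⁻¹ ∈ (P : Subgroup G) ⊓ (Q : Subgroup G) := by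
    intro n hn g hg
    have hnP : n • P = P := Sylow.smul_eq_iff_mem_normalizer.2 hn
    have hnQ : n • Q ∈ T3 P := by
      have h1 := smul_mem_T3 n hQ
      rw [hnP] at h1
      exact h1
    have hinf := inf_eq_of_card_T3 P Q (n • Q) hQ hnQ h3
    rw [← hinf, Subgroup.mem_inf]
    rw [Subgroup.mem_inf] at hg
    constructor
    · exact (Subgroup.mem_normalizer_iff.1 hn g).1 hg.1
    · rw [mem_smul_iff]
      have h2 : n⁻¹ * (n * g * n⁻¹) * n = g := by group
      rw [h2]; exact hg.2
  intro n hn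
  rw [Subgroup.mem_normalizer_iff]
  intro g
  constructor
  · exact key n hn g
  · intro hg
    have h1 := key n⁻¹ (inv_mem hn) _ hg
    have h2 : n⁻¹ * (n * g * n⁻¹) * n⁻¹⁻¹ = g := by group
    rwa [h2] at h1

theorem card_T3_ne_three (h : Hyp G) (P : Sylow 3 G) : (T3 P).card ≠ 3 := by
  haveI : Fact (Nat.Prime 3) := ⟨by norm_num⟩
  intro h3
  have hcases := card_T3_add_card_T9 h.h22 P
  have h9 : (T9 P).card = 18 := by omega
  obtain ⟨Q, hQ⟩ : (T3 P).Nonempty := by rw [← Finset.card_pos, h3]; norm_num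
  have hQP : Q ≠ P := (mem_T3.1 hQ).1
  have hrr : rr P Q = 3 := (mem_T3.1 hQ).2
  obtain ⟨g, hg⟩ := MulAction.exists_smul_eq G P Q
  have h3Q : (T3 Q).card = 3 := by rw [← hg, card_T3_smul, h3]
  have hPQ : P ∈ T3 Q := by
    rw [mem_T3]
    exact ⟨hQP.symm, by rw [← rr_symm]; exact hrr⟩
  have h1 := normalizer_le_normalizer_inf P Q hQ h3
  have h2 := normalizer_le_normalizer_inf Q P hPQ h3Q
  rw [inf_comm (Q : Subgroup G) (P : Subgroup G)] at h2
  have hcoatom := h.isCoatom_normalizer P
  rcases hcoatom.le_iff.1 h1 with htop | heq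
  · have hnormal : ((P : Subgroup G) ⊓ (Q : Subgroup G)).Normal :=
      Subgroup.normalizer_eq_top_iff.1 htop
    rcases h.normal_eq ((P : Subgroup G) ⊓ (Q : Subgroup G)) hnormal with hbot | htop'
    · have hc := rr_mul_card P Q
      rw [inf_comm, hbot, Subgroup.card_bot, one_mul, hrr] at hc
      obtain ⟨A, hA⟩ : (T9 P).Nonempty := by rw [← Finset.card_pos, h9]; norm_num
      have hc2 := rr_mul_card P A
      rw [(mem_T9.1 hA).2, ← hc] at hc2
      omega
    · apply hQP
      have hle : (Q : Subgroup G) ≤ P := by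
        have h4 : (⊤ : Subgroup G) ≤ P := by rw [← htop']; exact inf_le_left
        exact le_top.trans h4
      exact (Sylow.ext (Q.is_maximal' P.isPGroup' hle)).symm
  · apply hQP
    have hle : (Q : Subgroup G) ≤ Subgroup.normalizer ((P : Subgroup G) : Set G) := by
      refine Subgroup.le_normalizer.trans ?_
      rw [← heq]; exact h2
    have hle2 := le_of_le_normalizer P _ Q.isPGroup' hle
    exact (Sylow.ext (Q.is_maximal' P.isPGroup' hle2)).symm

theorem smul_mem_T3_iff {P : Sylow 3 G} {z : G} (hz : z • P = P) (A : Sylow 3 G) :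
    z • A ∈ T3 P ↔ A ∈ T3 P := by
  have hz' : z⁻¹ • P = P := by rw [inv_smul_eq_iff, hz]
  constructor
  · intro hA
    have h1 := smul_mem_T3 z⁻¹ hA
    rwa [inv_smul_smul, hz'] at h1
  · intro hA
    have h1 := smul_mem_T3 z hA
    rwa [hz] at h1

theorem smul_mem_T9_iff {P : Sylow 3 G} {z : G} (hz : z • P = P) (A : Sylow 3 G) :
    z • A ∈ T9 P ↔ A ∈ T9 P := by
  have hz' : z⁻¹ • P = P := by rw [inv_smul_eq_iff, hz]
  constructor
  · intro hA
    have h1 := smul_mem_T9 z⁻¹ hA
    rwa [inv_smul_smul, hz'] at h1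
  · intro hA
    have h1 := smul_mem_T9 z hA
    rwa [hz] at h1

omit [Fintype (Sylow 3 G)] [DecidableEq (Sylow 3 G)] in
theorem smul_mem_orbit_of_fix {P : Sylow 3 G} {w : G} (hw : w • P = P) {A B : Sylow 3 G}
    (hwA : w • A = A) (hB : B ∈ MulAction.orbit ↥(P : Subgroup G) A) :
    w • B ∈ MulAction.orbit ↥(P : Subgroup G) A := by
  haveI : Fact (Nat.Prime 3) := ⟨by norm_num⟩
  rw [MulAction.mem_orbit_iff] at hB ⊢
  obtain ⟨y, rfl⟩ := hB
  have hwn : w ∈ Subgroup.normalizer ((P : Subgroup G) : Set G) :=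
    Sylow.smul_eq_iff_mem_normalizer.1 hw
  have hmem : w * (y : G) * w⁻¹ ∈ (P : Subgroup G) :=
    (Subgroup.mem_normalizer_iff.1 hwn y).1 y.2
  refine ⟨⟨w * (y : G) * w⁻¹, hmem⟩, ?_⟩
  show (w * (y : G) * w⁻¹) • A = w • ((y : G) • A)
  have hwA' : w⁻¹ • A = A := by rw [inv_smul_eq_iff, hwA]
  rw [mul_smul, mul_smul, hwA']

theorem fixed_T3_invariant {P : Sylow 3 G} {z : G} (hz : z • P = P) (hz5 : z ^ 5 = 1)
    {A : Sylow 3 G} (hA : A ∈ T3 P) (hzA : z • A = A) {x : G} (hx : x ∈ (P : Subgroup G)) :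
    z • (x • A) = x • A := by
  haveI : Fact (Nat.Prime 3) := ⟨by norm_num⟩
  haveI : Fact (Nat.Prime 5) := ⟨by norm_num⟩
  set O : Finset (Sylow 3 G) :=
    (Set.toFinite (MulAction.orbit ↥(P : Subgroup G) A)).toFinset with hO
  have hmemO : ∀ B, B ∈ O ↔ B ∈ MulAction.orbit ↥(P : Subgroup G) A := fun B => by
    rw [hO, Set.Finite.mem_toFinset]
  have hOcard : O.card = 3 := by
    rw [hO, ← Set.ncard_eq_toFinset_card _ _, orbit_ncard]; exact (mem_T3.1 hA).2
  have hz' : z⁻¹ • P = P := by rw [inv_smul_eq_iff, hz]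
  have hzA' : z⁻¹ • A = A := by rw [inv_smul_eq_iff, hzA]
  have hinv : ∀ B, z • B ∈ O ↔ B ∈ O := by
    intro B
    rw [hmemO, hmemO]
    constructor
    · intro hB
      have h1 := smul_mem_orbit_of_fix hz' hzA' hB
      rwa [inv_smul_smul] at h1
    · intro hB
      exact smul_mem_orbit_of_fix hz hzA hB
  have hmod := card_modEq_fixed 5 z hz5 O hinv
  have hle : (O.filter (fun B => z • B = B)).card ≤ O.card := Finset.card_filter_le _ _
  rw [hOcard] at hmod hle
  have hcard : (O.filter (fun B => z • B = B)).card = O.card := by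
    unfold Nat.ModEq at hmod
    omega
  have hxO : x • A ∈ O := by
    rw [hmemO, MulAction.mem_orbit_iff]; exact ⟨⟨x, hx⟩, rfl⟩
  exact forall_fixed_of_card_filter_eq hcard _ hxO

theorem three_dvd_fixed_T3 {P : Sylow 3 G} {z : G} (hz : z • P = P) (hz5 : z ^ 5 = 1) :
    3 ∣ ((T3 P).filter (fun A => z • A = A)).card := by
  haveI : Fact (Nat.Prime 3) := ⟨by norm_num⟩
  refine dvd_card_of_orbits (P : Subgroup G) 3 _ _ rfl ?_ ?_
  · intro x hx A hA
    rw [Finset.mem_filter] at hA ⊢
    refine ⟨?_, fixed_T3_invariant hz hz5 hA.1 hA.2 hx⟩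
    have h1 := smul_mem_T3 x hA.1
    rwa [Sylow.smul_eq_iff_mem_normalizer.2 (Subgroup.le_normalizer hx)] at h1
  · intro A hA
    rw [orbit_ncard]
    exact (mem_T3.1 (Finset.mem_filter.1 hA).1).2

theorem card_fixed_split (h22 : Nat.card (Sylow 3 G) = 22) (P : Sylow 3 G) (z : G)
    (hz : z • P = P) :
    (Finset.univ.filter (fun A : Sylow 3 G => z • A = A)).card =
      1 + ((T3 P).filter (fun A => z • A = A)).card +
        ((T9 P).filter (fun A => z • A = A)).card := by
  have hEq : Finset.univ.filter (fun A : Sylow 3 G => z • A = A) =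
      insert P ((T3 P).filter (fun A => z • A = A) ∪ (T9 P).filter (fun A => z • A = A)) := by
    ext A
    simp only [Finset.mem_filter, Finset.mem_univ, true_and, Finset.mem_insert, Finset.mem_union]
    constructor
    · intro hA
      by_cases hAP : A = P
      · left; exact hAP
      · right
        rcases rr_three_or_nine h22 P A hAP with h3 | h9
        · left; exact ⟨mem_T3.2 ⟨hAP, h3⟩, hA⟩
        · right; exact ⟨mem_T9.2 ⟨hAP, h9⟩, hA⟩
    · rintro (hAP | ⟨_, hA⟩ | ⟨_, hA⟩)
      · rw [hAP]; exact hz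
      · exact hA
      · exact hA
  have hnot : P ∉ (T3 P).filter (fun A => z • A = A) ∪ (T9 P).filter (fun A => z • A = A) := by
    simp only [Finset.mem_union, Finset.mem_filter, not_or, not_and]
    exact ⟨fun h => absurd rfl (mem_T3.1 h).1, fun h => absurd rfl (mem_T9.1 h).1⟩
  have hdisj : Disjoint ((T3 P).filter (fun A => z • A = A))
      ((T9 P).filter (fun A => z • A = A)) := by
    rw [Finset.disjoint_left]
    intro A h3 h9
    have h3' := (mem_T3.1 (Finset.mem_filter.1 h3).1).2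
    have h9' := (mem_T9.1 (Finset.mem_filter.1 h9).1).2
    omega
  rw [hEq, Finset.card_insert_of_notMem hnot, Finset.card_union_of_disjoint hdisj]
  omega

theorem support_card (h : Hyp G) (z : G) :
    (MulAction.toPerm z : Equiv.Perm (Sylow 3 G)).support.card +
      (Finset.univ.filter (fun A : Sylow 3 G => z • A = A)).card = 22 := by
  have h1 := Finset.card_filter_add_card_filter_not
    (s := (Finset.univ : Finset (Sylow 3 G))) (fun A => z • A = A)
  rw [Finset.card_univ, h.card_sylow_fintype] at h1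
  have h2 : (MulAction.toPerm z : Equiv.Perm (Sylow 3 G)).support =
      Finset.univ.filter (fun A : Sylow 3 G => ¬ z • A = A) := by
    ext A
    simp [Equiv.Perm.mem_support]
  rw [h2]; omega

/-- a non-trivial element of prime order `p ≤ 19` moves at least `2 p` points -/
theorem false_of_support (h : Hyp G) (z : G) (p : ℕ) (hp : p.Prime) (hpn : p + 3 ≤ 22)
    (hzp : z ^ p = 1) (hz1 : z ≠ 1)
    (hs : (MulAction.toPerm z : Equiv.Perm (Sylow 3 G)).support.card < 2 * p) : False := by
  set σ : Equiv.Perm (Sylow 3 G) := MulAction.toPerm z with hσ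
  have hσp : σ ^ p = 1 := by
    have : (MulAction.toPermHom G (Sylow 3 G)) z ^ p = 1 := by rw [← map_pow, hzp, map_one]
    exact this
  have hσ1 : σ ≠ 1 := by
    intro h1
    apply hz1
    apply h.toPermHom_injective
    rw [map_one]; exact h1
  haveI : Fact p.Prime := ⟨hp⟩
  have hord : orderOf σ = p := orderOf_eq_prime hσp hσ1
  have hcyc : σ.IsCycle :=
    Equiv.Perm.isCycle_of_prime_order (by rw [hord]; exact hp) (by rw [hord]; exact hs)
  have hsupp : σ.support.card = p := by rw [← hcyc.orderOf, hord]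
  exact h.jordan_false z p hp hpn hcyc hsupp

theorem exists_fixed (h : Hyp G) (p : ℕ) [Fact p.Prime] (hp : ¬ p ∣ 22) (z : G)
    (hzp : z ^ p = 1) : ∃ A : Sylow 3 G, z • A = A := by
  have hmod := card_modEq_fixed p z hzp (Finset.univ : Finset (Sylow 3 G)) (fun A => by simp)
  rw [Finset.card_univ, h.card_sylow_fintype] at hmod
  by_contra hne
  push Not at hne
  have h0 : (Finset.univ.filter (fun A : Sylow 3 G => z • A = A)) = ∅ :=
    Finset.filter_eq_empty_iff.2 (fun A _ => hne A)
  rw [h0, Finset.card_empty] at hmod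
  exact hp ((Nat.modEq_zero_iff_dvd).1 hmod)

/-- the shape `(12, 9)` admits no element of order five in the normaliser -/
theorem false_of_twelve (h : Hyp G) (P : Sylow 3 G) (h12 : (T3 P).card = 12) (z : G)
    (hz : z • P = P) (hz5 : z ^ 5 = 1) (hz1 : z ≠ 1) : False := by
  haveI : Fact (Nat.Prime 5) := ⟨by norm_num⟩
  have hsplit := card_fixed_split h.h22 P z hz
  have h9 : (T9 P).card = 9 := by
    have := card_T3_add_card_T9 h.h22 P
    omega
  have hdvd : 3 ∣ ((T3 P).filter (fun A => z • A = A)).card := three_dvd_fixed_T3 hz hz5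
  have hmod3 := card_modEq_fixed 5 z hz5 (T3 P) (smul_mem_T3_iff hz)
  have hle3 := Finset.card_filter_le (T3 P) (fun A => z • A = A)
  have hmod9 := card_modEq_fixed 5 z hz5 (T9 P) (smul_mem_T9_iff hz)
  have hle9 := Finset.card_filter_le (T9 P) (fun A => z • A = A)
  rw [h12] at hmod3 hle3
  rw [h9] at hmod9 hle9
  unfold Nat.ModEq at hmod3 hmod9
  have hF3 : ((T3 P).filter (fun A => z • A = A)).card = 12 := by omega
  have hF9 : ((T9 P).filter (fun A => z • A = A)).card = 4 ∨
      ((T9 P).filter (fun A => z • A = A)).card = 9 := by omega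
  rcases hF9 with h4 | h9'
  · have hsupp := support_card h z
    exact false_of_support h z 5 (by norm_num) (by norm_num) hz5 hz1 (by omega)
  · apply hz1
    apply h.eq_one_of_forall_smul
    intro Q
    by_cases hQP : Q = P
    · rw [hQP]; exact hz
    · rcases rr_three_or_nine h.h22 P Q hQP with h3 | h9''
      · exact forall_fixed_of_card_filter_eq (by rw [hF3, h12]) Q (mem_T3.2 ⟨hQP, h3⟩)
      · exact forall_fixed_of_card_filter_eq (by rw [h9', h9]) Q (mem_T9.2 ⟨hQP, h9''⟩)

/-- in the shape `(21, 0)` an element of order five has exactly seven fixed points -/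
theorem card_fixed_eq_seven (h : Hyp G) (h21 : ∀ C : Sylow 3 G, (T3 C).card = 21) (z : G)
    (hz5 : z ^ 5 = 1) (hz1 : z ≠ 1) :
    (Finset.univ.filter (fun A : Sylow 3 G => z • A = A)).card = 7 := by
  haveI : Fact (Nat.Prime 5) := ⟨by norm_num⟩
  obtain ⟨P, hz⟩ := exists_fixed h 5 (by norm_num) z hz5
  have hsplit := card_fixed_split h.h22 P z hz
  have h9 : (T9 P).card = 0 := by
    have h1 := card_T3_add_card_T9 h.h22 P
    have h2 := h21 P
    omega
  have hF9 : ((T9 P).filter (fun A => z • A = A)).card = 0 := by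
    have := Finset.card_filter_le (T9 P) (fun A => z • A = A)
    omega
  have hdvd : 3 ∣ ((T3 P).filter (fun A => z • A = A)).card := three_dvd_fixed_T3 hz hz5
  have hmod := card_modEq_fixed 5 z hz5 (T3 P) (smul_mem_T3_iff hz)
  have hle := Finset.card_filter_le (T3 P) (fun A => z • A = A)
  rw [h21 P] at hmod hle
  unfold Nat.ModEq at hmod
  have hcases : ((T3 P).filter (fun A => z • A = A)).card = 6 ∨
      ((T3 P).filter (fun A => z • A = A)).card = 21 := by omega
  rcases hcases with h6 | h21'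
  · omega
  · exfalso
    apply hz1
    apply h.eq_one_of_forall_smul
    intro Q
    by_cases hQP : Q = P
    · rw [hQP]; exact hz
    · rcases rr_three_or_nine h.h22 P Q hQP with h3 | h9'
      · exact forall_fixed_of_card_filter_eq (by rw [h21', h21 P]) Q (mem_T3.2 ⟨hQP, h3⟩)
      · exfalso
        have hQ9 : Q ∈ T9 P := mem_T9.2 ⟨hQP, h9'⟩
        rw [Finset.card_eq_zero] at h9
        rw [h9] at hQ9
        exact Finset.notMem_empty _ hQ9

end T

end Cfsg.Agent.Lib.Helper3.Syl22C
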