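import Mathlib
import Cfsg.Agent.Lib.Helper3.Syl22C
import Cfsg.Agent.Lib.Helper3.Irrational

/-!
# Twenty-two Sylow 3-subgroups in a simple group: five does not divide the order

In the shape `(21, 0)` an element of order five has seven fixed points; Burnside's counting lemma
shows that a Sylow `5`-subgroup has order five, a Witt-type argument gives an element of order
seven centralising it, which is then a `7`-cycle: impossible by Jordan's theorem.
-/

open scoped Pointwise

namespace Cfsg.Agent.Lib.Helper3.Syl22D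

open Cfsg.Agent.Lib.Helper3 Cfsg.Agent.Lib.Helper3.Syl21A Cfsg.Agent.Lib.Helper3.Syl22A
  Cfsg.Agent.Lib.Helper3.Syl22B Cfsg.Agent.Lib.Helper3.Syl22C

variable {G : Type*} [Group G] [Finite G]

section generic

/-- Two fixed points of a Sylow subgroup are conjugate under its normaliser. -/
theorem exists_normalizer_smul_eq {p : ℕ} [Fact p.Prime] (S : Sylow p G) {Ω : Type*}
    [MulAction G Ω] [MulAction.IsPretransitive G Ω] (a c : Ω)
    (ha : ∀ s ∈ (S : Subgroup G), s • a = a) (hc : ∀ s ∈ (S : Subgroup G), s • c = c) :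
    ∃ g ∈ Subgroup.normalizer ((S : Subgroup G) : Set G), g • a = c := by
  obtain ⟨x, hx⟩ := MulAction.exists_smul_eq G a c
  have hS : (S : Subgroup G) ≤ MulAction.stabilizer G c :=
    fun s hs => MulAction.mem_stabilizer_iff.2 (hc s hs)
  have hS2 : ((x • S : Sylow p G) : Subgroup G) ≤ MulAction.stabilizer G c := by
    intro s hs
    rw [mem_smul_iff] at hs
    rw [MulAction.mem_stabilizer_iff, ← hx]
    have h1 := ha _ hs
    rw [mul_smul, mul_smul, inv_smul_eq_iff] at h1
    exact h1
  obtain ⟨y, hy⟩ := MulAction.exists_smul_eq (MulAction.stabilizer G c)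
    ((x • S : Sylow p G).subtype hS2) (S.subtype hS)
  rw [Sylow.smul_subtype] at hy
  have hy2 : y • (x • S) = S := Sylow.subtype_injective hy
  refine ⟨(y : G) * x, ?_, ?_⟩
  · apply Sylow.smul_eq_iff_mem_normalizer.1
    rw [mul_smul]; exact hy2
  · rw [mul_smul, hx]
    exact MulAction.mem_stabilizer_iff.1 y.2

/-- The number of fixed points of a cyclic Sylow subgroup divides the order of its normaliser. -/
theorem card_fixed_dvd_card_normalizer {p : ℕ} [Fact p.Prime] (S : Sylow p G) (z : G)
    (hS : (S : Subgroup G) = Subgroup.zpowers z) {Ω : Type*} [MulAction G Ω]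
    [MulAction.IsPretransitive G Ω] [Fintype Ω] [DecidableEq Ω] (a : Ω) (ha : z • a = a) :
    (Finset.univ.filter (fun c : Ω => z • c = c)).card ∣
      Nat.card ↥(Subgroup.normalizer ((Subgroup.zpowers z : Subgroup G) : Set G)) := by
  have hfixS : ∀ c : Ω, z • c = c → ∀ s ∈ (S : Subgroup G), s • c = c := by
    intro c hc s hs
    rw [hS] at hs
    have hle : Subgroup.zpowers z ≤ MulAction.stabilizer G c := by
      rw [Subgroup.zpowers_le]; exact MulAction.mem_stabilizer_iff.2 hc
    exact MulAction.mem_stabilizer_iff.1 (hle hs)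
  have horb : MulAction.orbit
      ↥(Subgroup.normalizer ((Subgroup.zpowers z : Subgroup G) : Set G)) a =
      ↑(Finset.univ.filter (fun c : Ω => z • c = c)) := by
    ext c
    simp only [Finset.coe_filter, Finset.mem_univ, true_and, Set.mem_setOf_eq]
    rw [MulAction.mem_orbit_iff]
    constructor
    · rintro ⟨n, rfl⟩
      have hn := n.2
      rw [Subgroup.mem_normalizer_iff''] at hn
      have h1 : (n : G)⁻¹ * z * n ∈ Subgroup.zpowers z := (hn z).1 (Subgroup.mem_zpowers z)
      have h2 : ((n : G)⁻¹ * z * n) • a = a :=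
        hfixS a ha ((n : G)⁻¹ * z * n) (by rw [hS]; exact h1)
      show z • ((n : G) • a) = (n : G) • a
      have h3 : z • ((n : G) • a) = (n : G) • (((n : G)⁻¹ * z * n) • a) := by
        rw [← mul_smul, ← mul_smul]
        congr 1
        group
      rw [h3, h2]
    · intro hc
      obtain ⟨g, hg, hga⟩ := exists_normalizer_smul_eq S a c (hfixS a ha) (hfixS c hc)
      rw [hS] at hg
      exact ⟨⟨g, hg⟩, hga⟩
  have h1 := MulAction.index_stabilizer
    ↥(Subgroup.normalizer ((Subgroup.zpowers z : Subgroup G) : Set G)) a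
  rw [horb, Set.ncard_coe_finset] at h1
  rw [← h1]
  exact Subgroup.index_dvd_card _

theorem minimalPeriod_le {Ω : Type*} [MulAction G Ω] [Finite Ω] (g : G) (A : Ω) :
    Function.minimalPeriod (g • ·) A ≤ Nat.card Ω := by
  have h1 := Nat.card_congr (MulAction.orbitZPowersEquiv g A)
  rw [Nat.card_zmod] at h1
  rw [← h1]
  exact Finite.card_subtype_le _

theorem dvd_five_or_seven (m : ℕ) (h1 : m ∣ 35) (h2 : m ≤ 22) : m ∣ 5 ∨ m ∣ 7 := by
  have h0 : 0 < m := Nat.pos_of_dvd_of_pos h1 (by norm_num)
  interval_cases m <;> omega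

end generic

theorem pow_eq_one_of_sq (h : Hyp G) (g : G) (p : ℕ) (hp : p.Prime) (hp2 : 22 < p ^ 2)
    (hg : g ^ p ^ 2 = 1) : g ^ p = 1 := by
  apply h.eq_one_of_forall_smul
  intro A
  rw [MulAction.pow_smul_eq_iff_minimalPeriod_dvd]
  have hdvd : Function.minimalPeriod (g • ·) A ∣ p ^ 2 := by
    rw [← MulAction.pow_smul_eq_iff_minimalPeriod_dvd, hg, one_smul]
  have hle : Function.minimalPeriod (g • ·) A ≤ 22 := by
    have h1 := minimalPeriod_le g A
    rwa [h.h22] at h1
  obtain ⟨k, hk, hm⟩ := (Nat.dvd_prime_pow hp).1 hdvd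
  rw [hm] at hle ⊢
  have hk1 : k ≤ 1 := by
    by_contra hlt
    push Not at hlt
    have hk2 : k = 2 := by omega
    rw [hk2] at hle
    omega
  calc p ^ k ∣ p ^ 1 := pow_dvd_pow p hk1
    _ = p := pow_one p

section T

variable [Fintype (Sylow 3 G)] [DecidableEq (Sylow 3 G)]

theorem not_25_dvd (h : Hyp G)
    (hfix : ∀ z : G, z ^ 5 = 1 → z ≠ 1 →
      (Finset.univ.filter (fun A : Sylow 3 G => z • A = A)).card = 7) :
    ¬ 25 ∣ Nat.card G := by
  intro hdvd
  haveI : Fact (Nat.Prime 5) := ⟨by norm_num⟩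
  obtain ⟨F, hF⟩ := Sylow.exists_subgroup_card_pow_prime 5 (n := 2) (G := G)
    (by norm_num; exact hdvd)
  classical
  haveI : Fintype F := Fintype.ofFinite F
  have hcardF : Fintype.card F = 25 := by rw [← Nat.card_eq_fintype_card, hF]; norm_num
  have hpow : ∀ a : F, (a : G) ^ 5 = 1 := by
    intro a
    apply pow_eq_one_of_sq h (a : G) 5 (by norm_num) (by norm_num)
    have h1 : a ^ Nat.card F = 1 := pow_card_eq_one'
    rw [hF] at h1
    have h2 := congrArg Subtype.val h1
    simpa using h2
  haveI : ∀ a : F, Fintype (MulAction.fixedBy (Sylow 3 G) a) := fun a => Fintype.ofFinite _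
  haveI : Fintype (Quotient (MulAction.orbitRel F (Sylow 3 G))) := Fintype.ofFinite _
  have hB := MulAction.sum_card_fixedBy_eq_card_orbits_mul_card_group F (Sylow 3 G)
  have hcard : ∀ a : F, Fintype.card (MulAction.fixedBy (Sylow 3 G) a) =
      (Finset.univ.filter (fun A : Sylow 3 G => (a : G) • A = A)).card := by
    intro a
    refine Fintype.card_of_subtype _ (fun A => ?_)
    rw [Finset.mem_filter, MulAction.mem_fixedBy]
    exact ⟨fun hA => hA.2, fun hA => ⟨Finset.mem_univ _, hA⟩⟩
  have hone : Fintype.card (MulAction.fixedBy (Sylow 3 G) (1 : F)) = 22 := by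
    rw [hcard, Subgroup.coe_one]
    simp [h.card_sylow_fintype]
  have hne : ∀ a ∈ (Finset.univ : Finset F).erase 1,
      Fintype.card (MulAction.fixedBy (Sylow 3 G) a) = 7 := by
    intro a ha
    rw [hcard]
    apply hfix _ (hpow a)
    intro h1
    exact Finset.ne_of_mem_erase ha (Subtype.ext h1)
  rw [← Finset.add_sum_erase Finset.univ _ (Finset.mem_univ (1 : F)), hone,
    Finset.sum_congr rfl hne, Finset.sum_const, Finset.card_erase_of_mem (Finset.mem_univ _),
    Finset.card_univ, hcardF] at hB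
  simp only [smul_eq_mul] at hB
  omega

theorem false_of_21 (h : Hyp G) (h21 : ∀ C : Sylow 3 G, (T3 C).card = 21) (z : G)
    (hz5 : z ^ 5 = 1) (hz1 : z ≠ 1) : False := by
  haveI : Fact (Nat.Prime 5) := ⟨by norm_num⟩
  haveI : Fact (Nat.Prime 7) := ⟨by norm_num⟩
  have hfix := card_fixed_eq_seven h h21
  have h25 := not_25_dvd h hfix
  have hord : orderOf z = 5 := orderOf_eq_prime hz5 hz1
  have h5 : 5 ∣ Nat.card G := by rw [← hord]; exact orderOf_dvd_natCard z
  have hfact : (Nat.card G).factorization 5 = 1 := by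
    have hne : Nat.card G ≠ 0 := Nat.card_pos.ne'
    have h1 : 1 ≤ (Nat.card G).factorization 5 :=
      (Nat.Prime.pow_dvd_iff_le_factorization (by norm_num) hne).1 (by rw [pow_one]; exact h5)
    have h2 : ¬ 2 ≤ (Nat.card G).factorization 5 := fun hh =>
      h25 (by
        have h3 := (Nat.Prime.pow_dvd_iff_le_factorization (by norm_num : Nat.Prime 5) hne).2 hh
        norm_num at h3
        exact h3)
    omega
  let S : Sylow 5 G := Sylow.ofCard (Subgroup.zpowers z)
    (by rw [Nat.card_zpowers, hord, hfact, pow_one])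
  have hS : (S : Subgroup G) = Subgroup.zpowers z := rfl
  obtain ⟨a, ha⟩ := exists_fixed h 5 (by norm_num) z hz5
  have hdvd := card_fixed_dvd_card_normalizer S z hS a ha
  rw [hfix z hz5 hz1] at hdvd
  obtain ⟨n, hn⟩ := exists_prime_orderOf_dvd_card' 7 hdvd
  have hn' : orderOf (n : G) = 7 := by rw [Subgroup.orderOf_coe, hn]
  have hcomm : (n : G) * z = z * (n : G) :=
    commute_of_mem_normalizer_zpowers_of_coprime_totient z (n : G) n.2
      (by rw [hn', hord, Nat.totient_prime (by norm_num)]; norm_num)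
  have hn7 : (n : G) ^ 7 = 1 := by rw [← hn']; exact pow_orderOf_eq_one _
  have hmoved : ∀ A : Sylow 3 G, z • A ≠ A → (n : G) • A = A := by
    intro A hzA
    by_contra hnA
    have hc : Commute z (n : G) := hcomm.symm
    have hw35 : (z * (n : G)) ^ 35 = 1 := by
      rw [hc.mul_pow, show 35 = 5 * 7 from rfl, pow_mul, hz5, one_pow, one_mul, mul_comm 5 7,
        pow_mul, hn7, one_pow]
    have hm35 : Function.minimalPeriod ((z * (n : G)) • ·) A ∣ 35 := by
      rw [← MulAction.pow_smul_eq_iff_minimalPeriod_dvd, hw35, one_smul]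
    have hm22 : Function.minimalPeriod ((z * (n : G)) • ·) A ≤ 22 := by
      have h1 := minimalPeriod_le (z * (n : G)) A
      rwa [h.h22] at h1
    rcases dvd_five_or_seven _ hm35 hm22 with h5' | h7'
    · rw [← MulAction.pow_smul_eq_iff_minimalPeriod_dvd, hc.mul_pow, hz5, one_mul] at h5'
      apply hnA
      have h15 : ((n : G) ^ 5) ^ 3 = n := by
        rw [← pow_mul, ← pow_mod_orderOf, hn']
        norm_num
      have hmem : (n : G) ^ 5 ∈ MulAction.stabilizer G A := MulAction.mem_stabilizer_iff.2 h5'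
      have hmem3 := pow_mem hmem 3
      rw [h15] at hmem3
      exact MulAction.mem_stabilizer_iff.1 hmem3
    · rw [← MulAction.pow_smul_eq_iff_minimalPeriod_dvd, hc.mul_pow, hn7, mul_one] at h7'
      apply hzA
      have h21z : (z ^ 7) ^ 3 = z := by
        rw [← pow_mul, ← pow_mod_orderOf, hord]
        norm_num
      have hmem : z ^ 7 ∈ MulAction.stabilizer G A := MulAction.mem_stabilizer_iff.2 h7'
      have hmem3 := pow_mem hmem 3
      rw [h21z] at hmem3
      exact MulAction.mem_stabilizer_iff.1 hmem3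
  have hsupp : (MulAction.toPerm (n : G) : Equiv.Perm (Sylow 3 G)).support ⊆
      Finset.univ.filter (fun A : Sylow 3 G => z • A = A) := by
    intro A hA
    rw [Equiv.Perm.mem_support] at hA
    rw [Finset.mem_filter]
    refine ⟨Finset.mem_univ _, ?_⟩
    by_contra hzA
    exact hA (hmoved A hzA)
  have hcard := Finset.card_le_card hsupp
  rw [hfix z hz5 hz1] at hcard
  have hn1 : (n : G) ≠ 1 := by
    intro h1
    rw [h1, orderOf_one] at hn'
    norm_num at hn'
  exact false_of_support h (n : G) 7 (by norm_num) (by norm_num) hn7 hn1 (by omega)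

end T

theorem five_not_dvd (h : Hyp G) : ¬ 5 ∣ Nat.card G := by
  classical
  haveI : Fact (Nat.Prime 3) := ⟨by norm_num⟩
  haveI : Fact (Nat.Prime 5) := ⟨by norm_num⟩
  haveI : Fintype (Sylow 3 G) := Fintype.ofFinite _
  intro h5
  obtain ⟨P⟩ : Nonempty (Sylow 3 G) := inferInstance
  have hidx := h.index_normalizer P
  have hmul := Subgroup.index_mul_card (Subgroup.normalizer ((P : Subgroup G) : Set G))
  rw [hidx] at hmul
  have h5N : 5 ∣ Nat.card ↥(Subgroup.normalizer ((P : Subgroup G) : Set G)) := by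
    omega
  obtain ⟨z, hz⟩ := exists_prime_orderOf_dvd_card' 5 h5N
  have hzo : orderOf (z : G) = 5 := by rw [Subgroup.orderOf_coe, hz]
  have hz5 : (z : G) ^ 5 = 1 := by rw [← hzo]; exact pow_orderOf_eq_one _
  have hz1 : (z : G) ≠ 1 := by
    intro h1
    rw [h1, orderOf_one] at hzo
    norm_num at hzo
  have hzP : (z : G) • P = P := Sylow.smul_eq_iff_mem_normalizer.2 z.2
  rcases card_T3_cases h.h22 P with h3 | h12 | h21
  · exact card_T3_ne_three h P h3.1
  · exact false_of_twelve h P h12.1 z hzP hz5 hz1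
  · refine false_of_21 h ?_ z hz5 hz1
    intro C
    obtain ⟨g, rfl⟩ := MulAction.exists_smul_eq G P C
    rw [card_T3_smul]; exact h21.1

end Cfsg.Agent.Lib.Helper3.Syl22D
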