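import Mathlib
import Cfsg.Agent.Lib.Helper3.Syl22D
import Cfsg.Agent.Lib.Lead.SylowCount
import Cfsg.Agent.Lib.Helper6.BLSimple

/-!
# Twenty-two Sylow 3-subgroups in a simple group: the prime eleven

Elements of order eleven act without fixed points, a Sylow `11`-subgroup `Y` has order eleven, and
`|N(Y) : C(Y)| = 2`.
-/

open scoped Pointwise

namespace Cfsg.Agent.Lib.Helper3.Syl22E

open Cfsg.Agent.Lib.Helper3 Cfsg.Agent.Lib.Helper3.Syl21A Cfsg.Agent.Lib.Helper3.Syl22A
  Cfsg.Agent.Lib.Helper3.Syl22B Cfsg.Agent.Lib.Helper3.Syl22C Cfsg.Agent.Lib.Helper3.Syl22D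

variable {G : Type*} [Group G] [Finite G]

/-- elements of order eleven have no fixed points -/
theorem smul_ne_of_order_eleven (h : Hyp G) (y : G) (hy11 : y ^ 11 = 1) (hy1 : y ≠ 1)
    (A : Sylow 3 G) : y • A ≠ A := by
  classical
  haveI : Fintype (Sylow 3 G) := Fintype.ofFinite _
  haveI : Fact (Nat.Prime 11) := ⟨by norm_num⟩
  intro hA
  have hmod := card_modEq_fixed 11 y hy11 (Finset.univ : Finset (Sylow 3 G)) (fun A => by simp)
  rw [Finset.card_univ, h.card_sylow_fintype] at hmod
  have hsupp := support_card h y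
  have hpos : 0 < (Finset.univ.filter (fun A : Sylow 3 G => y • A = A)).card :=
    Finset.card_pos.2 ⟨A, by simp [hA]⟩
  unfold Nat.ModEq at hmod
  have hcases : (Finset.univ.filter (fun A : Sylow 3 G => y • A = A)).card = 11 ∨
      (Finset.univ.filter (fun A : Sylow 3 G => y • A = A)).card = 22 := by omega
  rcases hcases with h11 | h22
  · exact false_of_support h y 11 (by norm_num) (by norm_num) hy11 hy1 (by omega)
  · apply hy1
    apply h.eq_one_of_forall_smul
    intro Q
    exact forall_fixed_of_card_filter_eq (S := Finset.univ) (z := y)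
      (by rw [h22, Finset.card_univ, h.card_sylow_fintype]) Q (Finset.mem_univ _)

theorem twentytwo_mul_card (h : Hyp G) (P : Sylow 3 G) :
    22 * Nat.card ↥(Subgroup.normalizer ((P : Subgroup G) : Set G)) = Nat.card G := by
  have hidx := h.index_normalizer P
  have hmul := Subgroup.index_mul_card (Subgroup.normalizer ((P : Subgroup G) : Set G))
  rwa [hidx] at hmul

theorem card_sylow_eleven (h : Hyp G) (Y : Sylow 11 G) : Nat.card Y = 11 := by
  haveI : Fact (Nat.Prime 3) := ⟨by norm_num⟩
  haveI : Fact (Nat.Prime 11) := ⟨by norm_num⟩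
  obtain ⟨P⟩ : Nonempty (Sylow 3 G) := inferInstance
  have hmul := twentytwo_mul_card h P
  have h11 : 11 ∣ Nat.card G := by omega
  have h121 : ¬ 121 ∣ Nat.card G := by
    intro hd
    have h11N : 11 ∣ Nat.card ↥(Subgroup.normalizer ((P : Subgroup G) : Set G)) := by omega
    obtain ⟨y, hy⟩ := exists_prime_orderOf_dvd_card' 11 h11N
    have hyo : orderOf (y : G) = 11 := by rw [Subgroup.orderOf_coe, hy]
    have hy11 : (y : G) ^ 11 = 1 := by rw [← hyo]; exact pow_orderOf_eq_one _
    have hy1 : (y : G) ≠ 1 := by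
      intro h1
      rw [h1, orderOf_one] at hyo
      norm_num at hyo
    exact smul_ne_of_order_eleven h y hy11 hy1 P (Sylow.smul_eq_iff_mem_normalizer.2 y.2)
  have hfact : (Nat.card G).factorization 11 = 1 := by
    have hne : Nat.card G ≠ 0 := Nat.card_pos.ne'
    have h1 : 1 ≤ (Nat.card G).factorization 11 :=
      (Nat.Prime.pow_dvd_iff_le_factorization (by norm_num) hne).1 (by rw [pow_one]; exact h11)
    have h2 : ¬ 2 ≤ (Nat.card G).factorization 11 := fun hh =>
      h121 (by
        have h3 := (Nat.Prime.pow_dvd_iff_le_factorization (by norm_num : Nat.Prime 11) hne).2 hh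
        norm_num at h3
        exact h3)
    omega
  rw [Sylow.card_eq_multiplicity, hfact, pow_one]

theorem relIndex_eq_two (h : Hyp G) (Y : Sylow 11 G) :
    (Subgroup.centralizer ((Y : Subgroup G) : Set G)).relIndex
      (Subgroup.normalizer ((Y : Subgroup G) : Set G)) = 2 := by
  haveI : Fact (Nat.Prime 3) := ⟨by norm_num⟩
  haveI : Fact (Nat.Prime 11) := ⟨by norm_num⟩
  haveI : IsSimpleGroup G := h.simple
  have hY := card_sylow_eleven h Y
  have hdvd := Cfsg.Agent.Lib.Lead.SylowCount.relIndex_centralizer_normalizer_dvd (Y : Subgroup G)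
  haveI hcyc : IsCyclic (Y : Subgroup G) := isCyclic_of_prime_card hY
  have haut : Nat.card (MulAut (Y : Subgroup G)) = 10 := by
    rw [IsCyclic.card_mulAut, hY, Nat.totient_prime (by norm_num)]
  rw [haut] at hdvd
  have hdvdG : (Subgroup.centralizer ((Y : Subgroup G) : Set G)).relIndex
      (Subgroup.normalizer ((Y : Subgroup G) : Set G)) ∣ Nat.card G :=
    (Subgroup.relIndex_dvd_card _ _).trans (Subgroup.card_subgroup_dvd_card _)
  have h5 := five_not_dvd h
  obtain ⟨P⟩ : Nonempty (Sylow 3 G) := inferInstance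
  have hmul := twentytwo_mul_card h P
  have hm1 : (Subgroup.centralizer ((Y : Subgroup G) : Set G)).relIndex
      (Subgroup.normalizer ((Y : Subgroup G) : Set G)) ≠ 1 := by
    intro h1
    have hle : Subgroup.normalizer ((Y : Subgroup G) : Set G) ≤
        Subgroup.centralizer ((Y : Subgroup G) : Set G) := Subgroup.relIndex_eq_one.1 h1
    have hpos : 0 < Nat.card ↥(Subgroup.normalizer ((P : Subgroup G) : Set G)) := Nat.card_pos
    exact Cfsg.Agent.Lib.Helper6.false_of_simple_of_normalizer_le_centralizer 11 Y hY hle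
      (by omega)
  generalize (Subgroup.centralizer ((Y : Subgroup G) : Set G)).relIndex
      (Subgroup.normalizer ((Y : Subgroup G) : Set G)) = m at hdvd hdvdG hm1 ⊢
  have hle : m ≤ 10 := Nat.le_of_dvd (by norm_num) hdvd
  have h5m : ¬ 5 ∣ m := fun hh => h5 (hh.trans hdvdG)
  interval_cases m <;> omega

end Cfsg.Agent.Lib.Helper3.Syl22E
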