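import Mathlib
import Cfsg.Agent.Lib.Helper3.Syl22E
import Cfsg.Agent.Lib.Helper6.BLSimple2
import Cfsg.Agent.Lib.Helper6.PermChar
import Cfsg.Agent.Lib.Helper6.Multiplicity

set_option autoImplicit false
open Cfsg

/-!
# Twenty-two Sylow 3-subgroups in a simple group: the characters of the principal `11`-block

The Brauer--Leonard relations for a Sylow `11`-subgroup with `|N : C| = 2`, paired with the
permutation character on the `22` Sylow `3`-subgroups, force five to divide the group order.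
-/

namespace Cfsg.Agent.Lib.Helper3.Syl22F

open Cfsg.Agent.Lib.Helper6
open Cfsg.Agent.Lib.Helper3 Cfsg.Agent.Lib.Helper3.Syl22B Cfsg.Agent.Lib.Helper3.Syl22C
  Cfsg.Agent.Lib.Helper3.Syl22D Cfsg.Agent.Lib.Helper3.Syl22E

open scoped ComplexConjugate

section small

variable {G : Type*} [Group G] [Finite G]

/-- `bl_small` of helper6, keeping the relation on all `p`-regular elements. -/
theorem bl_small_rel (p : ℕ) [Fact p.Prime] (P : Sylow p G) (hP : Nat.card P = p)
    (m : ℕ) (hm1 : 1 < m) (hm2 : m + 2 < (p - 1) / m)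
    (hCN : (Subgroup.centralizer ((P : Subgroup G) : Set G)).relIndex
      (Subgroup.normalizer ((P : Subgroup G) : Set G)) = m) :
    ∃ (X Y : Finset (Cfsg.IrrCharacter G)) (w : Cfsg.IrrCharacter G → ℤ) (δ : ℤ),
      oneIrr G ∈ X ∧ w (oneIrr G) = 1 ∧
      (∀ χ ∈ X, w χ ≠ 0 ∧ (Cfsg.charDegree (χ : G → ℂ) : ℤ) ≡ w χ [ZMOD p]) ∧
      ∑ χ ∈ X, w χ ^ 2 = (m : ℤ) ∧ (δ = 1 ∨ δ = -1) ∧ Disjoint X Y ∧ Y.card = (p - 1) / m ∧
      ∀ η ∈ Y, ∀ g : G, ¬ p ∣ orderOf g → (δ : ℂ) * (η : G → ℂ) g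
        = ∑ χ ∈ X, (w χ : ℂ) * (χ : G → ℂ) g := by
  classical
  have hp : p.Prime := Fact.out
  obtain ⟨M, hM⟩ := exists_isPModular p
  haveI : Fintype G := Fintype.ofFinite G
  haveI : Fintype ↥(P : Subgroup G) := Fintype.ofFinite _
  have hab : IsMulCommutative P := by
    haveI := isCyclic_of_prime_card hP
    exact ⟨⟨fun a b => IsCyclic.commGroup.mul_comm a b⟩⟩
  haveI : Finite (↥(P : Subgroup G) →* ℂˣ) :=
    Nat.finite_of_card_ne_zero (by rw [card_homs_of_comm hab]; exact Nat.card_pos.ne')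
  haveI : Fintype (↥(P : Subgroup G) →* ℂˣ) := Fintype.ofFinite _
  haveI : Fintype (Cfsg.IrrCharacter G) := Fintype.ofFinite _
  have hm0 : 0 < m := by omega
  have hpm : m * ((p - 1) / m) ≤ p - 1 := Nat.mul_div_le (p - 1) m
  have hm2' : m + 1 < Nat.card P := by
    rw [hP]
    have h1 : m * (m + 3) ≤ p - 1 := le_trans (Nat.mul_le_mul_left m (by omega)) hpm
    have h2 : 2 * (m + 3) ≤ m * (m + 3) := Nat.mul_le_mul_right _ hm1
    omega
  have hfrob : ∀ y : G, y ∈ (P : Subgroup G) → y ≠ 1 →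
      Subgroup.centralizer ({y} : Set G) ⊓ Subgroup.normalizer ((P : Subgroup G) : Set G)
        = Subgroup.centralizer ((P : Subgroup G) : Set G) := by
    intro y hy hy1
    apply le_antisymm
    · intro x hx
      have hxy : x ∈ Subgroup.centralizer ({y} : Set G) := (Subgroup.mem_inf.mp hx).1
      rw [Subgroup.mem_centralizer_iff]
      intro z hz
      have hgen : Subgroup.zpowers (⟨y, hy⟩ : (P : Subgroup G)) = ⊤ := by
        apply zpowers_eq_top_of_prime_card hP
        intro h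
        apply hy1
        exact congrArg Subtype.val h
      have hz' : (⟨z, hz⟩ : (P : Subgroup G)) ∈ Subgroup.zpowers (⟨y, hy⟩ : (P : Subgroup G)) := by
        rw [hgen]
        exact Subgroup.mem_top _
      obtain ⟨k, hk⟩ := Subgroup.mem_zpowers_iff.mp hz'
      have hk' : y ^ k = z := by
        have := congrArg Subtype.val hk
        simpa using this
      have hcomm : y * x = x * y :=
        (Subgroup.mem_centralizer_iff.mp hxy) y (Set.mem_singleton y)
      rw [← hk']
      exact ((Commute.zpow_left (show Commute y x from hcomm) k)).eq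
    · intro x hx
      refine Subgroup.mem_inf.mpr ⟨?_, Subgroup.centralizer_le_normalizer _ hx⟩
      rw [Subgroup.mem_centralizer_iff]
      intro z hz
      rw [Set.mem_singleton_iff] at hz
      rw [hz]
      exact (Subgroup.mem_centralizer_iff.mp hx) y hy
  obtain ⟨D⟩ := exists_blData hM P hab hfrob m hm1 hm2' hCN
  have hcardY := D.card_Y hab hfrob hCN
  rw [hP] at hcardY
  have hY : (p - 1) / m = D.Y.card := by
    rw [← hcardY]
    exact Nat.mul_div_cancel _ hm0
  have hnorm := D.norm_eq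
  have hone := D.one hM
  have h1X : oneIrr G ∈ D.X := by
    rw [D.mem_X]
    exact ⟨oneIrr_mem_principalBlock hM, fun ψ hψ => hone.2 ψ hψ⟩
  have hsumpos : (1 : ℤ) ≤ ∑ χ ∈ D.X, D.w χ ^ 2 := by
    have h1 : D.w (oneIrr G) ^ 2 ≤ ∑ χ ∈ D.X, D.w χ ^ 2 :=
      Finset.single_le_sum (f := fun χ => D.w χ ^ 2) (fun χ _ => sq_nonneg _) h1X
    rw [hone.1] at h1
    simpa using h1
  have hd0 : D.d = 0 := by
    by_contra hd
    have h3 : 1 ≤ D.d ^ 2 := by
      have : 0 < D.d ^ 2 := by positivity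
      omega
    have h4 : ((m : ℤ) + 2) ≤ (D.Y.card : ℤ) - 1 := by
      have : m + 2 < D.Y.card := by rw [← hY]; exact hm2
      omega
    nlinarith [sq_nonneg (D.d - D.δ)]
  have hδδ := D.δ_mul_δ
  have hsum : ∑ χ ∈ D.X, D.w χ ^ 2 = (m : ℤ) := by
    rw [hd0] at hnorm
    have : (0 - D.δ) ^ 2 = 1 := by nlinarith
    rw [this] at hnorm
    linarith
  have hdisj : Disjoint D.X D.Y := by
    unfold BLData.X
    exact Finset.sdiff_disjoint
  refine ⟨D.X, D.Y, D.w, D.δ, h1X, hone.1, ?_, hsum, D.hδ, hdisj, hY.symm, ?_⟩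
  · intro χ hχ
    obtain ⟨hχB, hχΘ⟩ := (D.mem_X χ).mp hχ
    refine ⟨D.w_ne_zero hM hab hfrob χ hχB hχΘ, ?_⟩
    have hval : ∀ y : ↥(P : Subgroup G), y ≠ 1 → (χ : G → ℂ) (y : G) = (D.w χ : ℂ) := by
      intro y hy
      rw [D.val hab χ hχB y hy]
      have : ∑ μ : ↥(P : Subgroup G) →* ℂˣ,
          (if μ ≠ 1 ∧ D.Θ μ = χ then ((μ y : ℂˣ) : ℂ) else 0) = 0 := by
        apply Finset.sum_eq_zero
        intro μ _
        rw [if_neg]
        intro h
        exact hχΘ μ h.1 h.2
      rw [this, mul_zero, add_zero]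
    have hχc := IsIrrCharacter.isCharacter χ.2
    obtain ⟨n, hn⟩ := IsCharacter.classInner_irr_nat
      (IsCharacter.restrict (P : Subgroup G) hχc) (isIrrCharacter_one (G := ↥(P : Subgroup G)))
    unfold Cfsg.classInner at hn
    have hsumP : ∑ y : ↥(P : Subgroup G), (χ : G → ℂ) (y : G)
        = (Cfsg.charDegree (χ : G → ℂ) : ℂ) + ((p : ℂ) - 1) * (D.w χ : ℂ) := by
      rw [← Finset.add_sum_erase Finset.univ _ (Finset.mem_univ (1 : ↥(P : Subgroup G)))]
      have h5 : ∀ y ∈ Finset.univ.erase (1 : ↥(P : Subgroup G)),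
          (χ : G → ℂ) (y : G) = (D.w χ : ℂ) := by
        intro y hy
        exact hval y (Finset.ne_of_mem_erase hy)
      rw [Finset.sum_congr rfl h5, Finset.sum_const, Finset.card_erase_of_mem (Finset.mem_univ _),
        Finset.card_univ, ← Nat.card_eq_fintype_card, hP, Subgroup.coe_one,
        IsCharacter.apply_one_eq_charDegree hχc, nsmul_eq_mul, Nat.cast_sub hp.one_le,
        Nat.cast_one]
    have h6 : ∑ y : ↥(P : Subgroup G), (χ : G → ℂ) (y : G) * conj ((fun _ => (1 : ℂ)) y)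
        = ∑ y : ↥(P : Subgroup G), (χ : G → ℂ) (y : G) := by
      apply Finset.sum_congr rfl
      intro y _
      simp
    rw [h6, hsumP, hP] at hn
    have hp0 : (p : ℂ) ≠ 0 := by exact_mod_cast hp.ne_zero
    have h7 : (Cfsg.charDegree (χ : G → ℂ) : ℂ) + ((p : ℂ) - 1) * (D.w χ : ℂ) = (p : ℂ) * n := by
      field_simp at hn
      linear_combination hn
    have h8 : (Cfsg.charDegree (χ : G → ℂ) : ℤ) + ((p : ℤ) - 1) * D.w χ = (p : ℤ) * n := by
      exact_mod_cast h7
    rw [Int.modEq_iff_dvd]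
    refine ⟨D.w χ - n, ?_⟩
    linear_combination -h8
  · intro η hη g hg
    have hrel := D.pRegular_rel η hη g hg
    rw [hd0] at hrel
    simp only [Int.cast_zero, mul_zero, zero_sub] at hrel
    linear_combination -hrel

theorem permChar_one_eq (h : Hyp G) : permChar G (Sylow 3 G) 1 = 22 := by
  unfold permChar
  have h1 : MulAction.fixedBy (Sylow 3 G) (1 : G) = Set.univ := by
    ext x
    simp
  rw [h1, Nat.card_coe_set_eq, Set.ncard_univ, h.h22]
  norm_num

/-- the permutation character vanishes on `11`-singular elements -/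
theorem permChar_eq_zero (h : Hyp G) (g : G) (hg : 11 ∣ orderOf g) :
    permChar G (Sylow 3 G) g = 0 := by
  obtain ⟨k, hk⟩ := hg
  have hpos : 0 < orderOf g := orderOf_pos g
  have hk0 : k ≠ 0 := by
    rintro rfl
    rw [mul_zero] at hk
    omega
  have hy : orderOf (g ^ k) = 11 := by
    rw [orderOf_pow_of_dvd hk0 ⟨11, by rw [hk, mul_comm]⟩, hk]
    exact Nat.mul_div_cancel _ (Nat.pos_of_ne_zero hk0)
  have hy11 : (g ^ k) ^ 11 = 1 := by rw [← hy]; exact pow_orderOf_eq_one _
  have hy1 : g ^ k ≠ 1 := by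
    intro h1
    rw [h1, orderOf_one] at hy
    norm_num at hy
  have hempty : IsEmpty (MulAction.fixedBy (Sylow 3 G) g) := by
    constructor
    rintro ⟨A, hA⟩
    rw [MulAction.mem_fixedBy] at hA
    have hmem : g ∈ MulAction.stabilizer G A := MulAction.mem_stabilizer_iff.2 hA
    have hmemk := pow_mem hmem k
    exact smul_ne_of_order_eleven h (g ^ k) hy11 hy1 A (MulAction.mem_stabilizer_iff.1 hmemk)
  unfold permChar
  rw [Nat.card_of_isEmpty]
  simp

theorem false_of_hyp (h : Hyp G) : False := by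
  classical
  haveI : Fact (Nat.Prime 11) := ⟨by norm_num⟩
  haveI : Fact (Nat.Prime 3) := ⟨by norm_num⟩
  haveI : IsSimpleGroup G := h.simple
  haveI : Fintype G := Fintype.ofFinite G
  haveI : Fintype (Cfsg.IrrCharacter G) := Fintype.ofFinite _
  have h5 := five_not_dvd h
  obtain ⟨Y0⟩ : Nonempty (Sylow 11 G) := inferInstance
  have hY0 := card_sylow_eleven h Y0
  have hCN := relIndex_eq_two h Y0
  obtain ⟨P0⟩ : Nonempty (Sylow 3 G) := inferInstance
  have hcardG := twentytwo_mul_card h P0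
  have hGnp : ¬ (Nat.card G).Prime := by
    intro hp
    have hpos : 0 < Nat.card ↥(Subgroup.normalizer ((P0 : Subgroup G) : Set G)) := Nat.card_pos
    have h2 : 2 ∣ Nat.card G := by omega
    have h11 : 11 ∣ Nat.card G := by omega
    have e2 := (Nat.prime_dvd_prime_iff_eq Nat.prime_two hp).1 h2
    have e11 := (Nat.prime_dvd_prime_iff_eq (by norm_num : Nat.Prime 11) hp).1 h11
    omega
  obtain ⟨X, Y, w, δ, h1X, hw1, hX, hsum, hδ, hdisj, hYcard, hrel⟩ :=
    bl_small_rel 11 Y0 hY0 2 (by norm_num) (by norm_num) hCN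
  have hYcard5 : Y.card = 5 := by rw [hYcard]
  have hS : ∑ χ ∈ X.erase (oneIrr G), w χ ^ 2 = 1 := by
    have h1 := Finset.add_sum_erase X (fun χ => w χ ^ 2) h1X
    rw [hw1, hsum] at h1
    push_cast at h1
    linarith
  obtain ⟨χ, hχS, hwχ⟩ := exists_of_sum_sq_eq_one (X.erase (oneIrr G)) w
    (fun i hi => (hX i (Finset.mem_of_mem_erase hi)).1) hS
  have hχmem : χ ∈ X.erase (oneIrr G) := by rw [hχS]; exact Finset.mem_singleton_self χ
  have hχX : χ ∈ X := Finset.mem_of_mem_erase hχmem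
  have hχ1 : χ ≠ oneIrr G := Finset.ne_of_mem_erase hχmem
  have hXeq : X = {oneIrr G, χ} := by
    rw [← Finset.insert_erase h1X, hχS]
  -- the permutation character
  have hπc : Cfsg.IsCharacter G (permChar G (Sylow 3 G)) := isCharacter_permChar (Sylow 3 G)
  obtain ⟨mult, hmult, hinner⟩ := IsCharacter.exists_mult hπc
  have hm1 : mult (oneIrr G) = 1 := by
    have h1 := hinner (oneIrr G)
    have h2 : Nat.card (Quotient (MulAction.orbitRel G (Sylow 3 G))) = 1 := by
      rw [Nat.card_eq_one_iff_unique]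
      constructor
      · exact (MulAction.pretransitive_iff_subsingleton_quotient G (Sylow 3 G)).mp inferInstance
      · exact (nonempty_quotient_iff _).mpr inferInstance
    have h3 : Cfsg.classInner (permChar G (Sylow 3 G)) ((oneIrr G : Cfsg.IrrCharacter G) : G → ℂ)
        = 1 := by
      have h4 := classInner_permChar_one (G := G) (Sylow 3 G)
      rw [h2, Nat.cast_one] at h4
      exact h4
    rw [h3] at h1
    exact_mod_cast h1.symm
  have h9 : ∀ θ : Cfsg.IrrCharacter G, (θ : G → ℂ) 1 = (Cfsg.charDegree (θ : G → ℂ) : ℂ) :=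
    fun θ => IsCharacter.apply_one_eq_charDegree (IsIrrCharacter.isCharacter θ.2)
  have hdeg22 : ∑ ψ : Cfsg.IrrCharacter G, mult ψ * Cfsg.charDegree (ψ : G → ℂ) = 22 := by
    have h1 := apply_eq_sum_mult hmult 1
    rw [permChar_one_eq h] at h1
    simp only [h9] at h1
    have h3 : (22 : ℕ) = ∑ ψ : Cfsg.IrrCharacter G, mult ψ * Cfsg.charDegree (ψ : G → ℂ) := by
      exact_mod_cast h1
    exact h3.symm
  have hsubX : ∑ ψ ∈ X, mult ψ * Cfsg.charDegree (ψ : G → ℂ) ≤ 22 := by
    rw [← hdeg22]; exact Finset.sum_le_sum_of_subset (Finset.subset_univ X)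
  have hsubY : ∑ ψ ∈ Y, mult ψ * Cfsg.charDegree (ψ : G → ℂ) ≤ 22 := by
    rw [← hdeg22]; exact Finset.sum_le_sum_of_subset (Finset.subset_univ Y)
  rw [hXeq, Finset.sum_pair (Ne.symm hχ1), hm1, charDegree_oneIrr] at hsubX
  -- the multiplicities of the exceptional characters
  have hkey : ∀ η ∈ Y, δ * (mult η : ℤ) = 1 + w χ * (mult χ : ℤ) := by
    intro η hη
    have hΘ0 : ∀ g : G, ¬ 11 ∣ orderOf g →
        ((δ : ℂ) • (η : G → ℂ) - ∑ χ ∈ X, (w χ : ℂ) • (χ : G → ℂ)) g = 0 := by
      intro g hg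
      simp only [Pi.sub_apply, Pi.smul_apply, Finset.sum_apply, smul_eq_mul]
      rw [hrel η hη g hg, sub_self]
    have hzero : Cfsg.classInner (permChar G (Sylow 3 G))
        ((δ : ℂ) • (η : G → ℂ) - ∑ χ ∈ X, (w χ : ℂ) • (χ : G → ℂ)) = 0 := by
      unfold Cfsg.classInner
      rw [Finset.sum_eq_zero, mul_zero]
      intro g _
      by_cases hg : 11 ∣ orderOf g
      · rw [permChar_eq_zero h g hg, zero_mul]
      · rw [hΘ0 g hg, map_zero, mul_zero]
    rw [classInner_sub_right, classInner_smul_right, classInner_sum_right] at hzero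
    have hsum' : ∑ χ ∈ X, Cfsg.classInner (permChar G (Sylow 3 G)) ((w χ : ℂ) • (χ : G → ℂ))
        = ∑ χ ∈ X, (w χ : ℂ) * (mult χ : ℂ) := by
      apply Finset.sum_congr rfl
      intro χ _
      rw [classInner_smul_right, hinner χ, map_intCast]
    rw [hsum', hinner η, map_intCast, hXeq, Finset.sum_pair (Ne.symm hχ1), hw1, hm1] at hzero
    have h2 : ((δ * (mult η : ℤ) : ℤ) : ℂ) = ((1 + w χ * (mult χ : ℤ) : ℤ) : ℂ) := by
      push_cast
      push_cast at hzero
      linear_combination hzero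
    exact_mod_cast h2
  have hη_deg : ∀ η ∈ Y, δ * (Cfsg.charDegree (η : G → ℂ) : ℤ)
      = 1 + w χ * (Cfsg.charDegree (χ : G → ℂ) : ℤ) := by
    intro η hη
    have h1 := hrel η hη 1 (by rw [orderOf_one]; norm_num)
    simp only [h9] at h1
    rw [hXeq, Finset.sum_pair (Ne.symm hχ1), hw1, charDegree_oneIrr] at h1
    have h2 : ((δ * (Cfsg.charDegree (η : G → ℂ) : ℤ) : ℤ) : ℂ)
        = ((1 + w χ * (Cfsg.charDegree (χ : G → ℂ) : ℤ) : ℤ) : ℂ) := by
      push_cast
      push_cast at h1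
      linear_combination h1
    exact_mod_cast h2
  -- numerical data
  have hd0dvd : Cfsg.charDegree (χ : G → ℂ) ∣ Nat.card G := IsIrrCharacter.charDegree_dvd_card χ.2
  have hd0ne : Cfsg.charDegree (χ : G → ℂ) ≠ 1 := charDegree_ne_one_of_simple hGnp χ hχ1
  have hmod := (hX χ hχX).2
  simp only [Int.ModEq, Nat.cast_ofNat] at hmod
  have hGpos : 0 < Nat.card G := Nat.card_pos
  have hd0pos : 0 < Cfsg.charDegree (χ : G → ℂ) := Nat.pos_of_dvd_of_pos hd0dvd hGpos
  obtain ⟨η, hη⟩ : Y.Nonempty := by rw [← Finset.card_pos, hYcard5]; norm_num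
  have heη := hη_deg η hη
  have haη := hkey η hη
  have hedvd : Cfsg.charDegree (η : G → ℂ) ∣ Nat.card G := IsIrrCharacter.charDegree_dvd_card η.2
  generalize Cfsg.charDegree (χ : G → ℂ) = d0 at *
  generalize mult χ = a0 at *
  rcases hwχ with hw | hw
  · -- w χ = 1
    rw [hw] at hmod hη_deg hkey
    have hd12 : 12 ≤ d0 := by omega
    have hterm : ∀ ψ ∈ Y, 13 ≤ mult ψ * Cfsg.charDegree (ψ : G → ℂ) := by
      intro ψ hψ
      have e1 := hη_deg ψ hψ
      have e2 := hkey ψ hψ
      rcases hδ with hd | hd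
      · rw [hd] at e1 e2
        have h1 : 1 ≤ mult ψ := by omega
        have h2 : 13 ≤ Cfsg.charDegree (ψ : G → ℂ) := by omega
        calc 13 = 1 * 13 := by norm_num
          _ ≤ mult ψ * Cfsg.charDegree (ψ : G → ℂ) := Nat.mul_le_mul h1 h2
      · rw [hd] at e1
        omega
    have hle := Finset.card_nsmul_le_sum Y _ 13 hterm
    rw [hYcard5] at hle
    simp only [smul_eq_mul] at hle
    omega
  · -- w χ = -1
    rw [hw] at hmod heη haη
    have hd10 : 10 ≤ d0 := by omega
    have hδ' : δ = -1 := by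
      rcases hδ with hd | hd
      · rw [hd] at heη
        omega
      · exact hd
    rw [hδ'] at heη haη
    have ha0 : a0 ≤ 2 := by
      by_contra hh
      push Not at hh
      have h30 : 3 * 10 ≤ a0 * d0 := Nat.mul_le_mul hh hd10
      omega
    have ha1 : 1 ≤ a0 := by omega
    have hd0cases : d0 = 10 ∨ (d0 = 21 ∧ a0 = 1) := by
      interval_cases a0
      · omega
      · left; omega
    rcases hd0cases with hd | ⟨hd, -⟩
    · rw [hd] at hd0dvd
      exact h5 (Dvd.dvd.trans (by norm_num) hd0dvd)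
    · have he20 : Cfsg.charDegree (η : G → ℂ) = 20 := by omega
      rw [he20] at hedvd
      exact h5 (Dvd.dvd.trans (by norm_num) hedvd)

end small

end Cfsg.Agent.Lib.Helper3.Syl22F
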