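import Mathlib
import Cfsg.Agent.Lib.Helper3.Syl22F
import Cfsg.Agent.Lib.Helper3.SylCount

/-!
# No finite group has exactly twenty-two Sylow `3`-subgroups

A minimal counterexample is a non-abelian simple group, which `Syl22F.false_of_hyp` excludes.
-/

open scoped Pointwise

namespace Cfsg.Agent.Lib.Helper3.Syl22G

open Cfsg.Agent.Lib.Helper3.Syl21A Cfsg.Agent.Lib.Helper3.Syl22A Cfsg.Agent.Lib.Helper3.Syl22B
  Cfsg.Agent.Lib.Helper3.SylCount Cfsg.Agent.Lib.Helper3.Syl22F

universe u

section generic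

variable {G : Type*} [Group G] [Finite G]

/-- An invariant finset all of whose orbits have size divisible by `m` has cardinality divisible
by `m`. -/
theorem dvd_card_of_dvd_orbits {Ω : Type*} [MulAction G Ω] [Finite Ω] (H : Subgroup G) (m : ℕ) :
    ∀ (n : ℕ) (S : Finset Ω), S.card = n → (∀ x ∈ H, ∀ Q ∈ S, x • Q ∈ S) →
      (∀ Q ∈ S, m ∣ (MulAction.orbit H Q).ncard) → m ∣ S.card := by
  classical
  intro n
  induction n using Nat.strong_induction_on with
  | _ n ih =>
    intro S hn hinv horb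
    rcases S.eq_empty_or_nonempty with rfl | ⟨Q, hQ⟩
    · simp
    · set O : Finset Ω := (Set.toFinite (MulAction.orbit H Q)).toFinset with hO
      have hmemO : ∀ R, R ∈ O ↔ R ∈ MulAction.orbit H Q := fun R => by
        rw [hO, Set.Finite.mem_toFinset]
      have hOS : O ⊆ S := by
        intro R hR
        rw [hmemO] at hR
        obtain ⟨x, rfl⟩ := hR
        exact hinv x x.2 Q hQ
      have hOcard : m ∣ O.card := by
        rw [hO, ← Set.ncard_eq_toFinset_card _ _]; exact horb Q hQ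
      have hS' : (S \ O).card + O.card = S.card := Finset.card_sdiff_add_card_eq_card hOS
      have hQO : Q ∈ O := by rw [hmemO]; exact MulAction.mem_orbit_self Q
      have hpos : 0 < O.card := Finset.card_pos.2 ⟨Q, hQO⟩
      have h1 : m ∣ (S \ O).card := by
        refine ih (S \ O).card (by omega) (S \ O) rfl ?_ ?_
        · intro x hx R hR
          rw [Finset.mem_sdiff] at hR ⊢
          refine ⟨hinv x hx R hR.1, fun h => hR.2 ?_⟩
          rw [hmemO] at h ⊢
          have h2 : R = (⟨x, hx⟩ : H)⁻¹ • ((⟨x, hx⟩ : H) • R) := (inv_smul_smul _ _).symm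
          rw [h2]
          exact MulAction.mem_orbit_of_mem_orbit _ h
        · intro R hR
          exact horb R (Finset.mem_sdiff.1 hR).1
      rw [← hS']
      exact Dvd.dvd.add h1 hOcard

theorem card_sylow_quotient_dvd {p : ℕ} [Fact p.Prime] (K : Subgroup G) [K.Normal] :
    Nat.card (Sylow p (G ⧸ K)) ∣ Nat.card (Sylow p G) := by
  obtain ⟨P⟩ : Nonempty (Sylow p G) := inferInstance
  have hf : Function.Surjective (QuotientGroup.mk' K) := QuotientGroup.mk'_surjective K
  rw [Sylow.card_eq_index_normalizer (P.mapSurjective hf), Sylow.card_eq_index_normalizer P]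
  have h1 : Subgroup.normalizer ((P : Subgroup G) : Set G) ≤
      (Subgroup.normalizer (((P.mapSurjective hf : Sylow p (G ⧸ K)) : Subgroup (G ⧸ K)) :
        Set (G ⧸ K))).comap (QuotientGroup.mk' K) := by
    rw [← Subgroup.map_le_iff_le_comap]
    exact Subgroup.le_normalizer_map _
  have h2 := Subgroup.index_dvd_of_le h1
  rwa [Subgroup.index_comap_of_surjective _ hf] at h2

theorem card_eq_one_of (n : ℕ) (h1 : n ∣ 22) (h2 : n ≡ 1 [MOD 3]) (h3 : n ≠ 22) : n = 1 := by
  have hle : n ≤ 22 := Nat.le_of_dvd (by norm_num) h1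
  have hpos : 0 < n := Nat.pos_of_dvd_of_pos h1 (by norm_num)
  unfold Nat.ModEq at h2
  interval_cases n <;> omega

end generic

section reduction

variable {G : Type u} [Group G] [Finite G]

/-- a minimal counterexample -/
structure MinCex (G : Type u) [Group G] [Finite G] : Prop where
  IH : ∀ (H : Type u) [Group H] [Finite H], Nat.card H < Nat.card G →
    Nat.card (Sylow 3 H) ≠ 22
  h22 : Nat.card (Sylow 3 G) = 22

namespace MinCex

theorem faithful (M : MinCex G) (g : G) (hg : ∀ Q : Sylow 3 G, g • Q = Q) : g = 1 := by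
  haveI : Fact (Nat.Prime 3) := ⟨by norm_num⟩
  have hK₀mem : ∀ k ∈ (MulAction.toPermHom G (Sylow 3 G)).ker, ∀ C : Sylow 3 G, k • C = C := by
    intro k hk C
    rw [MonoidHom.mem_ker] at hk
    have := congrArg (fun σ : Equiv.Perm (Sylow 3 G) => σ C) hk
    simpa using this
  have hK₀ : (MulAction.toPermHom G (Sylow 3 G)).ker = ⊥ := by
    have hnorm : ∀ C : Sylow 3 G, (MulAction.toPermHom G (Sylow 3 G)).ker ≤
        Subgroup.normalizer ((C : Subgroup G) : Set G) := by
      intro C k hk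
      exact Sylow.smul_eq_iff_mem_normalizer.1 (hK₀mem k hk C)
    have hq := card_sylow_quotient (p := 3) (MulAction.toPermHom G (Sylow 3 G)).ker hnorm
    rw [M.h22] at hq
    have hnlt := fun hlt => M.IH (G ⧸ (MulAction.toPermHom G (Sylow 3 G)).ker) hlt hq
    have hmul := Subgroup.card_eq_card_quotient_mul_card_subgroup
      (MulAction.toPermHom G (Sylow 3 G)).ker
    apply Subgroup.eq_bot_of_card_le
    by_contra hcon
    push Not at hcon
    apply hnlt
    have hpos : 0 < Nat.card (G ⧸ (MulAction.toPermHom G (Sylow 3 G)).ker) := Nat.card_pos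
    nlinarith
  have hmem : g ∈ (MulAction.toPermHom G (Sylow 3 G)).ker := by
    rw [MonoidHom.mem_ker]
    ext Q : 1
    simpa using hg Q
  rw [hK₀] at hmem
  exact Subgroup.mem_bot.1 hmem

theorem eq_top_of_le (M : MinCex G) (K : Subgroup G) (hK : K.Normal) (P : Sylow 3 G)
    (hP : (P : Subgroup G) ≤ K) : K = ⊤ := by
  haveI : Fact (Nat.Prime 3) := ⟨by norm_num⟩
  have hall : ∀ C : Sylow 3 G, (C : Subgroup G) ≤ K := by
    intro C c hc
    obtain ⟨g, rfl⟩ := MulAction.exists_smul_eq G P C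
    rw [mem_smul_iff] at hc
    have h1 := hK.conj_mem _ (hP hc) g
    have h2 : g * (g⁻¹ * c * g) * g⁻¹ = c := by group
    rwa [h2] at h1
  have hcard := card_sylow_of_forall_le (p := 3) K hall
  rw [M.h22] at hcard
  apply Subgroup.eq_top_of_le_card
  by_contra hcon
  push Not at hcon
  exact M.IH (↥K) hcon hcard

theorem exists_mul (M : MinCex G) (K : Subgroup G) (hK : K.Normal) (hKbot : K ≠ ⊥)
    (P : Sylow 3 G) (g : G) : ∃ x ∈ (P : Subgroup G), x⁻¹ * g ∈ K := by
  haveI : Fact (Nat.Prime 3) := ⟨by norm_num⟩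
  haveI := hK
  have hf : Function.Surjective (QuotientGroup.mk' K) := QuotientGroup.mk'_surjective K
  have hdvd := card_sylow_quotient_dvd (p := 3) K
  rw [M.h22] at hdvd
  have hmod := card_sylow_modEq_one 3 (G ⧸ K)
  have hlt : Nat.card (G ⧸ K) < Nat.card G := by
    have hmul := Subgroup.card_eq_card_quotient_mul_card_subgroup K
    have h1 : 1 < Nat.card K := (Subgroup.one_lt_card_iff_ne_bot K).2 hKbot
    have hpos : 0 < Nat.card (G ⧸ K) := Nat.card_pos
    nlinarith
  have hne := M.IH (G ⧸ K) hlt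
  have hone := card_eq_one_of _ hdvd hmod hne
  haveI : Subsingleton (Sylow 3 (G ⧸ K)) := (Nat.card_eq_one_iff_unique.1 hone).1
  have hnormal : ((P.mapSurjective hf : Sylow 3 (G ⧸ K)) : Subgroup (G ⧸ K)).Normal :=
    Sylow.normal_of_subsingleton _
  have hLn : (((P.mapSurjective hf : Sylow 3 (G ⧸ K)) : Subgroup (G ⧸ K)).comap
      (QuotientGroup.mk' K)).Normal := hnormal.comap _
  have hPL : (P : Subgroup G) ≤ ((P.mapSurjective hf : Sylow 3 (G ⧸ K)) :
      Subgroup (G ⧸ K)).comap (QuotientGroup.mk' K) := by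
    intro x hx
    rw [Subgroup.mem_comap]
    exact Subgroup.mem_map_of_mem _ hx
  have htop := M.eq_top_of_le _ hLn P hPL
  have hg : g ∈ ((P.mapSurjective hf : Sylow 3 (G ⧸ K)) : Subgroup (G ⧸ K)).comap
      (QuotientGroup.mk' K) := by
    rw [htop]; exact Subgroup.mem_top g
  rw [Subgroup.mem_comap, Sylow.coe_mapSurjective] at hg
  obtain ⟨x, hx, hxg⟩ := Subgroup.mem_map.1 hg
  refine ⟨x, hx, ?_⟩
  exact QuotientGroup.eq.1 hxg

theorem exists_smul_eq (M : MinCex G) (K : Subgroup G) (hK : K.Normal) (hKbot : K ≠ ⊥)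
    (P Q : Sylow 3 G) : ∃ k ∈ K, k • P = Q := by
  haveI : Fact (Nat.Prime 3) := ⟨by norm_num⟩
  obtain ⟨g, hg⟩ := MulAction.exists_smul_eq G P Q
  obtain ⟨x, hx, hxg⟩ := M.exists_mul K hK hKbot P g⁻¹
  refine ⟨g * x, ?_, ?_⟩
  · have h1 := K.inv_mem hxg
    rwa [mul_inv_rev, inv_inv, inv_inv] at h1
  · rw [mul_smul, Sylow.smul_eq_iff_mem_normalizer.2 (Subgroup.le_normalizer hx), hg]

theorem index_stabilizer (M : MinCex G) (K : Subgroup G) (hK : K.Normal) (hKbot : K ≠ ⊥)
    (P : Sylow 3 G) : (MulAction.stabilizer ↥K P).index = 22 := by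
  rw [MulAction.index_stabilizer]
  have h1 : MulAction.orbit ↥K P = Set.univ := by
    ext Q
    simp only [Set.mem_univ, iff_true]
    obtain ⟨k, hk, hkQ⟩ := M.exists_smul_eq K hK hKbot P Q
    exact ⟨⟨k, hk⟩, hkQ⟩
  rw [h1, Set.ncard_univ, M.h22]

theorem three_not_dvd (M : MinCex G) (K : Subgroup G) (hK : K.Normal) (hKbot : K ≠ ⊥)
    (hKtop : K ≠ ⊤) : ¬ 3 ∣ Nat.card K := by
  haveI : Fact (Nat.Prime 3) := ⟨by norm_num⟩
  intro h3
  obtain ⟨R⟩ : Nonempty (Sylow 3 K) := inferInstance
  have hRp : IsPGroup 3 ((R : Subgroup K).map K.subtype) := R.isPGroup'.map K.subtype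
  obtain ⟨P0, hP0⟩ := hRp.exists_le_sylow
  have hR : ∀ r : K, r ∈ (R : Subgroup K) ↔ (r : G) ∈ (P0 : Subgroup G) := by
    have hle : (R : Subgroup K) ≤ (P0 : Subgroup G).subgroupOf K := by
      intro r hr
      rw [Subgroup.mem_subgroupOf]
      exact hP0 (Subgroup.mem_map_of_mem K.subtype hr)
    have hp : IsPGroup 3 ((P0 : Subgroup G).subgroupOf K) := P0.isPGroup'.comap_subtype
    have heq := R.is_maximal' hp hle
    intro r
    rw [← heq, Subgroup.mem_subgroupOf]
  have hAB : MulAction.stabilizer ↥K P0 ≤ MulAction.stabilizer ↥K R := by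
    intro k hk
    rw [MulAction.mem_stabilizer_iff] at hk ⊢
    have hk' : (k : G) • P0 = P0 := hk
    have hkn : (k : G) ∈ Subgroup.normalizer ((P0 : Subgroup G) : Set G) :=
      Sylow.smul_eq_iff_mem_normalizer.1 hk'
    apply Sylow.smul_eq_iff_mem_normalizer.2
    show k ∈ Subgroup.normalizer ((R : Subgroup K) : Set K)
    rw [Subgroup.mem_normalizer_iff]
    intro r
    rw [hR, hR]
    exact Subgroup.mem_normalizer_iff.1 hkn (r : G)
  have hA := M.index_stabilizer K hK hKbot P0
  have hB : (MulAction.stabilizer ↥K R).index = Nat.card (Sylow 3 K) :=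
    MulAction.index_stabilizer_of_transitive ↥K R
  have hdvd : Nat.card (Sylow 3 K) ∣ 22 := by
    rw [← hB, ← hA]; exact Subgroup.index_dvd_of_le hAB
  have hmod := card_sylow_modEq_one 3 K
  have hlt : Nat.card K < Nat.card G := by
    by_contra hcon
    push Not at hcon
    exact hKtop (Subgroup.eq_top_of_le_card K hcon)
  have hne := M.IH K hlt
  have hone := card_eq_one_of _ hdvd hmod hne
  haveI : Subsingleton (Sylow 3 K) := (Nat.card_eq_one_iff_unique.1 hone).1
  have hnormal : (R : Subgroup K).Normal := Sylow.normal_of_subsingleton R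
  have hRbot : (R : Subgroup K) = ⊥ := by
    rw [eq_bot_iff]
    intro r hr
    rw [Subgroup.mem_bot]
    apply Subtype.ext
    rw [Subgroup.coe_one]
    apply M.faithful
    intro Q
    apply Sylow.smul_eq_iff_mem_normalizer.2
    apply Subgroup.le_normalizer
    obtain ⟨k, hk, rfl⟩ := M.exists_smul_eq K hK hKbot P0 Q
    rw [mem_smul_iff]
    have h1 := hnormal.conj_mem r hr (⟨k, hk⟩ : K)⁻¹
    rw [hR] at h1
    simpa using h1
  exact Sylow.ne_bot_of_dvd_card R h3 hRbot

theorem false_of_normal (M : MinCex G) (K : Subgroup G) (hK : K.Normal) (hKbot : K ≠ ⊥)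
    (hKtop : K ≠ ⊤) : False := by
  classical
  haveI : Fact (Nat.Prime 3) := ⟨by norm_num⟩
  haveI : Fact (Nat.Prime 11) := ⟨by norm_num⟩
  haveI := hK
  have h3 := M.three_not_dvd K hK hKbot hKtop
  obtain ⟨P⟩ : Nonempty (Sylow 3 G) := inferInstance
  have hA := M.index_stabilizer K hK hKbot P
  -- `P` acts on the Sylow `11`-subgroups of `K`
  letI : MulAction ↥(P : Subgroup G) (Sylow 11 ↥K) :=
    MulAction.compHom (Sylow 11 ↥K) ((MulAut.conjNormal (H := K)).comp (P : Subgroup G).subtype)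
  have hn11 : ¬ 3 ∣ Nat.card (Sylow 11 ↥K) := by
    obtain ⟨U⟩ : Nonempty (Sylow 11 ↥K) := inferInstance
    intro hd
    exact h3 (hd.trans ((Sylow.card_dvd_index U).trans (Subgroup.index_dvd_card _)))
  obtain ⟨U, hU⟩ := P.isPGroup'.nonempty_fixed_point_of_prime_not_dvd_card (Sylow 11 ↥K) hn11
  have hconj : ∀ x : G, x ∈ (P : Subgroup G) → ∀ u : K, u ∈ (U : Subgroup K) →
      (MulAut.conjNormal x : MulAut K) u ∈ (U : Subgroup K) := by
    intro x hx u hu
    have h1 : (⟨x, hx⟩ : ↥(P : Subgroup G)) • U = U := hU ⟨x, hx⟩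
    have h2 : ((MulAut.conjNormal x : MulAut K) • U : Sylow 11 ↥K) = U := h1
    have h3' : (MulAut.conjNormal x : MulAut K) • u ∈
        (((MulAut.conjNormal x : MulAut K) • U : Sylow 11 ↥K) : Subgroup K) := by
      rw [Sylow.pointwise_smul_def]
      exact Subgroup.smul_mem_pointwise_smul _ _ _ hu
    rw [h2] at h3'
    exact h3'
  -- the orbit of `P` under `U`
  have hstabU : ∀ Q : Sylow 3 G, Q ∈ MulAction.orbit ↥(U : Subgroup ↥K) P ↔
      ∃ u : K, u ∈ (U : Subgroup K) ∧ (u : G) • P = Q := by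
    intro Q
    rw [MulAction.mem_orbit_iff]
    constructor
    · rintro ⟨u, hu⟩
      exact ⟨(u : K), u.2, hu⟩
    · rintro ⟨u, hu, huQ⟩
      exact ⟨⟨u, hu⟩, huQ⟩
  have hOcard : (MulAction.orbit ↥(U : Subgroup ↥K) P).ncard = 11 := by
    rw [← MulAction.index_stabilizer]
    obtain ⟨j, hj⟩ := U.isPGroup'.index (MulAction.stabilizer ↥(U : Subgroup ↥K) P)
    have hle : (MulAction.stabilizer ↥(U : Subgroup ↥K) P).index ≤ 22 := by
      rw [MulAction.index_stabilizer, ← M.h22, ← Set.ncard_univ]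
      exact Set.ncard_le_ncard (Set.subset_univ _) (Set.toFinite _)
    rw [hj] at hle ⊢
    have hj1 : j ≤ 1 := by
      by_contra hlt
      push Not at hlt
      have h2 : 11 ^ 2 ≤ 11 ^ j := Nat.pow_le_pow_right (by norm_num) hlt
      omega
    have hj0 : j ≠ 0 := by
      rintro rfl
      rw [pow_zero] at hj
      have htop : MulAction.stabilizer ↥(U : Subgroup ↥K) P = ⊤ := Subgroup.index_eq_one.1 hj
      have hUA : (U : Subgroup K) ≤ MulAction.stabilizer ↥K P := by
        intro u hu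
        have h4 : (⟨u, hu⟩ : ↥(U : Subgroup ↥K)) ∈
            MulAction.stabilizer ↥(U : Subgroup ↥K) P := by
          rw [htop]; exact Subgroup.mem_top _
        rw [MulAction.mem_stabilizer_iff] at h4 ⊢
        exact h4
      have hd := Subgroup.index_dvd_of_le hUA
      rw [hA] at hd
      exact U.not_dvd_index (Dvd.dvd.trans (by norm_num) hd)
    have hj' : j = 1 := by omega
    rw [hj', pow_one]
  set OF : Finset (Sylow 3 G) :=
    (Set.toFinite (MulAction.orbit ↥(U : Subgroup ↥K) P)).toFinset with hOF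
  have hmemOF : ∀ Q, Q ∈ OF ↔ Q ∈ MulAction.orbit ↥(U : Subgroup ↥K) P := fun Q => by
    rw [hOF, Set.Finite.mem_toFinset]
  have hOFcard : OF.card = 11 := by
    rw [hOF, ← Set.ncard_eq_toFinset_card _ _]; exact hOcard
  have hPOF : P ∈ OF := by rw [hmemOF]; exact MulAction.mem_orbit_self P
  have hScard : (OF.erase P).card = 10 := by
    rw [Finset.card_erase_of_mem hPOF, hOFcard]
  have hinv : ∀ x ∈ (P : Subgroup G), ∀ Q ∈ OF.erase P, x • Q ∈ OF.erase P := by
    intro x hx Q hQ
    rw [Finset.mem_erase] at hQ ⊢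
    have hxP : x • P = P := Sylow.smul_eq_iff_mem_normalizer.2 (Subgroup.le_normalizer hx)
    have hxP' : x⁻¹ • P = P := by rw [inv_smul_eq_iff, hxP]
    constructor
    · intro h
      apply hQ.1
      calc Q = x⁻¹ • (x • Q) := (inv_smul_smul x Q).symm
        _ = x⁻¹ • P := by rw [h]
        _ = P := hxP'
    · have hQ2 := hQ.2
      rw [hmemOF, hstabU] at hQ2 ⊢
      obtain ⟨u, hu, huQ⟩ := hQ2
      refine ⟨(MulAut.conjNormal x : MulAut K) u, hconj x hx u hu, ?_⟩
      rw [MulAut.conjNormal_apply, mul_smul, mul_smul, hxP', huQ]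
  have horb : ∀ Q ∈ OF.erase P, 3 ∣ (MulAction.orbit ↥(P : Subgroup G) Q).ncard := by
    intro Q hQ
    rw [orbit_ncard]
    rcases rr_three_or_nine M.h22 P Q (Finset.ne_of_mem_erase hQ) with h | h <;> rw [h] <;>
      norm_num
  have hdvd := dvd_card_of_dvd_orbits (P : Subgroup G) 3 _ (OF.erase P) rfl hinv horb
  rw [hScard] at hdvd
  omega

theorem false (M : MinCex G) : False := by
  haveI : Fact (Nat.Prime 3) := ⟨by norm_num⟩
  have hsimple : ∀ K : Subgroup G, K.Normal → K = ⊥ ∨ K = ⊤ := by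
    intro K hK
    by_contra hcon
    push Not at hcon
    exact M.false_of_normal K hK hcon.1 hcon.2
  have hnt : Nontrivial (Sylow 3 G) := by
    rw [← Finite.one_lt_card_iff_nontrivial, M.h22]; norm_num
  obtain ⟨P, Q, hPQ⟩ := exists_pair_ne (Sylow 3 G)
  obtain ⟨g, hg⟩ := MulAction.exists_smul_eq G P Q
  have hg1 : g ≠ 1 := by
    rintro rfl
    rw [one_smul] at hg
    exact hPQ hg
  have hs : IsSimpleGroup G :=
    { exists_pair_ne := ⟨g, 1, hg1⟩
      eq_bot_or_eq_top_of_normal := hsimple }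
  have hnonab : ∃ a b : G, a * b ≠ b * a := by
    by_contra hcon
    push Not at hcon
    apply hPQ
    have h1 : g • P = P := by
      apply Sylow.smul_eq_iff_mem_normalizer.2
      show g ∈ Subgroup.normalizer ((P : Subgroup G) : Set G)
      rw [Subgroup.mem_normalizer_iff]
      intro x
      have h2 : g * x * g⁻¹ = x := by rw [hcon g x, mul_inv_cancel_right]
      rw [h2]
    rw [← hg, h1]
  exact false_of_hyp ⟨hs, hnonab, M.h22⟩

end MinCex

end reduction

theorem card_sylow_three_ne : ∀ (n : ℕ) (G : Type u) [Group G] [Finite G],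
    Nat.card G = n → Nat.card (Sylow 3 G) ≠ 22 := by
  intro n
  induction n using Nat.strong_induction_on with
  | _ n ih =>
    intro G _ _ hn h22
    exact MinCex.false ⟨fun H _ _ hlt => ih (Nat.card H) (hn ▸ hlt) H rfl, h22⟩

end Cfsg.Agent.Lib.Helper3.Syl22G
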