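import Cfsg.Prelude.Def_SylowChains
import Cfsg.Agent.Lib.Helper2.SylowControl
import Mathlib

set_option autoImplicit false

/-! # Chains of Sylow subgroups (control of Sylow intersections) as reflexive-transitive closures -/

namespace Cfsg.Agent.Lib.Helper3.SChain

open Cfsg Cfsg.Agent.Lib.Helper2.SC

section Generic

variable {K : Type*} [Group K]

/-- One link of a chain as in `ControlsSylowIntersections`, with lower bound `D`. -/
def Step (p : ℕ) (𝓕 : Set (Subgroup K)) (D : Subgroup K) (S T : Sylow p K) : Prop :=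
  ∃ (X : Subgroup K) (x : K), X ∈ sylowMembers p 𝓕 (S : Subgroup K) ∧
    X ∈ sylowMembers p 𝓕 (T : Subgroup K) ∧ x ∈ X ∧
    subgroupConjRight x (T : Subgroup K) = (S : Subgroup K) ∧ D ≤ (T : Subgroup K) ⊓ X

/-- Connectedness by links. -/
def Conn (p : ℕ) (𝓕 : Set (Subgroup K)) (D : Subgroup K) (S T : Sylow p K) : Prop :=
  Relation.ReflTransGen (Step p 𝓕 D) S T

variable {p : ℕ} {𝓕 : Set (Subgroup K)} {D : Subgroup K}

theorem Conn.refl (S : Sylow p K) : Conn p 𝓕 D S S := Relation.ReflTransGen.refl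

theorem Conn.trans {S T U : Sylow p K} (h1 : Conn p 𝓕 D S T) (h2 : Conn p 𝓕 D T U) :
    Conn p 𝓕 D S U := Relation.ReflTransGen.trans h1 h2

theorem Conn.single {S T : Sylow p K} (h : Step p 𝓕 D S T) : Conn p 𝓕 D S T :=
  Relation.ReflTransGen.single h

theorem Step.mono {𝓕' : Set (Subgroup K)} {D' : Subgroup K} (h𝓕 : 𝓕 ⊆ 𝓕') (hD : D' ≤ D)
    {S T : Sylow p K} (h : Step p 𝓕 D S T) : Step p 𝓕' D' S T := by
  obtain ⟨X, x, h1, h2, h3, h4, h5⟩ := h
  exact ⟨X, x, ⟨h𝓕 h1.1, h1.2⟩, ⟨h𝓕 h2.1, h2.2⟩, h3, h4, hD.trans h5⟩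

theorem Conn.mono {𝓕' : Set (Subgroup K)} {D' : Subgroup K} (h𝓕 : 𝓕 ⊆ 𝓕') (hD : D' ≤ D)
    {S T : Sylow p K} (h : Conn p 𝓕 D S T) : Conn p 𝓕' D' S T := by
  induction h with
  | refl => exact Relation.ReflTransGen.refl
  | tail _ hbc ih => exact ih.tail (hbc.mono h𝓕 hD)

theorem Conn.le_right {S T : Sylow p K} (h : Conn p 𝓕 D S T) (hS : D ≤ (S : Subgroup K)) :
    D ≤ (T : Subgroup K) := by
  induction h with
  | refl => exact hS
  | tail _ hbc _ =>
    obtain ⟨X, x, -, -, -, -, h5⟩ := hbc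
    exact h5.trans inf_le_left

theorem conn_of_chain (n : ℕ) (c : Fin (n + 1) → Sylow p K) (X : Fin n → Subgroup K) (x : Fin n → K)
    (h : ∀ i : Fin n, X i ∈ sylowMembers p 𝓕 (c i.castSucc : Subgroup K) ∧
      X i ∈ sylowMembers p 𝓕 (c i.succ : Subgroup K) ∧ x i ∈ X i ∧
      subgroupConjRight (x i) (c i.succ : Subgroup K) = (c i.castSucc : Subgroup K) ∧
      D ≤ (c i.succ : Subgroup K) ⊓ X i) (i : Fin (n + 1)) : Conn p 𝓕 D (c 0) (c i) := by
  induction i using Fin.induction with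
  | zero => exact Relation.ReflTransGen.refl
  | succ i ih => exact ih.tail ⟨X i, x i, h i⟩

theorem chain_of_conn {S T : Sylow p K} (h : Conn p 𝓕 D S T) :
    ∃ (n : ℕ) (c : Fin (n + 1) → Sylow p K) (X : Fin n → Subgroup K) (x : Fin n → K),
      c 0 = S ∧ c (Fin.last n) = T ∧
      ∀ i : Fin n, X i ∈ sylowMembers p 𝓕 (c i.castSucc : Subgroup K) ∧
        X i ∈ sylowMembers p 𝓕 (c i.succ : Subgroup K) ∧ x i ∈ X i ∧
        subgroupConjRight (x i) (c i.succ : Subgroup K) = (c i.castSucc : Subgroup K) ∧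
        D ≤ (c i.succ : Subgroup K) ⊓ X i := by
  induction h with
  | refl => exact ⟨0, fun _ => S, fun i => i.elim0, fun i => i.elim0, rfl, rfl, fun i => i.elim0⟩
  | @tail b c' _ hbc ih =>
    obtain ⟨n, c, X, x, h0, hl, hst⟩ := ih
    obtain ⟨X₀, x₀, hX⟩ := hbc
    refine ⟨n + 1, Fin.snoc c c', Fin.snoc X X₀, Fin.snoc x x₀, ?_, ?_, ?_⟩
    · have : (0 : Fin (n + 2)) = Fin.castSucc (0 : Fin (n + 1)) := rfl
      rw [this, Fin.snoc_castSucc, h0]
    · exact Fin.snoc_last _ _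
    · intro i
      induction i using Fin.lastCases with
      | last =>
        rw [Fin.snoc_castSucc, Fin.succ_last, Fin.snoc_last, Fin.snoc_last, Fin.snoc_last, hl]
        exact hX
      | cast j =>
        rw [Fin.snoc_castSucc, Fin.succ_castSucc, Fin.snoc_castSucc, Fin.snoc_castSucc,
          Fin.snoc_castSucc]
        exact hst j

theorem controls_iff (p : ℕ) (𝓕 : Set (Subgroup K)) :
    ControlsSylowIntersections p 𝓕 ↔
      ∀ S T : Sylow p K, S ≠ T → (S : Subgroup K) ⊓ (T : Subgroup K) ≠ ⊥ →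
        Conn p 𝓕 ((S : Subgroup K) ⊓ (T : Subgroup K)) S T := by
  constructor
  · intro h S T hST hne
    obtain ⟨n, c, X, x, h0, hl, hst⟩ := h S T hST hne
    have := conn_of_chain n c X x hst (Fin.last n)
    rwa [h0, hl] at this
  · intro h S T hST hne
    obtain ⟨n, c, X, x, h0, hl, hst⟩ := chain_of_conn (h S T hST hne)
    exact ⟨n, c, X, x, h0, hl, hst⟩

end Generic


section Ambient

variable {G : Type*} [Group G]

/-- `Q` is (the image of) a Sylow `p`-subgroup of `M`. -/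
def IsSylIn (p : ℕ) (Q M : Subgroup G) : Prop :=
  Q ≤ M ∧ Nat.card Q = p ^ (Nat.card M).factorization p

/-- image in `G` of a subgroup of `M` -/
abbrev img {M : Subgroup G} (A : Subgroup ↥M) : Subgroup G := A.map M.subtype

theorem img_le {M : Subgroup G} (A : Subgroup ↥M) : img A ≤ M := Subgroup.map_subtype_le _

theorem img_le_img {M : Subgroup G} {A B : Subgroup ↥M} : img A ≤ img B ↔ A ≤ B :=
  Subgroup.map_le_map_iff_of_injective M.subtype_injective

theorem img_injective {M : Subgroup G} : Function.Injective (img (M := M)) :=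
  Subgroup.map_injective M.subtype_injective

theorem img_inf {M : Subgroup G} (A B : Subgroup ↥M) : img (A ⊓ B) = img A ⊓ img B :=
  Subgroup.map_inf _ _ _ M.subtype_injective

theorem img_eq_bot {M : Subgroup G} {A : Subgroup ↥M} : img A = ⊥ ↔ A = ⊥ :=
  Subgroup.map_eq_bot_iff_of_injective _ M.subtype_injective

theorem img_subgroupOf {M D : Subgroup G} (h : D ≤ M) : img (D.subgroupOf M) = D := by
  rw [img, Subgroup.subgroupOf_map_subtype, inf_eq_left.2 h]

theorem mem_img {M : Subgroup G} {A : Subgroup ↥M} {x : ↥M} : (x : G) ∈ img A ↔ x ∈ A := by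
  constructor
  · rintro ⟨y, hy, hxy⟩
    have : y = x := M.subtype_injective hxy
    rwa [← this]
  · intro h
    exact ⟨x, h, rfl⟩

theorem img_scr {M : Subgroup G} (x : ↥M) (A : Subgroup ↥M) :
    img (subgroupConjRight x A) = subgroupConjRight (x : G) (img A) := by
  ext y
  rw [mem_scr_iff, img, img, Subgroup.mem_map, Subgroup.mem_map]
  constructor
  · rintro ⟨z, hz, rfl⟩
    rw [mem_scr_iff] at hz
    exact ⟨x * z * x⁻¹, hz, rfl⟩
  · rintro ⟨z, hz, hzy⟩
    refine ⟨x⁻¹ * z * x, ?_, ?_⟩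
    · rw [mem_scr_iff]
      have : x * (x⁻¹ * z * x) * x⁻¹ = z := by group
      rwa [this]
    · have h2 : ((z : ↥M) : G) = (x : G) * y * (x : G)⁻¹ := hzy
      show ((x⁻¹ * z * x : ↥M) : G) = y
      push_cast
      rw [h2]
      group

variable {p : ℕ}

theorem IsSylIn.le {Q M : Subgroup G} (h : IsSylIn p Q M) : Q ≤ M := h.1

section Fin

set_option linter.unusedSectionVars false

variable [Finite G] [hp : Fact p.Prime]

theorem isSylIn_img {M : Subgroup G} (P : Sylow p ↥M) : IsSylIn p (img (P : Subgroup ↥M)) M :=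
  (exists_sylow_map_eq_iff M _).1 ⟨P, rfl⟩

theorem IsSylIn.exists_sylow {Q M : Subgroup G} (h : IsSylIn p Q M) :
    ∃ P : Sylow p ↥M, img (P : Subgroup ↥M) = Q :=
  (exists_sylow_map_eq_iff M Q).2 h

theorem IsSylIn.isPGroup {Q M : Subgroup G} (h : IsSylIn p Q M) : IsPGroup p Q :=
  IsPGroup.of_card h.2

theorem isSylIn_top (R : Sylow p G) : IsSylIn p (R : Subgroup G) ⊤ := by
  refine ⟨le_top, ?_⟩
  rw [Subgroup.card_top]
  exact R.card_eq_multiplicity

theorem IsSylIn.exists_sylow_top {Q : Subgroup G} (h : IsSylIn p Q ⊤) :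
    ∃ R : Sylow p G, (R : Subgroup G) = Q := by
  have h2 := h.2
  rw [Subgroup.card_top] at h2
  exact ⟨Sylow.ofCard Q h2, Sylow.coe_ofCard _ _⟩

/-- the `p`-part is the same for intermediate subgroups -/
theorem factorization_eq_of_le {A X M : Subgroup G} (hAX : A ≤ X) (hXM : X ≤ M)
    (hA : Nat.card A = p ^ (Nat.card M).factorization p) :
    (Nat.card X).factorization p = (Nat.card M).factorization p := by
  have h1 : Nat.card A ∣ Nat.card X := Subgroup.card_dvd_of_le hAX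
  have h2 : Nat.card X ∣ Nat.card M := Subgroup.card_dvd_of_le hXM
  have hX0 : Nat.card X ≠ 0 := Nat.card_pos.ne'
  have hM0 : Nat.card M ≠ 0 := Nat.card_pos.ne'
  apply le_antisymm
  · exact (Nat.factorization_le_iff_dvd hX0 hM0).2 h2 p
  · rw [hA] at h1
    exact (hp.out.pow_dvd_iff_le_factorization hX0).1 h1

theorem IsSylIn.of_le {Q X M : Subgroup G} (h : IsSylIn p Q M) (hQX : Q ≤ X) (hXM : X ≤ M) :
    IsSylIn p Q X :=
  ⟨hQX, by rw [factorization_eq_of_le hQX hXM h.2]; exact h.2⟩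

theorem IsSylIn.to_le {Q X M : Subgroup G} (h : IsSylIn p Q X) (hXM : X ≤ M)
    (hfac : (Nat.card X).factorization p = (Nat.card M).factorization p) :
    IsSylIn p Q M :=
  ⟨h.1.trans hXM, by rw [← hfac]; exact h.2⟩

theorem IsSylIn.scr {Q M : Subgroup G} (h : IsSylIn p Q M) {m : G} (hm : m ∈ M) :
    IsSylIn p (subgroupConjRight m Q) M := by
  refine ⟨?_, ?_⟩
  · have := scr_mono (g := m) h.1
    rwa [scr_eq_self_of_mem hm] at this
  · rw [card_scr]
    exact h.2

/-- a `p`-subgroup of `M` containing a Sylow `p`-subgroup of `M` equals it -/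
theorem IsSylIn.eq_of_le {Q A M : Subgroup G} (h : IsSylIn p Q M) (hA : IsPGroup p A) (hQA : Q ≤ A)
    (hAM : A ≤ M) : A = Q := by
  symm
  apply Subgroup.eq_of_le_of_card_ge hQA
  obtain ⟨k, hk⟩ := hA.exists_card_eq
  rw [hk, h.2]
  apply Nat.pow_le_pow_right hp.out.pos
  have h1 : Nat.card A ∣ Nat.card M := Subgroup.card_dvd_of_le hAM
  rw [hk] at h1
  exact (hp.out.pow_dvd_iff_le_factorization Nat.card_pos.ne').1 h1

theorem IsSylIn.card_le {Q A M : Subgroup G} (h : IsSylIn p Q M) (hA : IsPGroup p A)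
    (hAM : A ≤ M) : Nat.card A ≤ Nat.card Q := by
  obtain ⟨k, hk⟩ := hA.exists_card_eq
  rw [hk, h.2]
  apply Nat.pow_le_pow_right hp.out.pos
  have h1 : Nat.card A ∣ Nat.card M := Subgroup.card_dvd_of_le hAM
  rw [hk] at h1
  exact (hp.out.pow_dvd_iff_le_factorization Nat.card_pos.ne').1 h1

theorem exists_isSylIn_ge {A M : Subgroup G} (hA : IsPGroup p A) (hAM : A ≤ M) :
    ∃ Q, IsSylIn p Q M ∧ A ≤ Q := by
  have hA' : IsPGroup p (A.subgroupOf M) := hA.comap_subtype
  obtain ⟨P, hP⟩ := hA'.exists_le_sylow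
  refine ⟨img (P : Subgroup ↥M), isSylIn_img P, ?_⟩
  rw [← img_subgroupOf hAM]
  exact img_le_img.2 hP

theorem exists_sylow_ge {A : Subgroup G} (hA : IsPGroup p A) :
    ∃ R : Sylow p G, A ≤ (R : Subgroup G) := hA.exists_le_sylow

theorem IsSylIn.exists_conj {Q₁ Q₂ M : Subgroup G} (h₁ : IsSylIn p Q₁ M) (h₂ : IsSylIn p Q₂ M) :
    ∃ m ∈ M, subgroupConjRight m Q₂ = Q₁ := by
  obtain ⟨P₁, rfl⟩ := h₁.exists_sylow
  obtain ⟨P₂, rfl⟩ := h₂.exists_sylow
  obtain ⟨m, hm⟩ := MulAction.exists_smul_eq M P₂ P₁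
  refine ⟨(m⁻¹ : ↥M), (m⁻¹ : ↥M).2, ?_⟩
  rw [← img_scr, ← hm]
  have : ((m • P₂ : Sylow p ↥M) : Subgroup ↥M) = subgroupConjRight m⁻¹ (P₂ : Subgroup ↥M) := by
    have := coe_inv_smul_sylow P₂ m⁻¹
    rwa [inv_inv] at this
  rw [this]

theorem sylow_scr (R : Sylow p G) (g : G) :
    ((g⁻¹ • R : Sylow p G) : Subgroup G) = subgroupConjRight g (R : Subgroup G) := rfl

theorem lt_inf_normalizer {R T : Subgroup G}
    (hT : IsPGroup p T) (hlt : R < T) : R < T ⊓ Subgroup.normalizer (R : Set G) := by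
  have : Group.IsNilpotent T := hT.isNilpotent
  have nc := Group.normalizerCondition_of_isNilpotent (G := T)
  have h1 : R.subgroupOf T < ⊤ := by
    rw [lt_top_iff_ne_top, Ne, Subgroup.subgroupOf_eq_top]
    exact not_le_of_gt hlt
  have h2 := nc _ h1
  rw [← Subgroup.subgroupOf_normalizer_eq hlt.le] at h2
  obtain ⟨x, hx, hxR⟩ := SetLike.exists_of_lt h2
  rw [Subgroup.mem_subgroupOf] at hx hxR
  apply lt_of_le_of_ne (le_inf hlt.le Subgroup.le_normalizer)
  intro he
  apply hxR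
  rw [he]
  exact ⟨x.2, hx⟩

end Fin

end Ambient


section Functor

variable {G : Type*} [Group G] {p : ℕ}

/-- One link for the family induced by `f` in `M`, expressed in the ambient group. -/
def MStep (p : ℕ) (f : Subgroup G → Set (Subgroup G)) (M D Q₁ Q₂ : Subgroup G) : Prop :=
  IsSylIn p Q₁ M ∧ IsSylIn p Q₂ M ∧ ∃ F, F ∈ f Q₁ ∧ F ∈ f Q₂ ∧ ∃ y, y ∈ M ∧
    y ∈ Subgroup.normalizer (F : Set G) ∧ subgroupConjRight y Q₂ = Q₁ ∧ D ≤ Q₂

def MConn (p : ℕ) (f : Subgroup G → Set (Subgroup G)) (M D Q₁ Q₂ : Subgroup G) : Prop :=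
  Relation.ReflTransGen (MStep p f M D) Q₁ Q₂

variable {f : Subgroup G → Set (Subgroup G)}

theorem MStep.mono {M D D' Q₁ Q₂ : Subgroup G} (hD : D' ≤ D) (h : MStep p f M D Q₁ Q₂) :
    MStep p f M D' Q₁ Q₂ := by
  obtain ⟨h1, h2, F, h3, h4, y, h5, h6, h7, h8⟩ := h
  exact ⟨h1, h2, F, h3, h4, y, h5, h6, h7, hD.trans h8⟩

theorem MConn.mono {M D D' Q₁ Q₂ : Subgroup G} (hD : D' ≤ D) (h : MConn p f M D Q₁ Q₂) :
    MConn p f M D' Q₁ Q₂ := by
  induction h with
  | refl => exact Relation.ReflTransGen.refl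
  | tail _ hbc ih => exact ih.tail (hbc.mono hD)

theorem MConn.trans {M D Q₁ Q₂ Q₃ : Subgroup G} (h1 : MConn p f M D Q₁ Q₂)
    (h2 : MConn p f M D Q₂ Q₃) : MConn p f M D Q₁ Q₃ := Relation.ReflTransGen.trans h1 h2

theorem scr_eq_map (g : G) (X : Subgroup G) :
    subgroupConjRight g X = X.map (MulAut.conj g⁻¹).toMonoidHom := rfl

theorem map_conj_eq_scr (g : G) (X : Subgroup G) :
    X.map (MulAut.conj g).toMonoidHom = subgroupConjRight g⁻¹ X := by
  rw [scr_eq_map, inv_inv]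

theorem functor_le (hf : IsNormalizerFunctor p f) {P F : Subgroup G} (hP : IsPGroup p P)
    (hF : F ∈ f P) : F ≤ P := ((hf P hP).1 F hF).1

theorem functor_normalizer_le (hf : IsNormalizerFunctor p f) {P F : Subgroup G} (hP : IsPGroup p P)
    (hF : F ∈ f P) : Subgroup.normalizer (P : Set G) ≤ Subgroup.normalizer (F : Set G) :=
  ((hf P hP).1 F hF).2

theorem functor_le_normalizer (hf : IsNormalizerFunctor p f) {P F : Subgroup G} (hP : IsPGroup p P)
    (hF : F ∈ f P) : P ≤ Subgroup.normalizer (F : Set G) :=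
  Subgroup.le_normalizer.trans (functor_normalizer_le hf hP hF)

theorem functor_scr (hf : IsNormalizerFunctor p f) {P F : Subgroup G} (hP : IsPGroup p P)
    (hF : F ∈ f P) (g : G) : subgroupConjRight g F ∈ f (subgroupConjRight g P) := by
  rw [scr_eq_map, scr_eq_map, (hf P hP).2 g⁻¹]
  exact ⟨F, hF, rfl⟩

theorem functor_scr_of_mem_normalizer (hf : IsNormalizerFunctor p f) {P F : Subgroup G}
    (hP : IsPGroup p P) (hF : F ∈ f P) {g : G} (hg : g ∈ Subgroup.normalizer (F : Set G)) :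
    F ∈ f (subgroupConjRight g P) := by
  have := functor_scr hf hP hF g
  rwa [scr_eq_self_iff_mem_normalizer.2 hg] at this

variable [Finite G] [hp : Fact p.Prime]

/-- the family induced by `f` in `M`, as subgroups of `M` -/
abbrev famIn (p : ℕ) (f : Subgroup G → Set (Subgroup G)) (M : Subgroup G) : Set (Subgroup ↥M) :=
  (fun X : Subgroup G => X.subgroupOf M) '' functorFamily p f M

theorem step_iff (hf : IsNormalizerFunctor p f) (M : Subgroup G) (D' : Subgroup ↥M)
    (S' T' : Sylow p ↥M) :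
    Step p (famIn p f M) D' S' T' ↔
      MStep p f M (img D') (img (S' : Subgroup ↥M)) (img (T' : Subgroup ↥M)) := by
  have hSp : IsPGroup p (img (S' : Subgroup ↥M)) := (isSylIn_img S').isPGroup
  have hTp : IsPGroup p (img (T' : Subgroup ↥M)) := (isSylIn_img T').isPGroup
  constructor
  · rintro ⟨X', x', hXS, hXT, hxX, hconj, hD⟩
    rw [mem_sylowMembers_iff] at hXS hXT
    obtain ⟨⟨Y, ⟨P₀, F, hF, rfl⟩, rfl⟩, hcS⟩ := hXS
    have hcT := hXT.2
    set X' : Subgroup ↥M := (M ⊓ Subgroup.normalizer (F : Set G)).subgroupOf M with hX'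
    have hP₀p : IsPGroup p (img (P₀ : Subgroup ↥M)) := (isSylIn_img P₀).isPGroup
    have hmemX : ∀ z : ↥M, z ∈ X' ↔ (z : G) ∈ Subgroup.normalizer (F : Set G) := by
      intro z
      rw [hX', Subgroup.mem_subgroupOf, Subgroup.mem_inf]
      exact ⟨fun h => h.2, fun h => ⟨z.2, h⟩⟩
    have hP₀X : (P₀ : Subgroup ↥M) ≤ X' := by
      intro z hz
      rw [hmemX]
      exact functor_le_normalizer hf hP₀p hF (mem_img.2 hz)
    -- the p-part of X'
    have hfac : (Nat.card X').factorization p = (Nat.card ↥M).factorization p := by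
      have h1 : Nat.card (P₀ : Subgroup ↥M) ∣ Nat.card X' := Subgroup.card_dvd_of_le hP₀X
      have h2 : Nat.card X' ∣ Nat.card ↥M := Subgroup.card_subgroup_dvd_card X'
      have hX0 : Nat.card X' ≠ 0 := Nat.card_pos.ne'
      have hM0 : Nat.card ↥M ≠ 0 := Nat.card_pos.ne'
      apply le_antisymm
      · exact (Nat.factorization_le_iff_dvd hX0 hM0).2 h2 p
      · rw [P₀.card_eq_multiplicity] at h1
        exact (hp.out.pow_dvd_iff_le_factorization hX0).1 h1
    have hle : ∀ R : Sylow p ↥M,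
        Nat.card ↥((R : Subgroup ↥M) ⊓ X') = p ^ (Nat.card X').factorization p →
        (R : Subgroup ↥M) ≤ X' := by
      intro R hR
      rw [hfac, ← R.card_eq_multiplicity] at hR
      have : (R : Subgroup ↥M) ⊓ X' = R :=
        Subgroup.eq_of_le_of_card_ge inf_le_left hR.ge
      rw [← this]
      exact inf_le_right
    have hSX : (S' : Subgroup ↥M) ≤ X' := hle S' hcS
    have hTX : (T' : Subgroup ↥M) ≤ X' := hle T' hcT
    -- F ∈ f of any Sylow of M inside X'
    have hFmem : ∀ R : Sylow p ↥M, (R : Subgroup ↥M) ≤ X' → F ∈ f (img (R : Subgroup ↥M)) := by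
      intro R hRX
      obtain ⟨z, hz⟩ := MulAction.exists_smul_eq X' (R.subtype hRX) (P₀.subtype hP₀X)
      have h1 : ((z : ↥M) • R : Sylow p ↥M) = P₀ := by
        have h2 := Sylow.smul_subtype hRX z
        rw [hz] at h2
        apply Sylow.ext
        have h3 := congrArg (fun Q : Sylow p ↥X' => ((Q : Subgroup ↥X').map X'.subtype)) h2
        simp only [Sylow.coe_subtype] at h3
        rw [Subgroup.subgroupOf_map_subtype, Subgroup.subgroupOf_map_subtype,
          inf_eq_left.2 hP₀X] at h3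
        rw [h3]
        exact (inf_eq_left.2 (Sylow.smul_le hRX z)).symm
      -- R = z⁻¹ • P₀
      have h2 : (R : Subgroup ↥M) = subgroupConjRight (z : ↥M) (P₀ : Subgroup ↥M) := by
        rw [← sylow_scr, ← h1, inv_smul_smul]
      rw [h2, img_scr]
      apply functor_scr_of_mem_normalizer hf hP₀p hF
      exact (hmemX z).1 z.2
    refine ⟨isSylIn_img S', isSylIn_img T', F, hFmem S' hSX, hFmem T' hTX, (x' : G), x'.2,
      (hmemX x').1 hxX, ?_, ?_⟩
    · rw [← img_scr, hconj]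
    · exact img_le_img.2 (hD.trans inf_le_left)
  · rintro ⟨-, -, F, hFS, hFT, y, hyM, hyF, hconj, hD⟩
    set X' : Subgroup ↥M := (M ⊓ Subgroup.normalizer (F : Set G)).subgroupOf M with hX'
    have hmemX : ∀ z : ↥M, z ∈ X' ↔ (z : G) ∈ Subgroup.normalizer (F : Set G) := by
      intro z
      rw [hX', Subgroup.mem_subgroupOf, Subgroup.mem_inf]
      exact ⟨fun h => h.2, fun h => ⟨z.2, h⟩⟩
    have hX'mem : X' ∈ famIn p f M := ⟨_, ⟨S', F, hFS, rfl⟩, rfl⟩
    have hSX : (S' : Subgroup ↥M) ≤ X' := by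
      intro z hz
      rw [hmemX]
      exact functor_le_normalizer hf hSp hFS (mem_img.2 hz)
    have hTX : (T' : Subgroup ↥M) ≤ X' := by
      intro z hz
      rw [hmemX]
      exact functor_le_normalizer hf hTp hFT (mem_img.2 hz)
    have hfac : (Nat.card X').factorization p = (Nat.card ↥M).factorization p := by
      have h1 : Nat.card (S' : Subgroup ↥M) ∣ Nat.card X' := Subgroup.card_dvd_of_le hSX
      have h2 : Nat.card X' ∣ Nat.card ↥M := Subgroup.card_subgroup_dvd_card X'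
      have hX0 : Nat.card X' ≠ 0 := Nat.card_pos.ne'
      have hM0 : Nat.card ↥M ≠ 0 := Nat.card_pos.ne'
      apply le_antisymm
      · exact (Nat.factorization_le_iff_dvd hX0 hM0).2 h2 p
      · rw [S'.card_eq_multiplicity] at h1
        exact (hp.out.pow_dvd_iff_le_factorization hX0).1 h1
    refine ⟨X', ⟨y, hyM⟩, ?_, ?_, (hmemX _).2 hyF, ?_, ?_⟩
    · rw [mem_sylowMembers_iff]
      refine ⟨hX'mem, ?_⟩
      rw [inf_eq_left.2 hSX, hfac]
      exact S'.card_eq_multiplicity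
    · rw [mem_sylowMembers_iff]
      refine ⟨hX'mem, ?_⟩
      rw [inf_eq_left.2 hTX, hfac]
      exact T'.card_eq_multiplicity
    · apply img_injective
      rw [img_scr]
      exact hconj
    · exact le_inf (img_le_img.1 hD) ((img_le_img.1 hD).trans hTX)

theorem conn_iff (hf : IsNormalizerFunctor p f) (M : Subgroup G) (D' : Subgroup ↥M)
    (S' T' : Sylow p ↥M) :
    Conn p (famIn p f M) D' S' T' ↔
      MConn p f M (img D') (img (S' : Subgroup ↥M)) (img (T' : Subgroup ↥M)) := by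
  constructor
  · intro h
    induction h with
    | refl => exact Relation.ReflTransGen.refl
    | tail _ hbc ih => exact ih.tail ((step_iff hf M D' _ _).1 hbc)
  · intro h
    have key : ∀ Q, MConn p f M (img D') (img (S' : Subgroup ↥M)) Q →
        ∃ T'' : Sylow p ↥M, img (T'' : Subgroup ↥M) = Q ∧ Conn p (famIn p f M) D' S' T'' := by
      intro Q hQ
      induction hQ with
      | refl => exact ⟨S', rfl, Relation.ReflTransGen.refl⟩
      | @tail B C _ hBC ih =>
        obtain ⟨B', rfl, hB'⟩ := ih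
        obtain ⟨C', rfl⟩ := hBC.2.1.exists_sylow
        exact ⟨C', rfl, hB'.tail ((step_iff hf M D' _ _).2 hBC)⟩
    obtain ⟨T'', hT'', hc⟩ := key _ h
    have : T'' = T' := Sylow.ext (img_injective hT'')
    rwa [this] at hc

theorem regular_iff (hf : IsNormalizerFunctor p f) (M : Subgroup G) :
    IsFunctorRegular p f M ↔
      ∀ Q₁ Q₂, IsSylIn p Q₁ M → IsSylIn p Q₂ M → Q₁ ≠ Q₂ → Q₁ ⊓ Q₂ ≠ ⊥ →
        MConn p f M (Q₁ ⊓ Q₂) Q₁ Q₂ := by
  unfold IsFunctorRegular
  rw [controls_iff]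
  constructor
  · intro h Q₁ Q₂ h₁ h₂ hne hint
    obtain ⟨S', rfl⟩ := h₁.exists_sylow
    obtain ⟨T', rfl⟩ := h₂.exists_sylow
    have h1 : S' ≠ T' := fun he => hne (by rw [he])
    have h2 : (S' : Subgroup ↥M) ⊓ (T' : Subgroup ↥M) ≠ ⊥ := by
      rw [← img_inf] at hint
      exact fun he => hint (img_eq_bot.2 he)
    have := (conn_iff hf M _ S' T').1 (h S' T' h1 h2)
    rwa [img_inf] at this
  · intro h S' T' h1 h2
    rw [conn_iff hf, img_inf]
    apply h _ _ (isSylIn_img S') (isSylIn_img T')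
    · intro he
      exact h1 (Sylow.ext (img_injective he))
    · rw [← img_inf]
      exact fun he => h2 (img_eq_bot.1 he)

end Functor

end Cfsg.Agent.Lib.Helper3.SChain
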