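import Mathlib

set_option autoImplicit false

namespace Cfsg.Agent.Lib.Helper3

variable {G : Type*} [Group G]

/-- A Sylow `p`-subgroup lies in every normal subgroup of index prime to `p`. -/
theorem sylow_le_of_normal_of_not_dvd_index [Finite G] {p : ℕ} [Fact p.Prime]
    (H : Subgroup G) [H.Normal] (hp : ¬ p ∣ H.index) (P : Sylow p G) :
    (P : Subgroup G) ≤ H := by
  have hQ : IsPGroup p ((P : Subgroup G).map (QuotientGroup.mk' H)) := P.isPGroup'.map _
  obtain ⟨k, hk⟩ := IsPGroup.iff_card.1 hQ
  have hdvd : Nat.card ((P : Subgroup G).map (QuotientGroup.mk' H)) ∣ H.index :=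
    Subgroup.card_subgroup_dvd_card _
  have hk0 : k = 0 := by
    by_contra hne
    apply hp
    rw [hk] at hdvd
    exact (dvd_pow_self p hne).trans hdvd
  rw [hk0, pow_zero] at hk
  have hbot : (P : Subgroup G).map (QuotientGroup.mk' H) = ⊥ := Subgroup.card_eq_one.1 hk
  have := (Subgroup.map_eq_bot_iff _).1 hbot
  rwa [QuotientGroup.ker_mk'] at this

/-- A normal subgroup of index prime to `p` has as many Sylow `p`-subgroups as the group. -/
theorem card_sylow_eq_of_normal_of_not_dvd_index [Finite G] {p : ℕ} [Fact p.Prime]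
    (H : Subgroup G) [H.Normal] (hp : ¬ p ∣ H.index) :
    Nat.card (Sylow p H) = Nat.card (Sylow p G) := by
  symm
  apply Nat.card_congr
  refine Equiv.ofBijective
    (fun P : Sylow p G => P.subtype (sylow_le_of_normal_of_not_dvd_index H hp P)) ⟨?_, ?_⟩
  · intro P Q hPQ
    exact Sylow.subtype_injective hPQ
  · intro Q
    obtain ⟨P, hP⟩ := Q.exists_comap_subtype_eq
    exact ⟨P, Sylow.ext hP⟩

/-- The quotient by a central subgroup has as many Sylow `p`-subgroups as the group. -/
theorem card_sylow_quotient_of_le_center [Finite G] {p : ℕ} [Fact p.Prime]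
    (Z : Subgroup G) [Z.Normal] (hZ : Z ≤ Subgroup.center G) :
    Nat.card (Sylow p (G ⧸ Z)) = Nat.card (Sylow p G) := by
  symm
  have hf : Function.Surjective (QuotientGroup.mk' Z) := QuotientGroup.mk'_surjective Z
  apply Nat.card_congr
  refine Equiv.ofBijective (Sylow.mapSurjective hf) ⟨?_, Sylow.mapSurjective_surjective hf p⟩
  intro P Q hPQ
  have h1 : (P : Subgroup G).map (QuotientGroup.mk' Z) = (Q : Subgroup G).map (QuotientGroup.mk' Z) := by
    have := congrArg (fun R : Sylow p (G ⧸ Z) => (R : Subgroup (G ⧸ Z))) hPQ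
    simpa using this
  have h2 : (Q : Subgroup G) ≤ (P : Subgroup G) ⊔ Z := by
    have : (Q : Subgroup G) ≤ ((Q : Subgroup G).map (QuotientGroup.mk' Z)).comap (QuotientGroup.mk' Z) :=
      Subgroup.le_comap_map _ _
    rw [← h1, Subgroup.comap_map_eq, QuotientGroup.ker_mk'] at this
    exact this
  have h3 : (P : Subgroup G) ⊔ Z ≤ Subgroup.normalizer (P : Set G) := by
    apply sup_le
    · exact Subgroup.le_normalizer (H := (P : Subgroup G))
    · exact hZ.trans (Subgroup.center_le_normalizer _)
  have h4 : (Q : Subgroup G) ≤ P := by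
    have := Q.isPGroup'.inf_normalizer_sylow P
    have h5 : (Q : Subgroup G) ⊓ Subgroup.normalizer (P : Set G) = Q :=
      inf_eq_left.2 (h2.trans h3)
    rw [h5] at this
    exact inf_eq_left.1 this.symm
  exact Sylow.ext (Q.is_maximal' P.isPGroup' h4)

end Cfsg.Agent.Lib.Helper3
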