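import Mathlib
import Cfsg.Agent.Lib.Helper3.CharQuot
import Cfsg.Agent.Lib.Helper6.Ito
import Cfsg.Agent.Lib.Helper6.SecondOrth
import Cfsg.Agent.Lib.Helper6.BrWeight
import Cfsg.Agent.Lib.Helper6.QuotChar
import Cfsg.Agent.Lib.Helper6.ClassFun
import Cfsg.Agent.Lib.Helper1.Tate1
import Cfsg.Agent.Lib.Helper1.FrattiniP
import Cfsg.Agent.S4216

/-! Extension of the `p'`-degree characters of a Sylow normalizer (S4931). -/

set_option autoImplicit false

namespace Cfsg.Agent.Lib.Helper3.SylowNormExt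

open Cfsg Cfsg.Agent.Lib.Helper6
open scoped commutatorElement

/-- separating an element outside `B` by an irreducible character of `p'`-degree trivial on `B` -/
theorem exists_irr_sep {N : Type*} [Group N] [Finite N] (p : ℕ) (A B : Subgroup N)
    [hA : A.Normal] [hB : B.Normal] (hBA : B ≤ A)
    (hab : ∀ a ∈ A, ∀ b ∈ A, a * b * a⁻¹ * b⁻¹ ∈ B) (hidx : ¬ p ∣ A.index)
    (n : N) (hn : n ∉ B) :
    ∃ θ : N → ℂ, IsIrrCharacter N θ ∧ ¬ p ∣ charDegree θ ∧ (∀ x ∈ B, θ x = θ 1) ∧ θ n ≠ θ 1 := by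
  classical
  have : Fintype N := Fintype.ofFinite N
  have : Fintype (N ⧸ B) := Fintype.ofFinite _
  have hne : (QuotientGroup.mk n : N ⧸ B) ≠ 1 := by
    intro h
    exact hn ((QuotientGroup.eq_one_iff n).mp h)
  have hnc : ¬ IsConj (QuotientGroup.mk n : N ⧸ B) 1 := by
    rw [isConj_one_left]; exact hne
  rw [isConj_iff_forall_irr] at hnc
  push Not at hnc
  obtain ⟨β, hβ⟩ := hnc
  have hAb : ∀ a ∈ A.map (QuotientGroup.mk' B), ∀ b ∈ A.map (QuotientGroup.mk' B),
      a * b = b * a := by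
    rintro _ ⟨a, ha, rfl⟩ _ ⟨b, hb, rfl⟩
    have h1 := hab b⁻¹ (A.inv_mem hb) a⁻¹ (A.inv_mem ha)
    simp only [inv_inv] at h1
    simp only [QuotientGroup.mk'_apply]
    rw [← QuotientGroup.mk_mul, ← QuotientGroup.mk_mul, eq_comm, QuotientGroup.eq]
    have h2 : (b * a)⁻¹ * (a * b) = (b⁻¹ * a⁻¹ * b * a)⁻¹ := by group
    rw [h2]
    exact B.inv_mem h1
  obtain ⟨d, hd1, hd2⟩ := ito_aux (Nat.card (N ⧸ B)) (N ⧸ B) rfl (A.map (QuotientGroup.mk' B))
    (Subgroup.Normal.map hA _ (QuotientGroup.mk'_surjective B)) hAb β β.2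
  have hidx2 : (A.map (QuotientGroup.mk' B)).index = A.index :=
    Subgroup.index_map_eq A (QuotientGroup.mk'_surjective B)
      (by rw [QuotientGroup.ker_mk']; exact hBA)
  rw [hidx2] at hd2
  have h1 : (QuotientGroup.mk (1 : N) : N ⧸ B) = 1 := rfl
  refine ⟨fun g => (β : N ⧸ B → ℂ) (QuotientGroup.mk g), IsIrrCharacter.comp_mk B β.2, ?_, ?_, ?_⟩
  · intro hp
    apply hidx
    have : charDegree (fun g => (β : N ⧸ B → ℂ) (QuotientGroup.mk g)) = d := by
      unfold charDegree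
      simp only [h1, hd1, Complex.natCast_re, Nat.floor_natCast]
    rw [this] at hp
    exact hp.trans hd2
  · intro x hx
    show (β : N ⧸ B → ℂ) (QuotientGroup.mk x) = (β : N ⧸ B → ℂ) (QuotientGroup.mk 1)
    rw [(QuotientGroup.eq_one_iff x).mpr hx, h1]
  · show (β : N ⧸ B → ℂ) (QuotientGroup.mk n) ≠ (β : N ⧸ B → ℂ) (QuotientGroup.mk 1)
    rw [h1]; exact hβ

section forward

variable {G : Type*} [Group G] [Finite G] (p : ℕ) [Fact p.Prime] (P : Sylow p G)

/-- the extension hypothesis -/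
def Ext : Prop :=
  ∀ θ : IrrCharacter ↥(Subgroup.normalizer ((P : Subgroup G) : Set G)),
    ¬ p ∣ charDegree (θ : ↥(Subgroup.normalizer ((P : Subgroup G) : Set G)) → ℂ) →
    ∃ χ : IrrCharacter G, ∀ x : ↥(Subgroup.normalizer ((P : Subgroup G) : Set G)),
      (χ : G → ℂ) x = (θ : ↥(Subgroup.normalizer ((P : Subgroup G) : Set G)) → ℂ) x

theorem tool (hext : Ext p P)
    (A B : Subgroup ↥(Subgroup.normalizer ((P : Subgroup G) : Set G))) [A.Normal] [B.Normal]
    (hBA : B ≤ A) (hab : ∀ a ∈ A, ∀ b ∈ A, a * b * a⁻¹ * b⁻¹ ∈ B) (hidx : ¬ p ∣ A.index)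
    (n : ↥(Subgroup.normalizer ((P : Subgroup G) : Set G))) (hn : n ∉ B) :
    ∃ χ : IrrCharacter G,
      (∀ b : ↥(Subgroup.normalizer ((P : Subgroup G) : Set G)), b ∈ B →
        (χ : G → ℂ) (b : G) = (χ : G → ℂ) 1) ∧ (χ : G → ℂ) (n : G) ≠ (χ : G → ℂ) 1 := by
  obtain ⟨θ, hθ, hdeg, hker, hne⟩ := exists_irr_sep p A B hBA hab hidx n hn
  obtain ⟨χ, hχ⟩ := hext ⟨θ, hθ⟩ hdeg
  have h1 : (χ : G → ℂ) 1 = θ 1 := by
    have := hχ 1
    simpa using this
  refine ⟨χ, fun b hb => ?_, ?_⟩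
  · rw [hχ b, h1]; exact hker b hb
  · rw [hχ n, h1]; exact hne

theorem forward (hext : Ext p P) :
    ∃ K : Subgroup G, K.Normal ∧ K ⊔ Subgroup.normalizer ((P : Subgroup G) : Set G) = ⊤ ∧
      K ⊓ Subgroup.normalizer ((P : Subgroup G) : Set G) = ⊥ := by
  classical
  have hPN : (P : Subgroup G) ≤ Subgroup.normalizer ((P : Subgroup G) : Set G) :=
    Subgroup.le_normalizer
  haveI hPNn : ((P : Subgroup G).subgroupOf
      (Subgroup.normalizer ((P : Subgroup G) : Set G))).Normal := Subgroup.normal_in_normalizer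
  have hidx : ¬ p ∣ ((P : Subgroup G).subgroupOf
      (Subgroup.normalizer ((P : Subgroup G) : Set G))).index :=
    fun h => P.not_dvd_index (h.trans (Subgroup.relIndex_dvd_index_of_le hPN))
  -- the normal closure of `P`
  obtain ⟨M, hMdef⟩ : ∃ M : Subgroup G, M = Subgroup.normalClosure ((P : Subgroup G) : Set G) :=
    ⟨_, rfl⟩
  have hPM : (P : Subgroup G) ≤ M := by rw [hMdef]; exact Subgroup.le_normalClosure
  haveI hMn : M.Normal := by rw [hMdef]; exact Subgroup.normalClosure_normal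
  -- step 2
  have hNM : Subgroup.normalizer ((P : Subgroup G) : Set G) ⊓ M ≤ (P : Subgroup G) := by
    intro g hg
    obtain ⟨hgN, hgM⟩ := Subgroup.mem_inf.mp hg
    by_contra hgP
    obtain ⟨χ, hχ1, hχ2⟩ := tool p P hext _ _ (le_refl ((P : Subgroup G).subgroupOf
      (Subgroup.normalizer ((P : Subgroup G) : Set G))))
      (fun a ha b hb => Subgroup.mul_mem _ (Subgroup.mul_mem _ (Subgroup.mul_mem _ ha hb)
        (Subgroup.inv_mem _ ha)) (Subgroup.inv_mem _ hb)) hidx ⟨g, hgN⟩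
      (by rw [Subgroup.mem_subgroupOf]; exact hgP)
    obtain ⟨K, hKn, hK⟩ := CharQuot.exists_kernel (IsIrrCharacter.isCharacter χ.2)
    have hPK : ((P : Subgroup G) : Set G) ⊆ K := by
      intro x hx
      rw [SetLike.mem_coe, hK]
      exact hχ1 ⟨x, hPN hx⟩ (by rw [Subgroup.mem_subgroupOf]; exact hx)
    have hMK : M ≤ K := by rw [hMdef]; exact Subgroup.normalClosure_le_normal hPK
    exact hχ2 ((hK g).mp (hMK hgM))
  -- step 3
  have hfus : ∀ x ∈ ⁅(P : Subgroup G), (P : Subgroup G)⁆, ∀ z : G,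
      z * x * z⁻¹ ∈ (P : Subgroup G) → z * x * z⁻¹ ∈ ⁅(P : Subgroup G), (P : Subgroup G)⁆ := by
    intro x hx z hy
    by_contra hyn
    have hmap : (⁅(P : Subgroup G).subgroupOf (Subgroup.normalizer ((P : Subgroup G) : Set G)),
        (P : Subgroup G).subgroupOf (Subgroup.normalizer ((P : Subgroup G) : Set G))⁆).map
        (Subgroup.normalizer ((P : Subgroup G) : Set G)).subtype =
        ⁅(P : Subgroup G), (P : Subgroup G)⁆ := by
      rw [Subgroup.map_commutator, Subgroup.subgroupOf_map_subtype, inf_of_le_left hPN]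
    have hn : (⟨z * x * z⁻¹, hPN hy⟩ : ↥(Subgroup.normalizer ((P : Subgroup G) : Set G))) ∉
        ⁅(P : Subgroup G).subgroupOf (Subgroup.normalizer ((P : Subgroup G) : Set G)),
        (P : Subgroup G).subgroupOf (Subgroup.normalizer ((P : Subgroup G) : Set G))⁆ := by
      intro h
      apply hyn
      rw [← hmap]
      exact ⟨_, h, rfl⟩
    obtain ⟨χ, hχ1, hχ2⟩ := tool p P hext _ _
      (Subgroup.commutator_le_left ((P : Subgroup G).subgroupOf
        (Subgroup.normalizer ((P : Subgroup G) : Set G))) _)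
      (fun a ha b hb => by
        rw [← commutatorElement_def]; exact Subgroup.commutator_mem_commutator ha hb)
      hidx _ hn
    apply hχ2
    have hcl := IsIrrCharacter.isClassFunction χ.2
    have hx' : x ∈ (⁅(P : Subgroup G).subgroupOf
        (Subgroup.normalizer ((P : Subgroup G) : Set G)),
        (P : Subgroup G).subgroupOf (Subgroup.normalizer ((P : Subgroup G) : Set G))⁆).map
        (Subgroup.normalizer ((P : Subgroup G) : Set G)).subtype := by rw [hmap]; exact hx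
    obtain ⟨b, hb, hbx⟩ := hx'
    have h1 := hχ1 b hb
    have h2 : (b : G) = x := hbx
    rw [h2] at h1
    show (χ : G → ℂ) (z * x * z⁻¹) = (χ : G → ℂ) 1
    rw [hcl x z, h1]
  -- step 4 : Grün inside `M`
  have hfoc : (P : Subgroup G) ⊓ ⁅M, M⁆ ≤ ⁅(P : Subgroup G), (P : Subgroup G)⁆ := by
    intro g hg
    obtain ⟨hgP, hgD⟩ := Subgroup.mem_inf.mp hg
    obtain ⟨Q, hQdef⟩ : ∃ Q : Sylow p ↥M, Q = P.subtype hPM := ⟨_, rfl⟩
    have hQcoe : (Q : Subgroup ↥M) = (P : Subgroup G).subgroupOf M := by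
      rw [hQdef]; exact Sylow.coe_subtype P hPM
    have hQmap : ((Q : Subgroup ↥M)).map M.subtype = (P : Subgroup G) := by
      rw [hQcoe, Subgroup.subgroupOf_map_subtype, inf_of_le_left hPM]
    have hQ'map : (⁅(Q : Subgroup ↥M), (Q : Subgroup ↥M)⁆).map M.subtype =
        ⁅(P : Subgroup G), (P : Subgroup G)⁆ := by
      rw [Subgroup.map_commutator, hQmap]
    have hle : (Q : Subgroup ↥M) ⊓ commutator ↥M ≤ ⁅(Q : Subgroup ↥M), (Q : Subgroup ↥M)⁆ := by
      rw [Cfsg.Agent.S4216.result Q]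
      apply sup_le
      · have hnorm : Subgroup.normalizer ((Q : Subgroup ↥M) : Set ↥M) ≤ (Q : Subgroup ↥M) := by
          rw [hQcoe, ← Subgroup.subgroupOf_normalizer_eq hPM]
          intro m hm
          rw [Subgroup.mem_subgroupOf] at hm ⊢
          exact hNM (Subgroup.mem_inf.mpr ⟨hm, m.2⟩)
        exact inf_le_right.trans (Subgroup.commutator_mono hnorm hnorm)
      · apply iSup_le
        intro z x hx
        obtain ⟨hxQ, hxc⟩ := Subgroup.mem_inf.mp hx
        obtain ⟨y, hy, hyx⟩ := hxc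
        have hyG : (y : G) ∈ ⁅(P : Subgroup G), (P : Subgroup G)⁆ := by
          rw [← hQ'map]; exact ⟨y, hy, rfl⟩
        have hxG : (x : G) = (z : G) * (y : G) * (z : G)⁻¹ := by
          rw [← hyx]
          simp [MulAut.conj_apply]
        have hxP : (x : G) ∈ (P : Subgroup G) := by
          rw [← hQmap]; exact ⟨x, hxQ, rfl⟩
        have h3 := hfus (y : G) hyG (z : G) (by rw [← hxG]; exact hxP)
        rw [← hxG, ← hQ'map] at h3
        obtain ⟨x', hx', hxx'⟩ := h3
        have h4 : x' = x := Subtype.ext hxx'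
        rw [← h4]; exact hx'
    have hgD' : (⟨g, hPM hgP⟩ : ↥M) ∈ (Q : Subgroup ↥M) ⊓ commutator ↥M := by
      refine Subgroup.mem_inf.mpr ⟨?_, ?_⟩
      · rw [hQcoe, Subgroup.mem_subgroupOf]; exact hgP
      · rw [← Subgroup.map_subtype_commutator] at hgD
        obtain ⟨m, hm, hmg⟩ := hgD
        have h5 : m = ⟨g, hPM hgP⟩ := Subtype.ext hmg
        rw [← h5]; exact hm
    have h6 := hle hgD'
    rw [← hQ'map]
    exact ⟨_, h6, rfl⟩
  -- step 5 : p'-elements of `M` lie in `⁅M, M⁆`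
  have hA5 : ∀ g ∈ M, (orderOf g).Coprime p → g ∈ ⁅M, M⁆ := by
    intro g hgM hcop
    obtain ⟨q, hq⟩ : ∃ q : ℕ, q = Nat.card (P : Subgroup G) := ⟨_, rfl⟩
    obtain ⟨U₀, hU₀⟩ : ∃ U₀ : Subgroup ↥M, U₀ = ((powMonoidHom q :
        Abelianization ↥M →* Abelianization ↥M).comp Abelianization.of).ker := ⟨_, rfl⟩
    have hUmem : ∀ m : ↥M, m ∈ U₀ ↔ (Abelianization.of m) ^ q = 1 := by
      intro m
      rw [hU₀, MonoidHom.mem_ker]
      rfl
    have hconj : Group.conjugatesOfSet ((P : Subgroup G) : Set G) ⊆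
        ((U₀.map M.subtype : Subgroup G) : Set G) := by
      intro y hy
      rw [Group.mem_conjugatesOfSet_iff] at hy
      obtain ⟨x, hx, hxy⟩ := hy
      obtain ⟨c, hc⟩ := isConj_iff.mp hxy
      have hyM : y ∈ M := by
        rw [← hc]; exact hMn.conj_mem x (hPM hx) c
      refine ⟨⟨y, hyM⟩, ?_, rfl⟩
      rw [SetLike.mem_coe, hUmem, ← map_pow]
      have h1 : (⟨y, hyM⟩ : ↥M) ^ q = 1 := by
        apply Subtype.ext
        rw [Subgroup.coe_pow, Subgroup.coe_one]
        show y ^ q = 1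
        rw [← hc, conj_pow]
        have hxq : x ^ q = 1 := by
          have h2 : (⟨x, hx⟩ : ↥(P : Subgroup G)) ^ q = 1 := by
            rw [hq]; exact pow_card_eq_one'
          have h3 := congrArg Subtype.val h2
          simpa using h3
        rw [hxq]; group
      rw [h1, map_one]
    have hMU : M ≤ U₀.map M.subtype := by
      have h7 : Subgroup.normalClosure ((P : Subgroup G) : Set G) ≤ U₀.map M.subtype :=
        (Subgroup.closure_le _).mpr hconj
      exact (le_of_eq hMdef).trans h7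
    obtain ⟨m, hm, hmg⟩ := hMU hgM
    have h1 : m ^ q ∈ commutator ↥M := by
      rw [← Abelianization.ker_of, MonoidHom.mem_ker, map_pow]
      exact (hUmem m).mp hm
    have h2 : g ^ q ∈ ⁅M, M⁆ := by
      rw [← Subgroup.map_subtype_commutator]
      refine ⟨m ^ q, h1, ?_⟩
      rw [map_pow, hmg]
    have hcop2 : q.Coprime (orderOf g) := by
      obtain ⟨k, hk⟩ := IsPGroup.iff_card.mp P.isPGroup'
      rw [hq, hk]
      exact (Nat.Coprime.pow_right k hcop).symm
    obtain ⟨e, he⟩ := exists_pow_eq_self_of_coprime hcop2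
    rw [← he]; exact Subgroup.pow_mem _ h2 e
  -- step 6 : the complement
  obtain ⟨K, hKdef⟩ : ∃ K : Subgroup G,
      K = Subgroup.normalClosure {g : G | g ∈ M ∧ (orderOf g).Coprime p} := ⟨_, rfl⟩
  haveI hKn : K.Normal := by rw [hKdef]; exact Subgroup.normalClosure_normal
  have hSK : ∀ g ∈ M, (orderOf g).Coprime p → g ∈ K := by
    intro g hg hc
    rw [hKdef]; exact Subgroup.subset_normalClosure ⟨hg, hc⟩
  have hKD : K ≤ ⁅M, M⁆ := by
    rw [hKdef]
    exact Subgroup.normalClosure_le_normal (fun g hg => hA5 g hg.1 hg.2)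
  have hKM : K ≤ M := by
    rw [hKdef]
    exact Subgroup.normalClosure_le_normal (fun g hg => hg.1)
  have hgen : K ≤ Subgroup.closure {g : G | g ∈ K ∧ (orderOf g).Coprime p} := by
    have h0 : K = Subgroup.closure
        (Group.conjugatesOfSet {g : G | g ∈ M ∧ (orderOf g).Coprime p}) := by rw [hKdef]; rfl
    intro k hk
    rw [h0] at hk
    refine Subgroup.closure_mono ?_ hk
    intro y hy
    have hyK : y ∈ K := by rw [h0]; exact Subgroup.subset_closure hy
    rw [Group.mem_conjugatesOfSet_iff] at hy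
    obtain ⟨x, hx, hxy⟩ := hy
    obtain ⟨c, hc⟩ := isConj_iff.mp hxy
    refine ⟨hyK, ?_⟩
    have h1 : orderOf y = orderOf x := by
      rw [← hc, ← MulAut.conj_apply]
      exact MulEquiv.orderOf_eq (MulAut.conj c) x
    rw [h1]; exact hx.2
  have hR : K ⊓ (P : Subgroup G) ≤
      (frattini ↥(P : Subgroup G)).map (P : Subgroup G).subtype := by
    intro g hg
    obtain ⟨hgK, hgP⟩ := Subgroup.mem_inf.mp hg
    have h1 : g ∈ ⁅(P : Subgroup G), (P : Subgroup G)⁆ :=
      hfoc (Subgroup.mem_inf.mpr ⟨hgP, hKD hgK⟩)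
    rw [← Subgroup.map_subtype_commutator] at h1
    exact Subgroup.map_mono
      (Cfsg.Agent.Lib.Helper1.commutator_le_frattini_of_isPGroup p P.isPGroup') h1
  have hKP : K ⊓ (P : Subgroup G) = ⊥ := Cfsg.Agent.Lib.Helper1.Tate.tate_key P K hR hgen
  -- step 7 : `M = K P`
  have hpq : IsPGroup p (↥M ⧸ K.subgroupOf M) := by
    intro x
    obtain ⟨m, rfl⟩ := QuotientGroup.mk_surjective x
    refine ⟨(Nat.card G).factorization p, ?_⟩
    rw [← QuotientGroup.mk_pow, QuotientGroup.eq_one_iff, Subgroup.mem_subgroupOf]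
    apply hSK
    · exact (m ^ p ^ (Nat.card G).factorization p).2
    · have hn0 : Nat.card G ≠ 0 := Nat.card_pos.ne'
      have hcop := Nat.coprime_ordCompl (Fact.out : p.Prime) hn0
      have h1 : ((m ^ p ^ (Nat.card G).factorization p : ↥M) : G) ^
          (Nat.card G / p ^ (Nat.card G).factorization p) = 1 := by
        rw [Subgroup.coe_pow, ← pow_mul, Nat.ordProj_mul_ordCompl_eq_self]
        exact pow_card_eq_one'
      have h2 := orderOf_dvd_of_pow_eq_one h1
      exact (Nat.Coprime.coprime_dvd_left h2 hcop.symm)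
  have hMKP : M ≤ K ⊔ (P : Subgroup G) := by
    rw [← Subgroup.relIndex_eq_one]
    have h1 : (K ⊔ (P : Subgroup G)).relIndex M ∣ (P : Subgroup G).relIndex M :=
      Subgroup.relIndex_dvd_of_le_left M le_sup_right
    have h2 : (K ⊔ (P : Subgroup G)).relIndex M ∣ K.relIndex M :=
      Subgroup.relIndex_dvd_of_le_left M le_sup_left
    have h3 : ¬ p ∣ (P : Subgroup G).relIndex M :=
      fun h => P.not_dvd_index (h.trans (Subgroup.relIndex_dvd_index_of_le hPM))
    obtain ⟨k, hk⟩ := IsPGroup.iff_card.mp hpq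
    have hk' : K.relIndex M = p ^ k := by
      rw [← hk]; exact Subgroup.index_eq_card _
    rw [hk'] at h2
    obtain ⟨j, -, hj⟩ := (Nat.dvd_prime_pow (Fact.out : p.Prime)).mp h2
    rw [hj] at h1 ⊢
    cases j with
    | zero => simp
    | succ j => exact absurd (dvd_trans (dvd_pow_self p (Nat.succ_ne_zero j)) h1) h3
  refine ⟨K, hKn, ?_, ?_⟩
  · have hfr : Subgroup.normalizer ((P : Subgroup G) : Set G) ⊔ M = ⊤ :=
      Sylow.normalizer_sup_eq_top' P hPM
    rw [eq_top_iff, ← hfr]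
    apply sup_le
    · exact le_sup_right
    · exact hMKP.trans (sup_le le_sup_left (hPN.trans le_sup_right))
  · rw [eq_bot_iff, ← hKP]
    intro g hg
    obtain ⟨hgK, hgN⟩ := Subgroup.mem_inf.mp hg
    exact Subgroup.mem_inf.mpr ⟨hgK, hNM (Subgroup.mem_inf.mpr ⟨hgN, hKM hgK⟩)⟩

end forward

theorem backward {G : Type*} [Group G] [Finite G] (N K : Subgroup G) [hKn : K.Normal]
    (h1 : K ⊔ N = ⊤) (h2 : K ⊓ N = ⊥) (θ : IrrCharacter ↥N) :
    ∃ χ : IrrCharacter G, ∀ x : ↥N, (χ : G → ℂ) x = (θ : ↥N → ℂ) x := by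
  have hc : N.IsComplement' K := by
    apply Subgroup.isComplement'_of_disjoint_and_mul_eq_univ
    · rw [disjoint_iff, inf_comm]; exact h2
    · rw [← Subgroup.mul_normal N K, sup_comm, h1]; rfl
  let e : G ⧸ K ≃* ↥N := hc.QuotientMulEquiv
  let f : G →* ↥N := e.toMonoidHom.comp (QuotientGroup.mk' K)
  have hf : Function.Surjective f := e.surjective.comp (QuotientGroup.mk'_surjective K)
  have hfn : ∀ x : ↥N, f (x : G) = x := by
    intro x
    show e (QuotientGroup.mk (x : G)) = x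
    rw [← MulEquiv.eq_symm_apply]
    rfl
  refine ⟨⟨fun g => (θ : ↥N → ℂ) (f g), isIrrCharacter_comp_surj f hf θ.2⟩, fun x => ?_⟩
  show (θ : ↥N → ℂ) (f (x : G)) = _
  rw [hfn x]

end Cfsg.Agent.Lib.Helper3.SylowNormExt
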