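import Mathlib
import Cfsg.Agent.Lib.Helper3.SympA
import Cfsg.Agent.Lib.Helper2.PGroupNormal

set_option autoImplicit false

/-! P. Hall's theorem on p-groups of symplectic type, part B: a 2-group which is a central
product `E * R` with `R` nonabelian of order 8 and `E` "extraspecial-like" is extraspecial. -/

namespace Cfsg.Agent.Lib.Helper3.Symp

open Cfsg
open scoped commutatorElement

variable {G : Type*} [Group G]

theorem extraspecial_of_card_eight [Finite G] (hG : IsPGroup 2 G) (c : G)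
    (hcZ : c ∈ Subgroup.center G) (hc : orderOf c = 2) (U E R : Subgroup G)
    (hU4 : Nat.card U = 4) (hU1 : ∀ u ∈ U, u ^ 2 = 1 → u ∈ Subgroup.zpowers c)
    (hZU : ∀ z ∈ Subgroup.center G, z ∈ U)
    (hcomm : ∀ e ∈ E, ∀ r ∈ R, e * r = r * e)
    (hprod : ∀ g : G, ∃ e ∈ E, ∃ r ∈ R, g = e * r) (hUR : U ≤ R) (hR8 : Nat.card R = 8)
    (hCR : ∀ r ∈ R, (∀ u ∈ U, r * u = u * r) → r ∈ U)
    (hEp : ∀ e ∈ E, e ^ 2 ∈ Subgroup.zpowers c)
    (hEc : ∀ e₁ ∈ E, ∀ e₂ ∈ E, ⁅e₁, e₂⁆ ∈ Subgroup.zpowers c) :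
    Cfsg.IsExtraspecial 2 ↥(⊤ : Subgroup G) := by
  have hcU : c ∈ U := hZU c hcZ
  have hzc : Subgroup.zpowers c ≤ Subgroup.center G := Subgroup.zpowers_le.mpr hcZ
  -- an element of `U` whose square is nontrivial generates `U`
  have hgen : ∀ x ∈ U, x ^ 2 ≠ 1 → U ≤ Subgroup.zpowers x := by
    intro x hx hx2
    have hd : orderOf x ∣ 2 ^ 2 := by
      have h := Subgroup.orderOf_dvd_natCard U hx
      rw [hU4] at h
      exact h
    obtain ⟨m, hm, hxm⟩ := (Nat.dvd_prime_pow Nat.prime_two).mp hd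
    have h4 : orderOf x = 4 := by
      interval_cases m
      · exfalso
        apply hx2
        rw [← orderOf_dvd_iff_pow_eq_one, hxm]
        norm_num
      · exfalso
        apply hx2
        rw [← orderOf_dvd_iff_pow_eq_one, hxm]
        norm_num
      · rw [hxm]
        norm_num
    have hle : Subgroup.zpowers x ≤ U := Subgroup.zpowers_le.mpr hx
    have h := Subgroup.eq_of_le_of_card_ge hle (by rw [hU4, Nat.card_zpowers, h4])
    exact h.ge
  have hr0 : ∃ r ∈ R, r ∉ U := by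
    by_contra h
    push Not at h
    have hle : R ≤ U := h
    have h2 := Subgroup.card_le_of_le hle
    rw [hR8, hU4] at h2
    omega
  obtain ⟨r0, hr0R, hr0U⟩ := hr0
  have hcen : ∀ z ∈ Subgroup.center G, z ∈ Subgroup.zpowers c := by
    intro z hz
    have hzU := hZU z hz
    apply hU1 z hzU
    by_contra hz2
    have hUz := hgen z hzU hz2
    apply hr0U
    apply hCR r0 hr0R
    intro u hu
    have huc : u ∈ Subgroup.center G := (Subgroup.zpowers_le.mpr hz) (hUz hu)
    exact Subgroup.mem_center_iff.mp huc r0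
  have hcR : c ∈ R := hUR hcU
  have hNn : (Subgroup.zpowers c).Normal :=
    Cfsg.Agent.Lib.Helper2.zpowers_normal_of_mem_center hcZ
  set N : Subgroup ↥R := (Subgroup.zpowers c).subgroupOf R with hN
  have hNcard : Nat.card N = 2 := by
    rw [hN, Nat.card_congr (Subgroup.subgroupOfEquivOfLe (Subgroup.zpowers_le.mpr hcR)).toEquiv,
      Nat.card_zpowers, hc]
  have hQcard : Nat.card (↥R ⧸ N) = 2 ^ 2 := by
    have h := Subgroup.card_eq_card_quotient_mul_card_subgroup N
    rw [hR8, hNcard] at h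
    omega
  have hNcen : N ≤ Subgroup.center ↥R := by
    intro x hx
    rw [Subgroup.mem_center_iff]
    intro g
    apply Subtype.ext
    have hx' : (x : G) ∈ Subgroup.center G := hzc (Subgroup.mem_subgroupOf.mp hx)
    exact Subgroup.mem_center_iff.mp hx' g
  have hRnab : ¬ ∀ a b : ↥R, a * b = b * a := by
    intro h
    apply hr0U
    apply hCR r0 hr0R
    intro u hu
    exact congrArg Subtype.val (h ⟨r0, hr0R⟩ ⟨u, hUR hu⟩)
  have hQcomm : IsMulCommutative (↥R ⧸ N) :=
    IsPGroup.isMulCommutative_of_card_eq_prime_sq (p := 2) hQcard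
  have hRc : ∀ r₁ ∈ R, ∀ r₂ ∈ R, ⁅r₁, r₂⁆ ∈ Subgroup.zpowers c := by
    intro r₁ h₁ r₂ h₂
    have h : ((⁅(⟨r₁, h₁⟩ : ↥R), ⟨r₂, h₂⟩⁆ : ↥R) : ↥R ⧸ N) = 1 := by
      rw [← QuotientGroup.mk'_apply, map_commutatorElement,
        commutatorElement_eq_one_iff_mul_comm]
      exact hQcomm.is_comm.comm _ _
    rw [QuotientGroup.eq_one_iff] at h
    have h2 := Subgroup.mem_subgroupOf.mp h
    simpa [commutatorElement_def] using h2
  have hRsq : ∀ r ∈ R, r ^ 2 ∈ Subgroup.zpowers c := by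
    intro r hr
    by_contra hr2
    have hne : ((⟨r, hr⟩ : ↥R) : ↥R ⧸ N) ^ 2 ≠ 1 := by
      intro h
      apply hr2
      rw [← QuotientGroup.mk_pow, QuotientGroup.eq_one_iff] at h
      have h2 := Subgroup.mem_subgroupOf.mp h
      simpa using h2
    have hd : orderOf ((⟨r, hr⟩ : ↥R) : ↥R ⧸ N) ∣ 2 ^ 2 := by
      rw [← hQcard]
      exact orderOf_dvd_natCard _
    obtain ⟨m, hm, hxm⟩ := (Nat.dvd_prime_pow Nat.prime_two).mp hd
    have h4 : orderOf ((⟨r, hr⟩ : ↥R) : ↥R ⧸ N) = Nat.card (↥R ⧸ N) := by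
      rw [hQcard]
      interval_cases m
      · exfalso
        apply hne
        rw [← orderOf_dvd_iff_pow_eq_one, hxm]
        norm_num
      · exfalso
        apply hne
        rw [← orderOf_dvd_iff_pow_eq_one, hxm]
        norm_num
      · exact hxm
    have hcyc : IsCyclic (↥R ⧸ N) := isCyclic_of_orderOf_eq_card _ h4
    have hcm := MonoidHom.isMulCommutative_of_isCyclic_of_ker_le_center (QuotientGroup.mk' N)
      (by rw [QuotientGroup.ker_mk']; exact hNcen)
    exact hRnab (fun a b => hcm.is_comm.comm a b)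
  have hQG : ∀ g₁ g₂ : G, ⁅g₁, g₂⁆ ∈ Subgroup.zpowers c := by
    intro g₁ g₂
    obtain ⟨e₁, he₁, r₁, hr₁, rfl⟩ := hprod g₁
    obtain ⟨e₂, he₂, r₂, hr₂, rfl⟩ := hprod g₂
    rw [← QuotientGroup.eq_one_iff, ← QuotientGroup.mk'_apply, map_commutatorElement,
      commutatorElement_eq_one_iff_commute, map_mul, map_mul]
    have hcm : ∀ a b : G, ⁅a, b⁆ ∈ Subgroup.zpowers c →
        Commute (QuotientGroup.mk' (Subgroup.zpowers c) a)
          (QuotientGroup.mk' (Subgroup.zpowers c) b) := by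
      intro a b hab
      rw [← commutatorElement_eq_one_iff_commute, ← map_commutatorElement,
        QuotientGroup.mk'_apply, QuotientGroup.eq_one_iff]
      exact hab
    have her : ∀ e ∈ E, ∀ r ∈ R, Commute (QuotientGroup.mk' (Subgroup.zpowers c) e)
        (QuotientGroup.mk' (Subgroup.zpowers c) r) := by
      intro e he r hr
      have h : Commute e r := hcomm e he r hr
      exact h.map (QuotientGroup.mk' _)
    have hee := hcm e₁ e₂ (hEc e₁ he₁ e₂ he₂)
    have hrr := hcm r₁ r₂ (hRc r₁ hr₁ r₂ hr₂)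
    exact Commute.mul_left (hee.mul_right (her e₁ he₁ r₂ hr₂))
      ((her e₂ he₂ r₁ hr₁).symm.mul_right hrr)
  have hsq : ∀ g : G, g ^ 2 ∈ Subgroup.zpowers c := by
    intro g
    obtain ⟨e, he, r, hr, rfl⟩ := hprod g
    have h : Commute e r := hcomm e he r hr
    rw [h.mul_pow]
    exact Subgroup.mul_mem _ (hEp e he) (hRsq r hr)
  have hna : ∃ u ∈ U, r0 * u ≠ u * r0 := by
    by_contra h
    push Not at h
    exact hr0U (hCR r0 hr0R h)
  obtain ⟨u0, -, hu0⟩ := hna
  apply isExtraspecial_sub hG ⊤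
  · have h : (⊤ : Subgroup G) ⊓ Subgroup.centralizer ((⊤ : Subgroup G) : Set G)
        = Subgroup.zpowers c := by
      rw [Subgroup.coe_top, Subgroup.centralizer_univ, top_inf_eq]
      exact le_antisymm hcen hzc
    rw [h, Nat.card_zpowers, hc]
  · exact ⟨r0, Subgroup.mem_top _, u0, Subgroup.mem_top _, hu0⟩
  · intro a _ b _ x _
    exact Subgroup.mem_center_iff.mp (hzc (hQG a b)) x
  · intro a _ x _
    exact Subgroup.mem_center_iff.mp (hzc (hsq a)) x

end Cfsg.Agent.Lib.Helper3.Symp
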