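import Mathlib
import Cfsg.Agent.S3761
import Cfsg.Agent.Lib.Helper3.SympB

set_option autoImplicit false

/-! P. Hall's theorem on p-groups of symplectic type, part C: the final step. Given the central
product decomposition `G = E * R` with `C_R(U) = U`, conclude. -/

namespace Cfsg.Agent.Lib.Helper3.Symp

open Cfsg
open scoped commutatorElement

variable {G : Type*} [Group G]

theorem comm_of_isCyclic_sub {U : Subgroup G} (hU : IsCyclic U) :
    ∀ a ∈ U, ∀ b ∈ U, a * b = b * a := by
  intro a ha b hb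
  obtain ⟨g, hg⟩ := hU.exists_generator
  obtain ⟨i, hi⟩ := Subgroup.mem_zpowers_iff.mp (hg ⟨a, ha⟩)
  obtain ⟨j, hj⟩ := Subgroup.mem_zpowers_iff.mp (hg ⟨b, hb⟩)
  have h : (⟨a, ha⟩ : ↥U) * ⟨b, hb⟩ = ⟨b, hb⟩ * ⟨a, ha⟩ := by
    rw [← hi, ← hj]
    exact ((Commute.refl g).zpow_zpow i j).eq
  exact congrArg Subtype.val h

/-- the second alternative of the self-centralizing cyclic subgroup theorem for `R` contradicts
the symplectic type hypothesis -/
theorem alt2_false [Finite G] {p : ℕ} [hp : Fact p.Prime]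
    (hsymp : ∀ A : Subgroup G, A.Characteristic → IsMulCommutative A → IsCyclic A)
    (U : Subgroup G) (hUchar : U.Characteristic) (hUcyc : IsCyclic U)
    (c : G) (hcZ : c ∈ Subgroup.center G) (hc : orderOf c = p) (hcU : c ∈ U)
    (E R : Subgroup G)
    (hcomm : ∀ e ∈ E, ∀ r ∈ R, e * r = r * e)
    (hprod : ∀ g : G, ∃ e ∈ E, ∃ r ∈ R, g = e * r)
    (hUR : U ≤ R)
    (hEU : ∀ e ∈ E, ∀ u ∈ U, e * u = u * e)
    (hEp : ∀ e ∈ E, e ^ p ∈ Subgroup.zpowers c)
    (hEq : p ≠ 2 → ∀ e ∈ E, e ^ p = 1)
    (w : G) (hwR : w ∈ R) (hwU : w ∉ U) (hwp : w ^ p = 1)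
    (hwM : ∀ u ∈ U, w * u ^ p = u ^ p * w)
    (hii : ∀ x ∈ R, ∀ y ∈ R, x ^ p = 1 → y ^ p = 1 → (∀ u ∈ U, x * u ^ p = u ^ p * x) →
      (∀ u ∈ U, y * u ^ p = u ^ p * y) → x * y = y * x)
    (hiii : p = 2 → ∀ r ∈ R, (∀ u ∈ U, r * u ^ p = u ^ p * r) → r ∈ U ∨ r * w⁻¹ ∈ U) :
    False := by
  have hU1 : ∀ u ∈ U, u ^ p = 1 → u ∈ Subgroup.zpowers c :=
    fun u hu h => mem_zpowers_of_cyclic_sub U hUcyc hcU hu hc h
  have hUab := comm_of_isCyclic_sub hUcyc
  have hzc : Subgroup.zpowers c ≤ Subgroup.center G := Subgroup.zpowers_le.mpr hcZ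
  have hcp : c ^ p = 1 := by rw [← hc]; exact pow_orderOf_eq_one c
  -- the key commutation statement
  have key : ∀ x : G, (∀ u ∈ U, x * u ^ p = u ^ p * x) → x ^ p = 1 → x * w = w * x := by
    intro x hxM hxp
    obtain ⟨e, he, r, hr, rfl⟩ := hprod x
    have hMr : ∀ u ∈ U, r * u ^ p = u ^ p * r := by
      intro u hu
      have h1 : Commute e (u ^ p) := hEU e he (u ^ p) (Subgroup.pow_mem U hu p)
      have h2 : Commute (e * r) (u ^ p) := hxM u hu
      have h3 : Commute (e⁻¹ * (e * r)) (u ^ p) := h1.inv_left.mul_left h2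
      rw [inv_mul_cancel_left] at h3
      exact h3.eq
    have hpow : e ^ p * r ^ p = 1 := by
      have h : Commute e r := hcomm e he r hr
      rw [← h.mul_pow]
      exact hxp
    suffices hrw : r * w = w * r by
      rw [mul_assoc, hrw, ← mul_assoc, hcomm e he w hwR, mul_assoc]
    by_cases hp2 : p = 2
    · subst hp2
      have hr2 : r ^ 2 ∈ Subgroup.zpowers c := by
        have h : r ^ 2 = (e ^ 2)⁻¹ := eq_inv_of_mul_eq_one_right hpow
        rw [h]
        exact Subgroup.inv_mem _ (hEp e he)
      have hsqc : ∀ k ∈ Subgroup.zpowers c, k ^ 2 = 1 :=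
        fun k hk => pow_eq_one_of_mem_zpowers hc hk
      have hcenk : ∀ k ∈ Subgroup.zpowers c, ∀ g : G, g * k = k * g :=
        fun k hk g => Subgroup.mem_center_iff.mp (hzc hk) g
      have hw2 : w * w = 1 := by rw [← pow_two]; exact hwp
      -- (vi)
      have hvi : ∀ v ∈ U, w * v * w⁻¹ * v⁻¹ ∈ Subgroup.zpowers c := by
        intro v hv
        have hy : w * v * w⁻¹ ∈ U := (char_conj_mem_iff hUchar w).mpr hv
        have hkU : w * v * w⁻¹ * v⁻¹ ∈ U := Subgroup.mul_mem U hy (Subgroup.inv_mem U hv)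
        apply hU1 _ hkU
        have hcm : Commute (w * v * w⁻¹) v⁻¹ := hUab _ hy _ (Subgroup.inv_mem U hv)
        rw [hcm.mul_pow, conj_pow, inv_pow]
        have h := hwM v hv
        rw [h]
        group
      -- (v)
      have hv : ∀ v ∈ U, v ^ 4 = 1 → w * v = v * w := by
        intro v hv hv4
        have hv2 : v ^ 2 ∈ Subgroup.zpowers c := by
          apply hU1 _ (Subgroup.pow_mem U hv 2)
          rw [← pow_mul]
          exact hv4
        rcases mem_zpowers_two hc (hvi v hv) with h1 | h1
        · have h2 : w * v * w⁻¹ = v := by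
            rw [mul_inv_eq_one] at h1
            exact h1
          rw [mul_inv_eq_iff_eq_mul] at h2
          exact h2
        · have h2 : w * v = c * v * w := by
            rw [mul_inv_eq_iff_eq_mul, mul_inv_eq_iff_eq_mul] at h1
            exact h1
          rcases mem_zpowers_two hc hv2 with h3 | h3
          · have hvc : v ∈ Subgroup.zpowers c := hU1 v hv h3
            exact hcenk v hvc w
          · have htR : v * w ∈ R := Subgroup.mul_mem R (hUR hv) hwR
            have htM : ∀ u ∈ U, (v * w) * u ^ 2 = u ^ 2 * (v * w) := by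
              intro u hu
              have h4 : Commute v (u ^ 2) := hUab v hv _ (Subgroup.pow_mem U hu 2)
              have h5 : Commute w (u ^ 2) := hwM u hu
              exact (h4.mul_left h5).eq
            have ht2 : (v * w) ^ 2 = 1 := by
              have hcc : c * c = 1 := by rw [← pow_two]; exact hcp
              have hvv : v * v = c := by rw [← pow_two]; exact h3
              have hcv : v * c = c * v := hcenk c (Subgroup.mem_zpowers c) v
              calc (v * w) ^ 2 = v * (w * v) * w := by rw [pow_two]; group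
                _ = v * (c * v * w) * w := by rw [h2]
                _ = (v * c) * v * (w * w) := by group
                _ = c * (v * v) * (w * w) := by rw [hcv]; group
                _ = 1 := by rw [hvv, hw2, hcc, mul_one]
            have h6 := hii (v * w) htR w hwR ht2 hwp htM hwM
            have h7 : v * w = w * v := by
              have : v * w * w = w * v * w := by rw [h6, mul_assoc]
              exact mul_right_cancel this
            exact h7.symm
      rcases hiii rfl r hr hMr with hrU | hrU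
      · have h4 : r ^ 4 = 1 := by
          rw [show 4 = 2 * 2 from rfl, pow_mul]
          exact hsqc _ hr2
        exact (hv r hrU h4).symm
      · -- r = v * w
        obtain ⟨v, hvU, hrv⟩ : ∃ v ∈ U, r = v * w := ⟨r * w⁻¹, hrU, by group⟩
        have hk := hvi v hvU
        have hwv : w * v = (w * v * w⁻¹ * v⁻¹) * v * w := by group
        have hr2' : r ^ 2 = (w * v * w⁻¹ * v⁻¹) * v ^ 2 := by
          have hkc : v * (w * v * w⁻¹ * v⁻¹) = (w * v * w⁻¹ * v⁻¹) * v := hcenk _ hk v
          calc r ^ 2 = v * (w * v) * w := by rw [hrv, pow_two]; group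
            _ = v * ((w * v * w⁻¹ * v⁻¹) * v * w) * w := by rw [← hwv]
            _ = (v * (w * v * w⁻¹ * v⁻¹)) * v * (w * w) := by group
            _ = (w * v * w⁻¹ * v⁻¹) * v ^ 2 := by rw [hkc, hw2, mul_one, pow_two, mul_assoc]
        have hv2 : v ^ 2 ∈ Subgroup.zpowers c := by
          have h : v ^ 2 = (w * v * w⁻¹ * v⁻¹)⁻¹ * r ^ 2 := by rw [hr2', inv_mul_cancel_left]
          rw [h]
          exact Subgroup.mul_mem _ (Subgroup.inv_mem _ hk) hr2
        have hv4 : v ^ 4 = 1 := by
          rw [show 4 = 2 * 2 from rfl, pow_mul]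
          exact hsqc _ hv2
        have h5 := hv v hvU hv4
        rw [hrv, mul_assoc, ← mul_assoc w v w, h5, mul_assoc]
    · have hep : e ^ p = 1 := hEq hp2 e he
      rw [hep, one_mul] at hpow
      exact hii r hr w hwR hpow hwp hMr hwM
  -- the characteristic subgroup Y
  set Y : Subgroup G :=
    Subgroup.closure {x : G | (∀ u ∈ U, x * u ^ p = u ^ p * x) ∧ x ^ p = 1} with hY
  have hYchar : Y.Characteristic := by
    rw [Subgroup.characteristic_iff_le_comap]
    intro φ
    rw [hY, Subgroup.closure_le]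
    rintro x ⟨hx1, hx2⟩
    rw [SetLike.mem_coe, Subgroup.mem_comap]
    apply Subgroup.subset_closure
    refine ⟨?_, ?_⟩
    · intro u hu
      have hu' : φ.symm u ∈ U := (char_mem_iff hUchar φ.symm).mpr hu
      have h := congrArg φ (hx1 _ hu')
      simpa [map_mul, map_pow] using h
    · have h := congrArg φ hx2
      simpa [map_pow] using h
  have hZchar := zcenter_char hYchar
  have hZcyc := hsymp _ hZchar (zcenter_comm Y)
  have hcY : c ∈ Y ⊓ Subgroup.centralizer (Y : Set G) := by
    refine ⟨Subgroup.subset_closure ⟨?_, hcp⟩, Subgroup.center_le_centralizer _ hcZ⟩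
    intro u hu
    exact (Subgroup.mem_center_iff.mp hcZ (u ^ p)).symm
  have hwY : w ∈ Y ⊓ Subgroup.centralizer (Y : Set G) := by
    rw [Subgroup.mem_inf]
    refine ⟨Subgroup.subset_closure ⟨hwM, hwp⟩, ?_⟩
    rw [hY, mem_centralizer_closure_iff]
    rintro x ⟨hx1, hx2⟩
    exact key x hx1 hx2
  have hwc := mem_zpowers_of_cyclic_sub _ hZcyc hcY hwY hc hwp
  exact hwU ((Subgroup.zpowers_le.mpr hcU) hwc)

end Cfsg.Agent.Lib.Helper3.Symp
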