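import Mathlib
import Cfsg.Agent.S3761
import Cfsg.Agent.Lib.Helper3.SympC

set_option autoImplicit false

/-! P. Hall's theorem on p-groups of symplectic type, part D: the final step, using the theorem
on self-centralizing cyclic normal subgroups. -/

namespace Cfsg.Agent.Lib.Helper3.Symp

open Cfsg
open scoped commutatorElement

variable {G : Type*} [Group G]

theorem final_step [Finite G] {p : ℕ} [hp : Fact p.Prime] (hG : IsPGroup p G)
    (hsymp : ∀ A : Subgroup G, A.Characteristic → IsMulCommutative A → IsCyclic A)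
    (U : Subgroup G) (hUchar : U.Characteristic) (hUcyc : IsCyclic U)
    (c : G) (hcZ : c ∈ Subgroup.center G) (hc : orderOf c = p)
    (hZU : ∀ z ∈ Subgroup.center G, z ∈ U)
    (E R : Subgroup G)
    (hcomm : ∀ e ∈ E, ∀ r ∈ R, e * r = r * e)
    (hprod : ∀ g : G, ∃ e ∈ E, ∃ r ∈ R, g = e * r)
    (hUR : U ≤ R)
    (hCR : ∀ r ∈ R, (∀ u ∈ U, r * u = u * r) → r ∈ U)
    (hEU : ∀ e ∈ E, ∀ u ∈ U, e * u = u * e)
    (hEp : ∀ e ∈ E, e ^ p ∈ Subgroup.zpowers c)
    (hEq : p ≠ 2 → ∀ e ∈ E, e ^ p = 1)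
    (hEc : ∀ e₁ ∈ E, ∀ e₂ ∈ E, ⁅e₁, e₂⁆ ∈ Subgroup.zpowers c)
    (hE : E = ⊥ ∨ Cfsg.IsExtraspecial p ↥E) :
    ∃ E R : Subgroup G, (∀ e ∈ E, ∀ r ∈ R, e * r = r * e) ∧ E ⊔ R = ⊤ ∧
      (E = ⊥ ∨ Cfsg.IsExtraspecial p ↥E) ∧
      (IsCyclic R ∨ (p = 2 ∧ 16 ≤ Nat.card R ∧
        ((∃ m : ℕ, Nonempty (↥R ≃* DihedralGroup m)) ∨
          (∃ m : ℕ, Nonempty (↥R ≃* QuaternionGroup m)) ∨ Cfsg.IsQuasiDihedral ↥R))) := by
  classical
  have hcU : c ∈ U := hZU c hcZ
  have hU1 : ∀ u ∈ U, u ^ p = 1 → u ∈ Subgroup.zpowers c :=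
    fun u hu h => mem_zpowers_of_cyclic_sub U hUcyc hcU hu hc h
  have hUab := comm_of_isCyclic_sub hUcyc
  have hsup : E ⊔ R = ⊤ := by
    rw [eq_top_iff]
    intro g _
    obtain ⟨e, he, r, hr, rfl⟩ := hprod g
    exact Subgroup.mul_mem_sup he hr
  by_cases hRab : ∀ r₁ ∈ R, ∀ r₂ ∈ R, r₁ * r₂ = r₂ * r₁
  · have hRU : R = U :=
      le_antisymm (fun r hr => hCR r hr (fun u hu => hRab r hr u (hUR hu))) hUR
    refine ⟨E, R, hcomm, hsup, hE, Or.inl ?_⟩
    rw [hRU]
    exact hUcyc
  have hna : ¬ IsMulCommutative ↥R := fun h => hRab (comm_of_isMulCommutative h)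
  obtain ⟨n, hn⟩ := IsPGroup.iff_card.mp (hG.to_subgroup U)
  have hUn : U.Normal := @Subgroup.normal_of_characteristic _ _ U hUchar
  have hU'cyc : IsCyclic ↥(U.subgroupOf R) := by
    have := hUcyc
    exact isCyclic_of_surjective (Subgroup.subgroupOfEquivOfLe hUR).symm
      (Subgroup.subgroupOfEquivOfLe hUR).symm.surjective
  have hU'card : Nat.card ↥(U.subgroupOf R) = p ^ n :=
    (Nat.card_congr (Subgroup.subgroupOfEquivOfLe hUR).toEquiv).trans hn
  have hC' : Subgroup.centralizer ((U.subgroupOf R : Subgroup ↥R) : Set ↥R) = U.subgroupOf R := by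
    ext r
    rw [Subgroup.mem_centralizer_iff]
    constructor
    · intro h
      rw [Subgroup.mem_subgroupOf]
      apply hCR r.1 r.2
      intro u hu
      have h2 := h ⟨u, hUR hu⟩ (by rw [SetLike.mem_coe, Subgroup.mem_subgroupOf]; exact hu)
      exact (congrArg Subtype.val h2).symm
    · intro hr x hx
      rw [SetLike.mem_coe, Subgroup.mem_subgroupOf] at hx
      rw [Subgroup.mem_subgroupOf] at hr
      exact Subtype.ext (hUab x.1 hx r.1 hr)
  rcases Cfsg.Agent.S3761.result (hG.to_subgroup R) hna (U.subgroupOf R) hU'cyc n hU'card hC'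
    with ⟨hp2, hcard, hiso⟩ | ⟨hidx, hel, hcd, -⟩
  · -- first alternative
    by_cases h16 : 16 ≤ Nat.card R
    · exact ⟨E, R, hcomm, hsup, hE, Or.inr ⟨hp2, h16, hiso⟩⟩
    · subst hp2
      have hn2 : 2 ≤ n := by
        by_contra hlt
        apply hRab
        have hUcen : ∀ u ∈ U, u ∈ Subgroup.center G := by
          intro u hu
          apply mem_center_of_mem_zpowers hcZ
          apply hU1 u hu
          have hd := Subgroup.orderOf_dvd_natCard U hu
          rw [hn] at hd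
          have hd2 : orderOf u ∣ 2 := by
            have hn01 : n = 0 ∨ n = 1 := by omega
            rcases hn01 with rfl | rfl
            · exact hd.trans (by norm_num)
            · exact hd.trans (by norm_num)
          exact orderOf_dvd_iff_pow_eq_one.mp hd2
        have hRU : R ≤ U :=
          fun r hr => hCR r hr (fun u hu => (Subgroup.mem_center_iff.mp (hUcen u hu) r))
        exact fun r₁ h₁ r₂ h₂ => hUab r₁ (hRU h₁) r₂ (hRU h₂)
      have hn3 : n + 1 < 4 := by
        have h : (2 : ℕ) ^ (n + 1) < 2 ^ 4 := by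
          rw [← hcard]
          omega
        exact (Nat.pow_lt_pow_iff_right (by norm_num)).mp h
      have hn' : n = 2 := by omega
      subst hn'
      have hX := extraspecial_of_card_eight hG c hcZ hc U E R (by rw [hn]; norm_num) hU1 hZU
        hcomm hprod hUR (by rw [hcard]; norm_num) hCR hEp hEc
      refine ⟨⊤, ⊥, ?_, sup_bot_eq _, Or.inr hX, Or.inl inferInstance⟩
      intro e _ r hr
      rw [Subgroup.mem_bot.mp hr, mul_one, one_mul]
  · -- second alternative
    exfalso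
    have hMiff : ∀ x : ↥R,
        x ∈ Subgroup.centralizer ((Cfsg.powerClosure p 1 (U.subgroupOf R) : Subgroup ↥R) : Set ↥R)
          ↔ ∀ u ∈ U, x.1 * u ^ p = u ^ p * x.1 := by
      intro x
      unfold Cfsg.powerClosure
      rw [mem_centralizer_closure_iff]
      constructor
      · intro h u hu
        have h1 := h ((⟨u, hUR hu⟩ : ↥R) ^ p ^ 1)
          ⟨⟨u, hUR hu⟩, by rw [Subgroup.mem_subgroupOf]; exact hu, rfl⟩
        have h2 := congrArg Subtype.val h1
        simp only [pow_one, Subgroup.coe_mul, Subgroup.coe_pow] at h2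
        exact h2.symm
      · rintro h s ⟨x0, hx0, rfl⟩
        rw [Subgroup.mem_subgroupOf] at hx0
        apply Subtype.ext
        simp only [pow_one, Subgroup.coe_mul, Subgroup.coe_pow]
        exact (h x0.1 hx0).symm
    have hΩmem : ∀ (x : G) (hx : x ∈ R), x ^ p = 1 → (∀ u ∈ U, x * u ^ p = u ^ p * x) →
        (⟨x, hx⟩ : ↥R) ∈ Cfsg.omegaOne p (Subgroup.centralizer
          ((Cfsg.powerClosure p 1 (U.subgroupOf R) : Subgroup ↥R) : Set ↥R)) := by
      intro x hx hxp hxM
      unfold Cfsg.omegaOne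
      apply Subgroup.subset_closure
      refine ⟨(hMiff _).mpr hxM, ?_⟩
      apply Subtype.ext
      simpa using hxp
    have hii : ∀ x ∈ R, ∀ y ∈ R, x ^ p = 1 → y ^ p = 1 → (∀ u ∈ U, x * u ^ p = u ^ p * x) →
        (∀ u ∈ U, y * u ^ p = u ^ p * y) → x * y = y * x := by
      intro x hx y hy hxp hyp hxM hyM
      have h := comm_of_isMulCommutative hel.1 _ (hΩmem x hx hxp hxM) _ (hΩmem y hy hyp hyM)
      exact congrArg Subtype.val h
    have hcR : c ∈ R := hUR hcU
    have hex : ∃ w ∈ R, w ∉ U ∧ w ^ p = 1 ∧ ∀ u ∈ U, w * u ^ p = u ^ p * w := by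
      by_contra hall
      have hall' : ∀ w ∈ R, w ^ p = 1 → (∀ u ∈ U, w * u ^ p = u ^ p * w) → w ∈ U := by
        intro w hw h1 h2
        by_contra hwU
        exact hall ⟨w, hw, hwU, h1, h2⟩
      have hle : Cfsg.omegaOne p (Subgroup.centralizer
          ((Cfsg.powerClosure p 1 (U.subgroupOf R) : Subgroup ↥R) : Set ↥R))
          ≤ (Subgroup.zpowers c).subgroupOf R := by
        unfold Cfsg.omegaOne
        rw [Subgroup.closure_le]
        rintro x ⟨hx1, hx2⟩
        rw [SetLike.mem_coe, Subgroup.mem_subgroupOf]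
        have hxp : (x : G) ^ p = 1 := by
          have h := congrArg Subtype.val hx2
          simpa using h
        have hxU := hall' x.1 x.2 hxp ((hMiff x).mp hx1)
        exact hU1 _ hxU hxp
      have h1 := Subgroup.card_le_of_le hle
      rw [hcd, Nat.card_congr (Subgroup.subgroupOfEquivOfLe
        (Subgroup.zpowers_le.mpr hcR)).toEquiv, Nat.card_zpowers, hc] at h1
      have h2 := hp.out.two_le
      nlinarith
    obtain ⟨w, hwR, hwU, hwp, hwM⟩ := hex
    have hiii : p = 2 → ∀ r ∈ R, (∀ u ∈ U, r * u ^ p = u ^ p * r) → r ∈ U ∨ r * w⁻¹ ∈ U := by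
      intro hp2 r hr hMr
      by_contra hcon
      push Not at hcon
      obtain ⟨h1, h2⟩ := hcon
      have hidx' : ((U.subgroupOf R).subgroupOf (Subgroup.centralizer
          ((Cfsg.powerClosure p 1 (U.subgroupOf R) : Subgroup ↥R) : Set ↥R))).index = 2 := by
        rw [← hp2]
        exact hidx
      have h3 := Subgroup.mul_mem_iff_of_index_two hidx'
        (a := ⟨⟨r, hr⟩, (hMiff _).mpr hMr⟩) (b := ⟨⟨w, hwR⟩, (hMiff _).mpr hwM⟩⁻¹)
      have h4 : (⟨⟨r, hr⟩, (hMiff _).mpr hMr⟩ : ↥(Subgroup.centralizer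
          ((Cfsg.powerClosure p 1 (U.subgroupOf R) : Subgroup ↥R) : Set ↥R))) *
          ⟨⟨w, hwR⟩, (hMiff _).mpr hwM⟩⁻¹ ∈ (U.subgroupOf R).subgroupOf _ := by
        rw [h3]
        constructor
        · intro h
          exact absurd (Subgroup.mem_subgroupOf.mp (Subgroup.mem_subgroupOf.mp h)) h1
        · intro h
          have h5 := Subgroup.mem_subgroupOf.mp (Subgroup.mem_subgroupOf.mp h)
          simp only [Subgroup.coe_inv, inv_mem_iff] at h5
          exact absurd h5 hwU
      have h6 := Subgroup.mem_subgroupOf.mp (Subgroup.mem_subgroupOf.mp h4)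
      simp only [Subgroup.coe_mul, Subgroup.coe_inv] at h6
      exact h2 h6
    exact alt2_false hsymp U hUchar hUcyc c hcZ hc hcU E R hcomm hprod hUR hEU hEp hEq w hwR hwU
      hwp hwM hii hiii

end Cfsg.Agent.Lib.Helper3.Symp
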