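import Mathlib
import Cfsg.Agent.Lib.Helper3.SympA
import Cfsg.Agent.Lib.Helper2.PGroupNormal

set_option autoImplicit false

/-! P. Hall's theorem on p-groups of symplectic type, part E: the subgroup `T` with
`T / U = Ω₁(Z(G / U)) ∩ C_G(U) / U` for a maximal characteristic abelian subgroup `U`. -/

namespace Cfsg.Agent.Lib.Helper3.Symp

open Cfsg
open scoped commutatorElement

variable {G : Type*} [Group G]

/-- the data: `U` is a cyclic characteristic subgroup which contains every characteristic abelian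
subgroup centralizing it, and `c` is a central element of order `p` -/
structure Setup (p : ℕ) (U : Subgroup G) (c : G) : Prop where
  hG : IsPGroup p G
  hUchar : U.Characteristic
  hUcyc : IsCyclic U
  hM : ∀ A : Subgroup G, A.Characteristic → (∀ a ∈ A, ∀ b ∈ A, a * b = b * a) →
    (∀ a ∈ A, ∀ u ∈ U, a * u = u * a) → A ≤ U
  hcZ : c ∈ Subgroup.center G
  hc : orderOf c = p

/-- the subgroup `T` -/
def Tsub (U : Subgroup G) (p : ℕ) : Subgroup G where
  carrier := {x | x ∈ Subgroup.centralizer (U : Set G) ∧ (∀ g : G, g * x * g⁻¹ * x⁻¹ ∈ U) ∧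
    x ^ p ∈ U}
  one_mem' := by
    refine ⟨Subgroup.one_mem _, fun g => ?_, ?_⟩
    · have h : g * 1 * g⁻¹ * (1 : G)⁻¹ = 1 := by group
      rw [h]
      exact Subgroup.one_mem U
    · rw [one_pow]
      exact Subgroup.one_mem U
  mul_mem' := by
    rintro x y ⟨hx1, hx2, hx3⟩ ⟨hy1, hy2, hy3⟩
    refine ⟨Subgroup.mul_mem _ hx1 hy1, fun g => ?_, ?_⟩
    · have hk : g * y * g⁻¹ * y⁻¹ ∈ U := hy2 g
      have hxk : x * (g * y * g⁻¹ * y⁻¹) * x⁻¹ = g * y * g⁻¹ * y⁻¹ := by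
        have h := Subgroup.mem_centralizer_iff.mp hx1 _ hk
        rw [← h, mul_inv_cancel_right]
      have h : g * (x * y) * g⁻¹ * (x * y)⁻¹
          = (g * x * g⁻¹ * x⁻¹) * (x * (g * y * g⁻¹ * y⁻¹) * x⁻¹) := by group
      rw [h, hxk]
      exact Subgroup.mul_mem U (hx2 g) hk
    · have hc' : y * x * y⁻¹ * x⁻¹ ∈ U := hx2 y
      have hc : y * x = (y * x * y⁻¹ * x⁻¹) * x * y := by group
      have hcx : Commute (y * x * y⁻¹ * x⁻¹) x := Subgroup.mem_centralizer_iff.mp hx1 _ hc'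
      have hcy : Commute (y * x * y⁻¹ * x⁻¹) y := Subgroup.mem_centralizer_iff.mp hy1 _ hc'
      rw [Cfsg.Agent.Lib.Helper2.mul_pow_of_central_commutator hc hcx hcy p]
      exact Subgroup.mul_mem U (Subgroup.mul_mem U hx3 hy3) (Subgroup.pow_mem U hc' _)
  inv_mem' := by
    rintro x ⟨hx1, hx2, hx3⟩
    refine ⟨Subgroup.inv_mem _ hx1, fun g => ?_, ?_⟩
    · have hk : (g * x * g⁻¹ * x⁻¹)⁻¹ ∈ U := Subgroup.inv_mem U (hx2 g)
      have hxk : x⁻¹ * (g * x * g⁻¹ * x⁻¹)⁻¹ * x = (g * x * g⁻¹ * x⁻¹)⁻¹ := by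
        have h := Subgroup.mem_centralizer_iff.mp hx1 _ hk
        rw [mul_assoc, h, inv_mul_cancel_left]
      have h : g * x⁻¹ * g⁻¹ * x⁻¹⁻¹ = x⁻¹ * (g * x * g⁻¹ * x⁻¹)⁻¹ * x := by group
      rw [h, hxk]
      exact hk
    · rw [inv_pow]
      exact Subgroup.inv_mem U hx3

theorem mem_Tsub {U : Subgroup G} {p : ℕ} {x : G} :
    x ∈ Tsub U p ↔ x ∈ Subgroup.centralizer (U : Set G) ∧ (∀ g : G, g * x * g⁻¹ * x⁻¹ ∈ U) ∧
      x ^ p ∈ U := Iff.rfl

section

variable {p : ℕ} {U : Subgroup G} {c : G}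

theorem Setup.hcp (S : Setup p U c) : c ^ p = 1 := by
  rw [← S.hc]
  exact pow_orderOf_eq_one c

theorem Setup.hzc (S : Setup p U c) : Subgroup.zpowers c ≤ Subgroup.center G :=
  Subgroup.zpowers_le.mpr S.hcZ

theorem Setup.hZU (S : Setup p U c) : ∀ z ∈ Subgroup.center G, z ∈ U := by
  intro z hz
  refine S.hM (Subgroup.center G) Subgroup.centerCharacteristic ?_ ?_ hz
  · intro a _ b hb
    exact Subgroup.mem_center_iff.mp hb a
  · intro a ha u _
    exact (Subgroup.mem_center_iff.mp ha u).symm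

theorem Setup.hcU (S : Setup p U c) : c ∈ U := S.hZU c S.hcZ

theorem Setup.hzU (S : Setup p U c) : Subgroup.zpowers c ≤ U :=
  Subgroup.zpowers_le.mpr S.hcU

theorem Setup.hUab (S : Setup p U c) : ∀ a ∈ U, ∀ b ∈ U, a * b = b * a := by
  intro a ha b hb
  obtain ⟨g, hg⟩ := S.hUcyc.exists_generator
  obtain ⟨i, hi⟩ := Subgroup.mem_zpowers_iff.mp (hg ⟨a, ha⟩)
  obtain ⟨j, hj⟩ := Subgroup.mem_zpowers_iff.mp (hg ⟨b, hb⟩)
  have h : (⟨a, ha⟩ : ↥U) * ⟨b, hb⟩ = ⟨b, hb⟩ * ⟨a, ha⟩ := by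
    rw [← hi, ← hj]
    exact ((Commute.refl g).zpow_zpow i j).eq
  exact congrArg Subtype.val h

theorem Setup.hU1 [Finite G] [Fact p.Prime] (S : Setup p U c) :
    ∀ u ∈ U, u ^ p = 1 → u ∈ Subgroup.zpowers c :=
  fun u hu h => mem_zpowers_of_cyclic_sub U S.hUcyc S.hcU hu S.hc h

theorem Setup.hcen (S : Setup p U c) : ∀ k ∈ Subgroup.zpowers c, ∀ g : G, g * k = k * g :=
  fun k hk g => Subgroup.mem_center_iff.mp (S.hzc hk) g

theorem le_Tsub (S : Setup p U c) : U ≤ Tsub U p := by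
  intro u hu
  refine ⟨?_, fun g => ?_, Subgroup.pow_mem U hu p⟩
  · rw [Subgroup.mem_centralizer_iff]
    intro v hv
    exact S.hUab v hv u hu
  · exact Subgroup.mul_mem U ((char_conj_mem_iff S.hUchar g).mpr hu) (Subgroup.inv_mem U hu)

theorem Tsub_comm_U {x : G} (hx : x ∈ Tsub U p) {u : G} (hu : u ∈ U) : x * u = u * x :=
  (Subgroup.mem_centralizer_iff.mp hx.1 u hu).symm

theorem Tsub_char (S : Setup p U c) : (Tsub U p).Characteristic := by
  rw [Subgroup.characteristic_iff_le_comap]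
  intro φ x hx
  rw [Subgroup.mem_comap]
  refine ⟨(char_mem_iff (centralizer_char S.hUchar) φ).mpr hx.1, fun g => ?_, ?_⟩
  · have h1 := hx.2.1 (φ.symm g)
    have h2 := (char_mem_iff S.hUchar φ).mpr h1
    simpa [map_mul, map_inv] using h2
  · have h2 := (char_mem_iff S.hUchar φ).mpr hx.2.2
    simpa [map_pow] using h2

theorem lemmaW [Finite G] [hp : Fact p.Prime] (S : Setup p U c) (W : Subgroup G)
    (hWn : ∀ w ∈ W, ∀ g : G, g * w * g⁻¹ ∈ W) (hWC : ∀ w ∈ W, ∀ u ∈ U, w * u = u * w)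
    (hne : ∃ w ∈ W, w ∉ U) : ∃ x ∈ W, x ∈ Tsub U p ∧ x ∉ U := by
  have hUn : U.Normal := @Subgroup.normal_of_characteristic _ _ U S.hUchar
  have hWnorm : W.Normal := ⟨fun w hw g => hWn w hw g⟩
  have hW'n : (W.map (QuotientGroup.mk' U)).Normal :=
    hWnorm.map (QuotientGroup.mk' U) (QuotientGroup.mk'_surjective U)
  have hW'ne : W.map (QuotientGroup.mk' U) ≠ ⊥ := by
    obtain ⟨w, hw, hwU⟩ := hne
    intro h
    have h1 : QuotientGroup.mk' U w ∈ W.map (QuotientGroup.mk' U) :=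
      Subgroup.mem_map_of_mem _ hw
    rw [h, Subgroup.mem_bot, QuotientGroup.mk'_apply, QuotientGroup.eq_one_iff] at h1
    exact hwU h1
  obtain ⟨z, hzW, hzZ, hz⟩ := Cfsg.Agent.Lib.Helper2.exists_central_orderOf_eq_prime
    (S.hG.to_quotient U) (W.map (QuotientGroup.mk' U)) hW'ne
  obtain ⟨w, hw, rfl⟩ := Subgroup.mem_map.mp hzW
  refine ⟨w, hw, ⟨?_, ?_, ?_⟩, ?_⟩
  · rw [Subgroup.mem_centralizer_iff]
    intro u hu
    exact (hWC w hw u hu).symm
  · intro g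
    rw [← QuotientGroup.eq_one_iff (N := U), ← QuotientGroup.mk'_apply, map_mul, map_mul,
      map_mul, map_inv, map_inv]
    have h := Subgroup.mem_center_iff.mp hzZ (QuotientGroup.mk' U g)
    rw [h, mul_assoc ((QuotientGroup.mk' U) w), mul_inv_cancel, mul_one, mul_inv_cancel]
  · rw [← QuotientGroup.eq_one_iff (N := U), ← QuotientGroup.mk'_apply, map_pow, ← hz,
      pow_orderOf_eq_one]
  · intro hwU
    have h1 : QuotientGroup.mk' U w = 1 := by
      rw [QuotientGroup.mk'_apply, QuotientGroup.eq_one_iff]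
      exact hwU
    rw [h1, orderOf_one] at hz
    exact hp.out.one_lt.ne hz

theorem Tsub_comm_mem [Finite G] [Fact p.Prime] (S : Setup p U c) {x y : G}
    (hx : x ∈ Tsub U p) (hy : y ∈ Tsub U p) : ⁅x, y⁆ ∈ Subgroup.zpowers c := by
  have hkU : x * y * x⁻¹ * y⁻¹ ∈ U := hy.2.1 x
  rw [commutatorElement_def]
  apply S.hU1 _ hkU
  have h1 : x * y * x⁻¹ = (x * y * x⁻¹ * y⁻¹) * y := by group
  have hky : Commute (x * y * x⁻¹ * y⁻¹) y := (Tsub_comm_U hy hkU).symm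
  have hxyp : x * y ^ p = y ^ p * x := Tsub_comm_U hx hy.2.2
  have h2 : (x * y * x⁻¹) ^ p = y ^ p := by
    rw [conj_pow, hxyp, mul_inv_cancel_right]
  rw [h1, hky.mul_pow] at h2
  exact mul_eq_right.mp h2

theorem Tsub_mul_pow [Finite G] [Fact p.Prime] (S : Setup p U c) {q : ℕ}
    (hq2 : p ∣ q.choose 2) {x y : G} (hx : x ∈ Tsub U p) (hy : y ∈ Tsub U p) :
    (x * y) ^ q = x ^ q * y ^ q := by
  have hc' : ⁅y, x⁆ ∈ Subgroup.zpowers c := Tsub_comm_mem S hy hx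
  rw [commutatorElement_def] at hc'
  have hc : y * x = (y * x * y⁻¹ * x⁻¹) * x * y := by group
  have hcx : Commute (y * x * y⁻¹ * x⁻¹) x := (S.hcen _ hc' x).symm
  have hcy : Commute (y * x * y⁻¹ * x⁻¹) y := (S.hcen _ hc' y).symm
  rw [Cfsg.Agent.Lib.Helper2.mul_pow_of_central_commutator hc hcx hcy q]
  obtain ⟨m, hm⟩ := hq2
  rw [hm, pow_mul, pow_eq_one_of_mem_zpowers S.hc hc', one_pow, mul_one]

theorem Tsub_pow_mem {q : ℕ} (hpq : p ∣ q) {x : G} (hx : x ∈ Tsub U p) : x ^ q ∈ U := by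
  obtain ⟨m, rfl⟩ := hpq
  rw [pow_mul]
  exact Subgroup.pow_mem U hx.2.2 m

/-- a subgroup of `T` whose elements of order dividing `q` lie in `U` is abelian -/
theorem cyc' [Finite G] [Fact p.Prime] (S : Setup p U c) {q : ℕ} (hpq : p ∣ q)
    (hq2 : p ∣ q.choose 2) (A : Subgroup G) (hAT : A ≤ Tsub U p)
    (hA : ∀ a ∈ A, a ^ q = 1 → a ∈ U) : ∀ a ∈ A, ∀ b ∈ A, a * b = b * a := by
  have hcyc := S.hUcyc
  let f : ↥A →* ↥U := MonoidHom.mk' (fun a => ⟨a.1 ^ q, Tsub_pow_mem hpq (hAT a.2)⟩)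
    (fun a b => Subtype.ext (Tsub_mul_pow S hq2 (hAT a.2) (hAT b.2)))
  have hker : f.ker ≤ Subgroup.center ↥A := by
    intro a ha
    rw [MonoidHom.mem_ker] at ha
    have ha1 : a.1 ^ q = 1 := congrArg Subtype.val ha
    have haU := hA a.1 a.2 ha1
    rw [Subgroup.mem_center_iff]
    intro b
    apply Subtype.ext
    exact Tsub_comm_U (hAT b.2) haU
  have hcm := MonoidHom.isMulCommutative_of_isCyclic_of_ker_le_center f hker
  intro a ha b hb
  exact congrArg Subtype.val (hcm.is_comm.comm ⟨a, ha⟩ ⟨b, hb⟩)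

theorem centralizer_Tsub_le [Finite G] [Fact p.Prime] (S : Setup p U c) :
    ∀ g : G, (∀ t ∈ Tsub U p, g * t = t * g) → g ∈ U := by
  intro g hg
  by_contra hgU
  have hTchar := Tsub_char S
  have hWchar := centralizer_char hTchar
  obtain ⟨x, hxW, hxT, hxU⟩ := lemmaW S (Subgroup.centralizer ((Tsub U p : Subgroup G) : Set G))
    (fun w hw g => (char_conj_mem_iff hWchar g).mpr hw)
    (fun w hw u hu => ((Subgroup.mem_centralizer_iff.mp hw) u (le_Tsub S hu)).symm)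
    ⟨g, by
      rw [Subgroup.mem_centralizer_iff]
      intro t ht
      exact (hg t ht).symm, hgU⟩
  have hZT : Tsub U p ⊓ Subgroup.centralizer ((Tsub U p : Subgroup G) : Set G) ≤ U :=
    S.hM _ (zcenter_char hTchar) (comm_of_isMulCommutative (zcenter_comm _))
      (fun a ha u hu => Tsub_comm_U ha.1 hu)
  exact hxU (hZT ⟨hxT, hxW⟩)

theorem Tsub_not_le [Finite G] [Fact p.Prime] (S : Setup p U c)
    (hCU : ¬ Subgroup.centralizer (U : Set G) ≤ U) : ∃ x ∈ Tsub U p, x ∉ U := by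
  have hCchar := centralizer_char S.hUchar
  have hne : ∃ w ∈ Subgroup.centralizer (U : Set G), w ∉ U := by
    by_contra h
    push Not at h
    exact hCU h
  obtain ⟨x, -, hxT, hxU⟩ := lemmaW S (Subgroup.centralizer (U : Set G))
    (fun w hw g => (char_conj_mem_iff hCchar g).mpr hw)
    (fun w hw u hu => ((Subgroup.mem_centralizer_iff.mp hw) u hu).symm) hne
  exact ⟨x, hxT, hxU⟩

theorem Tsub_nonabelian [Finite G] [Fact p.Prime] (S : Setup p U c)
    (hCU : ¬ Subgroup.centralizer (U : Set G) ≤ U) :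
    ¬ ∀ a ∈ Tsub U p, ∀ b ∈ Tsub U p, a * b = b * a := by
  intro h
  obtain ⟨x, hxT, hxU⟩ := Tsub_not_le S hCU
  exact hxU (S.hM _ (Tsub_char S) h (fun a ha u hu => Tsub_comm_U ha hu) hxT)

theorem exists_D [Finite G] [Fact p.Prime] (S : Setup p U c) {q : ℕ} (hq2 : p ∣ q.choose 2) :
    ∃ D : Subgroup G, D.Characteristic ∧ ∀ x, x ∈ D ↔ x ∈ Tsub U p ∧ x ^ q = 1 := by
  let D : Subgroup G :=
    { carrier := {x | x ∈ Tsub U p ∧ x ^ q = 1}
      one_mem' := ⟨Subgroup.one_mem _, one_pow _⟩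
      mul_mem' := by
        rintro a b ⟨ha1, ha2⟩ ⟨hb1, hb2⟩
        refine ⟨Subgroup.mul_mem _ ha1 hb1, ?_⟩
        rw [Tsub_mul_pow S hq2 ha1 hb1, ha2, hb2, one_mul]
      inv_mem' := by
        rintro a ⟨ha1, ha2⟩
        refine ⟨Subgroup.inv_mem _ ha1, ?_⟩
        rw [inv_pow, ha2, inv_one] }
  have hD : ∀ x, x ∈ D ↔ x ∈ Tsub U p ∧ x ^ q = 1 := fun x => Iff.rfl
  refine ⟨D, ?_, hD⟩
  rw [Subgroup.characteristic_iff_le_comap]
  intro φ x hx
  rw [Subgroup.mem_comap, hD]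
  rw [hD] at hx
  refine ⟨(char_mem_iff (Tsub_char S) φ).mpr hx.1, ?_⟩
  have h := congrArg φ hx.2
  simpa [map_pow] using h

end

end Cfsg.Agent.Lib.Helper3.Symp
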