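import Mathlib
import Cfsg.Agent.Lib.Helper3.SympD
import Cfsg.Agent.Lib.Helper3.SympE
import Cfsg.Agent.Lib.Helper1.ExtraspecialCentral

set_option autoImplicit false

/-! P. Hall's theorem on p-groups of symplectic type, part F: construction of the extraspecial
subgroup `E` and the proof of the theorem. -/

namespace Cfsg.Agent.Lib.Helper3.Symp

open Cfsg
open scoped commutatorElement

variable {G : Type*} [Group G]

/-- the subgroup generated by `E` and `x`, when `x` normalizes `E` and `x * x ∈ E` -/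
theorem exists_larger (E : Subgroup G) (x : G) (hn1 : ∀ e ∈ E, x * e * x⁻¹ ∈ E)
    (hn2 : ∀ e ∈ E, x⁻¹ * e * x ∈ E) (hx2 : x * x ∈ E) :
    ∃ X : Subgroup G, ∀ y, y ∈ X ↔ (y ∈ E ∨ y * x⁻¹ ∈ E) := by
  let X : Subgroup G :=
    { carrier := {y | y ∈ E ∨ y * x⁻¹ ∈ E}
      one_mem' := Or.inl (Subgroup.one_mem E)
      mul_mem' := by
        rintro a b (ha | ha) (hb | hb)
        · exact Or.inl (E.mul_mem ha hb)
        · right
          have h : a * b * x⁻¹ = a * (b * x⁻¹) := by group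
          rw [h]
          exact E.mul_mem ha hb
        · right
          have h : a * b * x⁻¹ = (a * x⁻¹) * (x * b * x⁻¹) := by group
          rw [h]
          exact E.mul_mem ha (hn1 b hb)
        · left
          have h : a * b = (a * x⁻¹) * (x * (b * x⁻¹) * x⁻¹) * (x * x) := by group
          rw [h]
          exact E.mul_mem (E.mul_mem ha (hn1 _ hb)) hx2
      inv_mem' := by
        rintro a (ha | ha)
        · exact Or.inl (E.inv_mem ha)
        · right
          have h : a⁻¹ * x⁻¹ = (x⁻¹ * (a * x⁻¹)⁻¹ * x) * (x * x)⁻¹ := by group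
          rw [h]
          exact E.mul_mem (hn2 _ (E.inv_mem ha)) (E.inv_mem hx2) }
  exact ⟨X, fun y => Iff.rfl⟩

structure Setup2 (p : ℕ) (U : Subgroup G) (c : G) (q : ℕ) (D : Subgroup G) : Prop
    extends Setup p U c where
  hCU : ¬ Subgroup.centralizer (U : Set G) ≤ U
  hpq : p ∣ q
  hq2 : p ∣ q.choose 2
  hqpp : q ∣ p * p
  hqodd : p ≠ 2 → q = p
  hDchar : D.Characteristic
  hD : ∀ x, x ∈ D ↔ x ∈ Tsub U p ∧ x ^ q = 1

structure Setup3 (p : ℕ) (U : Subgroup G) (c : G) (q : ℕ) (D E : Subgroup G) : Prop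
    extends Setup2 p U c q D where
  hED : E ≤ D
  hcE : Subgroup.zpowers c ≤ E
  hEU : ∀ x ∈ E, x ∈ U → x ^ p = 1
  hDE : ∀ x ∈ D, ∃ v ∈ U, x * v ∈ E

section

variable {p : ℕ} {U : Subgroup G} {c : G} {q : ℕ} {D E : Subgroup G}

theorem D_le_T (S : Setup2 p U c q D) : D ≤ Tsub U p := fun x hx => ((S.hD x).mp hx).1

theorem D_pow_mem [Finite G] [Fact p.Prime] (S : Setup2 p U c q D) :
    ∀ x ∈ D, x ^ p ∈ Subgroup.zpowers c := by
  intro x hx
  have hx' := (S.hD x).mp hx
  apply S.toSetup.hU1 _ hx'.1.2.2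
  obtain ⟨m, hm⟩ := S.hqpp
  rw [← pow_mul, hm, pow_mul, hx'.2, one_pow]

theorem exists_E [Finite G] [hp : Fact p.Prime] (S : Setup2 p U c q D) :
    ∃ E : Subgroup G, Setup3 p U c q D E := by
  classical
  have hDT := D_le_T S
  have hcD : Subgroup.zpowers c ≤ D := by
    rw [Subgroup.zpowers_le, S.hD]
    refine ⟨le_Tsub S.toSetup S.toSetup.hcU, ?_⟩
    obtain ⟨m, hm⟩ := S.hpq
    rw [hm, pow_mul, S.toSetup.hcp, one_pow]
  let X0 : Set (Subgroup G) :=
    {X | X ≤ D ∧ Subgroup.zpowers c ≤ X ∧ ∀ x ∈ X, x ∈ U → x ^ p = 1}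
  have hne : X0.Nonempty :=
    ⟨Subgroup.zpowers c, hcD, le_rfl, fun x hx _ => pow_eq_one_of_mem_zpowers S.hc hx⟩
  obtain ⟨E, ⟨hED, hcE, hEU⟩, hmax⟩ :=
    Set.exists_max_image X0 (fun X : Subgroup G => Nat.card ↥X) (Set.toFinite _) hne
  refine ⟨E, { toSetup2 := S, hED := hED, hcE := hcE, hEU := hEU, hDE := ?_ }⟩
  intro x hx
  by_cases hxE : x ∈ E
  · exact ⟨1, Subgroup.one_mem U, by rwa [mul_one]⟩
  by_cases hp2 : p = 2
  · have hxT : x ∈ Tsub U p := hDT hx
    have hx2 : x * x ∈ E := by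
      have h := D_pow_mem S x hx
      rw [hp2, pow_two] at h
      exact hcE h
    have hn1 : ∀ e ∈ E, x * e * x⁻¹ ∈ E := by
      intro e he
      have h : x * e * x⁻¹ = ⁅x, e⁆ * e := by
        rw [commutatorElement_def]
        group
      rw [h]
      exact E.mul_mem (hcE (Tsub_comm_mem S.toSetup hxT (hDT (hED he)))) he
    have hn2 : ∀ e ∈ E, x⁻¹ * e * x ∈ E := by
      intro e he
      have h : x⁻¹ * e * x = ⁅x⁻¹, e⁆ * e := by
        rw [commutatorElement_def]
        group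
      rw [h]
      exact E.mul_mem (hcE (Tsub_comm_mem S.toSetup ((Tsub U p).inv_mem hxT)
        (hDT (hED he)))) he
    obtain ⟨X, hX⟩ := exists_larger E x hn1 hn2 hx2
    have hEX : E ≤ X := fun e he => (hX e).mpr (Or.inl he)
    have hxX : x ∈ X := (hX x).mpr (Or.inr (by rw [mul_inv_cancel]; exact E.one_mem))
    have hXD : X ≤ D := by
      intro y hy
      rcases (hX y).mp hy with h | h
      · exact hED h
      · have h2 : y = y * x⁻¹ * x := by group
        rw [h2]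
        exact D.mul_mem (hED h) hx
    by_cases hXmem : ∀ y ∈ X, y ∈ U → y ^ p = 1
    · have h1 : Nat.card ↥X ≤ Nat.card ↥E := hmax X ⟨hXD, hcE.trans hEX, hXmem⟩
      have h2 : E = X := Subgroup.eq_of_le_of_card_ge hEX h1
      exact absurd (h2 ▸ hxX) hxE
    · push Not at hXmem
      obtain ⟨y, hyX, hyU, hyp⟩ := hXmem
      rcases (hX y).mp hyX with h | h
      · exact absurd (hEU y h hyU) hyp
      · refine ⟨y⁻¹, U.inv_mem hyU, ?_⟩
        have h2 : x * y⁻¹ = (y * x⁻¹)⁻¹ := by group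
        rw [h2]
        exact E.inv_mem h
  · have hDmem : D ∈ X0 := by
      refine ⟨le_rfl, hcD, fun y hy _ => ?_⟩
      have h := ((S.hD y).mp hy).2
      rw [S.hqodd hp2] at h
      exact h
    have h1 : Nat.card ↥D ≤ Nat.card ↥E := hmax D hDmem
    have h2 : E = D := Subgroup.eq_of_le_of_card_ge hED h1
    exact absurd (h2 ▸ hx) hxE

theorem E_center [Finite G] [Fact p.Prime] (S : Setup3 p U c q D E) :
    ∀ z ∈ E, (∀ e ∈ E, z * e = e * z) → z ∈ Subgroup.zpowers c := by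
  intro z hzE hz
  have hDT := D_le_T S.toSetup2
  have hzD : z ∈ D := S.hED hzE
  have hzT := hDT hzD
  have hzc : z ∈ Subgroup.centralizer (D : Set G) := by
    rw [Subgroup.mem_centralizer_iff]
    intro d hd
    obtain ⟨v, hv, hdv⟩ := S.hDE d hd
    have h1 : z * (d * v) = d * v * z := hz _ hdv
    have h2 : z * v = v * z := Tsub_comm_U hzT hv
    calc d * z = d * (z * v) * v⁻¹ := by group
      _ = d * (v * z) * v⁻¹ := by rw [h2]
      _ = (d * v * z) * v⁻¹ := by group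
      _ = z * (d * v) * v⁻¹ := by rw [h1]
      _ = z * d := by group
  have hZD : D ⊓ Subgroup.centralizer (D : Set G) ≤ U :=
    S.hM _ (zcenter_char S.hDchar) (comm_of_isMulCommutative (zcenter_comm _))
      (fun a ha u hu => Tsub_comm_U (hDT ha.1) hu)
  have hzU : z ∈ U := hZD ⟨hzD, hzc⟩
  exact S.toSetup.hU1 z hzU (S.hEU z hzE hzU)

theorem E_nonabelian [Finite G] [Fact p.Prime] (S : Setup3 p U c q D E) :
    ∃ a ∈ E, ∃ b ∈ E, a * b ≠ b * a := by
  by_contra h
  push Not at h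
  have hDT := D_le_T S.toSetup2
  have hDab : ∀ a ∈ D, ∀ b ∈ D, a * b = b * a := by
    intro d1 h1 d2 h2
    obtain ⟨v1, hv1, he1⟩ := S.hDE d1 h1
    obtain ⟨v2, hv2, he2⟩ := S.hDE d2 h2
    have hd1 : d1 * v1 * v1⁻¹ = d1 := by group
    have hd2 : d2 * v2 * v2⁻¹ = d2 := by group
    have hee : Commute (d1 * v1) (d2 * v2) := h _ he1 _ he2
    have hev2 : Commute (d1 * v1) v2⁻¹ := Tsub_comm_U (hDT (S.hED he1)) (U.inv_mem hv2)
    have hv1e : Commute v1⁻¹ (d2 * v2) :=
      (Tsub_comm_U (hDT (S.hED he2)) (U.inv_mem hv1)).symm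
    have hvv : Commute v1⁻¹ v2⁻¹ := S.toSetup.hUab _ (U.inv_mem hv1) _ (U.inv_mem hv2)
    have h3 := Commute.mul_left (hee.mul_right hev2) (hv1e.mul_right hvv)
    rw [hd1, hd2] at h3
    exact h3.eq
  have hDU : D ≤ U := S.hM D S.hDchar hDab (fun a ha u hu => Tsub_comm_U (hDT ha) hu)
  have hTab := cyc' S.toSetup S.hpq S.hq2 (Tsub U p) le_rfl
    (fun a ha haq => hDU ((S.hD a).mpr ⟨ha, haq⟩))
  exact Tsub_nonabelian S.toSetup S.hCU hTab

theorem E_comm_G [Finite G] [Fact p.Prime] (S : Setup3 p U c q D E) :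
    ∀ g : G, ∀ e ∈ E, g * e * g⁻¹ * e⁻¹ ∈ Subgroup.zpowers c := by
  intro g e he
  have heT := D_le_T S.toSetup2 (S.hED he)
  have hkU : g * e * g⁻¹ * e⁻¹ ∈ U := heT.2.1 g
  apply S.toSetup.hU1 _ hkU
  have hep : e ^ p ∈ Subgroup.zpowers c := D_pow_mem S.toSetup2 e (S.hED he)
  have h1 : g * e * g⁻¹ = (g * e * g⁻¹ * e⁻¹) * e := by group
  have hke : Commute (g * e * g⁻¹ * e⁻¹) e := (Tsub_comm_U heT hkU).symm
  have h2 : (g * e * g⁻¹) ^ p = e ^ p := by
    rw [conj_pow, S.toSetup.hcen _ hep g, mul_inv_cancel_right]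
  rw [h1, hke.mul_pow] at h2
  exact mul_eq_right.mp h2

theorem E_extraspecial [Finite G] [Fact p.Prime] (S : Setup3 p U c q D E) :
    Cfsg.IsExtraspecial p ↥E := by
  have hDT := D_le_T S.toSetup2
  apply isExtraspecial_sub S.hG E
  · have h : E ⊓ Subgroup.centralizer (E : Set G) = Subgroup.zpowers c := by
      apply le_antisymm
      · rintro z ⟨hz1, hz2⟩
        exact E_center S z hz1 (fun e he => (Subgroup.mem_centralizer_iff.mp hz2 e he).symm)
      · intro z hz
        exact ⟨S.hcE hz, Subgroup.center_le_centralizer _ (S.toSetup.hzc hz)⟩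
    rw [h, Nat.card_zpowers, S.hc]
  · exact E_nonabelian S
  · intro a ha b hb x _
    exact S.toSetup.hcen _ (Tsub_comm_mem S.toSetup (hDT (S.hED ha)) (hDT (S.hED hb))) x
  · intro a ha x _
    exact S.toSetup.hcen _ (D_pow_mem S.toSetup2 a (S.hED ha)) x

theorem assembly [Finite G] [hp : Fact p.Prime] (S : Setup3 p U c q D E)
    (hsymp : ∀ A : Subgroup G, A.Characteristic → IsMulCommutative A → IsCyclic A) :
    ∃ E R : Subgroup G, (∀ e ∈ E, ∀ r ∈ R, e * r = r * e) ∧ E ⊔ R = ⊤ ∧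
      (E = ⊥ ∨ Cfsg.IsExtraspecial p ↥E) ∧
      (IsCyclic R ∨ (p = 2 ∧ 16 ≤ Nat.card R ∧
        ((∃ m : ℕ, Nonempty (↥R ≃* DihedralGroup m)) ∨
          (∃ m : ℕ, Nonempty (↥R ≃* QuaternionGroup m)) ∨ Cfsg.IsQuasiDihedral ↥R))) := by
  have hDT := D_le_T S.toSetup2
  have hET : E ≤ Tsub U p := S.hED.trans hDT
  have hES := E_extraspecial S
  have hcomG := E_comm_G S
  have hcent : Subgroup.zpowers c ≤ E ⊓ Subgroup.centralizer (E : Set G) :=
    fun z hz => ⟨S.hcE hz, Subgroup.center_le_centralizer _ (S.toSetup.hzc hz)⟩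
  have h0110 : ⁅(⊤ : Subgroup G), E⁆ ≤ E ⊓ Subgroup.centralizer (E : Set G) := by
    rw [Subgroup.commutator_le]
    intro g _ e he
    rw [commutatorElement_def]
    exact hcent (hcomG g e he)
  have hsup := Cfsg.Agent.Lib.Helper1.extraspecial_central_product S.hG E hES h0110
  have hEn : E.Normal := by
    refine ⟨fun e he g => ?_⟩
    have h : g * e * g⁻¹ = (g * e * g⁻¹ * e⁻¹) * e := by group
    rw [h]
    exact E.mul_mem (S.hcE (hcomG g e he)) he
  have hprod : ∀ g : G, ∃ e ∈ E, ∃ r ∈ Subgroup.centralizer (E : Set G), g = e * r := by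
    intro g
    have hg : g ∈ E ⊔ Subgroup.centralizer (E : Set G) := by
      rw [hsup]
      exact Subgroup.mem_top g
    obtain ⟨e, he, r, hr, h⟩ := Subgroup.mem_sup_of_normal_left.mp hg
    exact ⟨e, he, r, hr, h.symm⟩
  have hcomm : ∀ e ∈ E, ∀ r ∈ Subgroup.centralizer (E : Set G), e * r = r * e :=
    fun e he r hr => Subgroup.mem_centralizer_iff.mp hr e he
  have hUR : U ≤ Subgroup.centralizer (E : Set G) := by
    intro u hu
    rw [Subgroup.mem_centralizer_iff]
    intro e he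
    exact Tsub_comm_U (hET he) hu
  have hA : ∀ a ∈ Tsub U p ⊓ Subgroup.centralizer (E : Set G),
      ∀ b ∈ Tsub U p ⊓ Subgroup.centralizer (E : Set G), a * b = b * a := by
    apply cyc' S.toSetup S.hpq S.hq2 _ inf_le_left
    rintro a ⟨haT, haR⟩ haq
    have haD : a ∈ D := (S.hD a).mpr ⟨haT, haq⟩
    obtain ⟨v, hv, hav⟩ := S.hDE a haD
    have havR : a * v ∈ Subgroup.centralizer (E : Set G) :=
      Subgroup.mul_mem _ haR (hUR hv)
    have havc := E_center S (a * v) hav (fun e he => (hcomm e he _ havR).symm)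
    have h : a = a * v * v⁻¹ := by group
    rw [h]
    exact U.mul_mem (S.toSetup.hzU havc) (U.inv_mem hv)
  have hTR : ∀ a ∈ Tsub U p, a ∈ Subgroup.centralizer (E : Set G) → a ∈ U := by
    intro a haT haR
    apply centralizer_Tsub_le S.toSetup
    intro t ht
    obtain ⟨e, he, r, hr, rfl⟩ := hprod t
    have hrT : r ∈ Tsub U p := by
      have h : r = e⁻¹ * (e * r) := by group
      rw [h]
      exact (Tsub U p).mul_mem ((Tsub U p).inv_mem (hET he)) ht
    have h1 : a * r = r * a := hA a ⟨haT, haR⟩ r ⟨hrT, hr⟩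
    have h2 : e * a = a * e := hcomm e he a haR
    rw [← mul_assoc, ← h2, mul_assoc, h1, ← mul_assoc]
  have hCR : ∀ r ∈ Subgroup.centralizer (E : Set G), (∀ u ∈ U, r * u = u * r) → r ∈ U := by
    intro r hr hru
    by_contra hrU
    have hRn : (Subgroup.centralizer (E : Set G)).Normal := Subgroup.normal_centralizer
    have hCchar := centralizer_char S.hUchar
    obtain ⟨x, hxW, hxT, hxU⟩ := lemmaW S.toSetup
      (Subgroup.centralizer (E : Set G) ⊓ Subgroup.centralizer (U : Set G))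
      (fun w hw g => ⟨hRn.conj_mem w hw.1 g, (char_conj_mem_iff hCchar g).mpr hw.2⟩)
      (fun w hw u hu => ((Subgroup.mem_centralizer_iff.mp hw.2) u hu).symm)
      ⟨r, Subgroup.mem_inf.mpr ⟨hr, Subgroup.mem_centralizer_iff.mpr
        (fun u hu => (hru u hu).symm)⟩, hrU⟩
    exact hxU (hTR x hxT hxW.1)
  exact final_step S.hG hsymp U S.hUchar S.hUcyc c S.hcZ S.hc S.toSetup.hZU E
    (Subgroup.centralizer (E : Set G)) hcomm hprod hUR hCR
    (fun e he u hu => Tsub_comm_U (hET he) hu)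
    (fun e he => D_pow_mem S.toSetup2 e (S.hED he))
    (fun hp2 e he => by
      have h := ((S.hD e).mp (S.hED he)).2
      rwa [S.hqodd hp2] at h)
    (fun e₁ h₁ e₂ h₂ => Tsub_comm_mem S.toSetup (hET h₁) (hET h₂))
    (Or.inr hES)

end

/-- P. Hall's theorem for nonabelian `p`-groups of symplectic type -/
theorem main_nonabelian [Finite G] {p : ℕ} [hp : Fact p.Prime] (hG : IsPGroup p G)
    (hsymp : ∀ A : Subgroup G, A.Characteristic → IsMulCommutative A → IsCyclic A)
    (hab : ¬ ∀ a b : G, a * b = b * a) :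
    ∃ E R : Subgroup G, (∀ e ∈ E, ∀ r ∈ R, e * r = r * e) ∧ E ⊔ R = ⊤ ∧
      (E = ⊥ ∨ Cfsg.IsExtraspecial p ↥E) ∧
      (IsCyclic R ∨ (p = 2 ∧ 16 ≤ Nat.card R ∧
        ((∃ m : ℕ, Nonempty (↥R ≃* DihedralGroup m)) ∨
          (∃ m : ℕ, Nonempty (↥R ≃* QuaternionGroup m)) ∨ Cfsg.IsQuasiDihedral ↥R))) := by
  classical
  have hfin : {A : Subgroup G | A.Characteristic ∧ IsMulCommutative ↥A}.Finite := Set.toFinite _
  obtain ⟨U, ⟨hUchar, hUab⟩, hUmax⟩ := Set.exists_max_image _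
    (fun A : Subgroup G => Nat.card ↥A) hfin
    ⟨⊥, Subgroup.botCharacteristic, isMulCommutative_of_comm (fun a ha b hb => by
      rw [Subgroup.mem_bot.mp ha, Subgroup.mem_bot.mp hb])⟩
  have hUab' := comm_of_isMulCommutative hUab
  have hM : ∀ A : Subgroup G, A.Characteristic → (∀ a ∈ A, ∀ b ∈ A, a * b = b * a) →
      (∀ a ∈ A, ∀ u ∈ U, a * u = u * a) → A ≤ U := by
    intro A hAchar hAab hAU
    have h1 : A ⊔ U ≤ Subgroup.centralizer (A : Set G) :=
      sup_le (fun a ha => Subgroup.mem_centralizer_iff.mpr (fun b hb => hAab b hb a ha))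
        (fun u hu => Subgroup.mem_centralizer_iff.mpr (fun a ha => hAU a ha u hu))
    have h2 : A ⊔ U ≤ Subgroup.centralizer (U : Set G) :=
      sup_le (fun a ha => Subgroup.mem_centralizer_iff.mpr (fun u hu => (hAU a ha u hu).symm))
        (fun u hu => Subgroup.mem_centralizer_iff.mpr (fun v hv => hUab' v hv u hu))
    have h3 : A ⊔ U ≤ Subgroup.centralizer ((A ⊔ U : Subgroup G) : Set G) :=
      sup_le (Subgroup.le_centralizer_iff.mp h1) (Subgroup.le_centralizer_iff.mp h2)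
    have hBab : IsMulCommutative ↥(A ⊔ U) :=
      isMulCommutative_of_comm (fun a ha b hb => Subgroup.mem_centralizer_iff.mp (h3 hb) a ha)
    have hcard : Nat.card ↥(A ⊔ U) ≤ Nat.card ↥U := hUmax _ ⟨sup_char hAchar hUchar, hBab⟩
    have hEq : U = A ⊔ U := Subgroup.eq_of_le_of_card_ge le_sup_right hcard
    exact le_sup_left.trans hEq.ge
  have hne : (⊤ : Subgroup G) ≠ ⊥ := by
    intro h
    apply hab
    intro a b
    have ha : a ∈ (⊥ : Subgroup G) := h ▸ Subgroup.mem_top a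
    rw [Subgroup.mem_bot.mp ha, one_mul, mul_one]
  obtain ⟨c, -, hcZ, hc⟩ := Cfsg.Agent.Lib.Helper2.exists_central_orderOf_eq_prime hG ⊤ hne
  have hUcyc := hsymp U hUchar hUab
  have S : Setup p U c := ⟨hG, hUchar, hUcyc, hM, hcZ, hc⟩
  by_cases hCU : Subgroup.centralizer (U : Set G) ≤ U
  · exact final_step hG hsymp U hUchar hUcyc c hcZ hc S.hZU ⊥ ⊤
      (fun e he r _ => by rw [Subgroup.mem_bot.mp he, one_mul, mul_one])
      (fun g => ⟨1, Subgroup.one_mem _, g, Subgroup.mem_top g, (one_mul g).symm⟩)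
      le_top
      (fun r _ hru => hCU (Subgroup.mem_centralizer_iff.mpr (fun u hu => (hru u hu).symm)))
      (fun e he u _ => by rw [Subgroup.mem_bot.mp he, one_mul, mul_one])
      (fun e he => by
        rw [Subgroup.mem_bot.mp he, one_pow]
        exact Subgroup.one_mem _)
      (fun _ e he => by rw [Subgroup.mem_bot.mp he, one_pow])
      (fun e₁ h₁ e₂ h₂ => by
        rw [Subgroup.mem_bot.mp h₁, Subgroup.mem_bot.mp h₂, commutatorElement_def]
        simp)
      (Or.inl rfl)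
  · obtain ⟨q, hpq, hq2, hqpp, hqodd⟩ :
        ∃ q, p ∣ q ∧ p ∣ q.choose 2 ∧ q ∣ p * p ∧ (p ≠ 2 → q = p) := by
      by_cases hp2 : p = 2
      · subst hp2
        exact ⟨4, by norm_num, by decide, by norm_num, fun h => absurd rfl h⟩
      · refine ⟨p, dvd_rfl, hp.out.dvd_choose_self (by norm_num) ?_, dvd_mul_right p p,
          fun _ => rfl⟩
        have h2 := hp.out.two_le
        omega
    obtain ⟨D, hDchar, hD⟩ := exists_D S hq2
    have S2 : Setup2 p U c q D :=
      { toSetup := S, hCU := hCU, hpq := hpq, hq2 := hq2, hqpp := hqpp, hqodd := hqodd,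
        hDchar := hDchar, hD := hD }
    obtain ⟨E, S3⟩ := exists_E S2
    exact assembly S3 hsymp

end Cfsg.Agent.Lib.Helper3.Symp
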