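import Mathlib
import Cfsg.Agent.Lib.Helper3.T37a
import Cfsg.Agent.Lib.Helper7.Generation4

/-!
# Hyperplane package for the endgame of B&G Theorem 3.7

`K` an elementary abelian `q`-group acting on an elementary abelian `p`-group `V` with
`C_V(K) = 1`: `V` is the direct product of the `C_V(T)`, `T` a maximal subgroup of `K`.
-/

set_option autoImplicit false
universe u
open scoped commutatorElement

namespace Cfsg.Agent.Lib.Helper3.T37

open Cfsg Subgroup Cfsg.Agent.Lib.Helper1 Cfsg.Agent.Lib.Helper1.BG7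

variable {G : Type u} [Group G]

/-- `K` an elementary abelian `q`-group acting on the elementary abelian `p`-group `V` with
`C_V(K) = 1`. -/
structure Pk (p q : ℕ) (V K : Subgroup G) : Prop where
  hp : p.Prime
  hq : q.Prime
  hpq : p ≠ q
  hV : IsElementaryAbelian p V
  hKc : IsMulCommutative K
  hKe : ∀ a ∈ K, a ^ q = 1
  hKV : K ≤ normalizer (V : Set G)
  hVK : V ⊓ centralizer (K : Set G) = ⊥

theorem isPGroup_of_exp {q : ℕ} {K : Subgroup G} (hKe : ∀ a ∈ K, a ^ q = 1) : IsPGroup q K := by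
  intro g
  refine ⟨1, Subtype.ext ?_⟩
  rw [pow_one, Subgroup.coe_pow, Subgroup.coe_one]
  exact hKe g.1 g.2

theorem isPGroup_of_le {q : ℕ} {A B : Subgroup G} (hB : IsPGroup q B) (h : A ≤ B) :
    IsPGroup q A := hB.to_le h

theorem coprime_of_isPGroup [Finite G] {p q : ℕ} (hp : p.Prime) (hq : q.Prime) (hpq : p ≠ q)
    {A B : Subgroup G} (hA : IsPGroup q A) (hB : IsPGroup p B) :
    (Nat.card A).Coprime (Nat.card B) := by
  haveI : Fact p.Prime := ⟨hp⟩
  haveI : Fact q.Prime := ⟨hq⟩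
  obtain ⟨a, ha⟩ := IsPGroup.iff_card.mp hA
  obtain ⟨b, hb⟩ := IsPGroup.iff_card.mp hB
  rw [ha, hb]
  exact Nat.Coprime.pow _ _ ((Nat.coprime_primes hq hp).mpr hpq.symm)

theorem not_dvd_card_of_isPGroup [Finite G] {p q : ℕ} (hp : p.Prime) (hq : q.Prime) (hpq : p ≠ q)
    {D : Subgroup G} (hD : IsPGroup p D) : ¬ q ∣ Nat.card D := by
  haveI : Fact p.Prime := ⟨hp⟩
  obtain ⟨b, hb⟩ := IsPGroup.iff_card.mp hD
  rw [hb]
  intro h
  exact hpq ((Nat.prime_dvd_prime_iff_eq hq hp).mp (hq.dvd_of_dvd_pow h)).symm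

theorem card_eq_prime_of_le [Finite G] {p : ℕ} (hp : p.Prime) {A : Subgroup G} (hA : IsPGroup p A)
    (hA1 : A ≠ ⊥) (hle : Nat.card A ≤ p) : Nat.card A = p := by
  haveI : Fact p.Prime := ⟨hp⟩
  obtain ⟨k, hk⟩ := IsPGroup.iff_card.mp hA
  rcases Nat.eq_zero_or_pos k with h0 | h0
  · exfalso
    apply hA1
    apply Subgroup.eq_bot_of_card_eq
    rw [hk, h0, pow_zero]
  · have h1 : k ≤ 1 := by
      by_contra hcon
      push Not at hcon
      have : p ^ 2 ≤ p ^ k := Nat.pow_le_pow_right hp.pos hcon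
      have h2 : p < p ^ 2 := by
        have := hp.one_lt
        nlinarith
      omega
    have : k = 1 := by omega
    rw [hk, this, pow_one]

theorem card_fix_dvd [Finite G] {p : ℕ} {V : Subgroup G} (hV : IsElementaryAbelian p V) {x : G}
    (hC : IsCyclic ↥(V ⊓ centralizer ({x} : Set G))) :
    Nat.card ↥(V ⊓ centralizer ({x} : Set G)) ∣ p := by
  haveI := hC
  rw [← IsCyclic.exponent_eq_card]
  apply Monoid.exponent_dvd_of_forall_pow_eq_one
  intro g
  apply Subtype.ext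
  rw [Subgroup.coe_pow, Subgroup.coe_one]
  exact hV.2 g.1 g.2.1

section pk

variable {p q : ℕ} {V K : Subgroup G}

theorem Pk.isPGroupV (h : Pk p q V K) : IsPGroup p V := isPGroup_of_exp h.hV.2

theorem Pk.isPGroupK (h : Pk p q V K) : IsPGroup q K := isPGroup_of_exp h.hKe

theorem Pk.coprime [Finite G] (h : Pk p q V K) {T D : Subgroup G} (hT : T ≤ K) (hD : D ≤ V) :
    (Nat.card T).Coprime (Nat.card D) :=
  coprime_of_isPGroup h.hp h.hq h.hpq (h.isPGroupK.to_le hT) (h.isPGroupV.to_le hD)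

theorem Pk.le_normalizer_W (h : Pk p q V K) {T : Subgroup G} (hT : T ≤ K) :
    K ≤ normalizer ((W V T : Subgroup G) : Set G) := by
  intro k hk
  exact mem_normalizer_W (h.hKV hk)
    (centralizer_le_normalizer' T (le_centralizer_of_le_of_comm h.hKc hT hk))

/-- generation by centralizers of hyperplanes -/
theorem Pk.gen [Finite G] (h : Pk p q V K) {D H : Subgroup G} (hD : D ≤ V)
    (hKD : K ≤ normalizer (D : Set G))
    (hyp : ∀ T : Subgroup G, IsHyp K T → D ⊓ centralizer (T : Set G) ≤ H) : D ≤ H := by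
  haveI : Fact q.Prime := ⟨h.hq⟩
  by_cases hK1 : K = ⊥
  · have hV1 : V = ⊥ := by
      have h1 := h.hVK
      rw [hK1] at h1
      have h2 : centralizer (((⊥ : Subgroup G) : Subgroup G) : Set G) = ⊤ := by
        rw [eq_top_iff]
        intro z _
        rw [mem_centralizer_iff]
        intro y hy
        rw [SetLike.mem_coe, mem_bot] at hy
        rw [hy, one_mul, mul_one]
      rwa [h2, inf_top_eq] at h1
    intro d hd
    have h3 := hD hd
    rw [hV1, mem_bot] at h3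
    rw [h3]; exact H.one_mem
  · have hqD : ¬ q ∣ Nat.card D :=
      not_dvd_card_of_isPGroup h.hp h.hq h.hpq (h.isPGroupV.to_le hD)
    exact Cfsg.Agent.Lib.Helper7.le_of_coatom_centralizers_le K D H h.hKc h.hKe hK1 hKD hqD
      (fun T hT hco => hyp T (isHyp_of_isCoatom hT hco))

theorem Pk.fix_iSup_eq_bot [Finite G] (h : Pk p q V K) {ι : Type*} [Finite ι]
    (f : ι → Subgroup G) (hf : ∀ i, IsHyp K (f i)) {T : Subgroup G} (hT : IsHyp K T)
    (hne : ∀ i, f i ≠ T) :
    (⨆ i, W V (f i)) ⊓ centralizer (T : Set G) = ⊥ := by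
  apply fpf_iSup h.hV.1 (hT.le.trans h.hKV) (h.coprime hT.le le_rfl)
  intro i
  refine ⟨W_le V _, hT.le.trans (h.le_normalizer_W (hf i).le), ?_⟩
  rw [eq_bot_iff]
  refine (W_inf_centralizer_le V (f i) T).trans ?_
  rw [(hf i).sup_eq hT (hne i)]
  unfold W
  exact h.hVK.le

/-- independence of the `C_V(T)` -/
theorem Pk.indep [Finite G] (h : Pk p q V K) {ι ι' : Type*} [Finite ι] [Finite ι']
    (f : ι → Subgroup G) (f' : ι' → Subgroup G) (hf : ∀ i, IsHyp K (f i))
    (hf' : ∀ j, IsHyp K (f' j)) (hne : ∀ i j, f i ≠ f' j) :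
    (⨆ i, W V (f i)) ⊓ (⨆ j, W V (f' j)) = ⊥ := by
  rw [eq_bot_iff]
  apply h.gen (inf_le_left.trans (iSup_le fun i => W_le V _))
  · intro k hk
    exact mem_normalizer_inf
      (mem_normalizer_iSup fun i => h.le_normalizer_W (hf i).le hk)
      (mem_normalizer_iSup fun j => h.le_normalizer_W (hf' j).le hk)
  · intro T hT
    by_cases hex : ∃ i, f i = T
    · obtain ⟨i, rfl⟩ := hex
      have h1 := h.fix_iSup_eq_bot f' hf' hT (fun j e => hne i j e.symm)
      rw [← h1]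
      exact inf_le_inf_right _ inf_le_right
    · push Not at hex
      have h1 := h.fix_iSup_eq_bot f hf hT hex
      rw [← h1]
      exact inf_le_inf_right _ inf_le_left

end pk

/-! ### the norm map -/

/-- partial norm `∏_{i<n} x^i w x^{-i}` -/
def nm (x w : G) : ℕ → G
  | 0 => 1
  | n + 1 => nm x w n * (x ^ n * w * (x ^ n)⁻¹)

/-- tail `∏_{1≤i≤n} x^i w x^{-i}` -/
def tl (x w : G) : ℕ → G
  | 0 => 1
  | n + 1 => tl x w n * (x ^ (n + 1) * w * (x ^ (n + 1))⁻¹)

theorem nm_zero (x w : G) : nm x w 0 = 1 := rfl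

theorem nm_succ (x w : G) (n : ℕ) : nm x w (n + 1) = nm x w n * (x ^ n * w * (x ^ n)⁻¹) := rfl

theorem tl_zero (x w : G) : tl x w 0 = 1 := rfl

theorem tl_succ (x w : G) (n : ℕ) :
    tl x w (n + 1) = tl x w n * (x ^ (n + 1) * w * (x ^ (n + 1))⁻¹) := rfl

theorem nm_succ_eq (x w : G) (n : ℕ) : nm x w (n + 1) = w * tl x w n := by
  induction n with
  | zero => rw [nm_succ, nm_zero, tl_zero, pow_zero]; group
  | succ n ih => rw [nm_succ, ih, tl_succ, mul_assoc]

theorem conj_pow_mem {x w : G} {V : Subgroup G} (hx : x ∈ normalizer (V : Set G)) (hw : w ∈ V)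
    (n : ℕ) : x ^ n * w * (x ^ n)⁻¹ ∈ V :=
  (mem_normalizer_iff.mp (Subgroup.pow_mem _ hx n) w).mp hw

theorem nm_mem {x w : G} {V : Subgroup G} (hx : x ∈ normalizer (V : Set G)) (hw : w ∈ V)
    (n : ℕ) : nm x w n ∈ V := by
  induction n with
  | zero => rw [nm_zero]; exact V.one_mem
  | succ n ih => rw [nm_succ]; exact V.mul_mem ih (conj_pow_mem hx hw n)

theorem nm_conj (x w : G) (n : ℕ) : x * nm x w n * x⁻¹ = w⁻¹ * nm x w (n + 1) := by
  induction n with
  | zero => rw [nm_succ, nm_zero, pow_zero]; group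
  | succ n ih =>
    have e : x * nm x w (n + 1) * x⁻¹ =
        (x * nm x w n * x⁻¹) * (x ^ (n + 1) * w * (x ^ (n + 1))⁻¹) := by
      rw [nm_succ, pow_succ']; group
    rw [e, ih, nm_succ x w (n + 1), mul_assoc]

theorem nm_one (x : G) (n : ℕ) : nm x 1 n = 1 := by
  induction n with
  | zero => rfl
  | succ n ih => rw [nm_succ, ih]; group

theorem nm_mul {x w w' : G} {V : Subgroup G} (hVc : IsMulCommutative V)
    (hx : x ∈ normalizer (V : Set G)) (hw : w ∈ V) (hw' : w' ∈ V) (n : ℕ) :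
    nm x (w * w') n = nm x w n * nm x w' n := by
  induction n with
  | zero => rw [nm_zero, nm_zero, nm_zero, one_mul]
  | succ n ih =>
    rw [nm_succ, nm_succ, nm_succ, ih]
    have hc : nm x w' n * (x ^ n * w * (x ^ n)⁻¹) = (x ^ n * w * (x ^ n)⁻¹) * nm x w' n :=
      comm_of_mem hVc (nm_mem hx hw' n) (conj_pow_mem hx hw n)
    have e : x ^ n * (w * w') * (x ^ n)⁻¹ = (x ^ n * w * (x ^ n)⁻¹) * (x ^ n * w' * (x ^ n)⁻¹) := by
      group
    rw [e]
    calc nm x w n * nm x w' n * ((x ^ n * w * (x ^ n)⁻¹) * (x ^ n * w' * (x ^ n)⁻¹))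
        = nm x w n * (nm x w' n * (x ^ n * w * (x ^ n)⁻¹)) * (x ^ n * w' * (x ^ n)⁻¹) := by
          simp only [mul_assoc]
      _ = nm x w n * ((x ^ n * w * (x ^ n)⁻¹) * nm x w' n) * (x ^ n * w' * (x ^ n)⁻¹) := by
          rw [hc]
      _ = nm x w n * (x ^ n * w * (x ^ n)⁻¹) * (nm x w' n * (x ^ n * w' * (x ^ n)⁻¹)) := by
          simp only [mul_assoc]

theorem nm_inv {x w : G} {V : Subgroup G} (hVc : IsMulCommutative V)
    (hx : x ∈ normalizer (V : Set G)) (hw : w ∈ V) (n : ℕ) :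
    nm x w⁻¹ n = (nm x w n)⁻¹ := by
  have h := nm_mul hVc hx (V.inv_mem hw) hw n
  rw [inv_mul_cancel, nm_one] at h
  exact eq_inv_of_mul_eq_one_left h.symm

theorem nm_fixed {x w : G} {V : Subgroup G} {r : ℕ} (hVc : IsMulCommutative V)
    (hx : x ∈ normalizer (V : Set G)) (hxr : x ^ r = 1) (hw : w ∈ V) :
    nm x w r ∈ centralizer ({x} : Set G) := by
  rw [mem_centralizer_iff]
  intro y hy
  rw [Set.mem_singleton_iff] at hy
  rw [hy]
  have h1 := nm_conj x w r
  rw [nm_succ, hxr, inv_one, one_mul, mul_one] at h1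
  have hc : nm x w r * w = w * nm x w r := comm_of_mem hVc (nm_mem hx hw r) hw
  rw [hc, ← mul_assoc, inv_mul_cancel, one_mul] at h1
  calc x * nm x w r = (x * nm x w r * x⁻¹) * x := by group
    _ = nm x w r * x := by rw [h1]

theorem tl_mem {x w : G} {V T : Subgroup G} {r : ℕ} (hx : x ∈ normalizer (V : Set G))
    (hw : w ∈ W V T) :
    ∀ n : ℕ, n ≤ r - 1 → tl x w n ∈ ⨆ i : Fin (r - 1), W V (cj (x ^ (i.1 + 1)) T) := by
  intro n
  induction n with
  | zero => intro _; rw [tl_zero]; exact Subgroup.one_mem _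
  | succ n ih =>
    intro hn
    rw [tl_succ]
    refine Subgroup.mul_mem _ (ih (by omega)) ?_
    have h1 : x ^ (n + 1) * w * (x ^ (n + 1))⁻¹ ∈ cj (x ^ (n + 1)) (W V T) := conj_mem_cj hw
    rw [cj_W (Subgroup.pow_mem _ hx _)] at h1
    have hlt : n < r - 1 := by omega
    exact (le_iSup (fun i : Fin (r - 1) => W V (cj (x ^ (i.1 + 1)) T)) ⟨n, hlt⟩) h1

section pk2

variable {p q : ℕ} {V K : Subgroup G}

theorem pow_not_mem_normalizer [Finite G] {x : G} {r : ℕ} (hr : r.Prime) (hxo : orderOf x = r)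
    {T : Subgroup G} (hxT : x ∉ normalizer (T : Set G)) {i : ℕ} (hi0 : i ≠ 0) (hir : i < r) :
    x ^ i ∉ normalizer (T : Set G) := by
  intro hmem
  apply hxT
  have hne : x ^ i ≠ 1 := pow_ne_one_of_lt_orderOf hi0 (hxo ▸ hir)
  have h1 : x ∈ zpowers (x ^ i) :=
    mem_zpowers_of_ne_one hr hxo (npow_mem_zpowers x i) hne
  exact ((zpowers_le).mpr hmem) h1

/-- if `x` of prime order `r` does not normalize the hyperplane `T`, then `C_V(T)` embeds into
`C_V(x)` via the norm map -/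
theorem Pk.card_W_le [Finite G] (h : Pk p q V K) {x : G} {r : ℕ} (hr : r.Prime)
    (hxo : orderOf x = r) (hxV : x ∈ normalizer (V : Set G)) (hxK : x ∈ normalizer (K : Set G))
    {T : Subgroup G} (hT : IsHyp K T) (hxT : x ∉ normalizer (T : Set G)) :
    Nat.card (W V T) ≤ Nat.card ↥(V ⊓ centralizer ({x} : Set G)) := by
  have hxr : x ^ r = 1 := by rw [← hxo]; exact pow_orderOf_eq_one x
  have hr1 : r - 1 + 1 = r := Nat.sub_add_cancel hr.one_lt.le
  have hfam : ∀ i : Fin (r - 1), IsHyp K (cj (x ^ (i.1 + 1)) T) :=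
    fun i => hT.conj (Subgroup.pow_mem _ hxK _)
  have hne : ∀ i : Fin (r - 1), cj (x ^ (i.1 + 1)) T ≠ T := by
    intro i e
    have hi : i.1 + 1 < r := by have := i.2; omega
    exact pow_not_mem_normalizer hr hxo hxT (Nat.succ_ne_zero _) hi (mem_normalizer_of_cj_eq e)
  have hind : (⨆ i : Fin (r - 1), W V (cj (x ^ (i.1 + 1)) T)) ⊓ centralizer (T : Set G) = ⊥ :=
    h.fix_iSup_eq_bot _ hfam hT hne
  have key : ∀ w ∈ W V T, nm x w r = 1 → w = 1 := by
    intro w hw h1
    rw [← hr1, nm_succ_eq] at h1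
    have h2 : w = (tl x w (r - 1))⁻¹ := eq_inv_of_mul_eq_one_left h1
    have h3 : w ∈ (⨆ i : Fin (r - 1), W V (cj (x ^ (i.1 + 1)) T)) := by
      rw [h2]
      exact Subgroup.inv_mem _ (tl_mem hxV hw (r - 1) le_rfl)
    have h4 : w ∈ (⨆ i : Fin (r - 1), W V (cj (x ^ (i.1 + 1)) T)) ⊓ centralizer (T : Set G) :=
      ⟨h3, W_le_centralizer V T hw⟩
    rw [hind, mem_bot] at h4
    exact h4
  have hmem : ∀ w : ↥(W V T), nm x (w : G) r ∈ V ⊓ centralizer ({x} : Set G) := fun w =>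
    ⟨nm_mem hxV (W_le V T w.2) r, nm_fixed h.hV.1 hxV hxr (W_le V T w.2)⟩
  have hinj : Function.Injective
      (fun w : ↥(W V T) => (⟨nm x (w : G) r, hmem w⟩ : ↥(V ⊓ centralizer ({x} : Set G)))) := by
    intro w w' e
    have e1 : nm x (w : G) r = nm x (w' : G) r := congrArg Subtype.val e
    have hwV := W_le V T w.2
    have hw'V := W_le V T w'.2
    have e2 : nm x ((w : G)⁻¹ * (w' : G)) r = 1 := by
      rw [nm_mul h.hV.1 hxV (V.inv_mem hwV) hw'V, nm_inv h.hV.1 hxV hwV, e1, inv_mul_cancel]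
    have e3 := key _ ((W V T).mul_mem ((W V T).inv_mem w.2) w'.2) e2
    apply Subtype.ext
    have : (w' : G) = (w : G) * ((w : G)⁻¹ * (w' : G)) := by group
    rw [this, e3, mul_one]
  exact Nat.card_le_card_of_injective _ hinj

end pk2

end Cfsg.Agent.Lib.Helper3.T37
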