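import Mathlib
import Cfsg.Agent.Lib.Helper3.T37b
import Cfsg.Agent.Lib.Helper1.XS18
import Cfsg.Agent.Lib.Helper1.CorefreePCore
import Cfsg.Agent.Lib.Helper3.PGroupFix

/-!
# Endgame of B&G Theorem 3.7: the configuration and the case `K` abelian
-/

set_option autoImplicit false
universe u
open scoped commutatorElement

namespace Cfsg.Agent.Lib.Helper3.T37

open Cfsg Subgroup Cfsg.Agent.Lib.Helper1 Cfsg.Agent.Lib.Helper1.BG7

variable {G : Type u} [Group G]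

/-- The final configuration in a minimal counterexample to B&G Theorem 3.7. -/
structure Cfg (p q r : ℕ) (V K S : Subgroup G) (x : G) : Prop where
  hodd : Odd (Nat.card G)
  hp : p.Prime
  hq : q.Prime
  hr : r.Prime
  hpq : p ≠ q
  hpr : p ≠ r
  hqr : q ≠ r
  hV : IsElementaryAbelian p V
  hK : IsPGroup q K
  hS : IsPGroup p S
  hS1 : S ≠ ⊥
  hx : orderOf x = r
  hKV : K ≤ normalizer (V : Set G)
  hSV : S ≤ normalizer (V : Set G)
  hxV : x ∈ normalizer (V : Set G)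
  hSK : S ≤ normalizer (K : Set G)
  hxK : x ∈ normalizer (K : Set G)
  hxS : x ∈ normalizer (S : Set G)
  hCVK : V ⊓ centralizer (K : Set G) = ⊥
  hCKV : K ⊓ centralizer (V : Set G) = ⊥
  hSV' : ¬ S ≤ centralizer (V : Set G)
  hSK' : ¬ S ≤ centralizer (K : Set G)
  hCSx : S ⊓ centralizer ({x} : Set G) = ⊥
  hSmin : ∀ T : Subgroup G, T ≤ S → x ∈ normalizer (T : Set G) → T = ⊥ ∨ T = S
  hKmin : ∀ K₂ : Subgroup G, K₂ ≤ K → S ≤ normalizer (K₂ : Set G) →
    x ∈ normalizer (K₂ : Set G) → K₂ ≠ K → S ≤ centralizer (K₂ : Set G)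
  hCV : IsCyclic ↥(V ⊓ centralizer ({x} : Set G))
  hCK : IsCyclic ↥(K ⊓ centralizer ({x} : Set G))

theorem commutator_le_of_le_normalizer {K S : Subgroup G} (h : S ≤ normalizer (K : Set G)) :
    ⁅K, S⁆ ≤ K := by
  rw [commutator_le]
  intro k hk s hs
  have h1 : s * k⁻¹ * s⁻¹ ∈ K := (mem_normalizer_iff.mp (h hs) _).mp (K.inv_mem hk)
  have e : ⁅k, s⁆ = k * (s * k⁻¹ * s⁻¹) := by rw [commutatorElement_def]; group
  rw [e]; exact K.mul_mem hk h1

theorem dvd_card_of_ne_bot [Finite G] {q : ℕ} (hq : q.Prime) {A : Subgroup G} (hA : IsPGroup q A)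
    (h : A ≠ ⊥) : q ∣ Nat.card A := by
  haveI : Fact q.Prime := ⟨hq⟩
  obtain ⟨k, hk⟩ := IsPGroup.iff_card.mp hA
  rcases Nat.eq_zero_or_pos k with h0 | h0
  · exfalso
    apply h
    apply Subgroup.eq_bot_of_card_eq
    rw [hk, h0, pow_zero]
  · rw [hk]; exact dvd_pow_self q h0.ne'

theorem pow_eq_one_of_mem_zpowers {x y : G} {r : ℕ} (hxr : x ^ r = 1) (hy : y ∈ zpowers x) :
    y ^ r = 1 := by
  obtain ⟨k, rfl⟩ := mem_zpowers_iff.mp hy
  rw [← zpow_natCast, ← zpow_mul, mul_comm, zpow_mul, zpow_natCast, hxr, one_zpow]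

theorem isMulCommutative_of_le {A B : Subgroup G} (hB : IsMulCommutative B) (h : A ≤ B) :
    IsMulCommutative A :=
  ⟨⟨fun a b => Subtype.ext (comm_of_mem hB (h a.2) (h b.2))⟩⟩

section cfg

variable {p q r : ℕ} {V K S : Subgroup G} {x : G}

theorem Cfg.hxr (c : Cfg p q r V K S x) : x ^ r = 1 := by
  rw [← c.hx]; exact pow_orderOf_eq_one x

theorem Cfg.x_ne_one (c : Cfg p q r V K S x) : x ≠ 1 := by
  intro e
  have h := c.hx
  rw [e, orderOf_one] at h
  exact c.hr.one_lt.ne h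

theorem Cfg.isPGroupV (c : Cfg p q r V K S x) : IsPGroup p V := isPGroup_of_exp c.hV.2

theorem Cfg.copSK [Finite G] (c : Cfg p q r V K S x) : (Nat.card S).Coprime (Nat.card K) :=
  coprime_of_isPGroup c.hq c.hp c.hpq.symm c.hS c.hK

theorem Cfg.K_ne_bot (c : Cfg p q r V K S x) : K ≠ ⊥ := by
  intro e
  apply c.hSK'
  rw [e]
  intro s _
  rw [mem_centralizer_iff]
  intro y hy
  rw [SetLike.mem_coe, mem_bot] at hy
  rw [hy, one_mul, mul_one]

theorem Cfg.odd_r [Finite G] (c : Cfg p q r V K S x) : Odd r := by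
  rw [← c.hx]
  exact Odd.of_dvd_nat c.hodd (orderOf_dvd_natCard x)

theorem Cfg.q_ne_two [Finite G] (c : Cfg p q r V K S x) : q ≠ 2 := by
  intro e
  have h1 : q ∣ Nat.card G :=
    (dvd_card_of_ne_bot c.hq c.hK c.K_ne_bot).trans (Subgroup.card_subgroup_dvd_card K)
  rw [e] at h1
  have := Odd.of_dvd_nat c.hodd h1
  exact absurd this (by decide)

theorem Cfg.zp_normV (c : Cfg p q r V K S x) : zpowers x ≤ normalizer (V : Set G) :=
  zpowers_le.mpr c.hxV

theorem Cfg.zp_normK (c : Cfg p q r V K S x) : zpowers x ≤ normalizer (K : Set G) :=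
  zpowers_le.mpr c.hxK

theorem Cfg.zp_normS (c : Cfg p q r V K S x) : zpowers x ≤ normalizer (S : Set G) :=
  zpowers_le.mpr c.hxS

theorem Cfg.fpfS [Finite G] (c : Cfg p q r V K S x) {y : G} (hy : y ∈ zpowers x) (hy1 : y ≠ 1) :
    ∀ s ∈ S, y * s = s * y → s = 1 := by
  intro s hs hys
  have hxy : x ∈ zpowers y := mem_zpowers_of_ne_one c.hr c.hx hy hy1
  have h1 : s ∈ S ⊓ centralizer ({x} : Set G) := by
    refine Subgroup.mem_inf.mpr ⟨hs, ?_⟩
    rw [mem_centralizer_iff]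
    intro z hz
    rw [Set.mem_singleton_iff] at hz
    rw [hz]
    obtain ⟨k, hk⟩ := mem_zpowers_iff.mp hxy
    rw [← hk]
    have hc : Commute y s := hys
    exact hc.zpow_left k
  rw [c.hCSx, mem_bot] at h1
  exact h1

theorem Cfg.copRK [Finite G] (c : Cfg p q r V K S x) :
    (Nat.card (zpowers x)).Coprime (Nat.card K) := by
  haveI : Fact q.Prime := ⟨c.hq⟩
  obtain ⟨k, hk⟩ := IsPGroup.iff_card.mp c.hK
  rw [Nat.card_zpowers, c.hx, hk]
  exact Nat.Coprime.pow_right k ((Nat.coprime_primes c.hr c.hq).mpr c.hqr.symm)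

theorem Cfg.cardS_modEq [Finite G] (c : Cfg p q r V K S x) : Nat.card S ≡ 1 [MOD r] := by
  haveI : Fact r.Prime := ⟨c.hr⟩
  have hR : IsPGroup r (zpowers x) := by
    apply IsPGroup.of_card (n := 1)
    rw [Nat.card_zpowers, c.hx, pow_one]
  apply card_modEq_one_of_centralizer_trivial (zpowers x) S hR c.zp_normS
  rw [centralizer_zpowers_eq']
  exact c.hCSx

theorem Cfg.comm_KS [Finite G] (c : Cfg p q r V K S x) : ⁅K, S⁆ = K := by
  by_contra hne
  have hle : ⁅K, S⁆ ≤ K := commutator_le_of_le_normalizer c.hSK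
  have h1 : S ≤ centralizer ((⁅K, S⁆ : Subgroup G) : Set G) :=
    c.hKmin _ hle (fun s hs => mem_normalizer_commutator (c.hSK hs) (le_normalizer hs))
      (mem_normalizer_commutator c.hxK c.hxS) hne
  have h2 : ⁅⁅K, S⁆, S⁆ = ⊥ :=
    commutator_eq_bot_iff_le_centralizer.mpr (le_centralizer_iff.mp h1)
  haveI : Fact p.Prime := ⟨c.hp⟩
  have hsolv : Group.IsSolvable ↥S := by
    haveI := c.hS.isNilpotent
    infer_instance
  rw [coprime_commutator_commutator S K c.hSK c.copSK (Or.inl hsolv)] at h2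
  exact c.hSK' (le_centralizer_iff.mp (commutator_eq_bot_iff_le_centralizer.mp h2))

theorem Cfg.K1_le (c : Cfg p q r V K S x) : ⁅K, zpowers x⁆ ≤ K :=
  commutator_le_of_le_normalizer c.zp_normK

theorem Cfg.x_mem_norm_of_K1_le [Finite G] (c : Cfg p q r V K S x) {T : Subgroup G} (hTK : T ≤ K)
    (h : ⁅K, zpowers x⁆ ≤ T) : x ∈ normalizer (T : Set G) := by
  apply mem_normalizer_of_cj_le
  intro z hz
  rw [mem_cj] at hz
  obtain ⟨t, ht⟩ : ∃ t, t = x⁻¹ * z * x := ⟨_, rfl⟩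
  rw [← ht] at hz
  have h1 : ⁅t, x⁆ ∈ ⁅K, zpowers x⁆ := commutator_mem_commutator (hTK hz) (mem_zpowers x)
  have h2 : ⁅t, x⁆⁻¹ ∈ T := T.inv_mem (h h1)
  have e : z = ⁅t, x⁆⁻¹ * t := by rw [commutatorElement_def, ht]; group
  rw [e]; exact T.mul_mem h2 hz

end cfg

/-! ### the case `K` abelian -/

section abelian

variable {p q r : ℕ} {V K S : Subgroup G} {x : G} [Finite G]

theorem Cfg.CKS_bot (c : Cfg p q r V K S x) (hKc : IsMulCommutative K) :
    K ⊓ centralizer (S : Set G) = ⊥ := by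
  haveI := hKc
  have h1 := (coprime_abelian_decomposition S K c.hSK c.copSK).1
  rw [c.comm_KS, inf_eq_left.mpr (inf_le_left : K ⊓ centralizer (S : Set G) ≤ K)] at h1
  exact h1

theorem Cfg.irr (c : Cfg p q r V K S x) (hKc : IsMulCommutative K) :
    ∀ K₂ : Subgroup G, K₂ ≤ K → S ≤ normalizer (K₂ : Set G) → x ∈ normalizer (K₂ : Set G) →
      K₂ ≠ K → K₂ = ⊥ := by
  intro K₂ hle hS hx hne
  have h1 := c.hKmin K₂ hle hS hx hne
  rw [eq_bot_iff, ← c.CKS_bot hKc]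
  exact le_inf hle (le_centralizer_iff.mp h1)

theorem Cfg.expK (c : Cfg p q r V K S x) (hKc : IsMulCommutative K) : ∀ a ∈ K, a ^ q = 1 := by
  obtain ⟨Ω, hΩ⟩ : ∃ Ω : Subgroup G, ∀ g, g ∈ Ω ↔ g ∈ K ∧ g ^ q = 1 := by
    refine ⟨{ carrier := {g | g ∈ K ∧ g ^ q = 1}
              one_mem' := ⟨K.one_mem, one_pow _⟩
              mul_mem' := ?_
              inv_mem' := ?_ }, fun g => Iff.rfl⟩
    · rintro a b ⟨ha, ha'⟩ ⟨hb, hb'⟩
      refine ⟨K.mul_mem ha hb, ?_⟩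
      have hc : Commute a b := comm_of_mem hKc ha hb
      rw [hc.mul_pow, ha', hb', one_mul]
    · rintro a ⟨ha, ha'⟩
      exact ⟨K.inv_mem ha, by rw [inv_pow, ha', inv_one]⟩
  have hΩK : Ω ≤ K := fun g hg => ((hΩ g).mp hg).1
  have hinv : ∀ g ∈ normalizer (K : Set G), g ∈ normalizer (Ω : Set G) := by
    intro g hg
    apply mem_normalizer_of_cj_le
    intro z hz
    rw [mem_cj] at hz
    obtain ⟨h1, h2⟩ := (hΩ _).mp hz
    rw [hΩ]
    have e : g * (g⁻¹ * z * g) * g⁻¹ = z := by group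
    constructor
    · have := (mem_normalizer_iff.mp hg (g⁻¹ * z * g)).mp h1
      rwa [e] at this
    · rw [← e, conj_pow, h2]; group
  have hΩne : Ω ≠ ⊥ := by
    haveI : Fact q.Prime := ⟨c.hq⟩
    obtain ⟨k, hk⟩ := exists_prime_orderOf_dvd_card' q (dvd_card_of_ne_bot c.hq c.hK c.K_ne_bot)
    intro e
    have h1 : (k : G) ∈ Ω := by
      rw [hΩ]
      refine ⟨k.2, ?_⟩
      rw [← Subgroup.coe_pow, ← hk, pow_orderOf_eq_one, Subgroup.coe_one]
    rw [e, mem_bot] at h1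
    have h2 : k = 1 := Subtype.ext h1
    rw [h2, orderOf_one] at hk
    exact c.hq.one_lt.ne hk
  have hΩeq : Ω = K := by
    by_contra hne
    exact hΩne (c.irr hKc Ω hΩK (fun s hs => hinv s (c.hSK hs)) (hinv x c.hxK) hne)
  intro a ha
  have h1 : a ∈ Ω := by rw [hΩeq]; exact ha
  exact ((hΩ a).mp h1).2

theorem Cfg.pk (c : Cfg p q r V K S x) (hKc : IsMulCommutative K) : Pk p q V K :=
  ⟨c.hp, c.hq, c.hpq, c.hV, hKc, c.expK hKc, c.hKV, c.hCVK⟩

theorem Cfg.card_K_le (c : Cfg p q r V K S x) (hKc : IsMulCommutative K) :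
    Nat.card K ≤ Nat.card ↥⁅K, zpowers x⁆ * q := by
  haveI := hKc
  haveI : Fact q.Prime := ⟨c.hq⟩
  have hdec := (coprime_abelian_decomposition (zpowers x) K c.zp_normK c.copRK).2
  rw [centralizer_zpowers_eq'] at hdec
  haveI := c.hCK
  obtain ⟨g, hg⟩ := IsCyclic.exists_generator (α := ↥(K ⊓ centralizer ({x} : Set G)))
  have h1 : K ⊓ centralizer ({x} : Set G) = zpowers (g : G) := by
    ext z
    constructor
    · intro hz
      obtain ⟨k, hk⟩ := mem_zpowers_iff.mp (hg ⟨z, hz⟩)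
      rw [mem_zpowers_iff]
      refine ⟨k, ?_⟩
      have := congrArg Subtype.val hk
      rwa [Subgroup.coe_zpow] at this
    · intro hz
      obtain ⟨k, rfl⟩ := mem_zpowers_iff.mp hz
      exact Subgroup.zpow_mem _ g.2 k
  rw [h1, sup_comm] at hdec
  have hgK : (g : G) ∈ K := g.2.1
  have hnorm : (g : G) ∈ normalizer ((⁅K, zpowers x⁆ : Subgroup G) : Set G) :=
    centralizer_le_normalizer' _ (le_centralizer_of_le_of_comm hKc c.K1_le hgK)
  have h2 := Cfsg.Agent.Lib.Helper7.card_sup_zpowers_le (p := q) hnorm (c.expK hKc _ hgK)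
  rw [hdec] at h2
  exact h2

theorem Cfg.hyp_eq_K1 (c : Cfg p q r V K S x) (hKc : IsMulCommutative K) {T : Subgroup G}
    (hT : IsHyp K T) (h : ⁅K, zpowers x⁆ ≤ T) : T = ⁅K, zpowers x⁆ := by
  symm
  apply Subgroup.eq_of_le_of_card_ge h
  haveI : Fact q.Prime := ⟨c.hq⟩
  have h1 := Cfsg.Agent.Lib.Helper7.mul_card_le_of_lt_isPGroup c.hK hT.1
  have h2 := c.card_K_le hKc
  have h3 : q * Nat.card T ≤ q * Nat.card ↥⁅K, zpowers x⁆ := by
    rw [mul_comm q (Nat.card ↥⁅K, zpowers x⁆)]; exact h1.trans h2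
  exact Nat.le_of_mul_le_mul_left h3 c.hq.pos

/-- Claim A -/
theorem Cfg.fix_ne_bot (c : Cfg p q r V K S x) (hKc : IsMulCommutative K) {T : Subgroup G}
    (hT : IsHyp K T) (hW : W V T ≠ ⊥) (hK1 : ¬ ⁅K, zpowers x⁆ ≤ T) :
    (⨆ y : ↥(zpowers x), W V (cj (y : G) T)) ⊓ centralizer ({x} : Set G) ≠ ⊥ := by
  intro hbot
  obtain ⟨Y, hY⟩ : ∃ Y : Subgroup G, Y = ⨆ y : ↥(zpowers x), W V (cj (y : G) T) := ⟨_, rfl⟩
  rw [← hY] at hbot
  have hYV : Y ≤ V := by rw [hY]; exact iSup_le fun y => W_le V _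
  have hYe : IsElementaryAbelian p Y :=
    ⟨isMulCommutative_of_le c.hV.1 hYV, fun a ha => c.hV.2 a (hYV ha)⟩
  have hKY : K ≤ normalizer (Y : Set G) := by
    rw [hY]
    intro k hk
    exact mem_normalizer_iSup fun y =>
      (c.pk hKc).le_normalizer_W ((hT.conj (c.zp_normK y.2)).le) hk
  have hRY : ∀ y ∈ zpowers x, y ∈ normalizer (Y : Set G) := by
    intro y hy
    apply mem_normalizer_of_cj_le
    rw [hY, cj_iSup]
    apply iSup_le
    intro z
    rw [cj_W (c.zp_normV hy), ← cj_mul]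
    exact le_iSup (fun y : ↥(zpowers x) => W V (cj (y : G) T))
      ⟨y * z, (zpowers x).mul_mem hy z.2⟩
  have hWY : W V T ≤ Y := by
    rw [hY]
    have h1 := le_iSup (fun y : ↥(zpowers x) => W V (cj (y : G) T)) ⟨1, (zpowers x).one_mem⟩
    simp only [cj_one] at h1
    exact h1
  have hcomm : ∀ y ∈ zpowers x, ∀ a ∈ K, ⁅y, a⁆ ∈ centralizer (Y : Set G) := by
    intro y hy a ha
    by_cases hy1 : y = 1
    · rw [hy1, commutatorElement_one_left]; exact Subgroup.one_mem _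
    · have hxy := mem_zpowers_of_ne_one c.hr c.hx hy hy1
      apply XS.hh_sub Y c.hp c.hq c.hr c.hpq c.hpr c.hqr c.q_ne_two hYe K c.hK hKY y
        (pow_eq_one_of_mem_zpowers c.hxr hy) (hRY y hy) (c.zp_normK hy) ?_ a ha
      intro v hv hyv
      have h1 : v ∈ Y ⊓ centralizer ({x} : Set G) := by
        refine Subgroup.mem_inf.mpr ⟨hv, ?_⟩
        rw [mem_centralizer_iff]
        intro z hz
        rw [Set.mem_singleton_iff] at hz
        rw [hz]
        obtain ⟨k, hk⟩ := mem_zpowers_iff.mp hxy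
        rw [← hk]
        have hc : Commute y v := hyv
        exact hc.zpow_left k
      rw [hbot, mem_bot] at h1
      exact h1
  have hK1C : ⁅K, zpowers x⁆ ≤ centralizer ((W V T : Subgroup G) : Set G) := by
    rw [commutator_le]
    intro k hk y hy
    have h1 := hcomm y hy k hk
    have h2 : ⁅k, y⁆ = ⁅y, k⁆⁻¹ := (commutatorElement_inv y k).symm
    rw [h2]
    exact centralizer_le hWY (Subgroup.inv_mem _ h1)
  have hT2 : T < K ⊓ centralizer ((W V T : Subgroup G) : Set G) := by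
    refine lt_of_le_of_ne (le_inf hT.le ?_) ?_
    · exact le_centralizer_iff.mp (W_le_centralizer V T)
    · intro e
      apply hK1
      rw [e]
      exact le_inf c.K1_le hK1C
  have h3 := hT.2 _ hT2 inf_le_left
  have h4 : K ≤ centralizer ((W V T : Subgroup G) : Set G) := h3.ge.trans inf_le_right
  apply hW
  rw [eq_bot_iff, ← c.hCVK]
  exact le_inf (W_le V T) (le_centralizer_iff.mp h4)

/-- Claim C -/
theorem Cfg.same_orbit (c : Cfg p q r V K S x) (hKc : IsMulCommutative K) {T T' : Subgroup G}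
    (hT : IsHyp K T) (hT' : IsHyp K T') (hW : W V T ≠ ⊥) (hW' : W V T' ≠ ⊥)
    (h1 : ¬ ⁅K, zpowers x⁆ ≤ T) (h1' : ¬ ⁅K, zpowers x⁆ ≤ T') :
    ∃ y ∈ zpowers x, T' = cj y T := by
  by_contra hno
  push Not at hno
  have hA := c.fix_ne_bot hKc hT hW h1
  have hA' := c.fix_ne_bot hKc hT' hW' h1'
  have hind : (⨆ y : ↥(zpowers x), W V (cj (y : G) T)) ⊓
      (⨆ y : ↥(zpowers x), W V (cj (y : G) T')) = ⊥ := by
    apply (c.pk hKc).indep (fun y : ↥(zpowers x) => cj (y : G) T)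
      (fun y : ↥(zpowers x) => cj (y : G) T') (fun y => hT.conj (c.zp_normK y.2))
      (fun y => hT'.conj (c.zp_normK y.2))
    intro y y' e
    apply hno ((y' : G)⁻¹ * (y : G)) ((zpowers x).mul_mem ((zpowers x).inv_mem y'.2) y.2)
    rw [cj_mul, e, cj_inv_cj]
  have hFp : Nat.card ↥(V ⊓ centralizer ({x} : Set G)) ∣ p := card_fix_dvd c.hV c.hCV
  have key : ∀ A : Subgroup G, A ≤ V → A ⊓ centralizer ({x} : Set G) ≠ ⊥ →
      V ⊓ centralizer ({x} : Set G) ≤ A := by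
    intro A hAV hne
    have hle : A ⊓ centralizer ({x} : Set G) ≤ V ⊓ centralizer ({x} : Set G) :=
      inf_le_inf_right _ hAV
    have hd := (Subgroup.card_dvd_of_le hle).trans hFp
    have hcA : Nat.card ↥(A ⊓ centralizer ({x} : Set G)) = p := by
      rcases (Nat.dvd_prime c.hp).mp hd with h | h
      · exact absurd (Subgroup.eq_bot_of_card_eq _ h) hne
      · exact h
    have hcF : Nat.card ↥(V ⊓ centralizer ({x} : Set G)) ≤ p := Nat.le_of_dvd c.hp.pos hFp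
    have heq := Subgroup.eq_of_le_of_card_ge hle (hcA ▸ hcF)
    rw [← heq]
    exact inf_le_left
  have hF1 := key _ (iSup_le fun y => W_le V _) hA
  have hF2 := key _ (iSup_le fun y => W_le V _) hA'
  have hF : V ⊓ centralizer ({x} : Set G) ≤ ⊥ := by
    rw [← hind]; exact le_inf hF1 hF2
  apply hA
  rw [eq_bot_iff]
  exact (inf_le_inf_right _ (iSup_le fun y => W_le V _)).trans hF

theorem Cfg.not_inv_hyp (c : Cfg p q r V K S x) (hKc : IsMulCommutative K) {T : Subgroup G}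
    (hT : IsHyp K T) (hS : S ≤ normalizer (T : Set G)) (hx : x ∈ normalizer (T : Set G)) :
    False := by
  have hTb : T = ⊥ := c.irr hKc T hT.le hS hx hT.1.ne
  obtain ⟨a, ha1⟩ := (Subgroup.ne_bot_iff_exists_ne_one).mp c.K_ne_bot
  have ha1' : (a : G) ≠ 1 := fun e => ha1 (Subtype.ext e)
  have hz : zpowers (a : G) = K := by
    apply hT.2 _ ?_ (zpowers_le.mpr a.2)
    rw [hTb]
    exact bot_lt_iff_ne_bot.mpr (zpowers_ne_bot.mpr ha1')
  have hcyc : IsCyclic ↥K := by rw [← hz]; infer_instance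
  apply c.hSK'
  intro g hg
  obtain ⟨h, hh, hgh⟩ := exists_conj_eq_mul c.hxS (c.fpfS (mem_zpowers x) c.x_ne_one) g hg
  have e : g = ⁅h, x⁆ := by rw [commutatorElement_def, ← hgh]; group
  rw [e]
  exact Cfsg.Agent.Lib.Helper2.MetaAct.commutator_mem_centralizer_of_isCyclic K hcyc h x
    (c.hSK hh) c.hxK

theorem Cfg.caseI (c : Cfg p q r V K S x) (hKc : IsMulCommutative K)
    (hI : ∀ T : Subgroup G, IsHyp K T → W V T ≠ ⊥ → S ≤ normalizer (T : Set G)) : False := by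
  apply c.hSV'
  rw [le_centralizer_iff]
  have hpk := c.pk hKc
  have hmain : V ≤ V ⊓ centralizer (S : Set G) := by
    apply hpk.gen le_rfl hpk.hKV
    intro T hT
    by_cases hW : W V T = ⊥
    · have h0 : V ⊓ centralizer (T : Set G) = ⊥ := hW
      rw [h0]; exact bot_le
    · have hST := hI T hT hW
      have hxT : x ∉ normalizer (T : Set G) := fun hx => c.not_inv_hyp hKc hT hST hx
      have hcard := hpk.card_W_le c.hr c.hx c.hxV c.hxK hT hxT
      have hle : Nat.card (W V T) ≤ p :=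
        hcard.trans (Nat.le_of_dvd c.hp.pos (card_fix_dvd c.hV c.hCV))
      have hWp : IsPGroup p (W V T) := c.isPGroupV.to_le (W_le V T)
      have hcp := card_eq_prime_of_le c.hp hWp hW hle
      have hSW : S ≤ normalizer ((W V T : Subgroup G) : Set G) :=
        fun s hs => mem_normalizer_W (c.hSV hs) (hST hs)
      haveI : Fact p.Prime := ⟨c.hp⟩
      have hne := Cfsg.Agent.Lib.Helper3.inf_centralizer_ne_bot_of_isPGroup p hWp c.hS hSW hW
      have heq : W V T ⊓ centralizer (S : Set G) = W V T := by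
        apply Subgroup.eq_of_le_of_card_ge inf_le_left
        rw [hcp]
        have hd := Subgroup.card_dvd_of_le
          (inf_le_left : W V T ⊓ centralizer (S : Set G) ≤ W V T)
        rw [hcp] at hd
        rcases (Nat.dvd_prime c.hp).mp hd with h1 | h1
        · exact absurd (Subgroup.eq_bot_of_card_eq _ h1) hne
        · exact h1.ge
      exact le_inf inf_le_left (heq.ge.trans inf_le_right)
  exact hmain.trans inf_le_right

theorem Cfg.exists_two (c : Cfg p q r V K S x) (hKc : IsMulCommutative K) {T₀ : Subgroup G}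
    (hT₀ : IsHyp K T₀) (hns : ¬ S ≤ normalizer (T₀ : Set G)) :
    ∃ s₁ ∈ S, ∃ s₂ ∈ S, cj s₁ T₀ ≠ cj s₂ T₀ ∧ ¬ ⁅K, zpowers x⁆ ≤ cj s₁ T₀ ∧
      ¬ ⁅K, zpowers x⁆ ≤ cj s₂ T₀ := by
  by_contra hno
  push Not at hno
  apply hns
  intro s hs
  have hyp : ∀ g ∈ S, IsHyp K (cj g T₀) := fun g hg => hT₀.conj (c.hSK hg)
  have eqK : ∀ a ∈ S, ⁅K, zpowers x⁆ ≤ cj a T₀ → cj a T₀ = ⁅K, zpowers x⁆ :=
    fun a ha h => c.hyp_eq_K1 hKc (hyp a ha) h
  have two : ∀ a ∈ S, ∀ b ∈ S, cj a T₀ ≠ cj b T₀ →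
      (⁅K, zpowers x⁆ ≤ cj a T₀ ∨ ⁅K, zpowers x⁆ ≤ cj b T₀) := by
    intro a ha b hb hne
    by_cases h : ⁅K, zpowers x⁆ ≤ cj a T₀
    · exact Or.inl h
    · exact Or.inr (hno a ha b hb hne h)
  have hs2 : s ^ 2 ∈ S := S.pow_mem hs 2
  have pig : cj 1 T₀ = cj s T₀ ∨ cj s T₀ = cj (s ^ 2) T₀ ∨ cj 1 T₀ = cj (s ^ 2) T₀ := by
    by_contra hcon
    push Not at hcon
    obtain ⟨n1, n2, n3⟩ := hcon
    by_cases a1 : ⁅K, zpowers x⁆ ≤ cj 1 T₀
    · by_cases a2 : ⁅K, zpowers x⁆ ≤ cj s T₀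
      · exact n1 ((eqK 1 S.one_mem a1).trans (eqK s hs a2).symm)
      · rcases two s hs (s ^ 2) hs2 n2 with h | h
        · exact a2 h
        · exact n3 ((eqK 1 S.one_mem a1).trans (eqK _ hs2 h).symm)
    · have a2 : ⁅K, zpowers x⁆ ≤ cj s T₀ := by
        rcases two 1 S.one_mem s hs n1 with h | h
        · exact absurd h a1
        · exact h
      have a3 : ⁅K, zpowers x⁆ ≤ cj (s ^ 2) T₀ := by
        rcases two 1 S.one_mem (s ^ 2) hs2 n3 with h | h
        · exact absurd h a1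
        · exact h
      exact n2 ((eqK s hs a2).trans (eqK _ hs2 a3).symm)
  rcases pig with h | h | h
  · rw [cj_one] at h
    exact mem_normalizer_of_cj_eq h.symm
  · rw [pow_two, cj_mul] at h
    exact mem_normalizer_of_cj_eq (cj_injective s h).symm
  · rw [cj_one] at h
    exact mem_normalizer_of_sq_mem c.hodd (mem_normalizer_of_cj_eq h.symm)

theorem Cfg.caseII (c : Cfg p q r V K S x) (hKc : IsMulCommutative K) {T₀ : Subgroup G}
    (hT₀ : IsHyp K T₀) (hW₀ : W V T₀ ≠ ⊥) (hns : ¬ S ≤ normalizer (T₀ : Set G)) : False := by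
  obtain ⟨s₁, hs₁, s₂, hs₂, hne, hP₁, hP₂⟩ := c.exists_two hKc hT₀ hns
  have hyp : ∀ g ∈ S, IsHyp K (cj g T₀) := fun g hg => hT₀.conj (c.hSK hg)
  have hWcj : ∀ g ∈ S, W V (cj g T₀) ≠ ⊥ := by
    intro g hg
    rw [← cj_W (c.hSV hg)]
    intro e
    exact hW₀ (cj_eq_bot_iff.mp e)
  obtain ⟨y, hy, hy12⟩ := c.same_orbit hKc (hyp s₁ hs₁) (hyp s₂ hs₂) (hWcj s₁ hs₁) (hWcj s₂ hs₂)
    hP₁ hP₂
  have hy1 : y ≠ 1 := by
    rintro rfl
    rw [cj_one] at hy12
    exact hne hy12.symm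
  obtain ⟨T₁, hT₁⟩ : ∃ T₁ : Subgroup G, T₁ = cj s₁ T₀ := ⟨_, rfl⟩
  rw [← hT₁] at hy12
  have hg : cj (s₂ * s₁⁻¹) T₁ = cj s₂ T₀ := by rw [hT₁, cj_mul, cj_inv_cj]
  have hn1 : y⁻¹ * (s₂ * s₁⁻¹) ∈ normalizer (T₁ : Set G) := by
    apply mem_normalizer_of_cj_eq
    rw [cj_mul, hg, hy12, cj_inv_cj]
  have hyS : y ∈ normalizer (S : Set G) := c.zp_normS hy
  have hyiS : y⁻¹ ∈ normalizer (S : Set G) := Subgroup.inv_mem _ hyS
  obtain ⟨g', hg'⟩ : ∃ g', g' = y⁻¹ * (s₂ * s₁⁻¹) * y := ⟨_, rfl⟩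
  have hg'S : g' ∈ S := by
    rw [hg']
    have := (mem_normalizer_iff.mp hyiS (s₂ * s₁⁻¹)).mp (S.mul_mem hs₂ (S.inv_mem hs₁))
    rwa [inv_inv] at this
  have hyi : y⁻¹ ∈ zpowers x := (zpowers x).inv_mem hy
  have hyi1 : y⁻¹ ≠ 1 := inv_ne_one.mpr hy1
  obtain ⟨h, hh, hgh⟩ := exists_conj_eq_mul hyiS (c.fpfS hyi hyi1) g' hg'S
  have e1 : h * y⁻¹ * h⁻¹ = y⁻¹ * (s₂ * s₁⁻¹) := by rw [← hgh, hg']; group
  obtain ⟨A', hA'⟩ : ∃ A' : Subgroup G, A' = cj h⁻¹ T₁ := ⟨_, rfl⟩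
  have hyA : y⁻¹ ∈ normalizer (A' : Set G) := by
    apply mem_normalizer_of_cj_eq
    rw [hA', ← cj_mul]
    have e2 : y⁻¹ * h⁻¹ = h⁻¹ * (h * y⁻¹ * h⁻¹) := by group
    rw [e2, cj_mul, e1, cj_of_mem_normalizer hn1]
  have hxA : x ∈ normalizer (A' : Set G) :=
    (zpowers_le.mpr hyA) (mem_zpowers_of_ne_one c.hr c.hx hyi hyi1)
  have hu : h⁻¹ * s₁ ∈ S := S.mul_mem (S.inv_mem hh) hs₁
  have hA'eq : A' = cj (h⁻¹ * s₁) T₀ := by rw [hA', hT₁, cj_mul]
  have hNS : S ⊓ normalizer (A' : Set G) = ⊥ := by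
    rcases c.hSmin (S ⊓ normalizer (A' : Set G)) inf_le_left
      (mem_normalizer_inf c.hxS (mem_normalizer_normalizer hxA)) with h0 | h0
    · exact h0
    · exfalso
      apply hns
      have hSA : S ≤ normalizer (A' : Set G) := inf_eq_left.mp h0
      intro s hs
      have h3 : (h⁻¹ * s₁) * s * (h⁻¹ * s₁)⁻¹ ∈ normalizer (A' : Set G) :=
        hSA (S.mul_mem (S.mul_mem hu hs) (S.inv_mem hu))
      have h4 := cj_of_mem_normalizer h3
      rw [hA'eq, ← cj_mul] at h4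
      have e3 : (h⁻¹ * s₁) * s * (h⁻¹ * s₁)⁻¹ * (h⁻¹ * s₁) = (h⁻¹ * s₁) * s := by group
      rw [e3, cj_mul] at h4
      exact mem_normalizer_of_cj_eq (cj_injective _ h4)
  have hinj : ∀ a ∈ S, ∀ b ∈ S, cj a A' = cj b A' → a = b := by
    intro a ha b hb e
    have h5 : b⁻¹ * a ∈ S ⊓ normalizer (A' : Set G) :=
      ⟨S.mul_mem (S.inv_mem hb) ha, mem_normalizer_of_cj_eq (by rw [cj_mul, e, cj_inv_cj])⟩
    rw [hNS, mem_bot] at h5
    exact (inv_mul_eq_one.mp h5).symm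
  have hypA : ∀ a ∈ S, IsHyp K (cj a A') ∧ W V (cj a A') ≠ ⊥ := by
    intro a ha
    rw [hA'eq, ← cj_mul]
    exact ⟨hyp _ (S.mul_mem ha hu), hWcj _ (S.mul_mem ha hu)⟩
  have hbound : Nat.card S ≤ r + 1 := by
    by_cases hex : ∃ s₀ ∈ S, ¬ ⁅K, zpowers x⁆ ≤ cj s₀ A'
    · obtain ⟨s₀, hs₀, hP₀⟩ := hex
      classical
      have hch : ∀ s : ↥S, ¬ ⁅K, zpowers x⁆ ≤ cj (s : G) A' →
          ∃ y : ↥(zpowers x), cj (s : G) A' = cj (y : G) (cj s₀ A') := by
        intro s hP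
        obtain ⟨y, hy, e⟩ := c.same_orbit hKc (hypA s₀ hs₀).1 (hypA s s.2).1 (hypA s₀ hs₀).2
          (hypA s s.2).2 hP₀ hP
        exact ⟨⟨y, hy⟩, e⟩
      obtain ⟨φ, hφ⟩ : ∃ φ : ↥S → Option ↥(zpowers x), ∀ s : ↥S,
          (⁅K, zpowers x⁆ ≤ cj (s : G) A' → φ s = none) ∧
          (∀ hP : ¬ ⁅K, zpowers x⁆ ≤ cj (s : G) A', ∃ y : ↥(zpowers x), φ s = some y ∧
            cj (s : G) A' = cj (y : G) (cj s₀ A')) := by
        refine ⟨fun s => if hP : ⁅K, zpowers x⁆ ≤ cj (s : G) A' then none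
          else some (Classical.choose (hch s hP)), fun s => ⟨fun h => dif_pos h, fun hP => ?_⟩⟩
        exact ⟨Classical.choose (hch s hP), dif_neg hP, Classical.choose_spec (hch s hP)⟩
      have hφinj : Function.Injective φ := by
        intro a b e
        apply Subtype.ext
        apply hinj a a.2 b b.2
        by_cases ha : ⁅K, zpowers x⁆ ≤ cj (a : G) A'
        · by_cases hb : ⁅K, zpowers x⁆ ≤ cj (b : G) A'
          · rw [c.hyp_eq_K1 hKc (hypA a a.2).1 ha, c.hyp_eq_K1 hKc (hypA b b.2).1 hb]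
          · exfalso
            obtain ⟨y, hy, -⟩ := (hφ b).2 hb
            rw [← e, (hφ a).1 ha] at hy
            cases hy
        · by_cases hb : ⁅K, zpowers x⁆ ≤ cj (b : G) A'
          · exfalso
            obtain ⟨y, hy, -⟩ := (hφ a).2 ha
            rw [e, (hφ b).1 hb] at hy
            cases hy
          · obtain ⟨y, hy, hya⟩ := (hφ a).2 ha
            obtain ⟨y', hy', hyb⟩ := (hφ b).2 hb
            rw [e, hy'] at hy
            have : y' = y := Option.some.inj hy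
            rw [hya, hyb, this]
      have h6 := Nat.card_le_card_of_injective φ hφinj
      rwa [Finite.card_option, Nat.card_zpowers, c.hx] at h6
    · push Not at hex
      exfalso
      apply c.hS1
      rw [eq_bot_iff]
      intro s hs
      have e : cj s A' = cj 1 A' := by
        rw [c.hyp_eq_K1 hKc (hypA s hs).1 (hex s hs),
          c.hyp_eq_K1 hKc (hypA 1 S.one_mem).1 (hex 1 S.one_mem)]
      rw [mem_bot]
      exact hinj s hs 1 S.one_mem e
  have hmod := c.cardS_modEq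
  have hS_gt : 1 < Nat.card S := (Subgroup.one_lt_card_iff_ne_bot S).mpr c.hS1
  have hoddS : Odd (Nat.card S) := Odd.of_dvd_nat c.hodd (Subgroup.card_subgroup_dvd_card S)
  have hoddr : Odd r := c.odd_r
  have hdvd : r ∣ Nat.card S - 1 := (Nat.modEq_iff_dvd' hS_gt.le).mp hmod.symm
  have h1 : r ≤ Nat.card S - 1 := Nat.le_of_dvd (by omega) hdvd
  have h2 : Nat.card S = r + 1 := by omega
  rw [h2] at hoddS
  exact (Nat.not_even_iff_odd.mpr hoddS) hoddr.add_one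

theorem Cfg.false_of_comm (c : Cfg p q r V K S x) (hKc : IsMulCommutative K) : False := by
  by_cases hI : ∀ T : Subgroup G, IsHyp K T → W V T ≠ ⊥ → S ≤ normalizer (T : Set G)
  · exact c.caseI hKc hI
  · push Not at hI
    obtain ⟨T₀, hT₀, hW₀, hns⟩ := hI
    exact c.caseII hKc hT₀ hW₀ hns

end abelian

end Cfsg.Agent.Lib.Helper3.T37
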