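import Mathlib
import Cfsg.Agent.Lib.Helper3.T37c
import Cfsg.Agent.Lib.Helper1.FM12
import Cfsg.Agent.Lib.Helper1.ExtraspecialOrder
import Cfsg.Agent.Lib.Helper1.FrattiniP
import Cfsg.Agent.Lib.Helper1.GlaubermanRepl3

/-!
# Endgame of B&G Theorem 3.7: the case `K` nonabelian, and the final statement
-/

set_option autoImplicit false
universe u
open scoped commutatorElement

namespace Cfsg.Agent.Lib.Helper3.T37

open Cfsg Subgroup Cfsg.Agent.Lib.Helper1 Cfsg.Agent.Lib.Helper1.BG7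

variable {G : Type u} [Group G]

/-- the centre of `K`, as a subgroup of `G` -/
def ZK (K : Subgroup G) : Subgroup G := K ⊓ centralizer (K : Set G)

theorem ZK_le (K : Subgroup G) : ZK K ≤ K := inf_le_left

theorem mem_normalizer_ZK {g : G} {K : Subgroup G} (hg : g ∈ normalizer (K : Set G)) :
    g ∈ normalizer ((ZK K : Subgroup G) : Set G) :=
  mem_normalizer_inf hg (mem_normalizer_centralizer hg)

theorem comm_of_mem_ZK {K : Subgroup G} {z k : G} (hz : z ∈ ZK K) (hk : k ∈ K) :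
    z * k = k * z :=
  ((mem_centralizer_iff.mp hz.2) k hk).symm

theorem le_normalizer_of_comm_le {K K₂ : Subgroup G} (hK₂ : K₂ ≤ K) (h : ⁅K, K⁆ ≤ K₂) :
    K ≤ normalizer (K₂ : Set G) := by
  intro k hk
  rw [mem_normalizer_iff]
  intro z
  constructor
  · intro hz
    have h1 : ⁅k, z⁆ ∈ K₂ := h (commutator_mem_commutator hk (hK₂ hz))
    have e : k * z * k⁻¹ = ⁅k, z⁆ * z := by rw [commutatorElement_def]; group
    rw [e]; exact K₂.mul_mem h1 hz
  · intro hz
    have h1 : ⁅k⁻¹, k * z * k⁻¹⁆ ∈ K₂ :=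
      h (commutator_mem_commutator (K.inv_mem hk) (hK₂ hz))
    have e : z = ⁅k⁻¹, k * z * k⁻¹⁆ * (k * z * k⁻¹) := by rw [commutatorElement_def]; group
    rw [e]; exact K₂.mul_mem h1 hz

theorem centralizer_sup_eq (A B : Subgroup G) :
    centralizer ((A ⊔ B : Subgroup G) : Set G) =
      centralizer (A : Set G) ⊓ centralizer (B : Set G) :=
  le_antisymm (le_inf (centralizer_le (le_sup_left : A ≤ A ⊔ B))
    (centralizer_le (le_sup_right : B ≤ A ⊔ B))) (centralizer_inf_centralizer_le A B)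

theorem exists_omega {A : Subgroup G} (hA : IsMulCommutative A) (q : ℕ) :
    ∃ Ω : Subgroup G, ∀ g, g ∈ Ω ↔ g ∈ A ∧ g ^ q = 1 := by
  refine ⟨{ carrier := {g | g ∈ A ∧ g ^ q = 1}
            one_mem' := ⟨A.one_mem, one_pow _⟩
            mul_mem' := ?_
            inv_mem' := ?_ }, fun g => Iff.rfl⟩
  · rintro a b ⟨ha, ha'⟩ ⟨hb, hb'⟩
    refine ⟨A.mul_mem ha hb, ?_⟩
    have hc : Commute a b := comm_of_mem hA ha hb
    rw [hc.mul_pow, ha', hb', one_mul]
  · rintro a ⟨ha, ha'⟩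
    exact ⟨A.inv_mem ha, by rw [inv_pow, ha', inv_one]⟩

theorem mk_comm_iff {L : Type*} [Group L] (N : Subgroup L) [N.Normal] (a b : L) :
    QuotientGroup.mk' N a * QuotientGroup.mk' N b =
      QuotientGroup.mk' N b * QuotientGroup.mk' N a ↔ ⁅a, b⁆ ∈ N := by
  rw [← commutatorElement_eq_one_iff_mul_comm, ← map_commutatorElement, QuotientGroup.mk'_apply,
    QuotientGroup.eq_one_iff]

section nonabelian

variable {p q r : ℕ} {V K S : Subgroup G} {x : G} [Finite G]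

theorem Cfg.ZK_ne (c : Cfg p q r V K S x) (hna : ¬ IsMulCommutative K) : ZK K ≠ K := by
  intro e
  apply hna
  refine ⟨⟨fun a b => Subtype.ext ?_⟩⟩
  have ha : (a : G) ∈ ZK K := by rw [e]; exact a.2
  exact comm_of_mem_ZK ha b.2

theorem Cfg.le_ZK (c : Cfg p q r V K S x) {K₂ : Subgroup G} (hle : K₂ ≤ K)
    (hK : K ≤ normalizer (K₂ : Set G)) (hS : S ≤ normalizer (K₂ : Set G))
    (hx : x ∈ normalizer (K₂ : Set G)) (hne : K₂ ≠ K) : K₂ ≤ ZK K := by
  have hSC := c.hKmin K₂ hle hS hx hne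
  have h1 : ⁅⁅S, K₂⁆, K⁆ = ⊥ := by
    rw [commutator_eq_bot_iff_le_centralizer.mpr hSC, commutator_bot_left]
  have h2 : ⁅⁅K₂, K⁆, S⁆ = ⊥ := by
    rw [commutator_eq_bot_iff_le_centralizer]
    exact (commutator_le_of_le_normalizer hK).trans (le_centralizer_iff.mp hSC)
  have h3 := commutator_commutator_eq_bot_of_rotate h1 h2
  rw [c.comm_KS, commutator_eq_bot_iff_le_centralizer] at h3
  exact le_inf hle (le_centralizer_iff.mp h3)

theorem Cfg.solvK (c : Cfg p q r V K S x) : Group.IsSolvable ↥K := by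
  haveI : Fact q.Prime := ⟨c.hq⟩
  haveI := c.hK.isNilpotent
  infer_instance

theorem Cfg.comm_ne (c : Cfg p q r V K S x) : ⁅K, K⁆ ≠ K := by
  intro e
  haveI := c.solvK
  haveI : Nontrivial ↥K := (Subgroup.nontrivial_iff_ne_bot K).mpr c.K_ne_bot
  have hlt := Group.IsSolvable.commutator_lt_top_of_nontrivial ↥K
  apply hlt.ne
  apply Subgroup.map_injective K.subtype_injective
  rw [Subgroup.map_subtype_commutator, e, ← MonoidHom.range_eq_map, Subgroup.range_subtype]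

theorem Cfg.comm_le_ZK (c : Cfg p q r V K S x) : ⁅K, K⁆ ≤ ZK K :=
  c.le_ZK (commutator_le_self K)
    (fun _ hk => mem_normalizer_commutator (le_normalizer hk) (le_normalizer hk))
    (fun _ hs => mem_normalizer_commutator (c.hSK hs) (c.hSK hs))
    (mem_normalizer_commutator c.hxK c.hxK) c.comm_ne

theorem Cfg.comm_ne_bot (c : Cfg p q r V K S x) (hna : ¬ IsMulCommutative K) : ⁅K, K⁆ ≠ ⊥ := by
  intro e
  apply c.ZK_ne hna
  rw [commutator_eq_bot_iff_le_centralizer] at e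
  exact le_antisymm (ZK_le K) (le_inf le_rfl e)

theorem Cfg.S_le_cent_ZK (c : Cfg p q r V K S x) (hna : ¬ IsMulCommutative K) :
    S ≤ centralizer ((ZK K : Subgroup G) : Set G) :=
  c.hKmin (ZK K) (ZK_le K) (fun _ hs => mem_normalizer_ZK (c.hSK hs)) (mem_normalizer_ZK c.hxK)
    (c.ZK_ne hna)

theorem Cfg.CKS_eq (c : Cfg p q r V K S x) (hna : ¬ IsMulCommutative K) :
    K ⊓ centralizer (S : Set G) = ZK K := by
  have hZS : ZK K ≤ K ⊓ centralizer (S : Set G) :=
    le_inf (ZK_le K) (le_centralizer_iff.mp (c.S_le_cent_ZK hna))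
  apply le_antisymm
  · apply c.le_ZK inf_le_left
    · exact le_normalizer_of_comm_le inf_le_left (c.comm_le_ZK.trans hZS)
    · intro s hs
      exact mem_normalizer_inf (c.hSK hs) (mem_normalizer_centralizer (le_normalizer hs))
    · exact mem_normalizer_inf c.hxK (mem_normalizer_centralizer c.hxS)
    · intro e
      apply c.hSK'
      exact le_centralizer_iff.mp (e.ge.trans inf_le_right)
  · exact hZS

theorem Cfg.commCentral (c : Cfg p q r V K S x) : CommCentral ↥K := by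
  intro a b z
  apply Subtype.ext
  have h1 : ⁅(a : G), (b : G)⁆ ∈ ZK K := c.comm_le_ZK (commutator_mem_commutator a.2 b.2)
  exact comm_of_mem_ZK h1 z.2

theorem Cfg.pow_mem_ZK (c : Cfg p q r V K S x) (hna : ¬ IsMulCommutative K) :
    ∀ k ∈ K, k ^ q ∈ ZK K := by
  have hcc := c.commCentral
  obtain ⟨Ω, hΩ⟩ : ∃ Ω : Subgroup G, ∀ g, g ∈ Ω ↔ g ∈ K ∧ g ^ q ∈ ZK K := by
    refine ⟨{ carrier := {g | g ∈ K ∧ g ^ q ∈ ZK K}
              one_mem' := ⟨K.one_mem, by rw [one_pow]; exact (ZK K).one_mem⟩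
              mul_mem' := ?_
              inv_mem' := ?_ }, fun g => Iff.rfl⟩
    · rintro a b ⟨ha, ha'⟩ ⟨hb, hb'⟩
      refine ⟨K.mul_mem ha hb, ?_⟩
      have h1 := hcc.mul_pow_eq ⟨a, ha⟩ ⟨b, hb⟩ q
      have h2 : (a * b) ^ q = a ^ q * b ^ q * ⁅b, a⁆ ^ (q.choose 2) := congrArg Subtype.val h1
      rw [h2]
      exact (ZK K).mul_mem ((ZK K).mul_mem ha' hb')
        ((ZK K).pow_mem (c.comm_le_ZK (commutator_mem_commutator hb ha)) _)
    · rintro a ⟨ha, ha'⟩
      exact ⟨K.inv_mem ha, by rw [inv_pow]; exact (ZK K).inv_mem ha'⟩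
  have hΩK : Ω ≤ K := fun g hg => ((hΩ g).mp hg).1
  have hZΩ : ZK K ≤ Ω := fun z hz => (hΩ z).mpr ⟨ZK_le K hz, (ZK K).pow_mem hz q⟩
  have hinv : ∀ g ∈ normalizer (K : Set G), g ∈ normalizer (Ω : Set G) := by
    intro g hg
    apply mem_normalizer_of_cj_le
    intro z hz
    rw [mem_cj] at hz
    obtain ⟨h1, h2⟩ := (hΩ _).mp hz
    rw [hΩ]
    have e : g * (g⁻¹ * z * g) * g⁻¹ = z := by group
    constructor
    · have := (mem_normalizer_iff.mp hg (g⁻¹ * z * g)).mp h1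
      rwa [e] at this
    · rw [← e, conj_pow]
      exact (mem_normalizer_iff.mp (mem_normalizer_ZK hg) _).mp h2
  have hΩne : ¬ Ω ≤ ZK K := by
    have hex0 : ∃ k ∈ K, k ∉ ZK K := by
      by_contra hcon
      push Not at hcon
      exact c.ZK_ne hna (le_antisymm (ZK_le K) hcon)
    obtain ⟨k, hkK, hkZ⟩ := hex0
    haveI : Fact q.Prime := ⟨c.hq⟩
    obtain ⟨n, hn⟩ := IsPGroup.iff_card.mp c.hK
    have hex : ∃ m, k ^ (q ^ m) ∈ ZK K := by
      refine ⟨n, ?_⟩
      have h1 : (⟨k, hkK⟩ : ↥K) ^ Nat.card ↥K = 1 := pow_card_eq_one'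
      have h2 : k ^ Nat.card ↥K = 1 := congrArg Subtype.val h1
      rw [← hn, h2]
      exact (ZK K).one_mem
    classical
    obtain ⟨m, hm, hmin⟩ : ∃ m, k ^ (q ^ m) ∈ ZK K ∧ ∀ m' < m, k ^ (q ^ m') ∉ ZK K :=
      ⟨Nat.find hex, Nat.find_spec hex, fun m' hm' => Nat.find_min hex hm'⟩
    have hm0 : m ≠ 0 := by
      rintro rfl
      rw [pow_zero, pow_one] at hm
      exact hkZ hm
    obtain ⟨m', rfl⟩ := Nat.exists_eq_succ_of_ne_zero hm0
    intro hle
    apply hmin m' (Nat.lt_succ_self m')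
    apply hle
    rw [hΩ]
    refine ⟨K.pow_mem hkK _, ?_⟩
    rw [← pow_mul, ← pow_succ]
    exact hm
  have hΩeq : Ω = K := by
    by_contra hne
    apply hΩne
    exact c.le_ZK hΩK (le_normalizer_of_comm_le hΩK (c.comm_le_ZK.trans hZΩ))
      (fun s hs => hinv s (c.hSK hs)) (hinv x c.hxK) hne
  intro k hk
  have h1 : k ∈ Ω := by rw [hΩeq]; exact hk
  exact ((hΩ k).mp h1).2

theorem Cfg.comm_pow (c : Cfg p q r V K S x) (hna : ¬ IsMulCommutative K) {a b : G}
    (ha : a ∈ K) (hb : b ∈ K) : ⁅a, b⁆ ^ q = 1 := by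
  have hcc := c.commCentral
  have h1 := hcc.comm_pow_left ⟨a, ha⟩ ⟨b, hb⟩ q
  have h2 : ⁅a ^ q, b⁆ = ⁅a, b⁆ ^ q := congrArg Subtype.val h1
  rw [← h2, commutatorElement_eq_one_iff_mul_comm]
  exact comm_of_mem_ZK (c.pow_mem_ZK hna a ha) hb

theorem Cfg.K'_comm (c : Cfg p q r V K S x) : IsMulCommutative ↥⁅K, K⁆ :=
  ⟨⟨fun a b => Subtype.ext (comm_of_mem_ZK (c.comm_le_ZK a.2) (commutator_le_self K b.2))⟩⟩

theorem Cfg.K'_exp (c : Cfg p q r V K S x) (hna : ¬ IsMulCommutative K) :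
    ∀ z ∈ ⁅K, K⁆, z ^ q = 1 := by
  obtain ⟨Ω, hΩ⟩ := exists_omega c.K'_comm q
  have hle : ⁅K, K⁆ ≤ Ω := by
    rw [commutator_le]
    intro a ha b hb
    exact (hΩ _).mpr ⟨commutator_mem_commutator ha hb, c.comm_pow hna ha hb⟩
  intro z hz
  exact ((hΩ z).mp (hle hz)).2

theorem Cfg.card_K_eq (c : Cfg p q r V K S x) (hna : ¬ IsMulCommutative K) :
    Nat.card K = q ^ r * Nat.card (ZK K) := by
  haveI : Fact q.Prime := ⟨c.hq⟩
  have hR1 : zpowers x ≠ ⊥ := zpowers_ne_bot.mpr c.x_ne_one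
  have hcop : (Nat.card K).Coprime (Nat.card ↥(S ⊔ zpowers x)) := by
    have h1 := GlaubermanRepl.card_sup_mul_card_inf_of_le_normalizer (zpowers x) S c.zp_normS
    have h2 : Nat.card ↥(S ⊔ zpowers x) ∣ Nat.card (zpowers x) * Nat.card S := by
      rw [sup_comm]; exact Dvd.intro _ h1
    apply Nat.Coprime.coprime_dvd_right h2
    exact Nat.Coprime.mul_right c.copRK.symm c.copSK.symm
  have hform := FM.frob_formula S (zpowers x) hR1 c.zp_normS
    (fun y hy hy1 s hs h => c.fpfS hy hy1 s hs h) (Nat.card K) K rfl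
    (sup_le c.hSK c.zp_normK) c.solvK hcop
  rw [centralizer_sup_eq, ← inf_assoc, c.CKS_eq hna, centralizer_zpowers_eq', Nat.card_zpowers,
    c.hx] at hform
  obtain ⟨A, hA⟩ : ∃ A : Subgroup G, A = K ⊓ centralizer ({x} : Set G) := ⟨_, rfl⟩
  obtain ⟨B, hB⟩ : ∃ B : Subgroup G, B = ZK K ⊓ centralizer ({x} : Set G) := ⟨_, rfl⟩
  have hBA : B ≤ A := by rw [hA, hB]; exact inf_le_inf_right _ (ZK_le K)
  haveI := c.hCK
  obtain ⟨g, hg⟩ := IsCyclic.exists_generator (α := ↥(K ⊓ centralizer ({x} : Set G)))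
  have hAg : A = zpowers (g : G) := by
    rw [hA]
    ext z
    constructor
    · intro hz
      obtain ⟨k, hk⟩ := mem_zpowers_iff.mp (hg ⟨z, hz⟩)
      rw [mem_zpowers_iff]
      refine ⟨k, ?_⟩
      have := congrArg Subtype.val hk
      rwa [Subgroup.coe_zpow] at this
    · intro hz
      obtain ⟨k, rfl⟩ := mem_zpowers_iff.mp hz
      exact Subgroup.zpow_mem _ g.2 k
  have hgq : (g : G) ^ q ∈ B := by
    rw [hB]
    exact ⟨c.pow_mem_ZK hna _ g.2.1, Subgroup.pow_mem _ g.2.2 q⟩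
  have hzB : zpowers ((g : G) ^ q) ≤ B := zpowers_le.mpr hgq
  have hcA : Nat.card A = orderOf (g : G) := by rw [hAg, Nat.card_zpowers]
  have hcz : Nat.card (zpowers ((g : G) ^ q)) =
      orderOf (g : G) / Nat.gcd (orderOf (g : G)) q := by
    rw [Nat.card_zpowers, orderOf_pow]
  obtain ⟨i, hi⟩ := Subgroup.card_dvd_of_le hzB
  obtain ⟨j, hj⟩ := Subgroup.card_dvd_of_le hBA
  have hjq : j ∣ q := by
    have hgcd : Nat.gcd (orderOf (g : G)) q ∣ orderOf (g : G) := Nat.gcd_dvd_left _ _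
    have h3 : orderOf (g : G) / Nat.gcd (orderOf (g : G)) q * Nat.gcd (orderOf (g : G)) q =
        orderOf (g : G) := Nat.div_mul_cancel hgcd
    have hpos : 0 < orderOf (g : G) / Nat.gcd (orderOf (g : G)) q := by
      rw [← hcz]; exact Nat.card_pos
    have h4 : orderOf (g : G) / Nat.gcd (orderOf (g : G)) q * (i * j) =
        orderOf (g : G) / Nat.gcd (orderOf (g : G)) q * Nat.gcd (orderOf (g : G)) q := by
      rw [h3]
      have h40 : orderOf (g : G) = orderOf (g : G) / Nat.gcd (orderOf (g : G)) q * i * j := by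
        rw [← hcz, ← hi, ← hj, hcA]
      rw [← mul_assoc]; exact h40.symm
    have h5 : i * j = Nat.gcd (orderOf (g : G)) q := Nat.eq_of_mul_eq_mul_left hpos h4
    exact (Dvd.intro_left i h5).trans (Nat.gcd_dvd_right _ _)
  rw [← hA, ← hB, hj, mul_pow] at hform
  have hBpos : 0 < Nat.card B ^ r := pow_pos Nat.card_pos r
  have h6 : Nat.card K = j ^ r * Nat.card (ZK K) := by
    apply Nat.eq_of_mul_eq_mul_left hBpos
    rw [hform, mul_assoc]
  rcases (Nat.dvd_prime c.hq).mp hjq with h1 | h1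
  · exfalso
    rw [h1, one_pow, one_mul] at h6
    exact c.ZK_ne hna (Subgroup.eq_of_le_of_card_ge (ZK_le K) h6.le)
  · rw [h1] at h6; exact h6

theorem Cfg.false_of_not_comm (c : Cfg p q r V K S x) (hna : ¬ IsMulCommutative K) : False := by
  haveI : Fact q.Prime := ⟨c.hq⟩
  haveI : Fact p.Prime := ⟨c.hp⟩
  obtain ⟨K', hK'⟩ : ∃ K' : Subgroup G, K' = ⁅K, K⁆ := ⟨_, rfl⟩
  have hK'K : K' ≤ K := by rw [hK']; exact commutator_le_self K
  have hK'Z : K' ≤ ZK K := by rw [hK']; exact c.comm_le_ZK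
  have hK'1 : K' ≠ ⊥ := by rw [hK']; exact c.comm_ne_bot hna
  have hK'c : IsMulCommutative ↥K' := by rw [hK']; exact c.K'_comm
  have hK'e : ∀ z ∈ K', z ^ q = 1 := by rw [hK']; exact c.K'_exp hna
  have hnK' : ∀ g ∈ normalizer (K : Set G), g ∈ normalizer (K' : Set G) := by
    intro g hg; rw [hK']; exact mem_normalizer_commutator hg hg
  have hK'V : K' ≤ normalizer (V : Set G) := hK'K.trans c.hKV
  obtain ⟨V', hV'⟩ : ∃ V' : Subgroup G, V' = ⁅V, K'⁆ := ⟨_, rfl⟩
  have hV'V : V' ≤ V := by rw [hV']; exact commutator_le_of_le_normalizer hK'V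
  have hnV' : ∀ g, g ∈ normalizer (V : Set G) → g ∈ normalizer (K : Set G) →
      g ∈ normalizer (V' : Set G) := by
    intro g hgV hgK; rw [hV']; exact mem_normalizer_commutator hgV (hnK' g hgK)
  have hV'1 : V' ≠ ⊥ := by
    intro e
    rw [hV', commutator_eq_bot_iff_le_centralizer] at e
    apply hK'1
    rw [eq_bot_iff, ← c.hCKV]
    exact le_inf hK'K (le_centralizer_iff.mp e)
  have hcopK'V : (Nat.card K').Coprime (Nat.card V) :=
    coprime_of_isPGroup c.hp c.hq c.hpq (c.hK.to_le hK'K) c.isPGroupV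
  have hV'C : V' ⊓ centralizer (K' : Set G) = ⊥ := by
    haveI := c.hV.1
    have h1 := coprime_abelian_centralizer_inf_commutator K' V hK'V hcopK'V
    rw [eq_bot_iff, ← h1, ← hV']
    exact le_inf (le_inf (inf_le_left.trans hV'V) inf_le_right) inf_le_left
  have pk' : Pk p q V' K' :=
    ⟨c.hp, c.hq, c.hpq,
      ⟨isMulCommutative_of_le c.hV.1 hV'V, fun a ha => c.hV.2 a (hV'V ha)⟩, hK'c, hK'e,
      fun k hk => hnV' k (hK'V hk) (le_normalizer (hK'K hk)), hV'C⟩
  obtain ⟨Z₀, hZ₀, hW₀⟩ : ∃ Z₀ : Subgroup G, IsHyp K' Z₀ ∧ W V' Z₀ ≠ ⊥ := by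
    by_contra hcon
    push Not at hcon
    apply hV'1
    rw [eq_bot_iff]
    apply pk'.gen le_rfl pk'.hKV
    intro T hT
    have h0 : W V' T = ⊥ := hcon T hT
    exact h0.le
  have hZ₀Z : Z₀ ≤ ZK K := hZ₀.le.trans hK'Z
  have hKZ₀ : K ≤ centralizer (Z₀ : Set G) := by
    intro k hk
    rw [mem_centralizer_iff]
    intro z hz
    exact comm_of_mem_ZK (hZ₀Z hz) hk
  have hSZ₀ : S ≤ centralizer (Z₀ : Set G) :=
    (c.S_le_cent_ZK hna).trans (centralizer_le hZ₀Z)
  have hxZ₀ : x ∈ normalizer (Z₀ : Set G) := by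
    by_contra hx
    have h1 := pk'.card_W_le c.hr c.hx (hnV' x c.hxV c.hxK) (hnK' x c.hxK) hZ₀ hx
    have h2 : Nat.card ↥(V' ⊓ centralizer ({x} : Set G)) ≤
        Nat.card ↥(V ⊓ centralizer ({x} : Set G)) :=
      Nat.le_of_dvd Nat.card_pos (Subgroup.card_dvd_of_le (inf_le_inf_right _ hV'V))
    have h3 : Nat.card ↥(V ⊓ centralizer ({x} : Set G)) ≤ p :=
      Nat.le_of_dvd c.hp.pos (card_fix_dvd c.hV c.hCV)
    have hWp : IsPGroup p (W V' Z₀) := c.isPGroupV.to_le ((W_le V' Z₀).trans hV'V)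
    have hcp := card_eq_prime_of_le c.hp hWp hW₀ (h1.trans (h2.trans h3))
    have hcyc : IsCyclic ↥(W V' Z₀) := isCyclic_of_prime_card hcp
    have hKW : K ≤ normalizer ((W V' Z₀ : Subgroup G) : Set G) := fun k hk =>
      mem_normalizer_W (hnV' k (c.hKV hk) (le_normalizer hk))
        (centralizer_le_normalizer' Z₀ (hKZ₀ hk))
    have h4 : K' ≤ centralizer ((W V' Z₀ : Subgroup G) : Set G) := by
      rw [hK', commutator_le]
      intro a ha b hb
      exact Cfsg.Agent.Lib.Helper2.MetaAct.commutator_mem_centralizer_of_isCyclic _ hcyc a b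
        (hKW ha) (hKW hb)
    apply hW₀
    rw [eq_bot_iff, ← hV'C]
    exact le_inf (W_le V' Z₀) (le_centralizer_iff.mp h4)
  -- the quotient `K / Z₀`
  obtain ⟨Z₀', hZ₀'⟩ : ∃ Z₀' : Subgroup ↥K, Z₀' = Z₀.subgroupOf K := ⟨_, rfl⟩
  haveI hZn : Z₀'.Normal := by
    rw [hZ₀']
    constructor
    intro z hz k
    rw [mem_subgroupOf] at hz ⊢
    have e : ((k * z * k⁻¹ : ↥K) : G) = (z : G) := by
      have hc := comm_of_mem_ZK (hZ₀Z hz) k.2
      show (k : G) * (z : G) * (k : G)⁻¹ = (z : G)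
      rw [← hc]; group
    rw [e]; exact hz
  have hT : ∀ t : ↥K, QuotientGroup.mk' Z₀' t ∈ center (↥K ⧸ Z₀') → (t : G) ∈ ZK K := by
    obtain ⟨T, hTdef⟩ : ∃ T : Subgroup G,
        T = ((center (↥K ⧸ Z₀')).comap (QuotientGroup.mk' Z₀')).map K.subtype := ⟨_, rfl⟩
    have hmemT : ∀ t : G, t ∈ T ↔ t ∈ K ∧ ∀ l ∈ K, ⁅t, l⁆ ∈ Z₀ := by
      intro t
      rw [hTdef, mem_map]
      constructor
      · rintro ⟨t', ht', rfl⟩
        refine ⟨t'.2, fun l hl => ?_⟩
        rw [mem_comap, mem_center_iff] at ht'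
        have h1 := ht' (QuotientGroup.mk' Z₀' ⟨l, hl⟩)
        have h2 : ⁅t', (⟨l, hl⟩ : ↥K)⁆ ∈ Z₀' := (mk_comm_iff Z₀' _ _).mp h1.symm
        rw [hZ₀', mem_subgroupOf] at h2
        exact h2
      · rintro ⟨htK, hl⟩
        refine ⟨⟨t, htK⟩, ?_, rfl⟩
        rw [mem_comap, mem_center_iff]
        intro y
        obtain ⟨l, rfl⟩ := QuotientGroup.mk'_surjective Z₀' y
        have h2 : ⁅(⟨t, htK⟩ : ↥K), l⁆ ∈ Z₀' := by
          rw [hZ₀', mem_subgroupOf]; exact hl l l.2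
        exact ((mk_comm_iff Z₀' _ _).mpr h2).symm
    have hTK : T ≤ K := fun t ht => ((hmemT t).mp ht).1
    have hinvT : ∀ g, g ∈ normalizer (K : Set G) → g ∈ normalizer (Z₀ : Set G) →
        g ∈ normalizer (T : Set G) := by
      intro g hgK hgZ
      apply mem_normalizer_of_cj_le
      intro z hz
      rw [mem_cj] at hz
      obtain ⟨h1, h2⟩ := (hmemT _).mp hz
      rw [hmemT]
      have e : g * (g⁻¹ * z * g) * g⁻¹ = z := by group
      constructor
      · have := (mem_normalizer_iff.mp hgK (g⁻¹ * z * g)).mp h1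
        rwa [e] at this
      · intro l hl
        have hl' : g⁻¹ * l * g⁻¹⁻¹ ∈ K :=
          (mem_normalizer_iff.mp (Subgroup.inv_mem _ hgK) l).mp hl
        have h3 := h2 _ hl'
        have h4 := (mem_normalizer_iff.mp hgZ _).mp h3
        have e2 : g * ⁅g⁻¹ * z * g, g⁻¹ * l * g⁻¹⁻¹⁆ * g⁻¹ = ⁅z, l⁆ := by
          simp only [commutatorElement_def]; group
        rwa [e2] at h4
    have hTne : T ≠ K := by
      intro e
      apply hZ₀.1.ne
      apply le_antisymm hZ₀.le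
      rw [hK', commutator_le]
      intro a ha b hb
      have haT : a ∈ T := by rw [e]; exact ha
      exact ((hmemT a).mp haT).2 b hb
    have hTZ : T ≤ ZK K := c.le_ZK hTK
      (fun k hk => hinvT k (le_normalizer hk) (centralizer_le_normalizer' Z₀ (hKZ₀ hk)))
      (fun s hs => hinvT s (c.hSK hs) (centralizer_le_normalizer' Z₀ (hSZ₀ hs)))
      (hinvT x c.hxK hxZ₀) hTne
    intro t ht
    apply hTZ
    rw [hTdef]
    exact mem_map_of_mem K.subtype (mem_comap.mpr ht)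
  have hcomm_eq : commutator (↥K ⧸ Z₀') = (commutator ↥K).map (QuotientGroup.mk' Z₀') := by
    rw [commutator_def, commutator_def, Subgroup.map_commutator, ← MonoidHom.range_eq_map,
      MonoidHom.range_eq_top.mpr (QuotientGroup.mk'_surjective Z₀')]
  have hcK : commutator ↥K = K'.subgroupOf K := by
    apply Subgroup.map_injective K.subtype_injective
    rw [Subgroup.map_subtype_commutator, Subgroup.subgroupOf_map_subtype, inf_eq_left.mpr hK'K,
      hK']
  have hcard : Nat.card (commutator (↥K ⧸ Z₀')) = q := by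
    rw [hcomm_eq, ← Subgroup.relIndex_ker, QuotientGroup.ker_mk', hcK, hZ₀',
      Subgroup.relIndex_subgroupOf hK'K]
    exact index_eq_prime_of_isCoatom q (c.hK.to_le hK'K) _ hZ₀.isCoatom
  have hcent : commutator (↥K ⧸ Z₀') ≤ center (↥K ⧸ Z₀') := by
    rw [hcomm_eq]
    rintro _ ⟨d, hd, rfl⟩
    rw [mem_center_iff]
    intro y
    obtain ⟨l, rfl⟩ := QuotientGroup.mk'_surjective Z₀' y
    rw [← map_mul, ← map_mul]
    congr 1
    apply Subtype.ext
    have hdZ : (d : G) ∈ ZK K := by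
      have h1 : d ∈ K'.subgroupOf K := by rw [← hcK]; exact hd
      exact hK'Z (mem_subgroupOf.mp h1)
    exact (comm_of_mem_ZK hdZ l.2).symm
  have hallc : ∀ a b : ↥K ⧸ Z₀', ⁅a, b⁆ ∈ commutator (↥K ⧸ Z₀') := by
    intro a b
    rw [commutator_def]
    exact commutator_mem_commutator (mem_top a) (mem_top b)
  obtain ⟨k, hk⟩ := relIndex_center_even (commutator (↥K ⧸ Z₀')) hcard hcent hallc
    (Nat.card (⊤ : Subgroup (↥K ⧸ Z₀'))) ⊤ rfl
  rw [top_inf_eq, Subgroup.coe_top, Subgroup.centralizer_univ, Subgroup.relIndex_top_right] at hk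
  have hcomap : (center (↥K ⧸ Z₀')).comap (QuotientGroup.mk' Z₀') = (ZK K).subgroupOf K := by
    apply le_antisymm
    · intro t ht
      rw [mem_subgroupOf]
      exact hT t (mem_comap.mp ht)
    · intro t ht
      rw [mem_subgroupOf] at ht
      rw [mem_comap, mem_center_iff]
      intro y
      obtain ⟨l, rfl⟩ := QuotientGroup.mk'_surjective Z₀' y
      rw [← map_mul, ← map_mul]
      congr 1
      apply Subtype.ext
      exact (comm_of_mem_ZK ht l.2).symm
  have hidx : ((ZK K).subgroupOf K).index = q ^ (2 * k) := by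
    rw [← hcomap, Subgroup.index_comap_of_surjective _ (QuotientGroup.mk'_surjective Z₀')]
    exact hk
  have hcardZ : Nat.card ↥((ZK K).subgroupOf K) = Nat.card (ZK K) :=
    Nat.card_congr (Subgroup.subgroupOfEquivOfLe (ZK_le K)).toEquiv
  have h7 := Subgroup.card_mul_index ((ZK K).subgroupOf K)
  rw [hidx, hcardZ, c.card_K_eq hna] at h7
  have hZpos : 0 < Nat.card (ZK K) := Nat.card_pos
  have h8 : q ^ (2 * k) = q ^ r := by
    apply Nat.eq_of_mul_eq_mul_left hZpos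
    rw [h7, mul_comm]
  have h9 : 2 * k = r := Nat.pow_right_injective c.hq.two_le h8
  have heven : Even r := ⟨k, by omega⟩
  exact (Nat.not_even_iff_odd.mpr c.odd_r) heven

end nonabelian

/-- **Endgame of B&G Theorem 3.7.**  The final configuration of a minimal counterexample is
impossible. -/
theorem endgame [Finite G] (hodd : Odd (Nat.card G)) {p q r : ℕ} (hp : p.Prime) (hq : q.Prime)
    (hr : r.Prime) (hpq : p ≠ q) (hpr : p ≠ r) (hqr : q ≠ r) (V K S : Subgroup G) (x : G)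
    (hV : IsElementaryAbelian p V) (hK : IsPGroup q K) (hS : IsPGroup p S) (hS1 : S ≠ ⊥)
    (hx : orderOf x = r)
    (hKV : K ≤ normalizer (V : Set G)) (hSV : S ≤ normalizer (V : Set G))
    (hxV : x ∈ normalizer (V : Set G)) (hSK : S ≤ normalizer (K : Set G))
    (hxK : x ∈ normalizer (K : Set G)) (hxS : x ∈ normalizer (S : Set G))
    (hCVK : V ⊓ centralizer (K : Set G) = ⊥) (hCKV : K ⊓ centralizer (V : Set G) = ⊥)
    (hSV' : ¬ S ≤ centralizer (V : Set G)) (hSK' : ¬ S ≤ centralizer (K : Set G))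
    (hCSx : S ⊓ centralizer ({x} : Set G) = ⊥)
    (hSmin : ∀ T : Subgroup G, T ≤ S → x ∈ normalizer (T : Set G) → T = ⊥ ∨ T = S)
    (hKmin : ∀ K₂ : Subgroup G, K₂ ≤ K → S ≤ normalizer (K₂ : Set G) →
      x ∈ normalizer (K₂ : Set G) → K₂ ≠ K → S ≤ centralizer (K₂ : Set G))
    (hCV : IsCyclic ↥(V ⊓ centralizer ({x} : Set G)))
    (hCK : IsCyclic ↥(K ⊓ centralizer ({x} : Set G))) : False := by
  have c : Cfg p q r V K S x :=
    ⟨hodd, hp, hq, hr, hpq, hpr, hqr, hV, hK, hS, hS1, hx, hKV, hSV, hxV, hSK, hxK, hxS, hCVK,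
      hCKV, hSV', hSK', hCSx, hSmin, hKmin, hCV, hCK⟩
  by_cases hKc : IsMulCommutative K
  · exact c.false_of_comm hKc
  · exact c.false_of_not_comm hKc

end Cfsg.Agent.Lib.Helper3.T37
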