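import Mathlib
import Cfsg.Prelude.Def_Local
import Cfsg.Prelude.Def_CaseTheorems
import Cfsg.Agent.Lib.Helper1.PCore
import Cfsg.Agent.Lib.Helper1.FittingCentralizer
import Cfsg.Agent.Lib.Helper3.Sz7

set_option autoImplicit false
set_option maxHeartbeats 4000000
set_option maxRecDepth 100000
set_option linter.unusedVariables false
set_option linter.unusedSectionVars false
set_option linter.style.longLine false
set_option linter.style.haveILetI false
set_option linter.deprecated false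

/-!
# Solvable groups with one class of involutions: the case of trivial odd core, part I

`Hyp G`: `G` is a finite solvable group with trivial largest normal subgroup of odd order, more
than one involution, and all involutions conjugate.  `TT G` is the largest normal 2-subgroup;
it contains its centralizer, and all involutions are central elements of `TT G`.
-/

namespace Cfsg.Agent.Lib.Helper3.T97

open Cfsg Cfsg.Agent.Lib.Lead.Sz2D Cfsg.Agent.Lib.Helper1.Hg Cfsg.Agent.Lib.Helper3.Sz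

universe u

/-- the standing hypothesis -/
structure Hyp (G : Type u) [Group G] : Prop where
  fin : Finite G
  sol : Group.IsSolvable G
  core : pPrimeCore 2 G = ⊥
  two : ∃ x y : G, x ≠ y ∧ x ≠ 1 ∧ x * x = 1 ∧ y ≠ 1 ∧ y * y = 1
  conj : ∀ x y : G, x ≠ 1 → x * x = 1 → y ≠ 1 → y * y = 1 → ∃ g : G, g * x * g⁻¹ = y

/-- the largest normal 2-subgroup -/
abbrev TT (G : Type u) [Group G] : Subgroup G := pCore 2 G

instance TT_normal (G : Type u) [Group G] : (TT G).Normal := Cfsg.Agent.Lib.Helper1.pCore_normal 2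

variable {G : Type u} [Group G]

theorem TT_pg [Finite G] : IsPGroup 2 (TT G) := by
  haveI : Fact (Nat.Prime 2) := ⟨Nat.prime_two⟩
  exact Cfsg.Agent.Lib.Helper1.pCore_isPGroup 2

theorem conj_mem_TT {t : G} (ht : t ∈ TT G) (g : G) : g * t * g⁻¹ ∈ TT G :=
  (TT_normal G).conj_mem t ht g

theorem conj_mem_TT' {t : G} (ht : t ∈ TT G) (g : G) : g⁻¹ * t * g ∈ TT G := by
  have := conj_mem_TT ht g⁻¹
  rwa [inv_inv] at this

namespace Hyp

theorem cent_le (h : Hyp G) {g : G} (hg : ∀ t ∈ TT G, g * t = t * g) : g ∈ TT G := by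
  haveI := h.fin
  haveI := h.sol
  haveI : Fact (Nat.Prime 2) := ⟨Nat.prime_two⟩
  apply Cfsg.Agent.Lib.Helper1.centralizer_pCore_le 2 h.core
  rw [Subgroup.mem_centralizer_iff]
  intro t ht
  exact (hg t ht).symm

theorem TT_nontrivial (h : Hyp G) : Nontrivial ↥(TT G) := by
  by_contra hnt
  rw [not_nontrivial_iff_subsingleton] at hnt
  have htriv : ∀ t ∈ TT G, t = 1 := by
    intro t ht
    have := Subsingleton.elim (⟨t, ht⟩ : ↥(TT G)) 1
    exact congrArg Subtype.val this
  obtain ⟨x, y, _, hx1, hx2, _⟩ := h.two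
  apply hx1
  apply htriv
  apply h.cent_le
  intro t ht
  rw [htriv t ht, mul_one, one_mul]

/-- every element of order at most two lies in `TT G` and is central there -/
theorem inv_mem (h : Hyp G) {v : G} (hv : v * v = 1) :
    v ∈ TT G ∧ ∀ t ∈ TT G, v * t = t * v := by
  haveI := h.fin
  by_cases hv1 : v = 1
  · rw [hv1]
    exact ⟨Subgroup.one_mem _, fun t _ => by rw [one_mul, mul_one]⟩
  haveI := h.TT_nontrivial
  obtain ⟨z, hzc, hz1, hz2⟩ := exists_central_involution ↥(TT G) TT_pg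
  have hz1' : (z : G) ≠ 1 := fun hh => hz1 (Subtype.ext hh)
  have hz2' : (z : G) * (z : G) = 1 := congrArg Subtype.val hz2
  obtain ⟨g, hg⟩ := h.conj (z : G) v hz1' hz2' hv1 hv
  have hzcomm : ∀ t ∈ TT G, (z : G) * t = t * (z : G) := by
    intro t ht
    have := (Subgroup.mem_center_iff.mp hzc ⟨t, ht⟩)
    exact (congrArg Subtype.val this).symm
  refine ⟨by rw [← hg]; exact conj_mem_TT z.2 g, ?_⟩
  intro t ht
  have h1 := hzcomm (g⁻¹ * t * g) (conj_mem_TT' ht g)
  rw [← hg]
  calc g * (z : G) * g⁻¹ * t = g * ((z : G) * (g⁻¹ * t * g)) * g⁻¹ := by group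
    _ = g * ((g⁻¹ * t * g) * (z : G)) * g⁻¹ := by rw [h1]
    _ = t * (g * (z : G) * g⁻¹) := by group

end Hyp

/-- the conjugation action on `TT G` -/
noncomputable def cj (g : G) : MulAut ↥(TT G) := MulAut.conjNormal g

theorem cj_coe (g : G) (t : ↥(TT G)) : ((cj g t : ↥(TT G)) : G) = g * (t : G) * g⁻¹ := rfl

theorem cj_mul (g g' : G) : cj (g * g') = cj g * cj g' := map_mul MulAut.conjNormal g g'

theorem cj_inv (g : G) : cj g⁻¹ = (cj g)⁻¹ := map_inv MulAut.conjNormal g

theorem cj_one : cj (1 : G) = 1 := map_one MulAut.conjNormal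

/-- the group of automorphisms of `TT G` induced by `G` -/
noncomputable def YT (G : Type u) [Group G] : Subgroup (MulAut ↥(TT G)) :=
  (MulAut.conjNormal : G →* MulAut ↥(TT G)).range

theorem cj_mem (g : G) : cj g ∈ YT G := ⟨g, rfl⟩

theorem mem_YT {k : MulAut ↥(TT G)} (hk : k ∈ YT G) : ∃ g : G, k = cj g := by
  obtain ⟨g, hg⟩ := hk
  exact ⟨g, hg.symm⟩

theorem Hyp.sh (h : Hyp G) : SH ↥(TT G) (YT G) := by
  haveI := h.fin
  haveI := h.sol
  refine ⟨inferInstance, TT_pg, ?_, ?_, ?_⟩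
  · exact Group.isSolvable_of_surjective (MonoidHom.rangeRestrict_surjective _)
  · obtain ⟨x, y, hxy, hx1, hx2, hy1, hy2⟩ := h.two
    refine ⟨⟨x, (h.inv_mem hx2).1⟩, ⟨y, (h.inv_mem hy2).1⟩, ?_, ?_, ?_, ?_, ?_⟩
    · intro hh; exact hxy (congrArg Subtype.val hh)
    · intro hh; exact hx1 (congrArg Subtype.val hh)
    · exact Subtype.ext hx2
    · intro hh; exact hy1 (congrArg Subtype.val hh)
    · exact Subtype.ext hy2
  · intro x y hx1 hx2 hy1 hy2
    have hx1' : (x : G) ≠ 1 := fun hh => hx1 (Subtype.ext hh)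
    have hy1' : (y : G) ≠ 1 := fun hh => hy1 (Subtype.ext hh)
    obtain ⟨g, hg⟩ := h.conj (x : G) (y : G) hx1' (congrArg Subtype.val hx2) hy1'
      (congrArg Subtype.val hy2)
    exact ⟨cj g, cj_mem g, Subtype.ext hg⟩

/-- membership in `Om ↥(TT G)` -/
theorem Hyp.mem_Om (h : Hyp G) {z : ↥(TT G)} : z ∈ Om ↥(TT G) ↔ (z : G) * (z : G) = 1 := by
  rw [h.sh.mem_Om_iff]
  constructor
  · intro hh; exact congrArg Subtype.val hh
  · intro hh; exact Subtype.ext hh

/-- elements of `TT G` act trivially on `Om` -/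
theorem cj_Om_of_mem {t : G} (ht : t ∈ TT G) {z : ↥(TT G)} (hz : z ∈ Om ↥(TT G)) :
    cj t z = z := by
  apply Subtype.ext
  rw [cj_coe]
  have h1 := Subgroup.mem_center_iff.mp hz.1 ⟨t, ht⟩
  have h2 : t * (z : G) = (z : G) * t := congrArg Subtype.val h1
  rw [h2, mul_assoc, mul_inv_cancel, mul_one]

end Cfsg.Agent.Lib.Helper3.T97
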