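import Mathlib
import Cfsg.Agent.Lib.Helper3.T97a

set_option autoImplicit false
set_option maxHeartbeats 4000000
set_option maxRecDepth 100000
set_option linter.unusedVariables false
set_option linter.unusedSectionVars false
set_option linter.style.longLine false
set_option linter.style.haveILetI false
set_option linter.deprecated false

/-!
# Solvable groups with one class of involutions, part II

The centralizer `CV G` of the group `VV G` of all elements of order at most two has `TT G` as a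
Sylow 2-subgroup.
-/

namespace Cfsg.Agent.Lib.Helper3.T97

open Cfsg Cfsg.Agent.Lib.Lead.Sz2D Cfsg.Agent.Lib.Helper1.Hg Cfsg.Agent.Lib.Helper3.Sz

universe u

variable {G : Type u} [Group G]

/-- the central elements of order at most two of `TT G` -/
def VV (G : Type u) [Group G] : Subgroup G where
  carrier := {v | v ∈ TT G ∧ (∀ t ∈ TT G, v * t = t * v) ∧ v * v = 1}
  one_mem' := ⟨Subgroup.one_mem _, fun t _ => by rw [one_mul, mul_one], by rw [mul_one]⟩
  mul_mem' := by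
    rintro a b ⟨ha, hac, ha2⟩ ⟨hb, hbc, hb2⟩
    refine ⟨Subgroup.mul_mem _ ha hb, ?_, ?_⟩
    · intro t ht
      rw [mul_assoc, hbc t ht, ← mul_assoc, hac t ht, mul_assoc]
    · have hab : a * b = b * a := hac b hb
      calc a * b * (a * b) = a * (b * a) * b := by group
        _ = a * (a * b) * b := by rw [hab]
        _ = (a * a) * (b * b) := by group
        _ = 1 := by rw [ha2, hb2, mul_one]
  inv_mem' := by
    rintro a ⟨ha, hac, ha2⟩
    have hinv : a⁻¹ = a := inv_eq_of_mul_eq_one_left ha2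
    rw [Set.mem_setOf_eq, hinv]
    exact ⟨ha, hac, ha2⟩

theorem Hyp.mem_VV (h : Hyp G) {v : G} : v ∈ VV G ↔ v * v = 1 :=
  ⟨fun hv => hv.2.2, fun hv => ⟨(h.inv_mem hv).1, (h.inv_mem hv).2, hv⟩⟩

theorem VV_le_TT : VV G ≤ TT G := fun v hv => hv.1

instance VV_normal (G : Type u) [Group G] : (VV G).Normal := by
  constructor
  rintro v ⟨hv, hvc, hv2⟩ g
  refine ⟨conj_mem_TT hv g, ?_, ?_⟩
  · intro t ht
    have h1 := hvc (g⁻¹ * t * g) (conj_mem_TT' ht g)
    calc g * v * g⁻¹ * t = g * (v * (g⁻¹ * t * g)) * g⁻¹ := by group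
      _ = g * ((g⁻¹ * t * g) * v) * g⁻¹ := by rw [h1]
      _ = t * (g * v * g⁻¹) := by group
  · calc g * v * g⁻¹ * (g * v * g⁻¹) = g * (v * v) * g⁻¹ := by group
      _ = 1 := by rw [hv2, mul_one, mul_inv_cancel]

/-- the centralizer of `VV G` -/
abbrev CV (G : Type u) [Group G] : Subgroup G := Subgroup.centralizer (VV G : Set G)

theorem mem_CV {g : G} : g ∈ CV G ↔ ∀ v ∈ VV G, v * g = g * v := Subgroup.mem_centralizer_iff

theorem TT_le_CV : TT G ≤ CV G := by
  intro t ht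
  rw [mem_CV]
  intro v hv
  exact hv.2.1 t ht

/-- the elements of `Om` of the core, in `G` -/
theorem coe_mem_VV {z : ↥(TT G)} (hz : z ∈ Om ↥(TT G)) : (z : G) ∈ VV G := by
  refine ⟨z.2, ?_, congrArg Subtype.val hz.2⟩
  intro t ht
  have := Subgroup.mem_center_iff.mp hz.1 ⟨t, ht⟩
  exact (congrArg Subtype.val this).symm

theorem mem_Om_of_VV {v : G} (hv : v ∈ VV G) : (⟨v, hv.1⟩ : ↥(TT G)) ∈ Om ↥(TT G) := by
  refine ⟨?_, Subtype.ext hv.2.2⟩
  rw [Subgroup.mem_center_iff]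
  intro t
  apply Subtype.ext
  exact (hv.2.1 t t.2).symm

/-- a 2-subgroup whose normalizer is transitive on its involutions -/
theorem sh_of_sub [Finite G] (hG : Group.IsSolvable G) (Q : Subgroup G) (hQ : IsPGroup 2 Q)
    (htwo : ∃ x y : G, x ∈ Q ∧ y ∈ Q ∧ x ≠ y ∧ x ≠ 1 ∧ x * x = 1 ∧ y ≠ 1 ∧ y * y = 1)
    (htr : ∀ x ∈ Q, ∀ y ∈ Q, x ≠ 1 → x * x = 1 → y ≠ 1 → y * y = 1 →
      ∃ n ∈ Subgroup.normalizer (Q : Set G), n * x * n⁻¹ = y) :
    SH ↥Q (Subgroup.normalizerMonoidHom Q).range := by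
  haveI := hG
  refine ⟨inferInstance, hQ, ?_, ?_, ?_⟩
  · exact Group.isSolvable_of_surjective (MonoidHom.rangeRestrict_surjective _)
  · obtain ⟨x, y, hx, hy, hxy, hx1, hx2, hy1, hy2⟩ := htwo
    refine ⟨⟨x, hx⟩, ⟨y, hy⟩, ?_, ?_, ?_, ?_, ?_⟩
    · intro hh; exact hxy (congrArg Subtype.val hh)
    · intro hh; exact hx1 (congrArg Subtype.val hh)
    · exact Subtype.ext hx2
    · intro hh; exact hy1 (congrArg Subtype.val hh)
    · exact Subtype.ext hy2
  · intro x y hx1 hx2 hy1 hy2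
    have hx1' : (x : G) ≠ 1 := fun hh => hx1 (Subtype.ext hh)
    have hy1' : (y : G) ≠ 1 := fun hh => hy1 (Subtype.ext hh)
    obtain ⟨n, hn, hnx⟩ := htr (x : G) x.2 (y : G) y.2 hx1' (congrArg Subtype.val hx2) hy1'
      (congrArg Subtype.val hy2)
    exact ⟨Subgroup.normalizerMonoidHom Q ⟨n, hn⟩, ⟨_, rfl⟩, Subtype.ext hnx⟩

/-- the action on `TT G` modulo `Om` -/
noncomputable def qHom (G : Type u) [Group G] : G →* MulAut (↥(TT G) ⧸ Om ↥(TT G)) :=
  (qAut ↥(TT G)).comp MulAut.conjNormal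

theorem qHom_mk (g : G) (x : ↥(TT G)) :
    qHom G g (x : ↥(TT G) ⧸ Om ↥(TT G)) = ((cj g x : ↥(TT G)) : ↥(TT G) ⧸ Om ↥(TT G)) :=
  qAut_mk _ x

/-- the stability group of the chain `TT G ≥ VV G ≥ 1` -/
noncomputable def BB (G : Type u) [Group G] : Subgroup G := CV G ⊓ (qHom G).ker

instance BB_normal (G : Type u) [Group G] : (BB G).Normal := by
  unfold BB
  infer_instance

theorem mem_BB {g : G} : g ∈ BB G ↔ g ∈ CV G ∧ ∀ x : ↥(TT G), x⁻¹ * cj g x ∈ Om ↥(TT G) := by
  unfold BB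
  rw [Subgroup.mem_inf, MonoidHom.mem_ker]
  constructor
  · rintro ⟨h1, h2⟩
    refine ⟨h1, fun x => ?_⟩
    have h3 : qHom G g (x : ↥(TT G) ⧸ Om ↥(TT G)) = (x : ↥(TT G) ⧸ Om ↥(TT G)) := by
      rw [h2]; rfl
    rw [qHom_mk] at h3
    exact QuotientGroup.eq.mp h3.symm
  · rintro ⟨h1, h2⟩
    refine ⟨h1, ?_⟩
    apply MulEquiv.ext
    intro q
    induction q using QuotientGroup.induction_on with
    | H x =>
      rw [qHom_mk]
      exact (QuotientGroup.eq.mpr (h2 x)).symm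

theorem Hyp.BB_le (h : Hyp G) : BB G ≤ TT G := by
  haveI := h.fin
  apply Cfsg.Agent.Lib.Helper1.le_pCore (BB_normal G)
  intro g
  obtain ⟨hgC, hgq⟩ := mem_BB.mp g.2
  have hfix : ∀ x : ↥(TT G), cj (g : G) (cj (g : G) x) = x := by
    intro x
    have hv := hgq x
    set v := x⁻¹ * cj (g : G) x with hvdef
    have hx : cj (g : G) x = x * v := by rw [hvdef]; group
    have hvV : (v : G) ∈ VV G := coe_mem_VV hv
    have hgv : cj (g : G) v = v := by
      apply Subtype.ext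
      rw [cj_coe]
      have := mem_CV.mp hgC (v : G) hvV
      rw [← this, mul_assoc, mul_inv_cancel, mul_one]
    rw [hx, map_mul, hx, hgv, mul_assoc, hv.2, mul_one]
  have hgg : (g : G) * (g : G) ∈ TT G := by
    apply h.cent_le
    intro t ht
    have h1 := hfix ⟨t, ht⟩
    have h2 := congrArg Subtype.val h1
    rw [cj_coe, cj_coe] at h2
    simp only at h2
    calc (g : G) * (g : G) * t = ((g : G) * ((g : G) * t * (g : G)⁻¹) * (g : G)⁻¹) * ((g : G) * (g : G)) := by group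
      _ = t * ((g : G) * (g : G)) := by rw [h2]
  obtain ⟨j, hj⟩ := TT_pg (G := G) ⟨(g : G) * (g : G), hgg⟩
  refine ⟨j + 1, ?_⟩
  apply Subtype.ext
  have hj' := congrArg Subtype.val hj
  rw [Subgroup.coe_pow, Subgroup.coe_one] at hj'
  simp only at hj'
  rw [Subgroup.coe_pow, Subgroup.coe_one, pow_succ, mul_comm, pow_mul, pow_two]
  exact hj'

end Cfsg.Agent.Lib.Helper3.T97
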