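import Mathlib
import Cfsg.Agent.Lib.Helper3.T97b

set_option autoImplicit false
set_option maxHeartbeats 4000000
set_option maxRecDepth 100000
set_option linter.unusedVariables false
set_option linter.unusedSectionVars false
set_option linter.style.longLine false
set_option linter.style.haveILetI false
set_option linter.deprecated false

/-!
# Solvable groups with one class of involutions, part II (continued)

Every 2-element of the centralizer of all involutions lies in the largest normal 2-subgroup.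
-/

namespace Cfsg.Agent.Lib.Helper3.T97

open Cfsg Cfsg.Agent.Lib.Lead.Sz2D Cfsg.Agent.Lib.Helper1.Hg Cfsg.Agent.Lib.Helper3.Sz

universe u

variable {G : Type u} [Group G]

theorem Hyp.CV_two (h : Hyp G) {x : G} (hx : x ∈ CV G) (hx2 : ∃ j : ℕ, x ^ (2 ^ j) = 1) :
    x ∈ TT G := by
  haveI := h.fin
  haveI : Fact (Nat.Prime 2) := ⟨Nat.prime_two⟩
  obtain ⟨P₀⟩ : Nonempty (Sylow 2 ↥(CV G)) := inferInstance
  set S₀ : Subgroup G := (P₀ : Subgroup ↥(CV G)).map (CV G).subtype with hS₀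
  have hS₀C : S₀ ≤ CV G := by
    rintro _ ⟨y, _, rfl⟩
    exact y.2
  have hS₀pg : IsPGroup 2 ↥S₀ := P₀.isPGroup'.map _
  have hfr : Subgroup.normalizer (S₀ : Set G) ⊔ CV G = ⊤ := Sylow.normalizer_sup_eq_top P₀
  have hT'pg : IsPGroup 2 ↥((TT G).subgroupOf (CV G)) := (TT_pg (G := G)).comap_subtype
  -- the core lies in `S₀`
  have hTS : TT G ≤ S₀ := by
    have hsup : IsPGroup 2 ↥((P₀ : Subgroup ↥(CV G)) ⊔ (TT G).subgroupOf (CV G)) :=
      P₀.isPGroup'.to_sup_of_normal_right hT'pg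
    have heq := P₀.is_maximal' hsup le_sup_left
    intro t ht
    have h1 : (⟨t, TT_le_CV ht⟩ : ↥(CV G)) ∈ (P₀ : Subgroup ↥(CV G)) := by
      rw [← heq]
      exact Subgroup.mem_sup_right (Subgroup.mem_subgroupOf.mpr ht)
    exact ⟨_, h1, rfl⟩
  -- `S₀` satisfies the hypothesis of the theorem on 2-groups
  have hsh : SH ↥S₀ (Subgroup.normalizerMonoidHom S₀).range := by
    apply sh_of_sub h.sol S₀ hS₀pg
    · obtain ⟨a, b, hab, ha1, ha2, hb1, hb2⟩ := h.two
      exact ⟨a, b, hTS (h.inv_mem ha2).1, hTS (h.inv_mem hb2).1, hab, ha1, ha2, hb1, hb2⟩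
    · intro a _ b _ ha1 ha2 hb1 hb2
      obtain ⟨g, hg⟩ := h.conj a b ha1 ha2 hb1 hb2
      have hgtop : g ∈ ((Subgroup.normalizer (S₀ : Set G) ⊔ CV G : Subgroup G) : Set G) := by
        rw [hfr]
        exact Subgroup.mem_top g
      rw [Subgroup.mul_normal] at hgtop
      obtain ⟨n, hn, c, hc, rfl⟩ := Set.mem_mul.mp hgtop
      refine ⟨n, hn, ?_⟩
      have hca : c * a * c⁻¹ = a := by
        have := mem_CV.mp hc a (h.mem_VV.mpr ha2)
        rw [← this, mul_assoc, mul_inv_cancel, mul_one]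
      rw [← hg]
      calc n * a * n⁻¹ = n * (c * a * c⁻¹) * n⁻¹ := by rw [hca]
        _ = n * c * a * (n * c)⁻¹ := by group
  -- `S₀` lies in the core
  have hST : S₀ ≤ TT G := by
    by_cases hab : ∀ a b : ↥S₀, a * b = b * a
    · intro y hy
      apply h.cent_le
      intro t ht
      exact congrArg Subtype.val (hab ⟨y, hy⟩ ⟨t, hTS ht⟩)
    · push Not at hab
      have hsq := sq_mem_Om hsh hab
      intro y hy
      apply h.BB_le
      rw [mem_BB]
      refine ⟨hS₀C hy, fun t => ?_⟩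
      have hc := cm_mem_of_sq hsq (⟨(t : G), hTS t.2⟩ : ↥S₀) ⟨y⁻¹, S₀.inv_mem hy⟩
      have h1 := congrArg Subtype.val hc.2
      rw [h.mem_Om]
      have h2 : ((t⁻¹ * cj y t : ↥(TT G)) : G) =
          ((cm (⟨(t : G), hTS t.2⟩ : ↥S₀) ⟨y⁻¹, S₀.inv_mem hy⟩ : ↥S₀) : G) := by
        unfold cm
        simp only [Subgroup.coe_mul, Subgroup.coe_inv, cj_coe]
        group
      rw [h2]
      exact h1
  have hP₀ : ∀ y : ↥(CV G), y ∈ (P₀ : Subgroup ↥(CV G)) ↔ (y : G) ∈ TT G := by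
    intro y
    constructor
    · intro hy
      exact hST ⟨y, hy, rfl⟩
    · intro hy
      obtain ⟨y', hy', hyy⟩ := hTS hy
      have : y' = y := Subtype.ext hyy
      rwa [← this]
  set x' : ↥(CV G) := ⟨x, hx⟩ with hx'
  have hzp : IsPGroup 2 ↥(Subgroup.zpowers x') := by
    obtain ⟨j, hj⟩ := hx2
    rintro ⟨w, hw⟩
    obtain ⟨k, rfl⟩ := Subgroup.mem_zpowers_iff.mp hw
    refine ⟨j, Subtype.ext ?_⟩
    have hxj : x' ^ (2 ^ j) = 1 := Subtype.ext (by simpa using hj)
    simp only [Subgroup.coe_pow, Subgroup.coe_one]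
    rw [← zpow_natCast, ← zpow_mul, mul_comm, zpow_mul, zpow_natCast, hxj, one_zpow]
  have hsup := hzp.to_sup_of_normal_right (K := (TT G).subgroupOf (CV G)) hT'pg
  have hle : (P₀ : Subgroup ↥(CV G)) ≤ Subgroup.zpowers x' ⊔ (TT G).subgroupOf (CV G) := by
    intro y hy
    exact Subgroup.mem_sup_right (Subgroup.mem_subgroupOf.mpr ((hP₀ y).mp hy))
  have heq := P₀.is_maximal' hsup hle
  have hxP : x' ∈ (P₀ : Subgroup ↥(CV G)) := by
    rw [← heq]
    exact Subgroup.mem_sup_left (Subgroup.mem_zpowers x')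
  exact (hP₀ x').mp hxP

end Cfsg.Agent.Lib.Helper3.T97
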