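import Mathlib
import Cfsg.Prelude.Def_Balance
import Cfsg.Prelude.Def_ClassificationStages
import Cfsg.Agent.Lib.Helper7.BB1
import Cfsg.Agent.Lib.Helper8.TCLU3
import Cfsg.Agent.Lib.Helper7.TCLU5
import Cfsg.Agent.Lib.Helper9.TCLU6

/-!
# Farm TCL (S1775), unit U10: conclusion 2 inside `X`

`K` a 2-component of `C = C_X(t)`, `E ≤ C` of odd order normalized by `K`, `X` with the B-property:
then `[K, E] ≤ O(X)`.  (U5 inside `C`, U3, and the three subgroups step U6.)
-/

set_option autoImplicit false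

namespace Cfsg.Agent.Lib.Helper3.TCL

open Cfsg

theorem U10 {X : Type*} [Group X] [Finite X] (t : X) (ht : orderOf t = 2)
    (hB : Cfsg.HasBProperty X) (K E : Subgroup X)
    (hK : Cfsg.IsPComponentOf 2 K (Subgroup.centralizer ({t} : Set X)))
    (hEC : E ≤ Subgroup.centralizer ({t} : Set X)) (hE : Odd (Nat.card ↥E))
    (hKE : K ≤ Subgroup.normalizer (E : Set X)) : ⁅K, E⁆ ≤ Cfsg.oddCore X := by
  have hp2 : Fact (Nat.Prime 2) := ⟨Nat.prime_two⟩
  have hKC : K ≤ Subgroup.centralizer ({t} : Set X) := hK.1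
  -- U5 inside `C`
  have hE' : Odd (Nat.card ↥(E.subgroupOf (Subgroup.centralizer ({t} : Set X)))) := by
    rw [Nat.card_congr (Subgroup.subgroupOfEquivOfLe hEC).toEquiv]; exact hE
  have hKE' : K.subgroupOf (Subgroup.centralizer ({t} : Set X)) ≤
      Subgroup.normalizer
        ((E.subgroupOf (Subgroup.centralizer ({t} : Set X)) :
          Subgroup ↥(Subgroup.centralizer ({t} : Set X))) :
          Set ↥(Subgroup.centralizer ({t} : Set X))) := by
    intro k hk
    have hk' : (k : X) ∈ Subgroup.normalizer (E : Set X) := hKE (Subgroup.mem_subgroupOf.1 hk)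
    rw [Subgroup.mem_normalizer_iff] at hk' ⊢
    intro h
    rw [Subgroup.mem_subgroupOf, Subgroup.mem_subgroupOf]
    simpa using hk' (h : X)
  have h5 := Cfsg.Agent.Lib.Helper7.TCL.U5 (K.subgroupOf (Subgroup.centralizer ({t} : Set X)))
    (E.subgroupOf (Subgroup.centralizer ({t} : Set X))) hK.2 hE' hKE'
  have h1 : ⁅K, E⁆ ≤ (Cfsg.oddCore ↥(Subgroup.centralizer ({t} : Set X))).map
      (Subgroup.centralizer ({t} : Set X)).subtype := by
    have := Subgroup.map_mono (f := (Subgroup.centralizer ({t} : Set X)).subtype) h5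
    rw [Subgroup.map_commutator, Subgroup.map_subgroupOf_eq_of_le hKC,
      Subgroup.map_subgroupOf_eq_of_le hEC] at this
    exact this
  -- U3
  have h2 := Cfsg.Agent.Lib.Helper8.TCL.U3 t ht hB K hK
  -- `K` is perfect
  have hperf : ⁅K, K⁆ = K := by
    have hpl := ((Cfsg.Agent.Lib.Helper7.BB.isPComponentOf_iff (p := 2) K _).1 hK).2.2
    have hP : Group.IsPerfect ↥K := hpl.isPerfect
    have h0 : ⁅(⊤ : Subgroup ↥K), (⊤ : Subgroup ↥K)⁆ = ⊤ := by
      rw [← commutator_def]; exact hP.commutator_eq_top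
    have := congrArg (Subgroup.map K.subtype) h0
    rw [Subgroup.map_commutator] at this
    have htop : Subgroup.map K.subtype ⊤ = K := by
      rw [← MonoidHom.range_eq_map, Subgroup.range_subtype]
    rw [htop] at this
    exact this
  have hOn : (Cfsg.oddCore X).Normal := Cfsg.Agent.Lib.Helper1.pPrimeCore_normal 2
  have hnorm : Subgroup.normalizer ((Cfsg.oddCore X : Subgroup X) : Set X) = ⊤ :=
    Subgroup.normalizer_eq_top _
  exact Cfsg.Agent.Lib.Helper9.TCL.U6 K E _ (Cfsg.oddCore X) hperf h1 h2 (by rw [hnorm]; exact le_top)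
    (by rw [hnorm]; exact le_top)

end Cfsg.Agent.Lib.Helper3.TCL
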