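import Mathlib
import Cfsg.Agent.Lib.Helper3.TDMDefs
import Cfsg.Agent.Lib.Helper3.TDMQL
import Cfsg.Agent.Lib.Helper1.TDMH3
import Cfsg.Agent.Lib.Helper7.TDMAVG
import Cfsg.Agent.Lib.Helper6.TDMC1
import Cfsg.Agent.Lib.Helper6.TDMP1
import Cfsg.Agent.Lib.Helper8.TDMP2

set_option autoImplicit false

/-!
Farm TDM (S2342), unit ASM: the abstract bound `q^5 - q^3 + q - 1 ≤ dim V`.
-/

namespace Cfsg.Agent.Lib.Helper3.TDM


/-- the arithmetic of the abstract bound -/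
theorem tdm_arith (q k a n : ℕ) (hq : 2 ≤ q) (fZ a00 : ℂ)
    (h1 : (k : ℂ) = fZ + ((q : ℂ) - 1) * (q : ℂ) ^ 4 * a)
    (h2 : fZ - a00 = ((q : ℂ) - 1) * (q : ℂ) ^ 3 * a) (ha : a ≠ 0) (hn : a00 = n)
    (hqn : q - 1 ≤ n) : q ^ 5 + q ≤ k + q ^ 3 + 1 := by
  obtain ⟨m, rfl⟩ : ∃ m, q = m + 1 := ⟨q - 1, by omega⟩
  have h3 : (k : ℂ) = ((n + m * (m + 1) ^ 3 * a + m * (m + 1) ^ 4 * a : ℕ) : ℂ) := by
    have : fZ = a00 + ((m + 1 : ℕ) - 1 : ℂ) * ((m + 1 : ℕ) : ℂ) ^ 3 * a := by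
      rw [← h2]; ring
    rw [h1, this, hn]
    push_cast
    ring
  have h4 : k = n + m * (m + 1) ^ 3 * a + m * (m + 1) ^ 4 * a := by exact_mod_cast h3
  have h5 : m ≤ n := by simpa using hqn
  have ha1 : 1 ≤ a := Nat.one_le_iff_ne_zero.2 ha
  have h6 : m * (m + 1) ^ 3 * 1 ≤ m * (m + 1) ^ 3 * a := Nat.mul_le_mul_left _ ha1
  have h7 : m * (m + 1) ^ 4 * 1 ≤ m * (m + 1) ^ 4 * a := Nat.mul_le_mul_left _ ha1
  have h8 : (m + 1) ^ 5 + (m + 1) = m + m * (m + 1) ^ 3 * 1 + m * (m + 1) ^ 4 * 1 + (m + 1) ^ 3 + 1 := by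
    ring
  omega

variable {K : Type*} [Field K] [Fintype K] [DecidableEq K] {Fr : Frob3 K} [Fintype ↥(Fx Fr.φ)]
  {G : Type*} [Group G] (D : Data Fr G) (hD : Rel D) (hG : Fr.Good)

include hD hG in
theorem tdm_bound {V : Type*} [AddCommGroup V] [Module ℂ V] [FiniteDimensional ℂ V]
    (ρ : Representation ℂ G V) (hz : ρ (D.z 1) ≠ 1) :
    Fintype.card ↥(Fx Fr.φ) ^ 5 + Fintype.card ↥(Fx Fr.φ) ≤
      Module.finrank ℂ V + Fintype.card ↥(Fx Fr.φ) ^ 3 + 1 := by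
  obtain ⟨ψ, hψ1⟩ := (AddChar.exists_apply_ne_zero (α := ↥(Fx Fr.φ)) (a := 1)).mpr one_ne_zero
  have hψ : ψ ≠ 1 := by
    intro h
    rw [h] at hψ1
    exact hψ1 rfl
  have hq : 2 ≤ Fintype.card ↥(Fx Fr.φ) := Fintype.one_lt_card
  obtain ⟨a, h1, h2⟩ := Cfsg.Agent.Lib.Helper1.TDM.heis D hD hG ψ hψ ρ
  have ha : a ≠ 0 := by
    rintro rfl
    apply hz
    apply Cfsg.Agent.Lib.Helper7.TDM.rho_eq_one_of_avg ρ D.z (z_add D hD)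
    rw [h1]
    simp [fZ]
  have hne : fZ D ρ.character - a00 D ρ.character ≠ 0 := by
    rw [h2]
    have h3 : ((Fintype.card ↥(Fx Fr.φ) : ℂ) - 1) ≠ 0 := by
      have : (2 : ℝ) ≤ (Fintype.card ↥(Fx Fr.φ) : ℝ) := by exact_mod_cast hq
      intro h
      have h4 : (Fintype.card ↥(Fx Fr.φ) : ℂ) = 1 := by linear_combination h
      have h5 : (Fintype.card ↥(Fx Fr.φ) : ℕ) = 1 := by exact_mod_cast h4
      omega
    have h4 : (Fintype.card ↥(Fx Fr.φ) : ℂ) ≠ 0 := by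
      have : Fintype.card ↥(Fx Fr.φ) ≠ 0 := by omega
      exact_mod_cast this
    have h5 : (a : ℂ) ≠ 0 := by exact_mod_cast ha
    exact mul_ne_zero (mul_ne_zero h3 (pow_ne_zero _ h4)) h5
  have hχ : ∀ x y, ρ.character (x * y * x⁻¹) = ρ.character y := fun x y => ρ.char_conj y x
  obtain ⟨n, hn, hqn⟩ := Cfsg.Agent.Lib.Helper8.TDM.a00_ge_of D hD hG ψ ρ.character hχ
    (fun a b c d => Cfsg.Agent.Lib.Helper6.TDM.cM_nat D hD ψ ρ a b c d)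
    (Cfsg.Agent.Lib.Helper6.TDM.fZ_eq_sum_cM D hD hG ψ hψ ρ.character)
    (Cfsg.Agent.Lib.Helper6.TDM.a00_eq_sum_cM D hD hG ψ hψ ρ.character)
    (fun t => Cfsg.Agent.Lib.Helper6.TDM.b00_eq_sum_cM D hD hG ψ hψ ρ.character hχ t)
    (Cfsg.Agent.Lib.Helper6.TDM.a00_eq_b00 D hD ρ.character hχ) hne
  exact tdm_arith _ _ a n hq _ _ h1 h2 ha hn hqn

end Cfsg.Agent.Lib.Helper3.TDM
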