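import Mathlib
import Cfsg.Prelude.Def_LieTwisted
import Cfsg.Agent.Lib.Helper5.Tw3D4H
import Cfsg.Agent.Lib.Helper3.TDMDefs

set_option autoImplicit false

/-!
Farm TDM (statement S2342): the concrete elements of `³D₄(q) ≤ GL(chevD4.Idx, K)` (raw, in `GL`).
Roots of `D₄` (indices of `Def_ChevD4`, coefficients on `p₁ p₂ p₃ p₄`, `p₂` central):
12 = p₄, 13 = p₃, 14 = p₂, 15 = p₂+p₄, 16 = p₂+p₃, 17 = p₂+p₃+p₄, 18 = p₁, 19 = p₁+p₂,
20 = p₁+p₂+p₄, 21 = p₁+p₂+p₃, 22 = p₁+p₂+p₃+p₄, 23 = p₁+2p₂+p₃+p₄.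
`σ` (graph datum `gD4a`): 18 → 13 → 12 → 18 (signs +,+,+), 19 → 16 → 15 → 19 (signs −,+,−),
21 → 17 → 20 → 21 (signs −,−,+), 14, 22, 23 fixed (sign +).
-/

namespace Cfsg.Agent.Lib.Helper3.TDM

open Cfsg Cfsg.Lie Cfsg.Agent.Lib.Helper5.ChevStruct Cfsg.Agent.Lib.Helper5.ChevSym
  Cfsg.Agent.Lib.Helper5.Tw3D4

variable {K : Type*} [Field K] (f : K →+* K)

/-- `x_{2α+3β}(r)` -/
noncomputable def zG (r : K) : GL chevD4.Idx K := xGL chevD4 hD4 23 r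
/-- `x_α(s)` -/
noncomputable def xaG (s : K) : GL chevD4.Idx K := xGL chevD4 hD4 14 s
/-- `x_{α+3β}(w)` -/
noncomputable def xa3bG (w : K) : GL chevD4.Idx K := xGL chevD4 hD4 22 w
/-- `x_{α+β}(u)` -/
noncomputable def xabG (u : K) : GL chevD4.Idx K :=
  xGL chevD4 hD4 19 u * xGL chevD4 hD4 16 (-f u) * xGL chevD4 hD4 15 (-f (f u))
/-- `x_{α+2β}(v)` -/
noncomputable def xa2bG (v : K) : GL chevD4.Idx K :=
  xGL chevD4 hD4 21 v * xGL chevD4 hD4 17 (-f v) * xGL chevD4 hD4 20 (f (f v))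
/-- `x_β(t)` -/
noncomputable def xbG (t : K) : GL chevD4.Idx K :=
  xGL chevD4 hD4 18 t * xGL chevD4 hD4 13 (f t) * xGL chevD4 hD4 12 (f (f t))
/-- `n_α` -/
noncomputable def nAG : GL chevD4.Idx K := wGL chevD4 hD4 [1]
/-- `n_β` -/
noncomputable def nBG : GL chevD4.Idx K := wGL chevD4 hD4 [0, 2, 3]
/-- `h_α(a)` -/
noncomputable def hsG (a : Kˣ) : GL chevD4.Idx K := torHom chevD4 K ![1, a, 1, 1]
/-- the scalars: `h_{p₁}(a) h_{p₂}(a²) h_{p₃}(a) h_{p₄}(a)` -/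
noncomputable def huG (a : Kˣ) : GL chevD4.Idx K := torHom chevD4 K ![a, a ^ 2, a, a]

/-- the general element of `Q` -/
noncomputable def PhiG (r s u v w : K) : GL chevD4.Idx K :=
  zG r * xaG s * xabG f u * xa2bG f v * xa3bG w

end Cfsg.Agent.Lib.Helper3.TDM
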