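import Mathlib
import Cfsg.Agent.Lib.Helper3.TDMConc
import Cfsg.Agent.Lib.Helper5.Tw3D4Card

set_option autoImplicit false

namespace Cfsg.Agent.Lib.Helper3.TDMConcStubs

open Cfsg Cfsg.Lie Cfsg.Agent.Lib.Helper5.ChevStruct Cfsg.Agent.Lib.Helper5.ChevSym
  Cfsg.Agent.Lib.Helper5.Tw3D4 Cfsg.Agent.Lib.Helper3.TDM

variable {K : Type*} [Field K] (f : K →+* K)

/-! ## unit GQ (the multiplication of `Q`, raw; all parameters in `K`) -/

theorem PhiG_mul (r s u v w R S U V W : K) :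
    PhiG f r s u v w * PhiG f R S U V W =
      PhiG f (r + R - S * w - (U * f v + f U * f (f v) + f (f U) * v)) (s + S) (u + U) (v + V)
        (w + W) := by sorry

/-! ## unit GP (pure tensors, raw) -/

theorem xbG_conj_xaG (hf3 : ∀ x, f (f (f x)) = x) (t s : K) (hs : f s = s) :
    xbG f t * xaG s * (xbG f t)⁻¹ =
      PhiG f (-(s * s * (t * f t * f (f t)))) s (-(s * t)) (-(s * (t * f t)))
        (-(s * (t * f t * f (f t)))) := by sorry

theorem xbG_comm_zG (t r : K) : xbG f t * zG r = zG r * xbG f t := by sorry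

/-! ## unit GW (Weyl elements, raw) -/

theorem nAG_conj_zG (r : K) : (nAG : GL chevD4.Idx K) * zG r * nAG⁻¹ = xa3bG (-r) := by sorry
theorem nBG_conj_zG (r : K) : (nBG : GL chevD4.Idx K) * zG r * nBG⁻¹ = zG r := by sorry
theorem nBG_conj_xaG (s : K) : (nBG : GL chevD4.Idx K) * xaG s * nBG⁻¹ = xa3bG (-s) := by sorry

/-! ## unit GT (torus elements, raw) -/

theorem hsG_conj_zG (a : Kˣ) (r : K) : hsG a * zG r * (hsG a)⁻¹ = zG ((a : K) * r) := by sorry
theorem hsG_conj_xa3bG (a : Kˣ) (w : K) :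
    hsG a * xa3bG w * (hsG a)⁻¹ = xa3bG (((a⁻¹ : Kˣ) : K) * w) := by sorry
theorem hsG_conj_xa2bG (a : Kˣ) (v : K) : hsG a * xa2bG f v * (hsG a)⁻¹ = xa2bG f v := by sorry
theorem huG_conj_PhiG (a : Kˣ) (ha : f (a : K) = a) (r s u v w : K) :
    huG a * PhiG f r s u v w * (huG a)⁻¹ =
      PhiG f ((a : K) * a * r) (a * s) (a * u) (a * v) (a * w) := by sorry

/-! ## unit GM (membership in `twistedD4 K q`) -/

section mem

variable {q : ℕ} (hf : ∀ x, f x = x ^ q) (hf3 : ∀ x, f (f (f x)) = x)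

include hf in
theorem zG_mem (r : K) (hr : f r = r) : zG r ∈ twistedD4 K q := by sorry
include hf in
theorem xaG_mem (r : K) (hr : f r = r) : xaG r ∈ twistedD4 K q := by sorry
include hf in
theorem xa3bG_mem (r : K) (hr : f r = r) : xa3bG r ∈ twistedD4 K q := by sorry
include hf hf3 in
theorem xabG_mem (u : K) : xabG f u ∈ twistedD4 K q := by sorry
include hf hf3 in
theorem xa2bG_mem (u : K) : xa2bG f u ∈ twistedD4 K q := by sorry
include hf hf3 in
theorem xbG_mem (u : K) : xbG f u ∈ twistedD4 K q := by sorry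
include hf in
theorem nAG_mem : (nAG : GL chevD4.Idx K) ∈ twistedD4 K q := by sorry
include hf in
theorem nBG_mem : (nBG : GL chevD4.Idx K) ∈ twistedD4 K q := by sorry
include hf hf3 in
theorem hsG_mem (a : Kˣ) (ha : f (a : K) = a) : hsG a ∈ twistedD4 K q := by sorry
include hf hf3 in
theorem huG_mem (a : Kˣ) (ha : f (a : K) = a) : huG a ∈ twistedD4 K q := by sorry

theorem zG_one_ne : (zG (1 : K) : GL chevD4.Idx K) ≠ 1 := by sorry

end mem

end Cfsg.Agent.Lib.Helper3.TDMConcStubs
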