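import Mathlib
import Cfsg.Prelude.Def_LieTwisted
import Cfsg.Agent.Lib.Helper3.TDMConc
import Cfsg.Agent.Lib.Helper3.TDMQL
import Cfsg.Agent.Lib.Helper3.TDMASM
import Cfsg.Agent.Lib.Helper5.TDMGQ
import Cfsg.Agent.Lib.Helper5.TDMGP
import Cfsg.Agent.Lib.Helper5.TDMGW
import Cfsg.Agent.Lib.Helper5.TDMGT
import Cfsg.Agent.Lib.Helper5.TDMGM
import Cfsg.Agent.Lib.Helper6.TDMNT
import Cfsg.Agent.Lib.Helper5.Tw3D4Simple
import Cfsg.Agent.Lib.Helper5.Tw3D4Card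
import Cfsg.Agent.Lib.Helper1.MNDB2
import Cfsg.Agent.Lib.Helper6.DegreeDvd
import Cfsg.Agent.S1067

set_option autoImplicit false

/-!
Farm TDM (S2342): the concrete `Data` for `³D₄(q)`, its relations (helper5's units GQ GP GW GT GM),
and the final bound `q (q⁴ - q² + 1) ≤ k`.
-/

namespace Cfsg.Agent.Lib.Helper3.TDM

open Cfsg Cfsg.Lie Cfsg.Agent.Lib.Helper5.ChevStruct Cfsg.Agent.Lib.Helper5.ChevSym
  Cfsg.Agent.Lib.Helper5.Tw3D4
open Cfsg.Agent.Lib.Helper5.TDM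

section conc_section

variable {K : Type*} [Field K] {q : ℕ} (f : K →+* K) (hf : ∀ x, f x = x ^ q)
  (hf3 : ∀ x, f (f (f x)) = x)

/-- the Frobenius of order 3 -/
def frob : Frob3 K := ⟨f, hf3⟩

theorem frob_fix (r : ↥(Fx (frob f hf3).φ)) : f (r : K) = r := r.2

theorem frob_fix_unit (a : (↥(Fx (frob f hf3).φ))ˣ) : f ((a : ↥(Fx (frob f hf3).φ)) : K) = a :=
  (a : ↥(Fx (frob f hf3).φ)).2

/-- the unit of `K` under a unit of the fixed field -/
def toK (a : (↥(Fx (frob f hf3).φ))ˣ) : Kˣ :=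
  Units.map ((Fx (frob f hf3).φ).subtype : ↥(Fx (frob f hf3).φ) →* K) a

@[simp] theorem toK_coe (a : (↥(Fx (frob f hf3).φ))ˣ) :
    ((toK f hf3 a : Kˣ) : K) = ((a : ↥(Fx (frob f hf3).φ)) : K) := rfl

include hf in
/-- the elements of `³D₄(q)` -/
noncomputable def conc : Data (frob f hf3) ↥(twistedD4 K q) where
  z r := ⟨zG (r : K), zG_mem f hf r (frob_fix f hf3 r)⟩
  xa r := ⟨xaG (r : K), xaG_mem f hf r (frob_fix f hf3 r)⟩
  xab u := ⟨xabG f u, xabG_mem f hf hf3 u⟩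
  xa2b u := ⟨xa2bG f u, xa2bG_mem f hf hf3 u⟩
  xa3b r := ⟨xa3bG (r : K), xa3bG_mem f hf r (frob_fix f hf3 r)⟩
  xb u := ⟨xbG f u, xbG_mem f hf hf3 u⟩
  nA := ⟨nAG, nAG_mem f hf⟩
  nB := ⟨nBG, nBG_mem f hf⟩
  hs a := ⟨hsG (toK f hf3 a), hsG_mem f hf hf3 _ (frob_fix_unit f hf3 a)⟩
  hu a := ⟨huG (toK f hf3 a), huG_mem f hf hf3 _ (frob_fix_unit f hf3 a)⟩

theorem coe_Phi (r s : ↥(Fx (frob f hf3).φ)) (u v : K) (w : ↥(Fx (frob f hf3).φ)) :
    ((Phi (conc f hf hf3) r s u v w : ↥(twistedD4 K q)) : GL chevD4.Idx K) =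
      PhiG f (r : K) (s : K) u v (w : K) := rfl

theorem xGL_zero (r : ℕ) : xGL chevD4 hD4 r (0 : K) = 1 := by
  apply Units.ext
  rw [xGL_val, x_at_zero]
  rfl

include hf in
theorem conc_rel : Rel (conc f hf hf3) where
  z_zero := Subtype.ext (by
    show zG ((0 : ↥(Fx (frob f hf3).φ)) : K) = 1
    simp [zG, xGL_zero])
  xa_zero := Subtype.ext (by
    show xaG ((0 : ↥(Fx (frob f hf3).φ)) : K) = 1
    simp [xaG, xGL_zero])
  xab_zero := Subtype.ext (by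
    show xabG f 0 = 1
    simp [xabG, xGL_zero])
  xa2b_zero := Subtype.ext (by
    show xa2bG f 0 = 1
    simp [xa2bG, xGL_zero])
  xa3b_zero := Subtype.ext (by
    show xa3bG ((0 : ↥(Fx (frob f hf3).φ)) : K) = 1
    simp [xa3bG, xGL_zero])
  qlaw := by
    intro r s u v w R S U V W
    apply Subtype.ext
    rw [Subgroup.coe_mul, coe_Phi, coe_Phi, coe_Phi, PhiG_mul]
    congr 1
    show _ = (r : K) + R - S * w - (U * f v + f (U * f v) + f (f (U * f v)))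
    rw [map_mul, map_mul, hf3 v]
  pure := by
    intro t s
    apply Subtype.ext
    rw [coe_Phi]
    show xbG f t * xaG (s : K) * (xbG f t)⁻¹ = _
    rw [xbG_conj_xaG f hf3 t s (frob_fix f hf3 s)]
    rfl
  xb_z := by
    intro t r
    apply Subtype.ext
    exact xbG_comm_zG f t r
  nA_z := by
    intro r
    apply Subtype.ext
    show nAG * zG (r : K) * nAG⁻¹ = xa3bG ((-r : ↥(Fx (frob f hf3).φ)) : K)
    rw [nAG_conj_zG]
    rfl
  nB_z := by
    intro r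
    apply Subtype.ext
    exact nBG_conj_zG (r : K)
  nB_xa := by
    intro s
    apply Subtype.ext
    show nBG * xaG (s : K) * nBG⁻¹ = xa3bG ((-s : ↥(Fx (frob f hf3).φ)) : K)
    rw [nBG_conj_xaG]
    rfl
  hs_z := by
    intro a r
    apply Subtype.ext
    show hsG (toK f hf3 a) * zG (r : K) * (hsG (toK f hf3 a))⁻¹ = _
    rw [hsG_conj_zG]
    rfl
  hs_xa3b := by
    intro a w
    apply Subtype.ext
    show hsG (toK f hf3 a) * xa3bG (w : K) * (hsG (toK f hf3 a))⁻¹ = _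
    rw [hsG_conj_xa3bG]
    rfl
  hs_xa2b := by
    intro a v
    apply Subtype.ext
    exact hsG_conj_xa2bG f (toK f hf3 a) v
  hu_Phi := by
    intro a r s u v w
    apply Subtype.ext
    show huG (toK f hf3 a) * PhiG f (r : K) (s : K) u v (w : K) * (huG (toK f hf3 a))⁻¹ = _
    rw [huG_conj_PhiG f (toK f hf3 a) (frob_fix_unit f hf3 a)]
    rfl


end conc_section

/-- the arithmetic at the end -/
theorem final_arith (q k N : ℕ) (hq : 2 ≤ q) (h1 : q ^ 5 + q ≤ k + q ^ 3 + 1) (hk : k ∣ N)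
    (hN : ¬ (q - 1) * (q ^ 4 + q ^ 3 + 1) ∣ N) : q * (q ^ 4 - q ^ 2 + 1) ≤ k := by
  obtain ⟨m, rfl⟩ : ∃ m, q = m + 2 := ⟨q - 2, by omega⟩
  have h2 : (m + 2) ^ 4 - (m + 2) ^ 2 + 1 = (m + 2) ^ 4 + 1 - (m + 2) ^ 2 := by
    have : (m + 2) ^ 2 ≤ (m + 2) ^ 4 := Nat.pow_le_pow_right (by omega) (by norm_num)
    omega
  have h3 : (m + 2) * ((m + 2) ^ 4 - (m + 2) ^ 2 + 1) + (m + 2) ^ 3 = (m + 2) ^ 5 + (m + 2) := by
    rw [h2]
    have : (m + 2) ^ 2 ≤ (m + 2) ^ 4 + 1 := by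
      have : (m + 2) ^ 2 ≤ (m + 2) ^ 4 := Nat.pow_le_pow_right (by omega) (by norm_num)
      omega
    zify [this]
    ring
  by_contra hlt
  push Not at hlt
  have h4 : k + (m + 2) ^ 3 + 1 = (m + 2) ^ 5 + (m + 2) := by omega
  apply hN
  have h5 : (m + 2 - 1) * ((m + 2) ^ 4 + (m + 2) ^ 3 + 1) = k := by
    have h6 : m + 2 - 1 = m + 1 := by omega
    rw [h6]
    have : ((m + 1) * ((m + 2) ^ 4 + (m + 2) ^ 3 + 1) : ℤ) + (m + 2) ^ 3 + 1
        = (m + 2) ^ 5 + (m + 2) := by ring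
    zify
    zify at h4
    linarith
  rw [h5]
  exact hk

variable {K : Type*} [Field K] [Fintype K]

theorem s2342 (q : ℕ) (hq : IsPrimePow q) (hK : Fintype.card K = q ^ 3) (k : ℕ)
    (ρ : Representation ℂ (Cfsg.Lie.twistedD4 K q) (Fin k → ℂ)) (hirr : ρ.IsIrreducible)
    (hk : 2 ≤ k) : q * (q ^ 4 - q ^ 2 + 1) ≤ k := by
  classical
  obtain ⟨f, hf, hfm⟩ := Cfsg.Agent.Lib.Helper5.FrobFix.exists_frob hq (by norm_num : 3 ≠ 0) hK
  have hf3 : ∀ x, f (f (f x)) = x := fun x => hfm x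
  have hq2 : 2 ≤ q := hq.two_le
  haveI : Fintype ↥(Fx (frob f hf3).φ) := Fintype.ofFinite _
  have hcard : Fintype.card ↥(Fx (frob f hf3).φ) = q := by
    have h1 := Cfsg.Agent.Lib.Helper5.FrobFix.card_fixed (K := K) (q := q) (m := 3) hq2 hK
    rw [← h1, ← Nat.card_eq_fintype_card]
    apply Nat.card_congr
    refine Equiv.subtypeEquivRight (fun x => ?_)
    show f x = x ↔ x ^ q = x
    rw [hf]
  have hgood : (frob f hf3).Good := ⟨by rw [hcard]; exact hK, fun x => by rw [hcard]; exact hf x⟩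
  have hsimple := (twisted_simple4 hq hK).1
  -- the centre of `Q` acts nontrivially
  have hz : ρ ((conc f hf hf3).z 1) ≠ 1 := by
    intro hcon
    have hker : (ρ : ↥(twistedD4 K q) →* ((Fin k → ℂ) →ₗ[ℂ] (Fin k → ℂ))).ker = ⊤ := by
      rcases hsimple.eq_bot_or_eq_top_of_normal
        (ρ : ↥(twistedD4 K q) →* ((Fin k → ℂ) →ₗ[ℂ] (Fin k → ℂ))).ker inferInstance with h | h
      · exfalso
        have h1 : (conc f hf hf3).z 1 ∈
            (ρ : ↥(twistedD4 K q) →* ((Fin k → ℂ) →ₗ[ℂ] (Fin k → ℂ))).ker :=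
          MonoidHom.mem_ker.2 hcon
        rw [h, Subgroup.mem_bot] at h1
        have h2 := congrArg Subtype.val h1
        exact zG_one_ne (K := K) h2
      · exact h
    have htriv : ∀ g, ρ g = LinearMap.id := by
      intro g
      have : g ∈ (ρ : ↥(twistedD4 K q) →* ((Fin k → ℂ) →ₗ[ℂ] (Fin k → ℂ))).ker := by
        rw [hker]; trivial
      exact MonoidHom.mem_ker.1 this
    have := Cfsg.Agent.Lib.Helper1.MND.finrank_eq_one_of_trivial ρ hirr htriv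
    rw [Module.finrank_fin_fun] at this
    omega
  have hb := tdm_bound (conc f hf hf3) (conc_rel f hf hf3) hgood ρ hz
  rw [hcard, Module.finrank_fin_fun] at hb
  haveI := hirr
  haveI : Fintype ↥(twistedD4 K q) := Fintype.ofFinite _
  have hdvd := Cfsg.Agent.Lib.Helper6.finrank_dvd_card ρ
  rw [Module.finrank_fin_fun, Cfsg.Agent.S1067.result hq hK] at hdvd
  exact final_arith q k _ hq2 hb hdvd (Cfsg.Agent.Lib.Helper6.TDM.survivor_mul_not_dvd q hq2)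

end Cfsg.Agent.Lib.Helper3.TDM
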