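import Mathlib
import Cfsg.Agent.Lib.Helper3.TDMDefs

set_option autoImplicit false

namespace Cfsg.Agent.Lib.Helper3.TDMStubs

open Cfsg.Agent.Lib.Helper3.TDM

/-! ## unit MULT (general, Mathlib only) -/

theorem mult_nat {G : Type*} [Group G] {V : Type*} [AddCommGroup V] [Module ℂ V]
    [FiniteDimensional ℂ V] (ρ : Representation ℂ G V)
    {R M : Type*} [AddCommGroup R] [Fintype R] [AddCommGroup M] [Fintype M]
    (P : R → M → G) (δ : M → M → R)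
    (hP : ∀ r x r' x', P r x * P r' x' = P (r + r' + δ x x') (x + x'))
    (lam : R → ℂ) (mu : M → ℂ) (hlam : ∀ r r', lam (r + r') = lam r * lam r')
    (hmu : ∀ x x', mu (x + x') = mu x * mu x') (hlam0 : lam 0 = 1) (hmu0 : mu 0 = 1)
    (hδ : ∀ x x', lam (δ x x') = 1) :
    ∃ n : ℕ, ((Fintype.card R : ℂ) * Fintype.card M)⁻¹ *
      ∑ r : R, ∑ x : M, lam (-r) * mu (-x) * ρ.character (P r x) = n := by
  sorry

/-- unit NONTRIV part 1 (general): an averaged character value equal to the degree -/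
theorem rho_eq_one_of_avg {G : Type*} [Group G] {V : Type*} [AddCommGroup V] [Module ℂ V]
    [FiniteDimensional ℂ V] (ρ : Representation ℂ G V) {R : Type*} [AddCommGroup R] [Fintype R]
    (z : R → G) (hz : ∀ r r', z (r + r') = z r * z r')
    (h : ((Fintype.card R : ℂ))⁻¹ * ∑ r : R, ρ.character (z r) = Module.finrank ℂ V) :
    ∀ r, ρ (z r) = 1 := by
  sorry

section field

variable {K : Type*} [Field K] [Fintype K] [DecidableEq K] (Fr : Frob3 K) [Fintype ↥(Fx Fr.φ)]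

/-! ## unit ORTH (field side) -/

theorem tr3_add (x y : K) : Fr.tr3 (x + y) = Fr.tr3 x + Fr.tr3 y := by sorry
theorem tr3_neg (x : K) : Fr.tr3 (-x) = -Fr.tr3 x := by sorry
theorem tr3_zero : Fr.tr3 0 = 0 := by sorry
theorem tr3_smul (r : ↥(Fx Fr.φ)) (x : K) : Fr.tr3 ((r : K) * x) = r * Fr.tr3 x := by sorry
theorem tr3_frob (x : K) : Fr.tr3 (Fr.φ x) = Fr.tr3 x := by sorry
theorem nm3_mul (x y : K) : Fr.nm3 (x * y) = Fr.nm3 x * Fr.nm3 y := by sorry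
theorem nm3_eq_zero (x : K) : Fr.nm3 x = 0 ↔ x = 0 := by sorry
theorem tr3_surjective (hG : Fr.Good) : Function.Surjective Fr.tr3 := by sorry

theorem sum_psi (ψ : AddChar ↥(Fx Fr.φ) ℂ) (hψ : ψ ≠ 1) (a : ↥(Fx Fr.φ)) :
    ∑ r : ↥(Fx Fr.φ), ψ (a * r) = if a = 0 then (Fintype.card ↥(Fx Fr.φ) : ℂ) else 0 := by sorry

theorem sum_psi_tr3 (hG : Fr.Good) (ψ : AddChar ↥(Fx Fr.φ) ℂ) (hψ : ψ ≠ 1) (v : K) :
    ∑ n : K, ψ (Fr.tr3 (n * v)) = if v = 0 then (Fintype.card K : ℂ) else 0 := by sorry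

/-! ## unit CW (field side, Chevalley–Warning) -/

theorem exists_pure_zero (hG : Fr.Good) (a d : ↥(Fx Fr.φ)) (b c : K) (hd : d ≠ 0) :
    ∃ t : K, a - Fr.tr3 (b * t) - Fr.tr3 (c * (t * Fr.φ t)) - d * Fr.nm3 t = 0 := by
  sorry

end field

section main

variable {K : Type*} [Field K] [Fintype K] [DecidableEq K] {Fr : Frob3 K} [Fintype ↥(Fx Fr.φ)]
  {G : Type*} [Group G] (D : Data Fr G) (hD : Rel D) (hG : Fr.Good)
  (ψ : AddChar ↥(Fx Fr.φ) ℂ) (hψ : ψ ≠ 1)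

/-! ## unit QL (consequences of `qlaw`) -/

include hD in
theorem Phi_zero : Phi D 0 0 0 0 0 = 1 := by sorry
include hD in
theorem Phi_z (r : ↥(Fx Fr.φ)) : Phi D r 0 0 0 0 = D.z r := by sorry
include hD in
theorem Phi_xa3b (w : ↥(Fx Fr.φ)) : Phi D 0 0 0 0 w = D.xa3b w := by sorry
include hD in
theorem z_mul_Phi (r R S : ↥(Fx Fr.φ)) (U V : K) (W : ↥(Fx Fr.φ)) :
    D.z r * Phi D R S U V W = Phi D (r + R) S U V W := by sorry
include hD in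
theorem Phi_abel (r : ↥(Fx Fr.φ)) (v : K) (w R : ↥(Fx Fr.φ)) (V : K) (W : ↥(Fx Fr.φ)) :
    Phi D r 0 0 v w * Phi D R 0 0 V W = Phi D (r + R) 0 0 (v + V) (w + W) := by sorry
include hD in
theorem xa_conj (S r : ↥(Fx Fr.φ)) (v : K) (w : ↥(Fx Fr.φ)) :
    D.xa S * Phi D r 0 0 v w * (D.xa S)⁻¹ = Phi D (r + S * w) 0 0 v w := by sorry
include hD in
theorem xab_conj (U : K) (r : ↥(Fx Fr.φ)) (v : K) (w : ↥(Fx Fr.φ)) :
    D.xab U * Phi D r 0 0 v w * (D.xab U)⁻¹ = Phi D (r + Fr.tr3 (U * Fr.φ v)) 0 0 v w := by sorry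
include hD in
theorem hs_conj (a : (↥(Fx Fr.φ))ˣ) (r : ↥(Fx Fr.φ)) (v : K) (w : ↥(Fx Fr.φ)) :
    D.hs a * Phi D r 0 0 v w * (D.hs a)⁻¹ = Phi D (a * r) 0 0 v (↑(a⁻¹) * w) := by sorry
include hD in
theorem xb_conj (t : K) (r s : ↥(Fx Fr.φ)) :
    D.xb t * Phi D r s 0 0 0 * (D.xb t)⁻¹ =
      Phi D (r - s * s * Fr.nm3 t) s (-((s : K) * t)) (-((s : K) * (t * Fr.φ t)))
        (-(s * Fr.nm3 t)) := by sorry
include hD in
theorem nB_conj (r s : ↥(Fx Fr.φ)) :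
    D.nB * Phi D r s 0 0 0 * D.nB⁻¹ = Phi D r 0 0 0 (-s) := by sorry

/-! ## unit H1 (Fourier sums on `Z X_{α+2β} X_{α+3β}`), `χ` any function -/

include hD hG hψ in
theorem sum_aM_all (χ : G → ℂ) :
    ∑ l : ↥(Fx Fr.φ), ∑ n : K, ∑ l' : ↥(Fx Fr.φ), aM D ψ χ l n l' = χ 1 := by sorry
include hD hG hψ in
theorem sum_aM_zero (χ : G → ℂ) :
    ∑ n : K, ∑ l' : ↥(Fx Fr.φ), aM D ψ χ 0 n l' = fZ D χ := by sorry
include hD hG hψ in
theorem sum_aM_zero_zero (χ : G → ℂ) : ∑ n : K, aM D ψ χ 0 n 0 = a00 D χ := by sorry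
include hD hG hψ in
theorem sum_aM_right (χ : G → ℂ) :
    ∑ l : ↥(Fx Fr.φ), ∑ n : K, aM D ψ χ l n 0 =
      (Fintype.card ↥(Fx Fr.φ) : ℂ)⁻¹ * ∑ w : ↥(Fx Fr.φ), χ (D.xa3b w) := by sorry

/-! ## unit H2 (invariance), `χ` a class function -/

include hD in
theorem aM_move (χ : G → ℂ) (hχ : ∀ x y, χ (x * y * x⁻¹) = χ y)
    (l : ↥(Fx Fr.φ)) (hl : l ≠ 0) (n : K) (l' : ↥(Fx Fr.φ)) :
    aM D ψ χ l n l' = aM D ψ χ l 0 0 := by sorry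
include hD in
theorem aM_torus (χ : G → ℂ) (hχ : ∀ x y, χ (x * y * x⁻¹) = χ y)
    (l : ↥(Fx Fr.φ)) (hl : l ≠ 0) : aM D ψ χ l 0 0 = aM D ψ χ 1 0 0 := by sorry
include hD in
theorem fZ_conj (χ : G → ℂ) (hχ : ∀ x y, χ (x * y * x⁻¹) = χ y) :
    (Fintype.card ↥(Fx Fr.φ) : ℂ)⁻¹ * ∑ w : ↥(Fx Fr.φ), χ (D.xa3b w) = fZ D χ := by sorry

/-! ## unit H3 (Landazuri–Seitz part) -/

include hD hG hψ in
theorem heis {V : Type*} [AddCommGroup V] [Module ℂ V] [FiniteDimensional ℂ V]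
    (ρ : Representation ℂ G V) :
    ∃ a : ℕ, (Module.finrank ℂ V : ℂ) = fZ D ρ.character +
        ((Fintype.card ↥(Fx Fr.φ) : ℂ) - 1) * (Fintype.card ↥(Fx Fr.φ) : ℂ) ^ 4 * a ∧
      fZ D ρ.character - a00 D ρ.character =
        ((Fintype.card ↥(Fx Fr.φ) : ℂ) - 1) * (Fintype.card ↥(Fx Fr.φ) : ℂ) ^ 3 * a := by sorry

/-! ## unit C1 (multiplicities of the linear characters of `Q`) -/

include hD in
theorem cM_nat {V : Type*} [AddCommGroup V] [Module ℂ V] [FiniteDimensional ℂ V]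
    (ρ : Representation ℂ G V) (a : ↥(Fx Fr.φ)) (b c : K) (d : ↥(Fx Fr.φ)) :
    ∃ n : ℕ, cM D ψ ρ.character a b c d = n := by sorry

include hG hψ in
theorem cM_inversion (χ : G → ℂ) (s : ↥(Fx Fr.φ)) (u v : K) (w : ↥(Fx Fr.φ)) :
    (Fintype.card ↥(Fx Fr.φ) : ℂ)⁻¹ * ∑ r : ↥(Fx Fr.φ), χ (Phi D r s u v w) =
      ∑ a : ↥(Fx Fr.φ), ∑ b : K, ∑ c : K, ∑ d : ↥(Fx Fr.φ),
        cM D ψ χ a b c d * (ψ (a * s) * ψ (Fr.tr3 (b * u)) * ψ (Fr.tr3 (c * v)) * ψ (d * w)) := by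
  sorry

/-! ## unit C2 (scalars) -/

include hD in
theorem cM_scalar (χ : G → ℂ) (hχ : ∀ x y, χ (x * y * x⁻¹) = χ y) (e : (↥(Fx Fr.φ))ˣ)
    (a : ↥(Fx Fr.φ)) (b c : K) (d : ↥(Fx Fr.φ)) :
    cM D ψ χ (e * a) (((e : ↥(Fx Fr.φ)) : K) * b) (((e : ↥(Fx Fr.φ)) : K) * c) (e * d) =
      cM D ψ χ a b c d := by sorry

/-! ## unit P1 (the three fixed-space dimensions in terms of `cM`) -/

include hD hG hψ in
theorem fZ_eq_sum_cM (χ : G → ℂ) :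
    fZ D χ = ∑ a : ↥(Fx Fr.φ), ∑ b : K, ∑ c : K, ∑ d : ↥(Fx Fr.φ), cM D ψ χ a b c d := by sorry
include hD hG hψ in
theorem a00_eq_sum_cM (χ : G → ℂ) :
    a00 D χ = ∑ a : ↥(Fx Fr.φ), ∑ b : K, ∑ c : K, ∑ d : ↥(Fx Fr.φ),
      if d = 0 then cM D ψ χ a b c d else 0 := by sorry
include hD hG hψ in
theorem b00_eq_sum_cM (χ : G → ℂ) (hχ : ∀ x y, χ (x * y * x⁻¹) = χ y) (t : K) :
    b00 D χ = ∑ a : ↥(Fx Fr.φ), ∑ b : K, ∑ c : K, ∑ d : ↥(Fx Fr.φ),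
      if a - Fr.tr3 (b * t) - Fr.tr3 (c * (t * Fr.φ t)) - d * Fr.nm3 t = 0
        then cM D ψ χ a b c d else 0 := by sorry
include hD in
theorem a00_eq_b00 (χ : G → ℂ) (hχ : ∀ x y, χ (x * y * x⁻¹) = χ y) : a00 D χ = b00 D χ := by sorry

/-! ## unit P2 (the new `q - 1`) -/

include hD hG hψ in
theorem a00_ge {V : Type*} [AddCommGroup V] [Module ℂ V] [FiniteDimensional ℂ V]
    (ρ : Representation ℂ G V) (h : fZ D ρ.character - a00 D ρ.character ≠ 0) :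
    ∃ n : ℕ, a00 D ρ.character = n ∧ Fintype.card ↥(Fx Fr.φ) - 1 ≤ n := by sorry

/-! ## unit ASM (the abstract bound) -/

include hD hG in
theorem tdm_bound {V : Type*} [AddCommGroup V] [Module ℂ V] [FiniteDimensional ℂ V]
    (ρ : Representation ℂ G V) (hz : ρ (D.z 1) ≠ 1) :
    Fintype.card ↥(Fx Fr.φ) ^ 5 + Fintype.card ↥(Fx Fr.φ) ≤
      Module.finrank ℂ V + Fintype.card ↥(Fx Fr.φ) ^ 3 + 1 := by sorry

end main

/-! ## unit DIV (arithmetic) -/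

theorem not_dvd_order (q : ℕ) (hq : 2 ≤ q) :
    ¬ (q - 1) * (q ^ 4 + q ^ 3 + 1) ∣ q ^ 12 * (q ^ 2 - 1) * (q ^ 6 - 1) * (q ^ 8 + q ^ 4 + 1) := by
  sorry

end Cfsg.Agent.Lib.Helper3.TDMStubs
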