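import Mathlib
import Cfsg.Agent.Lib.Helper3.TGSDefs

/-!
# Farm TGS (S3161), unit U6b3: conclusion of (S6).
-/

set_option autoImplicit false

namespace Cfsg.Agent.Lib.Helper3.TGSU6b3

open Cfsg.Agent.Lib.Helper3.TGSDefs

variable {F : Type} [Field F] [Fintype F] [CharP F 2] {mu : F}

theorem U6b3_struct (hmu : ∀ x : F, x ≠ 0 → ∃ k : ℕ, x = mu ^ k)
    {G : Type*} {B : Type*} [Group G] [Group B]
    {α ρ : MulAut G} {ι : F → G} (h : Hyp mu α ρ ι) (hcen : ∀ a g, ι a * g = g * ι a)
    {α' ρ' : MulAut B} {p : G →* B} (hq : Quo α ρ α' ρ' p)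
    {ι' : F → B} {X W : B → F} (hc : Coord2Data mu α' ρ' ι' X W)
    {S : F → F → F} (hS : SqData mu ι p X W S) (c a₃ : F)
    (hform : ∀ s t : F, S (s ^ 2) (t ^ 2) = c * s ^ 2 + c * s * t + a₃ * t ^ 2) :
    (∀ x y : G, x * y = y * x) ∨ Struct3 mu α ρ ι := by
  have _ := hmu
  have hι0 : ι 0 = 1 := by
    have := h.iota_add 0 0
    rw [add_zero] at this
    exact (mul_eq_left.mp this.symm)
  have hSxw : ∀ x w : F, S x w = c * x + c * sqrtF x * sqrtF w + a₃ * w := by
    intro x w
    have := hform (sqrtF x) (sqrtF w)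
    rw [sqrtF_sq, sqrtF_sq] at this
    exact this
  have hX1 : X 1 = 0 := by
    have := hc.X_mul 1 1
    rw [mul_one] at this
    exact left_eq_add.mp this
  have hW1 : W 1 = 0 := by
    have := hc.W_mul 1 1
    rw [mul_one] at this
    exact left_eq_add.mp this
  by_cases hc0 : c = 0
  · left
    intro x y
    have h1 := hS.comm x y
    rw [hSxw, hSxw, hSxw, hc0] at h1
    have h2 : (0 * (X (p x) + X (p y)) + 0 * sqrtF (X (p x) + X (p y)) * sqrtF (W (p x) + W (p y)) +
        a₃ * (W (p x) + W (p y)) +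
        (0 * X (p x) + 0 * sqrtF (X (p x)) * sqrtF (W (p x)) + a₃ * W (p x)) +
        (0 * X (p y) + 0 * sqrtF (X (p y)) * sqrtF (W (p y)) + a₃ * W (p y))) = 0 := by
      have e1 := add_self' (a₃ * W (p x))
      have e2 := add_self' (a₃ * W (p y))
      linear_combination e1 + e2
    rw [h2, hι0] at h1
    have h3 : x * y * x⁻¹ = y := by
      have := congrArg (· * y) h1
      simpa using this
    have h4 := congrArg (· * x) h3
    simpa using h4
  · right
    set r : F := sqrtF c with hr
    have hr2 : r ^ 2 = c := sqrtF_sq c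
    have hr0 : r ≠ 0 := by
      intro h0
      apply hc0
      rw [← hr2, h0]; ring
    refine ⟨fun g => r * sqrtF (X (p g)), fun g => r * sqrtF (W (p g)), a₃ / c, ?_, ?_, ?_, ?_, ?_⟩
    · refine ⟨h.iota_add, h.iota_inj, hcen, ?_, ?_, ?_, ?_, ?_⟩
      · intro g k
        change r * sqrtF (X (p (g * k))) = r * sqrtF (X (p g)) + r * sqrtF (X (p k))
        rw [map_mul, hc.X_mul, sqrtF_add]; ring
      · intro g k
        change r * sqrtF (W (p (g * k))) = r * sqrtF (W (p g)) + r * sqrtF (W (p k))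
        rw [map_mul, hc.W_mul, sqrtF_add]; ring
      · intro a b
        obtain ⟨b', hb1, hb2⟩ := hc.surj ((a / r) ^ 2) ((b / r) ^ 2)
        obtain ⟨g, rfl⟩ := hq.surj b'
        refine ⟨g, ?_, ?_⟩
        · change r * sqrtF (X (p g)) = a
          rw [hb1, sqrtF_of_sq]; field_simp
        · change r * sqrtF (W (p g)) = b
          rw [hb2, sqrtF_of_sq]; field_simp
      · intro g
        constructor
        · rintro ⟨h1, h2⟩
          have h1' : r * sqrtF (X (p g)) = 0 := h1
          have h2' : r * sqrtF (W (p g)) = 0 := h2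
          have hx : X (p g) = 0 :=
            sqrtF_eq_zero ((mul_eq_zero.mp h1').resolve_left hr0)
          have hw : W (p g) = 0 :=
            sqrtF_eq_zero ((mul_eq_zero.mp h2').resolve_left hr0)
          have hp : p g = 1 := hc.inj _ hx hw
          exact (h.iota_fix g).mp ((hq.ker g).mp hp)
        · rintro ⟨a, rfl⟩
          have hp : p (ι a) = 1 := (hq.ker _).mpr ((h.iota_fix _).mpr ⟨a, rfl⟩)
          constructor
          · change r * sqrtF (X (p (ι a))) = 0
            rw [hp, hX1, sqrtF_zero, mul_zero]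
          · change r * sqrtF (W (p (ι a))) = 0
            rw [hp, hW1, sqrtF_zero, mul_zero]
      · intro g
        rw [hS.sq g, hSxw]
        congr 1
        change _ = (r * sqrtF (X (p g))) ^ 2 + (r * sqrtF (X (p g))) * (r * sqrtF (W (p g))) +
          a₃ / c * (r * sqrtF (W (p g))) ^ 2
        have e1 := sqrtF_sq (X (p g))
        have e2 := sqrtF_sq (W (p g))
        rw [mul_pow, mul_pow, e1, e2, hr2]
        field_simp
        rw [← hr2]
        ring
    · intro g
      change r * sqrtF (X (p (ρ g))) = mu * (r * sqrtF (X (p g)))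
      rw [← hq.rho, hc.X_rho, sqrtF_mul, sqrtF_of_sq]; ring
    · intro g
      change r * sqrtF (W (p (ρ g))) = mu * (r * sqrtF (W (p g)))
      rw [← hq.rho, hc.W_rho, sqrtF_mul, sqrtF_of_sq]; ring
    · intro g
      change r * sqrtF (X (p (α g))) = r * sqrtF (X (p g)) + r * sqrtF (W (p g))
      rw [← hq.alpha, hc.X_alpha, sqrtF_add]; ring
    · intro g
      change r * sqrtF (W (p (α g))) = r * sqrtF (W (p g))
      rw [← hq.alpha, hc.W_alpha]

end Cfsg.Agent.Lib.Helper3.TGSU6b3
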