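import Mathlib
import Cfsg.Prelude.Def_Classical
import Cfsg.Prelude.Def_Transfer
import Cfsg.Agent.Lib.Helper3.TGSDefs
import Cfsg.Agent.Lib.Helper1.TGSU6b2
import Cfsg.Agent.Lib.Helper2.TGSU3b
import Cfsg.Agent.Lib.Helper2.TGSU5
import Cfsg.Agent.Lib.Helper3.TGSU6b3
import Cfsg.Agent.Lib.Helper4.TGSU6a2
import Cfsg.Agent.Lib.Helper5.TGSU7b
import Cfsg.Agent.Lib.Helper5.TGSU7c
import Cfsg.Agent.Lib.Helper6.TGSBranch
import Cfsg.Agent.Lib.Helper6.TGSU6a1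
import Cfsg.Agent.Lib.Helper6.TGSU9
import Cfsg.Agent.Lib.Helper7.TGSU10
import Cfsg.Agent.Lib.Helper7.TGSU6b1
import Cfsg.Agent.Lib.Helper8.TGSU4
import Cfsg.Agent.Lib.Helper9.TGSU1
import Cfsg.Agent.Lib.Helper9.TGSU3a
import Cfsg.Agent.Lib.Helper9.TGSU7a

/-!
# Farm TGS (S3161): assembly.  Induction on the order (quotient by `Fix α`), then the two branches.
-/

set_option autoImplicit false

namespace Cfsg.Agent.Lib.Helper3.TGSMain

open Cfsg.Agent.Lib.Helper3.TGSDefs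
open Cfsg.Agent.Lib.Helper6.TGSBranch

universe u

section quot

variable {G : Type u} [Group G]

theorem fixSub_normal {F : Type} (α : MulAut G) (ι : F → G)
    (hfix : ∀ x, α x = x ↔ ∃ a, ι a = x) (hcen : ∀ a g, ι a * g = g * ι a) :
    (fixSub α).Normal := by
  constructor
  intro n hn g
  obtain ⟨a, rfl⟩ := (hfix n).mp hn
  have : g * ι a * g⁻¹ = ι a := by
    rw [← hcen a g, mul_inv_cancel_right]
  rw [this]
  exact hn

theorem map_fixSub_self (α : MulAut G) : (fixSub α).map (α : G →* G) = fixSub α := by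
  ext x
  constructor
  · rintro ⟨y, hy, rfl⟩
    have hy' : α y = y := hy
    change α (α y) = α y
    exact congrArg α hy'
  · intro hx
    exact ⟨x, hx, hx⟩

theorem map_fixSub_comm (α ρ : MulAut G) (hc : ∀ x, α (ρ x) = ρ (α x)) :
    (fixSub α).map (ρ : G →* G) = fixSub α := by
  ext x
  constructor
  · rintro ⟨y, hy, rfl⟩
    have hy' : α y = y := hy
    change α (ρ y) = ρ y
    rw [hc, hy']
  · intro hx
    have hx' : α x = x := hx
    refine ⟨ρ.symm x, ?_, by simp⟩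
    change α (ρ.symm x) = ρ.symm x
    apply ρ.injective
    rw [← hc]
    simp [hx']

/-- the quotient by `Fix α` with the induced automorphisms is a `Quo`. -/
theorem quo_mk (α ρ : MulAut G) (hc : ∀ x, α (ρ x) = ρ (α x)) [(fixSub α).Normal] :
    Quo α ρ (QuotientGroup.congr (fixSub α) (fixSub α) α (map_fixSub_self α))
      (QuotientGroup.congr (fixSub α) (fixSub α) ρ (map_fixSub_comm α ρ hc))
      (QuotientGroup.mk' (fixSub α)) where
  surj := QuotientGroup.mk'_surjective _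
  ker := by
    intro g
    rw [QuotientGroup.mk'_apply, QuotientGroup.eq_one_iff]
    exact Iff.rfl
  alpha := by
    intro g
    rfl
  rho := by
    intro g
    rfl

end quot

section main

variable {F : Type} [Field F] [Fintype F] [CharP F 2] {mu : F}

/-- (S7) -/
theorem S7_false (hmu : ∀ x : F, x ≠ 0 → ∃ k : ℕ, x = mu ^ k) (hq4 : ∃ x : F, x ≠ 0 ∧ x ≠ 1)
    {G : Type*} {B : Type*} [Group G] [Group B]
    {α ρ : MulAut G} {ι : F → G} (h : Hyp mu α ρ ι) (hcen : ∀ a g, ι a * g = g * ι a)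
    {α' ρ' : MulAut B} {p : G →* B} (hq : Quo α ρ α' ρ' p)
    {ι' : F → B} (h' : Hyp mu α' ρ' ι') (hlink : ∀ a g, p g = ι' a → g⁻¹ * α g = ι a)
    (hS : Struct3 mu α' ρ' ι') : False := by
  obtain ⟨β₁, β₂, τ, hE, hρ1, hρ2, hα1, hα2⟩ := hS
  have hab := Cfsg.Agent.Lib.Helper9.TGSU7a.U7a_Z3_abelian hmu h hcen hq h' hE hρ1 hρ2
  obtain ⟨κ, hκ, hsq⟩ := Cfsg.Agent.Lib.Helper5.TGSU7b.U7b_sq_Z2 hmu h hcen hq h' hlink hE hρ1 hρ2 hα1 hα2 hab
  exact Cfsg.Agent.Lib.Helper5.TGSU7c.U7c_false hq4 h hcen hq h' hE hab κ hκ hsq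

/-- (S6) -/
theorem S6_struct (hmu : ∀ x : F, x ≠ 0 → ∃ k : ℕ, x = mu ^ k)
    {G : Type*} {B : Type*} [Group G] [Group B] [Finite G] [Finite B]
    {α ρ : MulAut G} {ι : F → G} (h : Hyp mu α ρ ι) (hcen : ∀ a g, ι a * g = g * ι a)
    {α' ρ' : MulAut B} {p : G →* B} (hq : Quo α ρ α' ρ' p)
    {ι' : F → B} (h' : Hyp mu α' ρ' ι') (hel : ∀ b : B, b ^ 2 = 1) (hne : ∃ b, α' b ≠ b) :
    (∀ x y : G, x * y = y * x) ∨ Struct3 mu α ρ ι := by
  have hV : ∀ v ∈ fixSub α', ρ' v ∈ fixSub α' := by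
    intro v hv
    have hv' : α' v = v := hv
    change α' (ρ' v) = ρ' v
    rw [h'.comm, hv']
  have hcompl := Cfsg.Agent.Lib.Helper6.TGSU6a1.U6a1_complement hel ρ' (Fintype.card F - 1) odd_card_sub_one h'.rho_pow
    (fixSub α') hV
  obtain ⟨X, W, hc⟩ := Cfsg.Agent.Lib.Helper4.TGSU6a2.U6a2_coord hmu h' hel hne hcompl
  obtain ⟨S, hS⟩ := Cfsg.Agent.Lib.Helper7.TGSU6b1.U6b1_sqdata hmu h hcen hq hel hc
  obtain ⟨c, a₃, hform⟩ := Cfsg.Agent.Lib.Helper1.TGSU6b2.U6b2_form hmu S hS.polar hS.equiv hS.alpha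
  exact Cfsg.Agent.Lib.Helper3.TGSU6b3.U6b3_struct hmu h hcen hq hc hS c a₃ hform

/-- the induction: every group with (H) has a top factor and is abelian or has `Struct3`. -/
theorem main_ind (hmu : ∀ x : F, x ≠ 0 → ∃ k : ℕ, x = mu ^ k) (hq4 : ∃ x : F, x ≠ 0 ∧ x ≠ 1) :
    ∀ N : ℕ, ∀ (G : Type u) [Group G] [Finite G] (α ρ : MulAut G) (ι : F → G),
      Nat.card G = N → IsPGroup 2 G → Hyp mu α ρ ι →
      Top mu ρ ∧ ((∀ x y : G, x * y = y * x) ∨ Struct3 mu α ρ ι) := by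
  intro N
  induction N using Nat.strong_induction_on with
  | _ N ih =>
  intro G _ _ α ρ ι hN h2 h
  by_cases hA : ∀ g, α g = g
  · -- `G = range ι`
    have hex : ∀ g, ∃ a, ι a = g := fun g => (h.iota_fix g).mp (hA g)
    choose π hπ using hex
    have hπι : ∀ a, π (ι a) = a := fun a => h.iota_inj (hπ (ι a))
    refine ⟨⟨π, ?_, ?_, ?_⟩, Or.inl ?_⟩
    · intro g k
      apply h.iota_inj
      rw [hπ, h.iota_add, hπ, hπ]
    · intro a
      exact ⟨ι a, hπι a⟩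
    · intro g
      apply h.iota_inj
      rw [hπ, ← h.iota_rho, hπ]
    · intro x y
      rw [← hπ x, ← hπ y, ← h.iota_add, ← h.iota_add, add_comm]
  · push Not at hA
    have hcen := Cfsg.Agent.Lib.Helper9.TGSU3a.U3a_central hmu h2 h
    have hnorm : (fixSub α).Normal := fixSub_normal α ι h.iota_fix hcen
    have hq := quo_mk α ρ h.comm
    obtain ⟨ι', h', hlink⟩ := Cfsg.Agent.Lib.Helper2.TGSU3b.U3b_quotient hmu h2 h hq hA
    have h2' : IsPGroup 2 (G ⧸ fixSub α) := h2.to_quotient _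
    have hlt : Nat.card (G ⧸ fixSub α) < N := by
      rw [← hN, Subgroup.card_eq_card_quotient_mul_card_subgroup (fixSub α)]
      have h1 : 1 < Nat.card (fixSub α) := by
        rw [Finite.one_lt_card_iff_nontrivial]
        refine ⟨⟨⟨ι 0, (h.iota_fix _).mpr ⟨0, rfl⟩⟩, ⟨ι 1, (h.iota_fix _).mpr ⟨1, rfl⟩⟩, ?_⟩⟩
        intro he
        have := h.iota_inj (Subtype.ext_iff.mp he)
        exact zero_ne_one this
      have h0 : 0 < Nat.card (G ⧸ fixSub α) := Nat.card_pos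
      nlinarith
    obtain ⟨htop', hcase⟩ := ih _ hlt (G ⧸ fixSub α) _ _ ι' rfl h2' h'
    refine ⟨?_, ?_⟩
    · obtain ⟨π, hπa, hπs, hπr⟩ := htop'
      refine ⟨fun g => π (QuotientGroup.mk' (fixSub α) g), ?_, ?_, ?_⟩
      · intro g k
        change π (QuotientGroup.mk' (fixSub α) (g * k)) = _
        rw [map_mul, hπa]
      · intro a
        obtain ⟨b, hb⟩ := hπs a
        obtain ⟨g, rfl⟩ := hq.surj b
        exact ⟨g, hb⟩
      · intro g
        change π (QuotientGroup.mk' (fixSub α) (ρ g)) = _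
        rw [← hq.rho, hπr]
    · rcases hcase with hB | hS
      · rcases Cfsg.Agent.Lib.Helper8.TGSU4.U4_abelian hmu h2' hB h' with hfix | ⟨hel, hne⟩
        · exact Or.inl (Cfsg.Agent.Lib.Helper2.TGSU5.U5_abelian_quotient hmu h hcen hq h' hB hfix htop')
        · exact S6_struct hmu h hcen hq h' hel hne
      · exact (S7_false hmu hq4 h hcen hq h' hlink hS).elim

end main


theorem exists_ne_zero_one {F : Type} [Field F] [Fintype F] (n : ℕ) (hn : 2 ≤ n)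
    (hcard : Fintype.card F = 2 ^ n) : ∃ x : F, x ≠ 0 ∧ x ≠ 1 := by
  classical
  by_contra hcon
  push Not at hcon
  have h1 : (Finset.univ : Finset F) ⊆ {0, 1} := by
    intro x _
    by_cases hx : x = 0
    · simp [hx]
    · simp [hcon x hx]
  have h2 := Finset.card_le_card h1
  have h3 : ({0, 1} : Finset F).card ≤ 2 := Finset.card_le_two
  rw [Finset.card_univ, hcard] at h2
  have h4 : 2 ^ 2 ≤ 2 ^ n := Nat.pow_le_pow_right (by norm_num) hn
  omega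

theorem final {Q : Type*} [Group Q] [Finite Q] (hQ : IsPGroup 2 Q) (hna : ¬ IsMulCommutative Q)
    (n : ℕ) (hn : 2 ≤ n)
    (α ρ : MulAut Q) (hα : orderOf α = 2) (hρ : orderOf ρ = 2 ^ n - 1) (hc : Commute α ρ)
    (C : Subgroup Q) (hC : ∀ x : Q, x ∈ C ↔ α x = x)
    (hCE : Cfsg.IsElementaryAbelian 2 C ∧ Nat.card ↥C = 2 ^ n)
    (htr : ∀ x y : Q, x ∈ C → y ∈ C → x ≠ 1 → y ≠ 1 → ∃ k : ℕ, (ρ ^ k) x = y) :
    (∃ (F : Type) (_ : Field F) (_ : Fintype F), Fintype.card F = 4 ^ n ∧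
        ∃ S : Sylow 2 (Cfsg.PSU 3 F (2 ^ n)),
          Nonempty (Q ≃* ↥(S : Subgroup (Cfsg.PSU 3 F (2 ^ n))))) ∨
      (∃ (F : Type) (_ : Field F) (_ : Fintype F), Fintype.card F = 2 ^ n ∧
        ∃ S : Sylow 2 (Matrix.ProjectiveSpecialLinearGroup (Fin 3) F),
          Nonempty (Q ≃* ↥(S : Subgroup (Matrix.ProjectiveSpecialLinearGroup (Fin 3) F)))) := by
  obtain ⟨F, _, _, _, mu, ι, hcard, hmu, hH⟩ := Cfsg.Agent.Lib.Helper9.TGSU1.U1_field n hn α ρ hα hρ hc C hC hCE htr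
  have hq4 : ∃ x : F, x ≠ 0 ∧ x ≠ 1 := exists_ne_zero_one n hn hcard
  obtain ⟨_, hcase⟩ := main_ind hmu hq4 (Nat.card Q) Q α ρ ι rfl hQ hH
  rcases hcase with hab | ⟨β₁, β₂, τ, hE, -⟩
  · exact (hna ⟨⟨hab⟩⟩).elim
  · by_cases hτ : ∃ η : F, τ = η ^ 2 + η
    · obtain ⟨η, hη⟩ := hτ
      obtain ⟨e⟩ := Cfsg.Agent.Lib.Helper6.TGSU9.U9_psl hE η hη
      exact Or.inr (psl_branch n (by omega) F hcard e)
    · push Not at hτ
      obtain ⟨F', _, _, _, ⟨e⟩⟩ := Cfsg.Agent.Lib.Helper7.TGSU10.U10_psu n (by omega) hcard hE (fun y hy => hτ y hy.symm)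
      exact Or.inl (psu_branch n (by omega) F' e)


end Cfsg.Agent.Lib.Helper3.TGSMain
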