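import Mathlib
import Cfsg.Prelude.Def_Classical
import Cfsg.Prelude.Def_Transfer
import Cfsg.Agent.Lib.Helper3.TGSDefs
import Cfsg.Agent.Lib.Helper8.L34Defs
import Cfsg.Agent.Lib.Helper5.SuzukiModel

/-!
# Farm TGS (S3161): unit stubs.  Prove each VERBATIM in your own new file
`Cfsg/Agent/Lib/<You>/TGS<unit>.lean` (namespace of your choice), do not edit this file.
-/

set_option autoImplicit false

namespace Cfsg.Agent.Lib.Helper3.TGSStubs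

open Cfsg.Agent.Lib.Helper3.TGSDefs

/-- U1: the field from `ρ`. -/
theorem U1_field {Q : Type*} [Group Q] [Finite Q] (n : ℕ) (hn : 2 ≤ n)
    (α ρ : MulAut Q) (hα : orderOf α = 2) (hρ : orderOf ρ = 2 ^ n - 1) (hc : Commute α ρ)
    (C : Subgroup Q) (hC : ∀ x : Q, x ∈ C ↔ α x = x)
    (hCE : Cfsg.IsElementaryAbelian 2 C ∧ Nat.card ↥C = 2 ^ n)
    (htr : ∀ x y : Q, x ∈ C → y ∈ C → x ≠ 1 → y ≠ 1 → ∃ k : ℕ, (ρ ^ k) x = y) :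
    ∃ (F : Type) (_ : Field F) (_ : Fintype F) (_ : CharP F 2) (mu : F) (ι : F → Q),
      Fintype.card F = 2 ^ n ∧ (∀ x : F, x ≠ 0 → ∃ k : ℕ, x = mu ^ k) ∧ Hyp mu α ρ ι := by
  sorry

section

variable {F : Type} [Field F] [Fintype F] [CharP F 2] {mu : F}

/-- U3a: `Fix α` is central. -/
theorem U3a_central (hmu : ∀ x : F, x ≠ 0 → ∃ k : ℕ, x = mu ^ k)
    {G : Type*} [Group G] [Finite G] (h2 : IsPGroup 2 G)
    {α ρ : MulAut G} {ι : F → G} (h : Hyp mu α ρ ι) : ∀ a g, ι a * g = g * ι a := by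
  sorry

/-- U3b: the quotient by `Fix α` satisfies (H) again; `ι'` is linked to `ι` by `θ (xE) = x⁻¹ α x`. -/
theorem U3b_quotient (hmu : ∀ x : F, x ≠ 0 → ∃ k : ℕ, x = mu ^ k)
    {G : Type*} {B : Type*} [Group G] [Group B] [Finite G] (h2 : IsPGroup 2 G)
    {α ρ : MulAut G} {ι : F → G} (h : Hyp mu α ρ ι)
    {α' ρ' : MulAut B} {p : G →* B} (hq : Quo α ρ α' ρ' p) (hne : ∃ g, α g ≠ g) :
    ∃ ι' : F → B, Hyp mu α' ρ' ι' ∧ ∀ a g, p g = ι' a → g⁻¹ * α g = ι a := by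
  sorry

/-- U4: abelian groups with (H): `Ω₁ = Fix α`, or elementary abelian and `≠ Fix α`. -/
theorem U4_abelian (hmu : ∀ x : F, x ≠ 0 → ∃ k : ℕ, x = mu ^ k)
    {B : Type*} [Group B] [Finite B] (h2 : IsPGroup 2 B) (hB : ∀ x y : B, x * y = y * x)
    {α ρ : MulAut B} {ι : F → B} (h : Hyp mu α ρ ι) :
    (∀ b : B, b ^ 2 = 1 → α b = b) ∨ ((∀ b : B, b ^ 2 = 1) ∧ ∃ b, α b ≠ b) := by
  sorry

/-- U5: abelian quotient with `Ω₁ = Fix` forces `G` abelian. -/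
theorem U5_abelian_quotient (hmu : ∀ x : F, x ≠ 0 → ∃ k : ℕ, x = mu ^ k)
    {G : Type*} {B : Type*} [Group G] [Group B] [Finite G] [Finite B]
    {α ρ : MulAut G} {ι : F → G} (h : Hyp mu α ρ ι) (hcen : ∀ a g, ι a * g = g * ι a)
    {α' ρ' : MulAut B} {p : G →* B} (hq : Quo α ρ α' ρ' p)
    {ι' : F → B} (h' : Hyp mu α' ρ' ι') (hB : ∀ x y : B, x * y = y * x)
    (hfix : ∀ b : B, b ^ 2 = 1 → α' b = b) (htop : Top mu ρ') :
    ∀ x y : G, x * y = y * x := by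
  sorry

/-- U6a1: Maschke by hand: an invariant complement in an elementary abelian 2-group under an
automorphism of odd order. -/
theorem U6a1_complement {B : Type*} [Group B] [Finite B] (hel : ∀ b : B, b ^ 2 = 1)
    (ρ' : MulAut B) (m : ℕ) (hm : Odd m) (hρ : ∀ b, (ρ' ^ m) b = b)
    (V : Subgroup B) (hV : ∀ v ∈ V, ρ' v ∈ V) :
    ∃ W : Subgroup B, (∀ w ∈ W, ρ' w ∈ W) ∧ V ⊓ W = ⊥ ∧ V ⊔ W = ⊤ := by
  sorry

/-- U6a2: coordinates on elementary abelian `B ≠ Fix α'` with (H) (uses U6a1 with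
`V = fixSub α'`, `m = card F - 1`). -/
theorem U6a2_coord (hmu : ∀ x : F, x ≠ 0 → ∃ k : ℕ, x = mu ^ k)
    {B : Type*} [Group B] [Finite B] {α' ρ' : MulAut B} {ι' : F → B} (h' : Hyp mu α' ρ' ι')
    (hel : ∀ b : B, b ^ 2 = 1) (hne : ∃ b, α' b ≠ b)
    (hcompl : ∃ W : Subgroup B, (∀ w ∈ W, ρ' w ∈ W) ∧
      fixSub α' ⊓ W = ⊥ ∧ fixSub α' ⊔ W = ⊤) :
    ∃ X W : B → F, Coord2Data mu α' ρ' ι' X W := by
  sorry

/-- U6b1: the squaring map of `G` in coordinates. -/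
theorem U6b1_sqdata (hmu : ∀ x : F, x ≠ 0 → ∃ k : ℕ, x = mu ^ k)
    {G : Type*} {B : Type*} [Group G] [Group B] [Finite G]
    {α ρ : MulAut G} {ι : F → G} (h : Hyp mu α ρ ι) (hcen : ∀ a g, ι a * g = g * ι a)
    {α' ρ' : MulAut B} {p : G →* B} (hq : Quo α ρ α' ρ' p)
    {ι' : F → B} (hel : ∀ b : B, b ^ 2 = 1)
    {X W : B → F} (hc : Coord2Data mu α' ρ' ι' X W) :
    ∃ S : F → F → F, SqData mu ι p X W S := by
  sorry

/-- U6b2: pure field computation: an equivariant, `α`-invariant map with bi-additive polar form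
is `c s² + c s t + a₃ t²` in the square-root coordinates. -/
theorem U6b2_form (hmu : ∀ x : F, x ≠ 0 → ∃ k : ℕ, x = mu ^ k) (S : F → F → F)
    (polar : ∀ x w x₁ w₁ x₂ w₂ : F,
      S (x + x₁ + x₂) (w + w₁ + w₂) + S (x + x₁) (w + w₁) + S x₂ w₂ =
        (S (x + x₂) (w + w₂) + S x w + S x₂ w₂) + (S (x₁ + x₂) (w₁ + w₂) + S x₁ w₁ + S x₂ w₂))
    (equiv : ∀ x w, S (mu ^ 2 * x) (mu ^ 2 * w) = mu ^ 2 * S x w)
    (alpha : ∀ x w, S (x + w) w = S x w) :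
    ∃ c a₃ : F, ∀ s t : F, S (s ^ 2) (t ^ 2) = c * s ^ 2 + c * s * t + a₃ * t ^ 2 := by
  sorry

/-- U6b3: conclusion of (S6). -/
theorem U6b3_struct (hmu : ∀ x : F, x ≠ 0 → ∃ k : ℕ, x = mu ^ k)
    {G : Type*} {B : Type*} [Group G] [Group B]
    {α ρ : MulAut G} {ι : F → G} (h : Hyp mu α ρ ι) (hcen : ∀ a g, ι a * g = g * ι a)
    {α' ρ' : MulAut B} {p : G →* B} (hq : Quo α ρ α' ρ' p)
    {ι' : F → B} {X W : B → F} (hc : Coord2Data mu α' ρ' ι' X W)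
    {S : F → F → F} (hS : SqData mu ι p X W S) (c a₃ : F)
    (hform : ∀ s t : F, S (s ^ 2) (t ^ 2) = c * s ^ 2 + c * s * t + a₃ * t ^ 2) :
    (∀ x y : G, x * y = y * x) ∨ Struct3 mu α ρ ι := by
  sorry

/-- U7a: in (S7), `Z₃ = {z | β₂ (p z) = 0}` is abelian. -/
theorem U7a_Z3_abelian (hmu : ∀ x : F, x ≠ 0 → ∃ k : ℕ, x = mu ^ k)
    {G : Type*} {B : Type*} [Group G] [Group B]
    {α ρ : MulAut G} {ι : F → G} (h : Hyp mu α ρ ι) (hcen : ∀ a g, ι a * g = g * ι a)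
    {α' ρ' : MulAut B} {p : G →* B} (hq : Quo α ρ α' ρ' p)
    {ι' : F → B} (h' : Hyp mu α' ρ' ι')
    {β₁ β₂ : B → F} {τ : F} (hE : Ext3 (sig τ) ι' β₁ β₂)
    (hρ1 : ∀ g, β₁ (ρ' g) = mu * β₁ g) (hρ2 : ∀ g, β₂ (ρ' g) = mu * β₂ g) :
    ∀ z z' : G, β₂ (p z) = 0 → β₂ (p z') = 0 → z * z' = z' * z := by
  sorry

/-- U7b: in (S7), the squaring map on `Z₂ = p⁻¹ (range ι')`: `y² = ι (t / κ)` if `p y = ι' t`. -/
theorem U7b_sq_Z2 (hmu : ∀ x : F, x ≠ 0 → ∃ k : ℕ, x = mu ^ k)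
    {G : Type*} {B : Type*} [Group G] [Group B]
    {α ρ : MulAut G} {ι : F → G} (h : Hyp mu α ρ ι) (hcen : ∀ a g, ι a * g = g * ι a)
    {α' ρ' : MulAut B} {p : G →* B} (hq : Quo α ρ α' ρ' p)
    {ι' : F → B} (h' : Hyp mu α' ρ' ι') (hlink : ∀ a g, p g = ι' a → g⁻¹ * α g = ι a)
    {β₁ β₂ : B → F} {τ : F} (hE : Ext3 (sig τ) ι' β₁ β₂)
    (hρ1 : ∀ g, β₁ (ρ' g) = mu * β₁ g) (hρ2 : ∀ g, β₂ (ρ' g) = mu * β₂ g)
    (hα1 : ∀ g, β₁ (α' g) = β₁ g + β₂ g) (hα2 : ∀ g, β₂ (α' g) = β₂ g)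
    (hab : ∀ z z' : G, β₂ (p z) = 0 → β₂ (p z') = 0 → z * z' = z' * z) :
    ∃ κ : F, κ ≠ 0 ∧ ∀ (y : G) (t : F), p y = ι' t → y ^ 2 = ι (t / κ) := by
  sorry

/-- U7c: in (S7), the final contradiction. -/
theorem U7c_false (hq4 : ∃ x : F, x ≠ 0 ∧ x ≠ 1)
    {G : Type*} {B : Type*} [Group G] [Group B]
    {α ρ : MulAut G} {ι : F → G} (h : Hyp mu α ρ ι) (hcen : ∀ a g, ι a * g = g * ι a)
    {α' ρ' : MulAut B} {p : G →* B} (hq : Quo α ρ α' ρ' p)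
    {ι' : F → B} (h' : Hyp mu α' ρ' ι')
    {β₁ β₂ : B → F} {τ : F} (hE : Ext3 (sig τ) ι' β₁ β₂)
    (hab : ∀ z z' : G, β₂ (p z) = 0 → β₂ (p z') = 0 → z * z' = z' * z)
    (κ : F) (hκ : κ ≠ 0) (hsq : ∀ (y : G) (t : F), p y = ι' t → y ^ 2 = ι (t / κ)) :
    False := by
  sorry

/-- U8: the extension is determined by the squaring map. -/
theorem U8_ext_unique {G₁ : Type*} {G₂ : Type*} [Group G₁] [Group G₂] [Finite G₁] [Finite G₂]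
    (σ : F → F → F) {ι₁ : F → G₁} {β₁ β₂ : G₁ → F} {ι₂ : F → G₂} {γ₁ γ₂ : G₂ → F}
    (h₁ : Ext3 σ ι₁ β₁ β₂) (h₂ : Ext3 σ ι₂ γ₁ γ₂) : Nonempty (G₁ ≃* G₂) := by
  sorry

/-- U9: the `PSL₃` branch (via U8). -/
theorem U9_psl {G : Type*} [Group G] [Finite G] {ι : F → G} {β₁ β₂ : G → F} {τ : F}
    (hE : Ext3 (sig τ) ι β₁ β₂) (η : F) (hτ : τ = η ^ 2 + η) :
    Nonempty (G ≃* ↥(Cfsg.Agent.Lib.Helper8.L34.U F)) := by
  sorry

/-- U10: the `PSU₃` branch (via U8). -/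
theorem U10_psu {G : Type*} [Group G] [Finite G] (n : ℕ) (hn : 1 ≤ n)
    (hcard : Fintype.card F = 2 ^ n) {ι : F → G} {β₁ β₂ : G → F} {τ : F}
    (hE : Ext3 (sig τ) ι β₁ β₂) (hτ : ∀ y : F, y ^ 2 + y ≠ τ) :
    ∃ (F' : Type) (_ : Field F') (_ : Fintype F') (_ : Fact (Fintype.card F' = (2 ^ n) ^ 2)),
      Nonempty (G ≃* Cfsg.Agent.Lib.Helper5.SuzukiModel.M F' (2 ^ n)) := by
  sorry

end

end Cfsg.Agent.Lib.Helper3.TGSStubs
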