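import Mathlib
import Cfsg.Agent.Lib.Helper5.TICE0

/-!
# S4064 glue D → E: from base-point data on `G ⧸ N` to the all-points structure `Resid S T q`.
-/

set_option autoImplicit false
set_option maxHeartbeats 4000000
set_option maxRecDepth 100000
set_option linter.unusedVariables false
set_option linter.unusedSectionVars false
set_option linter.style.longLine false
set_option linter.style.haveILetI false
set_option linter.deprecated false
set_option linter.unusedSimpArgs false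

namespace Cfsg.Agent.Lib.Helper3.TIC

open Cfsg.Agent.Lib.Helper5.TICE
open scoped Pointwise

variable {G : Type*} [Group G]

/-- base-point data (at `x0 = (1 : G ⧸ N)`) of the residual configuration -/
structure Base (N M T0 : Subgroup G) (q : ℕ) : Prop where
  q_eq : ∃ n : ℕ, 2 ≤ n ∧ q = 2 ^ n
  M_le : M ≤ N
  norm : ∀ n ∈ N, ∀ m ∈ M, n * m * n⁻¹ ∈ M
  card_pts : Nat.card (G ⧸ N) = q ^ 3 + 1
  two_trans : ∀ a b c d : G ⧸ N, a ≠ b → c ≠ d → ∃ g : G, g • a = c ∧ g • b = d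
  three_pt : ∀ (g : G) (a b c : G ⧸ N), a ≠ b → b ≠ c → a ≠ c →
    g • a = a → g • b = b → g • c = c → g = 1
  card_D : ∀ y : G ⧸ N, ((1 : G) : G ⧸ N) ≠ y →
    Nat.card (MulAction.stabilizer G y ⊓ MulAction.stabilizer G ((1 : G) : G ⧸ N) : Subgroup G)
      = q - 1
  swap : ∀ y : G ⧸ N, ((1 : G) : G ⧸ N) ≠ y → ∃ u : G, orderOf u = 2 ∧ u • ((1 : G) : G ⧸ N) = y
  inverts : ∀ y : G ⧸ N, ((1 : G) : G ⧸ N) ≠ y → ∀ u : G, orderOf u = 2 →
    u • ((1 : G) : G ⧸ N) = y →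
    ∀ d ∈ (MulAction.stabilizer G y ⊓ MulAction.stabilizer G ((1 : G) : G ⧸ N) : Subgroup G),
      u * d * u⁻¹ = d⁻¹
  trans_M : ∀ y z : G ⧸ N, ((1 : G) : G ⧸ N) ≠ y → ((1 : G) : G ⧸ N) ≠ z → ∃ a ∈ M, a • y = z
  free_M : ∀ y : G ⧸ N, ((1 : G) : G ⧸ N) ≠ y → ∀ a ∈ M, a • y = y → a = 1
  T_le : T0 ≤ M
  mem_T : ∀ s ∈ M, s ∈ T0 ↔ s * s = 1
  T_central : ∀ t ∈ T0, ∀ s ∈ M, t * s = s * t
  sq_mem : ∀ s ∈ M, s * s ∈ T0
  comm_mem : ∀ s ∈ M, ∀ s' ∈ M, s * s' * s⁻¹ * s'⁻¹ ∈ T0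
  card_T : Nat.card T0 = q
  invol : ∀ a : G, orderOf a = 2 → ∃ g : G, g⁻¹ * a * g ∈ M
  cent : ∀ t ∈ M, t ≠ 1 → Subgroup.centralizer ({t} : Set G) ≤ M
  cn : ∀ g : G, g ≠ 1 → Group.IsNilpotent (Subgroup.centralizer ({g} : Set G))

theorem mem_cj {g x : G} {M : Subgroup G} :
    x ∈ MulAut.conj g • M ↔ g⁻¹ * x * g ∈ M := by
  rw [Subgroup.mem_pointwise_smul_iff_inv_smul_mem, MulAut.smul_def, ← map_inv,
    MulAut.conj_apply, inv_inv]

/-- the conjugate of `M` attached to the point `α` -/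
noncomputable def ptSub (N M : Subgroup G) (α : G ⧸ N) : Subgroup G :=
  MulAut.conj (Quotient.out α) • M

theorem mem_ptSub {N M : Subgroup G} (hnorm : ∀ n ∈ N, ∀ m ∈ M, n * m * n⁻¹ ∈ M) {g x : G} :
    x ∈ ptSub N M ((g : G) : G ⧸ N) ↔ g⁻¹ * x * g ∈ M := by
  unfold ptSub
  obtain ⟨n, hn⟩ := QuotientGroup.mk_out_eq_mul N g
  rw [mem_cj, hn]
  have hnN : (n : G) ∈ N := n.2
  have hnN' : (n : G)⁻¹ ∈ N := N.inv_mem hnN
  have e : (g * (n : G))⁻¹ * x * (g * (n : G)) = (n : G)⁻¹ * (g⁻¹ * x * g) * (n : G)⁻¹⁻¹ := by group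
  rw [e]
  constructor
  · intro h
    have := hnorm _ hnN _ h
    have e2 : (n : G) * ((n : G)⁻¹ * (g⁻¹ * x * g) * (n : G)⁻¹⁻¹) * (n : G)⁻¹ = g⁻¹ * x * g := by group
    rwa [e2] at this
  · intro h
    exact hnorm _ hnN' _ h

theorem smul_mk (N : Subgroup G) (t g : G) : t • ((g : G) : G ⧸ N) = ((t * g : G) : G ⧸ N) := rfl

theorem smul_mk_eq_iff (N : Subgroup G) (t g : G) :
    t • ((g : G) : G ⧸ N) = ((g : G) : G ⧸ N) ↔ g⁻¹ * t * g ∈ N := by
  rw [smul_mk, QuotientGroup.eq]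
  have e : (t * g)⁻¹ * g = (g⁻¹ * t * g)⁻¹ := by group
  rw [e, inv_mem_iff]

theorem smul_x0_iff (N : Subgroup G) (t : G) :
    t • ((1 : G) : G ⧸ N) = ((1 : G) : G ⧸ N) ↔ t ∈ N := by
  rw [smul_mk_eq_iff]
  simp

theorem mk_eq_smul_x0 (N : Subgroup G) (g : G) : ((g : G) : G ⧸ N) = g • ((1 : G) : G ⧸ N) := by
  rw [smul_mk, mul_one]

namespace Base

variable {N M T0 : Subgroup G} {q : ℕ} (h : Base N M T0 q)
include h

theorem norm_T : ∀ n ∈ N, ∀ t ∈ T0, n * t * n⁻¹ ∈ T0 := by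
  intro n hn t ht
  have htM := h.T_le ht
  have h1 := h.norm n hn t htM
  rw [h.mem_T _ h1]
  have h2 : t * t = 1 := (h.mem_T t htM).1 ht
  have e : n * t * n⁻¹ * (n * t * n⁻¹) = n * (t * t) * n⁻¹ := by group
  rw [e, h2, mul_one, mul_inv_cancel]

theorem mem_S {g x : G} : x ∈ ptSub N M ((g : G) : G ⧸ N) ↔ g⁻¹ * x * g ∈ M :=
  mem_ptSub h.norm

theorem mem_T' {g x : G} : x ∈ ptSub N T0 ((g : G) : G ⧸ N) ↔ g⁻¹ * x * g ∈ T0 :=
  mem_ptSub h.norm_T

/-- pulling a second point back to the base point -/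
theorem base_ne {g : G} {β : G ⧸ N} (hβ : β ≠ ((g : G) : G ⧸ N)) :
    ((1 : G) : G ⧸ N) ≠ g⁻¹ • β := by
  intro he
  apply hβ
  have : g • (g⁻¹ • β) = β := smul_inv_smul g β
  rw [← this, ← he, ← mk_eq_smul_x0]

theorem card_D' (α β : G ⧸ N) (hαβ : α ≠ β) :
    Nat.card {g : G // g • α = α ∧ g • β = β} = q - 1 := by
  induction α using QuotientGroup.induction_on with
  | H g =>
    have hy := h.base_ne (Ne.symm hαβ)
    rw [← h.card_D _ hy]
    apply Nat.card_congr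
    refine
      { toFun := fun k => ⟨g⁻¹ * k.1 * g, ?_⟩
        invFun := fun d => ⟨g * d.1 * g⁻¹, ?_⟩
        left_inv := ?_
        right_inv := ?_ }
    · refine Subgroup.mem_inf.2 ⟨?_, ?_⟩
      · rw [MulAction.mem_stabilizer_iff, mul_smul, mul_smul, smul_inv_smul, k.2.2]
      · rw [MulAction.mem_stabilizer_iff, smul_x0_iff]
        have := (smul_mk_eq_iff N k.1 g).1 k.2.1
        exact this
    · obtain ⟨hd1, hd2⟩ := Subgroup.mem_inf.1 d.2
      rw [MulAction.mem_stabilizer_iff] at hd1 hd2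
      refine ⟨?_, ?_⟩
      · rw [smul_mk_eq_iff]
        have e : g⁻¹ * (g * d.1 * g⁻¹) * g = d.1 := by group
        rw [e]
        exact (smul_x0_iff N d.1).1 hd2
      · have e : (g * d.1 * g⁻¹) • β = g • (d.1 • (g⁻¹ • β)) := by
          rw [mul_smul, mul_smul]
        rw [e, hd1, smul_inv_smul]
    · intro k
      apply Subtype.ext
      show g * (g⁻¹ * k.1 * g) * g⁻¹ = k.1
      group
    · intro d
      apply Subtype.ext
      show g⁻¹ * (g * d.1 * g⁻¹) * g = d.1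
      group

theorem inverted' (α β : G ⧸ N) (hαβ : α ≠ β) :
    ∃ u : G, u * u = 1 ∧ u • α = β ∧ u • β = α ∧
      ∀ d : G, d • α = α → d • β = β → u * d * u⁻¹ = d⁻¹ := by
  induction α using QuotientGroup.induction_on with
  | H g =>
    have hy := h.base_ne (Ne.symm hαβ)
    obtain ⟨u0, hu0, hu0x⟩ := h.swap _ hy
    have hu0sq : u0 * u0 = 1 := by
      have := pow_orderOf_eq_one u0
      rwa [hu0, pow_two] at this
    have hgy : g • (g⁻¹ • β) = β := smul_inv_smul g β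
    refine ⟨g * u0 * g⁻¹, ?_, ?_, ?_, ?_⟩
    · have e : g * u0 * g⁻¹ * (g * u0 * g⁻¹) = g * (u0 * u0) * g⁻¹ := by group
      rw [e, hu0sq, mul_one, mul_inv_cancel]
    · rw [mk_eq_smul_x0, ← mul_smul]
      have e : g * u0 * g⁻¹ * g = g * u0 := by group
      rw [e, mul_smul, hu0x, hgy]
    · have e : (g * u0 * g⁻¹) • β = g • (u0 • (g⁻¹ • β)) := by rw [mul_smul, mul_smul]
      rw [e, ← hu0x, ← mul_smul u0 u0, hu0sq, one_smul, ← mk_eq_smul_x0]
    · intro d hdα hdβ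
      have hd : g⁻¹ * d * g ∈ (MulAction.stabilizer G (g⁻¹ • β) ⊓
          MulAction.stabilizer G ((1 : G) : G ⧸ N) : Subgroup G) := by
        refine Subgroup.mem_inf.2 ⟨?_, ?_⟩
        · rw [MulAction.mem_stabilizer_iff, mul_smul, mul_smul, smul_inv_smul, hdβ]
        · rw [MulAction.mem_stabilizer_iff, smul_x0_iff]
          exact (smul_mk_eq_iff N d g).1 hdα
      have := h.inverts _ hy u0 hu0 hu0x _ hd
      calc g * u0 * g⁻¹ * d * (g * u0 * g⁻¹)⁻¹ = g * (u0 * (g⁻¹ * d * g) * u0⁻¹) * g⁻¹ := by group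
        _ = g * (g⁻¹ * d * g)⁻¹ * g⁻¹ := by rw [this]
        _ = d⁻¹ := by group

theorem S_fix' (α : G ⧸ N) : ∀ s ∈ ptSub N M α, s • α = α := by
  induction α using QuotientGroup.induction_on with
  | H g =>
    intro s hs
    rw [smul_mk_eq_iff]
    exact h.M_le (h.mem_S.1 hs)

theorem S_conj' (g : G) (α : G ⧸ N) : ∀ s ∈ ptSub N M α, g * s * g⁻¹ ∈ ptSub N M (g • α) := by
  induction α using QuotientGroup.induction_on with
  | H k =>
    intro s hs
    rw [smul_mk, h.mem_S]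
    have e : (g * k)⁻¹ * (g * s * g⁻¹) * (g * k) = k⁻¹ * s * k := by group
    rw [e]
    exact h.mem_S.1 hs

theorem S_trans' (α β γ : G ⧸ N) (hβ : β ≠ α) (hγ : γ ≠ α) : ∃ s ∈ ptSub N M α, s • β = γ := by
  induction α using QuotientGroup.induction_on with
  | H g =>
    obtain ⟨a, ha, hay⟩ := h.trans_M _ _ (h.base_ne hβ) (h.base_ne hγ)
    refine ⟨g * a * g⁻¹, ?_, ?_⟩
    · rw [h.mem_S]
      have e : g⁻¹ * (g * a * g⁻¹) * g = a := by group
      rw [e]; exact ha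
    · rw [mul_smul, mul_smul, hay, smul_inv_smul]

theorem S_free' (α β : G ⧸ N) (hβ : β ≠ α) : ∀ s ∈ ptSub N M α, s • β = β → s = 1 := by
  induction α using QuotientGroup.induction_on with
  | H g =>
    intro s hs hsβ
    have ha := h.mem_S.1 hs
    have hay : (g⁻¹ * s * g) • (g⁻¹ • β) = g⁻¹ • β := by
      rw [mul_smul, mul_smul, smul_inv_smul, hsβ]
    have := h.free_M _ (h.base_ne hβ) _ ha hay
    calc s = g * (g⁻¹ * s * g) * g⁻¹ := by group
      _ = 1 := by rw [this]; group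

theorem T_le' (α : G ⧸ N) : ptSub N T0 α ≤ ptSub N M α := by
  induction α using QuotientGroup.induction_on with
  | H g =>
    intro x hx
    rw [h.mem_S]
    exact h.T_le (h.mem_T'.1 hx)

theorem mem_T'' (α : G ⧸ N) : ∀ s ∈ ptSub N M α, s ∈ ptSub N T0 α ↔ s * s = 1 := by
  induction α using QuotientGroup.induction_on with
  | H g =>
    intro s hs
    rw [h.mem_T', h.mem_T _ (h.mem_S.1 hs)]
    have e : g⁻¹ * s * g * (g⁻¹ * s * g) = g⁻¹ * (s * s) * g := by group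
    rw [e]
    constructor
    · intro h1
      calc s * s = g * (g⁻¹ * (s * s) * g) * g⁻¹ := by group
        _ = 1 := by rw [h1]; group
    · intro h1
      rw [h1]; group

theorem T_central' (α : G ⧸ N) : ∀ t ∈ ptSub N T0 α, ∀ s ∈ ptSub N M α, t * s = s * t := by
  induction α using QuotientGroup.induction_on with
  | H g =>
    intro t ht s hs
    have := h.T_central _ (h.mem_T'.1 ht) _ (h.mem_S.1 hs)
    calc t * s = g * ((g⁻¹ * t * g) * (g⁻¹ * s * g)) * g⁻¹ := by group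
      _ = g * ((g⁻¹ * s * g) * (g⁻¹ * t * g)) * g⁻¹ := by rw [this]
      _ = s * t := by group

theorem sq_mem' (α : G ⧸ N) : ∀ s ∈ ptSub N M α, s * s ∈ ptSub N T0 α := by
  induction α using QuotientGroup.induction_on with
  | H g =>
    intro s hs
    rw [h.mem_T']
    have := h.sq_mem _ (h.mem_S.1 hs)
    have e : g⁻¹ * (s * s) * g = g⁻¹ * s * g * (g⁻¹ * s * g) := by group
    rw [e]; exact this

theorem comm_mem' (α : G ⧸ N) :
    ∀ s ∈ ptSub N M α, ∀ s' ∈ ptSub N M α, s * s' * s⁻¹ * s'⁻¹ ∈ ptSub N T0 α := by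
  induction α using QuotientGroup.induction_on with
  | H g =>
    intro s hs s' hs'
    rw [h.mem_T']
    have := h.comm_mem _ (h.mem_S.1 hs) _ (h.mem_S.1 hs')
    have e : g⁻¹ * (s * s' * s⁻¹ * s'⁻¹) * g =
        g⁻¹ * s * g * (g⁻¹ * s' * g) * (g⁻¹ * s * g)⁻¹ * (g⁻¹ * s' * g)⁻¹ := by group
    rw [e]; exact this

theorem card_T' (α : G ⧸ N) : Nat.card (ptSub N T0 α) = q := by
  unfold ptSub
  rw [← h.card_T]
  exact Nat.card_congr (Subgroup.equivSMul (MulAut.conj (Quotient.out α)) T0).toEquiv.symm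

theorem invol' (a : G) (ha : IsInv a) : ∃ α : G ⧸ N, a ∈ ptSub N T0 α := by
  have hao : orderOf a = 2 := by
    apply orderOf_eq_prime
    · rw [pow_two]; exact ha.1
    · exact ha.2
  obtain ⟨g, hg⟩ := h.invol a hao
  refine ⟨((g : G) : G ⧸ N), ?_⟩
  have hS : a ∈ ptSub N M ((g : G) : G ⧸ N) := h.mem_S.2 hg
  exact (h.mem_T'' _ a hS).2 ha.1

theorem cent_invol' (α : G ⧸ N) :
    ∀ t ∈ ptSub N T0 α, t ≠ 1 → ∀ g : G, g * t = t * g → g ∈ ptSub N M α := by
  induction α using QuotientGroup.induction_on with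
  | H k =>
    intro t ht ht1 g hgt
    rw [h.mem_S]
    have ht0 := h.T_le (h.mem_T'.1 ht)
    have ht01 : k⁻¹ * t * k ≠ 1 := by
      intro h1
      apply ht1
      calc t = k * (k⁻¹ * t * k) * k⁻¹ := by group
        _ = 1 := by rw [h1]; group
    apply h.cent _ ht0 ht01
    rw [Subgroup.mem_centralizer_singleton_iff]
    calc k⁻¹ * g * k * (k⁻¹ * t * k) = k⁻¹ * (g * t) * k := by group
      _ = k⁻¹ * (t * g) * k := by rw [hgt]
      _ = k⁻¹ * t * k * (k⁻¹ * g * k) := by group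

/-- the all-points residual structure -/
theorem resid' : Resid (ptSub N M) (ptSub N T0) q where
  q_eq := h.q_eq
  card_pts := h.card_pts
  two_trans := h.two_trans
  three_pt := h.three_pt
  card_D := h.card_D'
  inverted := h.inverted'
  S_fix := h.S_fix'
  S_conj := h.S_conj'
  S_trans := h.S_trans'
  S_free := h.S_free'
  T_le := h.T_le'
  mem_T := h.mem_T''
  T_central := h.T_central'
  sq_mem := h.sq_mem'
  comm_mem := h.comm_mem'
  card_T := h.card_T'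
  invol := h.invol'
  cent_invol := h.cent_invol'
  cn := h.cn

theorem resid : ∃ S T : G ⧸ N → Subgroup G, Resid S T q := ⟨_, _, h.resid'⟩

end Base

end Cfsg.Agent.Lib.Helper3.TIC
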