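import Mathlib
import Cfsg.Prelude.Def_Solvable
import Cfsg.Prelude.Def_OddOrderLocal
import Cfsg.Prelude.Def_Involutions
import Cfsg.Agent.Lib.Helper1.Fitting
import Cfsg.Agent.Lib.Helper1.FrobeniusKernelNilpotent
import Cfsg.Agent.Lib.Helper9.TICB3
import Cfsg.Agent.Lib.Lead.SETrans

/-!
# S4064 Part C (C4): a finite TI-centralizer group with trivial Fitting subgroup is simple
(given that its nontrivial normal subgroups have even order).
-/

set_option autoImplicit false
set_option maxHeartbeats 4000000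
set_option maxRecDepth 100000
set_option linter.unusedVariables false
set_option linter.unusedSectionVars false
set_option linter.style.longLine false
set_option linter.style.haveILetI false
set_option linter.deprecated false
set_option linter.unusedSimpArgs false

namespace Cfsg.Agent.Lib.Helper3.TIC

open Cfsg.Agent.Lib.Helper2.TIC Cfsg.Agent.Lib.Helper9.TIC
open scoped Pointwise

universe u

/-- the Fitting subgroup is characteristic -/
theorem fitting_char (X : Type u) [Group X] : (Cfsg.fittingSubgroup X).Characteristic := by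
  rw [Subgroup.characteristic_iff_map_le]
  intro φ
  rw [Subgroup.map_le_iff_le_comap]
  apply sSup_le
  rintro N ⟨hNn, hNnil⟩
  rw [← Subgroup.map_le_iff_le_comap]
  apply Cfsg.Agent.Lib.Helper1.le_fittingSubgroup (hNn.map _ φ.surjective)
  exact Group.nilpotent_of_surjective _ (φ.toMonoidHom.subgroupMap_surjective N)

/-- a group with a Frobenius complement has nontrivial Fitting subgroup (Frobenius + Thompson) -/
theorem fitting_ne_bot_of_frobeniusComplement {X : Type u} [Group X] [Finite X] (H : Subgroup X)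
    (hH : Cfsg.IsFrobeniusComplement H) : Cfsg.fittingSubgroup X ≠ ⊥ := by
  obtain ⟨N, hN, hNn, hnil⟩ :=
    Cfsg.Agent.Lib.Helper1.ThompsonFPF.frobenius_kernel_nilpotent H hH
  obtain ⟨N', hN', -, hcompl⟩ := Cfsg.Agent.Lib.Helper1.frobenius_theorem H hH
  have hNN' : N' = N := SetLike.coe_injective (hN'.trans hN.symm)
  rw [hNN'] at hcompl
  have hNb : N ≠ ⊥ := by
    intro h
    rw [h, Subgroup.isComplement'_bot_left] at hcompl
    exact hH.2.1 hcompl
  intro hF
  apply hNb
  have := Cfsg.Agent.Lib.Helper1.le_fittingSubgroup hNn hnil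
  rw [hF] at this
  exact le_bot_iff.1 this

variable {G : Type u} [Group G]

/-- `F(K) = 1` for a normal subgroup `K` of a group with `F(G) = 1` -/
theorem fitting_subgroup_eq_bot [Finite G] (K : Subgroup G) [hK : K.Normal]
    (hF : Cfsg.fittingSubgroup G = ⊥) : Cfsg.fittingSubgroup K = ⊥ := by
  haveI := fitting_char K
  have hn : ((Cfsg.fittingSubgroup K).map K.subtype).Normal :=
    ConjAct.normal_of_characteristic_of_normal
  have hnil : Group.IsNilpotent ((Cfsg.fittingSubgroup K).map K.subtype) := by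
    haveI := Cfsg.Agent.Lib.Helper1.fittingSubgroup_isNilpotent (G := K)
    exact Group.nilpotent_of_surjective _ (K.subtype.subgroupMap_surjective (Cfsg.fittingSubgroup K))
  have h1 := Cfsg.Agent.Lib.Helper1.le_fittingSubgroup hn hnil
  rw [hF, le_bot_iff] at h1
  exact (Subgroup.map_eq_bot_iff_of_injective _ K.subtype_injective).1 h1

/-- (C3) all involutions are conjugate in a finite TI-centralizer group with `F = 1` -/
theorem isConj_invol_of_fitting_eq_bot {X : Type u} [Group X] [Finite X]
    (hTI : ∀ x : X, Cfsg.IsTISubset (Subgroup.centralizer ({x} : Set X) : Set X))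
    (hF : Cfsg.fittingSubgroup X = ⊥) {a b : X} (ha : orderOf a = 2) (hb : orderOf b = 2) :
    IsConj a b := by
  have ha1 : a ≠ 1 := by
    rintro rfl
    rw [orderOf_one] at ha
    norm_num at ha
  obtain ⟨M, hM, haM⟩ := exists_comp hTI ha1
  have h2 : 2 ∣ Nat.card M := by
    have := orderOf_dvd_natCard (⟨a, haM⟩ : M)
    rwa [Subgroup.orderOf_mk, ha] at this
  have hN : Subgroup.normalizer (M : Set X) ≠ ⊤ := by
    intro h
    have hMn : M.Normal := Subgroup.normalizer_eq_top_iff.1 h
    have := Cfsg.Agent.Lib.Helper1.le_fittingSubgroup hMn hM.nilpotent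
    rw [hF, le_bot_iff] at this
    exact hM.ne_bot this
  have hse := hM.stronglyEmbedded h2 hN
  exact Cfsg.Agent.Lib.Lead.SE.isConj_invol hse ha hb

section Main

variable [Finite G]
  (hTI : ∀ x : G, Cfsg.IsTISubset (Subgroup.centralizer ({x} : Set G) : Set G))
  (hF : Cfsg.fittingSubgroup G = ⊥)

include hTI hF

/-- a component meeting the normal subgroup `K` nontrivially lies in `K` -/
theorem comp_le_of_normal (K : Subgroup G) [hK : K.Normal] {M : Subgroup G} (hM : Comp M)
    {z : G} (hzM : z ∈ M) (hzK : z ∈ K) (hz1 : z ≠ 1) : M ≤ K := by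
  by_cases hd : ∃ d ∈ Subgroup.normalizer (M : Set G), d ∈ K ∧ d ∉ M
  · obtain ⟨d, hdN, hdK, hdM⟩ := hd
    have hdN' : d⁻¹ ∈ Subgroup.normalizer (M : Set G) := Subgroup.inv_mem _ hdN
    have hmem : ∀ m ∈ M, m⁻¹ * d⁻¹ * m * d ∈ M ⊓ K := by
      intro m hm
      refine Subgroup.mem_inf.2 ⟨?_, ?_⟩
      · have h1 : d⁻¹ * m * d⁻¹⁻¹ ∈ M := ((Subgroup.mem_normalizer_iff.1 hdN') m).1 hm
        rw [inv_inv] at h1
        have h2 : m⁻¹ * (d⁻¹ * m * d) ∈ M := M.mul_mem (M.inv_mem hm) h1
        have e : m⁻¹ * d⁻¹ * m * d = m⁻¹ * (d⁻¹ * m * d) := by group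
        rw [e]; exact h2
      · have h1 : m⁻¹ * d⁻¹ * m⁻¹⁻¹ ∈ K := hK.conj_mem _ (K.inv_mem hdK) _
        rw [inv_inv] at h1
        exact K.mul_mem h1 hdK
    let f : M → (M ⊓ K : Subgroup G) := fun m => ⟨(m : G)⁻¹ * d⁻¹ * m * d, hmem m m.2⟩
    have hf : Function.Injective f := by
      intro m m' h
      have h1 : (m : G)⁻¹ * d⁻¹ * m * d = (m' : G)⁻¹ * d⁻¹ * m' * d := congrArg Subtype.val h
      by_contra hne
      have hne' : (m' : G) * (m : G)⁻¹ ≠ 1 := by
        intro h2
        apply hne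
        apply Subtype.ext
        have : (m' : G) = m := by
          have := congrArg (· * (m : G)) h2
          simpa using this
        exact this.symm
      have hcomm : d * ((m' : G) * (m : G)⁻¹) = ((m' : G) * (m : G)⁻¹) * d := by
        have h2 : (m : G)⁻¹ * d⁻¹ * m = (m' : G)⁻¹ * d⁻¹ * m' := by
          have := congrArg (· * d⁻¹) h1
          simpa [mul_assoc] using this
        -- d⁻¹ = m (m'⁻¹ d⁻¹ m') m⁻¹
        have h3 : d⁻¹ = ((m : G) * (m' : G)⁻¹) * d⁻¹ * ((m' : G) * (m : G)⁻¹) := by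
          calc d⁻¹ = (m : G) * ((m : G)⁻¹ * d⁻¹ * m) * (m : G)⁻¹ := by group
            _ = (m : G) * ((m' : G)⁻¹ * d⁻¹ * m') * (m : G)⁻¹ := by rw [h2]
            _ = ((m : G) * (m' : G)⁻¹) * d⁻¹ * ((m' : G) * (m : G)⁻¹) := by group
        have h4 : ((m' : G) * (m : G)⁻¹) * d⁻¹ = d⁻¹ * ((m' : G) * (m : G)⁻¹) := by
          calc ((m' : G) * (m : G)⁻¹) * d⁻¹
              = ((m' : G) * (m : G)⁻¹) * (((m : G) * (m' : G)⁻¹) * d⁻¹ * ((m' : G) * (m : G)⁻¹)) := by
                rw [← h3]
            _ = d⁻¹ * ((m' : G) * (m : G)⁻¹) := by group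
        calc d * ((m' : G) * (m : G)⁻¹) = d * (((m' : G) * (m : G)⁻¹) * d⁻¹) * d := by group
          _ = d * (d⁻¹ * ((m' : G) * (m : G)⁻¹)) * d := by rw [h4]
          _ = ((m' : G) * (m : G)⁻¹) * d := by group
      exact hdM (hM.frob (M.mul_mem m'.2 (M.inv_mem m.2)) hne' hcomm)
    have hcard : Nat.card M ≤ Nat.card (M ⊓ K : Subgroup G) := Nat.card_le_card_of_injective f hf
    have heq : M ⊓ K = M := Subgroup.eq_of_le_of_card_ge inf_le_left hcard
    rw [← heq]
    exact inf_le_right
  · push Not at hd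
    exfalso
    -- `M ∩ K` is a Frobenius complement in `K`
    have hfc : Cfsg.IsFrobeniusComplement (M.subgroupOf K) := by
      refine ⟨?_, ?_, ?_⟩
      · intro h
        have : (⟨z, hzK⟩ : K) ∈ M.subgroupOf K := Subgroup.mem_subgroupOf.2 hzM
        rw [h, Subgroup.mem_bot] at this
        exact hz1 (congrArg Subtype.val this)
      · intro h
        have hKM : K ≤ M := by
          intro k hk
          have : (⟨k, hk⟩ : K) ∈ M.subgroupOf K := by rw [h]; exact Subgroup.mem_top _
          exact Subgroup.mem_subgroupOf.1 this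
        have hnil : Group.IsNilpotent K := by
          haveI := hM.nilpotent
          haveI : Group.IsNilpotent (K.subgroupOf M) := Subgroup.isNilpotent _
          exact Group.nilpotent_of_mulEquiv (Subgroup.subgroupOfEquivOfLe hKM)
        have := Cfsg.Agent.Lib.Helper1.le_fittingSubgroup hK hnil
        rw [hF, le_bot_iff] at this
        have hz' : z ∈ (⊥ : Subgroup G) := this ▸ hzK
        exact hz1 (Subgroup.mem_bot.1 hz')
      · intro k hk
        rw [eq_bot_iff]
        intro x hx
        rw [Subgroup.mem_bot]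
        obtain ⟨hx1, hx2⟩ := Subgroup.mem_inf.1 hx
        rw [Cfsg.Agent.Lib.Helper9.TIC.mem_conj_smul] at hx2
        have hxM : (x : G) ∈ M := Subgroup.mem_subgroupOf.1 hx1
        have hyM : (k : G)⁻¹ * (x : G) * (k : G) ∈ M := by
          have := Subgroup.mem_subgroupOf.1 hx2
          simpa using this
        by_contra hx1'
        have hxne : (x : G) ≠ 1 := fun h => hx1' (Subtype.ext h)
        have hyne : (k : G)⁻¹ * (x : G) * (k : G) ≠ 1 := by
          intro h
          apply hxne
          calc (x : G) = (k : G) * ((k : G)⁻¹ * (x : G) * (k : G)) * (k : G)⁻¹ := by group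
            _ = 1 := by rw [h]; group
        have hkN : (k : G) ∈ Subgroup.normalizer (M : Set G) := by
          apply hM.mem_normalizer hyM hyne
          have : (k : G) * ((k : G)⁻¹ * (x : G) * (k : G)) * (k : G)⁻¹ = x := by group
          rw [this]; exact hxM
        exact hk (Subgroup.mem_subgroupOf.2 (hd _ hkN k.2))
    exact fitting_ne_bot_of_frobeniusComplement _ hfc (fitting_subgroup_eq_bot K hF)

/-- a normal subgroup of even order is everything -/
theorem normal_eq_top_of_even (K : Subgroup G) [hK : K.Normal] (h2 : 2 ∣ Nat.card K) : K = ⊤ := by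
  haveI : Fact (Nat.Prime 2) := ⟨Nat.prime_two⟩
  obtain ⟨z', hz'⟩ := exists_prime_orderOf_dvd_card' 2 h2
  have hzo : orderOf (z' : G) = 2 := by rw [Subgroup.orderOf_coe, hz']
  have hz1 : (z' : G) ≠ 1 := by
    intro h
    rw [h, orderOf_one] at hzo
    norm_num at hzo
  obtain ⟨M, hM, hzM⟩ := exists_comp hTI hz1
  have hMK : M ≤ K := comp_le_of_normal hTI hF K hM hzM z'.2 hz1
  have hTIK := ti_subgroup hTI K
  have hFK := fitting_subgroup_eq_bot K hF
  rw [eq_top_iff]
  intro g _
  have hgz : g * (z' : G) * g⁻¹ ∈ K := hK.conj_mem _ z'.2 g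
  have hbo : orderOf (⟨g * (z' : G) * g⁻¹, hgz⟩ : K) = 2 := by
    rw [Subgroup.orderOf_mk, ← hzo]
    exact MulEquiv.orderOf_eq (MulAut.conj g) (z' : G)
  have hconj := isConj_invol_of_fitting_eq_bot hTIK hFK hz' hbo
  rw [isConj_iff] at hconj
  obtain ⟨k, hk⟩ := hconj
  have hk' : (k : G) * (z' : G) * (k : G)⁻¹ = g * (z' : G) * g⁻¹ := by
    have := congrArg Subtype.val hk
    simpa using this
  have hcz : (k : G)⁻¹ * g ∈ Subgroup.centralizer ({(z' : G)} : Set G) := by
    rw [Subgroup.mem_centralizer_singleton_iff]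
    calc (k : G)⁻¹ * g * (z' : G) = (k : G)⁻¹ * (g * (z' : G) * g⁻¹) * g := by group
      _ = (k : G)⁻¹ * ((k : G) * (z' : G) * (k : G)⁻¹) * g := by rw [hk']
      _ = (z' : G) * ((k : G)⁻¹ * g) := by group
  have hkg : (k : G)⁻¹ * g ∈ K := hMK (hM.cent _ hzM hz1 hcz)
  have : g = (k : G) * ((k : G)⁻¹ * g) := by group
  rw [this]
  exact K.mul_mem k.2 hkg

/-- (C4) `G` is simple, given that all nontrivial normal subgroups have even order -/
theorem isSimpleGroup_of_fitting_eq_bot [Nontrivial G]
    (heven : ∀ K : Subgroup G, K.Normal → K ≠ ⊥ → 2 ∣ Nat.card K) : IsSimpleGroup G := by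
  refine ⟨fun K hK => ?_⟩
  by_cases h : K = ⊥
  · exact Or.inl h
  · right
    haveI := hK
    exact normal_eq_top_of_even hTI hF K (heven K hK h)

end Main

end Cfsg.Agent.Lib.Helper3.TIC
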