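import Mathlib
import Cfsg.Agent.Lib.Helper3.TIFN9
import Cfsg.Agent.Lib.Helper3.Dade5
import Cfsg.Agent.Lib.Helper6.IndLinear

set_option autoImplicit false
set_option linter.unusedSectionVars false
set_option linter.style.haveILetI false

namespace Cfsg.Agent.Lib.Helper3.TIFN
open Cfsg Cfsg.Agent.Lib.Helper6 Cfsg.Agent.Lib.Helper3.BL
open scoped ComplexConjugate
open scoped Classical

section main
variable {G : Type*} [Group G] [Fintype G] (K : Subgroup G)
variable [Fintype ↥(Subgroup.normalizer (K : Set G))]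

/-- **S0851**: exceptional characters for an abelian TI subgroup with Frobenius normalizer. -/
theorem exists_exceptional
    (hTI : ∀ g : G, g ∉ Subgroup.normalizer (K : Set G) → ∀ k ∈ K, g * k * g⁻¹ ∈ K → k = 1)
    (hC : ∀ k ∈ K, k ≠ 1 → Subgroup.centralizer ({k} : Set G) ≤ K)
    (hab : ∀ a ∈ K, ∀ b ∈ K, a * b = b * a) :
    ∃ (ε : ℂ) (f : {χ : IrrCharacter ↥(Subgroup.normalizer (K : Set G)) //
        ∃ k : ↥(Subgroup.normalizer (K : Set G)), (k : G) ∈ K ∧
          (χ : ↥(Subgroup.normalizer (K : Set G)) → ℂ) k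
            ≠ (χ : ↥(Subgroup.normalizer (K : Set G)) → ℂ) 1} → IrrCharacter G),
      (ε = 1 ∨ ε = -1) ∧ Function.Injective f ∧ ∀ χ ξ,
        indFun (Subgroup.normalizer (K : Set G))
          ((χ.1 : ↥(Subgroup.normalizer (K : Set G)) → ℂ)
            - (ξ.1 : ↥(Subgroup.normalizer (K : Set G)) → ℂ))
          = ε • ((f χ : G → ℂ) - (f ξ : G → ℂ)) := by
  haveI : Fintype (KN K) := Fintype.ofFinite _
  have hF : FrobCond (KN K) := frobCond_KN hC
  have hcomm : ∀ a b : ↥(KN K), a * b = b * a := by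
    intro a b
    apply Subtype.ext
    apply Subtype.ext
    exact hab _ ((mem_KN K _).1 a.2) _ ((mem_KN K _).1 b.2)
  -- data attached to a relevant character
  have hdata : ∀ χ : {χ : IrrCharacter ↥(Subgroup.normalizer (K : Set G)) //
        ∃ k : ↥(Subgroup.normalizer (K : Set G)), (k : G) ∈ K ∧
          (χ : ↥(Subgroup.normalizer (K : Set G)) → ℂ) k
            ≠ (χ : ↥(Subgroup.normalizer (K : Set G)) → ℂ) 1},
      Rel (KN K) (χ.1 : ↥(Subgroup.normalizer (K : Set G)) → ℂ) ∧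
      (χ.1 : ↥(Subgroup.normalizer (K : Set G)) → ℂ) 1 = ((KN K).index : ℂ) := by
    intro χ
    have hrel : Rel (KN K) (χ.1 : ↥(Subgroup.normalizer (K : Set G)) → ℂ) :=
      (rel_iff _).2 χ.2
    refine ⟨hrel, ?_⟩
    obtain ⟨θ, -, hθ⟩ := exists_eq_indFun hF χ.1.2 hrel
    rw [hθ, indFun_one, Cfsg.Agent.Lib.Helper3.Dade.apply_one_eq_one_of_comm hcomm θ.2, mul_one]
  -- properties of the differences
  have hcf : ∀ χ ξ : {χ : IrrCharacter ↥(Subgroup.normalizer (K : Set G)) //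
        ∃ k : ↥(Subgroup.normalizer (K : Set G)), (k : G) ∈ K ∧
          (χ : ↥(Subgroup.normalizer (K : Set G)) → ℂ) k
            ≠ (χ : ↥(Subgroup.normalizer (K : Set G)) → ℂ) 1},
      IsClassFunction ↥(Subgroup.normalizer (K : Set G))
        ((χ.1 : ↥(Subgroup.normalizer (K : Set G)) → ℂ)
          - (ξ.1 : ↥(Subgroup.normalizer (K : Set G)) → ℂ)) :=
    fun χ ξ => isClassFunction_sub (IsIrrCharacter.isClassFunction χ.1.2)
      (IsIrrCharacter.isClassFunction ξ.1.2)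
  have hvan : ∀ χ ξ : {χ : IrrCharacter ↥(Subgroup.normalizer (K : Set G)) //
        ∃ k : ↥(Subgroup.normalizer (K : Set G)), (k : G) ∈ K ∧
          (χ : ↥(Subgroup.normalizer (K : Set G)) → ℂ) k
            ≠ (χ : ↥(Subgroup.normalizer (K : Set G)) → ℂ) 1},
      ∀ x : ↥(Subgroup.normalizer (K : Set G)), (x : G) ∉ K →
        ((χ.1 : ↥(Subgroup.normalizer (K : Set G)) → ℂ)
          - (ξ.1 : ↥(Subgroup.normalizer (K : Set G)) → ℂ)) x = 0 := by
    intro χ ξ x hx
    have hx' : x ∉ KN K := fun h => hx ((mem_KN K x).1 h)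
    rw [Pi.sub_apply, apply_eq_zero_of_rel hF χ.1.2 (hdata χ).1 hx',
      apply_eq_zero_of_rel hF ξ.1.2 (hdata ξ).1 hx', sub_zero]
  have hone : ∀ χ ξ : {χ : IrrCharacter ↥(Subgroup.normalizer (K : Set G)) //
        ∃ k : ↥(Subgroup.normalizer (K : Set G)), (k : G) ∈ K ∧
          (χ : ↥(Subgroup.normalizer (K : Set G)) → ℂ) k
            ≠ (χ : ↥(Subgroup.normalizer (K : Set G)) → ℂ) 1},
      ((χ.1 : ↥(Subgroup.normalizer (K : Set G)) → ℂ)
          - (ξ.1 : ↥(Subgroup.normalizer (K : Set G)) → ℂ)) 1 = 0 := by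
    intro χ ξ
    rw [Pi.sub_apply, (hdata χ).2, (hdata ξ).2, sub_self]
  have hinn : ∀ χ ξ χ' ξ' : {χ : IrrCharacter ↥(Subgroup.normalizer (K : Set G)) //
        ∃ k : ↥(Subgroup.normalizer (K : Set G)), (k : G) ∈ K ∧
          (χ : ↥(Subgroup.normalizer (K : Set G)) → ℂ) k
            ≠ (χ : ↥(Subgroup.normalizer (K : Set G)) → ℂ) 1},
      classInner (indFun (Subgroup.normalizer (K : Set G))
          ((χ.1 : ↥(Subgroup.normalizer (K : Set G)) → ℂ)
            - (ξ.1 : ↥(Subgroup.normalizer (K : Set G)) → ℂ)))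
        (indFun (Subgroup.normalizer (K : Set G))
          ((χ'.1 : ↥(Subgroup.normalizer (K : Set G)) → ℂ)
            - (ξ'.1 : ↥(Subgroup.normalizer (K : Set G)) → ℂ)))
        = (if χ.1 = χ'.1 then 1 else 0) - (if χ.1 = ξ'.1 then 1 else 0)
          - (if ξ.1 = χ'.1 then 1 else 0) + (if ξ.1 = ξ'.1 then 1 else 0) := by
    intro χ ξ χ' ξ'
    rw [classInner_indFun_indFun hTI (hcf χ ξ) (hcf χ' ξ') (hvan χ ξ) (hone χ ξ) (hvan χ' ξ'),
      classInner_sub_sub_irr]
  apply exists_coherent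
  · intro χ ξ ζ
    rw [← indFun_add]
    congr 1
    abel
  · intro χ ξ hne
    have hne' : χ.1 ≠ ξ.1 := fun h => hne (Subtype.ext h)
    apply IsGeneralizedCharacter.eq_sub_of_norm_two
    · exact IsGeneralizedCharacter.indFun _
        ⟨_, _, IsIrrCharacter.isCharacter χ.1.2, IsIrrCharacter.isCharacter ξ.1.2, rfl⟩
    · rw [hinn χ ξ χ ξ, if_pos rfl, if_pos rfl, if_neg hne', if_neg (fun h => hne' h.symm)]
      norm_num
    · rw [indFun_one, hone χ ξ, mul_zero]
  · intro χ ξ ζ h1 h2 h3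
    have h1' : χ.1 ≠ ξ.1 := fun h => h1 (Subtype.ext h)
    have h2' : χ.1 ≠ ζ.1 := fun h => h2 (Subtype.ext h)
    have h3' : ξ.1 ≠ ζ.1 := fun h => h3 (Subtype.ext h)
    rw [hinn χ ξ χ ζ, if_pos rfl, if_neg h2', if_neg (fun h => h1' h.symm), if_neg h3']
    norm_num

end main
end Cfsg.Agent.Lib.Helper3.TIFN
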