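import Mathlib
import Cfsg.Agent.Lib.Helper3.TIFN5
import Cfsg.Agent.Lib.Helper6.ProdChar

set_option autoImplicit false
set_option linter.unusedSectionVars false
set_option linter.style.haveILetI false

namespace Cfsg.Agent.Lib.Helper3.TIFN
open Cfsg Cfsg.Agent.Lib.Helper6 Cfsg.Agent.Lib.Helper3.BL
open scoped ComplexConjugate
open scoped Classical

section gcd
variable {A : Type*} [Group A] [Fintype A] [Fintype (IrrCharacter A)]

theorem ne_one_of_ne_oneIrrG {θ : IrrCharacter A} (h : θ ≠ oneIrrG A) :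
    (θ : A → ℂ) ≠ fun _ => 1 := by
  intro h1
  apply h
  exact Subtype.ext h1

theorem exists_ne_one [Nontrivial A] : ∃ θ : IrrCharacter A, θ ≠ oneIrrG A := by
  by_contra hcon
  push Not at hcon
  have h1 := sum_sq_charDegree (K := A)
  have h2 : ∀ θ : IrrCharacter A, charDegree (θ : A → ℂ) ^ 2 = 1 := by
    intro θ
    rw [hcon θ]
    have : charDegree ((oneIrrG A : IrrCharacter A) : A → ℂ) = 1 := charDegree_one
    rw [this]; rfl
  rw [Finset.sum_congr rfl (fun θ _ => h2 θ), Finset.sum_const, smul_eq_mul, mul_one] at h1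
  have h3 : (Finset.univ : Finset (IrrCharacter A)).card ≤ 1 := by
    rw [Finset.card_le_one]
    intro a _ b _
    rw [hcon a, hcon b]
  have h4 := Finite.one_lt_card (α := A)
  omega

/-- if `r θ(1)` is an integer for every nonprincipal irreducible `θ`, then `r` is an integer -/
theorem int_of_mul_degree [Nontrivial A] (r : ℂ)
    (h : ∀ θ : IrrCharacter A, θ ≠ oneIrrG A → ∃ z : ℤ, r * (θ : A → ℂ) 1 = z) :
    ∃ z : ℤ, r = z := by
  obtain ⟨θ₀, hθ₀⟩ := exists_ne_one (A := A)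
  have hdeg : ∀ θ : IrrCharacter A, (θ : A → ℂ) 1 = (charDegree (θ : A → ℂ) : ℂ) :=
    fun θ => IsCharacter.apply_one_eq_charDegree (IsIrrCharacter.isCharacter θ.2)
  have hpos : ∀ θ : IrrCharacter A, 0 < charDegree (θ : A → ℂ) :=
    fun θ => IsIrrCharacter.charDegree_pos θ.2
  obtain ⟨z₀, hz₀⟩ := h θ₀ hθ₀
  set d₀ := charDegree (θ₀ : A → ℂ) with hd₀
  have hd₀pos : 0 < d₀ := hpos θ₀
  set q : ℚ := (z₀ : ℚ) / (d₀ : ℚ) with hq
  have hqr : (q : ℂ) = r := by
    rw [hq]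
    push_cast
    rw [hdeg θ₀] at hz₀
    rw [← hz₀]
    have : (d₀ : ℂ) ≠ 0 := by exact_mod_cast hd₀pos.ne'
    field_simp
    rfl
  -- the denominator divides all degrees
  have hden : ∀ θ : IrrCharacter A, θ ≠ oneIrrG A → q.den ∣ charDegree (θ : A → ℂ) := by
    intro θ hθ
    obtain ⟨z, hz⟩ := h θ hθ
    rw [← hqr, hdeg θ] at hz
    have hz' : q * (charDegree (θ : A → ℂ) : ℚ) = (z : ℚ) := by exact_mod_cast hz
    have h1 : (q.num : ℚ) * (charDegree (θ : A → ℂ) : ℚ) = (z : ℚ) * (q.den : ℚ) := by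
      calc (q.num : ℚ) * (charDegree (θ : A → ℂ) : ℚ)
          = (q * (q.den : ℚ)) * (charDegree (θ : A → ℂ) : ℚ) := by rw [Rat.mul_den_eq_num]
        _ = (q * (charDegree (θ : A → ℂ) : ℚ)) * (q.den : ℚ) := by ring
        _ = (z : ℚ) * (q.den : ℚ) := by rw [hz']
    have h2 : q.num * (charDegree (θ : A → ℂ) : ℤ) = z * (q.den : ℤ) := by exact_mod_cast h1
    have h3 : (q.den : ℤ) ∣ q.num * (charDegree (θ : A → ℂ) : ℤ) := Dvd.intro_left z h2.symm
    have h4 := (Rat.isCoprime_num_den q).symm.dvd_of_dvd_mul_left h3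
    exact_mod_cast h4
  -- the square of the denominator divides `|A| - 1`
  have hsum := sum_sq_charDegree (K := A)
  rw [← Finset.add_sum_erase Finset.univ _ (Finset.mem_univ (oneIrrG A))] at hsum
  have hone : charDegree ((oneIrrG A : IrrCharacter A) : A → ℂ) = 1 := charDegree_one
  rw [hone] at hsum
  have hdvd1 : q.den ^ 2 ∣ ∑ θ ∈ Finset.univ.erase (oneIrrG A), charDegree (θ : A → ℂ) ^ 2 := by
    apply Finset.dvd_sum
    intro θ hθ
    exact pow_dvd_pow_of_dvd (hden θ (Finset.mem_erase.1 hθ).1) 2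
  have hdvd2 : q.den ∣ Nat.card A :=
    dvd_trans (hden θ₀ hθ₀) (IsIrrCharacter.charDegree_dvd_card θ₀.2)
  have hdvd3 : q.den ∣ ∑ θ ∈ Finset.univ.erase (oneIrrG A), charDegree (θ : A → ℂ) ^ 2 :=
    dvd_trans (dvd_pow_self _ (by norm_num)) hdvd1
  have hdvd4 : q.den ∣ 1 := by
    have := (Nat.dvd_add_right hdvd3).1 (by rw [add_comm, hsum]; exact hdvd2)
    simpa using this
  have hden1 : q.den = 1 := Nat.dvd_one.1 hdvd4
  refine ⟨q.num, ?_⟩
  rw [← hqr]
  have := Rat.coe_int_num_of_den_eq_one hden1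
  exact_mod_cast this.symm

end gcd
end Cfsg.Agent.Lib.Helper3.TIFN
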