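import Mathlib
import Cfsg.Agent.Lib.Helper3.TIFN6
import Cfsg.Agent.Lib.Helper6.Regular

set_option autoImplicit false
set_option linter.unusedSectionVars false
set_option linter.style.haveILetI false

namespace Cfsg.Agent.Lib.Helper3.TIFN
open Cfsg Cfsg.Agent.Lib.Helper6 Cfsg.Agent.Lib.Helper3.BL
open scoped ComplexConjugate
open scoped Classical

section frob
variable {M : Type*} [Group M] [Fintype M] {A : Subgroup M} [hA : A.Normal] [Fintype A]
variable [Fintype (IrrCharacter M)]

/-- value on `A#` of a class function whose relevant coefficients are proportional to degrees -/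
theorem apply_of_coeff {f : M → ℂ} (hf : IsClassFunction M f) (c' : ℂ)
    (hc : ∀ χ : IrrCharacter M, Rel A (χ : M → ℂ) → classInner f (χ : M → ℂ) = c' * (χ : M → ℂ) 1)
    (x : A) (hx : x ≠ 1) : f x =
      ∑ χ ∈ Finset.univ.filter (fun χ : IrrCharacter M => ¬ Rel A (χ : M → ℂ)),
        classInner f (χ : M → ℂ) * (χ : M → ℂ) 1
      - c' * ∑ χ ∈ Finset.univ.filter (fun χ : IrrCharacter M => ¬ Rel A (χ : M → ℂ)),
        (χ : M → ℂ) 1 * (χ : M → ℂ) 1 := by
  have h1 := congrFun (classFunction_eq_sum f hf) (x : M)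
  rw [Finset.sum_apply] at h1
  simp only [Pi.smul_apply, smul_eq_mul] at h1
  rw [← Finset.sum_filter_add_sum_filter_not Finset.univ
    (fun χ : IrrCharacter M => Rel A (χ : M → ℂ))] at h1
  have h2 : ∑ χ ∈ Finset.univ.filter (fun χ : IrrCharacter M => Rel A (χ : M → ℂ)),
      classInner f (χ : M → ℂ) * (χ : M → ℂ) x
      = c' * ∑ χ ∈ Finset.univ.filter (fun χ : IrrCharacter M => Rel A (χ : M → ℂ)),
        (χ : M → ℂ) 1 * (χ : M → ℂ) x := by
    rw [Finset.mul_sum]
    apply Finset.sum_congr rfl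
    intro χ hχ
    rw [Finset.mem_filter] at hχ
    rw [hc χ hχ.2, mul_assoc]
  have h3 : ∑ χ ∈ Finset.univ.filter (fun χ : IrrCharacter M => ¬ Rel A (χ : M → ℂ)),
      classInner f (χ : M → ℂ) * (χ : M → ℂ) x
      = ∑ χ ∈ Finset.univ.filter (fun χ : IrrCharacter M => ¬ Rel A (χ : M → ℂ)),
        classInner f (χ : M → ℂ) * (χ : M → ℂ) 1 := by
    apply Finset.sum_congr rfl
    intro χ hχ
    rw [Finset.mem_filter] at hχ
    have : (χ : M → ℂ) x = (χ : M → ℂ) 1 := by
      by_contra h
      exact hχ.2 ⟨x, h⟩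
    rw [this]
  rw [h2, h3, sum_rel_deg_mul x hx] at h1
  rw [h1]; ring

/-- the sum of the squares of the degrees of the non-relevant characters is the index -/
theorem sum_nonrel_sq :
    ∑ χ ∈ Finset.univ.filter (fun χ : IrrCharacter M => ¬ Rel A (χ : M → ℂ)),
        (χ : M → ℂ) 1 * (χ : M → ℂ) 1 = (A.index : ℂ) := by
  set R₀ := ∑ χ ∈ Finset.univ.filter (fun χ : IrrCharacter M => ¬ Rel A (χ : M → ℂ)),
        (χ : M → ℂ) 1 * (χ : M → ℂ) 1 with hR₀
  -- g(k) := Σ_{Rel} χ(1) χ(k)
  set g : A → ℂ := fun k => ∑ χ ∈ Finset.univ.filter (fun χ : IrrCharacter M =>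
    Rel A (χ : M → ℂ)), (χ : M → ℂ) 1 * (χ : M → ℂ) k with hg
  have hg1 : g 1 = (Nat.card M : ℂ) - R₀ := by
    have h1 := sum_sq_degree (G := M)
    rw [← Finset.sum_filter_add_sum_filter_not Finset.univ
      (fun χ : IrrCharacter M => Rel A (χ : M → ℂ))] at h1
    have e1 : g 1 = ∑ χ ∈ Finset.univ.filter (fun χ : IrrCharacter M => Rel A (χ : M → ℂ)),
        (χ : M → ℂ) 1 ^ 2 := by
      rw [hg]
      apply Finset.sum_congr rfl
      intro χ _
      simp [sq]
    have e2 : R₀ = ∑ χ ∈ Finset.univ.filter (fun χ : IrrCharacter M => ¬ Rel A (χ : M → ℂ)),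
        (χ : M → ℂ) 1 ^ 2 := by
      rw [hR₀]
      apply Finset.sum_congr rfl
      intro χ _
      rw [sq]
    rw [e1, e2, ← h1]; ring
  have hgk : ∀ k : A, k ≠ 1 → g k = -R₀ := fun k hk => sum_rel_deg_mul k hk
  have hsum0 : ∑ k : A, g k = 0 := by
    rw [hg]
    rw [Finset.sum_comm]
    apply Finset.sum_eq_zero
    intro χ hχ
    rw [Finset.mem_filter] at hχ
    rw [← Finset.mul_sum, sum_eq_zero_of_rel χ.2 hχ.2, mul_zero]
  rw [← Finset.add_sum_erase Finset.univ g (Finset.mem_univ (1 : A))] at hsum0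
  have hrest : ∑ k ∈ Finset.univ.erase (1 : A), g k
      = ((Nat.card A : ℂ) - 1) * (-R₀) := by
    rw [Finset.sum_congr rfl (fun k hk => hgk k (Finset.mem_erase.1 hk).1), Finset.sum_const,
      Finset.card_erase_of_mem (Finset.mem_univ _), Finset.card_univ, nsmul_eq_mul,
      ← Nat.card_eq_fintype_card]
    have : 1 ≤ Nat.card A := Nat.card_pos
    push_cast [this]
    ring
  rw [hg1, hrest] at hsum0
  have hA0 := card_ne_zero_complex A
  have hidx : (A.index : ℂ) * (Nat.card A : ℂ) = (Nat.card M : ℂ) := by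
    exact_mod_cast A.index_mul_card
  have : R₀ * (Nat.card A : ℂ) = (A.index : ℂ) * (Nat.card A : ℂ) := by
    rw [hidx]; linear_combination -hsum0
  exact mul_right_cancel₀ hA0 this

variable (hF : FrobCond A)
include hF

/-- induced characters are relevant -/
theorem indFun_rel {θ : A → ℂ} (hθ : IsIrrCharacter A θ) (hne : θ ≠ fun _ => 1) :
    Rel A (indFun A θ) := by
  by_contra hcon
  have hconst : ∀ a : A, indFun A θ a = indFun A θ 1 := by
    intro a
    by_contra h
    exact hcon ⟨a, h⟩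
  have hirr := indFun_isIrr hF hθ hne
  have h1 := Cfsg.Agent.S0146.result A θ (indFun A θ) (IsIrrCharacter.isClassFunction hirr)
  rw [classInner_isIrrCharacter hirr hirr, if_pos rfl] at h1
  have h2 : classInner θ (fun a : A => indFun A θ a) = 0 := by
    have e : (fun a : A => indFun A θ a) = (indFun A θ 1) • (fun _ : A => (1 : ℂ)) := by
      funext a
      simp [hconst a]
    rw [e, classInner_smul_right]
    have := classInner_isIrrCharacter hθ (oneIrrG A).2
    have h3 : ((oneIrrG A : IrrCharacter A) : A → ℂ) = fun _ => 1 := rfl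
    rw [h3, if_neg hne] at this
    rw [this, mul_zero]
  rw [h2] at h1
  exact one_ne_zero h1

end frob
end Cfsg.Agent.Lib.Helper3.TIFN
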