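import Mathlib
import Cfsg.Agent.Lib.Helper3.TIFN7

set_option autoImplicit false
set_option linter.unusedSectionVars false
set_option linter.style.haveILetI false

namespace Cfsg.Agent.Lib.Helper3.TIFN
open Cfsg Cfsg.Agent.Lib.Helper6 Cfsg.Agent.Lib.Helper3.BL
open scoped ComplexConjugate
open scoped Classical

section main
variable {G : Type*} [Group G] [Fintype G] {K : Subgroup G}
variable [Fintype ↥(Subgroup.normalizer (K : Set G))]
variable [Fintype (IrrCharacter ↥(Subgroup.normalizer (K : Set G)))] [Fintype (KN K)]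
variable [Fintype (IrrCharacter ↥(KN K))]
variable {S : Set (↥(Subgroup.normalizer (K : Set G)) → ℂ)}
  {star : (↥(Subgroup.normalizer (K : Set G)) → ℂ) → (G → ℂ)}

namespace Hyp

/-- the difference `(star χ)|_N - χ` -/
def diff (star : (↥(Subgroup.normalizer (K : Set G)) → ℂ) → (G → ℂ))
    (χ : ↥(Subgroup.normalizer (K : Set G)) → ℂ) :
    ↥(Subgroup.normalizer (K : Set G)) → ℂ :=
  (fun x : ↥(Subgroup.normalizer (K : Set G)) => star χ x) - χ

theorem diff_isClassFunction (h : Hyp K S star) {χ : ↥(Subgroup.normalizer (K : Set G)) → ℂ}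
    (hχ : χ ∈ S) : IsClassFunction ↥(Subgroup.normalizer (K : Set G)) (diff star χ) :=
  isClassFunction_sub
    (restrict_isClassFunction (IsGeneralizedCharacter.isClassFunction (h.star_isGen hχ)) _)
    (IsIrrCharacter.isClassFunction (h.irr hχ))

theorem diff_orth (h : Hyp K S star) {χ : ↥(Subgroup.normalizer (K : Set G)) → ℂ}
    (hχ : χ ∈ S) (χ' ξ' : IrrCharacter ↥(Subgroup.normalizer (K : Set G)))
    (hχ' : Rel (KN K) (χ' : ↥(Subgroup.normalizer (K : Set G)) → ℂ))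
    (hξ' : Rel (KN K) (ξ' : ↥(Subgroup.normalizer (K : Set G)) → ℂ)) :
    classInner (diff star χ) (alpha (χ' : ↥(Subgroup.normalizer (K : Set G)) → ℂ)
      (ξ' : ↥(Subgroup.normalizer (K : Set G)) → ℂ)) = 0 := by
  have hχS : (χ' : ↥(Subgroup.normalizer (K : Set G)) → ℂ) ∈ S := (h.mem_S _).2 ⟨χ'.2, hχ'⟩
  have hξS : (ξ' : ↥(Subgroup.normalizer (K : Set G)) → ℂ) ∈ S := (h.mem_S _).2 ⟨ξ'.2, hξ'⟩
  unfold diff
  rw [classInner_sub_left]
  have hcf := IsGeneralizedCharacter.isClassFunction (h.star_isGen hχ)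
  rw [← classInner_conj_symm _ (fun x : ↥(Subgroup.normalizer (K : Set G)) => star χ x),
    ← Cfsg.Agent.S0146.result _ _ (star χ) hcf,
    ← h.star_alpha_eq_ind hχS hξS, h.inner_star_alpha hχS hξS hχ, classInner_conj_symm,
    sub_self]

/-- Step 1: the difference is constant on `K#` -/
theorem diff_const (h : Hyp K S star) {χ : ↥(Subgroup.normalizer (K : Set G)) → ℂ}
    (hχ : χ ∈ S) (a b : KN K) (ha : a ≠ 1) (hb : b ≠ 1) :
    diff star χ a = diff star χ b :=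
  const_of_alpha (A := KN K) (h.diff_isClassFunction hχ) (h.diff_orth hχ) a b ha hb

/-- Step 2: the cross relation -/
theorem cross (h : Hyp K S star) {χ ξ : ↥(Subgroup.normalizer (K : Set G)) → ℂ}
    (hχ : χ ∈ S) (hξ : ξ ∈ S) (k : ↥(Subgroup.normalizer (K : Set G))) (hk : (k : G) ∈ K)
    (hk1 : k ≠ 1) :
    ξ 1 * diff star χ k = χ 1 * diff star ξ k := by
  have hχi := h.irr hχ
  have hξi := h.irr hξ
  have e1 := congrFun (h.star_alpha hχ hξ) (k : G)
  have e2 := congrFun (h.star_alpha_eq_ind hχ hξ) (k : G)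
  have hvan : ∀ x : ↥(Subgroup.normalizer (K : Set G)), (x : G) ∉ K → alpha χ ξ x = 0 := by
    intro x hx
    exact alpha_vanish h.frob hχi hξi (h.rel hχ) (h.rel hξ)
      (fun hmem => hx ((mem_KN K x).1 hmem))
  have e3 := indFun_apply_of_mem h.hTI
    (alpha_isClassFunction (IsIrrCharacter.isClassFunction hχi)
      (IsIrrCharacter.isClassFunction hξi)) hvan k hk hk1
  rw [e2, e3] at e1
  simp only [alpha, Pi.sub_apply, Pi.smul_apply, smul_eq_mul] at e1
  simp only [diff, Pi.sub_apply]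
  linear_combination -e1

/-- the coefficients of the difference are integers -/
theorem diff_coeff_int (h : Hyp K S star) {χ : ↥(Subgroup.normalizer (K : Set G)) → ℂ}
    (hχ : χ ∈ S) (ξ' : IrrCharacter ↥(Subgroup.normalizer (K : Set G))) :
    ∃ z : ℤ, classInner (diff star χ) (ξ' : ↥(Subgroup.normalizer (K : Set G)) → ℂ) = z := by
  unfold diff
  rw [classInner_sub_left]
  obtain ⟨ψ, hψ⟩ := h.star_eq hχ
  obtain ⟨n, hn⟩ := IsCharacter.classInner_irr_nat
    (IsCharacter.restrict (Subgroup.normalizer (K : Set G)) (IsIrrCharacter.isCharacter ψ.2)) ξ'.2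
  have h2 : ∃ z2 : ℤ, classInner χ (ξ' : ↥(Subgroup.normalizer (K : Set G)) → ℂ) = z2 := by
    rw [classInner_isIrrCharacter (h.irr hχ) ξ'.2]
    by_cases hh : χ = (ξ' : ↥(Subgroup.normalizer (K : Set G)) → ℂ)
    · exact ⟨1, by rw [if_pos hh]; simp⟩
    · exact ⟨0, by rw [if_neg hh]; simp⟩
  obtain ⟨z2, hz2⟩ := h2
  rcases hψ with e | e
  · refine ⟨(n : ℤ) - z2, ?_⟩
    rw [e, hn, hz2]; push_cast; ring
  · refine ⟨-(n : ℤ) - z2, ?_⟩
    have e' : (fun x : ↥(Subgroup.normalizer (K : Set G)) => star χ x)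
        = -(fun x : ↥(Subgroup.normalizer (K : Set G)) => (ψ : G → ℂ) x) := by
      funext x
      rw [e]; rfl
    rw [e', classInner_neg_left, hn, hz2]; push_cast; ring

/-- the induced characters `θ^N` as members of `S` -/
theorem ind_mem_S (h : Hyp K S star) (θ : IrrCharacter ↥(KN K)) (hθ : θ ≠ oneIrrG ↥(KN K)) :
    indFun (KN K) (θ : ↥(KN K) → ℂ) ∈ S :=
  (h.mem_S _).2 ⟨indFun_isIrr h.frob θ.2 (ne_one_of_ne_oneIrrG hθ),
    indFun_rel h.frob θ.2 (ne_one_of_ne_oneIrrG hθ)⟩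

/-- Step 3: the constant value of the difference is an integer -/
theorem diff_int (h : Hyp K S star) {χ : ↥(Subgroup.normalizer (K : Set G)) → ℂ}
    (hχ : χ ∈ S) (k₀ : KN K) (hk₀ : k₀ ≠ 1) :
    ∃ z : ℤ, diff star χ k₀ = z := by
  haveI : Nontrivial ↥(KN K) := ⟨⟨k₀, 1, hk₀⟩⟩
  obtain ⟨c', hc'⟩ := exists_prop_of_pairwise (A := KN K)
    (fun ξ' => classInner (diff star χ) (ξ' : ↥(Subgroup.normalizer (K : Set G)) → ℂ)) (by
    intro χ' ξ' hχ' hξ'
    have := h.diff_orth hχ χ' ξ' hχ' hξ'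
    rw [classInner_alpha_right _ (IsIrrCharacter.isCharacter χ'.2)
      (IsIrrCharacter.isCharacter ξ'.2)] at this
    exact sub_eq_zero.1 this)
  have hval := apply_of_coeff (A := KN K) (h.diff_isClassFunction hχ) c' hc' k₀ hk₀
  rw [sum_nonrel_sq] at hval
  -- first sum is an integer
  have hT : ∃ T : ℤ, ∑ ξ' ∈ Finset.univ.filter
      (fun ξ' : IrrCharacter ↥(Subgroup.normalizer (K : Set G)) =>
        ¬ Rel (KN K) (ξ' : ↥(Subgroup.normalizer (K : Set G)) → ℂ)),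
      classInner (diff star χ) (ξ' : ↥(Subgroup.normalizer (K : Set G)) → ℂ)
        * (ξ' : ↥(Subgroup.normalizer (K : Set G)) → ℂ) 1 = T := by
    have hterm : ∀ ξ' : IrrCharacter ↥(Subgroup.normalizer (K : Set G)), ∃ t : ℤ,
        classInner (diff star χ) (ξ' : ↥(Subgroup.normalizer (K : Set G)) → ℂ)
        * (ξ' : ↥(Subgroup.normalizer (K : Set G)) → ℂ) 1 = t := by
      intro ξ'
      obtain ⟨z, hz⟩ := h.diff_coeff_int hχ ξ'
      refine ⟨z * (charDegree (ξ' : ↥(Subgroup.normalizer (K : Set G)) → ℂ) : ℤ), ?_⟩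
      rw [hz, IsCharacter.apply_one_eq_charDegree (IsIrrCharacter.isCharacter ξ'.2)]
      push_cast; ring
    choose t ht using hterm
    refine ⟨∑ ξ' ∈ Finset.univ.filter
      (fun ξ' : IrrCharacter ↥(Subgroup.normalizer (K : Set G)) =>
        ¬ Rel (KN K) (ξ' : ↥(Subgroup.normalizer (K : Set G)) → ℂ)), t ξ', ?_⟩
    push_cast
    exact Finset.sum_congr rfl (fun ξ' _ => ht ξ')
  obtain ⟨T, hT⟩ := hT
  -- `c' * e` is an integer
  obtain ⟨w, hw⟩ := int_of_mul_degree (A := ↥(KN K)) (c' * ((KN K).index : ℂ)) (by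
    intro θ hθ
    have hmem := h.ind_mem_S θ hθ
    have hirr := h.irr hmem
    have hrel := h.rel hmem
    obtain ⟨z, hz⟩ := h.diff_coeff_int hχ ⟨_, hirr⟩
    refine ⟨z, ?_⟩
    rw [← hz, hc' ⟨_, hirr⟩ hrel]
    show c' * ((KN K).index : ℂ) * (θ : ↥(KN K) → ℂ) 1
      = c' * indFun (KN K) (θ : ↥(KN K) → ℂ) 1
    rw [indFun_one]; ring)
  refine ⟨T - w, ?_⟩
  rw [hval, hT, hw]; push_cast; ring

/-- **S0853**. -/
theorem exists_shift (h : Hyp K S star) (htwo : ∃ χ ∈ S, ∃ ξ ∈ S, χ ≠ ξ) :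
    ∃ m : ℤ, ∀ χ ∈ S, ∀ k : ↥(Subgroup.normalizer (K : Set G)), (k : G) ∈ K → k ≠ 1 →
      star χ k - χ k = (m : ℂ) * χ 1 / ((KN K).index : ℂ) := by
  by_cases hk : ∃ k₀ : KN K, k₀ ≠ 1
  · obtain ⟨k₀, hk₀⟩ := hk
    haveI : Nontrivial ↥(KN K) := ⟨⟨k₀, 1, hk₀⟩⟩
    obtain ⟨χ₀, hχ₀, -⟩ := htwo
    have hk₀K : ((k₀ : ↥(Subgroup.normalizer (K : Set G))) : G) ∈ K := (mem_KN K _).1 k₀.2
    have hk₀1 : (k₀ : ↥(Subgroup.normalizer (K : Set G))) ≠ 1 :=
      fun hh => hk₀ (Subtype.ext hh)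
    have hχ₀1 : χ₀ 1 ≠ 0 := IsIrrCharacter.apply_one_ne_zero (h.irr hχ₀)
    have he0 : ((KN K).index : ℂ) ≠ 0 := by
      have : (KN K).index ≠ 0 := Subgroup.index_ne_zero_of_finite
      exact_mod_cast this
    set c := diff star χ₀ k₀ / χ₀ 1 with hc
    have hD : ∀ χ ∈ S, diff star χ k₀ = χ 1 * c := by
      intro χ hχ
      have := h.cross hχ hχ₀ k₀ hk₀K hk₀1
      rw [hc]
      field_simp
      linear_combination this
    obtain ⟨m, hm⟩ := int_of_mul_degree (A := ↥(KN K)) (((KN K).index : ℂ) * c) (by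
      intro θ hθ
      have hmem := h.ind_mem_S θ hθ
      obtain ⟨z, hz⟩ := h.diff_int hmem k₀ hk₀
      refine ⟨z, ?_⟩
      rw [← hz, hD _ hmem, indFun_one]; ring)
    refine ⟨m, ?_⟩
    intro χ hχ k hkK hk1
    have h1 := h.diff_const hχ ⟨k, (mem_KN K _).2 hkK⟩ k₀
      (fun hh => hk1 (congrArg Subtype.val hh)) hk₀
    have h2 : star χ k - χ k = diff star χ k := rfl
    rw [h2]
    have h3 : diff star χ k = diff star χ k₀ := h1
    rw [h3, hD χ hχ, ← hm]
    field_simp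
  · push Not at hk
    refine ⟨0, ?_⟩
    intro χ hχ k hkK hk1
    exfalso
    apply hk1
    have := hk ⟨k, (mem_KN K _).2 hkK⟩
    exact congrArg Subtype.val this

end Hyp
end main
end Cfsg.Agent.Lib.Helper3.TIFN
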