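import Mathlib
import Cfsg.Agent.Lib.Helper3.TT19

set_option autoImplicit false

/-! Maximum commuting sets of 3-transpositions: normalizer contains a Sylow 2-subgroup and is
doubly transitive. -/

namespace Cfsg.Agent.Lib.Helper3.TT

open Cfsg

universe u

variable {G : Type u} [Group G] {D : Set G}

/-- members of `D` inside a 2-subgroup commute -/
theorem comm_of_mem_two_group (h : TSet D) (Q : Subgroup G) (hQ : IsPGroup 2 ↥Q) {a b : G}
    (ha : a ∈ D) (hb : b ∈ D) (haQ : a ∈ Q) (hbQ : b ∈ Q) : a * b = b * a := by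
  rcases h.three a ha b hb with hh | hh
  · exact hh
  · obtain ⟨k, hk⟩ := hQ ⟨a * b, Q.mul_mem haQ hbQ⟩
    have hk' : (a * b) ^ (2 ^ k) = 1 := by
      have := congrArg Subtype.val hk
      simpa using this
    have h1 : a * b = 1 := by
      apply eq_one_of_pow_coprime hk' hh
      exact Nat.Coprime.pow_left k (by norm_num)
    have h2 : a = b := by
      have : a = b⁻¹ := eq_inv_of_mul_eq_one_left h1
      rw [this, h.inv hb]
    rw [h2]

/-- a maximum commuting set inside a 2-subgroup consists of all the members of `D` in it -/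
theorem eq_inter_of_max [Finite G] (h : TSet D) {E : Set G} (hE : E ⊆ D)
    (hmax : ∀ E' : Set G, E' ⊆ D → (∀ a ∈ E', ∀ b ∈ E', Commute a b) → E'.ncard ≤ E.ncard)
    (Q : Subgroup G) (hQ : IsPGroup 2 ↥Q) (hEQ : E ⊆ (Q : Set G)) :
    E = {x : G | x ∈ D ∧ x ∈ Q} := by
  apply Set.eq_of_subset_of_ncard_le
  · intro x hx
    exact ⟨hE hx, hEQ hx⟩
  · apply hmax
    · intro x hx; exact hx.1
    · intro a ha b hb
      exact comm_of_mem_two_group h Q hQ ha.1 hb.1 ha.2 hb.2
  · exact Set.toFinite _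

/-- Sylow's theorem inside a subgroup: two 2-subgroups of `H`, one conjugated into a 2-group
containing the other. -/
theorem sylow_in_subgroup [Finite G] (H A B : Subgroup G) (hA : A ≤ H) (hB : B ≤ H)
    (hpA : IsPGroup 2 ↥A) (hpB : IsPGroup 2 ↥B) :
    ∃ k ∈ H, ∃ Q : Subgroup G, IsPGroup 2 ↥Q ∧ A ≤ Q ∧ ∀ x ∈ B, k * x * k⁻¹ ∈ Q := by
  haveI : Fact (Nat.Prime 2) := ⟨Nat.prime_two⟩
  have h1 : IsPGroup 2 ↥(A.subgroupOf H) := hpA.comap_subtype
  have h2 : IsPGroup 2 ↥(B.subgroupOf H) := hpB.comap_subtype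
  obtain ⟨Q1, hQ1⟩ := h1.exists_le_sylow
  obtain ⟨Q2, hQ2⟩ := h2.exists_le_sylow
  obtain ⟨k, hk⟩ := MulAction.exists_smul_eq ↥H Q2 Q1
  refine ⟨k.1, k.2, (Q1 : Subgroup ↥H).map H.subtype, Q1.isPGroup'.map _, ?_, ?_⟩
  · intro x hx
    exact ⟨⟨x, hA hx⟩, hQ1 (by rw [Subgroup.mem_subgroupOf]; exact hx), rfl⟩
  · intro x hx
    have hx2 : (⟨x, hB hx⟩ : ↥H) ∈ (Q2 : Subgroup ↥H) :=
      hQ2 (by rw [Subgroup.mem_subgroupOf]; exact hx)
    have hx1 : k * ⟨x, hB hx⟩ * k⁻¹ ∈ ((k • Q2 : Sylow 2 ↥H) : Subgroup ↥H) := by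
      rw [Sylow.coe_subgroup_smul]
      exact Subgroup.smul_mem_pointwise_smul _ (MulAut.conj k) _ hx2
    rw [hk] at hx1
    exact ⟨k * ⟨x, hB hx⟩ * k⁻¹, hx1, rfl⟩

/-- if conjugation by `g` maps `E` onto `E` then `g` normalizes `E` -/
theorem mem_normalizer_of_image_eq {E : Set G} {g : G}
    (hg : (fun x => g * x * g⁻¹) '' E = E) : g ∈ Subgroup.normalizer E := by
  rw [Subgroup.mem_set_normalizer_iff]
  intro x
  constructor
  · intro hx
    rw [← hg]
    exact ⟨x, hx, rfl⟩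
  · intro hx
    rw [← hg] at hx
    obtain ⟨x', hx', he⟩ := hx
    have : x' = x := mul_left_cancel (mul_right_cancel he)
    rw [← this]; exact hx'

theorem max_commuting_normalizer [Finite G] (hG : IsThreeTranspositionGroup D)
    (hprim : IsPrimitiveUnderConj D) (hw : ∃ a ∈ D, ∃ b ∈ D, a ≠ b ∧ Commute a b)
    {E : Set G} (hE : E ⊆ D) (hc : ∀ a ∈ E, ∀ b ∈ E, Commute a b)
    (hmax : ∀ E' : Set G, E' ⊆ D → (∀ a ∈ E', ∀ b ∈ E', Commute a b) → E'.ncard ≤ E.ncard) :
    (∃ P : Sylow 2 G, (P : Subgroup G) ≤ Subgroup.normalizer E) ∧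
      ∀ a ∈ E, ∀ b ∈ E, ∀ c ∈ E, ∀ d ∈ E, a ≠ b → c ≠ d →
        ∃ g ∈ Subgroup.normalizer E, g * a * g⁻¹ = c ∧ g * b * g⁻¹ = d := by
  classical
  haveI : Fact (Nat.Prime 2) := ⟨Nat.prime_two⟩
  have hT := TSet.of_group hG
  have hc' : ∀ a ∈ E, ∀ b ∈ E, a * b = b * a := fun a ha b hb => (hc a ha b hb).eq
  have hpE : IsPGroup 2 ↥(Subgroup.closure E) := isPGroup_two_closure (fun s hs => hT.sq s (hE hs)) hc'
  constructor
  · obtain ⟨P, hP⟩ := hpE.exists_le_sylow
    refine ⟨P, ?_⟩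
    have hEP : E = {x : G | x ∈ D ∧ x ∈ (P : Subgroup G)} :=
      eq_inter_of_max hT hE hmax P P.isPGroup' (fun x hx => hP (Subgroup.subset_closure hx))
    intro g hg
    rw [Subgroup.mem_set_normalizer_iff]
    intro x
    rw [hEP]
    constructor
    · rintro ⟨hxD, hxP⟩
      exact ⟨hT.conj g x hxD, Subgroup.mul_mem _ (Subgroup.mul_mem _ hg hxP) (Subgroup.inv_mem _ hg)⟩
    · rintro ⟨hxD, hxP⟩
      constructor
      · have := hT.conj' hxD g
        have e : g⁻¹ * (g * x * g⁻¹) * g = x := by group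
        rw [e] at this; exact this
      · have := Subgroup.mul_mem _ (Subgroup.mul_mem _ (Subgroup.inv_mem _ hg) hxP) hg
        have e : g⁻¹ * (g * x * g⁻¹) * g = x := by group
        rw [e] at this; exact this
  · intro a ha b hb c hcE d hdE hab hcd
    -- first move `(a, b)` to `(c, d)` by some element of `G`
    obtain ⟨g0, hg1, hg2⟩ := pair_trans_D hT hG hprim hw ⟨a, hE ha⟩ ⟨b, hE hb⟩ ⟨c, hE hcE⟩
      ⟨d, hE hdE⟩ (fun hh => hab (Subtype.ext_iff.mp hh)) (fun hh => hh (hc' a ha b hb))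
      (fun hh => hcd (Subtype.ext_iff.mp hh)) (fun hh => hh (hc' c hcE d hdE))
    have hga : g0 * a * g0⁻¹ = c := Subtype.ext_iff.mp hg1
    have hgb : g0 * b * g0⁻¹ = d := Subtype.ext_iff.mp hg2
    -- the conjugate set
    set E1 : Set G := (fun x => g0 * x * g0⁻¹) '' E with hE1
    have hE1D : E1 ⊆ D := by
      rintro _ ⟨x, hx, rfl⟩
      exact hT.conj g0 x (hE hx)
    have hE1c : ∀ x ∈ E1, ∀ y ∈ E1, x * y = y * x := by
      rintro _ ⟨x, hx, rfl⟩ _ ⟨y, hy, rfl⟩
      exact conj_comm_iff.mpr (hc' x hx y hy)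
    have hcE1 : c ∈ E1 := ⟨a, ha, hga⟩
    have hdE1 : d ∈ E1 := ⟨b, hb, hgb⟩
    have hpE1 : IsPGroup 2 ↥(Subgroup.closure E1) := isPGroup_two_closure (fun s hs => hT.sq s (hE1D hs)) hE1c
    -- both lie in the centralizer of `{c, d}`
    set H : Subgroup G := Subgroup.centralizer ({c, d} : Set G) with hH
    have hAH : Subgroup.closure E ≤ H := by
      rw [Subgroup.closure_le]
      intro x hx
      rw [SetLike.mem_coe, hH, Subgroup.mem_centralizer_iff]
      intro m hm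
      rcases hm with rfl | rfl
      · exact hc' _ hcE x hx
      · exact hc' _ hdE x hx
    have hBH : Subgroup.closure E1 ≤ H := by
      rw [Subgroup.closure_le]
      intro x hx
      rw [SetLike.mem_coe, hH, Subgroup.mem_centralizer_iff]
      intro m hm
      rcases hm with rfl | rfl
      · exact hE1c _ hcE1 x hx
      · exact hE1c _ hdE1 x hx
    obtain ⟨k, hkH, Q, hQ, hAQ, hBQ⟩ :=
      sylow_in_subgroup H (Subgroup.closure E) (Subgroup.closure E1) hAH hBH hpE hpE1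
    have hEQ : E = {x : G | x ∈ D ∧ x ∈ Q} :=
      eq_inter_of_max hT hE hmax Q hQ (fun x hx => hAQ (Subgroup.subset_closure hx))
    have hinj : Function.Injective (fun x : G => (k * g0) * x * (k * g0)⁻¹) := by
      intro x y hxy
      exact mul_left_cancel (mul_right_cancel hxy)
    have himg : (fun x => (k * g0) * x * (k * g0)⁻¹) '' E = E := by
      apply Set.eq_of_subset_of_ncard_le
      · rintro _ ⟨x, hx, rfl⟩
        rw [hEQ]
        refine ⟨hT.conj _ x (hE hx), ?_⟩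
        have e : k * g0 * x * (k * g0)⁻¹ = k * (g0 * x * g0⁻¹) * k⁻¹ := by group
        show k * g0 * x * (k * g0)⁻¹ ∈ Q
        rw [e]
        exact hBQ _ (Subgroup.subset_closure ⟨x, hx, rfl⟩)
      · rw [Set.ncard_image_of_injective _ hinj]
      · exact Set.toFinite _
    have hkc : c * k = k * c := by
      rw [hH, Subgroup.mem_centralizer_iff] at hkH
      exact hkH c (by simp)
    have hkd : d * k = k * d := by
      rw [hH, Subgroup.mem_centralizer_iff] at hkH
      exact hkH d (by simp)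
    refine ⟨k * g0, mem_normalizer_of_image_eq himg, ?_, ?_⟩
    · calc k * g0 * a * (k * g0)⁻¹ = k * (g0 * a * g0⁻¹) * k⁻¹ := by group
        _ = k * c * k⁻¹ := by rw [hga]
        _ = c := by rw [← hkc]; group
    · calc k * g0 * b * (k * g0)⁻¹ = k * (g0 * b * g0⁻¹) * k⁻¹ := by group
        _ = k * d * k⁻¹ := by rw [hgb]
        _ = d := by rw [← hkd]; group

end Cfsg.Agent.Lib.Helper3.TT
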