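import Mathlib
import Cfsg.Agent.Lib.Helper3.TT3

set_option autoImplicit false

/-! 3-transposition groups: when `d^⊥ = V_d` has two members, `G` is generated by an `S₄`-string. -/

namespace Cfsg.Agent.Lib.Helper3.TT

open Cfsg

universe u

variable {G : Type u} [Group G]

/-- for `u, u'` distinct of the same perp and `f` commuting with neither, `u u'` moves `f` -/
theorem TSet.sameP_conj_ne {D : Set G} (h : TSet D) {u u' f : G} (hu : u ∈ D) (hu' : u' ∈ D)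
    (hf : f ∈ D) (hs : SameP D u u') (hne : u ≠ u') (hfu : f * u ≠ u * f) :
    (u * u') * f * (u * u')⁻¹ ≠ f := by
  intro hh
  have hfu' : f * u' ≠ u' * f := by
    intro h1
    exact hfu ((hs f hf).mp h1.symm).symm
  have huu : u * u' = u' * u := hs.comm hu'
  have h1 := h.string_conj hu hf hu' hfu hfu' huu
  -- `f (u u') f = u u'` since `u u'` commutes with `f`
  have hc : (u * u') * f = f * (u * u') := by
    calc (u * u') * f = ((u * u') * f * (u * u')⁻¹) * (u * u') := by group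
      _ = f * (u * u') := by rw [hh]
  have e1 : f * (u * u') * f = u * u' := by
    rw [← hc, mul_assoc, h.sq f hf, mul_one]
  rw [e1] at h1
  apply hne
  rw [← h1]
  calc u = (u * u') * u * (u' * u)⁻¹ := by
        rw [mul_inv_rev, h.inv hu, h.inv hu']
        calc u = u * (u' * u') * (u * u) := by rw [h.sq u hu, h.sq u' hu', mul_one, mul_one]
          _ = u * u' * (u' * u) * u := by group
          _ = u * u' * (u * u') * u := by rw [huu]
          _ = u * u' * u * (u' * u) := by group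
          _ = _ := by rw [huu]
    _ = (u * u') * u * (u * u')⁻¹ := by rw [huu]

/-- the main closure lemma for `S5355` -/
theorem perp_two_closure [Finite G] {D : Set G} (hD : IsThreeTranspositionClass D)
    (hD2 : ∃ a ∈ D, ∃ b ∈ D, a ≠ b) {d : G} (hd : d ∈ D)
    (hV : ∀ y ∈ D, d * y = y * d → SameP D d y)
    (hm : {y : G | y ∈ D ∧ Commute d y}.ncard = 2) :
    ∃ e d' : G, e ∈ D ∧ d' ∈ D ∧ d ≠ d' ∧ d * d' = d' * d ∧ e * d ≠ d * e ∧ e * d' ≠ d' * e ∧
      ∀ S : Subgroup G, d ∈ S → e ∈ S → d' ∈ S → D ⊆ S := by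
  have h := TSet.of_class hD
  -- F1
  have F1 : ∀ x ∈ D, ∀ y ∈ D, x * y = y * x → SameP D x y := by
    intro x hx y hy hxy
    obtain ⟨g, hg⟩ := class_conj hD hd hx
    have hy' : g⁻¹ * y * g ∈ D := h.conj' hy g
    have hc : d * (g⁻¹ * y * g) = (g⁻¹ * y * g) * d := by
      have := comm_conj g⁻¹ hxy
      rw [← hg] at this
      have e1 : g⁻¹ * (g * d * g⁻¹) * g⁻¹⁻¹ = d := by group
      rw [e1, inv_inv] at this
      exact this
    have := (hV _ hy' hc).conj h g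
    rw [hg] at this
    have e2 : g * (g⁻¹ * y * g) * g⁻¹ = y := by group
    rw [e2] at this
    exact this
  -- the two-element set
  obtain ⟨p, q, hpq, hP⟩ := Set.ncard_eq_two.mp hm
  have hdP : d ∈ {y : G | y ∈ D ∧ Commute d y} := ⟨hd, Commute.refl d⟩
  have F2d : ∀ y ∈ D, ∀ z ∈ D, y ≠ d → z ≠ d → d * y = y * d → d * z = z * d → y = z := by
    intro y hy z hz hyd hzd hcy hcz
    have hy' : y ∈ ({p, q} : Set G) := by rw [← hP]; exact ⟨hy, hcy⟩
    have hz' : z ∈ ({p, q} : Set G) := by rw [← hP]; exact ⟨hz, hcz⟩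
    have hd' : d ∈ ({p, q} : Set G) := by rw [← hP]; exact hdP
    simp only [Set.mem_insert_iff, Set.mem_singleton_iff] at hy' hz' hd'
    rcases hd' with rfl | rfl
    · rcases hy' with rfl | rfl
      · exact absurd rfl hyd
      · rcases hz' with rfl | rfl
        · exact absurd rfl hzd
        · rfl
    · rcases hy' with rfl | rfl
      · rcases hz' with rfl | rfl
        · rfl
        · exact absurd rfl hzd
      · exact absurd rfl hyd
  have F2 : ∀ x ∈ D, ∀ y ∈ D, ∀ z ∈ D, y ≠ x → z ≠ x → x * y = y * x → x * z = z * x → y = z := by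
    intro x hx y hy z hz hyx hzx hcy hcz
    obtain ⟨g, hg⟩ := class_conj hD hd hx
    have hy' : g⁻¹ * y * g ∈ D := h.conj' hy g
    have hz' : g⁻¹ * z * g ∈ D := h.conj' hz g
    have conv : ∀ w : G, x * w = w * x → d * (g⁻¹ * w * g) = (g⁻¹ * w * g) * d := by
      intro w hw
      have := comm_conj g⁻¹ hw
      rw [← hg] at this
      have e1 : g⁻¹ * (g * d * g⁻¹) * g⁻¹⁻¹ = d := by group
      rw [e1, inv_inv] at this
      exact this
    have ne : ∀ w : G, w ≠ x → g⁻¹ * w * g ≠ d := by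
      intro w hw hh
      apply hw
      rw [← hg, ← hh]; group
    have := F2d _ hy' _ hz' (ne y hyx) (ne z hzx) (conv y hcy) (conv z hcz)
    calc y = g * (g⁻¹ * y * g) * g⁻¹ := by group
      _ = g * (g⁻¹ * z * g) * g⁻¹ := by rw [this]
      _ = z := by group
  -- the partner `d'`
  have hexd' : ∃ d' ∈ D, d' ≠ d ∧ d * d' = d' * d := by
    have hp : p ∈ {y : G | y ∈ D ∧ Commute d y} := by rw [hP]; simp
    have hq : q ∈ {y : G | y ∈ D ∧ Commute d y} := by rw [hP]; simp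
    by_cases hpd : p = d
    · refine ⟨q, hq.1, ?_, hq.2⟩
      intro hqd
      exact hpq (hpd.trans hqd.symm)
    · exact ⟨p, hp.1, hpd, hp.2⟩
  obtain ⟨d', hd', hd'd, hdd'⟩ := hexd'
  obtain ⟨e, he, hed⟩ := exists_not_comm hD hD2 hd
  have hsd : SameP D d d' := F1 d hd d' hd' hdd'
  have hed' : e * d' ≠ d' * e := by
    intro hh
    exact hed ((hsd e he).mp hh.symm).symm
  refine ⟨e, d', he, hd', fun hh => hd'd hh.symm, hdd', hed, hed', ?_⟩
  intro S hdS heS hd'S f hf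
  by_contra hfS
  -- general pair lemma
  have pair : ∀ x ∈ D, ∀ x' ∈ D, x ∈ S → x' ∈ S → x ≠ x' → x * x' = x' * x →
      f * x ≠ x * f ∧ SameP D f ((x * x') * f * (x * x')⁻¹) ∧ (x * x') * f * (x * x')⁻¹ ≠ f := by
    intro x hx x' hx' hxS hx'S hne hc
    have hs : SameP D x x' := F1 x hx x' hx' hc
    have hfx : f * x ≠ x * f := by
      intro hh
      by_cases hfx1 : f = x
      · exact hfS (hfx1 ▸ hxS)
      · have := F2 x hx f hf x' hx' hfx1 (fun h1 => hne h1.symm) hh.symm hc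
        exact hfS (this ▸ hx'S)
    exact ⟨hfx, h.sameP_conj hx hx' hs hf, h.sameP_conj_ne hx hx' hf hs hne hfx⟩
  -- the partner of `f` is unique
  have uniq : ∀ f₁ f₂ : G, f₁ ∈ D → f₂ ∈ D → SameP D f f₁ → SameP D f f₂ → f₁ ≠ f → f₂ ≠ f →
      f₁ = f₂ := by
    intro f₁ f₂ hf₁ hf₂ hs₁ hs₂ hn₁ hn₂
    exact F2 f hf f₁ hf₁ f₂ hf₂ hn₁ hn₂ (hs₁.comm hf₁) (hs₂.comm hf₂)
  -- first pair
  set y₁ := d * d' with hy₁
  have hy₁S : y₁ ∈ S := mul_mem hdS hd'S
  have hy₁sq : y₁ * y₁ = 1 := h.sameP_mul_sq hd hd' hsd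
  have hy₁inv : y₁⁻¹ = y₁ := inv_eq_of_mul_eq_one_left hy₁sq
  obtain ⟨-, hs₁, hn₁⟩ := pair d hd d' hd' hdS hd'S (fun hh => hd'd hh.symm) hdd'
  -- second pair : `e`, `e' = y₁ e y₁⁻¹`
  set e' := y₁ * e * y₁⁻¹ with he'
  have he'D : e' ∈ D := h.conj y₁ e he
  have he'S : e' ∈ S := mul_mem (mul_mem hy₁S heS) (inv_mem hy₁S)
  have hse : SameP D e e' := h.sameP_conj hd hd' hsd he
  have hee' : e ≠ e' := fun hh => (h.sameP_conj_ne hd hd' he hsd (fun hh => hd'd hh.symm) hed) hh.symm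
  have hcee' : e * e' = e' * e := hse.comm he'D
  obtain ⟨-, hs₂, hn₂⟩ := pair e he e' he'D heS he'S hee' hcee'
  -- third pair : `g = e d e⁻¹`, `g' = e d' e⁻¹`
  have hgD : e * d * e⁻¹ ∈ D := h.conj e d hd
  have hg'D : e * d' * e⁻¹ ∈ D := h.conj e d' hd'
  have hgS : e * d * e⁻¹ ∈ S := mul_mem (mul_mem heS hdS) (inv_mem heS)
  have hg'S : e * d' * e⁻¹ ∈ S := mul_mem (mul_mem heS hd'S) (inv_mem heS)
  have hgg' : e * d * e⁻¹ ≠ e * d' * e⁻¹ := by
    intro hh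
    apply hd'd
    have : e⁻¹ * (e * d * e⁻¹) * e = e⁻¹ * (e * d' * e⁻¹) * e := by rw [hh]
    have e1 : e⁻¹ * (e * d * e⁻¹) * e = d := by group
    have e2 : e⁻¹ * (e * d' * e⁻¹) * e = d' := by group
    rw [e1, e2] at this
    exact this.symm
  have hcgg' : (e * d * e⁻¹) * (e * d' * e⁻¹) = (e * d' * e⁻¹) * (e * d * e⁻¹) := comm_conj e hdd'
  obtain ⟨-, hs₃, hn₃⟩ := pair _ hgD _ hg'D hgS hg'S hgg' hcgg'
  -- `y₃ = y₁ y₂`
  have hy₃ : (e * d * e⁻¹) * (e * d' * e⁻¹) = y₁ * (e * e') := by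
    rw [hcee', he', hy₁inv, h.inv he]
    calc e * d * e * (e * d' * e) = e * d * (e * e) * d' * e := by group
      _ = e * (d * d') * e := by rw [h.sq e he, mul_one]; group
      _ = (y₁ * y₁) * e * y₁ * e := by rw [hy₁sq, one_mul]
      _ = y₁ * (y₁ * e * y₁ * e) := by group
  have hfD₁ : y₁ * f * y₁⁻¹ ∈ D := h.conj y₁ f hf
  have hfD₂ : (e * e') * f * (e * e')⁻¹ ∈ D := h.conj _ f hf
  have hfD₃ : ((e * d * e⁻¹) * (e * d' * e⁻¹)) * f * ((e * d * e⁻¹) * (e * d' * e⁻¹))⁻¹ ∈ D :=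
    h.conj _ f hf
  have h12 := uniq _ _ hfD₁ hfD₂ hs₁ hs₂ hn₁ hn₂
  have h13 := uniq _ _ hfD₁ hfD₃ hs₁ hs₃ hn₁ hn₃
  rw [hy₃] at h13
  apply hn₁
  have e3 : (y₁ * (e * e')) * f * (y₁ * (e * e'))⁻¹ = y₁ * ((e * e') * f * (e * e')⁻¹) * y₁⁻¹ := by
    group
  rw [e3, ← h12] at h13
  -- h13 : y₁ f y₁⁻¹ = y₁ (y₁ f y₁⁻¹) y₁⁻¹
  have e4 : y₁ * (y₁ * f * y₁⁻¹) * y₁⁻¹ = f := by
    rw [hy₁inv]
    calc y₁ * (y₁ * f * y₁) * y₁ = (y₁ * y₁) * f * (y₁ * y₁) := by group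
      _ = f := by rw [hy₁sq, one_mul, mul_one]
  rw [e4] at h13
  exact h13

end Cfsg.Agent.Lib.Helper3.TT
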