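import Mathlib
import Cfsg.Prelude

set_option autoImplicit false
set_option maxHeartbeats 4000000
set_option linter.unusedVariables false
set_option linter.unusedSectionVars false
set_option linter.style.longLine false
set_option linter.unusedSimpArgs false
set_option linter.deprecated false
set_option linter.style.haveILetI false

/-!
# Pure group theory for S5559: the Burnside group `B(2,3)`, groups of order 54 and 6 given by
generators and relations, and the graph trick for isomorphisms.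
-/

universe u v
namespace Cfsg.Agent.Lib.Helper3.TTS

section B23

variable {G : Type u} [Group G]

/-- In a group where `x, y, xy, xy⁻¹` have cube one, `x` commutes with `y⁻¹ x y`. -/
theorem comm_conj {x y : G} (hx : x ^ 3 = 1) (hy : y ^ 3 = 1) (h1 : (x * y) ^ 3 = 1)
    (h2 : (x * y⁻¹) ^ 3 = 1) : x * (y⁻¹ * x * y) = (y⁻¹ * x * y) * x := by
  have k1 : x * y⁻¹ * x = y * x⁻¹ * y := by
    have : x * y⁻¹ * x * (y * x⁻¹ * y)⁻¹ = (x * y⁻¹) ^ 3 := by rw [pow_three']; group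
    rw [h2] at this
    exact mul_inv_eq_one.mp this
  have k2 : x * y * x = y⁻¹ * x⁻¹ * y⁻¹ := by
    have : x * y * x * (y⁻¹ * x⁻¹ * y⁻¹)⁻¹ = (x * y) ^ 3 := by rw [pow_three']; group
    rw [h1] at this
    exact mul_inv_eq_one.mp this
  have y2 : y * y = y⁻¹ := by
    have : y * y * (y⁻¹)⁻¹ = y ^ 3 := by rw [pow_three']; group
    rw [hy] at this
    exact mul_inv_eq_one.mp this
  have y2' : y⁻¹ * y⁻¹ = y := by
    have : y⁻¹ * y⁻¹ * y⁻¹ = (y ^ 3)⁻¹ := by rw [pow_three']; group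
    rw [hy, inv_one] at this
    have h3 : y⁻¹ * y⁻¹ = (y⁻¹)⁻¹ := mul_eq_one_iff_eq_inv.mp this
    rw [h3, inv_inv]
  calc x * (y⁻¹ * x * y) = (x * y⁻¹ * x) * y := by group
    _ = y * x⁻¹ * (y * y) := by rw [k1]; group
    _ = y * x⁻¹ * y⁻¹ := by rw [y2]
    _ = (y⁻¹ * y⁻¹) * x⁻¹ * y⁻¹ := by rw [y2']
    _ = y⁻¹ * (y⁻¹ * x⁻¹ * y⁻¹) := by group
    _ = y⁻¹ * (x * y * x) := by rw [k2]
    _ = (y⁻¹ * x * y) * x := by group

theorem pow_three_conj {a g : G} (h : a ^ 3 = 1) : (g * a * g⁻¹) ^ 3 = 1 := by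
  have : (g * a * g⁻¹) ^ 3 = g * a ^ 3 * g⁻¹ := by rw [pow_three', pow_three']; group
  rw [this, h]; group

theorem pow_three_inv {a : G} (h : a ^ 3 = 1) : (a⁻¹) ^ 3 = 1 := by
  rw [inv_pow, h, inv_one]

/-- the commutator `x y x⁻¹ y⁻¹` commutes with `x`. -/
theorem b23_comm_left {x y : G} (hx : x ^ 3 = 1) (hy : y ^ 3 = 1) (h1 : (x * y) ^ 3 = 1)
    (h2 : (x⁻¹ * y) ^ 3 = 1) : x * (x * y * x⁻¹ * y⁻¹) = (x * y * x⁻¹ * y⁻¹) * x := by
  -- x commutes with y x y⁻¹ : apply comm_conj to (x, y⁻¹)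
  have hyi : (y⁻¹) ^ 3 = 1 := pow_three_inv hy
  have h1' : (x * y⁻¹) ^ 3 = 1 := by
    -- x y⁻¹ = x (y⁻¹ x) x⁻¹ , y⁻¹ x = (x⁻¹ y)⁻¹
    have : x * y⁻¹ = x * (x⁻¹ * y)⁻¹ * x⁻¹ := by group
    rw [this]
    exact pow_three_conj (pow_three_inv h2)
  have h2' : (x * (y⁻¹)⁻¹) ^ 3 = 1 := by rw [inv_inv]; exact h1
  have key := comm_conj hx hyi h1' h2'
  rw [inv_inv] at key
  -- key : x * (y * x * y⁻¹) = y * x * y⁻¹ * x
  have key2 : x * (y * x⁻¹ * y⁻¹) = (y * x⁻¹ * y⁻¹) * x := by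
    have e1 : y * x⁻¹ * y⁻¹ = (y * x * y⁻¹)⁻¹ := by group
    rw [e1]
    have : (y * x * y⁻¹)⁻¹ * x = (y * x * y⁻¹)⁻¹ * (x * (y * x * y⁻¹)) * (y * x * y⁻¹)⁻¹ := by group
    rw [this, key]; group
  calc x * (x * y * x⁻¹ * y⁻¹) = x * (x * (y * x⁻¹ * y⁻¹)) := by group
    _ = x * ((y * x⁻¹ * y⁻¹) * x) := by rw [key2]
    _ = (x * y * x⁻¹ * y⁻¹) * x := by group

/-- the commutator `x y x⁻¹ y⁻¹` commutes with `y`. -/
theorem b23_comm_right {x y : G} (hx : x ^ 3 = 1) (hy : y ^ 3 = 1) (h1 : (x * y) ^ 3 = 1)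
    (h2 : (x⁻¹ * y) ^ 3 = 1) : y * (x * y * x⁻¹ * y⁻¹) = (x * y * x⁻¹ * y⁻¹) * y := by
  -- y commutes with x y x⁻¹ : comm_conj for (y, x⁻¹)
  have hxi : (x⁻¹) ^ 3 = 1 := pow_three_inv hx
  have h1' : (y * x⁻¹) ^ 3 = 1 := by
    have : y * x⁻¹ = x * (x⁻¹ * y) * x⁻¹ := by group
    rw [this]; exact pow_three_conj h2
  have h2' : (y * (x⁻¹)⁻¹) ^ 3 = 1 := by
    rw [inv_inv]
    have : y * x = x⁻¹ * (x * y) * (x⁻¹)⁻¹ := by group
    rw [this]; exact pow_three_conj h1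
  have key := comm_conj hy hxi h1' h2'
  rw [inv_inv] at key
  -- key : y * (x * y * x⁻¹) = x * y * x⁻¹ * y
  calc y * (x * y * x⁻¹ * y⁻¹) = (y * (x * y * x⁻¹)) * y⁻¹ := by group
    _ = (x * y * x⁻¹ * y) * y⁻¹ := by rw [key]
    _ = (x * y * x⁻¹ * y⁻¹) * y := by group

/-- the commutator has cube one. -/
theorem b23_cube {x y : G} (hx : x ^ 3 = 1) (hy : y ^ 3 = 1) (h1 : (x * y) ^ 3 = 1)
    (h2 : (x⁻¹ * y) ^ 3 = 1) : (x * y * x⁻¹ * y⁻¹) ^ 3 = 1 := by
  have hc := b23_comm_left hx hy h1 h2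
  -- z^3 = x^3 y x^-3 y^-1 using that z commutes with x
  have hz : ∀ z : G, x * z = z * x → z = x * y * x⁻¹ * y⁻¹ → z ^ 3 = x ^ 3 * y * (x ^ 3)⁻¹ * y⁻¹ := by
    intro z hzx hzdef
    have e1 : x * y = z * y * x := by rw [hzdef]; group
    have e2 : x * x * y = z * z * y * x * x := by
      calc x * x * y = x * (x * y) := by group
        _ = x * (z * y * x) := by rw [e1]
        _ = (x * z) * y * x := by group
        _ = z * (x * y) * x := by rw [hzx]; group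
        _ = z * (z * y * x) * x := by rw [e1]
        _ = z * z * y * x * x := by group
    have e3 : x * x * x * y = z * z * z * y * x * x * x := by
      calc x * x * x * y = x * (x * x * y) := by group
        _ = x * (z * z * y * x * x) := by rw [e2]
        _ = (x * z) * z * y * x * x := by group
        _ = (z * x) * z * y * x * x := by rw [hzx]
        _ = z * (x * z) * y * x * x := by group
        _ = z * (z * x) * y * x * x := by rw [hzx]
        _ = z * z * (x * y) * x * x := by group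
        _ = z * z * (z * y * x) * x * x := by rw [e1]
        _ = z * z * z * y * x * x * x := by group
    calc z ^ 3 = (z * z * z * y * x * x * x) * (x * x * x)⁻¹ * y⁻¹ := by rw [pow_three']; group
      _ = (x * x * x * y) * (x * x * x)⁻¹ * y⁻¹ := by rw [e3]
      _ = x ^ 3 * y * (x ^ 3)⁻¹ * y⁻¹ := by rw [pow_three']
  rw [hz _ hc rfl, hx]; group

end B23

end Cfsg.Agent.Lib.Helper3.TTS
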