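import Mathlib
import Cfsg.Prelude
import Cfsg.Agent.Lib.Helper3.TTS1

set_option autoImplicit false
set_option maxHeartbeats 4000000
set_option linter.unusedVariables false
set_option linter.unusedSectionVars false
set_option linter.style.longLine false
set_option linter.unusedSimpArgs false
set_option linter.deprecated false
set_option linter.style.haveILetI false

/-!
# Groups generated by three involutions with the relations of `SU_3(2)'` have order at most 54
-/

universe u v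
namespace Cfsg.Agent.Lib.Helper3.TTS

section P54

variable {Z : Type u} [Group Z]

/-- the relations of `3^{1+2} : 2` on three 3-transpositions -/
structure Rel54 (a b c : Z) : Prop where
  ha : a * a = 1
  hb : b * b = 1
  hc : c * c = 1
  hab : (a * b) ^ 3 = 1
  hac : (a * c) ^ 3 = 1
  hbc : (b * c) ^ 3 = 1
  hbac : (b * (a * c * a)) ^ 3 = 1

namespace Rel54

variable {a b c : Z} (h : Rel54 a b c)

include h

theorem a_inv : a⁻¹ = a := inv_eq_of_mul_eq_one_right h.ha
theorem b_inv : b⁻¹ = b := inv_eq_of_mul_eq_one_right h.hb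
theorem c_inv : c⁻¹ = c := inv_eq_of_mul_eq_one_right h.hc

theorem x_inv : (a * b)⁻¹ = b * a := by rw [mul_inv_rev, h.a_inv, h.b_inv]
theorem y_inv : (a * c)⁻¹ = c * a := by rw [mul_inv_rev, h.a_inv, h.c_inv]

theorem axa : a * (a * b) * a = (a * b)⁻¹ := by
  rw [h.x_inv, ← mul_assoc, h.ha, one_mul]

theorem aya : a * (a * c) * a = (a * c)⁻¹ := by
  rw [h.y_inv, ← mul_assoc, h.ha, one_mul]

theorem hxiy : ((a * b)⁻¹ * (a * c)) ^ 3 = 1 := by
  have : (a * b)⁻¹ * (a * c) = b * c := by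
    rw [h.x_inv]
    calc b * a * (a * c) = b * (a * a) * c := by group
      _ = b * c := by rw [h.ha, mul_one]
  rw [this]; exact h.hbc

theorem hxy : ((a * b) * (a * c)) ^ 3 = 1 := by
  have e1 : ((a * c) * (a * b))⁻¹ = b * (a * c * a) := by
    rw [mul_inv_rev, h.x_inv, h.y_inv]; group
  have e2 : (((a * c) * (a * b))⁻¹) ^ 3 = 1 := by rw [e1]; exact h.hbac
  have e3 : ((a * c) * (a * b)) ^ 3 = 1 := by
    have := pow_three_inv e2
    rwa [inv_inv] at this
  have e4 : (a * b) * (a * c) = (a * b) * ((a * c) * (a * b)) * (a * b)⁻¹ := by group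
  rw [e4]; exact pow_three_conj e3

/-- the central element -/
def zz (a b c : Z) : Z := (a * b) * (a * c) * (a * b)⁻¹ * (a * c)⁻¹

theorem zx : (a * b) * zz a b c = zz a b c * (a * b) :=
  b23_comm_left h.hab h.hac h.hxy h.hxiy

theorem zy : (a * c) * zz a b c = zz a b c * (a * c) :=
  b23_comm_right h.hab h.hac h.hxy h.hxiy

theorem z3 : (zz a b c) ^ 3 = 1 := b23_cube h.hab h.hac h.hxy h.hxiy

theorem z_inv : (zz a b c)⁻¹ = zz a b c ^ 2 := by
  have := h.z3
  rw [pow_succ] at this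
  exact inv_eq_of_mul_eq_one_left this

theorem yx : (a * c) * (a * b) = (a * b) * (a * c) * zz a b c ^ 2 := by
  rw [← h.z_inv]
  have e : zz a b c * ((a * c) * (a * b)) = (a * b) * (a * c) := by
    unfold zz; group
  have hcomm : zz a b c * ((a * c) * (a * b)) = ((a * c) * (a * b)) * zz a b c := by
    calc zz a b c * ((a * c) * (a * b)) = (zz a b c * (a * c)) * (a * b) := by group
      _ = ((a * c) * zz a b c) * (a * b) := by rw [h.zy]
      _ = (a * c) * (zz a b c * (a * b)) := by group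
      _ = (a * c) * ((a * b) * zz a b c) := by rw [h.zx]
      _ = ((a * c) * (a * b)) * zz a b c := by group
  rw [hcomm] at e
  rw [← e]; group

theorem comm_z_x : Commute (zz a b c) (a * b) := h.zx.symm
theorem comm_z_y : Commute (zz a b c) (a * c) := h.zy.symm

theorem y_xpow (i : ℕ) : (a * c) * (a * b) ^ i = (a * b) ^ i * (a * c) * zz a b c ^ (2 * i) := by
  induction i with
  | zero => simp
  | succ i ih =>
    have hzc : Commute (zz a b c ^ (2 * i)) (a * b) := (h.comm_z_x).pow_left _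
    calc (a * c) * (a * b) ^ (i + 1) = ((a * c) * (a * b) ^ i) * (a * b) := by rw [pow_succ]; group
      _ = ((a * b) ^ i * (a * c) * zz a b c ^ (2 * i)) * (a * b) := by rw [ih]
      _ = (a * b) ^ i * (a * c) * (zz a b c ^ (2 * i) * (a * b)) := by group
      _ = (a * b) ^ i * (a * c) * ((a * b) * zz a b c ^ (2 * i)) := by rw [hzc.eq]
      _ = (a * b) ^ i * ((a * c) * (a * b)) * zz a b c ^ (2 * i) := by group
      _ = (a * b) ^ i * ((a * b) * (a * c) * zz a b c ^ 2) * zz a b c ^ (2 * i) := by rw [h.yx]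
      _ = (a * b) ^ (i + 1) * (a * c) * zz a b c ^ (2 * (i + 1)) := by
        rw [pow_succ (a * b) i, show 2 * (i + 1) = 2 + 2 * i by ring, pow_add]; group

/-- the normal forms of the 3-subgroup -/
def T (a b c : Z) : Set Z := {g | ∃ i j k : ℕ, g = (a * b) ^ i * (a * c) ^ j * zz a b c ^ k}

theorem one_mem_T : (1 : Z) ∈ T a b c := ⟨0, 0, 0, by simp⟩

theorem x_mul_mem_T {g : Z} (hg : g ∈ T a b c) : (a * b) * g ∈ T a b c := by
  obtain ⟨i, j, k, rfl⟩ := hg
  exact ⟨i + 1, j, k, by rw [pow_succ' (a * b) i]; group⟩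

theorem y_mul_mem_T {g : Z} (hg : g ∈ T a b c) : (a * c) * g ∈ T a b c := by
  obtain ⟨i, j, k, rfl⟩ := hg
  refine ⟨i, j + 1, 2 * i + k, ?_⟩
  have hzc : Commute (zz a b c ^ (2 * i)) ((a * c) ^ j) := (h.comm_z_y).pow_pow _ _
  calc (a * c) * ((a * b) ^ i * (a * c) ^ j * zz a b c ^ k)
      = ((a * c) * (a * b) ^ i) * (a * c) ^ j * zz a b c ^ k := by group
    _ = ((a * b) ^ i * (a * c) * zz a b c ^ (2 * i)) * (a * c) ^ j * zz a b c ^ k := by rw [h.y_xpow]
    _ = (a * b) ^ i * (a * c) * (zz a b c ^ (2 * i) * (a * c) ^ j) * zz a b c ^ k := by group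
    _ = (a * b) ^ i * (a * c) * ((a * c) ^ j * zz a b c ^ (2 * i)) * zz a b c ^ k := by rw [hzc.eq]
    _ = (a * b) ^ i * (a * c) ^ (j + 1) * zz a b c ^ (2 * i + k) := by
      rw [pow_succ' (a * c) j, pow_add]; simp only [mul_assoc]

theorem xinv_mul_mem_T {g : Z} (hg : g ∈ T a b c) : (a * b)⁻¹ * g ∈ T a b c := by
  have e : (a * b)⁻¹ = (a * b) * (a * b) := by
    have := h.hab
    rw [pow_three] at this
    exact inv_eq_of_mul_eq_one_left (by rw [← this]; group)
  rw [e, mul_assoc]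
  exact h.x_mul_mem_T (h.x_mul_mem_T hg)

theorem yinv_mul_mem_T {g : Z} (hg : g ∈ T a b c) : (a * c)⁻¹ * g ∈ T a b c := by
  have e : (a * c)⁻¹ = (a * c) * (a * c) := by
    have := h.hac
    rw [pow_three] at this
    exact inv_eq_of_mul_eq_one_left (by rw [← this]; group)
  rw [e, mul_assoc]
  exact h.y_mul_mem_T (h.y_mul_mem_T hg)

/-- the normal forms of the whole group -/
def S (a b c : Z) : Set Z := {g | g ∈ T a b c ∨ ∃ t ∈ T a b c, g = a * t}

theorem a_mul_mem_S {g : Z} (hg : g ∈ S a b c) : a * g ∈ S a b c := by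
  rcases hg with hg | ⟨t, ht, rfl⟩
  · exact Or.inr ⟨g, hg, rfl⟩
  · left
    rw [← mul_assoc, h.ha, one_mul]; exact ht

theorem b_mul_mem_S {g : Z} (hg : g ∈ S a b c) : b * g ∈ S a b c := by
  have hb : b = a * (a * b) := by rw [← mul_assoc, h.ha, one_mul]
  rcases hg with hg | ⟨t, ht, rfl⟩
  · right
    refine ⟨(a * b) * g, h.x_mul_mem_T hg, ?_⟩
    rw [← mul_assoc, ← hb]
  · left
    have : b * (a * t) = (a * b)⁻¹ * t := by
      rw [h.x_inv]; group
    rw [this]
    exact h.xinv_mul_mem_T ht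

theorem c_mul_mem_S {g : Z} (hg : g ∈ S a b c) : c * g ∈ S a b c := by
  have hc : c = a * (a * c) := by rw [← mul_assoc, h.ha, one_mul]
  rcases hg with hg | ⟨t, ht, rfl⟩
  · right
    refine ⟨(a * c) * g, h.y_mul_mem_T hg, ?_⟩
    rw [← mul_assoc, ← hc]
  · left
    have : c * (a * t) = (a * c)⁻¹ * t := by
      rw [h.y_inv]; group
    rw [this]
    exact h.yinv_mul_mem_T ht

theorem closure_subset_S : ((Subgroup.closure {a, b, c} : Subgroup Z) : Set Z) ⊆ S a b c := by
  intro g hg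
  induction hg using Subgroup.closure_induction_left with
  | one => exact Or.inl h.one_mem_T
  | mul_left s hs y hy ih =>
    rcases hs with rfl | rfl | rfl
    · exact h.a_mul_mem_S ih
    · exact h.b_mul_mem_S ih
    · exact h.c_mul_mem_S ih
  | inv_mul_cancel s hs y hy ih =>
    rcases hs with rfl | rfl | rfl
    · rw [h.a_inv]; exact h.a_mul_mem_S ih
    · rw [h.b_inv]; exact h.b_mul_mem_S ih
    · rw [h.c_inv]; exact h.c_mul_mem_S ih

/-- the parametrization by 54 exponents -/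
def nf (a b c : Z) (p : Fin 2 × Fin 3 × Fin 3 × Fin 3) : Z :=
  a ^ (p.1 : ℕ) * ((a * b) ^ (p.2.1 : ℕ) * (a * c) ^ (p.2.2.1 : ℕ) * zz a b c ^ (p.2.2.2 : ℕ))

theorem S_subset_range : S a b c ⊆ Set.range (nf a b c) := by
  have hT : ∀ t ∈ T a b c, ∃ i j k : Fin 3, t = (a * b) ^ (i : ℕ) * (a * c) ^ (j : ℕ) * zz a b c ^ (k : ℕ) := by
    rintro t ⟨i, j, k, rfl⟩
    refine ⟨⟨i % 3, Nat.mod_lt _ (by norm_num)⟩, ⟨j % 3, Nat.mod_lt _ (by norm_num)⟩,
      ⟨k % 3, Nat.mod_lt _ (by norm_num)⟩, ?_⟩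
    show _ = (a * b) ^ (i % 3) * (a * c) ^ (j % 3) * zz a b c ^ (k % 3)
    rw [← pow_eq_pow_mod i h.hab, ← pow_eq_pow_mod j h.hac, ← pow_eq_pow_mod k h.z3]
  rintro g (hg | ⟨t, ht, rfl⟩)
  · obtain ⟨i, j, k, rfl⟩ := hT g hg
    exact ⟨(0, i, j, k), by simp [nf]⟩
  · obtain ⟨i, j, k, rfl⟩ := hT t ht
    exact ⟨(1, i, j, k), by simp [nf]⟩

theorem finite_closure : Finite ↥(Subgroup.closure {a, b, c} : Subgroup Z) := by
  have hfin : (Set.range (nf a b c)).Finite := Set.finite_range _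
  exact Set.finite_coe_iff.mpr (hfin.subset (h.closure_subset_S.trans h.S_subset_range))

theorem card_closure_le : Nat.card ↥(Subgroup.closure {a, b, c} : Subgroup Z) ≤ 54 := by
  have hfin : (Set.range (nf a b c)).Finite := Set.finite_range _
  have h1 : ((Subgroup.closure {a, b, c} : Subgroup Z) : Set Z).ncard ≤ (Set.range (nf a b c)).ncard :=
    Set.ncard_le_ncard (h.closure_subset_S.trans h.S_subset_range) hfin
  have h2 : (Set.range (nf a b c)).ncard ≤ 54 := by
    rw [← Set.image_univ]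
    refine (Set.ncard_image_le (Set.finite_univ)).trans ?_
    rw [Set.ncard_univ]
    simp [Nat.card_eq_fintype_card]
  have h3 : Nat.card ↥(Subgroup.closure {a, b, c} : Subgroup Z) =
      ((Subgroup.closure {a, b, c} : Subgroup Z) : Set Z).ncard := by
    rw [← _root_.Nat.card_coe_set_eq]; rfl
  rw [h3]
  exact h1.trans h2

end Rel54

end P54

end Cfsg.Agent.Lib.Helper3.TTS
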