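import Mathlib
import Cfsg.Prelude
import Cfsg.Agent.Lib.Helper3.TTS2
import Cfsg.Agent.Lib.Helper1.FrattiniP

set_option autoImplicit false
set_option maxHeartbeats 4000000
set_option linter.unusedVariables false
set_option linter.unusedSectionVars false
set_option linter.style.longLine false
set_option linter.unusedSimpArgs false
set_option linter.deprecated false
set_option linter.style.haveILetI false

/-!
# Orders of the presented groups, the graph trick, and p-groups generated by one class
-/

universe u v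
namespace Cfsg.Agent.Lib.Helper3.TTS

section Six

variable {Z : Type u} [Group Z]

/-- relations of `S_3` -/
structure Rel6 (a b : Z) : Prop where
  ha : a * a = 1
  hb : b * b = 1
  hab : (a * b) ^ 3 = 1

namespace Rel6

variable {a b : Z} (h : Rel6 a b)
include h

theorem a_inv : a⁻¹ = a := inv_eq_of_mul_eq_one_right h.ha
theorem b_inv : b⁻¹ = b := inv_eq_of_mul_eq_one_right h.hb
theorem x_inv : (a * b)⁻¹ = b * a := by rw [mul_inv_rev, h.a_inv, h.b_inv]

def S (a b : Z) : Set Z := {g | ∃ e i : ℕ, g = a ^ e * (a * b) ^ i}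

theorem a_mul_mem {g : Z} (hg : g ∈ S a b) : a * g ∈ S a b := by
  obtain ⟨e, i, rfl⟩ := hg
  exact ⟨e + 1, i, by rw [pow_succ' a e]; group⟩

theorem x_apow (e : ℕ) : ∃ j : ℕ, (a * b) * a ^ e = a ^ e * (a * b) ^ j := by
  induction e with
  | zero => exact ⟨1, by simp⟩
  | succ e ih =>
    obtain ⟨j, hj⟩ := ih
    -- x a = a x⁻¹ = a x^2
    have hxa : ∀ m : ℕ, (a * b) ^ m * a = a * (a * b) ^ (2 * m) := by
      intro m
      induction m with
      | zero => simp
      | succ m ihm =>
        have hx2 : (a * b) * a = a * (a * b) ^ 2 := by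
          have e1 : (a * b) ^ 2 = (a * b)⁻¹ := by
            have := h.hab
            rw [pow_succ] at this
            exact (inv_eq_of_mul_eq_one_left this).symm
          rw [e1, h.x_inv]
          calc a * b * a = a * (b * a) := by group
            _ = a * (b * a) := rfl
        calc (a * b) ^ (m + 1) * a = (a * b) * ((a * b) ^ m * a) := by rw [pow_succ']; group
          _ = (a * b) * (a * (a * b) ^ (2 * m)) := by rw [ihm]
          _ = ((a * b) * a) * (a * b) ^ (2 * m) := by group
          _ = (a * (a * b) ^ 2) * (a * b) ^ (2 * m) := by rw [hx2]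
          _ = a * (a * b) ^ (2 * (m + 1)) := by
            rw [show 2 * (m + 1) = 2 + 2 * m by ring, pow_add]; group
    refine ⟨2 * j, ?_⟩
    calc (a * b) * a ^ (e + 1) = ((a * b) * a ^ e) * a := by rw [pow_succ]; group
      _ = (a ^ e * (a * b) ^ j) * a := by rw [hj]
      _ = a ^ e * ((a * b) ^ j * a) := by group
      _ = a ^ e * (a * (a * b) ^ (2 * j)) := by rw [hxa]
      _ = a ^ (e + 1) * (a * b) ^ (2 * j) := by rw [pow_succ]; group

theorem b_mul_mem {g : Z} (hg : g ∈ S a b) : b * g ∈ S a b := by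
  obtain ⟨e, i, rfl⟩ := hg
  have hb : b = a * (a * b) := by rw [← mul_assoc, h.ha, one_mul]
  obtain ⟨j, hj⟩ := h.x_apow e
  refine ⟨e + 1, j + i, ?_⟩
  calc b * (a ^ e * (a * b) ^ i) = (a * (a * b)) * (a ^ e * (a * b) ^ i) := by rw [← hb]
    _ = a * ((a * b) * a ^ e) * (a * b) ^ i := by simp only [mul_assoc]
    _ = a * (a ^ e * (a * b) ^ j) * (a * b) ^ i := by rw [hj]
    _ = a ^ (e + 1) * (a * b) ^ (j + i) := by rw [pow_succ' a e, pow_add]; group

theorem closure_subset : ((Subgroup.closure {a, b} : Subgroup Z) : Set Z) ⊆ S a b := by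
  intro g hg
  induction hg using Subgroup.closure_induction_left with
  | one => exact ⟨0, 0, by simp⟩
  | mul_left s hs y hy ih =>
    rcases hs with rfl | rfl
    · exact h.a_mul_mem ih
    · exact h.b_mul_mem ih
  | inv_mul_cancel s hs y hy ih =>
    rcases hs with rfl | rfl
    · rw [h.a_inv]; exact h.a_mul_mem ih
    · rw [h.b_inv]; exact h.b_mul_mem ih

def nf (a b : Z) (p : Fin 2 × Fin 3) : Z := a ^ (p.1 : ℕ) * (a * b) ^ (p.2 : ℕ)

theorem S_subset_range : S a b ⊆ Set.range (nf a b) := by
  rintro g ⟨e, i, rfl⟩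
  refine ⟨(⟨e % 2, Nat.mod_lt _ (by norm_num)⟩, ⟨i % 3, Nat.mod_lt _ (by norm_num)⟩), ?_⟩
  show a ^ (e % 2) * (a * b) ^ (i % 3) = _
  have ha2 : a ^ 2 = 1 := by rw [pow_two]; exact h.ha
  rw [← pow_eq_pow_mod e ha2, ← pow_eq_pow_mod i h.hab]

theorem finite_closure : Finite ↥(Subgroup.closure {a, b} : Subgroup Z) := by
  have hfin : (Set.range (nf a b)).Finite := Set.finite_range _
  exact Set.finite_coe_iff.mpr (hfin.subset (h.closure_subset.trans h.S_subset_range))

theorem card_closure_le : Nat.card ↥(Subgroup.closure {a, b} : Subgroup Z) ≤ 6 := by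
  have hfin : (Set.range (nf a b)).Finite := Set.finite_range _
  have h1 : ((Subgroup.closure {a, b} : Subgroup Z) : Set Z).ncard ≤ (Set.range (nf a b)).ncard :=
    Set.ncard_le_ncard (h.closure_subset.trans h.S_subset_range) hfin
  have h2 : (Set.range (nf a b)).ncard ≤ 6 := by
    rw [← Set.image_univ]
    refine (Set.ncard_image_le (Set.finite_univ)).trans ?_
    rw [Set.ncard_univ]
    simp [Nat.card_eq_fintype_card]
  have h3 : Nat.card ↥(Subgroup.closure {a, b} : Subgroup Z) =
      ((Subgroup.closure {a, b} : Subgroup Z) : Set Z).ncard := by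
    rw [← _root_.Nat.card_coe_set_eq]; rfl
  rw [h3]
  exact h1.trans h2

/-- lower bound: if `a ≠ b` the group generated has order 6 -/
theorem card_closure_eq (hne : a ≠ b) : Nat.card ↥(Subgroup.closure {a, b} : Subgroup Z) = 6 := by
  haveI := h.finite_closure
  have hle := h.card_closure_le
  have hx1 : a * b ≠ 1 := by
    intro h1
    apply hne
    have : a = b⁻¹ := eq_inv_of_mul_eq_one_left h1
    rw [this, h.b_inv]
  have ha1 : a ≠ 1 := by
    intro ha
    apply hx1
    have hb3 := h.hab
    have hb2 := h.hb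
    rw [ha, one_mul] at hb3 ⊢
    -- b^3 = 1, b^2 = 1
    calc b = b ^ 3 * (b * b)⁻¹ := by rw [pow_three]; group
      _ = 1 := by rw [hb3, hb2]; simp
  have ho3 : orderOf (a * b) = 3 := by
    have hd : orderOf (a * b) ∣ 3 := orderOf_dvd_of_pow_eq_one h.hab
    rcases (Nat.dvd_prime Nat.prime_three).mp hd with h1 | h3
    · exact absurd (orderOf_eq_one_iff.mp h1) hx1
    · exact h3
  have ho2 : orderOf a = 2 := by
    have hd : orderOf a ∣ 2 := orderOf_dvd_of_pow_eq_one (by rw [pow_two]; exact h.ha)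
    rcases (Nat.dvd_prime Nat.prime_two).mp hd with h1 | h2
    · exact absurd (orderOf_eq_one_iff.mp h1) ha1
    · exact h2
  have hamem : a ∈ Subgroup.closure ({a, b} : Set Z) := Subgroup.subset_closure (by simp)
  have hbmem : b ∈ Subgroup.closure ({a, b} : Set Z) := Subgroup.subset_closure (by simp)
  have d2 : 2 ∣ Nat.card ↥(Subgroup.closure {a, b} : Subgroup Z) := by
    have := orderOf_dvd_natCard (⟨a, hamem⟩ : ↥(Subgroup.closure ({a, b} : Set Z)))
    rwa [Subgroup.orderOf_mk, ho2] at this
  have d3 : 3 ∣ Nat.card ↥(Subgroup.closure {a, b} : Subgroup Z) := by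
    have := orderOf_dvd_natCard (⟨a * b, mul_mem hamem hbmem⟩ : ↥(Subgroup.closure ({a, b} : Set Z)))
    rwa [Subgroup.orderOf_mk, ho3] at this
  have d6 : 6 ∣ Nat.card ↥(Subgroup.closure {a, b} : Subgroup Z) :=
    Nat.Coprime.mul_dvd_of_dvd_of_dvd (by norm_num) d2 d3
  have hpos : 0 < Nat.card ↥(Subgroup.closure {a, b} : Subgroup Z) := Nat.card_pos
  exact le_antisymm hle (Nat.le_of_dvd hpos d6)

end Rel6

end Six

section FiftyFour

variable {Z : Type u} [Group Z]

/-- a noncommutative finite 3-group has order divisible by 27 -/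
theorem dvd_card_of_noncomm {Q : Type*} [Group Q] [Finite Q] (hQ : IsPGroup 3 Q) (u v : Q)
    (h : u * v ≠ v * u) : 27 ∣ Nat.card Q := by
  haveI : Fact (Nat.Prime 3) := ⟨Nat.prime_three⟩
  obtain ⟨n, hn⟩ := IsPGroup.iff_card.mp hQ
  have h3 : 3 ≤ n := by
    by_contra hlt
    push Not at hlt
    apply h
    interval_cases n
    · have : Subsingleton Q := (Nat.card_eq_one_iff_unique.mp (by simpa using hn)).1
      exact Subsingleton.elim _ _
    · haveI : Fact (Nat.Prime 3) := ⟨Nat.prime_three⟩
      have hc : IsCyclic Q := isCyclic_of_prime_card (p := 3) (by simpa using hn)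
      obtain ⟨g, hg⟩ := hc
      obtain ⟨i, rfl⟩ := hg u
      obtain ⟨j, rfl⟩ := hg v
      rw [← zpow_add, ← zpow_add, add_comm]
    · exact (IsPGroup.isMulCommutative_of_card_eq_prime_sq (p := 3) hn).is_comm.comm u v
  rw [hn]
  exact (show 27 = 3 ^ 3 by norm_num) ▸ pow_dvd_pow 3 h3

theorem Rel54.card_closure_eq {a b c : Z} (h : Rel54 a b c)
    (h3 : IsPGroup 3 ↥(Subgroup.closure ({a * b, a * c} : Set Z)))
    (hnc : (a * b) * (a * c) ≠ (a * c) * (a * b)) :
    Nat.card ↥(Subgroup.closure {a, b, c} : Subgroup Z) = 54 := by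
  haveI := h.finite_closure
  have hle := h.card_closure_le
  have hamem : a ∈ Subgroup.closure ({a, b, c} : Set Z) := Subgroup.subset_closure (by simp)
  have hbmem : b ∈ Subgroup.closure ({a, b, c} : Set Z) := Subgroup.subset_closure (by simp)
  have hcmem : c ∈ Subgroup.closure ({a, b, c} : Set Z) := Subgroup.subset_closure (by simp)
  have hQle : Subgroup.closure ({a * b, a * c} : Set Z) ≤ Subgroup.closure ({a, b, c} : Set Z) := by
    rw [Subgroup.closure_le]
    rintro g (rfl | rfl)
    · exact mul_mem hamem hbmem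
    · exact mul_mem hamem hcmem
  haveI : Finite ↥(Subgroup.closure ({a * b, a * c} : Set Z)) :=
    Finite.of_injective (Subgroup.inclusion hQle) (Subgroup.inclusion_injective hQle)
  have hxm : a * b ∈ Subgroup.closure ({a * b, a * c} : Set Z) := Subgroup.subset_closure (by simp)
  have hym : a * c ∈ Subgroup.closure ({a * b, a * c} : Set Z) := Subgroup.subset_closure (by simp)
  have d27 : 27 ∣ Nat.card ↥(Subgroup.closure ({a * b, a * c} : Set Z)) := by
    apply dvd_card_of_noncomm h3 ⟨a * b, hxm⟩ ⟨a * c, hym⟩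
    intro hcon
    apply hnc
    exact congrArg Subtype.val hcon
  have d27' : 27 ∣ Nat.card ↥(Subgroup.closure {a, b, c} : Subgroup Z) :=
    d27.trans (Subgroup.card_dvd_of_le hQle)
  have ha1 : a ≠ 1 := by
    intro ha
    apply hnc
    rw [ha, one_mul, one_mul]
    -- b^3 = 1 and b^2 = 1
    have hb1 : b = 1 := by
      have hb3 := h.hab
      rw [ha, one_mul] at hb3
      calc b = b ^ 3 * (b * b)⁻¹ := by rw [pow_three]; group
        _ = 1 := by rw [hb3, h.hb]; simp
    rw [hb1, one_mul, mul_one]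
  have ho2 : orderOf a = 2 := by
    have hd : orderOf a ∣ 2 := orderOf_dvd_of_pow_eq_one (by rw [pow_two]; exact h.ha)
    rcases (Nat.dvd_prime Nat.prime_two).mp hd with h1 | h2
    · exact absurd (orderOf_eq_one_iff.mp h1) ha1
    · exact h2
  have d2 : 2 ∣ Nat.card ↥(Subgroup.closure {a, b, c} : Subgroup Z) := by
    have := orderOf_dvd_natCard (⟨a, hamem⟩ : ↥(Subgroup.closure ({a, b, c} : Set Z)))
    rwa [Subgroup.orderOf_mk, ho2] at this
  have d54 : 54 ∣ Nat.card ↥(Subgroup.closure {a, b, c} : Subgroup Z) :=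
    Nat.Coprime.mul_dvd_of_dvd_of_dvd (by norm_num) d2 d27'
  have hpos : 0 < Nat.card ↥(Subgroup.closure {a, b, c} : Subgroup Z) := Nat.card_pos
  exact le_antisymm hle (Nat.le_of_dvd hpos d54)

end FiftyFour

section Graph

/-- The graph trick: two finite groups with generating families such that the diagonal subgroup of the
product is no larger than either group are isomorphic. -/
theorem iso_of_graph {G : Type u} {Y : Type v} [Group G] [Group Y] [Finite G] [Finite Y]
    {ι : Type*} (g : ι → G) (y : ι → Y)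
    (hg : Subgroup.closure (Set.range g) = ⊤) (hy : Subgroup.closure (Set.range y) = ⊤)
    (n : ℕ) (hG : n ≤ Nat.card G) (hY : n ≤ Nat.card Y)
    (hΓ : Nat.card ↥(Subgroup.closure (Set.range fun i => ((g i, y i) : G × Y))) ≤ n) :
    Nonempty (G ≃* Y) := by
  set Γ : Subgroup (G × Y) := Subgroup.closure (Set.range fun i => ((g i, y i) : G × Y)) with hΓdef
  let f1 : ↥Γ →* G := (MonoidHom.fst G Y).comp Γ.subtype
  let f2 : ↥Γ →* Y := (MonoidHom.snd G Y).comp Γ.subtype
  have hs1 : Function.Surjective f1 := by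
    rw [← MonoidHom.range_eq_top, eq_top_iff, ← hg, Subgroup.closure_le]
    rintro _ ⟨i, rfl⟩
    exact ⟨⟨(g i, y i), Subgroup.subset_closure ⟨i, rfl⟩⟩, rfl⟩
  have hs2 : Function.Surjective f2 := by
    rw [← MonoidHom.range_eq_top, eq_top_iff, ← hy, Subgroup.closure_le]
    rintro _ ⟨i, rfl⟩
    exact ⟨⟨(g i, y i), Subgroup.subset_closure ⟨i, rfl⟩⟩, rfl⟩
  have hb1 : Function.Bijective f1 := by
    rw [Nat.bijective_iff_surjective_and_card]
    exact ⟨hs1, le_antisymm (hΓ.trans hG) (Nat.card_le_card_of_surjective f1 hs1)⟩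
  have hb2 : Function.Bijective f2 := by
    rw [Nat.bijective_iff_surjective_and_card]
    exact ⟨hs2, le_antisymm (hΓ.trans hY) (Nat.card_le_card_of_surjective f2 hs2)⟩
  exact ⟨(MulEquiv.ofBijective f1 hb1).symm.trans (MulEquiv.ofBijective f2 hb2)⟩

end Graph

section OneClass

/-- a finite `p`-group generated by the conjugates of one element is generated by that element. -/
theorem zpowers_eq_top_of_class {X : Type u} [Group X] [Finite X] {p : ℕ} [hp : Fact p.Prime]
    (hX : IsPGroup p X) (d : X) (hcl : Subgroup.closure (conjugatesOf d) = ⊤) :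
    Subgroup.zpowers d = ⊤ := by
  by_contra hne
  obtain ⟨M, hM, hdM⟩ := (eq_top_or_exists_le_coatom (Subgroup.zpowers d)).resolve_left hne
  haveI hMn : M.Normal := Cfsg.Agent.Lib.Helper1.normal_of_isCoatom_of_isPGroup p hX M hM
  have hd : d ∈ M := hdM (Subgroup.mem_zpowers d)
  have : Subgroup.closure (conjugatesOf d) ≤ M := by
    rw [Subgroup.closure_le]
    intro e he
    have he' : IsConj d e := he
    rw [isConj_iff] at he'
    obtain ⟨c, rfl⟩ := he'
    exact hMn.conj_mem d hd c
  rw [hcl] at this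
  exact hM.1 (top_le_iff.mp this)

/-- in that case `d` is central. -/
theorem central_of_class {X : Type u} [Group X] [Finite X] {p : ℕ} [hp : Fact p.Prime]
    (hX : IsPGroup p X) (d : X) (hcl : Subgroup.closure (conjugatesOf d) = ⊤) (g : X) :
    g * d * g⁻¹ = d := by
  have htop := zpowers_eq_top_of_class hX d hcl
  have hg : g ∈ Subgroup.zpowers d := by rw [htop]; trivial
  obtain ⟨k, rfl⟩ := Subgroup.mem_zpowers_iff.mp hg
  rw [← zpow_add_one, ← zpow_neg, ← zpow_add]; simp

end OneClass

end Cfsg.Agent.Lib.Helper3.TTS
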