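import Mathlib
import Cfsg.Prelude
import Cfsg.Agent.Lib.Helper3.TTS3

set_option autoImplicit false
set_option maxHeartbeats 4000000
set_option linter.unusedVariables false
set_option linter.unusedSectionVars false
set_option linter.style.longLine false
set_option linter.unusedSimpArgs false
set_option linter.deprecated false
set_option linter.style.haveILetI false

/-!
# The norm identity for an elementary abelian group of order 9 acting on a group of exponent 2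
-/

universe u v
namespace Cfsg.Agent.Lib.Helper3.TTS

section Gen

theorem nine_identity {M : Type*} [CommGroup M] (hsq : ∀ a : M, a * a = 1) (a b c d e f g h i : M) :
    a = (a * b * c) * (a * d * e) * (a * f * g) * (a * h * i) * ((a * b * c) * (d * f * h) * (e * i * g)) := by
  have key : (a * b * c) * (a * d * e) * (a * f * g) * (a * h * i) * ((a * b * c) * (d * f * h) * (e * i * g))
      = a * ((a * a * b * c * d * e * f * g * h * i) * (a * a * b * c * d * e * f * g * h * i)) := by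
    ac_rfl
  rw [key, hsq, mul_one]

variable {W : Type v} [Group W]

theorem comm_of_sq (hW : ∀ w : W, w * w = 1) (a b : W) : a * b = b * a := by
  have hinv : ∀ w : W, w⁻¹ = w := fun w => inv_eq_of_mul_eq_one_right (hW w)
  calc a * b = (a * b)⁻¹ := (hinv _).symm
    _ = b⁻¹ * a⁻¹ := mul_inv_rev a b
    _ = b * a := by rw [hinv, hinv]

theorem nine_identity' (hW : ∀ w : W, w * w = 1) (a b c d e f g h i : W) :
    a = (a * b * c) * (a * d * e) * (a * f * g) * (a * h * i) * ((a * b * c) * (d * f * h) * (e * i * g)) := by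
  let inst : CommGroup W := { (inferInstance : Group W) with mul_comm := comm_of_sq hW }
  exact @nine_identity W inst hW a b c d e f g h i

/-- two commuting automorphisms of order 3 of a group of exponent 2: the group is generated by the fixed points
of the four cyclic subgroups. -/
theorem gen_top (hW : ∀ w : W, w * w = 1) (φ ψ : W →* W)
    (hc : ∀ w, φ (ψ w) = ψ (φ w)) (hφ3 : ∀ w, φ (φ (φ w)) = w) (hψ3 : ∀ w, ψ (ψ (ψ w)) = w)
    (U : Subgroup W) (h1 : ∀ w, φ w = w → w ∈ U) (h2 : ∀ w, ψ w = w → w ∈ U)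
    (h3 : ∀ w, φ (ψ w) = w → w ∈ U) (h4 : ∀ w, φ (φ (ψ w)) = w → w ∈ U) (w : W) : w ∈ U := by
  have hc' : ∀ x, ψ (φ x) = φ (ψ x) := fun x => (hc x).symm
  have hcomm := comm_of_sq hW
  have rot : ∀ a b c : W, b * c * a = a * b * c := by
    intro a b c
    rw [hcomm (b * c) a, mul_assoc]
  have e1 : w * φ w * φ (φ w) ∈ U := by
    apply h1
    rw [map_mul, map_mul, hφ3]
    exact rot _ _ _
  have e2 : w * ψ w * ψ (ψ w) ∈ U := by
    apply h2
    rw [map_mul, map_mul, hψ3]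
    exact rot _ _ _
  have e3 : w * φ (ψ w) * φ (φ (ψ (ψ w))) ∈ U := by
    apply h3
    simp only [map_mul, hc', hφ3, hψ3]
    exact rot _ _ _
  have e4 : w * φ (φ (ψ w)) * φ (ψ (ψ w)) ∈ U := by
    apply h4
    simp only [map_mul, hc', hφ3, hψ3]
    exact rot _ _ _
  have e5 : (w * φ w * φ (φ w)) * (ψ w * φ (ψ w) * φ (φ (ψ w))) *
      (ψ (ψ w) * φ (ψ (ψ w)) * φ (φ (ψ (ψ w)))) ∈ U := by
    apply h1
    simp only [map_mul, hφ3]
    rw [rot w, rot (ψ w), rot (ψ (ψ w))]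
  have key := nine_identity' hW w (φ w) (φ (φ w)) (ψ w) (ψ (ψ w)) (φ (ψ w)) (φ (φ (ψ (ψ w))))
    (φ (φ (ψ w))) (φ (ψ (ψ w)))
  rw [key]
  exact U.mul_mem (U.mul_mem (U.mul_mem (U.mul_mem e1 e2) e3) e4) e5

/-- the same on an invariant subgroup -/
theorem gen_sub (hW : ∀ w : W, w * w = 1) (φ ψ : W →* W) (W₀ U : Subgroup W)
    (hφ : ∀ w ∈ W₀, φ w ∈ W₀) (hψ : ∀ w ∈ W₀, ψ w ∈ W₀)
    (hc : ∀ w ∈ W₀, φ (ψ w) = ψ (φ w)) (hφ3 : ∀ w ∈ W₀, φ (φ (φ w)) = w)
    (hψ3 : ∀ w ∈ W₀, ψ (ψ (ψ w)) = w)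
    (h1 : ∀ w ∈ W₀, φ w = w → w ∈ U) (h2 : ∀ w ∈ W₀, ψ w = w → w ∈ U)
    (h3 : ∀ w ∈ W₀, φ (ψ w) = w → w ∈ U) (h4 : ∀ w ∈ W₀, φ (φ (ψ w)) = w → w ∈ U) : W₀ ≤ U := by
  let φ₀ : ↥W₀ →* ↥W₀ := (φ.comp W₀.subtype).codRestrict W₀ (fun w => hφ w w.2)
  let ψ₀ : ↥W₀ →* ↥W₀ := (ψ.comp W₀.subtype).codRestrict W₀ (fun w => hψ w w.2)
  have hφ₀ : ∀ w : ↥W₀, ((φ₀ w : ↥W₀) : W) = φ (w : W) := fun w => rfl
  have hψ₀ : ∀ w : ↥W₀, ((ψ₀ w : ↥W₀) : W) = ψ (w : W) := fun w => rfl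
  intro w hw
  have := gen_top (W := ↥W₀) (fun w => Subtype.ext (hW w)) φ₀ ψ₀
    (fun w => Subtype.ext (by rw [hφ₀, hψ₀, hψ₀, hφ₀]; exact hc w w.2))
    (fun w => Subtype.ext (by rw [hφ₀, hφ₀, hφ₀]; exact hφ3 w w.2))
    (fun w => Subtype.ext (by rw [hψ₀, hψ₀, hψ₀]; exact hψ3 w w.2))
    (U.comap W₀.subtype)
    (fun w hfix => h1 w w.2 (by rw [← hφ₀, hfix]))
    (fun w hfix => h2 w w.2 (by rw [← hψ₀, hfix]))
    (fun w hfix => h3 w w.2 (by rw [← hψ₀, ← hφ₀, hfix]))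
    (fun w hfix => h4 w w.2 (by rw [← hψ₀, ← hφ₀, ← hφ₀, hfix]))
    ⟨w, hw⟩
  exact this

end Gen

end Cfsg.Agent.Lib.Helper3.TTS
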