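import Mathlib
import Cfsg.Prelude
import Cfsg.Agent.Lib.Helper3.TTS4

set_option autoImplicit false
set_option maxHeartbeats 4000000
set_option linter.unusedVariables false
set_option linter.unusedSectionVars false
set_option linter.style.longLine false
set_option linter.unusedSimpArgs false
set_option linter.deprecated false
set_option linter.style.haveILetI false

/-!
# 3-transposition groups of shape (3-group):2 acting faithfully on a group of exponent 2 with
`Fix(ef) ≤ Fix(e)`: basic lemmas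
-/

universe u v
namespace Cfsg.Agent.Lib.Helper3.TTS

/-- the module setting -/
structure Ctx (G : Type u) [Group G] (W : Type v) [Group W] where
  ρ : G →* MulAut W
  D : Set G
  hρ : Function.Injective ρ
  hW : ∀ w : W, w * w = 1
  hconj : ∀ g : G, ∀ e ∈ D, g * e * g⁻¹ ∈ D
  hcl : Subgroup.closure D = ⊤
  hinv : ∀ e ∈ D, e * e = 1
  h3 : ∀ e ∈ D, ∀ f ∈ D, e ≠ f → (e * f) ^ 3 = 1
  hfix : ∀ e ∈ D, ∀ f ∈ D, e ≠ f → ∀ w : W, ρ (e * f) w = w → ρ e w = w
  hne : ∃ e ∈ D, ∃ f ∈ D, e ≠ f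
  P : Subgroup G
  hP3 : IsPGroup 3 P
  hPn : P.Normal
  hPall : ∀ g : G, g ^ 3 = 1 → g ∈ P

namespace Ctx

variable {G : Type u} [Group G] {W : Type v} [Group W] (C : Ctx G W)

theorem ρ_mul (x y : G) (w : W) : C.ρ (x * y) w = C.ρ x (C.ρ y w) := by
  rw [map_mul]; rfl

theorem ρ_one (w : W) : C.ρ 1 w = w := by
  rw [map_one]; rfl

theorem ρ_cube {x : G} (hx : x ^ 3 = 1) (w : W) : C.ρ x (C.ρ x (C.ρ x w)) = w := by
  rw [← C.ρ_mul, ← C.ρ_mul, ← pow_three', hx, C.ρ_one]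

/-- the fixed points of an element -/
def fixSub (g : G) : Subgroup W where
  carrier := {w | C.ρ g w = w}
  mul_mem' := by
    intro a b ha hb
    show C.ρ g (a * b) = a * b
    rw [map_mul, ha, hb]
  one_mem' := map_one _
  inv_mem' := by
    intro a ha
    show C.ρ g a⁻¹ = a⁻¹
    rw [map_inv, ha]

theorem mem_fixSub {g : G} {w : W} : w ∈ C.fixSub g ↔ C.ρ g w = w := Iff.rfl

theorem one_notMem : (1 : G) ∉ C.D := by
  intro h1
  obtain ⟨e, he, f, hf, hef⟩ := C.hne
  have key : ∀ e ∈ C.D, e = 1 := by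
    intro e he
    by_contra hne
    have h3 := C.h3 1 h1 e he (Ne.symm hne)
    rw [one_mul] at h3
    have h2 := C.hinv e he
    apply hne
    calc e = e ^ 3 * (e * e)⁻¹ := by rw [pow_three]; group
      _ = 1 := by rw [h3, h2]; simp
  exact hef ((key e he).trans (key f hf).symm)

/-- the elements `x` with `d x ∈ D` -/
def I (d : G) : Set G := {x | d * x ∈ C.D}

variable {d : G} (hd : d ∈ C.D)

include hd

theorem d_inv : d⁻¹ = d := inv_eq_of_mul_eq_one_right (C.hinv d hd)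

theorem d_ne_one : d ≠ 1 := fun h => C.one_notMem (h ▸ hd)

theorem one_mem_I : (1 : G) ∈ C.I d := by
  show d * 1 ∈ C.D
  rw [mul_one]; exact hd

theorem conj_eq_inv {x : G} (hx : x ∈ C.I d) : d * x * d⁻¹ = x⁻¹ := by
  have h := C.hinv (d * x) hx
  rw [C.d_inv hd]
  have : d * x * d * x = 1 := by rw [← h]; group
  exact eq_inv_of_mul_eq_one_left this

theorem dx_eq {x : G} (hx : x ∈ C.I d) : d * x = x⁻¹ * d := by
  have h := C.conj_eq_inv hd hx
  rw [← h]; group

theorem ddx (x : G) : d * (d * x) = x := by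
  rw [← mul_assoc, C.hinv d hd, one_mul]

theorem cube {x : G} (hx : x ∈ C.I d) : x ^ 3 = 1 := by
  by_cases h : d = d * x
  · have : x = 1 := by
      have h2 : d * d = d * (d * x) := by rw [← h]
      rw [C.hinv d hd, C.ddx hd] at h2
      exact h2.symm
    rw [this, one_pow]
  · have := C.h3 d hd (d * x) hx h
    rwa [C.ddx hd] at this

theorem inv_mem {x : G} (hx : x ∈ C.I d) : x⁻¹ ∈ C.I d := by
  show d * x⁻¹ ∈ C.D
  have h := C.hconj d⁻¹ (d * x) hx
  have e : d⁻¹ * (d * x) * d⁻¹⁻¹ = d * x⁻¹ := by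
    have hxinv : x⁻¹ = d * x * d := by rw [← C.conj_eq_inv hd hx, C.d_inv hd]
    rw [inv_inv, C.d_inv hd, hxinv]
    have hdd := C.hinv d hd
    calc d * (d * x) * d = (d * d) * x * d := by group
      _ = x * d := by rw [hdd, one_mul]
      _ = (d * d) * x * d := by rw [hdd, one_mul]
      _ = d * (d * x * d) := by group
  rw [e] at h
  exact h

theorem sandwich {x y : G} (hx : x ∈ C.I d) (hy : y ∈ C.I d) : x * y * x ∈ C.I d := by
  show d * (x * y * x) ∈ C.D
  have h := C.hconj x⁻¹ (d * y) hy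
  have e : x⁻¹ * (d * y) * x⁻¹⁻¹ = d * (x * y * x) := by
    rw [inv_inv]
    have h1 := C.dx_eq hd hx
    calc x⁻¹ * (d * y) * x = (x⁻¹ * d) * y * x := by group
      _ = (d * x) * y * x := by rw [h1]
      _ = d * (x * y * x) := by group
  rw [e] at h
  exact h

theorem mul_cube {x y : G} (hx : x ∈ C.I d) (hy : y ∈ C.I d) : (x⁻¹ * y) ^ 3 = 1 := by
  by_cases h : d * x = d * y
  · have : x = y := mul_left_cancel h
    rw [this, inv_mul_cancel, one_pow]
  · have h3 := C.h3 (d * x) hx (d * y) hy h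
    have e : d * x * (d * y) = x⁻¹ * y := by
      rw [C.dx_eq hd hx]
      calc x⁻¹ * d * (d * y) = x⁻¹ * (d * d) * y := by group
        _ = x⁻¹ * y := by rw [C.hinv d hd, mul_one]
    rwa [e] at h3

theorem mul_cube' {x y : G} (hx : x ∈ C.I d) (hy : y ∈ C.I d) : (x * y) ^ 3 = 1 := by
  have := C.mul_cube hd (C.inv_mem hd hx) hy
  rwa [inv_inv] at this

theorem fix_le {x : G} (hx : x ∈ C.I d) (hx1 : x ≠ 1) (w : W) (h : C.ρ x w = w) : C.ρ d w = w := by
  have hne : d ≠ d * x := by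
    intro e
    apply hx1
    have h2 : d * d = d * (d * x) := by rw [← e]
    rw [C.hinv d hd, C.ddx hd] at h2
    exact h2.symm
  apply C.hfix d hd (d * x) hx hne w
  rw [C.ddx hd]; exact h

theorem mem_P {x : G} (hx : x ∈ C.I d) : x ∈ C.P := C.hPall x (C.cube hd hx)

theorem x_inv_eq {x : G} (hx : x ∈ C.I d) : x⁻¹ = x * x := by
  have := C.cube hd hx
  rw [pow_three] at this
  exact inv_eq_of_mul_eq_one_right this

/-- commuting elements of `I` are dependent -/
theorem comm_cases {x y : G} (hx : x ∈ C.I d) (hy : y ∈ C.I d) (hx1 : x ≠ 1) (hxy : x * y = y * x) :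
    y = 1 ∨ y = x ∨ y = x⁻¹ := by
  by_contra hcon
  push Not at hcon
  obtain ⟨hy1, hyx, hyxi⟩ := hcon
  have hxi := C.x_inv_eq hd hx
  -- x * y ∈ I
  have hm1 : x * y ∈ C.I d := by
    have h := C.sandwich hd (C.inv_mem hd hx) hy
    have e : x⁻¹ * y * x⁻¹ = x * y := by
      have hc : y * x⁻¹ = x⁻¹ * y := by
        have : x⁻¹ * (x * y) * x⁻¹ = x⁻¹ * (y * x) * x⁻¹ := by rw [hxy]
        calc y * x⁻¹ = x⁻¹ * (x * y) * x⁻¹ := by group
          _ = x⁻¹ * (y * x) * x⁻¹ := this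
          _ = x⁻¹ * y := by group
      calc x⁻¹ * y * x⁻¹ = x⁻¹ * (y * x⁻¹) := by group
        _ = x⁻¹ * (x⁻¹ * y) := by rw [hc]
        _ = (x⁻¹ * x⁻¹) * y := by group
        _ = x * y := by
          have : x⁻¹ * x⁻¹ = x := by
            rw [hxi]
            have h3 := C.cube hd hx
            calc x * x * (x * x) = x ^ 3 * x := by rw [pow_three]; group
              _ = x := by rw [h3, one_mul]
          rw [this]
    rwa [e] at h
  have hm2 : x * x * y ∈ C.I d := by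
    have h := C.sandwich hd hx hy
    have e : x * y * x = x * x * y := by
      calc x * y * x = x * (y * x) := by group
        _ = x * (x * y) := by rw [hxy]
        _ = x * x * y := by group
    rwa [e] at h
  have hn1 : x * y ≠ 1 := by
    intro h
    exact hyxi (eq_inv_of_mul_eq_one_right h)
  have hn2 : x * x * y ≠ 1 := by
    intro h
    apply hyx
    have : y = (x * x)⁻¹ := eq_inv_of_mul_eq_one_right h
    rw [this, ← hxi, inv_inv]
  have hall : ∀ w : W, w ∈ C.fixSub d := by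
    intro w
    refine gen_top C.hW (C.ρ x).toMonoidHom (C.ρ y).toMonoidHom ?_ ?_ ?_ (C.fixSub d) ?_ ?_ ?_ ?_ w
    · intro w
      show C.ρ x (C.ρ y w) = C.ρ y (C.ρ x w)
      rw [← C.ρ_mul, ← C.ρ_mul, hxy]
    · intro w
      exact C.ρ_cube (C.cube hd hx) w
    · intro w
      exact C.ρ_cube (C.cube hd hy) w
    · intro w h
      exact C.fix_le hd hx hx1 w h
    · intro w h
      exact C.fix_le hd hy hy1 w h
    · intro w h
      apply C.fix_le hd hm1 hn1 w
      rw [C.ρ_mul]; exact h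
    · intro w h
      apply C.fix_le hd hm2 hn2 w
      rw [C.ρ_mul, C.ρ_mul]; exact h
  apply C.d_ne_one hd
  apply C.hρ
  ext w
  rw [map_one]
  exact hall w

/-- the plane lemma: the fixed points of the commutator of two non-commuting elements of `I` are fixed by them -/
theorem fix_comm {x y : G} (hx : x ∈ C.I d) (hy : y ∈ C.I d) (hnc : x * y ≠ y * x) (w : W)
    (hz : C.ρ (x * y * x⁻¹ * y⁻¹) w = w) : C.ρ x w = w := by
  have hx3 := C.cube hd hx
  have hy3 := C.cube hd hy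
  have hxy3 := C.mul_cube' hd hx hy
  have hxiy3 := C.mul_cube hd hx hy
  have hzx := b23_comm_left hx3 hy3 hxy3 hxiy3
  have hzy := b23_comm_right hx3 hy3 hxy3 hxiy3
  have hxi := C.x_inv_eq hd hx
  have hx1 : x ≠ 1 := by
    intro h; apply hnc; rw [h, one_mul, mul_one]
  have hy1 : y ≠ 1 := by
    intro h; apply hnc; rw [h, one_mul, mul_one]
  -- invariance of W₀
  have hinvx : ∀ w ∈ C.fixSub (x * y * x⁻¹ * y⁻¹), C.ρ x w ∈ C.fixSub (x * y * x⁻¹ * y⁻¹) := by
    intro w hw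
    rw [C.mem_fixSub] at hw ⊢
    rw [← C.ρ_mul, ← hzx, C.ρ_mul, hw]
  have hinvy : ∀ w ∈ C.fixSub (x * y * x⁻¹ * y⁻¹), C.ρ y w ∈ C.fixSub (x * y * x⁻¹ * y⁻¹) := by
    intro w hw
    rw [C.mem_fixSub] at hw ⊢
    rw [← C.ρ_mul, ← hzy, C.ρ_mul, hw]
  have hcomm : ∀ w ∈ C.fixSub (x * y * x⁻¹ * y⁻¹), C.ρ x (C.ρ y w) = C.ρ y (C.ρ x w) := by
    intro w hw
    have e : x * y = (x * y * x⁻¹ * y⁻¹) * (y * x) := by group
    have hmem := hinvy _ (hinvx w hw)
    rw [C.mem_fixSub] at hmem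
    rw [← C.ρ_mul, e, C.ρ_mul, C.ρ_mul y x, hmem]
  -- the elements x⁻¹ y x⁻¹ and x y x
  have hm1 : x⁻¹ * y * x⁻¹ ∈ C.I d := C.sandwich hd (C.inv_mem hd hx) hy
  have hm2 : x * y * x ∈ C.I d := C.sandwich hd hx hy
  have hn1 : x⁻¹ * y * x⁻¹ ≠ 1 := by
    intro h
    apply hnc
    have : y = x * x := by
      calc y = x * (x⁻¹ * y * x⁻¹) * x := by group
        _ = x * x := by rw [h, mul_one]
    rw [this]; group
  have hn2 : x * y * x ≠ 1 := by
    intro h
    apply hnc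
    have : y = x⁻¹ * x⁻¹ := by
      calc y = x⁻¹ * (x * y * x) * x⁻¹ := by group
        _ = x⁻¹ * x⁻¹ := by rw [h, mul_one]
    rw [this]; group
  have hle : C.fixSub (x * y * x⁻¹ * y⁻¹) ≤ C.fixSub d := by
    refine gen_sub C.hW (C.ρ x).toMonoidHom (C.ρ y).toMonoidHom _ _ hinvx hinvy hcomm ?_ ?_ ?_ ?_ ?_ ?_
    · intro w _
      exact C.ρ_cube hx3 w
    · intro w _
      exact C.ρ_cube hy3 w
    · intro w _ h
      exact C.fix_le hd hx hx1 w h
    · intro w _ h
      exact C.fix_le hd hy hy1 w h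
    · intro w hw h
      -- ρ x (ρ y w) = w ; the element x⁻¹ y x⁻¹ acts in the same way
      apply C.fix_le hd hm1 hn1 w
      have h' : C.ρ x (C.ρ y w) = w := h
      rw [hxi]
      have e : x * x * y * (x * x) = x * (x * (y * (x * x))) := by group
      rw [e, C.ρ_mul, C.ρ_mul, C.ρ_mul, C.ρ_mul]
      -- ρ x (ρ x (ρ y (ρ x (ρ x w))))
      have c1 : C.ρ y (C.ρ x (C.ρ x w)) = C.ρ x (C.ρ y (C.ρ x w)) := (hcomm _ (hinvx w hw)).symm
      have c2 : C.ρ y (C.ρ x w) = C.ρ x (C.ρ y w) := (hcomm _ hw).symm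
      rw [c1, c2, C.ρ_cube hx3, h']
    · intro w hw h
      apply C.fix_le hd hm2 hn2 w
      have h' : C.ρ x (C.ρ x (C.ρ y w)) = w := h
      have e : x * y * x = x * (y * x) := by group
      rw [e, C.ρ_mul, C.ρ_mul]
      have c2 : C.ρ y (C.ρ x w) = C.ρ x (C.ρ y w) := (hcomm _ hw).symm
      rw [c2, h']
  -- conclusion
  have hw0 : w ∈ C.fixSub (x * y * x⁻¹ * y⁻¹) := hz
  have hdw : C.ρ d w = w := hle hw0
  have hdxw : C.ρ d (C.ρ x w) = C.ρ x w := hle (hinvx w hw0)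
  have e1 : C.ρ d (C.ρ x w) = C.ρ x⁻¹ w := by
    rw [← C.ρ_mul, C.dx_eq hd hx, C.ρ_mul, hdw]
  have e2 : C.ρ x w = C.ρ x⁻¹ w := hdxw.symm.trans e1
  have e3 : C.ρ x (C.ρ x w) = w := by
    rw [e2, ← C.ρ_mul, mul_inv_cancel, C.ρ_one]
  have e4 := C.ρ_cube hx3 w
  rw [e3] at e4
  exact e4

end Ctx

end Cfsg.Agent.Lib.Helper3.TTS
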