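import Mathlib
import Cfsg.Prelude
import Cfsg.Agent.Lib.Helper3.TTS5

set_option autoImplicit false
set_option maxHeartbeats 4000000
set_option linter.unusedVariables false
set_option linter.unusedSectionVars false
set_option linter.style.longLine false
set_option linter.unusedSimpArgs false
set_option linter.deprecated false
set_option linter.style.haveILetI false

/-!
# The structure theorem: the group is generated by two or three 3-transpositions with the relations of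
`S_3` or of `SU_3(2)'`
-/

universe u v
namespace Cfsg.Agent.Lib.Helper3.TTS

namespace Ctx

variable {G : Type u} [Group G] {W : Type v} [Group W] (C : Ctx G W)

/-- the centre of `P` -/
def Z1 : Subgroup G := C.P ⊓ Subgroup.centralizer (C.P : Set G)

theorem mem_Z1 {z : G} : z ∈ C.Z1 ↔ z ∈ C.P ∧ ∀ h ∈ C.P, h * z = z * h := by
  unfold Z1
  rw [Subgroup.mem_inf, Subgroup.mem_centralizer_iff]
  rfl

theorem Z1_normal : C.Z1.Normal := by
  haveI := C.hPn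
  unfold Z1
  infer_instance

/-- the second centre of `P` -/
def Z2 : Subgroup G where
  carrier := {g | g ∈ C.P ∧ ∀ h ∈ C.P, g * h * g⁻¹ * h⁻¹ ∈ C.Z1}
  one_mem' := by
    refine ⟨C.P.one_mem, fun h hh => ?_⟩
    have : (1 : G) * h * 1⁻¹ * h⁻¹ = 1 := by group
    rw [this]; exact C.Z1.one_mem
  mul_mem' := by
    rintro g g' ⟨hg, hgz⟩ ⟨hg', hgz'⟩
    refine ⟨C.P.mul_mem hg hg', fun h hh => ?_⟩
    have h1 := hgz h hh
    have h2 := hgz' h hh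
    have hc := ((C.mem_Z1).mp h2).2 g hg
    have e : g * g' * h * (g * g')⁻¹ * h⁻¹ = (g' * h * g'⁻¹ * h⁻¹) * (g * h * g⁻¹ * h⁻¹) := by
      calc g * g' * h * (g * g')⁻¹ * h⁻¹ = (g * (g' * h * g'⁻¹ * h⁻¹)) * (h * g⁻¹ * h⁻¹) := by group
        _ = ((g' * h * g'⁻¹ * h⁻¹) * g) * (h * g⁻¹ * h⁻¹) := by rw [hc]
        _ = (g' * h * g'⁻¹ * h⁻¹) * (g * h * g⁻¹ * h⁻¹) := by group
    rw [e]
    exact C.Z1.mul_mem h2 h1
  inv_mem' := by
    rintro g ⟨hg, hgz⟩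
    refine ⟨C.P.inv_mem hg, fun h hh => ?_⟩
    have h1 := C.Z1.inv_mem (hgz h hh)
    have hc := ((C.mem_Z1).mp h1).2 g hg
    have e : g⁻¹ * h * g⁻¹⁻¹ * h⁻¹ = (g * h * g⁻¹ * h⁻¹)⁻¹ := by
      calc g⁻¹ * h * g⁻¹⁻¹ * h⁻¹ = g⁻¹ * ((g * h * g⁻¹ * h⁻¹)⁻¹ * g) := by group
        _ = g⁻¹ * (g * (g * h * g⁻¹ * h⁻¹)⁻¹) := by rw [hc]
        _ = (g * h * g⁻¹ * h⁻¹)⁻¹ := by group
    rw [e]; exact h1

theorem mem_Z2 {g : G} : g ∈ C.Z2 ↔ g ∈ C.P ∧ ∀ h ∈ C.P, g * h * g⁻¹ * h⁻¹ ∈ C.Z1 := Iff.rfl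

theorem Z2_conj {g : G} (hg : g ∈ C.Z2) (t : G) : t * g * t⁻¹ ∈ C.Z2 := by
  haveI := C.hPn
  haveI := C.Z1_normal
  obtain ⟨hgP, hgz⟩ := hg
  refine ⟨C.hPn.conj_mem g hgP t, fun h hh => ?_⟩
  have hh' : t⁻¹ * h * t⁻¹⁻¹ ∈ C.P := C.hPn.conj_mem h hh t⁻¹
  have h1 := C.Z1_normal.conj_mem _ (hgz _ hh') t
  have e : t * g * t⁻¹ * h * (t * g * t⁻¹)⁻¹ * h⁻¹ =
      t * (g * (t⁻¹ * h * t⁻¹⁻¹) * g⁻¹ * (t⁻¹ * h * t⁻¹⁻¹)⁻¹) * t⁻¹ := by group
  rw [e]; exact h1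

variable [Finite G]

/-- a noncommutative `P` has an element of the second centre outside the centre -/
theorem exists_Z2 (u v : G) (hu : u ∈ C.P) (hv : v ∈ C.P) (huv : u * v ≠ v * u) :
    ∃ g, g ∈ C.Z2 ∧ g ∉ C.Z1 := by
  haveI : Fact (Nat.Prime 3) := ⟨Nat.prime_three⟩
  have hQ : IsPGroup 3 (↥C.P ⧸ Subgroup.center ↥C.P) := C.hP3.to_quotient _
  haveI : Nontrivial (↥C.P ⧸ Subgroup.center ↥C.P) := by
    by_contra hnt
    rw [not_nontrivial_iff_subsingleton] at hnt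
    apply huv
    have h1 : ((⟨u, hu⟩ : ↥C.P) : ↥C.P ⧸ Subgroup.center ↥C.P) = 1 := Subsingleton.elim _ _
    rw [QuotientGroup.eq_one_iff, Subgroup.mem_center_iff] at h1
    have := h1 ⟨v, hv⟩
    exact (congrArg Subtype.val this).symm
  haveI := hQ.center_nontrivial
  obtain ⟨⟨q, hq⟩, hq1⟩ := exists_ne (1 : ↥(Subgroup.center (↥C.P ⧸ Subgroup.center ↥C.P)))
  have hq1' : q ≠ 1 := fun h => hq1 (Subtype.ext h)
  obtain ⟨g₀, rfl⟩ := QuotientGroup.mk_surjective q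
  refine ⟨(g₀ : G), ⟨g₀.2, fun h hh => ?_⟩, ?_⟩
  · rw [Subgroup.mem_center_iff] at hq
    have h1 : ((g₀ * ⟨h, hh⟩ * g₀⁻¹ * (⟨h, hh⟩ : ↥C.P)⁻¹ : ↥C.P) : ↥C.P ⧸ Subgroup.center ↥C.P) = 1 := by
      have := hq ((⟨h, hh⟩ : ↥C.P) : ↥C.P ⧸ Subgroup.center ↥C.P)
      simp only [QuotientGroup.mk_mul, QuotientGroup.mk_inv]
      rw [← this]; group
    rw [QuotientGroup.eq_one_iff, Subgroup.mem_center_iff] at h1
    rw [C.mem_Z1]
    refine ⟨(g₀ * ⟨h, hh⟩ * g₀⁻¹ * (⟨h, hh⟩ : ↥C.P)⁻¹ : ↥C.P).2, fun k hk => ?_⟩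
    exact congrArg Subtype.val (h1 ⟨k, hk⟩)
  · intro hz
    apply hq1'
    rw [QuotientGroup.eq_one_iff, Subgroup.mem_center_iff]
    intro k
    apply Subtype.ext
    exact ((C.mem_Z1).mp hz).2 k k.2

/-- the commutator map of an element of the second centre is multiplicative on `P` -/
theorem comm_mul {x : G} (hx : x ∈ C.Z2) {h k : G} (hh : h ∈ C.P) (hk : k ∈ C.P) :
    x * (h * k) * x⁻¹ * (h * k)⁻¹ = (x * h * x⁻¹ * h⁻¹) * (x * k * x⁻¹ * k⁻¹) := by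
  have hz := ((C.mem_Z2).mp hx).2 k hk
  have hc := ((C.mem_Z1).mp hz).2 h hh
  calc x * (h * k) * x⁻¹ * (h * k)⁻¹ = (x * h * x⁻¹ * h⁻¹) * (h * (x * k * x⁻¹ * k⁻¹)) * h⁻¹ := by group
    _ = (x * h * x⁻¹ * h⁻¹) * ((x * k * x⁻¹ * k⁻¹) * h) * h⁻¹ := by rw [hc]
    _ = (x * h * x⁻¹ * h⁻¹) * (x * k * x⁻¹ * k⁻¹) := by group

theorem comm_inv {x : G} (hx : x ∈ C.Z2) {h : G} (hh : h ∈ C.P) :
    x * h⁻¹ * x⁻¹ * h⁻¹⁻¹ = (x * h * x⁻¹ * h⁻¹)⁻¹ := by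
  have h1 := C.comm_mul hx hh (C.P.inv_mem hh)
  have e : x * (h * h⁻¹) * x⁻¹ * (h * h⁻¹)⁻¹ = 1 := by group
  rw [e] at h1
  exact (inv_eq_of_mul_eq_one_right h1.symm).symm

variable {d : G} (hd : d ∈ C.D)

include hd

/-- elements of `D` are of the form `d x` with `x ∈ I` -/
theorem mem_I_of_mem_D {e : G} (he : e ∈ C.D) : d * e ∈ C.I d := by
  show d * (d * e) ∈ C.D
  rw [C.ddx hd]; exact he

/-- an element of `P` inverted by `d` lies in `I` -/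
theorem mem_I_of_inverted {x : G} (hx : x ∈ C.P) (hinv : d * x * d⁻¹ = x⁻¹) : x ∈ C.I d := by
  haveI : Fact (Nat.Prime 3) := ⟨Nat.prime_three⟩
  -- odd order
  obtain ⟨k, hk⟩ := (C.hP3 ⟨x, hx⟩)
  have hk' : x ^ (3 ^ k) = 1 := by
    have := congrArg Subtype.val hk
    simpa using this
  have hodd : Odd (3 ^ k) := Odd.pow (by decide)
  obtain ⟨m, hm⟩ := hodd
  -- y = x^(m+1), y*y = x
  have hyy : x ^ (m + 1) * x ^ (m + 1) = x := by
    rw [← pow_add]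
    have : m + 1 + (m + 1) = 3 ^ k + 1 := by omega
    rw [this, pow_succ, hk', one_mul]
  have hyinv : d * x ^ (m + 1) * d⁻¹ = (x ^ (m + 1))⁻¹ := by
    have : d * x ^ (m + 1) * d⁻¹ = (d * x * d⁻¹) ^ (m + 1) := by
      rw [conj_pow]
    rw [this, hinv, inv_pow]
  show d * x ∈ C.D
  have h := C.hconj (x ^ (m + 1))⁻¹ d hd
  have e : (x ^ (m + 1))⁻¹ * d * (x ^ (m + 1))⁻¹⁻¹ = d * x := by
    rw [inv_inv]
    have e1 : (x ^ (m + 1))⁻¹ * d = d * x ^ (m + 1) := by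
      rw [← hyinv]; group
    rw [e1, mul_assoc, hyy]
  rwa [e] at h

theorem D_subset {K : Subgroup G} (hdK : d ∈ K) (hI : ∀ w ∈ C.I d, w ∈ K) : K = ⊤ := by
  rw [eq_top_iff, ← C.hcl, Subgroup.closure_le]
  intro e he
  have h1 := hI _ (C.mem_I_of_mem_D hd he)
  have : e = d * (d * e) := (C.ddx hd e).symm
  rw [this]
  exact K.mul_mem hdK h1

/-- Case A: all elements of `I` commute -/
theorem caseA (hcomm : ∀ x ∈ C.I d, ∀ y ∈ C.I d, x * y = y * x) :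
    ∃ a b : G, Rel6 a b ∧ a ≠ b ∧ Subgroup.closure {a, b} = ⊤ := by
  -- a nontrivial element of I
  obtain ⟨x, hx, hx1⟩ : ∃ x ∈ C.I d, x ≠ 1 := by
    obtain ⟨e, he, f, hf, hef⟩ := C.hne
    by_cases hed : e = d
    · refine ⟨d * f, C.mem_I_of_mem_D hd hf, fun h => ?_⟩
      apply hef
      rw [hed]
      have : f = d⁻¹ := eq_inv_of_mul_eq_one_right h
      rw [this, C.d_inv hd]
    · refine ⟨d * e, C.mem_I_of_mem_D hd he, fun h => ?_⟩
      apply hed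
      have : e = d⁻¹ := eq_inv_of_mul_eq_one_right h
      rw [this, C.d_inv hd]
  refine ⟨d, d * x, ⟨C.hinv d hd, C.hinv _ hx, ?_⟩, ?_, ?_⟩
  · rw [C.ddx hd]; exact C.cube hd hx
  · intro h
    apply hx1
    have h2 : d * d = d * (d * x) := by rw [← h]
    rw [C.hinv d hd, C.ddx hd] at h2
    exact h2.symm
  · have hdK : d ∈ Subgroup.closure ({d, d * x} : Set G) := Subgroup.subset_closure (by simp)
    have hdxK : d * x ∈ Subgroup.closure ({d, d * x} : Set G) := Subgroup.subset_closure (by simp)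
    have hxK : x ∈ Subgroup.closure ({d, d * x} : Set G) := by
      have := Subgroup.mul_mem _ hdK hdxK
      rwa [C.ddx hd] at this
    apply C.D_subset hd hdK
    intro w hw
    rcases C.comm_cases hd hx hw hx1 (hcomm x hx w hw) with rfl | rfl | rfl
    · exact Subgroup.one_mem _
    · exact hxK
    · exact Subgroup.inv_mem _ hxK

/-- Case B for a good `d`: an element of `I ∩ Z2` -/
theorem caseB_aux {x : G} (hx : x ∈ C.I d) (hx1 : x ≠ 1) (hxZ : x ∈ C.Z2)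
    (hB : ∃ u ∈ C.I d, ∃ v ∈ C.I d, u * v ≠ v * u) :
    ∃ a b c : G, Rel54 a b c ∧ (a * b) * (a * c) ≠ (a * c) * (a * b) ∧
      IsPGroup 3 ↥(Subgroup.closure ({a * b, a * c} : Set G)) ∧ Subgroup.closure {a, b, c} = ⊤ := by
  -- y₁ not commuting with x
  obtain ⟨y, hy, hxy⟩ : ∃ y ∈ C.I d, x * y ≠ y * x := by
    by_contra hcon
    push Not at hcon
    obtain ⟨u, hu, v, hv, huv⟩ := hB
    apply huv
    have hxi := C.x_inv_eq hd hx
    rcases C.comm_cases hd hx hu hx1 (hcon u hu) with rfl | rfl | rfl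
    · rw [one_mul, mul_one]
    · exact hcon v hv
    · rcases C.comm_cases hd hx hv hx1 (hcon v hv) with rfl | rfl | rfl
      · rw [one_mul, mul_one]
      · group
      · rfl
  have hxP := C.mem_P hd hx
  have hyP := C.mem_P hd hy
  have hx3 := C.cube hd hx
  have hy3 := C.cube hd hy
  have hy1 : y ≠ 1 := by
    intro h; apply hxy; rw [h, one_mul, mul_one]
  have hyi := C.x_inv_eq hd hy
  -- z₁
  have hz1Z : x * y * x⁻¹ * y⁻¹ ∈ C.Z1 := ((C.mem_Z2).mp hxZ).2 y hyP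
  have hz1ne : x * y * x⁻¹ * y⁻¹ ≠ 1 := by
    intro h
    apply hxy
    calc x * y = (x * y * x⁻¹ * y⁻¹) * (y * x) := by group
      _ = y * x := by rw [h, one_mul]
  have hz13 : (x * y * x⁻¹ * y⁻¹) ^ 3 = 1 :=
    b23_cube hx3 hy3 (C.mul_cube' hd hx hy) (C.mul_cube hd hx hy)
  -- commutator is trivial iff commute
  have comm_of : ∀ v : G, x * v * x⁻¹ * v⁻¹ = 1 → x * v = v * x := by
    intro v h
    calc x * v = (x * v * x⁻¹ * v⁻¹) * (v * x) := by group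
      _ = v * x := by rw [h, one_mul]
  -- the fixed points
  have fixle : ∀ v ∈ C.I d, x * v * x⁻¹ * v⁻¹ ≠ 1 → ∀ w : W, C.ρ (x * v * x⁻¹ * v⁻¹) w = w → C.ρ x w = w := by
    intro v hv hne w hw
    apply C.fix_comm hd hx hv _ w hw
    intro hc
    apply hne
    rw [hc]; group
  -- every element of I lies in the closure of x and y
  have hIK : ∀ w ∈ C.I d, w ∈ Subgroup.closure ({x, y} : Set G) := by
    intro w hw
    have hxK : x ∈ Subgroup.closure ({x, y} : Set G) := Subgroup.subset_closure (by simp)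
    have hyK : y ∈ Subgroup.closure ({x, y} : Set G) := Subgroup.subset_closure (by simp)
    have hwP := C.mem_P hd hw
    have hw3 := C.cube hd hw
    have hz2Z : x * w * x⁻¹ * w⁻¹ ∈ C.Z1 := ((C.mem_Z2).mp hxZ).2 w hwP
    have hz23 : (x * w * x⁻¹ * w⁻¹) ^ 3 = 1 :=
      b23_cube hx3 hw3 (C.mul_cube' hd hx hw) (C.mul_cube hd hx hw)
    -- z₁ z₂ commute
    have hzc : (x * y * x⁻¹ * y⁻¹) * (x * w * x⁻¹ * w⁻¹) = (x * w * x⁻¹ * w⁻¹) * (x * y * x⁻¹ * y⁻¹) :=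
      ((C.mem_Z1).mp hz2Z).2 _ ((C.mem_Z1).mp hz1Z).1
    -- the elements u₁ = y⁻¹ w y⁻¹, u₂ = y w y
    have hu1 : y⁻¹ * w * y⁻¹ ∈ C.I d := C.sandwich hd (C.inv_mem hd hy) hw
    have hu2 : y * w * y ∈ C.I d := C.sandwich hd hy hw
    have hyiP : y⁻¹ ∈ C.P := C.P.inv_mem hyP
    have z1inv : (x * y * x⁻¹ * y⁻¹)⁻¹ * (x * y * x⁻¹ * y⁻¹)⁻¹ = x * y * x⁻¹ * y⁻¹ := by
      have h3 := hz13
      rw [pow_three] at h3
      calc (x * y * x⁻¹ * y⁻¹)⁻¹ * (x * y * x⁻¹ * y⁻¹)⁻¹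
          = (x * y * x⁻¹ * y⁻¹)⁻¹ * (x * y * x⁻¹ * y⁻¹)⁻¹ *
            ((x * y * x⁻¹ * y⁻¹) * ((x * y * x⁻¹ * y⁻¹) * (x * y * x⁻¹ * y⁻¹))) := by rw [h3, mul_one]
        _ = x * y * x⁻¹ * y⁻¹ := by group
    have e1 : x * (y⁻¹ * w * y⁻¹) * x⁻¹ * (y⁻¹ * w * y⁻¹)⁻¹ =
        (x * y * x⁻¹ * y⁻¹) * (x * w * x⁻¹ * w⁻¹) := by
      rw [C.comm_mul hxZ (C.P.mul_mem hyiP hwP) hyiP, C.comm_mul hxZ hyiP hwP, C.comm_inv hxZ hyP]
      -- z₁⁻¹ z₂ z₁⁻¹ = z₁ z₂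
      have hzc' : (x * w * x⁻¹ * w⁻¹) * (x * y * x⁻¹ * y⁻¹)⁻¹ = (x * y * x⁻¹ * y⁻¹)⁻¹ * (x * w * x⁻¹ * w⁻¹) := by
        have : (x * y * x⁻¹ * y⁻¹)⁻¹ * ((x * y * x⁻¹ * y⁻¹) * (x * w * x⁻¹ * w⁻¹)) * (x * y * x⁻¹ * y⁻¹)⁻¹ =
            (x * y * x⁻¹ * y⁻¹)⁻¹ * ((x * w * x⁻¹ * w⁻¹) * (x * y * x⁻¹ * y⁻¹)) * (x * y * x⁻¹ * y⁻¹)⁻¹ := by
          rw [hzc]
        calc (x * w * x⁻¹ * w⁻¹) * (x * y * x⁻¹ * y⁻¹)⁻¹
            = (x * y * x⁻¹ * y⁻¹)⁻¹ * ((x * y * x⁻¹ * y⁻¹) * (x * w * x⁻¹ * w⁻¹)) * (x * y * x⁻¹ * y⁻¹)⁻¹ := by group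
          _ = (x * y * x⁻¹ * y⁻¹)⁻¹ * ((x * w * x⁻¹ * w⁻¹) * (x * y * x⁻¹ * y⁻¹)) * (x * y * x⁻¹ * y⁻¹)⁻¹ := this
          _ = (x * y * x⁻¹ * y⁻¹)⁻¹ * (x * w * x⁻¹ * w⁻¹) := by group
      calc (x * y * x⁻¹ * y⁻¹)⁻¹ * (x * w * x⁻¹ * w⁻¹) * (x * y * x⁻¹ * y⁻¹)⁻¹
          = (x * y * x⁻¹ * y⁻¹)⁻¹ * ((x * w * x⁻¹ * w⁻¹) * (x * y * x⁻¹ * y⁻¹)⁻¹) := by group
        _ = (x * y * x⁻¹ * y⁻¹)⁻¹ * ((x * y * x⁻¹ * y⁻¹)⁻¹ * (x * w * x⁻¹ * w⁻¹)) := by rw [hzc']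
        _ = ((x * y * x⁻¹ * y⁻¹)⁻¹ * (x * y * x⁻¹ * y⁻¹)⁻¹) * (x * w * x⁻¹ * w⁻¹) := by group
        _ = (x * y * x⁻¹ * y⁻¹) * (x * w * x⁻¹ * w⁻¹) := by rw [z1inv]
    have e2 : x * (y * w * y) * x⁻¹ * (y * w * y)⁻¹ =
        (x * y * x⁻¹ * y⁻¹) * ((x * y * x⁻¹ * y⁻¹) * (x * w * x⁻¹ * w⁻¹)) := by
      rw [C.comm_mul hxZ (C.P.mul_mem hyP hwP) hyP, C.comm_mul hxZ hyP hwP]
      calc (x * y * x⁻¹ * y⁻¹) * (x * w * x⁻¹ * w⁻¹) * (x * y * x⁻¹ * y⁻¹)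
          = (x * y * x⁻¹ * y⁻¹) * ((x * w * x⁻¹ * w⁻¹) * (x * y * x⁻¹ * y⁻¹)) := by group
        _ = (x * y * x⁻¹ * y⁻¹) * ((x * y * x⁻¹ * y⁻¹) * (x * w * x⁻¹ * w⁻¹)) := by rw [hzc]
    -- one of the three is trivial
    have hcases : x * w * x⁻¹ * w⁻¹ = 1 ∨ (x * y * x⁻¹ * y⁻¹) * (x * w * x⁻¹ * w⁻¹) = 1 ∨
        (x * y * x⁻¹ * y⁻¹) * ((x * y * x⁻¹ * y⁻¹) * (x * w * x⁻¹ * w⁻¹)) = 1 := by
      by_contra hcon
      push Not at hcon
      obtain ⟨hn2, hn3, hn4⟩ := hcon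
      have hall : ∀ w' : W, w' ∈ C.fixSub x := by
        intro w'
        refine gen_top C.hW (C.ρ (x * y * x⁻¹ * y⁻¹)).toMonoidHom (C.ρ (x * w * x⁻¹ * w⁻¹)).toMonoidHom
          ?_ ?_ ?_ (C.fixSub x) ?_ ?_ ?_ ?_ w'
        · intro t
          show C.ρ _ (C.ρ _ t) = C.ρ _ (C.ρ _ t)
          rw [← C.ρ_mul, ← C.ρ_mul, hzc]
        · intro t
          exact C.ρ_cube hz13 t
        · intro t
          exact C.ρ_cube hz23 t
        · intro t ht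
          exact fixle y hy hz1ne t ht
        · intro t ht
          exact fixle w hw hn2 t ht
        · intro t ht
          apply fixle _ hu1 (by rw [e1]; exact hn3) t
          rw [e1, C.ρ_mul (x * y * x⁻¹ * y⁻¹) (x * w * x⁻¹ * w⁻¹)]; exact ht
        · intro t ht
          apply fixle _ hu2 (by rw [e2]; exact hn4) t
          rw [e2, C.ρ_mul (x * y * x⁻¹ * y⁻¹) ((x * y * x⁻¹ * y⁻¹) * (x * w * x⁻¹ * w⁻¹)),
            C.ρ_mul (x * y * x⁻¹ * y⁻¹) (x * w * x⁻¹ * w⁻¹)]; exact ht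
      apply hx1
      apply C.hρ
      ext t
      rw [map_one]
      exact hall t
    rcases hcases with h | h | h
    · -- w commutes with x
      rcases C.comm_cases hd hx hw hx1 (comm_of w h) with rfl | rfl | rfl
      · exact Subgroup.one_mem _
      · exact hxK
      · exact Subgroup.inv_mem _ hxK
    · -- u₁ commutes with x
      rw [← e1] at h
      have hwu : w = y * (y⁻¹ * w * y⁻¹) * y := by group
      rw [hwu]
      refine Subgroup.mul_mem _ (Subgroup.mul_mem _ hyK ?_) hyK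
      rcases C.comm_cases hd hx hu1 hx1 (comm_of _ h) with h' | h' | h'
      · rw [h']; exact Subgroup.one_mem _
      · rw [h']; exact hxK
      · rw [h']; exact Subgroup.inv_mem _ hxK
    · rw [← e2] at h
      have hwu : w = y⁻¹ * (y * w * y) * y⁻¹ := by group
      rw [hwu]
      refine Subgroup.mul_mem _ (Subgroup.mul_mem _ (Subgroup.inv_mem _ hyK) ?_) (Subgroup.inv_mem _ hyK)
      rcases C.comm_cases hd hx hu2 hx1 (comm_of _ h) with h' | h' | h'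
      · rw [h']; exact Subgroup.one_mem _
      · rw [h']; exact hxK
      · rw [h']; exact Subgroup.inv_mem _ hxK
  -- assemble
  refine ⟨d, d * x, d * y, ⟨C.hinv d hd, C.hinv _ hx, C.hinv _ hy, ?_, ?_, ?_, ?_⟩, ?_, ?_, ?_⟩
  · rw [C.ddx hd]; exact hx3
  · rw [C.ddx hd]; exact hy3
  · apply C.h3 _ hx _ hy
    intro h
    apply hxy
    have : x = y := mul_left_cancel h
    rw [this]
  · have haca : d * (d * y) * d ∈ C.D := by
      have := C.hconj d (d * y) hy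
      rwa [C.d_inv hd] at this
    apply C.h3 _ hx _ haca
    intro h
    apply hxy
    -- d x = d (d y) d → x = d y d = y⁻¹
    have h2 : x = d * y * d := by
      have := mul_left_cancel (a := d) (b := x) (c := d * y * d) (by rw [h]; group)
      exact this
    have h3 : d * y * d = y⁻¹ := by
      have := C.conj_eq_inv hd hy
      rwa [C.d_inv hd] at this
    rw [h2, h3]; group
  · rw [C.ddx hd, C.ddx hd]; exact hxy
  · rw [C.ddx hd, C.ddx hd]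
    apply C.hP3.to_le
    rw [Subgroup.closure_le]
    rintro g (rfl | rfl)
    · exact hxP
    · exact hyP
  · have hdK : d ∈ Subgroup.closure ({d, d * x, d * y} : Set G) := Subgroup.subset_closure (by simp)
    have hdxK : d * x ∈ Subgroup.closure ({d, d * x, d * y} : Set G) := Subgroup.subset_closure (by simp)
    have hdyK : d * y ∈ Subgroup.closure ({d, d * x, d * y} : Set G) := Subgroup.subset_closure (by simp)
    have hxK : x ∈ Subgroup.closure ({d, d * x, d * y} : Set G) := by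
      have := Subgroup.mul_mem _ hdK hdxK
      rwa [C.ddx hd] at this
    have hyK : y ∈ Subgroup.closure ({d, d * x, d * y} : Set G) := by
      have := Subgroup.mul_mem _ hdK hdyK
      rwa [C.ddx hd] at this
    apply C.D_subset hd hdK
    intro w hw
    have hle : Subgroup.closure ({x, y} : Set G) ≤ Subgroup.closure ({d, d * x, d * y} : Set G) := by
      rw [Subgroup.closure_le]
      rintro g (rfl | rfl)
      · exact hxK
      · exact hyK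
    exact hle (hIK w hw)

end Ctx

end Cfsg.Agent.Lib.Helper3.TTS
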