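import Mathlib
import Cfsg.Prelude
import Cfsg.Agent.Lib.Helper3.TTS6

set_option autoImplicit false
set_option maxHeartbeats 4000000
set_option linter.unusedVariables false
set_option linter.unusedSectionVars false
set_option linter.style.longLine false
set_option linter.unusedSimpArgs false
set_option linter.deprecated false
set_option linter.style.haveILetI false

/-!
# The structure theorem and the isomorphisms with the models
-/

universe u v
namespace Cfsg.Agent.Lib.Helper3.TTS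

namespace Ctx

variable {G : Type u} [Group G] [Finite G] {W : Type v} [Group W] (C : Ctx G W)

include C in
/-- the structure theorem -/
theorem structure_thm :
    (∃ a b : G, Rel6 a b ∧ a ≠ b ∧ Subgroup.closure {a, b} = ⊤) ∨
    (∃ a b c : G, Rel54 a b c ∧ (a * b) * (a * c) ≠ (a * c) * (a * b) ∧
      IsPGroup 3 ↥(Subgroup.closure ({a * b, a * c} : Set G)) ∧ Subgroup.closure {a, b, c} = ⊤) := by
  by_cases hA : ∃ d ∈ C.D, ∀ x ∈ C.I d, ∀ y ∈ C.I d, x * y = y * x
  · obtain ⟨d, hd, hcomm⟩ := hA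
    exact Or.inl (C.caseA hd hcomm)
  · right
    push Not at hA
    obtain ⟨d₀, hd₀, _⟩ := C.hne
    obtain ⟨u, hu, v, hv, huv⟩ := hA d₀ hd₀
    obtain ⟨g, hgZ2, hgZ1⟩ := C.exists_Z2 u v (C.mem_P hd₀ hu) (C.mem_P hd₀ hv) huv
    have hgP : g ∈ C.P := ((C.mem_Z2).mp hgZ2).1
    obtain ⟨d, hd, hdg⟩ : ∃ d ∈ C.D, d * g * d⁻¹ ≠ g := by
      by_contra hcon
      push Not at hcon
      apply hgZ1
      rw [C.mem_Z1]
      refine ⟨hgP, fun h _ => ?_⟩
      have hle : Subgroup.closure C.D ≤ Subgroup.centralizer ({g} : Set G) := by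
        rw [Subgroup.closure_le]
        intro e he
        rw [SetLike.mem_coe, Subgroup.mem_centralizer_iff]
        intro k hk
        rw [Set.mem_singleton_iff] at hk
        subst hk
        have := hcon e he
        calc k * e = (e * k * e⁻¹) * e := by rw [this]
          _ = e * k := by group
      rw [C.hcl] at hle
      have := hle (Subgroup.mem_top h)
      rw [Subgroup.mem_centralizer_iff] at this
      exact (this g rfl).symm
    have hdd := C.hinv d hd
    have hdinv := C.d_inv hd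
    have hxZ : g⁻¹ * (d * g * d⁻¹) ∈ C.Z2 := C.Z2.mul_mem (C.Z2.inv_mem hgZ2) (C.Z2_conj hgZ2 d)
    have hx1 : g⁻¹ * (d * g * d⁻¹) ≠ 1 := by
      intro h
      apply hdg
      have : d * g * d⁻¹ = g⁻¹⁻¹ := eq_inv_of_mul_eq_one_right h
      rw [this, inv_inv]
    have hxinv : d * (g⁻¹ * (d * g * d⁻¹)) * d⁻¹ = (g⁻¹ * (d * g * d⁻¹))⁻¹ := by
      rw [hdinv]
      calc d * (g⁻¹ * (d * g * d)) * d = (d * g⁻¹ * d) * g * (d * d) := by group
        _ = (d * g⁻¹ * d) * g := by rw [hdd, mul_one]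
        _ = (g⁻¹ * (d * g * d))⁻¹ := by
          rw [mul_inv_rev, mul_inv_rev, mul_inv_rev, hdinv, inv_inv]; group
    have hxI : g⁻¹ * (d * g * d⁻¹) ∈ C.I d :=
      C.mem_I_of_inverted hd ((C.mem_Z2).mp hxZ).1 hxinv
    exact C.caseB_aux hd hxI hx1 hxZ (hA d hd)

end Ctx

section Iso

/-- the graph trick with a subgroup of the product -/
theorem iso_of_graph' {G : Type u} {Z : Type v} [Group G] [Group Z] [Finite G]
    (Γ : Subgroup (G × Z)) [Finite Γ] (hfst : Γ.map (MonoidHom.fst G Z) = ⊤)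
    (N : Subgroup Z) [Finite N] (hsnd : Γ.map (MonoidHom.snd G Z) = N)
    (n : ℕ) (hG : n ≤ Nat.card G) (hN : n ≤ Nat.card N) (hΓ : Nat.card Γ ≤ n) :
    Nonempty (G ≃* ↥N) := by
  let f1 : ↥Γ →* G := (MonoidHom.fst G Z).comp Γ.subtype
  have hmem : ∀ x : ↥Γ, ((MonoidHom.snd G Z).comp Γ.subtype) x ∈ N := by
    intro x
    rw [← hsnd]
    exact ⟨x.1, x.2, rfl⟩
  let f2 : ↥Γ →* ↥N := ((MonoidHom.snd G Z).comp Γ.subtype).codRestrict N hmem
  have hs1 : Function.Surjective f1 := by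
    intro g
    have : g ∈ Γ.map (MonoidHom.fst G Z) := by rw [hfst]; trivial
    obtain ⟨p, hp, rfl⟩ := this
    exact ⟨⟨p, hp⟩, rfl⟩
  have hs2 : Function.Surjective f2 := by
    rintro ⟨z, hz⟩
    rw [← hsnd] at hz
    obtain ⟨p, hp, rfl⟩ := hz
    exact ⟨⟨p, hp⟩, rfl⟩
  have hb1 : Function.Bijective f1 := by
    rw [Nat.bijective_iff_surjective_and_card]
    exact ⟨hs1, le_antisymm (hΓ.trans hG) (Nat.card_le_card_of_surjective f1 hs1)⟩
  have hb2 : Function.Bijective f2 := by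
    rw [Nat.bijective_iff_surjective_and_card]
    exact ⟨hs2, le_antisymm (hΓ.trans hN) (Nat.card_le_card_of_surjective f2 hs2)⟩
  exact ⟨(MulEquiv.ofBijective f1 hb1).symm.trans (MulEquiv.ofBijective f2 hb2)⟩

variable {G : Type u} [Group G] [Finite G]

theorem card_of_closure_eq_top {S : Set G} (h : Subgroup.closure S = ⊤) (n : ℕ)
    (hn : Nat.card ↥(Subgroup.closure S) = n) : Nat.card G = n := by
  rw [← hn, h]
  exact (Subgroup.card_top (G := G)).symm

/-- a group with the `S_3` relations is `S_3` -/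
theorem iso_S3 (a b : G) (h : Rel6 a b) (hne : a ≠ b) (hcl : Subgroup.closure {a, b} = ⊤) :
    Nonempty (G ≃* Equiv.Perm (Fin 3)) := by
  have hcardG : Nat.card G = 6 := card_of_closure_eq_top hcl 6 (h.card_closure_eq hne)
  have h' : Rel6 (Equiv.swap (0 : Fin 3) 1) (Equiv.swap (1 : Fin 3) 2) := ⟨by decide, by decide, by decide⟩
  have hne' : Equiv.swap (0 : Fin 3) 1 ≠ Equiv.swap (1 : Fin 3) 2 := by decide
  have hcardN := h'.card_closure_eq hne'
  have htop : Subgroup.closure ({Equiv.swap (0 : Fin 3) 1, Equiv.swap (1 : Fin 3) 2} : Set (Equiv.Perm (Fin 3))) = ⊤ := by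
    rw [← Subgroup.card_eq_iff_eq_top, hcardN, Nat.card_eq_fintype_card, Fintype.card_perm]
    rfl
  have hΓrel : Rel6 ((a, Equiv.swap (0 : Fin 3) 1) : G × Equiv.Perm (Fin 3)) (b, Equiv.swap (1 : Fin 3) 2) :=
    ⟨Prod.ext h.ha h'.ha, Prod.ext h.hb h'.hb, Prod.ext h.hab h'.hab⟩
  have key := iso_of_graph'
    (Subgroup.closure ({(a, Equiv.swap (0 : Fin 3) 1), (b, Equiv.swap (1 : Fin 3) 2)} : Set (G × Equiv.Perm (Fin 3))))
    (by rw [MonoidHom.map_closure, Set.image_pair]; exact hcl)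
    (Subgroup.closure ({Equiv.swap (0 : Fin 3) 1, Equiv.swap (1 : Fin 3) 2} : Set (Equiv.Perm (Fin 3))))
    (by rw [MonoidHom.map_closure, Set.image_pair]; rfl)
    6 hcardG.ge hcardN.ge hΓrel.card_closure_le
  obtain ⟨e⟩ := key
  exact ⟨e.trans ((MulEquiv.subgroupCongr htop).trans Subgroup.topEquiv)⟩

/-- a group with the relations of `SU_3(2)'` is isomorphic to any model -/
theorem iso_54 {Z : Type v} [Group Z] [Finite Z] (a b c : G) (h : Rel54 a b c)
    (hnc : (a * b) * (a * c) ≠ (a * c) * (a * b))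
    (h3 : IsPGroup 3 ↥(Subgroup.closure ({a * b, a * c} : Set G)))
    (hcl : Subgroup.closure {a, b, c} = ⊤)
    (a' b' c' : Z) (h' : Rel54 a' b' c')
    (hnc' : (a' * b') * (a' * c') ≠ (a' * c') * (a' * b'))
    (h3' : IsPGroup 3 ↥(Subgroup.closure ({a' * b', a' * c'} : Set Z))) :
    Nonempty (G ≃* ↥(Subgroup.closure ({a', b', c'} : Set Z))) := by
  have hcardG : Nat.card G = 54 := card_of_closure_eq_top hcl 54 (h.card_closure_eq h3 hnc)
  have hcardN := h'.card_closure_eq h3' hnc'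
  have hΓrel : Rel54 ((a, a') : G × Z) (b, b') (c, c') :=
    ⟨Prod.ext h.ha h'.ha, Prod.ext h.hb h'.hb, Prod.ext h.hc h'.hc, Prod.ext h.hab h'.hab,
      Prod.ext h.hac h'.hac, Prod.ext h.hbc h'.hbc, Prod.ext h.hbac h'.hbac⟩
  have himg1 : (MonoidHom.fst G Z) '' ({(a, a'), (b, b'), (c, c')} : Set (G × Z)) = {a, b, c} := by
    rw [Set.image_insert_eq, Set.image_pair]; rfl
  have himg2 : (MonoidHom.snd G Z) '' ({(a, a'), (b, b'), (c, c')} : Set (G × Z)) = {a', b', c'} := by
    rw [Set.image_insert_eq, Set.image_pair]; rfl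
  exact iso_of_graph'
    (Subgroup.closure ({(a, a'), (b, b'), (c, c')} : Set (G × Z)))
    (by rw [MonoidHom.map_closure, himg1]; exact hcl)
    (Subgroup.closure ({a', b', c'} : Set Z))
    (by rw [MonoidHom.map_closure, himg2])
    54 hcardG.ge hcardN.ge hΓrel.card_closure_le

end Iso

end Cfsg.Agent.Lib.Helper3.TTS
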