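import Mathlib
import Cfsg.Prelude
import Cfsg.Agent.Lib.Helper3.TTS7
import Cfsg.Agent.Lib.Helper5.SU32b
import Cfsg.Agent.Lib.Helper5.HermCard

set_option autoImplicit false
set_option maxHeartbeats 4000000
set_option linter.unusedVariables false
set_option linter.unusedSectionVars false
set_option linter.style.longLine false
set_option linter.unusedSimpArgs false
set_option linter.deprecated false
set_option linter.style.haveILetI false

/-!
# The model: the commutator subgroup of `SU_3(2)` is generated by three transvections with the relations `Rel54`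
-/

open scoped commutatorElement
universe u v
namespace Cfsg.Agent.Lib.Helper3.TTS

open Matrix Cfsg.Agent.Lib.Helper5.SU32 Cfsg.Agent.Lib.Helper5.SU32b Cfsg.Agent.Lib.Helper5.HermCenter

section mats

variable {F : Type*} [Field F] (ω : F) (hω : ω ^ 2 + ω + 1 = 0) (h2 : (2 : F) = 0)

include hω h2

theorem ccd_cube : (Mc * Mc * Md ω) * (Mc * Mc * Md ω) * (Mc * Mc * Md ω) = (1 : Matrix (Fin 3) (Fin 3) F) := by
  simp only [Mc, Md, Matrix.mul_fin_three, Matrix.one_fin_three]
  apply mat3_ext <;> grind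

theorem cd_cube : (Mc * Md ω) * (Mc * Md ω) * (Mc * Md ω) = (1 : Matrix (Fin 3) (Fin 3) F) := by
  simp only [Mc, Md, Matrix.mul_fin_three, Matrix.one_fin_three]
  apply mat3_ext <;> grind

theorem t_c_t : Mt * Mc * Mt = (Mc * Mc : Matrix (Fin 3) (Fin 3) F) := by
  simp only [Mc, Mt, Matrix.mul_fin_three]
  apply mat3_ext <;> grind

theorem t_d_t : Mt * Md ω * Mt = (Md ω * Md ω : Matrix (Fin 3) (Fin 3) F) := by
  simp only [Md, Mt, Matrix.mul_fin_three]
  apply mat3_ext <;> grind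

end mats

section SU

variable {F : Type*} [Field F] [Fintype F] (hF : Fintype.card F = 2 ^ 2)

open Classical in
/-- the element of `SU_3(2)` with a given matrix -/
noncomputable def toS (M : Matrix (Fin 3) (Fin 3) F) : ↥(Cfsg.SU 3 F 2) :=
  if h : P M then toSU hF M h else 1

theorem toS_mul {M N : Matrix (Fin 3) (Fin 3) F} (hM : P M) (hN : P N) :
    toS hF (M * N) = toS hF M * toS hF N := by
  unfold toS
  rw [dif_pos hM, dif_pos hN, dif_pos (P_mul hF hM hN)]
  rfl

theorem toS_one : toS hF (1 : Matrix (Fin 3) (Fin 3) F) = 1 := by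
  unfold toS
  rw [dif_pos (P_one hF)]
  rfl

theorem toS_val {M : Matrix (Fin 3) (Fin 3) F} (hM : P M) :
    (((toS hF M : ↥(Cfsg.SU 3 F 2)) : Matrix.SpecialLinearGroup (Fin 3) F) : Matrix (Fin 3) (Fin 3) F) = M := by
  unfold toS
  rw [dif_pos hM]
  rfl

include hF in
theorem card_SU3 : Nat.card ↥(Cfsg.SU 3 F 2) = 216 := by
  have h1 := Cfsg.Agent.Lib.Helper5.HermCard.card_SU hF 3 (by norm_num)
  have h2 := Cfsg.Agent.Lib.Helper5.HermCard.card_GU hF 3
  have h3 : (∏ i ∈ Finset.range 3, (if Even i then 2 ^ (i + 1) + 1 else 2 ^ (i + 1) - 1)) = 3 * 3 * 9 := by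
    decide
  rw [h3] at h2
  rw [h2] at h1
  norm_num at h1
  omega

/-- an element of cube one in a group of order 8 is trivial -/
theorem eq_one_of_cube_of_card_eight {X : Type*} [Group X] (hX : Nat.card X = 8) (y : X) (hy : y ^ 3 = 1) :
    y = 1 := by
  have h8 : y ^ 8 = 1 := by rw [← hX]; exact pow_card_eq_one'
  have h9 : y ^ 9 = 1 := by
    rw [show 9 = 3 * 3 by norm_num, pow_mul, hy, one_pow]
  have : y ^ 9 = y ^ 8 * y := pow_succ y 8
  rw [h9, h8, one_mul] at this
  exact this.symm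

include hF in
/-- the commutator subgroup of `SU_3(2)` has order at most 54 -/
theorem card_commutator_le : Nat.card ↥(commutator ↥(Cfsg.SU 3 F 2)) ≤ 54 := by
  haveI : Fact (Nat.Prime 2) := ⟨Nat.prime_two⟩
  obtain ⟨N, hNn, hN9, hN3, ⟨e⟩⟩ := Cfsg.Agent.Lib.Helper5.SU32b.main hF
  -- the centre of Q8
  have hcen : ∀ g : QuaternionGroup 2, g * QuaternionGroup.a 2 = QuaternionGroup.a 2 * g := by decide
  have hZn : (Subgroup.zpowers (QuaternionGroup.a (2 : ZMod (2 * 2)))).Normal := by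
    constructor
    intro n hn g
    obtain ⟨k, rfl⟩ := Subgroup.mem_zpowers_iff.mp hn
    have hc : Commute g (QuaternionGroup.a (2 : ZMod (2 * 2)) ^ k) := (Commute.zpow_right (hcen g) k)
    have : g * QuaternionGroup.a (2 : ZMod (2 * 2)) ^ k * g⁻¹ = QuaternionGroup.a (2 : ZMod (2 * 2)) ^ k := by
      rw [hc.eq]; group
    rw [this]
    exact Subgroup.zpow_mem _ (Subgroup.mem_zpowers _) k
  have ho : orderOf (QuaternionGroup.a (2 : ZMod (2 * 2))) = 2 :=
    orderOf_eq_prime (by decide) (by decide)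
  have hZc : Nat.card ↥(Subgroup.zpowers (QuaternionGroup.a (2 : ZMod (2 * 2)))) = 2 := by
    rw [Nat.card_zpowers, ho]
  have hQc : Nat.card (QuaternionGroup 2 ⧸ Subgroup.zpowers (QuaternionGroup.a (2 : ZMod (2 * 2)))) = 2 ^ 2 := by
    have h1 := Subgroup.card_eq_card_quotient_mul_card_subgroup
      (Subgroup.zpowers (QuaternionGroup.a (2 : ZMod (2 * 2))))
    rw [hZc, Nat.card_eq_fintype_card (α := QuaternionGroup 2), QuaternionGroup.card] at h1
    omega
  have hcomm := (IsPGroup.isMulCommutative_of_card_eq_prime_sq (p := 2) hQc).is_comm.comm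
  -- the homomorphism
  let f : ↥(Cfsg.SU 3 F 2) →* QuaternionGroup 2 ⧸ Subgroup.zpowers (QuaternionGroup.a (2 : ZMod (2 * 2))) :=
    (QuotientGroup.mk' _).comp (e.toMonoidHom.comp ((QuotientGroup.mk' N).comp
      (QuotientGroup.mk' (Subgroup.center ↥(Cfsg.SU 3 F 2)))))
  have hfs : Function.Surjective f := by
    apply (QuotientGroup.mk'_surjective _).comp
    apply e.surjective.comp
    apply (QuotientGroup.mk'_surjective _).comp
    exact QuotientGroup.mk'_surjective _
  have hle : commutator ↥(Cfsg.SU 3 F 2) ≤ f.ker := by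
    rw [commutator_def, Subgroup.commutator_le]
    intro g₁ _ g₂ _
    rw [MonoidHom.mem_ker, commutatorElement_def, map_mul, map_mul, map_mul, map_inv, map_inv]
    rw [hcomm (f g₁) (f g₂)]; group
  have hidx : f.ker.index = 4 := by
    rw [Subgroup.index_ker, MonoidHom.range_eq_top.mpr hfs, Subgroup.card_top, hQc]
    norm_num
  have hker : Nat.card ↥f.ker = 54 := by
    have := Subgroup.card_mul_index f.ker
    rw [hidx, card_SU3 hF] at this
    omega
  calc Nat.card ↥(commutator ↥(Cfsg.SU 3 F 2)) ≤ Nat.card ↥f.ker := Subgroup.card_le_of_le hle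
    _ = 54 := hker

include hF in
/-- the elements of cube one generate a 3-group -/
theorem isPGroup_of_cubes (S : Set ↥(Cfsg.SU 3 F 2)) (hS : ∀ s ∈ S, s ^ 3 = 1) :
    IsPGroup 3 ↥(Subgroup.closure S) := by
  obtain ⟨N, hNn, hN9, hN3, ⟨e⟩⟩ := Cfsg.Agent.Lib.Helper5.SU32b.main hF
  have hQ8 : Nat.card (QuaternionGroup 2) = 8 := by
    rw [Nat.card_eq_fintype_card, QuaternionGroup.card]
  have hcz : Nat.card ↥(Subgroup.center ↥(Cfsg.SU 3 F 2)) = 3 := by
    rw [card_center_SU hF 3 (by norm_num)]; norm_num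
  -- the preimage of N
  have hM : IsPGroup 3 ↥(N.comap (QuotientGroup.mk' (Subgroup.center ↥(Cfsg.SU 3 F 2)))) := by
    rintro ⟨g, hg⟩
    refine ⟨2, Subtype.ext ?_⟩
    rw [Subgroup.mem_comap] at hg
    have h1 := hN3 _ hg
    rw [← map_pow, QuotientGroup.mk'_apply, QuotientGroup.eq_one_iff] at h1
    have h2 : (⟨g ^ 3, h1⟩ : ↥(Subgroup.center ↥(Cfsg.SU 3 F 2))) ^ 3 = 1 := by
      have := pow_card_eq_one' (G := ↥(Subgroup.center ↥(Cfsg.SU 3 F 2))) (x := ⟨g ^ 3, h1⟩)
      rwa [hcz] at this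
    have h3 := congrArg Subtype.val h2
    show g ^ 3 ^ 2 = 1
    rw [show 3 ^ 2 = 3 * 3 by norm_num, pow_mul]
    exact h3
  apply hM.to_le
  rw [Subgroup.closure_le]
  intro s hs
  rw [SetLike.mem_coe, Subgroup.mem_comap]
  -- the image in the quaternion group is trivial
  have hc8 : Nat.card (Cfsg.PSU 3 F 2 ⧸ N) = 8 := by rw [Nat.card_congr e.toEquiv, hQ8]
  have h1 : (QuotientGroup.mk' N (QuotientGroup.mk' (Subgroup.center ↥(Cfsg.SU 3 F 2)) s)) = 1 := by
    apply eq_one_of_cube_of_card_eight hc8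
    rw [← map_pow, ← map_pow, hS s hs, map_one, map_one]
  rwa [QuotientGroup.mk'_apply, QuotientGroup.eq_one_iff] at h1

section rel

variable (ω : F) (hω : ω ^ 2 + ω + 1 = 0) (hω1 : ω ≠ 1)

include hF hω hω1 in
/-- the model -/
theorem su_model_aux : ∃ a' b' c' : ↥(Cfsg.SU 3 F 2), Rel54 a' b' c' ∧
    (a' * b') * (a' * c') ≠ (a' * c') * (a' * b') ∧
    IsPGroup 3 ↥(Subgroup.closure ({a' * b', a' * c'} : Set ↥(Cfsg.SU 3 F 2))) ∧
    Subgroup.closure {a', b', c'} = commutator ↥(Cfsg.SU 3 F 2) := by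
  have h2 := two_eq_zero hF
  have Pc := P_c hF ω hω
  have Pt := P_t hF ω hω
  have Pd := P_d hF ω hω
  have Pz := P_z hF ω hω
  have Pm := P_m hF ω hω
  have Px := P_x hF ω hω
  have Pw := P_w hF ω hω
  -- relations
  have rc3 : toS hF (Mc : Matrix (Fin 3) (Fin 3) F) * toS hF Mc * toS hF Mc = 1 := by
    rw [← toS_mul hF Pc Pc, ← toS_mul hF (P_mul hF Pc Pc) Pc, c_cube ω hω h2, toS_one]
  have rd3 : toS hF (Md ω) * toS hF (Md ω) * toS hF (Md ω) = 1 := by
    rw [← toS_mul hF Pd Pd, ← toS_mul hF (P_mul hF Pd Pd) Pd, d_cube ω hω h2, toS_one]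
  have rcd : toS hF (Mc : Matrix (Fin 3) (Fin 3) F) * toS hF (Md ω) = toS hF (Mz ω) * toS hF (Md ω) * toS hF Mc := by
    rw [← toS_mul hF Pc Pd, c_d ω hω h2, toS_mul hF (P_mul hF Pz Pd) Pc, toS_mul hF Pz Pd]
  have rmm : toS hF (Mm ω) * toS hF (Mm ω) = toS hF (Mt : Matrix (Fin 3) (Fin 3) F) := by
    rw [← toS_mul hF Pm Pm, m_sq ω hω h2]
  have rtt : toS hF (Mt : Matrix (Fin 3) (Fin 3) F) * toS hF Mt = 1 := by
    rw [← toS_mul hF Pt Pt, t_sq ω hω h2, toS_one]
  have rxm : toS hF (Mx ω) * toS hF (Mm ω) = toS hF (Mw ω) * toS hF (Mx ω) := by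
    rw [← toS_mul hF Px Pm, x_m ω hω h2, toS_mul hF Pw Px]
  have rwm : toS hF (Mw ω) * toS hF (Mm ω) = toS hF (Mz ω) * toS hF (Mz ω) * toS hF Mc := by
    rw [← toS_mul hF Pw Pm, w_m ω hω h2, toS_mul hF (P_mul hF Pz Pz) Pc, toS_mul hF Pz Pz]
  have rtct : toS hF (Mt : Matrix (Fin 3) (Fin 3) F) * toS hF Mc * toS hF Mt = toS hF Mc * toS hF Mc := by
    rw [← toS_mul hF Pt Pc, ← toS_mul hF (P_mul hF Pt Pc) Pt, t_c_t ω hω h2, toS_mul hF Pc Pc]
  have rtdt : toS hF (Mt : Matrix (Fin 3) (Fin 3) F) * toS hF (Md ω) * toS hF Mt = toS hF (Md ω) * toS hF (Md ω) := by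
    rw [← toS_mul hF Pt Pd, ← toS_mul hF (P_mul hF Pt Pd) Pt, t_d_t ω hω h2, toS_mul hF Pd Pd]
  have rccd : (toS hF (Mc : Matrix (Fin 3) (Fin 3) F) * toS hF Mc * toS hF (Md ω)) *
      (toS hF Mc * toS hF Mc * toS hF (Md ω)) * (toS hF Mc * toS hF Mc * toS hF (Md ω)) = 1 := by
    have Pccd := P_mul hF (P_mul hF Pc Pc) Pd
    rw [← toS_mul hF Pc Pc, ← toS_mul hF (P_mul hF Pc Pc) Pd, ← toS_mul hF Pccd Pccd,
      ← toS_mul hF (P_mul hF Pccd Pccd) Pccd, ccd_cube ω hω h2, toS_one]
  have rcd3 : (toS hF (Mc : Matrix (Fin 3) (Fin 3) F) * toS hF (Md ω)) *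
      (toS hF Mc * toS hF (Md ω)) * (toS hF Mc * toS hF (Md ω)) = 1 := by
    have Pcd := P_mul hF Pc Pd
    rw [← toS_mul hF Pc Pd, ← toS_mul hF Pcd Pcd, ← toS_mul hF (P_mul hF Pcd Pcd) Pcd,
      cd_cube ω hω h2, toS_one]
  have rz1 : toS hF (Mz ω) ≠ 1 := by
    intro h
    have h1 := toS_val hF Pz
    rw [h] at h1
    have h3 := congrFun (congrFun h1 0) 0
    simp [Mz] at h3
    exact hω1 h3.symm
  -- abbreviations
  generalize toS hF (Mc : Matrix (Fin 3) (Fin 3) F) = c at *
  generalize toS hF (Md ω) = dd at *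
  generalize toS hF (Mz ω) = z at *
  generalize toS hF (Mm ω) = m at *
  generalize toS hF (Mt : Matrix (Fin 3) (Fin 3) F) = t at *
  generalize toS hF (Mx ω) = x at *
  generalize toS hF (Mw ω) = w at *
  have htc : t * (t * c) = c := by rw [← mul_assoc, rtt, one_mul]
  have htd : t * (t * dd) = dd := by rw [← mul_assoc, rtt, one_mul]
  have hc3 : c ^ 3 = 1 := by rw [pow_three']; exact rc3
  have hd3 : dd ^ 3 = 1 := by rw [pow_three']; exact rd3
  have hrel : Rel54 t (t * c) (t * dd) := by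
    refine ⟨rtt, ?_, ?_, ?_, ?_, ?_, ?_⟩
    · calc t * c * (t * c) = (t * c * t) * c := by group
        _ = 1 := by rw [rtct]; exact rc3
    · calc t * dd * (t * dd) = (t * dd * t) * dd := by group
        _ = 1 := by rw [rtdt]; exact rd3
    · rw [htc]; exact hc3
    · rw [htd]; exact hd3
    · have : t * c * (t * dd) = c * c * dd := by
        calc t * c * (t * dd) = (t * c * t) * dd := by group
          _ = c * c * dd := by rw [rtct]
      rw [this, pow_three']; exact rccd
    · have e1 : t * c * (t * (t * dd) * t) = t * (c * dd) * t := by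
        rw [htd]; group
      rw [e1, pow_three']
      calc t * (c * dd) * t * (t * (c * dd) * t) * (t * (c * dd) * t)
          = t * (c * dd) * (t * t) * (c * dd) * (t * t) * (c * dd) * t := by group
        _ = t * ((c * dd) * (c * dd) * (c * dd)) * t := by rw [rtt]; group
        _ = 1 := by rw [rcd3, mul_one, rtt]
  have hnc : (t * (t * c)) * (t * (t * dd)) ≠ (t * (t * dd)) * (t * (t * c)) := by
    rw [htc, htd]
    intro h
    apply rz1
    have : z * (dd * c) = 1 * (dd * c) := by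
      rw [one_mul, ← mul_assoc, ← rcd, h]
    exact mul_right_cancel this
  have h3grp : IsPGroup 3 ↥(Subgroup.closure ({t * (t * c), t * (t * dd)} : Set ↥(Cfsg.SU 3 F 2))) := by
    rw [htc, htd]
    apply isPGroup_of_cubes hF
    rintro s (rfl | rfl)
    · exact hc3
    · exact hd3
  refine ⟨t, t * c, t * dd, hrel, hnc, h3grp, ?_⟩
  -- the closure is the commutator subgroup
  have hcK : c ∈ commutator ↥(Cfsg.SU 3 F 2) := by
    have h1 : ⁅c, t⁆ ∈ commutator ↥(Cfsg.SU 3 F 2) :=
      Subgroup.commutator_mem_commutator (Subgroup.mem_top c) (Subgroup.mem_top t)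
    have e : ⁅c, t⁆ = c * c := by
      rw [commutatorElement_def]
      have ht : t⁻¹ = t := inv_eq_of_mul_eq_one_right rtt
      have hci : c⁻¹ = c * c := inv_eq_of_mul_eq_one_right (by rw [← mul_assoc]; exact rc3)
      rw [ht, hci]
      calc c * t * (c * c) * t = c * ((t * c * t) * (t * c * t)) := by
            have : (t * c * t) * (t * c * t) = t * c * (t * t) * c * t := by group
            rw [this, rtt]; group
        _ = c * ((c * c) * (c * c)) := by rw [rtct]
        _ = (c * c * c) * (c * c) := by group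
        _ = c * c := by rw [rc3, one_mul]
    rw [e] at h1
    have : c = (c * c) * (c * c) := by
      calc c = (c * c * c) * c := by rw [rc3, one_mul]
        _ = (c * c) * (c * c) := by group
    rw [this]
    exact Subgroup.mul_mem _ h1 h1
  have hdK : dd ∈ commutator ↥(Cfsg.SU 3 F 2) := by
    have h1 : ⁅dd, t⁆ ∈ commutator ↥(Cfsg.SU 3 F 2) :=
      Subgroup.commutator_mem_commutator (Subgroup.mem_top dd) (Subgroup.mem_top t)
    have e : ⁅dd, t⁆ = dd * dd := by
      rw [commutatorElement_def]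
      have ht : t⁻¹ = t := inv_eq_of_mul_eq_one_right rtt
      have hci : dd⁻¹ = dd * dd := inv_eq_of_mul_eq_one_right (by rw [← mul_assoc]; exact rd3)
      rw [ht, hci]
      calc dd * t * (dd * dd) * t = dd * ((t * dd * t) * (t * dd * t)) := by
            have : (t * dd * t) * (t * dd * t) = t * dd * (t * t) * dd * t := by group
            rw [this, rtt]; group
        _ = dd * ((dd * dd) * (dd * dd)) := by rw [rtdt]
        _ = (dd * dd * dd) * (dd * dd) := by group
        _ = dd * dd := by rw [rd3, one_mul]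
    rw [e] at h1
    have : dd = (dd * dd) * (dd * dd) := by
      calc dd = (dd * dd * dd) * dd := by rw [rd3, one_mul]
        _ = (dd * dd) * (dd * dd) := by group
    rw [this]
    exact Subgroup.mul_mem _ h1 h1
  have hzK : z ∈ commutator ↥(Cfsg.SU 3 F 2) := by
    have h1 : ⁅c, dd⁆ ∈ commutator ↥(Cfsg.SU 3 F 2) :=
      Subgroup.commutator_mem_commutator (Subgroup.mem_top c) (Subgroup.mem_top dd)
    have e : ⁅c, dd⁆ = z := by
      rw [commutatorElement_def, rcd]; group
    rwa [e] at h1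
  have htK : t ∈ commutator ↥(Cfsg.SU 3 F 2) := by
    have h1 : ⁅x, m⁆ ∈ commutator ↥(Cfsg.SU 3 F 2) :=
      Subgroup.commutator_mem_commutator (Subgroup.mem_top x) (Subgroup.mem_top m)
    have e : ⁅x, m⁆ = (z * z * c) * t := by
      rw [commutatorElement_def, rxm]
      have hw : w = z * z * c * m⁻¹ := by rw [← rwm]; group
      have ht : t⁻¹ = t := inv_eq_of_mul_eq_one_right rtt
      calc w * x * x⁻¹ * m⁻¹ = w * m⁻¹ := by group
        _ = z * z * c * (m * m)⁻¹ := by rw [hw]; group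
        _ = z * z * c * t := by rw [rmm, ht]
    have : t = (z * z * c)⁻¹ * ⁅x, m⁆ := by rw [e]; group
    rw [this]
    exact Subgroup.mul_mem _ (Subgroup.inv_mem _ (Subgroup.mul_mem _ (Subgroup.mul_mem _ hzK hzK) hcK)) h1
  have hle : Subgroup.closure ({t, t * c, t * dd} : Set ↥(Cfsg.SU 3 F 2)) ≤ commutator ↥(Cfsg.SU 3 F 2) := by
    rw [Subgroup.closure_le]
    rintro g (rfl | rfl | rfl)
    · exact htK
    · exact Subgroup.mul_mem _ htK hcK
    · exact Subgroup.mul_mem _ htK hdK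
  apply Subgroup.eq_of_le_of_card_ge hle
  rw [hrel.card_closure_eq h3grp hnc]
  exact card_commutator_le hF

end rel

include hF in
/-- the model -/
theorem su_model : ∃ a' b' c' : ↥(Cfsg.SU 3 F 2), Rel54 a' b' c' ∧
    (a' * b') * (a' * c') ≠ (a' * c') * (a' * b') ∧
    IsPGroup 3 ↥(Subgroup.closure ({a' * b', a' * c'} : Set ↥(Cfsg.SU 3 F 2))) ∧
    Subgroup.closure {a', b', c'} = commutator ↥(Cfsg.SU 3 F 2) := by
  obtain ⟨ω, hω, hω1⟩ := exists_omega hF
  exact su_model_aux hF ω hω hω1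

end SU

end Cfsg.Agent.Lib.Helper3.TTS
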