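import Mathlib
import Cfsg.Prelude
import Cfsg.Agent.Lib.Helper1.PCore
import Cfsg.Agent.Lib.Helper1.FrattiniP
import Cfsg.Agent.Lib.Helper1.FrattiniAction
import Cfsg.Agent.Lib.Helper8.FStar
import Cfsg.Agent.Lib.Helper3.TTS7

set_option autoImplicit false
set_option maxHeartbeats 4000000
set_option linter.unusedVariables false
set_option linter.unusedSectionVars false
set_option linter.style.longLine false
set_option linter.unusedSimpArgs false
set_option linter.deprecated false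
set_option linter.style.haveILetI false

/-!
# Reduction of the 3-transposition statement to the module setting
-/

universe u v
namespace Cfsg.Agent.Lib.Helper3.TTS

section core
variable {Q : Type u} [Group Q]

theorem hfix_core (e f c : Q) (he : e * e = 1) (hf : f * f = 1) (hc : c * c = 1)
    (hu : (e * c * e * c) * (e * c * e * c) = 1) (hcomm : c * (e * f) = (e * f) * c)
    (h3 : (e * f) ^ 3 = 1) (h3' : (c * e * c * f) ^ 3 = 1) : e * c = c * e := by
  have hei : e⁻¹ = e := inv_eq_of_mul_eq_one_right he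
  have hfi : f⁻¹ = f := inv_eq_of_mul_eq_one_right hf
  have hci : c⁻¹ = c := inv_eq_of_mul_eq_one_right hc
  have hui : (e * c * e * c)⁻¹ = e * c * e * c := inv_eq_of_mul_eq_one_right hu
  -- f c f = e c e
  have h1 : f * c * f = e * c * e := by
    calc f * c * f = (e * e) * f * c * f := by rw [he, one_mul]
      _ = e * (e * f * c) * f := by group
      _ = e * (c * (e * f)) * f := by rw [hcomm]
      _ = e * c * e * (f * f) := by group
      _ = e * c * e := by rw [hf, mul_one]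
  -- u⁻¹ = c e c e
  have hui' : (e * c * e * c)⁻¹ = c * e * c * e := by
    rw [mul_inv_rev, mul_inv_rev, mul_inv_rev, hei, hci]; group
  have hue : e * (e * c * e * c) = (e * c * e * c) * e := by
    calc e * (e * c * e * c) = (e * e) * c * e * c := by group
      _ = c * e * c := by rw [he, one_mul]
      _ = (c * e * c * e) * e⁻¹ := by group
      _ = (e * c * e * c) * e := by rw [← hui', hui, hei]
  have huf : f * (e * c * e * c) = (e * c * e * c) * f := by
    calc f * (e * c * e * c) = f * ((e * c * e) * c) := by group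
      _ = f * ((f * c * f) * c) := by rw [h1]
      _ = (f * f) * c * f * c := by group
      _ = c * (f * c * f) * f⁻¹ := by rw [hf, one_mul]; group
      _ = c * (e * c * e) * f := by rw [h1, hfi]
      _ = (c * e * c * e) * f := by group
      _ = (e * c * e * c) * f := by rw [← hui', hui]
  have h6 : c * e * c * f = (e * f) * (e * c * e * c) := by
    calc c * e * c * f = (e * e) * c * e * c * f := by rw [he, one_mul]
      _ = e * ((e * c * e * c) * f) := by group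
      _ = e * (f * (e * c * e * c)) := by rw [huf]
      _ = (e * f) * (e * c * e * c) := by group
  have hcm : Commute (e * f) (e * c * e * c) := by
    show (e * f) * (e * c * e * c) = (e * c * e * c) * (e * f)
    calc (e * f) * (e * c * e * c) = e * (f * (e * c * e * c)) := by group
      _ = e * ((e * c * e * c) * f) := by rw [huf]
      _ = (e * (e * c * e * c)) * f := by group
      _ = ((e * c * e * c) * e) * f := by rw [hue]
      _ = (e * c * e * c) * (e * f) := by group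
  have h7 : (e * c * e * c) ^ 3 = 1 := by
    rw [h6, hcm.mul_pow, h3, one_mul] at h3'
    exact h3'
  have h8 : e * c * e * c = 1 := by
    have : (e * c * e * c) ^ 3 = (e * c * e * c) * (e * c * e * c) * (e * c * e * c) := by
      rw [pow_three']
    rw [this, hu, one_mul] at h7
    exact h7
  calc e * c = (e * c * e * c) * c⁻¹ * e⁻¹ := by group
    _ = c * e := by rw [h8, one_mul, hci, hei]

theorem eq_one_of_sq_of_isPGroup {P : Subgroup Q} (hP : IsPGroup 3 P) (x : Q) (hx : x ∈ P)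
    (h2 : x ^ 2 = 1) : x = 1 := by
  obtain ⟨k, hk⟩ := hP ⟨x, hx⟩
  have hk' : x ^ (3 ^ k) = 1 := by
    have := congrArg Subtype.val hk
    simpa using this
  have h1 : orderOf x ∣ 3 ^ k := orderOf_dvd_of_pow_eq_one hk'
  have h2' : orderOf x ∣ 2 := orderOf_dvd_of_pow_eq_one h2
  have hcop : Nat.Coprime (3 ^ k) 2 := Nat.Coprime.pow_left _ (by norm_num)
  have : orderOf x = 1 := Nat.eq_one_of_dvd_coprimes hcop h1 h2'
  exact orderOf_eq_one_iff.mp this

end core

section quot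
variable {G : Type u} [Group G]

theorem closure_conj_map {G' : Type v} [Group G'] (φ : G →* G') (hφ : Function.Surjective φ)
    (d : G) (hcl : Subgroup.closure (conjugatesOf d) = ⊤) :
    Subgroup.closure (conjugatesOf (φ d)) = ⊤ := by
  have h1 : Subgroup.map φ (Subgroup.closure (conjugatesOf d)) = ⊤ := by
    rw [hcl, Subgroup.map_top_of_surjective _ hφ]
  rw [MonoidHom.map_closure] at h1
  rw [eq_top_iff, ← h1]
  apply Subgroup.closure_mono
  rintro _ ⟨x, hx, rfl⟩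
  exact φ.map_isConj hx

theorem comm_mem_of_class [Finite G] (P : Subgroup G) [P.Normal] (k : ℕ) (hidx : P.index = 2 ^ k)
    (d : G) (hcl : Subgroup.closure (conjugatesOf d) = ⊤) (g : G) :
    g * d * g⁻¹ * d⁻¹ ∈ P := by
  haveI : Fact (Nat.Prime 2) := ⟨Nat.prime_two⟩
  have hX : IsPGroup 2 (G ⧸ P) := by
    apply IsPGroup.of_card (n := k)
    rw [← hidx]
    exact (Subgroup.index_eq_card P).symm
  have hcl' := closure_conj_map (QuotientGroup.mk' P) (QuotientGroup.mk'_surjective P) d hcl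
  have h := central_of_class hX (QuotientGroup.mk' P d) hcl' (QuotientGroup.mk' P g)
  rw [← QuotientGroup.eq_one_iff]
  have h2 : ((g * d * g⁻¹ * d⁻¹ : G) : G ⧸ P)
      = QuotientGroup.mk' P g * QuotientGroup.mk' P d * (QuotientGroup.mk' P g)⁻¹
        * (QuotientGroup.mk' P d)⁻¹ := by
    simp
  rw [h2, h, mul_inv_cancel]

end quot

section setup
variable {H : Type u} [Group H] {E : Set H} (hE : Cfsg.IsThreeTranspositionClass E)
include hE

theorem E_conj (h e : H) (he : e ∈ E) : h * e * h⁻¹ ∈ E := by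
  obtain ⟨_, ⟨d, hd, hEd⟩, _⟩ := hE
  rw [hEd] at he ⊢
  obtain ⟨c, hc⟩ := isConj_iff.mp he
  apply isConj_iff.mpr
  refine ⟨h * c, ?_⟩
  rw [← hc]; group

theorem E_sq (e : H) (he : e ∈ E) : e * e = 1 := by
  have h := hE.1.1 e he
  have := pow_orderOf_eq_one e
  rw [h, pow_two] at this
  exact this

theorem E_inv (e : H) (he : e ∈ E) : e⁻¹ = e := inv_eq_of_mul_eq_one_right (E_sq hE e he)

variable [Finite H] (P : Subgroup (H ⧸ Cfsg.pCore 2 H)) [hPn : P.Normal] (hP3 : IsPGroup 3 P)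
  (k : ℕ) (hidx : P.index = 2 ^ k)
include hP3 hidx

theorem piE_mul_mem (e f : H) (he : e ∈ E) (hf : f ∈ E) :
    (QuotientGroup.mk' (Cfsg.pCore 2 H) e) * (QuotientGroup.mk' (Cfsg.pCore 2 H) f) ∈ P := by
  obtain ⟨d, hd, hEd⟩ := hE.2.1
  have hcl : Subgroup.closure (conjugatesOf d) = ⊤ := by rw [← hEd]; exact hE.2.2
  have hcl' := closure_conj_map (QuotientGroup.mk' (Cfsg.pCore 2 H))
    (QuotientGroup.mk'_surjective _) d hcl
  have key : ∀ x ∈ E, (QuotientGroup.mk' (Cfsg.pCore 2 H) x)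
      * (QuotientGroup.mk' (Cfsg.pCore 2 H) d)⁻¹ ∈ P := by
    intro x hx
    rw [hEd] at hx
    obtain ⟨c, hc⟩ := isConj_iff.mp hx
    have := comm_mem_of_class P k hidx (QuotientGroup.mk' (Cfsg.pCore 2 H) d) hcl'
      (QuotientGroup.mk' (Cfsg.pCore 2 H) c)
    rw [← hc]
    simpa using this
  have h1 := key e he
  have h2 := P.inv_mem (key f hf)
  have h3 := P.mul_mem h1 h2
  have hfi : (QuotientGroup.mk' (Cfsg.pCore 2 H) f)⁻¹ = QuotientGroup.mk' (Cfsg.pCore 2 H) f := by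
    rw [← map_inv, E_inv hE f hf]
  rw [mul_inv_rev, inv_inv, hfi] at h3
  have : (QuotientGroup.mk' (Cfsg.pCore 2 H)) e * ((QuotientGroup.mk' (Cfsg.pCore 2 H)) d)⁻¹ *
      ((QuotientGroup.mk' (Cfsg.pCore 2 H)) d * (QuotientGroup.mk' (Cfsg.pCore 2 H)) f)
      = (QuotientGroup.mk' (Cfsg.pCore 2 H)) e * (QuotientGroup.mk' (Cfsg.pCore 2 H)) f := by
    group
  rw [this] at h3
  exact h3

theorem cube_of_ne (e f : H) (he : e ∈ E) (hf : f ∈ E)
    (hne : QuotientGroup.mk' (Cfsg.pCore 2 H) e ≠ QuotientGroup.mk' (Cfsg.pCore 2 H) f) :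
    (e * f) ^ 3 = 1 := by
  rcases hE.1.2 e he f hf with h2 | h3
  · exfalso
    apply hne
    have hm := piE_mul_mem hE P hP3 k hidx e f he hf
    have h2' : ((QuotientGroup.mk' (Cfsg.pCore 2 H) e) * (QuotientGroup.mk' (Cfsg.pCore 2 H) f)) ^ 2
        = 1 := by
      rw [← map_mul, ← map_pow, h2, map_one]
    have h1 := eq_one_of_sq_of_isPGroup hP3 _ hm h2'
    have hfi : (QuotientGroup.mk' (Cfsg.pCore 2 H) f)⁻¹ = QuotientGroup.mk' (Cfsg.pCore 2 H) f := by
      rw [← map_inv, E_inv hE f hf]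
    rw [← hfi]
    exact eq_inv_of_mul_eq_one_left h1
  · exact h3

omit hP3 hidx hPn in
theorem exists_ne (hE2 : ∃ a ∈ E, ∃ b ∈ E, a ≠ b) :
    ∃ e ∈ E, ∃ f ∈ E, QuotientGroup.mk' (Cfsg.pCore 2 H) e ≠ QuotientGroup.mk' (Cfsg.pCore 2 H) f := by
  by_contra hcon
  push Not at hcon
  obtain ⟨d, hd, hEd⟩ := hE.2.1
  have hcl : Subgroup.closure (conjugatesOf d) = ⊤ := by rw [← hEd]; exact hE.2.2
  haveI : Fact (Nat.Prime 2) := ⟨Nat.prime_two⟩
  have hH2 : IsPGroup 2 H := by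
    intro h
    have htop : (⊤ : Subgroup (H ⧸ Cfsg.pCore 2 H))
        ≤ Subgroup.zpowers (QuotientGroup.mk' (Cfsg.pCore 2 H) d) := by
      have h1 : Subgroup.map (QuotientGroup.mk' (Cfsg.pCore 2 H)) (Subgroup.closure E) = ⊤ := by
        rw [hE.2.2, Subgroup.map_top_of_surjective _ (QuotientGroup.mk'_surjective _)]
      rw [MonoidHom.map_closure] at h1
      rw [← h1, Subgroup.closure_le]
      rintro _ ⟨x, hx, rfl⟩
      rw [hcon x hx d hd]
      exact Subgroup.mem_zpowers _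
    have hmem := htop (Subgroup.mem_top (QuotientGroup.mk' (Cfsg.pCore 2 H) h))
    obtain ⟨n, hn⟩ := Subgroup.mem_zpowers_iff.mp hmem
    have hδ : (QuotientGroup.mk' (Cfsg.pCore 2 H) d) * (QuotientGroup.mk' (Cfsg.pCore 2 H) d) = 1 := by
      rw [← map_mul, E_sq hE d hd, map_one]
    have hhh : h * h ∈ Cfsg.pCore 2 H := by
      rw [← QuotientGroup.eq_one_iff]
      have : ((h * h : H) : H ⧸ Cfsg.pCore 2 H)
          = QuotientGroup.mk' (Cfsg.pCore 2 H) h * QuotientGroup.mk' (Cfsg.pCore 2 H) h := rfl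
      rw [this, ← hn, ← zpow_add, ← two_mul, zpow_mul, zpow_two, hδ, one_zpow]
    obtain ⟨k, hk⟩ := (Helper1.pCore_isPGroup 2 (G := H)) ⟨h * h, hhh⟩
    refine ⟨k + 1, ?_⟩
    have := congrArg Subtype.val hk
    simp only [Subgroup.coe_pow, Subgroup.coe_one] at this
    rw [pow_succ', pow_mul, pow_two]; exact this
  have hc := central_of_class hH2 d hcl
  obtain ⟨a, ha, b, hb, hab⟩ := hE2
  apply hab
  have : ∀ x ∈ E, x = d := by
    intro x hx
    rw [hEd] at hx
    obtain ⟨c, hc'⟩ := isConj_iff.mp hx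
    rw [← hc', hc c]
  rw [this a ha, this b hb]

end setup

section module
open scoped commutatorElement
variable (H : Type u) [Group H]

/-- the image in `H` of the Frattini subgroup of `O_2(H)` -/
def NN : Subgroup H := (frattini ↥(Cfsg.pCore 2 H)).map (Cfsg.pCore 2 H).subtype

instance NN_normal : (NN H).Normal := by
  unfold NN
  exact ConjAct.normal_of_characteristic_of_normal

theorem NN_le : NN H ≤ Cfsg.pCore 2 H := by
  rintro x ⟨y, -, rfl⟩
  exact y.2

theorem mem_NN_of_mem_frattini (y : ↥(Cfsg.pCore 2 H)) (hy : y ∈ frattini ↥(Cfsg.pCore 2 H)) :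
    (y : H) ∈ NN H := ⟨y, hy, rfl⟩

/-- the module `O_2(H) / Φ(O_2(H))` as a subgroup of `H / Φ(O_2(H))` -/
def WW : Subgroup (H ⧸ NN H) := (Cfsg.pCore 2 H).map (QuotientGroup.mk' (NN H))

instance WW_normal : (WW H).Normal := by
  unfold WW
  exact Subgroup.Normal.map inferInstance _ (QuotientGroup.mk'_surjective _)

/-- the action of `H` on the module -/
noncomputable def ρ₀ : H →* MulAut ↥(WW H) :=
  (MulAut.conjNormal).comp (QuotientGroup.mk' (NN H))

theorem ρ₀_apply (h : H) (w : ↥(WW H)) :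
    ((ρ₀ H h w : ↥(WW H)) : H ⧸ NN H)
      = QuotientGroup.mk' (NN H) h * (w : H ⧸ NN H) * (QuotientGroup.mk' (NN H) h)⁻¹ := by
  unfold ρ₀
  simp [MulAut.conjNormal_apply]

variable [Finite H]

theorem sq_mem_NN (v : H) (hv : v ∈ Cfsg.pCore 2 H) : v * v ∈ NN H := by
  haveI : Fact (Nat.Prime 2) := ⟨Nat.prime_two⟩
  have h := Helper1.pow_prime_mem_frattini_of_isPGroup 2 (Helper1.pCore_isPGroup 2 (G := H)) ⟨v, hv⟩
  have := mem_NN_of_mem_frattini H _ h
  simpa [pow_two] using this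

theorem comm_mem_NN (v v' : H) (hv : v ∈ Cfsg.pCore 2 H) (hv' : v' ∈ Cfsg.pCore 2 H) :
    v * v' * v⁻¹ * v'⁻¹ ∈ NN H := by
  haveI : Fact (Nat.Prime 2) := ⟨Nat.prime_two⟩
  have h := Helper1.commutator_le_frattini_of_isPGroup 2 (Helper1.pCore_isPGroup 2 (G := H))
  have h1 : ⁅(⟨v, hv⟩ : ↥(Cfsg.pCore 2 H)), ⟨v', hv'⟩⁆ ∈ commutator ↥(Cfsg.pCore 2 H) := by
    rw [commutator_def]
    exact Subgroup.commutator_mem_commutator (Subgroup.mem_top _) (Subgroup.mem_top _)
  have := mem_NN_of_mem_frattini H _ (h h1)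
  simpa [commutatorElement_def] using this

theorem WW_sq (w : ↥(WW H)) : w * w = 1 := by
  obtain ⟨w, ⟨v, hv, rfl⟩⟩ := w
  apply Subtype.ext
  show QuotientGroup.mk' (NN H) v * QuotientGroup.mk' (NN H) v = 1
  rw [← map_mul]
  exact (QuotientGroup.eq_one_iff _).mpr (sq_mem_NN H v hv)

theorem ρ₀_trivial : Cfsg.pCore 2 H ≤ (ρ₀ H).ker := by
  intro v hv
  rw [MonoidHom.mem_ker]
  ext w
  obtain ⟨w, ⟨v', hv', rfl⟩⟩ := w
  rw [ρ₀_apply]
  show QuotientGroup.mk' (NN H) v * QuotientGroup.mk' (NN H) v' * (QuotientGroup.mk' (NN H) v)⁻¹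
    = QuotientGroup.mk' (NN H) v'
  rw [← mul_inv_eq_one, ← map_inv, ← map_inv, ← map_mul, ← map_mul, ← map_mul]
  exact (QuotientGroup.eq_one_iff _).mpr (comm_mem_NN H v v' hv hv')

/-- the action of `H / O_2(H)` on the module -/
noncomputable def ρρ : H ⧸ Cfsg.pCore 2 H →* MulAut ↥(WW H) :=
  QuotientGroup.lift (Cfsg.pCore 2 H) (ρ₀ H) (ρ₀_trivial H)

theorem ρρ_mk (h : H) : ρρ H (QuotientGroup.mk' (Cfsg.pCore 2 H) h) = ρ₀ H h := by
  unfold ρρ
  exact QuotientGroup.lift_mk _ _ _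

theorem ker_ρ₀_le (hF : Cfsg.generalizedFittingSubgroup H = Cfsg.pCore 2 H) :
    (ρ₀ H).ker ≤ Cfsg.pCore 2 H := by
  haveI : Fact (Nat.Prime 2) := ⟨Nat.prime_two⟩
  apply Helper1.le_pCore (MonoidHom.normal_ker _)
  rintro ⟨g, hg⟩
  obtain ⟨a, m, hm, hgm⟩ := Nat.exists_eq_two_pow_mul_odd (orderOf_pos g).ne'
  refine ⟨a, ?_⟩
  apply Subtype.ext
  show g ^ (2 ^ a) = 1
  have hg'm : (g ^ (2 ^ a)) ^ m = 1 := by rw [← pow_mul, ← hgm, pow_orderOf_eq_one]
  have hg'K : g ^ (2 ^ a) ∈ (ρ₀ H).ker := Subgroup.pow_mem _ hg _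
  have h1 : orderOf (g ^ (2 ^ a)) ∣ m := orderOf_dvd_of_pow_eq_one hg'm
  have hcent : Subgroup.zpowers (g ^ (2 ^ a)) ≤ Subgroup.centralizer (Cfsg.pCore 2 H : Set H) := by
    apply Helper1.centralizes_of_trivial_on_frattini_quotient
    · rw [Subgroup.normalizer_eq_top]; exact le_top
    · rw [Nat.card_zpowers]
      obtain ⟨n, hn⟩ := IsPGroup.exists_card_eq (Helper1.pCore_isPGroup 2 (G := H))
      have h2 : Nat.card (frattini ↥(Cfsg.pCore 2 H)) ∣ 2 ^ n :=
        hn ▸ Subgroup.card_subgroup_dvd_card _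
      have : Nat.Coprime m (2 ^ n) := Nat.Coprime.pow_right n (Nat.coprime_two_right.mpr hm)
      exact Nat.Coprime.coprime_dvd_left h1 (Nat.Coprime.coprime_dvd_right h2 this)
    · intro x hx k hk
      have hxK : x ∈ (ρ₀ H).ker := (Subgroup.zpowers_le.mpr hg'K) hx
      have h1 := MonoidHom.mem_ker.mp hxK
      have h2 := congrArg (fun φ => ((φ ⟨QuotientGroup.mk' (NN H) k, ⟨k, hk, rfl⟩⟩ : ↥(WW H)) : H ⧸ NN H)) h1
      simp only [ρ₀_apply, MulAut.one_apply] at h2
      rw [← mul_inv_eq_one, ← map_inv, ← map_inv, ← map_mul, ← map_mul, ← map_mul] at h2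
      exact (QuotientGroup.eq_one_iff _).mp h2
  have hg'C : g ^ (2 ^ a) ∈ Subgroup.centralizer (Cfsg.pCore 2 H : Set H) :=
    hcent (Subgroup.mem_zpowers _)
  have hg'V : g ^ (2 ^ a) ∈ Cfsg.pCore 2 H := by
    have := Helper8.centralizer_generalizedFittingSubgroup_le (G := H)
    rw [hF] at this
    exact this hg'C
  obtain ⟨k, hk⟩ := (Helper1.pCore_isPGroup 2 (G := H)) ⟨g ^ (2 ^ a), hg'V⟩
  have hk' : (g ^ (2 ^ a)) ^ (2 ^ k) = 1 := by
    have := congrArg Subtype.val hk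
    simpa using this
  have h2 : orderOf (g ^ (2 ^ a)) ∣ 2 ^ k := orderOf_dvd_of_pow_eq_one hk'
  have hc : Nat.Coprime m (2 ^ k) := Nat.Coprime.pow_right k (Nat.coprime_two_right.mpr hm)
  have : orderOf (g ^ (2 ^ a)) = 1 := Nat.eq_one_of_dvd_coprimes hc h1 h2
  exact orderOf_eq_one_iff.mp this

theorem ρρ_injective (hF : Cfsg.generalizedFittingSubgroup H = Cfsg.pCore 2 H) :
    Function.Injective (ρρ H) := by
  rw [injective_iff_map_eq_one]
  intro g hg
  obtain ⟨h, rfl⟩ := QuotientGroup.mk'_surjective (Cfsg.pCore 2 H) g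
  rw [ρρ_mk] at hg
  have := ker_ρ₀_le H hF (MonoidHom.mem_ker.mpr hg)
  exact (QuotientGroup.eq_one_iff _).mpr this

theorem hfix_lemma {E : Set H} (hE : Cfsg.IsThreeTranspositionClass E)
    (P : Subgroup (H ⧸ Cfsg.pCore 2 H)) [hPn : P.Normal] (hP3 : IsPGroup 3 P)
    (k : ℕ) (hidx : P.index = 2 ^ k) (e f : H) (he : e ∈ E) (hf : f ∈ E)
    (hne : QuotientGroup.mk' (Cfsg.pCore 2 H) e ≠ QuotientGroup.mk' (Cfsg.pCore 2 H) f)
    (w : ↥(WW H))
    (hw : ρρ H (QuotientGroup.mk' (Cfsg.pCore 2 H) e * QuotientGroup.mk' (Cfsg.pCore 2 H) f) w = w) :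
    ρρ H (QuotientGroup.mk' (Cfsg.pCore 2 H) e) w = w := by
  obtain ⟨w, ⟨c, hc, rfl⟩⟩ := w
  rw [← map_mul, ρρ_mk] at hw
  rw [ρρ_mk]
  have hw' := congrArg Subtype.val hw
  rw [ρ₀_apply] at hw'
  apply Subtype.ext
  rw [ρ₀_apply]
  simp only at hw' ⊢
  have he2 : QuotientGroup.mk' (NN H) e * QuotientGroup.mk' (NN H) e = 1 := by
    rw [← map_mul, E_sq hE e he, map_one]
  have hf2 : QuotientGroup.mk' (NN H) f * QuotientGroup.mk' (NN H) f = 1 := by
    rw [← map_mul, E_sq hE f hf, map_one]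
  have hc2 : QuotientGroup.mk' (NN H) c * QuotientGroup.mk' (NN H) c = 1 := by
    rw [← map_mul]
    exact (QuotientGroup.eq_one_iff _).mpr (sq_mem_NN H c hc)
  have hci : (QuotientGroup.mk' (NN H) c)⁻¹ = QuotientGroup.mk' (NN H) c :=
    inv_eq_of_mul_eq_one_right hc2
  have hu : (QuotientGroup.mk' (NN H) e * QuotientGroup.mk' (NN H) c * QuotientGroup.mk' (NN H) e
      * QuotientGroup.mk' (NN H) c) * (QuotientGroup.mk' (NN H) e * QuotientGroup.mk' (NN H) c
      * QuotientGroup.mk' (NN H) e * QuotientGroup.mk' (NN H) c) = 1 := by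
    rw [← map_mul, ← map_mul, ← map_mul, ← map_mul]
    apply (QuotientGroup.eq_one_iff _).mpr
    apply sq_mem_NN
    have h1 : e * c * e ∈ Cfsg.pCore 2 H := by
      have := (Cfsg.pCore_normal 2 H).conj_mem c hc e
      rw [E_inv hE e he] at this
      exact this
    exact (Cfsg.pCore 2 H).mul_mem h1 hc
  have hcomm : QuotientGroup.mk' (NN H) c * (QuotientGroup.mk' (NN H) e * QuotientGroup.mk' (NN H) f)
      = (QuotientGroup.mk' (NN H) e * QuotientGroup.mk' (NN H) f) * QuotientGroup.mk' (NN H) c := by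
    rw [map_mul] at hw'
    have := congrArg (fun x => x * (QuotientGroup.mk' (NN H) e * QuotientGroup.mk' (NN H) f)) hw'
    simp only [inv_mul_cancel_right] at this
    exact this.symm
  have h3 : (QuotientGroup.mk' (NN H) e * QuotientGroup.mk' (NN H) f) ^ 3 = 1 := by
    rw [← map_mul, ← map_pow, cube_of_ne hE P hP3 k hidx e f he hf hne, map_one]
  have h3' : (QuotientGroup.mk' (NN H) c * QuotientGroup.mk' (NN H) e * QuotientGroup.mk' (NN H) c
      * QuotientGroup.mk' (NN H) f) ^ 3 = 1 := by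
    have hmem : c * e * c⁻¹ ∈ E := E_conj hE c e he
    have hpi : QuotientGroup.mk' (Cfsg.pCore 2 H) (c * e * c⁻¹)
        = QuotientGroup.mk' (Cfsg.pCore 2 H) e := by
      have h1 : QuotientGroup.mk' (Cfsg.pCore 2 H) c = 1 := (QuotientGroup.eq_one_iff _).mpr hc
      rw [map_mul, map_mul, map_inv, h1, one_mul, inv_one, mul_one]
    have := cube_of_ne hE P hP3 k hidx (c * e * c⁻¹) f hmem hf (by rw [hpi]; exact hne)
    have h4 := congrArg (QuotientGroup.mk' (NN H)) this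
    rw [map_pow, map_mul, map_mul, map_mul, map_inv, hci, map_one] at h4
    exact h4
  have := hfix_core _ _ _ he2 hf2 hc2 hu hcomm h3 h3'
  rw [this, mul_assoc, mul_inv_cancel, mul_one]

theorem exists_ctx {E : Set H} (hE : Cfsg.IsThreeTranspositionClass E)
    (hE2 : ∃ a ∈ E, ∃ b ∈ E, a ≠ b)
    (hF : Cfsg.generalizedFittingSubgroup H = Cfsg.pCore 2 H)
    (h232 : ∃ P : Sylow 3 (H ⧸ Cfsg.pCore 2 H), (P : Subgroup (H ⧸ Cfsg.pCore 2 H)).Normal ∧
      ∃ k : ℕ, (P : Subgroup (H ⧸ Cfsg.pCore 2 H)).index = 2 ^ k) :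
    Nonempty (Ctx (H ⧸ Cfsg.pCore 2 H) ↥(WW H)) := by
  obtain ⟨P, hPn, k, hidx⟩ := h232
  haveI := hPn
  haveI : Fact (Nat.Prime 3) := ⟨Nat.prime_three⟩
  have hP3 : IsPGroup 3 (P : Subgroup (H ⧸ Cfsg.pCore 2 H)) := P.isPGroup'
  refine ⟨{
    ρ := ρρ H
    D := QuotientGroup.mk' (Cfsg.pCore 2 H) '' E
    hρ := ρρ_injective H hF
    hW := WW_sq H
    hconj := ?_
    hcl := ?_
    hinv := ?_
    h3 := ?_
    hfix := ?_
    hne := ?_
    P := (P : Subgroup (H ⧸ Cfsg.pCore 2 H))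
    hP3 := hP3
    hPn := hPn
    hPall := ?_ }⟩
  · rintro g _ ⟨e, he, rfl⟩
    obtain ⟨h, rfl⟩ := QuotientGroup.mk'_surjective _ g
    exact ⟨h * e * h⁻¹, E_conj hE h e he, by simp⟩
  · rw [← MonoidHom.map_closure, hE.2.2,
      Subgroup.map_top_of_surjective _ (QuotientGroup.mk'_surjective _)]
  · rintro _ ⟨e, he, rfl⟩
    rw [← map_mul, E_sq hE e he, map_one]
  · rintro _ ⟨e, he, rfl⟩ _ ⟨f, hf, rfl⟩ hne
    rw [← map_mul, ← map_pow, cube_of_ne hE _ hP3 k hidx e f he hf hne, map_one]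
  · rintro _ ⟨e, he, rfl⟩ _ ⟨f, hf, rfl⟩ hne w hw
    exact hfix_lemma H hE _ hP3 k hidx e f he hf hne w hw
  · obtain ⟨e, he, f, hf, hne⟩ := exists_ne hE hE2
    exact ⟨_, ⟨e, he, rfl⟩, _, ⟨f, hf, rfl⟩, hne⟩
  · intro g hg
    have h3 : IsPGroup 3 (Subgroup.zpowers g) := by
      rintro ⟨x, hx⟩
      obtain ⟨n, rfl⟩ := Subgroup.mem_zpowers_iff.mp hx
      refine ⟨1, ?_⟩
      apply Subtype.ext
      show (g ^ n) ^ (3 ^ 1) = 1
      rw [pow_one, ← zpow_natCast, ← zpow_mul, mul_comm, zpow_mul, zpow_natCast, hg, one_zpow]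
    obtain ⟨Q, hQ⟩ := h3.exists_le_sylow
    haveI := Sylow.unique_of_normal P hPn
    have : Q = P := Subsingleton.elim _ _
    rw [← this]; exact hQ (Subgroup.mem_zpowers g)

end module

end Cfsg.Agent.Lib.Helper3.TTS
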