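import Mathlib
import Cfsg.Prelude
import Cfsg.Agent.Lib.Lead.TTG
import Cfsg.Agent.Lib.Helper3.TTS8
import Cfsg.Agent.Lib.Helper3.TTS9

set_option autoImplicit false
set_option maxHeartbeats 4000000
set_option linter.unusedVariables false
set_option linter.unusedSectionVars false
set_option linter.style.longLine false
set_option linter.unusedSimpArgs false
set_option linter.deprecated false
set_option linter.style.haveILetI false

/-!
# A complement to `O_2` when the quotient is `SU_3(2)'`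
-/

universe u v
namespace Cfsg.Agent.Lib.Helper3.TTS

theorem card_commutator_SU3 {F : Type*} [Field F] [Fintype F] (hF : Fintype.card F = 2 ^ 2) :
    Nat.card ↥(commutator ↥(Cfsg.SU 3 F 2)) = 54 := by
  obtain ⟨a', b', c', h', hnc', h3', hcl'⟩ := su_model (F := F) hF
  rw [← hcl']
  exact Rel54.card_closure_eq h' h3' hnc'

section
variable {H : Type u} [Group H] {E : Set H} (hE : Cfsg.IsThreeTranspositionClass E)
  [Finite H] (P : Subgroup (H ⧸ Cfsg.pCore 2 H)) [hPn : P.Normal] (hP3 : IsPGroup 3 P)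
  (k : ℕ) (hidx : P.index = 2 ^ k)
include hE hP3 hidx

theorem commute_iff (e f : H) (he : e ∈ E) (hf : f ∈ E) :
    Commute e f ↔
      QuotientGroup.mk' (Cfsg.pCore 2 H) e = QuotientGroup.mk' (Cfsg.pCore 2 H) f := by
  haveI : Fact (Nat.Prime 2) := ⟨Nat.prime_two⟩
  have hei := E_inv hE e he
  have hfi := E_inv hE f hf
  constructor
  · intro hc
    by_contra hne
    have h3 := cube_of_ne hE P hP3 k hidx e f he hf hne
    have h2 : (e * f) ^ 2 = 1 := by
      rw [hc.mul_pow, pow_two, pow_two, E_sq hE e he, E_sq hE f hf, one_mul]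
    have h1 : e * f = 1 := by
      have : (e * f) ^ 3 = (e * f) ^ 2 * (e * f) := pow_succ _ _
      rw [this, h2, one_mul] at h3
      exact h3
    apply hne
    have : e = f⁻¹ := eq_inv_of_mul_eq_one_left h1
    rw [this, hfi]
  · intro h
    have hmem : e * f ∈ Cfsg.pCore 2 H := by
      have := (QuotientGroup.eq (s := Cfsg.pCore 2 H)).mp h
      rw [hei] at this
      exact this
    have h2 : (e * f) ^ 2 = 1 := by
      rcases hE.1.2 e he f hf with h2 | h3
      · exact h2
      · obtain ⟨k, hk⟩ := (Helper1.pCore_isPGroup 2 (G := H)) ⟨e * f, hmem⟩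
        have hk' : (e * f) ^ (2 ^ k) = 1 := by
          have := congrArg Subtype.val hk
          simpa using this
        have h1 : orderOf (e * f) ∣ 2 ^ k := orderOf_dvd_of_pow_eq_one hk'
        have h2' : orderOf (e * f) ∣ 3 := orderOf_dvd_of_pow_eq_one h3
        have hcop : Nat.Coprime (2 ^ k) 3 := Nat.Coprime.pow_left _ (by norm_num)
        have : orderOf (e * f) = 1 := Nat.eq_one_of_dvd_coprimes hcop h1 h2'
        rw [orderOf_eq_one_iff.mp this, one_pow]
    show e * f = f * e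
    have h4 : e * f * (e * f) = 1 := by rw [← pow_two]; exact h2
    calc e * f = (e * f * (e * f)) * f⁻¹ * e⁻¹ := by group
      _ = f * e := by rw [h4, one_mul, hei, hfi]

end

theorem fact54 : (54 : ℕ).factorization 3 = 3 := by
  rw [Nat.factorization_def _ Nat.prime_three]
  have : (54 : ℕ) = 3 ^ 3 * 2 := by norm_num
  rw [this]
  haveI : Fact (Nat.Prime 3) := ⟨Nat.prime_three⟩
  rw [padicValNat.mul (by norm_num) (by norm_num), padicValNat.prime_pow]
  simp

theorem fact54' (n : ℕ) : (2 ^ n * 54 : ℕ).factorization 3 = 3 := by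
  rw [Nat.factorization_def _ Nat.prime_three]
  have : (2 ^ n * 54 : ℕ) = 3 ^ 3 * (2 ^ (n+1)) := by rw [pow_succ]; ring
  rw [this]
  haveI : Fact (Nat.Prime 3) := ⟨Nat.prime_three⟩
  rw [padicValNat.mul (by norm_num) (by positivity), padicValNat.prime_pow]
  have : padicValNat 3 (2 ^ (n+1)) = 0 := by
    apply padicValNat.eq_zero_of_not_dvd
    intro h
    have := Nat.Prime.dvd_of_dvd_pow Nat.prime_three h
    omega
  rw [this]

theorem complement_of_card54 {G : Type u} [Group G] [Finite G] {D : Set G}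
    (hD : Cfsg.IsThreeTranspositionClass D) (hcard : Nat.card (G ⧸ Cfsg.pCore 2 G) = 54) :
    ∃ K : Subgroup G, (Cfsg.pCore 2 G).IsComplement' K := by
  haveI : Fact (Nat.Prime 3) := ⟨Nat.prime_three⟩
  haveI : Fact (Nat.Prime 2) := ⟨Nat.prime_two⟩
  obtain ⟨Pb⟩ : Nonempty (Sylow 3 (G ⧸ Cfsg.pCore 2 G)) := inferInstance
  have hPbcard : Nat.card (Pb : Subgroup (G ⧸ Cfsg.pCore 2 G)) = 27 := by
    rw [Sylow.card_eq_multiplicity, hcard, fact54]; norm_num
  have hPbidx : (Pb : Subgroup (G ⧸ Cfsg.pCore 2 G)).index = 2 ^ 1 := by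
    have := (Pb : Subgroup (G ⧸ Cfsg.pCore 2 G)).card_mul_index
    rw [hPbcard, hcard] at this
    omega
  haveI hPbn : (Pb : Subgroup (G ⧸ Cfsg.pCore 2 G)).Normal :=
    Subgroup.normal_of_index_eq_two (by simpa using hPbidx)
  have hPb3 : IsPGroup 3 (Pb : Subgroup (G ⧸ Cfsg.pCore 2 G)) := Pb.isPGroup'
  obtain ⟨d, hd, hDd⟩ := hD.2.1
  have hV : {y : G | y ∈ D ∧ Commute d y}
      = {v : G | v ∈ D ∧ ∀ e ∈ D, Commute v e ↔ Commute d e} := by
    ext y
    simp only [Set.mem_setOf_eq]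
    constructor
    · rintro ⟨hy, hc⟩
      refine ⟨hy, fun e he => ?_⟩
      rw [commute_iff hD _ hPb3 1 hPbidx y e hy he, commute_iff hD _ hPb3 1 hPbidx d e hd he,
        ← (commute_iff hD _ hPb3 1 hPbidx d y hd hy).mp hc]
    · rintro ⟨hy, h⟩
      exact ⟨hy, (h y hy).mp (Commute.refl y)⟩
  obtain ⟨P, hdP, hsup⟩ := Cfsg.Agent.Lib.Lead.TTA.exists_sylow_of_perp hD hd hV
  refine ⟨Subgroup.zpowers d ⊔ (P : Subgroup G), ?_⟩
  obtain ⟨n, hn⟩ := IsPGroup.exists_card_eq (Helper1.pCore_isPGroup 2 (G := G))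
  have hG : Nat.card G = 2 ^ n * 54 := by
    rw [← hn, ← hcard, mul_comm]
    exact Subgroup.card_eq_card_quotient_mul_card_subgroup _
  have hP : Nat.card (P : Subgroup G) = 27 := by
    rw [Sylow.card_eq_multiplicity, hG, fact54']; norm_num
  have hd2 : Nat.card (Subgroup.zpowers d) = 2 := by
    rw [Nat.card_zpowers, hD.1.1 d hd]
  have hle : Subgroup.zpowers d ≤ Subgroup.normalizer ((P : Subgroup G) : Set G) :=
    Subgroup.zpowers_le.mpr hdP
  have hKset := Subgroup.coe_mul_of_left_le_normalizer_right (Subgroup.zpowers d) (P : Subgroup G) hle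
  have hK : Nat.card ↥(Subgroup.zpowers d ⊔ (P : Subgroup G)) ≤ 54 := by
    let f : ↥(Subgroup.zpowers d) × ↥(P : Subgroup G) → ↥(Subgroup.zpowers d ⊔ (P : Subgroup G)) :=
      fun x => ⟨x.1.1 * x.2.1,
        Subgroup.mul_mem _ (le_sup_left (a := Subgroup.zpowers d) x.1.2)
          (le_sup_right (b := (P : Subgroup G)) x.2.2)⟩
    have hf : Function.Surjective f := by
      rintro ⟨y, hy⟩
      have hy' : y ∈ ((Subgroup.zpowers d ⊔ (P : Subgroup G) : Subgroup G) : Set G) := hy
      rw [hKset] at hy'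
      obtain ⟨a, ha, b, hb, rfl⟩ := hy'
      exact ⟨(⟨a, ha⟩, ⟨b, hb⟩), rfl⟩
    have := Nat.card_le_card_of_surjective f hf
    rw [Nat.card_prod, hd2, hP] at this
    exact this
  -- the restriction of the quotient map to `K` is bijective
  let φ : ↥(Subgroup.zpowers d ⊔ (P : Subgroup G)) →* G ⧸ Cfsg.pCore 2 G :=
    (QuotientGroup.mk' (Cfsg.pCore 2 G)).comp (Subgroup.subtype _)
  have hφs : Function.Surjective φ := by
    intro q
    obtain ⟨g, rfl⟩ := QuotientGroup.mk'_surjective _ q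
    have hg : g ∈ ((Subgroup.zpowers d ⊔ (P : Subgroup G) ⊔ Cfsg.pCore 2 G : Subgroup G) : Set G) := by
      rw [hsup]; exact Subgroup.mem_top g
    rw [Subgroup.mul_normal] at hg
    obtain ⟨a, ha, b, hb, rfl⟩ := hg
    refine ⟨⟨a, ha⟩, ?_⟩
    show QuotientGroup.mk' (Cfsg.pCore 2 G) a = QuotientGroup.mk' (Cfsg.pCore 2 G) (a * b)
    have hb1 : QuotientGroup.mk' (Cfsg.pCore 2 G) b = 1 := (QuotientGroup.eq_one_iff b).mpr hb
    rw [map_mul, hb1, mul_one]
  have hφb : Function.Bijective φ := hφs.bijective_of_nat_card_le (by rw [hcard]; exact hK)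
  have hKcard : Nat.card ↥(Subgroup.zpowers d ⊔ (P : Subgroup G)) = 54 := by
    rw [← hcard]; exact Nat.card_eq_of_bijective φ hφb
  apply Subgroup.isComplement'_of_card_mul_and_disjoint
  · rw [hn, hKcard, hG]
  · rw [disjoint_iff, eq_bot_iff]
    intro x hx
    have hx1 : x ∈ Cfsg.pCore 2 G := hx.1
    have hx2 : x ∈ Subgroup.zpowers d ⊔ (P : Subgroup G) := hx.2
    have h1 : φ ⟨x, hx2⟩ = φ 1 := by
      rw [map_one]
      exact (QuotientGroup.eq_one_iff x).mpr hx1
    have := hφb.1 h1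
    have := congrArg Subtype.val this
    simpa using this

end Cfsg.Agent.Lib.Helper3.TTS
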