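import Mathlib
import Cfsg.Agent.Lib.Helper3.TW1

/-!
# Thompson–Wielandt for second cores: the configuration and the `p`-group part
-/

set_option autoImplicit false

namespace Cfsg.Agent.Lib.Helper3.TW

open Cfsg Cfsg.Agent.Lib.Helper7

variable {G : Type*} [Group G]

/-- The abstract configuration: `X`, `Y` "maximal with trivial core" (in the form: normalizers of
nontrivial normal subgroups are no bigger), first cores `A₁`, `B₁`, second cores `A₂`, `B₂`. -/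
structure Cfg (X Y A₁ B₁ A₂ B₂ : Subgroup G) : Prop where
  nX : ∀ K : Subgroup G, K ≠ ⊥ → K ≤ X → X ≤ Subgroup.normalizer (K : Set G) →
    Subgroup.normalizer (K : Set G) ≤ X
  nY : ∀ K : Subgroup G, K ≠ ⊥ → K ≤ Y → Y ≤ Subgroup.normalizer (K : Set G) →
    Subgroup.normalizer (K : Set G) ≤ Y
  nXY : ¬ X ≤ Y
  nYX : ¬ Y ≤ X
  A1X : A₁ ≤ X
  A1Y : A₁ ≤ Y
  A1n : X ≤ Subgroup.normalizer (A₁ : Set G)
  A1m : ∀ K : Subgroup G, K ≤ X → K ≤ Y → X ≤ Subgroup.normalizer (K : Set G) → K ≤ A₁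
  B1Y : B₁ ≤ Y
  B1X : B₁ ≤ X
  B1n : Y ≤ Subgroup.normalizer (B₁ : Set G)
  B1m : ∀ K : Subgroup G, K ≤ Y → K ≤ X → Y ≤ Subgroup.normalizer (K : Set G) → K ≤ B₁
  A2A : A₂ ≤ A₁
  A2B : A₂ ≤ B₁
  A2n : X ≤ Subgroup.normalizer (A₂ : Set G)
  A2m : ∀ K : Subgroup G, K ≤ A₁ → K ≤ B₁ → X ≤ Subgroup.normalizer (K : Set G) → K ≤ A₂
  B2B : B₂ ≤ B₁
  B2A : B₂ ≤ A₁
  B2n : Y ≤ Subgroup.normalizer (B₂ : Set G)
  B2m : ∀ K : Subgroup G, K ≤ B₁ → K ≤ A₁ → Y ≤ Subgroup.normalizer (K : Set G) → K ≤ B₂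
  A2ne : A₂ ≠ ⊥
  B2ne : B₂ ≠ ⊥
  card : ∀ p : ℕ, Nat.card (pCoreIn p X) = Nat.card (pCoreIn p Y)

namespace Cfg

variable {X Y A₁ B₁ A₂ B₂ : Subgroup G}

theorem symm (h : Cfg X Y A₁ B₁ A₂ B₂) : Cfg Y X B₁ A₁ B₂ A₂ where
  nX := h.nY
  nY := h.nX
  nXY := h.nYX
  nYX := h.nXY
  A1X := h.B1Y
  A1Y := h.B1X
  A1n := h.B1n
  A1m := h.B1m
  B1Y := h.A1X
  B1X := h.A1Y
  B1n := h.A1n
  B1m := h.A1m
  A2A := h.B2B
  A2B := h.B2A
  A2n := h.B2n
  A2m := h.B2m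
  B2B := h.A2A
  B2A := h.A2B
  B2n := h.A2n
  B2m := h.A2m
  A2ne := h.B2ne
  B2ne := h.A2ne
  card := fun p => (h.card p).symm

theorem pCoreIn_ne_bot_iff [Finite G] (h : Cfg X Y A₁ B₁ A₂ B₂) (p : ℕ) :
    pCoreIn p X ≠ ⊥ ↔ pCoreIn p Y ≠ ⊥ := by
  rw [Ne, Ne, ← Subgroup.card_eq_one, ← Subgroup.card_eq_one, h.card p]

/-- Main step: if `O_p(Y) ≠ 1` then the `p'`-elements of `A₂` generate the trivial group. -/
theorem res_A2_eq_bot [Finite G] (h : Cfg X Y A₁ B₁ A₂ B₂) {p : ℕ} [hp : Fact p.Prime]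
    (hYp : pCoreIn p Y ≠ ⊥) : res p A₂ = ⊥ := by
  by_contra hR
  have hRX : res p A₂ ≤ X := (res_le p A₂).trans (h.A2A.trans h.A1X)
  have hXR : X ≤ Subgroup.normalizer (res p A₂ : Set G) := le_normalizer_res p h.A2n
  have hNR : Subgroup.normalizer (res p A₂ : Set G) ≤ X := h.nX _ hR hRX hXR
  have hA2Y : A₂ ≤ Y := h.A2A.trans h.A1Y
  have hYpp : IsPGroup p (pCoreIn p Y) := pCoreIn_isPGroup p Y
  have hXpp : IsPGroup p (pCoreIn p X) := pCoreIn_isPGroup p X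
  -- Step 3 : `O_p(Y) ≤ X`
  have hYpX : pCoreIn p Y ≤ X := by
    intro y hy
    apply hNR
    apply mem_normalizer_res
    intro a ha
    have hQ : IsPGroup p ((pCoreIn p Y ⊓ B₁ : Subgroup G)) := hYpp.to_le inf_le_left
    have hQA : (pCoreIn p Y ⊓ B₁ : Subgroup G) ≤ Subgroup.normalizer (A₂ : Set G) :=
      inf_le_right.trans (h.B1X.trans h.A2n)
    apply conj_mem_of_comm_mem hQ hQA ha.1 ha.2
    rw [Subgroup.mem_inf]
    constructor
    · have h1 : a * y⁻¹ * a⁻¹ ∈ pCoreIn p Y :=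
        conj_mem_of_mem_normalizer (le_normalizer_pCoreIn p Y (hA2Y ha.1)) (Subgroup.inv_mem _ hy)
      have e : y * a * y⁻¹ * a⁻¹ = y * (a * y⁻¹ * a⁻¹) := by group
      rw [e]; exact Subgroup.mul_mem _ hy h1
    · have h1 : y * a * y⁻¹ ∈ B₁ :=
        conj_mem_of_mem_normalizer (h.B1n (pCoreIn_le p Y hy)) (h.A2B ha.1)
      exact Subgroup.mul_mem _ h1 (Subgroup.inv_mem _ (h.A2B ha.1))
  have hYpB : pCoreIn p Y ≤ B₁ := h.B1m _ (pCoreIn_le p Y) hYpX (le_normalizer_pCoreIn p Y)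
  -- Step 4 : the subgroup `C`
  set S : Set G := {c | c ∈ Y ∧ ∀ b ∈ B₁, c * b * c⁻¹ * b⁻¹ ∈ pCoreIn p Y} with hS
  set C : Subgroup G := Subgroup.closure S with hC
  have hCN : C ≤ Subgroup.normalizer (res p A₂ : Set G) := by
    rw [hC, Subgroup.closure_le]
    intro c hc
    apply mem_normalizer_res
    intro a ha
    exact conj_mem_of_comm_mem hYpp (hYpB.trans (h.B1X.trans h.A2n)) ha.1 ha.2 (hc.2 a (h.A2B ha.1))
  have hCX : C ≤ X := hCN.trans hNR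
  have hCY : C ≤ Y := by
    rw [hC, Subgroup.closure_le]
    intro c hc; exact hc.1
  have hYC : Y ≤ Subgroup.normalizer (C : Set G) := by
    apply le_normalizer_of_conj_mem
    intro y hy c hc
    rw [hC] at hc
    induction hc using Subgroup.closure_induction with
    | mem x hx =>
      apply Subgroup.subset_closure
      refine ⟨Y.mul_mem (Y.mul_mem hy hx.1) (Y.inv_mem hy), ?_⟩
      intro b hb
      have hb' : y⁻¹ * b * y ∈ B₁ := conj_inv_mem_of_mem_normalizer (h.B1n hy) hb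
      have h1 := hx.2 _ hb'
      have h2 := conj_mem_of_mem_normalizer (le_normalizer_pCoreIn p Y hy) h1
      have e : y * x * y⁻¹ * b * (y * x * y⁻¹)⁻¹ * b⁻¹ =
          y * (x * (y⁻¹ * b * y) * x⁻¹ * (y⁻¹ * b * y)⁻¹) * y⁻¹ := by group
      rw [e]; exact h2
    | one => simp
    | mul a b _ _ ha hb =>
      have e : y * (a * b) * y⁻¹ = (y * a * y⁻¹) * (y * b * y⁻¹) := by group
      rw [e]; exact Subgroup.mul_mem _ ha hb
    | inv a _ ha =>
      have e : y * a⁻¹ * y⁻¹ = (y * a * y⁻¹)⁻¹ := by group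
      rw [e]; exact Subgroup.inv_mem _ ha
  -- `O_p(X) ∩ Y ≤ C`
  have hVC : (pCoreIn p X ⊓ Y : Subgroup G) ≤ C := by
    intro u hu
    rw [Subgroup.mem_inf] at hu
    apply Subgroup.subset_closure
    refine ⟨hu.2, ?_⟩
    intro b hb
    have h1 : u * b * u⁻¹ * b⁻¹ ∈ (pCoreIn p X ⊓ B₁ : Subgroup G) := by
      rw [Subgroup.mem_inf]
      constructor
      · have h2 : b * u⁻¹ * b⁻¹ ∈ pCoreIn p X :=
          conj_mem_of_mem_normalizer (le_normalizer_pCoreIn p X (h.B1X hb)) (Subgroup.inv_mem _ hu.1)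
        have e : u * b * u⁻¹ * b⁻¹ = u * (b * u⁻¹ * b⁻¹) := by group
        rw [e]; exact Subgroup.mul_mem _ hu.1 h2
      · have h2 : u * b * u⁻¹ ∈ B₁ := conj_mem_of_mem_normalizer (h.B1n hu.2) hb
        exact Subgroup.mul_mem _ h2 (Subgroup.inv_mem _ hb)
    have h3 : (pCoreIn p X ⊓ B₁ : Subgroup G) ≤ pCoreIn p B₁ := by
      apply le_pCoreIn inf_le_right (hXpp.to_le inf_le_left)
      refine le_trans ?_ (normalizer_inf_le _ _)
      exact le_inf (h.B1X.trans (le_normalizer_pCoreIn p X)) Subgroup.le_normalizer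
    have h4 : pCoreIn p B₁ ≤ pCoreIn p Y := pCoreIn_le_pCoreIn p h.B1Y h.B1n
    exact h4 (h3 h1)
  -- `O_p(X) ∩ Y ≤ O_p(Y)`
  have hVY : (pCoreIn p X ⊓ Y : Subgroup G) ≤ pCoreIn p Y := by
    have h1 : (pCoreIn p X ⊓ Y : Subgroup G) ≤ pCoreIn p C := by
      apply le_pCoreIn hVC (hXpp.to_le inf_le_left)
      refine le_trans ?_ (normalizer_inf_le _ _)
      exact le_inf (hCX.trans (le_normalizer_pCoreIn p X)) (hCY.trans Subgroup.le_normalizer)
    exact h1.trans (pCoreIn_le_pCoreIn p hCY hYC)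
  -- Step 5 : normalizer growth
  have hYpNX : pCoreIn p Y ≤ Subgroup.normalizer (pCoreIn p X : Set G) :=
    hYpX.trans (le_normalizer_pCoreIn p X)
  have hNYp : Subgroup.normalizer (pCoreIn p Y : Set G) ≤ Y :=
    h.nY _ hYp (pCoreIn_le p Y) (le_normalizer_pCoreIn p Y)
  have hle : pCoreIn p X ≤ pCoreIn p Y := by
    by_contra hnot
    set P : Subgroup G := pCoreIn p Y ⊔ pCoreIn p X with hP
    have hPp : IsPGroup p P := IsPGroup.to_sup_of_normal_right' hYpp hXpp hYpNX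
    haveI : Group.IsNilpotent ↥P := hPp.isNilpotent
    have hH : (pCoreIn p Y).subgroupOf P < ⊤ := by
      rw [lt_top_iff_ne_top, Ne, Subgroup.subgroupOf_eq_top]
      intro hPY
      exact hnot (le_sup_right.trans hPY)
    have hgrow := Group.normalizerCondition_of_isNilpotent (G := ↥P) _ hH
    obtain ⟨u, hu1, hu2⟩ := SetLike.exists_of_lt hgrow
    have huN : (u : G) ∈ Subgroup.normalizer (pCoreIn p Y : Set G) := by
      apply Subgroup.mem_normalizer_fintype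
      intro z hz
      have hzP : z ∈ P := le_sup_left (a := pCoreIn p Y) hz
      have h1 : (⟨z, hzP⟩ : ↥P) ∈ (pCoreIn p Y).subgroupOf P := by
        rw [Subgroup.mem_subgroupOf]; exact hz
      have h2 := conj_mem_of_mem_normalizer hu1 h1
      rw [Subgroup.mem_subgroupOf] at h2
      simpa using h2
    obtain ⟨y, hy, x, hx, e⟩ := mem_sup_of_le_normalizer hYpNX u.2
    have hxN : x ∈ Subgroup.normalizer (pCoreIn p Y : Set G) := by
      have e' : x = y⁻¹ * (u : G) := by rw [e]; group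
      rw [e']
      exact Subgroup.mul_mem _ (Subgroup.inv_mem _ (Subgroup.le_normalizer hy)) huN
    have hxY : x ∈ pCoreIn p Y := hVY (Subgroup.mem_inf.mpr ⟨hx, hNYp hxN⟩)
    apply hu2
    rw [Subgroup.mem_subgroupOf, e]
    exact Subgroup.mul_mem _ hy hxY
  have heq : pCoreIn p X = pCoreIn p Y :=
    Subgroup.eq_of_le_of_card_ge hle (h.card p).ge
  apply h.nXY
  have h1 : X ≤ Subgroup.normalizer (pCoreIn p Y : Set G) := by
    rw [← heq]; exact le_normalizer_pCoreIn p X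
  exact h1.trans hNYp

/-- If `O_p(X) ≠ 1` then both second cores are `p`-groups. -/
theorem isPGroup_cores [Finite G] (h : Cfg X Y A₁ B₁ A₂ B₂) {p : ℕ} [hp : Fact p.Prime]
    (hXp : pCoreIn p X ≠ ⊥) : IsPGroup p A₂ ∧ IsPGroup p B₂ :=
  ⟨isPGroup_of_res_eq_bot (h.res_A2_eq_bot ((h.pCoreIn_ne_bot_iff p).mp hXp)),
    isPGroup_of_res_eq_bot (h.symm.res_A2_eq_bot hXp)⟩

end Cfg

end Cfsg.Agent.Lib.Helper3.TW
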