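import Mathlib
import Cfsg.Agent.Lib.Helper3.TW2

/-!
# Thompson–Wielandt for second cores: centralizers of the `p`-cores
-/

set_option autoImplicit false

namespace Cfsg.Agent.Lib.Helper3.TW

open Cfsg Cfsg.Agent.Lib.Helper7

variable {G : Type*} [Group G]

theorem normalizer_le_normalizer_centralizer [Finite G] (U : Subgroup G) :
    Subgroup.normalizer (U : Set G) ≤
      Subgroup.normalizer ((Subgroup.centralizer (U : Set G) : Subgroup G) : Set G) := by
  apply le_normalizer_of_conj_mem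
  intro y hy c hc
  rw [Subgroup.mem_centralizer_iff] at hc ⊢
  intro u hu
  have h1 : y⁻¹ * u * y ∈ U := conj_inv_mem_of_mem_normalizer hy hu
  have h2 := hc _ h1
  have e1 : u * (y * c * y⁻¹) = y * ((y⁻¹ * u * y) * c) * y⁻¹ := by group
  have e2 : y * c * y⁻¹ * u = y * (c * (y⁻¹ * u * y)) * y⁻¹ := by group
  rw [e1, e2, h2]

namespace Cfg

variable {X Y A₁ B₁ A₂ B₂ : Subgroup G}

theorem A2_le_pCoreIn_Y [Finite G] (h : Cfg X Y A₁ B₁ A₂ B₂) {p : ℕ} (hA2 : IsPGroup p A₂) :
    A₂ ≤ pCoreIn p Y :=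
  (le_pCoreIn h.A2B hA2 (h.B1X.trans h.A2n)).trans (pCoreIn_le_pCoreIn p h.B1Y h.B1n)

theorem normalizer_A2_le (h : Cfg X Y A₁ B₁ A₂ B₂) : Subgroup.normalizer (A₂ : Set G) ≤ X :=
  h.nX A₂ h.A2ne (h.A2A.trans h.A1X) h.A2n

/-- Lemma (M): a normal subgroup `C` of `X` inside `Y` all of whose normal `p`-subgroups are
central is a `p`-group (given that `A₂` is a `p`-group). -/
theorem isPGroup_of_central [Finite G] (h : Cfg X Y A₁ B₁ A₂ B₂) {p : ℕ} [hp : Fact p.Prime]
    (hA2 : IsPGroup p A₂) {C : Subgroup G} (hCX : C ≤ X) (hCY : C ≤ Y)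
    (hXC : X ≤ Subgroup.normalizer (C : Set G))
    (hZ : ∀ V : Subgroup G, V ≤ C → IsPGroup p V → C ≤ Subgroup.normalizer (V : Set G) →
      V ≤ Subgroup.centralizer (C : Set G)) : IsPGroup p C := by
  have hCA : C ≤ A₁ := h.A1m C hCX hCY hXC
  set U : Subgroup G := pCoreIn p Y ⊓ B₁ with hU
  have hUp : IsPGroup p U := (pCoreIn_isPGroup p Y).to_le inf_le_left
  have hA2U : A₂ ≤ U := le_inf (h.A2_le_pCoreIn_Y hA2) h.A2B
  have hYU : Y ≤ Subgroup.normalizer (U : Set G) :=
    le_trans (le_inf (le_normalizer_pCoreIn p Y) h.B1n) (normalizer_inf_le _ _)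
  have hUX : U ≤ X := inf_le_right.trans h.B1X
  set ZU : Subgroup G := Subgroup.centralizer (U : Set G) ⊓ Y with hZU
  have hZUB : ZU ≤ B₁ := by
    apply h.B1m ZU inf_le_right
    · refine inf_le_left.trans ?_
      refine le_trans (Subgroup.centralizer_le (show (A₂ : Set G) ⊆ U from hA2U)) ?_
      exact (Subgroup.centralizer_le_normalizer _).trans h.normalizer_A2_le
    · refine le_trans (le_inf ?_ Subgroup.le_normalizer) (normalizer_inf_le _ _)
      exact hYU.trans (normalizer_le_normalizer_centralizer U)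
  -- every `p'`-element of `C` centralizes `U`
  have hcent : ∀ c ∈ pp p C, c ∈ ZU := by
    intro c hc
    rw [hZU, Subgroup.mem_inf]
    refine ⟨?_, hCY hc.1⟩
    rw [Subgroup.mem_centralizer_iff]
    intro u hu
    set z : G := u * c * u⁻¹ * c⁻¹ with hz
    have hzC : z ∈ C := by
      have h1 : u * c * u⁻¹ ∈ C := conj_mem_of_mem_normalizer (hXC (hUX hu)) hc.1
      exact C.mul_mem h1 (C.inv_mem hc.1)
    have hzU : z ∈ U := by
      have h1 : c * u⁻¹ * c⁻¹ ∈ U := conj_mem_of_mem_normalizer (hYU (hCY hc.1)) (U.inv_mem hu)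
      have e : z = u * (c * u⁻¹ * c⁻¹) := by rw [hz]; group
      rw [e]; exact U.mul_mem hu h1
    have hV : (C ⊓ U : Subgroup G) ≤ Subgroup.centralizer (C : Set G) := by
      apply hZ _ inf_le_left (hUp.to_le inf_le_right)
      refine le_trans (le_inf Subgroup.le_normalizer (hCY.trans hYU)) (normalizer_inf_le _ _)
    have hcomm : c * z = z * c :=
      (Subgroup.mem_centralizer_iff.mp (hV (Subgroup.mem_inf.mpr ⟨hzC, hzU⟩))) c hc.1
    -- orders
    have hzc : z * c = u * c * u⁻¹ := by rw [hz]; group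
    have hord : orderOf (z * c) = orderOf c := by rw [hzc, orderOf_conj_eq]
    obtain ⟨k, hk⟩ := hUp ⟨z, hzU⟩
    have hk' : z ^ (p ^ k) = 1 := by
      have := congrArg Subtype.val hk
      simpa using this
    have hzdvd : orderOf z ∣ p ^ k := orderOf_dvd_of_pow_eq_one hk'
    have hcop : (orderOf z).Coprime (orderOf c) :=
      Nat.Coprime.coprime_dvd_left hzdvd (Nat.Coprime.pow_left k hc.2.symm)
    have hmul := Commute.orderOf_mul_eq_mul_orderOf_of_coprime (show Commute z c from hcomm.symm) hcop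
    rw [hord] at hmul
    have hcpos : 0 < orderOf c := orderOf_pos c
    have hz1 : orderOf z = 1 := by
      have : orderOf z * orderOf c = 1 * orderOf c := by rw [one_mul]; exact hmul.symm
      exact Nat.eq_of_mul_eq_mul_right hcpos this
    have hz1' : z = 1 := orderOf_eq_one_iff.mp hz1
    have e : u * c = z * (c * u) := by rw [hz]; group
    rw [e, hz1', one_mul]
  have hresA2 : res p C ≤ A₂ := by
    apply h.A2m
    · exact (res_le p C).trans hCA
    · unfold res
      rw [Subgroup.closure_le]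
      intro c hc
      exact hZUB (hcent c hc)
    · exact le_normalizer_res p hXC
  apply isPGroup_of_res_eq_bot
  rw [eq_bot_iff]
  unfold res
  rw [Subgroup.closure_le]
  intro c hc
  have h1 : c ∈ A₂ := hresA2 (mem_res hc.1 hc.2)
  have h2 : c = 1 := eq_one_of_isPGroup_of_coprime hA2 h1 hc.2
  rw [h2]; exact Subgroup.one_mem _

/-- `C_X(O_p(X)) ≤ O_p(X)` -/
theorem centralizer_pCoreIn_X_le [Finite G] (h : Cfg X Y A₁ B₁ A₂ B₂) {p : ℕ} [hp : Fact p.Prime]
    (hA2 : IsPGroup p A₂) (hB2 : IsPGroup p B₂) :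
    Subgroup.centralizer (pCoreIn p X : Set G) ⊓ X ≤ pCoreIn p X := by
  set C : Subgroup G := Subgroup.centralizer (pCoreIn p X : Set G) ⊓ X with hC
  have hB2X : B₂ ≤ pCoreIn p X :=
    (le_pCoreIn h.B2A hB2 (h.A1Y.trans h.B2n)).trans (pCoreIn_le_pCoreIn p h.A1X h.A1n)
  have hCX : C ≤ X := inf_le_right
  have hCY : C ≤ Y := by
    refine inf_le_left.trans ?_
    refine le_trans (Subgroup.centralizer_le (show (B₂ : Set G) ⊆ pCoreIn p X from hB2X)) ?_
    exact (Subgroup.centralizer_le_normalizer _).trans (h.symm.normalizer_A2_le)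
  have hXC : X ≤ Subgroup.normalizer (C : Set G) := by
    refine le_trans (le_inf ?_ Subgroup.le_normalizer) (normalizer_inf_le _ _)
    exact (le_normalizer_pCoreIn p X).trans (normalizer_le_normalizer_centralizer _)
  have hCp : IsPGroup p C := by
    apply h.isPGroup_of_central hA2 hCX hCY hXC
    intro V hVC hVp hCV
    have hVX : V ≤ pCoreIn p X := (le_pCoreIn hVC hVp hCV).trans (pCoreIn_le_pCoreIn p hCX hXC)
    intro v hv
    rw [Subgroup.mem_centralizer_iff]
    intro c hc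
    have hc' : c ∈ Subgroup.centralizer (pCoreIn p X : Set G) := (Subgroup.mem_inf.mp hc).1
    exact ((Subgroup.mem_centralizer_iff.mp hc') v (hVX hv)).symm
  exact le_pCoreIn hCX hCp hXC

/-- `C_{A₁}(O_p(A₁)) ≤ O_p(A₁)` -/
theorem centralizer_pCoreIn_A1_le [Finite G] (h : Cfg X Y A₁ B₁ A₂ B₂) {p : ℕ} [hp : Fact p.Prime]
    (hA2 : IsPGroup p A₂) :
    Subgroup.centralizer (pCoreIn p A₁ : Set G) ⊓ A₁ ≤ pCoreIn p A₁ := by
  set C : Subgroup G := Subgroup.centralizer (pCoreIn p A₁ : Set G) ⊓ A₁ with hC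
  have hCA : C ≤ A₁ := inf_le_right
  have hXC : X ≤ Subgroup.normalizer (C : Set G) := by
    refine le_trans (le_inf ?_ h.A1n) (normalizer_inf_le _ _)
    exact (le_normalizer_pCoreIn_of_le p h.A1n).trans (normalizer_le_normalizer_centralizer _)
  have hAC : A₁ ≤ Subgroup.normalizer (C : Set G) := h.A1X.trans hXC
  have hCp : IsPGroup p C := by
    apply h.isPGroup_of_central hA2 (hCA.trans h.A1X) (hCA.trans h.A1Y) hXC
    intro V hVC hVp hCV
    have hVA : V ≤ pCoreIn p A₁ := (le_pCoreIn hVC hVp hCV).trans (pCoreIn_le_pCoreIn p hCA hAC)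
    intro v hv
    rw [Subgroup.mem_centralizer_iff]
    intro c hc
    have hc' : c ∈ Subgroup.centralizer (pCoreIn p A₁ : Set G) := (Subgroup.mem_inf.mp hc).1
    exact ((Subgroup.mem_centralizer_iff.mp hc') v (hVA hv)).symm
  exact le_pCoreIn hCA hCp hAC

end Cfg

/-- translation to the subtype -/
theorem centralizer_pCore_le_of {p : ℕ} (N : Subgroup G)
    (h : Subgroup.centralizer (pCoreIn p N : Set G) ⊓ N ≤ pCoreIn p N) :
    Subgroup.centralizer (pCore p ↥N : Set ↥N) ≤ pCore p ↥N := by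
  intro y hy
  rw [← mem_pCoreIn_iff y.2]
  apply h
  rw [Subgroup.mem_inf]
  refine ⟨?_, y.2⟩
  rw [Subgroup.mem_centralizer_iff]
  intro z hz
  have hzN : z ∈ N := pCoreIn_le p N hz
  have h1 := (mem_pCoreIn_iff hzN).mp hz
  have h2 := (Subgroup.mem_centralizer_iff.mp hy) ⟨z, hzN⟩ h1
  have := congrArg Subtype.val h2
  simpa using this

end Cfsg.Agent.Lib.Helper3.TW
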