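import Mathlib
import Cfsg.Prelude.Def_EvenType
import Cfsg.Agent.Lib.Helper3.TW3
import Cfsg.Agent.Lib.Helper3.FZ1
import Cfsg.Agent.Lib.Helper2.Components
import Cfsg.Agent.Lib.Helper2.Components2
import Cfsg.Agent.Lib.Helper2.Components3
import Cfsg.Agent.Lib.Helper7.Subnormal

/-!
# Thompson–Wielandt for second cores: no components, existence of the prime
-/

set_option autoImplicit false

open scoped Pointwise

namespace Cfsg.Agent.Lib.Helper3.TW

open Cfsg Cfsg.Agent.Lib.Helper7 Cfsg.Agent.Lib.Helper2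

variable {G : Type*} [Group G]

/-- a component of `H` normalizing `N` lies in `N` or is centralized by `N ∩ H` -/
theorem comp_le_or_commute {L H N : Subgroup G} (hL : IsComponentOf L H)
    (hLN : L ≤ Subgroup.normalizer (N : Set G)) :
    L ≤ N ∨ ∀ n ∈ N, n ∈ H → ∀ l ∈ L, n * l = l * n := by
  have h1 : L.subgroupOf H ≤ Subgroup.normalizer ((N.subgroupOf H : Subgroup ↥H) : Set ↥H) := by
    intro l hl
    rw [Subgroup.mem_subgroupOf] at hl
    have h2 := Subgroup.mem_normalizer_iff.mp (hLN hl)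
    rw [Subgroup.mem_normalizer_iff]
    intro n
    rw [Subgroup.mem_subgroupOf, Subgroup.mem_subgroupOf]
    exact h2 (n : G)
  rcases isComponent_le_or_commutator_eq_bot_of_le_normalizer hL.2 h1 with h3 | h3
  · left
    intro l hl
    have : (⟨l, hL.1 hl⟩ : ↥H) ∈ N.subgroupOf H := h3 (by rw [Subgroup.mem_subgroupOf]; exact hl)
    rwa [Subgroup.mem_subgroupOf] at this
  · right
    intro n hn hnH l hl
    rw [Subgroup.commutator_eq_bot_iff_le_centralizer] at h3
    have h4 : (⟨n, hnH⟩ : ↥H) ∈ N.subgroupOf H := by rw [Subgroup.mem_subgroupOf]; exact hn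
    have h5 := Subgroup.mem_centralizer_iff.mp (h3 h4) ⟨l, hL.1 hl⟩
      (by rw [SetLike.mem_coe, Subgroup.mem_subgroupOf]; exact hl)
    have := congrArg Subtype.val h5
    simpa using this.symm

theorem comp_not_commutative {L H : Subgroup G} (hL : IsComponentOf L H) :
    ¬ ∀ a ∈ L, ∀ b ∈ L, a * b = b * a := by
  intro hc
  apply isComponent_not_commutative hL.2
  rw [Subgroup.commutator_eq_bot_iff_le_centralizer]
  intro a ha
  rw [Subgroup.mem_subgroupOf] at ha
  rw [Subgroup.mem_centralizer_iff]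
  intro b hb
  rw [SetLike.mem_coe, Subgroup.mem_subgroupOf] at hb
  apply Subtype.ext
  simpa using hc _ hb _ ha

theorem comp_ne_bot {L H : Subgroup G} (hL : IsComponentOf L H) : L ≠ ⊥ := by
  rintro rfl
  apply comp_not_commutative hL
  intro a ha b hb
  rw [Subgroup.mem_bot] at ha hb
  rw [ha, hb]

theorem mem_conj_smul {H : Subgroup G} {g x : G} :
    x ∈ MulAut.conj g • H ↔ g⁻¹ * x * g ∈ H := by
  rw [Subgroup.mem_pointwise_smul_iff_inv_smul_mem]
  simp [MulAut.smul_def]

theorem comp_conj {L H : Subgroup G} (hL : IsComponentOf L H) {y : G} (hy : y ∈ H) :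
    IsComponentOf (MulAut.conj y • L) H := by
  have hle : MulAut.conj y • L ≤ H := by
    intro z hz
    rw [mem_conj_smul] at hz
    have h1 : y⁻¹ * z * y ∈ H := hL.1 hz
    have e : z = y * (y⁻¹ * z * y) * y⁻¹ := by group
    rw [e]; exact H.mul_mem (H.mul_mem hy h1) (H.inv_mem hy)
  refine ⟨hle, ?_⟩
  have h1 := isComponent_conj (⟨y, hy⟩ : ↥H) hL.2
  have e : (L.subgroupOf H).map (MulAut.conj (⟨y, hy⟩ : ↥H)).toMonoidHom =
      (MulAut.conj y • L).subgroupOf H := by
    ext z
    rw [Subgroup.mem_map, Subgroup.mem_subgroupOf, mem_conj_smul]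
    constructor
    · rintro ⟨w, hw, rfl⟩
      rw [Subgroup.mem_subgroupOf] at hw
      have e2 : y⁻¹ * (((MulAut.conj (⟨y, hy⟩ : ↥H)).toMonoidHom w : ↥H) : G) * y = (w : G) := by
        simp only [MulEquiv.coe_toMonoidHom, MulAut.conj_apply, Subgroup.coe_mul,
          Subgroup.coe_inv]
        group
      rw [e2]; exact hw
    · intro hz
      refine ⟨⟨y, hy⟩⁻¹ * z * ⟨y, hy⟩, ?_, ?_⟩
      · rw [Subgroup.mem_subgroupOf]
        simpa using hz
      · simp only [MulEquiv.coe_toMonoidHom, MulAut.conj_apply]; group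
  rw [e] at h1
  exact h1

/-- transport of a component along `L ≤ D ⊴ A ⊴ X`, `D ≤ Y` -/
theorem comp_transfer {L Y D A X : Subgroup G} (hL : IsComponentOf L Y)
    (hLD : L ≤ D) (hDY : D ≤ Y) (hDA : D ≤ A) (hAD : A ≤ Subgroup.normalizer (D : Set G))
    (hAX : A ≤ X) (hXA : X ≤ Subgroup.normalizer (A : Set G)) : IsComponentOf L X := by
  have hLX : L ≤ X := hLD.trans (hDA.trans hAX)
  refine ⟨hLX, ?_, ?_⟩
  · have h1 : (L.subgroupOf D).IsSubnormal :=
      Cfsg.Agent.Lib.Helper1.isSubnormal_subgroupOf_of_le hDY hL.2.1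
    have h2 : (L.subgroupOf A).IsSubnormal :=
      Cfsg.Agent.Lib.Helper3.FZ.sn_of_sn_of_normal hLD hDA h1 hAD
    exact Cfsg.Agent.Lib.Helper3.FZ.sn_of_sn_of_normal (hLD.trans hDA) hAX h2 hXA
  · exact isQuasisimple_of_mulEquiv
      ((Subgroup.subgroupOfEquivOfLe hLX).trans (Subgroup.subgroupOfEquivOfLe hL.1).symm) hL.2.2

/-- the join of the components of `H` -/
def layerOf (H : Subgroup G) : Subgroup G := sSup {L | IsComponentOf L H}

theorem layerOf_le (H : Subgroup G) : layerOf H ≤ H := sSup_le (fun _ hL => hL.1)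

theorem le_normalizer_layerOf (H : Subgroup G) :
    H ≤ Subgroup.normalizer (layerOf H : Set G) :=
  Cfsg.Agent.Lib.Helper1.le_normalizer_sSup_of_conj_closed H _
    (fun _ hB _ hv => comp_conj hB hv)

namespace Cfg

variable {X Y A₁ B₁ A₂ B₂ : Subgroup G}

theorem comp_Y_le_X (h : Cfg X Y A₁ B₁ A₂ B₂) {L : Subgroup G} (hL : IsComponentOf L Y) : L ≤ X := by
  rcases comp_le_or_commute hL (hL.1.trans h.B1n) with h1 | h1
  · exact h1.trans h.B1X
  · refine le_trans ?_ h.normalizer_A2_le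
    refine le_trans ?_ (Subgroup.centralizer_le_normalizer _)
    intro l hl
    rw [Subgroup.mem_centralizer_iff]
    intro a ha
    exact h1 a (h.A2B ha) (h.B1Y (h.A2B ha)) l hl

theorem comp_Y_le_B1 (h : Cfg X Y A₁ B₁ A₂ B₂) {L : Subgroup G} (hL : IsComponentOf L Y) :
    L ≤ B₁ := by
  have h1 : layerOf Y ≤ B₁ := by
    apply h.B1m _ (layerOf_le Y) _ (le_normalizer_layerOf Y)
    exact sSup_le (fun K hK => h.comp_Y_le_X hK)
  exact (le_sSup (show L ∈ {K : Subgroup G | IsComponentOf K Y} from hL)).trans h1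

theorem centralizer_A1_le [Finite G] (h : Cfg X Y A₁ B₁ A₂ B₂) :
    Subgroup.centralizer (A₁ : Set G) ⊓ X ≤ A₁ := by
  apply h.A1m _ inf_le_right
  · refine inf_le_left.trans ?_
    refine le_trans (Subgroup.centralizer_le (show (B₂ : Set G) ⊆ A₁ from h.B2A)) ?_
    exact (Subgroup.centralizer_le_normalizer _).trans h.symm.normalizer_A2_le
  · refine le_trans (le_inf ?_ Subgroup.le_normalizer) (normalizer_inf_le _ _)
    exact h.A1n.trans (normalizer_le_normalizer_centralizer _)

theorem comp_Y_le_A1 [Finite G] (h : Cfg X Y A₁ B₁ A₂ B₂) {L : Subgroup G}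
    (hL : IsComponentOf L Y) : L ≤ A₁ := by
  have hLX : L ≤ X := h.comp_Y_le_X hL
  rcases comp_le_or_commute hL (hLX.trans h.A1n) with h1 | h1
  · exact h1
  · have h2 : L ≤ A₁ := by
      refine le_trans ?_ h.centralizer_A1_le
      intro l hl
      rw [Subgroup.mem_inf]
      refine ⟨?_, hLX hl⟩
      rw [Subgroup.mem_centralizer_iff]
      intro a ha
      exact h1 a ha (h.A1Y ha) l hl
    exfalso
    apply comp_not_commutative hL
    intro a ha b hb
    exact h1 a (h2 ha) (hL.1 ha) b hb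

theorem comp_Y_comp_X [Finite G] (h : Cfg X Y A₁ B₁ A₂ B₂) {L : Subgroup G}
    (hL : IsComponentOf L Y) : IsComponentOf L X := by
  apply comp_transfer hL (D := A₁ ⊓ B₁) (A := A₁) (le_inf (h.comp_Y_le_A1 hL) (h.comp_Y_le_B1 hL))
    (inf_le_right.trans h.B1Y) inf_le_left _ h.A1X h.A1n
  exact le_trans (le_inf Subgroup.le_normalizer (h.A1Y.trans h.B1n)) (normalizer_inf_le _ _)

theorem no_component [Finite G] (h : Cfg X Y A₁ B₁ A₂ B₂) (L : Subgroup G) : ¬ IsComponentOf L X := by
  intro hL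
  have heq : {K : Subgroup G | IsComponentOf K X} = {K | IsComponentOf K Y} := by
    ext K
    exact ⟨fun hK => h.symm.comp_Y_comp_X hK, fun hK => h.comp_Y_comp_X hK⟩
  have hE : layerOf X = layerOf Y := by unfold layerOf; rw [heq]
  have hne : layerOf X ≠ ⊥ := by
    intro hbot
    apply comp_ne_bot hL
    rw [eq_bot_iff, ← hbot]
    exact le_sSup (show L ∈ {K : Subgroup G | IsComponentOf K X} from hL)
  have h1 := h.nX _ hne (layerOf_le X) (le_normalizer_layerOf X)
  apply h.nYX
  refine le_trans ?_ h1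
  rw [hE]
  exact le_normalizer_layerOf Y

end Cfg

/-- a nontrivial finite group without components has a nontrivial `p`-core for some prime `p` -/
theorem exists_pCoreIn_ne_bot [Finite G] {X : Subgroup G} (hX : X ≠ ⊥)
    (hno : ∀ L : Subgroup G, ¬ IsComponentOf L X) :
    ∃ p : ℕ, p.Prime ∧ pCoreIn p X ≠ ⊥ := by
  have htop : (⊤ : Subgroup ↥X) ≠ ⊥ := by
    intro h
    apply hX
    rw [eq_bot_iff]
    intro x hx
    have : (⟨x, hx⟩ : ↥X) ∈ (⊤ : Subgroup ↥X) := Subgroup.mem_top _
    rw [h, Subgroup.mem_bot] at this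
    rw [Subgroup.mem_bot]
    exact congrArg Subtype.val this
  obtain ⟨T, -, hTsn, hTs⟩ := exists_simple_subnormal_le (⊤ : Subgroup ↥X) Subgroup.IsSubnormal.top htop
  by_cases hc : ∀ a b : ↥T, a * b = b * a
  · letI : CommGroup ↥T := { (inferInstance : Group ↥T) with mul_comm := hc }
    have hprime : (Nat.card ↥T).Prime := IsSimpleGroup.prime_card
    haveI : Fact (Nat.card ↥T).Prime := ⟨hprime⟩
    refine ⟨Nat.card ↥T, hprime, ?_⟩
    have hTp : IsPGroup (Nat.card ↥T) ↥T := IsPGroup.of_card (n := 1) (by simp)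
    have hle : T ≤ pCore (Nat.card ↥T) ↥X := subnormal_pGroup_le_pCore hTsn hTp
    have hTne : T ≠ ⊥ := by
      intro hT
      have h1 : Nat.card ↥T = 1 := by rw [hT]; exact Subgroup.card_bot
      rw [h1] at hprime
      exact Nat.not_prime_one hprime
    intro hbot
    apply hTne
    rw [eq_bot_iff]
    intro t ht
    have h2 : (t : G) ∈ pCoreIn (Nat.card ↥T) X := (mem_pCoreIn_iff t.2).mpr (hle ht)
    rw [hbot, Subgroup.mem_bot] at h2
    rw [Subgroup.mem_bot]
    exact Subtype.ext h2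
  · exfalso
    haveI := hTs
    have hq : IsQuasisimple ↥T := isQuasisimple_of_simple hc
    apply hno (T.map X.subtype)
    refine ⟨Subgroup.map_subtype_le T, ?_⟩
    have e : (T.map X.subtype).subgroupOf X = T := by
      ext z
      rw [Subgroup.mem_subgroupOf, Subgroup.mem_map]
      constructor
      · rintro ⟨w, hw, hwz⟩
        have : w = z := Subtype.ext hwz
        rw [← this]; exact hw
      · intro hz
        exact ⟨z, hz, rfl⟩
    rw [e]
    exact ⟨hTsn, hq⟩

end Cfsg.Agent.Lib.Helper3.TW
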