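import Mathlib
import Cfsg.Agent.Lib.Helper3.TW4
import Cfsg.Agent.Lib.Helper8.CharP

/-!
# Thompson–Wielandt for second cores: assembly
-/

set_option autoImplicit false

namespace Cfsg.Agent.Lib.Helper3.TW

open Cfsg Cfsg.Agent.Lib.Helper7

variable {G : Type*} [Group G]

/-- the core in `H` of `K ∩ H`, as a subgroup of the ambient group -/
def cr (H K : Subgroup G) : Subgroup G := ((K.subgroupOf H).normalCore).map H.subtype

theorem cr_le_left (H K : Subgroup G) : cr H K ≤ H := Subgroup.map_subtype_le _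

theorem cr_le_right (H K : Subgroup G) : cr H K ≤ K := by
  rintro _ ⟨z, hz, rfl⟩
  have := Subgroup.normalCore_le _ hz
  rwa [Subgroup.mem_subgroupOf] at this

theorem le_normalizer_cr [Finite G] (H K : Subgroup G) :
    H ≤ Subgroup.normalizer (cr H K : Set G) := by
  apply le_normalizer_of_conj_mem
  rintro y hy _ ⟨z, hz, rfl⟩
  haveI : ((K.subgroupOf H).normalCore).Normal := Subgroup.normalCore_normal _
  refine ⟨⟨y, hy⟩ * z * ⟨y, hy⟩⁻¹, ?_, ?_⟩
  · exact Subgroup.Normal.conj_mem inferInstance z hz ⟨y, hy⟩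
  · simp

theorem le_cr {H K N : Subgroup G} (hNH : N ≤ H) (hNK : N ≤ K)
    (hn : H ≤ Subgroup.normalizer (N : Set G)) : N ≤ cr H K := by
  haveI : (N.subgroupOf H).Normal := (Subgroup.normal_subgroupOf_iff_le_normalizer hNH).mpr hn
  have h1 : N.subgroupOf H ≤ (K.subgroupOf H).normalCore := by
    rw [Subgroup.normal_le_normalCore]
    intro z hz
    rw [Subgroup.mem_subgroupOf] at hz ⊢
    exact hNK hz
  intro n hnN
  exact ⟨⟨n, hNH hnN⟩, h1 (by rw [Subgroup.mem_subgroupOf]; exact hnN), rfl⟩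

/-- normalizers of nontrivial normal subgroups of a core-free maximal subgroup -/
theorem normalizer_le_of_isCoatom {M : Subgroup G} (hmax : IsCoatom M) (hcore : M.normalCore = ⊥)
    (K : Subgroup G) (hK : K ≠ ⊥) (hKM : K ≤ M) (hMK : M ≤ Subgroup.normalizer (K : Set G)) :
    Subgroup.normalizer (K : Set G) ≤ M := by
  rcases hmax.le_iff.mp hMK with h | h
  · exfalso
    apply hK
    haveI : K.Normal := Subgroup.normalizer_eq_top_iff.mp h
    have h1 : K ≤ M.normalCore := Subgroup.normal_le_normalCore.mpr hKM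
    rw [hcore] at h1
    exact eq_bot_iff.mpr h1
  · exact h.le

theorem isCoatom_map_conj {M : Subgroup G} (hmax : IsCoatom M) (g : G) :
    IsCoatom (M.map (MulAut.conj g).toMonoidHom) :=
  ((MulAut.conj g).mapSubgroup.isCoatom_iff M).mpr hmax

theorem normalCore_map_conj {M : Subgroup G} (hcore : M.normalCore = ⊥) (g : G) :
    (M.map (MulAut.conj g).toMonoidHom).normalCore = ⊥ := by
  set K := (M.map (MulAut.conj g).toMonoidHom).normalCore with hK
  haveI : K.Normal := Subgroup.normalCore_normal _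
  have h1 : K ≤ M := by
    intro a ha
    have h2 : g * a * g⁻¹ ∈ K := Subgroup.Normal.conj_mem inferInstance a ha g
    obtain ⟨m, hm, e⟩ := Subgroup.normalCore_le _ h2
    simp only [MulEquiv.coe_toMonoidHom, MulAut.conj_apply] at e
    have : a = m := by
      have h5 : g⁻¹ * (g * m * g⁻¹) * g = g⁻¹ * (g * a * g⁻¹) * g := by rw [e]
      rw [show g⁻¹ * (g * m * g⁻¹) * g = m by group, show g⁻¹ * (g * a * g⁻¹) * g = a by group] at h5
      exact h5.symm
    rw [this]; exact hm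
  have h3 : K ≤ M.normalCore := Subgroup.normal_le_normalCore.mpr h1
  rw [hcore] at h3
  exact eq_bot_iff.mpr h3

theorem card_pCoreIn_le_map_conj [Finite G] (p : ℕ) (N : Subgroup G) (g : G) :
    Nat.card (pCoreIn p N) ≤ Nat.card (pCoreIn p (N.map (MulAut.conj g).toMonoidHom)) := by
  have h1 : (pCoreIn p N).map (MulAut.conj g).toMonoidHom ≤
      pCoreIn p (N.map (MulAut.conj g).toMonoidHom) := by
    apply le_pCoreIn (Subgroup.map_mono (pCoreIn_le p N)) ((pCoreIn_isPGroup p N).map _)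
    apply le_normalizer_of_conj_mem
    rintro _ ⟨n, hn, rfl⟩ _ ⟨z, hz, rfl⟩
    refine ⟨n * z * n⁻¹, conj_mem_of_mem_normalizer (le_normalizer_pCoreIn p N hn) hz, ?_⟩
    simp only [MulEquiv.coe_toMonoidHom, MulAut.conj_apply]
    group
  calc Nat.card (pCoreIn p N) = Nat.card ((pCoreIn p N).map (MulAut.conj g).toMonoidHom) :=
        (Subgroup.card_map_of_injective (MulAut.conj g).injective).symm
    _ ≤ _ := Subgroup.card_le_of_le h1

theorem map_conj_inv_map_conj (M : Subgroup G) (g : G) :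
    (M.map (MulAut.conj g).toMonoidHom).map (MulAut.conj g⁻¹).toMonoidHom = M := by
  rw [Subgroup.map_map]
  ext x
  rw [Subgroup.mem_map]
  constructor
  · rintro ⟨m, hm, rfl⟩
    simp only [MonoidHom.coe_comp, MulEquiv.coe_toMonoidHom, Function.comp_apply, MulAut.conj_apply]
    rw [show g⁻¹ * (g * m * g⁻¹) * g⁻¹⁻¹ = m by group]
    exact hm
  · intro hx
    refine ⟨x, hx, ?_⟩
    simp only [MonoidHom.coe_comp, MulEquiv.coe_toMonoidHom, Function.comp_apply, MulAut.conj_apply]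
    group

theorem card_map_conj [Finite G] (M : Subgroup G) (g : G) :
    Nat.card (M.map (MulAut.conj g).toMonoidHom) = Nat.card M :=
  Subgroup.card_map_of_injective (MulAut.conj g).injective

/-- the configuration attached to two distinct conjugate core-free maximal subgroups with nontrivial
second cores -/
theorem cfg_of [Finite G] (M₁ M₂ : Subgroup G) (hmax : IsCoatom M₁) (g : G)
    (hconj : M₂ = M₁.map (MulAut.conj g).toMonoidHom) (hne : M₁ ≠ M₂) (hcore : M₁.normalCore = ⊥)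
    (hA2 : cr M₁ (cr M₁ (M₁ ⊓ M₂) ⊓ cr M₂ (M₁ ⊓ M₂)) ≠ ⊥)
    (hB2 : cr M₂ (cr M₁ (M₁ ⊓ M₂) ⊓ cr M₂ (M₁ ⊓ M₂)) ≠ ⊥) :
    Cfg M₁ M₂ (cr M₁ (M₁ ⊓ M₂)) (cr M₂ (M₁ ⊓ M₂))
      (cr M₁ (cr M₁ (M₁ ⊓ M₂) ⊓ cr M₂ (M₁ ⊓ M₂))) (cr M₂ (cr M₁ (M₁ ⊓ M₂) ⊓ cr M₂ (M₁ ⊓ M₂))) := by
  have hmax2 : IsCoatom M₂ := by rw [hconj]; exact isCoatom_map_conj hmax g
  have hcore2 : M₂.normalCore = ⊥ := by rw [hconj]; exact normalCore_map_conj hcore g
  have hcard : Nat.card M₂ = Nat.card M₁ := by rw [hconj]; exact card_map_conj M₁ g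
  have hM1 : M₁ = M₂.map (MulAut.conj g⁻¹).toMonoidHom := by
    rw [hconj, map_conj_inv_map_conj]
  refine
    { nX := normalizer_le_of_isCoatom hmax hcore
      nY := normalizer_le_of_isCoatom hmax2 hcore2
      nXY := fun h => hne (Subgroup.eq_of_le_of_card_ge h hcard.le)
      nYX := fun h => hne (Subgroup.eq_of_le_of_card_ge h hcard.ge).symm
      A1X := cr_le_left _ _
      A1Y := (cr_le_right _ _).trans inf_le_right
      A1n := le_normalizer_cr _ _
      A1m := fun K h1 h2 h3 => le_cr h1 (le_inf h1 h2) h3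
      B1Y := cr_le_left _ _
      B1X := (cr_le_right _ _).trans inf_le_left
      B1n := le_normalizer_cr _ _
      B1m := fun K h1 h2 h3 => le_cr h1 (le_inf h2 h1) h3
      A2A := (cr_le_right _ _).trans inf_le_left
      A2B := (cr_le_right _ _).trans inf_le_right
      A2n := le_normalizer_cr _ _
      A2m := fun K h1 h2 h3 => le_cr (h1.trans (cr_le_left _ _)) (le_inf h1 h2) h3
      B2B := (cr_le_right _ _).trans inf_le_right
      B2A := (cr_le_right _ _).trans inf_le_left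
      B2n := le_normalizer_cr _ _
      B2m := fun K h1 h2 h3 => le_cr (h1.trans (cr_le_left _ _)) (le_inf h2 h1) h3
      A2ne := hA2
      B2ne := hB2
      card := ?_ }
  intro p
  apply le_antisymm
  · have := card_pCoreIn_le_map_conj p M₁ g
    rwa [← hconj] at this
  · have := card_pCoreIn_le_map_conj p M₂ g⁻¹
    rwa [← hM1] at this

/-- Thompson–Wielandt for second cores -/
theorem thompson_wielandt [Finite G] (M₁ M₂ : Subgroup G) (hmax : IsCoatom M₁) (g : G)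
    (hconj : M₂ = M₁.map (MulAut.conj g).toMonoidHom) (hne : M₁ ≠ M₂) (hcore : M₁.normalCore = ⊥)
    (hA2 : cr M₁ (cr M₁ (M₁ ⊓ M₂) ⊓ cr M₂ (M₁ ⊓ M₂)) ≠ ⊥)
    (hB2 : cr M₂ (cr M₁ (M₁ ⊓ M₂) ⊓ cr M₂ (M₁ ⊓ M₂)) ≠ ⊥) :
    ∃ p : ℕ, p.Prime ∧
      IsPGroup p ↥(cr M₁ (cr M₁ (M₁ ⊓ M₂) ⊓ cr M₂ (M₁ ⊓ M₂)) ⊔
        cr M₂ (cr M₁ (M₁ ⊓ M₂) ⊓ cr M₂ (M₁ ⊓ M₂))) ∧
      generalizedFittingSubgroup ↥M₁ = pCore p ↥M₁ ∧
      generalizedFittingSubgroup ↥(cr M₁ (M₁ ⊓ M₂)) = pCore p ↥(cr M₁ (M₁ ⊓ M₂)) ∧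
      generalizedFittingSubgroup ↥M₂ = pCore p ↥M₂ ∧
      generalizedFittingSubgroup ↥(cr M₂ (M₁ ⊓ M₂)) = pCore p ↥(cr M₂ (M₁ ⊓ M₂)) := by
  have h := cfg_of M₁ M₂ hmax g hconj hne hcore hA2 hB2
  have hM1ne : M₁ ≠ ⊥ := by
    intro hbot
    apply hA2
    rw [eq_bot_iff, ← hbot]
    exact cr_le_left _ _
  obtain ⟨p, hp, hXp⟩ := exists_pCoreIn_ne_bot hM1ne h.no_component
  haveI : Fact p.Prime := ⟨hp⟩
  obtain ⟨hA2p, hB2p⟩ := h.isPGroup_cores hXp
  refine ⟨p, hp, ?_, ?_, ?_, ?_, ?_⟩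
  · rw [sup_comm]
    exact IsPGroup.to_sup_of_normal_right' hB2p hA2p (h.B2A.trans (h.A1X.trans h.A2n))
  · exact (Cfsg.Agent.Lib.Helper8.gfs_eq_pCore_iff p).mpr
      (centralizer_pCore_le_of M₁ (h.centralizer_pCoreIn_X_le hA2p hB2p))
  · exact (Cfsg.Agent.Lib.Helper8.gfs_eq_pCore_iff p).mpr
      (centralizer_pCore_le_of _ (h.centralizer_pCoreIn_A1_le hA2p))
  · exact (Cfsg.Agent.Lib.Helper8.gfs_eq_pCore_iff p).mpr
      (centralizer_pCore_le_of M₂ (h.symm.centralizer_pCoreIn_X_le hB2p hA2p))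
  · exact (Cfsg.Agent.Lib.Helper8.gfs_eq_pCore_iff p).mpr
      (centralizer_pCore_le_of _ (h.symm.centralizer_pCoreIn_A1_le hB2p))

end Cfsg.Agent.Lib.Helper3.TW
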