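import Mathlib
import Cfsg.Prelude.Def_Transfer

set_option autoImplicit false
set_option maxHeartbeats 4000000
set_option maxRecDepth 100000
set_option linter.unusedVariables false
set_option linter.unusedSectionVars false
set_option linter.style.longLine false
set_option linter.unnecessarySimpa false
set_option linter.style.haveILetI false

/-! Thompson-type transfer via the sign of a coset action (the subgroup need not be normal). -/

namespace Cfsg.Agent.Lib.Helper3.ThT

universe u

open Equiv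

/-- A permutation of `2^k * m` points (`m` odd, `k ≥ 1`) of order dividing `2^k` whose
`2^(k-1)`-th power has no fixed point is odd. -/
theorem sign_neg_one {Ω : Type*} [Fintype Ω] [DecidableEq Ω] (σ : Equiv.Perm Ω) (k m : ℕ)
    (hk : 1 ≤ k) (hm : Odd m) (hcard : Fintype.card Ω = 2 ^ k * m) (hσ : σ ^ (2 ^ k) = 1)
    (hfix : ∀ x, (σ ^ (2 ^ (k - 1))) x ≠ x) : Equiv.Perm.sign σ = -1 := by
  -- every cycle has length exactly 2^k
  have hall : ∀ n ∈ σ.cycleType, n = 2 ^ k := by
    intro n hn
    have h1 : n ∣ 2 ^ k := (Equiv.Perm.dvd_of_mem_cycleType hn).trans (orderOf_dvd_of_pow_eq_one hσ)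
    obtain ⟨j, hj, rfl⟩ := (Nat.dvd_prime_pow Nat.prime_two).1 h1
    by_contra hne
    have hjk : j ≤ k - 1 := by
      have : j ≠ k := fun h => hne (by rw [h])
      omega
    obtain ⟨c, τ, hcτ, hdis, hcyc, hcard'⟩ := Equiv.Perm.mem_cycleType_iff.1 hn
    obtain ⟨x, hx⟩ := hcyc.nonempty_support
    have hx' : c x ≠ x := Equiv.Perm.mem_support.1 hx
    have hτx : τ x = x := by
      rcases hdis x with h | h
      · exact absurd h hx'
      · exact h
    have hτpow : ∀ N : ℕ, (τ ^ N) x = x := by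
      intro N
      induction N with
      | zero => simp
      | succ N ih => rw [pow_succ, Equiv.Perm.mul_apply, hτx, ih]
    have hcord : c ^ (2 ^ j) = 1 := by
      have : orderOf c = 2 ^ j := by rw [hcyc.orderOf, hcard']
      rw [← this]; exact pow_orderOf_eq_one c
    have hcpow : c ^ (2 ^ (k - 1)) = 1 := by
      have : (2:ℕ) ^ (k - 1) = 2 ^ j * 2 ^ (k - 1 - j) := by
        rw [← pow_add]; congr 1; omega
      rw [this, pow_mul, hcord, one_pow]
    apply hfix x
    rw [hcτ, hdis.commute.mul_pow, Equiv.Perm.mul_apply, hτpow, hcpow]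
    rfl
  -- σ has no fixed points
  have hsupp : σ.support = Finset.univ := by
    apply Finset.eq_univ_of_forall
    intro x
    rw [Equiv.Perm.mem_support]
    intro hx
    apply hfix x
    have : ∀ N : ℕ, (σ ^ N) x = x := by
      intro N
      induction N with
      | zero => simp
      | succ N ih => rw [pow_succ, Equiv.Perm.mul_apply, hx, ih]
    exact this _
  have hsum : σ.cycleType.sum = 2 ^ k * m := by
    rw [Equiv.Perm.sum_cycleType, hsupp, Finset.card_univ, hcard]
  have hrep : σ.cycleType = Multiset.replicate (Multiset.card σ.cycleType) (2 ^ k) :=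
    Multiset.eq_replicate_card.2 hall
  have hcardm : Multiset.card σ.cycleType = m := by
    have h2 : σ.cycleType.sum = Multiset.card σ.cycleType * 2 ^ k := by
      conv_lhs => rw [hrep]
      rw [Multiset.sum_replicate, smul_eq_mul]
    have hpos : 0 < 2 ^ k := by positivity
    have : Multiset.card σ.cycleType * 2 ^ k = m * 2 ^ k := by rw [← h2, hsum, mul_comm]
    exact Nat.eq_of_mul_eq_mul_right hpos this
  rw [Equiv.Perm.sign_of_cycleType, hsum, hcardm, pow_add]
  have he : Even (2 ^ k * m) := by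
    obtain ⟨k', rfl⟩ : ∃ k', k = k' + 1 := ⟨k - 1, by omega⟩
    exact ⟨2 ^ k' * m, by ring⟩
  rw [he.neg_one_pow, hm.neg_one_pow, one_mul]

/-- If `H` has index `2^k * m` (`m` odd, `k ≥ 1`), `r ^ 2^k = 1` and no conjugate of
`r ^ 2^(k-1)` lies in `H`, there is a homomorphism to `ℤˣ` sending `r` to `-1`. -/
theorem exists_sign_hom {G : Type u} [Group G] [Finite G] (H : Subgroup G) (r : G) (k m : ℕ)
    (hk : 1 ≤ k) (hm : Odd m) (hidx : H.index = 2 ^ k * m) (hr : r ^ (2 ^ k) = 1)
    (hfix : ∀ g : G, g⁻¹ * r ^ (2 ^ (k - 1)) * g ∉ H) : ∃ φ : G →* ℤˣ, φ r = -1 := by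
  classical
  haveI : Fintype (G ⧸ H) := Fintype.ofFinite _
  refine ⟨(Equiv.Perm.sign).comp (MulAction.toPermHom G (G ⧸ H)), ?_⟩
  rw [MonoidHom.comp_apply]
  apply sign_neg_one _ k m hk hm
  · rw [← Nat.card_eq_fintype_card, ← Subgroup.index_eq_card, hidx]
  · rw [← map_pow, hr, map_one]
  · intro q
    induction q using QuotientGroup.induction_on with
    | H g =>
      rw [← map_pow]
      intro h
      have h' : ((r ^ (2 ^ (k - 1)) * g : G) : G ⧸ H) = (g : G ⧸ H) := h
      rw [QuotientGroup.eq] at h'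
      apply hfix g
      have := H.inv_mem h'
      simpa [mul_assoc] using this

/-- A homomorphism to `ℤˣ` kills elements of odd order. -/
theorem hom_odd_eq_one {G : Type u} [Group G] (φ : G →* ℤˣ) (g : G)
    (hg : Nat.Coprime (orderOf g) 2) : φ g = 1 := by
  have h1 : (φ g) ^ orderOf g = 1 := by rw [← map_pow, pow_orderOf_eq_one, map_one]
  have h2 : (φ g) ^ 2 = 1 := by
    rcases Int.units_eq_one_or (φ g) with h | h <;> rw [h] <;> simp
  have := (pow_gcd_eq_one (a := φ g) (m := orderOf g) (n := 2)).2 ⟨h1, h2⟩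
  rw [Nat.Coprime] at hg
  rwa [hg, pow_one] at this

theorem pResidual_le_ker {G : Type u} [Group G] (φ : G →* ℤˣ) :
    Cfsg.pResidual 2 G ≤ φ.ker := by
  unfold Cfsg.pResidual
  rw [Subgroup.closure_le]
  intro g hg
  exact hom_odd_eq_one φ g hg

/-- If `N` contains all elements of odd order then `O^2(N) = O^2(G)`. -/
theorem pResidual_map_subtype {G : Type u} [Group G] (N : Subgroup G)
    (hN : ∀ g : G, Nat.Coprime (orderOf g) 2 → g ∈ N) :
    (Cfsg.pResidual 2 ↥N).map N.subtype = Cfsg.pResidual 2 G := by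
  unfold Cfsg.pResidual
  rw [MonoidHom.map_closure]
  congr 1
  ext g
  constructor
  · rintro ⟨x, hx, rfl⟩
    show Nat.Coprime (orderOf (x : G)) 2
    rw [Subgroup.orderOf_coe]; exact hx
  · intro hg
    refine ⟨⟨g, hN g hg⟩, ?_, rfl⟩
    show Nat.Coprime (orderOf (⟨g, hN g hg⟩ : N)) 2
    rw [← Subgroup.orderOf_coe]; exact hg

/-- `O^2` of a subgroup lies in `O^2` of the group. -/
theorem pResidual_map_le {G : Type u} [Group G] (N : Subgroup G) :
    (Cfsg.pResidual 2 ↥N).map N.subtype ≤ Cfsg.pResidual 2 G := by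
  unfold Cfsg.pResidual
  rw [MonoidHom.map_closure]
  apply Subgroup.closure_mono
  rintro g ⟨x, hx, rfl⟩
  show Nat.Coprime (orderOf (x : G)) 2
  rw [Subgroup.orderOf_coe]; exact hx

theorem le_pResidual_of_eq_top {G : Type u} [Group G] (L : Subgroup G)
    (hL : Cfsg.pResidual 2 ↥L = ⊤) : L ≤ Cfsg.pResidual 2 G := by
  have := pResidual_map_le L
  rw [hL] at this
  intro x hx
  exact this ⟨⟨x, hx⟩, Subgroup.mem_top _, rfl⟩

theorem index_ker_eq_two {G : Type u} [Group G] (φ : G →* ℤˣ) (r : G) (hr : φ r = -1) :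
    φ.ker.index = 2 := by
  rw [Subgroup.index_ker]
  have hsurj : Function.Surjective φ := by
    intro u
    rcases Int.units_eq_one_or u with h | h
    · exact ⟨1, by rw [map_one, h]⟩
    · exact ⟨r, by rw [hr, h]⟩
  rw [MonoidHom.range_eq_top.2 hsurj, Subgroup.card_top, Nat.card_eq_fintype_card]
  rfl

/-- Iterated transfer: the main induction. -/
theorem tt_main (k : ℕ) : ∀ (G : Type u) [Group G] [Finite G] (T : Subgroup G) (r : G) (m : ℕ),
    Odd m → T.index = 2 ^ k * m → r ^ (2 ^ k) = 1 →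
    (1 ≤ k → ∀ g : G, g⁻¹ * r ^ (2 ^ (k - 1)) * g ∉ T) → T ≤ Cfsg.pResidual 2 G →
    2 ^ k * Nat.card (Cfsg.pResidual 2 G) ∣ Nat.card G := by
  induction k with
  | zero =>
    intro G _ _ T r m _ _ _ _ _
    rw [pow_zero, one_mul]
    exact Subgroup.card_subgroup_dvd_card _
  | succ k ih =>
    intro G _ _ T r m hm hidx hr hfix hT
    obtain ⟨φ, hφ⟩ := exists_sign_hom T r (k + 1) m (by omega) hm hidx hr (hfix (by omega))
    have hodd : ∀ g : G, Nat.Coprime (orderOf g) 2 → g ∈ φ.ker := fun g hg =>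
      MonoidHom.mem_ker.2 (hom_odd_eq_one φ g hg)
    have hKN : Cfsg.pResidual 2 G ≤ φ.ker := pResidual_le_ker φ
    have hTN : T ≤ φ.ker := hT.trans hKN
    have hr2 : r ^ 2 ∈ φ.ker := by
      rw [MonoidHom.mem_ker, map_pow, hφ]; simp
    have hidx2 : φ.ker.index = 2 := index_ker_eq_two φ r hφ
    have hmap := pResidual_map_subtype φ.ker hodd
    have key := ih ↥φ.ker (T.subgroupOf φ.ker) ⟨r ^ 2, hr2⟩ m hm ?_ ?_ ?_ ?_
    · -- conclude
      have hc1 : Nat.card (Cfsg.pResidual 2 ↥φ.ker) = Nat.card (Cfsg.pResidual 2 G) := by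
        rw [← hmap]
        exact (Subgroup.card_map_of_injective (Subgroup.subtype_injective _)).symm
      have hc2 : Nat.card φ.ker * 2 = Nat.card G := by
        rw [← hidx2]; exact Subgroup.card_mul_index _
      rw [hc1] at key
      obtain ⟨t, ht⟩ := key
      refine ⟨t, ?_⟩
      rw [← hc2, ht, pow_succ]; ring
    · -- index
      show T.relIndex φ.ker = 2 ^ k * m
      have h := Subgroup.relIndex_mul_index hTN
      rw [hidx2, hidx, pow_succ] at h
      have : T.relIndex φ.ker * 2 = (2 ^ k * m) * 2 := by rw [h]; ring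
      exact Nat.eq_of_mul_eq_mul_right (by norm_num) this
    · -- power
      apply Subtype.ext
      rw [Subgroup.coe_pow]
      show (r ^ 2) ^ (2 ^ k) = 1
      rw [← pow_mul, ← pow_succ']; exact hr
    · -- fixed-point-free
      intro hk g hmem
      rw [Subgroup.mem_subgroupOf] at hmem
      apply hfix (by omega) (g : G)
      have e : ((g⁻¹ * (⟨r ^ 2, hr2⟩ : φ.ker) ^ (2 ^ (k - 1)) * g : φ.ker) : G)
          = (g : G)⁻¹ * r ^ (2 ^ (k + 1 - 1)) * (g : G) := by
        rw [Subgroup.coe_mul, Subgroup.coe_mul, Subgroup.coe_inv, Subgroup.coe_pow]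
        show (g : G)⁻¹ * (r ^ 2) ^ (2 ^ (k - 1)) * (g : G) = _
        rw [← pow_mul, ← pow_succ']
        have e2 : k - 1 + 1 = k + 1 - 1 := by omega
        rw [e2]
      rw [← e]; exact hmem
    · -- T' ≤ residual
      intro t ht
      rw [Subgroup.mem_subgroupOf] at ht
      have h1 : (t : G) ∈ Cfsg.pResidual 2 G := hT ht
      rw [← hmap] at h1
      obtain ⟨u, hu, hut⟩ := h1
      have : u = t := Subtype.ext hut
      rw [← this]; exact hu

end Cfsg.Agent.Lib.Helper3.ThT
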