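import Mathlib
import Cfsg.Prelude.Def_Transfer
import Cfsg.Agent.Lib.Helper3.ThT1

set_option autoImplicit false
set_option maxHeartbeats 4000000
set_option maxRecDepth 100000
set_option linter.unusedVariables false
set_option linter.unusedSectionVars false
set_option linter.style.longLine false
set_option linter.unnecessarySimpa false
set_option linter.style.haveILetI false

/-! Auxiliary facts for S1924: the sign homomorphism of a coset action, dihedral groups,
normality of `O^2(G)` and `G / O^2(G)` being a 2-group. -/

namespace Cfsg.Agent.Lib.Helper3.ThT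

universe u

/-- The sign of the permutation action on the cosets of `H`. -/
noncomputable def signHom {G : Type u} [Group G] [Finite G] (H : Subgroup G) : G →* ℤˣ := by
  classical
  haveI : Fintype (G ⧸ H) := Fintype.ofFinite _
  exact (Equiv.Perm.sign).comp (MulAction.toPermHom G (G ⧸ H))

theorem signHom_eq_neg_one {G : Type u} [Group G] [Finite G] (H : Subgroup G) (r : G) (k m : ℕ)
    (hk : 1 ≤ k) (hm : Odd m) (hidx : H.index = 2 ^ k * m) (hr : r ^ (2 ^ k) = 1)
    (hfix : ∀ g : G, g⁻¹ * r ^ (2 ^ (k - 1)) * g ∉ H) : signHom H r = -1 := by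
  classical
  letI : Fintype (G ⧸ H) := Fintype.ofFinite _
  unfold signHom
  rw [MonoidHom.comp_apply]
  apply sign_neg_one _ k m hk hm
  · rw [← Nat.card_eq_fintype_card, ← Subgroup.index_eq_card, hidx]
  · rw [← map_pow, hr, map_one]
  · intro q
    induction q using QuotientGroup.induction_on with
    | H g =>
      rw [← map_pow]
      intro h
      have h' : ((r ^ (2 ^ (k - 1)) * g : G) : G ⧸ H) = (g : G ⧸ H) := h
      rw [QuotientGroup.eq] at h'
      apply hfix g
      have := H.inv_mem h'
      simpa [mul_assoc] using this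

/-- `O^2(G)` is normal. -/
theorem pResidual_normal {G : Type u} [Group G] : (Cfsg.pResidual 2 G).Normal := by
  constructor
  intro x hx g
  unfold Cfsg.pResidual at hx ⊢
  induction hx using Subgroup.closure_induction with
  | mem y hy =>
    apply Subgroup.subset_closure
    show Nat.Coprime (orderOf (g * y * g⁻¹)) 2
    have : orderOf (g * y * g⁻¹) = orderOf y := by
      have := (MulAut.conj g).orderOf_eq y
      simpa [MulAut.conj_apply] using this
    rw [this]; exact hy
  | one => simp
  | mul a b _ _ ha hb =>
    have : g * (a * b) * g⁻¹ = (g * a * g⁻¹) * (g * b * g⁻¹) := by group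
    rw [this]; exact Subgroup.mul_mem _ ha hb
  | inv a _ ha =>
    have : g * a⁻¹ * g⁻¹ = (g * a * g⁻¹)⁻¹ := by group
    rw [this]; exact Subgroup.inv_mem _ ha

/-- `G / O^2(G)` is a 2-group: the index is a power of two. -/
theorem pResidual_index_pow {G : Type u} [Group G] [Finite G] :
    ∃ n : ℕ, (Cfsg.pResidual 2 G).index = 2 ^ n := by
  haveI := pResidual_normal (G := G)
  have hp : IsPGroup 2 (G ⧸ Cfsg.pResidual 2 G) := by
    intro q
    induction q using QuotientGroup.induction_on with
    | H g =>
      have ho : orderOf g ≠ 0 := (orderOf_pos g).ne'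
      obtain ⟨e, t, ht, hot⟩ := Nat.exists_eq_two_pow_mul_odd ho
      refine ⟨e, ?_⟩
      rw [← QuotientGroup.mk_pow, QuotientGroup.eq_one_iff]
      apply Subgroup.subset_closure
      show Nat.Coprime (orderOf (g ^ (2 ^ e))) 2
      have h2 : orderOf (g ^ (2 ^ e)) = t := by
        rw [orderOf_pow_of_dvd (by positivity) (by rw [hot]; exact dvd_mul_right _ _), hot]
        exact Nat.mul_div_cancel_left _ (by positivity)
      rw [h2]
      exact (Nat.coprime_comm.1 (Nat.coprime_two_left.2 ht))
  obtain ⟨n, hn⟩ := IsPGroup.iff_card.1 hp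
  exact ⟨n, by rw [Subgroup.index_eq_card, hn]⟩

/-- In a dihedral group, every element outside a cyclic subgroup of index 2 is an involution
(or trivial). -/
theorem dihedral_outside_sq {n : ℕ} (hn : 2 ≤ n) (C' : Subgroup (DihedralGroup n))
    (hC : IsCyclic C') (hidx : C'.index = 2) (y : DihedralGroup n) (hy : y ∉ C') :
    y * y = 1 := by
  haveI : NeZero n := ⟨by omega⟩
  cases y with
  | sr i => exact DihedralGroup.sr_mul_self i
  | r i =>
    obtain ⟨g, hg⟩ := hC.exists_generator
    have hgen : ∀ x ∈ C', ∃ z : ℤ, (g : DihedralGroup n) ^ z = x := by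
      intro x hx
      obtain ⟨z, hz⟩ := Subgroup.mem_zpowers_iff.1 (hg ⟨x, hx⟩)
      refine ⟨z, ?_⟩
      have := congrArg (Subtype.val) hz
      simpa using this
    cases hgv : (g : DihedralGroup n) with
    | r j =>
      exfalso
      -- all elements of C' are rotations
      have hrotz : ∀ z : ℤ, ∃ l, (DihedralGroup.r j : DihedralGroup n) ^ z = DihedralGroup.r l := by
        intro z
        induction z using Int.induction_on with
        | zero => exact ⟨0, by simp⟩
        | succ a ih =>
          obtain ⟨l, hl⟩ := ih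
          exact ⟨l + j, by rw [zpow_add_one, hl, DihedralGroup.r_mul_r]⟩
        | pred a ih =>
          obtain ⟨l, hl⟩ := ih
          refine ⟨l - j, ?_⟩
          rw [zpow_sub_one, hl, DihedralGroup.inv_r, DihedralGroup.r_mul_r, sub_eq_add_neg]
      have hrot : ∀ x ∈ C', ∃ l, x = DihedralGroup.r l := by
        intro x hx
        obtain ⟨z, hz⟩ := hgen x hx
        rw [hgv] at hz
        obtain ⟨l, hl⟩ := hrotz z
        exact ⟨l, by rw [← hz, hl]⟩
      have hs0 : (DihedralGroup.sr 0 : DihedralGroup n) ∉ C' := by
        intro h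
        obtain ⟨l, hl⟩ := hrot _ h
        cases hl
      have hmem : DihedralGroup.r i * DihedralGroup.sr 0 ∈ C' := by
        rw [Subgroup.mul_mem_iff_of_index_two hidx]
        exact ⟨fun h => absurd h hy, fun h => absurd h hs0⟩
      rw [DihedralGroup.r_mul_sr] at hmem
      obtain ⟨l, hl⟩ := hrot _ hmem
      cases hl
    | sr j =>
      -- g has order ≤ 2, so C' has at most 2 elements, hence n = 2
      have hgg : g * g = 1 := by
        apply Subtype.ext
        rw [Subgroup.coe_mul, hgv, DihedralGroup.sr_mul_self]; rfl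
      have hord : orderOf g ∣ 2 := orderOf_dvd_of_pow_eq_one (by rw [pow_two]; exact hgg)
      have hcard : Nat.card C' = orderOf g := (orderOf_eq_card_of_forall_mem_zpowers hg).symm
      have hle : Nat.card C' ≤ 2 := by rw [hcard]; exact Nat.le_of_dvd (by norm_num) hord
      have htot : Nat.card C' * 2 = 2 * n := by
        have := Subgroup.card_mul_index C'
        rw [hidx, DihedralGroup.nat_card] at this
        exact this
      have hn2 : n = 2 := by omega
      subst hn2
      rw [DihedralGroup.r_mul_r]
      have hall : ∀ i : ZMod 2, i + i = 0 := by decide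
      rw [hall i]; rfl

/-- Transfer of the previous lemma through an isomorphism. -/
theorem dihedral_sub_outside {G : Type u} [Group G] (D C : Subgroup G) (n : ℕ) (hn : 2 ≤ n)
    (e : ↥D ≃* DihedralGroup n) (hCD : C ≤ D) (hC : IsCyclic ↥C) (hCi : C.relIndex D = 2)
    (y : G) (hyD : y ∈ D) (hyC : y ∉ C) : orderOf y = 2 := by
  have hcyc1 : IsCyclic ↥(C.subgroupOf D) :=
    isCyclic_of_surjective (Subgroup.subgroupOfEquivOfLe hCD).symm
      (Subgroup.subgroupOfEquivOfLe hCD).symm.surjective
  have hcyc2 : IsCyclic ↥((C.subgroupOf D).map e.toMonoidHom) :=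
    isCyclic_of_surjective ((C.subgroupOf D).equivMapOfInjective e.toMonoidHom e.injective)
      ((C.subgroupOf D).equivMapOfInjective e.toMonoidHom e.injective).surjective
  have hidx : ((C.subgroupOf D).map e.toMonoidHom).index = 2 := by
    have := Subgroup.index_map_equiv (C.subgroupOf D) e
    rw [show ((e : ↥D →* DihedralGroup n)) = e.toMonoidHom from rfl] at this
    rw [this]; exact hCi
  have hnot : e ⟨y, hyD⟩ ∉ (C.subgroupOf D).map e.toMonoidHom := by
    rintro ⟨x, hx, hxe⟩
    have hxy : x = ⟨y, hyD⟩ := e.injective hxe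
    have hx' : x ∈ C.subgroupOf D := hx
    rw [hxy, Subgroup.mem_subgroupOf] at hx'
    exact hyC hx'
  have hsq := dihedral_outside_sq hn _ hcyc2 hidx _ hnot
  have hyy : y * y = 1 := by
    have h1 : e (⟨y, hyD⟩ * ⟨y, hyD⟩) = e 1 := by rw [map_mul, hsq, map_one]
    have h2 := e.injective h1
    have := congrArg Subtype.val h2
    simpa using this
  have hne : y ≠ 1 := fun h => hyC (h ▸ C.one_mem)
  haveI : Fact (Nat.Prime 2) := ⟨Nat.prime_two⟩
  exact orderOf_eq_prime (by rw [pow_two]; exact hyy) hne

end Cfsg.Agent.Lib.Helper3.ThT
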