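import Mathlib
import Cfsg.Agent.Lib.Helper5.Tw6Ev.Defs
import Cfsg.Agent.Lib.Helper5.Tw2E6U
import Cfsg.Agent.Lib.Helper3.E6EvP

set_option autoImplicit false
set_option maxHeartbeats 4000000

/-!
# Farm 2E6EV (S2182), unit P : the four representatives `yE K k` lie in `²E₆(q)` and have order two
-/

namespace Cfsg.Agent.Lib.Helper3.Tw6Ev

open Cfsg Cfsg.Lie Cfsg.Agent.Lib.Helper5.ChevSym Cfsg.Agent.Lib.Helper5.ChevStruct
  Cfsg.Agent.Lib.Helper5.Tw2E6 Cfsg.Agent.Lib.Helper5.Tw6Ev Cfsg.Agent.Lib.Helper3.E6Ev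

theorem h3_tw_facts : gE6.pr.getD 71 0 = 71 ∧ gE6.pr.getD 66 0 = 68 ∧ gE6.pr.getD 68 0 = 66 ∧
    gE6.pr.getD 54 0 = 64 ∧ gE6.pr.getD 64 0 = 54 ∧ gE6.pr.getD 69 0 = 69 ∧
    chevE6.IsPosRoot 71 ∧ chevE6.IsPosRoot 66 ∧ chevE6.IsPosRoot 68 ∧
    chevE6.IsPosRoot 54 ∧ chevE6.IsPosRoot 64 ∧ chevE6.IsPosRoot 69 := by
  decide +kernel

theorem h3_tw_eps : ∀ r < 72, gE6.eps.getD r 1 = 1 ∨ gE6.eps.getD r 1 = -1 := by
  decide +kernel

theorem h3_tw_comm : commOK chevE6 66 68 = true ∧ commOK chevE6 71 66 = true ∧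
    commOK chevE6 71 68 = true ∧ commOK chevE6 54 64 = true ∧ commOK chevE6 54 69 = true ∧
    commOK chevE6 64 69 = true := by
  decide +kernel

section

variable {K : Type*} [Field K]

/-- `σ(x_r(1)) = x_{ρ r}(1)` in characteristic two -/
theorem h3_sigma_x_one [CharP K 2] (f : K →+* K) (r : ℕ) (hr : r < 72) :
    sigma chevE6 gE6 chkGraphPerm_gE6 f (xGL chevE6 hE6 r (1 : K))
      = xGL chevE6 hE6 (gE6.pr.getD r 0) 1 := by
  rw [sigma_xGL chevE6 hE6 gE6 chkGraphPerm_gE6 (fun r hr => chkGraph_gE6 r hr) f r hr 1, map_one,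
    mul_one]
  congr 1
  rcases h3_tw_eps r hr with h | h <;> rw [h]
  · exact Int.cast_one
  · rw [Int.cast_neg, Int.cast_one, CharTwo.neg_eq]

theorem h3_c_66_68 : Commute (xGL chevE6 hE6 66 (1 : K)) (xGL chevE6 hE6 68 1) :=
  xGL_commute chevE6 hE6 66 68 h3_tw_comm.1 1 1

theorem h3_c_71_66 : Commute (xGL chevE6 hE6 71 (1 : K)) (xGL chevE6 hE6 66 1) :=
  xGL_commute chevE6 hE6 71 66 h3_tw_comm.2.1 1 1

theorem h3_c_71_68 : Commute (xGL chevE6 hE6 71 (1 : K)) (xGL chevE6 hE6 68 1) :=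
  xGL_commute chevE6 hE6 71 68 h3_tw_comm.2.2.1 1 1

theorem h3_c_54_64 : Commute (xGL chevE6 hE6 54 (1 : K)) (xGL chevE6 hE6 64 1) :=
  xGL_commute chevE6 hE6 54 64 h3_tw_comm.2.2.2.1 1 1

theorem h3_c_54_69 : Commute (xGL chevE6 hE6 54 (1 : K)) (xGL chevE6 hE6 69 1) :=
  xGL_commute chevE6 hE6 54 69 h3_tw_comm.2.2.2.2.1 1 1

theorem h3_c_64_69 : Commute (xGL chevE6 hE6 64 (1 : K)) (xGL chevE6 hE6 69 1) :=
  xGL_commute chevE6 hE6 64 69 h3_tw_comm.2.2.2.2.2 1 1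

theorem h3_x66_68_71_ne : chevE6.x K 66 1 * chevE6.x K 68 1 * chevE6.x K 71 1 ≠ 1 := by
  have h := h3_word_ne_one6 (F := K) (fun r => if r = 66 ∨ r = 68 ∨ r = 71 then 1 else 0) 66
    (by rw [h3_posFrom_E6]; decide) (by simp)
  rw [h3_posFrom_E6] at h
  simpa [ChevalleyDatum.wordMat, x_at_zero, mul_assoc] using h

theorem h3_x54_64_69_ne : chevE6.x K 54 1 * chevE6.x K 64 1 * chevE6.x K 69 1 ≠ 1 := by
  have h := h3_word_ne_one6 (F := K) (fun r => if r = 54 ∨ r = 64 ∨ r = 69 then 1 else 0) 54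
    (by rw [h3_posFrom_E6]; decide) (by simp)
  rw [h3_posFrom_E6] at h
  simpa [ChevalleyDatum.wordMat, x_at_zero, mul_assoc] using h

/-- Unit P, orders -/
theorem h3_P_order [CharP K 2] (k : Fin 4) : orderOf (yE K k) = 2 := by
  have key : ∀ y : GL chevE6.Idx K, y * y = 1 → y ≠ 1 → orderOf y = 2 := by
    intro y h1 h2
    exact orderOf_eq_prime (by rw [pow_two]; exact h1) h2
  have s66_68 : (xGL chevE6 hE6 66 (1 : K) * xGL chevE6 hE6 68 1) *
      (xGL chevE6 hE6 66 (1 : K) * xGL chevE6 hE6 68 1) = 1 :=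
    h3_prod_sq6 _ _ (h3_xGL_sq6 66) (h3_xGL_sq6 68) h3_c_66_68
  fin_cases k
  · apply key
    · exact h3_xGL_sq6 71
    · intro h
      apply h3_x71_ne (F := K)
      have := congrArg Units.val h
      simpa [yE] using this
  · apply key
    · exact s66_68
    · intro h
      apply h3_x66_68_ne (F := K)
      have := congrArg Units.val h
      simpa [yE] using this
  · apply key
    · exact h3_prod_sq6 _ _ (h3_xGL_sq6 71) s66_68 (h3_c_71_66.mul_right h3_c_71_68)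
    · intro h
      apply h3_x66_68_71_ne (K := K)
      have h' : xGL chevE6 hE6 66 (1 : K) * xGL chevE6 hE6 68 1 * xGL chevE6 hE6 71 1 = 1 := by
        rw [← (h3_c_71_66.mul_right h3_c_71_68).eq]; exact h
      have := congrArg Units.val h'
      simpa using this
  · apply key
    · exact h3_prod_sq6 _ _ (h3_prod_sq6 _ _ (h3_xGL_sq6 54) (h3_xGL_sq6 64) h3_c_54_64)
        (h3_xGL_sq6 69) (h3_c_54_69.mul_left h3_c_64_69)
    · intro h
      apply h3_x54_64_69_ne (K := K)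
      have := congrArg Units.val h
      simpa [yE] using this

end

section

variable {K : Type*} [Field K] [Fintype K] [CharP K 2] {q : ℕ}
  (f : K →+* K) (hf : ∀ x, f x = x ^ q) (hf2 : ∀ x, f (f x) = x)

include hf hf2 in
/-- Unit P, membership (the stub lacked the hypotheses on the Frobenius map; they are explicit
arguments here, in the order `f hf hf2`) -/
theorem h3_P_mem (k : Fin 4) : yE K k ∈ twistedE6 K q := by
  obtain ⟨p71, p66, p68, p54, p64, p69, q71, q66, q68, q54, q64, q69⟩ := h3_tw_facts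
  have m : ∀ r, chevE6.IsPosRoot r → xGL chevE6 hE6 r (1 : K) ∈ chevE6.posUnipotent K :=
    fun r hr => xGL_mem_pos chevE6 hE6 r hr 1
  have s71 := h3_sigma_x_one (K := K) f 71 (by decide)
  have s66 := h3_sigma_x_one (K := K) f 66 (by decide)
  have s68 := h3_sigma_x_one (K := K) f 68 (by decide)
  have s54 := h3_sigma_x_one (K := K) f 54 (by decide)
  have s64 := h3_sigma_x_one (K := K) f 64 (by decide)
  have s69 := h3_sigma_x_one (K := K) f 69 (by decide)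
  rw [p71] at s71
  rw [p66] at s66
  rw [p68] at s68
  rw [p54] at s54
  rw [p64] at s64
  rw [p69] at s69
  apply pos_fix_le_twisted f hf hf2
  rw [Subgroup.mem_inf, mem_sigmaFix]
  fin_cases k
  · exact ⟨m 71 q71, s71⟩
  · refine ⟨mul_mem (m 66 q66) (m 68 q68), ?_⟩
    show sigma chevE6 gE6 chkGraphPerm_gE6 f (xGL chevE6 hE6 66 1 * xGL chevE6 hE6 68 1) = _
    rw [map_mul, s66, s68]
    exact (h3_c_66_68 (K := K)).eq.symm
  · refine ⟨mul_mem (m 71 q71) (mul_mem (m 66 q66) (m 68 q68)), ?_⟩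
    show sigma chevE6 gE6 chkGraphPerm_gE6 f
      (xGL chevE6 hE6 71 1 * (xGL chevE6 hE6 66 1 * xGL chevE6 hE6 68 1)) = _
    rw [map_mul, map_mul, s71, s66, s68, ← (h3_c_66_68 (K := K)).eq]
    rfl
  · refine ⟨mul_mem (mul_mem (m 54 q54) (m 64 q64)) (m 69 q69), ?_⟩
    show sigma chevE6 gE6 chkGraphPerm_gE6 f
      (xGL chevE6 hE6 54 1 * xGL chevE6 hE6 64 1 * xGL chevE6 hE6 69 1) = _
    rw [map_mul, map_mul, s54, s64, s69, ← (h3_c_54_64 (K := K)).eq]
    rfl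

end

end Cfsg.Agent.Lib.Helper3.Tw6Ev
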