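import Mathlib
import Cfsg.Agent.Lib.Helper3.Irrational
import Cfsg.Agent.S4027

set_option autoImplicit false
open Pointwise

namespace Cfsg.Agent.Lib.Helper3

universe u

/-- If no involution inverts a non-trivial element of odd order, two involutions lie in a common
Sylow 2-subgroup. -/
theorem exists_sylow_of_involutions' {G : Type*} [Group G] [Finite G]
    (hinv : ∀ s d : G, orderOf s = 2 → Odd (orderOf d) → s * d * s⁻¹ = d⁻¹ → d = 1) (s t : G)
    (hs : orderOf s = 2) (ht : orderOf t = 2) :
    ∃ Q : Sylow 2 G, s ∈ (Q : Subgroup G) ∧ t ∈ (Q : Subgroup G) := by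
  haveI : Fact (Nat.Prime 2) := ⟨Nat.prime_two⟩
  have hs2 : s * s = 1 := by rw [← pow_two, ← hs, pow_orderOf_eq_one]
  have ht2 : t * t = 1 := by rw [← pow_two, ← ht, pow_orderOf_eq_one]
  have hsinv : s⁻¹ = s := inv_eq_of_mul_eq_one_left hs2
  have htinv : t⁻¹ = t := inv_eq_of_mul_eq_one_left ht2
  set d := s * t with hd
  have hsd : s * d * s⁻¹ = d⁻¹ := by
    rw [hd, mul_inv_rev, hsinv, htinv, ← mul_assoc, hs2, one_mul]
  have hdpos : orderOf d ≠ 0 := (orderOf_pos d).ne'
  obtain ⟨a, m, hm, ham⟩ := Nat.exists_eq_two_pow_mul_odd hdpos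
  set d' := d ^ 2 ^ a with hd'
  have hod' : orderOf d' = m := by
    rw [hd', orderOf_pow_of_dvd (pow_ne_zero _ two_ne_zero) ⟨m, ham⟩, ham]
    exact Nat.mul_div_cancel_left _ (pow_pos two_pos a)
  have hsd' : s * d' * s⁻¹ = d'⁻¹ := by
    rw [hd', ← conj_pow, hsd, inv_pow]
  have hd'1 : d' = 1 := hinv s d' hs (hod' ▸ hm) hsd'
  have hm1 : m = 1 := by rw [← hod', hd'1, orderOf_one]
  have hod : orderOf d = 2 ^ a := by rw [ham, hm1, mul_one]
  have hp1 : IsPGroup 2 (Subgroup.zpowers s) := by
    apply IsPGroup.of_card (n := 1)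
    rw [Nat.card_zpowers, hs, pow_one]
  have hp2 : IsPGroup 2 (Subgroup.zpowers d) := by
    apply IsPGroup.of_card (n := a)
    rw [Nat.card_zpowers, hod]
  have hle : Subgroup.zpowers s ≤ Subgroup.normalizer ((Subgroup.zpowers d : Subgroup G) : Set G) := by
    rw [Subgroup.zpowers_le, mem_normalizer_zpowers_iff, hsd]
    exact Subgroup.inv_mem _ (Subgroup.mem_zpowers d)
  have hp3 : IsPGroup 2 (Subgroup.zpowers s ⊔ Subgroup.zpowers d : Subgroup G) :=
    hp1.to_sup_of_normal_right' hp2 hle
  obtain ⟨Q, hQ⟩ := hp3.exists_le_sylow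
  have hsQ : s ∈ (Q : Subgroup G) := hQ (Subgroup.mem_sup_left (Subgroup.mem_zpowers s))
  have hdQ : d ∈ (Q : Subgroup G) := hQ (Subgroup.mem_sup_right (Subgroup.mem_zpowers d))
  refine ⟨Q, hsQ, ?_⟩
  have : t = s⁻¹ * d := by rw [hd]; group
  rw [this]
  exact Subgroup.mul_mem _ (Subgroup.inv_mem _ hsQ) hdQ

/-- A class of finite groups closed under subgroups and quotients by normal 2-subgroups, in which
no involution inverts a non-trivial element of odd order, consists of 2-closed groups. -/
theorem two_closed_of_class (Cls : ∀ (G : Type u) [Group G], Prop)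
    (hsub : ∀ (G : Type u) [Group G] [Finite G], Cls G → ∀ M : Subgroup G, Cls ↥M)
    (hquot : ∀ (G : Type u) [Group G] [Finite G], Cls G → ∀ (N : Subgroup G) [N.Normal],
      IsPGroup 2 N → Cls (G ⧸ N))
    (hinv : ∀ (G : Type u) [Group G] [Finite G], Cls G → ∀ s d : G, orderOf s = 2 →
      Odd (orderOf d) → s * d * s⁻¹ = d⁻¹ → d = 1) (n : ℕ) :
    ∀ (G : Type u) [Group G] [Finite G], Nat.card G = n → Cls G →
      ∀ P : Sylow 2 G, (P : Subgroup G).Normal := by
  induction n using Nat.strong_induction_on with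
  | _ n ih =>
  intro G _ _ hcard hirr P
  haveI : Fact (Nat.Prime 2) := ⟨Nat.prime_two⟩
  set O := (P : Subgroup G).normalCore with hOdef
  have hOP : O ≤ (P : Subgroup G) := Subgroup.normalCore_le _
  have hOp : IsPGroup 2 O := P.2.to_le hOP
  by_cases hO : O = ⊥
  · -- every proper subgroup is 2-closed
    have hprop : ∀ M : Subgroup G, M ≠ ⊤ → ∀ R : Sylow 2 ↥M, (R : Subgroup ↥M).Normal := by
      intro M hM R
      have hlt : Nat.card M < n := by
        rw [← hcard]
        exact lt_of_le_of_ne (Subgroup.card_le_card_group M)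
          (fun h => hM (Subgroup.eq_top_of_card_eq M h))
      exact ih (Nat.card M) hlt ↥M rfl (hsub G hirr M) R
    have hO' : ∀ N : Subgroup G, N.Normal → IsPGroup 2 N → N = ⊥ := by
      intro N hN hNp
      obtain ⟨Q, hQ⟩ := hNp.exists_le_sylow
      obtain ⟨c, hc⟩ := MulAction.exists_smul_eq G Q P
      have hNP : N ≤ (P : Subgroup G) := by
        intro x hx
        have h1 : c⁻¹ * x * c ∈ (Q : Subgroup G) := by
          apply hQ
          have := hN.conj_mem x hx c⁻¹
          simpa using this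
        rw [← hc, Sylow.coe_subgroup_smul, Subgroup.mem_pointwise_smul_iff_inv_smul_mem]
        simpa [MulAut.smul_def] using h1
      have : N ≤ O := (Subgroup.normal_le_normalCore (hN := hN)).2 hNP
      rw [hO] at this
      exact le_bot_iff.1 this
    have hTI := Cfsg.Agent.S4027.sylow_TI_of_proper_closed 2 hprop hO'
    by_cases h2 : 2 ∣ Nat.card G
    · obtain ⟨s₀, hs₀⟩ := exists_prime_orderOf_dvd_card' 2 h2
      have hs₀1 : s₀ ≠ 1 := by
        intro h; rw [h, orderOf_one] at hs₀; omega
      have hp0 : IsPGroup 2 (Subgroup.zpowers s₀) := by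
        apply IsPGroup.of_card (n := 1)
        rw [Nat.card_zpowers, hs₀, pow_one]
      obtain ⟨S, hS⟩ := hp0.exists_le_sylow
      have hs₀S : s₀ ∈ (S : Subgroup G) := hS (Subgroup.mem_zpowers s₀)
      have hinvS : ∀ t : G, orderOf t = 2 → t ∈ (S : Subgroup G) := by
        intro t ht
        obtain ⟨Q, hsQ, htQ⟩ := exists_sylow_of_involutions' (hinv G hirr) s₀ t hs₀ ht
        have : Q = S := by
          by_contra hne
          have h1 := hTI Q S hne
          have h2 : s₀ ∈ (Q : Subgroup G) ⊓ (S : Subgroup G) := ⟨hsQ, hs₀S⟩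
          rw [h1, Subgroup.mem_bot] at h2
          exact hs₀1 h2
        rw [← this]; exact htQ
      have hfix : ∀ g : G, g • S = S := by
        intro g
        by_contra hne
        have h1 := hTI (g • S) S hne
        have h3 : orderOf (g * s₀ * g⁻¹) = 2 := by
          have := (MulAut.conj g).orderOf_eq s₀
          rw [MulAut.conj_apply] at this
          rw [this, hs₀]
        have h4 : g * s₀ * g⁻¹ ∈ ((g • S : Sylow 2 G) : Subgroup G) := by
          rw [Sylow.coe_subgroup_smul, Subgroup.mem_pointwise_smul_iff_inv_smul_mem]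
          simpa [MulAut.smul_def, mul_assoc] using hs₀S
        have h5 : g * s₀ * g⁻¹ ∈ ((g • S : Sylow 2 G) : Subgroup G) ⊓ (S : Subgroup G) :=
          ⟨h4, hinvS _ h3⟩
        rw [h1, Subgroup.mem_bot] at h5
        apply hs₀1
        have : s₀ = g⁻¹ * (g * s₀ * g⁻¹) * g := by group
        rw [this, h5]; group
      obtain ⟨c, hc⟩ := MulAction.exists_smul_eq G S P
      rw [hfix c] at hc
      rw [← hc]
      apply Subgroup.normalizer_eq_top_iff.1
      rw [eq_top_iff]
      intro g _
      exact Sylow.smul_eq_iff_mem_normalizer.1 (hfix g)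
    · have hPbot : (P : Subgroup G) = ⊥ := by
        obtain ⟨k, hk⟩ := IsPGroup.iff_card.1 P.2
        have hdvd : Nat.card (P : Subgroup G) ∣ Nat.card G := Subgroup.card_subgroup_dvd_card _
        cases k with
        | zero =>
          rw [pow_zero] at hk
          exact Subgroup.eq_bot_of_card_eq _ hk
        | succ k =>
          exfalso; apply h2
          rw [hk] at hdvd
          exact dvd_trans (dvd_pow_self 2 (Nat.succ_ne_zero k)) hdvd
      rw [hPbot]
      infer_instance
  · -- pass to the quotient by O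
    have hirrQ : Cls (G ⧸ O) := hquot G hirr O hOp
    have hlt : Nat.card (G ⧸ O) < n := by
      rw [← hcard, Subgroup.card_eq_card_quotient_mul_card_subgroup O]
      have h1 : 1 < Nat.card O := by
        rw [Subgroup.one_lt_card_iff_ne_bot]; exact hO
      have h2 : 0 < Nat.card (G ⧸ O) := Nat.card_pos
      nlinarith
    set P' : Sylow 2 (G ⧸ O) := P.mapSurjective (QuotientGroup.mk'_surjective O) with hP'
    have hP'n : (P' : Subgroup (G ⧸ O)).Normal := ih _ hlt (G ⧸ O) rfl hirrQ P'
    have hcomap : (P' : Subgroup (G ⧸ O)).comap (QuotientGroup.mk' O) = (P : Subgroup G) := by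
      rw [hP', Sylow.coe_mapSurjective, Subgroup.comap_map_eq, QuotientGroup.ker_mk']
      exact sup_eq_left.2 hOP
    rw [← hcomap]
    exact hP'n.comap _

end Cfsg.Agent.Lib.Helper3
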