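import Mathlib
import Cfsg.Agent.Lib.Helper3.TwoMod4Base

set_option autoImplicit false
set_option maxHeartbeats 4000000
set_option maxRecDepth 100000
set_option linter.unusedVariables false
set_option linter.unusedSectionVars false
set_option linter.style.longLine false
set_option linter.unusedSimpArgs false
set_option linter.deprecated false
set_option linter.style.haveILetI false

/-! # Doubly transitive groups of degree `2 mod 4` (for S3401): pieces T, S, A2 -/

namespace Cfsg.Agent.Lib.Helper3.TwoMod4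

open MulAction

variable {G : Type*} [Group G] [Finite G] {Ω : Type*} [Fintype Ω] [MulAction G Ω]

/-- (T) a nontrivial subgroup normalized by a doubly transitive group is transitive -/
theorem trans_of_normal [FaithfulSMul G Ω] (H N : Subgroup G) (hH : TwoTrans Ω H)
    (hnorm : ∀ h ∈ H, ∀ x ∈ N, h * x * h⁻¹ ∈ N) (hN : N ≠ ⊥) :
    ∀ c d : Ω, ∃ x ∈ N, x • c = d := by
  intro c d
  by_cases hcd : c = d
  · exact ⟨1, N.one_mem, by rw [one_smul, hcd]⟩
  · obtain ⟨⟨x, hxN⟩, hx1⟩ := (Subgroup.ne_bot_iff_exists_ne_one).mp hN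
    have hx1' : x ≠ 1 := fun h => hx1 (Subtype.ext h)
    -- x moves some point
    have hmv : ∃ w : Ω, x • w ≠ w := by
      by_contra hcon
      push Not at hcon
      apply hx1'
      apply FaithfulSMul.eq_of_smul_eq_smul (α := Ω)
      intro w
      rw [hcon w, one_smul]
    obtain ⟨w, hw⟩ := hmv
    obtain ⟨h, hhH, h1, h2⟩ := hH w (x • w) c d (Ne.symm hw) hcd
    refine ⟨h * x * h⁻¹, hnorm h hhH x hxN, ?_⟩
    rw [mul_smul, mul_smul, ← h1, inv_smul_smul, h2]

/-- (S) a fixed point free involution on `2 mod 4` points is an odd permutation -/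
theorem sign_of_fpf_involution {F : Type*} [Fintype F] [DecidableEq F] (σ : Equiv.Perm F)
    (h2 : σ * σ = 1) (hfpf : ∀ x : F, σ x ≠ x) (hF : Fintype.card F % 4 = 2) :
    Equiv.Perm.sign σ = -1 := by
  have hne : Nonempty F := by
    rw [← Fintype.card_pos_iff]; omega
  obtain ⟨x0⟩ := hne
  have hσ1 : σ ≠ 1 := by
    intro h; apply hfpf x0; rw [h]; rfl
  have hord : orderOf σ = 2 := by
    apply orderOf_eq_prime
    · rw [pow_two]; exact h2
    · exact hσ1
  have hprime : (orderOf σ).Prime := by rw [hord]; exact Nat.prime_two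
  obtain ⟨n, hn⟩ := Equiv.Perm.cycleType_prime_order hprime
  rw [hord] at hn
  have hsupp : σ.support = Finset.univ := by
    ext x
    simp only [Equiv.Perm.mem_support, Finset.mem_univ, iff_true]
    exact hfpf x
  have hsum : σ.cycleType.sum = Fintype.card F := by
    rw [Equiv.Perm.sum_cycleType, hsupp, Finset.card_univ]
  rw [hn, Multiset.sum_replicate, smul_eq_mul] at hsum
  rw [Equiv.Perm.sign_of_cycleType, hn]
  have hodd : Odd (n + 1) := by
    rw [Nat.odd_iff]; omega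
  rw [Multiset.sum_replicate, Multiset.card_replicate, smul_eq_mul]
  have : Odd ((n + 1) * 2 + (n + 1)) := by
    obtain ⟨k, hk⟩ := hodd
    exact ⟨3 * k + 1, by rw [hk]; ring⟩
  exact this.neg_one_pow

/-- normalizing elements preserve the fixed points -/
theorem fix_smul (Q : Subgroup G) (g : G) (hg : g ∈ Subgroup.normalizer (Q : Set G)) (c : Ω)
    (hc : ∀ x ∈ Q, x • c = c) : ∀ x ∈ Q, x • (g • c) = g • c := by
  intro x hx
  have h1 : g⁻¹ * x * g ∈ Q := (Subgroup.mem_normalizer_iff''.mp hg x).mp hx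
  have h2 := hc _ h1
  rw [mul_smul, mul_smul] at h2
  calc x • g • c = g • (g⁻¹ • x • g • c) := by rw [smul_inv_smul]
    _ = g • c := by rw [h2]

/-- the stabilizer of a point in a subgroup, as a subgroup of the ambient group -/
theorem card_stab_sub (Z : Subgroup G) (a : Ω) :
    Nat.card (stabilizer ↥Z a) = Nat.card (Z ⊓ stabilizer G a : Subgroup G) := by
  refine Nat.card_congr ⟨fun z => ⟨z.1.1, ⟨z.1.2, ?_⟩⟩, fun z => ⟨⟨z.1, z.2.1⟩, ?_⟩, ?_, ?_⟩
  · have h := z.2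
    rw [mem_stabilizer_iff] at h
    show (z.1.1 : G) • a = a
    exact h
  · have h : (z.1 : G) • a = a := z.2.2
    show (⟨z.1, z.2.1⟩ : ↥Z) • a = a
    exact h
  · intro z; rfl
  · intro z; rfl

/-- orbit-stabilizer for a subgroup, with the orbit given as a set -/
theorem card_orbit_mul (Z : Subgroup G) (a : Ω) (F : Set Ω)
    (hF : ∀ c : Ω, c ∈ F ↔ ∃ z ∈ Z, z • a = c) :
    F.ncard * Nat.card (Z ⊓ stabilizer G a : Subgroup G) = Nat.card Z := by
  have horb : orbit ↥Z a = F := by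
    ext c
    rw [hF c, mem_orbit_iff]
    constructor
    · rintro ⟨z, hz⟩
      exact ⟨z.1, z.2, hz⟩
    · rintro ⟨z, hzZ, hz⟩
      exact ⟨⟨z, hzZ⟩, hz⟩
  rw [← horb, ← card_stab_sub, ← MulAction.index_stabilizer, mul_comm]
  exact Subgroup.card_mul_index _

theorem mod4_of_exact (q f u v : ℕ) (h : f * v = u) (h1 : 2 ^ q ∣ v) (h2 : ¬ 2 ^ (q + 1) ∣ v)
    (h3 : 2 ^ (q + 1) ∣ u) (h4 : ¬ 2 ^ (q + 2) ∣ u) : f % 4 = 2 := by
  obtain ⟨v', rfl⟩ := h1
  obtain ⟨u', rfl⟩ := h3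
  have hv' : Odd v' := by
    rw [← Nat.not_even_iff_odd]
    rintro ⟨k, hk⟩
    apply h2
    exact ⟨k, by rw [hk, pow_succ]; ring⟩
  have hu' : Odd u' := by
    rw [← Nat.not_even_iff_odd]
    rintro ⟨k, hk⟩
    apply h4
    exact ⟨k, by rw [hk, pow_succ, pow_succ]; ring⟩
  have h5 : f * v' = 2 * u' := by
    have hpos : 0 < 2 ^ q := by positivity
    apply Nat.eq_of_mul_eq_mul_left hpos
    rw [pow_succ] at h
    rw [← mul_assoc, ← mul_assoc, mul_comm (2 ^ q) f, mul_assoc f, h]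
  rcases Nat.even_or_odd f with hf | hf
  · obtain ⟨k, hk⟩ := hf
    have hk2 : k * v' = u' := by
      have : 2 * (k * v') = 2 * u' := by rw [← h5, hk]; ring
      omega
    have hkodd : Odd k := by
      rw [← hk2] at hu'
      exact (Nat.odd_mul.mp hu').1
    obtain ⟨j, hj⟩ := hkodd
    omega
  · have : Odd (f * v') := hf.mul hv'
    rw [h5] at this
    exact absurd this (by rw [Nat.not_odd_iff_even]; exact even_two_mul u')

theorem odd_of_exact (q f u v : ℕ) (h : f * v = u) (h1 : 2 ^ q ∣ v) (h4 : ¬ 2 ^ (q + 1) ∣ u) :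
    Odd f := by
  rw [← Nat.not_even_iff_odd]
  rintro ⟨k, hk⟩
  obtain ⟨v', rfl⟩ := h1
  apply h4
  exact ⟨k * v', by rw [← h, hk, pow_succ]; ring⟩

/-- (A2) the Sylow `2`-subgroup `Q` of the point stabilizer fixes exactly the two points
`a` and `a'`; Witt's lemma is passed as a hypothesis. -/
theorem fix_eq_of_witt (H N : Subgroup G)
    (hNH : N ≤ H) (hnorm : ∀ h ∈ H, ∀ x ∈ N, h * x * h⁻¹ ∈ N) (D : Dat Ω N)
    (hW : ∀ c d c' d' : Ω, (∀ x ∈ D.Q, x • c = c) → (∀ x ∈ D.Q, x • d = d) →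
      (∀ x ∈ D.Q, x • c' = c') → (∀ x ∈ D.Q, x • d' = d') → c ≠ d → c' ≠ d' →
      ∃ g ∈ H, g ∈ Subgroup.normalizer (D.Q : Set G) ∧ g • c = c' ∧ g • d = d') :
    ∀ c : Ω, (∀ x ∈ D.Q, x • c = c) → c = D.a ∨ c = D.a' := by
  classical
  obtain ⟨q, Q, S, s, a, a', hne, hQS, hSN, hQcard, hScard, hSnorm, hQa, hQa', hsS, hsa, hsa', hs2,
    hstab, hstab2, hNq⟩ := D
  simp only at hW ⊢
  have hQN : Q ≤ N := hQS.trans hSN
  have hsN : s ∈ N := hSN hsS
  have hsn : s ∈ Subgroup.normalizer (Q : Set G) := hSnorm hsS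
  have hsQ : s ∉ Q := fun h => hne ((hQa s h).symm.trans hsa)
  -- the subgroups X and Y
  set X : Subgroup G := H ⊓ Subgroup.normalizer (Q : Set G) with hX
  set Y : Subgroup G := N ⊓ Subgroup.normalizer (Q : Set G) with hY
  have hYX : Y ≤ X := inf_le_inf_right _ hNH
  have hQY : Q ≤ Y := le_inf hQN Subgroup.le_normalizer
  have hSY : S ≤ Y := le_inf hSN hSnorm
  have hsY : s ∈ Y := hSY hsS
  -- the fixed point set as an `X`-set
  let F : SubMulAction ↥X Ω :=
    { carrier := {c | ∀ x ∈ Q, x • c = c}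
      smul_mem' := by
        intro g c hc
        exact fix_smul Q g.1 g.2.2 c hc }
  have hFmem : ∀ c : Ω, c ∈ F ↔ ∀ x ∈ Q, x • c = c := fun c => Iff.rfl
  have haF : a ∈ F := hQa
  have ha'F : a' ∈ F := hQa'
  -- Y is transitive on F
  have hYtr : ∀ c : Ω, c ∈ F → ∃ y ∈ Y, y • a = c := by
    intro c hc
    by_cases hca : a = c
    · exact ⟨1, Y.one_mem, by rw [one_smul, hca]⟩
    · obtain ⟨g, hgH, hgn, hg1, hg2⟩ := hW a' a a c hQa' hQa hQa hc (Ne.symm hne) hca
      refine ⟨g * s * g⁻¹, ⟨hnorm g hgH s hsN, ?_⟩, ?_⟩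
      · exact Subgroup.mul_mem _ (Subgroup.mul_mem _ hgn hsn) (Subgroup.inv_mem _ hgn)
      · have : g⁻¹ • a = a' := by rw [← hg1, inv_smul_smul]
        rw [mul_smul, mul_smul, this, hsa', hg2]
  have hYF : ∀ c : Ω, c ∈ F ↔ ∃ y ∈ Y, y • a = c := by
    intro c
    constructor
    · exact hYtr c
    · rintro ⟨y, hy, rfl⟩
      exact fix_smul Q y hy.2 a hQa
  -- cardinality of F
  have hFcard := card_orbit_mul Y a (F : Set Ω) hYF
  have hY1 : 2 ^ (q + 1) ∣ Nat.card Y := by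
    rw [← hScard]; exact Subgroup.card_dvd_of_le hSY
  have hY2 : ¬ 2 ^ (q + 2) ∣ Nat.card Y := fun h =>
    hNq (h.trans (Subgroup.card_dvd_of_le inf_le_left))
  have hYa1 : 2 ^ q ∣ Nat.card (Y ⊓ stabilizer G a : Subgroup G) := by
    rw [← hQcard]
    exact Subgroup.card_dvd_of_le (le_inf hQY (fun x hx => mem_stabilizer_iff.mpr (hQa x hx)))
  have hYa2 : ¬ 2 ^ (q + 1) ∣ Nat.card (Y ⊓ stabilizer G a : Subgroup G) := fun h =>
    hstab a (h.trans (Subgroup.card_dvd_of_le (inf_le_inf_right _ inf_le_left)))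
  have hF4 : (F : Set Ω).ncard % 4 = 2 := mod4_of_exact q _ _ _ hFcard hYa1 hYa2 hY1 hY2
  haveI : Fintype ↥F := Fintype.ofFinite _
  have hFc : Fintype.card ↥F = (F : Set Ω).ncard := by
    rw [← Nat.card_eq_fintype_card]
    exact Nat.card_coe_set_eq (F : Set Ω)
  -- the sign homomorphism
  let φ : ↥X →* Equiv.Perm ↥F := MulAction.toPermHom ↥X ↥F
  let ε : ↥X →* ℤˣ := Equiv.Perm.sign.comp φ
  let ψ : ↥Y →* ℤˣ := ε.comp (Subgroup.inclusion hYX)
  have hψ : ∀ (y : G) (hy : y ∈ Y), ψ ⟨y, hy⟩ = ε ⟨y, hYX hy⟩ := fun y hy => rfl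
  set K : Subgroup G := ψ.ker.map Y.subtype with hK
  have hKmem : ∀ g : G, g ∈ K ↔ ∃ hg : g ∈ Y, ψ ⟨g, hg⟩ = 1 := by
    intro g
    rw [hK, Subgroup.mem_map]
    constructor
    · rintro ⟨y, hy, rfl⟩
      exact ⟨y.2, MonoidHom.mem_ker.mp hy⟩
    · rintro ⟨hg, h1⟩
      exact ⟨⟨g, hg⟩, MonoidHom.mem_ker.mpr h1, rfl⟩
  have hKY : K ≤ Y := fun g hg => ((hKmem g).mp hg).1
  -- Q ≤ K
  have hφQ : ∀ (x : G) (hx : x ∈ Q), φ ⟨x, hYX (hQY hx)⟩ = 1 := by
    intro x hx
    ext c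
    show ((⟨x, hYX (hQY hx)⟩ : ↥X) • c : ↥F).1 = c.1
    exact c.2 x hx
  have hQK : Q ≤ K := by
    intro x hx
    rw [hKmem]
    refine ⟨hQY hx, ?_⟩
    rw [hψ]
    show Equiv.Perm.sign (φ ⟨x, hYX (hQY hx)⟩) = 1
    rw [hφQ x hx, map_one]
  -- s is odd on F
  have hεs : ε ⟨s, hYX hsY⟩ = -1 := by
    show Equiv.Perm.sign (φ ⟨s, hYX hsY⟩) = -1
    apply sign_of_fpf_involution
    · rw [← map_mul]
      have : (⟨s, hYX hsY⟩ : ↥X) * ⟨s, hYX hsY⟩ = ⟨s * s, hYX (hQY hs2)⟩ := rfl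
      rw [this, hφQ (s * s) hs2]
    · intro c hc
      have hc' : s • c.1 = c.1 := congrArg Subtype.val hc
      -- then S fixes c
      set T : Subgroup G := S ⊓ stabilizer G c.1 with hT
      have hQT : Q ≤ T := le_inf hQS (fun x hx => mem_stabilizer_iff.mpr (c.2 x hx))
      have hsT : s ∈ T := ⟨hsS, mem_stabilizer_iff.mpr hc'⟩
      have hTcard : Nat.card T ∣ 2 ^ (q + 1) := by
        rw [← hScard]; exact Subgroup.card_dvd_of_le inf_le_left
      obtain ⟨j, hj, hjT⟩ := (Nat.dvd_prime_pow Nat.prime_two).mp hTcard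
      have hqj : q ≤ j := by
        have : 2 ^ q ∣ 2 ^ j := by
          rw [← hQcard, ← hjT]; exact Subgroup.card_dvd_of_le hQT
        exact (Nat.pow_dvd_pow_iff_le_right (by norm_num)).mp this
      have hjq : j ≠ q := by
        intro hjq
        have hcard : Nat.card Q = Nat.card T := by rw [hQcard, hjT, hjq]
        have : Q = T := Subgroup.eq_of_le_of_card_ge hQT (le_of_eq hcard.symm)
        exact hsQ (this ▸ hsT)
      have hj1 : j = q + 1 := by omega
      apply hstab c.1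
      rw [← hj1, ← hjT]
      exact Subgroup.card_dvd_of_le (inf_le_inf_right _ hSN)
    · rw [hFc]; exact hF4
  have hsK : s ∉ K := by
    intro h
    obtain ⟨hg, h1⟩ := (hKmem s).mp h
    rw [hψ, hεs] at h1
    exact absurd h1 (by decide)
  -- every element of Y is in K or in K s⁻¹
  have hK4 : ∀ y ∈ Y, y ∈ K ∨ y * s ∈ K := by
    intro y hy
    rcases Int.units_eq_one_or (ψ ⟨y, hy⟩) with h1 | h1
    · left; exact (hKmem y).mpr ⟨hy, h1⟩
    · right
      refine (hKmem _).mpr ⟨Y.mul_mem hy hsY, ?_⟩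
      have : (⟨y * s, Y.mul_mem hy hsY⟩ : ↥Y) = ⟨y, hy⟩ * ⟨s, hsY⟩ := rfl
      rw [this, map_mul, h1, hψ s hsY, hεs]
      decide
  -- K is normalized by X
  have hKX : ∀ g ∈ X, ∀ k ∈ K, g * k * g⁻¹ ∈ K := by
    intro g hg k hk
    obtain ⟨hkY, hk1⟩ := (hKmem k).mp hk
    have hgkY : g * k * g⁻¹ ∈ Y := by
      refine ⟨hnorm g hg.1 k hkY.1, ?_⟩
      exact Subgroup.mul_mem _ (Subgroup.mul_mem _ hg.2 hkY.2) (Subgroup.inv_mem _ hg.2)
    refine (hKmem _).mpr ⟨hgkY, ?_⟩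
    rw [hψ]
    have : (⟨g * k * g⁻¹, hYX hgkY⟩ : ↥X) = ⟨g, hg⟩ * ⟨k, hYX hkY⟩ * (⟨g, hg⟩ : ↥X)⁻¹ := rfl
    rw [this, map_mul, map_mul, map_inv, mul_comm, ← mul_assoc, inv_mul_cancel, one_mul]
    rw [← hψ k hkY]; exact hk1
  -- the order of K
  have hKcard2 : ¬ 2 ^ (q + 1) ∣ Nat.card K := by
    intro h
    have h1 : Nat.card K = Nat.card ψ.ker :=
      Subgroup.card_map_of_injective (Subgroup.subtype_injective Y)
    have h2 : Nat.card ψ.ker * ψ.ker.index = Nat.card ↥Y := Subgroup.card_mul_index _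
    have h3 : ψ.ker.index = 2 := by
      rw [Subgroup.index_ker]
      have htop : ψ.range = ⊤ := by
        rw [eq_top_iff]
        intro u _
        rcases Int.units_eq_one_or u with rfl | rfl
        · exact Subgroup.one_mem _
        · exact ⟨⟨s, hsY⟩, by rw [hψ, hεs]⟩
      rw [htop, Subgroup.card_top, Nat.card_eq_fintype_card, Fintype.card_units_int]
    apply hY2
    rw [← h2, h3, ← h1, pow_succ]
    exact Nat.mul_dvd_mul_right h 2
  -- K acts trivially on F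
  have hKtriv : ∀ k ∈ K, ∀ c : Ω, c ∈ F → k • c = c := by
    by_contra hcon
    push Not at hcon
    obtain ⟨k, hkK, c, hcF, hkc⟩ := hcon
    have hkcF : k • c ∈ F := fix_smul Q k (hKY hkK).2 c hcF
    -- K is transitive on F
    have hKtr : ∀ c' : Ω, c' ∈ F → ∃ y ∈ K, y • a = c' := by
      intro c' hc'
      by_cases hca : a = c'
      · exact ⟨1, K.one_mem, by rw [one_smul, hca]⟩
      · obtain ⟨g, hgH, hgn, hg1, hg2⟩ := hW c (k • c) a c' hcF hkcF hQa hc' (Ne.symm hkc) hca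
        refine ⟨g * k * g⁻¹, hKX g ⟨hgH, hgn⟩ k hkK, ?_⟩
        have : g⁻¹ • a = c := by rw [← hg1, inv_smul_smul]
        rw [mul_smul, mul_smul, this, hg2]
    have hKF : ∀ c' : Ω, c' ∈ F ↔ ∃ y ∈ K, y • a = c' := by
      intro c'
      constructor
      · exact hKtr c'
      · rintro ⟨y, hy, rfl⟩
        exact fix_smul Q y (hKY hy).2 a hQa
    have hFK := card_orbit_mul K a (F : Set Ω) hKF
    have hKa1 : 2 ^ q ∣ Nat.card (K ⊓ stabilizer G a : Subgroup G) := by
      rw [← hQcard]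
      exact Subgroup.card_dvd_of_le (le_inf hQK (fun x hx => mem_stabilizer_iff.mpr (hQa x hx)))
    have hodd := odd_of_exact q _ _ _ hFK hKa1 hKcard2
    rw [Nat.odd_iff] at hodd
    omega
  -- conclusion
  intro c hc
  obtain ⟨y, hyY, hya⟩ := hYtr c hc
  rcases hK4 y hyY with hyK | hyK
  · left
    rw [← hya]
    exact hKtriv y hyK a haF
  · right
    have := hKtriv _ hyK a' ha'F
    rw [mul_smul, hsa', hya] at this
    exact this

end Cfsg.Agent.Lib.Helper3.TwoMod4
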