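import Mathlib
import Cfsg.Agent.Lib.Helper3.TwoMod4Base
import Cfsg.Agent.Lib.Helper3.TwoMod4A
import Cfsg.Agent.Lib.Helper2.TwoMod4W
import Cfsg.Agent.Lib.Helper2.TwoMod4A1
import Cfsg.Agent.Lib.Helper1.TwoMod4A3
import Cfsg.Agent.Lib.Helper1.TwoMod4B

set_option autoImplicit false
set_option maxHeartbeats 4000000
set_option maxRecDepth 100000
set_option linter.unusedVariables false
set_option linter.unusedSectionVars false
set_option linter.style.longLine false
set_option linter.unusedSimpArgs false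
set_option linter.deprecated false
set_option linter.style.haveILetI false

/-! # Doubly transitive groups of degree `2 mod 4` (for S3401): assembly -/

namespace Cfsg.Agent.Lib.Helper3.TwoMod4

open MulAction

variable {G : Type*} [Group G] [Finite G] {Ω : Type*} [Fintype Ω] [MulAction G Ω]

/-- Theorem A: in degree `2 mod 4`, a nontrivial subgroup normalized by a doubly transitive
group is doubly transitive. -/
theorem twoTrans_of_normal [FaithfulSMul G Ω] (H N : Subgroup G) (hH : TwoTrans Ω H)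
    (hn : Fintype.card Ω % 4 = 2)
    (hNH : N ≤ H) (hnorm : ∀ h ∈ H, ∀ x ∈ N, h * x * h⁻¹ ∈ N) (hN : N ≠ ⊥) : TwoTrans Ω N := by
  have htr := trans_of_normal H N hH hnorm hN
  obtain ⟨D⟩ := Cfsg.Agent.Lib.Helper2.TwoMod4.exists_dat H N hH hn hNH hnorm htr
  exact Cfsg.Agent.Lib.Helper1.TwoMod4.twoTrans_of_fix N D
    (fix_eq_of_witt H N hNH hnorm D
      (fun c d c' d' hc hd hc' hd' hcd hcd' =>
        Cfsg.Agent.Lib.Helper2.TwoMod4.witt H N hH hNH hnorm D c d c' d' hc hd hc' hd' hcd hcd'))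
    htr

/-- S3401. -/
theorem main [FaithfulSMul G Ω]
    (h2 : MulAction.IsMultiplyPretransitive G Ω 2) (hn : Fintype.card Ω % 4 = 2)
    (hn2 : 2 < Fintype.card Ω) :
    ∃ M : Subgroup G, M.Normal ∧ M ≠ ⊥ ∧ (∀ N : Subgroup G, N.Normal → N ≠ ⊥ → M ≤ N) ∧
      IsSimpleGroup ↥M ∧ MulAction.IsMultiplyPretransitive ↥M Ω 2 ∧
      Subgroup.centralizer (M : Set G) = ⊥ := by
  classical
  have hG : TwoTrans Ω (⊤ : Subgroup G) := by
    intro a b c d hab hcd
    obtain ⟨g, h1, h2'⟩ := (MulAction.is_two_pretransitive_iff).mp h2 hab hcd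
    exact ⟨g, Subgroup.mem_top g, h1, h2'⟩
  obtain ⟨M, -, hMn, hM1, hMt, hMle, hMc⟩ :=
    Cfsg.Agent.Lib.Helper1.TwoMod4.exists_min (⊤ : Subgroup G) hG hn2
      (fun N hN hnorm hN1 => twoTrans_of_normal ⊤ N hG hn hN hnorm hN1)
  have hMnormal : M.Normal := ⟨fun x hx g => hMn g (Subgroup.mem_top g) x hx⟩
  obtain ⟨T, hTM, hTn, hT1, hTt, hTle, hTc⟩ :=
    Cfsg.Agent.Lib.Helper1.TwoMod4.exists_min M hMt hn2
      (fun N hN hnorm hN1 => twoTrans_of_normal M N hMt hn hN hnorm hN1)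
  -- T is normalized by G
  have hTG : ∀ g ∈ (⊤ : Subgroup G), ∀ x ∈ T, g * x * g⁻¹ ∈ T := by
    intro g _
    set Tg : Subgroup G := T.map (MulAut.conj g).toMonoidHom with hTg
    have hTgM : Tg ≤ M := by
      rintro y ⟨x, hx, rfl⟩
      exact hMn g (Subgroup.mem_top g) x (hTM hx)
    have hTgn : ∀ m ∈ M, ∀ y ∈ Tg, m * y * m⁻¹ ∈ Tg := by
      rintro m hm y ⟨x, hx, rfl⟩
      have hm' : g⁻¹ * m * g ∈ M := by
        have := hMn g⁻¹ (Subgroup.mem_top _) m hm
        rwa [inv_inv] at this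
      refine ⟨(g⁻¹ * m * g) * x * (g⁻¹ * m * g)⁻¹, hTn _ hm' x hx, ?_⟩
      simp only [MulEquiv.coe_toMonoidHom, MulAut.conj_apply]
      group
    have hTg1 : Tg ≠ ⊥ := by
      intro h
      apply hT1
      rw [hTg] at h
      exact (Subgroup.map_eq_bot_iff_of_injective T (MulAut.conj g).injective).mp h
    have hle : T ≤ Tg := hTle Tg hTgM hTgn hTg1
    have hcard : Nat.card Tg = Nat.card T :=
      Subgroup.card_map_of_injective (MulAut.conj g).injective
    have heq : T = Tg := Subgroup.eq_of_le_of_card_ge hle (le_of_eq hcard)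
    intro x hx
    rw [heq]
    exact ⟨x, hx, rfl⟩
  have hMT : M ≤ T := hMle T le_top hTG hT1
  refine ⟨M, hMnormal, hM1, ?_, ?_, ?_, ?_⟩
  · intro N hN hN1
    exact hMle N le_top (fun h _ x hx => hN.conj_mem x hx h) hN1
  · haveI : Nontrivial ↥M := (Subgroup.nontrivial_iff_ne_bot M).mpr hM1
    refine { toNontrivial := inferInstance, eq_bot_or_eq_top_of_normal := fun K hK => ?_ }
    by_cases hK1 : K = ⊥
    · left; exact hK1
    · right
      set K' : Subgroup G := K.map M.subtype with hK'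
      have hK'M : K' ≤ M := by
        rintro y ⟨k, _, rfl⟩
        exact k.2
      have hK'n : ∀ m ∈ M, ∀ y ∈ K', m * y * m⁻¹ ∈ K' := by
        rintro m hm y ⟨k, hk, rfl⟩
        exact ⟨⟨m, hm⟩ * k * ⟨m, hm⟩⁻¹, hK.conj_mem k hk ⟨m, hm⟩, rfl⟩
      have hK'1 : K' ≠ ⊥ := by
        intro h
        apply hK1
        rw [hK'] at h
        exact (Subgroup.map_eq_bot_iff_of_injective K (Subgroup.subtype_injective M)).mp h
      have hle : M ≤ K' := hMT.trans (hTle K' hK'M hK'n hK'1)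
      rw [eq_top_iff]
      intro x _
      obtain ⟨k, hk, hkx⟩ := hle x.2
      have : k = x := Subtype.ext hkx
      rw [← this]; exact hk
  · rw [MulAction.is_two_pretransitive_iff]
    intro a b c d hab hcd
    obtain ⟨m, hm, h1, h2'⟩ := hMt a b c d hab hcd
    exact ⟨⟨m, hm⟩, h1, h2'⟩
  · rw [eq_bot_iff]
    intro g hg
    rw [Subgroup.mem_bot]
    apply hMc g (Subgroup.mem_top g)
    intro x hx
    exact (Subgroup.mem_centralizer_iff.mp hg x hx).symm

end Cfsg.Agent.Lib.Helper3.TwoMod4
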