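import Mathlib

set_option autoImplicit false

namespace Cfsg.Agent.Lib.Helper3.VR

/-- There is a valuation subring of `ℂ` in which the prime `p` is a non-unit. -/
theorem exists_valuationSubring_nat_mem_nonunits (p : ℕ) (hp : p.Prime) :
    ∃ O : ValuationSubring ℂ, (p : ℂ) ∈ O.nonunits := by
  let A : Subring ℂ := (Int.castRingHom ℂ).range
  have hpA : (p : ℂ) ∈ A := ⟨(p : ℤ), by simp⟩
  let I : Ideal A := Ideal.span {⟨(p : ℂ), hpA⟩}
  have hI : I ≠ ⊤ := by
    intro h
    rw [Ideal.span_singleton_eq_top] at h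
    obtain ⟨b, hb⟩ := isUnit_iff_exists_inv.mp h
    obtain ⟨b, m, rfl⟩ := b
    have h1 : ((p : ℂ)) * ((m : ℤ) : ℂ) = 1 := by
      have := congrArg Subtype.val hb
      simpa using this
    have h2 : (p : ℤ) * m = 1 := by exact_mod_cast h1
    have h3 : (p : ℤ) ∣ 1 := ⟨m, h2.symm⟩
    have h4 : p ∣ 1 := by exact_mod_cast h3
    exact hp.one_lt.ne' (Nat.dvd_one.mp h4)
  obtain ⟨O, -, hO⟩ := Ideal.image_subset_nonunits_valuationSubring I hI
  exact ⟨O, hO ⟨⟨(p : ℂ), hpA⟩, Ideal.subset_span rfl, rfl⟩⟩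

/-- In such a valuation subring, `p` lies in the maximal ideal. -/
theorem natCast_mem_maximalIdeal {O : ValuationSubring ℂ} {p : ℕ} (h : (p : ℂ) ∈ O.nonunits) :
    (p : O) ∈ IsLocalRing.maximalIdeal O := by
  rw [ValuationSubring.mem_nonunits_iff] at h
  rw [ValuationSubring.valuation_lt_one_iff]
  simpa using h

/-- The residue field has characteristic `p`. -/
theorem charP_residueField {O : ValuationSubring ℂ} {p : ℕ} (hp : p.Prime)
    (h : (p : ℂ) ∈ O.nonunits) : CharP (IsLocalRing.ResidueField O) p := by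
  have h0 : ((p : ℕ) : IsLocalRing.ResidueField O) = 0 := by
    have h1 := natCast_mem_maximalIdeal h
    have h2 : IsLocalRing.residue O (p : O) = 0 :=
      (IsLocalRing.residue_eq_zero_iff _).mpr h1
    simpa using h2
  have hdvd : ringChar (IsLocalRing.ResidueField O) ∣ p :=
    (CharP.cast_eq_zero_iff (IsLocalRing.ResidueField O)
      (ringChar (IsLocalRing.ResidueField O)) p).mp h0
  rcases (Nat.dvd_prime hp).mp hdvd with h1 | h1
  · exact absurd h1 (CharP.ringChar_ne_one)
  · exact ringChar.of_eq h1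

end Cfsg.Agent.Lib.Helper3.VR
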