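import Mathlib

set_option autoImplicit false

namespace Cfsg.Agent.Lib.Helper3.VR

/-- Convolution `a * c` of coefficient functions on a finite group. -/
def convK {k : Type*} [Semiring k] {P : Type*} [Group P] [Fintype P] (c a : P → k) : P → k :=
  fun y => ∑ x, a (y * x⁻¹) * c x

theorem convK_apply {k : Type*} [Semiring k] {P : Type*} [Group P] [Fintype P] (c a : P → k)
    (y : P) : convK c a y = ∑ x, a (y * x⁻¹) * c x := rfl

/-- In the group algebra of a `p`-group over a field of characteristic `p`, every nonzero
left ideal contains the norm element: for a nonzero coefficient function `c` there is `a`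
with `a * c` having all coefficients `1`. -/
theorem exists_conv_eq_one {k : Type*} [Field k] {p : ℕ} [hp : Fact p.Prime] [CharP k p]
    {P : Type*} [Group P] [Fintype P] (hP : IsPGroup p P) (c : P → k) (hc : c ≠ 0) :
    ∃ a : P → k, ∀ y : P, ∑ x : P, a (y * x⁻¹) * c x = 1 := by
  classical
  letI : Algebra (ZMod p) k := ZMod.algebra k p
  let L : P → (P → k) →ₗ[ZMod p] (P → k) :=
    fun u => LinearMap.funLeft (ZMod p) k (fun y => u⁻¹ * y)
  have hL : ∀ u f y, L u f y = f (u⁻¹ * y) := fun _ _ _ => rfl
  let S : Set (P → k) := Set.range (fun u : P => L u c)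
  let U : Submodule (ZMod p) (P → k) := Submodule.span (ZMod p) S
  have hSfin : S.Finite := Set.finite_range _
  haveI : Module.Finite (ZMod p) U := Module.Finite.span_of_finite (ZMod p) hSfin
  haveI : Finite U := Module.finite_of_finite (ZMod p)
  have hUI : ∀ f ∈ U, ∃ a, convK c a = f := by
    intro f hf
    induction hf using Submodule.span_induction with
    | mem f hfS =>
      obtain ⟨u, rfl⟩ := hfS
      refine ⟨fun y => if y = u then 1 else 0, ?_⟩
      funext y
      change convK c (fun y => if y = u then 1 else 0) y = L u c y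
      rw [convK_apply, hL]
      rw [Finset.sum_eq_single (u⁻¹ * y)]
      · have : y * (u⁻¹ * y)⁻¹ = u := by group
        simp [this]
      · intro x _ hx
        have : y * x⁻¹ ≠ u := by
          intro h
          apply hx
          rw [← h]; group
        simp [this]
      · intro h; exact absurd (Finset.mem_univ _) h
    | zero => exact ⟨0, by funext y; simp [convK_apply]⟩
    | add f g _ _ hf hg =>
      obtain ⟨a, rfl⟩ := hf
      obtain ⟨b, rfl⟩ := hg
      refine ⟨a + b, ?_⟩
      funext y
      simp only [convK_apply, Pi.add_apply, add_mul, Finset.sum_add_distrib]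
    | smul r f _ hf =>
      obtain ⟨a, rfl⟩ := hf
      refine ⟨r • a, ?_⟩
      funext y
      simp only [convK_apply, Pi.smul_apply, Finset.smul_sum, smul_mul_assoc]
  have hLmul : ∀ u v f, L (u * v) f = L u (L v f) := by
    intro u v f
    funext y
    rw [hL, hL, hL]
    congr 1
    group
  have hLone : ∀ f, L 1 f = f := by
    intro f
    funext y
    rw [hL]
    simp
  have hLU : ∀ u, ∀ f ∈ U, L u f ∈ U := by
    intro u f hf
    have hle : Submodule.map (L u) U ≤ U := by
      rw [Submodule.map_span]
      apply Submodule.span_mono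
      rintro _ ⟨_, ⟨v, rfl⟩, rfl⟩
      exact ⟨u * v, hLmul u v c⟩
    exact hle ⟨f, hf, rfl⟩
  letI : MulAction P U :=
    { smul := fun u f => ⟨L u f.1, hLU u f.1 f.2⟩
      one_smul := fun f => Subtype.ext (hLone f.1)
      mul_smul := fun u v f => Subtype.ext (hLmul u v f.1) }
  have hsmul : ∀ (u : P) (f : U), ((u • f : U) : P → k) = L u f.1 := fun _ _ => rfl
  -- c ∈ U
  have hcU : c ∈ U := Submodule.subset_span ⟨1, hLone c⟩
  -- p divides card U
  have hpU : p ∣ Nat.card U := by
    have h1 : addOrderOf (⟨c, hcU⟩ : U) = p := by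
      apply addOrderOf_eq_prime
      · apply Subtype.ext
        show p • c = 0
        rw [← Nat.cast_smul_eq_nsmul (ZMod p)]
        simp
      · intro h
        exact hc (congrArg Subtype.val h)
    have h2 := addOrderOf_dvd_natCard (⟨c, hcU⟩ : U)
    rwa [h1] at h2
  have h0 : (0 : U) ∈ MulAction.fixedPoints P U := by
    intro u
    apply Subtype.ext
    rw [hsmul]
    simp
  obtain ⟨b, hb, hb0⟩ := hP.exists_fixed_point_of_prime_dvd_card_of_fixed_point U hpU h0
  -- b is constant
  have hbconst : ∀ y, b.1 y = b.1 1 := by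
    intro y
    have := congrArg Subtype.val (hb y)
    rw [hsmul] at this
    have h2 := congrFun this y
    rw [hL] at h2
    rw [← h2]
    simp
  have hb1 : b.1 1 ≠ 0 := by
    intro h
    apply hb0
    apply Subtype.ext
    funext y
    rw [hbconst y, h]
    rfl
  obtain ⟨a, ha⟩ := hUI b.1 b.2
  refine ⟨fun y => (b.1 1)⁻¹ * a y, ?_⟩
  intro y
  have h3 := congrFun ha y
  rw [convK_apply, hbconst y] at h3
  calc ∑ x : P, (b.1 1)⁻¹ * a (y * x⁻¹) * c x
      = (b.1 1)⁻¹ * ∑ x : P, a (y * x⁻¹) * c x := by
        rw [Finset.mul_sum]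
        apply Finset.sum_congr rfl
        intro x _
        ring
    _ = 1 := by rw [h3, inv_mul_cancel₀ hb1]

end Cfsg.Agent.Lib.Helper3.VR
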