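import Mathlib
import Cfsg.Agent.Lib.Helper3.VR1
import Cfsg.Agent.Lib.Helper3.VR2

set_option autoImplicit false

namespace Cfsg.Agent.Lib.Helper3.VR

section

variable {G : Type*} [Group G] {W : Type*} [AddCommGroup W] [Module ℂ W]

/-- Normalising a nonzero coefficient family over a valuation subring: after division by a
coefficient of maximal valuation all coefficients lie in the ring and one of them is `1`. -/
theorem exists_normalised {ι : Type*} [Fintype ι] (O : ValuationSubring ℂ) (g : ι → ℂ)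
    (i₀ : ι) (hi₀ : g i₀ ≠ 0) :
    ∃ (j : ι) (c : ι → O), g j ≠ 0 ∧ c j = 1 ∧ ∀ i, (c i : ℂ) = g i / g j := by
  classical
  obtain ⟨j, -, hj⟩ := Finset.exists_max_image Finset.univ (fun i => O.valuation (g i))
    ⟨i₀, Finset.mem_univ _⟩
  have hval0 : O.valuation (g i₀) ≠ 0 := (Valuation.ne_zero_iff _).mpr hi₀
  have hvalj : O.valuation (g j) ≠ 0 := by
    intro h
    have := hj i₀ (Finset.mem_univ _)
    rw [h] at this
    exact hval0 (le_antisymm this zero_le')
  have hgj : g j ≠ 0 := (Valuation.ne_zero_iff _).mp hvalj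
  have hmem : ∀ i, g i / g j ∈ O := by
    intro i
    rw [← O.valuation_le_one_iff, map_div₀]
    exact (div_le_one₀ (zero_lt_iff.mpr hvalj)).mpr (hj i (Finset.mem_univ _))
  refine ⟨j, fun i => ⟨g i / g j, hmem i⟩, hgj, ?_, fun i => rfl⟩
  apply Subtype.ext
  show g j / g j = 1
  exact div_self hgj

variable (O : ValuationSubring ℂ) [Module O W] [IsScalarTower O ℂ W]

/-- If the translates of `w` under the `p`-group `P` are linearly dependent, then the norm
of `w` lies in `𝔪 Λ`. -/
theorem normP_mem_smul_of_not_linearIndependent {p : ℕ} [hp : Fact p.Prime]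
    (hpO : (p : ℂ) ∈ O.nonunits)
    (ρ : Representation ℂ G W) (P : Subgroup G) [Fintype P] (hP : IsPGroup p P)
    (Λ : Submodule O W) (hΛ : ∀ x : P, ∀ w ∈ Λ, ρ (x : G) w ∈ Λ)
    (w : W) (hw : w ∈ Λ) (hdep : ¬ LinearIndependent ℂ (fun x : P => ρ (x : G) w)) :
    ∑ x : P, ρ (x : G) w ∈ (IsLocalRing.maximalIdeal O) • Λ := by
  classical
  obtain ⟨g, hg0, i₀, hi₀⟩ := Fintype.not_linearIndependent_iff.mp hdep
  obtain ⟨j, c, hgj, hcj, hc⟩ := exists_normalised O g i₀ hi₀
  -- the normalised relation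
  have hrel : ∑ x : P, (c x : ℂ) • ρ (x : G) w = 0 := by
    have : ∑ x : P, (c x : ℂ) • ρ (x : G) w = (g j)⁻¹ • ∑ x : P, g x • ρ (x : G) w := by
      rw [Finset.smul_sum]
      apply Finset.sum_congr rfl
      intro x _
      rw [hc x, smul_smul]
      congr 1
      field_simp
    rw [this, hg0, smul_zero]
  -- residue field
  haveI : CharP (IsLocalRing.ResidueField O) p := charP_residueField hp.out hpO
  let res := IsLocalRing.residue O
  let cbar : P → IsLocalRing.ResidueField O := fun x => res (c x)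
  have hcbar : cbar ≠ 0 := by
    intro h
    have h1 := congrFun h j
    simp only [cbar, hcj, map_one, Pi.zero_apply] at h1
    exact one_ne_zero h1
  obtain ⟨abar, habar⟩ := exists_conv_eq_one hP cbar hcbar
  choose a ha using fun u : P => IsLocalRing.residue_surjective (abar u)
  -- the error terms
  let m : P → O := fun y => (∑ x : P, a (y * x⁻¹) * c x) - 1
  have hm : ∀ y, m y ∈ IsLocalRing.maximalIdeal O := by
    intro y
    rw [← IsLocalRing.residue_eq_zero_iff]
    simp only [m, map_sub, map_sum, map_mul, map_one]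
    have : ∑ x : P, (IsLocalRing.residue O) (a (y * x⁻¹)) * (IsLocalRing.residue O) (c x)
        = ∑ x : P, abar (y * x⁻¹) * cbar x := by
      apply Finset.sum_congr rfl
      intro x _
      rw [ha]
    rw [this, habar y, sub_self]
  -- the main computation
  have hcomp : ∑ y : P, ((∑ x : P, a (y * x⁻¹) * c x : O) : ℂ) • ρ (y : G) w = 0 := by
    have h1 : ∑ u : P, (a u : ℂ) • ρ (u : G) (∑ x : P, (c x : ℂ) • ρ (x : G) w) = 0 := by
      rw [hrel]
      simp
    have h2 : ∀ u : P, (a u : ℂ) • ρ (u : G) (∑ x : P, (c x : ℂ) • ρ (x : G) w)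
        = ∑ x : P, ((a u : ℂ) * (c x : ℂ)) • ρ ((u * x : P) : G) w := by
      intro u
      rw [map_sum, Finset.smul_sum]
      apply Finset.sum_congr rfl
      intro x _
      rw [map_smul, smul_smul]
      congr 1
      rw [Subgroup.coe_mul, map_mul]
      rfl
    simp only [h2] at h1
    rw [← h1, Finset.sum_comm]
    have h3 : ∀ y : P, ((∑ x : P, a (y * x⁻¹) * c x : O) : ℂ) • ρ (y : G) w
        = ∑ x : P, ((a (y * x⁻¹) : ℂ) * (c x : ℂ)) • ρ (y : G) w := by
      intro y
      rw [← Finset.sum_smul]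
      congr 1
      push_cast
      rfl
    simp only [h3]
    rw [Finset.sum_comm]
    apply Finset.sum_congr rfl
    intro x _
    rw [← Equiv.sum_comp (Equiv.mulRight x)]
    apply Finset.sum_congr rfl
    intro u _
    simp only [Equiv.coe_mulRight, mul_inv_cancel_right]
  have hfin : ∑ x : P, ρ (x : G) w = - ∑ y : P, ((m y : O) : ℂ) • ρ (y : G) w := by
    have h4 : ∀ y : P, ((m y : O) : ℂ) • ρ (y : G) w
        = ((∑ x : P, a (y * x⁻¹) * c x : O) : ℂ) • ρ (y : G) w - ρ (y : G) w := by
      intro y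
      simp only [m]
      rw [show (((∑ x : P, a (y * x⁻¹) * c x) - 1 : O) : ℂ)
        = ((∑ x : P, a (y * x⁻¹) * c x : O) : ℂ) - 1 by push_cast; rfl]
      rw [sub_smul, one_smul]
    simp only [h4]
    rw [Finset.sum_sub_distrib, hcomp, zero_sub, neg_neg]
  rw [hfin]
  apply Submodule.neg_mem
  apply Submodule.sum_mem
  intro y _
  have : ((m y : O) : ℂ) • ρ (y : G) w = (m y) • ρ (y : G) w :=
    algebraMap_smul ℂ (m y) (ρ (y : G) w)
  rw [this]
  exact Submodule.smul_mem_smul (hm y) (hΛ y w hw)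

end

end Cfsg.Agent.Lib.Helper3.VR
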