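import Mathlib
import Cfsg.Agent.Lib.Helper3.VR3

set_option autoImplicit false

namespace Cfsg.Agent.Lib.Helper3.VR

/-- Summing over a finite set that is a union of regular orbits of a finite group. -/
theorem sum_mem_of_free_orbits {P X M : Type*} [Group P] [Fintype P] [MulAction P X]
    [DecidableEq X] [AddCommMonoid M] (N : AddSubmonoid M) (F : X → M) :
    ∀ (n : ℕ) (S : Finset X), S.card = n → (∀ x : P, ∀ q ∈ S, x • q ∈ S) →
      (∀ q ∈ S, ∀ x : P, x • q = q → x = 1) → (∀ r ∈ S, ∑ x : P, F (x • r) ∈ N) →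
      ∑ q ∈ S, F q ∈ N := by
  intro n
  induction n using Nat.strong_induction_on with
  | _ n ih =>
    intro S hcard hinv hfree hN
    rcases S.eq_empty_or_nonempty with rfl | ⟨r, hr⟩
    · simp
    · let T : Finset X := Finset.univ.image (fun x : P => x • r)
      have hTS : T ⊆ S := by
        intro q hq
        obtain ⟨x, -, rfl⟩ := Finset.mem_image.mp hq
        exact hinv x r hr
      have hrT : r ∈ T := Finset.mem_image.mpr ⟨1, Finset.mem_univ _, one_smul _ _⟩
      have hinj : Function.Injective (fun x : P => x • r) := by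
        intro x y hxy
        have h1 : (y⁻¹ * x) • r = r := by
          rw [mul_smul]
          have : x • r = y • r := hxy
          rw [this, inv_smul_smul]
        have h2 := hfree r hr _ h1
        exact (inv_mul_eq_one.mp h2).symm
      have hsumT : ∑ q ∈ T, F q = ∑ x : P, F (x • r) := by
        rw [Finset.sum_image (fun x _ y _ h => hinj h)]
      have hsplit : ∑ q ∈ S, F q = ∑ q ∈ S \ T, F q + ∑ q ∈ T, F q :=
        (Finset.sum_sdiff hTS).symm
      rw [hsplit]
      apply N.add_mem
      · apply ih (S \ T).card ?_ (S \ T) rfl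
        · intro x q hq
          rw [Finset.mem_sdiff] at hq ⊢
          refine ⟨hinv x q hq.1, ?_⟩
          intro hxq
          obtain ⟨y, -, hy⟩ := Finset.mem_image.mp hxq
          apply hq.2
          refine Finset.mem_image.mpr ⟨x⁻¹ * y, Finset.mem_univ _, ?_⟩
          have hy' : y • r = x • q := hy
          show (x⁻¹ * y) • r = q
          rw [mul_smul, hy', inv_smul_smul]
        · intro q hq
          exact hfree q (Finset.mem_sdiff.mp hq).1
        · intro q hq
          exact hN q (Finset.mem_sdiff.mp hq).1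
        · rw [← hcard]
          apply Finset.card_lt_card
          exact Finset.sdiff_ssubset hTS ⟨r, hrT⟩
      · rw [hsumT]
        exact hN r hr

section

variable {G : Type*} [Group G] {W : Type*} [AddCommGroup W] [Module ℂ W]

/-- For an `H`-fixed vector `v`, `q ↦ ρ (q.out) v` is a `G`-equivariant map on `G ⧸ H`. -/
theorem out_smul_equivariant (ρ : Representation ℂ G W) (H : Subgroup G) (v : W)
    (hv : ∀ h ∈ H, ρ h v = v) (g : G) (q : G ⧸ H) :
    ρ ((g • q).out) v = ρ g (ρ (q.out) v) := by
  have h1 : g • q = ((g * q.out : G) : G ⧸ H) := by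
    conv_lhs => rw [← QuotientGroup.out_eq' q]
    rfl
  obtain ⟨h, hh⟩ := QuotientGroup.mk_out_eq_mul H (g * q.out)
  rw [h1, hh, map_mul, map_mul, Module.End.mul_apply, Module.End.mul_apply, hv h h.2]

/-- The representative of the trivial coset fixes `v`. -/
theorem out_one_apply (ρ : Representation ℂ G W) (H : Subgroup G) (v : W)
    (hv : ∀ h ∈ H, ρ h v = v) : ρ (((1 : G) : G ⧸ H).out) v = v := by
  obtain ⟨h, hh⟩ := QuotientGroup.mk_out_eq_mul H 1
  rw [hh, one_mul, hv h h.2]

/-- The transfer of an `H`-fixed vector is `G`-fixed. -/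
theorem transfer_fixed (ρ : Representation ℂ G W) (H : Subgroup G)
    [Fintype (G ⧸ H)] (v : W)
    (hv : ∀ h ∈ H, ρ h v = v) (g : G) :
    ρ g (∑ q : G ⧸ H, ρ (q.out) v) = ∑ q : G ⧸ H, ρ (q.out) v := by
  rw [map_sum]
  have : ∀ q : G ⧸ H, ρ g (ρ (q.out) v) = ρ ((g • q).out) v :=
    fun q => (out_smul_equivariant ρ H v hv g q).symm
  simp only [this]
  exact Fintype.sum_equiv (MulAction.toPerm g) _ _ (fun q => rfl)

end

end Cfsg.Agent.Lib.Helper3.VR
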