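import Mathlib
import Cfsg.Agent.Lib.Helper3.VR4

set_option autoImplicit false

namespace Cfsg.Agent.Lib.Helper3.VR

section

variable {G : Type*} [Group G] {W : Type*} [AddCommGroup W] [Module ℂ W]

/-- If `P ≤ H` acts freely on the nontrivial cosets of `H`, `v` is `H`-fixed with vanishing
transfer, and the `P`-norms of the lattice `Λ ∋ ρ g v` lie in the additive subgroup `N`,
then `v ∈ N`. -/
theorem fixed_mem_of_norms_mem (O : ValuationSubring ℂ)
    (ρ : Representation ℂ G W) (H P : Subgroup G) [Fintype P] [Fintype (G ⧸ H)] (hPH : P ≤ H)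
    (hfree : ∀ g : G, g ∉ H → ∀ x ∈ P, g⁻¹ * x * g ∈ H → x = 1)
    (v : W) (hv : ∀ h ∈ H, ρ h v = v) (hsum : ∑ q : G ⧸ H, ρ (q.out) v = 0)
    (Λ : Submodule O W) (hΛ : ∀ g : G, ρ g v ∈ Λ) (N : Submodule O W)
    (hall : ∀ w ∈ Λ, ∑ x : P, ρ (x : G) w ∈ N) : v ∈ N := by
  classical
  let q₀ : G ⧸ H := ((1 : G) : G ⧸ H)
  let F : G ⧸ H → W := fun q => ρ (q.out) v
  have hPfix : ∀ x : P, x • q₀ = q₀ := by
    intro x
    show (((x : G) * 1 : G) : G ⧸ H) = ((1 : G) : G ⧸ H)
    rw [QuotientGroup.eq]
    simpa using H.inv_mem (hPH x.2)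
  have hmain : ∑ q ∈ Finset.univ.erase q₀, F q ∈ N.toAddSubmonoid := by
    apply sum_mem_of_free_orbits (P := P) N.toAddSubmonoid F _ _ rfl
    · intro x q hq
      rw [Finset.mem_erase] at hq ⊢
      refine ⟨?_, Finset.mem_univ _⟩
      intro hxq
      apply hq.1
      have : q = x⁻¹ • q₀ := by rw [← hxq, inv_smul_smul]
      rw [this, hPfix]
    · intro q hq x hxq
      rw [Finset.mem_erase] at hq
      have hg : q.out ∉ H := by
        intro hmem
        apply hq.1
        rw [← QuotientGroup.out_eq' q]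
        show ((q.out : G) : G ⧸ H) = ((1 : G) : G ⧸ H)
        rw [QuotientGroup.eq]
        simpa using H.inv_mem hmem
      have h1 : (((x : G) * q.out : G) : G ⧸ H) = ((q.out : G) : G ⧸ H) := by
        have : x • q = q := hxq
        conv_rhs => rw [QuotientGroup.out_eq' q, ← this]
        conv_rhs => rw [← QuotientGroup.out_eq' q]
        rfl
      rw [QuotientGroup.eq] at h1
      have h2 : (q.out)⁻¹ * (x : G) * q.out ∈ H := by
        have := H.inv_mem h1
        simpa [mul_assoc] using this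
      have h3 := hfree q.out hg x x.2 h2
      exact Subtype.ext h3
    · intro r _
      have : ∀ x : P, F (x • r) = ρ (x : G) (F r) := by
        intro x
        exact out_smul_equivariant ρ H v hv (x : G) r
      simp only [this]
      exact hall _ (hΛ _)
  have hsplit : F q₀ + ∑ q ∈ Finset.univ.erase q₀, F q = ∑ q : G ⧸ H, F q :=
    Finset.add_sum_erase _ _ (Finset.mem_univ _)
  have hF0 : F q₀ = v := out_one_apply ρ H v hv
  have hveq : v = - ∑ q ∈ Finset.univ.erase q₀, F q := by
    rw [hF0] at hsplit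
    have h0 : ∑ q : G ⧸ H, F q = 0 := hsum
    rw [h0] at hsplit
    exact eq_neg_of_add_eq_zero_left hsplit
  rw [hveq]
  exact N.neg_mem hmain

/-- **Key theorem.** Let `P ≤ H ≤ G` with `P` a `p`-group acting freely on the nontrivial
cosets of `H`. If `v` is `H`-fixed with vanishing transfer and all its translates lie in a
subspace of dimension less than `|P|`, then `v = 0`. -/
theorem eq_zero_of_transfer_eq_zero [Finite G] [FiniteDimensional ℂ W]
    (ρ : Representation ℂ G W) (H P : Subgroup G) [Fintype (G ⧸ H)] {p : ℕ} [hp : Fact p.Prime]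
    (hP : IsPGroup p P) (hPH : P ≤ H)
    (hfree : ∀ g : G, g ∉ H → ∀ x ∈ P, g⁻¹ * x * g ∈ H → x = 1)
    (v : W) (hv : ∀ h ∈ H, ρ h v = v) (hsum : ∑ q : G ⧸ H, ρ (q.out) v = 0)
    (M : Submodule ℂ W) (hM : ∀ g : G, ρ g v ∈ M)
    (hdim : Module.finrank ℂ M < Nat.card P) : v = 0 := by
  classical
  haveI : Fintype P := Fintype.ofFinite P
  obtain ⟨O, hpO⟩ := exists_valuationSubring_nat_mem_nonunits p hp.out
  let Λ : Submodule O W := Submodule.span O (Set.range fun g : G => ρ g v)
  have hOlin : ∀ (g : G) (c : O) (w : W), ρ g (c • w) = c • ρ g w := by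
    intro g c w
    show ρ g ((c : ℂ) • w) = (c : ℂ) • ρ g w
    rw [map_smul]
  have hΛG : ∀ g : G, ∀ w ∈ Λ, ρ g w ∈ Λ := by
    intro g w hw
    induction hw using Submodule.span_induction with
    | mem w hw =>
      obtain ⟨k, rfl⟩ := hw
      apply Submodule.subset_span
      exact ⟨g * k, by simp [map_mul]⟩
    | zero => simp
    | add a b _ _ ha hb =>
      rw [map_add]
      exact Λ.add_mem ha hb
    | smul c a _ ha =>
      rw [hOlin]
      exact Λ.smul_mem c ha
  have hgen : ∀ g, ρ g v ∈ Λ := fun g => Submodule.subset_span ⟨g, rfl⟩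
  have hΛM : ∀ w ∈ Λ, w ∈ M := by
    intro w hw
    induction hw using Submodule.span_induction with
    | mem w hw =>
      obtain ⟨k, rfl⟩ := hw
      exact hM k
    | zero => exact M.zero_mem
    | add a b _ _ ha hb => exact M.add_mem ha hb
    | smul c a _ ha => exact M.smul_mem (c : ℂ) ha
  by_cases hall : ∀ w ∈ Λ, ∑ x : P, ρ (x : G) w ∈ IsLocalRing.maximalIdeal O • Λ
  · have hvm : v ∈ IsLocalRing.maximalIdeal O • Λ :=
      fixed_mem_of_norms_mem O ρ H P hPH hfree v hv hsum Λ hgen _ hall
    have hmG : ∀ g : G, ∀ w ∈ IsLocalRing.maximalIdeal O • Λ,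
        ρ g w ∈ IsLocalRing.maximalIdeal O • Λ := by
      intro g w hw
      refine Submodule.smul_induction_on (p := fun w => ρ g w ∈ IsLocalRing.maximalIdeal O • Λ)
        hw ?_ ?_
      · intro r hr n hn
        show ρ g (r • n) ∈ _
        rw [hOlin]
        exact Submodule.smul_mem_smul hr (hΛG g n hn)
      · intro x y hx hy
        show ρ g (x + y) ∈ _
        rw [map_add]
        exact Submodule.add_mem _ hx hy
    have hle : Λ ≤ IsLocalRing.maximalIdeal O • Λ := by
      apply Submodule.span_le.mpr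
      rintro _ ⟨g, rfl⟩
      exact hmG g v hvm
    have hbot : Λ = ⊥ :=
      Submodule.eq_bot_of_le_smul_of_le_jacobson_bot _ Λ
        (Submodule.fg_span (Set.finite_range _)) hle
        (by rw [IsLocalRing.jacobson_eq_maximalIdeal ⊥ bot_ne_top])
    have hvΛ : v ∈ Λ := by simpa using hgen 1
    rw [hbot] at hvΛ
    exact (Submodule.mem_bot O).mp hvΛ
  · exfalso
    push Not at hall
    obtain ⟨w, hw, hnot⟩ := hall
    have hli : LinearIndependent ℂ (fun x : P => ρ (x : G) w) := by
      by_contra hdep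
      exact hnot (normP_mem_smul_of_not_linearIndependent O hpO ρ P hP Λ
        (fun x w hw => hΛG x w hw) w hw hdep)
    let b : P → M := fun x => ⟨ρ (x : G) w, hΛM _ (hΛG x w hw)⟩
    have hb : LinearIndependent ℂ b := LinearIndependent.of_comp M.subtype hli
    have hcard := hb.fintype_card_le_finrank
    rw [Nat.card_eq_fintype_card] at hdim
    omega

end

end Cfsg.Agent.Lib.Helper3.VR
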