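import Mathlib
import Cfsg.Prelude.Def_Characters
import Cfsg.Prelude.Def_Blocks
import Cfsg.Agent.Lib.Helper3.VR5
import Cfsg.Agent.Lib.Lead.CentRing

set_option autoImplicit false

open scoped Pointwise

namespace Cfsg.Agent.Lib.Helper3.VR

section hfree

variable {G : Type*} [Group G] [Finite G]

/-- For a trivial-intersection Sylow subgroup `P` and `H ≥ N_G(P)`, the group `P` acts freely
on the nontrivial cosets of `H`. -/
theorem free_of_TI (p : ℕ) [Fact p.Prime] (P : Sylow p G)
    (hTI : ∀ g : G, g ∉ Subgroup.normalizer ((P : Subgroup G) : Set G) →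
      (P : Subgroup G) ⊓ (MulAut.conj g • (P : Subgroup G)) = ⊥)
    (H : Subgroup G) (hH : Subgroup.normalizer ((P : Subgroup G) : Set G) ≤ H) :
    ∀ g : G, g ∉ H → ∀ x ∈ (P : Subgroup G), g⁻¹ * x * g ∈ H → x = 1 := by
  intro g hg x hx hy
  have hPH : (P : Subgroup G) ≤ H := le_trans Subgroup.le_normalizer hH
  let P' : Sylow p H := P.subtype hPH
  let y : H := ⟨g⁻¹ * x * g, hy⟩
  have hQ₀ : IsPGroup p ((MulAut.conj g⁻¹ • (P : Subgroup G)).subgroupOf H) := by
    have : IsPGroup p (MulAut.conj g⁻¹ • (P : Subgroup G) : Subgroup G) := by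
      rw [Subgroup.pointwise_smul_def]
      exact P.2.map _
    exact this.comap_subtype
  have hyQ₀ : y ∈ (MulAut.conj g⁻¹ • (P : Subgroup G)).subgroupOf H := by
    rw [Subgroup.mem_subgroupOf]
    have := Subgroup.smul_mem_pointwise_smul x (MulAut.conj g⁻¹) (P : Subgroup G) hx
    simpa [MulAut.smul_def, MulAut.conj_apply] using this
  obtain ⟨Q, hQ⟩ := hQ₀.exists_le_sylow
  obtain ⟨h, hh⟩ := MulAction.exists_smul_eq H P' Q
  have hyQ : y ∈ (Q : Subgroup H) := hQ hyQ₀
  rw [← hh, Sylow.smul_def, Sylow.pointwise_smul_def,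
    Subgroup.mem_pointwise_smul_iff_inv_smul_mem] at hyQ
  have h1 : (h⁻¹ * y * h : H) ∈ (P' : Subgroup H) := by
    simpa [MulAut.smul_def, MulAut.conj_apply] using hyQ
  rw [Sylow.coe_subtype, Subgroup.mem_subgroupOf] at h1
  have h2 : (g * h)⁻¹ * x * (g * h) ∈ (P : Subgroup G) := by
    have : ((h⁻¹ * y * h : H) : G) = (g * h)⁻¹ * x * (g * h) := by
      simp only [Subgroup.coe_mul, Subgroup.coe_inv, y]
      group
    rwa [this] at h1
  have hk : g * (h : G) ∉ H := by
    intro hmem
    apply hg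
    have := H.mul_mem hmem (H.inv_mem h.2)
    simpa using this
  have hkN : g * (h : G) ∉ Subgroup.normalizer ((P : Subgroup G) : Set G) := fun hm => hk (hH hm)
  have hbot := hTI _ hkN
  have hxmem : x ∈ (P : Subgroup G) ⊓ (MulAut.conj (g * (h : G)) • (P : Subgroup G)) := by
    refine Subgroup.mem_inf.mpr ⟨hx, ?_⟩
    rw [Subgroup.mem_pointwise_smul_iff_inv_smul_mem]
    have h3 : (MulAut.conj (g * (h : G)))⁻¹ • x = (g * h)⁻¹ * x * (g * h) := by
      simp [MulAut.smul_def, MulAut.conj_apply, mul_assoc]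
    rw [h3]
    exact h2
  rw [hbot] at hxmem
  exact (Subgroup.mem_bot).mp hxmem

end hfree

section main

variable {G : Type*} [Group G] [Fintype G]

theorem trace_linHom_apply {n : ℕ} (ρ : Representation ℂ G (Fin n → ℂ)) (g : G)
    (T : (Fin n → ℂ) →ₗ[ℂ] (Fin n → ℂ)) :
    LinearMap.trace ℂ (Fin n → ℂ) ((ρ.linHom ρ) g T) = LinearMap.trace ℂ (Fin n → ℂ) T := by
  rw [Representation.linHom_apply, LinearMap.trace_comp_comm', LinearMap.comp_assoc]
  have : ρ g⁻¹ ∘ₗ ρ g = LinearMap.id := by
    ext v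
    simp
  rw [this, LinearMap.comp_id]

/-- The character-theoretic consequence of the key theorem. -/
theorem classInner_restrict_eq {n : ℕ} (ρ : Representation ℂ G (Fin n → ℂ))
    (H P : Subgroup G) [Fintype H] {p : ℕ} [hp : Fact p.Prime] (hP : IsPGroup p P) (hPH : P ≤ H)
    (hfree : ∀ g : G, g ∉ H → ∀ x ∈ P, g⁻¹ * x * g ∈ H → x = 1)
    (hdeg : n ^ 2 ≤ Nat.card P) :
    Cfsg.classInner ρ.character ρ.character
      = Cfsg.classInner (fun h : H => ρ.character h) (fun h : H => ρ.character h) := by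
  classical
  let ρH : Representation ℂ H (Fin n → ℂ) := MonoidHom.comp ρ H.subtype
  have hchar : ρH.character = fun h : H => ρ.character h := rfl
  rw [← hchar, ← Cfsg.Agent.Lib.Lead.CentRing.finrank_inv_eq ρ,
    ← Cfsg.Agent.Lib.Lead.CentRing.finrank_inv_eq ρH]
  have heq : (ρ.linHom ρ).invariants = (ρH.linHom ρH).invariants := by
    apply le_antisymm
    · intro S hS
      rw [Representation.mem_invariants] at hS ⊢
      intro h
      exact hS (h : G)
    · intro S hS
      rw [Representation.mem_invariants] at hS ⊢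
      have hSH : ∀ h ∈ H, (ρ.linHom ρ) h S = S := fun h hh => hS ⟨h, hh⟩
      haveI : Fintype (G ⧸ H) := Fintype.ofFinite _
      let s : (Fin n → ℂ) →ₗ[ℂ] (Fin n → ℂ) := ∑ q : G ⧸ H, (ρ.linHom ρ) q.out S
      have hsG : ∀ g, (ρ.linHom ρ) g s = s := transfer_fixed (ρ.linHom ρ) H S hSH
      let c : ℂ := ((Fintype.card (G ⧸ H) : ℂ))⁻¹
      have hc : c * (Fintype.card (G ⧸ H) : ℂ) = 1 :=
        inv_mul_cancel₀ (Nat.cast_ne_zero.mpr Fintype.card_ne_zero)
      let S' : (Fin n → ℂ) →ₗ[ℂ] (Fin n → ℂ) := S - c • s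
      have hS'H : ∀ h ∈ H, (ρ.linHom ρ) h S' = S' := by
        intro h hh
        simp only [S', map_sub, map_smul, hSH h hh, hsG h]
      have hS'sum : ∑ q : G ⧸ H, (ρ.linHom ρ) q.out S' = 0 := by
        simp only [S', map_sub, map_smul, hsG, Finset.sum_sub_distrib, Finset.sum_const,
          Finset.card_univ]
        show s - Fintype.card (G ⧸ H) • c • s = 0
        rw [← Nat.cast_smul_eq_nsmul ℂ, smul_smul, mul_comm, hc, one_smul, sub_self]
      have htrs : LinearMap.trace ℂ (Fin n → ℂ) s
          = (Fintype.card (G ⧸ H) : ℂ) * LinearMap.trace ℂ (Fin n → ℂ) S := by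
        simp only [s, map_sum, trace_linHom_apply, Finset.sum_const, Finset.card_univ,
          nsmul_eq_mul]
      have htrS' : LinearMap.trace ℂ (Fin n → ℂ) S' = 0 := by
        simp only [S', map_sub, map_smul, htrs, smul_eq_mul]
        rw [← mul_assoc, hc, one_mul, sub_self]
      let M : Submodule ℂ ((Fin n → ℂ) →ₗ[ℂ] (Fin n → ℂ)) :=
        LinearMap.ker (LinearMap.trace ℂ (Fin n → ℂ))
      have hM : ∀ g : G, (ρ.linHom ρ) g S' ∈ M := by
        intro g
        rw [LinearMap.mem_ker, trace_linHom_apply, htrS']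
      have hfr : Module.finrank ℂ ((Fin n → ℂ) →ₗ[ℂ] (Fin n → ℂ)) = n * n := by
        rw [Module.finrank_linearMap, Module.finrank_fin_fun]
      have hPpos : 0 < Nat.card P := Nat.card_pos
      have hdim : Module.finrank ℂ M < Nat.card P := by
        rcases Nat.eq_zero_or_pos n with h0 | hpos
        · have := Submodule.finrank_le M
          rw [hfr] at this
          have h00 : n * n = 0 := by rw [h0]
          omega
        · have hne : M ≠ ⊤ := by
            intro htop
            have : (LinearMap.id : (Fin n → ℂ) →ₗ[ℂ] (Fin n → ℂ)) ∈ M := by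
              rw [htop]
              exact Submodule.mem_top
            rw [LinearMap.mem_ker, LinearMap.trace_id, Module.finrank_fin_fun] at this
            have hn0 : (n : ℂ) = 0 := this
            rw [Nat.cast_eq_zero] at hn0
            omega
          have := Submodule.finrank_lt hne
          rw [hfr] at this
          have h2 : n ^ 2 = n * n := sq n
          omega
      have hzero : S' = 0 :=
        eq_zero_of_transfer_eq_zero (ρ.linHom ρ) H P hP hPH hfree S' hS'H hS'sum M hM hdim
      have hSeq : S = c • s := sub_eq_zero.mp hzero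
      intro g
      rw [hSeq, map_smul, hsG]
  rw [heq]

end main

end Cfsg.Agent.Lib.Helper3.VR
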