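import Mathlib
import Cfsg.Agent.Lib.Helper3.BurnsideIneq
import Cfsg.Agent.Lib.Helper6.CharBasic
import Cfsg.Agent.Lib.Helper6.Constituent
import Cfsg.Agent.Lib.Helper6.FiniteOrder

set_option autoImplicit false

/-! Winter's theorem, part 1: a character value at an element of prime power order which is a
rational integer is congruent to the degree modulo the prime. -/

namespace Cfsg.Agent.Lib.Helper3.Winter

open Cfsg Cfsg.Agent.Lib.Helper6 Module Polynomial

/-- a sum of `p^(k+1)`-th roots of unity which is an integer `m` is congruent to the number of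
summands modulo `p` -/
theorem int_dvd_card_sub_of_sum_roots {ι : Type*} [Fintype ι] (p k : ℕ) (hp : p.Prime)
    (μ : ι → ℂ) (hμ : ∀ i, μ i ^ (p ^ (k + 1)) = 1) (m : ℤ) (h : ∑ i, μ i = (m : ℂ)) :
    (p : ℤ) ∣ (Fintype.card ι : ℤ) - m := by
  classical
  haveI : Fact p.Prime := ⟨hp⟩
  set N := p ^ (k + 1) with hN
  have hN0 : N ≠ 0 := pow_ne_zero _ hp.ne_zero
  haveI : NeZero N := ⟨hN0⟩
  set ζ : ℂ := Complex.exp (2 * Real.pi * Complex.I / N) with hζdef
  have hζ : IsPrimitiveRoot ζ N := Complex.isPrimitiveRoot_exp N hN0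
  have hex : ∀ i, ∃ a : ℕ, ζ ^ a = μ i := by
    intro i
    obtain ⟨a, _, ha⟩ := hζ.eq_pow_of_pow_eq_one (hμ i)
    exact ⟨a, ha⟩
  choose a ha using hex
  set f : ℤ[X] := (∑ i, X ^ a i) - C m with hf
  have hroot : aeval ζ f = 0 := by
    rw [hf, map_sub, map_sum]
    simp only [map_pow, aeval_X, aeval_C, ha]
    rw [h]
    simp
  have hint : IsIntegral ℤ ζ := hζ.isIntegral (Nat.pos_of_ne_zero hN0)
  have hdvd : cyclotomic N ℤ ∣ f := by
    rw [cyclotomic_eq_minpoly hζ (Nat.pos_of_ne_zero hN0)]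
    exact minpoly.isIntegrallyClosed_dvd hint hroot
  obtain ⟨g, hg⟩ := hdvd
  have h1 : f.eval 1 = (Fintype.card ι : ℤ) - m := by
    rw [hf]
    simp [eval_finset_sum]
  have h2 : f.eval 1 = (p : ℤ) * g.eval 1 := by
    rw [hg, eval_mul, hN, eval_one_cyclotomic_prime_pow]
  rw [← h1, h2]
  exact dvd_mul_right _ _

variable {G : Type*} [Group G]

/-- the same for a representation -/
theorem int_dvd_finrank_sub_character {V : Type*} [AddCommGroup V] [Module ℂ V]
    [FiniteDimensional ℂ V] (ρ : Representation ℂ G V) (p k : ℕ) (hp : p.Prime) (s : G)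
    (hs : s ^ (p ^ (k + 1)) = 1) (m : ℤ) (h : ρ.character s = (m : ℂ)) :
    (p : ℤ) ∣ (finrank ℂ V : ℤ) - m := by
  have hn : 0 < p ^ (k + 1) := pow_pos hp.pos _
  have hf : (ρ s) ^ (p ^ (k + 1)) = 1 := by rw [← map_pow, hs, map_one]
  obtain ⟨ι, _, b, μ, hb, hμ⟩ :=
    exists_eigenbasis_of_pow_eq_one hn hf
  have htr : ρ.character s = ∑ i, μ i :=
    trace_eq_sum_of_eigenbasis b μ (ρ s) hb
  rw [htr] at h
  have := int_dvd_card_sub_of_sum_roots p k hp μ hμ m h
  rwa [← Module.finrank_eq_card_basis b] at this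

/-- the same for a character -/
theorem int_dvd_charDegree_sub [Finite G] {χ : G → ℂ} (hχ : IsCharacter G χ) (p k : ℕ)
    (hp : p.Prime) (s : G) (hs : s ^ (p ^ (k + 1)) = 1) (m : ℤ) (h : χ s = (m : ℂ)) :
    (p : ℤ) ∣ (charDegree χ : ℤ) - m := by
  have hdeg := IsCharacter.apply_one_eq_charDegree hχ
  obtain ⟨n, ρ, rfl⟩ := hχ
  have h1 : ρ.character 1 = (Module.finrank ℂ (Fin n → ℂ) : ℂ) := Representation.char_one ρ
  have h2 : (charDegree ρ.character : ℂ) = (Module.finrank ℂ (Fin n → ℂ) : ℂ) := by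
    rw [← hdeg, h1]
  have h3 : charDegree ρ.character = Module.finrank ℂ (Fin n → ℂ) := by exact_mod_cast h2
  rw [h3]
  exact int_dvd_finrank_sub_character ρ p k hp s hs m h

end Cfsg.Agent.Lib.Helper3.Winter
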