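import Mathlib
import Cfsg.Agent.Lib.Helper3.Winter1
import Cfsg.Agent.Lib.Helper3.XT1
import Cfsg.Agent.Lib.Helper6.Linear
import Cfsg.Agent.Lib.Helper6.Auto
import Cfsg.Agent.Lib.Helper6.Multiplicity

set_option autoImplicit false

/-! Winter's theorem, part 2: the value of the canonical extension at a generator of a cyclic
`p`-group acting coprimely. -/

namespace Cfsg.Agent.Lib.Helper3.Winter

open Cfsg Cfsg.Agent.Lib.Helper6 Cfsg.Agent.Lib.Helper3.GlauCyc Cfsg.Agent.Lib.Helper3.XT Module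
open scoped ComplexConjugate

theorem norm_apply_le' {G : Type*} [Group G] [Finite G] {χ : G → ℂ} (hχ : IsCharacter G χ)
    (g : G) : ‖χ g‖ ≤ (charDegree χ : ℝ) := by
  obtain ⟨n, ρ, rfl⟩ := hχ
  rw [charDegree_character]
  exact norm_character_le ρ g

section core

variable {Γ : Type*} [Group Γ] [Fintype Γ] (G S : Subgroup Γ)

/-- the core lemma: the value of the canonical extension at a generator of `S` -/
theorem core_abstract
    (hnorm : ∀ s ∈ S, ∀ g ∈ G, s * g * s⁻¹ ∈ G)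
    (hcop : (Nat.card G).Coprime (Nat.card S)) (htop : G ⊔ S = ⊤)
    {p k : ℕ} (hp : p.Prime) (s : Γ) (hs : Subgroup.zpowers s = S)
    (hord : orderOf s = p ^ (k + 1))
    {φ : G → ℂ} (hφ : IsIrrCharacter G φ)
    (hinv : ∀ s ∈ S, ∀ g g' : G, (g' : Γ) = s * g * s⁻¹ → φ g' = φ g) :
    ∃ (d : ℕ) (ε : ℤ), (ε = 1 ∨ ε = -1) ∧ d ∣ Nat.card G ∧ d ≤ charDegree φ ∧
      (p : ℤ) ∣ (charDegree φ : ℤ) - ε * d ∧
      (d = charDegree φ → ∀ g g' : G, (g' : Γ) = g * s * (g : Γ)⁻¹ * s⁻¹ → φ g' = φ 1) := by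
  classical
  have hcyc : IsCyclic S := by rw [← hs]; infer_instance
  have hGn : G.Normal := normal_of_sup G S hnorm htop
  have : Fintype G := Fintype.ofFinite _
  have : Fintype (fixC G S) := Fintype.ofFinite _
  obtain ⟨χh, hχh, hext, hdet⟩ := exists_canonical G S hcop htop hφ hinv
  have hCG : fixC G S ≤ G := inf_le_left
  have h46 := (Cfsg.Agent.S4446.result G S hnorm hcop htop hcyc (fixC G S) rfl hCG).1
      ⟨φ, hφ⟩ ⟨χh, hχh⟩ hinv hext hdet
  obtain ⟨⟨⟨β, ε⟩, ⟨hε, hβ⟩, _⟩, _⟩ := h46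
  simp only at hε hβ
  have hval : χh s = (ε : ℂ) * (charDegree (β : fixC G S → ℂ) : ℂ) := by
    have := hβ 1 s hs
    rw [Subgroup.coe_one, one_mul,
      IsCharacter.apply_one_eq_charDegree (IsIrrCharacter.isCharacter β.2)] at this
    exact this
  have hχ1 : χh 1 = (charDegree φ : ℂ) := by
    have := hext 1
    rw [Subgroup.coe_one] at this
    rw [this, IsCharacter.apply_one_eq_charDegree (IsIrrCharacter.isCharacter hφ)]
  have hdeg : charDegree χh = charDegree φ := by
    have h1 := IsCharacter.apply_one_eq_charDegree (IsIrrCharacter.isCharacter hχh)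
    rw [hχ1] at h1
    exact_mod_cast h1.symm
  set d := charDegree (β : fixC G S → ℂ) with hd
  have hεn : ‖(ε : ℂ)‖ = 1 := by
    rcases hε with rfl | rfl <;> simp
  have hnormval : ‖χh s‖ = (d : ℝ) := by
    rw [hval, norm_mul, hεn, one_mul]
    simp
  refine ⟨d, ε, hε, ?_, ?_, ?_, ?_⟩
  · have h1 : d ∣ Nat.card (fixC G S) := IsIrrCharacter.charDegree_dvd_card β.2
    exact h1.trans (Subgroup.card_dvd_of_le hCG)
  · have h1 := norm_apply_le' (IsIrrCharacter.isCharacter hχh) s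
    rw [hnormval, hdeg] at h1
    exact_mod_cast h1
  · have hs1 : s ^ (p ^ (k + 1)) = 1 := by rw [← hord]; exact pow_orderOf_eq_one s
    have hval' : χh s = ((ε * d : ℤ) : ℂ) := by rw [hval]; push_cast; ring
    have := int_dvd_charDegree_sub (IsIrrCharacter.isCharacter hχh) p k hp s hs1 (ε * d) hval'
    rwa [hdeg] at this
  · intro hdφ g g' hg'
    have hnorm' : ‖χh s‖ = ‖χh 1‖ := by
      rw [hnormval, hχ1, hdφ]; simp
    have h4 := apply_comm_of_norm_eq (IsIrrCharacter.isCharacter hχh) hnorm' (g : Γ)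
    rw [← hg', hext g', hχ1] at h4
    rw [h4, IsCharacter.apply_one_eq_charDegree (IsIrrCharacter.isCharacter hφ)]

end core

variable {G₀ : Type*} [Group G₀] [Finite G₀]

/-- the core lemma inside an ambient group -/
theorem core_ambient (H : Subgroup G₀) (x : G₀)
    (hxH : x ∈ Subgroup.normalizer (H : Set G₀))
    {p k : ℕ} (hp : p.Prime) (hord : orderOf x = p ^ (k + 1))
    (hcop : (Nat.card H).Coprime p)
    {φ : H → ℂ} (hφ : IsIrrCharacter H φ)
    (hinv : ∀ h h' : H, (h' : G₀) = x * h * x⁻¹ → φ h' = φ h) :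
    ∃ (d : ℕ) (ε : ℤ), (ε = 1 ∨ ε = -1) ∧ d ∣ Nat.card H ∧ d ≤ charDegree φ ∧
      (p : ℤ) ∣ (charDegree φ : ℤ) - ε * d ∧
      (d = charDegree φ → ∀ h h' : H, (h' : G₀) = h * x * (h : G₀)⁻¹ * x⁻¹ → φ h' = φ 1) := by
  classical
  set S : Subgroup G₀ := Subgroup.zpowers x with hS
  have hSH : S ≤ Subgroup.normalizer (H : Set G₀) := by
    rw [hS, Subgroup.zpowers_le]; exact hxH
  have hconj : ∀ s ∈ S, ∀ h ∈ H, s * h * s⁻¹ ∈ H := fun s hs h hh =>
    (Subgroup.mem_normalizer_iff.1 (hSH hs) h).1 hh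
  have hinvS : ∀ s ∈ S, ∀ h h' : H, (h' : G₀) = s * h * s⁻¹ → φ h' = φ h := by
    intro s hs
    rw [hS, Subgroup.mem_zpowers_iff] at hs
    obtain ⟨j, rfl⟩ := hs
    have hnat : ∀ n : ℕ, ∀ h h' : H, (h' : G₀) = x ^ n * h * (x ^ n)⁻¹ → φ h' = φ h := by
      intro n
      induction n with
      | zero =>
        intro h h' hh'
        have : h' = h := by apply Subtype.ext; rw [hh']; simp
        rw [this]
      | succ n ih =>
        intro h h' hh'
        have hk : x ^ n * (h : G₀) * (x ^ n)⁻¹ ∈ H :=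
          hconj _ (Subgroup.pow_mem _ (Subgroup.mem_zpowers x) n) _ h.2
        have e1 : (h' : G₀) = x * ((⟨_, hk⟩ : H) : G₀) * x⁻¹ := by
          rw [hh']; simp only [pow_succ']; group
        rw [hinv ⟨_, hk⟩ h' e1]
        exact ih h ⟨_, hk⟩ rfl
    -- reduce integer powers to natural powers using finite order
    have hfin : IsOfFinOrder x := isOfFinOrder_of_finite x
    obtain ⟨n, hn⟩ : ∃ n : ℕ, x ^ j = x ^ n := by
      have : x ^ j ∈ Submonoid.powers x := by
        rw [hfin.mem_powers_iff_mem_zpowers]; exact ⟨j, rfl⟩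
      obtain ⟨n, hn⟩ := (Submonoid.mem_powers_iff _ _).mp this
      exact ⟨n, hn.symm⟩
    rw [hn]
    exact hnat n
  have hcardS : Nat.card S = p ^ (k + 1) := by rw [hS, Nat.card_zpowers, hord]
  have hcop' : (Nat.card H).Coprime (Nat.card S) := by
    rw [hcardS]; exact Nat.Coprime.pow_right _ hcop
  set K : Subgroup G₀ := H ⊔ S with hK
  have hHK : H ≤ K := le_sup_left
  have hSK : S ≤ K := le_sup_right
  have hxK : x ∈ K := hSK (Subgroup.mem_zpowers x)
  have : Fintype K := Fintype.ofFinite _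
  let e : H.subgroupOf K ≃* H := Subgroup.subgroupOfEquivOfLe hHK
  have hcardH : Nat.card (H.subgroupOf K) = Nat.card H := Nat.card_congr e.toEquiv
  have hcardS' : Nat.card (S.subgroupOf K) = Nat.card S :=
    Nat.card_congr (Subgroup.subgroupOfEquivOfLe hSK).toEquiv
  have hφ' : IsIrrCharacter (H.subgroupOf K) (fun g => φ (e g)) :=
    IsIrrCharacter.comp_mulEquiv e hφ
  have hdeg' : charDegree (fun g : H.subgroupOf K => φ (e g)) = charDegree φ := by
    unfold charDegree
    show ⌊(φ (e 1)).re⌋₊ = ⌊(φ 1).re⌋₊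
    rw [map_one]
  have hzp : Subgroup.zpowers (⟨x, hxK⟩ : K) = S.subgroupOf K := by
    ext y
    rw [Subgroup.mem_subgroupOf, hS, Subgroup.mem_zpowers_iff, Subgroup.mem_zpowers_iff]
    constructor
    · rintro ⟨j, rfl⟩; exact ⟨j, by simp⟩
    · rintro ⟨j, hj⟩; exact ⟨j, Subtype.ext (by simpa using hj)⟩
  have hordK : orderOf (⟨x, hxK⟩ : K) = p ^ (k + 1) := by
    rw [← hord, ← Subgroup.orderOf_coe]
  have key := core_abstract (H.subgroupOf K) (S.subgroupOf K) ?_ ?_ ?_ hp ⟨x, hxK⟩ hzp hordK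
    hφ' ?_
  · obtain ⟨d, ε, hε, hd1, hd2, hd3, hd4⟩ := key
    rw [hdeg'] at hd2 hd3 hd4
    rw [hcardH] at hd1
    refine ⟨d, ε, hε, hd1, hd2, hd3, ?_⟩
    intro hd h h' hh'
    have h1 : ∀ y : H, (((e.symm y : H.subgroupOf K) : K) : G₀) = (y : G₀) := by
      intro y
      have := congrArg (fun z : H => (z : G₀)) (e.apply_symm_apply y)
      exact this
    have := hd4 hd (e.symm h) (e.symm h') ?_
    · simpa using this
    · show ((e.symm h' : H.subgroupOf K) : K) = _
      apply Subtype.ext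
      show (((e.symm h' : H.subgroupOf K) : K) : G₀) = _
      rw [h1, hh']
      simp [h1]
  · intro s hs g hg
    rw [Subgroup.mem_subgroupOf] at hs hg ⊢
    simpa using hconj _ hs _ hg
  · rw [hcardH, hcardS']; exact hcop'
  · exact codisjoint_iff.1 (Subgroup.codisjoint_subgroupOf_sup H S)
  · intro s hs g g' hgg'
    show φ (e g') = φ (e g)
    apply hinvS (s : G₀) (Subgroup.mem_subgroupOf.1 hs)
    have := congrArg (fun z : K => (z : G₀)) hgg'
    exact this

end Cfsg.Agent.Lib.Helper3.Winter
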