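import Mathlib
import Cfsg.Agent.Lib.Helper3.CharQuot
import Cfsg.Agent.Lib.Helper6.CliffordDeg
import Cfsg.Agent.Lib.Helper6.BlkCover
import Cfsg.Agent.Lib.Helper6.Multiplicity

set_option autoImplicit false

/-! Winter's theorem, part 3: the conclusion, the induction hypothesis, and the reduction to the
case where no proper normal subgroup contains the Sylow subgroup. -/

namespace Cfsg.Agent.Lib.Helper3.Winter

open Cfsg Cfsg.Agent.Lib.Helper6 Cfsg.Agent.Lib.Helper3.CharQuot

universe u

/-- the conclusion of Winter's theorem -/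
def Concl (p n : ℕ) : Prop :=
  ∃ q : ℕ, IsPrimePow q ∧ q ∣ n ∧
    ((q : ℤ) ≡ -1 [ZMOD p] ∨ (q : ℤ) ≡ 0 [ZMOD p] ∨ (q : ℤ) ≡ 1 [ZMOD p])

theorem Concl.mono {p n n' : ℕ} (h : n ∣ n') (hc : Concl p n) : Concl p n' := by
  obtain ⟨q, hq, hqn, hmod⟩ := hc
  exact ⟨q, hq, hqn.trans h, hmod⟩

/-- the induction hypothesis: Winter's theorem for all groups of order less than `m` -/
def Hyp (p m : ℕ) : Prop :=
  ∀ (H : Type u) [Group H] [Finite H], Nat.card H < m → Group.IsSolvable H →
    ∀ ξ : H → ℂ, IsIrrCharacter H ξ → (∀ h : H, ξ h = ξ 1 → h = 1) →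
    ∀ Q : Sylow p H, ¬ (Q : Subgroup H).Normal → Concl p (charDegree ξ)

variable {G : Type u} [Group G] [Finite G]

/-- the non-faithful version for smaller groups -/
theorem concl_of_hyp {p m : ℕ} [Fact p.Prime] (IH : Hyp.{u} p m) {H : Type u} [Group H]
    [Finite H] (hcard : Nat.card H < m) (hsolv : Group.IsSolvable H) {ξ : H → ℂ}
    (hξ : IsIrrCharacter H ξ) (K : Subgroup H) [hK : K.Normal]
    (hKer : ∀ x, x ∈ K ↔ ξ x = ξ 1) (Q : Sylow p H)
    (hQ : ¬ ((Q : Subgroup H) ⊔ K).Normal) : Concl p (charDegree ξ) := by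
  classical
  obtain ⟨β, hβ, hξβ⟩ := exists_irr_quot K hξ (fun x hx => (hKer x).1 hx)
  have hfaith : ∀ q : H ⧸ K, β q = β 1 → q = 1 := by
    intro q hq
    obtain ⟨g, rfl⟩ := QuotientGroup.mk_surjective q
    have h1 : ξ g = ξ 1 := by
      rw [hξβ]
      show β (QuotientGroup.mk g) = β (QuotientGroup.mk 1)
      rw [hq]; rfl
    exact (QuotientGroup.eq_one_iff g).2 ((hKer g).2 h1)
  have hdeg : charDegree ξ = charDegree β := by
    unfold charDegree
    rw [hξβ]
    rfl
  have hsurj : Function.Surjective (QuotientGroup.mk' K) := QuotientGroup.mk'_surjective K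
  set Q' : Sylow p (H ⧸ K) := Sylow.mapSurjective hsurj Q with hQ'
  have hQ'n : ¬ (Q' : Subgroup (H ⧸ K)).Normal := by
    intro hn
    apply hQ
    have h1 : ((Q' : Subgroup (H ⧸ K)).comap (QuotientGroup.mk' K)).Normal := hn.comap _
    rw [hQ', Sylow.coe_mapSurjective, Subgroup.comap_map_eq, QuotientGroup.ker_mk'] at h1
    exact h1
  have hcard' : Nat.card (H ⧸ K) < m :=
    lt_of_le_of_lt (Nat.le_of_dvd Nat.card_pos (Subgroup.card_quotient_dvd_card K)) hcard
  have := IH (H ⧸ K) hcard' inferInstance β hβ hfaith Q' hQ'n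
  rwa [← hdeg] at this

/-- **Reduction**: if a proper normal subgroup contains the Sylow `p`-subgroup, the induction
hypothesis applies. -/
theorem concl_of_le_normal {p : ℕ} [hp : Fact p.Prime] (IH : Hyp.{u} p (Nat.card G))
    (hsolv : Group.IsSolvable G) {χ : G → ℂ} (hχ : IsIrrCharacter G χ)
    (hfaith : ∀ g : G, χ g = χ 1 → g = 1) (P : Sylow p G)
    (hP : ¬ (P : Subgroup G).Normal) (N : Subgroup G) [hN : N.Normal] (hNtop : N ≠ ⊤)
    (hPN : (P : Subgroup G) ≤ N) : Concl p (charDegree χ) := by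
  classical
  have : Fintype G := Fintype.ofFinite _
  have : Fintype N := Fintype.ofFinite _
  have : Fintype (IrrCharacter N) := Fintype.ofFinite _
  have hNcard : Nat.card N < Nat.card G := by
    have h1 : Nat.card N ∣ Nat.card G := Subgroup.card_subgroup_dvd_card N
    have h2 : Nat.card N ≠ Nat.card G := by
      intro h
      exact hNtop ((Subgroup.card_eq_iff_eq_top N).1 h)
    exact lt_of_le_of_ne (Nat.le_of_dvd Nat.card_pos h1) h2
  set PN : Sylow p N := P.subtype hPN with hPNdef
  by_cases hex : ∃ ξ : IrrCharacter N, classInner (fun n : N => χ n) (ξ : N → ℂ) ≠ 0 ∧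
      ∃ K : Subgroup N, K.Normal ∧ (∀ x, x ∈ K ↔ (ξ : N → ℂ) x = (ξ : N → ℂ) 1) ∧
        ¬ ((PN : Subgroup N) ⊔ K).Normal
  · obtain ⟨ξ, hc, K, hKn, hKer, hQ⟩ := hex
    have h1 := concl_of_hyp IH hNcard inferInstance ξ.2 K hKer PN hQ
    exact h1.mono (charDegree_dvd_of_constituent N hN ⟨χ, hχ⟩ ξ hc)
  · exfalso
    push Not at hex
    apply hP
    -- multiplicities
    obtain ⟨m, hm, hmc⟩ := IsCharacter.exists_mult
      (IsCharacter.restrict N (IsIrrCharacter.isCharacter hχ))
    -- the index type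
    let I := {ξK : IrrCharacter N × Subgroup N //
      classInner (fun n : N => χ n) (ξK.1 : N → ℂ) ≠ 0 ∧ ξK.2.Normal ∧
        ∀ x, x ∈ ξK.2 ↔ (ξK.1 : N → ℂ) x = (ξK.1 : N → ℂ) 1}
    set D : Subgroup N := ⨅ i : I, (PN : Subgroup N) ⊔ i.1.2 with hD
    have hDn : D.Normal := Subgroup.normal_iInf_normal (fun i => hex i.1.1 i.2.1 i.1.2 i.2.2.1 i.2.2.2)
    have hPD : (PN : Subgroup N) ≤ D := le_iInf (fun i => le_sup_left)
    have hDp : IsPGroup p D := by
      intro x
      refine ⟨Nat.card N, ?_⟩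
      apply Subtype.ext
      rw [Subgroup.coe_pow, Subgroup.coe_one]
      -- show `x ^ (p ^ |N|)` lies in all kernels
      set y : N := (x : N) ^ p ^ Nat.card N with hy
      have hyK : ∀ i : I, y ∈ i.1.2 := by
        intro i
        haveI : i.1.2.Normal := i.2.2.1
        have hxi : (x : N) ∈ (PN : Subgroup N) ⊔ i.1.2 := by
          have h0 : (x : N) ∈ ⨅ i : I, (PN : Subgroup N) ⊔ i.1.2 := x.2
          exact Subgroup.mem_iInf.1 h0 i
        have hmap : (QuotientGroup.mk' i.1.2) (x : N) ∈ (PN : Subgroup N).map (QuotientGroup.mk' i.1.2) := by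
          have h1 : ((PN : Subgroup N) ⊔ i.1.2).map (QuotientGroup.mk' i.1.2)
              = (PN : Subgroup N).map (QuotientGroup.mk' i.1.2) := by
            rw [Subgroup.map_sup]
            have : i.1.2.map (QuotientGroup.mk' i.1.2) = ⊥ := by
              apply le_bot_iff.1
              rintro _ ⟨k, hk, rfl⟩
              exact (QuotientGroup.eq_one_iff _).2 hk
            rw [this, sup_bot_eq]
          rw [← h1]
          exact Subgroup.mem_map_of_mem _ hxi
        have hpg : IsPGroup p ((PN : Subgroup N).map (QuotientGroup.mk' i.1.2)) :=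
          PN.isPGroup'.map _
        obtain ⟨k, hk⟩ := (IsPGroup.iff_orderOf.1 hpg) ⟨_, hmap⟩
        rw [Subgroup.orderOf_mk] at hk
        have hk1 : p ^ k ∣ Nat.card (N ⧸ i.1.2) := by rw [← hk]; exact orderOf_dvd_natCard _
        have hk2 : p ^ k ≤ Nat.card N :=
          (Nat.le_of_dvd Nat.card_pos hk1).trans
            (Nat.le_of_dvd Nat.card_pos (Subgroup.card_quotient_dvd_card _))
        have hk3 : k ≤ Nat.card N := (Nat.lt_pow_self hp.out.one_lt).le.trans hk2
        have hk4 : ((QuotientGroup.mk' i.1.2) (x : N)) ^ p ^ Nat.card N = 1 := by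
          apply orderOf_dvd_iff_pow_eq_one.1
          rw [hk]
          exact pow_dvd_pow p hk3
        rw [← map_pow] at hk4
        exact (QuotientGroup.eq_one_iff _).1 hk4
      -- hence `χ y = χ 1`
      have hχy : χ y = χ 1 := by
        have e1 := apply_eq_sum_mult hm y
        have e2 := apply_eq_sum_mult hm 1
        show χ ((y : N) : G) = χ 1
        rw [e1]
        have : χ 1 = χ ((1 : N) : G) := by simp
        rw [this, e2]
        apply Finset.sum_congr rfl
        intro θ _
        by_cases hθ : m θ = 0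
        · rw [hθ]; simp
        · obtain ⟨K, hKn, hK⟩ := exists_kernel (IsIrrCharacter.isCharacter θ.2)
          have hc : classInner (fun n : N => χ n) (θ : N → ℂ) ≠ 0 := by
            rw [hmc θ]; exact_mod_cast hθ
          have := hyK ⟨(θ, K), hc, hKn, hK⟩
          rw [(hK y).1 this]
      have := hfaith _ hχy
      exact_mod_cast this
    have hDP : D = (PN : Subgroup N) := PN.is_maximal' hDp hPD
    have hPNn : (PN : Subgroup N).Normal := hDP ▸ hDn
    have : (PN : Subgroup N).Characteristic := Sylow.characteristic_of_normal PN hPNn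
    have h2 : ((PN : Subgroup N).map N.subtype).Normal :=
      ConjAct.normal_of_characteristic_of_normal
    rw [hPNdef, Sylow.coe_subtype, Subgroup.map_subgroupOf_eq_of_le hPN] at h2
    exact h2

end Cfsg.Agent.Lib.Helper3.Winter
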