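import Mathlib
import Cfsg.Agent.Lib.Helper1.MaxSubgroupSolvable
import Cfsg.Agent.Lib.Helper1.MinimalNormal
import Cfsg.Agent.Lib.Lead.FixedMod

set_option autoImplicit false

/-! Winter's theorem, part 4: the group theory of a maximal subgroup of a solvable group. -/

namespace Cfsg.Agent.Lib.Helper3.Winter

open Cfsg MulAction

variable {G : Type*} [Group G] [Finite G]

/-- a `p`-element acting nontrivially on a normal subgroup of order prime to `p`: the index of
the centralizer is `≡ 1 mod p` -/
theorem exists_modEq_one_of_not_commute {p : ℕ} [hp : Fact p.Prime] (W : Subgroup G)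
    [hW : W.Normal] (x : G) (k : ℕ) (hx : x ^ p ^ k = 1) (hcop : ¬ p ∣ Nat.card W)
    (hnc : ∃ w ∈ W, x * w ≠ w * x) :
    ∃ q : ℕ, q ≠ 1 ∧ q ∣ Nat.card W ∧ q ≡ 1 [MOD p] := by
  classical
  set F : Subgroup W := (Subgroup.centralizer ({x} : Set G)).subgroupOf W with hF
  have hfix : fixedBy W (ConjAct.toConjAct x) = (F : Set W) := by
    ext w
    rw [mem_fixedBy, SetLike.mem_coe, hF, Subgroup.mem_subgroupOf, Subgroup.mem_centralizer_iff]
    constructor
    · intro h y hy
      rw [Set.mem_singleton_iff] at hy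
      subst hy
      have h1 := congrArg (fun z : W => (z : G)) h
      simp only [ConjAct.Subgroup.val_conj_smul, ConjAct.toConjAct_smul] at h1
      calc y * (w : G) = (y * w * y⁻¹) * y := by group
        _ = w * y := by rw [h1]
    · intro h
      apply Subtype.ext
      rw [ConjAct.Subgroup.val_conj_smul, ConjAct.toConjAct_smul]
      have := h x rfl
      rw [this]; group
  have hx' : (ConjAct.toConjAct x) ^ p ^ k = 1 := by
    rw [← map_pow, hx, map_one]
  have hmod := Cfsg.Agent.Lib.Lead.FixedMod.card_modEq_card_fixedBy (Ω := W)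
    (ConjAct.toConjAct x) k hx'
  rw [hfix] at hmod
  have hcard : Nat.card F * F.index = Nat.card W := Subgroup.card_mul_index F
  have hmod' : Nat.card F * F.index ≡ Nat.card F * 1 [MOD p] := by
    rw [hcard, mul_one]; exact hmod
  have hFd : Nat.card F ∣ Nat.card W := Subgroup.card_subgroup_dvd_card F
  have hcopF : p.gcd (Nat.card F) = 1 := by
    rw [← Nat.coprime_iff_gcd_eq_one, Nat.Prime.coprime_iff_not_dvd hp.out]
    exact fun h => hcop (h.trans hFd)
  refine ⟨F.index, ?_, ⟨Nat.card F, by rw [← hcard, mul_comm]⟩,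
    Nat.ModEq.cancel_left_of_coprime hcopF hmod'⟩
  intro h1
  rw [Subgroup.index_eq_one] at h1
  obtain ⟨w, hw, hne⟩ := hnc
  have : (⟨w, hw⟩ : W) ∈ F := by rw [h1]; trivial
  rw [hF, Subgroup.mem_subgroupOf, Subgroup.mem_centralizer_iff] at this
  exact hne (this x rfl)

/-- the case of a core-free maximal subgroup -/
theorem corefree_case [hsolv : Group.IsSolvable G] {p : ℕ} [hp : Fact p.Prime] (M : Subgroup G)
    (hM : IsCoatom M) (hcore : M.normalCore = ⊥) (hpM : ¬ p ∣ M.index) (P : Sylow p G) :
    (∃ N : Subgroup G, N.Normal ∧ N ≠ ⊤ ∧ (P : Subgroup G) ≤ N) ∨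
      ∃ q : ℕ, IsPrimePow q ∧ q ∣ M.index ∧ q ≡ 1 [MOD p] := by
  classical
  haveI : Nontrivial G := by
    by_contra h
    rw [not_nontrivial_iff_subsingleton] at h
    exact hM.1 (Subsingleton.elim _ _)
  obtain ⟨W, hWn, hWbot, hWmin⟩ := Cfsg.Agent.Lib.Helper1.exists_minimal_normal (G := G)
  obtain ⟨hWcomm, _⟩ := Cfsg.Agent.Lib.Helper1.minimal_normal_of_solvable W hWbot hWmin
  have hWM : ¬ W ≤ M := by
    intro h
    have : W ≤ M.normalCore := Subgroup.normal_le_normalCore.2 h
    rw [hcore] at this
    exact hWbot (le_bot_iff.1 this)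
  have htop : W ⊔ M = ⊤ := by
    apply hM.2
    exact lt_of_le_of_ne le_sup_right (fun h => hWM (h ▸ le_sup_left))
  have hcommW : ∀ a ∈ W, ∀ b ∈ W, a * b = b * a := by
    intro a ha b hb
    have := hWcomm.is_comm.comm ⟨a, ha⟩ ⟨b, hb⟩
    exact congrArg Subtype.val this
  have hinfn : (W ⊓ M).Normal := by
    rw [← Subgroup.normalizer_eq_top_iff, eq_top_iff, ← htop]
    apply sup_le
    · intro w hw
      rw [Subgroup.mem_normalizer_iff]
      intro y
      constructor
      · intro hy
        have : w * y * w⁻¹ = y := by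
          rw [hcommW w hw y hy.1]; group
        rw [this]; exact hy
      · intro hy
        have hy1 : y ∈ W := by
          have := hWn.conj_mem _ hy.1 w⁻¹
          simpa [mul_assoc] using this
        have : w * y * w⁻¹ = y := by
          rw [hcommW w hw y hy1]; group
        rw [this] at hy; exact hy
    · intro m hm
      rw [Subgroup.mem_normalizer_iff]
      intro y
      constructor
      · intro hy
        exact ⟨hWn.conj_mem _ hy.1 m, M.mul_mem (M.mul_mem hm hy.2) (M.inv_mem hm)⟩
      · intro hy
        refine ⟨?_, ?_⟩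
        · have := hWn.conj_mem _ hy.1 m⁻¹
          simpa [mul_assoc] using this
        · have := M.mul_mem (M.mul_mem (M.inv_mem hm) hy.2) hm
          simpa [mul_assoc] using this
  have hinf : W ⊓ M = ⊥ := by
    have : W ⊓ M ≤ M.normalCore := Subgroup.normal_le_normalCore.2 inf_le_right
    rw [hcore] at this
    exact le_bot_iff.1 this
  have hcompl : Subgroup.IsComplement' W M := by
    apply Subgroup.isComplement'_of_disjoint_and_mul_eq_univ (disjoint_iff.2 hinf)
    rw [← Subgroup.normal_mul, htop]; rfl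
  have hidx : M.index = Nat.card W := hcompl.index_eq_card
  have hcopW : ¬ p ∣ Nat.card W := by rw [← hidx]; exact hpM
  have hpp : IsPrimePow M.index :=
    Cfsg.Agent.Lib.Helper1.isPrimePow_index_of_isCoatom M hM
  set C : Subgroup G := Subgroup.centralizer (W : Set G) with hC
  have hCn : C.Normal := Subgroup.normal_centralizer
  by_cases hPC : (P : Subgroup G) ≤ C
  · left
    by_cases hCtop : C = ⊤
    · -- `W` central, so `M` is normal, so `M = ⊥`
      have hWc : ∀ w ∈ W, ∀ g : G, w * g = g * w := by
        intro w hw g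
        have : g ∈ C := by rw [hCtop]; trivial
        rw [hC, Subgroup.mem_centralizer_iff] at this
        exact this w hw
      have hMn : M.Normal := by
        rw [← Subgroup.normalizer_eq_top_iff, eq_top_iff, ← htop]
        apply sup_le
        · intro w hw
          rw [Subgroup.mem_normalizer_iff]
          intro y
          have : w * y * w⁻¹ = y := by rw [hWc w hw y]; group
          rw [this]
        · exact Subgroup.le_normalizer
      have hMbot : M = ⊥ := by
        have : M ≤ M.normalCore := Subgroup.normal_le_normalCore.2 le_rfl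
        rw [hcore] at this
        exact le_bot_iff.1 this
      have hcardG : ¬ p ∣ Nat.card G := by
        have := Subgroup.card_mul_index M
        rw [hMbot, Subgroup.card_bot, one_mul] at this
        rw [← this, ← hMbot]; exact hpM
      refine ⟨⊥, inferInstance, bot_ne_top, ?_⟩
      have hPcard : Nat.card (P : Subgroup G) = 1 := by
        rcases P.isPGroup'.card_eq_or_dvd with h | h
        · exact h
        · exact absurd (h.trans (Subgroup.card_subgroup_dvd_card _)) hcardG
      exact le_of_eq (Subgroup.card_eq_one.1 hPcard)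
    · exact ⟨C, hCn, hCtop, hPC⟩
  · right
    obtain ⟨x, hxP, hxC⟩ := SetLike.not_le_iff_exists.1 hPC
    rw [hC, Subgroup.mem_centralizer_iff] at hxC
    push Not at hxC
    obtain ⟨w, hw, hne⟩ := hxC
    obtain ⟨k, hk⟩ := (IsPGroup.iff_orderOf.1 P.isPGroup') ⟨x, hxP⟩
    rw [Subgroup.orderOf_mk] at hk
    have hxk : x ^ p ^ k = 1 := by rw [← hk]; exact pow_orderOf_eq_one x
    obtain ⟨q, hq1, hqd, hqm⟩ := exists_modEq_one_of_not_commute W x k hxk hcopW
      ⟨w, hw, fun h => hne h.symm⟩
    rw [← hidx] at hqd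
    exact ⟨q, hpp.dvd hqd hq1, hqd, hqm⟩

/-- the general case of a maximal subgroup of index prime to `p` -/
theorem coatom_case [hsolv : Group.IsSolvable G] {p : ℕ} [hp : Fact p.Prime] (M : Subgroup G)
    (hM : IsCoatom M) (hpM : ¬ p ∣ M.index) (P : Sylow p G) :
    (∃ N : Subgroup G, N.Normal ∧ N ≠ ⊤ ∧ (P : Subgroup G) ≤ N) ∨
      ∃ q : ℕ, IsPrimePow q ∧ q ∣ M.index ∧ q ≡ 1 [MOD p] := by
  classical
  set N₀ : Subgroup G := M.normalCore with hN₀
  have hN₀n : N₀.Normal := Subgroup.normalCore_normal M
  have hN₀M : N₀ ≤ M := Subgroup.normalCore_le M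
  set f : G →* G ⧸ N₀ := QuotientGroup.mk' N₀ with hf
  have hsurj : Function.Surjective f := QuotientGroup.mk'_surjective N₀
  have hker : f.ker = N₀ := QuotientGroup.ker_mk' N₀
  have hkerM : f.ker ≤ M := by rw [hker]; exact hN₀M
  have hM' : IsCoatom (M.map f) :=
    Cfsg.Agent.Lib.Helper1.isCoatom_map_of_ker_le f hsurj M hM hkerM
  have hcomapM : (M.map f).comap f = M := by
    rw [Subgroup.comap_map_eq, sup_eq_left]; exact hkerM
  have hcore' : (M.map f).normalCore = ⊥ := by
    set C' := (M.map f).normalCore with hC'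
    have hC'n : C'.Normal := Subgroup.normalCore_normal _
    have h1 : C'.comap f ≤ M := by
      rw [← hcomapM]
      exact Subgroup.comap_mono (Subgroup.normalCore_le _)
    have h2 : (C'.comap f).Normal := hC'n.comap f
    have h3 : C'.comap f ≤ N₀ := Subgroup.normal_le_normalCore.2 h1
    have h4 : C' = (C'.comap f).map f := (Subgroup.map_comap_eq_self_of_surjective hsurj C').symm
    rw [h4]
    apply le_bot_iff.1
    calc (C'.comap f).map f ≤ N₀.map f := Subgroup.map_mono h3
      _ = ⊥ := by
          apply le_bot_iff.1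
          rintro _ ⟨k, hk, rfl⟩
          exact (QuotientGroup.eq_one_iff _).2 hk
  have hidx : (M.map f).index = M.index := Subgroup.index_map_eq M hsurj hkerM
  have hpM' : ¬ p ∣ (M.map f).index := by rw [hidx]; exact hpM
  rcases corefree_case (M.map f) hM' hcore' hpM' (Sylow.mapSurjective hsurj P) with
    ⟨N', hN'n, hN'top, hPN'⟩ | ⟨q, hq, hqd, hqm⟩
  · left
    refine ⟨N'.comap f, hN'n.comap f, ?_, ?_⟩
    · intro h
      apply hN'top
      rw [← Subgroup.map_comap_eq_self_of_surjective hsurj N', h]
      exact Subgroup.map_top_of_surjective f hsurj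
    · rw [Sylow.coe_mapSurjective] at hPN'
      exact Subgroup.map_le_iff_le_comap.1 hPN'
  · right
    exact ⟨q, hq, hidx ▸ hqd, hqm⟩

end Cfsg.Agent.Lib.Helper3.Winter
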