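import Mathlib
import Cfsg.Agent.Lib.Helper3.Winter2
import Cfsg.Agent.Lib.Helper3.Winter3
import Cfsg.Agent.Lib.Helper3.Winter4
import Cfsg.Agent.Lib.Helper3.GoingDown2
import Cfsg.Agent.Lib.Helper6.CliffordStab
import Cfsg.Agent.Lib.Helper1.Fitting
import Cfsg.Agent.Lib.Helper1.FittingCentralizer
import Cfsg.Agent.Lib.Helper7.PCore

set_option autoImplicit false

/-! Winter's theorem, part 5: the imprimitive case. -/

namespace Cfsg.Agent.Lib.Helper3.Winter

open Cfsg Cfsg.Agent.Lib.Helper6 Cfsg.Agent.Lib.Helper3.XT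

universe u

variable {G : Type u} [Group G] [Finite G]

/-- the stabilizer of a class function of a normal subgroup -/
def stab (N : Subgroup G) (hN : N.Normal) (θ : N → ℂ) : Subgroup G where
  carrier := {g | conjFun N hN θ g = θ}
  one_mem' := conjFun_one N hN θ
  mul_mem' := by
    intro g h hg hh
    show conjFun N hN θ (g * h) = θ
    rw [← conjFun_conjFun, show conjFun N hN θ g = θ from hg]
    exact hh
  inv_mem' := by
    intro g hg
    show conjFun N hN θ g⁻¹ = θ
    have := conjFun_conjFun N hN θ g g⁻¹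
    rw [mul_inv_cancel, conjFun_one, show conjFun N hN θ g = θ from hg] at this
    exact this

theorem mem_stab (N : Subgroup G) (hN : N.Normal) (θ : N → ℂ) (g : G) :
    g ∈ stab N hN θ ↔ conjFun N hN θ g = θ := Iff.rfl

theorem natModEq_to_int {p q : ℕ} (h : q ≡ 1 [MOD p]) : (q : ℤ) ≡ 1 [ZMOD p] := by
  have := Int.natCast_modEq_iff.2 h
  simpa using this

/-- **the imprimitive case** -/
theorem concl_of_not_invariant {p : ℕ} [hp : Fact p.Prime] (IH : Hyp.{u} p (Nat.card G))
    (hsolv : Group.IsSolvable G) {χ : G → ℂ} (hχ : IsIrrCharacter G χ)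
    (hfaith : ∀ g : G, χ g = χ 1 → g = 1) (P : Sylow p G)
    (hP : ¬ (P : Subgroup G).Normal) (hpn : ¬ p ∣ charDegree χ)
    (N : Subgroup G) [Fintype N] (hN : N.Normal) (θ : IrrCharacter N)
    (hc : classInner (fun n : N => χ n) (θ : N → ℂ) ≠ 0) (g₀ : G)
    (hg₀ : conjFun N hN (θ : N → ℂ) g₀ ≠ (θ : N → ℂ)) : Concl p (charDegree χ) := by
  classical
  have : Fintype G := Fintype.ofFinite _
  set T₀ := stab N hN (θ : N → ℂ) with hT₀
  have hT₀top : T₀ ≠ ⊤ := by
    intro h
    apply hg₀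
    have : g₀ ∈ T₀ := by rw [h]; trivial
    exact this
  have hNT₀ : N ≤ T₀ := by
    intro n hn
    exact conjFun_of_mem N hN (IsIrrCharacter.isClassFunction θ.2) hn
  rcases eq_top_or_exists_le_coatom T₀ with h | ⟨M, hM, hT₀M⟩
  · exact absurd h hT₀top
  have : Fintype M := Fintype.ofFinite _
  have hNM : N ≤ M := hNT₀.trans hT₀M
  obtain ⟨ψ, _, hind⟩ := exists_indFun_eq_of_stab N hN M hNM θ
    (fun g hg => hT₀M hg) ⟨χ, hχ⟩ hc
  simp only at hind
  have hdeg : charDegree χ = M.index * charDegree (ψ : M → ℂ) := by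
    have h1 := indFun_one M (ψ : M → ℂ)
    rw [hind, IsCharacter.apply_one_eq_charDegree (IsIrrCharacter.isCharacter hχ),
      IsCharacter.apply_one_eq_charDegree (IsIrrCharacter.isCharacter ψ.2), ← Nat.cast_mul] at h1
    exact_mod_cast h1
  have hMd : M.index ∣ charDegree χ := ⟨_, hdeg⟩
  have hpM : ¬ p ∣ M.index := fun h => hpn (h.trans hMd)
  have := hsolv
  rcases coatom_case M hM hpM P with ⟨N', hN'n, hN'top, hPN'⟩ | ⟨q, hq, hqd, hqm⟩
  · have := hN'n
    exact concl_of_le_normal IH hsolv hχ hfaith P hP N' hN'top hPN'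
  · exact ⟨q, hq, hqd.trans hMd, Or.inr (Or.inr (natModEq_to_int hqm))⟩

end Cfsg.Agent.Lib.Helper3.Winter
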