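import Mathlib
import Cfsg.Agent.Lib.Helper3.Winter5

set_option autoImplicit false

/-! Winter's theorem, part 6: the quasi-primitive case and the induction. -/

namespace Cfsg.Agent.Lib.Helper3.Winter

open Cfsg Cfsg.Agent.Lib.Helper6 Cfsg.Agent.Lib.Helper3.XT

universe u

/-- the final arithmetic -/
theorem arith_final {p r a m : ℕ} (hp : p.Prime) (hr : r.Prime) (hrp : r ≠ p) {d : ℕ} {ε : ℤ}
    (hε : ε = 1 ∨ ε = -1) (hd : d ∣ r ^ m) (hlt : d < r ^ a)
    (hdvd : (p : ℤ) ∣ ((r ^ a : ℕ) : ℤ) - ε * d) :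
    ∃ q : ℕ, IsPrimePow q ∧ q ∣ r ^ a ∧ ((q : ℤ) ≡ -1 [ZMOD p] ∨ (q : ℤ) ≡ 1 [ZMOD p]) := by
  obtain ⟨b, _, rfl⟩ := (Nat.dvd_prime_pow hr).1 hd
  have hba : b < a := (Nat.pow_lt_pow_iff_right hr.one_lt).1 hlt
  refine ⟨r ^ (a - b), ?_, pow_dvd_pow r (Nat.sub_le a b), ?_⟩
  · exact ⟨r, a - b, Nat.prime_iff.1 hr, Nat.sub_pos_of_lt hba, rfl⟩
  · have hsplit : r ^ a = r ^ b * r ^ (a - b) := by
      rw [← pow_add]; congr 1; omega
    have h1 : ((r ^ a : ℕ) : ℤ) - ε * (r ^ b : ℕ) = ((r ^ b : ℕ) : ℤ) * (((r ^ (a - b) : ℕ) : ℤ) - ε) := by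
      rw [hsplit]; push_cast; ring
    rw [h1] at hdvd
    have hpz : Prime (p : ℤ) := Nat.prime_iff_prime_int.1 hp
    rcases hpz.dvd_or_dvd hdvd with h | h
    · exfalso
      have h2 : p ∣ r ^ b := Int.natCast_dvd_natCast.1 h
      have h3 : p ∣ r := hp.dvd_of_dvd_pow h2
      exact hrp ((Nat.prime_dvd_prime_iff_eq hp hr).1 h3).symm
    · have h4 : ε ≡ ((r ^ (a - b) : ℕ) : ℤ) [ZMOD p] := Int.modEq_iff_dvd.2 h
      rcases hε with rfl | rfl
      · exact Or.inr h4.symm
      · exact Or.inl h4.symm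

variable {G : Type u} [Group G] [Finite G]

/-- a linear character has values of absolute value one -/
theorem norm_eq_one_of_linear {N : Type*} [Group N] [Finite N] {θ : N → ℂ}
    (hθ : IsCharacter N θ) (h1 : θ 1 = 1) (x : N) : ‖θ x‖ = 1 := by
  have h2 : θ x ^ orderOf x = 1 := by
    have := linearCharHom_apply hθ h1 (x ^ orderOf x)
    rw [map_pow, Units.val_pow_eq_pow_val, linearCharHom_apply, pow_orderOf_eq_one, h1] at this
    exact this
  exact Complex.norm_eq_one_of_pow_eq_one h2 (orderOf_pos x).ne'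

/-- **the quasi-primitive case** -/
theorem concl_of_invariant {p : ℕ} [hp : Fact p.Prime] (IH : Hyp.{u} p (Nat.card G))
    (hsolv : Group.IsSolvable G) {χ : G → ℂ} (hχ : IsIrrCharacter G χ)
    (hfaith : ∀ g : G, χ g = χ 1 → g = 1) (P : Sylow p G)
    (hP : ¬ (P : Subgroup G).Normal) (hpn : ¬ p ∣ charDegree χ)
    (hinv : ∀ (N : Subgroup G) (inst : Fintype N) (hN : N.Normal) (θ : IrrCharacter N),
      @classInner N _ inst (fun n : N => χ n) (θ : N → ℂ) ≠ 0 →
        ∀ g : G, conjFun N hN (θ : N → ℂ) g = (θ : N → ℂ)) :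
    Concl p (charDegree χ) := by
  classical
  have : Fintype G := Fintype.ofFinite _
  have := hsolv
  -- homogeneous restriction to every normal subgroup
  have hom : ∀ (N : Subgroup G) (hN : N.Normal), ∃ (θ : N → ℂ) (e : ℕ), IsIrrCharacter N θ ∧
      (∀ n : N, χ n = (e : ℂ) * θ n) ∧ (∀ x : N, θ x = θ 1 → x = 1) ∧
      charDegree θ ∣ charDegree χ ∧ ∀ g : G, conjFun N hN θ g = θ := by
    intro N hN
    have : Fintype N := Fintype.ofFinite _
    obtain ⟨θ, hc⟩ := exists_constituent_restrict N hχ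
    have hθinv := hinv N _ hN θ hc
    obtain ⟨e, hres, _⟩ :=
      Cfsg.Agent.Lib.Helper3.GoingDown.exists_nat_smul_of_invariant N hN hχ θ.2 hθinv hc
    have hval : ∀ n : N, χ n = (e : ℂ) * (θ : N → ℂ) n := by
      intro n
      have := congrFun hres n
      simpa using this
    refine ⟨θ, e, θ.2, hval, ?_, charDegree_dvd_of_constituent N hN ⟨χ, hχ⟩ θ hc, hθinv⟩
    intro x hx
    have h1 : χ (x : G) = χ 1 := by
      have e1 := hval x
      have e2 := hval 1
      rw [Subgroup.coe_one] at e2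
      rw [e1, e2, hx]
    have := hfaith _ h1
    exact_mod_cast this
  -- linear constituent implies central
  have hcentral : ∀ (N : Subgroup G) (hN : N.Normal) (θ : N → ℂ) (e : ℕ), IsIrrCharacter N θ →
      (∀ n : N, χ n = (e : ℂ) * θ n) → charDegree θ = 1 → N ≤ Subgroup.center G := by
    intro N hN θ e hθ hval hdeg x hx
    have hθ1 : θ 1 = 1 := by
      rw [IsCharacter.apply_one_eq_charDegree (IsIrrCharacter.isCharacter hθ), hdeg]; simp
    have hn1 : ‖χ x‖ = ‖χ 1‖ := by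
      have e1 := hval ⟨x, hx⟩
      have e2 := hval 1
      rw [Subgroup.coe_one] at e2
      simp only at e1
      rw [e1, e2, norm_mul, norm_mul,
        norm_eq_one_of_linear (IsIrrCharacter.isCharacter hθ) hθ1,
        norm_eq_one_of_linear (IsIrrCharacter.isCharacter hθ) hθ1]
    rw [Subgroup.mem_center_iff]
    intro g
    have h2 := apply_comm_of_norm_eq (IsIrrCharacter.isCharacter hχ) hn1 g
    have h3 := hfaith _ h2
    calc g * x = (g * x * g⁻¹ * x⁻¹) * x * g := by group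
      _ = x * g := by rw [h3, one_mul]
  -- `O_p(G)` is central
  have hOp : pCore p G ≤ Subgroup.center G := by
    have hN : (pCore p G).Normal := Cfsg.Agent.Lib.Helper7.pCore_normal p G
    obtain ⟨θ, e, hθ, hval, _, hdvd, _⟩ := hom (pCore p G) hN
    apply hcentral (pCore p G) hN θ e hθ hval
    obtain ⟨a, ha⟩ := IsPGroup.iff_card.1 (Cfsg.Agent.Lib.Helper7.pCore_isPGroup p G)
    have h1 : charDegree θ ∣ p ^ a := ha ▸ IsIrrCharacter.charDegree_dvd_card hθ
    obtain ⟨j, _, hj⟩ := (Nat.dvd_prime_pow hp.out).1 h1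
    rcases Nat.eq_zero_or_pos j with h0 | hpos
    · rw [hj, h0, pow_zero]
    · exfalso
      apply hpn
      refine dvd_trans ?_ hdvd
      rw [hj]
      exact dvd_pow_self p hpos.ne'
  -- some `O_r(G)` is not central
  have hex : ∃ r : Nat.Primes, ¬ pCore (r : ℕ) G ≤ Subgroup.center G := by
    by_contra hall
    push Not at hall
    apply hP
    have hF : Cfsg.fittingSubgroup G ≤ Subgroup.center G := by
      rw [Cfsg.Agent.Lib.Helper1.fittingSubgroup_eq_iSup_pCore]
      exact iSup_le hall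
    have hC : Subgroup.centralizer (Cfsg.fittingSubgroup G : Set G) = ⊤ :=
      Subgroup.centralizer_eq_top_iff_subset.2 hF
    have hFtop : (⊤ : Subgroup G) ≤ Cfsg.fittingSubgroup G := by
      rw [← hC]
      exact Cfsg.Agent.Lib.Helper1.centralizer_fittingSubgroup_le
    have hcomm : ∀ a b : G, a * b = b * a := by
      intro a b
      have : b ∈ Subgroup.center G := hF (hFtop (Subgroup.mem_top b))
      exact Subgroup.mem_center_iff.1 this a
    constructor
    intro x hx g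
    have : g * x * g⁻¹ = x := by rw [hcomm g x]; group
    rw [this]; exact hx
  obtain ⟨⟨r, hr⟩, hrc⟩ := hex
  simp only at hrc
  have hrp : r ≠ p := by
    rintro rfl
    exact hrc hOp
  set R : Subgroup G := pCore r G with hR
  have hRn : R.Normal := Cfsg.Agent.Lib.Helper7.pCore_normal r G
  set C : Subgroup G := Subgroup.centralizer (R : Set G) with hC
  have hCn : C.Normal := Subgroup.normal_centralizer
  have hCtop : C ≠ ⊤ := by
    intro h
    apply hrc
    exact Subgroup.centralizer_eq_top_iff_subset.1 h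
  by_cases hPC : (P : Subgroup G) ≤ C
  · exact concl_of_le_normal IH hsolv hχ hfaith P hP C hCtop hPC
  obtain ⟨x, hxP, hxC⟩ := SetLike.not_le_iff_exists.1 hPC
  rw [hC, Subgroup.mem_centralizer_iff] at hxC
  push Not at hxC
  obtain ⟨w, hw, hne⟩ := hxC
  obtain ⟨k, hk⟩ := (IsPGroup.iff_orderOf.1 P.isPGroup') ⟨x, hxP⟩
  rw [Subgroup.orderOf_mk] at hk
  have hk0 : k ≠ 0 := by
    rintro rfl
    rw [pow_zero, orderOf_eq_one_iff] at hk
    apply hne
    rw [hk]; simp
  obtain ⟨k', rfl⟩ := Nat.exists_eq_succ_of_ne_zero hk0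
  obtain ⟨θ, e, hθ, hval, hθfaith, hdvd, hθinv⟩ := hom R hRn
  haveI : Fact r.Prime := ⟨hr⟩
  obtain ⟨m, hm⟩ := IsPGroup.iff_card.1 (Cfsg.Agent.Lib.Helper7.pCore_isPGroup r G)
  have hcop : (Nat.card R).Coprime p := by
    rw [hm]
    exact Nat.Coprime.pow_left _ ((Nat.coprime_primes hr hp.out).2 hrp)
  have hxn : x ∈ Subgroup.normalizer (R : Set G) := by
    rw [Subgroup.normalizer_eq_top_iff.2 hRn]; trivial
  have hinvx : ∀ h h' : R, (h' : G) = x * h * x⁻¹ → θ h' = θ h := by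
    intro h h' hh'
    have := congrFun (hθinv x) h
    rw [conjFun_apply] at this
    rw [← this]
    congr 1
    exact Subtype.ext hh'
  obtain ⟨d, ε, hε, hd1, hd2, hd3, hd4⟩ :=
    core_ambient R x hxn hp.out hk hcop hθ hinvx
  obtain ⟨a, _, ha⟩ := (Nat.dvd_prime_pow hr).1 (hm ▸ IsIrrCharacter.charDegree_dvd_card hθ)
  have hdlt : d < charDegree θ := by
    apply lt_of_le_of_ne hd2
    intro hdeq
    apply hne
    have hk1 : w * x * w⁻¹ * x⁻¹ ∈ R := by
      have : x * w⁻¹ * x⁻¹ ∈ R := hRn.conj_mem _ (R.inv_mem hw) x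
      have := R.mul_mem hw this
      simpa [mul_assoc] using this
    have h5 := hd4 hdeq ⟨w, hw⟩ ⟨_, hk1⟩ rfl
    have h6 := hθfaith _ h5
    have h7 : w * x * w⁻¹ * x⁻¹ = 1 := congrArg Subtype.val h6
    calc w * x = (w * x * w⁻¹ * x⁻¹) * x * w := by group
      _ = x * w := by rw [h7, one_mul]
  rw [hm] at hd1
  rw [ha] at hdlt hd3
  obtain ⟨q, hq, hqd, hqm⟩ := arith_final hp.out hr hrp hε hd1 hdlt (by exact_mod_cast hd3)
  refine ⟨q, hq, (hqd.trans (ha ▸ dvd_rfl)).trans hdvd, ?_⟩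
  rcases hqm with h | h
  · exact Or.inl h
  · exact Or.inr (Or.inr h)

end Cfsg.Agent.Lib.Helper3.Winter
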