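import Mathlib
import Cfsg.Agent.Lib.Helper3.Winter6

set_option autoImplicit false

/-! Winter's theorem, part 7: the induction. -/

namespace Cfsg.Agent.Lib.Helper3.Winter

open Cfsg Cfsg.Agent.Lib.Helper6

universe u

/-- the inductive step -/
theorem step {G : Type u} [Group G] [Finite G] {p : ℕ} [hp : Fact p.Prime]
    (IH : Hyp.{u} p (Nat.card G))
    (hsolv : Group.IsSolvable G) {χ : G → ℂ} (hχ : IsIrrCharacter G χ)
    (hfaith : ∀ g : G, χ g = χ 1 → g = 1) (P : Sylow p G)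
    (hP : ¬ (P : Subgroup G).Normal) : Concl p (charDegree χ) := by
  classical
  by_cases hpn : p ∣ charDegree χ
  · refine ⟨p, hp.out.isPrimePow, hpn, Or.inr (Or.inl ?_)⟩
    exact Int.modEq_zero_iff_dvd.2 dvd_rfl
  by_cases hinv : ∀ (N : Subgroup G) (inst : Fintype N) (hN : N.Normal) (θ : IrrCharacter N),
      @classInner N _ inst (fun n : N => χ n) (θ : N → ℂ) ≠ 0 →
        ∀ g : G, conjFun N hN (θ : N → ℂ) g = (θ : N → ℂ)
  · exact concl_of_invariant IH hsolv hχ hfaith P hP hpn hinv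
  · push Not at hinv
    obtain ⟨N, inst, hN, θ, hc, g₀, hg₀⟩ := hinv
    exact concl_of_not_invariant IH hsolv hχ hfaith P hP hpn N hN θ hc g₀ hg₀

theorem hyp_all (p : ℕ) [hp : Fact p.Prime] : ∀ m : ℕ, Hyp.{u} p m := by
  intro m
  induction m with
  | zero =>
    intro H _ _ hcard
    exact absurd hcard (Nat.not_lt_zero _)
  | succ m ih =>
    intro H _ _ hcard hsolv ξ hξ hfaith Q hQ
    have hle : Nat.card H ≤ m := Nat.lt_succ_iff.1 hcard
    have IH : Hyp.{u} p (Nat.card H) := by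
      intro H' _ _ hcard' hsolv' ξ' hξ' hfaith' Q' hQ'
      exact ih H' (lt_of_lt_of_le hcard' hle) hsolv' ξ' hξ' hfaith' Q' hQ'
    exact step IH hsolv hξ hfaith Q hQ

/-- **Winter's theorem** -/
theorem winter {G : Type u} [Group G] [Finite G] {p : ℕ} [hp : Fact p.Prime]
    (hsolv : Group.IsSolvable G) {χ : G → ℂ} (hχ : IsIrrCharacter G χ)
    (hfaith : ∀ g : G, χ g = χ 1 → g = 1) (P : Sylow p G)
    (hP : ¬ (P : Subgroup G).Normal) : Concl p (charDegree χ) :=
  hyp_all p (Nat.card G + 1) G (Nat.lt_succ_self _) hsolv χ hχ hfaith P hP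

end Cfsg.Agent.Lib.Helper3.Winter
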