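import Mathlib

/-!
# Extension field normalisers (S5886): basic calculus

Abstract setting: fields `F ⊆ L`, an `L`-space `V` viewed as an `F`-space, the group
`V ≃ₗ[F] V`.  `In H N` says that `x ↦ x + N x` belongs to the subgroup `H`.
-/

set_option autoImplicit false
set_option maxHeartbeats 4000000
set_option maxRecDepth 100000
set_option linter.unusedVariables false
set_option linter.unusedSectionVars false
set_option linter.style.longLine false
set_option linter.style.haveILetI false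
set_option linter.deprecated false

namespace Cfsg.Agent.Lib.Helper3.XF

open Module

section InCalc

variable {F V : Type*} [Field F] [AddCommGroup V] [Module F V]

/-- `In H N`: the map `x ↦ x + N x` is an element of `H`. -/
def In (H : Subgroup (V ≃ₗ[F] V)) (N : V →ₗ[F] V) : Prop :=
  ∃ e ∈ H, ∀ x, e x = x + N x

theorem In.zero (H : Subgroup (V ≃ₗ[F] V)) : In H (0 : V →ₗ[F] V) :=
  ⟨1, H.one_mem, fun x => by simp⟩

theorem In.congr {H : Subgroup (V ≃ₗ[F] V)} {N N' : V →ₗ[F] V} (h : In H N)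
    (hNN' : ∀ x, N' x = N x) : In H N' := by
  obtain ⟨e, he, hex⟩ := h
  exact ⟨e, he, fun x => by rw [hex, hNN']⟩

theorem In.add {H : Subgroup (V ≃ₗ[F] V)} {N N' : V →ₗ[F] V} (h : In H N) (h' : In H N')
    (hc : ∀ x, N (N' x) = 0) : In H (N + N') := by
  obtain ⟨e, he, hex⟩ := h
  obtain ⟨e', he', hex'⟩ := h'
  refine ⟨e * e', H.mul_mem he he', fun x => ?_⟩
  rw [LinearEquiv.mul_apply, hex', hex, map_add, hc, LinearMap.add_apply]
  abel

theorem inv_apply_of {e : V ≃ₗ[F] V} {N : V →ₗ[F] V} (hex : ∀ x, e x = x + N x)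
    (hN : ∀ x, N (N x) = 0) (x : V) : e⁻¹ x = x - N x := by
  apply e.injective
  rw [LinearEquiv.coe_inv, e.apply_symm_apply, hex, map_sub, hN]
  abel

theorem In.neg {H : Subgroup (V ≃ₗ[F] V)} {N : V →ₗ[F] V} (h : In H N)
    (hN : ∀ x, N (N x) = 0) : In H (-N) := by
  obtain ⟨e, he, hex⟩ := h
  refine ⟨e⁻¹, H.inv_mem he, fun x => ?_⟩
  rw [inv_apply_of hex hN, LinearMap.neg_apply, sub_eq_add_neg]

theorem In.conj {H : Subgroup (V ≃ₗ[F] V)} {N N' : V →ₗ[F] V} (h : In H N)
    {g : V ≃ₗ[F] V} (hg : g ∈ H) (hN' : ∀ x, N' x = g (N (g.symm x))) : In H N' := by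
  obtain ⟨e, he, hex⟩ := h
  refine ⟨g * e * g⁻¹, H.mul_mem (H.mul_mem hg he) (H.inv_mem hg), fun x => ?_⟩
  rw [LinearEquiv.mul_apply, LinearEquiv.mul_apply, LinearEquiv.coe_inv, hex, map_add,
    g.apply_symm_apply, hN']

/-- commutator fact: `N² = N'² = 0`, `N' N = 0` ⟹ `[1+N, 1+N'] = 1 + N N'`. -/
theorem In.comm {H : Subgroup (V ≃ₗ[F] V)} {N N' M : V →ₗ[F] V} (h : In H N) (h' : In H N')
    (hN : ∀ x, N (N x) = 0) (hN' : ∀ x, N' (N' x) = 0) (hc : ∀ x, N' (N x) = 0)
    (hM : ∀ x, M x = N (N' x)) : In H M := by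
  obtain ⟨e, he, hex⟩ := h
  obtain ⟨e', he', hex'⟩ := h'
  refine ⟨e * e' * e⁻¹ * e'⁻¹,
    H.mul_mem (H.mul_mem (H.mul_mem he he') (H.inv_mem he)) (H.inv_mem he'), fun x => ?_⟩
  rw [LinearEquiv.mul_apply, LinearEquiv.mul_apply, LinearEquiv.mul_apply,
    inv_apply_of hex' hN', inv_apply_of hex hN, hex', hex, hM]
  simp only [map_sub, map_add, hN, hN', hc, sub_zero, add_zero]
  abel

/-- an element of `H` of the shape `1 + N`. -/
theorem In.of_mem {H : Subgroup (V ≃ₗ[F] V)} {N : V →ₗ[F] V} {e : V ≃ₗ[F] V} (he : e ∈ H)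
    (hex : ∀ x, e x = x + N x) : In H N := ⟨e, he, hex⟩

end InCalc

section Rep

variable {F L : Type*} [Field F] [Field L] [Algebra F L]

theorem f0_inj {f0 : L →ₗ[F] F} (hf0 : f0 ≠ 0) {a b : L}
    (h : ∀ x, f0 (a * x) = f0 (b * x)) : a = b := by
  by_contra hab
  have hne : a - b ≠ 0 := sub_ne_zero.mpr hab
  apply hf0
  ext x
  have h1 := h ((a - b)⁻¹ * x)
  have h2 : f0 ((a - b) * ((a - b)⁻¹ * x)) = 0 := by rw [sub_mul, map_sub, h1, sub_self]
  rw [← mul_assoc, mul_inv_cancel₀ hne, one_mul] at h2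
  simpa using h2

theorem dual_rep [FiniteDimensional F L] {f0 : L →ₗ[F] F} (hf0 : f0 ≠ 0) (g : L →ₗ[F] F) :
    ∃ a : L, ∀ x, g x = f0 (a * x) := by
  let Θ : L →ₗ[F] (L →ₗ[F] F) :=
    { toFun := fun a => f0.comp (LinearMap.mulLeft F a)
      map_add' := fun a b => by ext x; simp [add_mul]
      map_smul' := fun c a => by ext x; simp }
  have hinj : Function.Injective Θ := by
    intro a b hab
    apply f0_inj hf0
    intro x
    have := LinearMap.congr_fun hab x
    simpa [Θ] using this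
  have hsurj : Function.Surjective Θ :=
    (LinearMap.injective_iff_surjective_of_finrank_eq_finrank
      (Subspace.dual_finrank_eq (K := F) (V := L)).symm).mp hinj
  obtain ⟨a, ha⟩ := hsurj g
  exact ⟨a, fun x => by rw [← ha]; simp [Θ]⟩

variable {V : Type*} [AddCommGroup V] [Module F V] [Module L V] [IsScalarTower F L V]

/-- every `F`-functional on `V` is `f0 ∘ φ` for an `L`-functional `φ`. -/
theorem fun_rep [FiniteDimensional F L] {f0 : L →ₗ[F] F} (hf0 : f0 ≠ 0) (ψ : V →ₗ[F] F) :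
    ∃ φ : V →ₗ[L] L, ∀ x, ψ x = f0 (φ x) := by
  have hex : ∀ x : V, ∃ a : L, ∀ l : L, ψ (l • x) = f0 (a * l) := by
    intro x
    obtain ⟨a, ha⟩ := dual_rep hf0 (ψ.comp ((LinearMap.toSpanSingleton L V x).restrictScalars F))
    exact ⟨a, fun l => by simpa using ha l⟩
  choose φ hφ using hex
  refine ⟨{ toFun := φ, map_add' := ?_, map_smul' := ?_ }, fun x => ?_⟩
  · intro x y
    apply f0_inj hf0
    intro l
    rw [← hφ, smul_add, map_add, hφ, hφ, add_mul, map_add]
  · intro m x
    apply f0_inj hf0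
    intro l
    simp only [RingHom.id_apply, smul_eq_mul]
    rw [← hφ (m • x) l, smul_smul, hφ x (l * m)]
    congr 1
    ring
  · have := hφ x 1
    simpa using this

end Rep

section LinAlg

variable {L V : Type*} [Field L] [AddCommGroup V] [Module L V]

theorem exists_fun_pair {v a : V} (hv : v ≠ 0) (ha : a ∉ Submodule.span L {v}) (c d : L) :
    ∃ φ : V →ₗ[L] L, φ v = c ∧ φ a = d := by
  obtain ⟨f, hfa, hf⟩ := Submodule.exists_dual_map_eq_bot_of_notMem ha inferInstance
  have hfv : f v = 0 := by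
    have : f v ∈ (Submodule.span L {v}).map f :=
      Submodule.mem_map_of_mem (Submodule.mem_span_singleton_self v)
    rw [hf] at this
    simpa using this
  have hv' : v ∉ Submodule.span L {a} := by
    intro hmem
    obtain ⟨m, hm⟩ := Submodule.mem_span_singleton.mp hmem
    have hm0 : m ≠ 0 := by
      rintro rfl
      rw [zero_smul] at hm
      exact hv hm.symm
    apply ha
    rw [Submodule.mem_span_singleton]
    exact ⟨m⁻¹, by rw [← hm, smul_smul, inv_mul_cancel₀ hm0, one_smul]⟩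
  obtain ⟨g, hgv, hg⟩ := Submodule.exists_dual_map_eq_bot_of_notMem hv' inferInstance
  have hga : g a = 0 := by
    have : g a ∈ (Submodule.span L {a}).map g :=
      Submodule.mem_map_of_mem (Submodule.mem_span_singleton_self a)
    rw [hg] at this
    simpa using this
  refine ⟨(c * (g v)⁻¹) • g + (d * (f a)⁻¹) • f, ?_, ?_⟩
  · simp [hfv, hgv]
  · simp [hga, hfa]

/-- a functional with prescribed nonzero value at a nonzero vector -/
theorem exists_fun_one {v : V} (hv : v ≠ 0) (c : L) : ∃ φ : V →ₗ[L] L, φ v = c := by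
  have h0 : v ∉ (⊥ : Submodule L V) := by simpa using hv
  obtain ⟨f, hfv, -⟩ := Submodule.exists_dual_map_eq_bot_of_notMem h0 inferInstance
  exact ⟨(c * (f v)⁻¹) • f, by simp [hfv]⟩

theorem exists_not_mem_span [FiniteDimensional L V] (hm : 2 ≤ finrank L V) (v : V) :
    ∃ a : V, a ∉ Submodule.span L {v} := by
  by_contra hcon
  push Not at hcon
  have htop : Submodule.span L {v} = ⊤ := by
    rw [eq_top_iff]; intro x _; exact hcon x
  have h1 : finrank L (Submodule.span L {v}) ≤ 1 := by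
    by_cases hv : v = 0
    · rw [hv, Submodule.span_zero_singleton, finrank_bot]
      omega
    · rw [finrank_span_singleton hv]
  rw [htop, finrank_top] at h1
  omega

end LinAlg

section M0

variable {F : Type*} (L : Type*) {V : Type*} [Field F] [Field L] [Algebra F L]
  [AddCommGroup V] [Module F V] [Module L V] [IsScalarTower F L V]

/-- `H` contains all `L`-linear automorphisms whose determinant has norm one. -/
def ContainsM0 (H : Subgroup (V ≃ₗ[F] V)) : Prop :=
  ∀ g : V ≃ₗ[L] V, Algebra.norm F (LinearMap.det (g : V →ₗ[L] V)) = 1 →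
    g.restrictScalars F ∈ H

variable {L}

theorem ktv_in {H : Subgroup (V ≃ₗ[F] V)} (hH : ContainsM0 L H) (φ : V →ₗ[L] L) (a : V)
    (h : φ a = 0) : In H ((φ.smulRight a).restrictScalars F) := by
  refine ⟨(LinearEquiv.transvection h).restrictScalars F, hH _ ?_, fun x => ?_⟩
  · have := LinearEquiv.transvection.det_eq_one h
    rw [← Units.val_inj, LinearEquiv.coe_det] at this
    rw [this]
    simp
  · simp [LinearMap.transvection.apply]

/-- dilations of norm one -/
theorem dil_mem [FiniteDimensional F L] [FiniteDimensional L V] {H : Subgroup (V ≃ₗ[F] V)} (hH : ContainsM0 L H)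
    (φ : V →ₗ[L] L) (a : V) (μ : L) (hμ : Algebra.norm F μ = 1) (h : 1 + φ a = μ) :
    ∃ e ∈ H, ∀ x, e x = x + φ x • a := by
  have hμ0 : μ ≠ 0 := by
    rintro rfl
    rw [Algebra.norm_zero] at hμ
    exact zero_ne_one hμ
  have hu : IsUnit (1 + φ a) := by rw [h]; exact isUnit_iff_ne_zero.mpr hμ0
  refine ⟨(LinearEquiv.dilatransvection hu).restrictScalars F, hH _ ?_, fun x => ?_⟩
  · rw [LinearEquiv.dilatransvection.coe_toLinearMap, LinearMap.transvection.det, h, hμ]
  · simp [LinearEquiv.dilatransvection.apply]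

/-- conjugation by elements of `M0` that are `L`-linear -/
theorem In.conjL {H : Subgroup (V ≃ₗ[F] V)} (hH : ContainsM0 L H) {N N' : V →ₗ[F] V}
    (h : In H N) (g : V ≃ₗ[L] V)
    (hg : Algebra.norm F (LinearMap.det (g : V →ₗ[L] V)) = 1)
    (hN' : ∀ x, N' x = g (N (g.symm x))) : In H N' :=
  h.conj (hH g hg) (fun x => by rw [hN']; rfl)

end M0

end Cfsg.Agent.Lib.Helper3.XF
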