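import Mathlib

/-!
# The norm-one elements of a finite field extension generate the field (as a ring)
-/

set_option autoImplicit false
set_option maxHeartbeats 4000000
set_option maxRecDepth 100000
set_option linter.unusedVariables false
set_option linter.unusedSectionVars false
set_option linter.style.longLine false
set_option linter.style.haveILetI false
set_option linter.deprecated false

namespace Cfsg.Agent.Lib.Helper3.XF

open Module

theorem card_norm_one {F L : Type*} [Field F] [Field L] [Algebra F L] [Finite L] :
    Nat.card (MonoidHom.ker (Units.map (Algebra.norm F (S := L) : L →* F))) * (Nat.card F - 1)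
      = Nat.card L - 1 := by
  have hFfin : Finite F := Finite.of_injective _ (algebraMap F L).injective
  have hs := FiniteField.unitsMap_norm_surjective F L
  have h1 := Subgroup.card_mul_index (MonoidHom.ker (Units.map (Algebra.norm F (S := L) : L →* F)))
  rw [Subgroup.index_ker, MonoidHom.range_eq_top.mpr hs] at h1
  rw [Nat.card_congr (Subgroup.topEquiv (G := Fˣ)).toEquiv, Nat.card_units, Nat.card_units] at h1
  exact h1

theorem norm_one_closure {F L : Type*} [Field F] [Field L] [Algebra F L] [Finite L]
    (hr : 2 ≤ finrank F L) (R : Subring L) (hR : ∀ u : L, Algebra.norm F u = 1 → u ∈ R) :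
    R = ⊤ := by
  classical
  have hFfin : Finite F := Finite.of_injective _ (algebraMap F L).injective
  have hLfd : FiniteDimensional F L := Module.Finite.of_finite
  have hcL : 2 ≤ Nat.card L := Finite.one_lt_card
  have hcF : 2 ≤ Nat.card F := Finite.one_lt_card
  have hinv : ∀ x ∈ R, x⁻¹ ∈ R := by
    intro x hx
    by_cases hx0 : x = 0
    · rw [hx0, inv_zero]; exact R.zero_mem
    · have h1 : x ^ (Nat.card L - 1) = 1 := by
        have := Fintype.ofFinite L
        rw [Nat.card_eq_fintype_card]
        exact FiniteField.pow_card_sub_one_eq_one x hx0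
      have h2 : x * x ^ (Nat.card L - 2) = 1 := by
        rw [← pow_succ']
        have : Nat.card L - 2 + 1 = Nat.card L - 1 := by omega
        rw [this, h1]
      have h3 : x⁻¹ = x ^ (Nat.card L - 2) := by
        rw [inv_eq_iff_eq_inv]
        exact eq_inv_of_mul_eq_one_left h2
      rw [h3]
      exact R.pow_mem hx _
  let S : Subfield L := { R with inv_mem' := hinv }
  have hSR : ∀ x, x ∈ S ↔ x ∈ R := fun x => Iff.rfl
  -- counting
  have hU := card_norm_one (F := F) (L := L)
  set U := Nat.card (MonoidHom.ker (Units.map (Algebra.norm F (S := L) : L →* F))) with hUdef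
  have hUS : U + 1 ≤ Nat.card S := by
    let f : Option (MonoidHom.ker (Units.map (Algebra.norm F (S := L) : L →* F))) → S :=
      fun o => match o with
        | none => ⟨0, S.zero_mem⟩
        | some u => ⟨((u : Lˣ) : L), (hSR _).mpr (hR _ (by
            have := u.2
            rw [MonoidHom.mem_ker] at this
            have h2 := congrArg Units.val this
            simpa using h2))⟩
    have hf : Function.Injective f := by
      intro a b hab
      cases a with
      | none =>
        cases b with
        | none => rfl
        | some v =>
          exfalso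
          have : (0 : L) = ((v : Lˣ) : L) := congrArg Subtype.val hab
          exact (Units.ne_zero (v : Lˣ)) this.symm
      | some u =>
        cases b with
        | none =>
          exfalso
          have : ((u : Lˣ) : L) = 0 := congrArg Subtype.val hab
          exact (Units.ne_zero (u : Lˣ)) this
        | some v =>
          have : ((u : Lˣ) : L) = ((v : Lˣ) : L) := congrArg Subtype.val hab
          congr 1
          exact Subtype.ext (Units.ext this)
    have := Nat.card_le_card_of_injective f hf
    rwa [Finite.card_option] at this
  have hpow : Nat.card L = Nat.card S ^ finrank S L := Module.natCard_eq_pow_finrank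
  have hLF : Nat.card L = Nat.card F ^ finrank F L := Module.natCard_eq_pow_finrank
  have hk0 : finrank S L ≠ 0 := by
    intro h0
    rw [h0, pow_zero] at hpow
    omega
  have hk1 : finrank S L = 1 := by
    by_contra hne
    have hk2 : 2 ≤ finrank S L := by omega
    have hS2 : 2 ≤ Nat.card S := Finite.one_lt_card
    have h3 : Nat.card S ^ 2 ≤ Nat.card L := by
      rw [hpow]
      exact Nat.pow_le_pow_right (by omega) hk2
    have h4 : Nat.card F ^ 2 ≤ Nat.card L := by
      rw [hLF]
      exact Nat.pow_le_pow_right (by omega) hr
    -- arithmetic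
    obtain ⟨p, hp⟩ : ∃ p, Nat.card F = p + 1 := ⟨Nat.card F - 1, by omega⟩
    obtain ⟨s, hs⟩ : ∃ s, Nat.card S = s + 2 := ⟨Nat.card S - 2, by omega⟩
    obtain ⟨Q, hQ⟩ : ∃ Q, Nat.card L = Q + 1 := ⟨Nat.card L - 1, by omega⟩
    rw [hp, hQ] at hU
    simp only [Nat.add_sub_cancel] at hU
    rw [hs] at hUS h3
    rw [hQ] at h3 h4
    rw [hp] at h4
    have h5 : U ≤ s + 1 := by omega
    have h6 : Q ≤ (s + 1) * p := by rw [← hU]; exact Nat.mul_le_mul_right p h5
    have h7 : s + 3 ≤ p := by nlinarith
    nlinarith
  have hST : S = ⊤ := by
    rw [hk1, pow_one] at hpow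
    have hfin : (S : Set L) = Set.univ := by
      apply Set.eq_of_subset_of_ncard_le (Set.subset_univ _)
      · rw [Set.ncard_univ, hpow]
        exact le_of_eq (Nat.card_coe_set_eq _)
    exact SetLike.coe_injective (by simpa using hfin)
  rw [eq_top_iff]
  intro x _
  have : x ∈ S := by rw [hST]; trivial
  exact (hSR x).mp this

/-- an additive subgroup of an `L`-module stable under norm-one scalars is stable under all
scalars. -/
theorem smul_mem_of_norm_one {F L M : Type*} [Field F] [Field L] [Algebra F L] [Finite L]
    (hr : 2 ≤ finrank F L) [AddCommGroup M] [Module L M] (A : AddSubgroup M)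
    (hA : ∀ u : L, Algebra.norm F u = 1 → ∀ x ∈ A, u • x ∈ A) (l : L) (x : M) (hx : x ∈ A) :
    l • x ∈ A := by
  let R : Subring L :=
    { carrier := {l | ∀ x ∈ A, l • x ∈ A}
      mul_mem' := fun {a b} ha hb x hx => by rw [mul_smul]; exact ha _ (hb _ hx)
      one_mem' := fun x hx => by rw [one_smul]; exact hx
      add_mem' := fun {a b} ha hb x hx => by rw [add_smul]; exact A.add_mem (ha _ hx) (hb _ hx)
      zero_mem' := fun x hx => by rw [zero_smul]; exact A.zero_mem
      neg_mem' := fun {a} ha x hx => by rw [neg_smul]; exact A.neg_mem (ha _ hx) }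
  have hR : R = ⊤ := norm_one_closure (F := F) hr R (fun u hu => hA u hu)
  have : l ∈ R := by rw [hR]; trivial
  exact this x hx

end Cfsg.Agent.Lib.Helper3.XF
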