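import Mathlib
import Cfsg.Agent.Lib.Helper3.XFBasic
import Cfsg.Agent.Lib.Helper3.XFNorm

/-!
# Lemma A (abstract form): idealiser argument and Jacobson density
-/

set_option autoImplicit false
set_option maxHeartbeats 4000000
set_option maxRecDepth 100000
set_option linter.unusedVariables false
set_option linter.unusedSectionVars false
set_option linter.style.longLine false
set_option linter.style.haveILetI false
set_option linter.deprecated false

namespace Cfsg.Agent.Lib.Helper3.XF

open Module

/-- the centraliser of `End_L(W)` consists of scalars -/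
theorem centralizer_scalar {L W : Type*} [Field L] [AddCommGroup W] [Module L W] [Nontrivial W]
    (T : W → W) (hT : ∀ (S : W →ₗ[L] W) (w : W), T (S w) = S (T w)) :
    ∃ μ : L, ∀ w, T w = μ • w := by
  obtain ⟨w0, hw0⟩ := exists_ne (0 : W)
  obtain ⟨χ, hχ⟩ := exists_fun_one hw0 (1 : L)
  refine ⟨χ (T w0), fun w => ?_⟩
  have := hT (χ.smulRight w) w0
  simp only [LinearMap.smulRight_apply, hχ, one_smul] at this
  exact this

section A

variable {F L W : Type*} [Field F] [Field L] [Algebra F L] [Finite L] [FiniteDimensional F L]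
  [AddCommGroup W] [Module F W] [Module L W] [IsScalarTower F L W] [FiniteDimensional L W]
  [Nontrivial W]

/-- a subring of `End_F(W)` containing `End_L(W)` is contained in `End_L(W)` or is everything -/
theorem dichotomy (hr : (finrank F L).Prime) (R : Subring (Module.End F W))
    (hR : ∀ T : W →ₗ[L] W, T.restrictScalars F ∈ R) :
    (∀ T ∈ R, ∀ (l : L) (w : W), T (l • w) = l • T w) ∨ R = ⊤ := by
  classical
  let C : Subalgebra F L :=
    { carrier := {l | ∀ T ∈ R, ∀ w : W, T (l • w) = l • T w}
      mul_mem' := fun {a b} ha hb T hT w => by rw [mul_smul, ha T hT, hb T hT, mul_smul]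
      one_mem' := fun T hT w => by simp
      add_mem' := fun {a b} ha hb T hT w => by
        rw [add_smul, map_add, ha T hT, hb T hT, add_smul]
      zero_mem' := fun T hT w => by simp
      algebraMap_mem' := fun c T hT w => by
        rw [algebraMap_smul, map_smul, algebraMap_smul] }
  have hsimple := Subalgebra.isSimpleOrder_of_finrank_prime F L hr
  rcases hsimple.eq_bot_or_eq_top C with hC | hC
  · right
    haveI : FiniteDimensional F W := FiniteDimensional.trans F L W
    haveI : IsSimpleModule ↥R W := by
      refine isSimpleModule_iff_toSpanSingleton_surjective.mpr ⟨inferInstance, fun x hx w => ?_⟩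
      obtain ⟨χ, hχ⟩ := exists_fun_one hx (1 : L)
      refine ⟨⟨(χ.smulRight w).restrictScalars F, hR _⟩, ?_⟩
      show (χ.smulRight w) x = w
      rw [LinearMap.smulRight_apply, hχ, one_smul]
    rw [eq_top_iff]
    intro T _
    have hcomm : ∀ (g : Module.End ↥R W) (w : W), T (g w) = g (T w) := by
      intro g w
      obtain ⟨μ, hμ⟩ := centralizer_scalar (L := L) (fun w => g w) (fun S w =>
        g.map_smul ⟨S.restrictScalars F, hR S⟩ w)
      have hμC : μ ∈ C := fun T' hT' w' => by
        have h1 : g (T' w') = T' (g w') := (g.map_smul ⟨T', hT'⟩ w')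
        have e1 : g w' = μ • w' := hμ w'
        have e2 : g (T' w') = μ • T' w' := hμ (T' w')
        rw [← e1, ← e2, h1]
      rw [hC] at hμC
      obtain ⟨c, hc⟩ := Algebra.mem_bot.mp hμC
      have e1 : g w = μ • w := hμ w
      have e2 : g (T w) = μ • T w := hμ (T w)
      rw [e1, e2, ← hc, algebraMap_smul, algebraMap_smul, map_smul]
    let f : Module.End (Module.End ↥R W) W :=
      { toFun := fun w => T w
        map_add' := T.map_add
        map_smul' := fun g w => hcomm g w }
    let b := Module.finBasis F W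
    obtain ⟨r, hr'⟩ := jacobson_density f (Finset.univ.image b)
    have hTr : T = r.1 := by
      apply b.ext
      intro i
      exact hr' (b i) (by simp)
    rw [hTr]
    exact r.2
  · left
    intro T hT l w
    have : l ∈ C := by rw [hC]; trivial
    exact this T hT w

/-- the idealiser of `𝔞` -/
def idealiser (𝔞 : AddSubgroup (L →ₗ[F] W)) : Subring (Module.End F W) where
  carrier := {T | ∀ B ∈ 𝔞, LinearMap.comp T B ∈ 𝔞}
  mul_mem' := fun {T T'} hT hT' B hB => hT _ (hT' _ hB)
  one_mem' := fun B hB => hB
  add_mem' := fun {T T'} hT hT' B hB => by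
    have : LinearMap.comp (T + T') B = LinearMap.comp T B + LinearMap.comp T' B :=
      LinearMap.add_comp _ _ _
    rw [this]
    exact 𝔞.add_mem (hT _ hB) (hT' _ hB)
  zero_mem' := fun B hB => by
    have : LinearMap.comp (0 : Module.End F W) B = 0 := LinearMap.zero_comp _
    rw [this]
    exact 𝔞.zero_mem
  neg_mem' := fun {T} hT B hB => by
    have : LinearMap.comp (-T) B = -LinearMap.comp T B := LinearMap.neg_comp _ _
    rw [this]
    exact 𝔞.neg_mem (hT _ hB)

theorem mem_idealiser {𝔞 : AddSubgroup (L →ₗ[F] W)} {T : Module.End F W} :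
    T ∈ idealiser 𝔞 ↔ ∀ B ∈ 𝔞, LinearMap.comp T B ∈ 𝔞 := Iff.rfl

/-- `End_L(W)` is contained in the idealiser. -/
theorem endL_le_idealiser (hr : 2 ≤ finrank F L) (𝔞 : AddSubgroup (L →ₗ[F] W))
    (h3a : ∀ (a : W) (χ : W →ₗ[L] L), χ a = 0 → ∀ B ∈ 𝔞,
      ((χ.smulRight a).restrictScalars F).comp B ∈ 𝔞)
    (h3b : finrank L W = 1 → ∀ μ : L, Algebra.norm F μ = 1 → ∀ B ∈ 𝔞,
      ((LinearMap.lsmul L W μ).restrictScalars F).comp B ∈ 𝔞)
    (T : W →ₗ[L] W) : T.restrictScalars F ∈ idealiser 𝔞 := by
  classical
  have hpos : 0 < finrank L W := finrank_pos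
  by_cases h1 : finrank L W = 1
  · -- scalars
    let R0 : Subring L :=
      { carrier := {l | (LinearMap.lsmul L W l).restrictScalars F ∈ idealiser 𝔞}
        mul_mem' := fun {a b} ha hb => by
          have : (LinearMap.lsmul L W (a * b)).restrictScalars F =
              ((LinearMap.lsmul L W a).restrictScalars F) *
                ((LinearMap.lsmul L W b).restrictScalars F) := by
            ext w
            simp only [LinearMap.coe_restrictScalars, LinearMap.lsmul_apply, Module.End.mul_apply,
              mul_smul]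
          show _ ∈ idealiser 𝔞
          rw [this]
          exact (idealiser 𝔞).mul_mem ha hb
        one_mem' := by
          have : (LinearMap.lsmul L W (1 : L)).restrictScalars F = (1 : Module.End F W) := by
            ext w; simp
          show _ ∈ idealiser 𝔞
          rw [this]
          exact (idealiser 𝔞).one_mem
        add_mem' := fun {a b} ha hb => by
          have : (LinearMap.lsmul L W (a + b)).restrictScalars F =
              ((LinearMap.lsmul L W a).restrictScalars F) +
                ((LinearMap.lsmul L W b).restrictScalars F) := by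
            ext w; simp [add_smul]
          show _ ∈ idealiser 𝔞
          rw [this]
          exact (idealiser 𝔞).add_mem ha hb
        zero_mem' := by
          have : (LinearMap.lsmul L W (0 : L)).restrictScalars F = (0 : Module.End F W) := by
            ext w; simp
          show _ ∈ idealiser 𝔞
          rw [this]
          exact (idealiser 𝔞).zero_mem
        neg_mem' := fun {a} ha => by
          have : (LinearMap.lsmul L W (-a)).restrictScalars F =
              -((LinearMap.lsmul L W a).restrictScalars F) := by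
            ext w; simp
          show _ ∈ idealiser 𝔞
          rw [this]
          exact (idealiser 𝔞).neg_mem ha }
    have hR0 : R0 = ⊤ := norm_one_closure (F := F) hr R0 (fun u hu => h3b h1 u hu)
    obtain ⟨w0, hw0⟩ := exists_ne (0 : W)
    have hspan := (finrank_eq_one_iff_of_nonzero' w0 hw0).mp h1
    obtain ⟨d, hd⟩ := hspan (T w0)
    have hT : T.restrictScalars F = (LinearMap.lsmul L W d).restrictScalars F := by
      ext w
      obtain ⟨c, hc⟩ := hspan w
      simp only [LinearMap.coe_restrictScalars, LinearMap.lsmul_apply]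
      rw [← hc, map_smul, ← hd, smul_comm]
    rw [hT]
    have : d ∈ R0 := by rw [hR0]; trivial
    exact this
  · have h2 : 2 ≤ finrank L W := by omega
    -- rank one maps
    have hrk : ∀ (a : W) (χ : W →ₗ[L] L), (χ.smulRight a).restrictScalars F ∈ idealiser 𝔞 := by
      intro a χ
      by_cases hχa : χ a = 0
      · exact fun B hB => h3a a χ hχa B hB
      · have ha0 : a ≠ 0 := by
          rintro rfl
          exact hχa (map_zero _)
        obtain ⟨w1, hw1⟩ := exists_not_mem_span h2 a
        have ha' : w1 - (χ w1 * (χ a)⁻¹) • a ∉ Submodule.span L {a} := by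
          intro hmem
          apply hw1
          have h3 : (χ w1 * (χ a)⁻¹) • a ∈ Submodule.span L {a} :=
            Submodule.smul_mem _ _ (Submodule.mem_span_singleton_self a)
          have := Submodule.add_mem _ hmem h3
          simpa using this
        have hχa' : χ (w1 - (χ w1 * (χ a)⁻¹) • a) = 0 := by
          rw [map_sub, map_smul, smul_eq_mul, mul_assoc, inv_mul_cancel₀ hχa, mul_one, sub_self]
        obtain ⟨χ1, hχ1a, hχ1a'⟩ := exists_fun_pair ha0 ha' (0 : L) 1
        have e : (χ.smulRight a).restrictScalars F =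
            ((χ1.smulRight a).restrictScalars F) *
              ((χ.smulRight (w1 - (χ w1 * (χ a)⁻¹) • a)).restrictScalars F) := by
          ext x
          simp only [LinearMap.coe_restrictScalars, LinearMap.smulRight_apply,
            Module.End.mul_apply, map_smul, hχ1a', smul_eq_mul, mul_one, one_smul]
        rw [e]
        exact (idealiser 𝔞).mul_mem (fun B hB => h3a a χ1 hχ1a B hB)
          (fun B hB => h3a _ χ hχa' B hB)
    let b := Module.finBasis L W
    have hsum : T.restrictScalars F =
        ∑ i, ((b.coord i).smulRight (T (b i))).restrictScalars F := by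
      ext x
      rw [LinearMap.sum_apply]
      simp only [LinearMap.coe_restrictScalars, LinearMap.smulRight_apply, Basis.coord_apply]
      conv_lhs => rw [← b.sum_repr x]
      rw [map_sum]
      simp
    rw [hsum]
    exact Subring.sum_mem _ (fun i _ => hrk _ _)

/-- **Lemma A** (abstract form). -/
theorem lemmaA (hr : (finrank F L).Prime) (𝔞 : AddSubgroup (L →ₗ[F] W))
    (h2 : ∀ w : W, (LinearMap.toSpanSingleton L W w).restrictScalars F ∈ 𝔞)
    (h3a : ∀ (a : W) (χ : W →ₗ[L] L), χ a = 0 → ∀ B ∈ 𝔞,
      ((χ.smulRight a).restrictScalars F).comp B ∈ 𝔞)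
    (h3b : finrank L W = 1 → ∀ μ : L, Algebra.norm F μ = 1 → ∀ B ∈ 𝔞,
      ((LinearMap.lsmul L W μ).restrictScalars F).comp B ∈ 𝔞)
    (h4 : ∀ (f : L →ₗ[F] F) (w : W), f.smulRight w ∈ 𝔞 → f = 0 ∨ w = 0)
    (x1 : W ≃ₗ[F] W) (x2 : L ≃ₗ[F] L)
    (h5 : ∀ B : L →ₗ[F] W, B ∈ 𝔞 ↔
      (x1 : W →ₗ[F] W).comp (B.comp (x2.symm : L →ₗ[F] L)) ∈ 𝔞) :
    ∃ τ : L →ₐ[F] L, ∀ (l : L) (w : W), x1 (l • w) = τ l • x1 w := by
  classical
  have hr2 : 2 ≤ finrank F L := hr.two_le
  have hRL := endL_le_idealiser hr2 𝔞 h3a h3b
  -- all elements of the idealiser are L-linear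
  have hlin : ∀ T ∈ idealiser 𝔞, ∀ (l : L) (w : W), T (l • w) = l • T w := by
    rcases dichotomy hr (idealiser 𝔞) hRL with h | h
    · exact h
    · exfalso
      obtain ⟨w0, hw0⟩ := exists_ne (0 : W)
      haveI : FiniteDimensional F W := FiniteDimensional.trans F L W
      obtain ⟨g, hg⟩ := exists_fun_one (L := F) hw0 (1 : F)
      have hE : (g.smulRight w0 : Module.End F W) ∈ idealiser 𝔞 := by rw [h]; trivial
      have := hE _ (h2 w0)
      have e : LinearMap.comp (g.smulRight w0 : Module.End F W)
          ((LinearMap.toSpanSingleton L W w0).restrictScalars F) =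
          (g.comp ((LinearMap.toSpanSingleton L W w0).restrictScalars F)).smulRight w0 := by
        ext l
        simp
      rw [e] at this
      rcases h4 _ _ this with h0 | h0
      · have := LinearMap.congr_fun h0 1
        simp [hg] at this
      · exact hw0 h0
  -- conjugation
  have hconj : ∀ (y1 : W ≃ₗ[F] W) (y2 : L ≃ₗ[F] L),
      (∀ B : L →ₗ[F] W, B ∈ 𝔞 ↔
        (y1 : W →ₗ[F] W).comp (B.comp (y2.symm : L →ₗ[F] L)) ∈ 𝔞) →
      ∀ (T : W →ₗ[L] W) (l : L) (w : W),
        y1 (T (y1.symm (l • w))) = l • y1 (T (y1.symm w)) := by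
    intro y1 y2 hy T l w
    have hmem : (y1 : W →ₗ[F] W).comp ((T.restrictScalars F).comp (y1.symm : W →ₗ[F] W))
        ∈ idealiser 𝔞 := by
      intro B hB
      have hB' : (y1.symm : W →ₗ[F] W).comp (B.comp (y2 : L →ₗ[F] L)) ∈ 𝔞 := by
        rw [hy]
        have : (y1 : W →ₗ[F] W).comp (((y1.symm : W →ₗ[F] W).comp
            (B.comp (y2 : L →ₗ[F] L))).comp (y2.symm : L →ₗ[F] L)) = B := by
          ext l
          simp
        rw [this]
        exact hB
      have h3 := hRL T _ hB'
      rw [hy] at h3
      have e : (y1 : W →ₗ[F] W).comp ((LinearMap.comp (T.restrictScalars F)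
          ((y1.symm : W →ₗ[F] W).comp (B.comp (y2 : L →ₗ[F] L)))).comp
            (y2.symm : L →ₗ[F] L)) =
          LinearMap.comp ((y1 : W →ₗ[F] W).comp ((T.restrictScalars F).comp
            (y1.symm : W →ₗ[F] W))) B := by
        ext l
        simp
      rw [e] at h3
      exact h3
    have := hlin _ hmem l w
    simpa using this
  have hc1 := hconj x1 x2 h5
  have h5' : ∀ B : L →ₗ[F] W, B ∈ 𝔞 ↔
      (x1.symm : W →ₗ[F] W).comp (B.comp (x2.symm.symm : L →ₗ[F] L)) ∈ 𝔞 := by
    intro B
    rw [h5 ((x1.symm : W →ₗ[F] W).comp (B.comp (x2.symm.symm : L →ₗ[F] L)))]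
    have : (x1 : W →ₗ[F] W).comp (((x1.symm : W →ₗ[F] W).comp
        (B.comp (x2.symm.symm : L →ₗ[F] L))).comp (x2.symm : L →ₗ[F] L)) = B := by
      ext l
      simp
    rw [this]
  have hc2 := hconj x1.symm x2.symm h5'
  -- the scalars
  have hex : ∀ l : L, ∃ μ : L, ∀ w : W, x1 (l • x1.symm w) = μ • w := by
    intro l
    apply centralizer_scalar (L := L) (fun w => x1 (l • x1.symm w))
    intro S w
    -- S' = x1⁻¹ S x1 is L-linear
    have hS' : ∀ (l' : L) (w' : W), x1.symm (S (x1 (l' • w'))) = l' • x1.symm (S (x1 w')) := by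
      intro l' w'
      have := hc2 S l' w'
      simpa using this
    show x1 (l • x1.symm (S w)) = S (x1 (l • x1.symm w))
    have e1 : l • x1.symm (S w) = x1.symm (S (x1 (l • x1.symm w))) := by
      rw [hS' l (x1.symm w), x1.apply_symm_apply]
    rw [e1, x1.apply_symm_apply]
  choose τ hτ using hex
  have hτ' : ∀ (l : L) (w : W), x1 (l • w) = τ l • x1 w := by
    intro l w
    have := hτ l (x1 w)
    rwa [x1.symm_apply_apply] at this
  obtain ⟨w0, hw0⟩ := exists_ne (0 : W)
  have hx0 : x1 w0 ≠ 0 := by
    intro h0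
    apply hw0
    have := x1.injective (h0.trans (map_zero x1).symm)
    exact this
  have hinj : ∀ a b : L, a • x1 w0 = b • x1 w0 → a = b := by
    intro a b hab
    exact smul_left_injective L hx0 hab
  refine ⟨{ toFun := τ, map_one' := ?_, map_mul' := ?_, map_zero' := ?_, map_add' := ?_, commutes' := ?_ }, hτ'⟩
  · apply hinj
    rw [← hτ', one_smul, one_smul]
  · intro a b
    apply hinj
    rw [← hτ', mul_smul, hτ', hτ', mul_smul]
  · apply hinj
    rw [← hτ', zero_smul, zero_smul, map_zero]
  · intro a b
    apply hinj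
    rw [← hτ', add_smul, map_add, hτ', hτ', add_smul]
  · intro c
    apply hinj
    rw [← hτ', algebraMap_smul, map_smul, algebraMap_smul]

end A

end Cfsg.Agent.Lib.Helper3.XF
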