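import Mathlib
import Cfsg.Agent.Lib.Helper3.XFBasic
import Cfsg.Agent.Lib.Helper3.XFNorm

/-!
# Lemma T: an overgroup of `M0` containing one `F`-transvection contains them all
-/

set_option autoImplicit false
set_option maxHeartbeats 4000000
set_option maxRecDepth 100000
set_option linter.unusedVariables false
set_option linter.unusedSectionVars false
set_option linter.style.longLine false
set_option linter.style.haveILetI false
set_option linter.deprecated false

namespace Cfsg.Agent.Lib.Helper3.XF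

open Module

section T

variable {F L V : Type*} [Field F] [Field L] [Algebra F L] [Finite L] [FiniteDimensional F L]
  [AddCommGroup V] [Module F V] [Module L V] [IsScalarTower F L V] [FiniteDimensional L V]

/-- `x ↦ f0 (φ x) • v` -/
def tvN (f0 : L →ₗ[F] F) (φ : V →ₗ[L] L) (v : V) : V →ₗ[F] V :=
  (f0.comp (φ.restrictScalars F)).smulRight v

@[simp] theorem tvN_apply (f0 : L →ₗ[F] F) (φ : V →ₗ[L] L) (v x : V) :
    tvN f0 φ v x = f0 (φ x) • v := rfl

theorem tv_norm_det {φ : V →ₗ[L] L} {a : V} (h : φ a = 0) :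
    Algebra.norm F (LinearMap.det ((LinearEquiv.transvection h : V ≃ₗ[L] V) : V →ₗ[L] V)) = 1 := by
  have := LinearEquiv.transvection.det_eq_one h
  rw [← Units.val_inj, LinearEquiv.coe_det] at this
  rw [this]
  simp

theorem dil_norm_det {φ : V →ₗ[L] L} {a : V} (hu : IsUnit (1 + φ a))
    (hμ : Algebra.norm F (1 + φ a) = 1) :
    Algebra.norm F (LinearMap.det ((LinearEquiv.dilatransvection hu : V ≃ₗ[L] V) : V →ₗ[L] V))
      = 1 := by
  rw [LinearEquiv.dilatransvection.coe_toLinearMap, LinearMap.transvection.det, hμ]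

theorem tvN_conjL {H : Subgroup (V ≃ₗ[F] V)} (hH : ContainsM0 L H) {f0 : L →ₗ[F] F}
    {φ : V →ₗ[L] L} {v : V} (h : In H (tvN f0 φ v)) (g : V ≃ₗ[L] V)
    (hg : Algebra.norm F (LinearMap.det (g : V →ₗ[L] V)) = 1) :
    In H (tvN f0 (φ.comp (g.symm : V →ₗ[L] V)) (g v)) :=
  h.conjL hH g hg (fun x => by
    simp only [tvN_apply, LinearMap.comp_apply, LinearEquiv.coe_coe]
    exact ((g.restrictScalars F).map_smul _ _).symm)

/-- the additive group of `φ ∈ v^⊥` with `t(v, φ) ∈ H`. -/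
def Asub (H : Subgroup (V ≃ₗ[F] V)) (f0 : L →ₗ[F] F) (v : V) : AddSubgroup (V →ₗ[L] L) where
  carrier := {φ | φ v = 0 ∧ In H (tvN f0 φ v)}
  zero_mem' := ⟨by simp, (In.zero H).congr (fun x => by simp)⟩
  add_mem' := fun {φ φ'} h h' => ⟨by simp [h.1, h'.1],
    (h.2.add h'.2 (fun x => by
      rw [tvN_apply, tvN_apply, LinearMap.map_smul_of_tower, h.1, smul_zero, map_zero,
        zero_smul])).congr (fun x => by simp [add_smul])⟩
  neg_mem' := fun {φ} h => ⟨by simp [h.1],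
    (h.2.neg (fun x => by
      rw [tvN_apply, tvN_apply, LinearMap.map_smul_of_tower, h.1, smul_zero, map_zero,
        zero_smul])).congr (fun x => by simp)⟩

theorem mem_Asub {H : Subgroup (V ≃ₗ[F] V)} {f0 : L →ₗ[F] F} {v : V} {φ : V →ₗ[L] L} :
    φ ∈ Asub H f0 v ↔ φ v = 0 ∧ In H (tvN f0 φ v) := Iff.rfl

/-- norm-one multiples -/
theorem Asub_smul_norm_one {H : Subgroup (V ≃ₗ[F] V)} (hH : ContainsM0 L H) {f0 : L →ₗ[F] F}
    {v : V} {φ : V →ₗ[L] L} (hφ : φ ∈ Asub H f0 v) (μ : L) (hμ : Algebra.norm F μ = 1) :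
    μ • φ ∈ Asub H f0 v := by
  by_cases hφ0 : φ = 0
  · rw [hφ0, smul_zero]; exact (Asub H f0 v).zero_mem
  have hμ0 : μ ≠ 0 := by
    rintro rfl
    rw [Algebra.norm_zero] at hμ
    exact zero_ne_one hμ
  obtain ⟨u, hu⟩ : ∃ u, φ u = 1 := by
    have : ∃ u, φ u ≠ 0 := by
      by_contra hcon
      push Not at hcon
      exact hφ0 (LinearMap.ext hcon)
    obtain ⟨u, hu⟩ := this
    exact ⟨(φ u)⁻¹ • u, by simp [hu]⟩
  have h1 : 1 + φ ((μ⁻¹ - 1) • u) = μ⁻¹ := by simp [hu]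
  have hunit : IsUnit (1 + φ ((μ⁻¹ - 1) • u)) := by
    rw [h1]; exact isUnit_iff_ne_zero.mpr (inv_ne_zero hμ0)
  have hn : Algebra.norm F (1 + φ ((μ⁻¹ - 1) • u)) = 1 := by
    rw [h1]
    have h2 : Algebra.norm F μ⁻¹ * Algebra.norm F μ = 1 := by
      rw [← map_mul, inv_mul_cancel₀ hμ0, map_one]
    rwa [hμ, mul_one] at h2
  have key := tvN_conjL hH hφ.2 (LinearEquiv.dilatransvection hunit) (dil_norm_det hunit hn)
  have hgv : (LinearEquiv.dilatransvection hunit) v = v := by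
    rw [LinearEquiv.dilatransvection.apply, hφ.1, zero_smul, add_zero]
  have hcomp : φ.comp ((LinearEquiv.dilatransvection hunit).symm : V →ₗ[L] V) = μ • φ := by
    ext x
    simp only [LinearMap.comp_apply, LinearEquiv.coe_coe, LinearMap.smul_apply, smul_eq_mul]
    set y := (LinearEquiv.dilatransvection hunit).symm x with hy
    have hx : x = (LinearEquiv.dilatransvection hunit) y := by
      rw [hy, LinearEquiv.apply_symm_apply]
    rw [hx, LinearEquiv.dilatransvection.apply, map_add, map_smul, map_smul, hu]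
    simp only [smul_eq_mul, mul_one]
    field_simp
    ring
  rw [hgv, hcomp] at key
  exact ⟨by simp [hφ.1], key⟩

theorem Asub_smul {H : Subgroup (V ≃ₗ[F] V)} (hr : 2 ≤ finrank F L) (hH : ContainsM0 L H)
    {f0 : L →ₗ[F] F} {v : V} {φ : V →ₗ[L] L} (hφ : φ ∈ Asub H f0 v) (l : L) :
    l • φ ∈ Asub H f0 v :=
  smul_mem_of_norm_one (F := F) hr (Asub H f0 v)
    (fun u hu x hx => Asub_smul_norm_one hH hx u hu) l φ hφ

/-- one nonzero element of `A_v` gives all of `v^⊥`. -/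
theorem Asub_full {H : Subgroup (V ≃ₗ[F] V)} (hr : 2 ≤ finrank F L) (hH : ContainsM0 L H)
    {f0 : L →ₗ[F] F} {v : V} {φ : V →ₗ[L] L} (hφ : φ ∈ Asub H f0 v) (hφ0 : φ ≠ 0)
    (χ' : V →ₗ[L] L) (hχ' : χ' v = 0) : χ' ∈ Asub H f0 v := by
  by_cases hex : ∃ a, χ' a = 0 ∧ φ a ≠ 0
  · obtain ⟨a, ha, hφa⟩ := hex
    have hχa : ((φ a)⁻¹ • χ') a = 0 := by simp [ha]
    have key := tvN_conjL hH hφ.2 (LinearEquiv.transvection hχa) (tv_norm_det hχa)
    have hgv : (LinearEquiv.transvection hχa) v = v := by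
      rw [LinearEquiv.transvection.apply]
      simp [hχ']
    have hcomp : φ.comp ((LinearEquiv.transvection hχa).symm : V →ₗ[L] V) = φ - χ' := by
      ext x
      simp only [LinearMap.comp_apply, LinearEquiv.coe_coe, LinearMap.sub_apply]
      set y := (LinearEquiv.transvection hχa).symm x with hy
      have hx : x = (LinearEquiv.transvection hχa) y := by
        rw [hy, LinearEquiv.apply_symm_apply]
      rw [hx, LinearEquiv.transvection.apply]
      simp only [map_add, map_smul, LinearMap.smul_apply, smul_eq_mul, ha, mul_zero, add_zero]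
      field_simp
      ring
    rw [hgv, hcomp] at key
    have h1 : φ - χ' ∈ Asub H f0 v := ⟨by simp [hφ.1, hχ'], key⟩
    have h2 := (Asub H f0 v).sub_mem hφ h1
    rwa [sub_sub_cancel] at h2
  · push Not at hex
    by_cases hχ0 : χ' = 0
    · rw [hχ0]; exact (Asub H f0 v).zero_mem
    obtain ⟨u, hu⟩ : ∃ u, χ' u = 1 := by
      have : ∃ u, χ' u ≠ 0 := by
        by_contra hcon
        push Not at hcon
        exact hχ0 (LinearMap.ext hcon)
      obtain ⟨u, hu⟩ := this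
      exact ⟨(χ' u)⁻¹ • u, by simp [hu]⟩
    have hφeq : φ = (φ u) • χ' := by
      ext x
      have h0 : χ' (x - χ' x • u) = 0 := by simp [hu]
      have := hex _ h0
      rw [map_sub, map_smul, sub_eq_zero] at this
      rw [this]
      simp [mul_comm]
    obtain ⟨c, hc⟩ : ∃ c, c = φ u := ⟨_, rfl⟩
    rw [← hc] at hφeq
    have hφu : c ≠ 0 := by
      intro h0
      apply hφ0
      rw [hφeq, h0, zero_smul]
    have : χ' = c⁻¹ • φ := by
      rw [hφeq, smul_smul, inv_mul_cancel₀ hφu, one_smul]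
    rw [this]
    exact Asub_smul hr hH hφ _

/-- `Q v`: some nontrivial transvection with centre `v` and `L`-hyperplane axis lies in `H`. -/
def QT (H : Subgroup (V ≃ₗ[F] V)) (f0 : L →ₗ[F] F) (v : V) : Prop :=
  ∃ φ : V →ₗ[L] L, φ ≠ 0 ∧ φ ∈ Asub H f0 v

theorem QT_move {H : Subgroup (V ≃ₗ[F] V)} (hH : ContainsM0 L H) {f0 : L →ₗ[F] F} {v v' : V}
    (hv : v ≠ 0) (hv' : v' ∉ Submodule.span L {v}) (hQ : QT H f0 v) : QT H f0 v' := by
  obtain ⟨φ, hφ0, hφ⟩ := hQ
  obtain ⟨χ, hχv, hχv'⟩ := exists_fun_pair hv hv' (1 : L) 1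
  have hχa : χ (v' - v) = 0 := by rw [map_sub, hχv, hχv', sub_self]
  obtain ⟨g, hgdef⟩ : ∃ g : V ≃ₗ[L] V, g = LinearEquiv.transvection hχa := ⟨_, rfl⟩
  have key := tvN_conjL hH hφ.2 g (by rw [hgdef]; exact tv_norm_det hχa)
  have hgv : g v = v' := by
    rw [hgdef, LinearEquiv.transvection.apply, hχv, one_smul]
    abel
  rw [hgv] at key
  refine ⟨φ.comp (g.symm : V →ₗ[L] V), ?_, ?_, key⟩
  · intro h0
    apply hφ0
    ext x
    have := LinearMap.congr_fun h0 (g x)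
    rwa [LinearMap.comp_apply, LinearEquiv.coe_coe, LinearEquiv.symm_apply_apply] at this
  · rw [← hgv, LinearMap.comp_apply, LinearEquiv.coe_coe, LinearEquiv.symm_apply_apply]
    exact hφ.1

theorem QT_all {H : Subgroup (V ≃ₗ[F] V)} (hm : 2 ≤ finrank L V) (hH : ContainsM0 L H)
    {f0 : L →ₗ[F] F} {v v' : V} (hv : v ≠ 0) (hv' : v' ≠ 0) (hQ : QT H f0 v) : QT H f0 v' := by
  by_cases h : v' ∈ Submodule.span L {v}
  · obtain ⟨w, hw⟩ := exists_not_mem_span hm v
    have hw0 : w ≠ 0 := by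
      rintro rfl
      exact hw (Submodule.zero_mem _)
    have h1 := QT_move hH hv hw hQ
    apply QT_move hH hw0 _ h1
    intro hmem
    obtain ⟨a, ha⟩ := Submodule.mem_span_singleton.mp h
    obtain ⟨b, hb⟩ := Submodule.mem_span_singleton.mp hmem
    have hb0 : b ≠ 0 := by
      rintro rfl
      rw [zero_smul] at hb
      exact hv' hb.symm
    apply hw
    rw [Submodule.mem_span_singleton]
    refine ⟨b⁻¹ * a, ?_⟩
    rw [mul_smul, ha, ← hb, smul_smul, inv_mul_cancel₀ hb0, one_smul]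
  · exact QT_move hH hv h hQ

/-- (*) : all transvections `t(v, φ)` with `φ v = 0` lie in `H`. -/
theorem star {H : Subgroup (V ≃ₗ[F] V)} (hr : 2 ≤ finrank F L) (hm : 2 ≤ finrank L V)
    (hH : ContainsM0 L H) {f0 : L →ₗ[F] F} {v0 : V} (hv0 : v0 ≠ 0) (hQ : QT H f0 v0)
    (v : V) (φ : V →ₗ[L] L) (hφv : φ v = 0) : In H (tvN f0 φ v) := by
  by_cases hv : v = 0
  · exact (In.zero H).congr (fun x => by simp [hv])
  obtain ⟨φ0, hφ0, hmem⟩ := QT_all hm hH hv0 hv hQ
  exact (Asub_full hr hH hmem hφ0 φ hφv).2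

theorem exists_f0_one {f0 : L →ₗ[F] F} (hf0 : f0 ≠ 0) : ∃ q0 : L, f0 q0 = 1 := by
  have : ∃ u, f0 u ≠ 0 := by
    by_contra hcon
    push Not at hcon
    exact hf0 (LinearMap.ext hcon)
  obtain ⟨u, hu⟩ := this
  exact ⟨(f0 u)⁻¹ • u, by simp [hu]⟩

/-- all `F`-transvections `t(v, φ)` (`f0 (φ v) = 0`) lie in `H`. -/
theorem star' {H : Subgroup (V ≃ₗ[F] V)} (hr : 2 ≤ finrank F L) (hm : 2 ≤ finrank L V)
    (hH : ContainsM0 L H) {f0 : L →ₗ[F] F} (hf0 : f0 ≠ 0) {v0 : V} (hv0 : v0 ≠ 0)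
    (hQ : QT H f0 v0)
    (v : V) (φ : V →ₗ[L] L) (hφv : f0 (φ v) = 0) : In H (tvN f0 φ v) := by
  by_cases hc : φ v = 0
  · exact star hr hm hH hv0 hQ v φ hc
  have hv : v ≠ 0 := by
    rintro rfl
    exact hc (map_zero _)
  obtain ⟨a, ha⟩ := exists_not_mem_span hm v
  obtain ⟨φ', hφ'v, hφ'a⟩ := exists_fun_pair hv ha (φ v) (φ v)
  obtain ⟨q0, hq0⟩ := exists_f0_one hf0
  obtain ⟨α, hαv, hαa⟩ := exists_fun_pair hv ha q0 0
  have h1 : In H (tvN f0 φ' (v - a)) :=
    star hr hm hH hv0 hQ (v - a) φ' (by rw [map_sub, hφ'v, hφ'a, sub_self])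
  have h2 : In H (tvN f0 α a) := star hr hm hH hv0 hQ a α hαa
  obtain ⟨h, hhH, hhx⟩ := h2
  have hN2 : ∀ x, tvN f0 α a (tvN f0 α a x) = 0 := by
    intro x
    rw [tvN_apply, tvN_apply, LinearMap.map_smul_of_tower, hαa, smul_zero, map_zero, zero_smul]
  have hinv : ∀ x, h.symm x = x - f0 (α x) • a := by
    intro x
    have := inv_apply_of hhx hN2 x
    rwa [LinearEquiv.coe_inv, tvN_apply] at this
  have h3 : In H (tvN f0 φ' v) := by
    refine h1.conj hhH (fun x => ?_)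
    rw [tvN_apply, tvN_apply, hinv, map_smul, hhx, tvN_apply]
    have e1 : φ' (x - f0 (α x) • a) = φ' x - f0 (α x) • φ v := by
      rw [map_sub, LinearMap.map_smul_of_tower, hφ'a]
    have e2 : f0 (φ' (x - f0 (α x) • a)) = f0 (φ' x) := by
      rw [e1, map_sub, map_smul, hφv, smul_zero, sub_zero]
    have e3 : α (v - a) = q0 := by rw [map_sub, hαv, hαa, sub_zero]
    rw [e2, e3, hq0, one_smul]
    congr 1
    abel
  have h4 : In H (tvN f0 (φ - φ') v) :=
    star hr hm hH hv0 hQ v (φ - φ') (by rw [LinearMap.sub_apply, hφ'v, sub_self])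
  refine (h3.add h4 (fun x => ?_)).congr (fun x => ?_)
  · rw [tvN_apply, tvN_apply, LinearMap.map_smul_of_tower, hφ'v, map_smul, hφv, smul_zero,
      zero_smul]
  · simp only [LinearMap.add_apply, tvN_apply, LinearMap.sub_apply, map_sub]
    rw [← add_smul]
    congr 1
    ring

/-- **Lemma T.** -/
theorem lemmaT {H : Subgroup (V ≃ₗ[F] V)} (hr : 2 ≤ finrank F L) (hm : 2 ≤ finrank L V)
    (hH : ContainsM0 L H)
    (hT : ∃ (ψ : V →ₗ[F] F) (v : V), ψ ≠ 0 ∧ v ≠ 0 ∧ ψ v = 0 ∧ In H (ψ.smulRight v))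
    (ψ : V →ₗ[F] F) (v : V) (hψv : ψ v = 0) : In H (ψ.smulRight v) := by
  -- choose f0
  obtain ⟨f0, hf01⟩ : ∃ f0 : L →ₗ[F] F, f0 1 = 1 := exists_fun_one (one_ne_zero) 1
  have hf0 : f0 ≠ 0 := by
    intro h0
    rw [h0] at hf01
    simp at hf01
  -- T1
  obtain ⟨ψ1, v1, hψ1, hv1, hψ1v, hIn⟩ := hT
  obtain ⟨φ1, hφ1⟩ := fun_rep (V := V) hf0 ψ1
  have hφ10 : φ1 ≠ 0 := by
    intro h0
    apply hψ1
    ext x
    rw [hφ1, h0]
    simp
  have hQ : QT H f0 v1 := by
    by_cases hc : φ1 v1 = 0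
    · exact ⟨φ1, hφ10, hc, hIn.congr (fun x => by simp [hφ1])⟩
    · obtain ⟨a', ha'⟩ := exists_not_mem_span hm v1
      obtain ⟨χ, hχv, hχa⟩ := exists_fun_pair hv1 ha' (0 : L) 1
      have hk := ktv_in (F := F) hH χ v1 hχv
      refine ⟨(φ1 v1) • χ, ?_, ?_, ?_⟩
      · intro h0
        have := LinearMap.congr_fun h0 a'
        simp [hχa, hc] at this
      · simp [hχv]
      · refine hIn.comm hk (fun x => ?_) (fun x => ?_) (fun x => ?_) (fun x => ?_)
        · simp [hψ1v]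
        · simp [hχv]
        · simp only [LinearMap.smulRight_apply, LinearMap.coe_restrictScalars]
          rw [LinearMap.map_smul_of_tower, hχv, smul_zero, zero_smul]
        · simp only [LinearMap.smulRight_apply, LinearMap.coe_restrictScalars, tvN_apply,
            LinearMap.smul_apply, smul_eq_mul]
          rw [hφ1, map_smul, smul_eq_mul, mul_comm]
  -- conclusion
  obtain ⟨φ, hφ⟩ := fun_rep (V := V) hf0 ψ
  have := star' hr hm hH hf0 hv1 hQ v φ (by rw [← hφ]; exact hψv)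
  exact this.congr (fun x => by simp [hφ])

end T

end Cfsg.Agent.Lib.Helper3.XF
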