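import Mathlib
import Cfsg.Agent.Lib.Helper3.XFBasic
import Cfsg.Agent.Lib.Helper3.XFNorm
import Cfsg.Agent.Lib.Helper3.XFT
import Cfsg.Agent.Lib.Helper3.XFA

/-!
# Lemma A for an overgroup of `M0` without `F`-transvections
-/

set_option autoImplicit false
set_option maxHeartbeats 4000000
set_option maxRecDepth 100000
set_option linter.unusedVariables false
set_option linter.unusedSectionVars false
set_option linter.style.longLine false
set_option linter.style.haveILetI false
set_option linter.deprecated false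

namespace Cfsg.Agent.Lib.Helper3.XF

open Module

section A2

variable {F L V : Type*} [Field F] [Field L] [Algebra F L] [Finite L] [FiniteDimensional F L]
  [AddCommGroup V] [Module F V] [Module L V] [IsScalarTower F L V] [FiniteDimensional L V]

/-- `x ↦ B (φ x)` as an `F`-endomorphism of `V`, for `B : L → ker φ`. -/
def bN (φ : V →ₗ[L] L) (B : L →ₗ[F] ↥(LinearMap.ker φ)) : V →ₗ[F] V :=
  (((LinearMap.ker φ).subtype.restrictScalars F).comp B).comp (φ.restrictScalars F)

@[simp] theorem bN_apply (φ : V →ₗ[L] L) (B : L →ₗ[F] ↥(LinearMap.ker φ)) (x : V) :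
    bN φ B x = (B (φ x) : V) := rfl

theorem phi_bN (φ : V →ₗ[L] L) (B : L →ₗ[F] ↥(LinearMap.ker φ)) (x : V) :
    φ (bN φ B x) = 0 := by
  rw [bN_apply]
  exact LinearMap.mem_ker.mp (B (φ x)).2

/-- the module `𝔞_W` -/
def aSub (H : Subgroup (V ≃ₗ[F] V)) (φ : V →ₗ[L] L) : AddSubgroup (L →ₗ[F] ↥(LinearMap.ker φ)) where
  carrier := {B | In H (bN φ B)}
  zero_mem' := (In.zero H).congr (fun x => by simp)
  add_mem' := fun {B B'} h h' =>
    (h.add h' (fun x => by rw [bN_apply, phi_bN, map_zero]; rfl)).congr (fun x => by simp)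
  neg_mem' := fun {B} h =>
    (h.neg (fun x => by rw [bN_apply, phi_bN, map_zero]; rfl)).congr (fun x => by simp)

theorem mem_aSub {H : Subgroup (V ≃ₗ[F] V)} {φ : V →ₗ[L] L}
    {B : L →ₗ[F] ↥(LinearMap.ker φ)} : B ∈ aSub H φ ↔ In H (bN φ B) := Iff.rfl

theorem exists_phi_one {φ : V →ₗ[L] L} (hφ : φ ≠ 0) : ∃ u, φ u = 1 := by
  have : ∃ u, φ u ≠ 0 := by
    by_contra hcon
    push Not at hcon
    exact hφ (LinearMap.ext hcon)
  obtain ⟨u, hu⟩ := this
  exact ⟨(φ u)⁻¹ • u, by simp [hu]⟩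

/-- **Lemma A** in the group setting. -/
theorem lemmaA_group (hr : (finrank F L).Prime) (hm : 2 ≤ finrank L V)
    {H : Subgroup (V ≃ₗ[F] V)} (hH : ContainsM0 L H)
    (hno : ∀ (ψ : V →ₗ[F] F) (v : V), ψ v = 0 → In H (ψ.smulRight v) → ψ = 0 ∨ v = 0)
    (φ : V →ₗ[L] L) (hφ : φ ≠ 0) (h : V ≃ₗ[F] V) (hh : h ∈ H)
    (hW : ∀ x, φ x = 0 ↔ φ (h x) = 0) :
    ∃ τ : L →ₐ[F] L, ∀ (l : L) (w : V), φ w = 0 → h (l • w) = τ l • h w := by
  classical
  obtain ⟨u, hu⟩ := exists_phi_one hφ
  -- nontriviality of the kernel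
  haveI : Nontrivial ↥(LinearMap.ker φ) := by
    obtain ⟨a, ha⟩ := exists_not_mem_span hm u
    have hmem : a - φ a • u ∈ LinearMap.ker φ := by
      rw [LinearMap.mem_ker, map_sub, map_smul, hu, smul_eq_mul, mul_one, sub_self]
    refine ⟨⟨⟨a - φ a • u, hmem⟩, 0, ?_⟩⟩
    intro h0
    have h1 : a - φ a • u = 0 := congrArg Subtype.val h0
    apply ha
    rw [Submodule.mem_span_singleton]
    exact ⟨φ a, (sub_eq_zero.mp h1).symm⟩
  -- x2
  have hWsymm : ∀ x, φ x = 0 ↔ φ (h.symm x) = 0 := by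
    intro x
    rw [hW (h.symm x), h.apply_symm_apply]
  let s : L →ₗ[F] V := (LinearMap.toSpanSingleton L V u).restrictScalars F
  have hs : ∀ l, φ (s l) = l := by
    intro l
    simp [s, hu]
  let y2 : L →ₗ[F] L := ((φ.restrictScalars F).comp (h : V →ₗ[F] V)).comp s
  let y2' : L →ₗ[F] L := ((φ.restrictScalars F).comp (h.symm : V →ₗ[F] V)).comp s
  have hy2 : ∀ x, φ (h x) = y2 (φ x) := by
    intro x
    have h0 : φ (x - s (φ x)) = 0 := by rw [map_sub, hs, sub_self]
    have h1 := (hW _).mp h0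
    rw [map_sub, map_sub, sub_eq_zero] at h1
    exact h1
  have hy2' : ∀ x, φ (h.symm x) = y2' (φ x) := by
    intro x
    have h0 : φ (x - s (φ x)) = 0 := by rw [map_sub, hs, sub_self]
    have h1 := (hWsymm _).mp h0
    rw [map_sub, map_sub, sub_eq_zero] at h1
    exact h1
  have h12 : y2.comp y2' = LinearMap.id := by
    ext l
    have := hy2 (h.symm (s l))
    rw [h.apply_symm_apply, hs, hy2', hs] at this
    simp only [LinearMap.comp_apply, LinearMap.id_apply]
    exact this.symm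
  have h21 : y2'.comp y2 = LinearMap.id := by
    ext l
    have := hy2' (h (s l))
    rw [h.symm_apply_apply, hs, hy2, hs] at this
    simp only [LinearMap.comp_apply, LinearMap.id_apply]
    exact this.symm
  let x2 : L ≃ₗ[F] L := LinearEquiv.ofLinear y2 y2' h12 h21
  have hx2 : ∀ x, φ (h x) = x2 (φ x) := hy2
  have hx2' : ∀ x, φ (h.symm x) = x2.symm (φ x) := hy2'
  -- x1
  let x1 : ↥(LinearMap.ker φ) ≃ₗ[F] ↥(LinearMap.ker φ) :=
    { toFun := fun w => ⟨h w, LinearMap.mem_ker.mpr ((hW _).mp (LinearMap.mem_ker.mp w.2))⟩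
      invFun := fun w => ⟨h.symm w,
        LinearMap.mem_ker.mpr ((hWsymm _).mp (LinearMap.mem_ker.mp w.2))⟩
      map_add' := fun a b => Subtype.ext (by simp)
      map_smul' := fun c a => Subtype.ext (by simp)
      left_inv := fun a => Subtype.ext (by simp)
      right_inv := fun a => Subtype.ext (by simp) }
  have hx1 : ∀ w : ↥(LinearMap.ker φ), ((x1 w : ↥(LinearMap.ker φ)) : V) = h w := fun w => rfl
  have hx1s : ∀ w : ↥(LinearMap.ker φ), ((x1.symm w : ↥(LinearMap.ker φ)) : V) = h.symm w :=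
    fun w => rfl
  have H2 : ∀ w : ↥(LinearMap.ker φ), (LinearMap.toSpanSingleton L ↥(LinearMap.ker φ) w).restrictScalars F ∈ aSub H φ := by
    intro w
    rw [mem_aSub]
    refine (ktv_in hH φ (w : V) (LinearMap.mem_ker.mp w.2)).congr (fun x => ?_)
    simp
  have H3a : ∀ (a : ↥(LinearMap.ker φ)) (χ : ↥(LinearMap.ker φ) →ₗ[L] L), χ a = 0 → ∀ B ∈ aSub H φ,
      ((χ.smulRight a).restrictScalars F).comp B ∈ aSub H φ := by
    intro a χ hχa B hB
    rw [mem_aSub] at hB
    obtain ⟨χt, hχt⟩ := LinearMap.exists_extend χ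
    have hχt' : ∀ w : ↥(LinearMap.ker φ), χt (w : V) = χ w := fun w =>
      LinearMap.congr_fun hχt w
    have hχta : χt (a : V) = 0 := by rw [hχt', hχa]
    obtain ⟨g, hgdef⟩ : ∃ g : V ≃ₗ[L] V, g = LinearEquiv.transvection hχta := ⟨_, rfl⟩
    have hg : ∀ x, g x = x + χt x • (a : V) := by
      intro x
      rw [hgdef, LinearEquiv.transvection.apply]
    have hφa : φ (a : V) = 0 := LinearMap.mem_ker.mp a.2
    have hφg : ∀ y, φ (g y) = φ y := by
      intro y
      rw [hg, map_add, map_smul, hφa, smul_zero, add_zero]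
    have key : In H (bN φ (B + ((χ.smulRight a).restrictScalars F).comp B)) := by
      refine hB.conjL hH g (by rw [hgdef]; exact tv_norm_det hχta) (fun x => ?_)
      have e1 : φ (g.symm x) = φ x := by
        have := hφg (g.symm x)
        rw [g.apply_symm_apply] at this
        exact this.symm
      rw [bN_apply, bN_apply, e1, hg, hχt']
      simp
    have h3 := (aSub H φ).sub_mem (mem_aSub.mpr key) (mem_aSub.mpr hB)
    rwa [add_sub_cancel_left] at h3
  have H3b : finrank L ↥(LinearMap.ker φ) = 1 → ∀ μ : L, Algebra.norm F μ = 1 → ∀ B ∈ aSub H φ,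
      ((LinearMap.lsmul L ↥(LinearMap.ker φ) μ).restrictScalars F).comp B ∈ aSub H φ := by
    intro h1 μ hμ B hB
    rw [mem_aSub] at hB ⊢
    obtain ⟨a, ha⟩ := exists_ne (0 : ↥(LinearMap.ker φ))
    have ha0 : (a : V) ≠ 0 := fun h0 => ha (Subtype.ext h0)
    obtain ⟨χt, hχt⟩ := exists_fun_one ha0 (1 : L)
    have hμ0 : μ ≠ 0 := by
      rintro rfl
      rw [Algebra.norm_zero] at hμ
      exact zero_ne_one hμ
    have h1' : 1 + χt ((μ - 1) • (a : V)) = μ := by simp [hχt]
    have hunit : IsUnit (1 + χt ((μ - 1) • (a : V))) := by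
      rw [h1']; exact isUnit_iff_ne_zero.mpr hμ0
    obtain ⟨g, hgdef⟩ : ∃ g : V ≃ₗ[L] V, g = LinearEquiv.dilatransvection hunit := ⟨_, rfl⟩
    have hg : ∀ x, g x = x + χt x • ((μ - 1) • (a : V)) := by
      intro x
      rw [hgdef, LinearEquiv.dilatransvection.apply]
    have hφa : φ (a : V) = 0 := LinearMap.mem_ker.mp a.2
    have hφg : ∀ y, φ (g y) = φ y := by
      intro y
      rw [hg, map_add, map_smul, map_smul, hφa, smul_zero, smul_zero, add_zero]
    have hspan := (finrank_eq_one_iff_of_nonzero' a ha).mp h1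
    have hgw : ∀ w : ↥(LinearMap.ker φ), g (w : V) = μ • (w : V) := by
      intro w
      obtain ⟨c, hc⟩ := hspan w
      rw [hg, ← hc]
      simp only [Submodule.coe_smul, map_smul, hχt, smul_eq_mul, mul_one]
      rw [smul_smul, ← add_smul, smul_smul]
      congr 1
      ring
    refine hB.conjL hH g (by rw [hgdef]; exact dil_norm_det hunit (by rw [h1']; exact hμ))
      (fun x => ?_)
    have e1 : φ (g.symm x) = φ x := by
      have := hφg (g.symm x)
      rw [g.apply_symm_apply] at this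
      exact this.symm
    rw [bN_apply, bN_apply, e1, hgw]
    simp
  have H4 : ∀ (f : L →ₗ[F] F) (w : ↥(LinearMap.ker φ)), f.smulRight w ∈ aSub H φ → f = 0 ∨ w = 0 := by
    intro f w hfw
    rw [mem_aSub] at hfw
    have h1 : In H (((f.comp (φ.restrictScalars F))).smulRight (w : V)) :=
      hfw.congr (fun x => by simp)
    have h2 := hno _ _ (by simp [LinearMap.mem_ker.mp w.2]) h1
    rcases h2 with h2 | h2
    · left
      ext l
      have := LinearMap.congr_fun h2 (l • u)
      simpa [hu] using this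
    · right
      exact Subtype.ext h2
  have H5 : ∀ B : L →ₗ[F] ↥(LinearMap.ker φ), B ∈ aSub H φ ↔
      (x1 : ↥(LinearMap.ker φ) →ₗ[F] ↥(LinearMap.ker φ)).comp (B.comp (x2.symm : L →ₗ[F] L)) ∈ aSub H φ := by
    intro B
    rw [mem_aSub, mem_aSub]
    constructor
    · intro hB
      refine hB.conj hh (fun x => ?_)
      rw [bN_apply, bN_apply, hx2']
      simp [hx1]
    · intro hB
      refine hB.conj (H.inv_mem hh) (fun x => ?_)
      rw [bN_apply, bN_apply]
      have e : (h⁻¹).symm x = h x := rfl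
      rw [e, hx2]
      simp [hx1]
  obtain ⟨τ, hτ⟩ := lemmaA hr (aSub H φ) H2 H3a H3b H4 x1 x2 H5
  refine ⟨τ, fun l w hw => ?_⟩
  have := hτ l ⟨w, LinearMap.mem_ker.mpr hw⟩
  have h3 := congrArg Subtype.val this
  simpa [hx1] using h3

end A2

end Cfsg.Agent.Lib.Helper3.XF
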