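import Mathlib

/-!
# Tools for the exceptional case `ΓL₂(4) < GL₄(2)`
-/

set_option autoImplicit false
set_option maxHeartbeats 4000000
set_option maxRecDepth 100000
set_option linter.unusedVariables false
set_option linter.unusedSectionVars false
set_option linter.style.longLine false
set_option linter.style.haveILetI false
set_option linter.deprecated false

namespace Cfsg.Agent.Lib.Helper3.XF

open Module

/-- order of the general linear group of a finite-dimensional space over a finite field -/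
theorem card_linearEquiv (K V : Type*) [Field K] [Finite K] [AddCommGroup V] [Module K V]
    [FiniteDimensional K V] :
    Nat.card (V ≃ₗ[K] V) =
      ∏ i : Fin (finrank K V), (Nat.card K ^ finrank K V - Nat.card K ^ (i : ℕ)) := by
  classical
  have := Fintype.ofFinite K
  let b := Module.finBasis K V
  have e : GL (Fin (finrank K V)) K ≃* (V ≃ₗ[K] V) :=
    (Matrix.GeneralLinearGroup.toLin' b).trans (LinearMap.GeneralLinearGroup.generalLinearEquiv K V)
  rw [← Nat.card_congr e.toEquiv, Matrix.card_GL_field, Nat.card_eq_fintype_card]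

/-- Sylow counting: if `N_G(P) ≤ X` then `|X : N_G(P)| ≡ 1 mod p` (`|P| = p`, `p² ∤ |G|`). -/
theorem sylow_relIndex_modEq {G : Type*} [Group G] [Finite G] {p : ℕ} [Fact p.Prime]
    (P : Subgroup G) (hPcard : Nat.card P = p) (hG : ¬ p ^ 2 ∣ Nat.card G)
    (X : Subgroup G) (hNX : Subgroup.normalizer (P : Set G) ≤ X) :
    (Subgroup.normalizer (P : Set G)).relIndex X ≡ 1 [MOD p] := by
  have hp : p.Prime := Fact.out
  have hPX : P ≤ X := le_trans Subgroup.le_normalizer hNX
  have hcardPX : Nat.card (P.subgroupOf X) = p := by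
    rw [Nat.card_congr (Subgroup.subgroupOfEquivOfLe hPX).toEquiv, hPcard]
  have hfac : (Nat.card X).factorization p = 1 := by
    have h1 : p ∣ Nat.card X := by
      rw [← hPcard]
      exact Subgroup.card_dvd_of_le hPX
    have h2 : ¬ p ^ 2 ∣ Nat.card X := fun h => hG (dvd_trans h (Subgroup.card_subgroup_dvd_card X))
    have hpos : Nat.card X ≠ 0 := Nat.card_pos.ne'
    have h3 : 1 ≤ (Nat.card X).factorization p :=
      (hp.dvd_iff_one_le_factorization hpos).mp h1
    have h4 : ¬ 2 ≤ (Nat.card X).factorization p := by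
      intro h
      exact h2 ((hp.pow_dvd_iff_le_factorization hpos).mpr h)
    omega
  let PX : Sylow p X := Sylow.ofCard (P.subgroupOf X) (by rw [hcardPX, hfac, pow_one])
  have h1 := card_sylow_modEq_one p X
  rw [Sylow.card_eq_index_normalizer PX] at h1
  have h2 : Subgroup.normalizer ((PX : Subgroup X) : Set X) =
      (Subgroup.normalizer (P : Set G)).subgroupOf X := by
    rw [Subgroup.subgroupOf_normalizer_eq hPX]
    rfl
  have h3 : (Subgroup.normalizer ((PX : Subgroup X) : Set X)).index ≡ 1 [MOD p] := h1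
  rw [h2] at h3
  exact h3

theorem arith_112 (a b : ℕ) (hdvd : b * a ∣ 112) (ha : a ≡ 1 [MOD 5]) (hb : b ≡ 1 [MOD 5])
    (hb1 : b ≠ 1) : a = 1 := by
  have hpos : 0 < b * a := Nat.pos_of_dvd_of_pos hdvd (by norm_num)
  have hle : b * a ≤ 112 := Nat.le_of_dvd (by norm_num) hdvd
  have ha0 : 0 < a := by
    rcases Nat.eq_zero_or_pos a with h | h
    · rw [h, mul_zero] at hpos; exact absurd hpos (lt_irrefl 0)
    · exact h
  have hb0 : 0 < b := by
    rcases Nat.eq_zero_or_pos b with h | h
    · rw [h, zero_mul] at hpos; exact absurd hpos (lt_irrefl 0)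
    · exact h
  have hbd : b ∣ 112 := dvd_trans (dvd_mul_right b a) hdvd
  have had : a ∣ 112 := dvd_trans (dvd_mul_left a b) hdvd
  have hble : b ≤ 112 := Nat.le_of_dvd (by norm_num) hbd
  have hale : a ≤ 112 := Nat.le_of_dvd (by norm_num) had
  unfold Nat.ModEq at ha hb
  have key : ∀ b ∈ Finset.range 113, ∀ a ∈ Finset.range 113, b * a ∣ 112 → a % 5 = 1 % 5 →
      b % 5 = 1 % 5 → b ≠ 1 → a = 1 := by decide
  exact key b (Finset.mem_range.mpr (by omega)) a (Finset.mem_range.mpr (by omega)) hdvd ha hb hb1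

theorem four_factor_comm {R : Type*} [CommRing R] (a w : R) (h2 : (2 : R) = 0)
    (hw : w ^ 2 = w + 1) (ha : a ^ 4 = a) :
    a * (a + 1) * (a + w) * (a + w + 1) = 0 := by
  linear_combination ha + ((a ^ 3 + a ^ 2 + a) + (a ^ 2 + a) * (a * w + w)) * h2 +
    (a ^ 2 + a) * hw

theorem four_factor {R : Type*} [Ring R] (hcomm : ∀ x y : R, x * y = y * x)
    (hnzd : ∀ x y : R, x * y = 0 → x = 0 ∨ y = 0) (a w : R) (h2 : (2 : R) = 0)
    (hw : w ^ 2 = w + 1) (ha : a ^ 4 = a) :
    a = 0 ∨ a + 1 = 0 ∨ a + w = 0 ∨ a + w + 1 = 0 := by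
  letI : CommRing R := { (inferInstance : Ring R) with mul_comm := hcomm }
  have h := four_factor_comm a w h2 hw ha
  rcases hnzd _ _ h with h1 | h1
  · rcases hnzd _ _ h1 with h3 | h3
    · rcases hnzd _ _ h3 with h4 | h4
      · exact Or.inl h4
      · exact Or.inr (Or.inl h4)
    · exact Or.inr (Or.inr (Or.inl h3))
  · exact Or.inr (Or.inr (Or.inr h1))

end Cfsg.Agent.Lib.Helper3.XF
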