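import Mathlib
import Cfsg.Agent.Lib.Helper3.XFBasic
import Cfsg.Agent.Lib.Helper3.XFT
import Cfsg.Agent.Lib.Helper3.XFA2

/-!
# The normaliser of `L` in `GL_F(V)` (abstract form)
-/

set_option autoImplicit false
set_option maxHeartbeats 4000000
set_option maxRecDepth 100000
set_option linter.unusedVariables false
set_option linter.unusedSectionVars false
set_option linter.style.longLine false
set_option linter.style.haveILetI false
set_option linter.deprecated false

namespace Cfsg.Agent.Lib.Helper3.XF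

open Module

section NrmDef

variable (F L V : Type*) [Field F] [Field L] [Algebra F L] [AddCommGroup V] [Module F V]
  [Module L V] [IsScalarTower F L V]

/-- the normaliser of (the image of) `L` in `GL_F(V)`: the semilinear maps -/
def Nrm : Subgroup (V ≃ₗ[F] V) where
  carrier := {e | (∀ l : L, ∃ l' : L, ∀ x, e (l • x) = l' • e x) ∧
    (∀ l : L, ∃ l' : L, ∀ x, e.symm (l • x) = l' • e.symm x)}
  mul_mem' := fun {a b} ha hb => by
    refine ⟨fun l => ?_, fun l => ?_⟩
    · obtain ⟨l1, h1⟩ := hb.1 l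
      obtain ⟨l2, h2⟩ := ha.1 l1
      exact ⟨l2, fun x => by rw [LinearEquiv.mul_apply, h1, h2]; rfl⟩
    · obtain ⟨l1, h1⟩ := ha.2 l
      obtain ⟨l2, h2⟩ := hb.2 l1
      refine ⟨l2, fun x => ?_⟩
      show b.symm (a.symm (l • x)) = l2 • b.symm (a.symm x)
      rw [h1, h2]
  one_mem' := ⟨fun l => ⟨l, fun x => rfl⟩, fun l => ⟨l, fun x => rfl⟩⟩
  inv_mem' := fun {a} ha => ⟨ha.2, ha.1⟩

variable {F L V}

theorem mem_Nrm {e : V ≃ₗ[F] V} : e ∈ Nrm F L V ↔
    (∀ l : L, ∃ l' : L, ∀ x, e (l • x) = l' • e x) ∧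
    (∀ l : L, ∃ l' : L, ∀ x, e.symm (l • x) = l' • e.symm x) := Iff.rfl

theorem restrictScalars_mem_Nrm (g : V ≃ₗ[L] V) : g.restrictScalars F ∈ Nrm F L V :=
  ⟨fun l => ⟨l, fun x => g.map_smul l x⟩, fun l => ⟨l, fun x => g.symm.map_smul l x⟩⟩

end NrmDef

section NrmLemmas

variable {F L V : Type*} [Field F] [Field L] [Algebra F L] [Finite L] [FiniteDimensional F L]
  [AddCommGroup V] [Module F V]
  [Module L V] [IsScalarTower F L V] [FiniteDimensional L V]

/-- an additive map preserving all `L`-lines is a scalar (`dim ≥ 2`). -/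
theorem scalar_of_preserves_lines (hm : 2 ≤ finrank L V) (T : V → V)
    (hadd : ∀ x y, T (x + y) = T x + T y) (h : ∀ u, ∃ μ : L, T u = μ • u) :
    ∃ μ : L, ∀ u, T u = μ • u := by
  choose μ hμ using h
  have key : ∀ u1 u2 : V, u1 ≠ 0 → u2 ∉ Submodule.span L {u1} → μ u1 = μ u2 := by
    intro u1 u2 hu1 hu2
    have h1 := hadd u1 u2
    rw [hμ, hμ u1, hμ u2, smul_add] at h1
    have h2 : (μ (u1 + u2) - μ u2) • u2 = (μ u1 - μ (u1 + u2)) • u1 := by
      rw [sub_smul, sub_smul, sub_eq_sub_iff_add_eq_add]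
      rw [add_comm] at h1
      rw [h1]
    have h3 : μ (u1 + u2) - μ u2 = 0 := by
      by_contra hne
      apply hu2
      rw [Submodule.mem_span_singleton]
      refine ⟨(μ (u1 + u2) - μ u2)⁻¹ * (μ u1 - μ (u1 + u2)), ?_⟩
      rw [mul_smul, ← h2, smul_smul, inv_mul_cancel₀ hne, one_smul]
    rw [h3, zero_smul] at h2
    have h4 : μ u1 - μ (u1 + u2) = 0 := by
      rcases smul_eq_zero.mp h2.symm with h | h
      · exact h
      · exact absurd h hu1
    rw [sub_eq_zero] at h3 h4
    rw [h4, h3]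
  have hnt : Nontrivial V := by
    apply Module.nontrivial_of_finrank_pos (R := L)
    omega
  obtain ⟨u0, hu0⟩ := exists_ne (0 : V)
  refine ⟨μ u0, fun u => ?_⟩
  by_cases hu : u = 0
  · rw [hu, smul_zero]
    have := hμ 0
    rwa [smul_zero] at this
  rw [hμ u]
  congr 1
  by_cases hmem : u ∈ Submodule.span L {u0}
  · obtain ⟨w, hw⟩ := exists_not_mem_span hm u0
    have hw0 : w ≠ 0 := by
      rintro rfl
      exact hw (Submodule.zero_mem _)
    have h1 := key u0 w hu0 hw
    have hwu : w ∉ Submodule.span L {u} := by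
      intro hmem2
      obtain ⟨a, ha⟩ := Submodule.mem_span_singleton.mp hmem
      obtain ⟨b, hb⟩ := Submodule.mem_span_singleton.mp hmem2
      apply hw
      rw [Submodule.mem_span_singleton]
      exact ⟨b * a, by rw [mul_smul, ha, hb]⟩
    have h2 := key u w hu hwu
    rw [h2, h1]
  · exact (key u0 u hu0 hmem).symm

/-- if every element of `H` maps `L`-hyperplanes to `L`-hyperplanes, then `H ≤ Nrm`. -/
theorem le_Nrm_of_hyperplanes (hm : 2 ≤ finrank L V) (H : Subgroup (V ≃ₗ[F] V))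
    (hyp : ∀ g ∈ H, ∀ φ2 : V →ₗ[L] L, φ2 ≠ 0 →
      ∃ φ' : V →ₗ[L] L, ∀ x, φ' x = 0 ↔ φ2 (g.symm x) = 0) :
    H ≤ Nrm F L V := by
  have main : ∀ g ∈ H, ∀ l : L, ∃ l' : L, ∀ x, g (l • x) = l' • g x := by
    intro g hg l
    have hpres : ∀ φ' : V →ₗ[L] L, ∀ y, φ' y = 0 → φ' (g (l • g.symm y)) = 0 := by
      intro φ' y hy
      by_cases hφ' : φ' = 0
      · rw [hφ']; rfl
      obtain ⟨φ'', hφ''⟩ := hyp g⁻¹ (H.inv_mem hg) φ' hφ'
      have e : ∀ x, (g⁻¹).symm x = g x := fun x => rfl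
      have h1 : φ'' (g.symm y) = 0 := by
        rw [hφ'', e, g.apply_symm_apply]
        exact hy
      have h2 : φ'' (l • g.symm y) = 0 := by rw [map_smul, h1, smul_zero]
      have h3 := (hφ'' (l • g.symm y)).mp h2
      rwa [e] at h3
    have hline : ∀ u, ∃ μ : L, g (l • g.symm u) = μ • u := by
      intro u
      by_cases hu : u = 0
      · exact ⟨0, by rw [hu]; simp⟩
      by_contra hcon
      have hnot : g (l • g.symm u) ∉ Submodule.span L {u} := by
        intro hmem
        obtain ⟨a, ha⟩ := Submodule.mem_span_singleton.mp hmem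
        exact hcon ⟨a, ha.symm⟩
      obtain ⟨φ', hφ'u, hφ'T⟩ := exists_fun_pair hu hnot (0 : L) 1
      have := hpres φ' u hφ'u
      rw [hφ'T] at this
      exact one_ne_zero this
    obtain ⟨μ, hμ⟩ := scalar_of_preserves_lines hm (fun u => g (l • g.symm u))
      (fun x y => by simp only [map_add, smul_add]) hline
    refine ⟨μ, fun x => ?_⟩
    have := hμ (g x)
    simpa using this
  intro g hg
  refine ⟨main g hg, ?_⟩
  have := main g⁻¹ (H.inv_mem hg)
  exact this

/-- an `F`-transvection with `L`-hyperplane axis does not normalise `L`. -/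
theorem tv_not_mem_Nrm (hr : 2 ≤ finrank F L) {f0 : L →ₗ[F] F}
    (hf0 : f0 ≠ 0)
    {φ : V →ₗ[L] L} {v : V} (hφ : φ ≠ 0) (hv : v ≠ 0) (hφv : φ v = 0) (e : V ≃ₗ[F] V)
    (he : ∀ x, e x = x + f0 (φ x) • v) : e ∉ Nrm F L V := by
  intro hmem
  obtain ⟨u, hu⟩ := exists_phi_one hφ
  obtain ⟨q0, hq0⟩ := exists_f0_one hf0
  have hlin : ∀ (l : L) (x : V), e (l • x) = l • e x := by
    intro l x
    obtain ⟨l', hl'⟩ := hmem.1 l
    have h1 := hl' v
    rw [he, he, map_smul, hφv, smul_zero, map_zero, zero_smul, add_zero, add_zero] at h1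
    have : l = l' := smul_left_injective L hv h1
    rw [hl', this]
  have hall : ∀ l : L, algebraMap F L (f0 (l * q0)) = l := by
    intro l
    have h1 := hlin l (q0 • u)
    rw [he, he, smul_add, add_right_inj] at h1
    simp only [map_smul, hu, smul_eq_mul, mul_one] at h1
    rw [hq0, one_smul, ← algebraMap_smul L (f0 (l * q0)) v] at h1
    exact smul_left_injective L hv h1
  have hsurj : Function.Surjective (Algebra.linearMap F L) := fun l => ⟨_, hall l⟩
  have := LinearMap.finrank_le_finrank_of_surjective hsurj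
  rw [finrank_self] at this
  omega

end NrmLemmas

end Cfsg.Agent.Lib.Helper3.XF
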