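import Mathlib
import Cfsg.Agent.Lib.Helper3.XFBasic
import Cfsg.Agent.Lib.Helper3.XFNrm
import Cfsg.Agent.Lib.Helper3.XFExc1

/-!
# The exceptional case `ΓL₂(4) < GL₄(2)`
-/

set_option autoImplicit false
set_option maxHeartbeats 4000000
set_option maxRecDepth 100000
set_option linter.unusedVariables false
set_option linter.unusedSectionVars false
set_option linter.style.longLine false
set_option linter.style.haveILetI false
set_option linter.deprecated false

namespace Cfsg.Agent.Lib.Helper3.XF

open Module

section Exc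

variable {F L V : Type*} [Field F] [Field L] [Algebra F L] [Finite L] [FiniteDimensional F L]
  [AddCommGroup V] [Module F V] [Module L V] [IsScalarTower F L V] [FiniteDimensional L V]
  [FiniteDimensional F V]

variable (F) in
/-- restriction of scalars as a group homomorphism -/
def rsHom : (V ≃ₗ[L] V) →* (V ≃ₗ[F] V) where
  toFun g := g.restrictScalars F
  map_one' := rfl
  map_mul' _ _ := rfl

theorem rsHom_injective : Function.Injective (rsHom F (L := L) (V := V)) :=
  fun a b h => LinearEquiv.restrictScalars_injective F h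

theorem rsHom_apply (g : V ≃ₗ[L] V) (x : V) : rsHom F g x = g x := rfl

/-- fixed point congruence on an invariant subspace -/
theorem card_modEq_fixed [Finite V] (P : Subgroup (V ≃ₗ[F] V)) {p : ℕ} [Fact p.Prime]
    (hP : IsPGroup p P) (U : Submodule F V) (hU : ∀ g ∈ P, ∀ u ∈ U, g u ∈ U) :
    Nat.card U ≡ Nat.card {u : V // u ∈ U ∧ ∀ g ∈ P, g u = u} [MOD p] := by
  let Usub : SubMulAction ↥P V :=
    { carrier := U
      smul_mem' := fun g u hu => hU g.1 g.2 u hu }
  have h1 := hP.card_modEq_card_fixedPoints ↥Usub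
  have e1 : Nat.card ↥Usub = Nat.card U :=
    Nat.card_congr ⟨fun x => ⟨x.1, x.2⟩, fun x => ⟨x.1, x.2⟩, fun _ => rfl, fun _ => rfl⟩
  have e2 : Nat.card ↥(MulAction.fixedPoints ↥P ↥Usub) =
      Nat.card {u : V // u ∈ U ∧ ∀ g ∈ P, g u = u} := by
    refine Nat.card_congr ⟨fun x => ⟨x.1.1, x.1.2, fun g hg => ?_⟩,
      fun y => ⟨⟨y.1, y.2.1⟩, fun g => Subtype.ext (y.2.2 g.1 g.2)⟩, fun _ => rfl, fun _ => rfl⟩
    have := x.2 ⟨g, hg⟩
    exact congrArg Subtype.val this
  rw [e1, e2] at h1
  exact h1

theorem card_eq_two_pow [Finite V] (hq : Nat.card F = 2) (U : Submodule F V) :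
    Nat.card U = 2 ^ finrank F U := by
  rw [Module.natCard_eq_pow_finrank (K := F), hq]

/-- the exceptional case -/
theorem exc_main (hq : Nat.card F = 2) (hr : finrank F L = 2) (hm : finrank L V = 2)
    (H : Subgroup (V ≃ₗ[F] V)) (hMH : Nrm F L V ≤ H) (hHM : ¬ H ≤ Nrm F L V) : H = ⊤ := by
  classical
  have hFfin : Finite F := Finite.of_injective _ (algebraMap F L).injective
  haveI : Finite V := Module.finite_of_finite L
  haveI : Finite (V ≃ₗ[F] V) :=
    Finite.of_injective (fun e : V ≃ₗ[F] V => (e : V → V)) DFunLike.coe_injective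
  haveI : Finite (V ≃ₗ[L] V) :=
    Finite.of_injective (fun e : V ≃ₗ[L] V => (e : V → V)) DFunLike.coe_injective
  have hn : finrank F V = 4 := by
    rw [← Module.finrank_mul_finrank F L V, hr, hm]
  have hcL : Nat.card L = 4 := by
    rw [Module.natCard_eq_pow_finrank (K := F) (V := L), hq, hr]
    norm_num
  have hcV : Nat.card V = 16 := by
    rw [Module.natCard_eq_pow_finrank (K := F) (V := V), hq, hn]
    norm_num
  -- cardinalities
  have hG : Nat.card (V ≃ₗ[F] V) = 20160 := by
    rw [card_linearEquiv F V, Fin.prod_univ_eq_prod_range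
      (fun i => Nat.card F ^ finrank F V - Nat.card F ^ i) (finrank F V), hn, hq]
    decide
  have hGL : Nat.card (V ≃ₗ[L] V) = 180 := by
    rw [card_linearEquiv L V, Fin.prod_univ_eq_prod_range
      (fun i => Nat.card L ^ finrank L V - Nat.card L ^ i) (finrank L V), hm, hcL]
    decide
  -- the element of order 5
  haveI : Fact (Nat.Prime 5) := ⟨by norm_num⟩
  obtain ⟨s0, hs0⟩ := exists_prime_orderOf_dvd_card' (G := V ≃ₗ[L] V) 5 (by rw [hGL]; decide)
  obtain ⟨s, hsdef⟩ : ∃ s, s = rsHom F s0 := ⟨_, rfl⟩
  have hs : orderOf s = 5 := by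
    rw [hsdef, orderOf_injective (rsHom F) rsHom_injective, hs0]
  have hsx : ∀ x, s x = s0 x := fun x => by rw [hsdef]; rfl
  obtain ⟨P, hPdef⟩ : ∃ P, P = Subgroup.zpowers s := ⟨_, rfl⟩
  have hPcard : Nat.card P = 5 := by rw [hPdef, Nat.card_zpowers, hs]
  have hsP : s ∈ P := by rw [hPdef]; exact Subgroup.mem_zpowers s
  have hPrange : P ≤ (rsHom F (L := L) (V := V)).range := by
    rw [hPdef, Subgroup.zpowers_le]
    exact ⟨s0, hsdef.symm⟩
  have hPlin : ∀ g ∈ P, ∀ (l : L) (x : V), g (l • x) = l • g x := by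
    intro g hg l x
    obtain ⟨g0, rfl⟩ := hPrange hg
    exact g0.map_smul l x
  have hPp : IsPGroup 5 P := IsPGroup.of_card (n := 1) (by rw [hPcard, pow_one])
  -- fixed points of P
  have hfixP : ∀ u : V, s u = u → ∀ g ∈ P, g u = u := by
    intro u hu g hg
    have h1 : s ∈ MulAction.stabilizer (V ≃ₗ[F] V) u := hu
    have h2 : P ≤ MulAction.stabilizer (V ≃ₗ[F] V) u := by
      rw [hPdef, Subgroup.zpowers_le]
      exact h1
    exact h2 hg
  -- Fix(s) = 0
  have hfix0 : ∀ u : V, s u = u → u = 0 := by
    let Y : Submodule L V := LinearMap.eqLocus (s0 : V →ₗ[L] V) LinearMap.id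
    have hYmem : ∀ u, u ∈ Y ↔ s u = u := by
      intro u
      rw [hsx]
      rfl
    have h1 := card_modEq_fixed P hPp (⊤ : Submodule F V) (fun g hg u hu => trivial)
    have e1 : Nat.card ↥(⊤ : Submodule F V) = 16 := by
      rw [Nat.card_congr (Submodule.topEquiv (R := F) (M := V)).toEquiv, hcV]
    have e2 : Nat.card {u : V // u ∈ (⊤ : Submodule F V) ∧ ∀ g ∈ P, g u = u} = Nat.card Y := by
      refine Nat.card_congr ⟨fun x => ⟨x.1, (hYmem _).mpr (x.2.2 s hsP)⟩,
        fun y => ⟨y.1, trivial, hfixP _ ((hYmem _).mp y.2)⟩, fun _ => rfl, fun _ => rfl⟩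
    rw [e1, e2, Module.natCard_eq_pow_finrank (K := L) (V := Y), hcL] at h1
    have hle : finrank L Y ≤ 2 := by
      rw [← hm]
      exact Submodule.finrank_le Y
    have hY0 : finrank L Y = 0 := by
      unfold Nat.ModEq at h1
      obtain ⟨j, hj⟩ : ∃ j, j = finrank L Y := ⟨_, rfl⟩
      rw [← hj] at h1 hle ⊢
      interval_cases j
      · rfl
      · norm_num at h1
      · exfalso
        have htop : Y = ⊤ := Submodule.eq_top_of_finrank_eq (by rw [← hj, hm])
        have hs1 : s0 = 1 := by
          ext x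
          have : x ∈ Y := by rw [htop]; trivial
          exact this
        rw [hs1, orderOf_one] at hs0
        norm_num at hs0
    intro u hu
    have huY : u ∈ Y := (hYmem u).mpr hu
    have hYbot : Y = ⊥ := Submodule.finrank_eq_zero.mp hY0
    rw [hYbot] at huY
    exact (Submodule.mem_bot L).mp huY
  -- the centraliser ring
  let A : Subring (Module.End F V) :=
    { carrier := {a | ∀ g ∈ P, ∀ x, a (g x) = g (a x)}
      mul_mem' := fun {a b} ha hb g hg x => by
        show a (b (g x)) = g (a (b x))
        rw [hb g hg, ha g hg]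
      one_mem' := fun g hg x => rfl
      add_mem' := fun {a b} ha hb g hg x => by
        show a (g x) + b (g x) = g (a x + b x)
        rw [ha g hg, hb g hg, map_add]
      zero_mem' := fun g hg x => by
        show (0 : V) = g 0
        rw [map_zero]
      neg_mem' := fun {a} ha g hg x => by
        show -(a (g x)) = g (-(a x))
        rw [ha g hg, map_neg] }
  have hAmem : ∀ a : Module.End F V, a ∈ A ↔ ∀ g ∈ P, ∀ x, a (g x) = g (a x) := fun a => Iff.rfl
  have hinj : ∀ a ∈ A, a ≠ 0 → Function.Injective a := by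
    intro a ha ha0
    have hU : ∀ g ∈ P, ∀ u ∈ LinearMap.ker a, g u ∈ LinearMap.ker a := by
      intro g hg u hu
      rw [LinearMap.mem_ker] at hu ⊢
      rw [ha g hg, hu, map_zero]
    have h1 := card_modEq_fixed P hPp (LinearMap.ker a) hU
    have e2 : Nat.card {u : V // u ∈ LinearMap.ker a ∧ ∀ g ∈ P, g u = u} = 1 := by
      rw [Nat.card_eq_one_iff_unique]
      refine ⟨⟨fun x y => ?_⟩, ⟨⟨0, Submodule.zero_mem _, fun g hg => map_zero g⟩⟩⟩
      apply Subtype.ext
      rw [hfix0 x.1 (x.2.2 s hsP), hfix0 y.1 (y.2.2 s hsP)]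
    rw [e2, card_eq_two_pow hq] at h1
    have hle : finrank F (LinearMap.ker a) ≤ 4 := by
      rw [← hn]
      exact Submodule.finrank_le _
    have hk0 : finrank F (LinearMap.ker a) = 0 := by
      unfold Nat.ModEq at h1
      obtain ⟨j, hj⟩ : ∃ j, j = finrank F (LinearMap.ker a) := ⟨_, rfl⟩
      rw [← hj] at h1 hle ⊢
      interval_cases j
      · rfl
      · norm_num at h1
      · norm_num at h1
      · norm_num at h1
      · exfalso
        have htop : LinearMap.ker a = ⊤ := Submodule.eq_top_of_finrank_eq (by rw [← hj, hn])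
        exact ha0 (LinearMap.ker_eq_top.mp htop)
    have hbot : LinearMap.ker a = ⊥ := Submodule.finrank_eq_zero.mp hk0
    exact LinearMap.ker_eq_bot.mp hbot
  -- domain, commutativity
  haveI : Nontrivial V := by
    apply Module.nontrivial_of_finrank_pos (R := F)
    omega
  haveI : Nontrivial ↥A := by
    refine ⟨⟨0, 1, fun h => ?_⟩⟩
    obtain ⟨v, hv⟩ := exists_ne (0 : V)
    have h1 : ((0 : ↥A) : Module.End F V) v = ((1 : ↥A) : Module.End F V) v := by rw [h]
    exact hv h1.symm
  haveI : NoZeroDivisors ↥A := by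
    refine ⟨fun {x y} hxy => ?_⟩
    by_contra hcon
    push Not at hcon
    have hx : Function.Injective (x : Module.End F V) :=
      hinj x.1 x.2 (fun h => hcon.1 (Subtype.ext h))
    apply hcon.2
    apply Subtype.ext
    ext v
    apply hx
    have h1 : ((x * y : ↥A) : Module.End F V) v = 0 := by rw [hxy]; rfl
    show (x : Module.End F V) ((y : Module.End F V) v) =
      (x : Module.End F V) (((0 : ↥A) : Module.End F V) v)
    rw [Subring.coe_zero, LinearMap.zero_apply, map_zero]
    exact h1
  haveI : IsDomain ↥A := NoZeroDivisors.to_isDomain _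
  haveI : Finite (Module.End F V) :=
    Finite.of_injective (fun e : V →ₗ[F] V => (e : V → V)) DFunLike.coe_injective
  haveI : Finite ↥A := Finite.of_injective _ Subtype.val_injective
  have hfield := Finite.isDomain_to_isField ↥A
  have hcomm : ∀ x y : ↥A, x * y = y * x := hfield.mul_comm
  have hnzd : ∀ x y : ↥A, x * y = 0 → x = 0 ∨ y = 0 := fun x y h => mul_eq_zero.mp h
  -- the scalars
  have hscA : ∀ l : L, (LinearMap.lsmul L V l).restrictScalars F ∈ A := by
    intro l g hg x
    exact (hPlin g hg l x).symm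
  -- char 2
  have h2F : (2 : F) = 0 := by
    have := Fintype.ofFinite F
    have h := FiniteField.cast_card_eq_zero F
    rw [← Nat.card_eq_fintype_card, hq] at h
    exact_mod_cast h
  have h2L : (2 : L) = 0 := by
    have h : algebraMap F L 2 = 0 := by rw [h2F, map_zero]
    rwa [map_ofNat] at h
  -- ω
  obtain ⟨ω, hω⟩ : ∃ ω : L, ω ^ 2 = ω + 1 := by
    have hex : ∃ ω : L, ω ≠ 0 ∧ ω ≠ 1 := by
      by_contra hcon
      push Not at hcon
      have hsub : (Set.univ : Set L) ⊆ {0, 1} := by
        intro x _
        by_cases hx : x = 0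
        · left; exact hx
        · right; exact hcon x hx
      have h1 := Set.ncard_le_ncard hsub (Set.toFinite _)
      rw [Set.ncard_univ, hcL] at h1
      have h2 : ({0, 1} : Set L).ncard ≤ 2 := Set.ncard_insert_le _ _ |>.trans (by simp)
      omega
    obtain ⟨ω, hω0, hω1⟩ := hex
    refine ⟨ω, ?_⟩
    have h3 : ω ^ 3 = 1 := by
      have := Fintype.ofFinite L
      have h := FiniteField.pow_card_sub_one_eq_one ω hω0
      rw [← Nat.card_eq_fintype_card, hcL] at h
      exact h
    have h4 : (ω - 1) * (ω ^ 2 + ω + 1) = 0 := by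
      have : (ω - 1) * (ω ^ 2 + ω + 1) = ω ^ 3 - 1 := by ring
      rw [this, h3, sub_self]
    rcases mul_eq_zero.mp h4 with h5 | h5
    · exact absurd (sub_eq_zero.mp h5) hω1
    · linear_combination h5 - (ω + 1) * h2L
  -- normaliser of P
  have hmain : ∀ g ∈ Subgroup.normalizer (P : Set (V ≃ₗ[F] V)), ∀ l : L, ∃ l' : L,
      ∀ x, g (l • x) = l' • g x := by
    intro g hg l
    rw [Subgroup.mem_normalizer_iff] at hg
    let Am : Module.End F V := (g : V →ₗ[F] V).comp
      (((LinearMap.lsmul L V l).restrictScalars F).comp (g.symm : V →ₗ[F] V))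
    have hAm : ∀ x, Am x = g (l • g.symm x) := fun x => rfl
    have hAmA : Am ∈ A := by
      intro p hp x
      have hp' : g⁻¹ * p * g ∈ P := by
        have h1 := (hg (g⁻¹ * p * g))
        rw [h1]
        have : g * (g⁻¹ * p * g) * g⁻¹ = p := by group
        rw [this]
        exact hp
      have e1 : g.symm (p x) = (g⁻¹ * p * g) (g.symm x) := by
        show g.symm (p x) = g.symm (p (g (g.symm x)))
        rw [g.apply_symm_apply]
      have e2 : g ((g⁻¹ * p * g) (l • g.symm x)) = p (g (l • g.symm x)) := by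
        show g (g.symm (p (g (l • g.symm x)))) = p (g (l • g.symm x))
        rw [g.apply_symm_apply]
      rw [hAm, hAm, e1, ← hPlin _ hp', e2]
    have hpow : ∀ k : ℕ, ∀ x, (Am ^ k) x = g (l ^ k • g.symm x) := by
      intro k
      induction k with
      | zero => intro x; simp
      | succ k ih =>
        intro x
        rw [pow_succ, Module.End.mul_apply, ih, hAm, g.symm_apply_apply, smul_smul, pow_succ]
    have hl4 : l ^ 4 = l := by
      have := Fintype.ofFinite L
      have h := FiniteField.pow_card l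
      rwa [← Nat.card_eq_fintype_card, hcL] at h
    have hAm4 : Am ^ 4 = Am := by
      ext x
      rw [hpow, hl4, hAm]
    have key := four_factor hcomm hnzd (⟨Am, hAmA⟩ : ↥A)
      (⟨(LinearMap.lsmul L V ω).restrictScalars F, hscA ω⟩ : ↥A)
      (by
        apply Subtype.ext
        ext x
        show (2 : Module.End F V) x = 0
        rw [← one_add_one_eq_two]
        show x + x = 0
        rw [← two_smul F x, h2F, zero_smul])
      (by
        apply Subtype.ext
        ext x
        show ω • ω • x = ω • x + x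
        rw [smul_smul, ← pow_two, hω, add_smul, one_smul])
      (by
        apply Subtype.ext
        exact hAm4)
    have hconv : ∀ l0 : L, (∀ x, Am x + l0 • x = 0) → ∃ l' : L, ∀ x, g (l • x) = l' • g x := by
      intro l0 h0
      refine ⟨-l0, fun x => ?_⟩
      have := h0 (g x)
      rw [hAm, g.symm_apply_apply] at this
      rw [neg_smul]
      exact eq_neg_of_add_eq_zero_left this
    rcases key with h | h | h | h
    · apply hconv 0
      intro x
      have := congrArg (fun a : ↥A => (a : Module.End F V) x) h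
      simpa using this
    · apply hconv 1
      intro x
      have := congrArg (fun a : ↥A => (a : Module.End F V) x) h
      simpa using this
    · apply hconv ω
      intro x
      have := congrArg (fun a : ↥A => (a : Module.End F V) x) h
      simpa using this
    · apply hconv (ω + 1)
      intro x
      have := congrArg (fun a : ↥A => (a : Module.End F V) x) h
      simpa [add_smul, add_assoc] using this
  have hNM : Subgroup.normalizer (P : Set (V ≃ₗ[F] V)) ≤ Nrm F L V := by
    intro g hg
    refine ⟨hmain g hg, ?_⟩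
    exact hmain g⁻¹ (Subgroup.inv_mem _ hg)
  -- Sylow counting
  have hG2 : ¬ 5 ^ 2 ∣ Nat.card (V ≃ₗ[F] V) := by rw [hG]; decide
  have hcancel : ∀ x y : ℕ, x ≡ 1 [MOD 5] → x * y ≡ 1 [MOD 5] → y ≡ 1 [MOD 5] := by
    intro x y hx hxy
    have := (Nat.ModEq.mul_right y hx).symm.trans hxy
    rwa [one_mul] at this
  have r1 := sylow_relIndex_modEq P hPcard hG2 H (le_trans hNM hMH)
  have r2 := sylow_relIndex_modEq P hPcard hG2 (Nrm F L V) hNM
  have r3 := sylow_relIndex_modEq P hPcard hG2 ⊤ le_top
  rw [Subgroup.relIndex_top_right] at r3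
  have hb : (Nrm F L V).relIndex H ≡ 1 [MOD 5] := by
    apply hcancel _ _ r2
    rw [Subgroup.relIndex_mul_relIndex _ _ _ hNM hMH]
    exact r1
  have hMi : (Nrm F L V).index ≡ 1 [MOD 5] := by
    apply hcancel _ _ r2
    rw [Subgroup.relIndex_mul_index hNM]
    exact r3
  have ha : H.index ≡ 1 [MOD 5] := by
    apply hcancel _ _ hb
    rw [Subgroup.relIndex_mul_index hMH]
    exact hMi
  have hGLLM : (rsHom F (L := L) (V := V)).range ≤ Nrm F L V := by
    rintro _ ⟨g0, rfl⟩
    exact restrictScalars_mem_Nrm g0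
  have hGLLcard : Nat.card (rsHom F (L := L) (V := V)).range = 180 := by
    rw [← Nat.card_congr (MonoidHom.ofInjective (rsHom_injective (F := F) (L := L) (V := V))).toEquiv, hGL]
  have hGLLindex : (rsHom F (L := L) (V := V)).range.index = 112 := by
    have := Subgroup.index_mul_card (rsHom F (L := L) (V := V)).range
    rw [hGLLcard, hG] at this
    omega
  have hMdvd : (Nrm F L V).index ∣ 112 := by
    rw [← hGLLindex, ← Subgroup.relIndex_mul_index hGLLM]
    exact dvd_mul_left _ _
  have hbne : (Nrm F L V).relIndex H ≠ 1 := by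
    intro h1
    exact hHM (Subgroup.relIndex_eq_one.mp h1)
  have hfin := arith_112 H.index ((Nrm F L V).relIndex H)
    (by rw [Subgroup.relIndex_mul_index hMH]; exact hMdvd) ha hb hbne
  exact Subgroup.index_eq_one.mp hfin

end Exc

end Cfsg.Agent.Lib.Helper3.XF
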