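import Mathlib
import Cfsg.Agent.Lib.Helper3.XFBasic
import Cfsg.Agent.Lib.Helper3.XFNorm
import Cfsg.Agent.Lib.Helper3.XFT
import Cfsg.Agent.Lib.Helper3.XFA
import Cfsg.Agent.Lib.Helper3.XFA2

/-!
# The maximal intersection lemma
-/

set_option autoImplicit false
set_option maxHeartbeats 4000000
set_option maxRecDepth 100000
set_option linter.unusedVariables false
set_option linter.unusedSectionVars false
set_option linter.style.longLine false
set_option linter.style.haveILetI false
set_option linter.deprecated false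

namespace Cfsg.Agent.Lib.Helper3.XF

open Module

section MI

variable (F : Type*) {L V : Type*} [Field F] [Field L] [Algebra F L] [Finite L]
  [FiniteDimensional F L]
  [AddCommGroup V] [Module F V] [Module L V] [IsScalarTower F L V] [FiniteDimensional L V]
  [FiniteDimensional F V]

/-- the `L`-hyperplane `ker φ` as an `F`-subspace -/
def KF (φ : V →ₗ[L] L) : Submodule F V := LinearMap.ker (φ.restrictScalars F)

variable {F}

@[simp] theorem mem_KF {φ : V →ₗ[L] L} {x : V} : x ∈ KF F φ ↔ φ x = 0 := by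
  simp [KF]

theorem finrank_KF {φ : V →ₗ[L] L} (hφ : φ ≠ 0) :
    finrank F (KF F φ) + finrank F L = finrank F V := by
  have hsurj : Function.Surjective (φ.restrictScalars F) := by
    obtain ⟨u, hu⟩ := exists_phi_one hφ
    intro l
    exact ⟨l • u, by simp [hu]⟩
  have := LinearMap.finrank_range_add_finrank_ker (φ.restrictScalars F)
  rw [LinearMap.range_eq_top.mpr hsurj, finrank_top] at this
  rw [KF]
  omega

theorem mem_map_KF {φ : V →ₗ[L] L} {g : V ≃ₗ[F] V} {x : V} :
    x ∈ (KF F φ).map (g : V →ₗ[F] V) ↔ φ (g.symm x) = 0 := by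
  rw [Submodule.mem_map_equiv, mem_KF]

/-- an `L`-stable `F`-subspace of small codimension in an `L`-stable subspace is everything -/
theorem eq_of_Lstable (W Y : Submodule F V) (hYW : Y ≤ W)
    (hY : ∀ (l : L), ∀ y ∈ Y, l • y ∈ Y) (hW : ∀ (l : L), ∀ w ∈ W, l • w ∈ W)
    (hcodim : finrank F W < finrank F Y + finrank F L) : Y = W := by
  by_contra hne
  have : ∃ w ∈ W, w ∉ Y := by
    by_contra hcon
    push Not at hcon
    exact hne (le_antisymm hYW hcon)
  obtain ⟨w, hwW, hwY⟩ := this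
  have hw0 : w ≠ 0 := by
    rintro rfl
    exact hwY Y.zero_mem
  let s : L →ₗ[F] V := (LinearMap.toSpanSingleton L V w).restrictScalars F
  have hsinj : Function.Injective s := by
    intro a b hab
    have h1 : a • w = b • w := by simpa [s] using hab
    exact smul_left_injective L hw0 h1
  have hZ : finrank F (LinearMap.range s) = finrank F L :=
    LinearMap.finrank_range_of_inj hsinj
  have hZW : LinearMap.range s ≤ W := by
    rintro _ ⟨l, rfl⟩
    simpa [s] using hW l w hwW
  have hdisj : Y ⊓ LinearMap.range s = ⊥ := by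
    rw [eq_bot_iff]
    rintro x ⟨hxY, ⟨l, rfl⟩⟩
    have hl : l • w ∈ Y := by simpa [s] using hxY
    by_cases hl0 : l = 0
    · simp [hl0]
    · exfalso
      apply hwY
      have := hY l⁻¹ _ hl
      rwa [smul_smul, inv_mul_cancel₀ hl0, one_smul] at this
  have h1 := Submodule.finrank_sup_add_finrank_inf_eq Y (LinearMap.range s)
  rw [hdisj, finrank_bot, add_zero, hZ] at h1
  have h2 : finrank F ↥(Y ⊔ LinearMap.range s) ≤ finrank F W :=
    Submodule.finrank_mono (sup_le hYW hZW)
  omega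

theorem finrank_sup_singleton (D : Submodule F V) {w : V} (hw : w ∉ D) :
    finrank F ↥(D ⊔ Submodule.span F {w}) = finrank F D + 1 := by
  have hw0 : w ≠ 0 := by
    rintro rfl
    exact hw D.zero_mem
  have hdisj : D ⊓ Submodule.span F {w} = ⊥ := by
    rw [eq_bot_iff]
    rintro x ⟨hxD, hx⟩
    obtain ⟨c, rfl⟩ := Submodule.mem_span_singleton.mp hx
    by_cases hc : c = 0
    · simp [hc]
    · exfalso
      apply hw
      have := D.smul_mem c⁻¹ hxD
      rwa [smul_smul, inv_mul_cancel₀ hc, one_smul] at this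
  have h1 := Submodule.finrank_sup_add_finrank_inf_eq D (Submodule.span F {w})
  rw [hdisj, finrank_bot, add_zero, finrank_span_singleton hw0] at h1
  exact h1

theorem two_mul_lt_two_pow (d : ℕ) (hd : 3 ≤ d) : 2 * d < 2 ^ d := by
  induction d, hd using Nat.le_induction with
  | base => norm_num
  | succ k hk ih => rw [pow_succ]; omega

/-- **Lemma MI.** -/
theorem lemmaMI (hr : (finrank F L).Prime) (hm : 2 ≤ finrank L V)
    {H : Subgroup (V ≃ₗ[F] V)} (hH : ContainsM0 L H)
    (hLA : ∀ φ : V →ₗ[L] L, φ ≠ 0 → ∀ h ∈ H, (∀ x, φ x = 0 ↔ φ (h x) = 0) →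
      ∃ τ : L →ₐ[F] L, ∀ (l : L) (w : V), φ w = 0 → h (l • w) = τ l • h w)
    (hnot : ∃ g ∈ H, ∃ φ2 : V →ₗ[L] L, φ2 ≠ 0 ∧
      ∀ φ' : V →ₗ[L] L, ¬ ∀ x, (φ' x = 0 ↔ φ2 (g.symm x) = 0)) :
    Nat.card F = 2 ∧ finrank F L = 2 ∧ finrank L V = 2 := by
  classical
  have hFfin : Finite F := Finite.of_injective _ (algebraMap F L).injective
  have hn : finrank F L * finrank L V = finrank F V := Module.finrank_mul_finrank F L V
  have hr2 : 2 ≤ finrank F L := hr.two_le
  obtain ⟨f0, hf01⟩ : ∃ f0 : L →ₗ[F] F, f0 1 = 1 := exists_fun_one (one_ne_zero) 1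
  have hf0 : f0 ≠ 0 := by
    intro h0
    rw [h0] at hf01
    simp at hf01
  -- the set of intersection dimensions
  let S : Set ℕ := {k | ∃ (φa φb : V →ₗ[L] L) (g : V ≃ₗ[F] V), φa ≠ 0 ∧ φb ≠ 0 ∧ g ∈ H ∧
      (KF F φb).map (g : V →ₗ[F] V) ≠ KF F φa ∧
      finrank F ↥(KF F φa ⊓ (KF F φb).map (g : V →ₗ[F] V)) = k}
  -- Step 1
  have hS1 : ∃ k ∈ S, finrank F V + 1 ≤ k + 2 * finrank F L := by
    obtain ⟨g1, hg1, φ21, hφ21, hnot1⟩ := hnot
    have hfr1 : finrank F ↥((KF F φ21).map (g1 : V →ₗ[F] V)) + finrank F L = finrank F V := by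
      rw [LinearEquiv.finrank_map_eq]
      exact finrank_KF hφ21
    have hlt : (KF F φ21).map (g1 : V →ₗ[F] V) < ⊤ := by
      rw [lt_top_iff_ne_top]
      intro htop
      rw [htop, finrank_top] at hfr1
      omega
    obtain ⟨ψ, hψ0, hψ⟩ := Submodule.exists_le_ker_of_lt_top _ hlt
    obtain ⟨φ1, hφ1⟩ := fun_rep (V := V) hf0 ψ
    have hφ10 : φ1 ≠ 0 := by
      intro h0
      apply hψ0
      ext x
      rw [hφ1, h0]
      simp
    have hle1 : KF F φ1 ≤ LinearMap.ker ψ := by
      intro x hx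
      rw [mem_KF] at hx
      rw [LinearMap.mem_ker, hφ1, hx, map_zero]
    have hne : (KF F φ21).map (g1 : V →ₗ[F] V) ≠ KF F φ1 := by
      intro heq
      apply hnot1 φ1
      intro x
      rw [← mem_KF (F := F), ← heq, mem_map_KF]
    refine ⟨_, ⟨φ1, φ21, g1, hφ10, hφ21, hg1, hne, rfl⟩, ?_⟩
    have h1 := Submodule.finrank_sup_add_finrank_inf_eq (KF F φ1)
      ((KF F φ21).map (g1 : V →ₗ[F] V))
    have h2 : finrank F ↥(KF F φ1 ⊔ (KF F φ21).map (g1 : V →ₗ[F] V)) < finrank F V := by
      have hle : KF F φ1 ⊔ (KF F φ21).map (g1 : V →ₗ[F] V) ≤ LinearMap.ker ψ := sup_le hle1 hψ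
      have hkerne : LinearMap.ker ψ ≠ ⊤ := by
        intro htop
        apply hψ0
        exact LinearMap.ker_eq_top.mp htop
      exact lt_of_le_of_lt (Submodule.finrank_mono hle) (Submodule.finrank_lt hkerne)
    have h3 := finrank_KF (F := F) hφ10
    omega
  have hSne : S.Nonempty := by
    obtain ⟨k, hk, -⟩ := hS1
    exact ⟨k, hk⟩
  have hSbdd : BddAbove S := by
    refine ⟨finrank F V, fun k hk => ?_⟩
    obtain ⟨φa, φb, g, -, -, -, -, rfl⟩ := hk
    exact Submodule.finrank_le _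
  have hdS := Nat.sSup_mem hSne hSbdd
  have hmax : ∀ k ∈ S, k ≤ sSup S := fun k hk => le_csSup hSbdd hk
  obtain ⟨d, hd⟩ : ∃ d, d = sSup S := ⟨_, rfl⟩
  rw [← hd] at hdS hmax
  have hdlow : finrank F V + 1 ≤ d + 2 * finrank F L := by
    obtain ⟨k, hk, hk2⟩ := hS1
    have := hmax k hk
    omega
  obtain ⟨φ, φ2, g, hφ, hφ2, hg, hWne, hdim⟩ := hdS
  have hfW : finrank F (KF F φ) + finrank F L = finrank F V := finrank_KF hφ
  have hfW' : finrank F ↥((KF F φ2).map (g : V →ₗ[F] V)) + finrank F L = finrank F V := by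
    rw [LinearEquiv.finrank_map_eq]
    exact finrank_KF hφ2
  -- Step 3: wc
  have hwc : ∃ wc, φ wc = 0 ∧ φ2 (g.symm wc) ≠ 0 := by
    by_contra hcon
    push Not at hcon
    apply hWne
    symm
    apply Submodule.eq_of_le_of_finrank_eq
    · intro x hx
      rw [mem_map_KF]
      exact hcon x (mem_KF.mp hx)
    · omega
  obtain ⟨wc, hwcW, hwcc⟩ := hwc
  obtain ⟨c, hc⟩ : ∃ c, c = φ2 (g.symm wc) := ⟨_, rfl⟩
  rw [← hc] at hwcc
  have hD : ∀ b, b ∈ KF F φ ⊓ (KF F φ2).map (g : V →ₗ[F] V) ↔ φ b = 0 ∧ φ2 (g.symm b) = 0 := by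
    intro b
    rw [Submodule.mem_inf, mem_KF, mem_map_KF]
  -- the elements e_b
  have hE : ∀ b, φ2 (g.symm b) = 0 → ∃ e ∈ H, ∀ x,
      e x = x + g (φ2 (g.symm x) • c⁻¹ • g.symm b) := by
    intro b hb
    have hb2 : φ2 (c⁻¹ • g.symm b) = 0 := by rw [map_smul, hb, smul_zero]
    have h1 := ktv_in (F := F) hH φ2 _ hb2
    have h2 : In H ((g : V →ₗ[F] V).comp (((φ2.smulRight (c⁻¹ • g.symm b)).restrictScalars F).comp
        (g.symm : V →ₗ[F] V))) := h1.conj hg (fun x => rfl)
    obtain ⟨e, he, hex⟩ := h2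
    exact ⟨e, he, fun x => by rw [hex]; rfl⟩
  -- stabilisation of W
  have hstab : ∀ b, φ b = 0 → φ2 (g.symm b) = 0 → ∀ e ∈ H,
      (∀ x, e x = x + g (φ2 (g.symm x) • c⁻¹ • g.symm b)) →
      ∀ x, φ x = 0 ↔ φ (e x) = 0 := by
    intro b hbW hbW' e he hex
    have hfix : ∀ y, φ2 (g.symm y) = 0 → e y = y := by
      intro y hy
      rw [hex, hy, zero_smul, map_zero, add_zero]
    have hewc : e wc = wc + b := by
      rw [hex, ← hc, smul_smul, mul_inv_cancel₀ hwcc, one_smul, g.apply_symm_apply]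
    have hmap : (KF F φ).map (e : V →ₗ[F] V) = KF F φ := by
      by_contra hne
      have hk : finrank F ↥(KF F φ ⊓ (KF F φ).map (e : V →ₗ[F] V)) ∈ S :=
        ⟨φ, φ, e, hφ, hφ, he, hne, rfl⟩
      have h1 := hmax _ hk
      have hwcD : wc ∉ KF F φ ⊓ (KF F φ2).map (g : V →ₗ[F] V) := by
        rw [hD]
        intro h
        exact hwcc (by rw [hc]; exact h.2)
      have h2 : (KF F φ ⊓ (KF F φ2).map (g : V →ₗ[F] V)) ⊔ Submodule.span F {wc} ≤
          KF F φ ⊓ (KF F φ).map (e : V →ₗ[F] V) := by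
        apply sup_le
        · intro y hy
          rw [hD] at hy
          rw [Submodule.mem_inf, mem_KF, mem_map_KF]
          refine ⟨hy.1, ?_⟩
          have : e.symm y = y := by
            rw [LinearEquiv.symm_apply_eq, hfix y hy.2]
          rw [this]
          exact hy.1
        · rw [Submodule.span_singleton_le_iff_mem, Submodule.mem_inf, mem_KF, mem_map_KF]
          refine ⟨hwcW, ?_⟩
          have : e.symm wc = wc - b := by
            rw [LinearEquiv.symm_apply_eq, map_sub, hewc, hfix b hbW']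
            abel
          rw [this, map_sub, hwcW, hbW, sub_zero]
      have h3 := Submodule.finrank_mono h2
      rw [finrank_sup_singleton _ hwcD, hdim] at h3
      omega
    intro x
    constructor
    · intro hx
      have : e x ∈ (KF F φ).map (e : V →ₗ[F] V) :=
        Submodule.mem_map_of_mem (mem_KF.mpr hx)
      rw [hmap] at this
      exact mem_KF.mp this
    · intro hx
      have : e x ∈ (KF F φ).map (e : V →ₗ[F] V) := by
        rw [hmap]
        exact mem_KF.mpr hx
      rw [mem_map_KF, e.symm_apply_apply] at this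
      exact this
  -- choose e_b, τ_b
  have hall : ∀ b : ↥(KF F φ ⊓ (KF F φ2).map (g : V →ₗ[F] V)),
      ∃ (e : V ≃ₗ[F] V) (τ : L →ₐ[F] L), e ∈ H ∧
        (∀ x, e x = x + g (φ2 (g.symm x) • c⁻¹ • g.symm (b : V))) ∧
        (∀ x, φ x = 0 ↔ φ (e x) = 0) ∧
        ∀ (l : L) (w : V), φ w = 0 → e (l • w) = τ l • e w := by
    intro b
    have hb := (hD _).mp b.2
    obtain ⟨e, he, hex⟩ := hE (b : V) hb.2
    have hst := hstab (b : V) hb.1 hb.2 e he hex
    obtain ⟨τ, hτ⟩ := hLA φ hφ e he hst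
    exact ⟨e, τ, he, hex, hst, hτ⟩
  choose e τ heH hex hst hτ using hall
  have hfixb : ∀ (b : ↥(KF F φ ⊓ (KF F φ2).map (g : V →ₗ[F] V))) (y : V),
      φ2 (g.symm y) = 0 → e b y = y := by
    intro b y hy
    rw [hex, hy, zero_smul, map_zero, add_zero]
  have hewc : ∀ b : ↥(KF F φ ⊓ (KF F φ2).map (g : V →ₗ[F] V)), e b wc = wc + (b : V) := by
    intro b
    rw [hex, ← hc, smul_smul, mul_inv_cancel₀ hwcc, one_smul, g.apply_symm_apply]
  have hwc0 : wc ≠ 0 := by
    rintro rfl
    apply hwcc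
    rw [hc, map_zero, map_zero]
  -- Sub-claim A
  have hA : ∀ b : ↥(KF F φ ⊓ (KF F φ2).map (g : V →ₗ[F] V)), (∀ l, τ b l = l) → b = 0 := by
    intro b hid
    let Y : Submodule F V := KF F φ ⊓ LinearMap.ker ((e b : V →ₗ[F] V) - LinearMap.id)
    have hYmem : ∀ y, y ∈ Y ↔ φ y = 0 ∧ e b y = y := by
      intro y
      simp only [Y, Submodule.mem_inf, mem_KF, LinearMap.mem_ker, LinearMap.sub_apply,
        LinearEquiv.coe_coe, LinearMap.id_apply, sub_eq_zero]
    have hYW : Y = KF F φ := by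
      apply eq_of_Lstable (L := L) (KF F φ) Y inf_le_left
      · intro l y hy
        rw [hYmem] at hy ⊢
        refine ⟨by rw [map_smul, hy.1, smul_zero], ?_⟩
        rw [hτ b l y hy.1, hid, hy.2]
      · intro l w hw
        rw [mem_KF] at hw ⊢
        rw [map_smul, hw, smul_zero]
      · have hDY : KF F φ ⊓ (KF F φ2).map (g : V →ₗ[F] V) ≤ Y := by
          intro y hy
          rw [hD] at hy
          rw [hYmem]
          exact ⟨hy.1, hfixb b y hy.2⟩
        have := Submodule.finrank_mono hDY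
        rw [hdim] at this
        omega
    have hwcY : wc ∈ Y := by rw [hYW]; exact mem_KF.mpr hwcW
    have h1 := ((hYmem wc).mp hwcY).2
    rw [hewc] at h1
    have : (b : V) = 0 := by
      have h2 : wc + (b : V) = wc + 0 := by rw [h1, add_zero]
      exact add_left_cancel h2
    exact Subtype.ext this
  -- Sub-claim B
  have hB : ∀ (b1 b2 : ↥(KF F φ ⊓ (KF F φ2).map (g : V →ₗ[F] V))) (l : L),
      τ b1 l = τ (b1 - b2) (τ b2 l) := by
    intro b1 b2 l
    have hb1 := (hD _).mp b1.2
    have hb2 := (hD _).mp b2.2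
    have hcomp : ∀ x, e b1 x = e (b1 - b2) (e b2 x) := by
      intro x
      rw [hex b1 x, hex (b1 - b2) (e b2 x), hex b2 x]
      have h1 : φ2 (g.symm (x + g (φ2 (g.symm x) • c⁻¹ • g.symm (b2 : V)))) = φ2 (g.symm x) := by
        rw [map_add, g.symm_apply_apply, map_add, map_smul, map_smul, hb2.2, smul_zero,
          smul_zero, add_zero]
      rw [h1, Submodule.coe_sub, map_sub, smul_sub, smul_sub, map_sub]
      abel
    have hewc0 : e b1 wc ≠ 0 := by
      intro h0
      apply hwc0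
      exact (e b1).injective (h0.trans (map_zero _).symm)
    have h1 : τ b1 l • e b1 wc = τ (b1 - b2) (τ b2 l) • e b1 wc := by
      rw [← hτ b1 l wc hwcW, hcomp, hτ b2 l wc hwcW,
        hτ (b1 - b2) _ _ ((hst b2 wc).mp hwcW), ← hcomp]
    exact smul_left_injective L hewc0 h1
  have hinj : Function.Injective τ := by
    intro b1 b2 h12
    have hid : ∀ l, τ (b1 - b2) l = l := by
      intro l
      obtain ⟨l', rfl⟩ := (AlgHom.bijective (τ b2)).2 l
      rw [← hB b1 b2 l', h12]
    have := hA _ hid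
    exact sub_eq_zero.mp this
  have hcard : Nat.card F ^ d ≤ finrank F L := by
    have h1 := Nat.card_le_card_of_injective τ hinj
    have h2 : Nat.card (L →ₐ[F] L) ≤ finrank F L := card_algHom_le_finrank F L L
    have h3 : Nat.card ↥(KF F φ ⊓ (KF F φ2).map (g : V →ₗ[F] V)) = Nat.card F ^ d := by
      rw [Module.natCard_eq_pow_finrank (K := F), hdim]
    omega
  -- Step 5
  have hstep5 : finrank F V ≤ finrank F L + 2 * d := by
    have hd1 : 1 ≤ d := by
      have : finrank F L * 2 ≤ finrank F V := by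
        rw [← hn]
        exact Nat.mul_le_mul_left _ hm
      omega
    have hDne : KF F φ ⊓ (KF F φ2).map (g : V →ₗ[F] V) ≠ ⊥ := by
      intro h0
      rw [h0, finrank_bot] at hdim
      omega
    obtain ⟨b0, hb0D, hb00⟩ := Submodule.exists_mem_ne_zero_of_ne_bot hDne
    let b : ↥(KF F φ ⊓ (KF F φ2).map (g : V →ₗ[F] V)) := ⟨b0, hb0D⟩
    let Ξ : ↥(KF F φ) →ₗ[F] V :=
      (((e b : V →ₗ[F] V) - LinearMap.id)).comp (KF F φ).subtype
    have hΞ : ∀ w : ↥(KF F φ), Ξ w = g (φ2 (g.symm (w : V)) • c⁻¹ • g.symm b0) := by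
      intro w
      simp only [Ξ, LinearMap.comp_apply, Submodule.subtype_apply, LinearMap.sub_apply,
        LinearEquiv.coe_coe, LinearMap.id_apply]
      rw [hex b (w : V)]
      simp [b]
    have hrange : LinearMap.range Ξ ≤ KF F φ ⊓ (KF F φ2).map (g : V →ₗ[F] V) := by
      rintro _ ⟨w, rfl⟩
      rw [hD]
      constructor
      · have h1 : φ (e b (w : V)) = 0 := (hst b _).mp (mem_KF.mp w.2)
        simp only [Ξ, LinearMap.comp_apply, Submodule.subtype_apply, LinearMap.sub_apply,
          LinearEquiv.coe_coe, LinearMap.id_apply]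
        rw [map_sub, h1, mem_KF.mp w.2, sub_zero]
      · rw [hΞ, g.symm_apply_apply, map_smul, map_smul, ((hD b0).mp hb0D).2, smul_zero,
          smul_zero]
    have hker : LinearMap.ker Ξ ≤ Submodule.comap (KF F φ).subtype
        (KF F φ ⊓ (KF F φ2).map (g : V →ₗ[F] V)) := by
      intro w hw
      rw [LinearMap.mem_ker, hΞ] at hw
      have h1 : φ2 (g.symm (w : V)) • c⁻¹ • g.symm b0 = 0 := by
        have := g.injective (hw.trans (map_zero g).symm)
        exact this
      have hgb : g.symm b0 ≠ 0 := by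
        intro h0
        apply hb00
        exact g.symm.injective (h0.trans (map_zero _).symm)
      rw [smul_smul] at h1
      rcases smul_eq_zero.mp h1 with h2 | h2
      · rcases mul_eq_zero.mp h2 with h3 | h3
        · rw [Submodule.mem_comap, Submodule.subtype_apply, hD]
          exact ⟨mem_KF.mp w.2, h3⟩
        · exact absurd (inv_eq_zero.mp h3) hwcc
      · exact absurd h2 hgb
    have h1 := LinearMap.finrank_range_add_finrank_ker Ξ
    have h2 := Submodule.finrank_mono hrange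
    have h3 := Submodule.finrank_mono hker
    have h4 : finrank F ↥(Submodule.comap (KF F φ).subtype
        (KF F φ ⊓ (KF F φ2).map (g : V →ₗ[F] V))) = d := by
      rw [LinearEquiv.finrank_eq (Submodule.comapSubtypeEquivOfLe inf_le_left), hdim]
    rw [hdim] at h2
    omega
  -- arithmetic
  have hq : 2 ≤ Nat.card F := Finite.one_lt_card
  have h2d : 2 ^ d ≤ finrank F L := le_trans (Nat.pow_le_pow_left hq d) hcard
  have hrm : finrank F L * 2 ≤ finrank F V := by
    rw [← hn]
    exact Nat.mul_le_mul_left _ hm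
  have hd3 : d < 3 := by
    by_contra hcon
    have := two_mul_lt_two_pow d (by omega)
    omega
  have hd1 : 1 ≤ d := by omega
  interval_cases d
  · -- d = 1
    have hr' : finrank F L = 2 := by omega
    have hq' : Nat.card F = 2 := by
      rw [pow_one] at hcard
      omega
    refine ⟨hq', hr', ?_⟩
    rw [hr'] at hn
    omega
  · -- d = 2
    exfalso
    have hr' : finrank F L = 4 := by
      have : (2:ℕ) ^ 2 = 4 := by norm_num
      omega
    rw [hr'] at hr
    norm_num at hr

end MI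

end Cfsg.Agent.Lib.Helper3.XF
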