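import Mathlib
import Cfsg.Agent.Lib.Helper2.MclH
import Cfsg.Agent.Lib.Helper3.XFBasic
import Cfsg.Agent.Lib.Helper3.XFNorm
import Cfsg.Agent.Lib.Helper3.XFT
import Cfsg.Agent.Lib.Helper3.XFA
import Cfsg.Agent.Lib.Helper3.XFA2
import Cfsg.Agent.Lib.Helper3.XFMI
import Cfsg.Agent.Lib.Helper3.XFNrm
import Cfsg.Agent.Lib.Helper3.XFExc1
import Cfsg.Agent.Lib.Helper3.XFExc2

/-!
# The core theorem on overgroups of `ΓL_m(q^r) ∩ SL_n(q)` and its consequences (abstract form)
-/

set_option autoImplicit false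
set_option maxHeartbeats 4000000
set_option maxRecDepth 100000
set_option linter.unusedVariables false
set_option linter.unusedSectionVars false
set_option linter.style.longLine false
set_option linter.style.haveILetI false
set_option linter.deprecated false

namespace Cfsg.Agent.Lib.Helper3.XF

open Module

section Core

variable {F L V : Type*} [Field F] [Field L] [Algebra F L] [Finite L] [FiniteDimensional F L]
  [AddCommGroup V] [Module F V] [Module L V] [IsScalarTower F L V] [FiniteDimensional L V]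
  [FiniteDimensional F V]

theorem det_rs (g : V ≃ₗ[L] V) :
    LinearMap.det ((g.restrictScalars F : V ≃ₗ[F] V) : V →ₗ[F] V) =
      Algebra.norm F (LinearMap.det (g : V →ₗ[L] V)) := by
  have : ((g.restrictScalars F : V ≃ₗ[F] V) : V →ₗ[F] V) =
      (g : V →ₗ[L] V).restrictScalars F := rfl
  rw [this, LinearMap.det_restrictScalars]

/-- **Core theorem.** -/
theorem core (hr : (finrank F L).Prime) (hm : 2 ≤ finrank L V) {H : Subgroup (V ≃ₗ[F] V)}
    (hM0 : ∀ e ∈ Nrm F L V, LinearMap.det (e : V →ₗ[F] V) = 1 → e ∈ H)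
    (hnle : ¬ H ≤ Nrm F L V) :
    ∀ e : V ≃ₗ[F] V, LinearMap.det (e : V →ₗ[F] V) = 1 → e ∈ H := by
  have hH : ContainsM0 L H := fun g hg =>
    hM0 _ (restrictScalars_mem_Nrm g) (by rw [det_rs]; exact hg)
  by_cases hT : ∃ (ψ : V →ₗ[F] F) (v : V), ψ ≠ 0 ∧ v ≠ 0 ∧ ψ v = 0 ∧ In H (ψ.smulRight v)
  · have hall := lemmaT hr.two_le hm hH hT
    intro e he
    have hmem := Cfsg.Agent.Lib.Helper2.Mcl.sl_gen e he
    have hcl : Subgroup.closure (LinearEquiv.transvections F V) ≤ H := by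
      rw [Subgroup.closure_le]
      rintro t ⟨f, v, hfv, rfl⟩
      obtain ⟨e', he', hex⟩ := hall f v hfv
      have : e' = LinearEquiv.transvection hfv := by
        ext x
        rw [hex]
        rfl
      rw [← this]
      exact he'
    exact hcl hmem
  · push Not at hT
    have hno : ∀ (ψ : V →ₗ[F] F) (v : V), ψ v = 0 → In H (ψ.smulRight v) → ψ = 0 ∨ v = 0 := by
      intro ψ v h1 h2
      by_contra hcon
      push Not at hcon
      exact hT ψ v hcon.1 hcon.2 h1 h2
    have hLA : ∀ φ : V →ₗ[L] L, φ ≠ 0 → ∀ h ∈ H, (∀ x, φ x = 0 ↔ φ (h x) = 0) →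
        ∃ τ : L →ₐ[F] L, ∀ (l : L) (w : V), φ w = 0 → h (l • w) = τ l • h w :=
      fun φ hφ h hh hW => lemmaA_group hr hm hH hno φ hφ h hh hW
    have hnot : ∃ g ∈ H, ∃ φ2 : V →ₗ[L] L, φ2 ≠ 0 ∧
        ∀ φ' : V →ₗ[L] L, ¬ ∀ x, (φ' x = 0 ↔ φ2 (g.symm x) = 0) := by
      by_contra hcon
      apply hnle
      apply le_Nrm_of_hyperplanes hm H
      intro g hg φ2 hφ2
      by_contra hc2
      apply hcon
      exact ⟨g, hg, φ2, hφ2, fun φ' h => hc2 ⟨φ', h⟩⟩
    obtain ⟨hq, hr2, hm2⟩ := lemmaMI hr hm hH hLA hnot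
    have hFfin : Finite F := Finite.of_injective _ (algebraMap F L).injective
    have hone : ∀ e : V ≃ₗ[F] V, LinearMap.det (e : V →ₗ[F] V) = 1 := by
      intro e
      have h1 : Nat.card Fˣ = 1 := by rw [Nat.card_units, hq]
      haveI : Subsingleton Fˣ := (Nat.card_eq_one_iff_unique.mp h1).1
      have h2 : LinearEquiv.det e = 1 := Subsingleton.elim _ _
      rw [← LinearEquiv.coe_det, h2]
      rfl
    have hMH : Nrm F L V ≤ H := fun e he => hM0 e he (hone e)
    have htop := exc_main hq hr2 hm2 H hMH hnle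
    intro e _
    rw [htop]
    trivial

/-- existence of an `F`-transvection outside the normaliser -/
theorem exists_tv_not_mem (hr : 2 ≤ finrank F L) (hm : 2 ≤ finrank L V) :
    ∃ e : V ≃ₗ[F] V, LinearMap.det (e : V →ₗ[F] V) = 1 ∧ e ∉ Nrm F L V := by
  obtain ⟨f0, hf01⟩ : ∃ f0 : L →ₗ[F] F, f0 1 = 1 := exists_fun_one (one_ne_zero) 1
  have hf0 : f0 ≠ 0 := by
    intro h0
    rw [h0] at hf01
    simp at hf01
  have hnt : Nontrivial V := by
    apply Module.nontrivial_of_finrank_pos (R := L)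
    omega
  obtain ⟨v, hv⟩ := exists_ne (0 : V)
  obtain ⟨a, ha⟩ := exists_not_mem_span hm v
  obtain ⟨φ, hφv, hφa⟩ := exists_fun_pair hv ha (0 : L) 1
  have hφ : φ ≠ 0 := by
    intro h0
    rw [h0] at hφa
    simp at hφa
  have hfv : (f0.comp (φ.restrictScalars F)) v = 0 := by
    simp [hφv]
  refine ⟨LinearEquiv.transvection hfv, ?_, ?_⟩
  · have := LinearEquiv.transvection.det_eq_one hfv
    rw [← Units.val_inj, LinearEquiv.coe_det] at this
    exact this
  · exact tv_not_mem_Nrm hr hf0 hφ hv hφv _ (fun x => rfl)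

/-- the determinant is onto on the normaliser -/
theorem exists_mem_Nrm_det (hm : 2 ≤ finrank L V) (c : F) (hc : c ≠ 0) :
    ∃ e ∈ Nrm F L V, LinearMap.det (e : V →ₗ[F] V) = c := by
  obtain ⟨μ, hμ⟩ := FiniteField.norm_surjective F L c
  have hμ0 : μ ≠ 0 := by
    rintro rfl
    rw [Algebra.norm_zero] at hμ
    exact hc hμ.symm
  have hnt : Nontrivial V := by
    apply Module.nontrivial_of_finrank_pos (R := L)
    omega
  obtain ⟨u, hu⟩ := exists_ne (0 : V)
  obtain ⟨φ, hφ⟩ := exists_fun_one hu (1 : L)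
  have h1 : 1 + φ ((μ - 1) • u) = μ := by simp [hφ]
  have hunit : IsUnit (1 + φ ((μ - 1) • u)) := by
    rw [h1]; exact isUnit_iff_ne_zero.mpr hμ0
  refine ⟨(LinearEquiv.dilatransvection hunit).restrictScalars F, restrictScalars_mem_Nrm _, ?_⟩
  rw [det_rs, LinearEquiv.dilatransvection.coe_toLinearMap, LinearMap.transvection.det, h1, hμ]

/-- the special linear group (abstract form) -/
noncomputable def SLs (F V : Type*) [Field F] [AddCommGroup V] [Module F V] : Subgroup (V ≃ₗ[F] V) :=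
  (LinearEquiv.det : (V ≃ₗ[F] V) →* Fˣ).ker

theorem mem_SLs {e : V ≃ₗ[F] V} : e ∈ SLs F V ↔ LinearMap.det (e : V →ₗ[F] V) = 1 := by
  rw [SLs, MonoidHom.mem_ker, ← Units.val_inj, LinearEquiv.coe_det]
  rfl

theorem abstract_coatom (hr : (finrank F L).Prime) (hm : 2 ≤ finrank L V) :
    IsCoatom (Nrm F L V) := by
  refine ⟨?_, fun b hb => ?_⟩
  · intro htop
    obtain ⟨e, -, he⟩ := exists_tv_not_mem (F := F) (L := L) (V := V) hr.two_le hm
    apply he
    rw [htop]
    trivial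
  · have hS := core hr hm (H := b) (fun e he _ => hb.le he) (fun h => hb.not_ge h)
    rw [eq_top_iff]
    intro g _
    have hdet : LinearMap.det (g : V →ₗ[F] V) ≠ 0 := by
      have := (LinearEquiv.det g).ne_zero
      rwa [LinearEquiv.coe_det] at this
    obtain ⟨m0, hm0, hm0det⟩ := exists_mem_Nrm_det (F := F) (L := L) (V := V) hm _ hdet
    have h1 : g * m0⁻¹ ∈ b := by
      apply hS
      have e1 : ((g * m0⁻¹ : V ≃ₗ[F] V) : V →ₗ[F] V) =
          (g : V →ₗ[F] V) * ((m0⁻¹ : V ≃ₗ[F] V) : V →ₗ[F] V) := rfl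
      have e2 : LinearMap.det ((m0⁻¹ : V ≃ₗ[F] V) : V →ₗ[F] V) * LinearMap.det (m0 : V →ₗ[F] V)
          = 1 := by
        rw [← map_mul]
        have : ((m0⁻¹ : V ≃ₗ[F] V) : V →ₗ[F] V) * (m0 : V →ₗ[F] V) = 1 := by
          ext x
          show m0.symm (m0 x) = x
          rw [m0.symm_apply_apply]
        rw [this, map_one]
      rw [e1, map_mul]
      rw [hm0det] at e2
      have h3 : LinearMap.det ((m0⁻¹ : V ≃ₗ[F] V) : V →ₗ[F] V) =
          (LinearMap.det (g : V →ₗ[F] V))⁻¹ := eq_inv_of_mul_eq_one_left e2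
      rw [h3, mul_inv_cancel₀ hdet]
    have h2 : m0 ∈ b := hb.le hm0
    have := b.mul_mem h1 h2
    rwa [inv_mul_cancel_right] at this

theorem abstract_maximal (hr : (finrank F L).Prime) (hm : 2 ≤ finrank L V) :
    Nrm F L V ⊓ SLs F V < SLs F V ∧ ∀ X : Subgroup (V ≃ₗ[F] V), Nrm F L V ⊓ SLs F V ≤ X →
      X ≤ SLs F V → X = Nrm F L V ⊓ SLs F V ∨ X = SLs F V := by
  refine ⟨?_, fun X h1 h2 => ?_⟩
  · refine lt_of_le_of_ne inf_le_right ?_
    intro heq
    obtain ⟨e, hedet, he⟩ := exists_tv_not_mem (F := F) (L := L) (V := V) hr.two_le hm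
    have : e ∈ Nrm F L V ⊓ SLs F V := by
      rw [heq]
      exact mem_SLs.mpr hedet
    exact he this.1
  · by_cases hX : X ≤ Nrm F L V
    · left
      exact le_antisymm (le_inf hX h2) h1
    · right
      apply le_antisymm h2
      intro e he
      exact core hr hm (H := X) (fun e' he' hdet => h1 ⟨he', mem_SLs.mpr hdet⟩) hX e
        (mem_SLs.mp he)

end Core

end Cfsg.Agent.Lib.Helper3.XF
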