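import Mathlib
import Cfsg.Agent.Lib.Helper3.XFCore

/-!
# A variant of the core theorem of S5886 with weaker hypotheses away from `(2,2,2)`
-/

set_option autoImplicit false
set_option maxHeartbeats 4000000
set_option maxRecDepth 100000
set_option linter.unusedVariables false
set_option linter.unusedSectionVars false
set_option linter.style.longLine false
set_option linter.style.haveILetI false
set_option linter.deprecated false

namespace Cfsg.Agent.Lib.Helper3.XF

open Module

section Core2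

variable {F L V : Type*} [Field F] [Field L] [Algebra F L] [Finite L] [FiniteDimensional F L]
  [AddCommGroup V] [Module F V] [Module L V] [IsScalarTower F L V] [FiniteDimensional L V]
  [FiniteDimensional F V]

/-- **Core theorem, variant.** -/
theorem core' (hr : (finrank F L).Prime) (hm : 2 ≤ finrank L V) {H : Subgroup (V ≃ₗ[F] V)}
    (hH : ContainsM0 L H) (hnle : ¬ H ≤ Nrm F L V)
    (hex : ¬ (Nat.card F = 2 ∧ finrank F L = 2 ∧ finrank L V = 2)) :
    ∀ e : V ≃ₗ[F] V, LinearMap.det (e : V →ₗ[F] V) = 1 → e ∈ H := by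
  by_cases hT : ∃ (ψ : V →ₗ[F] F) (v : V), ψ ≠ 0 ∧ v ≠ 0 ∧ ψ v = 0 ∧ In H (ψ.smulRight v)
  · have hall := lemmaT hr.two_le hm hH hT
    intro e he
    have hmem := Cfsg.Agent.Lib.Helper2.Mcl.sl_gen e he
    have hcl : Subgroup.closure (LinearEquiv.transvections F V) ≤ H := by
      rw [Subgroup.closure_le]
      rintro t ⟨f, v, hfv, rfl⟩
      obtain ⟨e', he', hex⟩ := hall f v hfv
      have : e' = LinearEquiv.transvection hfv := by
        ext x
        rw [hex]
        rfl
      rw [← this]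
      exact he'
    exact hcl hmem
  · exfalso
    push Not at hT
    have hno : ∀ (ψ : V →ₗ[F] F) (v : V), ψ v = 0 → In H (ψ.smulRight v) → ψ = 0 ∨ v = 0 := by
      intro ψ v h1 h2
      by_contra hcon
      push Not at hcon
      exact hT ψ v hcon.1 hcon.2 h1 h2
    have hLA : ∀ φ : V →ₗ[L] L, φ ≠ 0 → ∀ h ∈ H, (∀ x, φ x = 0 ↔ φ (h x) = 0) →
        ∃ τ : L →ₐ[F] L, ∀ (l : L) (w : V), φ w = 0 → h (l • w) = τ l • h w :=
      fun φ hφ h hh hW => lemmaA_group hr hm hH hno φ hφ h hh hW
    have hnot : ∃ g ∈ H, ∃ φ2 : V →ₗ[L] L, φ2 ≠ 0 ∧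
        ∀ φ' : V →ₗ[L] L, ¬ ∀ x, (φ' x = 0 ↔ φ2 (g.symm x) = 0) := by
      by_contra hcon
      apply hnle
      apply le_Nrm_of_hyperplanes hm H
      intro g hg φ2 hφ2
      by_contra hc2
      apply hcon
      exact ⟨g, hg, φ2, hφ2, fun φ' h => hc2 ⟨φ', h⟩⟩
    exact hex (lemmaMI hr hm hH hLA hnot)

end Core2

end Cfsg.Agent.Lib.Helper3.XF
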