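import Mathlib
import Cfsg.Prelude.Def_GeometricClasses
import Cfsg.Agent.Lib.Helper3.XFCore

/-!
# Extension field normalisers are maximal (S5886): transport to matrices
-/

set_option autoImplicit false
set_option maxHeartbeats 4000000
set_option maxRecDepth 100000
set_option linter.unusedVariables false
set_option linter.unusedSectionVars false
set_option linter.style.longLine false
set_option linter.style.haveILetI false
set_option linter.deprecated false

namespace Cfsg.Agent.Lib.Helper3.XF

open Module Cfsg Cfsg.Geo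
open scoped Matrix MatrixGroups

section Generic

theorem isCoatom_comap {G G' : Type*} [Group G] [Group G'] (e : G ≃* G') {M : Subgroup G'}
    (hM : IsCoatom M) : IsCoatom (M.comap e.toMonoidHom) := by
  refine ⟨?_, fun b hb => ?_⟩
  · intro htop
    apply hM.1
    rw [eq_top_iff]
    intro x _
    have : e.symm x ∈ M.comap e.toMonoidHom := by rw [htop]; trivial
    rw [Subgroup.mem_comap] at this
    simpa using this
  · have h1 : M < b.map e.toMonoidHom := by
      refine lt_of_le_of_ne ?_ ?_
      · intro x hx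
        refine ⟨e.symm x, hb.le ?_, by simp⟩
        rw [Subgroup.mem_comap]
        simpa using hx
      · intro heq
        apply hb.not_ge
        intro y hy
        rw [Subgroup.mem_comap, heq]
        exact ⟨y, hy, rfl⟩
    have h2 := hM.2 _ h1
    rw [eq_top_iff]
    intro y _
    have : e y ∈ b.map e.toMonoidHom := by rw [h2]; trivial
    obtain ⟨z, hz, hzy⟩ := this
    have : z = y := e.injective hzy
    rw [← this]
    exact hz

theorem isMaximalIn_comap {G G' : Type*} [Group G] [Group G'] (e : G ≃* G') {K H : Subgroup G'}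
    (h1 : H < K) (h2 : ∀ X : Subgroup G', H ≤ X → X ≤ K → X = H ∨ X = K) :
    Cfsg.Geo.IsMaximalIn (K.comap e.toMonoidHom) (H.comap e.toMonoidHom) := by
  refine ⟨?_, fun X hHX hXK => ?_⟩
  · refine lt_of_le_of_ne (Subgroup.comap_mono h1.le) ?_
    intro heq
    apply h1.not_ge
    intro x hx
    have : e.symm x ∈ K.comap e.toMonoidHom := by
      rw [Subgroup.mem_comap]
      simpa using hx
    rw [← heq, Subgroup.mem_comap] at this
    simpa using this
  · have hX : ∀ y, y ∈ X ↔ e y ∈ X.map e.toMonoidHom := by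
      intro y
      constructor
      · intro hy
        exact ⟨y, hy, rfl⟩
      · rintro ⟨z, hz, hzy⟩
        have : z = y := e.injective hzy
        rw [← this]
        exact hz
    have h3 : H ≤ X.map e.toMonoidHom := by
      intro x hx
      refine ⟨e.symm x, hHX ?_, by simp⟩
      rw [Subgroup.mem_comap]
      simpa using hx
    have h4 : X.map e.toMonoidHom ≤ K := by
      rintro _ ⟨z, hz, rfl⟩
      exact hXK hz
    rcases h2 _ h3 h4 with h5 | h5
    · left
      ext y
      rw [hX, h5, Subgroup.mem_comap]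
      rfl
    · right
      ext y
      rw [hX, h5, Subgroup.mem_comap]
      rfl

end Generic

section Bridge

variable {F : Type*} [Field F] [Fintype F] {n : ℕ} {L : Type*} [Field L] [Algebra F L]

/-- `GL_n(F) ≃* GL(F^n)` -/
noncomputable def theta (F : Type*) [Field F] (n : ℕ) :
    GL (Fin n) F ≃* ((Fin n → F) ≃ₗ[F] (Fin n → F)) :=
  Matrix.GeneralLinearGroup.toLin.trans
    (LinearMap.GeneralLinearGroup.generalLinearEquiv F (Fin n → F))

theorem theta_apply (g : GL (Fin n) F) (x : Fin n → F) :
    theta F n g x = (g : Matrix (Fin n) (Fin n) F) *ᵥ x := rfl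

theorem theta_inv_apply (g : GL (Fin n) F) (y : Fin n → F) :
    theta F n g⁻¹ y = (theta F n g).symm y := by
  rw [map_inv]
  rfl

theorem mat_eq_of_mulVec {A B : Matrix (Fin n) (Fin n) F} (h : ∀ x : Fin n → F, A *ᵥ x = B *ᵥ x) :
    A = B := by
  apply Matrix.toLin'.injective
  apply LinearMap.ext
  intro x
  rw [Matrix.toLin'_apply, Matrix.toLin'_apply, h]

variable [Module L (Fin n → F)] [IsScalarTower F L (Fin n → F)]
  (ι : L →ₐ[F] Matrix (Fin n) (Fin n) F)
  (hsmul : ∀ (l : L) (x : Fin n → F), l • x = (ι l) *ᵥ x)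

include hsmul

theorem semi_of_mem_normalizer (g : GL (Fin n) F)
    (hg : g ∈ subalgebraNormalizer ι.range) (l : L) :
    ∃ l' : L, ∀ x : Fin n → F, theta F n g (l • x) = l' • theta F n g x := by
  have h1 := (hg (ι l)).mp ⟨l, rfl⟩
  obtain ⟨l', hl'⟩ := h1
  refine ⟨l', fun x => ?_⟩
  rw [theta_apply, theta_apply, hsmul, hsmul]
  have h2 : (ι l' : Matrix (Fin n) (Fin n) F) * (g : Matrix (Fin n) (Fin n) F) =
      (g : Matrix (Fin n) (Fin n) F) * ι l := by
    have h3 : (ι.toRingHom l' : Matrix (Fin n) (Fin n) F) = ι l' := rfl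
    rw [← h3, hl', mul_assoc, Units.inv_mul, mul_one]
  rw [Matrix.mulVec_mulVec, Matrix.mulVec_mulVec, h2]

theorem mem_Nrm_iff (g : GL (Fin n) F) :
    theta F n g ∈ Nrm F L (Fin n → F) ↔ g ∈ subalgebraNormalizer ι.range := by
  constructor
  · intro hmem
    have key : ∀ (g : GL (Fin n) F), (∀ l : L, ∃ l' : L, ∀ x : Fin n → F,
        theta F n g (l • x) = l' • theta F n g x) → ∀ k ∈ ι.range,
        (g : Matrix (Fin n) (Fin n) F) * k * ((g⁻¹ : GL (Fin n) F) : Matrix (Fin n) (Fin n) F)
          ∈ ι.range := by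
      intro g hg k hk
      obtain ⟨l, rfl⟩ := hk
      obtain ⟨l', hl'⟩ := hg l
      refine ⟨l', ?_⟩
      have h2 : (ι l' : Matrix (Fin n) (Fin n) F) * (g : Matrix (Fin n) (Fin n) F) =
          (g : Matrix (Fin n) (Fin n) F) * ι l := by
        apply mat_eq_of_mulVec
        intro x
        have := hl' x
        rw [theta_apply, theta_apply, hsmul, hsmul] at this
        rw [← Matrix.mulVec_mulVec, ← Matrix.mulVec_mulVec]
        exact this.symm
      show ι l' = (g : Matrix (Fin n) (Fin n) F) * ι l *
        ((g⁻¹ : GL (Fin n) F) : Matrix (Fin n) (Fin n) F)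
      rw [← h2, mul_assoc, Units.mul_inv, mul_one]
    intro k
    constructor
    · exact key g hmem.1 k
    · intro hk
      have h2 : ∀ l : L, ∃ l' : L, ∀ x : Fin n → F,
          theta F n g⁻¹ (l • x) = l' • theta F n g⁻¹ x := by
        intro l
        obtain ⟨l', hl'⟩ := hmem.2 l
        refine ⟨l', fun x => ?_⟩
        rw [theta_inv_apply, theta_inv_apply, hl']
      have := key g⁻¹ h2 _ hk
      rw [inv_inv] at this
      have e : ((g⁻¹ : GL (Fin n) F) : Matrix (Fin n) (Fin n) F) *
          ((g : Matrix (Fin n) (Fin n) F) * k * ((g⁻¹ : GL (Fin n) F) : Matrix (Fin n) (Fin n) F))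
            * (g : Matrix (Fin n) (Fin n) F) = k := by
        simp only [mul_assoc, Units.inv_mul, mul_one]
        rw [← mul_assoc, Units.inv_mul, one_mul]
      rwa [e] at this
  · intro hg
    refine ⟨semi_of_mem_normalizer ι hsmul g hg, fun l => ?_⟩
    obtain ⟨l', hl'⟩ := semi_of_mem_normalizer ι hsmul g⁻¹ (Subgroup.inv_mem _ hg) l
    refine ⟨l', fun x => ?_⟩
    rw [← theta_inv_apply, ← theta_inv_apply, hl']

omit hsmul

omit [Module L (Fin n → F)] [IsScalarTower F L (Fin n → F)] in
theorem mem_SLs_iff (g : GL (Fin n) F) :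
    theta F n g ∈ SLs F (Fin n → F) ↔ g ∈ specialLinear (Fin n) F := by
  rw [mem_SLs]
  have h1 : ((theta F n g : (Fin n → F) ≃ₗ[F] (Fin n → F)) : (Fin n → F) →ₗ[F] (Fin n → F)) =
      Matrix.toLin' (g : Matrix (Fin n) (Fin n) F) := by
    apply LinearMap.ext
    intro x
    rw [Matrix.toLin'_apply]
    rfl
  rw [h1, LinearMap.det_toLin']
  unfold specialLinear
  rw [MonoidHom.mem_ker, ← Units.val_inj]
  rfl

end Bridge

section Final

variable {F : Type*} [Field F] [Fintype F] {n : ℕ} {L : Type*} [Field L] [Algebra F L]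

/-- the bridge theorem -/
theorem bridge (ι : L →ₐ[F] Matrix (Fin n) (Fin n) F) (hr : (finrank F L).Prime)
    (hdvd : finrank F L ∣ n) (hlt : finrank F L < n) :
    IsCoatom (subalgebraNormalizer ι.range) ∧
      Cfsg.Geo.IsMaximalIn (specialLinear (Fin n) F)
        (subalgebraNormalizer ι.range ⊓ specialLinear (Fin n) F) := by
  letI modL : Module L (Fin n → F) := Module.compHom (Fin n → F)
    ((((Matrix.toLinAlgEquiv' : Matrix (Fin n) (Fin n) F ≃ₐ[F] Module.End F (Fin n → F)) :
      Matrix (Fin n) (Fin n) F →ₐ[F] Module.End F (Fin n → F)).comp ι) :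
        L →+* Module.End F (Fin n → F))
  have hsmul : ∀ (l : L) (x : Fin n → F), l • x = (ι l) *ᵥ x := fun l x => rfl
  haveI : IsScalarTower F L (Fin n → F) := by
    refine ⟨fun c l x => ?_⟩
    rw [hsmul, hsmul, map_smul, Matrix.smul_mulVec]
  haveI : FiniteDimensional F L := Module.finite_of_finrank_pos hr.pos
  haveI : Finite L := Module.finite_of_finite F
  haveI : FiniteDimensional L (Fin n → F) :=
    Module.Finite.of_restrictScalars_finite F L (Fin n → F)
  have hmul : finrank F L * finrank L (Fin n → F) = n := by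
    rw [Module.finrank_mul_finrank F L (Fin n → F)]
    simp
  have hm : 2 ≤ finrank L (Fin n → F) := by
    by_contra hcon
    have h1 : finrank L (Fin n → F) ≤ 1 := by omega
    have hpos := hr.pos
    have : n ≤ finrank F L := by
      rw [← hmul]
      calc finrank F L * finrank L (Fin n → F) ≤ finrank F L * 1 := Nat.mul_le_mul_left _ h1
        _ = finrank F L := mul_one _
    omega
  have e1 : subalgebraNormalizer ι.range =
      (Nrm F L (Fin n → F)).comap (theta F n).toMonoidHom := by
    ext g
    rw [Subgroup.mem_comap]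
    exact (mem_Nrm_iff ι hsmul g).symm
  have e2 : specialLinear (Fin n) F = (SLs F (Fin n → F)).comap (theta F n).toMonoidHom := by
    ext g
    rw [Subgroup.mem_comap]
    exact (mem_SLs_iff g).symm
  constructor
  · rw [e1]
    exact isCoatom_comap (theta F n) (abstract_coatom hr hm)
  · have e3 : subalgebraNormalizer ι.range ⊓ specialLinear (Fin n) F =
        (Nrm F L (Fin n → F) ⊓ SLs F (Fin n → F)).comap (theta F n).toMonoidHom := by
      rw [Subgroup.comap_inf, ← e1, ← e2]
    rw [e3, e2]
    obtain ⟨h1, h2⟩ := abstract_maximal (F := F) (L := L) (V := Fin n → F) hr hm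
    exact isMaximalIn_comap (theta F n) h1 h2

end Final

end Cfsg.Agent.Lib.Helper3.XF
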