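import Mathlib
import Cfsg.Agent.Lib.Helper2.MclI
import Cfsg.Agent.Lib.Helper3.XFBasic
import Cfsg.Agent.Lib.Helper3.XFNrm

/-!
# Symplectic extension field normalisers (S5664): basic calculus

Abstract setting: fields `F ⊆ L`, an `L`-space `V` with a nondegenerate alternating `L`-bilinear
form `B`, a nonzero `F`-functional `f0` on `L`; the `F`-form is `f0 ∘ B`.
-/

set_option autoImplicit false
set_option maxHeartbeats 4000000
set_option maxRecDepth 100000
set_option linter.unusedVariables false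
set_option linter.unusedSectionVars false
set_option linter.style.longLine false
set_option linter.style.haveILetI false
set_option linter.deprecated false

namespace Cfsg.Agent.Lib.Helper3.XS

open Module Cfsg.Agent.Lib.Helper3.XF Cfsg.Agent.Lib.Helper2.Mcl

section Basic

variable {F L V : Type*} [Field F] [Field L] [Algebra F L]
  [AddCommGroup V] [Module F V] [Module L V] [IsScalarTower F L V]

theorem B_smulF_left (B : V →ₗ[L] V →ₗ[L] L) (c : F) (u v : V) :
    B (c • u) v = c • B u v := by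
  rw [← algebraMap_smul L c u, map_smul, LinearMap.smul_apply, smul_eq_mul, Algebra.smul_def]

theorem B_smulF_right (B : V →ₗ[L] V →ₗ[L] L) (c : F) (u v : V) :
    B u (c • v) = c • B u v := by
  rw [← algebraMap_smul L c v, map_smul, smul_eq_mul, Algebra.smul_def]

/-- the `F`-bilinear form `f0 ∘ B` -/
def ff (B : V →ₗ[L] V →ₗ[L] L) (f0 : L →ₗ[F] F) : V →ₗ[F] V →ₗ[F] F :=
  LinearMap.mk₂ F (fun u v => f0 (B u v))
    (fun u u' v => by simp only [map_add, LinearMap.add_apply])
    (fun c u v => by rw [B_smulF_left, map_smul])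
    (fun u v v' => by simp only [map_add])
    (fun c u v => by rw [B_smulF_right, map_smul])

@[simp] theorem ff_apply (B : V →ₗ[L] V →ₗ[L] L) (f0 : L →ₗ[F] F) (u v : V) :
    ff B f0 u v = f0 (B u v) := rfl

/-- isometry group of an `F`-bilinear form -/
def SpF (f : V →ₗ[F] V →ₗ[F] F) : Subgroup (V ≃ₗ[F] V) where
  carrier := {e | ∀ u v, f (e u) (e v) = f u v}
  mul_mem' := by
    intro a b ha hb u v
    rw [LinearEquiv.mul_apply, LinearEquiv.mul_apply, ha, hb]
  one_mem' := by
    intro u v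
    rfl
  inv_mem' := by
    intro a ha u v
    have := ha (a⁻¹ u) (a⁻¹ v)
    rw [LinearEquiv.coe_inv, a.apply_symm_apply, a.apply_symm_apply] at this
    rw [LinearEquiv.coe_inv]
    exact this.symm

theorem mem_SpF {f : V →ₗ[F] V →ₗ[F] F} {e : V ≃ₗ[F] V} :
    e ∈ SpF f ↔ ∀ u v, f (e u) (e v) = f u v := Iff.rfl

/-- the standing hypotheses on the group `H` -/
structure Cfg (B : V →ₗ[L] V →ₗ[L] L) (f0 : L →ₗ[F] F) (H : Subgroup (V ≃ₗ[F] V)) : Prop where
  alt : ∀ x, B x x = 0
  nd : ∀ x, (∀ y, B x y = 0) → x = 0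
  f0ne : f0 ≠ 0
  M0 : ∀ g : V ≃ₗ[L] V, (∀ x y, B (g x) (g y) = B x y) → g.restrictScalars F ∈ H
  le : ∀ e ∈ H, ∀ u v, f0 (B (e u) (e v)) = f0 (B u v)

variable {B : V →ₗ[L] V →ₗ[L] L} {f0 : L →ₗ[F] F} {H : Subgroup (V ≃ₗ[F] V)}

theorem skewB (halt : ∀ x, B x x = 0) (x y : V) : B x y = - B y x :=
  skew_of_alt (fl := B) halt x y

theorem B_eq_of_f0 (hf0 : f0 ≠ 0) {a b : L} (h : ∀ l : L, f0 (l * a) = f0 (l * b)) : a = b := by
  apply f0_inj hf0
  intro x
  rw [mul_comm a x, mul_comm b x]
  exact h x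

/-- `f(h⁻¹ x, y) = f(x, h y)` for isometries. -/
theorem Cfg.symm_apply (hC : Cfg B f0 H) {e : V ≃ₗ[F] V} (he : e ∈ H) (x y : V) :
    f0 (B (e.symm x) y) = f0 (B x (e y)) := by
  have := hC.le e he (e.symm x) y
  rw [e.apply_symm_apply] at this
  exact this.symm

theorem Cfg.symm_apply' (hC : Cfg B f0 H) {e : V ≃ₗ[F] V} (he : e ∈ H) (x y : V) :
    f0 (B y (e.symm x)) = f0 (B (e y) x) := by
  have := hC.le e he y (e.symm x)
  rw [e.apply_symm_apply] at this
  exact this.symm

/-- the `F`-linear map `x ↦ (l * B v x) • v` of an `L`-transvection -/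
def NL (B : V →ₗ[L] V →ₗ[L] L) (v : V) (l : L) : V →ₗ[F] V :=
  ((l • B v).smulRight v).restrictScalars F

@[simp] theorem NL_apply (v : V) (l : L) (x : V) : NL (F := F) B v l x = (l * B v x) • v := rfl

/-- the `L`-transvection as an isometry -/
theorem ltv_isom (halt : ∀ x, B x x = 0) (v : V) (l : L) (a b : V) :
    B (LinearEquiv.transvection (spT_inc B halt v l) a)
      (LinearEquiv.transvection (spT_inc B halt v l) b) = B a b :=
  spT_closure_isom B halt (Subgroup.subset_closure ⟨v, l, rfl⟩) a b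

theorem Cfg.in_NL (hC : Cfg B f0 H) (v : V) (l : L) : In H (NL B v l) := by
  refine ⟨(LinearEquiv.transvection (spT_inc B hC.alt v l)).restrictScalars F,
    hC.M0 _ (ltv_isom hC.alt v l), fun x => ?_⟩
  rfl

/-- the `F`-linear map `x ↦ (c * f0 (B u x)) • u` of an `F`-transvection -/
def NF (B : V →ₗ[L] V →ₗ[L] L) (f0 : L →ₗ[F] F) (u : V) (c : F) : V →ₗ[F] V :=
  (c • ff B f0 u).smulRight u

@[simp] theorem NF_apply (u : V) (c : F) (x : V) : NF B f0 u c x = (c * f0 (B u x)) • u := rfl

section Witt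

variable [FiniteDimensional L V]

/-- Witt's lemma for pairs, by two transvections. -/
theorem witt1 (halt : ∀ x, B x x = 0) (hnd : ∀ x, (∀ y, B x y = 0) → x = 0)
    (v y y' : V) (hB : B v y = B v y') (hy : y ∉ Submodule.span L {v})
    (hy' : y' ∉ Submodule.span L {v}) :
    ∃ g : V ≃ₗ[L] V, (∀ a b, B (g a) (g b) = B a b) ∧ g v = v ∧ g y = y' := by
  have hperp : ∀ z ∈ Submodule.span L {v}, B (y - y') z = 0 := by
    intro z hz
    obtain ⟨c, rfl⟩ := Submodule.mem_span_singleton.mp hz
    rw [map_smul, smul_eq_mul, map_sub, LinearMap.sub_apply, skewB halt y v, skewB halt y' v, hB]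
    ring
  have hvmem : v ∈ Submodule.span L {v} := Submodule.mem_span_singleton_self v
  by_cases hne : B y y' ≠ 0
  · obtain ⟨g, hg, h1, h2⟩ := spT_move B halt (Submodule.span L {v}) hperp hne
    exact ⟨g, spT_closure_isom B halt (Subgroup.subset_closure hg), h2 v hvmem, h1⟩
  · push Not at hne
    obtain ⟨φ1, hφ1v, hφ1y⟩ := exists_dual_sep (Submodule.span L {v}) hy
    obtain ⟨φ2, hφ2v, hφ2y⟩ := exists_dual_sep (Submodule.span L {v}) hy'
    obtain ⟨w1, hw1⟩ := bil_surj B hnd φ1
    obtain ⟨w2, hw2⟩ := bil_surj B hnd φ2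
    obtain ⟨w, hwv, hwy, hwy'⟩ : ∃ w, (∀ z ∈ Submodule.span L {v}, B w z = 0) ∧ B w y ≠ 0 ∧
        B w y' ≠ 0 := by
      by_cases h1 : B w1 y' = 0
      · by_cases h2 : B w2 y = 0
        · refine ⟨w1 + w2, ?_, ?_, ?_⟩
          · intro z hz
            rw [map_add, LinearMap.add_apply, hw1, hw2, hφ1v z hz, hφ2v z hz, add_zero]
          · rw [map_add, LinearMap.add_apply, h2, add_zero, hw1, hφ1y]
            exact one_ne_zero
          · rw [map_add, LinearMap.add_apply, h1, zero_add, hw2, hφ2y]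
            exact one_ne_zero
        · refine ⟨w2, ?_, h2, ?_⟩
          · intro z hz
            rw [hw2, hφ2v z hz]
          · rw [hw2, hφ2y]
            exact one_ne_zero
      · refine ⟨w1, ?_, ?_, h1⟩
        · intro z hz
          rw [hw1, hφ1v z hz]
        · rw [hw1, hφ1y]
          exact one_ne_zero
    have hm1 : ∀ z ∈ Submodule.span L {v}, B (y - (y + w)) z = 0 := by
      intro z hz
      have : y - (y + w) = -w := by abel
      rw [this, map_neg, LinearMap.neg_apply, hwv z hz, neg_zero]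
    have hne1 : B y (y + w) ≠ 0 := by
      rw [map_add, halt, zero_add, skewB halt]
      exact neg_ne_zero.mpr hwy
    obtain ⟨g1, hg1, h11, h12⟩ := spT_move B halt (Submodule.span L {v}) hm1 hne1
    have hm2 : ∀ z ∈ Submodule.span L {v}, B ((y + w) - y') z = 0 := by
      intro z hz
      have : (y + w) - y' = (y - y') + w := by abel
      rw [this, map_add, LinearMap.add_apply, hperp z hz, hwv z hz, add_zero]
    have hne2 : B (y + w) y' ≠ 0 := by
      rw [map_add, LinearMap.add_apply, hne, zero_add]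
      exact hwy'
    obtain ⟨g2, hg2, h21, h22⟩ := spT_move B halt (Submodule.span L {v}) hm2 hne2
    refine ⟨g2 * g1, ?_, ?_, ?_⟩
    · exact spT_closure_isom B halt (Subgroup.mul_mem _ (Subgroup.subset_closure hg2)
        (Subgroup.subset_closure hg1))
    · rw [LinearEquiv.mul_apply, h12 v hvmem, h22 v hvmem]
    · rw [LinearEquiv.mul_apply, h11, h21]

/-- transitivity on nonzero vectors -/
theorem witt0 (halt : ∀ x, B x x = 0) (hnd : ∀ x, (∀ y, B x y = 0) → x = 0)
    (y y' : V) (hy : y ≠ 0) (hy' : y' ≠ 0) :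
    ∃ g : V ≃ₗ[L] V, (∀ a b, B (g a) (g b) = B a b) ∧ g y = y' := by
  have h0 : ∀ z : V, z ≠ 0 → z ∉ Submodule.span L {(0 : V)} := by
    intro z hz hmem
    rw [Submodule.span_zero_singleton, Submodule.mem_bot] at hmem
    exact hz hmem
  obtain ⟨g, hg, -, hgy⟩ := witt1 halt hnd 0 y y' (by simp) (h0 y hy) (h0 y' hy')
  exact ⟨g, hg, hgy⟩

end Witt

/-- the element `q_w` acting on `v^⊥` by `x ↦ x + B w x • v`. -/
theorem exists_qw (halt : ∀ x, B x x = 0) (v w : V) (hvw : B v w = 0) :
    ∃ g : V ≃ₗ[L] V, (∀ a b, B (g a) (g b) = B a b) ∧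
      ∀ x, B v x = 0 → g x = x + B w x • v := by
  refine ⟨LinearEquiv.transvection (spT_inc B halt (v + w) 1) *
    (LinearEquiv.transvection (spT_inc B halt v (-1)) *
      LinearEquiv.transvection (spT_inc B halt w (-1))), ?_, ?_⟩
  · intro a b
    rw [LinearEquiv.mul_apply, LinearEquiv.mul_apply, LinearEquiv.mul_apply,
      LinearEquiv.mul_apply, ltv_isom halt, ltv_isom halt, ltv_isom halt]
  · intro x hx
    rw [LinearEquiv.mul_apply, LinearEquiv.mul_apply, spT_apply B halt w, spT_apply B halt v,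
      spT_apply B halt (v + w)]
    have h1 : B v (x + (-1 * B w x) • w) = 0 := by
      rw [map_add, map_smul, hx, hvw, smul_zero, add_zero]
    rw [h1, mul_zero, zero_smul, add_zero]
    have h2 : B (v + w) (x + (-1 * B w x) • w) = B w x := by
      have h3 : B (v + w) = B v + B w := map_add B v w
      rw [h3, LinearMap.add_apply, h1, zero_add, map_add, map_smul, halt, smul_zero,
        add_zero]
    rw [h2, one_mul, smul_add]
    module

end Basic

end Cfsg.Agent.Lib.Helper3.XS
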