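import Mathlib
import Cfsg.Agent.Lib.Helper3.XSBasic
import Cfsg.Agent.Lib.Helper3.XFT

/-!
# The `Δ`-lemma (S5664) and the three endings
-/

set_option autoImplicit false
set_option maxHeartbeats 4000000
set_option maxRecDepth 100000
set_option linter.unusedVariables false
set_option linter.unusedSectionVars false
set_option linter.style.longLine false
set_option linter.style.haveILetI false
set_option linter.deprecated false

namespace Cfsg.Agent.Lib.Helper3.XS

open Module Cfsg.Agent.Lib.Helper3.XF Cfsg.Agent.Lib.Helper2.Mcl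

section Delta

variable {F L V : Type*} [Field F] [Field L] [Algebra F L]
  [AddCommGroup V] [Module F V] [Module L V] [IsScalarTower F L V]
  {B : V →ₗ[L] V →ₗ[L] L} {f0 : L →ₗ[F] F} {H : Subgroup (V ≃ₗ[F] V)}

/-- the map `x ↦ f(a,x) μv + f(μv,x) a + t f(a,x) a` -/
def Dl (B : V →ₗ[L] V →ₗ[L] L) (f0 : L →ₗ[F] F) (v a : V) (μ : L) (t : F) : V →ₗ[F] V :=
  (ff B f0 a).smulRight (μ • v) + (ff B f0 (μ • v)).smulRight a + (t • ff B f0 a).smulRight a

theorem Dl_apply (v a : V) (μ : L) (t : F) (x : V) :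
    Dl B f0 v a μ t x = f0 (B a x) • μ • v + f0 (μ * B v x) • a + (t * f0 (B a x)) • a := by
  simp only [Dl, LinearMap.add_apply, LinearMap.smulRight_apply, ff_apply, LinearMap.smul_apply,
    smul_eq_mul, map_smul]

theorem f0_mul_algebraMap (y : L) (s : F) : f0 (y * algebraMap F L s) = s * f0 y := by
  rw [mul_comm, ← Algebra.smul_def, map_smul, smul_eq_mul]

theorem Dl_Dl (halt : ∀ x, B x x = 0) {v a : V} (hva : B v a = 0) (μ μ' : L) (t t' : F) (x : V) :
    Dl B f0 v a μ t (Dl B f0 v a μ' t' x) = 0 := by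
  have hav : B a v = 0 := by rw [skewB halt, hva, neg_zero]
  have h1 : B a (Dl B f0 v a μ' t' x) = 0 := by
    rw [Dl_apply]
    simp only [map_add, B_smulF_right, map_smul, hav, halt, smul_zero, add_zero]
  have h2 : B v (Dl B f0 v a μ' t' x) = 0 := by
    rw [Dl_apply]
    simp only [map_add, B_smulF_right, map_smul, hva, halt, smul_zero, add_zero]
  rw [Dl_apply, h1, h2]
  simp

/-- **The `Δ`-lemma.** -/
theorem Cfg.delta (hC : Cfg B f0 H) {h : V ≃ₗ[F] V} (hh : h ∈ H) {v a : V} {ξ : L}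
    (hi : ∀ κ : L, h (κ • v) = κ • v + f0 (ξ * κ) • a) (hva : B v a = 0) (lam : L) :
    In H (Dl B f0 v a (lam * ξ) (f0 (lam * ξ * ξ))) := by
  have hav : B a v = 0 := by rw [skewB hC.alt, hva, neg_zero]
  have key : ∀ x, B v (h.symm x) = B v x + ξ * algebraMap F L (f0 (B a x)) := by
    intro x
    apply B_eq_of_f0 hC.f0ne
    intro l
    have e1 : l * B v (h.symm x) = B (l • v) (h.symm x) := by
      rw [map_smul, LinearMap.smul_apply, smul_eq_mul]
    have e0 : B (l • v + f0 (ξ * l) • a) x = l * B v x + f0 (ξ * l) • B a x := by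
      have h3 : B (l • v + f0 (ξ * l) • a) = B (l • v) + B (f0 (ξ * l) • a) := map_add B _ _
      rw [h3, LinearMap.add_apply]
      have h4 : B (l • v) x = l * B v x := by
        rw [map_smul, LinearMap.smul_apply, smul_eq_mul]
      rw [h4, B_smulF_left (F := F)]
    rw [e1, hC.symm_apply' hh, hi, e0, map_add, map_smul, smul_eq_mul, mul_add, map_add,
      ← mul_assoc, f0_mul_algebraMap, mul_comm l ξ, mul_comm (f0 (B a x))]
  let M1 : V →ₗ[F] V := (h : V →ₗ[F] V) ∘ₗ NL B v lam ∘ₗ (h.symm : V →ₗ[F] V)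
  have hM1 : In H M1 := (hC.in_NL v lam).conj hh (fun x => rfl)
  have hM1x : ∀ x, M1 x = h ((lam * B v (h.symm x)) • v) := fun x => rfl
  have hNN : ∀ x, NL (F := F) B v lam (NL (F := F) B v lam x) = 0 := by
    intro x
    rw [NL_apply, NL_apply, map_smul, hC.alt, smul_zero, mul_zero, zero_smul]
  have hneg : In H (-(NL B v lam : V →ₗ[F] V)) := (hC.in_NL v lam).neg hNN
  have hc : ∀ x, M1 ((-(NL B v lam : V →ₗ[F] V)) x) = 0 := by
    intro x
    have e : (-(NL B v lam : V →ₗ[F] V)) x = (-(lam * B v x)) • v := by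
      rw [LinearMap.neg_apply, NL_apply, neg_smul]
    have e2 : B v (h.symm ((-(lam * B v x)) • v)) = 0 := by
      rw [key]
      simp [hC.alt, hav]
    rw [e, hM1x, e2, mul_zero, zero_smul, map_zero]
  refine (hM1.add hneg hc).congr ?_
  intro x
  rw [LinearMap.add_apply, LinearMap.neg_apply, hM1x, key, hi, NL_apply, Dl_apply]
  set s : F := f0 (B a x) with hs
  have e2 : (lam * (B v x + ξ * algebraMap F L s)) • v + -((lam * B v x) • v) =
      s • (lam * ξ) • v := by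
    rw [mul_add, add_smul, ← mul_assoc, mul_comm (lam * ξ), ← Algebra.smul_def, smul_assoc]
    abel
  have e3 : f0 (ξ * (lam * (B v x + ξ * algebraMap F L s))) =
      f0 (lam * ξ * B v x) + f0 (lam * ξ * ξ) * s := by
    have : ξ * (lam * (B v x + ξ * algebraMap F L s)) =
        lam * ξ * B v x + (lam * ξ * ξ) * algebraMap F L s := by ring
    rw [this, map_add, f0_mul_algebraMap, mul_comm s]
  rw [e3, add_smul]
  rw [← e2]
  abel

/-- two `Δ`-elements differing in the last coefficient give a transvection -/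
theorem Dl_diff (halt : ∀ x, B x x = 0) {v a : V} (hva : B v a = 0) {μ : L} {t t' : F}
    (h : In H (Dl B f0 v a μ t)) (h' : In H (Dl B f0 v a μ t')) :
    In H (NF B f0 a (t - t')) := by
  have hneg : In H (-Dl B f0 v a μ t') := h'.neg (Dl_Dl halt hva μ μ t' t')
  have hc : ∀ x, Dl B f0 v a μ t ((-Dl B f0 v a μ t') x) = 0 := by
    intro x
    rw [LinearMap.neg_apply, map_neg, Dl_Dl halt hva, neg_zero]
  refine (h.add hneg hc).congr ?_
  intro x
  rw [LinearMap.add_apply, LinearMap.neg_apply, NF_apply, Dl_apply, Dl_apply, sub_mul, sub_smul]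
  abel

/-- **Ending A.** -/
theorem Cfg.endA (hC : Cfg B f0 H) {h1 h2 : V ≃ₗ[F] V} (hh1 : h1 ∈ H) (hh2 : h2 ∈ H) {v a : V}
    {ξ1 ξ2 : L} (hi1 : ∀ κ : L, h1 (κ • v) = κ • v + f0 (ξ1 * κ) • a)
    (hi2 : ∀ κ : L, h2 (κ • v) = κ • v + f0 (ξ2 * κ) • a) (hva : B v a = 0)
    (hξ1 : ξ1 ≠ 0) (hξ2 : ξ2 ≠ 0) : In H (NF B f0 a (f0 ξ1 - f0 ξ2)) := by
  have d1 := hC.delta hh1 hi1 hva ξ1⁻¹
  have d2 := hC.delta hh2 hi2 hva ξ2⁻¹
  rw [inv_mul_cancel₀ hξ1, one_mul] at d1
  rw [inv_mul_cancel₀ hξ2, one_mul] at d2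
  exact Dl_diff hC.alt hva d1 d2

/-- **Ending B1.** -/
theorem Cfg.endB1 (hC : Cfg B f0 H) {h1 h2 : V ≃ₗ[F] V} (hh1 : h1 ∈ H) (hh2 : h2 ∈ H) {v b : V}
    {ξ : L} {c : F} (hc : c ≠ 0) (hi1 : ∀ κ : L, h1 (κ • v) = κ • v + f0 (ξ * κ) • b)
    (hi2 : ∀ κ : L, h2 (κ • v) = κ • v + f0 (ξ * κ) • c • b) (hvb : B v b = 0)
    (hξ : ξ ≠ 0) : In H (NF B f0 b (1 - c)) := by
  obtain ⟨q0, hq0⟩ : ∃ q0 : L, f0 q0 = 1 := by
    have : ∃ x, f0 x ≠ 0 := by
      by_contra hcon
      push Not at hcon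
      exact hC.f0ne (LinearMap.ext hcon)
    obtain ⟨x, hx⟩ := this
    exact ⟨(f0 x)⁻¹ • x, by rw [map_smul, smul_eq_mul, inv_mul_cancel₀ hx]⟩
  set lam : L := q0 * (ξ * ξ)⁻¹ with hlam
  have hξξ : ξ * ξ ≠ 0 := mul_ne_zero hξ hξ
  have hl1 : lam * ξ * ξ = q0 := by
    rw [hlam, mul_assoc, mul_assoc, inv_mul_cancel₀ hξξ, mul_one]
  have hvb' : B v (c • b) = 0 := by rw [B_smulF_right, hvb, smul_zero]
  have d1 := hC.delta hh1 hi1 hvb lam
  have d2 := hC.delta hh2 hi2 hvb' (c⁻¹ • lam)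
  rw [hl1, hq0] at d1
  have d2' : In H (Dl B f0 v b (lam * ξ) c) := by
    refine d2.congr ?_
    intro x
    rw [Dl_apply, Dl_apply]
    have e1 : c⁻¹ • lam * ξ * ξ = c⁻¹ • q0 := by
      rw [smul_mul_assoc, smul_mul_assoc, hl1]
    have t1 : f0 (B (c • b) x) • (c⁻¹ • lam * ξ) • v = f0 (B b x) • (lam * ξ) • v := by
      rw [B_smulF_left, map_smul, smul_eq_mul, smul_mul_assoc, smul_assoc c⁻¹ (lam * ξ) v,
        smul_smul]
      congr 1
      field_simp
    have t2 : f0 (c⁻¹ • lam * ξ * B v x) • c • b = f0 (lam * ξ * B v x) • b := by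
      rw [smul_mul_assoc, smul_mul_assoc, map_smul, smul_eq_mul, smul_smul]
      congr 1
      field_simp
    have t3 : (f0 (c⁻¹ • lam * ξ * ξ) * f0 (B (c • b) x)) • c • b = (c * f0 (B b x)) • b := by
      rw [e1, map_smul, hq0, B_smulF_left, map_smul, smul_eq_mul, smul_eq_mul, smul_smul]
      congr 1
      field_simp
    rw [t1, t2, t3]
  exact Dl_diff hC.alt hvb d1 d2'

end Delta

end Cfsg.Agent.Lib.Helper3.XS
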