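import Mathlib
import Cfsg.Agent.Lib.Helper3.XSDelta

/-!
# A Hua-type lemma and Ending B2 (S5664)
-/

set_option autoImplicit false
set_option maxHeartbeats 4000000
set_option maxRecDepth 100000
set_option linter.unusedVariables false
set_option linter.unusedSectionVars false
set_option linter.style.longLine false
set_option linter.style.haveILetI false
set_option linter.deprecated false

namespace Cfsg.Agent.Lib.Helper3.XS

open Module Cfsg.Agent.Lib.Helper3.XF Cfsg.Agent.Lib.Helper2.Mcl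

section Hua

variable {F L : Type*} [Field F] [Field L] [Algebra F L]

/-- an inversion-closed subspace containing `1` of a finite field of characteristic `2` is closed
under multiplication -/
theorem hua_mul [Finite L] (h2 : (2 : L) = 0) (U : Submodule F L) (h1 : (1 : L) ∈ U)
    (hinv : ∀ z ∈ U, z ≠ 0 → z⁻¹ ∈ U) : ∀ a ∈ U, ∀ b ∈ U, a * b ∈ U := by
  have step3 : ∀ a ∈ U, ∀ b ∈ U, a * a * b ∈ U := by
    intro a ha b hb
    by_cases ha0 : a = 0
    · rw [ha0]; simp
    by_cases hb0 : b = 0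
    · rw [hb0]; simp
    by_cases hab : a * b = 1
    · rw [mul_assoc, hab, mul_one]; exact ha
    have hb' : b⁻¹ ∈ U := hinv b hb hb0
    have hd : b⁻¹ - a ∈ U := U.sub_mem hb' ha
    have hd0 : b⁻¹ - a ≠ 0 := by
      intro h
      apply hab
      have : b⁻¹ = a := sub_eq_zero.mp h
      rw [← this, inv_mul_cancel₀ hb0]
    have hdi : (b⁻¹ - a)⁻¹ ∈ U := hinv _ hd hd0
    have ha' : a⁻¹ ∈ U := hinv a ha ha0
    have hw : a⁻¹ + (b⁻¹ - a)⁻¹ ∈ U := U.add_mem ha' hdi
    have hab' : 1 - a * b ≠ 0 := fun h => hab (sub_eq_zero.mp h).symm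
    have hprod : (a⁻¹ + (b⁻¹ - a)⁻¹) * (a - a * a * b) = 1 := by
      have e1 : b⁻¹ - a = (1 - a * b) / b := by field_simp
      rw [e1]
      field_simp
      ring
    have hw0 : a⁻¹ + (b⁻¹ - a)⁻¹ ≠ 0 := by
      intro h
      rw [h, zero_mul] at hprod
      exact zero_ne_one hprod
    have hwi : (a⁻¹ + (b⁻¹ - a)⁻¹)⁻¹ = a - a * a * b := by
      rw [inv_eq_iff_eq_inv]
      exact eq_inv_of_mul_eq_one_left hprod
    have h3 : a - a * a * b ∈ U := by
      rw [← hwi]
      exact hinv _ hw hw0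
    have : a * a * b = a - (a - a * a * b) := by ring
    rw [this]
    exact U.sub_mem ha h3
  have sq : ∀ a ∈ U, a * a ∈ U := by
    intro a ha
    have := step3 a ha 1 h1
    rwa [mul_one] at this
  haveI : Finite ↥U := Finite.of_injective (fun x : ↥U => (x : L)) Subtype.val_injective
  let φ : ↥U → ↥U := fun s => ⟨(s : L) * s, sq s s.2⟩
  have hφinj : Function.Injective φ := by
    intro s s' hss
    have h : (s : L) * s = (s' : L) * s' := congrArg Subtype.val hss
    have h3 : ((s : L) - s') * ((s : L) - s') = 0 := by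
      have : ((s : L) - s') * ((s : L) - s') = (s : L) * s + s' * s' - 2 * (s * s') := by ring
      rw [this, h2, zero_mul, sub_zero, h]
      have : (s' : L) * s' + s' * s' = 2 * (s' * s') := by ring
      rw [this, h2, zero_mul]
    have h4 : (s : L) - s' = 0 := by
      rcases mul_eq_zero.mp h3 with h | h <;> exact h
    exact Subtype.ext (sub_eq_zero.mp h4)
  have hφsurj : Function.Surjective φ := Finite.injective_iff_surjective.mp hφinj
  intro a ha b hb
  obtain ⟨s, hs⟩ := hφsurj ⟨a, ha⟩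
  have hsa : (s : L) * s = a := congrArg Subtype.val hs
  rw [← hsa]
  exact step3 s s.2 b hb

theorem exists_z [Finite L] [FiniteDimensional F L] (hr : (finrank F L).Prime)
    (hr3 : 3 ≤ finrank F L) (h2 : (2 : L) = 0) {f0 : L →ₗ[F] F} (hf0 : f0 ≠ 0) {ν : L}
    (hν : ν ≠ 0) (hfν : f0 ν = 0) :
    ∃ z : L, z ≠ 0 ∧ f0 (ν * z⁻¹) = 0 ∧ f0 (ν * z) ≠ 0 := by
  by_contra hcon
  push Not at hcon
  let ψ : L →ₗ[F] F := f0 ∘ₗ LinearMap.mulLeft F ν
  have hψ : ∀ z, ψ z = f0 (ν * z) := fun z => rfl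
  let U : Submodule F L := LinearMap.ker ψ
  have hU : ∀ z, z ∈ U ↔ f0 (ν * z) = 0 := fun z => LinearMap.mem_ker
  have h1 : (1 : L) ∈ U := by rw [hU, mul_one]; exact hfν
  have hinv : ∀ z ∈ U, z ≠ 0 → z⁻¹ ∈ U := by
    intro z hz hz0
    rw [hU]
    apply hcon z⁻¹ (inv_ne_zero hz0)
    rw [inv_inv]
    exact (hU z).mp hz
  have hmul := hua_mul h2 U h1 hinv
  have hψ0 : ψ ≠ 0 := by
    intro h0
    apply hf0
    ext x
    have := LinearMap.congr_fun h0 (ν⁻¹ * x)
    rw [hψ, ← mul_assoc, mul_inv_cancel₀ hν, one_mul] at this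
    simpa using this
  let S : Subalgebra F L :=
    { carrier := U
      mul_mem' := fun {a b} ha hb => hmul a ha b hb
      add_mem' := fun {a b} ha hb => U.add_mem ha hb
      algebraMap_mem' := fun c => by
        show algebraMap F L c ∈ U
        rw [Algebra.algebraMap_eq_smul_one]
        exact U.smul_mem c h1 }
  have hS : ∀ z, z ∈ S ↔ z ∈ U := fun z => Iff.rfl
  rcases (Subalgebra.isSimpleOrder_of_finrank_prime F L hr).eq_bot_or_eq_top S with hb | ht
  · -- `U ⊆ F`
    have hle : U ≤ Submodule.span F {(1 : L)} := by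
      intro z hz
      have : z ∈ S := (hS z).mpr hz
      rw [hb, Algebra.mem_bot] at this
      obtain ⟨c, rfl⟩ := this
      rw [Algebra.algebraMap_eq_smul_one]
      exact Submodule.smul_mem _ c (Submodule.mem_span_singleton_self 1)
    have h3 : finrank F U ≤ 1 := by
      have := Submodule.finrank_mono hle
      rwa [finrank_span_singleton (one_ne_zero)] at this
    have hsurj : Function.Surjective ψ := by
      have : ∃ x, ψ x ≠ 0 := by
        by_contra hc
        push Not at hc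
        exact hψ0 (LinearMap.ext hc)
      obtain ⟨x, hx⟩ := this
      intro c
      exact ⟨(c / ψ x) • x, by rw [map_smul, smul_eq_mul, div_mul_cancel₀ c hx]⟩
    have h4 := LinearMap.finrank_range_add_finrank_ker ψ
    rw [LinearMap.range_eq_top.mpr hsurj, finrank_top, finrank_self] at h4
    have h5 : finrank F ↥(LinearMap.ker ψ) = finrank F U := rfl
    omega
  · apply hψ0
    ext x
    have : x ∈ S := by rw [ht]; trivial
    have := (hU x).mp ((hS x).mp this)
    simpa [hψ] using this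

end Hua

section EndB2

variable {F L V : Type*} [Field F] [Field L] [Algebra F L]
  [AddCommGroup V] [Module F V] [Module L V] [IsScalarTower F L V] [FiniteDimensional L V]
  {B : V →ₗ[L] V →ₗ[L] L} {f0 : L →ₗ[F] F} {H : Subgroup (V ≃ₗ[F] V)}

omit [FiniteDimensional L V] in
theorem Dl_vanish (v a : V) (μ : L) (t : F) {y : V} (h1 : B v y = 0) (h2 : B a y = 0) :
    Dl B f0 v a μ t y = 0 := by
  rw [Dl_apply, h1, h2]
  simp

omit [FiniteDimensional L V] in
theorem B_Dl_line (halt : ∀ x, B x x = 0) (v : V) (β β' μ : L) (t : F) (x : V) :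
    B (β' • v) (Dl B f0 v (β • v) μ t x) = 0 := by
  rw [Dl_apply]
  simp only [map_add, B_smulF_right, map_smul, LinearMap.smul_apply, halt, smul_zero, add_zero]

/-- conjugating by an element of `Sp_L` moving `v` to `κ v` -/
theorem Cfg.conj_line (hC : Cfg B f0 H) {h : V ≃ₗ[F] V} (hh : h ∈ H) {v : V} (hv : v ≠ 0)
    {bh ξ : L} (hi : ∀ κ : L, h (κ • v) = κ • v + f0 (ξ * κ) • bh • v) {κ : L} (hκ : κ ≠ 0) :
    ∃ h' ∈ H, ∀ κ' : L, h' (κ' • v) = κ' • v + f0 (ξ / κ * κ') • (κ * bh) • v := by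
  obtain ⟨g, hg, hgv⟩ := witt0 hC.alt hC.nd v (κ • v) hv (smul_ne_zero hκ hv)
  have hgF := hC.M0 g hg
  refine ⟨g.restrictScalars F * h * (g.restrictScalars F)⁻¹,
    H.mul_mem (H.mul_mem hgF hh) (H.inv_mem hgF), fun κ' => ?_⟩
  rw [LinearEquiv.mul_apply, LinearEquiv.mul_apply, LinearEquiv.coe_inv]
  have e1 : (g.restrictScalars F).symm (κ' • v) = (κ' / κ) • v := by
    show g.symm (κ' • v) = (κ' / κ) • v
    rw [LinearEquiv.symm_apply_eq, map_smul, hgv, smul_smul, div_mul_cancel₀ κ' hκ]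
  rw [e1, hi]
  show g ((κ' / κ) • v + f0 (ξ * (κ' / κ)) • bh • v) = _
  rw [map_add, map_smul, hgv, smul_smul, div_mul_cancel₀ κ' hκ,
    ← algebraMap_smul L (f0 (ξ * (κ' / κ))) (bh • v), map_smul, map_smul, hgv, algebraMap_smul,
    smul_smul bh κ v, mul_comm bh κ]
  congr 3
  ring

/-- **Ending B2.** -/
theorem Cfg.endB2 (hC : Cfg B f0 H) {h : V ≃ₗ[F] V} (hh : h ∈ H) {v : V} (hv : v ≠ 0)
    {bh ξ : L} (hbh : bh ≠ 0) (hi : ∀ κ : L, h (κ • v) = κ • v + f0 (ξ * κ) • bh • v)
    {z : L} (hz : z ≠ 0) (hz1 : f0 (bh * ξ * z⁻¹) = 0) (hz2 : f0 (bh * ξ * z) ≠ 0) :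
    In H (NF B f0 v (f0 (bh * ξ * z))) := by
  have hξ : ξ ≠ 0 := by
    rintro rfl
    apply hz2
    simp
  -- general elements
  have gen : ∀ β : L, β ≠ 0 → ∀ μ : L, In H (Dl B f0 v (β • v) μ (f0 (μ * (ξ * bh / β)))) := by
    intro β hβ μ
    have hκ : β / bh ≠ 0 := div_ne_zero hβ hbh
    obtain ⟨h', hh', hi'⟩ := hC.conj_line hh hv hi hκ
    have e1 : β / bh * bh = β := div_mul_cancel₀ β hbh
    rw [e1] at hi'
    have hξ' : ξ / (β / bh) ≠ 0 := div_ne_zero hξ hκ
    have hvb : B v (β • v) = 0 := by rw [map_smul, hC.alt, smul_zero]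
    have d := hC.delta hh' hi' hvb (μ / (ξ / (β / bh)))
    rw [div_mul_cancel₀ μ hξ'] at d
    have e2 : ξ / (β / bh) = ξ * bh / β := by
      field_simp
    rwa [e2] at d
  have d1 := gen 1 one_ne_zero z
  have d2 := gen z hz 1
  have e1 : z * (ξ * bh / 1) = bh * ξ * z := by
    rw [div_one]; ring
  have e2 : 1 * (ξ * bh / z) = bh * ξ * z⁻¹ := by
    rw [div_eq_mul_inv]; ring
  rw [e1] at d1
  rw [e2, hz1] at d2
  have hD2D2 : ∀ x, Dl B f0 v (z • v) 1 0 (Dl B f0 v (z • v) 1 0 x) = 0 := by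
    intro x
    apply Dl_vanish
    · have := B_Dl_line (f0 := f0) hC.alt v z 1 1 0 x
      rwa [one_smul] at this
    · exact B_Dl_line hC.alt v z z 1 0 x
  have hneg := d2.neg hD2D2
  have hc : ∀ x, Dl B f0 v ((1 : L) • v) z (f0 (bh * ξ * z)) ((-Dl B f0 v (z • v) 1 0) x) = 0 := by
    intro x
    rw [LinearMap.neg_apply, map_neg, neg_eq_zero]
    apply Dl_vanish
    · have := B_Dl_line (f0 := f0) hC.alt v z 1 1 0 x
      rwa [one_smul] at this
    · exact B_Dl_line hC.alt v z 1 1 0 x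
  refine (d1.add hneg hc).congr ?_
  intro x
  rw [LinearMap.add_apply, LinearMap.neg_apply, NF_apply, Dl_apply, Dl_apply]
  simp only [one_smul, one_mul, map_smul, LinearMap.smul_apply, smul_eq_mul, zero_mul, zero_smul,
    add_zero]
  abel

end EndB2

end Cfsg.Agent.Lib.Helper3.XS
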