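import Mathlib
import Cfsg.Agent.Lib.Helper3.XSBasic
import Cfsg.Agent.Lib.Helper3.XFMI

/-!
# Extremal pairs of images of `L`-points (S5664)
-/

set_option autoImplicit false
set_option maxHeartbeats 4000000
set_option maxRecDepth 100000
set_option linter.unusedVariables false
set_option linter.unusedSectionVars false
set_option linter.style.longLine false
set_option linter.style.haveILetI false
set_option linter.deprecated false

namespace Cfsg.Agent.Lib.Helper3.XS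

open Module Cfsg.Agent.Lib.Helper3.XF Cfsg.Agent.Lib.Helper2.Mcl

section Pairs

variable {F L V : Type*} [Field F] [Field L] [Algebra F L] [Finite L] [FiniteDimensional F L]
  [AddCommGroup V] [Module F V] [Module L V] [IsScalarTower F L V] [FiniteDimensional L V]
  [FiniteDimensional F V]
  {B : V →ₗ[L] V →ₗ[L] L} {f0 : L →ₗ[F] F} {H : Subgroup (V ≃ₗ[F] V)}

/-- the `L`-line through `v` as an `F`-subspace -/
def LP (F L : Type*) {V : Type*} [Field F] [Field L] [Algebra F L] [AddCommGroup V] [Module F V]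
    [Module L V] [IsScalarTower F L V] (v : V) : Submodule F V :=
  (Submodule.span L {v}).restrictScalars F

omit [Finite L] [FiniteDimensional F L] [FiniteDimensional L V] [FiniteDimensional F V] in
theorem mem_LP {v x : V} : x ∈ LP F L v ↔ ∃ κ : L, κ • v = x := by
  rw [LP, Submodule.restrictScalars_mem, Submodule.mem_span_singleton]

omit [Finite L] [FiniteDimensional F L] [FiniteDimensional L V] [FiniteDimensional F V] in
theorem smul_mem_LP (κ : L) (v : V) : κ • v ∈ LP F L v := mem_LP.mpr ⟨κ, rfl⟩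

omit [Finite L] [FiniteDimensional F L] [FiniteDimensional L V] [FiniteDimensional F V] in
theorem self_mem_LP (v : V) : v ∈ LP F L v := mem_LP.mpr ⟨1, one_smul _ _⟩

omit [Finite L] [FiniteDimensional F L] [FiniteDimensional L V] [FiniteDimensional F V] in
theorem LP_smul {κ : L} (hκ : κ ≠ 0) (v : V) : LP F L (κ • v) = LP F L v := by
  ext x
  rw [mem_LP, mem_LP]
  constructor
  · rintro ⟨l, rfl⟩
    exact ⟨l * κ, by rw [smul_smul]⟩
  · rintro ⟨l, rfl⟩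
    exact ⟨l / κ, by rw [smul_smul, div_mul_cancel₀ l hκ]⟩

omit [Finite L] [FiniteDimensional L V] [FiniteDimensional F V] in
theorem finrank_LP {v : V} (hv : v ≠ 0) : finrank F (LP F L v) = finrank F L := by
  let s : L →ₗ[F] V := (LinearMap.toSpanSingleton L V v).restrictScalars F
  have hsinj : Function.Injective s := by
    intro a b hab
    have h1 : a • v = b • v := by simpa [s] using hab
    exact smul_left_injective L hv h1
  have hrange : LinearMap.range s = LP F L v := by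
    ext x
    rw [LinearMap.mem_range, mem_LP]
    constructor
    · rintro ⟨κ, rfl⟩
      exact ⟨κ, by simp [s]⟩
    · rintro ⟨κ, rfl⟩
      exact ⟨κ, by simp [s]⟩
  rw [← hrange]
  exact LinearMap.finrank_range_of_inj hsinj

omit [Finite L] [FiniteDimensional F L] [FiniteDimensional L V] [FiniteDimensional F V] in
theorem mem_map_LP {h : V ≃ₗ[F] V} {v x : V} :
    x ∈ (LP F L v).map (h : V →ₗ[F] V) ↔ ∃ κ : L, h (κ • v) = x := by
  rw [Submodule.mem_map]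
  constructor
  · rintro ⟨y, hy, rfl⟩
    obtain ⟨κ, rfl⟩ := mem_LP.mp hy
    exact ⟨κ, rfl⟩
  · rintro ⟨κ, rfl⟩
    exact ⟨κ • v, smul_mem_LP κ v, rfl⟩

/-- the images under `H` of the `L`-points -/
def Sig (L : Type*) {F V : Type*} [Field F] [Field L] [Algebra F L] [AddCommGroup V] [Module F V]
    [Module L V] [IsScalarTower F L V] (H : Subgroup (V ≃ₗ[F] V)) : Set (Submodule F V) :=
  {Q | ∃ h ∈ H, ∃ v : V, v ≠ 0 ∧ Q = (LP F L v).map (h : V →ₗ[F] V)}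

omit [Finite L] [FiniteDimensional F L] [FiniteDimensional L V] [FiniteDimensional F V] in
theorem LP_mem_Sig {v : V} (hv : v ≠ 0) : LP F L v ∈ Sig L H := by
  refine ⟨1, H.one_mem, v, hv, ?_⟩
  ext x
  rw [mem_map_LP, mem_LP]
  rfl

omit [Finite L] [FiniteDimensional F L] [FiniteDimensional L V] [FiniteDimensional F V] in
theorem map_mem_Sig {Q : Submodule F V} (hQ : Q ∈ Sig L H) {t : V ≃ₗ[F] V} (ht : t ∈ H) :
    Q.map (t : V →ₗ[F] V) ∈ Sig L H := by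
  obtain ⟨h, hh, v, hv, rfl⟩ := hQ
  refine ⟨t * h, H.mul_mem ht hh, v, hv, ?_⟩
  ext x
  rw [mem_map_LP, Submodule.mem_map]
  constructor
  · rintro ⟨y, hy, rfl⟩
    obtain ⟨κ, rfl⟩ := mem_map_LP.mp hy
    exact ⟨κ, rfl⟩
  · rintro ⟨κ, rfl⟩
    exact ⟨h (κ • v), mem_map_LP.mpr ⟨κ, rfl⟩, rfl⟩

omit [Finite L] [FiniteDimensional L V] [FiniteDimensional F V] in
theorem finrank_of_mem_Sig {Q : Submodule F V} (hQ : Q ∈ Sig L H) :
    finrank F Q = finrank F L := by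
  obtain ⟨h, hh, v, hv, rfl⟩ := hQ
  rw [LinearEquiv.finrank_map_eq]
  exact finrank_LP hv

/-- Lemma N, symplectic form: some element of `H` moves an `L`-point off the `L`-points. -/
theorem Cfg.exists_nonpoint (hC : Cfg B f0 H) (hm : 2 ≤ finrank L V)
    (hnle : ¬ H ≤ Nrm F L V) :
    ∃ g ∈ H, ∃ w : V, w ≠ 0 ∧ (LP F L w).map (g : V →ₗ[F] V) ≠ LP F L (g w) := by
  by_contra hcon
  push Not at hcon
  apply hnle
  apply le_Nrm_of_hyperplanes hm H
  intro g hg φ2 hφ2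
  obtain ⟨w2, hw2⟩ := bil_surj B hC.nd φ2
  have hw20 : w2 ≠ 0 := by
    rintro rfl
    apply hφ2
    rw [← hw2, map_zero]
  have hLP := hcon g hg w2 hw20
  refine ⟨B (g w2), fun x => ?_⟩
  rw [← hw2]
  constructor
  · intro h
    apply B_eq_of_f0 hC.f0ne
    intro l
    rw [mul_zero, map_zero]
    have e1 : l * B w2 (g.symm x) = B (l • w2) (g.symm x) := by
      rw [map_smul, LinearMap.smul_apply, smul_eq_mul]
    rw [e1, hC.symm_apply' hg]
    have hmem : g (l • w2) ∈ LP F L (g w2) := by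
      rw [← hLP]
      exact mem_map_LP.mpr ⟨l, rfl⟩
    obtain ⟨κ, hκ⟩ := mem_LP.mp hmem
    rw [← hκ, map_smul, LinearMap.smul_apply, h, smul_zero, map_zero]
  · intro h
    apply B_eq_of_f0 hC.f0ne
    intro l
    rw [mul_zero, map_zero]
    have e1 : l * B (g w2) x = B (l • g w2) x := by
      rw [map_smul, LinearMap.smul_apply, smul_eq_mul]
    rw [e1]
    have hmem : l • g w2 ∈ (LP F L w2).map (g : V →ₗ[F] V) := by
      rw [hLP]
      exact smul_mem_LP l _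
    obtain ⟨κ, hκ⟩ := mem_map_LP.mp hmem
    rw [← hκ, ← hC.symm_apply' hg, map_smul, LinearMap.smul_apply, h, smul_zero, map_zero]

/-- the extremal pair -/
theorem Cfg.exists_pair (hC : Cfg B f0 H) (hm : 2 ≤ finrank L V) (hnle : ¬ H ≤ Nrm F L V) :
    ∃ d : ℕ, 1 ≤ d ∧
      (∀ Q ∈ Sig L H, ∀ Q' ∈ Sig L H, Q ≠ Q' → finrank F ↥(Q ⊓ Q') ≤ d) ∧
      ∃ h0 ∈ H, ∃ v v2 : V, v ≠ 0 ∧ v2 ≠ 0 ∧
        (LP F L v).map (h0 : V →ₗ[F] V) ≠ LP F L v2 ∧
        v2 ∈ (LP F L v).map (h0 : V →ₗ[F] V) ∧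
        finrank F ↥((LP F L v).map (h0 : V →ₗ[F] V) ⊓ LP F L v2) = d := by
  classical
  let S : Set ℕ := {n | ∃ Q ∈ Sig L H, ∃ Q' ∈ Sig L H, Q ≠ Q' ∧ finrank F ↥(Q ⊓ Q') = n}
  have hS1 : ∃ n ∈ S, 1 ≤ n := by
    obtain ⟨g, hg, w, hw, hne⟩ := hC.exists_nonpoint hm hnle
    have hgw : g w ≠ 0 := by
      intro h
      apply hw
      exact g.injective (by rw [h, map_zero])
    refine ⟨_, ⟨_, map_mem_Sig (LP_mem_Sig hw) hg, _, LP_mem_Sig hgw, hne, rfl⟩, ?_⟩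
    have hmem : g w ∈ (LP F L w).map (g : V →ₗ[F] V) ⊓ LP F L (g w) :=
      ⟨mem_map_LP.mpr ⟨1, by rw [one_smul]⟩, self_mem_LP _⟩
    have : 0 < finrank F ↥((LP F L w).map (g : V →ₗ[F] V) ⊓ LP F L (g w)) := by
      rw [Module.finrank_pos_iff_exists_ne_zero]
      exact ⟨⟨g w, hmem⟩, fun h => hgw (congrArg Subtype.val h)⟩
    omega
  have hSne : S.Nonempty := by
    obtain ⟨n, hn, -⟩ := hS1
    exact ⟨n, hn⟩
  have hSbdd : BddAbove S := by
    refine ⟨finrank F V, fun n hn => ?_⟩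
    obtain ⟨Q, -, Q', -, -, rfl⟩ := hn
    exact Submodule.finrank_le _
  have hdS := Nat.sSup_mem hSne hSbdd
  have hmax : ∀ n ∈ S, n ≤ sSup S := fun n hn => le_csSup hSbdd hn
  obtain ⟨d, hd⟩ : ∃ d, d = sSup S := ⟨_, rfl⟩
  rw [← hd] at hdS hmax
  have hd1 : 1 ≤ d := by
    obtain ⟨n, hn, hn1⟩ := hS1
    exact le_trans hn1 (hmax n hn)
  refine ⟨d, hd1, fun Q hQ Q' hQ' hne => hmax _ ⟨Q, hQ, Q', hQ', hne, rfl⟩, ?_⟩
  obtain ⟨Q, ⟨h1, hh1, v1, hv1, rfl⟩, Q', ⟨h2, hh2, v2', hv2', rfl⟩, hne, hdim⟩ := hdS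
  -- pull back by `h2`
  have hmemiff : ∀ x, x ∈ (LP F L v1).map ((h2⁻¹ * h1 : V ≃ₗ[F] V) : V →ₗ[F] V) ↔
      h2 x ∈ (LP F L v1).map (h1 : V →ₗ[F] V) := by
    intro x
    rw [mem_map_LP, mem_map_LP]
    constructor
    · rintro ⟨κ, rfl⟩
      refine ⟨κ, ?_⟩
      rw [LinearEquiv.mul_apply, LinearEquiv.coe_inv, h2.apply_symm_apply]
    · rintro ⟨κ, hκ⟩
      refine ⟨κ, ?_⟩
      rw [LinearEquiv.mul_apply, LinearEquiv.coe_inv, hκ, h2.symm_apply_apply]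
  have hmemiff2 : ∀ x, x ∈ LP F L v2' ↔ h2 x ∈ (LP F L v2').map (h2 : V →ₗ[F] V) := by
    intro x
    rw [mem_map_LP, mem_LP]
    constructor
    · rintro ⟨κ, rfl⟩
      exact ⟨κ, rfl⟩
    · rintro ⟨κ, hκ⟩
      exact ⟨κ, h2.injective hκ⟩
  have hinf : (LP F L v1).map ((h2⁻¹ * h1 : V ≃ₗ[F] V) : V →ₗ[F] V) ⊓ LP F L v2' =
      ((LP F L v1).map (h1 : V →ₗ[F] V) ⊓ (LP F L v2').map (h2 : V →ₗ[F] V)).map
        (h2.symm : V →ₗ[F] V) := by
    ext x
    rw [Submodule.mem_map_equiv, LinearEquiv.symm_symm, Submodule.mem_inf, Submodule.mem_inf,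
      hmemiff, hmemiff2]
  have hdim' : finrank F ↥((LP F L v1).map ((h2⁻¹ * h1 : V ≃ₗ[F] V) : V →ₗ[F] V) ⊓
      LP F L v2') = d := by
    rw [hinf, LinearEquiv.finrank_map_eq]
    exact hdim
  have hne' : (LP F L v1).map ((h2⁻¹ * h1 : V ≃ₗ[F] V) : V →ₗ[F] V) ≠ LP F L v2' := by
    intro heq
    apply hne
    ext y
    have h3 := hmemiff (h2.symm y)
    have h4 := hmemiff2 (h2.symm y)
    rw [h2.apply_symm_apply] at h3 h4
    rw [← h3, ← h4, heq]
  -- a nonzero vector in the intersection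
  have hpos : 0 < finrank F ↥((LP F L v1).map ((h2⁻¹ * h1 : V ≃ₗ[F] V) : V →ₗ[F] V) ⊓
      LP F L v2') := by omega
  rw [Module.finrank_pos_iff_exists_ne_zero] at hpos
  obtain ⟨⟨x, hx⟩, hx0⟩ := hpos
  have hx0' : x ≠ 0 := fun h => hx0 (Subtype.ext h)
  obtain ⟨κ0, hκ0⟩ := mem_LP.mp hx.2
  have hκ00 : κ0 ≠ 0 := by
    rintro rfl
    rw [zero_smul] at hκ0
    exact hx0' hκ0.symm
  have hLPx : LP F L x = LP F L v2' := by
    rw [← hκ0]
    exact LP_smul hκ00 v2'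
  refine ⟨h2⁻¹ * h1, H.mul_mem (H.inv_mem hh2) hh1, v1, x, hv1, hx0', ?_, hx.1, ?_⟩
  · rw [hLPx]
    exact hne'
  · rw [hLPx]
    exact hdim'

/-- the basic maximality tool -/
theorem stab_of_extra {d : ℕ}
    (hmax : ∀ Q ∈ Sig L H, ∀ Q' ∈ Sig L H, Q ≠ Q' → finrank F ↥(Q ⊓ Q') ≤ d)
    {Q : Submodule F V} (hQ : Q ∈ Sig L H) {P2 : Submodule F V}
    (hd : finrank F ↥(Q ⊓ P2) = d) {t : V ≃ₗ[F] V} (ht : t ∈ H)
    (h1 : ∀ s ∈ Q ⊓ P2, t s ∈ Q) {y : V} (hyQ : y ∈ Q) (hyP : y ∉ P2) (hty : t y ∈ Q) :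
    ∀ x ∈ Q, t x ∈ Q := by
  by_contra hcon
  push Not at hcon
  obtain ⟨x0, hx0Q, hx0⟩ := hcon
  have hne : Q ≠ Q.map (t : V →ₗ[F] V) := by
    intro heq
    apply hx0
    rw [heq]
    exact Submodule.mem_map_of_mem hx0Q
  have hle := hmax Q hQ _ (map_mem_Sig hQ ht) hne
  have hyD : y ∉ Q ⊓ P2 := fun h => hyP h.2
  have hS := finrank_sup_singleton (Q ⊓ P2) hyD
  have hSle : (Q ⊓ P2) ⊔ Submodule.span F {y} ≤ Q ⊓ Q.comap (t : V →ₗ[F] V) := by
    apply sup_le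
    · intro s hs
      exact ⟨hs.1, h1 s hs⟩
    · rw [Submodule.span_singleton_le_iff_mem]
      exact ⟨hyQ, hty⟩
  have hmap : ((Q ⊓ P2) ⊔ Submodule.span F {y}).map (t : V →ₗ[F] V) ≤
      Q ⊓ Q.map (t : V →ₗ[F] V) := by
    rintro _ ⟨s, hs, rfl⟩
    have := hSle hs
    exact ⟨this.2, Submodule.mem_map_of_mem this.1⟩
  have h2 := Submodule.finrank_mono hmap
  rw [LinearEquiv.finrank_map_eq] at h2
  omega

end Pairs

end Cfsg.Agent.Lib.Helper3.XS
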