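import Mathlib
import Cfsg.Agent.Lib.Helper3.XSPairs
import Cfsg.Agent.Lib.Helper3.XSHua

/-!
# Case (b): the extremal pair is not perpendicular (S5664)
-/

set_option autoImplicit false
set_option maxHeartbeats 4000000
set_option maxRecDepth 100000
set_option linter.unusedVariables false
set_option linter.unusedSectionVars false
set_option linter.style.longLine false
set_option linter.style.haveILetI false
set_option linter.deprecated false

namespace Cfsg.Agent.Lib.Helper3.XS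

open Module Cfsg.Agent.Lib.Helper3.XF Cfsg.Agent.Lib.Helper2.Mcl

section CaseB

variable {F L V : Type*} [Field F] [Field L] [Algebra F L] [Finite L] [FiniteDimensional F L]
  [AddCommGroup V] [Module F V] [Module L V] [IsScalarTower F L V] [FiniteDimensional L V]
  [FiniteDimensional F V]
  {B : V →ₗ[L] V →ₗ[L] L} {f0 : L →ₗ[F] F} {H : Subgroup (V ≃ₗ[F] V)}

omit [Finite L] [FiniteDimensional F L] in
theorem two_eq_zero_of_card (hq : Nat.card F = 2) : (2 : L) = 0 := by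
  have h2F : (2 : F) = 0 := by
    obtain ⟨y, hy, huniq⟩ := (Nat.card_eq_two_iff' (0 : F)).mp hq
    by_contra h20
    have h1 : (2 : F) = y := huniq 2 h20
    have h2 : (1 : F) = y := huniq 1 one_ne_zero
    have h3 : (2 : F) = 1 := by rw [h1, h2]
    have h4 : (1 : F) = 0 := by linear_combination h3
    exact one_ne_zero h4
  have : (2 : L) = algebraMap F L 2 := (map_ofNat (algebraMap F L) 2).symm
  rw [this, h2F, map_zero]

theorem exists_ne_zero_one (hq : Nat.card F ≠ 2) : ∃ c1 : F, c1 ≠ 0 ∧ c1 ≠ 1 := by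
  by_contra hcon
  push Not at hcon
  apply hq
  rw [Nat.card_eq_two_iff' (0 : F)]
  exact ⟨1, one_ne_zero, fun y hy => hcon y hy⟩

theorem Cfg.caseB (hC : Cfg B f0 H) (hr : (finrank F L).Prime)
    (h22 : ¬ (Nat.card F = 2 ∧ finrank F L = 2)) {d : ℕ} (hd1 : 1 ≤ d)
    (hmax : ∀ Q ∈ Sig L H, ∀ Q' ∈ Sig L H, Q ≠ Q' → finrank F ↥(Q ⊓ Q') ≤ d)
    {h0 : V ≃ₗ[F] V} (hh0 : h0 ∈ H) {v v2 : V} (hv : v ≠ 0) (hv2 : v2 ≠ 0)
    (hne : (LP F L v).map (h0 : V →ₗ[F] V) ≠ LP F L v2)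
    (hdim : finrank F ↥((LP F L v).map (h0 : V →ₗ[F] V) ⊓ LP F L v2) = d)
    (hb : ∃ y0 ∈ (LP F L v).map (h0 : V →ₗ[F] V), B v2 y0 ≠ 0) :
    ∃ u : V, u ≠ 0 ∧ ∃ c : F, c ≠ 0 ∧ In H (NF B f0 u c) := by
  classical
  set Q := (LP F L v).map (h0 : V →ₗ[F] V) with hQdef
  have hQS : Q ∈ Sig L H := ⟨h0, hh0, v, hv, rfl⟩
  obtain ⟨y0, hy0Q, hc'⟩ := hb
  obtain ⟨c, hcdef⟩ : ∃ c : L, c = B v2 y0 := ⟨_, rfl⟩
  have hc : c ≠ 0 := by rw [hcdef]; exact hc'
  have hy0P : y0 ∉ LP F L v2 := by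
    intro h
    obtain ⟨κ, hκ⟩ := mem_LP.mp h
    apply hc
    rw [hcdef, ← hκ, map_smul, hC.alt, smul_zero]
  let s2 : L →ₗ[F] V := (LinearMap.toSpanSingleton L V v2).restrictScalars F
  let Dt : Submodule F L := Q.comap s2
  have hDt : ∀ β, β ∈ Dt ↔ β • v2 ∈ Q := fun β => Iff.rfl
  have tmem : ∀ l : L,
      (LinearEquiv.transvection (spT_inc B hC.alt v2 l)).restrictScalars F ∈ H :=
    fun l => hC.M0 _ (ltv_isom hC.alt v2 l)
  have tapp : ∀ (l : L) (x : V),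
      ((LinearEquiv.transvection (spT_inc B hC.alt v2 l)).restrictScalars F) x =
        x + (l * B v2 x) • v2 := fun l x => rfl
  have step : ∀ β ∈ Dt, ∀ y ∈ Q, β * (B v2 y / c) ∈ Dt := by
    intro β hβ y hy
    have hs1 : ∀ s ∈ Q ⊓ LP F L v2,
        ((LinearEquiv.transvection (spT_inc B hC.alt v2 (β / c))).restrictScalars F) s ∈ Q := by
      intro s hs
      obtain ⟨κ, hκ⟩ := mem_LP.mp hs.2
      rw [tapp, ← hκ, map_smul, hC.alt, smul_zero, mul_zero, zero_smul, add_zero, hκ]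
      exact hs.1
    have hs2 : ((LinearEquiv.transvection (spT_inc B hC.alt v2 (β / c))).restrictScalars F) y0
        ∈ Q := by
      rw [tapp, ← hcdef, div_mul_cancel₀ β hc]
      exact Q.add_mem hy0Q ((hDt β).mp hβ)
    have key := stab_of_extra hmax hQS hdim (tmem (β / c)) hs1 hy0Q hy0P hs2 y hy
    rw [tapp] at key
    have h2 := Q.sub_mem key hy
    rw [add_sub_cancel_left] at h2
    rw [hDt]
    have e : β * (B v2 y / c) = β / c * B v2 y := by
      field_simp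
    rw [e]
    exact h2
  let S : Subalgebra F L :=
    { carrier := {x | ∀ β ∈ Dt, β * x ∈ Dt}
      mul_mem' := fun {a b} ha hb β hβ => by
        rw [← mul_assoc]
        exact hb _ (ha β hβ)
      add_mem' := fun {a b} ha hb β hβ => by
        rw [mul_add]
        exact Dt.add_mem (ha β hβ) (hb β hβ)
      algebraMap_mem' := fun c1 β hβ => by
        rw [mul_comm, ← Algebra.smul_def]
        exact Dt.smul_mem c1 hβ }
  have hS : ∀ x, x ∈ S ↔ ∀ β ∈ Dt, β * x ∈ Dt := fun x => Iff.rfl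
  -- a nonzero element of `Dt`
  have hpos : 0 < finrank F ↥(Q ⊓ LP F L v2) := by omega
  rw [Module.finrank_pos_iff_exists_ne_zero] at hpos
  obtain ⟨⟨x0, hx0⟩, hx00⟩ := hpos
  have hx00' : x0 ≠ 0 := fun h => hx00 (Subtype.ext h)
  obtain ⟨β0, hβ0x⟩ := mem_LP.mp hx0.2
  have hβ00 : β0 ≠ 0 := by
    rintro rfl
    rw [zero_smul] at hβ0x
    exact hx00' hβ0x.symm
  have hβ0 : β0 ∈ Dt := by
    rw [hDt, hβ0x]
    exact hx0.1
  have hbot : S = ⊥ := by
    rcases (Subalgebra.isSimpleOrder_of_finrank_prime F L hr).eq_bot_or_eq_top S with h | h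
    · exact h
    · exfalso
      apply hne
      have hle : LP F L v2 ≤ Q := by
        intro x hx
        obtain ⟨κ, rfl⟩ := mem_LP.mp hx
        have h3 : κ / β0 ∈ S := by rw [h]; trivial
        have h4 := (hS _).mp h3 β0 hβ0
        rw [mul_div_cancel₀ κ hβ00] at h4
        exact (hDt κ).mp h4
      symm
      apply Submodule.eq_of_le_of_finrank_eq hle
      rw [finrank_LP hv2, finrank_of_mem_Sig hQS]
  have hF : ∀ y ∈ Q, ∃ a : F, B v2 y = a • c := by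
    intro y hy
    have h3 : B v2 y / c ∈ S := (hS _).mpr (fun β hβ => step β hβ y hy)
    rw [hbot, Algebra.mem_bot] at h3
    obtain ⟨a, ha⟩ := h3
    refine ⟨a, ?_⟩
    rw [Algebra.smul_def, ha, div_mul_cancel₀ _ hc]
  obtain ⟨π, hπ⟩ : ∃ π : L →ₗ[F] F, π 1 = 1 :=
    exists_fun_one (L := F) (V := L) one_ne_zero (1 : F)
  let sv : L →ₗ[F] V := (LinearMap.toSpanSingleton L V v).restrictScalars F
  let ψ : L →ₗ[F] F :=
    π ∘ₗ LinearMap.mulLeft F c⁻¹ ∘ₗ (B v2).restrictScalars F ∘ₗ (h0 : V →ₗ[F] V) ∘ₗ sv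
  have hψ : ∀ κ, ψ κ = π (c⁻¹ * B v2 (h0 (κ • v))) := fun κ => rfl
  have hψc : ∀ κ, B v2 (h0 (κ • v)) = ψ κ • c := by
    intro κ
    obtain ⟨a, ha⟩ := hF _ (mem_map_LP.mpr ⟨κ, rfl⟩)
    rw [hψ, ha]
    have e : c⁻¹ * a • c = a • (1 : L) := by
      rw [mul_smul_comm, inv_mul_cancel₀ hc]
    rw [e, map_smul, hπ, smul_eq_mul, mul_one]
  obtain ⟨ξ, hξ⟩ := dual_rep hC.f0ne ψ
  obtain ⟨bh, hbh⟩ := mem_map_LP.mp ((hDt β0).mp hβ0)
  have hbh0 : bh ≠ 0 := by
    rintro rfl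
    rw [zero_smul, map_zero] at hbh
    exact smul_ne_zero hβ00 hv2 hbh.symm
  have hsymm : h0.symm (β0 • v2) = bh • v := by
    rw [LinearEquiv.symm_apply_eq, hbh]
  have hel : ∀ β : L, ∃ h' ∈ H, ∀ κ : L,
      h' (κ • v) = κ • v + f0 (ξ * κ) • h0.symm (β • v2) := by
    intro β
    refine ⟨h0⁻¹ * (LinearEquiv.transvection (spT_inc B hC.alt v2 (β / c))).restrictScalars F * h0,
      H.mul_mem (H.mul_mem (H.inv_mem hh0) (tmem _)) hh0, fun κ => ?_⟩
    rw [LinearEquiv.mul_apply, LinearEquiv.mul_apply, tapp, hψc, LinearEquiv.coe_inv, map_add,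
      h0.symm_apply_apply, hξ]
    congr 1
    rw [← map_smul h0.symm (f0 (ξ * κ)) (β • v2)]
    congr 1
    rw [mul_smul_comm, div_mul_cancel₀ β hc, smul_assoc]
  -- `ξ ≠ 0`
  obtain ⟨κ0, hκ0⟩ := mem_map_LP.mp hy0Q
  have hψκ0 : ψ κ0 = 1 := by
    have h3 := hψc κ0
    rw [hκ0, ← hcdef] at h3
    have h4 : (ψ κ0 - 1) • c = 0 := by
      rw [sub_smul, one_smul, ← h3, sub_self]
    rcases smul_eq_zero.mp h4 with h5 | h5
    · exact sub_eq_zero.mp h5
    · exact absurd h5 hc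
  have hξ0 : ξ ≠ 0 := by
    rintro rfl
    rw [hξ, zero_mul, map_zero] at hψκ0
    exact zero_ne_one hψκ0
  have hψbh : f0 (ξ * bh) = 0 := by
    rw [← hξ]
    have h3 := hψc bh
    rw [hbh, map_smul, hC.alt, smul_zero] at h3
    rcases smul_eq_zero.mp h3.symm with h5 | h5
    · exact h5
    · exact absurd h5 hc
  by_cases hq : Nat.card F = 2
  · -- `q = 2`, `r ≥ 3`
    have hr3 : 3 ≤ finrank F L := by
      have h2 := hr.two_le
      have h3 : finrank F L ≠ 2 := fun h => h22 ⟨hq, h⟩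
      omega
    have h2L : (2 : L) = 0 := two_eq_zero_of_card hq
    have hν : bh * ξ ≠ 0 := mul_ne_zero hbh0 hξ0
    have hfν : f0 (bh * ξ) = 0 := by rw [mul_comm]; exact hψbh
    obtain ⟨z, hz0, hz1, hz2⟩ := exists_z hr hr3 h2L hC.f0ne hν hfν
    obtain ⟨h', hh', hi'⟩ := hel β0
    rw [hsymm] at hi'
    exact ⟨v, hv, _, hz2, hC.endB2 hh' hv hbh0 hi' hz0 hz1 hz2⟩
  · obtain ⟨c1, hc10, hc11⟩ := exists_ne_zero_one hq
    obtain ⟨h1, hh1, hi1⟩ := hel β0
    obtain ⟨h2, hh2, hi2⟩ := hel (c1 • β0)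
    rw [hsymm] at hi1
    have e : h0.symm ((c1 • β0) • v2) = c1 • bh • v := by
      rw [smul_assoc, map_smul, hsymm]
    rw [e] at hi2
    have hvb : B v (bh • v) = 0 := by rw [map_smul, hC.alt, smul_zero]
    refine ⟨bh • v, smul_ne_zero hbh0 hv, 1 - c1, ?_, hC.endB1 hh1 hh2 hc10 hi1 hi2 hvb hξ0⟩
    exact sub_ne_zero.mpr (Ne.symm hc11)

end CaseB

end Cfsg.Agent.Lib.Helper3.XS
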