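import Mathlib
import Cfsg.Agent.Lib.Helper3.XSBasic

/-!
# The group induced on an `L`-subspace, and some auxiliary algebra (S5664)
-/

set_option autoImplicit false
set_option maxHeartbeats 4000000
set_option maxRecDepth 100000
set_option linter.unusedVariables false
set_option linter.unusedSectionVars false
set_option linter.style.longLine false
set_option linter.style.haveILetI false
set_option linter.deprecated false

namespace Cfsg.Agent.Lib.Helper3.XS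

open Module Cfsg.Agent.Lib.Helper3.XF Cfsg.Agent.Lib.Helper2.Mcl

section Img

variable {F L V : Type*} [Field F] [Field L] [Algebra F L]
  [AddCommGroup V] [Module F V] [Module L V] [IsScalarTower F L V]

/-- the restriction of an `F`-linear automorphism to a stable `L`-subspace -/
def resEquiv (Y : Submodule L V) (h : V ≃ₗ[F] V) (h1 : ∀ x ∈ Y, h x ∈ Y)
    (h2 : ∀ x ∈ Y, h.symm x ∈ Y) : ↥Y ≃ₗ[F] ↥Y where
  toFun x := ⟨h x, h1 x x.2⟩
  invFun x := ⟨h.symm x, h2 x x.2⟩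
  map_add' x y := by
    apply Subtype.ext
    simp
  map_smul' c x := by
    apply Subtype.ext
    simp
  left_inv x := by
    apply Subtype.ext
    simp
  right_inv x := by
    apply Subtype.ext
    simp

@[simp] theorem resEquiv_coe (Y : Submodule L V) (h : V ≃ₗ[F] V) (h1 : ∀ x ∈ Y, h x ∈ Y)
    (h2 : ∀ x ∈ Y, h.symm x ∈ Y) (x : ↥Y) : ((resEquiv Y h h1 h2 x : ↥Y) : V) = h x := rfl

/-- the group induced by the stabiliser of `Y` in `H` on `Y` -/
def Limg (H : Subgroup (V ≃ₗ[F] V)) (Y : Submodule L V) : Subgroup (↥Y ≃ₗ[F] ↥Y) where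
  carrier := {e | ∃ h ∈ H, ∀ x : ↥Y, h (x : V) = ((e x : ↥Y) : V)}
  mul_mem' := by
    rintro a b ⟨ha, hha, hax⟩ ⟨hb, hhb, hbx⟩
    refine ⟨ha * hb, H.mul_mem hha hhb, fun x => ?_⟩
    rw [LinearEquiv.mul_apply, LinearEquiv.mul_apply, hbx, hax]
  one_mem' := ⟨1, H.one_mem, fun x => rfl⟩
  inv_mem' := by
    rintro a ⟨ha, hha, hax⟩
    refine ⟨ha⁻¹, H.inv_mem hha, fun x => ?_⟩
    rw [LinearEquiv.coe_inv, LinearEquiv.symm_apply_eq, hax, LinearEquiv.coe_inv,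
      a.apply_symm_apply]

theorem mem_Limg {H : Subgroup (V ≃ₗ[F] V)} {Y : Submodule L V} {e : ↥Y ≃ₗ[F] ↥Y} :
    e ∈ Limg H Y ↔ ∃ h ∈ H, ∀ x : ↥Y, h (x : V) = ((e x : ↥Y) : V) := Iff.rfl

theorem symm_mem_of_forall_mem [FiniteDimensional F V] (Y : Submodule L V) (h : V ≃ₗ[F] V)
    (h1 : ∀ x ∈ Y, h x ∈ Y) : ∀ x ∈ Y, h.symm x ∈ Y := by
  have hle : (Y.restrictScalars F).map (h : V →ₗ[F] V) ≤ Y.restrictScalars F := by
    rintro _ ⟨x, hx, rfl⟩
    exact h1 x hx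
  have heq : (Y.restrictScalars F).map (h : V →ₗ[F] V) = Y.restrictScalars F := by
    apply Submodule.eq_of_le_of_finrank_eq hle
    rw [LinearEquiv.finrank_map_eq]
  intro x hx
  have hx' : x ∈ (Y.restrictScalars F).map (h : V →ₗ[F] V) := by
    rw [heq]
    exact hx
  obtain ⟨y, hy, rfl⟩ := hx'
  rw [LinearEquiv.coe_coe, h.symm_apply_apply]
  exact hy

end Img

section Alg

variable {L : Type*} [Field L]

/-- three multiplicative maps `τ₁, τ₂, τ₃` with `τ₃ - 1 = (τ₁ - 1) + (τ₂ - 1)` -/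
theorem delta_algebra (τ1 τ2 τ3 : L → L) (m1 : ∀ a b, τ1 (a * b) = τ1 a * τ1 b)
    (m2 : ∀ a b, τ2 (a * b) = τ2 a * τ2 b) (m3 : ∀ a b, τ3 (a * b) = τ3 a * τ3 b)
    (hadd : ∀ a, τ3 a = τ1 a + τ2 a - a) (a0 : L) (hp : τ1 a0 ≠ a0) (hq : τ2 a0 ≠ a0)
    (hpq : τ1 a0 ≠ τ2 a0) : False := by
  have e1 : τ3 a0 * τ3 a0 = τ1 a0 * τ1 a0 + τ2 a0 * τ2 a0 - a0 * a0 := by
    rw [← m3, hadd, m1, m2]
  rw [hadd] at e1
  have h2pq : (2 : L) * ((τ1 a0 - a0) * (τ2 a0 - a0)) = 0 := by linear_combination e1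
  have h2 : (2 : L) = 0 := by
    rcases mul_eq_zero.mp h2pq with h | h
    · exact h
    · rcases mul_eq_zero.mp h with h | h
      · exact absurd (sub_eq_zero.mp h) hp
      · exact absurd (sub_eq_zero.mp h) hq
  have e2 : τ3 a0 * (τ3 a0 * τ3 a0) =
      τ1 a0 * (τ1 a0 * τ1 a0) + τ2 a0 * (τ2 a0 * τ2 a0) - a0 * (a0 * a0) := by
    rw [← m3, ← m3, hadd, m1, m1, m2, m2]
  rw [hadd] at e2
  have h3 : (τ1 a0 - a0) * (τ2 a0 - a0) * ((τ1 a0 - a0) + (τ2 a0 - a0)) = 0 := by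
    linear_combination e2 - ((τ1 a0 - a0) * (τ2 a0 - a0) * ((τ1 a0 - a0) + (τ2 a0 - a0)) +
      3 * a0 * (τ1 a0 - a0) * (τ2 a0 - a0)) * h2
  have h4 : (τ1 a0 - a0) + (τ2 a0 - a0) = 0 := by
    rcases mul_eq_zero.mp h3 with h | h
    · rcases mul_eq_zero.mp h with h | h
      · exact absurd (sub_eq_zero.mp h) hp
      · exact absurd (sub_eq_zero.mp h) hq
    · exact h
  apply hpq
  linear_combination h4 - (τ2 a0 - a0) * h2

end Alg

section Misc

variable {F L : Type*} [Field F] [Field L] [Algebra F L]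

theorem exists_not_algebraMap [FiniteDimensional F L] (hr : 2 ≤ finrank F L) :
    ∃ κ : L, κ ∉ Set.range (algebraMap F L) := by
  by_contra hcon
  push Not at hcon
  have h1 : (⊥ : Subalgebra F L) = ⊤ := by
    rw [eq_top_iff]
    intro x _
    rw [Algebra.mem_bot]
    exact hcon x
  rw [Subalgebra.bot_eq_top_iff_finrank_eq_one] at h1
  omega

/-- a nonzero element of the kernel of `f0` -/
theorem exists_ker_f0 [FiniteDimensional F L] (hr : 2 ≤ finrank F L) (f0 : L →ₗ[F] F) :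
    ∃ ξ : L, ξ ≠ 0 ∧ f0 ξ = 0 := by
  obtain ⟨κ, hκ⟩ := exists_not_algebraMap (F := F) (L := L) hr
  by_cases h1 : f0 1 = 0
  · exact ⟨1, one_ne_zero, h1⟩
  · refine ⟨f0 κ • (1 : L) - f0 1 • κ, ?_, ?_⟩
    · intro h
      apply hκ
      refine ⟨f0 κ / f0 1, ?_⟩
      have h3 : f0 1 • κ = f0 κ • (1 : L) := (sub_eq_zero.mp h).symm
      rw [Algebra.algebraMap_eq_smul_one, div_eq_mul_inv, mul_comm, mul_smul, ← h3, smul_smul,
        inv_mul_cancel₀ h1, one_smul]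
    · rw [map_sub, map_smul, map_smul, smul_eq_mul, smul_eq_mul, mul_comm]
      exact sub_self _

end Misc

end Cfsg.Agent.Lib.Helper3.XS
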