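import Mathlib
import Cfsg.Agent.Lib.Helper3.XSBasic

/-!
# Lemma T' (S5664): one `F`-transvection in an overgroup of `Sp_L` gives everything
-/

set_option autoImplicit false
set_option maxHeartbeats 4000000
set_option maxRecDepth 100000
set_option linter.unusedVariables false
set_option linter.unusedSectionVars false
set_option linter.style.longLine false
set_option linter.style.haveILetI false
set_option linter.deprecated false

namespace Cfsg.Agent.Lib.Helper3.XS

open Module Cfsg.Agent.Lib.Helper3.XF Cfsg.Agent.Lib.Helper2.Mcl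

section LemmaT

variable {F L V : Type*} [Field F] [Field L] [Algebra F L] [Finite L] [FiniteDimensional F L]
  [AddCommGroup V] [Module F V] [Module L V] [IsScalarTower F L V] [FiniteDimensional L V]
  [FiniteDimensional F V]
  {B : V →ₗ[L] V →ₗ[L] L} {f0 : L →ₗ[F] F} {H : Subgroup (V ≃ₗ[F] V)}

omit [Finite L] [FiniteDimensional F L] [FiniteDimensional L V] [FiniteDimensional F V] in
theorem ff_alt (halt : ∀ x, B x x = 0) (u : V) : ff B f0 u u = 0 := by
  rw [ff_apply, halt, map_zero]

omit [Finite L] [FiniteDimensional F L] [FiniteDimensional L V] [FiniteDimensional F V] in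
theorem ff_nd (hf0 : f0 ≠ 0) (hnd : ∀ x, (∀ y, B x y = 0) → x = 0) (x : V)
    (h : ∀ y, ff B f0 x y = 0) : x = 0 := by
  apply hnd
  intro y
  apply B_eq_of_f0 hf0
  intro l
  have := h (l • y)
  rw [ff_apply, map_smul, smul_eq_mul] at this
  rw [this, mul_zero, map_zero]

omit [Finite L] [FiniteDimensional F L] [FiniteDimensional F V] in
theorem Cfg.NF_move (hC : Cfg B f0 H) {u u' : V} (hu : u ≠ 0) (hu' : u' ≠ 0) {c : F}
    (h : In H (NF B f0 u c)) : In H (NF B f0 u' c) := by
  obtain ⟨g, hg, hgu⟩ := witt0 hC.alt hC.nd u u' hu hu'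
  refine In.conj h (hC.M0 g hg) ?_
  intro x
  show (c * f0 (B u' x)) • u' = g ((c * f0 (B u (g.symm x))) • u)
  have hB : B u (g.symm x) = B u' x := by
    rw [← hg u (g.symm x), g.apply_symm_apply, hgu]
  rw [hB, ← algebraMap_smul L (c * f0 (B u' x)) u, map_smul, algebraMap_smul, hgu]

/-- the set of coefficients of transvections in `H` -/
def TT (B : V →ₗ[L] V →ₗ[L] L) (f0 : L →ₗ[F] F) (H : Subgroup (V ≃ₗ[F] V)) (c : F) : Prop :=
  ∀ u : V, u ≠ 0 → In H (NF B f0 u c)

omit [Finite L] [FiniteDimensional F L] [FiniteDimensional L V] [FiniteDimensional F V] in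
theorem NF_NF (halt : ∀ x, B x x = 0) (u : V) (c c' : F) (x : V) :
    NF B f0 u c (NF B f0 u c' x) = 0 := by
  rw [NF_apply, NF_apply, B_smulF_right, halt, smul_zero, map_zero, mul_zero, zero_smul]

omit [Finite L] [FiniteDimensional F L] [FiniteDimensional L V] [FiniteDimensional F V] in
theorem TT.zero : TT B f0 H 0 := by
  intro u _
  refine (In.zero H).congr ?_
  intro x
  rw [NF_apply, zero_mul, zero_smul]
  rfl

omit [Finite L] [FiniteDimensional F L] [FiniteDimensional L V] [FiniteDimensional F V] in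
theorem TT.add (halt : ∀ x, B x x = 0) {c c' : F} (h : TT B f0 H c) (h' : TT B f0 H c') :
    TT B f0 H (c + c') := by
  intro u hu
  refine ((h u hu).add (h' u hu) (NF_NF halt u c c')).congr ?_
  intro x
  rw [LinearMap.add_apply, NF_apply, NF_apply, NF_apply, add_mul, add_smul]

omit [Finite L] [FiniteDimensional F L] [FiniteDimensional L V] [FiniteDimensional F V] in
theorem TT.neg (halt : ∀ x, B x x = 0) {c : F} (h : TT B f0 H c) : TT B f0 H (-c) := by
  intro u hu
  refine ((h u hu).neg (NF_NF halt u c c)).congr ?_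
  intro x
  rw [LinearMap.neg_apply, NF_apply, NF_apply, neg_mul, neg_smul]

omit [Finite L] [FiniteDimensional F L] [FiniteDimensional L V] [FiniteDimensional F V] in
theorem TT.sq {c : F} (h : TT B f0 H c) (a : F) : TT B f0 H (a * a * c) := by
  by_cases ha : a = 0
  · rw [ha, zero_mul, zero_mul]
    exact TT.zero
  intro u hu
  have hau : a • u ≠ 0 := smul_ne_zero ha hu
  refine (h (a • u) hau).congr ?_
  intro x
  rw [NF_apply, NF_apply, B_smulF_left, map_smul, smul_eq_mul, smul_smul]
  congr 1
  ring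

theorem TT.all (halt : ∀ x, B x x = 0) {c0 : F} (hc0 : c0 ≠ 0) (h : TT B f0 H c0) (c : F) :
    TT B f0 H c := by
  haveI hFfin : Finite F := Finite.of_injective _ (algebraMap F L).injective
  have key : ∀ x : F, TT B f0 H (x * c0) := by
    intro x
    by_cases h2 : ringChar F = 2
    · obtain ⟨a, ha⟩ := FiniteField.isSquare_of_char_two h2 x
      rw [ha]
      exact h.sq a
    · have h20 : (2 : F) ≠ 0 := Ring.two_ne_zero h2
      have e : x * c0 = ((x + 1) / 2) * ((x + 1) / 2) * c0 + -(((x - 1) / 2) * ((x - 1) / 2) * c0) := by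
        field_simp
        ring
      rw [e]
      exact (h.sq _).add halt ((h.sq _).neg halt)
  have := key (c / c0)
  rwa [div_mul_cancel₀ c hc0] at this

/-- **Lemma T'.** -/
theorem Cfg.lemmaT (hC : Cfg B f0 H) {u0 : V} (hu0 : u0 ≠ 0) {c0 : F} (hc0 : c0 ≠ 0)
    (h : In H (NF B f0 u0 c0)) (e : V ≃ₗ[F] V)
    (he : ∀ u v, f0 (B (e u) (e v)) = f0 (B u v)) : e ∈ H := by
  have hT0 : TT B f0 H c0 := fun u hu => hC.NF_move hu0 hu h
  have hall : ∀ c, TT B f0 H c := TT.all hC.alt hc0 hT0
  have halt' : ∀ x, ff B f0 x x = 0 := ff_alt hC.alt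
  have hnd' : ∀ x, (∀ y, ff B f0 x y = 0) → x = 0 := ff_nd hC.f0ne hC.nd
  have hmem := sp_gen' (ff B f0) halt' hnd' e he
  have hcl : Subgroup.closure (spT (ff B f0) halt') ≤ H := by
    rw [Subgroup.closure_le]
    rintro t ⟨u, c, rfl⟩
    by_cases hu : u = 0
    · have : LinearEquiv.transvection (spT_inc (ff B f0) halt' u c) = 1 := by
        ext x
        rw [spT_apply (ff B f0) halt', hu, smul_zero, add_zero]
        rfl
      rw [this]
      exact H.one_mem
    · obtain ⟨e', he', hex⟩ := hall c u hu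
      have : e' = LinearEquiv.transvection (spT_inc (ff B f0) halt' u c) := by
        ext x
        rw [hex, spT_apply (ff B f0) halt']
        rfl
      rw [← this]
      exact he'
  exact hcl hmem

end LemmaT

end Cfsg.Agent.Lib.Helper3.XS
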