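import Mathlib
import Cfsg.Agent.Lib.Helper3.XSPairs
import Cfsg.Agent.Lib.Helper3.XST
import Cfsg.Agent.Lib.Helper3.XSImg
import Cfsg.Agent.Lib.Helper3.XSCaseB

/-!
# The case `(q, r) = (2, 2)` (S5664)
-/

set_option autoImplicit false
set_option maxHeartbeats 4000000
set_option maxRecDepth 100000
set_option linter.unusedVariables false
set_option linter.unusedSectionVars false
set_option linter.style.longLine false
set_option linter.style.haveILetI false
set_option linter.deprecated false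

namespace Cfsg.Agent.Lib.Helper3.XS

open Module Cfsg.Agent.Lib.Helper3.XF Cfsg.Agent.Lib.Helper2.Mcl

section TwoTwo

variable {F L V : Type*} [Field F] [Field L] [Algebra F L] [Finite L] [FiniteDimensional F L]
  [AddCommGroup V] [Module F V] [Module L V] [IsScalarTower F L V] [FiniteDimensional L V]
  [FiniteDimensional F V]
  {B : V →ₗ[L] V →ₗ[L] L} {f0 : L →ₗ[F] F} {H : Subgroup (V ≃ₗ[F] V)}

omit [Finite L] [FiniteDimensional F L] [FiniteDimensional F V] in
/-- Witt's lemma for pairs `(v, y)` with `y ∉ L v`. -/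
theorem witt2 (halt : ∀ x, B x x = 0) (hnd : ∀ x, (∀ y, B x y = 0) → x = 0)
    {v y v' y' : V} (hv : v ≠ 0) (hv' : v' ≠ 0) (hy : y ∉ Submodule.span L {v})
    (hy' : y' ∉ Submodule.span L {v'}) (hB : B v y = B v' y') :
    ∃ g : V ≃ₗ[L] V, (∀ a b, B (g a) (g b) = B a b) ∧ g v = v' ∧ g y = y' := by
  obtain ⟨g1, hg1, hg1v⟩ := witt0 halt hnd v v' hv hv'
  have hB' : B v' (g1 y) = B v' y' := by
    rw [← hB, ← hg1v, hg1]
  have hn1 : g1 y ∉ Submodule.span L {v'} := by
    intro h
    obtain ⟨c, hc⟩ := Submodule.mem_span_singleton.mp h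
    apply hy
    rw [Submodule.mem_span_singleton]
    refine ⟨c, g1.injective ?_⟩
    rw [map_smul, hg1v, hc]
  obtain ⟨g2, hg2, hg2v, hg2y⟩ := witt1 halt hnd v' (g1 y) y' hB' hn1 hy'
  refine ⟨g2 * g1, fun a b => ?_, ?_, ?_⟩
  · rw [LinearEquiv.mul_apply, LinearEquiv.mul_apply, hg2, hg1]
  · rw [LinearEquiv.mul_apply, hg1v, hg2v]
  · rw [LinearEquiv.mul_apply, hg2y]

omit [Finite L] [FiniteDimensional F L] in
theorem F01 (hq : Nat.card F = 2) (c : F) : c = 0 ∨ c = 1 := by
  obtain ⟨y, hy, huniq⟩ := (Nat.card_eq_two_iff' (0 : F)).mp hq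
  by_cases hc : c = 0
  · exact Or.inl hc
  · right
    rw [huniq c hc, huniq 1 one_ne_zero]

omit [Finite L] [FiniteDimensional F L] in
theorem two_eq_zero_F (hq : Nat.card F = 2) : (2 : F) = 0 := by
  rcases F01 hq (2 : F) with h | h
  · exact h
  · exfalso
    have h4 : (1 : F) = 0 := by linear_combination h
    exact one_ne_zero h4

/-- the `F`-transvection with coefficient `1` -/
def tv (B : V →ₗ[L] V →ₗ[L] L) (f0 : L →ₗ[F] F) (halt : ∀ x, B x x = 0) (u : V) : V ≃ₗ[F] V :=
  LinearEquiv.transvection (f := ff B f0 u) (v := u) (ff_alt halt u)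

omit [Finite L] [FiniteDimensional F L] [FiniteDimensional L V] [FiniteDimensional F V] in
theorem tv_apply (halt : ∀ x, B x x = 0) (u x : V) :
    tv B f0 halt u x = x + f0 (B u x) • u := rfl

omit [Finite L] [FiniteDimensional F L] [FiniteDimensional L V] [FiniteDimensional F V] in
theorem tv_sq (h2 : (2 : F) = 0) (halt : ∀ x, B x x = 0) (u : V) :
    tv B f0 halt u * tv B f0 halt u = 1 := by
  ext x
  rw [LinearEquiv.mul_apply, tv_apply, tv_apply, map_add, B_smulF_right, halt, smul_zero,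
    add_zero]
  show x + f0 (B u x) • u + f0 (B u x) • u = x
  linear_combination (norm := module) h2 • (f0 (B u x) • u)

omit [Finite L] [FiniteDimensional F L] [FiniteDimensional L V] [FiniteDimensional F V] in
theorem tv_inv (h2 : (2 : F) = 0) (halt : ∀ x, B x x = 0) (u : V) :
    (tv B f0 halt u)⁻¹ = tv B f0 halt u :=
  inv_eq_of_mul_eq_one_right (tv_sq h2 halt u)

omit [Finite L] [FiniteDimensional F L] [FiniteDimensional L V] [FiniteDimensional F V] in
theorem Cfg.tv_conj (hC : Cfg B f0 H) {g : V ≃ₗ[F] V} (hg : g ∈ H) (u : V) :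
    g * tv B f0 hC.alt u * g⁻¹ = tv B f0 hC.alt (g u) := by
  ext x
  rw [LinearEquiv.mul_apply, LinearEquiv.mul_apply, LinearEquiv.coe_inv, tv_apply, tv_apply,
    map_add, g.apply_symm_apply, map_smul, hC.symm_apply' hg]

/-- the relation `t_a t_c ∈ H` -/
def R22 (B : V →ₗ[L] V →ₗ[L] L) (f0 : L →ₗ[F] F) (halt : ∀ x, B x x = 0)
    (H : Subgroup (V ≃ₗ[F] V)) (a c : V) : Prop :=
  tv B f0 halt a * tv B f0 halt c ∈ H

omit [Finite L] [FiniteDimensional F L] [FiniteDimensional L V] [FiniteDimensional F V] in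
theorem R22.refl (h2 : (2 : F) = 0) (halt : ∀ x, B x x = 0) (a : V) : R22 B f0 halt H a a := by
  unfold R22
  rw [tv_sq h2]
  exact H.one_mem

omit [Finite L] [FiniteDimensional F L] [FiniteDimensional L V] [FiniteDimensional F V] in
theorem R22.symm (h2 : (2 : F) = 0) {halt : ∀ x, B x x = 0} {a c : V}
    (h : R22 B f0 halt H a c) : R22 B f0 halt H c a := by
  unfold R22 at h ⊢
  have := H.inv_mem h
  rwa [mul_inv_rev, tv_inv h2, tv_inv h2] at this

omit [Finite L] [FiniteDimensional F L] [FiniteDimensional L V] [FiniteDimensional F V] in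
theorem R22.trans (h2 : (2 : F) = 0) {halt : ∀ x, B x x = 0} {a b c : V}
    (h : R22 B f0 halt H a b) (h' : R22 B f0 halt H b c) : R22 B f0 halt H a c := by
  unfold R22 at h h' ⊢
  have := H.mul_mem h h'
  have e : tv B f0 halt a * tv B f0 halt b * (tv B f0 halt b * tv B f0 halt c) =
      tv B f0 halt a * tv B f0 halt c := by
    rw [mul_assoc, ← mul_assoc (tv B f0 halt b), tv_sq h2, one_mul]
  rwa [e] at this

omit [Finite L] [FiniteDimensional F L] [FiniteDimensional L V] [FiniteDimensional F V] in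
theorem Cfg.R22_map (hC : Cfg B f0 H) {g : V ≃ₗ[F] V} (hg : g ∈ H) {a c : V}
    (h : R22 B f0 hC.alt H a c) : R22 B f0 hC.alt H (g a) (g c) := by
  unfold R22 at h ⊢
  have := H.mul_mem (H.mul_mem hg h) (H.inv_mem hg)
  have e : g * (tv B f0 hC.alt a * tv B f0 hC.alt c) * g⁻¹ =
      (g * tv B f0 hC.alt a * g⁻¹) * (g * tv B f0 hC.alt c * g⁻¹) := by group
  rwa [e, hC.tv_conj hg, hC.tv_conj hg] at this

omit [Finite L] [FiniteDimensional L V] [FiniteDimensional F V] in
/-- the points of an `L`-line are related -/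
theorem Cfg.R22_line (hC : Cfg B f0 H) (hq : Nat.card F = 2) (hr2 : finrank F L = 2)
    (v : V) {κ : L} (hκ : κ ∉ Set.range (algebraMap F L)) :
    R22 B f0 hC.alt H v (κ • v) := by
  have h2F := two_eq_zero_F hq
  have h2L : (2 : L) = 0 := two_eq_zero_of_card hq
  -- `1, κ` span `L`
  let T' : (F × F) →ₗ[F] L :=
    (LinearMap.fst F F F).smulRight (1 : L) + (LinearMap.snd F F F).smulRight κ
  have hT' : ∀ p : F × F, T' p = p.1 • (1 : L) + p.2 • κ := fun p => rfl
  have hinj : Function.Injective T' := by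
    rw [← LinearMap.ker_eq_bot, LinearMap.ker_eq_bot']
    rintro ⟨a, b⟩ hab
    rw [hT'] at hab
    simp only at hab
    have hb : b = 0 := by
      by_contra hb
      apply hκ
      refine ⟨-(a / b), ?_⟩
      have h3 : b • κ = -(a • (1 : L)) := by linear_combination (norm := module) hab
      have h4 : κ = b⁻¹ • (b • κ) := by rw [smul_smul, inv_mul_cancel₀ hb, one_smul]
      rw [h4, h3, Algebra.algebraMap_eq_smul_one, smul_neg, smul_smul, neg_smul]
      congr 2
      field_simp
    rw [hb, zero_smul, add_zero] at hab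
    have ha : a = 0 := by
      rcases smul_eq_zero.mp hab with h | h
      · exact h
      · exact absurd h one_ne_zero
    rw [ha, hb]
    rfl
  have hsurj : Function.Surjective T' := by
    apply (LinearMap.injective_iff_surjective_of_finrank_eq_finrank ?_).mp hinj
    rw [Module.finrank_prod, Module.finrank_self, hr2]
  have hκ0 : κ ≠ 0 := by
    rintro rfl
    exact hκ ⟨0, map_zero _⟩
  have hκ1 : κ ≠ 1 := by
    rintro rfl
    exact hκ ⟨1, map_one _⟩
  have hκκ : κ * κ = 1 + κ := by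
    obtain ⟨⟨a, b⟩, hab⟩ := hsurj (κ * κ)
    rw [hT'] at hab
    simp only at hab
    rcases F01 hq a with rfl | rfl <;> rcases F01 hq b with rfl | rfl
    · exfalso
      rw [zero_smul, zero_smul, add_zero] at hab
      rcases mul_eq_zero.mp hab.symm with h | h <;> exact hκ0 h
    · exfalso
      rw [zero_smul, zero_add, one_smul] at hab
      have h3 : κ * (κ - 1) = 0 := by rw [mul_sub, mul_one, ← hab, sub_self]
      rcases mul_eq_zero.mp h3 with h | h
      · exact hκ0 h
      · exact hκ1 (sub_eq_zero.mp h)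
    · exfalso
      rw [zero_smul, add_zero, one_smul] at hab
      have h3 : (κ + 1) * (κ + 1) = 0 := by
        have : (κ + 1) * (κ + 1) = κ * κ + 1 + 2 * κ := by ring
        rw [this, ← hab, h2L, zero_mul, add_zero]
        have : (1 : L) + 1 = 2 := by norm_num
        rw [this, h2L]
      have h4 : κ + 1 = 0 := by
        rcases mul_eq_zero.mp h3 with h | h <;> exact h
      apply hκ1
      have : κ = -1 := by linear_combination h4
      rw [this]
      linear_combination -h2L
    · rw [one_smul, one_smul] at hab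
      exact hab.symm
  obtain ⟨lam, hlam⟩ : ∃ lam : L, lam = f0 1 • (1 : L) + f0 κ • κ := ⟨_, rfl⟩
  have hid1 : lam * 1 = f0 1 • (1 : L) + f0 (κ * 1) • κ := by
    rw [mul_one, mul_one, hlam]
  have hidκ : lam * κ = f0 κ • (1 : L) + f0 (κ * κ) • κ := by
    rw [hlam, add_mul, smul_mul_assoc, smul_mul_assoc, one_mul, hκκ, map_add]
    module
  have hid : ∀ z : L, lam * z = f0 z • (1 : L) + f0 (κ * z) • κ := by
    intro z
    obtain ⟨⟨a, b⟩, hab⟩ := hsurj z
    rw [hT'] at hab
    simp only at hab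
    rw [← hab, mul_add, mul_smul_comm, mul_smul_comm, hid1, hidκ, mul_add, mul_smul_comm,
      mul_smul_comm, map_add, map_add, map_smul, map_smul, map_smul, map_smul, mul_one]
    simp only [smul_eq_mul]
    module
  obtain ⟨e, he, hex⟩ := hC.in_NL v lam
  have heq : tv B f0 hC.alt v * tv B f0 hC.alt (κ • v) = e := by
    ext x
    rw [LinearEquiv.mul_apply, tv_apply, tv_apply, hex, NL_apply, hid, map_add, B_smulF_right]
    have e1 : B v (κ • v) = 0 := by rw [map_smul, hC.alt, smul_zero]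
    have e2 : B (κ • v) x = κ * B v x := by
      rw [map_smul, LinearMap.smul_apply, smul_eq_mul]
    rw [e1, smul_zero, add_zero, e2, add_smul, smul_assoc, one_smul, smul_assoc]
    abel
  unfold R22
  rw [heq]
  exact he

omit [Finite L] [FiniteDimensional L V] [FiniteDimensional F V] in
theorem Cfg.R22_line' (hC : Cfg B f0 H) (hq : Nat.card F = 2) (hr2 : finrank F L = 2)
    (v : V) {κ : L} (hκ0 : κ ≠ 0) : R22 B f0 hC.alt H v (κ • v) := by
  by_cases hκ : κ ∈ Set.range (algebraMap F L)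
  · obtain ⟨c, rfl⟩ := hκ
    rcases F01 hq c with rfl | rfl
    · exact absurd (map_zero _) hκ0
    · rw [map_one, one_smul]
      exact R22.refl (two_eq_zero_F hq) hC.alt v
  · exact hC.R22_line hq hr2 v hκ

omit [Finite L] [FiniteDimensional F L] [FiniteDimensional L V] [FiniteDimensional F V] in
/-- a product of two commuting transvections -/
theorem in_pair (halt : ∀ x, B x x = 0) {x x' : V} (hxx' : B x x' = 0)
    (h : R22 B f0 halt H x x') : In H (NF B f0 x 1 + NF B f0 x' 1) := by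
  refine ⟨_, h, fun z => ?_⟩
  rw [LinearEquiv.mul_apply, tv_apply, tv_apply, map_add, B_smulF_right, hxx', smul_zero,
    add_zero, LinearMap.add_apply, NF_apply, NF_apply, one_mul, one_mul]
  abel

theorem Cfg.case22 (hC : Cfg B f0 H) (hq : Nat.card F = 2) (hr2 : finrank F L = 2)
    (hk : 3 ≤ finrank L V) (hnle : ¬ H ≤ Nrm F L V) :
    ∃ u : V, u ≠ 0 ∧ ∃ c : F, c ≠ 0 ∧ In H (NF B f0 u c) := by
  classical
  have h2F := two_eq_zero_F hq
  have h2L : (2 : L) = 0 := two_eq_zero_of_card hq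
  obtain ⟨g, hg, w, hw, hne⟩ := hC.exists_nonpoint (by omega) hnle
  have hgw : g w ≠ 0 := by
    intro h
    apply hw
    exact g.injective (by rw [h, map_zero])
  obtain ⟨κ, hκ⟩ : ∃ κ : L, g (κ • w) ∉ LP F L (g w) := by
    by_contra hcon
    push Not at hcon
    apply hne
    apply Submodule.eq_of_le_of_finrank_eq
    · intro x hx
      obtain ⟨κ, rfl⟩ := mem_map_LP.mp hx
      exact hcon κ
    · rw [LinearEquiv.finrank_map_eq, finrank_LP hw, finrank_LP hgw]
  have hκ0 : κ ≠ 0 := by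
    rintro rfl
    apply hκ
    rw [zero_smul, map_zero]
    exact Submodule.zero_mem _
  obtain ⟨v, hvdef⟩ : ∃ v : V, v = g w := ⟨_, rfl⟩
  obtain ⟨y, hydef⟩ : ∃ y : V, y = g (κ • w) := ⟨_, rfl⟩
  have hv : v ≠ 0 := by rw [hvdef]; exact hgw
  have hvy : R22 B f0 hC.alt H v y := by
    rw [hvdef, hydef]
    exact hC.R22_map hg (hC.R22_line' hq hr2 w hκ0)
  have hy : y ∉ Submodule.span L {v} := by
    rw [hvdef, hydef]
    exact fun h => hκ h
  obtain ⟨z0, hz0def⟩ : ∃ z0 : L, z0 = B v y := ⟨_, rfl⟩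
  have hP : ∀ v' y' : V, v' ≠ 0 → y' ∉ Submodule.span L {v'} → B v' y' = z0 →
      R22 B f0 hC.alt H v' y' := by
    intro v' y' hv' hy' hB
    obtain ⟨g', hg', hg'v, hg'y⟩ := witt2 hC.alt hC.nd hv hv' hy hy' (by rw [hB, hz0def])
    have h1 := hC.R22_map (hC.M0 g' hg') hvy
    have e1 : (g'.restrictScalars F) v = v' := hg'v
    have e2 : (g'.restrictScalars F) y = y' := hg'y
    rwa [e1, e2] at h1
  have hPall : ∀ v' x : V, v' ≠ 0 → x ≠ 0 → B v' x = 0 → R22 B f0 hC.alt H v' x := by
    intro v' x hv' hx hB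
    by_cases hxs : x ∈ Submodule.span L {v'}
    · obtain ⟨c, rfl⟩ := Submodule.mem_span_singleton.mp hxs
      have hc0 : c ≠ 0 := by
        rintro rfl
        exact hx (zero_smul _ _)
      exact hC.R22_line' hq hr2 v' hc0
    · by_cases hz0 : z0 = 0
      · exact hP v' x hv' hxs (by rw [hB, hz0])
      · obtain ⟨φ, hφv, hφx⟩ := exists_fun_pair hv' hxs (-z0) (-z0)
        obtain ⟨y', hy'⟩ := bil_surj B hC.nd φ
        have h1 : B v' y' = z0 := by rw [skewB hC.alt, hy', hφv, neg_neg]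
        have h2 : B x y' = z0 := by rw [skewB hC.alt, hy', hφx, neg_neg]
        have hy'1 : y' ∉ Submodule.span L {v'} := by
          intro h
          obtain ⟨c, rfl⟩ := Submodule.mem_span_singleton.mp h
          rw [map_smul, hC.alt, smul_zero] at h1
          exact hz0 h1.symm
        have hy'2 : y' ∉ Submodule.span L {x} := by
          intro h
          obtain ⟨c, rfl⟩ := Submodule.mem_span_singleton.mp h
          rw [map_smul, hC.alt, smul_zero] at h2
          exact hz0 h2.symm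
        exact (hP v' y' hv' hy'1 h1).trans h2F ((hP x y' hx hy'2 h2).symm h2F)
  have hRall : ∀ a c : V, a ≠ 0 → c ≠ 0 → R22 B f0 hC.alt H a c := by
    intro a c ha hc
    let Φ : V →ₗ[L] L × L := (B a).prod (B c)
    have hker : LinearMap.ker Φ ≠ ⊥ := by
      apply LinearMap.ker_ne_bot_of_finrank_lt
      rw [Module.finrank_prod, Module.finrank_self]
      omega
    obtain ⟨u, hu, hu0⟩ := (Submodule.ne_bot_iff _).mp hker
    have hΦ : Φ u = 0 := LinearMap.mem_ker.mp hu
    have h1 : B a u = 0 := congrArg Prod.fst hΦ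
    have h2 : B c u = 0 := congrArg Prod.snd hΦ
    exact (hPall a u ha hu0 h1).trans h2F ((hPall c u hc hu0 h2).symm h2F)
  -- the final configuration
  haveI : Nontrivial V := Module.nontrivial_of_finrank_pos (R := L) (by omega)
  obtain ⟨a, ha⟩ := exists_ne (0 : V)
  obtain ⟨κ1, hκ1⟩ := exists_not_algebraMap (F := F) (L := L) (by omega)
  have hκ10 : κ1 ≠ 0 := by
    rintro rfl
    exact hκ1 ⟨0, map_zero _⟩
  have hκ11 : 1 + κ1 ≠ 0 := by
    intro h
    apply hκ1
    refine ⟨1, ?_⟩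
    rw [map_one]
    linear_combination -h + h2L
  obtain ⟨φ, hφ⟩ := exists_fun_one ha (1 : L)
  obtain ⟨c, hc0, hac, hφc⟩ : ∃ c : V, c ≠ 0 ∧ B a c = 0 ∧ φ c = 0 := by
    let Φ : V →ₗ[L] L × L := (B a).prod φ
    have hker : LinearMap.ker Φ ≠ ⊥ := by
      apply LinearMap.ker_ne_bot_of_finrank_lt
      rw [Module.finrank_prod, Module.finrank_self]
      omega
    obtain ⟨u, hu, hu0⟩ := (Submodule.ne_bot_iff _).mp hker
    have hΦ : Φ u = 0 := LinearMap.mem_ker.mp hu
    exact ⟨u, hu0, congrArg Prod.fst hΦ, congrArg Prod.snd hΦ⟩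
  have hcspan : ∀ l : L, c ≠ l • a := by
    intro l h
    rw [h, map_smul, hφ, smul_eq_mul, mul_one] at hφc
    rw [hφc, zero_smul] at h
    exact hc0 h
  obtain ⟨b, hb⟩ : ∃ b : V, b = κ1 • a := ⟨_, rfl⟩
  have hb0 : b ≠ 0 := by rw [hb]; exact smul_ne_zero hκ10 ha
  -- everything lives in the totally isotropic `L`-plane `Y`
  let Y : Submodule L V := Submodule.span L {a, c}
  have haY : a ∈ Y := Submodule.subset_span (by simp)
  have hcY : c ∈ Y := Submodule.subset_span (by simp)
  have hbY : b ∈ Y := by rw [hb]; exact Y.smul_mem κ1 haY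
  have hca : B c a = 0 := by rw [skewB hC.alt, hac, neg_zero]
  have hYti : ∀ x ∈ Y, ∀ x' ∈ Y, B x x' = 0 := by
    intro x hx x' hx'
    obtain ⟨s, t, rfl⟩ := Submodule.mem_span_pair.mp hx
    obtain ⟨s', t', rfl⟩ := Submodule.mem_span_pair.mp hx'
    simp only [map_add, map_smul, LinearMap.add_apply, LinearMap.smul_apply, hC.alt, hac, hca,
      smul_zero, add_zero]
  have hab0 : a + b ≠ 0 := by
    rw [hb]
    intro h
    have : (1 + κ1) • a = 0 := by rw [add_smul, one_smul, h]
    exact smul_ne_zero hκ11 ha this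
  have hac0 : a + c ≠ 0 := by
    intro h
    apply hcspan (-1)
    rw [neg_smul, one_smul]
    exact eq_neg_of_add_eq_zero_right h
  have hbc0 : b + c ≠ 0 := by
    intro h
    apply hcspan (-κ1)
    rw [neg_smul, ← hb]
    exact eq_neg_of_add_eq_zero_right h
  have habc0 : a + b + c ≠ 0 := by
    intro h
    apply hcspan (-(1 + κ1))
    rw [neg_smul, add_smul, one_smul, ← hb]
    exact eq_neg_of_add_eq_zero_right h
  have hpair : ∀ x ∈ Y, ∀ x' ∈ Y, x ≠ 0 → x' ≠ 0 → In H (NF B f0 x 1 + NF B f0 x' 1) :=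
    fun x hx x' hx' hx0 hx'0 => in_pair hC.alt (hYti x hx x' hx') (hRall x x' hx0 hx'0)
  have hNFY : ∀ x ∈ Y, ∀ y ∈ Y, ∀ t : F, NF B f0 x t y = 0 := by
    intro x hx y hy t
    rw [NF_apply, hYti x hx y hy, map_zero, mul_zero, zero_smul]
  have hNFmem : ∀ x ∈ Y, ∀ (t : F) (z : V), NF B f0 x t z ∈ Y := by
    intro x hx t z
    rw [NF_apply, ← algebraMap_smul L]
    exact Y.smul_mem _ hx
  have habY : a + b ∈ Y := Y.add_mem haY hbY
  have hacY : a + c ∈ Y := Y.add_mem haY hcY
  have hbcY : b + c ∈ Y := Y.add_mem hbY hcY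
  have habcY : a + b + c ∈ Y := Y.add_mem habY hcY
  have p1 := hpair b hbY c hcY hb0 hc0
  have p2 := hpair (a + b) habY (a + c) hacY hab0 hac0
  have p3 := hpair (b + c) hbcY (a + b + c) habcY hbc0 habc0
  have hvan : ∀ x ∈ Y, ∀ x' ∈ Y, ∀ y ∈ Y, (NF B f0 x 1 + NF B f0 x' 1) y = 0 := by
    intro x hx x' hx' y hy
    rw [LinearMap.add_apply, hNFY x hx y hy, hNFY x' hx' y hy, add_zero]
  have hmemY : ∀ x ∈ Y, ∀ x' ∈ Y, ∀ z : V, (NF B f0 x 1 + NF B f0 x' 1) z ∈ Y := by
    intro x hx x' hx' z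
    rw [LinearMap.add_apply]
    exact Y.add_mem (hNFmem x hx 1 z) (hNFmem x' hx' 1 z)
  have p12 := p1.add p2 (fun z => hvan b hbY c hcY _ (hmemY _ habY _ hacY z))
  have p123 := p12.add p3 (fun z => by
    rw [LinearMap.add_apply, hvan b hbY c hcY _ (hmemY _ hbcY _ habcY z),
      hvan _ habY _ hacY _ (hmemY _ hbcY _ habcY z), add_zero])
  refine ⟨a, ha, 1, one_ne_zero, p123.congr ?_⟩
  intro z
  simp only [LinearMap.add_apply, NF_apply, one_mul, map_add]
  linear_combination (norm := module) h2F •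
    (-1 : F) • ((f0 (B a z) + f0 (B b z) + f0 (B c z)) • a +
      (2 * f0 (B b z) + f0 (B a z) + f0 (B c z)) • b +
      (2 * f0 (B c z) + f0 (B a z) + f0 (B b z)) • c)

end TwoTwo

end Cfsg.Agent.Lib.Helper3.XS
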