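import Mathlib
import Cfsg.Agent.Lib.Helper3.XSPairs
import Cfsg.Agent.Lib.Helper3.XSDelta
import Cfsg.Agent.Lib.Helper3.XSImg
import Cfsg.Agent.Lib.Helper3.XFCore2

/-!
# Case (a): the extremal pair is perpendicular (S5664)
-/

set_option autoImplicit false
set_option maxHeartbeats 4000000
set_option maxRecDepth 100000
set_option linter.unusedVariables false
set_option linter.unusedSectionVars false
set_option linter.style.longLine false
set_option linter.style.haveILetI false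
set_option linter.deprecated false

namespace Cfsg.Agent.Lib.Helper3.XS

open Module Cfsg.Agent.Lib.Helper3.XF Cfsg.Agent.Lib.Helper2.Mcl

section CaseA

variable {F L V : Type*} [Field F] [Field L] [Algebra F L] [Finite L] [FiniteDimensional F L]
  [AddCommGroup V] [Module F V] [Module L V] [IsScalarTower F L V] [FiniteDimensional L V]
  [FiniteDimensional F V]
  {B : V →ₗ[L] V →ₗ[L] L} {f0 : L →ₗ[F] F} {H : Subgroup (V ≃ₗ[F] V)}

theorem Cfg.caseA (hC : Cfg B f0 H) (hr : (finrank F L).Prime)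
    (h22 : ¬ (Nat.card F = 2 ∧ finrank F L = 2)) {d : ℕ}
    (hmax : ∀ Q ∈ Sig L H, ∀ Q' ∈ Sig L H, Q ≠ Q' → finrank F ↥(Q ⊓ Q') ≤ d)
    {h0 : V ≃ₗ[F] V} (hh0 : h0 ∈ H) {v v2 : V} (hv : v ≠ 0) (hv2 : v2 ≠ 0)
    (hne : (LP F L v).map (h0 : V →ₗ[F] V) ≠ LP F L v2)
    (hv2Q : v2 ∈ (LP F L v).map (h0 : V →ₗ[F] V))
    (hdim : finrank F ↥((LP F L v).map (h0 : V →ₗ[F] V) ⊓ LP F L v2) = d)
    (ha : ∀ y ∈ (LP F L v).map (h0 : V →ₗ[F] V), B v2 y = 0) :
    ∃ u : V, u ≠ 0 ∧ ∃ c : F, c ≠ 0 ∧ In H (NF B f0 u c) := by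
  classical
  set Q := (LP F L v).map (h0 : V →ₗ[F] V) with hQdef
  have hQS : Q ∈ Sig L H := ⟨h0, hh0, v, hv, rfl⟩
  have hQmem : ∀ x, x ∈ Q ↔ ∃ κ : L, h0 (κ • v) = x := fun x => mem_map_LP
  have hnle : ¬ Q ≤ LP F L v2 := by
    intro hle
    apply hne
    apply Submodule.eq_of_le_of_finrank_eq hle
    rw [finrank_LP hv2, finrank_of_mem_Sig hQS]
  obtain ⟨y, hyQ, hyP⟩ : ∃ y ∈ Q, y ∉ LP F L v2 := by
    by_contra hcon
    push Not at hcon
    exact hnle hcon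
  have hnge : ¬ LP F L v2 ≤ Q := by
    intro hle
    apply hne
    symm
    apply Submodule.eq_of_le_of_finrank_eq hle
    rw [finrank_LP hv2, finrank_of_mem_Sig hQS]
  have hv2y : B v2 y = 0 := ha y hyQ
  have hyv2 : B y v2 = 0 := by rw [skewB hC.alt, hv2y, neg_zero]
  have hyspan : y ∉ Submodule.span L {v2} := fun h => hyP h
  have hy0 : y ≠ 0 := by
    rintro rfl
    exact hyP (Submodule.zero_mem _)
  let Y : Submodule L V := Submodule.span L {v2, y}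
  have hv2Y : v2 ∈ Y := Submodule.subset_span (by simp)
  have hyY : y ∈ Y := Submodule.subset_span (by simp)
  -- (A2)
  have hQY : ∀ y3 ∈ Q, y3 ∈ Y := by
    intro y3 hy3
    by_contra hy3Y
    obtain ⟨φ, hφY, hφy3⟩ := exists_dual_sep Y hy3Y
    obtain ⟨w, hw⟩ := bil_surj B hC.nd φ
    have hwx : ∀ x, B w x = φ x := fun x => by rw [hw]
    have hv2w : B v2 w = 0 := by rw [skewB hC.alt, hwx, hφY v2 hv2Y, neg_zero]
    apply hnge
    intro x hx
    obtain ⟨κ, rfl⟩ := mem_LP.mp hx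
    have hv2κw : B v2 (κ • w) = 0 := by rw [map_smul, hv2w, smul_zero]
    obtain ⟨g, hg, hgx⟩ := exists_qw hC.alt v2 (κ • w) hv2κw
    have hgH := hC.M0 g hg
    have hgapp : ∀ x, B v2 x = 0 → (g.restrictScalars F) x = x + (κ * φ x) • v2 := by
      intro x hx
      show g x = _
      rw [hgx x hx, map_smul, LinearMap.smul_apply, hwx, smul_eq_mul]
    have hs1 : ∀ s ∈ Q ⊓ LP F L v2, (g.restrictScalars F) s ∈ Q := by
      intro s hs
      obtain ⟨l, hl⟩ := mem_LP.mp hs.2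
      have h1 : B v2 s = 0 := by rw [← hl, map_smul, hC.alt, smul_zero]
      have h2 : φ s = 0 := by rw [← hl, map_smul, hφY v2 hv2Y, smul_zero]
      rw [hgapp s h1, h2, mul_zero, zero_smul, add_zero]
      exact hs.1
    have hs2 : (g.restrictScalars F) y ∈ Q := by
      rw [hgapp y hv2y, hφY y hyY, mul_zero, zero_smul, add_zero]
      exact hyQ
    have key := stab_of_extra hmax hQS hdim hgH hs1 hyQ hyP hs2 y3 hy3
    rw [hgapp y3 (ha y3 hy3), hφy3, mul_one] at key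
    have := Q.sub_mem key hy3
    rwa [add_sub_cancel_left] at this
  -- (A3)
  have hYti : ∀ x ∈ Y, ∀ x' ∈ Y, B x x' = 0 := by
    intro x hx x' hx'
    obtain ⟨a, b, rfl⟩ := Submodule.mem_span_pair.mp hx
    obtain ⟨a', b', rfl⟩ := Submodule.mem_span_pair.mp hx'
    simp only [map_add, map_smul, LinearMap.add_apply, LinearMap.smul_apply, hC.alt, hv2y, hyv2,
      smul_zero, add_zero]
  have hperp : ∀ x ∈ Y, B v (h0.symm x) = 0 := by
    intro x hx
    apply B_eq_of_f0 hC.f0ne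
    intro l
    rw [mul_zero, map_zero]
    have e1 : l * B v (h0.symm x) = B (l • v) (h0.symm x) := by
      rw [map_smul, LinearMap.smul_apply, smul_eq_mul]
    rw [e1, hC.symm_apply' hh0, hYti _ (hQY _ ((hQmem _).mpr ⟨l, rfl⟩)) x hx, map_zero]
  -- (A4)
  have hq' : ∀ w1 : V, B v w1 = 0 →
      ∃ q ∈ H, ∀ x ∈ Y, q x = x + h0 (B w1 (h0.symm x) • v) := by
    intro w1 hw1
    obtain ⟨g1, hg1, hg1x⟩ := exists_qw hC.alt v w1 hw1
    refine ⟨h0 * g1.restrictScalars F * h0⁻¹,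
      H.mul_mem (H.mul_mem hh0 (hC.M0 g1 hg1)) (H.inv_mem hh0), fun x hx => ?_⟩
    rw [LinearEquiv.mul_apply, LinearEquiv.mul_apply, LinearEquiv.coe_inv]
    show h0 (g1 (h0.symm x)) = _
    rw [hg1x _ (hperp x hx), map_add, h0.apply_symm_apply]
  have hqY : ∀ (l : L) (x : V), x ∈ Y → x + h0 (l • v) ∈ Y := by
    intro l x hx
    exact Y.add_mem hx (hQY _ ((hQmem _).mpr ⟨_, rfl⟩))
  -- (A6)
  have hM0Y : ContainsM0 L (Limg H Y) := by
    intro gh _
    obtain ⟨v2', hv2'⟩ : ∃ v2' : V, v2' = ((gh ⟨v2, hv2Y⟩ : ↥Y) : V) := ⟨_, rfl⟩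
    obtain ⟨y', hy'⟩ : ∃ y' : V, y' = ((gh ⟨y, hyY⟩ : ↥Y) : V) := ⟨_, rfl⟩
    have hv2'Y : v2' ∈ Y := by rw [hv2']; exact (gh ⟨v2, hv2Y⟩).2
    have hy'Y : y' ∈ Y := by rw [hy']; exact (gh ⟨y, hyY⟩).2
    have hv2'0 : v2' ≠ 0 := by
      intro h
      rw [hv2'] at h
      have h3 : gh ⟨v2, hv2Y⟩ = 0 := Subtype.ext h
      rw [LinearEquiv.map_eq_zero_iff] at h3
      exact hv2 (congrArg Subtype.val h3)
    obtain ⟨g1, hg1, hg1v⟩ := witt0 hC.alt hC.nd v2 v2' hv2 hv2'0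
    have hB : B v2' (g1 y) = B v2' y' := by
      rw [hYti v2' hv2'Y y' hy'Y, ← hg1v, hg1, hv2y]
    have hn1 : g1 y ∉ Submodule.span L {v2'} := by
      intro h
      obtain ⟨c, hc⟩ := Submodule.mem_span_singleton.mp h
      apply hyspan
      rw [Submodule.mem_span_singleton]
      refine ⟨c, g1.injective ?_⟩
      rw [map_smul, hg1v, hc]
    have hn2 : y' ∉ Submodule.span L {v2'} := by
      intro h
      obtain ⟨c, hc⟩ := Submodule.mem_span_singleton.mp h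
      apply hyspan
      rw [Submodule.mem_span_singleton]
      refine ⟨c, ?_⟩
      have h3 : gh (c • ⟨v2, hv2Y⟩) = gh ⟨y, hyY⟩ := by
        apply Subtype.ext
        rw [map_smul, Submodule.coe_smul, ← hv2', ← hy']
        exact hc
      exact congrArg Subtype.val (gh.injective h3)
    obtain ⟨g2, hg2, hg2v, hg2y⟩ := witt1 hC.alt hC.nd v2' (g1 y) y' hB hn1 hn2
    refine ⟨(g2 * g1).restrictScalars F, hC.M0 _ (fun a b => by
      rw [LinearEquiv.mul_apply, LinearEquiv.mul_apply, hg2, hg1]), fun x => ?_⟩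
    obtain ⟨a, b, hab⟩ := Submodule.mem_span_pair.mp x.2
    have hx : x = a • (⟨v2, hv2Y⟩ : ↥Y) + b • ⟨y, hyY⟩ := Subtype.ext hab.symm
    have hL : (g2 * g1) (x : V) = a • v2' + b • y' := by
      rw [← hab, map_add, map_smul, map_smul, LinearEquiv.mul_apply, LinearEquiv.mul_apply,
        hg1v, hg2v, hg2y]
    have hR : ((gh x : ↥Y) : V) = a • v2' + b • y' := by
      rw [hx, map_add, map_smul, map_smul, Submodule.coe_add, Submodule.coe_smul,
        Submodule.coe_smul, ← hv2', ← hy']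
    show (g2 * g1) (x : V) = ((gh x : ↥Y) : V)
    rw [hL, hR]
  -- (A7)
  have hnsemi : ¬ Limg H Y ≤ Nrm F L ↥Y := by
    intro hle
    obtain ⟨κ1, hκ1⟩ : ∃ κ1 : L, κ1 • v2 ∉ Q := by
      by_contra hcon
      push Not at hcon
      apply hnge
      intro x hx
      obtain ⟨κ, rfl⟩ := mem_LP.mp hx
      exact hcon κ
    obtain ⟨u1, hu1⟩ : ∃ u1 : V, u1 = h0.symm (κ1 • v2) := ⟨_, rfl⟩
    have hu1span : u1 ∉ Submodule.span L {v} := by
      intro h
      obtain ⟨l, hl⟩ := Submodule.mem_span_singleton.mp h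
      apply hκ1
      rw [hQmem]
      refine ⟨l, ?_⟩
      rw [hl, hu1, h0.apply_symm_apply]
    obtain ⟨φ1, hφ1v, hφ1u⟩ := exists_fun_pair hv hu1span (0 : L) 1
    obtain ⟨w1, hw1⟩ := bil_surj B hC.nd φ1
    have hw1x : ∀ x, B w1 x = φ1 x := fun x => by rw [hw1]
    have hvw1 : B v w1 = 0 := by rw [skewB hC.alt, hw1x, hφ1v, neg_zero]
    obtain ⟨κ, hκ⟩ := exists_not_algebraMap (F := F) (L := L) hr.two_le
    have hκ0 : κ ≠ 0 := by
      rintro rfl
      exact hκ ⟨0, map_zero _⟩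
    have hκ1' : κ ≠ 1 := by
      rintro rfl
      exact hκ ⟨1, map_one _⟩
    have hφ1Q : ∀ x ∈ Q, φ1 (h0.symm x) = 0 := by
      intro x hx
      obtain ⟨l, rfl⟩ := (hQmem x).mp hx
      rw [h0.symm_apply_apply, map_smul, hφ1v, smul_zero]
    have hel : ∀ j : L, ∃ e ∈ Limg H Y, ∀ x : ↥Y,
        ((e x : ↥Y) : V) = (x : V) + h0 ((j * φ1 (h0.symm (x : V))) • v) := by
      intro j
      have hvj : B v (j • w1) = 0 := by rw [map_smul, hvw1, smul_zero]
      obtain ⟨q, hqH, hqx⟩ := hq' (j • w1) hvj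
      have hqx' : ∀ x ∈ Y, q x = x + h0 ((j * φ1 (h0.symm x)) • v) := by
        intro x hx
        have e : B (j • w1) (h0.symm x) = j * φ1 (h0.symm x) := by
          rw [map_smul, LinearMap.smul_apply, hw1x, smul_eq_mul]
        rw [hqx x hx, e]
      have h1 : ∀ x ∈ Y, q x ∈ Y := by
        intro x hx
        rw [hqx' x hx]
        exact hqY _ x hx
      refine ⟨resEquiv Y q h1 (symm_mem_of_forall_mem Y q h1), ⟨q, hqH, fun x => rfl⟩,
        fun x => ?_⟩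
      rw [resEquiv_coe, hqx' _ x.2]
    -- general facts about such elements
    have hv2Y0 : (⟨v2, hv2Y⟩ : ↥Y) ≠ 0 := fun h => hv2 (congrArg Subtype.val h)
    have hfacts : ∀ (j : L) (e : ↥Y ≃ₗ[F] ↥Y), e ∈ Limg H Y →
        (∀ x : ↥Y, ((e x : ↥Y) : V) = (x : V) + h0 ((j * φ1 (h0.symm (x : V))) • v)) →
        ∃ τ : L → L, (∀ a b, τ (a * b) = τ a * τ b) ∧
          (∀ l : L, (τ l - l) • v2 = h0 ((j * φ1 (h0.symm (l • v2))) • v)) := by
      intro j e he hex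
      obtain ⟨τ, hτ⟩ : ∃ τ : L → L, ∀ (l : L) (x : ↥Y), e (l • x) = τ l • e x := by
        choose τ hτ using (mem_Nrm.mp (hle he)).1
        exact ⟨τ, hτ⟩
      have hfix : e ⟨v2, hv2Y⟩ = ⟨v2, hv2Y⟩ := by
        apply Subtype.ext
        rw [hex]
        show v2 + h0 ((j * φ1 (h0.symm v2)) • v) = v2
        rw [hφ1Q v2 hv2Q, mul_zero, zero_smul, map_zero, add_zero]
      have hτv : ∀ l : L, e (l • ⟨v2, hv2Y⟩) = τ l • (⟨v2, hv2Y⟩ : ↥Y) := by
        intro l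
        rw [hτ, hfix]
      refine ⟨τ, ?_, ?_⟩
      · intro a b
        have h1 := hτv (a * b)
        rw [mul_smul, hτ, hτv, smul_smul] at h1
        exact (smul_left_injective L hv2Y0 h1).symm
      · intro l
        have h1 := congrArg Subtype.val (hτv l)
        rw [hex] at h1
        have h2 : ((l • (⟨v2, hv2Y⟩ : ↥Y) : ↥Y) : V) = l • v2 := rfl
        have h3 : ((τ l • (⟨v2, hv2Y⟩ : ↥Y) : ↥Y) : V) = τ l • v2 := rfl
        rw [h2, h3] at h1
        rw [sub_smul, ← h1]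
        abel
    obtain ⟨e1, he1, he1x⟩ := hel 1
    obtain ⟨e2, he2, he2x⟩ := hel κ
    obtain ⟨e3, he3, he3x⟩ := hel (1 + κ)
    obtain ⟨τ1, m1, hτ1⟩ := hfacts 1 e1 he1 he1x
    obtain ⟨τ2, m2, hτ2⟩ := hfacts κ e2 he2 he2x
    obtain ⟨τ3, m3, hτ3⟩ := hfacts (1 + κ) e3 he3 he3x
    have hadd : ∀ a, τ3 a = τ1 a + τ2 a - a := by
      intro a
      have h1 : (τ3 a - a) • v2 = (τ1 a - a) • v2 + (τ2 a - a) • v2 := by
        rw [hτ1, hτ2, hτ3, add_mul, add_smul, map_add]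
      rw [← add_smul] at h1
      have h2 := smul_left_injective L hv2 h1
      linear_combination h2
    have hval : ∀ j : L, h0 ((j * φ1 (h0.symm (κ1 • v2))) • v) = h0 (j • v) := by
      intro j
      rw [← hu1, hφ1u, mul_one]
    have hp : τ1 κ1 ≠ κ1 := by
      intro h
      have h1 := hτ1 κ1
      rw [h, sub_self, zero_smul, hval, one_smul] at h1
      exact hv (h0.injective (by rw [← h1, map_zero]))
    have hq : τ2 κ1 ≠ κ1 := by
      intro h
      have h1 := hτ2 κ1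
      rw [h, sub_self, zero_smul, hval] at h1
      have h2 : κ • v = 0 := h0.injective (by rw [← h1, map_zero])
      exact smul_ne_zero hκ0 hv h2
    have hpq : τ1 κ1 ≠ τ2 κ1 := by
      intro h
      have h1 := hτ1 κ1
      have h2 := hτ2 κ1
      rw [hval] at h1 h2
      rw [h, h2, one_smul] at h1
      have h3 : κ • v = v := h0.injective h1
      have h4 : (κ - 1) • v = 0 := by rw [sub_smul, h3, one_smul, sub_self]
      exact smul_ne_zero (sub_ne_zero.mpr hκ1') hv h4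
    exact delta_algebra τ1 τ2 τ3 m1 m2 m3 hadd κ1 hp hq hpq
  -- (A8)
  haveI : Module.Finite F ↥Y := Module.Finite.trans L ↥Y
  have hmY : 2 ≤ finrank L ↥Y := by
    by_contra hcon
    have h1 : finrank L ↥Y ≤ 1 := by omega
    rw [finrank_le_one_iff] at h1
    obtain ⟨v0, hv0⟩ := h1
    obtain ⟨c1, hc1⟩ := hv0 ⟨v2, hv2Y⟩
    obtain ⟨c2, hc2⟩ := hv0 ⟨y, hyY⟩
    have hc10 : c1 ≠ 0 := by
      rintro rfl
      rw [zero_smul] at hc1
      exact hv2 (congrArg Subtype.val hc1).symm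
    apply hyspan
    rw [Submodule.mem_span_singleton]
    refine ⟨c2 / c1, ?_⟩
    have h3 : (c2 / c1) • (⟨v2, hv2Y⟩ : ↥Y) = ⟨y, hyY⟩ := by
      rw [← hc1, ← hc2, smul_smul, div_mul_cancel₀ c2 hc10]
    exact congrArg Subtype.val h3
  have hexc : ¬ (Nat.card F = 2 ∧ finrank F L = 2 ∧ finrank L ↥Y = 2) :=
    fun h => h22 ⟨h.1, h.2.1⟩
  have hall := core' hr hmY hM0Y hnsemi hexc
  -- (A9)
  obtain ⟨φ, hφv2, hφy⟩ := exists_fun_pair hv2 hyspan (1 : L) 0
  have htv : ∀ ξh : L, ∃ h ∈ H, ∀ κ : L, h (κ • v2) = κ • v2 + f0 (ξh * κ) • y := by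
    intro ξh
    let ξf : ↥Y →ₗ[F] F :=
      f0 ∘ₗ LinearMap.mulLeft F ξh ∘ₗ φ.restrictScalars F ∘ₗ (Y.subtype).restrictScalars F
    have hξf : ∀ x : ↥Y, ξf x = f0 (ξh * φ (x : V)) := fun x => rfl
    have hξa : ξf ⟨y, hyY⟩ = 0 := by
      rw [hξf]
      show f0 (ξh * φ y) = 0
      rw [hφy, mul_zero, map_zero]
    have hdet : LinearMap.det ((LinearEquiv.transvection hξa : ↥Y ≃ₗ[F] ↥Y) : ↥Y →ₗ[F] ↥Y) = 1 := by
      have := LinearEquiv.transvection.det_eq_one hξa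
      rw [← Units.val_inj, LinearEquiv.coe_det] at this
      exact this
    obtain ⟨h, hhH, hhx⟩ := hall _ hdet
    refine ⟨h, hhH, fun κ => ?_⟩
    have h1 := hhx ⟨κ • v2, Y.smul_mem κ hv2Y⟩
    have h2 : (LinearEquiv.transvection hξa) (⟨κ • v2, Y.smul_mem κ hv2Y⟩ : ↥Y) =
        ⟨κ • v2, Y.smul_mem κ hv2Y⟩ + ξf ⟨κ • v2, Y.smul_mem κ hv2Y⟩ • (⟨y, hyY⟩ : ↥Y) := rfl
    rw [h2] at h1
    have h3 : ξf ⟨κ • v2, Y.smul_mem κ hv2Y⟩ = f0 (ξh * κ) := by
      rw [hξf]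
      show f0 (ξh * φ (κ • v2)) = _
      rw [map_smul, hφv2, smul_eq_mul, mul_one]
    rw [h3] at h1
    exact h1
  obtain ⟨ξ1, hξ10, hξ1f⟩ := exists_ker_f0 hr.two_le f0
  obtain ⟨ξ2, hξ2f⟩ := exists_f0_one hC.f0ne
  have hξ20 : ξ2 ≠ 0 := by
    rintro rfl
    rw [map_zero] at hξ2f
    exact zero_ne_one hξ2f
  obtain ⟨h1, hh1, hi1⟩ := htv ξ1
  obtain ⟨h2, hh2, hi2⟩ := htv ξ2
  have hfin := hC.endA hh1 hh2 hi1 hi2 hv2y hξ10 hξ20
  rw [hξ1f, hξ2f] at hfin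
  exact ⟨y, hy0, 0 - 1, by norm_num, hfin⟩

end CaseA

end Cfsg.Agent.Lib.Helper3.XS
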