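import Mathlib
import Cfsg.Agent.Lib.Helper3.XSCaseA
import Cfsg.Agent.Lib.Helper3.XSCaseB
import Cfsg.Agent.Lib.Helper3.XS22

/-!
# The core theorem for `Sp_k(q^r).r < Sp_{kr}(q)` (S5664), abstract form
-/

set_option autoImplicit false
set_option maxHeartbeats 4000000
set_option maxRecDepth 100000
set_option linter.unusedVariables false
set_option linter.unusedSectionVars false
set_option linter.style.longLine false
set_option linter.style.haveILetI false
set_option linter.deprecated false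

namespace Cfsg.Agent.Lib.Helper3.XS

open Module Cfsg.Agent.Lib.Helper3.XF Cfsg.Agent.Lib.Helper2.Mcl

section CoreSp

variable {F L V : Type*} [Field F] [Field L] [Algebra F L] [Finite L] [FiniteDimensional F L]
  [AddCommGroup V] [Module F V] [Module L V] [IsScalarTower F L V] [FiniteDimensional L V]
  [FiniteDimensional F V]

/-- **CORE-Sp.** -/
theorem Cfg.coreSp {B : V →ₗ[L] V →ₗ[L] L} {f0 : L →ₗ[F] F} {H : Subgroup (V ≃ₗ[F] V)}
    (hC : Cfg B f0 H) (hr : (finrank F L).Prime) (hm : 2 ≤ finrank L V)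
    (h22 : (Nat.card F = 2 ∧ finrank F L = 2) → 3 ≤ finrank L V) (hnle : ¬ H ≤ Nrm F L V)
    (e : V ≃ₗ[F] V) (he : ∀ u v, f0 (B (e u) (e v)) = f0 (B u v)) : e ∈ H := by
  have key : ∃ u : V, u ≠ 0 ∧ ∃ c : F, c ≠ 0 ∧ In H (NF B f0 u c) := by
    by_cases hc : Nat.card F = 2 ∧ finrank F L = 2
    · exact hC.case22 hc.1 hc.2 (h22 hc) hnle
    · obtain ⟨d, hd1, hmax, h0, hh0, v, v2, hv, hv2, hne, hv2Q, hdim⟩ := hC.exists_pair hm hnle
      by_cases hb : ∃ y0 ∈ (LP F L v).map (h0 : V →ₗ[F] V), B v2 y0 ≠ 0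
      · exact hC.caseB hr hc hd1 hmax hh0 hv hv2 hne hdim hb
      · push Not at hb
        exact hC.caseA hr hc hmax hh0 hv hv2 hne hv2Q hdim hb
  obtain ⟨u, hu, c, hc, hin⟩ := key
  exact hC.lemmaT hu hc hin e he

omit [Finite L] [FiniteDimensional L V] [FiniteDimensional F V] in
/-- the `L`-bilinear form behind a self-adjoint `F`-form -/
theorem exists_B (f : V →ₗ[F] V →ₗ[F] F)
    (hsa : ∀ (l : L) (u v : V), f (l • u) v = f u (l • v))
    (halt : ∀ (l : L) (v : V), f (l • v) v = 0) (hnd : ∀ u, (∀ v, f u v = 0) → u = 0)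
    {f0 : L →ₗ[F] F} (hf0 : f0 ≠ 0) :
    ∃ B : V →ₗ[L] V →ₗ[L] L, (∀ u v, f u v = f0 (B u v)) ∧ (∀ x, B x x = 0) ∧
      (∀ x, (∀ y, B x y = 0) → x = 0) := by
  have hex : ∀ u : V, ∃ φ : V →ₗ[L] L, ∀ x, f u x = f0 (φ x) := fun u => fun_rep hf0 (f u)
  choose φ hφ using hex
  have huniq : ∀ (φ1 φ2 : V →ₗ[L] L), (∀ x, f0 (φ1 x) = f0 (φ2 x)) → φ1 = φ2 := by
    intro φ1 φ2 h
    ext x
    apply B_eq_of_f0 hf0
    intro l
    have := h (l • x)
    rwa [map_smul φ1, map_smul φ2, smul_eq_mul, smul_eq_mul] at this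
  let B : V →ₗ[L] V →ₗ[L] L :=
    { toFun := φ
      map_add' := fun u u' => by
        apply huniq
        intro x
        rw [← hφ, map_add, LinearMap.add_apply, LinearMap.add_apply, map_add, hφ, hφ]
      map_smul' := fun l u => by
        apply huniq
        intro x
        rw [← hφ, hsa, hφ, RingHom.id_apply, LinearMap.smul_apply, map_smul] }
  have hB : ∀ u v, B u v = φ u v := fun u v => rfl
  refine ⟨B, fun u v => hφ u v, ?_, ?_⟩
  · intro x
    apply B_eq_of_f0 hf0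
    intro l
    rw [mul_zero, map_zero]
    have e1 : l * B x x = B (l • x) x := by
      rw [map_smul, LinearMap.smul_apply, smul_eq_mul]
    rw [e1, hB, ← hφ, halt]
  · intro x hx
    apply hnd
    intro y
    rw [hφ, ← hB, hx, map_zero]

omit [Finite L] [FiniteDimensional F L] [FiniteDimensional F V] in
theorem two_le_finrank_of_alt [Nontrivial V] {B : V →ₗ[L] V →ₗ[L] L} (halt : ∀ x, B x x = 0)
    (hnd : ∀ x, (∀ y, B x y = 0) → x = 0) : 2 ≤ finrank L V := by
  by_contra hcon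
  have h1 : finrank L V ≤ 1 := by omega
  rw [finrank_le_one_iff] at h1
  obtain ⟨v0, hv0⟩ := h1
  obtain ⟨x, hx⟩ := exists_ne (0 : V)
  apply hx
  apply hnd
  intro y
  obtain ⟨c1, rfl⟩ := hv0 x
  obtain ⟨c2, rfl⟩ := hv0 y
  rw [map_smul, map_smul, LinearMap.smul_apply, halt, smul_zero, smul_zero]

/-- **The abstract maximality theorem.** -/
theorem abstract_sp_max [Nontrivial V] (hr : (finrank F L).Prime) (f : V →ₗ[F] V →ₗ[F] F)
    (hsa : ∀ (l : L) (u v : V), f (l • u) v = f u (l • v))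
    (halt : ∀ (l : L) (v : V), f (l • v) v = 0) (hnd : ∀ u, (∀ v, f u v = 0) → u = 0)
    (h22 : (Nat.card F = 2 ∧ finrank F L = 2) → 3 ≤ finrank L V) :
    Nrm F L V ⊓ SpF f < SpF f ∧ ∀ X : Subgroup (V ≃ₗ[F] V), Nrm F L V ⊓ SpF f ≤ X → X ≤ SpF f →
      X = Nrm F L V ⊓ SpF f ∨ X = SpF f := by
  obtain ⟨f0, hf01⟩ : ∃ f0 : L →ₗ[F] F, f0 1 = 1 :=
    exists_fun_one (L := F) (V := L) one_ne_zero (1 : F)
  have hf0 : f0 ≠ 0 := by
    intro h0
    rw [h0] at hf01
    simp at hf01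
  obtain ⟨B, hfB, hBalt, hBnd⟩ := exists_B f hsa halt hnd hf0
  have hm : 2 ≤ finrank L V := two_le_finrank_of_alt hBalt hBnd
  have hCfg : ∀ X : Subgroup (V ≃ₗ[F] V), Nrm F L V ⊓ SpF f ≤ X → X ≤ SpF f → Cfg B f0 X := by
    intro X hMX hXS
    refine ⟨hBalt, hBnd, hf0, ?_, ?_⟩
    · intro g hg
      apply hMX
      refine ⟨restrictScalars_mem_Nrm g, ?_⟩
      intro u v
      show f (g u) (g v) = f u v
      rw [hfB, hfB, hg]
    · intro e he u v
      rw [← hfB, ← hfB]
      exact hXS he u v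
  constructor
  · refine lt_of_le_of_ne inf_le_right ?_
    intro heq
    obtain ⟨u, hu⟩ := exists_ne (0 : V)
    have hBu : B u ≠ 0 := by
      intro h0
      apply hu
      apply hBnd
      intro y
      rw [h0]
      rfl
    have hmem : tv B f0 hBalt u ∈ SpF f := by
      have e1 : tv B f0 hBalt u =
          LinearEquiv.transvection (spT_inc (ff B f0) (ff_alt hBalt) u 1) := by
        ext x
        rw [tv_apply, spT_apply (ff B f0) (ff_alt hBalt), one_mul]
        rfl
      intro x y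
      rw [hfB, hfB, e1]
      exact spT_closure_isom (ff B f0) (ff_alt hBalt) (Subgroup.subset_closure ⟨u, 1, rfl⟩) x y
    rw [← heq] at hmem
    exact tv_not_mem_Nrm hr.two_le hf0 hBu hu (hBalt u) _ (fun x => tv_apply hBalt u x) hmem.1
  · intro X hMX hXS
    by_cases hXN : X ≤ Nrm F L V
    · left
      exact le_antisymm (le_inf hXN hXS) hMX
    · right
      apply le_antisymm hXS
      intro e he
      refine (hCfg X hMX hXS).coreSp hr hm h22 hXN e ?_
      intro u v
      rw [← hfB, ← hfB]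
      exact he u v

end CoreSp

end Cfsg.Agent.Lib.Helper3.XS
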