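import Mathlib
import Cfsg.Agent.Lib.Helper6.Ramified
import Cfsg.Agent.Lib.Helper6.Constituent
import Cfsg.Agent.Lib.Helper6.CharOps
import Cfsg.Agent.Lib.Helper6.IrrBasis
import Cfsg.Agent.Lib.Helper3.FT2
import Cfsg.Agent.Lib.Helper3.GlauCyc11
import Cfsg.Agent.S0146

set_option autoImplicit false

namespace Cfsg.Agent.Lib.Helper3.XSCyc

open Cfsg Cfsg.Agent.Lib.Helper6
open scoped ComplexConjugate

variable {X : Type*} [Group X] [Fintype X]

/-- a faithful linear character of a central subgroup `M` with `X / M` having "nondegenerate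
commutator pairing" is fully ramified in `X` -/
theorem exists_fully_ramified (M : Subgroup X) [Fintype M]
    (hMc : M ≤ Subgroup.center X)
    (hcomm : ∀ g : X, g ∉ M → ∃ y : X, y * g * y⁻¹ * g⁻¹ ∈ M ∧ y * g * y⁻¹ * g⁻¹ ≠ 1)
    {θ : M → ℂ} (hθ : IsIrrCharacter M θ) (hfaith : ∀ z : M, z ≠ 1 → θ z ≠ 1) :
    ∃ (χ : X → ℂ) (e : ℕ), IsIrrCharacter X χ ∧ e * e = M.index ∧
      Cfsg.indFun M θ = fun g => (e : ℂ) * χ g := by
  classical
  have hconj : ∀ (g : X) (n : X), n ∈ M → g * n * g⁻¹ = n := by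
    intro g n hn
    have := Subgroup.mem_center_iff.1 (hMc hn) g
    rw [this, mul_inv_cancel_right]
  have hMn : M.Normal := ⟨fun n hn g => by rw [hconj g n hn]; exact hn⟩
  have hab : ∀ x y : M, x * y = y * x := by
    intro x y
    apply Subtype.ext
    have := Subgroup.mem_center_iff.1 (hMc x.2) y
    simpa using this.symm
  have : Fintype (IrrCharacter M) := Fintype.ofFinite _
  have hθ1 : θ 1 = 1 := GlauCyc.irr_apply_one_of_abelian hab ⟨θ, hθ⟩
  have hinv : ∀ g : X, conjFun M hMn θ g = θ := by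
    intro g; funext n
    rw [conjFun_apply]
    congr 1
    exact Subtype.ext (hconj g n n.2)
  have hψ : IsCharacter X (indFun M θ) := IsCharacter.indFun M (IsIrrCharacter.isCharacter hθ)
  have hidx : (M.index : ℂ) ≠ 0 := by
    have := M.index_ne_zero_of_finite
    exact_mod_cast this
  have hψ1 : indFun M θ 1 ≠ 0 := by
    rw [indFun_one, hθ1, mul_one]; exact hidx
  obtain ⟨χ, hχ⟩ := IsCharacter.exists_constituent hψ hψ1
  rw [Cfsg.Agent.S0146.result M θ χ (IsIrrCharacter.isClassFunction χ.2)] at hχ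
  have hχ' : classInner (fun n : M => (χ : X → ℂ) n) θ ≠ 0 := by
    rw [← classInner_conj_symm]
    intro h; apply hχ
    exact (map_eq_zero _).1 h
  have hres := restrict_eq_smul_of_invariant M hMn χ.2 hθ hinv hχ'
  set c := classInner (fun n : M => (χ : X → ℂ) n) θ with hc
  have hc1 : (χ : X → ℂ) 1 = c := by
    have := congrFun hres 1
    simp only [Pi.smul_apply, smul_eq_mul, hθ1, mul_one] at this
    exact this
  have hresz : ∀ z : M, (χ : X → ℂ) z = (χ : X → ℂ) 1 * θ z := by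
    intro z
    have := congrFun hres z
    simp only [Pi.smul_apply, smul_eq_mul] at this
    rw [this, hc1]
  have hχ1 : (χ : X → ℂ) 1 ≠ 0 := IsIrrCharacter.apply_one_ne_zero χ.2
  have hscal0 : ∀ z : M, ∃ a : ℂ, a = θ z ∧ conj a * a = 1 ∧
      ∀ g : X, (χ : X → ℂ) (z * g) = a * (χ : X → ℂ) g := by
    intro z
    obtain ⟨a, haa, ha⟩ := FT.apply_center_mul_scalar χ.2 (hMc z.2)
    refine ⟨a, ?_, haa, ha⟩
    have h1 := ha 1
    rw [mul_one, hresz z] at h1
    apply mul_right_cancel₀ hχ1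
    rw [← h1]; ring
  have hscal : ∀ z : M, ∀ g : X, (χ : X → ℂ) (z * g) = θ z * (χ : X → ℂ) g := by
    intro z g
    obtain ⟨a, rfl, _, ha⟩ := hscal0 z
    exact ha g
  have hθnorm : ∀ z : M, θ z * conj (θ z) = 1 := by
    intro z
    obtain ⟨a, rfl, haa, _⟩ := hscal0 z
    rw [mul_comm]; exact haa
  have hvan : ∀ g : X, g ∉ M → (χ : X → ℂ) g = 0 := by
    intro g hg
    obtain ⟨y, hyM, hy1⟩ := hcomm g hg
    have h1 : (χ : X → ℂ) (y * g * y⁻¹) = (χ : X → ℂ) g := (IsIrrCharacter.isClassFunction χ.2) g y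
    have h2 : y * g * y⁻¹ = (y * g * y⁻¹ * g⁻¹) * g := by group
    rw [h2] at h1
    have h3 := hscal ⟨_, hyM⟩ g
    simp only at h3
    rw [h3] at h1
    have h4 : θ ⟨_, hyM⟩ ≠ 1 := hfaith _ (fun h => hy1 (by simpa using congrArg Subtype.val h))
    by_contra hne
    apply h4
    exact mul_right_cancel₀ hne (by rw [h1, one_mul])
  have hsplit := sum_norm_sq_split M χ.2
  have hz : ∑ g ∈ Finset.univ.filter (fun g : X => g ∉ M),
      (χ : X → ℂ) g * conj ((χ : X → ℂ) g) = 0 := by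
    apply Finset.sum_eq_zero
    intro g hg
    rw [hvan g (Finset.mem_filter.1 hg).2, zero_mul]
  rw [hz, add_zero] at hsplit
  have hsum : ∑ n : M, (χ : X → ℂ) n * conj ((χ : X → ℂ) n)
      = (Nat.card M : ℂ) * ((χ : X → ℂ) 1 * conj ((χ : X → ℂ) 1)) := by
    have : ∀ n : M, (χ : X → ℂ) n * conj ((χ : X → ℂ) n)
        = (χ : X → ℂ) 1 * conj ((χ : X → ℂ) 1) := by
      intro n
      rw [hresz n, map_mul]
      calc (χ : X → ℂ) 1 * θ n * (conj ((χ : X → ℂ) 1) * conj (θ n))
          = ((χ : X → ℂ) 1 * conj ((χ : X → ℂ) 1)) * (θ n * conj (θ n)) := by ring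
        _ = _ := by rw [hθnorm n, mul_one]
    rw [Finset.sum_congr rfl (fun n _ => this n), Finset.sum_const, Finset.card_univ,
      nsmul_eq_mul, Nat.card_eq_fintype_card]
  set d := charDegree (χ : X → ℂ) with hd
  have hχd : (χ : X → ℂ) 1 = (d : ℂ) := IsCharacter.apply_one_eq_charDegree (IsIrrCharacter.isCharacter χ.2)
  rw [hsum, hχd, Complex.conj_natCast] at hsplit
  have hcard : Nat.card M * M.index = Nat.card X := M.card_mul_index
  have hdd : d * d = M.index := by
    have h5 : ((Nat.card M * (d * d) : ℕ) : ℂ) = ((Nat.card M * M.index : ℕ) : ℂ) := by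
      rw [hcard]; push_cast; exact hsplit
    have h6 : Nat.card M * (d * d) = Nat.card M * M.index := by exact_mod_cast h5
    exact Nat.eq_of_mul_eq_mul_left Nat.card_pos h6
  refine ⟨χ, d, χ.2, hdd, ?_⟩
  funext g
  by_cases hg : g ∈ M
  · have h7 := indFun_apply_of_normal M hMn θ ⟨g, hg⟩
    simp only at h7
    rw [h7]
    simp only [hinv]
    rw [Finset.sum_const, Finset.card_univ, nsmul_eq_mul]
    have h8 := hresz ⟨g, hg⟩
    simp only at h8
    rw [h8, hχd]
    have h9 : (Fintype.card X : ℂ) = (Nat.card M : ℂ) * ((d : ℂ) * d) := by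
      rw [← Nat.card_eq_fintype_card, ← hcard, ← hdd]; push_cast; ring
    rw [h9]
    have hM0 : (Nat.card M : ℂ) ≠ 0 := by
      have : 0 < Nat.card M := Nat.card_pos
      exact_mod_cast this.ne'
    field_simp
  · rw [indFun_apply_of_not_mem M hMn θ hg, hvan g hg, mul_zero]

end Cfsg.Agent.Lib.Helper3.XSCyc
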