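import Mathlib
import Cfsg.Agent.Lib.Helper3.XSCyc1
import Cfsg.Agent.Lib.Helper3.GlauCyc13
import Cfsg.Agent.Lib.Helper6.Linear
import Cfsg.Agent.Lib.Helper6.Mult
import Cfsg.Agent.Lib.Helper6.Auto
import Cfsg.Agent.S4454

set_option autoImplicit false

namespace Cfsg.Agent.Lib.Helper3.XSCyc

open Cfsg Cfsg.Agent.Lib.Helper6
open scoped ComplexConjugate

/-- a group of prime order has a faithful linear character -/
theorem exists_faithful_of_card_prime {A : Type*} [Group A] [Fintype A] {p : ℕ} [hp : Fact p.Prime]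
    (hA : Nat.card A = p) :
    ∃ θ : A → ℂ, IsIrrCharacter A θ ∧ ∀ z : A, z ≠ 1 → θ z ≠ 1 := by
  classical
  have hcyc : IsCyclic A := isCyclic_of_prime_card hA
  have hab : ∀ x y : A, x * y = y * x := fun x y => IsCyclic.commGroup.mul_comm x y
  have : Fintype (IrrCharacter A) := Fintype.ofFinite _
  have hcard : Fintype.card (IrrCharacter A) = p := by
    rw [GlauCyc.card_irr_of_abelian hab, hA]
  have h1 : 1 < Fintype.card (IrrCharacter A) := by rw [hcard]; exact hp.out.one_lt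
  obtain ⟨θ, hθ⟩ := Fintype.exists_ne_of_one_lt_card h1 ⟨fun _ => (1 : ℂ), isIrrCharacter_one⟩
  have hθ1 : (θ : A → ℂ) 1 = 1 := GlauCyc.irr_apply_one_of_abelian hab θ
  have hz₀ : ∃ z₀ : A, (θ : A → ℂ) z₀ ≠ 1 := by
    by_contra hne
    push Not at hne
    apply hθ
    apply Subtype.ext
    funext z
    exact hne z
  obtain ⟨z₀, hz₀⟩ := hz₀
  refine ⟨θ, θ.2, ?_⟩
  intro z hz hθz
  apply hz₀
  let f : A →* ℂˣ := linearCharHom (IsIrrCharacter.isCharacter θ.2) hθ1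
  have hf : ∀ a : A, ((f a : ℂˣ) : ℂ) = (θ : A → ℂ) a := fun a => linearCharHom_apply _ _ a
  have hzk : z ∈ f.ker := by
    rw [MonoidHom.mem_ker]
    apply Units.ext
    rw [hf, hθz]; rfl
  have hp' : Fact (Nat.card A).Prime := ⟨by rw [hA]; exact hp.out⟩
  rcases Subgroup.eq_bot_or_eq_top_of_prime_card f.ker with h | h
  · rw [h, Subgroup.mem_bot] at hzk
    exact absurd hzk hz
  · have : z₀ ∈ f.ker := by rw [h]; exact Subgroup.mem_top _
    rw [MonoidHom.mem_ker] at this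
    rw [← hf, this]; rfl

variable {Γ : Type*} [Group Γ] [Fintype Γ]

theorem main_abstract (G N S : Subgroup Γ) (p n : ℕ) [hp : Fact p.Prime]
    (hnorm : ∀ s ∈ S, ∀ g ∈ G, s * g * s⁻¹ ∈ G)
    (hcop : (Nat.card G).Coprime (Nat.card S)) (htop : G ⊔ S = ⊤) (hcyc : IsCyclic S)
    (hNG : N ≤ G) (hNc : N ≤ Subgroup.center Γ) (hNp : Nat.card N = p)
    (hGcard : Nat.card G = p ^ (2 * n + 1)) (hn : 1 ≤ n) (hS : 2 ≤ Nat.card S)
    (hcomm : ∀ a ∈ G, ∀ b ∈ G, a * b * a⁻¹ * b⁻¹ ∈ N)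
    (hnd : ∀ g ∈ G, g ∉ N → ∃ y ∈ G, y * g * y⁻¹ * g⁻¹ ≠ 1)
    (hfpf : ∀ s ∈ S, s ≠ 1 → ∀ g ∈ G, s * g * s⁻¹ * g⁻¹ ∈ N → g ∈ N) :
    Nat.card S ∣ p ^ n + 1 ∨ Nat.card S ∣ p ^ n - 1 := by
  classical
  have hG : G.Normal := GlauCyc.normal_of_sup G S hnorm htop
  have hconj : ∀ (x : Γ) (z : Γ), z ∈ N → x * z * x⁻¹ = z := by
    intro x z hz
    have := Subgroup.mem_center_iff.1 (hNc hz) x
    rw [this, mul_inv_cancel_right]
  have hN : N.Normal := ⟨fun z hz x => by rw [hconj x z hz]; exact hz⟩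
  have : Fintype G := Fintype.ofFinite _
  have : Fintype N := Fintype.ofFinite _
  have : Fintype (GlauCyc.fixC G S) := Fintype.ofFinite _
  obtain ⟨s₀, hs₀⟩ := GlauCyc.exists_generator_coe S hcyc
  have hcycq : IsCyclic (Γ ⧸ G) := GlauCyc.isCyclic_quotient G S htop hs₀
  have hidx : G.index = Nat.card S := GlauCyc.index_eq_card G S hcop htop
  have hGlt : G ≠ ⊤ := by
    intro h
    rw [h, Subgroup.index_top] at hidx
    omega
  have hp2 : 2 ≤ p := hp.out.two_le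
  have hNlt : N ≠ G := by
    intro h
    rw [h, hGcard] at hNp
    have h1 : p ^ (2 * n + 1) = p ^ 1 := by rw [hNp, pow_one]
    have := Nat.pow_right_injective hp2 h1
    omega
  have hfrob : ∀ x : Γ, x ∉ G → ∀ g : Γ, g ∈ G → x * g * x⁻¹ * g⁻¹ ∈ N → g ∈ N := by
    intro x hx g hg hxg
    obtain ⟨u, hu, s, hs, rfl⟩ := GlauCyc.exists_mul_eq G S htop x
    have hs1 : s ≠ 1 := by
      rintro rfl
      apply hx
      rw [mul_one]; exact hu
    apply hfpf s hs hs1 g hg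
    have ha : s * g * s⁻¹ ∈ G := hnorm s hs g hg
    have h1 := hcomm u hu _ ha
    have h2 : s * g * s⁻¹ * g⁻¹
        = (u * (s * g * s⁻¹) * u⁻¹ * (s * g * s⁻¹)⁻¹)⁻¹ * (u * s * g * (u * s)⁻¹ * g⁻¹) := by
      group
    rw [h2]
    exact N.mul_mem (N.inv_mem h1) hxg
  obtain ⟨θ, hθ, hfaith⟩ := exists_faithful_of_card_prime (A := N) hNp
  have hinv : ∀ (x : Γ) (z : N), θ ⟨x * z * x⁻¹, hN.conj_mem z z.2 x⟩ = θ z := by
    intro x z
    congr 1
    exact Subtype.ext (hconj x z z.2)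
  let α : N.subgroupOf G ≃* N := Subgroup.subgroupOfEquivOfLe hNG
  have hθ' : IsIrrCharacter (N.subgroupOf G) (fun z : N.subgroupOf G => θ ⟨(z : G), z.2⟩) :=
    IsIrrCharacter.comp_mulEquiv α hθ
  have hMc : N.subgroupOf G ≤ Subgroup.center G := by
    intro z hz
    rw [Subgroup.mem_center_iff]
    intro g
    apply Subtype.ext
    have := Subgroup.mem_center_iff.1 (hNc (Subgroup.mem_subgroupOf.1 hz)) (g : Γ)
    simpa using this
  have hcomm' : ∀ g : G, g ∉ N.subgroupOf G →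
      ∃ y : G, y * g * y⁻¹ * g⁻¹ ∈ N.subgroupOf G ∧ y * g * y⁻¹ * g⁻¹ ≠ 1 := by
    intro g hg
    have hgN : (g : Γ) ∉ N := fun h => hg (Subgroup.mem_subgroupOf.2 h)
    obtain ⟨y, hy, hne⟩ := hnd g g.2 hgN
    refine ⟨⟨y, hy⟩, ?_, ?_⟩
    · rw [Subgroup.mem_subgroupOf]
      simpa using hcomm y hy g g.2
    · intro h
      apply hne
      have := congrArg Subtype.val h
      simpa using this
  have hfaith' : ∀ z : N.subgroupOf G, z ≠ 1 → θ ⟨(z : G), z.2⟩ ≠ 1 := by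
    intro z hz
    apply hfaith
    intro h
    apply hz
    have := congrArg Subtype.val h
    apply Subtype.ext
    apply Subtype.ext
    simpa using this
  have : Fintype (N.subgroupOf G) := Fintype.ofFinite _
  obtain ⟨χ, e, hχ, hee, hram⟩ := exists_fully_ramified (N.subgroupOf G) hMc hcomm' hθ' hfaith'
  have key := Cfsg.Agent.S4454.result G N hNG hGlt hNlt hcycq hfrob ⟨θ, hθ⟩ hinv ⟨χ, hχ⟩ e hram
  -- e = p ^ n
  have hrel : (N.subgroupOf G).index = p ^ (2 * n) := by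
    have h1 : Nat.card (N.subgroupOf G) * (N.subgroupOf G).index = Nat.card G :=
      (N.subgroupOf G).card_mul_index
    rw [Nat.card_congr α.toEquiv, hNp, hGcard, pow_succ, mul_comm] at h1
    exact Nat.eq_of_mul_eq_mul_right hp.out.pos h1
  have he : e = p ^ n := by
    have h1 : e * e = p ^ n * p ^ n := by rw [hee, hrel, ← pow_add]; congr 1; omega
    exact Nat.mul_self_inj.1 h1
  rw [hidx, he] at key
  have hpos : 1 ≤ p ^ n := Nat.one_le_pow _ _ hp.out.pos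
  rcases key with h | h
  · right
    have h2 : ((p ^ n : ℕ) : ℤ) - 1 = ((p ^ n - 1 : ℕ) : ℤ) := by
      rw [Nat.cast_sub hpos]; simp
    rw [h2] at h
    exact Int.natCast_dvd_natCast.1 h
  · left
    have h2 : ((p ^ n : ℕ) : ℤ) + 1 = ((p ^ n + 1 : ℕ) : ℤ) := by simp
    rw [h2] at h
    exact Int.natCast_dvd_natCast.1 h

end Cfsg.Agent.Lib.Helper3.XSCyc
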