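import Mathlib
import Cfsg.Prelude.Def_GeometricClasses
import Cfsg.Prelude.Def_ClassicalGeometry
import Cfsg.Agent.Lib.Helper3.XSCore
import Cfsg.Agent.Lib.Helper3.XFMain

/-!
# `Sp_k(q^r).r` is maximal in `Sp_{kr}(q)` (S5664): transport to matrices
-/

set_option autoImplicit false
set_option maxHeartbeats 4000000
set_option maxRecDepth 100000
set_option linter.unusedVariables false
set_option linter.unusedSectionVars false
set_option linter.style.longLine false
set_option linter.style.haveILetI false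
set_option linter.deprecated false

namespace Cfsg.Agent.Lib.Helper3.XS

open Module Cfsg Cfsg.Geo Cfsg.Agent.Lib.Helper3.XF
open scoped Matrix MatrixGroups

section BridgeG

variable {F : Type*} [Field F] {n : Type} [Fintype n] [DecidableEq n] {L : Type*} [Field L]
  [Algebra F L]

/-- `GL_n(F) ≃* GL(F^n)` for a general index type -/
noncomputable def thetaG (F : Type*) [Field F] (n : Type) [Fintype n] [DecidableEq n] :
    GL n F ≃* ((n → F) ≃ₗ[F] (n → F)) :=
  Matrix.GeneralLinearGroup.toLin.trans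
    (LinearMap.GeneralLinearGroup.generalLinearEquiv F (n → F))

theorem thetaG_apply (g : GL n F) (x : n → F) :
    thetaG F n g x = (g : Matrix n n F) *ᵥ x := rfl

theorem thetaG_inv_apply (g : GL n F) (y : n → F) :
    thetaG F n g⁻¹ y = (thetaG F n g).symm y := by
  rw [map_inv]
  rfl

theorem matG_eq_of_mulVec {A B : Matrix n n F} (h : ∀ x : n → F, A *ᵥ x = B *ᵥ x) :
    A = B := by
  apply Matrix.toLin'.injective
  apply LinearMap.ext
  intro x
  rw [Matrix.toLin'_apply, Matrix.toLin'_apply, h]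

variable [Module L (n → F)] [IsScalarTower F L (n → F)]
  (j : L →ₐ[F] Matrix n n F)
  (hsmul : ∀ (l : L) (x : n → F), l • x = (j l) *ᵥ x)

include hsmul

theorem semiG_of_mem_normalizer (g : GL n F)
    (hg : g ∈ subalgebraNormalizer j.range) (l : L) :
    ∃ l' : L, ∀ x : n → F, thetaG F n g (l • x) = l' • thetaG F n g x := by
  have h1 := (hg (j l)).mp ⟨l, rfl⟩
  obtain ⟨l', hl'⟩ := h1
  refine ⟨l', fun x => ?_⟩
  rw [thetaG_apply, thetaG_apply, hsmul, hsmul]
  have h2 : (j l' : Matrix n n F) * (g : Matrix n n F) =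
      (g : Matrix n n F) * j l := by
    have h3 : (j.toRingHom l' : Matrix n n F) = j l' := rfl
    rw [← h3, hl', mul_assoc, Units.inv_mul, mul_one]
  rw [Matrix.mulVec_mulVec, Matrix.mulVec_mulVec, h2]

theorem mem_NrmG_iff (g : GL n F) :
    thetaG F n g ∈ Nrm F L (n → F) ↔ g ∈ subalgebraNormalizer j.range := by
  constructor
  · intro hmem
    have key : ∀ (g : GL n F), (∀ l : L, ∃ l' : L, ∀ x : n → F,
        thetaG F n g (l • x) = l' • thetaG F n g x) → ∀ k ∈ j.range,
        (g : Matrix n n F) * k * ((g⁻¹ : GL n F) : Matrix n n F)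
          ∈ j.range := by
      intro g hg k hk
      obtain ⟨l, rfl⟩ := hk
      obtain ⟨l', hl'⟩ := hg l
      refine ⟨l', ?_⟩
      have h2 : (j l' : Matrix n n F) * (g : Matrix n n F) =
          (g : Matrix n n F) * j l := by
        apply matG_eq_of_mulVec
        intro x
        have := hl' x
        rw [thetaG_apply, thetaG_apply, hsmul, hsmul] at this
        rw [← Matrix.mulVec_mulVec, ← Matrix.mulVec_mulVec]
        exact this.symm
      show j l' = (g : Matrix n n F) * j l *
        ((g⁻¹ : GL n F) : Matrix n n F)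
      rw [← h2, mul_assoc, Units.mul_inv, mul_one]
    intro k
    constructor
    · exact key g hmem.1 k
    · intro hk
      have h2 : ∀ l : L, ∃ l' : L, ∀ x : n → F,
          thetaG F n g⁻¹ (l • x) = l' • thetaG F n g⁻¹ x := by
        intro l
        obtain ⟨l', hl'⟩ := hmem.2 l
        refine ⟨l', fun x => ?_⟩
        rw [thetaG_inv_apply, thetaG_inv_apply, hl']
      have := key g⁻¹ h2 _ hk
      rw [inv_inv] at this
      have e : ((g⁻¹ : GL n F) : Matrix n n F) *
          ((g : Matrix n n F) * k * ((g⁻¹ : GL n F) : Matrix n n F))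
            * (g : Matrix n n F) = k := by
        simp only [mul_assoc, Units.inv_mul, mul_one]
        rw [← mul_assoc, Units.inv_mul, one_mul]
      rwa [e] at this
  · intro hg
    refine ⟨semiG_of_mem_normalizer j hsmul g hg, fun l => ?_⟩
    obtain ⟨l', hl'⟩ := semiG_of_mem_normalizer j hsmul g⁻¹ (Subgroup.inv_mem _ hg) l
    refine ⟨l', fun x => ?_⟩
    rw [← thetaG_inv_apply, ← thetaG_inv_apply, hl']

end BridgeG

section SympForm

variable {F : Type*} [Field F] (m : ℕ)

/-- the standard alternating form as a bilinear map -/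
noncomputable def sympBil (F : Type*) [Field F] (m : ℕ) :
    (Fin m ⊕ Fin m → F) →ₗ[F] (Fin m ⊕ Fin m → F) →ₗ[F] F :=
  LinearMap.mk₂ F (sympForm m F)
    (fun u u' v => by simp only [sympForm, add_dotProduct])
    (fun c u v => by simp only [sympForm, smul_dotProduct])
    (fun u v v' => by simp only [sympForm, Matrix.mulVec_add, dotProduct_add])
    (fun c u v => by simp only [sympForm, Matrix.mulVec_smul, dotProduct_smul])

theorem sympBil_apply (u v : Fin m ⊕ Fin m → F) : sympBil F m u v = sympForm m F u v := rfl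

theorem sympBil_nd (u : Fin m ⊕ Fin m → F) (h : ∀ v, sympBil F m u v = 0) : u = 0 := by
  rw [← dotProduct_eq_zero_iff]
  intro w
  have h1 := h ((-Matrix.J (Fin m) F) *ᵥ w)
  rw [sympBil_apply, sympForm, Matrix.mulVec_mulVec, mul_neg, Matrix.J_squared, neg_neg,
    Matrix.one_mulVec] at h1
  exact h1

theorem mem_spGL_iff (g : GL (Fin m ⊕ Fin m) F) :
    thetaG F (Fin m ⊕ Fin m) g ∈ SpF (sympBil F m) ↔ g ∈ spGL m F := Iff.rfl

end SympForm

section FinalSp

variable {F : Type*} [Field F] [Fintype F] {L : Type*} [Field L] [Algebra F L]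

/-- the bridge theorem for the symplectic group -/
theorem bridgeSp (m : ℕ) (hm : 1 ≤ m)
    (j : L →ₐ[F] Matrix (Fin m ⊕ Fin m) (Fin m ⊕ Fin m) F) (hr : (finrank F L).Prime)
    (hsa : Cfsg.Geo.IsSelfAdjointFor (sympForm m F) j.range)
    (halt : ∀ k ∈ j.range, ∀ v : (Fin m ⊕ Fin m → F), sympForm m F (k *ᵥ v) v = 0)
    (h22 : (Nat.card F = 2 ∧ finrank F L = 2) → 3 ≤ m) :
    Cfsg.Geo.IsMaximalIn (spGL m F) (subalgebraNormalizer j.range ⊓ spGL m F) := by
  letI modL : Module L (Fin m ⊕ Fin m → F) := Module.compHom (Fin m ⊕ Fin m → F)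
    ((((Matrix.toLinAlgEquiv' : Matrix (Fin m ⊕ Fin m) (Fin m ⊕ Fin m) F ≃ₐ[F]
        Module.End F (Fin m ⊕ Fin m → F)) :
      Matrix (Fin m ⊕ Fin m) (Fin m ⊕ Fin m) F →ₐ[F] Module.End F (Fin m ⊕ Fin m → F)).comp j) :
        L →+* Module.End F (Fin m ⊕ Fin m → F))
  have hsmul : ∀ (l : L) (x : Fin m ⊕ Fin m → F), l • x = (j l) *ᵥ x := fun l x => rfl
  haveI : IsScalarTower F L (Fin m ⊕ Fin m → F) := by
    refine ⟨fun c l x => ?_⟩
    rw [hsmul, hsmul, map_smul, Matrix.smul_mulVec]
  haveI : FiniteDimensional F L := Module.finite_of_finrank_pos hr.pos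
  haveI : Finite L := Module.finite_of_finite F
  haveI : FiniteDimensional L (Fin m ⊕ Fin m → F) :=
    Module.Finite.of_restrictScalars_finite F L (Fin m ⊕ Fin m → F)
  haveI : Nontrivial (Fin m ⊕ Fin m → F) := by
    haveI : Nonempty (Fin m ⊕ Fin m) := ⟨Sum.inl ⟨0, by omega⟩⟩
    infer_instance
  have hmul : finrank F L * finrank L (Fin m ⊕ Fin m → F) = 2 * m := by
    rw [Module.finrank_mul_finrank F L (Fin m ⊕ Fin m → F)]
    simp
    ring
  have hsa' : ∀ (l : L) (u v : Fin m ⊕ Fin m → F),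
      sympBil F m (l • u) v = sympBil F m u (l • v) := by
    intro l u v
    rw [sympBil_apply, sympBil_apply, hsmul, hsmul]
    exact hsa (j l) ⟨l, rfl⟩ u v
  have halt' : ∀ (l : L) (v : Fin m ⊕ Fin m → F), sympBil F m (l • v) v = 0 := by
    intro l v
    rw [sympBil_apply, hsmul]
    exact halt (j l) ⟨l, rfl⟩ v
  have h22' : (Nat.card F = 2 ∧ finrank F L = 2) → 3 ≤ finrank L (Fin m ⊕ Fin m → F) := by
    intro h
    have h3 := h22 h
    rw [h.2] at hmul
    omega
  obtain ⟨h1, h2⟩ := abstract_sp_max (F := F) (L := L) (V := Fin m ⊕ Fin m → F) hr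
    (sympBil F m) hsa' halt' (sympBil_nd m) h22'
  have e1 : subalgebraNormalizer j.range =
      (Nrm F L (Fin m ⊕ Fin m → F)).comap (thetaG F (Fin m ⊕ Fin m)).toMonoidHom := by
    ext g
    rw [Subgroup.mem_comap]
    exact (mem_NrmG_iff j hsmul g).symm
  have e2 : spGL m F = (SpF (sympBil F m)).comap (thetaG F (Fin m ⊕ Fin m)).toMonoidHom := by
    ext g
    rw [Subgroup.mem_comap]
    exact (mem_spGL_iff m g).symm
  have e3 : subalgebraNormalizer j.range ⊓ spGL m F =
      (Nrm F L (Fin m ⊕ Fin m → F) ⊓ SpF (sympBil F m)).comap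
        (thetaG F (Fin m ⊕ Fin m)).toMonoidHom := by
    rw [Subgroup.comap_inf, ← e1, ← e2]
  rw [e3, e2]
  exact isMaximalIn_comap (thetaG F (Fin m ⊕ Fin m)) h1 h2

end FinalSp

end Cfsg.Agent.Lib.Helper3.XS
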