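import Mathlib
import Cfsg.Agent.Lib.Helper1.PConstrainedOfPSolvable
import Cfsg.Agent.Lib.Helper1.PSolvSub
import Cfsg.Agent.Lib.Helper1.CoprimeSylow
import Cfsg.Agent.Lib.Helper2.CoprimeGen
import Cfsg.Agent.Lib.Helper2.Cores
import Cfsg.Agent.Lib.Helper7.PCore

set_option autoImplicit false

namespace Cfsg.Agent.Lib.Helper3.XT

open Cfsg
open scoped Pointwise

variable {G : Type*} [Group G] [Finite G]

theorem pPrimePCore_normal' (p : ℕ) : (pPrimePCore p G).Normal := by
  unfold pPrimePCore
  exact Subgroup.Normal.comap (Cfsg.Agent.Lib.Helper7.pCore_normal p _) _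

/-- abelian Sylow `p`-subgroups in a `p`-solvable group lie in `O_{p',p}(G)` -/
theorem sylow_le_pPrimePCore (p : ℕ) [Fact p.Prime] (hsolv : IsPSolvable p G) (P : Sylow p G)
    (hab : ∀ R : Subgroup G, IsPGroup p R → ∀ a ∈ R, ∀ b ∈ R, a * b = b * a) :
    (P : Subgroup G) ≤ pPrimePCore p G := by
  have hN₂ : (pPrimePCore p G).Normal := pPrimePCore_normal' p
  obtain ⟨P₀⟩ : Nonempty (Sylow p ↥(pPrimePCore p G)) := inferInstance
  have hcon : IsPConstrained p G :=
    Cfsg.Agent.Lib.Helper1.isPConstrained_of_isPSolvable_centralizer P₀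
      (Cfsg.Agent.Lib.Helper1.PSolvSub.isPSolvable_subgroup hsolv _)
  have hR₀ : IsPGroup p ((P₀ : Subgroup _).map (pPrimePCore p G).subtype) := P₀.isPGroup'.map _
  obtain ⟨P', hP'⟩ := hR₀.exists_le_sylow
  have h1 : (P' : Subgroup G) ≤ pPrimePCore p G := by
    refine le_trans ?_ (hcon P₀)
    intro x hx
    rw [Subgroup.mem_centralizer_iff]
    intro r hr
    exact hab P' P'.isPGroup' r (hP' hr) x hx
  obtain ⟨g, hg⟩ := MulAction.exists_smul_eq G P' P
  rw [← hg]
  intro x hx
  rw [Sylow.coe_subgroup_smul, Subgroup.mem_pointwise_smul_iff_inv_smul_mem] at hx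
  have h2 := h1 hx
  have h3 := hN₂.conj_mem _ h2 g
  rw [MulAut.smul_def, ← map_inv, MulAut.conj_apply] at h3
  simpa [mul_assoc] using h3

/-- if the abelian Sylow subgroup centralizes `O_{p'}(G)` it is normal -/
theorem sylow_normal_of_centralizes (p : ℕ) [Fact p.Prime] (P : Sylow p G)
    (hle : (P : Subgroup G) ≤ pPrimePCore p G)
    (hc : (P : Subgroup G) ≤ Subgroup.centralizer (pPrimeCore p G : Set G)) :
    (P : Subgroup G).Normal := by
  have hN₂ : (pPrimePCore p G).Normal := pPrimePCore_normal' p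
  have hsup := Cfsg.Agent.Lib.Helper1.sylow_pPrimePCore_sup (P.subtype hle)
  rw [Sylow.coe_subtype, Subgroup.map_subgroupOf_eq_of_le hle] at hsup
  have hN : pPrimePCore p G ≤ Subgroup.normalizer ((P : Subgroup G) : Set G) := by
    refine le_trans hsup (sup_le Subgroup.le_normalizer ?_)
    refine le_trans ?_ (Subgroup.centralizer_le_normalizer _)
    rw [Subgroup.le_centralizer_iff]
    exact hc
  apply Subgroup.normalizer_eq_top_iff.1
  apply eq_top_iff.2
  intro g _
  apply Sylow.smul_eq_iff_mem_normalizer.1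
  have hR : ((g • P : Sylow p G) : Subgroup G) ≤ pPrimePCore p G := by
    intro x hx
    rw [Sylow.coe_subgroup_smul, Subgroup.mem_pointwise_smul_iff_inv_smul_mem] at hx
    have h2 := hle hx
    have h3 := hN₂.conj_mem _ h2 g
    rw [MulAut.smul_def, ← map_inv, MulAut.conj_apply] at h3
    simpa [mul_assoc] using h3
  have h4 := IsPGroup.inf_normalizer_sylow (g • P).isPGroup' P
  have h5 : ((g • P : Sylow p G) : Subgroup G) ≤ P := by
    have h6 : ((g • P : Sylow p G) : Subgroup G) ≤ ((g • P : Sylow p G) : Subgroup G) ⊓ (P : Subgroup G) := by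
      rw [← h4]
      exact le_inf le_rfl (le_trans hR hN)
    exact le_trans h6 inf_le_right
  apply Sylow.ext
  exact ((g • P).is_maximal' P.isPGroup' h5).symm

/-- the group theoretic reduction: a `q`-subgroup acted on nontrivially by a `p`-element whose
`p`-th power acts trivially -/
theorem exists_q_action (p : ℕ) [Fact p.Prime] (hsolv : IsPSolvable p G) (P : Sylow p G)
    (hab : ∀ R : Subgroup G, IsPGroup p R → ∀ a ∈ R, ∀ b ∈ R, a * b = b * a)
    (hP : ¬ (P : Subgroup G).Normal) :
    ∃ (q : ℕ) (Q : Subgroup G) (y : G), q.Prime ∧ q ≠ p ∧ IsPGroup q Q ∧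
      y ∈ Subgroup.normalizer (Q : Set G) ∧ y ∉ Subgroup.centralizer (Q : Set G) ∧
      y ^ p ∈ Subgroup.centralizer (Q : Set G) := by
  classical
  have hp : p.Prime := Fact.out
  set K := pPrimeCore p G with hK
  have hKn : K.Normal := inferInstance
  have hKcop : (Nat.card K).Coprime p := Cfsg.Agent.Lib.Helper2.pPrimeCore_card_coprime p
  have hle := sylow_le_pPrimePCore p hsolv P hab
  have hnc : ¬ (P : Subgroup G) ≤ Subgroup.centralizer (K : Set G) :=
    fun h => hP (sylow_normal_of_centralizes p P hle h)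
  obtain ⟨y₀, hy₀P, hy₀c⟩ := Set.not_subset.1 hnc
  obtain ⟨j, hj⟩ := P.isPGroup' ⟨y₀, hy₀P⟩
  have hj' : y₀ ^ (p ^ j) = 1 := by simpa using congrArg Subtype.val hj
  -- choose the last power not centralizing K
  let Pr : ℕ → Prop := fun i => y₀ ^ (p ^ i) ∉ Subgroup.centralizer (K : Set G)
  have hP0 : Pr 0 := by simpa [Pr] using hy₀c
  set i := Nat.findGreatest Pr j with hi
  have hPi : Pr i := Nat.findGreatest_spec (Nat.zero_le j) hP0
  have hPi1 : ¬ Pr (i + 1) := by
    by_cases hij : i + 1 ≤ j
    · exact Nat.findGreatest_is_greatest (Nat.lt_succ_self i) hij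
    · have hle' : i ≤ j := Nat.findGreatest_le j
      have hij' : i = j := by omega
      exfalso
      apply hPi
      rw [hij', hj']
      exact Subgroup.one_mem _
  set y := y₀ ^ (p ^ i) with hy
  have hyP : y ∈ (P : Subgroup G) := (P : Subgroup G).pow_mem hy₀P _
  have hyc : y ∉ Subgroup.centralizer (K : Set G) := hPi
  have hypc : y ^ p ∈ Subgroup.centralizer (K : Set G) := by
    have : y ^ p = y₀ ^ (p ^ (i + 1)) := by rw [hy, ← pow_mul, pow_succ]
    rw [this]
    exact not_not.1 hPi1
  set A := Subgroup.zpowers y with hA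
  have hAK : A ≤ Subgroup.normalizer (K : Set G) := by
    rw [Subgroup.normalizer_eq_top_iff.2 hKn]; exact le_top
  have hAcop : (Nat.card A).Coprime (Nat.card K) := by
    have hAp : IsPGroup p A := P.isPGroup'.to_le (by rw [hA, Subgroup.zpowers_le]; exact hyP)
    obtain ⟨k, hk⟩ := IsPGroup.iff_card.1 hAp
    rw [hk]
    exact (Nat.Coprime.pow_right k hKcop).symm
  have hAsol : Group.IsSolvable A := by
    rw [hA]
    let _ : CommGroup (Subgroup.zpowers y) := IsCyclic.commGroup
    infer_instance
  by_contra hno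
  push Not at hno
  apply hyc
  -- K ≤ centralizer {y}
  have hKW : K ≤ Subgroup.centralizer ({y} : Set G) := by
    apply Cfsg.Agent.Lib.Helper2.le_of_forall_sylow_le
    intro q hq
    obtain ⟨Qq, hQq⟩ := Cfsg.Agent.Lib.Helper1.coprime_exists_invariant_sylow A K hAK hAcop
      (Or.inl hAsol) q
    refine ⟨Qq, ?_⟩
    by_contra hnot
    have hQle : (Qq : Subgroup K).map K.subtype ≤ K := Subgroup.map_subtype_le _
    have hyQc : y ∉ Subgroup.centralizer (((Qq : Subgroup K).map K.subtype : Subgroup G) : Set G) := by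
      intro hc
      apply hnot
      intro h hh
      rw [Subgroup.mem_centralizer_singleton_iff]
      exact (Subgroup.mem_centralizer_iff.1 hc h hh)
    have hQp : IsPGroup q ((Qq : Subgroup K).map K.subtype) := Qq.isPGroup'.map _
    have hqp : q ≠ p := by
      intro hqp
      apply hyQc
      have hbot : (Qq : Subgroup K).map K.subtype = ⊥ := by
        rw [Subgroup.eq_bot_iff_forall]
        intro x hx
        obtain ⟨k, hk⟩ := hQp ⟨x, hx⟩
        have hk' : x ^ (q ^ k) = 1 := by simpa using congrArg Subtype.val hk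
        have h1 : orderOf x ∣ q ^ k := orderOf_dvd_of_pow_eq_one hk'
        have h2 : orderOf x ∣ Nat.card K := Subgroup.orderOf_dvd_natCard K (hQle hx)
        have h3 : (q ^ k).Coprime (Nat.card K) := by
          rw [hqp]; exact (Nat.Coprime.pow_right k hKcop).symm
        have h4 : orderOf x = 1 := Nat.eq_one_of_dvd_coprimes h3 h1 h2
        exact orderOf_eq_one_iff.1 h4
      rw [hbot]
      rw [Subgroup.mem_centralizer_iff]
      intro h hh
      rw [Subgroup.mem_bot.1 hh]; simp
    exact hno q _ y hq.out hqp hQp (hQq (Subgroup.mem_zpowers y)) hyQc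
      (Subgroup.centralizer_le hQle hypc)
  rw [Subgroup.mem_centralizer_iff]
  intro k hk
  have := hKW hk
  rw [Subgroup.mem_centralizer_singleton_iff] at this
  exact this

end Cfsg.Agent.Lib.Helper3.XT
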