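import Mathlib
import Cfsg.Agent.Lib.Helper3.XT1
import Cfsg.Agent.Lib.Helper6.Linear
import Cfsg.Agent.Lib.Helper6.Auto

set_option autoImplicit false

namespace Cfsg.Agent.Lib.Helper3.XT

open Cfsg Cfsg.Agent.Lib.Helper6 Cfsg.Agent.Lib.Helper3.GlauCyc Module
open scoped ComplexConjugate

variable {G₀ : Type*} [Group G₀] [Finite G₀]

/-- the core lemma inside an ambient group -/
theorem core_ambient (H S : Subgroup G₀)
    (hSH : S ≤ Subgroup.normalizer (H : Set G₀))
    (hcop : (Nat.card H).Coprime (Nat.card S)) (hcyc : IsCyclic S)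
    (hfpf : ∀ x ∈ S, x ≠ 1 → H ⊓ Subgroup.centralizer ({x} : Set G₀)
      ≤ Subgroup.centralizer (S : Set G₀))
    {φ : H → ℂ} (hφ : IsIrrCharacter H φ)
    (hinv : ∀ s ∈ S, ∀ h h' : H, (h' : G₀) = s * h * s⁻¹ → φ h' = φ h)
    (hnum : charDegree φ = 1 ∨ charDegree φ + 2 ≤ Nat.card S) :
    ∀ x ∈ S, ∀ h h' : H, (h' : G₀) = h * x * (h : G₀)⁻¹ * x⁻¹ → φ h' = φ 1 := by
  classical
  have hconj : ∀ s ∈ S, ∀ h ∈ H, s * h * s⁻¹ ∈ H := fun s hs h hh =>
    (Subgroup.mem_normalizer_iff.1 (hSH hs) h).1 hh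
  rcases hnum with h1 | hnum
  · -- linear case
    have hφ1 : φ 1 = 1 := by
      rw [IsCharacter.apply_one_eq_charDegree (IsIrrCharacter.isCharacter hφ), h1]; simp
    have hmul := IsCharacter.mul_of_apply_one_eq_one (IsIrrCharacter.isCharacter hφ) hφ1
    intro x hx h h' hh'
    have hk : x * (h : G₀)⁻¹ * x⁻¹ ∈ H := hconj x hx _ (H.inv_mem h.2)
    have e1 : h' = h * ⟨x * (h : G₀)⁻¹ * x⁻¹, hk⟩ := by
      apply Subtype.ext
      rw [hh']; simp [mul_assoc]
    have e2 : φ ⟨x * (h : G₀)⁻¹ * x⁻¹, hk⟩ = φ h⁻¹ := hinv x hx h⁻¹ _ (by simp)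
    rw [e1, hmul, e2, ← hmul, mul_inv_cancel]
  · set K : Subgroup G₀ := H ⊔ S with hK
    have hHK : H ≤ K := le_sup_left
    have hSK : S ≤ K := le_sup_right
    have : Fintype K := Fintype.ofFinite _
    let e : H.subgroupOf K ≃* H := Subgroup.subgroupOfEquivOfLe hHK
    have hcardH : Nat.card (H.subgroupOf K) = Nat.card H := Nat.card_congr e.toEquiv
    have hcardS : Nat.card (S.subgroupOf K) = Nat.card S :=
      Nat.card_congr (Subgroup.subgroupOfEquivOfLe hSK).toEquiv
    have hφ' : IsIrrCharacter (H.subgroupOf K) (fun g => φ (e g)) :=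
      IsIrrCharacter.comp_mulEquiv e hφ
    have hdeg' : charDegree (fun g : H.subgroupOf K => φ (e g)) = charDegree φ := by
      unfold charDegree
      show ⌊(φ (e 1)).re⌋₊ = ⌊(φ 1).re⌋₊
      rw [map_one]
    have key := core_abstract (H.subgroupOf K) (S.subgroupOf K) ?_ ?_ ?_ ?_ ?_ hφ' ?_ ?_
    · intro x hx h h' hh'
      have hcm : (h : G₀) * x * (h : G₀)⁻¹ * x⁻¹ ∈ H := by rw [← hh']; exact h'.2
      have := key ⟨x, hSK hx⟩ (Subgroup.mem_subgroupOf.2 hx) (e.symm h) (e.symm h') ?_
      · simpa using this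
      · show ((e.symm h' : H.subgroupOf K) : K) = _
        apply Subtype.ext
        show (((e.symm h' : H.subgroupOf K) : K) : G₀) = _
        have h1 : ∀ y : H, (((e.symm y : H.subgroupOf K) : K) : G₀) = (y : G₀) := by
          intro y
          have := congrArg (fun z : H => (z : G₀)) (e.apply_symm_apply y)
          exact this
        rw [h1, hh']
        simp [h1]
    · intro s hs g hg
      rw [Subgroup.mem_subgroupOf] at hs hg ⊢
      simpa using hconj _ hs _ hg
    · rw [hcardH, hcardS]; exact hcop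
    · exact codisjoint_iff.1 (Subgroup.codisjoint_subgroupOf_sup H S)
    · exact (Subgroup.subgroupOfEquivOfLe hSK).symm.isCyclic.1 hcyc
    · intro x hx hx1
      apply le_antisymm
      · intro g hg
        obtain ⟨hgH, hgc⟩ := Subgroup.mem_inf.1 hg
        refine Subgroup.mem_inf.2 ⟨hgH, ?_⟩
        rw [Subgroup.mem_subgroupOf] at hx hgH
        have hx1' : (x : G₀) ≠ 1 := fun h => hx1 (Subtype.ext h)
        have hgc' : (g : G₀) ∈ Subgroup.centralizer ({(x : G₀)} : Set G₀) := by
          rw [Subgroup.mem_centralizer_iff]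
          intro y hy
          rw [Set.mem_singleton_iff] at hy
          rw [hy]
          have := Subgroup.mem_centralizer_iff.1 hgc x rfl
          exact congrArg Subtype.val this
        have h2 := hfpf _ hx hx1' (Subgroup.mem_inf.2 ⟨hgH, hgc'⟩)
        rw [Subgroup.mem_centralizer_iff]
        intro s hs
        apply Subtype.ext
        exact Subgroup.mem_centralizer_iff.1 h2 _ (Subgroup.mem_subgroupOf.1 hs)
      · apply inf_le_inf_left
        apply Subgroup.centralizer_le
        intro y hy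
        rw [Set.mem_singleton_iff] at hy
        rw [hy]; exact hx
    · intro s hs g g' hgg'
      show φ (e g') = φ (e g)
      apply hinv (s : G₀) (Subgroup.mem_subgroupOf.1 hs)
      have := congrArg (fun z : K => (z : G₀)) hgg'
      exact this
    · rw [hdeg', hcardS]; exact hnum

end Cfsg.Agent.Lib.Helper3.XT
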