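import Mathlib
import Cfsg.Agent.Lib.Helper3.XT2

set_option autoImplicit false

namespace Cfsg.Agent.Lib.Helper3.XT

open Cfsg Cfsg.Agent.Lib.Helper6 Module
open scoped ComplexConjugate

section primeMod

variable {G₀ : Type*} [Group G₀]

/-- conjugation by a normalizing element as an automorphism of the subgroup -/
def conjAut (Q : Subgroup G₀) (y : G₀) (hy : y ∈ Subgroup.normalizer (Q : Set G₀)) : MulAut Q where
  toFun h := ⟨y * h * y⁻¹, (Subgroup.mem_normalizer_iff.1 hy h).1 h.2⟩
  invFun h := ⟨y⁻¹ * h * y, by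
    have := (Subgroup.mem_normalizer_iff.1 (Subgroup.inv_mem _ hy) h).1 h.2
    simpa using this⟩
  left_inv h := by apply Subtype.ext; simp [mul_assoc]
  right_inv h := by apply Subtype.ext; simp [mul_assoc]
  map_mul' a b := by apply Subtype.ext; simp [mul_assoc]

theorem conjAut_apply (Q : Subgroup G₀) (y : G₀) (hy : y ∈ Subgroup.normalizer (Q : Set G₀))
    (h : Q) : ((conjAut Q y hy h : Q) : G₀) = y * h * y⁻¹ := rfl

theorem conjAut_pow_apply (Q : Subgroup G₀) (y : G₀) (hy : y ∈ Subgroup.normalizer (Q : Set G₀))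
    (k : ℕ) (h : Q) : (((conjAut Q y hy ^ k) h : Q) : G₀) = y ^ k * h * (y ^ k)⁻¹ := by
  induction k generalizing h with
  | zero => simp
  | succ k ih =>
    rw [pow_succ, MulAut.mul_apply, ih, conjAut_apply, pow_succ]
    simp [mul_assoc]

variable [Finite G₀]

/-- an element `y` of `p`-power order with `y ^ p` centralizing the `p'`-group `Q`: an invariant
irreducible character of `Q` of degree `1` or at most `p - 2` has all `[h, y]` in its kernel -/
theorem core_prime_mod (p : ℕ) [Fact p.Prime] (Q : Subgroup G₀) (y : G₀)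
    (hyQ : y ∈ Subgroup.normalizer (Q : Set G₀))
    (hcop : (Nat.card Q).Coprime p)
    (hypc : y ^ p ∈ Subgroup.centralizer (Q : Set G₀))
    {φ : Q → ℂ} (hφ : IsIrrCharacter Q φ)
    (hinv : ∀ h h' : Q, (h' : G₀) = y * h * y⁻¹ → φ h' = φ h)
    (hnum : charDegree φ = 1 ∨ charDegree φ + 2 ≤ p) :
    ∀ h h' : Q, (h' : G₀) = h * y * (h : G₀)⁻¹ * y⁻¹ → φ h' = φ 1 := by
  classical
  have hp : p.Prime := Fact.out
  by_cases hyc : y ∈ Subgroup.centralizer (Q : Set G₀)
  · intro h h' hh'
    have h1 : h' = 1 := by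
      apply Subtype.ext
      rw [hh']
      have h2 : (h : G₀) * y = y * h := Subgroup.mem_centralizer_iff.1 hyc h h.2
      rw [h2]
      simp
    rw [h1]
  set α : MulAut Q := conjAut Q y hyQ with hα
  have hαp : α ^ p = 1 := by
    apply MulEquiv.ext
    intro h
    apply Subtype.ext
    rw [hα, conjAut_pow_apply]
    have h2 : (h : G₀) * y ^ p = y ^ p * h := Subgroup.mem_centralizer_iff.1 hypc h h.2
    rw [← h2]
    simp
  have hα1 : α ≠ 1 := by
    intro h1
    apply hyc
    rw [Subgroup.mem_centralizer_iff]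
    intro h hh
    have h2 := congrArg (fun a : MulAut Q => ((a ⟨h, hh⟩ : Q) : G₀)) h1
    simp only [hα, conjAut_apply, MulAut.one_apply] at h2
    calc h * y = (y * h * y⁻¹) * y := by rw [h2]
      _ = y * h := by group
  have hαord : orderOf α = p := by
    rcases (Nat.dvd_prime hp).1 (orderOf_dvd_of_pow_eq_one hαp) with h | h
    · exact absurd (orderOf_eq_one_iff.1 h) hα1
    · exact h
  set S₀ : Subgroup (MulAut Q) := Subgroup.zpowers α with hS₀
  have hS₀card : Nat.card S₀ = p := by rw [hS₀, Nat.card_zpowers, hαord]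
  have : Finite S₀ := Nat.finite_of_card_ne_zero (by rw [hS₀card]; exact hp.pos.ne')
  -- invariance under all of S₀
  have hinvS : ∀ a ∈ S₀, ∀ u : Q, φ (a u) = φ u := by
    let I : Subgroup (MulAut Q) :=
      { carrier := {a | ∀ u : Q, φ (a u) = φ u}
        mul_mem' := by
          intro a b ha hb u
          rw [MulAut.mul_apply, ha, hb]
        one_mem' := by intro u; rfl
        inv_mem' := by
          intro a ha u
          have := ha (a⁻¹ u)
          rw [MulAut.apply_inv_self] at this
          exact this.symm }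
    have h1 : S₀ ≤ I := by
      rw [hS₀, Subgroup.zpowers_le]
      intro u
      exact hinv u _ rfl
    exact fun a ha => h1 ha
  let Γ := Q ⋊[S₀.subtype] S₀
  have : Finite Γ := Finite.of_equiv _ SemidirectProduct.equivProd.symm
  set H : Subgroup Γ := (SemidirectProduct.inl : Q →* Γ).range with hH
  set S : Subgroup Γ := (SemidirectProduct.inr : S₀ →* Γ).range with hS
  let e : Q ≃* H := MonoidHom.ofInjective SemidirectProduct.inl_injective
  let eS : S₀ ≃* S := MonoidHom.ofInjective SemidirectProduct.inr_injective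
  have he : ∀ u : Q, ((e u : H) : Γ) = SemidirectProduct.inl u := fun u => rfl
  have hHn : H.Normal := by
    rw [hH, SemidirectProduct.range_inl_eq_ker_rightHom]
    exact MonoidHom.normal_ker _
  have hcardH : Nat.card H = Nat.card Q := (Nat.card_congr e.toEquiv).symm
  have hcardS : Nat.card S = p := by rw [← hS₀card]; exact (Nat.card_congr eS.toEquiv).symm
  have hφ' : IsIrrCharacter H (fun h => φ (e.symm h)) := IsIrrCharacter.comp_mulEquiv e.symm hφ
  have hdeg' : charDegree (fun h : H => φ (e.symm h)) = charDegree φ := by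
    unfold charDegree
    show ⌊(φ (e.symm 1)).re⌋₊ = ⌊(φ 1).re⌋₊
    rw [map_one]
  have key := core_ambient H S ?_ ?_ ?_ ?_ hφ' ?_ ?_
  · intro h h' hh'
    have hmem : (SemidirectProduct.inr ⟨α, Subgroup.mem_zpowers α⟩ : Γ) ∈ S := ⟨_, rfl⟩
    have := key _ hmem (e h) (e h') ?_
    · simpa using this
    · rw [he, he]
      have h3 : (SemidirectProduct.inl h : Γ) * SemidirectProduct.inr ⟨α, Subgroup.mem_zpowers α⟩
          * (SemidirectProduct.inl h)⁻¹ * (SemidirectProduct.inr ⟨α, Subgroup.mem_zpowers α⟩)⁻¹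
          = SemidirectProduct.inl (h * (α h⁻¹)) := by
        rw [map_mul, ← map_inv, ← map_inv]
        have := SemidirectProduct.inl_aut (φ := S₀.subtype) ⟨α, Subgroup.mem_zpowers α⟩ h⁻¹
        simp only [Subgroup.subtype_apply] at this
        rw [this]
        simp [mul_assoc]
      rw [h3]
      congr 1
      apply Subtype.ext
      rw [hh', Subgroup.coe_mul, hα, conjAut_apply]
      simp [mul_assoc]
  · rw [Subgroup.normalizer_eq_top_iff.2 hHn]; exact le_top
  · rw [hcardH, hcardS]; exact hcop
  · exact eS.isCyclic.1 (by rw [hS₀]; infer_instance)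
  · intro x hx hx1 g hg
    obtain ⟨hgH, hgc⟩ := Subgroup.mem_inf.1 hg
    have hgx : g * x = x * g := Subgroup.mem_centralizer_singleton_iff.1 hgc
    haveI : Fact p.Prime := ⟨hp⟩
    have htop : Subgroup.zpowers (⟨x, hx⟩ : S) = ⊤ :=
      zpowers_eq_top_of_prime_card hcardS (fun h => hx1 (congrArg Subtype.val h))
    rw [Subgroup.mem_centralizer_iff]
    intro s hs
    have h1 : (⟨s, hs⟩ : S) ∈ Subgroup.zpowers (⟨x, hx⟩ : S) := by rw [htop]; trivial
    obtain ⟨k, hk⟩ := Subgroup.mem_zpowers_iff.1 h1
    have hk' : x ^ k = s := by simpa using congrArg Subtype.val hk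
    rw [← hk']
    exact ((Commute.zpow_right (show Commute g x from hgx) k).eq).symm
  · intro s hs h h' hh'
    obtain ⟨a, rfl⟩ := hs
    show φ (e.symm h') = φ (e.symm h)
    have h1 : (SemidirectProduct.inr a : Γ) * (h : Γ) * (SemidirectProduct.inr a)⁻¹
        = SemidirectProduct.inl ((a : MulAut Q) (e.symm h)) := by
      have := SemidirectProduct.inl_aut (φ := S₀.subtype) a (e.symm h)
      simp only [Subgroup.subtype_apply] at this
      rw [this, ← he, MulEquiv.apply_symm_apply, map_inv]
    rw [h1] at hh'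
    have h2 : h' = e ((a : MulAut Q) (e.symm h)) := Subtype.ext hh'
    rw [h2, MulEquiv.symm_apply_apply]
    exact hinvS a a.2 _
  · rw [hdeg', hcardS]; exact hnum

end primeMod

end Cfsg.Agent.Lib.Helper3.XT
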