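import Mathlib
import Cfsg.Agent.Lib.Helper3.XT7
import Cfsg.Agent.Lib.Helper6.Multiplicity
import Cfsg.Agent.Lib.Helper6.Constituent

set_option autoImplicit false

namespace Cfsg.Agent.Lib.Helper3.XT

open Cfsg Cfsg.Agent.Lib.Helper6 Module
open scoped ComplexConjugate

/-- a faithful character of degree `< p`: all `p`-subgroups are abelian -/
theorem comm_of_faithful_small {G : Type*} [Group G] [Finite G] {χ : G → ℂ}
    (hχ : IsCharacter G χ) (hfaith : ∀ g : G, χ g = χ 1 → g = 1) (p : ℕ) [Fact p.Prime]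
    (hdeg : charDegree χ < p) (R : Subgroup G) (hR : IsPGroup p R) :
    ∀ a ∈ R, ∀ b ∈ R, a * b = b * a := by
  classical
  have hp : p.Prime := Fact.out
  intro a ha b hb
  have : Fintype R := Fintype.ofFinite _
  have : Fintype (IrrCharacter R) := Fintype.ofFinite _
  have hχR : IsCharacter R (fun r : R => χ r) := IsCharacter.restrict R hχ
  obtain ⟨m, hm, hmi⟩ := IsCharacter.exists_mult hχR
  have hw : a * b * a⁻¹ * b⁻¹ ∈ R :=
    R.mul_mem (R.mul_mem (R.mul_mem ha hb) (R.inv_mem ha)) (R.inv_mem hb)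
  have hdegR : charDegree (fun r : R => χ r) = charDegree χ := by
    unfold charDegree; rfl
  have key : ∀ lam : IrrCharacter R, m lam ≠ 0 →
      (lam : R → ℂ) ⟨_, hw⟩ = (lam : R → ℂ) 1 := by
    intro lam hlam
    have h1 : charDegree (lam : R → ℂ) ≤ charDegree χ := by
      rw [← hdegR]
      exact IsCharacter.charDegree_le hχR lam.2 (by rw [hmi]; exact_mod_cast hlam)
    have h2 : charDegree (lam : R → ℂ) ∣ Nat.card R := IsIrrCharacter.charDegree_dvd_card lam.2
    obtain ⟨k, hk⟩ := IsPGroup.iff_card.1 hR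
    rw [hk] at h2
    obtain ⟨j, _, hj⟩ := (Nat.dvd_prime_pow hp).1 h2
    have hj0 : j = 0 := by
      by_contra hj0
      have : p ≤ p ^ j := Nat.le_self_pow hj0 p
      omega
    rw [hj0, pow_zero] at hj
    have hl1 : (lam : R → ℂ) 1 = 1 := by
      rw [IsCharacter.apply_one_eq_charDegree (IsIrrCharacter.isCharacter lam.2), hj]; simp
    have hmul := IsCharacter.mul_of_apply_one_eq_one (IsIrrCharacter.isCharacter lam.2) hl1
    have e : (⟨_, hw⟩ : R) = ⟨a, ha⟩ * ⟨b, hb⟩ * (⟨a, ha⟩ : R)⁻¹ * (⟨b, hb⟩ : R)⁻¹ := rfl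
    rw [e, hmul, hmul, hmul]
    have e1 : (lam : R → ℂ) ⟨a, ha⟩ * (lam : R → ℂ) (⟨a, ha⟩ : R)⁻¹ = 1 := by
      rw [← hmul, mul_inv_cancel, hl1]
    have e2 : (lam : R → ℂ) ⟨b, hb⟩ * (lam : R → ℂ) (⟨b, hb⟩ : R)⁻¹ = 1 := by
      rw [← hmul, mul_inv_cancel, hl1]
    calc (lam : R → ℂ) ⟨a, ha⟩ * (lam : R → ℂ) ⟨b, hb⟩ * (lam : R → ℂ) (⟨a, ha⟩ : R)⁻¹
          * (lam : R → ℂ) (⟨b, hb⟩ : R)⁻¹
        = ((lam : R → ℂ) ⟨a, ha⟩ * (lam : R → ℂ) (⟨a, ha⟩ : R)⁻¹)
          * ((lam : R → ℂ) ⟨b, hb⟩ * (lam : R → ℂ) (⟨b, hb⟩ : R)⁻¹) := by ring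
      _ = (lam : R → ℂ) 1 := by rw [e1, e2, hl1]; ring
  have e1 := congrFun hm ⟨_, hw⟩
  have e2 := congrFun hm 1
  simp only [Finset.sum_apply, Pi.smul_apply] at e1 e2
  have e3 : χ (a * b * a⁻¹ * b⁻¹) = χ 1 := by
    change χ ((⟨_, hw⟩ : R) : G) = χ ((1 : R) : G)
    rw [e1, e2]
    apply Finset.sum_congr rfl
    intro lam _
    by_cases hl : m lam = 0
    · simp [hl]
    · rw [key lam hl]
  have h4 := hfaith _ e3
  calc a * b = (a * b * a⁻¹ * b⁻¹) * (b * a) := by group
    _ = b * a := by rw [h4, one_mul]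

/-- an irreducible constituent of an `α`-invariant character of degree `< p` is `α`-invariant,
for an automorphism `α` with `α ^ p = 1` -/
theorem comp_aut_eq_of_small {Q : Type*} [Group Q] [Fintype Q] (p : ℕ) [Fact p.Prime]
    (α : MulAut Q) (hα : α ^ p = 1)
    {ψ : Q → ℂ} (hψ : IsCharacter Q ψ) (hψα : ∀ u, ψ (α u) = ψ u) (hdeg : charDegree ψ < p)
    {θ : Q → ℂ} (hθ : IsIrrCharacter Q θ) (hc : classInner ψ θ ≠ 0) :
    ∀ u, θ (α u) = θ u := by
  classical
  have hp : p.Prime := Fact.out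
  have : Fintype (IrrCharacter Q) := Fintype.ofFinite _
  by_contra hnot
  -- the stabilizer of θ
  let I : Subgroup (MulAut Q) :=
    { carrier := {a | ∀ u : Q, θ (a u) = θ u}
      mul_mem' := by
        intro a b ha hb u
        rw [MulAut.mul_apply, ha, hb]
      one_mem' := by intro u; rfl
      inv_mem' := by
        intro a ha u
        have := ha (a⁻¹ u)
        rw [MulAut.apply_inv_self] at this
        exact this.symm }
  have hαI : α ∉ I := hnot
  -- ψ is invariant under all powers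
  have hψpow : ∀ i : ℕ, ∀ u, ψ ((α ^ i) u) = ψ u := by
    intro i
    induction i with
    | zero => intro u; rfl
    | succ i ih =>
      intro u
      rw [pow_succ, MulAut.mul_apply, ih, hψα]
  let f : ℕ → IrrCharacter Q := fun i =>
    ⟨fun u => θ ((α ^ i) u), IsIrrCharacter.comp_mulEquiv (α ^ i) hθ⟩
  obtain ⟨m, hm, hmi⟩ := IsCharacter.exists_mult hψ
  have hmf : ∀ i, m (f i) = m ⟨θ, hθ⟩ := by
    intro i
    have h1 : classInner ψ ((f i : IrrCharacter Q) : Q → ℂ) = classInner ψ θ := by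
      have h2 := classInner_comp_mulEquiv (α ^ i) ψ θ
      have h3 : (fun u => ψ ((α ^ i) u)) = ψ := funext (hψpow i)
      rw [h3] at h2
      exact h2
    have h4 := hmi (f i)
    have h5 := hmi ⟨θ, hθ⟩
    rw [h1] at h4
    rw [h4] at h5
    exact_mod_cast h5
  have hm0 : m ⟨θ, hθ⟩ ≠ 0 := by
    intro h
    apply hc
    rw [hmi ⟨θ, hθ⟩, h]; simp
  have hinj : Set.InjOn f (Finset.range p : Set ℕ) := by
    intro i hi j hj hij
    by_contra hne
    wlog hlt : i < j generalizing i j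
    · exact this hj hi hij.symm (Ne.symm hne) (by omega)
    have hi' : i < p := Finset.mem_range.1 hi
    have hj' : j < p := Finset.mem_range.1 hj
    -- α ^ (j - i) ∈ I
    have hd : α ^ (j - i) ∈ I := by
      intro v
      have h1 := congrFun (congrArg (fun x : IrrCharacter Q => (x : Q → ℂ)) hij) ((α ^ i)⁻¹ v)
      simp only [f] at h1
      have h2 : (α ^ j) ((α ^ i)⁻¹ v) = (α ^ (j - i)) v := by
        have : α ^ j = α ^ (j - i) * α ^ i := by rw [← pow_add]; congr 1; omega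
        rw [this, MulAut.mul_apply, MulAut.apply_inv_self]
      rw [MulAut.apply_inv_self, h2] at h1
      exact h1.symm
    apply hαI
    have hcop : Nat.Coprime (j - i) p := by
      rw [Nat.coprime_comm]
      apply (Nat.Prime.coprime_iff_not_dvd hp).2
      intro hdvd
      have := Nat.le_of_dvd (by omega) hdvd
      omega
    obtain ⟨e, _, he⟩ := Nat.exists_mul_mod_eq_one_of_coprime hcop hp.one_lt
    have h3 : α = (α ^ (j - i)) ^ e := by
      rw [← pow_mul, pow_eq_pow_mod _ hα, he, pow_one]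
    rw [h3]
    exact I.pow_mem hd e
  -- counting degrees
  have hdegsum : charDegree ψ = ∑ ξ : IrrCharacter Q, m ξ * charDegree (ξ : Q → ℂ) := by
    have h1 := congrFun hm 1
    simp only [Finset.sum_apply, Pi.smul_apply] at h1
    rw [IsCharacter.apply_one_eq_charDegree hψ] at h1
    have h2 : ∀ ξ : IrrCharacter Q, m ξ • (ξ : Q → ℂ) 1 = ((m ξ * charDegree (ξ : Q → ℂ) : ℕ) : ℂ) := by
      intro ξ
      rw [IsCharacter.apply_one_eq_charDegree (IsIrrCharacter.isCharacter ξ.2)]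
      simp
    simp_rw [h2] at h1
    exact_mod_cast h1
  have hge : p ≤ charDegree ψ := by
    rw [hdegsum]
    calc p = ∑ _i ∈ Finset.range p, 1 := by simp
      _ ≤ ∑ i ∈ Finset.range p, m (f i) * charDegree ((f i : IrrCharacter Q) : Q → ℂ) := by
          apply Finset.sum_le_sum
          intro i _
          have h1 : 1 ≤ m (f i) := by rw [hmf]; exact Nat.one_le_iff_ne_zero.2 hm0
          have h2 : 1 ≤ charDegree ((f i : IrrCharacter Q) : Q → ℂ) :=
            IsIrrCharacter.charDegree_pos (f i).2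
          calc 1 = 1 * 1 := by norm_num
            _ ≤ _ := Nat.mul_le_mul h1 h2
      _ = ∑ ξ ∈ (Finset.range p).image f, m ξ * charDegree (ξ : Q → ℂ) :=
          (Finset.sum_image (f := fun ξ : IrrCharacter Q => m ξ * charDegree (ξ : Q → ℂ)) hinj).symm
      _ ≤ ∑ ξ : IrrCharacter Q, m ξ * charDegree (ξ : Q → ℂ) :=
          Finset.sum_le_sum_of_subset (Finset.subset_univ _)
  omega

end Cfsg.Agent.Lib.Helper3.XT
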