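import Mathlib
import Cfsg.Agent.Lib.Helper3.XT8
import Cfsg.Agent.Lib.Helper3.XT9
import Cfsg.Agent.Lib.Helper6.CharMisc
import Cfsg.Agent.Lib.Helper6.IrrBasis

set_option autoImplicit false

namespace Cfsg.Agent.Lib.Helper3.XT

open Cfsg Cfsg.Agent.Lib.Helper6 Module
open scoped ComplexConjugate

/-- Ito: a `p`-solvable group with a faithful character of degree `n ≤ p - 1` and a non-normal
Sylow `p`-subgroup: `n = p - 1` is a power of `2` and the character is irreducible -/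
theorem ito_main {G : Type*} [Group G] [Finite G] (χ : G → ℂ) (hχ : IsCharacter G χ)
    (hfaith : ∀ g : G, χ g = χ 1 → g = 1) (n : ℕ) (hn : charDegree χ = n) (p : ℕ)
    (hp : p.Prime) (hsolv : IsPSolvable p G) (hnp : n + 1 ≤ p) (P : Sylow p G)
    (hP : ¬ (P : Subgroup G).Normal) :
    n + 1 = p ∧ (∃ k : ℕ, n = 2 ^ k) ∧ IsIrrCharacter G χ := by
  classical
  haveI : Fact p.Prime := ⟨hp⟩
  have hdeg : charDegree χ < p := by omega
  have hab : ∀ R : Subgroup G, IsPGroup p R → ∀ a ∈ R, ∀ b ∈ R, a * b = b * a :=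
    fun R hR => comm_of_faithful_small hχ hfaith p hdeg R hR
  obtain ⟨q, Q, y, hq, hqp, hQq, hyN, hyC, hypC⟩ := exists_q_action p hsolv P hab hP
  haveI : Fact q.Prime := ⟨hq⟩
  have : Fintype G := Fintype.ofFinite _
  have : Fintype Q := Fintype.ofFinite _
  have : Fintype (IrrCharacter Q) := Fintype.ofFinite _
  have : Fintype (IrrCharacter G) := Fintype.ofFinite _
  obtain ⟨k, hk⟩ := IsPGroup.iff_card.1 hQq
  have hcop : (Nat.card Q).Coprime p := by
    rw [hk]; exact Nat.Coprime.pow_left k ((Nat.coprime_primes hq hp).2 hqp)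
  set α : MulAut Q := conjAut Q y hyN with hα
  have hαp : α ^ p = 1 := by
    apply MulEquiv.ext
    intro h
    apply Subtype.ext
    rw [hα, conjAut_pow_apply]
    have h2 : (h : G) * y ^ p = y ^ p * h := Subgroup.mem_centralizer_iff.1 hypC h h.2
    rw [← h2]
    simp
  -- a nontrivial commutator
  obtain ⟨h₀, hh₀, hw⟩ : ∃ h₀ ∈ Q, h₀ * y * h₀⁻¹ * y⁻¹ ≠ 1 := by
    by_contra hno
    push Not at hno
    apply hyC
    rw [Subgroup.mem_centralizer_iff]
    intro h hh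
    have h1 := hno h hh
    calc h * y = (h * y * h⁻¹ * y⁻¹) * (y * h) := by group
      _ = y * h := by rw [h1, one_mul]
  have hwQ : h₀ * y * h₀⁻¹ * y⁻¹ ∈ Q := by
    have h1 := (Subgroup.mem_normalizer_iff.1 hyN h₀⁻¹).1 (Q.inv_mem hh₀)
    have h2 := Q.mul_mem hh₀ h1
    simpa [mul_assoc] using h2
  have hχQ : IsCharacter Q (fun u : Q => χ u) := IsCharacter.restrict Q hχ
  have hdegQ : charDegree (fun u : Q => χ u) = charDegree χ := by
    unfold charDegree; rfl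
  obtain ⟨m, hm, hmi⟩ := IsCharacter.exists_mult hχQ
  have hex : ∃ θ : IrrCharacter Q, m θ ≠ 0 ∧
      (θ : Q → ℂ) ⟨_, hwQ⟩ ≠ (θ : Q → ℂ) 1 := by
    by_contra hno
    push Not at hno
    apply hw
    apply hfaith
    have e1 := congrFun hm ⟨_, hwQ⟩
    have e2 := congrFun hm 1
    simp only [Finset.sum_apply, Pi.smul_apply] at e1 e2
    change χ ((⟨_, hwQ⟩ : Q) : G) = χ ((1 : Q) : G)
    rw [e1, e2]
    apply Finset.sum_congr rfl
    intro ξ _
    by_cases hξ : m ξ = 0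
    · simp [hξ]
    · rw [hno ξ hξ]
  obtain ⟨θ, hmθ, hθw⟩ := hex
  have hcθ : classInner (fun u : Q => χ u) (θ : Q → ℂ) ≠ 0 := by
    rw [hmi]; exact_mod_cast hmθ
  have hχα : ∀ u : Q, (fun u : Q => χ u) (α u) = (fun u : Q => χ u) u := by
    intro u
    show χ ((α u : Q) : G) = χ u
    rw [hα, conjAut_apply]
    exact IsCharacter.isClassFunction hχ u y
  have hθinv : ∀ u, (θ : Q → ℂ) (α u) = (θ : Q → ℂ) u :=
    comp_aut_eq_of_small p α hαp hχQ hχα (by rw [hdegQ]; exact hdeg) θ.2 hcθ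
  have hθle : charDegree (θ : Q → ℂ) ≤ n := by
    rw [← hn, ← hdegQ]; exact IsCharacter.charDegree_le hχQ θ.2 hcθ
  have hθbig : ¬ (charDegree (θ : Q → ℂ) = 1 ∨ charDegree (θ : Q → ℂ) + 2 ≤ p) := by
    intro hnum
    apply hθw
    refine core_prime_mod p Q y hyN hcop hypC θ.2 ?_ hnum ⟨h₀, hh₀⟩ ⟨_, hwQ⟩ rfl
    intro h h' hh'
    rw [← hθinv h]
    have h3 : h' = α h := Subtype.ext (by rw [hh', hα, conjAut_apply])
    rw [h3]
  push Not at hθbig
  obtain ⟨hθ1, hθ2⟩ := hθbig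
  have hθn : charDegree (θ : Q → ℂ) = n := by omega
  have hnp' : n + 1 = p := by omega
  have hdvd := IsIrrCharacter.charDegree_dvd_card θ.2
  rw [hk] at hdvd
  obtain ⟨b, _, hb⟩ := (Nat.dvd_prime_pow hq).1 hdvd
  have hb0 : b ≠ 0 := by
    intro h0
    apply hθ1
    rw [hb, h0, pow_zero]
  have hq2 : q = 2 := by
    have hp2 : p ≠ 2 := by
      intro hp2
      apply hθ1
      omega
    have hodd : Odd p := hp.odd_of_ne_two hp2
    have heven : Even (q ^ b) := by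
      rw [← hb, hθn]
      obtain ⟨c, hc⟩ := hodd
      exact ⟨c, by omega⟩
    have h2 : 2 ∣ q := Nat.Prime.dvd_of_dvd_pow Nat.prime_two (even_iff_two_dvd.1 heven)
    exact ((Nat.prime_dvd_prime_iff_eq Nat.prime_two hq).1 h2).symm
  refine ⟨hnp', ⟨b, by rw [← hθn, hb, hq2]⟩, ?_⟩
  -- irreducibility
  obtain ⟨M, hM, hMi⟩ := IsCharacter.exists_mult hχ
  have hres : (fun u : Q => χ u)
      = ∑ ξ : IrrCharacter G, (M ξ : ℂ) • (fun u : Q => (ξ : G → ℂ) u) := by
    funext u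
    have h1 := congrFun hM (u : G)
    simp only [Finset.sum_apply, Pi.smul_apply, nsmul_eq_mul] at h1
    simp only [Finset.sum_apply, Pi.smul_apply, smul_eq_mul]
    exact h1
  have hex2 : ∃ ξ₀ : IrrCharacter G, M ξ₀ ≠ 0 ∧
      classInner (fun u : Q => (ξ₀ : G → ℂ) u) (θ : Q → ℂ) ≠ 0 := by
    by_contra hno
    push Not at hno
    apply hcθ
    rw [hres, classInner_sum_left]
    apply Finset.sum_eq_zero
    intro ξ _
    rw [classInner_smul_left]
    by_cases hξ : M ξ = 0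
    · simp [hξ]
    · rw [hno ξ hξ, mul_zero]
  obtain ⟨ξ₀, hMξ, hξθ⟩ := hex2
  have h1 : charDegree (θ : Q → ℂ) ≤ charDegree (ξ₀ : G → ℂ) := by
    have h2 := IsCharacter.charDegree_le
      (IsCharacter.restrict Q (IsIrrCharacter.isCharacter ξ₀.2)) θ.2 hξθ
    have h3 : charDegree (fun u : Q => (ξ₀ : G → ℂ) u) = charDegree (ξ₀ : G → ℂ) := by
      unfold charDegree; rfl
    rw [h3] at h2
    exact h2
  have hcξ : classInner χ (ξ₀ : G → ℂ) ≠ 0 := by rw [hMi]; exact_mod_cast hMξ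
  have h2 : charDegree (ξ₀ : G → ℂ) ≤ charDegree χ := IsCharacter.charDegree_le hχ ξ₀.2 hcξ
  have h3 : charDegree (ξ₀ : G → ℂ) = charDegree χ := by omega
  have h4 : χ = (ξ₀ : G → ℂ) := by
    apply IsCharacter.eq_of_constituent_of_apply_one_eq hχ ξ₀.2 hcξ
    rw [IsCharacter.apply_one_eq_charDegree hχ,
      IsCharacter.apply_one_eq_charDegree (IsIrrCharacter.isCharacter ξ₀.2), h3]
  rw [h4]
  exact ξ₀.2

end Cfsg.Agent.Lib.Helper3.XT
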