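import Mathlib
import Cfsg.Agent.Lib.Helper3.XT2
import Cfsg.Agent.Lib.Helper6.CliffordStab
import Cfsg.Agent.Lib.Helper6.Ito
import Cfsg.Agent.Lib.Helper6.ClassFun
import Cfsg.Agent.Lib.Helper7.SpeSolv

set_option autoImplicit false

namespace Cfsg.Agent.Lib.Helper3.XT

open Cfsg Cfsg.Agent.Lib.Helper6 Cfsg.Agent.Lib.Helper7 Module
open scoped ComplexConjugate

/-- the arithmetic behind the choice of the stabiliser -/
theorem numeric_aux (p f a s c : ℕ) (hp : p.Prime) (hf : 1 ≤ f) (hs1 : 1 ≤ s) (hsa : s ≤ a)
    (hsp : ∃ k : ℕ, s = p ^ k)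
    (hc : c = 1 ∨ (c = 2 ∧ p = 2 ∧ 4 ≤ a)) (hpa : p ≤ a)
    (h : f ^ 2 * a ≤ c * s ^ 2) : 2 ≤ s ∧ (f = 1 ∨ f + 2 ≤ s) := by
  have hp2 : 2 ≤ p := hp.two_le
  rcases hc with rfl | ⟨rfl, rfl, ha4⟩
  · -- c = 1
    have h1 : f ^ 2 ≤ s := by
      have h2 : f ^ 2 * a ≤ s * a := by nlinarith
      exact Nat.le_of_mul_le_mul_right h2 (by omega)
    constructor
    · by_contra hs
      have : s = 1 := by omega
      subst this
      nlinarith
    · by_cases hf1 : f = 1
      · left; exact hf1
      · right
        have : 2 ≤ f := by omega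
        nlinarith
  · -- c = 2, p = 2
    obtain ⟨k, rfl⟩ := hsp
    have h1 : f ^ 2 ≤ 2 * 2 ^ k := by
      have h2 : f ^ 2 * a ≤ (2 * 2 ^ k) * a := by nlinarith
      exact Nat.le_of_mul_le_mul_right h2 (by omega)
    have hk1 : 1 ≤ k := by
      by_contra hk
      have : k = 0 := by omega
      subst this
      simp at h
      nlinarith
    constructor
    · calc 2 = 2 ^ 1 := by norm_num
        _ ≤ 2 ^ k := Nat.pow_le_pow_right (by norm_num) hk1
    · by_cases hf1 : f = 1
      · left; exact hf1
      · right
        have hf2 : 2 ≤ f := by omega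
        by_cases hk2 : k = 1
        · subst hk2
          exfalso
          norm_num at h
          nlinarith
        · have hk2' : 2 ≤ k := by omega
          have h4 : 4 ≤ 2 ^ k := by
            calc 4 = 2 ^ 2 := by norm_num
              _ ≤ 2 ^ k := Nat.pow_le_pow_right (by norm_num) hk2'
          by_cases hf3 : f ≤ 2
          · omega
          · by_cases hf4 : f ≤ 3
            · have : f = 3 := by omega
              subst this
              by_contra hcon
              have : 2 ^ k = 4 := by omega
              rw [this] at h1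
              omega
            · have : 4 ≤ f := by omega
              nlinarith

end Cfsg.Agent.Lib.Helper3.XT
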