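import Mathlib
import Cfsg.Agent.Lib.Helper3.XT3
import Cfsg.Agent.Lib.Helper6.Multiplicity
import Cfsg.Agent.Lib.Helper7.UniqueOrderP2

set_option autoImplicit false

namespace Cfsg.Agent.Lib.Helper3.XT

open Cfsg Cfsg.Agent.Lib.Helper6 Cfsg.Agent.Lib.Helper7 Module
open scoped ComplexConjugate

/-- Lemma B: in `Γ ⊇ H ⋊ A` with `A` a cyclic `p`-group acting "TI-like" on the `p'`-group `H`,
an irreducible character of small degree has the commutators `[h, z]` in its kernel. -/
theorem lemma_B {Γ : Type*} [Group Γ] [Fintype Γ] (H A : Subgroup Γ) (hH : H.Normal)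
    (p : ℕ) [Fact p.Prime]
    (hcop : (Nat.card H).Coprime (Nat.card A)) (hA : IsPGroup p A) (hcyc : IsCyclic A)
    (hfpf : ∀ x ∈ A, x ≠ 1 → H ⊓ Subgroup.centralizer ({x} : Set Γ)
      ≤ Subgroup.centralizer (A : Set Γ))
    (z : Γ) (hz : z ∈ A) (hz1 : z ≠ 1) (hzp : z ^ p = 1)
    {ξ : Γ → ℂ} (hξ : IsIrrCharacter Γ ξ) (c : ℕ)
    (hc : c = 1 ∨ (c = 2 ∧ p = 2 ∧ 4 ≤ Nat.card A))
    (hnum : charDegree ξ ^ 2 ≤ c * Nat.card A) :
    ∀ h ∈ H, ξ (h * z * h⁻¹ * z⁻¹) = ξ 1 := by
  classical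
  have hp : p.Prime := Fact.out
  have : Fintype H := Fintype.ofFinite _
  have : Fintype (IrrCharacter H) := Fintype.ofFinite _
  have hξH : IsCharacter H (fun n : H => ξ n) :=
    IsCharacter.restrict H (IsIrrCharacter.isCharacter hξ)
  obtain ⟨m, hm, hmi⟩ := IsCharacter.exists_mult hξH
  -- key claim
  have key : ∀ ψ : IrrCharacter H, m ψ ≠ 0 → ∀ h : H, ∀ w : H,
      (w : Γ) = h * z * (h : Γ)⁻¹ * z⁻¹ → (ψ : H → ℂ) w = (ψ : H → ℂ) 1 := by
    intro ψ hmψ
    have hcon : classInner (fun n : H => ξ n) (ψ : H → ℂ) ≠ 0 := by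
      rw [hmi]; exact_mod_cast hmψ
    set T := inertia H hH (ψ : H → ℂ) with hT
    have hHT : H ≤ T := le_inertia H hH (IsIrrCharacter.isClassFunction ψ.2)
    have : Fintype T := Fintype.ofFinite _
    obtain ⟨ψ', hψ'c, hψ'i⟩ :=
      exists_indFun_eq_of_stab H hH T hHT ψ (fun g hg => hg) ⟨ξ, hξ⟩ hcon
    simp only at hψ'i
    -- degrees
    have hdegξ : charDegree ξ = T.index * charDegree (ψ' : T → ℂ) := by
      have h1 : ξ 1 = (T.index : ℂ) * (ψ' : T → ℂ) 1 := by
        rw [← hψ'i, indFun_one]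
      rw [IsCharacter.apply_one_eq_charDegree (IsIrrCharacter.isCharacter hξ),
        IsCharacter.apply_one_eq_charDegree (IsIrrCharacter.isCharacter ψ'.2)] at h1
      exact_mod_cast h1
    have hresc : IsCharacter H (fun n : H => (ψ' : T → ℂ) ⟨n, hHT n.2⟩) :=
      IsCharacter.comp (Subgroup.inclusion hHT) (IsIrrCharacter.isCharacter ψ'.2)
    have hdegψ : charDegree (ψ : H → ℂ) ≤ charDegree (ψ' : T → ℂ) := by
      have h1 := IsCharacter.charDegree_le hresc ψ.2 hψ'c
      have h2 : charDegree (fun n : H => (ψ' : T → ℂ) ⟨n, hHT n.2⟩)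
          = charDegree (ψ' : T → ℂ) := by
        unfold charDegree
        rfl
      rw [h2] at h1
      exact h1
    set S : Subgroup Γ := A ⊓ T with hS
    have hSA : S ≤ A := inf_le_left
    have hST : S ≤ T := inf_le_right
    set j := S.relIndex A with hj
    have hjcard : Nat.card S * j = Nat.card A := by
      have := Subgroup.relIndex_mul_relIndex ⊥ S A bot_le hSA
      rwa [Subgroup.relIndex_bot_left, Subgroup.relIndex_bot_left] at this
    have hjt : j ≤ T.index := by
      rw [hj, hS, Subgroup.inf_relIndex_left, ← Subgroup.relIndex_top_right T]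
      apply Subgroup.relIndex_le_of_le_right le_top
      rw [Subgroup.relIndex_top_right]
      exact Subgroup.index_ne_zero_of_finite
    have hApos : 0 < Nat.card A := Nat.card_pos
    have hjpos : 0 < j := by
      rcases Nat.eq_zero_or_pos j with h0 | h0
      · rw [h0, mul_zero] at hjcard; omega
      · exact h0
    have hzord : orderOf z = p := orderOf_eq_prime_of_pow_eq_one hzp hz1
    have hpa : p ≤ Nat.card A := by
      apply Nat.le_of_dvd hApos
      rw [← hzord]
      exact Subgroup.orderOf_dvd_natCard A hz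
    have hSp : IsPGroup p S := hA.to_le hSA
    obtain ⟨hs2, hnumS⟩ := numeric_aux p (charDegree (ψ : H → ℂ)) (Nat.card A) (Nat.card S) c hp
      (IsIrrCharacter.charDegree_pos ψ.2) Nat.card_pos (Subgroup.card_le_of_le hSA)
      (IsPGroup.iff_card.1 hSp) hc hpa (by
        set f := charDegree (ψ : H → ℂ)
        set f' := charDegree (ψ' : T → ℂ)
        set s := Nat.card S
        set t := T.index
        have h1 : j * f ≤ t * f' := Nat.mul_le_mul hjt hdegψ
        have h2 : (j * f) ^ 2 ≤ c * (s * j) := by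
          refine le_trans (Nat.pow_le_pow_left h1 2) ?_
          rw [← hdegξ, hjcard]; exact hnum
        have h3 : j * (j * f ^ 2) ≤ j * (c * s) := by
          calc j * (j * f ^ 2) = (j * f) ^ 2 := by ring
            _ ≤ c * (s * j) := h2
            _ = j * (c * s) := by ring
        have h4 : j * f ^ 2 ≤ c * s := Nat.le_of_mul_le_mul_left h3 hjpos
        calc f ^ 2 * Nat.card A = s * (j * f ^ 2) := by rw [← hjcard]; ring
          _ ≤ s * (c * s) := Nat.mul_le_mul_left _ h4
          _ = c * s ^ 2 := by ring)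
    have hS1 : S ≠ ⊥ := by
      intro h
      rw [h, Subgroup.card_bot] at hs2
      omega
    have hzS : z ∈ S := by
      obtain ⟨x, hxS, hx1, hxp⟩ := exists_ne_one_pow_eq_one hSp hS1
      have hu : UniqueOrderP p ↥A := uniqueOrderP_of_isCyclic p
      have h1 := hu ⟨x, hSA hxS⟩ ⟨z, hz⟩ (Subtype.ext (by simpa using hxp))
        (Subtype.ext (by simpa using hzp)) (fun h => hx1 (by simpa using congrArg Subtype.val h))
      obtain ⟨k, hk⟩ := Subgroup.mem_zpowers_iff.1 h1
      have hk' : x ^ k = z := by simpa using congrArg Subtype.val hk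
      rw [← hk']
      exact S.zpow_mem hxS k
    have hcycS : IsCyclic S := Subgroup.isCyclic_of_le hSA
    refine core_ambient H S ?_ ?_ hcycS ?_ ψ.2 ?_ hnumS z hzS
    · rw [Subgroup.normalizer_eq_top_iff.2 hH]; exact le_top
    · exact Nat.Coprime.coprime_dvd_right (Subgroup.card_dvd_of_le hSA) hcop
    · intro x hx hx1
      exact le_trans (hfpf x (hSA hx) hx1) (Subgroup.centralizer_le hSA)
    · intro s hs h h' hh'
      have h1 : conjFun H hH (ψ : H → ℂ) s = (ψ : H → ℂ) := (mem_inertia H hH _ s).1 (hST hs)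
      have h2 := congrFun h1 h
      rw [conjFun_apply] at h2
      rw [← h2]
      have h3 : h' = ⟨s * (h : Γ) * s⁻¹, hH.conj_mem h h.2 s⟩ := Subtype.ext hh'
      rw [h3]
  intro h hh
  have hw : h * z * h⁻¹ * z⁻¹ ∈ H := by
    have h1 : z * h⁻¹ * z⁻¹ ∈ H := hH.conj_mem _ (H.inv_mem hh) z
    have h2 := H.mul_mem hh h1
    simpa [mul_assoc] using h2
  have e1 := congrFun hm ⟨_, hw⟩
  have e2 := congrFun hm 1
  simp only [Finset.sum_apply, Pi.smul_apply] at e1 e2
  have e3 : ξ (h * z * h⁻¹ * z⁻¹) = ξ 1 := by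
    change ξ ((⟨_, hw⟩ : H) : Γ) = ξ ((1 : H) : Γ)
    rw [e1, e2]
    apply Finset.sum_congr rfl
    intro ψ _
    by_cases hψ : m ψ = 0
    · simp [hψ]
    · rw [key ψ hψ ⟨h, hh⟩ ⟨_, hw⟩ rfl]
  exact e3

end Cfsg.Agent.Lib.Helper3.XT
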