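import Mathlib
import Cfsg.Agent.Lib.Helper3.XT4
import Cfsg.Agent.Lib.Helper7.SylowIn
import Cfsg.Agent.Lib.Helper7.PCoreSub
import Cfsg.Agent.Lib.Helper7.CharP
import Cfsg.Prelude.Def_SylowChains

set_option autoImplicit false

namespace Cfsg.Agent.Lib.Helper3.XT

open Cfsg Cfsg.Agent.Lib.Helper6 Cfsg.Agent.Lib.Helper7
open scoped Pointwise

variable {G : Type*} [Group G] [Finite G]

/-- a TI Sylow subgroup that is not normal: the Sylow subgroups are not chain-connected -/
theorem not_chainConnected_of_TI (p : ℕ) [Fact p.Prime] (P : Sylow p G)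
    (hTI : ∀ g : G, g ∉ Subgroup.normalizer ((P : Subgroup G) : Set G) →
      (P : Subgroup G) ⊓ (MulAut.conj g • (P : Subgroup G)) = ⊥)
    (hn : ¬ (P : Subgroup G).Normal) : ¬ IsSylowChainConnected p G := by
  intro hconn
  -- some g outside the normalizer
  have hex : ∃ g : G, g ∉ Subgroup.normalizer ((P : Subgroup G) : Set G) := by
    by_contra h
    push Not at h
    apply hn
    apply Subgroup.normalizer_eq_top_iff.1
    exact eq_top_iff.2 (fun g _ => h g)
  obtain ⟨g, hg⟩ := hex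
  have hne : g • P ≠ P := fun h => hg (Sylow.smul_eq_iff_mem_normalizer.1 h)
  obtain ⟨n, c, hc0, hcn, _, hstep⟩ := hconn P (g • P)
  rcases Nat.eq_zero_or_pos n with h0 | hpos
  · subst h0
    apply hne
    rw [← hcn, ← hc0]
    rfl
  · obtain ⟨k, rfl⟩ : ∃ k, n = k + 1 := ⟨n - 1, by omega⟩
    obtain ⟨h1, h2⟩ := hstep 0
    have e0 : c (0 : Fin (k + 1)).castSucc = P := by
      rw [← hc0]; rfl
    rw [e0] at h1 h2
    obtain ⟨x, hx⟩ := MulAction.exists_smul_eq G P (c (0 : Fin (k + 1)).succ)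
    rw [← hx] at h1 h2
    have hxn : x ∉ Subgroup.normalizer ((P : Subgroup G) : Set G) := by
      intro h
      exact h1 (Sylow.smul_eq_iff_mem_normalizer.2 h).symm
    apply h2
    rw [Sylow.coe_subgroup_smul]
    exact hTI x hxn

/-- the structure of a cyclic or generalized quaternion Sylow subgroup -/
theorem exists_cyclic_index (p : ℕ) [Fact p.Prime] (P : Subgroup G) (hP : IsPGroup p P)
    (h : IsCyclic ↥P ∨ (p = 2 ∧ ∃ n : ℕ, Nonempty (↥P ≃* QuaternionGroup (2 ^ n)))) :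
    UniqueOrderP p ↥P ∧ ∃ A : Subgroup G, A ≤ P ∧ IsCyclic A ∧ ∃ c : ℕ,
      (c = 1 ∨ (c = 2 ∧ p = 2 ∧ 4 ≤ Nat.card A)) ∧ Nat.card P = c * Nat.card A := by
  have hcyc : IsCyclic ↥P → UniqueOrderP p ↥P ∧ ∃ A : Subgroup G, A ≤ P ∧ IsCyclic A ∧ ∃ c : ℕ,
      (c = 1 ∨ (c = 2 ∧ p = 2 ∧ 4 ≤ Nat.card A)) ∧ Nat.card P = c * Nat.card A := by
    intro hc
    exact ⟨uniqueOrderP_of_isCyclic p, P, le_rfl, hc, 1, Or.inl rfl, by simp⟩
  rcases h with hc | ⟨hp2, n, ⟨e⟩⟩
  · exact hcyc hc
  · rcases Nat.eq_zero_or_pos n with h0 | hpos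
    · subst h0
      apply hcyc
      have : IsCyclic (QuaternionGroup (2 ^ 0)) := by
        rw [pow_zero]; exact QuaternionGroup.quaternionGroup_one_isCyclic
      exact e.isCyclic.2 this
    · refine ⟨uniqueOrderP_of_equiv_quaternion hP e, ?_⟩
      set a₀ : ↥P := e.symm (QuaternionGroup.a 1) with ha₀
      have hord : orderOf a₀ = 2 * 2 ^ n := by
        rw [ha₀, MulEquiv.orderOf_eq, QuaternionGroup.orderOf_a_one]
      refine ⟨Subgroup.zpowers (a₀ : G), ?_, ?_, 2, ?_, ?_⟩
      · rw [Subgroup.zpowers_le]; exact a₀.2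
      · infer_instance
      · right
        refine ⟨rfl, hp2, ?_⟩
        rw [Nat.card_zpowers, Subgroup.orderOf_coe, hord]
        have : 2 ≤ 2 ^ n := by
          calc 2 = 2 ^ 1 := by norm_num
            _ ≤ 2 ^ n := Nat.pow_le_pow_right (by norm_num) hpos
        omega
      · rw [Nat.card_zpowers, Subgroup.orderOf_coe, hord, Nat.card_congr e.toEquiv,
          Nat.card_eq_fintype_card, QuaternionGroup.card]
        ring

/-- the TI condition gives the "fixed-point-free-like" hypothesis of Lemma B -/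
theorem fpf_of_TI (p : ℕ) [Fact p.Prime] (P : Sylow p G)
    (hTI : ∀ g : G, g ∉ Subgroup.normalizer ((P : Subgroup G) : Set G) →
      (P : Subgroup G) ⊓ (MulAut.conj g • (P : Subgroup G)) = ⊥)
    (H : Subgroup G) (hH : H.Normal) (hcop : (Nat.card H).Coprime p)
    (A : Subgroup G) (hAP : A ≤ P) :
    ∀ x ∈ A, x ≠ 1 → H ⊓ Subgroup.centralizer ({x} : Set G)
      ≤ Subgroup.centralizer (A : Set G) := by
  intro x hxA hx1 c hc
  obtain ⟨hcH, hcx⟩ := Subgroup.mem_inf.1 hc
  have hcx' : c * x = x * c := by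
    have := Subgroup.mem_centralizer_iff.1 hcx x (Set.mem_singleton x)
    exact this.symm
  have hcN : c ∈ Subgroup.normalizer ((P : Subgroup G) : Set G) := by
    by_contra hcN
    have h1 := hTI c hcN
    have h2 : x ∈ (P : Subgroup G) ⊓ (MulAut.conj c • (P : Subgroup G)) := by
      refine Subgroup.mem_inf.2 ⟨hAP hxA, ?_⟩
      rw [Subgroup.mem_pointwise_smul_iff_inv_smul_mem]
      have : (MulAut.conj c)⁻¹ • x = x := by
        rw [MulAut.smul_def, ← map_inv, MulAut.conj_apply]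
        rw [inv_inv]
        calc c⁻¹ * x * c = c⁻¹ * (x * c) := by group
          _ = c⁻¹ * (c * x) := by rw [hcx']
          _ = x := by group
      rw [this]
      exact hAP hxA
    rw [h1, Subgroup.mem_bot] at h2
    exact hx1 h2
  rw [Subgroup.mem_centralizer_iff]
  intro a ha
  have haP : a ∈ (P : Subgroup G) := hAP ha
  -- the commutator lies in P ⊓ H = ⊥
  have h1 : c * a * c⁻¹ * a⁻¹ ∈ (P : Subgroup G) := by
    have := (Subgroup.mem_normalizer_iff.1 hcN a).1 haP
    exact (P : Subgroup G).mul_mem this ((P : Subgroup G).inv_mem haP)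
  have h2 : c * a * c⁻¹ * a⁻¹ ∈ H := by
    have h3 : a * c⁻¹ * a⁻¹ ∈ H := hH.conj_mem _ (H.inv_mem hcH) a
    have := H.mul_mem hcH h3
    simpa [mul_assoc] using this
  have h3 : c * a * c⁻¹ * a⁻¹ = 1 :=
    eq_one_of_mem_isPGroup_of_coprime P.isPGroup' h1
      (Nat.Coprime.coprime_dvd_left (Subgroup.orderOf_dvd_natCard H h2) hcop)
  calc a * c = (c * a * c⁻¹ * a⁻¹)⁻¹ * (c * a) := by group
    _ = c * a := by rw [h3]; simp

theorem mem_normalizer_inf' {X Y : Subgroup G} {u : G}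
    (hX : u ∈ Subgroup.normalizer (X : Set G)) (hY : u ∈ Subgroup.normalizer (Y : Set G)) :
    u ∈ Subgroup.normalizer ((X ⊓ Y : Subgroup G) : Set G) := by
  rw [Subgroup.mem_normalizer_iff] at *
  intro n
  rw [Subgroup.mem_inf, Subgroup.mem_inf, hX n, hY n]

/-- with `O_p(G) = 1`, an element of `P ∩ K` acts nontrivially on `H` -/
theorem exists_comm_ne_one (p : ℕ) [Fact p.Prime] (P : Sylow p G) (hcore : pCore p G = ⊥)
    (H K : Subgroup G) (hH : H.Normal) (hK : K.Normal) (hHK : H ≤ K) (m : ℕ)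
    (hidx : H.relIndex K = p ^ m)
    (z : G) (hzP : z ∈ (P : Subgroup G)) (hzK : z ∈ K) (hz1 : z ≠ 1) :
    ∃ h ∈ H, h * z * h⁻¹ * z⁻¹ ≠ 1 := by
  by_contra hno
  push Not at hno
  have hzc : z ∈ Subgroup.centralizer (H : Set G) := by
    rw [Subgroup.mem_centralizer_iff]
    intro h hh
    have h1 := hno h hh
    calc h * z = (h * z * h⁻¹ * z⁻¹) * (z * h) := by group
      _ = z * h := by rw [h1, one_mul]
  set R : Subgroup G := ((P : Subgroup G) ⊓ K) ⊓ Subgroup.centralizer (H : Set G) with hR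
  have hzR : z ∈ R := Subgroup.mem_inf.2 ⟨Subgroup.mem_inf.2 ⟨hzP, hzK⟩, hzc⟩
  have hRK : R ≤ K := fun r hr => (Subgroup.mem_inf.1 (Subgroup.mem_inf.1 hr).1).2
  have hRp : IsPGroup p R := P.isPGroup'.to_le (le_trans inf_le_left inf_le_left)
  -- K = H (K ∩ P)
  have hKsup : K ≤ H ⊔ (K ⊓ (P : Subgroup G)) := by
    apply le_sup_inf_sylowIn (R := ⊤) (isSylowIn_of_sylow P le_top) le_top
    · rw [Subgroup.normalizer_eq_top_iff.2 hK]
    · exact hHK
    · rw [Subgroup.normalizer_eq_top_iff.2 hH]; exact le_top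
    · intro d hd
      refine ⟨m, ?_⟩
      have : (H.subgroupOf K).Normal := hH.subgroupOf K
      have h1 := Subgroup.pow_index_mem (H.subgroupOf K) ⟨d, hd⟩
      rw [Subgroup.mem_subgroupOf] at h1
      have h2 : (H.subgroupOf K).index = p ^ m := hidx
      rw [h2] at h1
      simpa using h1
  have hKN : K ≤ Subgroup.normalizer (R : Set G) := by
    refine le_trans hKsup (sup_le ?_ ?_)
    · refine le_trans ?_ (Subgroup.centralizer_le_normalizer _)
      rw [Subgroup.le_centralizer_iff]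
      exact inf_le_right
    · intro u hu
      have hu' : u ∈ (P : Subgroup G) ⊓ K := Subgroup.mem_inf.2 ⟨(Subgroup.mem_inf.1 hu).2,
        (Subgroup.mem_inf.1 hu).1⟩
      apply mem_normalizer_inf' (Subgroup.le_normalizer hu')
      have : (Subgroup.centralizer (H : Set G)).Normal := Subgroup.normal_centralizer
      rw [Subgroup.normalizer_eq_top_iff.2 this]
      exact Subgroup.mem_top u
  have h1 : R ≤ pCoreIn p K := le_pCoreIn hRK hRp hKN
  have h2 : (pCoreIn p K).Normal := by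
    apply Subgroup.normalizer_eq_top_iff.1
    apply eq_top_iff.2
    refine le_trans ?_ (normalizer_le_normalizer_pCoreIn p K)
    rw [Subgroup.normalizer_eq_top_iff.2 hK]
  have h3 : pCoreIn p K ≤ pCore p G := le_pCore h2 (pCoreIn_isPGroup p K)
  rw [hcore] at h3
  have h4 := h3 (h1 hzR)
  rw [Subgroup.mem_bot] at h4
  exact hz1 h4

end Cfsg.Agent.Lib.Helper3.XT
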