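import Mathlib
import Cfsg.Agent.Lib.Helper3.XT5
import Cfsg.Agent.S3057

set_option autoImplicit false

namespace Cfsg.Agent.Lib.Helper3.XT

open Cfsg Cfsg.Agent.Lib.Helper6 Cfsg.Agent.Lib.Helper7
open scoped Pointwise

/-- p-solvable group with a TI Sylow `p`-subgroup and a faithful character of degree `d` with
`d² ≤ |P|`: `P` is normal -/
theorem main_TI {G : Type*} [Group G] [Finite G] (p : ℕ) [Fact p.Prime]
    (hsolv : IsPSolvable p G) (P : Sylow p G)
    (hTI : ∀ g : G, g ∉ Subgroup.normalizer ((P : Subgroup G) : Set G) →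
      (P : Subgroup G) ⊓ (MulAut.conj g • (P : Subgroup G)) = ⊥)
    (χ : G → ℂ) (hχ : IsCharacter G χ) (hfaith : ∀ g : G, χ g = χ 1 → g = 1)
    (hdeg : charDegree χ ^ 2 ≤ Nat.card ↥(P : Subgroup G)) : (P : Subgroup G).Normal := by
  classical
  by_contra hn
  have hp : p.Prime := Fact.out
  have hPp : IsPGroup p (P : Subgroup G) := P.isPGroup'
  have hP1 : (P : Subgroup G) ≠ ⊥ := by
    intro h; apply hn; rw [h]; exact Subgroup.normal_bot
  have hdiv : p ∣ Nat.card G := by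
    obtain ⟨k, hk⟩ := IsPGroup.iff_card.1 hPp
    have hk0 : k ≠ 0 := by
      intro h0; rw [h0, pow_zero] at hk; exact hP1 (Subgroup.card_eq_one.1 hk)
    have h1 : p ∣ Nat.card (P : Subgroup G) := by rw [hk]; exact dvd_pow_self p hk0
    exact dvd_trans h1 (Subgroup.card_subgroup_dvd_card _)
  have hnc := not_chainConnected_of_TI p P hTI hn
  obtain ⟨hcore, hstruct⟩ := (Cfsg.Agent.S3057.result p hdiv hsolv P).1 hnc
  obtain ⟨hu, A, hAP, hAcyc, c, hc, hcard⟩ :=
    exists_cyclic_index p (P : Subgroup G) hPp hstruct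
  obtain ⟨H, K, hH, hK, hHK, hcop, m, hm, hidx⟩ := exists_pLayer_of_isPSolvable hsolv hdiv
  -- P ⊓ K ≠ ⊥
  have hPK1 : (P : Subgroup G) ⊓ K ≠ ⊥ := by
    intro hbot
    have hsyl : IsSylowIn p ((P : Subgroup G) ⊓ K) K :=
      (isSylowIn_of_sylow P le_top).inf_normal le_top
        (by rw [Subgroup.normalizer_eq_top_iff.2 hK])
    obtain ⟨_, _, hnd⟩ := hsyl
    apply hnd
    rw [hbot, Subgroup.relIndex_bot_left]
    have h1 := Subgroup.relIndex_mul_relIndex ⊥ H K bot_le hHK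
    rw [Subgroup.relIndex_bot_left, Subgroup.relIndex_bot_left, hidx] at h1
    rw [← h1]
    exact Dvd.dvd.mul_left (dvd_pow_self p (by omega)) _
  obtain ⟨z, hzPK, hz1, hzp⟩ := exists_ne_one_pow_eq_one (hPp.to_le inf_le_left) hPK1
  obtain ⟨hzP, hzK⟩ := Subgroup.mem_inf.1 hzPK
  have hA1 : A ≠ ⊥ := by
    intro h
    rw [h, Subgroup.card_bot] at hcard hc
    rcases hc with rfl | ⟨_, _, h4⟩
    · rw [mul_one] at hcard; exact hP1 (Subgroup.card_eq_one.1 hcard)
    · omega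
  have hAp : IsPGroup p A := hPp.to_le hAP
  have hzA : z ∈ A := by
    obtain ⟨x, hxA, hx1, hxp⟩ := exists_ne_one_pow_eq_one hAp hA1
    have h1 := hu ⟨x, hAP hxA⟩ ⟨z, hzP⟩ (Subtype.ext (by simpa using hxp))
      (Subtype.ext (by simpa using hzp)) (fun h => hx1 (by simpa using congrArg Subtype.val h))
    obtain ⟨k, hk⟩ := Subgroup.mem_zpowers_iff.1 h1
    have hk' : x ^ k = z := by simpa using congrArg Subtype.val hk
    rw [← hk']
    exact A.zpow_mem hxA k
  obtain ⟨h₀, hh₀, hw⟩ := exists_comm_ne_one p P hcore H K hH hK hHK m hidx z hzP hzK hz1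
  have hfpf := fpf_of_TI p P hTI H hH hcop A hAP
  -- pass to L = H ⊔ A
  set L : Subgroup G := H ⊔ A with hL
  have hHL : H ≤ L := le_sup_left
  have hAL : A ≤ L := le_sup_right
  have : Fintype L := Fintype.ofFinite _
  have : Fintype (IrrCharacter L) := Fintype.ofFinite _
  have hχL : IsCharacter L (fun g : L => χ g) := IsCharacter.restrict L hχ
  have hwL : h₀ * z * h₀⁻¹ * z⁻¹ ∈ L :=
    L.mul_mem (L.mul_mem (L.mul_mem (hHL hh₀) (hAL hzA)) (L.inv_mem (hHL hh₀)))
      (L.inv_mem (hAL hzA))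
  obtain ⟨μ, hμ, hμi⟩ := IsCharacter.exists_mult hχL
  have hex : ∃ ξ : IrrCharacter L, μ ξ ≠ 0 ∧
      (ξ : L → ℂ) ⟨_, hwL⟩ ≠ (ξ : L → ℂ) 1 := by
    by_contra hno
    push Not at hno
    apply hw
    apply hfaith
    have e1 := congrFun hμ ⟨_, hwL⟩
    have e2 := congrFun hμ 1
    simp only [Finset.sum_apply, Pi.smul_apply] at e1 e2
    change χ ((⟨_, hwL⟩ : L) : G) = χ ((1 : L) : G)
    rw [e1, e2]
    apply Finset.sum_congr rfl
    intro ξ _
    by_cases hξ : μ ξ = 0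
    · simp [hξ]
    · rw [hno ξ hξ]
  obtain ⟨ξ, hμξ, hξw⟩ := hex
  apply hξw
  have hdegξ : charDegree (ξ : L → ℂ) ≤ charDegree χ := by
    have h1 := IsCharacter.charDegree_le hχL ξ.2 (by rw [hμi]; exact_mod_cast hμξ)
    have h2 : charDegree (fun g : L => χ g) = charDegree χ := by
      unfold charDegree
      rfl
    rw [h2] at h1
    exact h1
  have hcardH : Nat.card (H.subgroupOf L) = Nat.card H :=
    Nat.card_congr (Subgroup.subgroupOfEquivOfLe hHL).toEquiv
  have hcardA : Nat.card (A.subgroupOf L) = Nat.card A :=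
    Nat.card_congr (Subgroup.subgroupOfEquivOfLe hAL).toEquiv
  have hcopHA : (Nat.card H).Coprime (Nat.card A) := by
    obtain ⟨k, hk⟩ := IsPGroup.iff_card.1 hAp
    rw [hk]
    exact Nat.Coprime.pow_right k hcop
  have key := lemma_B (H.subgroupOf L) (A.subgroupOf L) (hH.subgroupOf L) p
    (by rw [hcardH, hcardA]; exact hcopHA) hAp.comap_subtype
    ((Subgroup.subgroupOfEquivOfLe hAL).symm.isCyclic.1 hAcyc)
    ?_ ⟨z, hAL hzA⟩ (Subgroup.mem_subgroupOf.2 hzA)
    (fun h => hz1 (by simpa using congrArg Subtype.val h))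
    (Subtype.ext (by simpa using hzp)) ξ.2 c
    (by rw [hcardA]; exact hc)
    (by
      rw [hcardA, ← hcard]
      exact le_trans (Nat.pow_le_pow_left hdegξ 2) hdeg)
    ⟨h₀, hHL hh₀⟩ (Subgroup.mem_subgroupOf.2 hh₀)
  · exact key
  · intro x hx hx1 g hg
    obtain ⟨hgH, hgc⟩ := Subgroup.mem_inf.1 hg
    rw [Subgroup.mem_subgroupOf] at hx hgH
    have hx1' : (x : G) ≠ 1 := fun h => hx1 (Subtype.ext h)
    have h1 : (g : G) ∈ H ⊓ Subgroup.centralizer ({(x : G)} : Set G) := by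
      refine Subgroup.mem_inf.2 ⟨hgH, ?_⟩
      rw [Subgroup.mem_centralizer_iff]
      intro y hy
      rw [Set.mem_singleton_iff] at hy
      subst hy
      have := Subgroup.mem_centralizer_iff.1 hgc x (Set.mem_singleton x)
      exact congrArg Subtype.val this
    have h2 := hfpf (x : G) hx hx1' h1
    rw [Subgroup.mem_centralizer_iff] at h2 ⊢
    intro a ha
    apply Subtype.ext
    exact h2 (a : G) (Subgroup.mem_subgroupOf.1 ha)

end Cfsg.Agent.Lib.Helper3.XT
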